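import Cfsg.Statements.S3376
import Cfsg.Agent.Lib.Solvable.Nilpotent


set_option autoImplicit false
open Cfsg

namespace Cfsg.Agent.S3376

open Equiv in
theorem cycleType_of_fpf {σ : Perm (Fin 9)} (h3 : σ ^ 3 = 1) (hfix : ∀ i, σ i ≠ i) :
    σ.cycleType = Multiset.replicate 3 3 := by
  haveI : Fact (Nat.Prime 3) := ⟨Nat.prime_three⟩
  have ho : orderOf σ = 3 := orderOf_eq_prime h3 (fun e => hfix 0 (by rw [e]; rfl))
  obtain ⟨n, hn⟩ := Perm.cycleType_prime_order (σ := σ) (by rw [ho]; exact Nat.prime_three)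
  have hs := Perm.sum_cycleType σ
  rw [hn, ho, Multiset.sum_replicate, smul_eq_mul,
    Finset.eq_univ_of_forall (fun i => Perm.mem_support.2 (hfix i)), Finset.card_univ, Fintype.card_fin] at hs
  rw [hn, ho, show n + 1 = 3 by omega]

open Equiv in
/-- A faithful action of degree nine with a central fixed point free element. -/
theorem main {G : Type*} [Group G] [Finite G] (hG : Nat.card G = 162) (U : Subgroup G) (hU : U.index = 9)
    (hcore : U.normalCore = ⊥) (z : G) (hz : ∀ g, g * z = z * g) (hz3 : z ^ 3 = 1) (hzU : z ∉ U) :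
    Nonempty (G ≃* Subgroup.centralizer ({Equiv.swap (0 : Fin 9) 1 * Equiv.swap 1 2 * Equiv.swap 3 4 * Equiv.swap 4 5 * Equiv.swap 6 7 * Equiv.swap 7 8} : Set (Equiv.Perm (Fin 9)))) := by
  classical
  set τ : Perm (Fin 9) := Equiv.swap (0 : Fin 9) 1 * Equiv.swap 1 2 * Equiv.swap 3 4 * Equiv.swap 4 5 * Equiv.swap 6 7 * Equiv.swap 7 8 with hτ
  have hτc : τ.cycleType = Multiset.replicate 3 3 := by
    refine cycleType_of_fpf (Equiv.ext ?_) ?_ <;> decide +revert
  let e : G ⧸ U ≃ Fin 9 := (Finite.equivFinOfCardEq hU)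
  let f : G →* Perm (Fin 9) := e.permCongrHom.toMonoidHom.comp (MulAction.toPermHom G (G ⧸ U))
  have hf : Function.Injective f := by
    rw [MonoidHom.coe_comp]
    refine e.permCongrHom.injective.comp ?_
    rw [← MonoidHom.ker_eq_bot_iff, ← Subgroup.normalCore_eq_ker]
    exact hcore
  have hσ : (f z).cycleType = τ.cycleType := by
    rw [hτc]
    refine cycleType_of_fpf (by rw [← map_pow, hz3, map_one]) fun i hi => hzU ?_
    obtain ⟨g, hg⟩ := QuotientGroup.mk_surjective (e.symm i)
    have h1 : z • (e.symm i) = e.symm i := e.injective (by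
      rw [Equiv.apply_symm_apply]; exact hi)
    rw [← hg] at h1
    have h2 : (z * g)⁻¹ * g ∈ U := QuotientGroup.eq.1 h1
    have h3 : (z * g)⁻¹ * g = z⁻¹ := by rw [← hz g]; group
    rw [h3] at h2
    exact U.inv_mem_iff.1 h2
  obtain ⟨π, hπ⟩ := isConj_iff.1 (Equiv.Perm.isConj_iff_cycleType_eq.2 hσ)
  let f' : G →* Subgroup.centralizer ({τ} : Set (Perm (Fin 9))) :=
    ((MulAut.conj π).toMonoidHom.comp f).codRestrict _ fun g => by
      rw [Subgroup.mem_centralizer_singleton_iff, ← hπ]
      show π * f g * π⁻¹ * (π * f z * π⁻¹) = π * f z * π⁻¹ * (π * f g * π⁻¹)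
      have : f g * f z = f z * f g := by rw [← map_mul, hz, map_mul]
      calc π * f g * π⁻¹ * (π * f z * π⁻¹) = π * (f g * f z) * π⁻¹ := by group
        _ = π * (f z * f g) * π⁻¹ := by rw [this]
        _ = _ := by group
  refine ⟨MulEquiv.ofBijective f' ((Nat.bijective_iff_injective_and_card f').2 ⟨?_, ?_⟩)⟩
  · intro a b h
    exact hf ((MulAut.conj π).injective (congrArg Subtype.val h))
  · rw [Equiv.Perm.nat_card_centralizer, hG, hτc]
    decide

/-- Let G be a group of order 162 = 3⁴·2 with Sylow 3-subgroup S and Sylow 2-subgroup T, having an elementary abelian normal subgroup J of order 27, such that Z = Z(S) has order 3, Z centralizes T, and C_S(T) ≠ S. Then G is isomorphic to the centralizer in Sym(9) of a product of three disjoint 3-cycles. -/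
theorem result {G : Type*} [Group G] [Finite G] (hG : Nat.card G = 162)
    (S : Sylow 3 G) (T : Sylow 2 G) (J : Subgroup G) [hJn : J.Normal] (hJcomm : IsMulCommutative J)
    (hJexp : ∀ a ∈ J, a ^ 3 = 1) (hJcard : Nat.card J = 27)
    (Z : Subgroup G) (hZ : Z = (S : Subgroup G) ⊓ Subgroup.centralizer ((S : Subgroup G) : Set G)) (hZcard : Nat.card Z = 3)
    (hZT : Z ≤ Subgroup.centralizer ((T : Subgroup G) : Set G))
    (hST : (S : Subgroup G) ⊓ Subgroup.centralizer ((T : Subgroup G) : Set G) ≠ S) :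
    Nonempty (G ≃* Subgroup.centralizer ({Equiv.swap (0 : Fin 9) 1 * Equiv.swap 1 2 * Equiv.swap 3 4 * Equiv.swap 4 5 * Equiv.swap 6 7 * Equiv.swap 7 8} : Set (Equiv.Perm (Fin 9)))) := by
  classical
  haveI : Fact (Nat.Prime 3) := ⟨Nat.prime_three⟩
  haveI : Fact (Nat.Prime 2) := ⟨Nat.prime_two⟩
  have hfac : Nat.card S = 81 ∧ Nat.card T = 2 := by
    rw [S.card_eq_multiplicity, T.card_eq_multiplicity, hG]
    rw [show (162 : ℕ) = 3 ^ 4 * 2 ^ 1 by norm_num,
      Nat.factorization_mul (by norm_num) (by norm_num), Nat.Prime.factorization_pow Nat.prime_three,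
      Nat.Prime.factorization_pow Nat.prime_two]
    constructor <;> simp
  obtain ⟨hScard, hTcard⟩ := hfac
  have hSidx : (S : Subgroup G).index = 2 := by
    have := (S : Subgroup G).index_mul_card; rw [hScard, hG] at this; omega
  have hSn : (S : Subgroup G).Normal := Subgroup.normal_of_index_eq_two hSidx
  obtain ⟨t, htT, ht1⟩ := ((T : Subgroup G).bot_or_exists_ne_one).resolve_left
    (fun h => by rw [h, Subgroup.card_bot] at hTcard; omega)
  have ht2 : t * t = 1 := by
    have := (T : Subgroup G).orderOf_dvd_natCard htT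
    rw [hTcard] at this
    rw [← pow_two, ← orderOf_dvd_iff_pow_eq_one]; exact this
  have htS : t ∉ (S : Subgroup G) := fun h => ht1 (by
    have h1 := (S : Subgroup G).orderOf_dvd_natCard h
    have h2 := (T : Subgroup G).orderOf_dvd_natCard htT
    rw [hScard] at h1; rw [hTcard] at h2
    exact orderOf_eq_one_iff.1 (Nat.eq_one_of_dvd_coprimes (by norm_num) h1 h2))
  have hT2 : ∀ y ∈ (T : Subgroup G), y = 1 ∨ y = t := by
    intro y hy
    by_contra h
    push Not at h
    have h1 : ({1, t, y} : Set G) ⊆ (T : Subgroup G) := by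
      rintro w (rfl | rfl | rfl)
      exacts [(T : Subgroup G).one_mem, htT, hy]
    have h2 := Set.ncard_le_ncard h1
    rw [Set.ncard_insert_of_notMem (by simp [ne_comm.1 ht1, ne_comm.1 h.1]),
      Set.ncard_pair h.2.symm, ← Nat.card_coe_set_eq, SetLike.coe_sort_coe, hTcard] at h2
    omega
  have hmem : ∀ g : G, g ∈ (S : Subgroup G) ∨ g * t ∈ (S : Subgroup G) := by
    intro g
    rw [Subgroup.mul_mem_iff_of_index_two hSidx]
    by_cases h : g ∈ (S : Subgroup G)
    · exact Or.inl h
    · exact Or.inr (iff_of_false h htS)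
  obtain ⟨z, hzZ, hz1⟩ := Z.bot_or_exists_ne_one.resolve_left
    (fun h => by rw [h, Subgroup.card_bot] at hZcard; omega)
  have hz3 : z ^ 3 = 1 := by
    rw [← orderOf_dvd_iff_pow_eq_one, ← hZcard]; exact Z.orderOf_dvd_natCard hzZ
  have hzord : orderOf z = 3 := orderOf_eq_prime hz3 hz1
  have hZgen : ∀ w ∈ Z, w ∈ Subgroup.zpowers z := by
    have : Subgroup.zpowers z = Z := Subgroup.eq_of_le_of_card_ge (Subgroup.zpowers_le.2 hzZ)
      (by rw [Nat.card_zpowers, hzord, hZcard])
    intro w hw; rwa [this]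
  have hzS : z ∈ (S : Subgroup G) ∧ ∀ s ∈ (S : Subgroup G), s * z = z * s := by
    rw [hZ] at hzZ
    exact ⟨hzZ.1, hzZ.2⟩
  have hzt : t * z = z * t := hZT hzZ t htT
  have hzc : ∀ g : G, g * z = z * g := by
    intro g
    rcases hmem g with h | h
    · exact hzS.2 g h
    · have h1 := hzS.2 _ h
      calc g * z = g * t * (t * z) := by rw [← mul_assoc, mul_assoc g t t, ht2, mul_one]
        _ = g * t * z * t := by rw [hzt, ← mul_assoc]
        _ = z * g := by rw [h1, mul_assoc, mul_assoc g t t, ht2, mul_one]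
  -- every nontrivial normal subgroup contains `z`
  have hmin : ∀ N : Subgroup G, N.Normal → N ≠ ⊥ → z ∈ N := by
    intro N hN hN1
    by_cases hNS : N ⊓ (S : Subgroup G) = ⊥
    · exfalso
      apply hST
      refine inf_eq_left.2 fun s hs => Subgroup.mem_centralizer_iff.2 fun y hy => ?_
      obtain ⟨x, hx, hx1⟩ := N.bot_or_exists_ne_one.resolve_left hN1
      have hcomm : ∀ s ∈ (S : Subgroup G), s * x = x * s := by
        intro s hs
        have h1 : s * x * s⁻¹ * x⁻¹ ∈ N ⊓ (S : Subgroup G) := ⟨N.mul_mem (hN.conj_mem x hx s) (N.inv_mem hx), by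
          have := (S : Subgroup G).mul_mem hs (hSn.conj_mem _ ((S : Subgroup G).inv_mem hs) x)
          rw [show s * x * s⁻¹ * x⁻¹ = s * (x * s⁻¹ * x⁻¹) by group]
          exact this⟩
        rw [hNS, Subgroup.mem_bot] at h1
        calc s * x = s * x * s⁻¹ * x⁻¹ * (x * s) := by group
          _ = x * s := by rw [h1, one_mul]
      rcases hmem x with h | h
      · exact absurd (Subgroup.mem_bot.1 (hNS ▸ (⟨hx, h⟩ : x ∈ N ⊓ (S : Subgroup G)))) hx1
      · rcases hT2 y hy with rfl | rfl
        · simp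
        · -- `x` lies in the centre of `S` times `t`
          have h2 : x * x = 1 := by
            have : x * x ∈ N ⊓ (S : Subgroup G) := ⟨N.mul_mem hx hx, Subgroup.mul_self_mem_of_index_two hSidx x⟩
            rwa [hNS, Subgroup.mem_bot] at this
          have h3 : x * y * (x * y)⁻¹ = 1 := by simp
          have h4 := hcomm _ h
          have hxy : y * x = x * y := by
            calc y * x = x⁻¹ * (x * y * x) := by group
              _ = x⁻¹ * (x * (x * y)) := by rw [h4]
              _ = x * y := by group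
          -- `(x y)² = 1` with `x y ∈ S`
          have h5 : (x * y) ^ 2 = 1 := by
            rw [(show Commute x y from hxy.symm).mul_pow, pow_two, pow_two, h2, ht2, one_mul]
          have h6 : x * y = 1 := orderOf_eq_one_iff.1 (Nat.eq_one_of_dvd_coprimes
            (show Nat.Coprime 2 81 by norm_num) (orderOf_dvd_of_pow_eq_one h5)
            (hScard ▸ (S : Subgroup G).orderOf_dvd_natCard h))
          have h7 : y = x := by rw [eq_inv_of_mul_eq_one_right h6]; exact inv_eq_of_mul_eq_one_right h2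
          rw [h7]
          exact (hcomm s hs).symm
    · -- meets the centre of `S`
      obtain ⟨x, hx, hxc, hx1⟩ : ∃ x ∈ N ⊓ (S : Subgroup G), (∀ s ∈ (S : Subgroup G), s * x = x * s) ∧ x ≠ 1 := by
        haveI : ((N ⊓ (S : Subgroup G)).subgroupOf (S : Subgroup G)).Normal := by
          haveI := hN; haveI := hSn; infer_instance
        haveI : Nontrivial ((N ⊓ (S : Subgroup G)).subgroupOf (S : Subgroup G)) := by
          rw [Subgroup.nontrivial_iff_ne_bot, ne_eq, Subgroup.subgroupOf_eq_bot]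
          exact fun h => hNS (h.eq_bot_of_le inf_le_right)
        haveI : Group.IsNilpotent (S : Subgroup G) := S.isPGroup'.isNilpotent
        have h1 := Cfsg.Agent.Lib.Solvable.inf_center_ne_bot
          ((Subgroup.nontrivial_iff_ne_bot ((N ⊓ (S : Subgroup G)).subgroupOf (S : Subgroup G))).1 inferInstance)
        obtain ⟨x, hx, hx1⟩ := (Subgroup.bot_or_exists_ne_one _).resolve_left
          h1
        exact ⟨x, Subgroup.mem_subgroupOf.1 hx.1, fun s hs => congrArg Subtype.val (Subgroup.mem_center_iff.1 hx.2 ⟨s, hs⟩),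
          fun e => hx1 (Subtype.ext e)⟩
      have hxZ : x ∈ Z := by rw [hZ]; exact ⟨hx.2, hxc⟩
      have : Subgroup.zpowers x = Z := Subgroup.eq_of_le_of_card_ge (Subgroup.zpowers_le.2 hxZ) (by
        rw [Nat.card_zpowers, hZcard]
        exact (orderOf_eq_prime (by rw [← orderOf_dvd_iff_pow_eq_one, ← hZcard]; exact Z.orderOf_dvd_natCard hxZ) hx1).ge)
      rw [← this] at hzZ
      exact Subgroup.zpowers_le.2 hx.1 hzZ
  have hzJ : z ∈ J := hmin J hJn (fun h => by rw [h, Subgroup.card_bot] at hJcard; omega)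
  have hJc : ∀ a ∈ J, ∀ b ∈ J, a * b = b * a := fun a ha b hb =>
    congrArg Subtype.val (hJcomm.is_comm.comm (⟨a, ha⟩ : J) ⟨b, hb⟩)
  have hJS : ∀ a ∈ J, a ∈ (S : Subgroup G) := by
    intro a ha
    rcases hmem a with h | h
    · exact h
    · exfalso
      apply htS
      have e : a ^ 3 = 1 := hJexp a ha
      by_cases h' : a ∈ (S : Subgroup G)
      · have := (S : Subgroup G).mul_mem ((S : Subgroup G).inv_mem h') h
        simpa using this
      · have h2 : a * a ∈ (S : Subgroup G) := Subgroup.mul_self_mem_of_index_two hSidx a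
        have h3 : a * a * a = 1 := by rw [← e, pow_succ, pow_two]
        exact absurd (by
          rw [eq_inv_of_mul_eq_one_right h3]; exact (S : Subgroup G).inv_mem h2) h'
  -- a hyperplane of `J` avoiding `z`
  obtain ⟨B, ⟨hBJ, hzB⟩, hBmax⟩ :=
    ((Set.toFinite {B : Subgroup G | B ≤ J ∧ z ∉ B}).exists_maximal ⟨⊥, bot_le, by simpa using hz1⟩)
  have hBz : ∀ x ∈ J, ∃ i : ℤ, x * z ^ i ∈ B := by
    intro x hx
    by_cases hxB : x ∈ B
    · exact ⟨0, by simpa using hxB⟩
    let B' : Subgroup G :=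
      { carrier := {g | ∃ i : ℤ, ∃ b ∈ B, g = b * x ^ i}
        one_mem' := ⟨0, 1, B.one_mem, by simp⟩
        mul_mem' := fun {g h} ⟨i, b, hb, eg⟩ ⟨j, c, hc, eh⟩ => ⟨i + j, b * c, B.mul_mem hb hc, by
          rw [eg, eh, zpow_add]
          have := hJc _ (J.zpow_mem hx i) c (hBJ hc)
          calc b * x ^ i * (c * x ^ j) = b * (x ^ i * c) * x ^ j := by group
            _ = b * (c * x ^ i) * x ^ j := by rw [this]
            _ = _ := by group⟩
        inv_mem' := fun {g} ⟨i, b, hb, eg⟩ => ⟨-i, b⁻¹, B.inv_mem hb, by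
          rw [eg, mul_inv_rev, zpow_neg]
          exact hJc _ (J.inv_mem (J.zpow_mem hx i)) _ (J.inv_mem (hBJ hb))⟩ }
    have hle : B ≤ B' := fun b hb => ⟨0, b, hb, by simp⟩
    have hxB' : x ∈ B' := ⟨1, 1, B.one_mem, by simp⟩
    have hzB' : z ∈ B' := by
      by_contra hzn
      exact hxB (hBmax (y := B') ⟨by rintro g ⟨i, b, hb, rfl⟩; exact J.mul_mem (hBJ hb) (J.zpow_mem hx i), hzn⟩ hle hxB')
    obtain ⟨i, b, hb, hzb⟩ := hzB'
    have hx3 : x ^ (3 : ℤ) = 1 := by exact_mod_cast hJexp x hx
    rcases (show i % 3 = 0 ∨ i % 3 = 1 ∨ i % 3 = 2 by omega) with h | h | h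
    · exfalso; apply hzB
      rw [hzb, ← Int.emod_add_mul_ediv i 3, h, zero_add, zpow_mul, hx3, one_zpow, mul_one]
      exact hb
    · refine ⟨-1, ?_⟩
      rw [hzb, ← Int.emod_add_mul_ediv i 3, h, zpow_add, zpow_mul, hx3, one_zpow, mul_one, zpow_one, zpow_neg_one,
        mul_inv_rev, ← mul_assoc, mul_inv_cancel, one_mul]
      exact B.inv_mem hb
    · refine ⟨1, ?_⟩
      rw [zpow_one, hzb, ← Int.emod_add_mul_ediv i 3, h, zpow_add, zpow_mul, hx3, one_zpow, mul_one]
      have e : x * x ^ (2 : ℤ) = 1 := by rw [← hx3]; group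
      rw [← mul_assoc, hJc x hx b (hBJ hb), mul_assoc, e, mul_one]; exact hb
  -- the invariant hyperplane
  have hconjJ : ∀ a ∈ J, t * a * t ∈ J := by
    intro a ha
    have h1 := hJn.conj_mem a ha t
    rwa [inv_eq_of_mul_eq_one_right ht2] at h1
  let A : Subgroup G :=
    { carrier := {x | x ∈ J ∧ x * (t * x * t) ∈ B}
      one_mem' := ⟨J.one_mem, by simp [ht2]⟩
      mul_mem' := fun {a b} ⟨ha, ea⟩ ⟨hb, eb⟩ => ⟨J.mul_mem ha hb, by
        have h1 := B.mul_mem ea eb
        have h2 : a * b * (t * (a * b) * t) = a * (t * a * t) * (b * (t * b * t)) := by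
          calc a * b * (t * (a * b) * t) = a * (b * (t * a * t)) * (t * b * t) := by
                simp only [mul_assoc]
                rw [← mul_assoc t t (b * t), ht2, one_mul]
            _ = a * ((t * a * t) * b) * (t * b * t) := by rw [hJc b hb _ (hconjJ a ha)]
            _ = _ := by simp only [mul_assoc]
        rw [h2]; exact h1⟩
      inv_mem' := fun {a} ⟨ha, ea⟩ => ⟨J.inv_mem ha, by
        have h1 := B.inv_mem ea
        have h2 : a⁻¹ * (t * a⁻¹ * t) = (a * (t * a * t))⁻¹ := by
          rw [mul_inv_rev, mul_inv_rev, mul_inv_rev, inv_eq_of_mul_eq_one_right ht2]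
          have h3 := hJc _ (J.inv_mem ha) _ (hconjJ _ (J.inv_mem ha))
          simpa [mul_assoc] using h3
        rw [h2]; exact h1⟩ }
  have hAS : ∀ a ∈ A, a ∈ (S : Subgroup G) := fun a ha => hJS a ha.1
  have hAt : ∀ a ∈ A, t * a * t ∈ A := by
    rintro a ⟨ha, ea⟩
    refine ⟨hconjJ a ha, ?_⟩
    rw [show t * (t * a * t) * t = a by rw [← mul_assoc, ← mul_assoc, ht2, one_mul, mul_assoc, ht2, mul_one],
      hJc _ (hconjJ a ha) a ha]
    exact ea
  have hzA : z ∉ A := fun h => hzB (by
    have h1 : z * (t * z * t) ∈ B := h.2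
    rw [hzt, mul_assoc z t t, ht2, mul_one] at h1
    have h2 := B.inv_mem h1
    have h3 : z * z * z = 1 := by rw [← hz3, pow_succ, pow_two]
    rwa [← eq_inv_of_mul_eq_one_right h3] at h2)
  have hAcard : Nat.card A = 9 := by
    have hdec : ∀ x ∈ J, ∃ i : ℤ, x * z ^ i ∈ A := by
      intro x hx
      obtain ⟨i, hi⟩ := hBz _ (J.mul_mem hx (hconjJ x hx))
      refine ⟨-i, J.mul_mem hx (J.zpow_mem hzJ _), ?_⟩
      have hcz : ∀ g, g * z ^ (-i) = z ^ (-i) * g := fun g => (Commute.zpow_right (hzc g) _).eq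
      have e : x * z ^ (-i) * (t * (x * z ^ (-i)) * t) = x * (t * x * t) * z ^ i := by
        have h3 : z ^ (-i) * z ^ (-i) = z ^ i := by
          rw [← zpow_add, show -i + -i = i + 3 * (-i) by ring, zpow_add, zpow_mul,
            show z ^ (3 : ℤ) = 1 by exact_mod_cast hz3, one_zpow, mul_one]
        rw [← h3]
        have hc2 : t * (z ^ (-i) * z ^ (-i)) = z ^ (-i) * z ^ (-i) * t := by
          rw [← mul_assoc, hcz t, mul_assoc, hcz t, ← mul_assoc]
        calc x * z ^ (-i) * (t * (x * z ^ (-i)) * t) = x * (z ^ (-i) * (t * x)) * (z ^ (-i) * t) := by simp [mul_assoc]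
          _ = x * (t * x * z ^ (-i)) * (z ^ (-i) * t) := by rw [hcz (t * x)]
          _ = x * (t * x) * (z ^ (-i) * z ^ (-i) * t) := by simp [mul_assoc]
          _ = x * (t * x) * (t * (z ^ (-i) * z ^ (-i))) := by rw [hc2]
          _ = x * (t * x * t) * (z ^ (-i) * z ^ (-i)) := by simp [mul_assoc]
      rw [e]; exact hi
    let q : A × Subgroup.zpowers z → J := fun p => ⟨p.1 * p.2, J.mul_mem p.1.2.1 (Subgroup.zpowers_le.2 hzJ p.2.2)⟩
    have hq : Function.Bijective q := by
      constructor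
      · rintro ⟨a, u⟩ ⟨b, v⟩ h
        have h1 : (a : G) * u = b * v := congrArg Subtype.val h
        have h2 : (b : G)⁻¹ * a ∈ A ⊓ Subgroup.zpowers z := ⟨A.mul_mem (A.inv_mem b.2) a.2, by
          have : (b : G)⁻¹ * a = v * (u : G)⁻¹ := by
            rw [eq_mul_inv_iff_mul_eq, mul_assoc, h1, inv_mul_cancel_left]
          rw [this]; exact Subgroup.mul_mem _ v.2 (Subgroup.inv_mem _ u.2)⟩
        have h3 : (b : G)⁻¹ * a = 1 := by
          by_contra hne
          apply hzA
          have hgen : Subgroup.zpowers ((b : G)⁻¹ * a) = Subgroup.zpowers z := by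
            refine Subgroup.eq_of_le_of_card_ge (Subgroup.zpowers_le.2 h2.2) ?_
            rw [Nat.card_zpowers, Nat.card_zpowers, hzord]
            refine (orderOf_eq_prime ?_ hne).ge
            exact hJexp _ h2.1.1
          exact Subgroup.zpowers_le.2 h2.1 (hgen ▸ Subgroup.mem_zpowers z)
        rw [inv_mul_eq_one] at h3
        rw [h3, mul_right_inj] at h1
        exact Prod.ext (Subtype.ext h3.symm) (Subtype.ext h1)
      · rintro ⟨x, hx⟩
        obtain ⟨i, hi⟩ := hdec x hx
        exact ⟨(⟨_, hi⟩, ⟨z ^ (-i), ⟨-i, rfl⟩⟩), Subtype.ext (by simp [q, zpow_neg])⟩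
    have := Nat.card_congr (Equiv.ofBijective q hq)
    rw [Nat.card_prod, Nat.card_zpowers, hzord, hJcard] at this
    omega
  let U : Subgroup G :=
    { carrier := {g | g ∈ A ∨ g * t ∈ A}
      one_mem' := Or.inl A.one_mem
      mul_mem' := by
        rintro a b (ha | ha) (hb | hb)
        · exact Or.inl (A.mul_mem ha hb)
        · exact Or.inr (by rw [mul_assoc]; exact A.mul_mem ha hb)
        · refine Or.inr ?_
          have := A.mul_mem ha (hAt b hb)
          rwa [mul_assoc a t, ← mul_assoc t (t * b) t, ← mul_assoc t t b, ht2, one_mul, ← mul_assoc] at this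
        · refine Or.inl ?_
          have := A.mul_mem ha (hAt _ hb)
          rwa [mul_assoc a t, ← mul_assoc t (t * (b * t)) t, ← mul_assoc t t (b * t), ht2, one_mul,
            mul_assoc b t t, ht2, mul_one] at this
      inv_mem' := by
        rintro a (ha | ha)
        · exact Or.inl (A.inv_mem ha)
        · refine Or.inr ?_
          have := hAt _ (A.inv_mem ha)
          rwa [mul_inv_rev, inv_eq_of_mul_eq_one_right ht2, ← mul_assoc t t, ht2, one_mul] at this }
  have hUcard : Nat.card U = 18 := by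
    have h1 : (U : Set G) = (A : Set G) ∪ (fun g => g * t) '' (A : Set G) := by
      ext g
      refine ⟨fun h => h.imp id fun h' => ⟨g * t, h', by simp [mul_assoc, ht2]⟩, ?_⟩
      rintro (h | ⟨a, ha, rfl⟩)
      · exact Or.inl h
      · exact Or.inr (by rw [mul_assoc, ht2, mul_one]; exact ha)
    have hd : Disjoint (A : Set G) ((fun g => g * t) '' (A : Set G)) := by
      rw [Set.disjoint_left]
      rintro g hg ⟨a, ha, rfl⟩
      exact htS ((Subgroup.mul_mem_cancel_left _ (hAS a ha)).1 (hAS _ hg))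
    rw [← SetLike.coe_sort_coe, Nat.card_coe_set_eq, h1, Set.ncard_union_eq hd,
      Set.ncard_image_of_injective _ (mul_left_injective t), ← Nat.card_coe_set_eq, SetLike.coe_sort_coe, hAcard]
  have hzU : z ∉ U := by
    rintro (h | h)
    · exact hzA h
    · exact htS ((Subgroup.mul_mem_cancel_left _ hzS.1).1 (hAS _ h))
  refine main hG U ?_ ?_ z hzc hz3 hzU
  · have := U.index_mul_card; rw [hUcard, hG] at this; omega
  · by_contra h
    exact hzU (U.normalCore_le (hmin _ U.normalCore_normal h))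

end Cfsg.Agent.S3376
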