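import Cfsg.Statements.S3378
import Cfsg.Agent.Lib.Frobenius.Zassenhaus.DoubleCover
import Cfsg.Agent.Lib.Recognition.OrderSixty
import Cfsg.Agent.Lib.Recognition.SLTwoFive
import Cfsg.Agent.Lib.ThreeTransp.IcoPres
import Cfsg.Agent.Lib.Characters.Burnside
import Cfsg.Agent.S0494

set_option autoImplicit false
open Cfsg

namespace Cfsg.Agent.S3378

open Lib.Frobenius.Zassenhaus

theorem solvable_of_normal_five {G : Type*} [Group G] [Finite G] (a b : ℕ) (hc : Nat.card G = 2 ^ a * 3 ^ b * 5)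
    [Fact (Nat.Prime 5)] (P : Sylow 5 G) (hP : (P : Subgroup G).Normal) : Group.IsSolvable G := by
  haveI := hP
  have h5 : Nat.card (P : Subgroup G) = 5 :=
    Lib.Recognition.sylow_card_eq_prime P (hc ▸ Dvd.intro_left _ rfl) (by
      rw [hc, pow_two]
      intro h
      have h1 : (5 : ℕ) ∣ 2 ^ a * 3 ^ b := Nat.dvd_of_mul_dvd_mul_right (by norm_num : 0 < 5) h
      rcases (Nat.Prime.dvd_mul Nat.prime_five).mp h1 with h2 | h2 <;>
        have := Nat.prime_five.dvd_of_dvd_pow h2 <;> norm_num at this)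
  have hq : Nat.card (G ⧸ (P : Subgroup G)) = 2 ^ a * 3 ^ b := by
    have h := (P : Subgroup G).card_mul_index
    rw [h5, hc, Subgroup.index_eq_card] at h
    nlinarith
  haveI : Group.IsSolvable (G ⧸ (P : Subgroup G)) :=
    Lib.Characters.isSolvable_of_card_eq_pow_mul_pow Nat.prime_two Nat.prime_three hq
  haveI : Group.IsNilpotent (P : Subgroup G) := P.isPGroup'.isNilpotent
  exact Group.isSolvable_of_ker_le_range (P : Subgroup G).subtype (QuotientGroup.mk' (P : Subgroup G))
    (by rw [QuotientGroup.ker_mk', Subgroup.range_subtype])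

theorem part_one {G : Type*} [Group G] [Finite G] (hc : Nat.card G = 120) (hns : ¬ Group.IsSolvable G)
    (hQ : ∀ P : Sylow 2 G, Nonempty ((P : Subgroup G) ≃* QuaternionGroup 2)) : Ico G := by
  classical
  haveI : Fact (Nat.Prime 5) := ⟨Nat.prime_five⟩
  haveI : Fact (Nat.Prime 2) := ⟨Nat.prime_two⟩
  obtain ⟨P⟩ : Nonempty (Sylow 5 G) := inferInstance
  have hP : ¬ (P : Subgroup G).Normal := fun h =>
    hns (solvable_of_normal_five 3 1 (by rw [hc]; norm_num) P h)
  have hPc : Nat.card (P : Subgroup G) = 5 :=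
    Lib.Recognition.sylow_card_eq_prime P (by rw [hc]; norm_num) (by rw [hc]; norm_num)
  have hn5 : Nat.card (Sylow 5 G) = 6 := by
    have h1 : Nat.card (Sylow 5 G) % 5 = 1 := card_sylow_modEq_one 5 G
    have h2 : Nat.card (Sylow 5 G) ∣ 24 := by
      rw [show 24 = (P : Subgroup G).index by
        have := (P : Subgroup G).card_mul_index
        rw [hPc, hc] at this
        omega]
      exact P.card_dvd_index
    have hne : Nat.card (Sylow 5 G) ≠ 1 := fun e => by
      haveI : Subsingleton (Sylow 5 G) := (Nat.card_eq_one_iff_unique.1 e).1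
      exact hP (Sylow.normal_of_subsingleton P)
    have h3 : Nat.card (Sylow 5 G) ≤ 24 := Nat.le_of_dvd (by norm_num) h2
    interval_cases hh : Nat.card (Sylow 5 G) <;> omega
  set N := (MulAction.toPermHom G (Sylow 5 G)).ker with hN
  have hmemN : ∀ g, g ∈ N ↔ ∀ R : Sylow 5 G, g • R = R := fun g => by
    rw [hN, MonoidHom.mem_ker]
    exact ⟨fun h R => congrArg (fun τ : Equiv.Perm (Sylow 5 G) => τ R) h, fun h => Equiv.ext h⟩
  -- every involution lies in the kernel
  have hinv : ∀ t : G, orderOf t = 2 → t ∈ N := by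
    intro t ht
    obtain ⟨S, hS⟩ := (IsPGroup.of_card (p := 2) (n := 1) (by rw [Nat.card_zpowers, ht, pow_one]) :
      IsPGroup 2 (Subgroup.zpowers t)).exists_le_sylow
    obtain ⟨e⟩ := hQ S
    have hS8 : Nat.card (S : Subgroup G) = 8 := by
      rw [Nat.card_congr e.toEquiv, Nat.card_eq_fintype_card, QuaternionGroup.card]
    have huni : ∀ q : QuaternionGroup 2, q * q = 1 → q = 1 ∨ q = .a 2 := by decide +kernel
    rw [hmemN]
    intro R
    set stab := MulAction.stabilizer (S : Subgroup G) R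
    have hst : 1 < Nat.card stab := by
      by_contra hle
      have h1 := stab.card_mul_index
      have h2 : stab.index ≤ 6 := by
        rw [MulAction.index_stabilizer, ← hn5, ← Set.ncard_univ]
        exact Set.ncard_le_ncard (Set.subset_univ _)
      have h3 : 0 < Nat.card stab := Nat.card_pos
      rw [show Nat.card stab = 1 by omega, hS8] at h1
      omega
    obtain ⟨w, hw⟩ : ∃ w : stab, orderOf w = 2 := by
      refine exists_prime_orderOf_dvd_card' 2 ?_
      obtain ⟨n, hn⟩ := IsPGroup.iff_card.mp (S.isPGroup'.to_subgroup stab)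
      rcases n with _ | n
      · rw [pow_zero] at hn; omega
      · rw [hn]; exact dvd_pow_self 2 n.succ_ne_zero
    have key : ∀ u : (S : Subgroup G), orderOf u = 2 → e u = .a 2 := by
      intro u hu
      refine (huni (e u) ?_).resolve_left fun h => ?_
      · rw [← map_mul, show u * u = 1 by rw [← pow_two]; exact orderOf_dvd_iff_pow_eq_one.mp hu.dvd, map_one]
      · rw [e.map_eq_one_iff] at h
        rw [h, orderOf_one] at hu
        norm_num at hu
    have heq : (w : (S : Subgroup G)) = ⟨t, hS (Subgroup.mem_zpowers t)⟩ :=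
      e.injective ((key _ (by rw [Subgroup.orderOf_coe, hw])).trans
        (key _ (by rw [← Subgroup.orderOf_coe]; exact ht)).symm)
    have h := MulAction.mem_stabilizer_iff.mp w.2
    rw [heq] at h
    exact h
  -- the kernel has order two
  have hN5 : ¬ 5 ∣ Nat.card N := by
    intro hd
    obtain ⟨g, hg⟩ := exists_prime_orderOf_dvd_card' (G := N) 5 hd
    have hall : ∀ R : Sylow 5 G, (R : Subgroup G) = Subgroup.zpowers (g : G) := by
      intro R
      have hgR : (g : G) ∈ (R : Subgroup G) := by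
        have hmem : (g : G) ∈ Subgroup.normalizer ((R : Subgroup G) : Set G) := by
          have := (hmemN _).mp g.2 R
          exact Sylow.smul_eq_iff_mem_normalizer.mp this
        have hp : IsPGroup 5 (Subgroup.zpowers (g : G)) :=
          IsPGroup.of_card (p := 5) (n := 1) (by rw [Nat.card_zpowers, Subgroup.orderOf_coe, hg, pow_one])
        have hle : Subgroup.zpowers (g : G) ≤ Subgroup.normalizer ((R : Subgroup G) : Set G) :=
          Subgroup.zpowers_le.mpr hmem
        have heq := R.3 (hp.to_sup_of_normal_right' R.isPGroup' hle) le_sup_right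
        rw [← heq]
        exact Subgroup.mem_sup_left (Subgroup.mem_zpowers _)
      refine (Subgroup.eq_of_le_of_card_ge (Subgroup.zpowers_le.mpr hgR) (le_of_eq ?_)).symm
      rw [Nat.card_zpowers, Subgroup.orderOf_coe, hg]
      exact Lib.Recognition.sylow_card_eq_prime R (by rw [hc]; norm_num) (by rw [hc]; norm_num)
    haveI : Subsingleton (Sylow 5 G) := ⟨fun R R' => Sylow.ext ((hall R).trans (hall R').symm)⟩
    exact hP (Sylow.normal_of_subsingleton P)
  have hN20 : Nat.card N ∣ 20 := by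
    have h := (Subgroup.normalizer ((P : Subgroup G) : Set G)).card_mul_index
    rw [P.coe_coe, ← P.card_eq_index_normalizer, hn5, hc] at h
    have h20 : Nat.card (Subgroup.normalizer ((P : Subgroup G) : Set G)) = 20 := by
      rw [P.coe_coe]; omega
    rw [← h20]
    exact Subgroup.card_dvd_of_le fun g hg => Sylow.smul_eq_iff_mem_normalizer.mp ((hmemN g).mp hg P)
  obtain ⟨t, ht⟩ := exists_prime_orderOf_dvd_card' (G := G) 2 (by rw [hc]; norm_num)
  have hN2 : Nat.card N = 2 := by
    have h4 : Nat.card N ∣ 4 :=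
      (Nat.Coprime.dvd_of_dvd_mul_right ((Nat.prime_five.coprime_iff_not_dvd.mpr hN5).symm)
        (show Nat.card N ∣ 4 * 5 from hN20))
    have h2 : 2 ∣ Nat.card N := by
      rw [← ht, ← Subgroup.orderOf_mk (H := N) t (hinv t ht)]
      exact orderOf_dvd_natCard _
    have hle := Nat.le_of_dvd (by norm_num) h4
    by_contra hne
    have h44 : Nat.card N = 4 := by interval_cases hh : Nat.card N <;> omega
    have hq : Nat.card (G ⧸ N) = 30 := by
      have := N.card_mul_index
      rw [h44, hc, Subgroup.index_eq_card] at this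
      omega
    obtain ⟨R⟩ : Nonempty (Sylow 5 (G ⧸ N)) := inferInstance
    haveI : Group.IsSolvable (G ⧸ N) := solvable_of_normal_five 1 1 (by rw [hq]; norm_num) R
      (Lib.Recognition.sylow_five_normal_of_card_thirty hq R)
    haveI : Group.IsSolvable N := Lib.Characters.isSolvable_of_card_eq_pow_mul_pow (a := 2) (b := 0)
      Nat.prime_two Nat.prime_three (by rw [h44]; norm_num)
    exact hns (Group.isSolvable_of_ker_le_range N.subtype (QuotientGroup.mk' N)
      (by rw [QuotientGroup.ker_mk', Subgroup.range_subtype]))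
  have hq : Nat.card (G ⧸ N) = 60 := by
    have := N.card_mul_index
    rw [hN2, hc, Subgroup.index_eq_card] at this
    omega
  obtain ⟨R⟩ : Nonempty (Sylow 5 (G ⧸ N)) := inferInstance
  haveI : IsSimpleGroup (G ⧸ N) := by
    refine Lib.Recognition.isSimpleGroup_of_card_sixty hq R fun h => hns ?_
    haveI : Group.IsSolvable (G ⧸ N) := solvable_of_normal_five 2 1 (by rw [hq]; norm_num) R h
    haveI : Group.IsSolvable N := Lib.Characters.isSolvable_of_card_eq_pow_mul_pow (a := 1) (b := 0)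
      Nat.prime_two Nat.prime_three (by rw [hN2]; norm_num)
    exact Group.isSolvable_of_ker_le_range N.subtype (QuotientGroup.mk' N)
      (by rw [QuotientGroup.ker_mk', Subgroup.range_subtype])
  obtain ⟨e⟩ := Cfsg.Agent.S0494.result hq
  refine ⟨hc, e.toMonoidHom.comp (QuotientGroup.mk' N), e.surjective.comp (QuotientGroup.mk'_surjective N), fun k => ?_⟩
  show e (QuotientGroup.mk' N k) = 1 ↔ _
  rw [e.map_eq_one_iff, QuotientGroup.mk'_apply, QuotientGroup.eq_one_iff]
  refine ⟨fun hk => ?_, fun hk => ?_⟩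
  · have := pow_card_eq_one' (G := N) (x := ⟨k, hk⟩)
    rw [hN2, pow_two] at this
    exact congrArg Subtype.val this
  · by_cases hk1 : k = 1
    · rw [hk1]; exact N.one_mem
    · exact hinv k (orderOf_eq_prime (by rw [pow_two, hk]) hk1)

theorem part_two :
    Nonempty (PresentedGroup ({FreeGroup.of (0 : Fin 3) ^ 3, FreeGroup.of (1 : Fin 3) ^ 5, FreeGroup.of (2 : Fin 3) ^ 2,
        (FreeGroup.of (2 : Fin 3))⁻¹ * FreeGroup.of 0 * FreeGroup.of 2 * (FreeGroup.of (0 : Fin 3))⁻¹,
        (FreeGroup.of (2 : Fin 3))⁻¹ * FreeGroup.of 1 * FreeGroup.of 2 * (FreeGroup.of (1 : Fin 3))⁻¹,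
        (FreeGroup.of (0 : Fin 3) * FreeGroup.of 1) ^ 2 * (FreeGroup.of (2 : Fin 3))⁻¹} : Set (FreeGroup (Fin 3)))
      ≃* Matrix.SpecialLinearGroup (Fin 2) (ZMod 5)) := by
  set R : Set (FreeGroup (Fin 3)) := {FreeGroup.of (0 : Fin 3) ^ 3, FreeGroup.of (1 : Fin 3) ^ 5, FreeGroup.of (2 : Fin 3) ^ 2,
        (FreeGroup.of (2 : Fin 3))⁻¹ * FreeGroup.of 0 * FreeGroup.of 2 * (FreeGroup.of (0 : Fin 3))⁻¹,
        (FreeGroup.of (2 : Fin 3))⁻¹ * FreeGroup.of 1 * FreeGroup.of 2 * (FreeGroup.of (1 : Fin 3))⁻¹,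
        (FreeGroup.of (0 : Fin 3) * FreeGroup.of 1) ^ 2 * (FreeGroup.of (2 : Fin 3))⁻¹} with hR
  let X : Matrix.SpecialLinearGroup (Fin 2) (ZMod 5) := ⟨!![0, 4; 1, 4], by decide +kernel⟩
  let Y : Matrix.SpecialLinearGroup (Fin 2) (ZMod 5) := ⟨!![1, 1; 0, 1], by decide +kernel⟩
  let v : Fin 3 → Matrix.SpecialLinearGroup (Fin 2) (ZMod 5) := ![X, Y, -1]
  have hv : ∀ r ∈ R, FreeGroup.lift v r = 1 := by
    intro r hr
    simp only [hR, Set.mem_insert_iff, Set.mem_singleton_iff] at hr
    rcases hr with rfl | rfl | rfl | rfl | rfl | rfl <;>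
      simp only [map_pow, map_mul, map_inv, FreeGroup.lift_apply_of, v, X, Y, Matrix.cons_val_zero,
        Matrix.cons_val_one, Matrix.cons_val] <;>
      decide +kernel
  let ψ := PresentedGroup.toGroup hv
  set x : PresentedGroup R := PresentedGroup.of 0
  set y : PresentedGroup R := PresentedGroup.of 1
  set z : PresentedGroup R := PresentedGroup.of 2
  have rel : ∀ r ∈ R, PresentedGroup.mk R r = 1 := fun r hr => PresentedGroup.one_of_mem hr
  have hx3 : x ^ 3 = 1 := by
    have := rel (FreeGroup.of (0 : Fin 3) ^ 3) (by simp [hR])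
    rwa [map_pow] at this
  have hy5 : y ^ 5 = 1 := by
    have := rel (FreeGroup.of (1 : Fin 3) ^ 5) (by simp [hR])
    rwa [map_pow] at this
  have hz2 : z ^ 2 = 1 := by
    have := rel (FreeGroup.of (2 : Fin 3) ^ 2) (by simp [hR])
    rwa [map_pow] at this
  have hzx : z⁻¹ * x * z * x⁻¹ = 1 := by
    have := rel ((FreeGroup.of (2 : Fin 3))⁻¹ * FreeGroup.of 0 * FreeGroup.of 2 * (FreeGroup.of (0 : Fin 3))⁻¹)
      (by simp [hR])
    rwa [map_mul, map_mul, map_mul, map_inv, map_inv] at this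
  have hzy : z⁻¹ * y * z * y⁻¹ = 1 := by
    have := rel ((FreeGroup.of (2 : Fin 3))⁻¹ * FreeGroup.of 1 * FreeGroup.of 2 * (FreeGroup.of (1 : Fin 3))⁻¹)
      (by simp [hR])
    rwa [map_mul, map_mul, map_mul, map_inv, map_inv] at this
  have hxy : (x * y) ^ 2 * z⁻¹ = 1 := by
    have := rel ((FreeGroup.of (0 : Fin 3) * FreeGroup.of 1) ^ 2 * (FreeGroup.of (2 : Fin 3))⁻¹) (by simp [hR])
    rwa [map_mul, map_inv, map_pow, map_mul] at this
  have hgen : ∀ g : PresentedGroup R, g ∈ Subgroup.closure {x, y} := by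
    intro g
    have hg : g ∈ Subgroup.closure (Set.range (PresentedGroup.of (rels := R))) := by
      rw [PresentedGroup.closure_range_of]; exact Subgroup.mem_top g
    refine (Subgroup.closure_le (K := Subgroup.closure {x, y})).mpr ?_ hg
    rintro _ ⟨i, rfl⟩
    fin_cases i
    · exact Subgroup.subset_closure (Or.inl rfl)
    · exact Subgroup.subset_closure (Or.inr rfl)
    · show z ∈ _
      rw [show z = (x * y) ^ 2 from (mul_inv_eq_one.mp hxy).symm]
      exact pow_mem (mul_mem (show x ∈ Subgroup.closure {x, y} from Subgroup.subset_closure (Or.inl rfl))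
        (show y ∈ Subgroup.closure {x, y} from Subgroup.subset_closure (Or.inr rfl))) _
  have hcx : Commute z x := (show x * z = z * x from
    calc x * z = z * (z⁻¹ * x * z * x⁻¹) * x := by group
      _ = z * x := by rw [hzx, mul_one]).symm
  have hcy : Commute z y := (show y * z = z * y from
    calc y * z = z * (z⁻¹ * y * z * y⁻¹) * y := by group
      _ = z * y := by rw [hzy, mul_one]).symm
  have hcen : z ∈ Subgroup.center (PresentedGroup R) := by
    rw [Subgroup.mem_center_iff]
    intro g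
    induction hgen g using Subgroup.closure_induction with
    | mem s hs => rcases hs with rfl | rfl; exacts [hcx.eq.symm, hcy.eq.symm]
    | one => rw [one_mul, mul_one]
    | mul a b _ _ ha hb => rw [mul_assoc, hb, ← mul_assoc, ha, mul_assoc]
    | inv a _ ha => exact (show Commute a z from ha).inv_left.eq
  set Z := Subgroup.zpowers z
  haveI : Z.Normal := ⟨fun n hn g => by
    have hc : n ∈ Subgroup.center (PresentedGroup R) := Subgroup.zpowers_le.mpr hcen hn
    rw [Subgroup.mem_center_iff.mp hc g, mul_inv_cancel_right]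
    exact hn⟩
  set π := QuotientGroup.mk' Z
  have hπz : π z = 1 := (QuotientGroup.eq_one_iff z).mpr (Subgroup.mem_zpowers z)
  have hcov : ∀ g : PresentedGroup R, ∃ (k : Fin 5) (i : Fin 12) (j : Fin 2),
      g = y ^ (k : ℕ) * Lib.ThreeTransp.IcoPres.reps x y i * z ^ (j : ℕ) := by
    intro g
    obtain ⟨k, i, hk⟩ := Lib.ThreeTransp.IcoPres.cover (a := π x) (b := π y)
      (by rw [← map_mul, ← map_mul, show x * x * x = x ^ 3 by simp [pow_succ, mul_assoc], hx3, map_one])
      (by rw [← map_mul, ← map_mul, ← map_mul, ← map_mul, show y * y * y * y * y = y ^ 5 by simp [pow_succ, mul_assoc], hy5, map_one])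
      (by rw [← map_mul, ← map_mul, ← map_mul, show x * y * x * y = (x * y) ^ 2 by simp [pow_succ, mul_assoc], mul_inv_eq_one.mp hxy, hπz])
      (π g) (by
        have : π g ∈ (Subgroup.closure {x, y}).map π := ⟨g, hgen g, rfl⟩
        rwa [MonoidHom.map_closure, Set.image_pair] at this)
    have hreps : Lib.ThreeTransp.IcoPres.reps (π x) (π y) i = π (Lib.ThreeTransp.IcoPres.reps x y i) := by
      fin_cases i <;> simp [Lib.ThreeTransp.IcoPres.reps]
    rw [hreps, ← map_zpow, ← map_mul] at hk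
    have hmem : (y ^ k * Lib.ThreeTransp.IcoPres.reps x y i)⁻¹ * g ∈ Z := by
      rw [← QuotientGroup.eq_one_iff]
      show π _ = 1
      rw [map_mul, map_inv, hk, inv_mul_cancel]
    obtain ⟨j, hj⟩ := hmem
    refine ⟨⟨(k % 5).toNat, by omega⟩, i, ⟨(j % 2).toNat, by omega⟩, ?_⟩
    have e1 : y ^ k = y ^ ((k % 5).toNat) := by
      rw [← zpow_natCast, Int.toNat_of_nonneg (Int.emod_nonneg k (by norm_num))]
      conv_lhs => rw [show k = k % 5 + 5 * (k / 5) by omega, zpow_add, zpow_mul, zpow_ofNat, hy5, one_zpow, mul_one]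
    have e2 : z ^ j = z ^ ((j % 2).toNat) := by
      rw [← zpow_natCast, Int.toNat_of_nonneg (Int.emod_nonneg j (by norm_num))]
      conv_lhs => rw [show j = j % 2 + 2 * (j / 2) by omega, zpow_add, zpow_mul, zpow_ofNat, hz2, one_zpow, mul_one]
    have hj' : z ^ j = (y ^ k * Lib.ThreeTransp.IcoPres.reps x y i)⁻¹ * g := hj
    show g = y ^ ((k % 5).toNat) * _ * z ^ ((j % 2).toNat)
    rw [← e1, ← e2, hj', mul_inv_cancel_left]
  haveI : Finite (PresentedGroup R) := by
    refine Finite.of_surjective (fun t : Fin 5 × Fin 12 × Fin 2 =>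
      y ^ (t.1 : ℕ) * Lib.ThreeTransp.IcoPres.reps x y t.2.1 * z ^ (t.2.2 : ℕ)) fun g => ?_
    obtain ⟨k, i, j, h⟩ := hcov g
    exact ⟨(k, i, j), h.symm⟩
  have hle : Nat.card (PresentedGroup R) ≤ 120 := by
    have h := Nat.card_le_card_of_surjective (fun t : Fin 5 × Fin 12 × Fin 2 =>
      y ^ (t.1 : ℕ) * Lib.ThreeTransp.IcoPres.reps x y t.2.1 * z ^ (t.2.2 : ℕ)) (fun g => by
        obtain ⟨k, i, j, h⟩ := hcov g
        exact ⟨(k, i, j), h.symm⟩)
    rwa [Nat.card_prod, Nat.card_prod, Nat.card_fin, Nat.card_fin, Nat.card_fin] at h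
  have hsurj : Function.Surjective ψ := by
    intro A
    set U5 : PresentedGroup R := y
    set W5 : PresentedGroup R := x * y
    obtain ⟨i, j, k, l, h⟩ := Lib.Recognition.SLTwoFive.gen_cover _ _ _ _ (Lib.Recognition.SLTwoFive.det_tup A)
    have htup : ∀ B C : Matrix.SpecialLinearGroup (Fin 2) (ZMod 5),
        Lib.Recognition.SLTwoFive.tup ((B * C : Matrix.SpecialLinearGroup (Fin 2) (ZMod 5)) : Matrix (Fin 2) (Fin 2) (ZMod 5)) =
          Lib.Recognition.SLTwoFive.mul (Lib.Recognition.SLTwoFive.tup (B : Matrix (Fin 2) (Fin 2) (ZMod 5)))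
            (Lib.Recognition.SLTwoFive.tup (C : Matrix (Fin 2) (Fin 2) (ZMod 5))) := fun B C => by
      rw [Matrix.SpecialLinearGroup.coe_mul, Lib.Recognition.SLTwoFive.tup_mul]
    have hu : ∀ n : ℕ, Lib.Recognition.SLTwoFive.tup ((ψ (U5 ^ n) : Matrix.SpecialLinearGroup (Fin 2) (ZMod 5)) : Matrix (Fin 2) (Fin 2) (ZMod 5)) =
        Lib.Recognition.SLTwoFive.npow Lib.Recognition.SLTwoFive.u5 n := by
      intro n
      induction n with
      | zero => rw [pow_zero, map_one]; rfl
      | succ n ih =>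
        rw [pow_succ', map_mul, htup, ih]
        rw [show ψ U5 = Y from PresentedGroup.toGroup.of hv]
        rfl
    have hw : Lib.Recognition.SLTwoFive.tup ((ψ W5 : Matrix.SpecialLinearGroup (Fin 2) (ZMod 5)) : Matrix (Fin 2) (Fin 2) (ZMod 5)) =
        Lib.Recognition.SLTwoFive.w5 := by
      show Lib.Recognition.SLTwoFive.tup ((ψ (x * y) : Matrix.SpecialLinearGroup (Fin 2) (ZMod 5)) : Matrix (Fin 2) (Fin 2) (ZMod 5)) = _
      rw [map_mul, show ψ x = X from PresentedGroup.toGroup.of hv, show ψ y = Y from PresentedGroup.toGroup.of hv]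
      decide +kernel
    have hinjt : ∀ B : Matrix.SpecialLinearGroup (Fin 2) (ZMod 5),
        Lib.Recognition.SLTwoFive.tup (B : Matrix (Fin 2) (Fin 2) (ZMod 5)) = Lib.Recognition.SLTwoFive.tup (A : Matrix (Fin 2) (Fin 2) (ZMod 5)) → B = A := by
      intro B hB
      simp only [Lib.Recognition.SLTwoFive.tup, Prod.mk.injEq] at hB
      refine Matrix.SpecialLinearGroup.ext _ _ fun a b => ?_
      fin_cases a <;> fin_cases b
      exacts [hB.1, hB.2.1, hB.2.2.1, hB.2.2.2]
    rcases h with h | h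
    · refine ⟨U5 ^ (i : ℕ) * (W5 * (U5 ^ (j : ℕ) * (W5 * (U5 ^ (k : ℕ) * (W5 * U5 ^ (l : ℕ)))))), hinjt _ ?_⟩
      simp only [map_mul, htup, hu, hw]
      exact h
    · refine ⟨U5 ^ (i : ℕ) * (W5 * (U5 ^ (j : ℕ) * (W5 * U5 ^ (k : ℕ)))), hinjt _ ?_⟩
      simp only [map_mul, htup, hu, hw]
      exact h
  refine ⟨MulEquiv.ofBijective ψ ⟨?_, hsurj⟩⟩
  refine (hsurj.bijective_of_nat_card_le ?_).1
  exact hle.trans (le_of_eq (ico_sl25.1).symm)

/-- Every non-solvable group of order 120 whose Sylow 2-subgroups are quaternion of order 8 is isomorphic to SL(2,5), and SL(2,5) has the presentation ⟨x, y, z | x³ = y⁵ = z² = 1, z⁻¹xz = x, z⁻¹yz = y, (xy)² = z⟩. -/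
theorem result :
    (∀ (G : Type*) [Group G] [Finite G], Nat.card G = 120 → ¬ Group.IsSolvable G →
      (∀ P : Sylow 2 G, Nonempty ((P : Subgroup G) ≃* QuaternionGroup 2)) →
      Nonempty (G ≃* Matrix.SpecialLinearGroup (Fin 2) (ZMod 5))) ∧
    Nonempty (PresentedGroup ({FreeGroup.of (0 : Fin 3) ^ 3, FreeGroup.of (1 : Fin 3) ^ 5, FreeGroup.of (2 : Fin 3) ^ 2,
        (FreeGroup.of (2 : Fin 3))⁻¹ * FreeGroup.of 0 * FreeGroup.of 2 * (FreeGroup.of (0 : Fin 3))⁻¹,
        (FreeGroup.of (2 : Fin 3))⁻¹ * FreeGroup.of 1 * FreeGroup.of 2 * (FreeGroup.of (1 : Fin 3))⁻¹,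
        (FreeGroup.of (0 : Fin 3) * FreeGroup.of 1) ^ 2 * (FreeGroup.of (2 : Fin 3))⁻¹} : Set (FreeGroup (Fin 3)))
      ≃* Matrix.SpecialLinearGroup (Fin 2) (ZMod 5)) := by

  exact ⟨fun G _ _ hc hns hQ => ico_mulEquiv_sl25 (part_one hc hns hQ), part_two⟩

end Cfsg.Agent.S3378
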