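import Cfsg.Statements.S3379

set_option autoImplicit false
set_option linter.style.haveILetI false
open Cfsg

namespace Cfsg.Agent.S3379

/-- Let G be a finite group all of whose Sylow subgroups are cyclic. Then G is generated by two elements x and y of coprime orders n and m with x⁻¹yx = y^r, where gcd(r − 1, m) = 1 and r^n ≡ 1 (mod m). -/
theorem result {G : Type*} [Group G] [Finite G]
    (hZ : ∀ (p : ℕ) [Fact p.Prime] (P : Sylow p G), IsCyclic (P : Subgroup G)) :
    ∃ (x y : G) (n m r : ℕ), Subgroup.closure {x, y} = ⊤ ∧ orderOf x = n ∧ orderOf y = m ∧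
      x⁻¹ * y * x = y ^ r ∧ Nat.Coprime (r - 1) m ∧ Nat.Coprime n m ∧ 1 ≤ r ∧ r ^ n % m = 1 % m := by
  haveI : IsZGroup G := ⟨fun p hp P => haveI := Fact.mk hp; hZ p P⟩
  have hcop := IsZGroup.coprime_commutator_index G
  obtain ⟨H, hH⟩ := Subgroup.exists_right_complement'_of_coprime hcop
  set N := commutator G with hN
  have h1 : Abelianization G ≃* H := hH.symm.QuotientMulEquiv
  haveI : IsCyclic H := isCyclic_of_surjective _ h1.surjective
  haveI : IsCyclic N := IsZGroup.isCyclic_commutator G
  obtain ⟨x, hx⟩ := IsCyclic.exists_generator (α := H)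
  obtain ⟨y, hy⟩ := IsCyclic.exists_generator (α := N)
  have hgen : Subgroup.closure {(x : G), (y : G)} = ⊤ := by
    rw [eq_top_iff, ← hH.sup_eq_top]
    refine sup_le (fun z hz => ?_) (fun z hz => ?_)
    · obtain ⟨k, hk⟩ := Subgroup.mem_zpowers_iff.1 (hy ⟨z, hz⟩)
      rw [show z = (y : G) ^ k from by simpa using (congrArg Subtype.val hk).symm]
      exact zpow_mem (Subgroup.subset_closure (by simp)) _
    · obtain ⟨k, hk⟩ := Subgroup.mem_zpowers_iff.1 (hx ⟨z, hz⟩)
      rw [show z = (x : G) ^ k from by simpa using (congrArg Subtype.val hk).symm]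
      exact zpow_mem (Subgroup.subset_closure (by simp)) _
  set m := orderOf (y : G) with hm
  have hmpos : 0 < m := orderOf_pos _
  have hconj : (x : G)⁻¹ * y * x ∈ N := by simpa using (inferInstance : (commutator G).Normal).conj_mem _ y.2 (x : G)⁻¹
  obtain ⟨r₀, hr₀⟩ := Subgroup.mem_zpowers_iff.1 (hy ⟨_, hconj⟩)
  let r := (r₀ % m).toNat + m
  have hr : (x : G)⁻¹ * y * x = (y : G) ^ r := by
    have h2 : (y : G) ^ r₀ = (x : G)⁻¹ * y * x := by simpa using congrArg Subtype.val hr₀
    rw [← h2, pow_add, pow_orderOf_eq_one, mul_one, ← zpow_natCast,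
      Int.toNat_of_nonneg (Int.emod_nonneg _ (by omega)), hm, zpow_mod_orderOf]
  have hr1 : 1 ≤ r := by omega
  have hxn : orderOf (x : G) = Nat.card H := by rw [Subgroup.orderOf_coe, orderOf_eq_card_of_forall_mem_zpowers hx]
  have hyn : m = Nat.card N := by rw [hm, Subgroup.orderOf_coe, orderOf_eq_card_of_forall_mem_zpowers hy]
  refine ⟨x, y, _, _, r, hgen, rfl, rfl, hr, ?_, ?_, hr1, ?_⟩
  · set K := Subgroup.zpowers ((y : G) ^ (r - 1)) with hK
    have hKN : K ≤ N := Subgroup.zpowers_le.2 (pow_mem y.2 _)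
    have hxK : ∀ k ∈ K, (x : G)⁻¹ * k * x ∈ K := by
      intro k hk
      obtain ⟨j, rfl⟩ := Subgroup.mem_zpowers_iff.1 hk
      have e : (x : G)⁻¹ * ((y : G) ^ (r - 1)) * x = ((y : G) ^ (r - 1)) ^ r := by
        rw [← pow_mul, mul_comm, pow_mul, ← hr]
        have := conj_pow (i := r - 1) (a := (x : G)⁻¹) (b := (y : G))
        simpa using this.symm
      have := conj_zpow (i := j) (a := (x : G)⁻¹) (b := (y : G) ^ (r - 1))
      rw [inv_inv, e] at this
      rw [← this]
      exact zpow_mem (pow_mem (Subgroup.mem_zpowers _) _) _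
    have hcl : ∀ g : G, g ∈ Subgroup.normalizer (K : Set G) := by
      have hfin : ∀ g : G, (∀ k ∈ K, g * k * g⁻¹ ∈ K) → g ∈ Subgroup.normalizer (K : Set G) := fun g hg =>
        Subgroup.mem_normalizer_fintype (S := (K : Set G)) (x := g) hg
      intro g
      have : g ∈ Subgroup.closure {(x : G), (y : G)} := hgen ▸ Subgroup.mem_top g
      refine Subgroup.closure_le _ |>.2 ?_ this
      rintro z (rfl | rfl)
      · rw [← inv_inv (x : G)]
        refine inv_mem (hfin _ fun k hk => ?_)
        rw [inv_inv]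
        exact hxK k hk
      · refine hfin _ fun k hk => ?_
        obtain ⟨j, rfl⟩ := Subgroup.mem_zpowers_iff.1 hk
        rw [((Commute.refl (y : G)).pow_right (r - 1)).zpow_right j, mul_inv_cancel_right]
        exact zpow_mem (Subgroup.mem_zpowers _) _
    haveI : K.Normal := Subgroup.normalizer_eq_top_iff.1 (eq_top_iff.2 fun g _ => hcl g)
    have hyK : (y : G) ∈ K := by
      have hc : IsMulCommutative (Subgroup.closure {QuotientGroup.mk' K (x : G), QuotientGroup.mk' K (y : G)}) := by
        apply Subgroup.isMulCommutative_closure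
        have hxy : QuotientGroup.mk' K (x : G) * QuotientGroup.mk' K (y : G) = QuotientGroup.mk' K (y : G) * QuotientGroup.mk' K (x : G) := by
          rw [← map_mul, ← map_mul, QuotientGroup.mk'_eq_mk']
          refine ⟨((x : G) * y)⁻¹ * ((y : G) * x), ?_, mul_inv_cancel_left _ _⟩
          have e : ((x : G) * y)⁻¹ * ((y : G) * x) = (y : G)⁻¹ * (y : G) ^ r := by rw [← hr]; group
          rw [e]
          obtain ⟨r', hr'⟩ := Nat.exists_eq_add_of_le hr1
          rw [hr', pow_add, pow_one, inv_mul_cancel_left, hK, hr', Nat.add_sub_cancel_left]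
          exact Subgroup.mem_zpowers _
        rintro a (rfl | rfl) b (rfl | rfl) <;> first | rfl | exact hxy | exact hxy.symm
      have htop : Subgroup.closure {QuotientGroup.mk' K (x : G), QuotientGroup.mk' K (y : G)} = ⊤ := by
        rw [← Set.image_pair, ← MonoidHom.map_closure, hgen, Subgroup.map_top_of_surjective _ (QuotientGroup.mk'_surjective K)]
      rw [htop] at hc
      have : N ≤ K := by
        rw [hN, commutator_def, Subgroup.commutator_le]
        intro a _ b _
        rw [← QuotientGroup.eq_one_iff]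
        show QuotientGroup.mk' K (a * b * a⁻¹ * b⁻¹) = 1
        rw [map_mul, map_mul, map_mul, map_inv, map_inv, mul_inv_eq_one, mul_inv_eq_iff_eq_mul]
        exact congrArg Subtype.val (hc.is_comm.comm ⟨QuotientGroup.mk' K a, trivial⟩ ⟨QuotientGroup.mk' K b, trivial⟩)
      exact this y.2
    have h2 : orderOf ((y : G) ^ (r - 1)) = m := by
      apply Nat.dvd_antisymm (orderOf_pow_dvd _)
      exact orderOf_dvd_of_mem_zpowers hyK
    rw [orderOf_pow, ← hm, Nat.div_eq_self] at h2
    rcases h2 with h2 | h2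
    · omega
    · rw [Nat.coprime_comm]; exact h2
  · rw [hxn, ← hm, hyn]; exact hcop.symm.symm.symm.coprime_dvd_left (Nat.card_congr hH.symm.leftQuotientEquiv.symm ▸ dvd_rfl)
  · have hk : ∀ k : ℕ, ((x : G) ^ k)⁻¹ * y * (x : G) ^ k = (y : G) ^ (r ^ k) := by
      intro k
      induction k with
      | zero => simp
      | succ k ih =>
        have hc := conj_pow (i := r ^ k) (a := (x : G)⁻¹) (b := (y : G))
        rw [inv_inv, hr, ← pow_mul, ← ih] at hc
        rw [pow_succ r k, mul_comm (r ^ k) r, hc, pow_succ]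
        group
    have h2 := hk (orderOf (x : G))
    rw [pow_orderOf_eq_one, inv_one, one_mul, mul_one] at h2
    nth_rw 1 [← pow_one (y : G)] at h2
    exact (pow_eq_pow_iff_modEq.1 h2).symm


end Cfsg.Agent.S3379
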