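import Cfsg.Statements.S3380
import Cfsg.Agent.Lib.PowerOrbits.Pair

set_option autoImplicit false
open Cfsg

namespace Cfsg.Agent.S3380

open Lib.PowerOrbits

/-- Let a finite p-group G act faithfully and irreducibly on a non-trivial finite vector space V over the field with q elements (q prime), and suppose G is not cyclic, generalized quaternion, dihedral or semidihedral. Then G has a subgroup H of index p and V is the direct sum of p subspaces, each invariant under H, on none of which H acts faithfully, and which every element of G outside H permutes in a single p-cycle. -/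
theorem result
    (q : ℕ) [Fact q.Prime] {V : Type*} [AddCommGroup V] [Module (ZMod q) V] [Finite V] [Nontrivial V]
    {G : Type*} [Group G] [Finite G] (p : ℕ) [Fact p.Prime] (hG : IsPGroup p G)
    (ρ : G →* (V ≃ₗ[ZMod q] V)) (hρ : Function.Injective ρ)
    (hirr : ∀ W : Submodule (ZMod q) V, (∀ g : G, ∀ w ∈ W, ρ g w ∈ W) → W = ⊥ ∨ W = ⊤)
    (hnc : ¬ IsCyclic G) (hnq : ∀ n : ℕ, ¬ Nonempty (G ≃* QuaternionGroup n))
    (hnd : ∀ n : ℕ, ¬ Nonempty (G ≃* DihedralGroup n)) (hnsd : ¬ Cfsg.IsQuasiDihedral G) :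
    ∃ (H : Subgroup G) (W : Fin p → Submodule (ZMod q) V), H.index = p ∧
      iSup W = ⊤ ∧ iSupIndep W ∧
      (∀ h ∈ H, ∀ i, ∀ w ∈ W i, ρ h w ∈ W i) ∧
      (∀ i, ∃ h ∈ H, h ≠ 1 ∧ ∀ w ∈ W i, ρ h w = w) ∧
      ∀ g : G, g ∉ H → ∃ σ : Equiv.Perm (Fin p), orderOf σ = p ∧ ∀ i, (W i).map (ρ g : V →ₗ[ZMod q] V) = W (σ i) := by
  classical
  haveI : Finite (V ≃ₗ[ZMod q] V) := Finite.of_injective _ DFunLike.coe_injective
  have hpq : p ≠ q := by
    rintro rfl
    apply hnc
    haveI : Subsingleton G := by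
      refine ⟨fun a b => ?_⟩
      suffices h1 : ∀ g : G, g = 1 by rw [h1 a, h1 b]
      letI : MulAction G V :=
        { smul := fun g v => ρ g v
          one_smul := fun v => by show ρ 1 v = v; rw [map_one]; rfl
          mul_smul := fun g h v => by show ρ (g * h) v = ρ g (ρ h v); rw [map_mul]; rfl }
      haveI : Module.Finite (ZMod p) V := Module.Finite.of_finite
      have hdvd : p ∣ Nat.card V := by
        rw [Module.natCard_eq_pow_finrank (K := ZMod p) (V := V), Nat.card_zmod]
        exact dvd_pow_self p Module.finrank_pos.ne'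
      obtain ⟨v, hv, hv0⟩ := hG.exists_fixed_point_of_prime_dvd_card_of_fixed_point V hdvd
        (a := (0 : V)) (fun g => map_zero (ρ g))
      let U : Submodule (ZMod p) V :=
        { carrier := {w | ∀ g : G, ρ g w = w}
          zero_mem' := fun g => map_zero (ρ g)
          add_mem' := fun {x y} hx hy g => by rw [map_add, hx g, hy g]
          smul_mem' := fun c x hx g => by rw [map_smul, hx g] }
      rcases hirr U (fun g w hw g' => by rw [hw g, hw g']) with h | h
      · exfalso
        have hvU : v ∈ U := hv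
        rw [h, Submodule.mem_bot] at hvU
        exact hv0 hvU.symm
      · intro g
        refine hρ (LinearEquiv.ext fun w => ?_)
        rw [map_one]
        exact (h ▸ Submodule.mem_top : w ∈ U) g
    infer_instance
  let φ : G ≃* ↥(⊤ : Subgroup ↥ρ.range) :=
    (MonoidHom.ofInjective hρ).trans Subgroup.topEquiv.symm
  have hφ : ∀ (g : G) (v : V), φ g • v = ρ g v := fun g v => rfl
  -- a noncyclic abelian normal subgroup
  obtain ⟨A, hAn, hAc, hA⟩ : ∃ A : Subgroup G, A.Normal ∧ IsMulCommutative ↥A ∧ ¬ IsCyclic ↥A := by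
    by_contra hc
    push Not at hc
    obtain ⟨-, ⟨m, hm⟩ | ⟨m, -, hm⟩ | hm⟩ :=
      Lib.Classification.classification_of_cyclic_normal_abelian hG hc hnc
    exacts [hnq m hm, hnd m hm, hnsd hm]
  haveI hAφ : (A.map φ.toMonoidHom).Normal := hAn.map _ φ.surjective
  obtain ⟨z, b, hzb⟩ := exists_normalPair (p := p) (hG.of_equiv φ) (A := A.map φ.toMonoidHom)
    ⟨⟨fun x y => by
      obtain ⟨x', hx', hx⟩ := x.2
      obtain ⟨y', hy', hy⟩ := y.2
      apply Subtype.ext
      rw [Subgroup.coe_mul, Subgroup.coe_mul, ← hx, ← hy, ← map_mul, ← map_mul]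
      exact congrArg _ (congrArg Subtype.val (hAc.is_comm.comm ⟨x', hx'⟩ ⟨y', hy'⟩))⟩⟩
    (fun h => hA ((A.equivMapOfInjective φ.toMonoidHom φ.injective).isCyclic.mpr h))
  have hirr' : ∀ U : Submodule (ZMod q) V,
      (∀ w ∈ (⊤ : Subgroup ↥ρ.range), ∀ x ∈ U, w • x ∈ U) → U = ⊥ ∨ U = ⊤ := fun U hU =>
    hirr U fun g w hw => hU ⟨ρ g, ⟨g, rfl⟩⟩ (Subgroup.mem_top _) w hw
  obtain ⟨W, hW, hfix⟩ := blocks_of_normalPair_fixed hpq hirr' hzb
  haveI : NeZero p := ⟨(Fact.out : p.Prime).ne_zero⟩
  have hshift : ∀ g : G, ∃ c : ZMod p, ∀ i, ∀ w ∈ W i, ρ g w ∈ W (i + c) := fun g =>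
    hW.shift _ ⟨⟨ρ g, ⟨g, rfl⟩⟩, Subgroup.mem_top _, rfl⟩
  choose χ hχ using hshift
  have huniq : ∀ (g : G) (c i : ZMod p), (∀ w ∈ W i, ρ g w ∈ W (i + c)) → χ g = c := by
    intro g c i hc
    obtain ⟨w, hw, hw0⟩ := hW.exists_ne_zero i
    by_contra hne
    refine hw0 ((ρ g).map_eq_zero_iff.mp (hW.eq_zero_of_mem (i := i + χ g) (j := i + c) ?_
      (hχ g i w hw) (hc w hw)))
    exact fun h => hne (add_left_cancel h)
  have hmul : ∀ g h, χ (g * h) = χ g + χ h := fun g h => huniq _ _ 0 fun w hw => by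
    rw [map_mul, LinearEquiv.mul_apply]
    have := hχ g _ _ (hχ h 0 w hw)
    rwa [add_comm (χ g), ← add_assoc]
  let f : G →* Multiplicative (ZMod p) := MonoidHom.mk' (fun g => Multiplicative.ofAdd (χ g))
    fun g h => by rw [hmul]; rfl
  have hker : ∀ g, g ∈ f.ker ↔ χ g = 0 := fun g => by
    rw [MonoidHom.mem_ker]
    exact ⟨fun h => Multiplicative.ofAdd.injective h, fun h => congrArg Multiplicative.ofAdd h⟩
  have hne : ∃ g, χ g ≠ 0 := by
    by_contra hc
    push Not at hc
    rcases hirr (W 0) (fun g w hw => by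
      have := hχ g 0 w hw
      rwa [hc g, add_zero] at this) with h | h
    · exact hW.ne_bot 0 h
    · obtain ⟨w, hw, hw0⟩ := hW.exists_ne_zero 1
      exact hw0 (hW.eq_zero_of_mem one_ne_zero hw (h ▸ Submodule.mem_top))
  have hidx : f.ker.index = p := by
    rw [Subgroup.index_ker]
    obtain ⟨g, hg⟩ := hne
    rcases (Nat.dvd_prime Fact.out).mp (show Nat.card ↥f.range ∣ p by
      have := Subgroup.card_subgroup_dvd_card f.range
      simpa using this) with h | h
    · exfalso
      rw [Subgroup.card_eq_one, MonoidHom.range_eq_bot_iff] at h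
      exact hg ((hker g).mp (h ▸ rfl : g ∈ f.ker))
    · exact h
  let e : Fin p ≃ ZMod p := (ZMod.finEquiv p).toEquiv
  refine ⟨f.ker, fun i => W (e i), hidx, ?_, ?_, ?_, ?_, ?_⟩
  · rw [eq_top_iff]
    intro v _
    obtain ⟨F, hF⟩ := hW.bij.2 v
    rw [← hF]
    exact Submodule.sum_mem _ fun j _ =>
      Submodule.mem_iSup_of_mem (e.symm j) (by rw [e.apply_symm_apply]; exact (F j).2)
  · rw [iSupIndep_def]
    intro i
    rw [Submodule.disjoint_def]
    intro x hxi hx
    obtain ⟨F, hF0, hF⟩ : ∃ F : (j : ZMod p) → W j, (F (e i) : V) = 0 ∧ ∑ j, (F j : V) = x := by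
      clear hxi
      induction hx using Submodule.iSup_induction' with
      | mem j y hy =>
        by_cases hji : j = i
        · subst hji
          simp only [ne_eq, not_true_eq_false, iSup_false, Submodule.mem_bot] at hy
          subst hy
          exact ⟨0, rfl, by simp⟩
        · simp only [ne_eq, hji, not_false_eq_true, iSup_pos] at hy
          refine ⟨Pi.single (e j) ⟨y, hy⟩, by
            rw [Pi.single_eq_of_ne (fun h => hji (e.injective h).symm)]; rfl, ?_⟩
          rw [Fintype.sum_eq_single (e j) (fun k hk => by simp [hk]), Pi.single_eq_same]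
      | zero => exact ⟨0, rfl, by simp⟩
      | add y y' _ _ hy hy' =>
        obtain ⟨F, hF0, hF⟩ := hy
        obtain ⟨F', hF0', hF'⟩ := hy'
        exact ⟨F + F', by simp [hF0, hF0'], by simp [Finset.sum_add_distrib, hF, hF']⟩
    have h1 : F = Pi.single (e i) ⟨x, hxi⟩ := hW.bij.1 (by
      simp only
      rw [hF, Fintype.sum_eq_single (e i) (fun k hk => by simp [hk]), Pi.single_eq_same])
    rw [h1, Pi.single_eq_same] at hF0
    exact hF0
  · intro h hh i w hw
    have := hχ h (e i) w hw
    rwa [(hker h).mp hh, add_zero] at this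
  · intro i
    obtain ⟨w, hw1, hw⟩ := hfix (e i)
    refine ⟨φ.symm w, (hker _).mpr (huniq _ 0 (e i) fun v hv => ?_), ?_, fun v hv => ?_⟩
    · rw [← hφ, MulEquiv.apply_symm_apply, hw v hv, add_zero]; exact hv
    · intro h1
      exact hw1 (by rw [← φ.apply_symm_apply w, h1, map_one])
    · rw [← hφ, MulEquiv.apply_symm_apply, hw v hv]
  · intro g hg
    have hc : χ g ≠ 0 := fun h => hg ((hker g).mpr h)
    let σ : Equiv.Perm (Fin p) := (e.trans (Equiv.addRight (χ g))).trans e.symm
    refine ⟨σ, ?_, fun i => ?_⟩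
    · have hpow : ∀ (n : ℕ) (i : Fin p), (σ ^ n) i = e.symm (e i + n • χ g) := by
        intro n
        induction n with
        | zero => intro i; simp
        | succ n ih =>
          intro i
          rw [pow_succ', Equiv.Perm.mul_apply, ih]
          show e.symm (e (e.symm (e i + n • χ g)) + χ g) = _
          rw [e.apply_symm_apply, succ_nsmul, add_assoc]
      refine orderOf_eq_prime (Equiv.ext fun i => ?_) fun h1 => ?_
      · rw [hpow, nsmul_eq_mul, ZMod.natCast_self, zero_mul, add_zero, e.symm_apply_apply]; rfl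
      · have h2 := Equiv.ext_iff.mp h1 (e.symm 0)
        rw [Equiv.Perm.one_apply] at h2
        have h3 : e.symm (e (e.symm 0) + χ g) = e.symm 0 := h2
        rw [e.apply_symm_apply, zero_add] at h3
        exact hc (e.symm.injective h3)
    · show (W (e i)).map _ = W (e (e.symm (e i + χ g)))
      rw [e.apply_symm_apply]
      refine le_antisymm ?_ fun y hy => ?_
      · rintro _ ⟨w, hw, rfl⟩
        exact hχ g _ w hw
      · refine ⟨ρ g⁻¹ y, ?_, ?_⟩
        · have := hχ g⁻¹ _ y hy
          have h0 : χ g + χ g⁻¹ = 0 := by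
            rw [← hmul, mul_inv_cancel]
            exact huniq 1 0 0 fun w hw => by rw [map_one, add_zero]; exact hw
          rwa [add_assoc, h0, add_zero] at this
        · show ρ g (ρ g⁻¹ y) = y
          rw [← LinearEquiv.mul_apply, ← map_mul, mul_inv_cancel, map_one]; rfl

end Cfsg.Agent.S3380
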