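import Cfsg.Statements.S3381

set_option autoImplicit false
set_option linter.style.haveILetI false
open Cfsg

namespace Cfsg.Agent.S3381

/-- Let G be a finite group acting faithfully and linearly on a non-trivial finite vector space V over the field with q elements (q prime) so that every non-zero vector has a stabilizer of order 2, and suppose G has a central involution. Then V has q^(2r) elements for some r and G contains exactly q^r + 1 non-central involutions. -/
theorem result
    (q : ℕ) [Fact q.Prime] {V : Type*} [AddCommGroup V] [Module (ZMod q) V] [Finite V] [Nontrivial V]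
    {G : Type*} [Group G] [Finite G] (ρ : G →* (V ≃ₗ[ZMod q] V)) (hρ : Function.Injective ρ)
    (hstab : ∀ v : V, v ≠ 0 → Nat.card {g : G // ρ g v = v} = 2)
    (z : G) (hz : orderOf z = 2) (hzc : z ∈ Subgroup.center G) :
    ∃ r : ℕ, Nat.card V = q ^ (2 * r) ∧
      Nat.card {g : G // orderOf g = 2 ∧ g ∉ Subgroup.center G} = q ^ r + 1 := by
  classical
  set W := fun t : G => LinearMap.ker ((ρ t : V →ₗ[ZMod q] V) - LinearMap.id)
  have hW : ∀ (t : G) (v : V), v ∈ W t ↔ ρ t v = v := by
    intro t v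
    simp [W, sub_eq_zero]
  have hmulap : ∀ (a b : G) (v : V), ρ (a * b) v = ρ a (ρ b v) := fun a b v => by rw [map_mul]; rfl
  have hone : ∀ v : V, ρ 1 v = v := fun v => by rw [map_one]; rfl
  have hpair : ∀ v : V, v ≠ 0 → ∀ s t : G, s ≠ 1 → t ≠ 1 → ρ s v = v → ρ t v = v → s = t := by
    intro v hv s t hs ht hsv htv
    by_contra hst
    have h := hstab v hv
    haveI := Fintype.ofFinite G
    rw [Nat.card_eq_fintype_card, Fintype.card_subtype] at h
    have hsub : ({1, s, t} : Finset G) ⊆ Finset.univ.filter (fun g => ρ g v = v) := by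
      intro x hx
      simp only [Finset.mem_insert, Finset.mem_singleton] at hx
      rcases hx with rfl | rfl | rfl <;> simp [hone, hsv, htv]
    have := Finset.card_le_card hsub
    rw [h, Finset.card_insert_of_notMem (by simp [Ne.symm hs, Ne.symm ht]), Finset.card_pair hst] at this
    omega
  have hexist : ∀ v : V, v ≠ 0 → ∃ t : G, t ≠ 1 ∧ ρ t v = v := by
    intro v hv
    obtain ⟨⟨a, ha⟩, ⟨b, hb⟩, hab, -⟩ := Nat.card_eq_two_iff.1 (hstab v hv)
    by_cases ha1 : a = 1
    · exact ⟨b, fun hb1 => hab (Subtype.ext (ha1.trans hb1.symm)), hb⟩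
    · exact ⟨a, ha1, ha⟩
  have hsq : ∀ (t : G) (v : V), v ≠ 0 → t ≠ 1 → ρ t v = v → t * t = 1 := by
    intro t v hv ht htv
    by_contra h
    have := hpair v hv (t * t) t h ht (by rw [hmulap, htv, htv]) htv
    exact ht (mul_left_cancel (this.trans (mul_one t).symm))
  -- central elements fix no nonzero vector
  have hcen : ∀ c ∈ Subgroup.center G, c ≠ 1 → ∀ v : V, v ≠ 0 → ρ c v ≠ v := by
    intro c hc hc1 v hv hcv
    have hc2 := hsq c v hv hc1 hcv
    have hcomm : ∀ (g : G) (w : V), ρ c (ρ g w) = ρ g (ρ c w) := fun g w => by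
      rw [← hmulap, ← hmulap, (Subgroup.mem_center_iff.1 hc g)]
    obtain ⟨w, hw⟩ : ∃ w, ρ c w ≠ w := by
      by_contra h
      push_neg at h
      exact hc1 (hρ (LinearEquiv.ext fun w => by rw [h, hone]))
    have hneg : ∀ w, ρ c w ≠ w → ρ c w = -w := by
      intro w hw
      by_contra h
      have hu : ρ c w + w ≠ 0 := fun e => h (eq_neg_of_add_eq_zero_left e)
      have hw0 : w ≠ 0 := fun e => hw (by rw [e, map_zero])
      obtain ⟨t, ht1, htw⟩ := hexist w hw0
      have huc : ρ c (ρ c w + w) = ρ c w + w := by rw [map_add, ← hmulap, hc2, hone, add_comm]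
      have hut : ρ t (ρ c w + w) = ρ c w + w := by rw [map_add, ← hcomm, htw]
      exact hw (hpair _ hu t c ht1 hc1 hut huc ▸ htw)
    have h1 := hneg w hw
    have hvw : ρ c (v + w) ≠ v + w := by
      rw [map_add, hcv]; exact fun h => hw (add_left_cancel h)
    have h2 := hneg _ hvw
    rw [map_add, hcv, h1, neg_add] at h2
    have h3 : v = -v := add_right_cancel h2
    have h4 : (2 : ZMod q) • v = 0 := by rw [two_smul]; nth_rw 2 [h3]; exact add_neg_cancel v
    have h5 : (2 : ZMod q) = 0 := (smul_eq_zero.1 h4).resolve_right hv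
    apply hw
    rw [h1, ← neg_one_smul (ZMod q) w, show (-1 : ZMod q) = 1 by linear_combination (-1 : ZMod q) * h5, one_smul]
  have hz1 : z ≠ 1 := fun h => by rw [h, orderOf_one] at hz; omega
  have hz2 : z * z = 1 := by rw [← sq, ← hz, pow_orderOf_eq_one]
  have hzneg : ∀ v, ρ z v = -v := by
    intro v
    by_contra h
    have hu : ρ z v + v ≠ 0 := fun e => h (eq_neg_of_add_eq_zero_left e)
    exact hcen z hzc hz1 _ hu (by rw [map_add, ← hmulap, hz2, hone, add_comm])
  have h2ne : (2 : ZMod q) ≠ 0 := by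
    intro h5
    apply hz1
    apply hρ
    refine LinearEquiv.ext fun v => ?_
    rw [hzneg, hone, ← neg_one_smul (ZMod q) v, show (-1 : ZMod q) = 1 by linear_combination (-1 : ZMod q) * h5, one_smul]
  haveI := Fintype.ofFinite G
  haveI := Fintype.ofFinite V
  let T : Finset G := Finset.univ.filter fun t => orderOf t = 2 ∧ t ∉ Subgroup.center G
  have hT : ∀ t ∈ T, t ≠ 1 ∧ t * t = 1 ∧ t ∉ Subgroup.center G := by
    intro t ht
    obtain ⟨-, h1, h2⟩ := Finset.mem_filter.1 ht
    exact ⟨fun h => by rw [h, orderOf_one] at h1; omega, by rw [← sq, ← h1, pow_orderOf_eq_one], h2⟩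
  have hmemT : ∀ t : G, t ≠ 1 → ∀ v : V, v ≠ 0 → ρ t v = v → t ∈ T := by
    intro t ht v hv htv
    refine Finset.mem_filter.2 ⟨Finset.mem_univ t, orderOf_eq_prime (by rw [sq]; exact hsq t v hv ht htv) ht, fun hc => hcen t hc ht v hv htv⟩
  have hzT : ∀ t ∈ T, t * z ∈ T := by
    intro t ht
    obtain ⟨h1, h2, h3⟩ := hT t ht
    have hne : t * z ≠ 1 := fun h => h3 (by
      rw [show t = z⁻¹ from eq_inv_of_mul_eq_one_left h]; exact inv_mem hzc)
    refine Finset.mem_filter.2 ⟨Finset.mem_univ _, orderOf_eq_prime ?_ hne, fun hc => h3 ?_⟩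
    · rw [sq, mul_assoc, ← mul_assoc z t z, ← Subgroup.mem_center_iff.1 hzc t, mul_assoc t z z, hz2, mul_one, h2]
    · have := mul_mem hc (inv_mem hzc)
      rwa [mul_inv_cancel_right] at this
  have hWne : ∀ t ∈ T, W t ≠ ⊥ := by
    intro t ht h
    obtain ⟨h1, h2, h3⟩ := hT t ht
    apply h3
    have : t = z := hρ (LinearEquiv.ext fun v => by
      have hu : ρ t v + v ∈ W t := by rw [hW, map_add, ← hmulap, h2, hone, add_comm]
      rw [h, Submodule.mem_bot] at hu
      rw [hzneg]; exact eq_neg_of_add_eq_zero_left hu)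
    rw [this]; exact hzc
  have hdis : ∀ t ∈ T, ∀ s ∈ T, s ≠ t → Disjoint (W t) (W s) := by
    intro t ht s hs hst
    rw [Submodule.disjoint_def]
    intro v hvt hvs
    by_contra hv
    exact hst (hpair v hv s t (hT s hs).1 (hT t ht).1 ((hW s v).1 hvs) ((hW t v).1 hvt))
  have hsplit : ∀ t ∈ T, IsCompl (W t) (W (t * z)) := by
    intro t ht
    have hne : t * z ≠ t := fun h => hz1 (mul_eq_left.1 h)
    refine ⟨hdis t ht _ (hzT t ht) hne, codisjoint_iff_le_sup.2 fun v _ => ?_⟩
    obtain ⟨h1, h2, -⟩ := hT t ht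
    rw [Submodule.mem_sup]
    refine ⟨(2 : ZMod q)⁻¹ • (v + ρ t v), ?_, (2 : ZMod q)⁻¹ • (v - ρ t v), ?_, ?_⟩
    · rw [hW, map_smul, map_add, ← hmulap, h2, hone, add_comm]
    · rw [hW, hmulap, hzneg, map_neg, map_smul, map_sub, ← hmulap, h2, hone, ← smul_neg, neg_sub]
    · rw [← smul_add, show v + ρ t v + (v - ρ t v) = (2 : ZMod q) • v by rw [two_smul]; abel, smul_smul,
        inv_mul_cancel₀ h2ne, one_smul]
  obtain ⟨v₀, hv₀⟩ := exists_ne (0 : V)
  obtain ⟨t, ht1, htv⟩ := hexist v₀ hv₀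
  have ht : t ∈ T := hmemT t ht1 v₀ hv₀ htv
  set a := fun s : G => Module.finrank (ZMod q) (W s)
  haveI : Module.Finite (ZMod q) V := Module.Finite.of_finite
  have hsum : ∀ s ∈ T, a s + a (s * z) = Module.finrank (ZMod q) V := fun s hs => Submodule.finrank_add_eq_of_isCompl (hsplit s hs)
  have hle : ∀ s ∈ T, ∀ u ∈ T, u ≠ s → a s + a u ≤ Module.finrank (ZMod q) V := by
    intro s hs u hu hne
    exact Submodule.finrank_add_finrank_le_of_disjoint (hdis s hs u hu hne)
  obtain ⟨s, hs, hst, hstz⟩ : ∃ s ∈ T, s ≠ t ∧ s ≠ t * z := by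
    obtain ⟨v, hv, hv0⟩ := (Submodule.ne_bot_iff _).1 (hWne t ht)
    obtain ⟨w, hw, hw0⟩ := (Submodule.ne_bot_iff _).1 (hWne _ (hzT t ht))
    have hd := Submodule.disjoint_def.1 (hsplit t ht).disjoint
    have hvw : v + w ≠ 0 := fun h => hv0 (hd v hv (by rw [eq_neg_of_add_eq_zero_left h]; exact neg_mem hw))
    obtain ⟨s, hs1, hsv⟩ := hexist _ hvw
    refine ⟨s, hmemT s hs1 _ hvw hsv, fun h => ?_, fun h => ?_⟩
    · exact hw0 (hd w (by have := sub_mem ((hW t _).2 (h ▸ hsv)) hv; simpa using this) hw)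
    · exact hv0 (hd v hv (by have := sub_mem ((hW (t * z) _).2 (h ▸ hsv)) hw; simpa using this))
  have hhalf : ∀ u ∈ T, 2 * a u = Module.finrank (ZMod q) V := by
    have hnz : ∀ u : G, u * z * z = u := fun u => by rw [mul_assoc, hz2, mul_one]
    have key : ∀ u ∈ T, ∀ w ∈ T, u ≠ w → u ≠ w * z → a u = a w := by
      intro u hu w hw h1 h2
      have e1 := hsum u hu; have e2 := hsum w hw
      have f1 := hle u hu w hw h1.symm
      have f2 := hle u hu (w * z) (hzT w hw) (Ne.symm h2)
      have f3 := hle (u * z) (hzT u hu) w hw (fun h => h2 (by rw [h, hnz]))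
      have f4 := hle (u * z) (hzT u hu) (w * z) (hzT w hw) (fun h => h1 (mul_right_cancel h.symm))
      omega
    intro u hu
    have hcase : u = t ∨ u = t * z ∨ (u ≠ t ∧ u ≠ t * z) := by tauto
    have hst' : a s = a t := key s hs t ht hst hstz
    have hst'' : a s = a (t * z) := key s hs _ (hzT t ht) hstz (by rw [hnz]; exact hst)
    have := hsum t ht
    rcases hcase with rfl | rfl | ⟨h1, h2⟩
    · omega
    · omega
    · have h3 := key u hu t ht h1 h2
      omega
  set r := a t with hr
  have hV : Module.finrank (ZMod q) V = 2 * r := (hhalf t ht).symm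
  have hcardV : Nat.card V = q ^ (2 * r) := by rw [Module.natCard_eq_pow_finrank (K := ZMod q), hV, Nat.card_zmod]
  refine ⟨r, hcardV, ?_⟩
  have hcardW : ∀ u ∈ T, ((Finset.univ : Finset V).filter fun v => v ≠ 0 ∧ ρ u v = v).card = q ^ r - 1 := by
    intro u hu
    have h1 : Nat.card (W u) = q ^ r := by
      rw [Module.natCard_eq_pow_finrank (K := ZMod q), Nat.card_zmod]
      congr 1
      show a u = r
      have := hhalf u hu
      omega
    rw [Nat.card_eq_fintype_card, Fintype.card_subtype] at h1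
    rw [← h1, show (Finset.univ.filter fun v => v ≠ 0 ∧ ρ u v = v) = (Finset.univ.filter fun v => v ∈ W u).erase 0 from by
      ext v; simp [hW], Finset.card_erase_of_mem (by simp)]
  have hcover : (Finset.univ : Finset V).erase 0 = T.biUnion fun u => Finset.univ.filter fun v => v ≠ 0 ∧ ρ u v = v := by
    ext v
    simp only [Finset.mem_erase, Finset.mem_univ, and_true, Finset.mem_biUnion, Finset.mem_filter, true_and]
    refine ⟨fun hv => ?_, fun ⟨u, _, hv, _⟩ => hv⟩
    obtain ⟨u, hu1, huv⟩ := hexist v hv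
    exact ⟨u, hmemT u hu1 v hv huv, hv, huv⟩
  have hN := congrArg Finset.card hcover
  rw [Finset.card_biUnion (fun u hu w hw huw => Finset.disjoint_left.2 fun v hv hv' => by
      simp only [Finset.mem_filter] at hv hv'
      exact huw (hpair v hv.2.1 u w (hT u hu).1 (hT w hw).1 hv.2.2 hv'.2.2)),
    Finset.sum_congr rfl hcardW, Finset.sum_const, smul_eq_mul, Finset.card_erase_of_mem (Finset.mem_univ _),
    Finset.card_univ, ← Nat.card_eq_fintype_card, hcardV] at hN
  rw [Nat.card_eq_fintype_card, Fintype.card_subtype]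
  show T.card = _
  have hq2 : 2 ≤ q := (Fact.out : q.Prime).two_le
  have hrpos : r ≠ 0 := fun h => by
    have : 0 < Module.finrank (ZMod q) V := Module.finrank_pos
    omega
  have hqr : 2 ≤ q ^ r := hq2.trans (Nat.le_self_pow hrpos q)
  obtain ⟨e, he⟩ := Nat.exists_eq_add_of_le (show 1 ≤ q ^ r by omega)
  have hsq2 : q ^ (2 * r) = q ^ r * q ^ r := by rw [two_mul, pow_add]
  rw [hsq2, he, Nat.add_sub_cancel_left] at hN
  have hepos : 0 < e := by omega
  rw [he]
  refine Nat.eq_of_mul_eq_mul_right hepos ?_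
  rw [← hN]
  have h5 : (1 + e) * (1 + e) = (1 + e + 1) * e + 1 := by ring
  omega


end Cfsg.Agent.S3381
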