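import Cfsg.Statements.S3382
import Mathlib

set_option autoImplicit false
set_option linter.style.haveILetI false
open Cfsg

namespace Cfsg.Agent.S3382

/-- Let q = 2^m + 1 be a prime other than 5. Then the automorphism group of the group of linear maps of F_q² of the forms (x, y) ↦ (a x, ± a⁻¹ y) and (x, y) ↦ (± a⁻¹ y, a x) with a ≠ 0 is itself a 2-group. -/
theorem result (q m : ℕ) [Fact q.Prime] (hq : q = 2 ^ m + 1) (hq5 : q ≠ 5)
    (T : Subgroup ((Fin 2 → ZMod q) ≃ₗ[ZMod q] (Fin 2 → ZMod q)))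
    (hT : ∀ f, f ∈ T ↔ ∃ a s : ZMod q, a ≠ 0 ∧ (s = 1 ∨ s = -1) ∧
      ((∀ v, f v = ![a * v 0, s * a⁻¹ * v 1]) ∨ (∀ v, f v = ![s * a⁻¹ * v 1, a * v 0]))) :
    IsPGroup 2 (MulAut T) := by
  classical
  -- diagonal maps and the swap
  have hDex : ∀ a b : (ZMod q)ˣ, ∃ f : (Fin 2 → ZMod q) ≃ₗ[ZMod q] (Fin 2 → ZMod q), ∀ v i, f v i = ![(a : ZMod q), (b : ZMod q)] i * v i := by
    intro a b
    have h1 : ∀ i : Fin 2, ![((a⁻¹ : (ZMod q)ˣ) : ZMod q), ((b⁻¹ : (ZMod q)ˣ) : ZMod q)] i * ![(a : ZMod q), (b : ZMod q)] i = 1 := by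
      intro i
      fin_cases i
      · exact a.inv_mul
      · exact b.inv_mul
    refine ⟨{ toFun := fun v i => ![(a : ZMod q), (b : ZMod q)] i * v i
              invFun := fun v i => ![((a⁻¹ : (ZMod q)ˣ) : ZMod q), ((b⁻¹ : (ZMod q)ˣ) : ZMod q)] i * v i
              map_add' := fun v w => funext fun i => mul_add _ _ _
              map_smul' := fun c v => funext fun i => mul_left_comm _ _ _
              left_inv := fun v => funext fun i => by
                show _ * (_ * v i) = v i
                rw [← mul_assoc, h1, one_mul]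
              right_inv := fun v => funext fun i => by
                show _ * (_ * v i) = v i
                rw [← mul_assoc, mul_comm (![(a : ZMod q), (b : ZMod q)] i), h1, one_mul] }, fun v i => rfl⟩
  choose D hD using hDex
  obtain ⟨z, hz⟩ : ∃ z : (Fin 2 → ZMod q) ≃ₗ[ZMod q] (Fin 2 → ZMod q), ∀ v, z v = ![v 1, v 0] :=
    ⟨{ toFun := fun v => ![v 1, v 0]
       invFun := fun v => ![v 1, v 0]
       map_add' := fun v w => by funext i; fin_cases i <;> simp
       map_smul' := fun c v => by funext i; fin_cases i <;> simp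
       left_inv := fun v => by funext i; fin_cases i <;> simp
       right_inv := fun v => by funext i; fin_cases i <;> simp }, fun v => rfl⟩
  have hDv : ∀ a b v, D a b v = ![(a : ZMod q) * v 0, (b : ZMod q) * v 1] := fun a b v => by
    funext i; rw [hD]; fin_cases i <;> simp
  have hmul : ∀ a b c d, D a b * D c d = D (a * c) (b * d) := fun a b c d => by
    refine LinearEquiv.ext fun v => ?_
    show D a b (D c d v) = _
    rw [hDv, hDv, hDv]; simp [mul_assoc]
  have hone : D 1 1 = 1 := LinearEquiv.ext fun v => by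
    rw [hDv]; funext i; fin_cases i <;> simp
  have hinj : ∀ a b c d, D a b = D c d → a = c ∧ b = d := fun a b c d h => by
    have h1 := congrArg (fun f : (Fin 2 → ZMod q) ≃ₗ[ZMod q] (Fin 2 → ZMod q) => f 1) h
    simp only [hDv] at h1
    exact ⟨Units.ext (by simpa using congrFun h1 0), Units.ext (by simpa using congrFun h1 1)⟩
  have hzD : ∀ a b, z * D a b = D b a * z := fun a b => LinearEquiv.ext fun v => by
    show z (D a b v) = D b a (z v)
    rw [hz, hz, hDv, hDv]; simp
  have hzz : z * z = 1 := LinearEquiv.ext fun v => by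
    show z (z v) = v
    rw [hz, hz]; funext i; fin_cases i <;> simp
  have hsq : ∀ a b, (z * D a b) * (z * D a b) = D (a * b) (a * b) := fun a b => by
    rw [mul_assoc, ← mul_assoc (D a b) z, ← hzD, mul_assoc z (D b a), hmul, ← mul_assoc, hzz, one_mul, mul_comm b a]
  have hTD : ∀ a b, D a b ∈ T ↔ (a * b = 1 ∨ a * b = -1) := by
    intro a b
    rw [hT]
    constructor
    · rintro ⟨c, s, hc, hs, h | h⟩
      · have h0 := h 1
        rw [hDv] at h0
        have e0 := congrFun h0 0
        have e1 := congrFun h0 1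
        simp only [Pi.one_apply, mul_one, Matrix.cons_val_zero, Matrix.cons_val_one] at e0 e1
        rcases hs with rfl | rfl
        · left; apply Units.ext; rw [Units.val_mul, e0, e1]; field_simp; simp
        · right; apply Units.ext; rw [Units.val_mul, e0, e1]; field_simp; simp
      · exfalso
        have h0 := congrFun (h ![1, 0]) 0
        rw [hDv] at h0
        simp at h0
    · intro h
      refine ⟨(a : ZMod q), (a : ZMod q) * b, a.ne_zero, ?_, Or.inl fun v => ?_⟩
      · rcases h with h | h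
        · exact Or.inl (by rw [← Units.val_mul, h, Units.val_one])
        · exact Or.inr (by rw [← Units.val_mul, h, Units.val_neg, Units.val_one])
      · rw [hDv, show (a : ZMod q) * b * (a : ZMod q)⁻¹ = b by field_simp]
  have hzT : z ∈ T := (hT z).2 ⟨1, 1, one_ne_zero, Or.inl rfl, Or.inr fun v => by rw [hz]; simp⟩
  have hcases : ∀ f ∈ T, ∃ a b, D a b ∈ T ∧ (f = D a b ∨ f = z * D a b) := by
    intro f hf
    obtain ⟨c, s, hc, hs, h | h⟩ := (hT f).1 hf
    all_goals
      have hs0 : s * c⁻¹ ≠ 0 := mul_ne_zero (by rcases hs with rfl | rfl <;> simp) (inv_ne_zero hc)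
      let a : (ZMod q)ˣ := Units.mk0 c hc
      let b : (ZMod q)ˣ := Units.mk0 (s * c⁻¹) hs0
      have hab : D a b ∈ T := by
        rw [hTD]
        rcases hs with rfl | rfl
        · exact Or.inl (Units.ext (by simp [a, b]; field_simp))
        · exact Or.inr (Units.ext (by simp [a, b]; field_simp))
      refine ⟨a, b, hab, ?_⟩
    · exact Or.inl (LinearEquiv.ext fun v => by rw [h, hDv]; rfl)
    · refine Or.inr (LinearEquiv.ext fun v => ?_)
      show f v = z (D a b v)
      rw [h, hz, hDv]; simp [a, b]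
  have hqm : Nat.card (ZMod q)ˣ = 2 ^ m := by
    rw [Nat.card_eq_fintype_card, ZMod.card_units, hq, Nat.add_sub_cancel]
  have hu : ∀ a : (ZMod q)ˣ, a ^ (2 ^ m) = 1 := fun a => hqm ▸ pow_card_eq_one'
  have hDpow : ∀ a b (k : ℕ), D a b ^ k = D (a ^ k) (b ^ k) := by
    intro a b k
    induction k with
    | zero => simp [hone]
    | succ k ih => rw [pow_succ, ih, hmul, pow_succ, pow_succ]
  have hz4 : ∀ a b, D a b ∈ T → (z * D a b) ^ 4 = 1 := by
    intro a b h
    rw [show (4 : ℕ) = 2 * 2 from rfl, pow_mul, sq (z * D a b), hsq, hDpow]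
    rcases (hTD a b).1 h with h1 | h1 <;> simp [h1, hone]
  have h2 : ∀ x : T, x ^ (2 ^ (m + 2)) = 1 := by
    rintro ⟨x, hx⟩
    apply Subtype.ext
    rw [SubgroupClass.coe_pow, OneMemClass.coe_one]
    obtain ⟨a, b, hab, rfl | rfl⟩ := hcases x hx
    · rw [pow_add, pow_mul, hDpow, hu, hu, hone, one_pow]
    · show (z * D a b) ^ (2 ^ (m + 2)) = 1
      rw [pow_add, mul_comm, pow_mul, show (2 : ℕ) ^ 2 = 4 from rfl, hz4 a b hab, one_pow]
  haveI : Finite ((Fin 2 → ZMod q) ≃ₗ[ZMod q] (Fin 2 → ZMod q)) := Finite.of_injective (fun f => (f : (Fin 2 → ZMod q) → (Fin 2 → ZMod q))) DFunLike.coe_injective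
  haveI : Finite (MulAut T) := Finite.of_injective (fun f : MulAut T => (f : T → T)) DFunLike.coe_injective
  intro φ₀
  obtain ⟨k, n, hn, hkn⟩ := Nat.exists_eq_two_pow_mul_odd (n := orderOf φ₀) (orderOf_pos φ₀).ne'
  refine ⟨k, ?_⟩
  set φ := φ₀ ^ 2 ^ k with hφdef
  have hφn : φ ^ n = 1 := by rw [hφdef, ← pow_mul, ← hkn, pow_orderOf_eq_one]
  have key : ∀ x t : T, φ x = x * t → φ t = t → φ x = x := by
    intro x t hx ht
    have h : ∀ i : ℕ, (φ ^ i) x = x * t ^ i := by
      intro i
      induction i with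
      | zero => simp
      | succ i ih => rw [pow_succ', MulAut.mul_apply, ih, map_mul, map_pow, hx, ht, mul_assoc, ← pow_succ']
    have h1 := h n
    rw [hφn, MulAut.one_apply, eq_comm, mul_eq_left] at h1
    have h3 : t = 1 := by
      rw [← orderOf_eq_one_iff]
      exact Nat.eq_one_of_dvd_coprimes ((Nat.coprime_two_left.2 hn).pow_left _) (orderOf_dvd_of_pow_eq_one (h2 t))
        (orderOf_dvd_of_pow_eq_one h1)
    rw [hx, h3, mul_one]
  suffices hall : ∀ x, φ x = x by
    exact MulEquiv.ext hall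
  rcases Nat.lt_or_ge m 1 with hm | hm
  · -- q = 2
    obtain rfl : m = 0 := by omega
    intro x
    have hsub : ∀ y : T, y = 1 ∨ (y : (Fin 2 → ZMod q) ≃ₗ[ZMod q] (Fin 2 → ZMod q)) = z := by
      rintro ⟨y, hy⟩
      obtain ⟨a, b, -, h | h⟩ := hcases y hy
      · left; apply Subtype.ext
        show y = 1
        rw [h, ← hone, show a = 1 by simpa using hu a, show b = 1 by simpa using hu b]
      · right
        show y = z
        rw [h, show a = 1 by simpa using hu a, show b = 1 by simpa using hu b, hone, mul_one]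
    rcases hsub x with rfl | hx
    · exact map_one φ
    rcases hsub (φ x) with h | h
    · rw [EmbeddingLike.map_eq_one_iff] at h
      rw [h, map_one]
    · exact Subtype.ext (h.trans hx.symm)
  have hq2 : q ≠ 2 := fun h => by
    have : 2 ≤ 2 ^ m := by simpa using Nat.pow_le_pow_right (show 1 ≤ 2 by norm_num) hm
    omega
  have hneg : (-1 : (ZMod q)ˣ) ≠ 1 := by
    intro h
    have h' : (-1 : ZMod q) = 1 := by simpa using congrArg Units.val h
    haveI : Fact (2 < q) := ⟨lt_of_le_of_ne (Fact.out : q.Prime).two_le (Ne.symm hq2)⟩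
    exact ZMod.neg_one_ne_one h'
  have hsqrt : ∀ a : (ZMod q)ˣ, a * a = 1 → a = 1 ∨ a = -1 := by
    intro a ha
    rcases mul_self_eq_one_iff.1 (show (a : ZMod q) * a = 1 by rw [← Units.val_mul, ha, Units.val_one]) with h | h
    · exact Or.inl (Units.ext h)
    · exact Or.inr (Units.ext (by simpa using h))
  let e : T := ⟨D (-1) (-1), (hTD _ _).2 (Or.inl (by simp))⟩
  let w : T := ⟨D 1 (-1), (hTD _ _).2 (Or.inr (by simp))⟩
  let zT : T := ⟨z, hzT⟩
  -- reduce to a fixed diagonal subgroup or fixed rotations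
  obtain ⟨g, hgen⟩ := IsCyclic.exists_generator (α := (ZMod q)ˣ)
  have hg : orderOf g = 2 ^ m := (orderOf_eq_card_of_forall_mem_zpowers hgen).trans hqm
  rcases Nat.lt_or_ge m 2 with hm1 | hm2
  · -- q = 3
    obtain rfl : m = 1 := by omega
    let r : T := zT * w
    have hr2 : r * r = e := Subtype.ext (by
      show z * D 1 (-1) * (z * D 1 (-1)) = D (-1) (-1)
      rw [hsq]; simp)
    have hu2 : ∀ a : (ZMod q)ˣ, a = 1 ∨ a = -1 := fun a => hsqrt a (by simpa [sq] using hu a)
    have hclass : ∀ y : T, y * y = 1 ∨ y = r ∨ y = r * e := by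
      rintro ⟨y, hy⟩
      obtain ⟨a, b, hab, rfl | rfl⟩ := hcases y hy
      · left; apply Subtype.ext
        show D a b * D a b = 1
        rw [hmul, ← hone]; rcases hu2 a with rfl | rfl <;> rcases hu2 b with rfl | rfl <;> simp
      · rcases hu2 a with rfl | rfl <;> rcases hu2 b with rfl | rfl
        · left; exact Subtype.ext (by show _ * _ = (1 : (Fin 2 → ZMod q) ≃ₗ[ZMod q] (Fin 2 → ZMod q)); simp only [hsq]; simp [hone])
        · right; left; rfl
        · right; right; apply Subtype.ext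
          show z * D (-1) 1 = z * D 1 (-1) * D (-1) (-1)
          rw [mul_assoc, hmul]; simp
        · left; exact Subtype.ext (by show _ * _ = (1 : (Fin 2 → ZMod q) ≃ₗ[ZMod q] (Fin 2 → ZMod q)); simp only [hsq]; simp [hone])
    have he1 : e ≠ 1 := fun h => hneg (hinj _ _ _ _ ((congrArg Subtype.val h).trans hone.symm)).1
    have hre : r * e * (r * e) = e := Subtype.ext (by
      show z * D 1 (-1) * D (-1) (-1) * (z * D 1 (-1) * D (-1) (-1)) = D (-1) (-1)
      rw [mul_assoc z, hmul, hsq]; simp)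
    have hφr : φ r = r ∨ φ r = r * e := by
      rcases hclass (φ r) with h | h
      · rw [← map_mul, hr2, EmbeddingLike.map_eq_one_iff] at h; exact absurd h he1
      · exact h
    have hφe : φ e = e := by
      rw [← hr2, map_mul]
      rcases hφr with h | h <;> rw [h]
      exact hre.trans hr2.symm
    have hr : φ r = r := hφr.elim id fun h => key r e h hφe
    -- every element is a power of r times 1 or w
    have hpow : ∀ i : ℕ, φ (r ^ i) = r ^ i := fun i => by rw [map_pow, hr]
    have hdec : ∀ y : T, ∃ i : ℕ, y = r ^ i ∨ y = w * r ^ i := by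
      rintro ⟨y, hy⟩
      have hr3 : r ^ 3 = r * e := by rw [pow_succ', pow_two, hr2]
      obtain ⟨a, b, hab, rfl | rfl⟩ := hcases y hy
      · rcases hu2 a with rfl | rfl <;> rcases hu2 b with rfl | rfl
        · exact ⟨0, Or.inl (Subtype.ext (by rw [pow_zero]; exact hone))⟩
        · exact ⟨0, Or.inr (by rw [pow_zero, mul_one])⟩
        · refine ⟨2, Or.inr ?_⟩
          rw [pow_two, hr2]; apply Subtype.ext
          show D (-1) 1 = D 1 (-1) * D (-1) (-1)
          rw [hmul]; simp
        · exact ⟨2, Or.inl (by rw [pow_two, hr2])⟩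
      · rcases hu2 a with rfl | rfl <;> rcases hu2 b with rfl | rfl
        · refine ⟨3, Or.inr ?_⟩
          rw [hr3]; apply Subtype.ext
          show z * D 1 1 = D 1 (-1) * (z * D 1 (-1) * D (-1) (-1))
          rw [mul_assoc z, hmul, ← mul_assoc, ← hzD, mul_assoc, hmul]; simp
        · exact ⟨1, Or.inl (by rw [pow_one]; rfl)⟩
        · refine ⟨3, Or.inl ?_⟩
          rw [hr3]; apply Subtype.ext
          show z * D (-1) 1 = z * D 1 (-1) * D (-1) (-1)
          rw [mul_assoc, hmul]; simp
        · refine ⟨1, Or.inr ?_⟩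
          rw [pow_one]; apply Subtype.ext
          show z * D (-1) (-1) = D 1 (-1) * (z * D 1 (-1))
          rw [← mul_assoc, ← hzD, mul_assoc, hmul]; simp
    have hw : φ w = w := by
      obtain ⟨i, h | h⟩ := hdec (φ w)
      · rw [← hpow i] at h
        have h1 := φ.injective h
        rw [h1, hpow]
      · exact key w _ h (hpow i)
    intro x
    obtain ⟨i, rfl | rfl⟩ := hdec x
    · exact hpow i
    · rw [map_mul, hw, hpow]
  · have hm3 : 3 ≤ m := by
      by_contra h
      obtain rfl : m = 2 := by omega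
      exact hq5 (by rw [hq]; norm_num)
    -- the diagonal part is invariant
    have hdiag : ∀ y : T, ¬ (y ^ 4 = 1) → ∃ a b, (y : (Fin 2 → ZMod q) ≃ₗ[ZMod q] (Fin 2 → ZMod q)) = D a b ∧ D a b ∈ T := by
      rintro ⟨y, hy⟩ h4
      obtain ⟨a, b, hab, rfl | rfl⟩ := hcases y hy
      · exact ⟨a, b, rfl, hab⟩
      · exact absurd (Subtype.ext (hz4 a b hab)) h4
    let u : T := ⟨D g g⁻¹, (hTD _ _).2 (Or.inl (mul_inv_cancel g))⟩
    have hug : ∀ j : ℕ, u ^ j = 1 → g ^ j = 1 := by
      intro j hj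
      have := congrArg Subtype.val hj
      rw [SubgroupClass.coe_pow, OneMemClass.coe_one] at this
      change D g g⁻¹ ^ j = 1 at this
      rw [hDpow, ← hone] at this
      exact (hinj _ _ _ _ this).1
    have h8 : 8 ≤ 2 ^ m := le_trans (by norm_num) (Nat.pow_le_pow_right (show 0 < 2 by norm_num) hm3)
    have hg4 : ∀ j, 0 < j → j < 8 → g ^ j ≠ 1 := fun j h0 hj h => by
      have := Nat.le_of_dvd h0 (hg ▸ orderOf_dvd_of_pow_eq_one h); omega
    have hu4 : ¬ u ^ 4 = 1 := fun h => hg4 4 (by norm_num) (by norm_num) (hug 4 h)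
    have huw4 : ¬ (u * w) ^ 4 = 1 := by
      intro h
      have := congrArg Subtype.val h
      rw [SubgroupClass.coe_pow, OneMemClass.coe_one, Subgroup.coe_mul] at this
      change (D g g⁻¹ * D 1 (-1)) ^ 4 = 1 at this
      rw [hmul, hDpow, ← hone] at this
      exact hg4 4 (by norm_num) (by norm_num) (by simpa using (hinj _ _ _ _ this).1)
    obtain ⟨a₁, b₁, hu1, hu1T⟩ := hdiag (φ u) (by rw [← map_pow, EmbeddingLike.map_eq_one_iff]; exact hu4)
    obtain ⟨a₂, b₂, hu2, hu2T⟩ := hdiag (φ (u * w)) (by rw [← map_pow, EmbeddingLike.map_eq_one_iff]; exact huw4)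
    have hφw : ∃ a b, (φ w : (Fin 2 → ZMod q) ≃ₗ[ZMod q] (Fin 2 → ZMod q)) = D a b := by
      refine ⟨a₁⁻¹ * a₂, b₁⁻¹ * b₂, ?_⟩
      have h : φ w = (φ u)⁻¹ * φ (u * w) := by rw [map_mul, inv_mul_cancel_left]
      rw [h, Subgroup.coe_mul, Subgroup.coe_inv, hu1, hu2, inv_mul_eq_iff_eq_mul, hmul]
      simp
    have heven : Even (2 ^ (m - 1)) := Nat.even_pow.2 ⟨even_two, by omega⟩
    have hue : u ^ 2 ^ (m - 1) = e := by
      have hgk : g ^ 2 ^ (m - 1) = -1 := by
        rcases hsqrt (g ^ 2 ^ (m - 1)) (by rw [← pow_add, ← two_mul, ← pow_succ', Nat.sub_add_cancel (by omega : 1 ≤ m), hu]) with h | h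
        · exfalso
          have := Nat.le_of_dvd (pow_pos two_pos _) (hg ▸ orderOf_dvd_of_pow_eq_one h)
          exact absurd ((Nat.pow_le_pow_iff_right (by norm_num)).1 this) (by omega)
        · exact h
      apply Subtype.ext
      rw [SubgroupClass.coe_pow]
      show D g g⁻¹ ^ _ = D (-1) (-1)
      rw [hDpow, inv_pow, hgk]; simp
    have he1 : e ≠ 1 := fun h => hneg (hinj _ _ _ _ ((congrArg Subtype.val h).trans hone.symm)).1
    have hφe : φ e = e := by
      rw [← hue, map_pow, hue]
      apply Subtype.ext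
      rw [SubgroupClass.coe_pow, hu1, hDpow]
      show _ = D (-1) (-1)
      have hbk : b₁ ^ 2 ^ (m - 1) = (a₁ ^ 2 ^ (m - 1))⁻¹ := by
        apply eq_inv_of_mul_eq_one_right
        rw [← mul_pow]
        rcases (hTD a₁ b₁).1 hu1T with h | h
        · rw [h, one_pow]
        · rw [h, heven.neg_one_pow]
      rcases hsqrt (a₁ ^ 2 ^ (m - 1)) (by rw [← pow_add, ← two_mul, ← pow_succ', Nat.sub_add_cancel (by omega : 1 ≤ m), hu]) with h | h
      · exfalso
        apply he1
        rw [← φ.injective.eq_iff, map_one, ← hue, map_pow]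
        apply Subtype.ext
        rw [SubgroupClass.coe_pow, hu1, hDpow, hbk, h, inv_one, hone]
        rfl
      · rw [hbk, h]; simp
    have hV : ∀ y : T, (∃ a b, (y : (Fin 2 → ZMod q) ≃ₗ[ZMod q] (Fin 2 → ZMod q)) = D a b) → y * y = 1 → y = 1 ∨ y = e ∨ y = w ∨ y = w * e := by
      rintro ⟨y, hy⟩ ⟨a, b, hyab⟩ hyy
      change y = D a b at hyab
      subst hyab
      have h1 : D a b * D a b = 1 := congrArg Subtype.val hyy
      rw [hmul, ← hone] at h1
      rcases hsqrt a (hinj _ _ _ _ h1).1 with rfl | rfl <;> rcases hsqrt b (hinj _ _ _ _ h1).2 with rfl | rfl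
      · exact Or.inl (Subtype.ext hone)
      · exact Or.inr (Or.inr (Or.inl rfl))
      · exact Or.inr (Or.inr (Or.inr (Subtype.ext (by show D (-1) 1 = D 1 (-1) * D (-1) (-1); rw [hmul]; simp))))
      · exact Or.inr (Or.inl rfl)
    have hww : w * w = 1 := Subtype.ext (by show D 1 (-1) * D 1 (-1) = 1; rw [hmul, ← hone]; simp)
    have hfw : φ w = w := by
      rcases hV (φ w) hφw (by rw [← map_mul, hww, map_one]) with h | h | h | h
      · exfalso
        rw [EmbeddingLike.map_eq_one_iff] at h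
        exact hneg (hinj _ _ _ _ ((congrArg Subtype.val h).trans hone.symm)).2
      · exfalso
        have h' := φ.injective (h.trans hφe.symm)
        exact hneg (hinj _ _ _ _ (congrArg Subtype.val h')).1.symm
      · exact h
      · exact key w e h hφe
    have hVfix : ∀ y : T, (y = 1 ∨ y = e ∨ y = w ∨ y = w * e) → φ y = y := by
      rintro y (rfl | rfl | rfl | rfl)
      exacts [map_one φ, hφe, hfw, by rw [map_mul, hfw, hφe]]
    have hfu : ∀ j, j ≤ m → φ (u ^ 2 ^ (m - j)) = u ^ 2 ^ (m - j) := by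
      intro j hj
      induction j with
      | zero =>
        have : u ^ 2 ^ (m - 0) = 1 := Subtype.ext (by
          rw [Nat.sub_zero, SubgroupClass.coe_pow]
          show D g g⁻¹ ^ _ = 1
          rw [hDpow, hu, hu, hone])
        rw [this, map_one]
      | succ j ih =>
        set x := u ^ 2 ^ (m - (j + 1)) with hx
        have hx2 : φ (x * x) = x * x := by
          rw [hx, ← pow_add, ← two_mul, ← pow_succ', show m - (j + 1) + 1 = m - j by omega]
          exact ih (by omega)
        set N := 2 ^ (m - (j + 1)) with hN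
        have hxv : (x : (Fin 2 → ZMod q) ≃ₗ[ZMod q] (Fin 2 → ZMod q)) = D (g ^ N) (g⁻¹ ^ N) := by
          rw [hx, SubgroupClass.coe_pow]; exact hDpow _ _ _
        have hφxv : (φ x : (Fin 2 → ZMod q) ≃ₗ[ZMod q] (Fin 2 → ZMod q)) = D (a₁ ^ N) (b₁ ^ N) := by
          rw [hx, map_pow, SubgroupClass.coe_pow, hu1, hDpow]
        refine key x (x⁻¹ * φ x) (mul_inv_cancel_left x _).symm (hVfix _ (hV _ ⟨(g ^ N)⁻¹ * a₁ ^ N, (g⁻¹ ^ N)⁻¹ * b₁ ^ N, ?_⟩ ?_))
        · rw [Subgroup.coe_mul, Subgroup.coe_inv, hxv, hφxv, inv_mul_eq_iff_eq_mul, hmul]; simp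
        · have hc : x * φ x = φ x * x := Subtype.ext (by
            rw [Subgroup.coe_mul, Subgroup.coe_mul, hxv, hφxv, hmul, hmul, mul_comm (g ^ N), mul_comm (g⁻¹ ^ N)])
          have hc' : φ x * x⁻¹ = x⁻¹ * φ x := by
            rw [eq_inv_mul_iff_mul_eq, ← mul_assoc, hc, mul_inv_cancel_right]
          calc x⁻¹ * φ x * (x⁻¹ * φ x) = x⁻¹ * (φ x * x⁻¹) * φ x := by group
            _ = x⁻¹ * x⁻¹ * (φ x * φ x) := by rw [hc']; group
            _ = 1 := by rw [← map_mul, hx2]; group
    have hu1' : φ u = u := by simpa using hfu m le_rfl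
    -- all diagonal elements are fixed
    have hDfix : ∀ y : T, (∃ a b, (y : (Fin 2 → ZMod q) ≃ₗ[ZMod q] (Fin 2 → ZMod q)) = D a b) → φ y = y := by
      rintro ⟨y, hy⟩ ⟨a, b, hyab⟩
      change y = D a b at hyab
      subst hyab
      obtain ⟨i, hi⟩ := mem_powers_iff_mem_zpowers.2 (hgen a)
      change g ^ i = a at hi
      subst hi
      rcases (hTD _ _).1 hy with h | h
      · obtain rfl := eq_inv_of_mul_eq_one_right h
        have : (⟨_, hy⟩ : T) = u ^ i := Subtype.ext (by
          rw [SubgroupClass.coe_pow]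
          show _ = D g g⁻¹ ^ i
          rw [hDpow, inv_pow])
        rw [this, map_pow, hu1']
      · obtain rfl : b = (g ^ i)⁻¹ * -1 := by rw [eq_inv_mul_iff_mul_eq]; exact h
        have : (⟨_, hy⟩ : T) = u ^ i * w := Subtype.ext (by
          rw [Subgroup.coe_mul, SubgroupClass.coe_pow]
          show _ = D g g⁻¹ ^ i * D 1 (-1)
          rw [hDpow, hmul, mul_one, inv_pow])
        rw [this, map_mul, map_pow, hu1', hfw]
    have hfz : φ zT = zT := by
      obtain ⟨a, b, hab, h | h⟩ := hcases _ (φ zT).2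
      · exfalso
        have h1 := hDfix (φ zT) ⟨a, b, h⟩
        have h2 := φ.injective h1
        have h3 : z = D a b := (congrArg Subtype.val h2).symm.trans h
        have h4 := congrArg (fun f : (Fin 2 → ZMod q) ≃ₗ[ZMod q] (Fin 2 → ZMod q) => f ![1, 0] 0) h3
        simp [hz, hDv] at h4
        exact a.ne_zero h4.symm
      · exact key zT ⟨D a b, hab⟩ (Subtype.ext h) (hDfix _ ⟨a, b, rfl⟩)
    intro x
    obtain ⟨a, b, hab, h | h⟩ := hcases _ x.2
    · exact hDfix x ⟨a, b, h⟩
    · rw [show x = zT * ⟨D a b, hab⟩ from Subtype.ext h, map_mul, hfz, hDfix _ ⟨a, b, rfl⟩]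


end Cfsg.Agent.S3382
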