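import Cfsg.Statements.S3383
import Cfsg.Agent.Lib.Frobenius.Complement
import Cfsg.Agent.Lib.Frobenius.Kernel

set_option autoImplicit false
set_option linter.style.haveILetI false
open Cfsg
open Cfsg.Agent.Lib.Frobenius

namespace Cfsg.Agent.S3383

/-- Let H be a Frobenius complement in a finite group L and K the Frobenius kernel (as a subgroup). Then K is characteristic in L, and every normal subgroup of L either contains K or is contained in K. -/
theorem result {L : Type*} [Group L] [Finite L]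
    (H : Subgroup L) (hH : Cfsg.IsFrobeniusComplement H)
    (K : Subgroup L) (hK : (K : Set L) = Cfsg.frobeniusKernel H) :
    K.Characteristic ∧ ∀ N : Subgroup L, N.Normal → K ≤ N ∨ N ≤ K := by
  classical
  obtain ⟨K', hn, hK', hdisj, hsup, hne, hcompl, hcard⟩ := exists_frobeniusKernel hH
  have : K = K' := SetLike.coe_injective (hK.trans hK'.symm)
  subst this
  haveI := hn
  have hout : ∀ x : L, x ∉ K → ∃ g : L, g⁻¹ * x * g ∈ H ∧ g⁻¹ * x * g ≠ 1 := by
    intro x hx
    have hx' : x ∉ Cfsg.frobeniusKernel H := fun h => hx (by rw [← SetLike.mem_coe, hK]; exact h)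
    simp only [Cfsg.frobeniusKernel, Set.mem_ofPred_eq, not_or, not_forall, not_not] at hx'
    obtain ⟨hx1, g, hg⟩ := hx'
    refine ⟨g, mem_conj_smul.1 hg, fun h => hx1 ?_⟩
    calc x = g * (g⁻¹ * x * g) * g⁻¹ := by group
      _ = 1 := by rw [h]; group
  have hchar : ∀ (φ : L ≃* L), ∀ x ∈ K, φ x ∈ K := by
    intro φ x hx
    by_contra hc
    obtain ⟨g, hg, hg1⟩ := hout _ hc
    apply hg1
    set c := g⁻¹ * φ x * g with hcdef
    have h1 : x ^ Nat.card K = 1 := congrArg Subtype.val (pow_card_eq_one' (x := (⟨x, hx⟩ : K)))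
    have h2 : c ^ Nat.card K = 1 := by
      have e : (g⁻¹ * φ x * g⁻¹⁻¹) ^ Nat.card K = g⁻¹ * (φ x) ^ Nat.card K * g⁻¹⁻¹ := conj_pow
      rw [← map_pow, h1, map_one, inv_inv] at e
      rw [hcdef, e]; group
    have h3 : c ^ Nat.card H = 1 := congrArg Subtype.val (pow_card_eq_one' (x := (⟨c, hg⟩ : H)))
    have h4 : c ^ (Nat.gcd (Nat.card H) H.index) = 1 := pow_gcd_eq_one.2 ⟨h3, hcard ▸ h2⟩
    rwa [card_coprime_index hH, pow_one] at h4
  refine ⟨Subgroup.characteristic_iff_comap_le.2 fun φ x hx => ?_, fun N hN => ?_⟩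
  · have := hchar φ.symm _ hx
    rwa [MulEquiv.coe_toMonoidHom, MulEquiv.symm_apply_apply] at this
  · by_contra hcon
    push_neg at hcon
    obtain ⟨hKN, hNK⟩ := hcon
    obtain ⟨x, hxN, hxK⟩ := SetLike.not_le_iff_exists.1 hNK
    obtain ⟨g, hg, hg1⟩ := hout x hxK
    set h := g⁻¹ * x * g with hh
    have hhN : h ∈ N := by simpa [hh] using hN.conj_mem x hxN g⁻¹
    let f : K → ↥(K ⊓ N) := fun k => ⟨k * h * (k : L)⁻¹ * h⁻¹, by
      constructor
      · have := K.mul_mem k.2 (hn.conj_mem _ (inv_mem k.2) h)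
        simpa [mul_assoc] using this
      · exact N.mul_mem (hN.conj_mem h hhN k) (inv_mem hhN)⟩
    have hinj : Function.Injective f := by
      intro a b hab
      have hab' : (a : L) * h * (a : L)⁻¹ = b * h * (b : L)⁻¹ := mul_right_cancel (congrArg Subtype.val hab)
      have hc : h * ((b : L)⁻¹ * a) = ((b : L)⁻¹ * a) * h := by
        calc h * ((b : L)⁻¹ * a) = (b : L)⁻¹ * ((b : L) * h * (b : L)⁻¹) * a := by group
          _ = ((b : L)⁻¹ * a) * h := by rw [← hab']; group
      exact Subtype.ext (inv_mul_eq_one.1 (fixedPointFree_of_isFrobeniusComplement hH hdisj h hg hg1 _ (K.mul_mem (inv_mem b.2) a.2) hc)).symm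
    have hle := Nat.card_le_card_of_injective f hinj
    have : K ⊓ N = K := Subgroup.eq_of_le_of_card_ge inf_le_left hle
    exact hKN (this ▸ inf_le_right)


end Cfsg.Agent.S3383
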