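import Cfsg.Statements.S3389
import Cfsg.Agent.Lib.Recognition.PGroupNormalizer

set_option autoImplicit false
set_option linter.style.haveILetI false
open Cfsg
open Cfsg.Agent.Lib.Recognition
open MulAction

namespace Cfsg.Agent.S3389

/-- Let G be a finite group acting faithfully and transitively on a finite set Ω with fixity k ≥ 1: every non-identity element fixes at most k points and some non-identity element fixes exactly k points. Then |Z(G)| divides k; if k = 2 then |G| is even; and for every prime p > k dividing |G| and every point α, either p does not divide |G_α| or G_α contains a Sylow p-subgroup of G. -/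
theorem result {G : Type*} [Group G] [Finite G] {Ω : Type*} [Fintype Ω] [MulAction G Ω] [FaithfulSMul G Ω]
    (htr : MulAction.IsPretransitive G Ω) (k : ℕ) (hk : 1 ≤ k)
    (hfix : ∀ g : G, g ≠ 1 → Nat.card (MulAction.fixedBy Ω g) ≤ k) (hex : ∃ g : G, g ≠ 1 ∧ Nat.card (MulAction.fixedBy Ω g) = k) :
    Nat.card (Subgroup.center G) ∣ k ∧ (k = 2 → 2 ∣ Nat.card G) ∧
      ∀ (p : ℕ), p.Prime → k < p → p ∣ Nat.card G → ∀ α : Ω,
        ¬ p ∣ Nat.card (MulAction.stabilizer G α) ∨ ¬ p ∣ (MulAction.stabilizer G α).index := by
  classical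
  haveI := htr
  obtain ⟨g, hg1, hgk⟩ := hex
  have hcard : ∀ x : G, Nat.card (fixedBy Ω x) = (fixedBy Ω x).ncard := fun x => Nat.card_coe_set_eq _
  haveI : Nonempty (fixedBy Ω g) := (Nat.card_pos_iff.1 (by omega)).1
  -- a nonidentity central element fixes nothing
  have hsemi : ∀ z ∈ Subgroup.center G, ∀ x : Ω, z • x = x → z = 1 := by
    intro z hz x hzx
    refine eq_of_smul_eq_smul (α := Ω) fun y => ?_
    obtain ⟨c, rfl⟩ := exists_smul_eq G x y
    rw [one_smul, ← mul_smul, ← Subgroup.mem_center_iff.1 hz c, mul_smul, hzx]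
  refine ⟨?_, ?_, ?_⟩
  · let F := fixedBy Ω g
    letI act : MulAction (Subgroup.center G) F :=
      { smul := fun z x => ⟨(z : G) • (x : Ω), by
          show g • (z : G) • (x : Ω) = (z : G) • (x : Ω)
          rw [← mul_smul, Subgroup.mem_center_iff.1 z.2 g, mul_smul, show g • (x : Ω) = x from x.2]⟩
        one_smul := fun x => Subtype.ext (one_smul G (x : Ω))
        mul_smul := fun a b x => Subtype.ext (mul_smul (a : G) (b : G) (x : Ω)) }
    have hfree : ∀ x : F, stabilizer (Subgroup.center G) x = ⊥ := fun x => by
      rw [Subgroup.eq_bot_iff_forall]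
      intro z hz
      exact Subtype.ext (hsemi _ z.2 x (congrArg Subtype.val hz))
    haveI := Fintype.ofFinite (orbitRel.Quotient (Subgroup.center G) F)
    have h1 : Nat.card F = ∑ o : orbitRel.Quotient (Subgroup.center G) F, Nat.card (Subgroup.center G) := by
      rw [Nat.card_congr (selfEquivSigmaOrbits (Subgroup.center G) F), Nat.card_sigma]
      refine Finset.sum_congr rfl fun o _ => ?_
      rw [Nat.card_congr (orbitEquivQuotientStabilizer (Subgroup.center G) o.out), ← Subgroup.index_eq_card, hfree,
        Subgroup.index_bot]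
    rw [← hgk, show Nat.card (fixedBy Ω g) = Nat.card F from rfl, h1, Finset.sum_const, smul_eq_mul]
    exact dvd_mul_left _ _
  · rintro rfl
    rw [hcard] at hgk
    obtain ⟨a, b, hab, hfab⟩ := Set.ncard_eq_two.1 hgk
    rw [← even_iff_two_dvd]
    by_contra hodd
    rw [Nat.not_even_iff_odd] at hodd
    have hga : g • a = a := show a ∈ fixedBy Ω g by rw [hfab]; simp
    have hgb : g • b = b := show b ∈ fixedBy Ω g by rw [hfab]; simp
    let D : Subgroup G := stabilizer G a ⊓ stabilizer G b
    have hgD : g ∈ D := ⟨hga, hgb⟩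
    have hDne : Nat.card D ≠ 1 := fun h => hg1 (by
      have := Subgroup.eq_bot_of_card_eq D h
      rw [this] at hgD; exact hgD)
    obtain ⟨p, hp, hpD⟩ := Nat.exists_prime_and_dvd hDne
    haveI := Fact.mk hp
    obtain ⟨P⟩ := (inferInstance : Nonempty (Sylow p D))
    let P' : Subgroup G := (P : Subgroup D).map D.subtype
    have hP'D : P' ≤ D := Subgroup.map_subtype_le _
    have hP'p : IsPGroup p P' := P.2.map _
    obtain ⟨u, hu, hu1⟩ : ∃ u ∈ P', u ≠ 1 := by
      by_contra h
      push_neg at h
      exact P.ne_bot_of_dvd_card hpD ((Subgroup.map_eq_bot_iff_of_injective _ D.subtype_injective).1 ((Subgroup.eq_bot_iff_forall P').2 h))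
    have hfu : fixedBy Ω u = {a, b} := by
      refine (Set.eq_of_subset_of_ncard_le ?_ ?_).symm
      · rintro x (rfl | rfl)
        exacts [(hP'D hu).1, (hP'D hu).2]
      · rw [Set.ncard_pair hab, ← hcard]; exact hfix u hu1
    have hN : ∀ y ∈ Subgroup.normalizer (P' : Set G), y ∈ D := by
      intro y hy
      have hpair : ∀ x, (x = a ∨ x = b) → y • x = a ∨ y • x = b := by
        intro x hx
        have : y • x ∈ fixedBy Ω u := by
          show u • y • x = y • x
          have h1 : y⁻¹ * u * y ∈ P' := by
            have := (Subgroup.mem_normalizer_iff.1 (inv_mem hy) u).1 hu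
            rwa [inv_inv] at this
          have h2 : (y⁻¹ * u * y) • x = x := by
            rcases hx with rfl | rfl
            exacts [(hP'D h1).1, (hP'D h1).2]
          rw [mul_smul, mul_smul, inv_smul_eq_iff] at h2
          exact h2
        rw [hfu] at this
        exact this
      by_cases hya : y • a = a
      · refine ⟨hya, ?_⟩
        rcases hpair b (Or.inr rfl) with h | h
        · exact absurd (MulAction.injective y (h.trans hya.symm)) hab.symm
        · exact h
      · exfalso
        have h1 : y • a = b := (hpair a (Or.inl rfl)).resolve_left hya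
        have h2 : y • b = a := by
          rcases hpair b (Or.inr rfl) with h | h
          · exact h
          · exact absurd (MulAction.injective y (h.trans h1.symm)) hab.symm
        have hodd' : Odd (orderOf y) := hodd.of_dvd_nat (orderOf_dvd_natCard y)
        obtain ⟨c, hc⟩ := hodd'
        have h3 : y ^ (2 * c + 1) = 1 := by rw [← hc]; exact pow_orderOf_eq_one y
        have h4 : ∀ c : ℕ, y ^ (2 * c) • a = a := by
          intro c
          induction c with
          | zero => simp
          | succ c ih => rw [mul_add, mul_one, pow_succ, pow_succ, mul_smul, mul_smul, h1, h2, ih]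
        apply hya
        calc y • a = y • y ^ (2 * c) • a := by rw [h4]
          _ = a := by rw [← mul_smul, ← pow_succ', h3, one_smul]
    obtain ⟨S, hS⟩ := hP'p.exists_le_sylow
    have hPS : P' = S := eq_of_normalizer_le_of_pGroup S.2 hS fun y hyS hy => by
      have hyD := hN y hy
      have hle : ((S : Subgroup G).subgroupOf D) = (P : Subgroup D) := by
        refine P.3 (S.2.comap_subtype) ?_
        intro x hx
        exact Subgroup.mem_subgroupOf.2 (hS ⟨x, hx, rfl⟩)
      exact ⟨⟨y, hyD⟩, hle ▸ Subgroup.mem_subgroupOf.2 hyS, rfl⟩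
    obtain ⟨h, hh⟩ := exists_smul_eq G a b
    let H := stabilizer G a
    have hSH : (S : Subgroup G) ≤ H := hPS ▸ hP'D.trans inf_le_left
    have hSb : ∀ s ∈ (S : Subgroup G), s • b = b := fun s hs => (hP'D (hPS ▸ hs)).2
    let T : Sylow p G := h⁻¹ • S
    have hTH : (T : Subgroup G) ≤ H := by
      intro x hx
      rw [Sylow.coe_subgroup_smul, Subgroup.mem_pointwise_smul_iff_inv_smul_mem] at hx
      have h5 := hSb _ hx
      simp only [map_inv, inv_inv, MulAut.smul_def, MulAut.conj_apply, mul_smul] at h5
      rw [show h⁻¹ • b = a by rw [← hh, inv_smul_smul], ← hh] at h5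
      exact MulAction.injective h h5
    obtain ⟨⟨x, hx⟩, hxe⟩ := exists_smul_eq H (S.subtype hSH) (T.subtype hTH)
    have hxe' : x • S = T := by
      apply Sylow.ext
      have := congrArg (fun Q : Sylow p H => (Q : Subgroup H).map H.subtype) hxe
      simp only [Sylow.coe_subgroup_smul, Sylow.coe_subtype] at this
      rw [Subgroup.map_subgroupOf_eq_of_le hTH] at this
      rw [← this]
      ext z
      simp only [Sylow.coe_subgroup_smul, Subgroup.mem_map, Subgroup.mem_pointwise_smul_iff_inv_smul_mem, Subgroup.mem_subgroupOf]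
      constructor
      · intro hz
        have hzH : z ∈ H := by
          have h6 := hSH hz
          simp only [map_inv, MulAut.smul_def, MulAut.inv_apply, MulAut.conj_symm_apply] at h6
          simpa [mul_assoc] using mul_mem (mul_mem hx h6) (inv_mem hx)
        exact ⟨⟨z, hzH⟩, by simpa using hz, rfl⟩
      · rintro ⟨w, hw, rfl⟩
        simpa using hw
    have hhx : h * x ∈ Subgroup.normalizer ((S : Subgroup G) : Set G) := by
      refine Sylow.smul_eq_iff_mem_normalizer.1 ?_
      rw [mul_smul, hxe', smul_inv_smul]
    have h7 : (h * x) • a = a := (hN _ (hPS ▸ hhx)).1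
    rw [mul_smul, show x • a = a from hx, hh] at h7
    exact hab h7.symm
  · intro p hp hkp _ α
    haveI := Fact.mk hp
    rw [or_iff_not_imp_left, not_not]
    intro hpα
    set H := stabilizer G α
    obtain ⟨P⟩ := (inferInstance : Nonempty (Sylow p H))
    let P' : Subgroup G := (P : Subgroup H).map H.subtype
    have hP'H : P' ≤ H := Subgroup.map_subtype_le _
    obtain ⟨u, hu, hu1⟩ : ∃ u ∈ P', u ≠ 1 := by
      by_contra h
      push_neg at h
      exact P.ne_bot_of_dvd_card hpα ((Subgroup.map_eq_bot_iff_of_injective _ H.subtype_injective).1 ((Subgroup.eq_bot_iff_forall P').2 h))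
    let F : Set Ω := {x | ∀ q ∈ P', q • x = x}
    have hF : F.ncard < p :=
      lt_of_le_of_lt ((Set.ncard_le_ncard (fun x (hx : x ∈ F) => hx u hu)).trans ((hcard u).symm.trans_le (hfix u hu1))) hkp
    obtain ⟨S, hS⟩ := (P.2.map H.subtype).exists_le_sylow
    have hPS : P' = S := eq_of_normalizer_le_of_pGroup S.2 hS fun y hyS hy => by
      have hyα : y • α = α := smul_eq_of_ncard_lt S.2 hyS hF (fun x hx q hq => by
        have h1 : y⁻¹ * q * y ∈ P' := by
          have := (Subgroup.mem_normalizer_iff.1 (inv_mem hy) q).1 hq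
          rwa [inv_inv] at this
        have h2 := hx _ h1
        rw [mul_smul, mul_smul, inv_smul_eq_iff] at h2
        exact h2) (fun q hq => hP'H hq)
      have hle : ((S : Subgroup G).subgroupOf H) = (P : Subgroup H) := by
        refine P.3 (S.2.comap_subtype) ?_
        intro x hx
        exact Subgroup.mem_subgroupOf.2 (hS ⟨x, hx, rfl⟩)
      exact ⟨⟨y, hyα⟩, hle ▸ Subgroup.mem_subgroupOf.2 hyS, rfl⟩
    intro hdvd
    exact S.not_dvd_index (hdvd.trans (Subgroup.index_dvd_of_le (hPS ▸ hP'H)))


end Cfsg.Agent.S3389
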