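import Cfsg.Statements.S3390
import Cfsg.Agent.Lib.PGroups.MaximalClass
import Cfsg.Agent.Lib.Solvable.Nilpotent
-- import your own Cfsg.Agent.* helpers here

set_option autoImplicit false
open Cfsg
open scoped commutatorElement Pointwise

namespace Cfsg.Agent.S3390

theorem two_el_mul : ∀ a : Multiplicative (ZMod 2), a ^ 2 = 1 := by decide

theorem two_el_eq : ∀ a b : Multiplicative (ZMod 2), (a = 1 ↔ b = 1) → a = b := by decide

theorem two_el_ne : (Multiplicative.ofAdd 1 : Multiplicative (ZMod 2)) ≠ 1 := by decide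

theorem two_el_sq : (Multiplicative.ofAdd 1 : Multiplicative (ZMod 2)) * Multiplicative.ofAdd 1 = 1 := by decide

theorem maximal_class_of_centralizer {S : Type*} [Group S] [Finite S] (hS : IsPGroup 2 S) {t u : S}
    (ht : orderOf t = 2) (hu : orderOf u = 2) (hne : u ≠ t) (hcomm : Commute t u)
    (hC : Nat.card ↥(Subgroup.centralizer ({t} : Set S)) ≤ 4) :
    (∃ n : ℕ, Nonempty (S ≃* DihedralGroup n)) ∨ Cfsg.IsQuasiDihedral S := by
  haveI : Fact (Nat.Prime 2) := ⟨Nat.prime_two⟩
  haveI := hS.isNilpotent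
  classical
  have huniq : ∀ (g : S), Subgroup.zpowers g = ⊤ → False := fun g hg => by
    have hcyc : IsCyclic S := isCyclic_iff_exists_zpowers_eq_top.2 ⟨g, hg⟩
    haveI : Fintype S := Fintype.ofFinite S
    have h2 := IsCyclic.card_pow_eq_one_le (α := S) (n := 2) two_pos
    have hs : ({1, t, u} : Finset S) ⊆ Finset.univ.filter fun a : S => a ^ 2 = 1 := by
      intro a ha
      simp only [Finset.mem_insert, Finset.mem_singleton] at ha
      rcases ha with rfl | rfl | rfl
      · simp
      · simp [← ht, pow_orderOf_eq_one]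
      · simp [← hu, pow_orderOf_eq_one]
    have h3 := Finset.card_le_card hs
    have ht1 : t ≠ 1 := fun h => by rw [h, orderOf_one] at ht; omega
    have hu1 : u ≠ 1 := fun h => by rw [h, orderOf_one] at hu; omega
    rw [Finset.card_insert_of_notMem (by simp [ht1.symm, hu1.symm]),
      Finset.card_insert_of_notMem (by simp [hne.symm]), Finset.card_singleton] at h3
    omega
  obtain ⟨n, hn⟩ := IsPGroup.iff_card.1 hS
  by_cases h8 : 8 ≤ Nat.card S
  · have hcl : Nat.card S ≤ 4 * Nat.card ↥(commutator S) := by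
      have hor : Nat.card ↥(MulAction.orbit (ConjAct S) t) * Nat.card ↥(MulAction.stabilizer (ConjAct S) t) =
          Nat.card (ConjAct S) := by
        rw [← Nat.card_prod]
        exact Nat.card_congr (MulAction.orbitProdStabilizerEquivGroup (ConjAct S) t)
      have hst : Nat.card ↥(MulAction.stabilizer (ConjAct S) t) ≤ 4 := by
        refine le_trans (Nat.card_le_card_of_injective (fun x => (⟨ConjAct.ofConjAct x.1, ?_⟩ : ↥(Subgroup.centralizer ({t} : Set S)))) fun a b h => ?_) hC
        · have := x.2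
          rw [MulAction.mem_stabilizer_iff, ConjAct.smul_def, mul_inv_eq_iff_eq_mul] at this
          exact Subgroup.mem_centralizer_singleton_iff.2 this
        · exact Subtype.ext (by simpa using h)
      have hle : Nat.card ↥(MulAction.orbit (ConjAct S) t) ≤ Nat.card ↥(commutator S) := by
        refine Nat.card_le_card_of_injective (fun x => ⟨t⁻¹ * x.1, ?_⟩) fun a b h => ?_
        · obtain ⟨g, hg⟩ := x.2
          rw [← hg]
          show t⁻¹ * (g • t) ∈ _
          rw [ConjAct.smul_def, ← mul_assoc, ← mul_assoc]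
          have : t⁻¹ * ConjAct.ofConjAct g * t⁻¹⁻¹ * (ConjAct.ofConjAct g)⁻¹ ∈ commutator S := by
            rw [← commutatorElement_def, commutator_def]; exact Subgroup.commutator_mem_commutator (Subgroup.mem_top _) (Subgroup.mem_top _)
          simpa using this
        · exact Subtype.ext (mul_left_cancel (congrArg Subtype.val h))
      calc Nat.card S = Nat.card (ConjAct S) := rfl
        _ = _ := hor.symm
        _ ≤ Nat.card ↥(commutator S) * 4 := Nat.mul_le_mul hle hst
        _ = _ := mul_comm _ _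
    have hidxle : (commutator S).index ≤ 4 := by
      have := (commutator S).card_mul_index
      have hpos : 0 < Nat.card ↥(commutator S) := Nat.card_pos
      nlinarith
    have hgen : ∀ g : S, commutator S ⊔ Subgroup.zpowers g ≠ ⊤ := fun g h => huniq g (by
      refine frattini_nongenerating (top_le_iff.mp (h ▸ sup_le
        (le_sup_of_le_right (Lib.Coprime.commutator_le_frattini_of_isPGroup hS)) le_sup_left)))
    have hcyc : ∀ x : S, orderOf (x : S ⧸ commutator S) ≠ (commutator S).index := by
      intro x hx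
      refine hgen x (eq_top_iff.mpr fun y _ => ?_)
      have htop : Subgroup.zpowers (x : S ⧸ commutator S) = ⊤ :=
        Subgroup.eq_top_of_card_eq _ (by rw [Nat.card_zpowers, hx, Subgroup.index])
      obtain ⟨i, hi⟩ := Subgroup.mem_zpowers_iff.mp (htop.ge (Subgroup.mem_top (y : S ⧸ commutator S)))
      have h := Subgroup.mul_mem_sup ((inferInstance : (commutator S).Normal).conj_mem _
        (QuotientGroup.eq.mp (hi : ((x ^ i : S) : S ⧸ commutator S) = y)) (x ^ i))
        (Subgroup.zpow_mem _ (Subgroup.mem_zpowers x) i)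
      have e : x ^ i * ((x ^ i)⁻¹ * y) * (x ^ i)⁻¹ * x ^ i = y := by group
      rwa [e] at h
    obtain ⟨a, ha⟩ := IsPGroup.iff_card.1 (hS.to_quotient (commutator S))
    rw [← Subgroup.index] at ha
    have hidx : (commutator S).index = 4 := by
      rcases a with _ | _ | _ | a
      · exfalso
        exact hcyc 1 (by rw [QuotientGroup.mk_one, orderOf_one, ha, pow_zero])
      · exfalso
        obtain ⟨y, hy⟩ := exists_prime_orderOf_dvd_card' (G := S ⧸ commutator S) 2
          (by rw [← Subgroup.index, ha]; norm_num)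
        obtain ⟨x, rfl⟩ := QuotientGroup.mk_surjective y
        exact hcyc x (by rw [hy, ha]; norm_num)
      · rw [ha]; norm_num
      · have : 2 ^ 3 ≤ 2 ^ (a + 1 + 1 + 1) := Nat.pow_le_pow_right two_pos (by omega)
        omega
    have hsq : ∀ x : S, x ^ 2 ∈ commutator S := fun x => by
      rw [← QuotientGroup.eq_one_iff, QuotientGroup.mk_pow]
      obtain ⟨j, hj⟩ := IsPGroup.iff_orderOf.mp (hS.to_quotient (commutator S)) (x : S ⧸ commutator S)
      have hd : orderOf (x : S ⧸ commutator S) ∣ 2 ^ 2 := by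
        rw [show (2 : ℕ) ^ 2 = (commutator S).index from hidx.symm, Subgroup.index]; exact orderOf_dvd_natCard _
      rw [hj] at hd
      have hj2 := (Nat.pow_dvd_pow_iff_le_right (by norm_num)).mp hd
      refine orderOf_dvd_iff_pow_eq_one.mp ?_
      rw [hj]
      rcases Nat.lt_or_ge j 2 with h | h
      · interval_cases j <;> norm_num
      · exfalso
        exact hcyc x (by rw [hj, hidx, show j = 2 by omega]; norm_num)
    rcases Lib.PGroups.taussky hS h8 hidx hsq with ⟨k, hk⟩ | ⟨k, hcard, a, b, ha', hb, hab⟩ | ⟨k, ⟨e⟩⟩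
    · exact Or.inl ⟨_, hk⟩
    · refine Or.inr ⟨k + 3, by omega, ?_, a, b, ha', hb, ?_⟩
      · rw [hcard]
      · rw [hab, show k + 3 - 1 = k + 2 by omega]
    · exfalso
      have key : ∀ g : S, orderOf g = 2 → e g = QuaternionGroup.a (2 ^ (k + 1) : ℕ) := by
        intro g hg
        have hg' : orderOf (e g) = 2 := by rw [MulEquiv.orderOf_eq, hg]
        cases hc : e g with
        | a i =>
          rw [hc] at hg'
          have h1 := pow_orderOf_eq_one (QuaternionGroup.a (n := 2 ^ (k + 1)) i)
          rw [hg', pow_two, QuaternionGroup.a_mul_a, QuaternionGroup.one_def, QuaternionGroup.a.injEq] at h1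
          have hi0 : i ≠ 0 := fun h0 => by
            rw [h0, ← QuaternionGroup.one_def, orderOf_one] at hg'
            omega
          have hN : (0 : ℕ) < 2 ^ (k + 1) := by positivity
          haveI : NeZero (2 * 2 ^ (k + 1)) := ⟨by omega⟩
          have hlt := ZMod.val_lt i
          have hv : (i.val + i.val) % (2 * 2 ^ (k + 1)) = 0 := by
            rw [← ZMod.val_add, h1, ZMod.val_zero]
          have hv0 : i.val ≠ 0 := fun h0 => hi0 ((ZMod.val_eq_zero i).1 h0)
          obtain ⟨c, hc⟩ := Nat.dvd_of_mod_eq_zero hv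
          have hiv : i.val = 2 ^ (k + 1) := by
            rcases c with _ | _ | c
            · omega
            · omega
            · exfalso
              have : 2 * 2 ^ (k + 1) * 2 ≤ 2 * 2 ^ (k + 1) * (c + 1 + 1) := Nat.mul_le_mul_left _ (by omega)
              omega
          congr 1
          exact (ZMod.natCast_zmod_val i).symm.trans (congrArg (fun m : ℕ => (m : ZMod (2 * 2 ^ (k + 1)))) hiv)
        | xa i =>
          rw [hc, QuaternionGroup.orderOf_xa] at hg'
          omega
      exact hne (e.injective ((key u hu).trans (key t ht).symm))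
  · have hn4 : Nat.card S = 4 := by
      have h2 : 2 ≤ Nat.card S := ht ▸ Nat.le_of_dvd Nat.card_pos (orderOf_dvd_natCard t)
      rcases n with _ | _ | _ | n
      · omega
      · exfalso
        refine huniq t (Subgroup.eq_top_of_card_eq _ ?_)
        rw [Nat.card_zpowers, ht, hn]; norm_num
      · rw [hn]; norm_num
      · have : 2 ^ 3 ≤ 2 ^ (n + 1 + 1 + 1) := Nat.pow_le_pow_right two_pos (by omega)
        omega
    haveI : IsKleinFour S := ⟨hn4, by
      have hexp : Monoid.exponent S ∣ 2 := Monoid.exponent_dvd_of_forall_pow_eq_one fun g => by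
        have hd : orderOf g ∣ 2 ^ 2 := by rw [show (2 : ℕ) ^ 2 = Nat.card S by omega]; exact orderOf_dvd_natCard g
        obtain ⟨j, hj, hg⟩ := (Nat.dvd_prime_pow Nat.prime_two).1 hd
        rcases j with _ | _ | _ | j
        · rw [pow_zero, orderOf_eq_one_iff] at hg; rw [hg, one_pow]
        · rw [← pow_orderOf_eq_one g, hg]; norm_num
        · exact (huniq g (Subgroup.eq_top_of_card_eq _ (by rw [Nat.card_zpowers, hg, hn4]; norm_num))).elim
        · omega
      rcases (Nat.dvd_prime Nat.prime_two).1 hexp with h | h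
      · exfalso
        have := Monoid.order_dvd_exponent t
        rw [h, ht] at this
        norm_num at this
      · exact h⟩
    exact Or.inl ⟨2, IsKleinFour.nonempty_mulEquiv (G₁ := S) (G₂ := DihedralGroup 2)⟩

/-- Let G be a finite group acting faithfully and transitively on a finite set Ω with fixity 2 (every non-identity element fixes at most two points, and some fixes exactly two). Let α ∈ Ω and S a Sylow 2-subgroup of G. Then one of the following holds: the stabilizer S_α of α in S is trivial; S is dihedral or semidihedral and either |S_α| = 2 or |S : S_α| = 2; |S| ≥ 4, S has exactly one orbit of size 2 on Ω, every other S-orbit is regular, and G has a normal subgroup of index 2 or of index |S| which is a Frobenius group; or S ≤ G_α. -/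
theorem result {G : Type*} [Group G] [Finite G] {Ω : Type*} [Fintype Ω] [MulAction G Ω] [FaithfulSMul G Ω] (htr : MulAction.IsPretransitive G Ω)
    (hfix : ∀ g : G, g ≠ 1 → Nat.card (MulAction.fixedBy Ω g) ≤ 2) (hex : ∃ g : G, g ≠ 1 ∧ Nat.card (MulAction.fixedBy Ω g) = 2) (α : Ω) (S : Sylow 2 G) :
    (S : Subgroup G) ⊓ MulAction.stabilizer G α = ⊥ ∨
    (((∃ n : ℕ, Nonempty (↥(S : Subgroup G) ≃* DihedralGroup n)) ∨ Cfsg.IsQuasiDihedral ↥(S : Subgroup G)) ∧
       (Nat.card ↥((S : Subgroup G) ⊓ MulAction.stabilizer G α) = 2 ∨ ((S : Subgroup G) ⊓ MulAction.stabilizer G α).relIndex (S : Subgroup G) = 2)) ∨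
    (4 ≤ Nat.card (S : Subgroup G) ∧
       (∃ ω : Ω, Nat.card (MulAction.orbit ↥(S : Subgroup G) ω) = 2 ∧
          ∀ ω' : Ω, ω' ∉ MulAction.orbit ↥(S : Subgroup G) ω → Nat.card (MulAction.orbit ↥(S : Subgroup G) ω') = Nat.card (S : Subgroup G)) ∧
       ∃ N : Subgroup G, N.Normal ∧ (N.index = 2 ∨ N.index = Nat.card (S : Subgroup G)) ∧ (∃ H : Subgroup ↥N, Cfsg.IsFrobeniusComplement H)) ∨
    (S : Subgroup G) ≤ MulAction.stabilizer G α := by
  classical
  haveI : Fact (Nat.Prime 2) := ⟨Nat.prime_two⟩
  set A := (S : Subgroup G) ⊓ MulAction.stabilizer G α with hA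
  by_cases hAbot : A = ⊥
  · exact Or.inl hAbot
  by_cases hle : (S : Subgroup G) ≤ MulAction.stabilizer G α
  · exact Or.inr (Or.inr (Or.inr hle))
  right
  have three : ∀ {g : G} {a b c : Ω}, g ≠ 1 → g • a = a → g • b = b → g • c = c → a ≠ b → c = a ∨ c = b := by
    intro g a b c hg ha hb hc hab
    by_contra hcab
    push Not at hcab
    have hsub : ({a, b, c} : Set Ω) ⊆ MulAction.fixedBy Ω g := by
      rintro x (rfl | rfl | rfl) <;> assumption
    have h := Nat.card_mono (Set.toFinite _) hsub
    have e : Nat.card ({a, b, c} : Set Ω) = 3 := by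
      rw [Nat.card_coe_set_eq, Set.ncard_eq_three]
      exact ⟨a, b, c, hab, hcab.1.symm, hcab.2.symm, rfl⟩
    have := hfix g hg
    omega
  have memA : ∀ {g : G}, g ∈ A ↔ g ∈ (S : Subgroup G) ∧ g • α = α := Iff.rfl
  obtain ⟨x₀, hx₀A, hx₀⟩ : ∃ x ∈ A, x ≠ 1 := by
    by_contra h
    push Not at h
    exact hAbot ((Subgroup.eq_bot_iff_forall _).2 h)
  have hSp : IsPGroup 2 ↥(S : Subgroup G) := S.isPGroup'
  haveI := hSp.isNilpotent
  -- growing inside `S`
  have grow : ∀ M : Subgroup G, M ≤ (S : Subgroup G) → ¬ (S : Subgroup G) ≤ M →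
      ∃ g ∈ (S : Subgroup G), g ∉ M ∧ ∀ x ∈ M, g * x * g⁻¹ ∈ M := by
    intro M hM hne
    have hlt : M.subgroupOf (S : Subgroup G) < ⊤ := lt_top_iff_ne_top.2 fun h => hne (Subgroup.subgroupOf_eq_top.1 h)
    obtain ⟨g, hg, hg'⟩ := SetLike.exists_of_lt (normalizerCondition_of_isNilpotent (G := ↥(S : Subgroup G)) _ hlt)
    exact ⟨g, g.2, hg', fun x hx => (Subgroup.mem_normalizer_iff.1 hg ⟨x, hM hx⟩).1 hx⟩
  obtain ⟨n, hnS, hnA, hn⟩ := grow A inf_le_left fun h => hle (h.trans inf_le_right)
  have hn' : ∀ x ∈ A, n⁻¹ * x * n ∈ A := by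
    intro x hx
    haveI : Finite A := inferInstance
    have hsurj : Function.Surjective fun y : A => (⟨n * y * n⁻¹, hn y y.2⟩ : A) :=
      Finite.surjective_of_injective fun a b h => Subtype.ext (by simpa using congrArg Subtype.val h)
    obtain ⟨y, hy⟩ := hsurj ⟨x, hx⟩
    have hy' : n * (y : G) * n⁻¹ = x := congrArg Subtype.val hy
    rw [← hy']
    convert y.2 using 1
    group
  set β := n • α with hβ
  have hαβ : α ≠ β := fun h => hnA (memA.2 ⟨hnS, h.symm⟩)
  have hAβ : ∀ x ∈ A, x • β = β := by
    intro x hx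
    have h := (memA.1 (hn' x hx)).2
    rw [mul_smul, mul_smul, inv_smul_eq_iff] at h
    exact h
  have hpair : ∀ {m : G}, (∀ x ∈ A, m * x * m⁻¹ ∈ A) → m • α = α ∨ m • α = β := by
    intro m hm
    have hsurj : Function.Surjective fun y : A => (⟨m * y * m⁻¹, hm y y.2⟩ : A) :=
      Finite.surjective_of_injective fun a b h => Subtype.ext (by simpa using congrArg Subtype.val h)
    obtain ⟨y, hy⟩ := hsurj ⟨x₀, hx₀A⟩
    have hy' : m * (y : G) * m⁻¹ = x₀ := congrArg Subtype.val hy
    refine three hx₀ (memA.1 hx₀A).2 (hAβ _ hx₀A) ?_ hαβ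
    rw [← hy', mul_smul, mul_smul, inv_smul_smul, (memA.1 y.2).2]
  have hnβ : n • β = α := by
    have hn2 : ∀ x ∈ A, (n * n) * x * (n * n)⁻¹ ∈ A := fun x hx => by
      convert hn _ (hn x hx) using 1
      group
    rcases hpair hn2 with h | h
    · rwa [mul_smul] at h
    · rw [mul_smul] at h
      exact absurd (smul_left_cancel n h) hαβ.symm
  have hfixβ : ∀ {y : G}, y ∈ (S : Subgroup G) → y • β = β → (y • α = α ∨ y • α = β) → y • α = α := by
    intro y _ hyβ h
    exact h.resolve_right fun h' => hαβ (smul_left_cancel y (h'.trans hyβ.symm))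
  by_cases hM : ∀ s ∈ (S : Subgroup G), s • α = α ∨ s • α = β
  · have hswap : ∀ {a b : G}, a ∈ (S : Subgroup G) → b ∈ (S : Subgroup G) → a • α = β → b • α = β →
        a⁻¹ * b ∈ A := by
      intro a b ha hb h1 h2
      refine memA.2 ⟨mul_mem (inv_mem ha) hb, ?_⟩
      rw [mul_smul, h2, inv_smul_eq_iff, h1]
    have horb : MulAction.orbit ↥(S : Subgroup G) α = {α, β} := by
      ext ω
      constructor
      · rintro ⟨s, rfl⟩; exact hM s s.2
      · rintro (rfl | rfl)
        · exact MulAction.mem_orbit_self _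
        · exact ⟨⟨n, hnS⟩, rfl⟩
    have horb2 : Nat.card (MulAction.orbit ↥(S : Subgroup G) α) = 2 := by
      rw [horb, Nat.card_coe_set_eq, Set.ncard_pair hαβ]
    have hidx : A.relIndex (S : Subgroup G) = 2 := by
      refine Eq.trans ?_ horb2
      rw [Nat.card_coe_set_eq, ← MulAction.index_stabilizer ↥(S : Subgroup G) α]
      show (A.subgroupOf _).index = _
      congr 1
      ext s
      simp [hA, Subgroup.mem_subgroupOf]
      try rfl
    by_cases hreg : ∀ ω, ω ≠ α → ω ≠ β → ∀ s ∈ (S : Subgroup G), s • ω = ω → s = 1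
    · refine Or.inr (Or.inl ?_)
      have hfp : ∀ {s : G}, s ∈ (S : Subgroup G) → (s ∈ A ↔ ∃ ω : Ω, s • ω = ω) := by
        intro s hs
        refine ⟨fun h => ⟨α, (memA.1 h).2⟩, fun ⟨ω, hω⟩ => memA.2 ⟨hs, ?_⟩⟩
        by_cases h1 : ω = α
        · rwa [h1] at hω
        by_cases h2 : ω = β
        · rw [h2] at hω; exact hfixβ hs hω (hM s hs)
        rw [hreg ω h1 h2 s hs hω, one_smul]
      refine ⟨?_, ⟨α, horb2, ?_⟩, ?_⟩
      · have h1 := A.subgroupOf (S : Subgroup G) |>.card_mul_index
        rw [show (A.subgroupOf (S : Subgroup G)).index = 2 from hidx] at h1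
        have h2 : 2 ≤ Nat.card ↥(A.subgroupOf (S : Subgroup G)) := by
          rw [Nat.card_congr (Subgroup.subgroupOfEquivOfLe inf_le_left).toEquiv]
          exact Finite.one_lt_card_iff_nontrivial.2 ⟨⟨x₀, hx₀A⟩, 1, fun h => hx₀ (congrArg Subtype.val h)⟩
        omega
      · intro ω hω
        rw [horb] at hω
        simp only [Set.mem_insert_iff, Set.mem_singleton_iff, not_or] at hω
        rw [Nat.card_coe_set_eq, ← MulAction.index_stabilizer]
        have : MulAction.stabilizer ↥(S : Subgroup G) ω = ⊥ := (Subgroup.eq_bot_iff_forall _).2 fun s hs =>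
          Subtype.ext (hreg ω hω.1 hω.2 s s.2 hs)
        rw [this, Subgroup.index_bot]
      -- the transfer to `S / A`
      have hA2 : (A.subgroupOf (S : Subgroup G)).index = 2 := hidx
      let φ : ↥(S : Subgroup G) →* Multiplicative (ZMod 2) :=
        { toFun := fun s => if s ∈ A.subgroupOf (S : Subgroup G) then 1 else Multiplicative.ofAdd 1
          map_one' := by simp [one_mem]
          map_mul' := fun a b => by
            have h := Subgroup.mul_mem_iff_of_index_two hA2 (a := a) (b := b)
            by_cases ha : a ∈ A.subgroupOf (S : Subgroup G) <;>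
              by_cases hb : b ∈ A.subgroupOf (S : Subgroup G) <;> simp [h, ha, hb, two_el_sq] }
      have hφ : ∀ s, φ s = 1 ↔ (s : G) ∈ A := fun s => by
        show (if s ∈ A.subgroupOf (S : Subgroup G) then (1 : Multiplicative (ZMod 2)) else Multiplicative.ofAdd 1) = 1 ↔ _
        by_cases h : s ∈ A.subgroupOf (S : Subgroup G)
        · rw [if_pos h]; exact ⟨fun _ => h, fun _ => rfl⟩
        · rw [if_neg h]; exact ⟨fun h' => absurd h' two_el_ne, fun h' => absurd h' h⟩
      have hconst : ∀ (a b : ↥(S : Subgroup G)) (g : G), g⁻¹ * (a : G) * g = b → φ a = φ b := by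
        intro a b g hab
        refine two_el_eq _ _ ?_
        rw [hφ, hφ, hfp a.2, hfp b.2, ← hab]
        constructor
        · rintro ⟨ω, hω⟩
          exact ⟨g⁻¹ • ω, by rw [mul_smul, mul_smul, smul_inv_smul, hω]⟩
        · rintro ⟨ω, hω⟩
          rw [mul_smul, mul_smul, inv_smul_eq_iff] at hω
          exact ⟨g • ω, hω⟩
      haveI : (S : Subgroup G).FiniteIndex := Subgroup.finiteIndex_of_finite_quotient
      set V := MonoidHom.transfer φ with hV
      have hodd : Odd (S : Subgroup G).index := Nat.odd_iff.2 (Nat.two_dvd_ne_zero.1 S.not_dvd_index)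
      have hVS : ∀ s : ↥(S : Subgroup G), V s = φ s := by
        intro s
        haveI : Fintype (Quotient (MulAction.orbitRel (Subgroup.zpowers (s : G)) (G ⧸ (S : Subgroup G)))) :=
          Fintype.ofFinite _
        rw [hV, MonoidHom.transfer_eq_prod_quotient_orbitRel_zpowers_quot]
        have hterm : ∀ q : Quotient (MulAction.orbitRel (Subgroup.zpowers (s : G)) (G ⧸ (S : Subgroup G))),
            φ ⟨q.out.out⁻¹ * (s : G) ^ Function.minimalPeriod ((s : G) • ·) q.out * q.out.out,
              QuotientGroup.out_conj_pow_minimalPeriod_mem (S : Subgroup G) (s : G) q.out⟩ =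
            φ s ^ Function.minimalPeriod ((s : G) • ·) q.out := fun q => by
          rw [← map_pow]
          exact (hconst _ _ q.out.out rfl).symm
        rw [Finset.prod_congr rfl fun q _ => hterm q, Finset.prod_pow_eq_pow_sum]
        have hsum : ∑ q : Quotient (MulAction.orbitRel (Subgroup.zpowers (s : G)) (G ⧸ (S : Subgroup G))),
            Function.minimalPeriod ((s : G) • ·) q.out = (S : Subgroup G).index := by
          rw [Subgroup.index, Nat.card_congr (Subgroup.quotientEquivSigmaZMod (S : Subgroup G) (s : G)),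
            Nat.card_sigma]
          simp [Nat.card_zmod]
        rw [hsum]
        obtain ⟨j, hj⟩ := hodd
        rw [hj, pow_succ, pow_mul]
        rw [two_el_mul, one_pow, one_mul]
      have hKα : ∀ g : G, g • α = α → V g = 1 := by
        intro g hg
        obtain ⟨k, m, hm, hgo⟩ := Nat.exists_eq_pow_mul_and_not_dvd (orderOf_pos g).ne' 2 (by norm_num)
        have hVm : V g ^ m = V g := by
          obtain ⟨j, hj⟩ := Nat.odd_iff.2 (Nat.two_dvd_ne_zero.1 hm)
          rw [hj, pow_succ, pow_mul, two_el_mul, one_pow, one_mul]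
        rw [← hVm, ← map_pow]
        have hy2 : IsPGroup 2 ↥(Subgroup.zpowers (g ^ m)) := IsPGroup.of_card (n := k) (by
          rw [Nat.card_zpowers, orderOf_pow, hgo, Nat.gcd_mul_left_left,
            Nat.mul_div_cancel _ (Nat.pos_of_ne_zero (by rintro rfl; exact hm (dvd_zero 2)))])
        obtain ⟨P, hP⟩ := hy2.exists_le_sylow
        obtain ⟨h, hh⟩ := MulAction.exists_smul_eq G P S
        have hyS : h * g ^ m * h⁻¹ ∈ (S : Subgroup G) := by
          rw [← hh]
          show _ ∈ MulAut.conj h • (P : Subgroup G)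
          exact ⟨g ^ m, hP (Subgroup.mem_zpowers _), by simp⟩
        have hyA : h * g ^ m * h⁻¹ ∈ A := (hfp hyS).2 ⟨h • α, by
          rw [mul_smul, mul_smul, inv_smul_smul]
          congr 1
          exact MulAction.mem_stabilizer_iff.1 (pow_mem (MulAction.mem_stabilizer_iff.2 hg) m)⟩
        have := hVS ⟨_, hyS⟩
        rw [(hφ ⟨_, hyS⟩).2 hyA, map_mul, map_mul, map_inv, mul_comm (V h), mul_inv_cancel_right] at this
        exact this
      set K := V.ker with hK
      have hnK : n ∉ K := fun h => hnA ((hφ ⟨n, hnS⟩).1 ((hVS ⟨n, hnS⟩).symm.trans h))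
      have hKidx : K.index = 2 := by
        rw [hK, Subgroup.index_ker]
        have hne : V.range ≠ ⊥ := fun h => hnK (by
          have : V n ∈ V.range := ⟨n, rfl⟩
          rwa [h, Subgroup.mem_bot] at this)
        have hd : Nat.card V.range ∣ 2 := by
          simpa using (Subgroup.card_subgroup_dvd_card V.range)
        rcases (Nat.dvd_prime Nat.prime_two).1 hd with h | h
        · exact absurd (Subgroup.card_eq_one.1 h) hne
        · exact h
      refine ⟨K, MonoidHom.normal_ker V, Or.inl hKidx, (MulAction.stabilizer G α).subgroupOf K, ?_, ?_, ?_⟩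
      · intro h
        have hxK : x₀ ∈ K := hKα _ (memA.1 hx₀A).2
        have : (⟨x₀, hxK⟩ : ↥K) ∈ (MulAction.stabilizer G α).subgroupOf K := (memA.1 hx₀A).2
        rw [h, Subgroup.mem_bot] at this
        exact hx₀ (congrArg Subtype.val this)
      · intro h
        have hall : ∀ k ∈ K, ∀ ω : Ω, k • ω = ω := by
          intro k hk ω
          obtain ⟨g, rfl⟩ := htr.exists_smul_eq α ω
          have hk' : g⁻¹ * k * g ∈ K := by
            have := (MonoidHom.normal_ker V).conj_mem k hk g⁻¹
            rwa [inv_inv] at this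
          have := (Subgroup.subgroupOf_eq_top.1 h) hk'
          rw [MulAction.mem_stabilizer_iff, mul_smul, mul_smul, inv_smul_eq_iff] at this
          exact this
        exact hx₀ (FaithfulSMul.eq_of_smul_eq_smul fun ω => by
          rw [hall _ (hKα _ (memA.1 hx₀A).2) ω, one_smul])
      intro c hc
      rw [Subgroup.eq_bot_iff_forall]
      rintro ⟨g, hgK⟩ ⟨hg1, hg2⟩
      have hg2 : (c⁻¹ * ⟨g, hgK⟩ * c : ↥K) ∈ (MulAction.stabilizer G α).subgroupOf K := by
        obtain ⟨y, hy, hy'⟩ := hg2
        rw [← show c * y * c⁻¹ = (⟨g, hgK⟩ : ↥K) from hy']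
        rw [show c⁻¹ * (c * y * c⁻¹) * c = y by group]
        exact hy
      by_contra hgne
      have hgne' : g ≠ 1 := fun h => hgne (Subtype.ext h)
      set γ := (c : G) • α
      have hγ : α ≠ γ := fun h => hc h.symm
      have hgγ : g • γ = γ := by
        have : ((c : G)⁻¹ * g * c) • α = α := hg2
        rwa [mul_smul, mul_smul, inv_smul_eq_iff] at this
      obtain ⟨q, hq, hqd⟩ := Nat.exists_prime_and_dvd (fun h => hgne' (orderOf_eq_one_iff.1 h))
      obtain ⟨g', hg'q, hg'α, hg'γ, hg'K⟩ : ∃ g' : G, orderOf g' = q ∧ g' • α = α ∧ g' • γ = γ ∧ g' ∈ K :=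
        ⟨g ^ (orderOf g / q), orderOf_pow_orderOf_div (orderOf_pos g).ne' hqd,
          MulAction.mem_stabilizer_iff.1 (pow_mem (MulAction.mem_stabilizer_iff.2 hg1) _),
          MulAction.mem_stabilizer_iff.1 (pow_mem (MulAction.mem_stabilizer_iff.2 hgγ) _), pow_mem hgK _⟩
      haveI := Fact.mk hq
      have hg'1 : g' ≠ 1 := fun h => by rw [h, orderOf_one] at hg'q; exact hq.ne_one hg'q.symm
      have hsep : ∀ k ∈ K, k • α ≠ β := fun k hk h => hnK (by
        have : V (k⁻¹ * n) = 1 := hKα _ (by rw [mul_smul, inv_smul_eq_iff, h])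
        have h2 := (MonoidHom.mem_ker (f := V)).2 this
        simpa using K.mul_mem hk h2)
      rcases eq_or_ne q 2 with rfl | hq2
      · obtain ⟨P, hP⟩ := (IsPGroup.of_card (n := 1) (p := 2)
          (show Nat.card ↥(Subgroup.zpowers g') = _ by rw [Nat.card_zpowers, hg'q, pow_one])).exists_le_sylow
        obtain ⟨h, hh⟩ := MulAction.exists_smul_eq G P S
        have hyS : h * g' * h⁻¹ ∈ (S : Subgroup G) := by
          rw [← hh]
          show _ ∈ MulAut.conj h • (P : Subgroup G)
          exact ⟨g', hP (Subgroup.mem_zpowers _), by simp⟩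
        have e1 : (h * g' * h⁻¹) • (h • α) = h • α := by rw [mul_smul, mul_smul, inv_smul_smul, hg'α]
        have e2 : (h * g' * h⁻¹) • (h • γ) = h • γ := by rw [mul_smul, mul_smul, inv_smul_smul, hg'γ]
        have hyA := (hfp hyS).2 ⟨_, e1⟩
        have hy1 : h * g' * h⁻¹ ≠ 1 := fun h' => hg'1 (conj_eq_one_iff.1 h')
        have p1 := three hy1 (memA.1 hyA).2 (hAβ _ hyA) e1 hαβ
        have p2 := three hy1 (memA.1 hyA).2 (hAβ _ hyA) e2 hαβ
        have hk : h * c * h⁻¹ ∈ K := (MonoidHom.normal_ker V).conj_mem _ c.2 h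
        have hk' : (h * c * h⁻¹) • (h • α) = h • γ := by rw [mul_smul, mul_smul, inv_smul_smul]
        rcases p1 with p1 | p1 <;> rcases p2 with p2 | p2
        · exact hγ (smul_left_cancel h (p1.trans p2.symm))
        · rw [p1, p2] at hk'; exact hsep _ hk hk'
        · rw [p1, p2] at hk'
          exact hsep _ (inv_mem hk) (by rw [inv_smul_eq_iff, hk'])
        · exact hγ (smul_left_cancel h (p1.trans p2.symm))
      · set O₁ := MulAction.orbit ↥K α
        set O₂ := MulAction.orbit ↥K β
        have hKn : ∀ k ∈ K, n * k * n⁻¹ ∈ K := fun k hk => (MonoidHom.normal_ker V).conj_mem k hk n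
        have hcardeq : Nat.card O₂ = Nat.card O₁ := by
          have him : (fun ω : Ω => n • ω) '' O₁ = O₂ := by
            ext ω
            constructor
            · rintro ⟨_, ⟨k, rfl⟩, rfl⟩
              exact ⟨⟨_, hKn _ k.2⟩, by show (n * (k : G) * n⁻¹) • β = n • (k : G) • α; rw [hβ, mul_smul, mul_smul, inv_smul_smul]⟩
            · rintro ⟨k, rfl⟩
              refine ⟨(n⁻¹ * (k : G) * n) • α, ⟨⟨_, (by have := (MonoidHom.normal_ker V).conj_mem _ k.2 n⁻¹; rwa [inv_inv] at this : n⁻¹ * (k : G) * n ∈ K)⟩, rfl⟩, ?_⟩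
              show n • (n⁻¹ * (k : G) * n) • α = (k : G) • β
              rw [mul_smul, mul_smul, smul_inv_smul]
          rw [← him, Nat.card_image_of_injective (MulAction.injective n)]
        have hZ : IsPGroup q ↥(Subgroup.zpowers (⟨g', hg'K⟩ : ↥K)) := IsPGroup.of_card (n := 1) (by
          rw [Nat.card_zpowers, Subgroup.orderOf_mk, hg'q, pow_one])
        have h1 := hZ.card_modEq_card_fixedPoints O₁
        have h2 := hZ.card_modEq_card_fixedPoints O₂
        have hF : ∀ (x : Ω) (z : MulAction.orbit ↥K x),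
            z ∈ MulAction.fixedPoints ↥(Subgroup.zpowers (⟨g', hg'K⟩ : ↥K)) (MulAction.orbit ↥K x) ↔ g' • (z : Ω) = z := by
          intro x z
          constructor
          · intro h
            exact congrArg Subtype.val (h ⟨_, Subgroup.mem_zpowers _⟩)
          · intro h u
            have : (⟨g', hg'K⟩ : ↥K) ∈ MulAction.stabilizer ↥K z := Subtype.ext h
            exact Subgroup.zpowers_le.2 this u.2
        have hne : ∀ k ∈ K, k • β ≠ α := fun k hk h => hsep _ (inv_mem hk) (by rw [inv_smul_eq_iff, h])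
        have e2 : Nat.card (MulAction.fixedPoints ↥(Subgroup.zpowers (⟨g', hg'K⟩ : ↥K)) O₂) = 0 := by
          rw [Nat.card_eq_zero]
          left
          refine ⟨fun ⟨⟨z, k, hk⟩, hz⟩ => ?_⟩
          have hz' : g' • z = z := (hF β _).1 hz
          rcases three hg'1 hg'α hg'γ hz' hγ with h | h
          · exact hne _ k.2 (hk.trans h)
          · refine hne _ (mul_mem (inv_mem c.2) k.2) ?_
            rw [mul_smul, inv_smul_eq_iff]
            exact hk.trans h
        have e1 : Nat.card (MulAction.fixedPoints ↥(Subgroup.zpowers (⟨g', hg'K⟩ : ↥K)) O₁) = 2 := by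
          have hset : MulAction.fixedPoints ↥(Subgroup.zpowers (⟨g', hg'K⟩ : ↥K)) O₁ =
              {(⟨α, MulAction.mem_orbit_self α⟩ : O₁), (⟨γ, ⟨c, rfl⟩⟩ : O₁)} := by
            ext z
            rw [hF α z]
            simp only [Set.mem_insert_iff, Set.mem_singleton_iff, Subtype.ext_iff]
            exact ⟨fun h => three hg'1 hg'α hg'γ h hγ, fun h => by
              rcases h with h | h <;> rw [h]
              exacts [hg'α, hg'γ]⟩
          rw [hset, Nat.card_coe_set_eq, Set.ncard_pair fun h => hγ (congrArg Subtype.val h)]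
        rw [e1] at h1
        rw [e2, hcardeq] at h2
        have h20 := h1.symm.trans h2
        have : q ∣ 2 := Nat.modEq_zero_iff_dvd.1 h20
        exact hq2 ((Nat.prime_dvd_prime_iff_eq hq Nat.prime_two).1 this)
    · left
      push Not at hreg
      obtain ⟨ω, hωα, hωβ, t, htS, htω, ht1⟩ := hreg
      refine ⟨?_, Or.inr hidx⟩
      have hout : ∀ {y : G}, y ∈ A → y • ω = ω → y = 1 := fun {y} hy hyω => by
        by_contra h
        rcases three h (memA.1 hy).2 (hAβ _ hy) hyω hαβ with h' | h' <;> contradiction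
      have htA : t ∉ A := fun h => ht1 (hout h htω)
      have htt : t * t = 1 := by
        refine hout ?_ (by rw [mul_smul, htω, htω])
        have := Subgroup.mul_self_mem_of_index_two (show (A.subgroupOf (S : Subgroup G)).index = 2 from hidx) (⟨t, htS⟩ : ↥(S : Subgroup G))
        exact this
      have htαβ : t • α = β := (hM t htS).resolve_left fun h => htA (memA.2 ⟨htS, h⟩)
      -- an involution of `A` in the centre of `S`
      haveI : (A.subgroupOf (S : Subgroup G)).Normal := Subgroup.normal_of_index_eq_two hidx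
      haveI : Nontrivial ↥(A.subgroupOf (S : Subgroup G)) :=
        ⟨⟨⟨⟨x₀, hx₀A.1⟩, hx₀A⟩, 1, fun h => hx₀ (congrArg Subtype.val (congrArg Subtype.val h))⟩⟩
      obtain ⟨z, ⟨hzN, hzc⟩, hz1⟩ := (Subgroup.bot_or_exists_ne_one _).resolve_left
        (Lib.Solvable.inf_center_ne_bot (N := A.subgroupOf (S : Subgroup G))
          ((Subgroup.nontrivial_iff_ne_bot _).mp inferInstance))
      obtain ⟨k, hk⟩ := IsPGroup.iff_orderOf.1 hSp z
      have hk0 : k ≠ 0 := fun h => hz1 (orderOf_eq_one_iff.1 (by rw [hk, h, pow_zero]))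
      set u := z ^ (2 ^ (k - 1)) with hu
      have huo : orderOf u = 2 := by
        have := orderOf_pow_orderOf_div (orderOf_pos z).ne' (show 2 ∣ orderOf z by rw [hk]; exact dvd_pow_self 2 hk0)
        rwa [hk, show 2 ^ k / 2 = 2 ^ (k - 1) by
          rw [show k = k - 1 + 1 by omega, pow_succ, Nat.mul_div_cancel _ two_pos]; rfl] at this
      refine maximal_class_of_centralizer hSp (t := ⟨t, htS⟩) (u := u) ?_ huo ?_ ?_ ?_
      · exact orderOf_eq_prime (Subtype.ext (by rw [pow_two]; exact htt)) fun h => ht1 (congrArg Subtype.val h)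
      · intro h
        have : u ∈ A.subgroupOf (S : Subgroup G) := pow_mem hzN _
        rw [h] at this
        exact htA this
      · exact (Subgroup.mem_center_iff.1 (pow_mem hzc _) ⟨t, htS⟩)
      -- the centralizer
      have hsmall : ∀ y : ↥(Subgroup.centralizer ({(⟨t, htS⟩ : ↥(S : Subgroup G))} : Set ↥(S : Subgroup G))),
          t • ((y : G) • ω) = (y : G) • ω := by
        intro y
        have hy : ((y : ↥(S : Subgroup G)) : G) * t = t * (y : ↥(S : Subgroup G)) :=
          congrArg Subtype.val (Subgroup.mem_centralizer_singleton_iff.1 y.2)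
        rw [← mul_smul, ← hy, mul_smul, htω]
      let f : ↥(Subgroup.centralizer ({(⟨t, htS⟩ : ↥(S : Subgroup G))} : Set ↥(S : Subgroup G))) →
          Bool × MulAction.fixedBy Ω t :=
        fun y => (decide ((y : G) ∈ A), ⟨(y : G) • ω, hsmall y⟩)
      have hf : Function.Injective f := by
        intro y y' h
        simp only [f, Prod.mk.injEq, decide_eq_decide, Subtype.mk.injEq] at h
        obtain ⟨hiff, hω'⟩ := h
        apply Subtype.ext; apply Subtype.ext
        refine inv_mul_eq_one.1 (hout ?_ (by rw [mul_smul, inv_smul_eq_iff]; exact (congrArg Subtype.val hω').symm))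
        by_cases hy : (y : G) ∈ A
        · exact mul_mem (inv_mem hy) (hiff.1 hy)
        · refine hswap (y : ↥(S : Subgroup G)).2 (y' : ↥(S : Subgroup G)).2 ?_ ?_
          · exact (hM _ (y : ↥(S : Subgroup G)).2).resolve_left fun h => hy (memA.2 ⟨(y : ↥(S : Subgroup G)).2, h⟩)
          · exact (hM _ (y' : ↥(S : Subgroup G)).2).resolve_left fun h =>
              hy (hiff.2 (memA.2 ⟨(y' : ↥(S : Subgroup G)).2, h⟩))
      have := Nat.card_le_card_of_injective f hf
      rw [Nat.card_prod, Nat.card_eq_two_iff.2 ⟨true, false, by decide, by ext x; cases x <;> simp⟩] at this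
      have := hfix t ht1
      omega
  · left
    push Not at hM
    obtain ⟨s₀, hs₀, hs₀α, hs₀β⟩ := hM
    set M := A ⊔ Subgroup.zpowers n with hMdef
    have hMS : M ≤ (S : Subgroup G) := sup_le inf_le_left (Subgroup.zpowers_le.2 hnS)
    have hMP : ∀ m ∈ M, (m • α = α ∨ m • α = β) ∧ (m • β = α ∨ m • β = β) := by
      intro m hm
      rw [hMdef, Subgroup.sup_eq_closure] at hm
      induction hm using Subgroup.closure_induction with
      | mem z hz =>
        rcases hz with hz | hz
        · exact ⟨Or.inl (memA.1 hz).2, Or.inr (hAβ _ hz)⟩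
        · obtain ⟨i, rfl⟩ := hz
          have hmem : n ∈ MulAction.stabilizer G ({α, β} : Set Ω) := by
            rw [MulAction.mem_stabilizer_iff]
            ext ω
            simp only [Set.mem_smul_set_iff_inv_smul_mem, Set.mem_insert_iff, Set.mem_singleton_iff, inv_smul_eq_iff]
            rw [← hβ, hnβ]
            exact or_comm
          have h := MulAction.mem_stabilizer_iff.1 (zpow_mem hmem i)
          constructor
          · have : (n ^ i) • α ∈ ({α, β} : Set Ω) := h ▸ Set.smul_mem_smul_set (Set.mem_insert _ _)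
            simpa using this
          · have : (n ^ i) • β ∈ ({α, β} : Set Ω) := h ▸ Set.smul_mem_smul_set (Set.mem_insert_of_mem _ rfl)
            simpa using this
      | one => exact ⟨Or.inl (one_smul _ _), Or.inr (one_smul _ _)⟩
      | mul a b _ _ ha hb =>
        simp only [mul_smul]
        constructor
        · rcases hb.1 with h | h <;> rw [h]
          exacts [ha.1, ha.2]
        · rcases hb.2 with h | h <;> rw [h]
          exacts [ha.1, ha.2]
      | inv a _ ha =>
        obtain ⟨h1, h2⟩ := ha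
        simp only [inv_smul_eq_iff]
        rcases h1 with h1 | h1 <;> rcases h2 with h2 | h2
        · exact absurd (smul_left_cancel a (h1.trans h2.symm)) hαβ
        · exact ⟨Or.inl h1.symm, Or.inr h2.symm⟩
        · exact ⟨Or.inr h2.symm, Or.inl h1.symm⟩
        · exact absurd (smul_left_cancel a (h1.trans h2.symm)) hαβ
    obtain ⟨g, hgS, hgM, hg⟩ := grow M hMS fun h => by
      rcases (hMP s₀ (h hs₀)).1 with h' | h'
      exacts [hs₀α h', hs₀β h']
    have hgα : g • α ≠ α ∧ g • α ≠ β := by
      refine ⟨fun h => hgM (le_sup_left (α := Subgroup G) (memA.2 ⟨hgS, h⟩)), fun h => hgM ?_⟩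
      have hA' : n⁻¹ * g ∈ A := memA.2 ⟨mul_mem (inv_mem hnS) hgS, by rw [mul_smul, h, inv_smul_eq_iff]⟩
      have := mul_mem (Subgroup.mem_sup_right (S := A) (Subgroup.mem_zpowers n)) (Subgroup.mem_sup_left (T := Subgroup.zpowers n) hA')
      simpa using this
    have houtA : ∀ x ∈ A, x ≠ 1 → g * x * g⁻¹ ∉ A := by
      intro x hx hx1 h
      have h1 : g * x * g⁻¹ ≠ 1 := fun h' => hx1 (conj_eq_one_iff.1 h')
      have e : (g * x * g⁻¹) • (g • α) = g • α := by rw [mul_smul, mul_smul, inv_smul_smul, (memA.1 hx).2]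
      rcases three h1 (memA.1 h).2 (hAβ _ h) e hαβ with h' | h'
      exacts [hgα.1 h', hgα.2 h']
    have hAcard : Nat.card A = 2 := by
      refine le_antisymm ?_ (Finite.one_lt_card_iff_nontrivial.2 ⟨⟨x₀, hx₀A⟩, 1, fun h => hx₀ (congrArg Subtype.val h)⟩)
      let f : A → Bool := fun x => decide ((g * (x : G) * g⁻¹) • α = α)
      have hf : Function.Injective f := by
        intro x y h
        simp only [f, decide_eq_decide] at h
        by_contra hxy
        refine houtA _ (mul_mem (inv_mem x.2) y.2) (fun h' => hxy (Subtype.ext (inv_mul_eq_one.1 h'))) ?_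
        have hu := hg _ (Subgroup.mem_sup_left x.2)
        have hv := hg _ (Subgroup.mem_sup_left y.2)
        refine memA.2 ⟨mul_mem (mul_mem hgS (mul_mem (inv_mem x.2.1) y.2.1)) (inv_mem hgS), ?_⟩
        rw [show g * ((x : G)⁻¹ * (y : G)) * g⁻¹ = (g * (x : G) * g⁻¹)⁻¹ * (g * (y : G) * g⁻¹) by group,
          mul_smul, inv_smul_eq_iff]
        rcases (hMP _ hu).1 with h1 | h1 <;> rcases (hMP _ hv).1 with h2 | h2
        · rw [h1, h2]
        · exact absurd ((h.1 h1).symm.trans h2) hαβ
        · exact absurd ((h.2 h2).symm.trans h1) hαβ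
        · rw [h1, h2]
      simpa using Nat.card_le_card_of_injective f hf
    refine ⟨?_, Or.inl hAcard⟩
    have hAx : ∀ x ∈ A, x ≠ 1 → x = x₀ := by
      intro x hx hx1
      obtain ⟨a, b, hab, huniv⟩ := Nat.card_eq_two_iff.1 hAcard
      have hmem : ∀ z : A, z = a ∨ z = b := fun z => by
        have := Set.mem_univ z; rw [← huniv] at this; simpa using this
      have p1 := hmem 1
      have p2 := hmem ⟨x, hx⟩
      have p3 := hmem ⟨x₀, hx₀A⟩
      rcases p1 with p1 | p1 <;> rcases p2 with p2 | p2 <;> rcases p3 with p3 | p3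
      all_goals first
        | exact congrArg Subtype.val (p2.trans p3.symm)
        | exact absurd (congrArg Subtype.val (p2.trans p1.symm)) hx1
        | exact absurd (congrArg Subtype.val (p3.trans p1.symm)) hx₀
    have hx₀o : orderOf x₀ = 2 := by
      have h := orderOf_dvd_natCard (⟨x₀, hx₀A⟩ : A)
      rw [hAcard, Subgroup.orderOf_mk] at h
      exact ((Nat.dvd_prime Nat.prime_two).1 h).resolve_left fun h' => hx₀ (orderOf_eq_one_iff.1 h')
    have hcent : ∀ m ∈ M, Commute m x₀ := by
      intro m hm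
      have hle' : M ≤ Subgroup.centralizer ({x₀} : Set G) := by
        refine sup_le (fun x hx => ?_) (Subgroup.zpowers_le.2 ?_)
        · rw [Subgroup.mem_centralizer_singleton_iff]
          by_cases hx1 : x = 1
          · rw [hx1, one_mul, mul_one]
          · rw [hAx x hx hx1]
        · rw [Subgroup.mem_centralizer_singleton_iff, ← mul_inv_eq_iff_eq_mul]
          exact hAx _ (hn _ hx₀A) fun h => hx₀ (conj_eq_one_iff.1 h)
      exact Subgroup.mem_centralizer_singleton_iff.1 (hle' hm)
    refine maximal_class_of_centralizer hSp (t := ⟨x₀, hx₀A.1⟩) (u := ⟨g * x₀ * g⁻¹, mul_mem (mul_mem hgS hx₀A.1) (inv_mem hgS)⟩) ?_ ?_ ?_ ?_ ?_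
    · rw [Subgroup.orderOf_mk, hx₀o]
    · rw [Subgroup.orderOf_mk, ← MulAut.conj_apply, MulEquiv.orderOf_eq, hx₀o]
    · intro h
      have := congrArg Subtype.val h
      exact houtA x₀ hx₀A hx₀ (by
        show g * x₀ * g⁻¹ ∈ A
        rw [show g * x₀ * g⁻¹ = x₀ from this]; exact hx₀A)
    · exact Subtype.ext (hcent _ (hg _ (Subgroup.mem_sup_left hx₀A))).symm.eq
    let f : ↥(Subgroup.centralizer ({(⟨x₀, hx₀A.1⟩ : ↥(S : Subgroup G))} : Set ↥(S : Subgroup G))) →
        A × Bool := fun y =>
      if h : (y : G) • α = α then (⟨(y : G), memA.2 ⟨(y : ↥(S : Subgroup G)).2, h⟩⟩, true)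
      else if h' : (n⁻¹ * (y : G)) • α = α then
        (⟨n⁻¹ * (y : G), memA.2 ⟨mul_mem (inv_mem hnS) (y : ↥(S : Subgroup G)).2, h'⟩⟩, false) else (1, false)
    have hin : ∀ y : ↥(Subgroup.centralizer ({(⟨x₀, hx₀A.1⟩ : ↥(S : Subgroup G))} : Set ↥(S : Subgroup G))),
        (y : G) • α = α ∨ (n⁻¹ * (y : G)) • α = α := by
      intro y
      have hy : ((y : ↥(S : Subgroup G)) : G) * x₀ = x₀ * (y : ↥(S : Subgroup G)) :=
        congrArg Subtype.val (Subgroup.mem_centralizer_singleton_iff.1 y.2)
      refine (hpair (m := (y : G)) fun x hx => ?_).imp_right fun h => by rw [mul_smul, h, inv_smul_eq_iff]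
      by_cases hx1 : x = 1
      · rw [hx1, mul_one, mul_inv_cancel]; exact one_mem _
      · rw [hAx x hx hx1, hy, mul_inv_cancel_right]; exact hx₀A
    have hf : Function.Injective f := by
      intro y y' h
      apply Subtype.ext; apply Subtype.ext
      simp only [f] at h
      by_cases h1 : (y : G) • α = α <;> by_cases h2 : (y' : G) • α = α
      · simpa [h1, h2] using h
      · simp [h1, h2, (hin y').resolve_left h2] at h
      · simp [h1, h2, (hin y).resolve_left h1] at h
      · simpa [h1, h2, (hin y).resolve_left h1, (hin y').resolve_left h2] using h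
    have := Nat.card_le_card_of_injective f hf
    rw [Nat.card_prod, hAcard, Nat.card_eq_two_iff.2 ⟨true, false, by decide, by ext x; cases x <;> simp⟩] at this
    exact this

end Cfsg.Agent.S3390
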