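import Cfsg.Statements.S3401
import Mathlib
import Cfsg.Agent.Lib.Recognition.Burnside

set_option autoImplicit false
set_option linter.style.haveILetI false
open Cfsg
open MulAction
open Cfsg.Agent.Lib.Recognition
open scoped Pointwise

namespace Cfsg.Agent.S3401

/-- Let G be a doubly transitive permutation group on a finite set Ω with |Ω| ≡ 2 mod 4 and |Ω| > 2. Then G has a unique minimal normal subgroup M (a nontrivial normal subgroup contained in every nontrivial normal subgroup); M is simple and doubly transitive on Ω, and its centralizer in G is trivial (so G embeds in Aut(M)). -/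
theorem result {G : Type*} [Group G] [Finite G] {Ω : Type*} [Fintype Ω] [MulAction G Ω] [FaithfulSMul G Ω]
    (h2 : MulAction.IsMultiplyPretransitive G Ω 2) (hn : Fintype.card Ω % 4 = 2) (hn2 : 2 < Fintype.card Ω) :
    ∃ M : Subgroup G, M.Normal ∧ M ≠ ⊥ ∧ (∀ N : Subgroup G, N.Normal → N ≠ ⊥ → M ≤ N) ∧
      IsSimpleGroup ↥M ∧ MulAction.IsMultiplyPretransitive ↥M Ω 2 ∧ Subgroup.centralizer (M : Set G) = ⊥ := by
  classical
  haveI : Nontrivial Ω := Fintype.one_lt_card_iff_nontrivial.1 (by omega)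
  haveI : IsPreprimitive G Ω := isPreprimitive_of_is_two_pretransitive h2
  have hG : (⊤ : Subgroup G) ≠ ⊥ := fun h => by
    obtain ⟨x, y, hxy⟩ := exists_pair_ne Ω
    obtain ⟨g, hg⟩ := exists_smul_eq G x y
    have h1 : g = 1 := Subgroup.mem_bot.1 (h ▸ Subgroup.mem_top g)
    rw [h1, one_smul] at hg
    exact hxy hg
  obtain ⟨M, ⟨hMn, hM1⟩, hMmin'⟩ :=
    exists_minimal_of_wellFoundedLT (fun M : Subgroup G => M.Normal ∧ M ≠ ⊥) ⟨⊤, inferInstance, hG⟩
  haveI := hMn
  have hmin : ∀ K : Subgroup G, K.Normal → K ≤ M → K = ⊥ ∨ K = M := fun K hK hKM => by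
    by_cases hK1 : K = ⊥
    · exact Or.inl hK1
    · exact Or.inr (le_antisymm hKM (hMmin' ⟨hK, hK1⟩ hKM))
  obtain ⟨hMt, hcase⟩ := burnside_minimal_normal h2 M hM1 hmin
  haveI := hMt
  obtain ⟨a⟩ := (inferInstance : Nonempty Ω)
  have hidx : (stabilizer M a).index = Fintype.card Ω := by
    rw [index_stabilizer_of_transitive, Nat.card_eq_fintype_card]
  rcases hcase with ⟨-, ⟨p, hp, hexp⟩, hreg⟩ | ⟨hsimple, hprim, hnr, hC⟩
  · exfalso
    haveI := Fact.mk hp
    have hcard : Nat.card M = Fintype.card Ω := by rw [← hidx, hreg, Subgroup.index_bot]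
    have hpM : IsPGroup p M := fun x => ⟨1, Subtype.ext (by rw [Subgroup.coe_pow, pow_one, hexp x x.2]; rfl)⟩
    obtain ⟨k, hk⟩ := hpM.exists_card_eq
    rw [hcard] at hk
    rw [hk] at hn hn2
    have h2p : 2 ∣ p ^ k := by omega
    obtain rfl := (Nat.prime_dvd_prime_iff_eq Nat.prime_two hp).1 (Nat.prime_two.dvd_of_dvd_pow h2p)
    match k with
    | 0 => simp at hn2
    | 1 => simp at hn2
    | k + 2 => rw [pow_add] at hn; omega
  refine ⟨M, hMn, hM1, fun K hK hK1 => ?_, hsimple, ?_, hC⟩
  · haveI := hK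
    rcases hmin (K ⊓ M) inferInstance inf_le_right with h | h
    · exfalso
      apply hK1
      rw [eq_bot_iff, ← hC]
      intro x hx
      rw [Subgroup.mem_centralizer_iff]
      intro y hy
      have hm : x * y * x⁻¹ * y⁻¹ ∈ K ⊓ M := by
        refine ⟨?_, M.mul_mem (hMn.conj_mem y hy x) (M.inv_mem hy)⟩
        rw [show x * y * x⁻¹ * y⁻¹ = x * (y * x⁻¹ * y⁻¹) by simp [mul_assoc]]
        exact K.mul_mem hx (hK.conj_mem _ (K.inv_mem hx) y)
      rw [h, Subgroup.mem_bot, mul_inv_eq_one, mul_inv_eq_iff_eq_mul] at hm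
      exact hm.symm
    · exact h ▸ inf_le_left
  -- double transitivity
  rw [is_two_pretransitive_iff] at h2 ⊢
  haveI : Fact (Nat.Prime 2) := ⟨Nat.prime_two⟩
  let Ma := stabilizer M a
  let S₀ : Sylow 2 Ma := default
  let S : Subgroup M := (S₀ : Subgroup Ma).map Ma.subtype
  have hSle : S ≤ Ma := Subgroup.map_subtype_le _
  have hScard : Nat.card S = Nat.card (S₀ : Subgroup Ma) :=
    (Nat.card_congr ((S₀ : Subgroup Ma).equivMapOfInjective _ Ma.subtype_injective).toEquiv).symm
  have hS : IsPGroup 2 S := S₀.isPGroup'.map Ma.subtype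
  let F : Set Ω := fixedPoints S Ω
  have haF : a ∈ F := fun s => hSle s.2
  -- conjugation by elements of G
  have hstab : ∀ g : G, ∀ c : Ω, ∀ x : M,
      (⟨g * (x : G) * g⁻¹, hMn.conj_mem x x.2 g⟩ : M) • (g • c) = g • x • c := fun g c x => by
    show (g * (x : G) * g⁻¹) • g • c = g • (x : G) • c
    rw [smul_smul, smul_smul, inv_mul_cancel_right]
  let cj : G → (M →* M) := fun g =>
    { toFun := fun x => ⟨g * (x : G) * g⁻¹, hMn.conj_mem x x.2 g⟩
      map_one' := Subtype.ext (by simp)
      map_mul' := fun x y => Subtype.ext (by simp [mul_assoc]) }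
  have hcj : ∀ g, Function.Injective (cj g) := fun g x y h => Subtype.ext (by simpa [cj] using congrArg Subtype.val h)
  have hMa_card : ∀ b : Ω, Nat.card (stabilizer M b) = Nat.card Ma := fun b => by
    have h1 := (stabilizer M b).card_mul_index
    have h3 := Ma.card_mul_index
    rw [index_stabilizer_of_transitive] at h1
    rw [show Ma.index = Nat.card Ω from index_stabilizer_of_transitive M a] at h3
    exact Nat.eq_of_mul_eq_mul_right Nat.card_pos (h1.trans h3.symm)
  -- orbits of the stabilizer have odd length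
  have hkodd : ∀ b : Ω, b ≠ a → Odd (Nat.card (orbit Ma b)) := by
    have hsame : ∀ b c : Ω, b ≠ a → c ≠ a → Nat.card (orbit Ma b) = Nat.card (orbit Ma c) := by
      intro b c hb hc
      obtain ⟨g, hga, hgb⟩ := h2 hb.symm hc.symm
      have himg : (fun x => g • x) '' orbit Ma b = orbit Ma c := by
        ext z
        constructor
        · rintro ⟨_, ⟨⟨x, hx⟩, rfl⟩, rfl⟩
          refine ⟨⟨cj g x, ?_⟩, ?_⟩
          · show (cj g x) • a = a
            conv_lhs => rw [← hga]
            exact (hstab g a x).trans (by rw [show x • a = a from hx, hga])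
          · show (cj g x) • c = g • x • b
            rw [← hgb]
            exact hstab g b x
        · rintro ⟨⟨x, hx⟩, rfl⟩
          have hga' : g⁻¹ • a = a := inv_smul_eq_iff.2 hga.symm
          refine ⟨(cj g⁻¹ x) • b, ⟨⟨cj g⁻¹ x, ?_⟩, rfl⟩, ?_⟩
          · show (cj g⁻¹ x) • a = a
            conv_lhs => rw [← hga']
            exact (hstab g⁻¹ a x).trans (by rw [show x • a = a from hx, hga'])
          · show g • (cj g⁻¹ x) • b = x • c
            have hb' : g⁻¹ • c = b := inv_smul_eq_iff.2 hgb.symm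
            rw [← hb']
            rw [show (cj g⁻¹ x) • (g⁻¹ • c) = g⁻¹ • x • c from hstab g⁻¹ c x, smul_inv_smul]
      rw [← himg, Nat.card_image_of_injective (MulAction.injective g)]
    intro b hb
    have hdvd : Nat.card (orbit Ma b) ∣ Fintype.card Ω - 1 := by
      let X : Set Ω := {x | x ≠ a}
      have hXc : Nat.card X = Fintype.card Ω - 1 := by
        rw [Nat.card_coe_set_eq, show X = {a}ᶜ from rfl, Set.ncard_compl, Set.ncard_singleton, Nat.card_eq_fintype_card]
      have hmem : ∀ x : X, ∀ m : Ma, m • (x : Ω) ≠ a := fun x m h => x.2 (by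
        have hm : m • a = a := m.2
        exact MulAction.injective m (h.trans hm.symm))
      let r : Setoid X := (orbitRel Ma Ω).comap Subtype.val
      rw [← hXc, Nat.card_congr (Equiv.sigmaFiberEquiv (Quotient.mk r)).symm, Nat.card_sigma]
      apply Finset.dvd_sum
      intro q _
      obtain ⟨x, rfl⟩ := Quotient.exists_rep q
      apply dvd_of_eq
      rw [hsame b x hb x.2]
      refine Nat.card_congr ⟨fun y => ⟨⟨y.1, ?_⟩, Quotient.sound ?_⟩, fun y => ⟨y.1.1, ?_⟩, fun y => rfl, fun y => rfl⟩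
      · obtain ⟨m, hm⟩ := y.2
        exact fun h => hmem x m (hm.trans h)
      · exact y.2
      · exact Quotient.exact y.2
    rcases Nat.even_or_odd (Nat.card (orbit Ma b)) with h | h
    · exfalso
      have := (even_iff_two_dvd.1 h).trans hdvd
      omega
    · exact h
  have hmeet : ∀ b : Ω, b ≠ a → ∃ m : Ma, m • b ∈ F := by
    intro b hb
    letI : MulAction S (orbit Ma b) := MulAction.compHom _ (Subgroup.inclusion hSle)
    obtain ⟨⟨c, m, rfl⟩, hc⟩ := hS.nonempty_fixed_point_of_prime_not_dvd_card (orbit Ma b)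
      (fun h => absurd (even_iff_two_dvd.2 h) (Nat.not_even_iff_odd.2 (hkodd b hb)))
    exact ⟨m, fun s => congrArg Subtype.val (hc s)⟩
  -- Sylow property of S in the stabilizers of points of F
  have hsyl : ∀ b ∈ F, ∃ P : Sylow 2 (stabilizer M b), (P : Subgroup (stabilizer M b)) = S.subgroupOf (stabilizer M b) := by
    intro b hb
    have hle : S ≤ stabilizer M b := fun s hs => hb ⟨s, hs⟩
    have hc : Nat.card (S.subgroupOf (stabilizer M b)) = 2 ^ (Nat.card (stabilizer M b)).factorization 2 := by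
      rw [Nat.card_congr (Subgroup.subgroupOfEquivOfLe hle).toEquiv, hScard, hMa_card b]
      exact S₀.card_eq_multiplicity
    exact ⟨Sylow.ofCard _ hc, Sylow.coe_ofCard _ hc⟩
  let X : Subgroup M := Subgroup.normalizer (S : Set M)
  have hXF : ∀ x ∈ X, ∀ b ∈ F, x • b ∈ F := by
    intro x hx b hb s
    have hs : x⁻¹ * (s : M) * x ∈ S := (Subgroup.mem_normalizer_iff''.1 hx s).1 s.2
    have h := hb ⟨_, hs⟩
    show (s : M) • x • b = x • b
    calc (s : M) • x • b = x • ((x⁻¹ * (s : M) * x) • b) := by simp [smul_smul, mul_assoc]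
      _ = x • b := congrArg (x • ·) h
  have hXtr : ∀ b ∈ F, ∃ x ∈ X, x • a = b := by
    intro b hb
    obtain ⟨m, hm⟩ := exists_smul_eq M a b
    obtain ⟨P, hP⟩ := hsyl b hb
    have hSb : S ≤ stabilizer M b := fun s hs => hb ⟨s, hs⟩
    let f : M →* M := (MulAut.conj m).toMonoidHom
    have hQ : ∀ s : M, s ∈ S → f s ∈ stabilizer M b := fun s hs => by
      show (m * s * m⁻¹) • b = b
      rw [← hm, mul_smul, mul_smul, inv_smul_smul, show s • a = a from hSle hs]
    have hle : S.map f ≤ stabilizer M b := by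
      rintro _ ⟨s, hs, rfl⟩; exact hQ s hs
    have hc : Nat.card ((S.map f).subgroupOf (stabilizer M b)) = 2 ^ (Nat.card (stabilizer M b)).factorization 2 := by
      rw [Nat.card_congr (Subgroup.subgroupOfEquivOfLe hle).toEquiv,
        ← Nat.card_congr (S.equivMapOfInjective f (MulAut.conj m).injective).toEquiv, hScard, hMa_card b]
      exact S₀.card_eq_multiplicity
    obtain ⟨u, hu⟩ := exists_smul_eq (stabilizer M b) (Sylow.ofCard _ hc) P
    refine ⟨(u : M) * m, ?_, by rw [mul_smul, hm]; exact u.2⟩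
    rw [Subgroup.mem_normalizer_iff_map_conj_eq]
    have h := congrArg (fun Q : Sylow 2 (stabilizer M b) => (Q : Subgroup (stabilizer M b)).map (stabilizer M b).subtype) hu
    simp only [Sylow.coe_subgroup_smul, Sylow.coe_ofCard, hP, Subgroup.map_subgroupOf_eq_of_le hle,
      Subgroup.map_subgroupOf_eq_of_le hSb, Subgroup.pointwise_smul_def,
      Subgroup.map_map] at h
    rw [map_mul]
    conv_rhs => rw [← h]
    ext z
    simp only [Subgroup.mem_map, MonoidHom.comp_apply, Subgroup.mem_subgroupOf]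
    constructor
    · rintro ⟨s, hs, rfl⟩
      refine ⟨u * ⟨f s, hQ s hs⟩ * u⁻¹, ⟨⟨f s, hQ s hs⟩, ⟨s, hs, rfl⟩, rfl⟩, ?_⟩
      simp [f, mul_assoc]
    · rintro ⟨w, ⟨t, ⟨s, hs, hst⟩, rfl⟩, rfl⟩
      refine ⟨s, hs, ?_⟩
      show _ = (u : M) * (t : M) * (u : M)⁻¹
      rw [show (t : M) = f s from hst.symm]
      simp [f, mul_assoc]
  have hG2 : ∀ b ∈ F, ∀ c ∈ F, ∀ b' ∈ F, ∀ c' ∈ F, b ≠ c → b' ≠ c' →
      ∃ g : G, g • b = b' ∧ g • c = c' ∧ S.map (cj g) = S := by
    intro b hb c hc b' hb' c' hc' hbc hbc'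
    obtain ⟨g, hgb, hgc⟩ := h2 hbc hbc'
    obtain ⟨P, hP⟩ := hsyl b' hb'
    let B : Subgroup M := stabilizer M b' ⊓ stabilizer M c'
    have hle : S.map (cj g) ≤ B := by
      rintro _ ⟨s, hs, rfl⟩
      refine ⟨?_, ?_⟩
      · show (cj g s) • b' = b'
        conv_lhs => rw [← hgb]
        exact (hstab g b s).trans (by rw [show s • b = b from hb ⟨s, hs⟩, hgb])
      · show (cj g s) • c' = c'
        conv_lhs => rw [← hgc]
        exact (hstab g c s).trans (by rw [show s • c = c from hc ⟨s, hs⟩, hgc])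
    have hle' : S ≤ B := fun s hs => ⟨hb' ⟨s, hs⟩, hc' ⟨s, hs⟩⟩
    have hcard : ∀ T : Subgroup M, T ≤ B → Nat.card T = Nat.card S →
        Nat.card (T.subgroupOf B) = 2 ^ (Nat.card B).factorization 2 := by
      intro T hT hTS
      rw [Nat.card_congr (Subgroup.subgroupOfEquivOfLe hT).toEquiv, hTS]
      obtain ⟨e, he⟩ := hS.exists_card_eq
      have hd1 : 2 ^ e ∣ Nat.card B := he ▸ Subgroup.card_dvd_of_le hle'
      have hd2 : 2 ^ (Nat.card B).factorization 2 ∣ 2 ^ e := by
        have h1 : Nat.card B ∣ Nat.card (stabilizer M b') := Subgroup.card_dvd_of_le inf_le_left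
        have h3 : 2 ^ (Nat.card (stabilizer M b')).factorization 2 = 2 ^ e := by
          rw [← he, hMa_card b', hScard]
          exact (S₀.card_eq_multiplicity).symm
        rw [← h3]
        exact Nat.pow_dvd_pow 2 ((Nat.factorization_le_iff_dvd Nat.card_pos.ne' Nat.card_pos.ne').2 h1 2)
      rw [he]
      exact Nat.dvd_antisymm (Nat.pow_dvd_pow 2 ((Nat.prime_two.pow_dvd_iff_le_factorization Nat.card_pos.ne').1 hd1)) hd2
    let P₁ : Sylow 2 B := Sylow.ofCard _ (hcard _ hle (Nat.card_congr (S.equivMapOfInjective _ (hcj g)).toEquiv).symm)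
    let P₂ : Sylow 2 B := Sylow.ofCard _ (hcard S hle' rfl)
    obtain ⟨u, hu⟩ := exists_smul_eq B P₁ P₂
    refine ⟨((u : M) : G) * g, ?_, ?_, ?_⟩
    · rw [mul_smul, hgb]; exact u.2.1
    · rw [mul_smul, hgc]; exact u.2.2
    · have h := congrArg (fun Q : Sylow 2 B => (Q : Subgroup B).map B.subtype) hu
      simp only [P₁, P₂, Sylow.coe_subgroup_smul, Sylow.coe_ofCard, Subgroup.map_subgroupOf_eq_of_le hle',
        Subgroup.pointwise_smul_def, Subgroup.map_map] at h
      conv_rhs => rw [← h]
      ext z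
      simp only [Subgroup.mem_map, MonoidHom.comp_apply, Subgroup.mem_subgroupOf]
      constructor
      · rintro ⟨s, hs, rfl⟩
        refine ⟨u * ⟨cj g s, hle ⟨s, hs, rfl⟩⟩ * u⁻¹, ⟨⟨cj g s, hle ⟨s, hs, rfl⟩⟩, ⟨s, hs, rfl⟩, rfl⟩, ?_⟩
        exact Subtype.ext (by simp [cj, mul_assoc])
      · rintro ⟨w, ⟨t, ⟨s, hs, hst⟩, rfl⟩, rfl⟩
        refine ⟨s, hs, ?_⟩
        show _ = (u : M) * (t : M) * (u : M)⁻¹
        rw [show (t : M) = cj g s from hst.symm]
        exact Subtype.ext (by simp [cj, mul_assoc])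
  -- the action of X on F
  let π : X →* Equiv.Perm F :=
    { toFun := fun x =>
        { toFun := fun b => ⟨(x : M) • (b : Ω), hXF x x.2 b b.2⟩
          invFun := fun b => ⟨(x : M)⁻¹ • (b : Ω), hXF _ (X.inv_mem x.2) b b.2⟩
          left_inv := fun b => Subtype.ext (inv_smul_smul _ _)
          right_inv := fun b => Subtype.ext (smul_inv_smul _ _) }
      map_one' := Equiv.ext fun b => Subtype.ext (one_smul _ _)
      map_mul' := fun x y => Equiv.ext fun b => Subtype.ext (mul_smul _ _ _) }
  have hfeven : Even (Nat.card F) := by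
    have h := hS.card_modEq_card_fixedPoints Ω
    rw [Nat.card_eq_fintype_card] at h
    change Fintype.card Ω % 2 = Nat.card F % 2 at h
    rw [Nat.even_iff]
    omega
  have hf2 : Nat.card F = 2 := by
    let T : Subgroup (Equiv.Perm F) := π.range
    haveI : IsPretransitive T F := ⟨fun b c => by
      obtain ⟨x, hx, hxb⟩ := hXtr b b.2
      obtain ⟨y, hy, hyc⟩ := hXtr c c.2
      refine ⟨⟨π (⟨y, hy⟩ * ⟨x, hx⟩⁻¹), ⟨_, rfl⟩⟩, Subtype.ext ?_⟩
      show (y * x⁻¹) • (b : Ω) = c
      rw [mul_smul, inv_smul_eq_iff.2 hxb.symm, hyc]⟩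
    let a' : F := ⟨a, haF⟩
    have hTidx : (stabilizer T a').index = Nat.card F := index_stabilizer_of_transitive T a'
    -- 2-part of T
    have hT4 : ¬ 4 ∣ Nat.card T := by
      intro h4
      have hker : Nat.card (S.subgroupOf X) ∣ Nat.card π.ker := by
        refine Subgroup.card_dvd_of_le fun s hs => ?_
        exact Equiv.ext fun b => Subtype.ext (b.2 ⟨s, hs⟩)
      rw [Nat.card_congr (Subgroup.subgroupOfEquivOfLe (Subgroup.le_normalizer : S ≤ X)).toEquiv, hScard] at hker
      have hX : 4 * Nat.card (S₀ : Subgroup Ma) ∣ Nat.card X := by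
        rw [← π.ker.card_mul_index, Subgroup.index_ker, mul_comm (Nat.card π.ker)]
        exact mul_dvd_mul h4 hker
      have hM := hX.trans (Subgroup.card_subgroup_dvd_card X)
      rw [← Ma.card_mul_index, hidx, ← Subgroup.card_mul_index (S₀ : Subgroup Ma), mul_comm 4, mul_assoc] at hM
      have h4' : 4 ∣ (S₀ : Subgroup Ma).index * Fintype.card Ω := Nat.dvd_of_mul_dvd_mul_left Nat.card_pos hM
      have hodd := S₀.not_dvd_index
      have hco : Nat.Coprime 4 ((S₀ : Subgroup Ma).index) := by
        rw [show (4 : ℕ) = 2 ^ 2 by norm_num]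
        exact Nat.Coprime.pow_left 2 (Nat.prime_two.coprime_iff_not_dvd.2 hodd)
      have := hco.dvd_of_dvd_mul_left h4'
      omega
    have hT2 : 2 ∣ Nat.card T := by
      rw [← (stabilizer T a').card_mul_index, hTidx]
      exact (even_iff_two_dvd.1 hfeven).mul_left _
    obtain ⟨t, ht⟩ := exists_prime_orderOf_dvd_card' (G := T) 2 hT2
    have htfix : ∀ b : F, t • b ≠ b := by
      intro b hb
      have h := orderOf_dvd_natCard (⟨t, hb⟩ : stabilizer T b)
      rw [← orderOf_injective (stabilizer T b).subtype Subtype.val_injective, Subgroup.coe_subtype, ht] at h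
      apply hT4
      have h' : Nat.card (stabilizer T b) * (stabilizer T b).index = Nat.card T := (stabilizer T b).card_mul_index
      rw [index_stabilizer_of_transitive] at h'
      rw [← h']
      exact (show 4 = 2 * 2 from rfl) ▸ mul_dvd_mul h (even_iff_two_dvd.1 hfeven)
    -- the odd part
    have hsign : Equiv.Perm.sign (t : Equiv.Perm F) = (-1) ^ (Nat.card F / 2) := by
      have h2t : (t : Equiv.Perm F) * t = 1 := by
        rw [← Subgroup.coe_mul, ← sq, ← ht, pow_orderOf_eq_one]; rfl
      have hfp : ∀ b, (t : Equiv.Perm F) b ≠ b := htfix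
      have hsupp : (t : Equiv.Perm F).support = Finset.univ := Finset.eq_univ_of_forall fun b => Equiv.Perm.mem_support.2 (hfp b)
      obtain ⟨n, hn2'⟩ : ∃ n, (t : Equiv.Perm F).cycleType = Multiset.replicate n 2 :=
        ⟨_, Equiv.Perm.cycleType_of_pow_prime_eq_one (by rw [sq, h2t])⟩
      have hsum := (t : Equiv.Perm F).sum_cycleType
      rw [hn2', hsupp, Finset.card_univ, Multiset.sum_replicate, smul_eq_mul, ← Nat.card_eq_fintype_card] at hsum
      rw [Equiv.Perm.sign_of_cycleType, hn2', Multiset.sum_replicate, Multiset.card_replicate, smul_eq_mul]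
      rw [← hsum, Nat.mul_div_cancel _ (by norm_num), pow_add, pow_mul]
      rw [mul_comm]
      rcases neg_one_pow_eq_or ℤˣ n with h | h <;> simp [h]
    have hfmod : Nat.card F % 4 = 2 := by
      rcases hfeven with ⟨e, he⟩
      by_contra h
      apply hT4
      rw [← (stabilizer T a').card_mul_index, hTidx]
      exact Dvd.dvd.mul_left (by omega) _
    have hsodd : Equiv.Perm.sign (t : Equiv.Perm F) = -1 := by
      rw [hsign]
      exact Odd.neg_one_pow (by rw [Nat.odd_iff]; omega)
    let O : Subgroup T := (Equiv.Perm.sign.comp T.subtype).ker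
    have hOodd : ¬ 2 ∣ Nat.card O := by
      intro h
      apply hT4
      rw [← O.card_mul_index]
      refine (show 4 = 2 * 2 from rfl) ▸ mul_dvd_mul h ?_
      rw [Subgroup.index_ker]
      have htt : (-1 : ℤˣ) ∈ (Equiv.Perm.sign.comp T.subtype).range := ⟨t, hsodd⟩
      have := orderOf_dvd_natCard (⟨(-1 : ℤˣ), htt⟩ : (Equiv.Perm.sign.comp T.subtype).range)
      rwa [Subgroup.orderOf_mk, show orderOf (-1 : ℤˣ) = 2 from orderOf_eq_prime (by simp) (by decide)] at this
    have hblock : ∀ o : T, o ∈ O → ∀ b : F, o • b = b := by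
      by_contra hne
      push Not at hne
      obtain ⟨o, ho, b, hob⟩ := hne
      -- the orbit of b under O
      have horb : orbit O b ≠ Set.univ := by
        intro h
        apply hOodd
        have h' : Nat.card (orbit O b) ∣ Nat.card O := by
          rw [← (stabilizer O b).card_mul_index, index_stabilizer, ← Nat.card_coe_set_eq]
          exact dvd_mul_left _ _
        rw [h, Nat.card_congr (Equiv.Set.univ F)] at h'
        exact (even_iff_two_dvd.1 hfeven).trans h'
      obtain ⟨c, hc⟩ := (Set.ne_univ_iff_exists_notMem _).1 horb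
      have hbob : (b : Ω) ≠ ((o • b : F) : Ω) := fun h => hob (Subtype.ext h).symm
      have hbc : (b : Ω) ≠ (c : Ω) := fun h => hc (by rw [← Subtype.ext h]; exact mem_orbit_self b)
      obtain ⟨g, hgb, hgo, hgS⟩ := hG2 b b.2 _ (o • b).2 b b.2 c c.2 hbob hbc
      apply hc
      -- conjugate o by g
      obtain ⟨o', ⟨x, rfl⟩⟩ := o
      have hx' : cj g (x : M) ∈ X := by
        show _ ∈ Subgroup.normalizer _
        rw [Subgroup.mem_normalizer_iff]
        intro z
        constructor
        · intro hz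
          rw [← hgS] at hz ⊢
          obtain ⟨s, hs, rfl⟩ := hz
          exact ⟨(x : M) * s * (x : M)⁻¹, (Subgroup.mem_normalizer_iff.1 x.2 s).1 hs, by rw [map_mul, map_mul, map_inv]⟩
        · intro hz
          rw [← hgS] at hz ⊢
          obtain ⟨s, hs, hz⟩ := hz
          refine ⟨(x : M)⁻¹ * s * x, (Subgroup.mem_normalizer_iff''.1 x.2 s).1 hs, ?_⟩
          rw [map_mul, map_mul, map_inv, hz]
          simp [mul_assoc]
      have hginv : ∀ d ∈ F, g⁻¹ • d ∈ F := by
        intro d hd s
        have hs : cj g (s : M) ∈ S := hgS.le (Subgroup.mem_map_of_mem _ s.2)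
        have h := hd ⟨_, hs⟩
        show ((s : M) : G) • g⁻¹ • d = g⁻¹ • d
        rw [eq_inv_smul_iff, smul_smul, smul_smul]
        exact h
      have hgF : ∀ d ∈ F, g • d ∈ F := by
        intro d hd s
        obtain ⟨s', hs', hss⟩ : (s : M) ∈ S.map (cj g) := hgS.symm ▸ s.2
        show (s : M) • g • d = g • d
        rw [← hss]
        exact (hstab g d s').trans (congrArg (g • ·) (hd ⟨s', hs'⟩))
      let gF : Equiv.Perm F :=
        { toFun := fun d => ⟨g • (d : Ω), hgF d d.2⟩
          invFun := fun d => ⟨g⁻¹ • (d : Ω), hginv d d.2⟩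
          left_inv := fun d => Subtype.ext (inv_smul_smul _ _)
          right_inv := fun d => Subtype.ext (smul_inv_smul _ _) }
      have hconj : π ⟨_, hx'⟩ = gF * π x * gF⁻¹ := by
        ext d
        show (cj g (x : M)) • (d : Ω) = g • (x : M) • (g⁻¹ • (d : Ω))
        rw [← hstab, smul_inv_smul]
        rfl
      refine ⟨⟨⟨π ⟨_, hx'⟩, ⟨_, rfl⟩⟩, ?_⟩, Subtype.ext ?_⟩
      · show Equiv.Perm.sign (π ⟨_, hx'⟩) = 1
        rw [hconj, map_mul, map_mul, map_inv, mul_inv_cancel_comm]
        exact ho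
      · show (cj g (x : M)) • (b : Ω) = c
        conv_lhs => rw [← hgb]
        rw [← hgo]
        exact hstab g b x
    have hO : O = ⊥ := by
      rw [Subgroup.eq_bot_iff_forall]
      intro o ho
      exact Subtype.ext (Equiv.ext fun b => hblock o ho b)
    have hTc : Nat.card T ≤ 2 := by
      rw [← O.card_mul_index, show Nat.card O = 1 by rw [hO, Subgroup.card_bot], one_mul, Subgroup.index_ker]
      refine le_trans (Subgroup.card_le_card_group _) ?_
      rw [Nat.card_eq_fintype_card, Fintype.card_units_int]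
    have hle : Nat.card F ≤ Nat.card T := by
      rw [← (stabilizer T a').card_mul_index, hTidx]
      exact Nat.le_mul_of_pos_left _ Nat.card_pos
    rcases hfeven with ⟨e, he⟩
    have : 0 < Nat.card F := Nat.card_pos_iff.2 ⟨⟨a'⟩, inferInstance⟩
    omega
  -- one orbit
  have hone : ∀ b c : Ω, b ≠ a → c ≠ a → ∃ m : M, m • a = a ∧ m • b = c := by
    intro b c hb hc
    obtain ⟨m, hm⟩ := hmeet b hb
    obtain ⟨m', hm'⟩ := hmeet c hc
    have hne : ∀ (m : Ma) (x : Ω), x ≠ a → m • x ≠ a := fun m x hx h =>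
      hx (MulAction.injective m (h.trans (show m • a = a from m.2).symm))
    have heq : m • b = m' • c := by
      by_contra hne'
      have h3 : ({a, m • b, m' • c} : Finset Ω) ⊆ F.toFinset := by
        intro z hz
        simp only [Finset.mem_insert, Finset.mem_singleton] at hz
        rw [Set.mem_toFinset]
        rcases hz with rfl | rfl | rfl
        · exact haF
        · exact hm
        · exact hm'
      have := Finset.card_le_card h3
      rw [Finset.card_insert_of_notMem (by simp [(hne m b hb).symm, (hne m' c hc).symm]),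
        Finset.card_insert_of_notMem (by simp [hne']), Finset.card_singleton, Set.toFinset_card,
        ← Nat.card_eq_fintype_card, hf2] at this
      omega
    refine ⟨((m'⁻¹ * m : Ma) : M), (m'⁻¹ * m).2, ?_⟩
    show (m'⁻¹ * m) • b = c
    rw [mul_smul, heq, inv_smul_smul]
  intro x y z w hxy hzw
  obtain ⟨m, hm⟩ := exists_smul_eq M x a
  obtain ⟨m', hm'⟩ := exists_smul_eq M z a
  obtain ⟨n, hna, hnb⟩ := hone (m • y) (m' • w)
    (fun h => hxy (MulAction.injective m (hm.trans h.symm)))
    (fun h => hzw (MulAction.injective m' (hm'.trans h.symm)))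
  refine ⟨m'⁻¹ * n * m, ?_, ?_⟩
  · rw [mul_smul, mul_smul, hm, hna, ← hm', inv_smul_smul]
  · rw [mul_smul, mul_smul, hnb, inv_smul_smul]


end Cfsg.Agent.S3401
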