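import Cfsg.Statements.S3419
import Cfsg.Agent.Lib.Recognition.TwoPrimes

set_option autoImplicit false
set_option linter.style.haveILetI false
open Cfsg
open Cfsg.Agent.Lib.Recognition

namespace Cfsg.Agent.S3419

/-- Let n ≥ 5 and let G be a finite group with the same order and the same set of element orders as the alternating group of degree n. Then G is not solvable. -/
theorem result {G : Type*} [Group G] [Finite G] (n : ℕ) (hn : 5 ≤ n)
    (hcard : Nat.card G = Nat.card ↥(alternatingGroup (Fin n)))
    (hspec : Set.range (orderOf : G → ℕ) = Set.range (orderOf : ↥(alternatingGroup (Fin n)) → ℕ)) :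
    ¬ Group.IsSolvable G := by
  classical
  haveI : Nontrivial (Fin n) := (Fin.nontrivial_iff_two_le).2 (by omega)
  have hA : 2 * Nat.card ↥(alternatingGroup (Fin n)) = n.factorial := by
    rw [Nat.card_eq_fintype_card, two_mul_card_alternatingGroup, Fintype.card_perm, Fintype.card_fin]
  have hG : 2 * Nat.card G = n.factorial := hcard ▸ hA
  have hdiv : ∀ p : ℕ, p.Prime → 3 ≤ p → p ≤ n → p ∣ Nat.card G := by
    intro p hp h3 hpn
    have h1 : p ∣ 2 * Nat.card G := hG ▸ Nat.dvd_factorial hp.pos hpn
    exact (hp.dvd_mul.1 h1).resolve_left fun h => by have := Nat.le_of_dvd two_pos h; omega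
  have hno : ∀ p q : ℕ, p.Prime → q.Prime → p ≠ q → n < p + q → ¬ ∃ z : G, orderOf z = p * q := by
    rintro p q hp hq hne hn' ⟨z, hz⟩
    have : p * q ∈ Set.range (orderOf : G → ℕ) := ⟨z, hz⟩
    rw [hspec] at this
    obtain ⟨σ, hσ⟩ := this
    exact perm_orderOf_ne_mul hp hq hne hn' (σ : Equiv.Perm (Fin n)) (by rw [Subgroup.orderOf_coe, hσ])
  have hbound : ∀ p k : ℕ, 1 < p → ¬ p ^ k ∣ Nat.card G → ∀ i, p ^ i ∣ Nat.card G → i < k := by
    intro p k _ hk i hi
    by_contra h
    exact hk ((pow_dvd_pow p (not_lt.1 h)).trans hi)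
  have main : ∃ p q : ℕ, p.Prime ∧ q.Prime ∧ 3 ≤ p ∧ p < q ∧ q ≤ n ∧ n < p + q ∧
      (∀ i, 1 ≤ i → p ^ i ∣ Nat.card G → ¬ q ∣ p ^ i - 1) ∧ (∀ i, 1 ≤ i → q ^ i ∣ Nat.card G → ¬ p ∣ q ^ i - 1) := by
    rcases Nat.lt_or_ge n 11 with h | h
    · have hc : Nat.card G = n.factorial / 2 := by omega
      interval_cases n <;> norm_num [Nat.factorial] at hc
      · refine ⟨3, 5, by norm_num, by norm_num, le_rfl, by norm_num, le_rfl, by norm_num, ?_, ?_⟩ <;> intro i hi hd
        · have := hbound 3 2 (by norm_num) (by rw [hc]; norm_num) i hd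
          interval_cases i; norm_num
        · have := hbound 5 2 (by norm_num) (by rw [hc]; norm_num) i hd
          interval_cases i; norm_num
      · refine ⟨3, 5, by norm_num, by norm_num, le_rfl, by norm_num, by norm_num, by norm_num, ?_, ?_⟩ <;> intro i hi hd
        · have := hbound 3 3 (by norm_num) (by rw [hc]; norm_num) i hd
          interval_cases i <;> norm_num
        · have := hbound 5 2 (by norm_num) (by rw [hc]; norm_num) i hd
          interval_cases i; norm_num
      all_goals
        refine ⟨5, 7, by norm_num, by norm_num, by norm_num, by norm_num, by norm_num, by norm_num, ?_, ?_⟩ <;> intro i hi hd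
        · have := hbound 5 3 (by norm_num) (by rw [hc]; norm_num) i hd
          interval_cases i <;> norm_num
        · have := hbound 7 2 (by norm_num) (by rw [hc]; norm_num) i hd
          interval_cases i; norm_num
    · obtain ⟨p, q, hp, hq, hpq, h1, h2⟩ := exists_two_primes_upper_half n h
      have hone : ∀ r : ℕ, r.Prime → n < 2 * r → ∀ i, r ^ i ∣ Nat.card G → i < 2 := fun r hr hr2 =>
        hbound r 2 hr.one_lt fun hd => sq_not_dvd_factorial hr hr2 (hG ▸ hd.mul_left 2)
      refine ⟨p, q, hp, hq, by omega, hpq, h2, by omega, fun i hi hd hdd => ?_, fun i hi hd hdd => ?_⟩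
      · have := hone p hp h1 i hd
        obtain rfl : i = 1 := by omega
        rw [pow_one] at hdd
        have := Nat.le_of_dvd (by omega) hdd
        omega
      · have := hone q hq (by omega) i hd
        obtain rfl : i = 1 := by omega
        rw [pow_one] at hdd
        obtain ⟨c, hc⟩ := hdd
        rcases Nat.lt_or_ge c 2 with hc2 | hc2
        · interval_cases c
          · omega
          · rcases hq.eq_two_or_odd with h' | h' <;> rcases hp.eq_two_or_odd with h'' | h'' <;> omega
        · have := Nat.mul_le_mul_left p hc2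
          omega
  obtain ⟨p, q, hp, hq, h3, hpq, hqn, hpqn, hP, hQ⟩ := main
  exact not_solvable_of_pair G p q hp hq hpq.ne (hdiv p hp h3 (by omega)) (hdiv q hq (by omega) hqn)
    (hno p q hp hq hpq.ne hpqn) hP hQ


end Cfsg.Agent.S3419
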