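import Cfsg.Statements.S3420
import Cfsg.Agent.Lib.Recognition.TwoPrimes

set_option autoImplicit false
set_option linter.style.haveILetI false
open Cfsg
open Cfsg.Agent.Lib.Recognition

namespace Cfsg.Agent.S3420

/-- Let n ≥ 11 and let G be a finite group with the same order and the same set of element orders as the alternating group of degree n. Then G has normal subgroups N < H such that H/N is a non-abelian simple group whose order is divisible by every prime p with n/2 < p ≤ n. -/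
theorem result {G : Type*} [Group G] [Finite G] (n : ℕ) (hn : 11 ≤ n)
    (hcard : Nat.card G = Nat.card ↥(alternatingGroup (Fin n)))
    (hspec : Set.range (orderOf : G → ℕ) = Set.range (orderOf : ↥(alternatingGroup (Fin n)) → ℕ)) :
    ∃ (N H : Subgroup G) (_ : N.Normal), H.Normal ∧ N < H ∧
      IsSimpleGroup (↥H ⧸ N.subgroupOf H) ∧ ¬ IsMulCommutative (↥H ⧸ N.subgroupOf H) ∧
      ∀ p : ℕ, p.Prime → n < 2 * p → p ≤ n → p ∣ Nat.card (↥H ⧸ N.subgroupOf H) := by
  classical
  haveI : Nontrivial (Fin n) := (Fin.nontrivial_iff_two_le).2 (by omega)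
  have hA : 2 * Nat.card ↥(alternatingGroup (Fin n)) = n.factorial := by
    rw [Nat.card_eq_fintype_card, two_mul_card_alternatingGroup, Fintype.card_perm, Fintype.card_fin]
  have hG : 2 * Nat.card G = n.factorial := hcard ▸ hA
  have hdiv : ∀ p : ℕ, p.Prime → n < 2 * p → p ≤ n → p ∣ Nat.card G := by
    intro p hp h3 hpn
    have h1 : p ∣ 2 * Nat.card G := hG ▸ Nat.dvd_factorial hp.pos hpn
    exact (hp.dvd_mul.1 h1).resolve_left fun h => by have := Nat.le_of_dvd two_pos h; omega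
  have honce : ∀ p : ℕ, p.Prime → n < 2 * p → ¬ p ^ 2 ∣ Nat.card G := fun p hp h hd =>
    sq_not_dvd_factorial hp h (hG ▸ hd.mul_left 2)
  have hno : ∀ p q : ℕ, p.Prime → q.Prime → p ≠ q → n < p + q → ¬ ∃ z : G, orderOf z = p * q := by
    rintro p q hp hq hne hn' ⟨z, hz⟩
    have : p * q ∈ Set.range (orderOf : G → ℕ) := ⟨z, hz⟩
    rw [hspec] at this
    obtain ⟨σ, hσ⟩ := this
    exact perm_orderOf_ne_mul hp hq hne hn' (σ : Equiv.Perm (Fin n)) (by rw [Subgroup.orderOf_coe, hσ])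
  let π : ℕ → Prop := fun p => p.Prime ∧ n < 2 * p ∧ p ≤ n
  haveI := Fintype.ofFinite (Subgroup G)
  have hex : (Finset.univ.filter fun W : Subgroup G => W.Normal ∧ ∀ p, π p → ¬ p ∣ Nat.card W).Nonempty :=
    ⟨⊥, Finset.mem_filter.2 ⟨Finset.mem_univ _, inferInstance, fun p hp => by rw [Subgroup.card_bot]; exact hp.1.not_dvd_one⟩⟩
  obtain ⟨N, hN, hNmax⟩ := Finset.exists_max_image _ (fun W : Subgroup G => Nat.card W) hex
  obtain ⟨-, hNn, hNπ⟩ := Finset.mem_filter.1 hN
  haveI := hNn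
  have hNlt : N ≠ ⊤ := by
    intro h
    obtain ⟨p, q, hp, hq, hpq, h1, h2⟩ := exists_two_primes_upper_half n hn
    exact hNπ q ⟨hq, by omega, h2⟩ (by rw [h, Subgroup.card_top]; exact hdiv q hq (by omega) h2)
  have hex2 : (Finset.univ.filter fun W : Subgroup G => W.Normal ∧ N < W).Nonempty :=
    ⟨⊤, Finset.mem_filter.2 ⟨Finset.mem_univ _, inferInstance, lt_top_iff_ne_top.2 hNlt⟩⟩
  obtain ⟨H, hH, hHmin⟩ := Finset.exists_min_image _ (fun W : Subgroup G => Nat.card W) hex2
  obtain ⟨-, hHn, hNH⟩ := Finset.mem_filter.1 hH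
  haveI := hHn
  let f := QuotientGroup.mk' N
  let V : Subgroup (G ⧸ N) := H.map f
  haveI : V.Normal := hHn.map f (QuotientGroup.mk'_surjective N)
  have hVcard : Nat.card V * Nat.card N = Nat.card H := by
    rw [show Nat.card V = N.relIndex H by rw [← Subgroup.relIndex_ker, QuotientGroup.ker_mk'], mul_comm,
      ← Subgroup.relIndex_bot_left, Subgroup.relIndex_mul_relIndex _ _ _ bot_le hNH.le, Subgroup.relIndex_bot_left]
  have hπV : ∀ p, π p → (p ∣ Nat.card V ↔ p ∣ Nat.card H) := fun p hp =>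
    ⟨fun h => hVcard ▸ dvd_mul_of_dvd_left h _, fun h => (hp.1.dvd_mul.1 (hVcard.symm ▸ h)).resolve_right (hNπ p hp)⟩
  obtain ⟨p, hπp, hpH⟩ : ∃ p, π p ∧ p ∣ Nat.card H := by
    by_contra h
    push_neg at h
    have h1 := hNmax H (Finset.mem_filter.2 ⟨Finset.mem_univ _, hHn, h⟩)
    exact hNH.ne (Subgroup.eq_of_le_of_card_ge hNH.le h1)
  haveI := Fact.mk hπp.1
  have hpV : p ∣ Nat.card V := (hπV p hπp).2 hpH
  have hV1 : V ≠ ⊥ := fun h => by rw [h, Subgroup.card_bot] at hpV; exact hπp.1.not_dvd_one hpV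
  have hQdvd : Nat.card (G ⧸ N) ∣ Nat.card G := (Subgroup.index_eq_card N) ▸ N.index_dvd_card
  have hp2 : ¬ p ^ 2 ∣ Nat.card V := fun h =>
    honce p hπp.1 hπp.2.1 (h.trans (V.card_subgroup_dvd_card.trans hQdvd))
  have hmin : ∀ W : Subgroup (G ⧸ N), W.Normal → W ≤ V → W = ⊥ ∨ W = V := by
    intro W hW hWV
    haveI := hW
    have hNW : N ≤ W.comap f := fun x hx => by
      show f x ∈ W
      rw [show f x = 1 from (QuotientGroup.eq_one_iff x).2 hx]
      exact W.one_mem
    by_cases h : W.comap f = N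
    · left
      rw [← Subgroup.map_comap_eq_self_of_surjective (QuotientGroup.mk'_surjective N) W, h, QuotientGroup.map_mk'_self]
    · right
      have h1 := hHmin (W.comap f) (Finset.mem_filter.2 ⟨Finset.mem_univ _, inferInstance, lt_of_le_of_ne hNW (Ne.symm h)⟩)
      have h2 : W.comap f ≤ H := by
        intro x hx
        obtain ⟨y, hy, hxy⟩ := hWV hx
        have : y⁻¹ * x ∈ N := QuotientGroup.eq.1 hxy
        have := H.mul_mem hy (hNH.le this)
        rwa [mul_inv_cancel_left] at this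
      rw [← Subgroup.map_comap_eq_self_of_surjective (QuotientGroup.mk'_surjective N) W,
        Subgroup.eq_of_le_of_card_ge h2 h1]
  haveI hsimp : IsSimpleGroup V := isSimpleGroup_of_minimal_normal V hV1 hmin hπp.1 hpV hp2
  have hnoQ : ∀ q, π q → q ≠ p → ¬ ∃ z : G ⧸ N, orderOf z = p * q := by
    rintro q hq hne ⟨z, hz⟩
    obtain ⟨z', rfl⟩ := QuotientGroup.mk'_surjective N z
    refine hno p q hπp.1 hq.1 (Ne.symm hne) ?_ ⟨z' ^ (orderOf z' / (p * q)),
      orderOf_pow_orderOf_div (orderOf_pos z').ne' (hz ▸ orderOf_map_dvd (QuotientGroup.mk' N) z')⟩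
    have := hq.2.1
    have := hπp.2.1
    omega
  -- no element of order `q` normalizes a subgroup of order `p`
  have hcore : ∀ q, π q → q ≠ p → ∀ P : Subgroup (G ⧸ N), Nat.card P = p → ∀ y : G ⧸ N, orderOf y = q →
      ¬ (∀ v ∈ P, y * v * y⁻¹ ∈ P) := by
    intro q hq hne P hP y hy hyP
    obtain ⟨c, hc⟩ := dvd_card_sub_one_of_normalizes hπp.1 hq.1 (Ne.symm hne) P (IsPGroup.of_card (n := 1) (by rw [pow_one, hP])) y hy hyP (hnoQ q hq hne)
    rw [hP] at hc
    have hq1 := hq.2.1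
    have hp1 := hπp.2.2
    have hp2' := hπp.1.two_le
    rcases Nat.lt_or_ge c 2 with hc2 | hc2
    · interval_cases c
      · omega
      · rcases hq.1.eq_two_or_odd with h' | h' <;> rcases hπp.1.eq_two_or_odd with h'' | h'' <;> omega
    · have := Nat.mul_le_mul_left q hc2
      omega
  obtain ⟨p₁, q₁, hp₁, hq₁, hpq₁, hb1, hb2⟩ := exists_two_primes_upper_half n hn
  have hπ1 : π p₁ := ⟨hp₁, hb1, by omega⟩
  have hπ2 : π q₁ := ⟨hq₁, by omega, hb2⟩
  have hnab : ¬ IsMulCommutative V := by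
    intro hab
    haveI := hab
    letI : CommGroup V := { (inferInstance : Group V) with mul_comm := fun a b => IsMulCommutative.is_comm.comm a b }
    haveI : IsSimpleGroup V := hsimp
    have hVp : Nat.card V = p := ((Nat.prime_dvd_prime_iff_eq hπp.1 IsSimpleGroup.prime_card).1 hpV).symm
    obtain ⟨q, hq, hne⟩ : ∃ q, π q ∧ q ≠ p := by
      by_cases h : p₁ = p
      · exact ⟨q₁, hπ2, by omega⟩
      · exact ⟨p₁, hπ1, h⟩
    haveI := Fact.mk hq.1
    have hqQ : q ∣ Nat.card (G ⧸ N) := by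
      rw [← Subgroup.index_eq_card]
      exact (hq.1.dvd_mul.1 (N.card_mul_index.symm ▸ hdiv q hq.1 hq.2.1 hq.2.2)).resolve_left (hNπ q hq)
    obtain ⟨y, hy⟩ := exists_prime_orderOf_dvd_card' q hqQ
    exact hcore q hq hne V hVp y hy fun v hv => ‹V.Normal›.conj_mem v hv y
  have hall : ∀ q, π q → q ∣ Nat.card V := by
    intro q hq
    by_contra hqV
    have hne : q ≠ p := fun h => hqV (h ▸ hpV)
    haveI := Fact.mk hq.1
    obtain ⟨P⟩ := (inferInstance : Nonempty (Sylow p V))
    set P' : Subgroup (G ⧸ N) := (P : Subgroup V).map V.subtype with hP'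
    have hPc : Nat.card P' = p := by
      rw [hP', ← Nat.card_congr ((P : Subgroup V).equivMapOfInjective _ V.subtype_injective).toEquiv]
      obtain ⟨k, hk⟩ := P.2.exists_card_eq
      have h1 : p ∣ Nat.card P := P.dvd_card_of_dvd_card hpV
      rcases Nat.lt_or_ge k 2 with hk2 | hk2
      · interval_cases k
        · rw [hk] at h1; exact absurd h1 (by simpa using hπp.1.not_dvd_one)
        · rw [hk, pow_one]
      · exact absurd ((pow_dvd_pow p hk2).trans (hk ▸ (P : Subgroup V).card_subgroup_dvd_card)) hp2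
    set M := Subgroup.normalizer (P' : Set (G ⧸ N))
    have hMV : M ⊔ V = ⊤ := Sylow.normalizer_sup_eq_top P
    have hqQ : q ∣ Nat.card (G ⧸ N) := by
      rw [← Subgroup.index_eq_card]
      exact (hq.1.dvd_mul.1 (N.card_mul_index.symm ▸ hdiv q hq.1 hq.2.1 hq.2.2)).resolve_left (hNπ q hq)
    have hqM : q ∣ Nat.card M := by
      have h1 : Nat.card (G ⧸ N) ∣ Nat.card M * Nat.card V := by
        rw [← Subgroup.card_top, ← hMV, ← Subgroup.relIndex_bot_left (M ⊔ V),
          ← Subgroup.relIndex_mul_relIndex ⊥ V (M ⊔ V) bot_le le_sup_right, Subgroup.relIndex_bot_left,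
          Subgroup.relIndex_sup_right, mul_comm]
        exact Nat.mul_dvd_mul_right (Subgroup.relIndex_dvd_card _ _) _
      exact (hq.1.dvd_mul.1 (hqQ.trans h1)).resolve_right hqV
    obtain ⟨⟨y, hyM⟩, hy⟩ := exists_prime_orderOf_dvd_card' q hqM
    rw [Subgroup.orderOf_mk] at hy
    exact hcore q hq hne P' hPc y hy fun v hv => (Subgroup.mem_normalizer_iff.1 hyM v).1 hv
  have hker : ((f.subgroupMap H)).ker = N.subgroupOf H := by
    ext x
    rw [MonoidHom.mem_ker, Subgroup.mem_subgroupOf, ← Subtype.coe_inj]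
    exact QuotientGroup.eq_one_iff (x : G)
  let e : (↥H ⧸ N.subgroupOf H) ≃* V :=
    (QuotientGroup.quotientMulEquivOfEq hker.symm).trans
      (QuotientGroup.quotientKerEquivOfSurjective (f.subgroupMap H) (f.subgroupMap_surjective H))
  haveI : Nontrivial V := (Subgroup.nontrivial_iff_ne_bot V).2 hV1
  haveI : Nontrivial (↥H ⧸ N.subgroupOf H) := e.toEquiv.nontrivial
  refine ⟨N, H, hNn, hHn, hNH, IsSimpleGroup.isSimpleGroup_of_surjective (H := ↥H ⧸ N.subgroupOf H) e.symm.toMonoidHom e.symm.surjective, fun h => hnab ?_, fun q hq h1 h2 => ?_⟩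
  rotate_left
  · rw [Nat.card_congr e.toEquiv]
    exact hall q ⟨hq, h1, h2⟩
  · exact ⟨⟨fun a b => e.symm.injective (by rw [map_mul, map_mul]; exact h.is_comm.comm _ _)⟩⟩


end Cfsg.Agent.S3420
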