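import Cfsg.Statements.S4423
import Cfsg.Agent.S2904

set_option autoImplicit false
open Cfsg

namespace Cfsg.Agent.S4423


open Polynomial

/-- The failing bound. -/
def B (k : ℕ) : ℕ := (k + 1) * (2 * (k * k) + 2 * k + 1)

theorem B_grow {c k₀ : ℕ} (hk₀ : 2 ≤ k₀) (hstart : B k₀ ^ 2 < c ^ k₀)
    (hstep : ∀ k, k₀ ≤ k → B (k + 1) ^ 2 ≤ c * B k ^ 2) : ∀ k, k₀ ≤ k → B k ^ 2 < c ^ k := by
  intro k hk
  induction k, hk using Nat.le_induction with
  | base => exact hstart
  | succ n hn ih =>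
    calc B (n + 1) ^ 2 ≤ c * B n ^ 2 := hstep n hn
      _ < c * c ^ n := by
        refine Nat.mul_lt_mul_of_pos_left ih (Nat.pos_of_ne_zero ?_)
        rintro rfl
        rw [zero_pow (by omega)] at hstart
        omega
      _ = c ^ (n + 1) := by ring

theorem B_big3 (k : ℕ) (hk : 18 ≤ k) : B k ^ 2 < 3 ^ k := by
  refine B_grow (by norm_num) (by norm_num [B]) (fun n hn => ?_) k hk
  have h : 2 * B (n + 1) ≤ 3 * B n := by unfold B; nlinarith [mul_le_mul hn hn (by norm_num) (by positivity)]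
  have := Nat.mul_le_mul h h
  nlinarith

theorem B_big7 (k : ℕ) (hk : 8 ≤ k) : B k ^ 2 < 7 ^ k := by
  refine B_grow (by norm_num) (by norm_num [B]) (fun n hn => ?_) k hk
  have h : B (n + 1) ≤ 2 * B n := by unfold B; nlinarith [mul_le_mul hn hn (by norm_num) (by positivity)]
  have := Nat.mul_le_mul h h
  nlinarith

theorem B_big43 (k : ℕ) (hk : 2 ≤ k) : B k ^ 2 < 43 ^ k := by
  refine B_grow (by norm_num) (by norm_num [B]) (fun n hn => ?_) k hk
  have h : B (n + 1) ≤ 3 * B n := by unfold B; nlinarith [mul_le_mul hn hn (by norm_num) (by positivity)]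
  have := Nat.mul_le_mul h h
  nlinarith

theorem le_totient_sq (n : ℕ) : n ≤ 2 * n.totient ^ 2 ∧ (Odd n → n ≤ n.totient ^ 2) := by
  induction n using Nat.recOnPrimeCoprime with
  | zero => simp
  | prime_pow p k hp =>
    rcases k with _ | k
    · simp
    rw [Nat.totient_prime_pow_succ hp]
    rcases hp.eq_two_or_odd' with rfl | hodd
    · refine ⟨?_, fun h => ?_⟩
      · have h1 : 1 ≤ 2 ^ k := Nat.one_le_two_pow
        rw [pow_succ]
        simp only [Nat.reduceSub, mul_one]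
        nlinarith
      · rw [Nat.odd_pow_iff (by omega)] at h
        exact absurd h (by decide)
    · have h3 : 3 ≤ p := by
        have := hp.two_le
        rcases hodd with ⟨c, hc⟩
        omega
      obtain ⟨t, rfl⟩ : ∃ t, p = t + 1 := ⟨p - 1, by omega⟩
      have h1 : 1 ≤ (t + 1) ^ k := Nat.one_le_pow _ _ (by omega)
      have h2 : (t + 1) ^ (k + 1) ≤ ((t + 1) ^ k * (t + 1 - 1)) ^ 2 := by
        rw [pow_succ, Nat.add_sub_cancel, mul_pow]
        refine Nat.mul_le_mul (Nat.le_self_pow two_ne_zero _) ?_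
        nlinarith
      exact ⟨h2.trans (Nat.le_mul_of_pos_left _ (by norm_num)), fun _ => h2⟩
  | coprime a b ha hb hab iha ihb =>
    rw [Nat.totient_mul hab, mul_pow]
    refine ⟨?_, fun h => Nat.mul_le_mul (iha.2 (Nat.odd_mul.1 h).1) (ihb.2 (Nat.odd_mul.1 h).2)⟩
    rcases Nat.even_or_odd a with hea | hoa
    · have hob : Odd b := by
        rcases Nat.even_or_odd b with heb | hob
        · exact absurd (Nat.eq_one_of_dvd_coprimes hab hea.two_dvd heb.two_dvd) (by norm_num)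
        · exact hob
      calc a * b ≤ (2 * a.totient ^ 2) * b.totient ^ 2 := Nat.mul_le_mul iha.1 (ihb.2 hob)
        _ = _ := by ring
    · calc a * b ≤ a.totient ^ 2 * (2 * b.totient ^ 2) := Nat.mul_le_mul (iha.2 hoa) ihb.1
        _ = _ := by ring

/-- A lower bound for the values of cyclotomic polynomials. -/
theorem eval_sq_ge {q n : ℕ} (hq : 2 ≤ q) (hn : 2 ≤ n) :
    ((q : ℝ) ^ 2 - q + 1) ^ n.totient ≤ (((cyclotomic n ℤ).eval (q : ℤ) : ℤ) : ℝ) ^ 2 := by
  classical
  set ζ := Complex.exp (2 * Real.pi * Complex.I / (n : ℂ))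
  have hζ : IsPrimitiveRoot ζ n := Complex.isPrimitiveRoot_exp n (by omega)
  set S := primitiveRoots n ℂ with hS
  have hev : ∀ z : ℤ, (∏ μ ∈ S, ((z : ℂ) - μ)) = (((cyclotomic n ℤ).eval z : ℤ) : ℂ) := by
    intro z
    have h1 : (((cyclotomic n ℤ).eval z : ℤ) : ℂ) = (cyclotomic n ℂ).eval (z : ℂ) := by
      rw [← map_cyclotomic_int n ℂ, eval_map, show (z : ℂ) = Int.castRingHom ℂ z by simp, eval₂_at_apply]
      simp
    rw [h1, cyclotomic_eq_prod_X_sub_primitiveRoots hζ, eval_prod]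
    simp [S]
  have hnorm : ∀ z : ℤ, ∏ μ ∈ S, Complex.normSq ((z : ℂ) - μ) = (((cyclotomic n ℤ).eval z : ℤ) : ℝ) ^ 2 := by
    intro z
    rw [← map_prod, hev, sq, Complex.normSq_intCast]
  have hone : (1 : ℝ) ≤ (((cyclotomic n ℤ).eval 1 : ℤ) : ℝ) ^ 2 := by
    have h0 : (cyclotomic n ℤ).eval 1 ≠ 0 := by
      rcases (em (∃ p k : ℕ, p.Prime ∧ p ^ (k + 1) = n)) with ⟨p, k, hp, rfl⟩ | h
      · haveI := Fact.mk hp
        rw [eval_one_cyclotomic_prime_pow]
        exact_mod_cast hp.ne_zero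
      · rw [eval_one_cyclotomic_not_prime_pow]
        · exact one_ne_zero
        · intro p hp k hk
          rcases k with _ | k
          · rw [pow_zero] at hk; omega
          · exact h ⟨p, k, hp, hk⟩
    have h2 : (1 : ℤ) ≤ ((cyclotomic n ℤ).eval 1) ^ 2 := by
      have := pow_two_pos_of_ne_zero h0
      omega
    exact_mod_cast h2
  set m : ℕ := (q - 1) ^ 2 + q with hm
  have hmR : (m : ℝ) = (q : ℝ) ^ 2 - q + 1 := by
    rw [hm]; push_cast [show 1 ≤ q by omega]; ring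
  have hm0 : (0 : ℝ) < m := by exact_mod_cast (show 0 < m by omega)
  have hterm : ∀ μ ∈ S, (m : ℝ) ^ m * (Complex.normSq (((1 : ℤ) : ℂ) - μ)) ^ q ≤
      (Complex.normSq (((q : ℤ) : ℂ) - μ)) ^ m := by
    intro μ hμ
    have hμ1 : Complex.normSq μ = 1 := by
      rw [Complex.normSq_eq_norm_sq, IsPrimitiveRoot.norm'_eq_one ((mem_primitiveRoots (by omega)).1 hμ) (by omega), one_pow]
    set x := Complex.normSq (((1 : ℤ) : ℂ) - μ) with hx
    have hy : Complex.normSq (((q : ℤ) : ℂ) - μ) = ((q : ℝ) - 1) ^ 2 + q * x := by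
      rw [Complex.normSq_apply] at hμ1
      simp only [hx, Complex.normSq_apply, Int.cast_one, Int.cast_natCast, Complex.sub_re, Complex.sub_im,
        Complex.one_re, Complex.one_im, Complex.natCast_re, Complex.natCast_im]
      linear_combination (1 - (q : ℝ)) * hμ1
    have hx0 : 0 ≤ x := Complex.normSq_nonneg _
    rw [hy]
    have hw1 : 0 ≤ ((q : ℝ) - 1) ^ 2 / m := by positivity
    have hw2 : 0 ≤ (q : ℝ) / m := by positivity
    have h := Real.geom_mean_le_arith_mean2_weighted hw1 hw2 zero_le_one hx0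
      (by rw [← add_div, div_eq_one_iff_eq hm0.ne', hmR]; ring)
    rw [Real.one_rpow, one_mul] at h
    have h2 := pow_le_pow_left₀ (Real.rpow_nonneg hx0 _) h m
    rw [← Real.rpow_natCast, ← Real.rpow_mul hx0, div_mul_cancel₀ _ hm0.ne', Real.rpow_natCast] at h2
    calc (m : ℝ) ^ m * x ^ q ≤ (m : ℝ) ^ m * (((q : ℝ) - 1) ^ 2 / m * 1 + (q : ℝ) / m * x) ^ m :=
          mul_le_mul_of_nonneg_left h2 (by positivity)
      _ = _ := by
          rw [← mul_pow]
          congr 1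
          field_simp
  have h := Finset.prod_le_prod (s := S) (fun μ _ => by
    exact mul_nonneg (by positivity) (pow_nonneg (Complex.normSq_nonneg _) _)) hterm
  rw [Finset.prod_mul_distrib, Finset.prod_const, hS, hζ.card_primitiveRoots, ← hS, Finset.prod_pow,
    Finset.prod_pow, hnorm, hnorm] at h
  have h3 : (((m : ℝ) ^ n.totient) ^ m) ≤ ((((cyclotomic n ℤ).eval (q : ℤ) : ℤ) : ℝ) ^ 2) ^ m := by
    refine le_trans ?_ h
    rw [← pow_mul, mul_comm n.totient, pow_mul]
    exact le_mul_of_one_le_right (by positivity) (one_le_pow₀ hone)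
  have h4 := (pow_le_pow_iff_left₀ (by positivity) (by positivity) (show m ≠ 0 by omega)).1 h3
  rwa [hmR] at h4

/-- All primitive divisors divide this number. -/
def W (q e : ℕ) : ℕ :=
  (q ^ e - 1) / Nat.gcd (q ^ e - 1) ((∏ i ∈ Finset.range (e - 1), (q ^ (i + 1) - 1)) ^ 3)

theorem le_W {q e m : ℕ} (hq : 2 ≤ q) (he : 1 ≤ e) (hm : m ∣ q ^ e - 1)
    (hc : ∀ i : ℕ, 1 ≤ i → i < e → Nat.Coprime m (q ^ i - 1)) : m ≤ W q e := by
  set A := Nat.gcd (q ^ e - 1) ((∏ i ∈ Finset.range (e - 1), (q ^ (i + 1) - 1)) ^ 3)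
  have hA : A ∣ q ^ e - 1 := Nat.gcd_dvd_left _ _
  have hcop : Nat.Coprime m A := by
    refine Nat.Coprime.coprime_dvd_right (Nat.gcd_dvd_right _ _) (Nat.Coprime.pow_right 3 ?_)
    exact Nat.Coprime.prod_right fun i hi => hc (i + 1) (by omega) (by have := Finset.mem_range.1 hi; omega)
  have hpos : 0 < q ^ e - 1 := by
    have := Nat.one_lt_pow (show e ≠ 0 by omega) (show 1 < q by omega)
    omega
  have hd : m ∣ W q e := by
    rw [← Nat.div_mul_cancel hA] at hm
    exact hcop.dvd_of_dvd_mul_right hm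
  exact Nat.le_of_dvd (Nat.div_pos (Nat.le_of_dvd hpos hA) (Nat.pos_of_dvd_of_pos hA hpos)) hd

/-- A certificate for small pairs. -/
def Check (q e : ℕ) : Prop :=
  Nat.gcd (W q e) (∏ i ∈ Finset.range (e - 1), (q ^ (i + 1) - 1)) = 1 ∧ 3 * e + 1 ≤ W q e

instance (q e : ℕ) : Decidable (Check q e) := by unfold Check; infer_instance

theorem of_check {q e : ℕ} (h : Check q e) :
    ∃ m : ℕ, m ∣ q ^ e - 1 ∧ (∀ i : ℕ, 1 ≤ i → i < e → Nat.Coprime m (q ^ i - 1)) ∧ 3 * e + 1 ≤ m := by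
  refine ⟨W q e, Nat.div_dvd_of_dvd (Nat.gcd_dvd_left _ _), fun i h1 h2 => ?_, h.2⟩
  refine Nat.Coprime.coprime_dvd_right ?_ h.1
  have := Finset.dvd_prod_of_mem (fun j => q ^ (j + 1) - 1) (show i - 1 ∈ Finset.range (e - 1) from Finset.mem_range.2 (by omega))
  simpa [Nat.sub_add_cancel h1] using this

def exc : List (ℕ × ℕ) :=
  [(2, 6), (2, 4), (2, 10), (2, 12), (2, 18), (3, 4), (3, 6), (5, 6), (2, 3), (2, 8), (2, 20), (4, 3), (4, 6)]

theorem exc_W : ∀ x ∈ exc, W x.1 x.2 ≤ 2 * x.2 + 1 := by decide +kernel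

theorem small_two : ∀ e ∈ List.range 61, 3 ≤ e → (2, e) ∈ exc ∨ Check 2 e := by decide +kernel
theorem small_three : ∀ e ∈ List.range 19, 3 ≤ e → (3, e) ∈ exc ∨ Check 3 e := by decide +kernel
theorem small_four : ∀ e ∈ List.range 19, 3 ≤ e → (4, e) ∈ exc ∨ Check 4 e := by decide +kernel
theorem small_five : ∀ e ∈ List.range 19, 3 ≤ e → (5, e) ∈ exc ∨ Check 5 e := by decide +kernel
theorem small_six : ∀ e ∈ List.range 19, 3 ≤ e → (6, e) ∈ exc ∨ Check 6 e := by decide +kernel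

theorem totient_small : ∀ e ∈ List.range 579, e.totient < 18 → e ≤ 60 := by decide +kernel
theorem totient_small' : ∀ e ∈ List.range 99, e.totient < 8 → e ≤ 18 := by decide +kernel

/-- The primes of a value of a cyclotomic polynomial. -/
theorem prime_dvd_eval {q n s : ℕ} (hn : n ≠ 0) (hs : s.Prime) (h : (s : ℤ) ∣ (cyclotomic n ℤ).eval (q : ℤ)) :
    n / s ^ n.factorization s ∣ s - 1 ∧ IsPrimitiveRoot (q : ZMod s) (n / s ^ n.factorization s) := by
  haveI : Fact s.Prime := ⟨hs⟩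
  have hm : ¬ s ∣ n / s ^ n.factorization s := Nat.not_dvd_ordCompl hs hn
  have hp := Cfsg.Agent.S2904.primitive_part (a := q) (k := n.factorization s) hm (by rwa [Nat.ordProj_mul_ordCompl_eq_self])
  refine ⟨hp.eq_orderOf ▸ ZMod.orderOf_dvd_card_sub_one fun h0 => hm ?_, hp⟩
  have h1 := hp.pow_eq_one
  rw [h0] at h1
  rcases Nat.eq_zero_or_pos (n / s ^ n.factorization s) with hz | hz
  · exfalso; exact hm (hz ▸ dvd_zero s)
  · rw [zero_pow hz.ne'] at h1; exact absurd h1 zero_ne_one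

theorem not_sq_dvd {a n r : ℕ} (ha : 1 < a) (hn : 3 ≤ n) (hr : r.Prime) (hrn : r ∣ n) :
    ¬ (r : ℤ) ^ 2 ∣ (cyclotomic n ℤ).eval (a : ℤ) := by
  intro hsq
  haveI : Fact r.Prime := ⟨hr⟩
  set Φ := (cyclotomic n ℤ).eval (a : ℤ) with hΦ
  obtain ⟨hmr, hprim⟩ := prime_dvd_eval (q := a) (by omega) hr (dvd_trans (dvd_pow_self _ two_ne_zero) hsq)
  set e := n.factorization r with he
  set m := n / r ^ e with hmdef
  have hnem : r ^ e * m = n := Nat.ordProj_mul_ordCompl_eq_self n r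
  have hmnd : ¬ r ∣ m := Nat.not_dvd_ordCompl hr (by omega)
  set d := n / r with hd
  have hdn : d * r = n := Nat.div_mul_cancel hrn
  have hdlt : d ∈ n.properDivisors := Nat.mem_properDivisors.2
    ⟨Dvd.intro r hdn, by rw [hd]; exact Nat.div_lt_self (by omega) hr.one_lt⟩
  have hd0 : 0 < d := Nat.div_pos (Nat.le_of_dvd (by omega) hrn) hr.pos
  set x : ℤ := (a : ℤ) ^ d with hx
  have hx1 : x - 1 ≠ 0 := by
    have : (1 : ℤ) < x := one_lt_pow₀ (by exact_mod_cast ha) hd0.ne'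
    omega
  have hsum : Φ ∣ ∑ i ∈ Finset.range r, x ^ i := by
    have h1 := eval_dvd (X_pow_sub_one_mul_cyclotomic_dvd_X_pow_sub_one_of_dvd ℤ hdlt) (x := (a : ℤ))
    simp only [eval_mul, eval_sub, eval_pow, eval_X, eval_one] at h1
    rw [← hΦ, ← hdn, pow_mul, ← hx, ← geom_sum_mul x r, mul_comm _ (x - 1)] at h1
    exact (mul_dvd_mul_iff_left hx1).1 h1
  have hmd : m ∣ d := by
    have h1 : m ∣ d * r := hdn.symm ▸ Dvd.intro_left _ hnem
    exact (Nat.Coprime.dvd_of_dvd_mul_right ((hr.coprime_iff_not_dvd.2 hmnd).symm) h1)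
  have hxr : (r : ℤ) ∣ x - 1 := by
    rw [← ZMod.intCast_zmod_eq_zero_iff_dvd]
    push_cast [hx]
    rw [sub_eq_zero]
    obtain ⟨c, hc⟩ := hmd
    rw [hc, pow_mul, hprim.pow_eq_one, one_pow]
  rcases hr.eq_two_or_odd' with hr2 | hodd
  · subst hr2
    have hd2 : Even d := by
      have hm1 : m = 1 := Nat.dvd_one.1 (by simpa using hmr)
      rw [hm1, mul_one] at hnem
      have h01 : e ≠ 0 ∧ e ≠ 1 := by constructor <;> (intro h; rw [h] at hnem; omega)
      obtain ⟨e', he2⟩ : ∃ e', e = e' + 2 := ⟨e - 2, by omega⟩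
      exact ⟨2 ^ e', by rw [hd, ← hnem, he2]; simp [pow_succ]; omega⟩
    obtain ⟨c, hc⟩ := hd2
    have h4 : (4 : ℤ) ∣ 1 + x := by
      have h5 := hsq.trans hsum
      simpa [Finset.sum_range_succ] using h5
    have hy : Odd ((a : ℤ) ^ c) := by
      have h6 : Odd x := by
        rw [Int.odd_iff]
        obtain ⟨q, hq⟩ := hxr
        push_cast at hq
        omega
      rw [hx, hc, pow_add, Int.odd_mul] at h6
      exact h6.1
    obtain ⟨q, hq⟩ := hy
    rw [hx, hc, pow_add, hq] at h4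
    have h7 : (4 : ℤ) ∣ 2 := by
      obtain ⟨w, hw⟩ := h4
      exact ⟨w - q * q - q, by linear_combination hw⟩
    exact absurd h7 (by decide)
  · obtain ⟨b, hb⟩ := hxr
    have h5 := hsq.trans hsum
    have h6 := odd_sq_dvd_geom_sum₂_sub (R := ℤ) (a := 1) (b := b) hodd
    simp only [one_pow, mul_one, show (1 : ℤ) + (r : ℤ) * b = x by linarith] at h6
    have h7 := dvd_sub h5 h6
    rw [sub_sub_cancel, pow_two] at h7
    have h8 : r * r ∣ r * 1 := by rw [mul_one]; exact_mod_cast h7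
    exact hr.not_dvd_one (Nat.dvd_of_mul_dvd_mul_left hr.pos h8)

/-- The general case. -/
theorem primitive_or_small {q e : ℕ} (hq : 2 ≤ q) (he : 3 ≤ e) :
    (∃ m : ℕ, m ∣ q ^ e - 1 ∧ (∀ i : ℕ, 1 ≤ i → i < e → Nat.Coprime m (q ^ i - 1)) ∧ 3 * e + 1 ≤ m) ∨
      (((cyclotomic e ℤ).eval (q : ℤ)).natAbs ≤ B e.totient ∧ e ≤ 2 * e.totient ^ 2) := by
  classical
  set N := ((cyclotomic e ℤ).eval (q : ℤ)).natAbs with hN
  have hNd : N ∣ q ^ e - 1 := by
    have h1 : (cyclotomic e ℤ).eval (q : ℤ) ∣ (q : ℤ) ^ e - 1 := by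
      simpa using eval_dvd (cyclotomic.dvd_X_pow_sub_one e ℤ) (x := (q : ℤ))
    rw [show (q : ℤ) ^ e - 1 = ((q ^ e - 1 : ℕ) : ℤ) by
      rw [Nat.cast_sub (Nat.one_le_pow _ _ (by omega))]; push_cast; ring] at h1
    exact Int.natCast_dvd_natCast.1 (by rw [hN]; exact Int.natAbs_dvd.2 h1)
  have hN0 : N ≠ 0 := by
    rintro h
    rw [h, zero_dvd_iff] at hNd
    have := Nat.one_lt_pow (show e ≠ 0 by omega) (show 1 < q by omega)
    omega
  have hdvd : ∀ s : ℕ, s ∣ N → (s : ℤ) ∣ (cyclotomic e ℤ).eval (q : ℤ) := fun s hs => Int.natCast_dvd.2 hs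
  have huniq : ∀ s t : ℕ, s.Prime → s ∣ N → s ∣ e → t.Prime → t ∣ N → t ∣ e → s = t := by
    have key : ∀ s t : ℕ, s.Prime → s ∣ N → t.Prime → t ∣ e → s ≠ t → t < s := by
      intro s t hs hsN ht hte hne
      have h1 : t ∣ e / s ^ e.factorization s := by
        have h2 : t ∣ s ^ e.factorization s * (e / s ^ e.factorization s) := by
          rw [Nat.ordProj_mul_ordCompl_eq_self]; exact hte
        rcases ht.dvd_mul.1 h2 with h3 | h3
        · exact absurd ((Nat.prime_dvd_prime_iff_eq ht hs).1 (ht.dvd_of_dvd_pow h3)) hne.symm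
        · exact h3
      have := Nat.le_of_dvd (by have := hs.two_le; omega) (h1.trans (prime_dvd_eval (by omega) hs (hdvd s hsN)).1)
      have := hs.two_le
      omega
    intro s t hs hsN hse ht htN hte
    by_contra hne
    have h1 := key s t hs hsN ht hte hne
    have h2 := key t s ht htN hs hse (Ne.symm hne)
    omega
  -- split off the non-primitive prime
  obtain ⟨d, m, hdm, hd, hmp⟩ : ∃ d m : ℕ, d * m = N ∧
      ((d = 1) ∨ (d.Prime ∧ d ∣ N ∧ d ∣ e)) ∧ ∀ s : ℕ, s.Prime → s ∣ m → ¬ s ∣ e := by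
    by_cases h : ∃ r : ℕ, r.Prime ∧ r ∣ N ∧ r ∣ e
    · obtain ⟨r, hr, hrN, hre⟩ := h
      refine ⟨r, N / r, Nat.mul_div_cancel' hrN, Or.inr ⟨hr, hrN, hre⟩, fun s hs hsm hse => ?_⟩
      have hsN : s ∣ N := hsm.trans (Nat.div_dvd_of_dvd hrN)
      obtain rfl := huniq s r hs hsN hse hr hrN hre
      refine not_sq_dvd (a := q) (by omega) he hs hre (Int.natCast_dvd.2 ?_ |> fun h => by push_cast at h; exact h)
      rw [← hN, pow_two]
      exact (Nat.dvd_div_iff_mul_dvd hrN).1 hsm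
    · exact ⟨1, N, one_mul _, Or.inl rfl, fun s hs hsm hse => h ⟨s, hs, hsm, hse⟩⟩
  have hmN : m ∣ N := Dvd.intro_left d hdm
  have hprim : ∀ s : ℕ, s.Prime → s ∣ m → e ∣ s - 1 ∧ IsPrimitiveRoot (q : ZMod s) e := by
    intro s hs hsm
    have := prime_dvd_eval (q := q) (by omega) hs (hdvd s (hsm.trans hmN))
    rwa [Nat.factorization_eq_zero_of_not_dvd (hmp s hs hsm), pow_zero, Nat.div_one] at this
  have hcop : ∀ i : ℕ, 1 ≤ i → i < e → Nat.Coprime m (q ^ i - 1) := by
    intro i h1 h2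
    refine Nat.coprime_of_dvd fun s hs hsm hsi => ?_
    haveI : Fact s.Prime := ⟨hs⟩
    have h3 : (q : ZMod s) ^ i = 1 := by
      have h4 : 1 ≤ q ^ i := Nat.one_le_pow _ _ (by omega)
      rwa [← ZMod.natCast_eq_zero_iff, Nat.cast_sub h4, Nat.cast_pow, Nat.cast_one, sub_eq_zero] at hsi
    exact absurd (Nat.le_of_dvd (by omega) ((hprim s hs hsm).2.dvd_of_pow_eq_one i h3)) (by omega)
  by_cases hbig : 3 * e + 1 ≤ m
  · exact Or.inl ⟨m, hmN.trans hNd, hcop, hbig⟩
  refine Or.inr ⟨?_, (le_totient_sq e).1⟩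
  have hm1 : (m : ZMod e) = 1 := by
    have hm0 : m ≠ 0 := fun h => hN0 (by rw [← hdm, h, mul_zero])
    rw [← Nat.prod_primeFactorsList hm0, Nat.cast_list_prod]
    refine List.prod_eq_one fun x hx => ?_
    obtain ⟨s, hs, rfl⟩ := List.mem_map.1 hx
    have hsp := Nat.prime_of_mem_primeFactorsList hs
    have h5 := (hprim s hsp (Nat.dvd_of_mem_primeFactorsList hs)).1
    rw [← ZMod.natCast_eq_zero_iff, Nat.cast_sub hsp.pos, Nat.cast_one, sub_eq_zero] at h5
    exact h5
  have hm2 : m ≤ 2 * e + 1 := by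
    by_contra hlt
    have h5 : e ∣ m - 1 := by
      rw [← ZMod.natCast_eq_zero_iff, Nat.cast_sub (by omega), Nat.cast_one, hm1, sub_self]
    obtain ⟨c, hc⟩ := h5
    rcases Nat.lt_or_ge c 3 with hc3 | hc3
    · have := Nat.mul_le_mul_left e (show c ≤ 2 by omega)
      omega
    · have := Nat.mul_le_mul_left e hc3
      omega
  have hphi : 1 ≤ e.totient := Nat.totient_pos.2 (by omega)
  rcases hd with rfl | ⟨hr, hrN, hre⟩
  · rw [← hdm, one_mul]
    have h := (le_totient_sq e).1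
    refine hm2.trans ?_
    unfold B
    nlinarith
  · have hmd := (prime_dvd_eval (q := q) (by omega) hr (hdvd d hrN)).1
    have hk := hr.factorization_pos_of_dvd (show e ≠ 0 by omega) hre
    set k := e.factorization d with hkdef
    set c := e / d ^ k with hcdef
    have hec : d ^ k * c = e := Nat.ordProj_mul_ordCompl_eq_self e d
    have hcnd : ¬ d ∣ c := Nat.not_dvd_ordCompl hr (by omega)
    have hc0 : 0 < c := Nat.pos_of_ne_zero fun h => hcnd (h ▸ dvd_zero d)
    have htot : d ^ (k - 1) * (d - 1) ≤ e.totient := by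
      rw [← hec, Nat.totient_mul ((hr.coprime_iff_not_dvd.2 hcnd).pow_left k), Nat.totient_prime_pow hr hk]
      exact Nat.le_mul_of_pos_right _ (Nat.totient_pos.2 hc0)
    have hd1 : d ≤ e.totient + 1 := by
      have : d - 1 ≤ d ^ (k - 1) * (d - 1) := Nat.le_mul_of_pos_left _ (Nat.pow_pos hr.pos)
      omega
    have hede : e ≤ (e.totient + 1) * e.totient := by
      calc e = d ^ k * c := hec.symm
        _ ≤ d ^ k * (d - 1) := Nat.mul_le_mul_left _ (Nat.le_of_dvd (by have := hr.two_le; omega) hmd)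
        _ = d * (d ^ (k - 1) * (d - 1)) := by rw [← mul_assoc, ← pow_succ', Nat.sub_add_cancel hk]
        _ ≤ _ := Nat.mul_le_mul hd1 htot
    calc N = d * m := hdm.symm
      _ ≤ (e.totient + 1) * (2 * e + 1) := Nat.mul_le_mul hd1 hm2
      _ ≤ B e.totient := by unfold B; exact Nat.mul_le_mul_left _ (by nlinarith)

theorem main {q e : ℕ} (hq : 2 ≤ q) (he : 3 ≤ e) (hne : (q, e) ∉ exc) :
    ∃ m : ℕ, m ∣ q ^ e - 1 ∧ (∀ i : ℕ, 1 ≤ i → i < e → Nat.Coprime m (q ^ i - 1)) ∧ 3 * e + 1 ≤ m := by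
  rcases primitive_or_small hq he with h | ⟨hB, h2⟩
  · exact h
  have hlow : (q ^ 2 - q + 1) ^ e.totient ≤ B e.totient ^ 2 := by
    have hle : q ≤ q ^ 2 := Nat.le_self_pow two_ne_zero q
    have h1 := eval_sq_ge hq (show 2 ≤ e by omega)
    rw [show (((cyclotomic e ℤ).eval (q : ℤ) : ℤ) : ℝ) ^ 2 =
      ((((cyclotomic e ℤ).eval (q : ℤ)).natAbs : ℕ) : ℝ) ^ 2 by rw [Nat.cast_natAbs, Int.cast_abs, sq_abs]] at h1
    have h3 : ((q ^ 2 - q + 1) ^ e.totient : ℕ) ≤ ((cyclotomic e ℤ).eval (q : ℤ)).natAbs ^ 2 := by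
      have h4 : (((q ^ 2 - q + 1) ^ e.totient : ℕ) : ℝ) ≤ ((((cyclotomic e ℤ).eval (q : ℤ)).natAbs ^ 2 : ℕ) : ℝ) := by
        push_cast [hle]
        exact h1
      exact_mod_cast h4
    exact h3.trans (Nat.pow_le_pow_left hB 2)
  rcases Nat.lt_or_ge q 7 with hq7 | hq7
  · by_cases hq2 : q = 2
    · subst hq2
      have hφ : e.totient < 18 := by
        by_contra h
        exact absurd (lt_of_lt_of_le (B_big3 _ (not_lt.1 h)) (by simpa using hlow)) (lt_irrefl _)
      have he60 := totient_small e (List.mem_range.2 (by nlinarith)) hφ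
      exact of_check ((small_two e (List.mem_range.2 (by omega)) he).resolve_left hne)
    · have hm : 7 ≤ q ^ 2 - q + 1 := by
        have : 3 ≤ q := by omega
        have h9 : 3 * q ≤ q ^ 2 := by nlinarith
        omega
      have hφ : e.totient < 8 := by
        by_contra h
        exact absurd (lt_of_lt_of_le (B_big7 _ (not_lt.1 h)) ((Nat.pow_le_pow_left hm _).trans hlow)) (lt_irrefl _)
      have he18 := totient_small' e (List.mem_range.2 (by nlinarith)) hφ
      have hmem : e ∈ List.range 19 := List.mem_range.2 (by omega)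
      interval_cases q
      · omega
      · exact of_check ((small_three e hmem he).resolve_left hne)
      · exact of_check ((small_four e hmem he).resolve_left hne)
      · exact of_check ((small_five e hmem he).resolve_left hne)
      · exact of_check ((small_six e hmem he).resolve_left hne)
  · exfalso
    have hm : 43 ≤ q ^ 2 - q + 1 := by
      have h9 : 7 * q ≤ q ^ 2 := by nlinarith
      omega
    have hφ : 2 ≤ e.totient := by
      obtain ⟨c, hc⟩ := Nat.totient_even (show 2 < e by omega)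
      have := Nat.totient_pos.2 (show 0 < e by omega)
      omega
    exact absurd (lt_of_lt_of_le (B_big43 _ hφ) ((Nat.pow_le_pow_left hm _).trans hlow)) (lt_irrefl _)


/-- Size of the primitive part of `q^e - 1`. For a prime power `q` and `e ≥ 3`, call a divisor of `q^e - 1` primitive when it is coprime to `q^i - 1` for every `1 ≤ i < e`; the primitive part is the largest primitive divisor. Apart from thirteen exceptional pairs, the primitive part is at least `3e + 1`: there is a primitive divisor `m ≥ 3e + 1` unless `(q, e)` is `(2, 6)` (where every primitive divisor is 1), one of `(2,4), (2,10), (2,12), (2,18), (3,4), (3,6), (5,6)` (where the primitive part is exactly `e + 1`), or one of `(2,3), (2,8), (2,20), (4,3), (4,6)` (where it is exactly `2e + 1`). The statement asserts the existence of a primitive divisor `m ≥ 3e + 1` outside the thirteen pairs, and that every primitive divisor is at most `2e + 1` for the thirteen pairs. -/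
theorem result (q e : ℕ) (hq : IsPrimePow q) (he : 3 ≤ e) :
    ((q, e) ∉ [(2, 6), (2, 4), (2, 10), (2, 12), (2, 18), (3, 4), (3, 6), (5, 6), (2, 3), (2, 8), (2, 20), (4, 3), (4, 6)] →
      ∃ m : ℕ, m ∣ q ^ e - 1 ∧ (∀ i : ℕ, 1 ≤ i → i < e → Nat.Coprime m (q ^ i - 1)) ∧ 3 * e + 1 ≤ m) ∧
    ((q, e) ∈ [(2, 6), (2, 4), (2, 10), (2, 12), (2, 18), (3, 4), (3, 6), (5, 6), (2, 3), (2, 8), (2, 20), (4, 3), (4, 6)] →
      ∀ m : ℕ, m ∣ q ^ e - 1 → (∀ i : ℕ, 1 ≤ i → i < e → Nat.Coprime m (q ^ i - 1)) → m ≤ 2 * e + 1) := by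

  have hq2 : 2 ≤ q := hq.one_lt
  refine ⟨fun h => main hq2 he h, fun h m hm hc => ?_⟩
  exact (le_W hq2 (by omega) hm hc).trans (exc_W (q, e) h)

end Cfsg.Agent.S4423
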