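import Cfsg.Statements.S3430
import Cfsg.Agent.S4423

set_option autoImplicit false
open Cfsg

namespace Cfsg.Agent.S3430


/-- A prime power product with only two primes. -/
theorem two_three {N : ℕ} (hN : N ≠ 0) (h : ∀ p : ℕ, p.Prime → p ∣ N → p = 2 ∨ p = 3) :
    N = 2 ^ N.factorization 2 * 3 ^ N.factorization 3 := by
  refine Nat.eq_of_factorization_eq hN (by positivity) fun p => ?_
  rw [Nat.factorization_mul (by positivity) (by positivity), Finsupp.add_apply, Nat.Prime.factorization_pow Nat.prime_two,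
    Nat.Prime.factorization_pow Nat.prime_three]
  rcases eq_or_ne p 2 with rfl | hp2
  · simp
  rcases eq_or_ne p 3 with rfl | hp3
  · simp
  rw [Finsupp.single_eq_of_ne hp2, Finsupp.single_eq_of_ne hp3]
  by_contra h0
  have hp : p ∈ N.primeFactors := by
    rw [← Nat.support_factorization]; exact Finsupp.mem_support_iff.2 h0
  rcases h p (Nat.prime_of_mem_primeFactors hp) (Nat.dvd_of_mem_primeFactors hp) with e | e
  · exact hp2 e
  · exact hp3 e


/-- Let q, n ≥ 2 be integers. Unless (n = 2 and q + 1 = 2^s·3^t for some s ≥ 0 and t ≤ 1), or (q = 2 and n ∈ {4, 6, 10, 12, 18}), or (q = 3 and n ∈ {4, 6}), or (q, n) = (5, 6), there is a prime p dividing q^n − 1 but no q^i − 1 with 1 ≤ i < n (a primitive prime divisor), such that p > n + 1 or p² divides q^n − 1. -/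
theorem result (q n : ℕ) (hq : 2 ≤ q) (hn : 2 ≤ n)
    (h1 : ¬ (n = 2 ∧ ∃ s t : ℕ, t ≤ 1 ∧ q + 1 = 2 ^ s * 3 ^ t))
    (h2 : ¬ (q = 2 ∧ (n = 4 ∨ n = 6 ∨ n = 10 ∨ n = 12 ∨ n = 18)))
    (h3 : ¬ (q = 3 ∧ (n = 4 ∨ n = 6))) (h4 : ¬ (q = 5 ∧ n = 6)) :
    ∃ p : ℕ, p.Prime ∧ p ∣ q ^ n - 1 ∧ (∀ i : ℕ, 1 ≤ i → i < n → ¬ p ∣ q ^ i - 1) ∧ (n + 1 < p ∨ p ^ 2 ∣ q ^ n - 1) := by

  classical
  rcases Nat.lt_or_ge n 3 with hn3 | hn3
  · have hn2 : n = 2 := by omega
    subst hn2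
    have key : ∃ p : ℕ, p.Prime ∧ p ≠ 2 ∧ p ∣ q + 1 ∧ (3 < p ∨ p ^ 2 ∣ q + 1) := by
      by_contra hcon
      push Not at hcon
      have h23 : ∀ p : ℕ, p.Prime → p ∣ q + 1 → p = 2 ∨ p = 3 := by
        intro p hp hd
        by_contra hne
        rw [not_or] at hne
        have := (hcon p hp hne.1 hd).1
        have := hp.two_le
        omega
      have h3t : (q + 1).factorization 3 ≤ 1 := by
        by_contra hlt
        have h9 : 3 ^ 2 ∣ q + 1 :=
          (Nat.prime_three.pow_dvd_iff_le_factorization (by omega)).2 (by omega)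
        exact (hcon 3 Nat.prime_three (by norm_num) ((dvd_pow_self 3 two_ne_zero).trans h9)).2 h9
      exact h1 ⟨rfl, _, _, h3t, two_three (by omega) h23⟩
    obtain ⟨p, hp, hp2, hpd, hor⟩ := key
    have hsq : q ^ 2 - 1 = (q + 1) * (q - 1) := by rw [← Nat.sq_sub_sq, one_pow]
    refine ⟨p, hp, hsq ▸ Dvd.dvd.mul_right hpd _, fun i hi1 hi2 hd => ?_, ?_⟩
    · have hi : i = 1 := by omega
      subst hi
      rw [pow_one] at hd
      have h5 : p ∣ q + 1 - (q - 1) := Nat.dvd_sub hpd hd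
      rw [show q + 1 - (q - 1) = 2 by omega] at h5
      exact hp2 ((Nat.prime_dvd_prime_iff_eq hp Nat.prime_two).1 h5)
    · rcases hor with h | h
      · exact Or.inl (by omega)
      · exact Or.inr (hsq ▸ Dvd.dvd.mul_right h _)
  by_cases hexc : (q, n) ∈ Cfsg.Agent.S4423.exc
  · simp only [Cfsg.Agent.S4423.exc, List.mem_cons, List.not_mem_nil, or_false, Prod.mk.injEq] at hexc
    rcases hexc with ⟨rfl, rfl⟩ | ⟨rfl, rfl⟩ | ⟨rfl, rfl⟩ | ⟨rfl, rfl⟩ | ⟨rfl, rfl⟩ | ⟨rfl, rfl⟩ | ⟨rfl, rfl⟩ | ⟨rfl, rfl⟩ |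
      ⟨rfl, rfl⟩ | ⟨rfl, rfl⟩ | ⟨rfl, rfl⟩ | ⟨rfl, rfl⟩ | ⟨rfl, rfl⟩
    iterate 8 (exfalso; first | exact h2 ⟨rfl, by omega⟩ | exact h3 ⟨rfl, by omega⟩ | exact h4 ⟨rfl, by omega⟩)
    · refine ⟨7, by norm_num, by norm_num, fun i h1 h2 => ?_, by norm_num⟩; interval_cases i <;> norm_num
    · refine ⟨17, by norm_num, by norm_num, fun i h1 h2 => ?_, by norm_num⟩; interval_cases i <;> norm_num
    · refine ⟨41, by norm_num, by norm_num, fun i h1 h2 => ?_, by norm_num⟩; interval_cases i <;> norm_num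
    · refine ⟨7, by norm_num, by norm_num, fun i h1 h2 => ?_, by norm_num⟩; interval_cases i <;> norm_num
    · refine ⟨13, by norm_num, by norm_num, fun i h1 h2 => ?_, by norm_num⟩; interval_cases i <;> norm_num
  obtain ⟨m, hm, hc, hbig⟩ := Cfsg.Agent.S4423.main hq hn3 hexc
  have hm0 : m ≠ 0 := by omega
  have hprim : ∀ p : ℕ, p.Prime → p ∣ m → ∀ i : ℕ, 1 ≤ i → i < n → ¬ p ∣ q ^ i - 1 := fun p hp hpm i h1 h2 hd => by
    have h3 := Nat.dvd_gcd hpm hd
    rw [Nat.Coprime.gcd_eq_one (hc i h1 h2)] at h3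
    exact hp.not_dvd_one h3
  by_cases hlarge : ∃ p : ℕ, p.Prime ∧ p ∣ m ∧ n + 1 < p
  · obtain ⟨p, hp, hpm, hlt⟩ := hlarge
    exact ⟨p, hp, hpm.trans hm, hprim p hp hpm, Or.inl hlt⟩
  push Not at hlarge
  have heq : ∀ p : ℕ, p.Prime → p ∣ m → p = n + 1 := by
    intro p hp hpm
    haveI : Fact p.Prime := ⟨hp⟩
    have h5 : (q : ZMod p) ^ n = 1 := by
      have h6 := hpm.trans hm
      rwa [← ZMod.natCast_eq_zero_iff, Nat.cast_sub (Nat.one_le_pow _ _ (by omega)), Nat.cast_pow, Nat.cast_one, sub_eq_zero] at h6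
    have hq0 : (q : ZMod p) ≠ 0 := by
      intro h
      rw [h, zero_pow (by omega)] at h5
      exact zero_ne_one h5
    have hord : orderOf (q : ZMod p) = n := by
      have h7 : orderOf (q : ZMod p) ∣ n := orderOf_dvd_of_pow_eq_one h5
      have h8 : 0 < orderOf (q : ZMod p) := Nat.pos_of_dvd_of_pos h7 (by omega)
      rcases (Nat.le_of_dvd (by omega) h7).lt_or_eq with hlt | he
      · exfalso
        refine hprim p hp hpm _ h8 hlt ?_
        rw [← ZMod.natCast_eq_zero_iff, Nat.cast_sub (Nat.one_le_pow _ _ (by omega)), Nat.cast_pow, Nat.cast_one,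
          pow_orderOf_eq_one, sub_self]
      · exact he
    have h9 : n ∣ p - 1 := hord ▸ ZMod.orderOf_dvd_card_sub_one hq0
    have := Nat.le_of_dvd (by have := hp.two_le; omega) h9
    have := hlarge p hp hpm
    omega
  obtain ⟨p, hp, hpm⟩ := Nat.exists_prime_and_dvd (show m ≠ 1 by omega)
  have hp1 := heq p hp hpm
  have hpow := Nat.eq_prime_pow_of_unique_prime_dvd hm0 (fun {d} hd hdm => (heq d hd hdm).trans hp1.symm)
  have hk : 2 ≤ m.primeFactorsList.length := by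
    by_contra hlt
    have : m ≤ p := by
      rw [hpow]
      calc p ^ m.primeFactorsList.length ≤ p ^ 1 := Nat.pow_le_pow_right hp.pos (by omega)
        _ = p := pow_one p
    omega
  exact ⟨p, hp, hpm.trans hm, hprim p hp hpm, Or.inr (((pow_dvd_pow p hk).trans (dvd_of_eq hpow.symm)).trans hm)⟩

end Cfsg.Agent.S3430
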