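import Cfsg.Statements.S3431
import Cfsg.Agent.S0494
import Cfsg.Agent.S0497
import Cfsg.Agent.Lib.SylowCounting.Counting
import Cfsg.Agent.Lib.SylowCounting.OrderCountTables

set_option autoImplicit false
set_option maxHeartbeats 1000000
open Cfsg Cfsg.Agent.Lib.SylowCounting Cfsg.Agent.Lib.SylowCounting.OrderCounts

namespace Cfsg.Agent.S3431

/-- Orders up to `146` whose count lies in `V` form the table. -/
theorem cover (V : List ℕ) (table : List (ℕ × List ℕ × List ℕ)) (bad : List (ℕ × ℕ)) (a b c d : ℕ)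
    (hV : ∀ v ∈ V, v ≤ 145) (hab : a.Coprime b) (habc : (a * b).Coprime c)
    (habcd : (a * b * c).Coprime d) (hz0 : a * b * c * d ≠ 0)
    (hbad : ∀ q ∈ bad, q.1 ^ q.2 ∣ a * b * c * d ∧ ∀ v ∈ V, ¬ (q.1 ^ q.2 * (q.1 - 1)) ∣ v)
    (hprimes : ∀ p < 147, p.Prime → (∀ v ∈ V, ¬ ((p - 1) ∣ v ∧ p ∣ 1 + v)) ∨ ∃ q ∈ bad, q.1 = p)
    (hcheck : ∀ x ∈ a.divisors, ∀ y ∈ b.divisors, ∀ z ∈ c.divisors, ∀ w ∈ d.divisors, ∀ v ∈ V,
      2 < x * y * z * w → x.totient * y.totient * z.totient * w.totient ∣ v →
        (table.any fun e => e.1 == x * y * z * w && e.2.1.contains v) = true)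
    (f : ℕ → ℕ) (m : ℕ) (hm : 2 < m)
    (h : ∀ k, k ∣ m → f k ∈ V ∧ Nat.totient k ∣ f k ∧ (k.Prime → k ∣ 1 + f k)) :
    ∃ e ∈ table, e.1 = m ∧ f m ∈ e.2.1 := by
  have hdvd : m ∣ a * b * c * d := by
    refine (Nat.dvd_iff_prime_pow_dvd_dvd _ _).mpr fun p k hp hpk => ?_
    rcases Nat.eq_zero_or_pos k with rfl | hk
    · simp
    have hpm : p ∣ m := (dvd_pow_self p hk.ne').trans hpk
    obtain ⟨hv, hphi, hp1⟩ := h p hpm
    rw [Nat.totient_prime hp] at hphi
    have hlt : p < 147 := by
      have := Nat.le_of_dvd (by omega) (hp1 hp)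
      have := hV _ hv
      omega
    rcases hprimes p hlt hp with hno | ⟨⟨p', e⟩, hq, rfl⟩
    · exact absurd ⟨hphi, hp1 hp⟩ (hno _ hv)
    · obtain ⟨hqd, hqn⟩ := hbad _ hq
      by_cases hke : k ≤ e
      · exact (pow_dvd_pow _ hke).trans hqd
      · exfalso
        obtain ⟨hv', hphi', -⟩ := h (p' ^ (e + 1)) ((pow_dvd_pow p' (by omega)).trans hpk)
        rw [Nat.totient_prime_pow_succ hp] at hphi'
        exact hqn _ hv' hphi'
  obtain ⟨xyz, w, hxyz, hw, rfl⟩ := exists_dvd_and_dvd_of_dvd_mul hdvd
  obtain ⟨xy, z, hxy, hz, rfl⟩ := exists_dvd_and_dvd_of_dvd_mul hxyz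
  obtain ⟨x, y, hx, hy, rfl⟩ := exists_dvd_and_dvd_of_dvd_mul hxy
  obtain ⟨hv, hphi, -⟩ := h _ dvd_rfl
  rw [Nat.totient_mul ((habcd.coprime_dvd_left hxyz).coprime_dvd_right hw),
    Nat.totient_mul ((habc.coprime_dvd_left hxy).coprime_dvd_right hz),
    Nat.totient_mul ((hab.coprime_dvd_left hx).coprime_dvd_right hy)] at hphi
  have hne : ∀ {u t : ℕ}, 2 < x * y * z * w → u ∣ t → t ≠ 0 → u ∈ t.divisors :=
    fun _ hd ht => Nat.mem_divisors.mpr ⟨hd, ht⟩
  simp only [ne_eq, mul_eq_zero, not_or] at hz0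
  have := hcheck x (hne hm hx hz0.1.1.1) y (hne hm hy hz0.1.1.2) z (hne hm hz hz0.1.2) w
    (hne hm hw hz0.2) _ hv hm hphi
  obtain ⟨e, he, he'⟩ := List.any_eq_true.1 this
  simp only [Bool.and_eq_true, beq_iff_eq, List.contains_iff_mem] at he'
  exact ⟨e, he, he'⟩

section

variable {G : Type*} [Group G] [Finite G]

open MulAction in
/-- A `5`-group acting without fixed points on `T ∖ {1}`. -/
theorem card_mod_five (P : Subgroup G) (hP : IsPGroup 5 P) (T : Set G) (h1 : (1 : G) ∈ T)
    (hT : ∀ u ∈ P, ∀ x ∈ T, u * x * u⁻¹ ∈ T)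
    (hfix : ∀ x ∈ T, (∀ u ∈ P, u * x = x * u) → x = 1) : Nat.card T % 5 = 1 := by
  haveI : Fact (Nat.Prime 5) := ⟨by norm_num⟩
  letI : MulAction P T :=
    { smul := fun u x => ⟨(u : G) * x * (u : G)⁻¹, hT u u.2 x x.2⟩
      one_smul := fun x => Subtype.ext (by show (1 : G) * x * (1 : G)⁻¹ = x; simp)
      mul_smul := fun u v x => Subtype.ext (by
        show ((u : G) * v) * x * ((u : G) * v)⁻¹ = (u : G) * ((v : G) * x * (v : G)⁻¹) * (u : G)⁻¹
        group) }
  have hmod := hP.card_modEq_card_fixedPoints T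
  have hone : Nat.card (fixedPoints P T) = 1 := by
    rw [Nat.card_eq_one_iff_unique]
    refine ⟨⟨fun a b => ?_⟩, ⟨⟨⟨1, h1⟩, fun u => Subtype.ext (by
      show (u : G) * 1 * (u : G)⁻¹ = 1; simp)⟩⟩⟩
    have key : ∀ c : fixedPoints P T, ((c : T) : G) = 1 := fun c => hfix _ (c : T).2 fun u hu => by
      have h : u * ((c : T) : G) * u⁻¹ = ((c : T) : G) := congrArg Subtype.val (c.2 ⟨u, hu⟩)
      exact mul_inv_eq_iff_eq_mul.1 h
    exact Subtype.ext (Subtype.ext ((key a).trans (key b).symm))
  rw [hone] at hmod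
  exact hmod

/-- The facts shared by the two simple cases. -/
structure Data (G : Type*) [Group G] (n X2 X5 n5 : ℕ) : Prop where
  card : Nat.card G = n
  card2 : Nat.card {g : G // g ^ 2 = 1} = X2
  card5 : Nat.card {g : G // g ^ 5 = 1} = X5
  card10 : Nat.card {g : G // g ^ 10 = 1} = X5 + X2 - 1
  sylow : n5 * 4 + 1 = X5

variable {n X2 X5 n5 : ℕ}

omit [Finite G] in
theorem eq_one_of_two_five {x : G} (h2 : x ^ 2 = 1) (h5 : x ^ 5 = 1) : x = 1 := by
  have := pow_gcd_eq_one.2 ⟨h2, h5⟩
  simpa using this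

theorem pow_ten (D : Data G n X2 X5 n5) (x : G) (hx : x ^ 10 = 1) : x ^ 5 = 1 ∨ x ^ 2 = 1 := by
  classical
  haveI := Fintype.ofFinite G
  have h := D.card10
  rw [← D.card2, ← D.card5] at h
  simp only [Nat.card_eq_fintype_card, Fintype.card_subtype] at h
  set A := Finset.univ.filter fun g : G => g ^ 5 = 1
  set B := Finset.univ.filter fun g : G => g ^ 2 = 1
  have hAB : (A ∩ B).card = 1 := by
    rw [Finset.card_eq_one]
    refine ⟨1, Finset.ext fun g => ?_⟩
    simp only [A, B, Finset.mem_inter, Finset.mem_filter, Finset.mem_univ, true_and,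
      Finset.mem_singleton]
    exact ⟨fun hg => eq_one_of_two_five hg.2 hg.1, fun hg => by subst hg; simp⟩
  have hu := Finset.card_union_add_card_inter A B
  have hsub : A ∪ B ⊆ Finset.univ.filter fun g : G => g ^ 10 = 1 := by
    intro g hg
    simp only [A, B, Finset.mem_union, Finset.mem_filter, Finset.mem_univ, true_and] at hg ⊢
    rcases hg with hg | hg
    · rw [show 10 = 5 * 2 by norm_num, pow_mul, hg, one_pow]
    · rw [show 10 = 2 * 5 by norm_num, pow_mul, hg, one_pow]
  have heq := Finset.eq_of_subset_of_card_le hsub (by omega)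
  have hmem : x ∈ A ∪ B := heq ▸ Finset.mem_filter.2 ⟨Finset.mem_univ _, hx⟩
  simpa [A, B] using hmem

theorem simple_of_data (hn : (n = 60 ∧ n5 = 6) ∨ (n = 360 ∧ n5 = 36)) (D : Data G n X2 X5 n5) :
    IsSimpleGroup G := by
  classical
  haveI : Fact (Nat.Prime 5) := ⟨by norm_num⟩
  have hcard : Nat.card G = 5 ^ 1 * (n / 5) := by
    rw [D.card]; rcases hn with ⟨rfl, -⟩ | ⟨rfl, -⟩ <;> norm_num
  have hm : ¬ 5 ∣ n / 5 := by rcases hn with ⟨rfl, -⟩ | ⟨rfl, -⟩ <;> norm_num
  have hsy : ∀ P : Sylow 5 G, Nat.card (P : Subgroup G) = 5 := fun P => by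
    rw [sylow_card hcard hm P, pow_one]
  have hc5 : Nat.card {g : G // orderOf g = 5} = n5 * 4 := by
    have h : Nat.card {g : G // g ^ 5 = 1} = 1 + Nat.card {g : G // orderOf g = 5} := by
      rw [← Nat.card_unique (α := {g : G // g = 1}), ← Nat.card_sum]
      refine Nat.card_congr ((Equiv.subtypeEquivRight fun x => ?_).trans
        (subtypeOrEquiv (fun g : G => g = 1) (fun g : G => orderOf g = 5)
          (Pi.disjoint_iff.2 fun x => Prop.disjoint_iff.2 fun ⟨a, b⟩ => by
            subst a; simp at b)))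
      rw [← orderOf_dvd_iff_pow_eq_one, Nat.dvd_prime (by norm_num), orderOf_eq_one_iff]
    have := D.card5
    have := D.sylow
    omega
  let P : Sylow 5 G := default
  have hn5 : Nat.card (Sylow 5 G) = n5 := by
    have := card_orderOf_eq_prime hsy
    omega
  have hNP : Nat.card (Subgroup.normalizer ((P : Subgroup G) : Set G)) = 10 := by
    have h1 := (Subgroup.normalizer ((P : Subgroup G) : Set G)).index_mul_card
    have h2 : (Subgroup.normalizer ((P : Subgroup G) : Set G)).index = n5 := by
      rw [← hn5, Sylow.card_eq_index_normalizer P]; rfl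
    rw [h2, D.card] at h1
    rcases hn with ⟨rfl, rfl⟩ | ⟨rfl, rfl⟩ <;> omega
  obtain ⟨u, hu⟩ := exists_prime_orderOf_dvd_card' (G := (P : Subgroup G)) 5 (by rw [hsy P])
  have hu5 : orderOf (u : G) = 5 := by rwa [Subgroup.orderOf_coe]
  -- no normal subgroup of order prime to five
  have key : ∀ H : Subgroup G, H.Normal → ¬ 5 ∣ Nat.card H → H = ⊥ := by
    intro H hH h5
    haveI := hH
    have hfix : ∀ x ∈ H, (∀ v ∈ (P : Subgroup G), v * x = x * v) → x = 1 := by
      intro x hx hcomm
      have h5x : x ^ 5 = 1 → x = 1 := fun h => by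
        rcases (Nat.dvd_prime (by norm_num : Nat.Prime 5)).1 (orderOf_dvd_of_pow_eq_one h) with h' | h'
        · exact orderOf_eq_one_iff.1 h'
        · exact absurd (h' ▸ H.orderOf_dvd_natCard hx) h5
      have hxN : x ∈ Subgroup.normalizer ((P : Subgroup G) : Set G) := fun v =>
        ⟨fun hv => by rwa [← hcomm v hv, mul_assoc, mul_inv_cancel, mul_one], fun hv => by
          have h := hcomm _ hv
          rw [inv_mul_cancel_right] at h
          rwa [← mul_left_cancel h] at hv⟩
      have hx10 : x ^ 10 = 1 :=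
        orderOf_dvd_iff_pow_eq_one.1
          (hNP ▸ (Subgroup.normalizer ((P : Subgroup G) : Set G)).orderOf_dvd_natCard hxN)
      rcases pow_ten D x hx10 with h | h2
      · exact h5x h
      · have hux : Commute (u : G) x := hcomm u u.2
        have hu1 : (u : G) ^ 5 = 1 := orderOf_dvd_iff_pow_eq_one.1 hu5.dvd
        have h10 : ((u : G) * x) ^ 10 = 1 := by
          rw [hux.mul_pow, show 10 = 5 * 2 by norm_num, pow_mul, hu1, one_pow, one_mul,
            pow_mul, ← pow_mul, mul_comm, pow_mul, h2, one_pow]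
        rcases pow_ten D _ h10 with h | h
        · refine h5x ?_
          rwa [hux.mul_pow, hu1, one_mul] at h
        · exfalso
          rw [hux.mul_pow, h2, mul_one] at h
          have := Nat.le_of_dvd (by norm_num) (hu5 ▸ orderOf_dvd_of_pow_eq_one h)
          omega
    have hmod := card_mod_five (P : Subgroup G) P.isPGroup' (H : Set G) H.one_mem
      (fun v _ x hx => hH.conj_mem x hx v) hfix
    rw [SetLike.coe_sort_coe] at hmod
    have hd : Nat.card H ∣ n / 5 := by
      have h := H.card_subgroup_dvd_card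
      rw [hcard, pow_one] at h
      exact ((Nat.Prime.coprime_iff_not_dvd (by norm_num)).2 h5).symm.dvd_of_dvd_mul_left h
    by_contra hne
    have h1 : Nat.card H ≠ 1 := fun h => hne (Subgroup.card_eq_one.1 h)
    have hcases : Nat.card H = 6 ∨ Nat.card H = 36 := by
      generalize Nat.card H = c at hd hmod h1
      rcases hn with ⟨rfl, -⟩ | ⟨rfl, -⟩
      · have := Nat.le_of_dvd (by norm_num) hd
        interval_cases c <;> omega
      · have := Nat.le_of_dvd (by norm_num) hd
        interval_cases c <;> omega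
    obtain ⟨a, ha, hac, hdiv⟩ : ∃ a, ¬ 2 ∣ a ∧ a ∣ Nat.card H ∧ (Nat.card H = 6 ∧ a = 3 ∨ Nat.card H = 36 ∧ a = 9) := by
      rcases hcases with h | h
      · exact ⟨3, by norm_num, by rw [h]; norm_num, Or.inl ⟨h, rfl⟩⟩
      · exact ⟨9, by norm_num, by rw [h]; norm_num, Or.inr ⟨h, rfl⟩⟩
    have hT : Nat.card {x : G | x ∈ H ∧ x ^ a = 1} % 5 = 1 :=
      card_mod_five (P : Subgroup G) P.isPGroup' _ ⟨H.one_mem, one_pow a⟩
        (fun v _ x hx => ⟨hH.conj_mem x hx.1 v, by rw [conj_pow, hx.2, mul_one, mul_inv_cancel]⟩)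
        (fun x hx => hfix x hx.1)
    have he : Nat.card {x : G | x ∈ H ∧ x ^ a = 1} = Nat.card {y : H // y ^ a = 1} :=
      Nat.card_congr
        { toFun := fun x => ⟨⟨x.1, x.2.1⟩, Subtype.ext x.2.2⟩
          invFun := fun y => ⟨y.1.1, y.1.2, congrArg Subtype.val y.2⟩
          left_inv := fun _ => rfl
          right_inv := fun _ => rfl }
    have hfro := Cfsg.Agent.S3993.result (G := H) a hac
    haveI : Fact (Nat.Prime 2) := ⟨Nat.prime_two⟩
    obtain ⟨y, hy⟩ := exists_prime_orderOf_dvd_card' (G := H) 2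
      (by rcases hcases with h | h <;> rw [h] <;> norm_num)
    have hlt : Nat.card {z : H // z ^ a = 1} < Nat.card H :=
      Finite.card_subtype_lt (x := y) fun hya => ha (hy ▸ orderOf_dvd_of_pow_eq_one hya)
    rw [he] at hT
    generalize Nat.card {z : H // z ^ a = 1} = t at hT hfro hlt
    obtain ⟨k, rfl⟩ := hfro
    rcases hdiv with ⟨h, rfl⟩ | ⟨h, rfl⟩ <;> omega
  haveI : Nontrivial G := Finite.one_lt_card_iff_nontrivial.1 (by
    rw [D.card]; rcases hn with ⟨rfl, -⟩ | ⟨rfl, -⟩ <;> norm_num)
  refine ⟨fun N hN => ?_⟩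
  by_cases h5 : 5 ∣ Nat.card N
  · right
    by_contra hne
    haveI := hN
    -- every element of order five lies in N
    obtain ⟨v, hv⟩ := exists_prime_orderOf_dvd_card' (G := N) 5 h5
    have hv5 : orderOf (v : G) = 5 := by rwa [Subgroup.orderOf_coe]
    have hall : ∀ g : G, orderOf g = 5 → g ∈ N := by
      intro g hg
      have hcardz : ∀ z : G, orderOf z = 5 →
          Nat.card (Subgroup.zpowers z) = 5 ^ (Nat.card G).factorization 5 := fun z hz => by
        rw [Nat.card_zpowers, hz, ← P.card_eq_multiplicity, hsy P]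
      let Q : Sylow 5 G := Sylow.ofCard _ (hcardz g hg)
      let R : Sylow 5 G := Sylow.ofCard _ (hcardz (v : G) hv5)
      obtain ⟨c, hc⟩ := MulAction.exists_smul_eq G R Q
      have hgQ : g ∈ ((c • R : Sylow 5 G) : Subgroup G) := by
        rw [hc]; simp only [Q, Sylow.coe_ofCard]; exact Subgroup.mem_zpowers g
      rw [Sylow.smul_def, Sylow.pointwise_smul_def] at hgQ
      obtain ⟨w, hw, rfl⟩ := Subgroup.mem_map.1 hgQ
      simp only [R, Sylow.coe_ofCard] at hw
      exact hN.conj_mem w ((Subgroup.zpowers_le.2 v.2) hw) c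
    have hN5 : Nat.card {x : N // orderOf x = 5} = n5 * 4 := by
      rw [← hc5]
      exact Nat.card_congr
        { toFun := fun x => ⟨x.1.1, by rw [Subgroup.orderOf_coe]; exact x.2⟩
          invFun := fun g => ⟨⟨g.1, hall g.1 g.2⟩, by
            rw [← Subgroup.orderOf_coe]; exact g.2⟩
          left_inv := fun _ => rfl
          right_inv := fun _ => rfl }
    have hlt : n5 * 4 < Nat.card N := hN5 ▸
      Finite.card_subtype_lt (x := (1 : N)) (by simp)
    have hidx := N.index_mul_card
    have hi1 : N.index ≠ 1 := fun h => hne (Subgroup.index_eq_one.1 h)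
    rw [D.card] at hidx
    have hN2 : Nat.card N * 2 = n := by
      obtain ⟨k, hk⟩ := h5
      rw [hk] at hidx hlt ⊢
      rcases hn with ⟨rfl, rfl⟩ | ⟨rfl, rfl⟩
      · have h1 : N.index * k = 12 := by linarith
        have : N.index ≤ 12 := Nat.le_of_dvd (by norm_num) (Dvd.intro k h1)
        have : 5 ≤ k := by omega
        interval_cases N.index <;> omega
      · have h1 : N.index * k = 72 := by linarith
        have : N.index ≤ 72 := Nat.le_of_dvd (by norm_num) (Dvd.intro k h1)
        have : 29 ≤ k := by omega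
        have : N.index ≤ 2 := by nlinarith
        interval_cases N.index <;> omega
    have hcardN : Nat.card N = 5 ^ 1 * (n / 10) := by
      rcases hn with ⟨rfl, -⟩ | ⟨rfl, -⟩ <;> omega
    have hmN : ¬ 5 ∣ n / 10 := by rcases hn with ⟨rfl, -⟩ | ⟨rfl, -⟩ <;> norm_num
    have hsyN : ∀ Q : Sylow 5 N, Nat.card (Q : Subgroup N) = 5 := fun Q => by
      rw [sylow_card hcardN hmN Q, pow_one]
    let Q : Sylow 5 N := default
    have hnQ : Nat.card (Subgroup.normalizer ((Q : Subgroup N) : Set N)) = 5 := by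
      have h1 := (Subgroup.normalizer ((Q : Subgroup N) : Set N)).index_mul_card
      have h2 : (Subgroup.normalizer ((Q : Subgroup N) : Set N)).index = n5 := by
        have h3 := card_orderOf_eq_prime hsyN
        rw [hN5] at h3
        have h4 := Sylow.card_eq_index_normalizer Q
        change _ = (Subgroup.normalizer ((Q : Subgroup N) : Set N)).index at h4
        omega
      rw [h2, hcardN] at h1
      rcases hn with ⟨rfl, rfl⟩ | ⟨rfl, rfl⟩ <;> omega
    have hNQ : Subgroup.normalizer ((Q : Subgroup N) : Set N) = (Q : Subgroup N) :=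
      (Subgroup.eq_of_le_of_card_ge Subgroup.le_normalizer (by rw [hnQ, hsyN Q])).symm
    haveI : IsCyclic (Q : Subgroup N) := isCyclic_of_prime_card (hsyN Q)
    have hle : Subgroup.normalizer ((Q : Subgroup N) : Set N) ≤
        Subgroup.centralizer ((Q : Subgroup N) : Set N) := by
      rw [hNQ]
      intro z hz
      rw [Subgroup.mem_centralizer_iff]
      intro w hw
      exact congrArg Subtype.val
        ((IsCyclic.commGroup (α := (Q : Subgroup N))).mul_comm ⟨w, hw⟩ ⟨z, hz⟩)
    have hK := MonoidHom.ker_transferSylow_isComplement' Q hle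
    set K := (MonoidHom.transferSylow Q hle).ker with hKdef
    have hKc : Nat.card K = n / 10 := by
      have := hK.card_mul_card
      rw [hsyN Q, hcardN] at this
      omega
    have hKi : K.index = 5 := by
      have h := K.index_mul_card
      rw [hKc, hcardN, pow_one] at h
      exact Nat.eq_of_mul_eq_mul_right (by rcases hn with ⟨rfl, -⟩ | ⟨rfl, -⟩ <;> norm_num) h
    have hmemK : ∀ z : N, (¬ 5 ∣ orderOf z) → z ∈ K := by
      intro z hz
      haveI : K.Normal := MonoidHom.normal_ker _
      have h1 : z ^ 5 ∈ K := hKi ▸ K.pow_index_mem z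
      have h2 : z ^ orderOf z ∈ K := by rw [pow_orderOf_eq_one]; exact K.one_mem
      have hco : Nat.Coprime 5 (orderOf z) := (Nat.Prime.coprime_iff_not_dvd (by norm_num)).2 hz
      obtain ⟨x, y, hxy⟩ : ∃ x y : ℤ, (5 : ℤ) * x + (orderOf z : ℤ) * y = 1 :=
        ⟨Nat.gcdA 5 (orderOf z), Nat.gcdB 5 (orderOf z), by
          have := Nat.gcd_eq_gcd_ab 5 (orderOf z)
          rw [hco.gcd_eq_one] at this
          exact_mod_cast this.symm⟩
      have : z = (z ^ 5) ^ x * (z ^ orderOf z) ^ y := by
        rw [← zpow_natCast, ← zpow_natCast z (orderOf z), ← zpow_mul, ← zpow_mul, ← zpow_add]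
        push_cast
        rw [hxy, zpow_one]
      rw [this]
      exact mul_mem (zpow_mem h1 x) (zpow_mem h2 y)
    have h5K : ¬ 5 ∣ Nat.card K := hKc ▸ hmN
    have hKn : (K.map N.subtype).Normal := ⟨by
      rintro _ ⟨z, hz, rfl⟩ g
      refine ⟨⟨g * z * g⁻¹, hN.conj_mem _ z.2 g⟩, hmemK _ ?_, rfl⟩
      rw [← Subgroup.orderOf_coe]
      show ¬ 5 ∣ orderOf (g * (z : G) * g⁻¹)
      rw [show g * (z : G) * g⁻¹ = MulAut.conj g z from rfl, MulEquiv.orderOf_eq,
        Subgroup.orderOf_coe]
      exact fun h => h5K (h.trans (K.orderOf_dvd_natCard hz))⟩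
    have hmapc : Nat.card (K.map N.subtype) = n / 10 := by
      rw [Subgroup.card_map_of_injective N.subtype_injective, hKc]
    have := key _ hKn (hmapc ▸ hmN)
    rw [this, Subgroup.card_bot] at hmapc
    rcases hn with ⟨rfl, -⟩ | ⟨rfl, -⟩ <;> norm_num at hmapc
  · exact Or.inl (key N hN h5)

theorem iso_four (hc : Nat.card G = 12) (h3 : Nat.card {g : G // g ^ 3 = 1} = 9) :
    Nonempty (G ≃* alternatingGroup (Fin 4)) := by
  classical
  haveI : Fact (Nat.Prime 3) := ⟨by norm_num⟩
  have hc' : Nat.card G = 3 ^ 1 * 4 := by rw [hc]; norm_num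
  have hsy : ∀ P : Sylow 3 G, Nat.card (P : Subgroup G) = 3 := fun P => by
    rw [sylow_card hc' (by norm_num) P, pow_one]
  have hn3 : Nat.card (Sylow 3 G) = 4 := by
    have h1 := card_orderOf_eq_prime hsy
    have h2 : Nat.card {g : G // g ^ 3 = 1} = 1 + Nat.card {g : G // orderOf g = 3} := by
      rw [← Nat.card_unique (α := {g : G // g = 1}), ← Nat.card_sum]
      refine Nat.card_congr ((Equiv.subtypeEquivRight fun x => ?_).trans
        (subtypeOrEquiv (fun g : G => g = 1) (fun g : G => orderOf g = 3)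
          (Pi.disjoint_iff.2 fun x => Prop.disjoint_iff.2 fun ⟨a, b⟩ => by
            subst a; simp at b)))
      rw [← orderOf_dvd_iff_pow_eq_one, Nat.dvd_prime (by norm_num), orderOf_eq_one_iff]
    omega
  let e : Sylow 3 G ≃ Fin 4 := (Finite.equivFinOfCardEq hn3)
  let φ : G →* Equiv.Perm (Fin 4) := e.permCongrHom.toMonoidHom.comp (MulAction.toPermHom G _)
  have hinj : Function.Injective φ := by
    rw [injective_iff_map_eq_one]
    intro g hg
    have hfix : ∀ P : Sylow 3 G, g ∈ (P : Subgroup G) := by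
      intro P
      have h : g • P = P := by
        have := congrArg (fun σ : Equiv.Perm (Fin 4) => σ (e P)) hg
        simpa [φ, Equiv.permCongr_apply] using this
      have hmem : g ∈ Subgroup.normalizer ((P : Subgroup G) : Set G) :=
        Sylow.smul_eq_iff_mem_normalizer.1 h
      have hN : Nat.card (Subgroup.normalizer ((P : Subgroup G) : Set G)) = 3 := by
        have h1 := (Subgroup.normalizer ((P : Subgroup G) : Set G)).index_mul_card
        have h2 : (Subgroup.normalizer ((P : Subgroup G) : Set G)).index = 4 := by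
          rw [← hn3, Sylow.card_eq_index_normalizer P]; rfl
        rw [h2, hc] at h1
        omega
      rwa [← Subgroup.eq_of_le_of_card_ge Subgroup.le_normalizer
        (by rw [hN, hsy P] : _ ≤ Nat.card (P : Subgroup G))] at hmem
    by_contra hne
    haveI : Nontrivial (Sylow 3 G) := Finite.one_lt_card_iff_nontrivial.1 (by rw [hn3]; norm_num)
    obtain ⟨P, Q, hPQ⟩ := exists_pair_ne (Sylow 3 G)
    refine hPQ (Sylow.ext ?_)
    have key : ∀ R : Sylow 3 G, Subgroup.zpowers g = (R : Subgroup G) := fun R => by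
      refine Subgroup.eq_of_le_of_card_ge (Subgroup.zpowers_le.2 (hfix R)) ?_
      rw [Nat.card_zpowers, hsy R]
      have h := hsy R ▸ (R : Subgroup G).orderOf_dvd_natCard (hfix R)
      rcases (Nat.dvd_prime (by norm_num : Nat.Prime 3)).1 h with h | h
      · exact absurd (orderOf_eq_one_iff.1 h) hne
      · rw [h]
    exact (key P).symm.trans (key Q)
  have hidx : φ.range.index = 2 := by
    have h1 := φ.range.index_mul_card
    rw [Nat.card_congr (MonoidHom.ofInjective hinj).toEquiv.symm, hc, Nat.card_eq_fintype_card,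
      Fintype.card_perm, Fintype.card_fin] at h1
    norm_num [Nat.factorial] at h1
    omega
  exact ⟨(MonoidHom.ofInjective hinj).trans
    (MulEquiv.subgroupCongr (Equiv.Perm.eq_alternatingGroup_of_index_eq_two hidx))⟩

end

/-- The counts of the alternating groups. -/
theorem alt_values {A : Type*} [Group A] [Finite A] (V : List ℕ)
    (hall : ∀ g : A, cnt A (orderOf g) ∈ V) (hex : ∀ v ∈ V, ∃ g : A, cnt A (orderOf g) = v)
    {G : Type*} [Group G] [Finite G]
    (h : ((fun m : ℕ => Nat.card {g : G // orderOf g = m}) '' Set.range (orderOf : G → ℕ)) =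
      ((fun m : ℕ => Nat.card {g : A // orderOf g = m}) '' Set.range (orderOf : A → ℕ))) (v : ℕ) :
    v ∈ V ↔ ∃ g : G, cnt G (orderOf g) = v := by
  rw [Set.ext_iff] at h
  have h' := h v
  simp only [Set.mem_image, Set.exists_range_iff] at h'
  constructor
  · intro hv
    exact h'.2 (hex v hv)
  · intro hv
    obtain ⟨g, rfl⟩ := h'.1 hv
    exact hall g

theorem cnt_prime {A : Type*} [Group A] [Fintype A] [DecidableEq A] {p : ℕ} (hp : p.Prime) :
    cnt A p = Fintype.card {g : A // g ^ p = 1 ∧ g ≠ 1} := by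
  haveI := Fact.mk hp
  rw [cnt, ← Nat.card_eq_fintype_card]
  exact Nat.card_congr (Equiv.subtypeEquivRight fun g => orderOf_eq_prime_iff)

theorem cnt_four {A : Type*} [Group A] [Fintype A] [DecidableEq A] :
    cnt A 4 = Fintype.card {g : A // g ^ 4 = 1 ∧ g ^ 2 ≠ 1} := by
  haveI : Fact (Nat.Prime 2) := ⟨Nat.prime_two⟩
  rw [cnt, ← Nat.card_eq_fintype_card]
  refine Nat.card_congr (Equiv.subtypeEquivRight fun g => ⟨fun h => ?_, fun ⟨h4, h2⟩ => ?_⟩)
  · refine ⟨h ▸ pow_orderOf_eq_one g, fun h2 => ?_⟩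
    have := Nat.le_of_dvd (by norm_num) (h ▸ orderOf_dvd_of_pow_eq_one h2)
    omega
  · exact orderOf_eq_prime_pow (p := 2) (n := 1) (by simpa using h2) (by simpa using h4)

theorem order_cases {A : Type*} [Group A] (g : A)
    (h : g ^ 2 = 1 ∨ g ^ 3 = 1 ∨ g ^ 4 = 1 ∨ g ^ 5 = 1) :
    orderOf g = 1 ∨ orderOf g = 2 ∨ orderOf g = 3 ∨ orderOf g = 4 ∨ orderOf g = 5 := by
  rcases h with h | h | h | h <;>
  · have hd := orderOf_dvd_of_pow_eq_one h
    have hle := Nat.le_of_dvd (by norm_num) hd
    have hne : orderOf g ≠ 0 := fun h0 => by rw [h0] at hd; simp at hd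
    omega

theorem four_no_five : ∀ g : alternatingGroup (Fin 4), g ^ 2 = 1 ∨ g ^ 3 = 1 := by decide +kernel
theorem five_orders : ∀ g : alternatingGroup (Fin 5), g ^ 2 = 1 ∨ g ^ 3 = 1 ∨ g ^ 5 = 1 := by
  decide +kernel
theorem six_orders :
    ∀ g : alternatingGroup (Fin 6), g ^ 2 = 1 ∨ g ^ 3 = 1 ∨ g ^ 4 = 1 ∨ g ^ 5 = 1 := by
  decide +kernel

theorem four_v2 : cnt (alternatingGroup (Fin 4)) 2 = 3 := by
  rw [cnt_prime Nat.prime_two]; decide +kernel
theorem four_v3 : cnt (alternatingGroup (Fin 4)) 3 = 8 := by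
  rw [cnt_prime Nat.prime_three]; decide +kernel
theorem five_v2 : cnt (alternatingGroup (Fin 5)) 2 = 15 := by
  rw [cnt_prime Nat.prime_two]; decide +kernel
theorem five_v3 : cnt (alternatingGroup (Fin 5)) 3 = 20 := by
  rw [cnt_prime Nat.prime_three]; decide +kernel
theorem five_v5 : cnt (alternatingGroup (Fin 5)) 5 = 24 := by
  rw [cnt_prime Nat.prime_five]; decide +kernel
theorem six_v2 : cnt (alternatingGroup (Fin 6)) 2 = 45 := by
  rw [cnt_prime Nat.prime_two]; decide +kernel
theorem six_v3 : cnt (alternatingGroup (Fin 6)) 3 = 80 := by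
  rw [cnt_prime Nat.prime_three]; decide +kernel
theorem six_v4 : cnt (alternatingGroup (Fin 6)) 4 = 90 := by
  rw [cnt_four]; decide +kernel
theorem six_v5 : cnt (alternatingGroup (Fin 6)) 5 = 144 := by
  rw [cnt_prime Nat.prime_five]; decide +kernel

theorem exists_of_cnt {A : Type*} [Group A] [Finite A] {m v : ℕ} (h : cnt A m = v) (hv : v ≠ 0) :
    ∃ g : A, cnt A (orderOf g) = v := by
  obtain ⟨g, rfl⟩ := cnt_ne_zero_iff.1 (h ▸ hv)
  exact ⟨g, h⟩

theorem case_four {G : Type*} [Group G] [Finite G]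
    (h : ((fun m : ℕ => Nat.card {g : G // orderOf g = m}) '' Set.range (orderOf : G → ℕ)) =
      ((fun m : ℕ => Nat.card {g : alternatingGroup (Fin 4) // orderOf g = m}) ''
        Set.range (orderOf : alternatingGroup (Fin 4) → ℕ))) :
    Nonempty (G ≃* alternatingGroup (Fin 4)) := by
  have hV := alt_values [1, 3, 8] (fun g => by
      rcases order_cases g ((four_no_five g).imp_right Or.inl) with e | e | e | e | e
      · simp [e, cnt_one]
      · simp [e, four_v2]
      · simp [e, four_v3]
      all_goals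
        exfalso
        rcases four_no_five g with hg | hg <;>
          · have := Nat.le_of_dvd (by norm_num) (orderOf_dvd_of_pow_eq_one hg)
            omega)
    (fun v hv => by
      simp only [List.mem_cons, List.not_mem_nil, or_false] at hv
      rcases hv with rfl | rfl | rfl
      · exact exists_of_cnt cnt_one (by norm_num)
      · exact exists_of_cnt four_v2 (by norm_num)
      · exact exists_of_cnt four_v3 (by norm_num)) h
  have hd := determined [1, 3, 8] fourTests [(0, 12), (3, 9)] fourTable 3 hV (by norm_num)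
    (by decide) (by norm_num)
    (cover [1, 3, 8] fourTable [(2, 4), (3, 1)] 16 3 1 1 (by decide) (by decide) (by decide)
      (by decide) (by decide) (by decide +kernel) (by decide +kernel) (by decide +kernel))
    (by decide +kernel) (by decide +kernel) (by decide +kernel) four_search
  refine iso_four ?_ (hd (3, 9) (by simp))
  exact (Nat.card_congr (Equiv.subtypeUnivEquiv fun g => pow_zero g)).symm.trans (hd (0, 12) (by simp))

theorem case_five {G : Type*} [Group G] [Finite G]
    (h : ((fun m : ℕ => Nat.card {g : G // orderOf g = m}) '' Set.range (orderOf : G → ℕ)) =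
      ((fun m : ℕ => Nat.card {g : alternatingGroup (Fin 5) // orderOf g = m}) ''
        Set.range (orderOf : alternatingGroup (Fin 5) → ℕ))) :
    Nonempty (G ≃* alternatingGroup (Fin 5)) := by
  have hV := alt_values [1, 15, 20, 24] (fun g => by
      rcases order_cases g (by have := five_orders g; tauto) with e | e | e | e | e
      · simp [e, cnt_one]
      · simp [e, five_v2]
      · simp [e, five_v3]
      · exfalso
        rcases five_orders g with hg | hg | hg <;>
          · have := e ▸ orderOf_dvd_of_pow_eq_one hg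
            norm_num at this
      · simp [e, five_v5])
    (fun v hv => by
      simp only [List.mem_cons, List.not_mem_nil, or_false] at hv
      rcases hv with rfl | rfl | rfl | rfl
      · exact exists_of_cnt cnt_one (by norm_num)
      · exact exists_of_cnt five_v2 (by norm_num)
      · exact exists_of_cnt five_v3 (by norm_num)
      · exact exists_of_cnt five_v5 (by norm_num)) h
  have hd := determined [1, 15, 20, 24] fiveTests [(0, 60), (2, 16), (5, 25), (10, 40)] fiveTable 15
    hV (by norm_num) (by decide) (by norm_num)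
    (cover [1, 15, 20, 24] fiveTable [(2, 4), (3, 2), (5, 2)] 16 9 25 1 (by decide) (by decide)
      (by decide) (by decide) (by decide) (by decide +kernel) (by decide +kernel) (by decide +kernel))
    (by decide +kernel) (by decide +kernel) (by decide +kernel) five_search
  have D : Data G 60 16 25 6 :=
    ⟨(Nat.card_congr (Equiv.subtypeUnivEquiv fun g => pow_zero g)).symm.trans (hd (0, 60) (by simp)),
      hd (2, 16) (by simp), hd (5, 25) (by simp), hd (10, 40) (by simp), rfl⟩
  haveI := simple_of_data (Or.inl ⟨rfl, rfl⟩) D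
  exact Cfsg.Agent.S0494.result D.card

theorem case_six {G : Type*} [Group G] [Finite G]
    (h : ((fun m : ℕ => Nat.card {g : G // orderOf g = m}) '' Set.range (orderOf : G → ℕ)) =
      ((fun m : ℕ => Nat.card {g : alternatingGroup (Fin 6) // orderOf g = m}) ''
        Set.range (orderOf : alternatingGroup (Fin 6) → ℕ))) :
    Nonempty (G ≃* alternatingGroup (Fin 6)) := by
  have hV := alt_values [1, 45, 80, 90, 144] (fun g => by
      rcases order_cases g (six_orders g) with e | e | e | e | e
      · simp [e, cnt_one]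
      · simp [e, six_v2]
      · simp [e, six_v3]
      · simp [e, six_v4]
      · simp [e, six_v5])
    (fun v hv => by
      simp only [List.mem_cons, List.not_mem_nil, or_false] at hv
      rcases hv with rfl | rfl | rfl | rfl | rfl
      · exact exists_of_cnt cnt_one (by norm_num)
      · exact exists_of_cnt six_v2 (by norm_num)
      · exact exists_of_cnt six_v3 (by norm_num)
      · exact exists_of_cnt six_v4 (by norm_num)
      · exact exists_of_cnt six_v5 (by norm_num)) h
  have hd := determined [1, 45, 80, 90, 144] sixTests [(0, 360), (2, 46), (5, 145), (10, 190)]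
    sixTable 45 hV (by norm_num) (by decide) (by norm_num)
    (cover [1, 45, 80, 90, 144] sixTable [(2, 5), (3, 3), (5, 2), (7, 1)] 32 27 25 7 (by decide)
      (by decide) (by decide) (by decide) (by decide) (by decide +kernel) (by decide +kernel)
      (by decide +kernel))
    (by decide +kernel) (by decide +kernel) (by decide +kernel) six_search
  have D : Data G 360 46 145 36 :=
    ⟨(Nat.card_congr (Equiv.subtypeUnivEquiv fun g => pow_zero g)).symm.trans (hd (0, 360) (by simp)),
      hd (2, 46) (by simp), hd (5, 145) (by simp), hd (10, 190) (by simp), rfl⟩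
  haveI := simple_of_data (Or.inr ⟨rfl, rfl⟩) D
  exact Cfsg.Agent.S0497.result D.card

/-- Let n be 4, 5 or 6 and let G be a finite group whose set of sizes of same-order classes (the set of numbers #{g : o(g) = m} over the element orders m of G) equals that of the alternating group of degree n. Then G is isomorphic to that alternating group. -/
theorem result {G : Type*} [Group G] [Finite G] (n : ℕ) (hn : n = 4 ∨ n = 5 ∨ n = 6)
    (h : ((fun m : ℕ => Nat.card {g : G // orderOf g = m}) '' Set.range (orderOf : G → ℕ)) = ((fun m : ℕ => Nat.card {g : ↥(alternatingGroup (Fin n)) // orderOf g = m}) '' Set.range (orderOf : ↥(alternatingGroup (Fin n)) → ℕ))) :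
    Nonempty (G ≃* ↥(alternatingGroup (Fin n))) := by
  rcases hn with rfl | rfl | rfl
  · exact case_four h
  · exact case_five h
  · exact case_six h

end Cfsg.Agent.S3431
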