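import Cfsg.Statements.S3433
import Cfsg.Agent.Lib.InvChar.OrdersFive.Structure

set_option autoImplicit false
open Cfsg Cfsg.Agent.Lib.InvChar.OrdersFive

namespace Cfsg.Agent.S3433

/-- A finite group whose set of element orders is exactly {1, 2, 3, 4, 5} is isomorphic to the alternating group of degree 6, or has a normal elementary abelian 2-subgroup with quotient isomorphic to the alternating group of degree 5. -/
theorem result {G : Type*} [Group G] [Finite G] (h : Set.range (orderOf : G → ℕ) = {k : ℕ | 1 ≤ k ∧ k ≤ 5}) :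
    Nonempty (G ≃* ↥(alternatingGroup (Fin 6))) ∨
      ∃ (N : Subgroup G) (_ : N.Normal), Cfsg.IsElementaryAbelian 2 N ∧ Nonempty (G ⧸ N ≃* ↥(alternatingGroup (Fin 5))) := by
  have hset : {k : ℕ | 1 ≤ k ∧ k ≤ 5} = ({1, 2, 3, 4, 5} : Set ℕ) := by
    ext k
    simp only [Set.mem_setOf_eq, Set.mem_insert_iff, Set.mem_singleton_iff]
    omega
  rcases classify _ G rfl (Full.of_range_eq (h.trans hset)) with hT | hA
  · exact Or.inr hT
  · exact Or.inl hA

end Cfsg.Agent.S3433
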