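import Cfsg.Statements.S3437
import Cfsg.Agent.Lib.Characters.Burnside
import Mathlib

set_option autoImplicit false
set_option linter.style.haveILetI false
open Cfsg

namespace Cfsg.Agent.S3437


def rowsU : List ℕ := [370893620502133650990156577101181578910897003366124777934939121089380728434643182559296, 351937465436048452068144273692307244169938107219731301252430918721032062401539393470657, 75172284843248649993495345843863206865992432122377932591814412240093314271362918408514, 289630843175647499533121763984037815925047134096846889334948855151352761353238146482627, 110028515642986005336446409910545677544048777226801287226025938291814029069044817891716, 65653626961913879319483156715993573416516284437218633075330325671128587624856852656773, 105181409922282047147810682307431090052813833144125864402010688948594853999765195899590, 212164996191267757554639435146431505144070742446378374985021950097791468495175550030599, 164558092373501960395217979708440388031366026858982539947885953133859099951873751048776,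 160424192806942414923036265725539638720854845112854576580649360748587083572036111500233, 360559425038210910248260153715801317137757479410559122831629997357559069691743864693834, 143961510371341345725582677798549793812383248013724014721902673201626477422938438309067, 205005261489156752292989288772872565332843318409514851343513652075889199046789573723148, 227218767423259659728911689832842156187774204629823030946553631122325310029922865599373, 200009987633312798594293771525300950634943451422731906664294700334968362350919312045454, 136978358158543521276888787777865967103668377042608179888399742671283613928052310226447, 221529481868395300925655426314297942472110002019449988741230653203124277769877659162064, 298145405619580920664636902319284418417710782492445667243016683899778569493609104909585, 281742603449808168399739612671538688398065187005991782187575323712666670092399570170706, 337983638305207323570046031841698453454099610551555081202111505771239599564120932075091,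 274708119299677959114132896024684269910455302403120586416056870621979009236529233646932, 261942254120338759028408167064838725738853475962579409483287934326363272171347538474901, 147907931371807231642663458276172533833327785423435715889026765181901212563729459283990, 269016972864632080940489766533077759672065095835747435522402766417297093482039887402967, 77717440702737809835466363060816024320800466296794278812661784185646711398187077085272, 330087695195089018593670088603657241999405593620606323845696089165828211502712288851801, 1759273082691379513252037636656576014945509090504012519859491431056353734926762657498, 242027745222452543275065297610466456400215913397670115419492172338186797747670034540891, 10321294282290608400612304133824208703566970859002581555354304716168456392881625523868, 315381063841078670221438836741960611917730632222966565082353630705183275924131090008349, 187011672332400736393939200069981240696218794039180816374448953221516539962050434697694,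 324030377171188908506124132704444978808401244261535310511617046774133219594074096828447, 85610306626692127020544960210591061828173925077512166351360842186794684284686754814496, 43228189373408009027894447769979194000816032802835650772639632579158181270062672554209, 26836058095784133370216284990492511679705296744974864322434654080814082734099817740066, 18894669048204939804017218519253062712564539375388202450444107586350650520923375409571, 249675787861922906680470443980477627778057860946021689030136739792105825764120842107684, 179484661117905102427410884017435318251326724258266788040684420473260752031729833569125, 304692483408888314327969471371215015441651022529169559659930025245164815283454906387366, 116941596505568899128901495886197378513568303624660910342626680659134417155210228461735, 51245523441677261632755935782228017457614534058503282075503847963485296677690589076136, 58651265311466424362917959678007781514288344695726021684184009373207744125127036545193,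 34324147651804867133366560404017148480205402928791793817180441877863418642175808256746, 344407134421536744603976866441168744490031927799233986833619129533403966007516052513963, 171831579558676799942834169120002351358802740078481057871515619266917679033604095267116, 124960855399955414986989384244605307227943163238874016993145754949045976851044702157805, 234617496794167819155560268894017395590011618173766219694762783183521325429362784621102, 98361056306012057498627501009842525724994395120173490650785286712224028901313287338607]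

def invU : List ℕ := [0, 31, 29, 23, 25, 21, 20, 16, 19, 17, 14, 13, 12, 11, 10, 18, 7, 9, 15, 8, 6, 5, 43, 3, 46, 4, 47, 41, 45, 2, 42, 1, 38, 44, 37, 39, 40, 34, 32, 35, 36, 27, 30, 22, 33, 28, 24, 26]

def matU : List (List ℕ) := [[1, 0, 0, 0, 0, 1, 0, 0, 0, 0, 1, 0, 0, 0, 0, 1], [0, 6, 0, 0, 3, 0, 0, 0, 0, 0, 0, 9, 0, 0, 11, 0], [3, 0, 3, 0, 0, 3, 0, 3, 2, 0, 11, 0, 0, 2, 0, 11], [5, 0, 0, 0, 0, 5, 0, 0, 0, 0, 8, 0, 0, 0, 0, 8], [0, 5, 0, 5, 9, 0, 9, 0, 0, 5, 0, 8, 9, 0, 4, 0], [0, 5, 0, 1, 9, 0, 7, 0, 0, 12, 0, 8, 6, 0, 4, 0], [2, 0, 3, 0, 0, 2, 0, 3, 2, 0, 10, 0, 0, 2, 0, 10], [0, 4, 0, 0, 2, 0, 0, 0, 0, 0, 0, 7, 0, 0, 10, 0], [2, 0, 2, 0, 0, 2, 0, 2, 3, 0, 10, 0, 0, 3, 0, 10], [0, 12, 0, 5, 6, 0, 9, 0, 0, 5, 0, 12, 9, 0, 6, 0], [2, 0, 11, 0, 0, 2, 0, 11, 10, 0, 10, 0, 0, 10, 0, 10], [0, 12, 0, 1, 6, 0, 7, 0, 0, 12, 0, 12, 6, 0, 6, 0], [12, 0, 0, 0, 0, 12, 0, 0, 0, 0, 12, 0, 0, 0, 0, 12], [0, 12, 0, 12, 6, 0, 6, 0, 0, 1, 0, 12, 7, 0, 6, 0], [10, 0,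 2, 0, 0, 10, 0, 2, 3, 0, 2, 0, 0, 3, 0, 2], [10, 0, 3, 0, 0, 10, 0, 3, 2, 0, 2, 0, 0, 2, 0, 2], [0, 7, 0, 0, 10, 0, 0, 0, 0, 0, 0, 4, 0, 0, 2, 0], [0, 12, 0, 8, 6, 0, 4, 0, 0, 8, 0, 12, 4, 0, 6, 0], [2, 0, 10, 0, 0, 2, 0, 10, 11, 0, 10, 0, 0, 11, 0, 10], [10, 0, 11, 0, 0, 10, 0, 11, 10, 0, 2, 0, 0, 10, 0, 2], [10, 0, 10, 0, 0, 10, 0, 10, 11, 0, 2, 0, 0, 11, 0, 2], [0, 8, 0, 12, 4, 0, 6, 0, 0, 1, 0, 5, 7, 0, 9, 0], [0, 8, 0, 5, 4, 0, 9, 0, 0, 5, 0, 5, 9, 0, 9, 0], [8, 0, 0, 0, 0, 8, 0, 0, 0, 0, 5, 0, 0, 0, 0, 5], [0, 8, 0, 1, 4, 0, 7, 0, 0, 12, 0, 5, 6, 0, 9, 0], [0, 8, 0, 8, 4, 0, 4, 0, 0, 8, 0, 5, 4, 0, 9, 0], [0, 0, 0, 7, 0, 0, 10, 0, 0, 9, 0, 0, 11, 0, 0, 0], [0, 0, 12, 0, 0, 0, 0, 12, 1, 0, 0, 0, 0, 1, 0, 0], [0, 0, 8, 0, 0, 0, 0, 8, 8, 0, 0, 0, 0, 8, 0, 0], [11, 0, 10, 0, 0, 11, 0, 10, 11, 0, 3, 0, 0, 11, 0, 3], [11, 0, 2, 0, 0, 11, 0, 2, 3, 0, 3, 0, 0, 3, 0, 3], [0, 9, 0, 0, 11, 0, 0, 0, 0, 0, 0, 6, 0, 0, 3, 0], [11, 0, 3, 0, 0, 11, 0, 3, 2, 0, 3, 0,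 0, 2, 0, 3], [11, 0, 11, 0, 0, 11, 0, 11, 10, 0, 3, 0, 0, 10, 0, 3], [0, 0, 0, 9, 0, 0, 11, 0, 0, 7, 0, 0, 10, 0, 0, 0], [0, 1, 0, 8, 7, 0, 4, 0, 0, 8, 0, 1, 4, 0, 7, 0], [0, 1, 0, 12, 7, 0, 6, 0, 0, 1, 0, 1, 7, 0, 7, 0], [0, 0, 0, 4, 0, 0, 2, 0, 0, 6, 0, 0, 3, 0, 0, 0], [3, 0, 10, 0, 0, 3, 0, 10, 11, 0, 11, 0, 0, 11, 0, 11], [0, 1, 0, 5, 7, 0, 9, 0, 0, 5, 0, 1, 9, 0, 7, 0], [0, 1, 0, 1, 7, 0, 7, 0, 0, 12, 0, 1, 6, 0, 7, 0], [0, 0, 1, 0, 0, 0, 0, 1, 12, 0, 0, 0, 0, 12, 0, 0], [3, 0, 11, 0, 0, 3, 0, 11, 10, 0, 11, 0, 0, 10, 0, 11], [0, 5, 0, 8, 9, 0, 4, 0, 0, 8, 0, 8, 4, 0, 4, 0], [3, 0, 2, 0, 0, 3, 0, 2, 3, 0, 11, 0, 0, 3, 0, 11], [0, 0, 5, 0, 0, 0, 0, 5, 5, 0, 0, 0, 0, 5, 0, 0], [0, 5, 0, 12, 9, 0, 6, 0, 0, 1, 0, 8, 7, 0, 4, 0], [0, 0, 0, 6, 0, 0, 3, 0, 0, 4, 0, 0, 2, 0, 0, 0]]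

def fpfU : List (List ℕ) := [[0, 0, 0, 0, 0, 0, 0, 0, 0, 0, 0, 0, 0, 0, 0, 0], [10, 8, 0, 0, 4, 10, 0, 0, 0, 0, 2, 5, 0, 0, 9, 2], [10, 0, 10, 0, 0, 10, 0, 10, 11, 0, 2, 0, 0, 11, 0, 2], [10, 0, 0, 0, 0, 10, 0, 0, 0, 0, 2, 0, 0, 0, 0, 2], [6, 4, 0, 4, 2, 6, 2, 0, 0, 4, 6, 9, 2, 0, 11, 6], [6, 4, 0, 6, 2, 6, 3, 0, 0, 7, 6, 9, 10, 0, 11, 6], [3, 0, 12, 0, 0, 3, 0, 12, 8, 0, 9, 0, 0, 8, 0, 9], [2, 8, 0, 0, 4, 2, 0, 0, 0, 0, 10, 5, 0, 0, 9, 10], [3, 0, 8, 0, 0, 3, 0, 8, 12, 0, 9, 0, 0, 12, 0, 9], [6, 0, 9, 8, 0, 6, 4, 9, 9, 8, 6, 0, 4, 9, 0, 6], [3, 0, 5, 0, 0, 3, 0, 5, 1, 0, 9, 0, 0, 1, 0, 9], [6, 0, 7, 12, 0, 6, 6, 7, 6, 1, 6, 0, 7, 6, 0, 6], [6, 0, 0, 0, 0, 6, 0, 0, 0, 0, 6, 0, 0, 0, 0, 6], [6, 0, 6, 1, 0, 6, 7, 6, 7, 12, 6, 0, 6, 7, 0, 6], [9, 0, 8, 0, 0, 9, 0, 8, 12, 0, 3, 0, 0, 12, 0, 3], [9, 0, 12, 0, 0, 9, 0, 12, 8, 0, 3, 0, 0, 8, 0, 3], [10, 5, 0, 0, 9, 10, 0, 0, 0, 0, 2, 8, 0, 0, 4, 2], [6, 0, 4, 5, 0, 6, 9, 4, 4, 5, 6, 0, 9, 4, 0, 6], [3, 0, 1, 0,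 0, 3, 0, 1, 5, 0, 9, 0, 0, 5, 0, 9], [9, 0, 5, 0, 0, 9, 0, 5, 1, 0, 3, 0, 0, 1, 0, 3], [9, 0, 1, 0, 0, 9, 0, 1, 5, 0, 3, 0, 0, 5, 0, 3], [6, 9, 0, 7, 11, 6, 10, 0, 0, 6, 6, 4, 3, 0, 2, 6], [6, 9, 0, 4, 11, 6, 2, 0, 0, 4, 6, 4, 2, 0, 2, 6], [2, 0, 0, 0, 0, 2, 0, 0, 0, 0, 10, 0, 0, 0, 0, 10], [6, 9, 0, 6, 11, 6, 3, 0, 0, 7, 6, 4, 10, 0, 2, 6], [6, 9, 0, 9, 11, 6, 11, 0, 0, 9, 6, 4, 11, 0, 2, 6], [6, 0, 0, 3, 0, 6, 8, 0, 0, 2, 6, 0, 1, 0, 0, 6], [6, 0, 7, 0, 0, 6, 0, 7, 6, 0, 6, 0, 0, 6, 0, 6], [6, 0, 9, 0, 0, 6, 0, 9, 9, 0, 6, 0, 0, 9, 0, 6], [2, 0, 3, 0, 0, 2, 0, 3, 2, 0, 10, 0, 0, 2, 0, 10], [2, 0, 11, 0, 0, 2, 0, 11, 10, 0, 10, 0, 0, 10, 0, 10], [2, 5, 0, 0, 9, 2, 0, 0, 0, 0, 10, 8, 0, 0, 4, 10], [2, 0, 10, 0, 0, 2, 0, 10, 11, 0, 10, 0, 0, 11, 0, 10], [2, 0, 2, 0, 0, 2, 0, 2, 3, 0, 10, 0, 0, 3, 0, 10], [6, 0, 0, 2, 0, 6, 1, 0, 0, 3, 6, 0, 8, 0, 0, 6], [6, 0, 9, 5, 0, 6, 9, 9, 9, 5, 6, 0, 9, 9, 0, 6], [6, 0, 7, 1, 0, 6, 7, 7, 6, 12, 6, 0, 6, 6, 0, 6], [6,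 0, 0, 11, 0, 6, 12, 0, 0, 10, 6, 0, 5, 0, 0, 6], [10, 0, 3, 0, 0, 10, 0, 3, 2, 0, 2, 0, 0, 2, 0, 2], [6, 0, 4, 8, 0, 6, 4, 4, 4, 8, 6, 0, 4, 4, 0, 6], [6, 0, 6, 12, 0, 6, 6, 6, 7, 1, 6, 0, 7, 7, 0, 6], [6, 0, 6, 0, 0, 6, 0, 6, 7, 0, 6, 0, 0, 7, 0, 6], [10, 0, 2, 0, 0, 10, 0, 2, 3, 0, 2, 0, 0, 3, 0, 2], [6, 4, 0, 9, 2, 6, 11, 0, 0, 9, 6, 9, 11, 0, 11, 6], [10, 0, 11, 0, 0, 10, 0, 11, 10, 0, 2, 0, 0, 10, 0, 2], [6, 0, 4, 0, 0, 6, 0, 4, 4, 0, 6, 0, 0, 4, 0, 6], [6, 4, 0, 7, 2, 6, 10, 0, 0, 6, 6, 9, 3, 0, 11, 6], [6, 0, 0, 10, 0, 6, 5, 0, 0, 11, 6, 0, 12, 0, 0, 6]]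

/-- The binary octahedral group, by its table. -/
def U48 : Type := Fin 48

instance : Fintype U48 := inferInstanceAs (Fintype (Fin 48))
instance : DecidableEq U48 := inferInstanceAs (DecidableEq (Fin 48))

/-- The index of an element. -/
def U48.val (a : U48) : Fin 48 := a

instance : Mul U48 := ⟨fun a b => (⟨((rowsU.getD a.val.val 0) >>> (6 * b.val.val)) % 64 % 48, Nat.mod_lt _ (by norm_num)⟩ : Fin 48)⟩
instance : One U48 := ⟨(0 : Fin 48)⟩
instance : Inv U48 := ⟨fun a => (⟨invU.getD a.val.val 0 % 48, Nat.mod_lt _ (by norm_num)⟩ : Fin 48)⟩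

theorem u48_assoc : ∀ a b c : U48, a * b * c = a * (b * c) := by decide +kernel
theorem u48_one_mul : ∀ a : U48, 1 * a = a := by decide +kernel
theorem u48_mul_one : ∀ a : U48, a * 1 = a := by decide +kernel
theorem u48_inv : ∀ a : U48, a⁻¹ * a = 1 := by decide +kernel

instance : Group U48 where
  mul_assoc := u48_assoc
  one_mul := u48_one_mul
  mul_one := u48_mul_one
  inv_mul_cancel := u48_inv

/-- An element of order 6. -/
def u6 : U48 := (⟨2, by norm_num⟩ : Fin 48)
/-- An element of order 8. -/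
def u8 : U48 := (⟨1, by norm_num⟩ : Fin 48)

/-- Matrix entries. -/
def entU (a : U48) (i j : Fin 4) : ℕ := (matU.getD a.val.val []).getD (4 * i.val + j.val) 0
/-- Entries of the inverse of `M - 1`. -/
def entW (a : U48) (i j : Fin 4) : ℕ := (fpfU.getD a.val.val []).getD (4 * i.val + j.val) 0

theorem entU_mul : ∀ a b : U48, ∀ i j : Fin 4,
    (entU a i 0 * entU b 0 j + entU a i 1 * entU b 1 j + entU a i 2 * entU b 2 j + entU a i 3 * entU b 3 j) % 13 =
      entU (a * b) i j % 13 := by decide +kernel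

theorem entU_one : ∀ i j : Fin 4, entU 1 i j = if i = j then 1 else 0 := by decide +kernel

theorem entW_spec : ∀ a : U48, a ≠ 1 → ∀ i j : Fin 4,
    (entW a i 0 * entU a 0 j + entW a i 1 * entU a 1 j + entW a i 2 * entU a 2 j + entW a i 3 * entU a 3 j) % 13 =
      (entW a i j + if i = j then 1 else 0) % 13 := by decide +kernel

/-- The matrices. -/
def matHom : U48 →* Matrix (Fin 4) (Fin 4) (ZMod 13) where
  toFun a := Matrix.of fun i j => (entU a i j : ZMod 13)
  map_one' := by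
    ext i j
    rw [Matrix.of_apply, entU_one, Matrix.one_apply]
    split_ifs <;> simp
  map_mul' a b := by
    ext i j
    rw [Matrix.of_apply, Matrix.mul_apply, Fin.sum_univ_four, Matrix.of_apply]
    simp only [Matrix.of_apply]
    rw [← Nat.cast_mul, ← Nat.cast_mul, ← Nat.cast_mul, ← Nat.cast_mul, ← Nat.cast_add, ← Nat.cast_add,
      ← Nat.cast_add, ZMod.natCast_eq_natCast_iff']
    exact (entU_mul a b i j).symm

theorem fpf (a : U48) (ha : a ≠ 1) (v : Fin 4 → ZMod 13) (hv : (matHom a).mulVec v = v) : v = 0 := by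
  set W : Matrix (Fin 4) (Fin 4) (ZMod 13) := Matrix.of fun i j => (entW a i j : ZMod 13) with hW
  have h : W * matHom a = W + 1 := by
    ext i j
    rw [Matrix.mul_apply, Fin.sum_univ_four, Matrix.add_apply, Matrix.one_apply]
    simp only [hW, matHom, MonoidHom.coe_mk, OneHom.coe_mk, Matrix.of_apply]
    rw [show (if i = j then (1 : ZMod 13) else 0) = ((if i = j then 1 else 0 : ℕ) : ZMod 13) by split_ifs <;> simp,
      ← Nat.cast_mul, ← Nat.cast_mul, ← Nat.cast_mul, ← Nat.cast_mul, ← Nat.cast_add, ← Nat.cast_add,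
      ← Nat.cast_add, ← Nat.cast_add, ZMod.natCast_eq_natCast_iff']
    exact entW_spec a ha i j
  have h2 : W.mulVec v = W.mulVec v + v := by
    conv_lhs => rw [← hv]
    rw [Matrix.mulVec_mulVec, h, Matrix.add_mulVec, Matrix.one_mulVec]
  simpa using h2

/-- The action. -/
def actHom : U48 →* MulAut (Multiplicative (Fin 4 → ZMod 13)) where
  toFun a :=
    { toFun := fun v => Multiplicative.ofAdd ((matHom a).mulVec v.toAdd)
      invFun := fun v => Multiplicative.ofAdd ((matHom a⁻¹).mulVec v.toAdd)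
      left_inv := fun v => by simp [Matrix.mulVec_mulVec, ← map_mul]
      right_inv := fun v => by simp [Matrix.mulVec_mulVec, ← map_mul]
      map_mul' := fun v w => by simp [Matrix.mulVec_add] }
  map_one' := by ext v; simp
  map_mul' a b := by ext v; simp [Matrix.mulVec_mulVec]

/-- The solvable group. -/
abbrev H13 : Type := Multiplicative (Fin 4 → ZMod 13) ⋊[actHom] U48

noncomputable instance : Fintype H13 := Fintype.ofEquiv _ SemidirectProduct.equivProd.symm

theorem h13_pow (g : H13) : ∀ k : ℕ, (g ^ k).right = g.right ^ k ∧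
    (g ^ k).left.toAdd = (∑ i ∈ Finset.range k, matHom g.right ^ i).mulVec g.left.toAdd := by
  intro k
  induction k with
  | zero => simp
  | succ k ih =>
    refine ⟨by rw [pow_succ, SemidirectProduct.mul_right, ih.1, pow_succ], ?_⟩
    rw [pow_succ', SemidirectProduct.mul_left, toAdd_mul, geom_sum_succ, Matrix.add_mulVec,
      Matrix.one_mulVec, ← Matrix.mulVec_mulVec, ← ih.2, add_comm]
    rfl

theorem u48_pow : ∀ a : U48, a ^ 6 = 1 ∨ a ^ 8 = 1 := by decide +kernel

theorem h13_spectrum (n : ℕ) : n ∈ Set.range (orderOf : H13 → ℕ) ↔ n ∣ 6 ∨ n ∣ 8 ∨ n ∣ 13 := by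
  constructor
  · rintro ⟨g, rfl⟩
    by_cases h1 : g.right = 1
    · refine Or.inr (Or.inr (orderOf_dvd_of_pow_eq_one (SemidirectProduct.ext ?_ ?_)))
      · apply Multiplicative.toAdd.injective
        rw [(h13_pow g 13).2, h1, map_one]
        simp only [one_pow, Finset.sum_const, Finset.card_range, SemidirectProduct.one_left, toAdd_one]
        rw [Matrix.smul_mulVec, Matrix.one_mulVec]
        funext i
        rw [Pi.smul_apply, nsmul_eq_mul, Pi.zero_apply, show ((13 : ℕ) : ZMod 13) = 0 from ZMod.natCast_self 13, zero_mul]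
      · rw [(h13_pow g 13).1, h1, one_pow, SemidirectProduct.one_right]
    · have hd : orderOf g ∣ orderOf g.right := by
        refine orderOf_dvd_of_pow_eq_one (SemidirectProduct.ext ?_ ?_)
        · apply Multiplicative.toAdd.injective
          rw [(h13_pow g _).2, SemidirectProduct.one_left, toAdd_one]
          refine fpf g.right h1 _ ?_
          rw [Matrix.mulVec_mulVec]
          congr 1
          have := mul_geom_sum (matHom g.right) (orderOf g.right)
          rw [← map_pow, pow_orderOf_eq_one, map_one, sub_self, sub_mul, one_mul, sub_eq_zero] at this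
          exact this
        · rw [(h13_pow g _).1, pow_orderOf_eq_one, SemidirectProduct.one_right]
      rcases u48_pow g.right with h | h
      · exact Or.inl (hd.trans (orderOf_dvd_of_pow_eq_one h))
      · exact Or.inr (Or.inl (hd.trans (orderOf_dvd_of_pow_eq_one h)))
  · intro h
    have key : ∀ x : H13, n ∣ orderOf x → n ∈ Set.range (orderOf : H13 → ℕ) := fun x hx =>
      ⟨x ^ (orderOf x / n), orderOf_pow_orderOf_div (orderOf_pos x).ne' hx⟩
    rcases h with h | h | h
    · refine key (SemidirectProduct.inr u6) ?_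
      rwa [orderOf_injective _ SemidirectProduct.inr_injective, (orderOf_eq_iff (n := 6) (by norm_num)).2
        ⟨by decide +kernel, by
          intro m hm hm0
          interval_cases m <;> decide +kernel⟩]
    · refine key (SemidirectProduct.inr u8) ?_
      rwa [orderOf_injective _ SemidirectProduct.inr_injective, (orderOf_eq_iff (n := 8) (by norm_num)).2
        ⟨by decide +kernel, by
          intro m hm hm0
          interval_cases m <;> decide +kernel⟩]
    · refine key (SemidirectProduct.inl (Multiplicative.ofAdd fun _ => 1)) ?_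
      haveI : Fact (Nat.Prime 13) := ⟨by norm_num⟩
      rwa [orderOf_injective _ SemidirectProduct.inl_injective, orderOf_eq_prime (p := 13) ?_ ?_]
      · rw [← ofAdd_nsmul]
        rfl
      · decide +kernel

/-- Witness of order 6. -/
def w6 : Matrix.SpecialLinearGroup (Fin 3) (ZMod 3) := ⟨!![0, 0, 1; 0, 1, 0; 2, 0, 1], by decide +kernel⟩
/-- Witness of order 8. -/
def w8 : Matrix.SpecialLinearGroup (Fin 3) (ZMod 3) := ⟨!![0, 0, 1; 0, 1, 1; 2, 1, 0], by decide +kernel⟩
/-- Witness of order 13. -/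
def w13 : Matrix.SpecialLinearGroup (Fin 3) (ZMod 3) := ⟨!![0, 0, 1; 0, 1, 1; 2, 1, 1], by decide +kernel⟩

/-- Coefficients of `M ^ k` on `M ^ 2`, `M`, `1` by Cayley-Hamilton. -/
def coef (t u : ZMod 3) : ℕ → ZMod 3 × ZMod 3 × ZMod 3
  | 0 => (0, 0, 1)
  | k + 1 => ((coef t u k).1 * t + (coef t u k).2.1, (coef t u k).2.2 - (coef t u k).1 * u, (coef t u k).1)

theorem coef_spec : ∀ t u : ZMod 3, coef t u 6 = (0, 0, 1) ∨ coef t u 8 = (0, 0, 1) ∨ coef t u 13 = (0, 0, 1) := by
  decide +kernel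

theorem sl3_pow (A : Matrix.SpecialLinearGroup (Fin 3) (ZMod 3)) : A ^ 6 = 1 ∨ A ^ 8 = 1 ∨ A ^ 13 = 1 := by
  set M := (A : Matrix (Fin 3) (Fin 3) (ZMod 3)) with hM
  set t := M 0 0 + M 1 1 + M 2 2 with ht
  set u := M 0 0 * M 1 1 - M 0 1 * M 1 0 + M 0 0 * M 2 2 - M 0 2 * M 2 0 + M 1 1 * M 2 2 - M 1 2 * M 2 1 with hu
  have hdet := A.2
  rw [← hM, Matrix.det_fin_three] at hdet
  have hch : M * M * M = t • (M * M) - u • M + 1 := by
    ext i j
    fin_cases i <;> fin_cases j <;>
      simp [Matrix.mul_apply, Fin.sum_univ_three, ht, hu] <;>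
      first | linear_combination hdet | ring
  have hpow : ∀ k, M ^ k = (coef t u k).1 • (M * M) + (coef t u k).2.1 • M + (coef t u k).2.2 • (1 : Matrix (Fin 3) (Fin 3) (ZMod 3)) := by
    intro k
    induction k with
    | zero => simp [coef]
    | succ k ih =>
      rw [pow_succ, ih, add_mul, add_mul, Matrix.smul_mul, Matrix.smul_mul, Matrix.smul_mul, Matrix.one_mul, hch]
      simp only [coef]
      module
  have fin : ∀ k, coef t u k = (0, 0, 1) → A ^ k = 1 := by
    intro k hk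
    apply Subtype.ext
    rw [Matrix.SpecialLinearGroup.coe_pow, Matrix.SpecialLinearGroup.coe_one, ← hM, hpow, hk]
    simp
  rcases coef_spec t u with h | h | h
  · exact Or.inl (fin 6 h)
  · exact Or.inr (Or.inl (fin 8 h))
  · exact Or.inr (Or.inr (fin 13 h))

theorem sl3_spectrum (n : ℕ) : n ∈ Set.range (orderOf : Matrix.SpecialLinearGroup (Fin 3) (ZMod 3) → ℕ) ↔
    n ∣ 6 ∨ n ∣ 8 ∨ n ∣ 13 := by
  constructor
  · rintro ⟨A, rfl⟩
    exact (sl3_pow A).imp orderOf_dvd_of_pow_eq_one (Or.imp orderOf_dvd_of_pow_eq_one orderOf_dvd_of_pow_eq_one)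
  · intro h
    have key : ∀ x : Matrix.SpecialLinearGroup (Fin 3) (ZMod 3), n ∣ orderOf x →
        n ∈ Set.range (orderOf : Matrix.SpecialLinearGroup (Fin 3) (ZMod 3) → ℕ) := fun x hx =>
      ⟨x ^ (orderOf x / n), orderOf_pow_orderOf_div (orderOf_pos x).ne' hx⟩
    rcases h with h | h | h
    · refine key w6 ?_
      rwa [(orderOf_eq_iff (n := 6) (by norm_num)).2 ⟨by decide +kernel, by
        intro m hm hm0
        interval_cases m <;> decide +kernel⟩]
    · refine key w8 ?_
      rwa [(orderOf_eq_iff (n := 8) (by norm_num)).2 ⟨by decide +kernel, by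
        intro m hm hm0
        interval_cases m <;> decide +kernel⟩]
    · refine key w13 ?_
      haveI : Fact (Nat.Prime 13) := ⟨by norm_num⟩
      rwa [orderOf_eq_prime (p := 13) (by decide +kernel) (by decide +kernel)]

/-- There is a finite solvable group with exactly the same set of element orders as the simple group PSL(3,3). -/
theorem result {F : Type*} [Field F] [Fintype F] (hF : Fintype.card F = 3) :
    ∃ (H : Type) (_ : Group H) (_ : Fintype H), Group.IsSolvable H ∧
      Set.range (orderOf : H → ℕ) = Set.range (orderOf : Matrix.ProjectiveSpecialLinearGroup (Fin 3) F → ℕ) := by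
  classical
  haveI : Group.IsSolvable U48 := Cfsg.Agent.Lib.Characters.isSolvable_of_card_eq_pow_mul_pow (p := 2) (q := 3)
    (a := 4) (b := 1) (by norm_num) (by norm_num)
    (by rw [Nat.card_eq_fintype_card]; rfl)
  haveI : Group.IsSolvable H13 :=
    Group.isSolvable_of_ker_le_range (SemidirectProduct.inl : Multiplicative (Fin 4 → ZMod 13) →* H13)
      SemidirectProduct.rightHom (SemidirectProduct.range_inl_eq_ker_rightHom).ge
  refine ⟨H13, inferInstance, inferInstance, inferInstance, ?_⟩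
  haveI : CharP F 3 := by
    haveI : Fact (Nat.Prime 3) := ⟨by norm_num⟩
    exact charP_of_card_eq_prime_pow (f := 1) (by simpa using hF)
  let e : ZMod 3 ≃+* F := ZMod.ringEquiv F hF
  have hcen : Subgroup.center (Matrix.SpecialLinearGroup (Fin 3) F) = ⊥ := by
    rw [Subgroup.eq_bot_iff_forall]
    intro Z hZ
    obtain ⟨r, hr, hZr⟩ := Matrix.SpecialLinearGroup.mem_center_iff.1 hZ
    rw [Fintype.card_fin] at hr
    have : ∀ x : ZMod 3, x ^ 3 = 1 → x = 1 := by decide
    have hr1 : r = 1 := by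
      have h := this (e.symm r) (by rw [← map_pow, hr, map_one])
      simpa using congrArg e h
    apply Subtype.ext
    rw [← hZr, hr1, map_one, Matrix.SpecialLinearGroup.coe_one]
  let m := Matrix.SpecialLinearGroup.map (n := Fin 3) e.toRingHom
  have hm : Function.Injective m := fun A B h => Subtype.ext (Matrix.map_injective e.injective (congrArg Subtype.val h :))
  have hms : Function.Surjective m := fun B => ⟨Matrix.SpecialLinearGroup.map (n := Fin 3) e.symm.toRingHom B,
    Subtype.ext (Matrix.ext fun i j => e.apply_symm_apply (B i j))⟩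
  let π := QuotientGroup.mk' (Subgroup.center (Matrix.SpecialLinearGroup (Fin 3) F))
  have hπ : Function.Injective π := by
    rw [← MonoidHom.ker_eq_bot_iff, QuotientGroup.ker_mk', hcen]
  ext n
  rw [h13_spectrum, ← sl3_spectrum]
  constructor
  · rintro ⟨A, rfl⟩
    exact ⟨π (m A), by rw [orderOf_injective π hπ, orderOf_injective m hm]⟩
  · rintro ⟨g, rfl⟩
    obtain ⟨B, rfl⟩ := QuotientGroup.mk'_surjective _ g
    obtain ⟨A, rfl⟩ := hms B
    exact ⟨A, by rw [orderOf_injective π hπ, orderOf_injective m hm]⟩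

end Cfsg.Agent.S3437
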