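import Cfsg.Statements.S3438
import Cfsg.Agent.Lib.SuThreeSpec.Bridge
import Cfsg.Agent.Lib.SuThreeSpec.Twin
-- import your own Cfsg.Agent.* helpers here

set_option autoImplicit false
open Cfsg

namespace Cfsg.Agent.S3438

open Cfsg.Agent.Lib.SuThreeSpec

/-- The orders are the divisors of 7, 8 and 12. -/
theorem range_order {G : Type*} [Group G] (h : ∀ g : G, g ^ 7 = 1 ∨ g ^ 8 = 1 ∨ g ^ 12 = 1)
    (h7 : ∃ g : G, orderOf g = 7) (h8 : ∃ g : G, orderOf g = 8) (h12 : ∃ g : G, orderOf g = 12) :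
    Set.range (orderOf : G → ℕ) = {d | d ∣ 7 ∨ d ∣ 8 ∨ d ∣ 12} := by
  ext d
  constructor
  · rintro ⟨g, rfl⟩
    exact (h g).imp orderOf_dvd_of_pow_eq_one (Or.imp orderOf_dvd_of_pow_eq_one orderOf_dvd_of_pow_eq_one)
  · have key : ∀ n, 0 < n → (∃ g : G, orderOf g = n) → d ∣ n → d ∈ Set.range (orderOf : G → ℕ) := by
      rintro n hn ⟨g, hg⟩ hd
      subst hg
      exact ⟨_, orderOf_pow_orderOf_div hn.ne' hd⟩
    rintro (hd | hd | hd)
    exacts [key 7 (by norm_num) h7 hd, key 8 (by norm_num) h8 hd, key 12 (by norm_num) h12 hd]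

/-- There is a finite solvable group with exactly the same set of element orders as the simple group PSU(3,3) (realised over the field with 9 elements). -/
theorem result {F : Type*} [Field F] [Fintype F] (hF : Fintype.card F = 9) :
    ∃ (H : Type) (_ : Group H) (_ : Fintype H), Group.IsSolvable H ∧ Set.range (orderOf : H → ℕ) = Set.range (orderOf : Cfsg.PSU 3 F 3 → ℕ) := by
  haveI : Fact (Nat.Prime 3) := ⟨Nat.prime_three⟩
  haveI : CharP F 3 := charP_of_card_eq_prime_pow (f := 2) (by rw [hF]; rfl)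
  haveI : Finite Twin := Finite.of_equiv _ SemidirectProduct.equivProd.symm
  obtain ⟨s1, s7, s8, s12⟩ := psu_spec (F := F) hF
  obtain ⟨t7, t8, t12⟩ := twin_witness
  refine ⟨Twin, inferInstance, Fintype.ofFinite _, isSolvable_twin, ?_⟩
  rw [range_order twin_order_spec t7 t8 t12, range_order s1 s7 s8 s12]

end Cfsg.Agent.S3438
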