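import Cfsg.Statements.S3439
import Cfsg.Agent.Lib.FusionControl.SpFourThree

set_option autoImplicit false
open Cfsg

namespace Cfsg.Agent.S3439

/-- A class three group of exponent nine on seven copies of `K`. -/
structure Nil (K : Type) where
  v : K
  w : K
  a : K
  b : K
  A : K
  B : K
  c : K

set_option linter.unusedSectionVars false

namespace Nil

variable {K : Type} [Field K]

@[ext]
theorem ext' {x y : Nil K} (h1 : x.v = y.v) (h2 : x.w = y.w) (h3 : x.a = y.a) (h4 : x.b = y.b)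
    (h5 : x.A = y.A) (h6 : x.B = y.B) (h7 : x.c = y.c) : x = y := by
  cases x; cases y; simp only at h1 h2 h3 h4 h5 h6 h7; subst_vars; rfl

variable [CharP K 3]

theorem add_pow9 (x y : K) : (x + y) ^ 9 = x ^ 9 + y ^ 9 := add_pow_char_pow (p := 3) (n := 2) x y

theorem add_pow3 (x y : K) : (x + y) ^ 3 = x ^ 3 + y ^ 3 := add_pow_char (p := 3) x y

instance : Mul (Nil K) where
  mul x y := ⟨x.v + y.v, x.w + y.w, x.a + y.a + x.v * y.v ^ 3, x.b + y.b + x.v ^ 3 * y.w ^ 9,
    x.A + y.A + x.v ^ 9 * y.v ^ 3, x.B + y.B + x.v ^ 3 * y.w,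
    x.c + y.c + x.v * y.b + x.a * y.w ^ 9 - (x.v ^ 9 * y.B + x.A * y.w)⟩

instance : One (Nil K) where one := ⟨0, 0, 0, 0, 0, 0, 0⟩

instance : Inv (Nil K) where
  inv x := ⟨-x.v, -x.w, -x.a + x.v * x.v ^ 3, -x.b + x.v ^ 3 * x.w ^ 9, -x.A + x.v ^ 9 * x.v ^ 3,
    -x.B + x.v ^ 3 * x.w,
    -x.c - x.v * (-x.b + x.v ^ 3 * x.w ^ 9) + x.a * x.w ^ 9 + x.v ^ 9 * (-x.B + x.v ^ 3 * x.w) - x.A * x.w⟩

theorem mul_def (x y : Nil K) : x * y = ⟨x.v + y.v, x.w + y.w, x.a + y.a + x.v * y.v ^ 3,
    x.b + y.b + x.v ^ 3 * y.w ^ 9, x.A + y.A + x.v ^ 9 * y.v ^ 3, x.B + y.B + x.v ^ 3 * y.w,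
    x.c + y.c + x.v * y.b + x.a * y.w ^ 9 - (x.v ^ 9 * y.B + x.A * y.w)⟩ := rfl

theorem one_def : (1 : Nil K) = ⟨0, 0, 0, 0, 0, 0, 0⟩ := rfl

theorem inv_def (x : Nil K) : x⁻¹ = ⟨-x.v, -x.w, -x.a + x.v * x.v ^ 3, -x.b + x.v ^ 3 * x.w ^ 9,
    -x.A + x.v ^ 9 * x.v ^ 3, -x.B + x.v ^ 3 * x.w,
    -x.c - x.v * (-x.b + x.v ^ 3 * x.w ^ 9) + x.a * x.w ^ 9 + x.v ^ 9 * (-x.B + x.v ^ 3 * x.w) - x.A * x.w⟩ :=
  rfl

instance : Group (Nil K) where
  mul_assoc x y z := by
    ext <;> simp only [mul_def, add_pow3, add_pow9] <;> ring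
  one_mul x := by ext <;> simp [mul_def, one_def]
  mul_one x := by ext <;> simp [mul_def, one_def]
  inv_mul_cancel x := by
    ext <;> simp only [mul_def, one_def, inv_def, Odd.neg_pow (by decide : Odd 3), Odd.neg_pow (by decide : Odd 9)] <;> ring

/-- The cubing map. -/
theorem cube (x : Nil K) :
    x ^ 3 = ⟨0, 0, 0, 0, 0, 0, x.v ^ 4 * x.w ^ 9 - x.v ^ 12 * x.w⟩ := by
  have h3 : (3 : K) = 0 := by exact_mod_cast CharP.cast_eq_zero K 3
  have e : x ^ 3 = x * x * x := by rw [pow_three, mul_assoc]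
  rw [e]
  ext <;> simp only [mul_def, add_pow3, add_pow9]
  · linear_combination x.v * h3
  · linear_combination x.w * h3
  · linear_combination (x.a + x.v * x.v ^ 3) * h3
  · linear_combination (x.b + x.v ^ 3 * x.w ^ 9) * h3
  · linear_combination (x.A + x.v ^ 9 * x.v ^ 3) * h3
  · linear_combination (x.B + x.v ^ 3 * x.w) * h3
  · linear_combination (x.c + x.v * x.b + x.a * x.w ^ 9 - x.v ^ 9 * x.B - x.A * x.w) * h3

theorem central_pow (z : K) (n : ℕ) :
    (⟨0, 0, 0, 0, 0, 0, z⟩ : Nil K) ^ n = ⟨0, 0, 0, 0, 0, 0, n * z⟩ := by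
  induction n with
  | zero => simp [one_def]
  | succ n ih =>
    rw [pow_succ, ih]
    ext <;> simp [mul_def]
    ring

theorem pow_nine (x : Nil K) : x ^ 9 = 1 := by
  rw [show (9 : ℕ) = 3 * 3 from rfl, pow_mul, cube x, central_pow, CharP.cast_eq_zero, zero_mul,
    one_def]

/-- The action of a scalar together with a field automorphism. -/
def act (s : Kˣ) (σ : K ≃+* K) (x : Nil K) : Nil K :=
  ⟨(s : K) * σ x.v, (s : K) * σ x.w, (s : K) ^ 4 * σ x.a, (s : K) ^ 12 * σ x.b, (s : K) ^ 12 * σ x.A,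
    (s : K) ^ 4 * σ x.B, (s : K) ^ 13 * σ x.c⟩

theorem act_mul (s : Kˣ) (σ : K ≃+* K) (x y : Nil K) : act s σ (x * y) = act s σ x * act s σ y := by
  ext <;> simp only [act, mul_def, map_add, map_sub, map_mul, map_pow, mul_pow] <;> ring

theorem act_act (s t : Kˣ) (σ τ : K ≃+* K) (x : Nil K) :
    act s σ (act t τ x) = act (s * Units.map σ.toMonoidHom t) (τ.trans σ) x := by
  ext <;> simp [act, mul_pow, mul_assoc]

theorem act_one (x : Nil K) : act (1 : Kˣ) (RingEquiv.refl K) x = x := by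
  ext <;> simp [act]

end Nil

open Cfsg.Agent.Lib.FusionControl

abbrev K81 := GaloisField 3 4

abbrev Gal81 := K81 ≃ₐ[ZMod 3] K81

/-- Galois automorphisms acting on fifth roots of unity. -/
noncomputable def rootsAct : Gal81 →* MulAut (rootsOfUnity 5 K81) where
  toFun σ := σ.toRingEquiv.toMulEquiv.restrictRootsOfUnity 5
  map_one' := by ext; rfl
  map_mul' σ τ := by ext; rfl

abbrev Top := rootsOfUnity 5 K81 ⋊[rootsAct] Gal81

noncomputable def topAct : Top →* MulAut (Nil K81) :=
  MonoidHom.mk' (fun t =>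
    { toFun := Nil.act (t.left : K81ˣ) t.right.toRingEquiv
      invFun := Nil.act ((t⁻¹).left : K81ˣ) (t⁻¹).right.toRingEquiv
      left_inv := fun x => by
        rw [Nil.act_act]
        have h := inv_mul_cancel t
        refine Eq.trans ?_ (Nil.act_one x)
        congr 1
        · exact congrArg (fun u : Top => (u.left : K81ˣ)) h
        · exact congrArg (fun u : Top => u.right.toRingEquiv) h
      right_inv := fun x => by
        rw [Nil.act_act]
        have h := mul_inv_cancel t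
        refine Eq.trans ?_ (Nil.act_one x)
        congr 1
        · exact congrArg (fun u : Top => (u.left : K81ˣ)) h
        · exact congrArg (fun u : Top => u.right.toRingEquiv) h
      map_mul' := Nil.act_mul _ _ })
    (fun s t => by
      refine MulEquiv.ext fun x => ?_
      exact (Nil.act_act _ _ _ _ x).symm)

theorem topAct_apply (t : Top) (x : Nil K81) :
    topAct t x = Nil.act (t.left : K81ˣ) t.right.toRingEquiv x := rfl

abbrev Big := Nil K81 ⋊[topAct] Top

theorem gal_pow (σ : Gal81) : ∃ i < 4, ∀ x : K81, σ x = x ^ 3 ^ i := by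
  have : Fintype K81 := Fintype.ofFinite _
  obtain ⟨⟨i, hi⟩, rfl⟩ := (FiniteField.bijective_frobeniusAlgEquivOfAlgebraic_pow (ZMod 3) K81).2 σ
  rw [GaloisField.finrank 3 (by norm_num : (4 : ℕ) ≠ 0)] at hi
  refine ⟨i, hi, fun x => ?_⟩
  simp [AlgEquiv.coe_pow, FiniteField.coe_frobeniusAlgEquivOfAlgebraic, pow_iterate, ZMod.card]

theorem pow81 (x : K81) : x ^ 81 = x := by
  have : Fintype K81 := Fintype.ofFinite _
  have h := FiniteField.pow_card x
  rwa [← Nat.card_eq_fintype_card, GaloisField.card 3 4 (by norm_num)] at h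

theorem root5 (s : rootsOfUnity 5 K81) : ((s : K81ˣ) : K81) ^ 5 = 1 :=
  (mem_rootsOfUnity' 5 _).1 s.2

/-- Elements over an involution of the top group. -/
theorem pow_six (n : Nil K81) (s : rootsOfUnity 5 K81) (σ : Gal81) (hσ : ∀ x, σ x = x ^ 9) :
    (⟨n, ⟨s, σ⟩⟩ : Big) ^ 6 = 1 := by
  set t : Top := ⟨s, σ⟩ with ht
  have hs := root5 s
  have ht2 : t * t = 1 := by
    refine SemidirectProduct.ext ?_ ?_
    · refine Subtype.ext (Units.ext ?_)
      change ((s : K81ˣ) : K81) * σ ((s : K81ˣ) : K81) = 1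
      rw [hσ]
      linear_combination (((s : K81ˣ) : K81) ^ 5 + 1) * hs
    · refine AlgEquiv.ext fun x => ?_
      change σ (σ x) = x
      rw [hσ, hσ, ← pow_mul, pow81]
  have hsq : (⟨n, t⟩ : Big) ^ 2 = SemidirectProduct.inl (n * topAct t n) := by
    rw [pow_two]
    exact SemidirectProduct.ext rfl ht2
  rw [show (6 : ℕ) = 2 * 3 from rfl, pow_mul, hsq, ← map_pow]
  suffices (n * topAct t n) ^ 3 = 1 by rw [this, map_one]
  rw [Nil.cube, Nil.one_def]
  ext <;> try rfl
  set S := ((s : K81ˣ) : K81)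
  have hm : ∀ u : K81, (u + S * σ u) ^ 9 = S ^ 4 * (u + S * σ u) := fun u => by
    rw [Nil.add_pow9, mul_pow, hσ, ← pow_mul, pow81]
    linear_combination (S ^ 4 * u - u ^ 9) * hs
  change (n.v + S * σ n.v) ^ 4 * (n.w + S * σ n.w) ^ 9
    - (n.v + S * σ n.v) ^ 12 * (n.w + S * σ n.w) = 0
  rw [show (12 : ℕ) = 9 + 3 from rfl, pow_add _ 9 3, hm, hm]
  ring

/-- Elements over a nontrivial root of unity. -/
theorem pow_five (n : Nil K81) (s : rootsOfUnity 5 K81) (σ : Gal81) (hσ : ∀ x, σ x = x) (hs1 : s ≠ 1) :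
    (⟨n, ⟨s, σ⟩⟩ : Big) ^ 5 = 1 := by
  set t : Top := ⟨s, σ⟩ with ht
  set S := ((s : K81ˣ) : K81) with hS
  have hs := root5 s
  have hne : ∀ k : ℕ, ¬ 5 ∣ k → S ^ k ≠ 1 := by
    intro k hk h
    apply hs1
    refine Subtype.ext (Units.ext ?_)
    have h1 : orderOf S ∣ 5 := orderOf_dvd_of_pow_eq_one hs
    rcases (Nat.dvd_prime (by norm_num)).1 h1 with h2 | h2
    · exact orderOf_eq_one_iff.1 h2
    · exact absurd (h2 ▸ orderOf_dvd_of_pow_eq_one h) hk
  have ht5 : t ^ 5 = 1 := by
    have e : t = SemidirectProduct.inl s := by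
      refine SemidirectProduct.ext rfl (AlgEquiv.ext fun x => ?_)
      exact hσ x
    rw [e, ← map_pow, show s ^ 5 = 1 from Subtype.ext (Units.ext hs), map_one]
  let x : Big := ⟨n, t⟩
  have hr : SemidirectProduct.rightHom (x ^ 5) = 1 := by
    rw [map_pow, SemidirectProduct.rightHom_eq_right]
    exact ht5
  have hcomm : x * x ^ 5 = x ^ 5 * x := (pow_mul_comm' x 5).symm
  show x ^ 5 = 1
  generalize x ^ 5 = y at hcomm hr ⊢
  obtain ⟨m, u⟩ := y
  rw [SemidirectProduct.rightHom_eq_right] at hr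
  change u = 1 at hr
  subst hr
  have hl := congrArg SemidirectProduct.left hcomm
  simp only [x, SemidirectProduct.mul_left, map_one, MulAut.one_apply, topAct_apply] at hl
  simp only [Nil.mul_def, Nil.act, ht, AlgEquiv.coe_ringEquiv, hσ, Nil.mk.injEq, ← hS] at hl
  obtain ⟨h1, h2, h3, h4, h5, h6, h7⟩ := hl
  have key : ∀ (k : ℕ) (u : K81), ¬ 5 ∣ k → S ^ k * u = u → u = 0 := fun k u hk h => by
    by_contra hu
    exact hne k hk (mul_right_cancel₀ hu (h.trans (one_mul u).symm))
  have hv : m.v = 0 := key 1 _ (by norm_num) (by linear_combination h1)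
  have hw : m.w = 0 := key 1 _ (by norm_num) (by linear_combination h2)
  simp only [hv, hw, mul_zero, zero_pow, Ne, OfNat.ofNat_ne_zero, not_false_eq_true, zero_mul,
    add_zero, zero_add, sub_zero] at h3 h4 h5 h6 h7
  have ha : m.a = 0 := key 4 _ (by norm_num) (by linear_combination h3)
  have hb : m.b = 0 := key 12 _ (by norm_num) (by linear_combination h4)
  have hA : m.A = 0 := key 12 _ (by norm_num) (by linear_combination h5)
  have hB : m.B = 0 := key 4 _ (by norm_num) (by linear_combination h6)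
  simp only [ha, hb, hA, hB, mul_zero, zero_mul, add_zero, zero_add, sub_zero] at h7
  have hc : m.c = 0 := key 13 _ (by norm_num) (by linear_combination h7)
  refine SemidirectProduct.ext ?_ rfl
  rw [SemidirectProduct.one_left, Nil.one_def]
  ext <;> assumption

theorem bound (x : Big) : orderOf x ∣ 5 ∨ orderOf x ∣ 9 ∨ orderOf x ∣ 12 := by
  obtain ⟨n, s, σ⟩ := x
  obtain ⟨i, hi, hσ⟩ := gal_pow σ
  have odd_case : (i = 1 ∨ i = 3) → (⟨n, ⟨s, σ⟩⟩ : Big) ^ 12 = 1 := by
    intro hi'
    set x : Big := ⟨n, ⟨s, σ⟩⟩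
    have h2 : ∀ u : K81, (x ^ 2).right.right u = u ^ 9 := by
      intro u
      rw [pow_two, SemidirectProduct.mul_right, SemidirectProduct.mul_right, AlgEquiv.mul_apply,
        show x.right.right = σ from rfl]
      rcases hi' with rfl | rfl
      · rw [hσ, hσ, ← pow_mul, show 3 ^ 1 * 3 ^ 1 = 9 by norm_num]
      · rw [hσ, hσ, ← pow_mul, show 3 ^ 3 * 3 ^ 3 = 81 * 9 by norm_num, pow_mul, pow81]
    rw [show (12 : ℕ) = 2 * 6 from rfl, pow_mul]
    generalize x ^ 2 = y at h2 ⊢
    obtain ⟨a, b, c⟩ := y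
    exact pow_six a b c h2
  interval_cases i
  · have hid : ∀ u, σ u = u := fun u => by simpa using hσ u
    by_cases hs : s = 1
    · refine Or.inr (Or.inl (orderOf_dvd_of_pow_eq_one ?_))
      have e : (⟨n, ⟨s, σ⟩⟩ : Big) = SemidirectProduct.inl n := by
        refine SemidirectProduct.ext rfl (SemidirectProduct.ext hs (AlgEquiv.ext fun u => ?_))
        exact hid u
      rw [e, ← map_pow, Nil.pow_nine, map_one]
    · exact Or.inl (orderOf_dvd_of_pow_eq_one (pow_five n s σ hid hs))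
  · exact Or.inr (Or.inr (orderOf_dvd_of_pow_eq_one (odd_case (Or.inl rfl))))
  · refine Or.inr (Or.inr ((orderOf_dvd_of_pow_eq_one (pow_six n s σ fun u => ?_)).trans (by norm_num)))
    simpa using hσ u
  · exact Or.inr (Or.inr (orderOf_dvd_of_pow_eq_one (odd_case (Or.inr rfl))))

instance : Finite (Nil K81) :=
  Finite.of_injective (fun x : Nil K81 => (x.v, x.w, x.a, x.b, x.A, x.B, x.c)) fun x y h => by
    simp only [Prod.mk.injEq] at h
    obtain ⟨h1, h2, h3, h4, h5, h6, h7⟩ := h
    exact Nil.ext' h1 h2 h3 h4 h5 h6 h7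

instance : Finite Top := Finite.of_equiv _ SemidirectProduct.equivProd.symm

instance : Finite Big := Finite.of_equiv _ SemidirectProduct.equivProd.symm

theorem exists_five : ∃ x : Big, orderOf x = 5 := by
  haveI : Fact (Nat.Prime 5) := ⟨by norm_num⟩
  have : Fintype K81 := Fintype.ofFinite _
  have hc : Nat.card K81ˣ = 80 := by
    rw [Nat.card_units, GaloisField.card 3 4 (by norm_num)]
    norm_num
  obtain ⟨z, hz⟩ := exists_prime_orderOf_dvd_card' (G := K81ˣ) 5 (by rw [hc]; norm_num)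
  let r : rootsOfUnity 5 K81 := ⟨z, (mem_rootsOfUnity 5 z).2 (hz ▸ pow_orderOf_eq_one z)⟩
  refine ⟨SemidirectProduct.inr (SemidirectProduct.inl r), ?_⟩
  rw [orderOf_injective _ SemidirectProduct.inr_injective,
    orderOf_injective _ SemidirectProduct.inl_injective, ← Subgroup.orderOf_coe, hz]

theorem exists_nine : ∃ x : Big, orderOf x = 9 := by
  haveI : Fact (Nat.Prime 3) := ⟨Nat.prime_three⟩
  obtain ⟨w, hw⟩ : ∃ w : K81, w ^ 9 ≠ w := by
    by_contra! h
    have : Fintype K81 := Fintype.ofFinite _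
    have hle := Polynomial.card_le_degree_of_subset_roots (p := (Polynomial.X ^ 9 - Polynomial.X : Polynomial K81))
      (Z := (Finset.univ : Finset K81)) fun u _ => by
        rw [Polynomial.mem_roots (FiniteField.X_pow_card_sub_X_ne_zero K81 (by norm_num : 1 < 9))]
        simp [h u]
    rw [Finset.card_univ, ← Nat.card_eq_fintype_card, GaloisField.card 3 4 (by norm_num),
      FiniteField.X_pow_card_sub_X_natDegree_eq K81 (by norm_num : 1 < 9)] at hle
    norm_num at hle
  refine ⟨SemidirectProduct.inl ⟨1, w, 0, 0, 0, 0, 0⟩, ?_⟩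
  rw [orderOf_injective _ SemidirectProduct.inl_injective]
  refine orderOf_eq_prime_pow (p := 3) (n := 1) ?_ (Nil.pow_nine _)
  intro h
  rw [pow_one, Nil.cube, Nil.one_def] at h
  have := congrArg Nil.c h
  simp [sub_eq_zero] at this
  exact hw this

theorem exists_twelve : ∃ x : Big, orderOf x = 12 := by
  haveI : Fact (Nat.Prime 3) := ⟨Nat.prime_three⟩
  let f : Gal81 := FiniteField.frobeniusAlgEquivOfAlgebraic (ZMod 3) K81
  let y : Big := SemidirectProduct.inr (SemidirectProduct.inr f)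
  let z : Big := SemidirectProduct.inl ⟨0, 0, 0, 0, 0, 0, 1⟩
  have hy : orderOf y = 4 := by
    rw [orderOf_injective _ SemidirectProduct.inr_injective,
      orderOf_injective _ SemidirectProduct.inr_injective,
      FiniteField.orderOf_frobeniusAlgEquivOfAlgebraic, GaloisField.finrank 3 (by norm_num : (4 : ℕ) ≠ 0)]
  have hz : orderOf z = 3 := by
    rw [orderOf_injective _ SemidirectProduct.inl_injective]
    refine orderOf_eq_prime ?_ fun h => ?_
    · rw [Nil.central_pow, CharP.cast_eq_zero, zero_mul, Nil.one_def]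
    · simpa [Nil.one_def] using congrArg Nil.c h
  have hc : Commute y z := by
    refine SemidirectProduct.ext ?_ ?_
    · simp only [y, z, SemidirectProduct.mul_left, SemidirectProduct.left_inr, SemidirectProduct.right_inr,
        SemidirectProduct.left_inl, SemidirectProduct.right_inl, map_one, MulAut.one_apply, one_mul, mul_one]
      change Nil.act (1 : K81ˣ) f.toRingEquiv _ = _
      ext <;> simp [Nil.act, f]
    · simp [y, z]
  exact ⟨y * z, by rw [hc.orderOf_mul_eq_mul_orderOf_of_coprime (by rw [hy, hz]; norm_num), hy, hz]⟩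

theorem solvable : Group.IsSolvable Big := by
  haveI : Fact (Nat.Prime 3) := ⟨Nat.prime_three⟩
  have hN : IsPGroup 3 (Nil K81) := fun x => ⟨2, Nil.pow_nine x⟩
  haveI : Group.IsNilpotent (Nil K81) := hN.isNilpotent
  haveI : Group.IsSolvable (Nil K81) := inferInstance
  haveI : Group.IsSolvable Gal81 := Group.isSolvable_of_comm fun a b => by
    obtain ⟨i, -, hi⟩ := gal_pow a
    obtain ⟨j, -, hj⟩ := gal_pow b
    refine AlgEquiv.ext fun x => ?_
    change a (b x) = b (a x)
    simp only [hi, hj, ← pow_mul, mul_comm]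
  haveI : Group.IsSolvable (rootsOfUnity 5 K81) := Group.isSolvable_of_comm fun a b => mul_comm a b
  haveI : Group.IsSolvable Top := Group.isSolvable_of_ker_le_range (SemidirectProduct.inl : rootsOfUnity 5 K81 →* Top)
    SemidirectProduct.rightHom (by rw [SemidirectProduct.range_inl_eq_ker_rightHom])
  exact Group.isSolvable_of_ker_le_range (SemidirectProduct.inl : Nil K81 →* Big)
    SemidirectProduct.rightHom (by rw [SemidirectProduct.range_inl_eq_ker_rightHom])

/-- There is a finite solvable group with exactly the same set of element orders as the simple group PSp(4,3). -/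
theorem result {F : Type*} [Field F] [Fintype F] (hF : Fintype.card F = 3) :
    ∃ (H : Type) (_ : Group H) (_ : Fintype H), Group.IsSolvable H ∧ Set.range (orderOf : H → ℕ) = Set.range (orderOf : Cfsg.PSp 2 F → ℕ) := by
  have hT := SpFourThree.range_eq_of (G := Big) bound exists_five exists_nine exists_twelve
  exact ⟨Big, inferInstance, Fintype.ofFinite _, solvable, hT.trans (SpFourThree.range_orderOf hF).symm⟩

end Cfsg.Agent.S3439
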