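import Cfsg.Statements.S3443
import Cfsg.Agent.Lib.Recognition.Spectrum

set_option autoImplicit false
set_option linter.style.haveILetI false
open Cfsg
open Cfsg.Agent.Lib.Recognition

namespace Cfsg.Agent.S3443

/-- Let G be a finite group and V a normal elementary abelian subgroup of G (abelian of prime exponent p, possibly trivial). Then the semidirect product V ⋊ G, with G acting on V by conjugation, has exactly the same set of element orders as G. -/
theorem result {G : Type*} [Group G] [Finite G] (V : Subgroup G) [V.Normal] (p : ℕ) (hp : p.Prime)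
    (hcomm : ∀ x y : V, x * y = y * x) (hexp : ∀ x : V, x ^ p = 1) :
    Set.range (orderOf : V ⋊[MulAut.conjNormal] G → ℕ) = Set.range (orderOf : G → ℕ) := by
  haveI : Finite (V ⋊[MulAut.conjNormal] G) := Finite.of_equiv _ SemidirectProduct.equivProd.symm
  ext m
  constructor
  · rintro ⟨x, rfl⟩
    let μ : V ⋊[MulAut.conjNormal] G →* G := SemidirectProduct.lift V.subtype (MonoidHom.id G) fun g => by
      ext v; simp [MulAut.conj_apply]
    have hμ : ∀ y : V ⋊[MulAut.conjNormal] G, μ y = (y.left : G) * y.right := fun y => by
      simp [μ, SemidirectProduct.lift]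
    obtain ⟨i, hi⟩ := exists_orderOf_eq_lcm V hp (fun v hv => congrArg Subtype.val (hexp ⟨v, hv⟩))
      (fun i : Bool => bif i then μ x else x.right) (by
        have h : ((x.right : G ⧸ V)) = ((μ x : G) : G ⧸ V) := by
          rw [hμ, QuotientGroup.mk_mul, (QuotientGroup.eq_one_iff _).2 x.left.2, one_mul]
        rintro (_ | _) (_ | _) <;> simp [h])
    refine ⟨bif i then μ x else x.right, Nat.dvd_antisymm ?_ (orderOf_dvd_of_pow_eq_one ?_)⟩
    · cases i
      · exact orderOf_map_dvd SemidirectProduct.rightHom x
      · exact orderOf_map_dvd μ x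
    · have h1 := orderOf_dvd_iff_pow_eq_one.1 (hi true)
      have h2 := orderOf_dvd_iff_pow_eq_one.1 (hi false)
      simp only [cond_true, cond_false] at h1 h2
      generalize orderOf (bif i then μ x else x.right) = k at h1 h2 ⊢
      have hr : (x ^ k).right = 1 := by
        rw [← h2]; exact map_pow SemidirectProduct.rightHom x k
      refine SemidirectProduct.ext ?_ hr
      rw [← map_pow, hμ, hr, mul_one] at h1
      exact Subtype.ext h1
  · rintro ⟨g, rfl⟩
    exact ⟨SemidirectProduct.inr g, orderOf_injective _ SemidirectProduct.inr_injective g⟩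


end Cfsg.Agent.S3443
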