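import Cfsg.Statements.S3448

set_option autoImplicit false
set_option linter.style.haveILetI false
open Cfsg

namespace Cfsg.Agent.S3448

/-- The set of element orders of the direct product of two copies of the alternating group of degree 5 is {1, 2, 3, 5, 6, 10, 15}. (It is shared by the direct product of two Frobenius groups of orders 50 and 75, so this direct product is not determined by its element orders.) -/
theorem result : Set.range (orderOf : alternatingGroup (Fin 5) × alternatingGroup (Fin 5) → ℕ) = {1, 2, 3, 5, 6, 10, 15} := by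
  have hall : ∀ g : alternatingGroup (Fin 5), g ^ 2 = 1 ∨ g ^ 3 = 1 ∨ g ^ 5 = 1 := by decide +kernel
  have hord : ∀ g : alternatingGroup (Fin 5), orderOf g = 1 ∨ orderOf g = 2 ∨ orderOf g = 3 ∨ orderOf g = 5 := by
    intro g
    rcases hall g with h | h | h <;> have h' := orderOf_dvd_of_pow_eq_one h
    · rcases (Nat.dvd_prime Nat.prime_two).1 h' with h | h <;> simp [h]
    · rcases (Nat.dvd_prime Nat.prime_three).1 h' with h | h <;> simp [h]
    · rcases (Nat.dvd_prime Nat.prime_five).1 h' with h | h <;> simp [h]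
  have hex : ∀ n, n = 1 ∨ n = 2 ∨ n = 3 ∨ n = 5 → ∃ g : alternatingGroup (Fin 5), orderOf g = n := by
    intro n hn
    have h2 : ∃ g : alternatingGroup (Fin 5), g ^ 2 = 1 ∧ g ≠ 1 := by decide +kernel
    have h3 : ∃ g : alternatingGroup (Fin 5), g ^ 3 = 1 ∧ g ≠ 1 := by decide +kernel
    have h5 : ∃ g : alternatingGroup (Fin 5), g ^ 5 = 1 ∧ g ≠ 1 := by decide +kernel
    rcases hn with rfl | rfl | rfl | rfl
    · exact ⟨1, orderOf_one⟩
    · obtain ⟨g, a, b⟩ := h2; exact ⟨g, orderOf_eq_prime a b⟩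
    · obtain ⟨g, a, b⟩ := h3; haveI : Fact (Nat.Prime 3) := ⟨Nat.prime_three⟩; exact ⟨g, orderOf_eq_prime a b⟩
    · obtain ⟨g, a, b⟩ := h5; haveI : Fact (Nat.Prime 5) := ⟨Nat.prime_five⟩; exact ⟨g, orderOf_eq_prime a b⟩
  ext m
  simp only [Set.mem_range, Set.mem_insert_iff, Set.mem_singleton_iff]
  constructor
  · rintro ⟨⟨a, b⟩, rfl⟩
    rw [Prod.orderOf_mk]
    rcases hord a with h | h | h | h <;> rcases hord b with h' | h' | h' | h' <;> rw [h, h'] <;> decide
  · intro hm
    have : ∀ a b, (∃ g : alternatingGroup (Fin 5), orderOf g = a) → (∃ g : alternatingGroup (Fin 5), orderOf g = b) →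
        Nat.lcm a b = m → ∃ y : alternatingGroup (Fin 5) × alternatingGroup (Fin 5), orderOf y = m := by
      rintro a b ⟨g, rfl⟩ ⟨g', rfl⟩ rfl
      exact ⟨(g, g'), Prod.orderOf_mk⟩
    rcases hm with rfl | rfl | rfl | rfl | rfl | rfl | rfl
    · exact this 1 1 (hex 1 (by simp)) (hex 1 (by simp)) rfl
    · exact this 2 1 (hex 2 (by simp)) (hex 1 (by simp)) rfl
    · exact this 3 1 (hex 3 (by simp)) (hex 1 (by simp)) rfl
    · exact this 5 1 (hex 5 (by simp)) (hex 1 (by simp)) rfl
    · exact this 2 3 (hex 2 (by simp)) (hex 3 (by simp)) rfl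
    · exact this 2 5 (hex 2 (by simp)) (hex 5 (by simp)) rfl
    · exact this 3 5 (hex 3 (by simp)) (hex 5 (by simp)) rfl


end Cfsg.Agent.S3448
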