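import Cfsg.Statements.S3449

set_option autoImplicit false
set_option linter.style.haveILetI false
open Cfsg

namespace Cfsg.Agent.S3449

/-- The direct product of three copies of the alternating group of degree 5 has exactly the same set of element orders as the cyclic group of order 30, namely the divisors of 30; in particular a direct power of a non-abelian simple group need not be determined by its element orders. -/
theorem result : Set.range (orderOf : alternatingGroup (Fin 5) × alternatingGroup (Fin 5) × alternatingGroup (Fin 5) → ℕ) =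
      Set.range (orderOf : Multiplicative (ZMod 30) → ℕ) := by
  have hall : ∀ g : alternatingGroup (Fin 5), g ^ 30 = 1 := by decide +kernel
  have h2 : ∃ g : alternatingGroup (Fin 5), g ^ 2 = 1 ∧ g ≠ 1 := by decide +kernel
  have h3 : ∃ g : alternatingGroup (Fin 5), g ^ 3 = 1 ∧ g ≠ 1 := by decide +kernel
  have h5 : ∃ g : alternatingGroup (Fin 5), g ^ 5 = 1 ∧ g ≠ 1 := by decide +kernel
  obtain ⟨a, a2, a1⟩ := h2
  obtain ⟨b, b2, b1⟩ := h3
  obtain ⟨c, c2, c1⟩ := h5
  haveI : Fact (Nat.Prime 3) := ⟨Nat.prime_three⟩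
  haveI : Fact (Nat.Prime 5) := ⟨Nat.prime_five⟩
  have ha := orderOf_eq_prime a2 a1
  have hb := orderOf_eq_prime b2 b1
  have hc := orderOf_eq_prime c2 c1
  have hX : orderOf ((a, b, c) : alternatingGroup (Fin 5) × alternatingGroup (Fin 5) × alternatingGroup (Fin 5)) = 30 := by
    rw [Prod.orderOf_mk, Prod.orderOf_mk, ha, hb, hc]; rfl
  have hY : orderOf (Multiplicative.ofAdd (1 : ZMod 30)) = 30 := by
    rw [orderOf_ofAdd_eq_addOrderOf, ZMod.addOrderOf_one]
  ext m
  constructor
  · rintro ⟨x, rfl⟩
    have h : orderOf x ∣ 30 := orderOf_dvd_of_pow_eq_one (Prod.ext (hall _) (Prod.ext (hall _) (hall _)))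
    refine ⟨Multiplicative.ofAdd (1 : ZMod 30) ^ (30 / orderOf x), ?_⟩
    rw [orderOf_pow_of_dvd (Nat.div_pos (Nat.le_of_dvd (by norm_num) h) (orderOf_pos x)).ne' (by rw [hY]; exact Nat.div_dvd_of_dvd h), hY, Nat.div_div_self h (by norm_num)]
  · rintro ⟨x, rfl⟩
    have h : orderOf x ∣ 30 := by
      have := orderOf_dvd_natCard x
      simpa using this
    refine ⟨((a, b, c) : alternatingGroup (Fin 5) × alternatingGroup (Fin 5) × alternatingGroup (Fin 5)) ^ (30 / orderOf x), ?_⟩
    rw [orderOf_pow_of_dvd (Nat.div_pos (Nat.le_of_dvd (by norm_num) h) (orderOf_pos x)).ne' (by rw [hX]; exact Nat.div_dvd_of_dvd h), hX, Nat.div_div_self h (by norm_num)]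


end Cfsg.Agent.S3449
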