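import Cfsg.Statements.S3452
import Cfsg.Agent.Lib.SpecPGL.Module
import Cfsg.Agent.Lib.SpecPGL.Small
-- import your own Cfsg.Agent.* helpers here

set_option autoImplicit false
open Cfsg

namespace Cfsg.Agent.S3452

/-- For F a finite field whose number of elements is a prime or equals 9, the group PGL(2,F) = GL(2,F)/Z(GL(2,F)) is not determined by its set of element orders: for every bound N there is a finite group of order greater than N with exactly the same set of element orders as PGL(2,F). -/
theorem result {F : Type*} [Field F] [Fintype F] (hF : (Fintype.card F).Prime ∨ Fintype.card F = 9) (N : ℕ) :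
    ∃ (H : Type) (_ : Group H) (_ : Fintype H), N < Fintype.card H ∧
      Set.range (orderOf : H → ℕ) = Set.range (orderOf : Matrix.GeneralLinearGroup (Fin 2) F ⧸ Subgroup.center (Matrix.GeneralLinearGroup (Fin 2) F) → ℕ) := by
  obtain ⟨p, hchar⟩ := CharP.exists F
  have hp : p.Prime := CharP.char_is_prime F p
  haveI : Fact p.Prime := ⟨hp⟩
  obtain ⟨n, -, hn⟩ := FiniteField.card F p
  rcases hF with hF | hF
  · have hcard : Fintype.card F = p :=
      ((Nat.prime_dvd_prime_iff_eq hp hF).mp (hn ▸ dvd_pow_self p n.pos.ne')).symm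
    rw [Lib.SpecPGL.range_orderOf p (by rw [hcard]; exact (em (p = 2)).symm), hcard]
    by_cases h5 : 5 ≤ p
    · obtain ⟨h1, h2⟩ := Lib.SpecPGL.exists_large h5 N
      haveI := Fintype.ofFinite (Lib.SpecPGL.Ext (Lib.SpecPGL.G2 p) (Lib.SpecPGL.Mod p) (Fin (N + 1)))
      exact ⟨Lib.SpecPGL.Ext (Lib.SpecPGL.G2 p) (Lib.SpecPGL.Mod p) (Fin (N + 1)), inferInstance,
        inferInstance, by rwa [← Nat.card_eq_fintype_card], h2⟩
    · have h23 : p = 2 ∨ p = 3 := by
        have := hp.two_le
        by_contra h
        have h4 : p = 4 := by omega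
        exact absurd (h4 ▸ hp) (by decide)
      rcases h23 with rfl | rfl
      · exact Lib.SpecPGL.spec_two N
      · exact Lib.SpecPGL.spec_three N
  · have hp3 : p = 3 := by
      have h1 : p ∣ 3 ^ 2 := by
        rw [show 3 ^ 2 = 9 from rfl, ← hF, hn]; exact dvd_pow_self p n.pos.ne'
      exact (Nat.prime_dvd_prime_iff_eq hp Nat.prime_three).mp (hp.dvd_of_dvd_pow h1)
    rw [Lib.SpecPGL.range_orderOf p (Or.inl (by omega)), hF, hp3]
    exact Lib.SpecPGL.spec_nine N

end Cfsg.Agent.S3452
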