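import Cfsg.Statements.S3486
import Cfsg.Agent.Lib.Recognition.J2Spectrum
import Cfsg.Agent.Lib.Recognition.EightModel

set_option autoImplicit false
open Cfsg

namespace Cfsg.Agent.S3486

/-- The Hall–Janko sporadic group J₂ is not determined by its set of element orders, not even up to finitely many groups: for every bound N there is a finite group of order greater than N with exactly the same set of element orders as J₂. -/
theorem result (N : ℕ) : ∃ (H : Type) (_ : Group H) (_ : Fintype H), N < Fintype.card H ∧ Set.range (orderOf : H → ℕ) = Set.range (orderOf : Cfsg.Spor.J2 → ℕ) := by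
  obtain ⟨H, iG, iF, hN, hH⟩ := Cfsg.Agent.Lib.Recognition.exists_large_isospectral
    Cfsg.Agent.Lib.Recognition.EightModel.vPart Cfsg.Agent.Lib.Recognition.EightModel.vPart_ne_bot Nat.prime_two
    Cfsg.Agent.Lib.Recognition.EightModel.vPart_exponent N
  exact ⟨H, iG, iF, hN, by
    rw [hH, Cfsg.Agent.Lib.Recognition.EightModel.spectrum, Cfsg.Agent.Lib.Recognition.J2.j2_spectrum]
    rfl⟩

end Cfsg.Agent.S3486
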