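import Cfsg.Statements.S3491
import Cfsg.Agent.Lib.Recognition.AltSix
import Cfsg.Agent.Lib.Recognition.Spectrum

set_option autoImplicit false
set_option linter.style.haveILetI false
open Cfsg
open Cfsg.Agent.Lib.Recognition

namespace Cfsg.Agent.S3491

/-- The alternating group of degree 6 is not determined by its set of element orders, not even up to finitely many groups: for every bound N there is a finite group of order greater than N with exactly the same set of element orders as the alternating group of degree 6. -/
theorem result (N : ℕ) : ∃ (H : Type) (_ : Group H) (_ : Fintype H), N < Fintype.card H ∧ Set.range (orderOf : H → ℕ) = Set.range (orderOf : alternatingGroup (Fin 6) → ℕ) := by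
  classical
  haveI : Fact (Nat.Prime 2) := ⟨by norm_num⟩
  let E := GaloisField 2 2
  haveI : Fintype E := Fintype.ofFinite E
  have hE : Fintype.card E = 4 := by rw [← Nat.card_eq_fintype_card, GaloisField.card 2 2 (by norm_num)]; norm_num
  have hne : (linPart E).ker ≠ ⊥ := by
    intro h
    let v : affineThree E := ⟨⟨!![1, 0, 1; 0, 1, 0; 0, 0, 1], by simp [Matrix.det_fin_three]⟩,
      show IsAff (!![1, 0, 1; 0, 1, 0; 0, 0, 1] : Matrix (Fin 3) (Fin 3) E) by refine ⟨?_, ?_, ?_⟩ <;> simp⟩
    have hva : amat v = !![1, 0, 1; 0, 1, 0; 0, 0, 1] := rfl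
    have hv : v ∈ (linPart E).ker := by
      refine Matrix.SpecialLinearGroup.ext _ _ fun i j => ?_
      rw [linPart_coe, Matrix.SpecialLinearGroup.coe_one]
      fin_cases i <;> fin_cases j <;> simp [lmat, hva]
    rw [h, Subgroup.mem_bot] at hv
    have := congrArg (fun M => amat M 0 2) hv
    simp [hva, amat_one] at this
  obtain ⟨H, iG, iF, hN, hH⟩ := exists_large_isospectral (linPart E).ker hne Nat.prime_two (fun v hv => affine_translation_sq v hv) N
  exact ⟨H, iG, iF, hN, by rw [hH, affine_spectrum hE, alt6_spectrum]⟩


end Cfsg.Agent.S3491
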