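import Cfsg.Statements.S3493
import Cfsg.Agent.Lib.ExtremelyPrimitive.Main

set_option autoImplicit false
open Cfsg

namespace Cfsg.Agent.S3493

open MulAction

/-- An extremely primitive permutation group is of affine type or almost simple. Let a finite group G act faithfully and primitively on a finite set Ω with at least two points, in such a way that every point stabilizer acts primitively on each of its own orbits in Ω (an orbit of size one counts as primitive). Then either G has a non-trivial abelian normal subgroup whose elements other than the identity fix no point (affine type), or G has a non-abelian simple normal subgroup with trivial centralizer (almost simple). -/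
theorem result {G : Type*} [Group G] [Finite G] {Ω : Type*} [Fintype Ω] [MulAction G Ω] [FaithfulSMul G Ω] (hΩ : 2 ≤ Fintype.card Ω) (hprim : MulAction.IsPreprimitive G Ω) (hep : ∀ (α : Ω) (ω : Ω), MulAction.IsPreprimitive (MulAction.stabilizer G α) (MulAction.orbit (MulAction.stabilizer G α) ω)) :
    (∃ N : Subgroup G, N.Normal ∧ N ≠ ⊥ ∧ IsMulCommutative N ∧ ∀ ω : Ω, MulAction.stabilizer N ω = ⊥) ∨ (∃ T : Subgroup G, T.Normal ∧ IsSimpleGroup T ∧ ¬ IsMulCommutative T ∧ Subgroup.centralizer (T : Set G) = ⊥) := by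
  classical
  by_cases hnas : ∃ T : Subgroup G, T.Normal ∧ IsSimpleGroup T ∧ ¬ IsMulCommutative T ∧
      Subgroup.centralizer (T : Set G) = ⊥
  · exact Or.inr hnas
  left
  haveI : Nontrivial Ω := Fintype.one_lt_card_iff_nontrivial.mp hΩ
  haveI := hprim
  haveI := hprim.toIsPretransitive
  obtain ⟨a, b, hab⟩ := exists_pair_ne Ω
  obtain ⟨g, hg⟩ := exists_smul_eq G a b
  have hG : (⊤ : Subgroup G).Normal ∧ (⊤ : Subgroup G) ≠ ⊥ := ⟨inferInstance, fun h => hab (by
    have hg1 : g = 1 := Subgroup.mem_bot.mp (h ▸ Subgroup.mem_top g)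
    rw [← hg, hg1, one_smul])⟩
  obtain ⟨N, ⟨hN, hN1⟩, hNmin⟩ :=
    exists_minimal_of_wellFoundedLT (fun M : Subgroup G => M.Normal ∧ M ≠ ⊥) ⟨⊤, hG⟩
  haveI := hN
  have hcomm := Cfsg.Agent.Lib.ExtremelyPrimitive.minimal_normal_comm hprim hep hnas N hN1
    fun M hM hle => or_iff_not_imp_left.mpr fun hM1 => le_antisymm hle (hNmin ⟨hM, hM1⟩ hle)
  haveI : IsPretransitive N Ω := by
    refine IsQuasiPreprimitive.isPretransitive_of_normal fun h => hN1 ?_
    rw [Subgroup.eq_bot_iff_forall]
    intro m hm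
    refine eq_of_smul_eq_smul fun ω : Ω => ?_
    rw [one_smul]
    have : ω ∈ fixedPoints N Ω := h.symm ▸ Set.mem_univ ω
    exact this ⟨m, hm⟩
  refine ⟨N, hN, hN1, ⟨⟨fun x y => Subtype.ext (hcomm x x.2 y y.2)⟩⟩, fun ω => ?_⟩
  rw [Subgroup.eq_bot_iff_forall]
  rintro ⟨x, hx⟩ hxω
  have hxω' : x • ω = ω := hxω
  refine Subtype.ext (eq_of_smul_eq_smul fun ω' : Ω => ?_)
  obtain ⟨⟨n, hn⟩, hnω⟩ := exists_smul_eq N ω ω'
  have hnω' : n • ω = ω' := hnω
  show x • ω' = (1 : G) • ω'
  rw [one_smul, ← hnω', ← mul_smul, hcomm x hx n hn, mul_smul, hxω']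

end Cfsg.Agent.S3493
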