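import Cfsg.Statements.S3495
import Cfsg.Agent.Lib.Recognition.ExtremelyPrimitive

set_option autoImplicit false
set_option linter.style.haveILetI false
open Cfsg
open Cfsg.Agent.Lib.Recognition
open MulAction

namespace Cfsg.Agent.S3495

/-- Let a finite group G act faithfully and primitively on a finite set Ω with non-trivial point stabilizers, each acting primitively on every one of its orbits (an extremely primitive group), and suppose G has an elementary abelian normal p-subgroup N acting regularly on Ω (affine type). Then every non-trivial subgroup M of a point stabilizer G_α that is normal in G_α has the same orbits on Ω as G_α, and normalizes no subgroup of N other than 1 and N. -/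
theorem result {G : Type*} [Group G] [Finite G] {Ω : Type*} [Fintype Ω] [MulAction G Ω] [FaithfulSMul G Ω] (hprim : MulAction.IsPreprimitive G Ω) (hH : ∀ α : Ω, MulAction.stabilizer G α ≠ ⊥) (hep : ∀ (α : Ω) (ω : Ω), MulAction.IsPreprimitive (MulAction.stabilizer G α) (MulAction.orbit (MulAction.stabilizer G α) ω))
    (N : Subgroup G) [N.Normal] (hNc : IsMulCommutative N) (p : ℕ) (hp : p.Prime) (hNp : ∀ n ∈ N, n ^ p = 1)
    (hNtr : MulAction.IsPretransitive N Ω) (hNreg : ∀ ω : Ω, MulAction.stabilizer N ω = ⊥) (α : Ω) (M : Subgroup G) (hM : M ≠ ⊥) (hMle : M ≤ MulAction.stabilizer G α)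
    (hMn : MulAction.stabilizer G α ≤ Subgroup.normalizer (M : Set G)) :
    (∀ ω : Ω, MulAction.orbit M ω = MulAction.orbit (MulAction.stabilizer G α) ω) ∧
    (∀ L : Subgroup G, L ≤ N → M ≤ Subgroup.normalizer (L : Set G) → L = ⊥ ∨ L = N) := by
  classical
  haveI := hprim
  haveI := hNtr
  set H := stabilizer G α with hHdef
  haveI : (M.subgroupOf H).Normal := Subgroup.normal_subgroupOf_iff_le_normalizer hMle |>.2 hMn
  have horb : ∀ ω : Ω, orbit M ω = orbit H ω := by
    intro ω
    apply le_antisymm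
    · rintro _ ⟨⟨x, hx⟩, rfl⟩
      exact ⟨⟨x, hMle hx⟩, rfl⟩
    · rintro y hy
      by_cases hω : ω = α
      · subst hω
        obtain ⟨k, rfl⟩ := hy
        show (k : G) • ω ∈ _
        rw [show (k : G) • ω = ω from k.2]
        exact mem_orbit_self _
      haveI := hep α ω
      haveI : IsPretransitive (M.subgroupOf H) (orbit H ω) := by
        refine IsQuasiPreprimitive.isPretransitive_of_normal (G := H) fun h => hM ?_
        rw [Subgroup.eq_bot_iff_forall]
        intro x hx
        refine eq_one_of_fixes_suborbit hprim hH hep hω (hMle hx) fun z hz => ?_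
        have hzf : (⟨z, hz⟩ : orbit H ω) ∈ fixedPoints (M.subgroupOf H) (orbit H ω) := by rw [h]; trivial
        exact congrArg Subtype.val (hzf ⟨⟨x, hMle hx⟩, Subgroup.mem_subgroupOf.2 hx⟩)
      obtain ⟨⟨c, hc⟩, hcy⟩ := MulAction.exists_smul_eq (M.subgroupOf H) (⟨ω, mem_orbit_self ω⟩ : orbit H ω) ⟨y, hy⟩
      exact ⟨⟨(c : G), Subgroup.mem_subgroupOf.1 hc⟩, congrArg Subtype.val hcy⟩
  refine ⟨horb, fun L hL hML => ?_⟩
  have hinj : ∀ a ∈ N, ∀ b ∈ N, a • α = b • α → a = b := by
    intro a ha b hb hab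
    have h2 : (⟨b⁻¹ * a, mul_mem (inv_mem hb) ha⟩ : N) ∈ stabilizer N α := by
      rw [mem_stabilizer_iff]
      show (b⁻¹ * a) • α = α
      rw [mul_smul, hab, inv_smul_smul]
    rw [hNreg, Subgroup.mem_bot] at h2
    exact (inv_mul_eq_one.1 (congrArg Subtype.val h2)).symm
  have hHL : ∀ h ∈ H, ∀ l ∈ L, h * l * h⁻¹ ∈ L := by
    intro h hh l hl
    have h1 : (h • l • α) ∈ orbit H (l • α) := ⟨⟨h, hh⟩, rfl⟩
    rw [← horb] at h1
    obtain ⟨⟨x, hx⟩, hxe⟩ := h1
    have hxl : x * l * x⁻¹ ∈ L := ((Subgroup.mem_normalizer_iff.1 (hML hx)) l).1 hl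
    have e : (h * l * h⁻¹) • α = (x * l * x⁻¹) • α := by
      have h2 : h⁻¹ • α = α := (stabilizer G α).inv_mem hh
      have h3 : x⁻¹ • α = α := inv_mem (hMle hx)
      rw [mul_smul, mul_smul, mul_smul, mul_smul, h2, h3]
      exact hxe.symm
    rw [hinj _ (‹N.Normal›.conj_mem l (hL hl) h) _ (hL hxl) e]
    exact hxl
  have hLn : L.Normal := ⟨fun l hl g => by
    obtain ⟨⟨n, hn⟩, hng⟩ := MulAction.exists_smul_eq N α (g • α)
    have hh : n⁻¹ * g ∈ H := by
      rw [hHdef, mem_stabilizer_iff, mul_smul, inv_smul_eq_iff]; exact hng.symm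
    have h1 := hHL _ hh l hl
    have h3 : n * ((n⁻¹ * g) * l * (n⁻¹ * g)⁻¹) = ((n⁻¹ * g) * l * (n⁻¹ * g)⁻¹) * n :=
      congrArg Subtype.val (hNc.is_comm.comm ⟨n, hn⟩ ⟨_, hL h1⟩)
    have h4 : g * l * g⁻¹ = n * ((n⁻¹ * g) * l * (n⁻¹ * g)⁻¹) * n⁻¹ := by group
    rw [h4, h3, mul_inv_cancel_right]
    exact h1⟩
  rw [or_iff_not_imp_left]
  intro hne
  haveI := hLn
  haveI : IsPretransitive L Ω := IsQuasiPreprimitive.isPretransitive_of_normal (G := G) fun h => hne (by
    rw [Subgroup.eq_bot_iff_forall]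
    intro l hl
    refine eq_of_smul_eq_smul (α := Ω) fun z => ?_
    rw [one_smul]
    have hz : z ∈ fixedPoints L Ω := by rw [h]; trivial
    exact hz ⟨l, hl⟩)
  refine le_antisymm hL fun n hn => ?_
  obtain ⟨⟨l, hl⟩, hle⟩ := MulAction.exists_smul_eq L α (n • α)
  exact hinj _ (hL hl) _ hn hle ▸ hl


end Cfsg.Agent.S3495
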