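import Cfsg.Statements.S3496
import Cfsg.Agent.Lib.Solvable.Primitive
import Cfsg.Agent.Lib.Coprime.Generation
import Cfsg.Agent.Lib.Perm.IrreduciblePrimeOrder

set_option autoImplicit false
set_option linter.style.haveILetI false
set_option maxHeartbeats 1000000
open Cfsg

namespace Cfsg.Agent.S3496

open Cfsg.Agent.Lib

variable {G : Type*} [Group G] [Finite G]

/-- A solvable group has an abelian minimal invariant subgroup of prime exponent inside any
nontrivial subgroup. -/
theorem exists_minimal_inside [Group.IsSolvable G] (H : Subgroup G) (hH : H ≠ ⊥) :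
    ∃ (T : Subgroup G) (q : ℕ), q.Prime ∧ T ≤ H ∧ T ≠ ⊥ ∧ H ≤ Subgroup.normalizer (T : Set G) ∧
      (∀ K : Subgroup G, K ≤ T → H ≤ Subgroup.normalizer (K : Set G) → K = ⊥ ∨ K = T) ∧
      IsMulCommutative T ∧ ∀ t ∈ T, t ^ q = 1 := by
  obtain ⟨T, ⟨hTH, hT1, hTn⟩, hTmin⟩ := exists_minimal_of_wellFoundedLT
    (fun K : Subgroup G => K ≤ H ∧ K ≠ ⊥ ∧ H ≤ Subgroup.normalizer (K : Set G))
    ⟨H, le_rfl, hH, Subgroup.le_normalizer⟩
  have hmin : ∀ K : Subgroup G, K ≤ T → H ≤ Subgroup.normalizer (K : Set G) → K = ⊥ ∨ K = T :=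
    fun K hK hn => or_iff_not_imp_left.mpr fun h =>
      le_antisymm hK (hTmin ⟨hK.trans hTH, h, hn⟩ hK)
  have hcomm : ⁅T, T⁆ = ⊥ := by
    refine (hmin _ (T.commutator_le_self) fun h hh => ?_).resolve_right fun e => ?_
    · rw [Subgroup.mem_normalizer_iff_map_conj_eq, Subgroup.map_commutator,
        Subgroup.mem_normalizer_iff_map_conj_eq.mp (hTn hh)]
    · haveI := (Subgroup.nontrivial_iff_ne_bot T).mpr hT1
      have h1 := Group.IsSolvable.commutator_lt_top_of_nontrivial T
      refine h1.ne (Subgroup.map_injective T.subtype_injective ?_)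
      rw [Subgroup.map_subtype_commutator, e, ← MonoidHom.range_eq_map, Subgroup.range_subtype]
  have hTC : T ≤ Subgroup.centralizer (T : Set G) :=
    Subgroup.commutator_eq_bot_iff_le_centralizer.mp hcomm
  obtain ⟨q, hq, hqT⟩ := Nat.exists_prime_and_dvd
    (show Nat.card T ≠ 1 from fun h => hT1 (Subgroup.card_eq_one.mp h))
  haveI := Fact.mk hq
  refine ⟨T, q, hq, hTH, hT1, hTn, hmin,
    ⟨⟨fun a b => Subtype.ext (Subgroup.mem_centralizer_iff.mp (hTC b.2) a a.2)⟩⟩, ?_⟩
  let W : Subgroup G :=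
    { carrier := {x | x ∈ T ∧ x ^ q = 1}
      one_mem' := ⟨one_mem _, one_pow q⟩
      mul_mem' := fun {a b} ha hb => ⟨mul_mem ha.1 hb.1, by
        rw [(show Commute a b from Subgroup.mem_centralizer_iff.mp (hTC hb.1) a ha.1).mul_pow,
          ha.2, hb.2, mul_one]⟩
      inv_mem' := fun {a} ha => ⟨inv_mem ha.1, by rw [inv_pow, ha.2, inv_one]⟩ }
  have hWn : H ≤ Subgroup.normalizer (W : Set G) := fun h hh => by
    rw [Subgroup.mem_normalizer_iff]
    intro x
    refine and_congr (Subgroup.mem_normalizer_iff.mp (hTn hh) x) ?_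
    rw [conj_pow, mul_inv_eq_one]
    exact ⟨fun e => by rw [e, mul_one], fun e => mul_left_cancel (e.trans (mul_one h).symm)⟩
  have hW : W = T := by
    refine (hmin W (fun x hx => hx.1) hWn).resolve_left fun e => ?_
    obtain ⟨x, hx⟩ := exists_prime_orderOf_dvd_card' q hqT
    have h1 : (x : G) ∈ W := ⟨x.2, by rw [← SubmonoidClass.coe_pow, ← hx, pow_orderOf_eq_one]; rfl⟩
    rw [e, Subgroup.mem_bot, ← OneMemClass.coe_one T, Subtype.coe_inj] at h1
    rw [h1, orderOf_one] at hx
    exact hq.ne_one hx.symm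
  intro t ht
  rw [← hW] at ht
  exact ht.2

/-- The soluble extremely primitive groups. Let a finite solvable group G act faithfully and primitively on a finite set Ω with p ^ d points (p prime), with non-trivial point stabilizers each acting primitively on every one of its orbits. Then there is a prime q such that every orbit of a point stabilizer G_α other than {α} has exactly q points, q divides p ^ d − 1 but no p ^ i − 1 with 0 < i < d, and G_α has a normal subgroup T of order q with G_α generated by T and one further element and the order of G_α dividing q·d (so G_α is cyclic of order q, or an extension of T by a cyclic group of order dividing d). -/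
theorem result {G : Type*} [Group G] [Finite G] {Ω : Type*} [Fintype Ω] [MulAction G Ω] [FaithfulSMul G Ω] [Group.IsSolvable G] (p d : ℕ) (hp : p.Prime) (hcard : Fintype.card Ω = p ^ d)
    (hprim : MulAction.IsPreprimitive G Ω) (hH : ∀ α : Ω, MulAction.stabilizer G α ≠ ⊥) (hep : ∀ (α : Ω) (ω : Ω), MulAction.IsPreprimitive (MulAction.stabilizer G α) (MulAction.orbit (MulAction.stabilizer G α) ω)) (α : Ω) :
    ∃ q : ℕ, q.Prime ∧ (∀ ω : Ω, ω ≠ α → Nat.card (MulAction.orbit (MulAction.stabilizer G α) ω) = q) ∧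
      q ∣ p ^ d - 1 ∧ (∀ i : ℕ, 0 < i → i < d → ¬ q ∣ p ^ i - 1) ∧
      ∃ T : Subgroup G, T ≤ MulAction.stabilizer G α ∧ MulAction.stabilizer G α ≤ Subgroup.normalizer (T : Set G) ∧ Nat.card T = q ∧
        (∃ h : G, MulAction.stabilizer G α = T ⊔ Subgroup.zpowers h) ∧ Nat.card (MulAction.stabilizer G α) ∣ q * d := by
  classical
  have hp' := Fact.mk hp
  set H := MulAction.stabilizer G α with hHdef
  haveI : Nontrivial G := by
    by_contra h
    rw [not_nontrivial_iff_subsingleton] at h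
    exact hH α (Subsingleton.elim _ _)
  -- the regular normal subgroup
  obtain ⟨M, ⟨hMn, hM1⟩, hMmin0⟩ := exists_minimal_of_wellFoundedLT
    (fun K : Subgroup G => K.Normal ∧ K ≠ ⊥) ⟨⊤, inferInstance, top_ne_bot⟩
  haveI := hMn
  have hMmin : ∀ K : Subgroup G, K.Normal → K ≤ M → K = ⊥ ∨ K = M := fun K hK hKM =>
    or_iff_not_imp_left.mpr fun h => le_antisymm hKM (hMmin0 ⟨hK, h⟩ hKM)
  obtain ⟨hcompl, hfaith, hirr0⟩ :=
    Solvable.Primitive.primitive_solvable hprim M hM1 hMmin α
  have hMab := Solvable.Primitive.le_centralizer_of_minimal hM1 hMmin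
  have hMcard : Nat.card M = p ^ d := by
    rw [← hcompl.index_eq_card, MulAction.index_stabilizer_of_transitive,
      Nat.card_eq_fintype_card, hcard]
  have hd : 0 < d := Nat.pos_of_ne_zero fun h => hM1 (Subgroup.card_eq_one.mp (by rw [hMcard, h, pow_zero]))
  obtain ⟨⟨hMcomm, hMexp⟩, -⟩ := Solvable.Primitive.exists_isElementaryAbelian hM1 hMmin hMab hp
    (hMcard ▸ dvd_pow_self p hd.ne')
  -- the point `m • α` and the stabilizer action
  have hsmul : ∀ h ∈ H, ∀ m : G, h • m • α = (h * m * h⁻¹) • α := fun h hh m => by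
    rw [mul_smul, mul_smul, inv_smul_eq_iff.mpr (MulAction.mem_stabilizer_iff.mp hh).symm]
  have hinjα : ∀ m ∈ M, ∀ m' ∈ M, m • α = m' • α → m = m' := fun m hm m' hm' e => by
    have h1 : m'⁻¹ * m ∈ M ⊓ H := ⟨M.mul_mem (M.inv_mem hm') hm,
      MulAction.mem_stabilizer_iff.mpr (by rw [mul_smul, e, inv_smul_smul])⟩
    rw [hcompl.disjoint.eq_bot, Subgroup.mem_bot] at h1
    exact (inv_mul_eq_one.mp h1).symm
  have hsurjα : ∀ ω : Ω, ∃ m ∈ M, m • α = ω := fun ω => by
    obtain ⟨g, rfl⟩ := MulAction.exists_smul_eq G α ω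
    obtain ⟨⟨⟨m, hm⟩, ⟨h, hh⟩⟩, hg⟩ := hcompl.2 g
    exact ⟨m, hm, by rw [← hg]; show m • α = (m * h) • α; rw [mul_smul, MulAction.mem_stabilizer_iff.mp hh]⟩
  -- the minimal normal subgroup of the stabilizer
  obtain ⟨T, q, hq, hTH, hT1, hTn, hTmin, hTcomm, hTexp⟩ := exists_minimal_inside H (hH α)
  haveI := Fact.mk hq
  haveI := hTcomm
  have hTC : ∀ a ∈ T, ∀ b ∈ T, a * b = b * a := fun a ha b hb =>
    congrArg Subtype.val (mul_comm' (⟨a, ha⟩ : T) ⟨b, hb⟩)
  have hMC : M ⊓ Subgroup.centralizer (T : Set G) = ⊥ := by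
    refine (hirr0 _ inf_le_left fun h hh => ?_).resolve_right fun e => hT1 (le_bot_iff.mp ?_)
    · rw [Subgroup.mem_normalizer_iff_map_conj_eq, Subgroup.map_inf_eq _ _ _ (MulAut.conj h).injective]
      have hMh := Subgroup.mem_normalizer_iff_map_conj_eq.mp
        (show h ∈ Subgroup.normalizer (M : Set G) by rw [Subgroup.normalizer_eq_top_iff.mpr hMn]; trivial)
      rw [hMh]
      congr 1
      refine Subgroup.eq_of_le_of_card_ge ?_ ?_
      · rintro _ ⟨c, hc, rfl⟩
        refine Subgroup.mem_centralizer_iff.mpr fun x hx => ?_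
        have h1 := (Subgroup.mem_normalizer_iff.mp (inv_mem (hTn hh)) x).mp hx
        rw [inv_inv] at h1
        have h2 := Subgroup.mem_centralizer_iff.mp hc _ h1
        show x * (h * c * h⁻¹) = h * c * h⁻¹ * x
        calc x * (h * c * h⁻¹) = h * ((h⁻¹ * x * h) * c) * h⁻¹ := by group
          _ = h * (c * (h⁻¹ * x * h)) * h⁻¹ := by rw [h2]
          _ = h * c * h⁻¹ * x := by group
      · rw [Subgroup.card_map_of_injective (MulAut.conj h).injective]
    · rw [← hfaith]
      exact le_inf hTH (Subgroup.le_centralizer_iff.mp (e ▸ inf_le_right))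
  -- orbits of the stabilizer are orbits of `T`, regular for `T`
  have key : ∀ m ∈ M, m ≠ 1 → (∀ t ∈ T, t * m = m * t → t = 1) ∧
      ∀ h ∈ H, ∃ t ∈ T, h * m * h⁻¹ = t * m * t⁻¹ := by
    intro m hm hm1
    have hT' : ¬ ∀ t ∈ T, t * m = m * t := fun hall => hm1 (by
      have : m ∈ M ⊓ Subgroup.centralizer (T : Set G) :=
        ⟨hm, Subgroup.mem_centralizer_iff.mpr hall⟩
      rw [hMC, Subgroup.mem_bot] at this
      exact this)
    push Not at hT'
    obtain ⟨t0, ht0, hne⟩ := hT'
    have hne' : t0 • m • α ≠ m • α := fun e => hne (by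
      rw [hsmul t0 (hTH ht0) m] at e
      have := hinjα _ (Subgroup.Normal.conj_mem hMn m hm t0) _ hm e
      exact mul_inv_eq_iff_eq_mul.mp this)
    set O := MulAction.orbit H (m • α)
    have hpt : (⟨t0, hTH ht0⟩ : H) • m • α ∈ O := MulAction.mem_orbit _ _
    haveI : Nontrivial O := ⟨⟨_, hpt⟩, ⟨m • α, MulAction.mem_orbit_self _⟩,
      fun e => hne' (congrArg Subtype.val e)⟩
    haveI := hep α (m • α)
    have hco := MulAction.IsPreprimitive.isCoatom_stabilizer_of_isPreprimitive H
      (⟨m • α, MulAction.mem_orbit_self _⟩ : O)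
    set S := MulAction.stabilizer H (⟨m • α, MulAction.mem_orbit_self _⟩ : O) with hS
    have hSmem : ∀ h : H, h ∈ S ↔ (h : G) * m = m * h := fun h => by
      rw [hS, MulAction.mem_stabilizer_iff, Subtype.ext_iff]
      show (h : G) • m • α = m • α ↔ _
      rw [hsmul _ h.2 m]
      constructor
      · intro e
        exact mul_inv_eq_iff_eq_mul.mp (hinjα _ (Subgroup.Normal.conj_mem hMn m hm h) _ hm e)
      · intro e
        rw [e, mul_inv_cancel_right]
    have hTn' : (T.subgroupOf H).Normal := ⟨fun x hx g => by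
      rw [Subgroup.mem_subgroupOf] at hx ⊢
      exact (Subgroup.mem_normalizer_iff.mp (hTn g.2) x).mp hx⟩
    have hsup : T.subgroupOf H ⊔ S = ⊤ := hco.2 _ (lt_of_le_of_ne le_sup_right fun e => hne (by
      have : (⟨t0, hTH ht0⟩ : H) ∈ S := e ▸ Subgroup.mem_sup_left
        (show (⟨t0, hTH ht0⟩ : H) ∈ T.subgroupOf H from ht0)
      exact (hSmem _).mp this))
    refine ⟨fun t ht htm => ?_, fun h hh => ?_⟩
    · set K := (T.subgroupOf H ⊓ S).map H.subtype with hK
      have hKT : K ≤ T := by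
        rintro _ ⟨x, hx, rfl⟩
        exact hx.1
      have hKn : H ≤ Subgroup.normalizer (K : Set G) := by
        have h1 : (T.subgroupOf H ⊓ S).Normal := by
          refine Solvable.Primitive.normal_of_sup_eq_top hsup ?_ ?_
          · refine Solvable.Primitive.le_normalizer_of_le_centralizer fun x hx => ?_
            rw [Subgroup.mem_centralizer_iff]
            exact fun y hy => Subtype.ext (hTC _ hy _ hx.1)
          · intro u hu
            rw [Subgroup.mem_normalizer_iff]
            intro x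
            simp only [Subgroup.mem_inf]
            exact and_congr (Subgroup.mem_normalizer_iff.mp
              (show u ∈ Subgroup.normalizer ((T.subgroupOf H : Subgroup H) : Set H) by
                rw [Subgroup.normalizer_eq_top_iff.mpr hTn']; trivial) x)
              (Subgroup.mem_normalizer_iff.mp (Subgroup.le_normalizer hu) x)
        have h2 := Subgroup.le_normalizer_map (H := T.subgroupOf H ⊓ S) H.subtype
        rw [Subgroup.normalizer_eq_top_iff.mpr h1, ← MonoidHom.range_eq_map, Subgroup.range_subtype] at h2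
        exact h2
      have hbot : K = ⊥ := (hTmin K hKT hKn).resolve_right fun e => hne (by
        obtain ⟨x, hx, hx0⟩ := (e.symm ▸ ht0 : t0 ∈ K)
        have := (hSmem x).mp hx.2
        rw [show (x : G) = t0 from hx0] at this
        exact this)
      have : t ∈ K := ⟨⟨t, hTH ht⟩, ⟨ht, (hSmem _).mpr htm⟩, rfl⟩
      rwa [hbot, Subgroup.mem_bot] at this
    · haveI := hTn'
      have h1 : (⟨h, hh⟩ : H) ∈ T.subgroupOf H ⊔ S := by rw [hsup]; trivial
      obtain ⟨t, ht, s, hs, e⟩ := Subgroup.mem_sup_of_normal_left.mp h1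
      refine ⟨t, ht, ?_⟩
      have e' : (t : G) * s = h := congrArg Subtype.val e
      rw [← e']
      calc (t : G) * s * m * ((t : G) * s)⁻¹ = t * ((s : G) * m) * (s : G)⁻¹ * (t : G)⁻¹ := by group
        _ = _ := by rw [(hSmem s).mp hs]; group
  obtain ⟨⟨m0, hm0⟩, hm0'⟩ := M.ne_bot_iff_exists_ne_one.mp hM1
  have hm01 : m0 ≠ 1 := fun e => hm0' (Subtype.ext e)
  -- orbits have the size of `T`
  have horb : ∀ ω : Ω, ω ≠ α → Nat.card (MulAction.orbit H ω) = Nat.card T := by
    intro ω hω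
    obtain ⟨m, hm, rfl⟩ := hsurjα ω
    have hm1 : m ≠ 1 := fun e => hω (by rw [e, one_smul])
    obtain ⟨kfree, ktrans⟩ := key m hm hm1
    refine (Nat.card_eq_of_bijective (fun t : T => (⟨(⟨t, hTH t.2⟩ : H) • m • α,
      MulAction.mem_orbit _ _⟩ : MulAction.orbit H (m • α))) ⟨fun a b e => ?_, ?_⟩).symm
    · have e' : (a : G) • m • α = (b : G) • m • α := congrArg Subtype.val e
      refine Subtype.ext (inv_mul_eq_one.mp (kfree _ (mul_mem (inv_mem b.2) a.2) ?_)).symm
      have h2 : ((b : G)⁻¹ * a) • m • α = m • α := by rw [mul_smul, e', inv_smul_smul]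
      rw [hsmul _ (mul_mem (inv_mem (hTH b.2)) (hTH a.2)) m] at h2
      exact mul_inv_eq_iff_eq_mul.mp (hinjα _ (Subgroup.Normal.conj_mem hMn m hm _) _ hm h2)
    · rintro ⟨_, ⟨h, rfl⟩⟩
      obtain ⟨t, ht, e⟩ := ktrans h h.2
      refine ⟨⟨t, ht⟩, Subtype.ext ?_⟩
      show t • m • α = (h : G) • m • α
      rw [hsmul t (hTH ht), hsmul _ h.2, e]
  -- `T` has order `q`, dividing `p ^ d - 1`
  have hfree : ∀ t ∈ T, ∀ m ∈ M, m ≠ 1 → t * m = m * t → t = 1 := fun t ht m hm hm1 =>
    (key m hm hm1).1 t ht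
  have hTM : T ≤ Subgroup.normalizer (M : Set G) := by
    rw [Subgroup.normalizer_eq_top_iff.mpr hMn]; exact le_top
  have hTdvd : Nat.card T ∣ p ^ d - 1 := by
    let act : MulAction T {m : M // m ≠ 1} :=
      { smul := fun t m => ⟨MulAut.conjNormal (t : G) m.1, fun e => m.2 ((MulAut.conjNormal (t : G)).map_eq_one_iff.mp e)⟩
        one_smul := fun m => Subtype.ext (by show MulAut.conjNormal ((1 : T) : G) m.1 = m.1; simp)
        mul_smul := fun a b m => Subtype.ext (by
          show MulAut.conjNormal ((a * b : T) : G) m.1 = _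
          rw [Subgroup.coe_mul, map_mul]; rfl) }
    have hst : ∀ x : {m : M // m ≠ 1}, MulAction.stabilizer T x = ⊥ := fun x => by
      rw [Subgroup.eq_bot_iff_forall]
      intro t ht
      refine Subtype.ext (hfree t t.2 x.1 x.1.2 (fun e => x.2 (Subtype.ext e)) ?_)
      have := congrArg (fun y : {m : M // m ≠ 1} => ((y.1 : M) : G)) (MulAction.mem_stabilizer_iff.mp ht)
      change ((MulAut.conjNormal (t : G) x.1 : M) : G) = _ at this
      rw [MulAut.conjNormal_apply] at this
      exact mul_inv_eq_iff_eq_mul.mp this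
    have h1 := Nat.card_congr (MulAction.selfEquivOrbitsQuotientProd hst)
    rw [Nat.card_prod] at h1
    have h2 : Nat.card {m : M // m ≠ 1} = p ^ d - 1 := by
      haveI := Fintype.ofFinite M
      rw [Nat.card_eq_fintype_card, Fintype.card_subtype_compl, ← Nat.card_eq_fintype_card, hMcard]
      simp
    exact ⟨_, h2.symm.trans (h1.trans (mul_comm _ _))⟩
  have hTcard : Nat.card T = q := by
    have hcop : (Nat.card T).Coprime (Nat.card M) := by
      rw [hMcard]
      refine Nat.Coprime.pow_right d ((Nat.Prime.coprime_iff_not_dvd hp).mpr fun h => ?_).symm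
      have h1 := h.trans hTdvd
      have h2 : p ∣ p ^ d := dvd_pow_self p hd.ne'
      exact hp.not_dvd_one (by simpa [Nat.sub_sub_self (Nat.one_le_pow d p hp.pos)] using Nat.dvd_sub h2 h1)
    have hcyc : IsCyclic T := by
      by_contra hnc
      refine hM1 ((Coprime.iSup_centralizer_eq hnc hTM hcop).symm.trans ?_)
      simp only [iSup_eq_bot]
      rintro t ⟨ht, ht1⟩
      rw [Subgroup.eq_bot_iff_forall]
      intro m hm
      by_contra hm1
      exact ht1 (hfree t ht m hm.1 hm1 (Subgroup.mem_centralizer_singleton_iff.mp hm.2).symm)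
    obtain ⟨g, hg⟩ := hcyc.exists_ofOrder_eq_natCard
    have hgq : g ^ q = 1 := Subtype.ext (by simpa using hTexp g g.2)
    rcases (Nat.dvd_prime hq).mp (orderOf_dvd_of_pow_eq_one hgq) with e | e
    · exact absurd (Subgroup.card_eq_one.mp (hg.symm.trans e)) hT1
    · exact hg.symm.trans e
  -- the generator and its linearization
  obtain ⟨⟨t, htT⟩, ht1'⟩ := T.ne_bot_iff_exists_ne_one.mp hT1
  have ht1 : t ≠ 1 := fun e => ht1' (Subtype.ext e)
  have htq : orderOf t = q := orderOf_eq_prime (hTexp t htT) ht1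
  have hTz : Subgroup.zpowers t = T := Subgroup.eq_of_le_of_card_ge (Subgroup.zpowers_le.mpr htT)
    (by rw [hTcard, Nat.card_zpowers, htq])
  letI : CommGroup M := { (inferInstance : Group M) with mul_comm := hMcomm.is_comm.comm }
  let L : G →* MulAut M := MulAut.conjNormal
  have hLapp : ∀ (g : G) (m : M), ((L g m : M) : G) = g * m * g⁻¹ := fun g m =>
    MulAut.conjNormal_apply g m
  have hirr : ∀ S : Subgroup M, (∀ v ∈ S, L t v ∈ S) → S = ⊥ ∨ S = ⊤ := by
    intro S hS
    have hSn : ∀ (n : ℕ) (v : M), v ∈ S → L (t ^ n) v ∈ S := fun n => by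
      induction n with
      | zero => intro v hv; simpa using hv
      | succ n ih => intro v hv; rw [pow_succ, map_mul, MulAut.mul_apply]; exact ih _ (hS v hv)
    have hKn : H ≤ Subgroup.normalizer ((S.map M.subtype : Subgroup G) : Set G) := by
      intro h hh
      rw [Subgroup.mem_normalizer_iff_map_conj_eq]
      refine Subgroup.eq_of_le_of_card_ge ?_ ?_
      · rintro _ ⟨_, ⟨⟨m, hmM⟩, hmS, rfl⟩, rfl⟩
        show h * m * h⁻¹ ∈ S.map M.subtype
        by_cases hm1 : m = 1
        · rw [hm1, mul_one, mul_inv_cancel]; exact one_mem _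
        obtain ⟨s, hs, e⟩ := (key m hmM hm1).2 h hh
        rw [e]
        rw [← hTz, mem_zpowers_iff_mem_range_orderOf] at hs
        obtain ⟨n, -, rfl⟩ := Finset.mem_image.mp hs
        exact ⟨L (t ^ n) ⟨m, hmM⟩, hSn n _ hmS, hLapp _ _⟩
      · exact (Subgroup.card_map_of_injective (MulAut.conj h).injective).ge
    rcases hirr0 _ (Subgroup.map_subtype_le S) hKn with e | e
    · exact Or.inl ((Subgroup.map_eq_bot_iff_of_injective _ M.subtype_injective).mp e)
    · refine Or.inr (Subgroup.map_injective M.subtype_injective (e.trans ?_))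
      rw [← MonoidHom.range_eq_map, Subgroup.range_subtype]
  have hLt1 : L t ≠ 1 := fun e => ht1 (hfree t htT m0 hm0 hm01 (by
    have := hLapp t ⟨m0, hm0⟩
    rw [e] at this
    exact mul_inv_eq_iff_eq_mul.mp this.symm))
  obtain ⟨hprimq, hnormq⟩ := Perm.IrreduciblePrimeOrder.group_facts (p := p) (q := q) (d := d)
    (fun m : M => Subtype.ext (by simpa using hMexp m m.2)) hq hMcard (L t)
    (by rw [← map_pow, hTexp t htT, map_one]) hLt1 hirr
  -- the action on `T`
  have hqd : q ∣ p ^ d - 1 := hTcard ▸ hTdvd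
  have hpu : ¬ q ∣ p := fun h => hq.not_dvd_one (by
    have h1 : q ∣ p ^ d := h.trans (dvd_pow_self p hd.ne')
    simpa [Nat.sub_sub_self (Nat.one_le_pow d p hp.pos)] using Nat.dvd_sub h1 hqd)
  have hp0 : ((p : ℕ) : ZMod q) ≠ 0 := fun h => hpu ((ZMod.natCast_eq_zero_iff p q).mp h)
  set u : (ZMod q)ˣ := Units.mk0 _ hp0 with hu
  have huord : orderOf u ∣ d := orderOf_dvd_of_pow_eq_one (Units.ext (by
    rw [Units.val_pow_eq_pow_val, Units.val_one, hu, Units.val_mk0]
    have h1 := (ZMod.natCast_eq_zero_iff (p ^ d - 1) q).mpr hqd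
    rw [Nat.cast_sub (Nat.one_le_pow d p hp.pos), sub_eq_zero] at h1
    simpa using h1))
  have hex : ∀ h : H, ∃ a : ℕ, (h : G) * t * (h : G)⁻¹ = t ^ a := fun h => by
    have h1 : (h : G) * t * (h : G)⁻¹ ∈ Subgroup.zpowers t := by
      rw [hTz]; exact (Subgroup.mem_normalizer_iff.mp (hTn h.2) t).mp htT
    rw [mem_zpowers_iff_mem_range_orderOf] at h1
    obtain ⟨a, -, ha⟩ := Finset.mem_image.mp h1
    exact ⟨a, ha.symm⟩
  choose af haf using hex
  have hau : ∀ h : H, ∃ i : ℕ, (af h : ZMod q) = ((u ^ i : (ZMod q)ˣ) : ZMod q) := fun h => by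
    obtain ⟨i, hi⟩ := hnormq (af h) (L h) (by
      rw [← map_pow, ← haf, ← map_mul, ← map_mul, inv_mul_cancel_right])
    refine ⟨i, ?_⟩
    rw [Units.val_pow_eq_pow_val, hu, Units.val_mk0, ← Nat.cast_pow]
    exact (ZMod.natCast_eq_natCast_iff _ _ _).mpr hi
  let χ : H →* (ZMod q)ˣ :=
    { toFun := fun h => Units.mk0 (af h : ZMod q) (by
        obtain ⟨i, hi⟩ := hau h; rw [hi]; exact Units.ne_zero _)
      map_one' := Units.ext (by
        have h1 : t ^ af 1 = t ^ 1 := by rw [← haf]; simp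
        rw [pow_eq_pow_iff_modEq, htq] at h1
        simpa using (ZMod.natCast_eq_natCast_iff _ _ _).mpr h1)
      map_mul' := fun a b => Units.ext (by
        have h1 : t ^ af (a * b) = t ^ (af a * af b) := by
          rw [← haf, pow_mul, ← haf a, conj_pow, ← haf b, Subgroup.coe_mul]; group
        rw [pow_eq_pow_iff_modEq, htq] at h1
        simpa using (ZMod.natCast_eq_natCast_iff _ _ _).mpr h1) }
  have hker : χ.ker = T.subgroupOf H := by
    ext h
    have hmem : h ∈ χ.ker ↔ (h : G) * t = t * h := by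
      rw [MonoidHom.mem_ker, ← mul_inv_eq_iff_eq_mul, haf]
      constructor
      · intro e
        have h1 : ((af h : ℕ) : ZMod q) = ((1 : ℕ) : ZMod q) := by
          rw [Nat.cast_one]; exact congrArg Units.val e
        rw [ZMod.natCast_eq_natCast_iff, ← htq, ← pow_eq_pow_iff_modEq] at h1
        simpa using h1
      · intro e
        have h1 : t ^ af h = t ^ 1 := by rw [e, pow_one]
        rw [pow_eq_pow_iff_modEq, htq] at h1
        refine Units.ext ?_
        show ((af h : ℕ) : ZMod q) = 1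
        simpa using (ZMod.natCast_eq_natCast_iff _ _ _).mpr h1
    rw [hmem, Subgroup.mem_subgroupOf]
    refine ⟨fun e => ?_, fun hh => hTC _ hh _ htT⟩
    obtain ⟨s, hs, es⟩ := (key m0 hm0 hm01).2 h h.2
    -- `c` centralizes `T` and fixes `m0`
    set c := s⁻¹ * (h : G) with hc
    have hsc : Commute s⁻¹ t := (show Commute s t from hTC s hs t htT).inv_left
    have hct : Commute c t := hsc.mul_left (show Commute (h : G) t from e)
    have hcm : c * m0 * c⁻¹ = m0 := by
      rw [hc, show s⁻¹ * (h : G) * m0 * (s⁻¹ * (h : G))⁻¹ = s⁻¹ * ((h : G) * m0 * (h : G)⁻¹) * s by group, es]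
      group
    have hcH : c ∈ H := mul_mem (inv_mem (hTH hs)) h.2
    have hKn : ∀ m ∈ M, ∀ k ∈ T, c * m * c⁻¹ = m → c * (k * m * k⁻¹) * c⁻¹ = k * m * k⁻¹ := by
      intro m _ k hk em
      have hck : Commute c k := by
        obtain ⟨n, -, rfl⟩ := Finset.mem_image.mp (by
          rw [← hTz, mem_zpowers_iff_mem_range_orderOf] at hk; exact hk)
        exact hct.pow_right n
      calc c * (k * m * k⁻¹) * c⁻¹ = (c * k) * m * (c * k)⁻¹ := by group
        _ = (k * c) * m * (k * c)⁻¹ := by rw [hck.eq]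
        _ = k * (c * m * c⁻¹) * k⁻¹ := by group
        _ = _ := by rw [em]
    let K : Subgroup G := M ⊓ Subgroup.centralizer {c}
    have hKmem : ∀ m, m ∈ K ↔ m ∈ M ∧ c * m * c⁻¹ = m := fun m => by
      rw [Subgroup.mem_inf, Subgroup.mem_centralizer_singleton_iff, mul_inv_eq_iff_eq_mul]
      exact and_congr_right fun _ => eq_comm
    have hKH : H ≤ Subgroup.normalizer (K : Set G) := by
      intro g hg
      rw [Subgroup.mem_normalizer_iff_map_conj_eq]
      refine Subgroup.eq_of_le_of_card_ge ?_ ?_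
      · rintro _ ⟨m, hm, rfl⟩
        show g * m * g⁻¹ ∈ K
        by_cases hm1 : m = 1
        · rw [hm1, mul_one, mul_inv_cancel]; exact one_mem K
        obtain ⟨hmM, hmc⟩ := (hKmem m).mp hm
        obtain ⟨k, hk, ek⟩ := (key m hmM hm1).2 g hg
        rw [ek]
        exact (hKmem _).mpr ⟨Subgroup.Normal.conj_mem hMn m hmM k, hKn m hmM k hk hmc⟩
      · rw [Subgroup.card_map_of_injective (MulAut.conj g).injective]
    have hKM : K = M := (hirr0 K inf_le_left hKH).resolve_left fun e0 => hm01 (by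
      have : m0 ∈ K := (hKmem m0).mpr ⟨hm0, hcm⟩
      rwa [e0, Subgroup.mem_bot] at this)
    have hc1 : c ∈ H ⊓ Subgroup.centralizer (M : Set G) := ⟨hcH, Subgroup.mem_centralizer_iff.mpr fun m hm => by
      have : c * m * c⁻¹ = m := ((hKmem m).mp (hKM.symm ▸ hm)).2
      exact (mul_inv_eq_iff_eq_mul.mp this).symm⟩
    rw [hfaith, Subgroup.mem_bot, hc, inv_mul_eq_one] at hc1
    rw [← hc1]; exact hs
  have hrange : χ.range ≤ Subgroup.zpowers u := by
    rintro _ ⟨h, rfl⟩
    obtain ⟨i, hi⟩ := hau h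
    exact ⟨i, Units.ext (by show ((u ^ (i : ℤ) : (ZMod q)ˣ) : ZMod q) = _; rw [zpow_natCast, ← hi]; rfl)⟩
  haveI : IsCyclic χ.range := Subgroup.isCyclic_of_le hrange
  obtain ⟨⟨_, h, rfl⟩, hgen⟩ := IsCyclic.exists_generator (α := χ.range)
  refine ⟨q, hq, fun ω hω => (horb ω hω).trans hTcard, hqd, hprimq, T, hTH, hTn, hTcard,
    ⟨h, ?_⟩, ?_⟩
  · refine le_antisymm (fun g hg => ?_) (sup_le hTH (Subgroup.zpowers_le.mpr h.2))
    obtain ⟨n, hn⟩ := hgen ⟨χ ⟨g, hg⟩, ⟨_, rfl⟩⟩
    have h1 : (⟨g, hg⟩ : H) * (h ^ n)⁻¹ ∈ χ.ker := by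
      rw [MonoidHom.mem_ker, map_mul, map_inv, map_zpow, mul_inv_eq_one]
      exact (congrArg Subtype.val hn).symm
    rw [hker, Subgroup.mem_subgroupOf] at h1
    have h2 := mul_mem (Subgroup.mem_sup_left h1 (T := Subgroup.zpowers (h : G)))
      (Subgroup.mem_sup_right (S := T) (zpow_mem (Subgroup.mem_zpowers (h : G)) n))
    simpa using h2
  · have h1 := χ.ker.card_mul_index
    rw [Subgroup.index_ker, hker, Nat.card_congr (Subgroup.subgroupOfEquivOfLe hTH).toEquiv,
      hTcard] at h1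
    rw [← h1]
    refine mul_dvd_mul_left q ((Subgroup.card_dvd_of_le hrange).trans ?_)
    rw [Nat.card_zpowers]
    exact huord

end Cfsg.Agent.S3496
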