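import Cfsg.Statements.S3497
import Mathlib
import Cfsg.Agent.Lib.Cores.Fitting
import Cfsg.Agent.Lib.Recognition.ExtremelyPrimitive

set_option autoImplicit false
set_option linter.style.haveILetI false
open Cfsg
open MulAction
open Cfsg.Agent.Lib.Recognition

namespace Cfsg.Agent.S3497

/-- Restrictions on the point stabilizer of an extremely primitive group. Let a finite group G act faithfully and primitively on a finite set Ω with point stabilizers H = G_α whose order is neither 1 nor a prime, each acting primitively on every one of its orbits. Then H has trivial center, the Fitting subgroup F(H) is an elementary abelian p-group for some prime p, and if F(H) ≠ 1 has order p ^ e then p ^ e divides the number of points minus one and H / F(H) embeds in GL_e(p) (there is a homomorphism from H to GL_e(p) with kernel exactly F(H)). -/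
theorem result {G : Type*} [Group G] [Finite G] {Ω : Type*} [Fintype Ω] [MulAction G Ω] [FaithfulSMul G Ω] (hprim : MulAction.IsPreprimitive G Ω) (hep : ∀ (α : Ω) (ω : Ω), MulAction.IsPreprimitive (MulAction.stabilizer G α) (MulAction.orbit (MulAction.stabilizer G α) ω)) (α : Ω)
    (hH1 : MulAction.stabilizer G α ≠ ⊥) (hHp : ¬ (Nat.card (MulAction.stabilizer G α)).Prime) :
    Subgroup.center (MulAction.stabilizer G α) = ⊥ ∧
    IsMulCommutative (Cfsg.fittingSubgroup (MulAction.stabilizer G α)) ∧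
    ∃ p e : ℕ, p.Prime ∧ Nat.card (Cfsg.fittingSubgroup (MulAction.stabilizer G α)) = p ^ e ∧
      (∀ x ∈ Cfsg.fittingSubgroup (MulAction.stabilizer G α), x ^ p = 1) ∧
      (Cfsg.fittingSubgroup (MulAction.stabilizer G α) ≠ ⊥ →
        p ^ e ∣ Fintype.card Ω - 1 ∧
        ∃ φ : MulAction.stabilizer G α →* GL (Fin e) (ZMod p), φ.ker = Cfsg.fittingSubgroup (MulAction.stabilizer G α)) := by
  classical
  haveI := hprim
  have hH : ∀ β : Ω, stabilizer G β ≠ ⊥ := by
    intro β hβ
    obtain ⟨c, hc⟩ := exists_smul_eq G β α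
    have e : Nat.card (stabilizer G β) = Nat.card (stabilizer G α) := by
      subst hc
      exact Nat.card_congr (stabilizerEquivStabilizer rfl).toEquiv
    rw [hβ, Subgroup.card_bot] at e
    exact hH1 (Subgroup.eq_bot_of_card_eq _ e.symm)
  set H := stabilizer G α with hHdef
  have faith : ∀ ω, ω ≠ α → ∀ h : H, (∀ x ∈ orbit H ω, h • x = x) → h = 1 := fun ω hω h hx =>
    Subtype.ext (eq_one_of_fixes_suborbit hprim hH hep hω h.2 hx)
  have trans : ∀ ω, ω ≠ α → ∀ A : Subgroup H, A.Normal → A ≠ ⊥ → ∀ y ∈ orbit H ω, ∃ a ∈ A, a • ω = y := by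
    intro ω hω A hA hA1 y hy
    haveI := hep α ω
    haveI := hA
    haveI : IsPretransitive A (orbit H ω) := by
      refine IsQuasiPreprimitive.isPretransitive_of_normal (G := H) fun h => hA1 ?_
      rw [Subgroup.eq_bot_iff_forall]
      intro a ha
      refine faith ω hω a fun x hx => ?_
      have hz : (⟨x, hx⟩ : orbit H ω) ∈ fixedPoints A (orbit H ω) := by rw [h]; trivial
      exact congrArg Subtype.val (hz ⟨a, ha⟩)
    obtain ⟨⟨a, ha⟩, hay⟩ := exists_smul_eq A (⟨ω, mem_orbit_self ω⟩ : orbit H ω) ⟨y, hy⟩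
    exact ⟨a, ha, congrArg Subtype.val hay⟩
  -- a point stabilizer of an orbit centralizing a transitive normal subgroup is trivial
  have semi : ∀ ω, ω ≠ α → ∀ A : Subgroup H, A.Normal → A ≠ ⊥ → ∀ h : H, (∀ a ∈ A, a * h = h * a) → h • ω = ω → h = 1 := by
    intro ω hω A hA hA1 h hc hfix
    refine faith ω hω h fun x hx => ?_
    obtain ⟨a, ha, rfl⟩ := trans ω hω A hA hA1 x hx
    rw [← mul_smul, ← hc a ha, mul_smul, hfix]
  obtain ⟨ω, hω⟩ : ∃ ω : Ω, ω ≠ α := by
    by_contra h
    push_neg at h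
    apply hH1
    rw [Subgroup.eq_bot_iff_forall]
    intro g hg
    exact eq_of_smul_eq_smul (α := Ω) fun x => by rw [h x, show g • α = α from hg, one_smul]
  have hbig : ∀ ω, ω ≠ α → Nontrivial (orbit H ω) := by
    intro ω hω
    by_contra h
    rw [not_nontrivial_iff_subsingleton] at h
    apply hH1
    rw [Subgroup.eq_bot_iff_forall]
    intro g hg
    have := faith ω hω ⟨g, hg⟩ fun x hx =>
      congrArg Subtype.val (Subsingleton.elim (⟨(⟨g, hg⟩ : H) • x, mem_orbit_of_mem_orbit _ hx⟩ : orbit H ω) ⟨x, hx⟩)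
    exact congrArg Subtype.val this
  have hcen : Subgroup.center H = ⊥ := by
    by_contra hZ
    apply hHp
    have hst : ∀ h : H, h • ω = ω → h = 1 := fun h => semi ω hω _ inferInstance hZ h fun a ha => (Subgroup.mem_center_iff.1 ha h).symm
    haveI := hep α ω
    haveI := hbig ω hω
    have hco := (isCoatom_stabilizer_iff_preprimitive (G := H) (⟨ω, mem_orbit_self ω⟩ : orbit H ω)).2 (hep α ω)
    have hbot : stabilizer H (⟨ω, mem_orbit_self ω⟩ : orbit H ω) = ⊥ :=
      (Subgroup.eq_bot_iff_forall _).2 fun h hh => hst h (congrArg Subtype.val hh)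
    rw [hbot] at hco
    have hne : Nat.card H ≠ 1 := fun h => hH1 (Subgroup.eq_bot_of_card_eq _ h)
    obtain ⟨p, hp, hpH⟩ := Nat.exists_prime_and_dvd hne
    haveI := Fact.mk hp
    obtain ⟨g, hg⟩ := exists_prime_orderOf_dvd_card' p hpH
    have htop : Subgroup.zpowers g = ⊤ := hco.2 _ (bot_lt_iff_ne_bot.2 fun h => by
      rw [Subgroup.zpowers_eq_bot] at h
      rw [h, orderOf_one] at hg
      exact hp.ne_one hg.symm)
    have : Nat.card H = p := by rw [← hg, ← Nat.card_zpowers, htop, Subgroup.card_top]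
    rw [this]; exact hp
  set F := Cfsg.fittingSubgroup H with hF
  refine ⟨hcen, ?_⟩
  by_cases hF1 : F = ⊥
  · refine ⟨by rw [hF1]; exact ⟨⟨fun a b => Subsingleton.elim _ _⟩⟩, 2, 0, Nat.prime_two, by rw [hF1, Subgroup.card_bot, pow_zero], fun x hx => ?_, fun h => absurd hF1 h⟩
    rw [hF1, Subgroup.mem_bot] at hx
    rw [hx, one_pow]
  haveI : F.Normal := Cfsg.Agent.Lib.Cores.fittingSubgroup_normal H
  haveI : Group.IsNilpotent F := Cfsg.Agent.Lib.Cores.fittingSubgroup_isNilpotent H
  haveI : Nontrivial F := (Subgroup.nontrivial_iff_ne_bot F).2 hF1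
  let A : Subgroup H := (Subgroup.center F).map F.subtype
  haveI hAn : A.Normal := ConjAct.normal_of_characteristic_of_normal
  have hA1 : A ≠ ⊥ := by
    intro h
    exact Group.IsNilpotent.center_ne_bot F ((Subgroup.map_eq_bot_iff_of_injective _ F.subtype_injective).1 h)
  have hcomA : ∀ a ∈ A, ∀ f ∈ F, a * f = f * a := by
    rintro _ ⟨a, ha, rfl⟩ f hf
    exact (congrArg Subtype.val (Subgroup.mem_center_iff.1 ha ⟨f, hf⟩)).symm
  have hFA : ∀ f ∈ F, f ∈ A := by
    intro f hf
    obtain ⟨a, ha, hae⟩ := trans ω hω A hAn hA1 (f • ω) (mem_orbit _ _)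
    have haF : a ∈ F := Subgroup.map_subtype_le _ ha
    have h1 : a⁻¹ * f = 1 := semi ω hω A hAn hA1 _ (fun b hb => by
      have e1 := hcomA b hb f hf
      have e2 := hcomA b hb _ (inv_mem haF)
      rw [← mul_assoc, e2, mul_assoc, e1, mul_assoc]) (by rw [mul_smul, inv_smul_eq_iff, hae])
    rw [← inv_mul_eq_one.1 h1]; exact ha
  have hFc : ∀ a ∈ F, ∀ b ∈ F, a * b = b * a := fun a ha b hb => hcomA a (hFA a ha) b hb
  have hFcomm : IsMulCommutative F := ⟨⟨fun a b => Subtype.ext (hFc a a.2 b b.2)⟩⟩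
  refine ⟨hFcomm, ?_⟩
  obtain ⟨p, hp, hpF⟩ := Nat.exists_prime_and_dvd (Finite.one_lt_card (α := F)).ne'
  haveI := Fact.mk hp
  let V : Subgroup H :=
    { carrier := {v | v ∈ F ∧ v ^ p = 1}
      one_mem' := ⟨F.one_mem, one_pow p⟩
      mul_mem' := fun {a b} ha hb => ⟨F.mul_mem ha.1 hb.1, by rw [(show Commute a b from hFc a ha.1 b hb.1).mul_pow, ha.2, hb.2, one_mul]⟩
      inv_mem' := fun {a} ha => ⟨F.inv_mem ha.1, by rw [inv_pow, ha.2, inv_one]⟩ }
  have hVn : V.Normal := ⟨fun v hv g => ⟨‹F.Normal›.conj_mem v hv.1 g, by rw [conj_pow, hv.2, mul_one, mul_inv_cancel]⟩⟩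
  have hV1 : V ≠ ⊥ := by
    obtain ⟨g, hg⟩ := exists_prime_orderOf_dvd_card' p hpF
    intro h
    have hgV : (g : H) ∈ V := ⟨g.2, by rw [← SubgroupClass.coe_pow, ← hg, pow_orderOf_eq_one, OneMemClass.coe_one]⟩
    rw [h, Subgroup.mem_bot, ← orderOf_eq_one_iff, Subgroup.orderOf_coe, hg] at hgV
    exact hp.ne_one hgV
  have helem : ∀ f ∈ F, f ^ p = 1 := by
    intro f hf
    obtain ⟨v, hv, hve⟩ := trans ω hω V hVn hV1 (f • ω) (mem_orbit _ _)
    have h1 : v⁻¹ * f = 1 := semi ω hω V hVn hV1 _ (fun b hb => hFc b hb.1 _ (F.mul_mem (F.inv_mem hv.1) hf))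
      (by rw [mul_smul, inv_smul_eq_iff, hve])
    rw [← inv_mul_eq_one.1 h1]; exact hv.2
  letI : CommGroup F := { (inferInstance : Group F) with mul_comm := fun a b => Subtype.ext (hFc a a.2 b b.2) }
  haveI : Module (ZMod p) (Additive F) := AddCommGroup.zmodModule fun x => by
    apply Additive.toMul.injective
    rw [toMul_nsmul, toMul_zero]
    exact Subtype.ext (helem _ x.toMul.2)
  set e := Module.finrank (ZMod p) (Additive F) with he
  have hcardF : Nat.card F = p ^ e := by
    rw [← Nat.card_congr (Additive.toMul (α := F)), Module.natCard_eq_pow_finrank (K := ZMod p), Nat.card_zmod]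
  refine ⟨p, e, hp, hcardF, helem, fun _ => ⟨?_, ?_⟩⟩
  · -- all nontrivial suborbits have `p ^ e` points
    have horb : ∀ x, x ≠ α → Nat.card (orbit H x) = Nat.card F := by
      intro x hx
      refine (Nat.card_congr (Equiv.ofBijective (fun f : F => (⟨(f : H) • x, mem_orbit _ _⟩ : orbit H x)) ⟨?_, ?_⟩)).symm
      · intro a b hab
        have h1 : (b : H)⁻¹ * a = 1 := semi x hx F inferInstance hF1 _
          (fun c hc => hFc c hc _ (F.mul_mem (F.inv_mem b.2) a.2))
          (by rw [mul_smul, inv_smul_eq_iff]; exact congrArg Subtype.val hab)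
        exact Subtype.ext (inv_mul_eq_one.1 h1).symm
      · rintro ⟨y, hy⟩
        obtain ⟨a, ha, hay⟩ := trans x hx F inferInstance hF1 y hy
        exact ⟨⟨a, ha⟩, Subtype.ext hay⟩
    let S := SubMulAction.ofStabilizer G α
    haveI := Fintype.ofFinite (orbitRel.Quotient H S)
    have h1 : Nat.card S = ∑ _o : orbitRel.Quotient H S, Nat.card F := by
      rw [Nat.card_congr (selfEquivSigmaOrbits H S), Nat.card_sigma]
      refine Finset.sum_congr rfl fun o _ => ?_
      rw [← horb (o.out : Ω) o.out.2]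
      have himg : (Subtype.val : S → Ω) '' orbit H o.out = orbit H (o.out : Ω) := by
        rw [orbit, orbit, ← Set.range_comp]
        rfl
      rw [← himg, Nat.card_image_of_injective Subtype.val_injective]
    have h2 : Nat.card S = Fintype.card Ω - 1 := by
      show Nat.card ({α}ᶜ : Set Ω) = _
      rw [Nat.card_coe_set_eq, Set.ncard_compl, Set.ncard_singleton, Nat.card_eq_fintype_card]
    rw [← hcardF, ← h2, h1, Finset.sum_const, smul_eq_mul]
    exact dvd_mul_left _ _
  · let act : H →* Module.End (ZMod p) (Additive F) :=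
      { toFun := fun h => (MonoidHom.toAdditive (MulAut.conjNormal h : MulAut F).toMonoidHom).toZModLinearMap p
        map_one' := LinearMap.ext fun x => Additive.toMul.injective (Subtype.ext (show (1 : H) * _ * (1 : H)⁻¹ = _ by simp))
        map_mul' := fun a b => LinearMap.ext fun x => Additive.toMul.injective (Subtype.ext (show (a * b) * _ * (a * b)⁻¹ = a * (b * _ * b⁻¹) * a⁻¹ by group)) }
    let bas := Module.finBasisOfFinrankEq (ZMod p) (Additive F) he.symm
    let M : H →* Matrix (Fin e) (Fin e) (ZMod p) := (LinearMap.toMatrixAlgEquiv bas).toMulEquiv.toMonoidHom.comp act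
    refine ⟨M.toHomUnits, ?_⟩
    ext h
    rw [MonoidHom.mem_ker]
    have hiff : M.toHomUnits h = 1 ↔ act h = 1 := by
      rw [← Units.val_inj, MonoidHom.coe_toHomUnits, Units.val_one]
      exact (LinearMap.toMatrixAlgEquiv bas).toMulEquiv.map_eq_one_iff
    rw [hiff]
    constructor
    · intro hh
      obtain ⟨a, ha, hae⟩ := trans ω hω F inferInstance hF1 (h • ω) (mem_orbit _ _)
      have hcom : ∀ f ∈ F, f * h = h * f := fun f hf => by
        have := congrArg (fun L : Module.End (ZMod p) (Additive F) => ((L (Additive.ofMul ⟨f, hf⟩)).toMul : H)) hh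
        change h * f * h⁻¹ = f at this
        exact (mul_inv_eq_iff_eq_mul.1 this).symm
      have h1 : a⁻¹ * h = 1 := semi ω hω F inferInstance hF1 _ (fun b hb => by
        rw [← mul_assoc, hFc b hb _ (inv_mem ha), mul_assoc, hcom b hb, mul_assoc]) (by rw [mul_smul, inv_smul_eq_iff, hae])
      rw [← inv_mul_eq_one.1 h1]; exact ha
    · intro hh
      refine LinearMap.ext fun x => Additive.toMul.injective (Subtype.ext ?_)
      show h * (x.toMul : H) * h⁻¹ = x.toMul
      rw [hFc h hh _ x.toMul.2, mul_inv_cancel_right]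


end Cfsg.Agent.S3497
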