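import Cfsg.Statements.S3498

set_option autoImplicit false
set_option linter.style.haveILetI false
open Cfsg

namespace Cfsg.Agent.S3498

/-- A maximal subgroup of a finite almost simple group does not have prime order. Here G is almost simple in the sense that it has a non-abelian simple normal subgroup T with trivial centralizer. -/
theorem result {G : Type*} [Group G] [Finite G] (T : Subgroup G) [T.Normal] (hT : IsSimpleGroup T) (hTc : ¬ IsMulCommutative T)
    (hC : Subgroup.centralizer (T : Set G) = ⊥) (H : Subgroup G) (hmax : IsCoatom H) : ¬ (Nat.card H).Prime := by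
  classical
  intro hp
  set p := Nat.card H with hpdef
  haveI := Fact.mk hp
  haveI hTnt : Nontrivial T := hT.toNontrivial
  have hTne : T ≠ ⊥ := T.nontrivial_iff_ne_bot.1 hTnt
  have hTnp : ∀ r : ℕ, r.Prime → ¬ IsPGroup r T := by
    intro r hr h
    haveI := Fact.mk hr
    have hnt := h.center_nontrivial
    rcases hT.eq_bot_or_eq_top_of_normal (Subgroup.center T) inferInstance with hb | ht
    · exact (Subgroup.nontrivial_iff_ne_bot _).1 hnt hb
    · exact hTc ⟨⟨fun a b => (Subgroup.mem_center_iff.1 (ht ▸ Subgroup.mem_top b) a)⟩⟩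
  have hnn : ¬ H.Normal := by
    intro hn
    by_cases hle : H ≤ T
    · have hsub : (H.subgroupOf T).Normal := inferInstance
      rcases hT.eq_bot_or_eq_top_of_normal _ hsub with hb | ht
      · rw [Subgroup.subgroupOf_eq_bot] at hb
        have : H = ⊥ := hb.eq_bot_of_le hle
        rw [hpdef, this, Subgroup.card_bot] at hp
        exact Nat.not_prime_one hp
      · rw [Subgroup.subgroupOf_eq_top] at ht
        have : T = H := le_antisymm ht hle
        subst this
        haveI : IsCyclic T := isCyclic_of_prime_card (p := Nat.card T) rfl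
        exact hTc ⟨⟨fun a b => (IsCyclic.isMulCommutative (α := T)).is_comm.comm a b⟩⟩
    · have hnle := hle
      have hdis : H ⊓ T = ⊥ := by
        haveI : Fact (Nat.card H).Prime := ⟨hp⟩
        rcases (H ⊓ T |>.subgroupOf H).eq_bot_or_eq_top_of_prime_card with hb | ht
        · rw [Subgroup.subgroupOf_eq_bot] at hb; exact hb.eq_bot_of_le inf_le_left
        · rw [Subgroup.subgroupOf_eq_top] at ht; exact absurd (ht.trans inf_le_right) hnle
      have hle : H ≤ Subgroup.centralizer (T : Set G) := fun h hh =>
        Subgroup.mem_centralizer_iff.2 fun t ht => Subgroup.commute_of_normal_of_disjoint T H ‹_› hn (disjoint_iff.2 (inf_comm H T ▸ hdis)) t h ht hh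
      rw [hC, le_bot_iff] at hle
      rw [hpdef, hle, Subgroup.card_bot] at hp
      exact Nat.not_prime_one hp
  have hN : Subgroup.normalizer (H : Set G) = H := by
    by_contra h
    exact hnn (Subgroup.normalizer_eq_top_iff.1 (hmax.2 _ (lt_of_le_of_ne Subgroup.le_normalizer (Ne.symm h))))
  have hHp : IsPGroup p H := IsPGroup.of_card (n := 1) (pow_one p).symm
  obtain ⟨S, hS⟩ := hHp.exists_le_sylow
  have hSH : (S : Subgroup G) = H := by
    refine le_antisymm ?_ hS
    by_contra hne
    haveI : Group.IsNilpotent (S : Subgroup G) := S.2.isNilpotent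
    have hlt : H.subgroupOf S < ⊤ := lt_top_iff_ne_top.2 fun h => hne (Subgroup.subgroupOf_eq_top.1 h)
    obtain ⟨⟨x, hxS⟩, hx, hxn⟩ := SetLike.exists_of_lt (normalizerCondition_of_isNilpotent (H.subgroupOf S) hlt)
    refine hxn ?_
    rw [Subgroup.mem_subgroupOf]
    show x ∈ H
    rw [← hN, Subgroup.mem_normalizer_iff]
    intro y
    constructor
    · intro hy
      exact (Subgroup.mem_normalizer_iff.1 hx ⟨y, hS hy⟩).1 hy
    · intro hy
      have hyS : y ∈ (S : Subgroup G) := by
        have := mul_mem (mul_mem (inv_mem hxS) (hS hy)) hxS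
        simpa [mul_assoc] using this
      exact (Subgroup.mem_normalizer_iff.1 hx ⟨y, hyS⟩).2 hy
  by_cases hpT : p ∣ Nat.card T
  · have hcyc : IsCyclic H := isCyclic_of_prime_card (p := p) hpdef.symm
    have hcent : Subgroup.normalizer ((S : Subgroup G) : Set G) ≤ Subgroup.centralizer ((S : Subgroup G) : Set G) := by
      rw [hSH, hN]
      intro x hx
      exact Subgroup.mem_centralizer_iff.2 fun y hy => congrArg Subtype.val ((IsCyclic.isMulCommutative (α := H)).is_comm.comm ⟨y, hy⟩ ⟨x, hx⟩)
    have hcompl := MonoidHom.ker_transferSylow_isComplement' S hcent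
    set K := (MonoidHom.transferSylow S hcent).ker
    rcases hT.eq_bot_or_eq_top_of_normal (K.subgroupOf T) inferInstance with hb | ht
    · have hinj : Function.Injective ((QuotientGroup.mk' K).comp T.subtype) := by
        rw [← MonoidHom.ker_eq_bot_iff]
        refine eq_bot_iff.2 fun x hx => ?_
        rw [← hb]
        show (x : G) ∈ K
        exact (QuotientGroup.eq_one_iff (x : G)).1 hx
      have hdvd : Nat.card T ∣ p := by
        have h1 : Nat.card (G ⧸ K) = p := by
          rw [← Subgroup.index_eq_card, hcompl.symm.index_eq_card, hSH]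
        rw [← h1]
        exact Subgroup.card_dvd_of_injective _ hinj
      exact hTnp p hp (IsPGroup.of_card (n := 1) (by rw [pow_one]; exact Nat.dvd_antisymm hdvd hpT))
    · rw [Subgroup.subgroupOf_eq_top] at ht
      have h1 : p ∣ Nat.card K := hpT.trans (Subgroup.card_dvd_of_le ht)
      have h2 : Nat.card K = (S : Subgroup G).index := hcompl.index_eq_card.symm
      exact S.not_dvd_index (h2 ▸ h1)
  · obtain ⟨r, hr, hrT⟩ := Nat.exists_prime_and_dvd (n := Nat.card T) Finite.one_lt_card.ne'
    haveI := Fact.mk hr
    -- H fixes a Sylow r-subgroup of T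
    let act : MulAction H (Sylow r T) := MulAction.compHom _ ((MulAut.conjNormal (H := T)).comp H.subtype)
    letI := act
    have hnd : ¬ p ∣ Nat.card (Sylow r T) := fun h => hpT (h.trans (by
      obtain ⟨R⟩ := (inferInstance : Nonempty (Sylow r T))
      exact R.card_dvd_index.trans (R : Subgroup T).index_dvd_card))
    obtain ⟨R, hR⟩ := hHp.nonempty_fixed_point_of_prime_not_dvd_card (Sylow r T) hnd
    set R' : Subgroup G := (R : Subgroup T).map T.subtype with hR'
    have hnorm : H ≤ Subgroup.normalizer (R' : Set G) := by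
      intro h hh
      refine Subgroup.mem_normalizer_fintype (S := (R' : Set G)) (x := h) fun y hy => ?_
      obtain ⟨⟨y, hyT⟩, hyR, rfl⟩ := Subgroup.mem_map.1 hy
      have hfix : (⟨h, hh⟩ : H) • R = R := hR ⟨h, hh⟩
      refine Subgroup.mem_map.2 ⟨MulAut.conjNormal h ⟨y, hyT⟩, ?_, by simp⟩
      rw [← hfix]
      exact Subgroup.smul_mem_pointwise_smul _ _ _ hyR
    have hRne : R' ≠ ⊥ := by
      rw [hR', Ne, Subgroup.map_eq_bot_iff_of_injective _ T.subtype_injective]
      exact R.ne_bot_of_dvd_card hrT
    have hRT : R' ≤ T := Subgroup.map_subtype_le _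
    rcases eq_or_lt_of_le (show H ≤ H ⊔ R' from le_sup_left) with heq | hlt
    · have h1 : R' ≤ H := heq ▸ le_sup_right
      have h2 : Nat.card R' ∣ p := Subgroup.card_dvd_of_le h1
      rcases (Nat.dvd_prime hp).1 h2 with h3 | h3
      · exact hRne (Subgroup.eq_bot_of_card_eq _ h3)
      · exact hpT (h3 ▸ Subgroup.card_dvd_of_le hRT)
    · have htop : Subgroup.normalizer (R' : Set G) = ⊤ :=
        top_le_iff.1 ((hmax.2 _ hlt) ▸ sup_le hnorm Subgroup.le_normalizer)
      haveI : R'.Normal := Subgroup.normalizer_eq_top_iff.1 htop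
      rcases hT.eq_bot_or_eq_top_of_normal (R'.subgroupOf T) inferInstance with hb | ht
      · rw [Subgroup.subgroupOf_eq_bot] at hb
        exact hRne (hb.eq_bot_of_le hRT)
      · rw [Subgroup.subgroupOf_eq_top] at ht
        have : IsPGroup r R' := R.2.map _
        exact hTnp r hr (this.to_le ht)


end Cfsg.Agent.S3498
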