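import Cfsg.Statements.S3501
import Mathlib.GroupTheory.GroupAction.Primitive
import Mathlib.GroupTheory.GroupAction.Quotient
import Mathlib.GroupTheory.GroupAction.MultipleTransitivity
import Mathlib.GroupTheory.PGroup

set_option autoImplicit false
open Cfsg
open scoped Pointwise

namespace Cfsg.Agent.S3501

theorem sum_fix {G Ω : Type*} [Group G] [MulAction G Ω] [Fintype G] [Finite Ω]
    [MulAction.IsPretransitive G Ω] [Nonempty Ω] :
    ∑ g : G, Nat.card (MulAction.fixedBy Ω g) = Fintype.card G := by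
  classical
  letI : Fintype Ω := Fintype.ofFinite Ω
  haveI : Subsingleton (Quotient (MulAction.orbitRel G Ω)) :=
    (MulAction.pretransitive_iff_subsingleton_quotient G Ω).mp inferInstance
  haveI : Nonempty (Quotient (MulAction.orbitRel G Ω)) :=
    ⟨Quotient.mk _ (Classical.arbitrary Ω)⟩
  letI : Unique (Quotient (MulAction.orbitRel G Ω)) :=
    uniqueOfSubsingleton (Classical.arbitrary _)
  have h := MulAction.sum_card_fixedBy_eq_card_orbits_mul_card_group G Ω
  simp only [Fintype.card_unique, one_mul] at h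
  simpa [Nat.card_eq_fintype_card] using h

theorem exists_derangement {G Ω : Type*} [Group G] [MulAction G Ω] [Finite G] [Finite Ω]
    [MulAction.IsPretransitive G Ω] (h2 : 2 ≤ Nat.card Ω) :
    ∃ g : G, ∀ ω : Ω, g • ω ≠ ω := by
  classical
  letI : Fintype G := Fintype.ofFinite G
  haveI : Nonempty Ω := (Nat.card_pos_iff.mp (by omega)).1
  by_contra hc
  push Not at hc
  have hlt : ∑ _g : G, 1 < ∑ g : G, Nat.card (MulAction.fixedBy Ω g) := by
    refine Finset.sum_lt_sum (fun g _ => ?_) ⟨1, Finset.mem_univ 1, ?_⟩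
    · obtain ⟨ω, hω⟩ := hc g
      exact Nat.card_pos_iff.mpr ⟨⟨⟨ω, hω⟩⟩, inferInstance⟩
    · have : MulAction.fixedBy Ω (1 : G) = Set.univ := by ext; simp
      rw [this, Nat.card_congr (Equiv.Set.univ Ω)]
      omega
  rw [sum_fix] at hlt
  simp at hlt

/-- an element commuting with a transitive subgroup and fixing a point acts trivially -/
theorem eq_one_of_fix {G Ω : Type*} [Group G] [MulAction G Ω] [FaithfulSMul G Ω] {N : Subgroup G}
    (htr : ∀ a b : Ω, ∃ n ∈ N, n • a = b) {x : G} (hx : ∀ n ∈ N, n * x = x * n) {a : Ω}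
    (ha : x • a = a) : x = 1 := by
  apply eq_of_smul_eq_smul (α := Ω)
  intro b
  obtain ⟨n, hn, rfl⟩ := htr a b
  rw [one_smul, smul_smul, ← hx n hn, mul_smul, ha]

theorem mem_sup_iff_of_norm {G : Type*} [Group G] {C K : Subgroup G}
    (h : K ≤ Subgroup.normalizer (C : Set G)) {x : G} :
    x ∈ C ⊔ K ↔ ∃ c ∈ C, ∃ k ∈ K, c * k = x := by
  rw [← SetLike.mem_coe, Subgroup.coe_mul_of_right_le_normalizer_left C K h, Set.mem_mul]
  rfl

theorem mem_norm_iff {G : Type*} [Group G] [Finite G] {C : Subgroup G} {x : G}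
    (h : ∀ c ∈ C, x * c * x⁻¹ ∈ C) : x ∈ Subgroup.normalizer (C : Set G) := by
  have hmap : C.map (MulAut.conj x).toMonoidHom = C := by
    refine Subgroup.eq_of_le_of_card_ge ?_
      (Subgroup.card_map_of_injective (MulAut.conj x).injective).ge
    rintro y ⟨c, hc, rfl⟩
    simpa using h c hc
  rw [Subgroup.mem_normalizer_iff]
  intro c
  refine ⟨fun hc => h c hc, fun hc => ?_⟩
  rw [← hmap] at hc
  obtain ⟨d, hd, hde⟩ := hc
  simp only [MulEquiv.coe_toMonoidHom, MulAut.conj_apply] at hde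
  have : d = c := mul_left_cancel (mul_right_cancel hde)
  exact this ▸ hd

section main

variable {G : Type*} [Group G] [Finite G] {Ω : Type*} [Fintype Ω] [MulAction G Ω]
  [FaithfulSMul G Ω]

/-- the key case: a nonabelian, non-simple minimal normal subgroup gives two classes -/
theorem not_unique_of_nonabelian (hΩ : 2 ≤ Fintype.card Ω)
    (hprim : MulAction.IsPreprimitive G Ω)
    (hconj : ∀ d d' : G, (∀ ω : Ω, d • ω ≠ ω) → (∀ ω : Ω, d' • ω ≠ ω) → IsConj d d')
    (N : Subgroup G) (hN : N.Normal) (hmin : ∀ M : Subgroup G, M.Normal → M ≤ N → M ≠ ⊥ → M = N)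
    (htr : ∀ a b : Ω, ∃ n ∈ N, n • a = b)
    (hnab : ∃ x ∈ N, ∃ y ∈ N, x * y ≠ y * x)
    (hns : ∃ K : Subgroup G, K ≤ N ∧ K ≠ ⊥ ∧ K ≠ N ∧ ∀ n ∈ N, ∀ k ∈ K, n * k * n⁻¹ ∈ K) :
    False := by
  classical
  haveI : Nontrivial Ω := Fintype.one_lt_card_iff_nontrivial.mp hΩ
  -- a minimal subgroup normalized by `N`
  obtain ⟨T, ⟨hTN, hT1, hTnorm⟩, hTmin⟩ :=
    (Set.toFinite {K : Subgroup G | K ≤ N ∧ K ≠ ⊥ ∧ ∀ n ∈ N, ∀ k ∈ K, n * k * n⁻¹ ∈ K}).exists_minimal
      (by obtain ⟨K, h1, h2, -, h4⟩ := hns; exact ⟨K, h1, h2, h4⟩)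
  have hTeq : ∀ K : Subgroup G, K ≤ T → K ≠ ⊥ → (∀ n ∈ N, ∀ k ∈ K, n * k * n⁻¹ ∈ K) → K = T :=
    fun K h1 h2 h3 => le_antisymm h1 (hTmin ⟨h1.trans hTN, h2, h3⟩ h1)
  -- conjugates of `T`
  let Tc : G → Subgroup G := fun g => T.map (MulAut.conj g).toMonoidHom
  have hTc_mem : ∀ g x, x ∈ Tc g ↔ g⁻¹ * x * g ∈ T := by
    intro g x
    constructor
    · rintro ⟨t, ht, rfl⟩
      simpa [mul_assoc] using ht
    · intro h
      exact ⟨g⁻¹ * x * g, h, by simp [mul_assoc]⟩
  have hTcN : ∀ g, Tc g ≤ N := by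
    intro g x hx
    have := hN.conj_mem _ (hTN ((hTc_mem g x).mp hx)) g
    simpa [mul_assoc] using this
  have hTcnorm : ∀ g, ∀ n ∈ N, ∀ k ∈ Tc g, n * k * n⁻¹ ∈ Tc g := by
    intro g n hn k hk
    rw [hTc_mem] at hk ⊢
    have hn' : g⁻¹ * n * g ∈ N := by simpa using hN.conj_mem n hn g⁻¹
    simpa [mul_assoc] using hTnorm _ hn' _ hk
  have hTccases : ∀ g, Tc g = T ∨ ∀ x ∈ Tc g, ∀ t ∈ T, x * t = t * x := by
    intro g
    by_cases hint : T ⊓ Tc g = ⊥
    · right
      intro x hx t ht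
      have h1 : x * t * x⁻¹ * t⁻¹ ∈ T ⊓ Tc g := by
        refine ⟨T.mul_mem (hTnorm x (hTcN g hx) t ht) (T.inv_mem ht), ?_⟩
        have h := hTcnorm g t (hTN ht) x⁻¹ ((Tc g).inv_mem hx)
        simpa [mul_assoc] using (Tc g).mul_mem hx h
      rw [hint, Subgroup.mem_bot] at h1
      exact commutatorElement_eq_one_iff_mul_comm.mp h1
    · left
      have hle : T ⊓ Tc g = T := hTeq _ inf_le_left hint
        fun n hn k hk => ⟨hTnorm n hn k hk.1, hTcnorm g n hn k hk.2⟩
      exact (Subgroup.eq_of_le_of_card_ge (hle ▸ inf_le_right : T ≤ Tc g)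
        (Subgroup.card_map_of_injective (MulAut.conj g).injective).le).symm
  let C : G → Subgroup G := fun g => Subgroup.centralizer (Tc g : Set G) ⊓ N
  have hTc1 : Tc 1 = T := by
    ext x
    rw [hTc_mem]
    simp
  have hCmem : ∀ x, x ∈ C 1 ↔ (∀ t ∈ T, t * x = x * t) ∧ x ∈ N := by
    intro x
    show x ∈ Subgroup.centralizer (Tc 1 : Set G) ⊓ N ↔ _
    rw [hTc1, Subgroup.mem_inf, Subgroup.mem_centralizer_iff]
    rfl
  -- `N = T * C`
  let P : Subgroup G :=
    { carrier := {x | ∃ t ∈ T, ∃ c ∈ C 1, x = t * c}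
      mul_mem' := by
        rintro _ _ ⟨t₁, ht₁, c₁, hc₁, rfl⟩ ⟨t₂, ht₂, c₂, hc₂, rfl⟩
        refine ⟨t₁ * t₂, T.mul_mem ht₁ ht₂, c₁ * c₂, (C 1).mul_mem hc₁ hc₂, ?_⟩
        have := ((hCmem c₁).mp hc₁).1 t₂ ht₂
        calc t₁ * c₁ * (t₂ * c₂) = t₁ * (c₁ * t₂) * c₂ := by group
          _ = t₁ * (t₂ * c₁) * c₂ := by rw [this]
          _ = t₁ * t₂ * (c₁ * c₂) := by group
      one_mem' := ⟨1, T.one_mem, 1, (C 1).one_mem, by simp⟩
      inv_mem' := by
        rintro _ ⟨t, ht, c, hc, rfl⟩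
        refine ⟨t⁻¹, T.inv_mem ht, c⁻¹, (C 1).inv_mem hc, ?_⟩
        rw [mul_inv_rev]
        exact (((hCmem _).mp ((C 1).inv_mem hc)).1 t⁻¹ (T.inv_mem ht)).symm }
  have hgen : ∀ g, Tc g ≤ P := by
    intro g x hx
    rcases hTccases g with h | h
    · exact ⟨x, h ▸ hx, 1, (C 1).one_mem, by simp⟩
    · exact ⟨1, T.one_mem, x, (hCmem x).mpr ⟨fun t ht => (h x hx t ht).symm, hTcN g hx⟩, by simp⟩
  have hsup : (⨆ g, Tc g) = N := by
    refine hmin _ ⟨fun x hx k => ?_⟩ (iSup_le hTcN) ?_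
    · have hmap : (⨆ g, Tc g).map (MulAut.conj k).toMonoidHom ≤ ⨆ g, Tc g := by
        rw [Subgroup.map_iSup]
        refine iSup_le fun g => le_trans ?_ (le_iSup Tc (k * g))
        rintro _ ⟨y, hy, rfl⟩
        rw [hTc_mem]
        rw [SetLike.mem_coe, hTc_mem] at hy
        simpa [mul_assoc] using hy
      simpa using hmap ⟨x, hx, rfl⟩
    · intro h
      have := (le_iSup Tc 1).trans h.le
      rw [hTc1, le_bot_iff] at this
      exact hT1 this
  have hNP : ∀ n ∈ N, ∃ t ∈ T, ∃ c ∈ C 1, n = t * c := fun n hn =>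
    (iSup_le hgen : (⨆ g, Tc g) ≤ P) (hsup.symm ▸ hn)
  -- trivial intersection
  have hdisj : ∀ x ∈ T, x ∈ C 1 → x = 1 := by
    intro x hxT hxC
    by_contra hx1
    have hne : T ⊓ C 1 ≠ ⊥ := fun h => hx1 (Subgroup.mem_bot.mp (h ▸ ⟨hxT, hxC⟩))
    have hfix : ∀ n ∈ N, ∀ k ∈ T ⊓ C 1, n * k * n⁻¹ ∈ T ⊓ C 1 := by
      intro n hn k hk
      obtain ⟨t, ht, c, hc, rfl⟩ := hNP n hn
      have h1 : c * k = k * c := (((hCmem c).mp hc).1 k hk.1).symm
      have h2 : t * k = k * t := ((hCmem k).mp hk.2).1 t ht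
      have : t * c * k * (t * c)⁻¹ = k := by
        rw [mul_inv_eq_iff_eq_mul, mul_assoc, h1, ← mul_assoc, h2, mul_assoc]
      rwa [this]
    have heq := hTeq _ inf_le_left hne hfix
    have hTab : ∀ t ∈ T, ∀ t' ∈ T, t * t' = t' * t := fun t ht t' ht' => by
      rw [← heq] at ht'
      exact ((hCmem t').mp ht'.2).1 t ht
    have hall : ∀ g, ∀ y ∈ Tc g, ∀ t ∈ T, y * t = t * y := fun g y hy t ht => by
      rcases hTccases g with h | h
      · exact hTab y (h ▸ hy) t ht
      · exact h y hy t ht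
    have hNc : N ≤ Subgroup.centralizer (T : Set G) := hsup ▸ iSup_le fun g y hy =>
      Subgroup.mem_centralizer_iff.mpr fun t ht => (hall g y hy t ht).symm
    have hTZ : T ≤ Subgroup.centralizer (N : Set G) ⊓ N := fun t ht =>
      ⟨Subgroup.mem_centralizer_iff.mpr fun n hn =>
        (Subgroup.mem_centralizer_iff.mp (hNc hn) t ht).symm, hTN ht⟩
    haveI := hN
    have hZ := hmin (Subgroup.centralizer (N : Set G) ⊓ N) inferInstance inf_le_right
      (fun h => hT1 (le_bot_iff.mp (h ▸ hTZ)))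
    obtain ⟨u, hu, v, hv, huv⟩ := hnab
    rw [← hZ] at hv
    exact huv (Subgroup.mem_centralizer_iff.mp hv.1 u hu)
  -- stabilizers
  let S : Ω → Subgroup G := fun b => N ⊓ MulAction.stabilizer G b
  have hCnorm : ∀ g, ∀ n ∈ N, n ∈ Subgroup.normalizer (C g : Set G) := by
    intro g n hn
    refine mem_norm_iff fun c hc => ⟨?_, N.mul_mem (N.mul_mem hn hc.2) (N.inv_mem hn)⟩
    refine Subgroup.mem_centralizer_iff.mpr fun y hy => ?_
    have hy' := hTcnorm g n⁻¹ (N.inv_mem hn) y hy
    have := Subgroup.mem_centralizer_iff.mp hc.1 _ hy'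
    rw [inv_inv] at this
    calc y * (n * c * n⁻¹) = n * ((n⁻¹ * y * n) * c) * n⁻¹ := by group
      _ = n * (c * (n⁻¹ * y * n)) * n⁻¹ := by rw [this]
      _ = n * c * n⁻¹ * y := by group
  have hsupmem : ∀ g b x, x ∈ C g ⊔ S b ↔ ∃ c ∈ C g, ∃ k ∈ S b, c * k = x := fun g b x =>
    mem_sup_iff_of_norm (K := S b) fun k hk => hCnorm g k hk.1
  have hStriv : ∀ b, ∀ K : Subgroup G, K ≤ S b → (∀ n ∈ N, ∀ k ∈ K, n * k * n⁻¹ ∈ K) → K = ⊥ := by
    intro b K hK hKn
    rw [eq_bot_iff]
    intro k hk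
    rw [Subgroup.mem_bot]
    apply eq_of_smul_eq_smul (α := Ω)
    intro c
    obtain ⟨n, hn, rfl⟩ := htr b c
    have h1 : (n⁻¹ * k * n) • b = b := by
      have := (hK (hKn n⁻¹ (N.inv_mem hn) k hk)).2
      rwa [inv_inv] at this
    rw [one_smul]
    have := congrArg (fun z => n • z) h1
    simpa [smul_smul, mul_assoc] using this
  by_cases hA : ∃ b, T ≤ C 1 ⊔ S b
  · -- `T` is semiregular
    obtain ⟨b, hb⟩ := hA
    have hbot : T ⊓ S b = ⊥ := by
      refine hStriv b _ inf_le_right fun n hn k hk => ?_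
      obtain ⟨t, ht, c, hc, rfl⟩ := hNP n hn
      obtain ⟨c', hc', s, hs, rfl⟩ := (hsupmem 1 b t).mp (hb ht)
      have hsk : s * k * s⁻¹ ∈ T ⊓ S b :=
        ⟨hTnorm s hs.1 k hk.1, (S b).mul_mem ((S b).mul_mem hs hk.2) ((S b).inv_mem hs)⟩
      have h1 : c * k = k * c := (((hCmem c).mp hc).1 k hk.1).symm
      have h2 := ((hCmem c').mp hc').1 _ hsk.1
      have : c' * s * c * k * (c' * s * c)⁻¹ = s * k * s⁻¹ := by
        calc c' * s * c * k * (c' * s * c)⁻¹ = c' * s * (c * k) * c⁻¹ * s⁻¹ * c'⁻¹ := by group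
          _ = c' * (s * k * s⁻¹) * c'⁻¹ := by rw [h1]; group
          _ = s * k * s⁻¹ := by rw [← h2]; group
      rwa [this]
    have hder : ∀ t ∈ T, t ≠ 1 → ∀ ω : Ω, t • ω ≠ ω := by
      intro t ht ht1 ω hω
      obtain ⟨n, hn, rfl⟩ := htr b ω
      have hmem : n⁻¹ * t * n ∈ T ⊓ S b := by
        have hT' := hTnorm n⁻¹ (N.inv_mem hn) t ht
        rw [inv_inv] at hT'
        refine ⟨hT', hTN hT', ?_⟩
        show (n⁻¹ * t * n) • b = b
        rw [mul_smul, mul_smul, hω, inv_smul_smul]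
      rw [hbot, Subgroup.mem_bot] at hmem
      apply ht1
      calc t = n * (n⁻¹ * t * n) * n⁻¹ := by group
        _ = 1 := by rw [hmem]; group
    obtain ⟨p, hp, hpT⟩ := Nat.exists_prime_and_dvd (n := Nat.card T) (fun h =>
      hT1 (Subgroup.card_eq_one.mp h))
    haveI := Fact.mk hp
    obtain ⟨x, hx⟩ := exists_prime_orderOf_dvd_card' p hpT
    have hx1 : (x : G) ≠ 1 := fun h => by
      rw [Subtype.ext (h.trans (Subgroup.coe_one T).symm), orderOf_one] at hx
      exact hp.ne_one hx.symm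
    have hTp : IsPGroup p T := by
      intro y
      by_cases hy : (y : G) = 1
      · exact ⟨0, by rw [pow_zero, pow_one]; exact Subtype.ext hy⟩
      · refine ⟨1, ?_⟩
        obtain ⟨g, hg⟩ := isConj_iff.mp (hconj x y (hder _ x.2 hx1) (hder _ y.2 hy))
        apply Subtype.ext
        rw [pow_one, Subgroup.coe_pow, Subgroup.coe_one, ← hg, conj_pow, ← Subgroup.coe_pow,
          ← hx, pow_orderOf_eq_one, Subgroup.coe_one]
        group
    haveI : Nontrivial T := (Subgroup.nontrivial_iff_ne_bot T).mpr hT1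
    haveI := IsPGroup.center_nontrivial hTp
    obtain ⟨⟨z, hz⟩, hz1⟩ := exists_ne (1 : Subgroup.center T)
    have hzC : (z : G) ∈ C 1 := (hCmem _).mpr ⟨fun t ht =>
      congrArg Subtype.val (Subgroup.mem_center_iff.mp hz ⟨t, ht⟩), hTN z.2⟩
    have := hdisj _ z.2 hzC
    exact hz1 (Subtype.ext (Subtype.ext this))
  · -- product case
    push Not at hA
    have hB : ∀ b, ∀ t ∈ T, t ∈ C 1 ⊔ S b → t • b = b := by
      intro b
      let M : Subgroup G := ⨅ g, (C g ⊔ S b)
      have hMS : S b ≤ M := le_iInf fun g => le_sup_right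
      have hMN : M ≤ N := (iInf_le _ 1).trans (sup_le inf_le_right inf_le_left)
      have hMnorm : MulAction.stabilizer G b ≤ Subgroup.normalizer (M : Set G) := by
        intro h hh
        refine mem_norm_iff fun x hx => ?_
        rw [Subgroup.mem_iInf] at hx ⊢
        intro g
        obtain ⟨c, hc, k, hk, rfl⟩ := (hsupmem _ b x).mp (hx (h⁻¹ * g))
        rw [hsupmem]
        refine ⟨h * c * h⁻¹, ⟨?_, hN.conj_mem c hc.2 h⟩, h * k * h⁻¹,
          ⟨hN.conj_mem k hk.1 h, ?_⟩, by group⟩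
        · refine Subgroup.mem_centralizer_iff.mpr fun y hy => ?_
          have hy' : h⁻¹ * y * h ∈ Tc (h⁻¹ * g) := by
            rw [hTc_mem]
            rw [SetLike.mem_coe, hTc_mem] at hy
            simpa [mul_assoc] using hy
          have := Subgroup.mem_centralizer_iff.mp hc.1 _ hy'
          calc y * (h * c * h⁻¹) = h * ((h⁻¹ * y * h) * c) * h⁻¹ := by group
            _ = h * (c * (h⁻¹ * y * h)) * h⁻¹ := by rw [this]
            _ = h * c * h⁻¹ * y := by group
        · exact (MulAction.stabilizer G b).mul_mem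
            ((MulAction.stabilizer G b).mul_mem hh hk.2) ((MulAction.stabilizer G b).inv_mem hh)
      have hMle : M ≤ MulAction.stabilizer G b := by
        by_contra hM
        haveI := hprim
        have hco : IsCoatom (MulAction.stabilizer G b) :=
          (MulAction.isCoatom_stabilizer_iff_preprimitive G b).mpr hprim
        have htop : M ⊔ MulAction.stabilizer G b = ⊤ :=
          hco.2 _ (lt_of_le_of_ne le_sup_right fun h => hM (h.symm ▸ le_sup_left))
        refine hA b fun t ht => iInf_le (fun g => C g ⊔ S b) 1 ?_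
        obtain ⟨m, hm, h, hh, hmh⟩ := (mem_sup_iff_of_norm hMnorm).mp
          (htop.symm ▸ Subgroup.mem_top t)
        have hh' : h ∈ S b := ⟨by
          have : h = m⁻¹ * t := by rw [← hmh]; group
          rw [this]
          exact N.mul_mem (N.inv_mem (hMN hm)) (hTN ht), hh⟩
        rw [← hmh]
        exact M.mul_mem hm (hMS hh')
      intro t ht htC
      refine hMle (Subgroup.mem_iInf.mpr fun g => ?_)
      rcases hTccases g with h | h
      · have : C g = C 1 := by
          show Subgroup.centralizer (Tc g : Set G) ⊓ N = Subgroup.centralizer (Tc 1 : Set G) ⊓ N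
          rw [h, hTc1]
        rwa [this]
      · exact Subgroup.mem_sup_left
          ⟨Subgroup.mem_centralizer_iff.mpr fun y hy => h y hy t ht, hTN ht⟩
    -- a derangement in `T`
    obtain ⟨a⟩ : Nonempty Ω := inferInstance
    have hR : ¬ T ≤ MulAction.stabilizer G a := fun h =>
      hT1 (hStriv a T (le_inf hTN h) hTnorm)
    let R : Subgroup T := (MulAction.stabilizer G a).subgroupOf T
    have hR2 : 2 ≤ Nat.card (T ⧸ R) := by
      have h1 : R.index ≠ 1 := fun h => hR (Subgroup.subgroupOf_eq_top.mp (Subgroup.index_eq_one.mp h))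
      have h2 : R.index ≠ 0 := Subgroup.index_ne_zero_of_finite
      show 2 ≤ R.index
      omega
    obtain ⟨t, htd⟩ := exists_derangement (G := T) hR2
    have ht1 : (t : G) ≠ 1 := fun h =>
      htd ((1 : T) : T ⧸ R) (by rw [Subtype.ext (h.trans (Subgroup.coe_one T).symm), one_smul])
    have htder : ∀ ω : Ω, (t : G) • ω ≠ ω := by
      intro ω hω
      obtain ⟨n, hn, rfl⟩ := htr a ω
      obtain ⟨u, hu, c, hc, rfl⟩ := hNP n hn
      refine htd ((⟨u, hu⟩ : T) : T ⧸ R) ?_
      show ((t * ⟨u, hu⟩ : T) : T ⧸ R) = ((⟨u, hu⟩ : T) : T ⧸ R)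
      rw [QuotientGroup.eq, Subgroup.mem_subgroupOf]
      have hv : u⁻¹ * (t : G)⁻¹ * u ∈ T := T.mul_mem (T.mul_mem (T.inv_mem hu) (T.inv_mem t.2)) hu
      have hcv := ((hCmem c).mp hc).1 _ hv
      have hst : (t : G)⁻¹ • (u * c) • a = (u * c) • a := by
        rw [inv_smul_eq_iff]
        exact hω.symm
      have : (u⁻¹ * (t : G)⁻¹ * u) • (c • a) = c • a := by
        rw [mul_smul, mul_smul, ← mul_smul u c, hst, mul_smul, inv_smul_smul]
      rw [smul_smul, hcv, mul_smul, smul_left_cancel_iff] at this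
      rw [MulAction.mem_stabilizer_iff]
      simpa [mul_assoc] using this
    -- a conjugate outside `T`
    obtain ⟨g, hg⟩ : ∃ g, Tc g ≠ T := by
      by_contra hall
      push Not at hall
      have h1 : T = N := by
        rw [← hsup]
        exact le_antisymm (hTc1.symm.le.trans (le_iSup Tc 1)) (iSup_le fun g => (hall g).le)
      obtain ⟨K, hK1, hK2, hK3, hK4⟩ := hns
      exact hK3 (hTeq K (h1.symm ▸ hK1) hK2 hK4 |>.trans h1)
    have hsmem : g * (t : G) * g⁻¹ ∈ C 1 := by
      have : g * (t : G) * g⁻¹ ∈ Tc g := (hTc_mem _ _).mpr (by simp [mul_assoc])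
      exact (hCmem _).mpr ⟨fun y hy => (((hTccases g).resolve_left hg) _ this y hy).symm,
        hTcN g this⟩
    set s := g * (t : G) * g⁻¹ with hs
    have htsder : ∀ ω : Ω, ((t : G) * s) • ω ≠ ω := by
      intro ω hω
      apply htder ω
      apply hB ω t t.2
      have h1 : (t : G) * s ∈ S ω := ⟨N.mul_mem (hTN t.2) hsmem.2, hω⟩
      have : (t : G) = s⁻¹ * ((t : G) * s) := by
        rw [((hCmem s).mp hsmem).1 t t.2]; group
      rw [this]
      exact Subgroup.mul_mem_sup ((C 1).inv_mem hsmem) h1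
    obtain ⟨k, hk⟩ := isConj_iff.mp (hconj t ((t : G) * s) htder htsder)
    have hmem : (t : G) * s ∈ Tc k := by
      rw [hTc_mem, ← hk]
      simp [mul_assoc]
    rcases hTccases k with h | h
    · rw [h] at hmem
      have hsT : s ∈ T := by
        have := T.mul_mem (T.inv_mem t.2) hmem
        rwa [inv_mul_cancel_left] at this
      have h1 := hdisj s hsT hsmem
      apply ht1
      rw [hs, conj_eq_one_iff] at h1
      exact h1
    · have hc : (t : G) * s ∈ C 1 :=
        (hCmem _).mpr ⟨fun y hy => (h _ hmem y hy).symm, hTcN k hmem⟩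
      have := (C 1).mul_mem hc ((C 1).inv_mem hsmem)
      rw [mul_inv_cancel_right] at this
      exact ht1 (hdisj _ t.2 this)

end main

/-- Let a finite group G act faithfully and primitively on a finite set Ω with at least two points, and suppose G is not almost simple (it has no non-abelian simple normal subgroup with trivial centralizer). Then the derangements of G form a single conjugacy class if and only if G is sharply 2-transitive (2-transitive, and no non-identity element fixes two points). -/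
theorem result {G : Type*} [Group G] [Finite G] {Ω : Type*} [Fintype Ω] [MulAction G Ω] [FaithfulSMul G Ω] (hΩ : 2 ≤ Fintype.card Ω) (hprim : MulAction.IsPreprimitive G Ω) (hnas : ¬ ∃ T : Subgroup G, T.Normal ∧ IsSimpleGroup T ∧ ¬ IsMulCommutative T ∧ Subgroup.centralizer (T : Set G) = ⊥) :
    Nat.card {c : ConjClasses G // ∃ g : G, ConjClasses.mk g = c ∧ ∀ ω : Ω, g • ω ≠ ω} = 1 ↔ (MulAction.IsMultiplyPretransitive G Ω 2 ∧ ∀ g : G, g ≠ 1 → ∀ a b : Ω, a ≠ b → g • a = a → g • b ≠ b) := by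
  classical
  letI : Fintype G := Fintype.ofFinite G
  haveI : Nontrivial Ω := Fintype.one_lt_card_iff_nontrivial.mp hΩ
  haveI := hprim
  have hΩ' : 2 ≤ Nat.card Ω := by rwa [Nat.card_eq_fintype_card]
  obtain ⟨d₀, hd₀⟩ := exists_derangement (G := G) (Ω := Ω) hΩ'
  have hequiv : Nat.card {c : ConjClasses G // ∃ g : G, ConjClasses.mk g = c ∧ ∀ ω : Ω, g • ω ≠ ω} = 1 ↔
      ∀ d d' : G, (∀ ω : Ω, d • ω ≠ ω) → (∀ ω : Ω, d' • ω ≠ ω) → IsConj d d' := by
    constructor
    · intro h d d' hd hd'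
      haveI := (Nat.card_eq_one_iff_unique.mp h).1
      exact ConjClasses.mk_eq_mk_iff_isConj.mp (congrArg Subtype.val
        (Subsingleton.elim (⟨_, d, rfl, hd⟩ :
          {c : ConjClasses G // ∃ g : G, ConjClasses.mk g = c ∧ ∀ ω : Ω, g • ω ≠ ω})
          ⟨_, d', rfl, hd'⟩))
    · intro h
      refine Nat.card_eq_one_iff_unique.mpr ⟨⟨?_⟩, ⟨⟨_, d₀, rfl, hd₀⟩⟩⟩
      rintro ⟨c, d, rfl, hd⟩ ⟨c', d', rfl, hd'⟩
      exact Subtype.ext (ConjClasses.mk_eq_mk_iff_isConj.mpr (h d d' hd hd'))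
  rw [hequiv]
  have hfix1 : Nat.card (MulAction.fixedBy Ω (1 : G)) = Fintype.card Ω := by
    have : MulAction.fixedBy Ω (1 : G) = Set.univ := by ext; simp
    rw [this, Nat.card_congr (Equiv.Set.univ Ω), Nat.card_eq_fintype_card]
  have hsum := sum_fix (G := G) (Ω := Ω)
  rw [← Finset.add_sum_erase _ _ (Finset.mem_univ (1 : G)), hfix1] at hsum
  set E := Finset.univ.erase (1 : G) with hE
  have hcardE : E.card + 1 = Fintype.card G := by
    rw [hE, Finset.card_erase_of_mem (Finset.mem_univ _), Finset.card_univ]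
    have : 0 < Fintype.card G := Fintype.card_pos
    omega
  constructor
  · intro hconj
    obtain ⟨N, ⟨hNn, hN1⟩, hNmin⟩ :=
      (Set.toFinite {K : Subgroup G | K.Normal ∧ K ≠ ⊥}).exists_minimal ⟨⊤, inferInstance, fun h => by
        apply hd₀ (Classical.arbitrary Ω)
        have : d₀ = 1 := Subgroup.mem_bot.mp (h ▸ Subgroup.mem_top d₀)
        rw [this, one_smul]⟩
    have hmin : ∀ M : Subgroup G, M.Normal → M ≤ N → M ≠ ⊥ → M = N := fun M h1 h2 h3 =>
      le_antisymm h2 (hNmin ⟨h1, h3⟩ h2)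
    have htrans : ∀ M : Subgroup G, M.Normal → M ≠ ⊥ → ∀ a b : Ω, ∃ n ∈ M, n • a = b := by
      intro M hM hM1 a b
      haveI := hM
      have h := MulAction.IsQuasiPreprimitive.isPretransitive_of_normal (G := G) (X := Ω) (N := M)
        (fun h => hM1 (by
          rw [eq_bot_iff]
          intro m hm
          rw [Subgroup.mem_bot]
          apply eq_of_smul_eq_smul (α := Ω)
          intro ω
          have : ω ∈ MulAction.fixedPoints M Ω := h ▸ Set.mem_univ ω
          rw [one_smul]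
          exact this ⟨m, hm⟩))
      obtain ⟨m, hm⟩ := h.exists_smul_eq a b
      exact ⟨m, m.2, hm⟩
    have htr := htrans N hNn hN1
    have hab : ∀ x ∈ N, ∀ y ∈ N, x * y = y * x := by
      by_contra hnab
      push Not at hnab
      have hC : Subgroup.centralizer (N : Set G) = ⊥ := by
        by_contra hC
        haveI := hNn
        have hZ : N ⊓ Subgroup.centralizer (N : Set G) = ⊥ := by
          by_contra hZ
          have hh := hmin _ inferInstance inf_le_left hZ
          obtain ⟨x, hx, y, hy, hxy⟩ := hnab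
          rw [← hh] at hy
          exact hxy (Subgroup.mem_centralizer_iff.mp hy.2 x hx)
        obtain ⟨c, hc, hc1⟩ := (Subgroup.bot_or_exists_ne_one _).resolve_left hC
        obtain ⟨n, hn, hn1⟩ := (Subgroup.bot_or_exists_ne_one N).resolve_left hN1
        have hdn : ∀ ω : Ω, n • ω ≠ ω := fun ω h => hn1 (eq_one_of_fix
          (htrans _ inferInstance hC)
          (fun k hk => (Subgroup.mem_centralizer_iff.mp hk n hn).symm) h)
        have hdc : ∀ ω : Ω, c • ω ≠ ω := fun ω h => hc1 (eq_one_of_fix htr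
          (fun k hk => Subgroup.mem_centralizer_iff.mp hc k hk) h)
        obtain ⟨k, hk⟩ := isConj_iff.mp (hconj n c hdn hdc)
        have : c ∈ N ⊓ Subgroup.centralizer (N : Set G) := ⟨hk ▸ hNn.conj_mem n hn k, hc⟩
        rw [hZ, Subgroup.mem_bot] at this
        exact hc1 this
      have hna : ¬ IsMulCommutative N := by
        intro h
        obtain ⟨x, hx, y, hy, hxy⟩ := hnab
        exact hxy (congrArg Subtype.val (h.is_comm.comm ⟨x, hx⟩ ⟨y, hy⟩))
      have hsimp : ¬ IsSimpleGroup N := fun h => hnas ⟨N, hNn, h, hna, hC⟩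
      apply not_unique_of_nonabelian hΩ hprim hconj N hNn hmin htr hnab
      by_contra hnone
      push Not at hnone
      apply hsimp
      haveI : Nontrivial N := (Subgroup.nontrivial_iff_ne_bot N).mpr hN1
      constructor
      intro K hK
      by_cases hK1 : K = ⊥
      · exact Or.inl hK1
      · right
        by_contra hKt
        have hm : K.map N.subtype ≠ ⊥ := fun h =>
          hK1 ((Subgroup.map_eq_bot_iff_of_injective _ N.subtype_injective).mp h)
        have hm' : K.map N.subtype ≠ N := fun h => hKt (by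
          apply Subgroup.map_injective N.subtype_injective
          rw [h, ← MonoidHom.range_eq_map, Subgroup.range_subtype])
        obtain ⟨n, hn, k, hk, hnk⟩ := hnone _ (Subgroup.map_subtype_le K) hm hm'
        obtain ⟨k', hk', rfl⟩ := hk
        exact hnk ⟨⟨n, hn⟩ * k' * ⟨n, hn⟩⁻¹, hK.conj_mem k' hk' _, rfl⟩
    -- regular abelian normal subgroup
    have hreg : ∀ n ∈ N, n ≠ 1 → ∀ ω : Ω, n • ω ≠ ω := fun n hn hn1 ω h =>
      hn1 (eq_one_of_fix htr (fun k hk => hab k hk n hn) h)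
    obtain ⟨n₀, hn₀, hn₀1⟩ := (Subgroup.bot_or_exists_ne_one N).resolve_left hN1
    have hDN : ∀ d : G, (∀ ω : Ω, d • ω ≠ ω) → d ∈ N := by
      intro d hd
      obtain ⟨k, hk⟩ := isConj_iff.mp (hconj n₀ d (hreg n₀ hn₀ hn₀1) hd)
      exact hk ▸ hNn.conj_mem n₀ hn₀ k
    refine ⟨?_, ?_⟩
    · rw [MulAction.is_two_pretransitive_iff]
      intro a b c e hab' hce
      obtain ⟨u, hu, hua⟩ := htr a b
      obtain ⟨m, hm, hma⟩ := htr a c
      obtain ⟨v, hv, hva⟩ := htr a (m⁻¹ • e)
      have hu1 : u ≠ 1 := fun h => hab' (by rw [← hua, h, one_smul])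
      have hv1 : v ≠ 1 := fun h => hce (by
        rw [h, one_smul] at hva
        rw [← hma, hva, smul_inv_smul])
      obtain ⟨g, hg⟩ := isConj_iff.mp (hconj u v (hreg u hu hu1) (hreg v hv hv1))
      obtain ⟨n, hn, hna⟩ := htr a (g • a)
      refine ⟨m * (n⁻¹ * g), ?_, ?_⟩
      · rw [mul_smul, mul_smul, ← hna, inv_smul_smul, hma]
      · have hcomm : n⁻¹ * g * u = v * (n⁻¹ * g) := by
          rw [mul_assoc, show g * u = v * g by rw [← hg]; group, ← mul_assoc, ← mul_assoc,
            hab n⁻¹ (N.inv_mem hn) v hv]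
        rw [← hua, smul_smul, mul_assoc, hcomm, mul_smul, mul_smul, mul_smul, ← hna,
          inv_smul_smul, hva, smul_inv_smul]
    · intro g hg a b hab' hga hgb
      have hgE : g ∈ E := by rw [hE]; simp [hg]
      have hN' : ∀ h ∈ E, h ∉ N → 1 ≤ Nat.card (MulAction.fixedBy Ω h) := by
        intro h _ hh
        by_contra hlt
        apply hh
        apply hDN
        intro ω hω
        exact hlt (Nat.card_pos_iff.mpr ⟨⟨⟨ω, hω⟩⟩, inferInstance⟩)
      have hgN : g ∉ N := fun h => hreg g h hg a hga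
      have hcN : (E.filter (· ∈ N)).card + 1 = Fintype.card Ω := by
        have hbij : Function.Bijective (fun n : N => (n : G) • a) := by
          constructor
          · intro n m hnm
            have : ((m : G)⁻¹ * n) • a = a := by rw [mul_smul, inv_smul_eq_iff]; exact hnm
            by_contra hne
            exact hreg _ (N.mul_mem (N.inv_mem m.2) n.2)
              (fun h => hne (Subtype.ext (inv_mul_eq_one.mp h).symm)) a this
          · intro ω
            obtain ⟨n, hn, hnω⟩ := htr a ω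
            exact ⟨⟨n, hn⟩, hnω⟩
        rw [← Fintype.card_of_bijective hbij, Fintype.card_subtype, hE,
          Finset.filter_erase, Finset.card_erase_of_mem (by simp)]
        have : 0 < (Finset.univ.filter (· ∈ N)).card := Finset.card_pos.mpr ⟨1, by simp⟩
        omega
      have h2 : 2 ≤ Nat.card (MulAction.fixedBy Ω g) := by
        haveI : Nontrivial (MulAction.fixedBy Ω g) :=
          ⟨⟨⟨a, hga⟩, ⟨b, hgb⟩, fun h => hab' (congrArg Subtype.val h)⟩⟩
        exact Finite.one_lt_card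
      have hlt : ∑ h ∈ E.filter (· ∉ N), 1 < ∑ h ∈ E.filter (· ∉ N), Nat.card (MulAction.fixedBy Ω h) :=
        Finset.sum_lt_sum (fun h hh => hN' h (Finset.mem_filter.mp hh).1 (Finset.mem_filter.mp hh).2)
          ⟨g, Finset.mem_filter.mpr ⟨hgE, hgN⟩, by omega⟩
      have hle : ∑ h ∈ E.filter (· ∉ N), Nat.card (MulAction.fixedBy Ω h) ≤
          ∑ h ∈ E, Nat.card (MulAction.fixedBy Ω h) :=
        Finset.sum_le_sum_of_subset (Finset.filter_subset _ _)
      have hsplit := Finset.card_filter_add_card_filter_not (s := E) (· ∈ N)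
      simp only [Finset.sum_const, smul_eq_mul, mul_one] at hlt
      omega
  · rintro ⟨h2t, hfree⟩ d d' hd hd'
    rw [MulAction.is_two_pretransitive_iff] at h2t
    set D := E.filter (fun h : G => ∀ ω : Ω, h • ω ≠ ω) with hD
    have hDmem : ∀ h : G, (∀ ω : Ω, h • ω ≠ ω) → h ∈ D := by
      intro h hh
      rw [hD, hE]
      simp only [Finset.mem_filter, Finset.mem_erase, Finset.mem_univ, and_true]
      exact ⟨fun h1 => hh (Classical.arbitrary Ω) (by rw [h1, one_smul]), hh⟩
    have hrest : ∑ h ∈ E, Nat.card (MulAction.fixedBy Ω h) =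
        (E.filter (fun h : G => ¬ ∀ ω : Ω, h • ω ≠ ω)).card := by
      rw [Finset.card_filter]
      refine Finset.sum_congr rfl fun h hh => ?_
      rw [hE, Finset.mem_erase] at hh
      split_ifs with hc
      · haveI : IsEmpty (MulAction.fixedBy Ω h) := ⟨fun x => hc x x.2⟩
        exact Nat.card_of_isEmpty
      · push Not at hc
        obtain ⟨ω, hω⟩ := hc
        haveI : Subsingleton (MulAction.fixedBy Ω h) := ⟨fun x y => by
          by_contra hxy
          exact hfree h hh.1 x y (fun h' => hxy (Subtype.ext h')) x.2 y.2⟩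
        exact Nat.card_eq_one_iff_unique.mpr ⟨inferInstance, ⟨⟨ω, hω⟩⟩⟩
    have hcardD : D.card + 1 = Fintype.card Ω := by
      have := Finset.card_filter_add_card_filter_not (s := E) (fun h : G => ∀ ω : Ω, h • ω ≠ ω)
      rw [← hD] at this
      omega
    -- derangements are determined by the image of a point
    obtain ⟨a⟩ : Nonempty Ω := inferInstance
    have hconjD : ∀ k h : G, (∀ ω : Ω, h • ω ≠ ω) → ∀ ω : Ω, (k * h * k⁻¹) • ω ≠ ω := by
      intro k h hh ω hω
      apply hh (k⁻¹ • ω)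
      have := congrArg (k⁻¹ • ·) hω
      simpa [smul_smul, mul_assoc] using this
    have hsurj : Set.SurjOn (fun h : G => h • a) D ((Finset.univ.erase a : Finset Ω) : Set Ω) := by
      intro ω hω
      simp only [Finset.coe_erase, Finset.coe_univ, Set.mem_diff, Set.mem_singleton_iff] at hω
      obtain ⟨k, hk1, hk2⟩ := h2t (hd a).symm (Ne.symm hω.2)
      refine ⟨k * d * k⁻¹, hDmem _ (hconjD k d hd), ?_⟩
      show (k * d * k⁻¹) • a = ω
      have : k⁻¹ • a = a := by rw [inv_smul_eq_iff, hk1]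
      rw [mul_smul, mul_smul, this, hk2]
    have hinj : Set.InjOn (fun h : G => h • a) D := by
      apply Finset.injOn_of_surjOn_of_card_le (t := Finset.univ.erase a) _ ?_ hsurj ?_
      · intro h hh
        rw [Finset.mem_coe, hD, Finset.mem_filter] at hh
        simp [hh.2 a]
      · rw [Finset.card_erase_of_mem (Finset.mem_univ a), Finset.card_univ]
        omega
    obtain ⟨k, hk1, hk2⟩ := h2t (hd a).symm (hd' a).symm
    refine isConj_iff.mpr ⟨k, hinj (hDmem _ (hconjD k d hd)) (hDmem _ hd') ?_⟩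
    show (k * d * k⁻¹) • a = d' • a
    have : k⁻¹ • a = a := by rw [inv_smul_eq_iff, hk1]
    rw [mul_smul, mul_smul, this, hk2]

end Cfsg.Agent.S3501
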