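import Cfsg.Statements.S3504

set_option autoImplicit false
set_option linter.style.haveILetI false
open Cfsg
open Equiv.Perm

namespace Cfsg.Agent.S3504

/-- For n ≥ 5, the fixed-point-free permutations of prime order in the symmetric group of degree n form a single conjugacy class if and only if n is a prime power. -/
theorem result (n : ℕ) (hn : 5 ≤ n) :
    Nat.card {c : ConjClasses (Equiv.Perm (Fin n)) // ∃ g : Equiv.Perm (Fin n), ConjClasses.mk g = c ∧ (orderOf g).Prime ∧ ∀ i : Fin n, g i ≠ i} = 1 ↔ IsPrimePow n := by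
  classical
  have key : ∀ g : Equiv.Perm (Fin n), (orderOf g).Prime → (∀ i, g i ≠ i) →
      orderOf g ∣ n ∧ g.cycleType = Multiset.replicate (n / orderOf g) (orderOf g) := by
    intro g hp hg
    obtain ⟨k, hk⟩ := cycleType_prime_order hp
    have hs := sum_cycleType g
    rw [hk, Multiset.sum_replicate, smul_eq_mul, show g.support = Finset.univ from Finset.eq_univ_iff_forall.2 fun i => mem_support.2 (hg i),
      Finset.card_univ, Fintype.card_fin] at hs
    refine ⟨Dvd.intro_left _ hs, ?_⟩
    rw [hk]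
    congr 1
    exact (Nat.div_eq_of_eq_mul_left hp.pos hs.symm).symm
  have hex : ∀ r : n.primeFactors, ∃ g : Equiv.Perm (Fin n), g.cycleType = Multiset.replicate (n / r) (r : ℕ) := by
    rintro ⟨r, hr⟩
    rw [Equiv.Perm.exists_with_cycleType_iff]
    refine ⟨?_, fun a ha => ?_⟩
    · rw [Multiset.sum_replicate, smul_eq_mul, Fintype.card_fin, Nat.div_mul_cancel (Nat.dvd_of_mem_primeFactors hr)]
    · rw [Multiset.eq_of_mem_replicate ha]; exact (Nat.prime_of_mem_primeFactors hr).two_le
  choose g hg using hex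
  have hprop : ∀ r : n.primeFactors, orderOf (g r) = r ∧ ∀ i, g r i ≠ i := by
    intro r
    have hp := Nat.prime_of_mem_primeFactors r.2
    have hd := Nat.dvd_of_mem_primeFactors r.2
    have hpos : 0 < n / (r : ℕ) := Nat.div_pos (Nat.le_of_dvd (by omega) hd) hp.pos
    constructor
    · rw [← lcm_cycleType, hg]
      apply Nat.dvd_antisymm
      · exact Multiset.lcm_dvd.2 fun a ha => by rw [Multiset.eq_of_mem_replicate ha]
      · exact Multiset.dvd_lcm (Multiset.mem_replicate.2 ⟨hpos.ne', rfl⟩)
    · intro i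
      rw [← mem_support]
      have : (g r).support = Finset.univ := by
        apply Finset.eq_univ_of_card
        rw [← sum_cycleType, hg, Multiset.sum_replicate, smul_eq_mul, Fintype.card_fin, Nat.div_mul_cancel hd]
      rw [this]; exact Finset.mem_univ i
  rw [isPrimePow_iff_card_primeFactors_eq_one]
  rw [← Nat.card_eq_finsetCard]
  refine Eq.congr_left (Eq.symm ?_)
  refine Nat.card_eq_of_bijective (fun r => ⟨ConjClasses.mk (g r), g r, rfl,
    (hprop r).1 ▸ Nat.prime_of_mem_primeFactors r.2, (hprop r).2⟩) ⟨?_, ?_⟩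
  · intro r s h
    have h' := ConjClasses.mk_eq_mk_iff_isConj.1 (congrArg Subtype.val h)
    rw [isConj_iff_cycleType_eq] at h'
    apply Subtype.ext
    rw [← (hprop r).1, ← (hprop s).1, ← lcm_cycleType, ← lcm_cycleType, h']
  · rintro ⟨c, h, rfl, hp, hd⟩
    obtain ⟨hdv, hct⟩ := key h hp hd
    refine ⟨⟨orderOf h, Nat.mem_primeFactors.2 ⟨hp, hdv, by omega⟩⟩, Subtype.ext ?_⟩
    rw [ConjClasses.mk_eq_mk_iff_isConj, isConj_iff_cycleType_eq, hg, hct]


end Cfsg.Agent.S3504
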