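import Cfsg.Statements.S3508
import Mathlib

set_option autoImplicit false
set_option linter.style.haveILetI false
open Cfsg

namespace Cfsg.Agent.S3508

/-- Let a finite group G act faithfully on a set Ω with p ^ m points (p prime) and have an elementary abelian normal p-subgroup N acting regularly on Ω (so G is a group of affine transformations of an m-dimensional space over the field with p elements). If G contains an element of order p ^ r with r ≥ 1, then p ^ (r − 1) ≤ m. In particular an element of order p ^ m forces m ≤ 2, and m ≤ 1 when p is odd. -/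
theorem result {G : Type*} [Group G] [Finite G] {Ω : Type*} [Fintype Ω] [MulAction G Ω] [FaithfulSMul G Ω] (p m : ℕ) (hp : p.Prime) (hcard : Fintype.card Ω = p ^ m)
    (N : Subgroup G) [N.Normal] (hNc : IsMulCommutative N) (hNp : ∀ n ∈ N, n ^ p = 1)
    (hNtr : MulAction.IsPretransitive N Ω) (hNreg : ∀ ω : Ω, MulAction.stabilizer N ω = ⊥)
    (g : G) (r : ℕ) (hr : 1 ≤ r) (hg : orderOf g = p ^ r) :
    p ^ (r - 1) ≤ m ∧ (r = m → m ≤ 2 ∧ (2 < p → m ≤ 1)) := by
  classical
  haveI := Fact.mk hp
  haveI := hNtr
  obtain ⟨ω⟩ : Nonempty Ω := Fintype.card_pos_iff.1 (hcard ▸ pow_pos hp.pos m)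
  have key : p ^ (r - 1) ≤ m := by
    by_contra hlt
    push_neg at hlt
    haveI := hNc
    letI : CommGroup N := { (inferInstance : Group N) with mul_comm := fun a b => hNc.is_comm.comm a b }
    haveI : Module (ZMod p) (Additive N) := AddCommGroup.zmodModule fun x => by
      apply Additive.toMul.injective
      rw [toMul_nsmul, toMul_zero]
      exact Subtype.ext (hNp _ x.toMul.2)
    obtain ⟨⟨n, hn⟩, hnω⟩ := MulAction.exists_smul_eq N ω (g • ω)
    set h := n⁻¹ * g with hh
    have hhω : h • ω = ω := by rw [hh, mul_smul, inv_smul_eq_iff]; exact hnω.symm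
    let c : MulAut N := MulAut.conjNormal h
    let φ : Module.End (ZMod p) (Additive N) := (MonoidHom.toAdditive c.toMonoidHom).toZModLinearMap p
    have hφc : ∀ (i : ℕ) (x : N), (φ ^ i) (Additive.ofMul x) = Additive.ofMul ((c ^ i) x) := by
      intro i
      induction i with
      | zero => intro x; rfl
      | succ i ih =>
        intro x
        rw [pow_succ, Module.End.mul_apply, pow_succ, MulAut.mul_apply, ← ih]
        rfl
    have hcg : c = MulAut.conjNormal g := by
      have hc1 : MulAut.conjNormal (H := N) n = 1 := by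
        ext x
        rw [MulAut.conjNormal_apply, MulAut.one_apply]
        have := congrArg Subtype.val (hNc.is_comm.comm ⟨n, hn⟩ x)
        simp only [Subgroup.coe_mul] at this
        rw [this, mul_inv_cancel_right]
      show MulAut.conjNormal (H := N) (n⁻¹ * g) = _
      rw [map_mul, map_inv, hc1, inv_one, one_mul]
    set s := p ^ (r - 1) with hs
    have hps : p * s = p ^ r := by rw [hs, ← pow_succ', Nat.sub_add_cancel hr]
    have hm : Module.finrank (ZMod p) (Additive N) = m := by
      have e : Nat.card N = Fintype.card Ω := by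
        rw [← Nat.card_eq_fintype_card]
        exact Nat.card_congr ((Equiv.ofBijective (fun x : N => x • ω) ⟨fun a b hab => by
          have h1 : b⁻¹ * a ∈ MulAction.stabilizer N ω := by
            rw [MulAction.mem_stabilizer_iff, mul_smul]; simp [show a • ω = b • ω from hab]
          rw [hNreg, Subgroup.mem_bot] at h1
          exact (inv_mul_eq_one.1 h1).symm, fun y => MulAction.exists_smul_eq N ω y⟩))
      have h2 := Module.natCard_eq_pow_finrank (K := ZMod p) (V := Additive N)
      rw [Nat.card_zmod, Nat.card_congr Additive.toMul, e, hcard] at h2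
      exact (Nat.pow_right_injective hp.two_le h2).symm
    have hφp : φ ^ p ^ r = 1 := by
      refine LinearMap.ext fun x => ?_
      have := hφc (p ^ r) x.toMul
      rw [ofMul_toMul, hcg, ← map_pow, ← hg, pow_orderOf_eq_one, map_one] at this
      rw [← hg]
      exact this
    have hnil : (φ - 1) ^ m = 0 := by
      have h0 : (φ - 1) ^ (p ^ r) = 0 := by
        have h1 : ((Polynomial.X : Polynomial (ZMod p)) - 1) ^ (p ^ r) = Polynomial.X ^ (p ^ r) - 1 := by
          rw [sub_pow_char_pow, one_pow]
        have := congrArg (Polynomial.aeval φ) h1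
        simp only [map_pow, map_sub, Polynomial.aeval_X, map_one, hφp, sub_self] at this
        exact this
      rcases le_or_gt (p ^ r) m with h3 | h3
      · obtain ⟨d, hd⟩ := Nat.exists_eq_add_of_le h3
        rw [hd, pow_add, h0, zero_mul]
      · rw [← hm] at h3 ⊢
        rw [← LinearMap.ker_eq_top]
        have h4 := Module.End.ker_pow_eq_ker_pow_finrank_of_le (f := φ - 1) h3.le
        rw [h0, LinearMap.ker_zero] at h4
        exact h4.symm
    have hsum : ∑ i ∈ Finset.range s, φ ^ i = (φ - 1) ^ (s - 1) := by
      have h1 : (∑ i ∈ Finset.range s, (Polynomial.X : Polynomial (ZMod p)) ^ i) = (Polynomial.X - 1) ^ (s - 1) := by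
        have hX : (Polynomial.X - 1 : Polynomial (ZMod p)) ≠ 0 := by
          rw [← Polynomial.C_1]; exact Polynomial.X_sub_C_ne_zero _
        apply mul_right_cancel₀ hX
        rw [geom_sum_mul, ← pow_succ, Nat.sub_add_cancel (Nat.one_le_pow _ _ hp.pos), hs, sub_pow_char_pow, one_pow]
      have := congrArg (Polynomial.aeval φ) h1
      simpa using this
    have hz : ∑ i ∈ Finset.range s, φ ^ i = 0 := by
      rw [hsum]
      obtain ⟨d, hd⟩ := Nat.exists_eq_add_of_le (show m ≤ s - 1 by omega)
      rw [hd, pow_add, hnil, zero_mul]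
    have hφs : φ ^ s = 1 := by
      have := geom_sum_mul φ s
      rw [hz, zero_mul] at this
      exact sub_eq_zero.1 this.symm
    have hprod : ∀ i : ℕ, (n * h) ^ i = ((Additive.toMul ((∑ j ∈ Finset.range i, φ ^ j) (Additive.ofMul (⟨n, hn⟩ : N))) : N) : G) * h ^ i := by
      intro i
      induction i with
      | zero => simp
      | succ i ih =>
        rw [pow_succ, ih, Finset.sum_range_succ, LinearMap.add_apply, toMul_add, Subgroup.coe_mul, hφc, toMul_ofMul,
          ← map_pow, MulAut.conjNormal_apply, pow_succ]
        group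
    have hgs : (g : G) ^ s = h ^ s := by
      have h5 := hprod s
      rw [hz, LinearMap.zero_apply, toMul_zero, Subgroup.coe_one, one_mul, hh, mul_inv_cancel_left, ← hh] at h5
      exact h5
    have hh1 : h ^ s = 1 := by
      refine eq_of_smul_eq_smul (α := Ω) fun y => ?_
      rw [one_smul]
      obtain ⟨x, rfl⟩ := MulAction.exists_smul_eq N ω y
      have h6 : (c ^ s) x = x := by
        have := hφc s x
        rw [hφs] at this
        exact (Additive.ofMul.injective this).symm
      rw [← map_pow] at h6
      have h7 : h ^ s * (x : G) * (h ^ s)⁻¹ = x := congrArg Subtype.val h6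
      rw [mul_inv_eq_iff_eq_mul] at h7
      have h8 : h ^ s • ω = ω := (MulAction.stabilizer G ω).pow_mem hhω s
      show h ^ s • (x : G) • ω = (x : G) • ω
      rw [← mul_smul, h7, mul_smul, h8]
    have h9 : p ^ r ∣ s := hg ▸ orderOf_dvd_of_pow_eq_one (hgs.trans hh1)
    have h10 := Nat.le_of_dvd (pow_pos hp.pos _) h9
    rw [← hps] at h10
    have : 2 * s ≤ p * s := Nat.mul_le_mul_right s hp.two_le
    have : 0 < s := pow_pos hp.pos _
    omega
  refine ⟨key, ?_⟩
  rintro rfl
  have h1 : ∀ k, 2 ≤ k → k + 1 < 2 ^ k := fun k hk => by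
    induction k, hk using Nat.le_induction with
    | base => norm_num
    | succ n hn ih => rw [pow_succ]; omega
  constructor
  · by_contra h
    have := h1 (r - 1) (by omega)
    have := Nat.pow_le_pow_left hp.two_le (r - 1)
    omega
  · intro h2
    by_contra h
    have h3 : r = 2 ∨ 3 ≤ r := by omega
    rcases h3 with rfl | h3
    · simp at key; omega
    · have := h1 (r - 1) (by omega)
      have := Nat.pow_le_pow_left hp.two_le (r - 1)
      omega


end Cfsg.Agent.S3508
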