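import Cfsg.Statements.S3511

set_option autoImplicit false
set_option linter.style.haveILetI false
open Cfsg
open MulAction

namespace Cfsg.Agent.S3511

/-- Let a finite group G act faithfully on a set Ω. If every element of G of square-free order has a regular cycle (an orbit of the cyclic group it generates with trivial stabilizer), then every element of G has a regular cycle. -/
theorem result {G : Type*} [Group G] [Finite G] {Ω : Type*} [MulAction G Ω] [FaithfulSMul G Ω]
    (h : ∀ g : G, Squarefree (orderOf g) → ∃ ω : Ω, MulAction.stabilizer (Subgroup.zpowers g) ω = ⊥) (g : G) :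
    ∃ ω : Ω, MulAction.stabilizer (Subgroup.zpowers g) ω = ⊥ := by
  have hpos : 0 < orderOf g := orderOf_pos g
  set m := orderOf g with hm
  let r := ∏ p ∈ m.primeFactors, p
  have hr : r ∣ m := Nat.prod_primeFactors_dvd m
  have hg' : orderOf (g ^ (m / r)) = r := by
    rw [orderOf_pow' _ (Nat.div_pos (Nat.le_of_dvd hpos hr) (Finset.prod_pos fun p hp => (Nat.prime_of_mem_primeFactors hp).pos)).ne',
      ← hm, Nat.gcd_eq_right (Nat.div_dvd_of_dvd hr), Nat.div_div_self hr hpos.ne']
  obtain ⟨ω, hω⟩ := h (g ^ (m / r)) (by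
    rw [hg']
    exact Finset.squarefree_prod_of_pairwise_isCoprime (fun p hp q hq hne => by
      exact Nat.coprime_iff_isRelPrime.1 ((Nat.coprime_primes (Nat.prime_of_mem_primeFactors hp) (Nat.prime_of_mem_primeFactors hq)).2 hne))
      fun p hp => (Nat.prime_of_mem_primeFactors hp).squarefree)
  refine ⟨ω, ?_⟩
  rw [Subgroup.eq_bot_iff_forall] at hω ⊢
  intro ⟨x, hx⟩ hxω
  by_contra hne
  have hx1 : x ≠ 1 := fun h => hne (by simp [h])
  obtain ⟨p, hp, hpd⟩ := Nat.exists_prime_and_dvd (mt orderOf_eq_one_iff.1 hx1)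
  have hpm : p ∣ m := hpd.trans (orderOf_dvd_of_mem_zpowers hx)
  haveI := Fact.mk hp
  set y := x ^ (orderOf x / p) with hy
  have hyo : orderOf y = p := orderOf_pow_orderOf_div (orderOf_pos x).ne' hpd
  have hyω : y • ω = ω := by
    have : x ∈ stabilizer G ω := hxω
    exact pow_mem this (orderOf x / p)
  have hymem : y ∈ Subgroup.zpowers (g ^ (m / r)) := by
    obtain ⟨k, hk⟩ := Subgroup.mem_zpowers_iff.1 (Subgroup.pow_mem _ hx (orderOf x / p))
    rw [← hy] at hk
    have h1 : g ^ (k * (p : ℤ)) = 1 := by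
      rw [zpow_mul, hk, zpow_natCast, ← hyo]; exact pow_orderOf_eq_one y
    have h2 : (m : ℤ) ∣ k * p := orderOf_dvd_iff_zpow_eq_one.2 h1
    obtain ⟨c, hc⟩ := hr
    have hpr : p ∣ r := Finset.dvd_prod_of_mem _ (Nat.mem_primeFactors.2 ⟨hp, hpm, hpos.ne'⟩)
    obtain ⟨d, hd⟩ := hpr
    have hk' : ((m / r : ℕ) : ℤ) ∣ k := by
      have hrpos : 0 < r := Finset.prod_pos fun q hq => (Nat.prime_of_mem_primeFactors hq).pos
      rw [hc, Nat.mul_div_cancel_left _ hrpos]
      obtain ⟨e, he⟩ := h2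
      refine ⟨d * e, mul_right_cancel₀ (Int.natCast_ne_zero.2 hp.ne_zero) ?_⟩
      rw [he, hc, hd]; push_cast; ring
    obtain ⟨l, hl⟩ := hk'
    exact ⟨l, by show (g ^ (m / r)) ^ l = y; rw [← hk, hl, zpow_mul, zpow_natCast]⟩
  have h3 : y = 1 := congrArg Subtype.val (hω ⟨y, hymem⟩ hyω)
  rw [h3, orderOf_one] at hyo
  exact hp.ne_one hyo.symm


end Cfsg.Agent.S3511
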