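import Cfsg.Statements.S3514

set_option autoImplicit false
set_option linter.style.haveILetI false
open Cfsg

namespace Cfsg.Agent.S3514

/-- Let p be a prime, V a finite vector space over the field with p elements, and H a group of linear transformations of V all of whose orbits on V have size coprime to p. (i) Every normal subgroup K of H has all its orbits on V of size coprime to p. (ii) If N is a group of linear transformations of V of order coprime to p that is normalized by H, then the group generated by N and H has all its orbits on V of size coprime to p. -/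
theorem result (p : ℕ) [Fact p.Prime] {V : Type*} [AddCommGroup V] [Module (ZMod p) V] [Finite V]
    (H : Subgroup (V ≃ₗ[ZMod p] V)) (hH : ∀ v : V, ¬ p ∣ Nat.card {u : V | ∃ h ∈ H, h v = u}) :
    (∀ K : Subgroup (V ≃ₗ[ZMod p] V), K ≤ H → H ≤ Subgroup.normalizer (K : Set (V ≃ₗ[ZMod p] V)) →
        ∀ v : V, ¬ p ∣ Nat.card {u : V | ∃ k ∈ K, k v = u}) ∧
    (∀ N : Subgroup (V ≃ₗ[ZMod p] V), ¬ p ∣ Nat.card N → H ≤ Subgroup.normalizer (N : Set (V ≃ₗ[ZMod p] V)) →
        ∀ v : V, ¬ p ∣ Nat.card {u : V | ∃ x ∈ N ⊔ H, x v = u}) := by
  haveI : Finite (V ≃ₗ[ZMod p] V) := Finite.of_injective (fun e => (e : V → V)) DFunLike.coe_injective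
  have horb : ∀ (K : Subgroup (V ≃ₗ[ZMod p] V)) (v : V), Nat.card {u : V | ∃ k ∈ K, k v = u} = (MulAction.stabilizer K v).index := by
    intro K v
    rw [MulAction.index_stabilizer, ← Nat.card_coe_set_eq]
    apply Nat.card_congr
    apply Equiv.setCongr
    ext u
    simp [MulAction.mem_orbit_iff, Subgroup.smul_def]
  simp only [horb] at hH ⊢
  refine ⟨fun K hK hKn v hdvd => hH v ?_, fun N hN hNn v hdvd => ?_⟩
  · haveI : (K.subgroupOf H).Normal := Subgroup.normal_subgroupOf_iff_le_normalizer hK |>.2 hKn
    set S := MulAction.stabilizer H v with hS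
    set K' := K.subgroupOf H with hK'
    have ha : (MulAction.stabilizer K v).index = S.relIndex K' := by
      rw [Subgroup.relIndex]
      have : S.subgroupOf K' = (MulAction.stabilizer K v).comap (Subgroup.subgroupOfEquivOfLe hK).toMonoidHom := rfl
      rw [this, Subgroup.index_comap_of_surjective _ (Subgroup.subgroupOfEquivOfLe hK).surjective]
    have h1 : S.relIndex K' * K'.index = K'.relIndex S * S.index := by
      rw [← Subgroup.inf_relIndex_right, Subgroup.relIndex_mul_index inf_le_right,
        ← Subgroup.inf_relIndex_right K' S, Subgroup.relIndex_mul_index inf_le_right, inf_comm]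
    have h2 : K'.relIndex S * (S ⊔ K').index = K'.index := by
      rw [← Subgroup.relIndex_sup_right, Subgroup.relIndex_mul_index le_sup_right]
    have h3 : S.index = S.relIndex K' * (S ⊔ K').index := by
      apply Nat.eq_of_mul_eq_mul_left (show 0 < K'.relIndex S from Nat.pos_of_ne_zero Subgroup.index_ne_zero_of_finite)
      rw [← h1, ← h2]; ring
    rw [ha] at hdvd
    rw [h3]
    exact dvd_mul_of_dvd_left hdvd _
  · set M := N ⊔ H
    have hNM : N ≤ M := le_sup_left
    have hHM : H ≤ M := le_sup_right
    haveI : (N.subgroupOf M).Normal :=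
      Subgroup.normal_subgroupOf_iff_le_normalizer hNM |>.2 (sup_le Subgroup.le_normalizer hNn)
    set S := MulAction.stabilizer M v with hS
    set N' := N.subgroupOf M with hN'
    set H' := H.subgroupOf M with hH'
    have hsup : H' ⊔ N' = ⊤ := by
      rw [hH', hN', ← Subgroup.subgroupOf_sup hHM hNM, sup_comm, Subgroup.subgroupOf_self]
    have hdiv : H'.index ∣ Nat.card N := by
      have e1 : N'.index ∣ Nat.card H' := by
        rw [← Subgroup.relIndex_top_right, ← hsup, Subgroup.relIndex_sup_right]
        exact Subgroup.index_dvd_card _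
      obtain ⟨c, hc⟩ := e1
      refine ⟨c, ?_⟩
      apply Nat.eq_of_mul_eq_mul_left (show 0 < N'.index from Nat.pos_of_ne_zero Subgroup.index_ne_zero_of_finite)
      rw [← Nat.card_congr (Subgroup.subgroupOfEquivOfLe hNM).toEquiv,
        mul_comm N'.index (Nat.card _), Subgroup.card_mul_index, ← H'.card_mul_index, hc]
      ring
    have ha : (MulAction.stabilizer H v).index = S.relIndex H' := by
      rw [Subgroup.relIndex]
      have : S.subgroupOf H' = (MulAction.stabilizer H v).comap (Subgroup.subgroupOfEquivOfLe hHM).toMonoidHom := rfl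
      rw [this, Subgroup.index_comap_of_surjective _ (Subgroup.subgroupOfEquivOfLe hHM).surjective]
    have h1 : S.index ∣ S.relIndex H' * H'.index := by
      rw [← Subgroup.inf_relIndex_right, Subgroup.relIndex_mul_index inf_le_right]
      exact Subgroup.index_dvd_of_le inf_le_left
    rcases (Fact.out : p.Prime).dvd_mul.1 (hdvd.trans h1) with h | h
    · exact hH v (ha ▸ h)
    · exact hN (h.trans hdiv)


end Cfsg.Agent.S3514
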