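import Cfsg.Statements.S3515
import Cfsg.Agent.Lib.Recognition.Affine

set_option autoImplicit false
set_option linter.style.haveILetI false
open Cfsg
open Cfsg.Agent.Lib.Recognition

namespace Cfsg.Agent.S3515

/-- Every primitive affine permutation group of degree p² is 3-closed. Let p be a prime and G a group of permutations of the plane V = F_p² consisting of affine maps x ↦ Ax + b, containing all translations, and acting primitively on V. Then any permutation σ of V that agrees on every triple of points with some element of G (σ preserves every G-orbit on ordered triples) already lies in G. -/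
theorem result (p : ℕ) [Fact p.Prime] (G : Subgroup (Equiv.Perm (Fin 2 → ZMod p)))
    (haff : (G : Set (Equiv.Perm (Fin 2 → ZMod p))) ⊆ {τ : Equiv.Perm (Fin 2 → ZMod p) | ∃ (A : (Fin 2 → ZMod p) ≃ₗ[ZMod p] (Fin 2 → ZMod p)) (b : Fin 2 → ZMod p), ∀ x, τ x = A x + b})
    (htrans : ∀ b : Fin 2 → ZMod p, ∃ g ∈ G, ∀ x, g x = x + b) (hprim : MulAction.IsPreprimitive G (Fin 2 → ZMod p))
    (σ : Equiv.Perm (Fin 2 → ZMod p)) (hσ : (∀ t : Fin 3 → (Fin 2 → ZMod p), ∃ g ∈ G, ∀ i, σ (t i) = g (t i))) : σ ∈ G := by
  classical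
  obtain ⟨g, hg, hgt⟩ := hσ ![0, Pi.single 0 1, Pi.single 1 1]
  obtain ⟨A, b, hA⟩ := haff hg
  suffices h : σ = g by exact h ▸ hg
  have key : ∀ (u v : Fin 2 → ZMod p) (t : ZMod p), σ (u + t • (v - u)) = σ u + t • (σ v - σ u) := by
    intro u v t
    obtain ⟨k, hk, hkt⟩ := hσ ![u, v, u + t • (v - u)]
    obtain ⟨B, c, hB⟩ := haff hk
    have h0 := hkt 0; have h1 := hkt 1; have h2 := hkt 2
    simp only [Matrix.cons_val_zero, Matrix.cons_val_one, Matrix.cons_val] at h0 h1 h2
    rw [h0, h1, h2, hB, hB, hB, map_add, map_smul, map_sub]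
    module
  set L : (Fin 2 → ZMod p) → (Fin 2 → ZMod p) := fun x => σ x - σ 0 with hL
  have hsmul : ∀ (t : ZMod p) x, L (t • x) = t • L x := by
    intro t x
    have := key 0 x t
    rw [sub_zero, zero_add] at this
    simp only [hL, this, add_sub_cancel_left]
  have e0 := hgt 0; have e1 := hgt 1; have e2 := hgt 2
  simp only [Matrix.cons_val_zero, Matrix.cons_val_one, Matrix.cons_val] at e0 e1 e2
  have hb : σ 0 = b := by rw [e0, hA, map_zero, zero_add]
  apply Equiv.ext
  intro x
  have hx : x = x 0 • (Pi.single 0 1 : Fin 2 → ZMod p) + x 1 • (Pi.single 1 1 : Fin 2 → ZMod p) := by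
    funext i; fin_cases i <;> simp
  rcases (Fact.out : p.Prime).eq_two_or_odd' with hp | hp
  · subst hp
    rcases zmod2_cases (x 0) with h0 | h0 <;>
      rcases zmod2_cases (x 1) with h1 | h1 <;>
      rw [h0, h1] at hx <;> simp only [zero_smul, one_smul, zero_add, add_zero] at hx <;> subst hx
    · exact e0
    · exact e2
    · exact e1
    · have hall := plane2_cases
      set z : Fin 2 → ZMod 2 := Pi.single 0 1 + Pi.single 1 1 with hz
      rcases hall (σ.symm (g z)) with h | h | h | h
      · have h' : g z = g 0 := by rw [← e0, ← h, Equiv.apply_symm_apply]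
        have h'' : z = 0 := g.injective h'
        rw [hz] at h''; first | exact absurd h'' plane2_ne.1 | exact absurd h'' plane2_ne.2.1 | exact absurd h'' plane2_ne.2.2
      · have h' : g z = g (Pi.single 0 1) := by rw [← e1, ← h, Equiv.apply_symm_apply]
        have h'' : z = Pi.single 0 1 := g.injective h'
        rw [hz] at h''; first | exact absurd h'' plane2_ne.1 | exact absurd h'' plane2_ne.2.1 | exact absurd h'' plane2_ne.2.2
      · have h' : g z = g (Pi.single 1 1) := by rw [← e2, ← h, Equiv.apply_symm_apply]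
        have h'' : z = Pi.single 1 1 := g.injective h'
        rw [hz] at h''; first | exact absurd h'' plane2_ne.1 | exact absurd h'' plane2_ne.2.1 | exact absurd h'' plane2_ne.2.2
      · rw [← σ.apply_symm_apply (g z), h]
  · have h2 : (2 : ZMod p) ≠ 0 := by
      intro h
      rw [show (2 : ZMod p) = ((2 : ℕ) : ZMod p) by norm_num, ZMod.natCast_eq_zero_iff] at h
      rcases (Nat.prime_dvd_prime_iff_eq Fact.out Nat.prime_two).1 h with rfl
      simp [Nat.odd_iff] at hp
    have hadd : ∀ u v, L (u + v) = L u + L v := by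
      intro u v
      have h3 : L ((2 : ZMod p)⁻¹ • (u + v)) = (2 : ZMod p)⁻¹ • L (u + v) := hsmul _ _
      have h4 : (2 : ZMod p)⁻¹ • (u + v) = u + (2 : ZMod p)⁻¹ • (v - u) := by
        rw [smul_add, smul_sub]
        have : u = (2 : ZMod p)⁻¹ • u + (2 : ZMod p)⁻¹ • u := by
          rw [← two_smul (ZMod p) ((2 : ZMod p)⁻¹ • u), smul_smul, mul_inv_cancel₀ h2, one_smul]
        conv_rhs => arg 1; rw [this]
        abel
      rw [h4] at h3
      have h5 : L (u + (2 : ZMod p)⁻¹ • (v - u)) = L u + (2 : ZMod p)⁻¹ • (L v - L u) := by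
        simp only [hL, key]; module
      rw [h5] at h3
      have h6 := congrArg (fun y => (2 : ZMod p) • y) h3
      simp only [smul_add, smul_smul, mul_inv_cancel₀ h2, one_smul] at h6
      rw [← h6, two_smul]; abel
    have : L x = x 0 • L (Pi.single 0 1) + x 1 • L (Pi.single 1 1) := by
      conv_lhs => rw [hx]
      rw [hadd, hsmul, hsmul]
    simp only [hL, e1, e2, hA, hb] at this
    rw [hA]
    conv_rhs => rw [hx, map_add, map_smul, map_smul]
    rw [← sub_add_cancel (σ x) b, this]
    module


end Cfsg.Agent.S3515
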