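import Cfsg.Statements.S3516
import Cfsg.Agent.Lib.Recognition.Affine

set_option autoImplicit false
set_option linter.style.haveILetI false
open Cfsg
open Cfsg.Agent.Lib.Recognition

namespace Cfsg.Agent.S3516

/-- Let p be an odd prime, d ≥ 3, and G a group of affine permutations x ↦ Ax + b of V = F_p^d containing all translations and all maps x ↦ Ax with A of determinant 1. Then the 3-closure of G is the full affine group: a permutation σ of V agrees on every triple of points with some element of G if and only if σ is an affine map. -/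
theorem result (p : ℕ) [Fact p.Prime] (hp : p ≠ 2) (d : ℕ) (hd : 3 ≤ d) (G : Subgroup (Equiv.Perm (Fin d → ZMod p)))
    (haff : (G : Set (Equiv.Perm (Fin d → ZMod p))) ⊆ {τ : Equiv.Perm (Fin d → ZMod p) | ∃ (A : (Fin d → ZMod p) ≃ₗ[ZMod p] (Fin d → ZMod p)) (b : Fin d → ZMod p), ∀ x, τ x = A x + b})
    (htrans : ∀ b : Fin d → ZMod p, ∃ g ∈ G, ∀ x, g x = x + b)
    (hsl : ∀ A : (Fin d → ZMod p) ≃ₗ[ZMod p] (Fin d → ZMod p), LinearMap.det (A : (Fin d → ZMod p) →ₗ[ZMod p] (Fin d → ZMod p)) = 1 → ∃ g ∈ G, ∀ x, g x = A x)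
    (σ : Equiv.Perm (Fin d → ZMod p)) :
    (∀ t : Fin 3 → (Fin d → ZMod p), ∃ g ∈ G, ∀ i, σ (t i) = g (t i)) ↔ σ ∈ {τ : Equiv.Perm (Fin d → ZMod p) | ∃ (A : (Fin d → ZMod p) ≃ₗ[ZMod p] (Fin d → ZMod p)) (b : Fin d → ZMod p), ∀ x, τ x = A x + b} := by
  classical
  constructor
  · intro hσ
    have hp2 : (2 : ZMod p) ≠ 0 := by
      intro h
      rw [show (2 : ZMod p) = ((2 : ℕ) : ZMod p) by norm_num, ZMod.natCast_eq_zero_iff] at h
      exact hp ((Nat.prime_dvd_prime_iff_eq Fact.out Nat.prime_two).1 h)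
    have key : ∀ (u v : Fin d → ZMod p) (t : ZMod p), σ (u + t • (v - u)) = σ u + t • (σ v - σ u) := by
      intro u v t
      obtain ⟨k, hk, hkt⟩ := hσ ![u, v, u + t • (v - u)]
      obtain ⟨B, c, hB⟩ := haff hk
      have h0 := hkt 0; have h1 := hkt 1; have h2 := hkt 2
      simp only [Matrix.cons_val_zero, Matrix.cons_val_one, Matrix.cons_val] at h0 h1 h2
      rw [h0, h1, h2, hB, hB, hB, map_add, map_smul, map_sub]
      module
    set L : (Fin d → ZMod p) → (Fin d → ZMod p) := fun x => σ x - σ 0 with hL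
    have hsmul : ∀ (t : ZMod p) x, L (t • x) = t • L x := by
      intro t x
      have := key 0 x t
      rw [sub_zero, zero_add] at this
      simp only [hL, this, add_sub_cancel_left]
    have hadd : ∀ u v, L (u + v) = L u + L v := by
      intro u v
      have h3 : L ((2 : ZMod p)⁻¹ • (u + v)) = (2 : ZMod p)⁻¹ • L (u + v) := hsmul _ _
      have h4 : (2 : ZMod p)⁻¹ • (u + v) = u + (2 : ZMod p)⁻¹ • (v - u) := by
        rw [smul_add, smul_sub]
        have : u = (2 : ZMod p)⁻¹ • u + (2 : ZMod p)⁻¹ • u := by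
          rw [← two_smul (ZMod p) ((2 : ZMod p)⁻¹ • u), smul_smul, mul_inv_cancel₀ hp2, one_smul]
        conv_rhs => arg 1; rw [this]
        abel
      rw [h4] at h3
      have h5 : L (u + (2 : ZMod p)⁻¹ • (v - u)) = L u + (2 : ZMod p)⁻¹ • (L v - L u) := by
        simp only [hL, key]; module
      rw [h5] at h3
      have h6 := congrArg (fun y => (2 : ZMod p) • y) h3
      simp only [smul_add, smul_smul, mul_inv_cancel₀ hp2, one_smul] at h6
      rw [← h6, two_smul]; abel
    let A : (Fin d → ZMod p) →ₗ[ZMod p] (Fin d → ZMod p) :=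
      { toFun := L, map_add' := hadd, map_smul' := hsmul }
    have hinj : Function.Injective A := fun x y h => σ.injective (sub_left_injective h)
    refine ⟨LinearEquiv.ofInjectiveEndo A hinj, σ 0, fun x => ?_⟩
    simp [A, hL]
  · rintro ⟨A, b, hA⟩ t
    let W : Submodule (ZMod p) (Fin d → ZMod p) := Submodule.span (ZMod p) (Set.range ![t 1 - t 0, t 2 - t 0])
    have hW : W < ⊤ := by
      refine lt_top_iff_ne_top.2 fun h => ?_
      have h1 := finrank_range_le_card (R := ZMod p) ![t 1 - t 0, t 2 - t 0]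
      rw [Set.finrank, show Submodule.span (ZMod p) (Set.range ![t 1 - t 0, t 2 - t 0]) = ⊤ from h, finrank_top,
        Module.finrank_fin_fun, Fintype.card_fin] at h1
      omega
    obtain ⟨φ, hφ0, hφW⟩ := Submodule.exists_le_ker_of_lt_top W hW
    obtain ⟨v0, hv0⟩ : ∃ v, φ v ≠ 0 := by
      by_contra h
      push_neg at h
      exact hφ0 (LinearMap.ext fun v => by simpa using h v)
    set c : ZMod p := (LinearMap.det (A : (Fin d → ZMod p) →ₗ[ZMod p] (Fin d → ZMod p)))⁻¹ with hc
    have hdet : LinearMap.det (A : (Fin d → ZMod p) →ₗ[ZMod p] (Fin d → ZMod p)) ≠ 0 := (LinearEquiv.isUnit_det' A).ne_zero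
    set v : Fin d → ZMod p := ((c - 1) / φ v0) • v0 with hv
    have hφv : φ v = c - 1 := by rw [hv, map_smul, smul_eq_mul, div_mul_cancel₀ _ hv0]
    have hD : LinearMap.det (LinearMap.transvection φ v) = c := by
      rw [LinearMap.transvection.det, hφv]; ring
    have hinj : Function.Injective (LinearMap.transvection φ v) := by
      rw [injective_iff_map_eq_zero]
      intro x hx
      rw [LinearMap.transvection.apply] at hx
      have h2 := congrArg φ hx
      rw [map_add, map_smul, map_zero, hφv, smul_eq_mul] at h2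
      have h3 : φ x * c = 0 := by rw [← h2]; ring
      have h4 : φ x = 0 := (mul_eq_zero.1 h3).resolve_right (inv_ne_zero hdet)
      rwa [h4, zero_smul, add_zero] at hx
    let D := LinearEquiv.ofInjectiveEndo (LinearMap.transvection φ v) hinj
    obtain ⟨g, hg, hgA⟩ := hsl (D.trans A) (by
      rw [LinearEquiv.coe_trans, LinearMap.det_comp]
      show _ * LinearMap.det (LinearMap.transvection φ v) = 1
      rw [hD, hc, mul_inv_cancel₀ hdet])
    obtain ⟨g', hg', hgt⟩ := htrans (A (t 0) + b - A (D (t 0)))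
    refine ⟨g' * g, mul_mem hg' hg, fun i => ?_⟩
    have hfix : ∀ x ∈ W, D x = x := fun x hx => by
      show LinearMap.transvection φ v x = x
      rw [LinearMap.transvection.apply, show φ x = 0 from hφW hx, zero_smul, add_zero]
    rw [Equiv.Perm.mul_apply, hgt, hgA, LinearEquiv.trans_apply, hA]
    have h : A (D (t i - t 0)) = A (t i - t 0) := by
      congr 1
      apply hfix
      fin_cases i
      · simp
      · exact Submodule.subset_span ⟨0, rfl⟩
      · exact Submodule.subset_span ⟨1, rfl⟩
    simp only [map_sub] at h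
    rw [show A (D (t i)) = A (t i) - A (t 0) + A (D (t 0)) from by rw [← h]; abel]
    abel


end Cfsg.Agent.S3516
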