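import Cfsg.Statements.S3517
import Cfsg.Agent.Lib.Recognition.Affine

set_option autoImplicit false
set_option linter.style.haveILetI false
open Cfsg
open Cfsg.Agent.Lib.Recognition

namespace Cfsg.Agent.S3517

/-- For d ≥ 3, the 3-closure of the affine group AGL_d(2) acting on F_2^d is the full symmetric group: every permutation of F_2^d agrees on every ordered triple of points with some affine map (AGL_d(2) is 3-transitive). -/
theorem result (d : ℕ) (hd : 3 ≤ d) (σ : Equiv.Perm (Fin d → ZMod 2)) (t : Fin 3 → (Fin d → ZMod 2)) :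
    ∃ (A : (Fin d → ZMod 2) ≃ₗ[ZMod 2] (Fin d → ZMod 2)) (b : Fin d → ZMod 2), ∀ i, σ (t i) = A (t i) + b := by
  classical
  have hbig : 3 ≤ Fintype.card (Fin d → ZMod 2) := by
    rw [Fintype.card_fun, ZMod.card, Fintype.card_fin]
    calc 3 ≤ 2 ^ 3 := by norm_num
      _ ≤ 2 ^ d := Nat.pow_le_pow_right (by norm_num) hd
  obtain ⟨T, hsub, hT⟩ := Finset.exists_superset_card_eq (s := Finset.univ.image t)
    (le_trans Finset.card_image_le (by simp)) hbig
  let s : Fin 3 → (Fin d → ZMod 2) := fun i => ((Finset.equivFinOfCardEq hT).symm i).1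
  have hs : Function.Injective s := fun a b h => (Finset.equivFinOfCardEq hT).symm.injective (Subtype.ext h)
  have hli : ∀ r : Fin 3 → (Fin d → ZMod 2), Function.Injective r → LinearIndependent (ZMod 2) ![r 1 - r 0, r 2 - r 0] := by
    intro r hr
    rw [LinearIndependent.pair_iff]
    intro a b hab
    rcases (show ∀ c : ZMod 2, c = 0 ∨ c = 1 by decide) a with rfl | rfl <;>
      rcases (show ∀ c : ZMod 2, c = 0 ∨ c = 1 by decide) b with rfl | rfl
    · exact ⟨rfl, rfl⟩
    · rw [zero_smul, zero_add, one_smul, sub_eq_zero] at hab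
      exact absurd (hr hab) (by decide)
    · rw [zero_smul, add_zero, one_smul, sub_eq_zero] at hab
      exact absurd (hr hab) (by decide)
    · exfalso
      rw [one_smul, one_smul] at hab
      have : r 1 - r 0 = r 2 - r 0 := by
        rw [eq_neg_of_add_eq_zero_left hab]
        funext i
        exact ZMod.neg_eq_self_mod_two _
      exact absurd (hr (sub_left_injective this)) (by decide)
  obtain ⟨A, hA⟩ := exists_linearEquiv_apply_eq _ _ (hli s hs) (hli (σ ∘ s) (σ.injective.comp hs))
  refine ⟨A, σ (s 0) - A (s 0), fun i => ?_⟩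
  obtain ⟨j, hj⟩ : ∃ j, s j = t i := ⟨Finset.equivFinOfCardEq hT ⟨t i, hsub (Finset.mem_image_of_mem t (Finset.mem_univ i))⟩,
    by simp [s]⟩
  rw [← hj]
  fin_cases j
  · simp
  · have := hA 0
    simp only [Matrix.cons_val_zero, Function.comp_apply, map_sub] at this
    show σ (s 1) = A (s 1) + _
    rw [show A (s 1) = A (s 0) + (σ (s 1) - σ (s 0)) from by rw [← this]; abel]
    abel
  · have := hA 1
    simp only [Matrix.cons_val_one, Matrix.cons_val_fin_one, Function.comp_apply, map_sub] at this
    show σ (s 2) = A (s 2) + _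
    rw [show A (s 2) = A (s 0) + (σ (s 2) - σ (s 0)) from by rw [← this]; abel]
    abel


end Cfsg.Agent.S3517
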