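import Cfsg.Statements.S3518

set_option autoImplicit false
set_option linter.style.haveILetI false
open Cfsg
open Polynomial

namespace Cfsg.Agent.S3518

/-- Closures of subgroups of the one-dimensional affine group. Let p be a prime and G a group of permutations of F_p lying in the affine group AGL₁(p) = {x ↦ ax + b, a ≠ 0} and containing all translations. (1) If G is a proper subgroup of AGL₁(p), then G is 2-closed: a permutation of F_p agreeing on every ordered pair of points with some element of G lies in G. (2) Every permutation of F_p agrees on every ordered pair with some element of AGL₁(p) (the 2-closure of AGL₁(p) is the symmetric group). (3) AGL₁(p) is 3-closed: a permutation agreeing on every ordered triple with some affine map is affine. -/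
theorem result (p : ℕ) [Fact p.Prime] (G : Subgroup (Equiv.Perm (ZMod p))) (hG : G ≤ Cfsg.affineGroup (ZMod p))
    (htrans : ∀ b : ZMod p, ∃ g ∈ G, ∀ x, g x = x + b) :
    (G ≠ Cfsg.affineGroup (ZMod p) → ∀ σ : Equiv.Perm (ZMod p), (∀ t : Fin 2 → ZMod p, ∃ g ∈ G, ∀ i, σ (t i) = g (t i)) → σ ∈ G) ∧
    (∀ σ : Equiv.Perm (ZMod p), (∀ t : Fin 2 → ZMod p, ∃ g ∈ Cfsg.affineGroup (ZMod p), ∀ i, σ (t i) = g (t i))) ∧
    (∀ σ : Equiv.Perm (ZMod p), (∀ t : Fin 3 → ZMod p, ∃ g ∈ Cfsg.affineGroup (ZMod p), ∀ i, σ (t i) = g (t i)) → σ ∈ Cfsg.affineGroup (ZMod p)) := by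
  classical
  have hp : p.Prime := Fact.out
  have haff : ∀ g ∈ G, ∃ (a : (ZMod p)ˣ) (b : ZMod p), ∀ x, g x = (a : ZMod p) * x + b := fun g hg => hG hg
  have h2 : ∀ σ : Equiv.Perm (ZMod p), ∀ t : Fin 2 → ZMod p, ∃ g ∈ Cfsg.affineGroup (ZMod p), ∀ i, σ (t i) = g (t i) := by
    intro σ t
    rcases eq_or_ne (t 0) (t 1) with h | h
    · refine ⟨Equiv.addRight (σ (t 0) - t 0), ⟨1, σ (t 0) - t 0, fun x => by simp⟩, fun i => ?_⟩
      fin_cases i
      · simp
      · simp [← h]
    · have h1 : t 1 - t 0 ≠ 0 := sub_ne_zero.2 h.symm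
      have h2 : σ (t 1) - σ (t 0) ≠ 0 := sub_ne_zero.2 (σ.injective.ne h.symm)
      set a := (σ (t 1) - σ (t 0)) / (t 1 - t 0) with ha
      have ha0 : a ≠ 0 := div_ne_zero h2 h1
      refine ⟨(Equiv.mulLeft₀ a ha0).trans (Equiv.addRight (σ (t 0) - a * t 0)), ⟨Units.mk0 a ha0, σ (t 0) - a * t 0, fun x => by simp⟩, fun i => ?_⟩
      fin_cases i
      · simp
      · simp [ha]; field_simp; ring
  have h3 : ∀ σ : Equiv.Perm (ZMod p), (∀ t : Fin 3 → ZMod p, ∃ g ∈ Cfsg.affineGroup (ZMod p), ∀ i, σ (t i) = g (t i)) → σ ∈ Cfsg.affineGroup (ZMod p) := by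
    intro σ hσ
    obtain ⟨g, ⟨a, b, hg⟩, hgt⟩ := hσ ![0, 1, 0]
    have e0 := hgt 0; have e1 := hgt 1
    simp only [Matrix.cons_val_zero, Matrix.cons_val_one, hg, mul_zero, zero_add, mul_one] at e0 e1
    refine ⟨a, b, fun x => ?_⟩
    obtain ⟨g', ⟨a', b', hg'⟩, hgt'⟩ := hσ ![0, 1, x]
    have f0 := hgt' 0; have f1 := hgt' 1; have f2 := hgt' 2
    simp only [Matrix.cons_val_zero, Matrix.cons_val_one, Matrix.cons_val, hg', mul_zero, zero_add, mul_one] at f0 f1 f2
    rw [f2, show b' = b from f0.symm.trans e0]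
    have : (a' : ZMod p) = a := by
      have := f1.symm.trans e1
      rw [show b' = b from f0.symm.trans e0] at this
      exact add_right_cancel this
    rw [this]
  refine ⟨fun hne σ hσ => ?_, h2, h3⟩
  -- the multiplier group
  let D : Subgroup (ZMod p)ˣ :=
    { carrier := {a | ∃ g ∈ G, ∀ x, g x = (a : ZMod p) * x}
      one_mem' := ⟨1, one_mem _, fun x => by simp⟩
      mul_mem' := by
        rintro a b ⟨g, hg, hga⟩ ⟨h, hh, hhb⟩
        exact ⟨g * h, mul_mem hg hh, fun x => by rw [Equiv.Perm.mul_apply, hhb, hga, Units.val_mul, mul_assoc]⟩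
      inv_mem' := by
        rintro a ⟨g, hg, hga⟩
        exact ⟨g⁻¹, inv_mem hg, fun x => g.injective (by rw [Equiv.Perm.inv_def, Equiv.apply_symm_apply, hga, ← mul_assoc, Units.mul_inv, one_mul])⟩ }
  have hmem : ∀ g ∈ G, ∀ (a : (ZMod p)ˣ) (b : ZMod p), (∀ x, g x = (a : ZMod p) * x + b) → a ∈ D := by
    intro g hg a b hgab
    obtain ⟨τ, hτ, hτb⟩ := htrans (-b)
    exact ⟨τ * g, mul_mem hτ hg, fun x => by rw [Equiv.Perm.mul_apply, hτb, hgab, add_neg_cancel_right]⟩
  have hmk : ∀ a ∈ D, ∀ b : ZMod p, ∀ τ : Equiv.Perm (ZMod p), (∀ x, τ x = (a : ZMod p) * x + b) → τ ∈ G := by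
    rintro a ⟨g, hg, hga⟩ b τ hτ
    obtain ⟨τ', hτ', hτb⟩ := htrans b
    have : τ = τ' * g := Equiv.ext fun x => by rw [Equiv.Perm.mul_apply, hτb, hga, hτ]
    exact this ▸ mul_mem hτ' hg
  have hDtop : D ≠ ⊤ := fun h => hne (le_antisymm hG fun τ ⟨a, b, hτ⟩ => hmk a (h ▸ Subgroup.mem_top a) b τ hτ)
  set k := Nat.card D with hk
  have hkpos : 0 < k := Nat.card_pos
  have hkp : 2 * k ≤ p - 1 := by
    have hcard : Nat.card (ZMod p)ˣ = p - 1 := by rw [Nat.card_eq_fintype_card, ZMod.card_units]
    obtain ⟨c, hc⟩ := D.card_subgroup_dvd_card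
    rw [hcard, ← hk] at hc
    rcases c with _ | _ | c
    · have := hp.two_le; omega
    · exact absurd (Subgroup.eq_top_of_card_eq D (by rw [hcard, ← hk]; omega)) hDtop
    · rw [hc]; nlinarith
  -- σ respects differences
  have hdiff : ∀ (x : ZMod p) (d : D), ∃ d' : D, σ (x + ((d : (ZMod p)ˣ) : ZMod p)) = σ x + ((d' : (ZMod p)ˣ) : ZMod p) := by
    intro x d
    obtain ⟨g, hg, hgt⟩ := hσ ![x, x + ((d : (ZMod p)ˣ) : ZMod p)]
    obtain ⟨a, b, hgab⟩ := haff g hg
    refine ⟨⟨a * d, mul_mem (hmem g hg a b hgab) d.2⟩, ?_⟩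
    have e0 := hgt 0; have e1 := hgt 1
    simp only [Matrix.cons_val_zero, Matrix.cons_val_one, hgab] at e0 e1
    rw [e0, e1]; push_cast; ring
  choose π hπ using hdiff
  have hπb : ∀ x, Function.Bijective (π x) := fun x => by
    rw [Finite.injective_iff_bijective.symm]
    intro d d' h
    have h1 : σ (x + ((d : (ZMod p)ˣ) : ZMod p)) = σ (x + ((d' : (ZMod p)ˣ) : ZMod p)) := by rw [hπ, hπ, h]
    exact Subtype.ext (Units.ext (add_left_cancel (σ.injective h1)))
  set f : (ZMod p)[X] := Lagrange.interpolate Finset.univ id fun x => σ x with hf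
  have hfe : ∀ x, f.eval x = σ x := fun x => Lagrange.eval_interpolate_at_node (v := id) _ Function.injective_id.injOn (Finset.mem_univ x)
  set m := f.natDegree with hm
  have hmlt : m < p := by
    have h1 := Lagrange.degree_interpolate_lt (s := (Finset.univ : Finset (ZMod p))) (v := id) (fun x => σ x) Function.injective_id.injOn
    rw [← hf, Finset.card_univ, ZMod.card] at h1
    by_cases h0 : f = 0
    · rw [hm, h0, natDegree_zero]; exact hp.pos
    · exact (natDegree_lt_iff_degree_lt h0).2 h1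
  have hm0 : 0 < m := by
    by_contra h
    obtain ⟨c, hc⟩ := natDegree_eq_zero.1 (show f.natDegree = 0 by omega)
    have h01 : σ 0 = σ 1 := by rw [← hfe, ← hfe, ← hc, eval_C, eval_C]
    exact zero_ne_one (σ.injective h01)
  haveI : Fintype D := Fintype.ofFinite D
  have hcardD : Fintype.card D = k := by rw [hk, Nat.card_eq_fintype_card]
  by_cases hm1 : m = 1
  · obtain ⟨c1, c0, hc⟩ := exists_eq_X_add_C_of_natDegree_le_one (le_of_eq hm1)
    have hσc : ∀ x, σ x = c1 * x + c0 := fun x => by rw [← hfe, hc]; simp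
    have hh := hπ 0 1
    rw [zero_add, hσc, hσc, OneMemClass.coe_one, Units.val_one, mul_one, mul_zero, zero_add, add_comm c0] at hh
    exact hmk _ (π 0 1).2 c0 σ fun x => by rw [hσc, add_right_cancel hh]
  · exfalso
    set j := (p - 1) / m with hj
    set n := m * j with hn
    have hj1 : 1 ≤ j := Nat.div_pos (by omega) hm0
    have hnle : n ≤ p - 1 := Nat.mul_div_le _ _
    have hnk : k ≤ n := by
      rcases le_or_gt k m with h | h
      · exact h.trans (Nat.le_mul_of_pos_right _ hj1)
      · have h1 : p - 1 < m * (j + 1) := Nat.lt_mul_div_succ _ hm0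
        rw [Nat.mul_succ] at h1
        omega
    set F := f ^ j with hF
    have hFdeg : F.natDegree = n := by rw [hF, natDegree_pow, hn, hm, mul_comm]
    set P : (ZMod p)[X] := ∑ d : D, (taylor ((d : (ZMod p)ˣ) : ZMod p) F - (f + C (((d : (ZMod p)ˣ) : ZMod p))) ^ j) with hP
    have hPdeg : P.natDegree ≤ n := by
      refine natDegree_sum_le_of_forall_le _ _ fun d _ => (natDegree_sub_le _ _).trans (max_le ?_ ?_)
      · rw [natDegree_taylor, hFdeg]
      · refine natDegree_pow_le.trans ?_
        rw [natDegree_add_C, hn, hm, mul_comm]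
    have hP0 : P = 0 := by
      refine eq_zero_of_natDegree_lt_card_of_eval_eq_zero P Function.injective_id (fun x => ?_) ?_
      · simp only [id, hP, eval_finsetSum, eval_sub, taylor_eval, hF, eval_pow, eval_add, eval_C, hfe, Finset.sum_sub_distrib, sub_eq_zero]
        rw [← (hπb x).sum_comp (fun d : D => (σ x + ((d : (ZMod p)ˣ) : ZMod p)) ^ j)]
        simp only [hπ, add_comm _ x]
      · rw [ZMod.card]; omega
    -- compare the coefficients of degree n - k
    have hsum : ∀ i, i ≠ 0 → i < k → ∑ d : D, ((d : (ZMod p)ˣ) : ZMod p) ^ i = 0 := fun i hi hik =>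
      FiniteField.sum_subgroup_pow_eq_zero hi (by rw [hcardD]; exact hik)
    have hsumk : ∑ d : D, ((d : (ZMod p)ˣ) : ZMod p) ^ k = k := by
      have : ∀ d : D, ((d : (ZMod p)ˣ) : ZMod p) ^ k = 1 := fun d => by
        rw [← Units.val_pow_eq_pow_val, ← SubmonoidClass.coe_pow, hk, pow_card_eq_one', OneMemClass.coe_one, Units.val_one]
      simp [this, hcardD]
    have e1 : ∑ d : D, (taylor ((d : (ZMod p)ˣ) : ZMod p) F).coeff (n - k) =
        k * F.coeff (n - k) + k * (n.choose k * F.coeff n) := by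
      have : ∀ d : D, (taylor ((d : (ZMod p)ˣ) : ZMod p) F).coeff (n - k) =
          ∑ i ∈ Finset.range (k + 1), ((i + (n - k)).choose (n - k) : ZMod p) * F.coeff (i + (n - k)) * ((d : (ZMod p)ˣ) : ZMod p) ^ i := by
        intro d
        rw [taylor_coeff, eval_eq_sum_range' (n := k + 1)]
        · simp only [hasseDeriv_coeff]
        · have := natDegree_hasseDeriv_le F (n - k)
          rw [hFdeg] at this
          omega
      rw [Finset.sum_congr rfl fun d _ => this d, Finset.sum_comm]
      simp only [← Finset.mul_sum]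
      rw [Finset.sum_range_succ, Finset.sum_eq_single 0]
      · rw [hsumk, Nat.choose_symm_of_eq_add (show k + (n - k) = k + (n - k) from rfl) |>.symm]
        simp [hcardD, Nat.add_sub_cancel' hnk]
        ring
      · intro i hi hi0
        rw [hsum i hi0 (Finset.mem_range.1 hi), mul_zero]
      · intro h; exact absurd (Finset.mem_range.2 hkpos) h
    have e2 : ∑ d : D, ((f + C (((d : (ZMod p)ˣ) : ZMod p))) ^ j).coeff (n - k) = k * F.coeff (n - k) := by
      have : ∀ d : D, ((f + C (((d : (ZMod p)ˣ) : ZMod p))) ^ j).coeff (n - k) =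
          ∑ t ∈ Finset.range (j + 1), (f ^ t).coeff (n - k) * (((d : (ZMod p)ˣ) : ZMod p) ^ (j - t) * (j.choose t : ZMod p)) := by
        intro d
        rw [add_pow, finsetSum_coeff]
        refine Finset.sum_congr rfl fun t _ => ?_
        rw [mul_assoc, ← C_pow, ← C_eq_natCast, ← C_mul, coeff_mul_C]
      rw [Finset.sum_congr rfl fun d _ => this d, Finset.sum_comm]
      simp only [← Finset.mul_sum, ← Finset.sum_mul]
      rw [Finset.sum_eq_single j]
      · simp [hcardD, hF, mul_comm]
      · intro t ht htj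
        have htlt : t < j := lt_of_le_of_ne (Nat.lt_succ_iff.1 (Finset.mem_range.1 ht)) htj
        rcases lt_or_ge (j - t) k with h | h
        · rw [hsum (j - t) (by omega) h, zero_mul, mul_zero]
        · rw [coeff_eq_zero_of_natDegree_lt, zero_mul]
          rw [natDegree_pow, ← hm]
          have h4 : m * t + m * k ≤ n := by
            rw [hn, ← Nat.mul_add]; exact Nat.mul_le_mul_left _ (by omega)
          have h5 : 2 * k ≤ m * k := Nat.mul_le_mul_right _ (by omega)
          rw [mul_comm t m]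
          omega
      · intro h; exact absurd (Finset.mem_range.2 (Nat.lt_succ_self j)) h
    have hc := congrArg (fun P : (ZMod p)[X] => P.coeff (n - k)) hP0
    simp only [hP, finsetSum_coeff, coeff_sub, Finset.sum_sub_distrib, e1, e2, coeff_zero, add_sub_cancel_left] at hc
    have hne0 : ∀ a : ℕ, 0 < a → a < p → (a : ZMod p) ≠ 0 := fun a ha hap h => by
      rw [ZMod.natCast_eq_zero_iff] at h
      exact absurd (Nat.le_of_dvd ha h) (by omega)
    have hch : (n.choose k : ZMod p) ≠ 0 := by
      rw [Ne, ZMod.natCast_eq_zero_iff]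
      intro h
      have : p ∣ n.factorial := h.trans ⟨k.factorial * (n - k).factorial, by rw [← Nat.choose_mul_factorial_mul_factorial hnk]; ring⟩
      exact absurd ((Nat.Prime.dvd_factorial hp).1 this) (by omega)
    have hlc : F.coeff n ≠ 0 := by
      rw [← hFdeg]
      exact leadingCoeff_ne_zero.2 (pow_ne_zero _ fun h => by rw [hm, h, natDegree_zero] at hm0; omega)
    simp only [mul_eq_zero, hne0 k hkpos (by omega), hch, hlc, or_self] at hc


end Cfsg.Agent.S3518
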