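import Cfsg.Statements.S3520
import Cfsg.Agent.Lib.OddLocal.TwoDerangementClasses

set_option autoImplicit false
open Cfsg

namespace Cfsg.Agent.S3520

open Cfsg.Agent.OddLocal.TwoClasses Cfsg.Agent.OddLocal.Derangement

/-- Let a finite group G act faithfully and primitively on a finite set Ω with at least two points, suppose G is not almost simple (no non-abelian simple normal subgroup with trivial centralizer), and suppose the derangements of G form exactly two conjugacy classes. Then either Ω has 3 points and G has order 3; or G has a non-trivial abelian normal subgroup N acting regularly, every non-identity element of G fixes at most one point (so, when n > 3, G is a Frobenius group with kernel N), the number n of points is odd and a point stabilizer has order (n − 1)/2; or G is 2-transitive with a non-trivial abelian regular normal subgroup and some non-identity element fixes at least two points (a non-Frobenius 2-transitive affine group). -/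
theorem result {G : Type*} [Group G] [Finite G] {Ω : Type*} [Fintype Ω] [MulAction G Ω] [FaithfulSMul G Ω] (hΩ : 2 ≤ Fintype.card Ω) (hprim : MulAction.IsPreprimitive G Ω) (hnas : ¬ ∃ T : Subgroup G, T.Normal ∧ IsSimpleGroup T ∧ ¬ IsMulCommutative T ∧ Subgroup.centralizer (T : Set G) = ⊥)
    (hκ : Nat.card {c : ConjClasses G // ∃ g : G, ConjClasses.mk g = c ∧ ∀ ω : Ω, g • ω ≠ ω} = 2) (α : Ω) :
    (Fintype.card Ω = 3 ∧ Nat.card G = 3) ∨
    ((∃ N : Subgroup G, N.Normal ∧ N ≠ ⊥ ∧ IsMulCommutative N ∧ ∀ ω : Ω, MulAction.stabilizer N ω = ⊥) ∧ (∀ g : G, g ≠ 1 → Nat.card (MulAction.fixedBy Ω g) ≤ 1) ∧ ¬ 2 ∣ Fintype.card Ω ∧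
        2 * Nat.card (MulAction.stabilizer G α) = Fintype.card Ω - 1) ∨
    ((∃ N : Subgroup G, N.Normal ∧ N ≠ ⊥ ∧ IsMulCommutative N ∧ ∀ ω : Ω, MulAction.stabilizer N ω = ⊥) ∧ MulAction.IsMultiplyPretransitive G Ω 2 ∧ ∃ g : G, g ≠ 1 ∧ 2 ≤ Nat.card (MulAction.fixedBy Ω g)) := by
  classical
  haveI := hprim.toIsPretransitive
  haveI : Fintype G := Fintype.ofFinite G
  haveI : Nontrivial Ω := Fintype.one_lt_card_iff_nontrivial.mp (by omega)
  haveI : Nonempty Ω := ⟨α⟩
  haveI : Nontrivial G := by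
    by_contra h
    rw [not_nontrivial_iff_subsingleton] at h
    obtain ⟨β, hβ⟩ := exists_ne α
    obtain ⟨g, hg⟩ := MulAction.exists_smul_eq G α β
    rw [Subsingleton.elim g 1, one_smul] at hg
    exact hβ hg.symm
  let P : Subgroup G → Prop := fun M => M.Normal ∧ M ≠ ⊥
  obtain ⟨N, ⟨hNn, hN1⟩, hNmin⟩ := exists_minimal_of_wellFoundedLT P
    ⟨⊤, inferInstance, top_ne_bot⟩
  haveI := hNn
  have hmin : ∀ M : Subgroup G, M.Normal → M ≤ N → M = ⊥ ∨ M = N := fun M hM hle =>
    or_iff_not_imp_left.mpr fun h => le_antisymm hle (hNmin ⟨hM, h⟩ hle)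
  have hcomm := minimal_normal_comm hprim hnas hκ N hN1 hmin
  haveI htN : MulAction.IsPretransitive N Ω := by
    haveI := hprim
    refine MulAction.IsQuasiPreprimitive.isPretransitive_of_normal fun h => hN1 ?_
    refine (Subgroup.eq_bot_iff_forall _).mpr fun m hm => eq_of_smul_eq_smul fun ω : Ω => ?_
    rw [one_smul]
    have hω : ω ∈ MulAction.fixedPoints N Ω := h.symm ▸ Set.mem_univ ω
    exact hω ⟨m, hm⟩
  have hreg : ∀ x ∈ N, ∀ ω : Ω, x • ω = ω → x = 1 := by
    intro x hx ω hω
    refine eq_of_smul_eq_smul fun ω' : Ω => ?_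
    obtain ⟨⟨c, hc⟩, hcω⟩ := MulAction.exists_smul_eq N ω ω'
    have hcω' : c • ω = ω' := hcω
    rw [one_smul, ← hcω', ← mul_smul, hcomm x hx c hc, mul_smul, hω]
  have haff : ∃ N : Subgroup G, N.Normal ∧ N ≠ ⊥ ∧ IsMulCommutative N ∧
      ∀ ω : Ω, MulAction.stabilizer N ω = ⊥ :=
    ⟨N, hNn, hN1, ⟨⟨fun a b => Subtype.ext (hcomm a a.2 b b.2)⟩⟩, fun ω =>
      (Subgroup.eq_bot_iff_forall _).mpr fun x hx => Subtype.ext (hreg x x.2 ω hx)⟩
  have hcardN : Nat.card N = Fintype.card Ω := by
    rw [← Nat.card_eq_fintype_card]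
    refine Nat.card_congr (Equiv.ofBijective (fun x : N => x • α) ⟨fun x y h => ?_, fun ω =>
      MulAction.exists_smul_eq N α ω⟩)
    have h' : (y⁻¹ * x) • α = α := by
      rw [mul_smul]
      show y⁻¹ • x • α = α
      rw [show x • α = y • α from h, inv_smul_smul]
    exact (inv_mul_eq_one.mp (Subtype.ext (hreg _ (y⁻¹ * x).2 α h') : y⁻¹ * x = 1)).symm
  have hNd : ∀ x ∈ N, x ≠ 1 → ∀ ω : Ω, x • ω ≠ ω := fun x hx hx1 ω h => hx1 (hreg x hx ω h)
  have hsplit : ∀ g : G, ∃ n ∈ N, ∃ s ∈ MulAction.stabilizer G α, g = n * s := by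
    intro g
    obtain ⟨⟨n, hn⟩, hnα⟩ := MulAction.exists_smul_eq N α (g • α)
    have hnα' : n • α = g • α := hnα
    refine ⟨n, hn, n⁻¹ * g, ?_, by group⟩
    show (n⁻¹ * g) • α = α
    rw [mul_smul, ← hnα', inv_smul_smul]
  have hconjN : ∀ x ∈ N, ∀ y, IsConj x y →
      ∃ s ∈ MulAction.stabilizer G α, y = s * x * s⁻¹ := by
    intro x hx y hxy
    obtain ⟨g, rfl⟩ := isConj_iff.mp hxy
    obtain ⟨n, hn, s, hs, rfl⟩ := hsplit g
    refine ⟨s, hs, ?_⟩
    have h1 := hcomm n hn _ (hNn.conj_mem x hx s)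
    calc n * s * x * (n * s)⁻¹ = n * (s * x * s⁻¹) * n⁻¹ := by group
      _ = s * x * s⁻¹ * n * n⁻¹ := by rw [h1]
      _ = s * x * s⁻¹ := mul_inv_cancel_right _ _
  have hfixcomm : ∀ s ∈ MulAction.stabilizer G α, ∀ v ∈ N,
      (s • (v • α) = v • α ↔ s * v * s⁻¹ = v) := by
    intro s hs v hv
    have hsα : s • α = α := hs
    have hsi : s⁻¹ • α = α := by rw [inv_smul_eq_iff, hsα]
    have he : (s * v * s⁻¹) • α = s • (v • α) := by rw [mul_smul, mul_smul, hsi]
    constructor
    · intro h
      have : (v⁻¹ * (s * v * s⁻¹)) • α = α := by rw [mul_smul, he, h, inv_smul_smul]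
      exact (inv_mul_eq_one.mp
        (hreg _ (N.mul_mem (N.inv_mem hv) (hNn.conj_mem v hv s)) α this)).symm
    · intro h
      rw [← he, h]
  by_cases hA : ∀ g : G, g ≠ 1 → Nat.card (MulAction.fixedBy Ω g) ≤ 1
  · -- Frobenius case
    refine Or.inr (Or.inl ⟨haff, hA, ?_⟩)
    have hD : Nat.card {g : G // ∀ ω : Ω, g • ω ≠ ω} + 1 = Fintype.card Ω := by
      have hs := sum_card_fixFin (G := G) (Ω := Ω)
      have hterm : ∀ g : G, (fixFin Ω g).card + (if (fixFin Ω g).card = 0 then 1 else 0)
          = 1 + (if g = 1 then Fintype.card Ω - 1 else 0) := by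
        intro g
        by_cases hg : g = 1
        · subst hg
          have : (fixFin Ω (1 : G)).card = Fintype.card Ω := by simp [fixFin]
          rw [this, if_pos rfl, if_neg (by omega)]
          omega
        · have := hA g hg
          rw [card_fixFin] at this
          rw [if_neg hg]
          split_ifs <;> omega
      have := Finset.sum_congr rfl fun g (_ : g ∈ (Finset.univ : Finset G)) => hterm g
      rw [Finset.sum_add_distrib, Finset.sum_add_distrib, hs, Finset.sum_boole,
        ← card_derangements, Finset.sum_const, Finset.card_univ, Finset.sum_ite_eq',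
        if_pos (Finset.mem_univ _), smul_eq_mul, mul_one] at this
      simp only [Nat.cast_id] at this
      omega
    -- the derangements are the non-identity elements of `N`
    have hder : ∀ g : G, (∀ ω : Ω, g • ω ≠ ω) → g ∈ N ∧ g ≠ 1 := by
      intro g hg
      have hsub : (Finset.univ.filter fun x : G => x ∈ N ∧ x ≠ 1) =
          Finset.univ.filter fun x : G => ∀ ω : Ω, x • ω ≠ ω := by
        refine Finset.eq_of_subset_of_card_le (fun x hx => ?_) ?_
        · simp only [Finset.mem_filter, Finset.mem_univ, true_and] at hx ⊢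
          exact hNd x hx.1 hx.2
        · have h1 : (Finset.univ.filter fun x : G => x ∈ N ∧ x ≠ 1).card + 1 = Nat.card N := by
            rw [Nat.card_eq_fintype_card, Fintype.card_subtype]
            rw [← Finset.card_insert_of_notMem (s := Finset.univ.filter fun x : G => x ∈ N ∧ x ≠ 1)
              (a := (1 : G)) (by simp)]
            congr 1
            ext x
            by_cases hx : x = 1 <;> simp [hx, N.one_mem]
          rw [Nat.card_eq_fintype_card, Fintype.card_subtype] at hD
          omega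
      have : g ∈ Finset.univ.filter fun x : G => x ∈ N ∧ x ≠ 1 := by
        rw [hsub]; simpa using hg
      simpa using this
    -- the stabilizer is semiregular on them, with two orbits
    set C := {c : ConjClasses G // ∃ g : G, ConjClasses.mk g = c ∧ ∀ ω : Ω, g • ω ≠ ω}
    let F : C × MulAction.stabilizer G α → {g : G // ∀ ω : Ω, g • ω ≠ ω} := fun cs =>
      ⟨(cs.2 : G) * cs.1.2.choose * (cs.2 : G)⁻¹, by
        obtain ⟨h1, h2⟩ := hder _ cs.1.2.choose_spec.2
        exact hNd _ (hNn.conj_mem _ h1 _) fun h => h2 (conj_eq_one_iff.mp h)⟩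
    have hF : Function.Bijective F := by
      constructor
      · rintro ⟨c, s⟩ ⟨c', s'⟩ h
        have h' : (s : G) * c.2.choose * (s : G)⁻¹ = (s' : G) * c'.2.choose * (s' : G)⁻¹ :=
          congrArg Subtype.val h
        have hc : c = c' := by
          refine Subtype.ext ?_
          rw [← c.2.choose_spec.1, ← c'.2.choose_spec.1, ConjClasses.mk_eq_mk_iff_isConj]
          exact (isConj_iff.mpr ⟨(s : G), h'⟩).trans (isConj_iff.mpr ⟨(s' : G)⁻¹, by group⟩)
        subst hc
        refine Prod.ext rfl ?_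
        obtain ⟨h1, h2⟩ := hder _ c.2.choose_spec.2
        by_contra hne
        set t := (s' : G)⁻¹ * s with ht
        have htα : t ∈ MulAction.stabilizer G α :=
          Subgroup.mul_mem _ (Subgroup.inv_mem _ s'.2) s.2
        have htv : t * c.2.choose * t⁻¹ = c.2.choose := by
          calc t * c.2.choose * t⁻¹
              = (s' : G)⁻¹ * ((s : G) * c.2.choose * (s : G)⁻¹) * (s' : G) := by rw [ht]; group
            _ = (s' : G)⁻¹ * ((s' : G) * c.2.choose * (s' : G)⁻¹) * (s' : G) := by rw [h']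
            _ = c.2.choose := by group
        have h3 : c.2.choose • α ≠ α := c.2.choose_spec.2 α
        have ht1 : t ≠ 1 := fun e => hne (Subtype.ext (inv_mul_eq_one.mp e).symm)
        have := hA t ht1
        have h4 : ({α, c.2.choose • α} : Set Ω) ⊆ MulAction.fixedBy Ω t := by
          rintro z (rfl | rfl)
          · exact htα
          · exact (hfixcomm t htα _ h1).mpr htv
        have h5 := Set.ncard_le_ncard h4 (Set.toFinite _)
        rw [Set.ncard_pair (Ne.symm h3), ← Nat.card_coe_set_eq] at h5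
        omega
      · rintro ⟨g, hg⟩
        let c : C := ⟨ConjClasses.mk g, g, rfl, hg⟩
        have hcj : IsConj c.2.choose g := ConjClasses.mk_eq_mk_iff_isConj.mp c.2.choose_spec.1
        obtain ⟨s, hs, he⟩ := hconjN _ (hder _ c.2.choose_spec.2).1 g hcj
        exact ⟨(c, ⟨s, hs⟩), Subtype.ext he.symm⟩
    have hcount := Nat.card_congr (Equiv.ofBijective F hF)
    rw [Nat.card_prod, hκ] at hcount
    constructor <;> omega
  · -- 2-transitive case
    push Not at hA
    obtain ⟨g, hg1, hg2⟩ := hA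
    refine Or.inr (Or.inr ⟨haff, ?_, g, hg1, by omega⟩)
    haveI : Nontrivial (MulAction.fixedBy Ω g) := Finite.one_lt_card_iff_nontrivial.mp (by omega)
    obtain ⟨⟨u, hu⟩, ⟨w, hw⟩, huw⟩ := exists_pair_ne (MulAction.fixedBy Ω g)
    have huw' : u ≠ w := fun e => huw (Subtype.ext e)
    obtain ⟨k, hk⟩ := MulAction.exists_smul_eq G u α
    set t := k * g * k⁻¹ with ht
    have htα : t ∈ MulAction.stabilizer G α := by
      show t • α = α
      rw [ht, ← hk, mul_smul, mul_smul, inv_smul_smul, show g • u = u from hu]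
    have htw : t • (k • w) = k • w := by
      rw [ht, mul_smul, mul_smul, inv_smul_smul, show g • w = w from hw]
    obtain ⟨⟨v, hv⟩, hvw⟩ := MulAction.exists_smul_eq N α (k • w)
    have hvw' : v • α = k • w := hvw
    have hv1 : v ≠ 1 := by
      rintro rfl
      rw [one_smul, ← hk] at hvw'
      exact huw' (smul_left_cancel k hvw')
    have htv : t * v * t⁻¹ = v := (hfixcomm t htα v hv).mp (by rw [hvw', htw])
    have ht1 : t ≠ 1 := fun e => hg1 (conj_eq_one_iff.mp e)
    -- a derangement outside `N`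
    let ψ : N → N := fun x => x * (⟨t * (x : G) * t⁻¹, hNn.conj_mem x x.2 t⟩ : N)⁻¹
    have hψ : ¬ Function.Injective ψ := by
      intro hinj
      have h0 : ψ ⟨v, hv⟩ = ψ 1 := by
        apply Subtype.ext
        simp [ψ, htv]
      exact hv1 (congrArg Subtype.val (hinj h0))
    obtain ⟨x, hx⟩ : ∃ x : N, ∀ y, ψ y ≠ x := by
      by_contra hcon
      push Not at hcon
      exact hψ (Finite.injective_iff_surjective.mpr hcon)
    have hxd : ∀ ω : Ω, ((x : G) * t) • ω ≠ ω := by
      intro ω hω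
      obtain ⟨⟨y, hy⟩, hyω⟩ := MulAction.exists_smul_eq N α ω
      have hyω' : y • α = ω := hyω
      refine hx ⟨y, hy⟩ (Subtype.ext ?_)
      show y * (t * y * t⁻¹)⁻¹ = (x : G)
      have htα' : t • α = α := htα
      have hti : t⁻¹ • α = α := by rw [inv_smul_eq_iff, htα']
      have he : (y⁻¹ * ((x : G) * (t * y * t⁻¹))) • α = α := by
        rw [mul_smul, mul_smul, mul_smul, mul_smul, hti, hyω', ← mul_smul (x : G) t, hω,
          ← hyω', inv_smul_smul]
      have h1 := hreg _ (N.mul_mem (N.inv_mem hy) (N.mul_mem x.2 (hNn.conj_mem y hy t))) α he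
      rw [inv_mul_eq_one] at h1
      exact mul_inv_eq_iff_eq_mul.mpr h1
    have hxN : (x : G) * t ∉ N := fun h =>
      ht1 (hreg t ((N.mul_mem_cancel_left x.2).mp h) α htα)
    have hone : ∀ y ∈ N, y ≠ 1 → ∀ y' ∈ N, y' ≠ 1 → IsConj y y' := by
      intro y hy hy1 y' hy' hy1'
      by_contra hne
      refine three_classes_false hκ (hNd y hy hy1) (hNd y' hy' hy1') hxd hne ?_ ?_
      · intro h
        obtain ⟨c, hc⟩ := isConj_iff.mp h
        exact hxN (hc ▸ hNn.conj_mem y hy c)
      · intro h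
        obtain ⟨c, hc⟩ := isConj_iff.mp h
        exact hxN (hc ▸ hNn.conj_mem y' hy' c)
    rw [MulAction.is_two_pretransitive_iff]
    have hto : ∀ β γ : Ω, β ≠ α → γ ≠ α → ∃ s : G, s • α = α ∧ s • β = γ := by
      intro β γ hβ hγ
      obtain ⟨⟨y, hy⟩, hyβ⟩ := MulAction.exists_smul_eq N α β
      obtain ⟨⟨y', hy'⟩, hyγ⟩ := MulAction.exists_smul_eq N α γ
      have hyβ' : y • α = β := hyβ
      have hyγ' : y' • α = γ := hyγ
      have hy1 : y ≠ 1 := by rintro rfl; exact hβ (hyβ'.symm.trans (one_smul G α))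
      have hy1' : y' ≠ 1 := by rintro rfl; exact hγ (hyγ'.symm.trans (one_smul G α))
      obtain ⟨s, hs, he⟩ := hconjN y hy y' (hone y hy hy1 y' hy' hy1')
      refine ⟨s, hs, ?_⟩
      have hsi : s⁻¹ • α = α := by rw [inv_smul_eq_iff]; exact hs.symm
      rw [← hyβ', ← hyγ', he, mul_smul, mul_smul, hsi]
    intro a b c d hab hcd
    obtain ⟨k₁, hk₁⟩ := MulAction.exists_smul_eq G a α
    obtain ⟨k₂, hk₂⟩ := MulAction.exists_smul_eq G c α
    obtain ⟨s, hs1, hs2⟩ := hto (k₁ • b) (k₂ • d)
      (fun e => hab (smul_left_cancel k₁ (hk₁.trans e.symm)))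
      (fun e => hcd (smul_left_cancel k₂ (hk₂.trans e.symm)))
    refine ⟨k₂⁻¹ * s * k₁, ?_, ?_⟩
    · rw [mul_smul, mul_smul, hk₁, hs1, ← hk₂, inv_smul_smul]
    · rw [mul_smul, mul_smul, hs2, inv_smul_smul]

end Cfsg.Agent.S3520
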