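import Cfsg.Statements.S3524

set_option autoImplicit false
set_option linter.style.haveILetI false
open Cfsg

namespace Cfsg.Agent.S3524

/-- A permutation group with a base is closed at one level above the base size. Let G be a group of permutations of a set Ω and suppose some k points α₁, …, α_k are fixed simultaneously only by the identity of G (a base of size k). Then G is (k+1)-closed: a permutation of Ω that agrees on every (k+1)-tuple of points with some element of G belongs to G. -/
theorem result {Ω : Type*} (G : Subgroup (Equiv.Perm Ω)) (k : ℕ) (α : Fin k → Ω)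
    (hbase : ∀ g ∈ G, (∀ i, g (α i) = α i) → g = 1) (σ : Equiv.Perm Ω)
    (hσ : ∀ t : Fin (k + 1) → Ω, ∃ g ∈ G, ∀ i, σ (t i) = g (t i)) : σ ∈ G := by
  rcases isEmpty_or_nonempty Ω with h | ⟨⟨x₀⟩⟩
  · rw [Subsingleton.elim σ 1]
    exact one_mem G
  · choose g hg hgσ using fun x : Ω => hσ (Fin.cons x α)
    have hb : ∀ x i, σ (α i) = g x (α i) := fun x i => by simpa using hgσ x i.succ
    have hsame : ∀ x, g x = g x₀ := fun x => by
      have := hbase ((g x₀)⁻¹ * g x) (mul_mem (inv_mem (hg x₀)) (hg x)) fun i => by
        rw [Equiv.Perm.mul_apply, ← hb x i, hb x₀ i, Equiv.Perm.inv_def, Equiv.symm_apply_apply]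
      exact (inv_mul_eq_one.1 this).symm
    have : σ = g x₀ := Equiv.ext fun x => by
      have := hgσ x 0
      rw [hsame x] at this
      simpa using this
    exact this ▸ hg x₀


end Cfsg.Agent.S3524
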