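import Cfsg.Statements.S3532
import Cfsg.Agent.S2475
import Mathlib.FieldTheory.Finite.GaloisField
import Mathlib.GroupTheory.SemidirectProduct
import Mathlib.GroupTheory.Solvable

set_option autoImplicit false
set_option linter.style.haveILetI false
open Cfsg

namespace Cfsg.Agent.S3532


/-- Multiplication by units on the additive group. -/
def mulHom {L : Type} [Field L] (U : Subgroup Lˣ) : U →* MulAut (Multiplicative L) where
  toFun u :=
    { toFun := fun v => Multiplicative.ofAdd (((u : Lˣ) : L) * v.toAdd)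
      invFun := fun v => Multiplicative.ofAdd ((((u : Lˣ)⁻¹ : Lˣ) : L) * v.toAdd)
      left_inv := fun v => by simp [← mul_assoc]
      right_inv := fun v => by simp [← mul_assoc]
      map_mul' := fun v w => by simp [mul_add] }
  map_one' := by ext v; simp
  map_mul' := fun u w => by ext v; simp [mul_assoc]

/-- An affine group with point stabilizer `U`. -/
abbrev Affine {L : Type} [Field L] (U : Subgroup Lˣ) : Type := Multiplicative L ⋊[mulHom U] U

theorem affine_pow {L : Type} [Field L] (U : Subgroup Lˣ) (g : Affine U) : ∀ k : ℕ,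
    (g ^ k).right = g.right ^ k ∧
      (g ^ k).left.toAdd = (∑ i ∈ Finset.range k, ((g.right : Lˣ) : L) ^ i) * g.left.toAdd := by
  intro k
  induction k with
  | zero => simp
  | succ k ih =>
    refine ⟨by rw [pow_succ, SemidirectProduct.mul_right, ih.1, pow_succ], ?_⟩
    rw [pow_succ', SemidirectProduct.mul_left, toAdd_mul, geom_sum_succ, add_mul, one_mul, add_comm, mul_assoc]
    congr 1
    rw [← ih.2]
    rfl

theorem affine_spectrum {L : Type} [Field L] [Finite L] {p : ℕ} [Fact p.Prime] [CharP L p] (U : Subgroup Lˣ)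
    (n : ℕ) : n ∈ Set.range (orderOf : Affine U → ℕ) ↔ n ∣ p ∨ n ∣ Nat.card U := by
  constructor
  · rintro ⟨g, rfl⟩
    by_cases h1 : g.right = 1
    · left
      refine orderOf_dvd_of_pow_eq_one (SemidirectProduct.ext ?_ ?_)
      · apply Multiplicative.toAdd.injective
        rw [(affine_pow U g p).2, h1]
        simp
      · rw [(affine_pow U g p).1, h1, one_pow, SemidirectProduct.one_right]
    · right
      refine (orderOf_dvd_of_pow_eq_one (SemidirectProduct.ext ?_ ?_)).trans (orderOf_dvd_natCard g.right)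
      · apply Multiplicative.toAdd.injective
        rw [(affine_pow U g _).2, SemidirectProduct.one_left, toAdd_one]
        have hu : ((g.right : Lˣ) : L) ≠ 1 := fun e => h1 (Subtype.ext (Units.ext e))
        rw [geom_sum_eq hu]
        have : ((g.right : Lˣ) : L) ^ orderOf g.right = 1 := by
          rw [← Units.val_pow_eq_pow_val, ← Subgroup.coe_pow, pow_orderOf_eq_one]
          rfl
        rw [this, sub_self, zero_div, zero_mul]
      · rw [(affine_pow U g _).1, pow_orderOf_eq_one, SemidirectProduct.one_right]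
  · intro h
    haveI : Finite (Affine U) := Finite.of_equiv _ SemidirectProduct.equivProd.symm
    have key : ∀ x : Affine U, n ∣ orderOf x → n ∈ Set.range (orderOf : Affine U → ℕ) := fun x hx =>
      ⟨x ^ (orderOf x / n), orderOf_pow_orderOf_div (orderOf_pos x).ne' hx⟩
    rcases h with h | h
    · refine key (SemidirectProduct.inl (Multiplicative.ofAdd 1)) ?_
      rwa [orderOf_injective _ SemidirectProduct.inl_injective, orderOf_eq_prime (p := p) ?_ ?_]
      · rw [← ofAdd_nsmul, nsmul_one, CharP.cast_eq_zero, ofAdd_zero]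
      · simp
    · obtain ⟨u, hu⟩ := IsCyclic.exists_ofOrder_eq_natCard (α := U)
      refine key (SemidirectProduct.inr u) ?_
      rwa [orderOf_injective _ SemidirectProduct.inr_injective, hu]

/-- Let q ≥ 4 be a prime power and L = PSL(2,q). There is a finite solvable group with the same set of element orders as L × L (so L × L is not determined by its spectrum). -/
theorem result {F : Type*} [Field F] [Fintype F] (hF : 4 ≤ Fintype.card F) :
    ∃ (H : Type) (_ : Group H) (_ : Finite H), Group.IsSolvable H ∧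
      Set.range (orderOf : H → ℕ) = Set.range (orderOf : Matrix.ProjectiveSpecialLinearGroup (Fin 2) F × Matrix.ProjectiveSpecialLinearGroup (Fin 2) F → ℕ) := by
  classical
  obtain ⟨p, hp⟩ := CharP.exists F
  haveI := hp
  obtain ⟨f, hprime, hcard⟩ := FiniteField.card F p
  haveI : Fact p.Prime := ⟨hprime⟩
  set q := Fintype.card F with hq
  set d := Nat.gcd 2 (q - 1)
  let L := GaloisField p (2 * (f : ℕ))
  haveI : Fintype L := Fintype.ofFinite L
  have hf := f.pos
  have hL : Nat.card Lˣ = q ^ 2 - 1 := by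
    rw [Nat.card_units, GaloisField.card p (2 * (f : ℕ)) (by omega), hcard, ← pow_mul, mul_comm]
  have hsub : ∀ m, m ∣ q ^ 2 - 1 → ∃ U : Subgroup Lˣ, Nat.card U = m := by
    intro m hm
    obtain ⟨g, hg⟩ := IsCyclic.exists_ofOrder_eq_natCard (α := Lˣ)
    exact ⟨Subgroup.zpowers (g ^ (orderOf g / m)), by
      rw [Nat.card_zpowers, orderOf_pow_orderOf_div (orderOf_pos g).ne' (hg ▸ hL ▸ hm)]⟩
  have hq2 : q ^ 2 - 1 = (q + 1) * (q - 1) := by
    have := Nat.sq_sub_sq q 1
    simpa using this
  have hd : d ∣ q - 1 := Nat.gcd_dvd_right _ _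
  have hd' : d ∣ q + 1 := by
    rw [show q + 1 = (q - 1) + 2 by omega]
    exact Nat.dvd_add hd (Nat.gcd_dvd_left _ _)
  obtain ⟨U₁, h₁⟩ := hsub ((q - 1) / d) (hq2 ▸ (Nat.div_dvd_of_dvd hd).trans (dvd_mul_left _ _))
  obtain ⟨U₂, h₂⟩ := hsub ((q + 1) / d) (hq2 ▸ (Nat.div_dvd_of_dvd hd').trans (dvd_mul_right _ _))
  have hfin : ∀ U : Subgroup Lˣ, Finite (Affine U) := fun U => Finite.of_equiv _ SemidirectProduct.equivProd.symm
  haveI := hfin U₁
  haveI := hfin U₂
  have hsol : ∀ U : Subgroup Lˣ, Group.IsSolvable (Affine U) := fun U =>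
    Group.isSolvable_of_ker_le_range (SemidirectProduct.inl : Multiplicative L →* Affine U)
      SemidirectProduct.rightHom (SemidirectProduct.range_inl_eq_ker_rightHom).ge
  haveI := hsol U₁
  haveI := hsol U₂
  refine ⟨Affine U₁ × Affine U₂, inferInstance, inferInstance, inferInstance, ?_⟩
  have hG := Set.ext_iff.1 (Cfsg.Agent.S2475.result (F := F) p hF)
  have hA := affine_spectrum (p := p) U₁
  have hB := affine_spectrum (p := p) U₂
  rw [h₁] at hA
  rw [h₂] at hB
  ext n
  constructor
  · rintro ⟨⟨x, y⟩, rfl⟩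
    have hx := (hA _).1 ⟨x, rfl⟩
    have hy := (hB _).1 ⟨y, rfl⟩
    obtain ⟨x', hx'⟩ := (hG (orderOf x)).2 (hx.imp id Or.inl)
    obtain ⟨y', hy'⟩ := (hG (orderOf y)).2 (hy.imp id Or.inr)
    exact ⟨(x', y'), by rw [Prod.orderOf, Prod.orderOf, hx', hy']⟩
  · rintro ⟨⟨x, y⟩, rfl⟩
    have hpair : ∀ a b, (a ∣ p ∨ a ∣ (q - 1) / d) → (b ∣ p ∨ b ∣ (q + 1) / d) →
        Nat.lcm a b ∈ Set.range (orderOf : Affine U₁ × Affine U₂ → ℕ) := by
      intro a b ha hb
      obtain ⟨u, hu⟩ := (hA a).2 ha
      obtain ⟨v, hv⟩ := (hB b).2 hb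
      exact ⟨(u, v), by rw [Prod.orderOf, hu, hv]⟩
    have hone : ∀ c, c ∣ p ∨ c ∣ (q - 1) / d ∨ c ∣ (q + 1) / d →
        c ∈ Set.range (orderOf : Affine U₁ × Affine U₂ → ℕ) := by
      rintro c (h | h | h)
      · simpa using hpair c 1 (Or.inl h) (Or.inl (one_dvd p))
      · simpa using hpair c 1 (Or.inr h) (Or.inl (one_dvd p))
      · simpa using hpair 1 c (Or.inl (one_dvd p)) (Or.inr h)
    rw [Prod.orderOf]
    rcases (hG (orderOf x)).1 ⟨x, rfl⟩ with a | a | a <;> rcases (hG (orderOf y)).1 ⟨y, rfl⟩ with b | b | b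
    · exact hone _ (Or.inl (Nat.lcm_dvd a b))
    · rw [Nat.lcm_comm]; exact hpair _ _ (Or.inr b) (Or.inl a)
    · exact hpair _ _ (Or.inl a) (Or.inr b)
    · exact hpair _ _ (Or.inr a) (Or.inl b)
    · exact hone _ (Or.inr (Or.inl (Nat.lcm_dvd a b)))
    · exact hpair _ _ (Or.inr a) (Or.inr b)
    · rw [Nat.lcm_comm]; exact hpair _ _ (Or.inl b) (Or.inr a)
    · rw [Nat.lcm_comm]; exact hpair _ _ (Or.inr b) (Or.inr a)
    · exact hone _ (Or.inr (Or.inr (Nat.lcm_dvd a b)))

end Cfsg.Agent.S3532
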