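import Cfsg.Statements.S3548
import Cfsg.Agent.Lib.Recognition.Derangements

set_option autoImplicit false
set_option linter.style.haveILetI false
open Cfsg
open Cfsg.Agent.Lib.Recognition
open MulAction

namespace Cfsg.Agent.S3548

/-- Let G act faithfully and transitively on a finite set with n ≥ 2 points and let D be the subgroup generated by the derangements. Then the index of D in G divides n − 1, and if it equals n − 1 then n is a prime power. -/
theorem result {G Ω : Type*} [Group G] [Finite G] [MulAction G Ω] [FaithfulSMul G Ω] [Finite Ω]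
    (htrans : MulAction.IsPretransitive G Ω) (hΩ : 2 ≤ Nat.card Ω) :
    (Subgroup.closure {g : G | ∀ ω : Ω, g • ω ≠ ω}).index ∣ Nat.card Ω - 1 ∧
    ((Subgroup.closure {g : G | ∀ ω : Ω, g • ω ≠ ω}).index = Nat.card Ω - 1 → IsPrimePow (Nat.card Ω)) := by
  classical
  haveI : Nontrivial Ω := Finite.one_lt_card_iff_nontrivial.1 (by omega)
  obtain ⟨α⟩ := (inferInstance : Nonempty Ω)
  obtain ⟨htr, h1⟩ := derangementSubgroup_spec (G := G) (Ω := Ω)
  refine ⟨?_, fun heq => ?_⟩
  · have := derangementSubgroup_index_dvd (G := G) α Set.univ trivial (fun _ _ _ _ => trivial)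
    rwa [Set.ncard_univ] at this
  set D := derangementSubgroup G Ω with hD
  haveI : IsPretransitive D Ω := htr
  -- every element of D fixing α is trivial
  have hstab : ∀ β : Ω, β ≠ α → ∀ γ : Ω, γ ≠ α → ∃ g : G, g • α = α ∧ g • β = γ := by
    intro β hβ γ hγ
    by_contra hcon
    let S : Set Ω := insert α (orbit (stabilizer G α) β)
    have hd := derangementSubgroup_index_dvd (G := G) α S (Set.mem_insert _ _) (by
      intro g hg x hx
      rcases hx with rfl | hx
      · left; exact hg
      · right
        obtain ⟨k, rfl⟩ := hx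
        exact ⟨⟨g, hg⟩ * k, mul_smul g (k : G) β⟩)
    have hγS : γ ∉ S := by
      rintro (rfl | ⟨k, hk⟩)
      · exact hγ rfl
      · exact hcon ⟨k, k.2, hk⟩
    have hlt : S.ncard < Nat.card Ω := by
      rw [← Set.ncard_univ]
      exact Set.ncard_lt_ncard ⟨Set.subset_univ _, fun h => hγS (h trivial)⟩
    have h2 : 2 ≤ S.ncard := by
      have : ({α, β} : Set Ω) ⊆ S := by
        rintro x (rfl | rfl)
        · exact Set.mem_insert _ _
        · exact Set.mem_insert_of_mem _ (mem_orbit_self _)
      simpa [Set.ncard_pair hβ.symm] using Set.ncard_le_ncard this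
    have h3 := Nat.le_of_dvd (by omega) hd
    change D.index ≤ _ at h3
    change D.index = _ at heq
    omega
  have hDα : ∀ d : D, d • α = α → d = 1 := by
    intro d hd
    have hfix : ∀ β : Ω, d • β = β := by
      intro β
      by_contra hβ
      have hβα : β ≠ α := fun h => hβ (h ▸ hd)
      -- count: the `D`-stabilizer of `α` must act trivially
      have key : (D.subgroupOf (stabilizer G α)).index = D.index := by
        change D.relIndex _ = _
        have hsup : stabilizer G α ⊔ D = ⊤ := by
          rw [eq_top_iff]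
          intro g _
          obtain ⟨e, he⟩ := htr.exists_smul_eq α (g • α)
          have hmem : (e : G)⁻¹ * g ∈ stabilizer G α := by
            rw [mem_stabilizer_iff, mul_smul, ← he]
            exact inv_smul_smul (e : G) α
          have : g = (e : G) * ((e : G)⁻¹ * g) := by group
          rw [this]
          exact mul_mem (Subgroup.mem_sup_right e.2) (Subgroup.mem_sup_left hmem)
        rw [← Subgroup.relIndex_sup_right, hsup, Subgroup.relIndex_top_right]
      have hle : stabilizer (stabilizer G α) β ≤ D.subgroupOf (stabilizer G α) := by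
        intro h hh
        rw [Subgroup.mem_subgroupOf]
        by_contra hn
        haveI : Subsingleton (fixedBy Ω (h : G)) := (Nat.card_eq_one_iff_unique.1 (h1 _ hn)).1
        exact hβα (congrArg Subtype.val
          (Subsingleton.elim (⟨β, hh⟩ : fixedBy Ω (h : G)) ⟨α, h.2⟩))
      have horb : orbit (stabilizer G α) β ⊆ ({α}ᶜ : Set Ω) := by
        rintro _ ⟨k, rfl⟩ (hk : (k : G) • β = α)
        exact hβα (MulAction.injective (k : G) (by show (k:G) • β = (k:G) • α; rw [hk]; exact k.2.symm))
      have hcard : (stabilizer (stabilizer G α) β).index ≤ D.index := by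
        rw [index_stabilizer, heq]
        refine (Set.ncard_le_ncard horb).trans ?_
        rw [Set.ncard_compl, Set.ncard_singleton]
      have : stabilizer (stabilizer G α) β = D.subgroupOf (stabilizer G α) := by
        by_contra hne
        have h3 := Subgroup.index_strictAnti (lt_of_le_of_ne hle hne)
        omega
      have hmem : (⟨(d : G), hd⟩ : stabilizer G α) ∈ stabilizer (stabilizer G α) β := by
        rw [this, Subgroup.mem_subgroupOf]
        exact d.2
      exact hβ hmem
    ext
    exact eq_of_smul_eq_smul (α := Ω) (by intro β; rw [OneMemClass.coe_one, one_smul]; exact hfix β)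
  have hbij : Function.Bijective (fun d : D => d • α) := by
    refine ⟨fun d e h => ?_, fun x => htr.exists_smul_eq α x⟩
    have := hDα (e⁻¹ * d) (by rw [mul_smul]; show e⁻¹ • (d • α) = α; simp only at h; rw [h, inv_smul_smul])
    exact (inv_mul_eq_one.1 this).symm
  have hcardD : Nat.card D = Nat.card Ω := Nat.card_eq_of_bijective _ hbij
  have hord : ∀ d e : D, d ≠ 1 → e ≠ 1 → orderOf d = orderOf e := by
    intro d e hd he
    obtain ⟨g, hg, hge⟩ := hstab (d • α) (fun h => hd (hDα d h)) (e • α) (fun h => he (hDα e h))
    let c : D := ⟨g * d * g⁻¹, (derangementSubgroup_normal (G := G) (Ω := Ω)).conj_mem _ d.2 g⟩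
    have hc : c = e := hbij.1 (by
      show (g * (d : G) * g⁻¹) • α = e • α
      rw [mul_smul, mul_smul, inv_smul_eq_iff.2 hg.symm]
      exact hge)
    rw [← hc, ← Subgroup.orderOf_coe, ← Subgroup.orderOf_coe]
    show orderOf (d : G) = orderOf (g * (d : G) * g⁻¹)
    exact ((SemiconjBy.conj_mk g (d : G)).orderOf_eq).symm ▸ rfl
  obtain ⟨p, hp, hpd⟩ := Nat.exists_prime_and_dvd (n := Nat.card D) (by omega)
  haveI := Fact.mk hp
  obtain ⟨x, hx⟩ := exists_prime_orderOf_dvd_card' p hpd
  have hP : IsPGroup p D := by
    intro d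
    refine ⟨1, ?_⟩
    rw [pow_one]
    by_cases hd : d = 1
    · simp [hd]
    · rw [← hx, hord x d (fun h => hp.ne_one (by rw [← hx, h, orderOf_one])) hd]
      exact pow_orderOf_eq_one d
  obtain ⟨k, hk⟩ := hP.exists_card_eq
  rw [← hcardD, hk]
  refine IsPrimePow.pow hp.isPrimePow ?_
  rintro rfl
  rw [pow_zero] at hk
  omega


end Cfsg.Agent.S3548
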