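import Cfsg.Statements.S3549
import Cfsg.Agent.Lib.Recognition.Derangements

set_option autoImplicit false
set_option linter.style.haveILetI false
open Cfsg
open Cfsg.Agent.Lib.Recognition
open MulAction
open scoped Pointwise

namespace Cfsg.Agent.S3549

/-- Let G act faithfully, transitively but imprimitively on a finite set with n points, and let D be the subgroup generated by the derangements. Then the index of D in G is at most √n − 1. -/
theorem result {G Ω : Type*} [Group G] [Finite G] [MulAction G Ω] [FaithfulSMul G Ω] [Finite Ω]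
    (htrans : MulAction.IsPretransitive G Ω) (himp : ¬ MulAction.IsPreprimitive G Ω) :
    ((Subgroup.closure {g : G | ∀ ω : Ω, g • ω ≠ ω}).index : ℝ) ≤ Real.sqrt (Nat.card Ω) - 1 := by
  classical
  haveI := htrans
  have hex : ∃ B : Set Ω, IsBlock G B ∧ ¬ IsTrivialBlock B := by
    by_contra hcon
    push_neg at hcon
    exact himp { isTrivialBlock_of_isBlock := fun hB => hcon _ hB }
  obtain ⟨B, hB, hnt⟩ := hex
  rw [IsTrivialBlock, not_or, Set.not_subsingleton_iff] at hnt
  obtain ⟨⟨α, hα, β, hβ, hαβ⟩, hBu⟩ := hnt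
  haveI : Nonempty Ω := ⟨α⟩
  set e := (derangementSubgroup G Ω).index with he
  show (e : ℝ) ≤ _
  have h1 := derangementSubgroup_index_dvd (G := G) α B hα (by
    intro g hg x hx
    have hgB : g • B = B := hB.smul_eq_of_mem hα (by rw [show g • α = α from hg]; exact hα)
    rw [← hgB]
    exact Set.smul_mem_smul_set hx)
  have hn := derangementSubgroup_index_dvd (G := G) α Set.univ trivial (fun _ _ _ _ => trivial)
  rw [Set.ncard_univ] at hn
  have hprod := hB.ncard_block_mul_ncard_orbit_eq ⟨α, hα⟩
  set b := B.ncard with hb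
  set c := (orbit G B).ncard with hc
  have hb2 : 2 ≤ b := by
    have : ({α, β} : Set Ω) ⊆ B := by
      rintro x (rfl | rfl)
      · exact hα
      · exact hβ
    simpa [Set.ncard_pair hαβ] using Set.ncard_le_ncard this
  have hblt : b < Nat.card Ω := by
    rw [← Set.ncard_univ]
    exact Set.ncard_lt_ncard ⟨Set.subset_univ _, fun h => hBu (Set.eq_univ_of_univ_subset h)⟩
  have hc2 : 2 ≤ c := by
    by_contra hc2
    have : b * c ≤ b * 1 := Nat.mul_le_mul_left _ (by omega)
    omega
  have hbe : e + 1 ≤ b := by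
    have := Nat.le_of_dvd (by omega) h1
    omega
  have hce : e + 1 ≤ c := by
    have hd : e ∣ c - 1 := by
      have h3 : Nat.card Ω - 1 = (b - 1) * c + (c - 1) := by
        obtain ⟨b', hb'⟩ := Nat.exists_eq_add_of_le (show 1 ≤ b by omega)
        rw [← hprod, hb', Nat.add_sub_cancel_left, add_mul, one_mul]
        omega
      exact (Nat.dvd_add_right (dvd_mul_of_dvd_left h1 c)).1 (h3 ▸ hn)
    have := Nat.le_of_dvd (by omega) hd
    omega
  have hsq : (e + 1) * (e + 1) ≤ Nat.card Ω := hprod ▸ Nat.mul_le_mul hbe hce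
  have : ((e : ℝ) + 1) ≤ Real.sqrt (Nat.card Ω) := by
    apply Real.le_sqrt_of_sq_le
    rw [sq]
    exact_mod_cast hsq
  linarith


end Cfsg.Agent.S3549
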