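import Cfsg.Statements.S3554

set_option autoImplicit false
set_option linter.style.haveILetI false
open Cfsg
open MulAction

namespace Cfsg.Agent.S3554

/-- Let G act faithfully and transitively on a finite set and suppose G has a non-trivial cyclic normal subgroup. Then some element of G of prime order fixes no point. -/
theorem result {G Ω : Type*} [Group G] [Finite G] [MulAction G Ω] [FaithfulSMul G Ω] [Finite Ω]
    (htrans : MulAction.IsPretransitive G Ω) (C : Subgroup G) (hC : C.Normal) (hC1 : C ≠ ⊥) (hcyc : IsCyclic ↥C) :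
    ∃ g : G, (orderOf g).Prime ∧ ∀ ω : Ω, g • ω ≠ ω := by
  classical
  haveI := htrans
  haveI : Nontrivial C := C.nontrivial_iff_ne_bot.2 hC1
  obtain ⟨p, hp, hpd⟩ := Nat.exists_prime_and_dvd (n := Nat.card C) Finite.one_lt_card.ne'
  haveI := Fact.mk hp
  obtain ⟨x, hx⟩ := exists_prime_orderOf_dvd_card' p hpd
  refine ⟨x, by rw [Subgroup.orderOf_coe, hx]; exact hp, fun ω hω => ?_⟩
  have hall : ∀ g : G, (x : G) • (g • ω) = g • ω := by
    intro g
    let c : C := ⟨g⁻¹ * x * g, by simpa using hC.conj_mem _ x.2 g⁻¹⟩
    have hco : c ^ p = 1 := by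
      have e : ((x : G)) ^ p = 1 := by rw [← Subgroup.coe_pow, ← hx, pow_orderOf_eq_one, OneMemClass.coe_one]
      apply Subtype.ext
      have h2 := conj_pow (i := p) (a := g⁻¹) (b := (x : G))
      rw [inv_inv, e, mul_one, inv_mul_cancel] at h2
      exact h2
    have hz : c ∈ Subgroup.zpowers x := by
      by_contra hcx
      haveI := Fintype.ofFinite C
      have hle := IsCyclic.card_pow_eq_one_le (α := C) hp.pos
      have hsub : insert c (Finset.univ.filter (· ∈ Subgroup.zpowers x)) ⊆ Finset.univ.filter (fun a : C => a ^ p = 1) := by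
        intro a ha
        simp only [Finset.mem_insert, Finset.mem_filter, Finset.mem_univ, true_and] at ha ⊢
        rcases ha with rfl | ha
        · exact hco
        · rw [← hx]
          exact orderOf_dvd_iff_pow_eq_one.1 (orderOf_dvd_of_mem_zpowers ha)
      have h2 := (Finset.card_le_card hsub).trans hle
      rw [Finset.card_insert_of_notMem (by simpa using hcx)] at h2
      have h3 : (Finset.univ.filter (· ∈ Subgroup.zpowers x)).card = p := by
        rw [← hx, ← Nat.card_zpowers, Nat.card_eq_fintype_card, Fintype.card_subtype]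
      omega
    obtain ⟨k, hk⟩ := Subgroup.mem_zpowers_iff.1 hz
    have h1 : (c : G) • ω = ω := by
      rw [← hk, Subgroup.coe_zpow]
      exact zpow_mem (show (x : G) ∈ stabilizer G ω from hω) k
    have : (g⁻¹ * (x : G) * g) • ω = ω := h1
    rwa [mul_smul, mul_smul, inv_smul_eq_iff] at this
  have : (x : G) = 1 := eq_of_smul_eq_smul (α := Ω) fun a => by
    obtain ⟨g, rfl⟩ := MulAction.exists_smul_eq G ω a
    rw [one_smul]; exact hall g
  have h2 : orderOf (x : G) = p := by rw [Subgroup.orderOf_coe, hx]
  rw [this, orderOf_one] at h2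
  exact hp.ne_one h2.symm


end Cfsg.Agent.S3554
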