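import Cfsg.Statements.S3556
import Cfsg.Agent.Lib.OddLocal.PrimitiveSocle

set_option autoImplicit false
open Cfsg

namespace Cfsg.Agent.S3556

open Cfsg.Agent.OddLocal.TwoClasses

/-- Let G act faithfully and primitively on a finite set with at least two points, and suppose that for some fixed prime p every element of G fixing no point has order a power of p. Then G is of affine type (it has a regular normal subgroup that is an elementary abelian r-group for some prime r) or almost simple (it has a non-abelian simple normal subgroup with trivial centralizer). -/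
theorem result {G Ω : Type*} [Group G] [Finite G] [MulAction G Ω] [FaithfulSMul G Ω] [Finite Ω]
    (hprim : MulAction.IsPreprimitive G Ω) (hΩ : 2 ≤ Nat.card Ω) (p : ℕ) (hp : p.Prime)
    (hder : ∀ g : G, (∀ ω : Ω, g • ω ≠ ω) → ∃ k : ℕ, orderOf g = p ^ k) :
    (∃ (N : Subgroup G) (r : ℕ), r.Prime ∧ N.Normal ∧ Cfsg.IsElementaryAbelian r N ∧
      MulAction.IsPretransitive N Ω ∧ ∀ a : Ω, MulAction.stabilizer N a = ⊥) ∨
    (∃ T : Subgroup G, T.Normal ∧ IsSimpleGroup ↥T ∧ ¬ IsMulCommutative ↥T ∧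
      Subgroup.centralizer (T : Set G) = ⊥) := by
  classical
  by_cases hnas : ∃ T : Subgroup G, T.Normal ∧ IsSimpleGroup ↥T ∧ ¬ IsMulCommutative ↥T ∧
      Subgroup.centralizer (T : Set G) = ⊥
  · exact Or.inr hnas
  left
  haveI := hprim.toIsPretransitive
  haveI : Fact p.Prime := ⟨hp⟩
  haveI : Nontrivial Ω := Finite.one_lt_card_iff_nontrivial.mp (by omega)
  haveI : Nontrivial G := by
    by_contra h
    rw [not_nontrivial_iff_subsingleton] at h
    obtain ⟨α, β, hβ⟩ := exists_pair_ne Ω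
    obtain ⟨g, hg⟩ := MulAction.exists_smul_eq G α β
    rw [Subsingleton.elim g 1, one_smul] at hg
    exact hβ hg
  have hsub : ∀ T : Subgroup G, T ≠ ⊥ → ⁅T, T⁆ = T → ∃ z ∈ T, z ≠ 1 ∧ ¬ ∃ k, orderOf z = p ^ k := by
    intro T hT hperf
    by_contra hcon
    push Not at hcon
    refine hT (Cfsg.Agent.Lib.Components.eq_bot_of_perfect_solvable hperf ?_)
    have hP : IsPGroup p T := by
      intro x
      by_cases hx : (x : G) = 1
      · exact ⟨0, Subtype.ext (by rw [SubmonoidClass.coe_pow, hx, one_pow]; rfl)⟩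
      · obtain ⟨k, hk⟩ := hcon x x.2 hx
        exact ⟨k, Subtype.ext (by rw [SubmonoidClass.coe_pow, ← hk, pow_orderOf_eq_one]; rfl)⟩
    haveI := hP.isNilpotent
    infer_instance
  let P : Subgroup G → Prop := fun M => M.Normal ∧ M ≠ ⊥
  obtain ⟨N, ⟨hNn, hN1⟩, hNmin⟩ := exists_minimal_of_wellFoundedLT P
    ⟨⊤, inferInstance, top_ne_bot⟩
  haveI := hNn
  have hmin : ∀ M : Subgroup G, M.Normal → M ≤ N → M = ⊥ ∨ M = N := fun M hM hle =>
    or_iff_not_imp_left.mpr fun h => le_antisymm hle (hNmin ⟨hM, h⟩ hle)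
  have hcomm := minimal_normal_comm_of hprim hnas (fun T hT hperf hreg => by
      obtain ⟨z, hz, hz1, hzp⟩ := hsub T hT hperf
      exact hzp (hder z fun ω h => hz1 (hreg z hz ω h)))
    (fun T S hT hS hperfT hperfS hTS hinf y hy hyd hprod => by
      obtain ⟨z, hz, hz1, hzp⟩ := hsub S hS hperfS
      obtain ⟨k, hk⟩ := hder (y * z) (hprod z hz)
      refine hzp ?_
      have h1 : (y * z) ^ p ^ k = 1 := by rw [← hk, pow_orderOf_eq_one]
      rw [Commute.mul_pow (hTS y hy z hz)] at h1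
      have h2 : z ^ p ^ k ∈ T ⊓ S :=
        ⟨(eq_inv_of_mul_eq_one_right h1) ▸ T.inv_mem (T.pow_mem hy _), S.pow_mem hz _⟩
      rw [hinf, Subgroup.mem_bot] at h2
      obtain ⟨j, -, hj⟩ := (Nat.dvd_prime_pow hp).mp (orderOf_dvd_of_pow_eq_one h2)
      exact ⟨j, hj⟩) N hN1 hmin
  haveI htN : MulAction.IsPretransitive N Ω := by
    haveI := hprim
    refine MulAction.IsQuasiPreprimitive.isPretransitive_of_normal fun h => hN1 ?_
    refine (Subgroup.eq_bot_iff_forall _).mpr fun m hm => eq_of_smul_eq_smul fun ω : Ω => ?_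
    rw [one_smul]
    have hω : ω ∈ MulAction.fixedPoints N Ω := h.symm ▸ Set.mem_univ ω
    exact hω ⟨m, hm⟩
  have hreg : ∀ x ∈ N, ∀ ω : Ω, x • ω = ω → x = 1 := by
    intro x hx ω hω
    refine eq_of_smul_eq_smul fun ω' : Ω => ?_
    obtain ⟨⟨c, hc⟩, hcω⟩ := MulAction.exists_smul_eq N ω ω'
    have hcω' : c • ω = ω' := hcω
    rw [one_smul, ← hcω', ← mul_smul, hcomm x hx c hc, mul_smul, hω]
  -- elementary abelian
  have hne : Nat.card N ≠ 1 := fun h => hN1 (Subgroup.eq_bot_of_card_eq _ h)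
  obtain ⟨r, hr, hrd⟩ := Nat.exists_prime_and_dvd hne
  haveI := Fact.mk hr
  let R : Subgroup G :=
    { carrier := {x | x ∈ N ∧ x ^ r = 1}
      one_mem' := ⟨N.one_mem, one_pow r⟩
      mul_mem' := fun {a b} ha hb => ⟨N.mul_mem ha.1 hb.1, by
        rw [Commute.mul_pow (hcomm a ha.1 b hb.1), ha.2, hb.2, one_mul]⟩
      inv_mem' := fun {a} ha => ⟨N.inv_mem ha.1, by rw [inv_pow, ha.2, inv_one]⟩ }
  have hR : R.Normal := ⟨fun x hx g => ⟨hNn.conj_mem x hx.1 g, by
    rw [← MulAut.conj_apply, ← map_pow, hx.2, map_one]⟩⟩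
  have hRN : R = N := by
    refine (hmin R hR fun x hx => hx.1).resolve_left fun h => ?_
    obtain ⟨x, hx⟩ := exists_prime_orderOf_dvd_card' (G := N) r hrd
    have h1 : (x : G) ∈ R := ⟨x.2, by
      rw [← SubmonoidClass.coe_pow, ← hx, pow_orderOf_eq_one]; rfl⟩
    rw [h, Subgroup.mem_bot] at h1
    have : x = 1 := Subtype.ext h1
    rw [this, orderOf_one] at hx
    exact hr.one_lt.ne hx
  refine ⟨N, r, hr, hNn, ⟨⟨⟨fun a b => Subtype.ext (hcomm a a.2 b b.2)⟩⟩, fun x hx => ?_⟩, htN,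
    fun a => (Subgroup.eq_bot_iff_forall _).mpr fun x hx => Subtype.ext (hreg x x.2 a hx)⟩
  rw [← hRN] at hx
  exact hx.2

end Cfsg.Agent.S3556
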