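import Cfsg.Statements.S3557
import Mathlib

set_option autoImplicit false
open Cfsg

namespace Cfsg.Agent.S3557

open MulAction in
/-- An orbit of a Sylow `p`-subgroup has at least `p^2` points when `p^2` divides the degree. -/
private theorem sq_dvd_orbit {G Ω : Type*} [Group G] [Finite G] [MulAction G Ω] [Finite Ω]
    (htrans : IsPretransitive G Ω) (p : ℕ) [Fact p.Prime] (hcard : p ^ 2 ∣ Nat.card Ω)
    (P : Sylow p G) (x : Ω) : p ^ 2 ∣ Nat.card (orbit ↥(P : Subgroup G) x) := by
  have hp : p.Prime := Fact.out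
  have hP := P.card_eq_multiplicity
  obtain ⟨j, hj⟩ := IsPGroup.iff_card.mp (P.isPGroup'.to_subgroup (stabilizer ↥(P : Subgroup G) x))
  have hmul : Nat.card (orbit ↥(P : Subgroup G) x) *
      Nat.card (stabilizer ↥(P : Subgroup G) x) = Nat.card ↥(P : Subgroup G) := by
    rw [Nat.card_coe_set_eq, ← index_stabilizer, mul_comm, Subgroup.card_mul_index]
  have hG : Nat.card Ω * Nat.card (stabilizer G x) = Nat.card G := by
    rw [← index_stabilizer_of_transitive G x, mul_comm, Subgroup.card_mul_index]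
  have hle : Nat.card (stabilizer ↥(P : Subgroup G) x) ∣ Nat.card (stabilizer G x) := by
    have h1 : (stabilizer ↥(P : Subgroup G) x).map (P : Subgroup G).subtype ≤ stabilizer G x := by
      rintro _ ⟨s, hs, rfl⟩
      exact hs
    have := Subgroup.card_dvd_of_le h1
    rwa [Subgroup.card_map_of_injective (Subgroup.subtype_injective _)] at this
  have h2 : p ^ (2 + j) ∣ Nat.card G := by
    rw [← hG, pow_add, ← hj]
    exact mul_dvd_mul hcard hle
  have h3 : 2 + j ≤ (Nat.card G).factorization p :=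
    (hp.pow_dvd_iff_le_factorization Nat.card_pos.ne').mp h2
  have h4 : p ^ (2 + j) ∣ Nat.card ↥(P : Subgroup G) := by
    rw [hP]; exact pow_dvd_pow _ h3
  rw [← hmul, hj, pow_add] at h4
  exact Nat.dvd_of_mul_dvd_mul_right (pow_pos hp.pos j) h4

open MulAction in
/-- An element acting centrally modulo the kernel on an orbit fixes all of it or none of it. -/
private theorem fix_orbit {P Ω : Type*} [Group P] [MulAction P Ω] (c : P) (b : Ω)
    (hc : ∀ g : P, (c * g) • b = (g * c) • b) (hb : c • b = b) : ∀ a ∈ orbit P b, c • a = a := by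
  rintro a ⟨g, rfl⟩
  change c • g • b = g • b
  rw [← mul_smul, hc, mul_smul, hb]

open MulAction in
/-- A nontrivial normal subgroup of a `p`-group contains a central element of order `p`. -/
private theorem central_in_normal {P : Type*} [Group P] [Finite P] {p : ℕ} [hp : Fact p.Prime]
    (hP : IsPGroup p P) (N : Subgroup P) [N.Normal] (hN : N ≠ ⊥) :
    ∃ c : P, c ∈ N ∧ c ∈ Subgroup.center P ∧ orderOf c = p := by
  have : Nontrivial N := (Subgroup.nontrivial_iff_ne_bot N).mpr hN
  have hdvd : p ∣ Nat.card N := by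
    obtain ⟨k, hk⟩ := IsPGroup.iff_card.mp (hP.to_subgroup N)
    rw [hk]
    refine dvd_pow_self p ?_
    rintro rfl
    have := Finite.one_lt_card (α := N)
    simp [hk] at this
  haveI : Fintype N := Fintype.ofFinite N
  obtain ⟨⟨n, hn⟩, hn1, hne⟩ := IsPGroup.exists_fixed_point_of_prime_dvd_card_of_fixed_point
    (G := ConjAct P) (α := N) (p := p) (hP.of_equiv ConjAct.toConjAct) (a := (1 : N)) hdvd
    (fun g => Subtype.ext (by simp [ConjAct.Subgroup.val_conj_smul]))
  have hnc : n ∈ Subgroup.center P := by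
    rw [Subgroup.mem_center_iff]
    intro g
    have := congrArg Subtype.val (hn1 (ConjAct.toConjAct g))
    simp only [ConjAct.Subgroup.val_conj_smul, ConjAct.smul_def, ConjAct.ofConjAct_toConjAct] at this
    exact (mul_inv_eq_iff_eq_mul).mp this
  have hn0 : n ≠ 1 := fun h => hne (Subtype.ext h.symm)
  obtain ⟨k, hk⟩ := hP n
  have hd : orderOf n ∣ p ^ k := orderOf_dvd_of_pow_eq_one hk
  obtain ⟨i, -, hi⟩ := (Nat.dvd_prime_pow hp.out).mp hd
  cases i with
  | zero => exact absurd (orderOf_eq_one_iff.mp (by simpa using hi)) hn0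
  | succ i =>
    refine ⟨n ^ p ^ i, N.pow_mem hn _, (Subgroup.center P).pow_mem hnc _, ?_⟩
    rw [orderOf_pow' _ (pow_ne_zero _ hp.out.ne_zero), hi, pow_succ]
    rw [Nat.gcd_eq_right (dvd_mul_right _ _)]
    exact Nat.mul_div_cancel_left _ (pow_pos hp.out.pos _)

open MulAction in
private theorem smul_mem_orbit_iff' {P Ω : Type*} [Group P] [MulAction P Ω] {g : P} {a x : Ω} :
    g • a ∈ orbit P x ↔ a ∈ orbit P x :=
  ⟨fun h => by simpa using mem_orbit_of_mem_orbit g⁻¹ h, mem_orbit_of_mem_orbit g⟩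

open MulAction in
/-- The two-orbit case. -/
private theorem two_orbits {G Ω : Type*} [Group G] [Finite G] [MulAction G Ω] [FaithfulSMul G Ω]
    [Finite Ω] (p : ℕ) [hp : Fact p.Prime]
    (hcl : ∀ σ : Equiv.Perm Ω, (∀ a b : Ω, ∃ g : G, σ a = g • a ∧ σ b = g • b) →
      ∃ g : G, ∀ a : Ω, σ a = g • a)
    (P : Subgroup G) (hP : IsPGroup p P) (x y : Ω)
    (hcov : ∀ a, a ∈ orbit ↥P x ∨ a ∈ orbit ↥P y) (hxy : y ∉ orbit ↥P x)
    (hx2 : (stabilizer ↥P x).index = p ^ 2) (hy2 : (stabilizer ↥P y).index = p ^ 2)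
    (c : ↥P) (hc : c ∈ Subgroup.center ↥P) (hco : orderOf c = p) (hcy : c • y = y) :
    ∃ g : G, (orderOf g).Prime ∧ ∀ ω : Ω, g • ω ≠ ω := by
  classical
  have hcent : ∀ (d : ↥P), d ∈ Subgroup.center ↥P → ∀ (g : ↥P) (b : Ω),
      (d * g) • b = (g * d) • b := fun d hd g b => by rw [Subgroup.mem_center_iff.mp hd g]
  have hfaith : ∀ d : ↥P, (∀ a : Ω, d • a = a) → d = 1 := fun d hd => by
    apply Subtype.ext
    apply eq_of_smul_eq_smul (α := Ω)
    intro a
    rw [Subgroup.coe_one, one_smul]
    exact hd a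
  have hsplit : ∀ a, a ∈ orbit ↥P y → a ∉ orbit ↥P x := by
    intro a ha hax
    apply hxy
    rw [← orbit_eq_iff] at ha hax
    rw [← hax, ha]
    exact mem_orbit_self y
  have hc2 : ∀ a ∈ orbit ↥P y, c • a = a := fix_orbit c y (fun g => hcent c hc g y) hcy
  have hc1 : ∀ a ∈ orbit ↥P x, c • a ≠ a := by
    intro a ha hfix
    have : c = 1 := hfaith c fun b => by
      rcases hcov b with hb | hb
      · refine fix_orbit c a (fun g => hcent c hc g a) hfix b ?_
        rwa [orbit_eq_iff.mpr ha]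
      · exact hc2 b hb
    rw [this, orderOf_one] at hco
    exact hp.out.one_lt.ne hco
  let K1 : Subgroup ↥P :=
    { carrier := {k | ∀ a ∈ orbit ↥P x, k • a = a}
      one_mem' := fun a _ => one_smul _ a
      mul_mem' := fun {k l} hk hl a ha => by rw [mul_smul, hl a ha, hk a ha]
      inv_mem' := fun {k} hk a ha => inv_smul_eq_iff.mpr (hk a ha).symm }
  let K2 : Subgroup ↥P :=
    { carrier := {k | ∀ a ∈ orbit ↥P y, k • a = a}
      one_mem' := fun a _ => one_smul _ a
      mul_mem' := fun {k l} hk hl a ha => by rw [mul_smul, hl a ha, hk a ha]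
      inv_mem' := fun {k} hk a ha => inv_smul_eq_iff.mpr (hk a ha).symm }
  haveI : K1.Normal := ⟨fun k hk g a ha => by
    rw [mul_smul, mul_smul, hk _ (smul_mem_orbit_iff'.mpr ha), smul_inv_smul]⟩
  haveI : K2.Normal := ⟨fun k hk g a ha => by
    rw [mul_smul, mul_smul, hk _ (smul_mem_orbit_iff'.mpr ha), smul_inv_smul]⟩
  -- it is enough to find `g` in `G` with `g ^ p = 1` moving every point
  have finish : ∀ g : G, g ^ p = 1 → (∀ ω : Ω, g • ω ≠ ω) →
      ∃ g : G, (orderOf g).Prime ∧ ∀ ω : Ω, g • ω ≠ ω := by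
    intro g hg hmove
    refine ⟨g, ?_, hmove⟩
    rw [orderOf_eq_prime hg (fun h => hmove x (by rw [h, one_smul]))]
    exact hp.out
  by_cases hK1 : K1 = ⊥
  swap
  · obtain ⟨d, hd1, hdc, hdo⟩ := central_in_normal hP K1 hK1
    have hd2 : ∀ a ∈ orbit ↥P y, d • a ≠ a := by
      intro a ha hfix
      have : d = 1 := hfaith d fun b => by
        rcases hcov b with hb | hb
        · exact hd1 b hb
        · refine fix_orbit d a (fun g => hcent d hdc g a) hfix b ?_
          rwa [orbit_eq_iff.mpr ha]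
      rw [this, orderOf_one] at hdo
      exact hp.out.one_lt.ne hdo
    refine finish ((c * d : ↥P) : G) ?_ ?_
    · rw [← Subgroup.coe_pow, (show Commute c d from
        (Subgroup.mem_center_iff.mp hdc c)).mul_pow]
      nth_rewrite 1 [← hco]
      nth_rewrite 1 [← hdo]
      simp [pow_orderOf_eq_one]
    · intro w hw
      change (c * d) • w = w at hw
      rcases hcov w with h | h
      · rw [mul_smul, hd1 w h] at hw; exact hc1 w h hw
      · rw [mul_smul, hc2 _ (mem_orbit_of_mem_orbit _ h)] at hw; exact hd2 w h hw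
  -- now `P` is faithful on the first orbit
  let H : Subgroup ↥P := stabilizer ↥P x ⊔ K2
  have hHle : H.index ∣ p ^ 2 := hx2 ▸ Subgroup.index_dvd_of_le le_sup_left
  have hHlt : H.index ≠ p ^ 2 := by
    intro h
    have hlt : stabilizer ↥P x < H := by
      refine lt_of_le_of_ne le_sup_left fun he => ?_
      have : c ∈ stabilizer ↥P x := he ▸ Subgroup.mem_sup_right (T := K2) hc2
      exact hc1 x (mem_orbit_self x) this
    have := Subgroup.index_strictAnti hlt
    omega
  have hHp : H.index ∣ p := by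
    obtain ⟨i, hi, hii⟩ := (Nat.dvd_prime_pow hp.out).mp hHle
    have : i ≤ 1 := by
      by_contra hne
      have : i = 2 := by omega
      exact hHlt (this ▸ hii)
    simpa [hii] using pow_dvd_pow p this
  haveI hHn : H.Normal := by
    rcases (Nat.dvd_prime hp.out).mp hHp with h | h
    · rw [Subgroup.index_eq_one.mp h]; infer_instance
    · haveI : Group.IsNilpotent ↥P := hP.isNilpotent
      refine Subgroup.NormalizerCondition.normal_of_coatom H Group.normalizerCondition_of_isNilpotent ?_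
      refine ⟨fun ht => hp.out.one_lt.ne (by rw [← h, ht, Subgroup.index_top]), fun L hL => ?_⟩
      have h1 := Subgroup.index_strictAnti hL
      have h2 := Subgroup.index_dvd_of_le hL.le
      rw [h] at h1 h2
      rcases (Nat.dvd_prime hp.out).mp h2 with h3 | h3
      · exact Subgroup.index_eq_one.mp h3
      · omega
  have hblocks : ∀ h ∈ H, ∀ a ∈ orbit ↥P x, ∃ k ∈ K2, h • a = k • a := by
    rintro h hh a ⟨g, rfl⟩
    have hh' : g⁻¹ * h * g ∈ H := by
      have := hHn.conj_mem h hh g⁻¹
      rwa [inv_inv] at this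
    have hh'' : g⁻¹ * h * g ∈ K2 ⊔ stabilizer ↥P x := by rwa [sup_comm]
    obtain ⟨k, hk, s, hs, hks⟩ := Subgroup.mem_sup_of_normal_left.mp hh''
    refine ⟨g * k * g⁻¹, ‹K2.Normal›.conj_mem k hk g, ?_⟩
    have hs' : s • x = x := hs
    calc h • g • x = (g * (g⁻¹ * h * g)) • x := by rw [← mul_smul]; congr 1; group
      _ = g • k • s • x := by rw [← hks, mul_smul, mul_smul]
      _ = (g * k * g⁻¹) • g • x := by rw [hs', ← mul_smul, ← mul_smul]; congr 1; group
  -- an element of `H`, central modulo `K2`, of order `p` modulo `K2`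
  have hHK : H.map (QuotientGroup.mk' K2) ≠ ⊥ := by
    intro h
    rw [Subgroup.map_eq_bot_iff, QuotientGroup.ker_mk'] at h
    have h1 : H ≤ stabilizer ↥P y := fun k hk => (h hk) y (mem_orbit_self y)
    have h2 := Subgroup.index_dvd_of_le h1
    rw [hy2] at h2
    have h3 := Nat.le_of_dvd hp.out.pos (h2.trans hHp)
    have := hp.out.two_le
    nlinarith
  haveI : (H.map (QuotientGroup.mk' K2)).Normal :=
    hHn.map _ (QuotientGroup.mk'_surjective K2)
  obtain ⟨q, ⟨h, hhH, hq⟩, hqc, hqo⟩ := central_in_normal (hP.to_quotient K2) _ hHK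
  have hcomm : ∀ (g : ↥P), ∀ b ∈ orbit ↥P y, (h * g) • b = (g * h) • b := by
    intro g b hb
    have h1 : QuotientGroup.mk' K2 (h * g) = QuotientGroup.mk' K2 (g * h) := by
      rw [map_mul, map_mul, hq, Subgroup.mem_center_iff.mp hqc]
    have h2 : (h * g)⁻¹ * (g * h) ∈ K2 := QuotientGroup.eq.mp h1
    have := h2 b hb
    rwa [mul_smul, inv_smul_eq_iff, eq_comm] at this
  have hhp : ∀ b ∈ orbit ↥P y, (h ^ p) • b = b := by
    have h1 : QuotientGroup.mk' K2 (h ^ p) = 1 := by
      rw [map_pow, hq, ← hqo, pow_orderOf_eq_one]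
    have h2 : h ^ p ∈ K2 := by
      rw [← QuotientGroup.ker_mk' K2]; exact h1
    exact h2
  have hh2 : ∀ b ∈ orbit ↥P y, h • b ≠ b := by
    intro b hb hfix
    have h2 : h ∈ K2 := by
      intro a ha
      refine fix_orbit h b (fun g => hcomm g b hb) hfix a ?_
      rwa [orbit_eq_iff.mpr hb]
    have h1 : QuotientGroup.mk' K2 h = 1 := (QuotientGroup.eq_one_iff h).mpr h2
    rw [hq] at h1
    rw [h1, orderOf_one] at hqo
    exact hp.out.one_lt.ne hqo
  -- the new permutation
  let f : Ω → Ω := fun a => if a ∈ orbit ↥P x then c • a else h • a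
  have hfinj : Function.Injective f := by
    intro a b hab
    simp only [f] at hab
    split_ifs at hab with ha hb hb
    · exact smul_left_cancel c hab
    · exact absurd (by
        rw [← smul_mem_orbit_iff' (g := h), ← hab, smul_mem_orbit_iff']; exact ha) hb
    · exact absurd (by
        rw [← smul_mem_orbit_iff' (g := h), hab, smul_mem_orbit_iff']; exact hb) ha
    · exact smul_left_cancel h hab
  let σ : Equiv.Perm Ω := Equiv.ofBijective f (Finite.injective_iff_bijective.mp hfinj)
  have hin : ∀ a ∈ orbit ↥P x, σ a = c • a := fun a ha => by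
    simp [σ, f, ha]
  have hout : ∀ a, a ∉ orbit ↥P x → σ a = h • a := fun a ha => by
    simp [σ, f, ha]
  have mixed : ∀ a ∈ orbit ↥P x, ∀ b, b ∉ orbit ↥P x →
      ∃ g : G, σ a = g • a ∧ σ b = g • b := by
    intro a ha b hb
    have hb' : b ∈ orbit ↥P y := (hcov b).resolve_left hb
    obtain ⟨k, hk, hka⟩ := hblocks h hhH a ha
    refine ⟨((c * k⁻¹ * h : ↥P) : G), ?_, ?_⟩
    · rw [hin a ha]
      change c • a = (c * k⁻¹ * h) • a
      rw [mul_smul, hka, mul_smul, inv_smul_smul]
    · rw [hout b hb]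
      change h • b = (c * k⁻¹ * h) • b
      rw [mul_smul, (K2.mul_mem hc2 (K2.inv_mem hk)) _ (mem_orbit_of_mem_orbit _ hb')]
  obtain ⟨g, hg⟩ := hcl σ fun a b => by
    by_cases ha : a ∈ orbit ↥P x <;> by_cases hb : b ∈ orbit ↥P x
    · exact ⟨(c : G), hin a ha, hin b hb⟩
    · exact mixed a ha b hb
    · obtain ⟨g, h1, h2⟩ := mixed b hb a ha
      exact ⟨g, h2, h1⟩
    · exact ⟨(h : G), hout a ha, hout b hb⟩
  have hg1 : ∀ a ∈ orbit ↥P x, ∀ n : ℕ, g ^ n • a = c ^ n • a := by
    intro a ha n
    induction n with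
    | zero => simp
    | succ n ih =>
      rw [pow_succ', mul_smul, ih, pow_succ', mul_smul, ← hg,
        hin _ (mem_orbit_of_mem_orbit _ ha)]
  have hg2 : ∀ a ∈ orbit ↥P y, ∀ n : ℕ, g ^ n • a = h ^ n • a := by
    intro a ha n
    induction n with
    | zero => simp
    | succ n ih =>
      rw [pow_succ', mul_smul, ih, pow_succ', mul_smul, ← hg,
        hout _ (hsplit _ (mem_orbit_of_mem_orbit _ ha))]
  refine finish g ?_ ?_
  · apply eq_of_smul_eq_smul (α := Ω)
    intro a
    rw [one_smul]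
    rcases hcov a with ha | ha
    · rw [hg1 a ha, ← hco, pow_orderOf_eq_one, one_smul]
    · rw [hg2 a ha, hhp a ha]
  · intro a hfix
    rw [← hg] at hfix
    by_cases ha : a ∈ orbit ↥P x
    · rw [hin a ha] at hfix; exact hc1 a ha hfix
    · rw [hout a ha] at hfix; exact hh2 a ((hcov a).resolve_left ha) hfix

/-- Let G act faithfully and transitively on a finite set with 2p² points, p a prime, and suppose G is 2-closed: every permutation of the set which, on each ordered pair of points, agrees with some element of G, is itself induced by an element of G. Then some element of G of prime order fixes no point. -/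
theorem result {G Ω : Type*} [Group G] [Finite G] [MulAction G Ω] [FaithfulSMul G Ω] [Finite Ω]
    (htrans : MulAction.IsPretransitive G Ω) (p : ℕ) (hp : p.Prime) (hcard : Nat.card Ω = 2 * p ^ 2)
    (hcl : ∀ σ : Equiv.Perm Ω, (∀ a b : Ω, ∃ g : G, σ a = g • a ∧ σ b = g • b) → ∃ g : G, ∀ a : Ω, σ a = g • a) :
    ∃ g : G, (orderOf g).Prime ∧ ∀ ω : Ω, g • ω ≠ ω := by
  classical
  haveI : Fact p.Prime := ⟨hp⟩
  haveI := htrans
  obtain ⟨P⟩ : Nonempty (Sylow p G) := inferInstance
  have hdvd : p ^ 2 ∣ Nat.card Ω := hcard ▸ dvd_mul_left _ _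
  have hP : IsPGroup p ↥(P : Subgroup G) := P.isPGroup'
  have hpos : 0 < Nat.card Ω := by rw [hcard]; have := hp.pos; positivity
  obtain ⟨⟨x⟩, -⟩ := Nat.card_pos_iff.mp hpos
  have hsize : ∀ a : Ω, p ^ 2 ≤ (MulAction.orbit ↥(P : Subgroup G) a).ncard := fun a => by
    rw [← Nat.card_coe_set_eq]
    have : Nonempty (MulAction.orbit ↥(P : Subgroup G) a) := ⟨⟨a, MulAction.mem_orbit_self a⟩⟩
    exact Nat.le_of_dvd Nat.card_pos (sq_dvd_orbit htrans p hdvd P a)
  have hne : (⊤ : Subgroup ↥(P : Subgroup G)) ≠ ⊥ := by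
    intro h
    have h1 := hsize x
    rw [← MulAction.index_stabilizer] at h1
    have h2 : MulAction.stabilizer ↥(P : Subgroup G) x = ⊤ := le_antisymm le_top (h ▸ bot_le)
    rw [h2, Subgroup.index_top] at h1
    nlinarith [hp.two_le]
  obtain ⟨c, -, hcc, hco⟩ := central_in_normal hP ⊤ hne
  have hcent : ∀ (g : ↥(P : Subgroup G)) (b : Ω), (c * g) • b = (g * c) • b :=
    fun g b => by rw [Subgroup.mem_center_iff.mp hcc g]
  have hc1 : c ≠ 1 := fun h => by
    rw [h, orderOf_one] at hco
    exact hp.one_lt.ne hco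
  by_cases hall : ∀ a : Ω, c • a ≠ a
  · exact ⟨(c : G), by rw [Subgroup.orderOf_coe, hco]; exact hp, hall⟩
  push Not at hall
  obtain ⟨y, hy⟩ := hall
  have hny : MulAction.orbit ↥(P : Subgroup G) y ≠ Set.univ := by
    intro h
    apply hc1
    apply Subtype.ext
    apply eq_of_smul_eq_smul (α := Ω)
    intro a
    rw [Subgroup.coe_one, one_smul]
    exact fix_orbit c y (fun g => hcent g y) hy a (by rw [h]; trivial)
  obtain ⟨z, hz⟩ : ∃ z, z ∉ MulAction.orbit ↥(P : Subgroup G) y := by
    by_contra! h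
    exact hny (Set.eq_univ_of_forall h)
  have hdisj : Disjoint (MulAction.orbit ↥(P : Subgroup G) z)
      (MulAction.orbit ↥(P : Subgroup G) y) := by
    rw [Set.disjoint_left]
    intro a ha hay
    rw [← MulAction.orbit_eq_iff] at ha hay
    exact hz (by rw [← hay, ha]; exact MulAction.mem_orbit_self z)
  have hu := Set.ncard_union_eq hdisj
  have htot := Set.ncard_le_ncard (Set.subset_univ
    (MulAction.orbit ↥(P : Subgroup G) z ∪ MulAction.orbit ↥(P : Subgroup G) y)) Set.finite_univ
  rw [Set.ncard_univ, hcard] at htot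
  have h1 := hsize z
  have h2 := hsize y
  have hz2 : (MulAction.stabilizer ↥(P : Subgroup G) z).index = p ^ 2 := by
    rw [MulAction.index_stabilizer]; omega
  have hy2 : (MulAction.stabilizer ↥(P : Subgroup G) y).index = p ^ 2 := by
    rw [MulAction.index_stabilizer]; omega
  have hcov : ∀ a, a ∈ MulAction.orbit ↥(P : Subgroup G) z ∨
      a ∈ MulAction.orbit ↥(P : Subgroup G) y := by
    intro a
    have heq : MulAction.orbit ↥(P : Subgroup G) z ∪ MulAction.orbit ↥(P : Subgroup G) y
        = Set.univ := Set.eq_of_subset_of_ncard_le (Set.subset_univ _)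
          (by rw [Set.ncard_univ, hcard]; omega) Set.finite_univ
    exact (Set.eq_univ_iff_forall.mp heq) a
  refine two_orbits p hcl (P : Subgroup G) hP z y hcov (fun h => hz ?_) hz2 hy2 c hcc hco hy
  rw [← MulAction.orbit_eq_iff] at h
  rw [h]; exact MulAction.mem_orbit_self z

end Cfsg.Agent.S3557
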