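import Mathlib
import Cfsg.Statements.S3559
import Cfsg.Agent.Lib.Perm.SchurBGroup

set_option autoImplicit false
open Cfsg

namespace Cfsg.Agent.S3559

/-- Let G act faithfully and transitively on a finite set whose number of points n ≥ 2 is not a prime power, and suppose G has a cyclic subgroup acting regularly (transitively with trivial point stabilizers). Then G is imprimitive or doubly transitive. -/
theorem result {G Ω : Type*} [Group G] [Finite G] [MulAction G Ω] [FaithfulSMul G Ω] [Finite Ω]
    (htrans : MulAction.IsPretransitive G Ω) (hn : 2 ≤ Nat.card Ω) (hnp : ¬ IsPrimePow (Nat.card Ω))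
    (C : Subgroup G) (hcyc : IsCyclic ↥C) (hC : MulAction.IsPretransitive ↥C Ω ∧ ∀ a : Ω, MulAction.stabilizer ↥C a = ⊥) :
    ¬ MulAction.IsPreprimitive G Ω ∨ MulAction.IsMultiplyPretransitive G Ω 2 := by
  by_cases hprim : MulAction.IsPreprimitive G Ω
  swap
  · exact Or.inl hprim
  right
  letI : CommGroup C := IsCyclic.commGroup
  obtain ⟨htr, hfree⟩ := hC
  obtain ⟨a⟩ : Nonempty Ω := (Nat.card_pos_iff.mp (by omega)).1
  have hbij : Function.Bijective (fun c : C => c • a) := by
    refine ⟨fun c d h => ?_, fun b => htr.exists_smul_eq a b⟩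
    have hm : d⁻¹ * c ∈ MulAction.stabilizer C a := by
      rw [MulAction.mem_stabilizer_iff, mul_smul, show c • a = d • a from h, inv_smul_smul]
    rw [hfree a, Subgroup.mem_bot, inv_mul_eq_one] at hm
    exact hm.symm
  let e : C ≃ Ω := Equiv.ofBijective _ hbij
  have hcard : Nat.card C = Nat.card Ω := Nat.card_congr e
  set p := (Nat.card Ω).minFac with hp
  have hpp : p.Prime := Nat.minFac_prime (by omega)
  have := Fact.mk hpp
  have hdvd : p ∣ Nat.card Ω := Nat.minFac_dvd _
  have hsq : p ^ 2 ≤ Nat.card C := by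
    rw [hcard]
    refine Nat.minFac_sq_le_self (by omega) fun hP => hnp hP.isPrimePow
  have hP : Nat.card {x : C // x ^ p = 1} = p := by
    have h := IsCyclic.card_powMonoidHom_ker C p
    rw [hcard, Nat.gcd_eq_right hdvd] at h
    exact (Nat.card_congr (Equiv.refl _)).trans h
  exact Cfsg.Agent.Lib.Perm.SchurB.two_transitive e C.subtype a (fun _ => rfl) hP hsq

end Cfsg.Agent.S3559
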