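import Cfsg.Statements.S3560
import Mathlib

set_option autoImplicit false
set_option linter.style.haveILetI false
open Cfsg
open MulAction
open scoped Pointwise

namespace Cfsg.Agent.S3560

/-- Let K be a finite group isomorphic to a direct product of r ≥ 2 groups all of the same order m ≥ 3. Then K is not a B-group: there is a primitive but not doubly transitive permutation group (on some finite set) containing a regular subgroup isomorphic to K. -/
theorem result {K : Type*} [Group K] [Finite K] {ι : Type*} [Fintype ι] (F : ι → Type*) [∀ i, Group (F i)]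
    (hr : 2 ≤ Fintype.card ι) (m : ℕ) (hm : 3 ≤ m) (hcard : ∀ i, Nat.card (F i) = m) (e : K ≃* (∀ i, F i)) :
    ∃ (n : ℕ) (G R : Subgroup (Equiv.Perm (Fin n))), R ≤ G ∧ Nonempty (↥R ≃* K) ∧
      MulAction.IsPretransitive ↥R (Fin n) ∧ (∀ a : Fin n, MulAction.stabilizer ↥R a = ⊥) ∧
      MulAction.IsPreprimitive ↥G (Fin n) ∧ ¬ MulAction.IsMultiplyPretransitive ↥G (Fin n) 2 := by
  classical
  set n := Fintype.card (ι → Fin m) with hn
  -- product action model
  let o : Fin m := ⟨0, by omega⟩
  have hε : ∀ i, ∃ ε : F i ≃ Fin m, ε 1 = o := by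
    intro i
    haveI : Finite (F i) := Nat.finite_of_card_ne_zero (by rw [hcard i]; omega)
    let e0 : F i ≃ Fin m := (Finite.equivFin (F i)).trans (finCongr (hcard i))
    exact ⟨e0.trans (Equiv.swap (e0 1) o), by simp⟩
  choose ε hε1 using hε
  let Aut : Subgroup (Equiv.Perm (ι → Fin m)) :=
    { carrier := {σ | ∀ x y, hammingDist (σ x) (σ y) = hammingDist x y}
      one_mem' := fun x y => rfl
      mul_mem' := fun {a b} ha hb x y => (ha _ _).trans (hb x y)
      inv_mem' := fun {a} ha x y => by
        have := ha (a⁻¹ x) (a⁻¹ y)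
        rw [show a (a⁻¹ x) = x from a.apply_symm_apply x, show a (a⁻¹ y) = y from a.apply_symm_apply y] at this
        exact this.symm }
  let E : (∀ i, F i) ≃ (ι → Fin m) := Equiv.piCongrRight ε
  let φ : K →* Equiv.Perm (ι → Fin m) :=
    { toFun := fun k => E.permCongr (Equiv.mulLeft (e k))
      map_one' := Equiv.ext fun x => by simp [Equiv.permCongr_apply]
      map_mul' := fun a b => Equiv.ext fun x => by simp [Equiv.permCongr_apply, mul_assoc] }
  have hcoord : ∀ π : ι → Equiv.Perm (Fin m), Equiv.piCongrRight π ∈ Aut := fun π x y =>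
    hammingDist_comp (fun i => π i) (fun i => (π i).injective)
  have hperm : ∀ τ : Equiv.Perm ι, Equiv.arrowCongr τ (Equiv.refl (Fin m)) ∈ Aut := by
    intro τ x y
    simp only [hammingDist]
    refine Finset.card_bij (fun i _ => τ.symm i) (fun i hi => ?_) (fun a _ b _ h => τ.symm.injective h) (fun j hj => ⟨τ j, ?_, τ.symm_apply_apply j⟩)
    · simp only [Finset.mem_filter, Finset.mem_univ, true_and] at hi ⊢
      exact hi
    · simp only [Finset.mem_filter, Finset.mem_univ, true_and] at hj ⊢
      simpa [Equiv.arrowCongr] using hj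
  have hφ : ∀ k, φ k ∈ Aut := by
    intro k
    have : φ k = Equiv.piCongrRight fun i => (ε i).permCongr (Equiv.mulLeft (e k i)) := by
      refine Equiv.ext fun x => funext fun i => ?_
      rfl
    rw [this]; exact hcoord _
  have hprimA : IsPreprimitive Aut (ι → Fin m) := by
    haveI : IsPretransitive Aut (ι → Fin m) := ⟨fun x y => ⟨⟨_, hcoord fun i => Equiv.swap (x i) (y i)⟩,
      funext fun i => Equiv.swap_apply_left (x i) (y i)⟩⟩
    let z : ι → Fin m := fun _ => o
    refine IsPreprimitive.of_isTrivialBlock_base (fun hzB => ?_) (a := z)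
    intro hB
    rename_i B
    by_cases hsub : B.Subsingleton
    · exact Or.inl hsub
    right
    have hstab : ∀ σ ∈ Aut, ∀ x ∈ B, σ x ∈ B → ∀ y ∈ B, σ y ∈ B := by
      intro σ hσ x hx hσx y hy
      have h1 : (⟨σ, hσ⟩ : Aut) • B = B := hB.smul_eq_of_mem (g := (⟨σ, hσ⟩ : Aut)) hx hσx
      rw [← h1]
      exact Set.smul_mem_smul_set hy
    obtain ⟨x, hx, i, hxi⟩ : ∃ x ∈ B, ∃ i, x i ≠ o := by
      by_contra h
      push_neg at h
      exact hsub fun a ha b hb => funext fun i => (h a ha i).trans (h b hb i).symm
    obtain ⟨c, hc1, hc2⟩ : ∃ c : Fin m, c ≠ x i ∧ c ≠ o := by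
      by_contra h
      push_neg at h
      have : Fintype.card (Fin m) ≤ 2 := by
        refine (Finset.card_le_card (s := Finset.univ) (t := ({x i, o} : Finset (Fin m))) fun a _ => ?_).trans Finset.card_le_two
        rw [Finset.mem_insert, Finset.mem_singleton]
        by_cases h' : a = x i
        exacts [Or.inl h', Or.inr (h a h')]
      rw [Fintype.card_fin] at this
      omega
    -- B contains a neighbour of the base point
    have hnb : ∃ d, d ≠ o ∧ Function.update z i d ∈ B := by
      let π : ι → Equiv.Perm (Fin m) := fun j => if j = i then Equiv.swap (x i) c else 1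
      have hπz : Equiv.piCongrRight π z = z := funext fun j => by
        by_cases hj : j = i
        · subst hj; simp [π, z, Equiv.swap_apply_of_ne_of_ne (Ne.symm hxi) (Ne.symm hc2)]
        · simp [π, z, hj]
      have hx' := hstab _ (hcoord π) z hzB (by rw [hπz]; exact hzB) x hx
      let ρ : ι → Equiv.Perm (Fin m) := fun j => Equiv.swap (x j) o
      have hρx : Equiv.piCongrRight ρ x = z := funext fun j => Equiv.swap_apply_left _ _
      have hx'' := hstab _ (hcoord ρ) x hx (by rw [hρx]; exact hzB) _ hx'
      refine ⟨Equiv.swap (x i) o c, ?_, ?_⟩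
      · rw [Equiv.swap_apply_of_ne_of_ne hc1 hc2]; exact hc2
      · convert hx'' using 1
        funext j
        by_cases hj : j = i
        · subst hj; simp [π, ρ]
        · simp [π, ρ, hj, z]
    obtain ⟨d, hd, hdB⟩ := hnb
    have hall : ∀ (j : ι) (c : Fin m), Function.update z j c ∈ B := by
      intro j c
      by_cases hco : c = o
      · rw [hco, show Function.update z j o = z from Function.update_eq_self j z]; exact hzB
      let τ := Equiv.arrowCongr (Equiv.swap i j) (Equiv.refl (Fin m))
      have h1 := hstab τ (hperm _) z hzB (show τ z ∈ B from hzB) _ hdB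
      let π : ι → Equiv.Perm (Fin m) := fun _ => Equiv.swap d c
      have hπz : Equiv.piCongrRight π z = z := funext fun k => by
        simp [π, z, Equiv.swap_apply_of_ne_of_ne (Ne.symm hd) (Ne.symm hco)]
      have h2 := hstab _ (hcoord π) z hzB (by rw [hπz]; exact hzB) _ h1
      convert h2 using 1
      funext k
      by_cases hk : k = j
      · subst hk; simp [τ, π, Equiv.arrowCongr]
      · have hk' : Equiv.swap i j k ≠ i := fun h => hk (by
          have := congrArg (Equiv.swap i j) h
          rwa [Equiv.swap_apply_self, Equiv.swap_apply_left] at this)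
        simp [τ, π, z, Equiv.arrowCongr, hk, hk', Equiv.swap_apply_of_ne_of_ne (Ne.symm hd) (Ne.symm hco)]
    have hfull : ∀ s : Finset ι, ∀ w : ι → Fin m, (∀ j ∉ s, w j = o) → w ∈ B := by
      intro s
      induction s using Finset.induction_on with
      | empty => intro w hw; rw [show w = z from funext fun j => hw j (Finset.notMem_empty j)]; exact hzB
      | insert j s hj ih =>
        intro w hw
        have hu : Function.update w j o ∈ B := ih _ fun k hk => by
          by_cases hkj : k = j
          · subst hkj; simp
          · rw [Function.update_of_ne hkj]; exact hw k (by simp [hkj, hk])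
        let ρ : ι → Equiv.Perm (Fin m) := fun k => Equiv.swap (Function.update w j o k) o
        have hρ : Equiv.piCongrRight ρ z = Function.update w j o := funext fun k => Equiv.swap_apply_right _ _
        have h2 := hstab _ (hcoord ρ) z hzB (by rw [hρ]; exact hu) _ (hall j (w j))
        convert h2 using 1
        funext k
        by_cases hk : k = j
        · subst hk; simp [ρ]
        · simp [ρ, hk, z]
    exact Set.eq_univ_of_forall fun w => hfull Finset.univ w fun j hj => absurd (Finset.mem_univ j) hj
  let T : (ι → Fin m) ≃ Fin n := Fintype.equivFin _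
  let P := T.permCongrHom.toMonoidHom
  refine ⟨n, Aut.map P, (P.comp φ).range, ?_, ⟨(MonoidHom.ofInjective ?_).symm⟩, ?_, ?_, ?_, ?_⟩
  · rintro _ ⟨k, rfl⟩; exact ⟨φ k, hφ k, rfl⟩
  · intro a b hab
    have h1 := T.permCongrHom.injective hab
    have h2 : E.permCongr (Equiv.mulLeft (e a)) = E.permCongr (Equiv.mulLeft (e b)) := h1
    have h3 := congrArg (fun π : Equiv.Perm (∀ i, F i) => π 1) (E.permCongr.injective h2)
    simp at h3
    exact h3
  · refine ⟨fun x y => ⟨⟨_, e.symm (E.symm (T.symm y) * (E.symm (T.symm x))⁻¹), rfl⟩, ?_⟩⟩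
    show T (E (e (e.symm _) * E.symm (T.symm x))) = y
    simp
  · intro a
    rw [Subgroup.eq_bot_iff_forall]
    rintro ⟨_, k, rfl⟩ hk
    have h1 : T (E (e k * E.symm (T.symm a))) = a := hk
    have h2 : e k * E.symm (T.symm a) = E.symm (T.symm a) := by
      apply E.injective; apply T.injective; rw [h1]; simp
    have h3 : k = 1 := e.injective (by rw [mul_eq_right.1 h2, map_one])
    subst h3
    exact Subtype.ext (map_one _)
  · have hsm : ∀ (g : Aut) (x : ι → Fin m), T (g.1 x) = T.permCongr g.1 (T x) := fun g x => by simp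
    exact IsPreprimitive.of_surjective (f := ({ toFun := T, map_smul' := hsm } : MulActionHom (fun g : Aut => (⟨P g.1, Subgroup.mem_map_of_mem P g.2⟩ : Aut.map P)) (ι → Fin m) (Fin n))) T.surjective
  · intro h2
    rw [is_two_pretransitive_iff] at h2
    obtain ⟨i, j, hij⟩ := Fintype.exists_pair_of_one_lt_card (show 1 < Fintype.card ι by omega)
    let c : Fin m := ⟨1, by omega⟩
    have hco : c ≠ o := by simp [c, o]
    let z : ι → Fin m := fun _ => o
    let a1 := Function.update z i c
    let a2 := Function.update a1 j c
    have hd1 : hammingDist z a1 = 1 := by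
      simp only [hammingDist]
      rw [Finset.card_eq_one]
      refine ⟨i, ?_⟩
      ext k
      by_cases hk : k = i <;> simp [a1, z, hk, hco.symm]
    have hd2 : hammingDist z a2 = 2 := by
      simp only [hammingDist]
      rw [Finset.card_eq_two]
      refine ⟨i, j, hij, ?_⟩
      ext k
      by_cases hkj : k = j
      · simp [a2, a1, z, hkj, hco.symm]
      · by_cases hk : k = i
        · subst hk; simp [a2, a1, z, hkj, hco.symm]
        · simp [a2, a1, z, hkj, hk]
    have ne1 : T z ≠ T a1 := fun h => by rw [← T.injective h, hammingDist_self] at hd1; omega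
    have ne2 : T z ≠ T a2 := fun h => by rw [← T.injective h, hammingDist_self] at hd2; omega
    obtain ⟨⟨_, σ, hσ, rfl⟩, h1, h2⟩ := h2 ne1 ne2
    have e1 : σ z = z := T.injective (by
      have : T.permCongr σ (T z) = T z := h1
      simpa using this)
    have e2 : σ a1 = a2 := T.injective (by
      have : T.permCongr σ (T a1) = T a2 := h2
      simpa using this)
    have := hσ z a1
    rw [e1, e2, hd1, hd2] at this
    omega


end Cfsg.Agent.S3560
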