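import Cfsg.Statements.S3571
import Cfsg.Agent.Lib.Fusion.AltDerangement
import Cfsg.Agent.S2119
-- import your own Cfsg.Agent.* helpers here

set_option autoImplicit false
open Cfsg

namespace Cfsg.Agent.S3571

open MulAction

/-- Let G be an almost simple group whose socle is an alternating group of degree m ≥ 5 (G has a normal subgroup T isomorphic to that alternating group with trivial centralizer), acting faithfully and primitively on a finite set Ω with at least two points, and let r be the largest prime divisor of the number of points. Then G contains an element of order r fixing no point. -/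
theorem result {G Ω : Type*} [Group G] [Finite G] [MulAction G Ω] [FaithfulSMul G Ω] [Finite Ω]
    (T : Subgroup G) (hT : T.Normal) (hTc : Subgroup.centralizer (T : Set G) = ⊥) (m : ℕ) (hm : 5 ≤ m)
    (eT : ↥T ≃* ↥(alternatingGroup (Fin m))) (hprim : MulAction.IsPreprimitive G Ω) (hΩ : 2 ≤ Nat.card Ω)
    (r : ℕ) (hr : r.Prime) (hrd : r ∣ Nat.card Ω) (hmax : ∀ s : ℕ, s.Prime → s ∣ Nat.card Ω → s ≤ r) :
    ∃ g : G, orderOf g = r ∧ ∀ ω : Ω, g • ω ≠ ω := by
  classical
  haveI : Nontrivial Ω := Finite.one_lt_card_iff_nontrivial.1 hΩ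
  haveI := hT
  set A := alternatingGroup (Fin m)
  haveI : IsPretransitive ↥T Ω := by
    refine IsQuasiPreprimitive.isPretransitive_of_normal fun hfix => ?_
    haveI : Nontrivial (Fin m) := Fin.nontrivial_iff_two_le.2 (by omega)
    have hA : 1 < Nat.card A := by
      have h2 : 2 * Nat.card A = m.factorial := by
        rw [two_mul_nat_card_alternatingGroup, Nat.card_perm, Nat.card_fin]
      have h6 : Nat.factorial 5 ≤ m.factorial := Nat.factorial_le hm
      norm_num [Nat.factorial] at h6
      omega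
    rw [← Nat.card_congr eT.toEquiv] at hA
    haveI : Nontrivial T := Finite.one_lt_card_iff_nontrivial.1 hA
    obtain ⟨⟨t, ht⟩, h1⟩ := exists_ne (1 : T)
    refine h1 (Subtype.ext (eq_of_smul_eq_smul (α := Ω) fun x => ?_))
    rw [Subgroup.coe_one, one_smul]
    exact (Set.eq_univ_iff_forall.1 hfix x) ⟨t, ht⟩
  obtain ⟨ω⟩ : Nonempty Ω := inferInstance
  set K0 := stabilizer ↥T ω with hK0
  set K := K0.map eT.toMonoidHom with hK
  have hidx : K.index = Nat.card Ω := by
    rw [hK, Subgroup.index_map_of_bijective eT.bijective, hK0, index_stabilizer_of_transitive]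
  have hmemK : ∀ t : T, eT t ∈ K ↔ t • ω = ω := fun t => by
    rw [hK, ← mem_stabilizer_iff]
    exact Subgroup.mem_map_iff_mem eT.injective
  have key := Cfsg.Agent.Lib.Fusion.AltDerangement.exists_avoiding hm (K := K) hr (hidx ▸ hrd)
    (fun q hq hqd => hmax q hq (hidx ▸ hqd)) ?_
  · obtain ⟨s, hs, hav⟩ := key
    refine ⟨(eT.symm s : T), by rw [Subgroup.orderOf_coe, MulEquiv.orderOf_eq, hs], fun x hx => ?_⟩
    obtain ⟨u, hu⟩ := exists_smul_eq ↥T ω x
    apply hav (eT u⁻¹)
    rw [← eT.apply_symm_apply s, ← map_inv, ← map_mul, ← map_mul, hmemK, inv_inv, mul_smul, mul_smul,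
      hu, show eT.symm s • x = x from hx, ← hu, ← mul_smul, inv_mul_cancel, one_smul]
  · intro h6 S hS1 hS2 hSN a ha
    let e' := MulEquiv.ofBijective _ (Cfsg.Agent.S2119.result m (by omega) h6)
    let ψ : G →* MulAut A := (MulAut.congr eT).toMonoidHom.comp MulAut.conjNormal
    let θ : G →* Equiv.Perm (Fin m) := e'.symm.toMonoidHom.comp ψ
    have hθe : ∀ g : G, (MulAut.conjNormal (θ g) : MulAut A) = ψ g := fun g => e'.apply_symm_apply (ψ g)
    have hθ : ∀ (g : G) (t : T) (hgt : g * t * g⁻¹ ∈ T),
        θ g * (eT t : Equiv.Perm (Fin m)) * (θ g)⁻¹ = eT ⟨g * t * g⁻¹, hgt⟩ := by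
      intro g t hgt
      have h1 := congrArg (fun f : MulAut A => ((f (eT t) : A) : Equiv.Perm (Fin m))) (hθe g)
      simp only [MulAut.conjNormal_apply] at h1
      rw [h1]
      refine congrArg Subtype.val ?_
      show eT ((MulAut.conjNormal g : MulAut T) (eT.symm (eT t))) = _
      rw [eT.symm_apply_apply]
      exact congrArg eT (Subtype.ext (MulAut.conjNormal_apply g t))
    have hθT : ∀ t : T, θ (t : G) = eT t := by
      intro t
      refine (Cfsg.Agent.S2119.result m (by omega) h6).1 ((hθe (t : G)).trans ?_)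
      refine MulEquiv.ext fun b => Subtype.ext ?_
      show ((eT ((MulAut.conjNormal (t : G) : MulAut T) (eT.symm b)) : A) : Equiv.Perm (Fin m)) = _
      rw [MulAut.conjNormal_apply, show (MulAut.conjNormal (t : G) : MulAut T) (eT.symm b) =
        t * eT.symm b * t⁻¹ from Subtype.ext (MulAut.conjNormal_apply _ _), map_mul, map_mul,
        eT.apply_symm_apply, map_inv]
      rfl
    let s₀ : Set.powersetCard (Fin m) S.card := ⟨S, rfl⟩
    have hst : ∀ σ : Equiv.Perm (Fin m), σ ∈ stabilizer (Equiv.Perm (Fin m)) s₀ ↔ S.image σ = S := by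
      intro σ
      rw [mem_stabilizer_iff, Subtype.ext_iff]
      rfl
    set M := (stabilizer (Equiv.Perm (Fin m)) s₀).comap θ
    have hGM : stabilizer G ω ≤ M := by
      intro g hg
      refine (hst _).2 (hSN _ ?_)
      rintro _ ⟨b, hb, rfl⟩
      obtain ⟨t, ht, rfl⟩ := hb
      have hgt : g * t * g⁻¹ ∈ T := hT.conj_mem _ t.2 g
      refine ⟨eT ⟨_, hgt⟩, ?_, (hθ g t hgt).symm⟩
      refine (hmemK _).2 ?_
      have h1 : (t : G) • ω = ω := ht
      have h2 : g⁻¹ • ω = ω := inv_mem hg
      show (g * t * g⁻¹) • ω = ω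
      rw [mul_smul, mul_smul, h2, h1, hg]
    have hMne : M ≠ ⊤ := by
      intro htop
      haveI := Set.powersetCard.isPretransitive_alternatingGroup (α := Fin m) (n := S.card)
        (by rw [Nat.card_fin]; omega)
      haveI : Nontrivial (Set.powersetCard (Fin m) S.card) :=
        Set.powersetCard.nontrivial' hS1 (by rw [Nat.card_fin]; omega)
      obtain ⟨s₁, hs₁⟩ := exists_ne s₀
      obtain ⟨b, hb⟩ := exists_smul_eq ↥A s₀ s₁
      refine hs₁ (hb ▸ ?_)
      have h1 : ((eT.symm b : T) : G) ∈ M := htop ▸ Subgroup.mem_top _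
      rw [Subgroup.mem_comap, hθT, eT.apply_symm_apply] at h1
      exact h1
    have hGeq : M = stabilizer G ω :=
      ((IsPreprimitive.isCoatom_stabilizer_of_isPreprimitive G ω).le_iff.1 hGM).resolve_left hMne
    have h1 : ((eT.symm a : T) : G) ∈ M := by
      rw [Subgroup.mem_comap, hθT, eT.apply_symm_apply]
      exact (hst _).2 ha
    rw [hGeq] at h1
    rw [← eT.apply_symm_apply a, hmemK]
    exact h1

end Cfsg.Agent.S3571
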