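import Cfsg.Statements.S3575
import Mathlib

-- import your own Cfsg.Agent.* helpers here

set_option autoImplicit false
open Cfsg

namespace Cfsg.Agent.S3575

open Equiv Equiv.Perm

theorem exists_fun_sum (A : ℕ) : ∀ (m s : ℕ), s ≤ m * A →
    ∃ c : Fin m → ℕ, (∀ i, c i ≤ A) ∧ ∑ i, c i = s
  | 0, s, h => ⟨fun _ => 0, fun _ => Nat.zero_le _, by simp at h ⊢; omega⟩
  | m + 1, s, h => by
    obtain ⟨c, hc, hs⟩ := exists_fun_sum A m (s - min A s) (by rw [Nat.add_mul, one_mul] at h; omega)
    refine ⟨Fin.cons (min A s) c, fun i => ?_, ?_⟩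
    · cases i using Fin.cases with
      | zero => simp
      | succ i => simpa using hc i
    · rw [Fin.sum_univ_succ]
      simp [hs]

theorem exists_perm_moved {α : Type*} [Fintype α] [DecidableEq α] {r : ℕ} (hr : r.Prime) (c : ℕ)
    (h : c * r ≤ Fintype.card α) : ∃ p : Perm α, p ^ r = 1 ∧ p.support.card = c * r := by
  obtain ⟨p, hp⟩ := (Equiv.Perm.exists_with_cycleType_iff α (m := Multiset.replicate c r)).2
    ⟨by simpa using h, fun a ha => (Multiset.eq_of_mem_replicate ha) ▸ hr.two_le⟩
  refine ⟨p, orderOf_dvd_iff_pow_eq_one.1 ?_, by rw [← Equiv.Perm.sum_cycleType, hp]; simp⟩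
  rw [← Equiv.Perm.lcm_cycleType, hp]
  exact Multiset.lcm_dvd.2 fun a ha => (Multiset.eq_of_mem_replicate ha) ▸ dvd_rfl

theorem cycleType_eq {α : Type*} [Fintype α] [DecidableEq α] {r : ℕ} (hr : r.Prime) (p : Perm α)
    (hp : p ^ r = 1) :
    p.cycleType = Multiset.replicate (p.support.card / r) r ∧ r ∣ p.support.card := by
  have hall : ∀ a ∈ p.cycleType, a = r := fun a ha => by
    have h1 := (Equiv.Perm.dvd_of_mem_cycleType ha).trans (orderOf_dvd_of_pow_eq_one hp)
    rcases (Nat.dvd_prime hr).1 h1 with e | e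
    · have := Equiv.Perm.two_le_of_mem_cycleType ha; omega
    · exact e
  have e := Multiset.eq_replicate_card.2 hall
  have hs : p.support.card = Multiset.card p.cycleType * r := by
    conv_lhs => rw [← Equiv.Perm.sum_cycleType, e]
    simp
  exact ⟨by rw [hs, Nat.mul_div_cancel _ hr.pos]; exact e, hs ▸ dvd_mul_left r _⟩

/-- A permutation with `k` cycles of length `r` which fixes a uniform partition. -/
theorem exists_model {r : ℕ} (hr : r.Prime) (a b j k : ℕ) (hj : j * r ≤ b) (hk1 : j * a ≤ k)
    (hk2 : k ≤ j * a + (b - j * r) * (a / r)) :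
    ∃ τ : Perm (Fin b × Fin a), τ ^ r = 1 ∧ τ.support.card = k * r ∧
      ∃ π : Perm (Fin b), ∀ x, (τ x).1 = π x.1 := by
  obtain ⟨π, hπ, hπs⟩ := exists_perm_moved (α := Fin b) hr j (by simpa using hj)
  set F : Finset (Fin b) := π.supportᶜ with hF
  have hFc : Fintype.card F = b - j * r := by
    rw [Fintype.card_coe, hF, Finset.card_compl, hπs, Fintype.card_fin]
  obtain ⟨c₀, hc₀, hcs⟩ := exists_fun_sum (a / r) (Fintype.card F) (k - j * a) (by rw [hFc]; omega)
  let c : Fin b → ℕ := fun i => if h : i ∈ F then c₀ (Fintype.equivFin F ⟨i, h⟩) else 0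
  have hc : ∀ i, c i * r ≤ Fintype.card (Fin a) := fun i => by
    rw [Fintype.card_fin]
    refine le_trans (Nat.mul_le_mul_right r ?_) (Nat.div_mul_le_self a r)
    simp only [c]; split_ifs
    · exact hc₀ _
    · exact Nat.zero_le _
  choose ρ hρ hρs using fun i => exists_perm_moved (α := Fin a) hr (c i) (hc i)
  have hρ1 : ∀ i, π i ≠ i → ρ i = 1 := fun i hi => by
    rw [← Equiv.Perm.card_support_eq_zero, hρs]
    have : i ∉ F := by simp [hF, hi]
    simp [c, this]
  let τ : Perm (Fin b × Fin a) := (Equiv.prodCongrRight ρ).trans (π.prodCongr (Equiv.refl (Fin a)))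
  have happ : ∀ x, τ x = (π x.1, ρ x.1 x.2) := fun x => rfl
  have hpow : ∀ (m : ℕ) (x : Fin b × Fin a), (τ ^ m) x = ((π ^ m) x.1, (ρ x.1 ^ m) x.2) := by
    intro m
    induction m with
    | zero => intro x; rfl
    | succ m ih =>
      intro x
      rw [pow_succ' τ, Equiv.Perm.mul_apply, ih, happ, pow_succ' π, pow_succ' (ρ x.1),
        Equiv.Perm.mul_apply, Equiv.Perm.mul_apply]
      simp only
      by_cases h : π x.1 = x.1
      · rw [Equiv.Perm.pow_apply_eq_self_of_apply_eq_self h m]
      · have h' : π ((π ^ m) x.1) ≠ (π ^ m) x.1 := fun e => h ((π ^ m).injective (by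
          rw [← Equiv.Perm.mul_apply, ← pow_succ, pow_succ', Equiv.Perm.mul_apply, e]))
        rw [hρ1 _ h, hρ1 _ h']
  refine ⟨τ, Equiv.ext fun x => by rw [hpow, hπ, hρ]; rfl, ?_, π, fun x => rfl⟩
  have hsupp : τ.support = Finset.univ.filter
      (fun x : Fin b × Fin a => π x.1 ≠ x.1 ∨ ρ x.1 x.2 ≠ x.2) := by
    ext ⟨i, y⟩
    simp [happ, Prod.ext_iff, imp_iff_not_or]
  have hrow : ∀ i : Fin b, (∑ y : Fin a, if π i ≠ i ∨ ρ i y ≠ y then 1 else 0) =
      if i ∈ F then c i * r else a := by
    intro i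
    by_cases h : π i = i
    · rw [if_pos (by simp [hF, h]), ← hρs i, ← Finset.card_filter]
      congr 1
      ext y; simp [h]
    · rw [if_neg (by simp [hF, h])]
      simp [h]
  rw [hsupp, Finset.card_filter, Fintype.sum_prod_type, Finset.sum_congr rfl fun i _ => hrow i,
    Finset.sum_ite, Finset.sum_const]
  have e1 : (Finset.univ.filter (fun i : Fin b => i ∉ F)) = π.support := by ext i; simp [hF]
  have e2 : (∑ i ∈ Finset.univ.filter (fun i : Fin b => i ∈ F), c i * r) = (k - j * a) * r := by
    rw [Finset.filter_univ_mem, ← Finset.sum_mul, ← hcs]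
    congr 1
    rw [← Finset.sum_coe_sort F c, ← Equiv.sum_comp (Fintype.equivFin F) c₀]
    exact Finset.sum_congr rfl fun i _ => by simp [c, i.2]
  rw [e1, e2, hπs, smul_eq_mul, show j * r * a = j * a * r by ring, ← Nat.add_mul,
    Nat.sub_add_cancel hk1]

/-- The number of moved points of a permutation fixing a uniform partition. -/
theorem of_fixed {r : ℕ} (hr : r.Prime) {n a b k : ℕ} (σ : Perm (Fin n)) (hσ : σ ^ r = 1)
    (hk : σ.support.card = k * r) (f : Fin n → Fin b) (ha : 0 < a)
    (hf : ∀ j : Fin b, Nat.card {x : Fin n // f x = j} = a) (π : Perm (Fin b))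
    (hπ : ∀ x, f (σ x) = π (f x)) :
    ∃ j, j * r ≤ b ∧ j * a ≤ k ∧ k ≤ j * a + (b - j * r) * (a / r) := by
  haveI := Fact.mk hr
  have hf' : ∀ i, (Finset.univ.filter (fun x => f x = i)).card = a := fun i => by
    rw [← hf i, Nat.card_eq_fintype_card, Fintype.card_subtype]
  have hpow : ∀ (m : ℕ) x, f ((σ ^ m) x) = (π ^ m) (f x) := by
    intro m
    induction m with
    | zero => intro x; rfl
    | succ m ih => intro x; rw [pow_succ', Equiv.Perm.mul_apply, hπ, ih, pow_succ',
        Equiv.Perm.mul_apply]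
  have hπr : π ^ r = 1 := Equiv.ext fun i => by
    obtain ⟨x, hx⟩ : ∃ x, f x = i := by
      have : 0 < (Finset.univ.filter (fun x => f x = i)).card := by rw [hf']; exact ha
      obtain ⟨x, hx⟩ := Finset.card_pos.1 this
      exact ⟨x, (Finset.mem_filter.1 hx).2⟩
    rw [← hx, ← hpow, hσ]; rfl
  obtain ⟨-, j, hj⟩ := cycleType_eq hr π hπr
  have hdec : σ.support.card = ∑ i : Fin b, (σ.support.filter (fun x => f x = i)).card :=
    Finset.card_eq_sum_card_fiberwise (fun x _ => Finset.mem_univ _)
  have hmoved : ∀ i ∈ π.support, (σ.support.filter (fun x => f x = i)).card = a := by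
    intro i hi
    rw [← hf' i]
    congr 1
    ext x
    simp only [Finset.mem_filter, Equiv.Perm.mem_support, Finset.mem_univ, true_and,
      and_iff_right_iff_imp]
    intro hx e
    exact Equiv.Perm.mem_support.1 hi (by rw [← hx, ← hπ, e])
  have hfixed : ∀ i ∈ π.supportᶜ, ∃ c, c ≤ a / r ∧
      (σ.support.filter (fun x => f x = i)).card = c * r := by
    intro i hi
    rw [Finset.mem_compl, Equiv.Perm.notMem_support] at hi
    have hinv : ∀ x, f (σ x) = i ↔ f x = i := fun x => by
      rw [hπ]
      exact ⟨fun e => π.injective (e.trans hi.symm), fun e => by rw [e, hi]⟩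
    set τ : Perm {x // f x = i} := σ.subtypePerm hinv with hτ
    have hτr : τ ^ r = 1 := by
      rw [hτ, Equiv.Perm.subtypePerm_pow]
      exact Equiv.ext fun x => Subtype.ext (by simp [hσ])
    obtain ⟨-, c, hc⟩ := cycleType_eq hr τ hτr
    have hle : τ.support.card ≤ a := by
      rw [← hf' i, ← Fintype.card_subtype]
      exact Finset.card_le_univ _
    refine ⟨c, (Nat.le_div_iff_mul_le hr.pos).2 (by rw [mul_comm, ← hc]; exact hle), ?_⟩
    rw [mul_comm c r, ← hc, ← Finset.card_map (Function.Embedding.subtype _) (s := τ.support)]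
    congr 1
    ext x
    simp [hτ, Subtype.ext_iff, and_comm]
  choose c hc hcc using hfixed
  rw [← Finset.sum_add_sum_compl π.support, Finset.sum_congr rfl hmoved, Finset.sum_const,
    ← Finset.sum_attach π.supportᶜ, Finset.sum_congr rfl fun (i : {x // x ∈ π.supportᶜ}) _ =>
      hcc i.1 i.2, ← Finset.sum_mul, smul_eq_mul, hk, hj, mul_assoc, mul_comm _ r,
    mul_comm _ r, ← Nat.mul_add] at hdec
  have hke : k = j * a + ∑ i ∈ π.supportᶜ.attach, c i.1 i.2 := Nat.eq_of_mul_eq_mul_left hr.pos hdec
  have hjb : j * r ≤ b := by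
    rw [mul_comm, ← hj]
    simpa using Finset.card_le_univ π.support
  have hsum : ∑ i ∈ π.supportᶜ.attach, c i.1 i.2 ≤ (b - j * r) * (a / r) := by
    refine (Finset.sum_le_card_nsmul _ _ _ fun i _ => hc i.1 i.2).trans ?_
    rw [Finset.card_attach, Finset.card_compl, Fintype.card_fin, hj, smul_eq_mul, mul_comm r j]
  exact ⟨j, hjb, by omega, by omega⟩

/-- The numbers of cycles all occur if and only if the gaps close up. -/
theorem arith (a b r : ℕ) (ha : 2 ≤ a) (hb : 2 ≤ b) (hr : 2 ≤ r) (hrn : r ≤ a * b) :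
    (∀ k, 1 ≤ k → k * r ≤ a * b →
      ∃ j, j * r ≤ b ∧ j * a ≤ k ∧ k ≤ j * a + (b - j * r) * (a / r)) ↔
      (r ≤ a ∧ (a % r = 0 ∨ (b % r = 0 ∧ a % r = 1) ∨
        (a % r ≠ 0 ∧ b % r ≠ 0 ∧ (b % r) * (a % r) < r ∧
          (b < r ∨ (b % r + r) * (a % r) ≤ (b % r) * a + r)))) := by
  have hA := Nat.div_add_mod a r
  have hB := Nat.div_add_mod b r
  have hl : a % r < r := Nat.mod_lt _ (by omega)
  have hs : b % r < r := Nat.mod_lt _ (by omega)
  generalize a % r = l at hA hl ⊢
  generalize b % r = s at hB hs ⊢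
  generalize a / r = A at hA ⊢
  generalize b / r = B at hB
  subst hA hB
  have hjB : ∀ j, j * r ≤ r * B + s → j ≤ B := by
    intro j hj
    by_contra h
    have : (B + 1) * r ≤ j * r := Nat.mul_le_mul_right r (by omega)
    nlinarith
  have hrest : ∀ j d, B = j + d → r * B + s - j * r = d * r + s := by
    intro j d e
    subst e
    have : r * (j + d) = j * r + d * r := by ring
    omega
  constructor
  · intro h
    have hA1 : 1 ≤ A := by
      obtain ⟨j, hj, h1, h2⟩ := h 1 le_rfl (by simpa using hrn)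
      by_contra hA0
      have hA0' : A = 0 := by omega
      simp only [hA0', mul_zero, add_zero] at h2 h1 ha
      rcases Nat.eq_zero_or_pos j with e | e
      · subst e; simp at h2
      · have : l ≤ j * l := Nat.le_mul_of_pos_left l e
        simp only [zero_add] at ha h1 h2
        omega
    refine ⟨by nlinarith, ?_⟩
    by_cases hl0 : l = 0
    · exact Or.inl hl0
    have hkey : ∀ k, 1 ≤ k → k * r ≤ (r * A + l) * (r * B + s) →
        ∃ j d, B = j + d ∧ j * (r * A + l) ≤ k ∧ k ≤ j * (r * A + l) + (d * r + s) * A := by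
      intro k h1 h2
      obtain ⟨j, hj, h3, h4⟩ := h k h1 h2
      obtain ⟨d, hd⟩ := Nat.exists_eq_add_of_le (hjB j hj)
      rw [hrest j d hd] at h4
      exact ⟨j, d, hd, h3, h4⟩
    have hsl : s * l < r := by
      by_contra hge
      push Not at hge
      have hk : (B * (r * A + l) + s * A + 1) * r ≤ (r * A + l) * (r * B + s) := by nlinarith
      obtain ⟨j, d, hd, h3, h4⟩ := hkey _ (by omega) hk
      subst hd
      nlinarith
    have hgap : 1 ≤ B → r * A + l ≤ (s + r) * A + 1 := by
      intro hB1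
      by_contra hgt
      push Not at hgt
      obtain ⟨B', rfl⟩ : ∃ B', B = B' + 1 := ⟨B - 1, by omega⟩
      obtain ⟨k, hk⟩ : ∃ k, (B' + 1) * (r * A + l) = k + 1 := ⟨(B' + 1) * (r * A + l) - 1, by
        have : 0 < (B' + 1) * (r * A + l) := Nat.mul_pos (by omega) (by omega)
        omega⟩
      have h2 : k * r ≤ (r * A + l) * (r * (B' + 1) + s) := by nlinarith
      have h1 : 1 ≤ k := by nlinarith
      obtain ⟨j, d, hd, h3, h4⟩ := hkey k h1 h2
      rcases Nat.eq_zero_or_pos d with hd0 | hd0
      · subst hd0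
        rw [add_zero] at hd
        subst hd
        omega
      · obtain ⟨d', rfl⟩ : ∃ d', d = d' + 1 := ⟨d - 1, by omega⟩
        have hB' : B' = j + d' := by omega
        subst hB'
        nlinarith
    by_cases hs0 : s = 0
    · refine Or.inr (Or.inl ⟨hs0, ?_⟩)
      subst hs0
      have hB1 : 1 ≤ B := by
        by_contra hB0
        have : B = 0 := by omega
        subst this; simp at hb
      have := hgap hB1
      simp only [zero_add] at this
      omega
    · refine Or.inr (Or.inr ⟨hl0, hs0, hsl, ?_⟩)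
      rcases Nat.eq_zero_or_pos B with hB0 | hB0
      · left; subst hB0; simpa using hs
      · right
        have h1 := Nat.mul_le_mul_left r (hgap hB0)
        nlinarith
  · rintro ⟨hra, hcond⟩ k hk1 hk
    have hA1 : 1 ≤ A := by
      by_contra hA0
      have hA0' : A = 0 := by omega
      subst hA0'
      simp at hra
      omega
    have hsl : s * l < r := by
      rcases hcond with e | ⟨e, -⟩ | ⟨-, -, e, -⟩
      · subst e; simp; omega
      · subst e; simp; omega
      · exact e
    have hgap : B = 0 ∨ r * A + l ≤ (s + r) * A + 1 := by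
      rcases hcond with e | ⟨e, e'⟩ | ⟨-, -, -, e | e⟩
      · subst e; right; nlinarith
      · subst e e'; right; simp
      · left
        by_contra hB0
        have : r * 1 ≤ r * B := Nat.mul_le_mul_left r (by omega)
        omega
      · right
        by_contra hgt
        push Not at hgt
        have := Nat.mul_le_mul_left r hgt
        nlinarith
    have hkB : k ≤ B * (r * A + l) + s * A := by
      by_contra hgt
      push Not at hgt
      have := Nat.mul_le_mul_right r hgt
      nlinarith
    obtain ⟨j, hjB', hjk, hmax⟩ : ∃ j, j ≤ B ∧ j * (r * A + l) ≤ k ∧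
        (j < B → k < (j + 1) * (r * A + l)) := by
      refine ⟨min B (k / (r * A + l)), min_le_left _ _, ?_, fun hlt => ?_⟩
      · exact (Nat.mul_le_mul_right _ (min_le_right _ _)).trans (Nat.div_mul_le_self _ _)
      · have e : min B (k / (r * A + l)) = k / (r * A + l) := by omega
        rw [e]
        exact Nat.lt_mul_of_div_lt (Nat.lt_succ_self _) (by omega)
    obtain ⟨d, rfl⟩ := Nat.exists_eq_add_of_le hjB'
    refine ⟨j, by nlinarith, hjk, ?_⟩
    rw [hrest j d rfl]
    rcases Nat.eq_zero_or_pos d with hd0 | hd0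
    · subst hd0
      simpa using hkB
    · have h1 := hmax (by omega)
      rcases hgap with hB0 | hg
      · omega
      · have h2 : (s + r) * A ≤ (d * r + s) * A := Nat.mul_le_mul_right A (by nlinarith)
        rw [Nat.add_mul, one_mul] at h1
        omega


/-- Let a, b ≥ 2 and consider the symmetric group of degree a·b acting on the partitions of an (a·b)-set into b parts of size a (encoded as maps onto a b-element set all of whose fibres have a elements; a permutation fixes such a partition when it permutes the fibres). Let r be a prime dividing the number (ab)!/((a!)^b·b!) of such partitions, and let ℓ and k be the remainders of a and b modulo r. Then every permutation of order r fixes some such partition if and only if r ≤ a and one of the following holds: ℓ = 0; or k = 0 and ℓ = 1; or ℓ and k are non-zero, k·ℓ < r, and either b < r or (k + r)·ℓ ≤ k·a + r. -/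
theorem result (a b : ℕ) (ha : 2 ≤ a) (hb : 2 ≤ b) (r : ℕ) (hr : r.Prime)
    (hrd : r ∣ (a * b).factorial / (a.factorial ^ b * b.factorial)) :
    (∀ σ : Equiv.Perm (Fin (a * b)), orderOf σ = r →
        ∃ f : Fin (a * b) → Fin b, (∀ j : Fin b, Nat.card {x : Fin (a * b) // f x = j} = a) ∧
          ∃ π : Equiv.Perm (Fin b), ∀ x : Fin (a * b), f (σ x) = π (f x)) ↔
      (r ≤ a ∧ (a % r = 0 ∨ (b % r = 0 ∧ a % r = 1) ∨
        (a % r ≠ 0 ∧ b % r ≠ 0 ∧ (b % r) * (a % r) < r ∧ (b < r ∨ (b % r + r) * (a % r) ≤ (b % r) * a + r)))) := by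
  haveI := Fact.mk hr
  have hrn : r ≤ a * b := by
    refine (Nat.Prime.dvd_factorial hr).1 (hrd.trans (Nat.div_dvd_of_dvd
      ⟨Nat.uniformBell b a, ?_⟩))
    rw [mul_comm a b, ← Nat.uniformBell_mul_eq b (by omega : a ≠ 0)]
    ring
  rw [← arith a b r ha hb hr.two_le hrn]
  constructor
  · intro h k hk1 hk
    obtain ⟨σ, hσ, hσs⟩ := exists_perm_moved (α := Fin (a * b)) hr k (by simpa using hk)
    have hord : orderOf σ = r := orderOf_eq_prime hσ fun e => by
      rw [e, Equiv.Perm.support_one, Finset.card_empty] at hσs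
      exact absurd hσs.symm (Nat.mul_ne_zero (by omega) hr.ne_zero)
    obtain ⟨f, hf, π, hπ⟩ := h σ hord
    exact of_fixed hr σ hσ hσs f (by omega) hf π hπ
  · intro h σ hσ
    have hσr : σ ^ r = 1 := hσ ▸ pow_orderOf_eq_one σ
    obtain ⟨hct, hdvd⟩ := cycleType_eq hr σ hσr
    obtain ⟨k, hk⟩ := hdvd
    have hk1 : 1 ≤ k := by
      by_contra hk0
      have : σ = 1 := Equiv.Perm.card_support_eq_zero.1 (by rw [hk, show k = 0 by omega, mul_zero])
      rw [this, orderOf_one] at hσ
      exact hr.ne_one hσ.symm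
    have hkn : k * r ≤ a * b := by
      rw [mul_comm, ← hk]; simpa using Finset.card_le_univ σ.support
    obtain ⟨j, hj, h1, h2⟩ := h k hk1 hkn
    obtain ⟨τ, hτ, hτs, π, hπ⟩ := exists_model hr a b j k hj h1 h2
    let e : Fin b × Fin a ≃ Fin (a * b) := finProdFinEquiv.trans (finCongr (mul_comm b a))
    have hτ' : (e.permCongrHom τ) ^ r = 1 := by rw [← map_pow, hτ, map_one]
    have hτs' : (e.permCongrHom τ).support.card = σ.support.card := by
      rw [hk, mul_comm r k, ← hτs, ← Finset.card_map e.toEmbedding (s := τ.support)]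
      congr 1
      ext x
      simp [Equiv.permCongrHom, Equiv.permCongr_apply, Equiv.eq_symm_apply]
    have hconj : IsConj (e.permCongrHom τ) σ := by
      rw [Equiv.Perm.isConj_iff_cycleType_eq, (cycleType_eq hr _ hτ').1, hct, hτs']
    obtain ⟨g, hg⟩ := isConj_iff.1 hconj
    refine ⟨fun x => (e.symm (g⁻¹ x)).1, fun i => ?_, π, fun x => ?_⟩
    · refine (Nat.card_congr ?_).trans (Nat.card_fin a)
      exact
        { toFun := fun x => (e.symm (g⁻¹ x.1)).2
          invFun := fun y => ⟨g (e (i, y)), by simp⟩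
          left_inv := fun x => Subtype.ext (by
            obtain ⟨x, hx⟩ := x
            subst hx
            simp)
          right_inv := fun y => by simp }
    · show (e.symm (g⁻¹ (σ x))).1 = π (e.symm (g⁻¹ x)).1
      rw [← hg]
      simp [Equiv.permCongrHom, Equiv.permCongr_apply, hπ]

end Cfsg.Agent.S3575
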