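import Cfsg.Statements.S3580
import Cfsg.Agent.Lib.SylowCounting.SylowRatio

set_option autoImplicit false
open Cfsg

namespace Cfsg.Agent.S3580

/-- Let G act faithfully and transitively on a finite set Ω, let p be an odd prime dividing the order of G and P a Sylow p-subgroup of G. Then the number of orbits of P on Ω is at most (p/(2p − 1))·(number of points). -/
theorem result {G Ω : Type*} [Group G] [Finite G] [MulAction G Ω] [FaithfulSMul G Ω] [Finite Ω]
    (htrans : MulAction.IsPretransitive G Ω) (p : ℕ) [Fact p.Prime] (hp2 : p ≠ 2) (hpG : p ∣ Nat.card G)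
    (P : Sylow p G) :
    (2 * p - 1) * Nat.card (MulAction.orbitRel.Quotient ↥(P : Subgroup G) Ω) ≤ p * Nat.card Ω := by
  classical
  have := Fintype.ofFinite Ω
  have hp1 : 1 ≤ p := (Fact.out : p.Prime).one_le
  set Pg : Subgroup G := (P : Subgroup G) with hPg
  -- the points fixed by `P`
  set m := Nat.card (MulAction.fixedPoints Pg Ω) with hm
  have hfix : (2 * p - 1) * m ≤ (p - 1) * Nat.card Ω := by
    rcases isEmpty_or_nonempty (MulAction.fixedPoints Pg Ω) with h | ⟨⟨ω, hω⟩⟩
    · rw [hm, Nat.card_of_isEmpty]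
      exact Nat.zero_le _
    set H := MulAction.stabilizer G ω with hH
    have hPH : Pg ≤ H := fun g hg => hω ⟨g, hg⟩
    set L : Subgroup G := Lib.SylowRatio.cl p ⊤ with hL
    have hLn : L.Normal := ⟨fun a ha g => by
      have h : g * a * g⁻¹ ∈ Lib.SylowRatio.cj g L := ⟨a, ha, rfl⟩
      rwa [hL, ← Lib.SylowRatio.cl_cj, show Lib.SylowRatio.cj g (⊤ : Subgroup G) = ⊤ from
        Lib.SylowRatio.cj_of_mem (Subgroup.mem_top g)] at h⟩
    have hne : ¬ L ≤ H := by
      intro hle
      have hbot : ∀ x ∈ L, x = 1 := fun x hx => by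
        refine (MulAction.toPerm_injective (α := G) (β := Ω)) (Equiv.ext fun β => ?_)
        obtain ⟨g, rfl⟩ := htrans.exists_smul_eq ω β
        show x • g • ω = (1 : G) • g • ω
        rw [one_smul, ← mul_smul, show x * g = g * (g⁻¹ * x * g) by group, mul_smul,
          show (g⁻¹ * x * g) • ω = ω from hle (by simpa using hLn.conj_mem x hx g⁻¹)]
      obtain ⟨x, hx⟩ := exists_prime_orderOf_dvd_card' (G := G) p hpG
      obtain ⟨S, hS⟩ := (IsPGroup.of_card (n := 1) (by rw [Nat.card_zpowers, hx, pow_one]) :
        IsPGroup p (Subgroup.zpowers x)).exists_le_sylow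
      have h1 := hbot x (Lib.SylowRatio.le_cl p (le_top : (S : Subgroup G) ≤ ⊤) (hS (Subgroup.mem_zpowers x)))
      rw [h1, orderOf_one] at hx
      exact (Fact.out : p.Prime).ne_one hx.symm
    have hkey := Lib.SylowRatio.good (p := p) L (Lib.SylowRatio.cl_cl p _) (L ⊓ H) inf_le_left
      fun h => hne (h ▸ (Lib.SylowRatio.cl_le p _).trans inf_le_right)
    -- double counting of the pairs (point, Sylow subgroup fixing it)
    let fixed : Sylow p G → Finset Ω := fun S =>
      Finset.univ.filter fun β => (S : Subgroup G) ≤ MulAction.stabilizer G β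
    have hconst : ∀ S : Sylow p G, (fixed S).card = m := by
      have hP : (fixed P).card = m := by
        rw [hm, Nat.card_eq_fintype_card, ← Fintype.card_coe]
        exact Fintype.card_congr (Equiv.subtypeEquivRight fun β => by
          simp only [fixed, Finset.mem_filter, Finset.mem_univ, true_and, MulAction.mem_fixedPoints]
          exact ⟨fun h g => h g.2, fun h g hg => h ⟨g, hg⟩⟩)
      intro S
      obtain ⟨g, rfl⟩ := MulAction.exists_smul_eq G P S
      refine Eq.trans ?_ hP
      refine (Finset.card_bij' (fun β _ => g • β) (fun β _ => g⁻¹ • β) ?_ ?_ ?_ ?_).symm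
      · intro β hβ
        simp only [fixed, Finset.mem_filter, Finset.mem_univ, true_and] at hβ ⊢
        rintro x ⟨y, hy, rfl⟩
        show (g * y * g⁻¹) • g • β = g • β
        rw [← mul_smul, inv_mul_cancel_right, mul_smul, show y • β = β from hβ hy]
      · intro β hβ
        simp only [fixed, Finset.mem_filter, Finset.mem_univ, true_and] at hβ ⊢
        intro y hy
        show y • g⁻¹ • β = g⁻¹ • β
        have h : (g * y * g⁻¹) • β = β := hβ ⟨y, hy, rfl⟩
        rw [mul_smul, mul_smul, ← eq_inv_smul_iff] at h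
        exact h
      · exact fun β _ => inv_smul_smul g β
      · exact fun β _ => smul_inv_smul g β
    have hpt : ∀ β : Ω, Lib.SylowRatio.nu p (MulAction.stabilizer G β) = Lib.SylowRatio.nu p H := by
      intro β
      obtain ⟨g, rfl⟩ := htrans.exists_smul_eq ω β
      rw [MulAction.stabilizer_smul_eq_stabilizer_map_conj]
      exact Lib.SylowRatio.nu_cj p g H
    letI : Fintype (Sylow p G) := Fintype.ofFinite _
    have hcount : Nat.card (Sylow p G) * m = Nat.card Ω * Lib.SylowRatio.nu p H := by
      calc Nat.card (Sylow p G) * m = ∑ S : Sylow p G, (fixed S).card := by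
            rw [Finset.sum_congr rfl fun S _ => hconst S, Finset.sum_const, Finset.card_univ, smul_eq_mul,
              Nat.card_eq_fintype_card]
        _ = ∑ β : Ω, (Finset.univ.filter fun S : Sylow p G =>
              (S : Subgroup G) ≤ MulAction.stabilizer G β).card := by
            simp only [fixed, Finset.card_filter]
            exact Finset.sum_comm
        _ = ∑ β : Ω, Lib.SylowRatio.nu p H := Finset.sum_congr rfl fun β _ => by
            rw [← hpt β, Lib.SylowRatio.nu]
        _ = _ := by rw [Finset.sum_const, Finset.card_univ, smul_eq_mul, Nat.card_eq_fintype_card]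
    have h1 : Lib.SylowRatio.nu p (L ⊓ H) = Lib.SylowRatio.nu p H := by
      rw [hL, ← Lib.SylowRatio.nu_cl p (Lib.SylowRatio.cl p ⊤ ⊓ H), Lib.SylowRatio.cl_cl_inf,
        Lib.SylowRatio.nu_cl, top_inf_eq]
    rw [h1, hL, Lib.SylowRatio.nu_cl, Lib.SylowRatio.nu_top] at hkey
    have hN : 0 < Nat.card (Sylow p G) := Nat.card_pos
    zify [hp1, show 1 ≤ 2 * p by omega] at hcount ⊢
    refine le_of_mul_le_mul_left ?_ (show (0 : ℤ) < Nat.card (Sylow p G) by exact_mod_cast hN)
    calc (Nat.card (Sylow p G) : ℤ) * ((2 * (p : ℤ) - 1) * m) =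
          (Nat.card Ω : ℤ) * ((2 * (p : ℤ) - 1) * Lib.SylowRatio.nu p H) := by
          linear_combination (2 * (p : ℤ) - 1) * hcount
      _ ≤ (Nat.card Ω : ℤ) * (((p : ℤ) - 1) * Nat.card (Sylow p G)) :=
          mul_le_mul_of_nonneg_left hkey (Nat.cast_nonneg _)
      _ = _ := by ring
  -- every other orbit has at least `p` points
  have horb : p * Nat.card (MulAction.orbitRel.Quotient Pg Ω) ≤ Nat.card Ω + (p - 1) * m := by
    haveI : Fintype (MulAction.orbitRel.Quotient Pg Ω) := Fintype.ofFinite _
    let q : Ω → MulAction.orbitRel.Quotient Pg Ω := fun a => Quotient.mk'' a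
    let Fp := Finset.univ.filter fun β : Ω => β ∈ MulAction.fixedPoints Pg Ω
    have hsum : ∀ o, p ≤ (Finset.univ.filter fun a => q a = o).card + (p - 1) * (Fp.filter fun a => q a = o).card := by
      intro o
      obtain ⟨a, rfl⟩ := Quotient.mk''_surjective o
      by_cases ha : a ∈ MulAction.fixedPoints Pg Ω
      · have h1 : 0 < (Finset.univ.filter fun b => q b = Quotient.mk'' a).card :=
          Finset.card_pos.mpr ⟨a, by simp [q]⟩
        have h2 : 0 < (Fp.filter fun b => q b = Quotient.mk'' a).card :=
          Finset.card_pos.mpr ⟨a, Finset.mem_filter.mpr ⟨Finset.mem_filter.mpr ⟨Finset.mem_univ a, ha⟩, rfl⟩⟩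
        have h3 : p - 1 ≤ (p - 1) * (Fp.filter fun b => q b = Quotient.mk'' a).card := Nat.le_mul_of_pos_right _ h2
        omega
      · have hset : (Finset.univ.filter fun b => q b = Quotient.mk'' a) = (MulAction.orbit Pg a).toFinset := by
          ext b
          simp [q, Quotient.eq'', MulAction.orbitRel_apply]
        obtain ⟨k, hk⟩ := (P.isPGroup' : IsPGroup p Pg).card_orbit a
        have hk0 : k ≠ 0 := by
          rintro rfl
          refine ha fun g => ?_
          have : Subsingleton (MulAction.orbit Pg a) := (Nat.card_eq_one_iff_unique.mp (hk.trans (pow_zero p))).1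
          exact congrArg Subtype.val
            (this.elim ⟨g • a, MulAction.mem_orbit a g⟩ ⟨a, MulAction.mem_orbit_self a⟩)
        rw [hset, Set.toFinset_card, ← Nat.card_eq_fintype_card, hk]
        exact le_add_of_le_of_nonneg (Nat.le_of_dvd (pow_pos hp1 k) (dvd_pow_self p hk0)) (Nat.zero_le _)
    calc p * Nat.card (MulAction.orbitRel.Quotient Pg Ω) = ∑ o : MulAction.orbitRel.Quotient Pg Ω, p := by
          rw [Finset.sum_const, Finset.card_univ, smul_eq_mul, Nat.card_eq_fintype_card, mul_comm]
      _ ≤ ∑ o, ((Finset.univ.filter fun a => q a = o).card + (p - 1) * (Fp.filter fun a => q a = o).card) :=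
          Finset.sum_le_sum fun o _ => hsum o
      _ = _ := by
          rw [Finset.sum_add_distrib, ← Finset.mul_sum,
            ← Finset.card_eq_sum_card_fiberwise (fun a _ => Finset.mem_univ (q a)),
            ← Finset.card_eq_sum_card_fiberwise (fun a _ => Finset.mem_univ (q a)),
            Finset.card_univ, ← Nat.card_eq_fintype_card, hm, Nat.card_eq_fintype_card (α := MulAction.fixedPoints Pg Ω),
            ← Fintype.card_coe Fp]
          congr 2
          exact Fintype.card_congr (Equiv.subtypeEquivRight fun β => by simp [Fp])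
  refine Nat.le_of_mul_le_mul_left ?_ (show 0 < p by omega)
  have h2 : 1 ≤ 2 * p := by omega
  zify [hp1, h2] at hfix horb ⊢
  nlinarith [mul_le_mul_of_nonneg_left horb (show (0 : ℤ) ≤ 2 * (p : ℤ) - 1 by omega),
    mul_le_mul_of_nonneg_left hfix (show (0 : ℤ) ≤ (p : ℤ) - 1 by omega)]

end Cfsg.Agent.S3580
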