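import Cfsg.Statements.S3599
import Mathlib
import Cfsg.Agent.Lib.Recognition.FrobeniusPairs

set_option autoImplicit false
set_option linter.style.haveILetI false
open Cfsg
open Cfsg.Agent.Lib.Recognition

namespace Cfsg.Agent.S3599

/-- A finite group is critical with respect to a set Ω of natural numbers when its set of element orders is Ω while no proper section H/N (H a subgroup, N normal in H, (H, N) ≠ (whole group, 1)) has Ω as its set of element orders. Let s ≥ 1 and let p(j,0), p(j,1) (j < s) be 2s pairwise distinct primes, and let Ω be the set of all products c(0)·…·c(s−1) with each c(j) ∈ {1, p(j,0), p(j,1)}. Then there are 2^s pairwise non-isomorphic finite groups critical with respect to Ω. -/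
theorem result (s : ℕ) (hs : 1 ≤ s) (p : Fin s → Fin 2 → ℕ)
    (hp : ∀ j i, (p j i).Prime) (hinj : ∀ j i j' i', p j i = p j' i' → j = j' ∧ i = i') :
    ∃ (G : Fin (2 ^ s) → Type) (_ : ∀ a, Group (G a)) (_ : ∀ a, Fintype (G a)),
      (∀ a b, a ≠ b → ¬ Nonempty (G a ≃* G b)) ∧
      ∀ a, Set.range (orderOf : (G a) → ℕ) = {m : ℕ | ∃ c : Fin s → ℕ, (∀ j, c j = 1 ∨ c j = p j 0 ∨ c j = p j 1) ∧ m = ∏ j, c j} ∧
      ∀ (H : Subgroup (G a)) (N : Subgroup ↥H) [N.Normal], (H ≠ ⊤ ∨ N ≠ ⊥) → Set.range (orderOf : (↥H ⧸ N) → ℕ) ≠ {m : ℕ | ∃ c : Fin s → ℕ, (∀ j, c j = 1 ∨ c j = p j 0 ∨ c j = p j 1) ∧ m = ∏ j, c j} := by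
  classical
  have hne : ∀ j (i i' : Fin 2), i ≠ i' → p j i ≠ p j i' := fun j i i' h e => h (hinj j i j i' e).2
  have hflip : ∀ i : Fin 2, i ≠ i + 1 := by decide
  -- the factors
  choose K gK fK d hd hcard hmin hord hpel hqel V hVn hV using
    fun (j : Fin s) (b : Fin 2) => exists_frobenius_pair (hp j b) (hp j (b + 1)) (hne j b (b + 1) (hflip b))
  let bits : Fin (2 ^ s) ≃ (Fin s → Fin 2) := finFunctionFinEquiv.symm
  let G : Fin (2 ^ s) → Type := fun a => ∀ j, K j (bits a j)
  have hGcard : ∀ a, Nat.card (G a) = ∏ j, (p j (bits a j) ^ d j (bits a j) * p j (bits a j + 1)) := fun a => by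
    rw [Nat.card_pi]; exact Finset.prod_congr rfl fun j _ => hcard j _
  have hcop : ∀ (b : Fin s → Fin 2) (j j' : Fin s), j ≠ j' → ∀ i i' : Fin 2, Nat.Coprime (p j i) (p j' i') :=
    fun _ j j' h i i' => (Nat.coprime_primes (hp j i) (hp j' i')).2 fun e => h (hinj j i j' i' e).1
  have hcop' : ∀ a b : Fin (2 ^ s), ∀ j j' : Fin s, j ≠ j' →
      Nat.Coprime (p j (bits a j) ^ d j (bits a j) * p j (bits a j + 1)) (p j' (bits b j') ^ d j' (bits b j') * p j' (bits b j' + 1)) := by
    intro a b j j' h
    have hc := hcop (bits a) j j' h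
    refine Nat.Coprime.mul_left (Nat.Coprime.mul_right ?_ ?_) (Nat.Coprime.mul_right ?_ ?_)
    · exact (hc _ _).pow _ _
    · exact (hc _ _).pow_left _
    · exact (hc _ _).pow_right _
    · exact hc _ _
  have hcases : ∀ (j : Fin s) (b : Fin 2) (c : ℕ), (c = p j b ∨ c = p j (b + 1)) ↔ (c = p j 0 ∨ c = p j 1) := by
    intro j b c
    fin_cases b <;> simp [or_comm]
  haveI : ∀ a, Finite (G a) := fun a => inferInstance
  refine ⟨G, fun a => inferInstance, fun a => Fintype.ofFinite _, ?_, fun a => ⟨?_, ?_⟩⟩
  · -- non-isomorphic: different orders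
    intro a b hab ⟨e⟩
    have heq := Nat.card_congr e.toEquiv
    rw [hGcard, hGcard] at heq
    obtain ⟨j, hj⟩ : ∃ j, bits a j ≠ bits b j := by
      by_contra h
      push Not at h
      exact hab (bits.injective (funext h))
    have hdiv : ∀ a b : Fin (2 ^ s), ∏ j, (p j (bits a j) ^ d j (bits a j) * p j (bits a j + 1)) = ∏ j, (p j (bits b j) ^ d j (bits b j) * p j (bits b j + 1)) →
        p j (bits a j) ^ d j (bits a j) * p j (bits a j + 1) ∣ p j (bits b j) ^ d j (bits b j) * p j (bits b j + 1) := by
      intro a b heq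
      have h : p j (bits a j) ^ d j (bits a j) * p j (bits a j + 1) ∣ ∏ j, (p j (bits b j) ^ d j (bits b j) * p j (bits b j + 1)) :=
        heq ▸ Finset.dvd_prod_of_mem _ (Finset.mem_univ j)
      rw [← Finset.mul_prod_erase _ _ (Finset.mem_univ j)] at h
      exact Nat.Coprime.dvd_of_dvd_mul_right
        (Nat.Coprime.prod_right fun j' hj' => hcop' a b j j' (Finset.ne_of_mem_erase hj').symm) h
    have hfe := Nat.dvd_antisymm (hdiv a b heq) (hdiv b a heq.symm)
    have hb : bits b j = bits a j + 1 := by
      revert hj; generalize bits a j = x; generalize bits b j = y; revert x y; decide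
    rw [hb] at hfe
    set x := bits a j
    have hxx : x + 1 + 1 = x := (show ∀ y : Fin 2, y + 1 + 1 = y by decide) x
    rw [hxx] at hfe
    set P := p j x
    set Q := p j (x + 1)
    have hPp : P.Prime := hp j x
    have hQp : Q.Prime := hp j (x + 1)
    have hPQ : P ≠ Q := hne j x (x + 1) (hflip x)
    set m := d j x
    set n := d j (x + 1)
    have hm1 : m = 1 := by
      have hdv : P ^ m ∣ Q ^ n * P := ⟨Q, by rw [← hfe]⟩
      have h2 := (((Nat.coprime_primes hPp hQp).2 hPQ).pow m n).dvd_of_dvd_mul_left hdv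
      have h3 := (Nat.pow_dvd_pow_iff_le_right hPp.one_lt).1 (h2.trans (dvd_of_eq (pow_one P).symm))
      have := hd j x
      omega
    have hn1 : n = 1 := by
      have hdv : Q ^ n ∣ P ^ m * Q := ⟨P, by rw [hfe]⟩
      have h2 := (((Nat.coprime_primes hQp hPp).2 hPQ.symm).pow n m).dvd_of_dvd_mul_left hdv
      have h3 := (Nat.pow_dvd_pow_iff_le_right hQp.one_lt).1 (h2.trans (dvd_of_eq (pow_one Q).symm))
      have := hd j (x + 1)
      omega
    have key : ∀ b : Fin 2, d j b = 1 → p j b % p j (b + 1) = 1 := by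
      intro b hb1
      haveI := Fact.mk (hp j b)
      haveI := hVn j b
      have h := card_normal_pGroup_mod (hp j b) (hp j (b + 1)) (hne j b (b + 1) (hflip b)) (V j b) (IsPGroup.of_card (hV j b))
        (hcard j b ▸ dvd_mul_left _ _) (fun g hg => by
          have h1 := hp j b
          have h2 := hp j (b + 1)
          rcases hord j b g with e | e | e <;> rw [e] at hg
          · exact h1.ne_one (Nat.eq_one_of_mul_eq_one_right hg.symm)
          · exact h2.ne_one ((Nat.mul_eq_left h1.ne_zero).1 hg.symm)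
          · exact h1.ne_one ((Nat.mul_eq_right h2.ne_zero).1 hg.symm))
      rwa [hV, hb1, pow_one] at h
    have k1 : P % Q = 1 := key x hm1
    have k2 : Q % P = 1 := by
      have := key (x + 1) hn1
      rwa [hxx] at this
    rcases lt_trichotomy P Q with h | h | h
    · rw [Nat.mod_eq_of_lt h] at k1; exact hPp.ne_one k1
    · exact hPQ h
    · rw [Nat.mod_eq_of_lt h] at k2; exact hQp.ne_one k2
  · -- element orders
    have hpi : ∀ x : G a, orderOf x = ∏ j, orderOf (x j) := by
      intro x
      have hdd : ∀ j, orderOf (x j) ∣ p j (bits a j) ^ d j (bits a j) * p j (bits a j + 1) := fun j =>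
        hcard j (bits a j) ▸ orderOf_dvd_natCard (x j)
      rw [← Finset.lcm_eq_prod (f := fun j => orderOf (x j)) (fun j _ j' _ h => (hcop' a a j j' h).of_dvd (hdd j) (hdd j'))]
      apply Nat.dvd_antisymm
      · apply orderOf_dvd_of_pow_eq_one
        funext j
        exact orderOf_dvd_iff_pow_eq_one.1 (Finset.dvd_lcm (Finset.mem_univ j))
      · exact Finset.lcm_dvd fun j _ => orderOf_map_dvd (Pi.evalMonoidHom (fun j => K j (bits a j)) j) x
    ext m
    constructor
    · rintro ⟨x, rfl⟩
      refine ⟨fun j => orderOf (x j), fun j => ?_, hpi x⟩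
      rcases hord j (bits a j) (x j) with h | h | h
      · exact Or.inl h
      · exact Or.inr ((hcases j (bits a j) _).1 (Or.inl h))
      · exact Or.inr ((hcases j (bits a j) _).1 (Or.inr h))
    · rintro ⟨c, hc, rfl⟩
      have hx : ∀ j, ∃ g : K j (bits a j), orderOf g = c j := by
        intro j
        rcases hc j with h | h
        · exact ⟨1, by rw [h, orderOf_one]⟩
        rcases (hcases j (bits a j) _).2 h with h' | h'
        · exact h' ▸ hpel j (bits a j)
        · exact h' ▸ hqel j (bits a j)
      choose x hx using hx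
      exact ⟨x, by rw [hpi]; exact Finset.prod_congr rfl fun j _ => hx j⟩
  · -- critical
    intro H N hN hne' hR
    haveI := hN
    have hmem : ∀ c : Fin s → ℕ, (∀ j, c j = 1 ∨ c j = p j 0 ∨ c j = p j 1) → ∃ z : ↥H ⧸ N, orderOf z = ∏ j, c j :=
      fun c hc => by
        have h : (∏ j, c j) ∈ Set.range (orderOf : (↥H ⧸ N) → ℕ) := by rw [hR]; exact ⟨c, hc, rfl⟩
        exact h
    have hdiv : ∀ j, p j (bits a j) ^ d j (bits a j) * p j (bits a j + 1) ∣ Nat.card (↥H ⧸ N) := by
      intro j
      set b := bits a j with hb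
      have hel : ∀ i : Fin 2, ∃ z : ↥H ⧸ N, orderOf z = p j i := fun i => by
        obtain ⟨z, hz⟩ := hmem (Function.update (fun _ => 1) j (p j i)) (fun j' => by
          by_cases h : j' = j
          · subst h; right; rw [Function.update_self]; fin_cases i <;> simp
          · left; rw [Function.update_of_ne h])
        refine ⟨z, hz.trans ?_⟩
        rw [Finset.prod_update_of_mem (Finset.mem_univ j)]
        simp
      have hdvd : ∀ i, p j i ∣ Nat.card (↥H ⧸ N) := fun i => by
        obtain ⟨z, hz⟩ := hel i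
        exact hz ▸ orderOf_dvd_natCard z
      haveI := Fact.mk (hp j b)
      -- the normal subgroup at the coordinate j
      let W : Subgroup (G a) := (V j (bits a j)).map (MonoidHom.mulSingle (fun j => K j (bits a j)) j)
      haveI hWn : W.Normal := ⟨by
        rintro _ ⟨v, hv, rfl⟩ g
        refine ⟨g j * v * (g j)⁻¹, (hVn j (bits a j)).conj_mem v hv _, ?_⟩
        funext k
        show Pi.mulSingle (M := fun j => K j (bits a j)) j (g j * v * (g j)⁻¹) k =
          g k * Pi.mulSingle (M := fun j => K j (bits a j)) j v k * (g k)⁻¹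
        by_cases hk : k = j
        · subst hk; simp
        · simp [Pi.mulSingle_eq_of_ne hk]⟩
      have hWc : Nat.card W = p j b ^ d j b := by
        rw [Subgroup.card_map_of_injective (f := MonoidHom.mulSingle (fun j => K j (bits a j)) j) (Pi.mulSingle_injective (M := fun j => K j (bits a j)) j)]
        exact hV j (bits a j)
      have hWidx : ¬ p j b ∣ W.index := by
        intro hdi
        have h := W.card_mul_index
        rw [hWc, hGcard, ← Finset.mul_prod_erase _ _ (Finset.mem_univ j), ← hb, mul_assoc] at h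
        have h' := Nat.eq_of_mul_eq_mul_left (pow_pos (hp j b).pos _) h
        rw [h'] at hdi
        rcases (hp j b).dvd_mul.1 hdi with h1 | h1
        · exact hne j b (b + 1) (hflip b) ((Nat.prime_dvd_prime_iff_eq (hp j b) (hp j _)).1 h1)
        · obtain ⟨j', hj', h2⟩ := ((hp j b).prime.dvd_finset_prod_iff _).1 h1
          have hc := hcop' a a j j' (Finset.ne_of_mem_erase hj').symm
          exact Nat.not_coprime_of_dvd_of_dvd (hp j b).one_lt ((dvd_pow_self _ (hd j b).ne').mul_right _) h2 hc
      let P : Subgroup (↥H ⧸ N) := (W.subgroupOf H).map (QuotientGroup.mk' N)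
      haveI hPn : P.Normal := Subgroup.Normal.map inferInstance _ (QuotientGroup.mk'_surjective N)
      have hP : IsPGroup (p j b) P := ((IsPGroup.of_card hWc).comap_subtype (H := W) (K := H)).map _
      have hPidx : ¬ p j b ∣ P.index := fun h => hWidx (h.trans
        ((Subgroup.index_map_dvd _ (QuotientGroup.mk'_surjective N)).trans (Subgroup.relIndex_dvd_index_of_normal W H)))
      have hmod := card_normal_pGroup_mod (hp j b) (hp j (b + 1)) (hne j b (b + 1) (hflip b)) P hP (hdvd _) (fun z hz => by
        have h : p j b * p j (b + 1) ∈ Set.range (orderOf : (↥H ⧸ N) → ℕ) := ⟨z, hz⟩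
        rw [hR] at h
        obtain ⟨c, hc, he⟩ := h
        have hone : ∀ i : Fin 2, p j i ∣ ∏ k, c k → c j = p j i := by
          intro i hi
          obtain ⟨k, -, hk⟩ := ((hp j i).prime.dvd_finset_prod_iff _).1 hi
          rcases hc k with h | h | h <;> rw [h] at hk
          · exact absurd (Nat.dvd_one.1 hk) (hp j i).ne_one
          · obtain ⟨e1, e2⟩ := hinj j i k 0 ((Nat.prime_dvd_prime_iff_eq (hp j i) (hp k 0)).1 hk)
            subst e1 e2; exact h
          · obtain ⟨e1, e2⟩ := hinj j i k 1 ((Nat.prime_dvd_prime_iff_eq (hp j i) (hp k 1)).1 hk)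
            subst e1 e2; exact h
        exact hne j b (b + 1) (hflip b) ((hone b (he ▸ dvd_mul_right _ _)).symm.trans (hone (b + 1) (he ▸ dvd_mul_left _ _))))
      obtain ⟨i, hi⟩ := hP.exists_card_eq
      have hi0 : i ≠ 0 := by
        rintro rfl
        apply hPidx
        have := P.card_mul_index
        rw [hi, pow_zero, one_mul] at this
        exact this ▸ hdvd b
      rw [hi] at hmod
      have hdi : d j b ≤ i := Nat.le_of_dvd (Nat.pos_of_ne_zero hi0) (hmin j b i hmod)
      refine Nat.Coprime.mul_dvd_of_dvd_of_dvd (((Nat.coprime_primes (hp j b) (hp j (b + 1))).2 (hne j b (b + 1) (hflip b))).pow_left _)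
        ((pow_dvd_pow _ hdi).trans (hi ▸ Subgroup.card_subgroup_dvd_card P)) (hdvd _)
    have hall : Nat.card (G a) ∣ Nat.card (↥H ⧸ N) := by
      rw [hGcard, ← Finset.lcm_eq_prod (fun j _ j' _ h => hcop' a a j j' h)]
      exact Finset.lcm_dvd fun j _ => hdiv j
    have h1 := N.card_mul_index
    have h2 := H.card_mul_index
    rw [Subgroup.index_eq_card] at h1
    have hle := Nat.le_of_dvd Nat.card_pos hall
    have hNpos : 0 < Nat.card N := Nat.card_pos
    have hQpos : 0 < Nat.card (↥H ⧸ N) := Nat.card_pos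
    have hIpos : 0 < H.index := Nat.pos_of_ne_zero Subgroup.index_ne_zero_of_finite
    have hN1 : Nat.card N = 1 := by nlinarith
    have hH1 : H.index = 1 := by nlinarith
    rcases hne' with h | h
    · exact h (Subgroup.index_eq_one.1 hH1)
    · exact h (Subgroup.eq_bot_of_card_eq N hN1)


end Cfsg.Agent.S3599
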