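import Cfsg.Statements.S3600
import Cfsg.Agent.Lib.InvChar.OrdersFive.Critical

set_option autoImplicit false
open Cfsg Cfsg.Agent.Lib.InvChar.OrdersFive

namespace Cfsg.Agent.S3600

theorem range_equiv {A B : Type*} [Group A] [Group B] (e : A ≃* B) :
    Set.range (orderOf : A → ℕ) = Set.range (orderOf : B → ℕ) := by
  rw [show (orderOf : A → ℕ) = (orderOf : B → ℕ) ∘ e from funext fun a => (MulEquiv.orderOf_eq e a).symm,
    Set.range_comp, e.surjective.range_eq, Set.image_univ]

/-- A finite group is critical with respect to a set Ω of natural numbers when its set of element orders is Ω while no proper section has Ω as its set of element orders. A finite group critical with respect to {1, 2, 3, 4, 5} (the set of element orders of the alternating group of degree 6) is isomorphic either to the alternating group of degree 6 or to the affine group F² ⋊ SL(2,F) over the field F with four elements (realised as the matrices of SL(3,F) with last row (0, 0, 1)). -/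
theorem result {G : Type*} [Group G] [Finite G]
    (hcrit : Set.range (orderOf : G → ℕ) = ({1, 2, 3, 4, 5} : Set ℕ) ∧
      ∀ (H : Subgroup G) (N : Subgroup ↥H) [N.Normal], (H ≠ ⊤ ∨ N ≠ ⊥) → Set.range (orderOf : (↥H ⧸ N) → ℕ) ≠ ({1, 2, 3, 4, 5} : Set ℕ)) :
    Nonempty (G ≃* alternatingGroup (Fin 6)) ∨
      ∃ (F : Type) (_ : Field F) (_ : Fintype F), Fintype.card F = 4 ∧
        Nonempty (G ≃* ↥(Subgroup.closure {M : Matrix.SpecialLinearGroup (Fin 3) F |
          (M : Matrix (Fin 3) (Fin 3) F) 2 0 = 0 ∧ (M : Matrix (Fin 3) (Fin 3) F) 2 1 = 0 ∧ (M : Matrix (Fin 3) (Fin 3) F) 2 2 = 1})) := by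
  obtain ⟨hrange, hmin⟩ := hcrit
  have h : Full G := Full.of_range_eq hrange
  have hsub : ∀ H : Subgroup G, H ≠ ⊤ → ¬ Full ↥H := fun H hH hF => by
    refine hmin H ⊥ (Or.inl hH) ?_
    rw [range_equiv (QuotientGroup.quotientBot (G := ↥H))]
    exact hF.range_eq
  rcases classify_of h hsub with hT | hA
  · right
    obtain ⟨e⟩ := affine_of_hasType h hT fun L _ hL hF => by
      refine hmin ⊤ (L.subgroupOf ⊤) (Or.inr fun e => hL ?_) ?_
      · rw [Subgroup.subgroupOf_eq_bot, disjoint_top] at e
        exact e
      · rw [range_equiv (QuotientGroup.congr (L.subgroupOf ⊤) L Subgroup.topEquiv ?_)]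
        · exact hF.range_eq
        · ext g
          simp [Subgroup.mem_subgroupOf, Subgroup.topEquiv, Subgroup.mem_map, Submonoid.topEquiv]
    exact ⟨F4, inferInstance, inferInstance, card_F4, ⟨e.trans (MulEquiv.subgroupCongr closure_affineSet.symm)⟩⟩
  · exact Or.inl hA

end Cfsg.Agent.S3600
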