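import Cfsg.Statements.S3612
import Cfsg.Agent.Lib.Perm.PrimeHalf.Primitive

set_option autoImplicit false
open Cfsg

namespace Cfsg.Agent.S3612

open scoped Pointwise

/-- Let G be an insoluble group acting faithfully and transitively on a finite set of prime size p, and suppose the normalizer of a Sylow p-subgroup of G has order p(p-1)/2. If p > 7, then the stabilizer of a point acts primitively on the remaining p - 1 points. -/
theorem result {G Ω : Type*} [Group G] [Finite G] [MulAction G Ω] [FaithfulSMul G Ω] [Finite Ω]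
    (p : ℕ) (hp : p.Prime) (hΩ : Nat.card Ω = p) (htrans : MulAction.IsPretransitive G Ω)
    (hins : ¬ Group.IsSolvable G) (P : Sylow p G)
    (hN : 2 * Nat.card ↥(Subgroup.normalizer ((P : Subgroup G) : Set G)) = p * (p - 1))
    (hp7 : 7 < p) (α : Ω) :
    MulAction.IsPreprimitive ↥(MulAction.stabilizer G α) ↥(SubMulAction.ofStabilizer G α) := by
  haveI : Fact p.Prime := ⟨hp⟩
  haveI := htrans
  haveI := Fintype.ofFinite Ω
  have hΩ' : Fintype.card Ω = p := by rw [← Nat.card_eq_fintype_card, hΩ]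
  have key3 : MulAction.IsMultiplyPretransitive G Ω 3 →
      MulAction.IsPreprimitive ↥(MulAction.stabilizer G α) ↥(SubMulAction.ofStabilizer G α) :=
    fun h => MulAction.isPreprimitive_of_is_two_pretransitive
      (SubMulAction.ofStabilizer.isMultiplyPretransitive.mp h)
  by_cases hp4 : p % 4 = 3
  swap
  · apply key3
    classical
    set φ := MulAction.toPermHom G Ω with hφ
    have hinj : Function.Injective φ := MulAction.toPerm_injective
    haveI : MulAction.IsPretransitive φ.range Ω := ⟨fun x y => by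
      obtain ⟨g, hg⟩ := MulAction.exists_smul_eq G x y
      exact ⟨⟨φ g, g, rfl⟩, hg⟩⟩
    let e : G ≃* φ.range := MonoidHom.ofInjective hinj
    have hins' : ¬ Group.IsSolvable φ.range := fun h => by
      haveI := h
      exact hins (Group.isSolvable_of_isSolvable_injective (f := e.toMonoidHom) e.injective)
    let P' : Sylow p φ.range := P.mapSurjective (f := e.toMonoidHom) e.surjective
    have hP' : Subgroup.normalizer ((P' : Subgroup φ.range) : Set φ.range) =
        (Subgroup.normalizer ((P : Subgroup G) : Set G)).map e.toMonoidHom :=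
      (Subgroup.map_equiv_normalizer_eq (P : Subgroup G) e).symm
    have hc : Nat.card ↥(Subgroup.normalizer ((P' : Subgroup φ.range) : Set φ.range)) =
        Nat.card ↥(Subgroup.normalizer ((P : Subgroup G) : Set G)) := by
      rw [hP']
      exact Subgroup.card_map_of_injective e.injective
    have heven : Even (Nat.card ↥(Subgroup.normalizer ((P' : Subgroup φ.range) : Set φ.range))) := by
      rw [hc, even_iff_two_dvd]
      have h4 : 4 ∣ p * (p - 1) := by
        obtain ⟨k, hk⟩ := hp.odd_of_ne_two (by omega)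
        have : 4 ∣ p - 1 := by omega
        exact this.mul_left p
      omega
    have h3 := Lib.Perm.three_transitive_of_even_normalizer hΩ' φ.range hins' P' heven
    refine ⟨fun x y => ?_⟩
    obtain ⟨⟨_, g, rfl⟩, hg⟩ := h3.exists_smul_eq x y
    exact ⟨g, hg⟩
  obtain ⟨C⟩ := Lib.Perm.PrimeHalf.exists_coords hΩ' P hN
  rcases Lib.Perm.PrimeHalf.three_transitive_or hΩ' hins (by omega) C with h3 | h4
  · exact key3 h3
  haveI : MulAction.IsPretransitive ↥(MulAction.stabilizer G α) ↥(SubMulAction.ofStabilizer G α) :=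
    ⟨fun ⟨x, hx⟩ ⟨y, hy⟩ => by
      obtain ⟨g, g1, g2⟩ := Lib.Perm.PrimeHalf.exists_pair hΩ' hins
        (Ne.symm (show x ≠ α from hx)) (Ne.symm (show y ≠ α from hy))
      exact ⟨⟨g, g1⟩, Subtype.ext g2⟩⟩
  refine MulAction.IsPreprimitive.mk fun {B} hB => ?_
  by_contra hnt
  rw [MulAction.IsTrivialBlock] at hnt
  push Not at hnt
  obtain ⟨hnt, huniv⟩ := hnt
  obtain ⟨β, hβ, β', hβ', hne⟩ := Set.not_subsingleton_iff.mp (by simpa using hnt)
  obtain ⟨γ, hγ⟩ := (Set.ne_univ_iff_exists_notMem _).mp huniv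
  refine Lib.Perm.PrimeHalf.block_trivial hΩ' hins C hp7 hp4 h4 (α := α) (β := β.val) (β' := β'.val)
    (γ := γ.val) (Subtype.val '' B) ?_ ⟨β, hβ, rfl⟩ ⟨β', hβ', rfl⟩ ?_ ?_ ?_ ?_
  · rintro ⟨⟨z, hz⟩, -, e⟩
    exact hz e
  · exact fun h => hne (Subtype.ext h.symm)
  · exact γ.2
  · rintro ⟨z, hz, e⟩
    exact hγ (Subtype.ext e ▸ hz)
  · rintro g hg _ ⟨u, hu, rfl⟩ ⟨w, hw, ew⟩ _ ⟨v, hv, rfl⟩
    let g' : ↥(MulAction.stabilizer G α) := ⟨g, hg⟩
    have h1 : g' • u = w := Subtype.ext ew.symm
    have h2 : g' • B = B :=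
      (MulAction.isBlock_iff_smul_eq_of_nonempty.mp hB) ⟨w, ⟨u, hu, h1⟩, hw⟩
    exact ⟨g' • v, h2 ▸ Set.smul_mem_smul_set hv, rfl⟩

end Cfsg.Agent.S3612
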