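import Cfsg.Statements.S3614
import Cfsg.Agent.Lib.Perm.PrimeHalf.Alt

set_option autoImplicit false
open Cfsg

namespace Cfsg.Agent.S3614

/-- Let G be an insoluble group acting faithfully and transitively on a finite set of prime size p, and suppose the normalizer of a Sylow p-subgroup of G has order p(p-1)/2. If p = q + 2 = 2r + 3 > 9 or p = q + 2 = 3r + 4 > 13 with q and r prime, then G is isomorphic to the alternating group of degree p. -/
theorem result {G Ω : Type*} [Group G] [Finite G] [MulAction G Ω] [FaithfulSMul G Ω] [Finite Ω]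
    (p : ℕ) (hp : p.Prime) (hΩ : Nat.card Ω = p) (htrans : MulAction.IsPretransitive G Ω)
    (hins : ¬ Group.IsSolvable G) (P : Sylow p G)
    (hN : 2 * Nat.card ↥(Subgroup.normalizer ((P : Subgroup G) : Set G)) = p * (p - 1))
    (q r : ℕ) (hq : q.Prime) (hr : r.Prime)
    (hcases : (p = q + 2 ∧ p = 2 * r + 3 ∧ 9 < p) ∨ (p = q + 2 ∧ p = 3 * r + 4 ∧ 13 < p)) :
    Nonempty (G ≃* alternatingGroup (Fin p)) := by
  classical
  haveI : Fact p.Prime := ⟨hp⟩
  haveI : Fact q.Prime := ⟨hq⟩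
  haveI : Fact r.Prime := ⟨hr⟩
  haveI := htrans
  haveI := Fintype.ofFinite Ω
  have hΩ' : Fintype.card Ω = p := by rw [← Nat.card_eq_fintype_card, hΩ]
  have hr4 : r ≠ 4 := fun h => absurd hr (h ▸ by decide)
  obtain ⟨hpq, hq5, hr5, hc⟩ : p = q + 2 ∧ 5 < q ∧ 5 ≤ r ∧ (p = 2 * r + 3 ∨ p = 3 * r + 4) := by
    rcases hcases with ⟨a, b, c⟩ | ⟨a, b, c⟩
    · exact ⟨a, by omega, by omega, Or.inl b⟩
    · exact ⟨a, by omega, by omega, Or.inr b⟩
  have h5 := Lib.Perm.PrimeHalf.five_transitive_twin hΩ' hins P hN hq5 hpq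
  refine Lib.Perm.PrimeHalf.iso_alternating hΩ' (by omega) P hN (fun {_} => ?_)
  exact Lib.Perm.PrimeHalf.alternating_le h5 hΩ' hr5 hc

end Cfsg.Agent.S3614
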