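import Cfsg.Statements.S3619
import Mathlib

set_option autoImplicit false
set_option linter.style.haveILetI false
open Cfsg
open MulAction
open scoped Pointwise

namespace Cfsg.Agent.S3619

/-- Let G act faithfully on a finite set in such a way that every non-trivial normal subgroup of G is transitive (G is quasiprimitive). Let Γ be a subset with more than one point and not the whole set, such that the pointwise stabilizer of the complement of Γ acts transitively on Γ (a Jordan set). If that pointwise stabilizer acts primitively on Γ, then G is k-fold transitive where k is one more than the number of points outside Γ (the Jordan set is a trivial one). -/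
theorem result {G Ω : Type*} [Group G] [Finite G] [MulAction G Ω] [FaithfulSMul G Ω] [Finite Ω]
    (hqp : ∀ N : Subgroup G, N.Normal → N ≠ ⊥ → MulAction.IsPretransitive ↥N Ω)
    (Γ : Set Ω) (hΓ1 : 1 < Γ.ncard) (hΓ2 : Γ.ncard < Nat.card Ω)
    (hJ : MulAction.IsPretransitive ↥(fixingSubgroup G Γᶜ) ↥(SubMulAction.ofFixingSubgroup G Γᶜ))
    (hJp : MulAction.IsPreprimitive ↥(fixingSubgroup G Γᶜ) ↥(SubMulAction.ofFixingSubgroup G Γᶜ)) :
    MulAction.IsMultiplyPretransitive G Ω (Nat.card Ω - Γ.ncard + 1) := by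
  classical
  haveI := Fintype.ofFinite Ω
  set K := fixingSubgroup G Γᶜ
  obtain ⟨a, ha, b, hb, hab⟩ := (Set.one_lt_ncard (Set.toFinite Γ)).1 hΓ1
  have hfixK : ∀ k ∈ K, ∀ y, y ∉ Γ → k • y = y := fun k hk y hy => (mem_fixingSubgroup_iff G).1 hk y hy
  obtain ⟨k₀, hk₀, hk₀ab⟩ : ∃ k ∈ K, k • a = b := by
    haveI := hJ
    obtain ⟨k, hk⟩ := exists_smul_eq K (⟨a, fun h => h ha⟩ : SubMulAction.ofFixingSubgroup G Γᶜ) ⟨b, fun h => h hb⟩
    exact ⟨k, k.2, congrArg Subtype.val hk⟩
  have hG1 : (⊤ : Subgroup G) ≠ ⊥ := fun h => hab (by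
    have hk1 : k₀ = 1 := (Subgroup.mem_bot).1 (h ▸ Subgroup.mem_top k₀)
    rw [← hk₀ab, hk1, one_smul])
  haveI hGtr : IsPretransitive G Ω := by
    haveI := hqp ⊤ inferInstance hG1
    exact ⟨fun x y => by
      obtain ⟨g, hg⟩ := exists_smul_eq (⊤ : Subgroup G) x y
      exact ⟨(g : G), hg⟩⟩
  have hprim : IsPreprimitive G Ω := by
    refine ⟨fun {B} hB => ?_⟩
    by_cases hsub : B.Subsingleton
    · exact Or.inl hsub
    right
    obtain ⟨x₀, hx₀, y₀, hy₀, hxy₀⟩ : ∃ x ∈ B, ∃ y ∈ B, x ≠ y := by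
      simp only [Set.Subsingleton, not_forall] at hsub
      obtain ⟨x, hx, y, hy, hxy⟩ := hsub
      exact ⟨x, hx, y, hy, hxy⟩
    have hBne : ∀ g : G, ∀ x ∈ g • B, ∃ y ∈ g • B, y ≠ x := by
      intro g x hx
      by_cases h : g • x₀ = x
      · exact ⟨g • y₀, Set.smul_mem_smul_set hy₀, fun e => hxy₀ (MulAction.injective g (h.trans e.symm))⟩
      · exact ⟨g • x₀, Set.smul_mem_smul_set hx₀, h⟩
    obtain ⟨g₀, hg₀⟩ := exists_smul_eq G x₀ a
    set C := g₀ • B with hC
    have hCB : IsBlock G C := hB.translate g₀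
    have haC : a ∈ C := hg₀ ▸ Set.smul_mem_smul_set hx₀
    have hΓblock : IsBlock K ((Subtype.val) ⁻¹' C : Set (SubMulAction.ofFixingSubgroup G Γᶜ)) :=
      IsBlock.preimage (φ := fun k : K => (k : G))
        ({ toFun := Subtype.val, map_smul' := fun k x => rfl } : MulActionHom (fun k : K => (k : G)) (SubMulAction.ofFixingSubgroup G Γᶜ) Ω) hCB
    rcases hJp.isTrivialBlock_of_isBlock hΓblock with h | h
    · -- one point of Γ in each block
      exfalso
      obtain ⟨y, hyC, hya⟩ := hBne g₀ a haC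
      have hyΓ : y ∉ Γ := fun hy => hya (congrArg Subtype.val
        (h (show (⟨y, fun h => h hy⟩ : SubMulAction.ofFixingSubgroup G Γᶜ) ∈ _ from hyC)
          (show (⟨a, fun h => h ha⟩ : SubMulAction.ofFixingSubgroup G Γᶜ) ∈ _ from haC)))
      have h1 : k₀ • C = C := hCB.smul_eq_of_mem hyC (by rw [hfixK k₀ hk₀ y hyΓ]; exact hyC)
      have hbC : b ∈ C := h1 ▸ hk₀ab ▸ Set.smul_mem_smul_set haC
      exact hab (congrArg Subtype.val
        (h (show (⟨a, fun h => h ha⟩ : SubMulAction.ofFixingSubgroup G Γᶜ) ∈ _ from haC)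
          (show (⟨b, fun h => h hb⟩ : SubMulAction.ofFixingSubgroup G Γᶜ) ∈ _ from hbC)))
    · -- Γ inside one block
      have hΓC : Γ ⊆ C := fun z hz => by
        have : (⟨z, fun h => h hz⟩ : SubMulAction.ofFixingSubgroup G Γᶜ) ∈ (Subtype.val ⁻¹' C : Set (SubMulAction.ofFixingSubgroup G Γᶜ)) := by
          rw [h]; trivial
        exact this
      let N : Subgroup G := ⨅ g : G, stabilizer G (g • B)
      have hmemN : ∀ x, x ∈ N ↔ ∀ g : G, x • g • B = g • B := fun x => by
        simp only [N, Subgroup.mem_iInf, mem_stabilizer_iff]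
      have hNn : N.Normal := ⟨fun x hx c => (hmemN _).2 fun g => by
        have h1 := (hmemN x).1 hx (c⁻¹ * g)
        rw [mul_smul] at h1
        rw [mul_smul, mul_smul, h1, smul_inv_smul]⟩
      have hKN : k₀ ∈ N := (hmemN k₀).2 fun g => by
        obtain ⟨y, hy⟩ : (g • B).Nonempty := ⟨g • x₀, Set.smul_mem_smul_set hx₀⟩
        by_cases hyC : y ∈ C
        · have e : g • B = C := by
            rcases hB.smul_eq_smul_or_disjoint (g₁ := g) (g₂ := g₀) with h1 | h1
            · exact h1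
            · exact absurd hyC (Set.disjoint_left.1 h1 hy)
          rw [e]
          refine hCB.smul_eq_of_mem haC ?_
          rw [hk₀ab]
          exact hΓC hb
        · exact (hB.translate g).smul_eq_of_mem hy (by rw [hfixK k₀ hk₀ y fun h => hyC (hΓC h)]; exact hy)
      have hN1 : N ≠ ⊥ := fun h1 => hab (by
        rw [h1, Subgroup.mem_bot] at hKN
        rw [← hk₀ab, hKN, one_smul])
      haveI := hqp N hNn hN1
      refine Set.eq_univ_of_forall fun z => ?_
      obtain ⟨⟨x, hx⟩, hxz⟩ := exists_smul_eq N x₀ z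
      have h2 := (hmemN x).1 hx 1
      rw [one_smul] at h2
      rw [← h2, ← hxz]
      exact Set.smul_mem_smul_set hx₀
  have hsum : Γ.ncard + Γᶜ.ncard = Nat.card Ω := Set.ncard_add_ncard_compl Γ
  obtain ⟨n', hn'⟩ : ∃ n', Γᶜ.ncard = n' + 1 := ⟨Γᶜ.ncard - 1, by omega⟩
  haveI := hprim.isMultiplyPreprimitive hn' (by omega) hJp
  rw [show Nat.card Ω - Γ.ncard + 1 = n' + 2 by omega]
  infer_instance


end Cfsg.Agent.S3619
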