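import Cfsg.Statements.S3626
import Cfsg.Agent.S2514
import Cfsg.Agent.S2515
import Cfsg.Agent.Lib.RankOne.ReeOrders
import Cfsg.Agent.Lib.SpecPGL.Fibre
-- import your own Cfsg.Agent.* helpers here

set_option autoImplicit false
open Cfsg

namespace Cfsg.Agent.S3626

/-- Let R be the small Ree group over the field with q = 3^(2m+1) ≥ 27 elements. Then there are finite groups of arbitrarily large order with exactly the same set of element orders as R × R × R. -/
theorem result {K : Type*} [Field K] [Fintype K] {m : ℕ} (hm : 1 ≤ m) (hK : Fintype.card K = 3 ^ (2 * m + 1)) (N : ℕ) :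
    ∃ (H : Type) (_ : Group H) (_ : Fintype H), N < Fintype.card H ∧
      Set.range (orderOf : H → ℕ) = Set.range (orderOf : ↥(Cfsg.Lie.twistedG2 K (3 ^ m)) × ↥(Cfsg.Lie.twistedG2 K (3 ^ m)) × ↥(Cfsg.Lie.twistedG2 K (3 ^ m)) → ℕ) := by
  classical
  obtain ⟨A⟩ := Lib.Chev.Tw.G2.exists_par (K := K) hK
  have hspec : ∀ d, (∃ g : ↥(Cfsg.Lie.twistedG2 K (3 ^ m)), orderOf g = d) ↔
      (d ∣ 6 ∨ d ∣ 9 ∨ d ∣ 3 ^ (2 * m + 1) - 1 ∨ d ∣ (3 ^ (2 * m + 1) + 1) / 2 ∨
        d ∣ 3 ^ (2 * m + 1) - 3 ^ (m + 1) + 1 ∨ d ∣ 3 ^ (2 * m + 1) + 3 ^ (m + 1) + 1) :=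
    fun d => Lib.RankOne.Ree.element_orders A hm d
  set G := ↥(Cfsg.Lie.twistedG2 K (3 ^ m))
  set q := 3 ^ (2 * m + 1) with hqdef
  set r := 3 ^ (m + 1) with hrdef
  obtain ⟨H, _, _, ⟨P, hPn, hP1, hP3⟩, hμ⟩ := S2515.result (2 * m + 1) (by omega) ⟨m, by omega⟩
  obtain ⟨hq, hq8, hq3⟩ := Lib.RankOne.Ree.q_facts hm
  rw [← hqdef] at hq hq8 hq3 hμ
  have hr : r ≤ q := Nat.pow_le_pow_right (by norm_num) (by omega)
  have hr2 : r % 2 = 1 := by rw [hrdef, Nat.pow_mod]; norm_num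
  have hr3 : r % 3 = 0 := by rw [hrdef, pow_succ]; omega
  -- the four shared maximal orders
  have hodd : ∀ c, (2 ∣ c ∨ 3 ∣ c) → ¬ c ∣ q - r + 1 ∧ ¬ c ∣ q + r + 1 := by
    rintro c (hc | hc) <;> constructor <;> intro h <;>
      · have := hc.trans h
        omega
  have hinc : ∀ c, (c = 6 ∨ c = 9 ∨ c = q - 1 ∨ c = (q + 1) / 2) →
      (∃ g : G, orderOf g = c) ∧ ∀ d ∈ Set.range (orderOf : G → ℕ), c ∣ d → d = c := by
    intro c hc
    refine ⟨(hspec c).mpr (by rcases hc with rfl | rfl | rfl | rfl <;> simp), ?_⟩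
    rintro _ ⟨g, rfl⟩ hcd
    have hg := (hspec (orderOf g)).mp ⟨g, rfl⟩
    have hc23 : 2 ∣ c ∨ 3 ∣ c := by rcases hc with rfl | rfl | rfl | rfl <;> omega
    have hcmem : c ∈ Set.range (orderOf : H → ℕ) ∧
        ∀ n ∈ Set.range (orderOf : H → ℕ), c ∣ n → n = c := by
      have : c ∈ ({6, 9, q - 1, (q + 1) / 2} : Set ℕ) := by simpa using hc
      rw [← hμ] at this
      exact this
    have hH : ∀ e, (e = 6 ∨ e = 9 ∨ e = q - 1 ∨ e = (q + 1) / 2) →
        e ∈ Set.range (orderOf : H → ℕ) := by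
      intro e he
      have : e ∈ ({6, 9, q - 1, (q + 1) / 2} : Set ℕ) := by simpa using he
      rw [← hμ] at this
      exact this.1
    have key : ∀ e, (e = 6 ∨ e = 9 ∨ e = q - 1 ∨ e = (q + 1) / 2) → orderOf g ∣ e → orderOf g = c := by
      intro e he hge
      have hec := hcmem.2 e (hH e he) (hcd.trans hge)
      exact Nat.dvd_antisymm (hec ▸ hge) hcd
    rcases hg with h | h | h | h | h | h
    · exact key 6 (by omega) h
    · exact key 9 (by omega) h
    · exact key _ (by omega) h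
    · exact key _ (by omega) h
    · exact absurd (hcd.trans h) (hodd c hc23).1
    · exact absurd (hcd.trans h) (hodd c hc23).2
  have hfinG : Finite G := inferInstance
  let G0 : Type := {_i : Fin (Nat.card G) // True}
  let e0 : G0 ≃ G := (Equiv.subtypeUnivEquiv fun _ => trivial).trans (Finite.equivFin G).symm
  letI : Group G0 := e0.group
  let e : G0 ≃* G := e0.mulEquiv
  have hR := Lib.SpecPGL.range_congr_mulEquiv e
  have hsub : {n : ℕ | n ∈ Set.range (orderOf : H → ℕ) ∧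
      ∀ d ∈ Set.range (orderOf : H → ℕ), n ∣ d → d = n} ⊆
      {n : ℕ | n ∈ Set.range (orderOf : G0 → ℕ) ∧ ∀ d ∈ Set.range (orderOf : G0 → ℕ), n ∣ d → d = n} := by
    rw [hμ]
    intro n hn
    simp only [Set.mem_insert_iff, Set.mem_singleton_iff] at hn
    rw [hR]
    exact hinc n hn
  have hfew : ({n : ℕ | n ∈ Set.range (orderOf : G0 → ℕ) ∧
      ∀ d ∈ Set.range (orderOf : G0 → ℕ), n ∣ d → d = n} \ {n : ℕ | n ∈ Set.range (orderOf : H → ℕ) ∧
      ∀ d ∈ Set.range (orderOf : H → ℕ), n ∣ d → d = n}).ncard < 3 := by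
    refine lt_of_le_of_lt (Set.ncard_le_ncard (t := {q - r + 1, q + r + 1}) ?_ (Set.toFinite _)) ?_
    · rintro n ⟨⟨hn, hmax⟩, hnot⟩
      rw [hR] at hn hmax
      obtain ⟨g, rfl⟩ := hn
      have hmem : ∀ d, (d ∣ 6 ∨ d ∣ 9 ∨ d ∣ q - 1 ∨ d ∣ (q + 1) / 2 ∨ d ∣ q - r + 1 ∨ d ∣ q + r + 1) →
          d ∈ Set.range (orderOf : G → ℕ) := fun d hd => (hspec d).mpr hd
      rw [hμ] at hnot
      simp only [Set.mem_insert_iff, Set.mem_singleton_iff] at hnot ⊢
      rcases (hspec _).mp ⟨g, rfl⟩ with h | h | h | h | h | h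
      · exact absurd (Or.inl (hmax _ (hmem 6 (by simp)) h).symm) hnot
      · exact absurd (Or.inr (Or.inl (hmax _ (hmem 9 (by simp)) h).symm)) hnot
      · exact absurd (Or.inr (Or.inr (Or.inl (hmax _ (hmem (q - 1) (by simp)) h).symm))) hnot
      · exact absurd (Or.inr (Or.inr (Or.inr (hmax _ (hmem ((q + 1) / 2) (by simp)) h).symm))) hnot
      · exact Or.inl (hmax _ (hmem (q - r + 1) (by simp)) h).symm
      · exact Or.inr (hmax _ (hmem (q + r + 1) (by simp)) h).symm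
    · exact lt_of_le_of_lt (Set.ncard_insert_le _ _) (by simp)
  have h3 := S2514.result (G := G0) (H := H) 3 (by norm_num) hsub hfew
  -- the elementary normal subgroup of H
  let E : Subgroup H :=
    { carrier := {x | x ∈ P ∧ (∀ y ∈ P, x * y = y * x) ∧ x ^ 3 = 1}
      one_mem' := ⟨P.one_mem, fun y _ => by simp, one_pow 3⟩
      mul_mem' := fun {a b} ha hb => ⟨P.mul_mem ha.1 hb.1,
        fun y hy => (Commute.mul_left (ha.2.1 y hy) (hb.2.1 y hy)).eq,
        by rw [(show Commute a b from ha.2.1 b hb.1).mul_pow, ha.2.2, hb.2.2, one_mul]⟩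
      inv_mem' := fun {a} ha => ⟨P.inv_mem ha.1, fun y hy => (Commute.inv_left (ha.2.1 y hy)).eq,
        by rw [inv_pow, ha.2.2, inv_one]⟩ }
  haveI hEn : E.Normal := by
    refine ⟨fun x hx g => ⟨hPn.conj_mem x hx.1 g, fun y hy => ?_, by rw [conj_pow, hx.2.2]; group⟩⟩
    have hy' := hPn.conj_mem y hy g⁻¹
    rw [inv_inv] at hy'
    calc g * x * g⁻¹ * y = g * (x * (g⁻¹ * y * g)) * g⁻¹ := by group
      _ = g * (g⁻¹ * y * g * x) * g⁻¹ := by rw [hx.2.1 _ hy']
      _ = y * (g * x * g⁻¹) := by group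
  have hE1 : E ≠ ⊥ := by
    haveI : Fact (Nat.Prime 3) := ⟨Nat.prime_three⟩
    haveI : Nontrivial ↥P := (Subgroup.nontrivial_iff_ne_bot P).mpr hP1
    haveI : Nontrivial (Subgroup.center ↥P) := hP3.center_nontrivial
    obtain ⟨k, hk⟩ := IsPGroup.iff_card.mp (hP3.to_subgroup (Subgroup.center ↥P))
    have hdvd : 3 ∣ Nat.card ↥(Subgroup.center ↥P) := by
      rw [hk]
      refine dvd_pow_self 3 ?_
      rintro rfl
      have := Finite.one_lt_card (α := ↥(Subgroup.center ↥P))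
      rw [hk, pow_zero] at this
      exact lt_irrefl _ this
    obtain ⟨z, hz⟩ := exists_prime_orderOf_dvd_card' 3 hdvd
    intro hbot
    have hzE : ((z : ↥P) : H) ∈ E := by
      refine ⟨(z : ↥P).2, fun y hy => ?_, ?_⟩
      · exact congrArg Subtype.val (Subgroup.mem_center_iff.mp z.2 ⟨y, hy⟩).symm
      · rw [← hz, ← Subgroup.orderOf_coe, ← Subgroup.orderOf_coe]
        exact pow_orderOf_eq_one _
    rw [hbot, Subgroup.mem_bot] at hzE
    rw [← Subgroup.orderOf_coe, ← Subgroup.orderOf_coe, hzE, orderOf_one] at hz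
    norm_num at hz
  haveI : Finite G0 := Finite.of_equiv _ e0.symm
  haveI hXf := Fintype.ofFinite ((Fin 2 → G0) × ↥(Lib.SpecPGL.fibre E N))
  refine ⟨(Fin 2 → G0) × ↥(Lib.SpecPGL.fibre E N), inferInstance, hXf, ?_, ?_⟩
  · rw [← Nat.card_eq_fintype_card, Nat.card_prod]
    exact (Lib.SpecPGL.card_fibre_gt E hE1 N).trans_le (Nat.le_mul_of_pos_left _ Nat.card_pos)
  · let e3 : (Fin 3 → G0) ≃* G × G × G :=
      { toFun := fun f => (e (f 0), e (f 1), e (f 2))
        invFun := fun t => ![e.symm t.1, e.symm t.2.1, e.symm t.2.2]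
        left_inv := fun f => by funext i; fin_cases i <;> simp
        right_inv := fun t => by simp
        map_mul' := fun f g => by simp }
    rw [← Lib.SpecPGL.range_congr_mulEquiv e3]
    exact (Lib.SpecPGL.range_prod_congr
      (Lib.SpecPGL.range_fibre E N 3 Nat.prime_three fun x hx => hx.2.2)).trans h3.symm

end Cfsg.Agent.S3626
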