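import Cfsg.Statements.S3633
import Cfsg.Agent.Lib.Recognition.ThreePrimes

set_option autoImplicit false
set_option linter.style.haveILetI false
open Cfsg
open Cfsg.Agent.Lib.Recognition

namespace Cfsg.Agent.S3633

/-- Let G be a finite group and ρ a set of at least three prime divisors of the order of G that are pairwise non-adjacent in the prime graph (no element of order rs for distinct r, s ∈ ρ). Then at most one prime of ρ divides the order of any given solvable normal subgroup of G; in particular G is not solvable. -/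
theorem result {G : Type*} [Group G] [Finite G] (ρ : Finset ℕ) (hρ : 3 ≤ ρ.card) (hc : ((∀ r ∈ ρ, r.Prime ∧ r ∣ Nat.card G) ∧ (∀ r ∈ ρ, ∀ s ∈ ρ, r ≠ s → ¬ ∃ x : G, orderOf x = r * s)))
    (K : Subgroup G) [K.Normal] (hK : Group.IsSolvable ↥K) :
    (∀ r ∈ ρ, ∀ s ∈ ρ, r ∣ Nat.card ↥K → s ∣ Nat.card ↥K → r = s) ∧ ¬ Group.IsSolvable G := by
  classical
  obtain ⟨hρp, hρn⟩ := hc
  have key : ∀ (L : Subgroup G) [L.Normal], Group.IsSolvable L → ∀ r ∈ ρ, ∀ s ∈ ρ, r ∣ Nat.card L → s ∣ Nat.card L → r = s := by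
    intro L _ hL r hr s hs hrL hsL
    by_contra hne
    have hcard : 0 < ((ρ.erase r).erase s).card := by
      rw [Finset.card_erase_of_mem (Finset.mem_erase.2 ⟨Ne.symm hne, hs⟩), Finset.card_erase_of_mem hr]; omega
    obtain ⟨t, ht⟩ := Finset.card_pos.1 hcard
    rw [Finset.mem_erase, Finset.mem_erase] at ht
    obtain ⟨hts, htr, ht⟩ := ht
    exact solvable_normal_two_primes L hL r s t (hρp r hr).1 (hρp s hs).1 (hρp t ht).1 hne (Ne.symm htr) (Ne.symm hts)
      hrL hsL (hρp t ht).2 (hρn r hr s hs hne) (hρn r hr t ht (Ne.symm htr)) (hρn s hs t ht (Ne.symm hts))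
  refine ⟨key K hK, fun hG => ?_⟩
  obtain ⟨a, ha, b, hb, hab⟩ := Finset.one_lt_card.1 (show 1 < ρ.card by omega)
  haveI := hG
  exact hab (key ⊤ inferInstance a ha b hb (by rw [Subgroup.card_top]; exact (hρp a ha).2) (by rw [Subgroup.card_top]; exact (hρp b hb).2))


end Cfsg.Agent.S3633
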