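import Cfsg.Statements.S3639
import Mathlib
import Cfsg.Agent.Lib.Recognition.FPFExt
import Cfsg.Agent.Lib.Recognition.SuzukiFix
import Cfsg.Agent.Lib.Recognition.NaturalModule

set_option autoImplicit false
set_option linter.style.haveILetI false
open Cfsg
open Cfsg.Agent.Lib.Recognition
open Matrix

namespace Cfsg.Agent.S3639

/-- Let S be the Suzuki group over the field with q = 2^(2m+1) ≥ 8 elements. Then there are finite groups of arbitrarily large order with the same prime graph as S. -/
theorem result {F : Type*} [Field F] [Fintype F] {m : ℕ} (hm : 1 ≤ m) (hF : Fintype.card F = 2 ^ (2 * m + 1)) (N : ℕ) :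
    ∃ (H : Type) (_ : Group H) (_ : Fintype H), N < Fintype.card H ∧ ((∀ r : ℕ, r.Prime → (r ∣ Nat.card ↥(Cfsg.Lie.Sz F (2 ^ (m + 1))) ↔ r ∣ Nat.card H)) ∧
      (∀ r s : ℕ, r.Prime → s.Prime → r ≠ s → ((∃ x : ↥(Cfsg.Lie.Sz F (2 ^ (m + 1))), orderOf x = r * s) ↔ (∃ y : H, orderOf y = r * s)))) := by
  classical
  haveI : Fact (Nat.Prime 2) := ⟨Nat.prime_two⟩
  haveI : CharP F 2 := charP_of_card_eq_prime_pow (f := 2 * m + 1) hF
  let S := ↥(Cfsg.Lie.Sz F (2 ^ (m + 1)))
  let k := N
  let φ : S →* MulAut (Multiplicative (Fin k → Fin 4 → F)) :=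
    { toFun := fun s =>
      { toFun := fun v => Multiplicative.ofAdd fun i => ((s : GL (Fin 4) F) : Matrix (Fin 4) (Fin 4) F) *ᵥ v.toAdd i
        invFun := fun v => Multiplicative.ofAdd fun i => (((s : GL (Fin 4) F)⁻¹ : GL (Fin 4) F) : Matrix (Fin 4) (Fin 4) F) *ᵥ v.toAdd i
        left_inv := fun v => by
          apply Multiplicative.toAdd.injective
          funext i
          show (((s : GL (Fin 4) F)⁻¹ : GL (Fin 4) F) : Matrix (Fin 4) (Fin 4) F) *ᵥ (((s : GL (Fin 4) F) : Matrix (Fin 4) (Fin 4) F) *ᵥ v.toAdd i) = v.toAdd i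
          rw [Matrix.mulVec_mulVec, Units.inv_mul, Matrix.one_mulVec]
        right_inv := fun v => by
          apply Multiplicative.toAdd.injective
          funext i
          show ((s : GL (Fin 4) F) : Matrix (Fin 4) (Fin 4) F) *ᵥ ((((s : GL (Fin 4) F)⁻¹ : GL (Fin 4) F) : Matrix (Fin 4) (Fin 4) F) *ᵥ v.toAdd i) = v.toAdd i
          rw [Matrix.mulVec_mulVec, Units.mul_inv, Matrix.one_mulVec]
        map_mul' := fun v w => by
          apply Multiplicative.toAdd.injective
          funext i
          show ((s : GL (Fin 4) F) : Matrix (Fin 4) (Fin 4) F) *ᵥ (v.toAdd i + w.toAdd i) = _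
          rw [Matrix.mulVec_add]
          rfl }
      map_one' := by
        apply MulEquiv.ext
        intro v
        apply Multiplicative.toAdd.injective
        funext i
        exact Matrix.one_mulVec (v.toAdd i)
      map_mul' := fun s t => by
        apply MulEquiv.ext
        intro v
        apply Multiplicative.toAdd.injective
        funext i
        exact (Matrix.mulVec_mulVec (v.toAdd i) _ _).symm }
  let E := SemidirectProduct (Multiplicative (Fin k → Fin 4 → F)) S φ
  haveI : Finite E := Finite.of_equiv _ SemidirectProduct.equivProd.symm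
  obtain ⟨K, gK, fK, ⟨e⟩⟩ := exists_type_zero_model E
  letI := Fintype.ofFinite K
  have hcard : Nat.card K = (Fintype.card F) ^ (4 * k) * Nat.card S := by
    rw [← Nat.card_congr e.toEquiv, SemidirectProduct.card, Nat.card_congr Multiplicative.toAdd, Nat.card_fun, Nat.card_fun,
      Nat.card_eq_fintype_card (α := F), Nat.card_fin, Nat.card_fin, pow_mul]
  have h2 : 2 ∣ Nat.card S := by
    obtain ⟨g, hg, ho⟩ := sz_exists_involution (F := F) (m + 1)
    have h := orderOf_dvd_natCard (⟨g, hg⟩ : S)
    rwa [← orderOf_injective (Cfsg.Lie.Sz F (2 ^ (m + 1))).subtype Subtype.val_injective ⟨g, hg⟩,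
      Subgroup.coe_subtype, ho] at h
  refine ⟨K, gK, inferInstance, ?_, ?_, ?_⟩
  · rw [← Nat.card_eq_fintype_card, hcard]
    refine lt_of_lt_of_le (Nat.lt_two_pow_self (n := N)) ?_
    refine le_trans ?_ (Nat.le_mul_of_pos_right _ Nat.card_pos)
    exact (Nat.pow_le_pow_left Fintype.one_lt_card N).trans (Nat.pow_le_pow_right Fintype.card_pos (by omega))
  · intro r hr
    rw [hcard]
    refine ⟨fun h => h.mul_left _, fun h => ?_⟩
    rcases hr.dvd_mul.1 h with h1 | h1
    · rw [hF, ← pow_mul] at h1
      rw [(Nat.prime_dvd_prime_iff_eq hr Nat.prime_two).1 (hr.dvd_of_dvd_pow h1)]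
      exact h2
    · exact h1
  · intro r s hr hs hrs
    have key := semidirect_orderOf_iff_of_fpf φ
      (fun v => Multiplicative.toAdd.injective (by funext i j; exact CharTwo.add_self_eq_zero _))
      (fun x hxp hxo v hv => by
        apply Multiplicative.toAdd.injective
        funext i
        by_contra hne
        have h4 : (x : GL (Fin 4) F) ^ 4 = 1 :=
          sz_pow_four_of_fix x.2 (v.toAdd i) hne (congrFun (congrArg Multiplicative.toAdd hv) i)
        have hd : orderOf x ∣ 2 ^ 2 := orderOf_dvd_of_pow_eq_one (Subtype.ext (by rw [Subgroup.coe_pow]; exact h4))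
        rw [(Nat.prime_dvd_prime_iff_eq hxp Nat.prime_two).1 (hxp.dvd_of_dvd_pow hd)] at hxo
        exact absurd hxo (by decide))
      r s hr hs hrs
    constructor
    · intro h
      obtain ⟨g, hg⟩ := key.2 h
      exact ⟨e g, by rw [MulEquiv.orderOf_eq, hg]⟩
    · rintro ⟨y, hy⟩
      exact key.1 ⟨e.symm y, by rw [MulEquiv.orderOf_eq, hy]⟩


end Cfsg.Agent.S3639
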