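import Cfsg.Statements.S3641
import Cfsg.Agent.Lib.SylowSeventeen.Main
-- import your own Cfsg.Agent.* helpers here

set_option autoImplicit false
open Cfsg

namespace Cfsg.Agent.S3641

open Cfsg.Agent.Lib.SylowSeventeen

theorem card_center_GL {F : Type*} [Field F] [Fintype F] :
    Nat.card (Subgroup.center (GL (Fin 2) F)) = Fintype.card F - 1 := by
  rw [Matrix.GeneralLinearGroup.center_eq_range_scalar]
  have hinj : Function.Injective (Matrix.GeneralLinearGroup.scalar (Fin 2) (R := F)) := fun u v e => by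
    apply Units.ext
    have := congrArg (fun g : GL (Fin 2) F => (g : Matrix (Fin 2) (Fin 2) F) 0 0) e
    simpa [Matrix.GeneralLinearGroup.scalar, Matrix.scalar_apply] using this
  rw [← Nat.card_congr (MonoidHom.ofInjective hinj).toEquiv, Nat.card_units, Nat.card_eq_fintype_card]

/-- Let G be a finite group with trivial centre whose set of Sylow numbers (numbers of Sylow r-subgroups, r over the prime divisors of its order) is exactly {18, 136, 153}. Then G is isomorphic to PSL(2, 17) or to PGL(2, 17). -/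
theorem result {G : Type*} [Group G] [Finite G] (hZ : Subgroup.center G = ⊥) (hNS : {c : ℕ | ∃ r : ℕ, r.Prime ∧ r ∣ Nat.card G ∧ c = Nat.card (Sylow r G)} = ({18, 136, 153} : Set ℕ))
    {F : Type*} [Field F] [Fintype F] (hF : Fintype.card F = 17) :
    Nonempty (G ≃* Matrix.ProjectiveSpecialLinearGroup (Fin 2) F) ∨ Nonempty (G ≃* (GL (Fin 2) F ⧸ Subgroup.center (GL (Fin 2) F))) := by
  classical
  haveI : Fact (Nat.Prime 17) := ⟨by norm_num⟩
  haveI : Fact (Nat.Prime 2) := ⟨Nat.prime_two⟩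
  haveI : Fact (Nat.Prime 3) := ⟨Nat.prime_three⟩
  have hval : ∀ r : ℕ, ∀ _ : Fact r.Prime, r ∣ Nat.card G →
      Nat.card (Sylow r G) = 18 ∧ r = 17 ∨ Nat.card (Sylow r G) = 136 ∧ (r = 3 ∨ r = 5) ∨
        Nat.card (Sylow r G) = 153 ∧ (r = 2 ∨ r = 19) := by
    intro r hr hrd
    have hmem : Nat.card (Sylow r G) ∈ ({18, 136, 153} : Set ℕ) := hNS ▸ ⟨r, hr.out, hrd, rfl⟩
    have hmod := card_sylow_modEq_one r G
    have h1 : r ∣ Nat.card (Sylow r G) - 1 := (Nat.modEq_iff_dvd' Nat.card_pos).1 hmod.symm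
    simp only [Set.mem_insert_iff, Set.mem_singleton_iff] at hmem
    rcases hmem with e | e | e <;> rw [e] at h1
    · exact Or.inl ⟨e, (Nat.prime_dvd_prime_iff_eq hr.out (by norm_num)).1 h1⟩
    · refine Or.inr (Or.inl ⟨e, ?_⟩)
      rcases hr.out.dvd_mul.1 (show r ∣ 3 ^ 3 * 5 by simpa using h1) with h | h
      · exact Or.inl ((Nat.prime_dvd_prime_iff_eq hr.out Nat.prime_three).1 (hr.out.dvd_of_dvd_pow h))
      · exact Or.inr ((Nat.prime_dvd_prime_iff_eq hr.out (by norm_num)).1 h)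
    · refine Or.inr (Or.inr ⟨e, ?_⟩)
      rcases hr.out.dvd_mul.1 (show r ∣ 2 ^ 3 * 19 by simpa using h1) with h | h
      · exact Or.inl ((Nat.prime_dvd_prime_iff_eq hr.out Nat.prime_two).1 (hr.out.dvd_of_dvd_pow h))
      · exact Or.inr ((Nat.prime_dvd_prime_iff_eq hr.out (by norm_num)).1 h)
  have h18 : Nat.card (Sylow 17 G) = 18 := by
    obtain ⟨r, hr, hrd, hc⟩ := (hNS ▸ (Or.inl rfl) : (18 : ℕ) ∈ {c : ℕ | ∃ r : ℕ, r.Prime ∧ r ∣ Nat.card G ∧ c = Nat.card (Sylow r G)})
    rcases hval r ⟨hr⟩ hrd with ⟨-, rfl⟩ | ⟨e, -⟩ | ⟨e, -⟩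
    · exact hc.symm
    all_goals omega
  obtain ⟨P⟩ : Nonempty (Sylow 17 G) := inferInstance
  set K := (MulAction.toPermHom G (Sylow 17 G)).ker with hK
  have hKsmul : ∀ k ∈ K, ∀ P' : Sylow 17 G, k • P' = P' := fun k hk P' =>
    Equiv.Perm.ext_iff.1 (MonoidHom.mem_ker.1 hk) P'
  have hKP : ∀ P' : Sylow 17 G, K ≤ Subgroup.normalizer ((P' : Subgroup G) : Set G) := fun P' k hk =>
    Sylow.smul_eq_iff_mem_normalizer.1 (hKsmul k hk P')
  set f := QuotientGroup.mk' K with hf
  have hfs : Function.Surjective f := QuotientGroup.mk'_surjective K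
  have hQ18 : Nat.card (Sylow 17 (G ⧸ K)) = 18 := by
    have := Cfsg.Agent.Lib.PGroups.card_sylow_eq_quotient_mul P K
    rw [Subgroup.relIndex_eq_one.2 (hKP P), mul_one, h18] at this
    exact this.symm
  have hbij : Function.Bijective (fun P' : Sylow 17 G => P'.mapSurjective hfs) := by
    refine (Nat.bijective_iff_surjective_and_card _).2 ⟨fun S => ?_, by rw [h18, hQ18]⟩
    obtain ⟨x, hx⟩ := MulAction.exists_smul_eq (G ⧸ K) (P.mapSurjective hfs) S
    obtain ⟨g, rfl⟩ := hfs x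
    exact ⟨g • P, (map_smul_sylow hfs g P).trans hx⟩
  have hE : Eighteen (G ⧸ K) := by
    refine ⟨hQ18, fun x hx => ?_⟩
    obtain ⟨g, rfl⟩ := hfs x
    rw [hf, QuotientGroup.mk'_apply, QuotientGroup.eq_one_iff, hK, MonoidHom.mem_ker]
    refine Equiv.Perm.ext fun P' => hbij.1 ?_
    show (g • P').mapSurjective hfs = P'.mapSurjective hfs
    rw [map_smul_sylow hfs g P', hx]
  obtain ⟨a⟩ : Nonempty (Sylow 17 (G ⧸ K)) := inferInstance
  obtain ⟨b, hb⟩ := exists_ne hE a
  obtain ⟨-, hd, -, hQcard⟩ := card_stabilizer hE a b hb.symm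
  set T : Subgroup (G ⧸ K) := ⨆ S : Sylow 17 (G ⧸ K), (S : Subgroup (G ⧸ K)) with hT
  haveI hTn : T.Normal := by
    refine ⟨fun n hn g => ?_⟩
    have h1 : T.map (MulAut.conj g).toMonoidHom ≤ T := by
      rw [hT, Subgroup.map_iSup]
      refine iSup_le fun S => le_trans (le_of_eq ?_) (le_iSup (fun S : Sylow 17 (G ⧸ K) => (S : Subgroup (G ⧸ K))) (g • S))
      rw [Sylow.coe_subgroup_smul]
      rfl
    exact h1 ⟨n, hn, rfl⟩
  have hle : ∀ S : Sylow 17 (G ⧸ K), (S : Subgroup (G ⧸ K)) ≤ T := fun S => le_iSup (fun S : Sylow 17 (G ⧸ K) => (S : Subgroup (G ⧸ K))) S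
  have hTidx : ¬ 17 ∣ T.index := fun h => a.not_dvd_index (h.trans (Subgroup.index_dvd_of_le (hle a)))
  have hT18 : Nat.card (Sylow 17 T) = 18 := by
    rw [Cfsg.Agent.Lib.PGroups.card_sylow_of_index T hTidx, hQ18]
  have hET : Eighteen T := by
    refine ⟨hT18, fun t ht => Subtype.ext (hE.faithful t fun S => ?_)⟩
    have := ht (S.subtype (hle S))
    rw [Sylow.smul_subtype] at this
    exact Sylow.subtype_injective this
  haveI : Nontrivial T := by
    rcases subsingleton_or_nontrivial T with hs | hn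
    · have : Nat.card (Sylow 17 T) = 1 := by
        haveI : Subsingleton (Sylow 17 T) := ⟨fun x y => Sylow.ext (Subsingleton.elim _ _)⟩
        exact Nat.card_of_subsingleton (default : Sylow 17 T)
      omega
    · exact hn
  haveI : IsSimpleGroup T := by
    refine ⟨fun L hL => or_iff_not_imp_left.2 fun hL1 => ?_⟩
    have h1 : T ≤ L.map T.subtype := by
      conv_lhs => rw [hT]
      refine iSup_le fun S => ?_
      rintro s hs
      exact ⟨⟨s, hle S hs⟩, sylow_le_normal hET L hL1 (S.subtype (hle S)) hs, rfl⟩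
    rw [eq_top_iff]
    intro t _
    obtain ⟨t', ht', e⟩ := h1 t.2
    rwa [← Subtype.ext e]
  obtain ⟨hT2448, ⟨eT⟩⟩ := simple_iso hET hF
  have hidx : T.index = 1 ∨ T.index = 2 := by
    have h1 := T.index_mul_card
    rw [hT2448, hQcard] at h1
    have := Nat.le_of_dvd (by norm_num) hd
    omega
  have hn2 : Nat.card (Sylow 2 G) = 153 := by
    have h2 : 2 ∣ Nat.card G := by
      have h1 : 2 ∣ Nat.card (G ⧸ K) := by rw [hQcard]; exact dvd_mul_of_dvd_left (by norm_num) _
      exact h1.trans (Subgroup.card_quotient_dvd_card K)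
    rcases hval 2 inferInstance h2 with ⟨-, e⟩ | ⟨-, e⟩ | ⟨e, -⟩
    · omega
    · omega
    · exact e
  have hn3 : Nat.card (Sylow 3 G) = 136 := by
    have h3 : 3 ∣ Nat.card G := by
      have h1 : 3 ∣ Nat.card (G ⧸ K) := by rw [hQcard]; exact dvd_mul_of_dvd_left (by norm_num) _
      exact h1.trans (Subgroup.card_quotient_dvd_card K)
    rcases hval 3 inferInstance h3 with ⟨-, e⟩ | ⟨e, -⟩ | ⟨-, e⟩
    · omega
    · exact e
    · omega
  have hq2 : Nat.card (Sylow 2 (G ⧸ K)) = 153 := Nat.dvd_antisymm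
    (hn2 ▸ Cfsg.Agent.Lib.PGroups.card_sylow_quotient_le K) (card_sylow_two hET hT2448 ▸ card_sylow_normal_dvd 2 T)
  have hq3 : Nat.card (Sylow 3 (G ⧸ K)) = 136 := Nat.dvd_antisymm
    (hn3 ▸ Cfsg.Agent.Lib.PGroups.card_sylow_quotient_le K) (card_sylow_three hET hT2448 ▸ card_sylow_normal_dvd 3 T)
  have hN : ∀ r : ℕ, ∀ _ : Fact r.Prime, r ∣ Nat.card G → ∀ R : Sylow r G,
      K ≤ Subgroup.normalizer ((R : Subgroup G) : Set G) := by
    intro r hr hrd R
    have hQi : r = 5 ∨ r = 19 → ¬ r ∣ K.index := by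
      intro h519 hdi
      rw [Subgroup.index_eq_card, hQcard] at hdi
      have h' : r ∣ 4896 := hdi.trans ((mul_dvd_mul_left 306 hd).trans (by norm_num))
      rcases h519 with rfl | rfl <;> norm_num at h'
    rcases hval r hr hrd with ⟨-, rfl⟩ | ⟨e, rfl | rfl⟩ | ⟨e, rfl | rfl⟩
    · exact hKP R
    · exact le_normalizer_of_card_eq 3 K (by rw [e, hq3]) R
    · exact (no_extra_prime K P hKP 5 (by norm_num) (by norm_num) (hQi (Or.inl rfl)) (by rw [e]; norm_num)
        (by rw [e]; norm_num)).elim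
    · exact le_normalizer_of_card_eq 2 K (by rw [e, hq2]) R
    · exact (no_extra_prime K P hKP 19 (by norm_num) (by norm_num) (hQi (Or.inr rfl)) (by rw [e]; norm_num)
        (by rw [e]; norm_num)).elim
  have hKbot : K = ⊥ := by
    by_contra hne
    exact center_ne_bot K hne hN hZ
  let eG : G ≃* G ⧸ K := MulEquiv.ofBijective f ⟨by
    rw [← MonoidHom.ker_eq_bot_iff, hf, QuotientGroup.ker_mk', hKbot], hfs⟩
  rcases hidx with h1 | h2
  · left
    exact ⟨eG.trans (((MulEquiv.subgroupCongr (Subgroup.index_eq_one.1 h1)).trans Subgroup.topEquiv).symm.trans eT)⟩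
  right
  let ψ : G ⧸ K →* MulAut T := MulAut.conjNormal
  have hψ : Function.Injective ψ := by
    rw [← MonoidHom.ker_eq_bot_iff]
    by_contra hne
    refine not_comm hET ?_
    refine ⟨⟨fun x y => ?_⟩⟩
    have hTle : T ≤ ψ.ker := by
      conv_lhs => rw [hT]
      exact iSup_le fun S => sylow_le_normal hE ψ.ker hne S
    have h1 : ψ (x : G ⧸ K) y = y := by
      rw [MonoidHom.mem_ker.1 (hTle x.2)]
      rfl
    have h2 : (x : G ⧸ K) * y * (x : G ⧸ K)⁻¹ = y := congrArg Subtype.val h1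
    exact Subtype.ext (by
      calc (x : G ⧸ K) * y = x * y * (x : G ⧸ K)⁻¹ * x := by group
        _ = y * x := by rw [h2])
  haveI : CharP F 17 := charP_of_card_eq_prime hF
  have hGL : Nat.card (GL (Fin 2) F ⧸ Subgroup.center (GL (Fin 2) F)) = 4896 := by
    have hZc : Nat.card (Subgroup.center (GL (Fin 2) F)) = 16 := by
      rw [card_center_GL, hF]
    have h := (Subgroup.center (GL (Fin 2) F)).index_mul_card
    rw [hZc, Matrix.card_GL_field, hF, Fin.prod_univ_two, Subgroup.index_eq_card] at h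
    norm_num at h
    rw [Nat.card_eq_fintype_card]; omega
  have hAut : Nat.card (MulAut (Matrix.ProjectiveSpecialLinearGroup (Fin 2) F)) = 4896 := by
    rw [Cfsg.Agent.S0813.result 17 1 le_rfl (by rw [hF, pow_one]) 2 le_rfl (by norm_num), if_pos rfl]
    show 1 * 1 * Nat.card (GL (Fin 2) F ⧸ Subgroup.center (GL (Fin 2) F)) = 4896
    rw [hGL]
  have hQ4896 : Nat.card (G ⧸ K) = 4896 := by
    have := T.index_mul_card
    rw [hT2448, h2] at this
    omega
  let φ : G ⧸ K →* MulAut (Matrix.ProjectiveSpecialLinearGroup (Fin 2) F) := (MulAut.congr eT).toMonoidHom.comp ψ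
  have hφ : Function.Bijective φ :=
    (Nat.bijective_iff_injective_and_card _).2 ⟨(MulAut.congr eT).injective.comp hψ, by rw [hQ4896, hAut]⟩
  let δ := QuotientGroup.lift (Subgroup.center (GL (Fin 2) F)) (Cfsg.Agent.Lib.Classical.AutPSL.dia (n := 2) (F := F))
    (Cfsg.Agent.Lib.Classical.AutPSL.ker_dia le_rfl 17).ge
  have hδ : Function.Bijective δ := by
    refine (Nat.bijective_iff_injective_and_card _).2 ⟨?_, by rw [hGL, hAut]⟩
    rw [← MonoidHom.ker_eq_bot_iff, QuotientGroup.ker_lift, Cfsg.Agent.Lib.Classical.AutPSL.ker_dia le_rfl 17,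
      QuotientGroup.map_mk'_self]
  exact ⟨(eG.trans (MulEquiv.ofBijective φ hφ)).trans (MulEquiv.ofBijective δ hδ).symm⟩

end Cfsg.Agent.S3641
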