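import Cfsg.Statements.S3660
import Cfsg.Agent.Lib.Recognition.NaturalModule

set_option autoImplicit false
set_option linter.style.haveILetI false
open Cfsg
open Cfsg.Agent.Lib.Recognition
open Matrix

namespace Cfsg.Agent.S3660

/-- The prime graph of a finite group has the prime divisors of its order as vertices, two distinct primes p, q being joined when the group has an element of order pq; two groups have the same prime graph when they have the same prime divisors and the same joined pairs. Let F be a finite field of characteristic 2 with at least 4 elements. Then there are finite groups of arbitrarily large order with the same prime graph as PSL(2,F); in particular PSL(2,F) is not determined by its prime graph. -/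
theorem result {F : Type*} [Field F] [Fintype F] [CharP F 2] (hF : 4 ≤ Fintype.card F) (N : ℕ) :
    ∃ (H : Type) (_ : Group H) (_ : Finite H), N < Nat.card H ∧
      ((∀ p : ℕ, p.Prime → (p ∣ Nat.card (Matrix.ProjectiveSpecialLinearGroup (Fin 2) F) ↔ p ∣ Nat.card H)) ∧
      (∀ p q : ℕ, p.Prime → q.Prime → p ≠ q → ((∃ g : (Matrix.ProjectiveSpecialLinearGroup (Fin 2) F), orderOf g = p * q) ↔ (∃ g : H, orderOf g = p * q)))) := by
  classical
  obtain ⟨K, _, _, ⟨e⟩⟩ := exists_type_zero_model (NatExt F N)
  have hc : Subgroup.center (SpecialLinearGroup (Fin 2) F) = ⊥ := by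
    rw [Subgroup.eq_bot_iff_forall]
    intro z hz
    obtain ⟨r, hr, hre⟩ := Matrix.SpecialLinearGroup.mem_center_iff.1 hz
    rw [Fintype.card_fin] at hr
    have h1 : r = 1 := by
      have h2 : (r - 1) ^ 2 = 0 := by rw [sub_pow_char, one_pow, hr, sub_self]
      exact sub_eq_zero.1 (pow_eq_zero_iff two_ne_zero |>.1 h2)
    apply Matrix.SpecialLinearGroup.ext
    intro i j
    rw [← hre, h1, map_one, Matrix.SpecialLinearGroup.coe_one]
  let ψ : SpecialLinearGroup (Fin 2) F ≃* Matrix.ProjectiveSpecialLinearGroup (Fin 2) F :=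
    (QuotientGroup.quotientBot.symm).trans (QuotientGroup.quotientMulEquivOfEq hc.symm)
  refine ⟨K, inferInstance, inferInstance, ?_, fun p hp => ?_, fun p q hp hq hpq => ?_⟩
  · exact (lt_natExt_card F N).trans_le (Nat.card_congr e.toEquiv).le
  · rw [← Nat.card_congr ψ.toEquiv, ← Nat.card_congr e.toEquiv, natExt_prime_dvd F N p hp]
  · constructor
    · rintro ⟨g, hg⟩
      obtain ⟨g', hg'⟩ := (natExt_orderOf_iff F N p q hp hq hpq).2 ⟨ψ.symm g, by rw [MulEquiv.orderOf_eq, hg]⟩
      exact ⟨e g', by rw [MulEquiv.orderOf_eq, hg']⟩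
    · rintro ⟨g, hg⟩
      obtain ⟨s, hs⟩ := (natExt_orderOf_iff F N p q hp hq hpq).1 ⟨e.symm g, by rw [MulEquiv.orderOf_eq, hg]⟩
      exact ⟨ψ s, by rw [MulEquiv.orderOf_eq, hs]⟩


end Cfsg.Agent.S3660
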