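import Cfsg.Statements.S3662
-- import your own Cfsg.Agent.* helpers here

import Cfsg.Agent.Lib.Recognition.G24Model
import Cfsg.Agent.Lib.ChevFix.Basic

set_option autoImplicit false
open Cfsg

namespace Cfsg.Agent.S3662

open Cfsg.Agent.Lib.Recognition Cfsg.Agent.Lib.Chev Cfsg.Agent.Lib.ChevFix
open scoped MatrixGroups

/-- Transport of the group along an isomorphism of fields. -/
noncomputable def groupEquiv {F K : Type*} [Field F] [Field K] (e : F ≃+* K) :
    ↥(Cfsg.Lie.chevG2.group F) ≃* ↥(Cfsg.Lie.chevG2.group K) where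
  toFun g := ⟨glMap _ e.toRingHom g.1, glMap_mem_group goodG2 _ g.2⟩
  invFun g := ⟨glMap _ e.symm.toRingHom g.1, glMap_mem_group goodG2 _ g.2⟩
  left_inv g := Subtype.ext (Units.ext (by rw [glMap_val, glMap_val]; ext i j; simp))
  right_inv g := Subtype.ext (Units.ext (by rw [glMap_val, glMap_val]; ext i j; simp))
  map_mul' g h := Subtype.ext (map_mul _ _ _)

theorem graph_hyp (r : ℕ) (hr : r.Prime) (hr2 : r ≠ 2) :
    (∃ g : G24.G24, orderOf g = 2 * r) ∨
      ∀ g : G24.G24, orderOf g = r → ∀ v : G24.V12, g • v = v → v = 0 := by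
  by_cases hd : r ∣ Nat.card G24.G24
  swap
  · exact Or.inr fun g hg => absurd (hg ▸ orderOf_dvd_natCard g) hd
  rw [G24.card_G24, show (251596800 : ℕ) = 2 ^ 12 * (3 ^ 3 * (5 ^ 2 * (7 * 13))) by norm_num] at hd
  rcases hr.dvd_mul.mp hd with h | h
  · exact absurd ((Nat.prime_dvd_prime_iff_eq hr Nat.prime_two).mp (hr.dvd_of_dvd_pow h)) hr2
  rcases hr.dvd_mul.mp h with h | h
  · left
    rw [(Nat.prime_dvd_prime_iff_eq hr Nat.prime_three).mp (hr.dvd_of_dvd_pow h)]
    exact ⟨_, G24.orderOf_wordElt (w := G24.wordA) (by decide +kernel) (by norm_num)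
      (by decide +kernel) (by decide +kernel)⟩
  rcases hr.dvd_mul.mp h with h | h
  · left
    rw [(Nat.prime_dvd_prime_iff_eq hr (by norm_num)).mp (hr.dvd_of_dvd_pow h)]
    exact ⟨_, G24.orderOf_wordElt (w := G24.wordB) (by decide +kernel) (by norm_num)
      (by decide +kernel) (by decide +kernel)⟩
  right
  rcases hr.dvd_mul.mp h with h | h
  · obtain rfl := (Nat.prime_dvd_prime_iff_eq hr (by norm_num)).mp h
    exact fpf_of_prime_sylow hr (m := 35942400) (by rw [G24.card_G24]) (by norm_num)
      (G24.orderOf_wordElt (w := G24.wordC) (by decide +kernel) (by norm_num) (by decide +kernel)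
        (by decide +kernel))
      (G24.fixed_free (by decide +kernel) (by decide +kernel))
  · obtain rfl := (Nat.prime_dvd_prime_iff_eq hr (by norm_num)).mp h
    exact fpf_of_prime_sylow hr (m := 19353600) (by rw [G24.card_G24]) (by norm_num)
      (G24.orderOf_wordElt (w := G24.wordD) (by decide +kernel) (by norm_num) (by decide +kernel)
        (by decide +kernel))
      (G24.fixed_free (by decide +kernel) (by decide +kernel))

/-- The prime graph of a finite group has the prime divisors of its order as vertices, two distinct primes p, q being joined when the group has an element of order pq; two groups have the same prime graph when they have the same prime divisors and the same joined pairs. Let F be the field with 4 elements and L the Chevalley group of type G₂ over F. There are finite groups of arbitrarily large order with the same prime graph as L. -/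
theorem result {F : Type*} [Field F] [Fintype F] (hF : Fintype.card F = 4) (N : ℕ) :
    ∃ (H : Type) (_ : Group H) (_ : Finite H), N < Nat.card H ∧
      ((∀ p : ℕ, p.Prime → (p ∣ Nat.card ↥(Cfsg.Lie.chevG2.group F) ↔ p ∣ Nat.card H)) ∧
      (∀ p q : ℕ, p.Prime → q.Prime → p ≠ q → ((∃ g : ↥(Cfsg.Lie.chevG2.group F), orderOf g = p * q) ↔ (∃ g : H, orderOf g = p * q)))) := by
  classical
  obtain ⟨e⟩ : Nonempty (F ≃+* G24.K4) :=
    ⟨FiniteField.ringEquivOfCardEq (K := F) (K' := G24.K4) (by rw [hF, G24.card_K4])⟩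
  let E := groupEquiv e
  obtain ⟨H, iG, iF, hN, hp, hg⟩ := exists_unbounded_same_graph (G := G24.G24) (p := 2)
    Nat.prime_two (by rw [G24.card_G24]; norm_num) (V := G24.V12) G24.two_nsmul_V12 graph_hyp N
  refine ⟨H, iG, iF, hN, fun p hp' => ?_, fun p q hp' hq hpq => ?_⟩
  · rw [Nat.card_congr E.toEquiv]; exact hp p hp'
  · rw [← hg p q hp' hq hpq]
    exact ⟨fun ⟨x, hx⟩ => ⟨E x, by rw [E.orderOf_eq, hx]⟩,
      fun ⟨x, hx⟩ => ⟨E.symm x, by rw [E.symm.orderOf_eq, hx]⟩⟩

end Cfsg.Agent.S3662
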