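import Cfsg.Statements.S3663
import Cfsg.Agent.Lib.Recognition.U34Action

set_option autoImplicit false
open Cfsg

namespace Cfsg.Agent.S3663

open Cfsg.Agent.Lib.Recognition Cfsg.Agent.Lib.Classical
open scoped Matrix

theorem su_map {A B : Type*} [Field A] [Fintype A] [Field B] [Fintype B] {q : ℕ}
    (hA : Fintype.card A = q ^ 2) (hB : Fintype.card B = q ^ 2) (f : A →+* B)
    (M : Matrix.SpecialLinearGroup (Fin 3) A) (hM : M ∈ Cfsg.SU 3 A q) :
    Matrix.SpecialLinearGroup.map f M ∈ Cfsg.SU 3 B q := by
  rw [mem_SU_iff hA] at hM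
  rw [mem_SU_iff hB]
  have h := congrArg f.mapMatrix hM
  rw [map_mul, map_one] at h
  refine Eq.trans ?_ h
  congr 1
  ext i j
  simp [Matrix.SpecialLinearGroup.map_apply_coe, conjHom_apply]

/-- Transport of `SU` along an isomorphism of fields. -/
theorem nonempty_su_equiv {F K : Type*} [Field F] [Fintype F] [Field K] [Fintype K] {q : ℕ}
    (hF : Fintype.card F = q ^ 2) (hK : Fintype.card K = q ^ 2) (e : F ≃+* K) :
    Nonempty (↥(Cfsg.SU 3 F q) ≃* ↥(Cfsg.SU 3 K q)) := by
  exact ⟨{
    toFun := fun M => ⟨_, su_map hF hK e.toRingHom M.1 M.2⟩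
    invFun := fun M => ⟨_, su_map hK hF e.symm.toRingHom M.1 M.2⟩
    left_inv := fun M => Subtype.ext (Subtype.ext (by ext i j; simp [Matrix.SpecialLinearGroup.map_apply_coe]))
    right_inv := fun M => Subtype.ext (Subtype.ext (by ext i j; simp [Matrix.SpecialLinearGroup.map_apply_coe]))
    map_mul' := fun M N => Subtype.ext (map_mul _ _ _) }⟩

theorem card_su34 : Nat.card U34.SU34 = 62400 := by
  have h1 := card_SU (F := U34.K16) (q := 4) U34.card_K16 (n := 3) (by norm_num)
  rw [card_GU U34.card_K16] at h1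
  simp only [Finset.prod_range_succ, Finset.prod_range_zero, Nat.even_iff] at h1
  norm_num at h1
  change Nat.card ↥(Cfsg.SU 3 U34.K16 4) = 62400
  omega

theorem center_su_bot {F : Type*} [Field F] [Fintype F] (hF : Fintype.card F = 4 ^ 2) :
    Subgroup.center ↥(Cfsg.SU 3 F 4) = ⊥ := by
  apply Subgroup.eq_bot_of_card_le
  rw [card_center_SU hF (by norm_num)]
  norm_num

/-- The prime graph of a finite group has the prime divisors of its order as vertices, two distinct primes p, q being joined when the group has an element of order pq; two groups have the same prime graph when they have the same prime divisors and the same joined pairs. Let F be the field with 16 elements and L = PSU(3,4) realised over F. There are finite groups of arbitrarily large order with the same prime graph as L. -/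
theorem result {F : Type*} [Field F] [Fintype F] (hF : Fintype.card F = 16) (N : ℕ) :
    ∃ (H : Type) (_ : Group H) (_ : Finite H), N < Nat.card H ∧
      ((∀ p : ℕ, p.Prime → (p ∣ Nat.card (Cfsg.PSU 3 F 4) ↔ p ∣ Nat.card H)) ∧
      (∀ p q : ℕ, p.Prime → q.Prime → p ≠ q → ((∃ g : (Cfsg.PSU 3 F 4), orderOf g = p * q) ↔ (∃ g : H, orderOf g = p * q)))) := by
  classical
  have hF' : Fintype.card F = 4 ^ 2 := by rw [hF]; norm_num
  obtain ⟨e⟩ := nonempty_su_equiv hF' U34.card_K16
    (FiniteField.ringEquivOfCardEq (K := F) (K' := U34.K16) (by rw [hF', U34.card_K16]))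
  let E : Cfsg.PSU 3 F 4 ≃* U34.SU34 :=
    ((QuotientGroup.quotientMulEquivOfEq (center_su_bot hF')).trans QuotientGroup.quotientBot).trans e
  have hfac : (62400 : ℕ) = 2 ^ 6 * (3 * (5 ^ 2 * 13)) := by norm_num
  obtain ⟨H, iG, iF, hN, hp, hg⟩ := exists_unbounded_same_graph (G := U34.SU34) (p := 5)
    (by norm_num) (by rw [card_su34]; norm_num) (V := U34.Mod) U34.five_nsmul (fun r hr hr5 => by
      obtain ⟨hX, hY, hZ⟩ := U34.orders
      by_cases hd : r ∣ Nat.card U34.SU34
      swap
      · exact Or.inr fun g hg => absurd (hg ▸ orderOf_dvd_natCard g) hd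
      rw [card_su34, hfac] at hd
      rcases hr.dvd_mul.mp hd with h | h
      · left
        rw [(Nat.prime_dvd_prime_iff_eq hr Nat.prime_two).mp (hr.dvd_of_dvd_pow h)]
        exact ⟨U34.gY, hY⟩
      rcases hr.dvd_mul.mp h with h | h
      · left
        rw [(Nat.prime_dvd_prime_iff_eq hr Nat.prime_three).mp h]
        exact ⟨U34.gZ, hZ⟩
      rcases hr.dvd_mul.mp h with h | h
      · exact absurd ((Nat.prime_dvd_prime_iff_eq hr (by norm_num)).mp (hr.dvd_of_dvd_pow h)) hr5
      right
      obtain rfl := (Nat.prime_dvd_prime_iff_eq hr (by norm_num)).mp h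
      intro g hg v hv
      haveI := Fact.mk hr
      have h13 : (62400 : ℕ).factorization 13 = 1 := by
        rw [show (62400 : ℕ) = 13 ^ 1 * 4800 by norm_num, Nat.factorization_mul (by norm_num) (by norm_num),
          Finsupp.add_apply, Nat.Prime.factorization_pow hr, Finsupp.single_eq_same,
          Nat.factorization_eq_zero_of_not_dvd (by norm_num)]
      have hS : ∀ x : U34.SU34, orderOf x = 13 → Nat.card (Subgroup.zpowers x) =
          13 ^ (Nat.card U34.SU34).factorization 13 := by
        intro x hx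
        rw [Nat.card_zpowers, hx, card_su34, h13, pow_one]
      let P := Sylow.ofCard (Subgroup.zpowers g) (hS g hg)
      let Q := Sylow.ofCard (Subgroup.zpowers U34.gX) (hS _ hX)
      obtain ⟨c, hc⟩ := MulAction.exists_smul_eq U34.SU34 P Q
      have hX' : c⁻¹ * U34.gX * c ∈ Subgroup.zpowers g := by
        have hm : U34.gX ∈ ((c • P : Sylow 13 U34.SU34) : Subgroup U34.SU34) := by
          rw [hc]; exact Subgroup.mem_zpowers _
        rw [Sylow.coe_subgroup_smul, Subgroup.pointwise_smul_def] at hm
        obtain ⟨y, hy, hy'⟩ := Subgroup.mem_map.mp hm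
        have he : c⁻¹ * U34.gX * c = y := by
          rw [← hy']
          simp [mul_assoc]
        rw [he]
        exact hy
      have hfix : (c⁻¹ * U34.gX * c) • v = v :=
        (Subgroup.zpowers_le.mpr (show g ∈ MulAction.stabilizer U34.SU34 v from hv)) hX'
      rw [mul_smul, mul_smul, inv_smul_eq_iff] at hfix
      exact (smul_eq_zero_iff_eq c).mp (U34.gX_fixed_point_free _ hfix)) N
  refine ⟨H, iG, iF, hN, fun p hp' => ?_, fun p q hp' hq hpq => ?_⟩
  · rw [Nat.card_congr E.toEquiv]; exact hp p hp'
  · rw [← hg p q hp' hq hpq]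
    exact ⟨fun ⟨x, hx⟩ => ⟨E x, by rw [E.orderOf_eq, hx]⟩,
      fun ⟨x, hx⟩ => ⟨E.symm x, by rw [E.symm.orderOf_eq, hx]⟩⟩

end Cfsg.Agent.S3663
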