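import Cfsg.Statements.S3664
import Cfsg.Agent.Lib.SzEightGraph.Orders
import Cfsg.Agent.Lib.SzEightGraph.SympCentralizers
import Cfsg.Agent.Lib.SpSpec.Absorb
import Cfsg.Agent.Lib.Classical.SympCard

set_option autoImplicit false
set_option linter.style.haveILetI false
set_option maxHeartbeats 1000000
open Cfsg
open Cfsg.Agent.Lib.SzEightGraph
open Matrix

namespace Cfsg.Agent.S3664

section Sp
variable {F : Type*} [Field F] [Fintype F] [CharP F 3] [hF : Fact (Fintype.card F = 3)]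

theorem psp_prime (p : ℕ) (hp : p.Prime) :
    p ∣ Nat.card (Cfsg.PSp 3 F) ↔ p ∈ ({2, 3, 5, 7, 13} : Finset ℕ) := by
  have h := Cfsg.Agent.Lib.Classical.card_psp_mul (F := F) (m := 3) (by norm_num)
  rw [hF.out] at h
  norm_num [Finset.prod_range_succ] at h
  have hc : Nat.card (Cfsg.PSp 3 F) = 2 ^ 9 * (3 ^ 9 * (5 * (7 * 13))) := by omega
  rw [hc]
  simp only [Finset.mem_insert, Finset.mem_singleton]
  constructor
  · intro h
    simp only [Nat.Prime.dvd_mul hp] at h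
    rcases h with h | h | h | h | h
    · exact Or.inl ((Nat.prime_dvd_prime_iff_eq hp Nat.prime_two).mp (hp.dvd_of_dvd_pow h))
    · exact Or.inr (Or.inl ((Nat.prime_dvd_prime_iff_eq hp Nat.prime_three).mp (hp.dvd_of_dvd_pow h)))
    all_goals (rw [Nat.prime_dvd_prime_iff_eq hp (by norm_num)] at h; omega)
  · rintro (rfl | rfl | rfl | rfl | rfl) <;> norm_num

variable (F) in
/-- An element of order 30 in `Sp₆(3)`. -/
theorem exists_thirty : ∃ y : Cfsg.PSp 3 F, orderOf y = 30 := by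
  let x : Matrix (Fin 3 ⊕ Fin 3) (Fin 3 ⊕ Fin 3) (ZMod 3) :=
    fromBlocks !![1, 0, 0; 0, 0, 0; 0, 0, 0] !![1, 0, 0; 0, 2, 0; 0, 0, 2] !![0, 0, 0; 0, 1, 0; 0, 0, 1] !![1, 0, 0; 0, 1, 1; 0, 1, 0]
  let x2 : Matrix (Fin 3 ⊕ Fin 3) (Fin 3 ⊕ Fin 3) (ZMod 3) :=
    fromBlocks !![1, 0, 0; 0, 2, 0; 0, 0, 2] !![2, 0, 0; 0, 2, 2; 0, 2, 0] !![0, 0, 0; 0, 1, 1; 0, 1, 0] !![1, 0, 0; 0, 1, 1; 0, 1, 0]
  let x4 : Matrix (Fin 3 ⊕ Fin 3) (Fin 3 ⊕ Fin 3) (ZMod 3) :=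
    fromBlocks !![1, 0, 0; 0, 2, 2; 0, 2, 0] !![1, 0, 0; 0, 2, 0; 0, 0, 2] !![0, 0, 0; 0, 1, 0; 0, 0, 1] !![1, 0, 0; 0, 0, 0; 0, 0, 0]
  let x5 : Matrix (Fin 3 ⊕ Fin 3) (Fin 3 ⊕ Fin 3) (ZMod 3) :=
    fromBlocks !![1, 0, 0; 0, 2, 0; 0, 0, 2] !![2, 0, 0; 0, 0, 0; 0, 0, 0] !![0, 0, 0; 0, 0, 0; 0, 0, 0] !![1, 0, 0; 0, 2, 0; 0, 0, 2]
  let x6 : Matrix (Fin 3 ⊕ Fin 3) (Fin 3 ⊕ Fin 3) (ZMod 3) :=
    fromBlocks !![1, 0, 0; 0, 0, 0; 0, 0, 0] !![0, 0, 0; 0, 1, 0; 0, 0, 1] !![0, 0, 0; 0, 2, 0; 0, 0, 2] !![1, 0, 0; 0, 2, 2; 0, 2, 0]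
  let x10 : Matrix (Fin 3 ⊕ Fin 3) (Fin 3 ⊕ Fin 3) (ZMod 3) :=
    fromBlocks !![1, 0, 0; 0, 1, 0; 0, 0, 1] !![1, 0, 0; 0, 0, 0; 0, 0, 0] !![0, 0, 0; 0, 0, 0; 0, 0, 0] !![1, 0, 0; 0, 1, 0; 0, 0, 1]
  let x15 : Matrix (Fin 3 ⊕ Fin 3) (Fin 3 ⊕ Fin 3) (ZMod 3) :=
    fromBlocks !![1, 0, 0; 0, 2, 0; 0, 0, 2] !![0, 0, 0; 0, 0, 0; 0, 0, 0] !![0, 0, 0; 0, 0, 0; 0, 0, 0] !![1, 0, 0; 0, 2, 0; 0, 0, 2]
  have hx : x * Matrix.J (Fin 3) (ZMod 3) * xᵀ = Matrix.J (Fin 3) (ZMod 3) := by decide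
  have e2 : x * x = x2 := by decide
  have e4 : x2 * x2 = x4 := by decide
  have e5 : x4 * x = x5 := by decide
  have e6 : x5 * x = x6 := by decide
  have e10 : x5 * x5 = x10 := by decide
  have e15 : x10 * x5 = x15 := by decide
  have e30 : x15 * x15 = 1 := by decide
  have n6 : x6 ≠ 1 ∧ x6 ≠ -1 := by decide
  have n10 : x10 ≠ 1 ∧ x10 ≠ -1 := by decide
  have n15 : x15 ≠ 1 ∧ x15 ≠ -1 := by decide
  have p2 : x ^ 2 = x2 := by rw [pow_two, e2]
  have p5 : x ^ 5 = x5 := by rw [show 5 = 2 + 2 + 1 from rfl, pow_add, pow_add, pow_one, p2, e4, e5]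
  have p6 : x ^ 6 = x6 := by rw [pow_succ, p5, e6]
  have p10 : x ^ 10 = x10 := by rw [show 10 = 5 + 5 from rfl, pow_add, p5, e10]
  have p15 : x ^ 15 = x15 := by rw [show 15 = 10 + 5 from rfl, pow_add, p10, p5, e15]
  have p30 : x ^ 30 = 1 := by rw [show 30 = 15 + 15 from rfl, pow_add, p15, e30]
  clear_value x x2 x4 x5 x6 x10 x15
  set c : ZMod 3 →+* F := ZMod.castHom (dvd_refl 3) F
  have hcinj : Function.Injective (c.mapMatrix : Matrix (Fin 3 ⊕ Fin 3) (Fin 3 ⊕ Fin 3) (ZMod 3) → _) :=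
    fun A B h => Matrix.map_injective c.injective h
  have hJ : c.mapMatrix (Matrix.J (Fin 3) (ZMod 3)) = Matrix.J (Fin 3) F := by
    ext (i | i) (j | j) <;> simp [Matrix.J, Matrix.one_apply, apply_ite c]
  have hmem : c.mapMatrix x ∈ Matrix.symplecticGroup (Fin 3) F := by
    rw [SymplecticGroup.mem_iff]
    have h := congrArg c.mapMatrix hx
    rw [map_mul, map_mul, hJ] at h
    rwa [RingHom.mapMatrix_apply c xᵀ, Matrix.transpose_map] at h
  refine ⟨QuotientGroup.mk (⟨c.mapMatrix x, hmem⟩ : Matrix.symplecticGroup (Fin 3) F), ?_⟩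
  have hk : ∀ k, (QuotientGroup.mk (⟨c.mapMatrix x, hmem⟩ : Matrix.symplecticGroup (Fin 3) F) : Cfsg.PSp 3 F) ^ k = 1 ↔
      x ^ k = 1 ∨ x ^ k = -1 := fun k => by
    rw [Cfsg.Agent.Lib.SpSpec.mk_pow_eq_one (by norm_num), Subtype.ext_iff]
    simp only [SubmonoidClass.coe_pow, OneMemClass.coe_one]
    rw [← map_pow, ← hcinj.eq_iff (a := x ^ k) (b := 1), ← hcinj.eq_iff (a := x ^ k) (b := -1), map_one,
      map_neg, map_one]
  rw [orderOf_eq_iff (by norm_num)]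
  refine ⟨(hk 30).mpr (Or.inl p30), fun m hm hm0 h => ?_⟩
  set Y := (QuotientGroup.mk (⟨c.mapMatrix x, hmem⟩ : Matrix.symplecticGroup (Fin 3) F) : Cfsg.PSp 3 F)
  have hd : orderOf Y ∣ Nat.gcd m 30 :=
    Nat.dvd_gcd (orderOf_dvd_of_pow_eq_one h) (orderOf_dvd_of_pow_eq_one ((hk 30).mpr (Or.inl p30)))
  have hgd : Nat.gcd m 30 ∣ 30 := Nat.gcd_dvd_right m 30
  have hglt : Nat.gcd m 30 < 30 := lt_of_le_of_lt (Nat.gcd_le_left _ hm0) hm
  have key : Nat.gcd m 30 ∣ 6 ∨ Nat.gcd m 30 ∣ 10 ∨ Nat.gcd m 30 ∣ 15 := by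
    interval_cases Nat.gcd m 30 <;> first | (norm_num at hgd; done) | norm_num
  rcases key with k | k | k <;>
    have hy := orderOf_dvd_iff_pow_eq_one.mp (hd.trans k) <;>
    rw [hk] at hy
  · rw [p6] at hy; exact hy.elim n6.1 n6.2
  · rw [p10] at hy; exact hy.elim n10.1 n10.2
  · rw [p15] at hy; exact hy.elim n15.1 n15.2

theorem exists_six_ten_fourteen_fifteen :
    (∃ y : Cfsg.PSp 3 F, orderOf y = 6) ∧ (∃ y : Cfsg.PSp 3 F, orderOf y = 10) ∧
      (∃ y : Cfsg.PSp 3 F, orderOf y = 14) ∧ ∃ y : Cfsg.PSp 3 F, orderOf y = 15 := by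
  obtain ⟨y, hy⟩ := exists_thirty F
  have h2 : (2 : F) ≠ 0 := by
    intro h
    have h3 : (3 : F) = 0 := CharP.cast_eq_zero F 3
    exact one_ne_zero (by linear_combination h3 - h : (1 : F) = 0)
  obtain ⟨w, hw⟩ := (Cfsg.Agent.Lib.SpSpec.exists_torus_psp (F := F) (n := 3) (by norm_num) h2).2
  rw [hF.out] at hw
  norm_num at hw
  exact ⟨Cfsg.Agent.Lib.SpSpec.exists_orderOf_of_dvd (y := y) (by rw [hy]; norm_num),
    Cfsg.Agent.Lib.SpSpec.exists_orderOf_of_dvd (y := y) (by rw [hy]; norm_num),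
    Cfsg.Agent.Lib.SpSpec.exists_orderOf_of_dvd (y := w) hw,
    Cfsg.Agent.Lib.SpSpec.exists_orderOf_of_dvd (y := y) (by rw [hy]; norm_num)⟩

theorem lift_facts {n : ℕ} (hn : Odd n) (X : Cfsg.PSp 3 F) (hX : orderOf X = n) :
    ∃ y : Matrix.symplecticGroup (Fin 3) F, orderOf y = n := by
  obtain ⟨x, rfl⟩ := QuotientGroup.mk_surjective X
  refine ⟨x ^ 2, Nat.dvd_antisymm (orderOf_dvd_of_pow_eq_one ?_) ?_⟩
  · rcases (Cfsg.Agent.Lib.SpSpec.mk_pow_eq_one (by norm_num) x n).mp (hX ▸ pow_orderOf_eq_one _) with h | h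
    · rw [← pow_mul, mul_comm, pow_mul, h, one_pow]
    · refine Subtype.ext ?_
      rw [← pow_mul, mul_comm, pow_mul, SubmonoidClass.coe_pow, h, neg_one_sq]
      rfl
  · have h := orderOf_map_dvd (QuotientGroup.mk' (Subgroup.center (Matrix.symplecticGroup (Fin 3) F))) (x ^ 2)
    refine (dvd_of_eq ?_).trans h
    rw [map_pow, orderOf_pow' _ (by norm_num : (2 : ℕ) ≠ 0)]
    show n = orderOf (QuotientGroup.mk x : Cfsg.PSp 3 F) / _
    rw [hX]
    show n = n / Nat.gcd (orderOf (QuotientGroup.mk x : Cfsg.PSp 3 F)) 2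
    rw [hX, Nat.coprime_two_right.mpr hn, Nat.div_one]

theorem no_odd_pair {q r : ℕ} (hq : q = 7 ∨ q = 13) (hr : r = 3 ∨ r = 5 ∨ (r = 13 ∧ q = 7)) (X : Cfsg.PSp 3 F) :
    orderOf X ≠ q * r := by
  intro hX
  obtain ⟨y, hy⟩ := lift_facts (by rcases hq with rfl | rfl <;> rcases hr with rfl | rfl | ⟨rfl, -⟩ <;> decide) X hX
  have hr0 : 0 < r := by omega
  have hq0 : 0 < q := by omega
  have hb : orderOf (y ^ r) = q := by
    rw [orderOf_pow, hy, Nat.gcd_eq_right (dvd_mul_left r q), Nat.mul_div_cancel _ hr0]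
  have ha : orderOf (y ^ q) = r := by
    rw [orderOf_pow, hy, Nat.gcd_eq_right (dvd_mul_right q r), Nat.mul_div_cancel_left _ hq0]
  have hcomm : Commute (y ^ q).1 (y ^ r).1 := congrArg Subtype.val ((Commute.refl y).pow_pow q r).eq
  have hbq : (y ^ r).1 ^ q = 1 := by
    rw [← SubmonoidClass.coe_pow]
    exact congrArg Subtype.val (hb ▸ pow_orderOf_eq_one (y ^ r))
  have hb1 : (y ^ r).1 ≠ 1 := fun e => by
    have e' : y ^ r = 1 := Subtype.ext e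
    rw [e', orderOf_one] at hb
    omega
  have key : ∀ e, (y ^ q).1 ^ e = 1 → r ∣ e := fun e h => by
    rw [← ha]
    exact orderOf_dvd_of_pow_eq_one (Subtype.ext (by rw [SubmonoidClass.coe_pow]; exact h))
  rcases hq with rfl | rfl
  · have := key 28 (Symp.centralizer_seven (y ^ r).2 (y ^ 7).2 hbq hb1 hcomm)
    rcases hr with rfl | rfl | ⟨rfl, -⟩ <;> norm_num at this
  · have := key 26 (Symp.centralizer_thirteen (y ^ r).2 (y ^ 13).2 hbq hb1 hcomm).1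
    rcases hr with rfl | rfl | ⟨rfl, h⟩ <;> omega

theorem no_twentysix (X : Cfsg.PSp 3 F) : orderOf X ≠ 26 := by
  intro hX
  obtain ⟨x, rfl⟩ := QuotientGroup.mk_surjective X
  have h26 := (Cfsg.Agent.Lib.SpSpec.mk_pow_eq_one (by norm_num) x 26).mp (hX ▸ pow_orderOf_eq_one _)
  have hne : ∀ k, 0 < k → k < 26 → ¬ (x ^ k = 1 ∨ (x ^ k).1 = -1) := fun k h0 hk h =>
    ((orderOf_eq_iff (by norm_num)).mp hX).2 k hk h0 ((Cfsg.Agent.Lib.SpSpec.mk_pow_eq_one (by norm_num) x k).mpr h)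
  have h26' : (x ^ 26).1 = 1 ∨ (x ^ 26).1 = -1 := h26.imp (congrArg Subtype.val) id
  have hb13 : (x ^ 4).1 ^ 13 = 1 := by
    rw [← SubmonoidClass.coe_pow, ← pow_mul, show 4 * 13 = 26 * 2 from rfl, pow_mul, SubmonoidClass.coe_pow]
    rcases h26' with h | h <;> rw [h]
    · exact one_pow 2
    · exact neg_one_sq
  have hb1 : (x ^ 4).1 ≠ 1 := fun e => hne 4 (by norm_num) (by norm_num) (Or.inl (Subtype.ext e))
  have hcomm : Commute (x ^ 13).1 (x ^ 4).1 := congrArg Subtype.val ((Commute.refl x).pow_pow 13 4).eq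
  obtain ⟨ha, hab⟩ := Symp.centralizer_thirteen (x ^ 4).2 (x ^ 13).2 hb13 hb1 hcomm
  have hsq : (x ^ 13).1 * (x ^ 13).1 = (x ^ 26).1 := by
    rw [show 26 = 13 + 13 from rfl, pow_add]; rfl
  rcases h26' with h | h
  · refine hne 13 (by norm_num) (by norm_num) ?_
    rcases hab (hsq.trans h) with e | e
    · exact Or.inl (Subtype.ext e)
    · exact Or.inr e
  · rw [show 26 = 2 * 13 from rfl, pow_mul, pow_two, hsq, h, Odd.neg_one_pow (by decide)] at ha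
    have h2 := congrFun (congrFun ha (Sum.inl 0)) (Sum.inl 0)
    simp at h2
    have h3 : (3 : F) = 0 := CharP.cast_eq_zero F 3
    exact one_ne_zero (by linear_combination h3 + h2 : (1 : F) = 0)

end Sp

/-- PSp(6,3) shares its prime graph with groups of arbitrarily large order. -/
theorem result {F : Type*} [Field F] [Fintype F] (hF : Fintype.card F = 3) (N : ℕ) :
    ∃ (H : Type) (_ : Group H) (_ : Finite H), N < Nat.card H ∧
      ((∀ p : ℕ, p.Prime → (p ∣ Nat.card (Cfsg.PSp 3 F) ↔ p ∣ Nat.card H)) ∧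
      (∀ p q : ℕ, p.Prime → q.Prime → p ≠ q → ((∃ g : (Cfsg.PSp 3 F), orderOf g = p * q) ↔ (∃ g : H, orderOf g = p * q)))) := by
  haveI : Fact (Nat.Prime 2) := ⟨Nat.prime_two⟩
  haveI : Fact (Nat.Prime 3) := ⟨Nat.prime_three⟩
  haveI : Fact (Fintype.card F = 3) := ⟨hF⟩
  haveI : CharP F 3 := charP_of_card_eq_prime_pow (f := 1) (by rw [hF]; norm_num)
  let K := GaloisField 2 3
  haveI : Fintype K := Fintype.ofFinite K
  haveI : Fact (Fintype.card K = 2 ^ (2 * 1 + 1)) :=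
    ⟨by rw [← Nat.card_eq_fintype_card, GaloisField.card 2 3 (by norm_num)]⟩
  haveI hfin : Finite (H K (N + 1)) := inferInstance
  refine ⟨H K (N + 1), inferInstance, hfin, ?_, ⟨fun p hp => ?_, fun p q hp hq hpq => ?_⟩⟩
  · rw [SemidirectProduct.card, card_L]
    have h1 : N + 1 ≤ Nat.card (Multiplicative (V K (N + 1))) := by
      rw [Nat.card_congr Multiplicative.toAdd, Nat.card_fun, Nat.card_fin]
      have h2 : 2 ≤ Nat.card (M K) := by
        haveI : Nontrivial (M K) := ⟨0, 1, zero_ne_one⟩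
        exact Finite.one_lt_card
      calc N + 1 ≤ 2 ^ (N + 1) := (Nat.lt_two_pow_self).le
        _ ≤ _ := Nat.pow_le_pow_left h2 _
    omega
  · rw [psp_prime p hp, prime_dvd_H (F := K) (Nat.succ_pos N) hp]
  obtain ⟨s6, s10, s14, s15⟩ := exists_six_ten_fourteen_fifteen (F := F)
  have hk : 0 < N + 1 := Nat.succ_pos N
  have mem : ∀ r : ℕ, r.Prime → r ∣ p * q → (∃ g : (Cfsg.PSp 3 F), orderOf g = p * q) ∨ (∃ g : H K (N + 1), orderOf g = p * q) →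
      r = 2 ∨ r = 3 ∨ r = 5 ∨ r = 7 ∨ r = 13 := by
    intro r hr hd h
    have : r ∈ ({2, 3, 5, 7, 13} : Finset ℕ) := by
      rcases h with ⟨g, hg⟩ | ⟨g, hg⟩
      · exact (psp_prime r hr).mp ((hg ▸ hd).trans (orderOf_dvd_natCard g))
      · exact (prime_dvd_H (F := K) hk hr).mp ((hg ▸ hd).trans (orderOf_dvd_natCard g))
    simpa using this
  have yes : ∀ n, n = 6 ∨ n = 10 ∨ n = 14 ∨ n = 15 →
      (∃ g : (Cfsg.PSp 3 F), orderOf g = n) ∧ (∃ g : H K (N + 1), orderOf g = n) := by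
    rintro n (rfl | rfl | rfl | rfl)
    · exact ⟨s6, exists_six K⟩
    · exact ⟨s10, exists_ten K hk⟩
    · exact ⟨s14, exists_fourteen K hk⟩
    · exact ⟨s15, exists_fifteen K⟩
  have hno : ∀ n, n = 21 ∨ n = 26 ∨ n = 35 ∨ n = 39 ∨ n = 65 ∨ n = 91 →
      ¬ (∃ g : (Cfsg.PSp 3 F), orderOf g = n) ∧ ¬ (∃ g : H K (N + 1), orderOf g = n) := by
    rintro n (rfl | rfl | rfl | rfl | rfl | rfl)
    · exact ⟨fun ⟨g, h⟩ => no_odd_pair (q := 7) (r := 3) (by norm_num) (by norm_num) g h,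
        fun ⟨g, h⟩ => H_no_odd (by decide) (no_three_mul (q := 7) (by norm_num)) g h⟩
    · exact ⟨fun ⟨g, h⟩ => no_twentysix g h, fun ⟨g, h⟩ => H_no_two_thirteen g h⟩
    · exact ⟨fun ⟨g, h⟩ => no_odd_pair (q := 7) (r := 5) (by norm_num) (by norm_num) g h,
        fun ⟨g, h⟩ => H_no_odd (by decide) (no_order_coprime (by norm_num) (by norm_num) (by norm_num) (by norm_num) (by norm_num)) g h⟩
    · exact ⟨fun ⟨g, h⟩ => no_odd_pair (q := 13) (r := 3) (by norm_num) (by norm_num) g h,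
        fun ⟨g, h⟩ => H_no_odd (by decide) (no_three_mul (q := 13) (by norm_num)) g h⟩
    · exact ⟨fun ⟨g, h⟩ => no_odd_pair (q := 13) (r := 5) (by norm_num) (by norm_num) g h,
        fun ⟨g, h⟩ => H_no_odd (by decide) (no_order_coprime (by norm_num) (by norm_num) (by norm_num) (by norm_num) (by norm_num)) g h⟩
    · exact ⟨fun ⟨g, h⟩ => no_odd_pair (q := 7) (r := 13) (by norm_num) (by norm_num) g h,
        fun ⟨g, h⟩ => H_no_odd (by decide) (no_order_coprime (by norm_num) (by norm_num) (by norm_num) (by norm_num) (by norm_num)) g h⟩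
  constructor
  · intro h
    have h1 := mem p hp (dvd_mul_right p q) (Or.inl h)
    have h2 := mem q hq (dvd_mul_left q p) (Or.inl h)
    rcases h1 with rfl | rfl | rfl | rfl | rfl <;> rcases h2 with rfl | rfl | rfl | rfl | rfl <;>
      first
      | exact absurd rfl hpq
      | (refine (yes _ ?_).2; norm_num; done)
      | (refine absurd h (hno _ ?_).1; norm_num; done)
  · intro h
    have h1 := mem p hp (dvd_mul_right p q) (Or.inr h)
    have h2 := mem q hq (dvd_mul_left q p) (Or.inr h)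
    rcases h1 with rfl | rfl | rfl | rfl | rfl <;> rcases h2 with rfl | rfl | rfl | rfl | rfl <;>
      first
      | exact absurd rfl hpq
      | (refine (yes _ ?_).1; norm_num; done)
      | (refine absurd h (hno _ ?_).2; norm_num; done)

end Cfsg.Agent.S3664
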