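import Cfsg.Statements.S3669
import Mathlib
import Cfsg.Agent.Lib.Characters
import Cfsg.Agent.Lib.BlockHeights.CharTools
import Cfsg.Agent.Lib.Recognition.OrderSixty
import Cfsg.Agent.S0494

set_option autoImplicit false
set_option linter.style.haveILetI false
open Cfsg
open Cfsg.Agent.Lib.Characters
open Cfsg.Agent.Lib.BlockHeights
open Cfsg.Agent.Lib.Recognition

namespace Cfsg.Agent.S3669

/-- The character degree graph of a finite group has as vertices the primes dividing some irreducible complex character degree, two distinct primes being joined when their product divides some irreducible character degree; two groups have the same character degree graph when they have the same vertices and the same joined pairs. A finite group of order 60 with the same character degree graph as the alternating group A₅ (whose character degrees are 1, 3, 4, 5, so the graph has vertices 2, 3, 5 and no edges) is isomorphic to A₅. -/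
theorem result {G : Type*} [Group G] [Finite G] (hcard : Nat.card G = 60)
    (hΓ : Cfsg.degreePrimes G = Cfsg.degreePrimes (alternatingGroup (Fin 5)) ∧ Cfsg.degreeGraph G = Cfsg.degreeGraph (alternatingGroup (Fin 5))) : Nonempty (G ≃* alternatingGroup (Fin 5)) := by
  classical
  have hC5 : Fintype.card (ConjClasses (alternatingGroup (Fin 5))) = 5 := by decide +kernel
  haveI : Fact (Nat.Prime 5) := ⟨by norm_num⟩
  have hA : Nat.card (alternatingGroup (Fin 5)) = 60 := by
    rw [Nat.card_eq_fintype_card]; decide
  have h5 : 5 ∈ Cfsg.degreePrimes (alternatingGroup (Fin 5)) := by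
    by_contra hno
    haveI := Fintype.ofFinite (IrrCharacter (alternatingGroup (Fin 5)))
    let d : IrrCharacter (alternatingGroup (Fin 5)) → ℕ := fun χ => charDegree (χ : alternatingGroup (Fin 5) → ℂ)
    have hd : ∀ χ : IrrCharacter (alternatingGroup (Fin 5)), (χ : alternatingGroup (Fin 5) → ℂ) 1 = (d χ : ℂ) := fun χ => by
      obtain ⟨n, -, hn⟩ := IsIrrCharacter.exists_apply_one χ.2
      rw [hn, show d χ = n from charDegree_of_apply_one hn]
    have hsum : ∑ χ, d χ ^ 2 = 60 := by
      have h := sum_degree_sq (G := alternatingGroup (Fin 5))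
      simp only [hd, hA] at h
      exact_mod_cast h
    have hn5 : Fintype.card (IrrCharacter (alternatingGroup (Fin 5))) = 5 := by
      rw [← Nat.card_eq_fintype_card, card_irrCharacter, Nat.card_eq_fintype_card, hC5]
    have hmem : ∀ χ, d χ ∈ ({1, 2, 3, 4, 6} : Finset ℕ) := fun χ => by
      have h1 : d χ ∣ 60 := hA ▸ charDegree_dvd_card χ
      have h2 : d χ ^ 2 ≤ 60 := hsum ▸ Finset.single_le_sum (f := fun χ => d χ ^ 2) (fun _ _ => Nat.zero_le _) (Finset.mem_univ χ)
      have h7 : d χ < 8 := by nlinarith
      have hne : ¬ 5 ∣ d χ := fun h => hno ⟨by norm_num, d χ, ⟨χ, rfl⟩, h⟩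
      simp only [Finset.mem_insert, Finset.mem_singleton]
      interval_cases hdd : d χ
      all_goals first | omega | (exfalso; norm_num at h1) | (exfalso; norm_num at hne)
    let e := Fintype.equivFinOfCardEq hn5
    have hs : ∑ i, d (e.symm i) ^ 2 = 60 := by rw [← hsum]; exact Equiv.sum_comp e.symm (fun χ => d χ ^ 2)
    rw [Fin.sum_univ_five] at hs
    have key : ∀ a ∈ ({1, 2, 3, 4, 6} : Finset ℕ), ∀ b ∈ ({1, 2, 3, 4, 6} : Finset ℕ), ∀ c ∈ ({1, 2, 3, 4, 6} : Finset ℕ),
        ∀ d ∈ ({1, 2, 3, 4, 6} : Finset ℕ), ∀ e ∈ ({1, 2, 3, 4, 6} : Finset ℕ), a ^ 2 + b ^ 2 + c ^ 2 + d ^ 2 + e ^ 2 ≠ 60 := by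
      decide +kernel
    exact key _ (hmem _) _ (hmem _) _ (hmem _) _ (hmem _) _ (hmem _) hs
  rw [← hΓ.1] at h5
  obtain ⟨-, k, ⟨χ, hχ⟩, hk⟩ := h5
  obtain ⟨P⟩ : Nonempty (Sylow 5 G) := inferInstance
  have hPc : Nat.card P = 5 := sylow_card_eq_prime P (by rw [hcard]; norm_num) (by rw [hcard]; norm_num)
  have hP : ¬ (P : Subgroup G).Normal := by
    intro hn
    haveI := hn
    haveI : IsCyclic P := isCyclic_of_prime_card hPc
    letI := IsCyclic.commGroup (α := P)
    obtain ⟨n, -, hn'⟩ := IsIrrCharacter.exists_apply_one χ.2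
    have hkn : k = n := hχ.symm.trans (charDegree_of_apply_one hn')
    have hd := IsIrrCharacter.degree_dvd_index_of_abelian χ.2 (P : Subgroup G)
      (fun a ha b hb => congrArg Subtype.val (mul_comm (⟨a, ha⟩ : P) ⟨b, hb⟩)) hn'
    have hidx : (P : Subgroup G).index = 12 := by
      have := (P : Subgroup G).card_mul_index
      rw [hcard, show Nat.card (P : Subgroup G) = 5 from hPc] at this
      omega
    rw [hidx, ← hkn] at hd
    have := hk.trans hd
    norm_num at this
  haveI := isSimpleGroup_of_card_sixty hcard P hP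
  exact Cfsg.Agent.S0494.result hcard


end Cfsg.Agent.S3669
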