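import Cfsg.Prelude.Def_Classical
import Cfsg.Prelude.Def_DegreeGraph
import Cfsg.Agent.Lib.SuThreeSpec.Bridge
import Cfsg.Agent.Lib.SuThreeSpec.MonomialCheck
import Cfsg.Agent.Lib.Characters.Induced
import Cfsg.Agent.Lib.BlockHeights.CharTools
import Mathlib.GroupTheory.SemidirectProduct

/-!
# A solvable group with the order and the degree graph of `PSU(3, 3)`

`PSU(3, 3)` has irreducible characters of degrees 6, 21 and 28, certified as integral combinations
of monomial characters of norm one. The group `(2³ × 3² × 2) ⋊ C₄₂` has one of degree 42.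
-/

set_option autoImplicit false

namespace Cfsg.Agent.S3670

open Cfsg Cfsg.Agent.Lib.Characters Cfsg.Agent.Lib.SuThreeSpec
open Cfsg.Agent.Lib.SuSpec (mat)
open scoped ComplexConjugate

/-! ## The characters of `SU(3, 3)` -/

section Unitary

variable {F : Type*} [Field F] [Fintype F] [CharP F 3] {i : F}

omit [CharP F 3] in
theorem encK_decK {M : M9} (h : M.Ok) : Monomial.decK (Monomial.encK M) = M := by
  obtain ⟨⟨a, b, c⟩, ⟨d, e, f⟩, ⟨g, k, l⟩⟩ := M
  obtain ⟨⟨h1, h2, h3⟩, ⟨h4, h5, h6⟩, h7, h8, h9⟩ := h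
  dsimp only at h1 h2 h3 h4 h5 h6 h7 h8 h9
  simp only [Monomial.decK, Monomial.encK, M9.mk.injEq, V3.mk.injEq]
  omega

theorem decK_ok (k : ℕ) : (Monomial.decK k).Ok := by
  simp only [Monomial.decK, M9.Ok, V3.Ok]
  omega

theorem toM_inj (hi : i * i = -1) {M N : M9} (hM : M.Ok) (hN : N.Ok) (h : toM i M = toM i N) :
    M = N := by
  obtain ⟨⟨a, b, c⟩, ⟨d, e, f⟩, ⟨g, k, l⟩⟩ := M
  obtain ⟨⟨a', b', c'⟩, ⟨d', e', f'⟩, ⟨g', k', l'⟩⟩ := N
  obtain ⟨⟨h1, h2, h3⟩, ⟨h4, h5, h6⟩, h7, h8, h9⟩ := hM
  obtain ⟨⟨j1, j2, j3⟩, ⟨j4, j5, j6⟩, j7, j8, j9⟩ := hN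
  have key := fun r s => congrFun (congrFun h r) s
  simp only [M9.mk.injEq, V3.mk.injEq]
  exact ⟨⟨dec_inj hi h1 j1 (key 0 0), dec_inj hi h2 j2 (key 1 0), dec_inj hi h3 j3 (key 2 0)⟩,
    ⟨dec_inj hi h4 j4 (key 0 1), dec_inj hi h5 j5 (key 1 1), dec_inj hi h6 j6 (key 2 1)⟩,
    dec_inj hi h7 j7 (key 0 2), dec_inj hi h8 j8 (key 1 2), dec_inj hi h9 j9 (key 2 2)⟩

theorem exists_model (hF : Fintype.card F = 9) (hi : i * i = -1) :
    ∃ Mo : Monomial.Model (Cfsg.SU 3 F 3),
      Mo.op = Monomial.opK ∧ Mo.one = Monomial.oneK ∧ Mo.valid = Monomial.validK := by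
  have hex : ∀ g : Cfsg.SU 3 F 3, ∃ M : M9, M.Ok ∧ toM i M = mat g := fun g => by
    obtain ⟨M, h1, h2, -⟩ := exists_code hF hi g
    exact ⟨M, h1, h2⟩
  choose code hok hcode using hex
  have hu : ∀ (g : Cfsg.SU 3 F 3) (M : M9), M.Ok → toM i M = mat g → code g = M := fun g M h1 h2 =>
    toM_inj hi (hok g) h1 ((hcode g).trans h2.symm)
  refine ⟨{
    op := Monomial.opK, one := Monomial.oneK, valid := Monomial.validK
    cd := fun g => Monomial.encK (code g)
    inj := fun g h he => ?_
    cd_one := ?_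
    cd_mul := fun g h => ?_
    exists_valid := fun k hk => ?_ }, rfl, rfl, rfl⟩
  · have hM : code g = code h := by
      rw [← encK_decK (hok g), ← encK_decK (hok h)]
      exact congrArg Monomial.decK he
    exact Subtype.ext (Subtype.ext (((hcode g).symm.trans (by rw [hM])).trans (hcode h)))
  · refine congrArg Monomial.encK (hu 1 _ (by simp [M9.Ok, V3.Ok]) ?_)
    show _ = (1 : Matrix (Fin 3) (Fin 3) F)
    exact (isId_iff hi (by simp [M9.Ok, V3.Ok])).1 rfl
  · show Monomial.encK _ = Monomial.opK _ _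
    rw [Monomial.opK, encK_decK (hok g), encK_decK (hok h)]
    obtain ⟨h1, h2⟩ := mm_spec (i := i) hi (hok g) (hok h)
    refine congrArg Monomial.encK (hu _ _ h1 ?_)
    rw [h2, hcode, hcode]
    rfl
  · simp only [Monomial.validK, Bool.and_eq_true, Nat.beq_eq] at hk
    obtain ⟨g, hg⟩ := exists_elem hF hi (decK_ok k) hk.1
    exact ⟨g, by rw [hu g _ (decK_ok k) hg.symm, hk.2]⟩

omit [CharP F 3] in
theorem card_SU33 (hF : Fintype.card F = 9) : Nat.card (Cfsg.SU 3 F 3) = 6048 := by
  have h : Fintype.card F = 3 ^ 2 := by rw [hF]; rfl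
  have h1 := Cfsg.Agent.Lib.Classical.card_SU h (n := 3) (by norm_num)
  rw [Cfsg.Agent.Lib.Classical.card_GU h] at h1
  simp [Finset.prod_range_succ, parity_simps] at h1
  omega

theorem exists_degrees (hF : Fintype.card F = 9) (hi : i * i = -1) (d : ℕ)
    (hd : d = 6 ∨ d = 21 ∨ d = 28) :
    ∃ χ : IrrCharacter (Cfsg.SU 3 F 3), charDegree (χ : Cfsg.SU 3 F 3 → ℂ) = d := by
  classical
  obtain ⟨Mo, hop, hone, hval⟩ := exists_model hF hi
  have hT : ∀ j, Monomial.treeOk Mo.op Mo.one Mo.valid (Monomial.data j).T = true := by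
    rw [hop, hone, hval]
    intro j
    fin_cases j
    · exact Monomial.tree0_ok
    · exact Monomial.tree1_ok
    · exact Monomial.tree2_ok
    · exact Monomial.tree3_ok
    · exact Monomial.tree4_ok
    · exact Monomial.tree4_ok
    · exact Monomial.tree4_ok
    · exact Monomial.tree4_ok
  have htr : ∀ j, Monomial.transOk Mo.op Mo.one Mo.valid (Nat.card (Cfsg.SU 3 F 3))
      (Monomial.data j).T (Monomial.data j).tr = true := by
    rw [hop, hone, hval, card_SU33 hF]
    intro j
    fin_cases j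
    · exact Monomial.trans0_ok
    · exact Monomial.trans1_ok
    · exact Monomial.trans2_ok
    · exact Monomial.trans3_ok
    · exact Monomial.trans4_ok
    · exact Monomial.trans4_ok
    · exact Monomial.trans4_ok
    · exact Monomial.trans4_ok
  have hn : ∀ a b, a ≤ b →
      Monomial.ipOk Mo.op (Monomial.data a) (Monomial.data b) (Monomial.gram a b) = true := by
    intro a b hab
    rw [hop]
    have h := Monomial.gram_ok
    simp only [List.all_eq_true, List.mem_finRange, true_implies, Bool.or_eq_true,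
      Bool.not_eq_true', decide_eq_false_iff_not] at h
    exact (h a b).resolve_left (not_not.2 hab)
  have hs : ∀ a b, Monomial.gram a b = Monomial.gram b a := by decide
  rcases hd with rfl | rfl | rfl
  · exact Monomial.exists_irr Mo Monomial.data hT htr Monomial.gram hs hn
      ![-1, 1, 1, 0, -1, -1, -1, 0] 6 (by norm_num) (by decide) (by decide +kernel)
  · exact Monomial.exists_irr Mo Monomial.data hT htr Monomial.gram hs hn
      ![0, 0, 0, -1, 1, 0, 1, 1] 21 (by norm_num) (by decide) (by decide +kernel)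
  · exact Monomial.exists_irr Mo Monomial.data hT htr Monomial.gram hs hn
      ![0, 0, 0, 0, 1, 0, 0, 0] 28 (by norm_num) (by decide) (by decide +kernel)

end Unitary

/-! ## The solvable group -/

/-- The abelian kernel. -/
abbrev V : Type := (ZMod 2 × ZMod 2 × ZMod 2) × (ZMod 3 × ZMod 3) × ZMod 2

/-- The generator of the complement. -/
def stepV (a : V) : V :=
  ((a.1.2.2, a.1.1 + a.1.2.2, a.1.2.1), (-a.2.1.1 - a.2.1.2, -a.2.1.2), a.2.2)

/-- All elements of the kernel. -/
def allV : List V :=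
  let b : List (ZMod 2) := [0, 1]
  let t : List (ZMod 3) := [0, 1, 2]
  b.flatMap fun x => b.flatMap fun y => b.flatMap fun z => t.flatMap fun u => t.flatMap fun v =>
    b.map fun w => ((x, y, z), (u, v), w)

theorem allV_ok : allV.Nodup ∧ allV.length = 144 := by decide +kernel

theorem stepV_add : ∀ a b : V, stepV (a + b) = stepV a + stepV b := by
  intro a b
  simp only [stepV, Prod.fst_add, Prod.snd_add, Prod.mk_add_mk, Prod.mk.injEq]
  refine ⟨⟨trivial, ?_, trivial⟩, ⟨?_, ?_⟩, trivial⟩ <;> abel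

theorem stepV_period : ∀ a ∈ allV, stepV^[42] a = a := by decide +kernel

theorem mem_allV (a : V) : a ∈ allV := by
  have h : allV.toFinset = Finset.univ := Finset.eq_univ_of_card _ (by
    rw [List.toFinset_card_of_nodup allV_ok.1, allV_ok.2]; rfl)
  rw [← List.mem_toFinset, h]
  exact Finset.mem_univ a

theorem stepV_bij : Function.Bijective stepV := by
  rw [← Finite.injective_iff_bijective]
  intro a b h
  rw [← stepV_period a (mem_allV a), ← stepV_period b (mem_allV b)]
  simp only [Function.iterate_succ_apply, h]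

/-- The automorphism. -/
noncomputable def τ : MulAut (Multiplicative V) :=
  MulEquiv.ofBijective (AddMonoidHom.toMultiplicative (AddMonoidHom.mk' stepV stepV_add))
    stepV_bij

theorem τ_pow (k : ℕ) (a : Multiplicative V) :
    Multiplicative.toAdd ((τ ^ k) a) = stepV^[k] (Multiplicative.toAdd a) := by
  induction k generalizing a with
  | zero => rfl
  | succ k ih => rw [pow_succ, MulAut.mul_apply, ih, Function.iterate_succ_apply]; rfl

theorem τ_period : τ ^ 42 = 1 := MulEquiv.ext fun a =>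
  Multiplicative.toAdd.injective ((τ_pow 42 a).trans (stepV_period _ (mem_allV _)))

/-- The action. -/
noncomputable def φ : Multiplicative (ZMod 42) →* MulAut (Multiplicative V) where
  toFun k := τ ^ (Multiplicative.toAdd k).val
  map_one' := rfl
  map_mul' a b := by
    rw [toAdd_mul, ZMod.val_add, ← pow_add, ← pow_mod_orderOf,
      Nat.mod_mod_of_dvd _ (orderOf_dvd_of_pow_eq_one τ_period), pow_mod_orderOf]

/-- The group. -/
abbrev Model : Type := Multiplicative V ⋊[φ] Multiplicative (ZMod 42)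

noncomputable instance : Fintype Model := Fintype.ofEquiv _ SemidirectProduct.equivProd.symm

theorem card_model : Nat.card Model = 6048 := by
  rw [SemidirectProduct.card]
  simp [Nat.card_eq_fintype_card]

theorem solvable_model : Group.IsSolvable Model :=
  solvable_of_ker_le_range (SemidirectProduct.inl : Multiplicative V →* Model)
    SemidirectProduct.rightHom (le_of_eq SemidirectProduct.range_inl_eq_ker_rightHom.symm)

/-- The exponents of the linear character. -/
def expV (a : V) : ℕ := 12 * a.1.1.val + 8 * a.2.1.1.val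

theorem expV_add : ∀ a ∈ allV, ∀ b ∈ allV, expV (a + b) % 24 = (expV a + expV b) % 24 := by
  decide +kernel

theorem orbit_ok : Monomial.sumIs (allV.flatMap fun a =>
    (List.range 42).map fun k => expV a + 23 * expV (stepV^[k] a)) 144 = true := by
  decide +kernel

/-- The linear character. -/
noncomputable def μ : Multiplicative V →* ℂ where
  toFun a := Monomial.ζ ^ expV (Multiplicative.toAdd a)
  map_one' := by simp [expV]
  map_mul' a b := by
    rw [toAdd_mul, Monomial.ζ_mod, expV_add _ (mem_allV _) _ (mem_allV _), ← Monomial.ζ_mod,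
      pow_add]

theorem exists_fortyTwo : ∃ χ : IrrCharacter Model, charDegree (χ : Model → ℂ) = 42 := by
  classical
  let N : Subgroup Model := (SemidirectProduct.inl : Multiplicative V →* Model).range
  let e : Multiplicative V ≃* N := MonoidHom.ofInjective SemidirectProduct.inl_injective
  let lam : N →* ℂ := μ.comp e.symm.toMonoidHom
  haveI := Fintype.ofFinite N
  have hcard : Nat.card N = 144 := by
    rw [← Nat.card_congr e.toEquiv, Nat.card_eq_fintype_card]; simp
  have hidx : N.index = 42 := by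
    have := N.index_mul_card
    rw [hcard, card_model] at this
    omega
  have hlam : ∀ b : Multiplicative V, lam (e b) = μ b := fun b => by simp [lam]
  have hval : ∀ a : Multiplicative V, indFun N lam (SemidirectProduct.inl a : Model) =
      ∑ k : Multiplicative (ZMod 42), μ (φ k a) := by
    intro a
    have key : ∀ p : Multiplicative V × Multiplicative (ZMod 42),
        extendByZero N lam ((SemidirectProduct.equivProd.symm p : Model)⁻¹ *
          SemidirectProduct.inl a * SemidirectProduct.equivProd.symm p) = μ (φ p.2⁻¹ a) := by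
      rintro ⟨b, k⟩
      have h1 : (SemidirectProduct.equivProd.symm (b, k) : Model)⁻¹ * SemidirectProduct.inl a *
          SemidirectProduct.equivProd.symm (b, k) = SemidirectProduct.inl (φ k⁻¹ a) := by
        refine SemidirectProduct.ext ?_ ?_
        · simp [SemidirectProduct.equivProd, mul_comm, mul_left_comm]
        · simp [SemidirectProduct.equivProd]
      rw [h1]
      exact (extendByZero_coe N lam (e _)).trans (hlam _)
    rw [indFun_apply, ← (SemidirectProduct.equivProd (φ := φ)).symm.sum_comp, Fintype.sum_prod_type,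
      hcard]
    simp only [key, Finset.sum_const, Finset.card_univ, nsmul_eq_mul]
    rw [Fintype.sum_equiv (Equiv.inv _) (fun k => μ (φ k⁻¹ a)) (fun k => μ (φ k a)) fun k => rfl]
    simp
  have hnorm : classInner (indFun N lam) (indFun N lam) = 1 := by
    rw [classInner_indFun N _ (isClassFunction_indFun _ _), classInner, hcard,
      ← e.toEquiv.sum_comp]
    have h := Monomial.sum_eq_of_sumIs orbit_ok
    rw [List.flatMap_def, List.map_flatten, List.sum_flatten, List.map_map, List.map_map,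
      ← List.sum_toFinset _ allV_ok.1,
      show allV.toFinset = Finset.univ from Finset.eq_univ_of_forall fun a =>
        List.mem_toFinset.2 (mem_allV a),
      ← Multiplicative.toAdd.sum_comp] at h
    have h2 : ∑ a : Multiplicative V, lam (e a) *
        conj (indFun N lam ((e a : N) : Model)) = (144 : ℂ) := by
      rw [show (144 : ℂ) = ((144 : ℤ) : ℂ) from rfl, ← h]
      refine Finset.sum_congr rfl fun a _ => ?_
      rw [hlam, show ((e a : N) : Model) = SemidirectProduct.inl a from rfl, hval, map_sum,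
        Finset.mul_sum]
      simp only [Function.comp_apply, List.map_map]
      rw [← List.sum_toFinset _ (List.nodup_range (n := 42)), List.toFinset_range,
        ← Fin.sum_univ_eq_sum_range]
      refine Fintype.sum_equiv Multiplicative.toAdd _ _ fun k => ?_
      show μ a * conj (μ ((τ ^ (Multiplicative.toAdd k).val) a)) = _
      simp only [μ, MonoidHom.coe_mk, OneHom.coe_mk, Function.comp_apply, τ_pow]
      rw [Monomial.conj_ζ_pow, ← pow_add]
      rfl
    show (144 : ℂ)⁻¹ * _ = 1
    push_cast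
    have h3 : ∑ x : Multiplicative V, lam (e.toEquiv x) *
        conj (indFun N lam ((e.toEquiv x : N) : Model)) = 144 := h2
    rw [h3]
    norm_num
  have h1 : indFun N lam (1 : Model) = ((42 : ℕ) : ℂ) := by
    rw [indFun_one, hidx]; simp
  exact ⟨⟨_, Cfsg.Agent.Lib.Perm.TwoRowChars.isIrr_of_norm (IsGeneralizedCharacter.indFun _
    (IsCharacter.isGeneralizedCharacter (IsIrrCharacter.isCharacter
      (isIrrCharacter_monoidHom lam)))) hnorm (by norm_num) h1⟩,
    Cfsg.Agent.Lib.BlockHeights.charDegree_of_apply_one h1⟩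

/-! ## The graphs -/

theorem prime_dvd_card {p : ℕ} (hp : p.Prime) (h : p ∣ 6048) : p = 2 ∨ p = 3 ∨ p = 7 := by
  have e : (6048 : ℕ) = 2 ^ 5 * 3 ^ 3 * 7 := by norm_num
  rw [e] at h
  rcases (Nat.Prime.dvd_mul hp).1 h with h | h
  · rcases (Nat.Prime.dvd_mul hp).1 h with h | h
    · exact Or.inl ((Nat.prime_dvd_prime_iff_eq hp Nat.prime_two).1 (hp.dvd_of_dvd_pow h))
    · exact Or.inr (Or.inl ((Nat.prime_dvd_prime_iff_eq hp Nat.prime_three).1 (hp.dvd_of_dvd_pow h)))
  · exact Or.inr (Or.inr ((Nat.prime_dvd_prime_iff_eq hp (by norm_num)).1 h))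

theorem complete_graph {X : Type*} [Group X] [Finite X] (hX : Nat.card X = 6048)
    (h23 : ∃ d ∈ charDegrees X, 2 * 3 ∣ d) (h27 : ∃ d ∈ charDegrees X, 2 * 7 ∣ d)
    (h37 : ∃ d ∈ charDegrees X, 3 * 7 ∣ d) :
    (∀ p, p ∈ degreePrimes X ↔ p = 2 ∨ p = 3 ∨ p = 7) ∧
    ∀ p q, (degreeGraph X).Adj p q ↔
      p ≠ q ∧ (p = 2 ∨ p = 3 ∨ p = 7) ∧ (q = 2 ∨ q = 3 ∨ q = 7) := by
  have hdvd : ∀ d ∈ charDegrees X, d ∣ 6048 := by
    rintro d ⟨χ, rfl⟩
    rw [← hX]
    exact Cfsg.Agent.Lib.BlockHeights.charDegree_dvd_card χ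
  have hP : ∀ p, p ∈ degreePrimes X ↔ p = 2 ∨ p = 3 ∨ p = 7 := fun p => by
    constructor
    · rintro ⟨hp, d, hd, hpd⟩
      exact prime_dvd_card hp (hpd.trans (hdvd d hd))
    · obtain ⟨a, ha, ha'⟩ := h23
      obtain ⟨b, hb, hb'⟩ := h37
      rintro (rfl | rfl | rfl)
      · exact ⟨Nat.prime_two, a, ha, (dvd_mul_right 2 3).trans ha'⟩
      · exact ⟨Nat.prime_three, a, ha, (dvd_mul_left 3 2).trans ha'⟩
      · exact ⟨by norm_num, b, hb, (dvd_mul_left 7 3).trans hb'⟩
  refine ⟨hP, fun p q => ⟨fun h => ?_, fun h => ?_⟩⟩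
  · obtain ⟨hne, hp, hq, d, hd, hpq⟩ := h
    exact ⟨hne, (hP p).1 ⟨hp, d, hd, (dvd_mul_right p q).trans hpq⟩,
      (hP q).1 ⟨hq, d, hd, (dvd_mul_left q p).trans hpq⟩⟩
  · obtain ⟨hne, hp, hq⟩ := h
    refine ⟨hne, ((hP p).2 hp).1, ((hP q).2 hq).1, ?_⟩
    rcases hp with rfl | rfl | rfl <;> rcases hq with rfl | rfl | rfl
    all_goals first
      | exact absurd rfl hne
      | exact h23
      | exact h27
      | exact h37
      | (rw [Nat.mul_comm]; first | exact h23 | exact h27 | exact h37)

theorem result {F : Type*} [Field F] [Fintype F] (hF : Fintype.card F = 9) :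
    ∃ (H : Type) (_ : Group H) (_ : Fintype H), Group.IsSolvable H ∧ Nat.card H = 6048 ∧ Cfsg.degreePrimes H = Cfsg.degreePrimes (Cfsg.PSU 3 F 3) ∧ Cfsg.degreeGraph H = Cfsg.degreeGraph (Cfsg.PSU 3 F 3) := by
  classical
  haveI : Fact (Nat.Prime 3) := ⟨Nat.prime_three⟩
  haveI : CharP F 3 := charP_of_card_eq_prime_pow (f := 2) (by rw [hF]; rfl)
  obtain ⟨i, hi'⟩ := FiniteField.isSquare_neg_one_iff.2 (by rw [hF]; norm_num : Fintype.card F % 4 ≠ 3)
  have hi : i * i = -1 := hi'.symm
  have hc := center_eq_bot (F := F) hF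
  let e : Cfsg.SU 3 F 3 ≃* Cfsg.PSU 3 F 3 :=
    MulEquiv.ofBijective (QuotientGroup.mk' _) ⟨by
      rw [← MonoidHom.ker_eq_bot_iff, QuotientGroup.ker_mk', hc], QuotientGroup.mk'_surjective _⟩
  have hdeg : ∀ d, (d = 6 ∨ d = 21 ∨ d = 28) → d ∈ charDegrees (Cfsg.PSU 3 F 3) := fun d hd => by
    obtain ⟨χ, hχ⟩ := exists_degrees hF hi d hd
    refine ⟨⟨_, IsIrrCharacter.comp_equiv χ.2 e.symm⟩, ?_⟩
    rw [← hχ]
    simp [charDegree]
  have hP : Nat.card (Cfsg.PSU 3 F 3) = 6048 := by
    rw [← Nat.card_congr e.toEquiv, card_SU33 hF]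
  obtain ⟨χ, hχ⟩ := exists_fortyTwo
  have h42 : 42 ∈ charDegrees Model := ⟨χ, hχ⟩
  obtain ⟨p1, g1⟩ := complete_graph card_model ⟨42, h42, by norm_num⟩ ⟨42, h42, by norm_num⟩
    ⟨42, h42, by norm_num⟩
  obtain ⟨p2, g2⟩ := complete_graph hP ⟨6, hdeg 6 (by simp), by norm_num⟩
    ⟨28, hdeg 28 (by simp), by norm_num⟩ ⟨21, hdeg 21 (by simp), by norm_num⟩
  exact ⟨Model, inferInstance, inferInstance, solvable_model, card_model,
    Set.ext fun p => (p1 p).trans (p2 p).symm,
    SimpleGraph.ext (funext₂ fun p q => propext ((g1 p q).trans (g2 p q).symm))⟩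

end Cfsg.Agent.S3670
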