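import Cfsg.Statements.S3678
import Cfsg.Agent.Lib.Recognition.NaturalModule

set_option autoImplicit false
set_option linter.style.haveILetI false
open Cfsg
open Cfsg.Agent.Lib.Recognition
open Matrix

namespace Cfsg.Agent.S3678

/-- The prime graph of a finite group has the prime divisors of its order as vertices, two distinct primes p, q being joined when the group has an element of order pq; two groups have the same prime graph when they have the same prime divisors and the same joined pairs. Let F be the field with 7 elements. There are finite groups of arbitrarily large order with the same prime graph as PSL(2,F) (the graph on {2, 3, 7} with no edges, which is also the prime graph of PSL(2,8)). -/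
theorem result {F : Type*} [Field F] [Fintype F] (hF : Fintype.card F = 7) (N : ℕ) :
    ∃ (H : Type) (_ : Group H) (_ : Finite H), N < Nat.card H ∧
      ((∀ p : ℕ, p.Prime → (p ∣ Nat.card (Matrix.ProjectiveSpecialLinearGroup (Fin 2) F) ↔ p ∣ Nat.card H)) ∧
      (∀ p q : ℕ, p.Prime → q.Prime → p ≠ q → ((∃ g : (Matrix.ProjectiveSpecialLinearGroup (Fin 2) F), orderOf g = p * q) ↔ (∃ g : H, orderOf g = p * q)))) := by
  classical
  have hu' : ∀ u : ZMod 7, (u * u + -1 = 0) ∨ ((u * u + -1) * u + -u = 0) ∨ (((((u * u + -1) * u + -u) * u + -(u * u + -1)) * u + -((u * u + -1) * u + -u)) * u + -(((u * u + -1) * u + -u) * u + -(u * u + -1)) = 0) := by decide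
  haveI : Fact (Nat.Prime 7) := ⟨by norm_num⟩
  haveI : Fact (Nat.Prime 2) := ⟨by norm_num⟩
  -- elements of SL(2,8)
  let E := GaloisField 2 3
  haveI : Fintype E := Fintype.ofFinite E
  haveI : CharP E 2 := inferInstance
  have hE : Fintype.card E = 8 := by rw [← Nat.card_eq_fintype_card, GaloisField.card 2 3 (by norm_num)]; norm_num
  have hE8 : ∀ a : E, a ^ 8 = a := fun a => by
    have := FiniteField.pow_card a
    rwa [hE] at this
  have key8 : ∀ z : SpecialLinearGroup (Fin 2) E, z ^ 2 = 1 ∨ z ^ 7 = 1 ∨ z ^ 9 = 1 := by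
    intro z
    set t : E := (z : Matrix (Fin 2) (Fin 2) E).trace with htdef
    have h2 := sl2_mul_self z
    rw [← htdef] at h2
    set M : Matrix (Fin 2) (Fin 2) E := (z : Matrix (Fin 2) (Fin 2) E)
    have hneg : ∀ x : Matrix (Fin 2) (Fin 2) E, x - 1 = x + 1 := fun x => by
      ext i j
      rw [Matrix.sub_apply, Matrix.add_apply, CharTwo.sub_eq_add]
    rw [hneg] at h2
    by_cases ht : t = 0
    · left
      apply Matrix.SpecialLinearGroup.ext
      intro i j
      rw [sq, Matrix.SpecialLinearGroup.coe_mul, h2, ht, zero_smul, zero_add, Matrix.SpecialLinearGroup.coe_one]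
    right
    have h22 : (2 : E) = 0 := CharTwo.two_eq_zero
    have hsq : ∀ a b : E, (a • M + b • 1) * (a • M + b • 1) = (a * a * t) • M + (a * a + b * b) • 1 := by
      intro a b
      simp only [add_mul, mul_add, smul_mul_assoc, mul_smul_comm, one_mul, mul_one, h2, smul_add, smul_smul]
      ext i j
      simp only [Matrix.add_apply, Matrix.smul_apply, smul_eq_mul]
      linear_combination (a * b * M i j) * h22
    have h4 : M ^ 2 = t • M + (1 : E) • 1 := by rw [sq, h2, one_smul]
    have h8 : M ^ 8 = (t ^ 7) • M + (t ^ 6 + t ^ 4 + 1) • 1 := by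
      rw [show (8 : ℕ) = 2 * 2 * 2 from rfl, pow_mul, pow_mul, h4, sq (t • M + (1 : E) • 1), hsq, sq, hsq]
      congr 2 <;> first | linear_combination (t ^ 2) * h22 | ring
    have ht7 : t ^ 7 = 1 := mul_right_cancel₀ ht (by rw [one_mul, ← pow_succ, hE8])
    set c := t ^ 6 + t ^ 4 + 1 with hc
    rw [ht7, one_smul] at h8
    have hcases : c = 0 ∨ c = t := by
      have h : c * (c + t) = 0 := by
        rw [hc]
        linear_combination (t ^ 5 + t + 1) * ht7 + (t ^ 10 + t ^ 6 + t ^ 4 + t ^ 5 + t + 1) * h22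
      rcases mul_eq_zero.1 h with h | h
      · exact Or.inl h
      · exact Or.inr (by linear_combination h - t * h22)
    rcases hcases with h | h
    · left
      have hz : z ^ 8 = z := by
        apply Matrix.SpecialLinearGroup.ext
        intro i j
        rw [Matrix.SpecialLinearGroup.coe_pow, h8, h, zero_smul, add_zero]
      exact mul_right_cancel (b := z) (by rw [← pow_succ, one_mul]; exact hz)
    · right
      apply Matrix.SpecialLinearGroup.ext
      intro i j
      rw [Matrix.SpecialLinearGroup.coe_pow, pow_succ, h8, add_mul, h2, smul_mul_assoc, one_mul, h,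
        Matrix.SpecialLinearGroup.coe_one]
      simp only [Matrix.add_apply, Matrix.smul_apply, smul_eq_mul]
      linear_combination (t * M i j) * h22
  have div8 : ∀ (z : SpecialLinearGroup (Fin 2) E), orderOf z ∣ 2 ∨ orderOf z ∣ 7 ∨ orderOf z ∣ 9 := fun z => by
    rcases key8 z with h | h | h
    exacts [Or.inl (orderOf_dvd_of_pow_eq_one h), Or.inr (Or.inl (orderOf_dvd_of_pow_eq_one h)), Or.inr (Or.inr (orderOf_dvd_of_pow_eq_one h))]
  -- elements of PSL(2,7)
  haveI : CharP F 7 := charP_of_card_eq_prime (by rw [← hF])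
  let f7 : ZMod 7 ≃+* F := ZMod.ringEquiv F hF
  have key7 : ∀ g : Matrix.ProjectiveSpecialLinearGroup (Fin 2) F, g ^ 3 = 1 ∨ g ^ 4 = 1 ∨ g ^ 7 = 1 := by
    intro g
    obtain ⟨z, rfl⟩ := QuotientGroup.mk'_surjective (Subgroup.center (SpecialLinearGroup (Fin 2) F)) g
    have hcen : ∀ m : ℕ, ∀ s : F, ((z : Matrix (Fin 2) (Fin 2) F)) ^ m = s • 1 → (QuotientGroup.mk' (Subgroup.center (SpecialLinearGroup (Fin 2) F)) z) ^ m = 1 := by
      intro m s h
      rw [← map_pow]
      refine (QuotientGroup.eq_one_iff _).2 (Matrix.SpecialLinearGroup.mem_center_iff.2 ⟨s, ?_, ?_⟩)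
      · have hd := (z ^ m).2
        rw [Matrix.SpecialLinearGroup.coe_pow, h, Matrix.det_smul, Matrix.det_one, mul_one] at hd
        exact hd
      · rw [Matrix.SpecialLinearGroup.coe_pow, h, Matrix.smul_one_eq_diagonal]
        rfl
    set t : F := (z : Matrix (Fin 2) (Fin 2) F).trace with htdef
    have h2 := sl2_mul_self z
    rw [← htdef] at h2
    set M : Matrix (Fin 2) (Fin 2) F := (z : Matrix (Fin 2) (Fin 2) F)
    have hmul : ∀ a b : F, (a • M + b • 1) * M = (a * t + b) • M + (-a) • 1 := by
      intro a b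
      rw [add_mul, smul_mul_assoc, smul_mul_assoc, one_mul, h2, smul_sub, smul_smul, add_smul, neg_smul]
      abel
    have hpow : ∀ (m : ℕ) (a b : F), M ^ m = a • M + b • 1 → M ^ (m + 1) = (a * t + b) • M + (-a) • 1 :=
      fun m a b h => by rw [pow_succ, h, hmul]
    have h1 : M ^ 1 = (1 : F) • M + (0 : F) • 1 := by simp
    have p2 := hpow _ _ _ h1
    have p3 := hpow _ _ _ p2
    have p4 := hpow _ _ _ p3
    have p5 := hpow _ _ _ p4
    have p6 := hpow _ _ _ p5
    have p7 := hpow _ _ _ p6
    simp only [one_mul, add_zero] at p2 p3 p4 p5 p6 p7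
    obtain ⟨u, hu⟩ := f7.surjective t
    rcases hu' u with h | h | h <;> apply congrArg f7 at h <;> simp only [map_add, map_mul, map_neg, map_one, map_zero, hu] at h
    · left
      exact hcen 3 _ (p3.trans (by rw [h, zero_smul, zero_add]))
    · right; left
      exact hcen 4 _ (p4.trans (by rw [h, zero_smul, zero_add]))
    · right; right
      exact hcen 7 _ (p7.trans (by rw [h, zero_smul, zero_add]))
  have div7 : ∀ (g : Matrix.ProjectiveSpecialLinearGroup (Fin 2) F), orderOf g ∣ 3 ∨ orderOf g ∣ 4 ∨ orderOf g ∣ 7 := fun g => by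
    rcases key7 g with h | h | h
    exacts [Or.inl (orderOf_dvd_of_pow_eq_one h), Or.inr (Or.inl (orderOf_dvd_of_pow_eq_one h)), Or.inr (Or.inr (orderOf_dvd_of_pow_eq_one h))]
  have hnopq : ∀ a b p q : ℕ, p.Prime → q.Prime → p ≠ q → a.Prime → p * q ∣ a ^ b → False := by
    intro a b p q hp hq hpq ha h
    exact hpq (((Nat.prime_dvd_prime_iff_eq hp ha).1 (hp.dvd_of_dvd_pow ((dvd_mul_right p q).trans h))).trans
      ((Nat.prime_dvd_prime_iff_eq hq ha).1 (hq.dvd_of_dvd_pow ((dvd_mul_left q p).trans h))).symm)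
  obtain ⟨K, _, _, ⟨e⟩⟩ := exists_type_zero_model (NatExt E N)
  -- both groups have primes 2, 3, 7
  have hprimesP : ∀ p : ℕ, p.Prime → (p ∣ Nat.card (Matrix.ProjectiveSpecialLinearGroup (Fin 2) F) ↔ (p = 2 ∨ p = 3 ∨ p = 7)) := by
    intro p hp
    have hp' := Fact.mk hp
    constructor
    · intro h
      obtain ⟨g, hg⟩ := exists_prime_orderOf_dvd_card' p h
      rcases div7 g with h' | h' | h' <;> rw [hg] at h'
      · exact Or.inr (Or.inl ((Nat.prime_dvd_prime_iff_eq hp (by norm_num)).1 h'))
      · rw [show (4 : ℕ) = 2 ^ 2 from rfl] at h'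
        exact Or.inl ((Nat.prime_dvd_prime_iff_eq hp (by norm_num)).1 (hp.dvd_of_dvd_pow h'))
      · exact Or.inr (Or.inr ((Nat.prime_dvd_prime_iff_eq hp (by norm_num)).1 h'))
    · intro h
      have witness : ∀ (A : SpecialLinearGroup (Fin 2) F) (s : ℕ) (c : F), s.Prime → (A : Matrix (Fin 2) (Fin 2) F) ^ s = c • 1 →
          (∀ r : F, (A : Matrix (Fin 2) (Fin 2) F) ≠ Matrix.scalar (Fin 2) r) → s ∣ Nat.card (Matrix.ProjectiveSpecialLinearGroup (Fin 2) F) := by
        intro A s c hs hA hns
        haveI := Fact.mk hs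
        let g := QuotientGroup.mk' (Subgroup.center (SpecialLinearGroup (Fin 2) F)) A
        have hg : orderOf g = s := by
          refine orderOf_eq_prime ?_ fun h => ?_
          · rw [← map_pow]
            refine (QuotientGroup.eq_one_iff _).2 (Matrix.SpecialLinearGroup.mem_center_iff.2 ⟨c, ?_, ?_⟩)
            · have hd := (A ^ s).2
              rw [Matrix.SpecialLinearGroup.coe_pow, hA, Matrix.det_smul, Matrix.det_one, mul_one] at hd
              exact hd
            · rw [Matrix.SpecialLinearGroup.coe_pow, hA, Matrix.smul_one_eq_diagonal]; rfl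
          · obtain ⟨r, -, hr⟩ := Matrix.SpecialLinearGroup.mem_center_iff.1 ((QuotientGroup.eq_one_iff _).1 h)
            exact hns r hr.symm
        exact hg ▸ orderOf_dvd_natCard g
      have h7 : (7 : F) = 0 := by exact_mod_cast CharP.cast_eq_zero F 7
      rcases h with rfl | rfl | rfl
      · refine witness ⟨!![0, -1; 1, 0], by simp [Matrix.det_fin_two]⟩ 2 (-1) hp ?_ fun r h => ?_
        · ext i j; fin_cases i <;> fin_cases j <;> simp [sq, Matrix.mul_apply, Fin.sum_univ_two]
        · have := congrFun (congrFun h 1) 0; simp at this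
      · refine witness ⟨!![0, -1; 1, -1], by simp [Matrix.det_fin_two]⟩ 3 1 hp ?_ fun r h => ?_
        · ext i j; fin_cases i <;> fin_cases j <;> simp [pow_succ, Matrix.mul_apply, Fin.sum_univ_two]
        · have := congrFun (congrFun h 1) 0; simp at this
      · refine witness ⟨!![1, 1; 0, 1], by simp [Matrix.det_fin_two]⟩ 7 1 hp ?_ fun r h => ?_
        · ext i j; fin_cases i <;> fin_cases j <;> simp [pow_succ, Matrix.mul_apply, Fin.sum_univ_two]
          norm_num
          exact h7
        · have := congrFun (congrFun h 0) 1; simp at this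
  have hprimesE : ∀ p : ℕ, p.Prime → (p ∣ Nat.card (SpecialLinearGroup (Fin 2) E) ↔ (p = 2 ∨ p = 3 ∨ p = 7)) := by
    intro p hp
    have hp' := Fact.mk hp
    constructor
    · intro h
      obtain ⟨g, hg⟩ := exists_prime_orderOf_dvd_card' p h
      rcases div8 g with h' | h' | h' <;> rw [hg] at h'
      · exact Or.inl ((Nat.prime_dvd_prime_iff_eq hp (by norm_num)).1 h')
      · exact Or.inr (Or.inr ((Nat.prime_dvd_prime_iff_eq hp (by norm_num)).1 h'))
      · rw [show (9 : ℕ) = 3 ^ 2 from rfl] at h'
        exact Or.inr (Or.inl ((Nat.prime_dvd_prime_iff_eq hp (by norm_num)).1 (hp.dvd_of_dvd_pow h')))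
    · intro h
      have witness : ∀ (A : SpecialLinearGroup (Fin 2) E), (A : Matrix (Fin 2) (Fin 2) E) ^ p = 1 → A ≠ 1 → p ∣ Nat.card (SpecialLinearGroup (Fin 2) E) :=
        fun A h1 h2 => (dvd_of_eq (orderOf_eq_prime (Matrix.SpecialLinearGroup.ext _ _ fun i j => by rw [Matrix.SpecialLinearGroup.coe_pow, h1, Matrix.SpecialLinearGroup.coe_one]) h2).symm).trans (orderOf_dvd_natCard A)
      have hne : ∀ (A : SpecialLinearGroup (Fin 2) E) (i j : Fin 2), (A : Matrix (Fin 2) (Fin 2) E) i j ≠ (1 : Matrix (Fin 2) (Fin 2) E) i j → A ≠ 1 :=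
        fun A i j h e => h (by rw [e, Matrix.SpecialLinearGroup.coe_one])
      rcases h with rfl | rfl | rfl
      · refine witness ⟨!![1, 1; 0, 1], by simp [Matrix.det_fin_two]⟩ ?_ (hne _ 0 1 (by simp))
        ext i j
        fin_cases i <;> fin_cases j <;> simp [sq, Matrix.mul_apply, Fin.sum_univ_two, CharTwo.add_self_eq_zero]
      · refine witness ⟨!![0, 1; 1, 1], by simp [Matrix.det_fin_two, CharTwo.neg_eq]⟩ ?_ (hne _ 0 1 (by simp))
        ext i j
        fin_cases i <;> fin_cases j <;> simp [pow_succ, Matrix.mul_apply, Fin.sum_univ_two, CharTwo.add_self_eq_zero, add_assoc]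
      · obtain ⟨a, ha0, ha1⟩ : ∃ a : E, a ≠ 0 ∧ a ≠ 1 := by
          by_contra hcon
          push_neg at hcon
          have : Fintype.card E ≤ 2 := by
            refine (Finset.card_le_card (s := Finset.univ) (t := ({0, 1} : Finset E)) fun a _ => ?_).trans Finset.card_le_two
            rw [Finset.mem_insert, Finset.mem_singleton]
            by_cases h : a = 0
            exacts [Or.inl h, Or.inr (hcon a h)]
          omega
        have ha7 : a ^ 7 = 1 := mul_right_cancel₀ ha0 (by rw [one_mul, ← pow_succ, hE8])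
        refine witness ⟨Matrix.diagonal ![a, a⁻¹], by rw [Matrix.det_diagonal, Fin.prod_univ_two]; exact mul_inv_cancel₀ ha0⟩ ?_ (hne _ 0 0 (by simpa using ha1))
        show (Matrix.diagonal ![a, a⁻¹] ^ 7) = _
        rw [Matrix.diagonal_pow]
        ext i j
        fin_cases i <;> fin_cases j <;> simp [ha7]
  refine ⟨K, inferInstance, inferInstance, ?_, fun p hp => ?_, fun p q hp hq hpq => ?_⟩
  · exact (lt_natExt_card E N).trans_le (Nat.card_congr e.toEquiv).le
  · rw [hprimesP p hp, ← Nat.card_congr e.toEquiv, natExt_prime_dvd E N p hp, hprimesE p hp]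
  · constructor
    · rintro ⟨g, hg⟩
      exfalso
      rcases div7 g with h | h | h <;> rw [hg] at h
      · exact hnopq 3 1 p q hp hq hpq (by norm_num) (by simpa using h)
      · exact hnopq 2 2 p q hp hq hpq (by norm_num) (by simpa using h)
      · exact hnopq 7 1 p q hp hq hpq (by norm_num) (by simpa using h)
    · rintro ⟨g, hg⟩
      exfalso
      obtain ⟨s, hs⟩ := (natExt_orderOf_iff E N p q hp hq hpq).1 ⟨e.symm g, by rw [MulEquiv.orderOf_eq, hg]⟩
      rcases div8 s with h | h | h <;> rw [hs] at h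
      · exact hnopq 2 1 p q hp hq hpq (by norm_num) (by simpa using h)
      · exact hnopq 7 1 p q hp hq hpq (by norm_num) (by simpa using h)
      · exact hnopq 3 2 p q hp hq hpq (by norm_num) (by simpa using h)


end Cfsg.Agent.S3678
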