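import Cfsg.Statements.S3680
import Mathlib
import Cfsg.Agent.Lib.Recognition.MinimalNormalPower
import Cfsg.Agent.Lib.Recognition.Burnside

set_option autoImplicit false
set_option linter.style.haveILetI false
open Cfsg
open MulAction
open Cfsg.Agent.Lib.Recognition

namespace Cfsg.Agent.S3680

/-- The socle of a finite primitive permutation group. Let a finite group G act faithfully and primitively on a set Ω, and let N be the subgroup generated by the minimal normal subgroups of G. Then either N is an elementary abelian p-group for some prime p and acts regularly on Ω (transitively with trivial point stabilizers), or N is isomorphic to a direct product of m ≥ 1 copies of a non-abelian simple group. -/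
theorem result {G Ω : Type*} [Group G] [Finite G] [MulAction G Ω] [FaithfulSMul G Ω] [Finite Ω]
    (hprim : MulAction.IsPreprimitive G Ω) (N : Subgroup G)
    (hN : N = sSup {V : Subgroup G | V.Normal ∧ V ≠ ⊥ ∧ ∀ M : Subgroup G, M.Normal → M ≤ V → M = ⊥ ∨ M = V}) :
    (∃ p : ℕ, p.Prime ∧ IsMulCommutative N ∧ (∀ x : N, x ^ p = 1) ∧
      MulAction.IsPretransitive N Ω ∧ ∀ ω : Ω, MulAction.stabilizer N ω = ⊥) ∨
    (∃ (T : Type) (_ : Group T) (m : ℕ), 1 ≤ m ∧ IsSimpleGroup T ∧ ¬ IsMulCommutative T ∧ Nonempty (N ≃* (Fin m → T))) := by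
  classical
  set 𝒱 := {V : Subgroup G | V.Normal ∧ V ≠ ⊥ ∧ ∀ M : Subgroup G, M.Normal → M ≤ V → M = ⊥ ∨ M = V} with h𝒱
  by_cases hG : (⊥ : Subgroup G) = ⊤
  · left
    have hNb : N = ⊥ := le_bot_iff.1 (hG ▸ le_top)
    refine ⟨2, Nat.prime_two, ?_, ?_, ?_, ?_⟩
    · subst hNb; infer_instance
    · intro x
      have : Subsingleton N := by subst hNb; infer_instance
      exact Subsingleton.elim _ _
    · refine ⟨fun a b => ⟨1, ?_⟩⟩
      obtain ⟨g, hg⟩ := hprim.exists_smul_eq a b
      have h1 : g = 1 := Subgroup.mem_bot.1 (hG.symm ▸ Subgroup.mem_top g)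
      rw [h1, one_smul] at hg
      rw [one_smul]; exact hg
    · intro ω
      have : Subsingleton N := by subst hNb; infer_instance
      exact Subsingleton.elim _ _
  haveI := hprim
  have htr : ∀ M : Subgroup G, M.Normal → M ≠ ⊥ → IsPretransitive M Ω := by
    intro M hM hM1
    apply IsQuasiPreprimitive.isPretransitive_of_normal
    intro h
    obtain ⟨r, hr, hr1⟩ := M.bot_or_exists_ne_one.resolve_left hM1
    apply hr1
    apply eq_of_smul_eq_smul (α := Ω)
    intro x
    rw [one_smul]
    have hx : x ∈ fixedPoints M Ω := h ▸ Set.mem_univ x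
    exact hx ⟨r, hr⟩
  obtain ⟨V, ⟨hVn, hV1⟩, hVmin'⟩ :=
    exists_minimal_of_wellFoundedLT (fun M : Subgroup G => M.Normal ∧ M ≠ ⊥) ⟨⊤, inferInstance, Ne.symm hG⟩
  haveI := hVn
  have hVmin : ∀ M : Subgroup G, M.Normal → M ≤ V → M = ⊥ ∨ M = V := fun M hM hMV => by
    by_cases h : M = ⊥
    · exact Or.inl h
    · exact Or.inr (le_antisymm hMV (hVmin' ⟨hM, h⟩ hMV))
  have hVmem : V ∈ 𝒱 := ⟨hVn, hV1, hVmin⟩
  -- distinct minimal normal subgroups commute
  have hcomm : ∀ A ∈ 𝒱, ∀ B ∈ 𝒱, A ≠ B → ∀ x ∈ A, ∀ y ∈ B, Commute x y := by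
    rintro A ⟨hA, hA1, hAmin⟩ B ⟨hB, hB1, hBmin⟩ hne x hx y hy
    refine Subgroup.commute_of_normal_of_disjoint A B hA hB ?_ x y hx hy
    rw [disjoint_iff]
    rcases hAmin (A ⊓ B) (Subgroup.normal_inf_normal A B) inf_le_left with h | h
    · exact h
    · rcases hBmin A hA (h ▸ inf_le_right) with h' | h'
      · exact absurd h' hA1
      · exact absurd h' hne
  have hreg : ∀ A ∈ 𝒱, ∀ B : Subgroup G, B.Normal → B ≠ ⊥ → (∀ x ∈ A, ∀ y ∈ B, Commute x y) → ∀ ω : Ω, stabilizer A ω = ⊥ := by
    intro A hA B hB hB1 hc ω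
    haveI := htr B hB hB1
    rw [Subgroup.eq_bot_iff_forall]
    intro x hx
    exact Subtype.ext (eq_one_of_commute_transitive B (x : G) (fun y hy => ((hc x x.2 y hy).eq).symm) ω hx)
  obtain ⟨T, iT, m, hTs, hm, ⟨e⟩⟩ := minimal_normal_eq_power V hV1 hVmin
  have hnonemptyΩ : Nonempty Ω ∨ IsEmpty Ω := (isEmpty_or_nonempty Ω).symm
  rcases hnonemptyΩ with ⟨⟨ω₀⟩⟩ | hΩ
  swap
  · exfalso
    apply hG
    rw [eq_comm, Subgroup.eq_bot_iff_forall]
    intro g _
    exact eq_of_smul_eq_smul (α := Ω) fun x => hΩ.elim x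
  by_cases hTc : IsMulCommutative T
  · left
    haveI := hTc
    letI : CommGroup T := { iT with mul_comm := fun a b => hTc.is_comm.comm a b }
    haveI : Finite T := Finite.of_surjective (fun v : V => e v ⟨0, hm⟩) (fun t => ⟨e.symm fun _ => t, by simp⟩)
    haveI : IsSimpleGroup T := hTs
    have hp : (Nat.card T).Prime := IsSimpleGroup.prime_card
    have hVc : ∀ x ∈ V, ∀ y ∈ V, Commute x y := fun x hx y hy => by
      have h : (⟨x, hx⟩ : V) * ⟨y, hy⟩ = ⟨y, hy⟩ * ⟨x, hx⟩ := e.injective (by rw [map_mul, map_mul, mul_comm])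
      exact congrArg Subtype.val h
    have hVreg := hreg V hVmem V hVn hV1 hVc
    have huniq : ∀ W ∈ 𝒱, W ≤ V := by
      intro W hW
      by_contra hWV
      have hne : W ≠ V := fun h => hWV h.le
      haveI := htr V hVn hV1
      apply hWV
      intro w hw
      obtain ⟨v, hv⟩ := exists_smul_eq V ω₀ (w • ω₀)
      have h1 : (v : G)⁻¹ * w = 1 := eq_one_of_commute_transitive V _ (fun y hy => by
        have a1 : Commute y ((v : G)⁻¹) := (hVc y hy v v.2).inv_right
        have a2 : Commute y w := (hcomm W hW V hVmem hne w hw y hy).symm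
        exact (a1.mul_right a2).eq) ω₀ (by
        rw [mul_smul, ← hv, Subgroup.smul_def, inv_smul_smul])
      rw [← inv_mul_eq_one.1 h1]
      exact v.2
    have hNV : N = V := by
      rw [hN]
      exact le_antisymm (sSup_le huniq) (le_sSup hVmem)
    subst hNV
    refine ⟨Nat.card T, hp, ⟨⟨fun x y => Subtype.ext (hVc x x.2 y y.2)⟩⟩, fun x => ?_, htr _ hVn hV1, hVreg⟩
    apply e.injective
    rw [map_pow, map_one]
    funext i
    rw [Pi.pow_apply, pow_card_eq_one', Pi.one_apply]
  right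
  by_cases h2 : ∀ W ∈ 𝒱, W = V
  · have hNV : N = V := by
      rw [hN]
      exact le_antisymm (sSup_le fun W hW => (h2 W hW).le) (le_sSup hVmem)
    subst hNV
    exact ⟨T, iT, m, hm, hTs, hTc, ⟨e⟩⟩
  push Not at h2
  obtain ⟨W, hW, hWV⟩ := h2
  haveI := hW.1
  haveI hVt := htr V hVn hV1
  haveI hWt := htr W hW.1 hW.2.1
  have hVW := hcomm W hW V hVmem hWV
  have hWreg := hreg W hW V hVn hV1 hVW
  have hVreg := hreg V hVmem W hW.1 hW.2.1 (fun x hx y hy => (hVW y hy x hx).symm)
  have hcent : ∀ z : G, (∀ v ∈ V, Commute v z) → z ∈ W := by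
    intro z hz
    obtain ⟨w, hw⟩ := exists_smul_eq W ω₀ (z • ω₀)
    have h1 : (w : G)⁻¹ * z = 1 := eq_one_of_commute_transitive V _ (fun y hy => by
      have a1 : Commute y ((w : G)⁻¹) := (hVW w w.2 y hy).symm.inv_right
      exact (a1.mul_right (hz y hy)).eq) ω₀ (by
      rw [mul_smul, ← hw, Subgroup.smul_def, inv_smul_smul])
    rw [← inv_mul_eq_one.1 h1]
    exact w.2
  have honly : ∀ U ∈ 𝒱, U ≤ V ⊔ W := by
    intro U hU
    by_cases h : U = V
    · exact h.le.trans le_sup_left
    · exact fun u hu => Subgroup.mem_sup_right (hcent u fun v hv => (hcomm U hU V hVmem h u hu v hv).symm)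
  have hNVW : N = V ⊔ W := by
    rw [hN]
    exact le_antisymm (sSup_le honly) (sup_le (le_sSup hVmem) (le_sSup hW))
  -- the isomorphism of the two factors
  have hτ : ∀ v : V, ∃ w : W, w • ω₀ = v⁻¹ • ω₀ := fun v => exists_smul_eq W ω₀ _
  choose τ hτ using hτ
  have hWinj : ∀ w w' : W, w • ω₀ = w' • ω₀ → w = w' := by
    intro w w' h
    have : w'⁻¹ * w ∈ stabilizer W ω₀ := by rw [mem_stabilizer_iff, mul_smul, h, inv_smul_smul]
    rw [hWreg, Subgroup.mem_bot, inv_mul_eq_one] at this
    exact this.symm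
  have hswap : ∀ (w : W) (v : V) (x : Ω), w • v • x = v • w • x := fun w v x => by
    show (w : G) • (v : G) • x = (v : G) • (w : G) • x
    rw [smul_smul, smul_smul, (hVW w w.2 v v.2).eq]
  let φ : V →* W :=
    { toFun := τ
      map_one' := hWinj _ _ (by rw [hτ, inv_one, one_smul, one_smul])
      map_mul' := fun a b => hWinj _ _ (by
        rw [hτ, mul_smul, hτ, hswap, hτ, smul_smul, mul_inv_rev]) }
  have hφ : Function.Bijective φ := by
    constructor
    · intro a b h
      have h' : a⁻¹ • ω₀ = b⁻¹ • ω₀ := by rw [← hτ a, ← hτ b]; exact congrArg (· • ω₀) h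
      have : b * a⁻¹ ∈ stabilizer V ω₀ := by rw [mem_stabilizer_iff, mul_smul, h', smul_inv_smul]
      rw [hVreg, Subgroup.mem_bot, mul_inv_eq_one] at this
      exact this.symm
    · intro w
      obtain ⟨v, hv⟩ := exists_smul_eq V ω₀ (w • ω₀)
      exact ⟨v⁻¹, hWinj _ _ (by show τ v⁻¹ • ω₀ = _; rw [hτ, inv_inv, hv])⟩
  let eW : W ≃* (Fin m → T) := (MulEquiv.ofBijective φ hφ).symm.trans e
  let F : V × W →* G := V.subtype.noncommCoprod W.subtype fun v w => (hVW w w.2 v v.2).symm
  have hFinj : Function.Injective F := by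
    refine (MonoidHom.noncommCoprod_injective _ _ _).2 ⟨V.subtype_injective, W.subtype_injective, ?_⟩
    rw [Subgroup.range_subtype, Subgroup.range_subtype, disjoint_iff]
    rcases hVmin (V ⊓ W) (Subgroup.normal_inf_normal V W) inf_le_left with h | h
    · exact h
    · exfalso
      rcases hW.2.2 V hVn (h ▸ inf_le_right) with h' | h'
      · exact hV1 h'
      · exact hWV h'.symm
  have hFr : F.range = N := by
    rw [hNVW]
    exact (MonoidHom.noncommCoprod_range _ _ _).trans (by rw [Subgroup.range_subtype, Subgroup.range_subtype])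
  refine ⟨T, iT, m + m, by omega, hTs, hTc, ⟨((MulEquiv.subgroupCongr hFr.symm).trans (MonoidHom.ofInjective hFinj).symm).trans ?_⟩⟩
  refine (e.prodCongr eW).trans
    { toFun := fun x i => Fin.append x.1 x.2 i
      invFun := fun x => (fun i => x (Fin.castAdd m i), fun i => x (Fin.natAdd m i))
      left_inv := fun x => Prod.ext (funext fun i => Fin.append_left _ _ i) (funext fun i => Fin.append_right _ _ i)
      right_inv := fun x => Fin.append_castAdd_natAdd (f := x)
      map_mul' := fun x y => funext fun i => by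
        refine Fin.addCases (fun j => ?_) (fun j => ?_) i
        · simp only [Pi.mul_apply, Fin.append_left, Prod.fst_mul]
        · simp only [Pi.mul_apply, Fin.append_right, Prod.snd_mul] }


end Cfsg.Agent.S3680
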