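import Cfsg.Statements.S3681
import Mathlib

set_option autoImplicit false
set_option linter.style.haveILetI false
open Cfsg

namespace Cfsg.Agent.S3681

/-- Bochert's bound for primitive groups. Let a finite group G act faithfully and primitively on a finite set Ω with n elements, and suppose the image of G in the symmetric group of Ω does not contain the alternating group of Ω. Then |G| · ⌊(n + 1)/2⌋! ≤ n!, that is, the index of G in the symmetric group is at least ⌊(n + 1)/2⌋!. -/
theorem result {G Ω : Type*} [Group G] [Finite G] [MulAction G Ω] [FaithfulSMul G Ω] [Fintype Ω] [DecidableEq Ω]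
    (hprim : MulAction.IsPreprimitive G Ω) (hA : ¬ alternatingGroup Ω ≤ (MulAction.toPermHom G Ω).range) :
    Nat.card G * Nat.factorial ((Fintype.card Ω + 1) / 2) ≤ Nat.factorial (Fintype.card Ω) := by
  classical
  haveI := hprim
  set f := MulAction.toPermHom G Ω with hf
  have hinj : Function.Injective f := fun a b hab => eq_of_smul_eq_smul (α := Ω) fun x => congrArg (fun σ : Equiv.Perm Ω => σ x) hab
  let Base : Finset Ω → Prop := fun D => ∀ g : G, (∀ x ∈ D, g • x = x) → g = 1
  have hex : (Finset.univ.filter Base).Nonempty :=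
    ⟨Finset.univ, Finset.mem_filter.2 ⟨Finset.mem_univ _, fun g hg => eq_of_smul_eq_smul (α := Ω) fun x => by rw [hg x (Finset.mem_univ x), one_smul]⟩⟩
  obtain ⟨D, hD, hDmin⟩ := Finset.exists_min_image _ Finset.card hex
  obtain ⟨-, hDb⟩ := Finset.mem_filter.1 hD
  set n := Fintype.card Ω
  have hDn : D.card ≤ n := Finset.card_le_univ D
  by_cases hsmall : 2 * D.card ≤ n
  · have h1 : Nat.card G ≤ n.descFactorial D.card := by
      rw [← Fintype.card_coe D, ← Fintype.card_embedding_eq, ← Nat.card_eq_fintype_card]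
      refine Nat.card_le_card_of_injective
        (fun g => (⟨fun x => g • (x : Ω), fun x y h => Subtype.ext (MulAction.injective g h)⟩ : D ↪ Ω)) ?_
      intro a b hab
      have h2 : b⁻¹ * a = 1 := hDb _ fun x hx => by
        rw [mul_smul, inv_smul_eq_iff]
        exact congrArg (fun e : D ↪ Ω => e ⟨x, hx⟩) hab
      exact (inv_mul_eq_one.1 h2).symm
    calc Nat.card G * ((n + 1) / 2).factorial ≤ n.descFactorial D.card * (n - D.card).factorial :=
          Nat.mul_le_mul h1 (Nat.factorial_le (by omega))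
      _ = n.factorial := by rw [mul_comm, Nat.factorial_mul_descFactorial hDn]
  exfalso
  apply hA
  -- two elements with supports meeting in one point
  have hC : ¬ Base Dᶜ := fun h => by
    have := hDmin Dᶜ (Finset.mem_filter.2 ⟨Finset.mem_univ _, h⟩)
    rw [Finset.card_compl] at this
    omega
  simp only [Base, not_forall] at hC
  obtain ⟨h, hh, hh1⟩ := hC
  obtain ⟨a, ha⟩ : ∃ a, h • a ≠ a := by
    by_contra hc
    push_neg at hc
    exact hh1 (eq_of_smul_eq_smul (α := Ω) fun x => by rw [hc x, one_smul])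
  have haD : a ∈ D := by
    by_contra hc
    exact ha (hh a (Finset.mem_compl.2 hc))
  have hE : ¬ Base (D.erase a) := fun hb => by
    have h2 := hDmin (D.erase a) (Finset.mem_filter.2 ⟨Finset.mem_univ _, hb⟩)
    have := Finset.card_erase_lt_of_mem haD
    omega
  simp only [Base, not_forall] at hE
  obtain ⟨g, hg, hg1⟩ := hE
  have hga : g • a ≠ a := fun hga => hg1 (hDb g fun x hx => by
    by_cases hxa : x = a
    · rw [hxa]; exact hga
    · exact hg x (Finset.mem_erase.2 ⟨hxa, hx⟩))
  set σ := f g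
  set τ := f h
  have hσ : ∀ y, σ y ≠ y → y = a ∨ y ∉ D := by
    intro y hy
    by_contra hc
    push_neg at hc
    exact hy (hg y (Finset.mem_erase.2 ⟨hc.1, hc.2⟩))
  have hτ : ∀ y, τ y ≠ y → y ∈ D := by
    intro y hy
    by_contra hc
    exact hy (hh y (Finset.mem_compl.2 hc))
  have hmeet : ∀ y, σ y ≠ y → τ y ≠ y → y = a := fun y h1 h2 => (hσ y h1).resolve_right (fun h3 => h3 (hτ y h2))
  have hσa : σ a ≠ a := hga
  have hτa : τ a ≠ a := ha
  have mv : ∀ (π : Equiv.Perm Ω) y, π y ≠ y → π (π y) ≠ π y := fun π y hy h => hy (π.injective h)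
  have ais : ∀ (π : Equiv.Perm Ω) y, π (π⁻¹ y) = y := fun π y => π.apply_symm_apply y
  have ias : ∀ (π : Equiv.Perm Ω) y, π⁻¹ (π y) = y := fun π y => π.symm_apply_apply y
  have mv' : ∀ (π : Equiv.Perm Ω) y, π y ≠ y → π (π⁻¹ y) ≠ π⁻¹ y := by
    intro π y hy h
    rw [ais] at h
    exact hy (by conv_lhs => rw [h, ais])
  have fx : ∀ (π : Equiv.Perm Ω) y, π y = y → π⁻¹ y = y := fun π y hy => Equiv.Perm.inv_eq_iff_eq.2 hy.symm
  set k := σ * τ * σ⁻¹ * τ⁻¹ with hk
  have hkv : ∀ y, k y = σ (τ (σ⁻¹ (τ⁻¹ y))) := fun y => rfl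
  have hb : τ (σ a) = σ a := by
    by_contra hc
    exact hσa (hmeet (σ a) (mv σ a hσa) hc)
  have hc' : σ (τ a) = τ a := by
    by_contra hc
    exact hτa (hmeet (τ a) hc (mv τ a hτa))
  have hsupp : k.support = {a, σ a, τ a} := by
    have k1 : k a = σ a := by
      have e1 : σ⁻¹ (τ⁻¹ a) = τ⁻¹ a := fx σ _ (by
        by_contra hc
        have := hmeet _ hc (mv' τ a hτa)
        exact hτa (Equiv.Perm.inv_eq_iff_eq.1 this).symm)
      rw [hkv, e1, ais]
    have k2 : k (σ a) = τ a := by
      rw [hkv, fx τ _ hb, ias, hc']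
    have k3 : k (τ a) = a := by
      have e1 : τ (σ⁻¹ a) = σ⁻¹ a := by
        by_contra hc
        have := hmeet _ (mv' σ a hσa) hc
        exact hσa (Equiv.Perm.inv_eq_iff_eq.1 this).symm
      rw [hkv, ias, e1, ais]
    ext y
    simp only [Equiv.Perm.mem_support, Finset.mem_insert, Finset.mem_singleton]
    constructor
    · intro hy
      by_contra hc
      push_neg at hc
      obtain ⟨h1, h2, h3⟩ := hc
      apply hy
      rw [hkv]
      by_cases hty : τ y = y
      · rw [fx τ y hty]
        by_cases hsy : σ y = y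
        · rw [fx σ y hsy, hty, hsy]
        · have : τ (σ⁻¹ y) = σ⁻¹ y := by
            by_contra hc
            exact h2 (Equiv.Perm.inv_eq_iff_eq.1 (hmeet _ (mv' σ y hsy) hc))
          rw [this, ais]
      · have hsy : σ y = y := by
          by_contra hc
          exact h1 (hmeet y hc hty)
        have : σ (τ⁻¹ y) = τ⁻¹ y := by
          by_contra hc
          exact h3 (Equiv.Perm.inv_eq_iff_eq.1 (hmeet _ hc (mv' τ y hty)))
        rw [fx σ _ this, ais, hsy]
    · rintro (rfl | rfl | rfl)
      · rw [k1]; exact hσa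
      · rw [k2]; intro e; exact hσa (hmeet (σ a) (mv σ a hσa) (by rw [← e]; exact mv τ a hτa))
      · rw [k3]; exact hτa.symm
  have h3 : k.IsThreeCycle := by
    rw [← card_support_eq_three_iff, hsupp, Finset.card_eq_three]
    exact ⟨a, σ a, τ a, Ne.symm hσa, Ne.symm hτa, fun e => hσa (hmeet (σ a) (mv σ a hσa) (by rw [e]; exact mv τ a hτa)), rfl⟩
  haveI : MulAction.IsPreprimitive f.range Ω := by
    refine MulAction.IsPreprimitive.of_surjective
      (f := ({ toFun := id, map_smul' := fun g x => rfl } : MulActionHom (fun g => f.rangeRestrict g) Ω Ω)) Function.surjective_id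
  exact Equiv.Perm.alternatingGroup_le_of_isPreprimitive_of_isThreeCycle_mem inferInstance h3
    (mul_mem (mul_mem (mul_mem ⟨g, rfl⟩ ⟨h, rfl⟩) (inv_mem ⟨g, rfl⟩)) (inv_mem ⟨h, rfl⟩))


end Cfsg.Agent.S3681
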