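import Cfsg.Statements.S3682
import Cfsg.Agent.Lib.ThreeTransp.ThompsonWielandt

set_option autoImplicit false
open Cfsg

namespace Cfsg.Agent.S3682

/-- Wielandt's bound toward the Sims conjecture. Let a finite group G act faithfully and primitively on a set Ω, let a and b be points, and suppose the orbit of b under the stabilizer of a has length d ≥ 2. Then there are a prime p and a normal p-subgroup P of the stabilizer of a, all of whose elements fix b, such that the index of P in the stabilizer of a divides d! · ((d - 1)!)^d. -/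
theorem result {G Ω : Type*} [Group G] [Finite G] [MulAction G Ω] [FaithfulSMul G Ω] [Finite Ω]
    (hprim : MulAction.IsPreprimitive G Ω) (a b : Ω) (d : ℕ) (hd : Nat.card (MulAction.orbit (MulAction.stabilizer G a) b) = d) (h2 : 2 ≤ d) :
    ∃ p : ℕ, p.Prime ∧ ∃ P : Subgroup (MulAction.stabilizer G a), P.Normal ∧ IsPGroup p P ∧ (∀ g : P, ((g : MulAction.stabilizer G a) : G) • b = b) ∧
      P.index ∣ Nat.factorial d * (Nat.factorial (d - 1)) ^ d := by
  classical
  open Cfsg.Agent.Lib.ThreeTransp.ThompsonWielandt in
  have := hprim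
  obtain ⟨g, hg⟩ := MulAction.exists_smul_eq G a b
  set H := MulAction.stabilizer G a with hH
  set K := MulAction.stabilizer G b with hK
  have horb : (H ⊓ K).relIndex H = d := by
    rw [Subgroup.inf_relIndex_left, Subgroup.relIndex,
      show K.subgroupOf H = MulAction.stabilizer ↥H b from Subgroup.ext fun x => Iff.rfl,
      MulAction.index_stabilizer, ← Nat.card_coe_set_eq, hd]
  have hne : H ≠ K := by
    intro h
    rw [← h, inf_idem, Subgroup.relIndex_self] at horb
    omega
  have : Nontrivial Ω := ⟨a, b, fun h => hne (by rw [hH, hK, h])⟩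
  have hmax : ∀ x : Ω, IsCoatom (MulAction.stabilizer G x) := fun x =>
    MulAction.IsPreprimitive.isCoatom_stabilizer_of_isPreprimitive G x
  have hcore : ∀ x : Ω, (MulAction.stabilizer G x).normalCore = ⊥ := fun x => by
    rw [eq_bot_iff]
    intro z hz
    rw [Subgroup.mem_bot]
    refine eq_of_smul_eq_smul fun y : Ω => ?_
    obtain ⟨k, rfl⟩ := MulAction.exists_smul_eq G x y
    have h := Subgroup.normalCore_le _
      ((Subgroup.normalCore_normal _).conj_mem z hz k⁻¹)
    rw [MulAction.mem_stabilizer_iff, inv_inv, mul_smul, mul_smul, inv_smul_eq_iff] at h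
    rw [h, one_smul]
  have e : ↥H ≃* ↥K :=
    (H.equivMapOfInjective _ (MulAut.conj g).injective).trans (MulEquiv.subgroupCongr (by
      rw [hK, ← hg, MulAction.stabilizer_smul_eq_stabilizer_map_conj]))
  obtain ⟨p, hp, P, hle, hn, hpg, hdvd⟩ :=
    Ctx.exists_pGroup_index_dvd ⟨hmax a, hmax b, hne, hcore a, hcore b⟩ e horb
  refine ⟨p, hp, P.subgroupOf H, Subgroup.normal_subgroupOf_of_le_normalizer hn,
    hpg.of_equiv (Subgroup.subgroupOfEquivOfLe (hle.trans inf_le_left)).symm, ?_, hdvd⟩
  intro x
  exact (hle x.2).2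

end Cfsg.Agent.S3682
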