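import Cfsg.Statements.S3683

set_option autoImplicit false
set_option linter.style.haveILetI false
open Cfsg
open MulAction

namespace Cfsg.Agent.S3683

/-- Let a finite group G act faithfully and primitively on a set Ω, and suppose the stabilizer of a point a fixes a second point b ≠ a (a suborbit of length 1 other than {a}). Then the stabilizer of a is trivial and G is cyclic of prime order. -/
theorem result {G Ω : Type*} [Group G] [Finite G] [MulAction G Ω] [FaithfulSMul G Ω] [Finite Ω]
    (hprim : MulAction.IsPreprimitive G Ω) (a b : Ω) (hab : a ≠ b) (hfix : ∀ g : G, g • a = a → g • b = b) :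
    MulAction.stabilizer G a = ⊥ ∧ IsCyclic G ∧ (Nat.card G).Prime := by
  classical
  haveI := hprim
  haveI : Nontrivial Ω := ⟨a, b, hab⟩
  have hmax := (isCoatom_stabilizer_iff_preprimitive (G := G) a).2 hprim
  have hmaxb := (isCoatom_stabilizer_iff_preprimitive (G := G) b).2 hprim
  have heq : stabilizer G a = stabilizer G b := hmax.le_iff_eq hmaxb.1 |>.1 (fun g hg => hfix g hg) |>.symm
  obtain ⟨g, hg⟩ := MulAction.exists_smul_eq G a b
  have hgN : g ∈ Subgroup.normalizer (stabilizer G a : Set G) := by
    rw [Subgroup.mem_normalizer_iff]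
    intro h
    have := stabilizer_smul_eq_stabilizer_map_conj g a
    rw [hg, ← heq] at this
    constructor
    · intro hh
      rw [this]
      exact Subgroup.mem_map_of_mem _ hh
    · intro hh
      rw [this] at hh
      obtain ⟨h', hh', he⟩ := Subgroup.mem_map.1 hh
      have : h' = h := by simpa [mul_assoc] using he
      exact this ▸ hh'
  have hga : g ∉ stabilizer G a := fun h => hab (by rw [← hg]; exact h.symm)
  have hnorm : (stabilizer G a).Normal := by
    rw [← Subgroup.normalizer_eq_top_iff]
    exact hmax.2 _ (lt_of_le_of_ne Subgroup.le_normalizer fun h => hga (h ▸ hgN))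
  have hbot : stabilizer G a = ⊥ := by
    rw [Subgroup.eq_bot_iff_forall]
    intro h hh
    refine eq_of_smul_eq_smul (α := Ω) fun x => ?_
    obtain ⟨k, rfl⟩ := MulAction.exists_smul_eq G a x
    rw [one_smul]
    have : (k⁻¹ * h * k) • a = a := by simpa using hnorm.conj_mem h hh k⁻¹
    rwa [mul_smul, mul_smul, inv_smul_eq_iff] at this
  refine ⟨hbot, ?_⟩
  rw [hbot] at hmax
  haveI : Nontrivial G := ⟨g, 1, fun h => hga (h ▸ one_mem _)⟩
  obtain ⟨p, hp, hpd⟩ := Nat.exists_prime_and_dvd (n := Nat.card G) Finite.one_lt_card.ne'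
  haveI := Fact.mk hp
  obtain ⟨x, hx⟩ := exists_prime_orderOf_dvd_card' p hpd
  have htop : Subgroup.zpowers x = ⊤ := hmax.2 _ (bot_lt_iff_ne_bot.2 fun h => hp.ne_one (by
    rw [← hx, orderOf_eq_one_iff, ← Subgroup.zpowers_eq_bot]; exact h))
  refine ⟨⟨⟨x, fun y => Subgroup.mem_zpowers_iff.1 (htop ▸ Subgroup.mem_top y)⟩⟩, ?_⟩
  rw [← Nat.card_congr (Subgroup.topEquiv (G := G)).toEquiv, ← htop, Nat.card_zpowers, hx]
  exact hp


end Cfsg.Agent.S3683
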