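import Cfsg.Statements.S3684
import Cfsg.Agent.Lib.Recognition.ExtremelyPrimitive

set_option autoImplicit false
set_option linter.style.haveILetI false
open Cfsg
open Cfsg.Agent.Lib.Recognition
open MulAction

namespace Cfsg.Agent.S3684

/-- Let a finite group G act faithfully and primitively on a set Ω, and suppose the stabilizer of a point a has an orbit of length 2. Then the stabilizer of a has order 2 and G is isomorphic to the dihedral group of order 2p for some prime p. -/
theorem result {G Ω : Type*} [Group G] [Finite G] [MulAction G Ω] [FaithfulSMul G Ω] [Finite Ω]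
    (hprim : MulAction.IsPreprimitive G Ω) (a b : Ω) (h2 : Nat.card (MulAction.orbit (MulAction.stabilizer G a) b) = 2) :
    Nat.card (MulAction.stabilizer G a) = 2 ∧ ∃ p : ℕ, p.Prime ∧ Nonempty (G ≃* DihedralGroup p) := by
  classical
  haveI := hprim
  have hab : b ≠ a := by
    rintro rfl
    have : orbit (stabilizer G b) b = {b} := by
      ext x
      refine ⟨?_, fun h => h ▸ mem_orbit_self _⟩
      rintro ⟨k, rfl⟩
      exact k.2
    rw [this, Nat.card_coe_set_eq, Set.ncard_singleton] at h2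
    omega
  haveI : Nontrivial Ω := ⟨b, a, hab⟩
  have hs2 : subdeg G a b = 2 := by rw [← h2, Nat.card_coe_set_eq]; rfl
  set D := stabilizer G a ⊓ stabilizer G b with hD
  have hnorm : ∀ x y : Ω, subdeg G x y = 2 → D = stabilizer G x ⊓ stabilizer G y →
      stabilizer G x ≤ Subgroup.normalizer (D : Set G) := by
    intro x y hxy hDxy
    have hn : (D.subgroupOf (stabilizer G x)).Normal := by
      apply Subgroup.normal_of_index_eq_two
      have e : D.subgroupOf (stabilizer G x) = stabilizer (stabilizer G x) y := by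
        ext k
        rw [Subgroup.mem_subgroupOf, hDxy]
        exact ⟨fun h => h.2, fun h => ⟨k.2, h⟩⟩
      rw [e, index_stabilizer]
      exact hxy
    exact (Subgroup.normal_subgroupOf_iff_le_normalizer (hDxy ▸ inf_le_left)).1 hn
  have hne : stabilizer G b ≠ stabilizer G a := by
    intro h
    have : orbit (stabilizer G a) b = {b} := by
      ext x
      refine ⟨?_, fun h => h ▸ mem_orbit_self _⟩
      rintro ⟨⟨k, hk⟩, rfl⟩
      rw [← h] at hk
      exact hk
    rw [this, Nat.card_coe_set_eq, Set.ncard_singleton] at h2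
    omega
  have hcoat := (isCoatom_stabilizer_iff_preprimitive (G := G) a).2 hprim
  have hcoatb := (isCoatom_stabilizer_iff_preprimitive (G := G) b).2 hprim
  have hsup : stabilizer G a ⊔ stabilizer G b = ⊤ := by
    refine hcoat.2 _ (lt_of_le_of_ne le_sup_left fun h => hne ?_)
    exact ((hcoatb.le_iff_eq hcoat.1).1 (le_trans le_sup_right h.ge)).symm
  haveI hDn : D.Normal := Subgroup.normalizer_eq_top_iff.1 (top_le_iff.1 (hsup ▸ sup_le (hnorm a b hs2 hD)
    (hnorm b a (by rw [subdeg_symm, hs2]) (by rw [hD, inf_comm]))))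
  have hbot : ∀ N : Subgroup G, N.Normal → N ≤ stabilizer G a → N = ⊥ := by
    intro N hN hle
    rw [Subgroup.eq_bot_iff_forall]
    intro d hd
    refine eq_of_smul_eq_smul (α := Ω) fun y => ?_
    obtain ⟨c, rfl⟩ := exists_smul_eq G a y
    have h4 : c⁻¹ * d * c⁻¹⁻¹ ∈ stabilizer G a := hle (hN.conj_mem d hd c⁻¹)
    rw [inv_inv, mem_stabilizer_iff, mul_smul, mul_smul, inv_smul_eq_iff] at h4
    rw [one_smul]; exact h4
  have hD1 : D = ⊥ := hbot D hDn inf_le_left
  have hcard : ∀ x y : Ω, subdeg G x y = 2 → D = stabilizer G x ⊓ stabilizer G y → Nat.card (stabilizer G x) = 2 := by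
    intro x y hxy hDxy
    have e : stabilizer (stabilizer G x) y = ⊥ := by
      rw [Subgroup.eq_bot_iff_forall]
      intro k hk
      have : (k : G) ∈ D := hDxy ▸ ⟨k.2, hk⟩
      rw [hD1, Subgroup.mem_bot] at this
      exact Subtype.ext this
    rw [← hxy, ← Subgroup.index_bot (G := stabilizer G x), ← e, index_stabilizer]
    rfl
  have ha2 := hcard a b hs2 hD
  have hb2 := hcard b a (by rw [subdeg_symm, hs2]) (by rw [hD, inf_comm])
  refine ⟨ha2, ?_⟩
  have hgen : ∀ x : Ω, Nat.card (stabilizer G x) = 2 → ∃ s : G, s ≠ 1 ∧ s * s = 1 ∧ s • x = x ∧ ∀ y ∈ stabilizer G x, y = 1 ∨ y = s := by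
    intro x hx
    obtain ⟨s, hs, hu⟩ := (Nat.card_eq_two_iff' (1 : stabilizer G x)).1 hx
    refine ⟨s, fun h => hs (Subtype.ext h), ?_, s.2, fun y hy => ?_⟩
    · have : (s * s : stabilizer G x) = 1 := by
        by_contra h
        exact hs (mul_eq_left.1 (hu _ h))
      exact congrArg Subtype.val this
    · by_cases h : (⟨y, hy⟩ : stabilizer G x) = 1
      · exact Or.inl (congrArg Subtype.val h)
      · exact Or.inr (congrArg Subtype.val (hu _ h))
  obtain ⟨s, hs1, hss, hsa, hsall⟩ := hgen a ha2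
  obtain ⟨t, ht1, htt, htb, htall⟩ := hgen b hb2
  have hst : s ≠ t := by
    rintro rfl
    exact hs1 ((Subgroup.eq_bot_iff_forall D).1 hD1 s ⟨hsa, htb⟩)
  obtain ⟨u, hu⟩ : ∃ u : G, u = s * t := ⟨_, rfl⟩
  have htu : t = s * u := by rw [hu, ← mul_assoc, hss, one_mul]
  have hu1 : u ≠ 1 := fun h => hst (by rw [htu, h, mul_one])
  have hsinv : s⁻¹ = s := inv_eq_of_mul_eq_one_right hss
  have hconj : s * u * s⁻¹ = u⁻¹ := by
    rw [hu, mul_inv_rev, hsinv, inv_eq_of_mul_eq_one_right htt]; simp only [mul_assoc, ← mul_assoc s s, hss, one_mul]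
  have htop : ∀ K : Subgroup G, s ∈ K → u ∈ K → K = ⊤ := by
    intro K h1 h2
    rw [eq_top_iff, ← hsup]
    refine sup_le (fun y hy => ?_) fun y hy => ?_
    · rcases hsall y hy with rfl | rfl
      exacts [K.one_mem, h1]
    · rcases htall y hy with rfl | rfl
      exacts [K.one_mem, htu ▸ K.mul_mem h1 h2]
  have hWn : ∀ w : G, w ∈ Subgroup.zpowers u → (Subgroup.zpowers w).Normal := by
    intro w hw
    apply Subgroup.normalizer_eq_top_iff.1
    obtain ⟨i, rfl⟩ := hw
    have he : ∀ c : G, (c * u ^ i * c⁻¹ = u ^ i ∨ c * u ^ i * c⁻¹ = (u ^ i)⁻¹) → c ∈ Subgroup.normalizer (Subgroup.zpowers (u ^ i) : Set G) := by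
      intro c hc
      refine Subgroup.mem_normalizer_fintype (S := ((Subgroup.zpowers (u ^ i)) : Set G)) (x := c) fun z hz => ?_
      obtain ⟨j, rfl⟩ := hz
      show c * (u ^ i) ^ j * c⁻¹ ∈ _
      rw [← conj_zpow]
      rcases hc with h | h <;> rw [h]
      · exact ⟨j, rfl⟩
      · exact ⟨-j, by simp [inv_zpow']⟩
    refine htop _ (he s (Or.inr ?_)) (he u (Or.inl ?_))
    · rw [← conj_zpow, hconj, inv_zpow]
    · rw [← zpow_one_add, mul_inv_eq_iff_eq_mul, ← zpow_add_one, add_comm]
  have hC := hWn u (Subgroup.mem_zpowers u)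
  have hsC : s ∉ Subgroup.zpowers u := by
    intro h
    have hc : Subgroup.centralizer {s} = ⊤ := htop _ (Subgroup.mem_centralizer_singleton_iff.2 rfl) (by
      rw [Subgroup.mem_centralizer_singleton_iff]
      obtain ⟨i, rfl⟩ := h
      exact ((Commute.refl u).zpow_right i).eq)
    have hn : (stabilizer G a).Normal := ⟨fun y hy c => by
      have hc' : c ∈ Subgroup.centralizer {s} := hc ▸ Subgroup.mem_top c
      rw [Subgroup.mem_centralizer_singleton_iff] at hc'
      rcases hsall y hy with rfl | rfl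
      · simp
      · rw [hc', mul_inv_cancel_right]; exact hsa⟩
    exact hs1 ((Subgroup.eq_bot_iff_forall _).1 (hbot _ hn le_rfl) s hsa)
  obtain ⟨p, hp, hpn⟩ := Nat.exists_prime_and_dvd (mt orderOf_eq_one_iff.1 hu1)
  haveI := Fact.mk hp
  have hup : u ^ p = 1 := by
    haveI := hWn (u ^ p) (pow_mem (Subgroup.mem_zpowers u) p)
    by_contra hne'
    have hK : stabilizer G a ⊔ Subgroup.zpowers (u ^ p) = ⊤ := by
      refine hcoat.2 _ (lt_of_le_of_ne le_sup_left fun h => ?_)
      have h3 : u ^ p ∈ stabilizer G a := h.ge (Subgroup.mem_sup_right (Subgroup.mem_zpowers _))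
      rcases hsall _ h3 with h4 | h4
      · exact hne' h4
      · exact hsC (h4 ▸ pow_mem (Subgroup.mem_zpowers u) p)
    have huK : u ∈ stabilizer G a ⊔ Subgroup.zpowers (u ^ p) := hK ▸ Subgroup.mem_top u
    rw [Subgroup.mem_sup_of_normal_right] at huK
    obtain ⟨y, hy, z, hz, hyz⟩ := huK
    have hzC : z ∈ Subgroup.zpowers u := by
      obtain ⟨j, rfl⟩ := hz
      exact zpow_mem (pow_mem (Subgroup.mem_zpowers u) p) j
    rcases hsall y hy with rfl | rfl
    · rw [one_mul] at hyz
      obtain ⟨j, rfl⟩ := hz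
      have h5 : u ^ ((p : ℤ) * j - 1) = 1 := by
        rw [zpow_sub, zpow_mul, zpow_natCast, zpow_one]
        exact mul_inv_eq_one.2 hyz
      have h6 : ((p : ℤ)) ∣ (p : ℤ) * j - 1 :=
        (Int.natCast_dvd_natCast.2 hpn).trans (orderOf_dvd_iff_zpow_eq_one.2 h5)
      have h7 : (p : ℤ) ∣ 1 := by
        have := dvd_sub (dvd_mul_right (p : ℤ) j) h6
        simpa using this
      exact hp.not_dvd_one (Int.natCast_dvd_natCast.1 (by exact_mod_cast h7))
    · apply hsC
      rw [show y = u * z⁻¹ by rw [← hyz, mul_inv_cancel_right]]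
      exact mul_mem (Subgroup.mem_zpowers u) (inv_mem hzC)
  have hord : orderOf u = p := orderOf_eq_prime hup hu1
  refine ⟨p, hp, ⟨MulEquiv.symm ?_⟩⟩
  have hadd : ∀ i j : ZMod p, u ^ (i + j).val = u ^ i.val * u ^ j.val := by
    intro i j
    rw [ZMod.val_add, ← pow_add, ← pow_mod_orderOf u (i.val + j.val), hord]
  have hneg : ∀ i j : ZMod p, u ^ (j - i).val = (u ^ i.val)⁻¹ * u ^ j.val := by
    intro i j
    rw [eq_inv_mul_iff_mul_eq, ← hadd, add_sub_cancel]
  have hflip : ∀ i : ℕ, u ^ i * s = s * (u ^ i)⁻¹ := by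
    intro i
    have h8 : (s * u * s⁻¹) ^ i = (u ^ i)⁻¹ := by rw [hconj, inv_pow]
    rw [conj_pow, hsinv] at h8
    calc u ^ i * s = s * s * u ^ i * s := by rw [hss, one_mul]
      _ = s * (s * u ^ i * s) := by group
      _ = _ := by rw [h8]
  let f : DihedralGroup p → G := fun x => match x with
    | DihedralGroup.r i => u ^ i.val
    | DihedralGroup.sr i => s * u ^ i.val
  have hmul : ∀ x y, f (x * y) = f x * f y := by
    rintro (i | i) (j | j)
    · exact hadd i j
    · show s * u ^ (j - i).val = u ^ i.val * (s * u ^ j.val)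
      rw [← mul_assoc, hflip, mul_assoc, ← hneg]
    · show s * u ^ (i + j).val = s * u ^ i.val * u ^ j.val
      rw [hadd, mul_assoc]
    · show u ^ (j - i).val = s * u ^ i.val * (s * u ^ j.val)
      rw [mul_assoc, ← mul_assoc (u ^ i.val) s, hflip, mul_assoc, ← hneg, ← mul_assoc, hss, one_mul]
  refine MulEquiv.ofBijective (MonoidHom.mk' f hmul) ⟨?_, ?_⟩
  · rw [injective_iff_map_eq_one]
    rintro (i | i) h
    · have h9 : p ∣ i.val := by
        have h' := orderOf_dvd_of_pow_eq_one (show u ^ i.val = 1 from h)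
        rwa [hord] at h'
      have h10 := i.val_lt
      rw [DihedralGroup.one_def]
      congr 1
      exact (ZMod.val_eq_zero i).1 (Nat.eq_zero_of_dvd_of_lt h9 h10)
    · exact absurd (by
        have : s = (u ^ i.val)⁻¹ := eq_inv_of_mul_eq_one_left h
        rw [this]; exact inv_mem (pow_mem (Subgroup.mem_zpowers u) _)) hsC
  · intro x
    have : x ∈ (MonoidHom.mk' f hmul).range := by
      rw [htop _ (MonoidHom.mem_range.2 ⟨DihedralGroup.sr 0, ?_⟩) (MonoidHom.mem_range.2 ⟨DihedralGroup.r 1, ?_⟩)]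
      · trivial
      · show s * u ^ (0 : ZMod p).val = s
        rw [ZMod.val_zero, pow_zero, mul_one]
      · show u ^ (1 : ZMod p).val = u
        rw [ZMod.val_one, pow_one]
    exact this


end Cfsg.Agent.S3684
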