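import Cfsg.Statements.S3685
import Cfsg.Statements.S3685
import Cfsg.Agent.Lib.PLocal.SimsClass

set_option autoImplicit false
open Cfsg

namespace Cfsg.Agent.S3685

/-- Let a finite group G act faithfully and primitively on a set Ω, and suppose the stabilizer of a point a has an orbit of length 3. Then the stabilizer of a is isomorphic to one of: the cyclic group of order 3, the symmetric group of degree 3, the dihedral group of order 12, the symmetric group of degree 4, or the direct product of the symmetric group of degree 4 with a group of order 2. -/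
theorem result {G Ω : Type*} [Group G] [Finite G] [MulAction G Ω] [FaithfulSMul G Ω] [Finite Ω]
    (hprim : MulAction.IsPreprimitive G Ω) (a b : Ω) (h3 : Nat.card (MulAction.orbit (MulAction.stabilizer G a) b) = 3) :
    Nonempty (MulAction.stabilizer G a ≃* Multiplicative (ZMod 3)) ∨ Nonempty (MulAction.stabilizer G a ≃* Equiv.Perm (Fin 3)) ∨
      Nonempty (MulAction.stabilizer G a ≃* DihedralGroup 6) ∨ Nonempty (MulAction.stabilizer G a ≃* Equiv.Perm (Fin 4)) ∨
      Nonempty (MulAction.stabilizer G a ≃* Equiv.Perm (Fin 4) × Multiplicative (ZMod 2)) := by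
  rcases Cfsg.Agent.Lib.PLocal.SimsChain.card_three_or_sims hprim a b h3 with h | ⟨k, e, s⟩
  · haveI := Fact.mk Nat.prime_three
    exact Or.inl ⟨mulEquivOfPrimeCardEq (p := 3) h (Nat.card_zmod 3)⟩
  · have h4 := s.le_four
    have h1 := s.pos
    interval_cases k
    · exact Or.inr (Or.inl s.iso_one)
    · exact Or.inr (Or.inr (Or.inl s.iso_two))
    · exact Or.inr (Or.inr (Or.inr (Or.inl s.iso_three)))
    · exact Or.inr (Or.inr (Or.inr (Or.inr s.iso_four)))

end Cfsg.Agent.S3685
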