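import Cfsg.Statements.S3696
import Mathlib

set_option autoImplicit false
set_option linter.style.haveILetI false
open Cfsg
open MulAction

namespace Cfsg.Agent.S3696

/-- Let p be a prime, Ω a finite set with n ≥ p elements, and A an abelian p-subgroup of the symmetric group on Ω whose elements of order dividing p number p^k (so k is the rank of A). Then |A| · k^k ≤ n^k, that is, |A| ≤ (n/k)^k. -/
theorem result {Ω : Type*} [Fintype Ω] [DecidableEq Ω]
    (p : ℕ) (hp : p.Prime) (hn : p ≤ Fintype.card Ω) (A : Subgroup (Equiv.Perm Ω)) (hA : IsPGroup p A) (hab : IsMulCommutative A)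
    (k : ℕ) (hk : Nat.card {x : A // x ^ p = 1} = p ^ k) :
    Nat.card A * k ^ k ≤ Fintype.card Ω ^ k := by
  classical
  haveI := Fact.mk hp
  have amgm : ∀ a b i j : ℕ, 1 ≤ j → a ^ i * b ^ j * (i + j) ^ (i + j) ≤ i ^ i * j ^ j * (a + b) ^ (i + j) := by
    intro a b i j hj
    rcases Nat.eq_zero_or_pos i with rfl | hi
    · simp only [pow_zero, zero_add, one_mul]
      rw [mul_comm]
      exact Nat.mul_le_mul_left _ (Nat.pow_le_pow_left (Nat.le_add_left b a) j)
    have hi' : (0 : ℝ) < i := Nat.cast_pos.2 hi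
    have hj' : (0 : ℝ) < j := Nat.cast_pos.2 hj
    set k : ℝ := (i : ℝ) + j with hk
    have hk' : (0 : ℝ) < k := by positivity
    have hx : (0 : ℝ) ≤ (a : ℝ) / i := by positivity
    have hy : (0 : ℝ) ≤ (b : ℝ) / j := by positivity
    have h := Real.geom_mean_le_arith_mean2_weighted (w₁ := (i : ℝ) / k) (w₂ := (j : ℝ) / k) (by positivity) (by positivity) hx hy
      (by rw [← add_div, ← hk, div_self hk'.ne'])
    have h2 := pow_le_pow_left₀ (by positivity) h (i + j)
    have hkn : ((i + j : ℕ) : ℝ) = k := by push_cast; rfl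
    have e1 : ((a : ℝ) / i) ^ ((i : ℝ) / k) * ((b : ℝ) / j) ^ ((j : ℝ) / k) = 
        ((a : ℝ) / i) ^ ((i : ℝ) / k) * ((b : ℝ) / j) ^ ((j : ℝ) / k) := rfl
    rw [mul_pow, ← Real.rpow_natCast _ (i + j), ← Real.rpow_natCast _ (i + j), ← Real.rpow_mul hx, ← Real.rpow_mul hy,
      hkn, div_mul_cancel₀ _ hk'.ne', div_mul_cancel₀ _ hk'.ne', Real.rpow_natCast, Real.rpow_natCast,
      show (i : ℝ) / k * ((a : ℝ) / i) + (j : ℝ) / k * ((b : ℝ) / j) = ((a : ℝ) + b) / k by field_simp] at h2
    rw [div_pow, div_pow, div_pow, div_mul_div_comm, div_le_div_iff₀ (by positivity) (by positivity)] at h2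
    rw [mul_comm (i ^ i * j ^ j)]
    exact_mod_cast (by rw [hk] at h2; exact h2 : (a : ℝ) ^ i * (b : ℝ) ^ j * ((i : ℝ) + j) ^ (i + j) ≤ ((a : ℝ) + b) ^ (i + j) * ((i : ℝ) ^ i * (j : ℝ) ^ j))
  have hcomm : ∀ x ∈ A, ∀ y ∈ A, x * y = y * x := fun x hx y hy => congrArg Subtype.val (hab.is_comm.comm ⟨x, hx⟩ ⟨y, hy⟩)
  let P : Subgroup (Equiv.Perm Ω) :=
    { carrier := {x | x ∈ A ∧ x ^ p = 1}
      one_mem' := ⟨A.one_mem, one_pow p⟩
      mul_mem' := fun {a b} ha hb => ⟨A.mul_mem ha.1 hb.1, by rw [(show Commute a b from hcomm a ha.1 b hb.1).mul_pow, ha.2, hb.2, one_mul]⟩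
      inv_mem' := fun {a} ha => ⟨A.inv_mem ha.1, by rw [inv_pow, ha.2, inv_one]⟩ }
  let M : Subgroup (Equiv.Perm Ω) → Finset Ω := fun B => Finset.univ.filter fun x => ∃ b ∈ B, b x ≠ x
  have main : ∀ N : ℕ, ∀ B : Subgroup (Equiv.Perm Ω), Nat.card B = N → B ≤ A → ∀ i, Nat.card (P ⊓ B : Subgroup (Equiv.Perm Ω)) = p ^ i →
      Nat.card B * i ^ i ≤ (M B).card ^ i := by
    intro N
    induction N using Nat.strong_induction_on with
    | _ N ih =>
      intro B hB hBA i hi
      by_cases hB1 : B = ⊥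
      · subst hB1
        have h1 : p ^ i = p ^ 0 := by rw [← hi, inf_bot_eq, Subgroup.card_bot, pow_zero]
        obtain rfl : i = 0 := Nat.pow_right_injective hp.two_le h1
        simp [Subgroup.card_bot]
      have hBp : IsPGroup p B := hA.to_le hBA
      obtain ⟨u, hu, hu1⟩ : ∃ u ∈ (P ⊓ B : Subgroup (Equiv.Perm Ω)), u ≠ 1 := by
        haveI : Nontrivial B := (Subgroup.nontrivial_iff_ne_bot B).2 hB1
        obtain ⟨m, hm, hm'⟩ := hBp.nontrivial_iff_card.1 inferInstance
        obtain ⟨g, hg⟩ := exists_prime_orderOf_dvd_card' p (hm' ▸ dvd_pow_self p hm.ne')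
        refine ⟨g, ⟨⟨hBA g.2, ?_⟩, g.2⟩, fun h => ?_⟩
        · rw [← SubgroupClass.coe_pow, ← hg, pow_orderOf_eq_one, OneMemClass.coe_one]
        · rw [← Subgroup.orderOf_coe, h, orderOf_one] at hg; exact hp.ne_one hg.symm
      obtain ⟨x, hx⟩ : ∃ x, u x ≠ x := by
        by_contra h
        push_neg at h
        exact hu1 (Equiv.ext h)
      let K : Subgroup (Equiv.Perm Ω) := B ⊓ stabilizer (Equiv.Perm Ω) x
      have hKB : K ≤ B := inf_le_left
      have hstabK : ∀ b ∈ B, ∀ c ∈ K, c (b x) = b x := by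
        intro b hb c hc
        rw [← Equiv.Perm.mul_apply, hcomm c (hBA hc.1) b (hBA hb), Equiv.Perm.mul_apply]
        rw [show c x = x from hc.2]
      set O := orbit B x with hO
      have hidx : O.ncard = K.relIndex B := by
        rw [hO, ← index_stabilizer]
        have e : stabilizer B x = K.subgroupOf B := by
          ext b
          rw [Subgroup.mem_subgroupOf]
          exact ⟨fun h => ⟨b.2, h⟩, fun h => h.2⟩
        rw [e]; rfl
      have hcard : Nat.card B = Nat.card K * O.ncard := by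
        rw [hidx, ← Subgroup.relIndex_bot_left, ← Subgroup.relIndex_bot_left, Subgroup.relIndex_mul_relIndex _ _ _ bot_le hKB]
      have hlt : Nat.card K < N := by
        rw [← hB]
        rcases Nat.lt_or_ge (Nat.card K) (Nat.card B) with h | h
        · exact h
        · exact absurd ((Subgroup.eq_of_le_of_card_ge hKB h).ge hu.2).2 hx
      obtain ⟨i', hi'⟩ := ((hA.to_le (hKB.trans hBA)).to_le (inf_le_right : P ⊓ K ≤ K)).exists_card_eq
      have hIH := ih _ hlt K rfl (hKB.trans hBA) i' hi'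
      have hPK : (P ⊓ K : Subgroup (Equiv.Perm Ω)) ≤ P ⊓ B := inf_le_inf_left P hKB
      have hii : i' < i := by
        rw [← Nat.pow_lt_pow_iff_right hp.one_lt, ← hi, ← hi']
        rcases Nat.lt_or_ge (Nat.card (P ⊓ K : Subgroup (Equiv.Perm Ω))) (Nat.card (P ⊓ B : Subgroup (Equiv.Perm Ω))) with h | h
        · exact h
        · exact absurd ((Subgroup.eq_of_le_of_card_ge hPK h).ge hu).2.2 hx
      obtain ⟨j, rfl⟩ := Nat.exists_eq_add_of_le hii.le
      have hj : 1 ≤ j := by omega
      have hOj : p ^ j ≤ O.ncard := by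
        have h1 : Nat.card (P ⊓ K : Subgroup (Equiv.Perm Ω)) * (P ⊓ K).relIndex (P ⊓ B) = Nat.card (P ⊓ B : Subgroup (Equiv.Perm Ω)) := by
          rw [← Subgroup.relIndex_bot_left, Subgroup.relIndex_mul_relIndex _ _ _ bot_le hPK, Subgroup.relIndex_bot_left]
        rw [hi, hi', pow_add] at h1
        rw [← Nat.eq_of_mul_eq_mul_left (pow_pos hp.pos i') h1, hidx]
        rw [show P ⊓ K = K ⊓ (P ⊓ B) by
          apply le_antisymm
          · exact le_inf inf_le_right hPK
          · exact le_inf (inf_le_right.trans inf_le_left) inf_le_left, Subgroup.inf_relIndex_right]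
        exact Subgroup.relIndex_le_of_le_right inf_le_right (Subgroup.index_ne_zero_of_finite)
      have hjm : O.ncard * j ^ j ≤ O.ncard ^ j := by
        obtain ⟨l, rfl⟩ := Nat.exists_eq_add_of_le hj
        rw [pow_add O.ncard, pow_one]
        refine Nat.mul_le_mul_left _ ?_
        calc (1 + l) ^ (1 + l) ≤ (2 ^ l) ^ (1 + l) := by
              refine Nat.pow_le_pow_left ?_ _
              rw [add_comm]
              exact Nat.lt_two_pow_self
          _ = (2 ^ (1 + l)) ^ l := by rw [← pow_mul, ← pow_mul, mul_comm]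
          _ ≤ O.ncard ^ l := Nat.pow_le_pow_left ((Nat.pow_le_pow_left hp.two_le _).trans hOj) _
      have hM : (M K).card + O.ncard ≤ (M B).card := by
        rw [Set.ncard_eq_toFinset_card', ← Finset.card_union_of_disjoint]
        · refine Finset.card_le_card fun y hy => ?_
          rw [Finset.mem_union] at hy
          refine Finset.mem_filter.2 ⟨Finset.mem_univ y, ?_⟩
          rcases hy with h | h
          · obtain ⟨-, b, hb, hby⟩ := Finset.mem_filter.1 h
            exact ⟨b, hKB hb, hby⟩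
          · rw [Set.mem_toFinset] at h
            obtain ⟨⟨b, hb⟩, rfl⟩ := h
            refine ⟨u, hu.2, fun h => hx ?_⟩
            change u (b x) = b x at h
            rw [← Equiv.Perm.mul_apply, hcomm u (hBA hu.2) b (hBA hb), Equiv.Perm.mul_apply] at h
            exact b.injective h
        · rw [Finset.disjoint_left]
          intro y hy hyO
          rw [Set.mem_toFinset] at hyO
          obtain ⟨-, c, hc, hcy⟩ := Finset.mem_filter.1 hy
          obtain ⟨⟨b, hb⟩, rfl⟩ := hyO
          exact hcy (hstabK b hb c hc)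
      have h1 := amgm (M K).card O.ncard i' j hj
      refine Nat.le_of_mul_le_mul_right ?_ (show 0 < i' ^ i' * j ^ j from Nat.mul_pos (Nat.pow_self_pos) (Nat.pow_self_pos))
      calc Nat.card B * (i' + j) ^ (i' + j) * (i' ^ i' * j ^ j)
          = (Nat.card K * i' ^ i') * (O.ncard * j ^ j) * (i' + j) ^ (i' + j) := by rw [hcard]; ring
        _ ≤ (M K).card ^ i' * O.ncard ^ j * (i' + j) ^ (i' + j) := by gcongr
        _ ≤ i' ^ i' * j ^ j * ((M K).card + O.ncard) ^ (i' + j) := h1
        _ ≤ i' ^ i' * j ^ j * (M B).card ^ (i' + j) := by gcongr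
        _ = (M B).card ^ (i' + j) * (i' ^ i' * j ^ j) := by ring
  have hPA : Nat.card (P ⊓ A : Subgroup (Equiv.Perm Ω)) = p ^ k := by
    rw [← hk]
    refine Nat.card_congr
      { toFun := fun x => ⟨⟨x.1, x.2.2⟩, Subtype.ext x.2.1.2⟩
        invFun := fun x => ⟨x.1.1, ⟨x.1.2, congrArg Subtype.val x.2⟩, x.1.2⟩
        left_inv := fun _ => rfl
        right_inv := fun _ => rfl }
  exact (main _ A rfl le_rfl k hPA).trans (Nat.pow_le_pow_left ((Finset.card_le_univ _)) k)


end Cfsg.Agent.S3696
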