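import Cfsg.Statements.S3703
import Mathlib
import Cfsg.Agent.Lib.Coprime.Action
import Cfsg.Agent.Lib.Cores.Frattini
import Cfsg.Agent.Lib.Frobenius.Kernel
import Cfsg.Agent.Lib.Solvable.FrobeniusAux

set_option autoImplicit false
open Cfsg
open Pointwise

namespace Cfsg.Agent.S3703

/-- The partition identity of a Frobenius group acting on an abelian group. -/
theorem norm_eq_pow {X V : Type*} [Group X] [CommGroup V] (φ : X →* MulAut V) (A : Subgroup X)
    [Fintype A] (h : X) (m : ℕ) (hm : 0 < m) (hA : ∀ a ∈ A, h * a * h⁻¹ ∈ A)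
    (hfpf : ∀ i, 0 < i → i < m → ∀ a ∈ A, a * h ^ i = h ^ i * a → a = 1)
    (hnorm : ∀ v : V, ∏ i ∈ Finset.range m, φ (h ^ i) v = 1) (v : V) :
    ∏ a : A, φ (a : X) v = v ^ Fintype.card A := by
  have hAi : ∀ i : ℕ, ∀ a ∈ A, h ^ i * a * (h ^ i)⁻¹ ∈ A := by
    intro i
    induction i with
    | zero => intro a ha; simpa using ha
    | succ k ih =>
      intro a ha
      have := hA _ (ih a ha)
      simpa [pow_succ', mul_assoc] using this
  -- the norms along the conjugates
  have h1 : ∀ a : A, ∏ i ∈ Finset.range m, φ ((a : X) * h ^ i * (a : X)⁻¹) v = 1 := by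
    intro a
    simp only [map_mul, MulAut.mul_apply]
    rw [← map_prod, hnorm, map_one]
  have h2 : ∀ a : A, ∏ i ∈ Finset.range m, φ ((a : X) * h ^ i) v = 1 := by
    intro a
    simp only [map_mul, MulAut.mul_apply]
    rw [← map_prod, hnorm, map_one]
  have h3 : ∀ i ∈ Finset.range (m - 1),
      ∏ a : A, φ ((a : X) * h ^ (i + 1) * (a : X)⁻¹) v = ∏ a : A, φ ((a : X) * h ^ (i + 1)) v := by
    intro i hi
    have hi' : i + 1 < m := by have := Finset.mem_range.mp hi; omega
    let ψ : A → A := fun a => ⟨(a : X) * (h ^ (i + 1) * (a : X)⁻¹ * (h ^ (i + 1))⁻¹),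
      A.mul_mem a.2 (hAi _ _ (A.inv_mem a.2))⟩
    have hψ : Function.Injective ψ := by
      intro a b hab
      have he : (a : X) * (h ^ (i + 1) * (a : X)⁻¹ * (h ^ (i + 1))⁻¹) =
          (b : X) * (h ^ (i + 1) * (b : X)⁻¹ * (h ^ (i + 1))⁻¹) := congrArg Subtype.val hab
      have hc : ((b : X)⁻¹ * a) * h ^ (i + 1) = h ^ (i + 1) * ((b : X)⁻¹ * a) := by
        have he' : (a : X) * h ^ (i + 1) * (a : X)⁻¹ = (b : X) * h ^ (i + 1) * (b : X)⁻¹ := by
          simpa [mul_assoc] using congrArg (· * h ^ (i + 1)) he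
        calc ((b : X)⁻¹ * a) * h ^ (i + 1)
            = (b : X)⁻¹ * ((a : X) * h ^ (i + 1) * (a : X)⁻¹) * a := by group
          _ = h ^ (i + 1) * ((b : X)⁻¹ * a) := by rw [he']; group
      have := hfpf (i + 1) (by omega) hi' _ (A.mul_mem (A.inv_mem b.2) a.2) hc
      exact Subtype.ext (inv_mul_eq_one.mp this).symm
    refine Fintype.prod_bijective ψ (Finite.injective_iff_bijective.mp hψ) _ _ fun a => ?_
    show φ _ v = φ _ v
    congr 2
    simp [ψ, mul_assoc]
  have hL : ∏ i ∈ Finset.range m, ∏ a : A, φ ((a : X) * h ^ i * (a : X)⁻¹) v = 1 := by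
    rw [Finset.prod_comm]; exact Finset.prod_eq_one fun a _ => h1 a
  have hR : ∏ i ∈ Finset.range m, ∏ a : A, φ ((a : X) * h ^ i) v = 1 := by
    rw [Finset.prod_comm]; exact Finset.prod_eq_one fun a _ => h2 a
  obtain ⟨k, rfl⟩ : ∃ k, m = k + 1 := ⟨m - 1, by omega⟩
  rw [Finset.prod_range_succ'] at hL hR
  simp only [Nat.add_sub_cancel] at h3
  rw [Finset.prod_congr rfl h3] at hL
  have := mul_left_cancel (hL.trans hR.symm)
  simpa using this.symm

/-- Let N be a normal subgroup of the finite group G such that G/N is a Frobenius group with kernel F and cyclic complement H, where the order of F is coprime to that of N and F is not contained in the image of C_G(N) in G/N. Then G has an element of order p·#H for some prime p dividing the order of N. (A standard tool in recognising groups by their element orders.) -/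
theorem result {G : Type*} [Group G] [Finite G] (N : Subgroup G) [N.Normal]
    (Fb Hb : Subgroup (G ⧸ N)) [Fb.Normal] (hHb : Cfsg.IsFrobeniusComplement Hb) (hker : Cfsg.frobeniusKernel Hb = (Fb : Set (G ⧸ N)))
    (hcyc : IsCyclic Hb) (hcop : (Nat.card Fb).Coprime (Nat.card N))
    (hnot : ¬ Fb ≤ (Subgroup.centralizer (N : Set G)).map (QuotientGroup.mk' N)) :
    ∃ p : ℕ, p.Prime ∧ p ∣ Nat.card N ∧ ∃ g : G, orderOf g = p * Nat.card Hb := by
  classical
  by_contra hcon
  set f := QuotientGroup.mk' N with hf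
  set m := Nat.card Hb with hmdef
  have hm0 : 0 < m := Nat.card_pos
  -- every element over a generator has order `m`
  have key : ∀ g : G, orderOf (f g) = m → g ^ m = 1 := by
    intro g hg
    by_contra hne
    have hmem : g ^ m ∈ N := by
      rw [← QuotientGroup.eq_one_iff]
      show f (g ^ m) = 1
      rw [map_pow, ← hg, pow_orderOf_eq_one]
    obtain ⟨p, hp, hpd⟩ := Nat.exists_prime_and_dvd (n := orderOf (g ^ m))
      (fun h => hne (orderOf_eq_one_iff.mp h))
    have hmd : m ∣ orderOf g := hg ▸ orderOf_map_dvd f g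
    have ht : orderOf (g ^ m) = orderOf g / m := by
      rw [orderOf_pow' g hm0.ne', Nat.gcd_eq_right hmd]
    obtain ⟨t, ht'⟩ := hmd
    rw [ht, ht', Nat.mul_div_cancel_left _ hm0] at hpd
    obtain ⟨s, hs⟩ := hpd
    refine hcon ⟨p, hp, ?_, g ^ s, ?_⟩
    · have h1 : orderOf (g ^ m) ∣ Nat.card N := by
        rw [← Subgroup.orderOf_mk (H := N) (g ^ m) hmem]; exact orderOf_dvd_natCard _
      rw [ht, ht', Nat.mul_div_cancel_left _ hm0, hs] at h1
      exact dvd_trans (dvd_mul_right p s) h1
    · have hs0 : s ≠ 0 := by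
        rintro rfl
        have := orderOf_pos g
        rw [ht', hs] at this
        simp at this
      rw [orderOf_pow' g hs0, ht', hs,
        Nat.gcd_eq_right ⟨m * p, by ring⟩, ← mul_assoc,
        Nat.mul_div_cancel _ (Nat.pos_of_ne_zero hs0), mul_comm]
  -- the preimage of the kernel and a complement
  set K := Fb.comap f with hK
  have hNK : N ≤ K := by
    intro x hx
    show f x ∈ Fb
    rw [show f x = 1 from (QuotientGroup.eq_one_iff x).mpr hx]; exact Fb.one_mem
  have hKn : K.Normal := (inferInstance : Fb.Normal).comap f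
  have hmapK : K.map f = Fb := Subgroup.map_comap_eq_self_of_surjective (QuotientGroup.mk'_surjective N) Fb
  have hcK : Nat.card K = Nat.card N * Nat.card Fb := by
    have h1 := Subgroup.index_comap_of_surjective Fb (QuotientGroup.mk'_surjective N)
    have h2 := K.card_mul_index
    have h3 := Fb.card_mul_index
    have h4 := N.card_mul_index
    rw [N.index_eq_card] at h4
    rw [← hK] at h1
    rw [h1, ← h4, ← h3] at h2
    exact Nat.eq_of_mul_eq_mul_right (Nat.pos_of_ne_zero Subgroup.index_ne_zero_of_finite)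
      (h2.trans (mul_assoc _ _ _).symm)
  have hcNK : Nat.card (N.subgroupOf K) = Nat.card N :=
    Nat.card_congr (Subgroup.subgroupOfEquivOfLe hNK).toEquiv
  have hiNK : (N.subgroupOf K).index = Nat.card Fb := by
    have := (N.subgroupOf K).card_mul_index
    rw [hcNK, hcK] at this
    exact Nat.eq_of_mul_eq_mul_left Nat.card_pos this
  obtain ⟨A', hA'⟩ := Subgroup.exists_right_complement'_of_coprime (N := N.subgroupOf K)
    (by rw [hcNK, hiNK]; exact hcop.symm)
  set A := A'.map K.subtype with hAdef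
  have hAK : A ≤ K := Subgroup.map_subtype_le _
  have hcA : Nat.card A = Nat.card Fb := by
    rw [hAdef, Nat.card_congr (A'.equivMapOfInjective K.subtype K.subtype_injective).toEquiv.symm,
      ← hA'.symm.index_eq_card, hiNK]
  have hcopA : (Nat.card A).Coprime (Nat.card N) := hcA ▸ hcop
  have hAN : ∀ x ∈ A, x ∈ N → x = 1 := fun x hx hx' =>
    Cfsg.Agent.Lib.Coprime.eq_one_of_mem_of_mem hcopA hx hx'
  have hNA : K = N ⊔ A := by
    refine le_antisymm ?_ (sup_le hNK hAK)
    intro x hx
    have h1 : (⟨x, hx⟩ : K) ∈ N.subgroupOf K ⊔ A' := by rw [hA'.sup_eq_top]; trivial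
    have h2 := Subgroup.mem_map_of_mem K.subtype h1
    rw [Subgroup.map_sup, Subgroup.map_subgroupOf_eq_of_le hNK] at h2
    exact h2
  have hAmap : A.map f = Fb := by
    rw [← hmapK, hNA, Subgroup.map_sup]
    have : N.map f = ⊥ := by
      rw [Subgroup.map_eq_bot_iff, hf, QuotientGroup.ker_mk']
    rw [this, bot_sup_eq]
  have hAsolv : Group.IsSolvable A := by
    obtain ⟨F', hF'n, hF', -, -, -, -, hnil, -⟩ :=
      Cfsg.Agent.Lib.Solvable.FrobeniusAux.exists_nilpotent_kernel hHb
    have hFF : F' = Fb := SetLike.coe_injective (hF'.trans hker)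
    subst hFF
    have hinj : Function.Injective ((f.comp A.subtype).codRestrict F' fun a => by
        rw [← hAmap]; exact Subgroup.mem_map_of_mem f a.2) := by
      rw [injective_iff_map_eq_one]
      intro a ha
      have h1 : f (a : G) = 1 := congrArg Subtype.val ha
      exact Subtype.ext (hAN _ a.2 ((QuotientGroup.eq_one_iff _).mp h1))
    exact Group.isSolvable_of_isSolvable_injective hinj
  have hNAle : A ≤ Subgroup.normalizer (N : Set G) := by
    rw [Subgroup.normalizer_eq_top]; exact le_top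
  -- Frattini argument
  have hlift : ∀ y : G ⧸ N, ∃ g ∈ Subgroup.normalizer (A : Set G), f g = y := by
    intro y
    obtain ⟨g, rfl⟩ := QuotientGroup.mk'_surjective N y
    obtain ⟨n, hn, hnA⟩ := Cfsg.Agent.Lib.Coprime.exists_conj_eq_of_le_sup (K := MulAut.conj g • A)
      hNAle hcopA.symm (Or.inr hAsolv) (Cfsg.Agent.Lib.Coprime.card_conj_smul _ _) (by
        rw [← hNA]
        intro x hx
        rw [Cfsg.Agent.Lib.Coprime.mem_conj_smul] at hx
        have h1 := hKn.conj_mem _ (hAK hx) g
        simpa [mul_assoc] using h1)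
    refine ⟨n⁻¹ * g, Cfsg.Agent.Lib.Coprime.mem_normalizer_of_conj_smul_eq ?_, ?_⟩
    · rw [Cfsg.Agent.Lib.Coprime.conj_mul_smul, ← hnA, ← Cfsg.Agent.Lib.Coprime.conj_mul_smul,
        inv_mul_cancel, Cfsg.Agent.Lib.Coprime.conj_one_smul]
    · rw [map_mul, show f n⁻¹ = 1 from (QuotientGroup.eq_one_iff _).mpr (N.inv_mem hn), one_mul]
  obtain ⟨⟨hb, hhb⟩, hgen⟩ := IsCyclic.exists_generator (α := Hb)
  have hord : orderOf hb = m := by
    rw [← Subgroup.orderOf_mk (H := Hb) hb hhb]; exact orderOf_eq_card_of_forall_mem_zpowers hgen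
  obtain ⟨h₀, hh₀, hfh₀⟩ := hlift hb
  -- a prime and an invariant Sylow subgroup of `N`, not centralised
  obtain ⟨p, hp, P, hPA, hPnc⟩ : ∃ p : ℕ, ∃ _ : Fact p.Prime, ∃ P : Sylow p N,
      A ≤ Subgroup.normalizer ((P : Subgroup N).map N.subtype : Set G) ∧
      ¬ A ≤ Subgroup.centralizer ((P : Subgroup N).map N.subtype : Set G) := by
    by_contra hall
    push Not at hall
    apply hnot
    rw [← hAmap]
    refine Subgroup.map_mono ?_
    have hC : N ≤ Subgroup.centralizer (A : Set G) := by
      set C := (Subgroup.centralizer (A : Set G)).subgroupOf N with hC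
      have htop : C = ⊤ := by
        refine Subgroup.eq_top_of_card_eq _ (Nat.dvd_antisymm (Subgroup.card_subgroup_dvd_card _) ?_)
        rw [Nat.dvd_iff_prime_pow_dvd_dvd]
        intro q k hq hk
        have := Fact.mk hq
        obtain ⟨Q, hQ⟩ := Cfsg.Agent.Lib.Coprime.exists_invariant_sylow hNAle hcopA (Or.inl hAsolv) q
        have hQC : (Q : Subgroup N) ≤ C := by
          intro x hx
          rw [hC, Subgroup.mem_subgroupOf, Subgroup.mem_centralizer_iff]
          intro a ha
          exact (Subgroup.mem_centralizer_iff.mp (hall q ‹_› Q hQ ha) x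
            (Subgroup.mem_map_of_mem N.subtype hx)).symm
        refine dvd_trans ?_ (Subgroup.card_dvd_of_le hQC)
        rw [Q.card_eq_multiplicity]
        exact pow_dvd_pow q ((hq.pow_dvd_iff_le_factorization Nat.card_pos.ne').mp hk)
      exact Subgroup.subgroupOf_eq_top.mp htop
    exact Subgroup.le_centralizer_iff.mp hC
  -- adjust the lift
  set Ps := (P : Subgroup N).map N.subtype with hPs
  obtain ⟨h, hhA, hhP, hfh⟩ : ∃ h, h ∈ Subgroup.normalizer (A : Set G) ∧
      h ∈ Subgroup.normalizer (Ps : Set G) ∧ f h = hb := by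
    have hP'N : MulAut.conj h₀ • Ps ≤ N := by
      intro x hx
      rw [Cfsg.Agent.Lib.Coprime.mem_conj_smul] at hx
      have h1 := (inferInstance : N.Normal).conj_mem _ (Subgroup.map_subtype_le _ hx) h₀
      simpa [mul_assoc] using h1
    have hcard : Nat.card ((MulAut.conj h₀ • Ps).subgroupOf N) =
        p ^ (Nat.card N).factorization p := by
      rw [Nat.card_congr (Subgroup.subgroupOfEquivOfLe hP'N).toEquiv,
        Cfsg.Agent.Lib.Coprime.card_conj_smul, hPs,
        Nat.card_congr ((P : Subgroup N).equivMapOfInjective N.subtype N.subtype_injective).toEquiv.symm,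
        P.card_eq_multiplicity]
    set P' : Sylow p N := Sylow.ofCard _ hcard with hP'def
    have hP'coe : (P' : Subgroup N).map N.subtype = MulAut.conj h₀ • Ps := by
      rw [hP'def, Sylow.coe_ofCard, Subgroup.map_subgroupOf_eq_of_le hP'N]
    have hP'A : A ≤ Subgroup.normalizer ((P' : Subgroup N).map N.subtype : Set G) := by
      intro a ha
      rw [hP'coe]
      apply Cfsg.Agent.Lib.Coprime.mem_normalizer_of_conj_smul_eq
      have ha' : h₀⁻¹ * a * h₀ ∈ A := (Subgroup.mem_normalizer_iff''.mp hh₀ a).mp ha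
      rw [← Cfsg.Agent.Lib.Coprime.conj_mul_smul,
        show a * h₀ = h₀ * (h₀⁻¹ * a * h₀) by group, Cfsg.Agent.Lib.Coprime.conj_mul_smul,
        Cfsg.Agent.Lib.Coprime.conj_smul_eq_of_mem_normalizer (hPA ha')]
    obtain ⟨c, hc, hcP⟩ := Cfsg.Agent.Lib.Coprime.exists_centralizer_conj_sylow hNAle hcopA
      (Or.inl hAsolv) P' P hP'A hPA
    refine ⟨(c : G) * h₀, mul_mem ?_ hh₀, ?_, ?_⟩
    · exact Subgroup.centralizer_le_normalizer _ hc
    · apply Cfsg.Agent.Lib.Coprime.mem_normalizer_of_conj_smul_eq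
      rw [Cfsg.Agent.Lib.Coprime.conj_mul_smul, ← hP'coe,
        ← Cfsg.Agent.Lib.Coprime.sylow_map_conj_smul, hcP]
    · rw [map_mul, show f (c : G) = 1 from (QuotientGroup.eq_one_iff _).mpr c.2, one_mul, hfh₀]
  -- the action on the Frattini quotient
  have hPN : Ps ≤ N := Subgroup.map_subtype_le _
  have hPsP : IsPGroup p Ps := P.2.map _
  have := hPsP.isNilpotent
  let hcomm : CommGroup (Ps ⧸ frattini Ps) :=
    { (inferInstance : Group (Ps ⧸ frattini Ps)) with
      mul_comm := by
        intro a b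
        obtain ⟨a, rfl⟩ := QuotientGroup.mk'_surjective _ a
        obtain ⟨b, rfl⟩ := QuotientGroup.mk'_surjective _ b
        rw [← map_mul, ← map_mul]
        refine (QuotientGroup.eq).mpr ?_
        refine Cfsg.Agent.Lib.Cores.commutator_le_frattini (G := Ps) ?_
        have := Subgroup.commutator_mem_commutator (Subgroup.mem_top b⁻¹) (Subgroup.mem_top a⁻¹)
        simpa [commutatorElement_def, mul_assoc, commutator_def] using this }
  let L := Subgroup.normalizer (Ps : Set G)
  let φ : L →* MulAut (Ps ⧸ frattini Ps) :=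
    { toFun := fun x => QuotientGroup.congr (frattini Ps) (frattini Ps) (Ps.normalizerMonoidHom x)
        (Cfsg.Agent.Lib.Cores.map_frattini_equiv _)
      map_one' := by
        ext v
        obtain ⟨v, rfl⟩ := QuotientGroup.mk'_surjective _ v
        simp
      map_mul' := fun x y => by
        ext v
        obtain ⟨v, rfl⟩ := QuotientGroup.mk'_surjective _ v
        simp
        rfl }
  have hφ : ∀ (x : L) (u : Ps) (hu : (x : G) * u * (x : G)⁻¹ ∈ Ps),
      φ x (QuotientGroup.mk u) = QuotientGroup.mk ⟨(x : G) * u * (x : G)⁻¹, hu⟩ := by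
    intro x u hu
    rfl
  set hL : L := ⟨h, hhP⟩ with hhL
  have hnorm : ∀ v : Ps ⧸ frattini Ps, ∏ i ∈ Finset.range m, φ (hL ^ i) v = 1 := by
    intro v
    obtain ⟨u, rfl⟩ := QuotientGroup.mk'_surjective _ v
    simp only [QuotientGroup.mk'_apply]
    have hpow : ∀ k : ℕ, ∃ w : Ps, ((u : G) * h) ^ k = (w : G) * h ^ k ∧
        (QuotientGroup.mk w : Ps ⧸ frattini Ps) =
          ∏ i ∈ Finset.range k, φ (hL ^ i) (QuotientGroup.mk u) := by
      intro k
      induction k with
      | zero => exact ⟨1, by simp, by simp⟩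
      | succ k ih =>
        obtain ⟨w, hw, hw'⟩ := ih
        have hmem : h * (w : G) * h⁻¹ ∈ Ps := (Subgroup.mem_normalizer_iff.mp hhP _).mp w.2
        refine ⟨u * ⟨_, hmem⟩, ?_, ?_⟩
        · rw [pow_succ', hw, pow_succ' h]
          simp [mul_assoc]
        · rw [Finset.prod_range_succ', QuotientGroup.mk_mul, mul_comm]
          congr 1
          · rw [← hφ hL w hmem, hw', map_prod]
            refine Finset.prod_congr rfl fun i _ => ?_
            rw [pow_succ', map_mul, MulAut.mul_apply]
          · rw [pow_zero, map_one, MulAut.one_apply]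
    obtain ⟨w, hw, hw'⟩ := hpow m
    have hfu : f (u : G) = 1 := (QuotientGroup.eq_one_iff _).mpr (hPN u.2)
    have h1 : ((u : G) * h) ^ m = 1 := key _ (by rw [map_mul, hfu, one_mul, hfh, hord])
    have h2 : h ^ m = 1 := key _ (by rw [hfh, hord])
    rw [h1, h2, mul_one] at hw
    rw [← hw', show w = 1 from Subtype.ext hw.symm, QuotientGroup.mk_one]
  have hAL : A ≤ L := hPA
  let _ : Fintype (A.subgroupOf L) := Fintype.ofFinite _
  have hmain := norm_eq_pow φ (A.subgroupOf L) hL m hm0
    (fun a ha => (Subgroup.mem_normalizer_iff.mp hhA _).mp ha) (by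
      intro i hi him a ha hai
      have hai' : (a : G) * h ^ i = h ^ i * (a : G) := by
        have := congrArg Subtype.val hai
        simpa [hhL] using this
      have h1 : f (a : G) ∈ Fb := by rw [← hAmap]; exact Subgroup.mem_map_of_mem f ha
      have h2 : hb ^ i ≠ 1 := fun e => by
        have := Nat.le_of_dvd hi (orderOf_dvd_of_pow_eq_one e); omega
      have h3 := Cfsg.Agent.Lib.Frobenius.frobeniusKernel_fixedPointFree hHb hker.symm (hb ^ i)
        (Hb.pow_mem hhb i) h2 (f (a : G)) h1 (by
          have := congrArg f hai'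
          rw [map_mul, map_mul, map_pow, hfh] at this
          exact this.symm)
      exact Subtype.ext (hAN _ ha ((QuotientGroup.eq_one_iff _).mp h3))) hnorm
  -- conclude
  apply hPnc
  refine Cfsg.Agent.Lib.Coprime.le_centralizer_of_frattini
    (hcopA.coprime_dvd_right (dvd_trans (Subgroup.card_subgroup_dvd_card _)
      (Subgroup.card_dvd_of_le hPN))) ?_
  intro a ha k hk
  set aL : A.subgroupOf L := ⟨⟨a, hAL ha⟩, ha⟩ with haL
  have hv : φ (aL : L) (QuotientGroup.mk ⟨k, hk⟩) = QuotientGroup.mk ⟨k, hk⟩ := by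
    have hcc : Fintype.card (A.subgroupOf L) = Nat.card A := by
      rw [← Nat.card_eq_fintype_card]
      exact Nat.card_congr (Subgroup.subgroupOfEquivOfLe hAL).toEquiv
    have hco : (Nat.card (Ps ⧸ frattini Ps)).Coprime (Fintype.card (A.subgroupOf L)) := by
      rw [hcc]
      exact (hcopA.coprime_dvd_right (dvd_trans
        (Subgroup.card_quotient_dvd_card _) (Subgroup.card_dvd_of_le hPN))).symm
    refine (powCoprime hco).injective ?_
    show (φ (aL : L) _) ^ _ = _ ^ _
    rw [← map_pow, ← hmain, map_prod]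
    refine Fintype.prod_bijective (fun b => aL * b) (Group.mulLeft_bijective aL) _ _ fun b => ?_
    rw [Subgroup.coe_mul, map_mul, MulAut.mul_apply]
  have hmem : a * k * a⁻¹ ∈ Ps := (Subgroup.mem_normalizer_iff.mp (hPA ha) _).mp hk
  rw [hφ (aL : L) ⟨k, hk⟩ hmem] at hv
  have h1 := QuotientGroup.eq_iff_div_mem.mp hv
  refine ⟨_, h1, ?_⟩
  simp [div_eq_mul_inv, haL]

end Cfsg.Agent.S3703
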