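import Cfsg.Statements.S3704

set_option autoImplicit false
set_option linter.style.haveILetI false
open Cfsg
open MulAction

namespace Cfsg.Agent.S3704

/-- Let G be a finite group acting faithfully and 2-transitively on a finite set Ω of size n, and let H be a subgroup of index n in G which is not transitive on Ω and fixes no point of Ω. Then H has exactly two orbits on Ω. -/
theorem result {G Ω : Type*} [Group G] [Finite G] [MulAction G Ω] [FaithfulSMul G Ω] [Finite Ω] (h2 : MulAction.IsMultiplyPretransitive G Ω 2) (H : Subgroup G) (hidx : H.index = Nat.card Ω) (hnt : ¬ MulAction.IsPretransitive H Ω) (hfix : ∀ a : Ω, ∃ h : H, h • a ≠ a) : Nat.card (MulAction.orbitRel.Quotient H Ω) = 2 := by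
  classical
  haveI := Fintype.ofFinite Ω
  haveI := Fintype.ofFinite (G ⧸ H)
  haveI := Fintype.ofFinite G
  have hΩne : Nonempty Ω := by
    by_contra h
    rw [not_nonempty_iff] at h
    exact hnt ⟨fun x => isEmptyElim x⟩
  haveI : IsPretransitive G Ω := by
    constructor
    intro x y
    rcases eq_or_ne x y with rfl | hxy
    · exact ⟨1, one_smul _ _⟩
    · obtain ⟨h₀⟩ := hΩne
      obtain ⟨g, hg, -⟩ := is_two_pretransitive_iff.1 h2 hxy hxy.symm
      exact ⟨g, hg⟩
  have hcard : Fintype.card (G ⧸ H) = Fintype.card Ω := by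
    rw [← Nat.card_eq_fintype_card, ← Nat.card_eq_fintype_card]; exact hidx
  set n : ℕ := Fintype.card Ω with hn
  have hnpos : (0 : ℝ) < n := by exact_mod_cast Fintype.card_pos (α := Ω)
  let q : Ω → orbitRel.Quotient H Ω := fun x => Quotient.mk'' x
  have hq : ∀ (h : H) (x : Ω), q ((h : G) • x) = q x := fun h x =>
    Quotient.sound' ((orbitRel_apply).2 (mem_orbit x h))
  -- incidence functions
  let M : orbitRel.Quotient H Ω → Ω → (G ⧸ H) → ℝ := fun o w x =>
    Quotient.liftOn' x (fun g => if q (g⁻¹ • w) = o then (1:ℝ) else 0) (fun a b hab => by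
      rw [QuotientGroup.leftRel_apply] at hab
      have : q (b⁻¹ • w) = q (a⁻¹ • w) := by
        rw [← hq ⟨a⁻¹ * b, hab⟩ (b⁻¹ • w)]
        congr 1
        rw [← mul_smul]; simp
      simp only [this])
  have hinv : ∀ o (g : G) w x, M o (g • w) (g • x) = M o w x := by
    intro o g w x
    induction x using QuotientGroup.induction_on with
    | H a => show (if q ((g * a)⁻¹ • g • w) = o then (1:ℝ) else 0) = _; simp [mul_smul, M]
  set a : orbitRel.Quotient H Ω → ℝ := fun o => ((Finset.univ.filter fun w => q w = o).card : ℝ) / n with ha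
  let Z : orbitRel.Quotient H Ω → Matrix Ω (G ⧸ H) ℝ := fun o => Matrix.of fun w x => M o w x - a o
  have hcol : ∀ o x, ∑ w, M o w x = n * a o := by
    intro o x
    induction x using QuotientGroup.induction_on with
    | H g =>
      rw [ha]; field_simp
      show ∑ w, (if q (g⁻¹ • w) = o then (1:ℝ) else 0) = _
      rw [← Equiv.sum_comp (MulAction.toPerm g) (fun w => (if q (g⁻¹ • w) = o then (1:ℝ) else 0))]
      simp
  have hrow : ∀ o w, ∑ x, M o w x = n * a o := by
    intro o w
    have hconst : ∀ w', ∑ x, M o w' x = ∑ x, M o w x := by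
      intro w'
      obtain ⟨g, rfl⟩ := MulAction.exists_smul_eq G w w'
      rw [← Equiv.sum_comp (MulAction.toPerm g) (fun x => M o (g • w) x)]
      simp [hinv]
    have h1 : ∑ w', ∑ x, M o w' x = n * ∑ x, M o w x := by
      rw [Finset.sum_congr rfl fun w' _ => hconst w']; simp [hn]
    rw [Finset.sum_comm, Finset.sum_congr rfl fun x _ => hcol o x] at h1
    simp only [Finset.sum_const, Finset.card_univ, hcard, nsmul_eq_mul] at h1
    exact (mul_left_cancel₀ hnpos.ne' h1).symm
  let P : Matrix Ω Ω ℝ := Matrix.of fun w w' => (if w = w' then (1:ℝ) else 0) - 1 / n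
  obtain ⟨w₀⟩ := id hΩne
  have hgram : ∀ o o', ∃ c : ℝ, Z o * (Z o').transpose = c • P := by
    intro o o'
    set B := Z o * (Z o').transpose with hB
    have hBinv : ∀ (g : G) w w', B (g • w) (g • w') = B w w' := by
      intro g w w'
      simp only [hB, Matrix.mul_apply, Matrix.transpose_apply]
      rw [← Equiv.sum_comp (MulAction.toPerm g)]
      simp [Z, hinv]
    have hrowB : ∀ w, ∑ w', B w w' = 0 := by
      intro w
      simp only [hB, Matrix.mul_apply, Matrix.transpose_apply]
      rw [Finset.sum_comm]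
      refine Finset.sum_eq_zero fun x _ => ?_
      rw [← Finset.mul_sum]
      have : ∑ i, Z o' i x = 0 := by simp [Z, hcol, ← hn]
      rw [this, mul_zero]
    by_cases hsingle : ∀ w : Ω, w = w₀
    · refine ⟨0, ?_⟩
      ext w w'
      haveI : Unique Ω := ⟨⟨w₀⟩, hsingle⟩
      have := hrowB w
      rw [Fintype.sum_unique] at this
      rw [zero_smul, Matrix.zero_apply, show w' = default from (hsingle w').trans (hsingle default).symm]
      exact this
    · push_neg at hsingle
      obtain ⟨w₁, hw₁⟩ := hsingle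
      refine ⟨-(n * B w₀ w₁), ?_⟩
      have hoff : ∀ w w', w ≠ w' → B w w' = B w₀ w₁ := by
        intro w w' hww
        obtain ⟨g, hg1, hg2⟩ := is_two_pretransitive_iff.1 h2 hw₁.symm hww
        rw [← hg1, ← hg2, hBinv]
      ext w w'
      by_cases hww : w = w'
      · subst hww
        have h := hrowB w
        rw [← Finset.sum_erase_add _ _ (Finset.mem_univ w), Finset.sum_congr rfl fun x hx =>
          hoff w x (Finset.ne_of_mem_erase hx).symm] at h
        simp only [Finset.sum_const, Finset.card_erase_of_mem (Finset.mem_univ w), Finset.card_univ,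
          nsmul_eq_mul, ← hn] at h
        rw [Nat.cast_sub (Fintype.card_pos (α := Ω)), Nat.cast_one] at h
        simp only [Matrix.smul_apply, P, Matrix.of_apply, if_true, smul_eq_mul]
        field_simp
        linarith
      · simp only [Matrix.smul_apply, P, Matrix.of_apply, if_neg hww, smul_eq_mul, hoff w w' hww]
        field_simp
        ring
  -- there are at least two orbits
  have hr2 : 2 ≤ Nat.card (orbitRel.Quotient H Ω) := by
    by_contra h
    apply hnt
    rw [pretransitive_iff_subsingleton_quotient]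
    exact Finite.card_le_one_iff_subsingleton.1 (by omega)
  by_contra hne
  haveI := Fintype.ofFinite (orbitRel.Quotient H Ω)
  have h3 : 2 < (Finset.univ : Finset (orbitRel.Quotient H Ω)).card := by
    rw [Finset.card_univ, ← Nat.card_eq_fintype_card]; omega
  obtain ⟨o₁, o₂, o₃, -, -, -, h12, h13, h23⟩ := Finset.two_lt_card_iff.1 h3
  have hval : ∀ o w, M o w ((1 : G) : G ⧸ H) = if q w = o then 1 else 0 := by
    intro o w; show (if q ((1:G)⁻¹ • w) = o then (1:ℝ) else 0) = _; simp
  obtain ⟨v₁, hv₁⟩ := Quotient.mk''_surjective o₁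
  obtain ⟨v₂, hv₂⟩ := Quotient.mk''_surjective o₂
  obtain ⟨v₃, hv₃⟩ := Quotient.mk''_surjective o₃
  change q v₁ = o₁ at hv₁
  change q v₂ = o₂ at hv₂
  change q v₃ = o₃ at hv₃
  obtain ⟨c, hc⟩ := hgram o₁ o₁
  have hZne : Z o₁ ≠ 0 := by
    intro h
    have e1 := congrFun (congrFun h v₁) ((1:G) : G ⧸ H)
    have e2 := congrFun (congrFun h v₂) ((1:G) : G ⧸ H)
    simp only [Z, Matrix.of_apply, hval, hv₁, hv₂, if_true, if_neg h12.symm, Matrix.zero_apply] at e1 e2
    linarith
  have hcpos : 0 < c := by
    have hsq : ∀ w, ∑ x, Z o₁ w x * Z o₁ w x = c * (1 - 1 / n) := by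
      intro w
      have := congrFun (congrFun hc w) w
      simpa [Matrix.mul_apply, P] using this
    by_contra hc0
    apply hZne
    ext w x
    have hle : c * (1 - 1 / (n:ℝ)) ≤ 0 := by
      apply mul_nonpos_of_nonpos_of_nonneg (not_lt.1 hc0)
      rw [sub_nonneg, div_le_one hnpos]
      exact_mod_cast Fintype.card_pos (α := Ω)
    have h0 : ∑ x, Z o₁ w x * Z o₁ w x = 0 :=
      le_antisymm (hsq w ▸ hle) (Finset.sum_nonneg fun x _ => mul_self_nonneg _)
    exact mul_self_eq_zero.1 ((Finset.sum_eq_zero_iff_of_nonneg fun x _ => mul_self_nonneg _).1 h0 x (Finset.mem_univ x))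
  let J : Matrix Ω (G ⧸ H) ℝ := Matrix.of fun _ _ => Real.sqrt c / n
  let A : Matrix Ω (G ⧸ H) ℝ := Z o₁ + J
  have hZJ : ∀ o, Z o * J.transpose = 0 := by
    intro o
    ext w w'
    have : ∑ x, Z o w x = 0 := by simp [Z, hrow, hcard, ← hn]
    simp only [Matrix.mul_apply, Matrix.transpose_apply, J, Matrix.of_apply, ← Finset.sum_mul, this, zero_mul, Matrix.zero_apply]
  have hJZ : ∀ o, J * (Z o).transpose = 0 := by
    intro o
    have := congrArg Matrix.transpose (hZJ o)
    simpa using this
  have hAA : A * A.transpose = c • (1 : Matrix Ω Ω ℝ) := by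
    rw [show A.transpose = (Z o₁).transpose + J.transpose from Matrix.transpose_add _ _, Matrix.mul_add,
      Matrix.add_mul, Matrix.add_mul, hZJ, hJZ, hc]
    ext w w'
    simp only [Matrix.add_apply, Matrix.smul_apply, Matrix.zero_apply, Matrix.mul_apply, Matrix.transpose_apply,
      J, P, Matrix.of_apply, Finset.sum_const, Finset.card_univ, hcard, nsmul_eq_mul, smul_eq_mul, Matrix.one_apply,
      add_zero, zero_add]
    have := Real.mul_self_sqrt hcpos.le
    field_simp
    nlinarith
  have hAA' : A.transpose * A = c • (1 : Matrix (G ⧸ H) (G ⧸ H) ℝ) := by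
    have h1 : A * (c⁻¹ • A.transpose) = 1 := by
      rw [Matrix.mul_smul, hAA, smul_smul, inv_mul_cancel₀ hcpos.ne', one_smul]
    have h2' := Matrix.mul_eq_one_comm_of_equiv (Fintype.equivOfCardEq hcard.symm) |>.1 h1
    rw [Matrix.smul_mul] at h2'
    rw [← h2', smul_smul, mul_inv_cancel₀ hcpos.ne', one_smul]
  have hP : ∀ o, P * Z o = Z o := by
    intro o
    ext w x
    have : ∑ w', Z o w' x = 0 := by simp [Z, hcol, ← hn]
    simp only [Matrix.mul_apply, P, Matrix.of_apply, sub_mul, Finset.sum_sub_distrib, ← Finset.mul_sum, this,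
      mul_zero, sub_zero, ite_mul, one_mul, zero_mul, Finset.sum_ite_eq, Finset.mem_univ, if_true]
  have hPJ : P * J = 0 := by
    ext w x
    simp only [Matrix.mul_apply, P, J, Matrix.of_apply, ← Finset.sum_mul, Finset.sum_sub_distrib,
      Finset.sum_ite_eq, Finset.mem_univ, if_true, Finset.sum_const, Finset.card_univ, nsmul_eq_mul, ← hn,
      Matrix.zero_apply]
    field_simp
    ring
  obtain ⟨d, hd⟩ := hgram o₂ o₁
  have hprop : c • Z o₂ = d • Z o₁ := by
    have e : Z o₂ * A.transpose = d • P := by
      rw [show A.transpose = (Z o₁).transpose + J.transpose from Matrix.transpose_add _ _, Matrix.mul_add, hZJ,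
        add_zero, hd]
    have := congrArg (· * A) e
    simp only [Matrix.mul_assoc, hAA', Matrix.mul_smul, Matrix.mul_one, Matrix.smul_mul] at this
    rw [this, show P * A = Z o₁ by rw [Matrix.mul_add, hP, hPJ, add_zero]]
  have e2 := congrFun (congrFun hprop v₂) ((1:G) : G ⧸ H)
  have e3 := congrFun (congrFun hprop v₃) ((1:G) : G ⧸ H)
  simp only [Z, Matrix.smul_apply, Matrix.of_apply, hval, hv₂, hv₃, if_true, if_neg h12.symm, if_neg h13.symm,
    if_neg h23.symm, smul_eq_mul] at e2 e3
  nlinarith


end Cfsg.Agent.S3704
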