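import Cfsg.Statements.S3707
import Mathlib

set_option autoImplicit false
open Cfsg

namespace Cfsg.Agent.S3707

/-- Let G be a finite primitive permutation group on Ω of degree n and Γ ⊂ Ω a subset with 1 < #Γ ≤ n/2 such that the pointwise stabilizer of Ω ∖ Γ is transitive on Γ. Then G is 3-transitive on Ω. -/
theorem result {G Ω : Type*} [Group G] [Finite G] [MulAction G Ω] [FaithfulSMul G Ω] [Finite Ω] (hprim : MulAction.IsPreprimitive G Ω) (Γ : Set Ω) (h1 : 1 < Γ.ncard) (h2 : 2 * Γ.ncard ≤ Nat.card Ω) (htr : ∀ x ∈ Γ, ∀ y ∈ Γ, ∃ g : G, (∀ z ∉ Γ, g • z = z) ∧ g • x = y) : MulAction.IsMultiplyPretransitive G Ω 3 := by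
  classical
  haveI := Fintype.ofFinite Ω
  haveI := Fintype.ofFinite G
  haveI := hprim.toIsPretransitive
  set n := Nat.card Ω with hn
  set k := Γ.ncard with hk
  have hpre : ∀ (a b : Ω), ∃ g : G, g • a = b := fun a b => MulAction.exists_smul_eq G a b
  -- two-transitive
  have h2t : MulAction.IsMultiplyPretransitive G Ω 2 := by
    refine hprim.is_two_pretransitive (s := Γᶜ) (n := n - k - 1) ?_ ?_ ⟨fun u v => ?_⟩
    · rw [Set.ncard_compl]; omega
    · omega
    · have hu : (u : Ω) ∈ Γ := not_not.mp u.2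
      have hv : (v : Ω) ∈ Γ := not_not.mp v.2
      obtain ⟨g, hg, hguv⟩ := htr _ hu _ hv
      exact ⟨⟨g, fun z => hg z z.2⟩, Subtype.ext hguv⟩
  have h2t' : ∀ {a b c d : Ω}, a ≠ b → c ≠ d → ∃ g : G, g • a = c ∧ g • b = d := MulAction.is_two_pretransitive_iff.mp h2t
  obtain ⟨a, ha⟩ : ∃ a, a ∉ Γ := by
    by_contra hc
    push Not at hc
    have := Set.eq_univ_of_forall hc
    rw [hk, this, Set.ncard_univ] at h2 h1
    omega
  -- translates
  let Γf : Finset Ω := Γ.toFinset
  have hΓf : Γf.card = k := (Set.ncard_eq_toFinset_card' Γ).symm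
  let T : Finset (Finset Ω) := Finset.univ.image fun g : G => Γf.image fun z => g • z
  have hTk : ∀ S ∈ T, S.card = k := by
    intro S hS
    obtain ⟨g, -, rfl⟩ := Finset.mem_image.mp hS
    rw [Finset.card_image_of_injective _ (MulAction.injective g), hΓf]
  have hTtr : ∀ S ∈ T, ∀ u ∈ S, ∀ v ∈ S, ∃ g : G, (∀ z ∉ S, g • z = z) ∧ g • u = v := by
    intro S hS u hu v hv
    obtain ⟨g, -, rfl⟩ := Finset.mem_image.mp hS
    obtain ⟨u', hu', rfl⟩ := Finset.mem_image.mp hu
    obtain ⟨v', hv', rfl⟩ := Finset.mem_image.mp hv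
    obtain ⟨h, hh, huv⟩ := htr u' (Set.mem_toFinset.mp hu') v' (Set.mem_toFinset.mp hv')
    refine ⟨g * h * g⁻¹, fun z hz => ?_, by rw [mul_smul, mul_smul, inv_smul_smul, huv]⟩
    have : g⁻¹ • z ∉ Γ := fun hc => hz (Finset.mem_image.mpr ⟨g⁻¹ • z, Set.mem_toFinset.mpr hc, smul_inv_smul g z⟩)
    rw [mul_smul, mul_smul, hh _ this, smul_inv_smul]
  have hTinv : ∀ (g : G), ∀ S ∈ T, S.image (fun z => g • z) ∈ T := by
    intro g S hS
    obtain ⟨h, -, rfl⟩ := Finset.mem_image.mp hS
    refine Finset.mem_image.mpr ⟨g * h, Finset.mem_univ _, ?_⟩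
    rw [Finset.image_image]
    exact Finset.image_congr fun z _ => mul_smul g h z
  -- the stabilizer of `a` is primitive
  haveI htra : MulAction.IsPretransitive (MulAction.stabilizer G a) (SubMulAction.ofStabilizer G a) :=
    ⟨fun u v => by
      obtain ⟨g, hga, hguv⟩ := h2t' (Ne.symm u.2 : a ≠ (u : Ω)) (Ne.symm v.2 : a ≠ (v : Ω))
      exact ⟨⟨g, hga⟩, Subtype.ext hguv⟩⟩
  haveI hpa : MulAction.IsPreprimitive (MulAction.stabilizer G a) (SubMulAction.ofStabilizer G a) := by
    refine ⟨fun {B} hB => ?_⟩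
    by_contra hBt
    obtain ⟨hBs, hBu⟩ := not_or.mp hBt
    obtain ⟨x, hx, y, hy, hxy⟩ := Set.not_subsingleton_iff.mp hBs
    obtain ⟨w, hw⟩ := (Set.ne_univ_iff_exists_notMem B).mp hBu
    let Bf : Finset Ω := (Subtype.val '' B).toFinset
    have hxB : (x : Ω) ∈ Bf := Set.mem_toFinset.mpr ⟨x, hx, rfl⟩
    have hBa : ∀ z ∈ Bf, z ≠ a := fun z hz => by
      obtain ⟨z', -, rfl⟩ := Set.mem_toFinset.mp hz
      exact z'.2
    have hblock : ∀ g : G, g • a = a → ∀ z ∈ Bf, g • z ∈ Bf → ∀ v ∈ Bf, g • v ∈ Bf := by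
      intro g hga z hz hgz v hv
      obtain ⟨z', hz', rfl⟩ := Set.mem_toFinset.mp hz
      obtain ⟨gz', hgz', hgz''⟩ := Set.mem_toFinset.mp hgz
      obtain ⟨v', hv', rfl⟩ := Set.mem_toFinset.mp hv
      have hmem : (⟨g, hga⟩ : MulAction.stabilizer G a) • z' ∈ B := by
        have : (⟨g, hga⟩ : MulAction.stabilizer G a) • z' = gz' := Subtype.ext hgz''.symm
        rw [this]; exact hgz'
      have := hB.smul_eq_of_mem hz' hmem
      exact Set.mem_toFinset.mpr ⟨_, this ▸ Set.smul_mem_smul_set hv', rfl⟩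
    -- `B` fills at most half
    have hhalf : 2 * Bf.card ≤ n - 1 := by
      obtain ⟨g, hga, hgx⟩ := h2t' (Ne.symm x.2 : a ≠ (x : Ω)) (Ne.symm w.2 : a ≠ (w : Ω))
      have hd : Disjoint Bf (Bf.image fun z => g • z) := Finset.disjoint_left.mpr fun z hz hz' => by
        obtain ⟨v, hv, rfl⟩ := Finset.mem_image.mp hz'
        have := hblock g hga v hv hz x hxB
        rw [hgx] at this
        obtain ⟨w', hw', hww⟩ := Set.mem_toFinset.mp this
        exact hw (Subtype.ext hww ▸ hw')
      have hs : Bf ∪ (Bf.image fun z => g • z) ⊆ Finset.univ.erase a := by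
        intro z hz
        refine Finset.mem_erase.mpr ⟨?_, Finset.mem_univ _⟩
        rcases Finset.mem_union.mp hz with h | h
        · exact hBa z h
        · obtain ⟨v, hv, rfl⟩ := Finset.mem_image.mp h
          rw [← hga]
          exact fun e => hBa v hv (MulAction.injective g e)
      have := Finset.card_le_card hs
      rw [Finset.card_union_of_disjoint hd, Finset.card_image_of_injective _ (MulAction.injective g),
        Finset.card_erase_of_mem (Finset.mem_univ a), Finset.card_univ, ← Nat.card_eq_fintype_card] at this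
      omega
    set N := (T.filter fun S => (x : Ω) ∈ S).card with hN
    set l := (T.filter fun S => (x : Ω) ∈ S ∧ a ∈ S).card with hl
    have hconst : ∀ z, z ≠ (x : Ω) → (T.filter fun S => (x : Ω) ∈ S ∧ z ∈ S).card = l := by
      intro z hz
      obtain ⟨g, hgx, hgz⟩ := h2t' (Ne.symm hz : (x : Ω) ≠ z) (x.2 : (x : Ω) ≠ a)
      refine Finset.card_bij (fun S _ => S.image fun v => g • v) (fun S hS => ?_) (fun S _ S' _ e => ?_) (fun S hS => ?_)
      · obtain ⟨hS, hxS, hzS⟩ := Finset.mem_filter.mp hS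
        exact Finset.mem_filter.mpr ⟨hTinv g S hS, Finset.mem_image.mpr ⟨_, hxS, hgx⟩, Finset.mem_image.mpr ⟨_, hzS, hgz⟩⟩
      · exact Finset.image_injective (MulAction.injective g) e
      · obtain ⟨hS, hxS, haS⟩ := Finset.mem_filter.mp hS
        refine ⟨S.image fun v => g⁻¹ • v, Finset.mem_filter.mpr ⟨hTinv g⁻¹ S hS, ?_, ?_⟩, ?_⟩
        · exact Finset.mem_image.mpr ⟨_, hxS, by rw [inv_smul_eq_iff, hgx]⟩
        · exact Finset.mem_image.mpr ⟨_, haS, by rw [inv_smul_eq_iff, hgz]⟩
        · rw [Finset.image_image]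
          refine (Finset.image_congr fun v _ => ?_).trans Finset.image_id
          exact smul_inv_smul g v
    have hcount : ∀ (U : Finset (Finset Ω)) (D : Finset Ω), U ⊆ T.filter (fun S => (x : Ω) ∈ S) →
        (∀ S ∈ U, S.erase (x : Ω) ⊆ D) →
        U.card * (k - 1) = ∑ z ∈ D, (U.filter fun S => z ∈ S ∧ z ≠ x).card := by
      intro U D hU hD
      simp only [Finset.card_filter]
      rw [Finset.sum_comm, ← smul_eq_mul, ← Finset.sum_const]
      refine Finset.sum_congr rfl fun S hS => ?_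
      obtain ⟨hST, hxS⟩ := Finset.mem_filter.mp (hU hS)
      rw [← Finset.card_filter]
      have : D.filter (fun z => z ∈ S ∧ z ≠ x) = S.erase (x : Ω) := by
        ext z
        simp only [Finset.mem_filter, Finset.mem_erase]
        exact ⟨fun h => ⟨h.2.2, h.2.1⟩, fun h => ⟨hD S hS (Finset.mem_erase.mpr h), h.2, h.1⟩⟩
      rw [this, Finset.card_erase_of_mem hxS, hTk S hST]
    have hid : N * (k - 1) = (n - 1) * l := by
      rw [hN, hcount _ (Finset.univ.erase (x : Ω)) le_rfl (fun S _ => Finset.erase_subset_erase _ (Finset.subset_univ S)),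
        Finset.sum_congr rfl (g := fun _ => l), Finset.sum_const, Finset.card_erase_of_mem (Finset.mem_univ _),
        Finset.card_univ, ← Nat.card_eq_fintype_card, smul_eq_mul]
      intro z hz
      have hzx := Finset.ne_of_mem_erase hz
      rw [Finset.filter_filter, ← hconst z hzx]
      exact congrArg Finset.card (Finset.filter_congr fun S _ => ⟨fun h => ⟨h.1, h.2.1⟩, fun h => ⟨h.1, h.2, hzx⟩⟩)
    have hNpos : 0 < N := by
      obtain ⟨z, hz⟩ : Γ.Nonempty := Set.nonempty_of_ncard_ne_zero (by omega)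
      obtain ⟨g, hg⟩ := hpre z x
      exact Finset.card_pos.mpr ⟨Γf.image fun v => g • v, Finset.mem_filter.mpr
        ⟨Finset.mem_image.mpr ⟨g, Finset.mem_univ _, rfl⟩, Finset.mem_image.mpr ⟨z, Set.mem_toFinset.mpr hz, hg⟩⟩⟩
    have hlN : 2 * l < N := by
      have h3 : 2 * (k - 1) < n - 1 := by omega
      have h4 : (2 * l) * (n - 1) < N * (n - 1) :=
        calc (2 * l) * (n - 1) = N * (2 * (k - 1)) := by rw [mul_left_comm N, hid]; ring
          _ < N * (n - 1) := mul_lt_mul_of_pos_left h3 hNpos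
      exact Nat.lt_of_mul_lt_mul_right h4
    have hcase : ∀ S ∈ T, (x : Ω) ∈ S → a ∉ S → (S ⊆ Bf ∨ Bf ⊆ S) := by
      intro S hS hxS haS
      by_cases hBS : Bf ⊆ S
      · exact Or.inr hBS
      obtain ⟨v, hv, hvS⟩ := Finset.not_subset.mp hBS
      refine Or.inl fun u hu => ?_
      obtain ⟨g, hg, hgxu⟩ := hTtr S hS x hxS u hu
      rw [← hgxu]
      exact hblock g (hg a haS) v hv (by rwa [hg v hvS]) x hxB
    have hyB : (y : Ω) ∈ Bf := Set.mem_toFinset.mpr ⟨y, hy, rfl⟩
    have hyx : (y : Ω) ≠ x := fun e => hxy (Subtype.ext e.symm)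
    have hkb : k < Bf.card := by
      obtain ⟨S, hS, hS'⟩ : ∃ S ∈ T.filter (fun S => (x : Ω) ∈ S), a ∉ S ∧ (y : Ω) ∉ S := by
        by_contra hc
        push Not at hc
        have hle : T.filter (fun S => (x : Ω) ∈ S) ⊆
            T.filter (fun S => (x : Ω) ∈ S ∧ a ∈ S) ∪ T.filter (fun S => (x : Ω) ∈ S ∧ (y : Ω) ∈ S) := by
          intro S hS
          obtain ⟨hST, hxS⟩ := Finset.mem_filter.mp hS
          by_cases haS : a ∈ S
          · exact Finset.mem_union_left _ (Finset.mem_filter.mpr ⟨hST, hxS, haS⟩)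
          · exact Finset.mem_union_right _ (Finset.mem_filter.mpr ⟨hST, hxS, hc S hS haS⟩)
        have := (Finset.card_le_card hle).trans (Finset.card_union_le _ _)
        rw [hconst _ hyx] at this
        omega
      obtain ⟨hST, hxS⟩ := Finset.mem_filter.mp hS
      rcases hcase S hST hxS hS'.1 with h | h
      · rw [← hTk S hST]
        exact Finset.card_lt_card ⟨h, fun hc => hS'.2 (hc hyB)⟩
      · exact absurd (h hyB) hS'.2
    set U := T.filter (fun S => (x : Ω) ∈ S ∧ a ∉ S) with hU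
    have hUc : U.card + l = N := by
      rw [hU, hl, hN]
      simp only [← Finset.filter_filter]
      rw [add_comm, Finset.card_filter_add_card_filter_not]
    have hUle : U.card * (k - 1) ≤ (Bf.card - 1) * l := by
      rw [hcount U (Bf.erase (x : Ω)) (fun S hS => Finset.mem_filter.mpr ⟨(Finset.mem_filter.mp hS).1, (Finset.mem_filter.mp hS).2.1⟩) ?_]
      · refine (Finset.sum_le_card_nsmul _ _ l fun z hz => ?_).trans (le_of_eq (by rw [Finset.card_erase_of_mem hxB, smul_eq_mul]))
        rw [← hconst z (Finset.ne_of_mem_erase hz)]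
        refine Finset.card_le_card fun S hS => ?_
        obtain ⟨hSU, hzS, -⟩ := Finset.mem_filter.mp hS
        obtain ⟨hST, hxS, -⟩ := Finset.mem_filter.mp hSU
        exact Finset.mem_filter.mpr ⟨hST, hxS, hzS⟩
      · intro S hS
        obtain ⟨hST, hxS, haS⟩ := Finset.mem_filter.mp hS
        refine Finset.erase_subset_erase _ ((hcase S hST hxS haS).resolve_right fun h => ?_)
        have := Finset.card_le_card h
        rw [hTk S hST] at this
        omega
    have hfin : (n - k) * (N * (k - 1)) ≤ (Bf.card - 1) * (N * (k - 1)) := by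
      have h5 : (n - 1) * (U.card * (k - 1)) ≤ (Bf.card - 1) * (N * (k - 1)) := by
        rw [hid]
        calc (n - 1) * (U.card * (k - 1)) ≤ (n - 1) * ((Bf.card - 1) * l) := Nat.mul_le_mul_left _ hUle
          _ = _ := by ring
      refine le_trans (le_of_eq ?_) h5
      have h6 : ((n - k : ℕ) : ℤ) = n - k := by omega
      have h7 : ((n - 1 : ℕ) : ℤ) = n - 1 := by omega
      have h8 : (U.card : ℤ) = N - l := by omega
      have h9 : ((k - 1 : ℕ) : ℤ) = k - 1 := by omega
      have h10 := congrArg (Nat.cast : ℕ → ℤ) hid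
      push_cast [h7, h9] at h10
      zify
      rw [h6, h7, h8, h9]
      linear_combination ((k : ℤ) - 1) * -h10
    have := Nat.le_of_mul_le_mul_right hfin (Nat.mul_pos hNpos (by omega))
    omega
  have hca : Nat.card (SubMulAction.ofStabilizer G a) = n - 1 := by
    rw [SubMulAction.nat_card_ofStabilizer_eq G a]
  have h2a : MulAction.IsMultiplyPretransitive (MulAction.stabilizer G a) (SubMulAction.ofStabilizer G a) 2 := by
    refine hpa.is_two_pretransitive (s := {z | (z : Ω) ∉ Γ}) (n := n - 1 - k - 1) ?_ ?_ ⟨fun u v => ?_⟩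
    · have hc : {z : SubMulAction.ofStabilizer G a | (z : Ω) ∈ Γ}.ncard = k := by
        rw [← Set.ncard_image_of_injective _ Subtype.val_injective]
        congr 1
        ext z
        exact ⟨fun ⟨z', hz', e⟩ => e ▸ hz', fun hz => ⟨⟨z, fun e => ha (e ▸ hz)⟩, hz, rfl⟩⟩
      have := Set.ncard_add_ncard_compl {z : SubMulAction.ofStabilizer G a | (z : Ω) ∈ Γ}
      rw [hc, hca] at this
      rw [show {z : SubMulAction.ofStabilizer G a | (z : Ω) ∉ Γ} = {z : SubMulAction.ofStabilizer G a | (z : Ω) ∈ Γ}ᶜ from rfl]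
      omega
    · omega
    · obtain ⟨g, hg, hguv⟩ := htr _ (not_not.mp u.2) _ (not_not.mp v.2)
      exact ⟨⟨⟨g, hg a ha⟩, fun z => Subtype.ext (hg _ z.2)⟩, Subtype.ext (Subtype.ext hguv)⟩
  exact SubMulAction.ofStabilizer.isMultiplyPretransitive.mpr h2a

end Cfsg.Agent.S3707
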