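import Cfsg.Statements.S3716
import Cfsg.Agent.Lib.Characters.DihedralNine.Chars
-- import your own Cfsg.Agent.* helpers here

set_option autoImplicit false
open Cfsg

namespace Cfsg.Agent.S3716

/-- Let G be a finite group with an elementary abelian Sylow 3-subgroup M of order 9 which is self-centralizing (C_G(M) = M), let N = N_G(M), and suppose C_G(g) ≤ N for every nonidentity g ∈ M. If the Sylow 2-subgroups of N are dihedral of order 8, then G is not simple. -/
theorem result {G : Type*} [Group G] [Finite G] (M : Sylow 3 G) (hM9 : Nat.card ↥(M : Subgroup G) = 9)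
    (hMel : ∀ m ∈ (M : Subgroup G), m ^ 3 = 1)
    (hCM : Subgroup.centralizer ((M : Subgroup G) : Set G) = (M : Subgroup G))
    (N : Subgroup G) (hN : N = Subgroup.normalizer ((M : Subgroup G) : Set G))
    (hCg : ∀ g ∈ (M : Subgroup G), g ≠ 1 → Subgroup.centralizer ({g} : Set G) ≤ N)
    (hS : ∀ S : Sylow 2 ↥N, Nonempty (↥(S : Subgroup ↥N) ≃* DihedralGroup 4)) :
    ¬ IsSimpleGroup G := by
  intro hsimple
  subst hN
  haveI : Fact (Nat.Prime 3) := ⟨Nat.prime_three⟩
  have hcomm : ∀ a ∈ (M : Subgroup G), ∀ b ∈ (M : Subgroup G), a * b = b * a := by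
    haveI : IsMulCommutative ↥(M : Subgroup G) :=
      IsPGroup.isMulCommutative_of_card_eq_prime_sq (p := 3) (by simpa using hM9)
    intro a ha b hb
    exact congrArg Subtype.val (mul_comm' (⟨a, ha⟩ : ↥(M : Subgroup G)) ⟨b, hb⟩)
  have C : Lib.Characters.DihedralNine.Ctx M :=
    { comm := hcomm, cube := hMel, card := hM9, loc := hCg, self := hCM
      eight := fun S => by
        obtain ⟨e⟩ := hS S
        rw [Nat.card_congr e.toEquiv, DihedralGroup.nat_card] }
  obtain ⟨S⟩ := Sylow.nonempty (p := 2) (G := ↥(Subgroup.normalizer ((M : Subgroup G) : Set G)))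
  obtain ⟨e⟩ := hS S
  let f : DihedralGroup 4 →* G :=
    ((Subgroup.normalizer ((M : Subgroup G) : Set G)).subtype.comp
      (S : Subgroup ↥(Subgroup.normalizer ((M : Subgroup G) : Set G))).subtype).comp
      e.symm.toMonoidHom
  have hf : Function.Injective f := fun x y h =>
    e.symm.injective (Subtype.ext (Subtype.ext h))
  have hmem : ∀ x, f x ∈ Subgroup.normalizer ((M : Subgroup G) : Set G) := fun x =>
    SetLike.coe_mem _
  obtain ⟨a, ha⟩ := Lib.Characters.DihedralNine.exists_half C (hmem (.r 1)) (hmem (.sr 0))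
    (by simp only [← map_mul]; rw [show (DihedralGroup.r (1 : ZMod 4) * .r 1 * (.r 1 * .r 1)) = 1
      from by decide, map_one])
    (fun h => absurd (hf (show f (.r 1 * .r 1) = f 1 by rw [map_mul, map_one]; exact h))
      (by decide))
    (by rw [← map_mul, show (DihedralGroup.sr (0 : ZMod 4) * .sr 0) = 1 from by decide, map_one])
    (by rw [← map_mul, ← map_mul, ← map_inv]; exact congrArg f (by decide))
  haveI := Fintype.ofFinite (IrrCharacter G)
  exact Lib.Characters.DihedralNine.false_of_half ha

end Cfsg.Agent.S3716
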