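import Cfsg.Statements.S3733


set_option autoImplicit false
open Cfsg

namespace Cfsg.Agent.S3733

open scoped Classical in
open Finset in
theorem partition_prod {G M : Type*} [Group G] [Finite G] [CommMonoid M] (A : Subgroup G)
    (𝒜 : Finset (Subgroup G)) (hle : ∀ B ∈ 𝒜, B ≤ A)
    (hpart : ∀ a ∈ A, a ≠ 1 → ∃! B, B ∈ 𝒜 ∧ a ∈ B) [Fintype G] (f : G → M) (hne : 𝒜.Nonempty) :
    ∏ B ∈ 𝒜, ∏ g : G, (if g ∈ B then f g else 1) =
      (∏ g : G, (if g ∈ A then f g else 1)) * f 1 ^ (𝒜.card - 1) := by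
  rw [Finset.prod_comm]
  have h : ∀ g : G, (∏ B ∈ 𝒜, if g ∈ B then f g else 1) =
      (if g ∈ A then f g else 1) * (if g = 1 then f g ^ (𝒜.card - 1) else 1) := by
    intro g
    by_cases h1 : g = 1
    · subst h1
      simp only [one_mem, if_true, Finset.prod_const]
      rw [← pow_succ']
      congr 1
      have := hne.card_pos
      omega
    rw [if_neg h1, mul_one]
    by_cases hA : g ∈ A
    · rw [if_pos hA]
      obtain ⟨B, ⟨hB, hgB⟩, huniq⟩ := hpart g hA h1
      rw [Finset.prod_eq_single B (fun C hC hne => if_neg fun hgC => hne (huniq C ⟨hC, hgC⟩))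
        (fun h => absurd hB h), if_pos hgB]
    · rw [if_neg hA]
      exact Finset.prod_eq_one fun B hB => if_neg fun hgB => hA (hle B hB hgB)
  simp only [h, Finset.prod_mul_distrib, Finset.prod_ite_eq', Finset.mem_univ, if_true]

/-- Let A and V be subgroups of a finite group with V abelian and nontrivial and A normalizing V. Suppose a nonempty finite family of proper subgroups of A partitions A: every non-identity element of A lies in exactly one member. If the number of members minus one is coprime to the order of V, then some member B of the family has a non-identity fixed point on V, that is V ∩ C(B) ≠ 1. -/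
theorem result {G : Type*} [Group G] [Finite G] (A V : Subgroup G) (hVab : IsMulCommutative V) (hV : V ≠ ⊥) (hAV : A ≤ Subgroup.normalizer (V : Set G)) (𝒜 : Finset (Subgroup G)) (hne : 𝒜.Nonempty) (hprop : ∀ B ∈ 𝒜, B < A) (hpart : ∀ a ∈ A, a ≠ 1 → ∃! B, B ∈ 𝒜 ∧ a ∈ B) (hk : (𝒜.card - 1).Coprime (Nat.card V)) : ∃ B ∈ 𝒜, V ⊓ Subgroup.centralizer (B : Set G) ≠ ⊥ := by
  classical
  have := Fintype.ofFinite G
  by_contra hcon
  push Not at hcon
  have hV' : ∀ a b : V, a * b = b * a := hVab.is_comm.comm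
  letI : CommGroup V := { (inferInstance : Group V) with mul_comm := hV' }
  let f : V → G → V := fun v g =>
    if h : g ∈ Subgroup.normalizer (V : Set G) then
      ⟨g * v * g⁻¹, (Subgroup.mem_normalizer_iff.mp h v).mp v.2⟩ else 1
  have hfix : ∀ C : Subgroup G, C ≤ A → ∀ v : V,
      ((∏ g : G, (if g ∈ C then f v g else 1) : V) : G) ∈ Subgroup.centralizer (C : Set G) := by
    intro C hC v
    rw [Subgroup.mem_centralizer_iff]
    intro c hc
    have hcN := hAV (hC hc)
    let φ : V →* V :=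
      { toFun := fun w => ⟨c * w * c⁻¹, (Subgroup.mem_normalizer_iff.mp hcN w).mp w.2⟩
        map_one' := by ext; simp
        map_mul' := fun a b => by ext; simp [mul_assoc] }
    have key : φ (∏ g : G, (if g ∈ C then f v g else 1)) =
        ∏ g : G, (if g ∈ C then f v g else 1) := by
      rw [map_prod]
      refine Fintype.prod_equiv (Equiv.mulLeft c) _ _ fun g => ?_
      by_cases hg : g ∈ C
      · have h1 : g ∈ Subgroup.normalizer (V : Set G) := hAV (hC hg)
        have h2 : c * g ∈ Subgroup.normalizer (V : Set G) := mul_mem hcN h1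
        rw [if_pos hg, if_pos (show (Equiv.mulLeft c) g ∈ C from mul_mem hc hg)]
        simp only [f, Equiv.coe_mulLeft, dif_pos h1, dif_pos h2]
        ext
        simp [φ, mul_assoc]
      · have hn : ¬ (Equiv.mulLeft c) g ∈ C := fun h =>
          hg (by simpa using mul_mem (inv_mem (show c ∈ C from hc)) h)
        rw [if_neg hg, if_neg hn, map_one]
    have h2 := congrArg (Subtype.val) key
    exact (mul_inv_eq_iff_eq_mul.mp h2)
  have hBone : ∀ B ∈ 𝒜, ∀ v : V, (∏ g : G, (if g ∈ B then f v g else 1)) = 1 := by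
    intro B hB v
    have h1 : ((∏ g : G, (if g ∈ B then f v g else 1) : V) : G) ∈
        V ⊓ Subgroup.centralizer (B : Set G) := ⟨Subtype.coe_prop _, hfix B (hprop B hB).le v⟩
    rw [hcon B hB, Subgroup.mem_bot] at h1
    exact Subtype.ext h1
  obtain ⟨B₀, hB₀⟩ := hne
  apply hV
  rw [Subgroup.eq_bot_iff_forall]
  intro v hv
  have h := partition_prod A 𝒜 (fun B hB => (hprop B hB).le) hpart (f ⟨v, hv⟩) ⟨B₀, hB₀⟩
  rw [Finset.prod_eq_one (fun B hB => hBone B hB ⟨v, hv⟩)] at h
  have hA1 : (∏ g : G, (if g ∈ A then f ⟨v, hv⟩ g else 1)) = 1 := by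
    have h1 : ((∏ g : G, (if g ∈ A then f ⟨v, hv⟩ g else 1) : V) : G) ∈
        V ⊓ Subgroup.centralizer (B₀ : Set G) :=
      ⟨Subtype.coe_prop _, Subgroup.centralizer_le (SetLike.coe_subset_coe.mpr (hprop B₀ hB₀).le)
        (hfix A le_rfl _)⟩
    rw [hcon B₀ hB₀, Subgroup.mem_bot] at h1
    exact Subtype.ext h1
  have hf1 : f ⟨v, hv⟩ 1 = ⟨v, hv⟩ := by
    simp [f]
  rw [hA1, one_mul, hf1] at h
  have hd := Nat.dvd_gcd (orderOf_dvd_of_pow_eq_one h.symm) (orderOf_dvd_natCard (⟨v, hv⟩ : V))
  rw [Nat.Coprime.gcd_eq_one hk, Nat.dvd_one, orderOf_eq_one_iff] at hd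
  exact congrArg Subtype.val hd

end Cfsg.Agent.S3733
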