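import Cfsg.Statements.S3734
import Cfsg.Agent.Lib.CoprimeGen.Abelian
import Cfsg.Agent.Lib.Coprime.Action
import Cfsg.Agent.Lib.Involutions.BaerSuzuki

set_option autoImplicit false
open Cfsg

namespace Cfsg.Agent.S3734

/-- Let A and G be subgroups of a finite group with A abelian, A normalizing G and the orders of A and G coprime. Then G is generated by the fixed-point subgroups C_G(B) of those subgroups B of A for which A/B is cyclic (that is, A = ⟨B, a⟩ for some a), and [G, A] is generated by the commutator subgroups [C_G(B), A] over the same subgroups B. -/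
theorem result {X : Type*} [Group X] [Finite X] (A G : Subgroup X) (hAab : IsMulCommutative A) (hAG : A ≤ Subgroup.normalizer (G : Set X)) (hcop : (Nat.card A).Coprime (Nat.card G)) : (⨆ B ∈ {B : Subgroup X | B ≤ A ∧ ∃ a ∈ A, B ⊔ Subgroup.zpowers a = A}, G ⊓ Subgroup.centralizer (B : Set X)) = G ∧ (⨆ B ∈ {B : Subgroup X | B ≤ A ∧ ∃ a ∈ A, B ⊔ Subgroup.zpowers a = A}, ⁅G ⊓ Subgroup.centralizer (B : Set X), A⁆) = ⁅G, A⁆ := by
  classical
  have hcom : ∀ a b : A, a * b = b * a := hAab.is_comm.comm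
  let _ : CommGroup A := { (inferInstance : Group A) with mul_comm := hcom }
  let φ : A →* MulAut G := (Subgroup.normalizerMonoidHom G).comp (Subgroup.inclusion hAG)
  have key := Cfsg.Agent.Lib.CoprimeGen.iSup_fix_eq_top _ A G φ rfl hcop
  set S := {B : Subgroup X | B ≤ A ∧ ∃ a ∈ A, B ⊔ Subgroup.zpowers a = A} with hS
  have h1 : (⨆ B ∈ S, G ⊓ Subgroup.centralizer (B : Set X)) = G := by
    refine le_antisymm (iSup₂_le fun B _ => inf_le_left) ?_
    intro g hg
    have hmem : (⟨g, hg⟩ : G) ∈ (⨆ B ∈ S, G ⊓ Subgroup.centralizer (B : Set X)).comap G.subtype := by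
      refine (?_ : (⊤ : Subgroup G) ≤ _) (Subgroup.mem_top _)
      rw [← key]
      refine iSup₂_le fun B' hB' x hx => ?_
      obtain ⟨a, ha⟩ := hB'
      have hB : B'.map A.subtype ∈ S := by
        refine ⟨Subgroup.map_subtype_le _, (a : X), a.2, ?_⟩
        have := congrArg (Subgroup.map A.subtype) ha
        rwa [Subgroup.map_sup, MonoidHom.map_zpowers, ← MonoidHom.range_eq_map, Subgroup.range_subtype] at this
      refine Subgroup.mem_iSup_of_mem (B'.map A.subtype) (Subgroup.mem_iSup_of_mem hB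
        (Subgroup.mem_inf.mpr ⟨x.2, ?_⟩))
      rintro _ ⟨b, hb, rfl⟩
      exact mul_inv_eq_iff_eq_mul.mp (congrArg Subtype.val (hx b hb) : (b : X) * x * (b : X)⁻¹ = x)
    exact hmem
  refine ⟨h1, le_antisymm (iSup₂_le fun B _ => Subgroup.commutator_mono inf_le_left le_rfl) ?_⟩
  set T := ⨆ B ∈ S, ⁅G ⊓ Subgroup.centralizer (B : Set X), A⁆ with hT
  have hTG : T ≤ G := iSup₂_le fun B _ =>
    (Subgroup.commutator_mono inf_le_left le_rfl).trans
      (Cfsg.Agent.Lib.Coprime.commutator_le_of_le_normalizer hAG)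
  set C := G ⊓ Subgroup.centralizer (A : Set X) with hC
  have hAsolv : Group.IsSolvable A := Group.isSolvable_of_comm hcom
  have hAB : ∀ B ∈ S, A ≤ Subgroup.normalizer ((G ⊓ Subgroup.centralizer (B : Set X) : Subgroup X) : Set X) := by
    intro B hB
    refine le_trans (le_inf hAG ?_) Subgroup.inf_normalizer_le_normalizer_inf
    refine le_trans ?_ Subgroup.le_normalizer
    intro a ha b hb
    exact congrArg Subtype.val (hcom ⟨b, hB.1 hb⟩ ⟨a, ha⟩)
  have hnormT : ∀ x : X, (∀ B ∈ S, x ∈ Subgroup.normalizer ((⁅G ⊓ Subgroup.centralizer (B : Set X), A⁆ : Subgroup X) : Set X)) →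
      x ∈ Subgroup.normalizer (T : Set X) := by
    intro x hx
    rw [Cfsg.Agent.Lib.Involutions.mem_normalizer_iff_map_conj, hT, Subgroup.map_iSup]
    refine iSup_congr fun B => ?_
    rw [Subgroup.map_iSup]
    exact iSup_congr fun hB => Cfsg.Agent.Lib.Involutions.mem_normalizer_iff_map_conj.mp (hx B hB)
  have hAT : A ≤ Subgroup.normalizer (T : Set X) := fun a ha =>
    hnormT a fun B _ => Subgroup.normalizer_commutator_ge_right _ _ ha
  have hCT : C ≤ Subgroup.normalizer (T : Set X) := by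
    intro c hc
    obtain ⟨hcG, hcA⟩ := Subgroup.mem_inf.mp hc
    refine hnormT c fun B hB => Subgroup.normalizer_commutator_ge_left _ _ ?_
    exact Subgroup.mem_inf.mpr ⟨hcG, Subgroup.centralizer_le hB.1 hcA⟩
  have hGle : G ≤ T ⊔ C := by
    rw [← h1]
    refine iSup₂_le fun B hB => ?_
    refine le_trans (Cfsg.Agent.Lib.Coprime.commutator_sup_centralizer_eq (hAB B hB)
      (hcop.coprime_dvd_right (Subgroup.card_dvd_of_le inf_le_left)) (Or.inl hAsolv)).ge
      (sup_le_sup ?_ (inf_le_inf_right _ inf_le_left))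
    exact le_iSup₂_of_le B hB le_rfl
  rw [Subgroup.commutator_le]
  intro g hg a ha
  obtain ⟨t, ht, c, hc, rfl⟩ := Cfsg.Agent.Lib.Coprime.exists_mul_of_mem_sup hCT (hGle hg)
  have hca : c * a = a * c := ((Subgroup.mem_inf.mp hc).2 a ha).symm
  have : t * c * a * (t * c)⁻¹ * a⁻¹ = t * (a * t⁻¹ * a⁻¹) := by
    rw [mul_assoc t c a, hca]; group
  rw [commutatorElement_def, this]
  exact mul_mem ht ((Subgroup.mem_set_normalizer_iff.mp (hAT ha) _).mp (inv_mem ht))

end Cfsg.Agent.S3734
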