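import Cfsg.Statements.S3735
import Cfsg.Agent.Lib.Coprime.Basic
import Cfsg.Agent.Lib.Involutions.BaerSuzuki

set_option autoImplicit false
open Cfsg

namespace Cfsg.Agent.S3735

open Cfsg.Agent.Lib.Coprime Cfsg.Agent.Lib.Involutions

variable {H : Type*} [Group H] [Finite H]

/-- Minimal nontrivial `A`-invariant subgroups of `V`. -/
def IsMinInv (A V S : Subgroup H) : Prop :=
  S ≤ V ∧ S ≠ ⊥ ∧ A ≤ Subgroup.normalizer (S : Set H) ∧
    ∀ T : Subgroup H, T ≤ S → A ≤ Subgroup.normalizer (T : Set H) → T ≠ ⊥ → T = S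

theorem exists_isMinInv (A V T : Subgroup H) (hTV : T ≤ V) (hT : T ≠ ⊥)
    (hA : A ≤ Subgroup.normalizer (T : Set H)) : ∃ S, IsMinInv A V S ∧ S ≤ T := by
  obtain ⟨S, hS⟩ := Set.Finite.exists_minimal
    (s := {S : Subgroup H | S ≤ T ∧ S ≠ ⊥ ∧ A ≤ Subgroup.normalizer (S : Set H)})
    (Set.toFinite _) ⟨T, le_rfl, hT, hA⟩
  exact ⟨S, ⟨hS.1.1.trans hTV, hS.1.2.1, hS.1.2.2, fun R hR hRA hR1 =>
    le_antisymm hR (hS.2 ⟨hR.trans hS.1.1, hR1, hRA⟩ hR)⟩, hS.1.1⟩

/-- Clifford's Theorem for actions on finite abelian groups, first part. Let H and V be subgroups of a finite group with V abelian and H normalizing V, and let A be a normal subgroup of H. If every H-invariant subgroup of V has an H-invariant complement in V, then every A-invariant subgroup of V has an A-invariant complement in V. -/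
theorem result {G : Type*} [Group G] [Finite G] (H A V : Subgroup G) (hVab : IsMulCommutative V) (hHV : H ≤ Subgroup.normalizer (V : Set G)) (hAH : A ≤ H) (hAn : H ≤ Subgroup.normalizer (A : Set G)) (hss : ∀ U : Subgroup G, U ≤ V → H ≤ Subgroup.normalizer (U : Set G) → ∃ W : Subgroup G, W ≤ V ∧ H ≤ Subgroup.normalizer (W : Set G) ∧ U ⊓ W = ⊥ ∧ U ⊔ W = V) (U : Subgroup G) (hUV : U ≤ V) (hAU : A ≤ Subgroup.normalizer (U : Set G)) : ∃ W : Subgroup G, W ≤ V ∧ A ≤ Subgroup.normalizer (W : Set G) ∧ U ⊓ W = ⊥ ∧ U ⊔ W = V := by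
  classical
  set M : Subgroup G := sSup {S | IsMinInv A V S} with hM
  have hMV : M ≤ V := sSup_le fun S hS => hS.1
  have hHM : H ≤ Subgroup.normalizer (M : Set G) := by
    refine le_normalizer_sSup fun h hh S hS => ?_
    obtain ⟨hSV, hS1, hSA, hSmin⟩ := hS
    have hmap : ∀ (T : Subgroup G) (g : G), g ∈ H → A ≤ Subgroup.normalizer (T : Set G) →
        A ≤ Subgroup.normalizer ((T.map (MulAut.conj g).toMonoidHom : Subgroup G) : Set G) := by
      intro T g hg hT a ha
      rw [mem_normalizer_iff_map_conj, map_conj_mul]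
      have h1 : g⁻¹ * a * g ∈ A := by
        have := (Subgroup.mem_set_normalizer_iff.mp (hAn (inv_mem hg)) a).mp ha
        simpa using this
      have h2 := mem_normalizer_iff_map_conj.mp (hT h1)
      calc T.map (MulAut.conj (a * g)).toMonoidHom
          = (T.map (MulAut.conj (g⁻¹ * a * g)).toMonoidHom).map (MulAut.conj g).toMonoidHom := by
            rw [map_conj_mul]; congr 3; group
        _ = T.map (MulAut.conj g).toMonoidHom := by rw [h2]
    refine ⟨?_, ?_, hmap S h hh hSA, ?_⟩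
    · exact (Subgroup.map_mono hSV).trans (mem_normalizer_iff_map_conj.mp (hHV hh)).le
    · rwa [Ne, Subgroup.map_eq_bot_iff_of_injective _ (MulAut.conj h).injective]
    · intro T hT hTA hT1
      have h3 : T.map (MulAut.conj h⁻¹).toMonoidHom = S := by
        refine hSmin _ ?_ (hmap T h⁻¹ (inv_mem hh) hTA)
          (by rwa [Ne, Subgroup.map_eq_bot_iff_of_injective _ (MulAut.conj h⁻¹).injective])
        refine (Subgroup.map_mono hT).trans ?_
        rw [map_conj_mul, inv_mul_cancel, map_conj_one]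
      rw [← h3, map_conj_mul, mul_inv_cancel, map_conj_one]
  obtain ⟨W0, hW0V, hW0H, hW0i, hW0s⟩ := hss M hMV hHM
  have hW0 : W0 = ⊥ := by
    by_contra hne
    obtain ⟨S, hS, hSW⟩ := exists_isMinInv A V W0 hW0V hne (hAH.trans hW0H)
    exact hS.2.1 (le_bot_iff.mp ((le_inf (le_sSup hS : S ≤ M) hSW).trans hW0i.le))
  rw [hW0, sup_bot_eq] at hW0s
  obtain ⟨W, hW⟩ := Set.Finite.exists_maximal
    (s := {W : Subgroup G | W ≤ V ∧ A ≤ Subgroup.normalizer (W : Set G) ∧ U ⊓ W = ⊥})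
    (Set.toFinite _) ⟨⊥, bot_le, fun a _ => by rw [mem_normalizer_iff_map_conj, Subgroup.map_bot], inf_bot_eq U⟩
  obtain ⟨hWV, hWA, hWU⟩ := hW.1
  refine ⟨W, hWV, hWA, hWU, le_antisymm (sup_le hUV hWV) ?_⟩
  rw [← hW0s]
  refine sSup_le fun S hS => ?_
  by_contra hSn
  obtain ⟨hSV, hS1, hSA, hSmin⟩ := hS
  have hinf : S ⊓ (U ⊔ W) = ⊥ := by
    by_contra hne
    have := hSmin (S ⊓ (U ⊔ W)) inf_le_left ?_ hne
    · exact hSn (this.ge.trans inf_le_right)
    · exact fun a ha => by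
        rw [mem_normalizer_iff_map_conj, Subgroup.map_inf _ _ _ (MulAut.conj a).injective,
          mem_normalizer_iff_map_conj.mp (hSA ha),
          mem_normalizer_iff_map_conj.mp (le_normalizer_sup hAU hWA ha)]
  have hVc : ∀ X Y : Subgroup G, X ≤ V → Y ≤ V → Y ≤ Subgroup.normalizer (X : Set G) := by
    intro X Y hX hY
    refine le_trans (fun y hy => ?_) (Subgroup.centralizer_le_normalizer _)
    intro x hx
    exact congrArg Subtype.val (hVab.is_comm.comm (⟨x, hX hx⟩ : V) ⟨y, hY hy⟩)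
  have hbot : U ⊓ (W ⊔ S) = ⊥ := by
    rw [Subgroup.eq_bot_iff_forall]
    intro u hu
    obtain ⟨huU, huWS⟩ := Subgroup.mem_inf.mp hu
    obtain ⟨w, hw, s, hs, rfl⟩ := exists_mul_of_mem_sup (hVc W S hWV hSV) huWS
    have hs' : s ∈ U ⊔ W := by
      have := mul_mem (Subgroup.mem_sup_right (inv_mem hw) : w⁻¹ ∈ U ⊔ W) (Subgroup.mem_sup_left huU)
      rwa [inv_mul_cancel_left] at this
    have hs1 : s = 1 := Subgroup.mem_bot.mp (hinf ▸ Subgroup.mem_inf.mpr ⟨hs, hs'⟩)
    subst hs1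
    rw [mul_one] at huU ⊢
    exact Subgroup.mem_bot.mp (hWU ▸ Subgroup.mem_inf.mpr ⟨huU, hw⟩)
  exact hSn ((le_sup_right.trans (hW.2 ⟨sup_le hWV hSV, le_normalizer_sup hWA hSA, hbot⟩ le_sup_left)).trans
    le_sup_right)

end Cfsg.Agent.S3735
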