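import Cfsg.Statements.S3736
import Cfsg.Agent.Lib.Coprime.PxQ
import Cfsg.Agent.Lib.Cores.Frattini
import Cfsg.Agent.Lib.Involutions.BaerSuzuki
import Cfsg.Agent.Lib.OddLocal.Coprime

set_option autoImplicit false
open Cfsg

namespace Cfsg.Agent.S3736

open scoped commutatorElement

variable {H : Type*} [Group H] [Finite H]

/-- In an abelian section `K/N`, coprime fixed points meet `[K, A]` trivially. -/
theorem mem_of_fixed {A K N : Subgroup H} (hAK : A ≤ Subgroup.normalizer (K : Set H))
    (hAN : A ≤ Subgroup.normalizer (N : Set H)) (hKN : K ≤ Subgroup.normalizer (N : Set H))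
    (hab : ⁅K, K⁆ ≤ N) (hcop : (Nat.card A).Coprime (Nat.card K))
    {u : H} (hu : u ∈ ⁅K, A⁆) (hfix : ∀ a ∈ A, a * u * a⁻¹ = u) : u ∈ N := by
  classical
  have hn : (N.subgroupOf K).Normal := Subgroup.normal_subgroupOf_of_le_normalizer hKN
  let _ : CommGroup (K ⧸ N.subgroupOf K) :=
    { mul_comm := fun x y => by
        induction x using QuotientGroup.induction_on with
        | _ x =>
        induction y using QuotientGroup.induction_on with
        | _ y =>
        rw [← QuotientGroup.mk_mul, ← QuotientGroup.mk_mul, QuotientGroup.eq]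
        show ((x * y)⁻¹ * (y * x) : H) ∈ N
        have h := hab (Subgroup.commutator_mem_commutator (inv_mem y.2) (inv_mem x.2))
        simpa [commutatorElement_def, mul_assoc] using h }
  let cj : A → K → K := fun a x =>
    ⟨a * x * (a : H)⁻¹, (Subgroup.mem_set_normalizer_iff.mp (hAK a.2) _).mp x.2⟩
  let _ : Fintype A := Fintype.ofFinite A
  let Ψ : K →* K ⧸ N.subgroupOf K :=
    { toFun := fun x => ∏ a : A, QuotientGroup.mk' (N.subgroupOf K) (cj a x)
      map_one' := Finset.prod_eq_one fun a _ => by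
        rw [show cj a 1 = 1 from Subtype.ext (by simp [cj]), map_one]
      map_mul' := fun x y => by
        rw [← Finset.prod_mul_distrib]
        refine Finset.prod_congr rfl fun a _ => ?_
        rw [show cj a (x * y) = cj a x * cj a y from Subtype.ext (by simp [cj, mul_assoc]), map_mul] }
  have hΨ : ∀ (b : A) (x : K), Ψ (cj b x) = Ψ x := by
    intro b x
    show ∏ a : A, QuotientGroup.mk' _ (cj a (cj b x)) = ∏ a : A, QuotientGroup.mk' _ (cj a x)
    refine Fintype.prod_equiv (Equiv.mulRight b) _ _ fun a => congrArg _ (Subtype.ext ?_)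
    simp [cj, mul_assoc]
  have hle : ⁅K, A⁆ ≤ Ψ.ker.map K.subtype := by
    rw [Subgroup.commutator_le]
    intro k hk a ha
    refine ⟨⟨k, hk⟩ * (cj ⟨a, ha⟩ ⟨k, hk⟩)⁻¹, ?_, ?_⟩
    · rw [SetLike.mem_coe, MonoidHom.mem_ker, map_mul, map_inv, hΨ, mul_inv_cancel]
    · simp [cj, commutatorElement_def, mul_assoc]
  obtain ⟨x, hx, rfl⟩ := hle hu
  have h1 : (QuotientGroup.mk' (N.subgroupOf K) x) ^ Nat.card A = 1 := by
    rw [Nat.card_eq_fintype_card, ← Finset.card_univ, ← Finset.prod_const]
    refine Eq.trans (Finset.prod_congr rfl fun a _ => ?_) (MonoidHom.mem_ker.mp hx)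
    exact congrArg _ (Subtype.ext (hfix a a.2).symm)
  have h2 : QuotientGroup.mk' (N.subgroupOf K) x = 1 :=
    orderOf_eq_one_iff.mp (Nat.eq_one_of_dvd_coprimes hcop (orderOf_dvd_of_pow_eq_one h1)
      ((orderOf_dvd_natCard _).trans (Subgroup.card_quotient_dvd_card _)))
  exact (QuotientGroup.eq_one_iff x).mp h2

/-- The Hall–Higman reduction for a minimal non-trivial action. Let B, A and P be subgroups of a finite group with P a p-group, B normalizing P, and A a normal subgroup of B of order prime to p. Suppose A does not centralize P but centralizes every proper B-invariant subgroup of P. Then [P, A] = P; P is elementary abelian or special; B acts irreducibly on P/Φ(P), that is, the only B-invariant subgroups of P containing Φ(P) are Φ(P) and P; and if p is odd then every element of P has order dividing p. -/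
theorem result {X : Type*} [Group X] [Finite X] {p : ℕ} [Fact p.Prime] (B A P : Subgroup X) (hP : IsPGroup p P) (hBP : B ≤ Subgroup.normalizer (P : Set X)) (hAB : A ≤ B) (hAn : B ≤ Subgroup.normalizer (A : Set X)) (hAp : (Nat.card A).Coprime p) (hnt : ⁅P, A⁆ ≠ ⊥) (hmin : ∀ U : Subgroup X, U < P → B ≤ Subgroup.normalizer (U : Set X) → ⁅U, A⁆ = ⊥) : ⁅P, A⁆ = P ∧ (Cfsg.IsElementaryAbelian p P ∨ Cfsg.IsSpecial p ↥P) ∧ (∀ U : Subgroup X, (frattini ↥P).map P.subtype ≤ U → U ≤ P → B ≤ Subgroup.normalizer (U : Set X) → U = (frattini ↥P).map P.subtype ∨ U = P) ∧ (p ≠ 2 → ∀ x ∈ P, x ^ p = 1) := by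
  classical
  have hP1 : P ≠ ⊥ := fun h => hnt (by rw [h, Subgroup.commutator_bot_left])
  have hAP : A ≤ Subgroup.normalizer (P : Set X) := hAB.trans hBP
  have hcop : (Nat.card A).Coprime (Nat.card P) := by
    obtain ⟨k, hk⟩ := hP.exists_card_eq
    rw [hk]; exact hAp.pow_right k
  have hUle : ⁅P, A⁆ ≤ P := Cfsg.Agent.Lib.Coprime.commutator_le_of_le_normalizer hAP
  have hPA : ⁅P, A⁆ = P := by
    by_contra hne
    have hBU : B ≤ Subgroup.normalizer ((⁅P, A⁆ : Subgroup X) : Set X) := by
      intro b hb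
      rw [Cfsg.Agent.Lib.Involutions.mem_normalizer_iff_map_conj, Subgroup.map_commutator,
        Cfsg.Agent.Lib.Involutions.mem_normalizer_iff_map_conj.mp (hBP hb),
        Cfsg.Agent.Lib.Involutions.mem_normalizer_iff_map_conj.mp (hAn hb)]
    have hc := Cfsg.Agent.Lib.Coprime.le_centralizer_of_commutator_commutator_eq_bot hAP hcop
      (hmin _ (lt_of_le_of_ne hUle hne) hBU)
    exact hnt (Subgroup.commutator_eq_bot_iff_le_centralizer.mpr (Subgroup.le_centralizer_iff.mp hc))
  have hfix : ∀ U : Subgroup X, U < P → B ≤ Subgroup.normalizer (U : Set X) →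
      ∀ a ∈ A, ∀ u ∈ U, a * u * a⁻¹ = u := fun U hU hBU a ha u hu =>
    mul_inv_eq_iff_eq_mul.mpr
      ((Subgroup.commutator_eq_bot_iff_le_centralizer.mp (hmin U hU hBU) hu) a ha)
  set Φ := (frattini P).map P.subtype with hΦ
  have hΦP : Φ < P := by
    refine lt_of_le_of_ne (Subgroup.map_subtype_le _) fun h => hP1 ?_
    exact (Cfsg.Agent.Lib.Cores.eq_of_sup_map_frattini (bot_le : (⊥ : Subgroup X) ≤ P)
      (by rw [bot_sup_eq]; exact h)).symm
  have hBΦ : B ≤ Subgroup.normalizer (Φ : Set X) :=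
    Cfsg.Agent.Lib.OddLocal.map_subtype_frattini_le_normalizer hBP
  have hPΦn : P ≤ Subgroup.normalizer (Φ : Set X) :=
    Cfsg.Agent.Lib.OddLocal.map_subtype_frattini_le_normalizer Subgroup.le_normalizer
  have hPP : ⁅P, P⁆ ≤ Φ := by
    rw [← Subgroup.map_subtype_commutator P]
    have := hP.isNilpotent
    exact Subgroup.map_mono Cfsg.Agent.Lib.Cores.commutator_le_frattini
  -- `Φ` is central in `P`
  have hΦc : ⁅P, Φ⁆ = ⊥ := by
    rw [← hPA, Subgroup.commutator_comm P A]
    refine Subgroup.commutator_commutator_eq_bot_of_rotate ?_ ?_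
    · rw [← le_bot_iff, ← hmin Φ hΦP hBΦ]
      refine Subgroup.commutator_mono ?_ le_rfl
      exact Subgroup.le_normalizer_iff_commutator_le_right.mp hPΦn
    · rw [hmin Φ hΦP hBΦ, Subgroup.commutator_bot_left]
  have hcent : ∀ z ∈ Φ, ∀ x ∈ P, x * z = z * x := fun z hz x hx =>
    commutatorElement_eq_one_iff_mul_comm.mp
      (Subgroup.mem_bot.mp (hΦc ▸ Subgroup.commutator_mem_commutator hx hz))
  have hpow : ∀ x ∈ P, x ^ p ∈ Φ := fun x hx =>
    ⟨(⟨x, hx⟩ : P) ^ p, Cfsg.Agent.Lib.Cores.pow_mem_frattini hP ⟨x, hx⟩, rfl⟩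
  -- centralised elements lie in every normal subgroup with abelian quotient
  have hmem : ∀ N : Subgroup X, ⁅P, P⁆ ≤ N → A ≤ Subgroup.normalizer (N : Set X) →
      P ≤ Subgroup.normalizer (N : Set X) → ∀ u ∈ P, (∀ a ∈ A, a * u * a⁻¹ = u) → u ∈ N :=
    fun N h1 h2 h3 u hu hf => mem_of_fixed hAP h2 h3 h1 hcop (hPA.symm ▸ hu) hf
  have hAΦ : A ≤ Subgroup.normalizer (Φ : Set X) := hAB.trans hBΦ
  have hAD : A ≤ Subgroup.normalizer ((⁅P, P⁆ : Subgroup X) : Set X) := fun a ha => by
    rw [Cfsg.Agent.Lib.Involutions.mem_normalizer_iff_map_conj, Subgroup.map_commutator,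
      Cfsg.Agent.Lib.Involutions.mem_normalizer_iff_map_conj.mp (hAP ha)]
  have hPD : P ≤ Subgroup.normalizer ((⁅P, P⁆ : Subgroup X) : Set X) :=
    Subgroup.normalizer_commutator_ge_left P P
  have hΦD : Φ ≤ ⁅P, P⁆ := fun u hu =>
    hmem _ le_rfl hAD hPD u (hΦP.le hu) (fun a ha => hfix Φ hΦP hBΦ a ha u hu)
  refine ⟨hPA, ?_, ?_, ?_⟩
  · by_cases habel : ⁅P, P⁆ = ⊥
    · refine Or.inl ⟨⟨⟨fun a b => Subtype.ext ?_⟩⟩, fun x hx => ?_⟩
      · exact commutatorElement_eq_one_iff_mul_comm.mp
          (Subgroup.mem_bot.mp (habel ▸ Subgroup.commutator_mem_commutator a.2 b.2))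
      · exact Subgroup.mem_bot.mp (habel ▸ hΦD (hpow x hx))
    · refine Or.inr ⟨hP, ?_, ?_⟩
      · refine le_antisymm (fun z hz => Subgroup.mem_center_iff.mpr fun x => Subtype.ext
          (hcent _ ⟨z, hz, rfl⟩ _ x.2)) fun z hz => ?_
        set Z := (Subgroup.center P).map P.subtype with hZ
        have hZP : Z < P := by
          refine lt_of_le_of_ne (Subgroup.map_subtype_le _) fun h => habel ?_
          rw [eq_bot_iff, Subgroup.commutator_le]
          intro x hx y hy
          rw [Subgroup.mem_bot, commutatorElement_eq_one_iff_mul_comm]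
          obtain ⟨y', hy', rfl⟩ := h.ge hy
          exact congrArg Subtype.val (Subgroup.mem_center_iff.mp hy' ⟨x, hx⟩)
        have hBZ : B ≤ Subgroup.normalizer (Z : Set X) := by
          intro b hb
          rw [Subgroup.mem_set_normalizer_iff]
          have key : ∀ c : X, (∀ x, x ∈ P ↔ c * x * c⁻¹ ∈ P) → ∀ w ∈ Z, c * w * c⁻¹ ∈ Z := by
            rintro c hc _ ⟨w, hw, rfl⟩
            refine ⟨⟨c * w * c⁻¹, (hc _).mp w.2⟩, Subgroup.mem_center_iff.mpr fun x => Subtype.ext ?_, rfl⟩
            have h1 : c⁻¹ * x * c ∈ P := (hc _).mpr (by simpa [mul_assoc] using x.2)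
            have h2 := congrArg Subtype.val (Subgroup.mem_center_iff.mp hw ⟨_, h1⟩)
            show (x : X) * (c * w * c⁻¹) = c * w * c⁻¹ * x
            calc (x : X) * (c * w * c⁻¹) = c * (c⁻¹ * x * c * w) * c⁻¹ := by group
              _ = c * ((w : X) * (c⁻¹ * x * c)) * c⁻¹ := by rw [show c⁻¹ * (x : X) * c * w = w * (c⁻¹ * x * c) from h2]
              _ = _ := by group
          intro w
          refine ⟨key b (Subgroup.mem_set_normalizer_iff.mp (hBP hb)) w, fun hw => ?_⟩
          have := key b⁻¹ (Subgroup.mem_set_normalizer_iff.mp (hBP (inv_mem hb))) _ hw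
          simpa [mul_assoc] using this
        have hzΦ : (z : X) ∈ Φ := hmem Φ hPP hAΦ hPΦn z z.2
          (fun a ha => hfix Z hZP hBZ a ha z ⟨z, hz, rfl⟩)
        obtain ⟨w, hw, hwz⟩ := hzΦ
        rwa [← Subtype.ext hwz (a1 := w) (a2 := z)]
      · refine le_antisymm (fun z hz => Subgroup.mem_center_iff.mpr fun x => Subtype.ext ?_) fun z hz => ?_
        · exact hcent _ (hPP (Subgroup.map_subtype_commutator P ▸ ⟨z, hz, rfl⟩)) _ x.2
        · have hΦeq : Φ = ⁅P, P⁆ := le_antisymm hΦD hPP
          by_cases hzc : (z : X) ∈ ⁅P, P⁆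
          · rw [← Subgroup.map_subtype_commutator P] at hzc
            exact (Subgroup.mem_map_iff_mem P.subtype_injective).mp hzc
          · exfalso
            set Z := (Subgroup.center P).map P.subtype with hZ
            have hBZ : B ≤ Subgroup.normalizer (Z : Set X) :=
              hBP.trans (by
                intro c hc
                rw [Subgroup.mem_set_normalizer_iff]
                have key : ∀ c : X, c ∈ Subgroup.normalizer (P : Set X) → ∀ w ∈ Z, c * w * c⁻¹ ∈ Z := by
                  rintro c hc _ ⟨w, hw, rfl⟩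
                  have hcP := Subgroup.mem_set_normalizer_iff.mp hc
                  refine ⟨⟨c * w * c⁻¹, (hcP _).mp w.2⟩, Subgroup.mem_center_iff.mpr fun x => Subtype.ext ?_, rfl⟩
                  have h1 : c⁻¹ * x * c ∈ P := (hcP _).mpr (by simpa [mul_assoc] using x.2)
                  have h2 := congrArg Subtype.val (Subgroup.mem_center_iff.mp hw ⟨_, h1⟩)
                  show (x : X) * (c * w * c⁻¹) = c * w * c⁻¹ * x
                  calc (x : X) * (c * w * c⁻¹) = c * (c⁻¹ * x * c * w) * c⁻¹ := by group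
                    _ = c * ((w : X) * (c⁻¹ * x * c)) * c⁻¹ := by rw [show c⁻¹ * (x : X) * c * w = w * (c⁻¹ * x * c) from h2]
                    _ = _ := by group
                intro w
                refine ⟨key c hc w, fun hw => ?_⟩
                have := key c⁻¹ (inv_mem hc) _ hw
                simpa [mul_assoc] using this)
            have hZP : Z < P := by
              refine lt_of_le_of_ne (Subgroup.map_subtype_le _) fun h => habel ?_
              rw [eq_bot_iff, Subgroup.commutator_le]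
              intro x hx y hy
              rw [Subgroup.mem_bot, commutatorElement_eq_one_iff_mul_comm]
              obtain ⟨y', hy', rfl⟩ := h.ge hy
              exact congrArg Subtype.val (Subgroup.mem_center_iff.mp hy' ⟨x, hx⟩)
            exact hzc (hmem _ le_rfl hAD hPD z z.2 (fun a ha => hfix Z hZP hBZ a ha z ⟨z, hz, rfl⟩))
  · intro U hΦU hUP hBU
    by_cases hU : U = P
    · exact Or.inr hU
    refine Or.inl (le_antisymm (fun u hu => ?_) hΦU)
    exact hmem Φ hPP hAΦ hPΦn u (hUP hu) (fun a ha => hfix U (lt_of_le_of_ne hUP hU) hBU a ha u hu)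
  · intro hp2 x hx
    let θ : P →* X :=
      { toFun := fun y => (y : X) ^ p
        map_one' := by simp
        map_mul' := fun y z => by
          show ((y : X) * z) ^ p = (y : X) ^ p * (z : X) ^ p
          set c := ⁅(z : X), (y : X)⁆ with hc
          have hcΦ : c ∈ Φ := hPP (Subgroup.commutator_mem_commutator z.2 y.2)
          have hcy : Commute c (y : X) := (hcent c hcΦ _ y.2).symm
          have hcz : Commute c (z : X) := (hcent c hcΦ _ z.2).symm
          have hzy : (z : X) * y = c * y * z := by rw [hc, commutatorElement_def]; group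
          rw [Cfsg.Agent.Lib.OddLocal.mul_pow_of_central_commutator hcy.symm hcz.symm hzy p]
          have h2 : ∀ k : ℕ, (z : X) ^ k * y * ((z : X) ^ k)⁻¹ = c ^ k * y := fun k =>
            Cfsg.Agent.Lib.OddLocal.conj_pow_eq (a := (z : X)) (h := (y : X)) (z := c)
              (by rw [hzy]; group) (by rw [hcz.symm.eq]; group) k
          have h1 : c ^ p = 1 := by
            have := h2 p
            rw [← hcent _ (hpow _ z.2) _ y.2, mul_inv_cancel_right] at this
            exact mul_eq_right.mp this.symm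
          have hd : p ∣ p.choose 2 :=
            (Fact.out : p.Prime).dvd_choose_self two_ne_zero
              (lt_of_le_of_ne (Fact.out : p.Prime).two_le (Ne.symm hp2))
          obtain ⟨k, hk⟩ := hd
          rw [hk, pow_mul, h1, one_pow, one_mul] }
    have hker : ⁅P, A⁆ ≤ θ.ker.map P.subtype := by
      rw [Subgroup.commutator_le]
      intro y hy a ha
      have hy' : a * y * a⁻¹ ∈ P := (Subgroup.mem_set_normalizer_iff.mp (hAP ha) _).mp hy
      refine ⟨⟨y, hy⟩ * (⟨_, hy'⟩ : P)⁻¹, ?_, by simp [commutatorElement_def, mul_assoc]⟩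
      rw [SetLike.mem_coe, MonoidHom.mem_ker, map_mul, map_inv]
      show y ^ p * ((a * y * a⁻¹) ^ p)⁻¹ = 1
      rw [conj_pow, hfix Φ hΦP hBΦ a ha _ (hpow y hy), mul_inv_cancel]
    obtain ⟨w, hw, rfl⟩ := hker (hPA.symm ▸ hx)
    exact MonoidHom.mem_ker.mp hw

end Cfsg.Agent.S3736
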