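import Cfsg.Statements.S3739
import Cfsg.Agent.S0093
import Cfsg.Agent.S0121
import Cfsg.Agent.Lib.Cores
import Cfsg.Agent.Lib.Solvable.Nilpotent
import Cfsg.Agent.Lib.QuadCount.InvolutionBound

set_option autoImplicit false
open Cfsg

namespace Cfsg.Agent.S3739

open Subgroup Cfsg.Agent.Lib
open scoped commutatorElement

universe v

variable {G : Type v} [Group G] [Finite G]

theorem elementary_card_le (hno : ∀ E : Subgroup G, Cfsg.IsElementaryAbelian 2 E → Nat.card E ≠ 8)
    (U : Subgroup G) (hU : Cfsg.IsElementaryAbelian 2 U) :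
    Nat.card U = 1 ∨ Nat.card U = 2 ∨ Nat.card U = 4 := by
  haveI : Fact (Nat.Prime 2) := ⟨Nat.prime_two⟩
  have hp : IsPGroup 2 U := fun u => ⟨1, Subtype.ext (by simpa using hU.2 u u.2)⟩
  obtain ⟨j, hj⟩ := IsPGroup.iff_card.mp hp
  have : j < 3 := by
    by_contra hj3
    obtain ⟨K, hK⟩ := Sylow.exists_subgroup_card_pow_prime (G := U) 2 (n := 3)
      (by rw [hj]; exact pow_dvd_pow 2 (by omega))
    refine hno (K.map U.subtype) ⟨?_, ?_⟩ ?_
    · exact ⟨⟨fun a b => Subtype.ext (congrArg Subtype.val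
        (hU.1.1.comm ⟨a, map_subtype_le K a.2⟩ ⟨b, map_subtype_le K b.2⟩) :)⟩⟩
    · exact fun a ha => hU.2 a (map_subtype_le K ha)
    · rw [card_map_of_injective U.subtype_injective, hK]
      norm_num
  interval_cases j <;> simp_all

theorem mem_of_commuting (hno : ∀ E : Subgroup G, Cfsg.IsElementaryAbelian 2 E → Nat.card E ≠ 8)
    (W : Subgroup G) (hW : Cfsg.IsElementaryAbelian 2 W) (hcard : Nat.card W = 4) {t : G}
    (ht : t ^ 2 = 1) (hc : ∀ w ∈ W, Commute t w) : t ∈ W := by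
  have ht1 : t⁻¹ = t := inv_eq_of_mul_eq_one_right (by rw [← pow_two]; exact ht)
  have hWc : ∀ a ∈ W, ∀ b ∈ W, Commute a b := fun a ha b hb =>
    congrArg Subtype.val (hW.1.1.comm ⟨a, ha⟩ ⟨b, hb⟩)
  let U : Subgroup G :=
    { carrier := {g | g ∈ W ∨ t * g ∈ W}
      one_mem' := Or.inl W.one_mem
      mul_mem' := fun {a b} ha hb => by
        have htt : t * t = 1 := by rw [← pow_two]; exact ht
        rcases ha with ha | ha <;> rcases hb with hb | hb
        · exact Or.inl (W.mul_mem ha hb)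
        · refine Or.inr ?_
          rw [← mul_assoc, (hc a ha).eq, mul_assoc]
          exact W.mul_mem ha hb
        · refine Or.inr ?_
          rw [← mul_assoc]; exact W.mul_mem ha hb
        · refine Or.inl ?_
          have hta : Commute t a := by
            have h1 := (hc _ ha)
            have : Commute t (t⁻¹ * (t * a)) := (Commute.refl t).inv_right.mul_right h1
            rwa [inv_mul_cancel_left] at this
          have : a * b = (t * a) * (t * b) := by
            rw [← mul_assoc (t * a), mul_assoc t a t, ← hta.eq, ← mul_assoc t t a, htt, one_mul]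
          rw [this]; exact W.mul_mem ha hb
      inv_mem' := fun {a} ha => by
        rcases ha with ha | ha
        · exact Or.inl (W.inv_mem ha)
        · refine Or.inr ?_
          have hta : Commute t a := by
            have : Commute t (t⁻¹ * (t * a)) := (Commute.refl t).inv_right.mul_right (hc _ ha)
            rwa [inv_mul_cancel_left] at this
          have h2 := W.inv_mem ha
          rwa [mul_inv_rev, ht1, ← hta.inv_right.eq] at h2 }
  have hUt : t ∈ U := Or.inr (by rw [← pow_two, ht]; exact W.one_mem)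
  have htU : ∀ a ∈ U, Commute t a := by
    rintro a (ha | ha)
    · exact hc a ha
    · have : Commute t (t⁻¹ * (t * a)) := (Commute.refl t).inv_right.mul_right (hc _ ha)
      rwa [inv_mul_cancel_left] at this
  have hdec : ∀ a ∈ U, ∃ w ∈ W, a = w ∨ a = t * w := by
    rintro a (ha | ha)
    · exact ⟨a, ha, Or.inl rfl⟩
    · exact ⟨t * a, ha, Or.inr (by rw [← mul_assoc, ← pow_two, ht, one_mul])⟩
  have hUe : Cfsg.IsElementaryAbelian 2 U := by
    refine ⟨⟨⟨fun a b => Subtype.ext ?_⟩⟩, fun a ha => ?_⟩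
    · show Commute (a : G) b
      obtain ⟨w, hw, ha⟩ := hdec a a.2
      obtain ⟨w', hw', hb⟩ := hdec b b.2
      rcases ha with ha | ha <;> rcases hb with hb | hb <;> rw [ha, hb]
      · exact hWc w hw w' hw'
      · exact (hc w hw).symm.mul_right (hWc w hw w' hw')
      · exact (hc w' hw').mul_left (hWc w hw w' hw')
      · exact ((Commute.refl t).mul_right (hc w' hw')).mul_left
          ((hc w hw).symm.mul_right (hWc w hw w' hw'))
    · obtain ⟨w, hw, rfl | rfl⟩ := hdec a ha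
      · exact hW.2 _ hw
      · rw [(hc w hw).mul_pow, ht, hW.2 w hw, one_mul]
  have hle : W ≤ U := fun w hw => Or.inl hw
  have hcU : Nat.card U ≤ 4 := by
    rcases elementary_card_le hno U hUe with h | h | h <;> omega
  have := eq_of_le_of_card_ge hle (by omega)
  rw [this]; exact hUt

/-- The counting argument. -/
theorem main_aux (hchar : centralizer (Cfsg.pCore 2 G : Set G) ≤ Cfsg.pCore 2 G) {x d : G}
    (hx : orderOf x = 3) (W : Subgroup G) (hW : Cfsg.IsElementaryAbelian 2 W)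
    (hcard : Nat.card W = 4) (hWQ : W ≤ Cfsg.pCore 2 G)
    (hWc : W ≤ centralizer (Cfsg.pCore 2 G : Set G))
    (hinv : ∀ q ∈ Cfsg.pCore 2 G, q ^ 2 = 1 → q ∈ W)
    (hxW : ∀ w ∈ W, x * w * x⁻¹ = w) (hdW : ∀ w ∈ W, d * w * d⁻¹ ∈ W)
    (hdf : ∀ w ∈ W, d * w * d⁻¹ = w → w = 1) : False := by
  classical
  haveI : Fact (Nat.Prime 2) := ⟨Nat.prime_two⟩
  haveI : Fact (Nat.Prime 3) := ⟨Nat.prime_three⟩
  set Q := Cfsg.pCore 2 G with hQdef
  have hQn : Q.Normal := Cfsg.pCore_normal 2 G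
  have hQ2 : IsPGroup 2 Q := Cores.pCore_isPGroup 2 G
  have hx3 : x ^ 3 = 1 := hx ▸ pow_orderOf_eq_one x
  have hxxx : x * x * x = 1 := by rw [← hx3, pow_three, mul_assoc]
  obtain ⟨H, hHc, h1, h2, h3⟩ := Cfsg.Agent.S0093.result hQ2
  set a : MulAut Q := MulAut.conjNormal (H := Q) x with ha
  have ha3 : a ^ 3 = 1 := by rw [ha, ← map_pow, hx3, map_one]
  have hamove : ∃ h : Q, h ∈ H ∧ a h ≠ h := by
    by_contra hall
    push Not at hall
    have h1' : a = 1 := Cfsg.Agent.S0121.result hQ2 H hHc h1 h2 h3 a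
      (Nat.Coprime.coprime_dvd_left (orderOf_dvd_of_pow_eq_one ha3) (by norm_num)) hall
    have hxQ : x ∈ Q := hchar (mem_centralizer_iff.mpr fun q hq => by
      have := congrArg Subtype.val (MulEquiv.congr_fun h1' ⟨q, hq⟩)
      simp [ha] at this
      calc q * x = (x * q * x⁻¹) * x := by rw [this]
        _ = x * q := by group)
    obtain ⟨k, hk⟩ := hQ2 ⟨x, hxQ⟩
    have hd : 3 ∣ 2 ^ k := hx ▸ orderOf_dvd_of_pow_eq_one (congrArg Subtype.val hk)
    exact absurd ((Nat.prime_dvd_prime_iff_eq Nat.prime_three Nat.prime_two).mp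
      (Nat.prime_three.dvd_of_dvd_pow hd)) (by norm_num)
  set H' := H.map Q.subtype with hH'
  have hH'Q : H' ≤ Q := map_subtype_le H
  haveI := hHc
  haveI := hQn
  have hH'n : H'.Normal := inferInstance
  -- `H'` has class two with squares in its centre
  have hcomm2 : ∀ y ∈ H', ∀ z ∈ H', ∀ w ∈ H', Commute ⁅y, z⁆ w := by
    rintro _ ⟨y, hy, rfl⟩ _ ⟨z, hz, rfl⟩ _ ⟨w, hw, rfl⟩
    have := h2 (commutator_mem_commutator hy (mem_top z))
    have hcw : Commute ⁅y, z⁆ w := (mem_centralizer_iff.mp this.2 w hw).symm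
    simpa [map_commutatorElement] using hcw.map Q.subtype
  have hsq : ∀ y ∈ H', ∀ w ∈ H', Commute (y ^ 2) w := by
    rintro _ ⟨y, hy, rfl⟩ _ ⟨w, hw, rfl⟩
    have hmem : y ^ 2 ∈ centralizer (H : Set Q) :=
      h1 ⟨(⟨y, hy⟩ : H) ^ 2, Cores.pow_mem_frattini (hQ2.to_subgroup H) _, rfl⟩
    have hcw : Commute (y ^ 2) w := (mem_centralizer_iff.mp hmem w hw).symm
    simpa using hcw.map Q.subtype
  have hcommW : ∀ y ∈ H', ∀ z ∈ H', ⁅y, z⁆ ∈ W := by
    intro y hy z hz
    refine hinv _ (hH'Q (H'.mul_mem (H'.mul_mem (H'.mul_mem hy hz) (H'.inv_mem hy)) (H'.inv_mem hz))) ?_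
    have hc := hcomm2 y hy z hz
    have h4 : y * y * z = z * (y * y) := by
      have := (hsq y hy z hz).eq; rwa [pow_two] at this
    have e1 : y * z * y⁻¹ = ⁅y, z⁆ * z := by rw [commutatorElement_def]; group
    have e2 : y * (y * z * y⁻¹) * y⁻¹ = ⁅y, z⁆ * ⁅y, z⁆ * z := by
      rw [e1, show y * (⁅y, z⁆ * z) * y⁻¹ = (y * ⁅y, z⁆ * y⁻¹) * (y * z * y⁻¹) by group,
        show y * ⁅y, z⁆ * y⁻¹ = ⁅y, z⁆ by rw [← (hc y hy).eq, mul_inv_cancel_right], e1, mul_assoc]
    rw [show y * (y * z * y⁻¹) * y⁻¹ = (y * y * z) * (y * y)⁻¹ by group, h4,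
      mul_inv_cancel_right] at e2
    rw [pow_two]
    exact (mul_eq_right.mp e2.symm)
  have hcentW : ∀ w ∈ W, ∀ q ∈ Q, Commute w q := fun w hw q hq =>
    (mem_centralizer_iff.mp (hWc hw) q hq).symm
  have hWH : W ≤ H' := fun w hw => ⟨⟨w, hWQ hw⟩, h3 (mem_centralizer_iff.mpr fun h hh =>
    Subtype.ext (hcentW w hw h h.2).eq.symm), rfl⟩
  -- `x` fixes the abelian group of central elements
  have hfixZ : ∀ k : ℕ, ∀ z ∈ H', (∀ w ∈ H', Commute z w) → orderOf z = k → x * z * x⁻¹ = z := by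
    intro k
    induction k using Nat.strongRecOn with
    | ind k IH =>
    intro z hz hzc hk
    rcases eq_or_ne z 1 with rfl | hz1
    · simp
    have hlt : orderOf (z ^ 2) < k := by
      obtain ⟨j, hj⟩ := hQ2 ⟨z, hH'Q hz⟩
      have hd : orderOf z ∣ 2 ^ j := orderOf_dvd_of_pow_eq_one (congrArg Subtype.val hj)
      obtain ⟨i, -, hi⟩ := (Nat.dvd_prime_pow Nat.prime_two).mp hd
      have hi0 : i ≠ 0 := fun h => hz1 (orderOf_eq_one_iff.mp (by rw [hi, h, pow_zero]))
      rw [orderOf_pow' z two_ne_zero, ← hk, hi,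
        Nat.gcd_eq_right (dvd_pow_self 2 hi0)]
      exact Nat.div_lt_self (by positivity) one_lt_two
    have h2fix := IH _ hlt (z ^ 2) (H'.pow_mem hz 2) (fun w hw => (hzc w hw).pow_left 2) rfl
    set z' := x * z * x⁻¹ with hz'
    have hz'H : z' ∈ H' := hH'n.conj_mem z hz x
    have hw : z⁻¹ * z' ∈ W := hinv _ (hH'Q (H'.mul_mem (H'.inv_mem hz) hz'H)) (by
      rw [((hzc z' hz'H).inv_left).mul_pow, hz', conj_pow, h2fix, inv_pow, inv_mul_cancel])
    set w := z⁻¹ * z' with hwdef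
    have e : z' = z * w := by rw [hwdef, mul_inv_cancel_left]
    have hwx := hxW w hw
    have e3 : x * (x * (x * z * x⁻¹) * x⁻¹) * x⁻¹ = z * (w * w * w) := by
      rw [← hz', e, show x * (z * w) * x⁻¹ = (x * z * x⁻¹) * (x * w * x⁻¹) by group, ← hz', hwx, e,
        show x * (z * w * w) * x⁻¹ = (x * z * x⁻¹) * (x * w * x⁻¹) * (x * w * x⁻¹) by group, ← hz',
        hwx, e]
      group
    rw [show x * (x * (x * z * x⁻¹) * x⁻¹) * x⁻¹ = (x * x * x) * z * (x * x * x)⁻¹ by group, hxxx, one_mul,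
      inv_one, mul_one] at e3
    have hw3 : w * w * w = 1 := (mul_eq_left.mp e3.symm)
    rw [← pow_two, hW.2 w hw, one_mul] at hw3
    rw [e, hw3, mul_one]
  obtain ⟨u, hu, hmove⟩ := hamove
  have huH : (u : G) ∈ H' := ⟨u, hu, rfl⟩
  have hmove' : x * u * x⁻¹ ≠ u := fun h => hmove (Subtype.ext (by simpa [ha] using h))
  -- the subgroup of elements with square in `W`
  let K : Subgroup G :=
    { carrier := {k | k ∈ H' ∧ k ^ 2 ∈ W}
      one_mem' := ⟨H'.one_mem, by rw [one_pow]; exact W.one_mem⟩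
      mul_mem' := fun {k l} hk hl => by
        refine ⟨H'.mul_mem hk.1 hl.1, ?_⟩
        have e : (k * l) ^ 2 = k ^ 2 * (k⁻¹ * ⁅l, k⁆ * k) * l ^ 2 := by
          rw [commutatorElement_def, pow_two, pow_two, pow_two]; group
        rw [e, show k⁻¹ * ⁅l, k⁆ * k = ⁅l, k⁆ by
          rw [mul_assoc, (hcomm2 l hl.1 k hk.1 k hk.1).eq, inv_mul_cancel_left]]
        exact W.mul_mem (W.mul_mem hk.2 (hcommW l hl.1 k hk.1)) hl.2
      inv_mem' := fun {k} hk => ⟨H'.inv_mem hk.1, by rw [inv_pow]; exact W.inv_mem hk.2⟩ }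
  have hKH : ∀ k ∈ K, k ∈ H' := fun k hk => hk.1
  have hKinv : ∀ g : G, (∀ w ∈ W, g * w * g⁻¹ ∈ W) → ∀ k ∈ K, g * k * g⁻¹ ∈ K := fun g hg k hk =>
    ⟨hH'n.conj_mem k hk.1 g, by rw [conj_pow]; exact hg _ hk.2⟩
  have hxWmem : ∀ w ∈ W, x * w * x⁻¹ ∈ W := fun w hw => by rw [hxW w hw]; exact hw
  set y := (u : G)⁻¹ * (x * u * x⁻¹) with hy
  have hu'H : x * u * x⁻¹ ∈ H' := hH'n.conj_mem _ huH x
  have hu2 : x * (u : G) ^ 2 * x⁻¹ = (u : G) ^ 2 :=
    hfixZ _ _ (H'.pow_mem huH 2) (hsq _ huH) rfl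
  have hyK : y ∈ K := by
    refine ⟨H'.mul_mem (H'.inv_mem huH) hu'H, ?_⟩
    set v := x * (u : G) * x⁻¹ with hv
    have hv2 : v * v = (u : G) * u := by
      rw [← pow_two, ← pow_two, hv, conj_pow, hu2]
    have e : y ^ 2 = (u : G)⁻¹ * (⁅v, (u : G)⁻¹⁆ * (u : G)⁻¹ * v) * v := by
      rw [hy, pow_two, commutatorElement_def]; group
    rw [e, (hcomm2 v hu'H _ (H'.inv_mem huH) _ (H'.inv_mem huH)).eq,
      show (u : G)⁻¹ * ((u : G)⁻¹ * ⁅v, (u : G)⁻¹⁆ * v) * v =
        ((u : G) * u)⁻¹ * (⁅v, (u : G)⁻¹⁆ * (v * v)) by group, hv2,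
      show ⁅v, (u : G)⁻¹⁆ * ((u : G) * u) = ((u : G) * u) * ⁅v, (u : G)⁻¹⁆ from
        (hcomm2 v hu'H _ (H'.inv_mem huH) _ (H'.mul_mem huH huH)).eq, inv_mul_cancel_left]
    exact hcommW v hu'H _ (H'.inv_mem huH)
  set c := y ^ 2 with hc
  have hyW : y ∉ W := by
    intro hyW
    have hwx := hxW y hyW
    have e : x * u * x⁻¹ = u * y := by rw [hy, mul_inv_cancel_left]
    have e3 : x * (x * (x * u * x⁻¹) * x⁻¹) * x⁻¹ = u * (y * y * y) := by
      rw [e, show x * ((u : G) * y) * x⁻¹ = (x * u * x⁻¹) * (x * y * x⁻¹) by group, hwx, e,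
        show x * ((u : G) * y * y) * x⁻¹ = (x * u * x⁻¹) * (x * y * x⁻¹) * (x * y * x⁻¹) by group,
        hwx, e]
      group
    rw [show x * (x * (x * (u : G) * x⁻¹) * x⁻¹) * x⁻¹ = (x * x * x) * u * (x * x * x)⁻¹ by group, hxxx,
      one_mul, inv_one, mul_one] at e3
    have hw3 : y * y * y = 1 := (mul_eq_left.mp e3.symm)
    rw [← pow_two, hW.2 y hyW, one_mul] at hw3
    exact hmove' (by rw [e, hw3, mul_one])
  have hc1 : c ≠ 1 := fun h => hyW (hinv y (hH'Q (hKH y hyK)) h)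
  have hcW : c ∈ W := hyK.2
  have hy3 : y * (x * y * x⁻¹) * (x * (x * y * x⁻¹) * x⁻¹) = 1 := by
    rw [hy, show (u : G)⁻¹ * (x * u * x⁻¹) * (x * ((u : G)⁻¹ * (x * u * x⁻¹)) * x⁻¹) *
      (x * (x * ((u : G)⁻¹ * (x * u * x⁻¹)) * x⁻¹) * x⁻¹) =
      (u : G)⁻¹ * ((x * x * x) * u * (x * x * x)⁻¹) by group, hxxx]
    group
  -- no element with square `c` is fixed by `x`
  have hnofix : ∀ k ∈ K, k ^ 2 = c → x * k * x⁻¹ ≠ k := by
    intro k hk hk2 hfix
    have hyH := hKH y hyK
    have hkH := hKH k hk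
    set b := ⁅y, k⁆ with hb
    have hbW : b ∈ W := hcommW y hyH k hkH
    set y1 := x * y * x⁻¹ with hy1
    set y2 := x * y1 * x⁻¹ with hy2
    have hy1H : y1 ∈ H' := hH'n.conj_mem y hyH x
    have hy2H : y2 ∈ H' := hH'n.conj_mem y1 hy1H x
    have hb1 : ⁅y1, k⁆ = b := by
      conv_lhs => rw [hy1, ← hfix]
      rw [← conjugate_commutatorElement, hxW b hbW]
    have hb2 : ⁅y2, k⁆ = b := by
      conv_lhs => rw [hy2, ← hfix]
      rw [← conjugate_commutatorElement, hb1, hxW b hbW]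
    have hmul : ∀ p ∈ H', ∀ q ∈ H', ⁅p * q, k⁆ = ⁅p, k⁆ * ⁅q, k⁆ := by
      intro p hp q hq
      rw [show ⁅p * q, k⁆ = p * ⁅q, k⁆ * p⁻¹ * ⁅p, k⁆ by simp only [commutatorElement_def]; group,
        ← (hcomm2 q hq k hkH p hp).eq, mul_inv_cancel_right]
      exact (hcentW _ (hcommW q hq k hkH) _ (hH'Q (H'.mul_mem (H'.mul_mem (H'.mul_mem hp hkH)
        (H'.inv_mem hp)) (H'.inv_mem hkH)))).eq
    have hb3 : b * b * b = 1 := by
      calc b * b * b = ⁅y, k⁆ * ⁅y1, k⁆ * ⁅y2, k⁆ := by rw [← hb, hb1, hb2]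
        _ = ⁅y * y1 * y2, k⁆ := by rw [← hmul y hyH y1 hy1H, ← hmul _ (H'.mul_mem hyH hy1H) y2 hy2H]
        _ = 1 := by rw [hy2, hy1, hy3, commutatorElement_def]; group
    rw [← pow_two, hW.2 b hbW, one_mul] at hb3
    have hcom : Commute y k := commutatorElement_eq_one_iff_commute.mp (hb ▸ hb3)
    have hyk : (y * k) ^ 2 = 1 := by
      rw [hcom.mul_pow, hk2, ← hc, ← pow_two]; exact hW.2 c hcW
    have hykW : y * k ∈ W := hinv _ (hH'Q (H'.mul_mem hyH hkH)) hyk
    have hyfix : y1 = y := by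
      have := hxW _ hykW
      rw [show x * (y * k) * x⁻¹ = y1 * (x * k * x⁻¹) by rw [hy1]; group, hfix] at this
      exact mul_right_cancel this
    have h3y : y * y * y = 1 := by
      have := hy3
      rw [hy2, hyfix, show x * y * x⁻¹ = y from hy1.symm.trans hyfix] at this
      exact this
    have : y ^ 2 * y = 1 := by rw [pow_two]; exact h3y
    exact hyW (by rw [eq_inv_of_mul_eq_one_right this]; exact W.inv_mem hcW)
  -- the sizes of the fibres of squaring
  haveI := Fintype.ofFinite G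
  let F : G → Finset G := fun w => Finset.univ.filter fun k => k ∈ K ∧ k ^ 2 = w
  have hcardK : Nat.card K = ∑ w ∈ Finset.univ.filter (· ∈ W), (F w).card := by
    rw [Nat.card_eq_fintype_card, Fintype.card_subtype,
      Finset.card_eq_sum_card_fiberwise (f := fun k : G => k ^ 2) (t := Finset.univ.filter (· ∈ W))
        (fun k hk => by
          rw [Finset.mem_coe, Finset.mem_filter] at hk ⊢
          exact ⟨Finset.mem_univ _, hk.2.2⟩)]
    refine Finset.sum_congr rfl fun w _ => ?_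
    rw [Finset.filter_filter]
  have hF1 : (F 1).card = 4 := by
    rw [← hcard, Nat.card_eq_fintype_card, Fintype.card_subtype]
    congr 1
    ext k
    simp only [F, Finset.mem_filter, Finset.mem_univ, true_and]
    refine ⟨fun h => hinv k (hH'Q (hKH k h.1)) h.2, fun h => ⟨⟨hWH h, ?_⟩, hW.2 k h⟩⟩
    rw [hW.2 k h]; exact W.one_mem
  have hFd : ∀ w ∈ W, (F (d * w * d⁻¹)).card = (F w).card := by
    intro w hw
    have hd' : ∀ v ∈ W, d⁻¹ * v * d⁻¹⁻¹ ∈ W := by
      intro v hv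
      have hinj : Function.Injective (fun v : W => (⟨d * v * d⁻¹, hdW v v.2⟩ : W)) := fun v v' h =>
        Subtype.ext (by simpa using congrArg Subtype.val h)
      obtain ⟨v', hv'⟩ := (Finite.injective_iff_surjective.mp hinj) ⟨v, hv⟩
      have he : d * v' * d⁻¹ = v := congrArg Subtype.val hv'
      rw [← he]
      simp [mul_assoc]
    refine (Finset.card_bij (fun k _ => d * k * d⁻¹) ?_ ?_ ?_).symm
    · intro k hk
      simp only [F, Finset.mem_filter, Finset.mem_univ, true_and] at hk ⊢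
      exact ⟨hKinv d hdW k hk.1, by rw [conj_pow, hk.2]⟩
    · intro k _ l _ h
      simpa using h
    · intro l hl
      simp only [F, Finset.mem_filter, Finset.mem_univ, true_and] at hl ⊢
      refine ⟨d⁻¹ * l * d⁻¹⁻¹, ⟨hKinv _ hd' l hl.1, ?_⟩, by group⟩
      rw [conj_pow, hl.2]; group
  set c' := d * c * d⁻¹ with hc'
  set c'' := d * c' * d⁻¹ with hc''
  have hc'W : c' ∈ W := hdW c hcW
  have hc''W : c'' ∈ W := hdW c' hc'W
  have hne1 : c' ≠ c := fun h => hc1 (hdf c hcW h)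
  have hc'1 : c' ≠ 1 := fun h => hc1 (by
    rw [hc'] at h; simpa using h)
  have hne2 : c'' ≠ c' := fun h => hc'1 (hdf c' hc'W h)
  have hc''1 : c'' ≠ 1 := fun h => hc'1 (by
    rw [hc''] at h; simpa using h)
  have hne3 : c'' ≠ c := fun h => by
    have hprod : d * (c * c') * d⁻¹ = c * c' := by
      rw [show d * (c * c') * d⁻¹ = (d * c * d⁻¹) * (d * c' * d⁻¹) by group, ← hc', ← hc'', h]
      exact congrArg Subtype.val (hW.1.1.comm ⟨c', hc'W⟩ ⟨c, hcW⟩)
    have h' := hdf _ (W.mul_mem hcW hc'W) hprod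
    exact hne1 (((inv_eq_of_mul_eq_one_right h').symm.trans
      (inv_eq_of_mul_eq_one_right (by rw [← pow_two]; exact hW.2 c hcW))))
  have hWset : Finset.univ.filter (· ∈ W) = {1, c, c', c''} := by
    refine (Finset.eq_of_subset_of_card_le ?_ ?_).symm
    · intro v hv
      simp only [Finset.mem_insert, Finset.mem_singleton] at hv
      rw [Finset.mem_filter]
      refine ⟨Finset.mem_univ _, ?_⟩
      rcases hv with rfl | rfl | rfl | rfl
      · exact W.one_mem
      · exact hcW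
      · exact hc'W
      · exact hc''W
    · rw [← Fintype.card_subtype, ← Nat.card_eq_fintype_card, hcard,
        Finset.card_insert_of_notMem, Finset.card_insert_of_notMem, Finset.card_pair]
      · exact hne2.symm
      · simp [hne1.symm, hne3.symm]
      · simp [Ne.symm hc1, Ne.symm hc'1, Ne.symm hc''1]
  rw [hWset, Finset.sum_insert (by simp [Ne.symm hc1, Ne.symm hc'1, Ne.symm hc''1]),
    Finset.sum_insert (by simp [hne1.symm, hne3.symm]), Finset.sum_pair hne2.symm, hF1] at hcardK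
  have e1 : (F c').card = (F c).card := hFd c hcW
  have e2 : (F c'').card = (F c).card := (hFd c' hc'W).trans e1
  rw [e1, e2] at hcardK
  have h3dvd : 3 ∣ (F c).card := by
    let α := {k : G // k ∈ F c}
    have hmem : ∀ k : G, k ∈ F c → x * k * x⁻¹ ∈ F c := by
      intro k hk
      simp only [F, Finset.mem_filter, Finset.mem_univ, true_and] at hk ⊢
      exact ⟨hKinv x hxWmem k hk.1, by rw [conj_pow, hk.2, hxW c hcW]⟩
    let f : Function.End α := fun k => ⟨x * k * x⁻¹, hmem k k.2⟩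
    have hf3 : f ^ 3 ^ 1 = 1 := by
      funext k
      apply Subtype.ext
      show x * (x * (x * (k : G) * x⁻¹) * x⁻¹) * x⁻¹ = k
      rw [show x * (x * (x * (k : G) * x⁻¹) * x⁻¹) * x⁻¹ = (x * x * x) * k * (x * x * x)⁻¹ by group, hxxx]
      group
    have := Equiv.Perm.card_fixedPoints_modEq hf3
    have h0 : Fintype.card f.fixedPoints = 0 := by
      rw [Fintype.card_eq_zero_iff]
      refine ⟨fun k => ?_⟩
      have hk := k.1.2
      simp only [F, Finset.mem_filter, Finset.mem_univ, true_and] at hk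
      exact hnofix _ hk.1 hk.2 (congrArg Subtype.val k.2)
    rw [h0, Fintype.card_coe] at this
    exact Nat.modEq_zero_iff_dvd.mp this
  have hm0 : 0 < (F c).card := Finset.card_pos.mpr ⟨y, by
    simp only [F, Finset.mem_filter, Finset.mem_univ, true_and]; exact ⟨hyK, rfl⟩⟩
  -- the bound
  have hKp : IsPGroup 2 K := hQ2.to_le fun k hk => hH'Q (hKH k hk)
  have hb := (InvolutionBound.card_le_cube hKp
    (fun a b e => Subtype.ext (hcomm2 a (hKH _ a.2) b (hKH _ b.2) e (hKH _ e.2)).eq.symm)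
    (fun a => Subtype.ext (by
      show (a : G) ^ 4 = 1
      rw [show (4 : ℕ) = 2 * 2 from rfl, pow_mul]; exact hW.2 _ a.2.2))
    (fun a b ha hb => Subtype.ext (by
      have haW : (a : G) ∈ W := hinv _ (hH'Q (hKH _ a.2)) (congrArg Subtype.val ha)
      have hbW : (b : G) ∈ W := hinv _ (hH'Q (hKH _ b.2)) (congrArg Subtype.val hb)
      exact hW.2 _ (W.mul_mem haW hbW)))).1
  have hinvcard : Nat.card {k : K // k ^ 2 = 1} = 4 := by
    rw [← hcard]
    refine Nat.card_congr
      { toFun := fun k => ⟨(k.1 : G), hinv _ (hH'Q (hKH _ k.1.2)) (congrArg Subtype.val k.2)⟩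
        invFun := fun w => ⟨⟨w, hWH w.2, by rw [hW.2 _ w.2]; exact W.one_mem⟩,
          Subtype.ext (hW.2 _ w.2)⟩
        left_inv := fun k => rfl
        right_inv := fun w => rfl }
  rw [hinvcard] at hb
  obtain ⟨j, hj⟩ := IsPGroup.iff_card.mp hKp
  obtain ⟨l, hl⟩ := h3dvd
  rw [hj] at hb hcardK
  have : j ≤ 6 := by
    by_contra h
    have : 2 ^ 7 ≤ 2 ^ j := Nat.pow_le_pow_right two_pos (by omega)
    omega
  interval_cases j <;> omega

/-- Let G be a finite group with C_G(O₂(G)) ≤ O₂(G) containing an element of order 6, and let d be a non-identity 3-element of G normalizing a nontrivial elementary abelian 2-subgroup W with C_W(d) = 1. Then G has an elementary abelian subgroup of order 8. -/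
theorem result {G : Type*} [Group G] [Finite G] (hchar : Subgroup.centralizer (Cfsg.pCore 2 G : Set G) ≤ Cfsg.pCore 2 G) (hsix : ∃ g : G, orderOf g = 6) (d : G) (hd1 : d ≠ 1) (hd : IsPGroup 3 ↥(Subgroup.zpowers d)) (W : Subgroup G) (hW : Cfsg.IsElementaryAbelian 2 W) (hW1 : W ≠ ⊥) (hdW : d ∈ Subgroup.normalizer (W : Set G)) (hfpf : W ⊓ Subgroup.centralizer {d} = ⊥) : ∃ E : Subgroup G, Cfsg.IsElementaryAbelian 2 E ∧ Nat.card E = 8 := by
  by_contra hcon
  have hno : ∀ E : Subgroup G, Cfsg.IsElementaryAbelian 2 E → Nat.card E ≠ 8 :=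
    fun E h h' => hcon ⟨E, h, h'⟩
  haveI : Fact (Nat.Prime 2) := ⟨Nat.prime_two⟩
  have hdW' : ∀ w ∈ W, d * w * d⁻¹ ∈ W := fun w hw => (Subgroup.mem_normalizer_iff.mp hdW w).mp hw
  have hdf : ∀ w ∈ W, d * w * d⁻¹ = w → w = 1 := by
    intro w hw h
    have : w ∈ W ⊓ Subgroup.centralizer {d} :=
      ⟨hw, Subgroup.mem_centralizer_singleton_iff.mpr (mul_inv_eq_iff_eq_mul.mp h).symm⟩
    rwa [hfpf, Subgroup.mem_bot] at this
  have hnotwo : ∀ U : Subgroup G, U ≤ W → (∀ u ∈ U, d * u * d⁻¹ ∈ U) → Nat.card U ≠ 2 := by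
    intro U hU hinvU h2
    obtain ⟨u, hu, hu1⟩ := (Subgroup.bot_or_exists_ne_one U).resolve_left
      (fun h => by rw [h, Subgroup.card_bot] at h2; norm_num at h2)
    have hgen := zpowers_eq_top_of_prime_card h2 (g := (⟨u, hu⟩ : U)) (fun h => hu1 (congrArg Subtype.val h))
    have hu2 : u * u = 1 := by rw [← pow_two]; exact hW.2 u (hU hu)
    obtain ⟨i, hi⟩ := Subgroup.mem_zpowers_iff.mp
      (show (⟨_, hinvU u hu⟩ : U) ∈ Subgroup.zpowers ⟨u, hu⟩ by rw [hgen]; exact Subgroup.mem_top _)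
    have hi' : u ^ i = d * u * d⁻¹ := by
      have := congrArg Subtype.val hi
      simpa using this
    have hdu : d * u * d⁻¹ = u := by
      rcases Int.even_or_odd' i with ⟨l, rfl | rfl⟩
      · rw [zpow_mul, zpow_two, hu2, one_zpow] at hi'
        exact absurd (conj_eq_one_iff.mp hi'.symm) hu1
      · rw [zpow_add, zpow_mul, zpow_two, hu2, one_zpow, one_mul, zpow_one] at hi'
        exact hi'.symm
    exact hu1 (hdf u (hU hu) hdu)
  have hcard : Nat.card W = 4 := by
    rcases elementary_card_le hno W hW with h | h | h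
    · exact absurd (Subgroup.eq_bot_of_card_eq W h) hW1
    · exact absurd h (hnotwo W le_rfl hdW')
    · exact h
  set Q := Cfsg.pCore 2 G with hQdef
  have hQn : Q.Normal := Cfsg.pCore_normal 2 G
  have hQ2 : IsPGroup 2 Q := Cfsg.Agent.Lib.Cores.pCore_isPGroup 2 G
  haveI : Nontrivial G := nontrivial_of_ne d 1 hd1
  have hQ1 : Q ≠ ⊥ := by
    intro h
    have h' : Subgroup.centralizer ((⊥ : Subgroup G) : Set G) ≤ ⊥ := h ▸ hchar
    exact hd1 (Subgroup.mem_bot.mp (h' (Subgroup.mem_centralizer_iff.mpr fun g hg => by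
      rw [Subgroup.mem_bot.mp hg, one_mul, mul_one])))
  have hWp : IsPGroup 2 W := fun u => ⟨1, Subtype.ext (by simpa using hW.2 u u.2)⟩
  set S := W ⊔ Q with hS
  have hSp : IsPGroup 2 S := hWp.to_sup_of_normal_right hQ2
  haveI := hSp.isNilpotent
  have hQS : Q.subgroupOf S ≠ ⊥ := fun h => hQ1 (by
    rw [← Subgroup.map_subgroupOf_eq_of_le (le_sup_right : Q ≤ S), h, Subgroup.map_bot])
  obtain ⟨z, hz, hz1⟩ := (Subgroup.bot_or_exists_ne_one _).resolve_left
    (Cfsg.Agent.Lib.Solvable.inf_center_ne_bot hQS)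
  obtain ⟨m, hm⟩ := hSp z
  obtain ⟨i, -, hi⟩ := (Nat.dvd_prime_pow Nat.prime_two).mp (orderOf_dvd_of_pow_eq_one hm)
  obtain ⟨i', rfl⟩ : ∃ i', i = i' + 1 := Nat.exists_eq_succ_of_ne_zero fun h =>
    hz1 (orderOf_eq_one_iff.mp (by rw [hi, h, pow_zero]))
  set v := z ^ 2 ^ i' with hv
  have hvord : orderOf v = 2 := by
    rw [hv, orderOf_pow' z (by positivity), hi,
      Nat.gcd_eq_right (pow_dvd_pow 2 (Nat.le_succ i')), pow_succ]
    exact Nat.mul_div_cancel_left 2 (by positivity)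
  have hvmem := Subgroup.pow_mem _ hz (2 ^ i')
  rw [← hv, Subgroup.mem_inf, Subgroup.mem_center_iff] at hvmem
  have hvW : (v : G) ∈ W := mem_of_commuting hno W hW hcard
    (by rw [← SubmonoidClass.coe_pow, ← hvord, pow_orderOf_eq_one]; rfl)
    fun w hw => congrArg Subtype.val (hvmem.2 ⟨w, le_sup_left (a := W) hw⟩).symm
  set U := W ⊓ Q ⊓ Subgroup.centralizer (Q : Set G) with hU
  have hvU : (v : G) ∈ U := ⟨⟨hvW, hvmem.1⟩, Subgroup.mem_centralizer_iff.mpr fun q hq =>
    congrArg Subtype.val (hvmem.2 ⟨q, le_sup_right (a := W) hq⟩)⟩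
  have hUinv : ∀ u ∈ U, d * u * d⁻¹ ∈ U := by
    rintro u ⟨⟨hu1, hu2⟩, hu3⟩
    refine ⟨⟨hdW' u hu1, hQn.conj_mem u hu2 d⟩, ?_⟩
    haveI := hQn
    have hn : (Subgroup.centralizer (Q : Set G)).Normal := inferInstance
    exact hn.conj_mem u hu3 d
  have hUW : W = U := by
    refine (Subgroup.eq_of_le_of_card_ge (inf_le_left.trans inf_le_left) ?_).symm
    have hd : Nat.card U ∣ Nat.card W := Subgroup.card_dvd_of_le (inf_le_left.trans inf_le_left)
    rw [hcard] at hd ⊢
    rcases (Nat.dvd_prime_pow Nat.prime_two).mp (show Nat.card U ∣ 2 ^ 2 from hd) with ⟨k, hk, hUk⟩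
    interval_cases k
    · have : v = 1 := Subtype.ext
        (Subgroup.mem_bot.mp (Subgroup.eq_bot_of_card_eq U (hUk.trans (pow_zero 2)) ▸ hvU))
      rw [this, orderOf_one] at hvord; norm_num at hvord
    · exact absurd (hUk.trans (pow_one 2)) (hnotwo U (inf_le_left.trans inf_le_left) hUinv)
    · rw [hUk]; norm_num
  have hWQ : W ≤ Q := hUW.le.trans (inf_le_left.trans inf_le_right)
  have hWc : W ≤ Subgroup.centralizer (Q : Set G) := hUW.le.trans inf_le_right
  have hinv : ∀ q ∈ Q, q ^ 2 = 1 → q ∈ W := fun q hq h2 => mem_of_commuting hno W hW hcard h2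
    fun w hw => Subgroup.mem_centralizer_iff.mp (hWc hw) q hq
  have hWn : ∀ g : G, ∀ w ∈ W, g * w * g⁻¹ ∈ W := fun g w hw =>
    hinv _ (hQn.conj_mem w (hWQ hw) g) (by rw [conj_pow, hW.2 w hw, mul_one, mul_inv_cancel])
  obtain ⟨g, hg⟩ := hsix
  set x := g ^ 2 with hxdef
  set t := g ^ 3 with htdef
  have hx : orderOf x = 3 := by rw [hxdef, orderOf_pow' g two_ne_zero, hg]; rfl
  have ht : orderOf t = 2 := by rw [htdef, orderOf_pow' g three_ne_zero, hg]; rfl
  have hxt : Commute x t := Commute.pow_pow_self g 2 3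
  have hx3 : x ^ 3 = 1 := hx ▸ pow_orderOf_eq_one x
  have hxxx : x * x * x = 1 := by rw [← hx3, pow_three, mul_assoc]
  have ht2 : t ^ 2 = 1 := ht ▸ pow_orderOf_eq_one t
  -- a nontrivial element of `W` fixed by `x` forces `x` to centralize `W`
  have hone : ∀ w₀ ∈ W, w₀ ≠ 1 → x * w₀ * x⁻¹ = w₀ → ∀ w ∈ W, x * w * x⁻¹ = w := by
    intro w₀ hw₀ h01 hfix w hw
    have hW4 : ∀ a ∈ W, ∀ b ∈ W, a ≠ 1 → b ≠ 1 → a ≠ b → ∀ e ∈ W, e = 1 ∨ e = a ∨ e = b ∨ e = a * b := by
      classical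
      intro a ha b hb ha1 hb1 hab e he
      haveI := Fintype.ofFinite G
      have : ({1, a, b, a * b} : Finset G) = Finset.univ.filter (· ∈ W) := by
        refine Finset.eq_of_subset_of_card_le ?_ ?_
        · intro k hk
          simp only [Finset.mem_insert, Finset.mem_singleton] at hk
          rw [Finset.mem_filter]
          refine ⟨Finset.mem_univ _, ?_⟩
          rcases hk with rfl | rfl | rfl | rfl
          · exact W.one_mem
          · exact ha
          · exact hb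
          · exact W.mul_mem ha hb
        · rw [← Fintype.card_subtype, ← Nat.card_eq_fintype_card, hcard,
            Finset.card_insert_of_notMem, Finset.card_insert_of_notMem, Finset.card_pair]
          · exact fun h => ha1 (mul_eq_right.mp h.symm)
          · simp only [Finset.mem_insert, Finset.mem_singleton, not_or]
            exact ⟨hab, fun h => hb1 (mul_eq_left.mp h.symm)⟩
          · simp only [Finset.mem_insert, Finset.mem_singleton, not_or]
            refine ⟨Ne.symm ha1, Ne.symm hb1, fun h => hab ?_⟩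
            rw [eq_inv_of_mul_eq_one_left h.symm]
            exact inv_eq_of_mul_eq_one_right (by rw [← pow_two]; exact hW.2 b hb)
      have he' : e ∈ ({1, a, b, a * b} : Finset G) := by
        rw [this, Finset.mem_filter]; exact ⟨Finset.mem_univ _, he⟩
      simpa using he'
    by_cases hw1 : w = 1
    · rw [hw1]; group
    by_cases hw0 : w = w₀
    · rw [hw0]; exact hfix
    have hcase : ∀ v ∈ W, v ≠ 1 → v ≠ w₀ → x * v * x⁻¹ = v ∨ x * v * x⁻¹ = w₀ * v := by
      intro v hv hv1 hv0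
      rcases hW4 w₀ hw₀ v hv h01 hv1 (Ne.symm hv0) _ (hWn x v hv) with h | h | h | h
      · exact absurd (by simpa using h) hv1
      · exact absurd (by
          have := h.trans hfix.symm
          simpa using this) hv0
      · exact Or.inl h
      · exact Or.inr h
    rcases hcase w hw hw1 hw0 with h | h
    · exact h
    · exfalso
      have e3 : x * (x * (x * w * x⁻¹) * x⁻¹) * x⁻¹ = w₀ * w₀ * w₀ * w := by
        rw [h, show x * (w₀ * w) * x⁻¹ = (x * w₀ * x⁻¹) * (x * w * x⁻¹) by group, hfix, h,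
          show x * (w₀ * (w₀ * w)) * x⁻¹ = (x * w₀ * x⁻¹) * ((x * w₀ * x⁻¹) * (x * w * x⁻¹)) by group,
          hfix, h]
        group
      rw [show x * (x * (x * w * x⁻¹) * x⁻¹) * x⁻¹ = (x * x * x) * w * (x * x * x)⁻¹ by group, hxxx, one_mul,
        inv_one, mul_one, ← pow_two, hW.2 w₀ hw₀, one_mul] at e3
      exact h01 (mul_eq_right.mp e3.symm)
  have hxW : ∀ w ∈ W, x * w * x⁻¹ = w := by
    by_cases htW : t ∈ W
    · exact hone t htW (fun h => by rw [h, orderOf_one] at ht; norm_num at ht)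
        (by rw [hxt.eq, mul_inv_cancel_right])
    · obtain ⟨w, hw, hwne⟩ : ∃ w ∈ W, ¬ Commute t w := by
        by_contra h
        push Not at h
        exact htW (mem_of_commuting hno W hW hcard ht2 h)
      -- `x` permutes the fixed points of `t`
      set w₀ := w * (t * w * t⁻¹) with hw₀
      have hw₀W : w₀ ∈ W := W.mul_mem hw (hWn t w hw)
      have hw₀1 : w₀ ≠ 1 := fun h => hwne (by
        have h' : t * w * t⁻¹ = w⁻¹ := eq_inv_of_mul_eq_one_right h
        rw [inv_eq_of_mul_eq_one_right (show w * w = 1 by rw [← pow_two]; exact hW.2 w hw)] at h'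
        exact mul_inv_eq_iff_eq_mul.mp h')
      have hWc' : ∀ a ∈ W, ∀ b ∈ W, Commute a b := fun a ha b hb =>
        congrArg Subtype.val (hW.1.1.comm ⟨a, ha⟩ ⟨b, hb⟩)
      have ht0 : t * w₀ * t⁻¹ = w₀ := by
        rw [hw₀, show t * (w * (t * w * t⁻¹)) * t⁻¹ = (t * w * t⁻¹) * (t ^ 2 * w * (t ^ 2)⁻¹) by
          group, ht2, one_mul, inv_one, mul_one]
        exact (hWc' _ (hWn t w hw) w hw).eq
      set w₁ := x * w₀ * x⁻¹ with hw₁
      have hw₁W : w₁ ∈ W := hWn x w₀ hw₀W
      have ht1' : t * w₁ * t⁻¹ = w₁ := by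
        rw [hw₁, show t * (x * w₀ * x⁻¹) * t⁻¹ = (t * x) * w₀ * (t * x)⁻¹ by group, ← hxt.eq,
          show (x * t) * w₀ * (x * t)⁻¹ = x * (t * w₀ * t⁻¹) * x⁻¹ by group, ht0]
      refine hone w₀ hw₀W hw₀1 ?_
      by_contra hne
      refine htW (mem_of_commuting hno W hW hcard ht2 fun e he => ?_)
      -- two distinct fixed points generate `W`
      have c0 : Commute t w₀ := mul_inv_eq_iff_eq_mul.mp ht0
      have c1 : Commute t w₁ := mul_inv_eq_iff_eq_mul.mp ht1'
      classical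
      let T : Subgroup G := W ⊓ Subgroup.centralizer {t}
      have hTW : T = W := by
        refine Subgroup.eq_of_le_of_card_ge inf_le_left ?_
        have h01 : w₁ ≠ 1 := fun h => hw₀1 (by simpa [hw₁] using h)
        have hmem : ∀ a : G, a ∈ W → Commute t a → a ∈ T := fun a ha h =>
          ⟨ha, Subgroup.mem_centralizer_singleton_iff.mpr h.eq.symm⟩
        have hd : Nat.card T ∣ Nat.card W := Subgroup.card_dvd_of_le inf_le_left
        rw [hcard] at hd ⊢
        by_contra hlt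
        haveI : Fintype T := Fintype.ofFinite T
        have h3 : 3 ≤ Nat.card T := by
          rw [Nat.card_eq_fintype_card]
          refine le_trans ?_ (Finset.card_le_univ
            ({⟨1, T.one_mem⟩, ⟨w₀, hmem _ hw₀W c0⟩, ⟨w₁, hmem _ hw₁W c1⟩} : Finset T))
          rw [Finset.card_insert_of_notMem, Finset.card_pair]
          · exact fun h => hne (congrArg Subtype.val h).symm
          · simp only [Finset.mem_insert, Finset.mem_singleton, not_or]
            exact ⟨fun h => hw₀1 (congrArg Subtype.val h).symm,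
              fun h => h01 (congrArg Subtype.val h).symm⟩
        have hle : Nat.card T ≤ 4 := Nat.le_of_dvd (by norm_num) hd
        have heq3 : Nat.card T = 3 := by omega
        rw [heq3] at hd
        norm_num at hd
      have : e ∈ T := by rw [hTW]; exact he
      exact (Subgroup.mem_centralizer_singleton_iff.mp this.2).symm
  exact main_aux hchar hx W hW hcard hWQ hWc hinv hxW hdW' hdf

end Cfsg.Agent.S3739
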