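import Cfsg.Statements.S3740
import Cfsg.Agent.Lib.Geometry.Dickson.PrimeNormal
-- import your own Cfsg.Agent.* helpers here

set_option autoImplicit false
open Cfsg
open scoped Matrix
open Cfsg.Agent.Lib.Geometry.Dickson Cfsg.Agent.Lib.SL2Trace

namespace Cfsg.Agent.S3740

theorem data (F : Type) [Field F] [Fintype F] {p : ℕ} [Fact p.Prime] [CharP F p] (hp : p ≠ 2)
    (a : Matrix.SpecialLinearGroup (Fin 2) F) (ha : IsPGroup p ↥(Subgroup.zpowers a))
    (R : Subgroup (Matrix.SpecialLinearGroup (Fin 2) F)) (hR : (Nat.card R).Coprime p)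
    (haR : a ∈ Subgroup.normalizer (R : Set (Matrix.SpecialLinearGroup (Fin 2) F)))
    (hnt : ⁅R, Subgroup.zpowers a⁆ ≠ ⊥) :
    p = 3 ∧ Nonempty (↥R ≃* QuaternionGroup 2) ∧
      Nonempty (↥(R ⊔ Subgroup.zpowers a) ≃* Matrix.SpecialLinearGroup (Fin 2) (ZMod 3)) := by
  classical
  have hP : Nat.Prime p := Fact.out
  have hodd : Odd p := hP.odd_of_ne_two hp
  obtain ⟨k, hk⟩ := ha ⟨a, Subgroup.mem_zpowers a⟩
  have hk' : a ^ p ^ k = 1 := congrArg Subtype.val hk
  have hap : a ^ p = 1 := by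
    by_cases ht : tr a ^ 2 = 4
    · rcases pow_char_of_tr p ht with h | h
      · exact h
      · exfalso
        rcases k with _ | j
        · rw [pow_zero, pow_one] at hk'
          rw [hk', one_pow] at h
          exact eq_neg_imp_false hp (one_pow p) (one_pow p) h
        · rw [pow_succ', pow_mul, h, (hodd.pow).neg_one_pow] at hk'
          exact eq_neg_imp_false hp (one_pow p) (one_pow p) hk'.symm
    · have hq : p ∣ Fintype.card F := dvd_card_of_char
      have hd : ∀ m : ℕ, a ^ m = 1 → ¬ p ∣ m → a = 1 := fun m hm hpm => by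
        obtain ⟨i, -, hi⟩ := (Nat.dvd_prime_pow hP).mp (orderOf_dvd_of_pow_eq_one hk')
        rcases i with _ | i
        · exact orderOf_eq_one_iff.mp (hi.trans (pow_zero p))
        · exact absurd ((hi ▸ dvd_pow_self p i.succ_ne_zero : p ∣ orderOf a).trans
            (orderOf_dvd_of_pow_eq_one hm)) hpm
      suffices a = 1 by rw [this, one_pow]
      rcases pow_dichotomy ht with ⟨-, hm⟩ | ⟨-, hm⟩
      · refine hd _ hm fun hd' => ?_
        have := Nat.dvd_sub hq hd'
        rw [Nat.sub_sub_self Fintype.card_pos] at this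
        exact hP.one_lt.ne' (Nat.eq_one_of_dvd_one this)
      · refine hd _ hm fun hd' => ?_
        have := Nat.dvd_sub hd' hq
        rw [Nat.add_sub_cancel_left] at this
        exact hP.one_lt.ne' (Nat.eq_one_of_dvd_one this)
  obtain ⟨r, hr, hra⟩ : ∃ r ∈ R, r * a ≠ a * r := by
    by_contra h
    push Not at h
    apply hnt
    rw [Subgroup.commutator_eq_bot_iff_le_centralizer]
    intro x hx
    rw [Subgroup.mem_centralizer_iff]
    rintro _ ⟨i, rfl⟩
    exact ((Commute.zpow_right (h x hx) i).eq).symm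
  have haZ : a ∉ Subgroup.center _ := fun h => hra (Subgroup.mem_center_iff.mp h r)
  have hzz : Nat.card (Subgroup.center (Matrix.SpecialLinearGroup (Fin 2) F)) = 2 := by
    refine Cfsg.Agent.Lib.Classical.card_center_SL2_odd (Nat.odd_iff.mpr ?_)
    exact FiniteField.odd_card_of_char_ne_two (by rw [ringChar.eq F p]; exact hp)
  set N := R ⊔ Subgroup.center _ with hN
  have hZ : Subgroup.center _ ≤ N := le_sup_right
  have hNimg : N.map toPSL = R.map toPSL := by
    rw [hN, Subgroup.map_sup]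
    refine sup_eq_left.mpr ?_
    rintro _ ⟨z, hz, rfl⟩
    rw [toPSL_eq_one.mpr (mem_center_iff.mp hz)]
    exact Subgroup.one_mem _
  have hcN := card_map_toPSL N hZ N hZ le_rfl
  rw [hNimg, hzz] at hcN
  have hNp : (Nat.card N).Coprime p := by
    rw [hcN]
    exact Nat.Coprime.mul_left ((Nat.coprime_primes Nat.prime_two hP).mpr (Ne.symm hp))
      (hR.coprime_dvd_left (Subgroup.card_map_dvd R toPSL))
  have haN' : a ∈ Subgroup.normalizer (N : Set (Matrix.SpecialLinearGroup (Fin 2) F)) := by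
    rw [Subgroup.mem_normalizer_iff]
    intro h
    rw [hN]
    constructor
    · intro hh
      obtain ⟨x, hx, z, hz, rfl⟩ := Subgroup.mem_sup_of_normal_right.mp hh
      refine Subgroup.mem_sup_of_normal_right.mpr
        ⟨a * x * a⁻¹, (Subgroup.mem_normalizer_iff.mp haR x).mp hx, z, hz, ?_⟩
      rw [mul_assoc (a * x), ← mul_assoc a x z, mul_assoc (a * x) z, ← Subgroup.mem_center_iff.mp hz a⁻¹]
    · intro hh
      obtain ⟨x, hx, z, hz, hxz⟩ := Subgroup.mem_sup_of_normal_right.mp hh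
      refine Subgroup.mem_sup_of_normal_right.mpr ⟨a⁻¹ * x * a, ?_, z, hz, ?_⟩
      · exact (Subgroup.mem_normalizer_iff.mp haR _).mpr (by simpa [mul_assoc] using hx)
      · rw [mul_assoc (a⁻¹ * x), Subgroup.mem_center_iff.mp hz a]
        calc a⁻¹ * x * (z * a) = a⁻¹ * (x * z) * a := by group
          _ = h := by rw [hxz]; group
  set M := Subgroup.normalizer (N : Set (Matrix.SpecialLinearGroup (Fin 2) F)) with hM
  set G := N ⊔ Subgroup.zpowers a with hG
  have hGM : G ≤ M := sup_le Subgroup.le_normalizer (Subgroup.zpowers_le.mpr haN')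
  have hn : ∀ g ∈ G, ∀ x ∈ N, g * x * g⁻¹ ∈ N := fun g hg x hx =>
    (Subgroup.mem_normalizer_iff.mp (hGM hg) x).mp hx
  haveI : (N.subgroupOf M).Normal := Subgroup.normal_in_normalizer
  let π : M →* M ⧸ N.subgroupOf M := QuotientGroup.mk' _
  let f : G →* M ⧸ N.subgroupOf M := π.comp (Subgroup.inclusion hGM)
  have hfk : ∀ x : G, f x = 1 ↔ (x : Matrix.SpecialLinearGroup (Fin 2) F) ∈ N := fun x =>
    (QuotientGroup.eq_one_iff _).trans Iff.rfl
  set b : G := ⟨a, Subgroup.mem_sup_right (Subgroup.mem_zpowers a)⟩ with hb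
  have hfr : f.range = Subgroup.zpowers (f b) := by
    apply le_antisymm
    · rintro _ ⟨⟨x, hx⟩, rfl⟩
      have : G ≤ ((Subgroup.zpowers (f b)).comap f).map G.subtype := by
        refine sup_le (fun y hy => ⟨⟨y, Subgroup.mem_sup_left hy⟩, ?_, rfl⟩)
          (Subgroup.zpowers_le.mpr ⟨b, Subgroup.mem_zpowers _, rfl⟩)
        rw [SetLike.mem_coe, Subgroup.mem_comap, (hfk ⟨y, Subgroup.mem_sup_left hy⟩).mpr hy]
        exact Subgroup.one_mem _
      obtain ⟨y, hy, e⟩ := this hx
      rwa [show y = ⟨x, hx⟩ from Subtype.ext e] at hy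
    · exact Subgroup.zpowers_le.mpr ⟨b, rfl⟩
  have hord : orderOf (f b) = p := by
    refine orderOf_eq_prime ?_ ?_
    · rw [← map_pow, show b ^ p = 1 from Subtype.ext hap, map_one]
    · intro h
      have haN : a ∈ N := (hfk b).mp h
      have := Subgroup.orderOf_dvd_natCard N haN
      rw [orderOf_eq_prime hap (fun e => haZ (e ▸ Subgroup.one_mem _))] at this
      exact hP.one_lt.ne' (Nat.Coprime.eq_one_of_dvd hNp.symm this)
  have hcG : Nat.card G = Nat.card N * p := by
    have h := f.ker.card_mul_index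
    rw [Subgroup.index_ker, hfr, Nat.card_zpowers, hord] at h
    rw [← h]
    congr 1
    rw [show f.ker = N.subgroupOf G by
      ext x; rw [MonoidHom.mem_ker, hfk, Subgroup.mem_subgroupOf]]
    exact Nat.card_congr (Subgroup.subgroupOfEquivOfLe (le_sup_left : N ≤ G)).toEquiv
  have hcomm : ∀ g ∈ G, ∀ h ∈ G, g * h * g⁻¹ * h⁻¹ ∈ N := by
    intro g hg h hh
    obtain ⟨i, hi⟩ := (hfr ▸ ⟨⟨g, hg⟩, rfl⟩ : f ⟨g, hg⟩ ∈ Subgroup.zpowers (f b))
    obtain ⟨j, hj⟩ := (hfr ▸ ⟨⟨h, hh⟩, rfl⟩ : f ⟨h, hh⟩ ∈ Subgroup.zpowers (f b))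
    have h1 : f ((⟨g, hg⟩ : G) * ⟨h, hh⟩ * (⟨g, hg⟩ : G)⁻¹ * (⟨h, hh⟩ : G)⁻¹) = 1 := by
      rw [map_mul, map_mul, map_mul, map_inv, map_inv, ← hi, ← hj]
      group
    have h2 := (hfk _).mp h1
    simpa only [Subgroup.coe_mul, Subgroup.coe_inv] using h2
  obtain ⟨hp3, hN8, ⟨e⟩⟩ := prime_normal_data hp hZ (le_sup_left : N ≤ G) hNp hcG hn hcomm b.2 haZ hap
    ⟨r, Subgroup.mem_sup_left hr, hra⟩
  have hZR : Subgroup.center _ ≤ R := by
    have h4 : Nat.card (R.map toPSL) = 4 := by omega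
    haveI : Fact (Nat.Prime 2) := ⟨Nat.prime_two⟩
    obtain ⟨x, hx⟩ := exists_prime_orderOf_dvd_card' (G := R) 2
      ((show 2 ∣ 4 by decide).trans (h4 ▸ Subgroup.card_map_dvd R toPSL))
    have hx2 : (x : Matrix.SpecialLinearGroup (Fin 2) F) * x = 1 := by
      have := congrArg Subtype.val (pow_orderOf_eq_one x)
      rw [hx] at this
      simpa [pow_two] using this
    have hneg : (x : Matrix.SpecialLinearGroup (Fin 2) F) = -1 := by
      rcases mem_center_iff.mp ((Cfsg.Agent.Lib.Classical.mem_center_sl2_iff (char_two_ne hp) _).mpr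
        (Cfsg.Agent.Lib.Classical.sl2_sq_eq_one (char_two_ne hp) _ hx2)) with h | h
      · rw [show x = 1 from Subtype.ext h, orderOf_one] at hx; omega
      · exact h
    intro z hz
    rcases mem_center_iff.mp hz with rfl | rfl
    · exact R.one_mem
    · exact hneg ▸ x.2
  have hNR : N = R := sup_eq_left.mpr hZR
  have hGR : G = R ⊔ Subgroup.zpowers a := by rw [hG, hNR]
  refine ⟨hp3, ?_, ⟨(MulEquiv.subgroupCongr hGR.symm).trans e⟩⟩
  obtain ⟨Q, hQn, hQi, ⟨eQ⟩⟩ := Cfsg.Agent.Lib.Classical.SL2_three (F := ZMod 3) (by rw [ZMod.card])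
  set N'' := (N.subgroupOf G).map e.toMonoidHom with hN''
  have hc'' : Nat.card N'' = 8 := by
    rw [hN'', ← Nat.card_congr ((N.subgroupOf G).equivMapOfInjective e.toMonoidHom e.injective).toEquiv,
      Nat.card_congr (Subgroup.subgroupOfEquivOfLe (le_sup_left : N ≤ G)).toEquiv, hN8]
  have hQ8 : Nat.card Q = 8 := by
    rw [Nat.card_congr eQ.toEquiv, Nat.card_eq_fintype_card, QuaternionGroup.card]
  have hle : N'' ≤ Q := fun x hx => by
    haveI := hQn
    rw [← QuotientGroup.eq_one_iff]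
    have h1 : orderOf (x : Matrix.SpecialLinearGroup (Fin 2) (ZMod 3) ⧸ Q) ∣ 8 := by
      refine (orderOf_map_dvd (QuotientGroup.mk' Q) x).trans ?_
      rw [← hc'']
      exact Subgroup.orderOf_dvd_natCard N'' hx
    have h2 : orderOf (x : Matrix.SpecialLinearGroup (Fin 2) (ZMod 3) ⧸ Q) ∣ 3 :=
      (orderOf_dvd_natCard _).trans (dvd_of_eq (Q.index_eq_card.symm.trans hQi))
    have := Nat.dvd_gcd h1 h2
    exact orderOf_eq_one_iff.mp (Nat.eq_one_of_dvd_one (by simpa using this))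
  have heq : N'' = Q := Subgroup.eq_of_le_of_card_ge hle (by rw [hc'', hQ8])
  exact ⟨((MulEquiv.subgroupCongr hNR.symm).trans ((Subgroup.subgroupOfEquivOfLe (le_sup_left : N ≤ G)).symm.trans
    ((N.subgroupOf G).equivMapOfInjective e.toMonoidHom e.injective))).trans
      ((MulEquiv.subgroupCongr heq).trans eQ)⟩

/-- Let F be a finite field of odd characteristic p and let a be a p-element of SL₂(F) normalizing a subgroup R of order prime to p with [R, a] ≠ 1. Then p = 3, R is a quaternion group of order 8, and R⟨a⟩ is isomorphic to SL₂(3). -/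
theorem result (F : Type) [Field F] [Fintype F] {p : ℕ} [Fact p.Prime] [CharP F p] (hp : p ≠ 2) (a : Matrix.SpecialLinearGroup (Fin 2) F) (ha : IsPGroup p ↥(Subgroup.zpowers a)) (R : Subgroup (Matrix.SpecialLinearGroup (Fin 2) F)) (hR : (Nat.card R).Coprime p) (haR : a ∈ Subgroup.normalizer (R : Set (Matrix.SpecialLinearGroup (Fin 2) F))) (hnt : ⁅R, Subgroup.zpowers a⁆ ≠ ⊥) : p = 3 ∧ Nonempty (↥R ≃* QuaternionGroup 2) ∧ Nonempty (↥(R ⊔ Subgroup.zpowers a) ≃* Matrix.SpecialLinearGroup (Fin 2) (ZMod 3)) := by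
  exact data F hp a ha R hR haR hnt

end Cfsg.Agent.S3740
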