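import Cfsg.Statements.S3741
import Cfsg.Agent.Lib.Solvable.Nilpotent
import Cfsg.Agent.Lib.Cores.Frattini
import Mathlib.GroupTheory.Commutator.Basic

set_option autoImplicit false
open Cfsg

namespace Cfsg.Agent.S3741

open scoped commutatorElement

theorem half {G : Type*} [Group G] [Finite G] {p : ℕ} [Fact p.Prime] (hG : IsPGroup p G)
    (A B : Subgroup G) (hAB : ⁅A, B⁆ ≤ A ⊓ B) (hcard : Nat.card ↥⁅A, B⁆ ≤ p) :
    (A ⊓ Subgroup.centralizer (B : Set G)).relIndex A ≤
      (B ⊓ Subgroup.centralizer (A : Set G)).relIndex B := by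
  set Z := ⁅A, B⁆ with hZ
  have hcomm : ∀ a ∈ A ⊔ B, ∀ z ∈ Z, a * z = z * a := by
    have hN : (A ⊔ B) ≤ Subgroup.normalizer (Z : Set G) :=
      sup_le (Subgroup.normalizer_commutator_ge_left A B) (Subgroup.normalizer_commutator_ge_right A B)
    intro a ha z hz
    let Z' := Z.subgroupOf (A ⊔ B)
    haveI : Z'.Normal := Subgroup.normal_subgroupOf_of_le_normalizer hN
    rcases eq_or_ne Z ⊥ with h | h
    · rw [h, Subgroup.mem_bot] at hz; subst hz; simp
    have hsub : ∀ z ∈ Z, z ∈ A ⊔ B := fun z hz => Subgroup.mem_sup_left (hAB hz).1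
    haveI := (hG.to_subgroup (A ⊔ B)).isNilpotent
    have hne : Z' ≠ ⊥ := fun e => by
      obtain ⟨w, hw, hw1⟩ := Z.bot_or_exists_ne_one.resolve_left h
      exact hw1 (congrArg Subtype.val ((Subgroup.eq_bot_iff_forall _).mp e ⟨w, hsub w hw⟩ hw))
    have hint := Cfsg.Agent.Lib.Solvable.inf_center_ne_bot hne
    have hcardZ : Nat.card Z' ≤ p := by
      rw [Nat.card_congr (Subgroup.subgroupOfEquivOfLe hsub).toEquiv]; exact hcard
    have hp2 : Nat.card ↥(Z' ⊓ Subgroup.center _) ≥ p := by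
      obtain ⟨k, hk⟩ := IsPGroup.iff_card.mp ((hG.to_subgroup (A ⊔ B)).to_subgroup (Z' ⊓ Subgroup.center _))
      rw [hk]
      refine Nat.le_self_pow (fun h0 => hint ?_) p
      rw [h0, pow_zero] at hk
      exact Subgroup.card_eq_one.mp hk
    have heq : Z' ⊓ Subgroup.center _ = Z' :=
      Subgroup.eq_of_le_of_card_ge inf_le_left (hcardZ.trans hp2)
    have h1 : (⟨z, hsub z hz⟩ : ↥(A ⊔ B)) ∈ Z' ⊓ Subgroup.center _ := heq.symm ▸ (hz : _ ∈ Z')
    exact congrArg Subtype.val (Subgroup.mem_center_iff.mp h1.2 ⟨a, ha⟩)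
  set CB := B ⊓ Subgroup.centralizer (A : Set G) with hCB
  suffices h : ∀ (k : ℕ) (M : Subgroup G), Nat.card M = k → CB ≤ M → M ≤ B →
      (A ⊓ Subgroup.centralizer (M : Set G)).relIndex A ≤ CB.relIndex M from
    h _ B rfl inf_le_left le_rfl
  intro k
  induction k using Nat.strongRecOn with
  | ind k IH =>
  intro M hk hCM hMB
  rcases hCM.eq_or_lt with h | h
  · subst h
    rw [Subgroup.relIndex_self]
    refine le_of_eq (Subgroup.relIndex_eq_one.mpr ?_)
    intro a ha
    exact ⟨ha, Subgroup.mem_centralizer_iff.mpr fun c hc =>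
      (Subgroup.mem_centralizer_iff.mp hc.2 a ha).symm⟩
  obtain ⟨N, hN, hCN⟩ : ∃ N : Subgroup M, IsCoatom N ∧ CB.subgroupOf M ≤ N := by
    rcases eq_top_or_exists_le_coatom (CB.subgroupOf M) with h' | h'
    · exact absurd (Subgroup.subgroupOf_eq_top.mp h') h.not_ge
    · exact h'
  have hidx : N.index = p := by
    haveI := (hG.to_subgroup M).isNilpotent
    obtain ⟨-, hq⟩ := Cfsg.Agent.Lib.Cores.prime_index_of_isCoatom hN
    obtain ⟨e, he⟩ := (hG.to_subgroup M).index N
    rw [he] at hq ⊢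
    rw [(Nat.Prime.pow_eq_iff hq).mp rfl |>.2, pow_one]
  set N' := N.map M.subtype
  have hN'M : N' ≤ M := Subgroup.map_subtype_le N
  have hCN' : CB ≤ N' := fun c hc => ⟨⟨c, hCM hc⟩, hCN hc, rfl⟩
  have hN'rel : N'.relIndex M = p := by
    rw [Subgroup.relIndex, Subgroup.subgroupOf, Subgroup.comap_map_eq_self_of_injective M.subtype_injective, hidx]
  have hlt : Nat.card N' < k := by
    rw [← hk]
    refine lt_of_le_of_ne (Subgroup.card_le_of_le hN'M) fun e => ?_
    rw [Subgroup.eq_of_le_of_card_ge hN'M e.ge, Subgroup.relIndex_self] at hN'rel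
    exact (Fact.out : p.Prime).ne_one hN'rel.symm
  have ih := IH _ hlt N' rfl hCN' (hN'M.trans hMB)
  obtain ⟨b, hbM, hbN⟩ := SetLike.exists_of_lt (lt_of_le_of_ne hN'M fun e => by
    rw [e, Subgroup.relIndex_self] at hN'rel; exact (Fact.out : p.Prime).ne_one hN'rel.symm)
  let f : A →* Z :=
    { toFun := fun a => ⟨⁅(a : G), b⁆, Subgroup.commutator_mem_commutator a.2 (hMB hbM)⟩
      map_one' := Subtype.ext (by simp)
      map_mul' := fun a a' => Subtype.ext (by
        show ⁅(a : G) * a', b⁆ = ⁅(a : G), b⁆ * ⁅(a' : G), b⁆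
        have hz := hcomm (a : G) (Subgroup.mem_sup_left a.2) _
          (Subgroup.commutator_mem_commutator a'.2 (hMB hbM))
        have hz' := hcomm ⁅(a : G), b⁆
          (Subgroup.mem_sup_left (hAB (Subgroup.commutator_mem_commutator a.2 (hMB hbM))).1) _
          (Subgroup.commutator_mem_commutator a'.2 (hMB hbM))
        calc ⁅(a : G) * a', b⁆ = (a : G) * ⁅(a' : G), b⁆ * (a : G)⁻¹ * ⁅(a : G), b⁆ := by
              simp [commutatorElement_def, mul_assoc]
          _ = _ := by rw [hz, mul_inv_cancel_right, hz']) }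
  set CN := A ⊓ Subgroup.centralizer (N' : Set G) with hCNdef
  have hsub : CN ⊓ f.ker.map A.subtype ≤ A ⊓ Subgroup.centralizer (M : Set G) := by
    rintro x ⟨⟨hxA, hxN⟩, y, hy, rfl⟩
    refine ⟨hxA, ?_⟩
    have hb : Commute (y : G) b := commutatorElement_eq_one_iff_mul_comm.mp
      (congrArg Subtype.val (MonoidHom.mem_ker.mp hy))
    let S := Subgroup.centralizer ({(y : G)} : Set G)
    have hNS : N'.subgroupOf M ≤ S.subgroupOf M := fun n hn =>
      Subgroup.mem_centralizer_singleton_iff.mpr (Subgroup.mem_centralizer_iff.mp hxN _ hn)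
    have htop : S.subgroupOf M = ⊤ := by
      have hN'eq : N'.subgroupOf M = N :=
        Subgroup.comap_map_eq_self_of_injective M.subtype_injective N
      rw [hN'eq] at hNS
      refine (hN.le_iff.mp hNS).resolve_right fun e => hbN ?_
      have : (⟨b, hbM⟩ : M) ∈ N := e ▸ Subgroup.mem_centralizer_singleton_iff.mpr hb.eq.symm
      exact ⟨_, this, rfl⟩
    exact Subgroup.mem_centralizer_iff.mpr fun m hm =>
      Subgroup.mem_centralizer_singleton_iff.mp (Subgroup.subgroupOf_eq_top.mp htop hm)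
  have hker : (f.ker.map A.subtype).relIndex A ≤ p := by
    rw [Subgroup.relIndex, Subgroup.subgroupOf, Subgroup.comap_map_eq_self_of_injective A.subtype_injective,
      Subgroup.index_ker]
    exact (Subgroup.card_le_card_group _).trans hcard
  calc (A ⊓ Subgroup.centralizer (M : Set G)).relIndex A
      ≤ (CN ⊓ f.ker.map A.subtype).relIndex A :=
        Nat.le_of_dvd (Nat.pos_of_ne_zero Subgroup.index_ne_zero_of_finite)
          (Subgroup.relIndex_dvd_of_le_left _ hsub)
    _ ≤ CN.relIndex A * (f.ker.map A.subtype).relIndex A := Subgroup.relIndex_inf_le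
    _ ≤ CB.relIndex N' * N'.relIndex M := by rw [hN'rel]; exact Nat.mul_le_mul ih hker
    _ = _ := Subgroup.relIndex_mul_relIndex _ _ _ hCN' hN'M

/-- Let A and B be subgroups of a finite p-group with [A, B] ≤ A ∩ B and [A, B] of order at most p. Then |A : C_A(B)| = |B : C_B(A)|. -/
theorem result {G : Type*} [Group G] [Finite G] {p : ℕ} [Fact p.Prime] (hG : IsPGroup p G) (A B : Subgroup G) (hAB : ⁅A, B⁆ ≤ A ⊓ B) (hcard : Nat.card ↥⁅A, B⁆ ≤ p) : (A ⊓ Subgroup.centralizer (B : Set G)).relIndex A = (B ⊓ Subgroup.centralizer (A : Set G)).relIndex B := by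
  refine le_antisymm (half hG A B hAB hcard) (half hG B A ?_ ?_)
  · rw [Subgroup.commutator_comm, inf_comm]; exact hAB
  · rw [Subgroup.commutator_comm]; exact hcard

end Cfsg.Agent.S3741
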