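import Cfsg.Statements.S3745
import Cfsg.Agent.Lib.Coprime

set_option autoImplicit false
open Cfsg

namespace Cfsg.Agent.S3745

open Cfsg.Agent.Lib.Coprime Pointwise

universe u

variable {π : Set ℕ}

theorem card_dvd_of_hall {X : Type u} [Group X] [Finite X] {H U G : Subgroup X}
    (hH : Cfsg.IsPiHallOf π H G) (hUG : U ≤ G) (hU : ∀ p : ℕ, p.Prime → p ∣ Nat.card U → p ∈ π) :
    Nat.card U ∣ Nat.card H := by
  have h1 : Nat.card U ∣ Nat.card H * H.relIndex G :=
    (relIndex_mul_card hH.1).symm ▸ Subgroup.card_dvd_of_le hUG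
  refine Nat.Coprime.dvd_of_dvd_mul_right ?_ h1
  exact Nat.coprime_of_dvd fun p hp hpU hpi => hH.2.2 p hp (hU p hp hpU) hpi

theorem card_eq_of_hall {X : Type u} [Group X] [Finite X] {H K G : Subgroup X}
    (hH : Cfsg.IsPiHallOf π H G) (hK : Cfsg.IsPiHallOf π K G) : Nat.card K = Nat.card H :=
  Nat.dvd_antisymm (card_dvd_of_hall hH hK.1 hK.2.1) (card_dvd_of_hall hK hH.1 hH.2.1)

theorem exists_conj {X : Type u} [Group X] [Finite X] {G H K : Subgroup X} (hs : Group.IsSolvable G)
    (hH : Cfsg.IsPiHallOf π H G) (hK : Cfsg.IsPiHallOf π K G) :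
    ∃ k ∈ G, MulAut.conj k • H = K := by
  have hcop : (Nat.card (H.subgroupOf G)).Coprime (H.subgroupOf G).index := by
    rw [Nat.card_congr (Subgroup.subgroupOfEquivOfLe hH.1).toEquiv]
    exact Nat.coprime_of_dvd fun p hp hpH hpi => hH.2.2 p hp (hH.2.1 p hp hpH) hpi
  obtain ⟨g, hg⟩ := exists_conj_eq_of_solvable (G := G) hcop (K := K.subgroupOf G) (by
    rw [Nat.card_congr (Subgroup.subgroupOfEquivOfLe hH.1).toEquiv,
      Nat.card_congr (Subgroup.subgroupOfEquivOfLe hK.1).toEquiv, card_eq_of_hall hH hK])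
  refine ⟨g, g.2, ?_⟩
  ext x
  rw [mem_conj_smul]
  constructor
  · intro hx
    have hxG : x ∈ G := by
      have h1 := mul_mem (mul_mem g.2 (hH.1 hx)) (inv_mem g.2)
      simpa [mul_assoc] using h1
    have : (⟨x, hxG⟩ : G) ∈ MulAut.conj g • H.subgroupOf G := mem_conj_smul.mpr hx
    rw [hg] at this
    exact this
  · intro hx
    have h1 : (⟨x, hK.1 hx⟩ : G) ∈ K.subgroupOf G := hx
    rw [← hg, mem_conj_smul] at h1
    exact h1

theorem hall_conj {X : Type u} [Group X] [Finite X] {G H : Subgroup X} {a : X}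
    (ha : a ∈ Subgroup.normalizer (G : Set X)) (hH : Cfsg.IsPiHallOf π H G) :
    Cfsg.IsPiHallOf π (MulAut.conj a • H) G := by
  have hle : MulAut.conj a • H ≤ G := by
    rw [← conj_smul_eq_of_mem_normalizer ha]
    exact Subgroup.pointwise_smul_le_pointwise_smul_iff.mpr hH.1
  refine ⟨hle, fun p hp h => hH.2.1 p hp (by rwa [card_conj_smul] at h), fun p hp hpπ h => ?_⟩
  have h1 := relIndex_mul_card hle
  rw [card_conj_smul, ← relIndex_mul_card hH.1] at h1
  rw [Nat.eq_of_mul_eq_mul_left Nat.card_pos h1] at h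
  exact hH.2.2 p hp hpπ h

theorem exists_invariant {X : Type u} [Group X] [Finite X] {A G : Subgroup X}
    (hAG : A ≤ Subgroup.normalizer (G : Set X)) (hcop : (Nat.card A).Coprime (Nat.card G))
    (hs : Group.IsSolvable G) (π : Set ℕ) :
    ∃ H : Subgroup X, Cfsg.IsPiHallOf π H G ∧ A ≤ Subgroup.normalizer (H : Set X) := by
  obtain ⟨H₁, hH₁, hH₁i⟩ := exists_hall_of_solvable (G := G) (fun p => p ∈ π)
  have hHall : Cfsg.IsPiHallOf π (H₁.map G.subtype) G := by
    refine ⟨Subgroup.map_subtype_le _, fun p hp h => hH₁ p hp ?_, fun p hp hpπ h => hH₁i p hp ?_ hpπ⟩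
    · rwa [Subgroup.card_map_of_injective G.subtype_injective] at h
    · rwa [Subgroup.relIndex, Subgroup.subgroupOf,
        Subgroup.comap_map_eq_self_of_injective G.subtype_injective] at h
  let act : MulAction X (Subgroup X) := conjActionSubgroup X
  obtain ⟨k, hk, hfix⟩ := exists_fixed_smul hAG hcop (Or.inr hs) (H₁.map G.subtype) (fun a ha => by
    obtain ⟨k, hk, hk'⟩ := exists_conj hs hHall (hall_conj (hAG ha) hHall)
    exact ⟨k, hk, hk'.symm⟩)
  exact ⟨MulAut.conj k • H₁.map G.subtype, hall_conj (Subgroup.le_normalizer hk) hHall,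
    fun a ha => mem_normalizer_of_conj_smul_eq (hfix a ha)⟩

theorem exists_cent_conj {X : Type u} [Group X] [Finite X] {A G H K : Subgroup X}
    (hAG : A ≤ Subgroup.normalizer (G : Set X)) (hcop : (Nat.card A).Coprime (Nat.card G))
    (hs : Group.IsSolvable G) (hH : Cfsg.IsPiHallOf π H G) (hHA : A ≤ Subgroup.normalizer (H : Set X))
    (hK : Cfsg.IsPiHallOf π K G) (hKA : A ≤ Subgroup.normalizer (K : Set X)) :
    ∃ c ∈ G ⊓ Subgroup.centralizer (A : Set X), MulAut.conj c • H = K := by
  let act : MulAction X (Subgroup X) := conjActionSubgroup X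
  obtain ⟨c, hcG, hc, hck⟩ := exists_centralizer_smul_eq hAG hcop (Or.inr hs) H K
    (fun a ha => conj_smul_eq_of_mem_normalizer (hHA ha))
    (fun a ha => conj_smul_eq_of_mem_normalizer (hKA ha)) (exists_conj hs hH hK)
  exact ⟨c, Subgroup.mem_inf.mpr ⟨hcG, hc⟩, hck⟩

theorem exists_ge : ∀ (n : ℕ) (X : Type u) [Group X] [Finite X] (A G : Subgroup X), Nat.card G = n →
    G.Normal → (Nat.card A).Coprime (Nat.card G) → Group.IsSolvable G →
    ∀ (π : Set ℕ) (U : Subgroup X), U ≤ G → A ≤ Subgroup.normalizer (U : Set X) →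
      (∀ p : ℕ, p.Prime → p ∣ Nat.card U → p ∈ π) →
      ∃ H : Subgroup X, Cfsg.IsPiHallOf π H G ∧ A ≤ Subgroup.normalizer (H : Set X) ∧ U ≤ H := by
  intro n
  induction n using Nat.strong_induction_on with
  | _ n ih =>
    intro X _ _ A G hn hGn hcop hs π U hUG hUA hU
    rcases eq_or_ne G ⊥ with rfl | hG1
    · refine ⟨U, ⟨hUG, hU, fun p hp _ h => ?_⟩, hUA, le_rfl⟩
      rw [Subgroup.relIndex_eq_one.mpr bot_le] at h
      exact hp.not_dvd_one h
    obtain ⟨p, M, hp, hMn, hM1, hMG, -, hMp, -⟩ := exists_normal_abelian_pgroup_le hG1 hs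
    set f := QuotientGroup.mk' M with hf
    have hfs : Function.Surjective f := QuotientGroup.mk'_surjective M
    have hlt : Nat.card (G.map f) < n := by
      have h1 := (f.subgroupMap G).ker.card_mul_index
      rw [Subgroup.index_ker, MonoidHom.range_eq_top.mpr (f.subgroupMap_surjective G), Subgroup.card_top] at h1
      rw [← hn, ← h1]
      refine lt_mul_of_one_lt_left Nat.card_pos ((Subgroup.one_lt_card_iff_ne_bot _).mpr fun hk => hM1 ?_)
      refine le_bot_iff.mp fun x hx => ?_
      have h2 : (⟨x, hMG hx⟩ : G) ∈ (f.subgroupMap G).ker :=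
        Subtype.ext ((QuotientGroup.eq_one_iff x).mpr hx)
      rw [hk, Subgroup.mem_bot] at h2
      exact Subgroup.mem_bot.mpr (congrArg Subtype.val h2)
    obtain ⟨Hb, hHb, hHbA, hUb⟩ := ih _ hlt (X ⧸ M) (A.map f) (G.map f) rfl (hGn.map f hfs)
      (hcop.of_dvd (Subgroup.card_map_dvd _ _) (Subgroup.card_map_dvd _ _)) (isSolvable_map f hs)
      π (U.map f) (Subgroup.map_mono hUG)
      ((Subgroup.map_mono hUA).trans (Subgroup.le_normalizer_map f))
      (fun q hq h => hU q hq (h.trans (Subgroup.card_map_dvd _ _)))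
    set K := Hb.comap f with hK
    have hMK : M ≤ K := fun x hx => Subgroup.mem_comap.mpr (by
      rw [show f x = 1 from (QuotientGroup.eq_one_iff x).mpr hx]; exact one_mem _)
    have hKG : K ≤ G := by
      refine (Subgroup.comap_mono hHb.1).trans ?_
      rw [Subgroup.comap_map_eq, QuotientGroup.ker_mk']
      exact sup_le le_rfl hMG
    have hKA : A ≤ Subgroup.normalizer (K : Set X) := by
      intro a ha
      rw [Subgroup.mem_set_normalizer_iff]
      intro x
      simp only [hK, SetLike.mem_coe, Subgroup.mem_comap, map_mul, map_inv]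
      exact Subgroup.mem_set_normalizer_iff.mp (hHbA (Subgroup.mem_map_of_mem f ha)) (f x)
    have hUK : U ≤ K := Subgroup.map_le_iff_le_comap.mp hUb
    have hrel : K.relIndex G = Hb.relIndex (G.map f) := by
      rw [hK, Subgroup.relIndex_comap]
    have hKcard : Nat.card K = Nat.card M * Nat.card Hb := card_comap_mk' M Hb
    have hcopK : (Nat.card A).Coprime (Nat.card K) :=
      hcop.coprime_dvd_right (Subgroup.card_dvd_of_le hKG)
    have hsK : Group.IsSolvable K := isSolvable_of_le hKG hs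
    have hUM : A ≤ Subgroup.normalizer ((M ⊔ U : Subgroup X) : Set X) :=
      le_normalizer_sup Subgroup.le_normalizer_of_normal hUA
    have htrans : ∀ H : Subgroup X, Cfsg.IsPiHallOf π H K → Cfsg.IsPiHallOf π H G := by
      intro H hH
      refine ⟨hH.1.trans hKG, hH.2.1, fun q hq hqπ h => ?_⟩
      rw [← Subgroup.relIndex_mul_relIndex H K G hH.1 hKG] at h
      rcases hq.dvd_mul.mp h with h | h
      · exact hH.2.2 q hq hqπ h
      · exact hHb.2.2 q hq hqπ (hrel ▸ h)
    obtain ⟨H, hH, hHA⟩ := exists_invariant hKA hcopK hsK π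
    by_cases hpπ : p ∈ π
    · have hKH : K ≤ H := by
        refine (Subgroup.eq_of_le_of_card_ge hH.1 (Nat.le_of_dvd Nat.card_pos
          (card_dvd_of_hall hH le_rfl fun q hq h => ?_))).ge
        rw [hKcard] at h
        rcases hq.dvd_mul.mp h with h | h
        · have := Fact.mk hp
          obtain ⟨k, hk⟩ := hMp.exists_card_eq
          rw [hk] at h
          exact (Nat.prime_dvd_prime_iff_eq hq hp).mp (hq.dvd_of_dvd_pow h) ▸ hpπ
        · exact hHb.2.1 q hq h
      exact ⟨H, htrans H hH, hHA, hUK.trans hKH⟩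
    · have := Fact.mk hp
      obtain ⟨k, hk⟩ := hMp.exists_card_eq
      have hUnM : U ≤ Subgroup.normalizer (M : Set X) := Subgroup.le_normalizer_of_normal
      have hMU : M ⊔ U ≤ K := sup_le hMK hUK
      have hcU : (Nat.card M).Coprime (Nat.card U) := by
        rw [hk]
        exact Nat.Coprime.pow_left k (hp.coprime_iff_not_dvd.mpr fun h => hpπ (hU p hp h))
      have hHM : Nat.card K = Nat.card M * Nat.card H := by
        have hcH : (Nat.card M).Coprime (Nat.card H) := by
          rw [hk]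
          exact Nat.Coprime.pow_left k (hp.coprime_iff_not_dvd.mpr fun h => hpπ (hH.2.1 p hp h))
        have h1 : Nat.card (M ⊔ H : Subgroup X) = Nat.card M * Nat.card H :=
          card_sup_of_coprime Subgroup.le_normalizer_of_normal hcH
        rw [← h1]
        refine le_antisymm ?_ (Subgroup.card_le_of_le (sup_le hMK hH.1))
        refine Nat.le_of_dvd Nat.card_pos ?_
        rw [h1, hKcard]
        refine mul_dvd_mul_left _ ?_
        have h2 : Nat.card Hb ∣ Nat.card H * H.relIndex K := by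
          rw [relIndex_mul_card hH.1, hKcard]; exact dvd_mul_left _ _
        exact (Nat.coprime_of_dvd fun q hq hqb hqi => hH.2.2 q hq (hHb.2.1 q hq hqb) hqi).dvd_of_dvd_mul_right h2
      -- the Hall subgroup of `M ⊔ U` inside `H`
      set U' := H ⊓ (M ⊔ U) with hU'
      have hKeq : M ⊔ H = K := Subgroup.eq_of_le_of_card_ge (sup_le hMK hH.1) (by
        rw [hHM, card_sup_of_coprime Subgroup.le_normalizer_of_normal]
        rw [hk]
        exact Nat.Coprime.pow_left k (hp.coprime_iff_not_dvd.mpr fun h => hpπ (hH.2.1 p hp h)))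
      have hsup : M ⊔ U' = M ⊔ U := by
        refine le_antisymm (sup_le le_sup_left inf_le_right) fun x hx => ?_
        obtain ⟨m, hm, h, hh, rfl⟩ := exists_mul_of_mem_sup (N := M) (H := H)
          Subgroup.le_normalizer_of_normal (hKeq.symm ▸ hMU hx)
        have : h ∈ M ⊔ U := by
          simpa using mul_mem (Subgroup.mem_sup_left (inv_mem hm) : m⁻¹ ∈ M ⊔ U) hx
        exact mul_mem (Subgroup.mem_sup_left hm) (Subgroup.mem_sup_right (Subgroup.mem_inf.mpr ⟨hh, this⟩))
      have hcU' : (Nat.card M).Coprime (Nat.card U') := by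
        rw [hk]
        exact Nat.Coprime.pow_left k (hp.coprime_iff_not_dvd.mpr fun h =>
          hpπ (hH.2.1 p hp (h.trans (Subgroup.card_dvd_of_le inf_le_left))))
      have hcard : Nat.card U' = Nat.card U := by
        refine Nat.eq_of_mul_eq_mul_left (Nat.card_pos : 0 < Nat.card M) ?_
        rw [← card_sup_of_coprime Subgroup.le_normalizer_of_normal hcU',
          ← card_sup_of_coprime hUnM hcU, hsup]
      have hhall : ∀ V : Subgroup X, V ≤ M ⊔ U → Nat.card V = Nat.card U → Cfsg.IsPiHallOf π V (M ⊔ U) := by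
        intro V hV hVc
        refine ⟨hV, fun q hq h => hU q hq (hVc ▸ h), fun q hq hqπ h => ?_⟩
        have h1 := relIndex_mul_card hV
        rw [card_sup_of_coprime hUnM hcU, hVc, mul_comm (Nat.card M)] at h1
        rw [Nat.eq_of_mul_eq_mul_left Nat.card_pos h1, hk] at h
        exact hpπ ((Nat.prime_dvd_prime_iff_eq hq hp).mp (hq.dvd_of_dvd_pow h) ▸ hqπ)
      obtain ⟨c, hc, hcU2⟩ := exists_cent_conj hUM
        (hcopK.coprime_dvd_right (Subgroup.card_dvd_of_le hMU)) (isSolvable_of_le hMU hsK)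
        (hhall U' inf_le_right hcard)
        (le_trans (le_inf hHA hUM) Subgroup.inf_normalizer_le_normalizer_inf)
        (hhall U le_sup_right rfl) hUA
      obtain ⟨hcMU, hcA⟩ := Subgroup.mem_inf.mp hc
      refine ⟨MulAut.conj c • H, hall_conj (Subgroup.le_normalizer (hKG (hMU hcMU))) (htrans H hH), ?_, ?_⟩
      · intro a ha
        refine mem_normalizer_of_conj_smul_eq ?_
        rw [← conj_mul_smul, hcA a ha, conj_mul_smul, conj_smul_eq_of_mem_normalizer (hHA ha)]
      · rw [← hcU2]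
        exact Subgroup.pointwise_smul_le_pointwise_smul_iff.mpr inf_le_left

/-- Coprime action on a solvable group and Hall subgroups. Let A and G be subgroups of a finite group with A normalizing G, the orders of A and G coprime, and G solvable, and let π be a set of primes. Then (a) G has an A-invariant Hall π-subgroup; (b) any two A-invariant Hall π-subgroups of G are conjugate by an element of C_G(A); (c) every A-invariant π-subgroup of G lies in an A-invariant Hall π-subgroup of G. -/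
theorem result {X : Type*} [Group X] [Finite X] (A G : Subgroup X) (hAG : A ≤ Subgroup.normalizer (G : Set X)) (hcop : (Nat.card A).Coprime (Nat.card G)) (hsolv : Group.IsSolvable G) (π : Set ℕ) : (∃ H : Subgroup X, Cfsg.IsPiHallOf π H G ∧ A ≤ Subgroup.normalizer (H : Set X)) ∧ (∀ H₁ H₂ : Subgroup X, Cfsg.IsPiHallOf π H₁ G → A ≤ Subgroup.normalizer (H₁ : Set X) → Cfsg.IsPiHallOf π H₂ G → A ≤ Subgroup.normalizer (H₂ : Set X) → ∃ c ∈ G ⊓ Subgroup.centralizer (A : Set X), H₂ = H₁.map (MulAut.conj c).toMonoidHom) ∧ (∀ U : Subgroup X, U ≤ G → A ≤ Subgroup.normalizer (U : Set X) → (∀ p : ℕ, p.Prime → p ∣ Nat.card U → p ∈ π) → ∃ H : Subgroup X, Cfsg.IsPiHallOf π H G ∧ A ≤ Subgroup.normalizer (H : Set X) ∧ U ≤ H) := by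
  refine ⟨exists_invariant hAG hcop hsolv π, fun H₁ H₂ h₁ h₁A h₂ h₂A => ?_, fun U hUG hUA hU => ?_⟩
  · obtain ⟨c, hc, hcH⟩ := exists_cent_conj hAG hcop hsolv h₁ h₁A h₂ h₂A
    exact ⟨c, hc, hcH.symm⟩
  · have hcardeq : ∀ V : Subgroup X, V ≤ A ⊔ G → Nat.card (V.subgroupOf (A ⊔ G)) = Nat.card V :=
      fun V hV => Nat.card_congr (Subgroup.subgroupOfEquivOfLe hV).toEquiv
    have hGn : (G.subgroupOf (A ⊔ G)).Normal :=
      Subgroup.normal_subgroupOf_of_le_normalizer (sup_le hAG Subgroup.le_normalizer)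
    obtain ⟨H, hH, hHA, hUH⟩ := exists_ge _ ↥(A ⊔ G) (A.subgroupOf (A ⊔ G)) (G.subgroupOf (A ⊔ G)) rfl hGn
      (by rw [hcardeq A le_sup_left, hcardeq G le_sup_right]; exact hcop) (isSolvable_subgroupOf hsolv)
      π (U.subgroupOf (A ⊔ G)) (fun x hx => hUG hx)
      (by
        intro a ha
        rw [Subgroup.mem_set_normalizer_iff]
        intro x
        exact Subgroup.mem_set_normalizer_iff.mp (hUA ha) (x : X))
      (fun q hq h => hU q hq (by rwa [hcardeq U (hUG.trans le_sup_right)] at h))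
    refine ⟨H.map (A ⊔ G).subtype, ⟨?_, ?_, ?_⟩, ?_, ?_⟩
    · rintro _ ⟨x, hx, rfl⟩; exact hH.1 hx
    · intro q hq h
      rw [Subgroup.card_map_of_injective (A ⊔ G).subtype_injective] at h
      exact hH.2.1 q hq h
    · intro q hq hqπ h
      refine hH.2.2 q hq hqπ ?_
      rwa [← Subgroup.relIndex_map_map_of_injective _ _ (A ⊔ G).subtype_injective,
        Subgroup.map_subgroupOf_eq_of_le le_sup_right]
    · intro a ha
      have h1 := Subgroup.le_normalizer_map (A ⊔ G).subtype (Subgroup.mem_map_of_mem _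
        (hHA (show (⟨a, Subgroup.mem_sup_left ha⟩ : ↥(A ⊔ G)) ∈ A.subgroupOf (A ⊔ G) from ha)))
      exact h1
    · intro x hx
      exact ⟨⟨x, Subgroup.mem_sup_right (hUG hx)⟩, hUH hx, rfl⟩

end Cfsg.Agent.S3745
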