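import Cfsg.Statements.S3746
import Cfsg.Agent.Lib.Components.GenFitting

set_option autoImplicit false
open Cfsg

namespace Cfsg.Agent.S3746

open Cfsg.Agent.Lib.Components
open scoped commutatorElement

/-- Let Z ≤ Z(G) be a central subgroup of a finite group G and E a subgroup of G containing Z whose image E/Z is a component of G/Z (subnormal and quasisimple). Then the derived subgroup [E, E] is a component of G. -/
theorem result {G : Type*} [Group G] [Finite G] (Z : Subgroup G) (hZ : Z ≤ Subgroup.center G) [Z.Normal] (E : Subgroup G) (hZE : Z ≤ E) (hE : Cfsg.IsComponent (E.map (QuotientGroup.mk' Z))) : Cfsg.IsComponent ⁅E, E⁆ := by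
  set f := QuotientGroup.mk' Z with hf
  have hEsub : E.IsSubnormal := by
    have h := hE.1.comap f
    rwa [Subgroup.comap_map_eq, QuotientGroup.ker_mk', sup_eq_left.mpr hZE] at h
  have hEperf : ⁅E.map f, E.map f⁆ = E.map f := IsComponent.commutator_self hE
  set D := ⁅E, E⁆ with hD
  have hDE : D ≤ E := (Subgroup.commutator_le_sup E E).trans (sup_le le_rfl le_rfl)
  have hDmap : D.map f = E.map f := by rw [hD, Subgroup.map_commutator, hEperf]
  have hdec : ∀ e ∈ E, ∃ d ∈ D, ∃ z ∈ Z, e = d * z := fun e he => by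
    obtain ⟨d, hd, hde⟩ : f e ∈ D.map f := hDmap ▸ Subgroup.mem_map_of_mem f he
    exact ⟨d, hd, d⁻¹ * e, QuotientGroup.eq.mp hde, by group⟩
  have hperf : ⁅D, D⁆ = D := by
    refine le_antisymm ((Subgroup.commutator_le_sup D D).trans (sup_le le_rfl le_rfl)) ?_
    conv_lhs => rw [hD]
    rw [Subgroup.commutator_le]
    intro a ha b hb
    obtain ⟨d, hd, z, hz, rfl⟩ := hdec a ha
    obtain ⟨e, he, w, hw, rfl⟩ := hdec b hb
    have hzc := Subgroup.mem_center_iff.mp (hZ hz)
    have hwc := Subgroup.mem_center_iff.mp (hZ hw)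
    have key : ⁅d * z, e * w⁆ = ⁅d, e⁆ := by
      simp only [commutatorElement_def, mul_inv_rev]
      calc d * z * (e * w) * (z⁻¹ * d⁻¹) * (w⁻¹ * e⁻¹)
          = d * (z * (e * w)) * z⁻¹ * d⁻¹ * w⁻¹ * e⁻¹ := by group
        _ = d * ((e * w) * z) * z⁻¹ * d⁻¹ * w⁻¹ * e⁻¹ := by rw [hzc]
        _ = d * e * (w * d⁻¹) * w⁻¹ * e⁻¹ := by group
        _ = d * e * (d⁻¹ * w) * w⁻¹ * e⁻¹ := by rw [hwc]
        _ = d * e * d⁻¹ * e⁻¹ := by group
    rw [key]
    exact Subgroup.commutator_mem_commutator hd he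
  have hDsub : D.IsSubnormal := by
    have hn : (D.subgroupOf E).Normal := (normal_subgroupOf_iff_forall hDE).mpr fun k hk x hx => by
      have hmem : ⁅k, x⁆ ∈ D := Subgroup.commutator_mem_commutator hk (hDE hx)
      rw [commutatorElement_def] at hmem
      have := mul_mem hmem hx
      rwa [inv_mul_cancel_right] at this
    have h := Subgroup.IsSubnormal.trans' hn.isSubnormal hEsub
    rwa [subgroupOf_map_eq_of_le hDE] at h
  refine ⟨hDsub, ?_⟩
  have : Group.IsPerfect ↥D := Subgroup.isPerfect_iff.mpr hperf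
  let φ : ↥D →* G ⧸ Z := f.comp D.subtype
  have hrange : φ.range = E.map f := by
    rw [MonoidHom.range_comp, Subgroup.range_subtype, hDmap]
  have hker : φ.ker ≤ Subgroup.center ↥D := fun x hx => Subgroup.mem_center_iff.mpr fun y =>
    Subtype.ext (Subgroup.mem_center_iff.mp (hZ ((QuotientGroup.eq_one_iff (x : G)).mp hx)) y)
  exact isQuasisimple_of_quotient hker (IsQuasisimple.of_mulEquiv
    ((MulEquiv.subgroupCongr hrange.symm).trans (QuotientGroup.quotientKerEquivRange φ).symm) hE.2)

end Cfsg.Agent.S3746
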