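import Cfsg.Statements.S3747
import Cfsg.Agent.Lib.Components.GenFitting

set_option autoImplicit false
open Cfsg

namespace Cfsg.Agent.S3747

open Cfsg.Agent.Lib.Components

/-- The normal closure of a component with trivial centre is minimal normal. -/
theorem minimal_normalClosure {G : Type*} [Group G] [Finite G] {K : Subgroup G}
    (hK : Cfsg.IsComponent K) (hZ : Subgroup.center ↥K = ⊥) :
    Subgroup.normalClosure (K : Set G) ≠ ⊥ ∧ ∀ N : Subgroup G, N.Normal →
      N ≤ Subgroup.normalClosure (K : Set G) → N = ⊥ ∨ N = Subgroup.normalClosure (K : Set G) := by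
  have hKle : K ≤ Subgroup.normalClosure (K : Set G) := fun x hx =>
    Subgroup.subset_normalClosure hx
  refine ⟨fun h => IsComponent.ne_bot hK (le_bot_iff.mp (h ▸ hKle)), fun N hN hle => ?_⟩
  by_cases hex : ∃ g : G, K.map (MulAut.conj g).toMonoidHom ≤ N
  · obtain ⟨g, hg⟩ := hex
    refine Or.inr (le_antisymm hle (Subgroup.normalClosure_le_normal fun k hk => ?_))
    have h1 : g⁻¹ * (g * k * g⁻¹) * g⁻¹⁻¹ ∈ N :=
      hN.conj_mem _ (hg ⟨k, hk, rfl⟩) g⁻¹
    simpa [mul_assoc] using h1
  left
  push Not at hex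
  obtain ⟨s, hs, hsup⟩ := sSup_eq_finset_sup
    (fun L : Subgroup G => ∃ g : G, L = K.map (MulAut.conj g).toMonoidHom)
  have hsc : ∀ L ∈ s, Cfsg.IsComponent L := fun L hL => by
    obtain ⟨g, rfl⟩ := (hs L).mp hL
    exact IsComponent.map_conj hK g
  have hncl : Subgroup.normalClosure (K : Set G) ≤ s.sup id := by
    have : (sSup {L : Subgroup G | ∃ g : G, L = K.map (MulAut.conj g).toMonoidHom}).Normal := by
      refine sSup_normal_of_conj ?_
      rintro h _ ⟨g, rfl⟩
      refine ⟨h * g, ?_⟩
      rw [Subgroup.map_map]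
      congr 1
      ext x
      simp [mul_assoc]
    rw [← hsup]
    refine Subgroup.normalClosure_le_normal fun k hk => Subgroup.mem_sSup_of_mem
      (show K ∈ {L : Subgroup G | ∃ g : G, L = K.map (MulAut.conj g).toMonoidHom} from ⟨1, ?_⟩) hk
    ext x
    simp
  rw [Subgroup.eq_bot_iff_forall]
  intro z hz
  have hzc : ∀ L ∈ s, ∀ k ∈ L, k * z = z * k := fun L hL k hk => by
    obtain ⟨g, rfl⟩ := (hs L).mp hL
    exact commute_of_commutator_eq_bot ((IsComponent.le_or_commutator_eq_bot (hsc _ hL)
      hN.isSubnormal).resolve_left (hex g)) hk hz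
  have h1 := mem_iSup_center_of_centralize s hsc z (hncl (hle hz)) hzc
  have h2 : (s.sup fun L => (Subgroup.center ↥L).map L.subtype) = ⊥ := by
    refine le_bot_iff.mp (Finset.sup_le fun L hL => ?_)
    obtain ⟨g, rfl⟩ := (hs L).mp hL
    intro x hx
    obtain ⟨⟨k, hk, rfl⟩, hc⟩ := mem_map_center.mp hx
    have : k ∈ (Subgroup.center ↥K).map K.subtype := mem_map_center.mpr ⟨hk, fun y hy =>
      (MulAut.conj g).injective (by
        rw [map_mul, map_mul]
        exact hc _ ⟨y, hy, rfl⟩)⟩
    rw [hZ, Subgroup.map_bot, Subgroup.mem_bot] at this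
    rw [Subgroup.mem_bot, this, map_one]
  rwa [h2, Subgroup.mem_bot] at h1

/-- Let G be a finite group. (a) If K is a component of G with trivial centre, then the normal closure of K in G is a minimal normal subgroup of G. (b) If the Fitting subgroup of G is trivial, then the layer E(G) is generated by the minimal normal subgroups of G. -/
theorem result {G : Type*} [Group G] [Finite G] : (∀ K : Subgroup G, Cfsg.IsComponent K → Subgroup.center ↥K = ⊥ → (Subgroup.normalClosure (K : Set G) ≠ ⊥ ∧ ∀ N : Subgroup G, N.Normal → N ≤ Subgroup.normalClosure (K : Set G) → N = ⊥ ∨ N = Subgroup.normalClosure (K : Set G))) ∧ (Cfsg.fittingSubgroup G = ⊥ → sSup {N : Subgroup G | N ≠ ⊥ ∧ N.Normal ∧ ∀ N' : Subgroup G, N'.Normal → N' ≤ N → N' = ⊥ ∨ N' = N} = Cfsg.layer G) := by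
  refine ⟨fun K hK hZ => minimal_normalClosure hK hZ, fun hF => le_antisymm ?_ ?_⟩
  · refine sSup_le ?_
    rintro N ⟨hN0, hN, hmin⟩
    have hperf : ⁅N, N⁆ = N := by
      refine (hmin ⁅N, N⁆ inferInstance (Subgroup.commutator_le_left N N)).resolve_left fun h => ?_
      have hab : IsMulCommutative ↥N := ⟨⟨fun a b => Subtype.ext
        (commute_of_commutator_eq_bot h a.2 b.2)⟩⟩
      have h1 := le_fittingSubgroup hN (isNilpotent_of_isMulCommutative hab)
      rw [hF] at h1
      exact hN0 (le_bot_iff.mp h1)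
    obtain ⟨K, hK, hKN⟩ := exists_component_le hN.isSubnormal hperf hN0
      (fun x _ => Subgroup.mem_centralizer_iff.mpr fun y hy => by
        have hy1 : y = 1 := by
          have hy' : y ∈ Cfsg.fittingSubgroup G := hy
          rwa [hF, Subgroup.mem_bot] at hy'
        rw [hy1, one_mul, mul_one])
    have hne : Subgroup.normalClosure (K : Set G) ≠ ⊥ := fun h => IsComponent.ne_bot hK
      (le_bot_iff.mp (h ▸ fun x hx => Subgroup.subset_normalClosure hx))
    rw [← (hmin _ Subgroup.normalClosure_normal (Subgroup.normalClosure_le_normal hKN)).resolve_left hne]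
    have : (Cfsg.layer G).Normal := sSup_normal_of_conj fun g L hL => IsComponent.map_conj hL g
    exact Subgroup.normalClosure_le_normal (IsComponent.le_layer hK)
  · rw [layer_le_iff]
    intro K hK
    have hZ : Subgroup.center ↥K = ⊥ := by
      have hsub : ((Subgroup.center ↥K).map K.subtype).IsSubnormal :=
        Subgroup.IsSubnormal.trans' (inferInstance : (Subgroup.center ↥K).Normal).isSubnormal hK.1
      have h1 := le_fittingSubgroup_of_subnormal hsub (isNilpotent_of_isMulCommutative ⟨⟨by
        rintro ⟨_, a, ha, rfl⟩ ⟨_, b, hb, rfl⟩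
        refine Subtype.ext ?_
        show (a : G) * (b : G) = (b : G) * (a : G)
        exact congrArg Subtype.val (Subgroup.mem_center_iff.mp hb a)⟩⟩)
      rw [hF, le_bot_iff, Subgroup.map_eq_bot_iff_of_injective _ K.subtype_injective] at h1
      exact h1
    obtain ⟨hne, hmin⟩ := minimal_normalClosure hK hZ
    refine le_trans (fun x hx => Subgroup.subset_normalClosure hx) (le_sSup
      (show Subgroup.normalClosure (K : Set G) ∈ {N : Subgroup G | N ≠ ⊥ ∧ N.Normal ∧
        ∀ N' : Subgroup G, N'.Normal → N' ≤ N → N' = ⊥ ∨ N' = N} from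
        ⟨hne, Subgroup.normalClosure_normal, hmin⟩))

end Cfsg.Agent.S3747
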