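import Cfsg.Statements.S3748
import Cfsg.Agent.Lib.Subnormal.Join
import Cfsg.Agent.Lib.PGroups.Subnormal
import Cfsg.Agent.Lib.Cores.Fitting

set_option autoImplicit false
open Cfsg

namespace Cfsg.Agent.S3748

/-- Call a proper subgroup M of G primitive when M = N_G(N) for every non-trivial normal subgroup N of M. If M is a primitive subgroup of the finite group G, then no non-trivial subnormal subgroup of G is contained in M; in particular M ∩ F(G) = 1. -/
theorem result {G : Type*} [Group G] [Finite G] (M : Subgroup G) (hM : M ≠ ⊤) (hprim : ∀ N : Subgroup G, N ≤ M → M ≤ Subgroup.normalizer (N : Set G) → N ≠ ⊥ → Subgroup.normalizer (N : Set G) = M) : (∀ L : Subgroup G, L.IsSubnormal → L ≤ M → L = ⊥) ∧ M ⊓ Cfsg.fittingSubgroup G = ⊥ := by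
  have hsub : ∀ L : Subgroup G, L.IsSubnormal → L ≤ M → L = ⊥ := by
    intro L hL hLM
    have hN := Cfsg.Agent.Lib.Subnormal.normal_sSup_subnormal_le (M := M)
      (fun Q hQM hMQ hQ _ => (hprim Q hQM hMQ hQ).le)
    set N := sSup {L : Subgroup G | L.IsSubnormal ∧ L ≤ M}
    have hNM : N ≤ M := sSup_le fun _ h => h.2
    by_contra hne
    have hN1 : N ≠ ⊥ := fun h => hne (le_bot_iff.mp (h ▸ le_sSup ⟨hL, hLM⟩))
    refine hM ?_
    rw [← hprim N hNM (fun m _ => by rw [Subgroup.normalizer_eq_top]; trivial) hN1,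
      Subgroup.normalizer_eq_top]
  refine ⟨hsub, hsub _ ?_ inf_le_left⟩
  have := Cfsg.Agent.Lib.Cores.fittingSubgroup_isNilpotent G
  have hFn : (Cfsg.fittingSubgroup G).Normal := by
    have := Cfsg.Agent.Lib.Cores.fittingSubgroup_characteristic G
    infer_instance
  exact Subgroup.IsSubnormal.trans inf_le_right
    (Cfsg.Agent.Lib.PGroups.isSubnormal_of_isNilpotent _) hFn.isSubnormal

end Cfsg.Agent.S3748
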