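import Mathlib
import Cfsg.Statements.S3749
import Cfsg.Agent.Lib.Coprime.Action
import Cfsg.Agent.Lib.Cores.PCore

set_option autoImplicit false
open Cfsg

namespace Cfsg.Agent.S3749

open Pointwise
open Cfsg.Agent.Lib

/-- Call a proper subgroup M of G primitive when M = N_G(N) for every non-trivial normal subgroup N of M. Let M be a primitive subgroup of the finite group G, p a prime with O_p(M) ≠ 1, and N a normal subgroup of G with M ∩ N = 1. Then p does not divide the order of N; for every prime q there is exactly one Sylow q-subgroup of N normalized by M; and if the order of N has at least two prime divisors then M is not a maximal subgroup of G. -/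
theorem result {G : Type*} [Group G] [Finite G] (M : Subgroup G) (hM : M ≠ ⊤) (hprim : ∀ N : Subgroup G, N ≤ M → M ≤ Subgroup.normalizer (N : Set G) → N ≠ ⊥ → Subgroup.normalizer (N : Set G) = M) {p : ℕ} [Fact p.Prime] (hOp : Cfsg.pCore p ↥M ≠ ⊥) (N : Subgroup G) [N.Normal] (hMN : M ⊓ N = ⊥) : ¬ p ∣ Nat.card N ∧ (∀ q : ℕ, [Fact q.Prime] → ∃! Q : Sylow q ↥N, M ≤ Subgroup.normalizer ((Q : Subgroup ↥N).map N.subtype : Set G)) ∧ ((∃ q r : ℕ, q.Prime ∧ r.Prime ∧ q ≠ r ∧ q ∣ Nat.card N ∧ r ∣ Nat.card N) → ¬ IsCoatom M) := by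
  classical
  have hp : p.Prime := Fact.out
  set Q := (Cfsg.pCore p ↥M).map M.subtype with hQ
  have hQM : Q ≤ M := Subgroup.map_subtype_le _
  have hQ1 : Q ≠ ⊥ := fun e => hOp (by rwa [hQ, Subgroup.map_eq_bot_iff_of_injective _ M.subtype_injective] at e)
  have hMQ : M ≤ Subgroup.normalizer (Q : Set G) :=
    Subgroup.le_normalizer.trans (Cores.normalizer_le_normalizer_map_subtype M (Cfsg.pCore p ↥M))
  have hnorm : Subgroup.normalizer (Q : Set G) = M := hprim Q hQM hMQ hQ1
  have hQp : IsPGroup p Q := (Cores.pCore_isPGroup p M).map _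
  have hfix : N ⊓ Subgroup.centralizer (Q : Set G) = ⊥ := by
    rw [eq_bot_iff, ← hMN]
    exact le_inf ((inf_le_right.trans (Subgroup.centralizer_le_normalizer _)).trans hnorm.le) inf_le_left
  have hpN : ¬ p ∣ Nat.card N := by
    intro hd
    let act : MulAction Q N := MulAction.compHom N ((MulAut.conjNormal (H := N)).comp Q.subtype)
    have h1 : (1 : N) ∈ MulAction.fixedPoints Q N := fun a => map_one (MulAut.conjNormal (H := N) (a : G))
    obtain ⟨b, hb, hb1⟩ := hQp.exists_fixed_point_of_prime_dvd_card_of_fixed_point N hd h1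
    refine hb1 (Subtype.ext ?_)
    have hm : (b : G) ∈ N ⊓ Subgroup.centralizer (Q : Set G) := by
      refine Subgroup.mem_inf.mpr ⟨b.2, ?_⟩
      rw [Subgroup.mem_centralizer_iff]
      intro a ha
      have h2 : (MulAut.conjNormal a b : N) = b := hb ⟨a, ha⟩
      have h3 : a * (b : G) * a⁻¹ = (b : G) := by
        rw [← MulAut.conjNormal_apply, h2]
      exact mul_inv_eq_iff_eq_mul.mp h3
    rw [hfix, Subgroup.mem_bot] at hm
    exact hm.symm
  have hQN : Q ≤ Subgroup.normalizer (N : Set G) := by rw [Subgroup.normalizer_eq_top]; exact le_top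
  obtain ⟨j, hj⟩ := hQp.exists_card_eq
  have hcop : (Nat.card Q).Coprime (Nat.card N) := by
    rw [hj]; exact Nat.Coprime.pow_left _ (hp.coprime_iff_not_dvd.mpr hpN)
  haveI := hQp.isNilpotent
  have huniq : ∀ q : ℕ, [Fact q.Prime] →
      ∃! S : Sylow q ↥N, M ≤ Subgroup.normalizer ((S : Subgroup ↥N).map N.subtype : Set G) := by
    intro q _
    obtain ⟨S, hS⟩ := Coprime.exists_invariant_sylow hQN hcop (Or.inl inferInstance) q
    have hone : ∀ T : Sylow q ↥N,
        Q ≤ Subgroup.normalizer ((T : Subgroup ↥N).map N.subtype : Set G) → T = S := by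
      intro T hT
      obtain ⟨c, hc, hcT⟩ := Coprime.exists_centralizer_conj_sylow hQN hcop (Or.inl inferInstance) T S hT hS
      have hm : (c : G) ∈ N ⊓ Subgroup.centralizer (Q : Set G) := ⟨c.2, hc⟩
      rw [hfix, Subgroup.mem_bot] at hm
      have hc1 : c = 1 := Subtype.ext hm
      rw [hc1, map_one, one_smul] at hcT
      exact hcT
    refine ⟨S, ?_, fun T hT => hone T (hQM.trans hT)⟩
    intro m hm
    apply Coprime.mem_normalizer_of_conj_smul_eq
    set S' := (S : Subgroup ↥N).map N.subtype with hS'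
    have hle : MulAut.conj m • S' ≤ N := by
      intro x hx
      rw [Coprime.mem_conj_smul] at hx
      simpa [mul_assoc] using ‹N.Normal›.conj_mem _ (Subgroup.map_subtype_le _ hx) m
    have hc : Nat.card ((MulAut.conj m • S').subgroupOf N) = q ^ (Nat.card N).factorization q := by
      rw [Nat.card_congr (Subgroup.subgroupOfEquivOfLe hle).toEquiv, Coprime.card_conj_smul, hS',
        Nat.card_congr ((S : Subgroup ↥N).equivMapOfInjective N.subtype N.subtype_injective).toEquiv.symm,
        S.card_eq_multiplicity]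
    have hinv : Q ≤ Subgroup.normalizer
        (((Sylow.ofCard _ hc : Sylow q ↥N) : Subgroup ↥N).map N.subtype : Set G) := by
      simp only [Sylow.coe_ofCard, Subgroup.map_subgroupOf_eq_of_le hle]
      intro a ha
      have h1 : m⁻¹ * a * m ∈ Q := (Subgroup.mem_normalizer_iff''.mp (hMQ hm) a).mp ha
      have h2 := hS h1
      rw [Subgroup.mem_normalizer_iff] at h2 ⊢
      intro x
      rw [Coprime.mem_conj_smul, Coprime.mem_conj_smul]
      refine (h2 _).trans ?_
      simp [hS', mul_assoc]
    have h3 := hone _ hinv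
    have h4 := congrArg (fun T : Sylow q ↥N => (T : Subgroup ↥N).map N.subtype) h3
    simp only [Sylow.coe_ofCard] at h4
    rwa [Subgroup.map_subgroupOf_eq_of_le hle] at h4
  refine ⟨hpN, huniq, ?_⟩
  rintro ⟨q, r, hq, hr, hqr, hqN, hrN⟩ hco
  haveI : Fact q.Prime := ⟨hq⟩
  obtain ⟨S, hS, -⟩ := huniq q
  set S' := (S : Subgroup ↥N).map N.subtype with hS'
  have hS'N : S' ≤ N := Subgroup.map_subtype_le _
  have hSM : S' ⊓ M = ⊥ := le_bot_iff.mp (hMN ▸ le_inf inf_le_right (inf_le_left.trans hS'N))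
  have hScard : Nat.card S' = Nat.card (S : Subgroup ↥N) :=
    Nat.card_congr ((S : Subgroup ↥N).equivMapOfInjective N.subtype N.subtype_injective).toEquiv.symm
  have hS1 : S' ≠ ⊥ := by
    rw [Ne, ← Subgroup.card_eq_one, hScard, Subgroup.card_eq_one]
    exact S.ne_bot_of_dvd_card hqN
  have hlt : M < S' ⊔ M := lt_of_le_of_ne le_sup_right fun e => hS1 (by
    rw [← hSM]
    exact (inf_eq_left.mpr (le_sup_left.trans e.symm.le)).symm)
  have htop : S' ⊔ M = ⊤ := hco.2 _ hlt
  have h1 := Coprime.card_sup_mul_card_inf (N := S') (H := M) hS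
  rw [htop, hSM, Subgroup.card_bot, mul_one, Subgroup.card_top] at h1
  have h2 := Coprime.card_sup_mul_card_inf (N := N) (H := M)
    (by rw [Subgroup.normalizer_eq_top]; exact le_top)
  rw [inf_comm, hMN, Subgroup.card_bot, mul_one] at h2
  have h3 : Nat.card N * Nat.card M ≤ Nat.card S' * Nat.card M := by
    rw [← h2, ← h1]
    exact Subgroup.card_le_card_group _
  have h4 : Nat.card N ≤ Nat.card S' := Nat.le_of_mul_le_mul_right h3 Nat.card_pos
  obtain ⟨k, hk⟩ := S.isPGroup'.exists_card_eq
  have hSe : S' = N := Subgroup.eq_of_le_of_card_ge hS'N h4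
  rw [← hSe, hScard, hk] at hrN
  exact hqr ((Nat.prime_dvd_prime_iff_eq hr hq).mp (hr.dvd_of_dvd_pow hrN)).symm

end Cfsg.Agent.S3749
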