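import Mathlib
import Cfsg.Statements.S3750
import Cfsg.Agent.Lib.Components.GenFitting
import Cfsg.Agent.Lib.Cores.Fitting

set_option autoImplicit false
open Cfsg

namespace Cfsg.Agent.S3750

open Cfsg.Agent.Lib
open Cfsg.Agent.Lib.Components

/-- Call a proper subgroup M of G primitive when M = N_G(N) for every non-trivial normal subgroup N of M. Let M be a primitive subgroup of the finite group G and N a normal subgroup of G with M ∩ F*(N) ≠ 1. Then F(G) = 1 and F*(N) = F*(G) = E(G); in particular every minimal normal subgroup of G is contained in N. -/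
theorem result {G : Type*} [Group G] [Finite G] (M : Subgroup G) (hM : M ≠ ⊤) (hprim : ∀ N : Subgroup G, N ≤ M → M ≤ Subgroup.normalizer (N : Set G) → N ≠ ⊥ → Subgroup.normalizer (N : Set G) = M) (N : Subgroup G) [N.Normal] (hMF : M ⊓ (Cfsg.generalizedFittingSubgroup ↥N).map N.subtype ≠ ⊥) : Cfsg.fittingSubgroup G = ⊥ ∧ (Cfsg.generalizedFittingSubgroup ↥N).map N.subtype = Cfsg.generalizedFittingSubgroup G ∧ Cfsg.generalizedFittingSubgroup G = Cfsg.layer G ∧ ∀ K : Subgroup G, K.Normal → K ≠ ⊥ → (∀ K' : Subgroup G, K'.Normal → K' ≤ K → K' = ⊥ ∨ K' = K) → K ≤ N := by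
  classical
  set Fs := (Cfsg.generalizedFittingSubgroup ↥N).map N.subtype with hFs
  have hFseq : Fs = N ⊓ Cfsg.generalizedFittingSubgroup G :=
    (map_genFitting_subtype (B := N) (Subgroup.Normal.isSubnormal inferInstance)).trans (inf_comm _ _)
  have hFsn : Fs.Normal := by
    rw [hFseq]
    have : (Cfsg.generalizedFittingSubgroup G).Normal := by
      haveI : (Cfsg.fittingSubgroup G).Normal := Cores.fittingSubgroup_normal G
      exact Subgroup.sup_normal _ _
    exact Subgroup.normal_inf_normal _ _
  set X := M ⊓ Fs with hX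
  have hMX : M ≤ Subgroup.normalizer (X : Set G) :=
    le_trans (le_inf Subgroup.le_normalizer (by rw [@Subgroup.normalizer_eq_top G _ Fs hFsn]; exact le_top))
      Subgroup.inf_normalizer_le_normalizer_inf
  have hNX : Subgroup.normalizer (X : Set G) = M := hprim X inf_le_left hMX hMF
  -- no nontrivial normal subgroup centralizes `X`
  have key : ∀ K : Subgroup G, K.Normal → K ≤ Subgroup.centralizer (Fs : Set G) → K = ⊥ := by
    intro K hK hKC
    by_contra hK1
    have hKM : K ≤ M := hNX ▸ (hKC.trans ((Subgroup.centralizer_le (inf_le_right : X ≤ Fs)).trans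
      (Subgroup.centralizer_le_normalizer _)))
    have h := hprim K hKM (by rw [@Subgroup.normalizer_eq_top G _ K hK]; exact le_top) hK1
    rw [@Subgroup.normalizer_eq_top G _ K hK] at h
    exact hM h.symm
  have hFsle : Fs ≤ Cfsg.generalizedFittingSubgroup G := hFseq ▸ inf_le_right
  have hF : Cfsg.fittingSubgroup G = ⊥ := by
    set F := Cfsg.fittingSubgroup G with hFdef
    haveI : F.Normal := Cores.fittingSubgroup_normal G
    haveI : Group.IsNilpotent F := Cores.fittingSubgroup_isNilpotent G
    have hZn : ((Subgroup.center F).map F.subtype).Normal := inferInstance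
    have hZ := key _ hZn (by
      refine le_trans ?_ (Subgroup.centralizer_le hFsle)
      rw [← Subgroup.commutator_eq_bot_iff_le_centralizer, show Cfsg.generalizedFittingSubgroup G =
        Cfsg.layer G ⊔ F from rfl]
      refine commutator_sup_eq_bot (le_bot_iff.mp ?_) ?_
      · rw [← commutator_layer_fittingSubgroup (G := G), Subgroup.commutator_comm (Cfsg.layer G)]
        exact Subgroup.commutator_mono (Subgroup.map_subtype_le _) le_rfl
      · rw [Subgroup.commutator_eq_bot_iff_le_centralizer, map_center_eq_inf]
        exact inf_le_right)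
    rw [Subgroup.map_eq_bot_iff_of_injective _ F.subtype_injective] at hZ
    by_contra hne
    haveI := (Subgroup.nontrivial_iff_ne_bot F).mpr hne
    exact Group.IsNilpotent.center_ne_bot (G := F) hZ
  have hgen : Cfsg.generalizedFittingSubgroup G = Cfsg.layer G := by
    rw [show Cfsg.generalizedFittingSubgroup G = Cfsg.layer G ⊔ Cfsg.fittingSubgroup G from rfl, hF, sup_bot_eq]
  have hlay : Cfsg.layer G ≤ N := by
    rw [layer_le_iff]
    intro L hL
    set C := sSup {K : Subgroup G | Cfsg.IsComponent K ∧ ⁅K, N⁆ = ⊥} with hC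
    have hCn : C.Normal := sSup_normal_of_conj fun g K hK => ⟨IsComponent.map_conj hK.1 g, by
      have h := congrArg (Subgroup.map (MulAut.conj g).toMonoidHom) hK.2
      rwa [Subgroup.map_commutator, Subgroup.map_bot,
        show N.map (MulAut.conj g).toMonoidHom = N from
          mem_normalizer_iff_map_conj.mp (by rw [Subgroup.normalizer_eq_top]; trivial)] at h⟩
    have hCb := key C hCn (le_trans (sSup_le fun K hK => le_centralizer_of_commutator_eq_bot hK.2)
      (Subgroup.centralizer_le (Subgroup.map_subtype_le _)))
    rcases IsComponent.le_or_commutator_eq_bot hL (Subgroup.Normal.isSubnormal (H := N) inferInstance) with h | h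
    · exact h
    · have h2 : L ≤ C := le_sSup ⟨hL, h⟩
      rw [hCb] at h2
      exact h2.trans bot_le
  refine ⟨hF, ?_, hgen, fun K hK hK1 hmin => ?_⟩
  · rw [hFseq, inf_eq_right, hgen]
    exact hlay
  · have := hK
    rcases hmin (K ⊓ N) (Subgroup.normal_inf_normal _ _) inf_le_left with h | h
    · refine absurd (key K hK ?_) hK1
      refine le_trans (fun k hk => ?_) (Subgroup.centralizer_le (Subgroup.map_subtype_le _))
      rw [Subgroup.mem_centralizer_iff]
      exact fun n hn => Subgroup.commute_of_normal_of_disjoint N K inferInstance hK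
        (disjoint_iff.mpr (inf_comm N K ▸ h)) n k hn hk
    · exact inf_eq_left.mp h

end Cfsg.Agent.S3750
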