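import Mathlib
import Cfsg.Statements.S3752
import Cfsg.Agent.Lib.Components.GenFitting
import Cfsg.Agent.Lib.Components.PComponent
import Cfsg.Agent.Lib.PGroups.Subnormal

set_option autoImplicit false
open Cfsg

namespace Cfsg.Agent.S3752

open Cfsg.Agent.Lib
open Subgroup

variable {G : Type*} [Group G]

/-- `O_p(H)` seen inside the ambient group. -/
def coreIn (p : ℕ) (H : Subgroup G) : Subgroup G := (pCore p ↥H).map H.subtype

theorem coreIn_le (p : ℕ) (H : Subgroup G) : coreIn p H ≤ H := map_subtype_le _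

theorem le_normalizer_map_subtype {H : Subgroup G} {N : Subgroup ↥H} (hN : N.Normal) :
    H ≤ normalizer (N.map H.subtype : Set G) := by
  intro h hh
  rw [Subgroup.mem_normalizer_iff]
  intro x
  constructor
  · rintro ⟨y, hy, rfl⟩
    exact ⟨⟨h, hh⟩ * y * ⟨h, hh⟩⁻¹, hN.conj_mem y hy _, rfl⟩
  · rintro ⟨y, hy, hyx⟩
    refine ⟨⟨h, hh⟩⁻¹ * y * ⟨h, hh⟩⁻¹⁻¹, hN.conj_mem y hy _, ?_⟩
    have hyx' : (y : G) = h * x * h⁻¹ := hyx
    simp [hyx', mul_assoc]

theorem coreIn_normalized (p : ℕ) (H : Subgroup G) :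
    H ≤ normalizer (coreIn p H : Set G) := le_normalizer_map_subtype inferInstance

theorem coreIn_isPGroup [Finite G] (p : ℕ) (H : Subgroup G) : IsPGroup p ↥(coreIn p H) :=
  (Components.pCore_isPGroup (G := ↥H) p).map _

/-- A normalized `p`-subgroup of `H` lies in `O_p(H)`. -/
theorem le_coreIn {p : ℕ} {H N : Subgroup G} (hN : N ≤ H) (hn : H ≤ normalizer (N : Set G))
    (hp : IsPGroup p ↥N) : N ≤ coreIn p H := by
  intro x hx
  refine ⟨⟨x, hN hx⟩, ?_, rfl⟩
  exact Components.le_pCore (N := N.subgroupOf H) (normal_subgroupOf_of_le_normalizer hn)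
    (hp.of_equiv (Subgroup.subgroupOfEquivOfLe hN).symm) hx

/-- A subnormal `p`-subgroup of `H` lies in `O_p(H)`. -/
theorem le_coreIn_of_subnormal [Finite G] {p : ℕ} [Fact p.Prime] {H N : Subgroup G} (hN : N ≤ H)
    (hs : (N.subgroupOf H).IsSubnormal) (hp : IsPGroup p ↥N) : N ≤ coreIn p H := by
  intro x hx
  exact ⟨⟨x, hN hx⟩, Components.le_pCore_of_subnormal hs
    (hp.of_equiv (Subgroup.subgroupOfEquivOfLe hN).symm) hx, rfl⟩

/-- A `p`-subgroup of the Fitting subgroup lies in `O_p`. -/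
theorem le_pCore_of_le_fitting {X : Type*} [Group X] [Finite X] {p : ℕ} [Fact p.Prime]
    {K : Subgroup X} (hK : IsPGroup p ↥K) (hle : K ≤ fittingSubgroup X) : K ≤ pCore p X := by
  refine Components.le_pCore_of_subnormal ?_ hK
  have := Components.fittingSubgroup_isNilpotent (G := X)
  have hn : (fittingSubgroup X).Normal := inferInstance
  have h := Subgroup.IsSubnormal.trans'
    (PGroups.isSubnormal_of_isNilpotent (K.subgroupOf (fittingSubgroup X))) hn.isSubnormal
  rwa [map_subgroupOf_eq_of_le hle] at h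

/-- Two subgroups of coprime order normalizing each other commute elementwise. -/
theorem comm_of_coprime [Finite G] {p q : ℕ} [Fact p.Prime] [Fact q.Prime] (hpq : p ≠ q)
    {A B : Subgroup G} (hA : IsPGroup p ↥A) (hB : IsPGroup q ↥B)
    (hAB : A ≤ normalizer (B : Set G)) (hBA : B ≤ normalizer (A : Set G))
    {a b : G} (ha : a ∈ A) (hb : b ∈ B) : a * b = b * a := by
  have h1 : a * b * a⁻¹ * b⁻¹ ∈ B :=
    mul_mem ((Subgroup.mem_normalizer_iff.mp (hAB ha) b).mp hb) (inv_mem hb)
  have h2 : a * b * a⁻¹ * b⁻¹ ∈ A := by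
    have : b * a⁻¹ * b⁻¹ ∈ A := (Subgroup.mem_normalizer_iff.mp (hBA hb) a⁻¹).mp (inv_mem ha)
    have e : a * b * a⁻¹ * b⁻¹ = a * (b * a⁻¹ * b⁻¹) := by group
    rw [e]; exact mul_mem ha this
  have hd : Disjoint A B := IsPGroup.disjoint_of_ne p q hpq A B hA hB
  have h3 : a * b * a⁻¹ * b⁻¹ = 1 := Subgroup.mem_bot.mp (hd.le_bot ⟨h2, h1⟩)
  rw [← mul_inv_eq_one, mul_inv_rev, ← h3]
  group

/-- An element of `M` centralizing every `O_r(M)` lies in the image of the Fitting subgroup, when
`C(F(M)) ≤ F(M)`. -/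
theorem mem_fitting_of_centralizes [Finite G] {M : Subgroup G}
    (hC : centralizer (fittingSubgroup ↥M : Set ↥M) ≤ fittingSubgroup ↥M) {x : G} (hx : x ∈ M)
    (h : ∀ r : ℕ, r.Prime → ∀ y ∈ coreIn r M, x * y = y * x) :
    x ∈ (fittingSubgroup ↥M).map M.subtype := by
  refine ⟨⟨x, hx⟩, hC ?_, rfl⟩
  have hle : fittingSubgroup ↥M ≤ centralizer ({⟨x, hx⟩} : Set ↥M) := by
    refine Components.fittingSubgroup_le_iSup_pCore.trans (iSup_le fun r y hy => ?_)
    rw [Subgroup.mem_centralizer_singleton_iff]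
    exact Subtype.ext (h _ r.2 (y : G) ⟨y, hy, rfl⟩).symm
  rw [Subgroup.mem_centralizer_iff]
  intro y hy
  exact Subgroup.mem_centralizer_singleton_iff.mp (hle hy)

/-- A component of `M` contained in `D ≤ M` is a component of `D`. -/
theorem component_restrict {L D M : Subgroup G} (hLD : L ≤ D) (hDM : D ≤ M)
    (h : IsComponent (L.subgroupOf M)) : IsComponent (L.subgroupOf D) := by
  have h1 : IsComponent ((L.subgroupOf M).subgroupOf (D.subgroupOf M)) :=
    Components.IsComponent.subgroupOf h (fun x hx => hLD hx)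
  have h2 := Components.IsComponent.map_mulEquiv (Subgroup.subgroupOfEquivOfLe hDM) h1
  have e : ((L.subgroupOf M).subgroupOf (D.subgroupOf M)).map
      (Subgroup.subgroupOfEquivOfLe hDM).toMonoidHom = L.subgroupOf D := by
    ext ⟨x, hx⟩
    constructor
    · rintro ⟨y, hy, hyx⟩
      have e1 : ((y : ↥M) : G) = x := congrArg Subtype.val hyx
      show x ∈ L
      rw [← e1]
      exact hy
    · intro hxL
      exact ⟨⟨⟨x, hDM hx⟩, hx⟩, hxL, Subtype.ext rfl⟩
  rwa [e] at h2

/-- Each component of `M` is a component of `N`. -/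
theorem layer_transfer [Finite G] {M N : Subgroup G}
    (hM : (generalizedFittingSubgroup ↥M).map M.subtype ≤ N)
    (hN : (generalizedFittingSubgroup ↥N).map N.subtype ≤ M) :
    (layer ↥M).map M.subtype ≤ (layer ↥N).map N.subtype := by
  rw [Subgroup.map_le_iff_le_comap, Components.layer_le_iff]
  intro K hK
  rw [← Subgroup.map_le_iff_le_comap]
  set L := K.map M.subtype with hLdef
  have hLM : L ≤ M := map_subtype_le _
  have hLN : L ≤ N := (Subgroup.map_mono ((Components.IsComponent.le_layer hK).trans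
    Components.layer_le_genFitting)).trans hM
  set D := M ⊓ N with hDdef
  have hDM : D ≤ M := inf_le_left
  have hDN : D ≤ N := inf_le_right
  have hLD : L ≤ D := le_inf hLM hLN
  have hKe : L.subgroupOf M = K := by
    rw [hLdef, Subgroup.subgroupOf, comap_map_eq_self_of_injective M.subtype_injective]
  have hLc : IsComponent (L.subgroupOf D) := component_restrict hLD hDM (hKe.symm ▸ hK)
  by_contra hnot
  have hF : L.subgroupOf N ≤
      centralizer (generalizedFittingSubgroup ↥N : Set ↥N) := by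
    rw [Subgroup.le_centralizer_iff]
    refine sup_le (Components.layer_le_iff.mpr fun K₂ hK₂ => ?_) ?_
    · set L₂ := K₂.map N.subtype with hL2def
      have hL2N : L₂ ≤ N := map_subtype_le _
      have hL2M : L₂ ≤ M := (Subgroup.map_mono ((Components.IsComponent.le_layer hK₂).trans
        Components.layer_le_genFitting)).trans hN
      have hL2D : L₂ ≤ D := le_inf hL2M hL2N
      have hK2e : L₂.subgroupOf N = K₂ := by
        rw [hL2def, Subgroup.subgroupOf, comap_map_eq_self_of_injective N.subtype_injective]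
      have hL2c : IsComponent (L₂.subgroupOf D) :=
        component_restrict hL2D hDN (hK2e.symm ▸ hK₂)
      have hne : L.subgroupOf D ≠ L₂.subgroupOf D := by
        intro he
        apply hnot
        have : L = L₂ := by
          rw [← map_subgroupOf_eq_of_le hLD, he, map_subgroupOf_eq_of_le hL2D]
        rw [this]
        exact Subgroup.map_mono (Components.IsComponent.le_layer hK₂)
      have hcomm := Components.IsComponent.commutator_eq_bot_of_ne hLc hL2c hne
      intro k hk
      rw [Subgroup.mem_centralizer_iff]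
      intro l hl
      have hkm : (k : G) ∈ L₂ := ⟨k, hk, rfl⟩
      have := Components.commute_of_commutator_eq_bot hcomm
        (a := ⟨(l : G), hLD hl⟩) (b := ⟨(k : G), hL2D hkm⟩) hl hkm
      exact Subtype.ext (congrArg (fun z : ↥D => (z : G)) this)
    · set W := (fittingSubgroup ↥N).map N.subtype with hWdef
      have hWM : W ≤ M := (Subgroup.map_mono Components.fitting_le_genFitting).trans hN
      have hWD : W ≤ D := le_inf hWM (map_subtype_le _)
      have hsol : Group.IsSolvable ↥(W.subgroupOf D) := by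
        have hs : Group.IsSolvable ↥(fittingSubgroup ↥N) := Components.fittingSubgroup_isSolvable
        exact solvable_of_solvable_injective
          (f := (((fittingSubgroup ↥N).equivMapOfInjective N.subtype
            N.subtype_injective).symm.toMonoidHom.comp
              (Subgroup.subgroupOfEquivOfLe hWD).toMonoidHom))
          (((fittingSubgroup ↥N).equivMapOfInjective N.subtype
            N.subtype_injective).symm.injective.comp (Subgroup.subgroupOfEquivOfLe hWD).injective)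
      have hnorm : L.subgroupOf D ≤ normalizer (W.subgroupOf D : Set ↥D) := by
        have hWn : D ≤ normalizer (W : Set G) :=
          hDN.trans (le_normalizer_map_subtype inferInstance)
        have : (W.subgroupOf D).Normal := normal_subgroupOf_of_le_normalizer hWn
        rw [Subgroup.normalizer_eq_top]
        exact le_top
      have hcomm := Components.IsComponent.commutator_eq_bot_of_solvable hLc hsol hnorm
      intro k hk
      rw [Subgroup.mem_centralizer_iff]
      intro l hl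
      have hkm : (k : G) ∈ W := ⟨k, hk, rfl⟩
      have := Components.commute_of_commutator_eq_bot hcomm
        (a := ⟨(l : G), hLD hl⟩) (b := ⟨(k : G), hWD hkm⟩) hl hkm
      exact Subtype.ext (congrArg (fun z : ↥D => (z : G)) this)
  have h1 := hF.trans Components.centralizer_genFitting_le_fittingSubgroup
  have h2 : Group.IsSolvable ↥(L.subgroupOf N) :=
    Components.isSolvable_of_le h1 Components.fittingSubgroup_isSolvable
  apply Components.IsComponent.not_isSolvable hLc
  exact solvable_of_solvable_injective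
    (f := ((Subgroup.subgroupOfEquivOfLe hLN).symm.toMonoidHom.comp
      (Subgroup.subgroupOfEquivOfLe hLD).toMonoidHom))
    ((Subgroup.subgroupOfEquivOfLe hLN).symm.injective.comp
      (Subgroup.subgroupOfEquivOfLe hLD).injective)

theorem coreIn_le_of_fitting [Finite G] {M N : Subgroup G}
    (hFM : (fittingSubgroup ↥M).map M.subtype ≤ N) {p : ℕ} [Fact p.Prime] : coreIn p M ≤ N :=
  (Subgroup.map_mono (Components.pCore_le_fittingSubgroup p)).trans hFM

/-- The same primes occur. -/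
theorem core_ne_bot_transfer [Finite G] {M N : Subgroup G}
    (hC : centralizer (fittingSubgroup ↥N : Set ↥N) ≤ fittingSubgroup ↥N)
    (hFM : (fittingSubgroup ↥M).map M.subtype ≤ N)
    (hFN : (fittingSubgroup ↥N).map N.subtype ≤ M)
    {q : ℕ} [Fact q.Prime] (hq : coreIn q M ≠ ⊥) : coreIn q N ≠ ⊥ := by
  intro hbot
  apply hq
  rw [eq_bot_iff, ← hbot]
  have hQN : coreIn q M ≤ N := coreIn_le_of_fitting hFM
  have hQF : (coreIn q M).subgroupOf N ≤ fittingSubgroup ↥N := by
    intro x hx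
    obtain ⟨y, hy, hyx⟩ := mem_fitting_of_centralizes hC x.2 (x := (x : G)) (by
      intro r hr y hy
      have : Fact r.Prime := ⟨hr⟩
      rcases eq_or_ne q r with h | h
      · subst h
        rw [hbot, Subgroup.mem_bot] at hy
        subst hy; simp
      · exact comm_of_coprime h (coreIn_isPGroup q M) (coreIn_isPGroup r N)
          (hQN.trans (coreIn_normalized r N))
          ((coreIn_le_of_fitting hFN).trans (coreIn_normalized q M)) hx hy)
    exact (Subtype.coe_injective hyx : y = x) ▸ hy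
  have h := le_pCore_of_le_fitting
    ((coreIn_isPGroup q M).of_equiv (Subgroup.subgroupOfEquivOfLe hQN).symm) hQF
  intro x hx
  exact ⟨⟨x, hQN hx⟩, h hx, rfl⟩

/-- One side of the two-prime argument: `O_q(M ∩ N) = O_q(M)`. -/
theorem core_inter_eq [Finite G] {M N : Subgroup G}
    (hC : centralizer (fittingSubgroup ↥M : Set ↥M) ≤ fittingSubgroup ↥M)
    (hFM : (fittingSubgroup ↥M).map M.subtype ≤ N)
    (hFN : (fittingSubgroup ↥N).map N.subtype ≤ M)
    (hN : ∀ A : Subgroup G, A ≠ ⊥ → A ≤ M ⊓ N → N ≤ normalizer (A : Set G) →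
      M ⊓ normalizer (A : Set G) = M ⊓ N)
    {p q : ℕ} [Fact p.Prime] [Fact q.Prime] (hpq : p ≠ q) (hp : coreIn p N ≠ ⊥) :
    coreIn q (M ⊓ N) = coreIn q M := by
  set D := M ⊓ N with hDdef
  have hDM : D ≤ M := inf_le_left
  have hDN : D ≤ N := inf_le_right
  have hMD : ∀ r : ℕ, r.Prime → coreIn r M ≤ D := fun r hr => by
    have : Fact r.Prime := ⟨hr⟩
    exact le_inf (coreIn_le r M) (coreIn_le_of_fitting hFM)
  have hPD : coreIn p N ≤ D := le_inf (coreIn_le_of_fitting hFN) (coreIn_le p N)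
  have hPA : coreIn p N ≤ coreIn p D :=
    le_coreIn hPD (hDN.trans (coreIn_normalized p N)) (coreIn_isPGroup p N)
  have hQR : coreIn q M ≤ coreIn q D :=
    le_coreIn (hMD q Fact.out) (hDM.trans (coreIn_normalized q M)) (coreIn_isPGroup q M)
  refine le_antisymm ?_ hQR
  set A := coreIn p D with hAdef
  set R := coreIn q D with hRdef
  have hAD : A ≤ D := coreIn_le p D
  have hRD : R ≤ D := coreIn_le q D
  have hAR : ∀ a ∈ A, ∀ r ∈ R, a * r = r * a := fun a ha r hr =>
    comm_of_coprime hpq (coreIn_isPGroup p D) (coreIn_isPGroup q D)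
      (hAD.trans (coreIn_normalized q D)) (hRD.trans (coreIn_normalized p D)) ha hr
  set Cq : Subgroup G := M ⊓ ⨅ r : {r : ℕ // r.Prime ∧ r ≠ q},
    centralizer (coreIn (r : ℕ) M : Set G) with hCqdef
  have hCqM : Cq ≤ M := inf_le_left
  have hCq : ∀ c ∈ Cq, ∀ r : ℕ, r.Prime → r ≠ q → ∀ y ∈ coreIn r M, c * y = y * c := by
    intro c hc r hr hrq y hy
    have h := Subgroup.mem_iInf.mp hc.2 ⟨r, hr, hrq⟩
    exact ((Subgroup.mem_centralizer_iff.mp h) y hy).symm
  have hMCq : M ≤ normalizer (Cq : Set G) := by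
    have key : ∀ m ∈ M, ∀ c ∈ Cq, m * c * m⁻¹ ∈ Cq := by
      intro m hm c hc
      refine ⟨M.mul_mem (M.mul_mem hm (hCqM hc)) (M.inv_mem hm), Subgroup.mem_iInf.mpr fun r => ?_⟩
      rw [Subgroup.mem_centralizer_iff]
      intro y hy
      have hy' : m⁻¹ * y * m⁻¹⁻¹ ∈ coreIn (r : ℕ) M :=
        (Subgroup.mem_normalizer_iff.mp (inv_mem (coreIn_normalized _ M hm)) y).mp hy
      have h := hCq c hc r r.2.1 r.2.2 _ hy'
      rw [inv_inv] at h
      calc y * (m * c * m⁻¹) = m * ((m⁻¹ * y * m) * c) * m⁻¹ := by group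
        _ = m * (c * (m⁻¹ * y * m)) * m⁻¹ := by rw [h]
        _ = m * c * m⁻¹ * y := by group
    intro m hm
    rw [Subgroup.mem_normalizer_iff]
    intro c
    refine ⟨key m hm c, fun h => ?_⟩
    have h2 := key m⁻¹ (inv_mem hm) _ h
    have e : m⁻¹ * (m * c * m⁻¹) * m⁻¹⁻¹ = c := by group
    rwa [e] at h2
  have hCA : ∀ c ∈ Cq, ∀ a ∈ A, c * a * c⁻¹ ∈ A := by
    intro c hc a ha
    have haM : a ∈ M := hDM (hAD ha)
    have hcent : ∀ r : ℕ, r.Prime → ∀ y ∈ coreIn r M,
        (c * a * c⁻¹ * a⁻¹) * y = y * (c * a * c⁻¹ * a⁻¹) := by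
      intro r hr y hy
      rcases eq_or_ne r q with h | h
      · subst h
        have hy' : c⁻¹ * y * c⁻¹⁻¹ ∈ coreIn r M :=
          (Subgroup.mem_normalizer_iff.mp (coreIn_normalized r M (inv_mem (hCqM hc))) y).mp hy
        rw [inv_inv] at hy'
        have h1 : a⁻¹ * y = y * a⁻¹ := hAR _ (inv_mem ha) _ (hQR hy)
        have h2 : a * (c⁻¹ * y * c) = (c⁻¹ * y * c) * a := hAR _ ha _ (hQR hy')
        calc (c * a * c⁻¹ * a⁻¹) * y = c * a * c⁻¹ * (a⁻¹ * y) := by group
          _ = c * a * c⁻¹ * (y * a⁻¹) := by rw [h1]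
          _ = c * (a * (c⁻¹ * y * c)) * c⁻¹ * a⁻¹ := by group
          _ = c * ((c⁻¹ * y * c) * a) * c⁻¹ * a⁻¹ := by rw [h2]
          _ = y * (c * a * c⁻¹ * a⁻¹) := by group
      · have hci : c⁻¹ ∈ Cq := inv_mem hc
        have hya : a⁻¹ * y * a⁻¹⁻¹ ∈ coreIn r M :=
          (Subgroup.mem_normalizer_iff.mp (coreIn_normalized r M (inv_mem haM)) y).mp hy
        rw [inv_inv] at hya
        have h1 : c⁻¹ * (a⁻¹ * y * a) = (a⁻¹ * y * a) * c⁻¹ := hCq _ hci r hr h _ hya
        have h2 : c * y = y * c := hCq c hc r hr h y hy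
        calc (c * a * c⁻¹ * a⁻¹) * y = c * a * (c⁻¹ * (a⁻¹ * y * a)) * a⁻¹ := by group
          _ = c * a * ((a⁻¹ * y * a) * c⁻¹) * a⁻¹ := by rw [h1]
          _ = (c * y) * (a * c⁻¹ * a⁻¹) := by group
          _ = (y * c) * (a * c⁻¹ * a⁻¹) := by rw [h2]
          _ = y * (c * a * c⁻¹ * a⁻¹) := by group
    have hx := mem_fitting_of_centralizes hC
      (mul_mem (mul_mem (mul_mem (hCqM hc) haM) (inv_mem (hCqM hc))) (inv_mem haM)) hcent
    set W := (fittingSubgroup ↥M).map M.subtype with hWdef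
    have hWD : W ≤ D := le_inf (map_subtype_le _) hFM
    have hWF : W.subgroupOf D ≤ fittingSubgroup ↥D := by
      refine Components.le_fittingSubgroup
        (normal_subgroupOf_of_le_normalizer (hDM.trans (le_normalizer_map_subtype inferInstance))) ?_
      have := Components.fittingSubgroup_isNilpotent (G := ↥M)
      exact Group.nilpotent_of_mulEquiv (((fittingSubgroup ↥M).equivMapOfInjective _
        M.subtype_injective).trans (Subgroup.subgroupOfEquivOfLe hWD).symm)
    obtain ⟨a', ha', ha'e⟩ := ha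
    have hzD : c * a * c⁻¹ ∈ D := by
      have e : c * a * c⁻¹ = (c * a * c⁻¹ * a⁻¹) * a := by group
      rw [e]
      exact mul_mem (hWD hx) (hAD ⟨a', ha', ha'e⟩)
    have hzF : (⟨_, hzD⟩ : ↥D) ∈ fittingSubgroup ↥D := by
      have e : (⟨_, hzD⟩ : ↥D) = ⟨_, hWD hx⟩ * a' := by
        apply Subtype.ext
        show c * a * c⁻¹ = (c * a * c⁻¹ * a⁻¹) * (a' : G)
        rw [show (a' : G) = a from ha'e]
        group
      rw [e]
      exact mul_mem (hWF hx) (Components.pCore_le_fittingSubgroup p ha')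
    have hzp : IsPGroup p ↥(Subgroup.zpowers (⟨_, hzD⟩ : ↥D)) := by
      obtain ⟨k, hk⟩ := IsPGroup.iff_orderOf.mp (coreIn_isPGroup p D) ⟨a, a', ha', ha'e⟩
      refine IsPGroup.of_card (n := k) ?_
      rw [Nat.card_zpowers, ← hk, ← Subgroup.orderOf_coe, ← Subgroup.orderOf_coe]
      exact (MulEquiv.orderOf_eq (MulAut.conj c) a)
    refine ⟨⟨_, hzD⟩, le_pCore_of_le_fitting hzp ?_ (Subgroup.mem_zpowers _), rfl⟩
    rw [Subgroup.zpowers_le]
    exact hzF
  set C := Cq ⊓ centralizer (A : Set G) with hCdef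
  have hCnorm : Cq ≤ normalizer (C : Set G) := by
    have key : ∀ c ∈ Cq, ∀ x ∈ C, c * x * c⁻¹ ∈ C := by
      intro c hc x hx
      refine ⟨Cq.mul_mem (Cq.mul_mem hc hx.1) (Cq.inv_mem hc), ?_⟩
      refine Subgroup.mem_centralizer_iff.mpr fun a ha => ?_
      have h1 := Subgroup.mem_centralizer_iff.mp hx.2 (c⁻¹ * a * c⁻¹⁻¹) (hCA _ (inv_mem hc) a ha)
      rw [inv_inv] at h1
      calc a * (c * x * c⁻¹) = c * ((c⁻¹ * a * c) * x) * c⁻¹ := by group
        _ = c * (x * (c⁻¹ * a * c)) * c⁻¹ := by rw [h1]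
        _ = c * x * c⁻¹ * a := by group
    intro c hc
    rw [Subgroup.mem_normalizer_iff]
    intro x
    refine ⟨key c hc x, fun h => ?_⟩
    have h2 := key c⁻¹ (inv_mem hc) _ h
    have e : c⁻¹ * (c * x * c⁻¹) * c⁻¹⁻¹ = x := by group
    rwa [e] at h2
  have hRC : R ≤ C := by
    intro x hx
    refine ⟨⟨hDM (hRD hx), Subgroup.mem_iInf.mpr fun r => ?_⟩, ?_⟩
    · refine Subgroup.mem_centralizer_iff.mpr fun y hy => ?_
      have : Fact (r : ℕ).Prime := ⟨r.2.1⟩
      exact comm_of_coprime r.2.2 (coreIn_isPGroup _ M) (coreIn_isPGroup q D)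
        ((hMD _ r.2.1).trans (coreIn_normalized q D))
        ((hRD.trans hDM).trans (coreIn_normalized _ M)) hy hx
    · exact Subgroup.mem_centralizer_iff.mpr fun y hy => hAR y hy x hx
  have hCD : C ≤ D := by
    rw [← hN _ hp hPD (coreIn_normalized p N)]
    refine le_inf (inf_le_left.trans hCqM) (le_trans ?_ (centralizer_le_normalizer _))
    exact inf_le_right.trans (Subgroup.centralizer_le hPA)
  refine le_coreIn_of_subnormal (hRD.trans hDM) ?_ (coreIn_isPGroup q D)
  refine Subgroup.IsSubnormal.step _ (C.subgroupOf M) (fun x hx => hRC hx)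
    (Subgroup.IsSubnormal.step _ (Cq.subgroupOf M) (fun x hx => hx.1)
      (normal_subgroupOf_of_le_normalizer hMCq).isSubnormal ?_) ?_
  · apply normal_subgroupOf_of_le_normalizer
    intro c hc
    rw [Subgroup.mem_normalizer_iff]
    intro x
    exact Subgroup.mem_normalizer_iff.mp (hCnorm hc) (x : G)
  · apply normal_subgroupOf_of_le_normalizer
    intro c hc
    rw [Subgroup.mem_normalizer_iff]
    intro x
    exact Subgroup.mem_normalizer_iff.mp (coreIn_normalized q D (hCD hc)) (x : G)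

theorem fitting_of_layer_bot {X : Type*} [Group X] (h : layer X = ⊥) :
    generalizedFittingSubgroup X = fittingSubgroup X := by
  rw [generalizedFittingSubgroup, h, bot_sup_eq]

/-- Bender's Theorem on primitive pairs. Two distinct subgroups M₁, M₂ of G form a primitive pair when, for {i, j} = {1, 2}, every non-trivial normal subgroup A of M_i contained in M₁ ∩ M₂ satisfies N_{M_j}(A) = M₁ ∩ M₂; the pair has characteristic p when moreover C_{M_i}(O_p(M_i)) ≤ O_p(M_i) for both i and O_p(M₁)O_p(M₂) ≤ M₁ ∩ M₂. If (M₁, M₂) is a primitive pair of the finite group G with F*(M₁) ≤ M₂ and F*(M₂) ≤ M₁, then for some prime p the pair has characteristic p. -/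
theorem result {G : Type*} [Group G] [Finite G] (M₁ M₂ : Subgroup G) (hne : M₁ ≠ M₂) (hP : ∀ A : Subgroup G, A ≠ ⊥ → A ≤ M₁ ⊓ M₂ → (M₁ ≤ Subgroup.normalizer (A : Set G) → M₂ ⊓ Subgroup.normalizer (A : Set G) = M₁ ⊓ M₂) ∧ (M₂ ≤ Subgroup.normalizer (A : Set G) → M₁ ⊓ Subgroup.normalizer (A : Set G) = M₁ ⊓ M₂)) (h₁ : (Cfsg.generalizedFittingSubgroup ↥M₁).map M₁.subtype ≤ M₂) (h₂ : (Cfsg.generalizedFittingSubgroup ↥M₂).map M₂.subtype ≤ M₁) : ∃ p : ℕ, p.Prime ∧ Subgroup.centralizer (Cfsg.pCore p ↥M₁ : Set ↥M₁) ≤ Cfsg.pCore p ↥M₁ ∧ Subgroup.centralizer (Cfsg.pCore p ↥M₂ : Set ↥M₂) ≤ Cfsg.pCore p ↥M₂ ∧ (Cfsg.pCore p ↥M₁).map M₁.subtype ⊔ (Cfsg.pCore p ↥M₂).map M₂.subtype ≤ M₁ ⊓ M₂ := by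
  have key : ∀ A : Subgroup G, A ≤ M₁ ⊓ M₂ → M₁ ≤ normalizer (A : Set G) →
      M₂ ≤ normalizer (A : Set G) → A = ⊥ := by
    intro A hA hA1 hA2
    by_contra hA0
    obtain ⟨e1, e2⟩ := hP A hA0 hA
    have a1 := e1 hA1
    have a2 := e2 hA2
    rw [inf_of_le_left hA2] at a1
    rw [inf_of_le_left hA1] at a2
    exact hne (a2.trans a1.symm)
  have hE : (layer ↥M₁).map M₁.subtype = (layer ↥M₂).map M₂.subtype :=
    le_antisymm (layer_transfer h₁ h₂) (layer_transfer h₂ h₁)
  have hEbot : (layer ↥M₁).map M₁.subtype = ⊥ := by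
    have hn1 : (layer ↥M₁).Normal := Subgroup.normal_of_characteristic _
    have hn2 : (layer ↥M₂).Normal := Subgroup.normal_of_characteristic _
    refine key _ (le_inf (map_subtype_le _) ?_) (le_normalizer_map_subtype hn1) ?_
    · exact hE.le.trans (map_subtype_le _)
    · rw [hE]; exact le_normalizer_map_subtype hn2
  have hl1 : layer ↥M₁ = ⊥ := (Subgroup.map_eq_bot_iff_of_injective _ M₁.subtype_injective).mp hEbot
  have hl2 : layer ↥M₂ = ⊥ :=
    (Subgroup.map_eq_bot_iff_of_injective _ M₂.subtype_injective).mp (hE ▸ hEbot)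
  rw [fitting_of_layer_bot hl1] at h₁
  rw [fitting_of_layer_bot hl2] at h₂
  have hC1 := Components.centralizer_fitting_le_iff.mpr hl1
  have hC2 := Components.centralizer_fitting_le_iff.mpr hl2
  have huniq : ∀ p q : ℕ, p.Prime → q.Prime → p ≠ q → coreIn p M₁ ≠ ⊥ → coreIn q M₁ = ⊥ := by
    intro p q hp hq hpq hpne
    by_contra hqne
    have : Fact p.Prime := ⟨hp⟩
    have : Fact q.Prime := ⟨hq⟩
    have hp2 := core_ne_bot_transfer hC2 h₁ h₂ hpne
    have r1 : coreIn q (M₁ ⊓ M₂) = coreIn q M₁ :=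
      core_inter_eq hC1 h₁ h₂ (fun A a b c => (hP A a b).2 c) hpq hp2
    have r2 : coreIn q (M₂ ⊓ M₁) = coreIn q M₂ :=
      core_inter_eq hC2 h₂ h₁ (fun A a b c => by
        rw [inf_comm M₂ M₁] at b ⊢
        exact (hP A a b).1 c) hpq hpne
    rw [inf_comm, r1] at r2
    refine hqne (key _ (le_inf (coreIn_le q M₁) (coreIn_le_of_fitting h₁))
      (coreIn_normalized q M₁) ?_)
    rw [r2]
    exact coreIn_normalized q M₂
  have hex : ∃ p : ℕ, p.Prime ∧ coreIn p M₁ ≠ ⊥ := by
    by_contra hno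
    have h0 : ∀ r : ℕ, r.Prime → coreIn r M₁ = ⊥ := fun r hr =>
      by_contra fun h => hno ⟨r, hr, h⟩
    have h0' : ∀ r : ℕ, r.Prime → coreIn r M₂ = ⊥ := fun r hr => by
      by_contra h
      have : Fact r.Prime := ⟨hr⟩
      exact core_ne_bot_transfer hC1 h₂ h₁ h (h0 r hr)
    have triv : ∀ M : Subgroup G, centralizer (fittingSubgroup ↥M : Set ↥M) ≤ fittingSubgroup ↥M →
        (∀ r : ℕ, r.Prime → coreIn r M = ⊥) → M = ⊥ := by
      intro M hC h
      have hF : fittingSubgroup ↥M = ⊥ := by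
        rw [eq_bot_iff]
        refine Components.fittingSubgroup_le_iSup_pCore.trans (iSup_le fun r => ?_)
        rw [(Subgroup.map_eq_bot_iff_of_injective _ M.subtype_injective).mp (h _ r.2)]
      rw [eq_bot_iff]
      intro x hx
      obtain ⟨y, hy, hyx⟩ := mem_fitting_of_centralizes hC hx (fun r hr y hy => by
        rw [h r hr, Subgroup.mem_bot] at hy
        subst hy; simp)
      rw [hF] at hy
      rw [Subgroup.mem_bot, ← hyx, Subgroup.mem_bot.mp hy, map_one]
    exact hne ((triv _ hC1 h0).trans (triv _ hC2 h0').symm)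
  obtain ⟨p, hp, hpne⟩ := hex
  have : Fact p.Prime := ⟨hp⟩
  have hF1 : fittingSubgroup ↥M₁ = pCore p ↥M₁ := by
    refine le_antisymm (Components.fittingSubgroup_le_iSup_pCore.trans (iSup_le fun r => ?_))
      (Components.pCore_le_fittingSubgroup p)
    rcases eq_or_ne (r : ℕ) p with h | h
    · rw [h]
    · rw [(Subgroup.map_eq_bot_iff_of_injective _ M₁.subtype_injective).mp
        (huniq p r hp r.2 (Ne.symm h) hpne)]
      exact bot_le
  have hF2 : fittingSubgroup ↥M₂ = pCore p ↥M₂ := by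
    refine le_antisymm (Components.fittingSubgroup_le_iSup_pCore.trans (iSup_le fun r => ?_))
      (Components.pCore_le_fittingSubgroup p)
    rcases eq_or_ne (r : ℕ) p with h | h
    · rw [h]
    · have hr : coreIn (r : ℕ) M₂ = ⊥ := by
        by_contra hr0
        have : Fact (r : ℕ).Prime := ⟨r.2⟩
        exact core_ne_bot_transfer hC1 h₂ h₁ hr0 (huniq p r hp r.2 (Ne.symm h) hpne)
      rw [(Subgroup.map_eq_bot_iff_of_injective _ M₂.subtype_injective).mp hr]
      exact bot_le
  refine ⟨p, hp, ?_, ?_, ?_⟩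
  · rwa [hF1] at hC1
  · rwa [hF2] at hC2
  · exact sup_le (le_inf (coreIn_le p M₁) (coreIn_le_of_fitting h₁))
      (le_inf (coreIn_le_of_fitting h₂) (coreIn_le p M₂))

end Cfsg.Agent.S3752
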