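import Mathlib
import Cfsg.Statements.S3751
import Cfsg.Agent.S3752
import Cfsg.Agent.Lib.Transfer.Frobenius

set_option autoImplicit false
open Cfsg

namespace Cfsg.Agent.S3751

open Cfsg.Agent.Lib Subgroup
open Cfsg.Agent.S3752 (coreIn coreIn_le coreIn_isPGroup coreIn_normalized le_coreIn)

variable {G : Type*} [Group G] {p : ℕ}

/-- A `p`-local subgroup. -/
def IsLoc (p : ℕ) (M : Subgroup G) : Prop :=
  ∃ T : Subgroup G, IsPGroup p T ∧ T ≠ ⊥ ∧ M = Subgroup.normalizer (T : Set G)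

/-- A maximal `p`-local subgroup. -/
def IsMaxLoc (p : ℕ) (M : Subgroup G) : Prop :=
  IsLoc p M ∧ ∀ L : Subgroup G, IsLoc p L → M ≤ L → L = M

theorem exists_maxLoc [Finite G] {L : Subgroup G} (hL : IsLoc p L) :
    ∃ M : Subgroup G, IsMaxLoc p M ∧ L ≤ M := by
  obtain ⟨M, hLM, hM⟩ := (Set.toFinite {K : Subgroup G | IsLoc p K}).exists_le_maximal hL
  exact ⟨M, ⟨hM.1, fun K hK hMK => le_antisymm (hM.2 hK hMK) hMK⟩, hLM⟩

theorem coreIn_ne_bot {M : Subgroup G} (hM : IsLoc p M) : coreIn p M ≠ ⊥ := by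
  obtain ⟨T, hT, hT0, rfl⟩ := hM
  intro h
  exact hT0 (le_bot_iff.mp (h ▸ le_coreIn le_normalizer le_rfl hT))

theorem normalizer_coreIn [Finite G] {M : Subgroup G} (hM : IsMaxLoc p M) :
    normalizer (coreIn p M : Set G) = M :=
  hM.2 _ ⟨_, coreIn_isPGroup p M, coreIn_ne_bot hM.1, rfl⟩ (coreIn_normalized p M)

theorem normalizer_self [Finite G] {M : Subgroup G} (hM : IsMaxLoc p M) {g : G}
    (hg : M.map (MulAut.conj g).toMonoidHom = M) : g ∈ M := by
  rw [← normalizer_coreIn hM, Subgroup.mem_normalizer_iff_map_conj_eq]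
  refine Subgroup.eq_of_le_of_card_ge (le_coreIn ?_ ?_ ((coreIn_isPGroup p M).map _))
    (le_of_eq (Nat.card_congr
      ((coreIn p M).equivMapOfInjective _ (MulAut.conj g).injective).toEquiv))
  · exact (Subgroup.map_mono (coreIn_le p M)).trans hg.le
  · intro x hx
    rw [← hg] at hx
    obtain ⟨y, hy, rfl⟩ := hx
    rw [Subgroup.mem_normalizer_iff]
    intro z
    obtain ⟨w, rfl⟩ := (MulAut.conj g).surjective z
    constructor
    · rintro ⟨v, hv, hvw⟩
      refine ⟨y * v * y⁻¹, (Subgroup.mem_normalizer_iff.mp (coreIn_normalized p M hy) v).mp hv, ?_⟩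
      rw [map_mul, map_mul, map_inv, hvw]
      rfl
    · rintro ⟨v, hv, hvw⟩
      refine ⟨y⁻¹ * v * y, ?_, ?_⟩
      · refine (Subgroup.mem_normalizer_iff.mp (coreIn_normalized p M hy) _).mpr ?_
        have e : y * (y⁻¹ * v * y) * y⁻¹ = v := by group
        rw [e]; exact hv
      · rw [map_mul, map_mul, map_inv, hvw]
        show ((MulAut.conj g) y)⁻¹ * ((MulAut.conj g) y * (MulAut.conj g) w *
          ((MulAut.conj g) y)⁻¹) * (MulAut.conj g) y = (MulAut.conj g) w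
        group

theorem isMaxLoc_map [Finite G] {M : Subgroup G} (hM : IsMaxLoc p M) (g : G) :
    IsMaxLoc p (M.map (MulAut.conj g).toMonoidHom) := by
  have key : ∀ (L : Subgroup G) (h : G), IsLoc p L → IsLoc p (L.map (MulAut.conj h).toMonoidHom) := by
    rintro L h ⟨T, hT, hT0, rfl⟩
    refine ⟨T.map (MulAut.conj h).toMonoidHom, hT.map _, fun hb => hT0 ?_, ?_⟩
    · exact (Subgroup.map_eq_bot_iff_of_injective _ (MulAut.conj h).injective).mp hb
    · exact Subgroup.map_equiv_normalizer_eq T (MulAut.conj h)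
  refine ⟨key M g hM.1, fun L hL hle => ?_⟩
  have e : ∀ K : Subgroup G, (K.map (MulAut.conj g⁻¹).toMonoidHom).map (MulAut.conj g).toMonoidHom = K := by
    intro K
    rw [Subgroup.map_map]
    conv_rhs => rw [← Subgroup.map_id K]
    congr 1
    ext x
    simp [mul_assoc]
  have hle' : M ≤ L.map (MulAut.conj g⁻¹).toMonoidHom := by
    intro x hx
    exact ⟨g * x * g⁻¹, hle ⟨x, hx, rfl⟩, by simp [mul_assoc]⟩
  rw [← e L, hM.2 _ (key L g⁻¹ hL) hle']

/-- The normalizer of a normal subgroup contained in the intersection. -/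
theorem normalizer_of_normal [Finite G] [Fact p.Prime] {M A : Subgroup G} (hM : IsMaxLoc p M)
    (hC : Subgroup.centralizer (Cfsg.pCore p ↥M : Set ↥M) ≤ Cfsg.pCore p ↥M)
    (hA : A ≠ ⊥) (hAM : A ≤ M) (hMA : M ≤ normalizer (A : Set G)) :
    normalizer (A : Set G) = M := by
  set O := coreIn p M ⊓ A with hOdef
  have hO : O ≠ ⊥ := by
    intro hbot
    apply hA
    have hcent : A ≤ coreIn p M := by
      intro a ha
      refine ⟨⟨a, hAM ha⟩, hC ?_, rfl⟩
      rw [Subgroup.mem_centralizer_iff]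
      intro b hb
      have hbM : (b : G) ∈ coreIn p M := ⟨b, hb, rfl⟩
      have h1 : a * b * a⁻¹ * (b : G)⁻¹ ∈ coreIn p M :=
        (coreIn p M).mul_mem
          ((Subgroup.mem_normalizer_iff.mp (coreIn_normalized p M (hAM ha)) _).mp hbM)
          ((coreIn p M).inv_mem hbM)
      have h2 : a * b * a⁻¹ * (b : G)⁻¹ ∈ A := by
        have h := (Subgroup.mem_normalizer_iff.mp (hMA b.2) a⁻¹).mp (A.inv_mem ha)
        have e : a * b * a⁻¹ * (b : G)⁻¹ = a * ((b : G) * a⁻¹ * (b : G)⁻¹) := by group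
        rw [e]; exact A.mul_mem ha h
      have h3 : a * b * a⁻¹ * (b : G)⁻¹ = 1 := Subgroup.mem_bot.mp (hbot ▸ ⟨h1, h2⟩)
      apply Subtype.ext
      show (b : G) * a = a * b
      rw [mul_inv_eq_one, mul_inv_eq_iff_eq_mul] at h3
      exact h3.symm
    rw [eq_bot_iff, ← hbot]
    exact le_inf hcent le_rfl
  have hOA : O ≤ coreIn p A := by
    refine le_coreIn inf_le_right ?_ ((coreIn_isPGroup p M).to_le inf_le_left)
    intro a ha
    rw [Subgroup.mem_normalizer_iff]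
    intro x
    refine and_congr ?_ ?_
    · exact Subgroup.mem_normalizer_iff.mp (coreIn_normalized p M (hAM ha)) x
    · exact Subgroup.mem_normalizer_iff.mp (le_normalizer ha) x
  have hne : coreIn p A ≠ ⊥ := fun h => hO (le_bot_iff.mp (h ▸ hOA))
  have hNle : normalizer (A : Set G) ≤ normalizer (coreIn p A : Set G) := by
    have key : ∀ g ∈ normalizer (A : Set G),
        (coreIn p A).map (MulAut.conj g).toMonoidHom ≤ coreIn p A := by
      intro g hg
      refine le_coreIn ?_ ?_ ((coreIn_isPGroup p A).map _)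
      · rintro _ ⟨x, hx, rfl⟩
        exact (Subgroup.mem_normalizer_iff.mp hg x).mp (coreIn_le p A hx)
      · intro a ha
        have ha' : g⁻¹ * a * g ∈ A := by
          have h := (Subgroup.mem_normalizer_iff.mp
            ((normalizer (A : Set G)).inv_mem hg) a).mp ha
          rwa [inv_inv] at h
        have hmem := Subgroup.mem_normalizer_iff.mp (coreIn_normalized p A ha')
        rw [Subgroup.mem_normalizer_iff]
        intro x
        simp only [Subgroup.mem_map_equiv, MulAut.conj_symm_apply]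
        rw [hmem (g⁻¹ * x * g)]
        have e : g⁻¹ * (a * x * a⁻¹) * g =
            g⁻¹ * a * g * (g⁻¹ * x * g) * (g⁻¹ * a * g)⁻¹ := by group
        rw [e]
    intro g hg
    rw [Subgroup.mem_normalizer_iff]
    intro x
    constructor
    · exact fun hx => key g hg ⟨x, hx, rfl⟩
    · intro hx
      have h := key g⁻¹ ((normalizer (A : Set G)).inv_mem hg) ⟨_, hx, rfl⟩
      have e : (MulAut.conj g⁻¹) (g * x * g⁻¹) = x := by simp [mul_assoc]
      exact e ▸ h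
  exact le_antisymm
    (hNle.trans (hM.2 _ ⟨_, coreIn_isPGroup p A, hne, rfl⟩ (hMA.trans hNle)).le) hMA

/-- A `p`-subgroup of `M` that does not grow in `M` contains `O_p(M)`. -/
theorem coreIn_le_of_max [Finite G] [Fact p.Prime] {M T : Subgroup G} (hT : IsPGroup p T)
    (hTM : T ≤ M) (hmax : ∀ R : Subgroup G, IsPGroup p R → R ≤ M → T ≤ R → R = T) :
    coreIn p M ≤ T := by
  have h : IsPGroup p ↥(T ⊔ coreIn p M : Subgroup G) :=
    IsPGroup.to_sup_of_normal_right' hT (coreIn_isPGroup p M) (hTM.trans (coreIn_normalized p M))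
  exact le_sup_right.trans (hmax _ h (sup_le hTM (coreIn_le p M)) le_sup_left).le

/-- Two distinct subgroups M₁, M₂ of G form a primitive pair when, for {i, j} = {1, 2}, every non-trivial normal subgroup A of M_i contained in M₁ ∩ M₂ satisfies N_{M_j}(A) = M₁ ∩ M₂; the pair has characteristic p when moreover C_{M_i}(O_p(M_i)) ≤ O_p(M_i) for both i and O_p(M₁)O_p(M₂) ≤ M₁ ∩ M₂. Let G be a finite group, p a prime dividing its order, with O_p(G) = 1 and every p-local subgroup of characteristic p. Then either G has a primitive pair of characteristic p, or every maximal p-local subgroup M of G is strongly p-embedded in G: M is a proper subgroup, p divides its order, and for every g ∉ M the order of M ∩ gMg⁻¹ is prime to p. -/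
theorem result {G : Type*} [Group G] [Finite G] {p : ℕ} [Fact p.Prime] (hloc : Cfsg.IsOfLocalCharacteristic p G) (hOp : Cfsg.pCore p G = ⊥) : (∃ M₁ M₂ : Subgroup G, M₁ ≠ M₂ ∧ (∀ A : Subgroup G, A ≠ ⊥ → A ≤ M₁ ⊓ M₂ → (M₁ ≤ Subgroup.normalizer (A : Set G) → M₂ ⊓ Subgroup.normalizer (A : Set G) = M₁ ⊓ M₂) ∧ (M₂ ≤ Subgroup.normalizer (A : Set G) → M₁ ⊓ Subgroup.normalizer (A : Set G) = M₁ ⊓ M₂)) ∧ Subgroup.centralizer (Cfsg.pCore p ↥M₁ : Set ↥M₁) ≤ Cfsg.pCore p ↥M₁ ∧ Subgroup.centralizer (Cfsg.pCore p ↥M₂ : Set ↥M₂) ≤ Cfsg.pCore p ↥M₂ ∧ (Cfsg.pCore p ↥M₁).map M₁.subtype ⊔ (Cfsg.pCore p ↥M₂).map M₂.subtype ≤ M₁ ⊓ M₂) ∨ (∀ M : Subgroup G, (∃ T : Subgroup G, IsPGroup p T ∧ T ≠ ⊥ ∧ M = Subgroup.normalizer (T : Set G)) → (∀ L : Subgroup G, (∃ T : Subgroup G, IsPGroup p T ∧ T ≠ ⊥ ∧ L = Subgroup.normalizer (T : Set G)) → M ≤ L → L = M) → M ≠ ⊤ ∧ p ∣ Nat.card M ∧ ∀ g : G, g ∉ M → ¬ p ∣ Nat.card ↥(M ⊓ M.map (MulAut.conj g).toMonoidHom))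 := by
  have hchar : ∀ M : Subgroup G, IsLoc p M →
      Subgroup.centralizer (Cfsg.pCore p ↥M : Set ↥M) ≤ Cfsg.pCore p ↥M := by
    rintro M ⟨T, hT, hT0, rfl⟩
    exact hloc.2 T hT hT0
  have pair : ∀ M₁ M₂ : Subgroup G, IsMaxLoc p M₁ → IsMaxLoc p M₂ → M₁ ≠ M₂ →
      coreIn p M₁ ≤ M₂ → coreIn p M₂ ≤ M₁ →
      ∃ M₁ M₂ : Subgroup G, M₁ ≠ M₂ ∧ (∀ A : Subgroup G, A ≠ ⊥ → A ≤ M₁ ⊓ M₂ → (M₁ ≤ Subgroup.normalizer (A : Set G) → M₂ ⊓ Subgroup.normalizer (A : Set G) = M₁ ⊓ M₂) ∧ (M₂ ≤ Subgroup.normalizer (A : Set G) → M₁ ⊓ Subgroup.normalizer (A : Set G) = M₁ ⊓ M₂)) ∧ Subgroup.centralizer (Cfsg.pCore p ↥M₁ : Set ↥M₁) ≤ Cfsg.pCore p ↥M₁ ∧ Subgroup.centralizer (Cfsg.pCore p ↥M₂ : Set ↥M₂) ≤ Cfsg.pCore p ↥M₂ ∧ (Cfsg.pCore p ↥M₁).map M₁.subtype ⊔ (Cfsg.pCore p ↥M₂).map M₂.subtype ≤ M₁ ⊓ M₂ := by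
    intro M₁ M₂ h1 h2 hne h12 h21
    refine ⟨M₁, M₂, hne, fun A hA hAD => ⟨fun hn => ?_, fun hn => ?_⟩, hchar _ h1.1, hchar _ h2.1,
      sup_le (le_inf (coreIn_le p M₁) h12) (le_inf h21 (coreIn_le p M₂))⟩
    · rw [normalizer_of_normal h1 (hchar _ h1.1) hA (hAD.trans inf_le_left) hn, inf_comm]
    · rw [normalizer_of_normal h2 (hchar _ h2.1) hA (hAD.trans inf_le_right) hn]
  by_cases hex : ∃ M N : Subgroup G, IsMaxLoc p M ∧ IsMaxLoc p N ∧ M ≠ N ∧ p ∣ Nat.card ↥(M ⊓ N)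
  · left
    obtain ⟨M, N, hM, hN, hMN, hd⟩ := hex
    obtain ⟨x, hx⟩ := exists_prime_orderOf_dvd_card' p hd
    let P : Set (Subgroup G) := {T : Subgroup G | IsPGroup p ↥T ∧
      ∃ M N : Subgroup G, IsMaxLoc p M ∧ IsMaxLoc p N ∧ M ≠ N ∧ T ≤ M ⊓ N}
    have hx0 : Subgroup.zpowers (x : G) ∈ P := by
      refine ⟨IsPGroup.of_card (n := 1) ?_, M, N, hM, hN, hMN, Subgroup.zpowers_le.mpr x.2⟩
      rw [Nat.card_zpowers, Subgroup.orderOf_coe, hx, pow_one]
    obtain ⟨T, hxT, hT⟩ := (Set.toFinite P).exists_le_maximal hx0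
    obtain ⟨hTp, M₁, M₂, h1, h2, h12, hTD⟩ := hT.1
    have hT0 : T ≠ ⊥ := by
      rintro rfl
      have : (x : G) = 1 := Subgroup.mem_bot.mp (hxT (Subgroup.mem_zpowers _))
      rw [← Subgroup.orderOf_coe, this, orderOf_one] at hx
      exact (Fact.out : p.Prime).ne_one hx.symm
    have noGrow : ∀ R : Subgroup G, IsPGroup p R → T < R →
        ∀ M N : Subgroup G, IsMaxLoc p M → IsMaxLoc p N → R ≤ M → R ≤ N → M = N := by
      intro R hR hlt M N hM hN hRM hRN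
      by_contra hne
      exact hlt.not_ge (hT.2 ⟨hR, M, N, hM, hN, hne, le_inf hRM hRN⟩ hlt.le)
    have grow : ∀ M : Subgroup G, IsMaxLoc p M → T ≤ M →
        ¬ (∀ R : Subgroup G, IsPGroup p R → R ≤ M → T ≤ R → R = T) →
        normalizer (T : Set G) ≤ M ∧
          ∃ Q : Subgroup G, IsPGroup p Q ∧ T < Q ∧ Q ≤ M ∧ Q ≤ normalizer (T : Set G) := by
      intro M hM hTM h
      push Not at h
      obtain ⟨R, hR, hRM, hTR, hne⟩ := h
      have hQ := Transfer.lt_inf_normalizer hR (lt_of_le_of_ne hTR (Ne.symm hne))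
      set Q := R ⊓ normalizer (T : Set G)
      have hQp : IsPGroup p ↥Q := hR.to_le inf_le_left
      refine ⟨?_, Q, hQp, hQ, inf_le_left.trans hRM, inf_le_right⟩
      obtain ⟨L, hL, hNL⟩ := exists_maxLoc (p := p) ⟨T, hTp, hT0, rfl⟩
      rw [noGrow Q hQp hQ M L hM hL (inf_le_left.trans hRM) (inf_le_right.trans hNL)]
      exact hNL
    have main : ∀ M₁ M₂ : Subgroup G, IsMaxLoc p M₁ → IsMaxLoc p M₂ → M₁ ≠ M₂ → T ≤ M₁ → T ≤ M₂ →
        (∀ R : Subgroup G, IsPGroup p R → R ≤ M₂ → T ≤ R → R = T) →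
        ∃ M₁ M₂ : Subgroup G, M₁ ≠ M₂ ∧ (∀ A : Subgroup G, A ≠ ⊥ → A ≤ M₁ ⊓ M₂ → (M₁ ≤ Subgroup.normalizer (A : Set G) → M₂ ⊓ Subgroup.normalizer (A : Set G) = M₁ ⊓ M₂) ∧ (M₂ ≤ Subgroup.normalizer (A : Set G) → M₁ ⊓ Subgroup.normalizer (A : Set G) = M₁ ⊓ M₂)) ∧ Subgroup.centralizer (Cfsg.pCore p ↥M₁ : Set ↥M₁) ≤ Cfsg.pCore p ↥M₁ ∧ Subgroup.centralizer (Cfsg.pCore p ↥M₂ : Set ↥M₂) ≤ Cfsg.pCore p ↥M₂ ∧ (Cfsg.pCore p ↥M₁).map M₁.subtype ⊔ (Cfsg.pCore p ↥M₂).map M₂.subtype ≤ M₁ ⊓ M₂ := by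
      intro M₁ M₂ h1 h2 hne hT1 hT2 hmax
      have hc2 := coreIn_le_of_max hTp hT2 hmax
      by_cases hmax1 : ∀ R : Subgroup G, IsPGroup p R → R ≤ M₁ → T ≤ R → R = T
      · exact pair M₁ M₂ h1 h2 hne ((coreIn_le_of_max hTp hT1 hmax1).trans hT2) (hc2.trans hT1)
      obtain ⟨-, Q, hQp, hTQ, hQ1, hQN⟩ := grow M₁ h1 hT1 hmax1
      obtain ⟨h, hhQ, hhT⟩ := SetLike.exists_of_lt hTQ
      have hh2 : h ∉ M₂ := by
        intro hh
        have hsub : T ⊔ Subgroup.zpowers h ≤ Q := sup_le hTQ.le (Subgroup.zpowers_le.mpr hhQ)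
        have := hmax _ (hQp.to_le hsub) (sup_le hT2 (Subgroup.zpowers_le.mpr hh)) le_sup_left
        exact hhT (this ▸ Subgroup.mem_sup_right (Subgroup.mem_zpowers h))
      set M₃ := M₂.map (MulAut.conj h).toMonoidHom with hM3
      have h3 : IsMaxLoc p M₃ := isMaxLoc_map h2 h
      have hne3 : M₃ ≠ M₂ := fun e => hh2 (normalizer_self h2 e)
      have hTmap : T.map (MulAut.conj h).toMonoidHom = T :=
        Subgroup.mem_normalizer_iff_map_conj_eq.mp (hQN hhQ)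
      have hT3 : T ≤ M₃ := hTmap.ge.trans (Subgroup.map_mono hT2)
      have hmax3 : ∀ R : Subgroup G, IsPGroup p R → R ≤ M₃ → T ≤ R → R = T := by
        intro R hR hR3 hTR
        have hR2 : R.comap (MulAut.conj h).toMonoidHom ≤ M₂ := by
          refine (Subgroup.comap_mono hR3).trans ?_
          rw [hM3, Subgroup.comap_map_eq_self_of_injective (MulAut.conj h).injective]
        have hT' : T ≤ R.comap (MulAut.conj h).toMonoidHom := by
          rw [← Subgroup.map_le_iff_le_comap, hTmap]; exact hTR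
        have hp' : IsPGroup p ↥(R.comap (MulAut.conj h).toMonoidHom) :=
          hR.comap_of_injective _ (MulAut.conj h).injective
        have e := hmax _ hp' hR2 hT'
        rw [← Subgroup.map_comap_eq_self_of_surjective (f := (MulAut.conj h).toMonoidHom) (MulAut.conj h).surjective R]
        exact (congrArg (Subgroup.map _) e).trans hTmap
      exact pair M₃ M₂ h3 h2 hne3 ((coreIn_le_of_max hTp hT3 hmax3).trans hT2) (hc2.trans hT3)
    by_cases hm2 : ∀ R : Subgroup G, IsPGroup p R → R ≤ M₂ → T ≤ R → R = T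
    · exact main M₁ M₂ h1 h2 h12 (hTD.trans inf_le_left) (hTD.trans inf_le_right) hm2
    by_cases hm1 : ∀ R : Subgroup G, IsPGroup p R → R ≤ M₁ → T ≤ R → R = T
    · exact main M₂ M₁ h2 h1 h12.symm (hTD.trans inf_le_right) (hTD.trans inf_le_left) hm1
    exfalso
    obtain ⟨hN1, -⟩ := grow M₁ h1 (hTD.trans inf_le_left) hm1
    obtain ⟨-, Q, hQp, hTQ, hQ2, hQN⟩ := grow M₂ h2 (hTD.trans inf_le_right) hm2
    exact h12 (noGrow Q hQp hTQ M₁ M₂ h1 h2 (hQN.trans hN1) hQ2)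
  · right
    intro M hM hmax
    have hMl : IsMaxLoc p M := ⟨hM, hmax⟩
    obtain ⟨T, hT, hT0, hMT⟩ := hM
    refine ⟨?_, ?_, ?_⟩
    · intro htop
      refine hT0 (le_bot_iff.mp ?_)
      rw [← hOp]
      refine Components.le_pCore ⟨fun x hx g => ?_⟩ hT
      have hg : g ∈ normalizer (T : Set G) := by rw [← hMT, htop]; exact Subgroup.mem_top g
      exact (Subgroup.mem_normalizer_iff.mp hg x).mp hx
    · have hTle : T ≤ M := hMT ▸ le_normalizer
      have hT1 : Nontrivial ↥T := (Subgroup.nontrivial_iff_ne_bot T).mpr hT0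
      obtain ⟨k, hk, hcard⟩ := hT.nontrivial_iff_card.mp hT1
      refine dvd_trans ?_ (Subgroup.card_dvd_of_le hTle)
      rw [hcard]
      exact dvd_pow_self p (by omega)
    · intro g hg hd
      exact hex ⟨M, _, hMl, isMaxLoc_map hMl g, fun e => hg (normalizer_self hMl e.symm), hd⟩

end Cfsg.Agent.S3751
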