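import Cfsg.Statements.S3754
import Cfsg.Agent.Lib.Components.Signalizer
import Cfsg.Agent.Lib.Characters.PSolvableTI
import Cfsg.Agent.Lib.Cores.PCore
import Cfsg.Agent.Lib.Cores.Frattini
import Cfsg.Agent.Lib.PLocal.NoSLTwo

set_option autoImplicit false
open Cfsg

namespace Cfsg.Agent.S3754

open Cfsg.Agent.Lib
open scoped commutatorElement

/-- An element of order prime to `p` of `S ⊔ A`, with `A` a `p`-group normalising `S`, lies in `S`. -/
theorem mem_of_coprime {X : Type*} [Group X] [Finite X] {p : ℕ} [Fact p.Prime] {S A : Subgroup X}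
    (hAS : A ≤ Subgroup.normalizer (S : Set X)) (hA : IsPGroup p A) {g : X} (hg : g ∈ S ⊔ A)
    (hcop : (orderOf g).Coprime p) : g ∈ S := by
  set L := S ⊔ A with hL
  have hSn : (S.subgroupOf L).Normal :=
    Subgroup.normal_subgroupOf_of_le_normalizer (sup_le Subgroup.le_normalizer hAS)
  obtain ⟨s, hs, a, ha, rfl⟩ := Coprime.exists_mul_of_mem_sup (N := S) (H := A) hAS hg
  let π := QuotientGroup.mk' (S.subgroupOf L)
  have he : π ⟨s * a, hg⟩ = π ⟨a, Subgroup.mem_sup_right ha⟩ := by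
    rw [QuotientGroup.mk'_eq_mk']
    refine ⟨⟨a⁻¹ * s⁻¹ * a, ?_⟩, ?_, Subtype.ext ?_⟩
    · exact mul_mem (mul_mem (inv_mem (Subgroup.mem_sup_right ha)) (inv_mem (Subgroup.mem_sup_left hs)))
        (Subgroup.mem_sup_right ha)
    · rw [Subgroup.mem_subgroupOf]
      have := (Subgroup.mem_normalizer_iff.mp (inv_mem (hAS ha)) s⁻¹).mp (inv_mem hs)
      simpa using this
    · simp [mul_assoc]
  have h1 : orderOf (π ⟨s * a, hg⟩) ∣ orderOf (s * a) := by
    refine (orderOf_map_dvd π _).trans ?_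
    rw [Subgroup.orderOf_mk]
  obtain ⟨k, hk⟩ := IsPGroup.iff_orderOf.mp hA ⟨a, ha⟩
  have h2 : orderOf (π ⟨s * a, hg⟩) ∣ p ^ k := by
    rw [he, ← hk, Subgroup.orderOf_mk]
    refine (orderOf_map_dvd π _).trans ?_
    rw [Subgroup.orderOf_mk]
  have h3 : π ⟨s * a, hg⟩ = 1 := orderOf_eq_one_iff.mp
    (Nat.eq_one_of_dvd_coprimes (hcop.pow_right k) h1 h2)
  exact Subgroup.mem_subgroupOf.mp ((QuotientGroup.eq_one_iff _).mp h3)

/-- A `p'`-element of the image has a `p'`-preimage in the same subgroup. -/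
theorem exists_coprime_preimage {X Y : Type*} [Group X] [Finite X] [Group Y] {p : ℕ} [Fact p.Prime]
    (f : X →* Y) {L : Subgroup X} {d : Y} (hd : d ∈ L.map f) (hcop : (orderOf d).Coprime p) :
    ∃ l ∈ L, f l = d ∧ (orderOf l).Coprime p := by
  obtain ⟨l, hl, rfl⟩ := hd
  set P := p ^ (orderOf l).factorization p with hP
  obtain ⟨t, ht⟩ := exists_pow_eq_self_of_coprime (n := P) (x := f l) ((hcop.pow_right _).symm)
  refine ⟨(l ^ P) ^ t, pow_mem (pow_mem hl P) t, by rw [map_pow, map_pow, ht], ?_⟩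
  refine Nat.Coprime.coprime_dvd_left (orderOf_pow_dvd t) ?_
  rw [orderOf_pow' l (pow_ne_zero _ (Fact.out : p.Prime).ne_zero),
    Nat.gcd_eq_right (Nat.ordProj_dvd _ _)]
  exact (Nat.coprime_ordCompl (Fact.out : p.Prime) (orderOf_pos l).ne').symm

set_option maxHeartbeats 800000 in
theorem main {M : Type*} [Group M] [Finite M] {p : ℕ} [Fact p.Prime] (hM : Cfsg.IsPSolvable p M)
    (A : Subgroup M) (hA : IsPGroup p A) (hΦ : (frattini ↥A).map A.subtype ≤ Cfsg.pCore p M)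
    (hnot : ¬ A ≤ Cfsg.pCore p M) :
    ∃ x ∈ (Cfsg.pPrimeCore p (M ⧸ Cfsg.pCore p M)).comap (QuotientGroup.mk' (Cfsg.pCore p M)),
      ∀ L : Subgroup M, L = A ⊔ A.map (MulAut.conj x).toMonoidHom →
        x ∈ (Cfsg.pResidual p ↥L).map L.subtype ∧
        (Cfsg.pResidual p ↥L).map L.subtype ≤
          (Cfsg.pPrimeCore p (M ⧸ Cfsg.pCore p M)).comap (QuotientGroup.mk' (Cfsg.pCore p M)) ∧
        ⁅(Cfsg.pResidual p ↥L).map L.subtype, A⁆ = (Cfsg.pResidual p ↥L).map L.subtype ∧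
        (A ⊓ (Cfsg.pCore p ↥L).map L.subtype).relIndex A = p ∧
        ⁅A ⊓ (Cfsg.pCore p ↥L).map L.subtype, L⁆ ≤ Cfsg.pCore p M := by
  classical
  have hp : p.Prime := Fact.out
  set N := Cfsg.pCore p M with hN
  have hNp : IsPGroup p N := Cores.pCore_isPGroup p M
  set π := QuotientGroup.mk' N with hπ
  set K := Cfsg.pPrimeCore p (M ⧸ N) with hK
  set A' := A.map π with hA'def
  have hker : π.ker = N := QuotientGroup.ker_mk' N
  have hA'p : IsPGroup p A' := hA.map π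
  have hA' : Cfsg.IsElementaryAbelian p A' := by
    haveI := hA.isNilpotent
    refine ⟨⟨⟨?_⟩⟩, ?_⟩
    · rintro ⟨_, a, ha, rfl⟩ ⟨_, b, hb, rfl⟩
      apply Subtype.ext
      show π a * π b = π b * π a
      rw [← commutatorElement_eq_one_iff_mul_comm, ← map_commutatorElement, ← MonoidHom.mem_ker, hker]
      exact hΦ ⟨⁅(⟨a, ha⟩ : A), ⟨b, hb⟩⁆, Cores.commutator_le_frattini
        (Subgroup.commutator_mem_commutator (Subgroup.mem_top _) (Subgroup.mem_top _)), rfl⟩
    · rintro _ ⟨a, ha, rfl⟩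
      rw [← map_pow, ← MonoidHom.mem_ker, hker]
      exact hΦ ⟨(⟨a, ha⟩ : A) ^ p, Cores.pow_mem_frattini hA _, rfl⟩
  have hKcop : (Nat.card K).Coprime p := Cores.pPrimeCore_coprime p _
  have hKp : ¬ p ∣ Nat.card K := fun h => hp.ne_one (Nat.eq_one_of_dvd_coprimes hKcop h dvd_rfl)
  haveI hKn : K.Normal := (Cores.pPrimeCore_mem p (M ⧸ N)).1
  have hA'K : A' ≤ Subgroup.normalizer (K : Set (M ⧸ N)) := Subgroup.le_normalizer_of_normal
  have hone : ∀ {y : M ⧸ N} {k : ℕ}, y ∈ K → orderOf y ∣ p ^ k → y = 1 := fun {y k} hy hyk =>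
    orderOf_eq_one_iff.mp (Nat.eq_one_of_dvd_coprimes (hKcop.pow_right k)
      (Subgroup.orderOf_dvd_natCard K hy) hyk)
  have hnc : ¬ A' ≤ Subgroup.centralizer (K : Set (M ⧸ N)) := by
    intro h
    apply hnot
    have h1 : A' ≤ K := h.trans (Characters.centralizer_pPrimeCore_le_of_pCore_eq_bot p
      (PLocal.isPSolvable_quotient N hM) (Cores.pCore_quotient_pCore p M))
    intro a ha
    obtain ⟨k, hk⟩ := IsPGroup.iff_orderOf.mp hA'p ⟨π a, ⟨a, ha, rfl⟩⟩
    rw [← hker, MonoidHom.mem_ker]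
    exact hone (h1 ⟨a, ha, rfl⟩) (dvd_of_eq (show orderOf (π a) = p ^ k from (Subgroup.orderOf_coe (⟨π a, ⟨a, ha, rfl⟩⟩ : A')).trans hk))
  -- a hyperplane with larger centraliser
  obtain ⟨B, hBA, hBle, hBnc⟩ : ∃ B ≤ A', B.relIndex A' ≤ p ∧
      ¬ K ⊓ Subgroup.centralizer (B : Set (M ⧸ N)) ≤ Subgroup.centralizer (A' : Set (M ⧸ N)) := by
    by_contra hno
    push Not at hno
    apply hnc
    rw [Subgroup.le_centralizer_iff, Components.eq_iSup_hyperplane hA' hKp hA'K]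
    exact iSup_le fun B => hno B.1 B.2.1 B.2.2
  have hBidx : B.relIndex A' = p := by
    obtain ⟨n, hn⟩ := IsPGroup.iff_card.mp hA'p
    obtain ⟨j, -, hj⟩ := (Nat.dvd_prime_pow hp).mp
      (hn ▸ ((B.subgroupOf A').index_dvd_card) : B.relIndex A' ∣ p ^ n)
    rcases j with _ | _ | j
    · refine absurd ?_ hBnc
      have hAB : A' ≤ B := Subgroup.relIndex_eq_one.mp (by simpa using hj)
      rw [le_antisymm hBA hAB]
      exact inf_le_right
    · simpa using hj
    · have h2 : p ^ 2 ≤ p := le_trans (Nat.pow_le_pow_right hp.pos (by omega)) (hj ▸ hBle)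
      have := hp.two_le
      nlinarith
  have hBcomm : ∀ b ∈ B, ∀ a ∈ A', a * b = b * a := fun b hb a ha =>
    congrArg Subtype.val (hA'.1.is_comm.comm ⟨a, ha⟩ ⟨b, hBA hb⟩)
  -- a minimal invariant subgroup on which `A'` acts nontrivially
  obtain ⟨D, hD⟩ := Set.Finite.exists_minimal
    (Set.toFinite {D : Subgroup (M ⧸ N) | D ≤ K ⊓ Subgroup.centralizer (B : Set (M ⧸ N)) ∧
      A' ≤ Subgroup.normalizer (D : Set (M ⧸ N)) ∧ ¬ D ≤ Subgroup.centralizer (A' : Set (M ⧸ N))})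
    ⟨_, le_rfl, (by
      intro a ha
      rw [Subgroup.mem_normalizer_iff]
      intro y
      have hab : ∀ b ∈ B, Commute b a := fun b hb => (hBcomm b hb a ha).symm
      rw [Subgroup.mem_inf, Subgroup.mem_inf, Subgroup.mem_centralizer_iff, Subgroup.mem_centralizer_iff]
      refine and_congr ((Subgroup.mem_normalizer_iff.mp (hA'K ha)) y) ⟨fun h b hb => ?_, fun h b hb => ?_⟩
      · exact (((hab b hb).mul_right (show Commute b y from h b hb)).mul_right (hab b hb).inv_right).eq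
      · have := ((hab b hb).inv_right.mul_right (show Commute b _ from h b hb)).mul_right (hab b hb)
        have e : a⁻¹ * (a * y * a⁻¹) * a = y := by group
        rw [e] at this
        exact this.eq), hBnc⟩
  obtain ⟨⟨hDK, hAD, hDnc⟩, hDmin⟩ := hD
  obtain ⟨x₀, hx₀D, hx₀⟩ := SetLike.not_le_iff_exists.mp hDnc
  have hx₀K : x₀ ∈ K := (hDK hx₀D).1
  have hx₀B : ∀ b ∈ B, b * x₀ = x₀ * b := Subgroup.mem_centralizer_iff.mp (hDK hx₀D).2
  set L' := A' ⊔ A'.map (MulAut.conj x₀).toMonoidHom with hL'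
  have hDL : D ≤ L' := by
    have hE : ∀ a ∈ A', x₀ * a * x₀⁻¹ * a⁻¹ ∈ L' ⊓ D := by
      intro a ha
      refine ⟨L'.mul_mem (Subgroup.mem_sup_right ⟨a, ha, rfl⟩) (L'.inv_mem (Subgroup.mem_sup_left ha)), ?_⟩
      have h1 := (Subgroup.mem_normalizer_iff.mp (hAD ha) x₀⁻¹).mp (inv_mem hx₀D)
      have h2 := mul_mem hx₀D h1
      simpa [mul_assoc] using h2
    by_contra hne
    have hEC : L' ⊓ D ≤ Subgroup.centralizer (A' : Set (M ⧸ N)) := by
      by_contra hnc'
      have hmem : L' ⊓ D ∈ {D : Subgroup (M ⧸ N) | D ≤ K ⊓ Subgroup.centralizer (B : Set (M ⧸ N)) ∧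
          A' ≤ Subgroup.normalizer (D : Set (M ⧸ N)) ∧ ¬ D ≤ Subgroup.centralizer (A' : Set (M ⧸ N))} := by
        refine ⟨inf_le_right.trans hDK, fun a ha => ?_, hnc'⟩
        rw [Subgroup.mem_normalizer_iff]
        intro y
        have haL : a ∈ L' := Subgroup.mem_sup_left ha
        rw [Subgroup.mem_inf, Subgroup.mem_inf]
        exact and_congr ((Subgroup.mem_normalizer_iff.mp (Subgroup.le_normalizer haL)) y)
          ((Subgroup.mem_normalizer_iff.mp (hAD ha)) y)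
      exact hne ((hDmin hmem inf_le_right).trans inf_le_left)
    apply hx₀
    rw [Subgroup.mem_centralizer_iff]
    intro a ha
    set c := x₀ * a * x₀⁻¹ * a⁻¹ with hc
    have hca : Commute c a := (Subgroup.mem_centralizer_iff.mp (hEC (hE a ha)) a ha).symm
    have hcp : c ^ p = 1 := by
      have h1 : (c * a) ^ p = 1 := by
        rw [show c * a = x₀ * a * x₀⁻¹ by rw [hc]; group, conj_pow, hA'.2 a ha, mul_one, mul_inv_cancel]
      rwa [hca.mul_pow, hA'.2 a ha, mul_one] at h1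
    have hc1 : c = 1 := hone (k := 1) (hDK (hE a ha).2).1
      (by rw [pow_one]; exact orderOf_dvd_of_pow_eq_one hcp)
    rw [hc, mul_inv_eq_one, mul_inv_eq_iff_eq_mul] at hc1
    exact hc1.symm
  have hL'eq : L' = D ⊔ A' := by
    refine le_antisymm (sup_le le_sup_right ?_) (sup_le hDL le_sup_left)
    rintro _ ⟨a, ha, rfl⟩
    show x₀ * a * x₀⁻¹ ∈ D ⊔ A'
    exact mul_mem (mul_mem (Subgroup.mem_sup_left hx₀D) (Subgroup.mem_sup_right ha))
      (inv_mem (Subgroup.mem_sup_left hx₀D))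
  -- choose the lift
  let Lx : M → Subgroup M := fun x => A ⊔ A.map (MulAut.conj x).toMonoidHom
  have hLmap : ∀ x, π x = x₀ → (Lx x).map π = L' := by
    intro x hx
    rw [Subgroup.map_sup, Subgroup.map_map, hL', hA'def, Subgroup.map_map]
    congr 2
    ext y
    simp [← hx]
  obtain ⟨x, hx, hxR⟩ : ∃ x, π x = x₀ ∧ x ∈ (Cfsg.pResidual p ↥(Lx x)).map (Lx x).subtype := by
    obtain ⟨x, hx, hmin⟩ := Set.Finite.exists_minimalFor (fun x => Nat.card (Lx x)) {x : M | π x = x₀}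
      (Set.toFinite _) (QuotientGroup.mk'_surjective N x₀)
    obtain ⟨l, hl, hle, hlc⟩ := exists_coprime_preimage π (L := Lx x) (d := x₀)
      (by rw [hLmap x hx]; exact hDL hx₀D)
      (hKcop.coprime_dvd_left (Subgroup.orderOf_dvd_natCard K hx₀K))
    have hsub : Lx l ≤ Lx x := by
      refine sup_le le_sup_left ?_
      rintro _ ⟨a, ha, rfl⟩
      exact mul_mem (mul_mem hl (Subgroup.mem_sup_left ha)) (inv_mem hl)
    have heq : Lx l = Lx x := Subgroup.eq_of_le_of_card_ge hsub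
      (hmin (show l ∈ {x : M | π x = x₀} from hle) (Subgroup.card_le_of_le hsub))
    refine ⟨l, hle, ?_⟩
    rw [heq]
    exact ⟨⟨l, hl⟩, Subgroup.subset_closure (by
      show (orderOf (⟨l, hl⟩ : Lx x)).Coprime p
      rwa [Subgroup.orderOf_mk]), rfl⟩
  refine ⟨x, by rw [Subgroup.mem_comap, hx]; exact hx₀K, fun L hLdef => ?_⟩
  replace hLdef : L = Lx x := hLdef
  subst hLdef
  set L := Lx x with hL
  have hAL : A ≤ L := le_sup_left
  have hLπ : L.map π = D ⊔ A' := (hLmap x hx).trans hL'eq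
  set R := (Cfsg.pResidual p ↥L).map L.subtype with hR
  have hRL : R ≤ L := Subgroup.map_subtype_le _
  have hLR : L ≤ Subgroup.normalizer (R : Set M) := by
    intro l hl
    haveI : (Cfsg.pResidual p ↥L).Normal := inferInstance
    exact Subgroup.le_normalizer_map L.subtype
      ⟨⟨l, hl⟩, by rw [Subgroup.normalizer_eq_top]; exact Subgroup.mem_top _, rfl⟩
  have hRK : R ≤ K.comap π := by
    rw [hR, Subgroup.map_le_iff_le_comap, Cfsg.pResidual, Subgroup.closure_le]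
    intro g hg
    show π (g : M) ∈ K
    refine (hDK (mem_of_coprime hAD hA'p ?_ ?_)).1
    · rw [← hLπ]; exact ⟨g, g.2, rfl⟩
    · refine Nat.Coprime.coprime_dvd_left (orderOf_map_dvd π _) ?_
      rwa [Subgroup.orderOf_coe]
  refine ⟨hxR, hRK, ?_, ?_⟩
  · refine le_antisymm (Subgroup.le_normalizer_iff_commutator_le_left.mp (hAL.trans hLR)) ?_
    set S := ⁅R, A⁆ with hS
    have hAS : A ≤ Subgroup.normalizer (S : Set M) := Subgroup.normalizer_commutator_ge_right R A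
    have hLS : L ≤ S ⊔ A := by
      refine sup_le le_sup_right ?_
      rintro _ ⟨a, ha, rfl⟩
      have h1 : x * a * x⁻¹ * a⁻¹ ∈ S := Subgroup.commutator_mem_commutator hxR ha
      have h2 := mul_mem (Subgroup.mem_sup_left (T := A) h1) (Subgroup.mem_sup_right (S := S) ha)
      simpa using h2
    rw [hR, Subgroup.map_le_iff_le_comap, Cfsg.pResidual, Subgroup.closure_le]
    intro g hg
    refine mem_of_coprime hAS hA (hLS g.2) ?_
    show (orderOf (g : M)).Coprime p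
    rwa [Subgroup.orderOf_coe]
  set U := (Cfsg.pCore p ↥L).map L.subtype with hU
  have hBcent : ∀ b ∈ B, ∀ y ∈ D ⊔ A', y * b = b * y := by
    intro b hb y hy
    have hle : D ⊔ A' ≤ Subgroup.centralizer ({b} : Set (M ⧸ N)) := by
      refine sup_le (fun d hd => ?_) (fun a ha => ?_)
      · rw [Subgroup.mem_centralizer_singleton_iff]
        exact (Subgroup.mem_centralizer_iff.mp (hDK hd).2 b hb).symm
      · rw [Subgroup.mem_centralizer_singleton_iff]
        exact hBcomm b hb a ha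
    exact Subgroup.mem_centralizer_singleton_iff.mp (hle hy)
  have hAU : A ⊓ U = A ⊓ B.comap π := by
    refine le_antisymm (le_inf inf_le_left ?_) (le_inf inf_le_left ?_)
    · rintro u ⟨hu, hu'⟩
      rw [Subgroup.mem_comap]
      by_contra hnb
      apply hx₀
      -- `x₀` centralises `π u`
      have hUp : IsPGroup p U := (Cores.pCore_isPGroup p ↥L).map _
      have hnU : ∀ l ∈ L, ∀ v ∈ U, l * v * l⁻¹ ∈ U := by
        intro l hl v hv
        haveI : (Cfsg.pCore p ↥L).Normal := inferInstance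
        obtain ⟨v, hv, rfl⟩ := hv
        exact ⟨⟨l, hl⟩ * v * ⟨l, hl⟩⁻¹, (inferInstance : (Cfsg.pCore p ↥L).Normal).conj_mem v hv _, rfl⟩
      have hxL : x ∈ L := hRL hxR
      have hc : x * u * x⁻¹ * u⁻¹ ∈ U := mul_mem (hnU x hxL u hu') (inv_mem hu')
      obtain ⟨k, hk⟩ := IsPGroup.iff_orderOf.mp hUp ⟨_, hc⟩
      have hπc : π (x * u * x⁻¹ * u⁻¹) = x₀ * π u * x₀⁻¹ * (π u)⁻¹ := by simp [hx]
      have hd1 : orderOf (π (x * u * x⁻¹ * u⁻¹)) ∣ p ^ k := by
        refine (orderOf_map_dvd π _).trans ?_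
        rw [← hk, Subgroup.orderOf_mk]
      have h1 : x₀ * π u * x₀⁻¹ * (π u)⁻¹ = 1 := by
        rw [← hπc]
        refine hone ?_ hd1
        rw [hπc, mul_assoc, mul_assoc]
        exact mul_mem hx₀K (by simpa [mul_assoc] using hKn.conj_mem _ (inv_mem hx₀K) (π u))
      rw [mul_inv_eq_one, mul_inv_eq_iff_eq_mul] at h1
      set C := A' ⊓ Subgroup.centralizer ({x₀} : Set (M ⧸ N)) with hC
      have hBC : B ≤ C := le_inf hBA fun b hb => Subgroup.mem_centralizer_singleton_iff.mpr (hx₀B b hb)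
      have huC : π u ∈ C := ⟨⟨u, hu, rfl⟩, Subgroup.mem_centralizer_singleton_iff.mpr h1.symm⟩
      have hCA : C.relIndex A' = 1 := by
        have h := Subgroup.relIndex_mul_relIndex B C A' hBC inf_le_left
        rw [hBidx] at h
        rcases hp.eq_one_or_self_of_dvd (B.relIndex C) ⟨_, h.symm⟩ with h' | h'
        · exact absurd (Subgroup.relIndex_eq_one.mp h' huC) hnb
        · rw [h'] at h
          exact Nat.eq_of_mul_eq_mul_left hp.pos (h.trans (mul_one p).symm)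
      rw [Subgroup.mem_centralizer_iff]
      intro a ha
      exact Subgroup.mem_centralizer_singleton_iff.mp (Subgroup.relIndex_eq_one.mp hCA ha).2
    · intro u hu
      set W := L ⊓ B.comap π with hW
      have hWp : IsPGroup p W :=
        (((hA'p.to_le hBA).comap_of_ker_isPGroup π (hker.symm ▸ hNp))).to_le inf_le_right
      have hWn : (W.subgroupOf L).Normal := by
        refine ⟨fun w hw g => ?_⟩
        rw [Subgroup.mem_subgroupOf] at hw ⊢
        refine ⟨(g * w * g⁻¹).2, ?_⟩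
        show π ((g : M) * w * (g : M)⁻¹) ∈ B
        have hb : π (w : M) ∈ B := hw.2
        rw [map_mul, map_mul, map_inv, hBcent _ hb (π g) (hLπ ▸ ⟨g, g.2, rfl⟩), mul_inv_cancel_right]
        exact hb
      have huW : u ∈ W := ⟨hAL hu.1, hu.2⟩
      exact ⟨⟨u, hAL hu.1⟩, Cores.le_pCore hWn (hWp.comap_of_injective _ L.subtype_injective) huW, rfl⟩
  refine ⟨?_, ?_⟩
  · rw [hAU, Subgroup.inf_relIndex_left, Subgroup.relIndex_comap]
    exact hBidx
  · rw [hAU, Subgroup.commutator_le]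
    intro u hu l hl
    show ⁅u, l⁆ ∈ N
    rw [← hker, MonoidHom.mem_ker, map_commutatorElement, commutatorElement_eq_one_iff_mul_comm]
    exact (hBcent (π u) hu.2 (π l) (hLπ ▸ ⟨l, hl, rfl⟩)).symm


/-- Let M be a finite p-soluble group and A a p-subgroup of M with Φ(A) ≤ O_p(M) but A ≰ O_p(M). Then there is x ∈ O_{p,p'}(M) such that L = ⟨A, xAx⁻¹⟩ satisfies: x ∈ O^p(L) and O^p(L) ≤ O_{p,p'}(M); [O^p(L), A] = O^p(L); A ∩ O_p(L) has index p in A; and [A ∩ O_p(L), L] ≤ O_p(M). Here O^p(L) is the subgroup generated by the p'-elements of L and O_{p,p'}(M) the preimage of O_{p'}(M/O_p(M)). -/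
theorem result {M : Type*} [Group M] [Finite M] {p : ℕ} [Fact p.Prime] (hM : Cfsg.IsPSolvable p M) (A : Subgroup M) (hA : IsPGroup p A) (hΦ : (frattini ↥A).map A.subtype ≤ Cfsg.pCore p M) (hnot : ¬ A ≤ Cfsg.pCore p M) : ∃ x ∈ (Cfsg.pPrimeCore p (M ⧸ Cfsg.pCore p M)).comap (QuotientGroup.mk' (Cfsg.pCore p M)), x ∈ (Cfsg.pResidual p ↥(A ⊔ A.map (MulAut.conj x).toMonoidHom)).map (A ⊔ A.map (MulAut.conj x).toMonoidHom).subtype ∧ (Cfsg.pResidual p ↥(A ⊔ A.map (MulAut.conj x).toMonoidHom)).map (A ⊔ A.map (MulAut.conj x).toMonoidHom).subtype ≤ (Cfsg.pPrimeCore p (M ⧸ Cfsg.pCore p M)).comap (QuotientGroup.mk' (Cfsg.pCore p M)) ∧ ⁅(Cfsg.pResidual p ↥(A ⊔ A.map (MulAut.conj x).toMonoidHom)).map (A ⊔ A.map (MulAut.conj x).toMonoidHom).subtype, A⁆ = (Cfsg.pResidual p ↥(A ⊔ A.map (MulAut.conj x).toMonoidHom)).map (A ⊔ A.map (MulAut.conj x).toMonoidHom).subtype ∧ (A ⊓ (Cfsg.pCore p ↥(A ⊔ A.map (MulAut.conj x).toMonoidHom)).map (A ⊔ A.map (MulAut.conj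 x).toMonoidHom).subtype).relIndex A = p ∧ ⁅A ⊓ (Cfsg.pCore p ↥(A ⊔ A.map (MulAut.conj x).toMonoidHom)).map (A ⊔ A.map (MulAut.conj x).toMonoidHom).subtype, A ⊔ A.map (MulAut.conj x).toMonoidHom⁆ ≤ Cfsg.pCore p M := by
  obtain ⟨x, hx, h⟩ := main hM A hA hΦ hnot
  exact ⟨x, hx, h _ rfl⟩

end Cfsg.Agent.S3754
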