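import Cfsg.Statements.S3755
import Cfsg.Agent.Lib.FusionControl.CoprimeOffender

set_option autoImplicit false
open Cfsg
open scoped Pointwise

namespace Cfsg.Agent.S3755

open Cfsg.Agent.Lib
open Cfsg.Agent.Lib.FusionControl.CoprimeOffender

/-- A permutation fixing one of at most four points has sixth power trivial. -/
theorem perm_pow_six {S : Type*} [Finite S] (σ : Equiv.Perm S) (o : S) (ho : σ o = o)
    (hcard : Nat.card S ≤ 4) : σ ^ 6 = 1 := by
  classical
  have h : ∀ x, σ x ≠ o ↔ x ≠ o :=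
    fun x => not_congr ⟨fun hx => σ.injective (hx.trans ho.symm), fun hx => hx.symm ▸ ho⟩
  let τ : Equiv.Perm {x // x ≠ o} := σ.subtypePerm h
  have hdvd : Nat.card (Equiv.Perm {x // x ≠ o}) ∣ 6 := by
    rw [Nat.card_perm]
    have hc : Nat.card {x // x ≠ o} ≤ 3 := by
      have := Finite.card_option (α := {x // x ≠ o})
      rw [Nat.card_congr (Equiv.optionSubtypeNe o)] at this
      omega
    exact (Nat.factorial_dvd_factorial hc).trans (by decide)
  have hτ : τ ^ 6 = 1 := orderOf_dvd_iff_pow_eq_one.mp ((orderOf_dvd_natCard τ).trans hdvd)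
  ext x
  rw [Equiv.Perm.one_apply]
  by_cases hx : x = o
  · subst hx
    have hfix : ∀ i : ℕ, (σ ^ i) x = x := by
      intro i
      induction i with
      | zero => rfl
      | succ i ih => rw [pow_succ', Equiv.Perm.mul_apply, ih, ho]
    exact hfix 6
  · have := congrArg (fun f : Equiv.Perm {x // x ≠ o} => ((f ⟨x, hx⟩ : {x // x ≠ o}) : S)) hτ
    simpa [τ, Equiv.Perm.subtypePerm_pow] using this

/-- An element of odd order normalising an elementary abelian `W` and fixing a subgroup of index at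
most four has cube centralising `W`. -/
theorem cube_centralizes {X : Type*} [Group X] [Finite X] {W W₁ : Subgroup X} {c : X}
    (hW : Cfsg.IsElementaryAbelian 2 W) (hodd : Odd (orderOf c))
    (hnorm : ∀ w ∈ W, c * w * c⁻¹ ∈ W) (hW₁ : W₁ ≤ W) (hfix : ∀ w ∈ W₁, c * w * c⁻¹ = w)
    (hidx : W₁.relIndex W ≤ 4) : ∀ w ∈ W, c ^ 3 * w = w * c ^ 3 := by
  classical
  have hnormp : ∀ i : ℕ, ∀ w ∈ W, c ^ i * w * (c ^ i)⁻¹ ∈ W := by
    intro i
    induction i with
    | zero => intro w hw; simpa using hw
    | succ i ih =>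
      intro w hw
      have : c ^ (i + 1) * w * (c ^ (i + 1))⁻¹ = c * (c ^ i * w * (c ^ i)⁻¹) * c⁻¹ := by
        rw [pow_succ']; group
      rw [this]
      exact hnorm _ (ih w hw)
  have hfixp : ∀ i : ℕ, ∀ w ∈ W₁, c ^ i * w * (c ^ i)⁻¹ = w := by
    intro i
    induction i with
    | zero => intro w hw; simp
    | succ i ih =>
      intro w hw
      have : c ^ (i + 1) * w * (c ^ (i + 1))⁻¹ = c * (c ^ i * w * (c ^ i)⁻¹) * c⁻¹ := by
        rw [pow_succ']; group
      rw [this, ih w hw, hfix w hw]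
  -- the permutation of the cosets
  let f : ↥W →* ↥W :=
    { toFun := fun w => ⟨c * w * c⁻¹, hnorm w w.2⟩
      map_one' := Subtype.ext (by simp)
      map_mul' := fun u v => Subtype.ext (by simp [mul_assoc]) }
  haveI : (W₁.subgroupOf W).Normal :=
    ⟨fun n hn g => by
      have : g * n * g⁻¹ = n := by
        rw [mul_inv_eq_iff_eq_mul]
        exact hW.1.is_comm.comm g n
      rw [this]; exact hn⟩
  let F : (↥W ⧸ W₁.subgroupOf W) →* (↥W ⧸ W₁.subgroupOf W) :=
    QuotientGroup.map _ _ f (fun x hx => by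
      have : f x = x := Subtype.ext (hfix x (Subgroup.mem_subgroupOf.mp hx))
      rw [Subgroup.mem_comap, this]; exact hx)
  have hinj : Function.Injective F := by
    rw [injective_iff_map_eq_one]
    intro q
    induction q using QuotientGroup.induction_on with
    | H x =>
      intro h
      have h' : f x ∈ W₁.subgroupOf W := (QuotientGroup.eq_one_iff _).mp h
      have h2 := hfix _ (Subgroup.mem_subgroupOf.mp h')
      have h3 : (f x : X) = (x : X) := by
        have h2' : c * (c * (x : X) * c⁻¹) * c⁻¹ = c * (x : X) * c⁻¹ := h2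
        exact mul_left_cancel (mul_right_cancel h2')
      exact (QuotientGroup.eq_one_iff _).mpr (by rw [← Subtype.ext h3]; exact h')
  let σ : Equiv.Perm (↥W ⧸ W₁.subgroupOf W) :=
    Equiv.ofBijective F ⟨hinj, Finite.surjective_of_injective hinj⟩
  have hσ6 := perm_pow_six σ 1 (map_one F) hidx
  have hpow : ∀ i : ℕ, ∀ w : ↥W, (σ ^ i) (w : ↥W ⧸ W₁.subgroupOf W) =
      ((⟨c ^ i * w * (c ^ i)⁻¹, hnormp i w w.2⟩ : ↥W) : ↥W ⧸ W₁.subgroupOf W) := by
    intro i
    induction i with
    | zero => intro w; simp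
    | succ i ih =>
      intro w
      rw [pow_succ', Equiv.Perm.mul_apply, ih]
      have hσ : ∀ q, σ q = F q := fun q => rfl
      rw [hσ, QuotientGroup.map_mk]
      congr 1
      apply Subtype.ext
      show c * (c ^ i * (w : X) * (c ^ i)⁻¹) * c⁻¹ = c ^ (i + 1) * (w : X) * (c ^ (i + 1))⁻¹
      rw [pow_succ']; group
  intro w hw
  set d := c ^ 6 with hd
  obtain ⟨z, hz, hdw⟩ : ∃ z ∈ W₁, d * w * d⁻¹ = w * z := by
    have h := hpow 6 ⟨w, hw⟩
    rw [hσ6, Equiv.Perm.one_apply, QuotientGroup.eq, Subgroup.mem_subgroupOf] at h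
    exact ⟨_, h, by simp [hd]⟩
  have hdz : d * z * d⁻¹ = z := hfixp 6 z hz
  have hi : ∀ i : ℕ, d ^ i * w * (d ^ i)⁻¹ = w * z ^ i := by
    intro i
    induction i with
    | zero => simp
    | succ i ih =>
      have e1 : d ^ (i + 1) * w * (d ^ (i + 1))⁻¹ = d * (d ^ i * w * (d ^ i)⁻¹) * d⁻¹ := by
        rw [pow_succ']; group
      rw [e1, ih, show d * (w * z ^ i) * d⁻¹ = (d * w * d⁻¹) * (d * z * d⁻¹) ^ i by
        rw [conj_pow]; group, hdw, hdz, pow_succ']
      group
  have hz1 : z = 1 := by
    have h := hi (orderOf c)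
    rw [hd, ← pow_mul, mul_comm, pow_mul, pow_orderOf_eq_one, one_pow] at h
    simp only [one_mul, inv_one, mul_one] at h
    have hzn : z ^ orderOf c = 1 := by
      have := h.symm
      exact mul_left_cancel (this.trans (mul_one w).symm)
    obtain ⟨m, hm⟩ := hodd
    rw [hm, pow_succ, pow_mul, hW.2 z (hW₁ hz), one_pow, one_mul] at hzn
    exact hzn
  rw [hz1, mul_one, mul_inv_eq_iff_eq_mul] at hdw
  obtain ⟨m, hm⟩ := hodd
  have h3 : d ^ (m + 1) = c ^ 3 := by
    rw [hd, ← pow_mul, show 6 * (m + 1) = orderOf c * 3 + 3 by omega, pow_add, pow_mul,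
      pow_orderOf_eq_one, one_pow, one_mul]
  rw [← h3]
  exact (Commute.pow_left hdw (m + 1)).eq

/-- A subgroup generated by an element of order three and an involution inverting it. -/
theorem exists_sym_three {Y : Type*} [Group Y] [Finite Y] {a c : Y} (hc : orderOf c = 3)
    (ha : orderOf a = 2) (hinv : a * c * a⁻¹ = c⁻¹) : Cfsg.Involves (Equiv.Perm (Fin 3)) Y := by
  classical
  set C := Subgroup.zpowers c with hC
  set T := Subgroup.zpowers a with hT
  have hTC : T ≤ Subgroup.normalizer (C : Set Y) := by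
    rw [hT, Subgroup.zpowers_le]
    have hmap : C.map (MulAut.conj a).toMonoidHom = C := by
      rw [hC, MonoidHom.map_zpowers]
      show Subgroup.zpowers (MulAut.conj a c) = _
      rw [MulAut.conj_apply, hinv, Subgroup.zpowers_inv]
    rw [Subgroup.mem_normalizer_iff]
    intro n
    constructor
    · intro hn
      rw [← hmap]
      exact ⟨n, hn, rfl⟩
    · intro hn
      rw [← hmap] at hn
      obtain ⟨m, hm, hme⟩ := hn
      simp only [MulEquiv.coe_toMonoidHom, MulAut.conj_apply] at hme
      have : m = n := mul_left_cancel (mul_right_cancel hme)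
      exact this ▸ hm
  set D := C ⊔ T with hD
  have hinf : C ⊓ T = ⊥ := by
    apply Subgroup.inf_eq_bot_of_coprime
    rw [hC, hT, Nat.card_zpowers, Nat.card_zpowers, hc, ha]
    decide
  have hcard : Nat.card D = 6 := by
    have h := Subgroup.coe_mul_of_right_le_normalizer_left C T hTC
    have hinj : Function.Injective (fun x : C × T => (x.1 : Y) * x.2) :=
      Subgroup.mul_injective_of_disjoint (disjoint_iff.mpr hinf)
    have hset : Nat.card ↥((C : Set Y) * (T : Set Y)) = Nat.card (C × T) := by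
      rw [← Nat.card_range_of_injective hinj]
      congr 1
      refine congrArg (fun s : Set Y => ↥s) ?_
      ext y
      simp [Set.mem_mul]
    rw [← h, Nat.card_prod, hC, hT, Nat.card_zpowers, Nat.card_zpowers, hc, ha] at hset
    exact hset
  let TD : Subgroup D := T.subgroupOf D
  have hTD : Nat.card TD = 2 := by
    rw [Nat.card_congr (Subgroup.subgroupOfEquivOfLe le_sup_right).toEquiv, hT, Nat.card_zpowers, ha]
  have hidx : Nat.card (↥D ⧸ TD) = 3 := by
    have := TD.card_mul_index
    rw [hTD, hcard] at this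
    show TD.index = 3
    omega
  let φ : D →* Equiv.Perm (↥D ⧸ TD) := MulAction.toPermHom D (↥D ⧸ TD)
  have hker : Function.Injective φ := by
    rw [← MonoidHom.ker_eq_bot_iff, show φ.ker = TD.normalCore from (Subgroup.normalCore_eq_ker TD).symm]
    by_contra hne
    obtain ⟨x, hx, hx1⟩ := (Subgroup.bot_or_exists_ne_one _).resolve_left hne
    have hxT : x ∈ TD := TD.normalCore_le hx
    have hxa : (x : Y) = a := by
      obtain ⟨i, hi⟩ := Subgroup.mem_zpowers_iff.mp (Subgroup.mem_subgroupOf.mp hxT)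
      rcases Int.even_or_odd i with ⟨j, rfl⟩ | ⟨j, rfl⟩
      · refine absurd (Subtype.ext ?_) hx1
        rw [Subgroup.coe_one, ← hi, ← two_mul, zpow_mul, zpow_two, ← pow_two, ← ha, pow_orderOf_eq_one,
          one_zpow]
      · rw [← hi, zpow_add, zpow_mul, zpow_two, ← pow_two, ← ha, pow_orderOf_eq_one, one_zpow,
          one_mul, zpow_one]
    let cD : D := ⟨c, Subgroup.mem_sup_left (Subgroup.mem_zpowers c)⟩
    have hy := TD.normalCore_le (TD.normalCore_normal.conj_mem x hx cD)
    have hy' : c * a * c⁻¹ ∈ T := by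
      have := Subgroup.mem_subgroupOf.mp hy
      simpa [cD, hxa] using this
    have hcT : c * a * c⁻¹ * a⁻¹ ∈ T := T.mul_mem hy' (T.inv_mem (Subgroup.mem_zpowers a))
    have heq : c * a * c⁻¹ * a⁻¹ = c ^ 2 := by
      calc c * a * c⁻¹ * a⁻¹ = c * (a * c * a⁻¹)⁻¹ := by group
        _ = c ^ 2 := by rw [hinv, inv_inv, pow_two]
    have h2 : c ^ 2 = 1 := by
      have hmem : c ^ 2 ∈ C ⊓ T := ⟨C.pow_mem (Subgroup.mem_zpowers c) 2, heq ▸ hcT⟩
      rwa [hinf, Subgroup.mem_bot] at hmem
    have := orderOf_dvd_of_pow_eq_one h2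
    rw [hc] at this
    omega
  haveI : Finite (↥D ⧸ TD) := inferInstance
  have hbij : Function.Bijective φ := by
    rw [Nat.bijective_iff_injective_and_card]
    refine ⟨hker, ?_⟩
    rw [hcard, Nat.card_perm, hidx]
    rfl
  refine ⟨D, ⊥, by rw [Subgroup.bot_subgroupOf]; infer_instance, ⟨?_⟩⟩
  exact (QuotientGroup.quotientMulEquivOfEq (Subgroup.bot_subgroupOf D)).trans
    ((QuotientGroup.quotientBot.trans (MulEquiv.ofBijective φ hbij)).trans
      ((Finite.equivFinOfCardEq hidx).permCongrHom))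

theorem involves_of_small {X : Type*} [Group X] [Finite X] {M V : Subgroup X} (hc : Ctx 2 V M) :
    ¬ Cfsg.Involves (Equiv.Perm (Fin 3)) ↥M → ∀ {A : Subgroup X}, A ≤ M → Cfsg.IsElementaryAbelian 2 A →
      Nat.card A ^ 2 * Nat.card ↥(V ⊓ Subgroup.centralizer (A : Set X)) ≤ Nat.card V := by
  intro hinv A
  induction hn : Nat.card A using Nat.strongRecOn generalizing A with
  | ind n ih =>
    intro hAM hA
    rcases eq_or_ne A ⊥ with rfl | hne
    · rw [← hn, Subgroup.card_bot, one_pow, one_mul]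
      exact Subgroup.card_le_of_le inf_le_left
    set K : Subgroup X := (Cfsg.pPrimeCore 2 ↥M).map M.subtype with hK
    obtain ⟨B, hB⟩ : ∃ B, GoodIn 2 V K A B := by
      by_contra hno
      push Not at hno
      exact hne ((Subgroup.eq_bot_iff_forall A).mpr fun x hx =>
        hc.inf_goodIn hAM hA hx fun B hB => absurd hB (hno B))
    obtain ⟨hgood, k, hk, hkB, a, haA, hak⟩ := hB
    obtain ⟨hBA, hidx, hle⟩ := hgood
    have hcardA : Nat.card A = 2 * Nat.card B := card_eq_of_good ⟨hBA, hidx, hle⟩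
    have hBn : Nat.card B < n := by
      have : 0 < Nat.card B := Nat.card_pos
      omega
    have hIH := ih _ hBn rfl (hBA.trans hAM) (isElementaryAbelian_le hA hBA)
    set W : Subgroup X := V ⊓ Subgroup.centralizer (B : Set X) with hW
    set W₀ : Subgroup X := V ⊓ Subgroup.centralizer (A : Set X) with hW₀
    suffices h4 : 4 * Nat.card W₀ ≤ Nat.card W by
      rw [← hn, hcardA]
      calc (2 * Nat.card B) ^ 2 * Nat.card W₀ = Nat.card B ^ 2 * (4 * Nat.card W₀) := by ring
        _ ≤ Nat.card B ^ 2 * Nat.card W := Nat.mul_le_mul_left _ h4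
        _ ≤ Nat.card V := hIH
    by_contra hlt
    push Not at hlt
    apply hinv
    have hKM : K ≤ M := Subgroup.map_subtype_le _
    have hKcard : (Nat.card K).Coprime 2 :=
      Nat.Coprime.coprime_dvd_left (Subgroup.card_map_dvd _ _) (Cores.pPrimeCore_coprime 2 ↥M)
    have hMK : M ≤ Subgroup.normalizer (K : Set X) :=
      (Subgroup.le_normalizer).trans (Cores.normalizer_le_normalizer_map_subtype M _)
    have hW₀W : W₀ ≤ W := inf_le_inf_left _ (Subgroup.centralizer_le hBA)
    have hVp := isPGroup_of_elem hc.elem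
    have hidxW : W₀.relIndex W ≤ 2 := by
      have h1 : W₀.relIndex W * Nat.card W₀ = Nat.card W := by
        rw [← Subgroup.relIndex_bot_left, ← Subgroup.relIndex_bot_left W, mul_comm,
          Subgroup.relIndex_mul_relIndex ⊥ W₀ W bot_le hW₀W]
      obtain ⟨i, hi⟩ := IsPGroup.iff_card.mp (hVp.to_le (inf_le_left : W ≤ V))
      obtain ⟨j, -, hj⟩ := (Nat.dvd_prime_pow Nat.prime_two).mp
        (hi ▸ ((W₀.subgroupOf W).index_dvd_card) : W₀.relIndex W ∣ 2 ^ i)
      rw [hj] at h1 ⊢
      have hpos : 0 < Nat.card W₀ := Nat.card_pos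
      have h4 : 2 ^ j < 4 := by
        by_contra h
        push Not at h
        have := Nat.mul_le_mul_right (Nat.card W₀) h
        omega
      have : j < 2 := (Nat.pow_lt_pow_iff_right (le_refl 2)).mp (by simpa using h4)
      interval_cases j <;> simp
    have hWel : Cfsg.IsElementaryAbelian 2 W := isElementaryAbelian_le hc.elem inf_le_left
    have hnormW : ∀ g ∈ M, (∀ b ∈ B, b * g = g * b) → ∀ w ∈ W, g * w * g⁻¹ ∈ W := by
      intro g hg hgB w hw
      refine ⟨(Subgroup.mem_normalizer_iff.mp (hc.norm hg) w).mp hw.1,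
        Subgroup.mem_centralizer_iff.mpr fun b hb => ?_⟩
      have e1 : Commute b g := hgB b hb
      have e2 : Commute b w := Subgroup.mem_centralizer_iff.mp hw.2 b hb
      exact ((e1.mul_right e2).mul_right e1.inv_right).eq
    have haM := hAM haA
    have hkM := hKM hk
    have haB : ∀ b ∈ B, b * a = a * b := fun b hb => mul_comm_of_elem hA (hBA hb) haA
    have ha2 : a * a = 1 := by rw [← pow_two]; exact hA.2 a haA
    have haI : a⁻¹ = a := inv_eq_of_mul_eq_one_right ha2
    set c := a * k * a⁻¹ * k⁻¹ with hcdef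
    have hcK : c ∈ K := mul_mem ((Subgroup.mem_normalizer_iff.mp (hMK haM) _).mp hk) (inv_mem hk)
    have hcB : ∀ b ∈ B, b * c = c * b := fun b hb =>
      ((((show Commute b a from haB b hb).mul_right (hkB b hb)).mul_right
        (show Commute b a from haB b hb).inv_right).mul_right
        (show Commute b k from hkB b hb).inv_right).eq
    have hodd : Odd (orderOf c) := Nat.coprime_two_right.mp
      (hKcard.coprime_dvd_left (Subgroup.orderOf_dvd_natCard K hcK))
    have hc1 : c ≠ 1 := fun h => hak (by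
      rw [hcdef, mul_inv_eq_one, mul_inv_eq_iff_eq_mul] at h
      exact h)
    -- the fixed points of `a` and of its conjugate
    set W₁ : Subgroup X := W₀ ⊓ W₀.map (MulAut.conj k).toMonoidHom with hW₁
    have hconjW₀ : W₀.map (MulAut.conj k).toMonoidHom ≤ W := by
      rintro _ ⟨w, hw, rfl⟩
      exact hnormW k hkM hkB w (hW₀W hw)
    have hfixc : ∀ w ∈ W₁, c * w * c⁻¹ = w := by
      intro w hw
      have h1 : a * w = w * a := Subgroup.mem_centralizer_iff.mp hw.1.2 a haA
      obtain ⟨u, hu, hue⟩ := hw.2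
      simp only [MulEquiv.coe_toMonoidHom, MulAut.conj_apply] at hue
      have h2 : a * u = u * a := Subgroup.mem_centralizer_iff.mp hu.2 a haA
      calc c * w * c⁻¹ = a * k * a⁻¹ * (k⁻¹ * w * k) * a * k⁻¹ * a⁻¹ := by rw [hcdef]; group
        _ = a * k * a⁻¹ * u * a * k⁻¹ * a⁻¹ := by rw [← hue]; group
        _ = a * (k * (a⁻¹ * (u * a)) * k⁻¹) * a⁻¹ := by group
        _ = a * w * a⁻¹ := by rw [← h2, inv_mul_cancel_left, hue]
        _ = w := by rw [h1]; group
    have hW₁idx : W₁.relIndex W ≤ 4 := by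
      have h1 : (W₀.map (MulAut.conj k).toMonoidHom).relIndex W = W₀.relIndex W := by
        have hWk : W.map (MulAut.conj k).toMonoidHom = W := by
          refine Subgroup.eq_of_le_of_card_ge ?_
            (Subgroup.card_map_of_injective (MulAut.conj k).injective).ge
          rintro _ ⟨w, hw, rfl⟩
          exact hnormW k hkM hkB w hw
        conv_lhs => rw [← hWk]
        exact Subgroup.relIndex_map_map_of_injective W₀ W (MulAut.conj k).injective
      calc W₁.relIndex W ≤ W₀.relIndex W * (W₀.map (MulAut.conj k).toMonoidHom).relIndex W :=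
            Subgroup.relIndex_inf_le
        _ ≤ 2 * 2 := Nat.mul_le_mul hidxW (h1.trans_le hidxW)
    have hcnorm := hnormW c (hKM hcK) hcB
    have hcube := cube_centralizes hWel hodd hcnorm (inf_le_left.trans hW₀W) hfixc hW₁idx
    -- `c ^ 3 = 1`
    have hc3 : c ^ 3 = 1 := by
      set Q : Subgroup X := K ⊓ Subgroup.centralizer (B : Set X) ⊓ Subgroup.centralizer (W : Set X) with hQ
      have hQV : Q ≤ Subgroup.centralizer (V : Set X) :=
        Cfsg.Agent.Lib.Coprime.le_centralizer_of_PxQ (p := 2) (P := B) (U := V)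
          (isPGroup_of_elem (isElementaryAbelian_le hA hBA))
          (hKcard.coprime_dvd_left (Subgroup.card_dvd_of_le (inf_le_left.trans inf_le_left)))
          hVp (Subgroup.le_centralizer_iff.mp (inf_le_left.trans inf_le_right))
          ((hBA.trans hAM).trans hc.norm) ((inf_le_left.trans inf_le_left).trans (hKM.trans hc.norm))
          (Subgroup.le_centralizer_iff.mp inf_le_right)
      refine hc.eq_one (pow_mem (hKM hcK) 3) (hQV ⟨⟨pow_mem hcK 3, ?_⟩, ?_⟩)
      · exact Subgroup.mem_centralizer_iff.mpr fun b hb => ((show Commute b c from hcB b hb).pow_right 3).eq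
      · exact Subgroup.mem_centralizer_iff.mpr fun w hw => (hcube w hw).symm
    have hinvc : a * c * a⁻¹ = c⁻¹ := by
      have hk' : a * (a * k * a⁻¹ * k⁻¹) * a⁻¹ = (a * a) * k * a⁻¹ * k⁻¹ * a⁻¹ := by group
      rw [hcdef, hk', ha2]
      simp only [mul_inv_rev, inv_inv, one_mul, haI]
      group
    have horder : orderOf c = 3 := orderOf_eq_prime hc3 hc1
    have ha1 : a ≠ 1 := fun h => hak (by rw [h, one_mul, mul_one])
    refine exists_sym_three (Y := ↥M) (a := ⟨a, haM⟩) (c := ⟨c, hKM hcK⟩) ?_ ?_ ?_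
    · rwa [← Subgroup.orderOf_coe]
    · rw [← Subgroup.orderOf_coe]
      exact orderOf_eq_prime (hA.2 a haA) ha1
    · exact Subtype.ext (by simpa using hinvc)

/-- Let M and V be subgroups of a finite group with V an elementary abelian 2-group, M normalizing V and acting faithfully on it (M ∩ C(V) = 1), and C_M(O_{2'}(M)) ≤ O_{2'}(M). If some elementary abelian 2-subgroup A of M satisfies |V : C_V(A)| < |A|², then M has a section isomorphic to the symmetric group of degree 3. -/
theorem result {X : Type*} [Group X] [Finite X] (M V : Subgroup X) (hV : Cfsg.IsElementaryAbelian 2 V) (hMV : M ≤ Subgroup.normalizer (V : Set X)) (hfaith : M ⊓ Subgroup.centralizer (V : Set X) = ⊥) (hcon : Subgroup.centralizer (Cfsg.pPrimeCore 2 ↥M : Set ↥M) ≤ Cfsg.pPrimeCore 2 ↥M) (A : Subgroup X) (hAM : A ≤ M) (hA : Cfsg.IsElementaryAbelian 2 A) (hsmall : (V ⊓ Subgroup.centralizer (A : Set X)).relIndex V < Nat.card A ^ 2) : Cfsg.Involves (Equiv.Perm (Fin 3)) ↥M := by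
  by_contra hinv
  have h := involves_of_small (⟨hV, hMV, hfaith, hcon⟩ : Ctx 2 V M) hinv hAM hA
  have h1 : (V ⊓ Subgroup.centralizer (A : Set X)).relIndex V *
      Nat.card ↥(V ⊓ Subgroup.centralizer (A : Set X)) = Nat.card V := by
    rw [← Subgroup.relIndex_bot_left, ← Subgroup.relIndex_bot_left V, mul_comm,
      Subgroup.relIndex_mul_relIndex ⊥ _ V bot_le inf_le_left]
  rw [← h1] at h
  exact absurd (Nat.le_of_mul_le_mul_right h Nat.card_pos) (by omega)

end Cfsg.Agent.S3755
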