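import Cfsg.Statements.S3760


set_option autoImplicit false
open Cfsg

namespace Cfsg.Agent.S3760

/-- Let the group G act transitively on a set X, let x ∈ X with stabilizer H = G_x, and let K ≤ H. Then N_G(K) acts transitively on the set of fixed points of K if and only if every G-conjugate of K contained in H is already an H-conjugate of K. -/
theorem result {G : Type*} [Group G] {X : Type*} [MulAction G X] (htrans : ∀ a b : X, ∃ g : G, g • a = b) (x : X) (K : Subgroup G) (hK : K ≤ MulAction.stabilizer G x) : (∀ a b : X, (∀ k ∈ K, k • a = a) → (∀ k ∈ K, k • b = b) → ∃ g ∈ Subgroup.normalizer (K : Set G), g • a = b) ↔ ∀ g : G, K.map (MulAut.conj g).toMonoidHom ≤ MulAction.stabilizer G x → ∃ h ∈ MulAction.stabilizer G x, K.map (MulAut.conj g).toMonoidHom = K.map (MulAut.conj h).toMonoidHom := by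
  constructor
  · intro h g hg
    have hfix : ∀ k ∈ K, k • (g⁻¹ • x) = g⁻¹ • x := by
      intro k hk
      have h1 : (g * k * g⁻¹) • x = x := hg ⟨k, hk, rfl⟩
      rw [eq_inv_smul_iff, smul_smul, smul_smul]
      exact h1
    obtain ⟨n, hn, hnx⟩ := h x (g⁻¹ • x) (fun k hk => hK hk) hfix
    refine ⟨g * n, ?_, ?_⟩
    · rw [MulAction.mem_stabilizer_iff, mul_smul, hnx, smul_inv_smul]
    · ext y
      have hn' := Subgroup.mem_normalizer_iff.mp (inv_mem hn)
      constructor
      · rintro ⟨k, hk, rfl⟩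
        refine ⟨n⁻¹ * k * n, ?_, ?_⟩
        · simpa using (hn' k).mp hk
        · simp [mul_assoc]
      · rintro ⟨k, hk, rfl⟩
        refine ⟨n * k * n⁻¹, (Subgroup.mem_normalizer_iff.mp hn k).mp hk, ?_⟩
        simp [mul_assoc]
  · intro h a b ha hb
    have key : ∀ c : X, (∀ k ∈ K, k • c = c) →
        ∃ g ∈ Subgroup.normalizer (K : Set G), g • x = c := by
      intro c hc
      obtain ⟨g, rfl⟩ := htrans x c
      have hle : K.map (MulAut.conj g⁻¹).toMonoidHom ≤ MulAction.stabilizer G x := by
        rintro _ ⟨k, hk, rfl⟩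
        show (g⁻¹ * k * g⁻¹⁻¹) • x = x
        rw [inv_inv, mul_smul, mul_smul, hc k hk, inv_smul_smul]
      obtain ⟨s, hs, heq⟩ := h g⁻¹ hle
      refine ⟨g * s, ?_, by rw [mul_smul, MulAction.mem_stabilizer_iff.mp hs]⟩
      rw [Subgroup.mem_normalizer_iff]
      intro k
      have e1 : ∀ y, g⁻¹ * y * g ∈ K.map (MulAut.conj g⁻¹).toMonoidHom ↔ y ∈ K := by
        intro y
        constructor
        · rintro ⟨z, hz, hz2⟩
          have : z = y := by simpa [mul_assoc] using hz2
          exact this ▸ hz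
        · intro hy
          exact ⟨y, hy, by simp⟩
      have e2 : ∀ y, s * y * s⁻¹ ∈ K.map (MulAut.conj s).toMonoidHom ↔ y ∈ K := by
        intro y
        constructor
        · rintro ⟨z, hz, hz2⟩
          have : z = y := by simpa [mul_assoc] using hz2
          exact this ▸ hz
        · intro hy
          exact ⟨y, hy, by simp⟩
      rw [← e1 (g * s * k * (g * s)⁻¹), heq, ← e2 k]
      simp [mul_assoc]
    obtain ⟨g1, hg1, rfl⟩ := key a ha
    obtain ⟨g2, hg2, rfl⟩ := key b hb
    exact ⟨g2 * g1⁻¹, mul_mem hg2 (inv_mem hg1), by rw [mul_smul, inv_smul_smul]⟩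

end Cfsg.Agent.S3760
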