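import Cfsg.Statements.S3763
import Cfsg.Agent.Lib.PGroups.ExtraTwoType
import Cfsg.Agent.S0095
import Mathlib

set_option autoImplicit false
open Cfsg

namespace Cfsg.Agent.S3763

/-- Let E be an extraspecial 2-group of order 2^(2n+1). Then the largest elementary abelian subgroups of E have order 2^n or 2^(n+1); and two extraspecial 2-groups of the same order whose largest elementary abelian subgroups have the same order are isomorphic. -/
theorem result {E : Type*} [Group E] [Finite E] (hE : Cfsg.IsExtraspecial 2 E) (n : ℕ) (hn : Nat.card E = 2 ^ (2 * n + 1)) : ((Cfsg.PRankLE 2 n E ∧ ¬ Cfsg.PRankLE 2 (n - 1) E) ∨ (Cfsg.PRankLE 2 (n + 1) E ∧ ¬ Cfsg.PRankLE 2 n E)) ∧ ∀ (E' : Type*) [Group E'] [Finite E'], Cfsg.IsExtraspecial 2 E' → Nat.card E' = Nat.card E → (∀ k : ℕ, Cfsg.PRankLE 2 k E ↔ Cfsg.PRankLE 2 k E') → Nonempty (E ≃* E') := by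
  obtain ⟨m, hm, hc⟩ := Cfsg.Agent.S0095.result (p := 2) hE
  obtain rfl : n = m := by
    have := Nat.pow_right_injective le_rfl (hn.symm.trans hc)
    omega
  refine ⟨?_, fun E' _ _ hE' hcE hk => ?_⟩
  · rcases Lib.PGroups.ExtraTwoType.plus_or_minus hE hm hn with h | h
    · exact Or.inr (Lib.PGroups.ExtraTwoType.rank_plus hE hn h)
    · exact Or.inl (Lib.PGroups.ExtraTwoType.rank_minus hE hm hn h)
  · have hc' := hcE.trans hn
    rcases Lib.PGroups.ExtraTwoType.plus_or_minus hE hm hn with h | h <;>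
      rcases Lib.PGroups.ExtraTwoType.plus_or_minus hE' hm hc' with h' | h'
    · exact Lib.PGroups.ExtraTwoType.iso_of_plus hE hE' h h'
    · exact absurd ((hk n).mpr (Lib.PGroups.ExtraTwoType.rank_minus hE' hm hc' h').1)
        (Lib.PGroups.ExtraTwoType.rank_plus hE hn h).2
    · exact absurd ((hk n).mp (Lib.PGroups.ExtraTwoType.rank_minus hE hm hn h).1)
        (Lib.PGroups.ExtraTwoType.rank_plus hE' hc' h').2
    · exact Lib.PGroups.ExtraTwoType.iso_of_minus hE hE' h h'

end Cfsg.Agent.S3763
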