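import Cfsg.Statements.S3764
import Mathlib
import Cfsg.Agent.Lib.OddLocal.HallHigmanExceptional
-- import your own Cfsg.Agent.* helpers here

set_option autoImplicit false
open Cfsg

namespace Cfsg.Agent.S3764


/-- Let p, q, r be distinct primes and let X, Q, V be subgroups of a finite group with X of order r, Q an extraspecial q-group normalized by X with C_Q(X) = Z(Q), and V an elementary abelian p-group normalized by X and Q on which XQ acts faithfully ((X ⊔ Q) ∩ C(V) = 1). If C_V(X) = 1, then q = 2, r = 2^n + 1 for some n, and Q has order 2^(2n+1). -/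
theorem result {G : Type*} [Group G] [Finite G] {p q r : ℕ} (hp : p.Prime) (hq : q.Prime) (hr : r.Prime) (hpq : p ≠ q) (hpr : p ≠ r) (hqr : q ≠ r) (X Q V : Subgroup G) (hX : Nat.card X = r) (hQ : Cfsg.IsExtraspecial q ↥Q) (hXQ : X ≤ Subgroup.normalizer (Q : Set G)) (hCQ : Q ⊓ Subgroup.centralizer (X : Set G) = (Subgroup.center ↥Q).map Q.subtype) (hV : Cfsg.IsElementaryAbelian p V) (hXV : X ≤ Subgroup.normalizer (V : Set G)) (hQV : Q ≤ Subgroup.normalizer (V : Set G)) (hfaith : (X ⊔ Q) ⊓ Subgroup.centralizer (V : Set G) = ⊥) (hCV : V ⊓ Subgroup.centralizer (X : Set G) = ⊥) : q = 2 ∧ ∃ n : ℕ, r = 2 ^ n + 1 ∧ Nat.card Q = 2 ^ (2 * n + 1) := by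
  classical
  haveI := Fact.mk hp
  haveI := Fact.mk hq
  haveI := Fact.mk hr
  haveI : Nontrivial X := Finite.one_lt_card_iff_nontrivial.mp (hX ▸ hr.one_lt)
  obtain ⟨⟨x, hxX⟩, hx1⟩ := exists_ne (1 : X)
  have hx1' : x ≠ 1 := fun e => hx1 (Subtype.ext e)
  have hxr : x ^ r = 1 := congrArg Subtype.val
    (show (⟨x, hxX⟩ : X) ^ r = 1 from hX ▸ pow_card_eq_one')
  have hxz : Subgroup.zpowers x = X := Subgroup.eq_of_le_of_card_ge (Subgroup.zpowers_le.mpr hxX) (by
    rw [hX, Nat.card_zpowers, orderOf_eq_prime hxr hx1'])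
  have hVc : ∀ u ∈ V, ∀ v ∈ V, u * v = v * u := fun u hu v hv =>
    congrArg Subtype.val (hV.1.is_comm.comm (⟨u, hu⟩ : V) ⟨v, hv⟩)
  set Γ₀ := X ⊔ Q with hΓ₀
  have hxΓ : x ∈ Γ₀ := Subgroup.mem_sup_left hxX
  have hQΓ : Q ≤ Γ₀ := le_sup_right
  have hΓV : Γ₀ ≤ Subgroup.normalizer (V : Set G) := sup_le hXV hQV
  have hfpf : ∀ u ∈ V, x * u * x⁻¹ = u → u = 1 := by
    intro u hu h
    have hxu : Commute x u := mul_inv_eq_iff_eq_mul.mp h
    exact Subgroup.mem_bot.mp (hCV ▸ ⟨hu, by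
      rw [← hxz]
      refine Subgroup.mem_centralizer_iff.mpr fun b hb => ?_
      obtain ⟨i, rfl⟩ := Subgroup.mem_zpowers_iff.mp hb
      exact (hxu.zpow_left i).eq⟩)
  haveI hQn : Group.IsNilpotent Q := hQ.1.1.isNilpotent
  haveI : Nontrivial Q := by
    refine Finite.one_lt_card_iff_nontrivial.mp (lt_of_lt_of_le hq.one_lt ?_)
    exact hQ.2 ▸ Subgroup.card_le_card_group _
  have hab : Subgroup.center Q ≠ ⊤ := by
    rw [← hQ.1.2.2]
    exact (Group.IsSolvable.commutator_lt_top_of_nontrivial (G := Q)).ne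
  have hcent : ∀ y ∈ Q, Commute x y → y ∈ (Subgroup.center Q).map Q.subtype := by
    intro y hy hxy
    rw [← hCQ]
    refine ⟨hy, ?_⟩
    rw [← hxz]
    refine Subgroup.mem_centralizer_iff.mpr fun b hb => ?_
    obtain ⟨i, rfl⟩ := Subgroup.mem_zpowers_iff.mp hb
    exact (hxy.zpow_left i).eq
  have hr2 : r ≠ 2 := by
    rintro rfl
    refine hab (eq_top_iff.mpr fun y _ => ?_)
    obtain ⟨z, hz, hzy⟩ := hcent y y.2
      (Cfsg.Agent.Lib.OddLocal.Exceptional.commute_of_fixedPointFree_two hVc hΓV hfaith hxΓ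
        hxr hfpf y (hQΓ y.2))
    exact (Subtype.ext hzy : z = y) ▸ hz
  obtain ⟨d, ρ, hρ, hfix⟩ := Cfsg.Agent.Lib.OddLocal.Exceptional.exists_rep hr (Ne.symm hpr) hVc hV.2 hΓV hfaith hxΓ
    hxr hfpf
  set Q' := Q.subgroupOf Γ₀ with hQ'
  set e : Q' ≃* Q := Subgroup.subgroupOfEquivOfLe hQΓ with he
  have hmemZ : ∀ {a : Q'}, a ∈ Subgroup.center Q' ↔ e a ∈ Subgroup.center Q := by
    intro a
    simp only [Subgroup.mem_center_iff]
    exact ⟨fun h g => by simpa using congrArg e (h (e.symm g)), fun h g => e.injective (by simpa using h (e g))⟩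
  have hxQ : (⟨x, hxΓ⟩ : Γ₀) ∈ Subgroup.normalizer (Q' : Set Γ₀) := by
    rw [Subgroup.mem_normalizer_iff]
    intro g
    simp only [hQ', Subgroup.mem_subgroupOf, Subgroup.coe_mul, InvMemClass.coe_inv]
    exact Subgroup.mem_normalizer_iff.mp (hXQ hxX) _
  let θ : MulAut Q' := Q'.normalizerMonoidHom ⟨⟨x, hxΓ⟩, hxQ⟩
  have hθv : ∀ (i : ℕ) (a : Q'), ((((θ ^ i) a : Q') : Γ₀) : G) = x ^ i * a * (x ^ i)⁻¹ := by
    intro i
    induction i with
    | zero => intro a; simp
    | succ i ih =>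
      intro a
      rw [pow_succ, MulAut.mul_apply, ih, pow_succ, mul_inv_rev]
      show x ^ i * (x * ((a : Γ₀) : G) * x⁻¹) * (x ^ i)⁻¹ = _
      group
  have hθr : θ ^ r = 1 := MulEquiv.ext fun a => Subtype.ext (Subtype.ext (by rw [hθv, hxr]; simp))
  have hZfix : ∀ z ∈ Subgroup.center Q', θ z = z := by
    intro z hz
    have h1 : ((z : Γ₀) : G) ∈ Q ⊓ Subgroup.centralizer (X : Set G) :=
      hCQ ▸ ⟨e z, hmemZ.mp hz, rfl⟩
    refine Subtype.ext (Subtype.ext ?_)
    show x * ((z : Γ₀) : G) * x⁻¹ = _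
    rw [Subgroup.mem_centralizer_iff.mp h1.2 x hxX, mul_inv_cancel_right]
  have hfixed : ∀ a : Q', θ a = a → a ∈ Subgroup.center Q' := by
    intro a ha
    rw [hmemZ]
    obtain ⟨z, hz, hzy⟩ := hcent _ a.2 (mul_inv_eq_iff_eq_mul.mp (congrArg (fun t : Q' => ((t : Γ₀) : G)) ha))
    exact (Subtype.ext hzy : z = e a) ▸ hz
  obtain ⟨k, hk⟩ := IsPGroup.iff_card.mp hQ.1.1
  have hfree : ∀ i : ℕ, ¬ r ∣ i → ∀ a : Q', a⁻¹ * (θ ^ i) a ∈ Subgroup.center Q' →
      a ∈ Subgroup.center Q' := by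
    intro i hi a ha
    have hZi : ∀ (j : ℕ), ∀ z ∈ Subgroup.center Q', (θ ^ j) z = z := by
      intro j
      induction j with
      | zero => intro z _; rfl
      | succ j ih => intro z hz; rw [pow_succ, MulAut.mul_apply, hZfix z hz, ih z hz]
    set w := a⁻¹ * (θ ^ i) a with hw
    have hstep : ∀ j : ℕ, ((θ ^ i) ^ j) a = a * w ^ j := by
      intro j
      induction j with
      | zero => simp
      | succ j ih =>
        rw [pow_succ', MulAut.mul_apply, ih, map_mul, map_pow, hZi i w ha, pow_succ']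
        rw [← mul_assoc, hw, mul_inv_cancel_left]
    have hwr : w ^ r = 1 := by
      have h := hstep r
      rw [← pow_mul, mul_comm, pow_mul, hθr, one_pow] at h
      exact (mul_eq_left (a := a)).mp h.symm
    have hw1 : w = 1 := by
      refine orderOf_eq_one_iff.mp (Nat.eq_one_of_dvd_coprimes (k := orderOf w) ?_
        (orderOf_dvd_of_pow_eq_one hwr) ((Subgroup.orderOf_dvd_natCard _ (Subgroup.mem_top w)).trans
          (by rw [Subgroup.card_top, Nat.card_congr e.toEquiv, hk])))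
      exact (((Nat.coprime_primes hr hq).mpr (Ne.symm hqr)).pow_right k)
    have hai : (θ ^ i) a = a := by
      have h := hstep 1
      rwa [pow_one, pow_one, hw1, mul_one] at h
    refine hfixed a ?_
    obtain ⟨m, -, hm⟩ := Nat.exists_mul_mod_eq_gcd (n := i) (k := r) (by
      rw [show i.gcd r = 1 from ((hr.coprime_iff_not_dvd.mpr hi).symm)]; exact hr.one_lt)
    rw [show i.gcd r = 1 from ((hr.coprime_iff_not_dvd.mpr hi).symm)] at hm
    have hpow : ∀ m : ℕ, ((θ ^ i) ^ m) a = a := by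
      intro m
      induction m with
      | zero => rfl
      | succ m ih => rw [pow_succ, MulAut.mul_apply, hai, ih]
    have h := hpow m
    rwa [← pow_mul, ← Nat.div_add_mod (i * m) r, hm, pow_add, pow_mul, hθr, one_pow, one_mul, pow_one] at h
  have hcq : Nat.card (Subgroup.center Q') = q := by
    rw [← hQ.2]
    exact Nat.card_congr (e.toEquiv.subtypeEquiv fun a => hmemZ)
  have hcomm' : commutator Q' ≤ Subgroup.center Q' := by
    rw [commutator_def, Subgroup.commutator_le]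
    intro a _ b _
    rw [hmemZ, map_commutatorElement]
    rw [← hQ.1.2.2]
    exact Subgroup.commutator_mem_commutator (Subgroup.mem_top _) (Subgroup.mem_top _)
  have hab' : Subgroup.center Q' ≠ ⊤ := fun h => hab (eq_top_iff.mpr fun z _ => by
    simpa using hmemZ.mp (h ▸ Subgroup.mem_top (e.symm z) : e.symm z ∈ Subgroup.center Q'))
  obtain ⟨d', hd, hidx⟩ := Cfsg.Agent.Lib.OddLocal.Exceptional.centre_index_of_class_two ρ hρ hr hr2
    (Cfsg.Agent.Lib.OddLocal.Exceptional.natCast_ne_zero_of_prime hr (Ne.symm hpr)) hq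
    (Cfsg.Agent.Lib.OddLocal.Exceptional.natCast_ne_zero_of_prime hq (Ne.symm hpq))
    ⟨x, hxΓ⟩ (Subtype.ext hxr) hfix Q' (hQ.1.1.comap_of_injective Γ₀.subtype Subtype.val_injective)
    θ (fun a => rfl) hθr hcomm' hab' hZfix hfree (Or.inr (hcq ▸ hq))
  have hcard : Nat.card Q = q * d' ^ 2 := by
    rw [← hidx, ← hcq, Subgroup.card_mul_index, Nat.card_congr e.toEquiv]
  have hdeven : Even d' := by
    have hro : Odd r := hr.odd_of_ne_two hr2
    rw [← hd, Nat.odd_add] at hro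
    by_contra h
    exact absurd (hro.mp (Nat.not_even_iff_odd.mp h)) (by decide)
  have h2 : 2 ∣ q ^ k := by
    rw [← hk, hcard]
    exact Dvd.dvd.mul_left ((even_iff_two_dvd.mp hdeven).trans (dvd_pow_self d' two_ne_zero)) _
  have hq2 : q = 2 := ((Nat.prime_dvd_prime_iff_eq Nat.prime_two hq).mp
    (Nat.prime_two.dvd_of_dvd_pow h2)).symm
  refine ⟨hq2, ?_⟩
  subst hq2
  obtain ⟨n, -, hn⟩ := (Nat.dvd_prime_pow Nat.prime_two).mp
    (show d' ∣ 2 ^ k from hk ▸ hcard ▸ (dvd_pow_self d' two_ne_zero).mul_left 2)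
  refine ⟨n, by omega, ?_⟩
  rw [hcard, hn, ← pow_mul, ← pow_succ', mul_comm n 2]

end Cfsg.Agent.S3764
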