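import Cfsg.Statements.S3765
import Mathlib
import Cfsg.Agent.Lib.OddLocal.HallHigmanExceptional
-- import your own Cfsg.Agent.* helpers here

set_option autoImplicit false
open Cfsg

namespace Cfsg.Agent.S3765


/-- Let p, q, r be distinct primes and let X, Q, V be subgroups of a finite group with X of order r normalizing the q-group Q and acting faithfully on it (X ∩ C(Q) = 1), and V a nontrivial elementary abelian p-group normalized by X and Q on which XQ acts faithfully. If q = 2 and r has the form 2^n + 1, assume in addition that Q is abelian. Then C_V(X) ≠ 1. -/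
theorem result {G : Type*} [Group G] [Finite G] {p q r : ℕ} (hp : p.Prime) (hq : q.Prime) (hr : r.Prime) (hpq : p ≠ q) (hpr : p ≠ r) (hqr : q ≠ r) (X Q V : Subgroup G) (hX : Nat.card X = r) (hQ : IsPGroup q Q) (hXQ : X ≤ Subgroup.normalizer (Q : Set G)) (hXfaith : X ⊓ Subgroup.centralizer (Q : Set G) = ⊥) (hV : Cfsg.IsElementaryAbelian p V) (hV1 : V ≠ ⊥) (hXV : X ≤ Subgroup.normalizer (V : Set G)) (hQV : Q ≤ Subgroup.normalizer (V : Set G)) (hfaith : (X ⊔ Q) ⊓ Subgroup.centralizer (V : Set G) = ⊥) (hexc : q = 2 → (∃ n : ℕ, r = 2 ^ n + 1) → IsMulCommutative Q) : V ⊓ Subgroup.centralizer (X : Set G) ≠ ⊥ := by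
  classical
  haveI := Fact.mk hp
  haveI := Fact.mk hq
  haveI := Fact.mk hr
  haveI : Nontrivial X := Finite.one_lt_card_iff_nontrivial.mp (hX ▸ hr.one_lt)
  obtain ⟨⟨x, hxX⟩, hx1⟩ := exists_ne (1 : X)
  have hx1' : x ≠ 1 := fun e => hx1 (Subtype.ext e)
  have hxr : x ^ r = 1 := congrArg Subtype.val
    (show (⟨x, hxX⟩ : X) ^ r = 1 from hX ▸ pow_card_eq_one')
  have hxz : Subgroup.zpowers x = X := Subgroup.eq_of_le_of_card_ge (Subgroup.zpowers_le.mpr hxX) (by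
    rw [hX, Nat.card_zpowers, orderOf_eq_prime hxr hx1'])
  have hVc : ∀ u ∈ V, ∀ v ∈ V, u * v = v * u := fun u hu v hv =>
    congrArg Subtype.val (hV.1.is_comm.comm (⟨u, hu⟩ : V) ⟨v, hv⟩)
  set Γ₀ := X ⊔ Q with hΓ₀
  have hxΓ : x ∈ Γ₀ := Subgroup.mem_sup_left hxX
  have hQΓ : Q ≤ Γ₀ := le_sup_right
  have hΓV : Γ₀ ≤ Subgroup.normalizer (V : Set G) := sup_le hXV hQV
  intro hCV
  have hfpf : ∀ u ∈ V, x * u * x⁻¹ = u → u = 1 := by
    intro u hu h
    have hxu : Commute x u := mul_inv_eq_iff_eq_mul.mp h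
    exact Subgroup.mem_bot.mp (hCV ▸ ⟨hu, by
      rw [← hxz]
      refine Subgroup.mem_centralizer_iff.mpr fun b hb => ?_
      obtain ⟨i, rfl⟩ := Subgroup.mem_zpowers_iff.mp hb
      exact (hxu.zpow_left i).eq⟩)
  suffices h : ∀ y ∈ Q, Commute x y by
    refine hx1' (Subgroup.mem_bot.mp (hXfaith ▸ ⟨hxX, ?_⟩))
    exact Subgroup.mem_centralizer_iff.mpr fun y hy => (h y hy).eq.symm
  by_cases hr2 : r = 2
  · subst hr2
    exact fun y hy => Cfsg.Agent.Lib.OddLocal.Exceptional.commute_of_fixedPointFree_two hVc hΓV hfaith hxΓ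
      hxr hfpf y (hQΓ hy)
  obtain ⟨d, ρ, hρ, hfix⟩ := Cfsg.Agent.Lib.OddLocal.Exceptional.exists_rep hr (Ne.symm hpr) hVc hV.2 hΓV hfaith hxΓ
    hxr hfpf
  have hxQ : (⟨x, hxΓ⟩ : Γ₀) ∈ Subgroup.normalizer ((Q.subgroupOf Γ₀ : Subgroup Γ₀) : Set Γ₀) := by
    rw [Subgroup.mem_normalizer_iff]
    intro g
    simp only [Subgroup.mem_subgroupOf, Subgroup.coe_mul, InvMemClass.coe_inv]
    exact Subgroup.mem_normalizer_iff.mp (hXQ hxX) _
  rcases Cfsg.Agent.Lib.OddLocal.Exceptional.commute_of_fixedPointFree_linear ρ hρ hr hr2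
    (Cfsg.Agent.Lib.OddLocal.Exceptional.natCast_ne_zero_of_prime hr (Ne.symm hpr)) hq
    (Cfsg.Agent.Lib.OddLocal.Exceptional.natCast_ne_zero_of_prime hq (Ne.symm hpq)) hqr
    ⟨x, hxΓ⟩ (Subtype.ext hxr) hfix _ (Q.subgroupOf Γ₀) rfl
    (hQ.comap_of_injective Γ₀.subtype Subtype.val_injective) hxQ with h | ⟨Q₀, hQ₀, hna, hq2, hn⟩
  · exact fun y hy => congrArg Subtype.val (h ⟨y, hQΓ hy⟩ hy)
  · have hab := hexc hq2 hn
    refine absurd (⟨⟨fun a b => ?_⟩⟩ : IsMulCommutative Q₀) hna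
    refine Subtype.ext (Subtype.ext ?_)
    have h := congrArg Subtype.val (hab.is_comm.comm
      (⟨((a : Γ₀) : G), hQ₀ a.2⟩ : Q) ⟨((b : Γ₀) : G), hQ₀ b.2⟩)
    exact h

end Cfsg.Agent.S3765
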