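import Cfsg.Statements.S3766
import Cfsg.Agent.Lib.Cores.Fitting
import Cfsg.Agent.Lib.Solvable.Nilpotent
import Cfsg.Agent.Lib.PGroups.Commutator

set_option autoImplicit false
open Cfsg

namespace Cfsg.Agent.S3766

open scoped commutatorElement

/-- The iterated commutator `[X, C, …, C]`. -/
def itc {H : Type*} [Group H] (X C : Subgroup H) : ℕ → Subgroup H
  | 0 => X
  | k + 1 => ⁅itc X C k, C⁆

theorem itc_normal {H : Type*} [Group H] (X C : Subgroup H) [X.Normal] [C.Normal] : ∀ k, (itc X C k).Normal
  | 0 => ‹X.Normal›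
  | k + 1 => by
    have := itc_normal X C k
    exact Subgroup.commutator_normal _ _

theorem itc_shift {H : Type*} [Group H] (X C : Subgroup H) : ∀ k, itc ⁅X, C⁆ C k = itc X C (k + 1)
  | 0 => rfl
  | k + 1 => by
    show ⁅itc _ C k, C⁆ = ⁅itc X C (k + 1), C⁆
    rw [itc_shift X C k]

theorem commutator_lcs_le {H : Type*} [Group H] (C : Subgroup H) [C.Normal] : ∀ (k : ℕ) (X : Subgroup H), X.Normal →
    ⁅X, C.lowerCentralSeries k⁆ ≤ itc X C (k + 1) := by
  intro k
  induction k with
  | zero => exact fun X _ => le_rfl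
  | succ k ih =>
    intro X hX
    have := itc_normal X C (k + 1 + 1)
    rw [Subgroup.lowerCentralSeries_succ, Subgroup.commutator_comm X]
    refine Cfsg.Agent.Lib.PGroups.three_subgroup_normal ?_ ?_
    · rw [Subgroup.commutator_comm C X, ← itc_shift X C (k + 1)]
      exact ih _ (Subgroup.commutator_normal _ _)
    · exact Subgroup.commutator_mono (ih X hX) le_rfl

theorem isNilpotent_of_descending {H : Type*} [Group H] (F C : Subgroup H) [F.Normal] [C.Normal]
    (hCF : ∀ c ∈ C, (∀ x ∈ F, x * c = c * x) → c ∈ F) {m : ℕ} (hm : itc F C m = ⊥) :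
    Group.IsNilpotent C := by
  rw [Subgroup.isNilpotent_iff_lowerCentralSeries]
  have h1 : C.lowerCentralSeries m ≤ F := by
    intro c hc
    refine hCF c (Subgroup.lowerCentralSeries_antitone C (Nat.zero_le m) hc) fun x hx => ?_
    have h2 : ⁅x, c⁆ ∈ itc F C (m + 1) :=
      commutator_lcs_le C m F ‹F.Normal› (Subgroup.commutator_mem_commutator hx hc)
    have h3 : itc F C (m + 1) = ⊥ := by
      show ⁅itc F C m, C⁆ = ⊥
      rw [hm, Subgroup.commutator_bot_left]
    rw [h3, Subgroup.mem_bot] at h2
    exact commutatorElement_eq_one_iff_mul_comm.mp h2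
  have h4 : ∀ k, C.lowerCentralSeries (m + k) ≤ itc F C k := fun k => by
    induction k with
    | zero => exact h1
    | succ k ih => exact Subgroup.commutator_mono ih le_rfl
  exact ⟨m + m, le_bot_iff.mp ((h4 m).trans hm.le)⟩

/-- The chief factor condition. -/
def IsChief {H : Type*} [Group H] (U V : Subgroup H) : Prop :=
  U.Normal ∧ V.Normal ∧ V < U ∧ ∀ W : Subgroup H, W.Normal → V ≤ W → W ≤ U → W = V ∨ W = U

theorem centralizes_chief {H : Type*} [Group H] [Finite H] {W U V : Subgroup H} [W.Normal]
    (hW : Group.IsNilpotent W) (h : IsChief U V) {g : H} (hg : g ∈ W) :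
    ∀ u ∈ U, u * g * u⁻¹ * g⁻¹ ∈ V := by
  obtain ⟨hU, hV, hlt, hmin⟩ := h
  intro u hu
  set f := QuotientGroup.mk' V
  have hfs : Function.Surjective f := QuotientGroup.mk'_surjective V
  have hU' : (U.map f).Normal := hU.map f hfs
  have hW' : (W.map f).Normal := ‹W.Normal›.map f hfs
  have hminq : ∀ Z : Subgroup (H ⧸ V), Z.Normal → Z ≤ U.map f → Z = ⊥ ∨ Z = U.map f := by
    intro Z hZ hZU
    have hle : V ≤ Z.comap f := fun x hx => Subgroup.mem_comap.mpr (by
      rw [show f x = 1 from (QuotientGroup.eq_one_iff x).mpr hx]; exact one_mem _)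
    have hle2 : Z.comap f ≤ U := by
      refine (Subgroup.comap_mono hZU).trans ?_
      rw [Subgroup.comap_map_eq, QuotientGroup.ker_mk']
      exact sup_le le_rfl hlt.le
    rcases hmin _ (hZ.comap f) hle hle2 with h | h
    · left
      rw [← Subgroup.map_comap_eq_self_of_surjective hfs Z, h, QuotientGroup.map_mk'_self]
    · right
      rw [← Subgroup.map_comap_eq_self_of_surjective hfs Z, h]
  have hcomm : f u * f g = f g * f u := by
    rcases hminq (U.map f ⊓ W.map f) (Subgroup.normal_inf_normal _ _) inf_le_left with h | h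
    · refine commutatorElement_eq_one_iff_mul_comm.mp (Subgroup.mem_bot.mp ?_)
      rw [← h]
      exact Subgroup.commutator_le_inf _ _
        (Subgroup.commutator_mem_commutator (Subgroup.mem_map_of_mem f hu) (Subgroup.mem_map_of_mem f hg))
    · have : Group.IsNilpotent ↥(W.map f) :=
        Group.nilpotent_of_surjective (f.subgroupMap W) (f.subgroupMap_surjective W)
      have hne : (U.map f).subgroupOf (W.map f) ≠ ⊥ := by
        rw [Ne, Subgroup.subgroupOf_eq_bot, disjoint_iff, h, Subgroup.map_eq_bot_iff, QuotientGroup.ker_mk']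
        exact not_le_of_gt hlt
      have hne2 := Cfsg.Agent.Lib.Solvable.inf_center_ne_bot hne
      have hZn : (U.map f ⊓ (Subgroup.center ↥(W.map f)).map (W.map f).subtype).Normal := by
        have : ((Subgroup.center ↥(W.map f)).map (W.map f).subtype).Normal :=
          ConjAct.normal_of_characteristic_of_normal
        exact Subgroup.normal_inf_normal _ _
      rcases hminq _ hZn inf_le_left with h0 | h0
      · refine absurd ?_ hne2
        rw [Subgroup.eq_bot_iff_forall]
        intro z hz
        obtain ⟨hz1, hz2⟩ := Subgroup.mem_inf.mp hz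
        have : (z : H ⧸ V) ∈ U.map f ⊓ (Subgroup.center ↥(W.map f)).map (W.map f).subtype :=
          Subgroup.mem_inf.mpr ⟨hz1, z, hz2, rfl⟩
        rw [h0, Subgroup.mem_bot] at this
        exact Subtype.ext this
      · obtain ⟨-, z, hz, hzu⟩ := Subgroup.mem_inf.mp (h0.ge (Subgroup.mem_map_of_mem f hu))
        have := Subgroup.mem_center_iff.mp hz ⟨f g, Subgroup.mem_map_of_mem f hg⟩
        rw [← hzu]
        exact (congrArg Subtype.val this).symm
  rw [← QuotientGroup.eq_one_iff]
  have : ⁅f u, f g⁆ = 1 := commutatorElement_eq_one_iff_mul_comm.mpr hcomm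
  rw [← map_commutatorElement] at this
  exact this

/-- Let G be a finite solvable group and N a normal subgroup of G. Call a pair V < U of normal subgroups of G a chief factor of G when no normal subgroup of G lies strictly between them; an element g centralizes the chief factor U/V when u g u⁻¹ g⁻¹ ∈ V for all u ∈ U. Then an element of G lies in the Fitting subgroup F(N) if and only if it lies in N and centralizes every chief factor of G; and also if and only if it lies in N and centralizes every chief factor U/V of G with U ≤ F(N). -/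
theorem result {G : Type*} [Group G] [Finite G] (hG : Group.IsSolvable G) (N : Subgroup G) [N.Normal] (g : G) : (g ∈ (Cfsg.fittingSubgroup ↥N).map N.subtype ↔ g ∈ N ∧ ∀ U V : Subgroup G, (U.Normal ∧ V.Normal ∧ V < U ∧ ∀ W : Subgroup G, W.Normal → V ≤ W → W ≤ U → W = V ∨ W = U) → ∀ u ∈ U, u * g * u⁻¹ * g⁻¹ ∈ V) ∧ (g ∈ (Cfsg.fittingSubgroup ↥N).map N.subtype ↔ g ∈ N ∧ ∀ U V : Subgroup G, (U.Normal ∧ V.Normal ∧ V < U ∧ ∀ W : Subgroup G, W.Normal → V ≤ W → W ≤ U → W = V ∨ W = U) → U ≤ (Cfsg.fittingSubgroup ↥N).map N.subtype → ∀ u ∈ U, u * g * u⁻¹ * g⁻¹ ∈ V) := by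
  classical
  set F := (Cfsg.fittingSubgroup N).map N.subtype with hF
  have := Cfsg.Agent.Lib.Cores.fittingSubgroup_characteristic N
  have hFn : F.Normal := ConjAct.normal_of_characteristic_of_normal
  have hFnil : Group.IsNilpotent F := by
    have := Cfsg.Agent.Lib.Cores.fittingSubgroup_isNilpotent N
    exact Group.nilpotent_of_surjective (N.subtype.subgroupMap _) (N.subtype.subgroupMap_surjective _)
  have hfwd : g ∈ F → ∀ U V : Subgroup G, IsChief U V → ∀ u ∈ U, u * g * u⁻¹ * g⁻¹ ∈ V :=
    fun hg U V h => centralizes_chief hFnil h hg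
  have hback : g ∈ N → (∀ U V : Subgroup G, IsChief U V → U ≤ F → ∀ u ∈ U, u * g * u⁻¹ * g⁻¹ ∈ V) → g ∈ F := by
    intro hgN hg
    set C : Subgroup G := N ⊓ ⨅ (U : Subgroup G) (V : Subgroup G) (h : IsChief U V) (_ : U ≤ F),
      haveI := h.2.1
      (Subgroup.centralizer ((U.map (QuotientGroup.mk' V) : Subgroup (G ⧸ V)) : Set (G ⧸ V))).comap
        (QuotientGroup.mk' V) with hC
    have hCn : C.Normal := by
      refine @Subgroup.normal_inf_normal _ _ _ _ ‹N.Normal› (Subgroup.normal_iInf_normal fun U =>
        Subgroup.normal_iInf_normal fun V => Subgroup.normal_iInf_normal fun h =>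
          Subgroup.normal_iInf_normal fun _ => ?_)
      have := h.2.1
      have : (U.map (QuotientGroup.mk' V)).Normal := h.1.map _ (QuotientGroup.mk'_surjective V)
      exact Subgroup.Normal.comap inferInstance _
    have hmemC : ∀ c : G, c ∈ C ↔ c ∈ N ∧
        ∀ U V : Subgroup G, IsChief U V → U ≤ F → ∀ u ∈ U, u * c * u⁻¹ * c⁻¹ ∈ V := by
      intro c
      simp only [hC, Subgroup.mem_inf, Subgroup.mem_iInf, Subgroup.mem_comap]
      refine and_congr Iff.rfl (forall_congr' fun U => forall_congr' fun V => forall_congr' fun h =>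
        forall_congr' fun _ => ?_)
      have := h.2.1
      constructor
      · intro hc u hu
        rw [← QuotientGroup.eq_one_iff, ← commutatorElement_def, ← QuotientGroup.mk'_apply,
          map_commutatorElement, commutatorElement_eq_one_iff_mul_comm]
        exact hc _ (Subgroup.mem_map_of_mem _ hu)
      · rintro hc _ ⟨u, hu, rfl⟩
        have := hc u hu
        rw [← QuotientGroup.eq_one_iff, ← commutatorElement_def, ← QuotientGroup.mk'_apply,
          map_commutatorElement, commutatorElement_eq_one_iff_mul_comm] at this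
        exact this
    have hdesc : ∀ W : Subgroup G, W.Normal → W ≤ F → W ≠ ⊥ → ⁅W, C⁆ < W := by
      intro W hW hWF hW1
      obtain ⟨V, hV⟩ := Set.Finite.exists_maximal (s := {V : Subgroup G | V.Normal ∧ V < W})
        (Set.toFinite _) ⟨⊥, inferInstance, bot_lt_iff_ne_bot.mpr hW1⟩
      have hVn := hV.1.1
      have hch : IsChief W V := ⟨hW, hVn, hV.1.2, fun Z hZ hVZ hZW => by
        by_contra hcon
        push Not at hcon
        exact hcon.1 (le_antisymm (hV.2 ⟨hZ, lt_of_le_of_ne hZW hcon.2⟩ hVZ) hVZ)⟩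
      refine lt_of_le_of_lt (Subgroup.commutator_le.mpr fun w hw c hc => ?_) hV.1.2
      exact ((hmemC c).mp hc).2 W V hch hWF w hw
    have hitc : ∀ k, itc F C k ≤ F := by
      intro k
      induction k with
      | zero => exact le_rfl
      | succ k ih => exact (Subgroup.commutator_mono ih le_rfl).trans (Subgroup.commutator_le_left _ _)
    obtain ⟨m, hm⟩ : ∃ m, itc F C m = ⊥ := by
      by_contra hne
      push Not at hne
      have hbound : ∀ k, Nat.card (itc F C k) + k ≤ Nat.card F := by
        intro k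
        induction k with
        | zero => exact le_rfl
        | succ k ih =>
          have h1 : itc F C (k + 1) < itc F C k := hdesc _ (itc_normal F C k) (hitc k) (hne k)
          have h2 : Nat.card (itc F C (k + 1)) < Nat.card (itc F C k) :=
            lt_of_le_of_ne (Subgroup.card_le_of_le h1.le)
              fun h => h1.ne (Subgroup.eq_of_le_of_card_ge h1.le h.ge)
          omega
      have := hbound (Nat.card F + 1)
      omega
    have hCN : C ≤ N := inf_le_left
    have hCnil : Group.IsNilpotent C := isNilpotent_of_descending F C (fun c hc hcF => by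
      refine ⟨⟨c, hCN hc⟩, ?_, rfl⟩
      have hN : Group.IsSolvable N := Group.isSolvable_of_isSolvable_injective N.subtype_injective
      refine Cfsg.Agent.Lib.Cores.centralizer_fittingSubgroup_le hN ?_
      intro x hx
      exact Subtype.ext (hcF (x : G) ⟨x, hx, rfl⟩)) hm
    have hle : C.subgroupOf N ≤ Cfsg.fittingSubgroup N :=
      Cfsg.Agent.Lib.Cores.le_fittingSubgroup (hCn.subgroupOf N)
        (Group.nilpotent_of_mulEquiv (Subgroup.subgroupOfEquivOfLe hCN).symm)
    exact ⟨⟨g, hgN⟩, hle ((hmemC g).mpr ⟨hgN, hg⟩), rfl⟩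
  have hFN : F ≤ N := Subgroup.map_subtype_le _
  exact ⟨⟨fun h => ⟨hFN h, hfwd h⟩, fun h => hback h.1 fun U V hc _ => h.2 U V hc⟩,
    ⟨fun h => ⟨hFN h, fun U V hc _ => hfwd h U V hc⟩, fun h => hback h.1 h.2⟩⟩

end Cfsg.Agent.S3766
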