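import Cfsg.Statements.S3767
import Cfsg.Agent.Lib.PGroups.ExtraOddIso
import Cfsg.Agent.Lib.PGroups.SympSpectrum
import Cfsg.Agent.Lib.Cores.Frattini

set_option autoImplicit false
open Cfsg

namespace Cfsg.Agent.S3767

/-- Let P be an extraspecial p-group of order p^(2n+1) and H a cyclic group of order h prime to p acting on P (inside a common finite group: H normalizes P) so that C_P(x) = Z(P) for every non-identity x ∈ H. Then h divides p^n + 1 or h divides p^n − 1. -/
theorem result {G : Type*} [Group G] [Finite G] {p : ℕ} [Fact p.Prime] (P H : Subgroup G) (hP : Cfsg.IsExtraspecial p ↥P) (n : ℕ) (hn : Nat.card P = p ^ (2 * n + 1)) (hH : IsCyclic H) (hcop : (Nat.card H).Coprime p) (hHP : H ≤ Subgroup.normalizer (P : Set G)) (hfix : ∀ x ∈ H, x ≠ 1 → P ⊓ Subgroup.centralizer {x} = (Subgroup.center ↥P).map P.subtype) : Nat.card H ∣ p ^ n + 1 ∨ Nat.card H ∣ p ^ n - 1 := by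

  classical
  have hp : p.Prime := Fact.out
  obtain ⟨m, hm, ⟨c⟩⟩ := Lib.PGroups.ExtraOddIso.exists_coords hP (fun a => by
    rw [← hP.1.2.1]
    exact Lib.Cores.pow_mem_frattini hP.1.1 a)
  have hnm : n = m := by
    rw [hn] at hm
    have : p ^ (2 * n + 1) = p ^ (m + m + 1) := by rw [hm, pow_succ]; ring
    have := Nat.pow_right_injective hp.two_le this
    omega
  subst hnm
  obtain ⟨x, hx⟩ := Subgroup.isCyclic_iff_exists_zpowers_eq_top H |>.mp hH
  have hxH : x ∈ H := hx.le (Subgroup.mem_zpowers x)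
  have hho : orderOf x = Nat.card H := by rw [← Nat.card_zpowers, hx]
  let conjP : ℕ → P → P := fun j a => ⟨x ^ j * a * (x ^ j)⁻¹, (Subgroup.mem_normalizer_iff.mp (hHP (pow_mem hxH j)) a).mp a.2⟩
  have hcm : ∀ j a b, conjP j (a * b) = conjP j a * conjP j b := fun j a b => Subtype.ext (by
    show x ^ j * ((a : G) * b) * (x ^ j)⁻¹ = (x ^ j * a * (x ^ j)⁻¹) * (x ^ j * b * (x ^ j)⁻¹); group)
  have hadd : ∀ i j a, conjP (i + j) a = conjP i (conjP j a) := fun i j a => Subtype.ext (by
    show x ^ (i + j) * (a : G) * (x ^ (i + j))⁻¹ = x ^ i * (x ^ j * a * (x ^ j)⁻¹) * (x ^ i)⁻¹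
    rw [pow_add]; group)
  have h0 : ∀ a, conjP 0 a = a := fun a => Subtype.ext (by show x ^ 0 * (a : G) * (x ^ 0)⁻¹ = a; group)
  -- central elements are fixed
  have hcen : ∀ a : P, a ∈ Subgroup.center P → ∀ j, conjP j a = a := by
    intro a ha j
    by_cases hj : x ^ j = 1
    · exact Subtype.ext (by show x ^ j * (a : G) * (x ^ j)⁻¹ = a; simp [hj])
    have hmem := (hfix _ (pow_mem hxH j) hj).ge (Subgroup.mem_map_of_mem _ ha)
    refine Subtype.ext ?_
    show x ^ j * (a : G) * (x ^ j)⁻¹ = a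
    rw [mul_inv_eq_iff_eq_mul]
    exact Subgroup.mem_centralizer_iff.mp hmem.2 _ rfl
  -- moved modulo the centre
  have hmove : ∀ j a, x ^ j ≠ 1 → a⁻¹ * conjP j a ∈ Subgroup.center P → a ∈ Subgroup.center P := by
    intro j a hj hc
    set z := a⁻¹ * conjP j a with hz
    have e : conjP j a = a * z := by rw [hz, mul_inv_cancel_left]
    have hit : ∀ t : ℕ, conjP (j * t) a = a * z ^ t := by
      intro t
      induction t with
      | zero => rw [mul_zero, h0, pow_zero, mul_one]
      | succ t ih => rw [Nat.mul_succ, Nat.add_comm, hadd, ih, hcm, e, hcen _ (pow_mem hc t), mul_assoc, ← pow_succ']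
    have hzh : z ^ Nat.card H = 1 := by
      have := hit (Nat.card H)
      rw [show conjP (j * Nat.card H) a = a from Subtype.ext (by
        show x ^ (j * Nat.card H) * (a : G) * (x ^ (j * Nat.card H))⁻¹ = a
        rw [mul_comm j, pow_mul, ← hho, pow_orderOf_eq_one, one_pow, inv_one, one_mul, mul_one])] at this
      exact (left_eq_mul.mp this)
    have hzp : z ^ p = 1 := by
      have h := pow_card_eq_one' (G := Subgroup.center P) (x := ⟨z, hc⟩)
      rw [hP.2] at h
      exact congrArg Subtype.val h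
    have hz1 : z = 1 := by
      have := Nat.dvd_gcd (orderOf_dvd_of_pow_eq_one hzh) (orderOf_dvd_of_pow_eq_one hzp)
      rw [hcop, Nat.dvd_one] at this
      exact orderOf_eq_one_iff.mp this
    rw [hz1, mul_one] at e
    have hfx : (a : G) ∈ P ⊓ Subgroup.centralizer {x ^ j} := ⟨a.2, Subgroup.mem_centralizer_iff.mpr fun y hy => by
      rw [Set.mem_singleton_iff.mp hy]
      exact mul_inv_eq_iff_eq_mul.mp (congrArg Subtype.val e)⟩
    rw [hfix _ (pow_mem hxH j) hj] at hfx
    obtain ⟨b, hb, hba⟩ := hfx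
    exact (Subtype.ext hba : b = a) ▸ hb
  -- the induced linear map
  have hπinv : ∀ a, c.π a⁻¹ = - c.π a := fun a => by
    have h := c.map_mul a a⁻¹
    rw [mul_inv_cancel, (c.ker 1).mpr (one_mem _)] at h
    exact eq_neg_of_add_eq_zero_right h.symm
  let ω := Function.surjInv c.surj
  have hω : ∀ v, c.π (ω v) = v := Function.surjInv_eq c.surj
  have hwd : ∀ j a b, c.π a = c.π b → c.π (conjP j a) = c.π (conjP j b) := by
    intro j a b hab
    have hz : a⁻¹ * b ∈ Subgroup.center P := by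
      rw [← c.ker, c.map_mul, hπinv, hab, neg_add_cancel]
    conv_rhs => rw [← mul_inv_cancel_left a b, hcm, c.map_mul, hcen _ hz, (c.ker _).mpr hz, add_zero]
  let T : (Fin n ⊕ Fin n → ZMod p) →ₗ[ZMod p] (Fin n ⊕ Fin n → ZMod p) :=
    AddMonoidHom.toZModLinearMap p (AddMonoidHom.mk' (fun v => c.π (conjP 1 (ω v))) fun u v => by
      rw [← c.map_mul, ← hcm]
      exact hwd 1 _ _ (by rw [c.map_mul, hω, hω, hω]))
  set M := LinearMap.toMatrix' T with hM
  have hMv : ∀ a, M.mulVec (c.π a) = c.π (conjP 1 a) := fun a => by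
    rw [hM, LinearMap.toMatrix'_mulVec]
    exact hwd 1 _ _ (hω _)
  have hMj : ∀ j a, (M ^ j).mulVec (c.π a) = c.π (conjP j a) := by
    intro j a
    induction j with
    | zero => rw [pow_zero, Matrix.one_mulVec, h0]
    | succ j ih => rw [pow_succ', ← Matrix.mulVec_mulVec, ih, hMv, Nat.add_comm j 1, hadd]
  let J : Matrix (Fin n ⊕ Fin n) (Fin n ⊕ Fin n) (ZMod p) := Matrix.fromBlocks 0 1 (-1) 0
  have hJ : ∀ u v, dotProduct u (J.mulVec v) = Lib.PGroups.ExtraOddIso.Omega u v := by
    intro u v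
    simp only [J, Matrix.fromBlocks_mulVec, dotProduct, Fintype.sum_sum_type, Sum.elim_inl, Sum.elim_inr,
      Matrix.zero_mulVec, Matrix.one_mulVec, Matrix.neg_mulVec, zero_add, add_zero, Function.comp_apply,
      Pi.neg_apply, mul_neg, Finset.sum_neg_distrib]
    rw [Lib.PGroups.ExtraOddIso.Omega, Finset.sum_sub_distrib, sub_eq_add_neg]
  have hJu : IsUnit J.det := by
    refine Matrix.isUnit_det_of_right_inverse (B := Matrix.fromBlocks 0 (-1) 1 0) ?_
    simp [J, Matrix.fromBlocks_multiply, Matrix.fromBlocks_one]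
  have hform : M.transpose * J * M = J := by
    refine Matrix.ext fun i l => ?_
    have key : ∀ u v, dotProduct u ((M.transpose * J * M).mulVec v) = dotProduct u (J.mulVec v) := by
      intro u v
      obtain ⟨a, rfl⟩ := c.surj u
      obtain ⟨b, rfl⟩ := c.surj v
      rw [mul_assoc, ← Matrix.mulVec_mulVec, Matrix.dotProduct_mulVec, Matrix.vecMul_transpose,
        ← Matrix.mulVec_mulVec, hMv, hMv, hJ, hJ, ← c.sig_comm, ← c.sig_comm]
      congr 1
      conv_rhs => rw [← hcen _ (c.comm a b) 1]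
      exact (map_commutatorElement (MonoidHom.mk' (conjP 1) (hcm 1)) a b).symm
    have := key (Pi.single i 1) (Pi.single l 1)
    simpa [Matrix.mulVec_single, single_dotProduct] using this
  refine Lib.PGroups.SympSpectrum.dvd_pow_pm (by simp [two_mul]) J M hJu hform
    (fun h => hp.one_lt.ne' (Nat.dvd_one.mp (hcop ▸ Nat.dvd_gcd h dvd_rfl))) Nat.card_pos ?_ ?_
  · refine LinearEquiv.injective Matrix.toLin' (LinearMap.ext fun v => ?_)
    obtain ⟨a, rfl⟩ := c.surj v
    rw [Matrix.toLin'_apply, Matrix.toLin'_apply, hMj, Matrix.one_mulVec]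
    congr 1
    refine Subtype.ext ?_
    show x ^ Nat.card H * (a : G) * (x ^ Nat.card H)⁻¹ = a
    rw [← hho, pow_orderOf_eq_one, inv_one, one_mul, mul_one]
  · intro j hj0 hjh hdet
    obtain ⟨v, hv, hMvv⟩ := Matrix.exists_mulVec_eq_zero_iff.mpr hdet
    obtain ⟨a, rfl⟩ := c.surj v
    rw [Matrix.sub_mulVec, Matrix.one_mulVec, hMj, sub_eq_zero] at hMvv
    refine hv ((c.ker a).mpr (hmove j a ?_ ?_))
    · exact pow_ne_one_of_lt_orderOf hj0.ne' (hho ▸ hjh)
    · rw [← c.ker, c.map_mul, hπinv, hMvv, neg_add_cancel]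

end Cfsg.Agent.S3767
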