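import Cfsg.Statements.S3768
import Cfsg.Agent.Lib.Frobenius.Complement
import Cfsg.Agent.Lib.Frobenius.Kernel
import Cfsg.Agent.Lib.Coprime.Basic

set_option autoImplicit false
open Cfsg

namespace Cfsg.Agent.S3768

/-- Let G be a finite Frobenius group with Frobenius complement R and Frobenius kernel K (the identity together with the elements in no conjugate of R), and let N be a normal subgroup of G not containing K. Then G/N is a Frobenius group with Frobenius complement RN/N whose Frobenius kernel is the image of K. -/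
theorem result {G : Type*} [Group G] [Finite G] (R : Subgroup G) (hR : Cfsg.IsFrobeniusComplement R) (N : Subgroup G) [N.Normal] (hKN : ¬ Cfsg.frobeniusKernel R ⊆ N) : Cfsg.IsFrobeniusComplement (R.map (QuotientGroup.mk' N)) ∧ Cfsg.frobeniusKernel (R.map (QuotientGroup.mk' N)) = QuotientGroup.mk' N '' Cfsg.frobeniusKernel R := by
  classical
  obtain ⟨K, hKn, hKset, hdisj, hsup, -, -, -⟩ := Cfsg.Agent.Lib.Frobenius.exists_frobeniusKernel hR
  have hfpf := Cfsg.Agent.Lib.Frobenius.frobeniusKernel_fixedPointFree hR hKset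
  -- `a ↦ [h, a]` is a bijection on a normal subgroup inside the kernel
  have hbij : ∀ h ∈ R, h ≠ 1 → ∀ L : Subgroup G, L.Normal → L ≤ K → ∀ y ∈ L,
      ∃ m ∈ L, h * m * h⁻¹ * m⁻¹ = y := by
    intro h hh h1 L hL hLK y hy
    let f : L → L := fun m => ⟨h * m * h⁻¹ * (m : G)⁻¹, mul_mem (hL.conj_mem _ m.2 h) (inv_mem m.2)⟩
    have hinj : Function.Injective f := by
      intro m m' hm
      have hm' : h * m * h⁻¹ * (m : G)⁻¹ = h * m' * h⁻¹ * (m' : G)⁻¹ := congrArg Subtype.val hm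
      have hfix : h * ((m' : G)⁻¹ * m) = ((m' : G)⁻¹ * m) * h := by
        rw [← mul_inv_eq_iff_eq_mul]
        calc h * ((m' : G)⁻¹ * m) * h⁻¹ = (h * m' * h⁻¹)⁻¹ * (h * m * h⁻¹ * (m : G)⁻¹) * m := by group
          _ = (h * m' * h⁻¹)⁻¹ * (h * m' * h⁻¹ * (m' : G)⁻¹) * m := by rw [hm']
          _ = (m' : G)⁻¹ * m := by group
      have := hfpf h hh h1 _ (hLK (mul_mem (inv_mem m'.2) m.2)) hfix
      exact Subtype.ext (inv_mul_eq_one.mp this).symm
    obtain ⟨m, hm⟩ := (Finite.injective_iff_surjective.mp hinj) ⟨y, hy⟩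
    exact ⟨m, m.2, congrArg Subtype.val hm⟩
  have hNK : N ≤ K := by
    intro x hx
    by_contra hxK
    have hx' : x ∉ Cfsg.frobeniusKernel R := fun h => hxK (by rwa [← SetLike.mem_coe, hKset])
    rw [Cfsg.Agent.Lib.Frobenius.mem_frobeniusKernel_iff] at hx'
    push Not at hx'
    obtain ⟨hx1, g, hg⟩ := hx'
    have hgN : g⁻¹ * x * g ∈ N := by simpa using ‹N.Normal›.conj_mem x hx g⁻¹
    have hg1 : g⁻¹ * x * g ≠ 1 := fun h => hx1 (by
      calc x = g * (g⁻¹ * x * g) * g⁻¹ := by group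
        _ = 1 := by rw [h]; group)
    refine hKN fun y hy => ?_
    rw [← hKset] at hy
    obtain ⟨m, -, rfl⟩ := hbij _ hg hg1 K hKn le_rfl y hy
    have := mul_mem hgN (‹N.Normal›.conj_mem _ (inv_mem hgN) m)
    simpa [mul_assoc] using this
  set f := QuotientGroup.mk' N with hf
  have hfs : Function.Surjective f := QuotientGroup.mk'_surjective N
  have : (K.map f).Normal := hKn.map f hfs
  have hd : K.map f ⊓ R.map f = ⊥ := by
    rw [Subgroup.eq_bot_iff_forall]
    intro z hz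
    obtain ⟨⟨k, hk, rfl⟩, r, hr, hrk⟩ := Subgroup.mem_inf.mp hz
    have hrN : r⁻¹ * k ∈ N := QuotientGroup.eq.mp hrk
    have hrK : r ∈ K ⊓ R := Subgroup.mem_inf.mpr ⟨by
      have := mul_mem hk (inv_mem (hNK hrN))
      simpa [mul_assoc] using this, hr⟩
    rw [hdisj, Subgroup.mem_bot] at hrK
    rw [← hrk, hrK, map_one]
  have hs : K.map f ⊔ R.map f = ⊤ := by
    rw [← Subgroup.map_sup, hsup, Subgroup.map_top_of_surjective f hfs]
  have hKne : K.map f ≠ ⊥ := fun h => hKN (by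
    rw [Subgroup.map_eq_bot_iff, QuotientGroup.ker_mk'] at h
    rw [← hKset]; exact h)
  have hRne : R.map f ≠ ⊥ := fun h => hR.1 (by
    rw [Subgroup.map_eq_bot_iff, QuotientGroup.ker_mk'] at h
    rw [← le_bot_iff, ← hdisj]
    exact le_inf (h.trans hNK) le_rfl)
  have hff : ∀ h ∈ R.map f, h ≠ 1 → ∀ n ∈ K.map f, h * n = n * h → n = 1 := by
    rintro _ ⟨r, hr, rfl⟩ hr1 _ ⟨k, hk, rfl⟩ hc
    have hr1' : r ≠ 1 := fun h => hr1 (by rw [h, map_one])
    have hcN : r * k * r⁻¹ * k⁻¹ ∈ N := by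
      rw [← QuotientGroup.eq_one_iff, ← QuotientGroup.mk'_apply, ← hf]
      simp only [map_mul, map_inv, hc]
      group
    obtain ⟨n, hn, hnc⟩ := hbij r hr hr1' N ‹N.Normal› hNK _ hcN
    have hfix : r * (n⁻¹ * k) = (n⁻¹ * k) * r := by
      rw [← mul_inv_eq_iff_eq_mul]
      calc r * (n⁻¹ * k) * r⁻¹ = (r * n * r⁻¹)⁻¹ * (r * k * r⁻¹ * k⁻¹) * k := by group
        _ = (r * n * r⁻¹)⁻¹ * (r * n * r⁻¹ * n⁻¹) * k := by rw [← hnc]
        _ = n⁻¹ * k := by group
    have := hfpf r hr hr1' _ (mul_mem (inv_mem (hNK hn)) hk) hfix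
    rw [show k = n from (inv_mul_eq_one.mp this).symm]
    exact (QuotientGroup.eq_one_iff n).mpr hn
  refine ⟨Cfsg.Agent.Lib.Frobenius.isFrobeniusComplement_of_fixedPointFree hd hs hKne hRne hff, ?_⟩
  rw [Cfsg.Agent.Lib.Frobenius.frobeniusKernel_eq_of_fixedPointFree hd hs hff, Subgroup.coe_map, hKset]

end Cfsg.Agent.S3768
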