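import Cfsg.Statements.S3769
import Mathlib
import Cfsg.Agent.Lib.OddLocal.CriticalAction
import Cfsg.Agent.Lib.Coprime.Action
-- import your own Cfsg.Agent.* helpers here

set_option autoImplicit false
open Cfsg

namespace Cfsg.Agent.S3769


/-- Let G and V be subgroups of a finite group with G solvable of odd order normalizing V, V an elementary abelian ℓ-group for a prime ℓ not dividing the order of G, and suppose G has a normal Hall subgroup K with a complement R of prime order. If C_V(R) = 1, then [R, K] centralizes V. -/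
theorem result {X : Type*} [Group X] [Finite X] (G : Subgroup X) (hsolv : Group.IsSolvable G) (hodd : Odd (Nat.card G)) (V : Subgroup X) {ℓ : ℕ} (hℓ : ℓ.Prime) (hV : Cfsg.IsElementaryAbelian ℓ V) (hℓG : ¬ ℓ ∣ Nat.card G) (hGV : G ≤ Subgroup.normalizer (V : Set X)) (K R : Subgroup X) (hKG : K ≤ G) (hKn : G ≤ Subgroup.normalizer (K : Set X)) (hHall : (Nat.card K).Coprime (K.relIndex G)) (hRG : R ≤ G) (hR : (Nat.card R).Prime) (hKR : K ⊓ R = ⊥) (hKRG : K ⊔ R = G) (hCV : V ⊓ Subgroup.centralizer (R : Set X) = ⊥) : ⁅R, K⁆ ≤ Subgroup.centralizer (V : Set X) := by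
  classical
  have : Fact ℓ.Prime := ⟨hℓ⟩
  set r := Nat.card R with hr
  have hr2 : r ≠ 2 := fun h => by
    have := hodd.of_dvd_nat (Subgroup.card_dvd_of_le hRG)
    rw [← hr, h] at this
    exact absurd this (by decide)
  have hrl : r ≠ ℓ := fun h => hℓG (h ▸ hr ▸ Subgroup.card_dvd_of_le hRG)
  have hRK : R ≤ Subgroup.normalizer (K : Set X) := hRG.trans hKn
  have hrel : K.relIndex G = r := by
    have h1 := Cfsg.Agent.Lib.Coprime.card_sup_mul_card_inf hRK
    rw [hKRG, hKR, Subgroup.card_bot, mul_one] at h1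
    have h2 := Cfsg.Agent.Lib.Coprime.relIndex_mul_card hKG
    rw [h1] at h2
    exact Nat.eq_of_mul_eq_mul_left Nat.card_pos h2
  have hcop : (Nat.card R).Coprime (Nat.card K) := by
    rw [hrel] at hHall
    exact hHall.symm
  have hsolvR : Group.IsSolvable R := by
    haveI : Fact r.Prime := ⟨hR⟩
    haveI : Group.IsNilpotent R := (IsPGroup.of_card (p := r) (G := R) (n := 1) (pow_one r).symm).isNilpotent
    infer_instance
  set C := Subgroup.centralizer (V : Set X) with hC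
  have hnorm : ∀ k ∈ Subgroup.normalizer (V : Set X), ∀ c ∈ C, k * c * k⁻¹ ∈ C := by
    intro k hk c hc
    rw [hC, Subgroup.mem_centralizer_iff] at hc ⊢
    intro v hv
    have hv' : k⁻¹ * v * k ∈ V := (Subgroup.mem_normalizer_iff''.mp hk v).mp hv
    have h1 : k⁻¹ * v * k * c = c * (k⁻¹ * v * k) := hc _ hv'
    calc v * (k * c * k⁻¹) = k * (k⁻¹ * v * k * c) * k⁻¹ := by group
      _ = k * (c * (k⁻¹ * v * k)) * k⁻¹ := by rw [h1]
      _ = k * c * k⁻¹ * v := by group
  rw [Subgroup.commutator_le]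
  intro a ha
  rcases eq_or_ne a 1 with rfl | ha1
  · intro k _
    simp
  have har : a ^ r = 1 := by
    have := pow_card_eq_one' (x := (⟨a, ha⟩ : R))
    exact congrArg Subtype.val this
  have hza : Subgroup.zpowers a = R := Subgroup.eq_of_le_of_card_ge (Subgroup.zpowers_le.mpr ha) (by
    rcases (Nat.dvd_prime hR).mp (Subgroup.card_dvd_of_le (Subgroup.zpowers_le.mpr ha)) with h | h
    · exact absurd (Subgroup.eq_bot_of_card_eq _ h) (Subgroup.zpowers_ne_bot.mpr ha1)
    · rw [h])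
  have hVc : ∀ u ∈ V, ∀ v ∈ V, u * v = v * u := fun u hu v hv =>
    congrArg Subtype.val (hV.1.is_comm.comm (⟨u, hu⟩ : V) ⟨v, hv⟩)
  have hfpf : ∀ u ∈ V, a * u * a⁻¹ = u → u = 1 := by
    intro u hu h
    have hau : a * u = u * a := mul_inv_eq_iff_eq_mul.mp h
    have : u ∈ (⊥ : Subgroup X) := hCV ▸ ⟨hu, by
      rw [← hza]
      refine Subgroup.mem_centralizer_iff.mpr fun b hb => ?_
      obtain ⟨i, rfl⟩ := Subgroup.mem_zpowers_iff.mp hb
      exact ((show Commute a u from hau).zpow_left i).eq⟩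
    exact Subgroup.mem_bot.mp this
  have haV : a ∈ Subgroup.normalizer (V : Set X) := hGV (hRG ha)
  let S : Submonoid X :=
    { carrier := {k | k ∈ K ∧ a * k * a⁻¹ * k⁻¹ ∈ C}
      one_mem' := ⟨K.one_mem, by simp⟩
      mul_mem' := fun {k₁ k₂} h₁ h₂ => ⟨K.mul_mem h₁.1 h₂.1, by
        have h3 := C.mul_mem h₁.2 (hnorm k₁ (hGV (hKG h₁.1)) _ h₂.2)
        have e : a * (k₁ * k₂) * a⁻¹ * (k₁ * k₂)⁻¹ =
            (a * k₁ * a⁻¹ * k₁⁻¹) * (k₁ * (a * k₂ * a⁻¹ * k₂⁻¹) * k₁⁻¹) := by group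
        rw [e]; exact h3⟩ }
  let T : Subgroup X :=
    { S with
      inv_mem' := fun {k} h => ⟨K.inv_mem h.1, by
        have h3 := hnorm k⁻¹ ((Subgroup.normalizer (V : Set X)).inv_mem (hGV (hKG h.1))) _ (C.inv_mem h.2)
        have e : a * k⁻¹ * a⁻¹ * k⁻¹⁻¹ = k⁻¹ * (a * k * a⁻¹ * k⁻¹)⁻¹ * k⁻¹⁻¹ := by group
        rw [e]; exact h3⟩ }
  have hTK : T ≤ K := fun k h => h.1
  have hdvd : Nat.card K ∣ Nat.card T := by
    rw [← Nat.factorization_le_iff_dvd Nat.card_pos.ne' Nat.card_pos.ne']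
    intro q
    by_cases hq : q.Prime
    swap
    · simp [Nat.factorization_eq_zero_of_not_prime _ hq]
    by_cases hqK : q ∣ Nat.card K
    swap
    · simp [Nat.factorization_eq_zero_of_not_dvd hqK]
    haveI : Fact q.Prime := ⟨hq⟩
    obtain ⟨Q, hQ⟩ := Cfsg.Agent.Lib.Coprime.exists_invariant_sylow hRK hcop
      (Or.inl hsolvR) q
    have hqG : q ∣ Nat.card G := hqK.trans (Subgroup.card_dvd_of_le hKG)
    have hq2 : q ≠ 2 := fun h => by
      subst h
      exact absurd (hodd.of_dvd_nat hqG) (by decide)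
    have hqr : q ≠ r := fun h => hq.not_dvd_one (by
      have := Nat.dvd_gcd (h ▸ dvd_refl r : r ∣ q) (dvd_refl r)
      exact (hcop.symm.gcd_eq_one) ▸ Nat.dvd_gcd hqK (h ▸ dvd_refl q))
    set Q' := (Q : Subgroup K).map K.subtype with hQ'
    have hQK : Q' ≤ K := Subgroup.map_subtype_le _
    have hQT : Q' ≤ T := by
      intro k hk
      refine ⟨hQK hk, ?_⟩
      rw [hC, Subgroup.mem_centralizer_iff]
      intro v hv
      have h := Cfsg.Agent.Lib.OddLocal.commute_commutator_of_fixedPointFree (U := V) (Q := Q') (x := a)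
        (p := ℓ) hR hr2 hrl hq hq2 (fun h => hℓG (h ▸ hqG)) hqr hVc (fun u hu => hV.2 u hu) har haV
        (hQ ha) (hQK.trans (hKG.trans hGV)) (Q.2.map _) hfpf k hk v hv
      exact h.symm
    have h1 : q ^ (Nat.card K).factorization q ∣ Nat.card T := by
      refine dvd_trans ?_ (Subgroup.card_dvd_of_le hQT)
      rw [Subgroup.card_map_of_injective K.subtype_injective, Q.card_eq_multiplicity]
    exact (hq.pow_dvd_iff_le_factorization Nat.card_pos.ne').mp h1
  have hTeq : T = K := Subgroup.eq_of_le_of_card_ge hTK (Nat.le_of_dvd Nat.card_pos hdvd)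
  intro k hk
  rw [← hTeq] at hk
  exact hk.2

end Cfsg.Agent.S3769
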