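import Cfsg.Statements.S3770
import Cfsg.Agent.Lib.FrobeniusFixedLine.Basic
import Cfsg.Agent.Lib.Frobenius.Kernel
import Cfsg.Agent.Lib.Solvable.FixedPointFree

set_option autoImplicit false
open Cfsg

namespace Cfsg.Agent.S3770

/-- Let G and V be subgroups of a finite group with G a Frobenius group with complement R of prime order and kernel K, G normalizing V, and V an elementary abelian ℓ-group for a prime ℓ not dividing the order of G. If C_V(R) has order ℓ, then the derived subgroup of K centralizes V. -/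
theorem result {X : Type*} [Group X] [Finite X] (G : Subgroup X) (V : Subgroup X) {ℓ : ℕ} (hℓ : ℓ.Prime) (hV : Cfsg.IsElementaryAbelian ℓ V) (hℓG : ¬ ℓ ∣ Nat.card G) (hGV : G ≤ Subgroup.normalizer (V : Set X)) (R : Subgroup ↥G) (hR : Cfsg.IsFrobeniusComplement R) (hRp : (Nat.card R).Prime) (hCV : Nat.card ↥(V ⊓ Subgroup.centralizer ((R.map G.subtype : Subgroup X) : Set X)) = ℓ) : ⁅Subgroup.closure (Subtype.val '' Cfsg.frobeniusKernel R), Subgroup.closure (Subtype.val '' Cfsg.frobeniusKernel R)⁆ ≤ Subgroup.centralizer (V : Set X) := by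
  classical
  obtain ⟨K, hKn, hKset, hKR, -, -, hKc, hKcard⟩ :=
    Cfsg.Agent.Lib.Frobenius.exists_frobeniusKernel hR
  have hfp := Cfsg.Agent.Lib.Frobenius.frobeniusKernel_fixedPointFree hR hKset
  haveI := Fact.mk hRp
  obtain ⟨⟨a, haR⟩, ha⟩ := exists_prime_orderOf_dvd_card' (G := R) (Nat.card R) dvd_rfl
  have hao : orderOf a = Nat.card R := by rwa [Subgroup.orderOf_mk] at ha
  have ha1 : a ≠ 1 := fun h => by rw [h, orderOf_one] at hao; exact hRp.ne_one hao.symm
  set KX := K.map G.subtype with hKX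
  have hKXG : KX ≤ G := Subgroup.map_subtype_le _
  haveI hKXnil : Group.IsNilpotent KX := by
    let σ : MulAut K := MulAut.conjNormal (H := K) a
    haveI : Group.IsNilpotent K :=
      Cfsg.Agent.Lib.Solvable.FixedPointFree.isNilpotent_of_fixedPointFree hRp σ
        (by rw [← map_pow, ← hao, pow_orderOf_eq_one, map_one]) fun k hk => Subtype.ext
          (hfp a haR ha1 k k.2 (mul_inv_eq_iff_eq_mul.mp (congrArg Subtype.val hk)))
    exact Group.nilpotent_of_mulEquiv (K.equivMapOfInjective _ G.subtype_injective)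
  have hVc : ∀ u ∈ V, ∀ v ∈ V, Commute u v := fun u hu v hv =>
    congrArg Subtype.val (hV.1.1.comm ⟨u, hu⟩ ⟨v, hv⟩)
  have hcop : (Nat.card KX).Coprime (Nat.card V) := by
    haveI := Fact.mk hℓ
    have hp : IsPGroup ℓ V := fun v => ⟨1, Subtype.ext (by simpa using hV.2 v v.2)⟩
    obtain ⟨n, hn⟩ := IsPGroup.iff_card.mp hp
    rw [hn]
    exact ((hℓ.coprime_iff_not_dvd.mpr hℓG).pow_left n).symm.coprime_dvd_left
      (Subgroup.card_dvd_of_le hKXG)
  haveI := Fact.mk hℓ
  set C := V ⊓ Subgroup.centralizer ((R.map G.subtype : Subgroup X) : Set X) with hC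
  haveI : IsCyclic C := isCyclic_of_prime_card hCV
  obtain ⟨⟨c, hc⟩, hgen⟩ := IsCyclic.exists_generator (α := C)
  have hRa : Subgroup.zpowers a = R := Subgroup.eq_of_le_of_card_ge (Subgroup.zpowers_le.mpr haR)
    (by rw [Nat.card_zpowers, hao])
  have hfix : ∀ v ∈ V, Commute (a : X) v → v ∈ Subgroup.zpowers c := by
    intro v hv hav
    obtain ⟨i, hi⟩ := Subgroup.mem_zpowers_iff.mp (hgen ⟨v, hv, Subgroup.mem_centralizer_iff.mpr
      fun x hx => by
        obtain ⟨y, hy, rfl⟩ := hx
        rw [← hRa] at hy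
        obtain ⟨j, rfl⟩ := Subgroup.mem_zpowers_iff.mp hy
        exact (by simpa using (hav.zpow_left j).eq)⟩)
    exact Subgroup.mem_zpowers_iff.mpr ⟨i, congrArg Subtype.val hi⟩
  have key := Cfsg.Agent.Lib.FrobeniusFixedLine.commutator_centralizes (V := V) (K := KX) (a := (a : X))
    hRp (by rw [Subgroup.orderOf_coe, hao]) hVc
    (Subgroup.mem_normalizer_fintype (by
      rintro _ ⟨k, hk, rfl⟩
      exact ⟨a * k * a⁻¹, hKn.conj_mem k hk a, by simp⟩))
    (by
      rintro _ ⟨k, hk, rfl⟩ he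
      rw [show (G.subtype k : X) = (k : X) from rfl] at he
      have h1 : k = 1 := hfp a haR ha1 k hk (mul_inv_eq_iff_eq_mul.mp (Subtype.ext (by simpa using he)))
      rw [h1, map_one])
    hcop hfix V le_rfl (hGV a.2) (hKXG.trans hGV)
  have hcl : Subgroup.closure (Subtype.val '' Cfsg.frobeniusKernel R) = KX := by
    rw [← hKset]
    exact (Subgroup.closure_eq KX)
  rw [hcl, Subgroup.commutator_le]
  intro k₁ hk₁ k₂ hk₂
  exact Subgroup.mem_centralizer_iff.mpr fun v hv => (key k₁ hk₁ k₂ hk₂ v hv).eq.symm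

end Cfsg.Agent.S3770
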