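import Cfsg.Statements.S3771
import Cfsg.Agent.Lib.Classification.CyclicNormalAbelian
import Cfsg.Agent.Lib.Solvable.Nilpotent
import Cfsg.Agent.Lib.Cores.Basic

set_option autoImplicit false
open Cfsg

namespace Cfsg.Agent.S3771

open scoped commutatorElement

/-- Let p be a prime and R a finite p-group of p-rank at most 2 (no elementary abelian subgroup of order p³) in which every element has order dividing p. Then R has order at most p³. -/
theorem result {R : Type*} [Group R] [Finite R] {p : ℕ} [Fact p.Prime] (hR : IsPGroup p R) (hrank : Cfsg.PRankLE p 2 R) (hexp : ∀ x : R, x ^ p = 1) : Nat.card R ≤ p ^ 3 := by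
  have hp := (Fact.out : p.Prime)
  obtain ⟨A, hAn, hAc, hAC⟩ := Cfsg.Agent.Lib.Classification.exists_normal_abelian_selfCentralizing hR
  have hAcard : Nat.card A ≤ p ^ 2 := hrank A hAc (fun a _ => hexp a)
  haveI := hR.isNilpotent
  set Z := A ⊓ Subgroup.center R with hZ
  rcases eq_or_ne Z A with h | h
  · have htop : A = ⊤ := by
      rw [← hAC, Subgroup.centralizer_eq_top_iff_subset]
      exact fun a ha => (h.ge ha).2
    rw [htop, Subgroup.card_top] at hAcard
    exact hAcard.trans (Nat.pow_le_pow_right hp.pos (by norm_num))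
  have hlt : Z < A := lt_of_le_of_ne inf_le_left h
  obtain ⟨a, haA, haZ⟩ := SetLike.exists_of_lt hlt
  -- the image of A in R / Z is central
  obtain ⟨i, hi⟩ := IsPGroup.iff_card.mp (hR.to_subgroup Z)
  obtain ⟨j, hj⟩ := IsPGroup.iff_card.mp (hR.to_subgroup A)
  have hij : i < j := by
    have : Nat.card Z < Nat.card A := by
      refine lt_of_le_of_ne (Subgroup.card_le_of_le inf_le_left) fun e => h ?_
      exact Subgroup.eq_of_le_of_card_ge inf_le_left e.ge
    rw [hi, hj] at this
    exact (Nat.pow_lt_pow_iff_right hp.one_lt).mp this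
  have hi0 : i ≠ 0 := by
    intro hi0
    rw [hi0, pow_zero, Subgroup.card_eq_one] at hi
    refine Cfsg.Agent.Lib.Solvable.inf_center_ne_bot (N := A) ?_ hi
    intro e; exact haZ (by rw [e, Subgroup.mem_bot] at haA; rw [haA]; exact one_mem _)
  have hj2 : j ≤ 2 := by rw [hj] at hAcard; exact (Nat.pow_le_pow_iff_right hp.one_lt).mp hAcard
  have hi1 : i = 1 := by omega
  have hj' : j = 2 := by omega
  subst hi1; subst hj'
  haveI : Z.Normal := inferInstance
  have hmem : ∀ x : R, ⁅x, a⁆ ∈ Z := by
    intro x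
    haveI : Group.IsNilpotent (R ⧸ Z) := (hR.to_quotient Z).isNilpotent
    let f := QuotientGroup.mk' Z
    haveI : (A.map f).Normal := hAn.map _ (QuotientGroup.mk'_surjective Z)
    have hAne : A.map f ≠ ⊥ := by
      rw [Ne, Subgroup.map_eq_bot_iff, QuotientGroup.ker_mk']
      exact fun e => haZ (e haA)
    have hcardA : Nat.card (A.map f) = p := by
      have := Cfsg.Agent.Lib.Cores.card_map_mul_card_inf_ker f A
      rw [QuotientGroup.ker_mk', inf_eq_right.mpr hlt.le, hi, hj, pow_one, pow_two] at this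
      exact Nat.eq_of_mul_eq_mul_right hp.pos this
    have hint := Cfsg.Agent.Lib.Solvable.inf_center_ne_bot hAne
    have heq : A.map f ⊓ Subgroup.center _ = A.map f := by
      refine Subgroup.eq_of_le_of_card_ge inf_le_left ?_
      rcases (Nat.dvd_prime hp).mp (hcardA ▸ Subgroup.card_dvd_of_le inf_le_left) with h1 | h1
      · exact absurd (Subgroup.card_eq_one.mp h1) hint
      · rw [hcardA, h1]
    have hc : f a ∈ Subgroup.center (R ⧸ Z) := (heq.ge ⟨a, haA, rfl⟩).2
    rw [← QuotientGroup.eq_one_iff, ← QuotientGroup.mk'_apply, map_commutatorElement,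
      commutatorElement_eq_one_iff_mul_comm]
    exact Subgroup.mem_center_iff.mp hc (f x)
  let φ : R →* Z :=
    MonoidHom.mk' (fun x => ⟨⁅x, a⁆, hmem x⟩) fun x y => Subtype.ext (by
      show ⁅x * y, a⁆ = ⁅x, a⁆ * ⁅y, a⁆
      have hy := Subgroup.mem_center_iff.mp (hmem y).2
      calc ⁅x * y, a⁆ = x * ⁅y, a⁆ * x⁻¹ * ⁅x, a⁆ := by simp [commutatorElement_def, mul_assoc]
        _ = _ := by rw [hy x, mul_inv_cancel_right, hy])
  have hker : φ.ker ≤ A := by
    intro x hx
    have hxa : x * a = a * x := commutatorElement_eq_one_iff_mul_comm.mp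
      (congrArg Subtype.val (MonoidHom.mem_ker.mp hx))
    rw [← hAC]
    have hK : A ≤ Subgroup.centralizer ({x} : Set R) := by
      have hlt2 : Z < A ⊓ Subgroup.centralizer ({x} : Set R) := by
        refine lt_of_le_of_ne (le_inf inf_le_left ?_) ?_
        · exact fun z hz => Subgroup.mem_centralizer_singleton_iff.mpr
            (Subgroup.mem_center_iff.mp hz.2 x).symm
        · exact fun e => haZ (e ▸ Subgroup.mem_inf.mpr
            ⟨haA, Subgroup.mem_centralizer_singleton_iff.mpr hxa.symm⟩)
      obtain ⟨m, hm⟩ := IsPGroup.iff_card.mp (hR.to_subgroup (A ⊓ Subgroup.centralizer ({x} : Set R)))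
      have h1 : Nat.card Z < Nat.card ↥(A ⊓ Subgroup.centralizer ({x} : Set R)) :=
        lt_of_le_of_ne (Subgroup.card_le_of_le hlt2.le) fun e =>
          hlt2.ne (Subgroup.eq_of_le_of_card_ge hlt2.le e.ge)
      rw [hi, hm] at h1
      have h2 := (Nat.pow_lt_pow_iff_right hp.one_lt).mp h1
      have h3 : A ⊓ Subgroup.centralizer ({x} : Set R) = A :=
        Subgroup.eq_of_le_of_card_ge inf_le_left (by rw [hj, hm]; exact Nat.pow_le_pow_right hp.pos h2)
      exact h3.ge.trans inf_le_right
    exact Subgroup.mem_centralizer_iff.mpr fun b hb =>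
      Subgroup.mem_centralizer_singleton_iff.mp (hK hb)
  calc Nat.card R = Nat.card φ.ker * φ.ker.index := (Subgroup.card_mul_index _).symm
    _ ≤ Nat.card A * Nat.card Z := Nat.mul_le_mul (Subgroup.card_le_of_le hker)
        (by rw [Subgroup.index_ker]; exact Subgroup.card_le_card_group _)
    _ = p ^ 3 := by rw [hi, hj, ← pow_add]

end Cfsg.Agent.S3771
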