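import Cfsg.Statements.S3772
import Cfsg.Agent.Lib.QuadCount.Involutions

set_option autoImplicit false
open Cfsg

namespace Cfsg.Agent.S3772

/-- Let G be a finite 2-group whose Frattini subgroup Φ(G) has order 2, with |G : Φ(G)| = 2^d, and let j be the number of elements x of G with x² = 1. Then j = 2^d, or j = 2^d + 2^(d−r) or j = 2^d − 2^(d−r) for some positive integer r with 2r ≤ d. Moreover if d = 2r and j is 2^d + 2^r or 2^d − 2^r, then G is extraspecial. -/
theorem result {G : Type*} [Group G] [Finite G] (hG : IsPGroup 2 G) (hΦ : Nat.card (frattini G) = 2) (d : ℕ) (hd : (frattini G).index = 2 ^ d) : (Nat.card {x : G // x ^ 2 = 1} = 2 ^ d ∨ ∃ r : ℕ, 1 ≤ r ∧ 2 * r ≤ d ∧ (Nat.card {x : G // x ^ 2 = 1} = 2 ^ d + 2 ^ (d - r) ∨ Nat.card {x : G // x ^ 2 = 1} + 2 ^ (d - r) = 2 ^ d)) ∧ (∀ r : ℕ, d = 2 * r → (Nat.card {x : G // x ^ 2 = 1} = 2 ^ d + 2 ^ r ∨ Nat.card {x : G // x ^ 2 = 1} + 2 ^ r = 2 ^ d) → Cfsg.IsExtraspecial 2 G) := by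
  haveI : Fact (Nat.Prime 2) := ⟨Nat.prime_two⟩
  haveI := hG.isNilpotent
  refine ⟨?_, ?_⟩
  · rcases QuadCount.count hG hΦ d hd with h | ⟨e, r, h1, h2, -, h3⟩
    · exact Or.inl h
    · exact Or.inr ⟨r, h2, by omega, h3⟩
  · intro r hr hj
    have hp : ∀ a b : ℕ, 2 ^ a = 2 ^ b → a = b := fun a b h => Nat.pow_right_injective (by norm_num) h
    have hpos : 0 < 2 ^ r := pow_pos two_pos r
    rcases QuadCount.count hG hΦ d hd with h | ⟨e, r', h1, h2, hz, h3⟩
    · omega
    · have hpos' : 0 < 2 ^ (d - r') := pow_pos two_pos _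
      have he : r = d - r' := hp _ _ (by omega)
      have he0 : e = 0 := by omega
      subst he0
      rw [zero_add, pow_one] at hz
      have hcl := Cfsg.Agent.Lib.Cores.commutator_le_frattini (G := G)
      have hne : commutator G ≠ ⊥ := fun h => by
        have hcomm : ∀ x y : G, x * y = y * x := fun x y => by
          open scoped commutatorElement in
          exact commutatorElement_eq_one_iff_mul_comm.mp (by
            have := Subgroup.commutator_mem_commutator (Subgroup.mem_top x) (Subgroup.mem_top y)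
            rw [← commutator_def, h, Subgroup.mem_bot] at this; exact this)
        have htop : Subgroup.center G = ⊤ :=
          eq_top_iff.mpr fun x _ => Subgroup.mem_center_iff.mpr fun g => hcomm g x
        rw [htop, Subgroup.card_top, ← Subgroup.card_mul_index (frattini G), hΦ, hd] at hz
        have : 2 ^ d = 1 := by omega
        have hd0 : d = 0 := hp _ _ (this.trans (pow_zero 2).symm)
        omega
      have heq : commutator G = frattini G := by
        refine Subgroup.eq_of_le_of_card_ge hcl ?_
        rw [hΦ]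
        have := (commutator G).one_lt_card_iff_ne_bot.mpr hne
        omega
      have hZ : frattini G = Subgroup.center G := by
        refine Subgroup.eq_of_le_of_card_ge (fun f hf => Subgroup.mem_center_iff.mpr fun g => ?_) (by rw [hΦ, hz])
        have hgf : g * f * g⁻¹ ∈ frattini G := (inferInstance : (frattini G).Normal).conj_mem f hf g
        by_cases hf1 : f = 1
        · simp [hf1]
        obtain ⟨z, -, hu⟩ := (Nat.card_eq_two_iff' (1 : frattini G)).mp hΦ
        have h4 := hu ⟨_, hgf⟩ (fun h => hf1 (by simpa using congrArg Subtype.val h))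
        have h5 := hu ⟨f, hf⟩ (fun h => hf1 (congrArg Subtype.val h))
        have h6 : g * f * g⁻¹ = f := congrArg Subtype.val (h4.trans h5.symm)
        calc g * f = g * f * g⁻¹ * g := by group
          _ = f * g := by rw [h6]
      exact ⟨⟨hG, hZ, heq.trans hZ⟩, hz⟩

end Cfsg.Agent.S3772
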