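import Cfsg.Statements.S3774
import Mathlib

set_option autoImplicit false
open Cfsg

namespace Cfsg.Agent.S3774

/-- Let G be a nontrivial finite 2-group whose automorphism group permutes the involutions of G transitively. Then every involution of G is central, so that the involutions together with 1 form the subgroup Ω₁(Z(G)), and if this subgroup has order q then |G| is a power of q. -/
theorem result {G : Type*} [Group G] [Finite G] [Nontrivial G] (hG : IsPGroup 2 G) (htrans : ∀ x y : G, x ≠ 1 → x ^ 2 = 1 → y ≠ 1 → y ^ 2 = 1 → ∃ a : MulAut G, a x = y) : (∀ x : G, x ^ 2 = 1 → x ∈ Subgroup.center G) ∧ ∃ m : ℕ, Nat.card G = Nat.card {z : G // z ^ 2 = 1} ^ m := by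
  haveI := Fact.mk Nat.prime_two
  -- a nontrivial central involution
  have hZ : Nontrivial (Subgroup.center G) := hG.center_nontrivial
  have hzex : ∃ z : G, z ∈ Subgroup.center G ∧ z ≠ 1 ∧ z ^ 2 = 1 := by
    obtain ⟨k, hk⟩ := IsPGroup.iff_card.mp (hG.to_subgroup (Subgroup.center G))
    have hk0 : k ≠ 0 := by
      rintro rfl
      have := Finite.one_lt_card (α := Subgroup.center G)
      rw [hk, pow_zero] at this
      omega
    have h2 : 2 ∣ Nat.card (Subgroup.center G) := by rw [hk]; exact dvd_pow_self 2 hk0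
    obtain ⟨z, hz⟩ := exists_prime_orderOf_dvd_card' 2 h2
    refine ⟨z.1, z.2, ?_, ?_⟩
    · intro h
      have : z = 1 := Subtype.ext h
      rw [this, orderOf_one] at hz; omega
    · have := pow_orderOf_eq_one z
      rw [hz] at this
      exact_mod_cast congrArg Subtype.val this
  obtain ⟨z₀, hz₀c, hz₀1, hz₀2⟩ := hzex
  have hcen : ∀ x : G, x ^ 2 = 1 → x ∈ Subgroup.center G := by
    intro x hx
    by_cases h1 : x = 1
    · rw [h1]; exact one_mem _
    · obtain ⟨a, ha⟩ := htrans z₀ x hz₀1 hz₀2 h1 hx
      rw [← ha]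
      rw [Subgroup.mem_center_iff] at hz₀c ⊢
      intro g
      have := congrArg a (hz₀c (a.symm g))
      simpa using this
  refine ⟨hcen, ?_⟩
  -- the involutions together with 1 form a subgroup
  let W : Subgroup G :=
    { carrier := {z : G | z ^ 2 = 1}
      one_mem' := one_pow 2
      mul_mem' := by
        intro a b ha hb
        show (a * b) ^ 2 = 1
        rw [(show Commute a b from Subgroup.mem_center_iff.mp (hcen b hb) a).mul_pow, ha, hb, one_mul]
      inv_mem' := by
        intro a ha
        show a⁻¹ ^ 2 = 1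
        rw [inv_pow, ha, inv_one] }
  have hWc : Nat.card {z : G // z ^ 2 = 1} = Nat.card W := rfl
  obtain ⟨n, hn⟩ := IsPGroup.iff_card.mp (hG.to_subgroup W)
  obtain ⟨m, hm⟩ := IsPGroup.iff_card.mp hG
  -- the map to the involution among the powers
  classical
  haveI := Fintype.ofFinite G
  let f : G → G := fun x => x ^ (orderOf x / 2)
  have hf : ∀ x : G, x ≠ 1 → f x ≠ 1 ∧ f x ^ 2 = 1 := by
    intro x hx
    obtain ⟨k, hk⟩ := IsPGroup.iff_orderOf.mp hG x
    rcases k with _ | k
    · exact absurd (orderOf_eq_one_iff.mp (by simpa using hk)) hx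
    have hd : orderOf x / 2 = 2 ^ k := by rw [hk, pow_succ, Nat.mul_div_cancel _ two_pos]
    refine ⟨?_, ?_⟩
    · show x ^ (orderOf x / 2) ≠ 1
      rw [hd]
      intro h
      have := Nat.le_of_dvd (pow_pos two_pos k) (orderOf_dvd_of_pow_eq_one h)
      rw [hk, pow_succ] at this
      have : 0 < 2 ^ k := Nat.two_pow_pos k
      omega
    · show (x ^ (orderOf x / 2)) ^ 2 = 1
      rw [hd, ← pow_mul, ← pow_succ, ← hk, pow_orderOf_eq_one]
  have hfa : ∀ (a : MulAut G) (x : G), f (a x) = a (f x) := by
    intro a x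
    show (a x) ^ (orderOf (a x) / 2) = a (x ^ (orderOf x / 2))
    rw [map_pow, a.orderOf_eq x]
  let I : Finset G := Finset.univ.filter (fun z => z ≠ 1 ∧ z ^ 2 = 1)
  let D : Finset G := Finset.univ.filter (fun z => z ≠ 1)
  have hsum : D.card = ∑ z ∈ I, (D.filter (fun x => f x = z)).card :=
    Finset.card_eq_sum_card_fiberwise (fun x hx => by
      simp only [D, I, Finset.coe_filter, Finset.mem_univ, true_and, Set.mem_setOf_eq] at hx ⊢
      exact hf x hx)
  have hfib : ∀ z ∈ I, (D.filter (fun x => f x = z)).card = (D.filter (fun x => f x = z₀)).card := by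
    intro z hz
    simp only [I, Finset.mem_filter, Finset.mem_univ, true_and] at hz
    obtain ⟨a, ha⟩ := htrans z₀ z hz₀1 hz₀2 hz.1 hz.2
    symm
    refine Finset.card_bij (fun x _ => a x) ?_ (fun _ _ _ _ h => a.injective h) ?_
    · intro x hx
      simp only [D, Finset.mem_filter, Finset.mem_univ, true_and] at hx ⊢
      refine ⟨fun h => hx.1 (a.injective (by rw [h, map_one])), ?_⟩
      rw [hfa, hx.2, ha]
    · intro y hy
      simp only [D, Finset.mem_filter, Finset.mem_univ, true_and] at hy
      refine ⟨a.symm y, ?_, by simp⟩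
      simp only [D, Finset.mem_filter, Finset.mem_univ, true_and]
      refine ⟨fun h => hy.1 ?_, ?_⟩
      · have := congrArg a h
        simpa using this
      · apply a.injective
        rw [← hfa, ha]
        simpa using hy.2
  rw [Finset.sum_congr rfl hfib, Finset.sum_const, smul_eq_mul] at hsum
  have hD : D.card = 2 ^ m - 1 := by
    have : D = Finset.univ.erase 1 := by ext x; simp [D]
    rw [this, Finset.card_erase_of_mem (Finset.mem_univ _), Finset.card_univ,
      ← Nat.card_eq_fintype_card, hm]
  have hI : I.card = 2 ^ n - 1 := by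
    have : I = (Finset.univ.filter (fun z : G => z ^ 2 = 1)).erase 1 := by ext x; simp [I]
    rw [this, Finset.card_erase_of_mem (by simp), ← hn, ← hWc, Nat.card_eq_fintype_card,
      Fintype.card_subtype]
  rw [hD, hI] at hsum
  have hdvd : 2 ^ n - 1 ∣ 2 ^ m - 1 := ⟨_, hsum⟩
  have hmod := Nat.pow_sub_one_mod_pow_sub_one 2 n m
  rw [Nat.dvd_iff_mod_eq_zero.mp hdvd] at hmod
  have hr : m % n = 0 := by
    by_contra hne
    have : 2 ≤ 2 ^ (m % n) := Nat.le_self_pow hne 2
    omega
  obtain ⟨j, hj⟩ := Nat.dvd_of_mod_eq_zero hr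
  exact ⟨j, by rw [hWc, hn, hm, hj, pow_mul]⟩

end Cfsg.Agent.S3774
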