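import Cfsg.Statements.S3775
import Mathlib

set_option autoImplicit false
open Cfsg

namespace Cfsg.Agent.S3775

theorem exists_invariant_complement {V A : Type*} [CommGroup V] [Group A] [Finite V] [Finite A]
    (act : A →* MulAut V) (hcop : (Nat.card A).Coprime (Nat.card V)) (U W : Subgroup V)
    (hU : ∀ a, ∀ u ∈ U, act a u ∈ U) (hd : U ⊓ W = ⊥) (hs : U ⊔ W = ⊤) :
    ∃ W' : Subgroup V, (∀ a, ∀ w ∈ W', act a w ∈ W') ∧ U ⊓ W' = ⊥ ∧ U ⊔ W' = ⊤ := by
  classical
  haveI := Fintype.ofFinite A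
  have hbij : Function.Bijective (U.subtype.coprod W.subtype) := by
    refine ⟨(injective_iff_map_eq_one _).mpr ?_, fun v => ?_⟩
    · rintro ⟨u, w⟩ h
      simp only [MonoidHom.coprod_apply, Subgroup.coe_subtype] at h
      have hu : (u : V) ∈ U ⊓ W := Subgroup.mem_inf.mpr ⟨u.2, by
        have : (u : V) = (w : V)⁻¹ := eq_inv_of_mul_eq_one_left h
        rw [this]; exact inv_mem w.2⟩
      rw [hd, Subgroup.mem_bot] at hu
      have hw : (w : V) = 1 := by rwa [hu, one_mul] at h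
      exact Prod.ext (Subtype.ext hu) (Subtype.ext hw)
    · have hv : v ∈ U ⊔ W := by rw [hs]; trivial
      obtain ⟨u, hu, w, hw, rfl⟩ := Subgroup.mem_sup.mp hv
      exact ⟨(⟨u, hu⟩, ⟨w, hw⟩), rfl⟩
  let e := MulEquiv.ofBijective _ hbij
  let π : V →* V := U.subtype.comp ((MonoidHom.fst U W).comp e.symm.toMonoidHom)
  have hπU : ∀ v, π v ∈ U := fun v => ((e.symm v).1).2
  have hπid : ∀ u ∈ U, π u = u := by
    intro u hu
    have : e.symm u = (⟨u, hu⟩, 1) := by
      rw [MulEquiv.symm_apply_eq]; simp [e]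
    simp [π, this]
  let ρ : V →* V :=
    { toFun := fun v => ∏ a : A, act a (π (act a⁻¹ v))
      map_one' := by simp
      map_mul' := fun x y => by simp [Finset.prod_mul_distrib] }
  have hρU : ∀ v, ρ v ∈ U := fun v => prod_mem fun a _ => hU a _ (hπU _)
  have hρid : ∀ u ∈ U, ρ u = u ^ Nat.card A := by
    intro u hu
    show (∏ a : A, act a (π (act a⁻¹ u))) = _
    have h1 : ∀ a : A, act a (π (act a⁻¹ u)) = u := fun a => by
      rw [hπid _ (hU _ _ hu), ← MulAut.mul_apply, ← map_mul, mul_inv_cancel, map_one,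
        MulAut.one_apply]
    rw [Finset.prod_congr rfl (fun a _ => h1 a), Finset.prod_const, Finset.card_univ,
      Nat.card_eq_fintype_card]
  have hρeq : ∀ b v, ρ (act b v) = act b (ρ v) := by
    intro b v
    show (∏ a : A, act a (π (act a⁻¹ (act b v)))) = act b (∏ a : A, act a (π (act a⁻¹ v)))
    rw [map_prod]
    refine (Fintype.prod_equiv (Equiv.mulLeft b) _ _ fun a => ?_).symm
    simp [← MulAut.mul_apply, ← map_mul, mul_inv_rev]
  have hc : (Nat.card V).Coprime (Nat.card A) := hcop.symm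
  refine ⟨ρ.ker, fun a w hw => ?_, ?_, ?_⟩
  · rw [MonoidHom.mem_ker] at hw ⊢
    rw [hρeq, hw, map_one]
  · rw [eq_bot_iff]
    intro u hu'
    have hu : u ∈ U := hu'.1
    have hk : u ∈ ρ.ker := hu'.2
    rw [MonoidHom.mem_ker, hρid u hu] at hk
    rw [Subgroup.mem_bot]
    exact (powCoprime hc).injective (by simpa [powCoprime] using hk)
  · rw [eq_top_iff]
    intro v _
    have hcU : (Nat.card U).Coprime (Nat.card A) :=
      Nat.Coprime.coprime_dvd_left (Subgroup.card_subgroup_dvd_card U) hc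
    obtain ⟨u, hu⟩ := (powCoprime hcU).surjective ⟨ρ v, hρU v⟩
    have hu' : (u : V) ^ Nat.card A = ρ v := congrArg Subtype.val hu
    refine Subgroup.mem_sup.mpr ⟨u, u.2, (u : V)⁻¹ * v, ?_, by group⟩
    rw [MonoidHom.mem_ker, map_mul, map_inv, hρid _ u.2, hu', inv_mul_cancel]

variable {A : Type*} [CommGroup A] [Finite A] {p : ℕ} [Fact p.Prime]

/-- Invariance. -/
def Inv (X : Subgroup (MulAut A)) (B : Subgroup A) : Prop := ∀ x ∈ X, ∀ b ∈ B, x b ∈ B

theorem inv_iff {X : Subgroup (MulAut A)} {B : Subgroup A} :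
    (∀ x ∈ X, B.map x.toMonoidHom = B) ↔ Inv X B := by
  refine ⟨fun h x hx b hb => (h x hx) ▸ ⟨b, hb, rfl⟩, fun h x hx => ?_⟩
  apply le_antisymm
  · rintro _ ⟨b, hb, rfl⟩; exact h x hx b hb
  · intro b hb
    exact ⟨x⁻¹ b, h _ (inv_mem hx) b hb, by simp⟩

abbrev Om (p : ℕ) (A : Type*) [CommGroup A] (i : ℕ) : Subgroup A := (powMonoidHom (p ^ i)).ker

theorem inv_Om (X : Subgroup (MulAut A)) (i : ℕ) : Inv X (Om p A i) := fun x _ b hb => by
  rw [MonoidHom.mem_ker, powMonoidHom_apply] at hb ⊢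
  rw [← map_pow, hb, map_one]

theorem Inv.inf {X : Subgroup (MulAut A)} {B C : Subgroup A} (hB : Inv X B) (hC : Inv X C) :
    Inv X (B ⊓ C) := fun x hx b hb => ⟨hB x hx b hb.1, hC x hx b hb.2⟩

theorem Inv.sup {X : Subgroup (MulAut A)} {B C : Subgroup A} (hB : Inv X B) (hC : Inv X C) :
    Inv X (B ⊔ C) := fun x hx b hb => by
  obtain ⟨u, hu, v, hv, rfl⟩ := Subgroup.mem_sup.mp hb
  rw [map_mul]
  exact Subgroup.mul_mem_sup (hB x hx u hu) (hC x hx v hv)

theorem Inv.map_pow {X : Subgroup (MulAut A)} {B : Subgroup A} (hB : Inv X B) (k : ℕ) :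
    Inv X (B.map (powMonoidHom k)) := by
  rintro x hx _ ⟨b, hb, rfl⟩
  exact ⟨x b, hB x hx b hb, (_root_.map_pow x b k).symm⟩

/-- Maschke in a section of exponent `p`. -/
theorem exists_complement (hA : IsPGroup p A) (X : Subgroup (MulAut A)) (hX : (Nat.card X).Coprime p)
    {M U T : Subgroup A} (hM : Inv X M) (hU : Inv X U) (hT : Inv X T) (hMU : M ≤ U) (hUT : U ≤ T)
    (hexp : ∀ t ∈ T, t ^ p ∈ M) :
    ∃ L : Subgroup A, Inv X L ∧ M ≤ L ∧ L ≤ T ∧ L ⊓ U = M ∧ U ⊔ L = T := by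
  classical
  set M' := M.subgroupOf T with hM'
  let g : X → T →* T := fun x =>
    MonoidHom.mk' (fun t => ⟨(x : MulAut A) t, hT x x.2 t t.2⟩) fun a b => Subtype.ext (map_mul (x : MulAut A) (a : A) b)
  let h : X → T ⧸ M' →* T ⧸ M' := fun x => QuotientGroup.map M' M' (g x) fun t ht => hM x x.2 _ ht
  let act : X →* MulAut (T ⧸ M') := MonoidHom.mk' (fun x =>
    { toFun := h x
      invFun := h x⁻¹
      left_inv := fun q => by
        induction q using QuotientGroup.induction_on with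
        | H t =>
          refine congrArg (QuotientGroup.mk (s := M')) (Subtype.ext ?_)
          simp [g, MulAut.inv_apply]
      right_inv := fun q => by
        induction q using QuotientGroup.induction_on with
        | H t =>
          refine congrArg (QuotientGroup.mk (s := M')) (Subtype.ext ?_)
          simp [g, MulAut.inv_apply]
      map_mul' := map_mul (h x) }) fun x y => by
        ext q
        induction q using QuotientGroup.induction_on with
        | H t => rfl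
  have hact : ∀ (x : X) (t : T), act x (QuotientGroup.mk t) = QuotientGroup.mk (g x t) := fun x t => rfl
  set q := QuotientGroup.mk' M' with hq
  obtain ⟨n, hn⟩ := IsPGroup.iff_card.mp ((hA.to_subgroup T).to_quotient M')
  -- an arbitrary complement
  obtain ⟨W, -, hWmin⟩ := Finite.exists_le_maximal (α := Subgroup (T ⧸ M'))
    (p := fun W => (U.subgroupOf T).map q ⊓ W = ⊥) (a := ⊥) (inf_bot_eq _)
  have hWtop : (U.subgroupOf T).map q ⊔ W = ⊤ := by
    by_contra hne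
    obtain ⟨v, -, hv⟩ := SetLike.exists_of_lt (lt_top_iff_ne_top.mpr hne)
    have hle := hWmin.2 (y := W ⊔ Subgroup.zpowers v) ?_ le_sup_left
    · exact hv (Subgroup.mem_sup_right (hle (Subgroup.mem_sup_right (Subgroup.mem_zpowers v))))
    show _ = ⊥
    rw [eq_bot_iff]
    rintro y ⟨hyU, hyW⟩
    obtain ⟨w, hw, z, hz, rfl⟩ := Subgroup.mem_sup.mp hyW
    obtain ⟨k, rfl⟩ := Subgroup.mem_zpowers_iff.mp hz
    have hvp : v ^ (p : ℤ) = 1 := by
      obtain ⟨t, rfl⟩ := QuotientGroup.mk_surjective v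
      rw [zpow_natCast, ← QuotientGroup.mk_pow, QuotientGroup.eq_one_iff]
      exact hexp t t.2
    by_cases hk : (p : ℤ) ∣ k
    · obtain ⟨j, rfl⟩ := hk
      rw [zpow_mul, hvp, one_zpow, mul_one] at hyU ⊢
      exact hWmin.1.le ⟨hyU, hw⟩
    · obtain ⟨a, b, hab⟩ := (Nat.prime_iff_prime_int.mp (Fact.out : p.Prime)).coprime_iff_not_dvd.mpr hk
      exfalso
      apply hv
      have hvk : v ^ k ∈ (U.subgroupOf T).map q ⊔ W := by
        have : v ^ k = w⁻¹ * (w * v ^ k) := by group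
        rw [this]
        exact mul_mem (Subgroup.mem_sup_right (inv_mem hw)) (Subgroup.mem_sup_left hyU)
      have : v = (v ^ (p : ℤ)) ^ a * (v ^ k) ^ b := by
        rw [← zpow_mul, ← zpow_mul, ← zpow_add, mul_comm (p : ℤ) a, mul_comm k b, hab, zpow_one]
      rw [this, hvp, one_zpow, one_mul]
      exact zpow_mem hvk b
  obtain ⟨W', hW', hd, hs⟩ := exists_invariant_complement act (hn ▸ hX.pow_right n)
    ((U.subgroupOf T).map q) W (by
      rintro x _ ⟨t, ht, rfl⟩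
      exact ⟨g x t, hU x x.2 _ ht, (hact x t).symm⟩) hWmin.1 hWtop
  refine ⟨(W'.comap q).map T.subtype, ?_, ?_, Subgroup.map_subtype_le _, ?_, ?_⟩
  · rintro x hx _ ⟨t, ht, rfl⟩
    refine ⟨g ⟨x, hx⟩ t, ?_, rfl⟩
    have := hW' ⟨x, hx⟩ _ ht
    rw [hq, QuotientGroup.mk'_apply, hact] at this
    exact this
  · intro m hm
    refine ⟨⟨m, hUT (hMU hm)⟩, ?_, rfl⟩
    show q _ ∈ W'
    rw [hq, QuotientGroup.mk'_apply, (QuotientGroup.eq_one_iff _).mpr (show _ ∈ M' from hm)]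
    exact one_mem _
  · apply le_antisymm
    · rintro _ ⟨⟨t, ht, rfl⟩, htU⟩
      have : q t ∈ (U.subgroupOf T).map q ⊓ W' := ⟨⟨t, htU, rfl⟩, ht⟩
      rw [hd, Subgroup.mem_bot] at this
      exact (QuotientGroup.eq_one_iff (N := M') t).mp this
    · intro m hm
      refine ⟨⟨⟨m, hUT (hMU hm)⟩, ?_, rfl⟩, hMU hm⟩
      show q _ ∈ W'
      rw [hq, QuotientGroup.mk'_apply, (QuotientGroup.eq_one_iff _).mpr (show _ ∈ M' from hm)]
      exact one_mem _
  · refine le_antisymm (sup_le hUT (Subgroup.map_subtype_le _)) fun t ht => ?_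
    have h1 : q ⟨t, ht⟩ ∈ (U.subgroupOf T).map q ⊔ W' := hs ▸ Subgroup.mem_top _
    obtain ⟨_, ⟨u, hu, rfl⟩, w, hw, he⟩ := Subgroup.mem_sup.mp h1
    refine Subgroup.mem_sup.mpr ⟨(u : A), hu, ((u⁻¹ * ⟨t, ht⟩ : T) : A), ⟨u⁻¹ * ⟨t, ht⟩, ?_, rfl⟩, ?_⟩
    · show q _ ∈ W'
      rw [map_mul, map_inv, ← he, inv_mul_cancel_left]
      exact hw
    · simp

/-- An invariant homocyclic summand with prescribed socle. -/
theorem exists_summand (hA : IsPGroup p A) (X : Subgroup (MulAut A)) (hX : (Nat.card X).Coprime p)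
    (e : ℕ) (he : ∀ a : A, a ^ p ^ (e + 1) = 1) {U : Subgroup A} (hU : Inv X U)
    (hUle : U ≤ (⊤ : Subgroup A).map (powMonoidHom (p ^ e))) :
    ∃ B C : Subgroup A, Inv X B ∧ Inv X C ∧ B ⊓ C = ⊥ ∧ B ⊔ C = ⊤ ∧ B ⊓ Om p A 1 = U := by
  classical
  set f : A →* A := powMonoidHom (p ^ e) with hf
  obtain ⟨B, -, hB⟩ := Finite.exists_le_minimal (α := Subgroup A) (p := fun B => Inv X B ∧ B.map f = U) (a := U.comap f)
    ⟨fun x hx b hb => by
      rw [Subgroup.mem_comap, hf, powMonoidHom_apply] at hb ⊢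
      rw [← map_pow]; exact hU x hx _ hb,
      Subgroup.map_comap_eq_self (by rwa [MonoidHom.range_eq_map])⟩
  obtain ⟨⟨hBi, hBf⟩, hBmin⟩ := hB
  set K := B ⊓ Om p A e with hK
  set Bp := B.map (powMonoidHom p) with hBp
  have hBpB : Bp ≤ B := by rintro _ ⟨b, hb, rfl⟩; exact pow_mem hb p
  have hKle : K ≤ Bp := by
    obtain ⟨L, hLi, hML, hLB, hLU, hsup⟩ := exists_complement hA X hX (hBi.map_pow p)
      (hBi.inf (inv_Om X e)) hBi (le_inf hBpB (by
        rintro _ ⟨b, -, rfl⟩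
        rw [MonoidHom.mem_ker, powMonoidHom_apply, powMonoidHom_apply, ← pow_mul, ← pow_succ']
        exact he b)) inf_le_left (fun t ht => ⟨t, ht, rfl⟩)
    have hLf : L.map f = U := by
      rw [← hBf, ← hsup, Subgroup.map_sup]
      have : K.map f = ⊥ := (Subgroup.map_eq_bot_iff _).mpr inf_le_right
      rw [this, bot_sup_eq]
    exact fun x hx => hLU.le ⟨(hBmin ⟨hLi, hLf⟩ hLB) hx.1, hx⟩
  have hsoc : B ⊓ Om p A 1 = U := by
    apply le_antisymm
    · rintro b ⟨hbB, hb⟩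
      simp only [SetLike.mem_coe, Subgroup.mem_toSubmonoid, MonoidHom.mem_ker, powMonoidHom_apply, pow_one] at hb
      have key : ∀ j ≤ e, ∃ c ∈ B, c ^ p ^ j = b := by
        intro j
        induction j with
        | zero => exact fun _ => ⟨b, hbB, by simp⟩
        | succ j ih =>
          intro hj
          obtain ⟨c, hc, rfl⟩ := ih (by omega)
          have hcK : c ∈ K := by
            refine ⟨hc, ?_⟩
            show _ = _; rw [powMonoidHom_apply]
            rw [← pow_mul, ← pow_succ] at hb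
            obtain ⟨r, rfl⟩ := Nat.exists_eq_add_of_le hj
            rw [pow_add, pow_mul, hb, one_pow]
          obtain ⟨d, hd, hdc⟩ := hKle hcK
          exact ⟨d, hd, by rw [← hdc, powMonoidHom_apply, ← pow_mul, pow_succ']⟩
      obtain ⟨c, hc, hcb⟩ := key e le_rfl
      exact hBf.le ⟨c, hc, hcb⟩
    · intro u hu
      obtain ⟨b, hb, rfl⟩ := hBf.ge hu
      refine ⟨pow_mem hb _, ?_⟩
      show (f b) ^ p ^ 1 = 1; rw [pow_one, hf, powMonoidHom_apply, ← pow_mul,
        ← pow_succ]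
      exact he b
  obtain ⟨C, -, hC⟩ := Finite.exists_le_maximal (α := Subgroup A) (p := fun C => Inv X C ∧ B ⊓ C = ⊥) (a := ⊥)
    ⟨fun x _ b hb => by rw [Subgroup.mem_bot] at hb ⊢; rw [hb, map_one], inf_bot_eq _⟩
  obtain ⟨⟨hCi, hBC⟩, hCmax⟩ := hC
  refine ⟨B, C, hBi, hCi, hBC, ?_, hsoc⟩
  by_contra hne
  obtain ⟨a₀, -, ha₀⟩ := SetLike.exists_of_lt (lt_top_iff_ne_top.mpr hne)
  obtain ⟨a, ha, hap⟩ : ∃ a : A, a ∉ B ⊔ C ∧ a ^ p ∈ B ⊔ C := by
    obtain ⟨k, hk⟩ := hA a₀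
    induction k with
    | zero => exact absurd (by rw [pow_zero, pow_one] at hk; rw [hk]; exact one_mem _) ha₀
    | succ k ih =>
      by_cases h : a₀ ^ p ^ k ∈ B ⊔ C
      · clear ih hk
        induction k with
        | zero => exact absurd (by simpa using h) ha₀
        | succ k ih =>
          by_cases h' : a₀ ^ p ^ k ∈ B ⊔ C
          · exact ih h'
          · exact ⟨_, h', by rwa [← pow_mul, ← pow_succ]⟩
      · exact ⟨_, h, by rw [← pow_mul, ← pow_succ, hk]; exact one_mem _⟩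
  obtain ⟨b, hb, c, hc, hbc⟩ := Subgroup.mem_sup.mp hap
  have hbK : b ∈ K := by
    refine ⟨hb, ?_⟩
    show _ = _; rw [powMonoidHom_apply]
    have h1 : b ^ p ^ e = (c ^ p ^ e)⁻¹ := by
      rw [eq_inv_iff_mul_eq_one, ← mul_pow, hbc, ← pow_mul, ← pow_succ']
      exact he a
    have h2 : b ^ p ^ e ∈ B ⊓ C := Subgroup.mem_inf.mpr ⟨pow_mem hb _, by rw [h1]; exact inv_mem (pow_mem hc _)⟩
    rwa [hBC, Subgroup.mem_bot] at h2
  obtain ⟨b₁, hb₁, rfl⟩ := hKle hbK
  set T := C.comap (powMonoidHom p) with hT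
  have hUC : U ⊔ C ≤ T := by
    refine sup_le (fun u hu => ?_) (fun x hx => pow_mem hx p)
    have := (hsoc.ge hu).2
    simp only [SetLike.mem_coe, Subgroup.mem_toSubmonoid, MonoidHom.mem_ker, powMonoidHom_apply, pow_one] at this
    rw [Subgroup.mem_comap, powMonoidHom_apply, this]
    exact one_mem _
  obtain ⟨L, hLi, hCL, hLT, hLU, hsup⟩ := exists_complement hA X hX hCi (hU.sup hCi)
    (fun x hx t ht => by rw [Subgroup.mem_comap, powMonoidHom_apply] at ht ⊢; rw [← map_pow]; exact hCi x hx _ ht)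
    le_sup_right hUC (fun t ht => ht)
  have hBL : B ⊓ L = ⊥ := by
    rw [eq_bot_iff]
    rintro x ⟨hxB, hxL⟩
    have hxp : x ^ p ∈ B ⊓ C := ⟨pow_mem hxB p, hLT hxL⟩
    rw [hBC, Subgroup.mem_bot] at hxp
    have hxU : x ∈ U := hsoc.le ⟨hxB, by show x ^ p ^ 1 = 1; rw [pow_one, hxp]⟩
    rw [← hBC]
    exact ⟨hxB, hLU.le ⟨hxL, Subgroup.mem_sup_left hxU⟩⟩
  have hLC : L ≤ C := hCmax ⟨hLi, hBL⟩ hCL
  have ha' : a * b₁⁻¹ ∈ T := by
    rw [Subgroup.mem_comap, powMonoidHom_apply, mul_pow, ← hbc, inv_pow]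
    simpa [mul_comm, mul_assoc, mul_left_comm] using hc
  rw [← hsup] at ha'
  have h3 : a * b₁⁻¹ ∈ B ⊔ C := by
    refine (sup_le (sup_le ?_ le_sup_right) (hLC.trans le_sup_right) : U ⊔ C ⊔ L ≤ B ⊔ C) ha'
    exact (hsoc.ge.trans inf_le_left).trans le_sup_left
  apply ha
  have := mul_mem h3 (Subgroup.mem_sup_left (T := C) hb₁)
  rwa [inv_mul_cancel_right] at this

/-- Let A be a finite abelian p-group and X a group of automorphisms of A of order prime to p. Call a subgroup of A invariant when every element of X maps it onto itself. Then the following are equivalent: (i) A is not the direct product of two nontrivial invariant subgroups; (ii) every invariant subgroup of A is one of the subgroups Ω_i(A) = {a : a^(p^i) = 1}; (iii) the subgroup Ω₁(A) of elements of order dividing p has no invariant subgroups other than 1 and itself. -/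
theorem result {A : Type*} [CommGroup A] [Finite A] {p : ℕ} [Fact p.Prime] (hA : IsPGroup p A) (X : Subgroup (MulAut A)) (hX : (Nat.card X).Coprime p) : ((¬ ∃ B C : Subgroup A, B ≠ ⊥ ∧ C ≠ ⊥ ∧ (∀ x ∈ X, B.map x.toMonoidHom = B) ∧ (∀ x ∈ X, C.map x.toMonoidHom = C) ∧ B ⊓ C = ⊥ ∧ B ⊔ C = ⊤) ↔ (∀ B : Subgroup A, (∀ x ∈ X, B.map x.toMonoidHom = B) → ∃ i : ℕ, ∀ a : A, a ∈ B ↔ a ^ p ^ i = 1)) ∧ ((∀ B : Subgroup A, (∀ x ∈ X, B.map x.toMonoidHom = B) → ∃ i : ℕ, ∀ a : A, a ∈ B ↔ a ^ p ^ i = 1) ↔ (∀ B : Subgroup A, (∀ x ∈ X, B.map x.toMonoidHom = B) → (∀ b ∈ B, b ^ p = 1) → B = ⊥ ∨ ∀ a : A, a ∈ B ↔ a ^ p = 1)) := by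
  classical
  simp only [inv_iff]
  have hmem : ∀ i (a : A), a ∈ Om p A i ↔ a ^ p ^ i = 1 := fun i a => Iff.rfl
  have hmono : ∀ i j, i ≤ j → Om p A i ≤ Om p A j := fun i j hij a ha => by
    obtain ⟨r, rfl⟩ := Nat.exists_eq_add_of_le hij
    rw [hmem] at ha ⊢; rw [pow_add, pow_mul, ha, one_pow]
  have h23 : (∀ B : Subgroup A, Inv X B → ∃ i : ℕ, ∀ a : A, a ∈ B ↔ a ^ p ^ i = 1) →
      ∀ B : Subgroup A, Inv X B → (∀ b ∈ B, b ^ p = 1) → B = ⊥ ∨ ∀ a : A, a ∈ B ↔ a ^ p = 1 := by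
    intro h B hB hBp
    obtain ⟨i, hi⟩ := h B hB
    rcases Nat.eq_zero_or_pos i with rfl | hi0
    · exact Or.inl ((Subgroup.eq_bot_iff_forall B).mpr fun b hb => by simpa using (hi b).mp hb)
    · refine Or.inr fun a => ⟨hBp a, fun ha => (hi a).mpr ?_⟩
      exact hmono 1 i hi0 ((hmem 1 a).mpr (by rwa [pow_one]))
  have h32 : (∀ B : Subgroup A, Inv X B → (∀ b ∈ B, b ^ p = 1) → B = ⊥ ∨ ∀ a : A, a ∈ B ↔ a ^ p = 1) →
      ∀ B : Subgroup A, Inv X B → ∃ i : ℕ, ∀ a : A, a ∈ B ↔ a ^ p ^ i = 1 := by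
    intro h B hB
    have key : ∀ i, (∃ b ∈ B, b ^ p ^ (i + 1) = 1 ∧ b ^ p ^ i ≠ 1) → Om p A (i + 1) ≤ B := by
      intro i
      induction i with
      | zero =>
        rintro ⟨b, hb, hb1, hb0⟩ a ha
        rw [hmem] at ha
        rcases h (B ⊓ Om p A 1) (hB.inf (inv_Om X 1)) (fun x hx => by simpa [hmem] using hx.2) with h' | h'
        · exfalso
          have : b ∈ B ⊓ Om p A 1 := ⟨hb, hb1⟩
          rw [h', Subgroup.mem_bot] at this
          exact hb0 (by rw [this, one_pow])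
        · exact ((h' a).mpr (by simpa using ha)).1
      | succ i ih =>
        rintro ⟨b, hb, hb1, hb0⟩ a ha
        have hle := ih ⟨b ^ p, pow_mem hb p, by rw [← pow_mul, ← pow_succ']; exact hb1,
          by rw [← pow_mul, ← pow_succ']; exact hb0⟩
        set V := (B ⊓ Om p A (i + 2)).map (powMonoidHom (p ^ (i + 1))) with hV
        rcases h V ((hB.inf (inv_Om X _)).map_pow _) (by
            rintro _ ⟨x, hx, rfl⟩
            rw [powMonoidHom_apply, ← pow_mul, ← pow_succ]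
            exact hx.2) with h' | h'
        · exfalso
          have : b ^ p ^ (i + 1) ∈ V := ⟨b, ⟨hb, hb1⟩, rfl⟩
          rw [h', Subgroup.mem_bot] at this
          exact hb0 this
        · rw [hmem] at ha
          obtain ⟨c, hc, hca⟩ := (h' (a ^ p ^ (i + 1))).mpr (by rw [← pow_mul, ← pow_succ]; exact ha)
          have h4 : a * c⁻¹ ∈ B := hle (by
            rw [hmem, mul_pow, inv_pow, mul_inv_eq_one]; exact hca.symm)
          have := mul_mem h4 hc.1
          rwa [inv_mul_cancel_right] at this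
    have hex : ∃ i, ∀ a ∈ B, a ^ p ^ i = 1 := by
      obtain ⟨n, hn⟩ := IsPGroup.iff_card.mp hA
      exact ⟨n, fun a _ => hn ▸ pow_card_eq_one'⟩
    refine ⟨Nat.find hex, fun a => ⟨fun ha => Nat.find_spec hex a ha, fun ha => ?_⟩⟩
    rcases Nat.eq_zero_or_pos (Nat.find hex) with h0 | h0
    · rw [h0, pow_zero, pow_one] at ha; rw [ha]; exact one_mem B
    obtain ⟨i, hi⟩ := Nat.exists_eq_succ_of_ne_zero h0.ne'
    rw [hi] at ha
    have hnot := Nat.find_min hex (show i < Nat.find hex by omega)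
    simp only [not_forall, exists_prop] at hnot
    obtain ⟨b, hb, hbne⟩ := hnot
    exact key i ⟨b, hb, by have := Nat.find_spec hex b hb; rwa [hi] at this, hbne⟩ ha
  refine ⟨⟨fun h => h32 ?_, ?_⟩, ⟨h23, h32⟩⟩
  · intro U hU hUp
    by_contra hcon
    rw [not_or, not_forall] at hcon
    obtain ⟨hU0, a₁, ha₁⟩ := hcon
    have hex : ∃ i, ∀ a : A, a ^ p ^ i = 1 := by
      obtain ⟨n, hn⟩ := IsPGroup.iff_card.mp hA
      exact ⟨n, fun a => hn ▸ pow_card_eq_one'⟩
    rcases Nat.eq_zero_or_pos (Nat.find hex) with h0 | h0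
    · have := Nat.find_spec hex
      rw [h0] at this
      exact hU0 ((Subgroup.eq_bot_iff_forall U).mpr fun u _ => by simpa using this u)
    obtain ⟨e, he⟩ := Nat.exists_eq_succ_of_ne_zero h0.ne'
    have hee : ∀ a : A, a ^ p ^ (e + 1) = 1 := fun a => by have := Nat.find_spec hex a; rwa [he] at this
    have hnot := Nat.find_min hex (show e < Nat.find hex by omega)
    rw [not_forall] at hnot
    obtain ⟨a₂, ha₂⟩ := hnot
    set F := (⊤ : Subgroup A).map (powMonoidHom (p ^ e)) with hF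
    have hFle : F ≤ Om p A 1 := by
      rintro _ ⟨x, -, rfl⟩
      rw [hmem, powMonoidHom_apply, pow_one, ← pow_mul, ← pow_succ]; exact hee x
    have hUO : U ≤ Om p A 1 := fun u hu => (hmem 1 u).mpr (by rw [pow_one]; exact hUp u hu)
    have hUne : U ≠ Om p A 1 := fun e1 => by
      apply ha₁
      rw [e1, hmem, pow_one]
    obtain ⟨U₁, hU₁i, hU₁0, hU₁F, hU₁ne⟩ : ∃ U₁ : Subgroup A, Inv X U₁ ∧ U₁ ≠ ⊥ ∧ U₁ ≤ F ∧ U₁ ≠ Om p A 1 := by
      by_cases hFO : F = Om p A 1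
      · exact ⟨U, hU, hU0, hFO ▸ hUO, hUne⟩
      · refine ⟨F, ?_, ?_, le_rfl, hFO⟩
        · exact Inv.map_pow (B := (⊤ : Subgroup A)) (fun _ _ b _ => Subgroup.mem_top _) _
        · exact fun hb => ha₂ ((Subgroup.eq_bot_iff_forall F).mp hb _ ⟨a₂, trivial, rfl⟩)
    obtain ⟨B, C, hBi, hCi, hBC, htop, hsoc⟩ := exists_summand hA X hX e hee hU₁i hU₁F
    refine h ⟨B, C, ?_, ?_, hBi, hCi, hBC, htop⟩
    · intro hb; rw [hb, bot_inf_eq] at hsoc; exact hU₁0 hsoc.symm
    · intro hc; rw [hc, sup_bot_eq] at htop; rw [htop, top_inf_eq] at hsoc; exact hU₁ne hsoc.symm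
  · rintro h ⟨B, C, hB0, hC0, hBi, hCi, hBC, -⟩
    obtain ⟨i, hi⟩ := h B hBi
    obtain ⟨j, hj⟩ := h C hCi
    rcases le_total i j with hij | hij
    · refine hB0 (le_bot_iff.mp (hBC ▸ le_inf le_rfl fun b hb => (hj b).mpr (hmono i j hij ((hi b).mp hb))))
    · refine hC0 (le_bot_iff.mp (hBC ▸ le_inf (fun b hb => (hi b).mpr (hmono j i hij ((hj b).mp hb))) le_rfl))

end Cfsg.Agent.S3775
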