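import Cfsg.Statements.S3778
import Mathlib

set_option autoImplicit false
open Cfsg

namespace Cfsg.Agent.S3778

open Subgroup
open scoped commutatorElement

/-- The index of the centralizer of `g` drops along the lower central series at each step where
`g` is outside the two-step centralizer. -/
theorem breadth_drop {G : Type*} [Group G] [Finite G] (g : G) (i : ℕ)
    (hg : ¬ ∀ x ∈ (⊤ : Subgroup G).lowerCentralSeries i,
      ⁅x, g⁆ ∈ (⊤ : Subgroup G).lowerCentralSeries (i + 2)) :
    (centralizer ({g} : Set G)).relIndex ((⊤ : Subgroup G).lowerCentralSeries (i + 1)) <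
      (centralizer ({g} : Set G)).relIndex ((⊤ : Subgroup G).lowerCentralSeries i) := by
  set L := (⊤ : Subgroup G).lowerCentralSeries i with hL
  set K := (⊤ : Subgroup G).lowerCentralSeries (i + 1) with hK
  set N := (⊤ : Subgroup G).lowerCentralSeries (i + 2) with hN
  set Z := centralizer ({g} : Set G)
  haveI : N.Normal := by rw [hN]; infer_instance
  have hKL : K ≤ L := Subgroup.lowerCentralSeries_antitone (⊤ : Subgroup G) (Nat.le_succ i)
  set M := (Z ⊓ L) ⊔ K with hM
  have hML : M ≤ L := sup_le inf_le_right hKL
  have hnot : ¬ L ≤ M := by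
    intro hle
    apply hg
    intro x hx
    have hsub : M ≤ (centralizer ({QuotientGroup.mk' N g} : Set (G ⧸ N))).comap (QuotientGroup.mk' N) := by
      refine sup_le ?_ ?_
      · intro y hy
        rw [mem_comap, mem_centralizer_singleton_iff, ← map_mul, ← map_mul]
        have := mem_centralizer_singleton_iff.mp hy.1
        rw [this]
      · intro y hy
        have hc : ⁅y, g⁆ ∈ N := by
          rw [hN, Subgroup.lowerCentralSeries_succ]
          exact commutator_mem_commutator hy (mem_top g)
        rw [mem_comap, mem_centralizer_singleton_iff]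
        have h1 : QuotientGroup.mk' N ⁅y, g⁆ = 1 := (QuotientGroup.eq_one_iff _).mpr hc
        rw [map_commutatorElement] at h1
        exact commutatorElement_eq_one_iff_mul_comm.mp h1
    have h1 := hsub (hle hx)
    rw [mem_comap, mem_centralizer_singleton_iff] at h1
    refine (QuotientGroup.eq_one_iff _).mp ?_
    show QuotientGroup.mk' N ⁅x, g⁆ = 1
    rw [map_commutatorElement]
    exact commutatorElement_eq_one_iff_mul_comm.mpr h1
  have h1 : Z.relIndex K ≤ (Z ⊓ L).relIndex M := by
    have : Z.relIndex K = (Z ⊓ L).relIndex K := by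
      rw [← inf_relIndex_right Z K, ← inf_relIndex_right (Z ⊓ L) K, inf_assoc, inf_eq_right.mpr hKL]
    rw [this]
    exact relIndex_le_of_le_right le_sup_right (index_ne_zero_of_finite)
  have h2 : Z.relIndex L = (Z ⊓ L).relIndex M * M.relIndex L := by
    rw [← inf_relIndex_right Z L, relIndex_mul_relIndex _ _ _ le_sup_left hML]
  have h3 : 1 < M.relIndex L := by
    have h0 : M.relIndex L ≠ 0 := index_ne_zero_of_finite
    have h4 : M.relIndex L ≠ 1 := fun h => hnot (relIndex_eq_one.mp h)
    omega
  have h5 : 0 < (Z ⊓ L).relIndex M := Nat.pos_of_ne_zero index_ne_zero_of_finite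
  rw [h2]
  calc Z.relIndex K ≤ (Z ⊓ L).relIndex M * 1 := by rw [mul_one]; exact h1
    _ < (Z ⊓ L).relIndex M * M.relIndex L := Nat.mul_lt_mul_of_pos_left h3 h5

/-- If G is a finite p-group in which every conjugacy class has at most p^b elements (every element has centralizer of index at most p^b), then G is abelian when b = 0, and when b ≥ 1 its nilpotency class c satisfies (c − 1)(p − 1) < bp, that is c < bp/(p − 1) + 1, and hence c ≤ 2b. -/
theorem result {G : Type*} [Group G] [Finite G] {p : ℕ} [Fact p.Prime] (hG : IsPGroup p G) (b : ℕ) (hb : ∀ x : G, (Subgroup.centralizer ({x} : Set G)).index ≤ p ^ b) : ∃ c : ℕ, (⊤ : Subgroup G).lowerCentralSeries c = ⊥ ∧ (b ≠ 0 → (c - 1) * (p - 1) < b * p ∧ c ≤ 2 * b) ∧ (b = 0 → c ≤ 1) := by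
  classical
  haveI := Fintype.ofFinite G
  have hnil : Group.IsNilpotent G := hG.isNilpotent
  have hex : ∃ n, (⊤ : Subgroup G).lowerCentralSeries n = ⊥ :=
    Subgroup.nilpotent_iff_lowerCentralSeries.mp hnil
  refine ⟨Nat.find hex, Nat.find_spec hex, ?_, ?_⟩
  · intro hb0
    set c := Nat.find hex with hc
    set γ := (⊤ : Subgroup G).lowerCentralSeries with hγ
    have hne : ∀ i, i + 1 < c → γ (i + 1) ≠ γ (i + 2) := by
      intro i hi heq
      have hst : ∀ k, γ (i + 1 + k) = γ (i + 1) := by
        intro k
        induction k with
        | zero => rfl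
        | succ k ih =>
          calc γ (i + 1 + (k + 1)) = ⁅γ (i + 1 + k), (⊤ : Subgroup G)⁆ := rfl
            _ = ⁅γ (i + 1), (⊤ : Subgroup G)⁆ := by rw [ih]
            _ = γ (i + 2) := rfl
            _ = γ (i + 1) := heq.symm
      have h0 : γ (i + 1) = ⊥ := by
        rw [← hst (c - (i + 1)), show i + 1 + (c - (i + 1)) = c by omega]
        exact Nat.find_spec hex
      exact Nat.find_min hex hi h0
    let C : ℕ → Subgroup G := fun i =>
      (centralizer (((γ i).map (QuotientGroup.mk' (γ (i + 2)))) : Set (G ⧸ γ (i + 2)))).comap
        (QuotientGroup.mk' (γ (i + 2)))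
    have hCmem : ∀ i g, g ∈ C i ↔ ∀ x ∈ γ i, ⁅x, g⁆ ∈ γ (i + 2) := by
      intro i g
      simp only [C, mem_comap, mem_centralizer_iff]
      constructor
      · intro h x hx
        refine (QuotientGroup.eq_one_iff _).mp ?_
        show QuotientGroup.mk' (γ (i + 2)) ⁅x, g⁆ = 1
        rw [map_commutatorElement]
        exact commutatorElement_eq_one_iff_mul_comm.mpr (h _ (mem_map_of_mem _ hx))
      · rintro h _ ⟨x, hx, rfl⟩
        have h1 : QuotientGroup.mk' (γ (i + 2)) ⁅x, g⁆ = 1 := (QuotientGroup.eq_one_iff _).mpr (h x hx)
        rw [map_commutatorElement] at h1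
        exact commutatorElement_eq_one_iff_mul_comm.mp h1
    -- each element lies outside at most b of the two-step centralizers
    have hp1 : 1 < p := (Fact.out : p.Prime).one_lt
    have hpow : ∀ (g : G) i, ∃ k, (centralizer ({g} : Set G)).relIndex (γ i) = p ^ k :=
      fun g i => (hG.to_subgroup (γ i)).index ((centralizer ({g} : Set G)).subgroupOf (γ i))
    have hcount : ∀ g : G, ∀ n k, (centralizer ({g} : Set G)).relIndex (γ n) = p ^ k →
        ((Finset.range n).filter (fun j => g ∉ C j)).card + k ≤ b := by
      intro g n
      induction n with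
      | zero =>
        intro k hk
        simp only [Finset.range_zero, Finset.filter_empty, Finset.card_empty, zero_add]
        have h0 : (centralizer ({g} : Set G)).relIndex (γ 0) ≤ p ^ b := by
          rw [hγ, Subgroup.lowerCentralSeries_zero, relIndex_top_right]; exact hb g
        rw [hk] at h0
        exact (Nat.pow_le_pow_iff_right hp1).mp h0
      | succ n ih =>
        intro k hk
        obtain ⟨k', hk'⟩ := hpow g n
        have := ih k' hk'
        rw [Finset.range_add_one, Finset.filter_insert]
        by_cases hin : g ∈ C n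
        · rw [if_neg (not_not.mpr hin)]
          have hle : p ^ k ≤ p ^ k' := by
            rw [← hk, ← hk']
            exact relIndex_le_of_le_right (Subgroup.lowerCentralSeries_antitone (⊤ : Subgroup G) (Nat.le_succ n))
              index_ne_zero_of_finite
          have := (Nat.pow_le_pow_iff_right hp1).mp hle
          omega
        · rw [if_pos hin, Finset.card_insert_of_notMem (by simp)]
          have hlt := breadth_drop g n (by rwa [← hCmem n g])
          rw [← hγ, hk, hk'] at hlt
          have := (Nat.pow_lt_pow_iff_right hp1).mp hlt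
          omega
    -- averaging over the group
    set n := c - 1 with hn
    have hsum : ∑ g : G, ((Finset.range n).filter (fun j => g ∉ C j)).card < Fintype.card G * b := by
      rw [← Finset.card_univ, ← smul_eq_mul, ← Finset.sum_const]
      refine Finset.sum_lt_sum (fun g _ => ?_) ⟨1, Finset.mem_univ _, ?_⟩
      · obtain ⟨k, hk⟩ := hpow g n
        have := hcount g n k hk
        omega
      · simp [one_mem, Nat.pos_of_ne_zero hb0]
    have hswap : ∑ g : G, ((Finset.range n).filter (fun j => g ∉ C j)).card =
        ∑ j ∈ Finset.range n, ((Finset.univ : Finset G).filter (fun g => g ∉ C j)).card := by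
      simp only [Finset.card_filter]
      exact Finset.sum_comm
    have hlow : ∀ j ∈ Finset.range n,
        Fintype.card G * (p - 1) ≤ p * ((Finset.univ : Finset G).filter (fun g => g ∉ C j)).card := by
      intro j hj
      rw [Finset.mem_range] at hj
      have hne' : C j ≠ ⊤ := by
        intro htop
        apply hne j (by omega)
        refine le_antisymm ?_ (Subgroup.lowerCentralSeries_antitone (⊤ : Subgroup G) (Nat.le_succ _))
        show ⁅γ j, (⊤ : Subgroup G)⁆ ≤ γ (j + 2)
        rw [commutator_le]
        intro x hx g _
        exact (hCmem j g).mp (htop ▸ mem_top g) x hx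
      obtain ⟨k, hk⟩ := hG.index (C j)
      have hk0 : k ≠ 0 := by
        rintro rfl
        exact hne' (index_eq_one.mp (by rw [hk, pow_zero]))
      have hpd : p * Nat.card (C j) ≤ Fintype.card G := by
        rw [← Nat.card_eq_fintype_card, ← (C j).card_mul_index, hk, mul_comm p]
        exact Nat.mul_le_mul_left _ (Nat.le_self_pow hk0 p)
      have hcardsplit : Nat.card (C j) + ((Finset.univ : Finset G).filter (fun g => g ∉ C j)).card =
          Fintype.card G := by
        rw [Nat.card_eq_fintype_card, Fintype.card_subtype, Finset.card_filter_add_card_filter_not,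
          Finset.card_univ]
      obtain ⟨q, rfl⟩ : ∃ q, p = q + 1 := ⟨p - 1, by omega⟩
      simp only [Nat.add_sub_cancel]
      nlinarith
    have h1 : n * (Fintype.card G * (p - 1)) ≤
        p * ∑ j ∈ Finset.range n, ((Finset.univ : Finset G).filter (fun g => g ∉ C j)).card := by
      rw [Finset.mul_sum]
      calc n * (Fintype.card G * (p - 1)) = ∑ _j ∈ Finset.range n, Fintype.card G * (p - 1) := by simp
        _ ≤ _ := Finset.sum_le_sum hlow
    rw [← hswap] at h1
    have h2 : n * (Fintype.card G * (p - 1)) < p * (Fintype.card G * b) :=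
      lt_of_le_of_lt h1 (Nat.mul_lt_mul_of_pos_left hsum (by omega))
    have h3 : n * (p - 1) < b * p := by
      by_contra h
      push Not at h
      have := Nat.mul_le_mul_left (Fintype.card G) h
      nlinarith
    refine ⟨h3, ?_⟩
    obtain ⟨q, rfl⟩ : ∃ q, p = q + 2 := ⟨p - 2, by omega⟩
    rw [show q + 2 - 1 = q + 1 by omega] at h3
    by_contra hcb
    have : 2 * b ≤ n := by omega
    have := Nat.mul_le_mul_right (q + 1) this
    nlinarith
  · intro hb0
    refine Nat.find_le ?_
    rw [Subgroup.top_lowerCentralSeries_one, eq_bot_iff]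
    have hab : ∀ x y : G, x * y = y * x := by
      intro x y
      have h1 : (centralizer ({y} : Set G)).index = 1 := by
        have := hb y
        rw [hb0, pow_zero] at this
        have := index_ne_zero_of_finite (H := centralizer ({y} : Set G))
        omega
      have hx : x ∈ centralizer ({y} : Set G) := by rw [index_eq_one.mp h1]; exact mem_top x
      exact mem_centralizer_singleton_iff.mp hx
    rw [_root_.commutator_def, commutator_le]
    intro x _ y _
    rw [mem_bot, commutatorElement_eq_one_iff_mul_comm]
    exact hab x y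

end Cfsg.Agent.S3778
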