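import Cfsg.Statements.S3780
import Mathlib.GroupTheory.PGroup
import Mathlib.GroupTheory.QuotientGroup.Basic
import Mathlib.Algebra.Ring.Aut
import Mathlib.Algebra.CharP.Lemmas
import Mathlib.Data.Nat.Factorization.Basic

set_option autoImplicit false
open Cfsg

namespace Cfsg.Agent.S3780

theorem card_le_pow {A : Type*} [AddCommGroup A] [Finite A] (p : ℕ) [hp : Fact p.Prime]
    (hA : ∀ x : A, p • x = 0) (a : AddMonoid.End A) (ha : a ^ p = 1) (n : ℕ)
    (hfix : Nat.card {x : A // a x = x} ≤ p ^ n) : Nat.card A ≤ p ^ (n * p) := by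
  set d : AddMonoid.End A := a - 1 with hd
  have hp0 : (p : AddMonoid.End A) = 0 := by
    ext x
    rw [AddMonoid.End.natCast_apply]
    exact hA x
  have hdp : d ^ p = 0 := by
    obtain ⟨r, hr⟩ := (Commute.one_right d).exists_add_pow_prime_eq hp.out
    rw [hd, sub_add_cancel, ha, one_pow, hp0] at hr
    simp only [zero_mul, add_zero] at hr
    rw [hd]
    exact add_eq_right.mp hr.symm
  have key : ∀ k, Nat.card (AddMonoidHom.ker (d ^ k : AddMonoid.End A)) ≤ p ^ (n * k) := by
    intro k
    induction k with
    | zero =>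
      rw [pow_zero, mul_zero, pow_zero]
      have : AddMonoidHom.ker (1 : AddMonoid.End A) = ⊥ :=
        le_bot_iff.mp fun x hx => AddSubgroup.mem_bot.mpr hx
      rw [this, AddSubgroup.card_bot]
    | succ k ih =>
      let f : AddMonoidHom.ker (d ^ (k + 1) : AddMonoid.End A) →+
          AddMonoidHom.ker (d ^ k : AddMonoid.End A) :=
        ((d : A →+ A).comp (AddMonoidHom.ker (d ^ (k + 1) : AddMonoid.End A)).subtype).codRestrict _
          (fun x => by
            show (d ^ k : AddMonoid.End A) (d (x : A)) = 0
            have h : (d ^ (k + 1) : AddMonoid.End A) (x : A) = 0 := x.2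
            exact (congrArg (fun e : AddMonoid.End A => e (x : A)) (pow_succ d k)).symm.trans h)
      have h1 := f.ker.card_mul_index
      rw [AddSubgroup.index_ker] at h1
      have h2 : Nat.card f.ker ≤ p ^ n := by
        refine le_trans (Nat.card_le_card_of_injective
          (fun x => (⟨((x : AddMonoidHom.ker (d ^ (k + 1) : AddMonoid.End A)) : A), ?_⟩ : {x : A // a x = x}))
          ?_) hfix
        · have h := congrArg Subtype.val (AddMonoidHom.mem_ker.mp x.2)
          exact sub_eq_zero.mp h
        · intro x y h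
          exact Subtype.ext (Subtype.ext (congrArg (fun z : {x : A // a x = x} => (z : A)) h))
      calc Nat.card _ = Nat.card f.ker * Nat.card f.range := h1.symm
        _ ≤ p ^ n * p ^ (n * k) :=
          Nat.mul_le_mul h2 ((AddSubgroup.card_le_card_addGroup _).trans ih)
        _ = p ^ (n * (k + 1)) := by rw [← pow_add]; ring_nf
  have := key p
  rw [hdp] at this
  have htop : AddMonoidHom.ker (0 : AddMonoid.End A) = ⊤ :=
    top_le_iff.mp fun x _ => rfl
  rwa [htop, AddSubgroup.card_top] at this

theorem exists_finset_of_card {Q : Type*} [Group Q] [Finite Q] (p : ℕ) [hp : Fact p.Prime]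
    (hQ : IsPGroup p Q) : ∀ k : ℕ, ∃ S : Finset Q, S.card ≤ k ∧
      (Subgroup.closure (S : Set Q) = ⊤ ∨ p ^ k ≤ Nat.card (Subgroup.closure (S : Set Q))) := by
  classical
  intro k
  induction k with
  | zero => exact ⟨∅, le_rfl, Or.inr (by rw [pow_zero]; exact Nat.card_pos)⟩
  | succ k ih =>
    obtain ⟨S, hS, hor⟩ := ih
    by_cases htop : Subgroup.closure (S : Set Q) = ⊤
    · exact ⟨S, hS.trans (Nat.le_succ k), Or.inl htop⟩
    replace hor := hor.resolve_left htop
    obtain ⟨x, -, hx⟩ := SetLike.exists_of_lt (lt_top_iff_ne_top.mpr htop)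
    refine ⟨insert x S, (Finset.card_insert_le _ _).trans (by omega), Or.inr ?_⟩
    have hle : Subgroup.closure (S : Set Q) ≤ Subgroup.closure ((insert x S : Finset Q) : Set Q) :=
      Subgroup.closure_mono (by simp)
    have hne : Subgroup.closure (S : Set Q) ≠ Subgroup.closure ((insert x S : Finset Q) : Set Q) :=
      fun h => hx (h ▸ Subgroup.subset_closure (by simp))
    obtain ⟨i, hi⟩ := (hQ.to_subgroup (Subgroup.closure (S : Set Q))).exists_card_eq
    obtain ⟨j, hj⟩ := (hQ.to_subgroup (Subgroup.closure ((insert x S : Finset Q) : Set Q))).exists_card_eq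
    have hlt : p ^ i < p ^ j := by
      rw [← hi, ← hj]
      exact lt_of_le_of_ne (Subgroup.card_le_of_le hle)
        (fun h => hne (Subgroup.eq_of_le_of_card_ge hle h.ge))
    rw [hi] at hor
    rw [hj]
    exact Nat.pow_le_pow_right hp.out.pos
      (by
        have := (Nat.pow_lt_pow_iff_right hp.out.one_lt).mp hlt
        have := (Nat.pow_le_pow_iff_right hp.out.one_lt).mp hor
        omega)

/-- Let V be a finite abelian p-group and α an automorphism of V of order p whose fixed-point subgroup has order p^n. Then V can be generated by pn elements: some subset of V with at most pn elements generates V. -/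
theorem result {V : Type*} [CommGroup V] [Finite V] {p : ℕ} [Fact p.Prime] (hV : IsPGroup p V) (α : MulAut V) (hα : orderOf α = p) (n : ℕ) (hfix : Nat.card {v : V // α v = v} = p ^ n) : ∃ S : Finset V, S.card ≤ p * n ∧ Subgroup.closure (S : Set V) = ⊤ := by
  classical
  let W : Subgroup V := (powMonoidHom p : V →* V).ker
  let R : Subgroup V := (powMonoidHom p : V →* V).range
  have hW : Nat.card W ≤ p ^ (n * p) := by
    let aW : W →* W := (α.toMonoidHom.comp W.subtype).codRestrict W (fun w => by
      rw [MonoidHom.mem_ker, powMonoidHom_apply]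
      show α (w : V) ^ p = 1
      rw [← map_pow, show (w : V) ^ p = 1 from w.2, map_one])
    let a : AddMonoid.End (Additive W) := aW.toAdditive
    have hak : ∀ k (w : Additive W), ((((a ^ k) w).toMul : W) : V) = (α ^ k) ((w.toMul : W) : V) := by
      intro k
      induction k with
      | zero => intro w; rfl
      | succ k ih =>
        intro w
        rw [pow_succ, pow_succ]
        exact ih (a w)
    have h1 : a ^ p = 1 := by
      refine AddMonoidHom.ext fun w => Additive.toMul.injective (Subtype.ext ?_)
      refine (hak p w).trans ?_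
      rw [← hα, pow_orderOf_eq_one]
      rfl
    have h2 : Nat.card {x : Additive W // a x = x} ≤ p ^ n := by
      rw [← hfix]
      refine Nat.card_le_card_of_injective (fun x => ⟨((x.1.toMul : W) : V), ?_⟩) ?_
      · exact congrArg (fun y : Additive W => ((y.toMul : W) : V)) x.2
      · intro x y h
        exact Subtype.ext (Additive.toMul.injective (Subtype.ext (congrArg (fun z : {v : V // α v = v} => (z : V)) h)))
    have h3 := card_le_pow p (A := Additive W)
      (fun x => Additive.toMul.injective (Subtype.ext (show ((x.toMul : W) : V) ^ p = 1 from x.toMul.2))) a h1 n h2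
    exact le_of_eq_of_le (Nat.card_congr Additive.ofMul) h3
  have hQcard : Nat.card (V ⧸ R) = Nat.card W := by
    refine Nat.eq_of_mul_eq_mul_right (Nat.card_pos : 0 < Nat.card R) ?_
    rw [← R.card_eq_card_quotient_mul_card_subgroup, ← W.card_mul_index]
    exact congrArg (Nat.card W * ·) (Subgroup.index_ker (powMonoidHom p : V →* V))
  obtain ⟨S, hS, hor⟩ := exists_finset_of_card p (hV.to_quotient R) (p * n)
  have htop : Subgroup.closure (S : Set (V ⧸ R)) = ⊤ := by
    refine hor.elim id (fun h => Subgroup.eq_top_of_le_card _ ?_)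
    rw [hQcard]
    exact hW.trans (by rwa [mul_comm n p])
  refine ⟨S.image Quotient.out, Finset.card_image_le.trans hS, ?_⟩
  set K := Subgroup.closure ((S.image Quotient.out : Finset V) : Set V) with hK
  have hKR : K ⊔ R = ⊤ := by
    rw [eq_top_iff]
    intro v _
    have hv : QuotientGroup.mk' R v ∈ K.map (QuotientGroup.mk' R) := by
      have : (S : Set (V ⧸ R)) ⊆ K.map (QuotientGroup.mk' R) := fun s hs =>
        ⟨Quotient.out s, Subgroup.subset_closure (Finset.mem_image_of_mem _ hs), QuotientGroup.out_eq' s⟩
      exact (Subgroup.closure_le _).mpr this (htop ▸ Subgroup.mem_top _)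
    have := Subgroup.mem_comap.mpr hv
    rwa [Subgroup.comap_map_eq, QuotientGroup.ker_mk'] at this
  have hsurj : Function.Surjective (powMonoidHom p : V ⧸ K →* V ⧸ K) := by
    intro y
    obtain ⟨v, rfl⟩ := QuotientGroup.mk'_surjective K y
    obtain ⟨k, hk, r, hr, rfl⟩ := Subgroup.mem_sup.mp (hKR ▸ Subgroup.mem_top v : v ∈ K ⊔ R)
    obtain ⟨u, rfl⟩ := hr
    exact ⟨QuotientGroup.mk' K u, by
      rw [map_mul, show QuotientGroup.mk' K k = 1 from (QuotientGroup.eq_one_iff k).mpr hk, one_mul]
      simp⟩
  by_contra hne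
  have hQK : Nontrivial (V ⧸ K) := by
    rw [← Finite.one_lt_card_iff_nontrivial, ← Subgroup.index_eq_card]
    have h1 : K.index ≠ 1 := fun h => hne (Subgroup.index_eq_one.mp h)
    have h0 : K.index ≠ 0 := Subgroup.index_ne_zero_of_finite
    omega
  obtain ⟨m, hm⟩ := (hV.to_quotient K).exists_card_eq
  have hm1 := (Finite.one_lt_card_iff_nontrivial).mpr hQK
  obtain ⟨y, hy⟩ := exists_prime_orderOf_dvd_card' p (G := V ⧸ K)
    (hm ▸ dvd_pow_self p (by rintro rfl; simp at hm; omega))
  have hinj := Finite.injective_iff_surjective.mpr hsurj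
  have : y = 1 := hinj (by simp [powMonoidHom_apply, ← hy, pow_orderOf_eq_one])
  rw [this, orderOf_one] at hy
  exact (Fact.out : p.Prime).one_lt.ne hy

end Cfsg.Agent.S3780
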