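import Cfsg.Statements.S3781
import Cfsg.Agent.Lib.PGroups.Commutator
import Mathlib.GroupTheory.Nilpotent

set_option autoImplicit false
open Cfsg

namespace Cfsg.Agent.S3781

variable {H : Type*} [Group H]

/-- The iterated commutator `[X, H, …, H]`. -/
def itc (X : Subgroup H) : ℕ → Subgroup H
  | 0 => X
  | k + 1 => ⁅itc X k, (⊤ : Subgroup H)⁆

theorem itc_normal (X : Subgroup H) [X.Normal] : ∀ k, (itc X k).Normal
  | 0 => ‹_›
  | k + 1 => by
    have := itc_normal X k
    exact Subgroup.commutator_normal _ _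

theorem itc_mono {X Y : Subgroup H} (h : X ≤ Y) : ∀ k, itc X k ≤ itc Y k
  | 0 => h
  | k + 1 => Subgroup.commutator_mono (itc_mono h k) le_rfl

theorem itc_shift (X : Subgroup H) : ∀ k, itc ⁅X, (⊤ : Subgroup H)⁆ k = itc X (k + 1)
  | 0 => rfl
  | k + 1 => by
    show ⁅itc _ k, (⊤ : Subgroup H)⁆ = ⁅itc X (k + 1), (⊤ : Subgroup H)⁆
    rw [itc_shift X k]

theorem itc_antitone (X : Subgroup H) [X.Normal] {a b : ℕ} (h : a ≤ b) : itc X b ≤ itc X a := by
  induction h with
  | refl => exact le_rfl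
  | @step b _ ih =>
    have := itc_normal X b
    exact le_trans (Subgroup.commutator_le_left _ _) ih

theorem itc_le_lowerCentralSeries (X : Subgroup H) :
    ∀ k, itc X k ≤ (⊤ : Subgroup H).lowerCentralSeries k
  | 0 => le_top
  | k + 1 => Subgroup.commutator_mono (itc_le_lowerCentralSeries X k) le_rfl

theorem commutator_lcs_le (k : ℕ) : ∀ (X : Subgroup H), X.Normal →
    ⁅X, (⊤ : Subgroup H).lowerCentralSeries k⁆ ≤ itc X (k + 1) := by
  induction k with
  | zero => exact fun X _ => le_rfl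
  | succ k ih =>
    intro X hX
    have := itc_normal X (k + 1 + 1)
    rw [Subgroup.lowerCentralSeries_succ, Subgroup.commutator_comm]
    refine Cfsg.Agent.Lib.PGroups.three_subgroup_normal ?_ ?_
    · rw [Subgroup.commutator_comm (⊤ : Subgroup H) X, ← itc_shift X (k + 1)]
      exact ih _ (Subgroup.commutator_normal _ _)
    · exact Subgroup.commutator_mono (ih X hX) le_rfl

theorem commutator_sup_le (X B : Subgroup H) [B.Normal] :
    ⁅X ⊔ B, (⊤ : Subgroup H)⁆ ≤ ⁅X, (⊤ : Subgroup H)⁆ ⊔ B := by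
  have h : (⁅X ⊔ B, (⊤ : Subgroup H)⁆).map (QuotientGroup.mk' B) ≤
      (⁅X, (⊤ : Subgroup H)⁆).map (QuotientGroup.mk' B) := by
    rw [Subgroup.map_commutator, Subgroup.map_commutator, Subgroup.map_sup]
    refine Subgroup.commutator_mono (sup_le le_rfl ?_) le_rfl
    rw [(Subgroup.map_eq_bot_iff _).mpr (QuotientGroup.ker_mk' B).ge]
    exact bot_le
  rw [Subgroup.map_le_map_iff, QuotientGroup.ker_mk'] at h
  exact h

theorem eq_bot_of_le_commutator [Group.IsNilpotent H] (B : Subgroup H) (h : B ≤ ⁅B, (⊤ : Subgroup H)⁆) :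
    B = ⊥ := by
  obtain ⟨c, hc⟩ := Subgroup.nilpotent_iff_lowerCentralSeries.mp ‹Group.IsNilpotent H›
  have : ∀ k, B ≤ itc B k := fun k => by
    induction k with
    | zero => exact le_rfl
    | succ k ih => exact h.trans (Subgroup.commutator_mono ih le_rfl)
  exact le_bot_iff.mp ((this c).trans ((itc_le_lowerCentralSeries B c).trans hc.le))

theorem itc_le_of_relIndex [Finite H] [Group.IsNilpotent H] {p : ℕ} (hp : p.Prime) : ∀ (m : ℕ) (A B : Subgroup H),
    A.Normal → B.Normal → B ≤ A → B.relIndex A = p ^ m → itc A m ≤ B := by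
  intro m
  induction m using Nat.strong_induction_on with
  | _ m ih =>
    intro A B hA hB hBA hm
    by_cases hAB : A ≤ B
    · exact (itc_antitone A (Nat.zero_le m)).trans hAB
    have hle : ⁅A, (⊤ : Subgroup H)⁆ ⊔ B ≤ A := sup_le (Subgroup.commutator_le_left _ _) hBA
    have hne : ⁅A, (⊤ : Subgroup H)⁆ ⊔ B ≠ A := by
      intro heq
      obtain ⟨c, hc⟩ := Subgroup.nilpotent_iff_lowerCentralSeries.mp ‹Group.IsNilpotent H›
      have : ∀ k, A ≤ itc A k ⊔ B := fun k => by
        induction k with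
        | zero => exact le_sup_left
        | succ k ih2 =>
          exact heq.ge.trans (sup_le ((Subgroup.commutator_mono ih2 le_rfl).trans
            (commutator_sup_le _ _)) le_sup_right)
      exact hAB ((this c).trans (sup_le (((itc_le_lowerCentralSeries A c).trans hc.le).trans bot_le) le_rfl))
    have := Subgroup.commutator_normal A (⊤ : Subgroup H)
    have hA1 : (⁅A, (⊤ : Subgroup H)⁆ ⊔ B).Normal := Subgroup.sup_normal _ _
    have hmul := Subgroup.relIndex_mul_relIndex B _ A le_sup_right hle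
    rw [hm] at hmul
    obtain ⟨j, -, hj⟩ := (Nat.dvd_prime_pow hp).mp ⟨_, hmul.symm⟩
    have hjm : j < m := by
      rcases Nat.lt_or_ge j m with h | h
      · exact h
      · exfalso
        have h1 : 1 < (⁅A, (⊤ : Subgroup H)⁆ ⊔ B).relIndex A := by
          have h0 : (⁅A, (⊤ : Subgroup H)⁆ ⊔ B).relIndex A ≠ 1 :=
            fun h1 => hne (le_antisymm hle (Subgroup.relIndex_eq_one.mp h1))
          have h00 : (⁅A, (⊤ : Subgroup H)⁆ ⊔ B).relIndex A ≠ 0 := Subgroup.index_ne_zero_of_finite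
          omega
        have h2 : p ^ j < p ^ m := by
          rw [← hmul, hj]; exact lt_mul_of_one_lt_right (pow_pos hp.pos j) h1
        exact absurd h2 (not_lt.mpr (Nat.pow_le_pow_right hp.pos h))
    calc itc A m ≤ itc A (j + 1) := itc_antitone A hjm
      _ = itc ⁅A, (⊤ : Subgroup H)⁆ j := (itc_shift A j).symm
      _ ≤ itc (⁅A, (⊤ : Subgroup H)⁆ ⊔ B) j := itc_mono le_sup_left j
      _ ≤ B := ih j hjm _ B hA1 hB le_sup_right hj

theorem lcs_normal (N : Subgroup H) [N.Normal] : ∀ k, (N.lowerCentralSeries k).Normal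
  | 0 => ‹_›
  | k + 1 => by
    have := lcs_normal N k
    exact Subgroup.commutator_normal _ _

/-- Let G be a finite p-group and n ≥ 1, and write γ_1(G) = G, γ_{k+1}(G) = [γ_k(G), G], and likewise γ_k(N) for a subgroup N. Let N be a normal subgroup of G contained in γ_n(G). If i > 1 and γ_{i+1}(N) ≠ 1, then |γ_i(N) : γ_{i+1}(N)| ≥ p^n. -/
theorem result {G : Type*} [Group G] [Finite G] {p : ℕ} [Fact p.Prime] (hG : IsPGroup p G) (n : ℕ) (hn : 1 ≤ n) (N : Subgroup G) [N.Normal] (hN : N ≤ (⊤ : Subgroup G).lowerCentralSeries (n - 1)) (i : ℕ) (hi : 1 < i) (hne : N.lowerCentralSeries i ≠ ⊥) : p ^ n ≤ (N.lowerCentralSeries i).relIndex (N.lowerCentralSeries (i - 1)) := by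
  obtain ⟨j, rfl⟩ : ∃ j, i = j + 1 := ⟨i - 1, by omega⟩
  rw [Nat.add_sub_cancel]
  have := hG.isNilpotent
  set A := N.lowerCentralSeries j with hAdef
  have hA : A.Normal := lcs_normal N j
  set B := N.lowerCentralSeries (j + 1) with hBdef
  have hB : B.Normal := lcs_normal N (j + 1)
  have hBA : B ≤ A := Subgroup.lowerCentralSeries_antitone N (Nat.le_succ j)
  obtain ⟨m, hm⟩ : ∃ m, B.relIndex A = p ^ m := by
    obtain ⟨m, hm⟩ := hG.exists_card_eq
    obtain ⟨k, -, hk⟩ := (Nat.dvd_prime_pow Fact.out).mp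
      ((Subgroup.relIndex_dvd_card B A).trans (hm ▸ Subgroup.card_subgroup_dvd_card A))
    exact ⟨k, hk⟩
  rw [hm]
  refine Nat.pow_le_pow_right (Fact.out : p.Prime).pos (not_lt.mp fun hmn => hne ?_)
  refine eq_bot_of_le_commutator B ?_
  have h1 : itc A m ≤ B := itc_le_of_relIndex (Fact.out : p.Prime) m A B hA hB hBA hm
  calc B ≤ ⁅A, (⊤ : Subgroup G).lowerCentralSeries (n - 1)⁆ := Subgroup.commutator_mono le_rfl hN
    _ ≤ itc A (n - 1 + 1) := commutator_lcs_le _ A hA
    _ ≤ itc A (m + 1) := itc_antitone A (by omega)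
    _ ≤ ⁅B, (⊤ : Subgroup G)⁆ := Subgroup.commutator_mono h1 le_rfl

end Cfsg.Agent.S3781
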