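import Cfsg.Statements.S3783
import Mathlib
import Cfsg.Agent.Lib.Cores
import Cfsg.Agent.Lib.Coprime
import Cfsg.Agent.Lib.Blocks.PSolvable
import Cfsg.Agent.Lib.BlockHeights.PConstrainedCores
import Cfsg.Agent.Lib.Characters.PSolvableTI
import Cfsg.Agent.Lib.Solvable.FPF.Module
import Cfsg.Agent.Lib.PLength.Basic
-- import your own Cfsg.Agent.* helpers here

set_option autoImplicit false
open Cfsg

namespace Cfsg.Agent.S3783


open Subgroup Module
open Cfsg.Agent.Lib
open Cfsg.Agent.Lib.Solvable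

universe u

/-- The weights of an abelian `p'`-group detect the powers of a normalizing `p`-element. -/
theorem commute_of_sum_eq_zero {k W : Type*} [Field k] [IsAlgClosed k] [AddCommGroup W] [Module k W]
    [FiniteDimensional k W] {Γ : Type*} [Group Γ] [Finite Γ] (ρ : Γ →* End k W)
    (hρ : Function.Injective ρ) {p : ℕ} [Fact p.Prime] (n : ℕ) (s : Γ) (hs : orderOf s = p ^ (n + 1))
    (hsum : ∑ i : Fin (p ^ (n + 1)), ρ (s ^ (i : ℕ)) = 0) (Q : Subgroup Γ)
    (hQ : ∀ a ∈ Q, ∀ b ∈ Q, Commute a b) (hQk : (Nat.card Q : k) ≠ 0)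
    (hsQ : s ∈ normalizer (Q : Set Γ)) : ∀ y ∈ Q, s ^ p ^ n * y = y * s ^ p ^ n := by
  classical
  set z := s ^ p ^ n with hz
  intro y hy
  by_contra hne
  set A := zpowers s with hA
  have hAQ : A ≤ normalizer (Q : Set Γ) := zpowers_le.mpr hsQ
  have hzy : z * y * z⁻¹ ∈ Q :=
    (mem_normalizer_iff.mp (hAQ (pow_mem (mem_zpowers s) _)) y).mp hy
  have hc : z * y * z⁻¹ * y⁻¹ ∈ Q := mul_mem hzy (inv_mem hy)
  obtain ⟨χ, w, hw0, hw, hχc⟩ := FPF.exists_weight ρ Q hQ hQk hc (fun h => hne (by
    have h1 : z * y * z⁻¹ * y⁻¹ = 1 := hρ (h.trans (map_one ρ).symm)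
    calc z * y = (z * y * z⁻¹ * y⁻¹) * (y * z) := by group
      _ = y * z := by rw [h1, one_mul]))
  letI : Fintype A := Fintype.ofFinite A
  have hsum' : ∑ a : A, ρ a = 0 := by
    have hbij : Function.Bijective (fun i : Fin (p ^ (n + 1)) => (⟨s ^ (i : ℕ), pow_mem (mem_zpowers s) _⟩ : A)) := by
      rw [Fintype.bijective_iff_injective_and_card]
      refine ⟨fun i j hij => Fin.ext ?_, ?_⟩
      · exact pow_injOn_Iio_orderOf (by rw [Set.mem_Iio, hs]; exact i.2) (by rw [Set.mem_Iio, hs]; exact j.2)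
          (congrArg Subtype.val hij)
      · rw [Fintype.card_fin, ← Nat.card_eq_fintype_card, Nat.card_zpowers, hs]
    rw [← hbij.sum_comp (fun a : A => ρ a)]
    exact hsum
  obtain ⟨a, haA, ha1, hfix⟩ := FPF.exists_fix_weight ρ A Q hsum' hAQ χ w hw0 hw
  have hmemQ : ∀ b ∈ A, ∀ x : Q, b * x * b⁻¹ ∈ Q := fun b hb x =>
    (mem_normalizer_iff.mp (hAQ hb) x).mp x.2
  have hfixn : ∀ i : ℕ, ∀ x : Q, χ ⟨a ^ i * x * (a ^ i)⁻¹, hmemQ _ (pow_mem haA i) x⟩ = χ x := by
    intro i
    induction i with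
    | zero => intro x; congr 1; exact Subtype.ext (by simp)
    | succ i ih =>
      intro x
      rw [← ih x, ← hfix ⟨a ^ i * x * (a ^ i)⁻¹, hmemQ _ (pow_mem haA i) x⟩ (hmemQ a haA _)]
      congr 1
      exact Subtype.ext (by simp only [pow_succ']; group)
  obtain ⟨i, hi⟩ : ∃ i : ℕ, a ^ i = z := by
    obtain ⟨j, hj⟩ := mem_zpowers_iff.mp haA
    obtain ⟨m, hm, hm'⟩ := (Nat.dvd_prime_pow (Fact.out : p.Prime)).mp (hs ▸ orderOf_dvd_of_mem_zpowers haA)
    have hsub : zpowers z ≤ zpowers a := by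
      have hm1 : 1 ≤ m := by
        rcases m with _ | m
        · exact absurd (orderOf_eq_one_iff.mp (by rw [hm', pow_zero])) ha1
        · omega
      have ho : orderOf (a ^ p ^ (m - 1)) = p := by
        rw [orderOf_pow, hm', Nat.gcd_eq_right (pow_dvd_pow p (Nat.sub_le m 1)),
          Nat.pow_div (Nat.sub_le m 1) (Fact.out : p.Prime).pos, show m - (m - 1) = 1 by omega, pow_one]
      have hoz : orderOf z = p := by
        rw [hz, orderOf_pow, hs, Nat.gcd_eq_right (pow_dvd_pow p (Nat.le_succ n)),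
          Nat.pow_div (Nat.le_succ n) (Fact.out : p.Prime).pos, show n + 1 - n = 1 by omega, pow_one]
      have huniq : zpowers z = zpowers (a ^ p ^ (m - 1)) := by
        have hle : ∀ u v : Γ, u ∈ A → v ∈ A → orderOf u = p → orderOf v = p → v ∈ zpowers u := by
          intro u v hu hv hou hov
          have hsub : (Finset.univ.filter fun w : A => (w : Γ) ∈ zpowers u) ⊆
              Finset.univ.filter fun w : A => w ^ p = 1 := by
            intro w hw
            simp only [Finset.mem_filter, Finset.mem_univ, true_and] at hw ⊢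
            refine Subtype.ext ?_
            show (w : Γ) ^ p = 1
            exact orderOf_dvd_iff_pow_eq_one.mp (hou ▸ orderOf_dvd_of_mem_zpowers hw)
          have hcard : (Finset.univ.filter fun w : A => (w : Γ) ∈ zpowers u).card = p := by
            rw [← Fintype.card_subtype, ← Nat.card_eq_fintype_card,
              show Nat.card {w : A // (w : Γ) ∈ zpowers u} = Nat.card ((zpowers u).subgroupOf A) from rfl,
              Nat.card_congr (subgroupOfEquivOfLe (zpowers_le.mpr hu : zpowers u ≤ A)).toEquiv,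
              Nat.card_zpowers, hou]
          have heq := Finset.eq_of_subset_of_card_le hsub
            (by rw [hcard]; exact IsCyclic.card_pow_eq_one_le (Fact.out : p.Prime).pos)
          have hvm : (⟨v, hv⟩ : A) ∈ Finset.univ.filter fun w : A => w ^ p = 1 := by
            refine Finset.mem_filter.mpr ⟨Finset.mem_univ _, Subtype.ext ?_⟩
            show v ^ p = 1
            rw [← hov, pow_orderOf_eq_one]
          rw [← heq] at hvm
          exact (Finset.mem_filter.mp hvm).2
        exact le_antisymm (zpowers_le.mpr (hle _ _ (pow_mem haA _) (pow_mem (mem_zpowers s) _) ho hoz))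
          (zpowers_le.mpr (hle _ _ (pow_mem (mem_zpowers s) _) (pow_mem haA _) hoz ho))
      rw [huniq, zpowers_le]
      exact pow_mem (mem_zpowers a) _
    exact (mem_powers_iff_mem_zpowers.mpr (hsub (mem_zpowers z)))
  have hmul : ∀ u v : Q, χ (u * v) = χ u * χ v := fun u v => by
    refine smul_left_injective k hw0 ?_
    show χ (u * v) • w = (χ u * χ v) • w
    rw [← hw, Subgroup.coe_mul, map_mul, End.mul_apply, hw v, map_smul, hw u, smul_smul, mul_comm]
  apply hχc
  have h1 := hmul ⟨_, hc⟩ ⟨y, hy⟩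
  have h2 : (⟨_, hc⟩ : Q) * ⟨y, hy⟩ = ⟨a ^ i * y * (a ^ i)⁻¹, hmemQ _ (pow_mem haA i) ⟨y, hy⟩⟩ :=
    Subtype.ext (by show z * y * z⁻¹ * y⁻¹ * y = a ^ i * y * (a ^ i)⁻¹; rw [hi]; group)
  rw [h2, hfixn i ⟨y, hy⟩] at h1
  have hy0 : χ ⟨y, hy⟩ ≠ 0 := fun h0 => hw0 (by
    have h3 := hw ⟨y, hy⟩
    rw [h0, zero_smul] at h3
    have h4 : ρ (y⁻¹ * y) w = 0 := by rw [map_mul, End.mul_apply]; simp only at h3; rw [h3, map_zero]
    simpa using h4)
  exact (mul_eq_right₀ hy0).mp h1.symm

theorem le_sup_sylow {G : Type*} [Group G] [Finite G] (K S : Subgroup G) (hS : S ≤ K)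
    (h : ∀ (q : ℕ) [Fact q.Prime], ∃ Q : Sylow q K, (Q : Subgroup K).map K.subtype ≤ S) : K ≤ S := by
  have hd : Nat.card K ∣ Nat.card S := by
    refine (Nat.dvd_iff_prime_pow_dvd_dvd _ _).mpr fun q m hq hm => ?_
    haveI := Fact.mk hq
    obtain ⟨Q, hQ⟩ := h q
    refine dvd_trans ?_ (card_dvd_of_le hQ)
    rw [card_map_of_injective K.subtype_injective, Q.card_eq_multiplicity]
    exact pow_dvd_pow q ((hq.pow_dvd_iff_le_factorization Nat.card_pos.ne').mp hm)
  exact (eq_of_le_of_card_ge hS (Nat.le_of_dvd Nat.card_pos hd)).ge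

theorem main : ∀ (n : ℕ) {G : Type u} [Group G] [Finite G] {p : ℕ} [Fact p.Prime],
    Cfsg.IsPSolvable p G →
    (∀ (q : ℕ) [Fact q.Prime], q ≠ p → ∀ Q : Sylow q G, IsMulCommutative (Q : Subgroup G)) →
    (∀ (P : Sylow p G), ∀ x ∈ (P : Subgroup G), x ^ p ^ n = 1) → Cfsg.PLengthLE p n G := by
  intro n
  induction n with
  | zero =>
    intro G _ _ p hp _ _ hexp
    refine PLength.of_coprime ?_ 0
    obtain ⟨P⟩ : Nonempty (Sylow p G) := inferInstance
    have : (P : Subgroup G) = ⊥ := (eq_bot_iff_forall _).mpr fun x hx => by simpa using hexp P x hx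
    have h1 : ¬ p ∣ (P : Subgroup G).index := P.not_dvd_index
    rw [this, index_bot] at h1
    exact (hp.out.coprime_iff_not_dvd.mpr h1).symm
  | succ n ih =>
    intro G _ _ p hp hG hab hexp
    -- reduce to a trivial `p'`-core
    suffices hred : ∀ {H : Type u} [Group H] [Finite H], Cfsg.IsPSolvable p H →
        (∀ (q : ℕ) [Fact q.Prime], q ≠ p → ∀ Q : Sylow q H, IsMulCommutative (Q : Subgroup H)) →
        (∀ (P : Sylow p H), ∀ x ∈ (P : Subgroup H), x ^ p ^ (n + 1) = 1) →
        Cfsg.pPrimeCore p H = ⊥ → Cfsg.PLengthLE p (n + 1) H by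
      refine PLength.of_quotient_coprime (Cfsg.pPrimeCore p G) (Cores.pPrimeCore_coprime p G)
        (hred (BlockHeights.isPSolvable_quot _ hG) (fun q hq hqp Q => ?_) (fun P x hx => ?_)
          (Cores.pPrimeCore_quotient_pPrimeCore p G))
      · obtain ⟨Q₀, rfl⟩ := Sylow.mapSurjective_surjective (QuotientGroup.mk'_surjective (Cfsg.pPrimeCore p G)) q Q
        haveI := hab q hqp Q₀
        rw [Sylow.coe_mapSurjective]
        infer_instance
      · obtain ⟨P₀, rfl⟩ := Sylow.mapSurjective_surjective (QuotientGroup.mk'_surjective (Cfsg.pPrimeCore p G)) p P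
        rw [Sylow.coe_mapSurjective] at hx
        obtain ⟨y, hy, rfl⟩ := hx
        rw [← map_pow, hexp P₀ y hy, map_one]
    clear hG hab hexp
    intro G _ _ hG hab hexp hcore
    classical
    set V := Cfsg.pCore p G with hV
    have hVp : IsPGroup p V := Cores.pCore_isPGroup p G
    have hCV : centralizer (V : Set G) ≤ V := Blocks.centralizer_pCore_le_of_isPSolvable p hG hcore
    refine PLength.of_quotient_isPGroup V hVp
      (ih (BlockHeights.isPSolvable_quot _ hG) (fun q hq hqp Q => ?_) fun P' x' hx' => ?_)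
    · obtain ⟨Q₀, rfl⟩ := Sylow.mapSurjective_surjective (QuotientGroup.mk'_surjective V) q Q
      haveI := hab q hqp Q₀
      rw [Sylow.coe_mapSurjective]
      infer_instance
    obtain ⟨P, rfl⟩ := Sylow.mapSurjective_surjective (QuotientGroup.mk'_surjective V) p P'
    rw [Sylow.coe_mapSurjective] at hx'
    obtain ⟨x, hx, rfl⟩ := hx'
    by_contra hne
    set s := QuotientGroup.mk' V x with hs
    have hso : orderOf s = p ^ (n + 1) :=
      orderOf_eq_prime_pow hne (by rw [hs, ← map_pow, hexp P x hx, map_one])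
    -- the action on the Frattini quotient of `V`
    haveI : Group.IsNilpotent V := hVp.isNilpotent
    set Φ := (frattini V).map V.subtype with hΦ
    haveI hΦn : Φ.Normal := Cores.normal_map_subtype_of_char V _
    set π := QuotientGroup.mk' Φ with hπ
    set U := V.map π with hU
    haveI hUn : U.Normal := Subgroup.Normal.map inferInstance _ (QuotientGroup.mk'_surjective Φ)
    letI : CommGroup U := { (inferInstance : Group U) with
      mul_comm := fun u v => by
        obtain ⟨_, a, ha, rfl⟩ := u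
        obtain ⟨_, b, hb, rfl⟩ := v
        refine Subtype.ext (show π a * π b = π b * π a from ?_)
        rw [← commutatorElement_eq_one_iff_mul_comm, ← map_commutatorElement, hπ,
          QuotientGroup.mk'_apply, QuotientGroup.eq_one_iff]
        exact ⟨_, Cores.commutator_le_frattini
          (commutator_mem_commutator (mem_top (⟨a, ha⟩ : V)) (mem_top ⟨b, hb⟩)), rfl⟩ }
    have hUp : ∀ u : U, u ^ p = 1 := by
      rintro ⟨_, a, ha, rfl⟩
      refine Subtype.ext (show (π a) ^ p = 1 from ?_)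
      rw [← map_pow, hπ, QuotientGroup.mk'_apply, QuotientGroup.eq_one_iff]
      exact ⟨_, Cores.pow_mem_frattini hVp ⟨a, ha⟩, rfl⟩
    let φ : G →* MulAut U := MulAut.conjNormal.comp π
    have hφ : ∀ g (u : U), ((φ g u : U) : G ⧸ Φ) = π g * u * (π g)⁻¹ := fun g u =>
      MulAut.conjNormal_apply _ _
    have hVker : V ≤ φ.ker := fun v hv => by
      refine MonoidHom.mem_ker.mpr (MulEquiv.ext fun u => Subtype.ext ?_)
      rw [hφ]
      have := congrArg Subtype.val (mul_comm (⟨π v, v, hv, rfl⟩ : U) u)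
      show π v * (u : G ⧸ Φ) * (π v)⁻¹ = u
      rw [show π v * (u : G ⧸ Φ) = u * π v from this, mul_inv_cancel_right]
    have hker : φ.ker ≤ V := by
      refine Cores.le_pCore inferInstance fun g => ?_
      obtain ⟨k, hk⟩ : ∃ k : ℕ, (orderOf ((g : G) ^ p ^ k)).Coprime p := by
        refine ⟨(orderOf (g : G)).factorization p, ?_⟩
        rw [orderOf_pow, Nat.gcd_eq_right (Nat.ordProj_dvd _ _)]
        exact (Nat.coprime_ordCompl hp.out (orderOf_pos _).ne').symm
      have h1 : (g : G) ^ p ^ k ∈ V := by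
        refine hCV (Coprime.le_centralizer_of_frattini (A := zpowers ((g : G) ^ p ^ k)) ?_ ?_ (mem_zpowers _))
        · rw [Nat.card_zpowers]
          obtain ⟨m, hm⟩ := (hVp.to_subgroup (frattini V)).exists_card_eq
          rw [hm]; exact hk.pow_right m
        · intro a ha v hv
          obtain ⟨i, rfl⟩ := mem_zpowers_iff.mp ha
          show ((g : G) ^ p ^ k) ^ i * v * (((g : G) ^ p ^ k) ^ i)⁻¹ * v⁻¹ ∈ Φ
          have hmem : ((g : G) ^ p ^ k) ^ i ∈ φ.ker := zpow_mem (pow_mem g.2 _) i
          have h2 := congrArg (fun e : MulAut U => ((e ⟨π v, v, hv, rfl⟩ : U) : G ⧸ Φ)) (MonoidHom.mem_ker.mp hmem)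
          simp only [hφ, MulAut.one_apply] at h2
          rw [← QuotientGroup.eq_one_iff]
          show π (_ * v * _ * v⁻¹) = 1
          rw [map_mul, map_mul, map_mul, map_inv, map_inv, h2, mul_inv_cancel]
      obtain ⟨j, hj⟩ := hVp ⟨_, h1⟩
      refine ⟨k + j, Subtype.ext ?_⟩
      have := congrArg Subtype.val hj
      rw [SubmonoidClass.coe_pow, OneMemClass.coe_one, ← pow_mul, ← pow_add] at this
      exact this
    set θ := QuotientGroup.lift V φ hVker with hθ
    have hθi : Function.Injective θ := by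
      rw [injective_iff_map_eq_one]
      intro g hg
      obtain ⟨g, rfl⟩ := QuotientGroup.mk'_surjective V g
      exact (QuotientGroup.eq_one_iff g).mpr (hker hg)
    obtain ⟨ρ₀, hρ₀, hnorm⟩ := FPF.exists_representation (V := U) (s := p) hUp
    have hnorm1 : ∀ u : U, ∏ i : Fin (p ^ (n + 1)), φ (x ^ (i : ℕ)) u = 1 := by
      rintro ⟨_, v, hv, rfl⟩
      have key : ∀ m : ℕ, π ((v * x) ^ m) =
          ((∏ i : Fin m, φ (x ^ (i : ℕ)) ⟨π v, v, hv, rfl⟩ : U) : G ⧸ Φ) * π (x ^ m) := by
        intro m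
        induction m with
        | zero => simp
        | succ m ihm =>
          rw [pow_succ, map_mul, ihm, Fin.prod_univ_castSucc]
          simp only [Fin.val_castSucc, Fin.val_last, Subgroup.coe_mul]
          rw [hφ, pow_succ x m, map_mul π (x ^ m) x, map_mul π v x]
          group
      obtain ⟨R, hR⟩ := (show IsPGroup p (V ⊔ zpowers x : Subgroup G) from
        (hVp.to_sup_of_normal_left' (P.isPGroup'.to_le (zpowers_le.mpr hx)) le_normalizer_of_normal)).exists_le_sylow
      have h1 := key (p ^ (n + 1))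
      rw [hexp R _ (hR (mul_mem (mem_sup_left hv) (mem_sup_right (mem_zpowers x)))), hexp P x hx,
        map_one, mul_one] at h1
      exact Subtype.ext h1.symm
    have hsum : ∑ i : Fin (p ^ (n + 1)), (ρ₀.comp θ) (s ^ (i : ℕ)) = 0 := by
      have h := hnorm (n := p ^ (n + 1)) (m := 0) (fun i => φ (x ^ (i : ℕ))) Fin.elim0
        fun u => by rw [hnorm1 u, Finset.univ_eq_empty, Finset.prod_empty]
      rw [Finset.univ_eq_empty (α := Fin 0), Finset.sum_empty] at h
      refine Eq.trans (Finset.sum_congr rfl fun i _ => ?_) h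
      rw [hs, ← map_pow]; rfl
    -- `s ^ p ^ n` centralizes the `p'`-core of `G ⧸ V`
    set K := Cfsg.pPrimeCore p (G ⧸ V) with hK
    set z := s ^ p ^ n with hz
    have hcop : (Nat.card (zpowers s)).Coprime (Nat.card K) := by
      rw [Nat.card_zpowers, hso]; exact ((Cores.pPrimeCore_coprime p (G ⧸ V)).pow_right _).symm
    have hKz : K ≤ K ⊓ centralizer ({z} : Set (G ⧸ V)) := by
      refine le_sup_sylow K _ inf_le_left fun q hq => ?_
      obtain ⟨Q, hQ⟩ := Coprime.exists_invariant_sylow (A := zpowers s) (K := K)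
        le_normalizer_of_normal hcop (Or.inl (Coprime.isSolvable_zpowers s)) q
      refine ⟨Q, le_inf (map_subtype_le _) fun y hy => mem_centralizer_singleton_iff.mpr ?_⟩
      by_cases hqp : q = p
      · subst hqp
        have : (Q : Subgroup K) = ⊥ := eq_bot_of_card_eq _ (by
          rw [Q.card_eq_multiplicity, Nat.factorization_eq_zero_of_not_dvd
            (Cores.not_dvd_card_pPrimeCore), pow_zero])
        rw [this, Subgroup.map_bot, mem_bot] at hy
        rw [hy, one_mul, mul_one]
      obtain ⟨R, hR⟩ := (Q.isPGroup'.map K.subtype).exists_le_sylow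
      have hRc : IsMulCommutative (R : Subgroup (G ⧸ V)) := by
        obtain ⟨R₀, rfl⟩ := Sylow.mapSurjective_surjective (QuotientGroup.mk'_surjective V) q R
        haveI := hab q hqp R₀
        rw [Sylow.coe_mapSurjective]
        infer_instance
      refine (commute_of_sum_eq_zero (ρ₀.comp θ) (hρ₀.comp hθi) n s hso hsum _
        (fun a ha b hb => congrArg Subtype.val (hRc.is_comm.comm ⟨a, hR ha⟩ ⟨b, hR hb⟩)) ?_
        (hQ (mem_zpowers s)) y hy).symm
      obtain ⟨m, hm⟩ := (Q.isPGroup'.map K.subtype).exists_card_eq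
      rw [hm, Nat.cast_pow]
      refine pow_ne_zero _ fun h0 => hqp ?_
      exact ((Nat.prime_dvd_prime_iff_eq hp.out hq.out).mp
        ((CharP.cast_eq_zero_iff (AlgebraicClosure (ZMod p)) p q).mp h0)).symm
    have hzK : z ∈ K := Characters.centralizer_pPrimeCore_le_of_pCore_eq_bot p
      (BlockHeights.isPSolvable_quot V hG) (Cores.pCore_quotient_pCore p G)
      (mem_centralizer_iff.mpr fun y hy => mem_centralizer_singleton_iff.mp (hKz hy).2)
    have h1 : orderOf z ∣ p := orderOf_dvd_of_pow_eq_one (by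
      rw [hz, ← pow_mul, ← pow_succ, ← hso, pow_orderOf_eq_one])
    have h2 : (orderOf z).Coprime p := (Cores.pPrimeCore_coprime p (G ⧸ V)).coprime_dvd_left
      (by rw [← Nat.card_zpowers]; exact card_dvd_of_le (zpowers_le.mpr hzK))
    exact hne (orderOf_eq_one_iff.mp (Nat.eq_one_of_dvd_coprimes h2 dvd_rfl h1))

/-- Let G be a finite p-soluble group in which, for every prime q ≠ p, the Sylow q-subgroups are abelian. If the Sylow p-subgroups of G have exponent dividing p^n, then G has p-length at most n. -/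
theorem result {G : Type*} [Group G] [Finite G] {p : ℕ} [Fact p.Prime] (hG : Cfsg.IsPSolvable p G) (hab : ∀ (q : ℕ) [Fact q.Prime], q ≠ p → ∀ Q : Sylow q G, IsMulCommutative (Q : Subgroup G)) (n : ℕ) (hexp : ∀ (P : Sylow p G), ∀ x ∈ (P : Subgroup G), x ^ p ^ n = 1) : Cfsg.PLengthLE p n G := by
  exact main n hG hab hexp

end Cfsg.Agent.S3783
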