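import Cfsg.Statements.S3784
import Mathlib.NumberTheory.Fermat
import Mathlib

set_option autoImplicit false
open Cfsg

namespace Cfsg.Agent.S3784

theorem odd_sum (x : ℕ) (n : ℕ) (hx : Odd x) : Odd (∑ i ∈ Finset.range n, x ^ i) ↔ Odd n := by
  induction n with
  | zero => simp
  | succ n ih =>
    rw [Finset.sum_range_succ, Nat.odd_add, ih, Nat.odd_add_one]
    have : Odd (x ^ n) := hx.pow
    simp [Nat.not_even_iff_odd.mpr this, Nat.not_odd_iff_even]

theorem eq_one_of_dvd_two_pow {d a : ℕ} (hd : Odd d) (h : d ∣ 2 ^ a) : d = 1 := by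
  obtain ⟨j, -, rfl⟩ := (Nat.dvd_prime_pow Nat.prime_two).mp h
  rcases Nat.eq_zero_or_pos j with rfl | hj
  · rfl
  · exact absurd (dvd_pow_self 2 hj.ne') hd.not_two_dvd_nat

/-- Let p, q be primes and a, b positive integers with p^a = q^b + 1. Then either p = 2, b = 1, a is prime and q = 2^a − 1; or q = 2, a = 1, b is a power of 2 and p = 2^b + 1; or p^a = 9 and q^b = 8. -/
theorem result (p q a b : ℕ) (hp : p.Prime) (hq : q.Prime) (ha : 1 ≤ a) (hb : 1 ≤ b) (h : p ^ a = q ^ b + 1) : (p = 2 ∧ b = 1 ∧ a.Prime ∧ q + 1 = 2 ^ a) ∨ (q = 2 ∧ a = 1 ∧ (∃ m : ℕ, b = 2 ^ m) ∧ p = 2 ^ b + 1) ∨ (p ^ a = 9 ∧ q ^ b = 8) := by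
  by_cases hp2 : p = 2
  · subst hp2
    left
    have hqo : Odd q := by
      rcases hq.eq_two_or_odd' with rfl | h2
      · exfalso
        have h1 : 2 ∣ 2 ^ a := dvd_pow_self 2 (by omega)
        have h2 : 2 ∣ 2 ^ b := dvd_pow_self 2 (by omega)
        omega
      · exact h2
    have hb1 : b = 1 := by
      rcases Nat.even_or_odd b with ⟨c, hc⟩ | hbo
      · exfalso
        obtain ⟨r, hr⟩ := hqo.pow (n := c)
        have hqb : q ^ b = (2 * r + 1) * (2 * r + 1) := by rw [hc, pow_add, hr]
        have h4 : q ^ b % 4 = 1 := by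
          rw [hqb, show (2 * r + 1) * (2 * r + 1) = 1 + 4 * (r * r + r) by ring]
          omega
        have ha2 : 2 ≤ a := by
          by_contra hlt
          have : a = 1 := by omega
          subst this
          have := Nat.one_lt_pow (show b ≠ 0 by omega) hq.one_lt
          omega
        have : 4 ∣ 2 ^ a := pow_dvd_pow 2 ha2
        omega
      · have h1 : ((q : ℤ) + 1) * ∑ i ∈ Finset.range b, (-(q : ℤ)) ^ i = 2 ^ a := by
          have := mul_neg_geom_sum (-(q : ℤ)) b
          rw [hbo.neg_pow] at this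
          have h' : (2 : ℤ) ^ a = (q : ℤ) ^ b + 1 := by exact_mod_cast h
          rw [h']
          linear_combination this
        set S := ∑ i ∈ Finset.range b, (-(q : ℤ)) ^ i with hS
        have hSo : Odd S := by
          have hne : Odd (-(q : ℤ)) := (by exact_mod_cast hqo : Odd (q : ℤ)).neg
          have : ∀ n : ℕ, Odd (∑ i ∈ Finset.range n, (-(q : ℤ)) ^ i) ↔ Odd n := by
            intro n
            induction n with
            | zero => simp
            | succ n ih =>
              rw [Finset.sum_range_succ, Int.odd_add, ih, Nat.odd_add_one]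
              simp [Int.not_even_iff_odd.mpr hne.pow, Nat.not_odd_iff_even, Int.not_odd_iff_even]
          exact (this b).mpr hbo
        have hd : S.natAbs ∣ 2 ^ a := by
          have : S ∣ ((2 ^ a : ℕ) : ℤ) := ⟨(q : ℤ) + 1, by push_cast; rw [← h1, mul_comm]⟩
          exact Int.natAbs_dvd_natAbs.mpr this
        have hS1 := eq_one_of_dvd_two_pow (Int.natAbs_odd.mpr hSo) hd
        have hqb : q ^ b = q := by
          rcases Int.natAbs_eq S with e | e <;> rw [hS1] at e <;> rw [e] at h1
          · have : (2 : ℤ) ^ a = (q : ℤ) ^ b + 1 := by exact_mod_cast h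
            have h5 : (q : ℤ) ^ b = q := by push_cast at h1; linarith
            exact_mod_cast h5
          · have h6 : (0 : ℤ) < 2 ^ a := by positivity
            have h7 : (0 : ℤ) ≤ q := by positivity
            push_cast at h1; linarith
        exact Nat.pow_right_injective hq.two_le (hqb.trans (pow_one q).symm)
    subst hb1
    rw [pow_one] at h
    have ha1 : a ≠ 1 := by rintro rfl; have := hq.two_le; omega
    exact ⟨rfl, rfl, (Nat.prime_of_pow_sub_one_prime (a := 2) ha1 (by rw [h, Nat.add_sub_cancel]; exact hq)).2,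
      h.symm⟩
  have hpo : Odd p := hp.odd_of_ne_two hp2
  have hq2 : q = 2 := by
    rcases hq.eq_two_or_odd' with h2 | h2
    · exact h2
    · have h3 := hpo.pow (n := a)
      rw [h, Nat.odd_add_one] at h3
      exact absurd h2.pow h3
  subst hq2
  rcases Nat.even_or_odd a with ⟨c, hc⟩ | hao
  · right; right
    have hsq : p ^ a = p ^ c * p ^ c := by rw [hc, pow_add]
    have hc0 : c ≠ 0 := by omega
    have hpc : 3 ≤ p ^ c := le_trans (by have := hp.two_le; omega) (Nat.le_self_pow hc0 p)
    obtain ⟨r, hr⟩ : ∃ r, p ^ c = r + 1 := ⟨p ^ c - 1, by omega⟩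
    have hprod : r * (r + 2) = 2 ^ b := by
      rw [hsq, hr] at h
      linarith
    obtain ⟨i, -, hi⟩ := (Nat.dvd_prime_pow Nat.prime_two).mp (Dvd.intro _ hprod)
    obtain ⟨j, -, hj⟩ := (Nat.dvd_prime_pow Nat.prime_two).mp (Dvd.intro_left _ hprod)
    have hr2 : r = 2 := by
      rcases Nat.lt_or_ge i 2 with h2 | h2
      · interval_cases i
        · omega
        · simpa using hi
      · exfalso
        have h4 : 4 ∣ 2 ^ i := pow_dvd_pow 2 h2
        have h5 : 2 ≤ j := by
          by_contra hlt
          have := Nat.pow_le_pow_right (show 0 < 2 by norm_num) (show j ≤ 1 by omega)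
          omega
        have h6 : 4 ∣ 2 ^ j := pow_dvd_pow 2 h5
        omega
    subst hr2
    have h9 : p ^ a = 9 := by rw [hsq, hr]
    exact ⟨h9, by omega⟩
  · right; left
    have ha1 : a = 1 := by
      have h1 : (p - 1) * ∑ i ∈ Finset.range a, p ^ i = 2 ^ b := by
        rw [mul_comm, Nat.geomSum_eq hp.two_le, Nat.div_mul_cancel (by simpa using Nat.sub_dvd_pow_sub_pow p 1 a)]
        rw [h, Nat.add_sub_cancel]
      have hs := eq_one_of_dvd_two_pow ((odd_sum p a hpo).mpr hao) (Dvd.intro_left _ h1)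
      by_contra hne
      have : ∑ i ∈ Finset.range 2, p ^ i ≤ ∑ i ∈ Finset.range a, p ^ i :=
        Finset.sum_le_sum_of_subset (by simp; omega)
      simp [Finset.sum_range_succ] at this
      have := hp.two_le
      omega
    subst ha1
    rw [pow_one] at h
    exact ⟨rfl, rfl, Nat.pow_of_pow_add_prime one_lt_two (by omega) (h ▸ hp), h⟩

end Cfsg.Agent.S3784
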