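import Cfsg.Statements.S3785
import Cfsg.Agent.Lib.Cores.Fitting
import Cfsg.Agent.Lib.OddLocal.Coprime
import Cfsg.Agent.Lib.Coprime.Hall

set_option autoImplicit false
open Cfsg

namespace Cfsg.Agent.S3785

variable {H : Type*} [Group H] [Finite H]

theorem mem_pCore_of_mem_fitting {r : ℕ} [Fact r.Prime] {x : H} (hx : x ∈ Cfsg.fittingSubgroup H)
    {a : ℕ} (ha : x ^ r ^ a = 1) : x ∈ Cfsg.pCore r H := by
  have := Cfsg.Agent.Lib.Cores.fittingSubgroup_isNilpotent H
  set F := Cfsg.fittingSubgroup H with hF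
  have hFn : F.Normal := by
    have := Cfsg.Agent.Lib.Cores.fittingSubgroup_characteristic H
    infer_instance
  have hP : IsPGroup r (Subgroup.zpowers (⟨x, hx⟩ : F)) := fun y => ⟨a, by
    obtain ⟨j, hj⟩ := Subgroup.mem_zpowers_iff.mp y.2
    refine Subtype.ext ?_
    rw [SubmonoidClass.coe_pow, ← hj, ← zpow_natCast, ← zpow_mul, mul_comm, zpow_mul, zpow_natCast,
      show (⟨x, hx⟩ : F) ^ r ^ a = 1 from Subtype.ext ha, one_zpow]
    rfl⟩
  obtain ⟨Q, hQ⟩ := hP.exists_le_sylow
  have hxF : (⟨x, hx⟩ : F) ∈ Cfsg.pCore r F := Cfsg.Agent.Lib.Cores.le_pCore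
    (Sylow.normal_of_normalizerCondition Group.normalizerCondition_of_isNilpotent Q) Q.2
    (hQ (Subgroup.mem_zpowers _))
  have hle : (Cfsg.pCore r F).map F.subtype ≤ Cfsg.pCore r H :=
    Cfsg.Agent.Lib.Cores.le_pCore ConjAct.normal_of_characteristic_of_normal
      ((Cfsg.Agent.Lib.Cores.pCore_isPGroup r F).map _)
  exact hle ⟨_, hxF, rfl⟩

/-- Let G be a finite solvable group whose Fitting subgroup F(G) has odd order. If an element g of G commutes with every element of prime order of F(G), then g ∈ F(G). -/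
theorem result {G : Type*} [Group G] [Finite G] (hG : Group.IsSolvable G) (hodd : Odd (Nat.card (Cfsg.fittingSubgroup G))) (g : G) (hg : ∀ x ∈ Cfsg.fittingSubgroup G, (orderOf x).Prime → g * x = x * g) : g ∈ Cfsg.fittingSubgroup G := by
  classical
  set F := Cfsg.fittingSubgroup G with hF
  have hFn : F.Normal := by
    have := Cfsg.Agent.Lib.Cores.fittingSubgroup_characteristic G
    infer_instance
  set K := Subgroup.centralizer {x : G | x ∈ F ∧ (orderOf x).Prime} with hK
  have hgK : g ∈ K := fun x hx => (hg x hx.1 hx.2).symm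
  have hKn : K.Normal := ⟨fun k hk c x hx => by
    have hx' : c⁻¹ * x * c ∈ F ∧ (orderOf (c⁻¹ * x * c)).Prime := by
      refine ⟨by simpa using hFn.conj_mem x hx.1 c⁻¹, ?_⟩
      have : MulAut.conj c⁻¹ x = c⁻¹ * x * c := by simp
      rw [← this, MulEquiv.orderOf_eq]; exact hx.2
    have := hk _ hx'
    calc x * (c * k * c⁻¹) = c * (c⁻¹ * x * c * k) * c⁻¹ := by group
      _ = c * (k * (c⁻¹ * x * c)) * c⁻¹ := by rw [this]
      _ = c * k * c⁻¹ * x := by group⟩
  by_contra hgF
  have hbar : K.map (QuotientGroup.mk' F) ≠ ⊥ := fun h => hgF (by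
    have := (Subgroup.map_eq_bot_iff _).mp h hgK
    rwa [QuotientGroup.ker_mk'] at this)
  have : (K.map (QuotientGroup.mk' F)).Normal := hKn.map _ (QuotientGroup.mk'_surjective F)
  have := hG
  obtain ⟨q, Mb, hq, hMn, hM1, hMK, -, hMp, -⟩ :=
    Cfsg.Agent.Lib.Coprime.exists_normal_abelian_pgroup_le hbar inferInstance
  have := Fact.mk hq
  set M := Mb.comap (QuotientGroup.mk' F) with hM
  have : M.Normal := hMn.comap _
  set N := M ⊓ K with hN
  have hNn : N.Normal := Subgroup.normal_inf_normal M K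
  -- elements of `N` of `r`-power order, `r ≠ q`, lie in `F`
  have hr : ∀ r : ℕ, r.Prime → r ≠ q → ∀ x ∈ N, ∀ a : ℕ, x ^ r ^ a = 1 → x ∈ F := by
    intro r hrp hrq x hx a ha
    rw [← QuotientGroup.eq_one_iff, ← orderOf_eq_one_iff]
    obtain ⟨b, hb⟩ := hMp ⟨QuotientGroup.mk' F x, (Subgroup.mem_inf.mp hx).1⟩
    exact Nat.eq_one_of_dvd_coprimes (Nat.Coprime.pow a b ((Nat.coprime_primes hrp hq).mpr hrq))
      (orderOf_dvd_of_pow_eq_one (by rw [← QuotientGroup.mk_pow, ha, QuotientGroup.mk_one]))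
      (orderOf_dvd_of_pow_eq_one (congrArg Subtype.val hb))
  obtain ⟨S⟩ : Nonempty (Sylow q N) := inferInstance
  set S' := (S : Subgroup N).map N.subtype with hS'
  have hS'p : IsPGroup q S' := S.2.map _
  -- the other Sylow subgroups centralise `S`
  have hcent : ∀ r : ℕ, r.Prime → r ≠ q → r ∣ Nat.card F →
      S' ≤ Subgroup.centralizer (Cfsg.pCore r G : Set G) := by
    intro r hrp hrq hrF
    have := Fact.mk hrp
    have hr2 : r ≠ 2 := by
      rintro rfl
      exact (Nat.not_even_iff_odd.mpr hodd) (even_iff_two_dvd.mpr hrF)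
    have hcop : (Nat.card S').Coprime r := by
      obtain ⟨b, hb⟩ := hS'p.exists_card_eq
      rw [hb]; exact Nat.Coprime.pow_left b ((Nat.coprime_primes hq hrp).mpr (Ne.symm hrq))
    refine Cfsg.Agent.Lib.OddLocal.le_centralizer_of_fixes_pow_eq_one hr2 hcop _
      (Cfsg.Agent.Lib.Cores.pCore_isPGroup r G) ?_ fun x hx hxr s hs => ?_
    · have : (Cfsg.pCore r G).Normal := Cfsg.pCore_normal r G
      exact Subgroup.le_normalizer_of_normal
    · rcases eq_or_ne x 1 with rfl | hx1
      · exact Subgroup.mem_centralizer_singleton_iff.mpr (by simp)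
      have hsK : s ∈ K := (Subgroup.mem_inf.mp ((Subgroup.map_subtype_le _) hs)).2
      exact Subgroup.mem_centralizer_singleton_iff.mpr
        (hsK x ⟨Cfsg.Agent.Lib.Cores.pCore_le_fittingSubgroup r hx,
          by rw [orderOf_eq_prime hxr hx1]; exact hrp⟩).symm
  have hSn : (S : Subgroup N).Normal := by
    rw [← Subgroup.normalizer_eq_top_iff]
    refine Subgroup.eq_top_of_le_card _ (Nat.le_of_dvd Nat.card_pos ?_)
    rw [Nat.dvd_iff_prime_pow_dvd_dvd]
    intro r i hrp hri
    have := Fact.mk hrp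
    rcases Nat.eq_zero_or_pos i with rfl | hi
    · simp
    by_cases hrq : r = q
    · subst hrq
      exact (S.pow_dvd_card_of_pow_dvd_card hri).trans (Subgroup.card_dvd_of_le Subgroup.le_normalizer)
    obtain ⟨R, hR⟩ := Sylow.exists_subgroup_card_pow_prime r hri
    rw [← hR]
    refine Subgroup.card_dvd_of_le fun x hx => ?_
    have hxa : (x : G) ^ r ^ i = 1 := by
      have := orderOf_dvd_iff_pow_eq_one.mp (hR ▸ Subgroup.orderOf_dvd_natCard R hx)
      exact congrArg Subtype.val this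
    have hxF := hr r hrp hrq _ x.2 i hxa
    rcases eq_or_ne x 1 with rfl | hx1
    · exact one_mem _
    have hrF : r ∣ Nat.card F := by
      have h1 : orderOf (x : G) ∣ r ^ i := orderOf_dvd_of_pow_eq_one hxa
      obtain ⟨j, -, hj⟩ := (Nat.dvd_prime_pow hrp).mp h1
      have hj0 : j ≠ 0 := by
        rintro rfl
        rw [pow_zero, orderOf_eq_one_iff] at hj
        exact hx1 (Subtype.ext hj)
      exact (dvd_pow_self r hj0).trans (hj ▸ Subgroup.orderOf_dvd_natCard F hxF)
    refine Subgroup.centralizer_le_normalizer _ fun s hs => Subtype.ext ?_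
    exact ((hcent r hrp hrq hrF ⟨s, hs, rfl⟩) (x : G) (mem_pCore_of_mem_fitting hxF hxa)).symm
  have hNnil : Group.IsNilpotent N := by
    refine (Group.isNilpotent_of_finite_tfae.out 0 3 rfl rfl).mpr ?_
    intro r hrp R
    by_cases hrq : r = q
    · subst hrq
      have := Sylow.unique_of_normal S hSn
      rwa [Subsingleton.elim R S]
    have hrR : (R : Subgroup N) = ((Cfsg.pCore r G).subgroupOf N) := by
      refine le_antisymm (fun x hx => ?_) fun x hx => ?_
      · obtain ⟨a, ha⟩ := R.2 ⟨x, hx⟩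
        have ha' : (x : G) ^ r ^ a = 1 := congrArg Subtype.val (congrArg Subtype.val ha)
        exact mem_pCore_of_mem_fitting (hr r hrp.out hrq _ x.2 a ha') ha'
      · have hp : IsPGroup r ↥((Cfsg.pCore r G).subgroupOf N) :=
          (Cfsg.Agent.Lib.Cores.pCore_isPGroup r G).comap_subtype
        have := Cfsg.pCore_normal r G
        exact (hp.le_sylow_of_normal R) hx
    rw [hrR]
    have := Cfsg.pCore_normal r G
    infer_instance
  have hNF : N ≤ F := Cfsg.Agent.Lib.Cores.le_fittingSubgroup hNn hNnil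
  refine hM1 (le_bot_iff.mp fun y hy => ?_)
  obtain ⟨k, hk, rfl⟩ := hMK hy
  exact Subgroup.mem_bot.mpr ((QuotientGroup.eq_one_iff k).mpr (hNF (Subgroup.mem_inf.mpr ⟨hy, hk⟩)))

end Cfsg.Agent.S3785
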