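import Cfsg.Statements.S3787
import Cfsg.Agent.Lib.HallHigman.PLength
import Cfsg.Agent.Lib.HallHigman.Wreath

set_option autoImplicit false
open Cfsg

namespace Cfsg.Agent.S3787

open Subgroup Cfsg.Agent.Lib Cfsg.Agent.Lib.HallHigman

universe u

theorem exists_model {D : Type u} [Group D] [Finite D] {p : ℕ} (B : Subgroup D) (t : D) (hBn : B.Normal)
    (hBc : IsMulCommutative B) (hBp : ∀ b ∈ B, b ^ p = 1) (hBcard : Nat.card B = p ^ p) (ht : orderOf t = p)
    (htB : t ∉ B) (hcard : Nat.card D = p ^ (p + 1))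
    (hfix : Nat.card ↥(B ⊓ centralizer ({t} : Set D)) = p) :
    ∃ (W : Type) (_ : Group W) (_ : Finite W) (_ : W ≃* D), ∃ (B : Subgroup W) (t : W), B.Normal ∧ IsMulCommutative B ∧
      (∀ b ∈ B, b ^ p = 1) ∧ Nat.card B = p ^ p ∧ orderOf t = p ∧ t ∉ B ∧ Nat.card W = p ^ (p + 1) ∧
      Nat.card ↥(B ⊓ centralizer ({t} : Set W)) = p := by
  let f : Shrink.{0} D ≃* D := Shrink.mulEquiv
  refine ⟨Shrink.{0} D, inferInstance, inferInstance, f, B.map f.symm.toMonoidHom, f.symm t,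
    hBn.map f.symm.toMonoidHom f.symm.surjective, inferInstance, ?_, ?_, ?_, ?_, ?_, ?_⟩
  · rintro _ ⟨b, hb, rfl⟩
    rw [← map_pow, hBp b hb, map_one]
  · rw [card_map_of_injective f.symm.injective, hBcard]
  · rw [MulEquiv.orderOf_eq, ht]
  · rintro ⟨b, hb, hbe⟩
    exact htB (f.symm.injective hbe ▸ hb)
  · rw [Nat.card_congr f.toEquiv, hcard]
  · rw [← hfix, ← card_map_of_injective (f := f.symm.toMonoidHom) f.symm.injective]
    congr 2
    ext g
    constructor
    · intro hg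
      obtain ⟨⟨b, hb, rfl⟩, hc⟩ := mem_inf.mp hg
      refine ⟨b, mem_inf.mpr ⟨hb, mem_centralizer_singleton_iff.mpr (f.symm.injective ?_)⟩, rfl⟩
      rw [map_mul, map_mul]
      exact mem_centralizer_singleton_iff.mp hc
    · rintro ⟨b, hb, rfl⟩
      obtain ⟨hb, hc⟩ := mem_inf.mp hb
      refine mem_inf.mpr ⟨⟨b, hb, rfl⟩, mem_centralizer_singleton_iff.mpr ?_⟩
      show f.symm b * f.symm t = f.symm t * f.symm b
      rw [← map_mul, ← map_mul, mem_centralizer_singleton_iff.mp hc]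

/-- A free orbit gives a wreath section. -/
theorem wreath_section {X : Type u} [Group X] [Finite X] {p : ℕ} [hp : Fact p.Prime] (U : Subgroup X)
    (hUc : ∀ u ∈ U, ∀ v ∈ U, u * v = v * u) (hUp : ∀ u ∈ U, u ^ p = 1) (y : X)
    (hy : ∀ u ∈ U, y * u * y⁻¹ ∈ U) (hypU : y ^ p ∈ U) (a : X) (ha : a ∈ U)
    (hN : conjProd (fun i : Fin p => y ^ (i : ℕ)) a ≠ 1) :
    ∃ (D R : Subgroup X) (_ : (R.subgroupOf D).Normal), (∀ g ∈ D, g ∈ U ⊔ zpowers y) ∧
      ∃ (B : Subgroup (↥D ⧸ R.subgroupOf D)) (t : ↥D ⧸ R.subgroupOf D), B.Normal ∧ IsMulCommutative B ∧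
      (∀ b ∈ B, b ^ p = 1) ∧ Nat.card B = p ^ p ∧ orderOf t = p ∧ t ∉ B ∧
      Nat.card (↥D ⧸ R.subgroupOf D) = p ^ (p + 1) ∧
      Nat.card ↥(B ⊓ centralizer ({t} : Set (↥D ⧸ R.subgroupOf D))) = p := by
  classical
  have hyp : ∀ u ∈ U, Commute (y ^ p) u := fun u hu => hUc _ hypU u hu
  obtain ⟨B, hBU, hBcard, hBy, hBfix, hNB⟩ := free_orbit U hUc hUp y hy hyp a ha hN
  set N := conjProd (fun i : Fin p => y ^ (i : ℕ)) a with hNdef
  -- choose the complement generator
  obtain ⟨k, hk⟩ : ∃ k : ℕ, y ^ p ∈ B → y ^ p = N ^ k := by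
    by_cases h : y ^ p ∈ B
    · have hNfix : N ∈ B ⊓ centralizer ({y} : Set X) := by
        refine mem_inf.mpr ⟨hNB, mem_centralizer_singleton_iff.mpr ?_⟩
        have e1 := mul_pow_eq_conjProd a y p
        have h3 : Commute ((a * y) ^ p) (a * y) := (Commute.refl _).pow_left p
        have h4 : Commute N (a * y) := by
          have h5 : Commute (y ^ p) (a * y) := (hyp a ha).mul_right ((Commute.refl y).pow_left p)
          have h6 := h3.mul_left h5.inv_left
          rwa [e1, mul_inv_cancel_right] at h6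
        have h7 : Commute N a := hUc N (hBU hNB) a ha
        have h8 := h7.inv_right.mul_right h4
        rw [inv_mul_cancel_left] at h8
        exact h8.eq
      have hypf : y ^ p ∈ B ⊓ centralizer ({y} : Set X) :=
        mem_inf.mpr ⟨h, mem_centralizer_singleton_iff.mpr ((Commute.refl y).pow_left p).eq⟩
      have hz : zpowers N = B ⊓ centralizer ({y} : Set X) :=
        eq_of_le_of_card_ge (zpowers_le.mpr hNfix) (by
          rw [hBfix, Nat.card_zpowers, orderOf_eq_prime (hUp N (hBU hNB)) hN])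
      rw [← hz] at hypf
      obtain ⟨k, hk⟩ := mem_powers_iff_mem_zpowers.mpr hypf
      exact ⟨k, fun _ => hk.symm⟩
    · exact ⟨0, fun h' => absurd h' h⟩
  set c := if y ^ p ∈ B then (a ^ k)⁻¹ else 1 with hc
  set t := c * y with ht
  have hcU : c ∈ U := by rw [hc]; split_ifs; exacts [U.inv_mem (U.pow_mem ha k), U.one_mem]
  have htconj : ∀ u ∈ U, t * u * t⁻¹ = y * u * y⁻¹ := fun u hu => by
    calc t * u * t⁻¹ = c * (y * u * y⁻¹) * c⁻¹ := by rw [ht]; group
      _ = y * u * y⁻¹ := by rw [hUc c hcU _ (hy u hu), mul_inv_cancel_right]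
  have htpU : t ^ p ∈ U := by
    rw [ht, mul_pow_eq_conjProd]
    refine U.mul_mem (U.list_prod_mem fun g hg => ?_) hypU
    obtain ⟨i, rfl⟩ := List.mem_ofFn.mp hg
    clear hg
    have hpw : ∀ m : ℕ, ∀ u ∈ U, y ^ m * u * (y ^ m)⁻¹ ∈ U := fun m => by
      induction m with
      | zero => intro u hu; simpa using hu
      | succ m ih =>
        intro u hu
        have := hy _ (ih u hu)
        rwa [show y * (y ^ m * u * (y ^ m)⁻¹) * y⁻¹ = y ^ (m + 1) * u * (y ^ (m + 1))⁻¹ by rw [pow_succ']; group] at this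
    exact hpw _ c hcU
  have hRB : ∀ g ∈ zpowers (t ^ p), g ∈ B → g = 1 := by
    intro g hg hgB
    by_cases h : y ^ p ∈ B
    · have h1 : t ^ p = 1 := by
        rw [ht, hc, if_pos h, mul_pow_eq_conjProd, hk h]
        have key : ∀ (j : ℕ) (v : X), v ∈ U → conjProd (fun i : Fin p => y ^ (i : ℕ)) (v ^ j) = conjProd (fun i : Fin p => y ^ (i : ℕ)) v ^ j := by
          intro j v hv
          have hcommU : ∀ w1 w2 : U, w1 * w2 = w2 * w1 := fun w1 w2 => Subtype.ext (hUc (w1 : X) w1.2 (w2 : X) w2.2)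
          letI : CommGroup U := { toGroup := inferInstance, mul_comm := hcommU }
          have hpw : ∀ m : ℕ, ∀ u ∈ U, y ^ m * u * (y ^ m)⁻¹ ∈ U := fun m => by
            induction m with
            | zero => intro u hu; simpa using hu
            | succ m ih =>
              intro u hu
              have := hy _ (ih u hu)
              rwa [show y * (y ^ m * u * (y ^ m)⁻¹) * y⁻¹ = y ^ (m + 1) * u * (y ^ (m + 1))⁻¹ by rw [pow_succ']; group] at this
          have e : ∀ (v : X) (hv : v ∈ U), conjProd (fun i : Fin p => y ^ (i : ℕ)) v =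
              ((∏ i : Fin p, (⟨y ^ (i : ℕ) * v * (y ^ (i : ℕ))⁻¹, hpw _ v hv⟩ : U) : U) : X) := fun v hv => by
            rw [← List.prod_ofFn, SubmonoidClass.coe_list_prod, List.map_ofFn]; rfl
          rw [e v hv, e _ (U.pow_mem hv j), ← SubgroupClass.coe_pow, ← Finset.prod_pow]
          exact congrArg Subtype.val (Finset.prod_congr rfl fun i _ => Subtype.ext conj_pow.symm)
        rw [← inv_pow, key k _ (U.inv_mem ha), ← (show (N⁻¹ : X) = conjProd (fun i : Fin p => y ^ (i : ℕ)) a⁻¹ from ?_),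
          inv_pow, inv_mul_cancel]
        have e2 := key (p - 1) a ha
        have e3 : a⁻¹ = a ^ (p - 1) := inv_eq_of_mul_eq_one_right (by rw [← pow_succ', Nat.sub_add_cancel hp.out.one_le, hUp a ha])
        rw [e3, e2]
        exact inv_eq_of_mul_eq_one_right (by rw [← pow_succ', Nat.sub_add_cancel hp.out.one_le, hUp N (hBU hNB)])
      rw [h1, zpowers_one_eq_bot, mem_bot] at hg
      exact hg
    · by_contra hg1
      obtain ⟨i, hi⟩ := mem_zpowers_iff.mp hg
      rw [ht, hc, if_neg h, one_mul] at hi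
      have ho : orderOf (y ^ p) = p := orderOf_eq_prime (hUp _ hypU) fun e => h (e ▸ B.one_mem)
      have hz : zpowers g = zpowers (y ^ p) := eq_of_le_of_card_ge (zpowers_le.mpr (hi ▸ zpow_mem (mem_zpowers _) i)) (by
        rw [Nat.card_zpowers, Nat.card_zpowers, ho, orderOf_eq_prime (hUp g (hBU hgB)) hg1])
      exact h (zpowers_le.mpr hgB (hz ▸ mem_zpowers (y ^ p)))
  set D := B ⊔ zpowers t with hD
  set R := zpowers (t ^ p) with hR
  have hRD : R ≤ D := (zpowers_le.mpr (pow_mem (mem_zpowers t) p)).trans le_sup_right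
  have htB : ∀ b ∈ B, t * b * t⁻¹ ∈ B := fun b hb => by rw [htconj b (hBU hb)]; exact hBy b hb
  have hDN : D ≤ normalizer (B : Set X) := sup_le le_normalizer (zpowers_le.mpr
    (Coprime.mem_normalizer_of_conj_smul_eq (eq_of_le_of_card_ge
      (by rintro _ ⟨b, hb, rfl⟩; exact htB b hb) (Coprime.card_conj_smul t B).ge)))
  have hRcen : ∀ g ∈ D, Commute g (t ^ p) := by
    intro g hg
    have : D ≤ centralizer ({t ^ p} : Set X) := sup_le
      (fun b hb => mem_centralizer_singleton_iff.mpr (hUc b (hBU hb) _ htpU))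
      (zpowers_le.mpr (mem_centralizer_singleton_iff.mpr ((Commute.refl t).pow_right p).eq))
    exact mem_centralizer_singleton_iff.mp (this hg)
  haveI hRn : (R.subgroupOf D).Normal := ⟨fun r hr g => by
    rw [mem_subgroupOf] at hr ⊢
    obtain ⟨i, hi⟩ := mem_zpowers_iff.mp hr
    rw [Subgroup.coe_mul, Subgroup.coe_mul, Subgroup.coe_inv, ← hi, ((hRcen g g.2).zpow_right i).eq, mul_inv_cancel_right, hi]
    exact hr⟩
  refine ⟨D, R, hRn, ?_, ?_⟩
  · intro g hg
    refine (sup_le (hBU.trans le_sup_left) (zpowers_le.mpr ?_)) hg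
    exact mul_mem (mem_sup_left hcU) (mem_sup_right (mem_zpowers y))
  set q := QuotientGroup.mk' (R.subgroupOf D) with hq
  have hq1 : ∀ g : D, q g = 1 ↔ (g : X) ∈ R := fun g => (QuotientGroup.eq_one_iff g).trans mem_subgroupOf
  set B' := B.subgroupOf D with hB'
  haveI hB'n : B'.Normal := (normal_subgroupOf_iff_le_normalizer (H := B) le_sup_left).mpr hDN
  set B₀ := B'.map q with hB₀
  set tD : D := ⟨t, mem_sup_right (mem_zpowers t)⟩ with htD
  have hinj : ∀ b : D, (b : X) ∈ B → q b = 1 → b = 1 := fun b hb h => Subtype.ext (hRB _ ((hq1 b).mp h) hb)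
  have hB₀card : Nat.card B₀ = p ^ p := by
    have e : Nat.card B₀ = Nat.card B' := by
      refine (Nat.card_congr (Equiv.ofBijective (fun b : B' => (⟨q b, b, b.2, rfl⟩ : B₀)) ⟨fun b c h => ?_, ?_⟩)).symm
      · have h1 : q ((b : D)⁻¹ * c) = 1 := by
          rw [map_mul, map_inv, show q b = q c from congrArg Subtype.val h, inv_mul_cancel]
        exact Subtype.ext (inv_mul_eq_one.mp (hinj _ (B.mul_mem (B.inv_mem b.2) c.2) h1))
      · rintro ⟨_, b, hb, rfl⟩; exact ⟨⟨b, hb⟩, rfl⟩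
    rw [e, Nat.card_congr (subgroupOfEquivOfLe (le_sup_left : B ≤ D)).toEquiv, hBcard]
  haveI hB₀n : B₀.Normal := hB'n.map _ (QuotientGroup.mk'_surjective _)
  have htB₀ : q tD ∉ B₀ := by
    rintro ⟨b, hb, hbe⟩
    have h1 : (b : X)⁻¹ * t ∈ R := (hq1 (b⁻¹ * tD)).mp (by rw [map_mul, map_inv, hbe, inv_mul_cancel])
    obtain ⟨i, hi⟩ := mem_zpowers_iff.mp h1
    have h2 : t ∈ U := by
      rw [show t = (b : X) * (t ^ p) ^ i by rw [hi]; group]
      exact U.mul_mem (hBU hb) (U.zpow_mem htpU i)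
    have h3 : ∀ b ∈ B, Commute b y := fun b hb => by
      have := htconj b (hBU hb)
      rw [hUc t h2 b (hBU hb), mul_inv_cancel_right] at this
      exact (mul_inv_eq_iff_eq_mul.mp this.symm).symm
    have h4 : B ⊓ centralizer ({y} : Set X) = B :=
      inf_eq_left.mpr fun b hb => mem_centralizer_singleton_iff.mpr (h3 b hb).eq
    rw [h4, hBcard] at hBfix
    exact absurd (Nat.pow_right_injective hp.out.two_le (hBfix.trans (pow_one p).symm)) hp.out.ne_one
  have htop : ∀ g, g ∈ B₀ ⊔ zpowers (q tD) := by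
    intro g
    obtain ⟨g, rfl⟩ := QuotientGroup.mk'_surjective _ g
    have hg : D ≤ ((B₀ ⊔ zpowers (q tD)).comap q).map D.subtype := by
      refine sup_le (fun b hb => ?_) (zpowers_le.mpr ⟨tD, mem_sup_right (mem_zpowers _), rfl⟩)
      exact ⟨⟨b, mem_sup_left hb⟩, mem_sup_left ⟨⟨b, mem_sup_left hb⟩, hb, rfl⟩, rfl⟩
    obtain ⟨g', hg', he⟩ := hg g.2
    exact Subtype.ext he ▸ hg'
  have hto : orderOf (q tD) = p := orderOf_eq_prime (by rw [← map_pow, hq1]; exact mem_zpowers _)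
    (fun e => htB₀ (e ▸ B₀.one_mem))
  refine ⟨B₀, q tD, hB₀n, ⟨⟨fun u v => ?_⟩⟩, ?_, hB₀card, hto, htB₀, ?_, ?_⟩
  · obtain ⟨_, u, hu, rfl⟩ := u
    obtain ⟨_, v, hv, rfl⟩ := v
    refine Subtype.ext (show q u * q v = q v * q u from ?_)
    rw [← map_mul, ← map_mul]
    exact congrArg q (Subtype.ext (hUc _ (hBU hu) _ (hBU hv)))
  · rintro _ ⟨b, hb, rfl⟩
    rw [← map_pow, show b ^ p = 1 from Subtype.ext (hUp (b : X) (hBU hb)), map_one]
  · have hdisj : Disjoint B₀ (zpowers (q tD)) := by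
      rw [disjoint_iff, eq_bot_iff]
      intro g hg
      obtain ⟨hgB, hgt⟩ := mem_inf.mp hg
      by_contra hg1
      have hz : zpowers g = zpowers (q tD) := eq_of_le_of_card_ge (zpowers_le.mpr hgt) (by
        rw [Nat.card_zpowers, Nat.card_zpowers, hto]
        have h1 : orderOf g ∣ p := hto ▸ Nat.card_zpowers g ▸ Nat.card_zpowers (q tD) ▸ card_dvd_of_le (zpowers_le.mpr hgt)
        rcases (Nat.dvd_prime hp.out).mp h1 with h2 | h2
        · exact absurd (mem_bot.mpr (orderOf_eq_one_iff.mp h2)) hg1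
        · exact h2.ge)
      exact htB₀ (zpowers_le.mpr hgB (hz ▸ mem_zpowers (q tD)))
    have hcomp : IsComplement' B₀ (zpowers (q tD)) := isComplement'_of_disjoint_and_mul_eq_univ hdisj (by
      rw [← normal_mul]
      exact Set.eq_univ_of_forall htop)
    rw [← hcomp.card_mul, hB₀card, Nat.card_zpowers, hto, pow_succ]
  · rw [← hBfix]
    symm
    refine Nat.card_congr (Equiv.ofBijective (fun b : ↥(B ⊓ centralizer ({y} : Set X)) =>
      (⟨q ⟨(b : X), mem_sup_left (mem_inf.mp b.2).1⟩, mem_inf.mpr ⟨⟨_, (mem_inf.mp b.2).1, rfl⟩, ?_⟩⟩ :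
        ↥(B₀ ⊓ centralizer ({q tD} : Set (↥D ⧸ R.subgroupOf D))))) ⟨fun u v h => ?_, ?_⟩)
    · refine mem_centralizer_singleton_iff.mpr ?_
      rw [← map_mul, ← map_mul]
      refine congrArg q (Subtype.ext (show (b : X) * t = t * b from ?_))
      have h1 := mem_centralizer_singleton_iff.mp (mem_inf.mp b.2).2
      have h2 := htconj _ (hBU (mem_inf.mp b.2).1)
      rw [← h1, mul_inv_cancel_right] at h2
      exact (mul_inv_eq_iff_eq_mul.mp h2).symm
    · have h' := congrArg Subtype.val h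
      set u' : D := ⟨(u : X), mem_sup_left (mem_inf.mp u.2).1⟩
      set v' : D := ⟨(v : X), mem_sup_left (mem_inf.mp v.2).1⟩
      have h1 : u'⁻¹ * v' = 1 := hinj _ (B.mul_mem (B.inv_mem (mem_inf.mp u.2).1) (mem_inf.mp v.2).1)
        (by rw [map_mul, map_inv]; exact inv_mul_eq_one.mpr h')
      exact Subtype.ext (congrArg Subtype.val (inv_mul_eq_one.mp h1) : _)
    · rintro ⟨g, hg⟩
      obtain ⟨⟨b, hb, rfl⟩, hc'⟩ := mem_inf.mp hg
      have hc2 := mem_centralizer_singleton_iff.mp hc'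
      have h1 : q (b⁻¹ * (tD * b * tD⁻¹)) = 1 := by
        rw [map_mul, map_mul, map_mul, map_inv, map_inv, ← hc2, mul_inv_cancel_right, inv_mul_cancel]
      have h2 := hinj _ (B.mul_mem (B.inv_mem hb) (htB _ hb)) h1
      have h3 : (b : X) = t * b * t⁻¹ := inv_mul_eq_one.mp (congrArg Subtype.val h2)
      rw [htconj (b : X) (hBU hb)] at h3
      exact ⟨⟨(b : X), mem_inf.mpr ⟨hb, mem_centralizer_singleton_iff.mpr (eq_mul_inv_iff_mul_eq.mp h3)⟩⟩, rfl⟩

/-- Let G be a finite p-soluble group, p an odd prime not of the form 2^k + 1, and suppose the wreath product C_p ≀ C_p (of order p^(p+1)) is not involved in a Sylow p-subgroup of G: no section of a Sylow p-subgroup is isomorphic to it. Then G has p-length at most 1. -/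
theorem result {G : Type*} [Group G] [Finite G] {p : ℕ} [Fact p.Prime] (hp2 : p ≠ 2) (hnf : (¬ ∃ k : ℕ, p = 2 ^ k + 1)) (hG : Cfsg.IsPSolvable p G) (P : Sylow p G) (hwr : ∀ (W : Type) [Group W] [Finite W], (∃ (B : Subgroup W) (t : W), B.Normal ∧ IsMulCommutative B ∧ (∀ b ∈ B, b ^ p = 1) ∧ Nat.card B = p ^ p ∧ orderOf t = p ∧ t ∉ B ∧ Nat.card W = p ^ (p + 1) ∧ Nat.card ↥(B ⊓ Subgroup.centralizer ({t} : Set W)) = p) → ¬ Cfsg.Involves W ↥(P : Subgroup G)) : Cfsg.PLengthLE p 1 G := by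
  suffices hred : ∀ {H : Type _} [Group H] [Finite H], Cfsg.IsPSolvable p H → Cfsg.pPrimeCore p H = ⊥ →
      ∀ (Q : Sylow p H) (g : P →* H), g.range = (Q : Subgroup H) → Cfsg.PLengthLE p 1 H by
    refine PLength.of_quotient_coprime (Cfsg.pPrimeCore p G) (Cores.pPrimeCore_coprime p G)
      (hred (BlockHeights.isPSolvable_quot _ hG) (Cores.pPrimeCore_quotient_pPrimeCore p G)
        (Sylow.mapSurjective (QuotientGroup.mk'_surjective (Cfsg.pPrimeCore p G)) P)
        ((QuotientGroup.mk' (Cfsg.pPrimeCore p G)).comp (P : Subgroup G).subtype) ?_)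
    rw [MonoidHom.range_comp, Subgroup.range_subtype, Sylow.coe_mapSurjective]
  intro H _ _ hH hcore Q g hg
  obtain ⟨d, ρ, hρ, hsum⟩ := exists_action hH hcore
  refine PLength.of_quotient_isPGroup (Cfsg.pCore p H) (Cores.pCore_isPGroup p H) (PLength.of_coprime ?_ 0)
  rw [Nat.coprime_comm, (Fact.out : p.Prime).coprime_iff_not_dvd]
  intro hdvd
  set Qb := Sylow.mapSurjective (QuotientGroup.mk'_surjective (Cfsg.pCore p H)) Q with hQb
  have hQbd : p ∣ Nat.card (Qb : Subgroup (H ⧸ Cfsg.pCore p H)) := Qb.dvd_card_of_dvd_card hdvd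
  obtain ⟨⟨s', hs'⟩, hso⟩ := exists_prime_orderOf_dvd_card' p hQbd
  have hs'' : s' ∈ (Q : Subgroup H).map (QuotientGroup.mk' (Cfsg.pCore p H)) := by rwa [hQb, Sylow.coe_mapSurjective] at hs'
  obtain ⟨x, hx, rfl⟩ := hs''
  rw [Subgroup.orderOf_mk] at hso
  set V := Cfsg.pCore p H
  set Φ := frattiniCore p H
  set π := QuotientGroup.mk' Φ
  have hVQ : V ≤ Q := Cores.pCore_le_sylow Q
  obtain ⟨v, hv, hvn⟩ : ∃ v ∈ V, π (conjProd (fun i : Fin p => x ^ (i : ℕ)) v) ≠ 1 := by
    by_contra! hall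
    have h := hsum (fun i : Fin p => x ^ (i : ℕ)) (Fin.elim0 : Fin 0 → H) fun v hv => by
      rw [show conjProd (Fin.elim0 : Fin 0 → H) v = 1 by simp [conjProd], inv_one, mul_one]
      exact (QuotientGroup.eq_one_iff _).mp (hall v hv)
    rw [Finset.univ_eq_empty (α := Fin 0), Finset.sum_empty] at h
    have h1 : (ρ (QuotientGroup.mk' V x) - 1) ^ (p ^ 1 - 1) = 0 := by
      rw [sub_one_pow_eq_sum]
      refine Eq.trans (Fintype.sum_equiv (finCongr (pow_one p)) _ _ fun i => ?_) h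
      rw [← map_pow, ← map_pow]; rfl
    have h2 := le_of_unexceptional hp2 (BlockHeights.isPSolvable_quot _ hH) (Cores.pCore_quotient_pCore p H)
      (Or.inl hnf) ρ hρ (QuotientGroup.mk' V x) one_pos (by rw [hso, pow_one]) h1
    have := (Fact.out : p.Prime).two_le
    rw [pow_one] at h2
    omega
  set U := V.map π
  have hUc : ∀ u ∈ U, ∀ w ∈ U, u * w = w * u := by
    rintro _ ⟨a, ha, rfl⟩ _ ⟨b, hb, rfl⟩
    haveI : Group.IsNilpotent V := (Cores.pCore_isPGroup p H).isNilpotent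
    rw [← commutatorElement_eq_one_iff_mul_comm, ← map_commutatorElement]
    exact (QuotientGroup.eq_one_iff _).mpr ⟨_, Cores.commutator_le_frattini
      (commutator_mem_commutator (mem_top (⟨a, ha⟩ : V)) (mem_top ⟨b, hb⟩)), rfl⟩
  have hUp : ∀ u ∈ U, u ^ p = 1 := by
    rintro _ ⟨a, ha, rfl⟩
    rw [← map_pow]
    exact (QuotientGroup.eq_one_iff _).mpr ⟨_, Cores.pow_mem_frattini (Cores.pCore_isPGroup p H) ⟨a, ha⟩, rfl⟩
  haveI hUn : U.Normal := Subgroup.Normal.map inferInstance _ (QuotientGroup.mk'_surjective Φ)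
  have hxp : x ^ p ∈ V := (QuotientGroup.eq_one_iff _).mp (by
    have := pow_orderOf_eq_one (QuotientGroup.mk' V x)
    rwa [hso, ← map_pow] at this)
  obtain ⟨D, R, hRn, hDle, B, t, hW⟩ := wreath_section U hUc hUp (π x) (fun u hu => hUn.conj_mem u hu _)
    (by rw [← map_pow]; exact ⟨_, hxp, rfl⟩) (π v) ⟨v, hv, rfl⟩ (by
      intro e
      refine hvn (Eq.trans ?_ e)
      rw [conjProd, conjProd, map_list_prod, List.map_ofFn]
      refine congrArg List.prod (congrArg List.ofFn (funext fun i => ?_))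
      simp only [Function.comp_apply, map_mul, map_inv, map_pow])
  obtain ⟨h1, h2, h3, h4, h5, h6, h7, h8⟩ := hW
  obtain ⟨W, iW, iWf, e, hWp⟩ := exists_model B t h1 h2 h3 h4 h5 h6 h7 h8
  refine hwr W hWp ?_
  set f := π.comp g with hf
  have hDf : D ≤ f.range := fun d hd => by
    have : U ⊔ zpowers (π x) ≤ f.range := by
      rw [hf, MonoidHom.range_comp, hg]
      exact sup_le (Subgroup.map_mono hVQ) (zpowers_le.mpr ⟨x, hx, rfl⟩)
    exact this (hDle d hd)
  set K := D.comap f with hK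
  let φ : K →* D := MonoidHom.mk' (fun k => ⟨f k, k.2⟩) (fun a b => Subtype.ext (map_mul f (a : P) b))
  have hφ : Function.Surjective φ := fun d => by
    obtain ⟨k, hk⟩ := hDf d.2
    exact ⟨⟨k, show f k ∈ D from hk ▸ d.2⟩, Subtype.ext hk⟩
  have hker : (R.comap f).subgroupOf K = ((QuotientGroup.mk' (R.subgroupOf D)).comp φ).ker := by
    ext k
    rw [mem_subgroupOf, mem_comap, MonoidHom.mem_ker]
    exact ((QuotientGroup.eq_one_iff (N := R.subgroupOf D) (φ k)).trans mem_subgroupOf).symm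
  haveI : ((R.comap f).subgroupOf K).Normal := hker ▸ MonoidHom.normal_ker _
  exact ⟨K, R.comap f, inferInstance, ⟨((QuotientGroup.quotientMulEquivOfEq hker).trans
    (QuotientGroup.quotientKerEquivOfSurjective _ ((QuotientGroup.mk'_surjective _).comp hφ))).trans e.symm⟩⟩

end Cfsg.Agent.S3787
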