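import Cfsg.Statements.S3788
import Mathlib
import Cfsg.Agent.Lib.Cores
import Cfsg.Agent.Lib.Coprime
import Cfsg.Agent.Lib.Blocks.PSolvable
import Cfsg.Agent.Lib.BlockHeights.PConstrainedCores
import Cfsg.Agent.Lib.Characters.PSolvableTI
import Cfsg.Agent.Lib.SylowCounting.Order24
import Cfsg.Agent.Lib.Components.Constrained
-- import your own Cfsg.Agent.* helpers here

set_option autoImplicit false
open Cfsg

namespace Cfsg.Agent.S3788


open Subgroup
open scoped commutatorElement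
open Cfsg.Agent.Lib
open scoped Pointwise

/-- A group of order 24 from a dihedral group of order 6 acting on a four-group. -/
theorem iso_perm_four {X : Type*} [Group X] [Finite X] (U : Subgroup X) [U.Normal]
    (hU : Nat.card U = 4) (F T : X) (hF : orderOf F = 3)
    (hfree : ∀ u ∈ U, F * u * F⁻¹ = u → u = 1) (hT : T * T ∈ U) (hinv : T * F * T⁻¹ = F⁻¹)
    (hgen : U ⊔ zpowers F ⊔ zpowers T = ⊤) :
    Nonempty (X ≃* Equiv.Perm (Fin 4)) := by
  have hFz : Nat.card (zpowers F) = 3 := by rw [Nat.card_zpowers, hF]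
  set W := U ⊔ zpowers F with hW
  have hWc : Nat.card W = 12 := by
    rw [hW, Coprime.card_sup_of_coprime le_normalizer_of_normal (by rw [hU, hFz]; decide), hU, hFz]
  haveI hWn : W.Normal := by
    rw [← normalizer_eq_top_iff, eq_top_iff, ← hgen]
    refine sup_le le_normalizer (zpowers_le.mpr ?_)
    refine mem_normalizer_fintype ?_
    intro w hw
    obtain ⟨u, hu, h, hh, rfl⟩ := Coprime.exists_mul_of_mem_sup le_normalizer_of_normal hw
    obtain ⟨i, rfl⟩ := mem_zpowers_iff.mp hh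
    rw [show T * (u * F ^ i) * T⁻¹ = (T * u * T⁻¹) * (T * F * T⁻¹) ^ i by rw [conj_zpow]; group,
      hinv]
    exact mul_mem (mem_sup_left ((inferInstance : U.Normal).conj_mem u hu T))
      (mem_sup_right (zpow_mem (inv_mem (mem_zpowers F)) i))
  have hFU : F ∉ U := fun h => by
    have := hfree F h (by group)
    rw [this, orderOf_one] at hF
    omega
  have hF2 : F * F ∈ U → False := fun h => hFU (by
    have h3 : F ^ 3 = 1 := by rw [← hF, pow_orderOf_eq_one]
    have : F = (F * F)⁻¹ := by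
      rw [eq_inv_iff_mul_eq_one, ← h3, pow_succ', pow_two]
    rw [this]; exact inv_mem h)
  have hdih : ∀ w ∈ W, w * F * w⁻¹ * F⁻¹ ∈ U := by
    intro w hw
    obtain ⟨u, hu, h, hh, rfl⟩ := Coprime.exists_mul_of_mem_sup le_normalizer_of_normal hw
    obtain ⟨i, rfl⟩ := mem_zpowers_iff.mp hh
    rw [show u * F ^ i * F * (u * F ^ i)⁻¹ * F⁻¹ = u * (F * u⁻¹ * F⁻¹) by group]
    exact mul_mem hu ((inferInstance : U.Normal).conj_mem _ (inv_mem hu) F)
  have hTW : T ∉ W := by
    intro h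
    have := hdih T h
    rw [hinv] at this
    exact hF2 (by simpa using inv_mem this)
  have hX : Nat.card X = 24 := by
    have hgq : ∀ q : X ⧸ W, q ∈ zpowers (T : X ⧸ W) := by
      intro q
      obtain ⟨x, rfl⟩ := QuotientGroup.mk'_surjective W q
      have hx : x ∈ W ⊔ zpowers T := by rw [hgen]; exact mem_top x
      obtain ⟨w, hw, h, hh, rfl⟩ := Coprime.exists_mul_of_mem_sup le_normalizer_of_normal hx
      obtain ⟨i, rfl⟩ := mem_zpowers_iff.mp hh
      refine mem_zpowers_iff.mpr ⟨i, ?_⟩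
      rw [QuotientGroup.mk'_apply, QuotientGroup.mk_mul, (QuotientGroup.eq_one_iff w).mpr hw,
        one_mul, QuotientGroup.mk_zpow]
    have ho : orderOf (T : X ⧸ W) = 2 := by
      refine orderOf_eq_prime ?_ (fun h => hTW ((QuotientGroup.eq_one_iff T).mp h))
      rw [← QuotientGroup.mk_pow, QuotientGroup.eq_one_iff, pow_two]
      exact mem_sup_left hT
    have hi : W.index = 2 := by
      rw [index_eq_card, ← ho, ← Nat.card_zpowers, (eq_top_iff' _).mpr hgq, card_top]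
    have := W.card_mul_index
    rw [hWc, hi] at this
    omega
  haveI : Fact (Nat.Prime 3) := ⟨Nat.prime_three⟩
  refine SylowCounting.nonempty_mulEquiv_S4 hX fun g hg => ?_
  obtain ⟨P, hP⟩ := (IsPGroup.of_card (p := 3) (n := 1) (by rw [hFz]; rfl)).exists_le_sylow
  have hPeq : zpowers F = (P : Subgroup X) := by
    refine eq_of_le_of_card_ge hP ?_
    rw [hFz, P.card_eq_multiplicity, hX]
    have : (24 : ℕ).factorization 3 = 1 := by
      rw [show (24 : ℕ) = 3 * 8 by rfl, Nat.factorization_mul (by decide) (by decide)]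
      simp [Nat.prime_three.factorization_self, Nat.factorization_eq_zero_of_not_dvd]
    rw [this]; norm_num
  have ho2 : orderOf (g ^ 2) = 3 := by rw [orderOf_pow, hg]; rfl
  have ho3 : orderOf (g ^ 3) = 2 := by rw [orderOf_pow, hg]; rfl
  obtain ⟨P', hP'⟩ := (IsPGroup.of_card (p := 3) (n := 1)
    (by rw [Nat.card_zpowers, ho2]; rfl : Nat.card (zpowers (g ^ 2)) = 3 ^ 1)).exists_le_sylow
  obtain ⟨c, hc⟩ := MulAction.exists_smul_eq X P' P
  have hy : c * g ^ 2 * c⁻¹ ∈ zpowers F := by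
    rw [hPeq, ← hc, Sylow.coe_subgroup_smul]
    exact ⟨g ^ 2, hP' (mem_zpowers _), rfl⟩
  set t := c * g ^ 3 * c⁻¹ with ht
  have hto : orderOf t = 2 := by rw [ht, ← MulAut.conj_apply, MulEquiv.orderOf_eq, ho3]
  have hyo : orderOf (c * g ^ 2 * c⁻¹) = 3 := by rw [← MulAut.conj_apply, MulEquiv.orderOf_eq, ho2]
  have hyF : zpowers (c * g ^ 2 * c⁻¹) = zpowers F :=
    eq_of_le_of_card_ge (zpowers_le.mpr hy) (by rw [hFz, Nat.card_zpowers, hyo])
  have htF : t * F = F * t := by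
    obtain ⟨i, hi⟩ := mem_zpowers_iff.mp (hyF.ge (mem_zpowers F))
    rw [← hi]
    refine (Commute.zpow_right ?_ i).eq
    show _ = _
    rw [ht]; group
  have htc : t * F * t⁻¹ = F := by rw [htF]; group
  by_cases htW : t ∈ W
  · obtain ⟨u, hu, h, hh, he⟩ := Coprime.exists_mul_of_mem_sup le_normalizer_of_normal htW
    obtain ⟨i, rfl⟩ := mem_zpowers_iff.mp hh
    have hcu : F * u * F⁻¹ = u := by
      have h' : u = t * (F ^ i)⁻¹ := by rw [he]; group
      rw [h', show F * (t * (F ^ i)⁻¹) * F⁻¹ = (F * t) * F⁻¹ * (F ^ i)⁻¹ by group, ← htF]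
      group
    rw [hfree u hu hcu, one_mul] at he
    have : t ^ 3 = 1 := by
      rw [he, ← zpow_natCast, ← zpow_mul, mul_comm, zpow_mul, zpow_natCast, ← hF,
        pow_orderOf_eq_one, one_zpow]
    have h3 := orderOf_dvd_of_pow_eq_one this
    rw [hto] at h3
    norm_num at h3
  · have hmem : t ∈ W ⊔ zpowers T := by rw [hgen]; exact mem_top t
    obtain ⟨w, hw, h, hh, he⟩ := Coprime.exists_mul_of_mem_sup le_normalizer_of_normal hmem
    obtain ⟨i, rfl⟩ := mem_zpowers_iff.mp hh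
    have hT2 : ∀ k : ℤ, T ^ (2 * k) ∈ W := fun k => by
      rw [zpow_mul, zpow_two]; exact zpow_mem (mem_sup_left hT) k
    rcases Int.even_or_odd' i with ⟨k, rfl | rfl⟩
    · exact htW (he ▸ mul_mem hw (hT2 k))
    · have hw' : w * T ^ (2 * k + 1) = (w * T ^ (2 * k)) * T := by rw [zpow_add_one, mul_assoc]
      have hv := hdih (w * T ^ (2 * k)) (mul_mem hw (hT2 k))
      set v := w * T ^ (2 * k)
      have h1 : v * F⁻¹ * v⁻¹ = F := by
        rw [← hinv, show v * (T * F * T⁻¹) * v⁻¹ = (v * T) * F * (v * T)⁻¹ by group, ← hw', ← he, htc]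
      have h2 : v * F * v⁻¹ * F⁻¹ = (F * F)⁻¹ := by
        rw [show v * F * v⁻¹ = (v * F⁻¹ * v⁻¹)⁻¹ by group, h1]
        group
      rw [h2] at hv
      exact hF2 (by simpa using inv_mem hv)

theorem involves_of_surjective {G : Type*} [Group G] {H : Type*} [Group H] (φ : G →* H)
    (hφ : Function.Surjective φ) {X : Type*} [Group X] (h : Cfsg.Involves X H) :
    Cfsg.Involves X G := by
  obtain ⟨K, R, hn, ⟨e⟩⟩ := h
  haveI := hn
  let ψ : K.comap φ →* K := φ.subgroupComap K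
  have hψ : Function.Surjective ψ := fun k => by
    obtain ⟨g, hg⟩ := hφ k
    exact ⟨⟨g, show φ g ∈ K by rw [hg]; exact k.2⟩, Subtype.ext hg⟩
  let m := (QuotientGroup.mk' (R.subgroupOf K)).comp ψ
  have hm : Function.Surjective m := (QuotientGroup.mk'_surjective _).comp hψ
  have hk : m.ker = (R.comap φ).subgroupOf (K.comap φ) := by
    ext x; exact QuotientGroup.eq_one_iff (ψ x)
  have hn' : ((R.comap φ).subgroupOf (K.comap φ)).Normal := hk ▸ inferInstance
  exact ⟨K.comap φ, R.comap φ, hn', ⟨((QuotientGroup.quotientMulEquivOfEq hk.symm).trans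
    (QuotientGroup.quotientKerEquivOfSurjective m hm)).trans e⟩⟩

theorem cyclic_le_pCore {G : Type*} [Group G] [Finite G] {p : ℕ} [hp : Fact p.Prime]
    (hG : Cfsg.IsPSolvable p G) (hcore : Cfsg.pPrimeCore p G = ⊥) (A : Subgroup G)
    (hAp : IsPGroup p A) (hAn : Cfsg.pCore p G ≤ normalizer (A : Set G)) [IsCyclic A]
    (h : p ≠ 2 ∨ ¬ Cfsg.Involves (Equiv.Perm (Fin 4)) G) : A ≤ Cfsg.pCore p G := by
  classical
  set V := Cfsg.pCore p G with hVdef
  haveI hVn : V.Normal := inferInstance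
  have hVp : IsPGroup p V := Cores.pCore_isPGroup p G
  have hCV : centralizer (V : Set G) ≤ V := Blocks.centralizer_pCore_le_of_isPSolvable p hG hcore
  by_contra hAV
  obtain ⟨⟨a0, ha0⟩, hgen⟩ := IsCyclic.exists_generator (α := A)
  have hgen' : ∀ x ∈ A, ∃ i : ℤ, a0 ^ i = x := fun x hx => by
    obtain ⟨i, hi⟩ := mem_zpowers_iff.mp (hgen ⟨x, hx⟩)
    exact ⟨i, congrArg Subtype.val hi⟩
  have ha0V : a0 ∉ V := fun hh => hAV fun x hx => by
    obtain ⟨i, rfl⟩ := hgen' x hx; exact zpow_mem hh i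
  have hex : ∃ k : ℕ, a0 ^ p ^ k ∈ V := by
    obtain ⟨k, hk⟩ := hAp ⟨a0, ha0⟩
    exact ⟨k, by rw [show a0 ^ p ^ k = 1 from congrArg Subtype.val hk]; exact one_mem _⟩
  obtain ⟨j, hj⟩ : ∃ j, Nat.find hex = j + 1 := by
    refine ⟨Nat.find hex - 1, (Nat.sub_add_cancel ?_).symm⟩
    rw [Nat.one_le_iff_ne_zero, ne_eq, Nat.find_eq_zero, pow_zero, pow_one]
    exact ha0V
  set a := a0 ^ p ^ j with ha
  have haV : a ∉ V := Nat.find_min hex (by omega)
  have hapV : a ^ p ∈ V := by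
    rw [ha, ← pow_mul, ← pow_succ, ← hj]; exact Nat.find_spec hex
  have haA : a ∈ A := pow_mem ha0 _
  have hAV' : ∀ x ∈ A, x ∈ V → x ∈ zpowers (a ^ p) := by
    intro x hx hxV
    obtain ⟨i, rfl⟩ := hgen' x hx
    obtain ⟨n, hn, hne⟩ := (Nat.dvd_prime_pow (m := j + 1) hp.out).mp
      (Int.gcd_dvd_natAbs_right i ((p : ℤ) ^ (j + 1)) |>.trans (by simp [Int.natAbs_pow]))
    have hgV : a0 ^ (Int.gcd i ((p : ℤ) ^ (j + 1))) ∈ V := by
      rw [← zpow_natCast, Int.gcd_eq_gcd_ab, zpow_add, zpow_mul, zpow_mul]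
      refine mul_mem (zpow_mem hxV _) (zpow_mem ?_ _)
      rw [← Nat.cast_pow, zpow_natCast, ← hj]; exact Nat.find_spec hex
    rw [hne] at hgV
    have hnj : n = j + 1 := by
      have := Nat.find_min' hex hgV; omega
    obtain ⟨e, he⟩ : ((p : ℤ) ^ (j + 1)) ∣ i := by
      have := Int.gcd_dvd_left i ((p : ℤ) ^ (j + 1))
      rwa [hne, hnj, Nat.cast_pow] at this
    refine mem_zpowers_iff.mpr ⟨e, ?_⟩
    rw [ha, ← pow_mul, ← pow_succ, ← zpow_natCast, ← zpow_mul, he, Nat.cast_pow]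
  -- the quotient by the Frattini subgroup of `V`
  set Φ := (frattini V).map V.subtype with hΦ
  haveI hΦn : Φ.Normal := Cores.normal_map_subtype_of_char V _
  set π := QuotientGroup.mk' Φ with hπ
  have hπs : Function.Surjective π := QuotientGroup.mk'_surjective Φ
  haveI : Group.IsNilpotent V := hVp.isNilpotent
  have hΦV : Φ ≤ V := map_subtype_le _
  have hπ1 : ∀ x : G, π x = 1 ↔ x ∈ Φ := fun x => QuotientGroup.eq_one_iff x
  have hcomm : ∀ v ∈ V, ∀ w ∈ V, π v * π w = π w * π v := fun v hv w hw => by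
    rw [← commutatorElement_eq_one_iff_mul_comm, ← map_commutatorElement, hπ1]
    exact ⟨_, Cores.commutator_le_frattini
      (commutator_mem_commutator (mem_top (⟨v, hv⟩ : V)) (mem_top ⟨w, hw⟩)), rfl⟩
  have hpow : ∀ v ∈ V, π v ^ p = 1 := fun v hv => by
    rw [← map_pow, hπ1]
    exact ⟨_, Cores.pow_mem_frattini hVp ⟨v, hv⟩, rfl⟩
  set T₀ := π a with hT₀
  set c := T₀ ^ p with hcdef
  have hcV : c = π (a ^ p) := (map_pow π a p).symm
  have hcp : c ^ p = 1 := by rw [hcV]; exact hpow _ hapV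
  have hTc : Commute T₀ c := (Commute.refl T₀).pow_right p
  have hact : ∀ v ∈ V, ∃ i : ℤ, T₀ * π v * T₀⁻¹ = π v * c ^ i := by
    intro v hv
    have h1 : v⁻¹ * (a * v * a⁻¹) ∈ V := mul_mem (inv_mem hv) (hVn.conj_mem v hv a)
    have h2 : v⁻¹ * (a * v * a⁻¹) ∈ A := by
      rw [← mul_assoc, ← mul_assoc]
      exact mul_mem ((Subgroup.mem_normalizer_iff''.mp (hAn hv) a).mp haA) (inv_mem haA)
    obtain ⟨i, hi⟩ := mem_zpowers_iff.mp (hAV' _ h2 h1)
    refine ⟨i, ?_⟩
    rw [hcV, hT₀, ← map_zpow, hi, ← map_mul, ← map_inv, ← map_mul, ← map_mul]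
    congr 1; group
  -- complement of `V` in the preimage of the `p'`-core of the quotient
  set E₀ := Cfsg.pPrimeCore p (G ⧸ V) with hE₀
  set M := E₀.comap (QuotientGroup.mk' V) with hM
  have hVM : V ≤ M := fun x hx => by
    rw [hM, mem_comap, QuotientGroup.mk'_apply, (QuotientGroup.eq_one_iff x).mpr hx]; exact one_mem _
  obtain ⟨k₀, hk₀⟩ := hVp.exists_card_eq
  have hcop0 : (Nat.card V).Coprime (Nat.card E₀) := by
    rw [hk₀]; exact ((Cores.pPrimeCore_coprime p (G ⧸ V)).pow_right k₀).symm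
  haveI : (V.subgroupOf M).Normal := hVn.subgroupOf M
  have hcVM : Nat.card (V.subgroupOf M) = Nat.card V :=
    Nat.card_congr (subgroupOfEquivOfLe hVM).toEquiv
  have hiVM : (V.subgroupOf M).index = Nat.card E₀ := by
    have h1 := (V.subgroupOf M).card_mul_index
    rw [hcVM, hM, Cores.card_comap_mk'] at h1
    exact Nat.eq_of_mul_eq_mul_left Nat.card_pos h1
  obtain ⟨L, hL⟩ := exists_right_complement'_of_coprime (N := V.subgroupOf M)
    (by rw [hcVM, hiVM]; exact hcop0)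
  set E := L.map M.subtype with hE
  have hEc : Nat.card E = Nat.card E₀ := by
    rw [hE, card_map_of_injective M.subtype_injective, ← hiVM, hL.symm.index_eq_card]
  have hEM : E ≤ M := map_subtype_le _
  have hcopE : (Nat.card V).Coprime (Nat.card E) := hEc ▸ hcop0
  have hVE : V ⊔ E = M := by
    refine eq_of_le_of_card_ge (sup_le hVM hEM) ?_
    rw [Coprime.card_sup_of_coprime le_normalizer_of_normal hcopE, hM, Cores.card_comap_mk', hEc]
  have hVEbot : ∀ x, x ∈ V → x ∈ E → x = 1 := fun x h1 h2 =>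
    mem_bot.mp (Coprime.inf_eq_bot_of_coprime_card hcopE ▸ mem_inf.mpr ⟨h1, h2⟩)
  obtain ⟨w, hw, hwE⟩ : ∃ w ∈ V, ∀ e ∈ E, (w * a) * e * (w * a)⁻¹ ∈ E := by
    haveI : Group.IsSolvable V := inferInstance
    obtain ⟨n, hn, hne⟩ := Coprime.exists_conj_eq_of_le_sup (N := V) (H := E)
      (K := E.map (MulAut.conj a).toMonoidHom) le_normalizer_of_normal hcopE (Or.inl inferInstance)
      (card_map_of_injective (MulAut.conj a).injective) (by
        rw [hVE]
        rintro _ ⟨e, he, rfl⟩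
        exact (inferInstance : M.Normal).conj_mem e (hEM he) a)
    refine ⟨n⁻¹, inv_mem hn, fun e he => ?_⟩
    have h1 : a * e * a⁻¹ ∈ MulAut.conj n • E := by rw [hne]; exact ⟨e, he, rfl⟩
    rw [Subgroup.mem_pointwise_smul_iff_inv_smul_mem, ← map_inv, MulAut.smul_def,
      MulAut.conj_apply, inv_inv] at h1
    simpa [mul_assoc] using h1
  set b := w * a with hb
  set T := π b with hT
  obtain ⟨k, hk⟩ := hact w hw
  have hwc : Commute (π w) c := by rw [hcV]; exact hcomm w hw _ hapV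
  have hTc' : Commute T c := by rw [hT, hb, map_mul]; exact hwc.mul_left hTc
  have hTact : ∀ v ∈ V, ∃ i : ℤ, T * π v * T⁻¹ = π v * c ^ i := by
    intro v hv
    obtain ⟨i, hi⟩ := hact v hv
    refine ⟨i, ?_⟩
    have h1 : Commute (π w) (π v * c ^ i) :=
      Commute.mul_right (hcomm w hw v hv) (hwc.zpow_right i)
    rw [hT, hb, map_mul, mul_inv_rev,
      show π w * π a * π v * ((π a)⁻¹ * (π w)⁻¹) = π w * (π a * π v * (π a)⁻¹) * (π w)⁻¹ by group,
      hi, h1.eq, mul_inv_cancel_right]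
  -- moving the commutators into the centralizer of `V`
  have hstab : ∀ f : G, (orderOf f).Coprime p → (∀ v ∈ V, ∃ d, π f * π v * (π f)⁻¹ = π v * d ∧
      π f * d = d * π f ∧ d ^ p = 1) → f ∈ V := by
    intro f hfo hf
    refine hCV (Coprime.le_centralizer_of_frattini (A := zpowers f) (K := V) ?_ ?_ (mem_zpowers f))
    · rw [Nat.card_zpowers]
      obtain ⟨m, hm⟩ := (hVp.to_subgroup (frattini V)).exists_card_eq
      rw [hm]; exact hfo.pow_right m
    · intro g hg v hv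
      have hc1 : π f * π v * (π f)⁻¹ = π v := by
        obtain ⟨d, hd, hdc, hdp⟩ := hf v hv
        have key : ∀ n : ℕ, (π f) ^ n * π v * ((π f) ^ n)⁻¹ = π v * d ^ n := by
          intro n
          induction n with
          | zero => simp
          | succ n ih =>
            have hdn : Commute (π f) (d ^ n) := Commute.pow_right (show Commute (π f) d from hdc) n
            rw [pow_succ', mul_inv_rev,
              show π f * π f ^ n * π v * ((π f ^ n)⁻¹ * (π f)⁻¹) =
                π f * (π f ^ n * π v * (π f ^ n)⁻¹) * (π f)⁻¹ by group, ih,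
              show π f * (π v * d ^ n) * (π f)⁻¹ =
                (π f * π v * (π f)⁻¹) * (π f * d ^ n * (π f)⁻¹) by group, hd, hdn.eq,
              mul_inv_cancel_right, mul_assoc, ← pow_succ']
        have h1 := key (orderOf f)
        rw [← map_pow, pow_orderOf_eq_one, map_one, one_mul, inv_one, mul_one] at h1
        have h2 : d ^ orderOf f = 1 := left_eq_mul.mp h1
        have h3 : d = 1 := by
          rw [← orderOf_eq_one_iff]
          exact Nat.eq_one_of_dvd_coprimes hfo (orderOf_dvd_of_pow_eq_one h2)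
            (orderOf_dvd_of_pow_eq_one hdp)
        rw [hd, h3, mul_one]
      obtain ⟨i, rfl⟩ := mem_zpowers_iff.mp hg
      show f ^ i * v * (f ^ i)⁻¹ * v⁻¹ ∈ Φ
      rw [← hπ1, map_mul, map_mul, map_mul, map_inv, map_inv, map_zpow]
      have : Commute (π f) (π v) := mul_inv_eq_iff_eq_mul.mp hc1
      rw [(this.zpow_left i).eq]
      group
  have hEo : ∀ e ∈ E, (orderOf e).Coprime p := fun e he =>
    (hEc.symm ▸ Cores.pPrimeCore_coprime p (G ⧸ V) : (Nat.card E).Coprime p).coprime_dvd_left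
      (by rw [← Nat.card_zpowers]; exact card_dvd_of_le (zpowers_le.mpr he))
  have hkey : ∀ e ∈ E, π e * c = c * π e → b * e = e * b := by
    intro e he hec
    have hfE : e * b * e⁻¹ * b⁻¹ ∈ E := by
      rw [show e * b * e⁻¹ * b⁻¹ = e * (b * e⁻¹ * b⁻¹) by group]
      exact mul_mem he (hwE _ (inv_mem he))
    have hf1 : e * b * e⁻¹ * b⁻¹ = 1 := by
      refine hVEbot _ (hstab _ (hEo _ hfE) fun v hv => ?_) hfE
      obtain ⟨i₁, hi₁⟩ := hTact (e⁻¹ * (b⁻¹ * v * b) * e) (by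
        simpa using hVn.conj_mem _ (by simpa using hVn.conj_mem v hv b⁻¹) e⁻¹)
      obtain ⟨i₂, hi₂⟩ := hTact (b⁻¹ * v * b) (by simpa using hVn.conj_mem v hv b⁻¹)
      have hTv : T * π (b⁻¹ * v * b) * T⁻¹ = π v := by
        rw [hT, ← map_inv, ← map_mul, ← map_mul]; congr 1; group
      rw [hTv] at hi₂
      have hec' : Commute (π e) c := hec
      have hf : π (e * b * e⁻¹ * b⁻¹) = π e * T * (π e)⁻¹ * T⁻¹ := by
        rw [hT, map_mul, map_mul, map_mul, map_inv, map_inv]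
      refine ⟨c ^ (i₁ - i₂), ?_, ?_, ?_⟩
      · rw [hf]
        calc π e * T * (π e)⁻¹ * T⁻¹ * π v * (π e * T * (π e)⁻¹ * T⁻¹)⁻¹
            = π e * (T * ((π e)⁻¹ * (T⁻¹ * π v * T) * π e) * T⁻¹) * (π e)⁻¹ := by group
          _ = π e * (T * π (e⁻¹ * (b⁻¹ * v * b) * e) * T⁻¹) * (π e)⁻¹ := by
            simp only [map_mul, map_inv, hT]
          _ = π e * (π (e⁻¹ * (b⁻¹ * v * b) * e) * c ^ i₁) * (π e)⁻¹ := by rw [hi₁]
          _ = π (b⁻¹ * v * b) * (π e * c ^ i₁ * (π e)⁻¹) := by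
            simp only [map_mul, map_inv]; group
          _ = π (b⁻¹ * v * b) * c ^ i₁ := by rw [(hec'.zpow_right i₁).eq, mul_inv_cancel_right]
          _ = π (b⁻¹ * v * b) * c ^ i₂ * c ^ (i₁ - i₂) := by
            rw [mul_assoc (π (b⁻¹ * v * b)), ← zpow_add]; congr 2; ring
          _ = π v * c ^ (i₁ - i₂) := by rw [← hi₂]
      · rw [hf]
        exact (((hec'.mul_left hTc').mul_left hec'.inv_left).mul_left hTc'.inv_left).zpow_right _
      · rw [← zpow_natCast, ← zpow_mul, mul_comm, zpow_mul, zpow_natCast, hcp, one_zpow]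
    calc b * e = (e * b * e⁻¹ * b⁻¹) * (b * e) := by rw [hf1, one_mul]
      _ = e * b := by group
  -- powers of `b`
  have hbp : b ^ p ∈ V := by
    rw [← QuotientGroup.eq_one_iff, QuotientGroup.mk_pow, hb, QuotientGroup.mk_mul,
      (QuotientGroup.eq_one_iff w).mpr hw, one_mul, ← QuotientGroup.mk_pow, QuotientGroup.eq_one_iff]
    exact hapV
  have hbpE : ∀ e ∈ E, b ^ p * e = e * b ^ p := by
    intro e he
    have hn : ∀ n : ℕ, ∀ e ∈ E, b ^ n * e * (b ^ n)⁻¹ ∈ E := by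
      intro n
      induction n with
      | zero => intro e he; simpa using he
      | succ n ih =>
        intro e he
        rw [pow_succ, show b ^ n * b * e * (b ^ n * b)⁻¹ = b ^ n * (b * e * b⁻¹) * (b ^ n)⁻¹ by group]
        exact ih _ (hwE e he)
    have h1 : b ^ p * e * (b ^ p)⁻¹ * e⁻¹ ∈ E := mul_mem (hn p e he) (inv_mem he)
    have h2 : b ^ p * e * (b ^ p)⁻¹ * e⁻¹ ∈ V := by
      rw [mul_assoc, mul_assoc, ← mul_assoc e]
      exact mul_mem hbp (hVn.conj_mem _ (inv_mem hbp) e)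
    have h3 := hVEbot _ h2 h1
    calc b ^ p * e = (b ^ p * e * (b ^ p)⁻¹ * e⁻¹) * (e * b ^ p) := by group
      _ = e * b ^ p := by rw [h3, one_mul]
  by_cases hall : ∀ e ∈ E, π e * c = c * π e
  · -- `b` centralizes the `p'`-core of `G ⧸ V`
    have hq : Cfsg.IsPSolvable p (G ⧸ V) := BlockHeights.isPSolvable_quot V hG
    have hcen : (b : G ⧸ V) ∈ centralizer (E₀ : Set (G ⧸ V)) := by
      intro q hq'
      obtain ⟨m, rfl⟩ := QuotientGroup.mk'_surjective V q
      have hm : m ∈ V ⊔ E := by rw [hVE]; exact hq'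
      obtain ⟨v, hv, e, he, rfl⟩ := Coprime.exists_mul_of_mem_sup le_normalizer_of_normal hm
      rw [QuotientGroup.mk'_apply, QuotientGroup.mk_mul, (QuotientGroup.eq_one_iff v).mpr hv,
        one_mul, ← QuotientGroup.mk_mul, ← QuotientGroup.mk_mul, hkey e he (hall e he)]
    have hbE := Characters.centralizer_pPrimeCore_le_of_pCore_eq_bot p hq
      (Cores.pCore_quotient_pCore p G) hcen
    have h1 : orderOf (b : G ⧸ V) ∣ p :=
      orderOf_dvd_of_pow_eq_one (by rw [← QuotientGroup.mk_pow, QuotientGroup.eq_one_iff]; exact hbp)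
    have h2 : (orderOf (b : G ⧸ V)).Coprime p :=
      (Cores.pPrimeCore_coprime p (G ⧸ V)).coprime_dvd_left
        (by rw [← Nat.card_zpowers]; exact card_dvd_of_le (zpowers_le.mpr hbE))
    have h3 : (b : G ⧸ V) = 1 := orderOf_eq_one_iff.mp (Nat.eq_one_of_dvd_coprimes h2 dvd_rfl h1)
    rw [QuotientGroup.eq_one_iff] at h3
    exact haV (by simpa [hb] using mul_mem (inv_mem hw) h3)
  push_neg at hall
  obtain ⟨e₁, he₁, hec₁⟩ := hall
  have hTn : ∀ n : ℕ, T ^ n = π w ^ n * c ^ (k * (n.choose 2 : ℤ)) * T₀ ^ n := by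
    intro n
    induction n with
    | zero => simp
    | succ n ih =>
      have hnw : T₀ ^ n * π w = π w * c ^ (k * n) * T₀ ^ n := by
        clear ih
        induction n with
        | zero => simp
        | succ n ih =>
          rw [pow_succ', mul_assoc T₀, ih,
            show T₀ * (π w * c ^ (k * n) * T₀ ^ n) =
              (T₀ * π w * T₀⁻¹) * (T₀ * c ^ (k * n)) * T₀ ^ n by group, hk,
            (hTc.zpow_right (k * n)).eq]
          rw [show π w * c ^ k * (c ^ (k * n) * T₀) * T₀ ^ n =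
            π w * (c ^ k * c ^ (k * n)) * (T₀ * T₀ ^ n) by group, ← zpow_add]
          congr 3; push_cast; ring
      rw [pow_succ, ih, hT, hb, map_mul, mul_assoc, ← mul_assoc (T₀ ^ n), hnw,
        Nat.choose_succ_succ, Nat.choose_one_right,
        show π w ^ n * c ^ (k * (n.choose 2 : ℤ)) * (π w * c ^ (k * n) * T₀ ^ n * T₀) =
          π w ^ n * (c ^ (k * (n.choose 2 : ℤ)) * π w) * c ^ (k * n) * (T₀ ^ n * T₀) by group,
        ← (hwc.zpow_right _).eq, ← pow_succ T₀, ← mul_assoc, ← pow_succ (π w), mul_assoc (π w ^ (n + 1)),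
        ← zpow_add]
      congr 3; push_cast; ring
  rcases eq_or_ne p 2 with hp2 | hp2
  swap
  · -- odd prime: `c` is centralized by `E`
    have hd : p ∣ p.choose 2 := hp.out.dvd_choose_self two_ne_zero
      (lt_of_le_of_ne hp.out.two_le (Ne.symm hp2))
    have hTp : T ^ p = c := by
      obtain ⟨e, he⟩ := hd
      rw [hTn, hpow w hw, one_mul, he, Nat.cast_mul, mul_left_comm, zpow_mul, zpow_natCast, hcp,
        one_zpow, one_mul]
    refine hec₁ ?_
    rw [← hTp, hT, ← map_pow, ← map_mul, ← map_mul, hbpE e₁ he₁]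
  subst hp2
  have hS4 := h.resolve_left (fun hh => hh rfl)
  obtain ⟨e, he, hne⟩ : ∃ e ∈ E, b * e * b⁻¹ * e⁻¹ ≠ 1 := by
    by_contra hcon
    push_neg at hcon
    apply hec₁
    have hcomm1 : ∀ e ∈ E, Commute b e := fun e he => by
      show b * e = e * b
      calc b * e = (b * e * b⁻¹ * e⁻¹) * (e * b) := by group
        _ = e * b := by rw [hcon e he, one_mul]
    have hcomm2 : ∀ e ∈ E, Commute (π e) T := fun e he => ((hcomm1 e he).map π).symm
    -- `T` acts trivially modulo `⟨c⟩`, and `E` commutes with `T`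
    by_cases hTall : ∀ v ∈ V, Commute T (π v)
    · exfalso
      apply haV
      have hTw : ∀ v ∈ V, π (a * v * a⁻¹ * v⁻¹) = 1 := fun v hv => by
        have h1 : Commute T₀ (π v) := by
          have h2 : Commute (π w)⁻¹ (π v) := Commute.inv_left (hcomm w hw v hv)
          have := h2.mul_left (hTall v hv)
          rwa [hT, hb, map_mul, inv_mul_cancel_left] at this
        rw [map_mul, map_mul, map_mul, map_inv, map_inv, ← hT₀, h1.eq]
        group
      -- `a` is a `p`-element of `G ⧸ V` centralizing `E₀`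
      have hq : Cfsg.IsPSolvable 2 (G ⧸ V) := BlockHeights.isPSolvable_quot V hG
      have hcen : (b : G ⧸ V) ∈ centralizer (E₀ : Set (G ⧸ V)) := by
        intro q hq'
        obtain ⟨m, rfl⟩ := QuotientGroup.mk'_surjective V q
        have hm : m ∈ V ⊔ E := by rw [hVE]; exact hq'
        obtain ⟨v, hv, e, he, rfl⟩ := Coprime.exists_mul_of_mem_sup le_normalizer_of_normal hm
        rw [QuotientGroup.mk'_apply, QuotientGroup.mk_mul, (QuotientGroup.eq_one_iff v).mpr hv,
          one_mul, ← QuotientGroup.mk_mul, ← QuotientGroup.mk_mul, (hcomm1 e he).eq]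
      have hbE := Characters.centralizer_pPrimeCore_le_of_pCore_eq_bot 2 hq
        (Cores.pCore_quotient_pCore 2 G) hcen
      have h1 : orderOf (b : G ⧸ V) ∣ 2 :=
        orderOf_dvd_of_pow_eq_one (by rw [← QuotientGroup.mk_pow, QuotientGroup.eq_one_iff]; exact hbp)
      have h2 : (orderOf (b : G ⧸ V)).Coprime 2 :=
        (Cores.pPrimeCore_coprime 2 (G ⧸ V)).coprime_dvd_left
          (by rw [← Nat.card_zpowers]; exact card_dvd_of_le (zpowers_le.mpr hbE))
      have h3 : (b : G ⧸ V) = 1 := orderOf_eq_one_iff.mp (Nat.eq_one_of_dvd_coprimes h2 dvd_rfl h1)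
      rw [QuotientGroup.eq_one_iff] at h3
      simpa [hb] using mul_mem (inv_mem hw) h3
    · push_neg at hTall
      obtain ⟨v, hv, hnc⟩ := hTall
      obtain ⟨i, hi⟩ := hTact v hv
      have hci : c ^ i ≠ 1 := fun h0 => hnc (by
        rw [h0, mul_one] at hi; exact mul_inv_eq_iff_eq_mul.mp hi)
      have hv' : e₁⁻¹ * v * e₁ ∈ V := by simpa using hVn.conj_mem v hv e₁⁻¹
      obtain ⟨i', hi'⟩ := hTact _ hv'
      have hce : π e₁ * c ^ i' * (π e₁)⁻¹ = c ^ i := by
        have h2 : π v * (π e₁ * c ^ i' * (π e₁)⁻¹) = π v * c ^ i := by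
          rw [show π v * (π e₁ * c ^ i' * (π e₁)⁻¹) =
            π e₁ * (π (e₁⁻¹ * v * e₁) * c ^ i') * (π e₁)⁻¹ by simp only [map_mul, map_inv]; group,
            ← hi', ← hi]
          simp only [map_mul, map_inv]
          have h3 := (hcomm2 e₁ he₁).eq
          calc π e₁ * (T * ((π e₁)⁻¹ * π v * π e₁) * T⁻¹) * (π e₁)⁻¹
              = (π e₁ * T) * (π e₁)⁻¹ * π v * π e₁ * (π e₁ * T)⁻¹ := by group
            _ = (T * π e₁) * (π e₁)⁻¹ * π v * π e₁ * (T * π e₁)⁻¹ := by rw [h3]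
            _ = T * π v * T⁻¹ := by group
        exact mul_left_cancel h2
      have hc2 : ∀ i : ℤ, c ^ i = 1 ∨ c ^ i = c := fun i => by
        rcases Int.even_or_odd' i with ⟨l, rfl | rfl⟩
        · left; rw [zpow_mul, zpow_two, ← pow_two, hcp, one_zpow]
        · right; rw [zpow_add_one, zpow_mul, zpow_two, ← pow_two, hcp, one_zpow, one_mul]
      have hi1 : c ^ i = c := (hc2 i).resolve_left hci
      rcases hc2 i' with h' | h'
      · rw [h', mul_one, mul_inv_cancel] at hce; exact absurd hce.symm hci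
      · rw [h', hi1] at hce; exact mul_inv_eq_iff_eq_mul.mp hce
  set f := b * e * b⁻¹ * e⁻¹ with hfdef
  have hfE : f ∈ E := mul_mem (hwE e he) (inv_mem he)
  have hbf : b * f * b⁻¹ = f⁻¹ := by
    have h2 : b ^ 2 * e⁻¹ = e⁻¹ * b ^ 2 := hbpE _ (inv_mem he)
    have h3 : b ^ 2 * e = e * b ^ 2 := hbpE _ he
    calc b * f * b⁻¹ = (b ^ 2 * e) * b⁻¹ * e⁻¹ * b⁻¹ := by rw [hfdef, pow_two]; group
      _ = e * b * e⁻¹ * b⁻¹ := by rw [h3]; group
      _ = f⁻¹ := by rw [hfdef]; group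
  set F := π f with hF
  have hFT : T * F * T⁻¹ = F⁻¹ := by
    rw [hT, hF, ← map_inv, ← map_mul, ← map_mul, hbf, map_inv]
  have hfc : F * c ≠ c * F := by
    intro hh
    have h1 := hkey f hfE hh
    rw [h1, mul_inv_cancel_right] at hbf
    have h4 : f ^ 2 = 1 := by rw [pow_two]; nth_rewrite 2 [hbf]; exact mul_inv_cancel f
    exact hne (orderOf_eq_one_iff.mp (Nat.eq_one_of_dvd_coprimes (hEo f hfE) dvd_rfl
      (orderOf_dvd_of_pow_eq_one h4)))
  -- the fours group on which `f` acts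
  set d := π (e * a ^ 2 * e⁻¹) with hd
  have hdV : e * a ^ 2 * e⁻¹ ∈ V := hVn.conj_mem _ hapV e
  have hFact : ∀ v ∈ V, ∃ i i' : ℤ, F * π v * F⁻¹ = π v * (c ^ i * d ^ i') := by
    intro v hv
    have hu : e⁻¹ * v * e ∈ V := by simpa using hVn.conj_mem v hv e⁻¹
    set u := b⁻¹ * (e⁻¹ * v * e) * b with hudef
    have huV : u ∈ V := by simpa using hVn.conj_mem _ hu b⁻¹
    obtain ⟨i₁, hi₁⟩ := hTact u huV
    obtain ⟨i₂, hi₂⟩ := hTact (e * u * e⁻¹) (hVn.conj_mem u huV e)
    have hTu : T * π u * T⁻¹ = π (e⁻¹ * v * e) := by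
      rw [hudef, hT, ← map_inv, ← map_mul, ← map_mul]; congr 1; group
    rw [hTu] at hi₁
    have hdd : π e * c * (π e)⁻¹ = d := by
      rw [hd, hcV, map_mul, map_mul, map_inv]
    have hv' : π (e * u * e⁻¹) = π v * (d ^ i₁)⁻¹ := by
      rw [← hdd, conj_zpow]
      have : π u = π (e⁻¹ * v * e) * (c ^ i₁)⁻¹ := by rw [hi₁, mul_inv_cancel_right]
      simp only [map_mul, map_inv] at this ⊢
      rw [this]; group
    refine ⟨i₂, -i₁, ?_⟩
    calc F * π v * F⁻¹ = T * π (e * u * e⁻¹) * T⁻¹ := by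
          simp only [hF, hfdef, hudef, hT, map_mul, map_inv]; group
      _ = π v * (d ^ i₁)⁻¹ * c ^ i₂ := by rw [hi₂, hv']
      _ = π v * (c ^ i₂ * d ^ (-i₁)) := by
          rw [zpow_neg, mul_assoc]
          congr 1
          exact ((((show Commute d c from by rw [hcV, hd]; exact hcomm _ hdV _ hapV).zpow_left
            i₁).inv_left).zpow_right i₂).eq
  set Vb := V.map π with hVb
  haveI hVbn : Vb.Normal := hVn.map π hπs
  have hVbc : ∀ x ∈ Vb, ∀ y ∈ Vb, x * y = y * x := by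
    rintro _ ⟨x, hx, rfl⟩ _ ⟨y, hy, rfl⟩; exact hcomm x hx y hy
  have hVb2 : ∀ x ∈ Vb, x * x = 1 := by
    rintro _ ⟨x, hx, rfl⟩; rw [← pow_two]; exact hpow x hx
  set B := Vb ⊓ centralizer ({F} : Set (G ⧸ Φ)) with hB
  have hBmem : ∀ x ∈ B, F * x = x * F := fun x hx => (mem_centralizer_singleton_iff.mp hx.2).symm
  have hfix : ∀ f' ∈ E, (∀ x ∈ Vb, π f' * x * (π f')⁻¹ * x⁻¹ ∈ B ∧
      (∀ y ∈ B, π f' * y = y * π f')) → f' = 1 := by
    intro f' hf' hh
    refine hVEbot _ (hstab f' (hEo f' hf') fun v hv => ?_) hf'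
    obtain ⟨h1, h2⟩ := hh (π v) ⟨v, hv, rfl⟩
    refine ⟨π f' * π v * (π f')⁻¹ * (π v)⁻¹, ?_, h2 _ h1, ?_⟩
    · rw [hVbc (π v) ⟨v, hv, rfl⟩ _ h1.1, inv_mul_cancel_right]
    · rw [pow_two]; exact hVb2 _ h1.1
  have hmove : ∀ x ∈ Vb, F * x * F⁻¹ * x⁻¹ ∈ zpowers c ⊔ zpowers d := by
    rintro _ ⟨v, hv, rfl⟩
    obtain ⟨i, i', hii⟩ := hFact v hv
    have hmem : c ^ i * d ^ i' ∈ Vb := by
      rw [hcV, hd, ← map_zpow, ← map_zpow, ← map_mul]
      exact ⟨_, mul_mem (zpow_mem hapV i) (zpow_mem hdV i'), rfl⟩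
    rw [hii, hVbc (π v) ⟨v, hv, rfl⟩ _ hmem, mul_inv_cancel_right]
    exact mul_mem (mem_sup_left (zpow_mem (mem_zpowers c) i))
      (mem_sup_right (zpow_mem (mem_zpowers d) i'))
  have hcVb : c ∈ Vb := by rw [hcV]; exact ⟨_, hapV, rfl⟩
  have hdVb : d ∈ Vb := ⟨_, hdV, rfl⟩
  have hcd : Nat.card (zpowers c ⊔ zpowers d : Subgroup (G ⧸ Φ)) ≤ 4 := by
    have h2 : ∀ x ∈ Vb, Nat.card (zpowers x) ≤ 2 := fun x hx => by
      rw [Nat.card_zpowers]
      exact orderOf_le_of_pow_eq_one two_pos (by rw [pow_two]; exact hVb2 x hx)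
    have := Coprime.card_sup_mul_card_inf (N := zpowers c) (H := zpowers d) (zpowers_le.mpr (by
      refine mem_normalizer_fintype ?_
      intro x hx
      have hxV : x ∈ Vb := zpowers_le.mpr hcVb hx
      rwa [hVbc d hdVb x hxV, mul_inv_cancel_right]))
    have h4 : Nat.card (zpowers c) * Nat.card (zpowers d) ≤ 4 :=
      Nat.mul_le_mul (h2 c hcVb) (h2 d hdVb)
    exact le_trans (Nat.le_mul_of_pos_right _ Nat.card_pos) (this.le.trans h4)
  let δ : Vb →* (G ⧸ Φ) := MonoidHom.mk' (fun x => F * x * F⁻¹ * (x : G ⧸ Φ)⁻¹) (fun x y => by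
    have hm : F * (y : G ⧸ Φ) * F⁻¹ * (y : G ⧸ Φ)⁻¹ ∈ Vb :=
      mul_mem (hVbn.conj_mem _ y.2 F) (inv_mem y.2)
    show F * ((x : G ⧸ Φ) * y) * F⁻¹ * ((x : G ⧸ Φ) * y)⁻¹ = _
    rw [mul_inv_rev,
      show F * ((x : G ⧸ Φ) * y) * F⁻¹ * ((y : G ⧸ Φ)⁻¹ * (x : G ⧸ Φ)⁻¹) =
        (F * x * F⁻¹) * ((F * y * F⁻¹ * (y : G ⧸ Φ)⁻¹) * (x : G ⧸ Φ)⁻¹) by group,
      hVbc _ hm _ (inv_mem x.2), ← mul_assoc])
  have hker : δ.ker = B.subgroupOf Vb := by
    ext x
    show F * x * F⁻¹ * (x : G ⧸ Φ)⁻¹ = 1 ↔ _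
    rw [mul_inv_eq_one, mul_inv_eq_iff_eq_mul, mem_subgroupOf, hB, mem_inf,
      mem_centralizer_singleton_iff]
    exact ⟨fun h => ⟨x.2, h.symm⟩, fun h => h.2.symm⟩
  have hidx : B.relIndex Vb ≤ 4 := by
    rw [relIndex, ← hker, index_ker]
    refine le_trans (Nat.le_of_dvd Nat.card_pos (card_dvd_of_le ?_)) hcd
    rintro _ ⟨x, rfl⟩; exact hmove x x.2
  have hnofix : ∀ x ∈ Vb, F * x * F⁻¹ * x⁻¹ ∈ B → x ∈ B := by
    intro x hx hxB
    refine ⟨hx, mem_centralizer_singleton_iff.mpr ?_⟩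
    set y := F * x * F⁻¹ * x⁻¹ with hy
    have hFx : F * x * F⁻¹ = x * y := by
      rw [hVbc x hx y hxB.1, hy]; group
    have hFy : Commute F y := hBmem y hxB
    have key : ∀ n : ℕ, F ^ n * x * (F ^ n)⁻¹ = x * y ^ n := by
      intro n
      induction n with
      | zero => simp
      | succ n ih =>
        rw [pow_succ', mul_inv_rev, show F * F ^ n * x * ((F ^ n)⁻¹ * F⁻¹) =
          F * (F ^ n * x * (F ^ n)⁻¹) * F⁻¹ by group, ih,
          show F * (x * y ^ n) * F⁻¹ = (F * x * F⁻¹) * (F * y ^ n * F⁻¹) by group, hFx,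
          (hFy.pow_right n).eq, mul_inv_cancel_right, mul_assoc, ← pow_succ']
    have h1 := key (orderOf f)
    rw [hF, ← map_pow, pow_orderOf_eq_one, map_one, one_mul, inv_one, mul_one] at h1
    have h2 : y = 1 := orderOf_eq_one_iff.mp (Nat.eq_one_of_dvd_coprimes (hEo f hfE)
      (orderOf_dvd_of_pow_eq_one (left_eq_mul.mp h1))
      (orderOf_dvd_of_pow_eq_one (by rw [pow_two]; exact hVb2 y hxB.1)))
    rw [h2, mul_one] at hFx
    exact (mul_inv_eq_iff_eq_mul.mp hFx).symm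
  have hback : ∀ u ∈ Vb, F * u * F⁻¹ ∈ B → u ∈ B := fun u _ h4 => by
    have h6 := hBmem _ h4
    have h8 : F * u * F⁻¹ = u := by
      calc F * u * F⁻¹ = F⁻¹ * (F * (F * u * F⁻¹)) := by group
        _ = F⁻¹ * (F * u * F⁻¹ * F) := by rw [h6]
        _ = u := by group
    rwa [h8] at h4
  have hcB : c ∉ B := fun h => hfc (hBmem c h)
  haveI hBn' : (B.subgroupOf Vb).Normal := hker ▸ inferInstance
  -- the quotient `Vb ⧸ B`
  let mv : Vb →* Vb ⧸ B.subgroupOf Vb := QuotientGroup.mk' _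
  have hmv : ∀ x y : Vb, mv x = mv y ↔ (x : G ⧸ Φ) * (y : G ⧸ Φ)⁻¹ ∈ B := fun x y => by
    rw [← mul_inv_eq_one, ← map_inv, ← map_mul]
    exact QuotientGroup.eq_one_iff _
  have hU4 : B.relIndex Vb = 4 := by
    have hq : Nat.card (Vb ⧸ B.subgroupOf Vb) = B.relIndex Vb := (index_eq_card _).symm
    have hne1 : B.relIndex Vb ≠ 1 := fun h1 => hcB (relIndex_eq_one.mp h1 hcVb)
    have hne2 : B.relIndex Vb ≠ 2 := fun h2 => by
      obtain ⟨z, hz, huniq⟩ := (Nat.card_eq_two_iff' (1 : Vb ⧸ B.subgroupOf Vb)).mp (hq.trans h2)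
      have h1 : mv ⟨c, hcVb⟩ ≠ 1 := fun hh => hcB (show _ from (QuotientGroup.eq_one_iff (⟨c, hcVb⟩ : Vb)).mp hh)
      have h3 : mv ⟨F * c * F⁻¹, hVbn.conj_mem c hcVb F⟩ ≠ 1 := fun hh =>
        hcB (hback c hcVb (show _ from (QuotientGroup.eq_one_iff (⟨F * c * F⁻¹, hVbn.conj_mem c hcVb F⟩ : Vb)).mp hh))
      exact hcB (hnofix c hcVb ((hmv _ _).mp ((huniq _ h3).trans (huniq _ h1).symm)))
    have hdv : B.relIndex Vb ∣ Nat.card Vb := by rw [← hq]; exact card_quotient_dvd_card _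
    obtain ⟨m, hm⟩ := (show IsPGroup 2 Vb from hVp.map π).exists_card_eq
    obtain ⟨l, -, hl⟩ := (Nat.dvd_prime_pow hp.out).mp (hm ▸ hdv)
    rw [hl] at hidx hne1 hne2 ⊢
    rcases l with _ | _ | _ | l
    · exact absurd (pow_zero 2) hne1
    · exact absurd (pow_one 2) hne2
    · rfl
    · exfalso
      have := Nat.pow_le_pow_right two_pos (show 3 ≤ l + 1 + 1 + 1 by omega)
      omega
  have hBF : ∀ y ∈ B, F * y * F⁻¹ = y := fun y hy => by rw [hBmem y hy, mul_inv_cancel_right]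
  have hf3 : f ^ 3 = 1 := by
    refine hfix _ (pow_mem hfE 3) fun x hx => ⟨?_, fun y hy => ?_⟩
    · have hq : Nat.card (Vb ⧸ B.subgroupOf Vb) = 4 := by rw [← index_eq_card]; exact hU4
      haveI : Fintype (Vb ⧸ B.subgroupOf Vb) := Fintype.ofFinite _
      rw [Nat.card_eq_fintype_card] at hq
      by_cases hxB : x ∈ B
      · rw [map_pow, show F ^ 3 * x * (F ^ 3)⁻¹ * x⁻¹ = 1 by
          rw [(Commute.pow_left (hBmem x hxB) 3).eq]; group]
        exact one_mem _
      set y := F * x * F⁻¹ with hy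
      set z := F * y * F⁻¹ with hz
      have hyV : y ∈ Vb := hVbn.conj_mem x hx F
      have hzV : z ∈ Vb := hVbn.conj_mem y hyV F
      let X₁ : Vb ⧸ B.subgroupOf Vb := mv ⟨x, hx⟩
      let Y₁ : Vb ⧸ B.subgroupOf Vb := mv ⟨y, hyV⟩
      let Z₁ : Vb ⧸ B.subgroupOf Vb := mv ⟨z, hzV⟩
      have hyB : y ∉ B := fun hh => hxB (hback x hx hh)
      have hzB : z ∉ B := fun hh => hyB (hback y hyV hh)
      have one_iff : ∀ u : Vb, mv u = 1 ↔ (u : G ⧸ Φ) ∈ B := fun u => QuotientGroup.eq_one_iff u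
      have hX1 : X₁ ≠ 1 := fun hh => hxB ((one_iff _).mp hh)
      have hY1 : Y₁ ≠ 1 := fun hh => hyB ((one_iff _).mp hh)
      have hYX : Y₁ ≠ X₁ := fun hh => hxB (hnofix x hx ((hmv _ _).mp hh))
      have hXY : X₁ * Y₁ ≠ 1 := fun hh => hYX (by
        have hx2 : X₁ * X₁ = 1 := by
          rw [← map_mul, show (⟨x, hx⟩ : Vb) * ⟨x, hx⟩ = 1 from Subtype.ext (hVb2 x hx), map_one]
        exact mul_left_cancel (hh.trans hx2.symm))
      have huniv : ({1, X₁, Y₁, X₁ * Y₁} : Finset (Vb ⧸ B.subgroupOf Vb)) = Finset.univ := by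
        refine Finset.eq_univ_of_card _ ?_
        rw [hq, Finset.card_insert_of_notMem (by simp [Ne.symm hX1, Ne.symm hY1, Ne.symm hXY]),
          Finset.card_insert_of_notMem (by simp [Ne.symm hYX, hY1]),
          Finset.card_insert_of_notMem (by simp [hX1]), Finset.card_singleton]
      have hZ : Z₁ = X₁ * Y₁ := by
        have hm : Z₁ ∈ ({1, X₁, Y₁, X₁ * Y₁} : Finset _) := by rw [huniv]; exact Finset.mem_univ _
        simp only [Finset.mem_insert, Finset.mem_singleton] at hm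
        rcases hm with h | h | h | h
        · exact absurd ((one_iff _).mp h) hzB
        · exfalso
          have h' : z * x⁻¹ ∈ B := (hmv _ _).mp h
          refine hXY ?_
          rw [← map_mul]
          refine (one_iff _).mpr (hnofix (x * y) (mul_mem hx hyV) ?_)
          rw [show F * (x * y) * F⁻¹ = (F * x * F⁻¹) * (F * y * F⁻¹) by group, ← hy, ← hz,
            mul_inv_rev, hVbc y hyV z hzV, show z * y * (y⁻¹ * x⁻¹) = z * x⁻¹ by group]
          exact h'
        · exact absurd (hnofix y hyV ((hmv _ _).mp h)) hyB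
        · exact h
      have hb' : (x * y)⁻¹ * z ∈ B := by
        have h' : z * (x * y)⁻¹ ∈ B := by
          rw [← map_mul] at hZ
          exact (hmv _ _).mp hZ
        rwa [hVbc _ (inv_mem (mul_mem hx hyV)) _ hzV]
      have e1 : F * z * F⁻¹ = y * z * ((x * y)⁻¹ * z) := by
        conv_lhs => rw [show z = x * y * ((x * y)⁻¹ * z) by group]
        rw [show F * (x * y * ((x * y)⁻¹ * z)) * F⁻¹ =
          (F * x * F⁻¹) * (F * y * F⁻¹) * (F * ((x * y)⁻¹ * z) * F⁻¹) by group, hBF _ hb', ← hy, ← hz]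
      have e2 : F * z * F⁻¹ = x⁻¹ := by
        rw [e1, hVbc y hyV z hzV, hVbc _ (inv_mem (mul_mem hx hyV)) z hzV,
          show z * y * (z * (x * y)⁻¹) = z * (y * z) * (y⁻¹ * x⁻¹) by group,
          hVbc y hyV z hzV, show z * (z * y) * (y⁻¹ * x⁻¹) = z * z * x⁻¹ by group, hVb2 z hzV, one_mul]
      rw [map_pow, show F ^ 3 * x * (F ^ 3)⁻¹ * x⁻¹ = F * z * F⁻¹ * x⁻¹ by rw [hz, hy, pow_succ, pow_two]; group,
        e2, ← mul_inv_rev, hVb2 x hx, inv_one]
      exact one_mem _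
    · rw [map_pow]; exact (Commute.pow_left (hBmem y hy) 3).eq
  have hfne : f ≠ 1 := hne
  -- the section of type `S₄`
  set Hq := Vb ⊔ zpowers F ⊔ zpowers T with hHq
  have hVH : Vb ≤ Hq := le_sup_left.trans le_sup_left
  have hFH : F ∈ Hq := mem_sup_left (mem_sup_right (mem_zpowers F))
  have hTH : T ∈ Hq := mem_sup_right (mem_zpowers T)
  have hBnorm : Hq ≤ normalizer (B : Set (G ⧸ Φ)) := by
    refine sup_le (sup_le ?_ (zpowers_le.mpr ?_)) (zpowers_le.mpr ?_)
    · intro x hx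
      refine mem_normalizer_fintype ?_
      intro y hy
      rwa [hVbc x hx y hy.1, mul_inv_cancel_right]
    · refine mem_normalizer_fintype ?_
      intro y hy; rwa [hBF y hy]
    · refine mem_normalizer_fintype ?_
      intro y hy
      refine ⟨hVbn.conj_mem y hy.1 T, mem_centralizer_singleton_iff.mpr ?_⟩
      have h1 : y * F⁻¹ = F⁻¹ * y := (Commute.inv_right (show Commute y F from (hBmem y hy).symm)).eq
      have h2 : T * F⁻¹ * T⁻¹ = F := by rw [← inv_inv (T * F⁻¹ * T⁻¹), show (T * F⁻¹ * T⁻¹)⁻¹ = T * F * T⁻¹ by group, hFT, inv_inv]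
      calc T * y * T⁻¹ * F = T * y * T⁻¹ * (T * F⁻¹ * T⁻¹) := by rw [h2]
        _ = T * (y * F⁻¹) * T⁻¹ := by group
        _ = T * (F⁻¹ * y) * T⁻¹ := by rw [h1]
        _ = (T * F⁻¹ * T⁻¹) * (T * y * T⁻¹) := by group
        _ = F * (T * y * T⁻¹) := by rw [h2]
  haveI hBH : (B.subgroupOf Hq).Normal := normal_subgroupOf_of_le_normalizer hBnorm
  let m := QuotientGroup.mk' (B.subgroupOf Hq)
  have hms : Function.Surjective m := QuotientGroup.mk'_surjective _
  let U := (Vb.subgroupOf Hq).map m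
  haveI : U.Normal := (hVbn.subgroupOf Hq).map m hms
  have hU : Nat.card U = 4 := by
    have hr : (m.comp (inclusion hVH)).range = U := by
      ext q
      constructor
      · rintro ⟨x, rfl⟩; exact ⟨inclusion hVH x, x.2, rfl⟩
      · rintro ⟨x, hx, rfl⟩; exact ⟨⟨x, hx⟩, rfl⟩
    rw [← hr, ← index_ker, show (m.comp (inclusion hVH)).ker = B.subgroupOf Vb from by
      ext x; exact QuotientGroup.eq_one_iff (inclusion hVH x)]
    exact hU4
  have m_one : ∀ x : Hq, m x = 1 ↔ (x : G ⧸ Φ) ∈ B := fun x => QuotientGroup.eq_one_iff x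
  obtain ⟨iso⟩ := iso_perm_four U hU (m ⟨F, hFH⟩) (m ⟨T, hTH⟩)
    (by
      haveI : Fact (Nat.Prime 3) := ⟨Nat.prime_three⟩
      refine orderOf_eq_prime ?_ fun h => hfc ?_
      · rw [← map_pow, m_one]
        show F ^ 3 ∈ B
        rw [hF, ← map_pow, hf3, map_one]; exact one_mem _
      · exact hVbc F ((m_one _).mp h).1 c hcVb)
    (by
      rintro _ ⟨x, hx, rfl⟩ hh
      rw [← map_inv, ← map_mul, ← map_mul, ← mul_inv_eq_one, ← map_inv, ← map_mul, m_one] at hh
      exact (m_one x).mpr (hnofix x hx hh))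
    (by
      refine ⟨⟨T * T, mul_mem hTH hTH⟩, ?_, map_mul m _ _ ▸ rfl⟩
      show T * T ∈ Vb
      rw [hT, ← map_mul, ← pow_two]; exact ⟨_, hbp, rfl⟩)
    (by rw [← map_inv, ← map_mul, ← map_mul, ← map_inv]; exact congrArg m (Subtype.ext hFT))
    (by
      have htop : Vb.subgroupOf Hq ⊔ zpowers (⟨F, hFH⟩ : Hq) ⊔ zpowers (⟨T, hTH⟩ : Hq) = ⊤ := by
        refine map_injective Hq.subtype_injective ?_
        rw [Subgroup.map_sup, Subgroup.map_sup, subgroupOf_map_subtype, inf_eq_left.mpr hVH, MonoidHom.map_zpowers,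
          MonoidHom.map_zpowers, ← MonoidHom.range_eq_map, range_subtype]
        rfl
      show (Vb.subgroupOf Hq).map m ⊔ _ ⊔ _ = ⊤
      rw [← MonoidHom.map_zpowers, ← MonoidHom.map_zpowers, ← Subgroup.map_sup, ← Subgroup.map_sup, htop,
        map_top_of_surjective _ hms])
  exact hS4 (involves_of_surjective π hπs ⟨Hq, B, hBH, ⟨iso⟩⟩)

/-- Let G be a finite p-soluble group, P a Sylow p-subgroup of G and A a cyclic normal subgroup of P. If p is odd, or if no section of G is isomorphic to the symmetric group of degree 4, then A ≤ O_{p',p}(G). -/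
theorem result {G : Type*} [Group G] [Finite G] {p : ℕ} [Fact p.Prime] (hG : Cfsg.IsPSolvable p G) (P : Sylow p G) (A : Subgroup G) (hAP : A ≤ (P : Subgroup G)) (hAn : (P : Subgroup G) ≤ Subgroup.normalizer (A : Set G)) (hA : IsCyclic A) (h : p ≠ 2 ∨ ¬ Cfsg.Involves (Equiv.Perm (Fin 4)) G) : A ≤ Cfsg.pPrimePCore p G := by
  haveI := hA
  set N := Cfsg.pPrimeCore p G with hN
  haveI : IsCyclic (A.map (QuotientGroup.mk' N)) :=
    isCyclic_of_surjective ((QuotientGroup.mk' N).subgroupMap A) ((QuotientGroup.mk' N).subgroupMap_surjective A)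
  have hle : A.map (QuotientGroup.mk' N) ≤ Cfsg.pCore p (G ⧸ N) := by
    refine cyclic_le_pCore (BlockHeights.isPSolvable_quot N hG)
      (Cores.pPrimeCore_quotient_pPrimeCore p G) _ ((P.isPGroup'.to_le hAP).map _) ?_ ?_
    · intro x hx
      have hPq : x ∈ (P : Subgroup G).map (QuotientGroup.mk' N) := by
        have := Cores.pCore_le_sylow (P.mapSurjective (QuotientGroup.mk'_surjective N)) hx
        rwa [Sylow.coe_mapSurjective] at this
      obtain ⟨y, hy, rfl⟩ := hPq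
      refine mem_normalizer_fintype ?_
      rintro _ ⟨a, ha, rfl⟩
      exact ⟨y * a * y⁻¹, (Subgroup.mem_normalizer_iff.mp (hAn hy) a).mp ha, by simp⟩
    · exact h.imp id fun hinv hq =>
        hinv (involves_of_surjective (QuotientGroup.mk' N) (QuotientGroup.mk'_surjective N) hq)
  exact Subgroup.map_le_iff_le_comap.mp hle

end Cfsg.Agent.S3788
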