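import Cfsg.Statements.S3789
import Cfsg.Agent.Lib.HallHigman.PLength
import Cfsg.Agent.Lib.HallHigman.DerivedThree
import Cfsg.Agent.Lib.Solvable.Nilpotent

set_option autoImplicit false
open Cfsg

namespace Cfsg.Agent.S3789


open Subgroup Cfsg.Agent.Lib Cfsg.Agent.Lib.HallHigman
open scoped commutatorElement

universe u

theorem conjProd_two {G : Type*} [Group G] (x y v : G) :
    conjProd ![x, y] v = x * v * x⁻¹ * (y * v * y⁻¹) := by
  simp [conjProd, List.ofFn_succ, List.ofFn_zero]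

theorem conjProd_four {G : Type*} [Group G] (x y z w v : G) :
    conjProd ![x, y, z, w] v =
      x * v * x⁻¹ * (y * v * y⁻¹) * (z * v * z⁻¹) * (w * v * w⁻¹) := by
  simp [conjProd, List.ofFn_succ, List.ofFn_zero, mul_assoc]

/-- The second derived term of a Sylow subgroup lies in `O_p(G)`. -/
theorem derived_le_pCore {G : Type u} [Group G] [Finite G] {p : ℕ} [Fact p.Prime] (hp2 : p ≠ 2)
    (hG : Cfsg.IsPSolvable p G) (hcore : Cfsg.pPrimeCore p G = ⊥) (P : Sylow p G) (B : Subgroup G)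
    (hBP : B ≤ P) (hBn : ∀ x ∈ (P : Subgroup G), ∀ b ∈ B, x * b * x⁻¹ ∈ B)
    (hAab : ∀ a ∈ ⁅B, B⁆, ∀ a' ∈ ⁅B, B⁆, a * a' = a' * a) : ⁅B, B⁆ ≤ Cfsg.pCore p G := by
  classical
  set V := Cfsg.pCore p G with hV
  set A := ⁅B, B⁆ with hA
  have hVP : V ≤ P := Cores.pCore_le_sylow P
  have hAB : A ≤ B := Subgroup.commutator_le_self B
  have hAn : ∀ x ∈ (P : Subgroup G), ∀ a ∈ A, x * a * x⁻¹ ∈ A := by
    intro x hx a ha
    have h1 : A.map (MulAut.conj x).toMonoidHom ≤ A := by
      rw [hA, Subgroup.map_commutator]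
      have : B.map (MulAut.conj x).toMonoidHom ≤ B := by rintro _ ⟨b, hb, rfl⟩; exact hBn x hx b hb
      exact Subgroup.commutator_mono this this
    exact h1 ⟨a, ha, rfl⟩
  obtain ⟨d, ρ, hρ, hsum⟩ := exists_action hG hcore
  set π := QuotientGroup.mk' V with hπ
  set Φ := frattiniCore p G with hΦ
  set κ := QuotientGroup.mk' Φ with hκ
  haveI : Group.IsNilpotent V := (Cores.pCore_isPGroup p G).isNilpotent
  have hVc : ∀ u ∈ V, ∀ w ∈ V, κ u * κ w = κ w * κ u := by
    intro u hu w hw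
    rw [← commutatorElement_eq_one_iff_mul_comm, ← map_commutatorElement, hκ, QuotientGroup.mk'_apply,
      QuotientGroup.eq_one_iff]
    exact ⟨_, Cores.commutator_le_frattini
      (commutator_mem_commutator (mem_top (⟨u, hu⟩ : V)) (mem_top ⟨w, hw⟩)), rfl⟩
  letI : CommGroup (V.map κ) := { (inferInstance : Group (V.map κ)) with
    mul_comm := fun u v => by
      obtain ⟨_, u, hu, rfl⟩ := u
      obtain ⟨_, w, hw, rfl⟩ := v
      exact Subtype.ext (hVc u hu w hw) }
  have hVn : ∀ x : G, ∀ v ∈ V, x * v * x⁻¹ ∈ V := fun x v hv => (inferInstance : V.Normal).conj_mem v hv x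
  -- the action of `A` is quadratic
  have hquad : ∀ a ∈ A, ∀ a' ∈ A, (ρ (π a') - 1) * (ρ (π a) - 1) = 0 := by
    intro a ha a' ha'
    have h := hsum ![a' * a, 1] ![a, a'] (fun v hv => by
      let U : G → V.map κ := fun x => ⟨κ (x * v * x⁻¹), _, hVn x v hv, rfl⟩
      have hc : a * v * a⁻¹ * v⁻¹ ∈ A := by
        have := A.mul_mem ha (hAn v (hVP hv) _ (A.inv_mem ha))
        simpa [mul_assoc] using this
      have e : (a' * a) * v * (a' * a)⁻¹ * (a' * v * a'⁻¹)⁻¹ = a * v * a⁻¹ * (1 * v * 1⁻¹)⁻¹ := by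
        calc (a' * a) * v * (a' * a)⁻¹ * (a' * v * a'⁻¹)⁻¹ = a' * (a * v * a⁻¹ * v⁻¹) * a'⁻¹ := by group
          _ = (a * v * a⁻¹ * v⁻¹) * a' * a'⁻¹ := by rw [hAab a' ha' _ hc]
          _ = _ := by group
      have e' : U (a' * a) * (U a')⁻¹ = U a * (U 1)⁻¹ := Subtype.ext (by
        show κ _ * (κ _)⁻¹ = κ _ * (κ _)⁻¹
        rw [← map_inv, ← map_mul, e, map_mul, map_inv])
      have e'' : U (a' * a) * U 1 = U a * U a' := by
        calc U (a' * a) * U 1 = U (a' * a) * (U a')⁻¹ * (U a' * U 1) := by group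
          _ = U a * (U 1)⁻¹ * (U 1 * U a') := by rw [e', mul_comm (U a') (U 1)]
          _ = U a * U a' := by group
      have e3 : κ (conjProd ![a' * a, 1] v) = κ (conjProd ![a, a'] v) := by
        rw [conjProd_two, conjProd_two, map_mul, map_mul]
        exact congrArg Subtype.val e''
      rw [← QuotientGroup.eq_one_iff, ← QuotientGroup.mk'_apply]
      show κ (_ * _⁻¹) = 1
      rw [map_mul, map_inv, e3, mul_inv_cancel])
    simp only [Fin.sum_univ_two, Matrix.cons_val_zero, Matrix.cons_val_one, Matrix.head_cons,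
      QuotientGroup.mk_mul, QuotientGroup.mk_one, map_mul, map_one] at h
    simp only [hπ, QuotientGroup.mk'_apply]
    rw [show (ρ (QuotientGroup.mk a') - 1) * (ρ (QuotientGroup.mk a) - 1) =
      ρ (QuotientGroup.mk a') * ρ (QuotientGroup.mk a) + 1 -
        (ρ (QuotientGroup.mk a) + ρ (QuotientGroup.mk a')) by
      simp only [mul_sub, sub_mul, mul_one, one_mul]; abel, h, sub_self]
  -- `A` is killed by `(b - 1) ^ 2` composed with `a - 1`
  have hcub : ∀ a ∈ A, ∀ b ∈ B, (ρ (π a) - 1) * (ρ (π b) - 1) ^ 2 = 0 := by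
    intro a ha b hb
    have h := hsum ![a * (b * b), a, b, b] ![a * b, a * b, b * b, 1] (fun v hv => by
      let U : G → V.map κ := fun x => ⟨κ (x * v * x⁻¹), _, hVn x v hv, rfl⟩
      set c := b * v * b⁻¹ * v⁻¹ with hc
      have hcB : c ∈ B := by
        have := B.mul_mem hb (hBn v (hVP hv) _ (B.inv_mem hb))
        simpa [hc, mul_assoc] using this
      have hae := hAab a ha ⁅b, c⁆ (Subgroup.commutator_mem_commutator hb hcB)
      have e : (a * (b * b)) * v * (a * (b * b))⁻¹ * ((a * b) * v * (a * b)⁻¹)⁻¹ * (a * v * a⁻¹) *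
          ((a * b) * v * (a * b)⁻¹)⁻¹ =
          (b * b) * v * (b * b)⁻¹ * (b * v * b⁻¹)⁻¹ * (1 * v * 1⁻¹) * (b * v * b⁻¹)⁻¹ := by
        calc _ = a * ⁅b, c⁆ * a⁻¹ := by rw [hc, commutatorElement_def]; group
          _ = ⁅b, c⁆ * a * a⁻¹ := by rw [hae]
          _ = _ := by rw [hc, commutatorElement_def]; group
      have e' : U (a * (b * b)) * (U (a * b))⁻¹ * U a * (U (a * b))⁻¹ =
          U (b * b) * (U b)⁻¹ * U 1 * (U b)⁻¹ := Subtype.ext (by
        show κ _ * (κ _)⁻¹ * κ _ * (κ _)⁻¹ = κ _ * (κ _)⁻¹ * κ _ * (κ _)⁻¹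
        simp only [← map_inv, ← map_mul]
        rw [e])
      have e'' : U (a * (b * b)) * U a * U b * U b = U (a * b) * U (a * b) * U (b * b) * U 1 := by
        calc U (a * (b * b)) * U a * U b * U b
            = (U (a * (b * b)) * (U (a * b))⁻¹ * U a * (U (a * b))⁻¹) *
                (U (a * b) * U (a * b)) * (U b * U b) := by
              rw [mul_right_comm (U (a * (b * b))) ((U (a * b))⁻¹) (U a),
                mul_assoc (U (a * (b * b)) * U a) ((U (a * b))⁻¹) ((U (a * b))⁻¹), ← mul_inv,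
                inv_mul_cancel_right, mul_assoc _ (U b) (U b)]
          _ = (U (b * b) * U 1) * ((U b * U b)⁻¹ * (U b * U b)) * (U (a * b) * U (a * b)) := by
              rw [e', mul_inv]; ac_rfl
          _ = _ := by rw [inv_mul_cancel, mul_one]; ac_rfl
      have e3 : κ (conjProd ![a * (b * b), a, b, b] v) = κ (conjProd ![a * b, a * b, b * b, 1] v) := by
        rw [conjProd_four, conjProd_four]
        simp only [map_mul _ (_ * v * _) (_ * v * _), map_mul _ (_ * (_ * v * _)) (_ * v * _)]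
        exact (by simpa only [Subgroup.coe_mul, U, map_mul] using congrArg Subtype.val e'')
      rw [← QuotientGroup.eq_one_iff, ← QuotientGroup.mk'_apply]
      show κ (_ * _⁻¹) = 1
      rw [map_mul, map_inv, e3, mul_inv_cancel])
    simp only [Fin.sum_univ_four, Matrix.cons_val_zero, Matrix.cons_val_one, Matrix.head_cons, Matrix.cons_val,
      QuotientGroup.mk_mul, QuotientGroup.mk_one, map_mul, map_one] at h
    simp only [hπ, QuotientGroup.mk'_apply]
    generalize ρ (QuotientGroup.mk a) = S at h ⊢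
    generalize ρ (QuotientGroup.mk b) = T at h ⊢
    rw [show (S - 1) * (T - 1) ^ 2 = S * (T * T) + S + T + T - (S * T + S * T + T * T + 1) by
      simp only [pow_two, mul_sub, sub_mul, mul_one, one_mul]; abel,
      h, sub_self]
  by_contra hle
  set Bb := B.map π with hBb
  set Ab := A.map π with hAb
  have hBbp : IsPGroup p Bb := (P.isPGroup'.to_le hBP).map π
  haveI : Group.IsNilpotent Bb := hBbp.isNilpotent
  haveI hnor : (Ab.subgroupOf Bb).Normal := by
    refine ⟨?_⟩
    rintro ⟨x, hx⟩ hmem ⟨g, hg⟩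
    obtain ⟨a, ha, rfl⟩ := (Subgroup.mem_subgroupOf.mp hmem : x ∈ Ab)
    obtain ⟨b, hb, rfl⟩ := hg
    refine Subgroup.mem_subgroupOf.mpr ⟨b * a * b⁻¹, hAn b (hBP hb) a ha, ?_⟩
    simp
  have hne : Ab.subgroupOf Bb ≠ ⊥ := fun e => hle fun a ha => by
    have h1 : (⟨π a, Subgroup.mem_map_of_mem π (hAB ha)⟩ : Bb) ∈ Ab.subgroupOf Bb :=
      Subgroup.mem_subgroupOf.mpr (Subgroup.mem_map_of_mem π ha)
    rw [e, Subgroup.mem_bot] at h1
    exact (QuotientGroup.eq_one_iff a).mp (congrArg Subtype.val h1)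
  obtain ⟨z, hz, hz1⟩ := (Subgroup.bot_or_exists_ne_one _).resolve_left (Solvable.inf_center_ne_bot hne)
  obtain ⟨k, hk⟩ := IsPGroup.iff_orderOf.mp hBbp z
  have hk0 : k ≠ 0 := fun e => hz1 (orderOf_eq_one_iff.mp (by rw [hk, e, pow_zero]))
  set y := z ^ p ^ (k - 1) with hy
  have hyo : orderOf y = p := by
    rw [hy, orderOf_pow, hk]
    have : p ^ k = p ^ (k - 1) * p := by rw [← pow_succ, Nat.sub_add_cancel (Nat.pos_of_ne_zero hk0)]
    rw [this, Nat.gcd_eq_right (dvd_mul_right _ _), Nat.mul_div_cancel_left _ (pow_pos (Fact.out : p.Prime).pos _)]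
  have hy' : y ∈ Ab.subgroupOf Bb ⊓ Subgroup.center Bb := pow_mem hz _
  have hya : (y : G ⧸ V) ∈ Ab := Subgroup.mem_subgroupOf.mp hy'.1
  have hyo' : orderOf (y : G ⧸ V) = p ^ 1 := by rw [pow_one, Subgroup.orderOf_coe, hyo]
  have hn : (ρ (y : G ⧸ V) - 1) ^ 2 = 0 := by
    obtain ⟨a, ha, hay⟩ := hya
    rw [← hay, pow_two]
    exact hquad a ha a ha
  have hsol := BlockHeights.isPSolvable_quot V hG
  have hOp := Cores.pCore_quotient_pCore p G
  rcases theoremB_closed hsol hOp ρ hρ (y : G ⧸ V) one_pos hyo' hn with h | ⟨n₀, q, m, h1, h2, -, -, -, -, h3⟩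
  · have := (Fact.out : p.Prime).two_le
    rw [pow_one] at h
    exact hp2 (by omega)
  have hp3 : p = 3 := by
    have := (Fact.out : p.Prime).two_le
    obtain rfl : n₀ = 1 := by omega
    simp only [pow_one, Nat.sub_self, pow_zero, one_mul] at h3
    omega
  subst hp3
  refine DerivedThree.no_three hsol hOp hρ Bb hBbp (y : G ⧸ V) ?_ (fun b hb => ?_) ?_ ?_ hn ?_
  · have := hya; rw [hAb, hA, Subgroup.map_commutator] at this; exact this
  · exact congrArg Subtype.val (Subgroup.mem_center_iff.mp hy'.2 ⟨b, hb⟩)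
  · have := pow_orderOf_eq_one (y : G ⧸ V); rwa [hyo', pow_one] at this
  · intro e
    rw [e, orderOf_one] at hyo'
    omega
  · rintro _ ⟨b, hb, rfl⟩
    obtain ⟨a, ha, hay⟩ := hya
    rw [← hay]
    exact hcub a ha b hb

theorem derived_bound : ∀ (e : ℕ) {G : Type u} [Group G] [Finite G] {p : ℕ} [Fact p.Prime],
    p ≠ 2 → Cfsg.IsPSolvable p G →
    (∀ P : Sylow p G, derivedSeries ↥(P : Subgroup G) e = ⊥) → Cfsg.PLengthLE p e G := by
  intro e
  induction e with
  | zero =>
    intro G _ _ p hp _ _ hder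
    refine PLength.of_coprime ?_ 0
    obtain ⟨P⟩ : Nonempty (Sylow p G) := inferInstance
    have h0 := hder P
    rw [derivedSeries_zero] at h0
    have : (P : Subgroup G) = ⊥ := (eq_bot_iff_forall _).mpr fun x hx =>
      congrArg Subtype.val ((eq_bot_iff_forall _).mp h0 ⟨x, hx⟩ (mem_top _))
    have h1 : ¬ p ∣ (P : Subgroup G).index := P.not_dvd_index
    rw [this, index_bot] at h1
    exact (hp.out.coprime_iff_not_dvd.mpr h1).symm
  | succ e ih =>
    intro G _ _ p hp hp2 hG hder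
    have himage : ∀ {H : Type u} [Group H] [Finite H] (N : Subgroup H) [N.Normal] (n : ℕ),
        (∀ P : Sylow p H, (derivedSeries ↥(P : Subgroup H) n).map (P : Subgroup H).subtype ≤ N) →
        ∀ P : Sylow p (H ⧸ N), derivedSeries ↥(P : Subgroup (H ⧸ N)) n = ⊥ := by
      intro H _ _ N _ n h P'
      obtain ⟨P, rfl⟩ := Sylow.mapSurjective_surjective (QuotientGroup.mk'_surjective N) p P'
      rw [Sylow.coe_mapSurjective, ← map_derivedSeries_eq
        ((QuotientGroup.mk' N).subgroupMap_surjective (P : Subgroup H)), Subgroup.map_eq_bot_iff]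
      intro x hx
      rw [MonoidHom.mem_ker]
      exact Subtype.ext ((QuotientGroup.eq_one_iff _).mpr (h P ⟨x, hx, rfl⟩))
    suffices hred : ∀ {H : Type u} [Group H] [Finite H], Cfsg.IsPSolvable p H →
        (∀ P : Sylow p H, derivedSeries ↥(P : Subgroup H) (e + 1) = ⊥) →
        Cfsg.pPrimeCore p H = ⊥ → Cfsg.PLengthLE p (e + 1) H by
      refine PLength.of_quotient_coprime (Cfsg.pPrimeCore p G) (Cores.pPrimeCore_coprime p G)
        (hred (BlockHeights.isPSolvable_quot _ hG)
          (himage (Cfsg.pPrimeCore p G) (e + 1) fun P => by rw [hder P, Subgroup.map_bot]; exact bot_le)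
          (Cores.pPrimeCore_quotient_pPrimeCore p G))
    clear hG hder
    intro G _ _ hG hder hcore
    refine PLength.of_quotient_isPGroup (Cfsg.pCore p G) (Cores.pCore_isPGroup p G)
      (ih hp2 (BlockHeights.isPSolvable_quot _ hG) (himage (Cfsg.pCore p G) e fun P => ?_))
    have h0 := hder P
    rw [derivedSeries_succ] at h0
    have hab : ∀ a ∈ (derivedSeries ↥(P : Subgroup G) e).map (P : Subgroup G).subtype,
        ∀ a' ∈ (derivedSeries ↥(P : Subgroup G) e).map (P : Subgroup G).subtype, a * a' = a' * a := by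
      rintro _ ⟨a, ha, rfl⟩ _ ⟨a', ha', rfl⟩
      rw [← map_mul, ← map_mul]
      exact congrArg _ (commutatorElement_eq_one_iff_mul_comm.mp
        ((eq_bot_iff_forall _).mp h0 _ (commutator_mem_commutator ha ha')))
    cases e with
    | zero =>
      intro x hx
      refine Blocks.centralizer_pCore_le_of_isPSolvable p hG hcore
        (Subgroup.mem_centralizer_iff.mpr fun v hv => ?_)
      exact hab v ⟨⟨v, Cores.pCore_le_sylow P hv⟩, by rw [derivedSeries_zero]; exact mem_top _, rfl⟩ x hx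
    | succ n =>
      rw [derivedSeries_succ, Subgroup.map_commutator] at hab ⊢
      refine derived_le_pCore hp2 hG hcore P _ (Subgroup.map_subtype_le _) ?_ hab
      rintro x hx _ ⟨b, hb, rfl⟩
      exact ⟨_, (derivedSeries_normal _ n).conj_mem b hb ⟨x, hx⟩, rfl⟩


/-- Let p be an odd prime and G a finite p-soluble group whose Sylow p-subgroups have derived length at most d. Then G has p-length at most d. -/
theorem result {G : Type*} [Group G] [Finite G] {p : ℕ} [Fact p.Prime] (hp : p ≠ 2) (hG : Cfsg.IsPSolvable p G) (d : ℕ) (hd : ∀ P : Sylow p G, derivedSeries ↥(P : Subgroup G) d = ⊥) : Cfsg.PLengthLE p d G := by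
  exact derived_bound d hp hG hd

end Cfsg.Agent.S3789
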