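import Cfsg.Statements.S3790
import Cfsg.Agent.Lib.PLength.Basic
import Cfsg.Agent.Lib.Coprime.Hall

set_option autoImplicit false
open Cfsg

namespace Cfsg.Agent.S3790

open Cfsg.Agent.Lib

universe u

theorem pCore_ne_bot {H : Type u} [Group H] [Finite H] [Nontrivial H] (hs : Group.IsSolvable H) {q : ℕ}
    [hq : Fact q.Prime] (h : Cfsg.pPrimeCore q H = ⊥) : Cfsg.pCore q H ≠ ⊥ := by
  have := hs
  obtain ⟨s, M, hs', hMn, hM1, -, hMp, -⟩ := Coprime.exists_normal_isPGroup_isMulCommutative H
  have := Fact.mk hs'
  obtain ⟨k, hk⟩ := hMp.exists_card_eq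
  by_cases hsq : s = q
  · subst hsq
    exact fun hb => hM1 (le_bot_iff.mp (hb ▸ Cores.le_pCore hMn hMp))
  · refine absurd (le_bot_iff.mp (h ▸ Cores.le_pPrimeCore hMn ?_)) hM1
    rw [hk]
    exact Nat.Coprime.pow_left k ((Nat.coprime_primes hs' hq.out).mpr hsq)

theorem pLengthLE_finset {H : Type u} [Group H] [Finite H] {p : ℕ} [Fact p.Prime] {ι : Type} [DecidableEq ι]
    (M : ι → Subgroup H) (hM : ∀ i, (M i).Normal) {k : ℕ}
    (h : ∀ i, haveI := hM i; Cfsg.PLengthLE p k (H ⧸ M i)) (s : Finset ι) :
    ∃ (R : Subgroup H) (_ : R.Normal), (∀ x, x ∈ R ↔ ∀ i ∈ s, x ∈ M i) ∧ Cfsg.PLengthLE p k (H ⧸ R) := by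
  induction s using Finset.induction_on with
  | empty =>
    refine ⟨⊤, inferInstance, fun x => by simp, PLength.of_coprime ?_ k⟩
    rw [← Subgroup.index_eq_card, Subgroup.index_top]
    exact Nat.coprime_one_left p
  | @insert a s _ ih =>
    obtain ⟨R, hR, hmem, hlen⟩ := ih
    have := hM a
    have hT : (M a ⊓ R).Normal := Subgroup.normal_inf_normal _ _
    refine ⟨M a ⊓ R, hT, fun x => by simp [Subgroup.mem_inf, hmem], ?_⟩
    set f := QuotientGroup.mk' (M a ⊓ R)
    have hfs : Function.Surjective f := QuotientGroup.mk'_surjective _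
    have h1 : ((M a).map f).Normal := (hM a).map f hfs
    have h2 : (R.map f).Normal := hR.map f hfs
    refine PLength.of_inf_eq_bot ((M a).map f) (R.map f) ?_ ?_ ?_
    · rw [Subgroup.eq_bot_iff_forall]
      rintro z hz
      obtain ⟨⟨x, hx, rfl⟩, y, hy, hyx⟩ := Subgroup.mem_inf.mp hz
      have : x ∈ R := by
        have := (Subgroup.mem_inf.mp (QuotientGroup.eq.mp hyx)).2
        simpa using mul_mem hy this
      exact (QuotientGroup.eq_one_iff x).mpr (Subgroup.mem_inf.mpr ⟨hx, this⟩)
    · exact PLength.of_surjective (QuotientGroup.quotientQuotientEquivQuotient _ _ inf_le_left).symm.toMonoidHom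
        (MulEquiv.surjective _) (h a)
    · exact PLength.of_surjective (QuotientGroup.quotientQuotientEquivQuotient _ _ inf_le_right).symm.toMonoidHom
        (MulEquiv.surjective _) hlen

theorem main {p : ℕ} [hp : Fact p.Prime] {r : ℕ} (q : Fin r → ℕ) (hq : ∀ i, (q i).Prime ∧ q i ≠ p) :
    ∀ (n : ℕ) (H : Type u) [Group H] [Finite H] (l : Fin r → ℕ), Nat.card H = n → Group.IsSolvable H →
      (∀ s : ℕ, s.Prime → s ∣ Nat.card H → s ≠ p → ∃ i, q i = s) →
      (∀ i, Cfsg.PLengthLE (q i) (l i) H) →
      Cfsg.PLengthLE p (Finset.univ.prod fun i => 1 + l i) H := by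
  classical
  intro n
  induction n using Nat.strong_induction_on with
  | _ n ih =>
    intro H _ _ l hn hs hcover hl
    -- when `O_p = 1` one can do better by one
    have hB : ∀ (K : Type u) [Group K] [Finite K] (f : H →* K), Function.Surjective f →
        Cfsg.pCore p K = ⊥ → Cfsg.PLengthLE p ((Finset.univ.prod fun i => 1 + l i) - 1) K := by
      intro K _ _ f hf hK
      have hKs : Group.IsSolvable K := Group.isSolvable_of_surjective hf
      have hKd : Nat.card K ∣ n := hn ▸ Subgroup.card_dvd_of_surjective f hf
      have hM : ∀ i, (Cfsg.pPrimeCore (q i) K).Normal := fun i => inferInstance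
      have key : ∀ i, Cfsg.PLengthLE p ((Finset.univ.prod fun i => 1 + l i) - 1)
          (K ⧸ Cfsg.pPrimeCore (q i) K) := by
        intro i
        have := Fact.mk (hq i).1
        set g := (QuotientGroup.mk' (Cfsg.pPrimeCore (q i) K)).comp f
        have hg : Function.Surjective g := (QuotientGroup.mk'_surjective _).comp hf
        have hcore : Cfsg.pPrimeCore (q i) (K ⧸ Cfsg.pPrimeCore (q i) K) = ⊥ :=
          Cores.pPrimeCore_quotient_pPrimeCore (q i) K
        have hli := PLength.of_surjective g hg (hl i)
        rcases subsingleton_or_nontrivial (K ⧸ Cfsg.pPrimeCore (q i) K) with hsub | hnt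
        · exact PLength.of_coprime (by rw [Nat.card_unique]; exact Nat.coprime_one_left p) _
        have hpos : l i ≠ 0 := by
          intro h0
          rw [h0] at hli
          have h1 := (Cores.pPrimeCore_eq_top_iff (p := q i)).mpr (PLength.coprime_of_pLengthLE_zero hli)
          rw [hcore] at h1
          exact bot_ne_top h1
        obtain ⟨m, hm⟩ := Nat.exists_eq_succ_of_ne_zero hpos
        rw [hm] at hli
        have hql := PLength.quotient_pCore hcore hli
        set Qi := K ⧸ Cfsg.pPrimeCore (q i) K
        have hQs : Group.IsSolvable Qi := Group.isSolvable_of_surjective hg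
        have hne := pCore_ne_bot hQs hcore
        have : (Cfsg.pCore (q i) Qi).Normal := Cfsg.pCore_normal (q i) Qi
        set g2 := (QuotientGroup.mk' (Cfsg.pCore (q i) Qi)).comp g
        have hg2 : Function.Surjective g2 := (QuotientGroup.mk'_surjective _).comp hg
        have hlt : Nat.card (Qi ⧸ Cfsg.pCore (q i) Qi) < n := by
          have h1 : Nat.card Qi ≤ n := hn ▸ Nat.card_le_card_of_surjective g hg
          refine lt_of_lt_of_le ?_ h1
          rw [Subgroup.card_eq_card_quotient_mul_card_subgroup (Cfsg.pCore (q i) Qi)]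
          exact lt_mul_of_one_lt_right Nat.card_pos ((Subgroup.one_lt_card_iff_ne_bot _).mpr hne)
        have hA := ih _ hlt (Qi ⧸ Cfsg.pCore (q i) Qi) (Function.update l i m) rfl
          (Group.isSolvable_of_surjective hg2)
          (fun s hs' hd hsp => hcover s hs' (hd.trans (Subgroup.card_dvd_of_surjective g2 hg2)) hsp)
          (fun j => by
            by_cases hji : j = i
            · subst hji; rw [Function.update_self]; exact hql
            · rw [Function.update_of_ne hji]
              have := Fact.mk (hq j).1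
              exact PLength.of_surjective g2 hg2 (hl j))
        refine PLength.mono (PLength.of_quotient_coprime _ ?_ hA) ?_
        · obtain ⟨k, hk⟩ := (Cores.pCore_isPGroup (q i) Qi).exists_card_eq
          rw [hk]
          exact Nat.Coprime.pow_left k ((Nat.coprime_primes (hq i).1 hp.out).mpr (hq i).2)
        · rw [← Finset.mul_prod_erase Finset.univ (fun j => 1 + l j) (Finset.mem_univ i),
            ← Finset.mul_prod_erase Finset.univ (fun j => 1 + Function.update l i m j) (Finset.mem_univ i),
            Function.update_self, hm]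
          have h1 : ∏ j ∈ Finset.univ.erase i, (1 + Function.update l i m j) =
              ∏ j ∈ Finset.univ.erase i, (1 + l j) :=
            Finset.prod_congr rfl fun j hj => by rw [Function.update_of_ne (Finset.ne_of_mem_erase hj)]
          rw [h1]
          have h2 : 1 ≤ ∏ j ∈ Finset.univ.erase i, (1 + l j) := Finset.one_le_prod' fun j _ => by omega
          refine Nat.le_sub_one_of_lt ?_
          exact Nat.mul_lt_mul_of_pos_right (by omega) (by omega)
      obtain ⟨R, hR, hmem, hlen⟩ := pLengthLE_finset _ hM key Finset.univ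
      have hR1 : R = ⊥ := by
        refine le_bot_iff.mp (hK ▸ Cores.le_pCore hR fun x => ?_)
        by_cases hx1 : x = 1
        · exact ⟨0, by rw [hx1]; simp⟩
        refine ⟨(orderOf x).primeFactorsList.length, ?_⟩
        rw [← orderOf_dvd_iff_pow_eq_one]
        refine dvd_of_eq (Nat.eq_prime_pow_of_unique_prime_dvd (orderOf_pos x).ne' fun {s} hs' hd => ?_)
        by_contra hsp
        obtain ⟨i, rfl⟩ := hcover s hs' ((hd.trans (orderOf_dvd_natCard x)).trans
          ((Subgroup.card_subgroup_dvd_card R).trans (hKd.trans (dvd_of_eq hn.symm)))) hsp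
        have := Fact.mk hs'
        have h3 : orderOf x ∣ Nat.card (Cfsg.pPrimeCore (q i) K) := by
          rw [← Subgroup.orderOf_coe]
          exact Subgroup.orderOf_dvd_natCard _ ((hmem x).mp x.2 i (Finset.mem_univ i))
        exact Cores.not_dvd_card_pPrimeCore (hd.trans h3)
      subst hR1
      exact PLength.of_surjective (QuotientGroup.quotientBot (G := K)).toMonoidHom (MulEquiv.surjective _) hlen
    have hN : (Cfsg.pCore p H).Normal := Cfsg.pCore_normal p H
    have h1 := PLength.of_quotient_isPGroup (Cfsg.pCore p H) (Cores.pCore_isPGroup p H)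
      (hB _ (QuotientGroup.mk' _) (QuotientGroup.mk'_surjective _) (Cores.pCore_quotient_pCore p H))
    have h2 : 1 ≤ Finset.univ.prod fun i => 1 + l i := Finset.one_le_prod' fun j _ => by omega
    rwa [Nat.sub_add_cancel h2] at h1

/-- Let G be a finite solvable group and p a prime. Suppose p₁, …, p_r are distinct primes, all different from p, that include every prime dividing the order of G other than p, and that G has p_i-length at most l_i for each i. Then G has p-length at most the product of the numbers 1 + l_i. -/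
theorem result {G : Type*} [Group G] [Finite G] (hG : Group.IsSolvable G) (p : ℕ) [Fact p.Prime] (r : ℕ) (q : Fin r → ℕ) (hq : ∀ i, (q i).Prime ∧ q i ≠ p) (hinj : Function.Injective q) (hcover : ∀ s : ℕ, s.Prime → s ∣ Nat.card G → s ≠ p → ∃ i, q i = s) (l : Fin r → ℕ) (hl : ∀ i, Cfsg.PLengthLE (q i) (l i) G) : Cfsg.PLengthLE p (Finset.univ.prod fun i => 1 + l i) G := by
  exact main q hq _ G l rfl hG hcover hl

end Cfsg.Agent.S3790
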