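import Cfsg.Statements.S3791
import Cfsg.Agent.Lib.PLength.Basic
import Cfsg.Agent.Lib.Coprime.Hall
import Cfsg.Agent.S3790

set_option autoImplicit false
open Cfsg

namespace Cfsg.Agent.S3791

open Cfsg.Agent.Lib

universe u

theorem derivedSeries_add_le {H : Type u} [Group H] (N : Subgroup H) {a : ℕ} (h : derivedSeries H a ≤ N) :
    ∀ b : ℕ, derivedSeries H (a + b) ≤ (derivedSeries N b).map N.subtype
  | 0 => by
    rw [derivedSeries_zero, ← MonoidHom.range_eq_map, Subgroup.range_subtype]
    exact h
  | b + 1 => by
    show derivedSeries H (a + b + 1) ≤ _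
    rw [derivedSeries_succ, derivedSeries_succ, Subgroup.map_commutator]
    exact Subgroup.commutator_mono (derivedSeries_add_le N h b) (derivedSeries_add_le N h b)

theorem main {r : ℕ} (q : Fin r → ℕ) (hq : ∀ i, (q i).Prime) (d : Fin r → ℕ) :
    ∀ (n : ℕ) (H : Type u) [Group H] [Finite H] (l : Fin r → ℕ), Nat.card H = n → Group.IsSolvable H →
      (∀ s : ℕ, s.Prime → s ∣ Nat.card H → ∃ i, q i = s) →
      (∀ i, ∀ S : Sylow (q i) H, derivedSeries ↥(S : Subgroup H) (d i) = ⊥) →
      (∀ i, Cfsg.PLengthLE (q i) (l i) H) →
      derivedSeries H (Finset.univ.sum fun i => d i * l i) = ⊥ := by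
  classical
  intro n
  induction n using Nat.strong_induction_on with
  | _ n ih =>
    intro H _ _ l hn hs hcover hd hl
    set D := Finset.univ.sum fun i => d i * l i with hD
    have key : ∀ i, derivedSeries H D ≤ Cfsg.pPrimeCore (q i) H := by
      intro i
      have := Fact.mk (hq i)
      set g := QuotientGroup.mk' (Cfsg.pPrimeCore (q i) H)
      have hg : Function.Surjective g := QuotientGroup.mk'_surjective _
      suffices derivedSeries (H ⧸ Cfsg.pPrimeCore (q i) H) D = ⊥ by
        rw [← map_derivedSeries_eq hg, Subgroup.map_eq_bot_iff, QuotientGroup.ker_mk'] at this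
        exact this
      have hcore : Cfsg.pPrimeCore (q i) (H ⧸ Cfsg.pPrimeCore (q i) H) = ⊥ :=
        Cores.pPrimeCore_quotient_pPrimeCore (q i) H
      have hli := PLength.of_surjective g hg (hl i)
      rcases subsingleton_or_nontrivial (H ⧸ Cfsg.pPrimeCore (q i) H) with hsub | hnt
      · exact Subsingleton.elim _ _
      have hpos : l i ≠ 0 := by
        intro h0
        rw [h0] at hli
        have h1 := (Cores.pPrimeCore_eq_top_iff (p := q i)).mpr (PLength.coprime_of_pLengthLE_zero hli)
        rw [hcore] at h1
        exact bot_ne_top h1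
      obtain ⟨m, hm⟩ := Nat.exists_eq_succ_of_ne_zero hpos
      rw [hm] at hli
      have hql := PLength.quotient_pCore hcore hli
      set Qi := H ⧸ Cfsg.pPrimeCore (q i) H
      have hQs : Group.IsSolvable Qi := Group.isSolvable_of_surjective hg
      have hne := Cfsg.Agent.S3790.pCore_ne_bot hQs hcore
      have : (Cfsg.pCore (q i) Qi).Normal := Cfsg.pCore_normal (q i) Qi
      set g2 := (QuotientGroup.mk' (Cfsg.pCore (q i) Qi)).comp g
      have hg2 : Function.Surjective g2 := (QuotientGroup.mk'_surjective _).comp hg
      have hlt : Nat.card (Qi ⧸ Cfsg.pCore (q i) Qi) < n := by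
        have h1 : Nat.card Qi ≤ n := hn ▸ Nat.card_le_card_of_surjective g hg
        refine lt_of_lt_of_le ?_ h1
        rw [Subgroup.card_eq_card_quotient_mul_card_subgroup (Cfsg.pCore (q i) Qi)]
        exact lt_mul_of_one_lt_right Nat.card_pos ((Subgroup.one_lt_card_iff_ne_bot _).mpr hne)
      have hdi : ∀ (K : Type u) [Group K] [Finite K] (f : H →* K), Function.Surjective f →
          ∀ j, ∀ S : Sylow (q j) K, derivedSeries ↥(S : Subgroup K) (d j) = ⊥ := by
        intro K _ _ f hf j S
        have := Fact.mk (hq j)
        obtain ⟨T, rfl⟩ := Sylow.mapSurjective_surjective hf (q j) S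
        show derivedSeries ↥((T : Subgroup H).map f) (d j) = ⊥
        rw [← map_derivedSeries_eq (f.subgroupMap_surjective (T : Subgroup H)), hd j T, Subgroup.map_bot]
      have hA := ih _ hlt (Qi ⧸ Cfsg.pCore (q i) Qi) (Function.update l i m) rfl
        (Group.isSolvable_of_surjective hg2)
        (fun s hs' hds => hcover s hs' (hds.trans (Subgroup.card_dvd_of_surjective g2 hg2)))
        (hdi _ g2 hg2)
        (fun j => by
          by_cases hji : j = i
          · subst hji; rw [Function.update_self]; exact hql
          · rw [Function.update_of_ne hji]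
            have := Fact.mk (hq j)
            exact PLength.of_surjective g2 hg2 (hl j))
      set a := Finset.univ.sum fun j => d j * Function.update l i m j
      have hsum : D = a + d i := by
        rw [hD, ← Finset.add_sum_erase Finset.univ (fun j => d j * l j) (Finset.mem_univ i),
          show a = _ from (Finset.add_sum_erase Finset.univ (fun j => d j * Function.update l i m j)
            (Finset.mem_univ i)).symm,
          Function.update_self, hm,
          Finset.sum_congr rfl (fun j hj => by rw [Function.update_of_ne (Finset.ne_of_mem_erase hj)] :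
            ∀ j ∈ Finset.univ.erase i, d j * Function.update l i m j = d j * l j)]
        simp only [Nat.mul_succ]
        omega
      have ha : derivedSeries Qi a ≤ Cfsg.pCore (q i) Qi := by
        rw [← map_derivedSeries_eq (QuotientGroup.mk'_surjective (Cfsg.pCore (q i) Qi)),
          Subgroup.map_eq_bot_iff, QuotientGroup.ker_mk'] at hA
        exact hA
      obtain ⟨S, hS⟩ := (Cores.pCore_isPGroup (q i) Qi).exists_le_sylow
      have hbot : derivedSeries ↥(Cfsg.pCore (q i) Qi) (d i) = ⊥ := by
        rw [← Subgroup.map_eq_bot_iff_of_injective _ (Subgroup.inclusion_injective hS), ← le_bot_iff,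
          ← hdi Qi g hg i S]
        exact map_derivedSeries_le_derivedSeries _ _
      rw [hsum, ← le_bot_iff]
      refine (derivedSeries_add_le _ ha (d i)).trans ?_
      rw [hbot, Subgroup.map_bot]
    rw [← Subgroup.card_eq_one]
    by_contra hne
    obtain ⟨s, hsp, hsd⟩ := Nat.exists_prime_and_dvd hne
    obtain ⟨i, rfl⟩ := hcover s hsp (hsd.trans (Subgroup.card_subgroup_dvd_card _))
    have := Fact.mk hsp
    exact Cores.not_dvd_card_pPrimeCore (hsd.trans (Subgroup.card_dvd_of_le (key i)))

/-- The Hall–Higman bound on derived length: let G be a finite solvable group, let p₁, …, p_r be distinct primes that include every prime dividing the order of G, and suppose that for each i the Sylow p_i-subgroups of G have derived length at most d_i and G has p_i-length at most l_i. Then G has derived length at most Σ d_i l_i. -/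
theorem result {G : Type*} [Group G] [Finite G] (hG : Group.IsSolvable G) (r : ℕ) (q : Fin r → ℕ) (hq : ∀ i, (q i).Prime) (hinj : Function.Injective q) (hcover : ∀ s : ℕ, s.Prime → s ∣ Nat.card G → ∃ i, q i = s) (d l : Fin r → ℕ) (hd : ∀ i, ∀ P : Subgroup G, (haveI := Fact.mk (hq i); ∃ S : Sylow (q i) G, (S : Subgroup G) = P) → derivedSeries ↥P (d i) = ⊥) (hl : ∀ i, Cfsg.PLengthLE (q i) (l i) G) : derivedSeries G (Finset.univ.sum fun i => d i * l i) = ⊥ := by
  exact main q hq d _ G l rfl hG hcover (fun i S => hd i (S : Subgroup G) ⟨S, rfl⟩) hl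

end Cfsg.Agent.S3791
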