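import Cfsg.Statements.S3796
import Cfsg.Agent.Lib.Solvable.FPF.Ward

set_option autoImplicit false
open Cfsg

namespace Cfsg.Agent.S3796

/-- Ward's Theorem: let G be a finite solvable group and A an elementary abelian group of automorphisms of G of order p² (p a prime) with no non-identity common fixed point. Then G has Fitting height at most 2: G has Fitting height at most m when there is a chain of normal subgroups 1 = F₀ ≤ F₁ ≤ ⋯ ≤ F_m = G with each F_{i+1}/F_i nilpotent. -/
theorem result {G : Type*} [Group G] [Finite G] (hG : Group.IsSolvable G) {p : ℕ} (hp : p.Prime) (A : Subgroup (MulAut G)) (hA : Cfsg.IsElementaryAbelian p A) (hcard : Nat.card A = p ^ 2) (hfpf : ∀ g : G, (∀ a ∈ A, a g = g) → g = 1) : ∃ F : Fin (2 + 1) → Subgroup G, F 0 = ⊥ ∧ F (Fin.last 2) = ⊤ ∧ Monotone F ∧ (∀ i, (F i).Normal) ∧ ∀ i : Fin 2, ∃ k : ℕ, (F i.succ).lowerCentralSeries k ≤ F i.castSucc := by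
  haveI := Cfsg.Agent.Lib.Cores.fittingSubgroup_normal G
  have hw := Cfsg.Agent.Lib.Solvable.FPF.ward (A := A) A.subtype hp hG hA.1 hcard
    (fun a => Subtype.ext (hA.2 a a.2)) (fun g hg => hfpf g fun a ha => hg ⟨a, ha⟩)
  refine ⟨![⊥, Cfsg.fittingSubgroup G, ⊤], rfl, rfl, ?_, ?_, ?_⟩
  · refine Fin.monotone_iff_le_succ.mpr fun i => ?_
    fin_cases i
    · exact bot_le
    · exact le_top
  · intro i
    fin_cases i
    · exact Subgroup.normal_bot
    · exact Cfsg.Agent.Lib.Cores.fittingSubgroup_normal G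
    · exact inferInstanceAs (⊤ : Subgroup G).Normal
  · intro i
    fin_cases i
    · haveI := Cfsg.Agent.Lib.Cores.fittingSubgroup_isNilpotent G
      obtain ⟨k, hk⟩ := Subgroup.nilpotent_iff_lowerCentralSeries.mp
        (Cfsg.Agent.Lib.Cores.fittingSubgroup_isNilpotent G)
      refine ⟨k, ?_⟩
      have h1 := Subgroup.map_lowerCentralSeries (S := (⊤ : Subgroup (Cfsg.fittingSubgroup G)))
        (Cfsg.fittingSubgroup G).subtype k
      rw [hk, Subgroup.map_bot, ← MonoidHom.range_eq_map, Subgroup.range_subtype] at h1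
      exact h1.ge
    · obtain ⟨k, hk⟩ := Subgroup.nilpotent_iff_lowerCentralSeries.mp hw
      refine ⟨k, ?_⟩
      show (⊤ : Subgroup G).lowerCentralSeries k ≤ Cfsg.fittingSubgroup G
      rw [← QuotientGroup.ker_mk' (Cfsg.fittingSubgroup G), ← Subgroup.map_eq_bot_iff,
        Subgroup.map_lowerCentralSeries,
        Subgroup.map_top_of_surjective _ (QuotientGroup.mk'_surjective _)]
      exact hk

end Cfsg.Agent.S3796
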