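import Cfsg.Statements.S3797
import Cfsg.Agent.Lib.OneClassInvolutions.Main
import Mathlib.GroupTheory.FiniteAbelian.Basic

set_option autoImplicit false
open Cfsg

namespace Cfsg.Agent.S3797

open Subgroup in
theorem homocyclic {S : Type*} [CommGroup S] [Finite S] (hS : IsPGroup 2 S)
    (htrans : ∀ x y : S, x ≠ 1 → x ^ 2 = 1 → y ≠ 1 → y ^ 2 = 1 → ∃ a : MulAut S, a x = y) :
    ∃ m r : ℕ, Nonempty (S ≃* (Fin r → Multiplicative (ZMod (2 ^ m)))) := by
  classical
  obtain ⟨ι, hι, n, hn, ⟨e⟩⟩ := CommGroup.equiv_prod_multiplicative_zmod_of_finite S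
  have hpow : ∀ i, ∃ k, n i = 2 ^ k := by
    intro i
    obtain ⟨k, hk⟩ := hS (e.symm (Pi.mulSingle i (Multiplicative.ofAdd 1)))
    rw [← map_pow, MulEquiv.map_eq_one_iff] at hk
    have h1 := congrFun hk i
    rw [Pi.pow_apply, Pi.mulSingle_eq_same, ← ofAdd_nsmul, Pi.one_apply, ofAdd_eq_one,
      nsmul_one] at h1
    obtain ⟨j, -, hj⟩ := (Nat.dvd_prime_pow Nat.prime_two).mp ((ZMod.natCast_eq_zero_iff _ _).mp h1)
    exact ⟨j, hj⟩
  choose k hk using hpow
  let inv : ∀ i, S := fun i => e.symm (Pi.mulSingle i (Multiplicative.ofAdd ((2 ^ (k i - 1) : ℕ) : ZMod (n i))))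
  have hk1 : ∀ i, 1 ≤ k i := by
    intro i
    have := hn i
    rw [hk i] at this
    by_contra h
    rw [show k i = 0 by omega] at this
    simp at this
  have hinv : ∀ i, inv i ≠ 1 ∧ inv i ^ 2 = 1 := by
    intro i
    constructor
    · intro h
      rw [MulEquiv.map_eq_one_iff, Pi.mulSingle_eq_one_iff, ofAdd_eq_one,
        ZMod.natCast_eq_zero_iff, hk i] at h
      have := Nat.le_of_dvd (by positivity) h
      have := (Nat.pow_le_pow_iff_right (by omega : 1 < 2)).mp this
      have := hk1 i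
      omega
    · show e.symm _ ^ 2 = 1
      rw [← map_pow, ← Pi.mulSingle_pow, ← ofAdd_nsmul, MulEquiv.map_eq_one_iff, Pi.mulSingle_eq_one_iff,
        ofAdd_eq_one, nsmul_eq_mul, ← Nat.cast_mul, ZMod.natCast_eq_zero_iff, hk i, ← pow_succ',
        Nat.sub_add_cancel (hk1 i)]
  have hle : ∀ i j, k j ≤ k i := by
    intro i j
    by_contra! hlt
    obtain ⟨a, ha⟩ := htrans (inv j) (inv i) (hinv j).1 (hinv j).2 (hinv i).1 (hinv i).2
    have h1 : inv j = e.symm (Pi.mulSingle j (Multiplicative.ofAdd 1)) ^ 2 ^ (k j - 1) := by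
      rw [← map_pow, ← Pi.mulSingle_pow, ← ofAdd_nsmul, nsmul_one]
    rw [h1, map_pow] at ha
    have h2 := congrFun (congrArg e ha) i
    rw [map_pow, Pi.pow_apply] at h2
    have h3 : (e (a (e.symm (Pi.mulSingle j (Multiplicative.ofAdd 1)))) i) ^ 2 ^ (k j - 1) = 1 := by
      refine orderOf_dvd_iff_pow_eq_one.mp ((_root_.orderOf_dvd_natCard _).trans ?_)
      rw [Nat.card_congr Multiplicative.toAdd, Nat.card_zmod, hk i]
      exact pow_dvd_pow 2 (by omega)
    rw [h3] at h2
    apply (hinv i).1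
    rw [show inv i = e.symm _ from rfl, MulEquiv.map_eq_one_iff, Pi.mulSingle_eq_one_iff]
    have h4 : e (inv i) i = 1 := h2.symm
    rwa [show e (inv i) = _ from e.apply_symm_apply _, Pi.mulSingle_eq_same] at h4
  rcases isEmpty_or_nonempty ι with hι0 | ⟨⟨i0⟩⟩
  · have e0 : Fin 0 ≃ ι := Equiv.equivOfIsEmpty _ _
    exact ⟨1, 0, ⟨e.trans
      { toFun := fun _ i => i.elim0
        invFun := fun _ i => (hι0.false i).elim
        left_inv := fun f => funext fun i => (hι0.false i).elim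
        right_inv := fun f => funext fun i => i.elim0
        map_mul' := fun _ _ => funext fun i => i.elim0 }⟩⟩
  · have heq : ∀ i, n i = 2 ^ k i0 := fun i => by rw [hk i, le_antisymm (hle i0 i) (hle i i0)]
    let e1 : (∀ i, Multiplicative (ZMod (n i))) ≃* (ι → Multiplicative (ZMod (2 ^ k i0))) :=
      MulEquiv.piCongrRight fun i => AddEquiv.toMultiplicative (ZMod.ringEquivCongr (heq i)).toAddEquiv
    exact ⟨k i0, Fintype.card ι, ⟨(e.trans e1).trans
      (MulEquiv.arrowCongr (Fintype.equivFin ι) (MulEquiv.refl _))⟩⟩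

open Subgroup in
theorem exists_lift {G : Type*} [Group G] [Finite G] {K : Subgroup G} [K.Normal] (hK : Odd (Nat.card K))
    {u : G ⧸ K} (hu : u * u = 1) : ∃ g : G, QuotientGroup.mk' K g = u ∧ g * g = 1 := by
  obtain ⟨g, rfl⟩ := QuotientGroup.mk'_surjective K u
  obtain ⟨a, m, hm, hgm⟩ := Nat.exists_eq_two_pow_mul_odd (n := orderOf g) (orderOf_pos g).ne'
  refine ⟨g ^ m, ?_, ?_⟩
  · obtain ⟨j, rfl⟩ := hm
    rw [map_pow, pow_succ, pow_mul, pow_two, hu, one_pow, one_mul]
  · have hmem : g ^ m * g ^ m ∈ K := by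
      refine (QuotientGroup.eq_one_iff (N := K) _).mp ?_
      show QuotientGroup.mk' K (g ^ m * g ^ m) = 1
      rw [← pow_add, map_pow, ← two_mul, pow_mul, pow_two, hu, one_pow]
    have h1 : (g ^ m * g ^ m) ^ 2 ^ a = 1 := by
      rw [← pow_add, ← pow_mul, ← two_mul, show 2 * m * 2 ^ a = orderOf g * 2 by rw [hgm]; ring,
        pow_mul, pow_orderOf_eq_one, one_pow]
    have h2 := orderOf_dvd_of_pow_eq_one h1
    have h3 : orderOf (g ^ m * g ^ m) ∣ Nat.card K := by
      rw [← orderOf_mk _ hmem]; exact _root_.orderOf_dvd_natCard _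
    have h4 := Nat.dvd_gcd h2 h3
    rw [Nat.Coprime.gcd_eq_one (Nat.Coprime.pow_left a (Nat.coprime_two_left.mpr hK))] at h4
    exact orderOf_eq_one_iff.mp (Nat.dvd_one.mp h4)

/-- Let G be a finite solvable group of even order whose Sylow 2-subgroups contain more than one involution, and suppose all involutions of G are conjugate. Then G has 2-length at most 1, and a Sylow 2-subgroup S of G is either homocyclic (a direct product of cyclic groups of one common order) or a non-abelian 2-group with more than one involution admitting a solvable group of automorphisms transitive on its involutions. -/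
theorem result {G : Type*} [Group G] [Finite G] (hG : Group.IsSolvable G) (heven : Even (Nat.card G)) (S : Sylow 2 G) (htwo : ∃ x y : G, x ∈ (S : Subgroup G) ∧ y ∈ (S : Subgroup G) ∧ x ≠ y ∧ x ≠ 1 ∧ x ^ 2 = 1 ∧ y ≠ 1 ∧ y ^ 2 = 1) (hconj : ∀ x y : G, x ≠ 1 → x ^ 2 = 1 → y ≠ 1 → y ^ 2 = 1 → IsConj x y) : Cfsg.PLengthLE 2 1 G ∧ ((∃ m r : ℕ, Nonempty (↥(S : Subgroup G) ≃* (Fin r → Multiplicative (ZMod (2 ^ m))))) ∨ (¬ IsMulCommutative (S : Subgroup G) ∧ ∃ Y : Subgroup (MulAut ↥(S : Subgroup G)), Group.IsSolvable Y ∧ ∀ x y : ↥(S : Subgroup G), x ≠ 1 → x ^ 2 = 1 → y ≠ 1 → y ^ 2 = 1 → ∃ a ∈ Y, a x = y)) := by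
  classical
  have : Fact (Nat.Prime 2) := ⟨Nat.prime_two⟩
  set K := Cfsg.pPrimeCore 2 G with hK
  have hKn : K.Normal := Cfsg.pPrimeCore_normal 2 G
  have hKodd : Odd (Nat.card K) :=
    Nat.coprime_two_right.mp (Lib.Cores.pPrimeCore_coprime 2 G)
  set π := QuotientGroup.mk' K with hπ
  have hπs : Function.Surjective π := QuotientGroup.mk'_surjective K
  have hSK : ∀ z : G, z ∈ (S : Subgroup G) → z ∈ K → z = 1 := by
    intro z hzS hzK
    have h := Subgroup.inf_eq_bot_of_coprime (H := (S : Subgroup G)) (K := K) (by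
      obtain ⟨k, hk⟩ := IsPGroup.iff_card.mp S.2
      rw [hk]; exact Nat.Coprime.pow_left k (Nat.coprime_two_left.mpr hKodd))
    exact Subgroup.mem_bot.mp (h ▸ ⟨hzS, hzK⟩)
  obtain ⟨x, y, hxS, hyS, hxy, hx1, hx2, hy1, hy2⟩ := htwo
  have F : Lib.OneClassInvolutions.Frame (G ⧸ K) := by
    refine ⟨inferInstance, Lib.Cores.pPrimeCore_quotient_pPrimeCore 2 G, ⟨π x, π y, ?_, ?_, ?_, ?_, ?_⟩, ?_⟩
    · intro h
      have := hSK (x⁻¹ * y) ((S : Subgroup G).mul_mem ((S : Subgroup G).inv_mem hxS) hyS)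
        (QuotientGroup.eq.mp h)
      exact hxy (inv_mul_eq_one.mp this)
    · exact fun h => hx1 (hSK x hxS ((QuotientGroup.eq_one_iff x).mp h))
    · rw [← map_mul, ← pow_two, hx2, map_one]
    · exact fun h => hy1 (hSK y hyS ((QuotientGroup.eq_one_iff y).mp h))
    · rw [← map_mul, ← pow_two, hy2, map_one]
    · intro u v hu1 hu hv1 hv
      obtain ⟨a, rfl, ha⟩ := exists_lift hKodd hu
      obtain ⟨b, rfl, hb⟩ := exists_lift hKodd hv
      obtain ⟨c, hc⟩ := isConj_iff.mp (hconj a b (fun h => hu1 (by rw [h, map_one]))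
        (by rw [pow_two, ha]) (fun h => hv1 (by rw [h, map_one])) (by rw [pow_two, hb]))
      exact ⟨π c, by rw [← map_inv, ← map_mul, ← map_mul, hc]⟩
  set P := Cfsg.pCore 2 (G ⧸ K) with hP
  have hPn : P.Normal := Cfsg.pCore_normal 2 _
  have hodd : Odd P.index :=
    Nat.not_even_iff_odd.mp fun h => F.not_two_dvd_index (even_iff_two_dvd.mp h)
  have hSP : ∀ s : G, s ∈ (S : Subgroup G) → π s ∈ P := by
    intro s hs
    obtain ⟨k, hk⟩ := S.2 ⟨s, hs⟩
    have hk' : (π s) ^ 2 ^ k = 1 := by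
      have hk2 : s ^ 2 ^ k = 1 := congrArg Subtype.val hk
      rw [← map_pow, hk2, map_one]
    refine (QuotientGroup.eq_one_iff (N := P) _).mp ?_
    have h1 : (QuotientGroup.mk' P (π s)) ^ 2 ^ k = 1 := by rw [← map_pow, hk', map_one]
    have h3 := Nat.dvd_gcd (orderOf_dvd_of_pow_eq_one h1)
      (_root_.orderOf_dvd_natCard (QuotientGroup.mk' P (π s)))
    rw [← Subgroup.index_eq_card,
      Nat.Coprime.gcd_eq_one (Nat.Coprime.pow_left k (Nat.coprime_two_left.mpr hodd))] at h3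
    exact orderOf_eq_one_iff.mp (Nat.dvd_one.mp h3)
  have hcent : ∀ u : G, u ∈ (S : Subgroup G) → u ^ 2 = 1 →
      u ∈ Subgroup.centralizer ((S : Subgroup G) : Set G) := by
    intro u hu hu2
    rw [Subgroup.mem_centralizer_iff]
    intro s hs
    have h1 : π u ∈ Lib.OneClassInvolutions.invSub (G ⧸ K) := F.mem_invSub_iff.mpr (by
      rw [← map_mul, ← pow_two, hu2, map_one])
    have h2 := h1.2.1 _ (hSP s hs)
    rw [← map_mul, ← map_mul] at h2
    have h3 := hSK _ ((S : Subgroup G).mul_mem ((S : Subgroup G).inv_mem ((S : Subgroup G).mul_mem hu hs))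
      ((S : Subgroup G).mul_mem hs hu)) (QuotientGroup.eq.mp h2.symm)
    exact (inv_mul_eq_one.mp h3).symm
  refine ⟨?_, ?_⟩
  · refine Lib.PLength.pLengthLE_of_series
      (A := fun j => match j with | 0 => ⊥ | 1 => K | 2 => P.comap π | _ => ⊤) ?_
    refine ⟨rfl, rfl, ?_, ?_, ?_⟩
    · intro j hj
      rcases j with _ | _ | _ | j
      · exact bot_le
      · intro g hg
        show π g ∈ P
        rw [show π g = 1 from (QuotientGroup.eq_one_iff g).mpr hg]; exact one_mem _
      · exact le_top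
      · omega
    · intro j hj
      rcases j with _ | _ | _ | j
      · exact Subgroup.normal_bot
      · exact hKn
      · exact hPn.comap π
      · exact Subgroup.normal_top
    · intro j hj
      rcases j with _ | _ | _ | j
      · show Lib.PLength.FactorOK 2 0 ((⊥ : Subgroup G).relIndex K)
        rw [Subgroup.relIndex_bot_left]
        exact ⟨fun _ => Nat.coprime_two_right.mpr hKodd, fun h => absurd (by simp : Even 0) h⟩
      · show Lib.PLength.FactorOK 2 1 (K.relIndex (P.comap π))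
        rw [Lib.PLength.relIndex_comap_mk']
        exact ⟨fun h => absurd h (by decide), fun _ => (Lib.Cores.pCore_isPGroup 2 _).exists_card_eq⟩
      · show Lib.PLength.FactorOK 2 2 ((P.comap π).relIndex ⊤)
        rw [Subgroup.relIndex_top_right, Subgroup.index_comap_of_surjective _ hπs]
        exact ⟨fun _ => Nat.coprime_two_right.mpr hodd, fun h => absurd (by decide : Even 2) h⟩
      · omega
  let Y : Subgroup (MulAut ↥(S : Subgroup G)) := (Subgroup.normalizerMonoidHom (S : Subgroup G)).range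
  have htrans : ∀ u v : ↥(S : Subgroup G), u ≠ 1 → u ^ 2 = 1 → v ≠ 1 → v ^ 2 = 1 → ∃ a ∈ Y, a u = v := by
    intro u v hu1 hu hv1 hv
    have hu' : (u : G) ^ 2 = 1 := congrArg Subtype.val hu
    have hv' : (v : G) ^ 2 = 1 := congrArg Subtype.val hv
    obtain ⟨c, hc⟩ := isConj_iff.mp (hconj u v (fun h => hu1 (Subtype.ext h)) hu'
      (fun h => hv1 (Subtype.ext h)) hv')
    obtain ⟨m, hm, hme⟩ := Sylow.conj_eq_normalizer_conj_of_mem_centralizer S (u : G) c⁻¹
      (hcent u u.2 hu') (by rw [inv_inv, hc]; exact hcent v v.2 hv')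
    refine ⟨_, ⟨⟨m⁻¹, inv_mem hm⟩, rfl⟩, Subtype.ext ?_⟩
    show m⁻¹ * (u : G) * m⁻¹⁻¹ = v
    rw [inv_inv, ← hme, inv_inv, hc]
  by_cases hab : IsMulCommutative (S : Subgroup G)
  · refine Or.inl ?_
    let : CommGroup ↥(S : Subgroup G) :=
      { (inferInstance : Group ↥(S : Subgroup G)) with mul_comm := fun a b => hab.is_comm.comm a b }
    exact homocyclic S.2 fun u v h1 h2 h3 h4 => (htrans u v h1 h2 h3 h4).imp fun a ha => ha.2
  · refine Or.inr ⟨hab, Y, ?_, htrans⟩
    exact Group.isSolvable_of_surjective (MonoidHom.rangeRestrict_surjective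
      (Subgroup.normalizerMonoidHom (S : Subgroup G)))

end Cfsg.Agent.S3797
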