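import Cfsg.Statements.S3798
import Cfsg.Agent.Lib.PLength.Basic
import Cfsg.Agent.Lib.Blocks.PSolvable
import Cfsg.Agent.Lib.Coprime.SchurZassenhaus
import Cfsg.Agent.Lib.OddLocal.Coprime
import Cfsg.Agent.Lib.Components.Basic
import Cfsg.Prelude

set_option autoImplicit false
open Cfsg

namespace Cfsg.Agent.S3798

open Cfsg.Agent.Lib
open scoped Pointwise

universe u

/-- Quotients of `p`-soluble groups are `p`-soluble. -/
theorem isPSolvable_quotient {G : Type u} [Group G] [Finite G] {p : ℕ} [Fact p.Prime]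
    (N : Subgroup G) [N.Normal] (h : Cfsg.IsPSolvable p G) : Cfsg.IsPSolvable p (G ⧸ N) := by
  obtain ⟨n, H, h0, h1, hm, hn, hf⟩ := h
  refine ⟨n, fun i => (H i).map (QuotientGroup.mk' N), by simp only [h0, Subgroup.map_bot], by
    simp only [h1, Subgroup.map_top_of_surjective _ (QuotientGroup.mk'_surjective N)],
    fun i j hij => Subgroup.map_mono (hm hij),
    fun i => (hn i).map _ (QuotientGroup.mk'_surjective N), fun i => ?_⟩
  have hd : ((H i.castSucc).map (QuotientGroup.mk' N)).relIndex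
      ((H i.succ).map (QuotientGroup.mk' N)) ∣ (H i.castSucc).relIndex (H i.succ) := by
    rw [Subgroup.relIndex_map_map, QuotientGroup.ker_mk']
    have := hn i.castSucc
    have hsn : (H i.castSucc ⊔ N).Normal := Subgroup.sup_normal _ _
    have e : H i.succ ⊔ N = H i.succ ⊔ (H i.castSucc ⊔ N) := by
      rw [← sup_assoc, sup_eq_left.mpr (hm (Fin.castSucc_lt_succ).le : H i.castSucc ≤ H i.succ)]
    rw [e, Subgroup.relIndex_sup_right]
    exact Subgroup.relIndex_dvd_of_le_left _ le_sup_left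
  rcases hf i with ⟨m, hm'⟩ | hc
  · rw [hm'] at hd
    obtain ⟨j, -, hj⟩ := (Nat.dvd_prime_pow (Fact.out : p.Prime)).mp hd
    exact Or.inl ⟨j, hj⟩
  · exact Or.inr (Nat.Coprime.coprime_dvd_left hd hc)

/-- The case of trivial `p'`-core. -/
theorem length_one_of_core_bot {G : Type u} [Group G] [Finite G] {p : ℕ} [hpf : Fact p.Prime]
    (hp : p ≠ 2) (hG : Cfsg.IsPSolvable p G) (hcore : Cfsg.pPrimeCore p G = ⊥)
    (htrans : ∀ U V : Subgroup G, Nat.card U = p → Nat.card V = p →
      ∃ a : MulAut G, U.map a.toMonoidHom = V) : Cfsg.PLengthLE p 1 G := by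
  classical
  have hpp : p.Prime := Fact.out
  by_cases hdvd : p ∣ Nat.card G
  swap
  · exact PLength.of_coprime (Nat.Coprime.symm (hpp.coprime_iff_not_dvd.mpr hdvd)) 1
  let P := Cfsg.pCore p G
  have hC : Subgroup.centralizer (P : Set G) ≤ P :=
    Blocks.centralizer_pCore_le_of_isPSolvable p hG hcore
  have hPp : IsPGroup p P := Cores.pCore_isPGroup p G
  have hPn : P.Normal := by
    refine ⟨fun x hx g => ?_⟩
    rw [show P = Cfsg.pCore p G from rfl, ← Cores.map_pCore_equiv (p := p) (MulAut.conj g)]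
    exact ⟨x, hx, rfl⟩
  have hP0 : P ≠ ⊥ := fun h => by
    have h1 : (⊤ : Subgroup G) ≤ P := fun x _ => hC (Subgroup.mem_centralizer_iff.mpr fun y hy => by
      rw [SetLike.mem_coe, h, Subgroup.mem_bot] at hy
      rw [hy, one_mul, mul_one])
    rw [h, le_bot_iff] at h1
    rw [← Subgroup.card_top (G := G), h1, Subgroup.card_bot] at hdvd
    exact hpp.ne_one (Nat.dvd_one.mp hdvd)
  -- a central subgroup of order `p`
  have : Nontrivial P := (Subgroup.nontrivial_iff_ne_bot P).mpr hP0
  have hZ0 := hPp.center_nontrivial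
  obtain ⟨z, hz⟩ : ∃ z : Subgroup.center P, orderOf z = p := by
    refine exists_prime_orderOf_dvd_card' p ?_
    obtain ⟨k, hk⟩ := IsPGroup.iff_card.mp (hPp.to_subgroup (Subgroup.center P))
    rw [hk]
    refine dvd_pow_self p fun h0 => ?_
    rw [h0, pow_zero] at hk
    exact absurd hk (Finite.one_lt_card (α := Subgroup.center P)).ne'
  have hzp : orderOf ((z : P) : G) = p := by rw [Subgroup.orderOf_coe, Subgroup.orderOf_coe, hz]
  have hord : ∀ x : G, x ^ p = 1 → x ≠ 1 → Nat.card (Subgroup.zpowers x) = p := fun x hx hx1 => by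
    rw [Nat.card_zpowers]
    exact orderOf_eq_prime hx hx1
  have hinv : ∀ a : MulAut G, P.map a.toMonoidHom = P := fun a => Cores.map_pCore_equiv a
  -- every element of order `p` is central in `P`
  have hcent : ∀ x : G, x ^ p = 1 → x ∈ P ∧ ∀ y ∈ P, y * x = x * y := by
    intro x hx
    by_cases hx1 : x = 1
    · subst hx1
      exact ⟨one_mem _, fun y _ => by simp⟩
    obtain ⟨a, ha⟩ := htrans (Subgroup.zpowers ((z : P) : G)) (Subgroup.zpowers x)
      (by rw [Nat.card_zpowers, hzp]) (hord x hx hx1)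
    obtain ⟨u, hu, hux⟩ : x ∈ (Subgroup.zpowers ((z : P) : G)).map a.toMonoidHom :=
      ha ▸ Subgroup.mem_zpowers x
    obtain ⟨n, rfl⟩ := hu
    have hzn : ((z : P) : G) ^ n ∈ P := zpow_mem (z : P).2 n
    refine ⟨?_, fun y hy => ?_⟩
    · rw [← hinv a, ← hux]
      exact ⟨_, hzn, rfl⟩
    · rw [← hinv a] at hy
      obtain ⟨y, hy, rfl⟩ := hy
      rw [← hux, ← map_mul, ← map_mul]
      congr 1
      have h := congrArg Subtype.val (Subgroup.mem_center_iff.mp
        (zpow_mem z.2 n : (z : P) ^ n ∈ Subgroup.center P) ⟨y, hy⟩)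
      simpa using h
  let f := QuotientGroup.mk' P
  let L : Subgroup G := (Cfsg.pPrimeCore p (G ⧸ P)).comap f
  have hPL : P ≤ L := fun x hx => by
    show f x ∈ Cfsg.pPrimeCore p (G ⧸ P)
    rw [show f x = 1 from (QuotientGroup.eq_one_iff x).mpr hx]
    exact one_mem _
  have hidxL : P.relIndex L = Nat.card (Cfsg.pPrimeCore p (G ⧸ P)) :=
    PLength.relIndex_comap_mk' P _
  have hcop : (Nat.card P).Coprime (P.relIndex L) := by
    rw [hidxL]
    obtain ⟨k, hk⟩ := IsPGroup.iff_card.mp hPp
    rw [hk]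
    exact Nat.Coprime.pow_left k (Cores.pPrimeCore_coprime p _).symm
  obtain ⟨X₀, hX₀⟩ := Subgroup.exists_right_complement'_of_coprime (N := P.subgroupOf L)
    (by rw [Nat.card_congr (Subgroup.subgroupOfEquivOfLe hPL).toEquiv]; exact hcop)
  let X : Subgroup G := X₀.map L.subtype
  have hXL : X ≤ L := Subgroup.map_subtype_le _
  have hXcard : Nat.card X = P.relIndex L := by
    show Nat.card X = (P.subgroupOf L).index
    rw [hX₀.symm.index_eq_card]
    exact (Nat.card_congr (X₀.equivMapOfInjective _ L.subtype_injective).toEquiv).symm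
  have hPX : (Nat.card P).Coprime (Nat.card X) := hXcard ▸ hcop
  have hdisj : P ⊓ X = ⊥ := (Subgroup.disjoint_of_coprime_natCard hPX).eq_bot
  have hsupL : P ⊔ X = L := by
    refine le_antisymm (sup_le hPL hXL) fun l hl => ?_
    obtain ⟨⟨⟨a, ha⟩, ⟨b, hb⟩⟩, hab⟩ := hX₀.2 (⟨l, hl⟩ : L)
    have : l = (a : G) * (b : G) := (congrArg Subtype.val hab).symm
    rw [this]
    exact Subgroup.mul_mem_sup ha ⟨b, hb, rfl⟩
  have hsolP : Group.IsSolvable P := by
    have := hPp.isNilpotent
    infer_instance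
  have hXn : X ≤ Subgroup.normalizer (P : Set G) := by
    rw [Subgroup.normalizer_eq_top]; exact le_top
  -- complements in `L` are conjugate under `P`
  have hconjX : ∀ a : MulAut G, ∃ u ∈ P, MulAut.conj u • X = X.map a.toMonoidHom := by
    intro a
    refine Coprime.exists_conj_eq_of_le_sup hXn hPX (Or.inl hsolP)
      (Nat.card_congr (X.equivMapOfInjective a.toMonoidHom a.injective).toEquiv).symm ?_
    rintro _ ⟨x, hx, rfl⟩
    rw [hsupL]
    show f (a x) ∈ Cfsg.pPrimeCore p (G ⧸ P)
    let aq : (G ⧸ P) ≃* (G ⧸ P) := QuotientGroup.congr P P a (hinv a)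
    have h1 := Cores.map_pPrimeCore_equiv (p := p) aq
    rw [← h1]
    exact ⟨f x, hXL hx, rfl⟩
  have hX0 : X ≠ ⊥ → ∀ x ∈ P, x ^ p = 1 → x ∈ Subgroup.centralizer (X : Set G) → x = 1 := by
    intro hX x hx hxp hxc
    by_contra hx1
    refine hX ?_
    have hall : ∀ y : G, y ^ p = 1 → y ∈ Subgroup.centralizer (X : Set G) := by
      intro y hy
      by_cases hy1 : y = 1
      · subst hy1; exact one_mem _
      obtain ⟨a, ha⟩ := htrans (Subgroup.zpowers x) (Subgroup.zpowers y) (hord x hxp hx1)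
        (hord y hy hy1)
      obtain ⟨w, hw, hwy⟩ : y ∈ (Subgroup.zpowers x).map a.toMonoidHom :=
        ha ▸ Subgroup.mem_zpowers y
      obtain ⟨u, hu, huX⟩ := hconjX a
      have hwc : w ∈ Subgroup.centralizer (X : Set G) := (Subgroup.zpowers_le.mpr hxc) hw
      obtain ⟨-, hyc⟩ := hcent y hy
      refine Subgroup.mem_centralizer_iff.mpr fun b hb => ?_
      obtain ⟨c, hc, hcb⟩ : u * b * u⁻¹ ∈ X.map a.toMonoidHom := by
        rw [← huX, Coprime.mem_conj_smul]
        simpa [mul_assoc] using hb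
      have h1 : (u * b * u⁻¹) * y = y * (u * b * u⁻¹) := by
        rw [← hcb, ← hwy, ← map_mul, ← map_mul, Subgroup.mem_centralizer_iff.mp hwc c hc]
      have huy := hyc u hu
      have huy' := hyc u⁻¹ (inv_mem hu)
      calc b * y = u⁻¹ * (u * b * u⁻¹) * (u * y) := by group
        _ = u⁻¹ * ((u * b * u⁻¹) * y) * u := by rw [huy]; group
        _ = u⁻¹ * y * (u * b * u⁻¹) * u := by rw [h1]; group
        _ = y * u⁻¹ * (u * b * u⁻¹) * u := by rw [huy']
        _ = y * b := by group
    have hXC : X ≤ Subgroup.centralizer (P : Set G) := by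
      refine OddLocal.le_centralizer_of_fixes_pow_eq_one hp ?_ P hPp hXn fun y _ hy b hb => ?_
      · rw [hXcard, hidxL]
        exact Cores.pPrimeCore_coprime p _
      · rw [Subgroup.mem_centralizer_singleton_iff]
        exact Subgroup.mem_centralizer_iff.mp (hall y hy) b hb
    rw [← le_bot_iff, ← hdisj]
    exact le_inf (hXC.trans hC) le_rfl
  have hcopQ : (Nat.card (G ⧸ P)).Coprime p := by
    by_cases hX : X = ⊥
    · have hQ : Cfsg.pPrimeCore p (G ⧸ P) = ⊥ := by
        refine Subgroup.eq_bot_of_card_eq _ ?_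
        rw [← hidxL, ← hXcard, hX, Subgroup.card_bot]
      have h1 := Blocks.centralizer_pCore_le_of_isPSolvable p (isPSolvable_quotient P hG) hQ
      rw [Cores.pCore_quotient_pCore] at h1
      have h2 : (⊤ : Subgroup (G ⧸ P)) = ⊥ := le_bot_iff.mp fun x _ => h1 (by
        refine Subgroup.mem_centralizer_iff.mpr fun y hy => ?_
        rw [SetLike.mem_coe, Subgroup.mem_bot] at hy
        rw [hy, one_mul, mul_one])
      rw [← Subgroup.card_top, h2, Subgroup.card_bot]
      exact Nat.coprime_one_left p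
    refine Nat.Coprime.symm (hpp.coprime_iff_not_dvd.mpr fun hd => ?_)
    let Nx := Subgroup.normalizer (X : Set G)
    have hsurj : Function.Surjective (f.comp Nx.subtype) := by
      intro q
      obtain ⟨g, rfl⟩ := QuotientGroup.mk'_surjective P q
      obtain ⟨u, hu, huX⟩ := hconjX (MulAut.conj g)
      refine ⟨⟨u⁻¹ * g, Coprime.mem_normalizer_of_conj_smul_eq ?_⟩, ?_⟩
      · rw [Coprime.conj_mul_smul, show MulAut.conj g • X = X.map (MulAut.conj g).toMonoidHom from rfl,
          ← huX, ← Coprime.conj_mul_smul, inv_mul_cancel, Coprime.conj_one_smul]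
      · show f (u⁻¹ * g) = f g
        rw [map_mul, map_inv, show f u = 1 from (QuotientGroup.eq_one_iff u).mpr hu, inv_one, one_mul]
    obtain ⟨y, hy⟩ := exists_prime_orderOf_dvd_card' (G := Nx) p
      (hd.trans (Subgroup.card_dvd_of_surjective _ hsurj))
    rw [← Subgroup.orderOf_coe] at hy
    have hyp : (y : G) ^ p = 1 := hy ▸ pow_orderOf_eq_one _
    have hyP := (hcent (y : G) hyp).1
    refine hpp.ne_one ?_
    rw [← hy, hX0 hX y hyP hyp (Subgroup.mem_centralizer_iff.mpr fun b hb => ?_), orderOf_one]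
    have h1 : (y : G) * b * (y : G)⁻¹ * b⁻¹ ∈ P ⊓ X := Subgroup.mem_inf.mpr
      ⟨by
        have := hPn.conj_mem _ (inv_mem hyP) b
        simpa [mul_assoc] using mul_mem hyP this,
      mul_mem ((Subgroup.mem_normalizer_iff.mp y.2 b).mp hb) (inv_mem hb)⟩
    rw [hdisj, Subgroup.mem_bot, mul_inv_eq_one, mul_inv_eq_iff_eq_mul] at h1
    exact h1.symm
  exact PLength.of_quotient_isPGroup P hPp (PLength.of_coprime hcopQ 0)

/-- The Gaschütz–Yen Theorem: let G be a finite p-soluble group, p an odd prime dividing its order, such that the automorphism group of G permutes the subgroups of G of order p transitively. Then G has p-length at most 1. -/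
theorem result {G : Type*} [Group G] [Finite G] {p : ℕ} [Fact p.Prime] (hp : p ≠ 2) (hdvd : p ∣ Nat.card G) (hG : Cfsg.IsPSolvable p G) (htrans : ∀ U V : Subgroup G, Nat.card U = p → Nat.card V = p → ∃ a : MulAut G, U.map a.toMonoidHom = V) : Cfsg.PLengthLE p 1 G := by
  let N := Cfsg.pPrimeCore p G
  have hNn : N.Normal := by
    refine ⟨fun x hx g => ?_⟩
    rw [show N = Cfsg.pPrimeCore p G from rfl, ← Cores.map_pPrimeCore_equiv (p := p) (MulAut.conj g)]
    exact ⟨x, hx, rfl⟩
  refine PLength.of_quotient_coprime N (Cores.pPrimeCore_coprime p G) ?_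
  refine length_one_of_core_bot hp (isPSolvable_quotient N hG) (Cores.pPrimeCore_quotient_pPrimeCore p G) ?_
  have hpp : p.Prime := Fact.out
  have lift : ∀ U : Subgroup (G ⧸ N), Nat.card U = p →
      ∃ U' : Subgroup G, Nat.card U' = p ∧ U'.map (QuotientGroup.mk' N) = U := by
    intro U hU
    have hd : p ∣ Nat.card (U.comap (QuotientGroup.mk' N)) := by
      rw [← hU]
      exact Subgroup.card_dvd_of_surjective _
        ((QuotientGroup.mk' N).subgroupComap_surjective_of_surjective U (QuotientGroup.mk'_surjective N))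
    obtain ⟨y, hy⟩ := exists_prime_orderOf_dvd_card' p hd
    rw [← Subgroup.orderOf_coe] at hy
    refine ⟨Subgroup.zpowers (y : G), by rw [Nat.card_zpowers, hy], ?_⟩
    rw [MonoidHom.map_zpowers]
    refine Subgroup.eq_of_le_of_card_ge (Subgroup.zpowers_le.mpr (Subgroup.mem_comap.mp y.2)) ?_
    rw [Nat.card_zpowers, hU]
    have h1 : orderOf (QuotientGroup.mk' N (y : G)) ∣ p := hy ▸ orderOf_map_dvd _ _
    rcases hpp.eq_one_or_self_of_dvd _ h1 with h2 | h2
    · have hyN : (y : G) ∈ N := (QuotientGroup.eq_one_iff _).mp (orderOf_eq_one_iff.mp h2)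
      have h3 : orderOf (⟨y, hyN⟩ : N) ∣ Nat.card N := orderOf_dvd_natCard _
      rw [← Subgroup.orderOf_coe, hy] at h3
      exact absurd h3 (hpp.coprime_iff_not_dvd.mp (Cores.pPrimeCore_coprime p G).symm)
    · exact h2.ge
  intro U V hU hV
  obtain ⟨U', hU', hUm⟩ := lift U hU
  obtain ⟨V', hV', hVm⟩ := lift V hV
  obtain ⟨a, ha⟩ := htrans U' V' hU' hV'
  refine ⟨QuotientGroup.congr N N a (Cores.map_pPrimeCore_equiv (p := p) a), ?_⟩
  rw [← hUm, ← hVm, ← ha, Subgroup.map_map, Subgroup.map_map]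
  congr 1

end Cfsg.Agent.S3798
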