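import Cfsg.Statements.S3799
import Cfsg.Agent.Lib.Cores.Frattini
import Mathlib

set_option autoImplicit false
open Cfsg

namespace Cfsg.Agent.S3799

open Matrix
open scoped commutatorElement

variable {F : Type*} [Field F] {n : ℕ}

abbrev e0 : Fin (n + 2) → F := Pi.single 0 1
abbrev el : Fin (n + 2) → F := Pi.single (Fin.last (n + 1)) 1
abbrev rv (a : Fin n → F) (c : F) : Fin (n + 2) → F := Fin.cons 0 (Fin.snoc a c)
abbrev sv (b : Fin n → F) : Fin (n + 2) → F := Fin.cons 0 (Fin.snoc b 0)

def mat (a b : Fin n → F) (c : F) : Matrix (Fin (n + 2)) (Fin (n + 2)) F :=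
  1 + vecMulVec e0 (rv a c) + vecMulVec (sv b) el

theorem last_ne : (Fin.last (n + 1)) ≠ 0 := Fin.last_pos.ne'

theorem rv_e0 (a : Fin n → F) (c : F) : rv a c ⬝ᵥ (e0 : Fin (n + 2) → F) = 0 := by
  simp [rv, e0]

theorem el_e0 : (el : Fin (n + 2) → F) ⬝ᵥ e0 = 0 := by
  simp [e0, el, last_ne.symm]

theorem el_sv (b : Fin n → F) : (el : Fin (n + 2) → F) ⬝ᵥ sv b = 0 := by
  simp [el, sv, ← Fin.succ_last]

theorem rv_sv (a b : Fin n → F) (c : F) : rv a c ⬝ᵥ sv b = a ⬝ᵥ b := by
  simp [rv, sv, dotProduct, Fin.sum_univ_succ (n := n + 1), Fin.sum_univ_castSucc]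

theorem rv_add (a a' : Fin n → F) (c c' : F) : rv (a + a') (c + c') = rv a c + rv a' c' := by
  funext i
  refine Fin.cases ?_ (fun j => ?_) i
  · simp [rv]
  · refine Fin.lastCases ?_ (fun k => ?_) j <;> simp [rv]

theorem sv_add (b b' : Fin n → F) : sv (b + b') = sv b + sv b' := by
  funext i
  refine Fin.cases ?_ (fun j => ?_) i
  · simp [sv]
  · refine Fin.lastCases ?_ (fun k => ?_) j <;> simp [sv]

theorem rv_last (a : Fin n → F) (c d : F) : rv a (c + d) = rv a c + d • (el : Fin (n + 2) → F) := by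
  funext i
  refine Fin.cases ?_ (fun j => ?_) i
  · simp [rv, el, last_ne.symm]
  · refine Fin.lastCases ?_ (fun k => ?_) j
    · simp [rv, el, ← Fin.succ_last]
    · simp [rv, el, ← Fin.succ_last, Fin.succ_inj]

theorem mat_mul (a b : Fin n → F) (c : F) (a' b' : Fin n → F) (c' : F) :
    mat a b c * mat a' b' c' = mat (a + a') (b + b') (c + c' + a ⬝ᵥ b') := by
  rw [mat, mat, mat, rv_last (a + a') (c + c'), rv_add, sv_add]
  simp only [add_mul, mul_add, one_mul, mul_one, vecMulVec_mul_vecMulVec, rv_e0, el_e0, el_sv, rv_sv,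
    vecMulVec_add, add_vecMulVec, vecMulVec_smul, smul_zero, zero_smul, zero_vecMulVec, vecMulVec_zero, add_zero]
  abel

theorem mat_zero : mat (0 : Fin n → F) 0 0 = 1 := by
  have h1 : rv (0 : Fin n → F) 0 = 0 := by
    funext i
    refine Fin.cases ?_ (fun j => ?_) i
    · simp [rv]
    · refine Fin.lastCases ?_ (fun k => ?_) j <;> simp [rv]
  rw [mat, h1, show sv (0 : Fin n → F) = rv 0 0 from rfl, h1]
  simp

theorem mat_entry_top (a b : Fin n → F) (c : F) (k : Fin n) :
    mat a b c 0 k.castSucc.succ = a k := by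
  simp [mat, vecMulVec_apply, rv, sv, e0, el, (Fin.succ_ne_zero _).symm, ← Fin.succ_last]

theorem mat_entry_right (a b : Fin n → F) (c : F) (k : Fin n) :
    mat a b c k.castSucc.succ (Fin.last (n + 1)) = b k := by
  simp [mat, vecMulVec_apply, rv, sv, e0, el, ← Fin.succ_last, Fin.succ_inj]

theorem mat_entry_corner (a b : Fin n → F) (c : F) : mat a b c 0 (Fin.last (n + 1)) = c := by
  simp [mat, vecMulVec_apply, rv, sv, e0, el, last_ne.symm, ← Fin.succ_last, (Fin.succ_ne_zero _).symm]

theorem mat_inj {a b a' b' : Fin n → F} {c c' : F} (h : mat a b c = mat a' b' c') :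
    a = a' ∧ b = b' ∧ c = c' := by
  refine ⟨funext fun k => ?_, funext fun k => ?_, ?_⟩
  · rw [← mat_entry_top a b c k, h, mat_entry_top]
  · rw [← mat_entry_right a b c k, h, mat_entry_right]
  · rw [← mat_entry_corner a b c, h, mat_entry_corner]

def unit (a b : Fin n → F) (c : F) : GL (Fin (n + 2)) F where
  val := mat a b c
  inv := mat (-a) (-b) (-c + a ⬝ᵥ b)
  val_inv := by
    rw [mat_mul, dotProduct_neg, ← mat_zero]; congr 1 <;> abel
  inv_val := by
    rw [mat_mul, neg_dotProduct, ← mat_zero]; congr 1 <;> abel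

theorem unit_mul (a b : Fin n → F) (c : F) (a' b' : Fin n → F) (c' : F) :
    unit a b c * unit a' b' c' = unit (a + a') (b + b') (c + c' + a ⬝ᵥ b') :=
  Units.ext (mat_mul a b c a' b' c')

theorem unit_one : unit (0 : Fin n → F) 0 0 = 1 := Units.ext mat_zero

theorem unit_inv (a b : Fin n → F) (c : F) :
    (unit a b c)⁻¹ = unit (-a) (-b) (-c + a ⬝ᵥ b) := by
  refine inv_eq_of_mul_eq_one_right ?_
  rw [unit_mul, dotProduct_neg, ← unit_one]; congr 1 <;> abel

theorem unit_inj {a b a' b' : Fin n → F} {c c' : F} (h : unit a b c = unit a' b' c') :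
    a = a' ∧ b = b' ∧ c = c' := mat_inj (congrArg Units.val h)

variable (F n) in
def heis : Subgroup (GL (Fin (n + 2)) F) where
  carrier := {g | ∃ a b c, g = unit a b c}
  mul_mem' := by rintro _ _ ⟨a, b, c, rfl⟩ ⟨a', b', c', rfl⟩; exact ⟨_, _, _, unit_mul ..⟩
  one_mem' := ⟨0, 0, 0, unit_one.symm⟩
  inv_mem' := by rintro _ ⟨a, b, c, rfl⟩; exact ⟨_, _, _, unit_inv a b c⟩

theorem unit_pow (a b : Fin n → F) (c : F) (k : ℕ) :
    (unit a b c) ^ k = unit (k • a) (k • b) (k • c + k.choose 2 • (a ⬝ᵥ b)) := by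
  induction k with
  | zero => simp [unit_one]
  | succ k ih =>
    rw [pow_succ, ih, unit_mul, smul_dotProduct]
    congr 1 <;> simp only [succ_nsmul]
    rw [show Nat.choose (k + 1) 2 = k.choose 1 + k.choose 2 from rfl, Nat.choose_one_right, add_nsmul]
    abel

theorem commutator_unit (a b : Fin n → F) (c : F) (a' b' : Fin n → F) (c' : F) :
    ⁅unit a b c, unit a' b' c'⁆ = unit 0 0 (a ⬝ᵥ b' - a' ⬝ᵥ b) := by
  rw [commutatorElement_def, unit_inv, unit_inv, unit_mul, unit_mul, unit_mul]
  congr 1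
  · abel
  · abel
  · simp only [dotProduct_neg, add_dotProduct, neg_dotProduct, dotProduct_add]
    ring

noncomputable def heisEquiv : heis F n ≃ ((Fin n → F) × (Fin n → F)) × F :=
  (Equiv.ofBijective (fun x : ((Fin n → F) × (Fin n → F)) × F => (⟨unit x.1.1 x.1.2 x.2, _, _, _, rfl⟩ : heis F n))
    ⟨fun x y h => by
      obtain ⟨h1, h2, h3⟩ := unit_inj (congrArg Subtype.val h)
      exact Prod.ext (Prod.ext h1 h2) h3,
    fun g => by
      obtain ⟨a, b, c, h⟩ := g.2
      exact ⟨((a, b), c), Subtype.ext h.symm⟩⟩).symm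

noncomputable def coords : heis F n →* Multiplicative ((Fin n → F) × (Fin n → F)) :=
  MonoidHom.mk' (fun g => Multiplicative.ofAdd (heisEquiv g).1) fun g h => by
    obtain ⟨x, rfl⟩ := heisEquiv.symm.surjective g
    obtain ⟨y, rfl⟩ := heisEquiv.symm.surjective h
    have : heisEquiv.symm x * heisEquiv.symm y =
        heisEquiv.symm ((x.1.1 + y.1.1, x.1.2 + y.1.2), x.2 + y.2 + x.1.1 ⬝ᵥ y.1.2) :=
      Subtype.ext (unit_mul ..)
    rw [this]
    simp [← ofAdd_add, Prod.add_def]

theorem coords_unit (a b : Fin n → F) (c : F) (h : unit a b c ∈ heis F n) :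
    coords (⟨unit a b c, h⟩ : heis F n) = Multiplicative.ofAdd (a, b) := by
  have : (⟨unit a b c, h⟩ : heis F n) = heisEquiv.symm ((a, b), c) := rfl
  rw [this]
  simp [coords]

/-- For every odd prime p and every n ≥ 1 there is an extraspecial p-group of order p^(1+2n) and exponent p; concretely, the general linear group of degree n + 2 over the field with p elements contains such a subgroup. -/
theorem result (p : ℕ) [Fact p.Prime] (hp : p ≠ 2) (n : ℕ) (hn : 1 ≤ n) : ∃ E : Subgroup (Matrix.GeneralLinearGroup (Fin (n + 2)) (ZMod p)), Cfsg.IsExtraspecial p ↥E ∧ Nat.card E = p ^ (1 + 2 * n) ∧ ∀ x ∈ E, x ^ p = 1 := by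
  have hpp := (Fact.out : p.Prime)
  set E := heis (ZMod p) n with hE
  have hcard : Nat.card E = p ^ (1 + 2 * n) := by
    rw [Nat.card_congr heisEquiv, Nat.card_prod, Nat.card_prod, Nat.card_fun, Nat.card_zmod, Nat.card_fin]
    ring
  have hchoose : ((p.choose 2 : ℕ) : ZMod p) = 0 :=
    (ZMod.natCast_eq_zero_iff _ _).mpr (hpp.dvd_choose_self two_ne_zero (by have := hpp.two_le; omega))
  have hexp : ∀ x ∈ E, x ^ p = 1 := by
    rintro _ ⟨a, b, c, rfl⟩
    rw [unit_pow, ← unit_one]
    congr 1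
    · funext k; simp
    · funext k; simp
    · simp [nsmul_eq_mul, hchoose]
  have hco : ∀ (g : E) (a b : Fin n → ZMod p) (c : ZMod p), (g : GL (Fin (n + 2)) (ZMod p)) = unit a b c →
      coords g = Multiplicative.ofAdd (a, b) := fun g a b c h => by
    obtain ⟨g, hg⟩ := g
    subst h
    exact coords_unit a b c hg
  have hZ : ∀ g : E, g ∈ Subgroup.center E ↔ coords g = 1 := by
    rintro ⟨g, a, b, c, rfl⟩
    rw [hco _ a b c rfl, Subgroup.mem_center_iff]
    constructor
    · intro h
      have key : ∀ a' b' : Fin n → ZMod p, a ⬝ᵥ b' - a' ⬝ᵥ b = 0 := fun a' b' => by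
        have h1 := commutatorElement_eq_one_iff_mul_comm.mpr (h ⟨unit a' b' 0, _, _, _, rfl⟩).symm
        have h2 : ⁅unit a b c, unit a' b' 0⁆ = 1 := congrArg Subtype.val h1
        rw [commutator_unit, ← unit_one] at h2
        exact (unit_inj h2).2.2
      have ha : a = 0 := funext fun k => by simpa using key 0 (Pi.single k 1)
      have hb : b = 0 := funext fun k => by simpa [ha] using key (Pi.single k 1) 0
      rw [ha, hb]; rfl
    · intro h
      rw [ofAdd_eq_one, Prod.mk_eq_zero] at h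
      rintro ⟨g, a', b', c', rfl⟩
      apply Subtype.ext
      show unit a' b' c' * unit a b c = unit a b c * unit a' b' c'
      simp [unit_mul, h.1, h.2, add_comm]
  have hEp : IsPGroup p E := IsPGroup.of_card hcard
  have hcardZ : Nat.card (Subgroup.center E) = p := by
    conv_rhs => rw [← Nat.card_zmod p]
    refine (Nat.card_eq_of_bijective (fun t : ZMod p => (⟨⟨unit 0 0 t, _, _, _, rfl⟩,
      (hZ _).mpr (hco _ 0 0 t rfl)⟩ : Subgroup.center E)) ⟨fun s t h => ?_, fun g => ?_⟩).symm
    · exact (unit_inj (congrArg (fun x : Subgroup.center E => ((x : E) : GL (Fin (n + 2)) (ZMod p))) h)).2.2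
    · obtain ⟨⟨g, a, b, c, rfl⟩, hg⟩ := g
      have := (hZ _).mp hg
      rw [hco _ a b c rfl, ofAdd_eq_one, Prod.mk_eq_zero] at this
      exact ⟨c, Subtype.ext (Subtype.ext (by simp [this.1, this.2]))⟩
  have hcomm : commutator E = Subgroup.center E := by
    apply le_antisymm
    · rw [commutator_def, Subgroup.commutator_le]
      intro g _ h _
      rw [hZ, map_commutatorElement, commutatorElement_eq_one_iff_mul_comm]
      exact mul_comm _ _
    · rintro ⟨g, a, b, c, rfl⟩ hg
      have := (hZ _).mp hg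
      rw [hco _ a b c rfl, ofAdd_eq_one, Prod.mk_eq_zero] at this
      let k : Fin n := ⟨0, hn⟩
      have he : (⟨unit a b c, _, _, _, rfl⟩ : E) =
          ⁅(⟨unit (Pi.single k c) 0 0, _, _, _, rfl⟩ : E), (⟨unit 0 (Pi.single k 1) 0, _, _, _, rfl⟩ : E)⁆ := by
        apply Subtype.ext
        show unit a b c = ⁅unit (Pi.single k c) 0 (0 : ZMod p), unit 0 (Pi.single k 1) 0⁆
        rw [commutator_unit, this.1, this.2]
        simp
      rw [he]
      exact Subgroup.commutator_mem_commutator (Subgroup.mem_top _) (Subgroup.mem_top _)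
  haveI := hEp.isNilpotent
  refine ⟨E, ⟨⟨hEp, le_antisymm ?_ (hcomm ▸ Cfsg.Agent.Lib.Cores.commutator_le_frattini), hcomm⟩, hcardZ⟩, hcard, hexp⟩
  intro g hg
  rw [hZ]
  have key : ∀ f : ((Fin n → ZMod p) × (Fin n → ZMod p)) →+ ZMod p, f (coords g).toAdd = 0 := by
    intro f
    by_contra hne
    let φ : E →* Multiplicative (ZMod p) := (AddMonoidHom.toMultiplicative f).comp coords
    have hidx : φ.ker.index.Prime := by
      rw [Subgroup.index_ker]
      have hd := Subgroup.card_subgroup_dvd_card φ.range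
      rw [Nat.card_congr Multiplicative.toAdd, Nat.card_zmod] at hd
      rcases (Nat.dvd_prime hpp).mp hd with h1 | h1
      · exfalso
        have : φ g ∈ φ.range := ⟨g, rfl⟩
        rw [Subgroup.card_eq_one.mp h1, Subgroup.mem_bot] at this
        exact hne (congrArg Multiplicative.toAdd this)
      · rw [h1]; exact hpp
    exact hne (congrArg Multiplicative.toAdd (MonoidHom.mem_ker.mp
      (frattini_le_coatom (Cfsg.Agent.Lib.Cores.isCoatom_of_prime_index hidx) hg)))
  have h1 : (coords g).toAdd = 0 := Prod.ext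
    (funext fun k => key ((Pi.evalAddMonoidHom _ k).comp (AddMonoidHom.fst _ _)))
    (funext fun k => key ((Pi.evalAddMonoidHom _ k).comp (AddMonoidHom.snd _ _)))
  exact Multiplicative.toAdd.injective h1

end Cfsg.Agent.S3799
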