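import Cfsg.Statements.S3801
import Cfsg.Agent.Lib.Solvable.GrossLength.Main
import Cfsg.Agent.Lib.Solvable.FPF.Module
import Cfsg.Agent.Lib.Cores
import Cfsg.Agent.Lib.Coprime
import Cfsg.Agent.Lib.PLength.Basic
import Cfsg.Agent.Lib.OddLocal.PStable
-- import your own Cfsg.Agent.* helpers here

set_option autoImplicit false
open Cfsg

namespace Cfsg.Agent.S3801


open Subgroup Module
open Cfsg.Agent.Lib
open Cfsg.Agent.Lib.Solvable
open Cfsg.Agent.Lib.Solvable.GrossLength

universe u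

/-- Images of Sylow `2`-subgroups keep the exponent. -/
theorem exp_map {G : Type u} [Group G] [Finite G] {K : Type u} [Group K] [Finite K] (f : G →* K)
    (hf : Function.Surjective f) {m : ℕ} (hexp : ∀ (P : Sylow 2 G), ∀ x ∈ (P : Subgroup G), x ^ m = 1)
    (P : Sylow 2 K) : ∀ x ∈ (P : Subgroup K), x ^ m = 1 := by
  haveI : Fact (Nat.Prime 2) := ⟨Nat.prime_two⟩
  intro x hx
  obtain ⟨P₀, rfl⟩ := Sylow.mapSurjective_surjective hf 2 P
  rw [Sylow.coe_mapSurjective] at hx
  obtain ⟨y, hy, rfl⟩ := hx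
  rw [← map_pow, hexp P₀ y hy, map_one]

set_option maxHeartbeats 1000000 in
/-- Modulo `O₂`, the top powers of the `2`-elements lie in `O_{2',2}`. -/
theorem pow_mem_pPrimePCore {G : Type u} [Group G] [Finite G] [Group.IsSolvable G]
    (hcore : Cfsg.pPrimeCore 2 G = ⊥) (e : ℕ)
    (hexp : ∀ (P : Sylow 2 G), ∀ x ∈ (P : Subgroup G), x ^ 2 ^ (e + 1) = 1)
    (P : Sylow 2 G) (x : G) (hx : x ∈ (P : Subgroup G)) :
    (QuotientGroup.mk' (Cfsg.pCore 2 G) x) ^ 2 ^ e ∈ Cfsg.pPrimePCore 2 (G ⧸ Cfsg.pCore 2 G) := by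
  classical
  haveI hp : Fact (Nat.Prime 2) := ⟨Nat.prime_two⟩
  set V := Cfsg.pCore 2 G with hV
  have hVp : IsPGroup 2 V := Cores.pCore_isPGroup 2 G
  have hCV : centralizer (V : Set G) ≤ V := OddLocal.centralizer_pCore_le hcore
  haveI : Group.IsNilpotent V := hVp.isNilpotent
  set Φ := (frattini V).map V.subtype with hΦ
  haveI hΦn : Φ.Normal := Cores.normal_map_subtype_of_char V _
  set π := QuotientGroup.mk' Φ with hπ
  set U := V.map π with hU
  haveI hUn : U.Normal := Subgroup.Normal.map inferInstance _ (QuotientGroup.mk'_surjective Φ)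
  letI : CommGroup U := { (inferInstance : Group U) with
    mul_comm := fun u v => by
      obtain ⟨_, a, ha, rfl⟩ := u
      obtain ⟨_, b, hb, rfl⟩ := v
      refine Subtype.ext (show π a * π b = π b * π a from ?_)
      rw [← commutatorElement_eq_one_iff_mul_comm, ← map_commutatorElement, hπ,
        QuotientGroup.mk'_apply, QuotientGroup.eq_one_iff]
      exact ⟨_, Cores.commutator_le_frattini
        (commutator_mem_commutator (mem_top (⟨a, ha⟩ : V)) (mem_top ⟨b, hb⟩)), rfl⟩ }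
  have hUp : ∀ u : U, u ^ 2 = 1 := by
    rintro ⟨_, a, ha, rfl⟩
    refine Subtype.ext (show (π a) ^ 2 = 1 from ?_)
    rw [← map_pow, hπ, QuotientGroup.mk'_apply, QuotientGroup.eq_one_iff]
    exact ⟨_, Cores.pow_mem_frattini hVp ⟨a, ha⟩, rfl⟩
  let φ : G →* MulAut U := MulAut.conjNormal.comp π
  have hφ : ∀ g (u : U), ((φ g u : U) : G ⧸ Φ) = π g * u * (π g)⁻¹ := fun g u =>
    MulAut.conjNormal_apply _ _
  have hVker : V ≤ φ.ker := fun v hv => by
    refine MonoidHom.mem_ker.mpr (MulEquiv.ext fun u => Subtype.ext ?_)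
    rw [hφ]
    have := congrArg Subtype.val (mul_comm (⟨π v, v, hv, rfl⟩ : U) u)
    show π v * (u : G ⧸ Φ) * (π v)⁻¹ = u
    rw [show π v * (u : G ⧸ Φ) = u * π v from this, mul_inv_cancel_right]
  have hker : φ.ker ≤ V := by
    refine Cores.le_pCore inferInstance fun g => ?_
    obtain ⟨k, hk⟩ : ∃ k : ℕ, (orderOf ((g : G) ^ 2 ^ k)).Coprime 2 := by
      refine ⟨(orderOf (g : G)).factorization 2, ?_⟩
      rw [orderOf_pow, Nat.gcd_eq_right (Nat.ordProj_dvd _ _)]
      exact (Nat.coprime_ordCompl hp.out (orderOf_pos _).ne').symm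
    have h1 : (g : G) ^ 2 ^ k ∈ V := by
      refine hCV (Coprime.le_centralizer_of_frattini (A := zpowers ((g : G) ^ 2 ^ k)) ?_ ?_ (mem_zpowers _))
      · rw [Nat.card_zpowers]
        obtain ⟨m, hm⟩ := (hVp.to_subgroup (frattini V)).exists_card_eq
        rw [hm]; exact hk.pow_right m
      · intro a ha v hv
        obtain ⟨i, rfl⟩ := mem_zpowers_iff.mp ha
        show ((g : G) ^ 2 ^ k) ^ i * v * (((g : G) ^ 2 ^ k) ^ i)⁻¹ * v⁻¹ ∈ Φ
        have hmem : ((g : G) ^ 2 ^ k) ^ i ∈ φ.ker := zpow_mem (pow_mem g.2 _) i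
        have h2 := congrArg (fun e : MulAut U => ((e ⟨π v, v, hv, rfl⟩ : U) : G ⧸ Φ)) (MonoidHom.mem_ker.mp hmem)
        simp only [hφ, MulAut.one_apply] at h2
        rw [← QuotientGroup.eq_one_iff]
        show π (_ * v * _ * v⁻¹) = 1
        rw [map_mul, map_mul, map_mul, map_inv, map_inv, h2, mul_inv_cancel]
    obtain ⟨j, hj⟩ := hVp ⟨_, h1⟩
    refine ⟨k + j, Subtype.ext ?_⟩
    have := congrArg Subtype.val hj
    rw [SubmonoidClass.coe_pow, OneMemClass.coe_one, ← pow_mul, ← pow_add] at this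
    exact this
  set θ := QuotientGroup.lift V φ hVker with hθ
  have hθi : Function.Injective θ := by
    rw [injective_iff_map_eq_one]
    intro g hg
    obtain ⟨g, rfl⟩ := QuotientGroup.mk'_surjective V g
    exact (QuotientGroup.eq_one_iff g).mpr (hker hg)
  obtain ⟨ρ₀, hρ₀, hnorm⟩ := FPF.exists_representation (V := U) (s := 2) hUp
  have hnorm1 : ∀ u : U, ∏ i : Fin (2 ^ (e + 1)), φ (x ^ (i : ℕ)) u = 1 := by
    rintro ⟨_, v, hv, rfl⟩
    have key : ∀ m : ℕ, π ((v * x) ^ m) =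
        ((∏ i : Fin m, φ (x ^ (i : ℕ)) ⟨π v, v, hv, rfl⟩ : U) : G ⧸ Φ) * π (x ^ m) := by
      intro m
      induction m with
      | zero => simp
      | succ m ihm =>
        rw [pow_succ, map_mul, ihm, Fin.prod_univ_castSucc]
        simp only [Fin.val_castSucc, Fin.val_last, Subgroup.coe_mul]
        rw [hφ, pow_succ x m, map_mul π (x ^ m) x, map_mul π v x]
        group
    obtain ⟨R, hR⟩ := (show IsPGroup 2 (V ⊔ zpowers x : Subgroup G) from
      (hVp.to_sup_of_normal_left' (P.isPGroup'.to_le (zpowers_le.mpr hx)) le_normalizer_of_normal)).exists_le_sylow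
    have h1 := key (2 ^ (e + 1))
    rw [hexp R _ (hR (mul_mem (mem_sup_left hv) (mem_sup_right (mem_zpowers x)))), hexp P x hx,
      map_one, mul_one] at h1
    exact Subtype.ext h1.symm
  have hsum : ∑ i : Fin (2 ^ (e + 1)), (ρ₀.comp θ) (QuotientGroup.mk' V x) ^ (i : ℕ) = 0 := by
    have h := hnorm (n := 2 ^ (e + 1)) (m := 0) (fun i => φ (x ^ (i : ℕ))) Fin.elim0
      fun u => by rw [hnorm1 u, Finset.univ_eq_empty, Finset.prod_empty]
    rw [Finset.univ_eq_empty (α := Fin 0), Finset.sum_empty] at h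
    refine Eq.trans (Finset.sum_congr rfl fun i _ => ?_) h
    rw [← map_pow, ← map_pow]; rfl
  rw [Fin.sum_univ_eq_sum_range (fun i => (ρ₀.comp θ) (QuotientGroup.mk' V x) ^ i)] at hsum
  have hN : NormZero (ρ₀.comp θ) (e + 1) (QuotientGroup.mk' V x) :=
    ⟨e.succ_pos, by rw [← map_pow, hexp P x hx, map_one], hsum⟩
  haveI : Group.IsSolvable (G ⧸ V) :=
    Coprime.isSolvable_of_surjective' (QuotientGroup.mk'_surjective V) inferInstance
  exact mem_pPrimePCore inferInstance (Cores.pCore_quotient_pCore 2 G) (ρ₀.comp θ) (hρ₀.comp hθi) hN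

theorem main (e : ℕ) (he : 1 ≤ e) : ∀ {G : Type u} [Group G] [Finite G], Group.IsSolvable G →
    (∀ (P : Sylow 2 G), ∀ x ∈ (P : Subgroup G), x ^ 2 ^ e = 1) → Cfsg.PLengthLE 2 (2 * e - 1) G := by
  haveI hp : Fact (Nat.Prime 2) := ⟨Nat.prime_two⟩
  induction e, he using Nat.le_induction with
  | base =>
    intro G _ _ hG hexp
    suffices h : ∀ {H : Type u} [Group H] [Finite H], Group.IsSolvable H →
        (∀ (P : Sylow 2 H), ∀ x ∈ (P : Subgroup H), x ^ 2 ^ 1 = 1) →
        Cfsg.pPrimeCore 2 H = ⊥ → Cfsg.PLengthLE 2 1 H from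
      PLength.of_quotient_coprime (Cfsg.pPrimeCore 2 G) (Cores.pPrimeCore_coprime 2 G)
        (h (Coprime.isSolvable_of_surjective' (QuotientGroup.mk'_surjective _) hG)
          (exp_map _ (QuotientGroup.mk'_surjective _) hexp) (Cores.pPrimeCore_quotient_pPrimeCore 2 G))
    clear hexp hG
    intro G _ _ hG hexp hcore
    haveI := hG
    refine PLength.of_quotient_isPGroup (Cfsg.pCore 2 G) (Cores.pCore_isPGroup 2 G) (PLength.of_coprime ?_ 0)
    obtain ⟨P⟩ : Nonempty (Sylow 2 G) := inferInstance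
    have hVP : Cfsg.pCore 2 G ≤ (P : Subgroup G) := (Cores.pCore_isPGroup 2 G).le_sylow_of_normal P
    have hPV : (P : Subgroup G) ≤ Cfsg.pCore 2 G := fun a ha =>
      OddLocal.centralizer_pCore_le hcore (mem_centralizer_iff.mpr fun b hb => by
        have hb' := hexp P b (hVP hb)
        have ha' := hexp P a ha
        have hab := hexp P _ (mul_mem ha (hVP hb))
        rw [pow_one, pow_two, mul_eq_one_iff_eq_inv] at ha' hb' hab
        rw [mul_inv_rev, ← ha', ← hb'] at hab
        exact hab.symm)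
    have hi : ¬ 2 ∣ (Cfsg.pCore 2 G).index := by
      rw [le_antisymm hVP hPV]; exact P.not_dvd_index
    exact (hp.out.coprime_iff_not_dvd.mpr hi).symm
  | succ e he ih =>
    intro G _ _ hG hexp
    suffices h : ∀ {H : Type u} [Group H] [Finite H], Group.IsSolvable H →
        (∀ (P : Sylow 2 H), ∀ x ∈ (P : Subgroup H), x ^ 2 ^ (e + 1) = 1) →
        Cfsg.pPrimeCore 2 H = ⊥ → Cfsg.PLengthLE 2 (2 * (e + 1) - 1) H from
      PLength.of_quotient_coprime (Cfsg.pPrimeCore 2 G) (Cores.pPrimeCore_coprime 2 G)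
        (h (Coprime.isSolvable_of_surjective' (QuotientGroup.mk'_surjective _) hG)
          (exp_map _ (QuotientGroup.mk'_surjective _) hexp) (Cores.pPrimeCore_quotient_pPrimeCore 2 G))
    clear hexp hG
    intro G _ _ hG hexp hcore
    haveI := hG
    rw [show 2 * (e + 1) - 1 = (2 * e - 1) + 1 + 1 by omega]
    set V := Cfsg.pCore 2 G
    refine PLength.of_quotient_isPGroup V (Cores.pCore_isPGroup 2 G) ?_
    set O := Cfsg.pPrimeCore 2 (G ⧸ V)
    refine PLength.of_quotient_coprime O (Cores.pPrimeCore_coprime 2 _) ?_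
    set W := Cfsg.pCore 2 ((G ⧸ V) ⧸ O)
    refine PLength.of_quotient_isPGroup W (Cores.pCore_isPGroup 2 _) ?_
    let f : G →* ((G ⧸ V) ⧸ O) ⧸ W :=
      (QuotientGroup.mk' W).comp ((QuotientGroup.mk' O).comp (QuotientGroup.mk' V))
    have hf : Function.Surjective f := (QuotientGroup.mk'_surjective W).comp
      ((QuotientGroup.mk'_surjective O).comp (QuotientGroup.mk'_surjective V))
    refine ih (Coprime.isSolvable_of_surjective' hf hG) fun P' a ha => ?_
    obtain ⟨P, rfl⟩ := Sylow.mapSurjective_surjective hf 2 P'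
    rw [Sylow.coe_mapSurjective] at ha
    obtain ⟨x, hx, rfl⟩ := ha
    show (QuotientGroup.mk' W (QuotientGroup.mk' O (QuotientGroup.mk' V x))) ^ 2 ^ e = 1
    rw [← map_pow, ← map_pow, QuotientGroup.mk'_apply, QuotientGroup.eq_one_iff]
    exact Subgroup.mem_comap.mp (pow_mem_pPrimePCore hcore e hexp P x hx)


/-- Gross's bound on 2-length: if G is a finite solvable group whose Sylow 2-subgroups have exponent dividing 2^e with e ≥ 1, then G has 2-length at most 2e − 1. -/
theorem result {G : Type*} [Group G] [Finite G] (hG : Group.IsSolvable G) (e : ℕ) (he : 1 ≤ e) (hexp : ∀ (P : Sylow 2 G), ∀ x ∈ (P : Subgroup G), x ^ 2 ^ e = 1) : Cfsg.PLengthLE 2 (2 * e - 1) G := by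
  exact main e he hG hexp

end Cfsg.Agent.S3801
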