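import Cfsg.Statements.S3862
import Cfsg.Agent.Lib.Transfer.Frobenius
import Cfsg.Agent.Lib.Cores.Frattini
import Cfsg.Agent.Lib.Coprime.PxQ
import Cfsg.Agent.Lib.Coprime.Basic
import Cfsg.Agent.Lib.Involutions.BaerSuzuki

set_option autoImplicit false
open Cfsg

namespace Cfsg.Agent.S3862

open scoped commutatorElement

variable {H : Type*} [Group H] [Finite H]

theorem centralizes_of_four (g : H) (hg : Nat.Coprime (orderOf g) 2) : ∀ (n : ℕ) (Q : Subgroup H),
    Nat.card Q = n → IsPGroup 2 Q → g ∈ Subgroup.normalizer (Q : Set H) →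
    (∀ x ∈ Q, x ^ 4 = 1 → g * x * g⁻¹ = x) → ∀ x ∈ Q, g * x * g⁻¹ = x := by
  intro n
  induction n using Nat.strong_induction_on with
  | _ n ih =>
    intro Q hn hQ hgQ h4 x hx
    have hsmall : ∀ U : Subgroup H, U < Q → g ∈ Subgroup.normalizer (U : Set H) →
        ∀ y ∈ U, g * y * g⁻¹ = y := fun U hU hgU =>
      ih _ (hn ▸ lt_of_le_of_ne (Subgroup.card_le_of_le hU.le)
        fun h => hU.ne (Subgroup.eq_of_le_of_card_ge hU.le h.ge)) U rfl
        (hQ.to_le hU.le) hgU fun y hy => h4 y (hU.le hy)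
    rcases eq_or_ne Q ⊥ with rfl | hQ1
    · rw [Subgroup.mem_bot.mp hx]; simp
    set A := Subgroup.zpowers g with hA
    have hAQ : A ≤ Subgroup.normalizer (Q : Set H) := Subgroup.zpowers_le.mpr hgQ
    have hcop : (Nat.card A).Coprime (Nat.card Q) := by
      obtain ⟨k, hk⟩ := hQ.exists_card_eq
      rw [hA, Nat.card_zpowers, hk]; exact hg.pow_right k
    have hAcent : ∀ U : Subgroup H, (∀ y ∈ U, g * y * g⁻¹ = y) → A ≤ Subgroup.centralizer (U : Set H) :=
      fun U hU => Subgroup.zpowers_le.mpr fun y hy =>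
        (mul_inv_eq_iff_eq_mul.mp (hU y hy)).symm
    have hUle : ⁅Q, A⁆ ≤ Q := Cfsg.Agent.Lib.Coprime.commutator_le_of_le_normalizer hAQ
    by_cases hUQ : ⁅Q, A⁆ = Q
    swap
    · have hU := hsmall _ (lt_of_le_of_ne hUle hUQ)
        (Subgroup.normalizer_commutator_ge_right Q A (Subgroup.mem_zpowers g))
      have hc := Cfsg.Agent.Lib.Coprime.le_centralizer_of_commutator_commutator_eq_bot hAQ hcop
        ((Subgroup.commutator_eq_bot_iff_le_centralizer).mpr
          (Subgroup.le_centralizer_iff.mp (hAcent _ hU)))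
      exact mul_inv_eq_iff_eq_mul.mpr ((hc (Subgroup.mem_zpowers g)) x hx).symm
    have hgmap : ∀ z ∈ Q, g * z * g⁻¹ ∈ Q := fun z hz =>
      ((Subgroup.mem_set_normalizer_iff.mp hgQ) z).mp hz
    set D := ⁅Q, Q⁆ with hD
    have hDlt : D < Q := Cfsg.Agent.Lib.Coprime.commutator_lt_of_isPGroup hQ hQ Subgroup.le_normalizer hQ1
    have hnorm : ∀ U : Subgroup H, (∀ z ∈ U, g * z * g⁻¹ ∈ U) → g ∈ Subgroup.normalizer (U : Set H) := by
      intro U hU
      refine Cfsg.Agent.Lib.Involutions.mem_normalizer_iff_map_conj.mpr ?_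
      refine Subgroup.eq_of_le_of_card_ge ?_
        (le_of_eq (Subgroup.card_map_of_injective (MulEquiv.injective _)).symm)
      rintro _ ⟨z, hz, rfl⟩
      exact hU z hz
    have hDg : g ∈ Subgroup.normalizer (D : Set H) := by
      refine Cfsg.Agent.Lib.Involutions.mem_normalizer_iff_map_conj.mpr ?_
      rw [hD, Subgroup.map_commutator, Cfsg.Agent.Lib.Involutions.mem_normalizer_iff_map_conj.mp hgQ]
    have hDc := hAcent D (hsmall D hDlt hDg)
    have hDA : ⁅D, A⁆ = ⊥ :=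
      (Subgroup.commutator_eq_bot_iff_le_centralizer).mpr (Subgroup.le_centralizer_iff.mp hDc)
    have hQD : ⁅D, Q⁆ = ⊥ := by
      conv_lhs => rw [Subgroup.commutator_comm, ← hUQ, Subgroup.commutator_comm Q A]
      refine Subgroup.commutator_commutator_eq_bot_of_rotate ?_ ?_
      · rw [← le_bot_iff]
        refine le_trans (Subgroup.commutator_mono ?_ le_rfl) hDA.le
        exact (Subgroup.commutator_mono le_rfl hDlt.le)
      · rw [hDA, Subgroup.commutator_bot_left]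
    have hΦg : g ∈ Subgroup.normalizer (((frattini Q).map Q.subtype : Subgroup H) : Set H) := by
      let cQ : Q ≃* Q := ((MulAut.conj g).subgroupMap Q).trans
        (MulEquiv.subgroupCongr (Cfsg.Agent.Lib.Involutions.mem_normalizer_iff_map_conj.mp hgQ))
      refine hnorm _ ?_
      rintro _ ⟨z, hz, rfl⟩
      refine ⟨cQ z, ?_, rfl⟩
      exact Cfsg.Agent.Lib.Cores.map_frattini_le cQ.toMonoidHom cQ.surjective ⟨z, hz, rfl⟩
    have hΦlt : (frattini Q).map Q.subtype < Q := by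
      refine lt_of_le_of_ne (Subgroup.map_subtype_le _) fun h => hQ1 ?_
      exact (Cfsg.Agent.Lib.Cores.eq_of_sup_map_frattini (bot_le : (⊥ : Subgroup H) ≤ Q)
        (by rw [bot_sup_eq]; exact h)).symm
    have hΦc := hsmall _ hΦlt hΦg
    have hsq : g * x ^ 2 * g⁻¹ = x ^ 2 :=
      hΦc _ ⟨(⟨x, hx⟩ : Q) ^ 2, Cfsg.Agent.Lib.Cores.pow_mem_frattini hQ ⟨x, hx⟩, rfl⟩
    set c := x⁻¹ * (g * x * g⁻¹) with hc
    have hcQ : c ∈ Q := mul_mem (inv_mem hx) (hgmap x hx)
    have hgx : g * x * g⁻¹ = x * c := by rw [hc, mul_inv_cancel_left]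
    have hxc : x⁻¹ * c * x = c⁻¹ := by
      have h1 : (x * c) ^ 2 = x ^ 2 := by rw [← hgx, conj_pow, hsq]
      rw [sq, sq, mul_assoc, mul_left_cancel_iff] at h1
      rw [eq_inv_iff_mul_eq_one]
      calc x⁻¹ * c * x * c = x⁻¹ * (c * (x * c)) := by group
        _ = 1 := by rw [h1, inv_mul_cancel]
    have hc2 : c ^ 2 ∈ D := by
      have h2 : ⁅x⁻¹, c⁆ ∈ D := Subgroup.commutator_mem_commutator (inv_mem hx) hcQ
      have h3 : ⁅x⁻¹, c⁆ = (c ^ 2)⁻¹ := by
        show x⁻¹ * c * x⁻¹⁻¹ * c⁻¹ = _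
        rw [inv_inv, hxc, ← mul_inv_rev, ← sq]
      rw [h3] at h2
      exact inv_mem_iff.mp h2
    have hc4 : c ^ 4 = 1 := by
      have h2 : x⁻¹ * c ^ 2 * x = c ^ 2 := by
        have := (Subgroup.commutator_eq_bot_iff_le_centralizer.mp hQD hc2) x hx
        rw [mul_assoc, ← this, inv_mul_cancel_left]
      have h3 : x⁻¹ * c ^ 2 * x = (c ^ 2)⁻¹ := by
        calc x⁻¹ * c ^ 2 * x = (x⁻¹ * c * x) ^ 2 := by rw [sq, sq]; group
          _ = (c ^ 2)⁻¹ := by rw [hxc, inv_pow]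
      rw [h2] at h3
      calc c ^ 4 = c ^ 2 * c ^ 2 := by rw [← pow_add]
        _ = 1 := by nth_rw 2 [h3]; exact mul_inv_cancel _
    have hgc := h4 c hcQ hc4
    have hit : ∀ k : ℕ, g ^ k * x * (g ^ k)⁻¹ = x * c ^ k := by
      intro k
      induction k with
      | zero => simp
      | succ k ihk =>
        have hk : g * c ^ k * g⁻¹ = c ^ k := by rw [← conj_pow, hgc]
        calc g ^ (k + 1) * x * (g ^ (k + 1))⁻¹ = g * (g ^ k * x * (g ^ k)⁻¹) * g⁻¹ := by
              rw [pow_succ']; group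
          _ = g * x * g⁻¹ * (g * c ^ k * g⁻¹) := by rw [ihk]; group
          _ = x * c ^ (k + 1) := by rw [hk, hgx, pow_succ']; group
    have hcn : c ^ orderOf g = 1 := by
      have := hit (orderOf g)
      rw [pow_orderOf_eq_one, one_mul, inv_one, mul_one] at this
      exact mul_eq_left.mp this.symm
    have : c = 1 := orderOf_eq_one_iff.mp (Nat.eq_one_of_dvd_coprimes (hg.pow_right 2)
      (orderOf_dvd_of_pow_eq_one hcn) (orderOf_dvd_of_pow_eq_one (by norm_num [hc4])))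
    rw [hgx, this, mul_one]

/-- If every 2-element of the finite group G that is conjugate to its inverse lies in the centre of G, then G has a normal 2-complement. -/
theorem result {G : Type*} [Group G] [Finite G] (h : ∀ x : G, (∃ j : ℕ, orderOf x = 2 ^ j) → IsConj x x⁻¹ → x ∈ Subgroup.center G) : Cfsg.HasNormalPComplement 2 G := by
  refine Cfsg.Agent.Lib.Transfer.hasNormalPComplement_of_frobenius default fun Q hQ g hg hgo => ?_
  intro x hx
  refine (mul_inv_eq_iff_eq_mul.mp (centralizes_of_four g hgo _ Q rfl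
    ((default : Sylow 2 G).2.to_le hQ) hg ?_ x hx)).symm
  intro x hx hx4
  have hpow : ∀ z ∈ Q, ∃ j : ℕ, orderOf z = 2 ^ j := fun z hz => by
    obtain ⟨k, hk⟩ := ((default : Sylow 2 G).2.to_le hQ) ⟨z, hz⟩
    obtain ⟨j, -, hj⟩ := (Nat.dvd_prime_pow Nat.prime_two).mp
      (orderOf_dvd_of_pow_eq_one (congrArg Subtype.val hk : z ^ 2 ^ k = 1))
    exact ⟨j, hj⟩
  have hx2 : x ^ 2 ∈ Subgroup.center G := h _ (hpow _ (pow_mem hx 2)) (by
    rw [show (x ^ 2)⁻¹ = x ^ 2 from inv_eq_of_mul_eq_one_right (by rw [← pow_add]; exact hx4)])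
  set y := g * x * g⁻¹ with hy
  have hyQ : y ∈ Q := ((Subgroup.mem_set_normalizer_iff.mp hg) x).mp hx
  have hy2 : y ^ 2 = x ^ 2 := by
    rw [hy, conj_pow, Subgroup.mem_center_iff.mp hx2 g, mul_inv_cancel_right]
  have hz : x * y ∈ Subgroup.center G := h _ (hpow _ (mul_mem hx hyQ)) (isConj_iff.mpr ⟨x⁻¹, by
    rw [inv_inv]
    refine eq_inv_of_mul_eq_one_left ?_
    calc x⁻¹ * (x * y) * x * (x * y) = y * x ^ 2 * y := by rw [sq]; group
      _ = y * y * x ^ 2 := by rw [mul_assoc, ← Subgroup.mem_center_iff.mp hx2 y, ← mul_assoc]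
      _ = 1 := by rw [← sq, hy2, ← pow_add]; exact hx4⟩)
  have hcy : Commute (g ^ 2) x := by
    have h1 : g * y * g⁻¹ = x := by
      have h2 : y = x⁻¹ * (x * y) := by group
      have h3 := Subgroup.mem_center_iff.mp hz g
      calc g * y * g⁻¹ = g * x⁻¹ * g⁻¹ * (g * (x * y) * g⁻¹) := by
            conv_lhs => rw [h2]
            group
        _ = y⁻¹ * (x * y) := by rw [h3, hy]; group
        _ = (x * y) * y⁻¹ := Subgroup.mem_center_iff.mp hz y⁻¹
        _ = x := by group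
    rw [commute_iff_eq, ← mul_inv_eq_iff_eq_mul]
    calc g ^ 2 * x * (g ^ 2)⁻¹ = g * (g * x * g⁻¹) * g⁻¹ := by rw [sq]; group
      _ = x := h1
  obtain ⟨m, hm⟩ := exists_pow_eq_self_of_coprime (x := g) (n := 2) hgo.symm
  have : Commute g x := hm ▸ hcy.pow_left m
  rw [hy, this.eq, mul_inv_cancel_right]

end Cfsg.Agent.S3862
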