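import Cfsg.Statements.S3803
import Cfsg.Agent.S3862
import Cfsg.Agent.Lib.Cores.Frattini
import Cfsg.Agent.Lib.Coprime.Action
import Cfsg.Agent.Lib.Involutions.BaerSuzuki

set_option autoImplicit false
open Cfsg

namespace Cfsg.Agent.S3803

variable {H : Type*} [Group H] [Finite H]

theorem fixes_cyclic {a : H} (ha : Nat.Coprime (orderOf a) 2) {E : Subgroup H} (hE : IsPGroup 2 E)
    (hc : IsCyclic E) (hn : a ∈ Subgroup.normalizer (E : Set H)) : ∀ x ∈ E, a * x * a⁻¹ = x := by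
  let φ : Subgroup.normalizer (E : Set H) →* MulAut E := Subgroup.normalizerMonoidHom E
  have h1 : orderOf (φ ⟨a, hn⟩) = 1 := by
    refine Nat.eq_one_of_dvd_coprimes ?_ ((orderOf_map_dvd φ _).trans (dvd_of_eq (Subgroup.orderOf_mk _ _)))
      (orderOf_dvd_natCard _)
    obtain ⟨k, hk⟩ := hE.exists_card_eq
    rw [IsCyclic.card_mulAut, hk]
    rcases Nat.eq_zero_or_pos k with rfl | h0
    · simp
    · rw [Nat.totient_prime_pow Nat.prime_two h0]
      simpa using ha.pow_right (k - 1)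
  rw [orderOf_eq_one_iff] at h1
  intro x hx
  exact congrArg Subtype.val (congrArg (fun f : MulAut E => f ⟨x, hx⟩) h1)

theorem isCyclic_of_unique_coatom {E : Type*} [Group E] [Finite E] (M : Subgroup E) (hM : IsCoatom M)
    (h : ∀ M' : Subgroup E, IsCoatom M' → M' = M) : IsCyclic E := by
  obtain ⟨x, -, hx⟩ := SetLike.exists_of_lt (lt_top_iff_ne_top.mpr hM.1)
  refine ⟨x, fun y => ?_⟩
  rcases IsCoatomic.eq_top_or_exists_le_coatom (Subgroup.zpowers x) with htop | ⟨M', hM', hle⟩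
  · exact Subgroup.mem_zpowers_iff.mp (htop ▸ Subgroup.mem_top y : y ∈ Subgroup.zpowers x)
  · exact absurd (h M' hM' ▸ hle (Subgroup.mem_zpowers x)) hx

theorem centralizes_top {a : H} (ha : Nat.Coprime (orderOf a) 2) {E : Subgroup H} (hE : IsPGroup 2 E)
    {d : ℕ} (hcard : Nat.card E = 2 ^ (d + 1))
    (hinv : ∀ M : Subgroup H, M ≤ E → Nat.card M = 2 ^ d → a ∈ Subgroup.normalizer (M : Set H))
    (hcyc : IsCyclic E → a ∈ Subgroup.normalizer (E : Set H)) : ∀ x ∈ E, a * x * a⁻¹ = x := by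
  by_cases hc : IsCyclic E
  · exact fixes_cyclic ha hE hc (hcyc hc)
  have := hE.isNilpotent
  have hcard2 : ∀ M : Subgroup E, IsCoatom M → M.index = 2 ∧ Nat.card (M.map E.subtype) = 2 ^ d := by
    intro M hM
    have hp := (Cfsg.Agent.Lib.Cores.prime_index_of_isCoatom hM).2
    have hd : M.index ∣ 2 ^ (d + 1) := hcard ▸ M.index_dvd_card
    have h2 : M.index = 2 := (Nat.prime_dvd_prime_iff_eq hp Nat.prime_two).mp (hp.dvd_of_dvd_pow hd)
    refine ⟨h2, ?_⟩
    have h1 := M.card_mul_index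
    rw [h2, hcard, pow_succ] at h1
    rw [Subgroup.card_map_of_injective E.subtype_injective]
    exact Nat.eq_of_mul_eq_mul_right Nat.two_pos h1
  have hnt : Nontrivial E := Finite.one_lt_card_iff_nontrivial.mp
    (hcard ▸ one_lt_pow₀ Nat.one_lt_two (Nat.succ_ne_zero d))
  obtain ⟨M1, hM1⟩ : ∃ M : Subgroup E, IsCoatom M := by
    rcases IsCoatomic.eq_top_or_exists_le_coatom (⊥ : Subgroup E) with h | ⟨M, hM, -⟩
    · exact absurd h bot_ne_top
    · exact ⟨M, hM⟩
  obtain ⟨M2, hM2, hne⟩ : ∃ M : Subgroup E, IsCoatom M ∧ M ≠ M1 := by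
    by_contra hno
    push Not at hno
    exact hc (isCyclic_of_unique_coatom M1 hM1 hno)
  have hsup : M1 ⊔ M2 = ⊤ := hM1.2 _ (lt_of_le_of_ne le_sup_left fun h => hne
    ((hM2.le_iff.mp (le_sup_right.trans h.ge)).resolve_left hM1.1).symm)
  have hnorm : ∀ M : Subgroup E, IsCoatom M → a ∈ Subgroup.normalizer ((M.map E.subtype : Subgroup H) : Set H) :=
    fun M hM => hinv _ (Subgroup.map_subtype_le _) (hcard2 M hM).2
  have hEn : a ∈ Subgroup.normalizer (E : Set H) := by
    have : E = M1.map E.subtype ⊔ M2.map E.subtype := by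
      rw [← Subgroup.map_sup, hsup, ← MonoidHom.range_eq_map, Subgroup.range_subtype]
    rw [Cfsg.Agent.Lib.Involutions.mem_normalizer_iff_map_conj, this, Subgroup.map_sup,
      Cfsg.Agent.Lib.Involutions.mem_normalizer_iff_map_conj.mp (hnorm M1 hM1),
      Cfsg.Agent.Lib.Involutions.mem_normalizer_iff_map_conj.mp (hnorm M2 hM2)]
  have hgen : ∀ b ∈ Subgroup.zpowers a, ∀ k ∈ E, b * k * b⁻¹ * k⁻¹ ∈ (frattini E).map E.subtype := by
    intro b hb k hk
    have hbE : b ∈ Subgroup.normalizer (E : Set H) := Subgroup.zpowers_le.mpr hEn hb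
    have hbk : b * k * b⁻¹ ∈ E := (Subgroup.mem_set_normalizer_iff.mp hbE k).mp hk
    refine ⟨(⟨_, hbk⟩ : E) * (⟨k, hk⟩ : E)⁻¹, ?_, rfl⟩
    simp only [SetLike.mem_coe, frattini, Order.radical, Subgroup.mem_iInf, Set.mem_setOf_eq]
    intro M hM
    rw [Subgroup.mul_mem_iff_of_index_two (hcard2 M hM).1, inv_mem_iff]
    have hbM := Subgroup.mem_set_normalizer_iff.mp (Subgroup.zpowers_le.mpr (hnorm M hM) hb) k
    rw [SetLike.mem_coe, SetLike.mem_coe] at hbM
    have e1 : (⟨k, hk⟩ : E) ∈ M ↔ k ∈ M.map E.subtype :=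
      (Subgroup.mem_map_iff_mem E.subtype_injective (x := (⟨k, hk⟩ : E))).symm
    have e2 : (⟨_, hbk⟩ : E) ∈ M ↔ b * k * b⁻¹ ∈ M.map E.subtype :=
      (Subgroup.mem_map_iff_mem E.subtype_injective (x := (⟨_, hbk⟩ : E))).symm
    rw [e1, e2, hbM]
  have hcop : (Nat.card (Subgroup.zpowers a)).Coprime (Nat.card (frattini E)) := by
    obtain ⟨k, hk⟩ := (hE.to_subgroup (frattini E)).exists_card_eq
    rw [Nat.card_zpowers, hk]; exact ha.pow_right k
  intro x hx
  exact mul_inv_eq_iff_eq_mul.mpr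
    ((Cfsg.Agent.Lib.Coprime.le_centralizer_of_frattini hcop hgen (Subgroup.mem_zpowers a)) x hx).symm

/-- Let P be a 2-subgroup and A a subgroup of odd order of a finite group, with A normalizing P. Let D ≤ P with 1 < |D| < |P|. If every subgroup of P of order |D|, and also every subgroup of P of order 4 in case |D| = 2, is normalized by A, then A centralizes P. -/
theorem result {X : Type*} [Group X] [Finite X] (P A D : Subgroup X) (hP : IsPGroup 2 P) (hA : Odd (Nat.card A))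
    (hAP : A ≤ Subgroup.normalizer (P : Set X)) (hDP : D ≤ P) (hD1 : 1 < Nat.card D) (hD2 : Nat.card D < Nat.card P)
    (hinv : ∀ E : Subgroup X, E ≤ P → (Nat.card E = Nat.card D ∨ (Nat.card D = 2 ∧ Nat.card E = 4)) → A ≤ Subgroup.normalizer (E : Set X)) :
    A ≤ Subgroup.centralizer (P : Set X) := by
  intro a ha
  have hao : Nat.Coprime (orderOf a) 2 :=
    (Nat.coprime_two_right.mpr hA).coprime_dvd_left (Subgroup.orderOf_dvd_natCard A ha)
  obtain ⟨m, hm⟩ := hP.exists_card_eq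
  obtain ⟨d, -, hd⟩ := (Nat.dvd_prime_pow Nat.prime_two).mp (hm ▸ Subgroup.card_dvd_of_le hDP)
  have hd0 : 1 ≤ d := by
    by_contra h
    rw [show d = 0 by omega, pow_zero] at hd
    omega
  have hdm : d + 1 ≤ m := by
    rw [hd, hm] at hD2
    exact Nat.succ_le_of_lt ((Nat.pow_lt_pow_iff_right Nat.one_lt_two).mp hD2)
  have hcardof : ∀ E : Subgroup X, E ≤ P → Nat.card (E.subgroupOf P) = Nat.card E :=
    fun E hE => Nat.card_congr (Subgroup.subgroupOfEquivOfLe hE).toEquiv
  -- every subgroup of `P` of order at most `2 ^ e` lies in one of order `2 ^ e`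
  have hext : ∀ E : Subgroup X, E ≤ P → ∀ k e : ℕ, Nat.card E = 2 ^ k → k ≤ e → e ≤ m →
      ∃ K : Subgroup X, K ≤ P ∧ Nat.card K = 2 ^ e ∧ E ≤ K := by
    intro E hEP k e hk hke hem
    obtain ⟨K, hK, hle⟩ := Sylow.exists_subgroup_card_pow_prime_le 2 (n := k) (m := e)
      (by rw [hm]; exact pow_dvd_pow 2 hem) (E.subgroupOf P) (by rw [hcardof E hEP, hk]) hke
    refine ⟨K.map P.subtype, Subgroup.map_subtype_le _,
      by rw [Subgroup.card_map_of_injective P.subtype_injective, hK], fun x hx => ?_⟩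
    exact ⟨⟨x, hEP hx⟩, hle hx, rfl⟩
  have hfour : ∀ x ∈ P, x ^ 4 = 1 → a * x * a⁻¹ = x := by
    intro x hx hx4
    have hxP : Subgroup.zpowers x ≤ P := Subgroup.zpowers_le.mpr hx
    obtain ⟨k, hk2, hk⟩ := (Nat.dvd_prime_pow Nat.prime_two).mp
      (show orderOf x ∣ 2 ^ 2 from orderOf_dvd_of_pow_eq_one (by norm_num [hx4]))
    have hxc : Nat.card (Subgroup.zpowers x) = 2 ^ k := by rw [Nat.card_zpowers, hk]
    rcases Nat.lt_or_ge d k with hdk | hkd
    · -- `|D| = 2` and `x` has order four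
      have h1 : d = 1 := by omega
      have h2 : k = 2 := by omega
      refine fixes_cyclic hao (hP.to_le hxP) inferInstance (hinv _ hxP (Or.inr ⟨?_, ?_⟩) ha) x
        (Subgroup.mem_zpowers x)
      · rw [hd, h1, pow_one]
      · rw [hxc, h2]; norm_num
    · obtain ⟨E, hEP, hEc, hxE⟩ := hext _ hxP k d hxc hkd (by omega)
      obtain ⟨K, hKP, hKc, hEK⟩ := hext E hEP d (d + 1) hEc (Nat.le_succ d) hdm
      by_cases hc : IsCyclic K
      · have : IsCyclic E :=
          isCyclic_of_injective (Subgroup.inclusion hEK) (Subgroup.inclusion_injective hEK)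
        exact fixes_cyclic hao (hP.to_le hEP) this (hinv E hEP (Or.inl (hEc.trans hd.symm)) ha) x
          (hxE (Subgroup.mem_zpowers x))
      · exact centralizes_top hao (hP.to_le hKP) hKc
          (fun M hM hMc => hinv M (hM.trans hKP) (Or.inl (hMc.trans hd.symm)) ha)
          (fun h => absurd h hc) x (hEK (hxE (Subgroup.mem_zpowers x)))
  intro x hx
  exact (mul_inv_eq_iff_eq_mul.mp
    (Cfsg.Agent.S3862.centralizes_of_four a hao _ P rfl hP (hAP ha) hfour x hx)).symm

end Cfsg.Agent.S3803
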