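import Cfsg.Statements.S3804
import Cfsg.Agent.Lib.LocalEven2.CD

set_option autoImplicit false
open Cfsg

namespace Cfsg.Agent.S3804

open Cfsg.Agent.Lib.LocalEven2
open scoped Pointwise

/-- Let G and H be subgroups of a finite group with G normalizing H, fix a real number α > 0, and for a subgroup A of G put m(A) = |A|^α · |C_H(A)|. Let A and B be nontrivial subgroups of G at which m attains its maximum over all nontrivial subgroups of G, and assume that A ∩ B ≠ 1 or that this maximum is at least |H|. Then AB = BA is a subgroup at which m is again maximal, C_H(A ∩ B) = C_H(A) C_H(B), and if A ∩ B ≠ 1 then m is maximal at A ∩ B as well. -/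
theorem result {X : Type*} [Group X] [Finite X] (G H : Subgroup X) (hGH : G ≤ Subgroup.normalizer (H : Set X)) (α : ℝ) (hα : 0 < α)
    (A B : Subgroup X) (hA : A ≤ G) (hB : B ≤ G) (hA1 : A ≠ ⊥) (hB1 : B ≠ ⊥)
    (hAmax : ∀ A' : Subgroup X, A' ≤ G → A' ≠ ⊥ → (fun A : Subgroup X => ((Nat.card A : ℝ) ^ α) * (Nat.card ↥(H ⊓ Subgroup.centralizer (A : Set X)) : ℝ)) A' ≤ (fun A : Subgroup X => ((Nat.card A : ℝ) ^ α) * (Nat.card ↥(H ⊓ Subgroup.centralizer (A : Set X)) : ℝ)) A)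
    (hBmax : ∀ A' : Subgroup X, A' ≤ G → A' ≠ ⊥ → (fun A : Subgroup X => ((Nat.card A : ℝ) ^ α) * (Nat.card ↥(H ⊓ Subgroup.centralizer (A : Set X)) : ℝ)) A' ≤ (fun A : Subgroup X => ((Nat.card A : ℝ) ^ α) * (Nat.card ↥(H ⊓ Subgroup.centralizer (A : Set X)) : ℝ)) B)
    (hcase : A ⊓ B ≠ ⊥ ∨ (Nat.card H : ℝ) ≤ (fun A : Subgroup X => ((Nat.card A : ℝ) ^ α) * (Nat.card ↥(H ⊓ Subgroup.centralizer (A : Set X)) : ℝ)) A) :
    (∀ a ∈ A, ∀ b ∈ B, ∃ b' ∈ B, ∃ a' ∈ A, a * b = b' * a') ∧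
    (∀ A' : Subgroup X, A' ≤ G → A' ≠ ⊥ → (fun A : Subgroup X => ((Nat.card A : ℝ) ^ α) * (Nat.card ↥(H ⊓ Subgroup.centralizer (A : Set X)) : ℝ)) A' ≤ (fun A : Subgroup X => ((Nat.card A : ℝ) ^ α) * (Nat.card ↥(H ⊓ Subgroup.centralizer (A : Set X)) : ℝ)) (A ⊔ B)) ∧
    (∀ h ∈ H ⊓ Subgroup.centralizer ((A ⊓ B : Subgroup X) : Set X), ∃ u ∈ H ⊓ Subgroup.centralizer (A : Set X), ∃ v ∈ H ⊓ Subgroup.centralizer (B : Set X), h = u * v) ∧
    (A ⊓ B ≠ ⊥ → ∀ A' : Subgroup X, A' ≤ G → A' ≠ ⊥ → (fun A : Subgroup X => ((Nat.card A : ℝ) ^ α) * (Nat.card ↥(H ⊓ Subgroup.centralizer (A : Set X)) : ℝ)) A' ≤ (fun A : Subgroup X => ((Nat.card A : ℝ) ^ α) * (Nat.card ↥(H ⊓ Subgroup.centralizer (A : Set X)) : ℝ)) (A ⊓ B)) := by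
  simp only at hAmax hBmax hcase ⊢
  clear hGH
  let m : Subgroup X → ℝ := fun A =>
    ((Nat.card A : ℝ) ^ α) * (Nat.card ↥(H ⊓ Subgroup.centralizer (A : Set X)) : ℝ)
  have hM : m A = m B := le_antisymm (hBmax A hA hA1) (hAmax B hB hB1)
  have hs : m (A ⊔ B) ≤ m A := hAmax _ (sup_le hA hB) fun e => hA1 (le_bot_iff.mp (e ▸ le_sup_left))
  have hi : m (A ⊓ B) ≤ m A := by
    by_cases h : A ⊓ B = ⊥
    · refine le_trans ?_ (hcase.resolve_left (not_not.mpr h))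
      simp only [m, h, Subgroup.card_bot, Nat.cast_one, Real.one_rpow, one_mul, Nat.cast_le]
      exact Subgroup.card_le_of_le inf_le_left
    · exact hAmax _ (inf_le_left.trans hA) h
  set CA := H ⊓ Subgroup.centralizer (A : Set X) with hCA
  set CB := H ⊓ Subgroup.centralizer (B : Set X) with hCB
  have hinf : CA ⊓ CB = H ⊓ Subgroup.centralizer ((A ⊔ B : Subgroup X) : Set X) := by
    rw [CD.centralizer_sup, hCA, hCB, ← inf_inf_distrib_left]
  have hsup : CA ⊔ CB ≤ H ⊓ Subgroup.centralizer ((A ⊓ B : Subgroup X) : Set X) :=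
    le_inf (sup_le inf_le_left inf_le_left)
      ((sup_le_sup inf_le_right inf_le_right).trans (CD.centralizer_sup_le_inf A B))
  have h1 := CD.card_mul_le_sup A B
  have h2 := CD.card_mul_le_sup CA CB
  rw [hinf] at h2
  have h2' := h2.trans (Nat.mul_le_mul_right _ (Subgroup.card_le_of_le hsup))
  have hmA : 0 < m A := mul_pos (Real.rpow_pos_of_pos (by exact_mod_cast Nat.card_pos) _) (by exact_mod_cast Nat.card_pos)
  -- the two product inequalities, in real numbers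
  have e1 : m A * m B = ((Nat.card A * Nat.card B : ℕ) : ℝ) ^ α * ((Nat.card CA * Nat.card CB : ℕ) : ℝ) := by
    simp only [m, Nat.cast_mul]
    rw [Real.mul_rpow (by positivity) (by positivity)]
    ring
  have e2 : m (A ⊔ B) * m (A ⊓ B) = ((Nat.card ↥(A ⊔ B) * Nat.card ↥(A ⊓ B) : ℕ) : ℝ) ^ α *
      ((Nat.card ↥(H ⊓ Subgroup.centralizer ((A ⊓ B : Subgroup X) : Set X)) *
        Nat.card ↥(H ⊓ Subgroup.centralizer ((A ⊔ B : Subgroup X) : Set X)) : ℕ) : ℝ) := by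
    simp only [m, Nat.cast_mul]
    rw [Real.mul_rpow (by positivity) (by positivity)]
    ring
  have hle : m (A ⊔ B) * m (A ⊓ B) ≤ m A * m B := by
    rw [← hM]
    exact mul_le_mul hs hi (by positivity) hmA.le
  have hr1 : ((Nat.card A * Nat.card B : ℕ) : ℝ) ^ α ≤ ((Nat.card ↥(A ⊔ B) * Nat.card ↥(A ⊓ B) : ℕ) : ℝ) ^ α :=
    Real.rpow_le_rpow (by positivity) (by exact_mod_cast h1) hα.le
  have hr2 : ((Nat.card CA * Nat.card CB : ℕ) : ℝ) ≤ _ := Nat.cast_le.mpr h2'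
  have hp1 : (0 : ℝ) < ((Nat.card A * Nat.card B : ℕ) : ℝ) ^ α :=
    Real.rpow_pos_of_pos (by exact_mod_cast Nat.mul_pos Nat.card_pos Nat.card_pos) _
  have hp2 : (0 : ℝ) < ((Nat.card CA * Nat.card CB : ℕ) : ℝ) := by
    exact_mod_cast Nat.mul_pos Nat.card_pos Nat.card_pos
  rw [e1, e2] at hle
  have hq1 : Nat.card ↥(A ⊔ B) * Nat.card ↥(A ⊓ B) ≤ Nat.card A * Nat.card B := by
    by_contra hlt
    rw [not_le] at hlt
    have := Real.rpow_lt_rpow (by positivity) (Nat.cast_lt (α := ℝ).mpr hlt) hα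
    have := mul_lt_mul this hr2 hp2 (by positivity)
    linarith
  have hq2 : Nat.card ↥(H ⊓ Subgroup.centralizer ((A ⊓ B : Subgroup X) : Set X)) *
      Nat.card ↥(H ⊓ Subgroup.centralizer ((A ⊔ B : Subgroup X) : Set X)) ≤ Nat.card CA * Nat.card CB := by
    by_contra hlt
    rw [not_le] at hlt
    have := mul_lt_mul' hr1 (Nat.cast_lt (α := ℝ).mpr hlt) (by positivity) (hp1.trans_le hr1)
    linarith
  have heq : m (A ⊔ B) * m (A ⊓ B) = m A * m A := by
    rw [show m A * m A = m A * m B by rw [← hM]]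
    rw [e1, e2, le_antisymm h1 hq1, le_antisymm h2' hq2]
  have hAB := CD.sup_eq_mul_of_card_le A B hq1
  refine ⟨?_, ?_, ?_, ?_⟩
  · intro a ha b hb
    have hmem : (a * b)⁻¹ ∈ ((A ⊔ B : Subgroup X) : Set X) :=
      inv_mem (Subgroup.mul_mem_sup ha hb)
    rw [hAB] at hmem
    obtain ⟨a', ha', b', hb', e⟩ := hmem
    refine ⟨b'⁻¹, inv_mem hb', a'⁻¹, inv_mem ha', ?_⟩
    rw [← mul_inv_rev, show a' * b' = (a * b)⁻¹ from e, inv_inv]
  · intro A' hA' hA'1
    refine (hAmax A' hA' hA'1).trans ?_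
    show m A ≤ m (A ⊔ B)
    by_contra hlt
    rw [not_le] at hlt
    have := mul_lt_mul' hi hlt (by positivity) hmA
    linarith
  · intro h hh
    have hc : Nat.card ↥(H ⊓ Subgroup.centralizer ((A ⊓ B : Subgroup X) : Set X)) ≤
        Nat.card ↥(CA ⊔ CB) := by
      have h3 := hq2.trans h2
      exact Nat.le_of_mul_le_mul_right h3 Nat.card_pos
    have he := Subgroup.eq_of_le_of_card_ge hsup hc
    have hmul := CD.sup_eq_mul_of_card_le CA CB (by
      rw [hinf]; exact (Nat.mul_le_mul_right _ (Subgroup.card_le_of_le hsup)).trans hq2)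
    have hmem : h ∈ ((CA ⊔ CB : Subgroup X) : Set X) := by rw [SetLike.mem_coe, he]; exact hh
    rw [hmul] at hmem
    obtain ⟨u, hu, v, hv, e⟩ := hmem
    exact ⟨u, hu, v, hv, e.symm⟩
  · intro hne A' hA' hA'1
    refine (hAmax A' hA' hA'1).trans ?_
    show m A ≤ m (A ⊓ B)
    by_contra hlt
    rw [not_le] at hlt
    have := mul_lt_mul' hs hlt (by positivity) hmA
    linarith

end Cfsg.Agent.S3804
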