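import Cfsg.Statements.S3807
import Cfsg.Agent.Lib.Cores.SmallPGroup
import Mathlib.GroupTheory.Commutator.Basic

set_option autoImplicit false
open Cfsg

namespace Cfsg.Agent.S3807

open scoped commutatorElement

/-- Let S be a non-abelian finite p-group with an abelian subgroup A of index p. Then [S : Z(S)] = p·#[S,S], and either [S,S] has order p, S/Z(S) is elementary abelian of order p², and S has exactly p + 1 abelian subgroups of index p; or [S,S] has order at least p² and A is the only abelian subgroup of index p in S. -/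
theorem result {S : Type*} [Group S] [Finite S] (p : ℕ) [Fact p.Prime] (hS : IsPGroup p S) (hna : ¬ IsMulCommutative S)
    (A : Subgroup S) (hA : IsMulCommutative ↥A) (hAi : A.index = p) :
    (Subgroup.center S).index = p * Nat.card (commutator S) ∧
      ((Nat.card (commutator S) = p ∧ Cfsg.IsElementaryAbelian p (⊤ : Subgroup (S ⧸ Subgroup.center S)) ∧
          Nat.card (S ⧸ Subgroup.center S) = p ^ 2 ∧
          Nat.card {B : Subgroup S // IsMulCommutative ↥B ∧ B.index = p} = p + 1) ∨
        (p ^ 2 ≤ Nat.card (commutator S) ∧ ∀ B : Subgroup S, IsMulCommutative ↥B → B.index = p → B = A)) := by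
  have hp := (Fact.out : p.Prime)
  obtain ⟨n, hn⟩ := IsPGroup.iff_card.mp hS
  have hn0 : n ≠ 0 := by
    rintro rfl
    have := A.index_dvd_card
    rw [hn, hAi, pow_zero, Nat.dvd_one] at this
    exact hp.ne_one this
  haveI : A.Normal := Subgroup.normal_of_index_eq_minFac_card (by
    rw [hAi, hn, Nat.pow_minFac hn0, hp.minFac_eq])
  have hAc : ∀ a ∈ A, ∀ b ∈ A, a * b = b * a := fun a ha b hb =>
    congrArg Subtype.val (hA.is_comm.comm ⟨a, ha⟩ ⟨b, hb⟩)
  obtain ⟨t, -, ht⟩ := SetLike.exists_of_lt (lt_top_iff_ne_top.mpr fun e : A = ⊤ => by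
    rw [e, Subgroup.index_top] at hAi; exact hp.ne_one hAi.symm)
  have hgen : ∀ {x : S}, x ∉ A → A ⊔ Subgroup.zpowers x = ⊤ := by
    intro x hx
    have hlt : A < A ⊔ Subgroup.zpowers x := lt_of_le_of_ne le_sup_left fun e => hx (by
      rw [e]; exact Subgroup.mem_sup_right (Subgroup.mem_zpowers x))
    have h2 := Subgroup.relIndex_mul_index hlt.le
    rcases (Nat.dvd_prime hp).mp (hAi ▸ Subgroup.index_dvd_of_le hlt.le) with h1 | h1
    · exact Subgroup.index_eq_one.mp h1
    · rw [hAi, h1] at h2
      exact absurd (Subgroup.relIndex_eq_one.mp ((mul_eq_right₀ hp.ne_zero).mp h2)) hlt.not_ge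
  have hZA : Subgroup.center S ≤ A := by
    intro z hz
    by_contra hzA
    refine hna ⟨⟨fun a b => ?_⟩⟩
    have hle : A ⊔ Subgroup.zpowers z ≤ Subgroup.centralizer ((A ⊔ Subgroup.zpowers z : Subgroup S) : Set S) := by
      rw [Subgroup.le_centralizer_iff]
      refine sup_le ?_ ?_
      · rw [Subgroup.le_centralizer_iff]
        exact sup_le (fun a ha => Subgroup.mem_centralizer_iff.mpr fun b hb => hAc b hb a ha)
          (Subgroup.zpowers_le.mpr (Subgroup.mem_centralizer_iff.mpr fun b _ => Subgroup.mem_center_iff.mp hz b))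
      · rw [Subgroup.zpowers_le]
        exact Subgroup.mem_centralizer_iff.mpr fun b _ => Subgroup.mem_center_iff.mp hz b
    rw [hgen hzA] at hle
    exact (Subgroup.mem_centralizer_iff.mp (hle (Subgroup.mem_top b)) a (Subgroup.mem_top a))
  have hmem : ∀ a ∈ A, t * a * t⁻¹ * a⁻¹ ∈ A := fun a ha =>
    mul_mem (Subgroup.Normal.conj_mem inferInstance a ha t) (inv_mem ha)
  let φ : A →* A := MonoidHom.mk' (fun a => ⟨t * a * t⁻¹ * (a : S)⁻¹, hmem a a.2⟩) fun a b =>
    Subtype.ext (by
      show t * ((a : S) * b) * t⁻¹ * ((a : S) * b)⁻¹ = _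
      calc t * ((a : S) * b) * t⁻¹ * ((a : S) * b)⁻¹
          = t * a * t⁻¹ * ((t * b * t⁻¹ * (b : S)⁻¹) * (a : S)⁻¹) := by group
        _ = _ := by rw [hAc _ (hmem b b.2) _ (inv_mem a.2)]; simp [mul_assoc])
  set R := φ.range.map A.subtype with hR
  haveI hRn : R.Normal := by
    refine Subgroup.normalizer_eq_top_iff.mp (top_le_iff.mp ?_)
    rw [← hgen ht]
    have hconj : ∀ c : S, (∀ r ∈ R, c * r * c⁻¹ ∈ R) → c ∈ Subgroup.normalizer (R : Set S) := by
      intro c hc
      refine Subgroup.mem_normalizer_iff.mpr fun r => ⟨hc r, fun h => ?_⟩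
      -- conjugation by c is a bijection of the finite set R
      have hsurj : Function.Surjective (fun r : R => (⟨c * r * c⁻¹, hc r r.2⟩ : R)) :=
        Finite.injective_iff_surjective.mp fun x y e => Subtype.ext
          (mul_left_cancel (mul_right_cancel (congrArg Subtype.val e)))
      obtain ⟨r', hr'⟩ := hsurj ⟨_, h⟩
      rw [← mul_left_cancel (mul_right_cancel (congrArg Subtype.val hr'))]
      exact r'.2
    refine sup_le (fun a ha => hconj a fun r hr => ?_) (Subgroup.zpowers_le.mpr (hconj t fun r hr => ?_))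
    · have : r ∈ A := Subgroup.map_subtype_le _ hr
      rw [hAc a ha r this, mul_inv_cancel_right]; exact hr
    · obtain ⟨w, ⟨a, rfl⟩, rfl⟩ := hr
      refine ⟨φ ⟨t * a * t⁻¹, Subgroup.Normal.conj_mem inferInstance _ a.2 t⟩, ⟨_, rfl⟩, ?_⟩
      show t * (t * a * t⁻¹) * t⁻¹ * (t * (a : S) * t⁻¹)⁻¹ = t * (t * a * t⁻¹ * (a : S)⁻¹) * t⁻¹
      group
  have hcomm : commutator S = R := by
    refine le_antisymm ?_ ?_
    · refine Subgroup.Normal.quotient_commutative_iff_commutator_le.mp ?_
      have hle : ∀ x : S, x ∈ A ∨ x = t → ∀ y : S, y ∈ A ∨ y = t →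
          (QuotientGroup.mk x : S ⧸ R) * QuotientGroup.mk y = QuotientGroup.mk y * QuotientGroup.mk x := by
        rintro x hx y hy
        have key : ∀ a ∈ A, (QuotientGroup.mk t : S ⧸ R) * QuotientGroup.mk a = QuotientGroup.mk a * QuotientGroup.mk t := by
          intro a ha
          rw [← QuotientGroup.mk_mul, ← QuotientGroup.mk_mul, QuotientGroup.eq_iff_div_mem]
          refine ⟨φ ⟨a, ha⟩, ⟨_, rfl⟩, ?_⟩
          show t * a * t⁻¹ * a⁻¹ = t * a / (a * t)
          rw [div_eq_mul_inv, mul_inv_rev, ← mul_assoc]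
        rcases hx with hx | rfl <;> rcases hy with hy | rfl
        · rw [← QuotientGroup.mk_mul, hAc x hx y hy, QuotientGroup.mk_mul]
        · exact (key x hx).symm
        · exact key y hy
        · rfl
      set f := QuotientGroup.mk' R with hf
      have hg : (A ⊔ Subgroup.zpowers t).map f = ⊤ := by
        rw [hgen ht, Subgroup.map_top_of_surjective _ (QuotientGroup.mk'_surjective R)]
      have hc : (A ⊔ Subgroup.zpowers t).map f ≤ Subgroup.centralizer (((A ⊔ Subgroup.zpowers t).map f : Subgroup _) : Set (S ⧸ R)) := by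
        rw [Subgroup.map_sup, MonoidHom.map_zpowers, Subgroup.le_centralizer_iff]
        refine sup_le ?_ (Subgroup.zpowers_le.mpr ?_)
        · rw [Subgroup.le_centralizer_iff]
          refine sup_le ?_ (Subgroup.zpowers_le.mpr ?_)
          · rintro _ ⟨a, ha, rfl⟩
            exact Subgroup.mem_centralizer_iff.mpr fun q ⟨b, hb, e⟩ => e ▸ hle b (Or.inl hb) a (Or.inl ha)
          · exact Subgroup.mem_centralizer_iff.mpr fun q ⟨b, hb, e⟩ => e ▸ hle b (Or.inl hb) t (Or.inr rfl)
        · refine Subgroup.mem_centralizer_iff.mpr ?_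
          intro q hq
          have hT : A.map f ⊔ Subgroup.zpowers (f t) ≤ Subgroup.centralizer ({f t} : Set _) := by
            refine sup_le ?_ (Subgroup.zpowers_le.mpr (Subgroup.mem_centralizer_singleton_iff.mpr rfl))
            rintro _ ⟨b, hb, rfl⟩
            exact Subgroup.mem_centralizer_singleton_iff.mpr (hle b (Or.inl hb) t (Or.inr rfl))
          exact Subgroup.mem_centralizer_singleton_iff.mp (hT hq)
      rw [hg] at hc
      exact ⟨⟨fun a b => Subgroup.mem_centralizer_iff.mp (hc (Subgroup.mem_top b)) a (Subgroup.mem_top a)⟩⟩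
    · rintro _ ⟨w, ⟨a, rfl⟩, rfl⟩
      exact Subgroup.commutator_mem_commutator (Subgroup.mem_top t) (Subgroup.mem_top (a : S))
  have hker : φ.ker.map A.subtype = Subgroup.center S := by
    apply le_antisymm
    · rintro _ ⟨a, ha, rfl⟩
      have hat : t * a = a * t := mul_inv_eq_iff_eq_mul.mp (mul_inv_eq_one.mp (congrArg Subtype.val (MonoidHom.mem_ker.mp ha)))
      have hle : A ⊔ Subgroup.zpowers t ≤ Subgroup.centralizer ({(a : S)} : Set S) :=
        sup_le (fun b hb => Subgroup.mem_centralizer_singleton_iff.mpr (hAc b hb a a.2))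
          (Subgroup.zpowers_le.mpr (Subgroup.mem_centralizer_singleton_iff.mpr hat))
      rw [hgen ht] at hle
      exact Subgroup.mem_center_iff.mpr fun g => Subgroup.mem_centralizer_singleton_iff.mp (hle (Subgroup.mem_top g))
    · intro z hz
      refine ⟨⟨z, hZA hz⟩, MonoidHom.mem_ker.mpr (Subtype.ext ?_), rfl⟩
      show t * z * t⁻¹ * z⁻¹ = 1
      rw [Subgroup.mem_center_iff.mp hz t, mul_inv_cancel_right, mul_inv_cancel]
  have hidx : (Subgroup.center S).index = p * Nat.card (commutator S) := by
    have h1 := (Subgroup.center S).card_mul_index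
    have h2 := A.card_mul_index
    have h3 := φ.ker.card_mul_index
    rw [Subgroup.index_ker] at h3
    rw [hcomm, hR, Subgroup.card_map_of_injective A.subtype_injective]
    rw [← hker, Subgroup.card_map_of_injective A.subtype_injective, hker] at h1
    rw [hAi, ← h3, mul_assoc, mul_comm (Nat.card φ.range) p] at h2
    exact Nat.eq_of_mul_eq_mul_left Nat.card_pos (h1.trans h2.symm)
  refine ⟨hidx, ?_⟩
  obtain ⟨k, hk⟩ := IsPGroup.iff_card.mp (hS.to_subgroup (commutator S))
  have hk0 : k ≠ 0 := by
    rintro rfl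
    rw [pow_zero, Subgroup.card_eq_one] at hk
    refine hna ⟨⟨fun a b => commutatorElement_eq_one_iff_mul_comm.mp ?_⟩⟩
    rw [← Subgroup.mem_bot, ← hk]
    exact Subgroup.commutator_mem_commutator (Subgroup.mem_top a) (Subgroup.mem_top b)
  rcases (show k = 1 ∨ 2 ≤ k by omega) with rfl | hk2
  · left
    rw [pow_one] at hk
    have hq : Nat.card (S ⧸ Subgroup.center S) = p ^ 2 := by
      rw [← Subgroup.index, hidx, hk, pow_two]
    haveI hqab : IsMulCommutative (S ⧸ Subgroup.center S) := IsPGroup.isMulCommutative_of_card_eq_prime_sq hq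
    have hexp : ∀ q : S ⧸ Subgroup.center S, q ^ p = 1 := by
      intro q
      by_contra hne
      obtain ⟨j, hj2, hj⟩ := (Nat.dvd_prime_pow hp).mp (hq ▸ orderOf_dvd_natCard q)
      have : j = 2 := by
        by_contra
        exact hne (orderOf_dvd_iff_pow_eq_one.mp (hj ▸ (pow_dvd_pow p (show j ≤ 1 by omega)).trans (by rw [pow_one])))
      haveI : IsCyclic (S ⧸ Subgroup.center S) :=
        isCyclic_of_orderOf_eq_card q (by rw [hj, this, hq])
      exact hna ⟨⟨commutative_of_cyclic_center_quotient (QuotientGroup.mk' (Subgroup.center S))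
        (by rw [QuotientGroup.ker_mk'])⟩⟩
    refine ⟨hk, ⟨⟨⟨fun a b => Subtype.ext (hqab.is_comm.comm _ _)⟩⟩, fun q _ => hexp q⟩, hq, ?_⟩
    refine Eq.trans ?_ (Cfsg.Agent.Lib.Cores.card_subgroups_of_order_sq hexp hq)
    set f := QuotientGroup.mk' (Subgroup.center S) with hf
    have hsurj : Function.Surjective f := QuotientGroup.mk'_surjective _
    have hZB : ∀ B : Subgroup S, IsMulCommutative ↥B → B.index = p → Subgroup.center S ≤ B := by
      intro B hB hBi z hz
      by_contra hzB
      haveI := hB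
      refine hna ⟨⟨fun a b => ?_⟩⟩
      have hlt : B < B ⊔ Subgroup.zpowers z := lt_of_le_of_ne le_sup_left fun e => hzB (by
        rw [e]; exact Subgroup.mem_sup_right (Subgroup.mem_zpowers z))
      have htop : B ⊔ Subgroup.zpowers z = ⊤ := by
        have h2 := Subgroup.relIndex_mul_index hlt.le
        rcases (Nat.dvd_prime hp).mp (hBi ▸ Subgroup.index_dvd_of_le hlt.le) with h1 | h1
        · exact Subgroup.index_eq_one.mp h1
        · rw [hBi, h1] at h2
          exact absurd (Subgroup.relIndex_eq_one.mp ((mul_eq_right₀ hp.ne_zero).mp h2)) hlt.not_ge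
      have hle : B ⊔ Subgroup.zpowers z ≤ Subgroup.centralizer ((B ⊔ Subgroup.zpowers z : Subgroup S) : Set S) := by
        rw [Subgroup.le_centralizer_iff]
        refine sup_le ?_ (Subgroup.zpowers_le.mpr (Subgroup.mem_centralizer_iff.mpr fun b _ => Subgroup.mem_center_iff.mp hz b))
        rw [Subgroup.le_centralizer_iff]
        exact sup_le (fun a ha => Subgroup.mem_centralizer_iff.mpr fun b hb =>
          congrArg Subtype.val (hB.is_comm.comm ⟨b, hb⟩ ⟨a, ha⟩))
          (Subgroup.zpowers_le.mpr (Subgroup.mem_centralizer_iff.mpr fun b _ => Subgroup.mem_center_iff.mp hz b))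
      rw [htop] at hle
      exact Subgroup.mem_centralizer_iff.mp (hle (Subgroup.mem_top b)) a (Subgroup.mem_top a)
    refine Nat.card_congr
      { toFun := fun B => ⟨B.1.map f, ?_⟩
        invFun := fun K => ⟨K.1.comap f, ?_, ?_⟩
        left_inv := fun B => Subtype.ext (Subgroup.comap_map_eq_self (by
          rw [hf, QuotientGroup.ker_mk']; exact hZB B.1 B.2.1 B.2.2))
        right_inv := fun K => Subtype.ext (Subgroup.map_comap_eq_self_of_surjective hsurj K.1) }
    · have h1 := (B.1.map f).card_mul_index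
      rw [B.1.index_map_eq hsurj (by rw [hf, QuotientGroup.ker_mk']; exact hZB B.1 B.2.1 B.2.2), B.2.2, hq, pow_two] at h1
      exact Nat.eq_of_mul_eq_mul_right hp.pos h1
    · set B := K.1.comap f with hB
      haveI : IsCyclic ↥K.1 := isCyclic_of_prime_card K.2
      refine ⟨⟨commutative_of_cyclic_center_quotient (f.subgroupComap K.1) ?_⟩⟩
      intro x hx
      refine Subgroup.mem_center_iff.mpr fun g => Subtype.ext ?_
      have : (x : S) ∈ Subgroup.center S := by
        have h1 := congrArg Subtype.val (MonoidHom.mem_ker.mp hx)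
        exact (QuotientGroup.eq_one_iff _).mp h1
      exact Subgroup.mem_center_iff.mp this g
    · rw [Subgroup.index_comap_of_surjective _ hsurj]
      have h1 := K.1.card_mul_index
      rw [K.2, hq, pow_two] at h1
      exact Nat.eq_of_mul_eq_mul_left hp.pos h1
  · right
    refine ⟨hk ▸ Nat.pow_le_pow_right hp.pos hk2, fun B hB hBi => ?_⟩
    by_contra hne
    haveI := hB
    have hinfZ : A ⊓ B ≤ Subgroup.center S := by
      obtain ⟨b, hbB, hbA⟩ := SetLike.not_le_iff_exists.mp fun h : B ≤ A => hne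
        (Subgroup.eq_of_le_of_card_ge h (Nat.le_of_mul_le_mul_right (le_of_eq (by
          have h5 := A.card_mul_index
          have h6 := B.card_mul_index
          rw [hAi] at h5
          rw [hBi] at h6
          omega)) hp.pos))
      intro x hx
      have hle : A ⊔ Subgroup.zpowers b ≤ Subgroup.centralizer ({x} : Set S) :=
        sup_le (fun a ha => Subgroup.mem_centralizer_singleton_iff.mpr (hAc a ha x hx.1))
          (Subgroup.zpowers_le.mpr (Subgroup.mem_centralizer_singleton_iff.mpr
            (congrArg Subtype.val (hB.is_comm.comm ⟨b, hbB⟩ ⟨x, hx.2⟩))))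
      rw [hgen hbA] at hle
      exact Subgroup.mem_center_iff.mpr fun g => Subgroup.mem_centralizer_singleton_iff.mp (hle (Subgroup.mem_top g))
    have h1 := Nat.le_of_dvd (Nat.pos_of_ne_zero Subgroup.index_ne_zero_of_finite) (Subgroup.index_dvd_of_le hinfZ)
    have h2 : (A ⊓ B).index ≤ A.index * B.index := Subgroup.index_inf_le
    rw [hAi, hBi] at h2
    rw [hidx, hk] at h1
    have h3 : p ^ (k + 1) ≤ p ^ 2 := by rw [pow_succ', pow_two]; exact h1.trans h2
    have := (Nat.pow_le_pow_iff_right hp.one_lt).mp h3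
    omega

end Cfsg.Agent.S3807
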