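import Cfsg.Statements.S3808
import Mathlib.GroupTheory.PGroup

set_option autoImplicit false
open Cfsg

namespace Cfsg.Agent.S3808

/-- Let S be a finite p-group with an extraspecial subgroup Q of index p. Then either Z(S) = Z(Q), or S = Q·Z(S) and Z(S) has order p². -/
theorem result {S : Type*} [Group S] [Finite S] (p : ℕ) [Fact p.Prime] (hS : IsPGroup p S) (Q : Subgroup S) (hQ : Cfsg.IsExtraspecial p ↥Q) (hQi : Q.index = p) :
    Subgroup.center S = (Subgroup.center ↥Q).map Q.subtype ∨
      (Q ⊔ Subgroup.center S = ⊤ ∧ Nat.card (Subgroup.center S) = p ^ 2) := by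
  have hp := (Fact.out : p.Prime)
  set Z := (Subgroup.center ↥Q).map Q.subtype with hZdef
  have hZcard : Nat.card Z = p := by
    rw [hZdef, Subgroup.card_map_of_injective Q.subtype_injective, hQ.2]
  have hQn : Q.Normal := Subgroup.normal_of_index_eq_minFac_card (by
    obtain ⟨k, hk⟩ := IsPGroup.iff_card.mp hS
    have : k ≠ 0 := by
      rintro rfl
      have := Q.index_dvd_card
      rw [hk, hQi, pow_zero, Nat.dvd_one] at this
      exact hp.ne_one this
    rw [hQi, hk, Nat.pow_minFac this, hp.minFac_eq])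
  have : Z.Normal := inferInstance
  have hZc : Z ≤ Subgroup.center S := by
    intro z hz
    rw [Subgroup.mem_center_iff]
    intro g
    have hnc := IsPGroup.card_modEq_card_fixedPoints (p := p)
      (G := ConjAct S) (hS.of_equiv ConjAct.toConjAct) (Z : Subgroup S)
    have h1 : (1 : Z) ∈ MulAction.fixedPoints (ConjAct S) Z := by
      intro c
      ext
      simp [ConjAct.Subgroup.val_conj_smul, ConjAct.smul_def]
    have hcard : Nat.card (MulAction.fixedPoints (ConjAct S) Z) = p := by
      have hle : Nat.card (MulAction.fixedPoints (ConjAct S) Z) ≤ Nat.card Z :=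
        Nat.card_le_card_of_injective _ Subtype.val_injective
      have hpos : 0 < Nat.card (MulAction.fixedPoints (ConjAct S) Z) :=
        @Nat.card_pos _ ⟨⟨1, h1⟩⟩ _
      rw [hZcard] at hnc hle
      have := hnc.symm.trans (Nat.modEq_zero_iff_dvd.mpr dvd_rfl)
      have := Nat.le_of_dvd hpos (Nat.modEq_zero_iff_dvd.mp this)
      omega
    have hall : MulAction.fixedPoints (ConjAct S) Z = Set.univ := by
      refine Set.eq_of_subset_of_ncard_le (Set.subset_univ _) ?_
      rw [Set.ncard_univ, ← Nat.card_coe_set_eq, hcard, hZcard]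
    have h2 : (⟨z, hz⟩ : Z) ∈ MulAction.fixedPoints (ConjAct S) Z := hall ▸ Set.mem_univ _
    have h3 := congrArg Subtype.val (h2 (ConjAct.toConjAct g))
    simp [ConjAct.Subgroup.val_conj_smul, ConjAct.smul_def] at h3
    exact mul_inv_eq_iff_eq_mul.mp h3
  have hinf : Subgroup.center S ⊓ Q = Z := by
    refine le_antisymm ?_ (le_inf hZc (Subgroup.map_subtype_le _))
    intro z hz
    refine ⟨⟨z, hz.2⟩, ?_, rfl⟩
    rw [SetLike.mem_coe, Subgroup.mem_center_iff]
    exact fun q => Subtype.ext (Subgroup.mem_center_iff.mp hz.1 q)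
  by_cases h : Subgroup.center S ≤ Q
  · left
    rw [← hinf, inf_eq_left.mpr h]
  right
  have hlt : Q < Q ⊔ Subgroup.center S := lt_of_le_of_ne le_sup_left fun e => h (by
    rw [e]; exact le_sup_right)
  have htop : Q ⊔ Subgroup.center S = ⊤ := by
    have hd := Subgroup.index_dvd_of_le hlt.le
    rw [hQi] at hd
    rcases (Nat.dvd_prime hp).mp hd with h1 | h1
    · exact Subgroup.index_eq_one.mp h1
    · exfalso
      have h2 := Subgroup.relIndex_mul_index hlt.le
      rw [hQi, h1] at h2
      exact hlt.not_ge (Subgroup.relIndex_eq_one.mp ((mul_eq_right₀ hp.ne_zero).mp h2))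
  refine ⟨htop, ?_⟩
  have h1 : Q.relIndex (Subgroup.center S) = p := by
    rw [← Subgroup.relIndex_sup_right, sup_comm, htop, Subgroup.relIndex_top_right, hQi]
  have h2 := Subgroup.relIndex_mul_relIndex ⊥ (Subgroup.center S ⊓ Q) (Subgroup.center S) bot_le
    inf_le_left
  rw [Subgroup.relIndex_bot_left, Subgroup.relIndex_bot_left, Subgroup.inf_relIndex_left, h1,
    hinf, hZcard] at h2
  rw [← h2, sq]

end Cfsg.Agent.S3808
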