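import Cfsg.Statements.S3809
import Cfsg.Agent.S0095
import Cfsg.Agent.Lib.Cores.Frattini

set_option autoImplicit false
open Cfsg

namespace Cfsg.Agent.S3809

/-- Let S be a finite p-group with an extraspecial subgroup of index p. Then S has order p^(2+2n) for some n ≥ 1, derived length at most 3, and exponent dividing p³. -/
theorem result {S : Type*} [Group S] [Finite S] (p : ℕ) [Fact p.Prime] (hS : IsPGroup p S) (Q : Subgroup S) (hQ : Cfsg.IsExtraspecial p ↥Q) (hQi : Q.index = p) :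
    (∃ n : ℕ, 1 ≤ n ∧ Nat.card S = p ^ (2 + 2 * n)) ∧ derivedSeries S 3 = ⊥ ∧ ∀ x : S, x ^ (p ^ 3) = 1 := by
  have hp := (Fact.out : p.Prime)
  obtain ⟨n, hn, hQn⟩ := Cfsg.Agent.S0095.result hQ
  have hcard : Nat.card S = p ^ (2 + 2 * n) := by
    rw [← Q.card_mul_index, hQn, hQi, ← pow_succ]; congr 1; omega
  haveI hQnormal : Q.Normal := Subgroup.normal_of_index_eq_minFac_card (by
    rw [hQi, hcard, Nat.pow_minFac (by omega), hp.minFac_eq])
  obtain ⟨⟨hQp, hfr, hcQ⟩, hZp⟩ := hQ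
  have hquot : Nat.card (S ⧸ Q) = p := by rw [← Subgroup.index, hQi]
  haveI : IsCyclic (S ⧸ Q) := isCyclic_of_prime_card hquot
  have h1 : derivedSeries S 1 ≤ Q := by
    rw [derivedSeries_one]
    exact Subgroup.Normal.quotient_commutative_iff_commutator_le.mp
      ⟨⟨(IsCyclic.commGroup (α := S ⧸ Q)).mul_comm⟩⟩
  have h2 : derivedSeries S 2 ≤ (Subgroup.center Q).map Q.subtype := by
    rw [derivedSeries_succ]
    refine (Subgroup.commutator_mono h1 h1).trans ?_
    rw [← hcQ, Subgroup.map_subtype_commutator]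
  refine ⟨⟨n, hn, hcard⟩, ?_, fun x => ?_⟩
  · rw [derivedSeries_succ, ← le_bot_iff]
    refine (Subgroup.commutator_mono h2 h2).trans ?_
    rw [← Subgroup.map_commutator, show ⁅Subgroup.center Q, Subgroup.center Q⁆ = ⊥ from ?_,
      Subgroup.map_bot]
    rw [Subgroup.commutator_eq_bot_iff_le_centralizer]
    exact fun a ha => Subgroup.mem_centralizer_iff.mpr fun b hb => Subgroup.mem_center_iff.mp ha b
  · have hx : x ^ p ∈ Q := by
      rw [← QuotientGroup.eq_one_iff, QuotientGroup.mk_pow, ← hquot]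
      exact pow_card_eq_one'
    obtain ⟨y, hy⟩ : ∃ y : Q, (y : S) = x ^ p := ⟨⟨_, hx⟩, rfl⟩
    have hzy : y ^ p ∈ Subgroup.center Q := by
      rw [← hfr]
      exact Cfsg.Agent.Lib.Cores.pow_mem_frattini hQp y
    obtain ⟨z, hz⟩ : ∃ z : Subgroup.center Q, (z : Q) = y ^ p := ⟨⟨_, hzy⟩, rfl⟩
    have hzp : z ^ p = 1 := by rw [← hZp]; exact pow_card_eq_one'
    have : ((y ^ p) ^ p : Q) = 1 := by rw [← hz, ← SubmonoidClass.coe_pow, hzp, OneMemClass.coe_one]
    have h3 := congrArg Subtype.val this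
    simp only [SubmonoidClass.coe_pow, hy, OneMemClass.coe_one] at h3
    rw [← h3, ← pow_mul, ← pow_mul]
    congr 1
    ring

end Cfsg.Agent.S3809
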