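import Cfsg.Statements.S3810
import Cfsg.Agent.S0095
import Cfsg.Agent.S3741
import Cfsg.Agent.Lib.Cores.SmallPGroup
import Cfsg.Agent.Lib.Solvable.Nilpotent

set_option autoImplicit false
open Cfsg

namespace Cfsg.Agent.S3810

open scoped commutatorElement

/-- Let S be a finite p-group with an extraspecial subgroup of index p. Then S has an abelian subgroup of index p if and only if S has order p⁴. -/
theorem result {S : Type*} [Group S] [Finite S] (p : ℕ) [Fact p.Prime] (hS : IsPGroup p S) (Q : Subgroup S) (hQ : Cfsg.IsExtraspecial p ↥Q) (hQi : Q.index = p) :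
    (∃ A : Subgroup S, IsMulCommutative ↥A ∧ A.index = p) ↔ Nat.card S = p ^ 4 := by
  have hp := (Fact.out : p.Prime)
  obtain ⟨n, hn, hQn⟩ := Cfsg.Agent.S0095.result hQ
  have hcard : Nat.card S = p ^ (2 + 2 * n) := by
    rw [← Q.card_mul_index, hQn, hQi, ← pow_succ]; congr 1; omega
  obtain ⟨⟨hQp, hfr, hcQ⟩, hZp⟩ := hQ
  have hnaQ : ¬ IsMulCommutative Q := by
    intro h
    have hbot : commutator Q = ⊥ := by
      rw [commutator_def, Subgroup.commutator_eq_bot_iff_le_centralizer]
      exact fun a _ => Subgroup.mem_centralizer_iff.mpr fun b _ => h.is_comm.comm b a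
    rw [hbot] at hcQ
    rw [← hcQ, Subgroup.card_bot] at hZp
    exact hp.ne_one hZp.symm
  constructor
  · rintro ⟨A, hA, hAi⟩
    haveI : A.Normal := Subgroup.normal_of_index_eq_minFac_card (by
      rw [hAi, hcard, Nat.pow_minFac (by omega), hp.minFac_eq])
    have hAc : ∀ a ∈ A, ∀ b ∈ A, a * b = b * a := fun a ha b hb =>
      congrArg Subtype.val (hA.is_comm.comm ⟨a, ha⟩ ⟨b, hb⟩)
    set B := A.subgroupOf Q ⊔ Subgroup.center Q with hB
    have hBab : ∀ a ∈ B, ∀ b ∈ B, a * b = b * a := by
      have key : B ≤ Subgroup.centralizer (B : Set Q) := by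
        rw [hB, Subgroup.le_centralizer_iff]
        refine sup_le ?_ ?_
        · rw [Subgroup.le_centralizer_iff]
          exact sup_le (fun a ha => Subgroup.mem_centralizer_iff.mpr fun b hb => Subtype.ext
              (hAc b.1 hb a.1 ha))
            (fun a ha => Subgroup.mem_centralizer_iff.mpr fun b _ => Subgroup.mem_center_iff.mp ha b)
        · exact fun a ha => Subgroup.mem_centralizer_iff.mpr fun b _ => Subgroup.mem_center_iff.mp ha b
      exact fun a ha b hb => (Subgroup.mem_centralizer_iff.mp (key ha) b hb).symm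
    have hle : ⁅B, (⊤ : Subgroup Q)⁆ ≤ Subgroup.center Q := by
      rw [← hcQ, commutator_def]; exact Subgroup.commutator_mono le_top le_rfl
    have hsym := Cfsg.Agent.S3741.result hQp B (⊤ : Subgroup Q)
      (le_inf (hle.trans le_sup_right) le_top)
      ((Subgroup.card_le_of_le hle).trans hZp.le)
    rw [top_inf_eq, Subgroup.relIndex_top_right, Subgroup.coe_top, Subgroup.centralizer_univ,
      inf_eq_right.mpr le_sup_right] at hsym
    have h1 : (Subgroup.centralizer (B : Set Q)).index ≤ B.index :=
      Nat.le_of_dvd (Nat.pos_of_ne_zero Subgroup.index_ne_zero_of_finite)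
        (Subgroup.index_dvd_of_le fun a ha => Subgroup.mem_centralizer_iff.mpr fun b hb => hBab b hb a ha)
    rw [← hsym] at h1
    have h2 : Nat.card (Subgroup.center Q) * (Subgroup.center Q).relIndex B = Nat.card B := by
      have := Subgroup.relIndex_mul_relIndex ⊥ (Subgroup.center Q) B bot_le le_sup_right
      rwa [Subgroup.relIndex_bot_left, Subgroup.relIndex_bot_left] at this
    rw [hZp] at h2
    have h3 := B.card_mul_index
    rw [hQn] at h3
    obtain ⟨i, hi⟩ := IsPGroup.iff_card.mp (hQp.to_subgroup B)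
    have hidx : B.index ≤ p := by
      refine le_trans ?_ hAi.le
      refine (Nat.le_of_dvd (Nat.pos_of_ne_zero Subgroup.index_ne_zero_of_finite)
        (Subgroup.index_dvd_of_le le_sup_left)).trans ?_
      exact Nat.le_of_dvd (Nat.pos_of_ne_zero Subgroup.index_ne_zero_of_finite) (Subgroup.relIndex_dvd_index_of_normal A Q)
    have h4 : Nat.card B ≤ p * p := by
      calc Nat.card B = p * (Subgroup.center Q).relIndex B := h2.symm
        _ ≤ p * p := Nat.mul_le_mul_left p (h1.trans hidx)
    have h5 : p ^ (2 * n + 1) ≤ p ^ 3 := by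
      rw [← h3, pow_succ, pow_two]
      exact Nat.mul_le_mul h4 hidx
    have := (Nat.pow_le_pow_iff_right hp.one_lt).mp h5
    rw [hcard]; congr 1; omega
  · intro h4
    have hna : ¬ IsMulCommutative S := fun h => hnaQ ⟨⟨fun a b => Subtype.ext (h.is_comm.comm _ _)⟩⟩
    haveI : Nontrivial S := Finite.one_lt_card_iff_nontrivial.mp (by rw [h4]; exact Nat.one_lt_pow (by norm_num) hp.one_lt)
    haveI := hS.center_nontrivial
    obtain ⟨i, hi⟩ := IsPGroup.iff_card.mp (hS.to_subgroup (Subgroup.center S))
    have hi0 : i ≠ 0 := by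
      rintro rfl
      exact absurd hi (by rw [pow_zero]; exact (Finite.one_lt_card).ne')
    rcases (show i = 1 ∨ 2 ≤ i by omega) with rfl | hi2
    · rw [pow_one] at hi
      set Z := Subgroup.center S with hZ
      have hne : Subgroup.center (S ⧸ Z) ≠ ⊥ := by
        haveI : Nontrivial (S ⧸ Z) := Finite.one_lt_card_iff_nontrivial.mp (by
          rw [← Subgroup.index]
          have := Z.card_mul_index
          rw [hi, h4, show p ^ 4 = p * p ^ 3 by ring] at this
          rw [Nat.eq_of_mul_eq_mul_left hp.pos this]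
          exact Nat.one_lt_pow (by norm_num) hp.one_lt)
        exact (Subgroup.nontrivial_iff_ne_bot _).mp (hS.to_quotient Z).center_nontrivial
      obtain ⟨q, hq, hq1⟩ := (Subgroup.center (S ⧸ Z)).bot_or_exists_ne_one.resolve_left hne
      obtain ⟨y, rfl⟩ := QuotientGroup.mk_surjective q
      have hyZ : y ∉ Z := fun h => hq1 ((QuotientGroup.eq_one_iff y).mpr h)
      have hmem : ∀ x : S, ⁅x, y⁆ ∈ Z := fun x => by
        rw [← QuotientGroup.eq_one_iff, ← QuotientGroup.mk'_apply, map_commutatorElement,
          commutatorElement_eq_one_iff_mul_comm]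
        exact Subgroup.mem_center_iff.mp hq _
      let φ : S →* Z := MonoidHom.mk' (fun x => ⟨⁅x, y⁆, hmem x⟩) fun a b => Subtype.ext (by
        show ⁅a * b, y⁆ = ⁅a, y⁆ * ⁅b, y⁆
        have hb := Subgroup.mem_center_iff.mp (hmem b)
        calc ⁅a * b, y⁆ = a * ⁅b, y⁆ * a⁻¹ * ⁅a, y⁆ := by simp [commutatorElement_def, mul_assoc]
          _ = _ := by rw [hb a, mul_inv_cancel_right, hb])
      have hkerle : φ.ker.index ≤ p := by
        rw [Subgroup.index_ker]; exact (Subgroup.card_le_card_group _).trans hi.le
      have hker : φ.ker.index = p := by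
        obtain ⟨j, hj⟩ := hS.index φ.ker
        rw [hj] at hkerle ⊢
        have hj1 : j ≤ 1 := (Nat.pow_le_pow_iff_right hp.one_lt).mp (hkerle.trans_eq (pow_one p).symm)
        have hj0 : j ≠ 0 := by
          rintro rfl
          rw [pow_zero, Subgroup.index_eq_one] at hj
          refine hyZ (Subgroup.mem_center_iff.mpr fun x => ?_)
          have hxk : x ∈ φ.ker := hj ▸ Subgroup.mem_top x
          exact commutatorElement_eq_one_iff_mul_comm.mp
            (congrArg Subtype.val (MonoidHom.mem_ker.mp hxk))
        rw [show j = 1 by omega, pow_one]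
      refine ⟨φ.ker, ?_, hker⟩
      have hyK : y ∈ φ.ker := MonoidHom.mem_ker.mpr (Subtype.ext (commutatorElement_self y))
      have hZK : Z ≤ φ.ker := fun z hz => MonoidHom.mem_ker.mpr (Subtype.ext
        (commutatorElement_eq_one_iff_mul_comm.mpr (Subgroup.mem_center_iff.mp hz y).symm))
      have hK : Nat.card φ.ker = p ^ 3 := by
        have := φ.ker.card_mul_index
        rw [hker, h4, pow_succ p 3] at this
        exact Nat.eq_of_mul_eq_mul_right hp.pos this
      by_contra hnc
      have hcK := Cfsg.Agent.Lib.Cores.card_center_of_card_cube (hS.to_subgroup φ.ker) hK hnc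
      have hsub : (Z.subgroupOf φ.ker ⊔ Subgroup.zpowers ⟨y, hyK⟩) ≤ Subgroup.center φ.ker :=
        sup_le (fun z hz => Subgroup.mem_center_iff.mpr fun g => Subtype.ext (Subgroup.mem_center_iff.mp hz g))
          (Subgroup.zpowers_le.mpr (Subgroup.mem_center_iff.mpr fun g => Subtype.ext
            (commutatorElement_eq_one_iff_mul_comm.mp (congrArg Subtype.val (MonoidHom.mem_ker.mp g.2)))))
      have h1 : Z.subgroupOf φ.ker = Subgroup.center φ.ker :=
        Subgroup.eq_of_le_of_card_ge (le_sup_left.trans hsub) (by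
          rw [hcK, Nat.card_congr (Subgroup.subgroupOfEquivOfLe hZK).toEquiv, hi])
      exact hyZ (h1.ge (hsub (Subgroup.mem_sup_right (Subgroup.mem_zpowers _))) :)
    · have hlt : Subgroup.center S < ⊤ := lt_top_iff_ne_top.mpr fun e => hna ⟨⟨fun a b =>
        (Subgroup.mem_center_iff.mp (e ▸ Subgroup.mem_top b : b ∈ Subgroup.center S) a)⟩⟩
      obtain ⟨x, -, hx⟩ := SetLike.exists_of_lt hlt
      set B := Subgroup.center S ⊔ Subgroup.zpowers x with hB
      have hBab : B ≤ Subgroup.centralizer (B : Set S) := by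
        rw [Subgroup.le_centralizer_iff]
        refine sup_le (fun a ha => Subgroup.mem_centralizer_iff.mpr fun b _ => Subgroup.mem_center_iff.mp ha b) ?_
        rw [Subgroup.le_centralizer_iff]
        refine sup_le (fun a ha => Subgroup.mem_centralizer_iff.mpr fun b _ => Subgroup.mem_center_iff.mp ha b) ?_
        rw [Subgroup.le_centralizer_iff]
        intro a ha
        obtain ⟨k, rfl⟩ := Subgroup.mem_zpowers_iff.mp ha
        refine Subgroup.mem_centralizer_iff.mpr fun b hb => ?_
        obtain ⟨l, rfl⟩ := Subgroup.mem_zpowers_iff.mp hb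
        rw [← zpow_add, ← zpow_add, add_comm]
      obtain ⟨j, hj⟩ := IsPGroup.iff_card.mp (hS.to_subgroup B)
      have hij : i < j := by
        have h1 : Nat.card (Subgroup.center S) < Nat.card B :=
          lt_of_le_of_ne (Subgroup.card_le_of_le le_sup_left) fun e => hx (by
            rw [Subgroup.eq_of_le_of_card_ge le_sup_left e.ge]
            exact Subgroup.mem_sup_right (Subgroup.mem_zpowers x))
        rw [hi, hj] at h1
        exact (Nat.pow_lt_pow_iff_right hp.one_lt).mp h1
      have hj4 : j < 4 := by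
        by_contra hge
        refine hna ⟨⟨fun a b => ?_⟩⟩
        have htop : B = ⊤ := Subgroup.eq_top_of_le_card _ (by
          rw [h4, hj]; exact Nat.pow_le_pow_right hp.pos (by omega))
        rw [htop] at hBab
        exact Subgroup.mem_centralizer_iff.mp (hBab (Subgroup.mem_top b)) a (Subgroup.mem_top a)
      refine ⟨B, ⟨⟨fun a b => Subtype.ext (Subgroup.mem_centralizer_iff.mp (hBab b.2) a a.2)⟩⟩, ?_⟩
      have := B.card_mul_index
      rw [hj, show j = 3 by omega, h4, pow_succ p 3] at this
      exact Nat.eq_of_mul_eq_mul_left (pow_pos hp.pos 3) this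

end Cfsg.Agent.S3810
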