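import Cfsg.Statements.S3815
import Cfsg.Agent.Lib.Cores.PCore

set_option autoImplicit false
open Cfsg

namespace Cfsg.Agent.S3815

/-- Let G be a finite group, p a prime and d ∈ G an element of order prime to p. If dg has order prime to p for every element g ∈ G of order prime to p, then d ∈ O_{p'}(G). -/
theorem result {G : Type*} [Group G] [Finite G] {p : ℕ} [Fact p.Prime]
    (d : G) (hd : (orderOf d).Coprime p)
    (h : ∀ g : G, (orderOf g).Coprime p → (orderOf (d * g)).Coprime p) :
    d ∈ Cfsg.pPrimeCore p G := by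
  let D : Submonoid G :=
    { carrier := {d | ∀ g : G, (orderOf g).Coprime p → (orderOf (d * g)).Coprime p}
      one_mem' := fun g hg => by rwa [one_mul]
      mul_mem' := fun {a b} ha hb g hg => by
        rw [mul_assoc]; exact ha _ (hb g hg) }
  have hinv : ∀ a ∈ D, a⁻¹ ∈ D := by
    intro a ha
    have h1 : a⁻¹ ∈ Submonoid.powers a := by
      rw [← mem_powers_iff_mem_zpowers.symm]
      exact inv_mem (Subgroup.mem_zpowers a)
    exact Submonoid.powers_le.mpr ha h1
  let K : Subgroup G := { D with inv_mem' := fun {a} ha => hinv a ha }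
  have hKn : K.Normal := ⟨fun a ha c g hg => by
    have h1 : (orderOf (c⁻¹ * g * c)).Coprime p := by
      have e := orderOf_injective (MulAut.conj c⁻¹).toMonoidHom (MulAut.conj c⁻¹).injective g
      simp at e
      rwa [e]
    have h2 := ha _ h1
    have e := orderOf_injective (MulAut.conj c).toMonoidHom (MulAut.conj c).injective
      (a * (c⁻¹ * g * c))
    simp [mul_assoc] at e h2 ⊢
    rw [e]
    exact h2⟩
  have hp := (Fact.out : p.Prime)
  have hK : (Nat.card K).Coprime p := by
    rw [Nat.coprime_comm, hp.coprime_iff_not_dvd]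
    intro hd
    obtain ⟨a, ha⟩ := exists_prime_orderOf_dvd_card' p hd
    have h1 : ∀ g : G, (orderOf g).Coprime p → (orderOf ((a : G) * g)).Coprime p := a.2
    have h2 := h1 1 (by simp)
    rw [mul_one, Subgroup.orderOf_coe, ha] at h2
    exact hp.coprime_iff_not_dvd.mp h2 dvd_rfl
  exact Cfsg.Agent.Lib.Cores.le_pPrimeCore hKn hK h

end Cfsg.Agent.S3815
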