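import Cfsg.Statements.S3818
import Cfsg.Statements.S3818
import Cfsg.Agent.Lib.PLocal.FixHalfGeneral

set_option autoImplicit false
open Cfsg

namespace Cfsg.Agent.S3818

/-- Let G be a finite solvable group and P a subgroup of G of prime order p > 3 whose conjugates generate G. Let V be a faithful irreducible representation of G over a field of positive characteristic, finite-dimensional. Then the subspace of V fixed by P has dimension less than half the dimension of V. -/
theorem result {G : Type*} [Group G] [Finite G] [Group.IsSolvable G]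
    {p : ℕ} [Fact p.Prime] (hp : 3 < p) (P : Subgroup G) (hP : Nat.card P = p) (hgen : Subgroup.normalClosure (P : Set G) = ⊤)
    {k : Type*} [Field k] (ℓ : ℕ) [Fact ℓ.Prime] [CharP k ℓ]
    {V : Type*} [AddCommGroup V] [Module k V] [FiniteDimensional k V]
    (ρ : Representation k G V) [ρ.IsIrreducible] (hfaith : Function.Injective ρ) :
    2 * Module.finrank k ↥(⨅ g : ↥P, LinearMap.ker (ρ (g : G) - LinearMap.id)) < Module.finrank k V := by
  have hPne : P ≠ ⊥ := fun h => (Fact.out : p.Prime).ne_one (by rw [← hP, h, Subgroup.card_bot])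
  obtain ⟨⟨x, hxP⟩, hx⟩ := exists_prime_orderOf_dvd_card' (G := P) p (dvd_of_eq hP.symm)
  rw [← Subgroup.orderOf_coe] at hx
  change orderOf x = p at hx
  have hxp : x ^ p = 1 := hx ▸ pow_orderOf_eq_one x
  have hx1 : x ≠ 1 := fun h => (Fact.out : p.Prime).ne_one (by rw [← hx, h, orderOf_one])
  have hPx : Subgroup.zpowers x = P :=
    Subgroup.eq_of_le_of_card_ge (Subgroup.zpowers_le.mpr hxP) (by rw [Nat.card_zpowers, hx, hP])
  have hgen' : Subgroup.normalClosure ({x} : Set G) = ⊤ := by
    rw [← top_le_iff, ← hgen]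
    refine Subgroup.normalClosure_le_normal ?_
    rw [← hPx]
    exact Subgroup.zpowers_le.mpr (Subgroup.subset_normalClosure rfl)
  haveI : Nontrivial V := by
    by_contra h
    rw [not_nontrivial_iff_subsingleton] at h
    exact hx1 (hfaith (LinearMap.ext fun v => Subsingleton.elim _ _))
  have hirr : ∀ U : Submodule k V, (∀ g, ∀ v ∈ U, ρ g v ∈ U) → U = ⊥ ∨ U = ⊤ := fun U hU => by
    rcases IsSimpleOrder.eq_bot_or_eq_top (⟨U, fun g v hv => hU g v hv⟩ : Subrepresentation ρ) with h | h
    · exact Or.inl (congrArg Subrepresentation.toSubmodule h)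
    · exact Or.inr (congrArg Subrepresentation.toSubmodule h)
  have hp5 : 5 ≤ p := by
    rcases Nat.lt_or_ge p 5 with h | h
    · exact absurd (show p = 4 by omega) fun e => by
        have := (Fact.out : p.Prime); rw [e] at this; norm_num at this
    · exact h
  refine lt_of_le_of_lt (Nat.mul_le_mul_left 2 (Submodule.finrank_mono ?_))
    (Lib.PLocal.FixHalf.fix_lt_general ρ hfaith hirr hp5 hxp hgen' hx1)
  exact iInf_le (fun g : ↥P => LinearMap.ker (ρ (g : G) - LinearMap.id)) ⟨x, hxP⟩

end Cfsg.Agent.S3818
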