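import Cfsg.Statements.S3819
import Mathlib
import Cfsg.Agent.Lib.Components.Local
import Cfsg.Agent.Lib.Cores
import Cfsg.Agent.Lib.Coprime
-- import your own Cfsg.Agent.* helpers here

set_option autoImplicit false
open Cfsg

namespace Cfsg.Agent.S3819


open Subgroup
open scoped commutatorElement
open Cfsg.Agent.Lib

variable {G : Type*} [Group G] [Finite G]

theorem sup_solvable (R S : Subgroup G) [R.Normal] (hR : Group.IsSolvable R)
    (hS : Group.IsSolvable S) : Group.IsSolvable (R ⊔ S : Subgroup G) := by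
  have hmap : (R ⊔ S).map (QuotientGroup.mk' R) = S.map (QuotientGroup.mk' R) := by
    rw [Subgroup.map_sup, QuotientGroup.map_mk'_self, bot_sup_eq]
  haveI : Group.IsSolvable ((R ⊔ S).map (QuotientGroup.mk' R)) := by
    rw [hmap]
    exact Group.isSolvable_of_surjective (MonoidHom.subgroupMap_surjective (QuotientGroup.mk' R) S)
  exact Group.isSolvable_of_ker_le_range (Subgroup.inclusion (le_sup_left : R ≤ R ⊔ S))
    ((QuotientGroup.mk' R).subgroupMap (R ⊔ S))
    fun x hx => ⟨⟨x, (QuotientGroup.eq_one_iff _).1 (congrArg Subtype.val hx)⟩, rfl⟩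

theorem le_core_of_normalized {q : ℕ} {L K : Subgroup G} [L.Normal] (hKL : K ≤ L)
    (hn : L ≤ normalizer (K : Set G)) (hc : (Nat.card K).Coprime q) :
    K ≤ Cfsg.pPrimeCore q G := by
  have h : K.subgroupOf L ≤ Cfsg.pPrimeCore q L := Cores.le_pPrimeCore
    (normal_subgroupOf_of_le_normalizer hn)
    (by rwa [Nat.card_congr (subgroupOfEquivOfLe hKL).toEquiv])
  intro k hk
  exact Cores.map_subtype_pPrimeCore_le L ⟨⟨k, hKL hk⟩, h hk, rfl⟩

theorem solvable_centralizer_pCore_le {q : ℕ} [Fact q.Prime] (hs : Group.IsSolvable G)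
    (h : Cfsg.pPrimeCore q G = ⊥) :
    centralizer (Cfsg.pCore q G : Set G) ≤ Cfsg.pCore q G := by
  have hF : Cfsg.fittingSubgroup G = Cfsg.pCore q G := by
    refine le_antisymm ?_ (Cores.pCore_le_fittingSubgroup q)
    have := Cores.fittingSubgroup_le_pCore_sup_pPrimeCore (G := G) q
    rwa [h, sup_bot_eq] at this
  have := Cores.centralizer_fittingSubgroup_le (G := G) hs
  rwa [hF] at this

theorem centralizer_inf_pCore_le {q : ℕ} [Fact q.Prime] (L : Subgroup G) [L.Normal]
    (hs : Group.IsSolvable L) (h : L ⊓ Cfsg.pPrimeCore q G = ⊥) :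
    L ⊓ centralizer ((L ⊓ Cfsg.pCore q G : Subgroup G) : Set G) ≤ Cfsg.pCore q G := by
  have hb : Cfsg.pPrimeCore q L = ⊥ := by
    rw [← Cores.map_subtype_pPrimeCore_eq, map_eq_bot_iff_of_injective _ L.subtype_injective] at h
    exact h
  intro x hx
  have hm : (⟨x, hx.1⟩ : L) ∈ centralizer (Cfsg.pCore q L : Set L) := by
    intro y hy
    have hy' : (y : G) ∈ L ⊓ Cfsg.pCore q G := by
      rw [← Cores.map_subtype_pCore_eq]
      exact ⟨y, hy, rfl⟩
    exact Subtype.ext (mem_centralizer_iff.mp hx.2 _ hy')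
  exact Cores.map_subtype_pCore_le L
    ⟨⟨x, hx.1⟩, solvable_centralizer_pCore_le hs hb hm, rfl⟩

/-- Let G be a finite group with Sylow p-subgroup P and H = O_{p'}(G), and suppose G = PH and the commutator subgroup [H, P] is solvable. Let q be a prime and z an element of q-power order of C_H(P). Then (O_{q'}(C_H(z)) ∩ O_{q'}(C_H(P))) · [O_{q'}(C_H(z)), P] ≤ O_{q'}(H). -/
theorem result {G : Type*} [Group G] [Finite G] {p : ℕ} [Fact p.Prime]
    (P : Sylow p G) (hPH : Cfsg.pPrimeCore p G ⊔ (P : Subgroup G) = ⊤)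
    (hsol : Group.IsSolvable ↥⁅Cfsg.pPrimeCore p G, (P : Subgroup G)⁆)
    {q : ℕ} [Fact q.Prime] (z : G) (hzH : z ∈ Cfsg.pPrimeCore p G) (hzP : z ∈ Subgroup.centralizer ((P : Subgroup G) : Set G))
    (hz : ∃ k : ℕ, orderOf z = q ^ k) :
    ((Cfsg.pPrimeCore q ↥(Cfsg.pPrimeCore p G ⊓ Subgroup.centralizer ({z} : Set G))).map
        (Cfsg.pPrimeCore p G ⊓ Subgroup.centralizer ({z} : Set G)).subtype ⊓
      (Cfsg.pPrimeCore q ↥(Cfsg.pPrimeCore p G ⊓ Subgroup.centralizer ((P : Subgroup G) : Set G))).map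
        (Cfsg.pPrimeCore p G ⊓ Subgroup.centralizer ((P : Subgroup G) : Set G)).subtype) ⊔
    ⁅(Cfsg.pPrimeCore q ↥(Cfsg.pPrimeCore p G ⊓ Subgroup.centralizer ({z} : Set G))).map
        (Cfsg.pPrimeCore p G ⊓ Subgroup.centralizer ({z} : Set G)).subtype, (P : Subgroup G)⁆ ≤
    (Cfsg.pPrimeCore q ↥(Cfsg.pPrimeCore p G)).map (Cfsg.pPrimeCore p G).subtype := by
  set H := Cfsg.pPrimeCore p G with hH
  haveI hHn : H.Normal := inferInstance
  set C := H ⊓ Subgroup.centralizer ({z} : Set G) with hC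
  set D := H ⊓ Subgroup.centralizer ((P : Subgroup G) : Set G) with hD
  set X := (Cfsg.pPrimeCore q ↥C).map C.subtype with hX
  set Y₀ := (Cfsg.pPrimeCore q ↥D).map D.subtype with hY₀
  set L := ⁅H, (P : Subgroup G)⁆ with hLdef
  haveI hLn : L.Normal := by
    rw [← Subgroup.normalizer_eq_top_iff, eq_top_iff, ← hPH]
    exact sup_le (Subgroup.normalizer_commutator_ge_left H _)
      (Subgroup.normalizer_commutator_ge_right H _)
  have hLH : L ≤ H := Coprime.commutator_le_of_le_normalizer Subgroup.le_normalizer_of_normal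
  have hXC : X ≤ C := Subgroup.map_subtype_le _
  have hXq : (Nat.card X).Coprime q :=
    (Cores.pPrimeCore_coprime q C).coprime_dvd_left (Subgroup.card_map_dvd _ _)
  have hYD : Y₀ ≤ D := Subgroup.map_subtype_le _
  have hYq : (Nat.card Y₀).Coprime q :=
    (Cores.pPrimeCore_coprime q D).coprime_dvd_left (Subgroup.card_map_dvd _ _)
  have hCX : C ≤ Subgroup.normalizer (X : Set G) :=
    Subgroup.le_normalizer.trans (Cores.normalizer_le_normalizer_map_subtype C _)
  have hDY : D ≤ Subgroup.normalizer (Y₀ : Set G) :=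
    Subgroup.le_normalizer.trans (Cores.normalizer_le_normalizer_map_subtype D _)
  have hPX : (P : Subgroup G) ≤ Subgroup.normalizer (X : Set G) := by
    refine le_trans ?_ (Cores.normalizer_le_normalizer_map_subtype C _)
    rw [Subgroup.le_normalizer_iff]
    intro a ha c hc
    refine ⟨hHn.conj_mem c hc.1 a, ?_⟩
    refine Subgroup.mem_centralizer_singleton_iff.mpr ?_
    have h1 : c * z = z * c := Subgroup.mem_centralizer_singleton_iff.mp hc.2
    have h2 : a * z = z * a := Subgroup.mem_centralizer_iff.mp hzP a ha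
    have h3 : a⁻¹ * z = z * a⁻¹ := ((Commute.inv_left h2 : Commute a⁻¹ z)).eq
    calc a * c * a⁻¹ * z = a * c * (z * a⁻¹) := by rw [mul_assoc (a * c), h3]
      _ = a * (c * z) * a⁻¹ := by group
      _ = (a * z) * c * a⁻¹ := by rw [h1]; group
      _ = z * (a * c * a⁻¹) := by rw [h2]; group
  -- the solvable group `L⟨z⟩`
  have hKM : X ⊓ L ≤ Cfsg.pPrimeCore q G := by
    set M1 := L ⊔ Subgroup.zpowers z with hM1
    have hs1 : Group.IsSolvable M1 := sup_solvable L _ hsol (Coprime.isSolvable_zpowers z)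
    have hzM : z ∈ M1 := Subgroup.mem_sup_right (Subgroup.mem_zpowers z)
    have hM1H : M1 ≤ H := sup_le hLH (Subgroup.zpowers_le.mpr hzH)
    set Z := Subgroup.zpowers (⟨z, hzM⟩ : M1) with hZ
    have hZp : IsPGroup q Z := by
      obtain ⟨k, hk⟩ := hz
      exact IsPGroup.of_card (n := k) (by rw [hZ, Nat.card_zpowers, Subgroup.orderOf_mk, hk])
    have hle := Components.pPrimeCore_centralizer_le
      (Components.pLayer_eq_bot_of_solvable hs1 : Cfsg.pLayer q M1 = ⊥) hZp
    set CZ := Subgroup.centralizer (Z : Set M1) with hCZ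
    have hCZC : ∀ x ∈ CZ, (x : G) ∈ C := fun x hx => ⟨hM1H x.2,
      Subgroup.mem_centralizer_singleton_iff.mpr
        (congrArg Subtype.val (Subgroup.mem_centralizer_iff.mp hx _ (Subgroup.mem_zpowers _))).symm⟩
    have hin : (X ⊓ L).subgroupOf M1 ≤ CZ := by
      intro x hx
      rw [hCZ, Subgroup.mem_centralizer_iff]
      intro y hy
      obtain ⟨i, rfl⟩ := Subgroup.mem_zpowers_iff.mp hy
      have : Commute (⟨z, hzM⟩ : M1) x := Subtype.ext
        (Subgroup.mem_centralizer_singleton_iff.mp (hXC hx.1).2).symm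
      exact (this.zpow_left i).eq
    have hnorm : CZ ≤ Subgroup.normalizer (((X ⊓ L).subgroupOf M1 : Subgroup M1) : Set M1) := by
      rw [Subgroup.le_normalizer_iff]
      intro g hg x hx
      exact ⟨Subgroup.le_normalizer_iff.mp hCX g (hCZC g hg) x hx.1, hLn.conj_mem x hx.2 g⟩
    have hcop : (Nat.card (((X ⊓ L).subgroupOf M1).subgroupOf CZ)).Coprime q := by
      rw [Nat.card_congr (Subgroup.subgroupOfEquivOfLe hin).toEquiv,
        Nat.card_congr (Subgroup.subgroupOfEquivOfLe
          (inf_le_right.trans le_sup_left : X ⊓ L ≤ M1)).toEquiv]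
      exact hXq.coprime_dvd_left (Subgroup.card_dvd_of_le inf_le_left)
    have h1 := Cores.le_pPrimeCore (Subgroup.normal_subgroupOf_of_le_normalizer hnorm) hcop
    intro x hx
    have hx1 : (⟨x, Subgroup.mem_sup_left hx.2⟩ : M1) ∈ Cfsg.pPrimeCore q M1 :=
      hle ⟨⟨_, hin (show (⟨x, Subgroup.mem_sup_left hx.2⟩ : M1) ∈ (X ⊓ L).subgroupOf M1 from hx)⟩,
        h1 hx, rfl⟩
    refine le_core_of_normalized (L := L)
      (K := L ⊓ (Cfsg.pPrimeCore q M1).map M1.subtype) inf_le_left ?_ ?_ ⟨hx.2, _, hx1, rfl⟩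
    · rw [Subgroup.le_normalizer_iff]
      intro g hg y hy
      exact ⟨L.mul_mem (L.mul_mem hg hy.1) (L.inv_mem hg),
        Subgroup.le_normalizer_iff.mp
          ((le_sup_left.trans Subgroup.le_normalizer).trans
            (Cores.normalizer_le_normalizer_map_subtype M1 _)) g hg y hy.2⟩
    · exact ((Cores.pPrimeCore_coprime q M1).coprime_dvd_left
        (Subgroup.card_map_dvd _ _)).coprime_dvd_left (Subgroup.card_dvd_of_le inf_le_right)
  rw [Cores.map_subtype_pPrimeCore_eq]
  refine le_inf (sup_le (inf_le_left.trans (hXC.trans inf_le_left))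
    ((Coprime.commutator_le_of_le_normalizer hPX).trans (hXC.trans inf_le_left))) (sup_le ?_ ?_)
  swap
  · exact (le_inf (Coprime.commutator_le_of_le_normalizer hPX)
      (Subgroup.commutator_mono (hXC.trans inf_le_left) le_rfl)).trans hKM
  -- the intersection
  set M := L ⊓ Cfsg.pPrimeCore q G with hM
  haveI : M.Normal := inferInstance
  have hMq : (Nat.card M).Coprime q :=
    (Cores.pPrimeCore_coprime q G).coprime_dvd_left (Subgroup.card_dvd_of_le inf_le_right)
  set π := QuotientGroup.mk' M with hπ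
  have hπs : Function.Surjective π := QuotientGroup.mk'_surjective M
  haveI hLbn : (L.map π).Normal := hLn.map π hπs
  have hLbs : Group.IsSolvable (L.map π) := by
    haveI : Group.IsSolvable L := hsol
    exact Group.isSolvable_of_surjective (π.subgroupMap_surjective L)
  have hLb : L.map π ⊓ Cfsg.pPrimeCore q (G ⧸ M) = ⊥ := by
    rw [eq_bot_iff]
    rintro _ ⟨⟨l, hl, rfl⟩, h⟩
    have h' : l ∈ Cfsg.pPrimeCore q G := by
      rw [← Cores.comap_pPrimeCore_quotient hMq]; exact h
    exact Subgroup.mem_bot.mpr ((QuotientGroup.eq_one_iff l).mpr ⟨hl, h'⟩)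
  set F := L.map π ⊓ Cfsg.pCore q (G ⧸ M) with hF
  haveI hFn : F.Normal := inferInstance
  have hFq : IsPGroup q F := (Cores.pCore_isPGroup q _).to_le inf_le_right
  set Y := X ⊓ Y₀ with hY
  set Yb := Y.map π with hYb
  have hYbq : (Nat.card Yb).Coprime q :=
    (hXq.coprime_dvd_left (Subgroup.card_dvd_of_le inf_le_left)).coprime_dvd_left
      (Subgroup.card_map_dvd _ _)
  have hzq : IsPGroup q (Subgroup.zpowers z) := by
    obtain ⟨k, hk⟩ := hz
    exact IsPGroup.of_card (n := k) (by rw [Nat.card_zpowers, hk])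
  have hzY : (Subgroup.zpowers z).map π ≤ Subgroup.centralizer (Yb : Set (G ⧸ M)) := by
    rintro _ ⟨w, hw, rfl⟩
    obtain ⟨i, rfl⟩ := Subgroup.mem_zpowers_iff.mp hw
    rw [Subgroup.mem_centralizer_iff]
    rintro _ ⟨y, hy, rfl⟩
    have : Commute y z := Subgroup.mem_centralizer_singleton_iff.mp (hXC hy.1).2
    rw [← map_mul, ← map_mul, (this.zpow_right i).eq]
  have hYF : Yb ≤ Subgroup.centralizer (F : Set (G ⧸ M)) := by
    refine Coprime.le_centralizer_of_PxQ (P := (Subgroup.zpowers z).map π) (hzq.map π) hYbq hFq hzY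
      Subgroup.le_normalizer_of_normal Subgroup.le_normalizer_of_normal ?_
    intro f hf
    obtain ⟨⟨⟨l, hl, hlf⟩, hfc⟩, hfz⟩ := hf
    subst hlf
    have hfixl : ∀ a ∈ Subgroup.zpowers z, a * l * a⁻¹ * l⁻¹ ∈ M := by
      intro a ha
      rw [← QuotientGroup.eq_one_iff]
      have := Subgroup.mem_centralizer_iff.mp hfz (π a) ⟨a, ha, rfl⟩
      show π (a * l * a⁻¹ * l⁻¹) = 1
      rw [map_mul, map_mul, map_mul, map_inv, map_inv, this]
      group
    obtain ⟨n, hn, hnc⟩ := Coprime.exists_mem_centralizer_of_fixed_coset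
      (A := Subgroup.zpowers z) (N := M) Subgroup.le_normalizer_of_normal
      (by
        obtain ⟨k, hk⟩ := hz
        rw [Nat.card_zpowers, hk]
        exact (hMq.pow_right k).symm)
      (Or.inl (Coprime.isSolvable_zpowers z))
      (Subgroup.le_normalizer_of_normal (Subgroup.mem_top l)) hfixl
    have hlC : l * n ∈ C := ⟨mul_mem (hLH hl) (hLH hn.1),
      Subgroup.mem_centralizer_singleton_iff.mpr
        (Subgroup.mem_centralizer_iff.mp hnc z (Subgroup.mem_zpowers z)).symm⟩
    have hπn : π (l * n) = π l := by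
      rw [map_mul, show π n = 1 from (QuotientGroup.eq_one_iff n).mpr hn, mul_one]
    rw [Subgroup.mem_centralizer_iff]
    rintro _ ⟨y, hy, rfl⟩
    have hcX : ⁅l * n, y⁆ ∈ X := by
      rw [commutatorElement_def]
      exact mul_mem (Subgroup.le_normalizer_iff.mp hCX _ hlC y hy.1) (inv_mem hy.1)
    have hcF : π ⁅l * n, y⁆ ∈ F := by
      rw [map_commutatorElement, hπn, commutatorElement_def, mul_assoc, mul_assoc]
      exact mul_mem ⟨⟨l, hl, rfl⟩, hfc⟩
        (by rw [← mul_assoc]; exact hFn.conj_mem _ (inv_mem ⟨⟨l, hl, rfl⟩, hfc⟩) (π y))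
    have hone : π ⁅l * n, y⁆ = 1 := by
      have h0 : F ⊓ X.map π = ⊥ := by
        refine Components.eq_bot_of_isPGroup_of_coprime (p := q) (hFq.to_le inf_le_left) ?_
        exact (hXq.coprime_dvd_left (Subgroup.card_map_dvd _ _)).coprime_dvd_left
          (Subgroup.card_dvd_of_le inf_le_right)
      rw [← Subgroup.mem_bot, ← h0]
      exact ⟨hcF, ⟨_, hcX, rfl⟩⟩
    rw [map_commutatorElement, hπn, commutatorElement_eq_one_iff_mul_comm] at hone
    exact hone.symm
  have hYL : Yb ≤ Subgroup.centralizer (L.map π : Set (G ⧸ M)) := by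
    refine Coprime.le_centralizer_of_stabilizes (N := F) Subgroup.le_normalizer_of_normal
      Subgroup.le_normalizer_of_normal ?_ ?_ hYF
    · obtain ⟨n, hn⟩ := hFq.exists_card_eq
      rw [hn]
      exact hYbq.pow_right n
    · intro a ha k hk
      have h1 : a * k * a⁻¹ * k⁻¹ ∈ L.map π :=
        mul_mem (hLbn.conj_mem k hk a) (inv_mem hk)
      have h2 : a * k * a⁻¹ * k⁻¹ ∈ Subgroup.centralizer (F : Set (G ⧸ M)) := by
        have hC' : (Subgroup.centralizer (F : Set (G ⧸ M))).Normal := inferInstance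
        rw [mul_assoc, mul_assoc, ← mul_assoc k]
        exact mul_mem (hYF ha) (hC'.conj_mem _ (inv_mem (hYF ha)) k)
      exact ⟨h1, centralizer_inf_pCore_le (L.map π) hLbs hLb ⟨h1, h2⟩⟩
  set E := (Subgroup.centralizer (L.map π : Set (G ⧸ M))).comap π with hE
  haveI : E.Normal := inferInstance
  set N := E ⊓ Y₀ ⊔ M with hN
  intro y hy
  refine le_core_of_normalized (L := H) (K := N) ?_ ?_ ?_
    (Subgroup.mem_sup_left ⟨hYL ⟨y, hy, rfl⟩, hy.2⟩)
  · exact sup_le (inf_le_right.trans (hYD.trans inf_le_left)) (inf_le_left.trans hLH)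
  · have hcoprime : (Nat.card (P : Subgroup G)).Coprime (Nat.card H) := by
      obtain ⟨n, hn⟩ := P.2.exists_card_eq
      rw [hn]
      exact ((Cores.pPrimeCore_coprime p G).pow_right n).symm
    haveI : Group.IsSolvable (P : Subgroup G) := by
      have := P.2.isNilpotent
      infer_instance
    have hdec := Coprime.commutator_sup_centralizer_eq (A := (P : Subgroup G)) (K := H)
      Subgroup.le_normalizer_of_normal hcoprime (Or.inl inferInstance)
    refine le_trans hdec.ge (sup_le ?_ ?_)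
    · rw [Subgroup.le_normalizer_iff]
      intro g hg x hx
      obtain ⟨r, hr, m, hm, rfl⟩ := Subgroup.mem_sup_of_normal_right.mp hx
      have h1 : g * r * g⁻¹ * r⁻¹ ∈ M := by
        rw [← QuotientGroup.eq_one_iff]
        have := Subgroup.mem_centralizer_iff.mp hr.1 (π g) ⟨g, hg, rfl⟩
        show π (g * r * g⁻¹ * r⁻¹) = 1
        rw [map_mul, map_mul, map_mul, map_inv, map_inv, this]
        group
      rw [show g * (r * m) * g⁻¹ = (g * r * g⁻¹ * r⁻¹) * r * (g * m * g⁻¹) by group]
      exact mul_mem (mul_mem (Subgroup.mem_sup_right h1) (Subgroup.mem_sup_left hr))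
        (Subgroup.mem_sup_right ((inferInstance : M.Normal).conj_mem m hm g))
    · rw [Subgroup.le_normalizer_iff]
      intro g hg x hx
      obtain ⟨r, hr, m, hm, rfl⟩ := Subgroup.mem_sup_of_normal_right.mp hx
      rw [show g * (r * m) * g⁻¹ = (g * r * g⁻¹) * (g * m * g⁻¹) by group]
      exact mul_mem (Subgroup.mem_sup_left ⟨(inferInstance : E.Normal).conj_mem r hr.1 g,
          Subgroup.le_normalizer_iff.mp hDY g hg r hr.2⟩)
        (Subgroup.mem_sup_right ((inferInstance : M.Normal).conj_mem m hm g))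
  · exact ((hYq.coprime_dvd_left (Subgroup.card_dvd_of_le inf_le_right)).mul_left hMq).coprime_dvd_left
      (Cores.card_sup_dvd _ _)

end Cfsg.Agent.S3819
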