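import Cfsg.Statements.S3820


set_option autoImplicit false
open Cfsg

namespace Cfsg.Agent.S3820

/-- Call a subgroup H of G pronormal if H and gHg⁻¹ are conjugate inside ⟨H, gHg⁻¹⟩ for every g ∈ G. Let S ≤ H ≤ G be subgroups of a finite group with S pronormal in G (for instance S a Sylow subgroup). Then H is pronormal in G if and only if H and gHg⁻¹ are conjugate inside ⟨H, gHg⁻¹⟩ for every g ∈ N_G(S). In particular H is pronormal whenever N_G(S) ≤ H. -/
theorem result {G : Type*} [Group G] [Finite G] (S H : Subgroup G) (hSH : S ≤ H)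
    (hS : Cfsg.IsPronormal S) :
    Cfsg.IsPronormal H ↔
      ∀ g ∈ Subgroup.normalizer (S : Set G), ∃ w ∈ H ⊔ H.map (MulAut.conj g).toMonoidHom,
        H.map (MulAut.conj g).toMonoidHom = H.map (MulAut.conj w).toMonoidHom := by
  constructor
  · intro h g _
    exact h g
  · intro h g
    obtain ⟨x, hx, hSx⟩ := hS g
    have hle : S ⊔ S.map (MulAut.conj g).toMonoidHom ≤ H ⊔ H.map (MulAut.conj g).toMonoidHom :=
      sup_le_sup hSH (Subgroup.map_mono hSH)
    have hxJ := hle hx
    have hcomp : ∀ (K : Subgroup G) (a b : G), K.map (MulAut.conj (a * b)).toMonoidHom =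
        (K.map (MulAut.conj b).toMonoidHom).map (MulAut.conj a).toMonoidHom := by
      intro K a b
      rw [Subgroup.map_map]
      congr 1
      ext y
      simp [mul_assoc]
    have hone : ∀ K : Subgroup G, K.map (MulAut.conj (1 : G)).toMonoidHom = K := by
      intro K
      ext y
      simp
    have hn : x⁻¹ * g ∈ Subgroup.normalizer (S : Set G) := by
      have e : S.map (MulAut.conj (x⁻¹ * g)).toMonoidHom = S := by
        rw [hcomp, hSx, ← hcomp, inv_mul_cancel, hone]
      rw [Subgroup.mem_normalizer_iff]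
      intro y
      constructor
      · intro hy
        rw [← e]
        exact ⟨y, hy, rfl⟩
      · intro hy
        rw [← e] at hy
        obtain ⟨z, hz, hz2⟩ := hy
        have : z = y := (MulAut.conj (x⁻¹ * g)).injective hz2
        exact this ▸ hz
    obtain ⟨w, hw, hHw⟩ := h _ hn
    have hwJ : w ∈ H ⊔ H.map (MulAut.conj g).toMonoidHom := by
      refine (sup_le le_sup_left ?_ : H ⊔ H.map (MulAut.conj (x⁻¹ * g)).toMonoidHom ≤ _) hw
      rintro _ ⟨y, hy, rfl⟩
      have h1 : g * y * g⁻¹ ∈ H ⊔ H.map (MulAut.conj g).toMonoidHom :=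
        le_sup_right (a := H) ⟨y, hy, rfl⟩
      have h2 := mul_mem (mul_mem (inv_mem hxJ) h1) hxJ
      simpa [mul_assoc] using h2
    refine ⟨x * w, mul_mem hxJ hwJ, ?_⟩
    rw [hcomp _ x w, ← hHw, ← hcomp, mul_inv_cancel_left]

end Cfsg.Agent.S3820
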