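import Cfsg.Statements.S3821


set_option autoImplicit false
open Cfsg

namespace Cfsg.Agent.S3821

theorem map_conj_mul {G : Type*} [Group G] (K : Subgroup G) (a b : G) :
    K.map (MulAut.conj (a * b)).toMonoidHom =
      (K.map (MulAut.conj b).toMonoidHom).map (MulAut.conj a).toMonoidHom := by
  rw [Subgroup.map_map]
  congr 1
  ext y
  simp [mul_assoc]

theorem mem_normalizer_iff_map_eq {G : Type*} [Group G] (K : Subgroup G) (n : G) :
    n ∈ Subgroup.normalizer (K : Set G) ↔ K.map (MulAut.conj n).toMonoidHom = K := by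
  rw [Subgroup.mem_normalizer_iff]
  constructor
  · intro h
    ext y
    constructor
    · rintro ⟨z, hz, rfl⟩
      exact (h z).mp hz
    · intro hy
      refine ⟨n⁻¹ * y * n, (h _).mpr (by simpa [mul_assoc] using hy), by simp [mul_assoc]⟩
  · intro e y
    constructor
    · intro hy
      rw [← e]
      exact ⟨y, hy, by simp⟩
    · intro hy
      rw [← e] at hy
      obtain ⟨z, hz, hz2⟩ := hy
      have : z = y := (MulAut.conj n).injective (by simpa using hz2)
      exact this ▸ hz

theorem map_subtype_conj {G : Type*} [Group G] (A H : Subgroup G) (hHA : H ≤ A) (a : A) :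
    ((H.subgroupOf A).map (MulAut.conj a).toMonoidHom).map A.subtype =
      H.map (MulAut.conj (a : G)).toMonoidHom := by
  conv_rhs => rw [← Subgroup.map_subgroupOf_eq_of_le hHA, Subgroup.map_map]
  rw [Subgroup.map_map]
  congr 1

/-- Let A be a normal subgroup of the finite group G and H a subgroup of A. Then H is pronormal in G (H and gHg⁻¹ conjugate inside ⟨H, gHg⁻¹⟩ for every g ∈ G) if and only if H is pronormal in A and G = A · N_G(H). -/
theorem result {G : Type*} [Group G] [Finite G] (A H : Subgroup G) [A.Normal] (hHA : H ≤ A) :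
    Cfsg.IsPronormal H ↔ (Cfsg.IsPronormal (H.subgroupOf A) ∧ A ⊔ Subgroup.normalizer (H : Set G) = ⊤) := by
  constructor
  · intro h
    constructor
    · intro a
      obtain ⟨x, hx, hHx⟩ := h a
      have hle : H ⊔ H.map (MulAut.conj (a : G)).toMonoidHom ≤ A := by
        refine sup_le hHA ?_
        rintro _ ⟨y, hy, rfl⟩
        exact mul_mem (mul_mem a.2 (hHA hy)) (inv_mem a.2)
      refine ⟨⟨x, hle hx⟩, ?_, Subgroup.map_injective A.subtype_injective ?_⟩
      · rw [← Subgroup.mem_map_iff_mem A.subtype_injective, Subgroup.map_sup,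
          map_subtype_conj A H hHA, Subgroup.map_subgroupOf_eq_of_le hHA]
        exact hx
      · rw [map_subtype_conj A H hHA, map_subtype_conj A H hHA]
        exact hHx
    · rw [eq_top_iff]
      intro g _
      obtain ⟨x, hx, hHx⟩ := h g
      have hxA : x ∈ A := by
        refine (sup_le hHA ?_ : H ⊔ H.map (MulAut.conj g).toMonoidHom ≤ A) hx
        rintro _ ⟨y, hy, rfl⟩
        exact (inferInstance : A.Normal).conj_mem y (hHA hy) g
      have hn : x⁻¹ * g ∈ Subgroup.normalizer (H : Set G) := by
        rw [mem_normalizer_iff_map_eq, map_conj_mul, hHx, ← map_conj_mul, inv_mul_cancel]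
        ext y
        simp
      have := Subgroup.mul_mem_sup hxA hn
      rwa [mul_inv_cancel_left] at this
  · rintro ⟨h, htop⟩ g
    have hg : g ∈ ((A ⊔ Subgroup.normalizer (H : Set G) : Subgroup G) : Set G) := by
      rw [htop]; trivial
    rw [Subgroup.normal_mul] at hg
    obtain ⟨a, ha, n, hn, rfl⟩ := hg
    have e : H.map (MulAut.conj (a * n)).toMonoidHom = H.map (MulAut.conj a).toMonoidHom := by
      rw [map_conj_mul, (mem_normalizer_iff_map_eq H n).mp hn]
    obtain ⟨x, hx, hHx⟩ := h ⟨a, ha⟩
    refine ⟨x, ?_, ?_⟩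
    · rw [e]
      have h2 := Subgroup.mem_map_of_mem A.subtype hx
      rw [Subgroup.map_sup, map_subtype_conj A H hHA, Subgroup.map_subgroupOf_eq_of_le hHA] at h2
      exact h2
    · rw [e]
      have h2 := congrArg (Subgroup.map A.subtype) hHx
      rwa [map_subtype_conj A H hHA, map_subtype_conj A H hHA] at h2

end Cfsg.Agent.S3821
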