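import Cfsg.Statements.S3822
import Cfsg.Agent.Lib.PLocal.TwoGenFitting
import Cfsg.Agent.Lib.Cores.PCore
import Cfsg.Agent.Lib.Cores.Basic

set_option autoImplicit false
open Cfsg

namespace Cfsg.Agent.S3822

/-- Let G be a finite group and P a subgroup of prime order p > 3. Consider the solvable subgroups A of G of the form A = ⟨P, aPa⁻¹⟩ for some a ∈ A, and let A be maximal under inclusion among them. Then for every nilpotent subgroup V of G normalized by A, the subgroup F(A)V generated by the Fitting subgroup of A and V is nilpotent. -/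
theorem result {G : Type*} [Group G] [Finite G]
    {p : ℕ} [Fact p.Prime] (hp : 3 < p) (P : Subgroup G) (hP : Nat.card P = p) (A : Subgroup G)
    (hA : Group.IsSolvable ↥A ∧ ∃ a ∈ A, A = P ⊔ P.map (MulAut.conj a).toMonoidHom)
    (hmax : ∀ B : Subgroup G, A ≤ B → Group.IsSolvable ↥B → (∃ b ∈ B, B = P ⊔ P.map (MulAut.conj b).toMonoidHom) → B = A)
    (V : Subgroup G) (hV : Group.IsNilpotent ↥V) (hAV : A ≤ Subgroup.normalizer (V : Set G)) :
    Group.IsNilpotent ↥((Cfsg.fittingSubgroup ↥A).map A.subtype ⊔ V) := by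
  haveI hp' : Fact p.Prime := inferInstance
  have hp5 : 5 ≤ p := by
    have h := (Fact.out : p.Prime)
    rcases Nat.lt_or_ge p 5 with h' | h'
    · exact absurd (show p = 4 by omega) fun e => by rw [e] at h; norm_num at h
    · exact h'
  obtain ⟨⟨x, hxP⟩, hx⟩ := exists_prime_orderOf_dvd_card' (G := P) p (dvd_of_eq hP.symm)
  rw [← Subgroup.orderOf_coe] at hx
  change orderOf x = p at hx
  obtain rfl : Subgroup.zpowers x = P :=
    Subgroup.eq_of_le_of_card_ge (Subgroup.zpowers_le.mpr hxP) (by rw [Nat.card_zpowers, hx, hP])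
  obtain ⟨hAs, a, ha, hAe⟩ := hA
  haveI := hAs
  haveI := hV
  have key : ∀ q r : ℕ, q.Prime → r.Prime → r ≠ q →
      (Cfsg.pCore r A).map A.subtype ≤
        Subgroup.centralizer (((Cfsg.pCore q V).map V.subtype : Subgroup G) : Set G) := by
    intro q r hq hr hne
    haveI := Fact.mk hq
    haveI := Fact.mk hr
    exact Lib.PLocal.FixHalf.pCore_le_centralizer (p := p) hp5 (hx ▸ pow_orderOf_eq_one x) A ha hAe hmax
      hne _ ((Lib.Cores.pCore_isPGroup q V).map _)
      (hAV.trans (Lib.Cores.normalizer_le_normalizer_map_subtype V _))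
  set F := (Cfsg.fittingSubgroup ↥A).map A.subtype with hF
  set H := F ⊔ V with hH
  let FA : ℕ → Subgroup G := fun r => (Cfsg.pCore r A).map A.subtype
  let VV : ℕ → Subgroup G := fun r => (Cfsg.pCore r V).map V.subtype
  have hFtop : ∀ K : Subgroup G, (∀ r, r.Prime → FA r ≤ K) → F ≤ K := fun K hK => by
    rw [hF, Subgroup.map_le_iff_le_comap]
    exact Lib.Cores.fittingSubgroup_le_of_pCore_le fun r hr => Subgroup.map_le_iff_le_comap.mp (hK r hr)
  have hVtop : ∀ K : Subgroup G, (∀ r, r.Prime → VV r ≤ K) → V ≤ K := fun K hK v hv => by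
    have h1 := Lib.Cores.normal_nilpotent_le_of_pCore_le (N := (⊤ : Subgroup V)) (K := K.subgroupOf V)
      (Group.nilpotent_of_mulEquiv Subgroup.topEquiv.symm)
      (fun r hr => Subgroup.map_le_iff_le_comap.mp (hK r hr))
    exact h1 (Subgroup.mem_top ⟨v, hv⟩)
  have hFAF : ∀ r, r.Prime → FA r ≤ F := fun r hr => by
    haveI := Fact.mk hr
    exact Subgroup.map_mono (Lib.Cores.pCore_le_fittingSubgroup r)
  have hFAn : ∀ r, A ≤ Subgroup.normalizer (FA r : Set G) := fun r => by
    refine Subgroup.le_normalizer.trans (Lib.Cores.normalizer_le_normalizer_map_subtype A _)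
  have hVVn : ∀ r, Subgroup.normalizer (V : Set G) ≤ Subgroup.normalizer (VV r : Set G) := fun r =>
    Lib.Cores.normalizer_le_normalizer_map_subtype V _
  have hS : ∀ r, r.Prime → FA r ⊔ VV r ≤ (Cfsg.fittingSubgroup H).map H.subtype := by
    intro r hr
    haveI := Fact.mk hr
    set S := FA r ⊔ VV r with hSdef
    have hSH : S ≤ H := sup_le ((hFAF r hr).trans le_sup_left) ((Subgroup.map_subtype_le _).trans le_sup_right)
    have hSp : IsPGroup r S :=
      IsPGroup.to_sup_of_normal_right' ((Lib.Cores.pCore_isPGroup r A).map _)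
        ((Lib.Cores.pCore_isPGroup r V).map _)
        ((Subgroup.map_subtype_le _).trans (hAV.trans (hVVn r)))
    have hnorm : H ≤ Subgroup.normalizer (S : Set G) := by
      refine sup_le (hFtop _ fun s hs => ?_) (hVtop _ fun s hs => ?_)
      · by_cases hsr : s = r
        · rw [hsr]
          exact le_sup_left.trans Subgroup.le_normalizer
        · intro g hg
          have h1 : g ∈ Subgroup.normalizer (FA r : Set G) := hFAn r (Subgroup.map_subtype_le _ hg)
          have h2 : g ∈ Subgroup.normalizer (VV r : Set G) :=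
            Subgroup.centralizer_le_normalizer _ (key r s hr hs hsr hg)
          rw [Subgroup.mem_normalizer_iff_map_conj_eq] at h1 h2 ⊢
          rw [hSdef, Subgroup.map_sup, h1, h2]
      · by_cases hsr : s = r
        · rw [hsr]
          exact le_sup_right.trans Subgroup.le_normalizer
        · intro g hg
          have h2 : g ∈ Subgroup.normalizer (VV r : Set G) :=
            hVVn r (Subgroup.le_normalizer (Subgroup.map_subtype_le _ hg))
          have h1 : g ∈ Subgroup.normalizer (FA r : Set G) :=
            Subgroup.centralizer_le_normalizer _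
              (Subgroup.le_centralizer_iff.mp (key s r hs hr (Ne.symm hsr)) hg)
          rw [Subgroup.mem_normalizer_iff_map_conj_eq] at h1 h2 ⊢
          rw [hSdef, Subgroup.map_sup, h1, h2]
    haveI : (S.subgroupOf H).Normal := (Subgroup.normal_subgroupOf_iff_le_normalizer hSH).mpr hnorm
    intro g hg
    exact ⟨⟨g, hSH hg⟩, Lib.Cores.le_fittingSubgroup (N := S.subgroupOf H) inferInstance
      (hSp.comap_of_injective H.subtype H.subtype_injective).isNilpotent hg, rfl⟩
  have htop : Cfsg.fittingSubgroup H = ⊤ := by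
    refine eq_top_iff.mpr fun g _ => ?_
    have hle : H ≤ (Cfsg.fittingSubgroup H).map H.subtype :=
      sup_le (hFtop _ fun r hr => le_sup_left.trans (hS r hr)) (hVtop _ fun r hr => le_sup_right.trans (hS r hr))
    obtain ⟨g', hg', hgg⟩ := hle g.2
    obtain rfl : g' = g := Subtype.ext hgg
    exact hg'
  have := Lib.Cores.fittingSubgroup_isNilpotent H
  rw [htop] at this
  exact Group.nilpotent_of_mulEquiv Subgroup.topEquiv

end Cfsg.Agent.S3822
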