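import Cfsg.Statements.S3824
import Cfsg.Agent.Lib.Cores.Basic
import Cfsg.Agent.Lib.Characters.Kernel

set_option autoImplicit false
open Cfsg

namespace Cfsg.Agent.S3824

universe u

theorem aux : ∀ n : ℕ, ∀ (H : Type u) [Group H] [Finite H], Nat.card H = n →
    ∀ A : Subgroup H, IsMulCommutative A → (∃ k : ℕ, A.index = 2 ^ k) → Group.IsSolvable H := by
  intro n
  induction n using Nat.strong_induction_on with
  | _ n ih =>
    intro H _ _ hn A hA ⟨k, hk⟩
    rcases subsingleton_or_nontrivial H with hs | hnt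
    · exact Group.isSolvable_of_comm fun _ _ => Subsingleton.elim _ _
    by_cases hsimple : IsSimpleGroup H
    · by_cases hA1 : A = ⊥
      · rw [hA1, Subgroup.index_bot] at hk
        have := (IsPGroup.of_card (p := 2) hk).isNilpotent
        infer_instance
      obtain ⟨a, ha, ha1⟩ := Subgroup.ne_bot_iff_exists_ne_one.mp hA1 |>.elim
        (fun x hx => (⟨x.1, x.2, fun h => hx (Subtype.ext h)⟩ : ∃ a ∈ A, a ≠ 1))
      have hle : A ≤ Subgroup.centralizer ({a} : Set H) := fun b hb =>
        Subgroup.mem_centralizer_singleton_iff.mpr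
          (congrArg Subtype.val (hA.is_comm.comm (⟨b, hb⟩ : A) ⟨a, ha⟩))
      obtain ⟨j, -, hj⟩ := (Nat.dvd_prime_pow Nat.prime_two).mp (hk ▸ Subgroup.index_dvd_of_le hle)
      have hp := Cfsg.Agent.Lib.Characters.card_prime_of_class_primePow Nat.prime_two ha1 hj
      have := Fact.mk hp
      have := isCyclic_of_prime_card (α := H) rfl
      have : IsMulCommutative H := IsCyclic.isMulCommutative
      exact Group.isSolvable_of_comm fun x y => this.is_comm.comm x y
    · obtain ⟨N, hN, hN1, hNtop⟩ : ∃ N : Subgroup H, N.Normal ∧ N ≠ ⊥ ∧ N ≠ ⊤ := by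
        by_contra hne
        push_neg at hne
        exact hsimple ⟨fun N hN => or_iff_not_imp_left.mpr (hne N hN)⟩
      have hNlt : Nat.card N < n := by
        rw [← hn]
        exact lt_of_le_of_ne (Subgroup.card_le_card_group N) (fun h => hNtop (Subgroup.eq_top_of_card_eq N h))
      have hQlt : Nat.card (H ⧸ N) < n := by
        rw [← hn, Subgroup.card_eq_card_quotient_mul_card_subgroup N]
        exact lt_mul_of_one_lt_right Nat.card_pos ((Subgroup.one_lt_card_iff_ne_bot N).mpr hN1)
      have hdvd : A.relIndex N ∣ A.index := by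
        have h1 : Nat.card A * A.relIndex N = Nat.card ↥(A ⊔ N) := by
          have h2 := Cfsg.Agent.Lib.Cores.card_sup_mul_card_inf A N
          have h3 : Nat.card ↥(A ⊓ N) * A.relIndex N = Nat.card N := by
            rw [← Subgroup.relIndex_bot_left (A ⊓ N), ← Subgroup.relIndex_bot_left N,
              ← Subgroup.inf_relIndex_right A N,
              Subgroup.relIndex_mul_relIndex _ _ _ bot_le inf_le_right]
          refine Nat.eq_of_mul_eq_mul_right (Nat.card_pos : 0 < Nat.card ↥(A ⊓ N)) ?_
          rw [h2, mul_assoc, mul_comm (A.relIndex N), h3]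
        refine Nat.dvd_of_mul_dvd_mul_left (Nat.card_pos : 0 < Nat.card A) ?_
        rw [h1, Subgroup.card_mul_index]
        exact Subgroup.card_subgroup_dvd_card _
      have hAN : IsMulCommutative ↥(A.subgroupOf N) :=
        ⟨⟨fun x y => Subtype.ext (Subtype.ext
          (show ((x : N) : H) * ((y : N) : H) = _ * _ from
            congrArg Subtype.val (hA.is_comm.comm (⟨_, x.2⟩ : A) ⟨_, y.2⟩)))⟩⟩
      have s1 : Group.IsSolvable N := by
        obtain ⟨j, -, hj⟩ := (Nat.dvd_prime_pow Nat.prime_two).mp (hk ▸ hdvd)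
        exact ih _ hNlt N rfl (A.subgroupOf N) hAN ⟨j, hj⟩
      have s2 : Group.IsSolvable (H ⧸ N) := by
        obtain ⟨j, -, hj⟩ := (Nat.dvd_prime_pow Nat.prime_two).mp
          (hk ▸ A.index_map_dvd (QuotientGroup.mk'_surjective N))
        refine ih _ hQlt (H ⧸ N) rfl (A.map (QuotientGroup.mk' N)) ?_ ⟨j, hj⟩
        exact ⟨⟨fun ⟨_, x, hx, rfl⟩ ⟨_, y, hy, rfl⟩ => Subtype.ext
          (show QuotientGroup.mk' N x * QuotientGroup.mk' N y = _ * _ by
            rw [← map_mul, ← map_mul]
            exact congrArg _ (congrArg Subtype.val (hA.is_comm.comm (⟨x, hx⟩ : A) ⟨y, hy⟩)))⟩⟩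
      exact Group.isSolvable_of_ker_le_range N.subtype (QuotientGroup.mk' N)
        (by simp [QuotientGroup.ker_mk'])

/-- Every finite group having an abelian subgroup whose index is a power of 2 is solvable. -/
theorem result {G : Type*} [Group G] [Finite G]
    (A : Subgroup G) (hA : IsMulCommutative A) (hidx : ∃ k : ℕ, A.index = 2 ^ k) : Group.IsSolvable G := by
  exact aux _ G rfl A hA hidx

end Cfsg.Agent.S3824
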