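import Cfsg.Statements.S3825
import Mathlib.GroupTheory.FixedPointFree
import Mathlib.GroupTheory.SpecificGroups.Cyclic
import Mathlib.GroupTheory.QuotientGroup.Basic

set_option autoImplicit false
open Cfsg

namespace Cfsg.Agent.S3825

open scoped commutatorElement

/-- Let U be a subgroup of a finite group H and w an involution of H normalizing U and commuting with exactly two elements of U, the identity and y. If V is a non-cyclic elementary abelian 2-subgroup of U containing y which is normal in U and invariant under w, then V is a Sylow 2-subgroup of U, V has order 4, and U/V is abelian. -/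
theorem result {H : Type*} [Group H] [Finite H] (U : Subgroup H) (w : H) (hw : orderOf w = 2)
    (hwU : w ∈ Subgroup.normalizer (U : Set H)) (y : H) (hy : y ≠ 1) (hyU : y ∈ U)
    (hfix : ∀ u ∈ U, w * u * w⁻¹ = u ↔ (u = 1 ∨ u = y))
    (V : Subgroup H) (hVU : V ≤ U) (hVn : (V.subgroupOf U).Normal) (hVw : ∀ v ∈ V, w * v * w⁻¹ ∈ V)
    (hVe : Cfsg.IsElementaryAbelian 2 V) (hVc : ¬ IsCyclic ↥V) (hyV : y ∈ V) :
    ¬ 2 ∣ V.relIndex U ∧ Nat.card ↥V = 4 ∧ ⁅U, U⁆ ≤ V := by
  obtain ⟨hVab, hV2⟩ := hVe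
  have hw2 : w * w = 1 := by rw [← pow_two, ← hw]; exact pow_orderOf_eq_one w
  have hwi : w⁻¹ = w := inv_eq_of_mul_eq_one_right hw2
  have hvinv : ∀ v ∈ V, v⁻¹ = v := fun v hv => inv_eq_of_mul_eq_one_right (by rw [← pow_two]; exact hV2 v hv)
  have hvc : ∀ a ∈ V, ∀ b ∈ V, a * b = b * a := fun a ha b hb =>
    congrArg Subtype.val (hVab.is_comm.comm ⟨a, ha⟩ ⟨b, hb⟩)
  have hwwU : ∀ u ∈ U, w * u * w⁻¹ ∈ U := fun u hu => (Subgroup.mem_normalizer_iff.mp hwU u).mp hu
  -- values in V of u ↦ [w, u] are 1 or y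
  have hval : ∀ u ∈ U, ∀ c ∈ V, w * u * w⁻¹ * u⁻¹ = c → c = 1 ∨ c = y := by
    intro u hu c hc e
    refine (hfix c (hVU hc)).mp ?_
    have : w * c * w⁻¹ = c⁻¹ := by
      rw [← e]
      simp only [mul_inv_rev, inv_inv, mul_assoc, hwi]
      rw [← mul_assoc w w, hw2, one_mul]
    rw [this, hvinv c hc]
  let ψ : V →* V := MonoidHom.mk' (fun v => ⟨w * v * w⁻¹ * (v : H)⁻¹, mul_mem (hVw v v.2) (inv_mem v.2)⟩)
    fun a b => Subtype.ext (by
      show w * ((a : H) * b) * w⁻¹ * ((a : H) * b)⁻¹ = _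
      have h1 := hvc _ (mul_mem (hVw b b.2) (inv_mem b.2)) _ (inv_mem a.2)
      calc w * ((a : H) * b) * w⁻¹ * ((a : H) * b)⁻¹
          = w * a * w⁻¹ * ((w * b * w⁻¹ * (b : H)⁻¹) * (a : H)⁻¹) := by group
        _ = _ := by rw [h1]; simp [mul_assoc])
  have hker : Nat.card ψ.ker ≤ 2 := by
    classical
    refine le_trans (Nat.card_le_card_of_injective (fun v => (decide ((v : V) = (1 : V)) : Bool)) ?_) (by simp)
    intro a b hab
    have key : ∀ v : ψ.ker, ((v : V) : H) = 1 ∨ ((v : V) : H) = y := fun v => by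
      refine (hfix _ (hVU (v : V).2)).mp ?_
      exact mul_inv_eq_one.mp (congrArg Subtype.val (MonoidHom.mem_ker.mp v.2))
    simp only [decide_eq_decide] at hab
    apply Subtype.ext; apply Subtype.ext
    rcases key a with ha | ha <;> rcases key b with hb | hb <;> rw [ha, hb]
    · exact absurd (congrArg Subtype.val (hab.mp (Subtype.ext ha))) (by rw [hb]; exact hy)
    · exact absurd (congrArg Subtype.val (hab.mpr (Subtype.ext hb))) (by rw [ha]; exact hy)
  have hrange : Nat.card ψ.range ≤ 2 := by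
    classical
    refine le_trans (Nat.card_le_card_of_injective (fun v => (decide ((v : V) = (1 : V)) : Bool)) ?_) (by simp)
    intro a b hab
    have key : ∀ v : ψ.range, ((v : V) : H) = 1 ∨ ((v : V) : H) = y := fun v => by
      obtain ⟨u, hu⟩ := v.2
      exact hval u (hVU u.2) _ (v : V).2 (congrArg Subtype.val hu)
    simp only [decide_eq_decide] at hab
    apply Subtype.ext; apply Subtype.ext
    rcases key a with ha | ha <;> rcases key b with hb | hb <;> rw [ha, hb]
    · exact absurd (congrArg Subtype.val (hab.mp (Subtype.ext ha))) (by rw [hb]; exact hy)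
    · exact absurd (congrArg Subtype.val (hab.mpr (Subtype.ext hb))) (by rw [ha]; exact hy)
  have hle4 : Nat.card V ≤ 4 := by
    rw [← ψ.ker.card_mul_index, Subgroup.index_ker]
    exact Nat.mul_le_mul hker hrange
  have hcard : Nat.card V = 4 := by
    haveI : Fact (Nat.Prime 2) := ⟨Nat.prime_two⟩
    obtain ⟨k, hk⟩ := IsPGroup.iff_card.mp (show IsPGroup 2 V from fun v => ⟨1, Subtype.ext (by
      rw [pow_one, SubmonoidClass.coe_pow]; exact hV2 v v.2)⟩)
    rcases k with _ | _ | _ | k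
    · exfalso; apply hVc
      rw [pow_zero] at hk
      haveI : Subsingleton V := (Nat.card_eq_one_iff_unique.mp hk).1
      exact isCyclic_of_subsingleton
    · exfalso; exact hVc (isCyclic_of_prime_card (p := 2) hk)
    · exact hk
    · exfalso
      rw [hk] at hle4
      have := Nat.one_le_two_pow (n := k)
      omega
  have hrange2 : Nat.card ψ.range = 2 := by
    have h1 := ψ.ker.card_mul_index
    rw [Subgroup.index_ker, hcard] at h1
    nlinarith [Nat.mul_le_mul_right (Nat.card ψ.range) hker]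
  -- y is a value on V
  obtain ⟨v₀, hv₀⟩ : ∃ v : V, w * v * w⁻¹ * (v : H)⁻¹ = y := by
    have hne : ψ.range ≠ ⊥ := fun e => by rw [e, Subgroup.card_bot] at hrange2; omega
    obtain ⟨c, ⟨v, rfl⟩, hc⟩ := ψ.range.bot_or_exists_ne_one.resolve_left hne
    exact ⟨v, (hval v (hVU v.2) _ (ψ v).2 rfl).resolve_left fun e => hc (Subtype.ext e)⟩
  have hyw : w * y * w⁻¹ = y := (hfix y hyU).mpr (Or.inr rfl)
  -- preimage of V is V
  have hpre : ∀ u ∈ U, w * u * w⁻¹ * u⁻¹ ∈ V → u ∈ V := by
    intro u hu hc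
    rcases hval u hu _ hc rfl with e | e
    · rcases (hfix u hu).mp (mul_inv_eq_one.mp e) with rfl | rfl
      · exact one_mem V
      · exact hyV
    · have hx : w * ((v₀ : H)⁻¹ * u) * w⁻¹ = (v₀ : H)⁻¹ * u := by
        have h1 : w * u * w⁻¹ = y * u := by rw [← e, inv_mul_cancel_right]
        have h2 : w * (v₀ : H) * w⁻¹ = y * v₀ := by rw [← hv₀, inv_mul_cancel_right]
        calc w * ((v₀ : H)⁻¹ * u) * w⁻¹ = (w * (v₀ : H) * w⁻¹)⁻¹ * (w * u * w⁻¹) := by group
          _ = _ := by rw [h1, h2]; group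
      rcases (hfix _ (mul_mem (inv_mem (hVU v₀.2)) hu)).mp hx with e1 | e1
      · rw [inv_mul_eq_one] at e1; exact e1 ▸ v₀.2
      · rw [inv_mul_eq_iff_eq_mul] at e1; rw [e1]; exact mul_mem v₀.2 hyV
  -- the involution on the quotient
  let c : U →* U := MonoidHom.mk' (fun u => ⟨w * u * w⁻¹, hwwU u u.2⟩) fun a b =>
    Subtype.ext (by show w * ((a : H) * b) * w⁻¹ = w * a * w⁻¹ * (w * b * w⁻¹); group)
  haveI := hVn
  have hcV : V.subgroupOf U ≤ (V.subgroupOf U).comap c := fun u hu => hVw _ hu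
  let φ := QuotientGroup.map (V.subgroupOf U) (V.subgroupOf U) c hcV
  have hfpf : MonoidHom.FixedPointFree φ := by
    intro q
    induction q using QuotientGroup.induction_on with
    | H u =>
      intro e
      rw [QuotientGroup.map_mk, QuotientGroup.eq] at e
      have e' : (w * (u : H) * w⁻¹)⁻¹ * u ∈ V := e
      rw [QuotientGroup.eq_one_iff]
      refine hpre u u.2 ?_
      have := hVn.conj_mem ⟨(w * (u : H) * w⁻¹)⁻¹ * u, mul_mem (inv_mem (hwwU u u.2)) u.2⟩ e' u
      have h3 : (u : H) * ((w * (u : H) * w⁻¹)⁻¹ * u) * (u : H)⁻¹ ∈ V := this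
      have h4 := inv_mem h3
      simpa [mul_assoc] using h4
  have hinv : Function.Involutive φ := by
    intro q
    induction q using QuotientGroup.induction_on with
    | H u =>
      rw [QuotientGroup.map_mk, QuotientGroup.map_mk]
      congr 1
      apply Subtype.ext
      show w * (w * (u : H) * w⁻¹) * w⁻¹ = u
      rw [show w * (w * (u : H) * w⁻¹) * w⁻¹ = (w * w) * u * (w * w)⁻¹ by group, hw2]; group
  refine ⟨?_, hcard, ?_⟩
  · have := hfpf.odd_card_of_involutive hinv
    exact this.not_two_dvd_nat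
  · rw [Subgroup.commutator_le]
    intro a ha b hb
    have := hfpf.commute_all_of_involutive hinv (QuotientGroup.mk ⟨a, ha⟩) (QuotientGroup.mk ⟨b, hb⟩)
    have h1 : ((⁅(⟨a, ha⟩ : U), ⟨b, hb⟩⁆ : U) : U ⧸ V.subgroupOf U) = 1 := by
      rw [← QuotientGroup.mk'_apply, map_commutatorElement, commutatorElement_eq_one_iff_mul_comm]
      exact this
    rw [QuotientGroup.eq_one_iff] at h1
    exact h1

end Cfsg.Agent.S3825
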