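import Cfsg.Statements.S3838
import Cfsg.Agent.Lib.Transfer.PFrattini
import Cfsg.Agent.Lib.Transfer.Frobenius

set_option autoImplicit false
open Cfsg

namespace Cfsg.Agent.S3838

open Cfsg.Agent.Lib.Transfer
open scoped commutatorElement

theorem aux {H : Type*} [Group H] [Finite H] {p : ℕ} [Fact p.Prime] (P : Sylow p H) (Q : Subgroup H)
    [Q.Normal] (hQP : Q ≤ (P : Subgroup H))
    (h1 : (commutator ↥(P : Subgroup H)).map (P : Subgroup H).subtype ≤ Q)
    (h2 : Q ≤ (frattini ↥(P : Subgroup H)).map (P : Subgroup H).subtype)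
    (hN : Cfsg.HasNormalPComplement p ↥(Subgroup.normalizer ((P : Subgroup H) : Set H))) :
    Cfsg.HasNormalPComplement p H := by
  set K := Subgroup.normalizer ((P : Subgroup H) : Set H) with hK
  set f := QuotientGroup.mk' Q
  set Pb := P.mapSurjective (f := f) (QuotientGroup.mk'_surjective Q) with hPb
  have hcomm : ∀ a ∈ (P : Subgroup H), ∀ b ∈ (P : Subgroup H), f a * f b = f b * f a := by
    intro a ha b hb
    rw [← commutatorElement_eq_one_iff_mul_comm, ← map_commutatorElement]
    exact (QuotientGroup.eq_one_iff _).mpr (h1 ⟨⁅⟨a, ha⟩, ⟨b, hb⟩⁆,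
      Subgroup.commutator_mem_commutator (Subgroup.mem_top _) (Subgroup.mem_top _), rfl⟩)
  have hb : Subgroup.normalizer ((Pb : Subgroup (H ⧸ Q)) : Set (H ⧸ Q)) ≤
      Subgroup.centralizer ((Pb : Subgroup (H ⧸ Q)) : Set (H ⧸ Q)) := by
    intro yb hyb
    obtain ⟨y, rfl⟩ := QuotientGroup.mk'_surjective Q yb
    have hy : y ∈ K := by
      rw [hK, Subgroup.mem_set_normalizer_iff]
      intro x
      have hiff : ∀ x : H, f x ∈ (Pb : Subgroup (H ⧸ Q)) ↔ x ∈ (P : Subgroup H) := fun x => by
        rw [hPb, Sylow.coe_mapSurjective, ← Subgroup.mem_comap, Subgroup.comap_map_eq,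
          QuotientGroup.ker_mk', sup_of_le_left hQP]
      rw [SetLike.mem_coe, SetLike.mem_coe, ← hiff x, ← hiff (y * x * y⁻¹)]
      rw [map_mul, map_mul, map_inv]
      exact (Subgroup.mem_set_normalizer_iff.mp hyb) (f x)
    obtain ⟨a, b, ha, hbz, hao, ⟨k, hk⟩, hab⟩ := exists_pPart_decomp (p := p) y
    have haK : a ∈ K := (Subgroup.zpowers_le.mpr hy) ha
    have hbK : b ∈ K := (Subgroup.zpowers_le.mpr hy) hbz
    have hbP : b ∈ (P : Subgroup H) := by
      have hb2 : IsPGroup p (Subgroup.zpowers b) :=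
        IsPGroup.of_card (n := k) (by rw [Nat.card_zpowers, hk])
      exact ((hb2.inf_normalizer_sylow P).le ⟨Subgroup.mem_zpowers b, hbK⟩).2
    have hPn : ((P : Subgroup H).subgroupOf K).Normal := Subgroup.normal_in_normalizer
    have hac : (⟨a, haK⟩ : K) ∈ Subgroup.centralizer (((P : Subgroup H).subgroupOf K : Subgroup K) : Set K) :=
      commute_of_hasNormalPComplement hN (Q := (P : Subgroup H).subgroupOf K) (P.2.comap_subtype) (by rwa [Subgroup.orderOf_mk])
    intro z hz
    obtain ⟨x, hx, rfl⟩ := hz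
    rw [hab, map_mul, ← mul_assoc]
    have h3 : f x * f a = f a * f x := by
      rw [← map_mul, ← map_mul]
      exact congrArg f (congrArg Subtype.val (hac (⟨x, Subgroup.le_normalizer hx⟩ : K) hx))
    rw [h3, mul_assoc, hcomm x hx b hbP, mul_assoc]
  have hq := hasNormalPComplement_of_normalizer_le_centralizer Pb hb
  rw [hasNormalPComplement_iff_inf_eq_bot P, inf_pResidual_eq P Subgroup.le_normalizer ?_]
  · refine le_bot_iff.mp ?_
    rintro x ⟨hxP, hxK⟩
    obtain ⟨w, hw, rfl⟩ := hxK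
    rw [hasNormalPComplement_iff_coprime] at hN
    exact Subgroup.mem_bot.mpr (eq_one_of_isPGroup_of_coprime P.2 hxP
      (by rw [Subgroup.subtype_apply, Subgroup.orderOf_coe]; exact coprime_orderOf_of_mem hN hw))
  · refine le_trans ?_ (le_sup_left.trans le_sup_left)
    refine le_trans ?_ h2
    rintro x ⟨hxP, hxR⟩
    rw [← QuotientGroup.eq_one_iff]
    have h4 : f x ∈ Cfsg.pResidual p (H ⧸ Q) :=
      pResidual_map_of_surjective (p := p) f (QuotientGroup.mk'_surjective Q) ▸ Subgroup.mem_map_of_mem f hxR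
    rw [hasNormalPComplement_iff_coprime] at hq
    exact eq_one_of_isPGroup_of_coprime Pb.2 (show f x ∈ (Pb : Subgroup (H ⧸ Q)) from ⟨x, hxP, rfl⟩)
      (coprime_orderOf_of_mem hq h4)

/-- Let G be a finite group with Sylow p-subgroup P such that N_G(P) has a normal p-complement. Then N_G(Q) has a normal p-complement for every subgroup Q with [P, P] ≤ Q ≤ Φ(P). -/
theorem result {G : Type*} [Group G] [Finite G] {p : ℕ} [Fact p.Prime] (P : Sylow p G) (hN : Cfsg.HasNormalPComplement p ↥(Subgroup.normalizer ((P : Subgroup G) : Set G))) (Q : Subgroup G) (h1 : (commutator ↥(P : Subgroup G)).map (P : Subgroup G).subtype ≤ Q) (h2 : Q ≤ (frattini ↥(P : Subgroup G)).map (P : Subgroup G).subtype) : Cfsg.HasNormalPComplement p ↥(Subgroup.normalizer (Q : Set G)) := by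
  set H := Subgroup.normalizer (Q : Set G) with hH
  have hQP : Q ≤ (P : Subgroup G) := h2.trans (Subgroup.map_subtype_le _)
  have hPH : (P : Subgroup G) ≤ H := by
    intro x hx
    rw [hH, Subgroup.mem_set_normalizer_iff]
    have key : ∀ y ∈ (P : Subgroup G), ∀ z ∈ Q, y * z * y⁻¹ ∈ Q := fun y hy z hz => by
      have h : y * z * y⁻¹ * z⁻¹ ∈ Q := h1 ⟨⁅⟨y, hy⟩, ⟨z, hQP hz⟩⁆,
        Subgroup.commutator_mem_commutator (Subgroup.mem_top _) (Subgroup.mem_top _), rfl⟩
      have := mul_mem h hz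
      rwa [inv_mul_cancel_right] at this
    refine fun z => ⟨key x hx z, fun h => ?_⟩
    have := key x⁻¹ (inv_mem hx) _ h
    simpa [mul_assoc] using this
  have : (Q.subgroupOf H).Normal := Subgroup.normal_in_normalizer
  let e : ↥(((P.subtype hPH) : Sylow p H) : Subgroup H) ≃* ↥(P : Subgroup G) :=
    Subgroup.subgroupOfEquivOfLe hPH
  refine aux (P.subtype hPH) (Q.subgroupOf H) (fun z hz => hQP hz) ?_ ?_ ?_
  · rintro _ ⟨z, hz, rfl⟩
    refine h1 ⟨e z, ?_, rfl⟩
    exact (map_commutator_eq _ e.toMonoidHom).le.trans (Subgroup.commutator_mono le_top le_top)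
      ⟨z, hz, rfl⟩
  · intro z hz
    obtain ⟨w, hw, hwz⟩ := h2 hz
    refine ⟨e.symm w, map_frattini_le_of_surjective e.symm.toMonoidHom e.symm.surjective ⟨w, hw, rfl⟩, ?_⟩
    exact Subtype.ext hwz
  · refine hasNormalPComplement_of_injective
      (((H.subtype).comp (Subgroup.normalizer (((P.subtype hPH) : Subgroup H) : Set H)).subtype).codRestrict
        (Subgroup.normalizer ((P : Subgroup G) : Set G)) ?_) ?_ hN
    · intro w
      rw [Subgroup.mem_set_normalizer_iff]
      intro x
      constructor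
      · intro hx
        exact ((Subgroup.mem_set_normalizer_iff.mp w.2) ⟨x, hPH hx⟩).mp hx
      · intro hx
        have hxH : x ∈ H := by
          have h5 : ((w.1 : H) : G) * x * ((w.1 : H) : G)⁻¹ ∈ H := hPH hx
          simpa [mul_assoc] using mul_mem (mul_mem (inv_mem w.1.2) h5) w.1.2
        exact ((Subgroup.mem_set_normalizer_iff.mp w.2) ⟨x, hxH⟩).mpr hx
    · intro a b hab
      exact Subtype.ext (Subtype.ext (congrArg (fun w : Subgroup.normalizer ((P : Subgroup G) : Set G) => (w : G)) hab))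

end Cfsg.Agent.S3838
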