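import Cfsg.Statements.S3839
import Cfsg.Agent.Lib.LocalEven2.ClosedFunctor
import Cfsg.Agent.Lib.Transfer.Frobenius
import Cfsg.Agent.Lib.Cores.Residual
import Cfsg.Agent.Lib.Fusion.GroupSystem
import Mathlib

set_option autoImplicit false
open Cfsg

namespace Cfsg.Agent.S3839

universe u

open Cfsg.Agent.Lib
open scoped commutatorElement

variable {G : Type*} [Group G] [Finite G] {p : ℕ} [Fact p.Prime]

theorem npc_inj {H : Type*} [Group H] [Finite H] (f : H →* G) (hf : Function.Injective f)
    (h : Cfsg.HasNormalPComplement p G) : Cfsg.HasNormalPComplement p H := by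
  rw [Cores.hasNormalPComplement_iff_pResidual] at h ⊢
  refine h.coprime_dvd_left ?_
  rw [← Subgroup.card_map_of_injective hf]
  exact Subgroup.card_dvd_of_le (Cores.map_pResidual_le f)

theorem npc_surj {H : Type*} [Group H] [Finite H] (f : G →* H) (hf : Function.Surjective f)
    (h : Cfsg.HasNormalPComplement p G) : Cfsg.HasNormalPComplement p H := by
  rw [Cores.hasNormalPComplement_iff_pResidual] at h ⊢
  refine h.coprime_dvd_left ?_
  rw [← Cores.map_pResidual f hf]
  exact Subgroup.card_map_dvd _ f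

theorem npc_le {H K : Subgroup G} (hHK : H ≤ K) (h : Cfsg.HasNormalPComplement p K) :
    Cfsg.HasNormalPComplement p H :=
  npc_inj (Subgroup.inclusion hHK) (Subgroup.inclusion_injective hHK) h

theorem npc_map {H : Type*} [Group H] [Finite H] (f : G →* H) {K : Subgroup G} {L : Subgroup H}
    (hL : L ≤ K.map f) (h : Cfsg.HasNormalPComplement p K) : Cfsg.HasNormalPComplement p L :=
  npc_le hL (npc_surj (f.subgroupMap K) (f.subgroupMap_surjective K) h)

/-- In a `p`-nilpotent group the residual centralises a normal `p`-subgroup. -/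
theorem residual_le_centralizer (h : Cfsg.HasNormalPComplement p G) (Q : Subgroup G) [Q.Normal]
    (hQ : IsPGroup p Q) : Cfsg.pResidual p G ≤ Subgroup.centralizer (Q : Set G) := by
  rw [Cores.hasNormalPComplement_iff_pResidual] at h
  have hbot : Cfsg.pResidual p G ⊓ Q = ⊥ := by
    obtain ⟨k, hk⟩ := IsPGroup.iff_card.mp hQ
    exact (Subgroup.disjoint_of_coprime_natCard (hk ▸ h.pow_right k)).eq_bot
  intro x hx
  refine Subgroup.mem_centralizer_iff.mpr fun q hq => ?_
  have hmem : ⁅x, q⁆ ∈ Cfsg.pResidual p G ⊓ Q := by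
    refine Subgroup.mem_inf.mpr ⟨?_, mul_mem (Subgroup.Normal.conj_mem inferInstance q hq x) (inv_mem hq)⟩
    have h1 := mul_mem hx (Subgroup.Normal.conj_mem inferInstance _ (inv_mem hx) q)
    rwa [show x * (q * x⁻¹ * q⁻¹) = ⁅x, q⁆ by rw [commutatorElement_def]; group] at h1
  rw [hbot, Subgroup.mem_bot, commutatorElement_eq_one_iff_mul_comm] at hmem
  exact hmem.symm

/-- The hypothesis. -/
def Hyp (p : ℕ) {G : Type*} [Group G] (D : Subgroup G) : Prop :=
  ∀ U : Subgroup G, U ≤ D → D ⊓ Subgroup.centralizer (U : Set G) ≤ U →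
    Cfsg.HasNormalPComplement p ↥(Subgroup.normalizer (U : Set G))

/-- The induction hypothesis. -/
def IH (p n : ℕ) : Prop :=
  ∀ (H : Type u) [Group H] [Finite H], Nat.card H < n → ∀ (S : Sylow p H) (D : Subgroup H),
    Cfsg.IsStronglyClosed D (S : Subgroup H) → Hyp p D → Cfsg.HasNormalPComplement p H

theorem normal_case {G : Type u} [Group G] [Finite G] {p : ℕ} [Fact p.Prime] (S : Sylow p G)
    {D : Subgroup G} (hD : Cfsg.IsStronglyClosed D (S : Subgroup G)) (hyp : Hyp p D)
    (ih : IH.{u} p (Nat.card G)) (Q : Subgroup G) [Q.Normal] (hQp : IsPGroup p Q) (hQ1 : Q ≠ ⊥)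
    (hQD : Q ≤ D ∨ Q ⊓ D = ⊥) : Cfsg.HasNormalPComplement p G := by
  have hQS : Q ≤ (S : Subgroup G) :=
    le_sup_right.trans (S.3 (IsPGroup.to_sup_of_normal_right S.2 hQp) le_sup_left).le
  -- the quotient
  set f := QuotientGroup.mk' Q with hf
  have hbar : Cfsg.HasNormalPComplement p (G ⧸ Q) := by
    refine ih (G ⧸ Q) ?_ (S.mapSurjective (QuotientGroup.mk'_surjective Q)) (D.map f) ?_ ?_
    · rw [← Subgroup.index_eq_card, ← Q.card_mul_index]
      exact (Nat.lt_mul_iff_one_lt_left (Nat.pos_of_ne_zero Subgroup.index_ne_zero_of_finite)).mpr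
        (Subgroup.one_lt_card_iff_ne_bot Q |>.mpr hQ1)
    · rw [Sylow.coe_mapSurjective]
      exact LocalEven2.closed_map_of_le hD Q hQS
    · intro U hU hUc
      set V := D ⊓ U.comap f with hV
      have hVmap : V.map f = U := by
        refine le_antisymm ((Subgroup.map_mono inf_le_right).trans (Subgroup.map_comap_le _ _)) ?_
        intro u hu
        obtain ⟨d, hd, rfl⟩ := hU hu
        exact ⟨d, ⟨hd, hu⟩, rfl⟩
      have hVc : D ⊓ Subgroup.centralizer (V : Set G) ≤ V := by
        rintro x ⟨hxD, hxC⟩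
        refine ⟨hxD, hUc ⟨⟨x, hxD, rfl⟩, ?_⟩⟩
        rw [← hVmap]
        rintro _ ⟨v, hv, rfl⟩
        rw [← map_mul, ← map_mul, Subgroup.mem_centralizer_iff.mp hxC v hv]
      refine npc_map f ?_ (hyp V inf_le_left hVc)
      intro xq hxq
      obtain ⟨x, rfl⟩ := QuotientGroup.mk'_surjective Q xq
      refine ⟨x, ?_, rfl⟩
      have hconj : ∀ y : G, f y ∈ Subgroup.normalizer (U : Set (G ⧸ Q)) → ∀ v ∈ V, y * v * y⁻¹ ∈ V := by
        intro y hy v hv
        have h1 : f (y * v * y⁻¹) ∈ U := by
          rw [map_mul, map_mul, map_inv]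
          exact (Subgroup.mem_normalizer_iff.mp hy _).mp hv.2
        have h2 : y * v * y⁻¹ ∈ (S : Subgroup G) := by
          obtain ⟨d, hd, hde⟩ := hU h1
          have : d⁻¹ * (y * v * y⁻¹) ∈ Q := QuotientGroup.eq.mp hde
          simpa using mul_mem (hD.1 hd) (hQS this)
        exact ⟨hD.2 v hv.1 y h2, h1⟩
      refine Subgroup.mem_normalizer_iff.mpr fun v => ⟨hconj x hxq v, fun h => ?_⟩
      have := hconj x⁻¹ (by rw [map_inv]; exact inv_mem hxq) _ h
      simpa [mul_assoc] using this
  -- the action on Q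
  set C := Subgroup.centralizer (Q : Set G) with hC
  have hconjQ : ∀ g : G, ∀ q ∈ Q ⊓ D, g * q * g⁻¹ ∈ Q ⊓ D := fun g q hq =>
    have h1 := Subgroup.Normal.conj_mem inferInstance q hq.1 g
    ⟨h1, hD.2 q hq.2 g (hQS h1)⟩
  haveI hCn : C.Normal := inferInstance
  set E := C ⊓ D with hE
  set U := (Q ⊓ D) ⊔ E with hU
  have hUc : D ⊓ Subgroup.centralizer (U : Set G) ≤ U := by
    rintro x ⟨hxD, hxC⟩
    refine Subgroup.mem_sup_right ⟨?_, hxD⟩
    refine Subgroup.mem_centralizer_iff.mpr fun q hq => ?_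
    rcases hQD with h | h
    · exact Subgroup.mem_centralizer_iff.mp hxC q (Subgroup.mem_sup_left ⟨hq, h hq⟩)
    · have hmem : ⁅q, x⁆ ∈ Q ⊓ D := by
        refine Subgroup.mem_inf.mpr ⟨?_, mul_mem (hD.2 x hxD q ?_) (inv_mem hxD)⟩
        · have h1 := mul_mem hq (Subgroup.Normal.conj_mem inferInstance _ (inv_mem hq) x)
          rwa [show q * (x * q⁻¹ * x⁻¹) = ⁅q, x⁆ by rw [commutatorElement_def]; group] at h1
        · exact mul_mem (mul_mem (hQS hq) (hD.1 hxD)) (inv_mem (hQS hq))
      rw [h, Subgroup.mem_bot, commutatorElement_eq_one_iff_mul_comm] at hmem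
      exact hmem
  have hNU := hyp U (sup_le inf_le_right inf_le_right) hUc
  have hsup : Subgroup.normalizer (U : Set G) ⊔ C = ⊤ := by
    have hR : ∀ x : G, x ∈ (S : Subgroup G) → ∀ y ∈ C, x * y * x⁻¹ ∈ C := fun x _ y hy => hCn.conj_mem y hy x
    obtain ⟨R, hR⟩ : ∃ R : Sylow p C, (R : Subgroup C).map C.subtype = (S : Subgroup G) ⊓ C := by
      obtain ⟨R, hR⟩ := Cfsg.Agent.Lib.Fusion.exists_sylow_subgroupOf_normal S C
      exact ⟨R, by rw [hR, Subgroup.subgroupOf_map_subtype]⟩
    have h1 := Sylow.normalizer_sup_eq_top R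
    rw [← top_le_iff, ← h1]
    refine sup_le_sup_right ?_ _
    intro x hx
    rw [show ((R : Subgroup C).map C.subtype : Subgroup G) = (S : Subgroup G) ⊓ C from hR] at hx
    have key : ∀ y : G, y ∈ Subgroup.normalizer (((S : Subgroup G) ⊓ C : Subgroup G) : Set G) →
        ∀ v ∈ U, y * v * y⁻¹ ∈ U := by
      intro y hy
      have : U ≤ U.comap (MulAut.conj y).toMonoidHom := by
        refine sup_le (fun q hq => Subgroup.mem_sup_left (hconjQ y q hq)) fun e he => Subgroup.mem_sup_right ?_
        have h2 := (Subgroup.mem_normalizer_iff.mp hy e).mp ⟨hD.1 he.2, he.1⟩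
        exact ⟨h2.2, hD.2 e he.2 y h2.1⟩
      exact fun v hv => this hv
    refine Subgroup.mem_normalizer_iff.mpr fun v => ⟨key x hx v, fun h => ?_⟩
    have := key x⁻¹ (inv_mem hx) _ h
    simpa [mul_assoc] using this
  have hres : Cfsg.pResidual p G ≤ C := by
    set g := (QuotientGroup.mk' C).comp (Subgroup.normalizer (U : Set G)).subtype with hg
    have hgs : Function.Surjective g := by
      rw [← MonoidHom.range_eq_top, hg, MonoidHom.range_comp, Subgroup.range_subtype]
      rw [← Subgroup.map_top_of_surjective _ (QuotientGroup.mk'_surjective C), ← hsup, Subgroup.map_sup,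
        QuotientGroup.map_mk'_self, sup_bot_eq]
    have hQN : Q ≤ Subgroup.normalizer (U : Set G) := fun q hq => by
      have key : ∀ y : G, y ∈ Q → ∀ v ∈ U, y * v * y⁻¹ ∈ U := by
        intro y hy
        have : U ≤ U.comap (MulAut.conj y).toMonoidHom := by
          refine sup_le (fun q hq => Subgroup.mem_sup_left (hconjQ y q hq)) fun e he => Subgroup.mem_sup_right ?_
          have : y * e * y⁻¹ = e := by
            rw [Subgroup.mem_centralizer_iff.mp he.1 y hy, mul_inv_cancel_right]
          show y * e * y⁻¹ ∈ E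
          rw [this]; exact he
        exact fun v hv => this hv
      refine Subgroup.mem_normalizer_iff.mpr fun v => ⟨key q hq v, fun h => ?_⟩
      have := key q⁻¹ (inv_mem hq) _ h
      simpa [mul_assoc] using this
    have hcent := residual_le_centralizer hNU (Q.subgroupOf (Subgroup.normalizer (U : Set G)))
      (hQp.of_equiv (Subgroup.subgroupOfEquivOfLe hQN).symm)
    intro x hx
    rw [← QuotientGroup.eq_one_iff]
    have h2 : (x : G ⧸ C) ∈ Cfsg.pResidual p (G ⧸ C) := Cores.map_pResidual_le (QuotientGroup.mk' C) ⟨x, hx, rfl⟩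
    rw [← Cores.map_pResidual g hgs] at h2
    obtain ⟨y, hy, hyx⟩ := h2
    have hyC : (y : G) ∈ C := Subgroup.mem_centralizer_iff.mpr fun q hq =>
      congrArg Subtype.val (Subgroup.mem_centralizer_iff.mp (hcent hy) ⟨q, hQN hq⟩ hq)
    rw [← hyx]
    exact (QuotientGroup.eq_one_iff _).mpr hyC
  -- the residual has a central Sylow subgroup
  set R := Cfsg.pResidual p G with hRdef
  rw [Cores.hasNormalPComplement_iff_pResidual] at hbar
  have hRQ : (Nat.card (R.map f)).Coprime p := by
    rw [hRdef, hf, Cores.map_pResidual _ (QuotientGroup.mk'_surjective Q)]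
    exact hbar
  set P := Q.subgroupOf R with hP
  have hPp : IsPGroup p P := hQp.comap_of_injective R.subtype R.subtype_injective
  have hPidx : ¬ p ∣ P.index := by
    rw [← (Fact.out : p.Prime).coprime_iff_not_dvd]
    have : P.index = Nat.card (R.map f) := by
      have hk : (f.comp R.subtype).ker = P := by
        ext x
        exact QuotientGroup.eq_one_iff (x : G)
      rw [← hk, Subgroup.index_ker, MonoidHom.range_comp, Subgroup.range_subtype]
    rw [this]; exact hRQ.symm
  have hPc : Subgroup.normalizer ((hPp.toSylow hPidx : Subgroup R) : Set R) ≤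
      Subgroup.centralizer ((hPp.toSylow hPidx : Subgroup R) : Set R) := by
    intro x _
    refine Subgroup.mem_centralizer_iff.mpr fun q hq => Subtype.ext ?_
    exact Subgroup.mem_centralizer_iff.mp (hres x.2) _ hq
  have hRn := Transfer.hasNormalPComplement_of_normalizer_le_centralizer _ hPc
  rw [Cores.hasNormalPComplement_iff_pResidual, hRdef, Cores.pResidual_pResidual, Subgroup.card_top] at hRn
  rw [Cores.hasNormalPComplement_iff_pResidual]
  exact hRn

theorem fully_normalized {G : Type*} [Group G] [Finite G] {p : ℕ} [Fact p.Prime] (S : Sylow p G)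
    (Q : Subgroup G) (hQ : IsPGroup p Q) :
    ∃ g : G, Q.map (MulAut.conj g).toMonoidHom ≤ (S : Subgroup G) ∧
      ¬ p ∣ ((S : Subgroup G).subgroupOf
        (Subgroup.normalizer ((Q.map (MulAut.conj g).toMonoidHom : Subgroup G) : Set G))).index := by
  set N := Subgroup.normalizer (Q : Set G) with hN
  have hQN : Q ≤ N := Subgroup.le_normalizer
  obtain ⟨T, hT⟩ := (hQ.comap_of_injective N.subtype N.subtype_injective).exists_le_sylow
  obtain ⟨S', hS'⟩ := (T.2.map N.subtype).exists_le_sylow
  obtain ⟨g, rfl⟩ := MulAction.exists_smul_eq G S S'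
  refine ⟨g⁻¹, ?_, ?_⟩
  · rintro _ ⟨q, hq, rfl⟩
    have h1 : q ∈ ((g • S : Sylow p G) : Subgroup G) := hS' ⟨⟨q, hQN hq⟩, hT hq, rfl⟩
    rw [Sylow.coe_subgroup_smul, Subgroup.mem_pointwise_smul_iff_inv_smul_mem] at h1
    simpa [MulAut.smul_def] using h1
  · have hN' : Subgroup.normalizer ((Q.map (MulAut.conj g⁻¹).toMonoidHom : Subgroup G) : Set G) =
        N.map (MulAut.conj g⁻¹).toMonoidHom := (Subgroup.map_equiv_normalizer_eq Q _).symm
    rw [hN']
    intro hdvd
    apply T.not_dvd_index
    refine hdvd.trans ?_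
    set c := (MulAut.conj g⁻¹).toMonoidHom with hc
    set e : N →* N.map c := c.subgroupMap N with he
    have h1 : (T : Subgroup N).map e ≤ (S : Subgroup G).subgroupOf (N.map c) := by
      rintro _ ⟨t, ht, rfl⟩
      show c (t : G) ∈ (S : Subgroup G)
      have h2 : (t : G) ∈ ((g • S : Sylow p G) : Subgroup G) := hS' ⟨t, ht, rfl⟩
      rw [Sylow.coe_subgroup_smul, Subgroup.mem_pointwise_smul_iff_inv_smul_mem] at h2
      simpa [hc, MulAut.smul_def] using h2
    refine (Subgroup.index_dvd_of_le h1).trans ?_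
    exact Subgroup.index_map_dvd _ (c.subgroupMap_surjective N)

theorem proper_case {G : Type u} [Group G] [Finite G] {p : ℕ} [Fact p.Prime] (S : Sylow p G)
    {D : Subgroup G} (hD : Cfsg.IsStronglyClosed D (S : Subgroup G))
    (ih : IH.{u} p (Nat.card G)) (Q : Subgroup G)
    (hidx : ¬ p ∣ ((S : Subgroup G).subgroupOf (Subgroup.normalizer (Q : Set G))).index)
    (hne : Subgroup.normalizer (Q : Set G) ≠ ⊤)
    (h : ∀ W : Subgroup G, W ≤ D ⊓ Subgroup.normalizer (Q : Set G) →
      (D ⊓ Subgroup.normalizer (Q : Set G)) ⊓ Subgroup.centralizer (W : Set G) ≤ W →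
      Cfsg.HasNormalPComplement p
        ↥(Subgroup.normalizer (W : Set G) ⊓ Subgroup.normalizer (Q : Set G))) :
    Cfsg.HasNormalPComplement p ↥(Subgroup.normalizer (Q : Set G)) := by
  set H := Subgroup.normalizer (Q : Set G) with hH
  have hlt : Nat.card H < Nat.card G := lt_of_le_of_ne (Subgroup.card_le_card_group H)
    fun e => hne (Subgroup.eq_top_of_card_eq H e)
  refine ih H hlt ((S.2.comap_of_injective H.subtype H.subtype_injective).toSylow hidx) (D.subgroupOf H) ?_ ?_
  · exact LocalEven2.closed_subgroupOf hD H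
  · intro W hW hWc
    have hW' : W.map H.subtype ≤ D ⊓ H := by
      rintro _ ⟨w, hw, rfl⟩; exact ⟨hW hw, w.2⟩
    have h2 := h (W.map H.subtype) hW' (by
      rintro x ⟨⟨hxD, hxH⟩, hxC⟩
      refine ⟨⟨x, hxH⟩, hWc ⟨hxD, ?_⟩, rfl⟩
      exact Subgroup.mem_centralizer_iff.mpr fun w hw =>
        Subtype.ext (Subgroup.mem_centralizer_iff.mp hxC _ ⟨w, hw, rfl⟩))
    refine npc_inj ((H.subtype.comp (Subgroup.normalizer (W : Set H)).subtype).codRestrict _ fun x => ?_) ?_ h2
    · refine Subgroup.mem_inf.mpr ⟨?_, x.1.2⟩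
      exact (Subgroup.map_le_iff_le_comap.mp (Subgroup.le_normalizer_map H.subtype)) x.2
    · intro a b hab
      exact Subtype.ext (Subtype.ext (congrArg Subtype.val hab :))

theorem main (p : ℕ) [Fact p.Prime] (n : ℕ) :
    ∀ (G : Type u) [Group G] [Finite G], Nat.card G = n → ∀ (S : Sylow p G) (D : Subgroup G),
      Cfsg.IsStronglyClosed D (S : Subgroup G) → Hyp p D → Cfsg.HasNormalPComplement p G := by
  induction n using Nat.strongRecOn with
  | ind n ihn =>
  intro G _ _ hn S D hD hyp
  subst hn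
  have ih : IH.{u} p (Nat.card G) := fun H _ _ hlt => ihn _ hlt H rfl
  by_contra hcon
  have hD1 : D ≠ ⊥ := by
    rintro rfl
    refine hcon (npc_inj (Subgroup.topEquiv (G := G)).symm.toMonoidHom (MulEquiv.injective _) ?_)
    refine npc_le (K := Subgroup.normalizer ((⊥ : Subgroup G) : Set G)) ?_ (hyp ⊥ le_rfl (by simp))
    rw [Subgroup.normalizer_eq_top]
  -- Step 1
  have step1 : ∀ V : Subgroup G, V ≤ D → V ≠ ⊥ →
      Cfsg.HasNormalPComplement p (Subgroup.normalizer (V : Set G)) := by
    intro V hVD hV1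
    have hVp : IsPGroup p V := S.2.to_le (hVD.trans hD.1)
    obtain ⟨g, hgS, hidx⟩ := fully_normalized S V hVp
    set V' := V.map (MulAut.conj g).toMonoidHom with hV'
    have hV'D : V' ≤ D := by
      rintro _ ⟨v, hv, rfl⟩
      exact hD.2 v (hVD hv) g (hgS ⟨v, hv, rfl⟩)
    suffices Cfsg.HasNormalPComplement p (Subgroup.normalizer (V' : Set G)) by
      refine npc_inj (((MulAut.conj g).toMonoidHom.comp (Subgroup.normalizer (V : Set G)).subtype).codRestrict _
        fun x => ?_) ?_ this
      · rw [hV', ← Subgroup.map_equiv_normalizer_eq]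
        exact ⟨x, x.2, rfl⟩
      · intro a b hab
        exact Subtype.ext ((MulAut.conj g).injective (congrArg Subtype.val hab :))
    have hne : Subgroup.normalizer (V' : Set G) ≠ ⊤ := fun e => by
      haveI : V'.Normal := Subgroup.normalizer_eq_top_iff.mp e
      refine hcon (normal_case S hD hyp ih V' (S.2.to_le hgS) ?_ (Or.inl hV'D))
      intro hb
      exact hV1 ((Subgroup.map_eq_bot_iff_of_injective _ (MulEquiv.injective _)).mp hb)
    refine proper_case S hD ih V' hidx hne fun W hW hWc => ?_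
    have hWV : W ⊔ V' ≤ D := sup_le (hW.trans inf_le_left) hV'D
    refine npc_le ?_ (hyp (W ⊔ V') hWV ?_)
    · have key : ∀ y, y ∈ Subgroup.normalizer (W : Set G) ⊓ Subgroup.normalizer (V' : Set G) →
          ∀ v ∈ W ⊔ V', y * v * y⁻¹ ∈ W ⊔ V' := by
        intro y hy
        have : W ⊔ V' ≤ (W ⊔ V').comap (MulAut.conj y).toMonoidHom :=
          sup_le (fun v hv => Subgroup.mem_sup_left ((Subgroup.mem_normalizer_iff.mp hy.1 v).mp hv))
            (fun v hv => Subgroup.mem_sup_right ((Subgroup.mem_normalizer_iff.mp hy.2 v).mp hv))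
        exact fun v hv => this hv
      intro x hx
      refine Subgroup.mem_normalizer_iff.mpr fun v => ⟨key x hx v, fun h => ?_⟩
      have := key x⁻¹ (inv_mem hx) _ h
      simpa [mul_assoc] using this
    · rintro x ⟨hxD, hxC⟩
      refine Subgroup.mem_sup_left (hWc ⟨⟨hxD, ?_⟩, ?_⟩)
      · exact Subgroup.centralizer_le_normalizer _ (Subgroup.centralizer_le (SetLike.coe_subset_coe.mpr le_sup_right) hxC)
      · exact Subgroup.centralizer_le (SetLike.coe_subset_coe.mpr le_sup_left) hxC
  -- Step 2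
  refine hcon (Transfer.hasNormalPComplement_of_local fun Q hQp hQ1 => ?_)
  obtain ⟨g, hgS, hidx⟩ := fully_normalized S Q hQp
  set Q' := Q.map (MulAut.conj g).toMonoidHom with hQ'
  have hQ'1 : Q' ≠ ⊥ := fun hb => hQ1 ((Subgroup.map_eq_bot_iff_of_injective _ (MulEquiv.injective _)).mp hb)
  suffices Cfsg.HasNormalPComplement p (Subgroup.normalizer (Q' : Set G)) by
    refine npc_inj (((MulAut.conj g).toMonoidHom.comp (Subgroup.normalizer (Q : Set G)).subtype).codRestrict _
      fun x => ?_) ?_ this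
    · rw [hQ', ← Subgroup.map_equiv_normalizer_eq]
      exact ⟨x, x.2, rfl⟩
    · intro a b hab
      exact Subtype.ext ((MulAut.conj g).injective (congrArg Subtype.val hab :))
  have hne : Subgroup.normalizer (Q' : Set G) ≠ ⊤ := fun e => by
    haveI hn : Q'.Normal := Subgroup.normalizer_eq_top_iff.mp e
    by_cases hi : Q' ⊓ D = ⊥
    · exact hcon (normal_case S hD hyp ih Q' (S.2.to_le hgS) hQ'1 (Or.inr hi))
    · haveI : (Q' ⊓ D).Normal := ⟨fun q hq x =>
        have h1 := hn.conj_mem q hq.1 x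
        ⟨h1, hD.2 q hq.2 x (hgS h1)⟩⟩
      exact hcon (normal_case S hD hyp ih (Q' ⊓ D) (S.2.to_le (inf_le_right.trans hD.1)) hi (Or.inl inf_le_right))
  refine proper_case S hD ih Q' hidx hne fun W hW hWc => ?_
  have hW1 : W ≠ ⊥ := by
    rintro rfl
    have h := LocalEven2.closed_inf_nS_ne_bot S.2 hD hD1 Q' hgS
    refine h (le_bot_iff.mp ?_)
    refine le_trans (fun x hx => ?_) hWc
    exact ⟨⟨hx.1, hx.2.2⟩, Subgroup.mem_centralizer_iff.mpr fun y hy => by simp_all⟩
  exact npc_le inf_le_left (step1 W (hW.trans inf_le_left) hW1)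

/-- A Frobenius normal p-complement criterion relative to a strongly closed subgroup. Let G be a finite group, S a Sylow p-subgroup and D a subgroup of S strongly closed in S with respect to G. Then G has a normal p-complement if and only if N_G(U) has a normal p-complement for every subgroup U of D with C_D(U) ≤ U. -/
theorem result {G : Type*} [Group G] [Finite G] {p : ℕ} [Fact p.Prime] (S : Sylow p G) (D : Subgroup G) (hD : Cfsg.IsStronglyClosed D (S : Subgroup G)) : Cfsg.HasNormalPComplement p G ↔ ∀ U : Subgroup G, U ≤ D → D ⊓ Subgroup.centralizer (U : Set G) ≤ U → Cfsg.HasNormalPComplement p ↥(Subgroup.normalizer (U : Set G)) := by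
  refine ⟨fun h U _ _ => npc_inj _ (Subgroup.subtype_injective _) h, fun h => ?_⟩
  exact main p _ G rfl S D hD h

end Cfsg.Agent.S3839
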