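import Cfsg.Statements.S3857
import Cfsg.Agent.Lib.Frobenius.Complement
import Cfsg.Agent.Lib.Frobenius.Structure
import Cfsg.Agent.Lib.Coprime.Hall
import Cfsg.Agent.Lib.Cores.PiCore

set_option autoImplicit false
open Cfsg

namespace Cfsg.Agent.S3857

open Subgroup Cfsg.Agent.Lib
open scoped commutatorElement

universe v

theorem exists_order_mul {H : Type*} [Group H] [Finite H] {x y : H} (hc : Commute x y) {a b : ℕ}
    (ha : a.Prime) (hb : b.Prime) (hab : a ≠ b) (hax : a ∣ orderOf x) (hby : b ∣ orderOf y) :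
    ∃ g : H, orderOf g = a * b := by
  have h1 := orderOf_pow_orderOf_div (orderOf_pos x).ne' hax
  have h2 := orderOf_pow_orderOf_div (orderOf_pos y).ne' hby
  refine ⟨_, ((hc.pow_pow _ _).orderOf_mul_eq_mul_orderOf_of_coprime ?_).trans (by rw [h1, h2])⟩
  rw [h1, h2]
  exact (Nat.coprime_primes ha hb).mpr hab

theorem main_aux {G : Type v} [Group G] [Finite G] [Group.IsSolvable G] (A : Set ℕ)
    (hK : Cfsg.piCore A G ≠ ⊥) (hB : ∃ b ∉ A, b.Prime ∧ b ∣ Nat.card G)
    (hno : ∀ a ∈ A, ∀ b ∉ A, a.Prime → b.Prime → ¬ ∃ g : G, orderOf g = a * b) :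
    (∃ C : Subgroup G, Cfsg.IsFrobeniusComplement C) ∨
    (∃ (H K : Subgroup G) (_ : H.Normal), K.Normal ∧ H < K ∧
      (∃ C : Subgroup ↥K, Cfsg.IsFrobeniusComplement C ∧
        Cfsg.frobeniusKernel C = (H.subgroupOf K : Set ↥K)) ∧
      (∃ C : Subgroup (G ⧸ H), Cfsg.IsFrobeniusComplement C ∧
        Cfsg.frobeniusKernel C = (K.map (QuotientGroup.mk' H) : Set (G ⧸ H)))) := by
  classical
  set K := Cfsg.piCore A G with hKdef
  have hKn : K.Normal := Cfsg.piCore_normal A G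
  have hKA : ∀ q : ℕ, q.Prime → q ∣ Nat.card K → q ∈ A := fun q hq h =>
    Cores.mem_of_prime_dvd_card_piCore hq h
  set π := QuotientGroup.mk' K with hπ
  have hnoQ : ∀ a ∈ A, ∀ b ∉ A, a.Prime → b.Prime →
      ¬ ∃ g : G ⧸ K, orderOf g = a * b := by
    rintro a ha b hb hap hbp ⟨g, hg⟩
    obtain ⟨x, rfl⟩ := QuotientGroup.mk'_surjective K g
    have hd : a * b ∣ orderOf x := hg ▸ orderOf_map_dvd π x
    exact hno a ha b hb hap hbp ⟨_, orderOf_pow_orderOf_div (orderOf_pos x).ne' hd⟩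
  -- the second layer
  set C' := Cfsg.piCore Aᶜ (G ⧸ K) with hC'def
  have hC'n : C'.Normal := Cfsg.piCore_normal Aᶜ (G ⧸ K)
  have hC'A : ∀ q : ℕ, q.Prime → q ∣ Nat.card C' → q ∉ A := fun q hq h =>
    Cores.mem_of_prime_dvd_card_piCore hq h
  haveI : Nontrivial (G ⧸ K) := by
    rw [QuotientGroup.nontrivial_iff]
    intro htop
    obtain ⟨b, hb, hbp, hbd⟩ := hB
    exact hb (hKA b hbp (by rw [htop, Subgroup.card_top]; exact hbd))
  have hC'1 : C' ≠ ⊥ := by
    obtain ⟨p, M, hp, hMn, hM1, -, hMp, -⟩ :=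
      Coprime.exists_normal_isPGroup_isMulCommutative (G ⧸ K)
    haveI := Fact.mk hp
    obtain ⟨n, hn⟩ := IsPGroup.iff_card.mp hMp
    by_cases hpA : p ∈ A
    · exfalso
      apply hM1
      have hle : M.comap π ≤ K := Cores.le_piCore (hMn.comap π) fun q hq h => by
        rw [Cores.card_comap_mk' K M, hn] at h
        rcases hq.dvd_mul.mp h with h | h
        · exact hKA q hq h
        · exact ((Nat.prime_dvd_prime_iff_eq hq hp).mp (hq.dvd_of_dvd_pow h)).symm ▸ hpA
      rw [eq_bot_iff]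
      intro m hm
      obtain ⟨g, rfl⟩ := QuotientGroup.mk'_surjective K m
      exact (QuotientGroup.eq_one_iff g).mpr (hle hm)
    · intro h
      apply hM1
      rw [eq_bot_iff, ← h]
      exact Cores.le_piCore hMn fun q hq hd => by
        rw [hn] at hd
        exact ((Nat.prime_dvd_prime_iff_eq hq hp).mp (hq.dvd_of_dvd_pow hd)).symm ▸ hpA
  set L := C'.comap π with hL
  have hLn : L.Normal := hC'n.comap π
  have hKL : K ≤ L := fun x hx => by
    show π x ∈ C'
    rw [show π x = 1 from (QuotientGroup.eq_one_iff x).mpr hx]; exact one_mem _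
  have hLcard : Nat.card L = Nat.card K * Nat.card C' := by
    rw [hL, Cores.card_comap_mk' K C']
  have hcop : (Nat.card K).Coprime (Nat.card C') :=
    Nat.coprime_of_dvd fun q hq h1 h2 => hC'A q hq h2 (hKA q hq h1)
  have hKcard : Nat.card (K.subgroupOf L) = Nat.card K :=
    Nat.card_congr (subgroupOfEquivOfLe hKL).toEquiv
  have hKidx : (K.subgroupOf L).index = Nat.card C' := by
    have := (K.subgroupOf L).card_mul_index
    rw [hKcard, hLcard] at this
    exact Nat.eq_of_mul_eq_mul_left Nat.card_pos this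
  obtain ⟨C, hC⟩ := exists_right_complement'_of_coprime (N := K.subgroupOf L)
    (by rw [hKcard, hKidx]; exact hcop)
  have hCcard : Nat.card C = Nat.card C' := by
    rw [← hKidx]; exact hC.symm.index_eq_card.symm
  have hdisj : K.subgroupOf L ⊓ C = ⊥ := hC.disjoint.eq_bot
  have hsup : K.subgroupOf L ⊔ C = ⊤ := hC.sup_eq_top
  have hKL0 : K.subgroupOf L ≠ ⊥ := fun h => hK (by
    rw [← map_subgroupOf_eq_of_le hKL, h, Subgroup.map_bot])
  have hC0 : C ≠ ⊥ := fun h => hC'1 (eq_bot_of_card_eq _ (by rw [← hCcard, h, card_bot]))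
  have hfpf : ∀ c ∈ C, c ≠ 1 → ∀ n ∈ K.subgroupOf L, c * n = n * c → n = 1 := by
    intro c hc hc1 n hn hcn
    by_contra hn1
    have hcG : (c : G) ≠ 1 := fun h => hc1 (Subtype.ext h)
    have hnG : (n : G) ≠ 1 := fun h => hn1 (Subtype.ext h)
    obtain ⟨b, hb, hbd⟩ := Nat.exists_prime_and_dvd (fun h => hcG (orderOf_eq_one_iff.mp h))
    obtain ⟨a, ha, had⟩ := Nat.exists_prime_and_dvd (fun h => hnG (orderOf_eq_one_iff.mp h))
    have hbA : b ∉ A := hC'A b hb (hCcard ▸ hbd.trans (by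
      rw [show orderOf (c : G) = orderOf c from orderOf_injective L.subtype L.subtype_injective c]
      exact orderOf_dvd_natCard C hc))
    have haA : a ∈ A := hKA a ha (had.trans (_root_.Subgroup.orderOf_dvd_natCard K hn))
    exact hno a haA b hbA ha hb (exists_order_mul
      (show Commute (n : G) c from (congrArg Subtype.val hcn).symm) ha hb
      (fun h => hbA (h ▸ haA)) had hbd)
  haveI : (K.subgroupOf L).Normal := inferInstance
  have hFrobL := Frobenius.isFrobeniusComplement_of_fixedPointFree hdisj hsup hKL0 hC0 hfpf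
  have hkerL := Frobenius.frobeniusKernel_eq_of_fixedPointFree hdisj hsup hfpf
  by_cases hC'top : C' = ⊤
  · left
    have hLtop : L = ⊤ := by rw [hL, hC'top, comap_top]
    refine ⟨C.map L.subtype, Frobenius.isFrobeniusComplement_of_fixedPointFree (N := K)
      ?_ ?_ hK ?_ ?_⟩
    · rw [← map_subgroupOf_eq_of_le hKL, ← map_inf _ _ _ L.subtype_injective, hdisj,
        Subgroup.map_bot]
    · rw [← map_subgroupOf_eq_of_le hKL, ← Subgroup.map_sup, hsup, ← MonoidHom.range_eq_map,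
        range_subtype, hLtop]
    · exact fun h => hC0 ((map_eq_bot_iff_of_injective _ L.subtype_injective).mp h)
    · rintro _ ⟨c, hc, rfl⟩ hc1 n hn he
      exact congrArg Subtype.val (hfpf c hc (fun h => hc1 (by rw [h, map_one])) ⟨n, hKL hn⟩ hn
        (Subtype.ext he))
  right
  refine ⟨K, L, hKn, hLn, lt_of_le_of_ne hKL fun h => ?_, ⟨C, hFrobL, hkerL⟩, ?_⟩
  · apply hC'1
    rw [eq_bot_iff]
    intro m hm
    obtain ⟨g, rfl⟩ := QuotientGroup.mk'_surjective K m
    exact (QuotientGroup.eq_one_iff g).mpr (h ▸ hm)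
  -- a normal subgroup of prime order inside `C'`
  haveI := hC'n
  obtain ⟨p, Z, hp, hZn, hZ1, hZle, hZab, hZp, hZexp⟩ :=
    Coprime.exists_normal_abelian_pgroup_le (N := C') hC'1 inferInstance
  haveI := Fact.mk hp
  let ρ : C →* G ⧸ K := π.comp (L.subtype.comp C.subtype)
  have hρinj : Function.Injective ρ := by
    rw [injective_iff_map_eq_one]
    intro c hc
    have h1 : ((c : L) : L) ∈ K.subgroupOf L ⊓ C :=
      ⟨(QuotientGroup.eq_one_iff ((c : L) : G)).mp (show π ((c : L) : G) = 1 from hc), c.2⟩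
    rw [hdisj, mem_bot] at h1
    exact Subtype.ext h1
  have hρrange : ρ.range = C' := by
    refine Coprime.eq_of_le_of_card_le ?_ ?_
    · rintro _ ⟨c, rfl⟩
      exact (c : L).2
    · rw [← Nat.card_congr (MonoidHom.ofInjective hρinj).toEquiv, hCcard]
  haveI : Nontrivial K := (nontrivial_iff_ne_bot K).mpr hK
  let φ : C →* MulAut K := (MulAut.conjNormal (H := K)).comp (L.subtype.comp C.subtype)
  have hφ : ∀ c : C, c ≠ 1 → ∀ k : K, φ c k = k → k = 1 := by
    intro c hc k hk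
    have h1 : (c : G) * k * (c : G)⁻¹ = k := by
      have := congrArg Subtype.val hk
      simpa [φ] using this
    have := hfpf c c.2 (fun h => hc (Subtype.ext h)) ⟨k, hKL k.2⟩ k.2
      (Subtype.ext (mul_inv_eq_iff_eq_mul.mp h1))
    exact Subtype.ext (congrArg Subtype.val this :)
  have hZcyc : IsCyclic (Z.comap ρ) := Frobenius.isCyclic_of_commutative φ hφ _
    fun a ha b hb => hρinj (by
      rw [map_mul, map_mul]
      exact congrArg Subtype.val (hZab.1.comm ⟨ρ a, ha⟩ ⟨ρ b, hb⟩))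
  obtain ⟨⟨c₀, hc₀⟩, hgen⟩ := hZcyc.exists_generator
  set z := ρ c₀ with hzdef
  have hzZ : ∀ x ∈ Z, x ∈ zpowers z := by
    intro x hx
    obtain ⟨c, rfl⟩ : x ∈ ρ.range := hρrange ▸ hZle hx
    obtain ⟨i, hi⟩ := mem_zpowers_iff.mp (hgen ⟨c, hx⟩)
    refine mem_zpowers_iff.mpr ⟨i, ?_⟩
    rw [hzdef, ← map_zpow]
    exact congrArg ρ (congrArg Subtype.val hi)
  have hzmem : z ∈ Z := hc₀
  have hz1 : z ≠ 1 := fun h => hZ1 (eq_bot_iff.mpr fun x hx => by
    have := hzZ x hx; rw [h, zpowers_one_eq_bot] at this; exact this)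
  have hzord : orderOf z = p := orderOf_eq_prime (hZexp z hzmem) hz1
  have hpA : p ∉ A := hC'A p hp (hzord ▸ _root_.Subgroup.orderOf_dvd_natCard C' (hZle hzmem))
  -- its centralizer lies in `C'`
  have hcentle : centralizer (Z : Set (G ⧸ K)) ≤ C' := by
    haveI := hZn
    refine Cores.le_piCore inferInstance fun q hq hd => fun hqA => ?_
    haveI := Fact.mk hq
    obtain ⟨y, hy⟩ := exists_prime_orderOf_dvd_card' (G := centralizer (Z : Set (G ⧸ K))) q hd
    refine hnoQ q hqA p hpA hq hp (exists_order_mul (x := (y : G ⧸ K)) (y := z) ?_ hq hp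
      (fun h => hpA (h ▸ hqA)) ?_ ?_)
    · exact (mem_centralizer_iff.mp y.2 z hzmem).symm
    · rw [Subgroup.orderOf_coe, hy]
    · rw [hzord]
  -- so `G ⧸ K` is abelian over `C'`
  have hcomm : ∀ x y : G ⧸ K, ⁅x, y⁆ ∈ C' := by
    intro x y
    apply hcentle
    rw [mem_centralizer_iff]
    intro w hw
    obtain ⟨m, rfl⟩ := mem_zpowers_iff.mp (hzZ w hw)
    obtain ⟨i, hi⟩ := mem_zpowers_iff.mp (hzZ _ (hZn.conj_mem z hzmem x))
    obtain ⟨j, hj⟩ := mem_zpowers_iff.mp (hzZ _ (hZn.conj_mem z hzmem y))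
    have hconj : ∀ (g : G ⧸ K) (n k : ℤ), z ^ n = g * z * g⁻¹ → g * z ^ k * g⁻¹ = z ^ (n * k) :=
      fun g n k h => by rw [_root_.zpow_mul, h, conj_zpow]
    have hxy' : x * y * (y * x)⁻¹ * z ^ m * (x * y * (y * x)⁻¹)⁻¹ = z ^ m := by
      obtain ⟨i', hi'⟩ := mem_zpowers_iff.mp (hzZ _ (hZn.conj_mem z hzmem x⁻¹))
      obtain ⟨j', hj'⟩ := mem_zpowers_iff.mp (hzZ _ (hZn.conj_mem z hzmem y⁻¹))
      calc _ = x * (y * (x⁻¹ * (y⁻¹ * z ^ m * y⁻¹⁻¹) * x⁻¹⁻¹) * y⁻¹) * x⁻¹ := by group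
        _ = y * (x * (x⁻¹ * (y⁻¹ * z ^ m * y⁻¹⁻¹) * x⁻¹⁻¹) * x⁻¹) * y⁻¹ := by
          rw [hconj _ j' m hj', hconj _ i' _ hi', hconj y j _ hj, hconj x i _ hi, hconj x i _ hi,
            hconj y j _ hj]
          congr 1; ring
        _ = _ := by group
    rw [show ⁅x, y⁆ = x * y * (y * x)⁻¹ by rw [commutatorElement_def]; group]
    calc z ^ m * (x * y * (y * x)⁻¹)
        = x * y * (y * x)⁻¹ * z ^ m * (x * y * (y * x)⁻¹)⁻¹ * (x * y * (y * x)⁻¹) := by rw [hxy']
      _ = _ := by group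
  -- the index of `C'` involves only primes in `A`
  have hidx : ∀ q, q.Prime → q ∣ C'.index → q ∈ A := by
    intro q hq hd
    by_contra hqA
    haveI := Fact.mk hq
    obtain ⟨P⟩ : Nonempty (Sylow q (G ⧸ K)) := inferInstance
    have hn : (C' ⊔ (P : Subgroup (G ⧸ K))).Normal := ⟨fun w hw g => by
      have : g * w * g⁻¹ = ⁅g, w⁆ * w := by rw [commutatorElement_def]; group
      rw [this]
      exact mul_mem (mem_sup_left (hcomm g w)) hw⟩
    have hle : C' ⊔ (P : Subgroup (G ⧸ K)) ≤ C' := by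
      refine Cores.le_piCore hn fun r hr hrd => ?_
      have hcs := Coprime.card_sup_mul_card_inf (N := C') (H := (P : Subgroup (G ⧸ K)))
        (by rw [normalizer_eq_top_iff.mpr hC'n]; exact le_top)
      rcases hr.dvd_mul.mp (hcs ▸ dvd_mul_of_dvd_left hrd _) with h | h
      · exact hC'A r hr h
      · obtain ⟨k, hk⟩ := IsPGroup.iff_card.mp P.isPGroup'
        rw [hk] at h
        exact ((Nat.prime_dvd_prime_iff_eq hr hq).mp (hr.dvd_of_dvd_pow h)).symm ▸ hqA
    exact P.not_dvd_index (hd.trans (index_dvd_of_le (le_sup_right.trans hle)))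
  obtain ⟨D, hD⟩ := exists_right_complement'_of_coprime (N := C')
    (Nat.coprime_of_dvd fun q hq h1 h2 => hC'A q hq h1 (hidx q hq h2))
  have hDcard : Nat.card D = C'.index := hD.symm.index_eq_card.symm
  have hD0 : D ≠ ⊥ := fun h => hC'top (by
    have := hD.sup_eq_top; rwa [h, sup_bot_eq] at this)
  have hfpfQ : ∀ d ∈ D, d ≠ 1 → ∀ n ∈ C', d * n = n * d → n = 1 := by
    intro d hd hd1 n hn hdn
    by_contra hn1
    obtain ⟨a, ha, had⟩ := Nat.exists_prime_and_dvd (fun h => hd1 (orderOf_eq_one_iff.mp h))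
    obtain ⟨b, hb, hbd⟩ := Nat.exists_prime_and_dvd (fun h => hn1 (orderOf_eq_one_iff.mp h))
    have haA : a ∈ A := hidx a ha (hDcard ▸ had.trans (_root_.Subgroup.orderOf_dvd_natCard D hd))
    have hbA : b ∉ A := hC'A b hb (hbd.trans (_root_.Subgroup.orderOf_dvd_natCard C' hn))
    exact hnoQ a haA b hbA ha hb (exists_order_mul hdn ha hb (fun h => hbA (h ▸ haA)) had hbd)
  refine ⟨D, Frobenius.isFrobeniusComplement_of_fixedPointFree hD.disjoint.eq_bot
    hD.sup_eq_top hC'1 hD0 hfpfQ, ?_⟩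
  rw [Frobenius.frobeniusKernel_eq_of_fixedPointFree hD.disjoint.eq_bot
    hD.sup_eq_top hfpfQ, hL, map_comap_eq_self_of_surjective (QuotientGroup.mk'_surjective K)]

/-- A finite solvable group whose prime graph (prime divisors of the order, two distinct primes joined when there is an element of order their product) is disconnected is a Frobenius group or a 2-Frobenius group (it has normal subgroups H < K with K a Frobenius group with kernel H and G/H a Frobenius group with kernel K/H). -/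
theorem result {G : Type*} [Group G] [Finite G] (hsol : Group.IsSolvable G)
    (hdisc : (∃ A : Set ℕ, (∃ a ∈ A, a.Prime ∧ a ∣ Nat.card G) ∧ (∃ b ∉ A, b.Prime ∧ b ∣ Nat.card G) ∧
      ∀ a ∈ A, ∀ b ∉ A, a.Prime → b.Prime → a ∣ Nat.card G → b ∣ Nat.card G → ¬ ∃ g : G, orderOf g = a * b)) :
    (∃ C : Subgroup G, Cfsg.IsFrobeniusComplement C) ∨
    (∃ (H K : Subgroup G) (_ : H.Normal), K.Normal ∧ H < K ∧
      (∃ C : Subgroup ↥K, Cfsg.IsFrobeniusComplement C ∧ Cfsg.frobeniusKernel C = (H.subgroupOf K : Set ↥K)) ∧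
      (∃ C : Subgroup (G ⧸ H), Cfsg.IsFrobeniusComplement C ∧ Cfsg.frobeniusKernel C = (K.map (QuotientGroup.mk' H) : Set (G ⧸ H)))) := by
  obtain ⟨A, ⟨a, ha, hap, had⟩, ⟨b, hb, hbp, hbd⟩, hno⟩ := hdisc
  haveI := hsol
  haveI : Nontrivial G := by
    rw [← Finite.one_lt_card_iff_nontrivial]
    exact lt_of_lt_of_le hap.one_lt (Nat.le_of_dvd Nat.card_pos had)
  have hno' : ∀ a ∈ A, ∀ b ∉ A, a.Prime → b.Prime → ¬ ∃ g : G, orderOf g = a * b := by
    rintro a' ha' b' hb' hap' hbp' ⟨g, hg⟩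
    exact hno a' ha' b' hb' hap' hbp' ((dvd_mul_right a' b').trans (hg ▸ orderOf_dvd_natCard g))
      ((dvd_mul_left b' a').trans (hg ▸ orderOf_dvd_natCard g)) ⟨g, hg⟩
  obtain ⟨p, M, hp, hMn, hM1, -, hMp, -⟩ :=
    Cfsg.Agent.Lib.Coprime.exists_normal_isPGroup_isMulCommutative G
  haveI := Fact.mk hp
  obtain ⟨n, hn⟩ := IsPGroup.iff_card.mp hMp
  by_cases hpA : p ∈ A
  · refine main_aux A (fun h => hM1 ?_) ⟨b, hb, hbp, hbd⟩ hno'
    rw [eq_bot_iff, ← h]
    exact Cfsg.Agent.Lib.Cores.le_piCore hMn fun q hq hd => by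
      rw [hn] at hd
      exact ((Nat.prime_dvd_prime_iff_eq hq hp).mp (hq.dvd_of_dvd_pow hd)).symm ▸ hpA
  · refine main_aux Aᶜ (fun h => hM1 ?_) ⟨a, fun h => h ha, hap, had⟩
      fun x hx y hy hxp hyp => ?_
    · rw [eq_bot_iff, ← h]
      exact Cfsg.Agent.Lib.Cores.le_piCore hMn fun q hq hd => by
        rw [hn] at hd
        exact ((Nat.prime_dvd_prime_iff_eq hq hp).mp (hq.dvd_of_dvd_pow hd)).symm ▸ hpA
    · rw [mul_comm]
      exact hno' y (not_not.mp hy) x hx hyp hxp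

end Cfsg.Agent.S3857
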