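import Cfsg.Statements.S3858


set_option autoImplicit false
open Cfsg

namespace Cfsg.Agent.S3858

/-- Let G be a finite group with a normal non-abelian simple subgroup T whose centralizer is trivial (G almost simple with socle T), r a prime and R a Sylow r-subgroup of G meeting T nontrivially. Then R lies in exactly one maximal subgroup of G if and only if G has exactly one conjugacy class of maximal subgroups whose index is prime to r. -/
theorem result {G : Type*} [Group G] [Finite G] (T : Subgroup G) [T.Normal] (hT : IsSimpleGroup T) (hna : ¬ IsMulCommutative T)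
    (hC : Subgroup.centralizer (T : Set G) = ⊥) {r : ℕ} [Fact r.Prime] (R : Sylow r G) (hR0 : (R : Subgroup G) ⊓ T ≠ ⊥) :
    (∃! M : Subgroup G, IsCoatom M ∧ (R : Subgroup G) ≤ M) ↔
      ((∃ M : Subgroup G, IsCoatom M ∧ ¬ r ∣ M.index) ∧
        ∀ M₁ M₂ : Subgroup G, IsCoatom M₁ → ¬ r ∣ M₁.index → IsCoatom M₂ → ¬ r ∣ M₂.index → ∃ g : G, M₂ = M₁.map (MulAut.conj g).toMonoidHom) := by
  have hTne : T ≠ ⊥ := fun h => hR0 (by rw [h, inf_bot_eq])
  have hRn : ¬ (R : Subgroup G).Normal := by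
    intro hn
    have := hT
    rcases IsSimpleGroup.eq_bot_or_eq_top_of_normal ((R : Subgroup G).subgroupOf T) inferInstance
      with h | h
    · exact hR0 (disjoint_iff.mp (Subgroup.subgroupOf_eq_bot.mp h))
    · have hle : T ≤ (R : Subgroup G) := Subgroup.subgroupOf_eq_top.mp h
      have hp : IsPGroup r T := R.isPGroup'.to_le hle
      have : Nontrivial T := (Subgroup.nontrivial_iff_ne_bot T).mpr hTne
      have hZ : Subgroup.center T = ⊤ :=
        (IsSimpleGroup.eq_bot_or_eq_top_of_normal (Subgroup.center T) inferInstance).resolve_left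
          (hp.bot_lt_center (G := T)).ne'
      exact hna ⟨⟨fun a b => (Subgroup.mem_center_iff.mp (hZ ▸ Subgroup.mem_top b) a)⟩⟩
  have hRtop : (R : Subgroup G) ≠ ⊤ := fun h => hRn (h ▸ inferInstance)
  have hNtop : Subgroup.normalizer ((R : Subgroup G) : Set G) ≠ ⊤ :=
    fun h => hRn (Subgroup.normalizer_eq_top_iff.mp h)
  obtain ⟨M, hM, hRM⟩ : ∃ M, IsCoatom M ∧ Subgroup.normalizer ((R : Subgroup G) : Set G) ≤ M := by
    obtain ⟨M, hM, h⟩ := (IsCoatomic.eq_top_or_exists_le_coatom _).resolve_left hNtop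
    exact ⟨M, hM, h⟩
  have hidx : ∀ M' : Subgroup G, (R : Subgroup G) ≤ M' → ¬ r ∣ M'.index := fun M' h hd =>
    R.not_dvd_index (hd.trans (Subgroup.index_dvd_of_le h))
  have hcoat : ∀ (M' : Subgroup G) (g : G), IsCoatom M' →
      IsCoatom (M'.map (MulAut.conj g).toMonoidHom) := by
    intro M' g h
    exact ((MulAut.conj g).mapSubgroup.isCoatom_iff M').mpr h
  have hmapmap : ∀ (K : Subgroup G) (a b : G),
      (K.map (MulAut.conj b).toMonoidHom).map (MulAut.conj a).toMonoidHom =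
        K.map (MulAut.conj (a * b)).toMonoidHom := by
    intro K a b
    rw [Subgroup.map_map]
    congr 1
    ext y
    simp [mul_assoc]
  constructor
  · rintro ⟨M₀, ⟨hM₀, hRM₀⟩, huniq⟩
    refine ⟨⟨M₀, hM₀, hidx M₀ hRM₀⟩, fun M₁ M₂ h₁ hi₁ h₂ hi₂ => ?_⟩
    have key : ∀ M' : Subgroup G, IsCoatom M' → ¬ r ∣ M'.index →
        ∃ g : G, M'.map (MulAut.conj g).toMonoidHom = M₀ := by
      intro M' h' hi'
      obtain ⟨S⟩ := (Sylow.nonempty : Nonempty (Sylow r M'))
      have hi : ¬ r ∣ ((S : Subgroup M').map M'.subtype).index := by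
        rw [Subgroup.index_map_subtype]
        exact (Fact.out : r.Prime).not_dvd_mul S.not_dvd_index hi'
      let S' : Sylow r G := (S.isPGroup'.map M'.subtype).toSylow hi
      obtain ⟨g, hg⟩ := MulAction.exists_smul_eq G S' R
      refine ⟨g, huniq _ ⟨hcoat M' g h', ?_⟩⟩
      rw [← hg, Sylow.coe_subgroup_smul]
      rintro x ⟨y, hy, rfl⟩
      refine ⟨y, ?_, rfl⟩
      rw [IsPGroup.toSylow_coe] at hy
      exact Subgroup.map_subtype_le _ hy
    obtain ⟨g₁, e₁⟩ := key M₁ h₁ hi₁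
    obtain ⟨g₂, e₂⟩ := key M₂ h₂ hi₂
    refine ⟨g₂⁻¹ * g₁, ?_⟩
    rw [← hmapmap, e₁, ← e₂, hmapmap, inv_mul_cancel]
    ext y
    simp
  · rintro ⟨-, hconj⟩
    refine ⟨M, ⟨hM, Subgroup.le_normalizer.trans hRM⟩, ?_⟩
    rintro M' ⟨hM', hRM'⟩
    obtain ⟨g, rfl⟩ := hconj M M' hM (hidx M (Subgroup.le_normalizer.trans hRM)) hM'
      (hidx M' hRM')
    have h1 : ((g⁻¹ • R : Sylow r G) : Subgroup G) ≤ M := by
      rw [Sylow.coe_subgroup_smul]
      rintro x ⟨y, hy, rfl⟩
      obtain ⟨m, hm, rfl⟩ := hRM' hy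
      simpa [mul_assoc] using hm
    obtain ⟨m, hm⟩ := MulAction.exists_smul_eq M ((g⁻¹ • R).subtype h1)
      (R.subtype (Subgroup.le_normalizer.trans hRM))
    rw [Sylow.smul_subtype] at hm
    have h2 : ((m : G) * g⁻¹) • R = R := by
      rw [mul_smul]
      exact Sylow.subtype_injective hm
    have h3 : (m : G) * g⁻¹ ∈ M := hRM (Sylow.smul_eq_iff_mem_normalizer.mp h2)
    have h4 : g ∈ M := by
      have := mul_mem (inv_mem m.2) h3
      simpa [← mul_assoc] using inv_mem this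
    refine Subgroup.eq_of_le_of_card_ge ?_ (le_of_eq ?_)
    · rintro x ⟨y, hy, rfl⟩
      exact mul_mem (mul_mem h4 hy) (inv_mem h4)
    · exact (Subgroup.card_map_of_injective (MulAut.conj g).injective).symm

end Cfsg.Agent.S3858
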