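import Cfsg.Statements.S3859
import Cfsg.Agent.Lib.Cores.Basic


set_option autoImplicit false
open Cfsg

namespace Cfsg.Agent.S3859

/-- Let G be a finite group with a normal non-abelian simple subgroup T whose centralizer is trivial (G almost simple with socle T), r a prime and R a Sylow r-subgroup of G meeting T nontrivially. If R lies in exactly one maximal subgroup of G, then G/T is an r-group. -/
theorem result {G : Type*} [Group G] [Finite G] (T : Subgroup G) [T.Normal] (hT : IsSimpleGroup T) (hna : ¬ IsMulCommutative T)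
    (hC : Subgroup.centralizer (T : Set G) = ⊥) {r : ℕ} [Fact r.Prime] (R : Sylow r G) (hR0 : (R : Subgroup G) ⊓ T ≠ ⊥)
    (huniq : ∃! M : Subgroup G, IsCoatom M ∧ (R : Subgroup G) ≤ M) : IsPGroup r (G ⧸ T) := by
  set M₀ : Subgroup G := (R : Subgroup G) ⊓ T with hM₀
  have hRne : (R : Subgroup G) ⊓ T ≠ T := by
    intro e
    have h : IsPGroup r T := e ▸ R.isPGroup'.to_inf_left
    have := hT
    have hZ : Subgroup.center T = ⊤ :=
      (IsSimpleGroup.eq_bot_or_eq_top_of_normal (Subgroup.center T) inferInstance).resolve_left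
        (h.bot_lt_center (G := T)).ne'
    exact hna ⟨⟨fun a b => (Subgroup.mem_center_iff.mp (hZ ▸ Subgroup.mem_top b) a)⟩⟩
  obtain ⟨M, ⟨hM, hRM⟩, huniq'⟩ := huniq
  have key : ∀ H : Subgroup G, (R : Subgroup G) ≤ H → H ≠ ⊤ → H ≤ M := by
    intro H hRH hH
    obtain ⟨M', hM', hHM'⟩ := (IsCoatomic.eq_top_or_exists_le_coatom H).resolve_left hH
    rwa [huniq' M' ⟨hM', hRH.trans hHM'⟩] at hHM'
  have hN : Subgroup.normalizer (M₀ : Set G) ≠ ⊤ := by
    intro htop
    have := hT
    have : M₀.Normal := Subgroup.normalizer_eq_top_iff.mp htop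
    rcases IsSimpleGroup.eq_bot_or_eq_top_of_normal (M₀.subgroupOf T) inferInstance with h | h
    · rw [Subgroup.subgroupOf_eq_bot, disjoint_iff, hM₀, inf_assoc, inf_idem] at h
      exact hR0 h
    · exact hRne (le_antisymm inf_le_right (Subgroup.subgroupOf_eq_top.mp h))
  have hRN : (R : Subgroup G) ≤ Subgroup.normalizer (M₀ : Set G) := by
    intro x hx
    rw [Subgroup.mem_normalizer_iff]
    intro y
    have h1 := Subgroup.mem_normalizer_iff.mp (Subgroup.le_normalizer hx) y
    have h2 : y ∈ T ↔ x * y * x⁻¹ ∈ T :=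
      ⟨fun h => (inferInstance : T.Normal).conj_mem y h x, fun h => by
        simpa [mul_assoc] using (inferInstance : T.Normal).conj_mem _ h x⁻¹⟩
    simp only [hM₀, Subgroup.mem_inf]
    tauto
  have hfr : Subgroup.normalizer (M₀ : Set G) ⊔ T = ⊤ := by
    have hP : ¬ r ∣ (M₀.subgroupOf T).index := by
      intro hd
      have h1 : M₀.relIndex T = (R : Subgroup G).relIndex T := Subgroup.inf_relIndex_right _ _
      have h2 : (R : Subgroup G).relIndex T ∣ (R : Subgroup G).index := by
        have h3 : (R : Subgroup G).relIndex T =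
            (R : Subgroup G).relIndex ((R : Subgroup G) ⊔ T) := by
          have e0 := Cfsg.Agent.Lib.Cores.card_sup_mul_card_inf (R : Subgroup G) T
          have e1 := Subgroup.relIndex_mul_relIndex ⊥ (R : Subgroup G) ((R : Subgroup G) ⊔ T)
            bot_le le_sup_left
          have e2 := Subgroup.relIndex_mul_relIndex ⊥ ((R : Subgroup G) ⊓ T) T bot_le inf_le_right
          rw [Subgroup.relIndex_bot_left, Subgroup.relIndex_bot_left] at e1 e2
          rw [Subgroup.inf_relIndex_right] at e2
          rw [← e1, ← e2] at e0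
          have e3 : Nat.card (R : Subgroup G) * Nat.card ↥((R : Subgroup G) ⊓ T) *
              (R : Subgroup G).relIndex ((R : Subgroup G) ⊔ T) =
            Nat.card (R : Subgroup G) * Nat.card ↥((R : Subgroup G) ⊓ T) *
              (R : Subgroup G).relIndex T := by
            calc _ = Nat.card (R : Subgroup G) * (R : Subgroup G).relIndex ((R : Subgroup G) ⊔ T) *
                  Nat.card ↥((R : Subgroup G) ⊓ T) := by ring
              _ = _ := e0
              _ = _ := by ring
          exact (mul_left_cancel₀ (mul_ne_zero Nat.card_pos.ne' Nat.card_pos.ne') e3).symm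
        rw [h3]
        exact Subgroup.relIndex_dvd_index_of_le le_sup_left
      exact R.not_dvd_index ((h1 ▸ hd : r ∣ _).trans h2)
    have hp : IsPGroup r (M₀.subgroupOf T) := (R.isPGroup'.to_inf_left).comap_subtype
    have h := Sylow.normalizer_sup_eq_top (hp.toSylow hP)
    rwa [IsPGroup.toSylow_coe, Subgroup.map_subgroupOf_eq_of_le inf_le_right] at h
  have hRT : (R : Subgroup G) ⊔ T = ⊤ := by
    by_contra h
    have h1 := key _ le_sup_left h
    have h2 := key _ hRN hN
    exact hM.1 (top_le_iff.mp (hfr ▸ sup_le h2 (le_sup_right.trans h1)))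
  refine R.isPGroup'.of_surjective ((QuotientGroup.mk' T).comp (R : Subgroup G).subtype) ?_
  have e : (R : Subgroup G).map (QuotientGroup.mk' T) =
      ((R : Subgroup G) ⊔ T).map (QuotientGroup.mk' T) := by
    rw [Subgroup.map_sup, QuotientGroup.map_mk'_self, sup_bot_eq]
  rw [← MonoidHom.range_eq_top, MonoidHom.range_comp, Subgroup.range_subtype, e, hRT,
    Subgroup.map_top_of_surjective _ (QuotientGroup.mk'_surjective T)]

end Cfsg.Agent.S3859
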