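import Cfsg.Statements.S3861
import Cfsg.Agent.Lib.Cores.PCore
import Cfsg.Agent.Lib.Involutions.BaerSuzuki
import Cfsg.Agent.Lib.Coprime.SchurZassenhaus

set_option autoImplicit false
open Cfsg

namespace Cfsg.Agent.S3861
open scoped Pointwise

variable {H : Type*} [Group H] [Finite H]

theorem eq_one_of_real_of_odd (hodd : Odd (Nat.card H)) {y : H} (hy : IsConj y y⁻¹) : y = 1 := by
  obtain ⟨h, hh⟩ := isConj_iff.mp hy
  have h2 : Commute (h ^ 2) y := by
    rw [Commute, SemiconjBy]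
    calc h ^ 2 * y = h * (h * y * h⁻¹) * h := by simp [sq, mul_assoc]
      _ = h * y⁻¹ * h := by rw [hh]
      _ = (h * y * h⁻¹)⁻¹ * h ^ 2 := by simp [sq, mul_assoc]
      _ = y * h ^ 2 := by rw [hh, inv_inv]
  have hcop : ∀ z : H, Nat.Coprime 2 (orderOf z) := fun z =>
    (Nat.coprime_two_left.mpr hodd).coprime_dvd_right (orderOf_dvd_natCard z)
  obtain ⟨m, hm⟩ := exists_pow_eq_self_of_coprime (hcop h)
  have hc : Commute h y := hm ▸ h2.pow_left m
  have hyy : y = y⁻¹ := by rw [← hh, hc.eq, mul_inv_cancel_right]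
  have : y ^ 2 = 1 := by rw [sq]; nth_rw 1 [hyy]; exact inv_mul_cancel y
  obtain ⟨m, hm⟩ := exists_pow_eq_self_of_coprime (hcop y)
  rw [← hm, this, one_pow]

/-- Having no real element of odd order passes to quotients by normal 2-subgroups. -/
theorem no_real_quotient (hr : ∀ x : H, x ≠ 1 → Odd (orderOf x) → ¬ IsConj x x⁻¹)
    (N : Subgroup H) [N.Normal] (hN : IsPGroup 2 N) :
    ∀ y : H ⧸ N, y ≠ 1 → Odd (orderOf y) → ¬ IsConj y y⁻¹ := by
  intro y hy hyo hreal
  obtain ⟨x0, rfl⟩ := QuotientGroup.mk'_surjective N y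
  obtain ⟨k, r, hr', ho⟩ := Nat.exists_eq_two_pow_mul_odd (orderOf_pos x0).ne'
  obtain ⟨m, hm⟩ := exists_pow_eq_self_of_coprime
    (x := QuotientGroup.mk' N x0) (n := 2 ^ k) ((Nat.coprime_two_left.mpr hyo).pow_left k)
  set x := (x0 ^ 2 ^ k) ^ m with hx
  have hxy : QuotientGroup.mk' N x = QuotientGroup.mk' N x0 := by rw [hx, map_pow, map_pow]; exact hm
  have hxo : Odd (orderOf x) := by
    refine hr'.of_dvd_nat (orderOf_dvd_of_pow_eq_one ?_)
    rw [hx, ← pow_mul, ← pow_mul, mul_comm m r, ← mul_assoc, ← ho, pow_mul, pow_orderOf_eq_one,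
      one_pow]
  obtain ⟨g', hg⟩ := isConj_iff.mp hreal
  obtain ⟨g, rfl⟩ := QuotientGroup.mk'_surjective N g'
  have hcop : (Nat.card N).Coprime (Nat.card (Subgroup.zpowers x)) := by
    obtain ⟨n, hn⟩ := hN.exists_card_eq
    rw [hn, Nat.card_zpowers]
    exact (Nat.coprime_two_left.mpr hxo).pow_left n
  have hK : Subgroup.zpowers (g * x * g⁻¹) ≤ N ⊔ Subgroup.zpowers x := by
    rw [Subgroup.zpowers_le]
    have : g * x * g⁻¹ * x ∈ N := by
      rw [← QuotientGroup.eq_one_iff, ← QuotientGroup.mk'_apply]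
      simp only [map_mul, map_inv, hxy, hg, inv_mul_cancel]
    have h2 := mul_mem (Subgroup.mem_sup_left this)
      (Subgroup.mem_sup_right (inv_mem (Subgroup.mem_zpowers x)) : x⁻¹ ∈ N ⊔ Subgroup.zpowers x)
    rwa [mul_inv_cancel_right] at h2
  obtain ⟨n, hn, hconj⟩ := Cfsg.Agent.Lib.Coprime.exists_conj_eq_of_le_sup
    (Subgroup.le_normalizer_of_normal) hcop (Or.inr inferInstance)
    (by rw [Nat.card_zpowers, Nat.card_zpowers, Cfsg.Agent.Lib.Involutions.orderOf_conj_eq]) hK
  have hmem : g * x * g⁻¹ ∈ (MulAut.conj n • Subgroup.zpowers x : Subgroup H) := hconj ▸ Subgroup.mem_zpowers _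
  rw [Cfsg.Agent.Lib.Coprime.mem_conj_smul, Subgroup.mem_zpowers_iff] at hmem
  obtain ⟨j, hj⟩ := hmem
  have hn1 : QuotientGroup.mk' N n = 1 := (QuotientGroup.eq_one_iff n).mpr hn
  have hj' : x ^ j * x = 1 := by
    have hmemN : x ^ j * x ∈ N := by
      rw [← QuotientGroup.eq_one_iff, ← QuotientGroup.mk'_apply, hj]
      simp only [map_mul, map_inv, hxy, hg, hn1, inv_one, one_mul, mul_one, inv_mul_cancel]
    have hmemX : x ^ j * x ∈ Subgroup.zpowers x :=
      mul_mem (Subgroup.zpow_mem _ (Subgroup.mem_zpowers x) j) (Subgroup.mem_zpowers x)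
    exact Subgroup.mem_bot.mp ((Subgroup.inf_eq_bot_of_coprime hcop) ▸
      Subgroup.mem_inf.mpr ⟨hmemN, hmemX⟩)
  refine hr x (fun h => hy (by rw [← hxy, h, map_one])) hxo (isConj_iff.mpr ⟨n⁻¹ * g, ?_⟩)
  rw [← eq_inv_of_mul_eq_one_left hj', hj]
  group

/-- A finite group G has no non-identity element of odd order that is conjugate to its inverse if and only if the Sylow 2-subgroups of G are normal. -/
theorem result {G : Type*} [Group G] [Finite G] (P : Sylow 2 G) : (∀ x : G, x ≠ 1 → Odd (orderOf x) → ¬ IsConj x x⁻¹) ↔ (P : Subgroup G).Normal := by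
  constructor
  · intro hr
    set N := Cfsg.pCore 2 G with hNdef
    have hN : IsPGroup 2 N := Cfsg.Agent.Lib.Cores.pCore_isPGroup 2 G
    have : N.Normal := Cfsg.pCore_normal 2 G
    have hrQ := no_real_quotient hr N hN
    have hodd : ¬ 2 ∣ Nat.card (G ⧸ N) := by
      intro h2
      obtain ⟨t, ht⟩ := exists_prime_orderOf_dvd_card' 2 h2
      have hX : IsPGroup 2 (Subgroup.zpowers t) :=
        IsPGroup.of_card (n := 1) (by rw [Nat.card_zpowers, ht, pow_one])
      obtain ⟨M, hMn, hM2, htM⟩ := Cfsg.Agent.Lib.Involutions.baer_suzuki (Subgroup.zpowers t) hX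
        (fun g => by
          have ht' : orderOf (g * t * g⁻¹) = 2 := by
            rw [Cfsg.Agent.Lib.Involutions.orderOf_conj_eq, ht]
          obtain ⟨k, r, hr', ho⟩ := Nat.exists_eq_two_pow_mul_odd (orderOf_pos (t * (g * t * g⁻¹))).ne'
          have hd : (t * (g * t * g⁻¹)) ^ 2 ^ k = 1 := by
            by_contra hne
            refine hrQ _ hne ?_ (isConj_iff.mpr ⟨t, ?_⟩)
            · exact hr'.of_dvd_nat (orderOf_dvd_of_pow_eq_one
                (by rw [← pow_mul, ← ho, pow_orderOf_eq_one]))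
            · exact Cfsg.Agent.Lib.Involutions.inverts_pow
                (Cfsg.Agent.Lib.Involutions.conj_mul_left_invol ht ht') _
          have hle : Subgroup.zpowers t ⊔ (Subgroup.zpowers t).map (MulAut.conj g).toMonoidHom ≤
              Subgroup.closure {t, g * t * g⁻¹} := by
            rw [MonoidHom.map_zpowers, sup_le_iff, Subgroup.zpowers_le, Subgroup.zpowers_le]
            exact ⟨Subgroup.subset_closure (Or.inl rfl), Subgroup.subset_closure (Or.inr rfl)⟩
          refine IsPGroup.to_le ?_ hle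
          rintro ⟨e, he⟩
          refine ⟨k + 1, Subtype.ext ?_⟩
          show e ^ 2 ^ (k + 1) = 1
          obtain ⟨j, rfl | rfl⟩ :=
            (Cfsg.Agent.Lib.Involutions.mem_closure_pair_invol ht ht' e).mp he
          · rw [← zpow_natCast ((t * (g * t * g⁻¹)) ^ j), ← zpow_mul, mul_comm, zpow_mul,
              zpow_natCast, pow_succ 2 k, pow_mul, hd, one_pow, one_zpow]
          · rw [pow_succ' 2 k, pow_mul, sq,
              Cfsg.Agent.Lib.Involutions.zpow_mul_invol_sq ht ht', one_pow])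
      have hbot : t ∈ Cfsg.pCore 2 (G ⧸ N) :=
        Cfsg.Agent.Lib.Cores.le_pCore hMn hM2 (htM (Subgroup.mem_zpowers t))
      rw [Cfsg.Agent.Lib.Cores.pCore_quotient_pCore, Subgroup.mem_bot] at hbot
      rw [hbot, orderOf_one] at ht
      omega
    have hPN : (P : Subgroup G) = N := by
      refine (P.3 hN ?_).symm
      intro x hx
      rw [← QuotientGroup.eq_one_iff, ← orderOf_eq_one_iff]
      obtain ⟨a, ha⟩ := P.2 ⟨x, hx⟩
      have h1 : orderOf (x : G ⧸ N) ∣ 2 ^ a :=
        (orderOf_map_dvd (QuotientGroup.mk' N) x).trans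
          (orderOf_dvd_of_pow_eq_one (congrArg Subtype.val ha))
      exact Nat.eq_one_of_dvd_coprimes
        (((Nat.prime_two.coprime_iff_not_dvd).mpr hodd).pow_left a) h1 (orderOf_dvd_natCard _)
    rw [hPN]; infer_instance
  · intro hP x hx1 hxo hreal
    have hodd : Odd (Nat.card (G ⧸ (P : Subgroup G))) := by
      rw [← Subgroup.index_eq_card, Nat.odd_iff, ← Nat.two_dvd_ne_zero]
      exact P.not_dvd_index
    have h1 : (x : G ⧸ (P : Subgroup G)) = 1 :=
      eq_one_of_real_of_odd hodd (by simpa using (QuotientGroup.mk' (P : Subgroup G)).map_isConj hreal)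
    obtain ⟨a, ha⟩ := P.2 ⟨x, (QuotientGroup.eq_one_iff x).mp h1⟩
    exact hx1 (orderOf_eq_one_iff.mp (Nat.eq_one_of_dvd_coprimes
      ((Nat.coprime_two_left.mpr hxo).pow_left a)
      (orderOf_dvd_of_pow_eq_one (congrArg Subtype.val ha)) dvd_rfl))

end Cfsg.Agent.S3861
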