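import Cfsg.Statements.S3863
import Mathlib.GroupTheory.Perm.Cycle.Type
import Mathlib.Data.Nat.Factorization.Basic

set_option autoImplicit false
open Cfsg

namespace Cfsg.Agent.S3863

theorem inv_of_conj {G : Type*} [Group G] {t x : G} (h : t * x * t⁻¹ = x⁻¹) :
    ∀ n : ℕ, Odd n → t ^ n * x * (t ^ n)⁻¹ = x⁻¹ := by
  have h2 : (t * t) * x * (t * t)⁻¹ = x := by
    calc (t * t) * x * (t * t)⁻¹ = t * (t * x * t⁻¹) * t⁻¹ := by simp [mul_assoc]
      _ = (t * x * t⁻¹)⁻¹ := by rw [h]; simp [mul_assoc, ← h]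
      _ = x := by rw [h, inv_inv]
  intro n hn
  obtain ⟨k, rfl⟩ := hn
  induction k with
  | zero => simpa using h
  | succ k ih =>
    have e : t ^ (2 * (k + 1) + 1) = (t * t) * t ^ (2 * k + 1) := by
      rw [← pow_two, ← pow_add]
      ring_nf
    rw [e, mul_inv_rev]
    calc (t * t) * t ^ (2 * k + 1) * x * ((t ^ (2 * k + 1))⁻¹ * (t * t)⁻¹)
        = (t * t) * (t ^ (2 * k + 1) * x * (t ^ (2 * k + 1))⁻¹) * (t * t)⁻¹ := by simp [mul_assoc]
      _ = ((t * t) * x * (t * t)⁻¹)⁻¹ := by rw [ih]; simp [mul_assoc]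
      _ = x⁻¹ := by rw [h2]

/-- Let x be an element of the finite group G that is conjugate to its inverse. Then some 2-element conjugates x to its inverse; if the conjugacy class of x has odd size then x ^ 2 = 1; and x lies in, and is conjugate to its inverse inside, every normal subgroup of odd index. -/
theorem result {G : Type*} [Group G] [Finite G] (x : G) (hx : IsConj x x⁻¹) : (∃ t : G, (∃ j : ℕ, orderOf t = 2 ^ j) ∧ t * x * t⁻¹ = x⁻¹) ∧ (Odd (Subgroup.centralizer ({x} : Set G)).index → x ^ 2 = 1) ∧ ∀ (N : Subgroup G) [N.Normal], Odd N.index → ∃ hxN : x ∈ N, IsConj (⟨x, hxN⟩ : N) (⟨x, hxN⟩ : N)⁻¹ := by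
  obtain ⟨c, hc⟩ := isConj_iff.mp hx
  have h0 : orderOf c ≠ 0 := (orderOf_pos c).ne'
  set a := (orderOf c).factorization 2
  have hdvd : 2 ^ a ∣ orderOf c := Nat.ordProj_dvd _ _
  have hm : Odd (orderOf c / 2 ^ a) := by
    rw [Nat.odd_iff, ← Nat.two_dvd_ne_zero]
    exact Nat.not_dvd_ordCompl Nat.prime_two h0
  set t := c ^ (orderOf c / 2 ^ a) with ht
  have htx : t * x * t⁻¹ = x⁻¹ := inv_of_conj hc _ hm
  have hto : orderOf t = 2 ^ a := by
    rw [ht, orderOf_pow_of_dvd (Nat.pos_of_ne_zero (by exact fun h => by simp [h] at hm)).ne'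
      (Nat.div_dvd_of_dvd hdvd), Nat.div_div_self hdvd h0]
  refine ⟨⟨t, ⟨a, hto⟩, htx⟩, ?_, ?_⟩
  · intro hodd
    have hcard : Nat.card (MulAction.orbit (ConjAct G) x) =
        (Subgroup.centralizer ({x} : Set G)).index := by
      rw [Nat.card_coe_set_eq, ← MulAction.index_stabilizer, ConjAct.stabilizer_eq_centralizer]
      rfl
    classical
    have := Fintype.ofFinite (MulAction.orbit (ConjAct G) x)
    have hmem : ∀ y ∈ MulAction.orbit (ConjAct G) x, y⁻¹ ∈ MulAction.orbit (ConjAct G) x := by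
      rintro _ ⟨g, rfl⟩
      refine ⟨g * ConjAct.toConjAct t, ?_⟩
      simp only [mul_smul, ConjAct.smul_def, ConjAct.ofConjAct_toConjAct, htx]
      simp [mul_assoc]
    let σ : Equiv.Perm (MulAction.orbit (ConjAct G) x) :=
      ⟨fun y => ⟨(y : G)⁻¹, hmem y y.2⟩, fun y => ⟨(y : G)⁻¹, hmem y y.2⟩,
        fun y => by ext; simp, fun y => by ext; simp⟩
    have : Fact (Nat.Prime 2) := ⟨Nat.prime_two⟩
    obtain ⟨⟨y, hy⟩, hfix⟩ := Equiv.Perm.exists_fixed_point_of_prime (p := 2) (n := 1)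
      (σ := σ) (by
        rw [← Nat.card_eq_fintype_card, hcard, Nat.two_dvd_ne_zero, ← Nat.odd_iff]
        exact hodd)
      (by ext z; simp [σ, sq])
    have hyy : y⁻¹ = y := congrArg Subtype.val hfix
    obtain ⟨g, rfl⟩ := hy
    have h1 : g • x⁻¹ = g • x := by rw [smul_inv']; exact hyy
    have h3 : x⁻¹ = x := MulAction.injective g h1
    rw [sq]
    nth_rw 1 [← h3]
    exact inv_mul_cancel x
  · intro N _ hN
    have hodd : Odd (Nat.card (G ⧸ N)) := by rwa [← Subgroup.index_eq_card]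
    have ht2 : (t : G ⧸ N) = 1 := by
      rw [← orderOf_eq_one_iff]
      have h1 : orderOf (t : G ⧸ N) ∣ 2 ^ a := hto ▸ orderOf_map_dvd (QuotientGroup.mk' N) t
      have h2 : orderOf (t : G ⧸ N) ∣ Nat.card (G ⧸ N) := orderOf_dvd_natCard _
      have h3 : (2 ^ a).Coprime (Nat.card (G ⧸ N)) :=
        (Nat.coprime_two_left.mpr hodd).pow_left a
      exact Nat.eq_one_of_dvd_coprimes h3 h1 h2
    have hxN : x ∈ N := by
      rw [← QuotientGroup.eq_one_iff, ← orderOf_eq_one_iff]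
      have h1 : (x : G ⧸ N) = (x : G ⧸ N)⁻¹ := by
        have := congrArg (QuotientGroup.mk' N) htx
        simpa [ht2] using this
      have h2 : orderOf (x : G ⧸ N) ∣ 2 :=
        orderOf_dvd_of_pow_eq_one (by rw [sq]; nth_rw 1 [h1]; exact inv_mul_cancel _)
      exact Nat.eq_one_of_dvd_coprimes (Nat.coprime_two_left.mpr hodd) h2 (orderOf_dvd_natCard _)
    refine ⟨hxN, isConj_iff.mpr ⟨⟨t, (QuotientGroup.eq_one_iff t).mp ht2⟩, Subtype.ext htx⟩⟩

end Cfsg.Agent.S3863
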