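import Cfsg.Statements.S3864
import Cfsg.Agent.Lib.Involutions.DihedralFusion
import Mathlib

set_option autoImplicit false
open Cfsg

namespace Cfsg.Agent.S3864

open DihedralGroup
open Cfsg.Agent.Lib.Involutions
open Cfsg.Agent.Lib.Involutions.DihSylow (half)

variable {G : Type*} [Group G] [Finite G] {m : ℕ}

/-- The conjugacy classes of involutions are those of the listed elements. -/
theorem card_classes (d : DihSylow G m) (L : Finset (ConjClasses G))
    (hL : ∀ C ∈ L, ∃ g : G, ConjClasses.mk g = C ∧ orderOf g = 2)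
    (hc : ConjClasses.mk (d.ι (r (half m))) ∈ L) (ha : ConjClasses.mk (d.ι (sr 0)) ∈ L)
    (hb : ConjClasses.mk (d.ι (sr 1)) ∈ L) :
    Nat.card {C : ConjClasses G // ∃ g : G, ConjClasses.mk g = C ∧ orderOf g = 2} = L.card := by
  have : Fact (Nat.Prime 2) := ⟨Nat.prime_two⟩
  rw [← Nat.card_eq_finsetCard]
  refine Nat.card_congr (Equiv.subtypeEquivRight fun C => ⟨?_, hL C⟩)
  rintro ⟨g, rfl, hg⟩
  have hpg : IsPGroup 2 (Subgroup.zpowers g) :=
    IsPGroup.of_card (n := 1) (by rw [Nat.card_zpowers, hg, pow_one])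
  obtain ⟨Q, hQ⟩ := hpg.exists_le_sylow
  obtain ⟨x, rfl⟩ := MulAction.exists_smul_eq G d.S Q
  have h1 : x⁻¹ * g * x ∈ (d.S : Subgroup G) := by
    have h := hQ (Subgroup.mem_zpowers g)
    rw [Sylow.coe_subgroup_smul, Subgroup.mem_pointwise_smul_iff_inv_smul_mem] at h
    simpa [MulAut.smul_def] using h
  have hconj : IsConj g (x⁻¹ * g * x) := isConj_iff.mpr ⟨x⁻¹, by rw [inv_inv]⟩
  have h2 : orderOf (x⁻¹ * g * x) = 2 := by
    obtain ⟨y, hy⟩ := isConj_iff.mp hconj
    rw [← hy, ← MulAut.conj_apply, MulEquiv.orderOf_eq, hg]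
  rw [ConjClasses.mk_eq_mk_iff_isConj.mpr hconj]
  rcases d.invol_cases h2 h1 with h | ⟨i, h⟩
  · rw [h]; exact hc
  · rw [h]
    rcases d.isConj_sr i with h' | h' <;> rw [ConjClasses.mk_eq_mk_iff_isConj.mpr h'] <;> assumption

/-- An index-two subgroup cannot contain both reflections. -/
theorem false_of_mem (d : DihSylow G m) (N : Subgroup G) [N.Normal] (hN : 2 ∣ N.index)
    (ha : d.ι (sr 0) ∈ N) (hb : d.ι (sr 1) ∈ N) : False := by
  have : Fact (Nat.Prime 2) := ⟨Nat.prime_two⟩
  refine d.S.not_dvd_index (hN.trans (Subgroup.index_dvd_of_le ?_))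
  intro x hx
  obtain ⟨g, rfl⟩ := d.exists_ι hx
  have hr : d.ι (r 1) ∈ N := by
    have : (r 1 : DihedralGroup m) = sr 0 * sr 1 := by simp
    rw [this, map_mul]; exact mul_mem ha hb
  have := d.neZero
  rcases g with j | j
  · rw [show (r j : DihedralGroup m) = r 1 ^ j.val by simp, map_pow]; exact pow_mem hr _
  · rw [show (sr j : DihedralGroup m) = sr 0 * r 1 ^ j.val by simp, map_mul, map_pow]
    exact mul_mem ha (pow_mem hr _)

theorem false_of_index_four (d : DihSylow G m) (hm : 4 ∣ m) (N : Subgroup G) [N.Normal] (hN : N.index = 4)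
    {x : G} (hx : x = d.ι (sr 0) ∨ x = d.ι (sr 1)) (hconj : IsConj x (d.ι (r (half m)))) : False := by
  have : Fact (Nat.Prime 2) := ⟨Nat.prime_two⟩
  have := d.neZero
  set f := QuotientGroup.mk' N with hf
  have hcard : Nat.card (G ⧸ N) = 4 := by rw [← Subgroup.index, hN]
  have hab : ∀ u v : G ⧸ N, u * v = v * u := fun u v =>
    IsPGroup.commutative_of_card_eq_prime_sq (p := 2) (by rw [hcard]; norm_num) u v
  set a := f (d.ι (sr 0)) with ha
  set b := f (d.ι (sr 1)) with hb
  have ha2 : a * a = 1 := by rw [ha, ← map_mul, ← map_mul, sr_mul_self, map_one, map_one]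
  have hb2 : b * b = 1 := by rw [hb, ← map_mul, ← map_mul, sr_mul_self, map_one, map_one]
  have hr1 : ∀ j : ZMod m, f (d.ι (r j)) = (a * b) ^ j.val := by
    intro j
    rw [ha, hb, ← map_mul, ← map_mul, ← map_pow, ← map_pow]
    simp
  have hab2 : (a * b) ^ 2 = 1 := by
    calc (a * b) ^ 2 = a * (b * a) * b := by rw [pow_two, mul_assoc, mul_assoc, mul_assoc]
      _ = a * (a * b) * b := by rw [hab b a]
      _ = 1 := by rw [← mul_assoc a a b, ha2, one_mul, hb2]
  have hc : f (d.ι (r (half m))) = 1 := by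
    rw [hr1]
    obtain ⟨k, hk⟩ := hm
    have hv : (half m).val = 2 * k := by
      rw [half, ZMod.val_natCast, Nat.mod_eq_of_lt] <;> have := d.two_le <;> omega
    rw [hv, pow_mul, hab2, one_pow]
  have hfx : f x = 1 := by
    obtain ⟨y, hy⟩ := isConj_iff.mp hconj
    have h1 := congrArg f hy
    rw [hc, map_mul, map_mul, hab (f y) (f x), map_inv, mul_inv_cancel_right] at h1
    exact h1
  have hsurj : ∀ q : G ⧸ N, q = 1 ∨ q = a * b := by
    have htop : (d.S : Subgroup G).map f = ⊤ := by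
      refine Subgroup.eq_top_of_le_card _ ?_
      obtain ⟨S', hS'⟩ : ∃ S' : Sylow 2 (G ⧸ N), (S' : Subgroup (G ⧸ N)) = (d.S : Subgroup G).map f :=
        ⟨d.S.mapSurjective (QuotientGroup.mk'_surjective N), rfl⟩
      have h : IsPGroup 2 (⊤ : Subgroup (G ⧸ N)) :=
        IsPGroup.of_card (n := 2) (by rw [Subgroup.card_top, hcard]; norm_num)
      rw [← hS', ← S'.3 h le_top, Subgroup.card_top]
    intro q
    obtain ⟨s, hs, rfl⟩ : q ∈ (d.S : Subgroup G).map f := htop ▸ Subgroup.mem_top q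
    obtain ⟨g, rfl⟩ := d.exists_ι hs
    have hcyc : ∀ k : ℕ, (a * b) ^ k = 1 ∨ (a * b) ^ k = a * b := by
      intro k
      induction k with
      | zero => exact Or.inl (pow_zero _)
      | succ k ih =>
        rcases ih with h | h <;> rw [pow_succ, h]
        · exact Or.inr (one_mul _)
        · exact Or.inl (by rw [← pow_two, hab2])
    rcases g with j | j
    · rw [hr1]; exact hcyc _
    · have h2 : f (d.ι (sr j)) = a * (a * b) ^ j.val := by
        rw [← hr1, ha, ← map_mul, ← map_mul, sr_mul_r, zero_add]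
      rw [h2]
      rcases hx with h0 | h0 <;> rw [h0] at hfx
      · rw [← ha] at hfx; rw [hfx, one_mul]; simpa [hfx] using hcyc j.val
      · rw [← hb] at hfx; rw [hfx, mul_one] at *
        rcases hcyc j.val with h | h <;> rw [h]
        · exact Or.inr (mul_one _)
        · exact Or.inl ha2
  have hle : Nat.card (G ⧸ N) ≤ 2 := by
    classical
    refine le_trans (Nat.card_le_card_of_injective (fun q => decide (q = 1)) fun p q h => ?_) (by simp)
    simp only [decide_eq_decide] at h
    rcases hsurj p with hp | hp <;> rcases hsurj q with hq | hq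
    · rw [hp, hq]
    · rw [hp, h.mp hp]
    · rw [h.mpr hq, hq]
    · rw [hp, hq]
  omega

/-- Let G be a finite group whose Sylow 2-subgroups are dihedral of order 2 ^ n with n ≥ 3, and count the conjugacy classes of involutions of G. Then exactly one of the following holds: there is one class of involutions and no normal subgroup of index 2; there are two classes of involutions, a normal subgroup of index 2 and none of index 4; there are three classes of involutions and G has a normal 2-complement. -/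
theorem result {G : Type*} [Group G] [Finite G] (P : Sylow 2 G) (n : ℕ) (hn : 3 ≤ n) (hdih : Nonempty (↥(P : Subgroup G) ≃* DihedralGroup (2 ^ (n - 1)))) : (Nat.card {C : ConjClasses G // ∃ g : G, ConjClasses.mk g = C ∧ orderOf g = 2} = 1 ∧ ∀ N : Subgroup G, N.Normal → N.index ≠ 2) ∨ (Nat.card {C : ConjClasses G // ∃ g : G, ConjClasses.mk g = C ∧ orderOf g = 2} = 2 ∧ (∃ N : Subgroup G, N.Normal ∧ N.index = 2) ∧ ∀ N : Subgroup G, N.Normal → N.index ≠ 4) ∨ (Nat.card {C : ConjClasses G // ∃ g : G, ConjClasses.mk g = C ∧ orderOf g = 2} = 3 ∧ Cfsg.HasNormalPComplement 2 G) := by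
  classical
  have : Fact (Nat.Prime 2) := ⟨Nat.prime_two⟩
  obtain ⟨e⟩ := hdih
  have hm2 : 2 ≤ 2 ^ (n - 1) := Nat.le_self_pow (by omega) 2
  set d := DihSylow.ofEquiv P hm2 e with hd
  have h4 : 4 ∣ 2 ^ (n - 1) := pow_dvd_pow 2 (show 2 ≤ n - 1 by omega)
  set c := d.ι (r (half (2 ^ (n - 1))))
  set a := d.ι (sr 0)
  set b := d.ι (sr 1)
  have hoa : orderOf a = 2 := d.orderOf_sr 0
  have hob : orderOf b = 2 := d.orderOf_sr 1
  have hoc : orderOf c = 2 := d.orderOf_half
  by_cases hac : IsConj a c <;> by_cases hbc : IsConj b c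
  · left
    have ea : ConjClasses.mk a = ConjClasses.mk c := ConjClasses.mk_eq_mk_iff_isConj.mpr hac
    have eb : ConjClasses.mk b = ConjClasses.mk c := ConjClasses.mk_eq_mk_iff_isConj.mpr hbc
    refine ⟨?_, fun N hN hidx => ?_⟩
    · rw [card_classes d {ConjClasses.mk c} (fun C hC => ⟨c, (Finset.mem_singleton.mp hC).symm, hoc⟩)
        (Finset.mem_singleton_self _) (by rw [show d.ι (sr 0) = a from rfl, ea]; exact Finset.mem_singleton_self _)
        (by rw [show d.ι (sr 1) = b from rfl, eb]; exact Finset.mem_singleton_self _), Finset.card_singleton]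
    · have hmem : ∀ x y : G, IsConj x y → x ∈ N → y ∈ N := by
        intro x y hxy hx
        obtain ⟨g, rfl⟩ := isConj_iff.mp hxy
        exact hN.conj_mem x hx g
      obtain ⟨t, htN, ht⟩ : ∃ t : G, t ∈ N ∧ orderOf t = 2 := by
        have h2 : 2 ∣ Nat.card N := by
          have h1 := N.card_mul_index
          rw [hidx] at h1
          have h8 : 2 * 2 ∣ Nat.card G := by
            refine dvd_trans ?_ (Subgroup.card_subgroup_dvd_card (d.S : Subgroup G))
            rw [d.card_S]; exact Nat.mul_dvd_mul_left 2 (dvd_trans (by norm_num) h4)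
          rw [← h1] at h8
          exact Nat.dvd_of_mul_dvd_mul_right (by norm_num) h8
        obtain ⟨t, ht⟩ := exists_prime_orderOf_dvd_card' 2 h2
        exact ⟨t, t.2, by rw [Subgroup.orderOf_coe]; exact ht⟩
      have hcN : c ∈ N := by
        have hcls : ConjClasses.mk t = ConjClasses.mk c := by
          have h := card_classes d {ConjClasses.mk c} (fun C hC => ⟨c, (Finset.mem_singleton.mp hC).symm, hoc⟩)
            (Finset.mem_singleton_self _) (by rw [show d.ι (sr 0) = a from rfl, ea]; exact Finset.mem_singleton_self _)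
            (by rw [show d.ι (sr 1) = b from rfl, eb]; exact Finset.mem_singleton_self _)
          rw [Finset.card_singleton, Nat.card_eq_one_iff_unique] at h
          exact congrArg Subtype.val (h.1.elim (⟨_, t, rfl, ht⟩ : {C : ConjClasses G // ∃ g : G, ConjClasses.mk g = C ∧ orderOf g = 2}) ⟨_, c, rfl, hoc⟩)
        exact hmem _ _ (ConjClasses.mk_eq_mk_iff_isConj.mp hcls) htN
      haveI := hN
      exact false_of_mem d N (by rw [hidx]) (hmem _ _ hac.symm hcN) (hmem _ _ hbc.symm hcN)
  · right; left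
    obtain ⟨x, y, hxy, hxc, hyc⟩ : ∃ x y : G, ((x = a ∧ y = b) ∨ (x = b ∧ y = a)) ∧ IsConj x c ∧ ¬ IsConj y c :=
      ⟨a, b, Or.inl ⟨rfl, rfl⟩, hac, hbc⟩
    have hy2 : orderOf y = 2 := by rcases hxy with ⟨-, rfl⟩ | ⟨-, rfl⟩ <;> assumption
    have ex : ConjClasses.mk x = ConjClasses.mk c := ConjClasses.mk_eq_mk_iff_isConj.mpr hxc
    refine ⟨?_, ?_, fun N hN hidx => ?_⟩
    · have hne : ConjClasses.mk y ≠ ConjClasses.mk c := fun e => hyc (ConjClasses.mk_eq_mk_iff_isConj.mp e)
      have hab' : ConjClasses.mk a ∈ ({ConjClasses.mk y, ConjClasses.mk c} : Finset (ConjClasses G)) ∧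
          ConjClasses.mk b ∈ ({ConjClasses.mk y, ConjClasses.mk c} : Finset (ConjClasses G)) := by
        rcases hxy with ⟨rfl, rfl⟩ | ⟨rfl, rfl⟩ <;> simp [ex]
      rw [card_classes d {ConjClasses.mk y, ConjClasses.mk c} (fun C hC => by
          rcases Finset.mem_insert.mp hC with rfl | h
          · exact ⟨y, rfl, hy2⟩
          · exact ⟨c, (Finset.mem_singleton.mp h).symm, hoc⟩)
        (by simp [show d.ι (r (half (2 ^ (n - 1)))) = c from rfl]) hab'.1 hab'.2]
      simp [hne]
    · obtain ⟨i, rfl⟩ : ∃ i, y = d.ι (sr i) := by rcases hxy with ⟨-, rfl⟩ | ⟨-, rfl⟩ <;> exact ⟨_, rfl⟩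
      rcases d.exists_index_two_or_conj i with ⟨M, hM, hM2, -⟩ | h
      · exact ⟨M, hM, hM2⟩
      · exact absurd h hyc
    · haveI := hN
      exact false_of_index_four d h4 N hidx (x := x) (by rcases hxy with ⟨rfl, -⟩ | ⟨rfl, -⟩ <;> simp [a, b]) hxc
  · right; left
    obtain ⟨x, y, hxy, hxc, hyc⟩ : ∃ x y : G, ((x = a ∧ y = b) ∨ (x = b ∧ y = a)) ∧ IsConj x c ∧ ¬ IsConj y c :=
      ⟨b, a, Or.inr ⟨rfl, rfl⟩, hbc, hac⟩
    have hy2 : orderOf y = 2 := by rcases hxy with ⟨-, rfl⟩ | ⟨-, rfl⟩ <;> assumption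
    have ex : ConjClasses.mk x = ConjClasses.mk c := ConjClasses.mk_eq_mk_iff_isConj.mpr hxc
    refine ⟨?_, ?_, fun N hN hidx => ?_⟩
    · have hne : ConjClasses.mk y ≠ ConjClasses.mk c := fun e => hyc (ConjClasses.mk_eq_mk_iff_isConj.mp e)
      have hab' : ConjClasses.mk a ∈ ({ConjClasses.mk y, ConjClasses.mk c} : Finset (ConjClasses G)) ∧
          ConjClasses.mk b ∈ ({ConjClasses.mk y, ConjClasses.mk c} : Finset (ConjClasses G)) := by
        rcases hxy with ⟨rfl, rfl⟩ | ⟨rfl, rfl⟩ <;> simp [ex]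
      rw [card_classes d {ConjClasses.mk y, ConjClasses.mk c} (fun C hC => by
          rcases Finset.mem_insert.mp hC with rfl | h
          · exact ⟨y, rfl, hy2⟩
          · exact ⟨c, (Finset.mem_singleton.mp h).symm, hoc⟩)
        (by simp [show d.ι (r (half (2 ^ (n - 1)))) = c from rfl]) hab'.1 hab'.2]
      simp [hne]
    · obtain ⟨i, rfl⟩ : ∃ i, y = d.ι (sr i) := by rcases hxy with ⟨-, rfl⟩ | ⟨-, rfl⟩ <;> exact ⟨_, rfl⟩
      rcases d.exists_index_two_or_conj i with ⟨M, hM, hM2, -⟩ | h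
      · exact ⟨M, hM, hM2⟩
      · exact absurd h hyc
    · haveI := hN
      exact false_of_index_four d h4 N hidx (x := x) (by rcases hxy with ⟨rfl, -⟩ | ⟨rfl, -⟩ <;> simp [a, b]) hxc
  right; right
  have hnot : ∀ i, ¬ IsConj (d.ι (sr i)) c := fun i h => by
    rcases d.isConj_sr i with h' | h'
    · exact hac (h'.symm.trans h)
    · exact hbc (h'.symm.trans h)
  have hpc := d.hasNormalPComplement_of_not_fused hnot
  refine ⟨?_, hpc⟩
  have hnab : ConjClasses.mk a ≠ ConjClasses.mk b := by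
    intro e
    obtain ⟨g, hg⟩ := isConj_iff.mp (ConjClasses.mk_eq_mk_iff_isConj.mp e)
    obtain ⟨s, hs, hst⟩ := conj_in_sylow_of_hasNormalPComplement hpc d.S (d.ι_mem (sr 0)) (d.ι_mem (sr 1)) hg
    obtain ⟨u, rfl⟩ := d.exists_ι hs
    have hst' : d.ι (u * sr 0 * u⁻¹) = d.ι (sr 1) := by rw [map_mul, map_mul, map_inv]; exact hst
    have hu := d.inj hst'
    rcases u with j | j
    · rw [dihedral_conj_r_sr] at hu
      injection hu with hu
      exact d.parity_ne (-j) 0 (by rw [add_zero, add_zero, ← hu]; abel)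
    · simp only [inv_sr, sr_mul_sr, r_mul_sr] at hu
      injection hu with hu
      exact d.parity_ne j 0 (by rw [add_zero, add_zero, ← hu]; abel)
  have h1 : ConjClasses.mk a ≠ ConjClasses.mk c := fun e => hac (ConjClasses.mk_eq_mk_iff_isConj.mp e)
  have h2 : ConjClasses.mk b ≠ ConjClasses.mk c := fun e => hbc (ConjClasses.mk_eq_mk_iff_isConj.mp e)
  rw [card_classes d {ConjClasses.mk a, ConjClasses.mk b, ConjClasses.mk c} (fun C hC => by
      simp only [Finset.mem_insert, Finset.mem_singleton] at hC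
      rcases hC with rfl | rfl | rfl
      · exact ⟨a, rfl, hoa⟩
      · exact ⟨b, rfl, hob⟩
      · exact ⟨c, rfl, hoc⟩)
    (by simp [show d.ι (r (half (2 ^ (n - 1)))) = c from rfl])
    (by simp [show d.ι (sr 0) = a from rfl]) (by simp [show d.ι (sr 1) = b from rfl])]
  rw [Finset.card_insert_of_notMem (by simp [hnab, h1]), Finset.card_insert_of_notMem (by simp [h2]),
    Finset.card_singleton]

end Cfsg.Agent.S3864
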