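import Cfsg.Statements.S4587
import Cfsg.Agent.Lib.Transfer.Tate
import Cfsg.Agent.Lib.Transfer.PFrattini
import Cfsg.Agent.Lib.LocalEven.Residual
import Cfsg.Agent.Lib.PGroups.SylowNumber
import Cfsg.Agent.Lib.Cores.PCore

set_option autoImplicit false
set_option linter.style.haveILetI false
set_option linter.unusedSectionVars false
open Cfsg
open scoped commutatorElement Pointwise

namespace Cfsg.Agent.S4587

open Cfsg.Agent.Lib

universe u

/-! ### Groups of prime power order -/

section PGroup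

variable {H : Type u} [Group H] [Finite H] {p : ℕ} [hp : Fact p.Prime]

theorem commutator_le_frattini (hH : IsPGroup p H) : commutator H ≤ frattini H := fun x hx =>
  Transfer.mem_frattini_of_forall_hom hH fun {A} _ hA δ =>
    Transfer.commutator_le_ker_of_card hA.out δ hx

theorem eq_top_of_sup_commutator (hH : IsPGroup p H) (K : Subgroup H) (h : K ⊔ commutator H = ⊤) :
    K = ⊤ :=
  frattini_nongenerating (top_le_iff.mp (h ▸ sup_le_sup_left (commutator_le_frattini hH) K))

theorem comm_of_index_lt (hH : IsPGroup p H) (h : (commutator H).index < p ^ 2) (a b : H) :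
    a * b = b * a := by
  obtain ⟨k, hk⟩ := IsPGroup.iff_card.mp hH
  obtain ⟨j, -, hj⟩ := (Nat.dvd_prime_pow hp.out).mp (hk ▸ (commutator H).index_dvd_card)
  have hj1 : j ≤ 1 := by
    by_contra hc
    exact absurd (Nat.pow_le_pow_right hp.out.pos (not_le.mp hc : 2 ≤ j)) (not_le.mpr (hj ▸ h))
  haveI : (commutator H).Normal := Subgroup.commutator_normal _ _
  haveI : IsCyclic (H ⧸ commutator H) := by
    rcases Nat.le_one_iff_eq_zero_or_eq_one.mp hj1 with rfl | rfl
    · haveI : Subsingleton (H ⧸ commutator H) :=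
        (Nat.card_eq_one_iff_unique.mp (hj.trans (pow_zero p))).1
      infer_instance
    · exact isCyclic_of_prime_card (hj.trans (pow_one p))
  obtain ⟨g, hg⟩ := IsCyclic.exists_zpow_surjective (G := H ⧸ commutator H)
  obtain ⟨g, rfl⟩ := QuotientGroup.mk_surjective g
  have htop : Subgroup.zpowers g = ⊤ := by
    refine eq_top_of_sup_commutator hH _ (eq_top_iff.mpr fun x _ => ?_)
    obtain ⟨n, hn⟩ := hg (QuotientGroup.mk x)
    have hn' : g ^ (-n) * x ∈ commutator H := by
      rw [← QuotientGroup.eq_one_iff, QuotientGroup.mk_mul, QuotientGroup.mk_zpow, ← hn]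
      group
    have := Subgroup.mul_mem (Subgroup.zpowers g ⊔ commutator H)
      (Subgroup.mem_sup_left (Subgroup.zpow_mem_zpowers g n)) (Subgroup.mem_sup_right hn')
    simpa using this
  obtain ⟨m, rfl⟩ := (htop ▸ Subgroup.mem_top a : a ∈ Subgroup.zpowers g)
  obtain ⟨n, rfl⟩ := (htop ▸ Subgroup.mem_top b : b ∈ Subgroup.zpowers g)
  exact (Commute.refl g).zpow_zpow m n

/-- An element with centralizer of order at most `p²` forces a derived factor group of order at
most `p²`. -/
theorem index_le_of_centralizer (x : H) :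
    (Subgroup.centralizer ({x} : Set H)).index ≤ Nat.card (commutator H) := by
  let f : H ⧸ Subgroup.centralizer ({x} : Set H) → commutator H := fun q =>
    ⟨⁅Quotient.out q, x⁆, Subgroup.commutator_mem_commutator (Subgroup.mem_top _) (Subgroup.mem_top _)⟩
  refine Nat.card_le_card_of_injective f fun a b hab => ?_
  have h : ⁅Quotient.out a, x⁆ = ⁅Quotient.out b, x⁆ := congrArg Subtype.val hab
  rw [commutatorElement_def, commutatorElement_def] at h
  rw [← QuotientGroup.out_eq' a, ← QuotientGroup.out_eq' b, QuotientGroup.eq,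
    Subgroup.mem_centralizer_singleton_iff]
  set u := Quotient.out a
  set v := Quotient.out b
  have h' : u * x * u⁻¹ = v * x * v⁻¹ := mul_right_cancel h
  calc u⁻¹ * v * x = u⁻¹ * (v * x * v⁻¹) * v := by group
    _ = u⁻¹ * (u * x * u⁻¹) * v := by rw [h']
    _ = x * (u⁻¹ * v) := by group

theorem card_sup_of_inf_eq_bot (X Y : Subgroup H) [Y.Normal] (h : X ⊓ Y = ⊥) :
    Nat.card ↥(X ⊔ Y) = Nat.card X * Nat.card Y := by
  have h1 : Y.relIndex (X ⊔ Y) = Nat.card X := by
    rw [Subgroup.relIndex_sup_right, ← Subgroup.inf_relIndex_left, h, Subgroup.relIndex_bot_left]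
  have h2 := Subgroup.relIndex_mul_relIndex ⊥ Y (X ⊔ Y) bot_le le_sup_right
  rw [h1, Subgroup.relIndex_bot_left, Subgroup.relIndex_bot_left] at h2
  rw [← h2, mul_comm]

/-- Outside an abelian subgroup of index `p`, centralizers have order `p²` when the derived
factor group has order `p²`. -/
theorem card_centralizer_of_abelian (hH : IsPGroup p H) (A : Subgroup H) [A.Normal]
    (hA : ∀ a ∈ A, ∀ b ∈ A, a * b = b * a) (hi : A.index = p) (hD : (commutator H).index = p ^ 2)
    {y : H} (hy : y ∉ A) :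
    Nat.card ↥(A ⊓ Subgroup.centralizer ({y} : Set H)) = p ∧
      Nat.card ↥(Subgroup.centralizer ({y} : Set H)) = p ^ 2 := by
  have hgen : Subgroup.zpowers y ⊔ A = ⊤ := by
    have h1 := Subgroup.relIndex_mul_index (le_sup_right : A ≤ Subgroup.zpowers y ⊔ A)
    rw [hi] at h1
    rcases (Nat.dvd_prime hp.out).mp ⟨_, h1.symm.trans (mul_comm _ _)⟩ with h | h
    · exact Subgroup.index_eq_one.mp h
    · exfalso
      rw [h] at h1
      have h2 : A.relIndex (Subgroup.zpowers y ⊔ A) = 1 :=
        Nat.eq_of_mul_eq_mul_right hp.out.pos (h1.trans (one_mul p).symm)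
      exact hy (Subgroup.relIndex_eq_one.mp h2 (Subgroup.mem_sup_left (Subgroup.mem_zpowers y)))
  let ψ : A →* A := MonoidHom.mk'
    (fun a => ⟨y * a * y⁻¹ * (a : H)⁻¹, A.mul_mem (Subgroup.Normal.conj_mem inferInstance _ a.2 y) (A.inv_mem a.2)⟩)
    fun a b => Subtype.ext <| by
      simp only [Subgroup.coe_mul]
      have h1 := hA _ (A.inv_mem a.2) _ (Subgroup.Normal.conj_mem inferInstance _ b.2 y)
      have h2 := hA _ (A.inv_mem a.2) _ (A.inv_mem b.2)
      calc y * ((a : H) * b) * y⁻¹ * ((a : H) * b)⁻¹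
          = (y * a * y⁻¹) * (y * b * y⁻¹) * ((b : H)⁻¹ * (a : H)⁻¹) := by group
        _ = (y * a * y⁻¹) * (y * b * y⁻¹) * ((a : H)⁻¹ * (b : H)⁻¹) := by rw [h2]
        _ = (y * a * y⁻¹) * ((y * b * y⁻¹) * (a : H)⁻¹) * (b : H)⁻¹ := by group
        _ = (y * a * y⁻¹) * ((a : H)⁻¹ * (y * b * y⁻¹)) * (b : H)⁻¹ := by rw [h1]
        _ = _ := by group
  set R := ψ.range.map A.subtype with hR
  have hψy : ∀ a : A, y * (ψ a : H) * y⁻¹ ∈ R := fun a =>
    ⟨_, ⟨⟨y * a * y⁻¹, Subgroup.Normal.conj_mem inferInstance _ a.2 y⟩, rfl⟩, by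
      show y * (y * (a : H) * y⁻¹) * y⁻¹ * (y * (a : H) * y⁻¹)⁻¹ = y * (y * (a : H) * y⁻¹ * (a : H)⁻¹) * y⁻¹
      group⟩
  have hRA : R ≤ A := Subgroup.map_subtype_le _
  have hnorm : ∀ g : H, g ∈ Subgroup.normalizer (R : Set H) := by
    intro g
    have hle : Subgroup.zpowers y ⊔ A ≤ Subgroup.normalizer (R : Set H) := by
      refine sup_le (Subgroup.zpowers_le.mpr ?_) fun a ha => ?_
      · refine Subgroup.mem_normalizer_fintype ?_
        rintro _ ⟨_, ⟨a, rfl⟩, rfl⟩
        exact hψy a
      · refine Subgroup.mem_normalizer_fintype ?_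
        intro r hr
        rwa [hA a ha r (hRA hr), mul_inv_cancel_right]
    exact hle (hgen ▸ Subgroup.mem_top g)
  haveI hRn : R.Normal := Subgroup.normalizer_eq_top_iff.mp (eq_top_iff.mpr fun g _ => hnorm g)
  have hDR : commutator H = R := by
    refine le_antisymm ?_ ?_
    · let π := QuotientGroup.mk' R
      have hyA : ∀ a ∈ A, π y * π a = π a * π y := by
        intro a ha
        rw [← map_mul, ← map_mul]
        refine (QuotientGroup.eq_iff_div_mem.mpr ?_)
        rw [div_eq_mul_inv, mul_inv_rev, ← mul_assoc]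
        exact ⟨_, ⟨⟨a, ha⟩, rfl⟩, rfl⟩
      have hall : ∀ g : H, ∀ t : H, (t = y ∨ t ∈ A) → π g * π t = π t * π g := by
        intro g t ht
        have hle : Subgroup.zpowers y ⊔ A ≤ (Subgroup.centralizer ({π t} : Set (H ⧸ R))).comap π := by
          refine sup_le (Subgroup.zpowers_le.mpr ?_) fun a ha => ?_
          · rw [Subgroup.mem_comap, Subgroup.mem_centralizer_singleton_iff]
            rcases ht with rfl | ht
            · rfl
            · exact hyA t ht
          · rw [Subgroup.mem_comap, Subgroup.mem_centralizer_singleton_iff]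
            rcases ht with rfl | ht
            · exact (hyA a ha).symm
            · rw [← map_mul, ← map_mul, hA a ha t ht]
        exact Subgroup.mem_centralizer_singleton_iff.mp (Subgroup.mem_comap.mp (hle (hgen ▸ Subgroup.mem_top g)))
      rw [commutator_def, Subgroup.commutator_le]
      intro a _ b _
      have hle : Subgroup.zpowers y ⊔ A ≤ (Subgroup.centralizer ({π a} : Set (H ⧸ R))).comap π := by
        refine sup_le (Subgroup.zpowers_le.mpr ?_) fun t ht => ?_
        · rw [Subgroup.mem_comap, Subgroup.mem_centralizer_singleton_iff]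
          exact (hall a y (Or.inl rfl)).symm
        · rw [Subgroup.mem_comap, Subgroup.mem_centralizer_singleton_iff]
          exact (hall a t (Or.inr ht)).symm
      rw [← QuotientGroup.eq_one_iff]
      show π ⁅a, b⁆ = 1
      rw [map_commutatorElement, commutatorElement_eq_one_iff_mul_comm]
      exact (Subgroup.mem_centralizer_singleton_iff.mp (Subgroup.mem_comap.mp (hle (hgen ▸ Subgroup.mem_top b)))).symm
    · rintro _ ⟨_, ⟨a, rfl⟩, rfl⟩
      exact Subgroup.commutator_mem_commutator (Subgroup.mem_top y) (Subgroup.mem_top (a : H))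
  have hker : ψ.ker = (A ⊓ Subgroup.centralizer ({y} : Set H)).subgroupOf A := by
    ext a
    rw [MonoidHom.mem_ker, Subgroup.mem_subgroupOf, Subgroup.mem_inf,
      Subgroup.mem_centralizer_singleton_iff, Subtype.ext_iff]
    show y * (a : H) * y⁻¹ * (a : H)⁻¹ = 1 ↔ _
    rw [mul_inv_eq_one, mul_inv_eq_iff_eq_mul]
    exact ⟨fun h => ⟨a.2, h.symm⟩, fun h => h.2.symm⟩
  have hfix : Nat.card ↥(A ⊓ Subgroup.centralizer ({y} : Set H)) = p := by
    have h1 := ψ.ker.card_mul_index
    rw [Subgroup.index_ker] at h1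
    have h2 : Nat.card ψ.range = Nat.card R :=
      (Subgroup.card_map_of_injective (K := ψ.range) A.subtype_injective).symm
    rw [hker, Nat.card_congr (Subgroup.subgroupOfEquivOfLe inf_le_left).toEquiv, h2] at h1
    have h3 := R.card_mul_index
    rw [← hDR, hD] at h3
    have h4 := A.card_mul_index
    rw [hi] at h4
    rw [← hDR] at h1
    refine Nat.eq_of_mul_eq_mul_right (mul_pos (Nat.card_pos (α := ↥(commutator H))) hp.out.pos) ?_
    calc Nat.card ↥(A ⊓ Subgroup.centralizer ({y} : Set H)) * (Nat.card ↥(commutator H) * p)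
        = Nat.card H := by rw [← mul_assoc, h1, h4]
      _ = p * (Nat.card ↥(commutator H) * p) := by rw [← h3]; ring
  refine ⟨hfix, ?_⟩
  set C := Subgroup.centralizer ({y} : Set H) with hC
  have h1 : A.relIndex C = p := by
    rcases (Nat.dvd_prime hp.out).mp (hi ▸ Subgroup.relIndex_dvd_index_of_normal A C) with h | h
    · exact absurd (Subgroup.relIndex_eq_one.mp h (Subgroup.mem_centralizer_singleton_iff.mpr rfl)) hy
    · exact h
  have h2 := Subgroup.relIndex_mul_relIndex ⊥ (A ⊓ C) C bot_le inf_le_right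
  rw [Subgroup.relIndex_bot_left, Subgroup.relIndex_bot_left, Subgroup.inf_relIndex_right, h1, hfix] at h2
  rw [← h2, sq]

end PGroup

/-! ### Minimal normal subgroups -/

section Minimal

variable {G : Type u} [Group G]

/-- A minimal normal subgroup of `N`. -/
def IsMinIn (N S : Subgroup G) : Prop :=
  S ≤ N ∧ S ≠ ⊥ ∧ (∀ n ∈ N, ∀ s ∈ S, n * s * n⁻¹ ∈ S) ∧
    ∀ T : Subgroup G, T ≤ S → (∀ n ∈ N, ∀ s ∈ T, n * s * n⁻¹ ∈ T) → T = ⊥ ∨ T = S

theorem IsMinIn.conj {N S : Subgroup G} [N.Normal] (h : IsMinIn N S) (g : G) :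
    IsMinIn N (S.map (MulAut.conj g).toMonoidHom) := by
  obtain ⟨hSN, hS1, hSn, hSm⟩ := h
  refine ⟨?_, ?_, ?_, ?_⟩
  · rintro _ ⟨s, hs, rfl⟩
    exact Subgroup.Normal.conj_mem inferInstance _ (hSN hs) g
  · rwa [Ne, Subgroup.map_eq_bot_iff_of_injective _ (MulAut.conj g).injective]
  · rintro n hn _ ⟨s, hs, rfl⟩
    refine ⟨(g⁻¹ * n * g) * s * (g⁻¹ * n * g)⁻¹, hSn _ ?_ s hs, ?_⟩
    · simpa using Subgroup.Normal.conj_mem inferInstance n hn g⁻¹
    · show g * ((g⁻¹ * n * g) * s * (g⁻¹ * n * g)⁻¹) * g⁻¹ = n * (g * s * g⁻¹) * n⁻¹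
      group
  · intro T hT hTn
    have hmap : (T.map (MulAut.conj g⁻¹).toMonoidHom).map (MulAut.conj g).toMonoidHom = T := by
      rw [Subgroup.map_map]
      ext x
      simp [mul_assoc]
    rcases hSm (T.map (MulAut.conj g⁻¹).toMonoidHom) (by
      rintro _ ⟨t, ht, rfl⟩
      obtain ⟨s, hs, rfl⟩ := hT ht
      simpa [mul_assoc] using hs) (by
      rintro n hn _ ⟨t, ht, rfl⟩
      refine ⟨(g * n * g⁻¹) * t * (g * n * g⁻¹)⁻¹,
        hTn _ (Subgroup.Normal.conj_mem inferInstance n hn g) t ht, ?_⟩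
      show g⁻¹ * ((g * n * g⁻¹) * t * (g * n * g⁻¹)⁻¹) * g⁻¹⁻¹ = n * (g⁻¹ * t * g⁻¹⁻¹) * n⁻¹
      group) with h | h
    · left; rw [← hmap, h, Subgroup.map_bot]
    · right; rw [← hmap, h]

/-- Two minimal normal subgroups of `N` are equal or commute. -/
theorem IsMinIn.eq_or_comm {N S T : Subgroup G} (hS : IsMinIn N S) (hT : IsMinIn N T) :
    S = T ∨ T ≤ Subgroup.centralizer (S : Set G) := by
  have hI : ∀ n ∈ N, ∀ x ∈ S ⊓ T, n * x * n⁻¹ ∈ S ⊓ T := fun n hn x hx =>
    ⟨hS.2.2.1 n hn x hx.1, hT.2.2.1 n hn x hx.2⟩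
  rcases hS.2.2.2 (S ⊓ T) inf_le_left hI with h | h
  · refine Or.inr fun t ht => Subgroup.mem_centralizer_iff.mpr fun s hs => ?_
    have h1 : s * t * s⁻¹ * t⁻¹ ∈ S ⊓ T := by
      refine ⟨?_, T.mul_mem (hT.2.2.1 s (hS.1 hs) t ht) (T.inv_mem ht)⟩
      have := S.mul_mem hs (hS.2.2.1 t (hT.1 ht) s⁻¹ (S.inv_mem hs))
      simpa [mul_assoc] using this
    rw [h, Subgroup.mem_bot, mul_inv_eq_one, mul_inv_eq_iff_eq_mul] at h1
    exact h1
  · rcases hT.2.2.2 S (inf_eq_left.mp h) hS.2.2.1 with h' | h'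
    · exact absurd h' hS.2.1
    · exact Or.inl h'

end Minimal

section Main

variable {G : Type u} [Group G] [Finite G] {p : ℕ} [hp : Fact p.Prime]

/-- A `p'`-subgroup of a normal subgroup `N`, normal in `N`, is trivial. -/
theorem eq_bot_of_coprime (hcore : Cfsg.pPrimeCore p G = ⊥) (N : Subgroup G) [N.Normal]
    {K : Subgroup G} (hKN : K ≤ N) (hKn : (K.subgroupOf N).Normal) (hKp : ¬ p ∣ Nat.card K) :
    K = ⊥ := by
  set L := Cfsg.pPrimeCore p N with hL
  have hcopL : (Nat.card L).Coprime p := Cores.pPrimeCore_coprime p N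
  have hLn : L.Normal := (Cores.pPrimeCore_mem p N).1
  have hconj : ∀ g : G, L.map ((MulAut.conjNormal g : MulAut N) : N →* N) ≤ L := by
    intro g
    refine Cores.le_pPrimeCore (hLn.map _ (MulAut.conjNormal g : MulAut N).surjective) ?_
    rw [Nat.card_congr (Subgroup.equivMapOfInjective L ((MulAut.conjNormal g : MulAut N) : N →* N) (MulAut.conjNormal g : MulAut N).injective).toEquiv.symm]
    exact hcopL
  have hmapn : (L.map N.subtype).Normal := ⟨fun x hx g => by
    obtain ⟨l, hl, rfl⟩ := hx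
    exact ⟨_, hconj g ⟨l, hl, rfl⟩, MulAut.conjNormal_apply g l⟩⟩
  have hbot : L.map N.subtype = ⊥ := by
    rw [eq_bot_iff, ← hcore]
    refine Cores.le_pPrimeCore hmapn ?_
    rw [Subgroup.card_map_of_injective (K := L) N.subtype_injective]
    exact hcopL
  have h1 : K.subgroupOf N ≤ L := Cores.le_pPrimeCore hKn (by
    rw [Nat.card_congr (Subgroup.subgroupOfEquivOfLe hKN).toEquiv]
    exact (hp.out.coprime_iff_not_dvd.mpr hKp).symm)
  rw [eq_bot_iff, ← hbot]
  intro x hx
  exact ⟨⟨x, hKN hx⟩, h1 hx, rfl⟩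

/-- Tate: the Sylow part of a minimal normal subgroup is not inside the derived subgroup. -/
theorem not_le_commutator (P : Sylow p G) (hcore : Cfsg.pPrimeCore p G = ⊥)
    (hcore' : (⁅(P : Subgroup G), (P : Subgroup G)⁆).normalCore = ⊥) (N : Subgroup G) [N.Normal]
    (hN : N ≠ ⊥) : ¬ ((P : Subgroup G) ⊓ N ≤ ⁅(P : Subgroup G), (P : Subgroup G)⁆) := by
  intro hle
  set L := (P : Subgroup G) ⊔ N with hLdef
  have hPL : (P : Subgroup G) ≤ L := le_sup_left
  set PL : Sylow p L := P.subtype hPL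
  set NL := N.subgroupOf L
  haveI : NL.Normal := inferInstance
  have hquot : IsPGroup p (L ⧸ NL) := by
    refine IsPGroup.of_surjective PL.isPGroup' ((QuotientGroup.mk' NL).comp (PL : Subgroup L).subtype) ?_
    intro q
    obtain ⟨⟨l, hl⟩, rfl⟩ := QuotientGroup.mk_surjective q
    obtain ⟨x, hx, n, hn, rfl⟩ : ∃ x ∈ (P : Subgroup G), ∃ n ∈ N, x * n = l :=
      Set.mem_mul.mp (by rw [← Subgroup.mul_normal]; exact hl)
    refine ⟨⟨⟨x, hPL hx⟩, hx⟩, ?_⟩
    show QuotientGroup.mk (⟨x, hPL hx⟩ : L) = QuotientGroup.mk _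
    rw [QuotientGroup.eq, Subgroup.mem_subgroupOf]
    simpa using hn
  have hres : Cfsg.pResidual p L ≤ NL := LocalEven.pResidual_le_of_isPGroup_quotient hquot
  have h1 := Transfer.inf_pResidual_eq PL (H := (PL : Subgroup L)) le_rfl (by
    intro x hx
    refine Subgroup.mem_sup_left (Subgroup.mem_sup_right ?_)
    have h2 : (x : G) ∈ ⁅(P : Subgroup G), (P : Subgroup G)⁆ := hle ⟨hx.1, hres hx.2⟩
    have h3 : ((PL : Subgroup L)).map L.subtype = (P : Subgroup G) := by
      rw [Sylow.coe_subtype, Subgroup.subgroupOf_map_subtype, inf_eq_left.mpr hPL]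
    rw [← h3, ← Subgroup.map_commutator] at h2
    obtain ⟨t, ht, e⟩ := h2
    rwa [← L.subtype_injective e])
  have h2 : Cfsg.pResidual p (PL : Subgroup L) = ⊥ := by
    rw [eq_bot_iff]
    exact LocalEven.pResidual_le_of_isPGroup_quotient (PL.isPGroup'.to_quotient ⊥)
  rw [h2, Subgroup.map_bot, inf_bot_eq] at h1
  set R := Cfsg.pResidual p L
  haveI hRn : R.Normal := LocalEven.pResidual_normal p L
  have hRp : ¬ p ∣ Nat.card R := by
    have := PGroups.not_dvd_relIndex_inf PL R
    rwa [h1, Subgroup.relIndex_bot_left] at this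
  have hRbot : R = ⊥ := by
    have h3 : R.map L.subtype = ⊥ := by
      refine eq_bot_of_coprime hcore N ?_ ⟨?_⟩ ?_
      · rintro _ ⟨r, hr, rfl⟩
        exact hres hr
      · intro x hx n
        obtain ⟨r, hr, e⟩ := hx
        exact ⟨⟨n, le_sup_right (a := (P : Subgroup G)) n.2⟩ * r * ⟨n, le_sup_right (a := (P : Subgroup G)) n.2⟩⁻¹,
          hRn.conj_mem r hr _, by
            show (n : G) * (r : G) * (n : G)⁻¹ = (n : G) * (x : G) * (n : G)⁻¹
            rw [show (r : G) = (x : G) from e]⟩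
      · rwa [Subgroup.card_map_of_injective (K := R) L.subtype_injective]
    exact (Subgroup.map_eq_bot_iff_of_injective _ L.subtype_injective).mp h3
  have hNP : N ≤ (P : Subgroup G) := by
    have hLp : IsPGroup p L := by
      obtain ⟨k, hk⟩ := IsPGroup.iff_card.mp PL.isPGroup'
      have hh := PGroups.not_dvd_relIndex_inf P N
      intro x
      haveI : (Cfsg.pResidual p L).Normal := hRn
      have hx := (LocalEven.quotient_pResidual_isPGroup (p := p) (Cfsg.pResidual p L) le_rfl) (QuotientGroup.mk x)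
      obtain ⟨m, hm⟩ := hx
      refine ⟨m, ?_⟩
      rw [← QuotientGroup.mk_pow, QuotientGroup.eq_one_iff] at hm
      rwa [show Cfsg.pResidual p L = ⊥ from hRbot, Subgroup.mem_bot] at hm
    exact le_sup_right.trans (P.is_maximal' hLp le_sup_left).le
  rw [inf_eq_right.mpr hNP] at hle
  exact hN (le_bot_iff.mp (hcore' ▸ Subgroup.normal_le_normalCore.mpr hle))

theorem exists_inf_ne_bot (P : Sylow p G) (hcore : Cfsg.pPrimeCore p G = ⊥) (N : Subgroup G) [N.Normal]
    {S : Subgroup G} (hS : IsMinIn N S) : (P : Subgroup G) ⊓ S ≠ ⊥ := by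
  intro h
  obtain ⟨Q, hQ⟩ := PGroups.exists_sylow_eq_inf P N
  haveI hn : (S.subgroupOf N).Normal :=
    ⟨fun x hx n => Subgroup.mem_subgroupOf.mpr (by
      simpa using hS.2.2.1 n n.2 x (Subgroup.mem_subgroupOf.mp hx))⟩
  have h1 := PGroups.not_dvd_relIndex_inf Q (S.subgroupOf N)
  have h2 : (Q : Subgroup N) ⊓ S.subgroupOf N = ⊥ := by
    rw [eq_bot_iff]
    intro x hx
    rw [hQ] at hx
    have : (x : G) ∈ (P : Subgroup G) ⊓ S := ⟨hx.1.1, hx.2⟩
    rw [h, Subgroup.mem_bot] at this
    exact Subgroup.mem_bot.mpr (Subtype.ext this)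
  rw [h2, Subgroup.relIndex_bot_left, Nat.card_congr (Subgroup.subgroupOfEquivOfLe hS.1).toEquiv] at h1
  exact hS.2.1 (eq_bot_of_coprime hcore N hS.1 hn h1)

/-- The Sylow part of `N` splits along a minimal normal subgroup `S` of `N`. -/
theorem inf_le_sup_inf (P : Sylow p G) (N : Subgroup G) [N.Normal] {S R : Subgroup G}
    (hS : IsMinIn N S) (hRN : R ≤ N) (hRn : ∀ n ∈ N, ∀ x ∈ R, n * x * n⁻¹ ∈ R) (hSR : S ⊓ R = ⊥)
    (htop : N ≤ S ⊔ R) :
    (P : Subgroup G) ⊓ N ≤ ((P : Subgroup G) ⊓ S) ⊔ ((P : Subgroup G) ⊓ R) := by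
  obtain ⟨Q, hQ⟩ := PGroups.exists_sylow_eq_inf P N
  set S' := S.subgroupOf N
  set R' := R.subgroupOf N
  haveI : S'.Normal := ⟨fun x hx n => Subgroup.mem_subgroupOf.mpr (by
    simpa using hS.2.2.1 n n.2 x (Subgroup.mem_subgroupOf.mp hx))⟩
  haveI : R'.Normal := ⟨fun x hx n => Subgroup.mem_subgroupOf.mpr (by
    simpa using hRn n n.2 x (Subgroup.mem_subgroupOf.mp hx))⟩
  have hdisj : S' ⊓ R' = ⊥ := by
    show Subgroup.comap _ _ ⊓ Subgroup.comap _ _ = _
    rw [← Subgroup.comap_inf, hSR, MonoidHom.comap_bot,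
      (MonoidHom.ker_eq_bot_iff _).mpr N.subtype_injective]
  set W := ((Q : Subgroup N) ⊔ R') ⊓ S' with hW
  have hWp : IsPGroup p W := by
    refine IsPGroup.of_injective ((Q.isPGroup').map (QuotientGroup.mk' R'))
      (((QuotientGroup.mk' R').comp W.subtype).codRestrict _ fun w => ?_) ?_
    · obtain ⟨q, hq, r, hr, e⟩ : ∃ q ∈ (Q : Subgroup N), ∃ r ∈ R', q * r = (w : N) :=
        Set.mem_mul.mp (by rw [← Subgroup.mul_normal]; exact w.2.1)
      refine ⟨q, hq, ?_⟩
      show QuotientGroup.mk q = QuotientGroup.mk (w : N)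
      rw [QuotientGroup.eq, ← e, inv_mul_cancel_left]
      exact hr
    · rw [injective_iff_map_eq_one]
      intro w hw
      have h1 : (QuotientGroup.mk (w : N) : N ⧸ R') = 1 := congrArg Subtype.val hw
      have h2 : (w : N) ∈ S' ⊓ R' := ⟨w.2.2, (QuotientGroup.eq_one_iff _).mp h1⟩
      rw [hdisj, Subgroup.mem_bot] at h2
      exact Subtype.ext h2
  have hWQ : W ≤ (Q : Subgroup N) := by
    have hle : (Q : Subgroup N) ⊓ S' ≤ W := le_inf (inf_le_left.trans le_sup_left) inf_le_right
    have h1 : ((Q : Subgroup N) ⊓ S').relIndex W = 1 := by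
      obtain ⟨k, hk⟩ := IsPGroup.iff_card.mp hWp
      have hd : ((Q : Subgroup N) ⊓ S').relIndex W ∣ p ^ k := hk ▸ Subgroup.index_dvd_card _
      obtain ⟨j, -, hj⟩ := (Nat.dvd_prime_pow hp.out).mp hd
      rcases Nat.eq_zero_or_pos j with rfl | hj0
      · rw [hj, pow_zero]
      · exfalso
        refine PGroups.not_dvd_relIndex_inf Q S' ?_
        rw [← Subgroup.relIndex_mul_relIndex _ W S' hle inf_le_right, hj]
        exact dvd_mul_of_dvd_left (dvd_pow_self p hj0.ne') _
    exact (Subgroup.relIndex_eq_one.mp h1).trans inf_le_left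
  intro x hx
  obtain ⟨xN, hxN⟩ : ∃ xN : N, (xN : G) = x := ⟨⟨x, hx.2⟩, rfl⟩
  have hxQ : xN ∈ (Q : Subgroup N) := by
    rw [hQ, Subgroup.mem_subgroupOf, hxN]; exact hx
  obtain ⟨s, hs, r, hr, e⟩ : ∃ s ∈ S', ∃ r ∈ R', s * r = xN := by
    refine Set.mem_mul.mp ?_
    rw [← Subgroup.mul_normal, ← Subgroup.subgroupOf_sup hS.1 hRN]
    exact Subgroup.mem_subgroupOf.mpr (htop xN.2)
  have hsQ : s ∈ (Q : Subgroup N) := hWQ ⟨by
    rw [show s = xN * r⁻¹ by rw [← e]; group]
    exact Subgroup.mul_mem _ (Subgroup.mem_sup_left hxQ) (Subgroup.mem_sup_right (R'.inv_mem hr)), hs⟩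
  have hrQ : r ∈ (Q : Subgroup N) := by
    rw [show r = s⁻¹ * xN by rw [← e]; group]
    exact Subgroup.mul_mem _ (Subgroup.inv_mem _ hsQ) hxQ
  rw [hQ] at hsQ hrQ
  rw [← hxN, ← e]
  exact Subgroup.mul_mem _ (Subgroup.mem_sup_left ⟨hsQ.1, hs⟩) (Subgroup.mem_sup_right ⟨hrQ.1, hr⟩)

theorem exists_abelian_index (P : Sylow p G) (hcore : Cfsg.pPrimeCore p G = ⊥)
    (hcore' : (⁅(P : Subgroup G), (P : Subgroup G)⁆).normalCore = ⊥)
    (hnas : ¬ ∃ S : Subgroup G, S.Normal ∧ IsSimpleGroup S ∧ ¬ IsMulCommutative S ∧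
      Subgroup.centralizer (S : Set G) = ⊥)
    (hD : (commutator (P : Subgroup G)).index = p ^ 2)
    (hnab : ∃ a b : (P : Subgroup G), a * b ≠ b * a) :
    ∃ N : Subgroup G, N.Normal ∧ (N.subgroupOf (P : Subgroup G)).index = p ∧
      ∀ a ∈ N.subgroupOf (P : Subgroup G), ∀ b ∈ N.subgroupOf (P : Subgroup G), a * b = b * a := by
  classical
  have hPp : IsPGroup p (P : Subgroup G) := P.isPGroup'
  haveI : Group.IsNilpotent (P : Subgroup G) := hPp.isNilpotent
  obtain ⟨a₀, b₀, hab₀⟩ := hnab
  haveI : Nontrivial G := ⟨⟨(a₀ : G), 1, fun e => hab₀ (by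
    rw [show a₀ = 1 from Subtype.ext e, one_mul, mul_one])⟩⟩
  obtain ⟨N, ⟨hNn, hN0⟩, hNmin'⟩ := exists_minimal_of_wellFoundedLT
    (fun N : Subgroup G => N.Normal ∧ N ≠ ⊥) ⟨⊤, inferInstance, top_ne_bot⟩
  haveI := hNn
  have hNmin : ∀ M : Subgroup G, M.Normal → M ≤ N → M = ⊥ ∨ M = N := fun M hM hMN => by
    by_cases h : M = ⊥
    · exact Or.inl h
    · exact Or.inr (le_antisymm hMN (hNmin' ⟨hM, h⟩ hMN))
  have hmapD : (commutator (P : Subgroup G)).map (P : Subgroup G).subtype =
      ⁅(P : Subgroup G), (P : Subgroup G)⁆ := by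
    rw [commutator_def, Subgroup.map_commutator, ← MonoidHom.range_eq_map, Subgroup.range_subtype]
  -- the dichotomy for a normal subgroup not meeting the Sylow subgroup in its derived subgroup
  have hdich : ∀ M : Subgroup G, M.Normal → M ≠ ⊥ →
      (M.subgroupOf (P : Subgroup G) = ⊤ ∨ (M.subgroupOf (P : Subgroup G)).index = p) := by
    intro M hM hM0
    haveI := hM
    set A := M.subgroupOf (P : Subgroup G)
    set D := commutator (P : Subgroup G)
    haveI : D.Normal := Subgroup.commutator_normal _ _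
    have h1 := Subgroup.relIndex_mul_index (le_sup_right : D ≤ A ⊔ D)
    rw [hD] at h1
    obtain ⟨j, hj2, hj⟩ := (Nat.dvd_prime_pow hp.out).mp ⟨_, h1.symm.trans (mul_comm _ _)⟩
    have hne : (A ⊔ D).index ≠ p ^ 2 := by
      intro e
      rw [e] at h1
      have h2 : D.relIndex (A ⊔ D) = 1 :=
        Nat.eq_of_mul_eq_mul_right (pow_pos hp.out.pos 2) (h1.trans (one_mul _).symm)
      refine not_le_commutator P hcore hcore' M hM0 fun x hx => ?_
      rw [← hmapD]
      exact ⟨⟨x, hx.1⟩, Subgroup.relIndex_eq_one.mp h2 (Subgroup.mem_sup_left hx.2), rfl⟩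
    interval_cases j
    · exact Or.inl (eq_top_of_sup_commutator hPp A (Subgroup.index_eq_one.mp (by simpa using hj)))
    · right
      rw [pow_one] at hj
      have hDA : D ≤ A := by
        haveI : A.Normal := inferInstance
        haveI : IsCyclic ((P : Subgroup G) ⧸ A) := by
          obtain ⟨y, hy⟩ : ∃ y, y ∉ A ⊔ D := by
            by_contra hc
            push Not at hc
            rw [show A ⊔ D = ⊤ from eq_top_iff.mpr fun x _ => hc x, Subgroup.index_top] at hj
            exact hp.out.one_lt.ne hj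
          have htop : Subgroup.zpowers y ⊔ A = ⊤ := by
            refine eq_top_of_sup_commutator hPp _ ?_
            rw [sup_assoc]
            have h2 := Subgroup.relIndex_mul_index (le_sup_right : A ⊔ D ≤ Subgroup.zpowers y ⊔ (A ⊔ D))
            rw [hj] at h2
            rcases (Nat.dvd_prime hp.out).mp ⟨_, h2.symm.trans (mul_comm _ _)⟩ with h | h
            · exact Subgroup.index_eq_one.mp h
            · exfalso
              rw [h] at h2
              exact hy (Subgroup.relIndex_eq_one.mp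
                (Nat.eq_of_mul_eq_mul_right hp.out.pos (h2.trans (one_mul p).symm))
                (Subgroup.mem_sup_left (Subgroup.mem_zpowers y)))
          refine isCyclic_iff_exists_zpowers_eq_top.mpr ⟨QuotientGroup.mk' A y, ?_⟩
          rw [← MonoidHom.map_zpowers, ← Subgroup.map_top_of_surjective (QuotientGroup.mk' A)
            (QuotientGroup.mk'_surjective A), ← htop, Subgroup.map_sup,
            (Subgroup.map_eq_bot_iff _).mpr (QuotientGroup.ker_mk' A).ge, sup_bot_eq]
        show commutator (P : Subgroup G) ≤ A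
        rw [commutator_def, Subgroup.commutator_le]
        intro a _ b _
        rw [← QuotientGroup.eq_one_iff]
        show QuotientGroup.mk' A ⁅a, b⁆ = 1
        rw [map_commutatorElement, commutatorElement_eq_one_iff_mul_comm]
        exact mul_comm' _ _
      rwa [sup_eq_left.mpr hDA] at hj
    · exact absurd hj hne
  have hcomm_of_le : ∀ {K : Subgroup G}, (∀ a ∈ K, ∀ b ∈ K, a * b = b * a) →
      ∀ a ∈ K.subgroupOf (P : Subgroup G), ∀ b ∈ K.subgroupOf (P : Subgroup G), a * b = b * a :=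
    fun h a ha b hb => Subtype.ext (h a ha b hb)
  by_cases hNab : ∀ a ∈ N, ∀ b ∈ N, a * b = b * a
  · rcases hdich N hNn hN0 with h | h
    · exact absurd (hcomm_of_le hNab a₀ (h ▸ Subgroup.mem_top _) b₀ (h ▸ Subgroup.mem_top _)) hab₀
    · exact ⟨N, hNn, h, hcomm_of_le hNab⟩
  by_cases hC : Subgroup.centralizer (N : Set G) = ⊥
  swap
  · -- a second minimal normal subgroup
    exfalso
    set C := Subgroup.centralizer (N : Set G) with hCdef
    haveI : C.Normal := Subgroup.normal_centralizer (H := N)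
    have hNC : N ⊓ C = ⊥ := by
      rcases hNmin (N ⊓ C) inferInstance inf_le_left with h | h
      · exact h
      · exact absurd (fun a ha b hb => ((Subgroup.mem_centralizer_iff.mp (inf_eq_left.mp h ha)) b hb).symm) hNab
    set A := N.subgroupOf (P : Subgroup G)
    set B := C.subgroupOf (P : Subgroup G)
    haveI : A.Normal := inferInstance
    haveI : B.Normal := inferInstance
    have hAB : A ⊓ B = ⊥ := by
      show Subgroup.comap _ _ ⊓ Subgroup.comap _ _ = _
      rw [← Subgroup.comap_inf, hNC, MonoidHom.comap_bot,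
        (MonoidHom.ker_eq_bot_iff _).mpr (P : Subgroup G).subtype_injective]
    have hmul := Subgroup.relIndex_mul_index (bot_le : (⊥ : Subgroup (P : Subgroup G)) ≤ A)
    have hsmall : ∀ X Y : Subgroup (P : Subgroup G), Y.Normal → X ⊓ Y = ⊥ → Y.index = p →
        Nat.card X ∣ p := fun X Y hY h hi => by
      haveI := hY
      have := Subgroup.relIndex_dvd_index_of_normal Y X
      rwa [← Subgroup.inf_relIndex_left, h, Subgroup.relIndex_bot_left, hi] at this
    have hne : ∀ X : Subgroup G, X.Normal → X ≠ ⊥ → X.subgroupOf (P : Subgroup G) ≠ ⊥ := fun X hX hX0 h => by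
      rcases hdich X hX hX0 with h' | h'
      · haveI : Nontrivial (P : Subgroup G) := ⟨a₀, b₀, fun e => hab₀ (by rw [e])⟩
        exact top_ne_bot (h'.symm.trans h)
      · rw [h, Subgroup.index_bot] at h'
        rw [Subgroup.index_eq_one.mpr] at hD
        · exact (Nat.one_lt_pow two_ne_zero hp.out.one_lt).ne hD
        · haveI : IsCyclic (P : Subgroup G) := isCyclic_of_prime_card h'
          exact absurd (mul_comm' a₀ b₀) hab₀
    have hA0 := hne N hNn hN0
    have hB0 := hne C inferInstance hC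
    have hAt : A.index = p := by
      rcases hdich N hNn hN0 with h | h
      · have h' : A = ⊤ := h
        exact absurd (by rwa [h', top_inf_eq] at hAB) hB0
      · exact h
    have hBt : B.index = p := by
      rcases hdich C inferInstance hC with h | h
      · have h' : B = ⊤ := h
        exact absurd (by rwa [h', inf_top_eq] at hAB) hA0
      · exact h
    have hcA := hsmall A B inferInstance hAB hBt
    have hcB := hsmall B A inferInstance (inf_comm A B ▸ hAB) hAt
    have htop : A ⊔ B = ⊤ := by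
      have h2 := Subgroup.relIndex_mul_index (le_sup_left : A ≤ A ⊔ B)
      rw [hAt] at h2
      rcases (Nat.dvd_prime hp.out).mp ⟨_, h2.symm.trans (mul_comm _ _)⟩ with h | h
      · exact Subgroup.index_eq_one.mp h
      · exfalso
        rw [h] at h2
        have h3 : A.relIndex (A ⊔ B) = 1 := Nat.eq_of_mul_eq_mul_right hp.out.pos (h2.trans (one_mul p).symm)
        exact hB0 (le_bot_iff.mp (hAB ▸ le_inf (le_sup_right.trans (Subgroup.relIndex_eq_one.mp h3)) le_rfl))
    have hcy : ∀ X : Subgroup (P : Subgroup G), Nat.card X ∣ p → ∀ a ∈ X, ∀ b ∈ X, a * b = b * a := by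
      intro X hX a ha b hb
      haveI : IsCyclic X := by
        rcases (Nat.dvd_prime hp.out).mp hX with h | h
        · haveI : Subsingleton X := (Nat.card_eq_one_iff_unique.mp h).1
          infer_instance
        · exact isCyclic_of_prime_card h
      exact congrArg Subtype.val (mul_comm' (⟨a, ha⟩ : X) ⟨b, hb⟩)
    have hcen : A ⊔ B ≤ Subgroup.center (P : Subgroup G) := by
      have hAB' : ∀ a ∈ A, ∀ b ∈ B, a * b = b * a := fun a ha b hb =>
        Subtype.ext ((Subgroup.mem_centralizer_iff.mp hb) (a : G) ha)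
      refine sup_le (fun a ha => ?_) (fun b hb => ?_) <;> rw [Subgroup.mem_center_iff] <;> intro g
      · have hle : A ⊔ B ≤ Subgroup.centralizer ({a} : Set (P : Subgroup G)) := sup_le
          (fun c hc => Subgroup.mem_centralizer_singleton_iff.mpr (hcy A hcA c hc a ha))
          (fun c hc => Subgroup.mem_centralizer_singleton_iff.mpr (hAB' a ha c hc).symm)
        exact Subgroup.mem_centralizer_singleton_iff.mp (hle (htop ▸ Subgroup.mem_top g))
      · have hle : A ⊔ B ≤ Subgroup.centralizer ({b} : Set (P : Subgroup G)) := sup_le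
          (fun c hc => Subgroup.mem_centralizer_singleton_iff.mpr (hAB' c hc b hb))
          (fun c hc => Subgroup.mem_centralizer_singleton_iff.mpr (hcy B hcB c hc b hb))
        exact Subgroup.mem_centralizer_singleton_iff.mp (hle (htop ▸ Subgroup.mem_top g))
    exact hab₀ ((Subgroup.mem_center_iff.mp (hcen (htop ▸ Subgroup.mem_top b₀))) a₀)
  -- the centralizer of `N` is trivial
  obtain ⟨S₀, ⟨hS₀N, hS₀1, hS₀n⟩, hS₀m⟩ := exists_minimal_of_wellFoundedLT
    (fun S : Subgroup G => S ≤ N ∧ S ≠ ⊥ ∧ ∀ n ∈ N, ∀ s ∈ S, n * s * n⁻¹ ∈ S)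
    ⟨N, le_rfl, hN0, fun n hn s hs => N.mul_mem (N.mul_mem hn hs) (N.inv_mem hn)⟩
  have hS₀ : IsMinIn N S₀ := ⟨hS₀N, hS₀1, hS₀n, fun T hT hTn => by
    by_cases h : T = ⊥
    · exact Or.inl h
    · exact Or.inr (le_antisymm hT (hS₀m ⟨hT.trans hS₀N, h, hTn⟩ hT))⟩
  have hgenN : ∀ S : Subgroup G, IsMinIn N S → Subgroup.normalClosure (S : Set G) = N := by
    intro S hS
    rcases hNmin (Subgroup.normalClosure (S : Set G)) inferInstance
      (Subgroup.normalClosure_le_normal hS.1) with h | h
    · exact absurd (le_bot_iff.mp (h ▸ Subgroup.le_normalClosure)) hS.2.1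
    · exact h
  have hgenle : ∀ S K : Subgroup G, IsMinIn N S →
      (∀ T : Subgroup G, IsMinIn N T → T ≤ K) → N ≤ K := by
    intro S K hS hK
    rw [← hgenN S hS]
    refine (Subgroup.closure_le _).mpr fun x hx => ?_
    obtain ⟨s, hs, hsx⟩ := Group.mem_conjugatesOfSet_iff.mp hx
    obtain ⟨g, rfl⟩ := isConj_iff.mp hsx
    exact hK _ (hS.conj g) ⟨s, hs, rfl⟩
  have hSR : ∀ S : Subgroup G, IsMinIn N S →
      (∀ n ∈ N, ∀ x ∈ N ⊓ Subgroup.centralizer (S : Set G), n * x * n⁻¹ ∈ N ⊓ Subgroup.centralizer (S : Set G)) ∧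
      S ⊓ (N ⊓ Subgroup.centralizer (S : Set G)) = ⊥ ∧ N ≤ S ⊔ (N ⊓ Subgroup.centralizer (S : Set G)) := by
    intro S hS
    have hRn : ∀ n ∈ N, ∀ x ∈ N ⊓ Subgroup.centralizer (S : Set G),
        n * x * n⁻¹ ∈ N ⊓ Subgroup.centralizer (S : Set G) := by
      intro n hn x hx
      refine ⟨N.mul_mem (N.mul_mem hn hx.1) (N.inv_mem hn), Subgroup.mem_centralizer_iff.mpr fun s hs => ?_⟩
      have h1 := Subgroup.mem_centralizer_iff.mp hx.2 (n⁻¹ * s * n) (by
        simpa using hS.2.2.1 n⁻¹ (N.inv_mem hn) s hs)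
      calc s * (n * x * n⁻¹) = n * ((n⁻¹ * s * n) * x) * n⁻¹ := by group
        _ = n * (x * (n⁻¹ * s * n)) * n⁻¹ := by rw [h1]
        _ = _ := by group
    refine ⟨hRn, ?_, hgenle S _ hS fun T hT => ?_⟩
    · rcases hS.2.2.2 (S ⊓ (N ⊓ Subgroup.centralizer (S : Set G))) inf_le_left
        (fun n hn x hx => ⟨hS.2.2.1 n hn x hx.1, hRn n hn x hx.2⟩) with h | h
      · exact h
      · exfalso
        refine hS.2.1 (le_bot_iff.mp (hC ▸ ?_))
        intro s hs
        have hle : N ≤ Subgroup.centralizer ({s} : Set G) := hgenle S _ hS fun T hT t ht => by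
          rw [Subgroup.mem_centralizer_singleton_iff]
          rcases hS.eq_or_comm hT with rfl | hcm
          · exact Subgroup.mem_centralizer_iff.mp (inf_eq_left.mp h hs).2 t ht
          · exact (Subgroup.mem_centralizer_iff.mp (hcm ht) s hs).symm
        exact Subgroup.mem_centralizer_iff.mpr fun n hn => Subgroup.mem_centralizer_singleton_iff.mp (hle hn)
    · rcases hS.eq_or_comm hT with rfl | h
      · exact le_sup_left
      · exact le_sup_of_le_right (le_inf hT.1 h)
  have hR0 : ∀ S : Subgroup G, IsMinIn N S → N ⊓ Subgroup.centralizer (S : Set G) ≠ ⊥ := by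
    intro S hS h
    have h1 := (hSR S hS).2.2
    rw [h, sup_bot_eq] at h1
    obtain rfl : S = N := le_antisymm hS.1 h1
    refine hnas ⟨S, hNn, ?_, fun hc => hNab fun a ha b hb => congrArg Subtype.val (hc.is_comm.comm (⟨a, ha⟩ : S) ⟨b, hb⟩), hC⟩
    haveI : Nontrivial S := (Subgroup.nontrivial_iff_ne_bot S).mpr hS.2.1
    refine ⟨fun K hK => ?_⟩
    rcases hS.2.2.2 (K.map S.subtype) (Subgroup.map_subtype_le K) (by
      rintro n hn _ ⟨k, hk, rfl⟩
      exact ⟨⟨n, hn⟩ * k * ⟨n, hn⟩⁻¹, hK.conj_mem k hk _, rfl⟩) with h | h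
    · exact Or.inl ((Subgroup.map_eq_bot_iff_of_injective _ S.subtype_injective).mp h)
    · refine Or.inr (Subgroup.map_injective S.subtype_injective ?_)
      rw [h, ← MonoidHom.range_eq_map, Subgroup.range_subtype]
  set A := N.subgroupOf (P : Subgroup G) with hAdef
  haveI hAn : A.Normal := inferInstance
  have hindex : A = ⊤ ∨ A.index = p := hdich N hNn hN0
  -- the analysis along a minimal normal subgroup of `N`
  have hkey : ∀ S : Subgroup G, IsMinIn N S → A.index = p ∧
      ∀ a ∈ A, ∀ b ∈ A, (⁅a, b⁆ : (P : Subgroup G)).1 ∈ Subgroup.centralizer (S : Set G) := by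
    intro S hS
    obtain ⟨hRn, hdisj, htop⟩ := hSR S hS
    set R := N ⊓ Subgroup.centralizer (S : Set G) with hR
    set B := S.subgroupOf (P : Subgroup G) with hB
    set E := R.subgroupOf (P : Subgroup G) with hE
    have hBE : B ⊓ E = ⊥ := by
      show Subgroup.comap _ _ ⊓ Subgroup.comap _ _ = _
      rw [← Subgroup.comap_inf, hdisj, MonoidHom.comap_bot,
        (MonoidHom.ker_eq_bot_iff _).mpr (P : Subgroup G).subtype_injective]
    have hA : A = B ⊔ E := by
      refine le_antisymm (fun x hx => ?_) (sup_le (fun x hx => hS.1 hx) fun x hx => hx.1)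
      have h1 := inf_le_sup_inf P N hS inf_le_left hRn hdisj htop (x := (x : G)) ⟨x.2, hx⟩
      have h2 : ((P : Subgroup G) ⊓ S) ⊔ ((P : Subgroup G) ⊓ R) ≤ (B ⊔ E).map (P : Subgroup G).subtype := by
        rw [Subgroup.map_sup]
        refine sup_le_sup ?_ ?_ <;> intro y hy <;> exact ⟨⟨y, hy.1⟩, hy.2, rfl⟩
      obtain ⟨y, hy, e⟩ := h2 h1
      rwa [← Subtype.ext e]
    have hBne : B ≠ ⊥ := fun h => exists_inf_ne_bot P hcore N hS (le_bot_iff.mp fun x hx => by
      have : (⟨x, hx.1⟩ : (P : Subgroup G)) ∈ B := hx.2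
      rw [h, Subgroup.mem_bot] at this
      exact Subgroup.mem_bot.mpr (congrArg Subtype.val this))
    have hEne : E ≠ ⊥ := by
      obtain ⟨T, ⟨hTR, hT1, hTn⟩, hTm⟩ := exists_minimal_of_wellFoundedLT
        (fun T : Subgroup G => T ≤ R ∧ T ≠ ⊥ ∧ ∀ n ∈ N, ∀ s ∈ T, n * s * n⁻¹ ∈ T)
        ⟨R, le_rfl, hR0 S hS, hRn⟩
      have hT : IsMinIn N T := ⟨hTR.trans inf_le_left, hT1, hTn, fun T' hT' hT'n => by
        by_cases h : T' = ⊥
        · exact Or.inl h
        · exact Or.inr (le_antisymm hT' (hTm ⟨hT'.trans hTR, h, hT'n⟩ hT'))⟩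
      intro h
      refine exists_inf_ne_bot P hcore N hT (le_bot_iff.mp fun x hx => ?_)
      have : (⟨x, hx.1⟩ : (P : Subgroup G)) ∈ E := hTR hx.2
      rw [h, Subgroup.mem_bot] at this
      exact Subgroup.mem_bot.mpr (congrArg Subtype.val this)
    have hBEc : ∀ b ∈ B, ∀ e ∈ E, b * e = e * b := fun b hb e he =>
      Subtype.ext (Subgroup.mem_centralizer_iff.mp he.2 (b : G) hb)
    by_cases hnorm : ∀ x : (P : Subgroup G), ∀ s ∈ S, (x : G) * s * (x : G)⁻¹ ∈ S
    · exfalso
      haveI hBn : B.Normal := ⟨fun b hb x => hnorm x b hb⟩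
      haveI hEn : E.Normal := ⟨fun e he x => by
        refine ⟨Subgroup.Normal.conj_mem inferInstance _ he.1 (x : G), Subgroup.mem_centralizer_iff.mpr fun s hs => ?_⟩
        have h1 : (x : G)⁻¹ * s * x * (e : G) = (e : G) * ((x : G)⁻¹ * s * x) :=
          Subgroup.mem_centralizer_iff.mp he.2 ((x : G)⁻¹ * s * x) (by simpa using hnorm x⁻¹ s hs)
        show s * ((x : G) * e * (x : G)⁻¹) = (x : G) * e * (x : G)⁻¹ * s
        calc s * ((x : G) * e * (x : G)⁻¹) = (x : G) * (((x : G)⁻¹ * s * x) * e) * (x : G)⁻¹ := by group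
          _ = (x : G) * (e * ((x : G)⁻¹ * s * x)) * (x : G)⁻¹ := by rw [h1]
          _ = _ := by group⟩
      set B' := ⁅B, (⊤ : Subgroup (P : Subgroup G))⁆ with hB'
      set E' := ⁅E, (⊤ : Subgroup (P : Subgroup G))⁆ with hE'
      haveI : B'.Normal := Subgroup.commutator_normal _ _
      haveI : E'.Normal := Subgroup.commutator_normal _ _
      have hlt : ∀ X : Subgroup (P : Subgroup G), X.Normal → X ≠ ⊥ →
          ⁅X, (⊤ : Subgroup (P : Subgroup G))⁆ ≤ X ∧ p ∣ ⁅X, (⊤ : Subgroup (P : Subgroup G))⁆.relIndex X := by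
        intro X hX hX0
        haveI := hX
        set X' := ⁅X, (⊤ : Subgroup (P : Subgroup G))⁆
        have hle : X' ≤ X := Subgroup.commutator_le_left X ⊤
        refine ⟨hle, ?_⟩
        obtain ⟨k, hk⟩ := IsPGroup.iff_card.mp hPp
        obtain ⟨j, -, hj⟩ := (Nat.dvd_prime_pow hp.out).mp
          (hk ▸ (Subgroup.index_dvd_card _).trans (Subgroup.card_subgroup_dvd_card X) :
            X'.relIndex X ∣ p ^ k)
        rcases Nat.eq_zero_or_pos j with rfl | hj0
        · exfalso
          rw [pow_zero, Subgroup.relIndex_eq_one] at hj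
          have heq : X' = X := le_antisymm hle hj
          obtain ⟨c, hc⟩ := Group.IsNilpotent.nilpotent (G := (P : Subgroup G))
          have hin : ∀ i, X ≤ (⊤ : Subgroup (P : Subgroup G)).lowerCentralSeries i := by
            intro i
            induction i with
            | zero => simp
            | succ i ih => rw [Subgroup.lowerCentralSeries_succ, ← heq]; exact Subgroup.commutator_mono ih le_rfl
          have hb : (⊤ : Subgroup (P : Subgroup G)).lowerCentralSeries (Group.nilpotencyClass (P : Subgroup G)) = ⊥ :=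
            Subgroup.lowerCentralSeries_nilpotencyClass
          exact hX0 (le_bot_iff.mp (hb ▸ hin _))
        · rw [hj]; exact dvd_pow_self p hj0.ne'
      obtain ⟨hB'le, hB'p⟩ := hlt B hBn hBne
      obtain ⟨hE'le, hE'p⟩ := hlt E hEn hEne
      have hB'E' : B' ⊓ E' = ⊥ := le_bot_iff.mp (hBE ▸ inf_le_inf hB'le hE'le)
      have hsupA : Nat.card A = Nat.card B * Nat.card E := by
        rw [hA]; exact card_sup_of_inf_eq_bot B E hBE
      have hsup' := card_sup_of_inf_eq_bot B' E' hB'E'
      have hDle : commutator (P : Subgroup G) ≤ B' ⊔ E' := by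
        have hzA : ∀ a ∈ A, ∀ x : (P : Subgroup G), ⁅a, x⁆ ∈ B' ⊔ E' := by
          intro a ha x
          rw [hA] at ha
          have ha' : a ∈ ((B : Set (P : Subgroup G)) * (E : Set (P : Subgroup G))) := by
            rw [← Subgroup.mul_normal]; exact ha
          obtain ⟨b, hb, e, he, rfl⟩ := Set.mem_mul.mp ha'
          rw [show ⁅b * e, x⁆ = (b * ⁅e, x⁆ * b⁻¹) * ⁅b, x⁆ by simp only [commutatorElement_def]; group]
          exact Subgroup.mul_mem _ (Subgroup.mem_sup_right (Subgroup.Normal.conj_mem inferInstance _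
            (Subgroup.commutator_mem_commutator he (Subgroup.mem_top x)) b))
            (Subgroup.mem_sup_left (Subgroup.commutator_mem_commutator hb (Subgroup.mem_top x)))
        let π := QuotientGroup.mk' (B' ⊔ E')
        have hcenA : ∀ a ∈ A, ∀ x, π a * π x = π x * π a := fun a ha x => by
          rw [← commutatorElement_eq_one_iff_mul_comm, ← map_commutatorElement]
          exact (QuotientGroup.eq_one_iff _).mpr (hzA a ha x)
        rw [commutator_def, Subgroup.commutator_le]
        intro x _ z _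
        rw [← QuotientGroup.eq_one_iff]
        show π ⁅x, z⁆ = 1
        rw [map_commutatorElement, commutatorElement_eq_one_iff_mul_comm]
        rcases hindex with h | h
        · exact hcenA x (h ▸ Subgroup.mem_top x) z
        · by_cases hz : z ∈ A
          · exact (hcenA z hz x).symm
          · have hle : Subgroup.zpowers z ⊔ A ≤ (Subgroup.centralizer ({π z} : Set _)).comap π := sup_le
              (Subgroup.zpowers_le.mpr (by rw [Subgroup.mem_comap, Subgroup.mem_centralizer_singleton_iff]))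
              (fun a ha => by rw [Subgroup.mem_comap, Subgroup.mem_centralizer_singleton_iff]; exact hcenA a ha z)
            have htop : Subgroup.zpowers z ⊔ A = ⊤ := by
              have h2 := Subgroup.relIndex_mul_index (le_sup_right : A ≤ Subgroup.zpowers z ⊔ A)
              rw [h] at h2
              rcases (Nat.dvd_prime hp.out).mp ⟨_, h2.symm.trans (mul_comm _ _)⟩ with h' | h'
              · exact Subgroup.index_eq_one.mp h'
              · exfalso
                rw [h'] at h2
                exact hz (Subgroup.relIndex_eq_one.mp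
                  (Nat.eq_of_mul_eq_mul_right hp.out.pos (h2.trans (one_mul p).symm))
                  (Subgroup.mem_sup_left (Subgroup.mem_zpowers z)))
            exact Subgroup.mem_centralizer_singleton_iff.mp (hle (htop ▸ Subgroup.mem_top x))
      have hidx := Subgroup.index_dvd_of_le hDle
      rw [hD] at hidx
      have hBr : Nat.card B = Nat.card B' * B'.relIndex B := by
        rw [← Subgroup.relIndex_bot_left, ← Subgroup.relIndex_bot_left]
        exact (Subgroup.relIndex_mul_relIndex _ _ _ bot_le hB'le).symm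
      have hEr : Nat.card E = Nat.card E' * E'.relIndex E := by
        rw [← Subgroup.relIndex_bot_left, ← Subgroup.relIndex_bot_left]
        exact (Subgroup.relIndex_mul_relIndex _ _ _ bot_le hE'le).symm
      have hW : (B' ⊔ E').index = B'.relIndex B * E'.relIndex E * A.index := by
        have h1 := (B' ⊔ E').card_mul_index
        have h2 := A.card_mul_index
        rw [hsupA, hBr, hEr] at h2
        rw [hsup'] at h1
        refine Nat.eq_of_mul_eq_mul_left (mul_pos (Nat.card_pos (α := B')) (Nat.card_pos (α := E'))) ?_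
        rw [h1, ← h2]; ring
      rw [hW] at hidx
      rcases hindex with h | h
      · rw [h, Subgroup.index_top, mul_one] at hidx
        -- `P` is the product of two cyclic factors
        have hone : B'.relIndex B = p ∧ E'.relIndex E = p := by
          obtain ⟨u, hu⟩ := hB'p
          obtain ⟨v, hv⟩ := hE'p
          rw [hu, hv, show p * u * (p * v) = p ^ 2 * (u * v) by ring] at hidx
          have huv : u * v = 1 :=
            Nat.eq_one_of_mul_eq_one_right (m := u * v) (n := 1) (by
              have := Nat.le_of_dvd (pow_pos hp.out.pos 2) hidx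
              rw [mul_one]
              rcases Nat.eq_zero_or_pos (u * v) with h0 | h0
              · rw [h0, mul_zero] at hidx
                exact absurd (Nat.eq_zero_of_zero_dvd hidx) (pow_pos hp.out.pos 2).ne'
              · nlinarith [pow_pos hp.out.pos 2])
          rw [hu, hv, Nat.eq_one_of_mul_eq_one_right huv, Nat.eq_one_of_mul_eq_one_left huv, mul_one]
          exact ⟨rfl, rfl⟩
        have htopBE : B ⊔ E = ⊤ := hA ▸ h
        have hcom : ∀ X : Subgroup (P : Subgroup G), (⊤ : Subgroup (P : Subgroup G)) ≤ X ⊔ Subgroup.centralizer (X : Set (P : Subgroup G)) →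
            X.Normal → ⁅X, (⊤ : Subgroup (P : Subgroup G))⁆.relIndex X = p → ∀ a ∈ X, ∀ b ∈ X, a * b = b * a := by
          intro X hX hXn hXi a ha b hb
          haveI := hXn
          have hle : ⁅X, (⊤ : Subgroup (P : Subgroup G))⁆ ≤ (commutator X).map X.subtype := by
            rw [commutator_def, Subgroup.map_commutator, ← MonoidHom.range_eq_map, Subgroup.range_subtype,
              Subgroup.commutator_le]
            intro c hc t _
            have ht : t ∈ (X : Set (P : Subgroup G)) * (Subgroup.centralizer (X : Set (P : Subgroup G)) : Set (P : Subgroup G)) := by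
              rw [← Subgroup.normal_mul]; exact hX (Subgroup.mem_top t)
            obtain ⟨d, hd, e, he, rfl⟩ := Set.mem_mul.mp ht
            have hce : Commute c e := Subgroup.mem_centralizer_iff.mp he c hc
            rw [show ⁅c, d * e⁆ = ⁅c, d⁆ by
              simp only [commutatorElement_def, mul_inv_rev, mul_assoc]
              rw [← mul_assoc e c⁻¹, ← hce.inv_left.eq, mul_assoc c⁻¹ e, mul_inv_cancel_left]]
            exact Subgroup.commutator_mem_commutator hc hd
          have hsub := comm_of_index_lt (hPp.to_subgroup X) (by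
            have hd : (commutator X).index ∣ ⁅X, (⊤ : Subgroup (P : Subgroup G))⁆.relIndex X := by
              refine Subgroup.index_dvd_of_le ?_
              intro z hz
              obtain ⟨z', hz', e⟩ := hle hz
              rwa [← X.subtype_injective e]
            rw [hXi] at hd
            exact (Nat.le_of_dvd hp.out.pos hd).trans_lt (lt_self_pow₀ hp.out.one_lt one_lt_two)) ⟨a, ha⟩ ⟨b, hb⟩
          exact congrArg Subtype.val hsub
        have hBc := hcom B (htopBE ▸ sup_le_sup_left (fun e he => Subgroup.mem_centralizer_iff.mpr fun b hb => hBEc b hb e he) B) hBn hone.1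
        have hEc := hcom E (htopBE ▸ sup_comm B E ▸ sup_le_sup_left (fun b hb => Subgroup.mem_centralizer_iff.mpr fun e he => (hBEc b hb e he).symm) E) hEn hone.2
        have hmem : ∀ a : (P : Subgroup G), a ∈ (B : Set (P : Subgroup G)) * (E : Set (P : Subgroup G)) := fun a => by
          rw [← Subgroup.mul_normal, htopBE]; exact Set.mem_univ a
        obtain ⟨b₁, hb₁, e₁, he₁, rfl⟩ := Set.mem_mul.mp (hmem a₀)
        obtain ⟨b₂, hb₂, e₂, he₂, rfl⟩ := Set.mem_mul.mp (hmem b₀)
        exact hab₀ (Commute.mul_left (Commute.mul_right (hBc _ hb₁ _ hb₂) (hBEc _ hb₁ _ he₂))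
          (Commute.mul_right (hBEc _ hb₂ _ he₁).symm (hEc _ he₁ _ he₂)))
      · rw [h] at hidx
        obtain ⟨u, hu⟩ := hB'p
        obtain ⟨v, hv⟩ := hE'p
        rw [hu, hv] at hidx
        have h3 : p ^ 2 * p ∣ p ^ 2 * 1 := by
          rw [mul_one]
          exact (Dvd.intro (u * v) (by ring)).trans hidx
        exact hp.out.not_dvd_one (Nat.dvd_of_mul_dvd_mul_left (pow_pos hp.out.pos 2) h3)
    -- `P` moves `S`
    push Not at hnorm
    obtain ⟨y, s₁, hs₁, hys⟩ := hnorm
    have hSnorm : ∀ x ∈ A, ∀ s ∈ S, (x : G) * s * (x : G)⁻¹ ∈ S := fun x hx => hS.2.2.1 x hx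
    have hyA : y ∉ A := fun h => hys (hSnorm y h s₁ hs₁)
    have hAi : A.index = p := by
      rcases hindex with h | h
      · exact absurd (h ▸ Subgroup.mem_top y) hyA
      · exact h
    refine ⟨hAi, ?_⟩
    have hyp : y ^ p ∈ A := by
      have := Subgroup.pow_index_mem A y
      rwa [hAi] at this
    have hnormy : ∀ i, 0 < i → i < p → ∀ x ∈ S, (y : G) ^ i * x * ((y : G) ^ i)⁻¹ ∈ R := by
      intro i hi0 hip x hx
      rcases hS.eq_or_comm (hS.conj ((y : G) ^ i)) with h | h
      · exfalso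
        have h1 : ((y ^ i : (P : Subgroup G)) : G) ∈ Subgroup.normalizer (S : Set G) := by
          refine Subgroup.mem_normalizer_fintype ?_
          intro s hs
          rw [h]
          exact ⟨s, hs, rfl⟩
        set M := (Subgroup.normalizer (S : Set G)).subgroupOf (P : Subgroup G)
        have h2 : y ^ p ∈ M := by
          show ((y ^ p : (P : Subgroup G)) : G) ∈ Subgroup.normalizer (S : Set G)
          refine Subgroup.mem_normalizer_fintype ?_
          exact fun s hs => hSnorm _ hyp s hs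
        have h3 : y ∈ M := by
          have hcop : Nat.gcd i p = 1 := Nat.coprime_of_lt_prime hi0.ne' hip hp.out |>.symm
          have e : y = (y ^ i) ^ Nat.gcdA i p * (y ^ p) ^ Nat.gcdB i p := by
            rw [← zpow_natCast y i, ← zpow_natCast y p, ← zpow_mul, ← zpow_mul, ← zpow_add,
              ← Nat.gcd_eq_gcd_ab, hcop, Nat.cast_one, zpow_one]
          rw [e]
          exact M.mul_mem (M.zpow_mem h1 _) (M.zpow_mem h2 _)
        exact hys ((Subgroup.mem_normalizer_iff.mp h3 s₁).1 hs₁)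
      · exact ⟨Subgroup.Normal.conj_mem inferInstance _ (hS.1 hx) _, h ⟨x, hx, rfl⟩⟩
    -- pass to `P / A'`
    set A' := ⁅A, A⁆ with hA'
    haveI : A'.Normal := Subgroup.commutator_normal A A
    let π := QuotientGroup.mk' A'
    have hπ : Function.Surjective π := QuotientGroup.mk'_surjective A'
    have hA'A : A' ≤ A := Subgroup.commutator_le_left A A
    haveI : (A.map π).Normal := Subgroup.Normal.map inferInstance π hπ
    have hAab : ∀ a ∈ A.map π, ∀ b ∈ A.map π, a * b = b * a := by
      rintro _ ⟨a, ha, rfl⟩ _ ⟨b, hb, rfl⟩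
      rw [← commutatorElement_eq_one_iff_mul_comm, ← map_commutatorElement]
      exact (QuotientGroup.eq_one_iff _).mpr (Subgroup.commutator_mem_commutator ha hb)
    have hker : π.ker ≤ A := by rw [QuotientGroup.ker_mk']; exact hA'A
    have hAi' : (A.map π).index = p := by
      rw [Subgroup.index_map, sup_eq_left.mpr hker, MonoidHom.range_eq_top.mpr hπ, Subgroup.index_top, mul_one, hAi]
    have hD' : (commutator ((P : Subgroup G) ⧸ A')).index = p ^ 2 := by
      have hmap : commutator ((P : Subgroup G) ⧸ A') = (commutator (P : Subgroup G)).map π := by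
        rw [commutator_def, commutator_def, Subgroup.map_commutator, Subgroup.map_top_of_surjective π hπ]
      rw [hmap, Subgroup.index_map, MonoidHom.range_eq_top.mpr hπ, Subgroup.index_top, mul_one,
        sup_eq_left.mpr (show π.ker ≤ commutator (P : Subgroup G) by
          rw [QuotientGroup.ker_mk', hA', commutator_def]; exact Subgroup.commutator_mono le_top le_top), hD]
    have hyA' : π y ∉ A.map π := by
      rintro ⟨a, ha, e⟩
      have h1 : a⁻¹ * y ∈ A' := (QuotientGroup.eq).mp e
      exact hyA (by simpa using A.mul_mem ha (hA'A h1))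
    obtain ⟨hfixcard, -⟩ := card_centralizer_of_abelian (hPp.to_quotient A') (A.map π) hAab hAi' hD' hyA'
    -- the norm
    let Nr : ℕ → ↥(P : Subgroup G) → ↥(P : Subgroup G) := fun k b => k.rec 1 fun i t => t * (y ^ i * b * (y ^ i)⁻¹)
    have hNs : ∀ k b, Nr (k + 1) b = Nr k b * (y ^ k * b * (y ^ k)⁻¹) := fun k b => rfl
    have hNA : ∀ k, ∀ b ∈ B, Nr k b ∈ A := by
      intro k b hb
      induction k with
      | zero => exact A.one_mem
      | succ k ih => rw [hNs]; exact A.mul_mem ih (hAn.conj_mem b (hS.1 hb) _)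
    have hNE : ∀ k, k + 1 ≤ p → ∀ b ∈ B, b⁻¹ * Nr (k + 1) b ∈ E := by
      intro k hk b hb
      induction k with
      | zero => simp [hNs, Nr, Subgroup.one_mem]
      | succ k ih =>
        rw [hNs (k + 1), ← mul_assoc]
        refine E.mul_mem (ih (by omega)) ?_
        show ((y ^ (k + 1) * b * (y ^ (k + 1))⁻¹ : (P : Subgroup G)) : G) ∈ R
        simpa using hnormy (k + 1) (by omega) (by omega) _ hb
    have hNshift : ∀ k, ∀ b : (P : Subgroup G), y * Nr k b * y⁻¹ = b⁻¹ * Nr (k + 1) b := by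
      intro k b
      induction k with
      | zero => simp [Nr]
      | succ k ih =>
        rw [hNs k b, hNs (k + 1) b]
        calc y * (Nr k b * (y ^ k * b * (y ^ k)⁻¹)) * y⁻¹
            = (y * Nr k b * y⁻¹) * (y * (y ^ k * b * (y ^ k)⁻¹) * y⁻¹) := by group
          _ = (b⁻¹ * Nr (k + 1) b) * (y * (y ^ k * b * (y ^ k)⁻¹) * y⁻¹) := by rw [ih]
          _ = _ := by rw [pow_succ' y k]; group
    have hmemf : ∀ b : B, π (Nr p b) ∈ A.map π ⊓ Subgroup.centralizer ({π y} : Set _) := by
      intro b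
      have h1 : π (Nr p b) ∈ A.map π := ⟨_, hNA p b b.2, rfl⟩
      refine ⟨h1, Subgroup.mem_centralizer_singleton_iff.mpr ?_⟩
      have h2 : π (y * Nr p b * y⁻¹) = π (Nr p b) := by
        rw [hNshift, hNs]
        simp only [map_mul, map_inv]
        have hb : π b ∈ A.map π := ⟨_, hS.1 b.2, rfl⟩
        have hyp' : π (y ^ p) ∈ A.map π := ⟨_, hyp, rfl⟩
        rw [hAab _ hyp' _ hb, mul_inv_cancel_right, hAab _ h1 _ hb, inv_mul_cancel_left]
      rw [map_mul, map_mul, map_inv, mul_inv_eq_iff_eq_mul] at h2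
      exact h2.symm
    let f : B →* ↥(A.map π ⊓ Subgroup.centralizer ({π y} : Set _)) :=
      MonoidHom.mk' (fun b => ⟨π (Nr p b), hmemf b⟩) fun b c => Subtype.ext <| by
        show π (Nr p (b * c : B)) = π (Nr p b) * π (Nr p c)
        have : ∀ k, π (Nr k ((b : (P : Subgroup G)) * c)) = π (Nr k b) * π (Nr k c) := by
          intro k
          induction k with
          | zero => simp [Nr]
          | succ k ih =>
            rw [hNs, hNs, hNs, map_mul, ih, map_mul π (Nr k b), map_mul π (Nr k c)]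
            have e : y ^ k * ((b : (P : Subgroup G)) * c) * (y ^ k)⁻¹ =
                (y ^ k * b * (y ^ k)⁻¹) * (y ^ k * c * (y ^ k)⁻¹) := by group
            rw [e, map_mul]
            have hX : π (Nr k c) ∈ A.map π := ⟨_, hNA k c c.2, rfl⟩
            have hY : π (y ^ k * b * (y ^ k)⁻¹) ∈ A.map π := ⟨_, hAn.conj_mem _ (hS.1 b.2) _, rfl⟩
            rw [mul_assoc, ← mul_assoc (π (Nr k c)), hAab _ hX _ hY]
            group
        exact this p
    have hA'le : A' ≤ ⁅B, B⁆ ⊔ E := by
      rw [hA', Subgroup.commutator_le]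
      intro a ha c hc
      rw [hA] at ha hc
      have hBnE : B ≤ Subgroup.normalizer (E : Set (P : Subgroup G)) := fun b hb => by
        refine Subgroup.mem_normalizer_fintype ?_
        intro e he
        rwa [hBEc b hb e he, mul_inv_cancel_right]
      rw [← SetLike.mem_coe, Subgroup.coe_mul_of_left_le_normalizer_right B E hBnE] at ha hc
      obtain ⟨b₁, hb₁, e₁, he₁, rfl⟩ := Set.mem_mul.mp ha
      obtain ⟨b₂, hb₂, e₂, he₂, rfl⟩ := Set.mem_mul.mp hc
      have c1 : Commute e₁ b₂ := (hBEc b₂ hb₂ e₁ he₁).symm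
      have c2 : Commute b₁ e₂ := hBEc b₁ hb₁ e₂ he₂
      have c3 : Commute (e₁ * e₂ * e₁⁻¹) b₁ :=
        (hBEc b₁ hb₁ _ (E.mul_mem (E.mul_mem he₁ he₂) (E.inv_mem he₁))).symm
      have e : ⁅b₁ * e₁, b₂ * e₂⁆ = ⁅b₁, b₂⁆ * ⁅e₁, e₂⁆ := by
        simp only [commutatorElement_def]
        calc b₁ * e₁ * (b₂ * e₂) * (b₁ * e₁)⁻¹ * (b₂ * e₂)⁻¹
            = b₁ * (e₁ * b₂) * e₂ * e₁⁻¹ * b₁⁻¹ * e₂⁻¹ * b₂⁻¹ := by group
          _ = b₁ * (b₂ * e₁) * e₂ * e₁⁻¹ * b₁⁻¹ * e₂⁻¹ * b₂⁻¹ := by rw [c1.eq]
          _ = b₁ * b₂ * ((e₁ * e₂ * e₁⁻¹) * b₁⁻¹) * e₂⁻¹ * b₂⁻¹ := by group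
          _ = b₁ * b₂ * (b₁⁻¹ * (e₁ * e₂ * e₁⁻¹)) * e₂⁻¹ * b₂⁻¹ := by rw [c3.inv_right.eq]
          _ = b₁ * b₂ * b₁⁻¹ * ((e₁ * e₂ * e₁⁻¹ * e₂⁻¹) * b₂⁻¹) := by group
          _ = b₁ * b₂ * b₁⁻¹ * (b₂⁻¹ * (e₁ * e₂ * e₁⁻¹ * e₂⁻¹)) := by
            rw [(hBEc b₂⁻¹ (B.inv_mem hb₂) _ (E.mul_mem (E.mul_mem (E.mul_mem he₁ he₂) (E.inv_mem he₁)) (E.inv_mem he₂)))]
          _ = _ := by group
      rw [e]
      exact Subgroup.mul_mem _ (Subgroup.mem_sup_left (Subgroup.commutator_mem_commutator hb₁ hb₂))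
        (Subgroup.mem_sup_right (E.mul_mem (E.mul_mem (E.mul_mem he₁ he₂) (E.inv_mem he₁)) (E.inv_mem he₂)))
    have hBB : ⁅B, B⁆ ≤ B := Subgroup.commutator_le.mpr fun a ha b hb =>
      B.mul_mem (B.mul_mem (B.mul_mem ha hb) (B.inv_mem ha)) (B.inv_mem hb)
    have hkerf : f.ker ≤ commutator B := by
      intro b hb
      have h1 : Nr p b ∈ A' := (QuotientGroup.eq_one_iff _).mp (congrArg Subtype.val (MonoidHom.mem_ker.mp hb))
      have h2 := hNE (p - 1) (by have := hp.out.pos; omega) b b.2
      rw [show p - 1 + 1 = p by have := hp.out.pos; omega] at h2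
      have hBnE : ⁅B, B⁆ ≤ Subgroup.normalizer (E : Set (P : Subgroup G)) := fun c hc => by
        refine Subgroup.mem_normalizer_fintype ?_
        intro e he
        rwa [hBEc c (hBB hc) e he, mul_inv_cancel_right]
      have h3 := hA'le h1
      rw [← SetLike.mem_coe, Subgroup.coe_mul_of_left_le_normalizer_right ⁅B, B⁆ E hBnE] at h3
      obtain ⟨c, hc, e, he, hce⟩ := Set.mem_mul.mp h3
      have h4 : (b : (P : Subgroup G))⁻¹ * c ∈ B ⊓ E := by
        refine ⟨B.mul_mem (B.inv_mem b.2) (hBB hc), ?_⟩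
        rw [show (b : (P : Subgroup G))⁻¹ * c = ((b : (P : Subgroup G))⁻¹ * Nr p b) * e⁻¹ by rw [← hce]; group]
        exact E.mul_mem h2 (E.inv_mem he)
      rw [hBE, Subgroup.mem_bot, inv_mul_eq_one] at h4
      have h5 : (b : (P : Subgroup G)) ∈ (commutator B).map B.subtype := by
        rw [commutator_def, Subgroup.map_commutator, ← MonoidHom.range_eq_map, Subgroup.range_subtype, h4]
        exact hc
      obtain ⟨b', hb', eb⟩ := h5
      rwa [← B.subtype_injective eb]
    have hBcomm := comm_of_index_lt (hPp.to_subgroup B) (by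
      refine lt_of_le_of_lt (Nat.le_of_dvd ?_ (Subgroup.index_dvd_of_le hkerf)) ?_
      · exact Nat.pos_of_ne_zero Subgroup.index_ne_zero_of_finite
      · rw [Subgroup.index_ker]
        refine lt_of_le_of_lt (Subgroup.card_le_card_group _) ?_
        rw [hfixcard]
        exact lt_self_pow₀ hp.out.one_lt one_lt_two)
    intro a ha c hc
    have h1 : ⁅a, c⁆ ∈ ⁅B, B⁆ ⊔ E := hA'le (Subgroup.commutator_mem_commutator ha hc)
    have hBB0 : ⁅B, B⁆ = ⊥ := le_bot_iff.mp (Subgroup.commutator_le.mpr fun b₁ hb₁ b₂ hb₂ =>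
      Subgroup.mem_bot.mpr (commutatorElement_eq_one_iff_mul_comm.mpr
        (congrArg Subtype.val (hBcomm ⟨b₁, hb₁⟩ ⟨b₂, hb₂⟩))))
    rw [hBB0, bot_sup_eq] at h1
    exact h1.2
  refine ⟨N, hNn, (hkey S₀ hS₀).1, fun a ha b hb => ?_⟩
  rw [← commutatorElement_eq_one_iff_mul_comm]
  refine Subtype.ext (Subgroup.mem_bot.mp (hC ▸ Subgroup.mem_centralizer_iff.mpr fun n hn => ?_))
  have hle : N ≤ Subgroup.centralizer ({((⁅a, b⁆ : (P : Subgroup G)) : G)} : Set G) :=
    hgenle S₀ _ hS₀ fun T hT t ht => Subgroup.mem_centralizer_singleton_iff.mpr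
      (Subgroup.mem_centralizer_iff.mp ((hkey T hT).2 a ha b hb) t ht)
  exact Subgroup.mem_centralizer_singleton_iff.mp (hle hn)

theorem conj_card_centralizer (g x : G) :
    Nat.card ↥(Subgroup.centralizer ({g * x * g⁻¹} : Set G)) = Nat.card ↥(Subgroup.centralizer ({x} : Set G)) := by
  have h : (Subgroup.centralizer ({x} : Set G)).map (MulAut.conj g).toMonoidHom =
      Subgroup.centralizer ({g * x * g⁻¹} : Set G) := by
    ext z
    simp only [Subgroup.mem_map, Subgroup.mem_centralizer_singleton_iff]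
    constructor
    · rintro ⟨w, hw, rfl⟩
      show g * w * g⁻¹ * (g * x * g⁻¹) = g * x * g⁻¹ * (g * w * g⁻¹)
      calc g * w * g⁻¹ * (g * x * g⁻¹) = g * (w * x) * g⁻¹ := by group
        _ = g * (x * w) * g⁻¹ := by rw [hw]
        _ = _ := by group
    · intro hz
      refine ⟨g⁻¹ * z * g, ?_, by show g * (g⁻¹ * z * g) * g⁻¹ = z; group⟩
      calc g⁻¹ * z * g * x = g⁻¹ * (z * (g * x * g⁻¹)) * g := by group
        _ = g⁻¹ * (g * x * g⁻¹ * z) * g := by rw [hz]
        _ = _ := by group
  rw [← h]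
  exact Subgroup.card_map_of_injective (K := Subgroup.centralizer ({x} : Set G)) (MulAut.conj g).injective

/-- A conjugate of a `p`-element lies in `P` with centralizer in `P` a Sylow subgroup of its
centralizer. -/
theorem exists_conj_sylow (P : Sylow p G) {x : G} (hx : ∃ k : ℕ, orderOf x = p ^ k) :
    ∃ g : G, ∃ hg : g * x * g⁻¹ ∈ (P : Subgroup G),
      Nat.card ↥(Subgroup.centralizer ({⟨g * x * g⁻¹, hg⟩} : Set (P : Subgroup G))) =
        p ^ (Nat.card ↥(Subgroup.centralizer ({x} : Set G))).factorization p := by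
  obtain ⟨k, hk⟩ := hx
  set C := Subgroup.centralizer ({x} : Set G)
  have hxC : x ∈ C := Subgroup.mem_centralizer_singleton_iff.mpr rfl
  have hX : IsPGroup p (Subgroup.zpowers (⟨x, hxC⟩ : C)) :=
    IsPGroup.of_card (n := k) (by rw [Nat.card_zpowers, ← hk, ← Subgroup.orderOf_coe])
  obtain ⟨S, hS⟩ := hX.exists_le_sylow
  have hxS : (⟨x, hxC⟩ : C) ∈ (S : Subgroup C) := hS (Subgroup.mem_zpowers _)
  obtain ⟨Q, hQ⟩ := (S.isPGroup'.map C.subtype).exists_le_sylow
  obtain ⟨g, hg⟩ := MulAction.exists_smul_eq G Q P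
  have hmemP : ∀ z ∈ (Q : Subgroup G), g * z * g⁻¹ ∈ (P : Subgroup G) := fun z hz => by
    rw [← hg, Sylow.coe_subgroup_smul]
    exact ⟨z, hz, rfl⟩
  have hgx := hmemP x (hQ ⟨_, hxS, rfl⟩)
  refine ⟨g, hgx, ?_⟩
  set D := Subgroup.centralizer ({⟨g * x * g⁻¹, hgx⟩} : Set (P : Subgroup G))
  set e := (Nat.card C).factorization p
  obtain ⟨m, hm⟩ := IsPGroup.iff_card.mp (P.isPGroup'.to_subgroup D)
  have h1 : (Nat.card ↥(S : Subgroup C)) ≤ Nat.card D := by
    let j : ↥(S : Subgroup C) → D := fun s =>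
      ⟨⟨g * ((s : C) : G) * g⁻¹, hmemP _ (hQ ⟨_, s.2, rfl⟩)⟩,
        Subgroup.mem_centralizer_singleton_iff.mpr (Subtype.ext (by
          show g * ((s : C) : G) * g⁻¹ * (g * x * g⁻¹) = g * x * g⁻¹ * (g * ((s : C) : G) * g⁻¹)
          have hs := Subgroup.mem_centralizer_singleton_iff.mp (s : C).2
          calc g * ((s : C) : G) * g⁻¹ * (g * x * g⁻¹) = g * (((s : C) : G) * x) * g⁻¹ := by group
            _ = g * (x * ((s : C) : G)) * g⁻¹ := by rw [hs]
            _ = _ := by group))⟩
    refine Nat.card_le_card_of_injective j fun s t hst => ?_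
    have h := congrArg (fun z : D => ((z : (P : Subgroup G)) : G)) hst
    exact Subtype.ext (Subtype.ext (mul_left_cancel (mul_right_cancel h)))
  rw [S.card_eq_multiplicity, hm] at h1
  have hd : p ^ m ∣ Nat.card C := by
    rw [← hm, ← conj_card_centralizer g x]
    have hle : D.map (P : Subgroup G).subtype ≤ Subgroup.centralizer ({g * x * g⁻¹} : Set G) := by
      rintro _ ⟨z, hz, rfl⟩
      exact Subgroup.mem_centralizer_singleton_iff.mpr (congrArg Subtype.val (Subgroup.mem_centralizer_singleton_iff.mp hz))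
    exact (Subgroup.card_map_of_injective (K := D) (P : Subgroup G).subtype_injective).symm ▸ Subgroup.card_dvd_of_le hle
  rw [hm, le_antisymm ((hp.out.pow_dvd_iff_le_factorization Nat.card_pos.ne').mp hd)
    ((Nat.pow_le_pow_iff_right hp.out.one_lt).mp h1)]

end Main

/-- Let G be a finite group, p a prime and P a Sylow p-subgroup of order at least p². Assume that G has no nontrivial normal subgroup of order prime to p, that the derived subgroup P' of P contains no nontrivial normal subgroup of G, and that G is not almost simple (there is no non-abelian simple normal subgroup of G with trivial centralizer). Then [P : P'] = p² if and only if some p-element x of G has centralizer whose order has p-part exactly p². -/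
theorem result {G : Type*} [Group G] [Finite G] (p : ℕ) [Fact p.Prime] (P : Sylow p G) (hbig : p ^ 2 ∣ Nat.card G) (hcore : Cfsg.pPrimeCore p G = ⊥)
    (hcore' : (⁅(P : Subgroup G), (P : Subgroup G)⁆).normalCore = ⊥) (hnas : ¬ ∃ S : Subgroup G, S.Normal ∧ IsSimpleGroup S ∧ ¬ IsMulCommutative S ∧ Subgroup.centralizer (S : Set G) = ⊥) :
    (⁅(P : Subgroup G), (P : Subgroup G)⁆).relIndex (P : Subgroup G) = p ^ 2 ↔
      ∃ x : G, (∃ k : ℕ, orderOf x = p ^ k) ∧ (Nat.card (Subgroup.centralizer ({x} : Set G))).factorization p = 2 := by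
  have hrel : (⁅(P : Subgroup G), (P : Subgroup G)⁆).relIndex (P : Subgroup G) =
      (commutator (P : Subgroup G)).index := by
    rw [Subgroup.relIndex, show ⁅(P : Subgroup G), (P : Subgroup G)⁆ =
      (commutator (P : Subgroup G)).map (P : Subgroup G).subtype by
        rw [commutator_def, Subgroup.map_commutator, ← MonoidHom.range_eq_map, Subgroup.range_subtype],
      Subgroup.subgroupOf, Subgroup.comap_map_eq_self_of_injective (P : Subgroup G).subtype_injective]
  have hp := (Fact.out : p.Prime)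
  have h2 : 2 ≤ (Nat.card G).factorization p := (hp.pow_dvd_iff_le_factorization Nat.card_pos.ne').mp hbig
  have hPc := P.card_eq_multiplicity
  have hPp : IsPGroup p (P : Subgroup G) := P.isPGroup'
  rw [hrel]
  constructor
  · intro hD
    by_cases hab : ∀ a b : (P : Subgroup G), a * b = b * a
    · have hbot : commutator (P : Subgroup G) = ⊥ := by
        rw [commutator_def, eq_bot_iff, Subgroup.commutator_le]
        exact fun a _ b _ => Subgroup.mem_bot.mpr (commutatorElement_eq_one_iff_mul_comm.mpr (hab a b))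
      rw [hbot, Subgroup.index_bot, hPc] at hD
      refine ⟨1, ⟨0, by simp⟩, ?_⟩
      rw [show Subgroup.centralizer ({1} : Set G) = ⊤ from eq_top_iff.mpr fun z _ =>
        Subgroup.mem_centralizer_singleton_iff.mpr (by rw [mul_one, one_mul]), Subgroup.card_top]
      exact Nat.pow_right_injective hp.two_le hD
    push Not at hab
    obtain ⟨N, hNn, hi, hAab⟩ := exists_abelian_index P hcore hcore' hnas hD hab
    haveI := hNn
    set A := N.subgroupOf (P : Subgroup G)
    obtain ⟨y, hy⟩ : ∃ y : (P : Subgroup G), y ∉ A := by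
      by_contra hc
      push Not at hc
      rw [show A = ⊤ from eq_top_iff.mpr fun x _ => hc x, Subgroup.index_top] at hi
      exact hp.one_lt.ne hi
    obtain ⟨k, hk⟩ := IsPGroup.iff_orderOf.mp hPp y
    have hyk : ∃ k : ℕ, orderOf (y : G) = p ^ k := ⟨k, by rw [Subgroup.orderOf_coe, hk]⟩
    refine ⟨(y : G), hyk, ?_⟩
    obtain ⟨g, hg, hcard⟩ := exists_conj_sylow P hyk
    have hy' : (⟨g * (y : G) * g⁻¹, hg⟩ : (P : Subgroup G)) ∉ A := fun h => hy <| by
      have := Subgroup.Normal.conj_mem inferInstance _ (Subgroup.mem_subgroupOf.mp h) g⁻¹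
      show (y : G) ∈ N
      simpa [mul_assoc] using this
    rw [(card_centralizer_of_abelian hPp A hAab hi hD hy').2] at hcard
    exact (Nat.pow_right_injective hp.two_le hcard).symm
  · rintro ⟨x, hx, hfac⟩
    obtain ⟨g, hg, hcard⟩ := exists_conj_sylow P hx
    rw [hfac] at hcard
    set D := commutator (P : Subgroup G)
    have h1 : D.index ≤ p ^ 2 := by
      have h3 := index_le_of_centralizer (⟨g * x * g⁻¹, hg⟩ : (P : Subgroup G))
      have h4 := (Subgroup.centralizer ({⟨g * x * g⁻¹, hg⟩} : Set (P : Subgroup G))).card_mul_index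
      have h5 := D.card_mul_index
      rw [hcard] at h4
      refine Nat.le_of_mul_le_mul_left ?_ (Nat.card_pos (α := D))
      rw [h5, ← h4, mul_comm (Nat.card D)]
      exact Nat.mul_le_mul_left _ h3
    rcases h1.lt_or_eq with hlt | heq
    · exfalso
      have hcomm := comm_of_index_lt hPp hlt
      have hbot : D = ⊥ := by
        show commutator (P : Subgroup G) = ⊥
        rw [commutator_def, eq_bot_iff, Subgroup.commutator_le]
        exact fun a _ b _ => Subgroup.mem_bot.mpr (commutatorElement_eq_one_iff_mul_comm.mpr (hcomm a b))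
      rw [hbot, Subgroup.index_bot, hPc] at hlt
      exact absurd (Nat.pow_le_pow_right hp.pos h2) (not_le.mpr hlt)
    · exact heq

end Cfsg.Agent.S4587
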