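import Cfsg.Statements.S3865
import Cfsg.Agent.S4587
import Cfsg.Agent.Lib.Blocks.MaxClassUniform

set_option autoImplicit false
set_option linter.style.haveILetI false
set_option linter.unusedSectionVars false
open Cfsg
open scoped commutatorElement Pointwise

namespace Cfsg.Agent.S3865

open Cfsg.Agent.Lib
open Cfsg.Agent.Lib.MaxClassUniform
open Cfsg.Agent.Lib.MaxClassPower (L L_mono)

universe u

variable {G : Type u} [Group G] [Finite G] {p : ℕ} [hp : Fact p.Prime]

/-- Tate: a normal subgroup meeting the Sylow subgroup inside its derived subgroup lies in it. -/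
theorem le_sylow_of_inf_le_commutator (P : Sylow p G) (hcore : Cfsg.pPrimeCore p G = ⊥)
    (N : Subgroup G) [N.Normal]
    (hle : (P : Subgroup G) ⊓ N ≤ ⁅(P : Subgroup G), (P : Subgroup G)⁆) : N ≤ (P : Subgroup G) := by
  set L := (P : Subgroup G) ⊔ N with hLdef
  have hPL : (P : Subgroup G) ≤ L := le_sup_left
  set PL : Sylow p L := P.subtype hPL
  set NL := N.subgroupOf L
  haveI : NL.Normal := inferInstance
  have hquot : IsPGroup p (L ⧸ NL) := by
    refine IsPGroup.of_surjective PL.isPGroup' ((QuotientGroup.mk' NL).comp (PL : Subgroup L).subtype) ?_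
    intro q
    obtain ⟨⟨l, hl⟩, rfl⟩ := QuotientGroup.mk_surjective q
    obtain ⟨x, hx, n, hn, rfl⟩ : ∃ x ∈ (P : Subgroup G), ∃ n ∈ N, x * n = l :=
      Set.mem_mul.mp (by rw [← Subgroup.mul_normal]; exact hl)
    refine ⟨⟨⟨x, hPL hx⟩, hx⟩, ?_⟩
    show QuotientGroup.mk (⟨x, hPL hx⟩ : L) = QuotientGroup.mk _
    rw [QuotientGroup.eq, Subgroup.mem_subgroupOf]
    simpa using hn
  have hres : Cfsg.pResidual p L ≤ NL := LocalEven.pResidual_le_of_isPGroup_quotient hquot
  have h1 := Transfer.inf_pResidual_eq PL (H := (PL : Subgroup L)) le_rfl (by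
    intro x hx
    refine Subgroup.mem_sup_left (Subgroup.mem_sup_right ?_)
    have h2 : (x : G) ∈ ⁅(P : Subgroup G), (P : Subgroup G)⁆ := hle ⟨hx.1, hres hx.2⟩
    have h3 : ((PL : Subgroup L)).map L.subtype = (P : Subgroup G) := by
      rw [Sylow.coe_subtype, Subgroup.subgroupOf_map_subtype, inf_eq_left.mpr hPL]
    rw [← h3, ← Subgroup.map_commutator] at h2
    obtain ⟨t, ht, e⟩ := h2
    rwa [← L.subtype_injective e])
  have h2 : Cfsg.pResidual p (PL : Subgroup L) = ⊥ := by
    rw [eq_bot_iff]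
    exact LocalEven.pResidual_le_of_isPGroup_quotient (PL.isPGroup'.to_quotient ⊥)
  rw [h2, Subgroup.map_bot, inf_bot_eq] at h1
  set R := Cfsg.pResidual p L
  haveI hRn : R.Normal := LocalEven.pResidual_normal p L
  have hRp : ¬ p ∣ Nat.card R := by
    have := PGroups.not_dvd_relIndex_inf PL R
    rwa [h1, Subgroup.relIndex_bot_left] at this
  have hRbot : R = ⊥ := by
    have h3 : R.map L.subtype = ⊥ := by
      refine S4587.eq_bot_of_coprime hcore N ?_ ⟨?_⟩ ?_
      · rintro _ ⟨r, hr, rfl⟩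
        exact hres hr
      · intro x hx n
        obtain ⟨r, hr, e⟩ := hx
        exact ⟨⟨n, le_sup_right (a := (P : Subgroup G)) n.2⟩ * r * ⟨n, le_sup_right (a := (P : Subgroup G)) n.2⟩⁻¹,
          hRn.conj_mem r hr _, by
            show (n : G) * (r : G) * (n : G)⁻¹ = (n : G) * (x : G) * (n : G)⁻¹
            rw [show (r : G) = (x : G) from e]⟩
      · rwa [Subgroup.card_map_of_injective (K := R) L.subtype_injective]
    exact (Subgroup.map_eq_bot_iff_of_injective _ L.subtype_injective).mp h3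
  have hLp : IsPGroup p L := by
    intro x
    haveI : (Cfsg.pResidual p L).Normal := hRn
    obtain ⟨m, hm⟩ := (LocalEven.quotient_pResidual_isPGroup (p := p) (Cfsg.pResidual p L) le_rfl)
      (QuotientGroup.mk x)
    refine ⟨m, ?_⟩
    rw [← QuotientGroup.mk_pow, QuotientGroup.eq_one_iff] at hm
    rwa [show Cfsg.pResidual p L = ⊥ from hRbot, Subgroup.mem_bot] at hm
  exact le_sup_right.trans (P.is_maximal' hLp le_sup_left).le

omit [Finite G] hp in
theorem mem_map_conj {g z : G} {H : Subgroup G} :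
    z ∈ H.map (MulAut.conj g).toMonoidHom ↔ g⁻¹ * z * g ∈ H := by
  constructor
  · rintro ⟨y, hy, rfl⟩
    simpa [mul_assoc] using hy
  · exact fun h => ⟨_, h, by simp [mul_assoc]⟩

omit [Finite G] hp in
theorem centralizer_map_conj (g x : G) :
    (Subgroup.centralizer ({x} : Set G)).map (MulAut.conj g).toMonoidHom =
      Subgroup.centralizer ({g * x * g⁻¹} : Set G) := by
  ext z
  rw [mem_map_conj, Subgroup.mem_centralizer_singleton_iff, Subgroup.mem_centralizer_singleton_iff]
  constructor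
  · intro h
    calc z * (g * x * g⁻¹) = g * (g⁻¹ * z * g * x) * g⁻¹ := by group
      _ = g * (x * (g⁻¹ * z * g)) * g⁻¹ := by rw [h]
      _ = _ := by group
  · intro h
    calc g⁻¹ * z * g * x = g⁻¹ * (z * (g * x * g⁻¹)) * g := by group
      _ = g⁻¹ * (g * x * g⁻¹ * z) * g := by rw [h]
      _ = _ := by group

theorem card_inf_conj (g : G) (H K : Subgroup G) :
    Nat.card ↥(H.map (MulAut.conj g).toMonoidHom ⊓ K.map (MulAut.conj g).toMonoidHom) = Nat.card ↥(H ⊓ K) := by
  rw [← Subgroup.map_inf _ _ _ (MulAut.conj g).injective,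
    Subgroup.card_map_of_injective (K := H ⊓ K) (f := (MulAut.conj g).toMonoidHom) (MulAut.conj g).injective]

theorem coe_smul_map (g : G) (P : Sylow p G) :
    ((g • P : Sylow p G) : Subgroup G) = (P : Subgroup G).map (MulAut.conj g).toMonoidHom := rfl

theorem card_centralizer_inf (P : Sylow p G) {x : G} (hx : x ∈ (P : Subgroup G)) :
    Nat.card (Subgroup.centralizer ({(⟨x, hx⟩ : (P : Subgroup G))} : Set (P : Subgroup G))) =
      Nat.card ↥(Subgroup.centralizer ({x} : Set G) ⊓ (P : Subgroup G)) := by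
  rw [← Subgroup.card_map_of_injective (K := Subgroup.centralizer ({(⟨x, hx⟩ : (P : Subgroup G))} : Set (P : Subgroup G)))
    (P : Subgroup G).subtype_injective]
  have e : (Subgroup.centralizer ({(⟨x, hx⟩ : (P : Subgroup G))} : Set (P : Subgroup G))).map
      (P : Subgroup G).subtype = Subgroup.centralizer ({x} : Set G) ⊓ (P : Subgroup G) := by
    ext z
    constructor
    · rintro ⟨w, hw, rfl⟩
      exact ⟨Subgroup.mem_centralizer_singleton_iff.mpr
        (congrArg Subtype.val (Subgroup.mem_centralizer_singleton_iff.mp hw)), w.2⟩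
    · rintro ⟨h1, h2⟩
      exact ⟨⟨z, h2⟩, Subgroup.mem_centralizer_singleton_iff.mpr
        (Subtype.ext (Subgroup.mem_centralizer_singleton_iff.mp h1)), rfl⟩
  rw [e]

/-- In a `p`-group a proper subgroup is properly contained in the trace of its normalizer. -/
theorem lt_inf_normalizer {P D : Subgroup G} (hP : IsPGroup p P) (h : D < P) :
    D < P ⊓ Subgroup.normalizer (D : Set G) := by
  haveI := hP.isNilpotent
  refine lt_of_le_of_ne (le_inf h.le Subgroup.le_normalizer) fun e => ?_
  have hne : D.subgroupOf P < ⊤ := lt_top_iff_ne_top.mpr fun ht => h.not_ge fun x hx =>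
    Subgroup.mem_subgroupOf.mp (show (⟨x, hx⟩ : P) ∈ D.subgroupOf P from ht ▸ Subgroup.mem_top _)
  obtain ⟨⟨x, hx⟩, hxn, hxD⟩ := SetLike.exists_of_lt (Group.normalizerCondition_of_isNilpotent _ hne)
  refine hxD (Subgroup.mem_subgroupOf.mpr (e.symm ▸ ⟨hx, Subgroup.mem_normalizer_fintype ?_⟩ : x ∈ D))
  intro n hn
  exact (Subgroup.mem_normalizer_iff.mp hxn ⟨n, h.le hn⟩).1 hn

variable {n : ℕ}

/-- An element whose centralizer in `P` has order `p ^ 2` and in another Sylow subgroup a larger
one is conjugate deep into the lower central series. -/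
theorem conj_into (P : Sylow p G) (h : MaxClass ↥(P : Subgroup G) p n) {x₀ : G}
    (hx₀ : x₀ ∈ (P : Subgroup G))
    (hsmall : Nat.card ↥(Subgroup.centralizer ({x₀} : Set G) ⊓ (P : Subgroup G)) = p ^ 2)
    (P₂ : Sylow p G) (hx₂ : x₀ ∈ (P₂ : Subgroup G))
    (hbig : p ^ 2 < Nat.card ↥(Subgroup.centralizer ({x₀} : Set G) ⊓ (P₂ : Subgroup G))) :
    ∃ y ∈ (L ↥(P : Subgroup G) (max (n - 3) 1)).map (P : Subgroup G).subtype, IsConj x₀ y := by
  classical
  haveI : Fintype G := Fintype.ofFinite G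
  set good : Set (G × Sylow p G) := {t | t.1 ∈ (P : Subgroup G) ∧
    Nat.card ↥(Subgroup.centralizer ({t.1} : Set G) ⊓ (P : Subgroup G)) = p ^ 2 ∧ IsConj x₀ t.1 ∧
    t.1 ∈ (t.2 : Subgroup G) ∧
    p ^ 2 < Nat.card ↥(Subgroup.centralizer ({t.1} : Set G) ⊓ (t.2 : Subgroup G))} with hgood
  have hne : good.Nonempty := ⟨(x₀, P₂), hx₀, hsmall, IsConj.refl _, hx₂, hbig⟩
  obtain ⟨⟨x, Q⟩, hxQ, hmax⟩ := Set.exists_max_image good
    (fun t => Nat.card ↥((P : Subgroup G) ⊓ (t.2 : Subgroup G))) (Set.toFinite _) hne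
  obtain ⟨hxP, hxs, hxc, hxQ', hxb⟩ := hxQ
  set D := (P : Subgroup G) ⊓ (Q : Subgroup G) with hD
  have hDP : D < (P : Subgroup G) := lt_of_le_of_ne inf_le_left fun e => by
    have hPQ : (P : Subgroup G) ≤ (Q : Subgroup G) := e ▸ inf_le_right
    have := P.is_maximal' Q.isPGroup' hPQ
    simp only at hxb
    rw [this] at hxb
    exact absurd hxs hxb.ne'
  have hDQ : D < (Q : Subgroup G) := lt_of_le_of_ne inf_le_right fun e => by
    have hQP : (Q : Subgroup G) ≤ (P : Subgroup G) := e ▸ inf_le_left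
    have := Q.is_maximal' P.isPGroup' hQP
    simp only at hxb
    rw [← this] at hxb
    exact absurd hxs hxb.ne'
  set D' := D.subgroupOf (P : Subgroup G) with hD'
  set xP : (P : Subgroup G) := ⟨x, hxP⟩
  have hxD' : xP ∈ D' := ⟨hxP, hxQ'⟩
  have hD'top : D' ≠ ⊤ := fun e => hDP.not_ge fun z hz =>
    Subgroup.mem_subgroupOf.mp (show (⟨z, hz⟩ : (P : Subgroup G)) ∈ D' from e ▸ Subgroup.mem_top _)
  have hxsm : Nat.card (Subgroup.centralizer ({xP} : Set (P : Subgroup G))) = p ^ 2 := by
    rw [card_centralizer_inf P hxP]; exact hxs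
  obtain ⟨i, hi1, hin, hiD, hgen, hsm⟩ := overgroup_structure h hxsm hxD' hD'top
  -- the normalizer of `D`
  set K := Subgroup.normalizer (D : Set G) with hK
  have hP1 := lt_inf_normalizer P.isPGroup' hDP
  have hQ1 := lt_inf_normalizer Q.isPGroup' hDQ
  obtain ⟨R, hR⟩ := ((P.isPGroup'.to_le (inf_le_left : (P : Subgroup G) ⊓ K ≤ _)).comap_subtype (K := K)).exists_le_sylow
  obtain ⟨R', hR'⟩ := ((Q.isPGroup'.to_le (inf_le_left : (Q : Subgroup G) ⊓ K ≤ _)).comap_subtype (K := K)).exists_le_sylow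
  obtain ⟨v, hv⟩ := MulAction.exists_smul_eq K R' R
  obtain ⟨P'', hP''⟩ := (R.isPGroup'.map K.subtype).exists_le_sylow
  have hPP'' : (P : Subgroup G) ⊓ K ≤ (P'' : Subgroup G) := fun z hz =>
    hP'' ⟨⟨z, hz.2⟩, hR hz, rfl⟩
  have hQP'' : ((Q : Subgroup G) ⊓ K).map (MulAut.conj (v : G)).toMonoidHom ≤ (P'' : Subgroup G) := by
    rintro _ ⟨z, hz, rfl⟩
    refine hP'' ⟨v * ⟨z, hz.2⟩ * v⁻¹, ?_, rfl⟩
    rw [← hv, Sylow.coe_subgroup_smul]
    exact ⟨⟨z, hz.2⟩, hR' hz, rfl⟩
  have hvD : ∀ z, z ∈ D → (v : G) * z * (v : G)⁻¹ ∈ D := fun z hz =>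
    (Subgroup.mem_normalizer_iff.mp v.2 z).1 hz
  set x' := (v : G) * x * (v : G)⁻¹ with hx'
  have hx'D : x' ∈ D := hvD x ⟨hxP, hxQ'⟩
  have hx'P : x' ∈ (P : Subgroup G) := hx'D.1
  have hxc' : IsConj x₀ x' := hxc.trans (isConj_iff.mpr ⟨(v : G), rfl⟩)
  by_cases hx'i : (⟨x', hx'P⟩ : (P : Subgroup G)) ∈ L ↥(P : Subgroup G) i
  · refine ⟨x', ⟨⟨x', hx'P⟩, L_mono ?_ hx'i, rfl⟩, hxc'⟩
    by_contra hlt
    have hi4 : i + 4 ≤ n := by omega
    obtain ⟨hDD, hstep⟩ := overgroup_commutators h (avoid_of_small h hxsm).2 hxD' hi1 hin hiD hgen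
    have hmapD : D'.map (P : Subgroup G).subtype = D := by
      rw [hD', Subgroup.subgroupOf_map_subtype, inf_eq_left.mpr hDP.le]
    have hDv : D.map (MulAut.conj (v : G)).toMonoidHom = D :=
      Subgroup.eq_of_le_of_card_ge (by rintro _ ⟨z, hz, rfl⟩; exact hvD z hz)
        (Subgroup.card_map_of_injective (K := D) (f := (MulAut.conj (v : G)).toMonoidHom) (MulAut.conj (v : G)).injective).ge
    have e1 : (L ↥(P : Subgroup G) (i + 1)).map (P : Subgroup G).subtype = ⁅D, D⁆ := by
      rw [← hDD, Subgroup.map_commutator, hmapD]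
    have e2 : ∀ m, i ≤ m → m ≤ n → (L ↥(P : Subgroup G) (m + 1)).map (P : Subgroup G).subtype =
        ⁅(L ↥(P : Subgroup G) m).map (P : Subgroup G).subtype, D⁆ := fun m h1 h2 => by
      rw [← hstep m h1 h2, Subgroup.map_commutator, hmapD]
    have f1 : ((L ↥(P : Subgroup G) (i + 1)).map (P : Subgroup G).subtype).map (MulAut.conj (v : G)).toMonoidHom =
        (L ↥(P : Subgroup G) (i + 1)).map (P : Subgroup G).subtype := by
      rw [e1, Subgroup.map_commutator, hDv]
    have f2 : ∀ m, i + 1 ≤ m → m ≤ n →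
        ((L ↥(P : Subgroup G) m).map (P : Subgroup G).subtype).map (MulAut.conj (v : G)).toMonoidHom =
          (L ↥(P : Subgroup G) m).map (P : Subgroup G).subtype := by
      intro m hm
      induction m, hm using Nat.le_induction with
      | base => exact fun _ => f1
      | succ m hm ih =>
        intro hmn
        rw [e2 m (by omega) (by omega), Subgroup.map_commutator, hDv, ih (by omega)]
    -- transport the defining property back to `x`
    refine (avoid_of_small h hxsm).1 (L_mono hi1 ?_)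
    rw [overgroup_char h hi1 hi4 hsm hxD' hxD']
    intro g hg
    have hg' : (MulAut.conj (v : G)).toMonoidHom (g : G) ∈
        (L ↥(P : Subgroup G) (i + 1)).map (P : Subgroup G).subtype :=
      f1 ▸ Subgroup.mem_map_of_mem _ (Subgroup.mem_map_of_mem _ hg)
    obtain ⟨g', hg'L, hg'e⟩ := hg'
    have hc := (overgroup_char h hi1 hi4 hsm hxD' (d := ⟨x', hx'P⟩)
      (show (⟨x', hx'P⟩ : (P : Subgroup G)) ∈ D' from hx'D)).mp hx'i g' hg'L
    have hc' : (⁅(g : G), x⁆) ∈ (L ↥(P : Subgroup G) (i + 3)).map (P : Subgroup G).subtype := by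
      have h3 := Subgroup.mem_map_of_mem (P : Subgroup G).subtype hc
      rw [← f2 (i + 3) (by omega) (by omega), mem_map_conj, map_commutatorElement] at h3
      rw [show (P : Subgroup G).subtype g' = (MulAut.conj (v : G)).toMonoidHom (g : G) from hg'e] at h3
      convert h3 using 1
      show ⁅(g : G), x⁆ = (v : G)⁻¹ * ⁅(v : G) * (g : G) * (v : G)⁻¹, x'⁆ * (v : G)
      rw [hx']
      simp only [commutatorElement_def]
      group
    obtain ⟨c, hc1, hc2⟩ := hc'
    have : c = ⁅g, xP⁆ := Subtype.ext (hc2.trans (map_commutatorElement (P : Subgroup G).subtype g xP).symm)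
    exact this ▸ hc1
  · exfalso
    have hx's : Nat.card ↥(Subgroup.centralizer ({x'} : Set G) ⊓ (P : Subgroup G)) = p ^ 2 := by
      rw [← card_centralizer_inf P hx'P]
      exact hsm _ (show (⟨x', hx'P⟩ : (P : Subgroup G)) ∈ D' from hx'D) hx'i
    have hx'P'' : x' ∈ (P'' : Subgroup G) := hPP'' (inf_comm K (P : Subgroup G) ▸
      (⟨Subgroup.le_normalizer hx'D, hx'P⟩ : x' ∈ K ⊓ (P : Subgroup G)))
    have hle : Nat.card ↥(Subgroup.centralizer ({x'} : Set G) ⊓ (P'' : Subgroup G)) ≤ p ^ 2 := by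
      by_contra hgt
      have h1 := hmax (x', P'') ⟨hx'P, hx's, hxc', hx'P'', not_le.mp hgt⟩
      have h2 : (P : Subgroup G) ⊓ K ≤ (P : Subgroup G) ⊓ (P'' : Subgroup G) := le_inf inf_le_left hPP''
      have := Subgroup.card_le_of_le h2
      have hlt : Nat.card D < Nat.card ↥((P : Subgroup G) ⊓ K) := by
        by_contra hge
        exact hP1.ne (Subgroup.eq_of_le_of_card_ge hP1.le (not_lt.mp hge))
      exact absurd (lt_of_lt_of_le hlt (this.trans h1)) (lt_irrefl _)
    obtain ⟨w, hw⟩ := MulAction.exists_smul_eq G P'' P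
    set x₃ := w * x' * w⁻¹
    have hx₃P : x₃ ∈ (P : Subgroup G) := by
      rw [← hw, coe_smul_map]; exact ⟨x', hx'P'', rfl⟩
    have hx₃c : Subgroup.centralizer ({x₃} : Set G) ⊓ (P : Subgroup G) =
        (Subgroup.centralizer ({x'} : Set G)).map (MulAut.conj w).toMonoidHom ⊓
          (P'' : Subgroup G).map (MulAut.conj w).toMonoidHom := by
      rw [centralizer_map_conj, ← coe_smul_map, hw]
    have hx₃s : Nat.card ↥(Subgroup.centralizer ({x₃} : Set G) ⊓ (P : Subgroup G)) = p ^ 2 := by
      refine le_antisymm (by rw [hx₃c, card_inf_conj]; exact hle) ?_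
      rw [← card_centralizer_inf P hx₃P]
      exact sq_le_card_centralizer h _
    set Q3 : Sylow p G := (w * (v : G)) • Q with hQ3
    have hQ3m : (Q3 : Subgroup G) =
        ((Q : Subgroup G).map (MulAut.conj (v : G)).toMonoidHom).map (MulAut.conj w).toMonoidHom := by
      rw [hQ3, coe_smul_map, Subgroup.map_map]
      congr 1
      ext z
      simp [mul_assoc]
    have hx₃Q : x₃ ∈ (Q3 : Subgroup G) := by
      rw [hQ3m]; exact ⟨x', ⟨x, hxQ', rfl⟩, rfl⟩
    have hx₃b : p ^ 2 < Nat.card ↥(Subgroup.centralizer ({x₃} : Set G) ⊓ (Q3 : Subgroup G)) := by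
      rw [hQ3m, ← centralizer_map_conj, card_inf_conj, ← centralizer_map_conj, card_inf_conj]
      exact hxb
    have h1 := hmax (x₃, Q3) ⟨hx₃P, hx₃s, hxc'.trans (isConj_iff.mpr ⟨w, rfl⟩), hx₃Q, hx₃b⟩
    have h2 : ((Q : Subgroup G) ⊓ K).map (MulAut.conj (v : G)).toMonoidHom ≤
        (P'' : Subgroup G) ⊓ (Q : Subgroup G).map (MulAut.conj (v : G)).toMonoidHom :=
      le_inf hQP'' (Subgroup.map_mono inf_le_left)
    have h3 : Nat.card ↥((P : Subgroup G) ⊓ (Q3 : Subgroup G)) =
        Nat.card ↥((P'' : Subgroup G) ⊓ (Q : Subgroup G).map (MulAut.conj (v : G)).toMonoidHom) := by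
      rw [hQ3m, ← hw, coe_smul_map, card_inf_conj]
    have h4 := Subgroup.card_le_of_le h2
    rw [Subgroup.card_map_of_injective (K := (Q : Subgroup G) ⊓ K) (f := (MulAut.conj (v : G)).toMonoidHom)
      (MulAut.conj (v : G)).injective, ← h3] at h4
    have hlt : Nat.card D < Nat.card ↥((Q : Subgroup G) ⊓ K) := by
      by_contra hge
      exact hQ1.ne (Subgroup.eq_of_le_of_card_ge hQ1.le (not_lt.mp hge))
    exact absurd (lt_of_lt_of_le hlt (h4.trans h1)) (lt_irrefl _)

/-- If there is no `x` as wanted, the group is quasisimple. -/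
theorem quasisimple_of_no (P : Sylow p G) (h : MaxClass ↥(P : Subgroup G) p n)
    (hcore : Cfsg.pPrimeCore p G = ⊥) (hres : ∀ N : Subgroup G, N.Normal → (N.index).Coprime p → N = ⊤)
    (hno : ∀ x ∈ (P : Subgroup G), (Nat.card (Subgroup.centralizer ({x} : Set G))).factorization p ≠ 2) :
    Cfsg.IsQuasisimple G ∧ Nat.card (Subgroup.center G) ≤ p := by
  classical
  have hn3 := h.three
  set m := max (n - 3) 1 with hm
  set Z₀ := (L ↥(P : Subgroup G) (n - 2)).map (P : Subgroup G).subtype with hZ₀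
  -- every element with small centralizer is conjugate into `L m`
  have hdeep : ∀ s : (P : Subgroup G), Nat.card (Subgroup.centralizer ({s} : Set (P : Subgroup G))) = p ^ 2 →
      ∃ y ∈ (L ↥(P : Subgroup G) m).map (P : Subgroup G).subtype, IsConj (s : G) y := by
    rintro ⟨s, hsP⟩ hs
    rw [card_centralizer_inf P hsP] at hs
    set C := Subgroup.centralizer ({s} : Set G)
    set f := (Nat.card C).factorization p with hf
    have h2 : 2 ≤ f := by
      refine (hp.out.pow_dvd_iff_le_factorization Nat.card_pos.ne').mp ?_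
      rw [← hs]
      exact Subgroup.card_dvd_of_le inf_le_left
    have h3 : 2 < f := lt_of_le_of_ne h2 (fun e => hno s hsP e.symm)
    have hsC : s ∈ C := Subgroup.mem_centralizer_singleton_iff.mpr rfl
    obtain ⟨k, hk⟩ := IsPGroup.iff_orderOf.mp P.isPGroup' ⟨s, hsP⟩
    rw [← Subgroup.orderOf_coe] at hk
    have hX : IsPGroup p (Subgroup.zpowers (⟨s, hsC⟩ : C)) :=
      IsPGroup.of_card (n := k) (by rw [Nat.card_zpowers, ← hk, ← Subgroup.orderOf_coe])
    obtain ⟨T, hT⟩ := hX.exists_le_sylow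
    obtain ⟨Q, hQ⟩ := (T.isPGroup'.map C.subtype).exists_le_sylow
    have hsQ : s ∈ (Q : Subgroup G) := hQ ⟨_, hT (Subgroup.mem_zpowers _), rfl⟩
    refine conj_into P h hsP hs Q hsQ ?_
    have hle : (T : Subgroup C).map C.subtype ≤ C ⊓ (Q : Subgroup G) :=
      le_inf (Subgroup.map_subtype_le _) hQ
    refine lt_of_lt_of_le ?_ (Subgroup.card_le_of_le hle)
    rw [Subgroup.card_map_of_injective (K := (T : Subgroup C)) C.subtype_injective, T.card_eq_multiplicity]
    exact Nat.pow_lt_pow_right hp.out.one_lt h3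
  obtain ⟨s₀, -, hs₀⟩ := exists_small h ⊥ (fun e => by
    have h1 := h.card
    rw [← Subgroup.card_top, ← e, Subgroup.card_bot] at h1
    exact (Nat.one_lt_pow (by omega) hp.out.one_lt).ne h1)
  have hdich : ∀ K : Subgroup G, K.Normal → K ≠ ⊥ → K = ⊤ ∨ K = Z₀ := by
    intro K hKn hK0
    haveI := hKn
    set KP := K.subgroupOf (P : Subgroup G) with hKP
    have hKP0 : KP ≠ ⊥ := by
      intro e
      have h1 := PGroups.not_dvd_relIndex_inf P K
      rw [show (P : Subgroup G) ⊓ K = ⊥ by
        rw [inf_comm, ← Subgroup.subgroupOf_map_subtype, ← hKP, e, Subgroup.map_bot],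
        Subgroup.relIndex_bot_left] at h1
      refine hK0 (le_bot_iff.mp (hcore ▸ Cores.le_pPrimeCore hKn ?_))
      exact (hp.out.coprime_iff_not_dvd.mpr h1).symm
    by_cases hm' : L ↥(P : Subgroup G) m ≤ KP
    · left
      refine hres K hKn ((hp.out.coprime_iff_not_dvd.mpr fun hd => ?_).symm)
      have hPK : (P : Subgroup G) ≤ K := by
        by_contra hnot
        obtain ⟨s, hs, hss⟩ := exists_small h KP (fun e => hnot fun z hz =>
          Subgroup.mem_subgroupOf.mp (show (⟨z, hz⟩ : (P : Subgroup G)) ∈ KP from e ▸ Subgroup.mem_top _))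
        obtain ⟨_, ⟨y, hy, rfl⟩, hc⟩ := hdeep s hss
        obtain ⟨g, hg⟩ := isConj_iff.mp hc
        refine hs (Subgroup.mem_subgroupOf.mpr ?_)
        have := hKn.conj_mem _ (Subgroup.mem_subgroupOf.mp (hm' hy)) g⁻¹
        have h4 : (y : G) = g * (s : G) * g⁻¹ := hg.symm
        rw [h4] at this
        simpa [mul_assoc] using this
      exact P.not_dvd_index (hd.trans (Subgroup.index_dvd_of_le hPK))
    · right
      haveI : KP.Normal := inferInstance
      rcases normal_cases h KP hKP0 with h1 | ⟨i, hi1, hi2, hi⟩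
      · exact absurd ((L_mono (le_max_right _ _)).trans h1) hm'
      have hi' : i = n - 2 := by
        by_contra hne
        exact hm' (hi ▸ L_mono (by omega))
      subst hi'
      have hPK : (P : Subgroup G) ⊓ K = Z₀ := by
        rw [inf_comm, ← Subgroup.subgroupOf_map_subtype, ← hKP, hi]
      have hKle : K ≤ (P : Subgroup G) := by
        refine le_sylow_of_inf_le_commutator P hcore K ?_
        rw [hPK, hZ₀]
        refine (Subgroup.map_mono (L_mono (show 1 ≤ n - 2 by omega))).trans ?_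
        show (⁅(⊤ : Subgroup (P : Subgroup G)), (⊤ : Subgroup (P : Subgroup G))⁆).map _ ≤ _
        rw [Subgroup.map_commutator, ← MonoidHom.range_eq_map, Subgroup.range_subtype]
      rw [← hPK, inf_eq_right.mpr hKle]
  -- `G` is not a `p`-group
  have hPtop : (P : Subgroup G) ≠ ⊤ := by
    intro e
    refine hno s₀ s₀.2 ?_
    have hc := card_centralizer_inf P s₀.2
    rw [show Subgroup.centralizer ({(s₀ : G)} : Set G) ⊓ (P : Subgroup G) =
      Subgroup.centralizer ({(s₀ : G)} : Set G) from inf_eq_left.mpr (le_top.trans_eq e.symm)] at hc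
    rw [← hc, hs₀, hp.out.factorization_pow, Finsupp.single_eq_same]
  haveI : Nontrivial G := ⟨⟨(s₀ : G), 1, fun e => by
    have h1 : s₀ = 1 := Subtype.ext e
    have h2 := (avoid_of_small h hs₀).1
    rw [h1] at h2
    exact h2 (one_mem _)⟩⟩
  have hnc : ∃ a b : G, a * b ≠ b * a := by
    by_contra hc
    push Not at hc
    refine RankTwo.not_isMulCommutative_of_maxClass hn3 (h.ne_bot _ (by omega)) ⟨⟨fun a b => ?_⟩⟩
    exact Subtype.ext (hc a b)
  have hZcen : Z₀.Normal → Z₀ ≤ Subgroup.center G := by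
    intro hZn
    haveI := hZn
    haveI : (Subgroup.centralizer (Z₀ : Set G)).Normal := Subgroup.normal_centralizer (H := Z₀)
    have htop : Subgroup.centralizer (Z₀ : Set G) = ⊤ := by
      refine hres _ inferInstance ((hp.out.coprime_iff_not_dvd.mpr fun hd => ?_).symm)
      refine P.not_dvd_index (hd.trans (Subgroup.index_dvd_of_le fun z hz =>
        Subgroup.mem_centralizer_iff.mpr ?_))
      rintro _ ⟨y, hy, rfl⟩
      have hcz : ⁅y, (⟨z, hz⟩ : (P : Subgroup G))⁆ = 1 := by
        rw [← Subgroup.mem_bot, ← L_eq_bot h (show n - 1 ≤ n - 2 + 0 + 1 by omega)]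
        exact MaxClassPower.L_comm (i := n - 2) (j := 0) hy
          (Subgroup.mem_top (⟨z, hz⟩ : (P : Subgroup G)))
      exact congrArg Subtype.val (commutatorElement_eq_one_iff_mul_comm.mp hcz)
    intro z hz
    rw [Subgroup.mem_center_iff]
    intro g
    exact (Subgroup.mem_centralizer_iff.mp (htop ▸ Subgroup.mem_top g : g ∈ _) z hz).symm
  have hcenZ : Subgroup.center G ≠ ⊤ := fun e => by
    obtain ⟨a, b, hab⟩ := hnc
    exact hab ((Subgroup.mem_center_iff.mp (e ▸ Subgroup.mem_top b)) a)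
  have hcen : Subgroup.center G = ⊥ ∨ Subgroup.center G = Z₀ := by
    by_cases hb : Subgroup.center G = ⊥
    · exact Or.inl hb
    · exact Or.inr ((hdich _ inferInstance hb).resolve_left hcenZ)
  have hperf : commutator G = ⊤ := by
    by_contra hne
    have hb : commutator G ≠ ⊥ := fun e => by
      obtain ⟨a, b, hab⟩ := hnc
      refine hab (commutatorElement_eq_one_iff_mul_comm.mp ?_)
      rw [← Subgroup.mem_bot, ← e]
      exact Subgroup.commutator_mem_commutator (Subgroup.mem_top a) (Subgroup.mem_top b)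
    have hZ : commutator G = Z₀ := ((hdich _ (Subgroup.commutator_normal _ _) hb).resolve_left hne)
    have hn : (P : Subgroup G).Normal := ⟨fun z hz g => by
      have h1 : ⁅g, z⁆ ∈ (P : Subgroup G) := Subgroup.map_subtype_le _
        ((hZ ▸ Subgroup.commutator_mem_commutator (Subgroup.mem_top g) (Subgroup.mem_top z)) : ⁅g, z⁆ ∈ Z₀)
      have := mul_mem h1 hz
      rwa [commutatorElement_def, inv_mul_cancel_right] at this⟩
    exact hPtop (hres _ hn ((hp.out.coprime_iff_not_dvd.mpr P.not_dvd_index).symm))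
  refine ⟨⟨⟨hperf⟩, ?_⟩, ?_⟩
  · haveI : Nontrivial (G ⧸ Subgroup.center G) :=
      QuotientGroup.nontrivial_iff.mpr hcenZ
    refine ⟨fun H hH => ?_⟩
    haveI := hH
    set K := H.comap (QuotientGroup.mk' (Subgroup.center G)) with hKdef
    have hcK : Subgroup.center G ≤ K := fun z hz => by
      rw [hKdef, Subgroup.mem_comap,
        show QuotientGroup.mk' (Subgroup.center G) z = 1 from (QuotientGroup.eq_one_iff z).mpr hz]
      exact one_mem _
    have hmapK : K.map (QuotientGroup.mk' (Subgroup.center G)) = H :=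
      Subgroup.map_comap_eq_self_of_surjective (QuotientGroup.mk'_surjective _) H
    by_cases hKb : K = ⊥
    · exact Or.inl (by rw [← hmapK, hKb, Subgroup.map_bot])
    rcases hdich K inferInstance hKb with e | e
    · exact Or.inr (by rw [← hmapK, e, Subgroup.map_top_of_surjective _ (QuotientGroup.mk'_surjective _)])
    · left
      have hle := hZcen (e ▸ (inferInstance : K.Normal))
      rw [← hmapK, e, Subgroup.map_eq_bot_iff, QuotientGroup.ker_mk']
      exact hle
  · rcases hcen with e | e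
    · rw [e, Subgroup.card_bot]; exact hp.out.one_le
    · rw [e, hZ₀, Subgroup.card_map_of_injective (K := L ↥(P : Subgroup G) (n - 2))
        (P : Subgroup G).subtype_injective, cardL h (by omega) (by omega), show n - 1 - (n - 2) = 1 by omega,
        pow_one]

/-- Let G be a finite group whose Sylow p-subgroup P has order p ^ n with n ≥ 2 and nilpotency class n - 1 (maximal class), whose largest normal subgroup of order prime to p is trivial, and which has no proper normal subgroup of index prime to p. Then either some x ∈ P has a centralizer in G whose order has p-part p ^ 2, or G is quasisimple with centre of order at most p. -/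
theorem result {G : Type*} [Group G] [Finite G] (p : ℕ) [Fact p.Prime] (P : Sylow p G) (n : ℕ) (hP : Nat.card P = p ^ n) (hn : 2 ≤ n) (hmax : Group.nilpotencyClass ↥(P : Subgroup G) = n - 1) (hcore : Cfsg.pPrimeCore p G = ⊥) (hres : ∀ N : Subgroup G, N.Normal → (N.index).Coprime p → N = ⊤) : (∃ x ∈ (P : Subgroup G), (Nat.card (Subgroup.centralizer ({x} : Set G))).factorization p = 2) ∨ (Cfsg.IsQuasisimple G ∧ Nat.card (Subgroup.center G) ≤ p) := by
  by_cases hex : ∃ x ∈ (P : Subgroup G), (Nat.card (Subgroup.centralizer ({x} : Set G))).factorization p = 2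
  · exact Or.inl hex
  push Not at hex
  right
  rcases Nat.eq_or_lt_of_le hn with h2 | h3
  · exfalso
    refine hex 1 (one_mem _) ?_
    rw [show Subgroup.centralizer ({1} : Set G) = ⊤ from eq_top_iff.mpr fun z _ =>
      Subgroup.mem_centralizer_singleton_iff.mpr (by rw [mul_one, one_mul]), Subgroup.card_top]
    have h := P.card_eq_multiplicity
    rw [hP, ← h2] at h
    exact (Nat.pow_right_injective (Fact.out : p.Prime).two_le h).symm
  · haveI : Group.IsNilpotent ↥(P : Subgroup G) := P.isPGroup'.isNilpotent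
    exact quasisimple_of_no P (MaxClass.of_nilpotencyClass h3 hP hmax) hcore hres hex

end Cfsg.Agent.S3865
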