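import Cfsg.Statements.S3866
import Mathlib

set_option autoImplicit false
open Cfsg

namespace Cfsg.Agent.S3866

open scoped commutatorElement

/-- Let A be a commutative normal subgroup of the finite group G with G generated by A and an element x. Then a ↦ x a x⁻¹ a⁻¹ is a surjective homomorphism from A onto the commutator subgroup of G whose kernel is the centralizer of x in A; in particular the commutator subgroup has order equal to the index in A of that centralizer. -/
theorem result {G : Type*} [Group G] [Finite G] (A : Subgroup G) [A.Normal] (hA : IsMulCommutative A) (x : G) (hgen : A ⊔ Subgroup.zpowers x = ⊤) : (∀ a ∈ A, x * a * x⁻¹ * a⁻¹ ∈ commutator G) ∧ (∀ c ∈ commutator G, ∃ a ∈ A, x * a * x⁻¹ * a⁻¹ = c) ∧ (∀ a ∈ A, ∀ b ∈ A, x * (a * b) * x⁻¹ * (a * b)⁻¹ = (x * a * x⁻¹ * a⁻¹) * (x * b * x⁻¹ * b⁻¹)) ∧ Nat.card (commutator G) * Nat.card ↥(A ⊓ Subgroup.centralizer ({x} : Set G)) = Nat.card A := by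
  have hcomm : ∀ a ∈ A, ∀ b ∈ A, a * b = b * a := fun a ha b hb =>
    congrArg Subtype.val (hA.1.comm (⟨a, ha⟩ : A) ⟨b, hb⟩)
  have hmem : ∀ a ∈ A, x * a * x⁻¹ * a⁻¹ ∈ A := fun a ha =>
    mul_mem (Subgroup.Normal.conj_mem inferInstance a ha x) (inv_mem ha)
  have hmul : ∀ a ∈ A, ∀ b ∈ A,
      x * (a * b) * x⁻¹ * (a * b)⁻¹ = (x * a * x⁻¹ * a⁻¹) * (x * b * x⁻¹ * b⁻¹) := by
    intro a ha b hb
    have h1 := hcomm _ (hmem b hb) _ (inv_mem ha)
    calc x * (a * b) * x⁻¹ * (a * b)⁻¹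
        = x * a * x⁻¹ * ((x * b * x⁻¹ * b⁻¹) * a⁻¹) := by group
      _ = x * a * x⁻¹ * (a⁻¹ * (x * b * x⁻¹ * b⁻¹)) := by rw [h1]
      _ = _ := by group
  let f : A →* G :=
    { toFun := fun a => x * (a : G) * x⁻¹ * (a : G)⁻¹
      map_one' := by simp
      map_mul' := fun a b => hmul a a.2 b b.2 }
  have hc : ∀ a ∈ A, x * a * x⁻¹ * a⁻¹ ∈ commutator G := fun a _ => by
    rw [← commutatorElement_def, commutator_def]
    exact Subgroup.commutator_mem_commutator (Subgroup.mem_top x) (Subgroup.mem_top a)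
  have hfA : f.range ≤ A := by rintro _ ⟨a, rfl⟩; exact hmem a a.2
  have hgx : ∀ g : G, ∃ a ∈ A, ∃ n : ℕ, g = a * x ^ n := fun g => by
    obtain ⟨a, ha, s, hs, rfl⟩ := Subgroup.mem_sup_of_normal_left.mp
      (hgen ▸ Subgroup.mem_top g : g ∈ A ⊔ Subgroup.zpowers x)
    obtain ⟨n, rfl⟩ := mem_powers_iff_mem_zpowers.mpr hs
    exact ⟨a, ha, n, rfl⟩
  have hn : f.range.Normal := by
    refine ⟨fun y hy g => ?_⟩
    obtain ⟨b, hb, n, rfl⟩ := hgx g
    have key : ∀ k : ℕ, x ^ k * y * (x ^ k)⁻¹ ∈ f.range := by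
      intro k
      induction k with
      | zero => simpa using hy
      | succ k ih =>
        obtain ⟨a, ha⟩ := ih
        refine ⟨⟨x * a * x⁻¹, Subgroup.Normal.conj_mem inferInstance (a : G) a.2 x⟩, ?_⟩
        rw [pow_succ']
        calc f ⟨x * a * x⁻¹, _⟩ = x * f a * x⁻¹ := by simp [f, mul_assoc]
          _ = _ := by rw [ha]; group
    rw [mul_inv_rev, show b * x ^ n * y * ((x ^ n)⁻¹ * b⁻¹) =
      b * (x ^ n * y * (x ^ n)⁻¹) * b⁻¹ by group, hcomm b hb _ (hfA (key n)),
      mul_inv_cancel_right]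
    exact key n
  have hle : commutator G ≤ f.range := by
    have hab : ∀ a ∈ A, Commute (QuotientGroup.mk' f.range x) (QuotientGroup.mk' f.range a) := by
      intro a ha
      refine commutatorElement_eq_one_iff_commute.mp ?_
      rw [← map_commutatorElement]
      exact (QuotientGroup.eq_one_iff _).mpr ⟨⟨a, ha⟩, (commutatorElement_def x a).symm⟩
    rw [commutator_def, Subgroup.commutator_le]
    intro g _ h _
    obtain ⟨a, ha, n, rfl⟩ := hgx g
    obtain ⟨b, hb, m, rfl⟩ := hgx h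
    rw [← QuotientGroup.eq_one_iff]
    show QuotientGroup.mk' f.range _ = 1
    rw [map_commutatorElement, commutatorElement_eq_one_iff_mul_comm, map_mul, map_mul, map_pow,
      map_pow]
    have hab' : Commute (QuotientGroup.mk' f.range a) (QuotientGroup.mk' f.range b) :=
      Commute.map (hcomm a ha b hb) _
    exact ((hab'.mul_right ((hab a ha).symm.pow_right m)).mul_left
      (((hab b hb).pow_left n).mul_right (Commute.pow_pow_self _ n m))).eq
  have hrange : commutator G = f.range :=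
    le_antisymm hle (by rintro _ ⟨a, rfl⟩; exact hc a a.2)
  refine ⟨hc, fun c hc' => ?_, hmul, ?_⟩
  · obtain ⟨a, rfl⟩ := hle hc'
    exact ⟨a, a.2, rfl⟩
  · have hker : Nat.card f.ker = Nat.card ↥(A ⊓ Subgroup.centralizer ({x} : Set G)) := by
      have h1 : f.ker = (A ⊓ Subgroup.centralizer ({x} : Set G)).subgroupOf A := by
        ext a
        rw [MonoidHom.mem_ker, Subgroup.mem_subgroupOf, Subgroup.mem_inf,
          Subgroup.mem_centralizer_singleton_iff]
        show x * (a : G) * x⁻¹ * (a : G)⁻¹ = 1 ↔ _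
        rw [mul_inv_eq_one, mul_inv_eq_iff_eq_mul]
        exact ⟨fun h => ⟨a.2, h.symm⟩, fun h => h.2.symm⟩
      rw [h1]
      exact Nat.card_congr (Subgroup.subgroupOfEquivOfLe inf_le_left).toEquiv
    rw [← hker, hrange, ← f.ker.card_mul_index, Subgroup.index_ker, mul_comm]

end Cfsg.Agent.S3866
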