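import Cfsg.Statements.S3867
import Cfsg.Agent.Lib.Components.Local

set_option autoImplicit false
open Cfsg

namespace Cfsg.Agent.S3867

/-- Two Sylow subgroups with the same images modulo two disjoint normal subgroups are equal. -/
theorem sylow_eq_of_sup_eq {G : Type*} [Group G] [Finite G] {p : ℕ} [Fact p.Prime]
    (M N : Subgroup G) [M.Normal] [N.Normal] (hMN : M ⊓ N = ⊥) (P Q : Sylow p G)
    (h1 : (P : Subgroup G) ⊔ M = (Q : Subgroup G) ⊔ M)
    (h2 : (P : Subgroup G) ⊔ N = (Q : Subgroup G) ⊔ N) : P = Q := by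
  have hX : IsPGroup p ↥(((P : Subgroup G) ⊔ M) ⊓ ((P : Subgroup G) ⊔ N) : Subgroup G) := by
    set X : Subgroup G := ((P : Subgroup G) ⊔ M) ⊓ ((P : Subgroup G) ⊔ N)
    have hq : ∀ (K : Subgroup G) [K.Normal], X ≤ (P : Subgroup G) ⊔ K → ∀ x ∈ X,
        ∃ k : ℕ, x ^ p ^ k ∈ K := by
      intro K _ hXK x hx
      obtain ⟨u, hu, v, hv, rfl⟩ := Subgroup.mem_sup_of_normal_right.mp (hXK hx)
      obtain ⟨k, hk⟩ := P.2 ⟨u, hu⟩
      refine ⟨k, ?_⟩
      rw [← QuotientGroup.eq_one_iff]
      show QuotientGroup.mk' K _ = 1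
      rw [map_pow, map_mul, show QuotientGroup.mk' K v = 1 from (QuotientGroup.eq_one_iff v).mpr hv,
        mul_one, ← map_pow, show u ^ p ^ k = 1 from congrArg Subtype.val hk, map_one]
    intro x
    obtain ⟨k, hk⟩ := hq M inf_le_left x x.2
    obtain ⟨l, hl⟩ := hq N inf_le_right x x.2
    refine ⟨k + l, Subtype.ext ?_⟩
    have h : (x : G) ^ p ^ (k + l) ∈ M ⊓ N := Subgroup.mem_inf.mpr
      ⟨by rw [pow_add, pow_mul]; exact pow_mem hk _,
        by rw [pow_add, mul_comm, pow_mul]; exact pow_mem hl _⟩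
    rw [hMN, Subgroup.mem_bot] at h
    exact h
  refine Sylow.ext ?_
  have hP := P.3 hX (le_inf le_sup_left le_sup_left)
  have hQ := Q.3 hX (le_inf (h1 ▸ le_sup_left) (h2 ▸ le_sup_left))
  exact hP.symm.trans hQ

/-- The number of Sylow subgroups of a quotient. -/
theorem card_sylow_quotient {G : Type*} [Group G] [Finite G] {p : ℕ} [Fact p.Prime]
    (M : Subgroup G) [M.Normal] (P : Sylow p G) :
    Nat.card (Sylow p (G ⧸ M)) =
      (Subgroup.normalizer ((P : Subgroup G) : Set G) ⊔ M).index := by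
  let Pb : Sylow p (G ⧸ M) := P.mapSurjective (QuotientGroup.mk'_surjective M)
  rw [Pb.card_eq_index_normalizer]
  have hb : ((Pb : Subgroup (G ⧸ M))) = (P : Subgroup G).map (QuotientGroup.mk' M) := rfl
  have key : Subgroup.normalizer ((Pb : Subgroup (G ⧸ M)) : Set (G ⧸ M)) =
      (Subgroup.normalizer ((P : Subgroup G) : Set G) ⊔ M).map (QuotientGroup.mk' M) := by
    rw [Subgroup.map_sup, QuotientGroup.map_mk'_self, sup_bot_eq, hb]
    refine le_antisymm (fun y hy => ?_) (Subgroup.le_normalizer_map _)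
    obtain ⟨g, rfl⟩ := QuotientGroup.mk'_surjective M y
    let L : Subgroup G := (P : Subgroup G) ⊔ M
    have hcomap : ((P : Subgroup G).map (QuotientGroup.mk' M)).comap (QuotientGroup.mk' M) = L := by
      rw [Subgroup.comap_map_eq, QuotientGroup.ker_mk']
    have hg : g ∈ Subgroup.normalizer (L : Set G) := by
      rw [← hcomap]
      exact Subgroup.le_normalizer_comap (QuotientGroup.mk' M) hy
    have hPL : (P : Subgroup G) ≤ L := le_sup_left
    have hgP : ((g • P : Sylow p G) : Subgroup G) ≤ L := by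
      rintro _ ⟨u, hu, rfl⟩
      exact (Subgroup.mem_normalizer_iff.mp hg u).mp (hPL hu)
    obtain ⟨l, hl⟩ := MulAction.exists_smul_eq L ((g • P).subtype hgP) (P.subtype hPL)
    have hl' : (l : G) • (g • P) = P := Sylow.subtype_injective (hl ▸ (Sylow.smul_subtype hgP l).symm)
    rw [smul_smul, Sylow.smul_eq_iff_mem_normalizer] at hl'
    obtain ⟨u, hu, v, hv, huv⟩ := Subgroup.mem_sup_of_normal_right.mp l.2
    refine ⟨u⁻¹ * (l * g), mul_mem (inv_mem (Subgroup.le_normalizer hu)) hl', ?_⟩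
    rw [← mul_assoc, ← huv, inv_mul_cancel_left, map_mul,
      show QuotientGroup.mk' M v = 1 from (QuotientGroup.eq_one_iff v).mpr hv, one_mul]
  rw [show (Pb : Set (G ⧸ M)) = ((Pb : Subgroup (G ⧸ M)) : Set (G ⧸ M)) from rfl, key, Subgroup.index_map, QuotientGroup.ker_mk', QuotientGroup.range_mk', Subgroup.index_top,
    mul_one, sup_assoc, sup_idem]

/-- Let M and N be nontrivial normal subgroups of the finite group G with M ⊓ N trivial, and let p be a prime. Writing n(X) for the number of Sylow p-subgroups of a group X, one has n(G) · n(G/MN) = n(G/M) · n(G/N). -/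
theorem result {G : Type*} [Group G] [Finite G] (p : ℕ) [Fact p.Prime] (M N : Subgroup G) [M.Normal] [N.Normal] (hM : M ≠ ⊥) (hN : N ≠ ⊥) (hMN : M ⊓ N = ⊥) : Nat.card (Sylow p G) * Nat.card (Sylow p (G ⧸ (M ⊔ N))) = Nat.card (Sylow p (G ⧸ M)) * Nat.card (Sylow p (G ⧸ N)) := by
  let P : Sylow p G := default
  set H := Subgroup.normalizer ((P : Subgroup G) : Set G) with hH
  rw [card_sylow_quotient (M ⊔ N) P, card_sylow_quotient M P, card_sylow_quotient N P,
    P.card_eq_index_normalizer, show Subgroup.normalizer (P : Set G) = H from rfl]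
  have hinf : (H ⊔ M) ⊓ (H ⊔ N) = H := by
    refine le_antisymm (fun g hg => ?_) (le_inf le_sup_left le_sup_left)
    rw [hH]
    show g ∈ Subgroup.normalizer (P : Set G)
    rw [← Sylow.smul_eq_iff_mem_normalizer]
    have key : ∀ (K : Subgroup G) [K.Normal], g ∈ H ⊔ K →
        ((g • P : Sylow p G) : Subgroup G) ⊔ K = (P : Subgroup G) ⊔ K := by
      intro K _ hgK
      have hn : g ∈ Subgroup.normalizer (((P : Subgroup G) ⊔ K : Subgroup G) : Set G) :=
        (sup_le Subgroup.normalizer_le_normalizer_sup_normal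
          (le_sup_right.trans Subgroup.le_normalizer)) hgK
      have h1 : ((P : Subgroup G) ⊔ K).map (MulAut.conj g).toMonoidHom = (P : Subgroup G) ⊔ K :=
        Cfsg.Agent.Lib.Components.mem_normalizer_iff_map_conj.mp hn
      have h2 : K.map (MulAut.conj g).toMonoidHom = K :=
        Cfsg.Agent.Lib.Components.mem_normalizer_iff_map_conj.mp
          (by rw [Subgroup.normalizer_eq_top]; exact Subgroup.mem_top g)
      rw [Subgroup.map_sup, h2] at h1
      exact h1
    exact sylow_eq_of_sup_eq M N hMN (g • P) P (key M (Subgroup.mem_inf.mp hg).1)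
      (key N (Subgroup.mem_inf.mp hg).2)
  have e1 := Subgroup.relIndex_mul_index (le_sup_left : H ⊔ M ≤ H ⊔ M ⊔ N)
  have e2 := Subgroup.relIndex_mul_index (le_sup_left : H ≤ H ⊔ N)
  have e3 : (H ⊔ M).relIndex (H ⊔ M ⊔ N) = H.relIndex (H ⊔ N) := by
    have a1 : ∀ K : Subgroup G, K.relIndex (K ⊔ N) = (K ⊓ N).relIndex N := fun K => by
      have h := Nat.card_congr (QuotientGroup.quotientInfEquivProdNormalQuotient K N).toEquiv
      have cm : ∀ {A B : Subgroup G}, A ≤ B → Nat.card A * A.relIndex B = Nat.card B :=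
        fun {A B} hAB => by
          rw [← Subgroup.relIndex_bot_left A, ← Subgroup.relIndex_bot_left B]
          exact Subgroup.relIndex_mul_relIndex _ _ _ bot_le hAB
      have k1 := cm (le_sup_left : K ≤ K ⊔ N)
      have k2 := cm (le_sup_right : N ≤ K ⊔ N)
      have k3 := cm (inf_le_left : K ⊓ N ≤ K)
      have k4 := cm (inf_le_right : K ⊓ N ≤ N)
      rw [Subgroup.relIndex_sup_right] at k2
      rw [Subgroup.inf_relIndex_left] at k3
      have hN : 0 < Nat.card K := Nat.card_pos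
      have hpos : 0 < N.relIndex K := Nat.pos_of_ne_zero Subgroup.FiniteIndex.index_ne_zero
      apply Nat.eq_of_mul_eq_mul_left (Nat.mul_pos hN (Nat.card_pos (α := ↥(K ⊓ N))))
      calc Nat.card K * Nat.card ↥(K ⊓ N) * K.relIndex (K ⊔ N)
          = Nat.card ↥(K ⊓ N) * (Nat.card N * N.relIndex K) := by rw [k2, ← k1]; ring
        _ = (Nat.card ↥(K ⊓ N) * N.relIndex K) * (Nat.card ↥(K ⊓ N) * (K ⊓ N).relIndex N) := by
            rw [k4]; ring
        _ = _ := by rw [k3]; ring
    rw [a1, a1]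
    congr 1
    refine le_antisymm (fun x hx => ?_) (inf_le_inf_right N le_sup_left)
    obtain ⟨x1, x2⟩ := Subgroup.mem_inf.mp hx
    refine Subgroup.mem_inf.mpr ⟨?_, x2⟩
    rw [← hinf]
    exact Subgroup.mem_inf.mpr ⟨x1, Subgroup.mem_sup_right x2⟩
  rw [← sup_assoc]
  rw [← e2, ← e1, e3]
  ring

end Cfsg.Agent.S3867
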