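import Cfsg.Statements.S3868
import Cfsg.Agent.Lib.Cores.MinimalNonClosed

set_option autoImplicit false
open Cfsg

namespace Cfsg.Agent.S3868

open Cfsg.Agent.Lib.Cores

/-- Structure of the non-simple minimal non-p-closed groups. Call a finite group p-closed when its Sylow p-subgroups are normal, and minimal non-p-closed when it is not p-closed but every proper subgroup and every proper quotient is. If such a group G is not simple, then there is a prime q ≠ p such that G has order p · q^e, where e is the multiplicative order of q modulo p, and G has a normal subgroup A of order q^e that is elementary abelian and is a minimal normal subgroup of G (so G is the semidirect product of A by a group of order p acting irreducibly). -/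
theorem result {G : Type*} [Group G] [Finite G] {p : ℕ} [Fact p.Prime]
    (hnc : ¬ Cfsg.IsPClosed p G) (hsub : ∀ H : Subgroup G, H ≠ ⊤ → Cfsg.IsPClosed p ↥H)
    (hquo : ∀ (N : Subgroup G) [N.Normal], N ≠ ⊥ → Cfsg.IsPClosed p (G ⧸ N)) (hns : ¬ IsSimpleGroup G) :
    ∃ q : ℕ, q.Prime ∧ q ≠ p ∧ Nat.card G = p * q ^ orderOf (q : ZMod p) ∧
      ∃ A : Subgroup G, A.Normal ∧ Nat.card ↥A = q ^ orderOf (q : ZMod p) ∧ Cfsg.IsElementaryAbelian q A ∧
        ∀ B : Subgroup G, B.Normal → B ≤ A → B = ⊥ ∨ B = A := by
  have hp : p.Prime := Fact.out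
  have : Nontrivial G := by
    by_contra h
    rw [not_nontrivial_iff_subsingleton] at h
    exact hnc fun P => by
      rw [Subsingleton.elim (P : Subgroup G) ⊥]
      infer_instance
  -- no nontrivial normal `p`-subgroup
  have hcore : ∀ R : Subgroup G, R.Normal → IsPGroup p R → R = ⊥ := by
    intro R hR hRp
    by_contra hR0
    refine hnc fun P => ?_
    have hle : R ≤ P := by
      obtain ⟨Q, hQ⟩ := hRp.exists_le_sylow
      obtain ⟨g, rfl⟩ := MulAction.exists_smul_eq G Q P
      intro x hx
      refine ⟨g⁻¹ * x * g, hQ (by simpa using hR.conj_mem x hx g⁻¹), ?_⟩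
      simp [mul_assoc]
    have h1 := hquo R hR0 (P.mapSurjective (QuotientGroup.mk'_surjective R))
    have h2 : ((P : Subgroup G).map (QuotientGroup.mk' R)).comap (QuotientGroup.mk' R) = P :=
      Subgroup.comap_map_eq_self ((QuotientGroup.ker_mk' R).le.trans hle)
    rw [← h2]
    exact Subgroup.Normal.comap h1 _
  have hpN : ∀ N : Subgroup G, N.Normal → N ≠ ⊤ → ¬ p ∣ Nat.card N := by
    intro N hN hNt h
    let P : Sylow p N := default
    have hPn := hsub N hNt P
    have : ((P : Subgroup N)).Characteristic := P.characteristic_of_normal hPn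
    have h1 := hcore ((P : Subgroup N).map N.subtype) inferInstance (P.2.map _)
    rw [Subgroup.map_eq_bot_iff_of_injective _ N.subtype_injective] at h1
    have h2 := P.card_eq_multiplicity
    rw [h1, Subgroup.card_bot] at h2
    have h3 := hp.factorization_pos_of_dvd Nat.card_pos.ne' h
    exact absurd h2.symm (Nat.one_lt_pow h3.ne' hp.one_lt).ne'
  obtain ⟨N₀, hN₀, hN₀b, hN₀t⟩ : ∃ N : Subgroup G, N.Normal ∧ N ≠ ⊥ ∧ N ≠ ⊤ := by
    by_contra h
    push Not at h
    exact hns ⟨fun H hH => or_iff_not_imp_left.mpr fun h1 => h H hH h1⟩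
  obtain ⟨N, hNle, hN⟩ := exists_minimal_le_of_wellFoundedLT
    (fun N : Subgroup G => N.Normal ∧ N ≠ ⊥) N₀ ⟨hN₀, hN₀b⟩
  have hNn := hN.prop.1
  have hNt : N ≠ ⊤ := fun h => hN₀t (top_le_iff.mp (h ▸ hNle))
  have hmin : ∀ B : Subgroup G, B.Normal → B ≤ N → B = ⊥ ∨ B = N := fun B hB hle =>
    or_iff_not_imp_left.mpr fun h0 => le_antisymm hle (hN.le_of_le ⟨hB, h0⟩ hle)
  have hN' := hpN N hNn hNt
  let P : Sylow p G := default
  have hPN : N ⊔ (P : Subgroup G) = ⊤ := by
    by_contra h
    have h1 : (N ⊔ (P : Subgroup G)).Normal := by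
      have h2 : ((P : Subgroup G).map (QuotientGroup.mk' N)).comap (QuotientGroup.mk' N) =
          N ⊔ P := by
        rw [Subgroup.comap_map_eq, QuotientGroup.ker_mk', sup_comm]
      rw [← h2]
      exact Subgroup.Normal.comap
        (hquo N hN.prop.2 (P.mapSurjective (QuotientGroup.mk'_surjective N))) _
    refine hnc fun Q => ?_
    have h3 : ¬ p ∣ Nat.card G := fun hd => hpN _ h1 h
      ((P.dvd_card_of_dvd_card hd).trans (Subgroup.card_dvd_of_le le_sup_right))
    have h4 : (Q : Subgroup G) = ⊥ := Subgroup.eq_bot_of_card_eq _ (by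
      rw [Q.card_eq_multiplicity, Nat.factorization_eq_zero_of_not_dvd h3, pow_zero])
    rw [h4]
    infer_instance
  have hidx : N.index = p := by
    have hdvd : N.index ∣ Nat.card P := by
      have h1 : Function.Surjective ((QuotientGroup.mk' N).comp (P : Subgroup G).subtype) := by
        rw [← MonoidHom.range_eq_top, MonoidHom.range_comp, Subgroup.range_subtype]
        rw [← Subgroup.map_top_of_surjective (QuotientGroup.mk' N) (QuotientGroup.mk'_surjective N),
          ← hPN, Subgroup.map_sup, QuotientGroup.map_mk'_self, bot_sup_eq]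
      rw [Subgroup.index_eq_card]
      exact Subgroup.card_dvd_of_surjective _ h1
    obtain ⟨k, hk⟩ := P.2.exists_card_eq
    obtain ⟨m, -, hm⟩ := (Nat.dvd_prime_pow hp).mp (hk ▸ hdvd)
    rcases m with _ | _ | m
    · rw [pow_zero] at hm
      exact absurd (Subgroup.index_eq_one.mp hm) hNt
    · rw [hm, zero_add, pow_one]
    · exfalso
      have hq : IsPGroup p (G ⧸ N) := IsPGroup.of_card (by rw [← Subgroup.index_eq_card, hm])
      have : Group.IsNilpotent (G ⧸ N) := hq.isNilpotent
      have : Nontrivial (G ⧸ N) := by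
        rw [← Finite.one_lt_card_iff_nontrivial, ← Subgroup.index_eq_card, hm]
        exact Nat.one_lt_pow (Nat.succ_ne_zero _) hp.one_lt
      obtain ⟨M, hM, -⟩ := (eq_top_or_exists_le_coatom (⊥ : Subgroup (G ⧸ N))).resolve_left
        bot_ne_top
      have hMn : M.Normal :=
        Subgroup.NormalizerCondition.normal_of_coatom M Group.normalizerCondition_of_isNilpotent hM
      have hMb : M ≠ ⊥ := by
        rintro rfl
        obtain ⟨x, hx⟩ := exists_prime_orderOf_dvd_card' (G := G ⧸ N) p (by
          rw [← Subgroup.index_eq_card, hm]; exact dvd_pow_self p (Nat.succ_ne_zero _))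
        have h1 : Subgroup.zpowers x = ⊤ := hM.2 _ (bot_lt_iff_ne_bot.mpr (by
          rw [Subgroup.zpowers_ne_bot]
          rintro rfl
          rw [orderOf_one] at hx
          exact hp.ne_one hx.symm))
        have h2 := congrArg (fun H : Subgroup (G ⧸ N) => Nat.card H) h1
        simp only [Nat.card_zpowers, hx, Subgroup.card_top] at h2
        rw [← Subgroup.index_eq_card, hm] at h2
        have h4 : p ^ 1 = p ^ (m + 1 + 1) := by rwa [pow_one]
        have h3 := (Nat.pow_right_injective hp.two_le) h4
        omega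
      refine hpN (M.comap (QuotientGroup.mk' N)) (hMn.comap _) (fun h => hM.1 ?_) ?_
      · rw [← Subgroup.map_comap_eq_self_of_surjective (QuotientGroup.mk'_surjective N) M, h,
          Subgroup.map_top_of_surjective _ (QuotientGroup.mk'_surjective N)]
      · obtain ⟨j, hj⟩ := IsPGroup.iff_card.mp (hq.to_subgroup M)
        have hj0 : j ≠ 0 := fun h0 => hMb (Subgroup.eq_bot_of_card_eq _ (by
          rw [hj, h0, pow_zero]))
        have h1 : Function.Surjective ((QuotientGroup.mk' N).subgroupComap M) :=
          (QuotientGroup.mk' N).subgroupComap_surjective_of_surjective M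
            (QuotientGroup.mk'_surjective N)
        exact (hj ▸ dvd_pow_self p hj0).trans (Subgroup.card_dvd_of_surjective _ h1)
  refine minimal_non_closed_structure N hidx hN' hmin hnc fun P' H hH hle => ?_
  have h1 := hsub H hH (P'.subtype hle)
  rw [P'.coe_subtype] at h1
  exact (Subgroup.normal_subgroupOf_iff_le_normalizer hle).mp h1

end Cfsg.Agent.S3868
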