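import Cfsg.Statements.S3869
import Cfsg.Agent.Lib.Cores.MinimalNonClosed

set_option autoImplicit false
open Cfsg

namespace Cfsg.Agent.S3869

/-- Let p and q be distinct primes and G a finite non-abelian group with a normal elementary abelian q-subgroup A that is a minimal normal subgroup of G and has index p. Then A has order q^e with e the multiplicative order of q modulo p, and G is minimal non-p-closed: its Sylow p-subgroups are not normal, while in every proper subgroup and in every proper quotient of G the Sylow p-subgroups are normal. -/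
theorem result {G : Type*} [Group G] [Finite G] {p q : ℕ} [Fact p.Prime] (hq : q.Prime) (hpq : q ≠ p)
    (hna : ¬ IsMulCommutative G) (A : Subgroup G) [A.Normal] (hA : Cfsg.IsElementaryAbelian q A) (hidx : A.index = p)
    (hmin : ∀ B : Subgroup G, B.Normal → B ≤ A → B = ⊥ ∨ B = A) :
    Nat.card ↥A = q ^ orderOf (q : ZMod p) ∧ ¬ Cfsg.IsPClosed p G ∧ (∀ H : Subgroup G, H ≠ ⊤ → Cfsg.IsPClosed p ↥H) ∧
      ∀ (N : Subgroup G) [N.Normal], N ≠ ⊥ → Cfsg.IsPClosed p (G ⧸ N) := by
  have := Fact.mk hq
  have hp : p.Prime := Fact.out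
  have hcard := Cfsg.Agent.Lib.Cores.card_eq_of_minimal_normal hq hpq hna A hA hidx hmin
  have hpA : ¬ p ∣ Nat.card A := fun h => hpq (by
    rw [hcard] at h
    exact ((Nat.prime_dvd_prime_iff_eq hp hq).mp (hp.dvd_of_dvd_pow h)).symm)
  have hG : Nat.card G = p * Nat.card A := by rw [← hidx, A.index_mul_card]
  have hP : ∀ P : Sylow p G, Nat.card P = p := fun P => by
    rw [Sylow.card_eq_multiplicity, hG, Nat.factorization_mul hp.ne_zero Nat.card_pos.ne',
      Finsupp.add_apply, Nat.factorization_eq_zero_of_not_dvd hpA, add_zero,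
      hp.factorization_self, pow_one]
  have hAab : ∀ a ∈ A, ∀ b ∈ A, a * b = b * a := fun a ha b hb =>
    congrArg Subtype.val (hA.1.1.comm (⟨a, ha⟩ : A) ⟨b, hb⟩)
  -- a normal subgroup meeting `A` trivially forces commutativity unless trivial
  have key : ∀ N : Subgroup G, N.Normal → N ⊓ A = ⊥ → N ≠ ⊥ → False := by
    intro N hN hNA hN0
    obtain ⟨t, htN, ht1⟩ : ∃ t ∈ N, t ≠ 1 := by
      by_contra h
      push Not at h
      exact hN0 ((Subgroup.eq_bot_iff_forall N).mpr h)
    have htA : t ∉ A := fun h => ht1 (by
      have h1 : t ∈ N ⊓ A := Subgroup.mem_inf.mpr ⟨htN, h⟩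
      rwa [hNA, Subgroup.mem_bot] at h1)
    have hsup := Cfsg.Agent.Lib.Cores.exists_sup_zpowers A hidx htA
    have hta : ∀ a ∈ A, Commute t a := fun a ha =>
      Subgroup.commute_of_normal_of_disjoint N A hN inferInstance (disjoint_iff.mpr hNA) t a htN ha
    refine hna ⟨⟨fun x y => ?_⟩⟩
    have hle : A ⊔ Subgroup.zpowers t ≤ Subgroup.center G := by
      have hA' : ∀ a ∈ A, ∀ z : G, Commute a z := fun a ha z => by
        have hz : z ∈ A ⊔ Subgroup.zpowers t := hsup ▸ Subgroup.mem_top z
        obtain ⟨b, hb, s, ⟨n, rfl⟩, rfl⟩ := Subgroup.mem_sup_of_normal_left.mp hz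
        exact Commute.mul_right (hAab a ha b hb) ((hta a ha).symm.zpow_right n)
      refine sup_le (fun a ha => Subgroup.mem_center_iff.mpr fun z => (hA' a ha z).symm.eq) ?_
      rw [Subgroup.zpowers_le, Subgroup.mem_center_iff]
      intro z
      have hz : z ∈ A ⊔ Subgroup.zpowers t := hsup ▸ Subgroup.mem_top z
      obtain ⟨b, hb, s, ⟨n, rfl⟩, rfl⟩ := Subgroup.mem_sup_of_normal_left.mp hz
      exact ((hta b hb).symm.mul_left (Commute.zpow_left (Commute.refl t) n)).eq
    exact (Subgroup.mem_center_iff.mp (hle (hsup ▸ Subgroup.mem_top x)) y).symm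
  refine ⟨hcard, fun h => ?_, fun H hH => ?_, fun N _ hN => ?_⟩
  · let P : Sylow p G := default
    refine key P (h P) ?_ fun h0 => ?_
    · refine Cfsg.Agent.Lib.Cores.inf_eq_bot_of_card_coprime ?_
      rw [hP P]
      exact hp.coprime_iff_not_dvd.mpr hpA
    · have h1 := hP P
      rw [h0, Subgroup.card_bot] at h1
      exact hp.ne_one h1.symm
  · by_cases hle : H ≤ A
    · intro P
      have h1 : (P : Subgroup H) = ⊥ := Subgroup.eq_bot_of_card_eq _ (by
        rw [P.card_eq_multiplicity, Nat.factorization_eq_zero_of_not_dvd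
          fun h => hpA (h.trans (Subgroup.card_dvd_of_le hle)), pow_zero])
      rw [h1]
      infer_instance
    · obtain ⟨x, hxH, hxA⟩ := SetLike.not_le_iff_exists.mp hle
      have hsup := Cfsg.Agent.Lib.Cores.exists_sup_zpowers A hidx hxA
      have hn : (H ⊓ A).Normal := by
        rw [← Subgroup.normalizer_eq_top_iff, eq_top_iff, ← hsup]
        refine sup_le (fun a ha => ?_) ?_
        · refine Subgroup.mem_normalizer_iff.mpr fun b => ⟨fun hb => ?_, fun hb => ?_⟩
          · rwa [hAab a ha b hb.2, mul_inv_cancel_right]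
          · have h1 : b ∈ A := by
              have := Subgroup.Normal.conj_mem' inferInstance _ hb.2 a
              simpa [mul_assoc] using this
            rwa [hAab a ha b h1, mul_inv_cancel_right] at hb
        · rw [Subgroup.zpowers_le]
          refine Subgroup.mem_normalizer_iff.mpr fun b => ?_
          simp only [Subgroup.mem_inf]
          refine and_congr ⟨fun hb => mul_mem (mul_mem hxH hb) (inv_mem hxH), fun hb => ?_⟩
            ⟨fun hb => Subgroup.Normal.conj_mem inferInstance b hb x, fun hb => ?_⟩
          · simpa [mul_assoc] using mul_mem (mul_mem (inv_mem hxH) hb) hxH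
          · simpa [mul_assoc] using Subgroup.Normal.conj_mem' inferInstance _ hb x
      rcases hmin _ hn inf_le_right with h | h
      · intro P
        have h1 : (P : Subgroup H) = ⊤ := by
          refine Subgroup.eq_top_of_card_eq _ ?_
          rw [P.card_eq_multiplicity]
          have hinj : Function.Injective ((QuotientGroup.mk' A).comp H.subtype) := by
            rw [injective_iff_map_eq_one]
            intro a ha
            have h2 : (a : G) ∈ H ⊓ A := Subgroup.mem_inf.mpr
              ⟨a.2, (QuotientGroup.eq_one_iff _).mp ha⟩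
            rw [h, Subgroup.mem_bot] at h2
            exact Subtype.ext h2
          have h3 : Nat.card H ∣ p := by
            refine dvd_trans (Subgroup.card_dvd_of_injective _ hinj) ?_
            rw [← Subgroup.index_eq_card, hidx]
          rcases hp.eq_one_or_self_of_dvd _ h3 with h4 | h4
          · rw [h4]; simp
          · rw [h4, hp.factorization_self, pow_one]
        rw [h1]
        infer_instance
      · refine absurd (eq_top_iff.mpr (hsup ▸ sup_le ?_ ?_)) hH
        · exact h ▸ inf_le_left
        · rwa [Subgroup.zpowers_le]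
  · have hAN : A ≤ N := by
      rcases hmin (N ⊓ A) inferInstance inf_le_right with h | h
      · exact (key N inferInstance h hN).elim
      · exact h ▸ inf_le_left
    intro P
    have h1 : (P : Subgroup (G ⧸ N)) = ⊤ := by
      refine Subgroup.eq_top_of_card_eq _ ?_
      rw [P.card_eq_multiplicity]
      have h3 : Nat.card (G ⧸ N) ∣ p := by
        rw [← Subgroup.index_eq_card, ← hidx]
        exact Subgroup.index_dvd_of_le hAN
      rcases hp.eq_one_or_self_of_dvd _ h3 with h4 | h4
      · rw [h4]; simp
      · rw [h4, hp.factorization_self, pow_one]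
    rw [h1]
    infer_instance

end Cfsg.Agent.S3869
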