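import Cfsg.Statements.S3870


set_option autoImplicit false
open Cfsg

namespace Cfsg.Agent.S3870

/-- Let G be a finite simple group whose Sylow p-subgroups are not normal but such that every proper subgroup of G has a normal Sylow p-subgroup. Then any two distinct Sylow p-subgroups of G intersect trivially, and for every Sylow p-subgroup P the normalizer of every non-identity subgroup of P lies in the normalizer of P. -/
theorem result {G : Type*} [Group G] [Finite G] [IsSimpleGroup G] {p : ℕ} [Fact p.Prime]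
    (hnc : ¬ Cfsg.IsPClosed p G) (hsub : ∀ H : Subgroup G, H ≠ ⊤ → Cfsg.IsPClosed p ↥H) :
    (∀ P Q : Sylow p G, P ≠ Q → (P : Subgroup G) ⊓ (Q : Subgroup G) = ⊥) ∧
      ∀ (P : Sylow p G) (R : Subgroup G), R ≤ P → R ≠ ⊥ →
        Subgroup.normalizer (R : Set G) ≤ Subgroup.normalizer ((P : Subgroup G) : Set G) := by
  classical
  have hmain : ∀ n : ℕ, ∀ P Q : Sylow p G, P ≠ Q → (P : Subgroup G) ⊓ (Q : Subgroup G) ≠ ⊥ →
      Nat.card G - Nat.card ↥((P : Subgroup G) ⊓ (Q : Subgroup G)) ≤ n → False := by
    intro n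
    induction n using Nat.strong_induction_on with
    | _ n ih =>
      intro P Q hPQ hD hn
      set D := (P : Subgroup G) ⊓ (Q : Subgroup G) with hDdef
      have hDP : D < (P : Subgroup G) := lt_of_le_of_ne inf_le_left fun e => hPQ (Sylow.ext
        (le_antisymm (inf_eq_left.mp e) ((P.is_maximal' Q.isPGroup' (inf_eq_left.mp e)).le)))
      have hDQ : D < (Q : Subgroup G) := lt_of_le_of_ne inf_le_right fun e => hPQ (Sylow.ext
        (le_antisymm ((Q.is_maximal' P.isPGroup' (inf_eq_right.mp e)).le) (inf_eq_right.mp e)))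
      have hgrow : ∀ R : Sylow p G, D < (R : Subgroup G) →
          ∃ x ∈ Subgroup.normalizer (D : Set G), x ∈ (R : Subgroup G) ∧ x ∉ D := by
        intro R hR
        have := R.isPGroup'.isNilpotent
        have h1 : D.subgroupOf (R : Subgroup G) ≠ ⊤ := fun e =>
          hR.not_ge (Subgroup.subgroupOf_eq_top.mp e)
        have h2 := Group.normalizerCondition_of_isNilpotent (G := (R : Subgroup G)) _
          (lt_top_iff_ne_top.mpr h1)
        obtain ⟨y, hy, hyD⟩ := SetLike.exists_of_lt h2
        refine ⟨y, ?_, y.2, fun h => hyD h⟩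
        rw [Subgroup.mem_normalizer_iff] at hy ⊢
        intro z
        constructor
        · intro hz
          exact (hy ⟨z, hR.le hz⟩).mp hz
        · intro hz
          have hzR : z ∈ (R : Subgroup G) := by
            have := mul_mem (mul_mem (inv_mem y.2) (hR.le hz)) y.2
            simpa [mul_assoc] using this
          exact (hy ⟨z, hzR⟩).mpr hz
      have hND : Subgroup.normalizer (D : Set G) ≠ ⊤ := by
        intro e
        rcases IsSimpleGroup.eq_bot_or_eq_top_of_normal D
          (Subgroup.normalizer_eq_top_iff.mp e) with h | h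
        · exact hD h
        · exact hDP.not_ge (h ▸ le_top)
      set N := Subgroup.normalizer (D : Set G) with hN
      obtain ⟨T⟩ := (Sylow.nonempty : Nonempty (Sylow p N))
      have hTn := hsub N hND T
      have := Sylow.unique_of_normal T hTn
      have hle : ∀ R : Sylow p G, ((R : Subgroup G).subgroupOf N) ≤ (T : Subgroup N) := by
        intro R
        obtain ⟨T', hT'⟩ := (R.isPGroup'.comap_subtype (K := N)).exists_le_sylow
        rwa [Subsingleton.elim T' T] at hT'
      obtain ⟨R, hR⟩ := (T.isPGroup'.map N.subtype).exists_le_sylow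
      have hkey : ∀ S : Sylow p G, D < (S : Subgroup G) → S = R := by
        intro S hS
        obtain ⟨x, hxN, hxS, hxD⟩ := hgrow S hS
        by_contra hne
        have hxR : x ∈ (R : Subgroup G) := hR ⟨⟨x, hxN⟩, hle S hxS, rfl⟩
        have hDN : D ≤ N := Subgroup.le_normalizer
        have hDR : D ≤ (R : Subgroup G) := fun d hd => hR ⟨⟨d, hDN hd⟩, hle S (hS.le hd), rfl⟩
        have hlt : D < (S : Subgroup G) ⊓ (R : Subgroup G) :=
          lt_of_le_of_ne (le_inf hS.le hDR) fun e => hxD (e ▸ ⟨hxS, hxR⟩)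
        have hcard : Nat.card D < Nat.card ↥((S : Subgroup G) ⊓ (R : Subgroup G)) :=
          lt_of_not_ge fun h => hlt.ne (Subgroup.eq_of_le_of_card_ge hlt.le h)
        have hle2 : Nat.card ↥((S : Subgroup G) ⊓ (R : Subgroup G)) ≤ Nat.card G :=
          Subgroup.card_le_card_group _
        exact ih (Nat.card G - Nat.card ↥((S : Subgroup G) ⊓ (R : Subgroup G))) (by omega) S R hne
          (fun h => hD (le_bot_iff.mp (h ▸ hlt.le))) le_rfl
      exact hPQ ((hkey P hDP).trans (hkey Q hDQ).symm)
  have hTI : ∀ P Q : Sylow p G, P ≠ Q → (P : Subgroup G) ⊓ (Q : Subgroup G) = ⊥ :=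
    fun P Q h => by_contra fun h2 => hmain _ P Q h h2 le_rfl
  refine ⟨hTI, fun P R hRP hR g hg => ?_⟩
  refine Sylow.smul_eq_iff_mem_normalizer.mp ?_
  by_contra hne
  refine hR (le_bot_iff.mp ?_)
  rw [← hTI (g • P) P hne]
  refine le_inf ?_ hRP
  intro x hx
  rw [Sylow.coe_subgroup_smul]
  have hg' := inv_mem hg
  rw [Subgroup.mem_normalizer_iff] at hg'
  exact ⟨g⁻¹ * x * g, hRP (by simpa using (hg' x).mp hx), by simp [mul_assoc]⟩

end Cfsg.Agent.S3870
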