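import Cfsg.Statements.S3872
import Cfsg.Agent.Lib.PGroups.Regular
import Cfsg.Agent.S4209

set_option autoImplicit false
open Cfsg

namespace Cfsg.Agent.S3872

/-- Say that a finite group is p-exponent closed when its elements of order dividing p form a subgroup. Let G be a finite p-group that is not p-exponent closed, but all of whose proper subgroups and proper quotients are. Then G is generated by two elements, has nilpotency class at least p, has exponent p², has cyclic center, and has order at least p^(p+1). -/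
theorem result {G : Type*} [Group G] [Finite G] {p : ℕ} [Fact p.Prime] (hG : IsPGroup p G)
    (hnc : ¬ (∃ H : Subgroup G, (H : Set G) = {g : G | g ^ p = 1})) (hsub : ∀ K : Subgroup G, K ≠ ⊤ → (∃ H : Subgroup ↥K, (H : Set ↥K) = {g : ↥K | g ^ p = 1}))
    (hquo : ∀ (N : Subgroup G) [N.Normal], N ≠ ⊥ → (∃ H : Subgroup (G ⧸ N), (H : Set (G ⧸ N)) = {g : (G ⧸ N) | g ^ p = 1})) :
    (∃ x y : G, Subgroup.closure ({x, y} : Set G) = ⊤) ∧ (⊤ : Subgroup G).lowerCentralSeries (p - 1) ≠ ⊥ ∧
      Monoid.exponent G = p ^ 2 ∧ IsCyclic ↥(Subgroup.center G) ∧ p ^ (p + 1) ≤ Nat.card G := by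
  classical
  have hp : p.Prime := Fact.out
  haveI := hG.isNilpotent
  -- two elements of order dividing `p` whose product has larger order
  obtain ⟨x, y, hx, hy, hxy⟩ : ∃ x y : G, x ^ p = 1 ∧ y ^ p = 1 ∧ (x * y) ^ p ≠ 1 := by
    by_contra h
    push Not at h
    exact hnc ⟨{ carrier := {g : G | g ^ p = 1}
                 one_mem' := one_pow p
                 mul_mem' := fun {a b} ha hb => h a b ha hb
                 inv_mem' := fun {a} (ha : a ^ p = 1) => (by rw [Set.mem_setOf_eq, inv_pow, ha, inv_one]) }, rfl⟩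
  have hgen : Subgroup.closure ({x, y} : Set G) = ⊤ := by
    by_contra h
    set K := Subgroup.closure ({x, y} : Set G) with hK
    obtain ⟨H, hH⟩ := hsub K h
    have hxK : x ∈ K := Subgroup.subset_closure (by simp)
    have hyK : y ∈ K := Subgroup.subset_closure (by simp)
    have h1 : (⟨x, hxK⟩ : K) ∈ (H : Set K) := by rw [hH]; exact Subtype.ext hx
    have h2 : (⟨y, hyK⟩ : K) ∈ (H : Set K) := by rw [hH]; exact Subtype.ext hy
    have h3 : (⟨x, hxK⟩ * ⟨y, hyK⟩ : K) ∈ (H : Set K) := mul_mem h1 h2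
    rw [hH] at h3
    exact hxy (congrArg Subtype.val h3)
  have hcl : (⊤ : Subgroup G).lowerCentralSeries (p - 1) ≠ ⊥ := by
    intro h
    have hreg := Cfsg.Agent.S4209.result hG h
    have h1 := (Cfsg.Agent.Lib.PGroups.regular_pow_eq_iff hreg x y⁻¹ 1).mp
      (by rw [pow_one, hx, inv_pow, hy, inv_one])
    rw [pow_one, inv_inv] at h1
    exact hxy h1
  have hne : x * y ≠ y * x := fun h => hxy (by rw [(show Commute x y from h).mul_pow, hx, hy, one_mul])
  haveI : Nontrivial G := ⟨⟨x * y, 1, fun h => hxy (by rw [h, one_pow])⟩⟩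
  -- all `p`-th powers lie in each central subgroup of order `p`
  have hpow : ∀ z : G, z ∈ Subgroup.center G → z ≠ 1 → z ^ p = 1 → ∀ g : G, g ^ p ∈ Subgroup.zpowers z := by
    intro z hz hz1 hzp g
    haveI : (Subgroup.zpowers z).Normal := ⟨fun a ha b => by
      obtain ⟨i, rfl⟩ := Subgroup.mem_zpowers_iff.mp ha
      rw [(Subgroup.mem_center_iff.mp (zpow_mem hz i) b : b * z ^ i = z ^ i * b), mul_inv_cancel_right]
      exact zpow_mem (Subgroup.mem_zpowers z) i⟩
    obtain ⟨H, hH⟩ := hquo (Subgroup.zpowers z) (by simpa [Subgroup.zpowers_eq_bot] using hz1)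
    have hHtop : H.comap (QuotientGroup.mk' (Subgroup.zpowers z)) = ⊤ := by
      rw [eq_top_iff, ← hgen, Subgroup.closure_le]
      rintro a (rfl | rfl)
      · show QuotientGroup.mk' (Subgroup.zpowers z) a ∈ (H : Set _)
        rw [hH, Set.mem_setOf_eq, ← map_pow, hx, map_one]
      · show QuotientGroup.mk' (Subgroup.zpowers z) a ∈ (H : Set _)
        rw [hH, Set.mem_setOf_eq, ← map_pow, hy, map_one]
    have h1 : QuotientGroup.mk' (Subgroup.zpowers z) g ∈ (H : Set _) := by
      have : g ∈ H.comap (QuotientGroup.mk' (Subgroup.zpowers z)) := hHtop ▸ Subgroup.mem_top g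
      exact this
    rw [hH, Set.mem_setOf_eq, ← map_pow] at h1
    exact (QuotientGroup.eq_one_iff _).mp h1
  obtain ⟨z, hzc, hz1, hzp⟩ : ∃ z : G, z ∈ Subgroup.center G ∧ z ≠ 1 ∧ z ^ p = 1 := by
    haveI := hG.center_nontrivial
    obtain ⟨k, hk⟩ := IsPGroup.iff_card.mp (hG.to_subgroup (Subgroup.center G))
    have hk0 : k ≠ 0 := by
      rintro rfl
      have := Finite.one_lt_card (α := Subgroup.center G)
      rw [hk, pow_zero] at this
      omega
    obtain ⟨z, hz⟩ := exists_prime_orderOf_dvd_card' (G := Subgroup.center G) p (hk ▸ dvd_pow_self p hk0)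
    rw [← Subgroup.orderOf_coe] at hz
    refine ⟨z, z.2, fun h => ?_, by rw [← hz, pow_orderOf_eq_one]⟩
    rw [h, orderOf_one] at hz
    exact hp.one_lt.ne hz
  have hexp : Monoid.exponent G = p ^ 2 := by
    have h1 : Monoid.exponent G ∣ p ^ 2 := by
      rw [Monoid.exponent_dvd_iff_forall_pow_eq_one]
      intro g
      obtain ⟨i, hi⟩ := Subgroup.mem_zpowers_iff.mp (hpow z hzc hz1 hzp g)
      rw [pow_two, pow_mul, ← hi, ← zpow_natCast, ← zpow_mul, mul_comm, zpow_mul, zpow_natCast, hzp, one_zpow]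
    obtain ⟨j, hj2, hj⟩ := (Nat.dvd_prime_pow hp).mp h1
    rcases Nat.lt_or_ge j 2 with h | h
    · exfalso
      apply hxy
      have h2 : Monoid.exponent G ∣ p := by
        rw [hj]; exact (pow_dvd_pow p (by omega : j ≤ 1)).trans (by rw [pow_one])
      exact (Monoid.exponent_dvd_iff_forall_pow_eq_one.mp h2) _
    · rw [hj, le_antisymm hj2 h]
  refine ⟨⟨x, y, hgen⟩, hcl, hexp, ?_, ?_⟩
  · -- the center is cyclic
    set w := (x * y) ^ p with hw
    have hwc : w ∈ Subgroup.center G := by
      obtain ⟨i, hi⟩ := Subgroup.mem_zpowers_iff.mp (hpow z hzc hz1 hzp (x * y))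
      rw [hw, ← hi]; exact zpow_mem hzc i
    have hwp : w ^ p = 1 := by
      rw [hw, ← pow_mul, ← pow_two]
      exact (Monoid.exponent_dvd_iff_forall_pow_eq_one.mp hexp.dvd) _
    have hsmall : ∀ e ∈ Subgroup.center G, e ^ p = 1 → e ∈ Subgroup.zpowers w := by
      intro e he hep
      by_cases he1 : e = 1
      · rw [he1]; exact one_mem _
      · have hle : Subgroup.zpowers w ≤ Subgroup.zpowers e :=
          Subgroup.zpowers_le.mpr (hpow e he he1 hep (x * y))
        have hcw : Nat.card (Subgroup.zpowers w) = p := by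
          rw [Nat.card_zpowers]; exact orderOf_eq_prime hwp hxy
        have hce : Nat.card (Subgroup.zpowers e) = p := by
          rw [Nat.card_zpowers]; exact orderOf_eq_prime hep he1
        rw [Subgroup.eq_of_le_of_card_ge hle (le_of_eq (hce.trans hcw.symm))]
        exact Subgroup.mem_zpowers e
    rw [Subgroup.isCyclic_iff_exists_zpowers_eq_top]
    by_cases hall : ∀ c ∈ Subgroup.center G, c ^ p = 1
    · exact ⟨w, le_antisymm (Subgroup.zpowers_le.mpr hwc) (fun c hc => hsmall c hc (hall c hc))⟩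
    · push Not at hall
      obtain ⟨c₀, hc₀, hc₀p⟩ := hall
      refine ⟨c₀, le_antisymm (Subgroup.zpowers_le.mpr hc₀) (fun c hc => ?_)⟩
      have hwmem : w ∈ Subgroup.zpowers c₀ := by
        have h1 : Subgroup.zpowers w ≤ Subgroup.zpowers (c₀ ^ p) := by
          refine Subgroup.zpowers_le.mpr (hpow _ (pow_mem hc₀ p) hc₀p ?_ (x * y))
          rw [← pow_mul, ← pow_two]
          exact (Monoid.exponent_dvd_iff_forall_pow_eq_one.mp hexp.dvd) _
        exact Subgroup.zpowers_le.mpr (pow_mem (Subgroup.mem_zpowers c₀) p) (h1 (Subgroup.mem_zpowers w))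
      obtain ⟨i, hi⟩ : ∃ i : ℤ, (c₀ ^ p) ^ i = c ^ p :=
        Subgroup.mem_zpowers_iff.mp (hpow _ (pow_mem hc₀ p) hc₀p
          (by rw [← pow_mul, ← pow_two]; exact (Monoid.exponent_dvd_iff_forall_pow_eq_one.mp hexp.dvd) _) c)
      have hcomm : Commute c ((c₀ ^ i)⁻¹) := ((Subgroup.mem_center_iff.mp (inv_mem (zpow_mem hc₀ i)) c))
      have he : (c * (c₀ ^ i)⁻¹) ^ p = 1 := by
        rw [hcomm.mul_pow, inv_pow, ← hi, ← zpow_natCast, ← zpow_natCast, ← zpow_mul, ← zpow_mul,
          mul_comm i, mul_inv_cancel]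
      have h2 : c * (c₀ ^ i)⁻¹ ∈ Subgroup.zpowers c₀ :=
        Subgroup.zpowers_le.mpr hwmem (hsmall _ (mul_mem hc (inv_mem (zpow_mem hc₀ i))) he)
      have h3 := mul_mem h2 (zpow_mem (Subgroup.mem_zpowers c₀) i)
      simpa [mul_assoc] using h3
  · -- the order
    set γ := (⊤ : Subgroup G).lowerCentralSeries with hγ
    have hne' : ∀ i, i + 1 ≤ p - 1 → γ (i + 1) < γ i := by
      intro i hi
      refine lt_of_le_of_ne (Subgroup.lowerCentralSeries_antitone (⊤ : Subgroup G) (Nat.le_succ i)) fun heq => ?_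
      have hst : ∀ k, γ (i + k) = γ i := by
        intro k
        induction k with
        | zero => rfl
        | succ k ih =>
          calc γ (i + (k + 1)) = ⁅γ (i + k), (⊤ : Subgroup G)⁆ := rfl
            _ = ⁅γ i, (⊤ : Subgroup G)⁆ := by rw [ih]
            _ = γ (i + 1) := rfl
            _ = γ i := heq
      obtain ⟨n, hn⟩ := Subgroup.nilpotent_iff_lowerCentralSeries.mp (inferInstance : Group.IsNilpotent G)
      have h0 : γ (p - 1) = ⊥ := by
        rw [show p - 1 = i + (p - 1 - i) by omega, hst, ← hst n]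
        exact le_antisymm (le_trans (Subgroup.lowerCentralSeries_antitone (⊤ : Subgroup G) (Nat.le_add_left n i))
          hn.le) bot_le
      exact hcl h0
    have hstep : ∀ i, i + 1 ≤ p - 1 → p * Nat.card (γ (i + 1)) ≤ Nat.card (γ i) := by
      intro i hi
      obtain ⟨a, ha⟩ := IsPGroup.iff_card.mp (hG.to_subgroup (γ (i + 1)))
      obtain ⟨b, hb⟩ := IsPGroup.iff_card.mp (hG.to_subgroup (γ i))
      have hlt : Nat.card (γ (i + 1)) < Nat.card (γ i) := by
        rw [← SetLike.coe_sort_coe, ← SetLike.coe_sort_coe, Nat.card_coe_set_eq, Nat.card_coe_set_eq]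
        exact Set.ncard_lt_ncard (hne' i hi) (Set.toFinite _)
      rw [ha, hb] at hlt ⊢
      have := (Nat.pow_lt_pow_iff_right hp.one_lt).mp hlt
      rw [← pow_succ']
      exact Nat.pow_le_pow_right hp.pos this
    have hchain : ∀ i, i + 1 ≤ p - 1 → p ^ i * Nat.card (γ (1 + i)) ≤ Nat.card (γ 1) := by
      intro i
      induction i with
      | zero => intro _; simp
      | succ i ih =>
        intro hi
        refine le_trans ?_ (ih (by omega))
        rw [pow_succ, mul_assoc]
        exact Nat.mul_le_mul_left _ (hstep (1 + i) (by omega))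
    have h2p := hp.two_le
    have h1 := hchain (p - 2) (by omega)
    rw [show 1 + (p - 2) = p - 1 by omega] at h1
    have h3 : p ≤ Nat.card (γ (p - 1)) := by
      obtain ⟨a, ha⟩ := IsPGroup.iff_card.mp (hG.to_subgroup (γ (p - 1)))
      have : a ≠ 0 := fun h0 => hcl (Subgroup.card_eq_one.mp (by rw [ha, h0, pow_zero]))
      rw [ha]; exact Nat.le_self_pow this p
    have hidx : p * p ≤ (γ 1).index := by
      obtain ⟨k, hk⟩ := hG.index (γ 1)
      rcases Nat.lt_or_ge k 2 with hk2 | hk2
      · exfalso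
        have hD : ∀ a : G, Subgroup.zpowers a ⊔ γ 1 ≠ ⊤ := by
          intro a
          have := Cfsg.Agent.Lib.PGroups.zpowers_sup_commutator_lt (H := (⊤ : Subgroup G))
            (Subgroup.mem_top x) (Subgroup.mem_top y) hne (Subgroup.mem_top a)
          rw [hγ, Subgroup.top_lowerCentralSeries_one, commutator_def]
          exact this.ne
        have hle1 : ∀ a : G, a ∈ γ 1 := by
          intro a
          by_contra ha
          apply hD a
          have hlt : γ 1 < Subgroup.zpowers a ⊔ γ 1 :=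
            lt_of_le_of_ne le_sup_right fun h => ha (h ▸ Subgroup.mem_sup_left (Subgroup.mem_zpowers a))
          have hm := Subgroup.relIndex_mul_index hlt.le
          have hr1 : (γ 1).relIndex (Subgroup.zpowers a ⊔ γ 1) ≠ 1 := fun h =>
            hlt.not_ge (Subgroup.relIndex_eq_one.mp h)
          rw [← Subgroup.index_eq_one]
          have hd : (γ 1).relIndex (Subgroup.zpowers a ⊔ γ 1) ∣ p := by
            refine dvd_trans ⟨_, hm.symm⟩ ?_
            rw [hk]
            exact (pow_dvd_pow p (by omega : k ≤ 1)).trans (by rw [pow_one])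
          rcases (Nat.dvd_prime hp).mp hd with h | h
          · exact absurd h hr1
          · rw [h, hk] at hm
            rcases (show k = 0 ∨ k = 1 by omega) with rfl | rfl
            · exfalso
              rw [pow_zero] at hm
              exact absurd (Nat.eq_one_of_mul_eq_one_right hm) hp.one_lt.ne'
            · rw [pow_one] at hm
              exact (mul_eq_left₀ hp.ne_zero).mp hm
        exact hD 1 (eq_top_iff.mpr fun a _ => Subgroup.mem_sup_right (hle1 a))
      · rw [hk, ← pow_two]; exact Nat.pow_le_pow_right hp.pos hk2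
    rw [← (γ 1).card_mul_index]
    calc p ^ (p + 1) = p ^ (p - 2) * p * (p * p) := by
          rw [← pow_succ, ← pow_two, ← pow_add, show p - 2 + 1 + 2 = p + 1 by omega]
      _ ≤ Nat.card (γ 1) * (γ 1).index :=
          Nat.mul_le_mul (le_trans (Nat.mul_le_mul_left _ h3) h1) hidx

end Cfsg.Agent.S3872
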