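import Cfsg.Statements.S3873
import Cfsg.Agent.Lib.Cores.MinimalNonClosed

set_option autoImplicit false
open Cfsg

namespace Cfsg.Agent.S3873

open Cfsg.Agent.Lib.Cores

/-- Say that a finite group is p-exponent closed when its elements of order dividing p form a subgroup. Let G be a finite group that is not p-exponent closed, but all of whose proper subgroups and proper quotients are, and suppose G is neither simple nor a p-group. Then there is a prime q ≠ p such that G has order p · q^e, where e is the multiplicative order of q modulo p, and G has a normal elementary abelian subgroup of order q^e that is a minimal normal subgroup of G. -/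
theorem result {G : Type*} [Group G] [Finite G] {p : ℕ} [Fact p.Prime]
    (hnc : ¬ (∃ H : Subgroup G, (H : Set G) = {g : G | g ^ p = 1})) (hsub : ∀ K : Subgroup G, K ≠ ⊤ → (∃ H : Subgroup ↥K, (H : Set ↥K) = {g : ↥K | g ^ p = 1}))
    (hquo : ∀ (N : Subgroup G) [N.Normal], N ≠ ⊥ → (∃ H : Subgroup (G ⧸ N), (H : Set (G ⧸ N)) = {g : (G ⧸ N) | g ^ p = 1}))
    (hns : ¬ IsSimpleGroup G) (hnp : ¬ IsPGroup p G) :
    ∃ q : ℕ, q.Prime ∧ q ≠ p ∧ Nat.card G = p * q ^ orderOf (q : ZMod p) ∧
      ∃ A : Subgroup G, A.Normal ∧ Nat.card ↥A = q ^ orderOf (q : ZMod p) ∧ Cfsg.IsElementaryAbelian q A ∧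
        ∀ B : Subgroup G, B.Normal → B ≤ A → B = ⊥ ∨ B = A := by
  have hp : p.Prime := Fact.out
  have : Nontrivial G := by
    by_contra h
    rw [not_nontrivial_iff_subsingleton] at h
    exact hnp fun g => ⟨0, Subsingleton.elim _ _⟩
  have hgen : Subgroup.closure {g : G | g ^ p = 1} = ⊤ := by
    by_contra h
    obtain ⟨H, hH⟩ := hsub _ h
    refine hnc ⟨H.map (Subgroup.closure {g : G | g ^ p = 1}).subtype, ?_⟩
    ext g
    constructor
    · rintro ⟨x, hx, rfl⟩
      have h1 : x ^ p = 1 := (Set.ext_iff.mp hH x).mp hx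
      exact congrArg Subtype.val h1
    · intro hg
      exact ⟨⟨g, Subgroup.subset_closure hg⟩,
        (Set.ext_iff.mp hH _).mpr (Subtype.ext hg), rfl⟩
  have hexp : ∀ N : Subgroup G, N.Normal → N ≠ ⊥ → ∀ x : G, x ^ p ∈ N := by
    intro N hN hN0 x
    obtain ⟨H, hH⟩ := hquo N hN0
    have h1 : Subgroup.closure {g : G | g ^ p = 1} ≤ H.comap (QuotientGroup.mk' N) := by
      refine (Subgroup.closure_le _).mpr fun g hg => (Set.ext_iff.mp hH _).mpr ?_
      show (QuotientGroup.mk' N g) ^ p = 1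
      rw [← map_pow, show g ^ p = 1 from hg, map_one]
    rw [hgen] at h1
    have h2 : (QuotientGroup.mk' N x) ^ p = 1 := (Set.ext_iff.mp hH _).mp (h1 (Subgroup.mem_top x))
    rw [← map_pow] at h2
    exact (QuotientGroup.eq_one_iff _).mp h2
  -- no nontrivial normal `p`-subgroup
  have hcore : ∀ R : Subgroup G, R.Normal → IsPGroup p R → R = ⊥ := by
    intro R hR hRp
    by_contra hR0
    refine hnp fun g => ?_
    obtain ⟨k, hk⟩ := hRp ⟨g ^ p, hexp R hR hR0 g⟩
    exact ⟨k + 1, by rw [pow_succ', pow_mul]; exact congrArg Subtype.val hk⟩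
  have hpN : ∀ N : Subgroup G, N.Normal → N ≠ ⊤ → ¬ p ∣ Nat.card N := by
    intro N hN hNt h
    obtain ⟨H, hH⟩ := hsub N hNt
    have hRn : (H.map N.subtype).Normal := ⟨by
      rintro _ ⟨x, hx, rfl⟩ g
      refine ⟨⟨g * x * g⁻¹, hN.conj_mem x x.2 g⟩, (Set.ext_iff.mp hH _).mpr (Subtype.ext ?_), rfl⟩
      show (g * (x : G) * g⁻¹) ^ p = 1
      rw [conj_pow, show (x : G) ^ p = 1 from congrArg Subtype.val ((Set.ext_iff.mp hH x).mp hx)]
      group⟩
    have h1 := hcore (H.map N.subtype) hRn (by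
      rintro ⟨_, x, hx, rfl⟩
      exact ⟨1, Subtype.ext (by
        rw [pow_one]
        show (x : G) ^ p = 1
        exact congrArg Subtype.val (show x ^ p = 1 from (Set.ext_iff.mp hH x).mp hx))⟩)
    obtain ⟨x, hx⟩ := exists_prime_orderOf_dvd_card' (G := N) p h
    have h2 : (x : G) ∈ H.map N.subtype :=
      ⟨x, (Set.ext_iff.mp hH x).mpr (by show x ^ p = 1; rw [← hx, pow_orderOf_eq_one]), rfl⟩
    rw [h1, Subgroup.mem_bot] at h2
    rw [← Subgroup.orderOf_coe, h2, orderOf_one] at hx
    exact hp.ne_one hx.symm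
  obtain ⟨N₀, hN₀, hN₀b, hN₀t⟩ : ∃ N : Subgroup G, N.Normal ∧ N ≠ ⊥ ∧ N ≠ ⊤ := by
    by_contra h
    push Not at h
    exact hns ⟨fun H hH => or_iff_not_imp_left.mpr fun h1 => h H hH h1⟩
  obtain ⟨N, hNle, hN⟩ := exists_minimal_le_of_wellFoundedLT
    (fun N : Subgroup G => N.Normal ∧ N ≠ ⊥) N₀ ⟨hN₀, hN₀b⟩
  have hNn := hN.prop.1
  have hNt : N ≠ ⊤ := fun h => hN₀t (top_le_iff.mp (h ▸ hNle))
  have hmin : ∀ B : Subgroup G, B.Normal → B ≤ N → B = ⊥ ∨ B = N := fun B hB hle =>
    or_iff_not_imp_left.mpr fun h0 => le_antisymm hle (hN.le_of_le ⟨hB, h0⟩ hle)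
  have hN' := hpN N hNn hNt
  have hquop : IsPGroup p (G ⧸ N) := fun x => by
    obtain ⟨g, rfl⟩ := QuotientGroup.mk'_surjective N x
    exact ⟨1, by rw [pow_one, ← map_pow]; exact (QuotientGroup.eq_one_iff _).mpr (hexp N hNn hN.prop.2 g)⟩
  have hidx : N.index = p := by
    obtain ⟨k, hk⟩ := IsPGroup.iff_card.mp hquop
    obtain ⟨m, hm⟩ : ∃ m, N.index = p ^ m := ⟨k, by rw [Subgroup.index_eq_card, hk]⟩
    rcases m with _ | _ | m
    · rw [pow_zero] at hm
      exact absurd (Subgroup.index_eq_one.mp hm) hNt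
    · rw [hm, zero_add, pow_one]
    · exfalso
      have hq : IsPGroup p (G ⧸ N) := IsPGroup.of_card (by rw [← Subgroup.index_eq_card, hm])
      have : Group.IsNilpotent (G ⧸ N) := hq.isNilpotent
      have : Nontrivial (G ⧸ N) := by
        rw [← Finite.one_lt_card_iff_nontrivial, ← Subgroup.index_eq_card, hm]
        exact Nat.one_lt_pow (Nat.succ_ne_zero _) hp.one_lt
      obtain ⟨M, hM, -⟩ := (eq_top_or_exists_le_coatom (⊥ : Subgroup (G ⧸ N))).resolve_left
        bot_ne_top
      have hMn : M.Normal :=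
        Subgroup.NormalizerCondition.normal_of_coatom M Group.normalizerCondition_of_isNilpotent hM
      have hMb : M ≠ ⊥ := by
        rintro rfl
        obtain ⟨x, hx⟩ := exists_prime_orderOf_dvd_card' (G := G ⧸ N) p (by
          rw [← Subgroup.index_eq_card, hm]; exact dvd_pow_self p (Nat.succ_ne_zero _))
        have h1 : Subgroup.zpowers x = ⊤ := hM.2 _ (bot_lt_iff_ne_bot.mpr (by
          rw [Subgroup.zpowers_ne_bot]
          rintro rfl
          rw [orderOf_one] at hx
          exact hp.ne_one hx.symm))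
        have h2 := congrArg (fun H : Subgroup (G ⧸ N) => Nat.card H) h1
        simp only [Nat.card_zpowers, hx, Subgroup.card_top] at h2
        rw [← Subgroup.index_eq_card, hm] at h2
        have h4 : p ^ 1 = p ^ (m + 1 + 1) := by rwa [pow_one]
        have h3 := (Nat.pow_right_injective hp.two_le) h4
        omega
      refine hpN (M.comap (QuotientGroup.mk' N)) (hMn.comap _) (fun h => hM.1 ?_) ?_
      · rw [← Subgroup.map_comap_eq_self_of_surjective (QuotientGroup.mk'_surjective N) M, h,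
          Subgroup.map_top_of_surjective _ (QuotientGroup.mk'_surjective N)]
      · obtain ⟨j, hj⟩ := IsPGroup.iff_card.mp (hq.to_subgroup M)
        have hj0 : j ≠ 0 := fun h0 => hMb (Subgroup.eq_bot_of_card_eq _ (by
          rw [hj, h0, pow_zero]))
        have h1 : Function.Surjective ((QuotientGroup.mk' N).subgroupComap M) :=
          (QuotientGroup.mk' N).subgroupComap_surjective_of_surjective M
            (QuotientGroup.mk'_surjective N)
        exact (hj ▸ dvd_pow_self p hj0).trans (Subgroup.card_dvd_of_surjective _ h1)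
  have hnc' : ¬ Cfsg.IsPClosed p G := fun h => by
    let P : Sylow p G := default
    have hdvd : p ∣ Nat.card G := hidx ▸ N.index_dvd_card
    refine hpN P (h P) (fun ht => hnp ?_) (P.dvd_card_of_dvd_card hdvd)
    have h1 : IsPGroup p (⊤ : Subgroup G) := ht ▸ P.2
    exact h1.of_equiv Subgroup.topEquiv
  refine minimal_non_closed_structure N hidx hN' hmin hnc' fun P' H hH hle => ?_
  obtain ⟨R, hR⟩ := hsub H hH
  have hG : Nat.card G = p * Nat.card N := by rw [← hidx, N.index_mul_card]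
  have hP : Nat.card P' = p := by
    rw [Sylow.card_eq_multiplicity, hG, Nat.factorization_mul hp.ne_zero Nat.card_pos.ne',
      Finsupp.add_apply, Nat.factorization_eq_zero_of_not_dvd hN', add_zero,
      hp.factorization_self, pow_one]
  have hsubR : (P' : Subgroup G) ≤ R.map H.subtype := fun x hx => by
    refine ⟨⟨x, hle hx⟩, (Set.ext_iff.mp hR _).mpr (Subtype.ext ?_), rfl⟩
    show x ^ p = 1
    have h1 : orderOf (⟨x, hx⟩ : (P' : Subgroup G)) ∣ p := (orderOf_dvd_natCard _).trans hP.dvd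
    rw [← Subgroup.orderOf_coe] at h1
    exact orderOf_dvd_iff_pow_eq_one.mp h1
  have hRp : IsPGroup p (R.map H.subtype) := by
    rintro ⟨_, x, hx, rfl⟩
    exact ⟨1, Subtype.ext (by
      rw [pow_one]
      show (x : G) ^ p = 1
      exact congrArg Subtype.val (show x ^ p = 1 from (Set.ext_iff.mp hR x).mp hx))⟩
  rw [← P'.3 hRp hsubR]
  intro h hh
  refine Subgroup.mem_normalizer_iff.mpr fun b => ?_
  have key : ∀ (u : G), u ∈ H → ∀ b ∈ R.map H.subtype, u * b * u⁻¹ ∈ R.map H.subtype := by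
    rintro u hu _ ⟨x, hx, rfl⟩
    refine ⟨⟨u, hu⟩ * x * ⟨u, hu⟩⁻¹, (Set.ext_iff.mp hR _).mpr ?_, rfl⟩
    show (_ * x * _) ^ p = 1
    rw [conj_pow, show x ^ p = 1 from (Set.ext_iff.mp hR x).mp hx]
    group
  exact ⟨key h hh b, fun hb => by simpa [mul_assoc] using key h⁻¹ (inv_mem hh) _ hb⟩

end Cfsg.Agent.S3873
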