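import Cfsg.Statements.S3875
import Cfsg.Agent.Lib.LeastNonClosed.Simple
import Cfsg.Agent.Lib.Coprime.Action
import Cfsg.Agent.Lib.Cores.PCore
import Cfsg.Agent.Lib.RankOne.ReeRot
import Mathlib.FieldTheory.Finite.GaloisField

set_option autoImplicit false
open Cfsg

namespace Cfsg.Agent.S3875

open Subgroup in
theorem normal_of_map_mk {H : Type*} [Group H] [Finite H] {p : ℕ} [Fact p.Prime] (N : Subgroup H) [N.Normal]
    (hcl : Cfsg.IsPClosed p (H ⧸ N)) (P : Sylow p H) : ((P : Subgroup H) ⊔ N).Normal := by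
  have h := hcl (P.mapSurjective (QuotientGroup.mk'_surjective N))
  rw [Sylow.coe_mapSurjective] at h
  have h' := h.comap (QuotientGroup.mk' N)
  rwa [comap_map_eq, QuotientGroup.ker_mk'] at h'

open Subgroup in
theorem lower_bound (p : ℕ) [hpf : Fact p.Prime] (hp : p ≠ 2) (m : ℕ)
    (hleast : ∀ k : ℕ, IsPrimePow k → k % p = 1 → m ≤ k) :
    ∀ (n : ℕ) (H : Type) [Group H] [Finite H], Nat.card H = n → ¬ Cfsg.IsPClosed p H →
      min (p * m) (p * (p ^ 2 - 1) / 2) ≤ n := by
  classical
  intro n
  induction n using Nat.strong_induction_on with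
  | _ n ih =>
  intro H _ _ hn hcl
  by_contra hlt
  push Not at hlt
  have hsmall : ∀ (K : Type) [Group K] [Finite K], Nat.card K < n → Cfsg.IsPClosed p K := by
    intro K _ _ hK
    by_contra hne
    have := ih _ hK K rfl hne
    omega
  obtain ⟨P, hP⟩ : ∃ P : Sylow p H, ¬ (P : Subgroup H).Normal := by
    unfold Cfsg.IsPClosed at hcl; push Not at hcl; exact hcl
  have hnt : Nontrivial H := by
    by_contra h
    rw [not_nontrivial_iff_subsingleton] at h
    exact hP ⟨fun a _ g => by rw [Subsingleton.elim (g * a * g⁻¹) a]; assumption⟩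
  by_cases hS : IsSimpleGroup H
  · by_cases hab : IsMulCommutative H
    · exact hP ⟨fun a ha g => by rw [hab.is_comm.comm g a, mul_inv_cancel_right]; exact ha⟩
    · by_cases hd : p ∣ Nat.card H
      · have := Lib.LeastNonClosed.card_ge_of_simple hab hp hd
        omega
      · refine hP ?_
        have : (P : Subgroup H) = ⊥ := eq_bot_of_card_eq _ (by
          rw [Sylow.card_eq_multiplicity, Nat.factorization_eq_zero_of_not_dvd hd, pow_zero])
        rw [this]; infer_instance
  obtain ⟨N, hN, hN0, hN1⟩ : ∃ N : Subgroup H, N.Normal ∧ N ≠ ⊥ ∧ N ≠ ⊤ := by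
    by_contra! h
    exact hS ⟨fun N hN => or_iff_not_imp_left.mpr (h N hN)⟩
  have hquot : ∀ M : Subgroup H, M ≠ ⊥ → Nat.card (H ⧸ M) < n := by
    intro M hM
    rw [← hn, M.card_eq_card_quotient_mul_card_subgroup]
    exact lt_mul_of_one_lt_right Nat.card_pos (M.one_lt_card_iff_ne_bot.mpr hM)
  have hsub : ∀ M : Subgroup H, M ≠ ⊤ → Nat.card M < n := fun M hM =>
    hn ▸ lt_of_le_of_ne M.card_le_card_group fun e => hM (eq_top_of_card_eq _ e)
  have hcore : Cfsg.pCore p H = ⊥ := by
    by_contra hc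
    haveI := Cfsg.pCore_normal p H
    have h := normal_of_map_mk (Cfsg.pCore p H) (hsmall _ (hquot _ hc)) P
    rw [sup_eq_left.mpr (Lib.Cores.pCore_le_sylow P)] at h
    exact hP h
  have hNp : ¬ p ∣ Nat.card N := by
    intro hd
    obtain ⟨Q⟩ : Nonempty (Sylow p N) := inferInstance
    have hQ : (Q : Subgroup N).Normal := hsmall _ (hsub N hN1) Q
    have hQc := Q.characteristic_of_normal hQ
    have := Lib.Cores.le_pCore (N := (Q : Subgroup N).map N.subtype) inferInstance (Q.2.map _)
    rw [hcore, le_bot_iff, map_eq_bot_iff_of_injective _ N.subtype_injective] at this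
    exact Q.ne_bot_of_dvd_card hd this
  have hPN : (P : Subgroup H) ⊔ N = ⊤ := by
    by_contra hne
    have hn' := normal_of_map_mk N (hsmall _ (hquot _ hN0)) P
    set Q := P.subtype (le_sup_left : (P : Subgroup H) ≤ (P : Subgroup H) ⊔ N) with hQ
    have hPn : Q.Normal := hsmall _ (hsub _ hne) Q
    have := Q.characteristic_of_normal hPn
    have h3 : ((Q : Subgroup ↥((P : Subgroup H) ⊔ N)).map ((P : Subgroup H) ⊔ N).subtype).Normal :=
      inferInstance
    rw [hQ, Sylow.coe_subtype, subgroupOf_map_subtype, inf_eq_left.mpr le_sup_left] at h3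
    exact hP h3
  obtain ⟨j, hj⟩ := IsPGroup.iff_card.mp P.2
  have hcop : (Nat.card (P : Subgroup H)).Coprime (Nat.card N) := by
    rw [hj]; exact Nat.Coprime.pow_left j (hpf.out.coprime_iff_not_dvd.mpr hNp)
  have hPs : Group.IsSolvable (P : Subgroup H) := by
    haveI := P.2.isNilpotent; infer_instance
  have hnorm : (P : Subgroup H) ≤ normalizer (N : Set H) := by rw [normalizer_eq_top]; exact le_top
  obtain ⟨r, hr, R, hRinv, hRC⟩ : ∃ (r : ℕ) (_ : Fact r.Prime) (R : Sylow r N),
      (P : Subgroup H) ≤ normalizer (((R : Subgroup N).map N.subtype : Subgroup H) : Set H) ∧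
      ¬ (R : Subgroup N).map N.subtype ≤ centralizer ((P : Subgroup H) : Set H) := by
    by_contra! hall
    refine hP (normalizer_eq_top_iff.mp (top_le_iff.mp (hPN ▸ sup_le le_normalizer ?_)))
    have hd : Nat.card N ∣ Nat.card ↥((centralizer ((P : Subgroup H) : Set H)).subgroupOf N) := by
      refine (Nat.factorization_le_iff_dvd Nat.card_pos.ne' Nat.card_pos.ne').mp fun r => ?_
      by_cases hr : r.Prime
      · haveI : Fact r.Prime := ⟨hr⟩
        obtain ⟨R, hR⟩ := Lib.Coprime.exists_invariant_sylow hnorm hcop (Or.inl hPs) r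
        have hle : (R : Subgroup N) ≤ (centralizer ((P : Subgroup H) : Set H)).subgroupOf N :=
          fun x hx => hall r ⟨hr⟩ R hR (mem_map_of_mem _ hx)
        have h1 := card_dvd_of_le hle
        rw [Sylow.card_eq_multiplicity] at h1
        exact (hr.pow_dvd_iff_le_factorization Nat.card_pos.ne').mp h1
      · simp [Nat.factorization_eq_zero_of_not_prime _ hr]
    intro x hx
    have hx' : (⟨x, hx⟩ : N) ∈ (centralizer ((P : Subgroup H) : Set H)).subgroupOf N := by
      rw [eq_top_of_card_eq _ (Nat.dvd_antisymm (card_subgroup_dvd_card _) hd)]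
      exact Subgroup.mem_top _
    exact centralizer_le_normalizer _ hx'
  haveI := hr
  set R' := (R : Subgroup N).map N.subtype with hR'
  letI : MulAction (P : Subgroup H) R' :=
    { smul := fun g x => ⟨g * x * (g : H)⁻¹, (mem_normalizer_iff.mp (hRinv g.2) x).mp x.2⟩
      one_smul := fun x => Subtype.ext (show ((1 : (P : Subgroup H)) : H) * x * ((1 : (P : Subgroup H)) : H)⁻¹ = x by simp)
      mul_smul := fun g g' x => Subtype.ext (show ((g * g' : (P : Subgroup H)) : H) * x * ((g * g' : (P : Subgroup H)) : H)⁻¹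
        = (g : H) * ((g' : H) * x * (g' : H)⁻¹) * (g : H)⁻¹ by simp [mul_assoc]) }
  have hfix := P.2.card_modEq_card_fixedPoints (α := R')
  have hfc : Nat.card (MulAction.fixedPoints (P : Subgroup H) R') =
      Nat.card ↥((centralizer ((P : Subgroup H) : Set H)).subgroupOf R') := by
    refine Nat.card_congr (Equiv.subtypeEquivRight fun x => ?_)
    rw [MulAction.mem_fixedPoints, mem_subgroupOf, mem_centralizer_iff]
    constructor
    · intro h g hg
      have h1 : g * x * g⁻¹ = x := congrArg Subtype.val (h ⟨g, hg⟩)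
      exact mul_inv_eq_iff_eq_mul.mp h1
    · intro h g
      exact Subtype.ext (mul_inv_eq_iff_eq_mul.mpr (h g g.2))
  rw [hfc] at hfix
  obtain ⟨a, ha⟩ := IsPGroup.iff_card.mp (R.2.map N.subtype)
  obtain ⟨b, hba, hb⟩ := (Nat.dvd_prime_pow hr.out).mp
    (ha ▸ card_subgroup_dvd_card ((centralizer ((P : Subgroup H) : Set H)).subgroupOf R'))
  have hne : b ≠ a := fun e => hRC (subgroupOf_eq_top.mp (eq_top_of_card_eq _ (by rw [hb, e, ha])))
  rw [ha, hb] at hfix
  have hrN : r ∣ Nat.card N := by
    have h1 : r ^ a ∣ Nat.card N := by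
      rw [← ha, card_map_of_injective N.subtype_injective]; exact card_subgroup_dvd_card _
    exact (dvd_pow_self r (by omega)).trans h1
  have hrp : Nat.Coprime p (r ^ b) :=
    Nat.Coprime.pow_right b (hpf.out.coprime_iff_not_dvd.mpr fun h => hNp (h.trans hrN))
  have hmod : r ^ (a - b) ≡ 1 [MOD p] := by
    refine Nat.ModEq.cancel_right_of_coprime (c := r ^ b) hrp ?_
    rw [one_mul, ← pow_add, Nat.sub_add_cancel hba]
    exact hfix
  have hm : m ≤ r ^ (a - b) := by
    refine hleast _ (IsPrimePow.pow hr.out.prime.isPrimePow (by omega)) ?_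
    rw [Nat.ModEq, Nat.one_mod_eq_one.mpr (hpf.out.one_lt.ne')] at hmod
    exact hmod
  have hmN : m ≤ Nat.card N := hm.trans ((Nat.pow_le_pow_right hr.out.pos (by omega : a - b ≤ a)).trans
    (Nat.le_of_dvd Nat.card_pos (by
      rw [← ha, card_map_of_injective N.subtype_injective]; exact card_subgroup_dvd_card _)))
  have hj1 : p ≤ Nat.card (P : Subgroup H) := by
    rw [hj]
    rcases Nat.eq_zero_or_pos j with rfl | h
    · exfalso
      refine hP ?_
      rw [eq_bot_of_card_eq (P : Subgroup H) (by rw [hj, pow_zero])]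
      infer_instance
    · exact Nat.le_self_pow h.ne' p
  have hd : Nat.card (P : Subgroup H) * Nat.card N ≤ Nat.card H := Nat.le_of_dvd Nat.card_pos
    (hcop.mul_dvd_of_dvd_of_dvd (card_subgroup_dvd_card _) (card_subgroup_dvd_card _))
  have := Nat.mul_le_mul hj1 hmN
  omega

theorem exists_affine (p : ℕ) [hpf : Fact p.Prime] (m : ℕ) (hm : IsPrimePow m) (hm1 : m % p = 1) :
    ∃ (H : Type) (_ : Group H) (_ : Finite H), Nat.card H = p * m ∧ ¬ Cfsg.IsPClosed p H := by
  classical
  obtain ⟨r, a, hr, ha, rfl⟩ := (isPrimePow_nat_iff _).mp hm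
  haveI : Fact r.Prime := ⟨hr⟩
  have hcard : Nat.card (GaloisField r a) = r ^ a := GaloisField.card r a ha.ne'
  haveI : Finite (GaloisField r a) := Nat.finite_of_card_ne_zero (by rw [hcard]; exact pow_ne_zero _ hr.ne_zero)
  haveI := Fintype.ofFinite (GaloisField r a)
  have hd : p ∣ Nat.card (GaloisField r a)ˣ := by
    rw [Nat.card_units, hcard]
    exact Nat.dvd_of_mod_eq_zero (Nat.sub_mod_eq_zero_of_mod_eq (by rw [hm1, Nat.one_mod_eq_one.mpr hpf.out.one_lt.ne']))
  obtain ⟨ζ, hζ⟩ := exists_prime_orderOf_dvd_card' p hd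
  let act : (GaloisField r a)ˣ →* MulAut (Multiplicative (GaloisField r a)) :=
    { toFun := fun u => AddEquiv.toMultiplicative (AddAut.mulLeft u)
      map_one' := MulEquiv.ext fun x => by
        apply Multiplicative.toAdd.injective
        show ((1 : (GaloisField r a)ˣ) : GaloisField r a) * x.toAdd = x.toAdd
        rw [Units.val_one, one_mul]
      map_mul' := fun u v => MulEquiv.ext fun x => by
        apply Multiplicative.toAdd.injective
        show ((u * v : (GaloisField r a)ˣ) : GaloisField r a) * x.toAdd = (u : GaloisField r a) * ((v : GaloisField r a) * x.toAdd)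
        rw [Units.val_mul, mul_assoc] }
  let φ : Subgroup.zpowers ζ →* MulAut (Multiplicative (GaloisField r a)) :=
    act.comp (Subgroup.zpowers ζ).subtype
  let H := Multiplicative (GaloisField r a) ⋊[φ] Subgroup.zpowers ζ
  haveI : Finite H := Finite.of_equiv _ SemidirectProduct.equivProd.symm
  have hHc : Nat.card H = p * r ^ a := by
    rw [SemidirectProduct.card, Nat.card_congr Multiplicative.toAdd, hcard, Nat.card_zpowers, hζ, mul_comm]
  refine ⟨H, inferInstance, inferInstance, hHc, fun hcl => ?_⟩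
  set Z := (SemidirectProduct.inr : Subgroup.zpowers ζ →* H).range with hZ
  have hZc : Nat.card Z = p := by
    rw [hZ, ← Nat.card_congr (MonoidHom.ofInjective SemidirectProduct.inr_injective).toEquiv,
      Nat.card_zpowers, hζ]
  have hrp : r ≠ p := by
    rintro rfl
    rw [Nat.pow_mod, Nat.mod_self, zero_pow ha.ne', Nat.zero_mod] at hm1
    omega
  have hfac : (Nat.card H).factorization p = 1 := by
    rw [hHc, Nat.factorization_mul hpf.out.ne_zero (pow_ne_zero _ hr.ne_zero), Finsupp.add_apply,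
      hpf.out.factorization_self, hr.factorization_pow, Finsupp.single_eq_of_ne hrp.symm, add_zero]
  let Ps : Sylow p H := Sylow.ofCard Z (by rw [hZc, hfac, pow_one])
  have hn : Z.Normal := hcl Ps
  set x : H := SemidirectProduct.inl (Multiplicative.ofAdd (1 : GaloisField r a)) with hx
  set g : H := SemidirectProduct.inr ⟨ζ, Subgroup.mem_zpowers ζ⟩ with hg
  have hmem : g * x * g⁻¹ * x⁻¹ ∈ Z := by
    have e : g * x * g⁻¹ * x⁻¹ = g * (x * g⁻¹ * x⁻¹) := by group
    rw [e]
    exact Z.mul_mem ⟨_, rfl⟩ (hn.conj_mem _ (Z.inv_mem ⟨_, rfl⟩) x)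
  obtain ⟨z, hz⟩ := hmem
  rw [hg, hx, ← map_inv SemidirectProduct.inr, ← SemidirectProduct.inl_aut, ← map_inv SemidirectProduct.inl, ← map_mul] at hz
  have h1 := congrArg SemidirectProduct.left hz
  simp only [SemidirectProduct.left_inr, SemidirectProduct.left_inl] at h1
  have h2 : φ ⟨ζ, Subgroup.mem_zpowers ζ⟩ (Multiplicative.ofAdd (1 : GaloisField r a)) = Multiplicative.ofAdd 1 := by
    rw [eq_comm, mul_inv_eq_one] at h1; exact h1
  have h3 : (ζ : GaloisField r a) * 1 = 1 := congrArg Multiplicative.toAdd h2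
  rw [mul_one] at h3
  rw [Units.val_eq_one.mp h3, orderOf_one] at hζ
  exact hpf.out.one_lt.ne hζ

/-- Let p be an odd prime and let m be the least prime power congruent to 1 modulo p. Then the least order of a finite group whose Sylow p-subgroups are not normal is the smaller of p · m and p(p² − 1)/2: every finite group whose Sylow p-subgroups are not normal has at least that order, and some group of exactly that order has non-normal Sylow p-subgroups. -/
theorem result (p : ℕ) [Fact p.Prime] (hp : p ≠ 2) (m : ℕ) (hm : IsPrimePow m) (hm1 : m % p = 1)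
    (hleast : ∀ k : ℕ, IsPrimePow k → k % p = 1 → m ≤ k) :
    (∀ (H : Type) [Group H] [Finite H], ¬ Cfsg.IsPClosed p H → min (p * m) (p * (p ^ 2 - 1) / 2) ≤ Nat.card H) ∧
      ∃ (H : Type) (_ : Group H) (_ : Finite H), Nat.card H = min (p * m) (p * (p ^ 2 - 1) / 2) ∧ ¬ Cfsg.IsPClosed p H := by
  classical
  have hp' : p.Prime := Fact.out
  refine ⟨fun H _ _ h => lower_bound p hp m hleast _ H rfl h, ?_⟩
  rcases le_or_gt (p * m) (p * (p ^ 2 - 1) / 2) with hle | hgt
  · rw [min_eq_left hle]
    exact exists_affine p m hm hm1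
  · rw [min_eq_right hgt.le]
    have hp5 : 5 ≤ p := by
      by_contra h
      have h3 : p = 3 := by have := hp'.two_le; interval_cases p <;> first | rfl | omega | (exact absurd hp' (by norm_num))
      subst h3
      have : m ≤ 4 := hleast 4 ⟨2, 2, Nat.prime_two.prime, by norm_num, by norm_num⟩ (by norm_num)
      omega
    haveI : IsSimpleGroup (Matrix.ProjectiveSpecialLinearGroup (Fin 2) (ZMod p)) :=
      Matrix.ProjectiveSpecialLinearGroup.rank_two_simple (by rw [Nat.card_zmod]; omega)
    have hc : 2 * Nat.card (Matrix.ProjectiveSpecialLinearGroup (Fin 2) (ZMod p)) = p * (p ^ 2 - 1) := by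
      have h := Lib.Classical.card_PSL2_mul (F := ZMod p)
      rw [ZMod.card] at h
      have hg : Nat.gcd 2 (p - 1) = 2 := Nat.gcd_eq_left (by
        obtain ⟨i, hi⟩ := hp'.odd_of_ne_two hp
        exact ⟨i, by omega⟩)
      rwa [hg] at h
    refine ⟨Matrix.ProjectiveSpecialLinearGroup (Fin 2) (ZMod p), inferInstance, inferInstance, by omega, fun hcl => ?_⟩
    obtain ⟨P⟩ : Nonempty (Sylow p (Matrix.ProjectiveSpecialLinearGroup (Fin 2) (ZMod p))) := inferInstance
    have hd : p ∣ Nat.card (Matrix.ProjectiveSpecialLinearGroup (Fin 2) (ZMod p)) :=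
      ((hp'.coprime_iff_not_dvd.mpr fun h => hp (((Nat.prime_dvd_prime_iff_eq hp' Nat.prime_two).mp h)))).dvd_of_dvd_mul_left
        (hc ▸ dvd_mul_right _ _)
    have hPn : P.Normal := hcl P
    rcases IsSimpleGroup.eq_bot_or_eq_top_of_normal P.toSubgroup hPn with h | h
    · exact P.ne_bot_of_dvd_card hd h
    · have h1 := IsPGroup.iff_card.mp P.2
      obtain ⟨j, hj⟩ := h1
      rw [h, Subgroup.card_top] at hj
      rw [hj] at hc
      rcases Nat.eq_zero_or_pos j with rfl | hjpos
      · rw [pow_zero] at hc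
        have : 5 ≤ p * (p ^ 2 - 1) := le_trans hp5 (Nat.le_mul_of_pos_right _ (Nat.sub_pos_of_lt (one_lt_pow₀ hp'.one_lt two_ne_zero)))
        omega
      · obtain ⟨i, rfl⟩ : ∃ i, j = i + 1 := ⟨j - 1, by omega⟩
        rw [pow_succ', mul_left_comm] at hc
        have h2 := Nat.eq_of_mul_eq_mul_left hp'.pos hc
        rcases Nat.eq_zero_or_pos i with rfl | hi
        · rw [pow_zero] at h2
          have : 25 ≤ p ^ 2 := Nat.pow_le_pow_left hp5 2
          omega
        · have h3 : p ∣ p ^ 2 - 1 := h2 ▸ dvd_mul_of_dvd_right (dvd_pow_self p hi.ne') 2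
          have h4 : p ∣ p ^ 2 := dvd_pow_self p two_ne_zero
          have h5 := Nat.dvd_sub h4 h3
          rw [show p ^ 2 - (p ^ 2 - 1) = 1 from Nat.sub_sub_self (Nat.one_le_pow _ _ hp'.pos)] at h5
          exact hp'.not_dvd_one h5

end Cfsg.Agent.S3875
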