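import Mathlib
import Cfsg.Statements.S3878
import Cfsg.Agent.Lib.Geometry.Dickson.Global
import Cfsg.Agent.Lib.Geometry.Dickson.MaxExist

set_option autoImplicit false
open Cfsg

namespace Cfsg.Agent.S3878

open Cfsg.Agent.Lib

variable {G : Type*} [Group G] [Finite G]

/-- A maximal `π`-subgroup contains a given `π`-subgroup. -/
theorem exists_maximal (π : Set ℕ) {K : Subgroup G} (hK : Cfsg.IsPiSubgroup π K) :
    ∃ M : Subgroup G, K ≤ M ∧ Maximal (Cfsg.IsPiSubgroup π) M :=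
  Finite.exists_le_maximal hK

theorem isPiSubgroup_of_isPGroup {π : Set ℕ} {p : ℕ} [Fact p.Prime] (hp : p ∈ π) {K : Subgroup G}
    (hK : IsPGroup p K) : Cfsg.IsPiSubgroup π K := by
  intro r hr hd
  obtain ⟨j, hj⟩ := IsPGroup.iff_card.mp hK
  rw [hj] at hd
  rwa [(Nat.prime_dvd_prime_iff_eq hr Fact.out).mp (hr.dvd_of_dvd_pow hd)]

/-- `D_π` implies `E_π`. -/
theorem epi_of_dpi (π : Set ℕ) (h : Cfsg.IsDPiGroup π G) : Cfsg.IsEPiGroup π G := by
  obtain ⟨M, -, hM⟩ := exists_maximal (G := G) π (K := ⊥) (fun r hr hd => by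
    rw [Subgroup.card_bot] at hd; exact absurd (Nat.dvd_one.mp hd) hr.one_lt.ne')
  refine ⟨M, hM.prop, fun r hr hrπ hd => ?_⟩
  have := Fact.mk hr
  obtain ⟨S⟩ : Nonempty (Sylow r G) := inferInstance
  obtain ⟨M', hSM, hM'⟩ := exists_maximal π (isPiSubgroup_of_isPGroup hrπ S.2)
  obtain ⟨g, hg⟩ := h M M' hM hM'
  refine S.not_dvd_index ?_
  refine dvd_trans hd ?_
  have hi : M'.index = M.index := by
    rw [hg]; exact Subgroup.index_map_equiv M (MulAut.conj g)
  rw [← hi]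
  exact Subgroup.index_dvd_of_le hSM

theorem epi_single (π : Set ℕ) (h : ∀ p q : ℕ, p.Prime → q.Prime → p ∈ π → q ∈ π → p = q) :
    Cfsg.IsEPiGroup π G ∧ Cfsg.IsDPiGroup π G := by
  by_cases hex : ∃ p, p.Prime ∧ p ∈ π
  · obtain ⟨p, hp, hpπ⟩ := hex
    have := Fact.mk hp
    have hpi : ∀ K : Subgroup G, Cfsg.IsPiSubgroup π K → IsPGroup p K := fun K hK =>
      IsPGroup.of_card (Nat.eq_prime_pow_of_unique_prime_dvd Nat.card_pos.ne'
        fun {r} hr hd => h r p hr hp (hK r hr hd) hpπ)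
    obtain ⟨S⟩ : Nonempty (Sylow p G) := inferInstance
    refine ⟨⟨S, isPiSubgroup_of_isPGroup hpπ S.2, fun r hr hrπ => h p r hp hr hpπ hrπ ▸ S.not_dvd_index⟩,
      fun H K hH hK => ?_⟩
    obtain ⟨A, hA⟩ := (hpi H hH.prop).exists_le_sylow
    obtain ⟨B, hB⟩ := (hpi K hK.prop).exists_le_sylow
    have eH : H = A := le_antisymm hA (hH.2 (isPiSubgroup_of_isPGroup hpπ A.2) hA)
    have eK : K = B := le_antisymm hB (hK.2 (isPiSubgroup_of_isPGroup hpπ B.2) hB)
    obtain ⟨g, hg⟩ := MulAction.exists_smul_eq G A B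
    exact ⟨g, by rw [eH, eK, ← hg]; rfl⟩
  · push Not at hex
    have hbot : ∀ K : Subgroup G, Cfsg.IsPiSubgroup π K → K = ⊥ := fun K hK =>
      Subgroup.eq_bot_of_card_eq K (by
        by_contra h1
        obtain ⟨r, hr, hd⟩ := Nat.exists_prime_and_dvd h1
        exact hex r hr (hK r hr hd))
    refine ⟨⟨⊥, fun r hr hd => absurd ?_ hr.one_lt.ne', fun r hr hrπ => absurd hrπ (hex r hr)⟩,
      fun H K hH hK => ⟨1, ?_⟩⟩
    · rw [Subgroup.card_bot] at hd; exact Nat.dvd_one.mp hd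
    · rw [hbot H hH.prop, hbot K hK.prop, Subgroup.map_bot]

theorem epi_all (π : Set ℕ) (h : ∀ p : ℕ, p.Prime → p ∈ π) :
    Cfsg.IsEPiGroup π G ∧ Cfsg.IsDPiGroup π G := by
  refine ⟨⟨⊤, fun r hr _ => h r hr, fun r hr _ hd => ?_⟩, fun H K hH hK => ⟨1, ?_⟩⟩
  · rw [Subgroup.index_top] at hd; exact hr.one_lt.ne' (Nat.dvd_one.mp hd)
  · have e : ∀ H : Subgroup G, Maximal (Cfsg.IsPiSubgroup π) H → H = ⊤ := fun H hH =>
      top_le_iff.mp (hH.2 (fun r hr _ => h r hr) le_top)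
    rw [e H hH, e K hK, Subgroup.map_top_of_surjective]
    exact (MulAut.conj (1 : G)).surjective

open Cfsg.Agent.Lib.Geometry.Dickson in
/-- The counterexample: `PSL(2, ℓ)` with `ℓ` prime in a suitable arithmetic progression. -/
theorem no_hall (π : Set ℕ) {p q r : ℕ} (hp : p.Prime) (hq : q.Prime) (hr : r.Prime)
    (hpπ : p ∈ π) (hqπ : q ∈ π) (hrπ : r ∉ π) (hpq : p ≠ q) (hq2 : q ≠ 2) :
    ∃ (G : Type) (_ : Group G) (_ : Finite G), ¬ Cfsg.IsEPiGroup π G := by
  have hrp : r ≠ p := fun e => hrπ (e ▸ hpπ)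
  have hrq : r ≠ q := fun e => hrπ (e ▸ hqπ)
  set A := p ^ 5 * r with hA
  set B := q ^ 5 with hB
  have hAB : A.Coprime B :=
    Nat.Coprime.mul_left (((Nat.coprime_primes hp hq).mpr hpq).pow 5 5)
      (((Nat.coprime_primes hr hq).mpr hrq).pow_right 5)
  have hB0 : 0 < B := by have := hq.pos; positivity
  have hA0 : 0 < A := by have := hp.pos; have := hr.pos; positivity
  obtain ⟨a, ha1, ha2⟩ := Nat.chineseRemainder hAB 1 (B - 1)
  have hcop : a.Coprime (A * B) := by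
    refine Nat.Coprime.mul_right ?_ ?_
    · rw [Nat.coprime_iff_gcd_eq_one, Nat.ModEq.gcd_eq ha1, Nat.gcd_one_left]
    · rw [Nat.coprime_iff_gcd_eq_one, Nat.ModEq.gcd_eq ha2, ← Nat.coprime_iff_gcd_eq_one]
      exact (Nat.coprime_self_sub_left (by omega)).mpr (Nat.coprime_one_left B)
  obtain ⟨l, hl, hlp, hla⟩ := Nat.forall_exists_prime_gt_and_modEq (A * B + 11)
    (Nat.mul_pos hA0 hB0).ne' hcop
  have hlA : A ∣ l - 1 := by
    rw [← Nat.modEq_iff_dvd' hlp.one_le]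
    exact ((hla.of_mul_right B).trans ha1).symm
  have hlB : B ∣ l + 1 := by
    rw [← Nat.modEq_zero_iff_dvd]
    calc l + 1 ≡ B - 1 + 1 [MOD B] := ((hla.of_mul_left A).trans ha2).add_right 1
      _ ≡ 0 [MOD B] := by rw [Nat.sub_add_cancel hB0]; exact (Nat.modEq_zero_iff_dvd.mpr dvd_rfl)
  have := Fact.mk hlp
  refine ⟨Matrix.ProjectiveSpecialLinearGroup (Fin 2) (ZMod l), inferInstance, inferInstance, ?_⟩
  rintro ⟨H, hHπ, hHi⟩
  have hFc : Fintype.card (ZMod l) = l := ZMod.card l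
  have hodd : l % 2 = 1 := Nat.odd_iff.mp (hlp.odd_of_ne_two (by omega))
  have hG : 2 * Nat.card (Matrix.ProjectiveSpecialLinearGroup (Fin 2) (ZMod l)) = l * ((l - 1) * (l + 1)) := by
    have h := card_PSL2 (F := ZMod l)
    rw [hFc] at h
    rwa [Nat.gcd_eq_left (show 2 ∣ l - 1 by omega)] at h
  set n := Nat.card (Matrix.ProjectiveSpecialLinearGroup (Fin 2) (ZMod l)) with hn
  have hpn : p ^ 4 ∣ n := by
    have h5 : p ^ 5 ∣ 2 * n := by
      rw [hG]
      exact ((dvd_mul_right _ r).trans hlA).trans ((dvd_mul_right _ (l + 1)).trans (dvd_mul_left _ l))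
    by_cases h2 : p = 2
    · subst h2
      exact Nat.dvd_of_mul_dvd_mul_left two_pos (by rwa [← pow_succ'])
    · exact (pow_dvd_pow p (by norm_num)).trans
        ((((Nat.coprime_primes hp Nat.prime_two).mpr h2).pow_left 5).dvd_of_dvd_mul_left h5)
  have hqn : q ^ 5 ∣ n := by
    refine (((Nat.coprime_primes hq Nat.prime_two).mpr hq2).pow_left 5).dvd_of_dvd_mul_left (?_ : q ^ 5 ∣ 2 * n)
    rw [hG]
    exact hlB.trans ((dvd_mul_left _ (l - 1)).trans (dvd_mul_left _ l))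
  have hrn : r ∣ n := by
    have h1 : r ∣ l - 1 := (dvd_mul_left r _).trans hlA
    obtain ⟨k, hk⟩ : 2 ∣ l + 1 := by omega
    have e : n = l * ((l - 1) * k) := Nat.eq_of_mul_eq_mul_left two_pos (by rw [hG, hk]; ring)
    rw [e]
    exact (h1.trans (dvd_mul_right _ k)).trans (dvd_mul_left _ l)
  have hm := H.card_mul_index
  rw [← hn] at hm
  have hpart : ∀ (s j : ℕ), s.Prime → s ∈ π → s ^ j ∣ n → s ^ j ∣ Nat.card H := by
    intro s j hs hsπ hd
    rw [← hm] at hd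
    exact (((hs.coprime_iff_not_dvd).mpr (hHi s hs hsπ)).pow_left j).dvd_of_dvd_mul_right hd
  have hpH : p ^ 4 ∣ Nat.card H := hpart p 4 hp hpπ hpn
  have hqH : q ^ 5 ∣ Nat.card H := hpart q 5 hq hqπ hqn
  have hHtop : H ≠ ⊤ := fun e => hrπ (hHπ r hr (by rw [e, Subgroup.card_top]; exact hrn))
  have hno : ∀ m, (m ∣ l - 1 ∨ m ∣ l + 1) → Nat.card H ∣ m → False := by
    intro m hm hd
    rcases hm with hm | hm
    · have h1 : q ∣ l - 1 := ((dvd_pow_self q (by norm_num : (5 : ℕ) ≠ 0)).trans hqH).trans (hd.trans hm)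
      have h2 : q ∣ l + 1 := (dvd_pow_self q (by norm_num : (5 : ℕ) ≠ 0)).trans hlB
      have h3 := Nat.dvd_sub h2 h1
      rw [show l + 1 - (l - 1) = 2 by omega] at h3
      exact hq2 ((Nat.prime_dvd_prime_iff_eq hq Nat.prime_two).mp h3)
    · have h1 : p ^ 2 ∣ l + 1 := ((pow_dvd_pow p (by norm_num)).trans hpH).trans (hd.trans hm)
      have h2 : p ^ 2 ∣ l - 1 := ((pow_dvd_pow p (by norm_num)).trans (dvd_mul_right _ r)).trans hlA
      have h3 := Nat.dvd_sub h1 h2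
      rw [show l + 1 - (l - 1) = 2 by omega] at h3
      have := Nat.le_of_dvd two_pos h3
      have := hp.two_le
      have : 2 ^ 2 ≤ p ^ 2 := Nat.pow_le_pow_left this 2
      omega
  have hbig : ¬ Nat.card H ≤ 60 := fun h => by
    have h1 := Nat.le_of_dvd Nat.card_pos hqH
    have := Nat.pow_le_pow_left (show 3 ≤ q by have := hq.two_le; omega) 5
    omega
  have hd2 : Nat.gcd 2 (Fintype.card (ZMod l) - 1) = 2 := by
    rw [hFc]; exact Nat.gcd_eq_left (show 2 ∣ l - 1 by omega)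
  rcases subType l H with ⟨k, hkd, -, h⟩ | ⟨k, hkd, ⟨e⟩⟩ | ⟨S, h⟩ | ⟨⟨e⟩⟩ | ⟨⟨e⟩⟩ | ⟨⟨e⟩⟩ | ⟨K, hK⟩
  · rw [hd2, hFc] at hkd
    refine hno k ?_ (h ▸ dvd_rfl)
    rcases hkd with hk | hk
    · exact Or.inr (hk.trans (Nat.div_dvd_of_dvd (by omega)))
    · exact Or.inl (hk.trans (Nat.div_dvd_of_dvd (by omega)))
  · rw [hd2, hFc] at hkd
    refine hno (2 * k) ?_ (by rw [Nat.card_congr e.toEquiv, DihedralGroup.nat_card])
    rcases hkd with hk | hk
    · exact Or.inr ((Nat.mul_dvd_mul_left 2 hk).trans (by rw [Nat.mul_div_cancel' (by omega)]))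
    · exact Or.inl ((Nat.mul_dvd_mul_left 2 hk).trans (by rw [Nat.mul_div_cancel' (by omega)]))
  · have hN := index_normalizer_sylow l S
    have hc := (Subgroup.normalizer ((S : Subgroup (Matrix.ProjectiveSpecialLinearGroup (Fin 2) (ZMod l))) :
      Set (Matrix.ProjectiveSpecialLinearGroup (Fin 2) (ZMod l)))).card_mul_index
    rw [hN, hFc, ← hn] at hc
    have hdiv : Nat.card H * (l + 1) ∣ n := hc ▸ Nat.mul_dvd_mul_right (Subgroup.card_dvd_of_le h) _
    have h1 : q ^ 5 * (l + 1) ∣ 2 * n := ((Nat.mul_dvd_mul_right hqH _).trans hdiv).trans (dvd_mul_left n 2)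
    rw [hG, ← mul_assoc] at h1
    have h2 : q ∣ l * (l - 1) :=
      (dvd_pow_self q (by norm_num : (5 : ℕ) ≠ 0)).trans (Nat.dvd_of_mul_dvd_mul_right (by omega) h1)
    rcases hq.dvd_mul.mp h2 with h3 | h3
    · have := (Nat.prime_dvd_prime_iff_eq hq hlp).mp h3
      have h4 : B ≤ A * B := Nat.le_mul_of_pos_left B hA0
      have := Nat.le_self_pow (by norm_num : (5 : ℕ) ≠ 0) q
      omega
    · have h4 : q ∣ l + 1 := (dvd_pow_self q (by norm_num : (5 : ℕ) ≠ 0)).trans hlB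
      have h5 := Nat.dvd_sub h4 h3
      rw [show l + 1 - (l - 1) = 2 by omega] at h5
      exact hq2 ((Nat.prime_dvd_prime_iff_eq hq Nat.prime_two).mp h5)
  · exact hbig (by rw [Nat.card_congr e.toEquiv, Nat.card_eq_fintype_card]; decide)
  · exact hbig (by rw [Nat.card_congr e.toEquiv, Nat.card_eq_fintype_card, Fintype.card_perm]; decide)
  · exact hbig (by rw [Nat.card_congr e.toEquiv, Nat.card_eq_fintype_card]; decide)
  · refine hHtop (eq_top_of_subfield_top K ?_ hK)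
    by_contra hK0
    have h1 := sq_le_of_subfield K hK0
    rw [hFc] at h1
    have h2 : l ∣ Nat.card K := by
      have hch : CharP K l := K.subtype.charP K.subtype.injective l
      have := Fintype.ofFinite K
      obtain ⟨m, -, hm⟩ := FiniteField.card K l
      rw [Nat.card_eq_fintype_card, hm]
      exact dvd_pow_self l m.ne_zero
    have h3 := Nat.le_of_dvd Nat.card_pos h2
    have h4 := Nat.pow_le_pow_left h3 2
    have h5 : 2 * l ≤ l ^ 2 := by rw [pow_two]; exact Nat.mul_le_mul_right l hlp.two_le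
    omega

theorem exists_bad (π : Set ℕ)
    (h : ¬ ((∀ p q : ℕ, p.Prime → q.Prime → p ∈ π → q ∈ π → p = q) ∨ ∀ p : ℕ, p.Prime → p ∈ π)) :
    ∃ (G : Type) (_ : Group G) (_ : Finite G), ¬ Cfsg.IsEPiGroup π G := by
  push Not at h
  obtain ⟨⟨p, q, hp, hq, hpπ, hqπ, hpq⟩, r, hr, hrπ⟩ := h
  by_cases hq2 : q = 2
  · exact no_hall π hq hp hr hqπ hpπ hrπ hpq.symm (fun e => hpq (e.trans hq2.symm))
  · exact no_hall π hp hq hr hpπ hqπ hrπ hpq hq2

/-- For a set of primes π the following are equivalent: every finite group has a Hall π-subgroup; in every finite group the maximal π-subgroups are pairwise conjugate; π contains at most one prime or contains every prime. -/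
theorem result (π : Set ℕ) :
    ((∀ (G : Type) [Group G] [Finite G], Cfsg.IsEPiGroup π G) ↔
      ((∀ p q : ℕ, p.Prime → q.Prime → p ∈ π → q ∈ π → p = q) ∨ ∀ p : ℕ, p.Prime → p ∈ π)) ∧
    ((∀ (G : Type) [Group G] [Finite G], Cfsg.IsDPiGroup π G) ↔
      ((∀ p q : ℕ, p.Prime → q.Prime → p ∈ π → q ∈ π → p = q) ∨ ∀ p : ℕ, p.Prime → p ∈ π)) := by
  constructor <;> constructor
  · intro h
    by_contra hc
    obtain ⟨G, _, _, hG⟩ := exists_bad π hc
    exact hG (h G)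
  · rintro (h | h) G _ _
    · exact (epi_single π h).1
    · exact (epi_all π h).1
  · intro h
    by_contra hc
    obtain ⟨G, _, _, hG⟩ := exists_bad π hc
    exact hG (epi_of_dpi π (h G))
  · rintro (h | h) G _ _
    · exact (epi_single π h).2
    · exact (epi_all π h).2

end Cfsg.Agent.S3878
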