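import Cfsg.Statements.S3884
import Cfsg.Agent.Lib.Metacyclic.Main
import Cfsg.Agent.Lib.Solvable.Products

set_option autoImplicit false
open Cfsg

namespace Cfsg.Agent.S3884

open Cfsg.Agent.Lib.Metacyclic
open scoped Pointwise

theorem finish {G : Type*} [Group G] [Finite G] (x y : G)
    (hinf : Subgroup.zpowers x ⊓ Subgroup.zpowers y = ⊥)
    (hgen : ∀ g : G, g ∈ (Subgroup.zpowers x : Set G) * (Subgroup.zpowers y : Set G)) :
    ∃ A B : Subgroup G, IsCyclic ↥A ∧ IsCyclic ↥B ∧ A ⊓ B = ⊥ ∧ Nat.card ↥A * Nat.card ↥B = Nat.card G := by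
  refine ⟨Subgroup.zpowers x, Subgroup.zpowers y, Subgroup.isCyclic_zpowers x, Subgroup.isCyclic_zpowers y, hinf, ?_⟩
  rw [← Cfsg.Agent.Lib.Solvable.Products.card_mul_set_mul_card_inf, hinf, Subgroup.card_bot, mul_one,
    Set.eq_univ_of_forall hgen, Nat.card_coe_set_eq, Set.ncard_univ]

/-- Let p be an odd prime and G a finite metacyclic p-group (G has a cyclic normal subgroup with cyclic quotient). Then G is the product of two cyclic subgroups with trivial intersection: there are cyclic subgroups A and B with A ∩ B = 1 and |A| · |B| = |G|. -/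
theorem result {G : Type*} [Group G] [Finite G] {p : ℕ} [Fact p.Prime] (hp : p ≠ 2) (hG : IsPGroup p G) (hmc : Cfsg.IsMetacyclic G) : ∃ A B : Subgroup G, IsCyclic ↥A ∧ IsCyclic ↥B ∧ A ⊓ B = ⊥ ∧ Nat.card ↥A * Nat.card ↥B = Nat.card G := by
  obtain ⟨n, -, ⟨D⟩⟩ := exists_data hp hG hmc
  classical
  have hpp := (Fact.out : p.Prime)
  obtain ⟨α, hα⟩ := D.isPPow D.a
  haveI := neZero_pow p α
  have haeq : ∀ x y : ℕ, D.a ^ x = D.a ^ y ↔ (x : ZMod (p ^ α)) = y := fun x y => by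
    rw [pow_eq_pow_iff_modEq, hα, ZMod.natCast_eq_natCast_iff]
  obtain ⟨e, he⟩ := D.isPPow D.b
  have hexB : ∃ β, D.b ^ p ^ β ∈ Subgroup.zpowers D.a := ⟨e, by rw [← he, pow_orderOf_eq_one]; exact one_mem _⟩
  set β := Nat.find hexB with hβ
  have hβspec := Nat.find_spec hexB
  have hmin : ∀ m : ℕ, D.b ^ m ∈ Subgroup.zpowers D.a → p ^ β ∣ m := by
    intro m hm
    rcases Nat.eq_zero_or_pos m with rfl | hm0
    · exact dvd_zero _
    obtain ⟨v, u, hu, rfl⟩ := Nat.exists_eq_pow_mul_and_not_dvd hm0.ne' p hpp.ne_one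
    refine (pow_dvd_pow p (Nat.find_min' hexB ?_)).mul_right u
    obtain ⟨w, hw⟩ := Nat.exists_mul_mod_eq_one_of_coprime (k := p ^ (e + 1))
      (Nat.Coprime.pow_right _ (hpp.coprime_iff_not_dvd.mpr hu).symm) (Nat.one_lt_pow (Nat.succ_ne_zero e) hpp.one_lt)
    have h1 := pow_mem hm w
    have h3 : D.b ^ (p ^ v * u * w) = D.b ^ p ^ v := by
      rw [pow_eq_pow_iff_modEq, he, mul_assoc]
      have h4 : u * w ≡ 1 [MOD p ^ (e + 1)] := by
        unfold Nat.ModEq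
        rw [hw.2, Nat.one_mod_eq_one.mpr (Nat.one_lt_pow (Nat.succ_ne_zero e) hpp.one_lt).ne']
      simpa using (h4.of_dvd (pow_dvd_pow p (Nat.le_succ e))).mul_left (p ^ v)
    rwa [← pow_mul, h3] at h1
  obtain ⟨l, hl⟩ := (Submonoid.mem_powers_iff _ _).mp (mem_powers_iff_mem_zpowers.mpr hβspec)
  have hpow : ∀ j i k : ℕ, (D.a ^ j * D.b ^ i) ^ k = D.a ^ (j * gsum (D.r ^ i) k) * D.b ^ (i * k) := by
    intro j i k
    induction k with
    | zero => simp [gsum]
    | succ k ih =>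
      rw [pow_succ, ih, D.mul_eq, Nat.mul_succ]
      congr 2
      rw [gsum_succ, ← pow_mul]; ring
  have hsurj : ∀ (x : ℕ), (x : ZMod p) = 1 → ∀ z : ZMod (p ^ α), ∃ m : ℕ, (gsum x m : ZMod (p ^ α)) = z :=
    fun x hx z => gsum_surjective hp hx α z
  by_cases hlβ : p ^ β ∣ l
  · -- change b
    obtain ⟨u, hu, hG'⟩ := gsum_prime_pow hp D.r_cast β 1 hpp.not_dvd_one
    rw [mul_one] at hG'
    obtain ⟨l', rfl⟩ := hlβ
    obtain ⟨t, ht⟩ : ∃ t : ℕ, (t : ZMod (p ^ α)) * u = -(l' : ZMod (p ^ α)) :=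
      ⟨(-(l' : ZMod (p ^ α)) * (isUnit_natCast (n := α) hu).unit⁻¹.val).val, by
        rw [ZMod.natCast_zmod_val, mul_assoc, IsUnit.val_inv_mul, mul_one]⟩
    set b' := D.a ^ t * D.b ^ 1 with hb'
    have hb'M : b' ^ p ^ β = 1 := by
      rw [hb', hpow, pow_one, one_mul, ← hl, ← pow_add, hG', ← pow_zero D.a, haeq]
      push_cast
      linear_combination (p : ZMod (p ^ α)) ^ β * ht
    refine finish D.a b' ?_ ?_
    · rw [eq_bot_iff]
      rintro x ⟨hxa, hxb⟩
      obtain ⟨k, rfl⟩ := (Submonoid.mem_powers_iff _ _).mp (mem_powers_iff_mem_zpowers.mpr hxb)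
      rw [SetLike.mem_coe, hb', hpow, one_mul] at hxa
      have h1 : D.b ^ k ∈ Subgroup.zpowers D.a := by
        have := mul_mem (inv_mem (pow_mem (Subgroup.mem_zpowers D.a) (t * gsum (D.r ^ 1) k))) hxa
        rwa [inv_mul_cancel_left] at this
      obtain ⟨q, rfl⟩ := hmin k h1
      rw [Subgroup.mem_bot, pow_mul, hb'M, one_pow]
    · intro g
      obtain ⟨j, i, rfl⟩ := D.gen g
      refine Set.mem_mul.mpr ⟨D.a ^ j * (D.a ^ (t * gsum D.r i))⁻¹,
        mul_mem (pow_mem (Subgroup.mem_zpowers _) _) (inv_mem (pow_mem (Subgroup.mem_zpowers _) _)),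
        b' ^ i, pow_mem (Subgroup.mem_zpowers _) i, ?_⟩
      rw [hb', hpow, pow_one, one_mul, mul_assoc, inv_mul_cancel_left]
  · -- change a
    have hl0 : l ≠ 0 := fun h => hlβ (h ▸ dvd_zero _)
    obtain ⟨v, l', hl', rfl⟩ := Nat.exists_eq_pow_mul_and_not_dvd hl0 p hpp.ne_one
    have hvβ : v < β := by
      by_contra h
      exact hlβ ((pow_dvd_pow p (not_lt.mp h)).mul_right _)
    rcases le_or_gt α v with hαv | hvα
    · -- then b already has order p ^ β
      have hbM : D.b ^ p ^ β = 1 := by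
        rw [← hl, ← pow_zero D.a, haeq, Nat.cast_mul, Nat.cast_pow, pow_eq_zero' (p := p) hαv, zero_mul, Nat.cast_zero]
      refine finish D.a D.b ?_ fun g => ?_
      · rw [eq_bot_iff]
        rintro x ⟨hxa, hxb⟩
        obtain ⟨k, rfl⟩ := (Submonoid.mem_powers_iff _ _).mp (mem_powers_iff_mem_zpowers.mpr hxb)
        obtain ⟨q, rfl⟩ := hmin k hxa
        rw [Subgroup.mem_bot, pow_mul, hbM, one_pow]
      · obtain ⟨j, i, rfl⟩ := D.gen g
        exact Set.mul_mem_mul (pow_mem (Subgroup.mem_zpowers _) j) (pow_mem (Subgroup.mem_zpowers _) i)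
    set i₀ := p ^ (β - v) with hi₀
    have hr₀ : ((D.r ^ i₀ : ℕ) : ZMod p) = 1 := pow_cast_one D.r_cast _
    obtain ⟨u, hu, hG'⟩ := gsum_prime_pow hp hr₀ v 1 hpp.not_dvd_one
    rw [mul_one] at hG'
    have hju : IsUnit (-(l' : ZMod (p ^ α)) * (isUnit_natCast (n := α) hu).unit⁻¹.val) :=
      (isUnit_natCast (n := α) hl').neg.mul (Units.isUnit _)
    obtain ⟨j, hj, hjunit⟩ : ∃ j : ℕ, (j : ZMod (p ^ α)) * u = -(l' : ZMod (p ^ α)) ∧ IsUnit (j : ZMod (p ^ α)) :=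
      ⟨(-(l' : ZMod (p ^ α)) * (isUnit_natCast (n := α) hu).unit⁻¹.val).val, by
        rw [ZMod.natCast_zmod_val, mul_assoc, IsUnit.val_inv_mul, mul_one], by
        rw [ZMod.natCast_zmod_val]; exact hju⟩
    set a' := D.a ^ j * D.b ^ i₀ with ha'
    have hi0v : i₀ * p ^ v = p ^ β := by rw [hi₀, ← pow_add, Nat.sub_add_cancel hvβ.le]
    have ha'M : a' ^ p ^ v = 1 := by
      rw [ha', hpow, hi0v, ← hl, ← pow_add, hG', ← pow_zero D.a, haeq]
      push_cast
      linear_combination (p : ZMod (p ^ α)) ^ v * hj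
    refine finish a' D.b ?_ ?_
    · rw [eq_bot_iff]
      rintro x ⟨hxa, hxb⟩
      obtain ⟨m, rfl⟩ := (Submonoid.mem_powers_iff _ _).mp (mem_powers_iff_mem_zpowers.mpr hxa)
      obtain ⟨y, hy⟩ := (Submonoid.mem_powers_iff _ _).mp (mem_powers_iff_mem_zpowers.mpr hxb)
      rw [ha', hpow] at hy
      obtain ⟨q, hq⟩ : ∃ q : ℕ, D.b ^ y * (D.b ^ (i₀ * m))⁻¹ = D.b ^ q := by
        refine (Submonoid.mem_powers_iff _ _).mp (mem_powers_iff_mem_zpowers.mpr ?_) |>.imp fun q h => h.symm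
        exact mul_mem (pow_mem (Subgroup.mem_zpowers _) _) (inv_mem (pow_mem (Subgroup.mem_zpowers _) _))
      have h1 : D.b ^ q = D.a ^ (j * gsum (D.r ^ i₀) m) := by rw [← hq, hy, mul_inv_cancel_right]
      obtain ⟨c, rfl⟩ := hmin q (h1 ▸ pow_mem (Subgroup.mem_zpowers _) _)
      rw [pow_mul, ← hl, ← pow_mul, haeq] at h1
      have h2 : (p : ZMod (p ^ α)) ^ v * ((l' : ZMod (p ^ α)) * c) = j * (gsum (D.r ^ i₀) m : ℕ) := by
        push_cast at h1; linear_combination h1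
      have h4 : ((gsum (D.r ^ i₀) m : ℕ) : ZMod (p ^ v)) = 0 := by
        have h5 := congrArg (ZMod.castHom (pow_dvd_pow p hvα.le) (ZMod (p ^ v))) h2
        rw [map_mul, map_mul, map_pow, map_natCast, map_mul, map_natCast, map_natCast,
          pow_eq_zero' (p := p) le_rfl, zero_mul] at h5
        have hjv : IsUnit (j : ZMod (p ^ v)) := by
          have := hjunit.map (ZMod.castHom (pow_dvd_pow p hvα.le) (ZMod (p ^ v)))
          rwa [map_natCast] at this
        rw [map_natCast] at h5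
        simpa using (hjv.mul_right_eq_zero).mp h5.symm
      rw [ZMod.natCast_eq_zero_iff, dvd_gsum_iff hp hr₀] at h4
      obtain ⟨k, rfl⟩ := h4
      rw [Subgroup.mem_bot, pow_mul, ha'M, one_pow]
    · intro g
      obtain ⟨x, y, rfl⟩ := D.gen g
      obtain ⟨m, hm⟩ := hsurj _ hr₀ ((x : ZMod (p ^ α)) * hjunit.unit⁻¹.val)
      refine Set.mem_mul.mpr ⟨a' ^ m, pow_mem (Subgroup.mem_zpowers _) m, (D.b ^ (i₀ * m))⁻¹ * D.b ^ y,
        mul_mem (inv_mem (pow_mem (Subgroup.mem_zpowers _) _)) (pow_mem (Subgroup.mem_zpowers _) _), ?_⟩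
      rw [ha', hpow, mul_assoc, mul_inv_cancel_left]
      congr 1
      rw [haeq, Nat.cast_mul, hm, mul_comm (x : ZMod (p ^ α)), ← mul_assoc, IsUnit.mul_val_inv, one_mul]

end Cfsg.Agent.S3884
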