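import Cfsg.Statements.S3888
import Cfsg.Agent.Lib.RankTwo.Main

set_option autoImplicit false
open Cfsg

namespace Cfsg.Agent.S3888

open Cfsg.Agent.Lib Cfsg.Agent.Lib.RankTwo

theorem noncyclic {G : Type*} [Group G] [Finite G] {p : ℕ} [Fact p.Prime] (hp : p ≠ 2) (n : ℕ) (hG : Nat.card G = p ^ n)
    (hrk : Cfsg.PRankLE p 2 G) (hcyc : ¬ IsCyclic G) :
    Cfsg.IsMetacyclic G ∨
    (3 ≤ n ∧ ∃ x y z : G, Subgroup.closure ({x, y, z} : Set G) = ⊤ ∧ x ^ p = 1 ∧ y ^ p = 1 ∧ z ^ p ^ (n - 2) = 1 ∧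
        x * z = z * x ∧ y * z = z * y ∧ x⁻¹ * y * x = y * z ^ p ^ (n - 3)) ∨
    (4 ≤ n ∧ ∃ (s : ℕ) (x y z : G), (s = 1 ∨ ¬ IsSquare (s : ZMod p)) ∧ Subgroup.closure ({x, y, z} : Set G) = ⊤ ∧
        x ^ p = 1 ∧ y ^ p = 1 ∧ z ^ p ^ (n - 2) = 1 ∧ y * z = z * y ∧ x⁻¹ * y * x = y * z ^ (s * p ^ (n - 3)) ∧
        x⁻¹ * z * x = y * z) ∨
    (p = 3 ∧ 2 ≤ n ∧ (⊤ : Subgroup G).lowerCentralSeries (n - 2) ≠ ⊥) := by
  have hp' : p.Prime := Fact.out
  have hP : IsPGroup p G := IsPGroup.of_card hG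
  obtain ⟨V, -, hV, hV2⟩ := OddLocal.exists_elementary_sq_of_not_cyclic hp (⊤ : Subgroup G)
    (hP.to_subgroup ⊤) fun h => hcyc ((MulEquiv.isCyclic Subgroup.topEquiv).mp h)
  obtain ⟨E, hEn, hE, hE2⟩ := OddLocal.exists_normal_elementary_sq hp hP hV
    (by rw [hV2, sq]; exact lt_mul_of_one_lt_left hp'.pos hp'.one_lt)
  haveI := hEn
  have hEp : ∀ e ∈ E, e ^ p = 1 := hE.2
  haveI hEab : IsMulCommutative E := hE.1
  set C := Subgroup.centralizer (E : Set G) with hC
  have hEC : E ≤ C := Subgroup.le_centralizer_iff_isMulCommutative.mpr hEab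
  have hcomm : ∀ c ∈ C, ∀ e ∈ E, Commute c e := fun c hc e he =>
    (Subgroup.mem_centralizer_iff.mp hc e he).symm
  have hΩ : ∀ t ∈ C, t ^ p = 1 → t ∈ E := by
    intro t ht htp
    by_contra htE
    set A := Subgroup.closure ((E : Set G) ∪ {t}) with hA
    have hAc : IsMulCommutative A := Subgroup.isMulCommutative_closure (by
      rintro a (ha | rfl) b (hb | rfl)
      · exact (hcomm a (hEC ha) b hb).eq
      · exact (hcomm _ ht a ha).symm.eq
      · exact (hcomm _ ht b hb).eq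
      · rfl)
    have hAp : ∀ a ∈ A, a ^ p = 1 := by
      let K : Subgroup A :=
        { carrier := {a | (a : G) ^ p = 1}
          one_mem' := one_pow p
          mul_mem' := fun {a b} ha hb => by
            show ((a : G) * b) ^ p = 1
            rw [(show Commute (a : G) b from congrArg Subtype.val (hAc.is_comm.comm a b)).mul_pow, ha, hb, one_mul]
          inv_mem' := fun {a} ha => by
            show ((a : G)⁻¹) ^ p = 1
            rw [inv_pow, ha, inv_one] }
      intro a ha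
      have hle : A ≤ K.map A.subtype := by
        refine (Subgroup.closure_le _).mpr ?_
        rintro y (hy | rfl)
        · exact ⟨⟨y, Subgroup.subset_closure (Or.inl hy)⟩, hEp y hy, rfl⟩
        · exact ⟨⟨y, Subgroup.subset_closure (Or.inr rfl)⟩, htp, rfl⟩
      obtain ⟨b, hb, rfl⟩ := hle ha
      exact hb
    have h1 := hrk A hAc hAp
    have hlt : E < A := lt_of_le_of_ne (fun e he => Subgroup.subset_closure (Or.inl he))
      fun h => htE (h ▸ Subgroup.subset_closure (Or.inr rfl))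
    exact hlt.ne (Subgroup.eq_of_le_of_card_ge hlt.le (hE2.symm ▸ h1))
  by_cases hx : ∃ x : G, x ^ p = 1 ∧ x ∉ C
  swap
  · push Not at hx
    rcases metacyclic_or_maxClass hp hP hG E hE2 (fun g hg => hΩ g (hx g hg) hg) hEp with h | h
    · exact Or.inl h
    · exact Or.inr (Or.inr (Or.inr h))
  obtain ⟨x, hxp, hxC⟩ := hx
  have hidx : C.index = p := by
    have hle := OddLocal.index_centralizer_le hP E hE2
    obtain ⟨k, hk⟩ := hP.index C
    rcases k with _ | _ | k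
    · exact absurd ((Subgroup.index_eq_one.mp (hk.trans (pow_zero p))).symm ▸ Subgroup.mem_top x) hxC
    · rw [hk, pow_one]
    · rw [hk] at hle
      exact absurd hle (not_le.mpr (lt_of_lt_of_le (lt_self_pow₀ hp'.one_lt (by omega : 1 < 2))
        (Nat.pow_le_pow_right hp'.pos (by omega))))
  have S : Side p C E x :=
    ⟨hidx, hxC, hxp, hE2, hEC, hcomm, hΩ, hEp, by
      by_contra h
      push Not at h
      exact hxC (Subgroup.mem_centralizer_iff.mpr fun e he => (h e he).eq)⟩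
  by_cases hd : ∃ d ∈ C, d ^ p ∈ E ∧ d ^ p ∉ Subgroup.center G
  · obtain ⟨d, hdC, hdE, hdc⟩ := hd
    exact Or.inr (Or.inr (Or.inr (S.maxClass hp hG hdC hdE hdc)))
  push Not at hd
  rcases S.families hp hG hd with h | h
  · exact Or.inr (Or.inl h)
  · exact Or.inr (Or.inr (Or.inl h))

/-- The classification of the p-groups of rank at most two for odd p. Let p be an odd prime and G a group of order p^n with no elementary abelian subgroup of order p³. Then one of the following holds: G is metacyclic; n ≥ 3 and G is generated by elements x, y, z with x^p = y^p = z^(p^(n−2)) = 1, z commuting with x and y, and x⁻¹yx = y z^(p^(n−3)); n ≥ 4 and G is generated by elements x, y, z with x^p = y^p = z^(p^(n−2)) = 1, yz = zy, x⁻¹yx = y z^(s p^(n−3)) and x⁻¹zx = yz, where s = 1 or s is a quadratic non-residue modulo p; or p = 3 and G has maximal class (nilpotency class n − 1). -/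
theorem result {G : Type*} [Group G] [Finite G] {p : ℕ} [Fact p.Prime] (hp : p ≠ 2) (n : ℕ) (hG : Nat.card G = p ^ n)
    (hrk : Cfsg.PRankLE p 2 G) :
    Cfsg.IsMetacyclic G ∨
    (3 ≤ n ∧ ∃ x y z : G, Subgroup.closure ({x, y, z} : Set G) = ⊤ ∧ x ^ p = 1 ∧ y ^ p = 1 ∧ z ^ p ^ (n - 2) = 1 ∧
        x * z = z * x ∧ y * z = z * y ∧ x⁻¹ * y * x = y * z ^ p ^ (n - 3)) ∨
    (4 ≤ n ∧ ∃ (s : ℕ) (x y z : G), (s = 1 ∨ ¬ IsSquare (s : ZMod p)) ∧ Subgroup.closure ({x, y, z} : Set G) = ⊤ ∧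
        x ^ p = 1 ∧ y ^ p = 1 ∧ z ^ p ^ (n - 2) = 1 ∧ y * z = z * y ∧ x⁻¹ * y * x = y * z ^ (s * p ^ (n - 3)) ∧
        x⁻¹ * z * x = y * z) ∨
    (p = 3 ∧ 2 ≤ n ∧ (⊤ : Subgroup G).lowerCentralSeries (n - 2) ≠ ⊥) := by
  by_cases hcyc : IsCyclic G
  · left
    obtain ⟨g, hg⟩ := isCyclic_iff_exists_zpowers_eq_top.mp hcyc
    exact Cfsg.Agent.Lib.RankTwo.isMetacyclic_of_generators g 1 (hg ▸ le_top) (eq_top_iff.mpr (hg ▸
      Subgroup.zpowers_le.mpr (Subgroup.subset_closure (Set.mem_insert g _))))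
  exact noncyclic hp n hG hrk hcyc

end Cfsg.Agent.S3888
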