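import Cfsg.Statements.S3889


set_option autoImplicit false
open Cfsg

namespace Cfsg.Agent.S3889

/-- A finite abelian group that is the union of a family of proper subgroups any two of which intersect trivially is elementary abelian: its exponent is a prime. -/
theorem result {G : Type*} [CommGroup G] [Finite G] (𝓑 : Set (Subgroup G)) (hprop : ∀ B ∈ 𝓑, B ≠ ⊤)
    (hcov : ∀ g : G, ∃ B ∈ 𝓑, g ∈ B) (hdisj : ∀ B ∈ 𝓑, ∀ C ∈ 𝓑, B ≠ C → B ⊓ C = ⊥) :
    (Monoid.exponent G).Prime := by
  classical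
  have hne : ∃ g : G, g ≠ 1 := by
    by_contra h
    push Not at h
    obtain ⟨B, hB, -⟩ := hcov 1
    exact hprop B hB (Subgroup.eq_top_iff' B |>.mpr fun g => h g ▸ one_mem B)
  have huniq : ∀ x : G, x ≠ 1 → ∀ B ∈ 𝓑, ∀ C ∈ 𝓑, x ∈ B → x ∈ C → B = C := by
    intro x hx B hB C hC hxB hxC
    by_contra h
    exact hx (Subgroup.mem_bot.mp (hdisj B hB C hC h ▸ ⟨hxB, hxC⟩))
  have key : ∀ B ∈ 𝓑, ∀ x ∈ B, x ≠ 1 → ∀ y : G, y ∉ B → orderOf y ∣ orderOf x ∧ orderOf x ∣ orderOf y := by
    intro B hB x hxB hx y hy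
    obtain ⟨C, hC, hyC⟩ := hcov y
    obtain ⟨D, hD, hD2⟩ := hcov (x * y)
    have hBC : B ≠ C := fun h => hy (h ▸ hyC)
    have hDB : D ≠ B := fun h => hy (by
      have := mul_mem (inv_mem hxB) (h ▸ hD2)
      rwa [inv_mul_cancel_left] at this)
    have hDC : D ≠ C := fun h => by
      have h1 : x ∈ C := by
        have := mul_mem (h ▸ hD2) (inv_mem hyC)
        rwa [mul_inv_cancel_right] at this
      exact hBC (huniq x hx B hB C hC hxB h1)
    constructor
    · rw [orderOf_dvd_iff_pow_eq_one]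
      by_contra h
      have h1 : (x * y) ^ orderOf x = y ^ orderOf x := by
        rw [mul_pow, pow_orderOf_eq_one, one_mul]
      exact hDC (huniq _ h D hD C hC (h1 ▸ pow_mem hD2 _) (pow_mem hyC _))
    · rw [orderOf_dvd_iff_pow_eq_one]
      by_contra h
      have h1 : (x * y) ^ orderOf y = x ^ orderOf y := by
        rw [mul_pow, pow_orderOf_eq_one, mul_one]
      exact hDB (huniq _ h D hD B hB (h1 ▸ pow_mem hD2 _) (pow_mem hxB _))
  have keq : ∀ x y : G, x ≠ 1 → y ≠ 1 → orderOf x = orderOf y := by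
    intro x y hx hy
    obtain ⟨B, hB, hxB⟩ := hcov x
    by_cases h : y ∈ B
    · obtain ⟨z, hz⟩ : ∃ z, z ∉ B := by
        by_contra h'
        push Not at h'
        exact hprop B hB (Subgroup.eq_top_iff' B |>.mpr h')
      exact (Nat.dvd_antisymm (key B hB x hxB hx z hz).2 (key B hB x hxB hx z hz).1).trans
        (Nat.dvd_antisymm (key B hB y h hy z hz).1 (key B hB y h hy z hz).2)
    · exact Nat.dvd_antisymm (key B hB x hxB hx y h).2 (key B hB x hxB hx y h).1
  obtain ⟨g, hg⟩ := hne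
  have hg1 : orderOf g ≠ 1 := fun h => hg (orderOf_eq_one_iff.mp h)
  have hprime : (orderOf g).Prime := by
    obtain ⟨q, hq, hd⟩ := Nat.exists_prime_and_dvd hg1
    have : Fact q.Prime := ⟨hq⟩
    obtain ⟨z, hz⟩ := exists_prime_orderOf_dvd_card' (G := G) q (hd.trans (orderOf_dvd_natCard g))
    have hz1 : z ≠ 1 := fun h => by simp [h] at hz; exact hq.ne_one hz.symm
    rw [keq g z hg hz1, hz]
    exact hq
  have : Monoid.exponent G = orderOf g := by
    refine Nat.dvd_antisymm ?_ (Monoid.order_dvd_exponent g)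
    rw [Monoid.exponent_dvd_iff_forall_pow_eq_one]
    intro x
    by_cases hx : x = 1
    · rw [hx, one_pow]
    · rw [keq g x hg hx]
      exact pow_orderOf_eq_one x
  rwa [this]

end Cfsg.Agent.S3889
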