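import Cfsg.Statements.S3892
import Mathlib

set_option autoImplicit false
open Cfsg

namespace Cfsg.Agent.S3892

open Equiv Equiv.Perm

/-- Involutions commute with odd order elements in nilpotent groups. -/
theorem commute_of_odd {A : Type*} [Group A] [Group.IsNilpotent A] :
    ∀ t x : A, t * t = 1 → ∀ l : ℕ, Odd l → x ^ l = 1 → Commute t x := by
  refine Group.nilpotent_center_quotient_ind (P := fun H _ _ => ∀ t x : H, t * t = 1 → ∀ l : ℕ, Odd l → x ^ l = 1 → Commute t x) A ?_ ?_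
  · intro H _ _ t x _ l _ _
    exact Subsingleton.elim _ _
  · intro H _ _ ih t x ht l hl hx
    set f := QuotientGroup.mk' (Subgroup.center H)
    have hc := ih (f t) (f x) (by rw [← map_mul, ht, map_one]) l hl (by rw [← map_pow, hx, map_one])
    set c := t * x * t⁻¹ * x⁻¹ with hcd
    have hcZ : c ∈ Subgroup.center H := by
      refine (QuotientGroup.eq_one_iff c).mp ?_
      show f c = 1
      rw [hcd, map_mul, map_mul, map_mul, map_inv, map_inv, hc.eq]
      group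
    have hcx : Commute c x := ((Subgroup.mem_center_iff.mp hcZ) x).symm
    have h1 : c ^ l = 1 := by
      have e : t * x * t⁻¹ = c * x := by rw [hcd]; group
      have := congrArg (· ^ l) e
      simp only [conj_pow, hcx.mul_pow, hx, mul_one, mul_inv_cancel] at this
      exact this.symm
    have h2 : c ^ 2 = 1 := by
      have e : t * x * t⁻¹ = c * x := by rw [hcd]; group
      have hct : Commute c t := ((Subgroup.mem_center_iff.mp hcZ) t).symm
      have e2 : x = c * (c * x) := by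
        calc x = (t * t) * x * (t * t)⁻¹ := by rw [ht]; group
          _ = t * (t * x * t⁻¹) * t⁻¹ := by group
          _ = t * (c * x) * t⁻¹ := by rw [e]
          _ = c * (t * x * t⁻¹) := by rw [← mul_assoc, ← hct.eq]; group
          _ = c * (c * x) := by rw [e]
      rw [pow_two]
      exact mul_right_cancel (b := x) (by rw [one_mul, mul_assoc]; exact e2.symm)
    have h3 : c = 1 := by
      obtain ⟨k, rfl⟩ := hl
      rw [pow_succ, pow_mul, h2, one_pow, one_mul] at h1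
      exact h1
    show t * x = x * t
    rw [hcd, mul_inv_eq_one, mul_inv_eq_iff_eq_mul] at h3
    exact h3

variable {n : ℕ}

/-- `x` is a cycle of odd length moving all but at most two points. -/
structure Long (x : Perm (Fin n)) : Prop where
  cycle : x.IsCycle
  odd : Odd x.support.card
  big : n ≤ x.support.card + 2

theorem Long.conj {x : Perm (Fin n)} (hx : Long x) (τ : Perm (Fin n)) : Long (τ * x * τ⁻¹) := by
  refine ⟨hx.cycle.conj, ?_, ?_⟩ <;> rw [card_support_conj]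
  exacts [hx.odd, hx.big]

theorem Long.sign {x : Perm (Fin n)} (hx : Long x) : Perm.sign x = 1 := by
  rw [hx.cycle.sign, hx.odd.neg_one_pow, neg_neg]

theorem sign_eq_one_of_odd {g : Perm (Fin n)} {k : ℕ} (hk : Odd k) (h : g ^ k = 1) : Perm.sign g = 1 := by
  have := congrArg Perm.sign h
  rw [map_pow, map_one] at this
  rcases Int.units_eq_one_or (Perm.sign g) with e | e
  · exact e
  · rw [e, hk.neg_one_pow] at this; exact absurd this (by decide)

/-- The centralizer of a long cycle in a suitable ambient group is generated by it. -/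
def SelfCent (K : Subgroup (Perm (Fin n))) (x : Perm (Fin n)) : Prop :=
  ∀ g ∈ K, Commute g x → g ∈ Subgroup.zpowers x

theorem selfCent {K : Subgroup (Perm (Fin n))} {x : Perm (Fin n)} (hx : Long x)
    (hK : n ≤ x.support.card + 1 ∨ K ≤ alternatingGroup (Fin n)) : SelfCent K x := by
  intro g hg hc
  obtain ⟨a, ha⟩ := Finset.card_pos.mp hx.odd.pos
  rw [mem_support] at ha
  have hga : x (g a) ≠ g a := fun e => ha (g.injective (by rw [← mul_apply, hc.eq, mul_apply, e]))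
  obtain ⟨k, hk⟩ := hx.cycle.exists_zpow_eq ha hga
  refine Subgroup.mem_zpowers_iff.mpr ⟨k, ?_⟩
  set h := (x ^ k)⁻¹ * g with hh
  suffices h1 : h = 1 by rw [← mul_one (x ^ k), ← h1, hh, mul_inv_cancel_left]
  have hch : Commute h x := ((Commute.zpow_self x k).inv_left).mul_left hc
  have hfix : ∀ b ∈ x.support, h b = b := by
    intro b hb
    obtain ⟨j, rfl⟩ := hx.cycle.exists_zpow_eq ha (mem_support.mp hb)
    rw [← mul_apply, (hch.zpow_right j).eq, mul_apply]
    have : h a = a := by rw [hh, mul_apply, ← hk, ← mul_apply, inv_mul_cancel]; rfl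
    rw [this]
  have hsub : h.support ⊆ x.supportᶜ := fun b hb => Finset.mem_compl.mpr fun hb' => mem_support.mp hb (hfix b hb')
  have hcard := Finset.card_le_card hsub
  rw [Finset.card_compl, Fintype.card_fin] at hcard
  by_contra h1
  have h2 := one_lt_card_support_of_ne_one h1
  rcases hK with hK | hK
  · omega
  · have h3 : h.support.card = 2 := by have := hx.big; omega
    have h4 : Perm.sign h = -1 := (card_support_eq_two.mp h3).sign_eq
    rw [hh, map_mul, map_inv, map_zpow, hx.sign, one_zpow, inv_one, one_mul,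
      Perm.mem_alternatingGroup.mp (hK hg)] at h4
    exact absurd h4 (by decide)

theorem centre_spec {K A : Subgroup (Perm (Fin n))} {x : Perm (Fin n)} (hx : Long x)
    (hc : SelfCent K x) (hAK : A ≤ K) (hA : Group.IsNilpotent ↥A) (hxA : x ∈ A) :
    ∃ z, z ∈ A ∧ z ∈ Subgroup.zpowers x ∧ z ≠ 1 ∧ (∀ g ∈ A, Commute z g) ∧ ∀ b, z b = b ↔ x b = b := by
  haveI : Nontrivial ↥A := ⟨⟨⟨x, hxA⟩, 1, fun e => hx.cycle.ne_one (congrArg Subtype.val e)⟩⟩
  obtain ⟨⟨z, hzA⟩, hz, hz1⟩ := (Subgroup.bot_or_exists_ne_one _).resolve_left (Group.IsNilpotent.center_ne_bot (G := A))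
  have hcm : ∀ g ∈ A, Commute z g := fun g hg => (congrArg Subtype.val (Subgroup.mem_center_iff.mp hz ⟨g, hg⟩)).symm
  have hzx := hc z (hAK hzA) (hcm x hxA)
  have hz1' : z ≠ 1 := fun e => hz1 (Subtype.ext e)
  refine ⟨z, hzA, hzx, hz1', hcm, fun b => ⟨fun hb => ?_, fun hb => ?_⟩⟩
  · obtain ⟨j, rfl⟩ := Subgroup.mem_zpowers_iff.mp hzx
    by_contra hxb
    refine hz1' (Perm.ext fun c => ?_)
    by_cases hcx : x c = c
    · exact zpow_apply_eq_self_of_apply_eq_self hcx j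
    · obtain ⟨i, rfl⟩ := hx.cycle.exists_zpow_eq hxb hcx
      rw [← mul_apply, (Commute.zpow_zpow_self x j i).eq, mul_apply, hb]; rfl
  · obtain ⟨j, rfl⟩ := Subgroup.mem_zpowers_iff.mp hzx
    exact zpow_apply_eq_self_of_apply_eq_self hb j

theorem odd_order {K A : Subgroup (Perm (Fin n))} {x : Perm (Fin n)} (hx : Long x)
    (hc : SelfCent K x) (hAK : A ≤ K) (hA : Group.IsNilpotent ↥A) (hxA : x ∈ A)
    {g : Perm (Fin n)} (hg : g ∈ A) : Odd (orderOf g) := by
  rw [← Nat.not_even_iff_odd]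
  rintro ⟨m, hm⟩
  have hpos := orderOf_pos g
  set t := g ^ m with ht
  have htt : t * t = 1 := by rw [ht, ← pow_add, ← hm, pow_orderOf_eq_one]
  have ht1 : t ≠ 1 := fun e => by
    have := Nat.le_of_dvd (by omega) (orderOf_dvd_of_pow_eq_one e); omega
  have hl : x ^ x.support.card = 1 := by rw [← hx.cycle.orderOf, pow_orderOf_eq_one]
  have htx : Commute t x := congrArg Subtype.val (commute_of_odd (A := A) ⟨t, pow_mem hg m⟩ ⟨x, hxA⟩
    (Subtype.ext htt) _ hx.odd (Subtype.ext hl)).eq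
  obtain ⟨j, hj⟩ := Subgroup.mem_zpowers_iff.mp (hc t (hAK (pow_mem hg m)) htx)
  have h1 : t ^ x.support.card = 1 := by
    rw [← hj, ← zpow_natCast, ← _root_.zpow_mul, mul_comm, _root_.zpow_mul, zpow_natCast, hl, one_zpow]
  obtain ⟨k, hk⟩ := hx.odd
  rw [hk, pow_succ, pow_mul, pow_two, htt, one_pow, one_mul] at h1
  exact ht1 h1

theorem fixes {K A : Subgroup (Perm (Fin n))} {x : Perm (Fin n)} (hx : Long x)
    (hc : SelfCent K x) (hAK : A ≤ K) (hA : Group.IsNilpotent ↥A) (hxA : x ∈ A)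
    {g : Perm (Fin n)} (hg : g ∈ A) {i : Fin n} (hi : x i = i) : g i = i := by
  obtain ⟨z, -, -, -, hzc, hzf⟩ := centre_spec hx hc hAK hA hxA
  have hF : ∀ b, x b = b → x (g b) = g b := fun b hb => (hzf _).mp (by
    rw [← mul_apply, (hzc g hg).eq, mul_apply, (hzf b).mpr hb])
  by_contra hne
  have hcard : x.supportᶜ.card ≤ 2 := by
    rw [Finset.card_compl, Fintype.card_fin]; have := hx.big; omega
  have hmem : ∀ b, x b = b → b ∈ x.supportᶜ := fun b hb => Finset.mem_compl.mpr fun h => mem_support.mp h hb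
  have h2 : (g * g) i = i := by
    by_contra hne2
    have hsub : ({i, g i, g (g i)} : Finset (Fin n)) ⊆ x.supportᶜ := by
      intro b hb
      simp only [Finset.mem_insert, Finset.mem_singleton] at hb
      rcases hb with rfl | rfl | rfl
      exacts [hmem _ hi, hmem _ (hF _ hi), hmem _ (hF _ (hF _ hi))]
    have := Finset.card_le_card hsub
    rw [Finset.card_insert_of_notMem, Finset.card_insert_of_notMem, Finset.card_singleton] at this
    · omega
    · simp only [Finset.mem_singleton]; exact fun e => hne (g.injective e).symm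
    · simp only [Finset.mem_insert, Finset.mem_singleton]
      rintro (e | e)
      exacts [hne e.symm, hne2 e.symm]
  obtain ⟨k, hk⟩ := odd_order hx hc hAK hA hxA hg
  have h3 := congrFun (congrArg DFunLike.coe (pow_orderOf_eq_one g)) i
  rw [hk, pow_succ', pow_mul, pow_two] at h3
  have h4 : ((g * g) ^ k) i = i := pow_apply_eq_self_of_apply_eq_self h2 k
  rw [mul_apply, h4] at h3
  exact hne h3

/-- A nilpotent subgroup cannot contain all conjugates of a long cycle. -/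
theorem exists_not_mem {K A : Subgroup (Perm (Fin n))} [K.Normal] {x : Perm (Fin n)} (hx : Long x)
    (hc : SelfCent K x) (hAK : A ≤ K) (hA : Group.IsNilpotent ↥A) (hxA : x ∈ A) (hn : 4 ≤ n)
    {i : Fin n} :
    ∃ τ : Perm (Fin n), (x i = i → 5 ≤ n → τ i = i) ∧ τ * x * τ⁻¹ ∉ A := by
  obtain ⟨z, hzA, hzx, -, hzc, hzf⟩ := centre_spec hx hc hAK hA hxA
  obtain ⟨a, ha⟩ := Finset.card_pos.mp hx.odd.pos
  rw [mem_support] at ha
  have hza : z a ≠ a := fun e => ha ((hzf a).mp e)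
  obtain ⟨b, hb⟩ : ∃ b, b ∉ ({a, z a, z⁻¹ a} ∪ (if x i = i ∧ 5 ≤ n then {i} else ∅) : Finset (Fin n)) := by
    refine Finset.exists_mem_notMem_of_card_lt_card (s := _) (t := Finset.univ) ?_ |>.imp fun b h => h.2
    rw [Finset.card_univ, Fintype.card_fin]
    refine (Finset.card_union_le _ _).trans_lt ?_
    have h3 : ({a, z a, z⁻¹ a} : Finset (Fin n)).card ≤ 3 := Finset.card_le_three
    split_ifs with h
    · rw [Finset.card_singleton]; omega
    · rw [Finset.card_empty]; omega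
  simp only [Finset.mem_union, Finset.mem_insert, Finset.mem_singleton, not_or] at hb
  obtain ⟨⟨hba, hbz, hbz'⟩, hbi⟩ := hb
  refine ⟨swap (z a) b, fun hxi h5 => ?_, fun hmem => ?_⟩
  · rw [if_pos ⟨hxi, h5⟩, Finset.mem_singleton] at hbi
    exact swap_apply_of_ne_of_ne (fun e => hza (z.injective (by rw [← e, (hzf i).mpr hxi]))) (Ne.symm hbi)
  set τ := swap (z a) b with hτ
  have hτi : τ⁻¹ = τ := swap_inv _ _
  set w := τ * z * τ with hw
  have hwK : w ∈ K := by
    have := Subgroup.Normal.conj_mem ‹K.Normal› z (hAK hzA) τ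
    rwa [hτi] at this
  have hwx : Commute w x := by
    have h1 : Commute z (τ * x * τ⁻¹) := hzc _ hmem
    rw [hτi] at h1
    have hττ : τ * τ = 1 := swap_mul_self _ _
    show w * x = x * w
    calc w * x = τ * (z * (τ * x * τ)) * τ := by rw [hw]; simp only [mul_assoc]; simp [hττ]
      _ = τ * ((τ * x * τ) * z) * τ := by rw [h1.eq]
      _ = x * w := by rw [hw]; simp only [← mul_assoc, hττ, one_mul]
  obtain ⟨j, hj⟩ := Subgroup.mem_zpowers_iff.mp hzx
  obtain ⟨m, hm⟩ := Subgroup.mem_zpowers_iff.mp (hc w hwK hwx)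
  have hcwz : Commute w z := hj ▸ hm ▸ Commute.zpow_zpow_self x m j
  have h1 : w a = b := by
    rw [hw, mul_apply, mul_apply, hτ, swap_apply_of_ne_of_ne hza.symm (Ne.symm hba), swap_apply_left]
  have h2 : w (z⁻¹ a) = a := by
    have hne : z⁻¹ a ≠ z a := fun e => by
      obtain ⟨k, hk⟩ := odd_order hx hc hAK hA hxA hzA
      have e2 : (z * z) a = a := by rw [mul_apply, ← e, ← mul_apply, mul_inv_cancel]; rfl
      have h3 := congrFun (congrArg DFunLike.coe (pow_orderOf_eq_one z)) a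
      rw [hk, pow_succ', pow_mul, pow_two, mul_apply, pow_apply_eq_self_of_apply_eq_self e2 k] at h3
      exact hza h3
    rw [hw, mul_apply, mul_apply, hτ, swap_apply_of_ne_of_ne hne (Ne.symm hbz')]
    rw [show z (z⁻¹ a) = a from by rw [← mul_apply, mul_inv_cancel]; rfl]
    exact swap_apply_of_ne_of_ne hza.symm (Ne.symm hba)
  apply hbz
  calc b = w a := h1.symm
    _ = (w * z) (z⁻¹ a) := congrArg w (show a = z (z⁻¹ a) by rw [← mul_apply, mul_inv_cancel]; rfl)
    _ = z (w (z⁻¹ a)) := by rw [hcwz.eq, mul_apply]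
    _ = z a := by rw [h2]

theorem exists_long (n : ℕ) (l : ℕ) (hl : Odd l) (h1 : 3 ≤ l) (h2 : l ≤ n) (h3 : n ≤ l + 2) :
    ∃ x : Perm (Fin n), Long x ∧ x.support.card = l := by
  haveI : NeZero n := ⟨by omega⟩
  set i : Fin n := ⟨l - 1, by omega⟩
  have h0 : i ≠ 0 := by intro e; have := congrArg Fin.val e; simp [i] at this; omega
  have hcard : (Fin.cycleRange i).support.card = l := by
    rw [← sum_cycleType, Fin.cycleType_cycleRange h0]; simp [i]; omega
  exact ⟨Fin.cycleRange i, ⟨Fin.isCycle_cycleRange h0, hcard.symm ▸ hl, hcard.symm ▸ h3⟩, hcard⟩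

theorem sym_case (hn : 4 ≤ n) (𝓐 : Finset (Subgroup (Perm (Fin n)))) (hp : ∀ A ∈ 𝓐, A ≠ ⊤)
    (hcov : ∀ g, ∃ A ∈ 𝓐, g ∈ A)
    (hmin : ∀ 𝓑 : Finset (Subgroup (Perm (Fin n))), (∀ A ∈ 𝓑, A ≠ ⊤) ∧ (∀ g, ∃ A ∈ 𝓑, g ∈ A) → 𝓐.card ≤ 𝓑.card)
    (hnil : ∀ A ∈ 𝓐, Group.IsNilpotent ↥A) : False := by
  classical
  set l := if Odd n then n else n - 1 with hl
  have hlodd : Odd l := by
    rw [hl]; split_ifs with h
    · exact h
    · rw [Nat.odd_iff] at h ⊢; omega
  obtain ⟨x, hx, hxl⟩ := exists_long n l hlodd (by rw [hl]; split_ifs <;> omega) (by rw [hl]; split_ifs <;> omega)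
    (by rw [hl]; split_ifs <;> omega)
  have hbig : n ≤ x.support.card + 1 := by rw [hxl, hl]; split_ifs <;> omega
  have hcx : ∀ τ : Perm (Fin n), SelfCent ⊤ (τ * x * τ⁻¹) := fun τ =>
    selfCent (hx.conj τ) (Or.inl (by rw [card_support_conj]; exact hbig))
  set 𝓔 := 𝓐.filter fun A => A ≤ alternatingGroup (Fin n) with hE
  have hin : ∀ τ : Perm (Fin n), ∀ A ∈ 𝓐, τ * x * τ⁻¹ ∈ A → A ∈ 𝓔 := fun τ A hA hτ => by
    rw [hE, Finset.mem_filter]
    refine ⟨hA, fun g hg => Perm.mem_alternatingGroup.mpr ?_⟩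
    exact sign_eq_one_of_odd (odd_order (hx.conj τ) (hcx τ) le_top (hnil A hA) hτ hg) (pow_orderOf_eq_one g)
  obtain ⟨A, hA, hxA⟩ := hcov x
  obtain ⟨τ, -, hτ⟩ := exists_not_mem hx (by simpa using hcx 1) le_top (hnil A hA) hxA hn (i := ⟨0, by omega⟩)
  obtain ⟨B, hB, hτB⟩ := hcov (τ * x * τ⁻¹)
  have h2 : 1 < 𝓔.card := Finset.one_lt_card.mpr
    ⟨A, hin 1 A hA (by simpa using hxA), B, hin τ B hB hτB, fun e => hτ (e ▸ hτB)⟩
  have hb := hmin (insert (alternatingGroup (Fin n)) (𝓐 \ 𝓔)) ⟨?_, ?_⟩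
  · have := Finset.card_insert_le (alternatingGroup (Fin n)) (𝓐 \ 𝓔)
    have hsub : 𝓔 ⊆ 𝓐 := Finset.filter_subset _ _
    rw [Finset.card_sdiff_of_subset hsub] at this
    have := Finset.card_le_card hsub
    omega
  · intro C hC
    rcases Finset.mem_insert.mp hC with rfl | h
    · intro e
      haveI : Nontrivial (Fin n) := Fin.nontrivial_iff_two_le.mpr (by omega)
      have := alternatingGroup.index_eq_two (α := Fin n)
      rw [e, Subgroup.index_top] at this; omega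
    · exact hp C (Finset.mem_sdiff.mp h).1
  · intro g
    obtain ⟨C, hC, hg⟩ := hcov g
    by_cases h : C ∈ 𝓔
    · exact ⟨_, Finset.mem_insert_self _ _, (Finset.mem_filter.mp h).2 hg⟩
    · exact ⟨C, Finset.mem_insert_of_mem (Finset.mem_sdiff.mpr ⟨hC, h⟩), hg⟩

theorem alt_case (hn : 5 ≤ n) (𝓐 : Finset (Subgroup (alternatingGroup (Fin n)))) (hp : ∀ A ∈ 𝓐, A ≠ ⊤)
    (hcov : ∀ g, ∃ A ∈ 𝓐, g ∈ A)
    (hmin : ∀ 𝓑 : Finset (Subgroup (alternatingGroup (Fin n))), (∀ A ∈ 𝓑, A ≠ ⊤) ∧ (∀ g, ∃ A ∈ 𝓑, g ∈ A) → 𝓐.card ≤ 𝓑.card)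
    (hnil : ∀ A ∈ 𝓐, Group.IsNilpotent ↥A) : False := by
  classical
  set l := if Odd n then n - 2 else n - 1 with hl
  have hlodd : Odd l := by
    rw [hl]; split_ifs with h <;> rw [Nat.odd_iff] at h ⊢ <;> omega
  obtain ⟨x, hx, hxl⟩ := exists_long n l hlodd (by rw [hl]; split_ifs with h <;> rw [Nat.odd_iff] at h <;> omega)
    (by rw [hl]; split_ifs <;> omega) (by rw [hl]; split_ifs <;> omega)
  have hlt : x.support.card < n := by rw [hxl, hl]; split_ifs <;> omega
  obtain ⟨i, -, hi⟩ := Finset.exists_mem_notMem_of_card_lt_card (s := x.support) (t := Finset.univ) (by simpa using hlt)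
  rw [notMem_support] at hi
  have hcx : ∀ τ : Perm (Fin n), SelfCent (alternatingGroup (Fin n)) (τ * x * τ⁻¹) := fun τ =>
    selfCent (hx.conj τ) (Or.inr le_rfl)
  set S : Subgroup (alternatingGroup (Fin n)) := (MulAction.stabilizer (Perm (Fin n)) i).subgroupOf _ with hS
  set 𝓔 := 𝓐.filter fun A => A ≤ S with hE
  have himg : ∀ C : Subgroup (alternatingGroup (Fin n)), C.map (alternatingGroup (Fin n)).subtype ≤ alternatingGroup (Fin n) :=
    fun C => Subgroup.map_subtype_le C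
  have hnm : ∀ C ∈ 𝓐, Group.IsNilpotent ↥(C.map (alternatingGroup (Fin n)).subtype) := fun C hC =>
    haveI := hnil C hC
    Group.nilpotent_of_mulEquiv (C.equivMapOfInjective _ (Subgroup.subtype_injective _))
  have hmem : ∀ τ : Perm (Fin n), τ * x * τ⁻¹ ∈ alternatingGroup (Fin n) := fun τ =>
    Perm.mem_alternatingGroup.mpr (hx.conj τ).sign
  have hin : ∀ τ : Perm (Fin n), τ i = i → ∀ A ∈ 𝓐, (⟨_, hmem τ⟩ : alternatingGroup (Fin n)) ∈ A → A ∈ 𝓔 := fun τ hτi A hA hτ => by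
    rw [hE, Finset.mem_filter]
    refine ⟨hA, fun g hg => ?_⟩
    show (g : Perm (Fin n)) • i = i
    refine fixes (hx.conj τ) (hcx τ) (himg A) (hnm A hA) ⟨_, hτ, rfl⟩ ⟨g, hg, rfl⟩ ?_
    have e : τ⁻¹ i = i := by rw [Perm.inv_eq_iff_eq, hτi]
    rw [mul_apply, mul_apply, e, hi, hτi]
  have hx1 : (1 : Perm (Fin n)) * x * 1⁻¹ = x := by simp
  obtain ⟨A, hA, hxA⟩ := hcov ⟨_, hmem 1⟩
  obtain ⟨τ, hτi, hτ⟩ := exists_not_mem hx (hx1 ▸ hcx 1) (himg A) (hnm A hA) ⟨_, hxA, hx1⟩ (by omega) (i := i)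
  obtain ⟨B, hB, hτB⟩ := hcov ⟨_, hmem τ⟩
  have h2 : 1 < 𝓔.card := Finset.one_lt_card.mpr
    ⟨A, hin 1 rfl A hA hxA, B, hin τ (hτi hi hn) B hB hτB, fun e => hτ ⟨_, e ▸ hτB, rfl⟩⟩
  have hb := hmin (insert S (𝓐 \ 𝓔)) ⟨?_, ?_⟩
  · have := Finset.card_insert_le S (𝓐 \ 𝓔)
    have hsub : 𝓔 ⊆ 𝓐 := Finset.filter_subset _ _
    rw [Finset.card_sdiff_of_subset hsub] at this
    have := Finset.card_le_card hsub
    omega
  · intro C hC
    rcases Finset.mem_insert.mp hC with rfl | h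
    · intro e
      -- a conjugate of `x` moving `i`
      obtain ⟨a, ha⟩ := Finset.card_pos.mp hx.odd.pos
      have hai : a ≠ i := fun e => mem_support.mp ha (e ▸ hi)
      have hm : (⟨_, hmem (swap a i)⟩ : alternatingGroup (Fin n)) ∈ S := e ▸ Subgroup.mem_top _
      have hm' : (swap a i * x * (swap a i)⁻¹) i = i := hm
      rw [mul_apply, mul_apply, swap_inv, swap_apply_right, swap_apply_eq_iff, swap_apply_right] at hm'
      exact mem_support.mp ha hm'
    · exact hp C (Finset.mem_sdiff.mp h).1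
  · intro g
    obtain ⟨C, hC, hg⟩ := hcov g
    by_cases h : C ∈ 𝓔
    · exact ⟨_, Finset.mem_insert_self _ _, (Finset.mem_filter.mp h).2 hg⟩
    · exact ⟨C, Finset.mem_insert_of_mem (Finset.mem_sdiff.mpr ⟨hC, h⟩), hg⟩

/-- A cover of a group is a finite set of proper subgroups whose union is the whole group; it is minimal when no cover has fewer members, and nilpotent when all its members are nilpotent. The alternating groups of degree at least 5 and the symmetric groups of degree at least 4 have no nilpotent minimal cover. -/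
theorem result (n : ℕ) :
    (5 ≤ n → ¬ ∃ 𝓐 : Finset (Subgroup ↥(alternatingGroup (Fin n))), ((∀ A ∈ 𝓐, A ≠ ⊤) ∧ (∀ g : ↥(alternatingGroup (Fin n)), ∃ A ∈ 𝓐, g ∈ A)) ∧ (∀ 𝓑 : Finset (Subgroup ↥(alternatingGroup (Fin n))), (∀ A ∈ 𝓑, A ≠ ⊤) ∧ (∀ g : ↥(alternatingGroup (Fin n)), ∃ A ∈ 𝓑, g ∈ A) → 𝓐.card ≤ 𝓑.card) ∧ (∀ A ∈ 𝓐, Group.IsNilpotent ↥A)) ∧
    (4 ≤ n → ¬ ∃ 𝓐 : Finset (Subgroup (Equiv.Perm (Fin n))), ((∀ A ∈ 𝓐, A ≠ ⊤) ∧ (∀ g : (Equiv.Perm (Fin n)), ∃ A ∈ 𝓐, g ∈ A)) ∧ (∀ 𝓑 : Finset (Subgroup (Equiv.Perm (Fin n))), (∀ A ∈ 𝓑, A ≠ ⊤) ∧ (∀ g : (Equiv.Perm (Fin n)), ∃ A ∈ 𝓑, g ∈ A) → 𝓐.card ≤ 𝓑.card) ∧ (∀ A ∈ 𝓐, Group.IsNilpotent ↥A)) := by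
  refine ⟨fun hn => ?_, fun hn => ?_⟩
  · rintro ⟨𝓐, ⟨hp, hcov⟩, hmin, hnil⟩
    exact alt_case hn 𝓐 hp hcov hmin hnil
  · rintro ⟨𝓐, ⟨hp, hcov⟩, hmin, hnil⟩
    exact sym_case hn 𝓐 hp hcov hmin hnil

end Cfsg.Agent.S3892
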