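import Cfsg.Statements.S3893
import Cfsg.Agent.Lib.LinCover.Main
import Cfsg.Agent.Lib.KnownA.WordSuzuki

set_option autoImplicit false
open Cfsg

namespace Cfsg.Agent.S3893

open Matrix
open scoped LinearAlgebra.Projectivization
open Cfsg.Agent.Lib Cfsg.Agent.Lib.LinCover

/-- A regular unipotent element of the Suzuki group. -/
def szS (F : Type*) [Field F] : Matrix (Fin 4) (Fin 4) F :=
  !![1, 0, 0, 0; 1, 1, 0, 0; 0, 1, 1, 0; 1, 1, 1, 1]

theorem sz_le_sp4 (F : Type*) [Field F] (e : ℕ) : Cfsg.Lie.Sz F e ≤ Cfsg.Lie.Sp4 F :=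
  (Subgroup.closure_le _).mpr fun _ hg => hg.1

theorem perm_rev_pow : ∀ π : Equiv.Perm (Fin 4), (∀ i, π i.rev = (π i).rev) → π ^ 8 = 1 := by
  decide +kernel

theorem szS_mem {F : Type*} [Field F] [CharP F 2] (e : ℕ) (he : e ≠ 0) :
    ∃ u : GL (Fin 4) F, u ∈ Cfsg.Lie.Sz F e ∧ Uni F 4 2 (Pi.single 3 1) u := by
  have h2 : (2 : F) = 0 := CharTwo.two_eq_zero
  have hdet : (szS F).det = 1 := by
    simp [szS, Matrix.det_succ_row_zero, Fin.sum_univ_succ]
  let u : GL (Fin 4) F := Matrix.GeneralLinearGroup.mkOfDetNeZero (szS F) (by rw [hdet]; exact one_ne_zero)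
  refine ⟨u, Subgroup.subset_closure ⟨?_, ?_⟩, hdet, ⟨2, ?_⟩, ?_⟩
  · intro a b
    simp [u, szS, Matrix.GeneralLinearGroup.mkOfDetNeZero, Cfsg.Lie.altForm4, Matrix.mulVec,
      dotProduct, Fin.sum_univ_four]
    linear_combination (a 0 * b 0 + a 0 * b 1 + a 0 * b 2 + a 1 * b 0 + a 1 * b 1 + a 2 * b 0) * h2
  · ext i j
    show Cfsg.Lie.star4 (szS F) i j = (szS F i j) ^ e
    fin_cases i <;> fin_cases j <;>
      simp [szS, Cfsg.Lie.star4, Cfsg.Lie.pairOf, he, CharTwo.neg_eq, CharTwo.sub_eq_add] <;>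
      linear_combination h2
  · refine Units.ext ?_
    rw [Units.val_pow_eq_pow_val, Units.val_one]
    show szS F ^ (2 ^ 2) = 1
    have hsq : szS F * szS F =
        !![1, 0, 0, 0; 0, 1, 0, 0; 1, 0, 1, 0; 1, 1, 0, 1] := by
      ext i j
      fin_cases i <;> fin_cases j <;> simp [szS, Matrix.mul_apply, Fin.sum_univ_four] <;>
        linear_combination h2
    rw [show (2 : ℕ) ^ 2 = 2 + 2 from rfl, pow_add, sq, hsq]
    ext i j
    fin_cases i <;> fin_cases j <;> simp [Matrix.mul_apply, Fin.sum_univ_four] <;>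
      linear_combination h2
  · intro w hw
    change szS F *ᵥ w = w at hw
    have h1 := congrFun hw 1
    have h3 := congrFun hw 2
    have h4 := congrFun hw 3
    simp [szS, Matrix.mulVec, dotProduct, Fin.sum_univ_four] at h1 h3 h4
    have e1 : w 1 = 0 := h3
    have e0 : w 0 = 0 := h1
    have e2 : w 2 = 0 := by rw [e0, e1] at h4; simpa using h4
    refine Submodule.mem_span_singleton.mpr ⟨w 3, funext fun i => ?_⟩
    fin_cases i <;> simp [e0, e1, e2]

variable {F : Type*} [Field F] [Finite F] [CharP F 2]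

/-- A diagonal matrix with distinct entries: the nilpotent groups of symplectic matrices around it. -/
theorem fix_of_diag {X : Subgroup (GL (Fin 4) F)} [Group.IsNilpotent X] (hX : X ≤ Cfsg.Lie.Sp4 F)
    {a : GL (Fin 4) F} {d : Fin 4 → F} (hd : Function.Injective d)
    (ha : (a : Matrix (Fin 4) (Fin 4) F) = Matrix.diagonal d) (haX : a ∈ X)
    {r : ℕ} [Fact r.Prime] (hr2 : r ≠ 2) (har : a ^ r = 1) :
    (∀ x ∈ X, ∀ k : ℕ, x ^ 2 ^ k = 1 → x = 1) ∧ X ≤ lineStab (Pi.single 3 1) := by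
  have heig : ∀ (w : Fin 4 → F) (c : F), w ≠ 0 → (a : Matrix (Fin 4) (Fin 4) F) *ᵥ w = c • w →
      ∃ j, w ∈ F ∙ (Pi.single j 1 : Fin 4 → F) ∧ c = d j := by
    intro w c hw h
    obtain ⟨j, hj⟩ := Function.ne_iff.mp hw
    have hcj : ∀ i, w i ≠ 0 → c = d i := fun i hi => by
      have := congrFun h i
      rw [ha, Matrix.mulVec_diagonal, Pi.smul_apply, smul_eq_mul] at this
      exact (mul_right_cancel₀ hi this).symm
    refine ⟨j, Submodule.mem_span_singleton.mpr ⟨w j, funext fun i => ?_⟩, hcj j hj⟩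
    by_cases hij : i = j
    · subst hij; simp
    · have : w i = 0 := by
        by_contra hi
        exact hij (hd ((hcj i hi).symm.trans (hcj j hj)))
      simp [hij, this]
  haveI : Fact (Nat.Prime 2) := ⟨Nat.prime_two⟩
  have h2 : ∀ x ∈ X, ∀ k : ℕ, x ^ 2 ^ k = 1 → x = 1 := by
    intro x hx k hk
    have hc := commute_of_isNilpotent X (p := 2) (q := r) hr2.symm hx haX ⟨k, hk⟩
      ⟨1, by rw [pow_one, har]⟩
    refine Units.ext (Matrix.ext_of_mulVec_single fun i => ?_)
    set w := (x : Matrix (Fin 4) (Fin 4) F) *ᵥ Pi.single i 1 with hw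
    have hwne : w ≠ 0 := mulVec_ne_zero x (by simp)
    obtain ⟨j, hj, hdj⟩ := heig w (d i) hwne (by
      rw [hw, mulVec_mulVec, ← Units.val_mul, ← hc, Units.val_mul, ← mulVec_mulVec, ha,
        Matrix.diagonal_mulVec_single, mul_one, ← mulVec_smul, ← Pi.single_smul, smul_eq_mul, mul_one])
    have hij := hd hdj
    subst hij
    obtain ⟨c, hc'⟩ := Submodule.mem_span_singleton.mp hj
    have h1 := pow_mulVec (hc'.symm : (x : Matrix (Fin 4) (Fin 4) F) *ᵥ Pi.single i 1 = c • Pi.single i 1) (2 ^ k)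
    rw [hk, Units.val_one, one_mulVec] at h1
    rw [hw] at hc' ⊢
    rw [← hc', eq_one_of_pow_char (eq_one_of_smul_eq (by simp) h1), one_smul, Units.val_one, one_mulVec]
  refine ⟨h2, ?_⟩
  set B := X ⊓ ⨅ i, lineStab (Pi.single i 1 : Fin 4 → F) with hB
  suffices hle : X ≤ B from
    hle.trans (inf_le_right.trans (iInf_le _ (3 : Fin 4)))
  by_contra hne
  have hBtop : B.subgroupOf X ≠ ⊤ := fun e => hne (Subgroup.subgroupOf_eq_top.mp e)
  obtain ⟨⟨y, hyX⟩, hyN, hyB⟩ := SetLike.exists_of_lt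
    (Group.normalizerCondition_of_isNilpotent (G := X) (B.subgroupOf X) (lt_top_iff_ne_top.mpr hBtop))
  have haB : a ∈ B := Subgroup.mem_inf.mpr ⟨haX, Subgroup.mem_iInf.mpr fun i =>
    mem_lineStab_of_eq (show (Pi.single i 1 : Fin 4 → F) ≠ 0 by simp) (c := d i) (by
      rw [ha, Matrix.diagonal_mulVec_single, mul_one, ← Pi.single_smul, smul_eq_mul, mul_one])⟩
  have hyaB : y⁻¹ * a * y ∈ B := by
    have h1 := (Subgroup.mem_normalizer_iff.mp (inv_mem hyN) ⟨a, haX⟩).mp haB
    simpa [Subgroup.mem_subgroupOf] using h1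
  have hline : ∀ i, ∃ j, (y : Matrix (Fin 4) (Fin 4) F) *ᵥ Pi.single i 1 ∈
      F ∙ (Pi.single j 1 : Fin 4 → F) := by
    intro i
    obtain ⟨c, -, hc⟩ := Subgroup.mem_iInf.mp (Subgroup.mem_inf.mp hyaB).2 i
    obtain ⟨j, hj, -⟩ := heig _ c (mulVec_ne_zero y (show (Pi.single i 1 : Fin 4 → F) ≠ 0 by simp)) (by
      rw [mulVec_mulVec, ← Units.val_mul, show a * y = y * (y⁻¹ * a * y) by group, Units.val_mul,
        ← mulVec_mulVec, hc, mulVec_smul])
    exact ⟨j, hj⟩
  choose σ hσ using hline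
  choose c hc using fun i => Submodule.mem_span_singleton.mp (hσ i)
  have hc0 : ∀ i, c i ≠ 0 := fun i h => mulVec_ne_zero y (show (Pi.single i 1 : Fin 4 → F) ≠ 0 by simp)
    (by rw [← hc i, h, zero_smul])
  have hσinj : Function.Injective σ := by
    intro i j hij
    by_contra hne
    have h1 : (y : Matrix (Fin 4) (Fin 4) F) *ᵥ (c j • Pi.single i 1 - c i • Pi.single j 1) = 0 := by
      rw [mulVec_sub, mulVec_smul, mulVec_smul, ← hc, ← hc, hij, smul_smul, smul_smul, mul_comm, sub_self]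
    have h2' : c j • (Pi.single i 1 : Fin 4 → F) - c i • Pi.single j 1 ≠ 0 := by
      intro h
      have := congrFun h i
      simp [hne] at this
      exact hc0 j this
    exact mulVec_ne_zero y h2' h1
  let π : Equiv.Perm (Fin 4) := Equiv.ofBijective σ (Finite.injective_iff_bijective.mp hσinj)
  have hform : ∀ i j : Fin 4, Cfsg.Lie.altForm4 (Pi.single i (1 : F)) (Pi.single j 1) =
      if j = i.rev then 1 else 0 := by
    intro i j
    fin_cases i <;> fin_cases j <;> simp [Cfsg.Lie.altForm4, Fin.ext_iff]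
  have hπrev : ∀ i, π i.rev = (π i).rev := by
    intro i
    have h := hX hyX (Pi.single i 1) (Pi.single i.rev 1)
    change Cfsg.Lie.altForm4 ((y : Matrix (Fin 4) (Fin 4) F) *ᵥ Pi.single i 1)
      ((y : Matrix (Fin 4) (Fin 4) F) *ᵥ Pi.single i.rev 1) = _ at h
    rw [← hc, ← hc, hform, if_pos rfl] at h
    show σ i.rev = (σ i).rev
    by_contra hne
    have h0 := hform (σ i) (σ i.rev)
    rw [if_neg hne] at h0
    have hbil : ∀ (s t : F) (u v : Fin 4 → F),
        Cfsg.Lie.altForm4 (s • u) (t • v) = s * t * Cfsg.Lie.altForm4 u v := by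
      intro s t u v
      simp [Cfsg.Lie.altForm4]; ring
    rw [hbil, h0, mul_zero] at h
    exact zero_ne_one h
  have hpow : ∀ (k : ℕ) i, ∃ s : F, ((y ^ k : GL (Fin 4) F) : Matrix (Fin 4) (Fin 4) F) *ᵥ
      Pi.single i 1 = s • Pi.single ((π ^ k) i) 1 := by
    intro k
    induction k with
    | zero => exact fun i => ⟨1, by rw [pow_zero, Units.val_one, one_mulVec, one_smul]; rfl⟩
    | succ k ih =>
      intro i
      obtain ⟨s, hs⟩ := ih i
      refine ⟨s * c ((π ^ k) i), ?_⟩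
      rw [pow_succ', Units.val_mul, ← mulVec_mulVec, hs, mulVec_smul, ← hc, smul_smul, pow_succ']
      rfl
  have hπord : π ^ orderOf y = 1 := by
    refine Equiv.ext fun i => ?_
    obtain ⟨s, hs⟩ := hpow (orderOf y) i
    rw [pow_orderOf_eq_one, Units.val_one, one_mulVec] at hs
    by_contra hne
    have := congrFun hs i
    rw [Pi.smul_apply, Pi.single_eq_same, Pi.single_apply,
      if_neg (show ¬ i = (π ^ orderOf y) i from fun h => hne h.symm), smul_zero] at this
    exact one_ne_zero this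
  have hodd : Odd (orderOf y) := by
    obtain ⟨k, o, ho, hyo⟩ := Nat.exists_eq_two_pow_mul_odd (orderOf_pos y).ne'
    have h1 := h2 (y ^ o) (pow_mem hyX o) k (by rw [← pow_mul, mul_comm, ← hyo, pow_orderOf_eq_one])
    exact ho.of_dvd_nat (orderOf_dvd_of_pow_eq_one h1)
  have hπ1 : π = 1 := by
    have h8 := perm_rev_pow π hπrev
    have := pow_gcd_eq_one.mpr ⟨h8, hπord⟩
    rwa [show Nat.gcd 8 (orderOf y) = 1 from Nat.Coprime.pow_left 3 hodd.coprime_two_left, pow_one] at this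
  refine hyB (Subgroup.mem_inf.mpr ⟨hyX, Subgroup.mem_iInf.mpr fun i => ?_⟩)
  have hσi : σ i = i := by
    have := congrArg (fun f : Equiv.Perm (Fin 4) => f i) hπ1
    simpa [π] using this
  refine mem_lineStab_of_eq (by simp) (c := c i) ?_
  show (y : Matrix (Fin 4) (Fin 4) F) *ᵥ Pi.single i 1 = c i • Pi.single i 1
  rw [← hc i, hσi]

/-- A cover of a group is a finite set of proper subgroups whose union is the whole group; it is minimal when no cover has fewer members, and nilpotent when all its members are nilpotent. The Suzuki groups Sz(q), q = 2^(2m+1) with m ≥ 1, have no nilpotent minimal cover. -/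
theorem result {F : Type*} [Field F] [Fintype F] (m : ℕ) (hm : 1 ≤ m) (hF : Fintype.card F = 2 ^ (2 * m + 1)) :
    ¬ ∃ 𝓐 : Finset (Subgroup ↥(Cfsg.Lie.Sz F (2 ^ (m + 1)))), ((∀ A ∈ 𝓐, A ≠ ⊤) ∧ (∀ g : ↥(Cfsg.Lie.Sz F (2 ^ (m + 1))), ∃ A ∈ 𝓐, g ∈ A)) ∧ (∀ 𝓑 : Finset (Subgroup ↥(Cfsg.Lie.Sz F (2 ^ (m + 1)))), (∀ A ∈ 𝓑, A ≠ ⊤) ∧ (∀ g : ↥(Cfsg.Lie.Sz F (2 ^ (m + 1))), ∃ A ∈ 𝓑, g ∈ A) → 𝓐.card ≤ 𝓑.card) ∧ (∀ A ∈ 𝓐, Group.IsNilpotent ↥A) := by
  classical
  haveI : Fact (Nat.Prime 2) := ⟨Nat.prime_two⟩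
  haveI : CharP F 2 := charP_of_card_eq_prime_pow (f := 2 * m + 1) hF
  set e := 2 ^ (m + 1) with he
  rintro ⟨𝓐, ⟨hA, hcov⟩, hmin, hnil⟩
  have he0 : e ≠ 0 := by positivity
  have hθ : ∀ b : F, (b ^ e) ^ e = b * b := fun b => by
    have h := FiniteField.pow_card b
    rw [hF] at h
    rw [← pow_mul, he, ← pow_add, show m + 1 + (m + 1) = (2 * m + 1) + 1 by omega, pow_succ, pow_mul, h, sq]
  -- a regular semisimple element
  have hq : 2 ^ (2 * m + 1) - 1 ≠ 1 := by
    have : 2 ^ 3 ≤ 2 ^ (2 * m + 1) := Nat.pow_le_pow_right (by norm_num) (by omega)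
    omega
  obtain ⟨r, hr, hrq⟩ := Nat.exists_prime_and_dvd hq
  haveI := Fact.mk hr
  have hr2 : r ≠ 2 := by
    rintro rfl
    have h2 : 2 ∣ 2 ^ (2 * m + 1) := dvd_pow_self 2 (by omega)
    have := Nat.one_le_two_pow (n := 2 * m + 1)
    omega
  obtain ⟨t, ht⟩ := exists_prime_orderOf_dvd_card' (G := Fˣ) r
    (by rwa [Nat.card_units, Nat.card_eq_fintype_card, hF])
  -- congruences modulo `r`
  have hq1 : ((2 : ZMod r) ^ (2 * m + 1)) = 1 := by
    have := (Nat.modEq_iff_dvd' Nat.one_le_two_pow).mpr hrq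
    rw [← ZMod.natCast_eq_natCast_iff, Nat.cast_pow, Nat.cast_one, Nat.cast_ofNat] at this
    exact this.symm
  set E : ZMod r := (2 : ZMod r) ^ (m + 1) with hE
  have hEe : ((e : ℕ) : ZMod r) = E := by rw [he, Nat.cast_pow, Nat.cast_ofNat]
  have hEE : E * E = 2 := by
    rw [hE, ← pow_add, show m + 1 + (m + 1) = (2 * m + 1) + 1 by omega, pow_succ, hq1, one_mul]
  have h2r : (2 : ZMod r) ≠ 0 := by
    intro h
    replace h : ((2 : ℕ) : ZMod r) = 0 := by exact_mod_cast h
    rw [ZMod.natCast_eq_zero_iff] at h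
    exact hr2 ((Nat.prime_dvd_prime_iff_eq hr Nat.prime_two).mp h)
  have he1 : 1 ≤ e := Nat.one_le_two_pow
  have htpow : ∀ i j : ℕ, (t : F) ^ i = (t : F) ^ j → (i : ZMod r) = j := fun i j h => by
    rw [ZMod.natCast_eq_natCast_iff, ← ht]
    exact pow_eq_pow_iff_modEq.mp (Units.ext (by simpa using h))
  -- exponents: `1, e - 1, r - (e - 1), r - 1` modulo `r`
  let ex : Fin 4 → ℕ := ![1, e - 1, (r - 1) * (e - 1), r - 1]
  let d : Fin 4 → F := fun i => (t : F) ^ ex i
  have hrc : ((r - 1 : ℕ) : ZMod r) = -1 := by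
    rw [Nat.cast_sub hr.one_le, ZMod.natCast_self, Nat.cast_one, zero_sub]
  have hec : ((e - 1 : ℕ) : ZMod r) = E - 1 := by rw [Nat.cast_sub he1, hEe, Nat.cast_one]
  have hd : Function.Injective d := by
    intro i j h
    have h' := htpow _ _ h
    have hE0 : E ≠ 0 := fun h0 => h2r (by rw [← hEE, h0, mul_zero])
    have hE1 : E ≠ 1 := fun h0 => by
      have := hEE
      rw [h0, mul_one] at this
      exact one_ne_zero (α := ZMod r) (by linear_combination -this)
    have hE2 : E ≠ 2 := fun h0 => by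
      have := hEE
      rw [h0] at this
      exact h2r (by linear_combination this)
    fin_cases i <;> fin_cases j <;> first
      | rfl
      | (exfalso
         simp only [ex, Fin.zero_eta, Fin.mk_one, Fin.reduceFinMk, Matrix.cons_val, Nat.cast_mul, hrc,
           hec, Nat.cast_one] at h'
         first
          | exact hE2 (by linear_combination h')
          | exact hE2 (by linear_combination -h')
          | exact hE0 (by linear_combination h')
          | exact hE0 (by linear_combination -h')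
          | exact hE1 (mul_left_cancel₀ h2r (by linear_combination h'))
          | exact hE1 (mul_left_cancel₀ h2r (by linear_combination -h'))
          | exact h2r (by linear_combination h')
          | exact h2r (by linear_combination -h'))
  have hdet : (Matrix.diagonal d).det ≠ 0 := by
    rw [Matrix.det_diagonal]
    exact Finset.prod_ne_zero_iff.mpr fun i _ => pow_ne_zero _ t.ne_zero
  let a : GL (Fin 4) F := Matrix.GeneralLinearGroup.mkOfDetNeZero (Matrix.diagonal d) hdet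
  have htr : (t : F) ^ r = 1 := by
    rw [← Units.val_pow_eq_pow_val, ← ht, pow_orderOf_eq_one, Units.val_one]
  have hmodt : ∀ i j : ℕ, (i : ZMod r) = j → (t : F) ^ i = (t : F) ^ j := fun i j h => by
    rw [ZMod.natCast_eq_natCast_iff, ← ht] at h
    rw [← Units.val_pow_eq_pow_val, ← Units.val_pow_eq_pow_val, pow_eq_pow_iff_modEq.mpr h]
  have ha : a ∈ Cfsg.Lie.Sz F e := by
    refine Subgroup.subset_closure ⟨?_, ?_⟩
    · intro u v
      have h03 : d 0 * d 3 = 1 := by
        simp only [d, ← pow_add, ← pow_zero (t : F)]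
        refine hmodt _ _ ?_
        simp [ex, hrc]
      have h12 : d 1 * d 2 = 1 := by
        simp only [d, ← pow_add, ← pow_zero (t : F)]
        refine hmodt _ _ ?_
        simp only [ex, Matrix.cons_val, Nat.cast_add, Nat.cast_mul, hrc, hec, Nat.cast_zero]
        ring
      show Cfsg.Lie.altForm4 (Matrix.diagonal d *ᵥ u) (Matrix.diagonal d *ᵥ v) = _
      simp only [Cfsg.Lie.altForm4, Matrix.mulVec_diagonal]
      linear_combination (u 0 * v 3 + u 3 * v 0) * h03 + (u 1 * v 2 + u 2 * v 1) * h12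
    · ext i j
      show Cfsg.Lie.star4 (Matrix.diagonal d) i j = (Matrix.diagonal d i j) ^ e
      fin_cases i <;> fin_cases j <;>
        simp [Cfsg.Lie.star4, Cfsg.Lie.pairOf, he0, Matrix.diagonal] <;>
        (simp only [d, ← pow_add, ← pow_mul]
         refine hmodt _ _ ?_
         simp only [ex, Matrix.cons_val, Nat.cast_add, Nat.cast_mul, hrc, hec, hEe, Nat.cast_one]
         first
          | linear_combination (0 : ZMod r) * hEE
          | linear_combination hEE
          | linear_combination -hEE)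
  have har : a ^ r = 1 := Units.ext (by
    rw [Units.val_pow_eq_pow_val, Units.val_one]
    show Matrix.diagonal d ^ r = 1
    rw [Matrix.diagonal_pow, ← Matrix.diagonal_one]
    congr 1
    funext i
    simp only [d, Pi.pow_apply, ← pow_mul, mul_comm _ r]
    rw [pow_mul, htr, one_pow])
  obtain ⟨u, hu, huU⟩ := szS_mem (F := F) e he0
  -- the members
  let pre : Subgroup (Cfsg.Lie.Sz F e) → Subgroup (GL (Fin 4) F) := fun A => A.map (Cfsg.Lie.Sz F e).subtype
  have hpre : ∀ A ∈ 𝓐, Group.IsNilpotent (pre A) := fun A hA' => by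
    haveI := hnil A hA'
    exact Cores.isNilpotent_map _ _
  have hmem : ∀ x : GL (Fin 4) F, x ∈ Cfsg.Lie.Sz F e → ∃ A ∈ 𝓐, x ∈ pre A := fun x hx => by
    obtain ⟨A, hA', hg⟩ := hcov ⟨x, hx⟩
    exact ⟨A, hA', _, hg, rfl⟩
  let v₀ : Fin 4 → F := Pi.single 3 1
  have hv₀ : v₀ ≠ 0 := by simp [v₀]
  letI : Fintype (ℙ F (Fin 4 → F)) := Fintype.ofFinite _
  let Ω := {P : ℙ F (Fin 4 → F) // ∃ g ∈ Cfsg.Lie.Sz F e, ∃ c : F, c ≠ 0 ∧
    (g : Matrix (Fin 4) (Fin 4) F) *ᵥ v₀ = c • P.rep}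
  letI : Fintype Ω := Fintype.ofFinite _
  choose g hg c hc hgc using fun P : Ω => P.2
  have huP : ∀ P : Ω, Uni F 4 2 P.1.rep (g P * u * (g P)⁻¹) := fun P => by
    obtain ⟨k, hk⟩ := huU.pow
    refine ⟨by rw [Cfsg.Agent.Lib.LinCover.det_conj, huU.det], ⟨k, by rw [conj_pow, hk, mul_one, mul_inv_cancel]⟩, fun w hw => ?_⟩
    have h1 := mem_span_conj (g P) (huU.fix (((g P)⁻¹ : GL (Fin 4) F).val *ᵥ w) (by rw [← conj_mulVec, hw]))
    rw [show ((g P : GL (Fin 4) F) : Matrix (Fin 4) (Fin 4) F) *ᵥ Pi.single 3 1 = c P • P.1.rep from hgc P] at h1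
    exact Submodule.span_singleton_smul_le F (c P) _ h1
  choose A hAm huA using fun P : Ω => hmem (g P * u * (g P)⁻¹) (mul_mem (mul_mem (hg P) hu) (inv_mem (hg P)))
  obtain ⟨D, hD, haD⟩ := hmem a ha
  haveI := hpre D hD
  obtain ⟨hD2, hDfix⟩ := fix_of_diag (X := pre D)
    ((Subgroup.map_subtype_le D).trans (sz_le_sp4 F e)) hd rfl haD hr2 har
  have hAfix : ∀ P, pre (A P) ≤ lineStab P.1.rep := fun P => by
    haveI := hpre _ (hAm P)
    exact le_lineStab_of_unipotent _ (huA P) (huP P).pow P.1.rep_nonzero (huP P).fix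
  let P₀ : Ω := ⟨Projectivization.mk F v₀ hv₀, 1, one_mem _, by
    obtain ⟨s, hs⟩ := Projectivization.exists_smul_eq_mk_rep F v₀ hv₀
    refine ⟨(s⁻¹ : Fˣ), (s⁻¹).ne_zero, ?_⟩
    rw [← hs, Units.smul_def, smul_smul, ← Units.val_mul, inv_mul_cancel, Units.val_one, Units.val_one,
      one_smul, one_mulVec]⟩
  have hD0 : pre D ≤ lineStab P₀.1.rep := fun x hx => by
    obtain ⟨s, hs⟩ := Projectivization.exists_smul_eq_mk_rep F v₀ hv₀
    obtain ⟨k, hk, hkv⟩ := hDfix hx
    refine ⟨k, hk, ?_⟩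
    show _ *ᵥ (Projectivization.mk F v₀ hv₀).rep = k • (Projectivization.mk F v₀ hv₀).rep
    rw [← hs, Units.smul_def, mulVec_smul, hkv, smul_comm]
  let St : Ω → Subgroup (Cfsg.Lie.Sz F e) := fun P => (lineStab P.1.rep).comap (Cfsg.Lie.Sz F e).subtype
  refine false_of_small hA hcov hmin (fun o : Option Ω => o.elim D A)
    (fun o => by cases o <;> simp [hD, hAm]) ?_ (Finset.univ.image St) ?_ ?_ ?_
  · intro o o' h
    cases o <;> cases o'
    · rfl
    · rename_i P
      change D = A P at h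
      obtain ⟨k, hk⟩ := (huP P).pow
      have h1 := hD2 _ (h ▸ huA P) k hk
      exfalso
      rw [mul_inv_eq_one, mul_eq_left] at h1
      have h2 := huU.fix (Pi.single 0 1) (by rw [h1, Units.val_one, one_mulVec])
      obtain ⟨z, hz⟩ := Submodule.mem_span_singleton.mp h2
      have := congrFun hz 0
      simp at this
    · rename_i P
      change A P = D at h
      obtain ⟨k, hk⟩ := (huP P).pow
      have h1 := hD2 _ (h.symm ▸ huA P) k hk
      exfalso
      rw [mul_inv_eq_one, mul_eq_left] at h1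
      have h2 := huU.fix (Pi.single 0 1) (by rw [h1, Units.val_one, one_mulVec])
      obtain ⟨z, hz⟩ := Submodule.mem_span_singleton.mp h2
      have := congrFun hz 0
      simp at this
    · rename_i P Q
      change A P = A Q at h
      have h1 := (huP Q).eigen P.1.rep_nonzero (hAfix P (h ▸ huA Q))
      obtain ⟨z, hz⟩ := Submodule.mem_span_singleton.mp h1
      have := (Projectivization.mk_eq_mk_iff' F _ _ P.1.rep_nonzero Q.1.rep_nonzero).mpr ⟨z, hz⟩
      rw [Projectivization.mk_rep, Projectivization.mk_rep] at this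
      rw [Subtype.ext this]
  · intro C hC htop
    obtain ⟨P, -, rfl⟩ := Finset.mem_image.mp hC
    have hall : ∀ x : Cfsg.Lie.Sz F e, (x : GL (Fin 4) F) ∈ lineStab P.1.rep := fun x =>
      (htop ▸ Subgroup.mem_top x : x ∈ St P)
    have hW := Cfsg.Agent.Lib.KnownA.szUnitW_mem (F := F) he0
    have h1 := hall ⟨(g P)⁻¹⁻¹, inv_mem (inv_mem (hg P))⟩
    obtain ⟨k1, hk1, hk1'⟩ := hall ⟨g P * Cfsg.Agent.Lib.KnownA.szUnitW * (g P)⁻¹,
      mul_mem (mul_mem (hg P) hW) (inv_mem (hg P))⟩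
    have h2 : (((g P)⁻¹ : GL (Fin 4) F) : Matrix (Fin 4) (Fin 4) F) *ᵥ P.1.rep = (c P)⁻¹ • v₀ := by
      rw [← inv_smul_smul₀ (hc P) P.1.rep, ← hgc P, mulVec_smul, mulVec_mulVec, ← Units.val_mul,
        inv_mul_cancel, Units.val_one, one_mulVec]
    have h3 := congrArg ((((g P)⁻¹ : GL (Fin 4) F) : Matrix (Fin 4) (Fin 4) F) *ᵥ ·) hk1'
    simp only [conj_mulVec, mulVec_smul, h2] at h3
    have h4 := congrFun h3 0
    simp [v₀, Cfsg.Agent.Lib.KnownA.szUnitW, Cfsg.Agent.Lib.KnownA.szW] at h4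
    exact hc P h4
  · intro o x hx
    cases o with
    | none => exact ⟨_, Finset.mem_image_of_mem _ (Finset.mem_univ P₀), hD0 ⟨x, hx, rfl⟩⟩
    | some P => exact ⟨_, Finset.mem_image_of_mem _ (Finset.mem_univ P), hAfix P ⟨x, hx, rfl⟩⟩
  · rw [Fintype.card_option]
    exact Nat.lt_succ_of_le Finset.card_image_le

end Cfsg.Agent.S3893
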