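import Cfsg.Statements.S3899
import Cfsg.Agent.Lib.Cores.ClassCount

set_option autoImplicit false
open Cfsg

namespace Cfsg.Agent.S3899

open Cfsg.Agent.Lib.Cores

/-- Let π be a finite non-empty set of odd primes with smallest member p and G a finite group. Write k_π(G) for the number of conjugacy classes of G consisting of π-elements (elements all of whose order's prime divisors lie in π) and |G|_π for the π-part of the order of G. If k_π(G) > (p + 1)|G|_π/(2p), then G has a normal π-complement (a normal subgroup of order prime to π whose index is a π-number) and an abelian Hall π-subgroup. -/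
theorem result {G : Type*} [Group G] [Finite G] (π : Finset ℕ) (hπ : ∀ r ∈ π, r.Prime) (h2 : 2 ∉ π) (p : ℕ) (hp : p ∈ π)
    (hmin : ∀ r ∈ π, p ≤ r) (hk : (p + 1) * π.prod (fun r => r ^ (Nat.card G).factorization r) < 2 * p * Nat.card {c : ConjClasses G // ∀ x ∈ c.carrier, ∀ r : ℕ, r.Prime → r ∣ orderOf x → r ∈ π}) :
    (∃ N : Subgroup G, N.Normal ∧ (∀ r : ℕ, r.Prime → r ∣ Nat.card ↥N → r ∉ π) ∧ ∀ r : ℕ, r.Prime → r ∣ N.index → r ∈ π) ∧ ∃ H : Subgroup G, Cfsg.IsPiHall (↑π : Set ℕ) H ∧ IsMulCommutative ↥H := by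
  classical
  have hk' : (p + 1) * ClassCount.part G π < 2 * p * ClassCount.k G π := hk
  have key : ∀ r ∈ π, ∃ K : Subgroup G, K.Normal ∧ ¬ r ∣ Nat.card ↥K ∧
      K.index = r ^ (Nat.card G).factorization r ∧ ∀ a b : G ⧸ K, ∀ (_ : K.Normal), a * b = b * a := by
    intro r hr
    have hrp := hπ r hr
    have := Fact.mk hrp
    let P : Sylow r G := default
    have hsplit : ClassCount.k G π ≤ ClassCount.k G {r} * ClassCount.part G (π.erase r) := by
      have hS : ∀ s ∈ π.erase r, s.Prime := fun s hs => hπ s (Finset.mem_of_mem_erase hs)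
      have h1 := ClassCount.k_insert_le (G := G) hS hrp (Finset.notMem_erase r π)
        fun H => ClassCount.k_le_part (π.erase r) hS ↥H
      rwa [Finset.insert_erase hr] at h1
    have hpart : ClassCount.part G π =
        r ^ (Nat.card G).factorization r * ClassCount.part G (π.erase r) :=
      (Finset.mul_prod_erase π _ hr).symm
    have hpr : p ≤ r := hmin r hr
    have h1 : (p + 1) * r ^ (Nat.card G).factorization r < 2 * p * ClassCount.k G {r} := by
      refine Nat.lt_of_mul_lt_mul_right (a := ClassCount.part G (π.erase r)) ?_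
      calc (p + 1) * r ^ (Nat.card G).factorization r * ClassCount.part G (π.erase r)
          = (p + 1) * ClassCount.part G π := by rw [hpart]; ring
        _ < 2 * p * ClassCount.k G π := hk'
        _ ≤ _ := le_trans (Nat.mul_le_mul_left _ hsplit) (le_of_eq (by ring))
    have h2 : (r + 1) * Nat.card ↥(P : Subgroup G) < 2 * r * ClassCount.k G {r} := by
      rw [P.card_eq_multiplicity]
      refine Nat.lt_of_mul_lt_mul_left (a := p) ?_
      calc p * ((r + 1) * r ^ (Nat.card G).factorization r)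
          ≤ r * ((p + 1) * r ^ (Nat.card G).factorization r) := by
            nlinarith [Nat.mul_le_mul_right (r ^ (Nat.card G).factorization r) hpr]
        _ < r * (2 * p * ClassCount.k G {r}) := Nat.mul_lt_mul_of_pos_left h1 hrp.pos
        _ = _ := by ring
    obtain ⟨⟨P', K, hK, hc⟩, hab⟩ := ClassCount.normal_complement_of_many P h2
    have h3 := hc.card_mul_card
    rw [P'.card_eq_multiplicity] at h3
    have hidx : K.index = r ^ (Nat.card G).factorization r := by
      have h4 := K.index_mul_card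
      rw [← h3, mul_comm (Nat.card ↥K)] at h4
      exact Nat.eq_of_mul_eq_mul_right Nat.card_pos h4
    refine ⟨K, hK, fun hd => ?_, hidx, fun a b _ => ?_⟩
    · obtain ⟨c, hc'⟩ := hd
      have h2 : r ^ ((Nat.card G).factorization r + 1) ∣ Nat.card G :=
        ⟨c, by rw [pow_succ]; rw [hc'] at h3; linarith⟩
      exact absurd ((hrp.pow_dvd_iff_le_factorization Nat.card_pos.ne').mp h2) (by omega)
    · have hsurj : Function.Surjective ((QuotientGroup.mk' K).comp (P' : Subgroup G).subtype) := by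
        intro q
        obtain ⟨x, rfl⟩ := QuotientGroup.mk'_surjective K q
        obtain ⟨⟨⟨n, hn⟩, ⟨y, hy⟩⟩, rfl⟩ := hc.2 x
        refine ⟨⟨y, hy⟩, ?_⟩
        show QuotientGroup.mk' K y = QuotientGroup.mk' K (n * y)
        rw [map_mul, show QuotientGroup.mk' K n = 1 from (QuotientGroup.eq_one_iff n).mpr hn,
          one_mul]
      obtain ⟨a, rfl⟩ := hsurj a
      obtain ⟨b, rfl⟩ := hsurj b
      rw [← map_mul, ← map_mul]
      congr 1
      refine (Sylow.equiv P' P).injective ?_
      rw [map_mul, map_mul]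
      exact hab.1.comm _ _
  choose K hKn hKr hKi hKab using key
  let N : Subgroup G := π.attach.inf fun r => K r.1 r.2
  have hN : N.Normal := Finset.inf_induction (p := fun H : Subgroup G => H.Normal)
    Subgroup.normal_top (fun A hA B hB => by
      have := hA; have := hB; exact Subgroup.normal_inf_normal A B)
    fun r _ => hKn r.1 r.2
  have hNle : ∀ r hr, N ≤ K r hr := fun r hr =>
    Finset.inf_le (f := fun r : {x // x ∈ π} => K r.1 r.2) (Finset.mem_attach π ⟨r, hr⟩)
  have hNcard : ∀ r : ℕ, r.Prime → r ∣ Nat.card ↥N → r ∉ π := fun r _ hd hr =>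
    hKr r hr (hd.trans (Subgroup.card_dvd_of_le (hNle r hr)))
  have hNidx : ∀ r : ℕ, r.Prime → r ∣ N.index → r ∈ π := by
    intro r hr
    refine Finset.inf_induction (p := fun H : Subgroup G => H.Normal ∧ (r ∣ H.index → r ∈ π))
      ⟨Subgroup.normal_top, fun h => absurd (Subgroup.index_top (G := G) ▸ h) hr.not_dvd_one⟩
      ?_ (fun s _ => ⟨hKn s.1 s.2, fun h => ?_⟩) |>.2
    · rintro A ⟨hA, hA'⟩ B ⟨hB, hB'⟩
      refine ⟨Subgroup.normal_inf_normal A B, fun h => ?_⟩
      rw [← Subgroup.relIndex_mul_index (inf_le_left : A ⊓ B ≤ A)] at h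
      rcases hr.dvd_mul.mp h with h | h
      · rw [Subgroup.inf_relIndex_left] at h
        exact hB' (h.trans (Subgroup.relIndex_dvd_index_of_normal B A))
      · exact hA' h
    · rw [hKi s.1 s.2] at h
      exact (Nat.prime_dvd_prime_iff_eq hr (hπ s.1 s.2)).mp (hr.dvd_of_dvd_pow h) ▸ s.2
  refine ⟨⟨N, hN, hNcard, hNidx⟩, ?_⟩
  have hcop : (Nat.card ↥N).Coprime N.index := Nat.coprime_of_dvd fun r hr h1 h2 =>
    hNcard r hr h1 (hNidx r hr h2)
  obtain ⟨H, hH⟩ := Subgroup.exists_right_complement'_of_coprime hcop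
  have hHcard : Nat.card ↥H = N.index := (hH.symm.index_eq_card).symm
  refine ⟨H, ⟨fun r hr hd => Finset.mem_coe.mpr (hNidx r hr (hHcard ▸ hd)), fun r hr hrπ hd => ?_⟩,
    ⟨⟨fun a b => ?_⟩⟩⟩
  · rw [hH.index_eq_card] at hd
    exact hNcard r hr hd (Finset.mem_coe.mp hrπ)
  · have hc : (a : G)⁻¹ * (b : G)⁻¹ * a * b ∈ N := by
      refine (Finset.inf_induction (p := fun L : Subgroup G => (a : G)⁻¹ * (b : G)⁻¹ * a * b ∈ L)
        (Subgroup.mem_top _) (fun A hA B hB => Subgroup.mem_inf.mpr ⟨hA, hB⟩) fun s _ => ?_)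
      have := hKn s.1 s.2
      rw [← QuotientGroup.eq_one_iff]
      show QuotientGroup.mk' (K s.1 s.2) _ = 1
      simp only [map_mul, map_inv]
      rw [mul_assoc ((QuotientGroup.mk' _ (a : G))⁻¹ * _),
        hKab s.1 s.2 (QuotientGroup.mk' _ (a : G)) (QuotientGroup.mk' _ (b : G)) this]
      group
    have h1 : (a : G)⁻¹ * (b : G)⁻¹ * a * b ∈ N ⊓ H :=
      Subgroup.mem_inf.mpr ⟨hc, mul_mem (mul_mem (mul_mem (inv_mem a.2) (inv_mem b.2)) a.2) b.2⟩
    rw [hH.disjoint.eq_bot, Subgroup.mem_bot] at h1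
    refine Subtype.ext ?_
    show (a : G) * b = b * a
    calc (a : G) * b = b * a * ((a : G)⁻¹ * (b : G)⁻¹ * a * b) := by group
      _ = _ := by rw [h1, mul_one]

end Cfsg.Agent.S3899
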