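import Cfsg.Statements.S3901
import Cfsg.Agent.Lib.Characters.CNTheorem
import Cfsg.Agent.Lib.Characters.Burnside
import Cfsg.Agent.Lib.Coprime.Action
import Cfsg.Agent.S0199

set_option autoImplicit false
open Cfsg
open scoped Pointwise

namespace Cfsg.Agent.S3901

/-- All elements outside `N` have prime power order. -/
def Outside {G : Type*} [Group G] (N : Subgroup G) : Prop := ∀ x : G, x ∉ N → IsPrimePow (orderOf x)

theorem exists_third_prime {n q : ℕ} (hn : n ≠ 0) (hq : q.Prime) (hq2 : q ≠ 2)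
    (h : ∀ a b : ℕ, n ≠ 2 ^ a * q ^ b) : ∃ r : ℕ, r.Prime ∧ r ∣ n ∧ r ≠ 2 ∧ r ≠ q := by
  by_contra! hall
  refine h (n.factorization 2) (n.factorization q) ?_
  have hne : 2 ^ n.factorization 2 * q ^ n.factorization q ≠ 0 :=
    Nat.mul_ne_zero (pow_ne_zero _ (by norm_num)) (pow_ne_zero _ hq.ne_zero)
  refine Nat.eq_of_factorization_eq hn hne fun r => ?_
  rw [Nat.factorization_mul (pow_ne_zero _ (by norm_num)) (pow_ne_zero _ hq.ne_zero),
    Finsupp.add_apply, Nat.prime_two.factorization_pow, hq.factorization_pow]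
  rcases eq_or_ne r 2 with rfl | h2
  · rw [Finsupp.single_eq_same, Finsupp.single_eq_of_ne hq2.symm, add_zero]
  rcases eq_or_ne r q with rfl | h3
  · rw [Finsupp.single_eq_of_ne h2, Finsupp.single_eq_same, zero_add]
  · rw [Finsupp.single_eq_of_ne h2, Finsupp.single_eq_of_ne h3, add_zero]
    by_cases hr : r.Prime
    · exact Nat.factorization_eq_zero_of_not_dvd fun hd => h3 (hall r hr hd h2)
    · exact Nat.factorization_eq_zero_of_not_prime _ hr

theorem prime_eq_of_dvd_primePow {m a b : ℕ} (hm : IsPrimePow m) (ha : a.Prime) (hb : b.Prime)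
    (ham : a ∣ m) (hbm : b ∣ m) : a = b := by
  obtain ⟨l, j, hl, -, rfl⟩ := (isPrimePow_nat_iff _).mp hm
  rw [(Nat.prime_dvd_prime_iff_eq ha hl).mp (ha.dvd_of_dvd_pow ham),
    (Nat.prime_dvd_prime_iff_eq hb hl).mp (hb.dvd_of_dvd_pow hbm)]

/-- Commuting elements outside/inside `N` share their prime. -/
theorem eq_of_commute {G : Type*} [Group G] [Finite G] {N : Subgroup G} (h : Outside N) {x y : G}
    (hx : x ∉ N) (hy : y ∈ N) (hc : Commute x y) {r s : ℕ} (hr : r.Prime) (hs : s.Prime)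
    (hrx : r ∣ orderOf x) (hsy : s ∣ orderOf y) : r = s := by
  by_contra hne
  have hxy : x * y ∉ N := fun hm => hx (by
    have := N.mul_mem hm (N.inv_mem hy)
    rwa [mul_inv_cancel_right] at this)
  by_cases hco : (orderOf x).Coprime (orderOf y)
  · have h2 := h _ hxy
    rw [hc.orderOf_mul_eq_mul_orderOf_of_coprime hco] at h2
    exact hne (prime_eq_of_dvd_primePow h2 hr hs (hrx.mul_right _) (hsy.mul_left _))
  · -- `x` has order a power of `r`, so pass to the `s`-part of `y`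
    set v := y ^ (orderOf y / s) with hv
    have hvo : orderOf v = s := orderOf_pow_orderOf_div (orderOf_pos y).ne' hsy
    have hxv : x * v ∉ N := fun hm => hx (by
      have := N.mul_mem hm (N.inv_mem (N.pow_mem hy _ : v ∈ N))
      rwa [mul_inv_cancel_right] at this)
    have hco' : (orderOf x).Coprime (orderOf v) := by
      rw [hvo, Nat.coprime_comm, hs.coprime_iff_not_dvd]
      exact fun hd => hne (prime_eq_of_dvd_primePow (h x hx) hr hs hrx hd)
    have h2 := h _ hxv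
    rw [(hc.pow_right _).orderOf_mul_eq_mul_orderOf_of_coprime hco', hvo] at h2
    exact hne (prime_eq_of_dvd_primePow h2 hr hs (hrx.mul_right _) (dvd_mul_left s _))

/-- An involution outside `N` inverts the odd-order subgroups of `N` that it normalizes. -/
theorem inv_of_involution {G : Type*} [Group G] [Finite G] {N : Subgroup G} (h : Outside N)
    {R : Subgroup G} {r : ℕ} [Fact r.Prime] (hR : IsPGroup r R) (hRN : R ≤ N) (hr2 : r ≠ 2)
    {t : G} (htN : t ∉ N) (ht : t * t = 1) (htR : ∀ v ∈ R, t * v * t ∈ R) :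
    ∀ v ∈ R, t * v * t = v⁻¹ := by
  have ht2 : 2 ∣ orderOf t := by
    have h1 : orderOf t = 2 := orderOf_eq_prime (by rw [pow_two]; exact ht) (fun e => htN (e ▸ N.one_mem))
    rw [h1]
  have hfix : ∀ v ∈ R, t * v * t = v → v = 1 := by
    intro v hv hfv
    by_contra hv1
    obtain ⟨i, hi⟩ := hR ⟨v, hv⟩
    have hi' : v ^ r ^ i = 1 := congrArg Subtype.val hi
    obtain ⟨j, -, hj⟩ := (Nat.dvd_prime_pow Fact.out).mp (orderOf_dvd_of_pow_eq_one hi')
    have hj0 : j ≠ 0 := fun e => hv1 (orderOf_eq_one_iff.mp (by rw [hj, e, pow_zero]))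
    have hc : Commute t v := by
      show t * v = v * t
      calc t * v = t * v * (t * t) := by rw [ht, mul_one]
        _ = (t * v * t) * t := by group
        _ = v * t := by rw [hfv]
    exact hr2 (eq_of_commute h htN (hRN hv) hc Nat.prime_two Fact.out ht2
      (hj ▸ dvd_pow_self r hj0)).symm
  have hinv : t⁻¹ = t := inv_eq_of_mul_eq_one_right ht
  let f : R → R := fun v => ⟨(v : G)⁻¹ * (t * v * t), R.mul_mem (R.inv_mem v.2) (htR v v.2)⟩
  have hf : Function.Injective f := by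
    intro u v huv
    have h1 : (u : G)⁻¹ * (t * u * t) = (v : G)⁻¹ * (t * v * t) := congrArg Subtype.val huv
    have h2 : t * ((v : G) * (u : G)⁻¹) * t = (v : G) * (u : G)⁻¹ := by
      calc t * ((v : G) * (u : G)⁻¹) * t = (t * v * t) * (t⁻¹ * (u : G)⁻¹ * t) := by group
        _ = (v * ((v : G)⁻¹ * (t * v * t))) * (t⁻¹ * (u : G)⁻¹ * t⁻¹) := by rw [hinv]; group
        _ = (v * ((u : G)⁻¹ * (t * u * t))) * (t⁻¹ * (u : G)⁻¹ * t⁻¹) := by rw [h1]
        _ = (v : G) * (u : G)⁻¹ := by group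
    have h3 := hfix _ (R.mul_mem v.2 (R.inv_mem u.2)) h2
    exact Subtype.ext (mul_inv_eq_one.mp h3).symm
  intro v hv
  obtain ⟨u, hu⟩ := Finite.surjective_of_injective hf ⟨v, hv⟩
  have hu' : (u : G)⁻¹ * (t * u * t) = v := congrArg Subtype.val hu
  calc t * v * t = t * ((u : G)⁻¹ * (t * u * t)) * t := by rw [hu']
    _ = (t * (u : G)⁻¹ * t) * ((u : G) * (t * t)) := by group
    _ = t⁻¹ * (u : G)⁻¹ * t⁻¹ * (u : G) := by rw [ht, mul_one, hinv]
    _ = ((u : G)⁻¹ * (t * u * t))⁻¹ := by group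
    _ = v⁻¹ := by rw [hu']

/-- Let N be a non-trivial normal subgroup of the finite group G such that every element of G outside N has prime power order. If N is not solvable, then G/N is solvable. -/
theorem result {G : Type*} [Group G] [Finite G] (N : Subgroup G) [N.Normal] (hN : N ≠ ⊥) (hns : ¬ Group.IsSolvable ↥N)
    (h : ∀ x : G, x ∉ N → IsPrimePow (orderOf x)) : Group.IsSolvable (G ⧸ N) := by
  classical
  by_contra hQ
  -- enlarge `N`
  obtain ⟨N', ⟨hN'n, hle, hN'Q⟩, hmax⟩ := Set.Finite.exists_maximal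
    (s := {M : Subgroup G | ∃ _ : M.Normal, N ≤ M ∧ ¬ Group.IsSolvable (G ⧸ M)}) (Set.toFinite _)
    ⟨N, inferInstance, le_rfl, hQ⟩
  haveI := hN'n
  have h' : Outside N' := fun x hx => h x fun hm => hx (hle hm)
  have hN's : ¬ Group.IsSolvable ↥N' := fun hs => hns (Lib.Coprime.isSolvable_of_le hle hs)
  clear hQ
  set π := QuotientGroup.mk' N' with hπ
  have hπs : Function.Surjective π := QuotientGroup.mk'_surjective N'
  have hπ1 : ∀ g : G, π g = 1 ↔ g ∈ N' := fun g => QuotientGroup.eq_one_iff g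
  have hCP : ∀ u : G ⧸ N', u ≠ 1 → IsPrimePow (orderOf u) := by
    intro u hu
    obtain ⟨g, rfl⟩ := hπs u
    exact IsPrimePow.dvd (h' g fun hm => hu ((hπ1 g).mpr hm)) (orderOf_map_dvd _ _)
      (fun e => hu (orderOf_eq_one_iff.mp e))
  -- there is an involution in the quotient
  have heven : 2 ∣ Nat.card (G ⧸ N') := by
    by_contra hodd
    refine hN'Q (Lib.Characters.isSolvable_of_odd_cn (Nat.odd_iff.mpr (Nat.two_dvd_ne_zero.mp hodd)) fun g hg => ?_)
    obtain ⟨l, j, hl, hj, hlj⟩ := (isPrimePow_nat_iff _).mp (hCP g hg)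
    haveI : Fact l.Prime := ⟨hl⟩
    suffices hp : IsPGroup l (Subgroup.centralizer ({g} : Set (G ⧸ N'))) from hp.isNilpotent
    intro w
    by_cases hw : (w : G ⧸ N') = 1
    · exact ⟨0, Subtype.ext (by simp [hw])⟩
    obtain ⟨l', j', hl', hj', hlj'⟩ := (isPrimePow_nat_iff _).mp (hCP _ hw)
    have hll : l' = l := by
      by_contra hne
      have hco : (orderOf g).Coprime (orderOf (w : G ⧸ N')) := by
        rw [← hlj, ← hlj']
        exact Nat.Coprime.pow _ _ ((Nat.coprime_primes hl hl').mpr (Ne.symm hne))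
      have hcm : Commute g (w : G ⧸ N') := (Subgroup.mem_centralizer_singleton_iff.mp w.2).symm
      have h1 : g * w ≠ 1 := fun e => by
        have e1 := hcm.orderOf_mul_eq_mul_orderOf_of_coprime hco
        rw [e, orderOf_one, ← hlj] at e1
        have := Nat.eq_one_of_mul_eq_one_right e1.symm
        exact hl.one_lt.ne' ((Nat.pow_eq_one.mp this).resolve_right (by omega))
      have h2 := hCP _ h1
      rw [hcm.orderOf_mul_eq_mul_orderOf_of_coprime hco] at h2
      exact hne (prime_eq_of_dvd_primePow h2 hl' hl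
        ((hlj' ▸ dvd_pow_self l' (by omega : j' ≠ 0)).mul_left _)
        ((hlj ▸ dvd_pow_self l (by omega : j ≠ 0)).mul_right _))
    refine ⟨j', Subtype.ext ?_⟩
    rw [SubgroupClass.coe_pow, ← hll, hlj', pow_orderOf_eq_one]
    rfl
  haveI : Fact (Nat.Prime 2) := ⟨Nat.prime_two⟩
  obtain ⟨u, hu⟩ := exists_prime_orderOf_dvd_card' 2 heven
  have hu1 : u ≠ 1 := fun e => by rw [e, orderOf_one] at hu; omega
  have huu : u * u = 1 := by rw [← pow_two, ← hu, pow_orderOf_eq_one]
  -- a conjugate with product of odd order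
  obtain ⟨c, q, j, hq, hq2, hj, hqj⟩ : ∃ (c : G ⧸ N') (q j : ℕ), q.Prime ∧ q ≠ 2 ∧ 0 < j ∧
      orderOf (u * (c * u * c⁻¹)) = q ^ j := by
    by_contra! hall
    have h2 : IsPGroup 2 (Subgroup.zpowers u) := IsPGroup.of_card (n := 1) (by rw [Nat.card_zpowers, hu, pow_one])
    obtain ⟨T, hTn, hT2, huT⟩ := S0199.result (Subgroup.zpowers u) h2 fun c => by
      rw [MonoidHom.map_zpowers]
      show IsPGroup 2 ↥(Subgroup.zpowers u ⊔ Subgroup.zpowers (c * u * c⁻¹))
      set w := c * u * c⁻¹ with hw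
      have hww : w * w = 1 := by
        rw [hw, show c * u * c⁻¹ * (c * u * c⁻¹) = c * (u * u) * c⁻¹ by group, huu]; group
      by_cases hd1 : u * w = 1
      · have e : w = u := by
          rw [← one_mul w, ← huu, mul_assoc, hd1, mul_one]
        rw [e, sup_idem]; exact h2
      obtain ⟨l, i, hl, hi, hli⟩ := (isPrimePow_nat_iff _).mp (hCP _ hd1)
      have hl2 : l = 2 := by
        by_contra hne
        exact hall c l i hl hne hi hli.symm
      subst hl2
      have hd : IsPGroup 2 (Subgroup.zpowers (u * w)) :=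
        IsPGroup.of_card (n := i) (by rw [Nat.card_zpowers, hli])
      have hun : u ∈ Subgroup.normalizer ((Subgroup.zpowers (u * w) : Subgroup _) : Set _) := by
        refine (Lib.Coprime.mem_normalizer_of_conj_smul_eq ?_)
        show (Subgroup.zpowers (u * w)).map (MulAut.conj u).toMonoidHom = _
        rw [MonoidHom.map_zpowers, ← Subgroup.zpowers_inv (g := u * w)]
        congr 1
        show u * (u * w) * u⁻¹ = (u * w)⁻¹
        rw [inv_eq_of_mul_eq_one_right huu, ← mul_assoc, huu, one_mul, mul_inv_rev,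
          inv_eq_of_mul_eq_one_right huu, inv_eq_of_mul_eq_one_right hww]
      refine (hd.to_sup_of_normal_left' h2 ((Subgroup.zpowers_le).mpr hun)).to_le (sup_le le_sup_right ?_)
      refine (Subgroup.zpowers_le).mpr ?_
      have := mul_mem (Subgroup.mem_sup_right (Subgroup.mem_zpowers u) :
          u ∈ Subgroup.zpowers (u * w) ⊔ Subgroup.zpowers u)
        (Subgroup.mem_sup_left (Subgroup.mem_zpowers (u * w)) :
          u * w ∈ Subgroup.zpowers (u * w) ⊔ Subgroup.zpowers u)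
      have e2 : u * (u * w) = w := by rw [← mul_assoc, huu, one_mul]
      rw [e2] at this
      exact this
    haveI := hTn
    have hTc : T.comap π ≤ N' := by
      refine hmax (y := T.comap π) ⟨hTn.comap π, hle.trans (fun g hg => ?_), fun hs => hN'Q ?_⟩ (fun g hg => ?_)
      · rw [Subgroup.mem_comap, (hπ1 g).mpr hg]; exact one_mem _
      · haveI := hT2.isNilpotent
        haveI : Group.IsSolvable ((G ⧸ N') ⧸ T) :=
          Group.isSolvable_of_surjective (f := (QuotientGroup.lift (T.comap π) ((QuotientGroup.mk' T).comp π) (fun g hg => by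
            simpa using (QuotientGroup.eq_one_iff (N := T) (π g)).mpr hg))) (fun z => by
            obtain ⟨y, rfl⟩ := QuotientGroup.mk'_surjective T z
            obtain ⟨g, rfl⟩ := hπs y
            exact ⟨QuotientGroup.mk g, rfl⟩)
        exact Group.isSolvable_of_ker_le_range T.subtype (QuotientGroup.mk' T) (by simp)
      · rw [Subgroup.mem_comap, (hπ1 g).mpr hg]; exact one_mem _
    obtain ⟨g, hg⟩ := hπs u
    exact hu1 (hg ▸ (hπ1 g).mpr (hTc (show π g ∈ T from hg ▸ huT (Subgroup.mem_zpowers u))))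
  set d := u * (c * u * c⁻¹) with hd
  have hud : u * d * u = d⁻¹ := by
    have hw : (c * u * c⁻¹)⁻¹ = c * u * c⁻¹ := by
      rw [show (c * u * c⁻¹)⁻¹ = c * u⁻¹ * c⁻¹ by group, inv_eq_of_mul_eq_one_right huu]
    rw [hd, mul_inv_rev, hw, inv_eq_of_mul_eq_one_right huu, ← mul_assoc, huu, one_mul]
  haveI : Fact q.Prime := ⟨hq⟩
  -- an odd prime of `N'` different from `q`
  obtain ⟨r, hr, hrN, hr2, hrq⟩ := exists_third_prime (n := Nat.card N') Nat.card_pos.ne' hq hq2
    fun a b hab => hN's (Lib.Characters.isSolvable_of_card_eq_pow_mul_pow Nat.prime_two hq hab)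
  haveI : Fact r.Prime := ⟨hr⟩
  obtain ⟨R₀⟩ : Nonempty (Sylow r N') := inferInstance
  set R := (R₀ : Subgroup N').map N'.subtype with hR
  have hRp : IsPGroup r R := R₀.2.map _
  have hRN : R ≤ N' := Subgroup.map_subtype_le _
  set M := Subgroup.normalizer (R : Set G) with hM
  have hMN : M ⊔ N' = ⊤ := Sylow.normalizer_sup_eq_top R₀
  have hlift : ∀ y : G ⧸ N', ∃ g ∈ M, π g = y := by
    intro y
    obtain ⟨g, rfl⟩ := hπs y
    obtain ⟨m, hm, n, hn, rfl⟩ := Subgroup.mem_sup_of_normal_right.mp (hMN ▸ Subgroup.mem_top g : g ∈ M ⊔ N')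
    exact ⟨m, hm, by rw [map_mul, (hπ1 n).mpr hn, mul_one]⟩
  -- lift the dihedral group inside `M`
  set X := M ⊓ (Subgroup.zpowers d).comap π with hX
  obtain ⟨Q₀⟩ : Nonempty (Sylow q X) := inferInstance
  set Q := (Q₀ : Subgroup X).map X.subtype with hQdef
  have hQp : IsPGroup q Q := Q₀.2.map _
  have hQX : Q ≤ X := Subgroup.map_subtype_le _
  obtain ⟨gd, hgdM, hgd⟩ := hlift d
  have hgdX : gd ∈ X := ⟨hgdM, Subgroup.mem_comap.mpr (hgd ▸ Subgroup.mem_zpowers d)⟩
  have hgdpp := h' gd fun hm => hq.one_lt.ne' ((Nat.pow_eq_one.mp (by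
    rw [← hqj, ← hgd, (hπ1 gd).mpr hm, orderOf_one])).resolve_right (by omega))
  obtain ⟨l, i, hl, hi, hli⟩ := (isPrimePow_nat_iff _).mp hgdpp
  have hlq : l = q := by
    have h1 : q ∣ orderOf gd := (dvd_pow_self q hj.ne').trans (by rw [← hqj, ← hgd]; exact orderOf_map_dvd _ _)
    exact (prime_eq_of_dvd_primePow hgdpp hq hl h1 (hli ▸ dvd_pow_self l hi.ne')).symm
  subst hlq
  obtain ⟨Q₁, hQ₁⟩ := (IsPGroup.of_card (p := l) (n := i) (G := Subgroup.zpowers (⟨gd, hgdX⟩ : X))
    (by rw [Nat.card_zpowers, Subgroup.orderOf_mk, hli])).exists_le_sylow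
  obtain ⟨z, hz⟩ := MulAction.exists_smul_eq X Q₁ Q₀
  set x := (z : G) * gd * (z : G)⁻¹ with hx
  have hxQ : x ∈ Q := by
    refine ⟨z * ⟨gd, hgdX⟩ * z⁻¹, ?_, rfl⟩
    rw [← hz, Sylow.coe_subgroup_smul]
    exact ⟨⟨gd, hgdX⟩, hQ₁ (Subgroup.mem_zpowers _), rfl⟩
  have hπx : π x = d := by
    obtain ⟨e, he⟩ := Subgroup.mem_zpowers_iff.mp (Subgroup.mem_comap.mp z.2.2)
    rw [hx, map_mul, map_mul, map_inv, hgd, ← he, (Commute.zpow_self d e).eq, mul_inv_cancel_right]
  obtain ⟨gu, hguM, hgu⟩ := hlift u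
  -- Frattini inside the preimage
  have hXn : gu ∈ Subgroup.normalizer (X : Set G) := by
    have hconj : ∀ g : G, g ∈ M → (π g = u) → ∀ y ∈ X, g * y * g⁻¹ ∈ X := by
      intro g hg hgπ y hy
      refine Subgroup.mem_inf.mpr ⟨mul_mem (mul_mem hg hy.1) (inv_mem hg), ?_⟩
      obtain ⟨e, he⟩ := Subgroup.mem_zpowers_iff.mp (Subgroup.mem_comap.mp hy.2)
      rw [Subgroup.mem_comap, map_mul, map_mul, map_inv, hgπ, ← he]
      refine Subgroup.mem_zpowers_iff.mpr ⟨-e, ?_⟩
      rw [zpow_neg, ← inv_zpow, ← hud]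
      conv_lhs => rw [show u * d * u = u * d * u⁻¹ by rw [inv_eq_of_mul_eq_one_right huu]]
      rw [conj_zpow]
    refine Subgroup.mem_normalizer_iff.mpr fun y => ⟨hconj gu hguM hgu y, fun hy => ?_⟩
    have := hconj gu⁻¹ (inv_mem hguM) (by rw [map_inv, hgu, inv_eq_of_mul_eq_one_right huu]) _ hy
    simpa [mul_assoc] using this
  obtain ⟨z', hz'⟩ : ∃ z' ∈ X, ∀ y ∈ Q, (z' * gu) * y * (z' * gu)⁻¹ ∈ Q := by
    have hle' : MulAut.conj gu • Q ≤ X := by
      rintro _ ⟨y, hy, rfl⟩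
      exact (Subgroup.mem_normalizer_iff.mp hXn y).mp (hQX hy)
    have hcard : Nat.card ↥((MulAut.conj gu • Q).subgroupOf X) = Nat.card (Q₀ : Subgroup X) := by
      rw [Nat.card_congr (Subgroup.subgroupOfEquivOfLe hle').toEquiv, Lib.Coprime.card_conj_smul, hQdef,
        Subgroup.card_map_of_injective X.subtype_injective]
    let Q₂ : Sylow l X := Sylow.ofCard ((MulAut.conj gu • Q).subgroupOf X)
      (hcard.trans (Sylow.card_eq_multiplicity Q₀))
    obtain ⟨z', hz'⟩ := MulAction.exists_smul_eq X Q₂ Q₀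
    refine ⟨z', z'.2, fun y hy => ?_⟩
    have hm : gu * y * gu⁻¹ ∈ X := (Subgroup.mem_normalizer_iff.mp hXn y).mp (hQX hy)
    refine ⟨z' * ⟨gu * y * gu⁻¹, hm⟩ * z'⁻¹, ?_, by simp [mul_assoc]⟩
    rw [← hz', Sylow.coe_subgroup_smul]
    exact ⟨⟨gu * y * gu⁻¹, hm⟩, Subgroup.mem_subgroupOf.mpr ⟨y, hy, rfl⟩, rfl⟩
  obtain ⟨hz'X, hgQ⟩ := hz'
  set t := z' * gu with ht
  clear_value t
  have htM : t ∈ M := ht ▸ mul_mem hz'X.1 hguM
  obtain ⟨e, he⟩ := Subgroup.mem_zpowers_iff.mp (Subgroup.mem_comap.mp hz'X.2)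
  have hπt : π t = d ^ e * u := by rw [ht, map_mul, ← he, hgu]
  have hdu : (d ^ e * u) * d * (d ^ e * u)⁻¹ = d⁻¹ := by
    rw [mul_inv_rev, inv_eq_of_mul_eq_one_right huu,
      show d ^ e * u * d * (u * (d ^ e)⁻¹) = d ^ e * (u * d * u) * (d ^ e)⁻¹ by group, hud]
    group
  have htt : π (t * t) = 1 := by
    rw [map_mul, hπt, show d ^ e * u * (d ^ e * u) = d ^ e * (u * d ^ e * u⁻¹) * (u * u) by group,
      huu, mul_one, ← conj_zpow, inv_eq_of_mul_eq_one_right huu, hud, inv_zpow, mul_inv_cancel]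
  have htN : t ∉ N' := fun hm => by
    have h1 : d ^ e * u = 1 := hπt ▸ (hπ1 t).mpr hm
    have h2 : u = (d ^ e)⁻¹ := eq_inv_of_mul_eq_one_right h1
    have h3 : u * d * u⁻¹ = d := by rw [h2]; group
    rw [inv_eq_of_mul_eq_one_right huu, hud] at h3
    have h4 : orderOf d ∣ 2 := orderOf_dvd_of_pow_eq_one (by
      rw [pow_two]; nth_rewrite 1 [← h3]; exact inv_mul_cancel d)
    rw [hqj] at h4
    have := (Nat.prime_dvd_prime_iff_eq hq Nat.prime_two).mp ((dvd_pow_self l hj.ne').trans h4)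
    exact hq2 this
  have ht2 : 2 ∣ orderOf t := by
    have h1 : orderOf (π t) = 2 := orderOf_eq_prime (by rw [pow_two, ← map_mul, htt])
      (fun e1 => htN ((hπ1 t).mp e1))
    exact h1 ▸ orderOf_map_dvd _ _
  -- `t` is an involution
  have hxN : x ∉ N' := fun hm => hq.one_lt.ne' ((Nat.pow_eq_one.mp (by
    rw [← hqj, ← hπx, (hπ1 x).mpr hm, orderOf_one])).resolve_right (by omega))
  have htQ : t ∈ Subgroup.normalizer (Q : Set G) := by
    refine Lib.Coprime.mem_normalizer_of_conj_smul_eq (Lib.Coprime.eq_of_le_of_card_le ?_ ?_)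
    · rintro _ ⟨y, hy, rfl⟩; exact hgQ y hy
    · rw [Lib.Coprime.card_conj_smul]
  have htt1 : t * t = 1 := by
    by_contra hne
    set A := Subgroup.zpowers (t * t) with hA
    set Q0 := Q ⊓ N' with hQ0
    obtain ⟨l2, i2, hl2, hi2, hli2⟩ := (isPrimePow_nat_iff _).mp (h' t htN)
    have e2 : l2 = 2 := prime_eq_of_dvd_primePow (h' t htN) hl2 Nat.prime_two (hli2 ▸ dvd_pow_self l2 hi2.ne') ht2
    subst e2
    have hA2 : IsPGroup 2 A := by
      refine IsPGroup.to_le (K := Subgroup.zpowers t) (IsPGroup.of_card (n := i2) (by rw [Nat.card_zpowers, hli2]))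
        (by rw [hA, Subgroup.zpowers_le]; exact mul_mem (Subgroup.mem_zpowers t) (Subgroup.mem_zpowers t))
    obtain ⟨ia, hia⟩ := IsPGroup.iff_card.mp hA2
    obtain ⟨iq, hiq⟩ := IsPGroup.iff_card.mp (hQp.to_le (inf_le_left : Q0 ≤ Q))
    have hcop : (Nat.card A).Coprime (Nat.card Q0) := by
      rw [hia, hiq]
      exact Nat.Coprime.pow _ _ ((Nat.coprime_primes Nat.prime_two hq).mpr (Ne.symm hq2))
    have hQ0n : ∀ g ∈ Subgroup.normalizer (Q : Set G), g ∈ Subgroup.normalizer (Q0 : Set G) := by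
      intro g hg
      rw [Subgroup.mem_normalizer_iff]
      intro y
      exact and_congr (Subgroup.mem_normalizer_iff.mp hg y)
        ⟨fun hy => hN'n.conj_mem y hy g, fun hy => by
          have := hN'n.conj_mem _ hy g⁻¹
          simpa [mul_assoc] using this⟩
    have hAn : A ≤ Subgroup.normalizer (Q : Set G) := (Subgroup.zpowers_le).mpr (mul_mem htQ htQ)
    obtain ⟨n, hn, hnc⟩ := Lib.Coprime.exists_mem_centralizer_of_fixed_coset (A := A) (N := Q0) (k := x)
      (fun g hg => hQ0n g (hAn hg)) hcop (Or.inl (Lib.Coprime.isSolvable_zpowers _))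
      (hQ0n x (Subgroup.le_normalizer hxQ)) (by
        intro a ha
        refine ⟨Q.mul_mem ((Subgroup.mem_normalizer_iff.mp (hAn ha) x).mp hxQ) (Q.inv_mem hxQ), ?_⟩
        refine (hπ1 _).mp ?_
        obtain ⟨e', rfl⟩ := Subgroup.mem_zpowers_iff.mp ha
        rw [map_mul, map_mul, map_mul, map_inv, map_inv, map_zpow, htt, one_zpow, inv_one, one_mul, mul_one,
          mul_inv_cancel])
    have hxn : x * n ∉ N' := fun hm => hxN (by
      have := N'.mul_mem hm (N'.inv_mem hn.2)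
      rwa [mul_inv_cancel_right] at this)
    have hc : Commute (x * n) (t * t) := (Subgroup.mem_centralizer_iff.mp hnc _ (Subgroup.mem_zpowers _)).symm
    obtain ⟨i3, hi3⟩ := hQp ⟨x * n, Q.mul_mem hxQ hn.1⟩
    obtain ⟨j3, -, hj3⟩ := (Nat.dvd_prime_pow hq).mp (orderOf_dvd_of_pow_eq_one
      (show (x * n) ^ l ^ i3 = 1 from congrArg Subtype.val hi3))
    have hj30 : j3 ≠ 0 := fun e0 => hxn (by
      have e1 : x * n = 1 := orderOf_eq_one_iff.mp (by rw [hj3, e0, pow_zero])
      rw [e1]; exact one_mem _)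
    obtain ⟨i4, hi4⟩ := hA2 ⟨t * t, Subgroup.mem_zpowers _⟩
    obtain ⟨j4, -, hj4⟩ := (Nat.dvd_prime_pow Nat.prime_two).mp (orderOf_dvd_of_pow_eq_one
      (show (t * t) ^ 2 ^ i4 = 1 from congrArg Subtype.val hi4))
    have hj40 : j4 ≠ 0 := fun e0 => hne (orderOf_eq_one_iff.mp (by rw [hj4, e0, pow_zero]))
    exact hq2 (eq_of_commute h' hxn ((hπ1 _).mp htt) hc hq Nat.prime_two
      (hj3 ▸ dvd_pow_self l hj30) (hj4 ▸ dvd_pow_self 2 hj40))
  -- two involutions inverting `R`
  have hxM : x ∈ M := (hQX hxQ).1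
  set t' := x * t * x⁻¹ with ht'
  clear_value t'
  have hMR : ∀ g ∈ M, ∀ v ∈ R, g * v * g⁻¹ ∈ R := fun g hg v hv => (Subgroup.mem_normalizer_iff.mp hg v).mp hv
  have htinv : t⁻¹ = t := inv_eq_of_mul_eq_one_right htt1
  have hi1 := inv_of_involution h' hRp hRN hr2 htN htt1 (fun v hv => by
    have := hMR t htM v hv; rwa [htinv] at this)
  have ht'2 : t' * t' = 1 := by
    rw [ht', show x * t * x⁻¹ * (x * t * x⁻¹) = x * (t * t) * x⁻¹ by group, htt1]; group
  have hi2 := inv_of_involution h' hRp hRN hr2 (t := t') (fun hm => htN (by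
    have := hN'n.conj_mem _ hm x⁻¹
    simpa [ht', mul_assoc] using this)) ht'2 (fun v hv => by
    have := hMR t' (ht' ▸ mul_mem (mul_mem hxM htM) (inv_mem hxM)) v hv
    rwa [inv_eq_of_mul_eq_one_right ht'2] at this)
  set p := t * t' with hp
  clear_value p
  have hπp : π p = (d ^ 2)⁻¹ := by
    rw [hp, ht', map_mul, map_mul, map_mul, map_inv, hπx, hπt,
      show d ^ e * u * (d * (d ^ e * u) * d⁻¹) = (d ^ e * u * d * (d ^ e * u)⁻¹) * ((d ^ e * u) * (d ^ e * u)) * d⁻¹ by group,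
      hdu, ← hπt, ← map_mul, htt, mul_one, pow_two, mul_inv_rev d d]
  have hop : orderOf (π p) = orderOf d := by
    rw [hπp, orderOf_inv, Nat.Coprime.orderOf_pow]
    rw [hqj]
    exact Nat.Coprime.pow_left _ ((Nat.coprime_primes hq Nat.prime_two).mpr hq2)
  have hpN : p ∉ N' := fun hm => by
    rw [(hπ1 p).mpr hm, orderOf_one, hqj] at hop
    exact hq.one_lt.ne' ((Nat.pow_eq_one.mp hop.symm).resolve_right hj.ne')
  have hqp : l ∣ orderOf p := (dvd_pow_self l hj.ne').trans (by rw [← hqj, ← hop]; exact orderOf_map_dvd _ _)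
  obtain ⟨v, hv, hv1⟩ : ∃ v ∈ R, v ≠ 1 := by
    refine (Subgroup.bot_or_exists_ne_one R).resolve_left ?_
    rw [hR, Subgroup.map_eq_bot_iff_of_injective _ N'.subtype_injective]
    exact R₀.ne_bot_of_dvd_card hrN
  have hc : Commute p v := by
    have e1 := hi2 v hv
    have e2 := hi1 v⁻¹ (R.inv_mem hv)
    show p * v = v * p
    calc p * v = t * (t' * v * t') * (t' * t')⁻¹ * t' := by rw [hp]; group
      _ = (t * v⁻¹ * t) * (t⁻¹ * t') := by rw [e1, ht'2]; group
      _ = v * p := by rw [e2, inv_inv, htinv, hp]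
  obtain ⟨iv, hiv⟩ := hRp ⟨v, hv⟩
  obtain ⟨jv, -, hjv⟩ := (Nat.dvd_prime_pow hr).mp (orderOf_dvd_of_pow_eq_one
    (show v ^ r ^ iv = 1 from congrArg Subtype.val hiv))
  have hjv0 : jv ≠ 0 := fun e0 => hv1 (orderOf_eq_one_iff.mp (by rw [hjv, e0, pow_zero]))
  exact hrq (eq_of_commute h' hpN (hRN hv) hc hq hr hqp (hjv ▸ dvd_pow_self r hjv0)).symm

end Cfsg.Agent.S3901
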