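import Cfsg.Statements.S3903
import Cfsg.Agent.Lib.Coprime.Action
import Cfsg.Agent.Lib.Transfer.AbelianSylow
import Mathlib.GroupTheory.SpecificGroups.Cyclic

set_option autoImplicit false
open Cfsg
open scoped Pointwise

namespace Cfsg.Agent.S3903

open Subgroup in
theorem centralizer_isPGroup {G : Type*} [Group G] [Finite G] {N : Subgroup G} [N.Normal]
    (h : ∀ x : G, x ∉ N → IsPrimePow (orderOf x) ∧ IsCoatom (centralizer ({x} : Set G)))
    {y : G} (hy : y ∉ N) {r : ℕ} [Fact r.Prime] {a : ℕ} (ha : 0 < a) (hr : orderOf y = r ^ a) :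
    IsPGroup r (centralizer ({y} : Set G)) := by
  classical
  intro w
  suffices hs : ∀ q : ℕ, q.Prime → q ∣ orderOf w → q = r by
    refine ⟨(orderOf w).primeFactorsList.length, orderOf_dvd_iff_pow_eq_one.mp ?_⟩
    rw [← Nat.eq_prime_pow_of_unique_prime_dvd (orderOf_pos w).ne' (fun {d} hd hdd => hs d hd hdd)]
  intro q hq hqd
  by_contra hne
  set v := (w : G) ^ (orderOf w / q) with hv
  have hvo : orderOf v = q := by
    rw [hv, ← Subgroup.orderOf_coe w]
    exact orderOf_pow_orderOf_div (orderOf_pos _).ne' (by rwa [Subgroup.orderOf_coe])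
  have hcomm : Commute y v :=
    (show Commute y (w : G) from (mem_centralizer_singleton_iff.mp w.2).symm).pow_right _
  have hmem : y * v ∉ N := by
    intro hm
    have h1 : QuotientGroup.mk' N y * QuotientGroup.mk' N v = 1 := by
      rw [← map_mul]; exact (QuotientGroup.eq_one_iff _).mpr hm
    have h2 : orderOf (QuotientGroup.mk' N y) ∣ r ^ a := hr ▸ orderOf_map_dvd _ _
    have h3 : orderOf (QuotientGroup.mk' N y) ∣ q := by
      rw [eq_inv_of_mul_eq_one_left h1, orderOf_inv]; exact hvo ▸ orderOf_map_dvd _ _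
    have h4 := Nat.dvd_gcd h2 h3
    rw [Nat.Coprime.gcd_eq_one (Nat.Coprime.pow_left a ((Nat.coprime_primes Fact.out hq).mpr (Ne.symm hne)))] at h4
    exact hy ((QuotientGroup.eq_one_iff y).mp (orderOf_eq_one_iff.mp (Nat.dvd_one.mp h4)))
  obtain ⟨hpp, -⟩ := h _ hmem
  have hco : (orderOf y).Coprime (orderOf v) := by
    rw [hr, hvo]
    exact Nat.Coprime.pow_left a ((Nat.coprime_primes Fact.out hq).mpr (Ne.symm hne))
  rw [hcomm.orderOf_mul_eq_mul_orderOf_of_coprime hco, hr, hvo] at hpp
  obtain ⟨l, b, hl, -, hlb⟩ := (isPrimePow_nat_iff _).mp hpp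
  have e1 := (Nat.prime_dvd_prime_iff_eq Fact.out hl).mp
    ((Fact.out : r.Prime).dvd_of_dvd_pow (hlb ▸ dvd_mul_of_dvd_left (dvd_pow_self r ha.ne') q))
  have e2 := (Nat.prime_dvd_prime_iff_eq hq hl).mp (hq.dvd_of_dvd_pow (hlb ▸ dvd_mul_left q (r ^ a)))
  exact hne (e2.trans e1.symm)

/-- Let N be a proper normal subgroup of the finite group G such that every element x of G outside N has prime power order and has centralizer C_G(x) a maximal subgroup of G. Then N is solvable. -/
theorem result {G : Type*} [Group G] [Finite G] (N : Subgroup G) [N.Normal] (hN : N ≠ ⊤)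
    (h : ∀ x : G, x ∉ N → IsPrimePow (orderOf x) ∧ IsCoatom (Subgroup.centralizer ({x} : Set G))) : Group.IsSolvable ↥N := by
  classical
  obtain ⟨x, hx⟩ : ∃ x, x ∉ N := by
    by_contra! hall
    exact hN (top_le_iff.mp fun g _ => hall g)
  obtain ⟨hxp, hxc⟩ := h x hx
  obtain ⟨p, a, hp, ha, hpa⟩ := (isPrimePow_nat_iff _).mp hxp
  haveI : Fact p.Prime := ⟨hp⟩
  set P := Subgroup.centralizer ({x} : Set G) with hPdef
  have hP : IsPGroup p P := centralizer_isPGroup h hx ha hpa.symm
  haveI := hP.isNilpotent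
  by_cases hNP : N ≤ P
  · exact Lib.Coprime.isSolvable_of_le hNP inferInstance
  have hsup : P ⊔ N = ⊤ := hxc.2 _ (lt_of_le_of_ne le_sup_left fun e => hNP (e ▸ le_sup_right))
  suffices hsol : Group.IsSolvable G by infer_instance
  by_cases hPn : P.Normal
  · haveI : Group.IsSolvable (G ⧸ P) := by
      have htop : ∀ q : G ⧸ P, q ≠ 1 → Subgroup.zpowers q = ⊤ := by
        intro q hq
        obtain ⟨g, rfl⟩ := QuotientGroup.mk'_surjective P q
        have hg : g ∉ P := fun hg => hq ((QuotientGroup.eq_one_iff g).mpr hg)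
        have hle : P ≤ (Subgroup.zpowers (QuotientGroup.mk' P g)).comap (QuotientGroup.mk' P) := fun u hu => by
          rw [Subgroup.mem_comap, show QuotientGroup.mk' P u = 1 from (QuotientGroup.eq_one_iff u).mpr hu]
          exact one_mem _
        have h1 := hxc.2 _ (lt_of_le_of_ne hle fun e => hg (e.symm ▸ Subgroup.mem_zpowers _))
        rw [← Subgroup.map_comap_eq_self_of_surjective (QuotientGroup.mk'_surjective P) (Subgroup.zpowers _), h1,
          Subgroup.map_top_of_surjective _ (QuotientGroup.mk'_surjective P)]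
      refine Group.isSolvable_of_comm fun u v => ?_
      by_cases hu : u = 1
      · simp [hu]
      · obtain ⟨i, hi⟩ := Subgroup.mem_zpowers_iff.mp (htop u hu ▸ Subgroup.mem_top v)
        rw [← hi]; exact (Commute.self_zpow u i).eq
    exact Group.isSolvable_of_ker_le_range P.subtype (QuotientGroup.mk' P) (by simp)
  have hself : Subgroup.normalizer (P : Set G) = P := by
    rcases eq_or_lt_of_le (Subgroup.le_normalizer (H := P)) with e | e
    · exact e.symm
    · exact absurd (Subgroup.normalizer_eq_top_iff.mp (hxc.2 _ e)) hPn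
  obtain ⟨S, hS⟩ := hP.exists_le_sylow
  have hSP : (S : Subgroup G) = P := by
    refine le_antisymm ?_ hS
    by_contra hle
    haveI := S.2.isNilpotent
    have hlt : P.subgroupOf S < ⊤ := lt_top_iff_ne_top.mpr fun e => hle (Subgroup.subgroupOf_eq_top.mp e)
    obtain ⟨z, hz, hzP⟩ := SetLike.exists_of_lt (normalizerCondition_of_isNilpotent _ hlt)
    refine hzP (Subgroup.mem_subgroupOf.mpr (hself.le (Subgroup.mem_normalizer_iff.mpr fun g => ?_)))
    constructor
    · intro hg
      exact Subgroup.mem_subgroupOf.mp ((Subgroup.mem_normalizer_iff.mp hz ⟨g, hS hg⟩).mp hg)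
    · intro hg
      have hgS : g ∈ (S : Subgroup G) := by
        have := (S : Subgroup G).mul_mem ((S : Subgroup G).mul_mem ((S : Subgroup G).inv_mem z.2) (hS hg)) z.2
        simpa [mul_assoc] using this
      exact (Subgroup.mem_normalizer_iff.mp hz ⟨g, hgS⟩).mpr (show ((z : G) * g * (z : G)⁻¹) ∈ P from hg)
  -- every element outside `N` is conjugate to a central element of `P`
  have hconj : ∀ y : G, y ∉ N → ∃ g z : G, z ∈ P ∧ (∀ s ∈ P, s * z = z * s) ∧ z ∉ N ∧ y = g * z * g⁻¹ := by
    intro y hy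
    obtain ⟨hyp, hyc⟩ := h y hy
    obtain ⟨r, b, hr, hb, hrb⟩ := (isPrimePow_nat_iff _).mp hyp
    haveI : Fact r.Prime := ⟨hr⟩
    have hrp : r = p := by
      obtain ⟨u, hu, v, hv, huv⟩ := Subgroup.mem_sup_of_normal_right.mp
        (show y ∈ P ⊔ N from hsup ▸ Subgroup.mem_top y)
      have hyu : QuotientGroup.mk' N y = QuotientGroup.mk' N u := by
        rw [← huv, map_mul, show QuotientGroup.mk' N v = 1 from (QuotientGroup.eq_one_iff v).mpr hv, mul_one]
      have h2 : orderOf (QuotientGroup.mk' N y) ∣ r ^ b := hrb ▸ orderOf_map_dvd _ _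
      obtain ⟨i, hi⟩ := hP ⟨u, hu⟩
      have h3 : orderOf (QuotientGroup.mk' N y) ∣ p ^ i := by
        rw [hyu]
        refine (orderOf_map_dvd _ _).trans (orderOf_dvd_of_pow_eq_one ?_)
        exact congrArg Subtype.val hi
      by_contra hne
      have h4 := Nat.dvd_gcd h2 h3
      rw [Nat.Coprime.gcd_eq_one (Nat.Coprime.pow b i ((Nat.coprime_primes hr hp).mpr hne))] at h4
      exact hy ((QuotientGroup.eq_one_iff y).mp (orderOf_eq_one_iff.mp (Nat.dvd_one.mp h4)))
    subst hrp
    have hCp := centralizer_isPGroup h hy hb hrb.symm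
    obtain ⟨S', hS'⟩ := hCp.exists_le_sylow
    obtain ⟨g, hg⟩ := MulAction.exists_smul_eq G S S'
    have hle : Subgroup.centralizer ({y} : Set G) ≤ MulAut.conj g • P := by
      rw [← hSP, ← Sylow.coe_subgroup_smul, hg]; exact hS'
    have hne : MulAut.conj g • P ≠ ⊤ := by
      intro e
      have : P = ⊤ := by
        rw [← inv_smul_smul (MulAut.conj g) P, e]
        exact eq_top_iff.mpr fun s _ => by
          rw [Subgroup.mem_pointwise_smul_iff_inv_smul_mem]; exact Subgroup.mem_top _
      exact hxc.1 this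
    have heq : Subgroup.centralizer ({y} : Set G) = MulAut.conj g • P := by
      rcases eq_or_lt_of_le hle with e | e
      · exact e
      · exact absurd (hyc.2 _ e) hne
    refine ⟨g, g⁻¹ * y * g, ?_, fun s hs => ?_, ?_, by group⟩
    · have := Subgroup.mem_pointwise_smul_iff_inv_smul_mem.mp
        (heq ▸ Subgroup.mem_centralizer_singleton_iff.mpr rfl : y ∈ MulAut.conj g • P)
      simpa [MulAut.smul_def] using this
    · have hmem : g * s * g⁻¹ ∈ MulAut.conj g • P := ⟨s, hs, rfl⟩
      rw [← heq, Subgroup.mem_centralizer_singleton_iff] at hmem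
      calc s * (g⁻¹ * y * g) = g⁻¹ * ((g * s * g⁻¹) * y) * g := by group
        _ = g⁻¹ * (y * (g * s * g⁻¹)) * g := by rw [hmem]
        _ = g⁻¹ * y * g * s := by group
    · intro hm
      have := (inferInstance : N.Normal).conj_mem _ hm g
      simp [mul_assoc] at this
      exact hy this
  -- hence `P` is abelian
  have hab : IsMulCommutative P := by
    let Z : Set G := {z | z ∈ P ∧ (∀ s ∈ P, s * z = z * s) ∧ z ∉ N}
    have hsurj : Function.Surjective (fun q : Z × (G ⧸ P) =>
        (⟨q.2.out * (q.1 : G) * q.2.out⁻¹, fun hm => q.1.2.2.2 (by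
          have := (inferInstance : N.Normal).conj_mem _ hm q.2.out⁻¹
          simpa [mul_assoc] using this)⟩ : {y : G // y ∉ N})) := by
      rintro ⟨y, hy⟩
      obtain ⟨g, z, hz1, hz2, hz3, rfl⟩ := hconj y hy
      refine ⟨(⟨z, hz1, hz2, hz3⟩, QuotientGroup.mk g), Subtype.ext ?_⟩
      obtain ⟨⟨s, hs⟩, hout⟩ := QuotientGroup.mk_out_eq_mul P g
      show (QuotientGroup.mk g : G ⧸ P).out * z * (QuotientGroup.mk g : G ⧸ P).out⁻¹ = g * z * g⁻¹
      rw [hout]
      calc g * s * z * (g * s)⁻¹ = g * (s * z) * s⁻¹ * g⁻¹ := by group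
        _ = g * (z * s) * s⁻¹ * g⁻¹ := by rw [hz2 s hs]
        _ = g * z * g⁻¹ := by group
    have hcount := Nat.card_le_card_of_surjective _ hsurj
    rw [Nat.card_prod, ← Subgroup.index_eq_card, Nat.card_coe_set_eq] at hcount
    have hGc : Nat.card {y : G // y ∉ N} = Nat.card G - Nat.card N := by
      haveI := Fintype.ofFinite G
      simp only [Nat.card_eq_fintype_card]
      exact Fintype.card_subtype_compl _
    have hPZ : {s : G | s ∈ P ∧ s ∉ N} ⊆ Z := by
      have hsub : Z ⊆ {s : G | s ∈ P ∧ s ∉ N} := fun z hz => ⟨hz.1, hz.2.2⟩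
      refine (Set.eq_of_subset_of_ncard_le hsub ?_).ge
      refine Nat.le_of_mul_le_mul_right ?_ (Nat.pos_of_ne_zero (Subgroup.index_ne_zero_of_finite (H := P)))
      refine le_trans (le_of_eq ?_) hcount
      rw [hGc]
      have hM : ({s : G | s ∈ P ∧ s ∉ N}).ncard = Nat.card P - Nat.card ↥(P ⊓ N) := by
        rw [show {s : G | s ∈ P ∧ s ∉ N} = (P : Set G) \ ((P ⊓ N : Subgroup G) : Set G) by
          ext s
          simp only [Set.mem_ofPred_eq, Set.mem_diff, SetLike.mem_coe, Subgroup.mem_inf]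
          tauto]
        rw [Set.ncard_diff (by exact fun s hs => hs.1), ← Nat.card_coe_set_eq, ← Nat.card_coe_set_eq]
        rfl
      rw [hM, Nat.sub_mul, Subgroup.card_mul_index]
      congr 1
      have h1 : Nat.card ↥(P ⊓ N) * N.relIndex P = Nat.card P := by
        rw [← Subgroup.inf_relIndex_left]
        exact (Subgroup.relIndex_mul_relIndex ⊥ (P ⊓ N) P bot_le inf_le_left).trans (by rw [Subgroup.relIndex_bot_left]) |> fun e => by
          rwa [Subgroup.relIndex_bot_left] at e
      have h2 : N.relIndex P = N.index := by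
        rw [← Subgroup.relIndex_sup_right, sup_comm, sup_comm, hsup, Subgroup.relIndex_top_right]
      have h3 := N.card_mul_index
      have h4 := P.card_mul_index
      have hidx : 0 < N.index := Nat.pos_of_ne_zero Subgroup.index_ne_zero_of_finite
      rw [h2] at h1
      refine Nat.eq_of_mul_eq_mul_right hidx ?_
      rw [h3, mul_right_comm, h1, h4]
    obtain ⟨⟨s0, hs0, -⟩⟩ : Nonempty {s : G // s ∈ P ∧ s ∉ N} :=
      ⟨⟨x, Subgroup.mem_centralizer_singleton_iff.mpr rfl, hx⟩⟩
    refine ⟨⟨fun u v => Subtype.ext ?_⟩⟩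
    by_cases hv : (v : G) ∈ N
    · have hxP : x ∈ P := Subgroup.mem_centralizer_singleton_iff.mpr rfl
      have h1 : ∀ s ∈ P, s * x = x * s := fun s hs => Subgroup.mem_centralizer_singleton_iff.mp hs
      have h2 := (hPZ ⟨P.mul_mem hxP v.2, fun hm => hx (by
        have := N.mul_mem hm (N.inv_mem hv)
        rwa [mul_inv_cancel_right] at this)⟩).2.1 u u.2
      calc ((u * v : P) : G) = x⁻¹ * (x * u) * v := by push_cast; group
        _ = x⁻¹ * (u * x) * v := by rw [h1 u u.2]
        _ = x⁻¹ * ((u : G) * (x * v)) := by group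
        _ = x⁻¹ * ((x * v) * u) := by rw [h2]
        _ = ((v * u : P) : G) := by push_cast; group
    · exact (hPZ ⟨v.2, hv⟩).2.1 u u.2
  -- Burnside
  have hle : Subgroup.normalizer ((S : Subgroup G) : Set G) ≤ Subgroup.centralizer ((S : Subgroup G) : Set G) := by
    rw [hSP, hself]
    intro u hu
    rw [Subgroup.mem_centralizer_iff]
    intro v hv
    exact congrArg Subtype.val (hab.is_comm.comm ⟨v, hv⟩ ⟨u, hu⟩)
  obtain ⟨S', O, hO, hc⟩ := Lib.Transfer.hasNormalPComplement_of_normalizer_le_centralizer S hle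
  have hOc : ¬ p ∣ Nat.card O := by
    intro hd
    have h1 := hc.symm.index_eq_card
    have h2 : (Nat.card O).Coprime p := Lib.Transfer.coprime_card_of_isComplement' hc
    exact hp.one_lt.ne' (Nat.dvd_one.mp (h2 ▸ Nat.dvd_gcd hd dvd_rfl))
  obtain ⟨j, hj⟩ := IsPGroup.iff_card.mp hP
  have hcop : (Nat.card P).Coprime (Nat.card O) := by
    rw [hj]; exact Nat.Coprime.pow_left j (hp.coprime_iff_not_dvd.mpr hOc)
  have hnorm : P ≤ Subgroup.normalizer (O : Set G) := by rw [Subgroup.normalizer_eq_top]; exact le_top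
  have hOsol : Group.IsSolvable O := by
    by_cases hO1 : O = ⊥
    · subst hO1; infer_instance
    obtain ⟨q, hq, hqd⟩ := Nat.exists_prime_and_dvd (fun e => hO1 (Subgroup.eq_bot_of_card_eq O e))
    haveI : Fact q.Prime := ⟨hq⟩
    obtain ⟨R, hR⟩ := Lib.Coprime.exists_invariant_sylow hnorm hcop (Or.inl inferInstance) q
    set R' := (R : Subgroup O).map O.subtype with hR'
    have hRne : R' ≠ ⊥ := by
      rw [Ne, Subgroup.map_eq_bot_iff_of_injective _ O.subtype_injective]
      exact R.ne_bot_of_dvd_card hqd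
    have hRO : R' ≤ O := Subgroup.map_subtype_le _
    have hPR : ¬ R' ≤ P := fun hle' => hRne (le_bot_iff.mp (by
      rw [← Lib.Coprime.inf_eq_bot_of_coprime_card hcop]; exact le_inf hle' hRO))
    have htop : P ⊔ R' = ⊤ := hxc.2 _ (lt_of_le_of_ne le_sup_left fun e => hPR (e ▸ le_sup_right))
    have hOR : O ≤ R' := by
      intro o ho
      have hm : o ∈ R' ⊔ P := by rw [sup_comm, htop]; exact Subgroup.mem_top o
      obtain ⟨u, hu, v, hv, rfl⟩ := Lib.Coprime.exists_mul_of_mem_sup hR hm
      have hvO : v ∈ O := by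
        have := O.mul_mem (O.inv_mem (hRO hu)) ho
        rwa [inv_mul_cancel_left] at this
      rw [show v = 1 from Subgroup.mem_bot.mp (Lib.Coprime.inf_eq_bot_of_coprime_card hcop ▸ ⟨hv, hvO⟩), mul_one]
      exact hu
    haveI := (R.2.map O.subtype).isNilpotent
    exact Lib.Coprime.isSolvable_of_le hOR inferInstance
  haveI : Group.IsSolvable (G ⧸ O) := by
    obtain ⟨i, hi⟩ := IsPGroup.iff_card.mp S'.2
    have h1 : IsPGroup p (G ⧸ O) := IsPGroup.of_card (n := i) (by
      rw [← Subgroup.index_eq_card, ← hi]; exact hc.symm.index_eq_card)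
    haveI := h1.isNilpotent
    infer_instance
  exact Group.isSolvable_of_ker_le_range O.subtype (QuotientGroup.mk' O) (by simp)

end Cfsg.Agent.S3903
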