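import Cfsg.Statements.S3908
import Cfsg.Agent.Lib.Frobenius.UniqueSubgroup
import Cfsg.Agent.Lib.Coprime.Basic

set_option autoImplicit false
open Cfsg

namespace Cfsg.Agent.S3908

theorem core {H : Type*} [Group H] [Finite H]
    (hB : ∀ A B : Subgroup H, IsMulCommutative ↥A → IsMulCommutative ↥B → Nat.card ↥A = Nat.card ↥B →
      ∃ g : H, B = A.map (MulAut.conj g).toMonoidHom) {p : ℕ} [hp : Fact p.Prime] (P : Sylow p H) :
    IsCyclic ↥(P : Subgroup H) ∨ (p = 2 ∧ ∃ m : ℕ, Nonempty (↥(P : Subgroup H) ≃* QuaternionGroup (2 ^ (m + 1)))) ∨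
      ∀ x ∈ (P : Subgroup H), x ^ p = 1 := by
  classical
  by_cases huniq : ∀ a b : (P : Subgroup H), orderOf a = p → orderOf b = p → a ∈ Subgroup.zpowers b
  · rcases Cfsg.Agent.Lib.Frobenius.isCyclic_or_quaternion_of_unique P.2 huniq with h | h
    · exact Or.inl h
    · exact Or.inr (Or.inl h)
  push Not at huniq
  obtain ⟨a, b, ha, hb, hab⟩ := huniq
  have hnt : Nontrivial (P : Subgroup H) :=
    ⟨⟨a, 1, fun h => by rw [h, orderOf_one] at ha; exact hp.out.one_lt.ne ha⟩⟩
  obtain ⟨z, hz⟩ : ∃ z : Subgroup.center (P : Subgroup H), orderOf z = p := by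
    have hcz := P.2.center_nontrivial (G := (P : Subgroup H))
    refine exists_prime_orderOf_dvd_card' p ?_
    obtain ⟨k, hk⟩ := (P.2.to_subgroup (Subgroup.center (P : Subgroup H))).exists_card_eq
    rw [hk]
    refine dvd_pow_self p fun h => ?_
    rw [h, pow_zero] at hk
    exact absurd hk (Finite.one_lt_card (α := Subgroup.center (P : Subgroup H))).ne'
  have hzo : orderOf (z : (P : Subgroup H)) = p := by rw [Subgroup.orderOf_coe, hz]
  obtain ⟨x, hx, hxz⟩ : ∃ x : (P : Subgroup H), orderOf x = p ∧ x ∉ Subgroup.zpowers (z : (P : Subgroup H)) := by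
    by_contra hne
    push Not at hne
    refine hab ?_
    have heq : Subgroup.zpowers b = Subgroup.zpowers (z : (P : Subgroup H)) :=
      Subgroup.eq_of_le_of_card_ge (Subgroup.zpowers_le.mpr (hne b hb))
        (by rw [Nat.card_zpowers, Nat.card_zpowers, hb, hzo])
    exact heq ▸ hne a ha
  set X := Subgroup.zpowers (x : H) with hX
  set Z := Subgroup.zpowers ((z : (P : Subgroup H)) : H) with hZ
  have hcomm : Commute (x : H) ((z : (P : Subgroup H)) : H) :=
    congrArg Subtype.val (Subgroup.mem_center_iff.mp z.2 x)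
  set E := X ⊔ Z with hE
  have hEab : IsMulCommutative E := by
    have : E = Subgroup.closure {(x : H), ((z : (P : Subgroup H)) : H)} := by
      rw [Subgroup.closure_eq_of_le]
      · rintro _ (rfl | rfl)
        · exact Subgroup.mem_sup_left (Subgroup.mem_zpowers _)
        · exact Subgroup.mem_sup_right (Subgroup.mem_zpowers _)
      · exact sup_le (Subgroup.zpowers_le.mpr (Subgroup.subset_closure (Or.inl rfl)))
          (Subgroup.zpowers_le.mpr (Subgroup.subset_closure (Or.inr rfl)))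
    rw [this]
    refine Subgroup.isMulCommutative_closure ?_
    rintro u (rfl | rfl) v (rfl | rfl) <;> first | rfl | exact hcomm.eq | exact hcomm.symm.eq
  have hXn : Z ≤ Subgroup.normalizer (X : Set H) := by
    refine le_trans (Subgroup.zpowers_le.mpr ?_) (Subgroup.centralizer_le_normalizer _)
    rintro y hy
    obtain ⟨j, rfl⟩ := Subgroup.mem_zpowers_iff.mp hy
    exact (hcomm.zpow_left j).eq
  have hinf : X ⊓ Z = ⊥ := by
    rw [Subgroup.eq_bot_iff_forall]
    intro u hu
    obtain ⟨hu1, hu2⟩ := Subgroup.mem_inf.mp hu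
    by_contra hu0
    apply hxz
    have hxu : Subgroup.zpowers u = X := by
      refine Subgroup.eq_of_le_of_card_ge (Subgroup.zpowers_le.mpr hu1) (Nat.le_of_dvd Nat.card_pos ?_)
      rw [Nat.card_zpowers, Nat.card_zpowers]
      have h := Subgroup.orderOf_dvd_natCard X hu1
      rw [Nat.card_zpowers, Subgroup.orderOf_coe, hx] at h
      rw [Subgroup.orderOf_coe, hx]
      exact dvd_of_eq ((hp.out.eq_one_or_self_of_dvd _ h).resolve_left
        (fun h1 => hu0 (orderOf_eq_one_iff.mp h1))).symm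
    have : (x : H) ∈ Z := by
      have h1 : (x : H) ∈ Subgroup.zpowers u := hxu ▸ Subgroup.mem_zpowers _
      exact (Subgroup.zpowers_le.mpr hu2) h1
    obtain ⟨j, hj⟩ := Subgroup.mem_zpowers_iff.mp this
    exact Subgroup.mem_zpowers_iff.mpr ⟨j, Subtype.ext (by rw [Subgroup.coe_zpow]; exact hj)⟩
  have hEcard : Nat.card E = p ^ 2 := by
    have h1 := Cfsg.Agent.Lib.Coprime.card_sup_mul_card_inf hXn
    rw [hinf, Subgroup.card_bot, mul_one, Nat.card_zpowers, Nat.card_zpowers, Subgroup.orderOf_coe,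
      Subgroup.orderOf_coe, hx, hzo, ← pow_two] at h1
    exact h1
  have hEexp : ∀ e ∈ E, e ^ p = 1 := by
    intro e he
    obtain ⟨u, hu, v, hv, rfl⟩ := Cfsg.Agent.Lib.Coprime.exists_mul_of_mem_sup hXn he
    obtain ⟨i, rfl⟩ := Subgroup.mem_zpowers_iff.mp hu
    obtain ⟨j, rfl⟩ := Subgroup.mem_zpowers_iff.mp hv
    rw [(hcomm.zpow_zpow i j).mul_pow, ← zpow_natCast, ← zpow_natCast, ← zpow_mul, ← zpow_mul,
      mul_comm i, mul_comm j, zpow_mul, zpow_mul, zpow_natCast, zpow_natCast]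
    rw [show (x : H) ^ p = 1 from orderOf_dvd_iff_pow_eq_one.mp (by rw [Subgroup.orderOf_coe, hx]),
      show ((z : (P : Subgroup H)) : H) ^ p = 1 from orderOf_dvd_iff_pow_eq_one.mp (by rw [Subgroup.orderOf_coe, hzo])]
    simp
  refine Or.inr (Or.inr fun y hy => ?_)
  by_contra hy1
  obtain ⟨k, hk⟩ := P.2 ⟨y, hy⟩
  obtain ⟨i, -, hi⟩ := (Nat.dvd_prime_pow hp.out).mp
    (orderOf_dvd_of_pow_eq_one (congrArg Subtype.val hk : y ^ p ^ k = 1))
  have hi2 : 2 ≤ i := by
    by_contra hlt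
    refine hy1 (orderOf_dvd_iff_pow_eq_one.mp ?_)
    rw [hi]
    exact (pow_dvd_pow p (by omega : i ≤ 1)).trans (by simp)
  have ho : orderOf (y ^ p ^ (i - 2)) = p ^ 2 := by
    rw [orderOf_pow' y (pow_pos hp.out.pos _).ne', hi, Nat.gcd_eq_right (pow_dvd_pow p (by omega)),
      Nat.pow_div (by omega) hp.out.pos]
    congr 1
    omega
  obtain ⟨g, hg⟩ := hB E (Subgroup.zpowers (y ^ p ^ (i - 2))) hEab inferInstance
    (by rw [hEcard, Nat.card_zpowers, ho])
  obtain ⟨e, he, hge⟩ := hg.le (Subgroup.mem_zpowers _)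
  have hoe : orderOf (y ^ p ^ (i - 2)) ∣ p := by
    rw [← hge]
    exact (orderOf_map_dvd _ e).trans (orderOf_dvd_of_pow_eq_one (hEexp e he))
  rw [ho] at hoe
  have := Nat.le_of_dvd hp.out.pos hoe
  nlinarith [hp.out.two_le]

/-- Let G be a finite group in which any two abelian subgroups of the same order are conjugate. Then a Sylow 2-subgroup of G is cyclic, elementary abelian or generalized quaternion, and for an odd prime p a Sylow p-subgroup of G is cyclic or has exponent dividing p. -/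
theorem result {G : Type*} [Group G] [Finite G] (hB : ∀ A B : Subgroup G, IsMulCommutative ↥A → IsMulCommutative ↥B → Nat.card ↥A = Nat.card ↥B → ∃ g : G, B = A.map (MulAut.conj g).toMonoidHom) :
    (∀ P : Sylow 2 G, IsCyclic ↥(P : Subgroup G) ∨ Cfsg.IsElementaryAbelian 2 (P : Subgroup G) ∨ ∃ k : ℕ, Nonempty (↥(P : Subgroup G) ≃* QuaternionGroup (2 ^ k))) ∧
    ∀ (p : ℕ) [Fact p.Prime], p ≠ 2 → ∀ P : Sylow p G, IsCyclic ↥(P : Subgroup G) ∨ ∀ x ∈ (P : Subgroup G), x ^ p = 1 := by
  refine ⟨fun P => ?_, fun p _ hp P => ?_⟩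
  · rcases core hB P with h | ⟨-, m, h⟩ | h
    · exact Or.inl h
    · exact Or.inr (Or.inr ⟨m + 1, h⟩)
    · refine Or.inr (Or.inl ⟨⟨⟨fun a b => Subtype.ext ?_⟩⟩, h⟩)
      have key : ∀ u ∈ (P : Subgroup G), u⁻¹ = u := fun u hu =>
        inv_eq_of_mul_eq_one_right (by rw [← sq]; exact h u hu)
      show (a : G) * b = b * a
      rw [← key _ (mul_mem a.2 b.2), mul_inv_rev, key _ a.2, key _ b.2]
  · rcases core hB P with h | ⟨h, -⟩ | h
    · exact Or.inl h
    · exact absurd h hp
    · exact Or.inr h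

end Cfsg.Agent.S3908
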