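import Cfsg.Statements.S3909
import Mathlib.GroupTheory.Sylow

set_option autoImplicit false
open Cfsg

namespace Cfsg.Agent.S3909

/-- Let G be a finite group in which any two abelian subgroups of the same order are conjugate. Let M be a normal subgroup of G. If M contains an element of the same order as a ∈ G, then a ∈ M; and if M is elementary abelian of order p^t with p prime and t ≥ 2, then M is the unique Sylow p-subgroup of G. -/
theorem result {G : Type*} [Group G] [Finite G] (hB : ∀ A B : Subgroup G, IsMulCommutative ↥A → IsMulCommutative ↥B → Nat.card ↥A = Nat.card ↥B → ∃ g : G, B = A.map (MulAut.conj g).toMonoidHom) (M : Subgroup G) [M.Normal] :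
    (∀ a : G, (∃ m ∈ M, orderOf m = orderOf a) → a ∈ M) ∧
    ∀ (p t : ℕ) [Fact p.Prime], 2 ≤ t → Nat.card ↥M = p ^ t → Cfsg.IsElementaryAbelian p M → ∀ P : Sylow p G, (P : Subgroup G) = M := by
  have h1 : ∀ a : G, (∃ m ∈ M, orderOf m = orderOf a) → a ∈ M := by
    rintro a ⟨m, hm, hma⟩
    obtain ⟨g, hg⟩ := hB (Subgroup.zpowers m) (Subgroup.zpowers a) inferInstance inferInstance
      (by rw [Nat.card_zpowers, Nat.card_zpowers, hma])
    obtain ⟨e, he, hge⟩ := hg.le (Subgroup.mem_zpowers a)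
    rw [← hge]
    exact ‹M.Normal›.conj_mem e (Subgroup.zpowers_le.mpr hm he) g
  refine ⟨h1, fun p t hp ht hcard hel P => ?_⟩
  have hMP : M ≤ (P : Subgroup G) := (IsPGroup.of_card hcard).le_sylow_of_normal P
  refine le_antisymm (fun x hx => ?_) hMP
  by_contra hxM
  have hMne : M ≠ ⊥ := by
    rw [Ne, ← Subgroup.card_eq_one, hcard]
    exact (one_lt_pow₀ hp.out.one_lt (by omega)).ne'
  obtain ⟨⟨m, hm⟩, hm1⟩ := Subgroup.ne_bot_iff_exists_ne_one.mp hMne
  have hmo : orderOf m = p := orderOf_eq_prime (hel.2 m hm) fun h => hm1 (Subtype.ext h)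
  obtain ⟨k, hk⟩ := P.2 ⟨x, hx⟩
  obtain ⟨i, -, hi⟩ := (Nat.dvd_prime_pow hp.out).mp
    (orderOf_dvd_of_pow_eq_one (congrArg Subtype.val hk : x ^ p ^ k = 1))
  rcases Nat.lt_or_ge i 2 with hlt | hge
  · refine hxM (h1 x ⟨m, hm, ?_⟩)
    rcases Nat.lt_or_ge i 1 with h0 | h0
    · rw [Nat.lt_one_iff] at h0
      rw [h0, pow_zero, orderOf_eq_one_iff] at hi
      exact absurd (by rw [show x = 1 from hi]; exact one_mem M) hxM
    · rw [hmo, hi, show i = 1 by omega, pow_one]
  have ho : orderOf (x ^ p ^ (i - 2)) = p ^ 2 := by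
    rw [orderOf_pow' x (pow_pos hp.out.pos _).ne', hi, Nat.gcd_eq_right (pow_dvd_pow p (by omega)),
      Nat.pow_div (by omega) hp.out.pos]
    congr 1
    omega
  obtain ⟨E, hE, hEM⟩ : ∃ E : Subgroup M, Nat.card E = p ^ 2 ∧ True := by
    obtain ⟨E, hE⟩ := Sylow.exists_subgroup_card_pow_prime p (G := M) (n := 2)
      (by rw [hcard]; exact pow_dvd_pow p ht)
    exact ⟨E, hE, trivial⟩
  have := hel.1
  obtain ⟨g, hg⟩ := hB (E.map M.subtype) (Subgroup.zpowers (x ^ p ^ (i - 2)))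
    (⟨⟨fun ⟨_, a, _, rfl⟩ ⟨_, b, _, rfl⟩ => Subtype.ext
      (congrArg Subtype.val (this.is_comm.comm a b) : (a : G) * b = b * a)⟩⟩) inferInstance
    (by rw [Subgroup.card_map_of_injective M.subtype_injective, hE, Nat.card_zpowers, ho])
  obtain ⟨_, ⟨e, -, rfl⟩, hge⟩ := hg.le (Subgroup.mem_zpowers _)
  have hoe : orderOf (x ^ p ^ (i - 2)) ∣ p := by
    rw [← hge]
    exact (orderOf_map_dvd _ _).trans (orderOf_dvd_of_pow_eq_one (hel.2 _ e.2))
  rw [ho] at hoe
  have := Nat.le_of_dvd hp.out.pos hoe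
  nlinarith [hp.out.two_le]

end Cfsg.Agent.S3909
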