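import Cfsg.Statements.S3910
import Mathlib

set_option autoImplicit false
open Cfsg

namespace Cfsg.Agent.S3910

/-- A finite nilpotent group in which any two abelian subgroups of the same order are conjugate is cyclic. -/
theorem result {G : Type*} [Group G] [Finite G] (hB : ∀ A B : Subgroup G, IsMulCommutative ↥A → IsMulCommutative ↥B → Nat.card ↥A = Nat.card ↥B → ∃ g : G, B = A.map (MulAut.conj g).toMonoidHom) (hnil : Group.IsNilpotent G) : IsCyclic G := by
  by_contra hnc
  obtain ⟨p, hp, P, hP⟩ : ∃ (p : ℕ) (_ : p.Prime) (P : Sylow p G), ¬ IsCyclic P := by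
    by_contra h
    push Not at h
    have : IsZGroup G := ⟨fun p hp P => h p hp P⟩
    exact hnc inferInstance
  have := Fact.mk hp
  have hPn : (P : Subgroup G).Normal :=
    Sylow.normal_of_normalizerCondition Group.normalizerCondition_of_isNilpotent P
  -- an element of largest order
  have : Fintype (P : Subgroup G) := Fintype.ofFinite _
  obtain ⟨x, -, hx⟩ := Finset.exists_max_image Finset.univ
    (fun x : (P : Subgroup G) => orderOf x) Finset.univ_nonempty
  obtain ⟨M, hM, hxM⟩ := (eq_top_or_exists_le_coatom (Subgroup.zpowers x)).resolve_left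
    fun h => hP ⟨x, fun y => show y ∈ Subgroup.zpowers x by rw [h]; exact Subgroup.mem_top y⟩
  have : Group.IsNilpotent (P : Subgroup G) := P.2.isNilpotent
  have hMn : M.Normal :=
    Subgroup.NormalizerCondition.normal_of_coatom M Group.normalizerCondition_of_isNilpotent hM
  let Mg : Subgroup G := M.map (P : Subgroup G).subtype
  have hMg : Mg.Normal := by
    rw [← Subgroup.normalizer_eq_top_iff]
    refine Subgroup.eq_top_of_card_eq _
      (Nat.dvd_antisymm (Subgroup.card_subgroup_dvd_card _) ?_)
    refine (Nat.factorization_prime_le_iff_dvd Nat.card_pos.ne' Nat.card_pos.ne').mp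
      fun q hq => (hq.pow_dvd_iff_le_factorization Nat.card_pos.ne').mp ?_
    have := Fact.mk hq
    let Q : Sylow q G := default
    rw [← Q.card_eq_multiplicity]
    refine Subgroup.card_dvd_of_le ?_
    by_cases hqp : q = p
    · subst hqp
      have hQP : (Q : Subgroup G) = P := by
        obtain ⟨g, hg⟩ := MulAction.exists_smul_eq G P Q
        rw [← hg, Sylow.smul_eq_of_normal (h := hPn)]
      rw [hQP]
      have h1 := Subgroup.le_normalizer_map (H := M) (P : Subgroup G).subtype
      rw [Subgroup.normalizer_eq_top, ← MonoidHom.range_eq_map, Subgroup.range_subtype] at h1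
      exact h1
    · have hQn : (Q : Subgroup G).Normal :=
        Sylow.normal_of_normalizerCondition Group.normalizerCondition_of_isNilpotent Q
      refine le_trans ?_ (Subgroup.centralizer_le_normalizer _)
      intro g hg
      refine Subgroup.mem_centralizer_iff.mpr fun m hm => ?_
      exact Subgroup.commute_of_normal_of_disjoint _ _ hPn hQn
        (IsPGroup.disjoint_of_ne _ _ (Ne.symm hqp) _ _ P.2 Q.2) m g
        (Subgroup.map_subtype_le _ hm) hg
  obtain ⟨y, hy⟩ : ∃ y, y ∉ M := by
    by_contra h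
    push Not at h
    exact hM.1 (eq_top_iff.mpr fun y _ => h y)
  obtain ⟨a, ha⟩ := IsPGroup.iff_orderOf.mp P.2 x
  obtain ⟨b, hb⟩ := IsPGroup.iff_orderOf.mp P.2 y
  have hba : b ≤ a := by
    by_contra h
    have := hx y (Finset.mem_univ _)
    rw [ha, hb] at this
    exact absurd this (not_le.mpr (Nat.pow_lt_pow_right hp.one_lt (not_le.mp h)))
  have hord : orderOf (x ^ p ^ (a - b)) = p ^ b := by
    rw [orderOf_pow, ha, Nat.gcd_eq_right (pow_dvd_pow p (Nat.sub_le a b)),
      Nat.pow_div (Nat.sub_le a b) hp.pos, Nat.sub_sub_self hba]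
  have hcomm : ∀ z : G, IsMulCommutative ↥(Subgroup.zpowers z) := fun z => inferInstance
  obtain ⟨g, hg⟩ := hB _ _ (hcomm ((x ^ p ^ (a - b) : (P : Subgroup G)) : G)) (hcomm (y : G)) (by
    rw [Nat.card_zpowers, Nat.card_zpowers, Subgroup.orderOf_coe, Subgroup.orderOf_coe, hord, hb])
  obtain ⟨u, hu, hue⟩ := hg ▸ Subgroup.mem_zpowers (y : G)
  have huM : u ∈ Mg := by
    refine (Subgroup.zpowers_le.mpr ?_ : Subgroup.zpowers _ ≤ Mg) hu
    exact ⟨_, pow_mem (hxM (Subgroup.mem_zpowers x)) _, rfl⟩
  have hyM : (y : G) ∈ Mg := hue ▸ hMg.conj_mem u huM g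
  obtain ⟨y', hy', hye⟩ := hyM
  exact hy (Subtype.ext hye ▸ hy')

end Cfsg.Agent.S3910
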