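import Cfsg.Statements.S3917
import Mathlib

set_option autoImplicit false
open Cfsg

namespace Cfsg.Agent.S3917

/-- Say that a group has self-centralizing non-cyclic subgroups when every non-cyclic subgroup H satisfies C_G(H) ≤ H. A finite abelian group with self-centralizing non-cyclic subgroups is cyclic or elementary abelian of order p² for a prime p. -/
theorem result {G : Type*} [CommGroup G] [Finite G] (hX : (∀ H : Subgroup G, ¬ IsCyclic ↥H → Subgroup.centralizer (H : Set G) ≤ H)) :
    IsCyclic G ∨ ∃ p : ℕ, p.Prime ∧ Nat.card G = p ^ 2 ∧ Monoid.exponent G = p := by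
  by_contra hcon
  push Not at hcon
  obtain ⟨hnc, hcon⟩ := hcon
  have htop : ∀ H : Subgroup G, ¬ IsCyclic H → H = ⊤ := fun H hH => eq_top_iff.mpr fun g _ =>
    hX H hH (Subgroup.mem_centralizer_iff.mpr fun h _ => mul_comm h g)
  have hz : ¬ IsZGroup G := fun h => hnc (by infer_instance)
  obtain ⟨p, hp, P, hP⟩ : ∃ (p : ℕ) (_ : p.Prime) (P : Sylow p G), ¬ IsCyclic P := by
    by_contra h
    push Not at h
    exact hz ⟨fun p hp P => h p hp P⟩
  have := Fact.mk hp
  have hPt : (P : Subgroup G) = ⊤ := htop _ hP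
  have hG : IsPGroup p G := (hPt ▸ P.2 : IsPGroup p (⊤ : Subgroup G)).of_equiv Subgroup.topEquiv
  let Ω : Subgroup G := (powMonoidHom p : G →* G).ker
  have hΩ : ¬ IsCyclic Ω := by
    intro h
    have hle : Nat.card Ω ≤ p := by
      obtain ⟨g, hg⟩ := h.exists_generator
      rw [← Nat.card_congr (Subgroup.topEquiv (G := Ω)).toEquiv,
        ← show Subgroup.zpowers g = ⊤ from eq_top_iff.mpr fun y _ => hg y, Nat.card_zpowers]
      exact Nat.le_of_dvd hp.pos (orderOf_dvd_of_pow_eq_one (Subtype.ext g.2))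
    refine hnc ?_
    classical
    have : Fintype G := Fintype.ofFinite G
    refine isCyclic_of_card_pow_eq_one_le fun n hn => ?_
    obtain ⟨k, hk⟩ := IsPGroup.iff_card.mp hG
    have hsub : (Finset.univ.filter fun a : G => a ^ n = 1) =
        (Finset.univ.filter fun a : G => a ^ Nat.gcd n (p ^ k) = 1) := by
      refine Finset.filter_congr fun a _ => ?_
      rw [← orderOf_dvd_iff_pow_eq_one, ← orderOf_dvd_iff_pow_eq_one, Nat.dvd_gcd_iff]
      exact ⟨fun h => ⟨h, hk ▸ orderOf_dvd_natCard a⟩, fun h => h.1⟩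
    rw [hsub]
    obtain ⟨j, -, hj⟩ := (Nat.dvd_prime_pow hp).mp (Nat.gcd_dvd_right n (p ^ k))
    refine le_trans ?_ (Nat.le_of_dvd hn (Nat.gcd_dvd_left n (p ^ k)))
    rw [hj]
    clear hsub hj
    induction j with
    | zero => simp [Finset.card_le_one]
    | succ j ih =>
      have h1 : Nat.card ((powMonoidHom (p ^ (j + 1)) : G →* G).ker) ≤ p ^ (j + 1) := by
        let φ : (powMonoidHom (p ^ (j + 1)) : G →* G).ker →* G :=
          (powMonoidHom p : G →* G).comp (Subgroup.subtype _)
        refine le_trans ?_ (by rw [pow_succ, mul_comm] : p * p ^ j ≤ p ^ (j + 1))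
        rw [← φ.ker.card_mul_index, Subgroup.index_ker]
        refine Nat.mul_le_mul ?_ ?_
        · refine le_trans (Nat.card_le_card_of_injective
            (fun x => (⟨x.1.1, x.2⟩ : Ω)) fun a b hab => ?_) hle
          exact Subtype.ext (Subtype.ext (congrArg (fun z : Ω => (z : G)) hab))
        · calc Nat.card φ.range ≤ Nat.card {a : G // a ^ p ^ j = 1} :=
              Nat.card_le_card_of_injective (fun x => ⟨x.1, by
                obtain ⟨⟨a, ha⟩, hax⟩ := x.2
                rw [← hax]
                show (a ^ p) ^ p ^ j = 1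
                rw [← pow_mul, ← pow_succ']
                exact ha⟩) fun a b hab =>
                  Subtype.ext (congrArg (fun z : {a : G // a ^ p ^ j = 1} => (z : G)) hab)
            _ ≤ p ^ j := by rwa [Nat.card_eq_fintype_card, Fintype.card_subtype]
      rw [← Fintype.card_subtype, ← Nat.card_eq_fintype_card]
      exact le_trans (Nat.card_congr (Equiv.subtypeEquivRight fun a => Iff.rfl)).le h1
  have hexp : ∀ a : G, a ^ p = 1 := fun a => (htop Ω hΩ ▸ Subgroup.mem_top a : a ∈ Ω)
  obtain ⟨k, hk⟩ := IsPGroup.iff_card.mp hG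
  have hk2 : 2 ≤ k := by
    by_contra h
    refine hnc ?_
    rcases (show k = 0 ∨ k = 1 by omega) with rfl | rfl
    · have : Subsingleton G := (Nat.card_eq_one_iff_unique.mp (by simpa using hk)).1
      infer_instance
    · exact isCyclic_of_prime_card (p := p) (by simpa using hk)
  obtain ⟨H, hH⟩ := Sylow.exists_subgroup_card_pow_prime (G := G) p (n := 2)
    (hk ▸ pow_dvd_pow p hk2)
  have hHc : ¬ IsCyclic H := fun h => by
    obtain ⟨g, hg⟩ := h.exists_generator
    have h1 : orderOf g = p ^ 2 := by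
      rw [← hH, orderOf_eq_card_of_forall_mem_zpowers hg]
    have h2 : orderOf g ∣ p := orderOf_dvd_of_pow_eq_one (Subtype.ext (hexp g))
    rw [h1] at h2
    have := Nat.le_of_dvd hp.pos h2
    nlinarith [hp.two_le]
  have hcard : Nat.card G = p ^ 2 := by rw [← hH, htop H hHc, Subgroup.card_top]
  refine hcon p hp hcard ((hp.eq_one_or_self_of_dvd _
    (Monoid.exponent_dvd_of_forall_pow_eq_one hexp)).resolve_left fun h => ?_)
  rw [Monoid.exp_eq_one_iff] at h
  exact absurd hcard (by rw [Nat.card_eq_one_iff_unique.mpr ⟨h, ⟨1⟩⟩]; exact (Nat.one_lt_pow two_ne_zero hp.one_lt).ne)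

end Cfsg.Agent.S3917
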