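import Cfsg.Statements.S3918
import Cfsg.Agent.S0126
import Cfsg.Agent.Lib.OddLocal.OmegaExtend
import Cfsg.Agent.Lib.Cores.SmallPGroup

set_option autoImplicit false
open Cfsg

namespace Cfsg.Agent.S3918

/-- Say that a group has self-centralizing non-cyclic subgroups when every non-cyclic subgroup H satisfies C_G(H) ≤ H. For an odd prime p, a finite non-abelian p-group has self-centralizing non-cyclic subgroups if and only if it has order p³. -/
theorem result {G : Type*} [Group G] [Finite G] {p : ℕ} [Fact p.Prime] (hp : p ≠ 2) (hG : IsPGroup p G) (hna : ¬ IsMulCommutative G) :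
    (∀ H : Subgroup G, ¬ IsCyclic ↥H → Subgroup.centralizer (H : Set G) ≤ H) ↔ Nat.card G = p ^ 3 := by
  have hp' := (Fact.out : p.Prime)
  constructor
  · intro h
    set Z := Subgroup.center G with hZ
    have hZc : IsCyclic Z := by
      by_contra hc
      refine hna ⟨⟨fun a b => ?_⟩⟩
      have hle := h Z hc
      have htop : Subgroup.centralizer (Z : Set G) = ⊤ :=
        Subgroup.centralizer_eq_top_iff_subset.mpr subset_rfl
      rw [htop] at hle
      exact (Subgroup.mem_center_iff.mp (hle (Subgroup.mem_top b)) a)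
    have hnc : ¬ IsCyclic G := fun hc => hna ⟨⟨(IsCyclic.commGroup (α := G)).mul_comm⟩⟩
    obtain ⟨E, hEn, ⟨hEab, hEp⟩, hE2⟩ := Cfsg.Agent.S0126.result hp hG hnc
    have hEnc : ¬ IsCyclic E := by
      intro hc
      obtain ⟨g, hg⟩ := hc.exists_zpow_surjective
      have : orderOf g = Nat.card E := by
        rw [← Nat.card_zpowers]
        exact Nat.card_congr (Equiv.subtypeUnivEquiv fun x => hg x)
      have hd : orderOf g ∣ p := orderOf_dvd_of_pow_eq_one (Subtype.ext (by
        rw [SubmonoidClass.coe_pow]; exact hEp g g.2))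
      rw [this, hE2] at hd
      have := Nat.le_of_dvd hp'.pos hd
      nlinarith [hp'.two_le]
    have hCE : Nat.card (Subgroup.centralizer (E : Set G)) ≤ p ^ 2 :=
      hE2 ▸ Subgroup.card_le_of_le (h E hEnc)
    have hidx := Cfsg.Agent.Lib.OddLocal.index_centralizer_le hG E hE2
    obtain ⟨n, hn⟩ := IsPGroup.iff_card.mp hG
    have hle : Nat.card G ≤ p ^ 3 := by
      rw [← (Subgroup.centralizer (E : Set G)).card_mul_index, pow_succ]
      exact Nat.mul_le_mul hCE hidx
    rw [hn] at hle ⊢
    have hn3 := (Nat.pow_le_pow_iff_right hp'.one_lt).mp hle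
    obtain ⟨j, hj⟩ := Cfsg.Agent.Lib.Cores.le_center_index hG hna
    haveI : Nontrivial G := by
      rcases subsingleton_or_nontrivial G with hs | hs
      · exact absurd ⟨⟨fun a b => Subsingleton.elim _ _⟩⟩ hna
      · exact hs
    haveI := hG.center_nontrivial
    obtain ⟨i, hi⟩ := IsPGroup.iff_card.mp (hG.to_subgroup Z)
    have hi0 : i ≠ 0 := by
      rintro rfl
      exact absurd hi (by rw [pow_zero]; exact (Finite.one_lt_card).ne')
    have h2 := Z.card_mul_index
    rw [hi, hj, hn] at h2
    have h3 : p ^ (i + 2) ∣ p ^ n := ⟨j, by rw [← h2]; ring⟩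
    have := (Nat.pow_dvd_pow_iff_le_right hp'.one_lt).mp h3
    rw [show n = 3 by omega]
  · intro hc H hH
    have hZ := Cfsg.Agent.Lib.Cores.card_center_of_card_cube hG hc hna
    obtain ⟨k, hk⟩ := IsPGroup.iff_card.mp (hG.to_subgroup H)
    have hk3 : k ≤ 3 := by
      have := Subgroup.card_le_card_group H
      rw [hk, hc] at this
      exact (Nat.pow_le_pow_iff_right hp'.one_lt).mp this
    rcases eq_or_ne k 3 with rfl | hk'
    · rw [Subgroup.eq_top_of_card_eq H (hk.trans hc.symm)]; exact le_top
    have hk2 : k = 2 := by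
      by_contra hne
      apply hH
      rcases (show k = 0 ∨ k = 1 by omega) with rfl | rfl
      · rw [pow_zero] at hk
        haveI := (Nat.card_eq_one_iff_unique.mp hk).1
        exact isCyclic_of_subsingleton
      · exact isCyclic_of_prime_card (p := p) (by rw [hk, pow_one])
    subst hk2
    have hHab : IsMulCommutative H := ⟨⟨IsPGroup.commutative_of_card_eq_prime_sq hk⟩⟩
    intro x hx
    by_contra hxH
    -- then H is central
    have hcen : H ≤ Subgroup.centralizer ({x} : Set G) := fun y hy =>
      Subgroup.mem_centralizer_singleton_iff.mpr (Subgroup.mem_centralizer_iff.mp hx y hy)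
    have hlt : H < H ⊔ Subgroup.zpowers x := lt_of_le_of_ne le_sup_left fun e => hxH (by
      rw [e]; exact Subgroup.mem_sup_right (Subgroup.mem_zpowers x))
    have htop : H ⊔ Subgroup.zpowers x = ⊤ := by
      obtain ⟨m, hm⟩ := IsPGroup.iff_card.mp (hG.to_subgroup (H ⊔ Subgroup.zpowers x))
      have h1 : Nat.card H < Nat.card ↥(H ⊔ Subgroup.zpowers x) :=
        lt_of_le_of_ne (Subgroup.card_le_of_le hlt.le) fun e => hlt.ne (Subgroup.eq_of_le_of_card_ge hlt.le e.ge)
      rw [hk, hm] at h1
      have h2 := (Nat.pow_lt_pow_iff_right hp'.one_lt).mp h1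
      exact Subgroup.eq_top_of_le_card _ (by rw [hc, hm]; exact Nat.pow_le_pow_right hp'.pos (by omega))
    have hHZ : H ≤ Subgroup.center G := by
      intro y hy
      have hle : H ⊔ Subgroup.zpowers x ≤ Subgroup.centralizer ({y} : Set G) := by
        refine sup_le (fun z hz => Subgroup.mem_centralizer_singleton_iff.mpr
          (congrArg Subtype.val (hHab.is_comm.comm ⟨z, hz⟩ ⟨y, hy⟩))) ?_
        rw [Subgroup.zpowers_le]
        exact Subgroup.mem_centralizer_singleton_iff.mpr (Subgroup.mem_centralizer_iff.mp hx y hy).symm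
      rw [htop] at hle
      exact Subgroup.mem_center_iff.mpr fun g => Subgroup.mem_centralizer_singleton_iff.mp (hle (Subgroup.mem_top g))
    have := Subgroup.card_le_of_le hHZ
    rw [hk, hZ] at this
    nlinarith [hp'.two_le]

end Cfsg.Agent.S3918
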