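import Cfsg.Statements.S3919
import Cfsg.Agent.Lib.RankTwo.TwoMaxClass

set_option autoImplicit false
open Cfsg

namespace Cfsg.Agent.S3919

/-- Say that a group has self-centralizing non-cyclic subgroups when every non-cyclic subgroup H satisfies C_G(H) ≤ H. A finite non-abelian 2-group G of order 2^n has self-centralizing non-cyclic subgroups if and only if G has nilpotency class n − 1 (that is, G is dihedral, semidihedral or generalized quaternion). -/
theorem result {G : Type*} [Group G] [Finite G] (hna : ¬ IsMulCommutative G) (n : ℕ) (hG : Nat.card G = 2 ^ n) :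
    (∀ H : Subgroup G, ¬ IsCyclic ↥H → Subgroup.centralizer (H : Set G) ≤ H) ↔ (⊤ : Subgroup G).lowerCentralSeries (n - 2) ≠ ⊥ := by
  constructor
  · exact fun h => Cfsg.Agent.Lib.RankTwo.maxClass_of_centralizer_le hG hna h
  · intro h H hH
    haveI : Fact (Nat.Prime 2) := ⟨Nat.prime_two⟩
    have hn : 3 ≤ n := by
      by_contra hlt
      exact hna (Cfsg.Agent.Lib.RankTwo.isMulCommutative_of_card_dvd_sq (p := 2)
        (hG ▸ pow_dvd_pow 2 (by omega)))
    exact Cfsg.Agent.Lib.RankTwo.centralizer_le_of_maxClass hn hG h H hH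

end Cfsg.Agent.S3919
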