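import Cfsg.Statements.S3920
import Mathlib

set_option autoImplicit false
open Cfsg

namespace Cfsg.Agent.S3920

open DihedralGroup

/-- Say that a group has self-centralizing non-cyclic subgroups when every non-cyclic subgroup H satisfies C_G(H) ≤ H. For n ≥ 3, the dihedral group of order 2n has self-centralizing non-cyclic subgroups if and only if n is odd or a power of 2. -/
theorem result (n : ℕ) (hn : 3 ≤ n) : (∀ H : Subgroup (DihedralGroup n), ¬ IsCyclic ↥H → Subgroup.centralizer (H : Set (DihedralGroup n)) ≤ H) ↔ (Odd n ∨ ∃ k : ℕ, n = 2 ^ k) := by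
  have : NeZero n := ⟨by omega⟩
  have htwo : ∀ t : ZMod n, t + t = 0 → n ∣ t.val + t.val := by
    intro t ht
    rw [← ZMod.natCast_eq_zero_iff, Nat.cast_add, ZMod.natCast_val, ZMod.cast_id', id]
    exact ht
  constructor
  · intro h
    by_contra hcon
    push Not at hcon
    obtain ⟨hev, hpow⟩ := hcon
    obtain ⟨a, m, hm, rfl⟩ := Nat.exists_eq_pow_mul_and_not_dvd (show n ≠ 0 by omega) 2 (by norm_num)
    have ha : a ≠ 0 := fun h0 => hev (by
      rw [h0, pow_zero, one_mul]
      exact Nat.not_even_iff_odd.mp fun h => hm (even_iff_two_dvd.mp h))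
    have hm1 : m ≠ 1 := fun h => hpow a (by rw [h, mul_one])
    have hm3 : 3 ≤ m := by
      rcases m with _ | _ | _ | m <;> simp_all
    let φ : ZMod (2 ^ a * m) →+* ZMod (2 ^ a) := ZMod.castHom (dvd_mul_right _ _) _
    let H : Subgroup (DihedralGroup (2 ^ a * m)) :=
      { carrier := {x | match x with | .r j => φ j = 0 | .sr j => φ j = 0}
        one_mem' := map_zero φ
        mul_mem' := by
          rintro (i | i) (j | j) hi hj <;> simp only [Set.mem_ofPred_eq] at hi hj ⊢ <;>
            simp [hi, hj]
        inv_mem' := by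
          rintro (i | i) hi <;> simp only [Set.mem_ofPred_eq] at hi ⊢ <;> simp [hi] }
    have hr : DihedralGroup.r ((2 ^ a : ℕ) : ZMod (2 ^ a * m)) ∈ H := by
      show φ _ = 0
      rw [map_natCast, ZMod.natCast_self]
    have hs : DihedralGroup.sr (0 : ZMod (2 ^ a * m)) ∈ H := map_zero φ
    have hHc : ¬ IsCyclic H := fun hc => by
      let _ := hc.commGroup
      have h1 := congrArg Subtype.val (mul_comm (⟨_, hr⟩ : H) ⟨_, hs⟩)
      simp only [Subgroup.coe_mul, DihedralGroup.r_mul_sr, DihedralGroup.sr_mul_r,
        DihedralGroup.sr.injEq] at h1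
      have h2 : ((2 ^ a + 2 ^ a : ℕ) : ZMod (2 ^ a * m)) = 0 := by
        rw [Nat.cast_add]
        linear_combination -h1
      rw [ZMod.natCast_eq_zero_iff] at h2
      have h3 := Nat.le_of_dvd (by positivity) h2
      nlinarith [Nat.one_le_two_pow (n := a)]
    have hz : DihedralGroup.r ((2 ^ (a - 1) * m : ℕ) : ZMod (2 ^ a * m)) ∈ Subgroup.centralizer (H : Set _) := by
      have h2 : ((2 ^ (a - 1) * m : ℕ) : ZMod (2 ^ a * m)) + ((2 ^ (a - 1) * m : ℕ) : ZMod (2 ^ a * m)) = 0 := by
        rw [← Nat.cast_add, show 2 ^ (a - 1) * m + 2 ^ (a - 1) * m = 2 ^ a * m by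
          conv_rhs => rw [show a = a - 1 + 1 by omega, pow_succ]
          ring, ZMod.natCast_self]
      refine Subgroup.mem_centralizer_iff.mpr ?_
      rintro (i | i) -
      · simp [add_comm]
      · simp only [DihedralGroup.r_mul_sr, DihedralGroup.sr_mul_r, DihedralGroup.sr.injEq]
        linear_combination h2
    have hzH : φ ((2 ^ (a - 1) * m : ℕ) : ZMod (2 ^ a * m)) = 0 := h H hHc hz
    rw [map_natCast, ZMod.natCast_eq_zero_iff] at hzH
    have h4 : 2 ^ (a - 1) * 2 ∣ 2 ^ (a - 1) * m := by
      rwa [← pow_succ, show a - 1 + 1 = a by omega]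
    exact hm (Nat.dvd_of_mul_dvd_mul_left (by positivity) h4)
  · intro hn' H hH c hc
    obtain ⟨i, hi⟩ : ∃ i, DihedralGroup.sr i ∈ H := by
      by_contra hno
      push Not at hno
      have hle : H ≤ Subgroup.zpowers (DihedralGroup.r (1 : ZMod n)) := by
        rintro (j | j) hx
        · refine ⟨(j.val : ℤ), ?_⟩
          simp [DihedralGroup.r_one_pow]
        · exact absurd hx (hno j)
      exact hH (isCyclic_of_injective (Subgroup.inclusion hle) (Subgroup.inclusion_injective hle))
    obtain ⟨j, hj, hjH⟩ : ∃ j, j ≠ 0 ∧ DihedralGroup.r j ∈ H := by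
      by_contra hno
      push Not at hno
      have hle : H ≤ Subgroup.zpowers (DihedralGroup.sr i) := by
        rintro (j | j) hx
        · by_cases h0 : j = 0
          · subst h0; exact one_mem _
          · exact absurd hx (hno j h0)
        · have h1 := mul_mem hi hx
          rw [DihedralGroup.sr_mul_sr] at h1
          by_cases h0 : j - i = 0
          · rw [sub_eq_zero.mp h0]; exact Subgroup.mem_zpowers _
          · exact absurd h1 (hno _ h0)
      exact hH (isCyclic_of_injective (Subgroup.inclusion hle) (Subgroup.inclusion_injective hle))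
    -- the rotations of order two lie in `H`
    have hinv : ∀ t : ZMod n, t + t = 0 → DihedralGroup.r t ∈ H := by
      intro t ht
      by_cases h0 : t = 0
      · subst h0; exact one_mem _
      have hd := htwo t ht
      have hlt := t.val_lt
      have ht0 : t.val ≠ 0 := fun h => h0 ((ZMod.val_eq_zero t).mp h)
      have heq : t.val + t.val = n := by
        obtain ⟨c, hc⟩ := hd
        rcases c with _ | _ | c <;> [omega; omega; nlinarith]
      rcases hn' with hodd | ⟨k, hk⟩
      · exact absurd (⟨t.val, heq.symm⟩ : Even n) (Nat.not_even_iff_odd.mpr hodd)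
      classical
      have hex : ∃ l : ℕ, (2 ^ l : ℕ) • j = 0 := ⟨k, by rw [← hk]; simp [nsmul_eq_mul]⟩
      have hl0 : Nat.find hex ≠ 0 := fun h => by
        have := Nat.find_spec hex
        rw [h, pow_zero, one_nsmul] at this
        exact hj this
      obtain ⟨l, hl⟩ := Nat.exists_eq_succ_of_ne_zero hl0
      have hl1 := Nat.find_spec hex
      have hl2 : (2 ^ l : ℕ) • j ≠ 0 := Nat.find_min hex (by omega)
      rw [hl, pow_succ, mul_two, add_nsmul] at hl1
      have heq' : ((2 ^ l : ℕ) • j).val + ((2 ^ l : ℕ) • j).val = n := by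
        have hlt' := ((2 ^ l : ℕ) • j).val_lt
        have h0' : ((2 ^ l : ℕ) • j).val ≠ 0 := fun h => hl2 ((ZMod.val_eq_zero _).mp h)
        obtain ⟨c, hc⟩ := htwo _ hl1
        rcases c with _ | _ | c <;> [omega; omega; nlinarith]
      have hte : t = (2 ^ l : ℕ) • j := ZMod.val_injective n (by omega)
      rw [hte]
      have hpow : DihedralGroup.r j ^ (2 ^ l) = DihedralGroup.r ((2 ^ l : ℕ) • j) := by
        induction (2 ^ l) with
        | zero => rw [pow_zero, zero_nsmul]; rfl
        | succ e ih => rw [pow_succ, ih, DihedralGroup.r_mul_r, succ_nsmul]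
      exact hpow ▸ pow_mem hjH _
    have hci := Subgroup.mem_centralizer_iff.mp hc _ hi
    rcases c with t | t
    · simp only [DihedralGroup.r_mul_sr, DihedralGroup.sr_mul_r, DihedralGroup.sr.injEq] at hci
      exact hinv t (by linear_combination hci)
    · simp only [DihedralGroup.sr_mul_sr, DihedralGroup.r.injEq] at hci
      have h1 := hinv (t - i) (by linear_combination hci)
      have h2 := mul_mem hi h1
      rwa [DihedralGroup.sr_mul_r, add_sub_cancel] at h2

end Cfsg.Agent.S3920
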