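import Cfsg.Statements.S3927
import Cfsg.Agent.Lib.GenZipper.Basic
import Mathlib.GroupTheory.SemidirectProduct

set_option autoImplicit false
open Cfsg

namespace Cfsg.Agent.S3927

open Pointwise Subgroup Cfsg.Agent.Lib

universe v

theorem generate_aux : ∀ (n : ℕ) (X : Type v) [Group X] [Finite X], Nat.card X = n → ∀ (a : X),
    normalClosure ({a} : Set X) = ⊤ → ∀ k : ℕ,
    closure (insert a (Set.range (fun c : X => c * a * c⁻¹ * a⁻¹)^[k])) = ⊤ := by
  intro n
  induction n using Nat.strongRecOn with
  | ind n IH =>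
  intro X _ _ hn a ha k
  set f := fun c : X => c * a * c⁻¹ * a⁻¹ with hf
  by_contra hD
  set D := closure (insert a (Set.range f^[k])) with hDdef
  obtain ⟨M, hM, hDM⟩ := (eq_top_or_exists_le_coatom D).resolve_left hD
  have haD : a ∈ D := subset_closure (Set.mem_insert _ _)
  have hA : normalClosure ((zpowers a : Subgroup X) : Set X) = ⊤ :=
    top_le_iff.mp (ha ▸ normalClosure_mono (Set.singleton_subset_iff.mpr (mem_zpowers a)))
  have hAtop : zpowers a ≠ ⊤ := fun h => hD (top_le_iff.mp (h ▸ zpowers_le.mpr haD))
  have hAM : zpowers a ≤ M := zpowers_le.mpr (hDM haD)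
  obtain ⟨g, hgM, hg⟩ : ∃ g, g ∉ M ∧ f g ∈ M := by
    by_contra h
    push Not at h
    refine hM.1 (top_le_iff.mp fun c _ => ?_)
    have hk : ∀ j : ℕ, ∀ c : X, f^[j] c ∈ M → c ∈ M := by
      intro j
      induction j with
      | zero => exact fun c hc => hc
      | succ j ih =>
        intro c hc
        rw [Function.iterate_succ_apply] at hc
        by_contra hcM
        exact h c hcM (ih _ hc)
    exact hk k c (hDM (subset_closure (Set.mem_insert_of_mem _ ⟨c, rfl⟩)))
  have hga : g * a * g⁻¹ ∈ M := by
    have := mul_mem hg (hDM haD)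
    simpa [hf] using this
  set M' := MulAut.conj g⁻¹ • M with hM'
  have hAM' : zpowers a ≤ M' := zpowers_le.mpr (by
    rw [hM', Coprime.mem_conj_smul, inv_inv]; exact hga)
  have hne : M' ≠ M := fun he => hgM (by
    have h1 : g⁻¹ ∈ normalizer (M : Set X) := Coprime.mem_normalizer_of_conj_smul_eq he
    rcases hM.le_iff.mp (le_normalizer (H := M)) with h | h
    · have := GenZipper.eq_top_of_normal hA 1 (normalizer_eq_top_iff.mp h)
        ((Coprime.conj_one_smul _).le.trans hAM)
      exact absurd this hM.1
    · rw [h] at h1; exact inv_mem_iff.mp h1)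
  have hsup : sSup {H : Subgroup X | zpowers a ≤ H ∧ H ≠ ⊤ ∧
      normalClosure (((zpowers a).subgroupOf H : Subgroup H) : Set H) = ⊤} = ⊤ := by
    by_contra h
    exact hne (GenZipper.unique_coatom _ _ rfl hA hAtop h M' M
      (GenZipper.smul_isCoatom hM g⁻¹) hM hAM' hAM)
  refine hD (top_le_iff.mp (hsup ▸ sSup_le ?_))
  rintro H ⟨haH', hHtop, hH⟩
  have haH : a ∈ H := haH' (mem_zpowers a)
  have hlt : Nat.card H < n := by
    rw [← hn]
    exact lt_of_le_of_ne (card_le_card_group H) fun e => hHtop (eq_top_of_card_eq H e)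
  have hn' : normalClosure ({(⟨a, haH⟩ : H)} : Set H) = ⊤ := by
    rw [eq_top_iff, ← hH]
    refine normalClosure_le_normal fun x hx => ?_
    obtain ⟨i, hi⟩ := mem_zpowers_iff.mp hx
    have : x = (⟨a, haH⟩ : H) ^ i := Subtype.ext (by rw [SubgroupClass.coe_zpow]; exact hi.symm)
    rw [this]
    have hmem : (⟨a, haH⟩ : H) ∈ normalClosure ({(⟨a, haH⟩ : H)} : Set H) :=
      subset_normalClosure (Set.mem_singleton _)
    exact Subgroup.zpow_mem _ hmem i
  have h := IH _ hlt H rfl ⟨a, haH⟩ hn' k
  intro x hx
  set f' := fun c : H => c * ⟨a, haH⟩ * c⁻¹ * (⟨a, haH⟩ : H)⁻¹ with hf'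
  have hsemi : Function.Semiconj (Subtype.val : H → X) f' f := fun c => by simp [f', hf]
  have hle : closure (insert (⟨a, haH⟩ : H) (Set.range f'^[k])) ≤ D.comap H.subtype := by
    rw [closure_le]
    intro y hy
    rw [Set.mem_insert_iff, Set.mem_range] at hy
    rw [SetLike.mem_coe, mem_comap, Subgroup.coe_subtype]
    rcases hy with rfl | ⟨c, hc⟩
    · exact haD
    · have he : (y : X) = f^[k] (c : X) := by rw [← hc]; exact (hsemi.iterate_right k) c
      rw [he]
      exact subset_closure (Set.mem_insert_of_mem _ (Set.mem_range_self _))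
  have hx' : (⟨x, hx⟩ : H) ∈ D.comap H.subtype := hle (by rw [h]; exact mem_top _)
  exact hx'

/-- Let G be a finite group and α an automorphism of G with [G, α] = G, that is, the elements g·α(g)⁻¹ generate G. Then for every k ≥ 1 the iterated commutators [g, α, …, α] with k entries α — the values of the k-th iterate of the map c ↦ c·α(c)⁻¹ — also generate G. -/
theorem result {G : Type*} [Group G] [Finite G] (α : MulAut G) (hG : Subgroup.closure (Set.range (fun c : G => c * (α c)⁻¹)) = ⊤) (k : ℕ) (hk : 1 ≤ k) :
    Subgroup.closure (Set.range ((fun c : G => c * (α c)⁻¹)^[k])) = ⊤ := by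
  classical
  let φ : ↥(zpowers α) →* MulAut G := (zpowers α).subtype
  let X := G ⋊[φ] ↥(zpowers α)
  haveI : Finite X := Finite.of_equiv _ SemidirectProduct.equivProd.symm
  let a : X := SemidirectProduct.inr ⟨α, mem_zpowers α⟩
  let f : G → G := fun c => c * (α c)⁻¹
  let F : X → X := fun c => c * a * c⁻¹ * a⁻¹
  have hF : ∀ c : G, F (SemidirectProduct.inl c) = SemidirectProduct.inl (f c) := by
    intro c
    show SemidirectProduct.inl c * a * (SemidirectProduct.inl c)⁻¹ * a⁻¹ = _
    rw [mul_assoc, mul_assoc, ← mul_assoc a, ← map_inv, ← map_inv SemidirectProduct.inr,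
      ← SemidirectProduct.inl_aut, ← map_mul]
    simp [f, φ]
  have hFX : ∀ x : X, ∃ c : G, F x = SemidirectProduct.inl (f c) := by
    intro x
    refine ⟨x.left, ?_⟩
    rw [← hF]
    conv_lhs => rw [← SemidirectProduct.inl_left_mul_inr_right x]
    have hc : SemidirectProduct.inr x.right * a = a * SemidirectProduct.inr (φ := φ) x.right := by
      obtain ⟨i, hi⟩ := mem_zpowers_iff.mp x.right.2
      have : x.right = (⟨α, mem_zpowers α⟩ : ↥(zpowers α)) ^ i := Subtype.ext (by
        rw [SubgroupClass.coe_zpow]; exact hi.symm)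
      rw [this, map_zpow]
      exact ((Commute.refl a).zpow_left i).eq
    simp only [F, mul_inv_rev, mul_assoc]
    rw [← mul_assoc (SemidirectProduct.inr x.right) a, hc]
    simp [mul_assoc]
  -- the normal closure of `a` is everything
  have han : a ∈ normalClosure ({a} : Set X) := subset_normalClosure (Set.mem_singleton a)
  have hn : normalClosure ({a} : Set X) = ⊤ := by
    rw [eq_top_iff]
    intro x _
    rw [← SemidirectProduct.inl_left_mul_inr_right x]
    refine mul_mem ?_ ?_
    · have hle : (⊤ : Subgroup G) ≤ (normalClosure ({a} : Set X)).comap SemidirectProduct.inl := by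
        rw [← hG, closure_le]
        rintro _ ⟨c, rfl⟩
        show SemidirectProduct.inl (f c) ∈ normalClosure ({a} : Set X)
        rw [← hF]
        exact Subgroup.mul_mem _ (normalClosure_normal.conj_mem a han _) (Subgroup.inv_mem _ han)
      exact hle (mem_top x.left)
    · obtain ⟨i, hi⟩ := mem_zpowers_iff.mp x.right.2
      have : x.right = (⟨α, mem_zpowers α⟩ : ↥(zpowers α)) ^ i := Subtype.ext (by
        rw [SubgroupClass.coe_zpow]; exact hi.symm)
      rw [this, map_zpow]
      exact Subgroup.zpow_mem _ han i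
  have hmain := generate_aux _ X rfl a hn k
  set H := closure (Set.range f^[k]) with hH
  have hHα : ∀ c ∈ H, α c ∈ H := by
    intro c hc
    have h1 : H ≤ H.comap α.toMonoidHom := by
      rw [hH, closure_le]
      rintro _ ⟨c, rfl⟩
      refine subset_closure ⟨α c, ?_⟩
      have : Function.Semiconj (fun c => α c) f f := fun c => by simp [f]
      exact ((this.iterate_right k) c).symm
    exact h1 hc
  have hHinv : ∀ σ : ↥(zpowers α), ∀ c ∈ H, (σ : MulAut G) c ∈ H := by
    intro σ
    obtain ⟨i, hi⟩ := (isOfFinOrder_of_finite α).mem_powers_iff_mem_zpowers.mpr σ.2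
    rw [← hi]
    clear hi
    induction i with
    | zero => intro c hc; simpa using hc
    | succ i ih =>
      intro c hc
      show (α ^ (i + 1)) c ∈ H
      rw [pow_succ]
      exact ih _ (hHα c hc)
  let D : Subgroup X :=
    { carrier := {x | x.left ∈ H}
      one_mem' := by simp
      mul_mem' := fun {x y} hx hy => by
        show (x * y).left ∈ H
        rw [SemidirectProduct.mul_left]
        exact mul_mem hx (hHinv _ _ hy)
      inv_mem' := fun {x} hx => by
        show (x⁻¹).left ∈ H
        rw [SemidirectProduct.inv_left]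
        exact hHinv x.right⁻¹ _ (inv_mem hx) }
  rw [eq_top_iff]
  intro g _
  have hrange : ∀ x : X, F^[k] x ∈ D := by
    intro x
    obtain ⟨j, hj⟩ := Nat.exists_eq_add_of_le' hk
    obtain ⟨c, hc⟩ := hFX x
    have hs : Function.Semiconj (SemidirectProduct.inl : G → X) f F := fun c => (hF c).symm
    have he : F^[k] x = SemidirectProduct.inl (f^[k] c) := by
      rw [hj, Function.iterate_succ_apply, hc, ← (hs.iterate_right j) (f c),
        ← Function.iterate_succ_apply]
    show (F^[k] x).left ∈ H
    rw [he, SemidirectProduct.left_inl]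
    exact subset_closure (Set.mem_range_self _)
  have hgD : SemidirectProduct.inl g ∈ D := by
    have hle : closure (insert a (Set.range F^[k])) ≤ D := by
      rw [closure_le]
      intro y hy
      rw [Set.mem_insert_iff, Set.mem_range] at hy
      rcases hy with rfl | ⟨x, hx⟩
      · show a.left ∈ H
        simp [a]
      · rw [← hx]
        exact hrange x
    exact hle (by rw [show closure (insert a (Set.range F^[k])) = ⊤ from hmain]; exact mem_top _)
  have h2 : (SemidirectProduct.inl g : X).left ∈ H := hgD
  rwa [SemidirectProduct.left_inl] at h2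

end Cfsg.Agent.S3927
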