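import Cfsg.Statements.S3937
import Cfsg.Agent.Lib.Cores.Fitting
import Cfsg.Agent.Lib.Involutions.BaerSuzuki

set_option autoImplicit false
open Cfsg

namespace Cfsg.Agent.S3937

open scoped commutatorElement

universe u

variable {H : Type u} [Group H]

/-- The iterated commutator `[x, g, …, g]`. -/
def en (g : H) : ℕ → H → H
  | 0, x => x
  | n + 1, x => en g n ⁅x, g⁆

theorem foldl_eq (g : H) : ∀ (n : ℕ) (x : H),
    (List.replicate n g).foldl (fun a b => a * b * a⁻¹ * b⁻¹) x = en g n x
  | 0, _ => rfl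
  | n + 1, x => by
    rw [List.replicate_succ, List.foldl_cons, foldl_eq g n]
    rfl

theorem en_succ' (g : H) : ∀ (n : ℕ) (x : H), en g (n + 1) x = ⁅en g n x, g⁆
  | 0, _ => rfl
  | n + 1, x => en_succ' g n ⁅x, g⁆

theorem map_en {K : Type*} [Group K] (f : H →* K) (g : H) : ∀ (n : ℕ) (x : H),
    f (en g n x) = en (f g) n (f x)
  | 0, _ => rfl
  | n + 1, x => by
    show f (en g n ⁅x, g⁆) = en (f g) n ⁅f x, f g⁆
    rw [map_en f g n, map_commutatorElement]

/-- A left Engel element. -/
def IsEngel (g : H) : Prop := ∀ x, ∃ n, en g n x = 1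

theorem IsEngel.conj {g : H} (h : IsEngel g) (c : H) : IsEngel (c * g * c⁻¹) := by
  intro x
  obtain ⟨n, hn⟩ := h (c⁻¹ * x * c)
  refine ⟨n, ?_⟩
  have := map_en (MulAut.conj c).toMonoidHom g n (c⁻¹ * x * c)
  rw [hn, map_one] at this
  simpa [mul_assoc] using this.symm

theorem isEngel_mk {g : H} (h : IsEngel g) {K : Subgroup H} (hg : g ∈ K) : IsEngel (⟨g, hg⟩ : K) := by
  intro x
  obtain ⟨n, hn⟩ := h x
  exact ⟨n, Subtype.ext ((map_en K.subtype _ n x).trans hn)⟩

theorem mem_fitting_of_engel : ∀ (m : ℕ) (H : Type u) [Group H] [Finite H], Nat.card H = m →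
    ∀ g : H, IsEngel g → g ∈ Cfsg.fittingSubgroup H := by
  intro m
  induction m using Nat.strong_induction_on with
  | _ m ih =>
    intro H _ _ hm g hg
    classical
    by_contra hgF
    set X : Set H := {y | ∃ c : H, c * g * c⁻¹ = y} with hX
    have hgX : g ∈ X := ⟨1, by simp⟩
    have hXc : ∀ (r y : H), y ∈ X → r * y * r⁻¹ ∈ X := by
      rintro r y ⟨c, rfl⟩; exact ⟨r * c, by group⟩
    -- the family
    let Fam : Set (Subgroup H) :=
      {P | Group.IsNilpotent P ∧ Subgroup.closure (X ∩ (P : Set H)) = P}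
    have hnille : ∀ {A B : Subgroup H}, A ≤ B → Group.IsNilpotent B → Group.IsNilpotent A :=
      fun {A B} h hB => Group.nilpotent_of_mulEquiv (Subgroup.subgroupOfEquivOfLe h)
    have hnormal : ∀ P : Subgroup H, P.Normal → Group.IsNilpotent P → ∀ y ∈ X, y ∉ P := by
      rintro P hPn hPnil y ⟨c, rfl⟩ hy
      refine hgF (Cfsg.Agent.Lib.Cores.le_fittingSubgroup hPn hPnil ?_)
      have := hPn.conj_mem _ hy c⁻¹
      simpa [mul_assoc] using this
    have hproper : ∀ K : Subgroup H, K ≠ ⊤ → ∃ P ∈ Fam, X ∩ (K : Set H) ⊆ P := by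
      intro K hK
      refine ⟨Subgroup.closure (X ∩ (K : Set H)), ⟨?_, ?_⟩, Subgroup.subset_closure⟩
      · have hlt : Nat.card K < m := hm ▸ lt_of_le_of_ne (Subgroup.card_le_card_group K)
          (fun h => hK (Subgroup.eq_top_of_card_eq K h))
        have hF : Group.IsNilpotent ↥((Cfsg.fittingSubgroup K).map K.subtype) := by
          have := Cfsg.Agent.Lib.Cores.fittingSubgroup_isNilpotent K
          exact Group.nilpotent_of_mulEquiv
            ((Cfsg.fittingSubgroup K).equivMapOfInjective K.subtype K.subtype_injective)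
        refine hnille ((Subgroup.closure_le _).mpr ?_) hF
        rintro y ⟨⟨c, hc⟩, hyK⟩
        exact ⟨⟨y, hyK⟩, ih _ hlt K rfl _ (isEngel_mk (hc ▸ hg.conj c) hyK), rfl⟩
      · refine le_antisymm ((Subgroup.closure_le _).mpr fun y hy => hy.2) ?_
        exact (Subgroup.closure_le _).mpr fun y hy => Subgroup.subset_closure
          ⟨hy.1, Subgroup.subset_closure hy⟩
    have hmax : ∀ P ∈ Fam, ∃ Q, Maximal (· ∈ Fam) Q ∧ P ≤ Q := fun P hP => by
      obtain ⟨Q, hPQ, hQ⟩ := (Set.toFinite Fam).exists_le_maximal hP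
      exact ⟨Q, hQ, hPQ⟩
    -- maximal members share no element of `X`
    have hdisj : ∀ P Q, Maximal (· ∈ Fam) P → Maximal (· ∈ Fam) Q → ∀ y ∈ X, y ∈ P → y ∈ Q → P = Q := by
      intro P0 Q0 hP0 hQ0 y0 hy0 hyP0 hyQ0
      by_contra hne0
      let f : Subgroup H × Subgroup H → Subgroup H := fun z =>
        Subgroup.closure (X ∩ ((z.1 : Set H) ∩ (z.2 : Set H)))
      let T : Set (Subgroup H × Subgroup H) := {z | Maximal (· ∈ Fam) z.1 ∧ Maximal (· ∈ Fam) z.2 ∧
        z.1 ≠ z.2 ∧ ∃ y ∈ X, y ∈ z.1 ∧ y ∈ z.2}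
      obtain ⟨⟨P, Q⟩, hz⟩ := Set.Finite.exists_maximalFor f T (Set.toFinite T)
        ⟨(P0, Q0), hP0, hQ0, hne0, y0, hy0, hyP0, hyQ0⟩
      obtain ⟨hP, hQ, hne, y, hy, hyP, hyQ⟩ := hz.1
      set I := f (P, Q) with hI
      have hIP : I ≤ P := (Subgroup.closure_le _).mpr fun z hz => hz.2.1
      have hIQ : I ≤ Q := (Subgroup.closure_le _).mpr fun z hz => hz.2.2
      have hN : Subgroup.normalizer (I : Set H) ≠ ⊤ := fun h =>
        hnormal I (Subgroup.normalizer_eq_top_iff.mp h) (hnille hIP hP.1.1) y hy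
          (Subgroup.subset_closure ⟨hy, hyP, hyQ⟩)
      have key : ∀ {A B : Subgroup H}, Maximal (· ∈ Fam) A → Maximal (· ∈ Fam) B → A ≠ B → I ≤ A →
          I ≤ B → Subgroup.closure (X ∩ (I : Set H)) = I →
          ∃ a ∈ X, a ∈ A ∧ a ∉ I ∧ a ∈ Subgroup.normalizer (I : Set H) := by
        intro A B hA hB hAB hIA hIB hIgen
        by_contra hno
        push Not at hno
        set J := A ⊓ Subgroup.normalizer (I : Set H) with hJ
        have hIJ : I ≤ J := le_inf hIA Subgroup.le_normalizer
        have hJgen : ∀ z ∈ X, z ∈ J → z ∈ I := fun z hz hzJ => by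
          by_contra hzI; exact hno z hz hzJ.1 hzI hzJ.2
        have hJA : J = A := by
          by_contra hJne
          have := hA.1.1
          have hlt : J.subgroupOf A < ⊤ := lt_top_iff_ne_top.mpr fun h =>
            hJne (le_antisymm inf_le_left (Subgroup.subgroupOf_eq_top.mp h))
          obtain ⟨r, hr, hrn⟩ := SetLike.exists_of_lt (Group.normalizerCondition_of_isNilpotent _ hlt)
          refine hrn ?_
          rw [Subgroup.mem_subgroupOf]
          refine Subgroup.mem_inf.mpr ⟨r.2, ?_⟩
          have hrJ : ∀ z, z ∈ J → (r : H) * z * (r : H)⁻¹ ∈ J := fun z hz =>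
            ((Subgroup.mem_set_normalizer_iff.mp hr) ⟨z, hz.1⟩).mp hz
          rw [Cfsg.Agent.Lib.Involutions.mem_normalizer_iff_map_conj]
          refine Subgroup.eq_of_le_of_card_ge ?_ (le_of_eq (Subgroup.card_map_of_injective (MulEquiv.injective _)).symm)
          rw [← hIgen, MonoidHom.map_closure, Subgroup.closure_le]
          rintro _ ⟨z, ⟨hzX, hzI⟩, rfl⟩
          rw [hIgen]
          exact hJgen _ (hXc _ _ hzX) (hrJ z (hIJ hzI))
        have : A ≤ B := by
          rw [← hA.1.2, Subgroup.closure_le]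
          exact fun z hz => hIB (hJgen z hz.1 (hJA ▸ hz.2))
        exact hAB (le_antisymm this (hA.2 hB.1 this))
      have hIgen : Subgroup.closure (X ∩ (I : Set H)) = I :=
        le_antisymm ((Subgroup.closure_le _).mpr fun z hz => hz.2)
          ((Subgroup.closure_le _).mpr fun z hz => Subgroup.subset_closure ⟨hz.1, Subgroup.subset_closure hz⟩)
      obtain ⟨a, haX, haP, haI, haN⟩ := key hP hQ hne hIP hIQ hIgen
      obtain ⟨b, hbX, hbQ, hbI, hbN⟩ := key hQ hP (Ne.symm hne) hIQ hIP hIgen
      obtain ⟨R0, hR0, hR0N⟩ := hproper _ hN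
      obtain ⟨R, hR, hR0R⟩ := hmax R0 hR0
      have hgrow : ∀ A, Maximal (· ∈ Fam) A → I ≤ A → ∀ c ∈ X, c ∈ A → c ∉ I →
          c ∈ Subgroup.normalizer (I : Set H) → R = A := by
        intro A hA hIA c hcX hcA hcI hcN
        by_contra hRA
        have hcR : c ∈ R := hR0R (hR0N ⟨hcX, hcN⟩)
        have hle : I ≤ f (R, A) := (Subgroup.closure_le _).mpr fun z hz => Subgroup.subset_closure
          ⟨hz.1, hR0R (hR0N ⟨hz.1, Subgroup.le_normalizer (Subgroup.subset_closure hz)⟩),
            hIA (Subgroup.subset_closure hz)⟩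
        exact hcI (hz.2 (j := (R, A)) ⟨hR, hA, hRA, c, hcX, hcR, hcA⟩ hle
          (Subgroup.subset_closure ⟨hcX, hcR, hcA⟩))
      exact hne ((hgrow P hP hIP a haX haP haI haN).symm.trans (hgrow Q hQ hIQ b hbX hbQ hbI hbN))
    -- the maximal member containing `g`
    obtain ⟨P, hP, hP1⟩ := hmax (Subgroup.zpowers g) ⟨by
        have : IsMulCommutative ↥(Subgroup.zpowers g) := inferInstance
        have : Subgroup.upperCentralSeries ↥(Subgroup.zpowers g) 1 = ⊤ := by
          rw [Subgroup.upperCentralSeries_one, eq_top_iff]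
          exact fun a _ => Subgroup.mem_center_iff.mpr fun b => mul_comm' b a
        exact ⟨1, this⟩,
      le_antisymm ((Subgroup.closure_le _).mpr fun y hy => hy.2)
        (Subgroup.zpowers_le.mpr (Subgroup.subset_closure ⟨hgX, Subgroup.mem_zpowers g⟩))⟩
    have hgP : g ∈ P := hP1 (Subgroup.mem_zpowers g)
    have hNP : Subgroup.normalizer (P : Set H) ≠ ⊤ := fun h =>
      hnormal P (Subgroup.normalizer_eq_top_iff.mp h) hP.1.1 g hgX hgP
    have step : ∀ (n : ℕ) (x : H), en g n x = 1 → x * g * x⁻¹ ∈ P := by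
      intro n
      induction n with
      | zero => intro x hx; change x = 1 at hx; subst hx; simpa using hgP
      | succ n ihn =>
        intro x hx
        have h1 := ihn ⁅x, g⁆ hx
        set b := x * g * x⁻¹ with hb
        have hbX : b ∈ X := ⟨x, rfl⟩
        have h2 : b * g * b⁻¹ ∈ P := by
          convert h1 using 1
          rw [hb, commutatorElement_def]; group
        -- `P` and its conjugate by `b` share an element of `X`
        have hPb : Maximal (· ∈ Fam) (P.map (MulAut.conj b).toMonoidHom) := by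
          have hmem : ∀ (A : Subgroup H) (c : H), A ∈ Fam → A.map (MulAut.conj c).toMonoidHom ∈ Fam := by
            intro A c hA
            refine ⟨?_, ?_⟩
            · have := hA.1
              exact Group.nilpotent_of_mulEquiv
                (A.equivMapOfInjective (MulAut.conj c).toMonoidHom (MulAut.conj c).injective)
            · refine le_antisymm ((Subgroup.closure_le _).mpr fun z hz => hz.2) ?_
              rw [Subgroup.map_le_iff_le_comap, ← hA.2, Subgroup.closure_le]
              exact fun z hz => Subgroup.subset_closure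
                ⟨hXc c z hz.1, z, hA.2.symm ▸ hz.2, rfl⟩
          refine ⟨hmem P b hP.1, fun A hA hle => ?_⟩
          have h3 : P ≤ A.map (MulAut.conj b⁻¹).toMonoidHom := by
            refine le_trans (le_of_eq ?_) (Subgroup.map_mono hle)
            rw [Cfsg.Agent.Lib.Involutions.map_conj_mul, inv_mul_cancel,
              Cfsg.Agent.Lib.Involutions.map_conj_one]
          have h4 := hP.2 (hmem A b⁻¹ hA) h3
          refine le_trans (le_of_eq ?_) (Subgroup.map_mono h4)
          rw [Cfsg.Agent.Lib.Involutions.map_conj_mul, mul_inv_cancel,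
            Cfsg.Agent.Lib.Involutions.map_conj_one]
        have h5 : P = P.map (MulAut.conj b).toMonoidHom :=
          hdisj _ _ hP hPb _ (hXc b g hgX) h2 ⟨g, hgP, rfl⟩
        obtain ⟨R0, hR0, hR0N⟩ := hproper _ hNP
        have hPR : P ≤ R0 := by
          rw [← hP.1.2, Subgroup.closure_le]
          exact fun z hz => hR0N ⟨hz.1, Subgroup.le_normalizer hz.2⟩
        exact (hP.2 hR0 hPR) (hR0N ⟨hbX,
          Cfsg.Agent.Lib.Involutions.mem_normalizer_iff_map_conj.mpr h5.symm⟩)
    refine hNP (Subgroup.normalizer_eq_top_iff.mpr ⟨fun z hz c => ?_⟩)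
    have hXP : X ⊆ (P : Set H) := by
      rintro y ⟨x, rfl⟩
      obtain ⟨n, hn⟩ := hg x
      exact step n x hn
    rw [← hP.1.2] at hz ⊢
    have : Subgroup.closure (X ∩ (P : Set H)) ≤
        (Subgroup.closure (X ∩ (P : Set H))).comap (MulAut.conj c).toMonoidHom :=
      (Subgroup.closure_le _).mpr fun w hw => Subgroup.subset_closure
        ⟨hXc c w hw.1, hXP (hXc c w hw.1)⟩
    exact this hz

/-- Baer's characterization of the Fitting subgroup: in a finite group G, an element g lies in the Fitting subgroup if and only if g is a left Engel element, that is, for every x there is n with [x, g, g, …, g] = 1 (n entries g, [a, b] = aba⁻¹b⁻¹). -/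
theorem result {G : Type*} [Group G] [Finite G] (g : G) :
    g ∈ Cfsg.fittingSubgroup G ↔ ∀ x : G, ∃ n : ℕ, (List.replicate n g).foldl (fun a b => a * b * a⁻¹ * b⁻¹) x = 1 := by
  constructor
  · intro hg x
    have := Cfsg.Agent.Lib.Cores.fittingSubgroup_isNilpotent G
    obtain ⟨c, hc⟩ := (Subgroup.isNilpotent_iff_lowerCentralSeries (Cfsg.fittingSubgroup G)).mp this
    refine ⟨c + 1, ?_⟩
    rw [foldl_eq]
    have hn : (Cfsg.fittingSubgroup G).Normal := by
      have := Cfsg.Agent.Lib.Cores.fittingSubgroup_characteristic G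
      infer_instance
    have key : ∀ j, en g (j + 1) x ∈ (Cfsg.fittingSubgroup G).lowerCentralSeries j := by
      intro j
      induction j with
      | zero =>
        show ⁅x, g⁆ ∈ Cfsg.fittingSubgroup G
        rw [commutatorElement_def]
        exact mul_mem (hn.conj_mem g hg x) (inv_mem hg)
      | succ j ihj =>
        rw [en_succ']
        exact Subgroup.commutator_mem_commutator ihj hg
    have := key c
    rwa [hc, Subgroup.mem_bot] at this
  · intro h
    exact mem_fitting_of_engel _ G rfl g fun x => (h x).imp fun n hn => (foldl_eq g n x).symm.trans hn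

end Cfsg.Agent.S3937
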