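import Cfsg.Statements.S3939
import Cfsg.Agent.Lib.Cores.PCore
import Mathlib.GroupTheory.Nilpotent
import Mathlib.RingTheory.Coprime.Lemmas

set_option autoImplicit false
open Cfsg

namespace Cfsg.Agent.S3939

open scoped commutatorElement

variable {H : Type*} [Group H]

theorem commute_of_coprime (H : Type*) [Group H] [Group.IsNilpotent H] :
    ∀ a b : H, Nat.Coprime (orderOf a) (orderOf b) → Commute a b := by
  refine Group.nilpotent_center_quotient_ind
    (P := fun K [Group K] _ => ∀ a b : K, Nat.Coprime (orderOf a) (orderOf b) → Commute a b) H ?_ ?_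
  · intro K _ _ a b _; exact Subsingleton.elim _ _
  · intro K _ _ ih a b hab
    set c := ⁅a, b⁆ with hc
    have hcz : c ∈ Subgroup.center K := by
      rw [← QuotientGroup.eq_one_iff, ← QuotientGroup.mk'_apply, hc, map_commutatorElement,
        commutatorElement_eq_one_iff_mul_comm]
      exact ih _ _ ((hab.coprime_dvd_left (orderOf_map_dvd _ a)).coprime_dvd_right (orderOf_map_dvd _ b))
    have hcc : ∀ y : K, Commute c y := fun y => (Subgroup.mem_center_iff.mp hcz y).symm
    have h1 : a * b * a⁻¹ = c * b := by rw [hc, commutatorElement_def, inv_mul_cancel_right]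
    have hb : c ^ orderOf b = 1 := by
      have h := congrArg (· ^ orderOf b) h1
      simp only [conj_pow, (hcc b).mul_pow, pow_orderOf_eq_one, mul_one, mul_inv_cancel] at h
      exact h.symm
    have h2 : ∀ m : ℕ, a ^ m * b * (a ^ m)⁻¹ = c ^ m * b := by
      intro m
      induction m with
      | zero => simp
      | succ m ihm =>
        calc a ^ (m + 1) * b * (a ^ (m + 1))⁻¹ = a * (a ^ m * b * (a ^ m)⁻¹) * a⁻¹ := by
              rw [pow_succ']; group
          _ = a * (c ^ m * b) * a⁻¹ := by rw [ihm]
          _ = c ^ m * (a * b * a⁻¹) := by rw [← mul_assoc, ← ((hcc a).pow_left m).eq]; group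
          _ = c ^ (m + 1) * b := by rw [h1, pow_succ, mul_assoc]
    have ha : c ^ orderOf a = 1 := by
      have h := h2 (orderOf a)
      rw [pow_orderOf_eq_one, one_mul, inv_one, mul_one] at h
      exact (mul_eq_right.mp h.symm)
    have : c = 1 := orderOf_eq_one_iff.mp (Nat.eq_one_of_dvd_coprimes hab
      (orderOf_dvd_of_pow_eq_one ha) (orderOf_dvd_of_pow_eq_one hb))
    exact commutatorElement_eq_one_iff_mul_comm.mp this

/-- A hypercentral element generates a nilpotent subgroup with any element. -/
theorem isNilpotent_closure_pair {n : ℕ} {g : H} (hg : g ∈ Subgroup.upperCentralSeries H n) (x : H) :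
    Group.IsNilpotent ↥(Subgroup.closure ({x, g} : Set H)) := by
  set K := Subgroup.closure ({x, g} : Set H)
  rw [Subgroup.isNilpotent_iff_lowerCentralSeries]
  have hK : K ≤ Subgroup.upperCentralSeries H n ⊔ Subgroup.zpowers x := by
    rw [Subgroup.closure_le]
    rintro y (rfl | rfl)
    · exact Subgroup.mem_sup_right (Subgroup.mem_zpowers _)
    · exact Subgroup.mem_sup_left hg
  have hd : ∀ j, j ≤ n → K.lowerCentralSeries (j + 1) ≤ Subgroup.upperCentralSeries H (n - j) := by
    intro j
    induction j with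
    | zero =>
      intro _
      have hN : (Subgroup.upperCentralSeries H n).Normal := inferInstance
      rw [Subgroup.lowerCentralSeries_succ, Subgroup.lowerCentralSeries_zero, Nat.sub_zero,
        Subgroup.commutator_le]
      intro a ha b hb
      rw [← QuotientGroup.eq_one_iff, ← QuotientGroup.mk'_apply, map_commutatorElement,
        commutatorElement_eq_one_iff_mul_comm]
      have key : ∀ y ∈ K, QuotientGroup.mk' (Subgroup.upperCentralSeries H n) y ∈
          Subgroup.zpowers (QuotientGroup.mk' (Subgroup.upperCentralSeries H n) x) := by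
        intro y hy
        have h1 := Subgroup.mem_map_of_mem (QuotientGroup.mk' (Subgroup.upperCentralSeries H n)) (hK hy)
        rwa [Subgroup.map_sup, (Subgroup.map_eq_bot_iff _).mpr (QuotientGroup.ker_mk' _).ge,
          bot_sup_eq, MonoidHom.map_zpowers] at h1
      obtain ⟨i, hi⟩ := Subgroup.mem_zpowers_iff.mp (key a ha)
      obtain ⟨k, hk⟩ := Subgroup.mem_zpowers_iff.mp (key b hb)
      rw [← hi, ← hk]
      exact (Commute.zpow_zpow_self _ i k).eq
    | succ j ih =>
      intro hj
      rw [Subgroup.lowerCentralSeries_succ, Subgroup.commutator_le]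
      intro a ha b _
      have h1 := ih (by omega) ha
      rw [show n - j = (n - (j + 1)) + 1 by omega, Subgroup.mem_upperCentralSeries_succ_iff] at h1
      exact h1 b
  refine ⟨n + 1, le_bot_iff.mp ?_⟩
  simpa [Subgroup.upperCentralSeries_zero] using hd n le_rfl

variable [Finite H]

theorem mem_hypercenter_of_pElement {p : ℕ} [Fact p.Prime] {g : H} {k : ℕ} (hg : g ^ p ^ k = 1)
    (h : ∀ x : H, ¬ p ∣ orderOf x → Commute g x) :
    ∃ n, g ∈ Subgroup.upperCentralSeries H n := by
  set L := Subgroup.closure {x : H | ¬ p ∣ orderOf x} with hL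
  have hLn : L.Normal := by
    have hle : ∀ a : H, L ≤ L.comap (MulAut.conj a).toMonoidHom := fun a =>
      (Subgroup.closure_le _).mpr fun x hx => Subgroup.subset_closure (show ¬ p ∣ orderOf (MulAut.conj a x) by
        rw [MulEquiv.orderOf_eq]; exact hx)
    exact ⟨fun x hx a => hle a hx⟩
  obtain ⟨S⟩ : Nonempty (Sylow p H) := inferInstance
  have hSL : ∀ y : H, ∃ s ∈ (S : Subgroup H), ∃ l ∈ L, y = s * l := by
    have htop : (S : Subgroup H) ⊔ L = ⊤ := by
      refine Subgroup.eq_top_of_le_card _ (Nat.le_of_dvd Nat.card_pos ?_)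
      rw [Nat.dvd_iff_prime_pow_dvd_dvd]
      intro q i hq hqi
      have := Fact.mk hq
      rcases Nat.eq_zero_or_pos i with rfl | hi
      · simp
      by_cases hqp : q = p
      · subst hqp
        exact (S.pow_dvd_card_of_pow_dvd_card hqi).trans (Subgroup.card_dvd_of_le le_sup_left)
      obtain ⟨K, hK⟩ := Sylow.exists_subgroup_card_pow_prime q hqi
      rw [← hK]
      refine Subgroup.card_dvd_of_le (le_trans ?_ le_sup_right)
      intro x hx
      refine Subgroup.subset_closure (show ¬ p ∣ orderOf x from fun hp => hqp ?_)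
      have hd : p ∣ q ^ i := hp.trans (hK ▸ Subgroup.orderOf_dvd_natCard K hx)
      exact ((Nat.prime_dvd_prime_iff_eq Fact.out hq).mp ((Fact.out : p.Prime).dvd_of_dvd_pow hd)).symm
    intro y
    have hy : y ∈ ((S : Subgroup H) ⊔ L : Subgroup H) := htop ▸ Subgroup.mem_top y
    obtain ⟨s, hs, l, hl, rfl⟩ := Subgroup.mem_sup_of_normal_right.mp hy
    exact ⟨s, hs, l, hl, rfl⟩
  set C := Subgroup.centralizer (L : Set H) with hC
  have hgC : g ∈ C := by
    rw [hC, hL, Subgroup.centralizer_closure]
    exact fun x hx => (h x hx).eq.symm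
  have : Group.IsNilpotent C := by
    let f : C →* H ⧸ L := (QuotientGroup.mk' L).comp C.subtype
    have hQ : IsPGroup p (H ⧸ L) := by
      intro y
      obtain ⟨y, rfl⟩ := QuotientGroup.mk'_surjective L y
      obtain ⟨s, hs, l, hl, rfl⟩ := hSL y
      obtain ⟨i, hi⟩ := S.2 ⟨s, hs⟩
      exact ⟨i, by
        rw [map_mul, show QuotientGroup.mk' L l = 1 from (QuotientGroup.eq_one_iff l).mpr hl, mul_one,
          ← map_pow, show s ^ p ^ i = 1 from congrArg Subtype.val hi, map_one]⟩
    have := (hQ.to_subgroup f.range).isNilpotent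
    refine Subgroup.isNilpotent_of_ker_le_center f.rangeRestrict ?_
    intro z hz
    rw [MonoidHom.ker_rangeRestrict, MonoidHom.mem_ker] at hz
    have hzL : (z : H) ∈ L := (QuotientGroup.eq_one_iff _).mp hz
    exact Subgroup.mem_center_iff.mpr fun w => Subtype.ext (w.2 (z : H) hzL).symm
  set R := (Cfsg.pCore p C).map C.subtype with hR
  have : R.Normal := ConjAct.normal_of_characteristic_of_normal
  have hgR : g ∈ R := by
    refine ⟨⟨g, hgC⟩, ?_, rfl⟩
    obtain ⟨Q, hQ⟩ :=
        ((show IsPGroup p (Subgroup.zpowers (⟨g, hgC⟩ : C)) from fun y => ⟨k, by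
          obtain ⟨j, hj⟩ := Subgroup.mem_zpowers_iff.mp y.2
          refine Subtype.ext ?_
          rw [SubmonoidClass.coe_pow, ← hj, ← zpow_natCast, ← zpow_mul, mul_comm, zpow_mul, zpow_natCast,
            show (⟨g, hgC⟩ : C) ^ p ^ k = 1 from Subtype.ext hg, one_zpow]
          rfl⟩).exists_le_sylow)
    exact Cfsg.Agent.Lib.Cores.le_pCore (Sylow.normal_of_normalizerCondition Group.normalizerCondition_of_isNilpotent Q) Q.2 (hQ (Subgroup.mem_zpowers _))
  have hRp : IsPGroup p R := (Cfsg.Agent.Lib.Cores.pCore_isPGroup p C).map _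
  have hRS : R ≤ S := by
    obtain ⟨Q, hQ⟩ := hRp.exists_le_sylow
    obtain ⟨a, rfl⟩ := MulAction.exists_smul_eq H Q S
    intro r hr
    rw [Sylow.coe_subgroup_smul]
    exact ⟨a⁻¹ * r * a, hQ (by simpa using ‹R.Normal›.conj_mem r hr a⁻¹), by simp [mul_assoc]⟩
  have hRC : ∀ r ∈ R, ∀ l ∈ L, Commute r l := fun r ⟨c, _, hc⟩ l hl => by
    subst hc; exact (c.2 l hl).symm
  have := S.2.isNilpotent
  obtain ⟨c, hc⟩ := (Subgroup.isNilpotent_iff_lowerCentralSeries (S : Subgroup H)).mp this
  have key : ∀ j, j ≤ c → ∀ r ∈ R, r ∈ (S : Subgroup H).lowerCentralSeries (c - j) →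
      r ∈ Subgroup.upperCentralSeries H j := by
    intro j
    induction j with
    | zero =>
      intro _ r _ hr
      rw [Nat.sub_zero, hc] at hr
      rw [Subgroup.mem_bot.mp hr]
      exact one_mem _
    | succ j ih =>
      intro hj r hrR hr
      rw [Subgroup.mem_upperCentralSeries_succ_iff]
      intro y
      obtain ⟨s, hs, l, hl, rfl⟩ := hSL y
      have he : ⁅r, s * l⁆ = ⁅r, s⁆ := by
        rw [commutatorElement_def, commutatorElement_def, mul_inv_rev]
        have := (hRC r⁻¹ (inv_mem hrR) l hl).eq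
        calc r * (s * l) * r⁻¹ * (l⁻¹ * s⁻¹) = r * s * (l * r⁻¹) * l⁻¹ * s⁻¹ := by group
          _ = r * s * (r⁻¹ * l) * l⁻¹ * s⁻¹ := by rw [this]
          _ = _ := by group
      rw [he]
      refine ih (by omega) _ ?_ ?_
      · rw [commutatorElement_def, mul_assoc r s, mul_assoc r]
        exact mul_mem hrR (‹R.Normal›.conj_mem _ (inv_mem hrR) s)
      · rw [show c - j = (c - (j + 1)) + 1 by omega, Subgroup.lowerCentralSeries_succ]
        exact Subgroup.commutator_mem_commutator hr hs
  exact ⟨c, key c le_rfl g hgR (by rw [Nat.sub_self]; exact hRS hgR)⟩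

theorem mem_hypercenter : ∀ (m : ℕ) (g : H), orderOf g ∣ m → m ≠ 0 →
    (∀ x : H, Group.IsNilpotent ↥(Subgroup.closure ({x, g} : Set H))) →
    g ∈ ⨆ n : ℕ, Subgroup.upperCentralSeries H n := by
  intro m
  induction m using Nat.recOnPrimeCoprime with
  | zero => intro g _ h; exact absurd rfl h
  | prime_pow p k hp =>
    intro g hg _ hnil
    have := Fact.mk hp
    obtain ⟨n, hn⟩ := mem_hypercenter_of_pElement (p := p) (k := k) (orderOf_dvd_iff_pow_eq_one.mp hg)
      (fun x hx => by
        have := hnil x
        set K := Subgroup.closure ({x, g} : Set H)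
        have := commute_of_coprime K ⟨g, Subgroup.subset_closure (Or.inr rfl)⟩
          ⟨x, Subgroup.subset_closure (Or.inl rfl)⟩ (by
            rw [Subgroup.orderOf_mk, Subgroup.orderOf_mk]
            exact Nat.Coprime.coprime_dvd_left hg
              ((hp.coprime_iff_not_dvd.mpr hx).pow_left k))
        exact congrArg Subtype.val this.eq)
    exact Subgroup.mem_iSup_of_mem n hn
  | coprime a b ha hb hab iha ihb =>
    intro g hg _ hnil
    have hp : ∀ j : ℕ, ∀ x : H, Group.IsNilpotent ↥(Subgroup.closure ({x, g ^ j} : Set H)) := fun j x => by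
      have := hnil x
      have hle : Subgroup.closure ({x, g ^ j} : Set H) ≤ Subgroup.closure ({x, g} : Set H) :=
        (Subgroup.closure_le _).mpr (by
          rintro y (rfl | rfl)
          · exact Subgroup.subset_closure (Or.inl rfl)
          · exact pow_mem (show g ∈ Subgroup.closure ({x, g} : Set H) from Subgroup.subset_closure (Or.inr rfl)) j)
      exact Group.nilpotent_of_mulEquiv (Subgroup.subgroupOfEquivOfLe hle)
    have h1 := iha (g ^ b) (orderOf_dvd_of_pow_eq_one (by
      rw [← pow_mul, mul_comm]; exact orderOf_dvd_iff_pow_eq_one.mp hg)) (by omega) (hp b)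
    have h2 := ihb (g ^ a) (orderOf_dvd_of_pow_eq_one (by
      rw [← pow_mul]; exact orderOf_dvd_iff_pow_eq_one.mp hg)) (by omega) (hp a)
    obtain ⟨u, v, huv⟩ := Nat.isCoprime_iff_coprime.mpr hab
    have : g = (g ^ b) ^ v * (g ^ a) ^ u := by
      rw [← zpow_natCast, ← zpow_natCast, ← zpow_mul, ← zpow_mul, ← zpow_add]
      rw [show (b : ℤ) * v + a * u = 1 by linarith, zpow_one]
    rw [this]
    exact mul_mem (zpow_mem h1 v) (zpow_mem h2 u)

/-- In a finite group G the set of elements g such that the subgroup generated by g and x is nilpotent for every x ∈ G is exactly the hypercenter of G (the last term of the upper central series). -/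
theorem result {G : Type*} [Group G] [Finite G] (g : G) :
    (∀ x : G, Group.IsNilpotent ↥(Subgroup.closure ({x, g} : Set G))) ↔ g ∈ ⨆ n : ℕ, Subgroup.upperCentralSeries G n := by
  refine ⟨mem_hypercenter (orderOf g) g dvd_rfl (orderOf_pos g).ne', fun hg x => ?_⟩
  obtain ⟨n, hn⟩ := (Subgroup.mem_iSup_of_directed
    (Monotone.directed_le (Subgroup.upperCentralSeries_mono G))).mp hg
  exact isNilpotent_closure_pair hn x

end Cfsg.Agent.S3939
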