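import Cfsg.Statements.S3941
import Cfsg.Prelude
import Mathlib.GroupTheory.SpecificGroups.Alternating.Simple

set_option autoImplicit false
open Cfsg

namespace Cfsg.Agent.S3941

/-- In a closed group every element of `p`-power order lies in the Sylow subgroup. -/
theorem mem_of_closed {H : Type*} [Group H] [Finite H] {p : ℕ} [Fact p.Prime] (P : Sylow p H)
    (hn : (P : Subgroup H).Normal) {a : H} (ha : IsPGroup p (Subgroup.zpowers a)) :
    a ∈ (P : Subgroup H) := by
  obtain ⟨Q, hQ⟩ := ha.exists_le_sylow
  obtain ⟨g, rfl⟩ := MulAction.exists_smul_eq H P Q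
  rw [Sylow.smul_eq_of_normal (h := hn)] at hQ
  exact hQ (Subgroup.mem_zpowers a)

/-- Alternating groups are not `p`-closed. -/
theorem not_closed_alternating (m p : ℕ) [Fact p.Prime] (hp : p ≠ 2) (hpm : p ≤ m) (hm : 4 ≤ m) :
    ¬ Cfsg.IsPClosed p (alternatingGroup (Fin m)) := by
  intro hc
  have hpp : p.Prime := Fact.out
  let P : Sylow p (alternatingGroup (Fin m)) := default
  have hn := hc P
  rcases eq_or_lt_of_le hm with rfl | hm5
  · have hp3 : p = 3 := by
      have := hpp.two_le
      interval_cases p <;> first | omega | norm_num at hpp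
    subst hp3
    let a : alternatingGroup (Fin 4) :=
      ⟨Equiv.swap 0 1 * Equiv.swap 1 2, Equiv.Perm.mem_alternatingGroup.mpr (by decide)⟩
    let b : alternatingGroup (Fin 4) :=
      ⟨Equiv.swap 1 2 * Equiv.swap 2 3, Equiv.Perm.mem_alternatingGroup.mpr (by decide)⟩
    have h3 : ∀ c : alternatingGroup (Fin 4), c ^ 3 = 1 → c ∈ (P : Subgroup _) := fun c hc =>
      mem_of_closed P hn (by
        rintro ⟨_, k, rfl⟩
        exact ⟨1, Subtype.ext (by
          show (c ^ k) ^ 3 ^ 1 = 1
          rw [pow_one, ← zpow_natCast (c ^ k) 3, ← zpow_mul, mul_comm, zpow_mul, zpow_natCast, hc,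
            one_zpow])⟩)
    have hab : a * b ∈ (P : Subgroup _) := mul_mem (h3 a (by decide)) (h3 b (by decide))
    obtain ⟨k, hk⟩ := P.2 ⟨a * b, hab⟩
    have hk' : (a * b) ^ 3 ^ k = 1 := congrArg Subtype.val hk
    have h2 : orderOf (a * b) ∣ 2 := orderOf_dvd_of_pow_eq_one (by decide)
    have h1 : orderOf (a * b) = 1 := Nat.eq_one_of_dvd_coprimes
      (Nat.Coprime.pow_right k (by norm_num)) h2 (orderOf_dvd_of_pow_eq_one hk')
    exact absurd (orderOf_eq_one_iff.mp h1) (by decide)
  · have : IsSimpleGroup (alternatingGroup (Fin m)) :=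
      alternatingGroup.isSimpleGroup (by rw [Nat.card_fin]; omega)
    have : Nontrivial (Fin m) := Fin.nontrivial_iff_two_le.mpr (by omega)
    have hcard : 2 * Nat.card (alternatingGroup (Fin m)) = m.factorial := by
      rw [two_mul_nat_card_alternatingGroup, Nat.card_perm, Nat.card_fin]
    rcases IsSimpleGroup.eq_bot_or_eq_top_of_normal (P : Subgroup (alternatingGroup (Fin m))) hn with h | h
    · have hdvd : p ∣ Nat.card (alternatingGroup (Fin m)) := by
        have h1 : p ∣ 2 * Nat.card (alternatingGroup (Fin m)) :=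
          hcard ▸ Nat.dvd_factorial hpp.pos hpm
        exact (hpp.dvd_mul.mp h1).resolve_left fun h2 =>
          hp ((Nat.prime_dvd_prime_iff_eq hpp Nat.prime_two).mp h2)
      have h1 := P.card_eq_multiplicity
      rw [h, Subgroup.card_bot] at h1
      exact absurd h1.symm
        (Nat.one_lt_pow (hpp.factorization_pos_of_dvd Nat.card_pos.ne' hdvd).ne' hpp.one_lt).ne'
    · obtain ⟨k, hk⟩ := P.2.exists_card_eq
      rw [h, Subgroup.card_top] at hk
      rw [hk] at hcard
      have h4 : 2 * 2 ∣ 2 * p ^ k := hcard ▸ Nat.dvd_factorial (by norm_num) hm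
      exact hp ((Nat.prime_dvd_prime_iff_eq Nat.prime_two hpp).mp
        (Nat.prime_two.dvd_of_dvd_pow (Nat.dvd_of_mul_dvd_mul_left (by norm_num) h4))).symm

/-- Let n ≥ 5 and p an odd prime with p ≤ n, and suppose that every proper subgroup of the alternating group of degree n whose order is divisible by p has a normal Sylow p-subgroup. Then n = p. -/
theorem result (n p : ℕ) (hn : 5 ≤ n) [Fact p.Prime] (hp : p ≠ 2) (hpn : p ≤ n)
    (h : ∀ H : Subgroup ↥(alternatingGroup (Fin n)), H ≠ ⊤ → p ∣ Nat.card ↥H → Cfsg.IsPClosed p ↥H) : n = p := by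
  by_contra hne
  obtain ⟨m, rfl⟩ := Nat.exists_eq_add_of_le' (show 1 ≤ n by omega)
  classical
  let e : Fin m ≃ {x : Fin (m + 1) // x ≠ Fin.last m} :=
    finSuccAboveEquiv (Fin.last m)
  let f : alternatingGroup (Fin m) →* alternatingGroup (Fin (m + 1)) :=
    ((Equiv.Perm.extendDomainHom e).comp (alternatingGroup (Fin m)).subtype).codRestrict _
      fun σ => Equiv.Perm.mem_alternatingGroup.mpr
        ((Equiv.Perm.sign_extendDomain _ e).trans (Equiv.Perm.mem_alternatingGroup.mp σ.2))
  have hf : Function.Injective f := fun a b hab =>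
    Subtype.ext (Equiv.Perm.extendDomainHom_injective e (congrArg Subtype.val hab))
  have : Nontrivial (Fin m) := Fin.nontrivial_iff_two_le.mpr (by omega)
  have : Nontrivial (Fin (m + 1)) := Fin.nontrivial_iff_two_le.mpr (by omega)
  have hcard : 2 * Nat.card (alternatingGroup (Fin m)) = m.factorial := by
    rw [two_mul_nat_card_alternatingGroup, Nat.card_perm, Nat.card_fin]
  have hcard' : 2 * Nat.card (alternatingGroup (Fin (m + 1))) = (m + 1).factorial := by
    rw [two_mul_nat_card_alternatingGroup, Nat.card_perm, Nat.card_fin]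
  let eH : alternatingGroup (Fin m) ≃* f.range := MonoidHom.ofInjective hf
  have hH : f.range ≠ ⊤ := fun ht => by
    have h1 := Nat.card_congr eH.toEquiv
    rw [ht, Subgroup.card_top] at h1
    rw [h1, hcard'] at hcard
    exact absurd hcard ((Nat.factorial_lt (show 0 < m by omega)).mpr (Nat.lt_succ_self m)).ne'
  have hpdvd : p ∣ Nat.card (alternatingGroup (Fin m)) := by
    have hpp : p.Prime := Fact.out
    have h1 : p ∣ 2 * Nat.card (alternatingGroup (Fin m)) :=
      hcard ▸ Nat.dvd_factorial hpp.pos (by omega)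
    exact (hpp.dvd_mul.mp h1).resolve_left fun h2 =>
      hp ((Nat.prime_dvd_prime_iff_eq hpp Nat.prime_two).mp h2)
  have hc := h f.range hH (Nat.card_congr eH.toEquiv ▸ hpdvd)
  refine not_closed_alternating m p hp (by omega) (by omega) fun P => ?_
  let P' : Sylow p f.range := P.mapSurjective (f := eH.toMonoidHom) eH.surjective
  have h1 : ((P : Subgroup _).map eH.toMonoidHom).comap eH.toMonoidHom = P :=
    Subgroup.comap_map_eq_self_of_injective eH.injective _
  rw [← h1]
  exact (hc P').comap _

end Cfsg.Agent.S3941
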