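import Cfsg.Statements.S3946
import Cfsg.Agent.Lib.PGroups.Hughes
import Mathlib.GroupTheory.SemidirectProduct

set_option autoImplicit false
open Cfsg

namespace Cfsg.Agent.S3946

/-- Call an automorphism α of order n of a group G splitting when x · α(x) · α²(x) ⋯ α^(n−1)(x) = 1 for every x ∈ G. A finite group admitting a splitting automorphism of prime order is nilpotent (this contains the case of a fixed-point-free automorphism of prime order). -/
theorem result {G : Type*} [Group G] [Finite G] (α : MulAut G) (hp : (orderOf α).Prime)
    (hsplit : ∀ x : G, (((List.range (orderOf α)).map (fun i : ℕ => (α ^ i) x)).prod = 1)) : Group.IsNilpotent G := by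
  classical
  set r := orderOf α with hr
  let φ : ↥(Subgroup.zpowers α) →* MulAut G := (Subgroup.zpowers α).subtype
  let X := G ⋊[φ] ↥(Subgroup.zpowers α)
  haveI : Finite X := Finite.of_equiv _ SemidirectProduct.equivProd.symm
  let α' : ↥(Subgroup.zpowers α) := ⟨α, Subgroup.mem_zpowers α⟩
  let a : X := SemidirectProduct.inr α'
  have hα' : orderOf α' = r := by rw [Subgroup.orderOf_mk]
  have hright : ∀ (g : G) (n : ℕ), ((SemidirectProduct.inl g * a) ^ n).right = α' ^ n := by
    intro g n
    rw [← SemidirectProduct.rightHom_eq_right, map_pow, map_mul]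
    simp [a]
  have hleft : ∀ (g : G) (n : ℕ), ((SemidirectProduct.inl g * a) ^ n).left =
      ((List.range n).map (fun i : ℕ => (α ^ i) g)).prod := by
    intro g n
    induction n with
    | zero => simp
    | succ n ih =>
      rw [pow_succ, SemidirectProduct.mul_left, ih, List.range_succ, List.map_append,
        List.prod_append, hright]
      have h1 : (SemidirectProduct.inl g * a).left = g := by
        show (SemidirectProduct.inl g : X).left *
          φ (SemidirectProduct.inl g : X).right (SemidirectProduct.inr α' : X).left = g
        simp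
      rw [h1]
      simp [α', φ]
  have hpow : ∀ g : G, (SemidirectProduct.inl g * a) ^ r = 1 := fun g => by
    apply SemidirectProduct.ext
    · rw [hleft, hsplit g]; rfl
    · rw [hright, ← hα', pow_orderOf_eq_one]; rfl
  set N : Subgroup X := (SemidirectProduct.rightHom (φ := φ)).ker with hN
  have hidx : N.index = r := by
    rw [hN, Subgroup.index_ker, MonoidHom.range_eq_top.mpr SemidirectProduct.rightHom_surjective,
      Subgroup.card_top, Nat.card_zpowers]
  have houts : ∀ x, x ∉ N → x ^ r = 1 := by
    intro x hx
    obtain ⟨i, hi⟩ : ∃ i : ℕ, α' ^ i = x.right := by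
      obtain ⟨i, hi⟩ := (isOfFinOrder_of_finite α).mem_powers_iff_mem_zpowers.mpr x.right.2
      exact ⟨i, Subtype.ext (by rw [SubmonoidClass.coe_pow]; exact hi)⟩
    have hir : i.Coprime r := Nat.Coprime.symm (hp.coprime_iff_not_dvd.mpr fun hd => hx (by
      rw [hN, MonoidHom.mem_ker, SemidirectProduct.rightHom_eq_right, ← hi,
        orderOf_dvd_iff_pow_eq_one.mp (hα'.symm ▸ hd)]))
    have hinj : Function.Injective fun g : G => ((SemidirectProduct.inl g * a) ^ i).left := by
      intro g h hgh
      have he : (SemidirectProduct.inl g * a) ^ i = (SemidirectProduct.inl h * a) ^ i :=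
        SemidirectProduct.ext hgh (by rw [hright, hright])
      obtain ⟨m, hm⟩ := exists_pow_eq_self_of_coprime (x := SemidirectProduct.inl g * a) (n := i)
        (hir.coprime_dvd_right (orderOf_dvd_of_pow_eq_one (hpow g)))
      obtain ⟨m', hm'⟩ : ∃ m', ∀ y : X, y ^ r = 1 → (y ^ i) ^ m' = y := by
        obtain ⟨m', hm'⟩ := Nat.exists_mul_mod_eq_one_of_coprime hir hp.one_lt
        exact ⟨m', fun y hy => by
          rw [← pow_mul, ← Nat.mod_add_div (i * m') r, pow_add, pow_mul, hy, one_pow, mul_one,
            hm'.2, pow_one]⟩
      have h1 : (SemidirectProduct.inl g * a : X) = SemidirectProduct.inl h * a := by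
        rw [← hm' _ (hpow g), ← hm' _ (hpow h), he]
      have h2 := mul_right_cancel h1
      exact SemidirectProduct.inl_injective h2
    obtain ⟨g, hg⟩ := (Finite.injective_iff_surjective.mp hinj) x.left
    have hx' : x = (SemidirectProduct.inl g * a) ^ i :=
      SemidirectProduct.ext hg.symm (by rw [hright, hi])
    rw [hx', ← pow_mul, Nat.mul_comm, pow_mul, hpow, one_pow]
  haveI := Cfsg.Agent.Lib.PGroups.Hughes.isNilpotent_of_index_prime hp N hidx houts
  let f : G →* N := SemidirectProduct.inl.codRestrict N fun g => by
    rw [hN, MonoidHom.mem_ker, SemidirectProduct.rightHom_inl]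
  have hf : Function.Injective f := fun g h hgh =>
    SemidirectProduct.inl_injective (congrArg Subtype.val hgh)
  exact Group.nilpotent_of_surjective (MonoidHom.ofInjective hf).symm.toMonoidHom
    (MonoidHom.ofInjective hf).symm.surjective

end Cfsg.Agent.S3946
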