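import Cfsg.Statements.S3949
import Mathlib.Data.Nat.Factorization.Basic

set_option autoImplicit false
open Cfsg

namespace Cfsg.Agent.S3949

/-- Let G be a finite group and α an automorphism of G of order 2 such that the elements g·α(g)⁻¹ generate G. Let j be a positive integer such that 2^j divides the order of no element inverted by α. Then the set of values of the j-th iterate of the map c ↦ c·α(c)⁻¹ is exactly the set of elements of odd order inverted by α. -/
theorem result {G : Type*} [Group G] [Finite G] (α : MulAut G) (hα : orderOf α = 2) (hG : Subgroup.closure (Set.range (fun c : G => c * (α c)⁻¹)) = ⊤)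
    (j : ℕ) (hj : ∀ g : G, α g = g⁻¹ → ¬ 2 ^ j ∣ orderOf g) :
    Set.range ((fun c : G => c * (α c)⁻¹)^[j]) = {g : G | Odd (orderOf g) ∧ α g = g⁻¹} := by
  set c : G → G := fun x => x * (α x)⁻¹ with hc
  have hα2 : ∀ x, α (α x) = x := by
    intro x
    have h : α ^ 2 = 1 := hα ▸ pow_orderOf_eq_one α
    have := DFunLike.congr_fun h x
    simpa [sq] using this
  have hinv : ∀ x, α (c x) = (c x)⁻¹ := by
    intro x
    simp [hc, hα2]
  have hsq : ∀ v, α v = v⁻¹ → c v = v * v := by
    intro v hv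
    simp [hc, hv]
  have hiter : ∀ k, ∀ v, α v = v⁻¹ → c^[k] v = v ^ 2 ^ k := by
    intro k
    induction k with
    | zero => simp
    | succ k ih =>
      intro v hv
      rw [Function.iterate_succ_apply', ih v hv]
      have h2 : α (v ^ 2 ^ k) = (v ^ 2 ^ k)⁻¹ := by rw [map_pow, hv, inv_pow]
      rw [hsq _ h2, pow_succ 2 k, pow_mul, pow_two]
  have hj0 : j ≠ 0 := by
    rintro rfl
    exact hj 1 (by simp) (by simp)
  obtain ⟨i, rfl⟩ := Nat.exists_eq_succ_of_ne_zero hj0
  ext g
  constructor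
  · rintro ⟨x, rfl⟩
    rw [Function.iterate_succ_apply, hiter i _ (hinv x)]
    refine ⟨?_, by rw [map_pow, hinv x, inv_pow]⟩
    rw [Nat.odd_iff, ← Nat.two_dvd_ne_zero]
    intro hd
    have hv := hj (c x) (hinv x)
    set o := orderOf (c x) with ho
    have ho0 : o ≠ 0 := (orderOf_pos _).ne'
    have hk : o.factorization 2 ≤ i := by
      by_contra h
      exact hv ((pow_dvd_pow 2 (by omega)).trans (Nat.ordProj_dvd o 2))
    have h1 : orderOf (c x ^ 2 ^ i) ∣ o / 2 ^ o.factorization 2 := by
      rw [orderOf_dvd_iff_pow_eq_one, ← pow_mul, ← orderOf_dvd_iff_pow_eq_one, ← ho]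
      calc o = 2 ^ o.factorization 2 * (o / 2 ^ o.factorization 2) :=
            (Nat.ordProj_mul_ordCompl_eq_self o 2).symm
        _ ∣ 2 ^ i * (o / 2 ^ o.factorization 2) := Nat.mul_dvd_mul_right (pow_dvd_pow 2 hk) _
    exact Nat.not_dvd_ordCompl Nat.prime_two ho0 (hd.trans h1)
  · rintro ⟨hodd, hg⟩
    have hcop : (2 ^ i.succ).Coprime (orderOf g) := (Nat.coprime_two_left.mpr hodd).pow_left _
    obtain ⟨m, hm⟩ := exists_pow_eq_self_of_coprime hcop
    refine ⟨g ^ m, ?_⟩
    have h2 : α (g ^ m) = (g ^ m)⁻¹ := by rw [map_pow, hg, inv_pow]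
    rw [hiter _ _ h2, ← pow_mul, mul_comm, pow_mul]
    exact hm

end Cfsg.Agent.S3949
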