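import Cfsg.Statements.S3950
import Cfsg.Agent.Lib.SchurMultiplier

set_option autoImplicit false
open Cfsg

namespace Cfsg.Agent.S3950

open Cfsg.Agent.Lib.SchurMultiplier

/-- A finite abelian group has trivial Schur multiplier if and only if it is cyclic. -/
theorem result {G : Type*} [CommGroup G] [Finite G] : Cfsg.HasCyclicSchurMultiplier G 1 ↔ IsCyclic G := by
  rw [hasCyclicSchurMultiplier_one_iff]
  constructor
  · intro h
    by_contra hcyc
    obtain ⟨p, hp, f, hf⟩ := exists_surjective_of_not_isCyclic hcyc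
    have : Fact p.Prime := ⟨hp⟩
    obtain ⟨m, hm, hd⟩ := exists_mem_mult_dvd_orderOf p f hf
    rw [h, Subgroup.mem_bot] at hm
    rw [hm, orderOf_one, Nat.dvd_one] at hd
    exact hp.ne_one hd
  · intro h
    exact mult_eq_bot_of_isCyclic

end Cfsg.Agent.S3950
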