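import Cfsg.Statements.S3951
import Cfsg.Agent.Lib.SchurMultiplier

set_option autoImplicit false
open Cfsg

namespace Cfsg.Agent.S3951

open Cfsg.Agent.Lib.SchurMultiplier

/-- For positive integers `m` and `n` with `n` dividing `m`, the Schur multiplier of the abelian group `ZMod m × ZMod n` (written multiplicatively) is cyclic of order `n`. In particular the elementary abelian group of order `p ^ 2` has multiplier of order `p`. -/
theorem result (m n : ℕ) [NeZero m] [NeZero n] (hnm : n ∣ m) : Cfsg.HasCyclicSchurMultiplier (Multiplicative (ZMod m × ZMod n)) n := by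
  set G := Multiplicative (ZMod m × ZMod n)
  let g : G := Multiplicative.ofAdd (1, 0)
  let h : G := Multiplicative.ofAdd (0, 1)
  have hgen : Subgroup.closure ({g, h} : Set G) = ⊤ := by
    rw [eq_top_iff]
    intro x _
    obtain ⟨⟨a, b⟩, rfl⟩ := (Multiplicative.ofAdd : ZMod m × ZMod n ≃ G).surjective x
    have e : (Multiplicative.ofAdd (a, b) : G) = g ^ a.val * h ^ b.val := by
      show (Multiplicative.ofAdd (a, b) : Multiplicative (ZMod m × ZMod n)) =
        Multiplicative.ofAdd ((1 : ZMod m), (0 : ZMod n)) ^ a.val *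
          Multiplicative.ofAdd ((0 : ZMod m), (1 : ZMod n)) ^ b.val
      apply Multiplicative.toAdd.injective
      rw [toAdd_mul, toAdd_pow, toAdd_pow, toAdd_ofAdd, toAdd_ofAdd, toAdd_ofAdd]
      ext <;> simp
    rw [e]
    exact mul_mem (pow_mem (Subgroup.subset_closure (by simp)) _)
      (pow_mem (Subgroup.subset_closure (by simp)) _)
  obtain ⟨c, hc, hmult, hpow⟩ := exists_generator_mult hgen
  have hoh : orderOf h ∣ n := by
    apply orderOf_dvd_of_pow_eq_one
    show (Multiplicative.ofAdd ((0 : ZMod m), (1 : ZMod n))) ^ n = 1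
    apply Multiplicative.toAdd.injective
    rw [toAdd_pow, toAdd_ofAdd, toAdd_one]
    ext <;> simp
  have hcn : orderOf c ∣ n := (orderOf_dvd_of_pow_eq_one hpow).trans hoh
  let f : G →* Multiplicative (ZMod n × ZMod n) :=
    { toFun := fun x => Multiplicative.ofAdd (ZMod.castHom hnm (ZMod n) x.toAdd.1, x.toAdd.2)
      map_one' := by simp
      map_mul' := fun a b => by
        rw [← ofAdd_add, toAdd_mul, Prod.fst_add, Prod.snd_add, map_add, Prod.mk_add_mk] }
  have hf : Function.Surjective f := fun t => by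
    obtain ⟨a, ha⟩ := ZMod.castHom_surjective hnm t.toAdd.1
    exact ⟨Multiplicative.ofAdd (a, t.toAdd.2), by
      simp only [f, MonoidHom.coe_mk, OneHom.coe_mk, toAdd_ofAdd, ha, Prod.mk.eta, ofAdd_toAdd]⟩
  obtain ⟨x, hx, hd⟩ := exists_mem_mult_dvd_orderOf n f hf
  rw [hmult] at hx
  have hdc : n ∣ orderOf c := hd.trans (orderOf_dvd_of_mem_zpowers hx)
  refine (hasCyclicSchurMultiplier_iff n).mpr ⟨?_, ?_⟩
  · rw [hmult]; infer_instance
  · rw [hmult, Nat.card_zpowers]
    exact Nat.dvd_antisymm hcn hdc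

end Cfsg.Agent.S3951
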