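import Cfsg.Statements.S3952
import Cfsg.Agent.Lib.SchurMultiplier
import Cfsg.Agent.Lib.Characters

set_option autoImplicit false
open Cfsg

namespace Cfsg.Agent.S3952

open scoped ComplexConjugate

universe u

theorem dvd_of_mem_center_commutator {S : Type u} [Group S] [Finite S] {p : ℕ} [hp : Fact p.Prime]
    (hS : IsPGroup p S) {a : S} (ha : a ∈ Subgroup.center S) (ha' : a ∈ commutator S) :
    orderOf a ^ 2 ∣ (Subgroup.center S).index := by
  classical
  have := Fintype.ofFinite S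
  have := Fintype.ofFinite (Cfsg.IrrCharacter S)
  obtain ⟨m, hm⟩ := hS a
  obtain ⟨k, -, hk⟩ := (Nat.dvd_prime_pow hp.out).mp (orderOf_dvd_of_pow_eq_one hm)
  rcases Nat.eq_zero_or_pos k with rfl | hk0
  · rw [hk]; simp
  set b := a ^ p ^ (k - 1) with hb
  have hb1 : b ≠ 1 := fun h => by
    have h1 := Nat.le_of_dvd (pow_pos hp.out.pos _) (orderOf_dvd_of_pow_eq_one h)
    rw [hk] at h1
    exact absurd ((Nat.pow_le_pow_iff_right hp.out.one_lt).mp h1) (by omega)
  obtain ⟨χ, hχ⟩ : ∃ χ : Cfsg.IrrCharacter S, (χ : S → ℂ) b ≠ (χ : S → ℂ) 1 := by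
    by_contra hall
    push Not at hall
    have h := Cfsg.Agent.Lib.Characters.sum_irr_mul_conj b (1 : S)
    rw [if_neg (fun h' => hb1 (isConj_one_left.mp h'))] at h
    have h2 := Cfsg.Agent.Lib.Characters.sum_degree_sq (G := S)
    have h3 : ∀ χ : Cfsg.IrrCharacter S, (χ : S → ℂ) b * conj ((χ : S → ℂ) 1) = (χ : S → ℂ) 1 ^ 2 := by
      intro χ
      obtain ⟨n, -, hn⟩ := Cfsg.Agent.Lib.Characters.IsIrrCharacter.exists_apply_one χ.2
      rw [hall χ, hn, map_natCast]; ring
    rw [Finset.sum_congr rfl fun χ _ => h3 χ, h2] at h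
    exact Nat.card_pos.ne' (Nat.cast_eq_zero.mp h)
  obtain ⟨d, ρ, hρ, hρχ⟩ := χ.2
  have hcomm : ∀ z ∈ Subgroup.center S, ∀ g, ρ z * ρ g = ρ g * ρ z := fun z hz g => by
    rw [← map_mul, ← map_mul, Subgroup.mem_center_iff.mp hz g]
  obtain ⟨c, hc⟩ := Cfsg.Agent.Lib.Characters.exists_smul_of_commute ρ (ρ a) (hcomm a ha)
  rw [← Module.End.one_eq_id] at hc
  have hdet : c ^ d = 1 := by
    let D : S →* ℂ := (LinearMap.det : ((Fin d → ℂ) →ₗ[ℂ] (Fin d → ℂ)) →* ℂ).comp ρ
    let D' : S →* ℂˣ := D.toHomUnits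
    have h1 : D' a = 1 := (Abelianization.commutator_subset_ker D') ha'
    have h2 : D a = 1 := congrArg Units.val h1
    have h3 : D a = c ^ d := by
      show LinearMap.det (ρ a) = c ^ d
      rw [hc, LinearMap.det_smul, Module.finrank_fin_fun, map_one, mul_one]
    rw [← h3, h2]
  have hce : orderOf c = p ^ k := by
    obtain ⟨j, hj⟩ : ∃ j, k = j + 1 := ⟨k - 1, by omega⟩
    rw [hj]
    refine orderOf_eq_prime_pow (fun h => hχ ?_) ?_
    · rw [← hρχ]
      have : ρ b = ρ 1 := by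
        rw [hb, map_pow, hc, smul_pow, one_pow, show k - 1 = j by omega, h, one_smul, map_one]
      show LinearMap.trace ℂ _ (ρ b) = LinearMap.trace ℂ _ (ρ 1)
      rw [this]
    · have h1 : (ρ a) ^ p ^ (j + 1) = 1 := by rw [← map_pow, ← hj, ← hk, pow_orderOf_eq_one, map_one]
      rw [hc, smul_pow, one_pow] at h1
      have hd0 : 0 < d := by
        by_contra hd
        have hsub : Subsingleton (Fin d → ℂ) := by
          rw [show d = 0 by omega]; infer_instance
        have := Cfsg.Agent.Lib.Characters.nontrivial_of_isIrreducible ρ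
        exact not_subsingleton _ hsub
      have h2 := congrFun (LinearMap.congr_fun h1 (fun _ => 1)) ⟨0, hd0⟩
      simpa using h2
  have hdvd : p ^ k ∣ d := hce ▸ orderOf_dvd_of_pow_eq_one hdet
  have hd0 : d ≠ 0 := by
    rintro rfl
    have := Cfsg.Agent.Lib.Characters.nontrivial_of_isIrreducible ρ
    exact not_subsingleton (Fin 0 → ℂ) inferInstance
  -- `d² ≤ [S : Z(S)]`
  have hsq : d ^ 2 * Nat.card (Subgroup.center S) ≤ Nat.card S := by
    have h1 := Cfsg.Agent.Lib.Characters.IsIrrCharacter.classInner_self χ.2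
    rw [Cfsg.classInner, inv_mul_eq_one₀ (Nat.cast_ne_zero.mpr Nat.card_pos.ne'), ← hρχ] at h1
    have h2 : (Nat.card S : ℝ) = ∑ g : S, ‖ρ.character g‖ ^ 2 := by
      apply Complex.ofReal_injective
      push_cast
      rw [h1]
      exact Finset.sum_congr rfl fun g _ => by rw [Complex.mul_conj']
    have h3 : (Finset.univ.filter fun g => g ∈ Subgroup.center S).sum (fun g => ‖ρ.character g‖ ^ 2) ≤
        ∑ g : S, ‖ρ.character g‖ ^ 2 :=
      Finset.sum_le_sum_of_subset_of_nonneg (Finset.subset_univ _) (fun _ _ _ => sq_nonneg _)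
    rw [← h2, Finset.sum_congr rfl (fun g hg => by
      obtain ⟨c', hc'⟩ := Cfsg.Agent.Lib.Characters.exists_smul_of_commute ρ (ρ g)
        (hcomm g (by simpa using hg))
      rw [(Cfsg.Agent.Lib.Characters.norm_char_eq_iff ρ g).mpr ⟨c', hc'⟩] :
        ∀ g ∈ (Finset.univ.filter fun g => g ∈ Subgroup.center S),
          ‖ρ.character g‖ ^ 2 = ((Module.finrank ℂ (Fin d → ℂ) : ℕ) : ℝ) ^ 2),
      Finset.sum_const, Module.finrank_fin_fun, nsmul_eq_mul, ← Fintype.card_subtype,
      Fintype.card_eq_nat_card] at h3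
    rw [mul_comm]
    exact_mod_cast h3
  obtain ⟨i, hi⟩ := hS.index (Subgroup.center S)
  have h4 : (p ^ k) ^ 2 ≤ p ^ i := by
    refine le_trans (Nat.pow_le_pow_left (Nat.le_of_dvd (Nat.pos_of_ne_zero hd0) hdvd) 2) ?_
    rw [← hi]
    refine Nat.le_of_mul_le_mul_right ?_ (Nat.card_pos : 0 < Nat.card (Subgroup.center S))
    rw [Subgroup.index_mul_card]
    exact hsq
  rw [hk, hi, ← pow_mul]
  rw [← pow_mul] at h4
  exact pow_dvd_pow p ((Nat.pow_le_pow_iff_right hp.out.one_lt).mp h4)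

/-- If `A` is the Schur multiplier of the finite group `Q`, then the square of the exponent of `A` divides the order of `Q`. -/
theorem result {Q : Type*} [Group Q] [Finite Q] {A : Type*} [CommGroup A] (hA : Cfsg.HasSchurMultiplier Q A) : Monoid.exponent A ^ 2 ∣ Nat.card Q := by
  obtain ⟨⟨Γ, iG, iF, σ, ⟨hs, hc, hc'⟩, ⟨e⟩⟩, -⟩ := hA
  have : Finite A := Finite.of_equiv _ e.toEquiv
  rw [Nat.dvd_iff_prime_pow_dvd_dvd]
  intro p j hp hj
  have := Fact.mk hp
  set k := (Monoid.exponent A).factorization p with hk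
  have hjk : j ≤ 2 * k := by
    have h1 := (hp.pow_dvd_iff_le_factorization (pow_ne_zero 2 Monoid.exponent_ne_zero_of_finite)).mp hj
    rw [Nat.factorization_pow, Finsupp.smul_apply, smul_eq_mul] at h1
    exact h1
  obtain ⟨x, hx⟩ := hp.exists_orderOf_eq_pow_factorization_exponent A
  set a : Γ := (e.symm x : Γ) with ha
  have hao : orderOf a = p ^ k := by
    rw [ha, Subgroup.orderOf_coe, MulEquiv.orderOf_eq, hx]
  have hak : a ∈ σ.ker := (e.symm x).2
  have haz := hc hak
  obtain ⟨S⟩ : Nonempty (Sylow p Γ) := inferInstance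
  have haS : a ∈ (S : Subgroup Γ) := by
    have hp' : IsPGroup p (Subgroup.zpowers a) := IsPGroup.of_card (n := k) (by rw [Nat.card_zpowers, hao])
    have hn : (Subgroup.zpowers a).Normal :=
      Cfsg.Agent.Lib.SchurMultiplier.normal_of_le_center (Subgroup.zpowers_le.mpr haz)
    exact hp'.le_sylow_of_normal S (Subgroup.mem_zpowers a)
  have haS' : (⟨a, haS⟩ : (S : Subgroup Γ)) ∈ commutator ↥(S : Subgroup Γ) := by
    let δ : (S : Subgroup Γ) →* Abelianization ↥(S : Subgroup Γ) := Abelianization.of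
    let τ : Γ →* Abelianization ↥(S : Subgroup Γ) := MonoidHom.transfer δ
    have hτ : τ a = 1 := (Abelianization.commutator_subset_ker τ) (hc' hak)
    have key : ∀ (i : ℕ) (g₀ : Γ), g₀⁻¹ * a ^ i * g₀ ∈ (S : Subgroup Γ) →
        g₀⁻¹ * a ^ i * g₀ = a ^ i := fun i g₀ _ => by
      rw [mul_assoc, ← Subgroup.mem_center_iff.mp (pow_mem haz i) g₀, inv_mul_cancel_left]
    rw [show τ a = _ from MonoidHom.transfer_eq_pow δ a key] at hτ
    have e1 : (⟨a ^ (S : Subgroup Γ).index, MonoidHom.transfer_eq_pow_aux a key⟩ : (S : Subgroup Γ)) =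
        (⟨a, haS⟩ : (S : Subgroup Γ)) ^ (S : Subgroup Γ).index := Subtype.ext (by simp)
    rw [e1, map_pow] at hτ
    rw [← Abelianization.ker_of, MonoidHom.mem_ker]
    refine orderOf_eq_one_iff.mp (Nat.eq_one_of_dvd_coprimes
      ((hp.coprime_iff_not_dvd.mpr S.not_dvd_index).pow_left k) ?_ (orderOf_dvd_of_pow_eq_one hτ))
    exact (orderOf_map_dvd δ _).trans (by rw [Subgroup.orderOf_mk, hao])
  have haZ : (⟨a, haS⟩ : (S : Subgroup Γ)) ∈ Subgroup.center ↥(S : Subgroup Γ) :=
    Subgroup.mem_center_iff.mpr fun g => Subtype.ext (Subgroup.mem_center_iff.mp haz g)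
  have h1 := dvd_of_mem_center_commutator S.2 haZ haS'
  rw [Subgroup.orderOf_mk, hao, ← pow_mul] at h1
  refine (pow_dvd_pow p (by omega : j ≤ k * 2)).trans (h1.trans ?_)
  let f : (S : Subgroup Γ) →* Q := σ.comp (S : Subgroup Γ).subtype
  have hker : f.ker ≤ Subgroup.center ↥(S : Subgroup Γ) := fun z hz =>
    Subgroup.mem_center_iff.mpr fun g => Subtype.ext (Subgroup.mem_center_iff.mp (hc hz) g)
  refine (Subgroup.index_dvd_of_le hker).trans ?_
  rw [Subgroup.index_ker]
  exact Subgroup.card_subgroup_dvd_card _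

end Cfsg.Agent.S3952
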