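import Cfsg.Statements.S3953
import Cfsg.Agent.Lib.SchurMultiplier.Corestriction

set_option autoImplicit false
open Cfsg

namespace Cfsg.Agent.S3953

/-- Let `P` be a Sylow `p`-subgroup of the finite group `G`, let `A` be the Schur multiplier of `G` and `B` that of `P`. Then the `p`-primary component of `A` is isomorphic to a direct factor of `B`: there are subgroups `C` and `D` of `B` meeting trivially and generating `B`, with `C` isomorphic to the `p`-primary component of `A`. -/
theorem result {G : Type*} [Group G] [Finite G] (p : ℕ) [Fact p.Prime] (P : Sylow p G) {A B : Type*} [CommGroup A] [CommGroup B] (hA : Cfsg.HasSchurMultiplier G A) (hB : Cfsg.HasSchurMultiplier P B) : ∃ C D : Subgroup B, C ⊓ D = ⊥ ∧ C ⊔ D = ⊤ ∧ Nonempty (CommGroup.primaryComponent A p ≃* C) := by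
  have hp : p.Prime := Fact.out
  obtain ⟨eA⟩ := Cfsg.Agent.Lib.SchurMultiplier.nonempty_mulEquiv_mult hA
  obtain ⟨eB⟩ := Cfsg.Agent.Lib.SchurMultiplier.nonempty_mulEquiv_mult hB
  obtain ⟨f, g, hfg⟩ := Cfsg.Agent.Lib.SchurMultiplier.exists_res_cores (G := G) (P : Subgroup G)
  haveI : Finite A := Finite.of_equiv _ eA.symm.toEquiv
  let F : B →* A := eA.symm.toMonoidHom.comp (f.comp eB.toMonoidHom)
  let Gm : A →* B := eB.symm.toMonoidHom.comp (g.comp eA.toMonoidHom)
  set n := (P : Subgroup G).index with hn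
  have hFG : ∀ a, F (Gm a) = a ^ n := fun a => by
    have h1 : eA.symm (f (eB (eB.symm (g (eA a))))) = a ^ n := by
      rw [MulEquiv.apply_symm_apply, hfg, map_pow, MulEquiv.symm_apply_apply]
    exact h1
  set k := (Nat.card A).factorization p with hk
  set m := Nat.card A / p ^ k with hm
  have hcard : p ^ k * m = Nat.card A := Nat.ordProj_mul_ordCompl_eq_self _ _
  have hmp : ¬ p ∣ m := Nat.not_dvd_ordCompl hp Nat.card_pos.ne'
  have hnp : ¬ p ∣ n := P.not_dvd_index
  have hcop : (n * m).Coprime (p ^ k) :=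
    Nat.Coprime.pow_right _ (Nat.Coprime.symm ((hp.coprime_iff_not_dvd).mpr
      fun h => (hp.dvd_mul.mp h).elim hnp hmp))
  have hinj : ∀ a : A, a ∈ CommGroup.primaryComponent A p → a ^ (n * m) = 1 → a = 1 := by
    intro a ha h
    obtain ⟨j, hj⟩ := ha
    rw [← orderOf_eq_one_iff]
    refine Nat.eq_one_of_dvd_coprimes ?_ (orderOf_dvd_of_pow_eq_one h) (orderOf_dvd_of_pow_eq_one hj)
    exact Nat.Coprime.pow_right _ (Nat.Coprime.symm ((hp.coprime_iff_not_dvd).mpr
      fun h => (hp.dvd_mul.mp h).elim hnp hmp))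
  let r : B →* A := (powMonoidHom m).comp F
  let C : Subgroup B := (CommGroup.primaryComponent A p).map Gm
  refine ⟨C, r.ker, ?_, ?_, ?_⟩
  · rw [eq_bot_iff]
    rintro b ⟨hbC, hbD⟩
    obtain ⟨a, ha, rfl⟩ := hbC
    have h1 : (F (Gm a)) ^ m = 1 := hbD
    rw [hFG, ← pow_mul] at h1
    rw [Subgroup.mem_bot, hinj a ha h1, map_one]
  · rw [eq_top_iff]
    intro b _
    have hpk : (r b) ^ p ^ k = 1 := by
      show (F b ^ m) ^ p ^ k = 1
      rw [← pow_mul, mul_comm, hcard, pow_card_eq_one']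
    obtain ⟨v, hv⟩ : ∃ v, (r b) ^ (v * (n * m)) = r b := by
      obtain ⟨e, he⟩ := exists_pow_eq_self_of_coprime (x := r b) (n := n * m)
        (Nat.Coprime.coprime_dvd_right (orderOf_dvd_of_pow_eq_one hpk) hcop)
      exact ⟨e, by rw [mul_comm, pow_mul]; exact he⟩
    have hrb : r b ∈ CommGroup.primaryComponent A p := ⟨k, hpk⟩
    have hC : Gm ((r b) ^ v) ∈ C := Subgroup.mem_map_of_mem Gm
      (Subgroup.pow_mem _ hrb v)
    have hD : (Gm ((r b) ^ v))⁻¹ * b ∈ r.ker := by
      rw [MonoidHom.mem_ker, map_mul, map_inv, inv_mul_eq_one]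
      show (F (Gm ((r b) ^ v))) ^ m = r b
      rw [hFG, ← pow_mul, ← pow_mul, hv]
    have h2 := Subgroup.mul_mem_sup hC hD
    rwa [mul_inv_cancel_left] at h2
  · let γ : CommGroup.primaryComponent A p →* C :=
      (Gm.comp (CommGroup.primaryComponent A p).subtype).codRestrict C
        fun a => Subgroup.mem_map_of_mem Gm a.2
    refine ⟨MulEquiv.ofBijective γ ⟨?_, ?_⟩⟩
    · rw [injective_iff_map_eq_one]
      intro a ha
      have h1 : Gm (a : A) = 1 := congrArg Subtype.val ha
      have h2 := hFG (a : A)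
      rw [h1, map_one] at h2
      exact Subtype.ext (hinj a a.2 (by rw [pow_mul, ← h2, one_pow]))
    · rintro ⟨b, a, ha, rfl⟩
      exact ⟨⟨a, ha⟩, rfl⟩

end Cfsg.Agent.S3953
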