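import Cfsg.Statements.S3954
import Cfsg.Agent.Lib.SchurMultiplier
import Mathlib.GroupTheory.FiniteAbelian.Duality
import Mathlib.RingTheory.RootsOfUnity.AlgebraicallyClosed
import Mathlib.Analysis.Complex.Polynomial.Basic
import Mathlib.GroupTheory.Transfer

set_option autoImplicit false
open Cfsg

namespace Cfsg.Agent.S3954

open Cfsg.Agent.Lib.SchurMultiplier

/-- A quotient of a finite abelian group embeds into it. -/
theorem exists_injective_of_quotient {B : Type*} [CommGroup B] [Finite B] (K : Subgroup B) :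
    ∃ f : B ⧸ K →* B, Function.Injective f := by
  have : NeZero (Monoid.exponent B) := ⟨Monoid.exponent_ne_zero_of_finite⟩
  have h1 : HasEnoughRootsOfUnity ℂ (Monoid.exponent B) := inferInstance
  have h2 : HasEnoughRootsOfUnity ℂ (Monoid.exponent (B ⧸ K)) :=
    HasEnoughRootsOfUnity.of_dvd ℂ (Group.exponent_quotient_dvd K)
  obtain ⟨e1⟩ := CommGroup.monoidHom_mulEquiv_of_hasEnoughRootsOfUnity (B ⧸ K) ℂ
  obtain ⟨e2⟩ := CommGroup.monoidHom_mulEquiv_of_hasEnoughRootsOfUnity B ℂ
  let r : ((B ⧸ K) →* ℂˣ) →* (B →* ℂˣ) :=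
    { toFun := fun φ => φ.comp (QuotientGroup.mk' K)
      map_one' := rfl
      map_mul' := fun _ _ => rfl }
  refine ⟨e2.toMonoidHom.comp (r.comp e1.symm.toMonoidHom), ?_⟩
  have hr : Function.Injective r := fun a b h =>
    (MonoidHom.cancel_right (QuotientGroup.mk'_surjective K)).mp h
  exact e2.injective.comp (hr.comp e1.symm.injective)

/-- A subgroup of a homomorphic image of a finite abelian group embeds into it. -/
theorem exists_injective_of_le_range {B X C : Type*} [CommGroup B] [Finite B] [Group X] [Group C]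
    (φ : B →* X) (ι : C →* X) (hι : Function.Injective ι) (h : ι.range ≤ φ.range) :
    ∃ f : C →* B, Function.Injective f := by
  obtain ⟨g, hg⟩ := exists_injective_of_quotient φ.ker
  let t : C →* φ.range := (Subgroup.inclusion h).comp ι.rangeRestrict
  refine ⟨g.comp ((QuotientGroup.quotientKerEquivRange φ).symm.toMonoidHom.comp t),
    hg.comp ((QuotientGroup.quotientKerEquivRange φ).symm.injective.comp ?_)⟩
  exact (Subgroup.inclusion_injective h).comp (MonoidHom.rangeRestrict_injective_iff.mpr hι)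

/-- Let `U` be a subgroup of index `m` in the finite group `G`, let `A` be the Schur multiplier of `G` and `B` that of `U`. Then the subgroup of `m`-th powers of `A` is isomorphic to a subgroup of `B`. -/
theorem result {G : Type*} [Group G] [Finite G] (U : Subgroup G) {A B : Type*} [CommGroup A] [CommGroup B] (hA : Cfsg.HasSchurMultiplier G A) (hB : Cfsg.HasSchurMultiplier U B) : ∃ C : Subgroup B, Nonempty ((powMonoidHom U.index : A →* A).range ≃* C) := by
  obtain ⟨eA⟩ := nonempty_mulEquiv_mult hA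
  obtain ⟨eB⟩ := nonempty_mulEquiv_mult hB
  obtain ⟨Γ, _, _, σ, -, hσ, ⟨eσ⟩, -, -⟩ := exists_cover G
  let ι : A →* Γ := σ.ker.subtype.comp (eA.trans eσ.symm).toMonoidHom
  have hι : Function.Injective ι :=
    σ.ker.subtype_injective.comp (eA.trans eσ.symm).injective
  have hmem : ∀ a, ι a ∈ σ.ker := fun a => ((eA.trans eσ.symm) a).2
  let V : Subgroup Γ := U.comap σ
  let σU : V →* U := (σ.comp V.subtype).codRestrict U fun v => v.2
  have hσU : Function.Surjective σU := fun u => by
    obtain ⟨x, hx⟩ := hσ.1 u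
    exact ⟨⟨x, show σ x ∈ U by rw [hx]; exact u.2⟩, Subtype.ext hx⟩
  have hker : ∀ v : V, v ∈ σU.ker ↔ (v : Γ) ∈ σ.ker := fun v => by
    rw [MonoidHom.mem_ker, MonoidHom.mem_ker, Subtype.ext_iff]
    rfl
  have hc : σU.ker ≤ Subgroup.center V := fun v hv => Subgroup.mem_center_iff.mpr fun w =>
    Subtype.ext (Subgroup.mem_center_iff.mp (hσ.2.1 ((hker v).mp hv)) w)
  obtain ⟨β, hβ⟩ := exists_lift σU hσU hc (MonoidHom.id U)
  rw [MonoidHom.id_comp] at hβ
  let φ : mult U →* Γ := V.subtype.comp (β.comp (mult U).subtype)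
  have key : ∀ a, ι (a ^ U.index) ∈ φ.range := fun a => by
    have hz : ∀ g, g * ι a = ι a * g := Subgroup.mem_center_iff.mp (hσ.2.1 (hmem a))
    have h0 : ∀ (k : ℕ) (g₀ : Γ), g₀⁻¹ * ι a ^ k * g₀ ∈ V → g₀⁻¹ * ι a ^ k * g₀ = ι a ^ k :=
      fun k g₀ _ => by
        rw [mul_assoc, ← (Commute.pow_right (hz g₀) k).eq, inv_mul_cancel_left]
    have h1 : MonoidHom.transfer (Abelianization.of (G := V)) (ι a) = 1 :=
      MonoidHom.mem_ker.mp (Abelianization.commutator_subset_ker _ (hσ.2.2 (hmem a)))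
    rw [MonoidHom.transfer_eq_pow _ _ h0] at h1
    have hV : V.index = U.index := U.index_comap_of_surjective hσ.1
    have h2 : (⟨ι a ^ V.index, MonoidHom.transfer_eq_pow_aux (ι a) h0⟩ : V) ∈
        σU.ker ⊓ commutator V := Subgroup.mem_inf.mpr
      ⟨(hker _).mpr (pow_mem (hmem a) _), by rw [← Abelianization.ker_of]; exact h1⟩
    rw [← map_mult hc hβ] at h2
    obtain ⟨m, hm, he⟩ := h2
    refine ⟨⟨m, hm⟩, ?_⟩
    show ((β m : V) : Γ) = ι (a ^ U.index)
    rw [he, map_pow, ← hV]
  obtain ⟨f, hf⟩ := exists_injective_of_le_range φ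
    (ι.comp (powMonoidHom U.index : A →* A).range.subtype)
    (hι.comp (Subgroup.subtype_injective _)) (by
      rintro _ ⟨⟨_, a, rfl⟩, rfl⟩
      exact key a)
  exact ⟨_, ⟨MonoidHom.ofInjective (f := eB.symm.toMonoidHom.comp f)
    (eB.symm.injective.comp hf)⟩⟩

end Cfsg.Agent.S3954
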