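import Cfsg.Statements.S3956
import Cfsg.Agent.Lib.SchurMultiplier
import Mathlib.GroupTheory.FiniteAbelian.Duality
import Mathlib.RingTheory.RootsOfUnity.AlgebraicallyClosed
import Mathlib.Analysis.Complex.Polynomial.Basic
import Mathlib.LinearAlgebra.Matrix.GeneralLinearGroup.Basic

set_option autoImplicit false
universe u v
open Cfsg

namespace Cfsg.Agent.S3956

open Cfsg.Agent.Lib.SchurMultiplier
open scoped commutatorElement

/-- Two maps into a group which agree modulo a central kernel agree on commutators. -/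
theorem eqOn_commutator_of_comp_eq {E X P : Type*} [Group E] [Group X] [Group P] {ξ : X →* P}
    (hc : ξ.ker ≤ Subgroup.center X) {f g : E →* X} (h : ξ.comp f = ξ.comp g) {e : E}
    (he : e ∈ commutator E) : f e = g e := by
  suffices commutator E ≤ f.eqLocus g from this he
  rw [commutator_def, Subgroup.commutator_le]
  intro a _ b _
  have key : ∀ x, ∃ z ∈ Subgroup.center X, g x = f x * z := fun x => ⟨(f x)⁻¹ * g x, hc (by
    rw [MonoidHom.mem_ker, map_mul, map_inv, ← MonoidHom.comp_apply, ← MonoidHom.comp_apply, h,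
      inv_mul_cancel]), by simp⟩
  obtain ⟨z, hz, ha⟩ := key a
  obtain ⟨z', hz', hb⟩ := key b
  rw [Subgroup.mem_center_iff] at hz hz'
  show f ⁅a, b⁆ = g ⁅a, b⁆
  rw [map_commutatorElement, map_commutatorElement, ha, hb]
  simp only [commutatorElement_def, mul_inv_rev]
  symm
  calc f a * z * (f b * z') * (z⁻¹ * (f a)⁻¹) * (z'⁻¹ * (f b)⁻¹)
      = f a * (z * (f b * z')) * z⁻¹ * ((f a)⁻¹ * z'⁻¹) * (f b)⁻¹ := by simp only [mul_assoc]
    _ = f a * (f b * z') * ((f a)⁻¹ * z'⁻¹) * (f b)⁻¹ := by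
        rw [← hz (f b * z')]; simp only [mul_assoc, mul_inv_cancel_left]
    _ = f a * f b * (z' * ((f a)⁻¹ * z'⁻¹)) * (f b)⁻¹ := by simp only [mul_assoc]
    _ = f a * f b * (f a)⁻¹ * (f b)⁻¹ := by
        rw [← hz' ((f a)⁻¹ * z'⁻¹)]; simp only [mul_assoc, inv_mul_cancel, mul_one]

/-- A projective representation nontrivial on a given element of a central kernel. -/
theorem exists_monomial_rep {Γ : Type*} {Q : Type*} [Group Γ] [Group Q] [Finite Γ]
    (σ : Γ →* Q) (hσ : Function.Surjective σ) (hc : σ.ker ≤ Subgroup.center Γ) {z : Γ}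
    (hz : z ∈ σ.ker) (hz1 : z ≠ 1) :
    ∃ (n : ℕ) (ρ : Γ →* GL (Fin n) ℂ),
      (∀ k ∈ σ.ker, ρ k ∈ Subgroup.center (GL (Fin n) ℂ)) ∧ ρ z ≠ 1 := by
  classical
  let _ : CommGroup σ.ker :=
    { (inferInstance : Group σ.ker) with
      mul_comm := fun a b => Subtype.ext (Subgroup.mem_center_iff.mp (hc b.2) a) }
  have : NeZero (Monoid.exponent σ.ker) := ⟨Monoid.exponent_ne_zero_of_finite⟩
  have hne : (⟨z, hz⟩ : σ.ker) ≠ 1 := fun h => hz1 (congrArg Subtype.val h)
  obtain ⟨χ, hχ⟩ := CommGroup.exists_apply_ne_one_of_hasEnoughRootsOfUnity σ.ker ℂ hne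
  have : Finite Q := Finite.of_surjective σ hσ
  let e : Fin (Nat.card Q) ≃ Q := (Finite.equivFin Q).symm
  obtain ⟨s, hs⟩ := hσ.hasRightInverse
  let c : Γ → Q → σ.ker := fun x q => ⟨(s (σ x * q))⁻¹ * x * s q, by
    rw [MonoidHom.mem_ker, map_mul, map_mul, map_inv, hs, hs, mul_inv_rev]
    group⟩
  have hcm : ∀ x y q, c (x * y) q = c x (σ y * q) * c y q := fun x y q => Subtype.ext (by
    simp only [c, Subgroup.coe_mul, map_mul, mul_assoc, mul_inv_cancel_left])
  have hck : ∀ k (hk : k ∈ σ.ker) q, c k q = ⟨k, hk⟩ := fun k hk q => Subtype.ext (by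
    simp only [c, MonoidHom.mem_ker.mp hk, one_mul]
    rw [mul_assoc, ← Subgroup.mem_center_iff.mp (hc hk) (s q), inv_mul_cancel_left])
  let T : Γ → Matrix (Fin (Nat.card Q)) (Fin (Nat.card Q)) ℂ := fun x =>
    Matrix.of fun i j => if e i = σ x * e j then ((χ (c x (e j)) : ℂˣ) : ℂ) else 0
  have hTk : ∀ k (hk : k ∈ σ.ker),
      T k = ((χ ⟨k, hk⟩ : ℂˣ) : ℂ) • (1 : Matrix (Fin (Nat.card Q)) (Fin (Nat.card Q)) ℂ) := by
    intro k hk
    ext i j
    simp only [T, Matrix.of_apply, Matrix.smul_apply, Matrix.one_apply, smul_eq_mul,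
      MonoidHom.mem_ker.mp hk, one_mul, e.injective.eq_iff, hck k hk]
    split <;> simp
  have hT1 : T 1 = 1 := by
    rw [hTk 1 (one_mem _)]
    have : χ (⟨1, one_mem _⟩ : σ.ker) = 1 := map_one χ
    rw [this]
    simp
  have hTm : ∀ x y, T (x * y) = T x * T y := fun x y => by
    ext i j
    rw [Matrix.mul_apply, Finset.sum_eq_single (e.symm (σ y * e j))]
    · simp only [T, Matrix.of_apply, Equiv.apply_symm_apply, map_mul, mul_assoc, hcm]
      split <;> simp
    · intro b _ hb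
      have : ¬ e b = σ y * e j := fun h => hb (by rw [← h, Equiv.symm_apply_apply])
      simp only [T, Matrix.of_apply, if_neg this, mul_zero]
    · exact fun h => absurd (Finset.mem_univ _) h
  let ρ : Γ →* GL (Fin (Nat.card Q)) ℂ :=
    MonoidHom.toHomUnits { toFun := T, map_one' := hT1, map_mul' := hTm }
  refine ⟨_, ρ, fun k hk => Subgroup.mem_center_iff.mpr fun g => Units.ext ?_, fun h => hχ ?_⟩
  · show (g : Matrix (Fin (Nat.card Q)) (Fin (Nat.card Q)) ℂ) * T k =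
      T k * (g : Matrix (Fin (Nat.card Q)) (Fin (Nat.card Q)) ℂ)
    rw [hTk k hk, Matrix.mul_smul, Matrix.smul_mul, mul_one, one_mul]
  · have h1 : T z = 1 := congrArg Units.val h
    rw [hTk z hz] at h1
    have h2 := congrFun (congrFun h1 (e.symm 1)) (e.symm 1)
    simp only [Matrix.smul_apply, Matrix.one_apply_eq, smul_eq_mul, mul_one] at h2
    exact Units.ext h2

/-- Let `σ : Γ →* Q` be a finite stem extension of the finite group `Q` such that every homomorphism from `Q` to the quotient of `GL n ℂ` by its centre, for every `n`, lifts along `σ` to a homomorphism `Γ →* GL n ℂ`. Then `σ` is a Schur covering group of `Q`: for every finite stem extension `τ : Δ →* Q` with `Δ` in the same universe as `Q`, the kernel of `τ` is a homomorphic image of the kernel of `σ`. -/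
theorem result {Q : Type u} [Group Q] [Finite Q] {Γ : Type v} [Group Γ] [Finite Γ] (σ : Γ →* Q) (hσ : Cfsg.IsStemExtension σ) (hlift : ∀ (n : ℕ) (γ : Q →* (GL (Fin n) ℂ ⧸ Subgroup.center (GL (Fin n) ℂ))), ∃ ρ : Γ →* GL (Fin n) ℂ, (QuotientGroup.mk' (Subgroup.center (GL (Fin n) ℂ))).comp ρ = γ.comp σ) (Δ : Type u) [Group Δ] [Finite Δ] (τ : Δ →* Q) (hτ : Cfsg.IsStemExtension τ) : ∃ π : σ.ker →* τ.ker, Function.Surjective π := by
  obtain ⟨β, hβ⟩ := exists_lift σ hσ.1 hσ.2.1 (MonoidHom.id Q)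
  rw [MonoidHom.id_comp] at hβ
  obtain ⟨π, hπ, hπβ⟩ := exists_mult_hom_ker hσ hβ
  obtain ⟨Γ₀, _, _, σ₀, β₀, hσ₀, ⟨e₀⟩, -, hβ₀⟩ := exists_cover Q
  obtain ⟨π₀, hπ₀, hπβ₀⟩ := exists_mult_hom_ker hσ₀ hβ₀
  have hπ₀i : Function.Injective π₀ :=
    ((Nat.bijective_iff_surjective_and_card π₀).mpr ⟨hπ₀, (Nat.card_congr e₀.toEquiv).symm⟩).1
  have hπi : Function.Injective π := by
    rw [injective_iff_map_eq_one]
    intro m hm
    by_contra hm1
    have hz1 : (π₀ m : Γ₀) ≠ 1 := fun h => hm1 (hπ₀i (by rw [map_one]; exact Subtype.ext h))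
    obtain ⟨n, ρ₀, hρc, hρz⟩ := exists_monomial_rep σ₀ hσ₀.1 hσ₀.2.1 (π₀ m).2 hz1
    let mk := QuotientGroup.mk' (Subgroup.center (GL (Fin n) ℂ))
    have hker : σ₀.ker ≤ (mk.comp ρ₀).ker := fun k hk =>
      (QuotientGroup.eq_one_iff _).mpr (hρc k hk)
    let γ := MonoidHom.liftOfSurjective σ₀ hσ₀.1 ⟨mk.comp ρ₀, hker⟩
    have hγ : γ.comp σ₀ = mk.comp ρ₀ := MonoidHom.ext fun x =>
      MonoidHom.liftOfRightInverse_comp_apply σ₀ _ (Function.rightInverse_surjInv hσ₀.1)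
        ⟨mk.comp ρ₀, hker⟩ x
    obtain ⟨ρ, hρ⟩ := hlift n γ
    have hcomp : mk.comp (ρ.comp β) = mk.comp (ρ₀.comp β₀) := by
      rw [← MonoidHom.comp_assoc, ← MonoidHom.comp_assoc, hρ, ← hγ, MonoidHom.comp_assoc,
        MonoidHom.comp_assoc, hβ, hβ₀]
    have hc' : mk.ker ≤ Subgroup.center (GL (Fin n) ℂ) :=
      (QuotientGroup.ker_mk' (Subgroup.center (GL (Fin n) ℂ))).le
    have hm2 : (m : CExt Q) ∈ commutator (CExt Q) := m.2.2
    have heq := eqOn_commutator_of_comp_eq (ξ := mk) hc' hcomp hm2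
    simp only [MonoidHom.comp_apply, ← hπβ, ← hπβ₀, hm, Subgroup.coe_one, map_one] at heq
    exact hρz heq.symm
  obtain ⟨π', hπ'⟩ := exists_mult_surj hτ
  let eπ : mult Q ≃* σ.ker := MulEquiv.ofBijective π ⟨hπi, hπ⟩
  exact ⟨π'.comp eπ.symm.toMonoidHom, hπ'.comp eπ.symm.surjective⟩

end Cfsg.Agent.S3956
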