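import Cfsg.Statements.S3958
import Cfsg.Agent.Lib.SchurMultiplier

set_option autoImplicit false
universe u v
open Cfsg

namespace Cfsg.Agent.S3958

open Cfsg.Agent.Lib.SchurMultiplier

/-- Let `σ : Γ →* Q` be a finite stem extension of the finite group `Q` with `Γ` of trivial Schur multiplier. Then `σ` is a Schur covering group of `Q`: for every finite stem extension `τ : Δ →* Q` with `Δ` in the same universe as `Q`, the kernel of `τ` is a homomorphic image of the kernel of `σ`. -/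
theorem result {Q : Type u} [Group Q] [Finite Q] {Γ : Type v} [Group Γ] [Finite Γ] (σ : Γ →* Q) (hσ : Cfsg.IsStemExtension σ) (hΓ : Cfsg.HasCyclicSchurMultiplier Γ 1) (Δ : Type u) [Group Δ] [Finite Δ] (τ : Δ →* Q) (hτ : Cfsg.IsStemExtension τ) : ∃ π : σ.ker →* τ.ker, Function.Surjective π := by
  have hmult : mult Γ = ⊥ := hasCyclicSchurMultiplier_one_iff.mp hΓ
  -- the pullback of `τ` along `σ`
  let P : Subgroup (Γ × Δ) :=
    (σ.comp (MonoidHom.fst Γ Δ)).eqLocus (τ.comp (MonoidHom.snd Γ Δ))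
  let π₁ : P →* Γ := (MonoidHom.fst Γ Δ).comp P.subtype
  let π₂ : P →* Δ := (MonoidHom.snd Γ Δ).comp P.subtype
  have hπ₁ : Function.Surjective π₁ := fun γ => by
    obtain ⟨d, hd⟩ := hτ.1 (σ γ)
    exact ⟨⟨(γ, d), hd.symm⟩, rfl⟩
  have hπ₂ : Function.Surjective π₂ := fun d => by
    obtain ⟨γ, hγ⟩ := hσ.1 (τ d)
    exact ⟨⟨(γ, d), hγ⟩, rfl⟩
  have hc : π₁.ker ≤ Subgroup.center P := by
    intro x hx
    rw [Subgroup.mem_center_iff]
    intro y
    have hx1 : (x : Γ × Δ).1 = 1 := hx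
    have hx2 : (x : Γ × Δ).2 ∈ τ.ker := by
      have := x.2
      rw [MonoidHom.mem_ker]
      exact this.symm.trans (by simp [hx1])
    refine Subtype.ext (Prod.ext ?_ ?_)
    · show (y : Γ × Δ).1 * (x : Γ × Δ).1 = (x : Γ × Δ).1 * (y : Γ × Δ).1
      simp [hx1]
    · exact Subgroup.mem_center_iff.mp (hτ.2.1 hx2) _
  obtain ⟨β, hβ⟩ := exists_lift π₁ hπ₁ hc (MonoidHom.id Γ)
  rw [MonoidHom.id_comp] at hβ
  have hinj : π₁.ker ⊓ commutator P = ⊥ := by
    rw [← map_mult hc hβ, hmult, Subgroup.map_bot]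
  let r : commutator P →* Γ := π₁.comp (commutator P).subtype
  have hr : Function.Injective r := by
    rw [← MonoidHom.ker_eq_bot_iff, Subgroup.eq_bot_iff_forall]
    intro x hx
    exact Subtype.ext (Subgroup.mem_bot.mp (hinj ▸ Subgroup.mem_inf.mpr ⟨hx, x.2⟩))
  have hmap : ∀ (H : Type v) [Group H] (f : P →* H), Function.Surjective f →
      (commutator P).map f = commutator H := by
    intro H _ f hf
    rw [commutator_def, Subgroup.map_commutator, Subgroup.map_top_of_surjective f hf]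
    rfl
  have hmap₂ : (commutator P).map π₂ = commutator Δ := by
    rw [commutator_def, Subgroup.map_commutator, Subgroup.map_top_of_surjective π₂ hπ₂]
    rfl
  have hrange : r.range = commutator Γ := by
    rw [MonoidHom.range_comp, Subgroup.range_subtype, hmap Γ π₁ hπ₁]
  let s : commutator Γ →* commutator P :=
    (MonoidHom.ofInjective hr).symm.toMonoidHom.comp (MulEquiv.subgroupCongr hrange.symm).toMonoidHom
  have hs : ∀ c : commutator Γ, r (s c) = c := fun c => by
    show r ((MonoidHom.ofInjective hr).symm ⟨c, _⟩) = c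
    exact MonoidHom.apply_ofInjective_symm hr _
  let ψ : commutator Γ →* Δ := π₂.comp ((commutator P).subtype.comp s)
  have hψ : ∀ c : commutator Γ, τ (ψ c) = σ c := fun c => by
    have h := ((s c : P)).2
    exact h.symm.trans (congrArg σ (hs c))
  refine ⟨MonoidHom.codRestrict (ψ.comp (Subgroup.inclusion hσ.2.2)) τ.ker
    (fun k => by rw [MonoidHom.mem_ker, MonoidHom.comp_apply, hψ]; exact k.2), ?_⟩
  rintro ⟨d, hd⟩
  have hd' : d ∈ (commutator P).map π₂ := by rw [hmap₂]; exact hτ.2.2 hd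
  obtain ⟨x, hx, rfl⟩ := hd'
  have hk : π₁ x ∈ σ.ker := by
    have h := x.2
    rw [MonoidHom.mem_ker]
    exact h.trans hd
  refine ⟨⟨π₁ x, hk⟩, Subtype.ext ?_⟩
  have he : s ⟨π₁ x, hσ.2.2 hk⟩ = ⟨x, hx⟩ := hr (hs _)
  show π₂ (s ⟨π₁ x, hσ.2.2 hk⟩ : P) = π₂ x
  rw [he]

end Cfsg.Agent.S3958
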