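import Cfsg.Statements.S3961
import Cfsg.Agent.Lib.SchurMultiplier

set_option autoImplicit false
universe u v
open Cfsg

namespace Cfsg.Agent.S3961

open Cfsg.Agent.Lib.SchurMultiplier

/-- Let `π : G →* Q` be a surjective homomorphism with central kernel from a finite perfect group `G` (a perfect cover of `Q`). Then `π` is universal, in the sense that every surjective homomorphism `ξ : X →* Q` with central kernel from a group `X` in the universe of `G` admits a homomorphism `η : G →* X` with `ξ ∘ η = π`, if and only if `G` has trivial Schur multiplier. -/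
theorem result {G : Type u} {Q : Type v} [Group G] [Group Q] [Finite G] (hG : Group.IsPerfect G) (π : G →* Q) (hπ : Function.Surjective π) (hker : π.ker ≤ Subgroup.center G) : (∀ (X : Type u) [Group X] (ξ : X →* Q), Function.Surjective ξ → ξ.ker ≤ Subgroup.center X → ∃ η : G →* X, ξ.comp η = π) ↔ Cfsg.HasCyclicSchurMultiplier G 1 := by
  rw [hasCyclicSchurMultiplier_one_iff]
  obtain ⟨U, iU, iUF, θ, hU, hθ, hθc, ⟨eθ⟩, huniv⟩ := exists_universal_cover G hG
  constructor
  · intro h
    have hQ : Group.IsPerfect Q := by
      rw [Group.isPerfect_def] at hG ⊢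
      rw [commutator_def, ← Subgroup.map_top_of_surjective π hπ, ← Subgroup.map_commutator]
      exact congrArg (Subgroup.map π) hG
    set ξ := π.comp θ
    have hξc : ξ.ker ≤ Subgroup.center U := by
      intro z hz
      rw [Subgroup.mem_center_iff]
      intro g
      have hc : ∀ g, z * g * z⁻¹ * g⁻¹ ∈ Subgroup.center U := fun g => hθc (by
        have h1 : θ z ∈ Subgroup.center G := hker hz
        rw [MonoidHom.mem_ker, map_mul, map_mul, map_mul, map_inv, map_inv,
          ← Subgroup.mem_center_iff.mp h1 (θ g)]
        simp)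
      let φ : U →* U := (MulAut.conj z).toMonoidHom
      have hφ : φ = MonoidHom.id U := by
        refine hom_ext_of_perfect hU hθc (MonoidHom.ext fun y => ?_)
        simp only [φ, MonoidHom.comp_apply, MonoidHom.id_apply, MulEquiv.coe_toMonoidHom,
          MulAut.conj_apply, map_mul, map_inv]
        have h1 : θ z ∈ Subgroup.center G := hker hz
        rw [← Subgroup.mem_center_iff.mp h1 (θ y), mul_inv_cancel_right]
      have h2 : z * g * z⁻¹ = g := DFunLike.congr_fun hφ g
      exact (mul_inv_eq_iff_eq_mul.mp h2).symm
    obtain ⟨η, hη⟩ := h U ξ (hπ.comp hθ) hξc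
    have hid : η.comp θ = MonoidHom.id U := by
      refine hom_ext_of_perfect hU hξc ?_
      rw [← MonoidHom.comp_assoc (f := θ) (g := η) (h := ξ), hη, MonoidHom.comp_id]
    have hinj : Function.Injective θ := fun a b hab => by
      have := congrArg η hab
      rwa [← MonoidHom.comp_apply, ← MonoidHom.comp_apply, hid] at this
    rw [Subgroup.eq_bot_iff_forall]
    intro m hm
    obtain ⟨k, hk⟩ := eθ.surjective ⟨m, hm⟩
    have : (k : U) = 1 := hinj (by rw [map_one]; exact k.2)
    have hk1 : k = 1 := Subtype.ext this
    rw [hk1, map_one] at hk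
    exact (congrArg Subtype.val hk).symm
  · intro h X _ ξ hξ hc
    have hθi : Function.Injective θ := by
      rw [← MonoidHom.ker_eq_bot_iff]
      refine Subgroup.eq_bot_of_card_eq _ ?_
      rw [Nat.card_congr eθ.toEquiv, h, Subgroup.card_bot]
    obtain ⟨η, hη, -⟩ := huniv π ξ hξ hc
    let e : U ≃* G := MulEquiv.ofBijective θ ⟨hθi, hθ⟩
    refine ⟨η.comp e.symm.toMonoidHom, MonoidHom.ext fun g => ?_⟩
    show ξ (η (e.symm g)) = π g
    rw [← MonoidHom.comp_apply ξ η, hη, MonoidHom.comp_apply]
    exact congrArg π (e.apply_symm_apply g)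

end Cfsg.Agent.S3961
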