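import Cfsg.Statements.S3963
import Cfsg.Agent.Lib.SchurMultiplier.Basic
import Cfsg.Agent.Lib.Involutions.BaerSuzuki
import Cfsg.Agent.Lib.Involutions.TwoGroupRec
import Mathlib.Tactic

set_option autoImplicit false
open Cfsg

namespace Cfsg.Agent.S3963

universe u

open Cfsg.Agent.Lib

/-- Kernels of stem extensions of a group with generators `a`, `b` where `b` inverts `a`. -/
theorem stem_ker {Q Γ : Type*} [Group Q] [Group Γ] [Finite Γ] (σ : Γ →* Q)
    (hσ : Cfsg.IsStemExtension σ) {a b : Q} (hgen : Subgroup.closure {a, b} = ⊤)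
    (hinv : b * a * b⁻¹ = a⁻¹) {N : ℕ} (hN : a ^ N = 1) :
    ∃ c : Γ, c ^ N = 1 ∧ σ c = a⁻¹ * a⁻¹ ∧ σ.ker ≤ Subgroup.zpowers c ∧
      ∀ n : ℕ, N = 2 * n → b * b = a ^ n → c ^ n = 1 := by
  obtain ⟨hsurj, hcen, hcom⟩ := hσ
  obtain ⟨α, hα⟩ := hsurj a
  obtain ⟨β, hβ⟩ := hsurj b
  obtain ⟨z, hz⟩ : ∃ z : Γ, z = α * β * α * β⁻¹ := ⟨_, rfl⟩
  have hzker : z ∈ σ.ker := by
    rw [MonoidHom.mem_ker, hz]
    simp only [map_mul, map_inv, hα, hβ]
    rw [mul_assoc a, mul_assoc a, hinv, mul_inv_cancel]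
  have hzc : ∀ g : Γ, Commute g z := fun g => Subgroup.mem_center_iff.mp (hcen hzker) g
  have hconj : β * α * β⁻¹ = α⁻¹ * z := by rw [hz]; group
  have hpow : ∀ k : ℕ, β * α ^ k * β⁻¹ = (α ^ k)⁻¹ * z ^ k := fun k => by
    rw [← conj_pow, hconj, (hzc α⁻¹).mul_pow, inv_pow]
  set c := β * α * β⁻¹ * α⁻¹ with hc
  have hc' : c = α⁻¹ * α⁻¹ * z := by
    rw [hc, hconj, mul_assoc, ← (hzc α⁻¹).eq, ← mul_assoc]
  have hcpow : ∀ k : ℕ, c ^ k = (α ^ k)⁻¹ * (α ^ k)⁻¹ * z ^ k := fun k => by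
    rw [hc', (hzc _).mul_pow, (Commute.refl α⁻¹).mul_pow, inv_pow]
  have hαc : Commute α c := by
    rw [hc']
    exact (((Commute.refl α).inv_right).mul_right (Commute.refl α).inv_right).mul_right (hzc α)
  have hβc : β * c * β⁻¹ = c⁻¹ := by
    have h1 : β * α⁻¹ * β⁻¹ = z⁻¹ * α := by
      rw [show β * α⁻¹ * β⁻¹ = (β * α * β⁻¹)⁻¹ by group, hconj, mul_inv_rev, inv_inv]
    rw [hc', show β * (α⁻¹ * α⁻¹ * z) * β⁻¹ = (β * α⁻¹ * β⁻¹) * (β * α⁻¹ * β⁻¹) * (β * z * β⁻¹) by group,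
      h1, (hzc β).eq, mul_inv_cancel_right,
      show (α⁻¹ * α⁻¹ * z)⁻¹ = z⁻¹ * α * α by simp [mul_assoc]]
    rw [show z⁻¹ * α * (z⁻¹ * α) * z = z⁻¹ * (α * z⁻¹) * α * z by group, (hzc α).inv_right.eq,
      show z⁻¹ * (z⁻¹ * α) * α * z = z⁻¹ * z⁻¹ * ((α * α) * z) by group, (hzc (α * α)).eq]
    simp only [mul_assoc, inv_mul_cancel_left]
  set H := Subgroup.closure ({α, β} : Set Γ) with hH
  have hsup : H ⊔ σ.ker = ⊤ := by
    rw [← Subgroup.comap_map_eq, hH, MonoidHom.map_closure, Set.image_insert_eq, Set.image_singleton,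
      hα, hβ, hgen, Subgroup.comap_top]
  have hHtop : H = ⊤ := by
    have h1 : commutator Γ ≤ H := by
      rw [SchurMultiplier.commutator_eq_of_sup_center hcen hsup]
      exact Subgroup.commutator_le_self H
    rw [eq_top_iff, ← hsup]
    exact sup_le le_rfl (hcom.trans h1)
  haveI hZn : (Subgroup.zpowers c).Normal := by
    rw [← Subgroup.normalizer_eq_top_iff, eq_top_iff, ← hHtop, hH, Subgroup.closure_le]
    rintro g (rfl | rfl)
    · rw [SetLike.mem_coe, Involutions.mem_normalizer_iff_map_conj, MonoidHom.map_zpowers]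
      show Subgroup.zpowers (g * c * g⁻¹) = _
      rw [hαc.eq, mul_inv_cancel_right]
    · rw [SetLike.mem_coe, Involutions.mem_normalizer_iff_map_conj, MonoidHom.map_zpowers]
      show Subgroup.zpowers (g * c * g⁻¹) = _
      rw [hβc, Subgroup.zpowers_inv]
  have hcomm : commutator Γ ≤ Subgroup.zpowers c := by
    refine Subgroup.Normal.quotient_commutative_iff_commutator_le.mp ⟨⟨fun x y => ?_⟩⟩
    set π := QuotientGroup.mk' (Subgroup.zpowers c)
    have hab : π β * π α = π α * π β := by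
      have h1 : π c = 1 := (QuotientGroup.eq_one_iff c).mpr (Subgroup.mem_zpowers c)
      simp only [hc, map_mul, map_inv] at h1
      exact mul_inv_eq_iff_eq_mul.mp (mul_inv_eq_one.mp h1)
    have hgen' : ∀ q : Γ ⧸ Subgroup.zpowers c, q ∈ Subgroup.closure ({π α, π β} : Set _) := by
      intro q
      obtain ⟨g, rfl⟩ := QuotientGroup.mk'_surjective _ q
      have : g ∈ H := hHtop ▸ Subgroup.mem_top g
      have := Subgroup.mem_map_of_mem π this
      rwa [hH, MonoidHom.map_closure, Set.image_insert_eq, Set.image_singleton] at this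
    refine Subgroup.closure_induction₂ (p := fun u v _ _ => u * v = v * u) ?_ (fun _ _ => by simp)
      (fun _ _ => by simp) (fun u v w _ _ _ h1 h2 => Commute.mul_left h1 h2)
      (fun u v w _ _ _ h1 h2 => Commute.mul_right h1 h2) (fun u v _ _ h => Commute.inv_left h)
      (fun u v _ _ h => Commute.inv_right h) (hgen' x) (hgen' y)
    rintro u v (rfl | rfl) (rfl | rfl)
    · rfl
    · exact hab.symm
    · exact hab
    · rfl
  refine ⟨c, ?_, ?_, hcom.trans hcomm, fun n hn hb => ?_⟩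
  · have hw : α ^ N ∈ σ.ker := by rw [MonoidHom.mem_ker, map_pow, hα, hN]
    have h1 := hpow N
    rw [(Subgroup.mem_center_iff.mp (hcen hw) β), mul_inv_cancel_right] at h1
    rw [hcpow, mul_assoc, ← h1, inv_mul_cancel]
  · rw [hc', map_mul, map_mul, map_inv, hα, MonoidHom.mem_ker.mp hzker, mul_one]
  · have hv : (α ^ n)⁻¹ * (β * β) ∈ σ.ker := by
      rw [MonoidHom.mem_ker, map_mul, map_inv, map_pow, map_mul, hα, hβ, hb, inv_mul_cancel]
    have h0 : Commute β ((α ^ n)⁻¹ * (β * β)) := Subgroup.mem_center_iff.mp (hcen hv) β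
    have h2 : Commute β (α ^ n) := by
      have h3 : α ^ n = (β * β) * ((α ^ n)⁻¹ * (β * β))⁻¹ := by group
      rw [h3]
      exact ((Commute.refl β).mul_right (Commute.refl β)).mul_right h0.inv_right
    have h1 := hpow n
    rw [h2.eq, mul_inv_cancel_right] at h1
    rw [hcpow, mul_assoc, ← h1, inv_mul_cancel]

/-- A trivial kernel is covered by the trivial cyclic group; the identity is the stem extension. -/
theorem trivial_multiplier {Q : Type u} [Group Q] [Finite Q]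
    (h : ∀ (Γ : Type u) [Group Γ] [Finite Γ] (σ : Γ →* Q), Cfsg.IsStemExtension σ → σ.ker = ⊥) :
    Cfsg.HasCyclicSchurMultiplier Q 1 := by
  refine ⟨⟨Q, inferInstance, inferInstance, MonoidHom.id Q, ⟨fun x => ⟨x, rfl⟩, by simp, by simp⟩, ?_⟩, ?_⟩
  · haveI : Unique (MonoidHom.id Q).ker :=
      { default := 1, uniq := fun x => Subtype.ext (by simpa [MonoidHom.mem_ker] using x.2) }
    exact ⟨MulEquiv.ofUnique⟩
  · intro Γ _ _ σ hσ
    refine ⟨1, fun x => ⟨1, Subtype.ext ?_⟩⟩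
    have h1 : (x : Γ) = 1 := by
      have := x.2
      exact (Subgroup.mem_bot).mp ((h Γ σ hσ).le this)
    rw [h1]; rfl

theorem inv_mul_inv_pow {Q : Type*} [Group Q] (a : Q) (i : ℤ) :
    (a⁻¹ * a⁻¹) ^ i = a ^ (-(2 * i)) := by
  rw [← zpow_neg_one, ← zpow_add, ← zpow_mul]
  congr 1
  ring

theorem quaternion_gen (n : ℕ) [NeZero n] :
    Subgroup.closure ({QuaternionGroup.a 1, QuaternionGroup.xa 0} : Set (QuaternionGroup n)) = ⊤ := by
  have h := Involutions.quaternionHom_range (MonoidHom.id (QuaternionGroup n))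
  rw [MonoidHom.range_eq_top.mpr (fun x => ⟨x, rfl⟩)] at h
  exact h.symm

/-- For every `n ≥ 1` the dicyclic (generalized quaternion) group of order `4 n` has trivial Schur multiplier. -/
theorem result (n : ℕ) [NeZero n] : Cfsg.HasCyclicSchurMultiplier (QuaternionGroup n) 1 := by
  refine trivial_multiplier fun Γ _ _ σ hσ => ?_
  have hN : (QuaternionGroup.a 1 : QuaternionGroup n) ^ (2 * n) = 1 := QuaternionGroup.a_one_pow_n
  have hinv : (QuaternionGroup.xa 0 : QuaternionGroup n) * QuaternionGroup.a 1 * (QuaternionGroup.xa 0)⁻¹ =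
      (QuaternionGroup.a 1)⁻¹ := by
    rw [mul_inv_eq_iff_eq_mul, eq_inv_mul_iff_mul_eq, QuaternionGroup.xa_mul_a,
      QuaternionGroup.a_mul_xa, zero_add, sub_self]
  have hb : (QuaternionGroup.xa 0 : QuaternionGroup n) * QuaternionGroup.xa 0 = QuaternionGroup.a 1 ^ n := by
    rw [← sq, QuaternionGroup.xa_sq, QuaternionGroup.a_one_pow]
  obtain ⟨c, -, hσc, hker, hn⟩ := stem_ker σ hσ (quaternion_gen n) hinv hN
  rw [eq_bot_iff]
  intro x hx
  obtain ⟨i, rfl⟩ := Subgroup.mem_zpowers_iff.mp (hker hx)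
  rw [MonoidHom.mem_ker, map_zpow, hσc, inv_mul_inv_pow, ← orderOf_dvd_iff_zpow_eq_one,
    QuaternionGroup.orderOf_a_one, dvd_neg, Nat.cast_mul, Nat.cast_ofNat,
    mul_dvd_mul_iff_left (two_ne_zero' ℤ)] at hx
  obtain ⟨j, rfl⟩ := hx
  rw [Subgroup.mem_bot, zpow_mul, zpow_natCast, hn n rfl hb, one_zpow]

end Cfsg.Agent.S3963
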