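import Cfsg.Statements.S3964
import Cfsg.Agent.S3963
import Mathlib.GroupTheory.SpecificGroups.Dihedral

set_option autoImplicit false
open Cfsg

namespace Cfsg.Agent.S3964

universe u

theorem dihedral_gen (n : ℕ) [NeZero n] :
    Subgroup.closure ({DihedralGroup.r 1, DihedralGroup.sr 0} : Set (DihedralGroup n)) = ⊤ := by
  refine top_le_iff.1 fun u _ => ?_
  have hr : ∀ i : ZMod n, DihedralGroup.r i ∈
      Subgroup.closure ({DihedralGroup.r 1, DihedralGroup.sr 0} : Set (DihedralGroup n)) := by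
    intro i
    rw [← ZMod.natCast_zmod_val i, ← DihedralGroup.r_one_pow]
    exact pow_mem (Subgroup.subset_closure (Set.mem_insert _ _)) _
  rcases u with i | i
  · exact hr i
  · have h1 : DihedralGroup.sr i = DihedralGroup.sr 0 * DihedralGroup.r i := by
      rw [DihedralGroup.sr_mul_r, zero_add]
    rw [h1]
    exact mul_mem (Subgroup.subset_closure (Set.mem_insert_of_mem _ rfl)) (hr i)

theorem dihedral_inv (n : ℕ) :
    (DihedralGroup.sr 0 : DihedralGroup n) * DihedralGroup.r 1 * (DihedralGroup.sr 0)⁻¹ =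
      (DihedralGroup.r 1)⁻¹ := by
  rw [mul_inv_eq_iff_eq_mul, eq_inv_mul_iff_mul_eq, DihedralGroup.sr_mul_r,
    DihedralGroup.r_mul_sr, zero_add, sub_self]

/-- The kernel of a stem extension of a dihedral group. -/
theorem dihedral_ker {n : ℕ} [NeZero n] {Γ : Type*} [Group Γ] [Finite Γ] (σ : Γ →* DihedralGroup n)
    (hσ : Cfsg.IsStemExtension σ) :
    ∃ c : Γ, c ^ n = 1 ∧ ∀ x ∈ σ.ker, ∃ i : ℤ, x = c ^ i ∧ (n : ℤ) ∣ 2 * i := by
  obtain ⟨c, hc, hσc, hker, -⟩ := Cfsg.Agent.S3963.stem_ker σ hσ (dihedral_gen n) (dihedral_inv n)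
    (N := n) DihedralGroup.r_one_pow_n
  refine ⟨c, hc, fun x hx => ?_⟩
  obtain ⟨i, rfl⟩ := Subgroup.mem_zpowers_iff.mp (hker hx)
  rw [MonoidHom.mem_ker, map_zpow, hσc, Cfsg.Agent.S3963.inv_mul_inv_pow,
    ← orderOf_dvd_iff_zpow_eq_one, DihedralGroup.orderOf_r_one, dvd_neg] at hx
  exact ⟨i, rfl, hx⟩

/-- For odd `n` the dihedral group of order `2 n` has trivial Schur multiplier. -/
theorem result (n : ℕ) (hn : Odd n) : Cfsg.HasCyclicSchurMultiplier (DihedralGroup n) 1 := by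
  haveI : NeZero n := ⟨fun h => by simp [h] at hn⟩
  refine Cfsg.Agent.S3963.trivial_multiplier fun Γ _ _ σ hσ => ?_
  obtain ⟨c, hc, hker⟩ := dihedral_ker σ hσ
  rw [eq_bot_iff]
  intro x hx
  obtain ⟨i, rfl, hi⟩ := hker x hx
  have h2 : IsCoprime (n : ℤ) 2 := by
    rw [show (2 : ℤ) = ((2 : ℕ) : ℤ) by rfl, Nat.isCoprime_iff_coprime]
    exact (Nat.coprime_two_right).mpr hn
  obtain ⟨j, rfl⟩ := h2.dvd_of_dvd_mul_left hi
  rw [Subgroup.mem_bot, zpow_mul, zpow_natCast, hc, one_zpow]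

end Cfsg.Agent.S3964
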