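import Cfsg.Statements.S3966
import Cfsg.Prelude.Def_KGroupFacts
import Mathlib.GroupTheory.SpecificGroups.Dihedral
import Mathlib.GroupTheory.SpecificGroups.Quaternion
import Mathlib.Tactic.LinearCombination

set_option autoImplicit false
open Cfsg

namespace Cfsg.Agent.S3966

/-- The natural map onto the dihedral group. -/
def toDihedralFun (n : ℕ) : QuaternionGroup n → DihedralGroup n
  | QuaternionGroup.a i => DihedralGroup.r (ZMod.castHom (dvd_mul_left n 2) (ZMod n) i)
  | QuaternionGroup.xa i => DihedralGroup.sr (ZMod.castHom (dvd_mul_left n 2) (ZMod n) i)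

/-- The natural homomorphism onto the dihedral group. -/
def toDihedralHom (n : ℕ) : QuaternionGroup n →* DihedralGroup n :=
  MonoidHom.mk' (toDihedralFun n) (by
    rintro (i | i) (j | j)
    · simp only [QuaternionGroup.a_mul_a, toDihedralFun, DihedralGroup.r_mul_r, map_add]
    · simp only [QuaternionGroup.a_mul_xa, toDihedralFun, DihedralGroup.r_mul_sr, map_sub]
    · simp only [QuaternionGroup.xa_mul_a, toDihedralFun, DihedralGroup.sr_mul_r, map_add]
    · simp only [QuaternionGroup.xa_mul_xa, toDihedralFun, DihedralGroup.sr_mul_sr, map_add,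
        map_sub, map_natCast, ZMod.natCast_self, zero_add])

/-- For even `n ≥ 2` the dicyclic group of order `4 n` is a stem extension of the dihedral group of order `2 n` with kernel of order `2`: there is a surjective homomorphism `QuaternionGroup n →* DihedralGroup n` whose kernel is central, lies in the commutator subgroup and has two elements. Together with the order of the multiplier this exhibits the dicyclic group as a Schur covering group of the dihedral group. -/
theorem result (n : ℕ) [NeZero n] (hn : Even n) : ∃ σ : QuaternionGroup n →* DihedralGroup n, Cfsg.IsStemExtension σ ∧ Nat.card σ.ker = 2 := by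
  obtain ⟨k, rfl⟩ := hn
  have hk : 0 < k := Nat.pos_of_ne_zero fun h => NeZero.ne (k + k) (by omega)
  have hzero : (2 * (k + k : ℕ) : ZMod (2 * (k + k))) = 0 := by
    exact_mod_cast ZMod.natCast_self (2 * (k + k))
  -- the kernel
  have hker : ∀ g, g ∈ (toDihedralHom (k + k)).ker ↔
      g = 1 ∨ g = QuaternionGroup.a ((k + k : ℕ) : ZMod (2 * (k + k))) := by
    intro g
    rw [MonoidHom.mem_ker]
    cases g with
    | xa i =>
      refine iff_of_false (fun h => by cases h) ?_
      rintro (h | h) <;> cases h
    | a i =>
      simp only [toDihedralHom, MonoidHom.mk'_apply, toDihedralFun, DihedralGroup.one_def,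
        DihedralGroup.r.injEq, QuaternionGroup.one_def, QuaternionGroup.a.injEq]
      constructor
      · intro h
        obtain ⟨v, rfl⟩ : ∃ v : ℕ, (v : ZMod (2 * (k + k))) = i := ⟨i.val, ZMod.natCast_zmod_val i⟩
        rw [map_natCast, ZMod.natCast_eq_zero_iff] at h
        obtain ⟨c, rfl⟩ := h
        obtain ⟨d, rfl⟩ | ⟨d, rfl⟩ := Nat.even_or_odd c
        · left
          rw [ZMod.natCast_eq_zero_iff]
          exact ⟨d, by ring⟩
        · right
          rw [show (k + k) * (2 * d + 1) = (k + k) + 2 * (k + k) * d by ring, Nat.cast_add, Nat.cast_mul,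
            ZMod.natCast_self, zero_mul, add_zero]
      · rintro (rfl | rfl)
        · exact map_zero _
        · rw [map_natCast, ZMod.natCast_self]
  have hsurj : Function.Surjective (toDihedralHom (k + k)) := by
    rintro (i | i)
    · obtain ⟨j, hj⟩ := ZMod.castHom_surjective (dvd_mul_left (k + k) 2) i
      exact ⟨QuaternionGroup.a j, by simp [toDihedralHom, toDihedralFun, ← hj]⟩
    · obtain ⟨j, hj⟩ := ZMod.castHom_surjective (dvd_mul_left (k + k) 2) i
      exact ⟨QuaternionGroup.xa j, by simp [toDihedralHom, toDihedralFun, ← hj]⟩
  refine ⟨toDihedralHom (k + k), ⟨hsurj, fun g hg => ?_, fun g hg => ?_⟩, ?_⟩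
  · rcases (hker g).mp hg with rfl | rfl
    · exact one_mem _
    · rw [Subgroup.mem_center_iff]
      rintro (i | i)
      · rw [QuaternionGroup.a_mul_a, QuaternionGroup.a_mul_a]
        congr 1
        exact add_comm _ _
      · rw [QuaternionGroup.xa_mul_a, QuaternionGroup.a_mul_xa]
        congr 1
        push_cast
        push_cast at hzero
        linear_combination hzero
  · rcases (hker g).mp hg with rfl | rfl
    · exact one_mem _
    · have h := Subgroup.commutator_mem_commutator
        (Subgroup.mem_top (QuaternionGroup.a (k : ZMod (2 * (k + k)))))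
        (Subgroup.mem_top (QuaternionGroup.xa (0 : ZMod (2 * (k + k)))))
      rw [commutatorElement_def] at h
      rw [commutator_def]
      have e1 : (QuaternionGroup.a (k : ZMod (2 * (k + k))))⁻¹ = QuaternionGroup.a (-(k : ZMod (2 * (k + k)))) :=
        inv_eq_of_mul_eq_one_right (by rw [QuaternionGroup.a_mul_a, add_neg_cancel, QuaternionGroup.one_def])
      have e2 : (QuaternionGroup.xa (0 : ZMod (2 * (k + k))))⁻¹ =
          QuaternionGroup.xa ((k + k : ℕ) : ZMod (2 * (k + k))) := by
        refine inv_eq_of_mul_eq_one_right ?_
        rw [QuaternionGroup.xa_mul_xa, QuaternionGroup.one_def]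
        congr 1
        push_cast
        push_cast at hzero
        linear_combination hzero
      rw [e1, e2, QuaternionGroup.a_mul_xa, QuaternionGroup.xa_mul_a, QuaternionGroup.xa_mul_xa] at h
      convert h using 2
      push_cast
      push_cast at hzero
      linear_combination -hzero
  · have hne : (1 : QuaternionGroup (k + k)) ≠ QuaternionGroup.a ((k + k : ℕ) : ZMod (2 * (k + k))) := by
      rw [QuaternionGroup.one_def, Ne, QuaternionGroup.a.injEq, eq_comm, ZMod.natCast_eq_zero_iff]
      intro hc
      have := Nat.le_of_dvd (by omega) hc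
      omega
    rw [show Nat.card (toDihedralHom (k + k)).ker =
      ((toDihedralHom (k + k)).ker : Set (QuaternionGroup (k + k))).ncard from rfl,
      show ((toDihedralHom (k + k)).ker : Set (QuaternionGroup (k + k))) =
        {1, QuaternionGroup.a ((k + k : ℕ) : ZMod (2 * (k + k)))} from Set.ext fun g => hker g,
      Set.ncard_pair hne]

end Cfsg.Agent.S3966
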