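import Cfsg.Statements.S3965
import Cfsg.Agent.S3964
import Cfsg.Agent.S3966
import Mathlib.GroupTheory.SpecificGroups.Cyclic
import Mathlib.Data.ZMod.Basic

set_option autoImplicit false
open Cfsg

namespace Cfsg.Agent.S3965

/-- For even `n ≥ 2` the dihedral group of order `2 n` has Schur multiplier cyclic of order `2`. -/
theorem result (n : ℕ) [NeZero n] (hn : Even n) : Cfsg.HasCyclicSchurMultiplier (DihedralGroup n) 2 := by
  obtain ⟨σ₀, hσ₀, hcard⟩ := Cfsg.Agent.S3966.result n hn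
  have h2 : Nat.card (Multiplicative (ZMod 2)) = 2 := by
    rw [Nat.card_congr Multiplicative.toAdd, Nat.card_zmod]
  haveI := Fact.mk Nat.prime_two
  refine ⟨⟨QuaternionGroup n, inferInstance, inferInstance, σ₀, hσ₀,
    ⟨mulEquivOfPrimeCardEq hcard h2⟩⟩, ?_⟩
  intro Γ _ _ σ hσ
  obtain ⟨c, hc, hker⟩ := Cfsg.Agent.S3964.dihedral_ker σ hσ
  obtain ⟨k, hk⟩ := hn
  have hmem : ∀ x : σ.ker, ∃ j : ℤ, (x : Γ) = (c ^ k) ^ j := by
    intro x
    obtain ⟨i, hi, hd⟩ := hker x x.2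
    rw [hk, show ((k + k : ℕ) : ℤ) = 2 * (k : ℤ) by push_cast; ring,
      mul_dvd_mul_iff_left (two_ne_zero' ℤ)] at hd
    obtain ⟨j, rfl⟩ := hd
    exact ⟨j, by rw [hi, zpow_mul, zpow_natCast]⟩
  have hsq : (c ^ k) ^ 2 = 1 := by rw [← pow_mul, show k * 2 = n by omega, hc]
  have hle : σ.ker ≤ Subgroup.zpowers (c ^ k) := fun x hx => by
    obtain ⟨j, hj⟩ := hmem ⟨x, hx⟩
    exact Subgroup.mem_zpowers_iff.mpr ⟨j, hj.symm⟩
  have hd : Nat.card σ.ker ∣ 2 := (Subgroup.card_dvd_of_le hle).trans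
    (Nat.card_zpowers (c ^ k) ▸ orderOf_dvd_of_pow_eq_one hsq)
  rcases (Nat.dvd_prime Nat.prime_two).mp hd with h1 | h1
  · refine ⟨1, fun x => ⟨1, ?_⟩⟩
    haveI := (Nat.card_eq_one_iff_unique.mp h1).1
    exact Subsingleton.elim _ _
  · let e : Multiplicative (ZMod 2) ≃* σ.ker := mulEquivOfPrimeCardEq h2 h1
    exact ⟨e.toMonoidHom, e.surjective⟩

end Cfsg.Agent.S3965
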