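import Cfsg.Statements.S3967
import Cfsg.Agent.Lib.SchurMultiplier.Basic
import Cfsg.Agent.Lib.Involutions.BaerSuzuki
import Cfsg.Agent.Lib.Involutions.TwoGroupRec
import Mathlib.GroupTheory.SemidirectProduct
import Mathlib.Tactic

set_option autoImplicit false
open Cfsg

namespace Cfsg.Agent.S3967

open Cfsg.Agent.Lib
open scoped commutatorElement

section upper

variable {Q Γ : Type*} [Group Q] [Group Γ] [Finite Γ]

/-- Generator of the kernel of a stem extension of a metacyclic group. -/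
theorem stem_ker_metacyclic (σ : Γ →* Q) (hσ : Cfsg.IsStemExtension σ) {a b : Q}
    (hgen : Subgroup.closure {a, b} = ⊤) (s m n e : ℕ) (ha : a ^ m = 1) (hb : b ^ n = a ^ e)
    (hab : b * a * b⁻¹ = a ^ (s + 1)) :
    ∃ c : Γ, σ c = a ^ s ∧ σ.ker ≤ Subgroup.zpowers c ∧ c ^ m = 1 ∧ c ^ e = 1 ∧
      c ^ (∑ i ∈ Finset.range n, (s + 1) ^ i) = 1 := by
  obtain ⟨hsurj, hcen, hcom⟩ := hσ
  obtain ⟨α, hα⟩ := hsurj a
  obtain ⟨β, hβ⟩ := hsurj b
  obtain ⟨z, hz⟩ : ∃ z : Γ, z = (α ^ (s + 1))⁻¹ * (β * α * β⁻¹) := ⟨_, rfl⟩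
  have hzker : z ∈ σ.ker := by
    rw [MonoidHom.mem_ker, hz]
    simp only [map_mul, map_inv, map_pow, hα, hβ, hab, inv_mul_cancel]
  have hzc : ∀ g : Γ, Commute g z := fun g => Subgroup.mem_center_iff.mp (hcen hzker) g
  obtain ⟨c, hc⟩ : ∃ c : Γ, c = α ^ s * z := ⟨_, rfl⟩
  have hαc : Commute α c := by rw [hc]; exact ((Commute.refl α).pow_right s).mul_right (hzc α)
  have hconj : β * α * β⁻¹ = α * c := by
    rw [hc, ← mul_assoc, ← pow_succ', hz, mul_inv_cancel_left]
  have hpow : ∀ k : ℕ, β * α ^ k * β⁻¹ = α ^ k * c ^ k := fun k => by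
    rw [← conj_pow, hconj, hαc.mul_pow]
  have hzβ : β * z * β⁻¹ = z := by rw [(hzc β).eq, mul_inv_cancel_right]
  have hβc : β * c * β⁻¹ = c ^ (s + 1) := by
    calc β * c * β⁻¹ = (β * α ^ s * β⁻¹) * (β * z * β⁻¹) := by rw [hc]; group
      _ = α ^ s * c ^ s * z := by rw [hpow, hzβ]
      _ = c ^ s * (α ^ s * z) := by rw [((hαc.pow_left s).pow_right s).eq, mul_assoc]
      _ = _ := by rw [← hc, pow_succ]
  set H := Subgroup.closure ({α, β} : Set Γ) with hH
  have hsup : H ⊔ σ.ker = ⊤ := by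
    rw [← Subgroup.comap_map_eq, hH, MonoidHom.map_closure, Set.image_insert_eq, Set.image_singleton,
      hα, hβ, hgen, Subgroup.comap_top]
  have hHtop : H = ⊤ := by
    have h1 : commutator Γ ≤ H := by
      rw [SchurMultiplier.commutator_eq_of_sup_center hcen hsup]
      exact Subgroup.commutator_le_self H
    rw [eq_top_iff, ← hsup]
    exact sup_le le_rfl (hcom.trans h1)
  haveI hZn : (Subgroup.zpowers c).Normal := by
    rw [← Subgroup.normalizer_eq_top_iff, eq_top_iff, ← hHtop, hH, Subgroup.closure_le]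
    rintro g (rfl | rfl)
    · rw [SetLike.mem_coe, Involutions.mem_normalizer_iff_map_conj, MonoidHom.map_zpowers]
      show Subgroup.zpowers (g * c * g⁻¹) = _
      rw [hαc.eq, mul_inv_cancel_right]
    · rw [SetLike.mem_coe, Involutions.mem_normalizer_iff_map_conj, MonoidHom.map_zpowers]
      show Subgroup.zpowers (g * c * g⁻¹) = _
      refine Subgroup.eq_of_le_of_card_ge ?_ ?_
      · rw [Subgroup.zpowers_le, hβc]; exact pow_mem (Subgroup.mem_zpowers c) _
      · rw [Nat.card_zpowers, Nat.card_zpowers,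
          show g * c * g⁻¹ = (MulAut.conj g).toMonoidHom c from rfl,
          orderOf_injective _ (MulAut.conj g).injective]
  have hcomm : commutator Γ ≤ Subgroup.zpowers c := by
    refine Subgroup.Normal.quotient_commutative_iff_commutator_le.mp ⟨⟨fun x y => ?_⟩⟩
    set π := QuotientGroup.mk' (Subgroup.zpowers c)
    have hab : π β * π α = π α * π β := by
      have h1 : π c = 1 := (QuotientGroup.eq_one_iff c).mpr (Subgroup.mem_zpowers c)
      have h2 := congrArg π hconj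
      simp only [map_mul, map_inv, h1, mul_one] at h2
      exact mul_inv_eq_iff_eq_mul.mp h2
    have hgen' : ∀ q : Γ ⧸ Subgroup.zpowers c, q ∈ Subgroup.closure ({π α, π β} : Set _) := by
      intro q
      obtain ⟨g, rfl⟩ := QuotientGroup.mk'_surjective _ q
      have : g ∈ H := hHtop ▸ Subgroup.mem_top g
      have := Subgroup.mem_map_of_mem π this
      rwa [hH, MonoidHom.map_closure, Set.image_insert_eq, Set.image_singleton] at this
    refine Subgroup.closure_induction₂ (p := fun u v _ _ => u * v = v * u) ?_ (fun _ _ => by simp)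
      (fun _ _ => by simp) (fun u v w _ _ _ h1 h2 => Commute.mul_left h1 h2)
      (fun u v w _ _ _ h1 h2 => Commute.mul_right h1 h2) (fun u v _ _ h => Commute.inv_left h)
      (fun u v _ _ h => Commute.inv_right h) (hgen' x) (hgen' y)
    rintro u v (rfl | rfl) (rfl | rfl)
    · rfl
    · exact hab.symm
    · exact hab
    · rfl
  have hfix : ∀ k : ℕ, Commute β (α ^ k) → c ^ k = 1 := fun k h => by
    have h1 := hpow k
    rw [h.eq, mul_inv_cancel_right] at h1
    exact mul_eq_left.mp h1.symm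
  obtain ⟨w, hwk, hw⟩ : ∃ w, w ∈ σ.ker ∧ β ^ n = α ^ e * w :=
    ⟨(α ^ e)⁻¹ * β ^ n, by rw [MonoidHom.mem_ker, map_mul, map_inv, map_pow, map_pow, hα, hβ, hb, inv_mul_cancel],
      (mul_inv_cancel_left _ _).symm⟩
  have hwc : ∀ g : Γ, Commute g w := fun g => Subgroup.mem_center_iff.mp (hcen hwk) g
  refine ⟨c, ?_, hcom.trans hcomm, hfix m ?_, hfix e ?_, ?_⟩
  · rw [hc, map_mul, map_pow, hα, MonoidHom.mem_ker.mp hzker, mul_one]
  · exact Subgroup.mem_center_iff.mp (hcen (show α ^ m ∈ σ.ker by rw [MonoidHom.mem_ker, map_pow, hα, ha])) β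
  · have h1 : α ^ e = β ^ n * w⁻¹ := by rw [hw, mul_inv_cancel_right]
    rw [h1]
    exact ((Commute.refl β).pow_right n).mul_right (hwc β).inv_right
  · have hit : ∀ k : ℕ, β ^ k * α * (β ^ k)⁻¹ = α * c ^ (∑ i ∈ Finset.range k, (s + 1) ^ i) := by
      intro k
      induction k with
      | zero => simp
      | succ k ih =>
        rw [pow_succ' β k, show β * β ^ k * α * (β * β ^ k)⁻¹ = β * (β ^ k * α * (β ^ k)⁻¹) * β⁻¹ by group,
          ih, ← MulAut.conj_apply, map_mul, map_pow, MulAut.conj_apply, MulAut.conj_apply, hconj, hβc,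
          ← pow_mul, mul_assoc, ← pow_succ', geom_sum_succ]
    have h1 := hit n
    rw [hw, ((((Commute.refl α).pow_left e)).mul_left (hwc α).symm).eq, mul_inv_cancel_right] at h1
    exact mul_eq_left.mp h1.symm

end upper

/-- The abelian group used for the covering group: `ℤ × ZMod M` modulo `(m, -u)`. -/
abbrev Base (m M : ℕ) (u : ℤ) : Type :=
  (ℤ × ZMod M) ⧸ AddSubgroup.zmultiples ((m : ℤ), -(u : ZMod M))

theorem mk_eq_zero {m M : ℕ} {u : ℤ} (x : ℤ × ZMod M) (e : ℤ) (h1 : x.1 = e * m) (h2 : x.2 = -(e : ZMod M) * u) :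
    (QuotientAddGroup.mk x : Base m M u) = 0 :=
  (QuotientAddGroup.eq_zero_iff x).mpr (AddSubgroup.mem_zmultiples_iff.mpr ⟨e, Prod.ext
    (by simp [h1]) (by simp [h2])⟩)

theorem eq_of_mk_eq_zero {m M : ℕ} {u : ℤ} (x : ℤ × ZMod M)
    (h : (QuotientAddGroup.mk x : Base m M u) = 0) :
    ∃ e : ℤ, x.1 = e * m ∧ x.2 = -(e : ZMod M) * u := by
  obtain ⟨e, rfl⟩ := AddSubgroup.mem_zmultiples_iff.mp ((QuotientAddGroup.eq_zero_iff x).mp h)
  exact ⟨e, by simp, by simp⟩


/-- The stem extension of order `m n M`, together with the order of `a`. -/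
theorem exists_cover {Q : Type} [Group Q] {a b : Q} {m n s e M : ℕ} (u v : ℤ)
    (hm : 0 < m) (hn : 0 < n) (hM : 0 < M)
    (hgen : Subgroup.closure {a, b} = ⊤) (ha : a ^ m = 1) (hb : b ^ n = a ^ e)
    (hab : b * a * b⁻¹ = a ^ (s + 1))
    (huniv : ∀ {G : Type} [Group G] (x y : G), x ^ m = 1 → y ^ n = x ^ e → y * x * y⁻¹ = x ^ (s + 1) →
      ∃ τ : Q →* G, τ a = x ∧ τ b = y)
    (huv : ((u * s + v * m : ℤ) : ZMod M) = 0)
    (hq : ∃ q : ℤ, ((s + 1 : ℤ) ^ n - 1) = q * m ∧
      ((u * q + v * (∑ i ∈ Finset.range n, (s + 1 : ℤ) ^ i) : ℤ) : ZMod M) = 0)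
    (he : ∃ q : ℤ, (s * e : ℤ) = q * m ∧ ((u * q + v * e : ℤ) : ZMod M) = 0)
    (hk : ∃ (k : ℕ) (q : ℤ), (s * k : ℤ) = q * m ∧ ((u * q + v * k : ℤ) : ZMod M) = 1) :
    (∃ (Γ : Type) (_ : Group Γ) (_ : Finite Γ) (σ : Γ →* Q),
      Cfsg.IsStemExtension σ ∧ IsCyclic σ.ker ∧ Nat.card σ.ker = M) ∧
    ∀ j : ℕ, a ^ j = 1 → m ∣ j := by
  haveI : NeZero M := ⟨hM.ne'⟩
  let f : ℤ × ZMod M →+ ℤ × ZMod M :=
    AddMonoidHom.mk' (fun x => ((s + 1 : ℤ) * x.1, x.2 + (v : ZMod M) * (x.1 : ZMod M))) fun x y => by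
      refine Prod.ext ?_ ?_
      · show (s + 1 : ℤ) * (x.1 + y.1) = _
        exact mul_add _ _ _
      · show x.2 + y.2 + (v : ZMod M) * ((x.1 + y.1 : ℤ) : ZMod M) =
          x.2 + (v : ZMod M) * (x.1 : ZMod M) + (y.2 + (v : ZMod M) * (y.1 : ZMod M))
        push_cast; ring
  let φ : Base m M u →+ Base m M u := QuotientAddGroup.map _ _ f <| by
    rintro x hx
    obtain ⟨i, rfl⟩ := AddSubgroup.mem_zmultiples_iff.mp hx
    refine AddSubgroup.mem_comap.mpr ?_
    rw [map_zsmul]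
    refine AddSubgroup.zsmul_mem _ (AddSubgroup.mem_zmultiples_iff.mpr ⟨(s + 1 : ℤ), Prod.ext ?_ ?_⟩) i
    · simp [f]
    · push_cast at huv
      simp [f]
      linear_combination -huv
  have hφ : ∀ (i : ℤ) (j : ZMod M), φ (QuotientAddGroup.mk (i, j)) =
      QuotientAddGroup.mk ((s + 1 : ℤ) * i, j + (v : ZMod M) * (i : ZMod M)) := fun i j => rfl
  have hiter : ∀ (k : ℕ) (i : ℤ) (j : ZMod M), φ^[k] (QuotientAddGroup.mk (i, j)) =
      QuotientAddGroup.mk ((s + 1 : ℤ) ^ k * i,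
        j + (v : ZMod M) * ((∑ l ∈ Finset.range k, (s + 1 : ℤ) ^ l : ℤ) : ZMod M) * (i : ZMod M)) := by
    intro k
    induction k with
    | zero => intro i j; simp
    | succ k ih =>
      intro i j
      rw [Function.iterate_succ_apply', ih, hφ, geom_sum_succ']
      congr 1
      refine Prod.ext ?_ ?_
      · show (s + 1 : ℤ) * ((s + 1 : ℤ) ^ k * i) = (s + 1 : ℤ) ^ (k + 1) * i
        ring
      · push_cast; ring
  obtain ⟨q, hq1, hq2⟩ := hq
  push_cast at hq2
  have hid : ∀ x, φ^[n] x = x := by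
    intro x
    obtain ⟨⟨i, j⟩, rfl⟩ := QuotientAddGroup.mk_surjective x
    rw [hiter, ← sub_eq_zero, ← QuotientAddGroup.mk_sub]
    refine mk_eq_zero _ (q * i) ?_ ?_
    · show (s + 1 : ℤ) ^ n * i - i = q * i * m
      linear_combination i * hq1
    · show j + (v : ZMod M) * ((∑ l ∈ Finset.range n, (s + 1 : ℤ) ^ l : ℤ) : ZMod M) * (i : ZMod M) - j =
        -((q * i : ℤ) : ZMod M) * (u : ZMod M)
      push_cast
      linear_combination (i : ZMod M) * hq2
  obtain ⟨n', hn'⟩ : ∃ n', n = n' + 1 := ⟨n - 1, by omega⟩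
  let φe : Base m M u ≃+ Base m M u :=
    { φ with
      invFun := φ^[n']
      left_inv := fun x => by
        show φ^[n'] (φ x) = x
        rw [← Function.iterate_succ_apply, Nat.succ_eq_add_one, ← hn', hid]
      right_inv := fun x => by
        show φ (φ^[n'] x) = x
        rw [← Function.iterate_succ_apply' φ, Nat.succ_eq_add_one, ← hn', hid] }
  let θ : MulAut (Multiplicative (Base m M u)) := AddEquiv.toMultiplicative φe
  let ψ : Multiplicative ℤ →* MulAut (Multiplicative (Base m M u)) := zpowersHom _ θ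
  let E := SemidirectProduct (Multiplicative (Base m M u)) (Multiplicative ℤ) ψ
  let el : ℤ → ZMod M → E := fun i j => SemidirectProduct.inl (Multiplicative.ofAdd (QuotientAddGroup.mk (i, j)))
  let t : E := SemidirectProduct.inr (Multiplicative.ofAdd 1)
  have hel : ∀ i j i' j', el i j * el i' j' = el (i + i') (j + j') := fun i j i' j' => by
    simp only [el, ← map_mul, ← ofAdd_add, ← QuotientAddGroup.mk_add, Prod.mk_add_mk]
  have helz : ∀ (l i : ℤ) (j : ZMod M), el i j ^ l = el (l * i) ((l : ZMod M) * j) := fun l i j => by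
    simp only [el, ← map_zpow, ← ofAdd_zsmul, ← QuotientAddGroup.mk_zsmul, Prod.smul_mk, smul_eq_mul, zsmul_eq_mul]
  have hel0 : el 0 0 = 1 := map_one _
  have heleq : ∀ i j i' j' (l : ℤ), i - i' = l * m → j - j' = -(l : ZMod M) * u → el i j = el i' j' := by
    intro i j i' j' l h1 h2
    simp only [el]
    congr 2
    rw [← sub_eq_zero, ← QuotientAddGroup.mk_sub]
    exact mk_eq_zero _ l h1 h2
  have helone : ∀ i j, el i j = 1 → ∃ l : ℤ, i = l * m ∧ j = -(l : ZMod M) * u := fun i j h =>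
    eq_of_mk_eq_zero (i, j) (congrArg Multiplicative.toAdd
      (SemidirectProduct.inl_injective (h.trans (map_one _).symm)))
  have htx : ∀ x : Multiplicative (Base m M u),
      t * SemidirectProduct.inl x * t⁻¹ = SemidirectProduct.inl (θ x) := fun x => by
    rw [← map_inv (SemidirectProduct.inr : Multiplicative ℤ →* E), ← SemidirectProduct.inl_aut]
    rfl
  have htel : ∀ i j, t * el i j * t⁻¹ = el ((s + 1 : ℤ) * i) (j + (v : ZMod M) * (i : ZMod M)) := fun i j => by
    simp only [el]; rw [htx]; rfl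
  have hcomL : ∀ x y : Multiplicative (Base m M u),
      (SemidirectProduct.inl x : E) * SemidirectProduct.inl y = SemidirectProduct.inl y * SemidirectProduct.inl x :=
    fun x y => by rw [← map_mul, ← map_mul, mul_comm]
  have hLel : ∀ x : Multiplicative (Base m M u), ∃ i j : ℤ, SemidirectProduct.inl x = el 1 0 ^ i * el 0 1 ^ j := by
    intro x
    obtain ⟨⟨i, j⟩, hx⟩ := QuotientAddGroup.mk_surjective (Multiplicative.toAdd x)
    obtain ⟨j, rfl⟩ := ZMod.intCast_surjective j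
    refine ⟨i, j, ?_⟩
    rw [helz, helz, hel]
    simp only [mul_zero, mul_one, zero_add, add_zero, el]
    rw [hx]; rfl
  have hEel : ∀ g : E, ∃ (x : Multiplicative (Base m M u)) (i : ℤ), g = SemidirectProduct.inl x * t ^ i := by
    intro g
    refine ⟨g.left, Multiplicative.toAdd g.right, ?_⟩
    conv_lhs => rw [← SemidirectProduct.inl_left_mul_inr_right g]
    simp only [t, ← map_zpow, ← ofAdd_zsmul, smul_eq_mul, mul_one, ofAdd_toAdd]
  -- elements fixed by conjugation are central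
  have hcen : ∀ g : E, (∀ x, g * SemidirectProduct.inl x = SemidirectProduct.inl x * g) → g * t = t * g →
      ∀ h : E, h * g = g * h := by
    intro g h1 h2 h
    obtain ⟨x, i, rfl⟩ := hEel h
    exact (Commute.mul_left (h1 x).symm ((Commute.symm h2).zpow_left i)).eq
  obtain ⟨qe, hqe1, hqe2⟩ := he
  push_cast at hqe2
  let z0 : E := (el e 0)⁻¹ * t ^ n
  have htn : ∀ x : Multiplicative (Base m M u),
      t ^ n * SemidirectProduct.inl x * (t ^ n)⁻¹ = SemidirectProduct.inl x := by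
    have h1 : ∀ (l : ℕ) (x : Base m M u), t ^ l * SemidirectProduct.inl (Multiplicative.ofAdd x) * (t ^ l)⁻¹ =
        SemidirectProduct.inl (Multiplicative.ofAdd (φ^[l] x)) := by
      intro l
      induction l with
      | zero => intro x; simp
      | succ l ih =>
        intro x
        rw [pow_succ' t l, show t * t ^ l * SemidirectProduct.inl (Multiplicative.ofAdd x) * (t * t ^ l)⁻¹ =
          t * (t ^ l * SemidirectProduct.inl (Multiplicative.ofAdd x) * (t ^ l)⁻¹) * t⁻¹ by group, ih, htx,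
          Function.iterate_succ_apply']
        rfl
    intro x
    have := h1 n (Multiplicative.toAdd x)
    rwa [hid, ofAdd_toAdd] at this
  have hz0 : ∀ h : E, h * z0 = z0 * h := by
    refine hcen z0 (fun x => ?_) ?_
    · refine (Commute.mul_left (Commute.inv_left ?_) ?_).eq
      · exact hcomL _ x
      · exact mul_inv_eq_iff_eq_mul.mp (htn x)
    · refine (Commute.mul_left (Commute.inv_left ?_) ((Commute.refl t).pow_left n)).eq
      refine (mul_inv_eq_iff_eq_mul.mp ((htel e 0).trans ?_)).symm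
      refine heleq _ _ _ _ qe ?_ ?_
      · linear_combination hqe1
      · rw [zero_add, sub_zero]
        push_cast
        linear_combination hqe2
  set N := Subgroup.zpowers z0 with hN
  have hNc : N ≤ Subgroup.center E := Subgroup.zpowers_le.mpr (Subgroup.mem_center_iff.mpr hz0)
  haveI : N.Normal := ⟨fun x hx g => by
    rw [Subgroup.mem_center_iff.mp (hNc hx) g, mul_inv_cancel_right]; exact hx⟩
  have hNel : ∀ i j, el i j ∈ N → el i j = 1 := by
    intro i j h
    obtain ⟨l, hl⟩ := Subgroup.mem_zpowers_iff.mp h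
    have h1 := congrArg (fun g => Multiplicative.toAdd (SemidirectProduct.rightHom g)) hl
    simp only [z0, el, t, map_zpow, map_mul, map_inv, map_pow, SemidirectProduct.rightHom_inl,
      SemidirectProduct.rightHom_inr, inv_one, one_mul, toAdd_zpow, toAdd_pow, toAdd_ofAdd, toAdd_one,
      smul_eq_mul, mul_one] at h1
    have hl0 : l = 0 := by
      rcases mul_eq_zero.mp h1 with h | h
      · exact h
      · exfalso; simp at h; omega
    rw [hl0, zpow_zero] at hl
    exact hl.symm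
  let π : E →* E ⧸ N := QuotientGroup.mk' N
  let K : E ⧸ N := π (el 0 1)
  have hKc : ∀ g, g * K = K * g := by
    intro g
    obtain ⟨g, rfl⟩ := QuotientGroup.mk'_surjective N g
    show π g * π (el 0 1) = π (el 0 1) * π g
    rw [← map_mul, ← map_mul, hcen (el 0 1) (fun x => hcomL _ x) ?_ g]
    refine (mul_inv_eq_iff_eq_mul.mp ((htel 0 1).trans ?_)).symm
    rw [mul_zero, Int.cast_zero, mul_zero, add_zero]
  have hKz : Subgroup.zpowers K ≤ Subgroup.center (E ⧸ N) :=
    Subgroup.zpowers_le.mpr (Subgroup.mem_center_iff.mpr hKc)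
  haveI : (Subgroup.zpowers K).Normal := ⟨fun x hx g => by
    rw [Subgroup.mem_center_iff.mp (hKz hx) g, mul_inv_cancel_right]; exact hx⟩
  let ρ : E →* (E ⧸ N) ⧸ Subgroup.zpowers K := (QuotientGroup.mk' _).comp π
  have hρ : ∀ g, ρ g = 1 ↔ π g ∈ Subgroup.zpowers K := fun g => QuotientGroup.eq_one_iff _
  have hρK : ρ (el 0 1) = 1 := (hρ _).mpr (Subgroup.mem_zpowers K)
  have hρz : ρ z0 = 1 := by
    rw [hρ]; rw [show π z0 = 1 from (QuotientGroup.eq_one_iff _).mpr (Subgroup.mem_zpowers z0)]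
    exact one_mem _
  have helN : ∀ l : ℕ, el 1 0 ^ l = el l 0 := fun l => by
    rw [← zpow_natCast, helz, mul_one, mul_zero]
  obtain ⟨τ, hτa, hτb⟩ := huniv (ρ (el 1 0)) (ρ t) (by
    rw [← map_pow, helN, show el (m : ℤ) 0 = el 0 1 ^ u by
      rw [helz, mul_zero, mul_one]
      refine heleq _ _ _ _ 1 (by ring) ?_
      simp, map_zpow, hρK, one_zpow]) (by
    have h1 : ρ (el e 0) = ρ (t ^ n) := by
      have := hρz
      simp only [z0, map_mul, map_inv] at this
      exact inv_mul_eq_one.mp this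
    rw [← map_pow ρ, ← map_pow ρ, helN, h1]) (by
    rw [← map_inv, ← map_mul, ← map_mul, htel, ← map_pow, helN,
      show el ((s + 1 : ℤ) * 1) (0 + (v : ZMod M) * ((1 : ℤ) : ZMod M)) = el ((s + 1 : ℕ) : ℤ) 0 * el 0 1 ^ v by
        rw [helz, hel]; simp, map_mul, map_zpow, hρK, one_zpow, mul_one])
  refine ⟨?_, fun j hj => ?_⟩
  swap
  · have h1 := congrArg τ hj
    rw [map_pow, hτa, map_one, ← map_pow, helN, hρ] at h1
    obtain ⟨i, hi⟩ := Subgroup.mem_zpowers_iff.mp h1
    have h2 : el (j : ℤ) 0 * (el 0 1 ^ i)⁻¹ ∈ N := by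
      refine (QuotientGroup.eq_one_iff _).mp ?_
      show π (el (j : ℤ) 0 * (el 0 1 ^ i)⁻¹) = 1
      rw [map_mul, map_inv, map_zpow, ← hi, mul_inv_cancel]
    rw [← zpow_neg, helz, hel] at h2
    obtain ⟨l, hl, -⟩ := helone _ _ (hNel _ _ h2)
    exact Int.natCast_dvd_natCast.mp ⟨l, by rw [mul_comm]; simpa using hl⟩
  let f0 : ℤ × ZMod M →+ Additive Q :=
    (zmultiplesHom (Additive Q) (Additive.ofMul a)).comp (AddMonoidHom.fst ℤ (ZMod M))
  let f1' : Base m M u →+ Additive Q :=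
    QuotientAddGroup.lift _ f0 (AddSubgroup.zmultiples_le.mpr (by
      show f0 _ = 0
      simp [f0, ← ofMul_pow, ha]))
  let f1 : Multiplicative (Base m M u) →* Q := AddMonoidHom.toMultiplicativeLeft f1'
  let f2 : Multiplicative ℤ →* Q := zpowersHom Q b
  have hf1 : ∀ (i : ℤ) (j : ZMod M), f1 (Multiplicative.ofAdd (QuotientAddGroup.mk (i, j))) = a ^ i :=
    fun i j => rfl
  have hstep : ∀ x, f1 (θ x) = b * f1 x * b⁻¹ := by
    intro x
    obtain ⟨⟨i, j⟩, hx⟩ := QuotientAddGroup.mk_surjective (Multiplicative.toAdd x)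
    rw [← ofAdd_toAdd x, ← hx]
    show f1 (Multiplicative.ofAdd (QuotientAddGroup.mk _)) = _
    rw [hf1, hf1, ← conj_zpow, hab, ← zpow_natCast, ← zpow_mul]
    push_cast; rfl
  have hcompat : ∀ g, f1.comp (ψ g).toMonoidHom = (MulAut.conj (f2 g)).toMonoidHom.comp f1 := by
    intro g
    obtain ⟨i, rfl⟩ := Multiplicative.ofAdd.surjective g
    refine MonoidHom.ext fun x => ?_
    show f1 ((θ ^ i) x) = b ^ i * f1 x * (b ^ i)⁻¹
    induction i using Int.induction_on generalizing x with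
    | zero => simp
    | succ i ih =>
      rw [zpow_add_one, MulAut.mul_apply, ih, hstep, zpow_add_one]
      group
    | pred i ih =>
      have h1 : f1 (θ⁻¹ x) = b⁻¹ * f1 x * b := by
        conv_rhs => rw [show x = θ (θ⁻¹ x) from (θ.apply_symm_apply x).symm, hstep]
        group
      rw [zpow_sub_one, MulAut.mul_apply, ih, h1, zpow_sub_one]
      group
  let σE : E →* Q := SemidirectProduct.lift f1 f2 hcompat
  have hσel : ∀ i j, σE (el i j) = a ^ i := fun i j =>
    (SemidirectProduct.lift_inl f1 f2 hcompat _).trans (hf1 i j)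
  have hσt : σE t = b := (SemidirectProduct.lift_inr f1 f2 hcompat _).trans (zpow_one b)
  have hσN : N ≤ σE.ker := Subgroup.zpowers_le.mpr (by
    rw [MonoidHom.mem_ker]
    show σE ((el e 0)⁻¹ * t ^ n) = 1
    rw [map_mul, map_inv, map_pow, hσel, hσt, hb, zpow_natCast, inv_mul_cancel])
  let σ : E ⧸ N →* Q := QuotientGroup.lift N σE hσN
  have hker : σ.ker = Subgroup.zpowers K := by
    refine le_antisymm (fun g hg => ?_) (Subgroup.zpowers_le.mpr ?_)
    · have hcomp : (τ.comp σE) = ρ := by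
        refine SemidirectProduct.hom_ext ?_ ?_
        · refine MonoidHom.ext fun x => ?_
          obtain ⟨i, j, hx⟩ := hLel x
          simp only [MonoidHom.comp_apply, hx, map_mul, map_zpow, hσel, hρK, hτa, zpow_one, zpow_zero, map_one,
            one_zpow, mul_one]
        · refine MonoidHom.ext fun x => ?_
          obtain ⟨i, rfl⟩ := Multiplicative.ofAdd.surjective x
          show τ (σE (SemidirectProduct.inr (Multiplicative.ofAdd i))) = ρ (SemidirectProduct.inr (Multiplicative.ofAdd i))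
          rw [show (SemidirectProduct.inr (Multiplicative.ofAdd i) : E) = t ^ i by
              simp [t, ← map_zpow, ← ofAdd_zsmul],
            map_zpow σE, map_zpow τ, map_zpow ρ, hσt, hτb]
      obtain ⟨g, rfl⟩ := QuotientGroup.mk'_surjective N g
      refine (hρ g).mp ?_
      rw [← hcomp, MonoidHom.comp_apply, show σE g = 1 from hg, map_one]
    · show σE (el 0 1) = 1
      rw [hσel, zpow_zero]
  have hord : orderOf K = M := by
    refine Nat.dvd_antisymm (orderOf_dvd_iff_pow_eq_one.mpr ?_) ?_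
    · show π (el 0 1) ^ M = 1
      rw [← map_pow, ← zpow_natCast, helz]
      simp [hel0]
    · have h1 := pow_orderOf_eq_one K
      generalize orderOf K = o at h1 ⊢
      have h2 : el 0 1 ^ o ∈ N := (QuotientGroup.eq_one_iff _).mp (by
        show π (el 0 1 ^ o) = 1
        rw [map_pow]; exact h1)
      rw [← zpow_natCast, helz] at h2
      obtain ⟨l, hl, hl2⟩ := helone _ _ (hNel _ _ h2)
      rw [mul_zero, eq_comm, mul_eq_zero] at hl
      have hl0 : l = 0 := hl.resolve_right (by exact_mod_cast hm.ne')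
      rw [hl0] at hl2
      exact (ZMod.natCast_eq_zero_iff _ _).mp (by simpa using hl2)
  haveI : Finite (Base m M u) := by
    refine Finite.of_surjective (fun x : Fin m × ZMod M => (QuotientAddGroup.mk ((x.1 : ℤ), x.2) : Base m M u))
      fun y => ?_
    obtain ⟨⟨i, j⟩, rfl⟩ := QuotientAddGroup.mk_surjective y
    have hi := Int.emod_nonneg i (Int.natCast_ne_zero.mpr hm.ne')
    have hi' := Int.emod_lt_of_pos i (Int.natCast_pos.mpr hm)
    refine ⟨(⟨(i % m).toNat, by omega⟩, j + ((i / m : ℤ) : ZMod M) * u), ?_⟩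
    rw [← sub_eq_zero, ← QuotientAddGroup.mk_sub]
    refine mk_eq_zero _ (-(i / m)) ?_ ?_
    · show ((i % m).toNat : ℤ) - i = _
      rw [Int.toNat_of_nonneg hi]
      linear_combination (Int.emod_add_mul_ediv i m)
    · show j + ((i / m : ℤ) : ZMod M) * u - j = _
      push_cast; ring
  haveI : Finite (E ⧸ N) := by
    refine Finite.of_surjective (fun x : Multiplicative (Base m M u) × Fin n =>
      π (SemidirectProduct.inl x.1 * t ^ (x.2 : ℕ))) fun y => ?_
    obtain ⟨g, rfl⟩ := QuotientGroup.mk'_surjective N y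
    obtain ⟨x, i, rfl⟩ := hEel g
    have hi := Int.emod_nonneg i (Int.natCast_ne_zero.mpr hn.ne')
    have hi' := Int.emod_lt_of_pos i (Int.natCast_pos.mpr hn)
    refine ⟨(x * Multiplicative.ofAdd (QuotientAddGroup.mk ((i / n * e : ℤ), (0 : ZMod M))),
      ⟨(i % n).toNat, by omega⟩), ?_⟩
    have h1 : π z0 = 1 := (QuotientGroup.eq_one_iff _).mpr (Subgroup.mem_zpowers z0)
    have h2 : π (t ^ n) = π (el e 0) := by
      simp only [z0, map_mul, map_inv] at h1
      exact (inv_mul_eq_one.mp h1).symm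
    have h3 : el (i / n * e) 0 = el e 0 ^ (i / n) := by rw [helz, mul_zero]
    show π (SemidirectProduct.inl (x * _) * t ^ (i % n).toNat) = π (SemidirectProduct.inl x * t ^ i)
    rw [map_mul SemidirectProduct.inl, show SemidirectProduct.inl (Multiplicative.ofAdd _) = el (i / n * e) 0 from rfl,
      h3]
    conv_rhs => rw [← Int.mul_ediv_add_emod i n, zpow_add, zpow_mul, zpow_natCast, ← Int.toNat_of_nonneg hi,
      zpow_natCast]
    simp only [map_mul, map_zpow, h2, mul_assoc]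
  refine ⟨E ⧸ N, inferInstance, inferInstance, σ, ⟨?_, hker ▸ hKz, ?_⟩, ?_, ?_⟩
  · rw [← MonoidHom.range_eq_top, eq_top_iff, ← hgen, Subgroup.closure_le]
    rintro g (rfl | rfl)
    · exact ⟨π (el 1 0), (hσel 1 0).trans (zpow_one g)⟩
    · exact ⟨π t, hσt⟩
  · rw [hker, Subgroup.zpowers_le]
    obtain ⟨k, qk, hk1, hk2⟩ := hk
    push_cast at hk2
    have h1 : el 0 1 = ⁅t, el 1 0⁆ ^ k := by
      have h2 : ⁅t, el 1 0⁆ = el s v := by
        rw [commutatorElement_def, htel, ← zpow_neg_one, helz, hel]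
        simp
      rw [h2, ← zpow_natCast, helz]
      refine heleq _ _ _ _ (-qk) ?_ ?_
      · linear_combination -hk1
      · push_cast; linear_combination -hk2
    show π (el 0 1) ∈ _
    rw [h1, map_pow, map_commutatorElement]
    exact pow_mem (Subgroup.commutator_mem_commutator (Subgroup.mem_top _) (Subgroup.mem_top _)) k
  · rw [hker]; infer_instance
  · rw [hker, Nat.card_zpowers, hord]

/-- Let `m, n ≥ 1`, `r ≥ 1` with `r ^ n ≡ 1 (mod m)`, and `l` a natural number; put `d = gcd(m, r - 1)`, `t = m l / d` and `h = d · gcd(m, 1 + r + ⋯ + r^(n-1)) / m`. The group presented by generators `a, b` and relations `a ^ m = 1`, `b ^ n = a ^ t`, `b a b⁻¹ = a ^ r` (a metacyclic group of order `m n`) has Schur multiplier cyclic of order `gcd(l, h)`. -/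
theorem result (m n r l : ℕ) (hm : 0 < m) (hn : 0 < n) (hr : 0 < r) (hrn : r ^ n ≡ 1 [MOD m]) : Cfsg.HasCyclicSchurMultiplier (PresentedGroup ({FreeGroup.of true ^ m, (FreeGroup.of false) ^ n * (FreeGroup.of true ^ (m * l / Nat.gcd m (r - 1)))⁻¹, FreeGroup.of false * FreeGroup.of true * (FreeGroup.of false)⁻¹ * (FreeGroup.of true ^ r)⁻¹} : Set (FreeGroup Bool))) (Nat.gcd l (Nat.gcd m (r - 1) * Nat.gcd m (∑ i ∈ Finset.range n, r ^ i) / m)) := by
  obtain ⟨s, rfl⟩ : ∃ s, r = s + 1 := ⟨r - 1, by omega⟩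
  rw [Nat.add_sub_cancel]
  obtain ⟨m₁, r₁, hcop, hm1, hs1⟩ := Nat.exists_coprime m s
  generalize hd : Nat.gcd m s = d at hm1 hs1
  have hd0 : 0 < d := hd ▸ Nat.gcd_pos_of_pos_left s hm
  have hm10 : 0 < m₁ := by rcases Nat.eq_zero_or_pos m₁ with h | h <;> [simp [h] at hm1; exact h]; omega
  have hedef : m * l / d = m₁ * l := by
    rw [hm1, mul_right_comm, Nat.mul_div_cancel _ hd0]
  rw [hedef]
  obtain ⟨S, hS⟩ : ∃ S, S = ∑ i ∈ Finset.range n, (s + 1) ^ i := ⟨_, rfl⟩
  rw [← hS]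
  have hgeom : (s + 1 : ℤ) ^ n - 1 = (s : ℤ) * S := by
    rw [hS]
    push_cast
    rw [← geom_sum_mul, add_sub_cancel_right, mul_comm]
  obtain ⟨q, hq⟩ : ∃ q : ℤ, (s + 1 : ℤ) ^ n - 1 = q * m := by
    have h1 := Nat.modEq_iff_dvd.mp hrn
    push_cast at h1
    obtain ⟨q, hq⟩ := h1
    exact ⟨-q, by linear_combination -hq⟩
  have hdz : (d : ℤ) ≠ 0 := by exact_mod_cast hd0.ne'
  have hq' : q * m₁ = (r₁ : ℤ) * S := by
    refine mul_right_cancel₀ hdz ?_
    have h1 : (m : ℤ) = m₁ * d := by exact_mod_cast hm1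
    have h2 : (s : ℤ) = r₁ * d := by exact_mod_cast hs1
    linear_combination -hq + hgeom - q * h1 + (S : ℤ) * h2
  obtain ⟨v, u, hb⟩ : IsCoprime (m₁ : ℤ) r₁ := Int.isCoprime_iff_gcd_eq_one.mpr (by simpa using hcop)
  have hS1 : m₁ ∣ S := by
    rw [← Int.natCast_dvd_natCast]
    exact ⟨u * q + v * S, by linear_combination -(S : ℤ) * hb - u * hq'⟩
  obtain ⟨t, ht⟩ : m₁ ∣ Nat.gcd m S := Nat.dvd_gcd ⟨d, hm1⟩ hS1
  have htd : d * Nat.gcd m S / m = t := by
    rw [ht, hm1, ← mul_assoc, mul_comm d m₁, Nat.mul_div_cancel_left _ (Nat.mul_pos hm10 hd0)]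
  rw [htd]
  have ht0 : 0 < t := by
    have := Nat.gcd_pos_of_pos_left S hm
    rw [ht] at this
    exact Nat.pos_of_mul_pos_left this
  obtain ⟨M, hM⟩ : ∃ M, M = Nat.gcd l t := ⟨_, rfl⟩
  rw [← hM]
  have hM0 : 0 < M := hM ▸ Nat.gcd_pos_of_pos_right l ht0
  have hMl : ((l : ℤ) : ZMod M) = 0 := by
    rw [Int.cast_natCast, ZMod.natCast_eq_zero_iff]; exact hM ▸ Nat.gcd_dvd_left l t
  have hMt : ((t : ℤ) : ZMod M) = 0 := by
    rw [Int.cast_natCast, ZMod.natCast_eq_zero_iff]; exact hM ▸ Nat.gcd_dvd_right l t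
  set rels : Set (FreeGroup Bool) := {FreeGroup.of true ^ m, (FreeGroup.of false) ^ n * (FreeGroup.of true ^ (m₁ * l))⁻¹,
    FreeGroup.of false * FreeGroup.of true * (FreeGroup.of false)⁻¹ * (FreeGroup.of true ^ (s + 1))⁻¹} with hrels
  set a : PresentedGroup rels := PresentedGroup.of true with hadef
  set b : PresentedGroup rels := PresentedGroup.of false with hbdef
  have hrel : ∀ w ∈ rels, PresentedGroup.mk rels w = 1 := fun w hw =>
    (QuotientGroup.eq_one_iff w).mpr (Subgroup.subset_normalClosure hw)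
  have hof : ∀ i, PresentedGroup.mk rels (FreeGroup.of i) = PresentedGroup.of i := fun i => rfl
  have ha : a ^ m = 1 := by
    have := hrel _ (Set.mem_insert _ _)
    rwa [map_pow, hof] at this
  have hbn : b ^ n = a ^ (m₁ * l) := by
    have := hrel _ (Set.mem_insert_of_mem _ (Set.mem_insert _ _))
    rw [map_mul, map_inv, map_pow, map_pow, hof, hof] at this
    exact mul_inv_eq_one.mp this
  have hab : b * a * b⁻¹ = a ^ (s + 1) := by
    have := hrel _ (Set.mem_insert_of_mem _ (Set.mem_insert_of_mem _ rfl))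
    simp only [map_mul, map_inv, map_pow, hof] at this
    exact mul_inv_eq_one.mp this
  have hgen : Subgroup.closure {a, b} = ⊤ := by
    rw [eq_top_iff, ← PresentedGroup.closure_range_of rels, Subgroup.closure_le]
    rintro _ ⟨(_ | _), rfl⟩
    · exact Subgroup.subset_closure (Or.inr rfl)
    · exact Subgroup.subset_closure (Or.inl rfl)
  have huniv : ∀ {G : Type} [Group G] (x y : G), x ^ m = 1 → y ^ n = x ^ (m₁ * l) → y * x * y⁻¹ = x ^ (s + 1) →
      ∃ τ : PresentedGroup rels →* G, τ a = x ∧ τ b = y := by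
    intro G _ x y h1 h2 h3
    have hf : ∀ w ∈ rels, FreeGroup.lift (fun i : Bool => if i then x else y) w = 1 := by
      rintro w (rfl | rfl | rfl) <;> simp [h1, h2, h3]
    exact ⟨PresentedGroup.toGroup hf, PresentedGroup.toGroup.of hf, PresentedGroup.toGroup.of hf⟩
  obtain ⟨⟨Γ₀, _, _, σ₀, hσ₀, hcyc₀, hcard₀⟩, horda⟩ := exists_cover (M := M) u v hm (Nat.pos_of_ne_zero hn.ne') hM0 hgen ha hbn hab huniv
    (by
      rw [show (u * s + v * m : ℤ) = d * 1 by
        rw [← hb, hs1, hm1]; push_cast; ring, mul_one, Int.cast_natCast, ZMod.natCast_eq_zero_iff]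
      refine (hM ▸ Nat.gcd_dvd_right l t).trans ?_
      exact Nat.dvd_of_mul_dvd_mul_left hm10 (ht ▸ hm1 ▸ Nat.gcd_dvd_left m S))
    (by
      refine ⟨q, hq, ?_⟩
      obtain ⟨w, hw⟩ : Nat.gcd m S ∣ S := Nat.gcd_dvd_right m S
      rw [ht] at hw
      have hw' : (S : ℤ) = m₁ * t * w := by exact_mod_cast hw
      have h1 : u * q + v * S = t * (w : ℤ) := by
        refine mul_left_cancel₀ (show (m₁ : ℤ) ≠ 0 by exact_mod_cast hm10.ne') ?_
        linear_combination u * hq' + (S : ℤ) * hb + hw'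
      rw [show (∑ i ∈ Finset.range n, (s + 1 : ℤ) ^ i) = (S : ℤ) by rw [hS]; push_cast; rfl, h1, Int.cast_mul, hMt,
        zero_mul])
    ⟨(r₁ * l : ℤ), by rw [hs1, hm1]; push_cast; ring, by
      rw [show (u * (r₁ * l : ℤ) + v * ((m₁ * l : ℕ) : ℤ)) = 1 * l by
        rw [← hb]; push_cast; ring, one_mul, hMl]⟩
    ⟨m₁, (r₁ : ℤ), by rw [hs1, hm1]; push_cast; ring, by
      rw [show (u * (r₁ : ℤ) + v * (m₁ : ℤ)) = 1 by rw [← hb]; ring, Int.cast_one]⟩
  refine ⟨⟨Γ₀, inferInstance, inferInstance, σ₀, hσ₀, ?_⟩, fun Γ _ _ σ hσ => ?_⟩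
  · exact ⟨mulEquivOfCyclicCardEq (by rw [hcard₀, ← Nat.card_congr Multiplicative.ofAdd, Nat.card_zmod])⟩
  obtain ⟨c, hσc, hker, hcm, hce, hcS⟩ := stem_ker_metacyclic σ hσ hgen s m n (m₁ * l) ha hbn hab
  rw [← hS] at hcS
  have hk : c ^ m₁ ∈ σ.ker := by
    rw [MonoidHom.mem_ker, map_pow, hσc, ← pow_mul, show s * m₁ = m * r₁ by rw [hs1, hm1]; ring, pow_mul, ha, one_pow]
  have hkM : (⟨c ^ m₁, hk⟩ : σ.ker) ^ M = 1 := by
    refine Subtype.ext ?_
    show (c ^ m₁) ^ M = 1
    rw [← pow_mul, ← orderOf_dvd_iff_pow_eq_one, hM, ← Nat.gcd_mul_left, ← ht]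
    exact Nat.dvd_gcd (orderOf_dvd_iff_pow_eq_one.mpr hce)
      (Nat.dvd_gcd (orderOf_dvd_iff_pow_eq_one.mpr hcm) (orderOf_dvd_iff_pow_eq_one.mpr hcS))
  let π : ZMod M →+ Additive σ.ker := ZMod.lift M
    ⟨zmultiplesHom (Additive σ.ker) (Additive.ofMul ⟨c ^ m₁, hk⟩), by
      simp only [zmultiplesHom_apply, natCast_zsmul, ← ofMul_pow, hkM, ofMul_one]⟩
  refine ⟨AddMonoidHom.toMultiplicativeLeft π, fun x => ?_⟩
  obtain ⟨i, hi⟩ := mem_powers_iff_mem_zpowers.mpr (hker x.2)
  have hi' : c ^ i = (x : Γ) := hi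
  have h1 : a ^ (s * i) = 1 := by
    rw [pow_mul, ← hσc, ← map_pow, hi']; exact x.2
  have h2 : m₁ * d ∣ r₁ * i * d := by
    rw [← hm1, mul_right_comm, ← hs1]; exact horda _ h1
  obtain ⟨j, rfl⟩ := hcop.dvd_of_dvd_mul_left (Nat.dvd_of_mul_dvd_mul_right hd0 h2)
  refine ⟨Multiplicative.ofAdd ((j : ℤ) : ZMod M), Subtype.ext ?_⟩
  show ((Additive.toMul (π ((j : ℤ) : ZMod M)) : σ.ker) : Γ) = x
  simp only [π, ZMod.lift_coe, zmultiplesHom_apply, natCast_zsmul, toMul_nsmul, toMul_ofMul, SubmonoidClass.coe_pow,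
    ← pow_mul, hi']

end Cfsg.Agent.S3967
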