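import Cfsg.Statements.S3968
import Cfsg.Agent.Lib.Characters.Integrality
import Cfsg.Agent.Lib.Characters.Kernel
import Cfsg.Agent.Lib.SylowCounting.ConjClass
import Cfsg.Agent.Lib.Solvable.Nilpotent
import Mathlib.Tactic

set_option autoImplicit false
open Cfsg

namespace Cfsg.Agent.S3968

open Cfsg.Agent.Lib

/-- Scalar elements of a faithful irreducible representation are central. -/
theorem mem_center_of_norm {G V : Type*} [Group G] [Finite G] [AddCommGroup V] [Module ℂ V]
    [FiniteDimensional ℂ V] (ρ : Representation ℂ G V)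
    (hf : ∀ g, ρ.character g = ρ.character 1 → g = 1) {g : G}
    (hg : ‖ρ.character g‖ = (Module.finrank ℂ V : ℝ)) : g ∈ Subgroup.center G := by
  obtain ⟨ω, hω⟩ := (Characters.norm_char_eq_iff ρ g).mp hg
  rw [Subgroup.mem_center_iff]
  intro x
  have h0 : ρ (x * g) = ρ (g * x) := by
    rw [map_mul, map_mul, hω, ← Module.End.one_eq_id, mul_smul_comm, smul_mul_assoc, mul_one, one_mul]
  have h1 : ρ (x * g * x⁻¹ * g⁻¹) = 1 := by
    rw [map_mul, map_mul, h0, ← map_mul, ← map_mul, show g * x * x⁻¹ * g⁻¹ = 1 by group, map_one]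
  have h2 := hf (x * g * x⁻¹ * g⁻¹) (by simp only [Representation.character, h1, map_one])
  exact mul_inv_eq_iff_eq_mul.mp (mul_inv_eq_one.mp h2)

/-- Let `p` be a prime and `G` a finite group with a faithful irreducible complex character of degree `p` (so `G` is an irreducible linear group in `p` variables). If `p ^ 2` divides the order of `G`, then the centre of `G` is nontrivial. -/
theorem result {G : Type*} [Group G] [Finite G] (p : ℕ) (hp : p.Prime) (χ : Cfsg.IrrCharacter G) (hdeg : χ.1 1 = p) (hfaith : ∀ g : G, χ.1 g = χ.1 1 → g = 1) (hdiv : p ^ 2 ∣ Nat.card G) : Subgroup.center G ≠ ⊥ := by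
  classical
  intro hZ
  haveI := Fact.mk hp
  have hχirr := χ.2
  obtain ⟨d, ρ, hρ, hχ'⟩ := χ.2
  have hχ : χ.1 = ρ.character := hχ'.symm
  have hd : Module.finrank ℂ (Fin d → ℂ) = p := by
    have h1 := hdeg
    rw [hχ, ρ.char_one] at h1
    exact_mod_cast h1
  have hcent : ∀ g : G, ‖χ.1 g‖ = (p : ℝ) → g = 1 := by
    intro g hg
    refine Subgroup.mem_bot.mp (hZ ▸ mem_center_of_norm ρ (fun x hx => hfaith x ?_) ?_)
    · rw [hχ]; exact hx
    · rw [← hχ, hd]; exact hg
  obtain ⟨P⟩ : Nonempty (Sylow p G) := inferInstance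
  have hval : ∀ z ∈ Subgroup.center (P : Subgroup G), z ≠ 1 → χ.1 (z : G) = 0 := by
    intro z hz hz1
    have hcop : Nat.Coprime (Module.finrank ℂ (Fin d → ℂ)) (Nat.card {x : G // IsConj (z : G) x}) := by
      rw [hd, hp.coprime_iff_not_dvd]
      intro hdv
      refine P.not_dvd_index (hdv.trans ?_)
      have hPC : (P : Subgroup G) ≤ Subgroup.centralizer ({(z : G)} : Set G) := fun x hx =>
        Subgroup.mem_centralizer_singleton_iff.mpr
          (congrArg Subtype.val (Subgroup.mem_center_iff.mp hz ⟨x, hx⟩))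
      refine dvd_trans (dvd_of_eq ?_) (Subgroup.index_dvd_of_le hPC)
      exact (Nat.eq_of_mul_eq_mul_right (Nat.card_pos (α := Subgroup.centralizer ({(z : G)} : Set G)))
        ((SylowCounting.card_conjClass_mul_card_centralizer (z : G)).trans (Subgroup.index_mul_card _).symm))
    rcases Characters.char_eq_zero_or_norm_eq_of_coprime ρ (z : G) hcop with h | h
    · rw [hχ]; exact h
    · refine absurd (Subtype.ext (hcent _ ?_)) hz1
      rw [hχ, h, hd]
  set Z := Subgroup.center (P : Subgroup G) with hZd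
  haveI := Fintype.ofFinite G
  haveI := Fintype.ofFinite Z
  haveI := Fintype.ofFinite (P : Subgroup G)
  have hφ : IsCharacter (P : Subgroup G) fun x => χ.1 x :=
    Characters.IsCharacter.restrict (Characters.IsIrrCharacter.isCharacter χ.2) _
  have hψ : IsCharacter Z fun x => χ.1 (x : (P : Subgroup G)) := Characters.IsCharacter.restrict hφ Z
  obtain ⟨k, hk⟩ := Characters.IsCharacter.exists_classInner_nat hψ (Characters.isCharacter_one (G := Z))
  have hZp : Nat.card Z ∣ p := by
    rw [classInner, Finset.sum_eq_single (1 : Z)] at hk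
    · simp only [OneMemClass.coe_one, hdeg, map_one, mul_one] at hk
      refine ⟨k, ?_⟩
      have h0 : (Nat.card Z : ℂ) ≠ 0 := by exact_mod_cast Nat.card_pos.ne'
      field_simp at hk
      exact_mod_cast hk
    · intro z _ hz
      rw [hval z z.2 (fun h => hz (Subtype.ext h)), zero_mul]
    · simp
  have hPdiv : p ^ 2 ∣ Nat.card (P : Subgroup G) := P.pow_dvd_card_of_pow_dvd_card hdiv
  have hP2 : p < Nat.card (P : Subgroup G) := by
    refine lt_of_lt_of_le ?_ (Nat.le_of_dvd Nat.card_pos hPdiv)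
    rw [sq]; exact lt_mul_of_one_lt_left hp.pos hp.one_lt
  haveI := Fintype.ofFinite (IrrCharacter (P : Subgroup G))
  haveI : Group.IsNilpotent (P : Subgroup G) := P.isPGroup'.isNilpotent
  have hcne : commutator (P : Subgroup G) ≠ ⊥ := by
    intro hb
    have hab : Z = ⊤ := by
      rw [hZd, eq_top_iff]
      intro x _
      rw [Subgroup.mem_center_iff]
      intro y
      refine commutatorElement_eq_one_iff_mul_comm.mp (Subgroup.mem_bot.mp (hb ▸ ?_))
      exact Subgroup.commutator_mem_commutator (Subgroup.mem_top y) (Subgroup.mem_top x)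
    rw [hab, Subgroup.card_top] at hZp
    exact absurd (Nat.le_of_dvd hp.pos hZp) (not_le.mpr hP2)
  obtain ⟨z, ⟨hzc, hzZ⟩, hz1⟩ := (Subgroup.bot_or_exists_ne_one _).resolve_left
    (Solvable.inf_center_ne_bot hcne)
  have hz0 := hval z hzZ hz1
  obtain ⟨m, hm, -⟩ := Characters.IsCharacter.exists_nat_decomp hφ
  have hat : ∀ x : (P : Subgroup G), χ.1 (x : G) = ∑ ψ : IrrCharacter (P : Subgroup G), (m ψ : ℂ) * ψ.1 x := fun x => by
    have := congrFun hm x
    simpa using this
  by_cases hlin : ∀ ψ : IrrCharacter (P : Subgroup G), m ψ ≠ 0 → ψ.1 1 = 1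
  · have h1 : χ.1 (z : G) = χ.1 1 := by
      rw [hat z, ← OneMemClass.coe_one (P : Subgroup G), hat 1]
      refine Finset.sum_congr rfl fun ψ _ => ?_
      by_cases hm0 : m ψ = 0
      · rw [hm0]; simp
      obtain ⟨lam, hlam⟩ := Characters.IsCharacter.exists_hom_of_apply_one (Characters.irr_isCharacter ψ) (hlin ψ hm0)
      have hlc : commutator (P : Subgroup G) ≤ lam.ker := Abelianization.commutator_subset_ker _
      rw [show ψ.1 = fun x => (lam x : ℂ) from hlam]
      simp [MonoidHom.mem_ker.mp (hlc hzc)]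
    rw [h1, hdeg] at hz0
    exact hp.ne_zero (by exact_mod_cast hz0)
  push Not at hlin
  obtain ⟨ψ, hψ0, hψ1⟩ := hlin
  have hdegs : ∀ θ : IrrCharacter (P : Subgroup G), ∃ e : ℕ, θ.1 1 = e ∧ ∃ j, e = p ^ j := by
    intro θ
    obtain ⟨e, -, he, hed⟩ := Characters.IsIrrCharacter.exists_degree_dvd θ.2
    obtain ⟨t, ht⟩ := IsPGroup.iff_card.mp P.isPGroup'
    rw [ht] at hed
    obtain ⟨j, -, hj⟩ := (Nat.dvd_prime_pow hp).mp hed
    exact ⟨e, he, j, hj⟩
  choose e he hj using hdegs
  have hsum : p = ∑ θ, m θ * e θ := by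
    have := hat 1
    rw [OneMemClass.coe_one, hdeg] at this
    simp only [he] at this
    exact_mod_cast this
  have heψ : p ≤ e ψ := by
    obtain ⟨j, hj'⟩ := hj ψ
    rcases Nat.eq_zero_or_pos j with rfl | hj0
    · exact absurd (by rw [he ψ, hj', pow_zero, Nat.cast_one]) hψ1
    · exact hj' ▸ Nat.le_self_pow hj0.ne' p
  have hrest : ∀ θ, θ ≠ ψ → m θ = 0 := by
    intro θ hθ
    by_contra hm0
    have h2 : m θ * e θ + m ψ * e ψ ≤ p := by
      rw [hsum, ← Finset.sum_pair (f := fun t => m t * e t) hθ]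
      exact Finset.sum_le_sum_of_subset (Finset.subset_univ _)
    have h3 : 0 < e θ := by obtain ⟨j, hj'⟩ := hj θ; rw [hj']; exact pow_pos hp.pos j
    have h4 : e ψ ≤ m ψ * e ψ := Nat.le_mul_of_pos_left _ (Nat.pos_of_ne_zero hψ0)
    have h5 : 0 < m θ * e θ := Nat.mul_pos (Nat.pos_of_ne_zero hm0) h3
    omega
  rw [Finset.sum_eq_single ψ (fun θ _ hθ => by rw [hrest θ hθ, zero_mul]) (by simp)] at hsum
  have hm1 : m ψ = 1 := by
    have h4 : e ψ ≤ m ψ * e ψ := Nat.le_mul_of_pos_left _ (Nat.pos_of_ne_zero hψ0)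
    have h5 : e ψ = p := le_antisymm (hsum ▸ h4) heψ
    exact (Nat.mul_eq_right (by rw [h5]; exact hp.ne_zero)).mp (hsum.symm.trans h5.symm)
  have hφψ : ∀ x : (P : Subgroup G), χ.1 (x : G) = ψ.1 x := fun x => by
    rw [hat x, Finset.sum_eq_single ψ (fun θ _ hθ => by rw [hrest θ hθ]; simp) (by simp), hm1, Nat.cast_one, one_mul]
  obtain ⟨d', σ, hσ, hψσ'⟩ := ψ.2
  have hψσ : ψ.1 = σ.character := hψσ'.symm
  obtain ⟨c, hc⟩ := Characters.exists_smul_of_commute σ (σ z) fun g => by
    rw [← map_mul, ← map_mul, Subgroup.mem_center_iff.mp hzZ g]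
  have hn := (Characters.norm_char_eq_iff σ z).mpr ⟨c, hc⟩
  have hd' : (Module.finrank ℂ (Fin d' → ℂ) : ℂ) = p := by
    rw [← σ.char_one, ← hψσ, ← hφψ 1, OneMemClass.coe_one, hdeg]
  rw [← hψσ, ← hφψ z, hz0, norm_zero] at hn
  exact hp.ne_zero (by
    have : Module.finrank ℂ (Fin d' → ℂ) = p := by exact_mod_cast hd'
    rw [← this]; exact_mod_cast hn.symm)

end Cfsg.Agent.S3968
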