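import Cfsg.Statements.S3969
import Cfsg.Agent.Lib.PGroups.BurnsideBasis
import Cfsg.Agent.Lib.Cores.Frattini
import Cfsg.Agent.Lib.Transfer.Frobenius
import Mathlib.GroupTheory.Schreier

set_option autoImplicit false
open Cfsg

namespace Cfsg.Agent.S3969

open Cfsg.Agent.Lib

theorem coprime_aut {P : Type*} [Group P] [Finite P] {p : ℕ} [hp : Fact p.Prime] (hP : IsPGroup p P)
    (hc : ∀ a b : P, a * b = b * a) {o : ℕ} (hop : o.Coprime p)
    (ho : o.Coprime (∏ i ∈ Finset.Icc 1 (Group.rank P), (p ^ i - 1))) :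
    o.Coprime (Nat.card (MulAut P)) := by
  letI : CommGroup P := { (inferInstance : Group P) with mul_comm := hc }
  have he : ∀ x : P ⧸ frattini P, x ^ p = 1 := Cores.pow_eq_one_quotient_frattini hP
  have hcq : ∀ a b : P ⧸ frattini P, a * b = b * a := fun a b => mul_comm a b
  obtain ⟨r, hr⟩ := IsPGroup.iff_card.mp (hP.to_quotient (frattini P))
  have hrd : r ≤ Group.rank P := by
    have h1 := (card_dvd_exponent_pow_rank' (G := P ⧸ frattini P) he)
    rw [hr, Nat.pow_dvd_pow_iff_le_right hp.out.one_lt] at h1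
    exact h1.trans (Group.rank_le_of_surjective (QuotientGroup.mk' (frattini P)) (QuotientGroup.mk'_surjective _))
  obtain ⟨f, hf⟩ := IsPGroup.iff_card.mp (hP.to_subgroup (frattini P))
  have h := PGroups.card_mulAut_dvd (G := P) (r := r)
  rw [PGroups.card_generating_tuples hcq he hr, hf] at h
  refine Nat.Coprime.coprime_dvd_right h (Nat.Coprime.mul_right ((hop.pow_right f).pow_right r) ?_)
  refine Nat.Coprime.prod_right fun i hi => ?_
  have hir := Finset.mem_range.mp hi
  have e : p ^ r - p ^ i = p ^ i * (p ^ (r - i) - 1) := by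
    rw [Nat.mul_sub, mul_one, ← pow_add, Nat.add_sub_cancel' hir.le]
  rw [e]
  refine (hop.pow_right i).mul_right (ho.coprime_dvd_right ?_)
  exact Finset.dvd_prod_of_mem _ (Finset.mem_Icc.mpr ⟨by omega, by omega⟩)

/-- Let `P` be an abelian Sylow `p`-subgroup of the finite group `G`, generated by `d` elements (`d` its minimal number of generators). If the order of `G` is coprime to `(p - 1)(p ^ 2 - 1) ⋯ (p ^ d - 1)`, then `G` has a normal `p`-complement. (The classical statement needs only the largest number of cyclic factors of `P` of equal order in place of `d`; the form here follows from it.) -/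
theorem result {G : Type*} [Group G] [Finite G] (p : ℕ) [Fact p.Prime] (P : Sylow p G) (hab : IsMulCommutative (P : Subgroup G)) (hcop : Nat.Coprime (Nat.card G) (∏ i ∈ Finset.Icc 1 (Group.rank (P : Subgroup G)), (p ^ i - 1))) : Cfsg.HasNormalPComplement p G := by
  have hp := (Fact.out : p.Prime)
  refine Transfer.hasNormalPComplement_of_normalizer_le_centralizer P fun n hn => ?_
  set M := Subgroup.normalizer ((P : Subgroup G) : Set G)
  let φ : M →* MulAut (P : Subgroup G) := Subgroup.normalizerMonoidHom _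
  have hPk : ((P : Subgroup G).subgroupOf M) ≤ φ.ker := by
    rw [Subgroup.normalizerMonoidHom_ker]
    intro u hu
    rw [Subgroup.mem_subgroupOf, Subgroup.mem_centralizer_iff]
    exact fun v hv => congrArg Subtype.val (hab.is_comm.comm ⟨v, hv⟩ ⟨u, Subgroup.mem_subgroupOf.mp hu⟩)
  have ho1 : orderOf (φ ⟨n, hn⟩) ∣ φ.ker.index := by
    rw [Subgroup.index_ker]
    exact Subgroup.orderOf_dvd_natCard _ (MonoidHom.mem_range.mpr ⟨_, rfl⟩)
  have hop : (orderOf (φ ⟨n, hn⟩)).Coprime p := by
    rw [Nat.coprime_comm, Nat.Prime.coprime_iff_not_dvd hp]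
    intro hd
    refine P.not_dvd_index ((hd.trans (ho1.trans (Subgroup.index_dvd_of_le hPk))).trans ?_)
    exact Subgroup.relIndex_dvd_index_of_le Subgroup.le_normalizer
  have hoG : orderOf (φ ⟨n, hn⟩) ∣ Nat.card G :=
    ((orderOf_map_dvd φ _).trans (orderOf_dvd_natCard _)).trans (Subgroup.card_subgroup_dvd_card M)
  have h1 : φ ⟨n, hn⟩ = 1 := orderOf_eq_one_iff.mp (Nat.eq_one_of_dvd_coprimes
    (coprime_aut (p := p) P.isPGroup' (fun a b => hab.is_comm.comm a b) hop
      (hcop.coprime_dvd_left hoG)) dvd_rfl (orderOf_dvd_natCard _))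
  have h2 : (⟨n, hn⟩ : M) ∈ φ.ker := h1
  rw [Subgroup.normalizerMonoidHom_ker] at h2
  exact h2

end Cfsg.Agent.S3969
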