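import Cfsg.Statements.S3970
import Cfsg.Agent.S3969
import Mathlib.Tactic

set_option autoImplicit false
open Cfsg

namespace Cfsg.Agent.S3970

universe u

/-- The hypothesis on the Sylow subgroups. -/
def SmallAb (G : Type u) [Group G] [Finite G] : Prop :=
  ∀ p : ℕ, p.Prime → p ∣ Nat.card G → (∃ q : ℕ, q.Prime ∧ q ∣ Nat.card G ∧ p < q) →
    ∀ P : Sylow p G, IsMulCommutative (P : Subgroup G) ∧ Group.rank (P : Subgroup G) ≤ 2

theorem rank_le_one {P : Type*} [Group P] [Finite P] (h : IsCyclic P) : Group.rank P ≤ 1 := by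
  obtain ⟨g, hg⟩ := h.exists_generator
  have hc : Subgroup.closure ((↑({g} : Finset P)) : Set P) = ⊤ := by
    rw [Finset.coe_singleton, ← Subgroup.zpowers_eq_closure, Subgroup.eq_top_iff']
    exact hg
  simpa using Group.rank_le hc

theorem isSolvable_aux : ∀ (c : ℕ) (G : Type u) [Group G] [Finite G], Nat.card G = c →
    SmallAb G → ¬ 12 ∣ Nat.card G → Group.IsSolvable G := by
  intro c
  induction c using Nat.strong_induction_on with
  | _ c ih =>
  intro G _ _ hc h h12
  by_cases hq : ∃ p q : ℕ, p.Prime ∧ q.Prime ∧ p ∣ Nat.card G ∧ q ∣ Nat.card G ∧ p < q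
  · obtain ⟨p₀, q, hp₀, hq', hp₀d, hqd, hlt⟩ := hq
    have hne : (Nat.card G).primeFactors.Nonempty :=
      ⟨p₀, Nat.mem_primeFactors.mpr ⟨hp₀, hp₀d, Nat.card_pos.ne'⟩⟩
    set p := (Nat.card G).primeFactors.min' hne
    have hpm := (Nat.card G).primeFactors.min'_mem hne
    have hp : p.Prime := Nat.prime_of_mem_primeFactors hpm
    have hpd : p ∣ Nat.card G := Nat.dvd_of_mem_primeFactors hpm
    have hmin : ∀ r : ℕ, r.Prime → r ∣ Nat.card G → p ≤ r := fun r hr hd =>
      Finset.min'_le _ r (Nat.mem_primeFactors.mpr ⟨hr, hd, Nat.card_pos.ne'⟩)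
    have hpq : p < q := (hmin p₀ hp₀ hp₀d).trans_lt hlt
    haveI := Fact.mk hp
    let P : Sylow p G := default
    obtain ⟨hab, hrank⟩ := h p hp hpd ⟨q, hq', hqd, hpq⟩ P
    have hcop : Nat.Coprime (Nat.card G)
        (∏ i ∈ Finset.Icc 1 (Group.rank (P : Subgroup G)), (p ^ i - 1)) := by
      refine Nat.coprime_of_dvd fun r hr hrG hrP => ?_
      obtain ⟨i, hi, hri⟩ := (Prime.dvd_finsetProd_iff (Nat.prime_iff.mp hr) _).mp hrP
      obtain ⟨hi1, hi2⟩ := Finset.mem_Icc.mp hi
      have hrp := hmin r hr hrG
      have hi12 : i = 1 ∨ i = 2 := by omega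
      have hp2le := hp.two_le
      rcases hi12 with rfl | rfl
      · rw [pow_one] at hri
        have := Nat.le_of_dvd (by have := hp.two_le; omega) hri
        omega
      · rw [show p ^ 2 - 1 = (p + 1) * (p - 1) by rw [← Nat.sq_sub_sq, one_pow]] at hri
        rcases hr.dvd_mul.mp hri with h1 | h1
        · have hle := Nat.le_of_dvd (by omega) h1
          have h2 := hp.two_le
          rcases (show r = p ∨ r = p + 1 by omega) with rfl | rfl
          · exact hp.ne_one (Nat.dvd_one.mp ((Nat.dvd_add_right dvd_rfl).mp h1))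
          · rcases hp.eq_two_or_odd' with hp2 | ⟨k, hk⟩
            · have hc2 : Nat.card P = 2 := by
                obtain ⟨e, he⟩ := IsPGroup.iff_card.mp P.isPGroup'
                have he1 : 1 ≤ e := Nat.one_le_iff_ne_zero.mpr fun h0 => by
                  have := P.dvd_card_of_dvd_card hpd
                  rw [he, h0, pow_zero] at this
                  exact hp.ne_one (Nat.dvd_one.mp this)
                have he2 : e < 2 := by
                  by_contra hle2
                  have h4 : 4 ∣ Nat.card G := by
                    have := (pow_dvd_pow p (not_lt.mp hle2)).trans (he ▸ Subgroup.card_subgroup_dvd_card (P : Subgroup G))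
                    rwa [hp2] at this
                  have h3 : 3 ∣ Nat.card G := by rwa [hp2] at hrG
                  exact h12 (Nat.Coprime.mul_dvd_of_dvd_of_dvd (by norm_num : Nat.Coprime 4 3) h4 h3)
                rw [he, show e = 1 by omega, pow_one, hp2]
              haveI := Fact.mk Nat.prime_two
              have hr1 := rank_le_one (isCyclic_of_prime_card (α := (P : Subgroup G)) hc2)
              omega
            · have := hr.eq_two_or_odd'
              rcases this with h3 | ⟨l, hl⟩ <;> omega
        · have := Nat.le_of_dvd (by have := hp.two_le; omega) h1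
          omega
    obtain ⟨Q, N, hN, hNc⟩ := Cfsg.Agent.S3969.result p P hab hcop
    haveI := hN
    have hQ1 : 1 < Nat.card Q :=
      hp.one_lt.trans_le (Nat.le_of_dvd Nat.card_pos (Q.dvd_card_of_dvd_card hpd))
    have hcard : Nat.card N * Nat.card Q = Nat.card G := hNc.card_mul
    have hNlt : Nat.card N < c := by
      rw [← hc, ← hcard]; exact lt_mul_of_one_lt_right Nat.card_pos hQ1
    have hpN : ¬ p ∣ Nat.card N := fun hd => Q.not_dvd_index (hNc.index_eq_card.symm ▸ hd)
    have hNd : Nat.card N ∣ Nat.card G := Subgroup.card_subgroup_dvd_card N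
    have hNsol : Group.IsSolvable N := by
      refine ih _ hNlt N rfl (fun r hr hrN hex S => ?_) fun hd => h12 (hd.trans hNd)
      haveI := Fact.mk hr
      obtain ⟨t, ht, htN, hrt⟩ := hex
      have hrp : r ≠ p := fun he => hpN (he ▸ hrN)
      let S' : Sylow r G := Sylow.ofCard ((S : Subgroup N).map N.subtype) (by
        rw [Subgroup.card_subtype, S.card_eq_multiplicity]
        congr 1
        rw [← hcard, Nat.factorization_mul Nat.card_pos.ne' Nat.card_pos.ne', Finsupp.add_apply,
          Q.card_eq_multiplicity, hp.factorization_pow, Finsupp.single_eq_of_ne hrp, add_zero])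
      obtain ⟨hab', hrank'⟩ := h r hr (hrN.trans hNd) ⟨t, ht, htN.trans hNd, hrt⟩ S'
      let e : (S : Subgroup N) ≃* (S' : Subgroup G) :=
        (S : Subgroup N).equivMapOfInjective N.subtype N.subtype_injective
      refine ⟨⟨⟨fun a b => e.injective (by rw [map_mul, map_mul]; exact hab'.is_comm.comm _ _)⟩⟩, ?_⟩
      rw [Group.rank_congr e]
      exact hrank'
    refine (Group.isSolvable_iff_subgroup_quotient N).mpr ⟨hNsol, ?_⟩
    have hquot : IsPGroup p (G ⧸ N) := by
      obtain ⟨e, he⟩ := IsPGroup.iff_card.mp Q.isPGroup'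
      exact IsPGroup.of_card (n := e) (by rw [← Subgroup.index_eq_card, hNc.symm.index_eq_card, he])
    haveI := hquot.isNilpotent
    infer_instance
  · push Not at hq
    by_cases h1 : Nat.card G = 1
    · haveI := (Nat.card_eq_one_iff_unique.mp h1).1
      infer_instance
    obtain ⟨p, hp, hpd⟩ := Nat.exists_prime_and_dvd h1
    haveI := Fact.mk hp
    have hGp : IsPGroup p G := IsPGroup.of_card (n := (Nat.card G).primeFactorsList.length)
      (Nat.eq_prime_pow_of_unique_prime_dvd Nat.card_pos.ne' fun {d} hd hdd =>
        le_antisymm (hq p d hp hd hpd hdd) (hq d p hd hp hdd hpd))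
    haveI := hGp.isNilpotent
    infer_instance

/-- Let `G` be a finite group such that for every prime `p` dividing its order, other than the largest such prime, the Sylow `p`-subgroups are abelian and generated by at most two elements, and suppose `12` does not divide the order of `G`. Then `G` is solvable. In particular a group of cube-free order not divisible by `12` is solvable. -/
theorem result {G : Type*} [Group G] [Finite G] (h : ∀ p : ℕ, p.Prime → p ∣ Nat.card G → (∃ q : ℕ, q.Prime ∧ q ∣ Nat.card G ∧ p < q) → ∀ P : Sylow p G, IsMulCommutative (P : Subgroup G) ∧ Group.rank (P : Subgroup G) ≤ 2) (h12 : ¬ 12 ∣ Nat.card G) : Group.IsSolvable G := by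
  exact isSolvable_aux _ G rfl h h12

end Cfsg.Agent.S3970
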