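import Cfsg.Statements.S3971
import Cfsg.Agent.Lib.PGroups.BurnsideBasis
import Cfsg.Agent.Lib.Cores.Frattini
import Cfsg.Agent.Lib.Transfer.Frobenius
import Mathlib.GroupTheory.IndexNormal
import Mathlib.Tactic

set_option autoImplicit false
open Cfsg

namespace Cfsg.Agent.S3971

open Cfsg.Agent.Lib

/-- The automorphism group of a `2`-group with a cyclic subgroup of index at most `2` is a `{2,3}`-group. -/
theorem prime_dvd_card_mulAut {U : Type*} [Group U] [Finite U] (hU : IsPGroup 2 U) (V : Subgroup U)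
    (hV : IsCyclic V) (hidx : V.index ∣ 2) {q : ℕ} (hq : q.Prime) (hdvd : q ∣ Nat.card (MulAut U)) :
    q = 2 ∨ q = 3 := by
  haveI := Fact.mk Nat.prime_two
  have hsq := Cores.pow_eq_one_quotient_frattini (p := 2) hU
  set W := V.map (QuotientGroup.mk' (frattini U))
  haveI : IsCyclic W :=
    isCyclic_of_surjective ((QuotientGroup.mk' (frattini U)).subgroupMap V) (MonoidHom.subgroupMap_surjective _ _)
  have h2 : Nat.card W ∣ 2 := by
    rw [← IsCyclic.exponent_eq_card, Monoid.exponent_dvd_iff_forall_pow_eq_one]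
    exact fun w => Subtype.ext (hsq w)
  have h4 : Nat.card (U ⧸ frattini U) ∣ 2 ^ 2 := by
    rw [← W.card_mul_index, sq]
    exact Nat.mul_dvd_mul h2 ((Subgroup.index_map_dvd _ (QuotientGroup.mk'_surjective _)).trans hidx)
  obtain ⟨r, hr, hcard⟩ := (Nat.dvd_prime_pow Nat.prime_two).mp h4
  have hc : ∀ a b : U ⧸ frattini U, a * b = b * a := fun a b => by
    have hinv : ∀ x : U ⧸ frattini U, x⁻¹ = x := fun x => inv_eq_of_mul_eq_one_right (by rw [← sq]; exact hsq x)
    calc a * b = (a * b)⁻¹ := (hinv _).symm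
      _ = b * a := by rw [mul_inv_rev, hinv, hinv]
  have h := hdvd.trans (PGroups.card_mulAut_dvd (G := U) (r := r))
  rw [PGroups.card_generating_tuples hc hsq hcard] at h
  obtain ⟨j, hj⟩ := IsPGroup.iff_card.mp (hU.to_subgroup (frattini U))
  rw [hj, ← pow_mul] at h
  rcases hq.dvd_mul.mp h with h | h
  · exact Or.inl ((Nat.prime_dvd_prime_iff_eq hq Nat.prime_two).mp (hq.dvd_of_dvd_pow h))
  · interval_cases r
    · simp at h; exact absurd h hq.one_lt.ne'
    · simp at h; exact absurd h hq.one_lt.ne'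
    · simp [Finset.prod_range_succ] at h
      have hle := Nat.le_of_dvd (by norm_num) h
      have := hq.two_le
      interval_cases q <;> first | (left; rfl) | (right; rfl) | (exfalso; revert hq; norm_num; done) | omega | (exfalso; omega)

theorem isCyclic_or {G : Type*} [Group G] [Finite G] (a : ℕ) (P : Sylow 2 G) (hP : Nat.card P = 2 ^ a)
    {x : G} (hx : orderOf x = 2 ^ (a - 1)) (hxP : x ∈ (P : Subgroup G)) (U : Subgroup G)
    (hUP : U ≤ (P : Subgroup G)) : ∃ V : Subgroup U, IsCyclic V ∧ V.index ∣ 2 := by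
  haveI := Fact.mk Nat.prime_two
  refine ⟨(Subgroup.zpowers x).subgroupOf U, ?_, ?_⟩
  · exact isCyclic_of_injective
      (MonoidHom.mk' (fun w => (⟨(w : G), Subgroup.mem_subgroupOf.mp w.2⟩ : Subgroup.zpowers x)) fun _ _ => rfl)
      fun w w' e => Subtype.ext (Subtype.ext (congrArg (fun t : Subgroup.zpowers x => (t : G)) e))
  · show (Subgroup.zpowers x).relIndex U ∣ 2
    have hxP' : Subgroup.zpowers x ≤ (P : Subgroup G) := Subgroup.zpowers_le.mpr hxP
    have h1 := Subgroup.relIndex_mul_relIndex ⊥ (Subgroup.zpowers x) (P : Subgroup G) bot_le hxP'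
    rw [Subgroup.relIndex_bot_left, Subgroup.relIndex_bot_left, Nat.card_zpowers, hx, hP] at h1
    have h2 : (Subgroup.zpowers x).relIndex (P : Subgroup G) ∣ 2 := by
      rcases Nat.eq_zero_or_pos a with rfl | ha
      · exact dvd_of_eq (by simpa using h1) |>.trans (one_dvd 2)
      · obtain ⟨b, rfl⟩ : ∃ b, a = b + 1 := ⟨a - 1, by omega⟩
        rw [Nat.add_sub_cancel, pow_succ] at h1
        exact (Nat.eq_of_mul_eq_mul_left (pow_pos two_pos b) h1).dvd
    haveI : ((Subgroup.zpowers x).subgroupOf (P : Subgroup G)).Normal := by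
      rcases (Nat.dvd_prime Nat.prime_two).mp h2 with h | h
      · rw [Subgroup.relIndex_eq_one.mp h |>.antisymm hxP', Subgroup.subgroupOf_self]; infer_instance
      · exact Subgroup.normal_of_index_eq_two h
    refine dvd_trans ?_ h2
    show (Subgroup.zpowers x).relIndex U ∣ ((Subgroup.zpowers x).subgroupOf (P : Subgroup G)).index
    rw [← Subgroup.relIndex_subgroupOf hUP]
    exact Subgroup.relIndex_dvd_index_of_normal _ _

/-- Let `G` be a finite group of order `2 ^ a * n` with `n` odd and not divisible by `3`, and suppose `G` has an element of order `2 ^ (a - 1)` (so a Sylow `2`-subgroup has a cyclic subgroup of index at most `2`). Then `G` has a normal subgroup of order `n`. -/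
theorem result {G : Type*} [Group G] [Finite G] (a n : ℕ) (hG : Nat.card G = 2 ^ a * n) (hn : Odd n) (h3 : ¬ 3 ∣ n) (hx : ∃ x : G, orderOf x = 2 ^ (a - 1)) : ∃ N : Subgroup G, N.Normal ∧ Nat.card N = n := by
  haveI := Fact.mk Nat.prime_two
  obtain ⟨x, hx⟩ := hx
  have hn0 : n ≠ 0 := fun h => by simp [h] at hn
  have hfac : (Nat.card G).factorization 2 = a := by
    rw [hG, Nat.factorization_mul (by positivity) hn0, Finsupp.add_apply, Nat.prime_two.factorization_pow,
      Finsupp.single_eq_same, Nat.factorization_eq_zero_of_not_dvd (fun h => (Nat.not_even_iff_odd.mpr hn) (even_iff_two_dvd.mpr h)),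
      add_zero]
  have hxp : IsPGroup 2 (Subgroup.zpowers x) := IsPGroup.of_card (n := a - 1) (by rw [Nat.card_zpowers, hx])
  obtain ⟨P, hP⟩ := hxp.exists_le_sylow
  have hPc : Nat.card P = 2 ^ a := by rw [P.card_eq_multiplicity, hfac]
  have hfrob : Cfsg.HasNormalPComplement 2 G := by
    refine Transfer.hasNormalPComplement_of_frobenius P fun U hU g hg hco => ?_
    obtain ⟨V, hV, hidx⟩ := isCyclic_or a P hPc hx (hP (Subgroup.mem_zpowers x)) U hU
    set φ := Subgroup.normalizerMonoidHom U
    have ho : orderOf (φ ⟨g, hg⟩) = 1 := by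
      by_contra hne
      obtain ⟨q, hq, hqd⟩ := Nat.exists_prime_and_dvd hne
      have hqg : q ∣ orderOf g := hqd.trans ((orderOf_map_dvd φ _).trans (by rw [Subgroup.orderOf_mk]))
      rcases prime_dvd_card_mulAut (P.isPGroup'.to_le hU) V hV hidx hq (hqd.trans (orderOf_dvd_natCard _)) with rfl | rfl
      · exact hq.one_lt.ne' (Nat.eq_one_of_dvd_coprimes hco hqg dvd_rfl)
      · refine h3 ((Nat.Coprime.dvd_mul_left ?_).mp (hG ▸ hqg.trans (orderOf_dvd_natCard g)))
        exact Nat.Coprime.pow_right a (by norm_num)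
    rw [orderOf_eq_one_iff, ← MonoidHom.mem_ker, Subgroup.normalizerMonoidHom_ker, Subgroup.mem_subgroupOf] at ho
    exact ho
  obtain ⟨Q, N, hN, hc⟩ := hfrob
  refine ⟨N, hN, ?_⟩
  have h1 := hc.card_mul_card
  rw [hG, show Nat.card (Q : Subgroup G) = 2 ^ a by rw [Q.card_eq_multiplicity, hfac], mul_comm] at h1
  exact Nat.eq_of_mul_eq_mul_left (pow_pos two_pos a) h1

end Cfsg.Agent.S3971
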