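import Cfsg.Statements.S3972
import Cfsg.Agent.Lib.PowerOrbits.SchurBlocks

set_option autoImplicit false
open Cfsg

namespace Cfsg.Agent.S3972

open Lib.PowerOrbits
open scoped Pointwise

/-- Let `p` be a prime, `m ≥ 2`, and `G` a transitive but not doubly transitive permutation group on `p ^ m` points containing a permutation of order `p ^ m` (necessarily a full cycle). Then `G` is imprimitive, and the normal closure in `G` of the `p ^ (m - 1)`-th power of that permutation is an intransitive normal subgroup. -/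
theorem result {Ω : Type*} [Fintype Ω] [DecidableEq Ω] (p m : ℕ) (hp : p.Prime) (hm : 2 ≤ m) (hΩ : Fintype.card Ω = p ^ m) (G : Subgroup (Equiv.Perm Ω)) (htr : MulAction.IsPretransitive G Ω) (h2 : ¬ MulAction.IsMultiplyPretransitive G Ω 2) (g : G) (hg : orderOf g = p ^ m) : ¬ MulAction.IsPreprimitive G Ω ∧ ¬ MulAction.IsPretransitive (Subgroup.normalClosure ({g ^ (p ^ (m - 1))} : Set G)) Ω := by
  classical
  haveI := Fact.mk hp
  obtain ⟨k, rfl⟩ : ∃ k, m = k + 1 := ⟨m - 1, by omega⟩
  rw [Nat.add_sub_cancel]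
  have hk : 0 < k := by omega
  set γ : Equiv.Perm Ω := (g : Equiv.Perm Ω) with hγ
  have hγo : orderOf γ = p ^ (k + 1) := by rw [hγ, Subgroup.orderOf_coe, hg]
  -- a point on the full cycle
  obtain ⟨x, hx⟩ : ∃ x, (γ ^ p ^ k) x ≠ x := by
    by_contra h
    push Not at h
    have h1 := orderOf_dvd_of_pow_eq_one (Equiv.ext h : γ ^ p ^ k = 1)
    rw [hγo] at h1
    exact absurd (Nat.le_of_dvd (pow_pos hp.pos k) h1)
      (not_le.mpr (Nat.pow_lt_pow_right hp.one_lt (Nat.lt_succ_self k)))
  let e₀ : ZMod (p ^ (k + 1)) → Ω := fun i => (γ ^ i.val) x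
  have hpowmod : ∀ a : ℕ, γ ^ a = γ ^ (a % p ^ (k + 1)) := fun a => by
    rw [← hγo, pow_mod_orderOf]
  have hperiod : ∀ a : ℕ, (γ ^ a) x = x → p ^ (k + 1) ∣ a := by
    intro a ha
    have hd : Function.minimalPeriod γ x ∣ p ^ (k + 1) := by
      apply Function.IsPeriodicPt.minimalPeriod_dvd
      show (⇑γ)^[p ^ (k + 1)] x = x
      rw [← Equiv.Perm.coe_pow, ← hγo, pow_orderOf_eq_one, Equiv.Perm.one_apply]
    obtain ⟨i, hi, hi'⟩ := (Nat.dvd_prime_pow hp).mp hd
    rcases Nat.lt_or_ge i (k + 1) with h | h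
    · exfalso
      apply hx
      rw [Equiv.Perm.coe_pow]
      exact Function.isPeriodicPt_iff_minimalPeriod_dvd.mpr (hi' ▸ pow_dvd_pow p (by omega))
    · have hi2 : i = k + 1 := le_antisymm hi h
      rw [← hi2, ← hi']
      apply Function.isPeriodicPt_iff_minimalPeriod_dvd.mp
      show (⇑γ)^[a] x = x
      rw [← Equiv.Perm.coe_pow, ha]
  have hinj : Function.Injective e₀ := by
    have key : ∀ a b : ℕ, a ≤ b → b < p ^ (k + 1) → (γ ^ a) x = (γ ^ b) x → a = b := by
      intro a b hab hb h
      have h1 : (γ ^ (b - a)) x = x := (γ ^ a).injective (by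
        rw [← Equiv.Perm.mul_apply, ← pow_add, Nat.add_sub_cancel' hab, h])
      rcases Nat.eq_zero_or_pos (b - a) with h0 | h0
      · omega
      · exact absurd (Nat.le_of_dvd h0 (hperiod _ h1)) (by omega)
    intro i j hij
    apply ZMod.val_injective
    rcases le_total i.val j.val with h | h
    · exact key _ _ h (ZMod.val_lt j) hij
    · exact (key _ _ h (ZMod.val_lt i) hij.symm).symm
  let e : ZMod (p ^ (k + 1)) ≃ Ω := Equiv.ofBijective e₀
    ((Fintype.bijective_iff_injective_and_card e₀).mpr ⟨hinj, by rw [ZMod.card, hΩ]⟩)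
  have he : ∀ i, e i = (γ ^ i.val) x := fun i => rfl
  let act : ↥G →* Equiv.Perm (ZMod (p ^ (k + 1))) :=
    (e.symm.permCongrHom.toMonoidHom).comp G.subtype
  have hact : ∀ (a : ↥G) i, e (act a i) = (a : Equiv.Perm Ω) (e i) := fun a i =>
    e.apply_symm_apply _
  have ht : HasTranslations act := fun c => ⟨g ^ c.val, fun j => e.injective (by
    rw [hact, Subgroup.coe_pow, he, he, ← Equiv.Perm.mul_apply, ← pow_add, hpowmod,
      ← ZMod.val_natCast, Nat.cast_add, ZMod.natCast_zmod_val, ZMod.natCast_zmod_val]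
    congr 3
    exact add_comm c j)⟩
  -- blocks
  obtain ⟨U, hU⟩ : ∃ U, InvariantSubgroup act U := by
    by_contra hcon
    apply h2
    rw [MulAction.is_two_pretransitive_iff]
    intro a b c d hab hcd
    have hstab : ∀ v w : ZMod (p ^ (k + 1)), v ≠ 0 → w ≠ 0 →
        ∃ t : ↥G, act t 0 = 0 ∧ act t v = w := by
      intro v w hv hw
      by_contra hn
      push Not at hn
      exact hcon (exists_invariantSubgroup hk ht hv hw hn)
    obtain ⟨s, hs⟩ := ht (-(e.symm a))
    obtain ⟨r, hr⟩ := ht (e.symm c)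
    obtain ⟨t, ht0, htv⟩ := hstab (act s (e.symm b)) (e.symm d - e.symm c)
      (by rw [hs, ← sub_eq_add_neg, sub_ne_zero]
          exact fun h => hab (e.symm.injective h).symm)
      (by rw [sub_ne_zero]; exact fun h => hcd (e.symm.injective h).symm)
    have hsm : ∀ (w : ↥G) (y : Ω), w • y = e (act w (e.symm y)) := fun w y => by
      rw [hact, e.apply_symm_apply]; rfl
    refine ⟨r * t * s, ?_, ?_⟩
    · rw [hsm, map_mul, map_mul, Equiv.Perm.mul_apply, Equiv.Perm.mul_apply, hs, add_neg_cancel,
        ht0, hr, zero_add, e.apply_symm_apply]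
    · rw [hsm, map_mul, map_mul, Equiv.Perm.mul_apply, Equiv.Perm.mul_apply, htv, hr,
        sub_add_cancel, e.apply_symm_apply]
  obtain ⟨v, hv, hv0⟩ := U.bot_or_exists_ne_zero.resolve_left hU.ne_bot
  obtain ⟨u, hu⟩ : ∃ u, u ∉ U := by
    by_contra h
    push Not at h
    exact hU.ne_top (eq_top_iff.mpr fun u _ => h u)
  constructor
  · -- imprimitive
    intro hprim
    have hB : MulAction.IsBlock ↥G (e '' (U : Set (ZMod (p ^ (k + 1))))) := by
      rw [MulAction.isBlock_iff_smul_eq_or_disjoint]
      intro a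
      have himg : a • (e '' (U : Set (ZMod (p ^ (k + 1))))) = e '' (act a '' U) := by
        rw [← Set.image_smul, Set.image_image, Set.image_image]
        exact Set.image_congr' fun i => (hact a i).symm
      rw [himg]
      by_cases h0 : act a 0 ∈ U
      · left
        have hsub : act a '' (U : Set (ZMod (p ^ (k + 1)))) ⊆ U := by
          rintro _ ⟨w, hw, rfl⟩
          have h3 := U.add_mem (hU.sub_mem ht a 0 w hw) h0
          rw [zero_add, sub_add_cancel] at h3
          exact h3
        rw [Set.eq_of_subset_of_ncard_le hsub (by rw [Set.ncard_image_of_injective _ (act a).injective])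
          (Set.toFinite _)]
      · right
        rw [Set.disjoint_image_iff e.injective, Set.disjoint_left]
        rintro _ ⟨w, hw, rfl⟩ hw'
        apply h0
        have h3 := U.sub_mem hw' (hU.sub_mem ht a 0 w hw)
        rw [zero_add, sub_sub_cancel] at h3
        exact h3
    rcases hprim.isTrivialBlock_of_isBlock hB with h | h
    · exact hv0 (e.injective (h ⟨v, hv, rfl⟩ ⟨0, U.zero_mem, rfl⟩))
    · obtain ⟨w, hw, hwu⟩ := (h.symm ▸ Set.mem_univ (e u) : e u ∈ e '' (U : Set (ZMod (p ^ (k + 1)))))
      exact hu (e.injective hwu ▸ hw)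
  · -- the normal closure fixes the blocks
    intro hN
    let M : Subgroup ↥G :=
      { carrier := {a | ∀ i, act a i - i ∈ U}
        one_mem' := fun i => by rw [map_one, Equiv.Perm.one_apply, sub_self]; exact U.zero_mem
        mul_mem' := fun {a b} ha hb i => by
          rw [map_mul, Equiv.Perm.mul_apply, ← sub_add_sub_cancel _ (act b i) i]
          exact U.add_mem (ha _) (hb i)
        inv_mem' := fun {a} ha i => by
          have := ha (act a⁻¹ i)
          rw [← Equiv.Perm.mul_apply, ← map_mul, mul_inv_cancel, map_one, Equiv.Perm.one_apply] at this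
          rw [← neg_sub]
          exact U.neg_mem this }
    haveI : M.Normal := by
      refine ⟨fun b hb a i => ?_⟩
      rw [map_mul, map_mul, Equiv.Perm.mul_apply, Equiv.Perm.mul_apply]
      set i' := act a⁻¹ i with hi'
      have hi : act a i' = i := by
        rw [hi', ← Equiv.Perm.mul_apply, ← map_mul, mul_inv_cancel, map_one, Equiv.Perm.one_apply]
      rw [← hi]
      have := hU.sub_mem ht a i' _ (hb i')
      rwa [add_sub_cancel] at this
    have hmem : g ^ p ^ k ∈ M := by
      intro i
      have h3 : act (g ^ p ^ k) i = i + ((p ^ k : ℕ) : ZMod (p ^ (k + 1))) := e.injective (by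
        rw [hact, Subgroup.coe_pow, he, he, ← Equiv.Perm.mul_apply, ← pow_add, hpowmod,
          ← ZMod.val_natCast, Nat.cast_add, ZMod.natCast_zmod_val]
        congr 3
        exact add_comm _ _)
      rw [h3, add_sub_cancel_left]
      exact hU.torsion_mem
    have hle : Subgroup.normalClosure ({g ^ p ^ k} : Set ↥G) ≤ M :=
      Subgroup.normalClosure_le_normal (Set.singleton_subset_iff.mpr hmem)
    obtain ⟨⟨a, ha⟩, ha'⟩ := hN.exists_smul_eq (e 0) (e u)
    have h3 := hle ha 0
    rw [sub_zero] at h3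
    have h4 : act a 0 = u := e.injective (by rw [hact]; exact ha')
    exact hu (h4 ▸ h3)

end Cfsg.Agent.S3972
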