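import Cfsg.Statements.S3973
import Cfsg.Agent.Lib.SchurMultiplier.Basic
import Mathlib

set_option autoImplicit false
open Cfsg

namespace Cfsg.Agent.S3973

open Cfsg.Agent.Lib

theorem rank_le_of_kernel {n : ℕ} (rels : Finset (FreeGroup (Fin n)))
    [Finite (PresentedGroup (rels : Set (FreeGroup (Fin n))))] {A : Type*} [CommGroup A] [Finite A]
    {Γ : Type*} [Group Γ] [Finite Γ] (σ : Γ →* PresentedGroup (rels : Set (FreeGroup (Fin n))))
    (hσ : Cfsg.IsStemExtension σ) (e : σ.ker ≃* A) : Group.rank A ≤ rels.card - n := by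
  classical
  obtain ⟨hsurj, hcen, hcom⟩ := hσ
  let π : FreeGroup (Fin n) →* PresentedGroup (rels : Set (FreeGroup (Fin n))) :=
    PresentedGroup.mk _
  choose lift hlift using hsurj
  let β : FreeGroup (Fin n) →* Γ := FreeGroup.lift fun i => lift (π (FreeGroup.of i))
  have hβπ : σ.comp β = π := FreeGroup.ext_hom _ _ fun i => by simp [β, hlift]
  have hπ : ∀ f, σ (β f) = π f := DFunLike.congr_fun hβπ
  let ab : FreeGroup (Fin n) →* Multiplicative (Fin n → ℤ) :=
    FreeGroup.lift fun i => Multiplicative.ofAdd (Pi.single i 1)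
  have hrel : ∀ r : rels, β r.1 ∈ σ.ker := fun r => by
    rw [MonoidHom.mem_ker, hπ]
    exact (QuotientGroup.eq_one_iff _).mpr (Subgroup.subset_normalClosure r.2)
  let φ : (rels → ℤ) →ₗ[ℤ] Additive A :=
    Fintype.linearCombination ℤ fun r => Additive.ofMul (e ⟨β r.1, hrel r⟩)
  let ψ : (rels → ℤ) →ₗ[ℤ] (Fin n → ℤ) :=
    Fintype.linearCombination ℤ fun r => (ab r.1).toAdd
  let S : Subgroup (FreeGroup (Fin n)) :=
    { carrier := {f | ∃ (h : β f ∈ σ.ker) (v : rels → ℤ),
        φ v = Additive.ofMul (e ⟨β f, h⟩) ∧ ψ v = (ab f).toAdd}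
      one_mem' := ⟨by simp, 0, by
        rw [map_zero]
        have : (⟨β 1, by simp⟩ : σ.ker) = 1 := Subtype.ext (map_one β)
        rw [this, map_one]; rfl, by simp⟩
      mul_mem' := by
        rintro a b ⟨ha, v, hv1, hv2⟩ ⟨hb, w, hw1, hw2⟩
        refine ⟨by rw [map_mul]; exact mul_mem ha hb, v + w, ?_, by rw [map_add, hv2, hw2, map_mul, toAdd_mul]⟩
        rw [map_add, hv1, hw1, ← ofMul_mul, ← map_mul]
        exact congrArg (fun x => Additive.ofMul (e x)) (Subtype.ext (map_mul β a b).symm)
      inv_mem' := by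
        rintro a ⟨ha, v, hv1, hv2⟩
        refine ⟨by rw [map_inv]; exact inv_mem ha, -v, ?_, by rw [map_neg, hv2, map_inv, toAdd_inv]⟩
        rw [map_neg, hv1, ← ofMul_inv, ← map_inv]
        exact congrArg (fun x => Additive.ofMul (e x)) (Subtype.ext (map_inv β a).symm) }
  haveI hSn : S.Normal := by
    refine ⟨fun f hf g => ?_⟩
    obtain ⟨hf1, v, hv1, hv2⟩ := hf
    have hconj : β (g * f * g⁻¹) = β f := by
      rw [map_mul, map_mul, map_inv, Subgroup.mem_center_iff.mp (hcen hf1) (β g), mul_inv_cancel_right]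
    refine ⟨hconj ▸ hf1, v, ?_, ?_⟩
    · rw [hv1]
      exact congrArg (fun x => Additive.ofMul (e x)) (Subtype.ext hconj.symm)
    · rw [hv2, show ab (g * f * g⁻¹) = ab f by simp [map_mul, mul_comm (ab g)]]
  have hsingle : ∀ r : rels, φ (Pi.single r 1) = Additive.ofMul (e ⟨β r.1, hrel r⟩) ∧
      ψ (Pi.single r 1) = (ab r.1).toAdd := fun r => by
    constructor <;> simp [φ, ψ, Fintype.linearCombination_apply_single]
  have hRS : π.ker ≤ S := by
    intro f hf
    have hf' : f ∈ Subgroup.normalClosure (rels : Set (FreeGroup (Fin n))) :=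
      (QuotientGroup.eq_one_iff f).mp hf
    refine Subgroup.normalClosure_le_normal ?_ hf'
    intro r hr
    exact ⟨hrel ⟨r, hr⟩, Pi.single ⟨r, hr⟩ 1, (hsingle ⟨r, hr⟩).1, (hsingle ⟨r, hr⟩).2⟩
  -- the abelianized relations have full rank
  set N := Nat.card (PresentedGroup (rels : Set (FreeGroup (Fin n))))
  have hN : ∀ i : Fin n, (N : ℤ) • (Pi.single i 1 : Fin n → ℤ) ∈ LinearMap.range ψ := by
    intro i
    obtain ⟨-, v, -, hv⟩ := hRS (show (FreeGroup.of i) ^ N ∈ π.ker by
      rw [MonoidHom.mem_ker, map_pow]; exact pow_card_eq_one')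
    refine ⟨v, ?_⟩
    rw [hv, map_pow, toAdd_pow, natCast_zsmul]
    simp [ab]
  have hrank : Module.finrank ℤ (LinearMap.range ψ) = n := by
    refine le_antisymm ((Submodule.finrank_le _).trans (le_of_eq (Module.finrank_fin_fun ℤ))) ?_
    let j : (Fin n → ℤ) →ₗ[ℤ] LinearMap.range ψ :=
      ((N : ℤ) • LinearMap.id).codRestrict _ fun x => by
        rw [LinearMap.smul_apply, LinearMap.id_apply]
        have hx : x = ∑ i, x i • (Pi.single i 1 : Fin n → ℤ) := by
          ext k; simp [Finset.sum_apply, Pi.single_apply]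
        rw [hx, Finset.smul_sum]
        refine Submodule.sum_mem _ fun i _ => ?_
        rw [smul_comm]
        exact Submodule.smul_mem _ _ (hN i)
    have hj : Function.Injective j := fun x y hxy => by
      have h1 : (N : ℤ) • x = (N : ℤ) • y := congrArg Subtype.val hxy
      exact smul_right_injective (Fin n → ℤ) (Int.natCast_ne_zero.mpr Nat.card_pos.ne') h1
    exact (Module.finrank_fin_fun (R := ℤ) (n := n)).symm.le.trans
      (LinearMap.finrank_le_finrank_of_injective hj)
  have hker : Module.finrank ℤ (LinearMap.ker ψ) = rels.card - n := by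
    have h1 := Submodule.finrank_quotient_add_finrank (LinearMap.ker ψ)
    rw [ψ.quotKerEquivRange.finrank_eq, hrank, Module.finrank_fintype_fun_eq_card,
      Fintype.card_coe] at h1
    omega
  let b := Module.finBasisOfFinrankEq ℤ (LinearMap.ker ψ) hker
  let gen : Fin (rels.card - n) → A := fun i => (φ (b i).1).toMul
  have hgen : Subgroup.closure (Set.range gen) = ⊤ := by
    rw [eq_top_iff]
    intro a _
    obtain ⟨k, rfl⟩ := e.surjective a
    have hsup : β.range ⊔ σ.ker = ⊤ := by
      rw [eq_top_iff]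
      intro g _
      obtain ⟨f, hf⟩ := PresentedGroup.mk_surjective _ (σ g)
      have h1 : (β f)⁻¹ * g ∈ σ.ker := by
        rw [MonoidHom.mem_ker, map_mul, map_inv, hπ]
        show (π f)⁻¹ * _ = 1
        rw [show π f = σ g from hf, inv_mul_cancel]
      have := Subgroup.mul_mem_sup (MonoidHom.mem_range.mpr ⟨f, rfl⟩ : β f ∈ β.range) h1
      rwa [mul_inv_cancel_left] at this
    have hkc : (k : Γ) ∈ (commutator (FreeGroup (Fin n))).map β := by
      have h1 := hcom k.2
      rw [SchurMultiplier.commutator_eq_of_sup_center hcen hsup] at h1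
      rwa [commutator_def, Subgroup.map_commutator, ← MonoidHom.range_eq_map]
    obtain ⟨f, hfc, hfk⟩ := hkc
    obtain ⟨hf1, v, hv1, hv2⟩ := hRS (show f ∈ π.ker by
      rw [MonoidHom.mem_ker, ← hπ, hfk]; exact k.2)
    have hab : (ab f).toAdd = 0 := by
      have h1 : ab f = 1 := Abelianization.commutator_subset_ker ab hfc
      rw [h1, toAdd_one]
    have hvk : v ∈ LinearMap.ker ψ := by rw [LinearMap.mem_ker, hv2, hab]
    have hek : φ v = Additive.ofMul (e k) := by
      rw [hv1]; exact congrArg (fun x => Additive.ofMul (e x)) (Subtype.ext hfk)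
    have hspan : Additive.ofMul (e k) ∈ Submodule.span ℤ (Set.range fun i => φ (b i).1) := by
      rw [← hek]
      have h1 := Submodule.mem_map_of_mem (f := φ.comp (LinearMap.ker ψ).subtype)
        (b.mem_span (⟨v, hvk⟩ : LinearMap.ker ψ))
      rw [Submodule.map_span, ← Set.range_comp] at h1
      exact h1
    rw [← Submodule.mem_toAddSubgroup, Submodule.span_int_eq_addSubgroupClosure] at hspan
    have hc : AddSubgroup.closure (Set.range fun i => φ (b i).1) ≤
        (Subgroup.toAddSubgroup (G := A)) (Subgroup.closure (Set.range gen)) := by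
      rw [AddSubgroup.closure_le]
      rintro _ ⟨i, rfl⟩
      show gen i ∈ Subgroup.closure (Set.range gen)
      exact Subgroup.subset_closure ⟨i, rfl⟩
    exact hc hspan
  refine (Group.rank_le (S := Finset.univ.image gen) ?_).trans
    (Finset.card_image_le.trans (le_of_eq (by simp)))
  rw [Finset.coe_image, Finset.coe_univ, Set.image_univ, hgen]

/-- If a finite group is presented by `n` generators and a finite set of `r` relators, then its Schur multiplier can be generated by `r - n` elements. In particular a finite group with a presentation having as many relators as generators has trivial Schur multiplier. -/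
theorem result (n : ℕ) (rels : Finset (FreeGroup (Fin n))) [Finite (PresentedGroup (rels : Set (FreeGroup (Fin n))))] {A : Type*} [CommGroup A] [Finite A] (hA : Cfsg.HasSchurMultiplier (PresentedGroup (rels : Set (FreeGroup (Fin n)))) A) : Group.rank A ≤ rels.card - n := by
  obtain ⟨⟨Γ, hG, hF, σ, hσ, ⟨e⟩⟩, -⟩ := hA
  exact rank_le_of_kernel rels σ hσ e

end Cfsg.Agent.S3973
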