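import Mathlib
import Cfsg.Statements.S3974
import Cfsg.Agent.Lib.SchurMultiplier

set_option autoImplicit false
universe u v
open Cfsg

namespace Cfsg.Agent.S3974

open Cfsg.Agent.Lib.SchurMultiplier

variable {Q : Type u} [Group Q]

/-- The two lifts differ by a homomorphism into the kernel. -/
theorem exists_diff {X : Type u} [Group X] {ξ : X →* Q} (hc : ξ.ker ≤ Subgroup.center X)
    {β β' : CExt Q →* X} (h : ξ.comp β = ξ.comp β') :
    ∃ g : CExt Q →* ξ.ker, ∀ x, β' x = β x * g x := by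
  have hmem : ∀ x, (β x)⁻¹ * β' x ∈ ξ.ker := fun x => by
    rw [MonoidHom.mem_ker, map_mul, map_inv, ← MonoidHom.comp_apply, ← MonoidHom.comp_apply, h,
      inv_mul_cancel]
  refine ⟨MonoidHom.mk' (fun x => ⟨(β x)⁻¹ * β' x, hmem x⟩) (fun x y => Subtype.ext ?_),
    fun x => (mul_inv_cancel_left _ _).symm⟩
  show (β (x * y))⁻¹ * β' (x * y) = (β x)⁻¹ * β' x * ((β y)⁻¹ * β' y)
  have hz := Subgroup.mem_center_iff.mp (hc (hmem x)) (β y)⁻¹
  rw [map_mul, map_mul, mul_inv_rev]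
  calc (β y)⁻¹ * (β x)⁻¹ * (β' x * β' y) = (β y)⁻¹ * ((β x)⁻¹ * β' x) * β' y := by
        simp only [mul_assoc]
    _ = (β x)⁻¹ * β' x * (β y)⁻¹ * β' y := by rw [hz]
    _ = _ := by simp only [mul_assoc]

/-- A homomorphism on `ker proj`, trivial on the multiplier, extends when the exponents are coprime. -/
theorem exists_extend [Finite Q] {M : Type*} [CommGroup M] [Finite M]
    (hcop : Nat.Coprime (Nat.card (Abelianization Q)) (Nat.card M))
    (f : (proj Q).ker →* M) (hf : ∀ x : (proj Q).ker, (x : CExt Q) ∈ commutator (CExt Q) → f x = 1) :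
    ∃ g : CExt Q →* M, ∀ x : (proj Q).ker, g x = f x := by
  set n := Nat.card (Abelianization Q) with hn
  let ι : (proj Q).ker →* Abelianization (CExt Q) := Abelianization.of.comp (proj Q).ker.subtype
  have hker : ι.rangeRestrict.ker ≤ f.ker := fun x hx => by
    rw [MonoidHom.ker_rangeRestrict, MonoidHom.mem_ker] at hx
    exact hf x ((QuotientGroup.eq_one_iff _).mp hx)
  obtain ⟨fb, hfb⟩ : ∃ fb : ι.range →* M, ∀ x, fb (ι.rangeRestrict x) = f x :=
    ⟨MonoidHom.liftOfSurjective ι.rangeRestrict ι.rangeRestrict_surjective ⟨f, hker⟩,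
      fun x => MonoidHom.liftOfRightInverse_comp_apply ι.rangeRestrict _
        (Function.rightInverse_surjInv ι.rangeRestrict_surjective) ⟨f, hker⟩ x⟩
  have hpow : ∀ a : Abelianization (CExt Q), a ^ n ∈ ι.range := by
    intro a
    obtain ⟨x, rfl⟩ := QuotientGroup.mk'_surjective _ a
    have h1 : Abelianization.of (proj Q x) ^ n = 1 := pow_card_eq_one'
    rw [← map_pow, ← map_pow] at h1
    have h2 : proj Q (x ^ n) ∈ commutator Q := (QuotientGroup.eq_one_iff _).mp h1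
    rw [commutator_def, ← Subgroup.map_top_of_surjective _ (proj_surjective Q),
      ← Subgroup.map_commutator] at h2
    obtain ⟨c, hc, he⟩ := h2
    refine ⟨⟨c⁻¹ * x ^ n, by rw [MonoidHom.mem_ker, map_mul, map_inv, he, inv_mul_cancel]⟩, ?_⟩
    show Abelianization.of (c⁻¹ * x ^ n) = (Abelianization.of x) ^ n
    rw [map_mul, map_inv, show Abelianization.of c = 1 from (QuotientGroup.eq_one_iff _).mpr hc,
      inv_one, one_mul, map_pow]
  let P : Abelianization (CExt Q) →* ι.range := (powMonoidHom n).codRestrict ι.range hpow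
  let e : M ≃* M := MulEquiv.ofBijective (powMonoidHom n : M →* M) (powCoprime (G := M) hcop.symm).bijective
  refine ⟨e.symm.toMonoidHom.comp (fb.comp (P.comp Abelianization.of)), fun x => ?_⟩
  show e.symm (fb (P (Abelianization.of (x : CExt Q)))) = f x
  rw [MulEquiv.symm_apply_eq]
  show fb (P (Abelianization.of (x : CExt Q))) = f x ^ n
  rw [← hfb x, ← map_pow]
  rfl

/-- A cover with the canonical lift. -/
theorem exists_unique_iso [Finite Q] (hcop : Nat.Coprime (Nat.card (Abelianization Q)) (Nat.card (mult Q)))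
    {Γ₁ Γ₂ : Type u} [Group Γ₁] [Finite Γ₁] [Group Γ₂] [Finite Γ₂] (σ₁ : Γ₁ →* Q) (σ₂ : Γ₂ →* Q)
    (h₁ : Cfsg.IsStemExtension σ₁) (h₂ : Cfsg.IsStemExtension σ₂)
    (c₁ : Nat.card σ₁.ker = Nat.card (mult Q)) (c₂ : Nat.card σ₂.ker = Nat.card (mult Q)) :
    ∃ e : Γ₁ ≃* Γ₂, σ₂.comp e.toMonoidHom = σ₁ := by
  obtain ⟨β1, hb1⟩ := exists_lift σ₁ h₁.1 h₁.2.1 (MonoidHom.id Q)
  obtain ⟨β2, hb2⟩ := exists_lift σ₂ h₂.1 h₂.2.1 (MonoidHom.id Q)
  rw [MonoidHom.id_comp] at hb1 hb2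
  obtain ⟨π1, hπ1, hπ1β⟩ := exists_mult_hom_ker h₁ hb1
  obtain ⟨π2, hπ2, hπ2β⟩ := exists_mult_hom_ker h₂ hb2
  let E1 : mult Q ≃* σ₁.ker :=
    MulEquiv.ofBijective π1 ((Nat.bijective_iff_surjective_and_card π1).mpr ⟨hπ1, c₁.symm⟩)
  let E2 : mult Q ≃* σ₂.ker :=
    MulEquiv.ofBijective π2 ((Nat.bijective_iff_surjective_and_card π2).mpr ⟨hπ2, c₂.symm⟩)
  letI : CommGroup σ₂.ker :=
    { (inferInstance : Group σ₂.ker) with
      mul_comm := fun a b => Subtype.ext (Subgroup.mem_center_iff.mp (h₂.2.1 b.2) a) }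
  have hk1 : ∀ x : (proj Q).ker, β1 x ∈ σ₁.ker := fun x => by
    rw [MonoidHom.mem_ker, ← MonoidHom.comp_apply, hb1]; exact x.2
  have hk2 : ∀ x : (proj Q).ker, β2 x ∈ σ₂.ker := fun x => by
    rw [MonoidHom.mem_ker, ← MonoidHom.comp_apply, hb2]; exact x.2
  let θ : σ₁.ker →* σ₂.ker := (E1.symm.trans E2).toMonoidHom
  let r2 : (proj Q).ker →* σ₂.ker := (β2.comp (proj Q).ker.subtype).codRestrict _ hk2
  let f : (proj Q).ker →* σ₂.ker :=
    r2⁻¹ * θ.comp ((β1.comp (proj Q).ker.subtype).codRestrict _ hk1)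
  have hf : ∀ x : (proj Q).ker, (x : CExt Q) ∈ commutator (CExt Q) → f x = 1 := by
    intro x hx
    have hm : (x : CExt Q) ∈ mult Q := ⟨x.2, hx⟩
    have h1 : (⟨β1 x, hk1 x⟩ : σ₁.ker) = E1 ⟨x, hm⟩ := Subtype.ext (hπ1β ⟨x, hm⟩).symm
    show (r2 x)⁻¹ * E2 (E1.symm ⟨β1 x, hk1 x⟩) = 1
    rw [h1, E1.symm_apply_apply, inv_mul_eq_one]
    exact Subtype.ext (hπ2β ⟨x, hm⟩).symm
  obtain ⟨g, hg⟩ := exists_extend (by rw [c₂]; exact hcop) f hf
  let β2' : CExt Q →* Γ₂ := MonoidHom.mk' (fun x => β2 x * g x) (fun x y => by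
    have hz := Subgroup.mem_center_iff.mp (h₂.2.1 (g x).2) (β2 y)
    rw [map_mul, map_mul, Subgroup.coe_mul]
    calc β2 x * β2 y * ((g x : Γ₂) * g y) = β2 x * (β2 y * (g x : Γ₂)) * g y := by simp only [mul_assoc]
      _ = β2 x * ((g x : Γ₂) * β2 y) * g y := by rw [hz]
      _ = _ := by simp only [mul_assoc])
  have hb2' : σ₂.comp β2' = proj Q := MonoidHom.ext fun x => by
    show σ₂ (β2 x * g x) = proj Q x
    rw [map_mul, MonoidHom.mem_ker.mp (g x).2, mul_one, ← MonoidHom.comp_apply, hb2]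
  have hK : ∀ x : (proj Q).ker, β2' x = (θ ⟨β1 x, hk1 x⟩ : σ₂.ker) := fun x => by
    show β2 x * (g x : Γ₂) = _
    rw [hg]
    show (r2 x : Γ₂) * (((r2 x)⁻¹ * θ ⟨β1 x, hk1 x⟩ : σ₂.ker) : Γ₂) = _
    rw [Subgroup.coe_mul, Subgroup.coe_inv, mul_inv_cancel_left]
  have hs1 := lift_surjective_of_isStemExtension h₁ hb1
  have hle : β1.ker ≤ β2'.ker := fun x hx => by
    have hxk : x ∈ (proj Q).ker := by
      rw [MonoidHom.mem_ker, ← hb1, MonoidHom.comp_apply, MonoidHom.mem_ker.mp hx, map_one]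
    rw [MonoidHom.mem_ker, hK ⟨x, hxk⟩,
      show (⟨β1 x, hk1 ⟨x, hxk⟩⟩ : σ₁.ker) = 1 from Subtype.ext hx, map_one, Subgroup.coe_one]
  let e := MonoidHom.liftOfSurjective β1 hs1 ⟨β2', hle⟩
  have he : ∀ x, e (β1 x) = β2' x := fun x =>
    MonoidHom.liftOfRightInverse_comp_apply β1 _ (Function.rightInverse_surjInv hs1) ⟨β2', hle⟩ x
  have hcomp : ∀ a, σ₂ (e a) = σ₁ a := fun a => by
    obtain ⟨x, rfl⟩ := hs1 a
    rw [he, ← MonoidHom.comp_apply, hb2', ← hb1]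
    rfl
  have hinj : Function.Injective e := by
    rw [injective_iff_map_eq_one]
    intro a ha
    obtain ⟨x, rfl⟩ := hs1 a
    have hx : x ∈ (proj Q).ker := by
      rw [MonoidHom.mem_ker, ← hb1, MonoidHom.comp_apply, ← hcomp, ha, map_one]
    rw [he, hK ⟨x, hx⟩, OneMemClass.coe_eq_one] at ha
    exact congrArg Subtype.val ((E1.symm.trans E2).injective (ha.trans (map_one _).symm))
  have hsurj : Function.Surjective e := fun b => by
    obtain ⟨x, rfl⟩ := lift_surjective_of_isStemExtension h₂ hb2' b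
    exact ⟨β1 x, he x⟩
  exact ⟨MulEquiv.ofBijective e ⟨hinj, hsurj⟩, MonoidHom.ext hcomp⟩

/-- Let `Q` be a finite group with Schur multiplier `A`. Any two Schur covering groups of `Q` (finite stem extensions `σ₁ : Γ₁ →* Q`, `σ₂ : Γ₂ →* Q` with kernels isomorphic to `A`, `Γ₁, Γ₂` in the universe of `Q`) are isomorphic over `Q` — there is a group isomorphism `e : Γ₁ ≃* Γ₂` with `σ₂ ∘ e = σ₁` — if and only if the order of the commutator quotient of `Q` is coprime to the order of `A`. In particular a finite perfect group has a unique Schur covering group up to isomorphism over it. -/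
theorem result {Q : Type u} [Group Q] [Finite Q] {A : Type v} [CommGroup A] (hA : Cfsg.HasSchurMultiplier Q A) : (∀ (Γ₁ Γ₂ : Type u) [Group Γ₁] [Finite Γ₁] [Group Γ₂] [Finite Γ₂] (σ₁ : Γ₁ →* Q) (σ₂ : Γ₂ →* Q), Cfsg.IsStemExtension σ₁ → Cfsg.IsStemExtension σ₂ → Nonempty (σ₁.ker ≃* A) → Nonempty (σ₂.ker ≃* A) → ∃ e : Γ₁ ≃* Γ₂, σ₂.comp e.toMonoidHom = σ₁) ↔ Nat.Coprime (Nat.card (Abelianization Q)) (Nat.card A) := by
  obtain ⟨eA⟩ := nonempty_mulEquiv_mult hA
  rw [Nat.card_congr eA.toEquiv]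
  refine ⟨fun h => ?_, fun hcop Γ₁ Γ₂ _ _ _ _ σ₁ σ₂ h₁ h₂ e₁ e₂ => ?_⟩
  swap
  · obtain ⟨e₁⟩ := e₁
    obtain ⟨e₂⟩ := e₂
    exact exists_unique_iso hcop σ₁ σ₂ h₁ h₂
      ((Nat.card_congr (e₁.trans eA).toEquiv)) (Nat.card_congr (e₂.trans eA).toEquiv)
  by_contra hnc
  obtain ⟨l, hl, hlQ, hlM⟩ := Nat.Prime.not_coprime_iff_dvd.mp hnc
  have : Fact l.Prime := ⟨hl⟩
  obtain ⟨C, hCK, hC1, hC2⟩ := exists_complement (proj Q).ker (ker_proj_le_center Q)
  -- an element of `C` which is an `l`-th power modulo commutators but not in `C`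
  obtain ⟨qb, hqb⟩ := exists_prime_orderOf_dvd_card' l hlQ
  obtain ⟨q, rfl⟩ := QuotientGroup.mk'_surjective _ qb
  obtain ⟨x, rfl⟩ := proj_surjective Q q
  have hxl : proj Q (x ^ l) ∈ commutator Q := by
    rw [map_pow]
    refine (QuotientGroup.eq_one_iff _).mp ?_
    rw [QuotientGroup.mk_pow]
    exact hqb ▸ pow_orderOf_eq_one _
  rw [commutator_def, ← Subgroup.map_top_of_surjective _ (proj_surjective Q),
    ← Subgroup.map_commutator] at hxl
  obtain ⟨d, hd, hde⟩ := hxl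
  have hk : d⁻¹ * x ^ l ∈ (proj Q).ker := by
    rw [MonoidHom.mem_ker, map_mul, map_inv, hde, inv_mul_cancel]
  obtain ⟨c, hc, m, hm, hcm⟩ : ∃ c ∈ C, ∃ m ∈ mult Q, c * m = d⁻¹ * x ^ l := by
    have h' : d⁻¹ * x ^ l ∈ ((C ⊔ mult Q : Subgroup (CExt Q)) : Set (CExt Q)) := by
      rw [mult, hC2]; exact hk
    have : (mult Q).Normal := normal_of_le_center (mult_le_center Q)
    rw [Subgroup.mul_normal] at h'
    exact h'
  have habc : abHom Q c = abHom Q x ^ l := by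
    have e : c = d⁻¹ * x ^ l * m⁻¹ := by rw [← hcm, mul_inv_cancel_right]
    have hd' : abHom Q d = 1 := by rwa [← MonoidHom.mem_ker, ker_abHom]
    have hm' : abHom Q m = 1 := by rw [← MonoidHom.mem_ker, ker_abHom]; exact hm.2
    rw [e, map_mul, map_mul, map_inv, map_inv, hd', hm', inv_one, one_mul, mul_one, map_pow]
  -- a coordinate of `c` prime to `l`
  let R₀ : AddSubgroup (Q →₀ ℤ) :=
    { carrier := {y | ∃ k ∈ C, abHom Q k = Multiplicative.ofAdd y}
      zero_mem' := ⟨1, C.one_mem, map_one _⟩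
      add_mem' := fun {y z} ⟨k, hk, e⟩ ⟨k', hk', e'⟩ => ⟨k * k', C.mul_mem hk hk', by
        rw [map_mul, e, e', ofAdd_add]⟩
      neg_mem' := fun {y} ⟨k, hk, e⟩ => ⟨k⁻¹, C.inv_mem hk, by rw [map_inv, e, ofAdd_neg]⟩ }
  let R : Submodule ℤ (Q →₀ ℤ) := R₀.toIntSubmodule
  have : Module.Free ℤ R :=
    Module.Free.of_basis ((Submodule.nonempty_basis_of_pid Finsupp.basisSingleOne R).choose_spec.some)
  let b := Module.Free.chooseBasis ℤ R
  let toR : C →* Multiplicative R := MonoidHom.mk'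
    (fun k => Multiplicative.ofAdd ⟨(abHom Q (k : CExt Q)).toAdd, k, k.2, rfl⟩)
    (fun k k' => Multiplicative.toAdd.injective (Subtype.ext (by simp)))
  obtain ⟨i, hi⟩ : ∃ i, ¬ (l : ℤ) ∣ b.repr (toR ⟨c, hc⟩).toAdd i := by
    by_contra hall
    push Not at hall
    choose w hw using hall
    let z : R := b.repr.symm (Finsupp.onFinset (b.repr (toR ⟨c, hc⟩).toAdd).support w (fun i hi => by
      rw [Finsupp.mem_support_iff]
      intro h0
      rw [hw i, mul_eq_zero] at h0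
      exact h0.elim (by exact_mod_cast hl.ne_zero) hi))
    have hz : (toR ⟨c, hc⟩).toAdd = (l : ℤ) • z := b.repr.injective (Finsupp.ext fun i => by
      rw [map_smul, LinearEquiv.apply_symm_apply, Finsupp.smul_apply, Finsupp.onFinset_apply,
        smul_eq_mul, hw i])
    obtain ⟨d', hd', hdz⟩ := z.2
    have h1 : (abHom Q x).toAdd = (z : Q →₀ ℤ) := by
      refine smul_right_injective (Q →₀ ℤ) (show (l : ℤ) ≠ 0 by exact_mod_cast hl.ne_zero) ?_
      have h2 : (abHom Q c).toAdd = (l : ℤ) • (z : Q →₀ ℤ) := congrArg Subtype.val hz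
      rw [habc, toAdd_pow, ← natCast_zsmul] at h2
      exact h2
    have h3 : x * d'⁻¹ ∈ commutator (CExt Q) := by
      rw [← ker_abHom, MonoidHom.mem_ker, map_mul, map_inv, hdz, ← h1, ofAdd_toAdd, mul_inv_cancel]
    have h4 : proj Q x ∈ commutator Q := by
      have h5 := Subgroup.mem_map_of_mem (proj Q) h3
      rw [commutator_def, Subgroup.map_commutator,
        Subgroup.map_top_of_surjective _ (proj_surjective Q), map_mul, map_inv,
        MonoidHom.mem_ker.mp (hCK hd'), inv_one, mul_one] at h5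
      exact h5
    rw [show QuotientGroup.mk' (commutator Q) (proj Q x) = 1 from (QuotientGroup.eq_one_iff _).mpr h4]
      at hqb
    exact hl.one_lt.ne (orderOf_one.symm.trans hqb)
  obtain ⟨m0, hm0⟩ : ∃ m0 : mult Q, ∀ y : mult Q, y ^ l ≠ m0 := by
    by_contra hall
    push Not at hall
    have hbij := (Finite.injective_iff_surjective (f := fun y : mult Q => y ^ l)).mpr hall
    obtain ⟨y, hy⟩ := exists_prime_orderOf_dvd_card' l hlM
    have := hbij (show y ^ l = (1 : mult Q) ^ l by rw [one_pow, ← hy, pow_orderOf_eq_one])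
    rw [this, orderOf_one] at hy
    exact hl.one_lt.ne hy
  let f : C →* mult Q := MonoidHom.mk' (fun k => m0 ^ b.repr (toR k).toAdd i) (fun k k' => by
    rw [map_mul, toAdd_mul, map_add, Finsupp.add_apply, zpow_add])
  let ψ : C →* CExt Q := MonoidHom.mk' (fun k => (k : CExt Q) * f k) (fun k k' => by
    have hz := Subgroup.mem_center_iff.mp (mult_le_center Q (f k).2) (k' : CExt Q)
    rw [map_mul, Subgroup.coe_mul, Subgroup.coe_mul]
    calc (k : CExt Q) * k' * ((f k : CExt Q) * f k') = k * ((k' : CExt Q) * f k) * f k' := by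
          simp only [mul_assoc]
      _ = k * ((f k : CExt Q) * k') * f k' := by rw [hz]
      _ = _ := by simp only [mul_assoc])
  have hψK : ψ.range ≤ (proj Q).ker := by
    rintro _ ⟨k, rfl⟩
    exact mul_mem (hCK k.2) (f k).2.1
  have hψ1 : ψ.range ⊓ commutator (CExt Q) = ⊥ := by
    rw [Subgroup.eq_bot_iff_forall]
    rintro _ ⟨⟨k, rfl⟩, hk⟩
    have hkc : (k : CExt Q) ∈ commutator (CExt Q) :=
      ((commutator (CExt Q)).mul_mem_cancel_right (f k).2.2).mp hk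
    have : k = 1 := Subtype.ext (Subgroup.mem_bot.mp (hC1 ▸ Subgroup.mem_inf.mpr ⟨k.2, hkc⟩))
    rw [this, map_one]
  have hψ2 : ψ.range ⊔ mult Q = (proj Q).ker := by
    refine le_antisymm (sup_le hψK inf_le_left) (hC2.ge.trans (sup_le (fun k hk => ?_) le_sup_right))
    have h1 : (k * f ⟨k, hk⟩ : CExt Q) ∈ ψ.range ⊔ mult Q := Subgroup.mem_sup_left ⟨⟨k, hk⟩, rfl⟩
    have := mul_mem h1 (Subgroup.mem_sup_right (inv_mem (f ⟨k, hk⟩).2))
    rwa [mul_inv_cancel_right] at this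
  obtain ⟨Γ₁, i1, j1, σ₁, β1, h₁, ⟨e₁⟩, -, hb1, hk1⟩ := exists_cover_of_complement C hCK hC1 hC2
  obtain ⟨Γ₂, i2, j2, σ₂, β2, h₂, ⟨e₂⟩, -, hb2, hk2⟩ :=
    exists_cover_of_complement ψ.range hψK hψ1 hψ2
  obtain ⟨e, he⟩ := h Γ₁ Γ₂ σ₁ σ₂ h₁ h₂ ⟨e₁.trans eA.symm⟩ ⟨e₂.trans eA.symm⟩
  obtain ⟨g, hg⟩ := exists_diff h₂.2.1 (β := e.toMonoidHom.comp β1) (β' := β2)
    (by rw [← MonoidHom.comp_assoc, he, hb1, hb2])
  obtain ⟨π2, hπ2, hπ2β⟩ := exists_mult_hom_ker h₂ hb2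
  let E2 : mult Q ≃* σ₂.ker := MulEquiv.ofBijective π2
    ((Nat.bijective_iff_surjective_and_card π2).mpr ⟨hπ2, (Nat.card_congr e₂.toEquiv).symm⟩)
  let G : CExt Q →* mult Q := E2.symm.toMonoidHom.comp g
  have hGC : ∀ k : C, G k = (f k)⁻¹ := fun k => by
    show E2.symm (g k) = _
    rw [MulEquiv.symm_apply_eq, map_inv]
    apply Subtype.ext
    rw [Subgroup.coe_inv, show ((E2 (f k) : σ₂.ker) : Γ₂) = β2 (f k) from hπ2β (f k)]
    have h0 : β1 k = 1 := by rw [← MonoidHom.mem_ker, hk1]; exact k.2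
    have h1 := hg (k : CExt Q)
    rw [MonoidHom.comp_apply, h0, map_one, one_mul] at h1
    rw [← h1, eq_inv_iff_mul_eq_one, ← map_mul]
    exact (hk2.ge ⟨k, rfl⟩ : _ ∈ β2.ker)
  have hGx : G c = G x ^ l := by
    have hc' : c * (x ^ l)⁻¹ ∈ commutator (CExt Q) := by
      rw [← ker_abHom, MonoidHom.mem_ker, map_mul, map_inv, habc, map_pow, mul_inv_cancel]
    have := Abelianization.commutator_subset_ker G hc'
    rwa [MonoidHom.mem_ker, map_mul, map_inv, mul_inv_eq_one, map_pow] at this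
  rw [hGC ⟨c, hc⟩] at hGx
  have hfc : ((G x)⁻¹) ^ l = m0 ^ b.repr (toR ⟨c, hc⟩).toAdd i := by
    rw [inv_pow, ← hGx, inv_inv]; rfl
  obtain ⟨s, t, hst⟩ := (((Nat.prime_iff_prime_int.mp hl).irreducible.coprime_iff_not_dvd).mpr hi :
    IsCoprime (l : ℤ) (b.repr (toR ⟨c, hc⟩).toAdd i))
  refine hm0 (m0 ^ s * ((G x)⁻¹) ^ t) ?_
  calc (m0 ^ s * ((G x)⁻¹) ^ t) ^ l = (m0 ^ s) ^ l * (((G x)⁻¹) ^ l) ^ t := by
        rw [mul_pow, ← zpow_natCast (((G x)⁻¹) ^ t), ← zpow_mul, mul_comm t, zpow_mul, zpow_natCast]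
    _ = m0 ^ (s * (l : ℤ) + t * b.repr (toR ⟨c, hc⟩).toAdd i) := by
        rw [hfc, ← zpow_natCast (m0 ^ s), ← zpow_mul, ← zpow_mul, ← zpow_add, mul_comm t]
    _ = m0 := by rw [hst, zpow_one]

end Cfsg.Agent.S3974
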