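import Cfsg.Statements.S3975
import Mathlib

set_option autoImplicit false
open Cfsg

namespace Cfsg.Agent.S3975

universe u

open scoped Pointwise

/-- Wielandt's count of the subgroups of order `p ^ β`. -/
theorem card_subgroups_modEq {G : Type u} [Group G] [Finite G] {p : ℕ} (hp : p.Prime) (β m : ℕ)
    (hn : Nat.card G = p ^ β * m) :
    Nat.card {H : Subgroup G // Nat.card H = p ^ β} ≡ (Nat.card G - 1).choose (p ^ β - 1) [MOD p] := by
  classical
  haveI := Fintype.ofFinite G
  set k := p ^ β with hk
  have hkpos : 0 < k := pow_pos hp.pos _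
  have hm0 : 0 < m := Nat.pos_of_ne_zero fun h => Nat.card_pos.ne' (by rw [hn, h, mul_zero])
  let A := {S : Finset G // S.card = k}
  letI : MulAction G A :=
    { smul := fun g S => ⟨g • S.1, by rw [Finset.card_smul_finset]; exact S.2⟩
      one_smul := fun S => Subtype.ext (one_smul G S.1)
      mul_smul := fun a b S => Subtype.ext (mul_smul a b S.1) }
  have hA : Fintype.card A = (Nat.card G).choose k := by
    rw [Fintype.card_finset_len, Nat.card_eq_fintype_card]
  -- the stabiliser of a set has order dividing `k`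
  have hstab : ∀ S : A, Nat.card (MulAction.stabilizer G S) ∣ k := by
    intro S
    set H := MulAction.stabilizer G S
    have hmem : ∀ h ∈ H, ∀ x ∈ S.1, h * x ∈ S.1 := fun h hh x hx => by
      have h1 : h • S.1 = S.1 := congrArg Subtype.val (MulAction.mem_stabilizer_iff.mp hh)
      rw [← h1]
      exact Finset.smul_mem_smul_finset hx
    let T := {x : G // x⁻¹ ∈ S.1}
    have hT : Nat.card T = k := by
      rw [← S.2, ← Fintype.card_coe, ← Nat.card_eq_fintype_card]
      exact Nat.card_congr ((Equiv.inv G).subtypeEquiv fun x => Iff.rfl)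
    have hpre : ∀ x : G, x⁻¹ ∈ S.1 ↔ (QuotientGroup.mk x : G ⧸ H) ∈
        (QuotientGroup.mk '' {x : G | x⁻¹ ∈ S.1} : Set (G ⧸ H)) := by
      intro x
      refine ⟨fun hx => ⟨x, hx, rfl⟩, fun ⟨y, hy, hyx⟩ => ?_⟩
      have h1 : y⁻¹ * x ∈ H := QuotientGroup.eq.mp hyx
      have h2 := hmem _ (inv_mem h1) _ hy
      simpa [mul_assoc] using h2
    let U : Set (G ⧸ H) := QuotientGroup.mk '' {x : G | x⁻¹ ∈ S.1}
    let e1 : T ≃ (QuotientGroup.mk ⁻¹' U : Set G) := Equiv.subtypeEquivRight hpre
    have e := e1.trans (QuotientGroup.preimageMkEquivSubgroupProdSet H U)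
    rw [← hT, Nat.card_congr e, Nat.card_prod]
    exact dvd_mul_right _ _
  have horb : ∀ S : A, Nat.card (MulAction.orbit G S) * Nat.card (MulAction.stabilizer G S) = k * m := by
    intro S
    rw [← hn, mul_comm, ← (MulAction.stabilizer G S).card_mul_index, MulAction.index_stabilizer,
      Nat.card_coe_set_eq]
  set Full := (Finset.univ : Finset A).filter fun S => Nat.card (MulAction.stabilizer G S) = k with hFull
  -- sets with full stabiliser are the right cosets of the subgroups of order `k`
  have hfullcard : Full.card = Nat.card {H : Subgroup G // Nat.card H = k} * m := by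
    haveI := Fintype.ofFinite {H : Subgroup G // Nat.card H = k}
    let f : Full → Subgroup G := fun S => MulAction.stabilizer G S.1
    have hfib : ∀ H : {H : Subgroup G // Nat.card H = k},
        Nat.card {S : Full // f S = H.1} = m := by
      rintro ⟨H, hH⟩
      have hidx : H.index = m := by
        have h1 := H.card_mul_index
        rw [hH, hn] at h1
        exact Nat.eq_of_mul_eq_mul_left hkpos h1
      have hcos : ∀ x : G, ∃ S : {S : Full // f S = H},
          ∀ y : G, y ∈ S.1.1.1 ↔ y * x⁻¹ ∈ H := by
        intro x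
        let C : Finset G := Finset.univ.filter fun y => y * x⁻¹ ∈ H
        have hC : C.card = k := by
          rw [← Fintype.card_subtype, ← Nat.card_eq_fintype_card, ← hH]
          exact Nat.card_congr ((Equiv.mulRight x⁻¹).subtypeEquiv fun y => Iff.rfl)
        have hst : MulAction.stabilizer G (⟨C, hC⟩ : A) = H := by
          ext h
          rw [MulAction.mem_stabilizer_iff]
          constructor
          · intro he
            have h1 : h * x ∈ h • C :=
              Finset.smul_mem_smul_finset (Finset.mem_filter.mpr ⟨Finset.mem_univ x, by simp [one_mem]⟩)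
            rw [show h • C = C from congrArg Subtype.val he, Finset.mem_filter] at h1
            simpa using h1.2
          · intro hh
            refine Subtype.ext ?_
            show h • C = C
            ext y
            rw [← Finset.inv_smul_mem_iff, Finset.mem_filter, Finset.mem_filter]
            simp only [Finset.mem_univ, true_and, smul_eq_mul, mul_assoc]
            exact Subgroup.mul_mem_cancel_left H (inv_mem hh)
        refine ⟨⟨⟨⟨C, hC⟩, Finset.mem_filter.mpr ⟨Finset.mem_univ _, by rw [hst]; exact hH⟩⟩, hst⟩, fun y => ?_⟩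
        simp [C]
      choose c hc using hcos
      rw [← hidx, Subgroup.index_eq_card]
      symm
      refine Nat.card_eq_of_bijective (fun q : G ⧸ H => c q.out⁻¹) ⟨fun q q' h => ?_, fun S => ?_⟩
      · have h1 := (hc q.out⁻¹ q'.out⁻¹).mp (by
          have : q'.out⁻¹ ∈ (c q'.out⁻¹).1.1.1 := (hc _ _).mpr (by simp [one_mem])
          rwa [← show c q.out⁻¹ = c q'.out⁻¹ from h] at this)
        rw [← q.out_eq, ← q'.out_eq]
        refine (QuotientGroup.eq.mpr ?_).symm
        simpa using h1
      · obtain ⟨x, hx⟩ : S.1.1.1.Nonempty := Finset.card_pos.mp (by rw [S.1.1.2]; exact hkpos)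
        refine ⟨QuotientGroup.mk x⁻¹, ?_⟩
        have hsub : (c (QuotientGroup.mk x⁻¹ : G ⧸ H).out⁻¹).1.1.1 ⊆ S.1.1.1 := by
          intro y hy
          rw [hc, inv_inv] at hy
          obtain ⟨⟨h₀, hh₀⟩, ho⟩ := QuotientGroup.mk_out_eq_mul H x⁻¹
          rw [show (QuotientGroup.mk x⁻¹ : G ⧸ H).out = x⁻¹ * h₀ from ho] at hy
          have hyx : y * x⁻¹ ∈ H := by
            have := mul_mem hy (inv_mem hh₀)
            simpa [mul_assoc] using this
          have hst : y * x⁻¹ ∈ MulAction.stabilizer G S.1.1 := by
            rw [show MulAction.stabilizer G S.1.1 = H from S.2]; exact hyx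
          have h1 : (y * x⁻¹) • S.1.1.1 = S.1.1.1 := congrArg Subtype.val (MulAction.mem_stabilizer_iff.mp hst)
          rw [← h1]
          have h2 := Finset.smul_mem_smul_finset (a := y * x⁻¹) hx
          simpa using h2
        refine Subtype.ext (Subtype.ext (Subtype.ext ?_))
        exact Finset.eq_of_subset_of_card_le hsub
          (le_of_eq (S.1.1.2.trans (c (QuotientGroup.mk x⁻¹ : G ⧸ H).out⁻¹).1.1.2.symm))
    rw [← Fintype.card_coe, ← Nat.card_eq_fintype_card]
    let f' : Full → {H : Subgroup G // Nat.card H = k} := fun S => ⟨f S, (Finset.mem_filter.mp S.2).2⟩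
    rw [← Nat.card_congr (Equiv.sigmaFiberEquiv f'), Nat.card_sigma,
      Finset.sum_const_nat (m := m) fun H _ => ?_, Finset.card_univ, ← Nat.card_eq_fintype_card]
    rw [← hfib H]
    exact Nat.card_congr (Equiv.subtypeEquivRight fun S => Subtype.ext_iff)
  have hrest : p * m ∣ ((Finset.univ : Finset A).filter
      fun S => ¬ Nat.card (MulAction.stabilizer G S) = k).card := by
    rw [Finset.card_eq_sum_card_image (fun S => MulAction.orbit G S)]
    refine Finset.dvd_sum fun O hO => ?_
    obtain ⟨S, hS, rfl⟩ := Finset.mem_image.mp hO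
    have hSk := (Finset.mem_filter.mp hS).2
    obtain ⟨j, hj, hje⟩ := (Nat.dvd_prime_pow hp).mp (hk ▸ hstab S)
    have hjlt : j < β := lt_of_le_of_ne hj fun h => hSk (by rw [hje, h, hk])
    have hcard : p * m ∣ Nat.card (MulAction.orbit G S) := by
      refine ⟨p ^ (β - j - 1), Nat.eq_of_mul_eq_mul_right (pow_pos hp.pos j) ?_⟩
      rw [← hje, horb, hje, hk, show β = (β - j - 1) + 1 + j by omega]
      simp only [show β - j - 1 + 1 + j - j - 1 = β - j - 1 by omega]
      rw [pow_add, pow_add, pow_one]
      ring
    refine hcard.trans (dvd_of_eq ?_)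
    rw [← Fintype.card_coe, ← Nat.card_eq_fintype_card]
    refine Nat.card_congr (Equiv.subtypeEquivRight fun T => ?_)
    simp only [Finset.mem_filter, Finset.mem_univ, true_and]
    constructor
    · intro hT
      refine ⟨?_, MulAction.orbit_eq_iff.mpr hT⟩
      obtain ⟨g, rfl⟩ := hT
      show ¬ Nat.card (MulAction.stabilizer G (g • S)) = k
      rw [MulAction.stabilizer_smul_eq_stabilizer_map_conj, Nat.card_congr
        (((MulAction.stabilizer G S).equivMapOfInjective _ (MulAut.conj g).injective).toEquiv).symm]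
      exact hSk
    · exact fun hT => MulAction.orbit_eq_iff.mp hT.2
  have hsplit := Finset.card_filter_add_card_filter_not (s := (Finset.univ : Finset A))
    (fun S => Nat.card (MulAction.stabilizer G S) = k)
  rw [← hFull, hfullcard, Finset.card_univ, hA] at hsplit
  obtain ⟨r, hr⟩ := hrest
  rw [hr] at hsplit
  have hchoose : (Nat.card G).choose k = m * (Nat.card G - 1).choose (k - 1) := by
    obtain ⟨n', hn'⟩ : ∃ n', Nat.card G = n' + 1 := ⟨Nat.card G - 1, (Nat.succ_pred_eq_of_pos Nat.card_pos).symm⟩
    obtain ⟨k', hk'⟩ : ∃ k', k = k' + 1 := ⟨k - 1, (Nat.succ_pred_eq_of_pos hkpos).symm⟩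
    have h := Nat.add_one_mul_choose_eq n' k'
    rw [← hn', ← hk'] at h
    rw [show Nat.card G - 1 = n' by omega, show k - 1 = k' by omega]
    refine Nat.eq_of_mul_eq_mul_left hkpos ?_
    rw [← mul_assoc, ← hn, h, mul_comm]
  have key : Nat.card {H : Subgroup G // Nat.card H = k} + p * r = (Nat.card G - 1).choose (k - 1) := by
    refine Nat.eq_of_mul_eq_mul_left hm0 ?_
    rw [← hchoose, ← hsplit]
    ring
  rw [← key]
  exact (Nat.modEq_iff_dvd' (Nat.le_add_right _ _)).mpr ⟨r, by omega⟩

theorem card_subgroups_cyclic {n k : ℕ} [NeZero n] (hk : k ∣ n) :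
    Nat.card {H : Subgroup (Multiplicative (ZMod n)) // Nat.card H = k} = 1 := by
  haveI : Fintype (Multiplicative (ZMod n)) := Fintype.ofFinite _
  have hcard : Nat.card (Multiplicative (ZMod n)) = n := by
    rw [Nat.card_congr Multiplicative.toAdd, Nat.card_zmod]
  rw [Nat.card_eq_one_iff_unique]
  refine ⟨⟨fun a b => Subtype.ext ?_⟩, ?_⟩
  · classical
    have key : ∀ H : Subgroup (Multiplicative (ZMod n)), Nat.card H = k →
        (H : Set (Multiplicative (ZMod n))) = {x | x ^ k = 1} := by
      intro H hH
      refine Set.eq_of_subset_of_ncard_le (fun x hx => ?_) ?_ (Set.toFinite _)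
      · exact orderOf_dvd_iff_pow_eq_one.mp (hH ▸ Subgroup.orderOf_dvd_natCard H hx)
      · rw [← Nat.card_coe_set_eq, ← Nat.card_coe_set_eq (H : Set (Multiplicative (ZMod n)))]
        refine le_trans ?_ (le_of_eq hH.symm)
        rw [Nat.card_eq_fintype_card, Fintype.card_subtype]
        exact IsCyclic.card_pow_eq_one_le (Nat.pos_of_ne_zero fun h => NeZero.ne n (Nat.eq_zero_of_zero_dvd (h ▸ hk)))
    exact SetLike.coe_injective ((key a.1 a.2).trans (key b.1 b.2).symm)
  · obtain ⟨g, hg⟩ := IsCyclic.exists_generator (α := Multiplicative (ZMod n))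
    have hog : orderOf g = n := by rw [orderOf_eq_card_of_forall_mem_zpowers hg, hcard]
    obtain ⟨c, hc⟩ := hk
    refine ⟨⟨Subgroup.zpowers (g ^ c), ?_⟩⟩
    rw [Nat.card_zpowers, orderOf_pow, hog, hc, Nat.gcd_eq_right (dvd_mul_left c k),
      Nat.mul_div_cancel _ (Nat.pos_of_ne_zero fun h => NeZero.ne n (by rw [hc, h, mul_zero]))]

/-- Let `p` be a prime and `G` a finite group whose order is divisible by `p ^ β`. Then the number of subgroups of `G` of order `p ^ β` is congruent to `1` modulo `p`. (When `p ^ β` is the full power of `p` dividing the order, these are the Sylow `p`-subgroups and this is the usual Sylow count.) -/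
theorem result {G : Type*} [Group G] [Finite G] (p β : ℕ) (hp : p.Prime) (hdiv : p ^ β ∣ Nat.card G) : Nat.card {H : Subgroup G // Nat.card H = p ^ β} ≡ 1 [MOD p] := by
  obtain ⟨m, hm⟩ := hdiv
  haveI : NeZero (Nat.card G) := ⟨Nat.card_pos.ne'⟩
  have hc : Nat.card (Multiplicative (ZMod (Nat.card G))) = Nat.card G := by
    rw [Nat.card_congr Multiplicative.toAdd, Nat.card_zmod]
  have h1 := card_subgroups_modEq hp β m hm
  have h2 := card_subgroups_modEq (G := Multiplicative (ZMod (Nat.card G))) hp β m (hc.trans hm)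
  rw [card_subgroups_cyclic ⟨m, hm⟩, hc] at h2
  exact h1.trans h2.symm

end Cfsg.Agent.S3975
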