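import Cfsg.Statements.S3976
import Cfsg.Agent.S3975
import Cfsg.Agent.Lib.Coprime.Hall

set_option autoImplicit false
open Cfsg

namespace Cfsg.Agent.S3976

open scoped Pointwise

/-- Let `p` be a prime and `G` a group of order `p ^ m`. For every `s ≤ m` the number of normal subgroups of `G` of order `p ^ s` is congruent to `1` modulo `p`. -/
theorem result {G : Type*} [Group G] [Finite G] (p m s : ℕ) (hp : p.Prime) (hG : Nat.card G = p ^ m) (hs : s ≤ m) : Nat.card {H : Subgroup G // H.Normal ∧ Nat.card H = p ^ s} ≡ 1 [MOD p] := by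
  haveI := Fact.mk hp
  letI : MulAction G {H : Subgroup G // Nat.card H = p ^ s} :=
    { smul := fun g H => ⟨MulAut.conj g • H.1, by
        rw [Cfsg.Agent.Lib.Coprime.card_conj_smul]; exact H.2⟩
      one_smul := fun H => Subtype.ext (by show MulAut.conj (1 : G) • H.1 = H.1; rw [map_one, one_smul])
      mul_smul := fun a b H => Subtype.ext (by
        show MulAut.conj (a * b) • H.1 = MulAut.conj a • MulAut.conj b • H.1
        rw [map_mul, mul_smul]) }
  have h1 := (IsPGroup.of_card (n := m) hG : IsPGroup p G).card_modEq_card_fixedPoints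
    {H : Subgroup G // Nat.card H = p ^ s}
  have h2 := Cfsg.Agent.S3975.result (G := G) p s hp (hG ▸ pow_dvd_pow p hs)
  refine Nat.ModEq.trans ?_ (h1.symm.trans h2)
  show _ % p = _ % p
  congr 1
  refine (Nat.card_congr
    { toFun := fun H => ⟨⟨H.1, H.2.2⟩, fun g => Subtype.ext ?_⟩
      invFun := fun H => ⟨H.1.1, ⟨fun x hx g => ?_⟩, H.1.2⟩
      left_inv := fun H => rfl
      right_inv := fun H => rfl })
  · show MulAut.conj g • H.1 = H.1
    refine Subgroup.ext fun x => ?_
    rw [Cfsg.Agent.Lib.Coprime.mem_conj_smul]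
    refine ⟨fun hx => ?_, fun hx => ?_⟩
    · have := H.2.1.conj_mem _ hx g
      simpa [mul_assoc] using this
    · simpa using H.2.1.conj_mem x hx g⁻¹
  · have h3 : MulAut.conj g • H.1.1 = H.1.1 := congrArg Subtype.val (H.2 g)
    rw [← h3, Cfsg.Agent.Lib.Coprime.mem_conj_smul]
    simpa [mul_assoc] using hx

end Cfsg.Agent.S3976
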