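import Cfsg.Statements.S3977
import Cfsg.Agent.Lib.Frobenius.UniqueSubgroup
import Mathlib.Tactic

set_option autoImplicit false
open Cfsg

namespace Cfsg.Agent.S3977

/-- Let `p` be a prime and `G` a group of order `p ^ m` which has exactly one subgroup of order `p ^ s`, where `1 ≤ s < m`, and where `s ≥ 2` if `p = 2`. Then `G` is cyclic. (For `p = 2` and `s = 1` the generalized quaternion groups also occur; that case is the classical criterion for a unique involution.) -/
theorem result {G : Type*} [Group G] [Finite G] (p m s : ℕ) (hp : p.Prime) (hG : Nat.card G = p ^ m) (hs : 1 ≤ s) (hsm : s < m) (h2 : p ≠ 2 ∨ 2 ≤ s) (huniq : ∀ H K : Subgroup G, Nat.card H = p ^ s → Nat.card K = p ^ s → H = K) : IsCyclic G := by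
  haveI := Fact.mk hp
  have hGp : IsPGroup p G := IsPGroup.of_card hG
  obtain ⟨H, hH⟩ := Sylow.exists_subgroup_card_pow_prime p (n := s) (G := G) (hG ▸ pow_dvd_pow p hsm.le)
  have hsmall : ∀ x : G, orderOf x ≤ p ^ s → x ∈ H := by
    intro x hx
    obtain ⟨j, hj⟩ := IsPGroup.iff_orderOf.mp hGp x
    have hjs : j ≤ s := (Nat.pow_le_pow_iff_right hp.one_lt).mp (hj ▸ hx)
    obtain ⟨K, hKc, hK⟩ := Sylow.exists_subgroup_card_pow_prime_le p (n := j) (m := s) (G := G)
      (hG ▸ pow_dvd_pow p hsm.le) (Subgroup.zpowers x) (by rw [Nat.card_zpowers, hj]) hjs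
    rw [← huniq K H hKc hH]
    exact hK (Subgroup.mem_zpowers x)
  obtain ⟨x, hx⟩ : ∃ x : G, x ∉ H := by
    by_contra hall
    push Not at hall
    have : Nat.card H = Nat.card G := by rw [(Subgroup.eq_top_iff' H).mpr hall, Subgroup.card_top]
    rw [hH, hG] at this
    exact absurd (Nat.pow_right_injective hp.two_le this) hsm.ne
  have hcyc : IsCyclic H := by
    obtain ⟨j, hj⟩ := IsPGroup.iff_orderOf.mp hGp x
    have hsj : s < j := by
      by_contra hle
      exact hx (hsmall x (hj ▸ Nat.pow_le_pow_right hp.pos (not_lt.mp hle)))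
    have hy : orderOf (x ^ p ^ (j - s)) = p ^ s := by
      rw [orderOf_pow, hj, Nat.gcd_eq_right (pow_dvd_pow p (Nat.sub_le j s)),
        Nat.pow_div (Nat.sub_le j s) hp.pos, Nat.sub_sub_self hsj.le]
    rw [← huniq (Subgroup.zpowers (x ^ p ^ (j - s))) H (by rw [Nat.card_zpowers, hy]) hH]
    exact Subgroup.isCyclic_zpowers _
  have huni : ∀ a b : G, orderOf a = p → orderOf b = p → a ∈ Subgroup.zpowers b := by
    intro a b ha hb
    have hps : p ≤ p ^ s := Nat.le_self_pow (by omega) p
    have hb' := hsmall b (hb ▸ hps)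
    have ha' := hsmall a (ha ▸ hps)
    haveI := hcyc
    classical
    haveI : Fintype H := Fintype.ofFinite H
    have hle : Nat.card (Subgroup.zpowers (⟨b, hb'⟩ : H)) ≥
        (Finset.univ.filter fun v : H => v ^ p = 1).card := by
      rw [Nat.card_zpowers, Subgroup.orderOf_mk, hb]
      exact IsCyclic.card_pow_eq_one_le hp.pos
    have hsub : ((Subgroup.zpowers (⟨b, hb'⟩ : H)) : Set H).toFinset ⊆
        Finset.univ.filter fun v : H => v ^ p = 1 := fun v hv => by
      rw [Set.mem_toFinset] at hv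
      refine Finset.mem_filter.mpr ⟨Finset.mem_univ _, orderOf_dvd_iff_pow_eq_one.mp ?_⟩
      exact (Subgroup.orderOf_dvd_natCard _ hv).trans (by rw [Nat.card_zpowers, Subgroup.orderOf_mk, hb])
    have heq := Finset.eq_of_subset_of_card_le hsub (by
      rw [Set.toFinset_card, ← Nat.card_eq_fintype_card]; exact hle)
    have hmem : (⟨a, ha'⟩ : H) ∈ ((Subgroup.zpowers (⟨b, hb'⟩ : H)) : Set H).toFinset := by
      rw [heq, Finset.mem_filter]
      exact ⟨Finset.mem_univ _, Subtype.ext (by rw [SubmonoidClass.coe_pow, ← ha]; exact pow_orderOf_eq_one a)⟩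
    rw [Set.mem_toFinset] at hmem
    obtain ⟨i, hi⟩ := hmem
    exact ⟨i, congrArg Subtype.val hi⟩
  rcases Cfsg.Agent.Lib.Frobenius.isCyclic_or_quaternion_of_unique hGp huni with h | ⟨rfl, l, ⟨e⟩⟩
  · exact h
  · exfalso
    haveI : NeZero (2 ^ (l + 1)) := ⟨by positivity⟩
    have hs2 : 2 ≤ s := h2.resolve_left (fun h => h rfl)
    have hmem : ∀ i : ZMod (2 * 2 ^ (l + 1)), e.symm (QuaternionGroup.xa i) ∈ H := fun i => by
      refine hsmall _ ?_
      have : orderOf (e.symm (QuaternionGroup.xa i)) = 4 :=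
        (orderOf_injective e.symm.toMonoidHom e.symm.injective _).trans (QuaternionGroup.orderOf_xa i)
      rw [this]
      calc 4 = 2 ^ 2 := rfl
        _ ≤ 2 ^ s := Nat.pow_le_pow_right two_pos hs2
    haveI := hcyc
    have hc := congrArg Subtype.val
      (IsCyclic.isMulCommutative.is_comm.comm (⟨_, hmem 0⟩ : H) ⟨_, hmem 1⟩)
    simp only [Subgroup.coe_mul, ← map_mul, EmbeddingLike.apply_eq_iff_eq, QuaternionGroup.xa_mul_xa,
      QuaternionGroup.a.injEq] at hc
    have h20 : ((2 : ℕ) : ZMod (2 * 2 ^ (l + 1))) = 0 := by push_cast; linear_combination hc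
    rw [ZMod.natCast_eq_zero_iff] at h20
    have := Nat.le_of_dvd two_pos h20
    have : 2 ≤ 2 ^ (l + 1) := Nat.le_self_pow (by omega) 2
    omega

end Cfsg.Agent.S3977
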