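import Mathlib
import Cfsg.Statements.S3978
import Cfsg.Agent.Lib.SchurMultiplier

set_option autoImplicit false
open Cfsg

namespace Cfsg.Agent.S3978

open Cfsg.Agent.Lib.SchurMultiplier

/-- A faithful-on-the-centre monomial representation of a finite group. -/
theorem exists_rep {Γ : Type*} [Group Γ] [Finite Γ] (M : Subgroup Γ) (hM : M ≤ Subgroup.center Γ)
    {a : Γ} (ha : a ∈ M) (ha1 : a ≠ 1) :
    ∃ (n : ℕ) (ρ : Γ →* GL (Fin n) ℂ),
      (∀ m ∈ M, ρ m ∈ Subgroup.center (GL (Fin n) ℂ)) ∧ ρ a ≠ 1 := by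
  classical
  letI : CommGroup M :=
    { (inferInstance : Group M) with
      mul_comm := fun x y => Subtype.ext (Subgroup.mem_center_iff.mp (hM y.2) x) }
  obtain ⟨lam, hlam⟩ := CommGroup.exists_apply_ne_one_of_hasEnoughRootsOfUnity M ℂ
    (a := ⟨a, ha⟩) (fun h => ha1 (congrArg Subtype.val h))
  let V : Submodule ℂ (Γ → ℂ) :=
    { carrier := {f | ∀ (g : Γ) (m : M), f (g * m) = (lam m : ℂ) * f g}
      zero_mem' := fun g m => by simp
      add_mem' := fun {f f'} hf hf' g m => by simp [hf g m, hf' g m, mul_add]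
      smul_mem' := fun c f hf g m => by simp [hf g m, mul_left_comm] }
  let act : Γ →* Module.End ℂ V :=
    { toFun := fun g =>
        { toFun := fun f => ⟨fun x => f.1 (g⁻¹ * x), fun x m => by
            show f.1 (g⁻¹ * (x * m)) = _
            rw [← mul_assoc, f.2 (g⁻¹ * x) m]⟩
          map_add' := fun _ _ => rfl
          map_smul' := fun _ _ => rfl }
      map_one' := LinearMap.ext fun f => Subtype.ext (funext fun x => by simp)
      map_mul' := fun g h => LinearMap.ext fun f => Subtype.ext (funext fun x => by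
        show f.1 ((g * h)⁻¹ * x) = f.1 (h⁻¹ * (g⁻¹ * x))
        rw [mul_inv_rev, mul_assoc]) }
  have hscalar : ∀ (m : M) (f : V), act (m : Γ) f = ((lam m⁻¹ : ℂˣ) : ℂ) • f := by
    intro m f
    refine Subtype.ext (funext fun x => ?_)
    show f.1 ((m : Γ)⁻¹ * x) = ((lam m⁻¹ : ℂˣ) : ℂ) * f.1 x
    rw [← f.2 x m⁻¹, Subgroup.coe_inv, ← Subgroup.mem_center_iff.mp (inv_mem (hM m.2)) x]
  let b := Module.finBasis ℂ V
  let ρ : Γ →* GL (Fin (Module.finrank ℂ V)) ℂ :=
    (Units.map (LinearMap.toMatrixAlgEquiv b).toMulEquiv.toMonoidHom).comp act.toHomUnits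
  refine ⟨Module.finrank ℂ V, ρ, fun m hm => ?_, ?_⟩
  · rw [Matrix.GeneralLinearGroup.center_eq_range_scalar]
    refine ⟨lam (⟨m, hm⟩ : M)⁻¹, Units.ext ?_⟩
    show Matrix.scalar (Fin (Module.finrank ℂ V)) ((lam (⟨m, hm⟩ : M)⁻¹ : ℂˣ) : ℂ) =
      LinearMap.toMatrixAlgEquiv b (act m)
    have h : act m = algebraMap ℂ (Module.End ℂ V) ((lam (⟨m, hm⟩ : M)⁻¹ : ℂˣ) : ℂ) :=
      LinearMap.ext fun f => hscalar ⟨m, hm⟩ f
    rw [h, AlgEquiv.commutes]
    rfl
  · intro h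
    have hact : act a = 1 := by
      apply (LinearMap.toMatrixAlgEquiv b).injective
      rw [map_one]
      exact congrArg Units.val h
    let f0 : V := ⟨fun x => if hx : x ∈ M then (lam ⟨x, hx⟩ : ℂ) else 0, fun g m => by
      by_cases hg : g ∈ M
      · show dite (g * (m : Γ) ∈ M) _ _ = (lam m : ℂ) * dite (g ∈ M) _ _
        rw [dif_pos hg, dif_pos (M.mul_mem hg m.2), mul_comm,
          ← Units.val_mul, ← map_mul]
        rfl
      · show dite (g * (m : Γ) ∈ M) _ _ = (lam m : ℂ) * dite (g ∈ M) _ _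
        rw [dif_neg hg, dif_neg (fun h' => hg ((M.mul_mem_cancel_right m.2).mp h')), mul_zero]⟩
    have h1 := hscalar ⟨a, ha⟩ f0
    rw [hact, Module.End.one_apply] at h1
    have h2 := congrFun (congrArg Subtype.val h1) 1
    have hval : f0.1 1 = 1 := by
      show dite ((1 : Γ) ∈ M) _ _ = (1 : ℂ)
      rw [dif_pos M.one_mem]
      show ((lam (1 : M) : ℂˣ) : ℂ) = 1
      rw [map_one, Units.val_one]
    have h3 : f0.1 1 = ((lam (⟨a, ha⟩ : M)⁻¹ : ℂˣ) : ℂ) * f0.1 1 := h2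
    rw [hval, mul_one] at h3
    apply hlam
    rw [← inv_eq_one, ← map_inv]
    exact Units.ext h3.symm

/-- A finite group `Q` has trivial Schur multiplier if and only if, for every `n`, every homomorphism from `Q` to the projective general linear group (the quotient of `GL n ℂ` by its centre) lifts to a homomorphism into `GL n ℂ`. -/
theorem result {Q : Type*} [Group Q] [Finite Q] : Cfsg.HasCyclicSchurMultiplier Q 1 ↔ ∀ (n : ℕ) (γ : Q →* (GL (Fin n) ℂ ⧸ Subgroup.center (GL (Fin n) ℂ))), ∃ ρ : Q →* GL (Fin n) ℂ, (QuotientGroup.mk' (Subgroup.center (GL (Fin n) ℂ))).comp ρ = γ := by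
  rw [hasCyclicSchurMultiplier_one_iff]
  obtain ⟨Γ, iG, iF, σ, -, hσ, ⟨e⟩, -, -⟩ := exists_cover Q
  constructor
  · intro hm n γ
    have hcard : Nat.card σ.ker = Nat.card (mult Q) := Nat.card_congr e.toEquiv
    obtain ⟨ρ, hρ⟩ := exists_projective_lift hσ hcard γ
    have hinj : Function.Injective σ := by
      rw [← MonoidHom.ker_eq_bot_iff]
      exact Subgroup.eq_bot_of_card_eq _ (by rw [hcard, hm, Subgroup.card_bot])
    let τ := (MulEquiv.ofBijective σ ⟨hinj, hσ.1⟩).symm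
    refine ⟨ρ.comp τ.toMonoidHom, MonoidHom.ext fun q => ?_⟩
    have := DFunLike.congr_fun hρ (τ q)
    simp only [MonoidHom.comp_apply] at this ⊢
    exact this.trans (congrArg γ ((MulEquiv.ofBijective σ ⟨hinj, hσ.1⟩).apply_symm_apply q))
  · intro hlift
    by_contra hne
    obtain ⟨a, ha, ha1⟩ : ∃ a ∈ σ.ker, a ≠ 1 := by
      by_contra h
      push Not at h
      refine hne (Subgroup.eq_bot_of_card_eq _ ?_)
      rw [← Nat.card_congr e.toEquiv, (Subgroup.eq_bot_iff_forall _).mpr h, Subgroup.card_bot]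
    obtain ⟨n, ρ, hcent, hρa⟩ := exists_rep σ.ker hσ.2.1 ha ha1
    set Z := Subgroup.center (GL (Fin n) ℂ)
    obtain ⟨γ, hγ⟩ : ∃ γ : Q →* GL (Fin n) ℂ ⧸ Z, ∀ g, γ (σ g) = QuotientGroup.mk' Z (ρ g) := by
      have hk : σ.ker ≤ ((QuotientGroup.mk' Z).comp ρ).ker := fun g hg =>
        (QuotientGroup.eq_one_iff _).mpr (hcent g hg)
      exact ⟨MonoidHom.liftOfSurjective σ hσ.1 ⟨_, hk⟩, fun g =>
        MonoidHom.liftOfRightInverse_comp_apply σ _ (Function.rightInverse_surjInv hσ.1) ⟨_, hk⟩ g⟩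
    obtain ⟨ρ', hρ'⟩ := hlift n γ
    have hz : ∀ g, (ρ' (σ g))⁻¹ * ρ g ∈ Z := fun g => by
      rw [← QuotientGroup.eq_one_iff]
      show QuotientGroup.mk' Z ((ρ' (σ g))⁻¹ * ρ g) = 1
      rw [map_mul, map_inv, ← MonoidHom.comp_apply (QuotientGroup.mk' Z) ρ' (σ g), hρ', hγ,
        inv_mul_cancel]
    let χ : Γ →* Z := MonoidHom.mk' (fun g => ⟨(ρ' (σ g))⁻¹ * ρ g, hz g⟩) (fun g h => by
      apply Subtype.ext
      show (ρ' (σ (g * h)))⁻¹ * ρ (g * h) = (ρ' (σ g))⁻¹ * ρ g * ((ρ' (σ h))⁻¹ * ρ h)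
      rw [map_mul, map_mul, map_mul, mul_inv_rev]
      calc (ρ' (σ h))⁻¹ * (ρ' (σ g))⁻¹ * (ρ g * ρ h)
          = (ρ' (σ h))⁻¹ * ((ρ' (σ g))⁻¹ * ρ g) * ρ h := by simp only [mul_assoc]
        _ = ((ρ' (σ g))⁻¹ * ρ g) * (ρ' (σ h))⁻¹ * ρ h := by
            rw [Subgroup.mem_center_iff.mp (hz g) _]
        _ = _ := by simp only [mul_assoc])
    letI : CommGroup Z :=
      { (inferInstance : Group Z) with
        mul_comm := fun x y => Subtype.ext (Subgroup.mem_center_iff.mp y.2 x) }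
    have hχa : χ a = 1 := Abelianization.commutator_subset_ker χ (hσ.2.2 ha)
    apply hρa
    have h1 : (ρ' (σ a))⁻¹ * ρ a = 1 := congrArg Subtype.val hχa
    rwa [MonoidHom.mem_ker.mp ha, map_one, inv_one, one_mul] at h1

end Cfsg.Agent.S3978
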