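import Cfsg.Statements.S3979
import Mathlib.GroupTheory.SpecificGroups.Cyclic

set_option autoImplicit false
open Cfsg

namespace Cfsg.Agent.S3979

/-- A finite cyclic group has trivial Schur multiplier: every finite stem extension of it is an isomorphism, said through `HasCyclicSchurMultiplier G 1`. -/
theorem result {G : Type*} [Group G] [Finite G] [IsCyclic G] : Cfsg.HasCyclicSchurMultiplier G 1 := by
  haveI : Fact (Nat.card (Multiplicative (ZMod 1)) = 1) := ⟨by simp⟩
  haveI : Subsingleton (Multiplicative (ZMod 1)) :=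
    (Nat.card_eq_one_iff_unique.mp (Fact.out : Nat.card (Multiplicative (ZMod 1)) = 1)).1
  refine ⟨⟨G, inferInstance, inferInstance, MonoidHom.id G, ⟨fun x => ⟨x, rfl⟩, ?_, ?_⟩, ?_⟩, ?_⟩
  · rw [MonoidHom.ker_id]; exact bot_le
  · rw [MonoidHom.ker_id]; exact bot_le
  · haveI : Subsingleton (MonoidHom.id G).ker := by
      rw [MonoidHom.ker_id]; infer_instance
    haveI : Unique (MonoidHom.id G).ker := uniqueOfSubsingleton 1
    haveI : Unique (Multiplicative (ZMod 1)) := uniqueOfSubsingleton 1
    exact ⟨MulEquiv.ofUnique⟩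
  · intro Γ _ _ σ hσ
    obtain ⟨hsurj, hcen, hcomm⟩ := hσ
    haveI : IsMulCommutative Γ := σ.isMulCommutative_of_isCyclic_of_ker_le_center hcen
    have hker : σ.ker = ⊥ := by
      rw [eq_bot_iff]
      refine hcomm.trans ?_
      rw [commutator_def, Subgroup.commutator_le]
      intro a _ b _
      rw [Subgroup.mem_bot, commutatorElement_eq_one_iff_mul_comm]
      exact mul_comm' a b
    refine ⟨1, fun x => ⟨1, ?_⟩⟩
    apply Subtype.ext
    have := x.2
    simp only [hker, Subgroup.mem_bot] at this
    simpa using this.symm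

end Cfsg.Agent.S3979
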