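import Mathlib
import Cfsg.Statements.S3980
import Cfsg.Agent.Lib.SchurMultiplier


set_option autoImplicit false
universe u v w
open Cfsg

namespace Cfsg.Agent.S3980

open Cfsg.Agent.Lib.SchurMultiplier
open scoped commutatorElement

/-- A power of a value of a homomorphism into an abelian group killing the kernel of `ξ`. -/
theorem pow_card_abelianization {X P M : Type*} [Group X] [Group P] [CommGroup M] [Finite P]
    (ξ : X →* P) (hξ : Function.Surjective ξ) (φ : X →* M) (hk : ∀ x ∈ ξ.ker, φ x = 1) (x : X) :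
    φ x ^ Nat.card (Abelianization P) = 1 := by
  have h1 : Abelianization.of (ξ x) ^ Nat.card (Abelianization P) = 1 := pow_card_eq_one'
  rw [← map_pow, ← map_pow] at h1
  have h2 : ξ (x ^ Nat.card (Abelianization P)) ∈ commutator P :=
    (QuotientGroup.eq_one_iff _).mp h1
  rw [commutator_def, ← Subgroup.map_top_of_surjective ξ hξ, ← Subgroup.map_commutator] at h2
  obtain ⟨c, hc, he⟩ := h2
  have hc' : φ c = 1 := Abelianization.commutator_subset_ker φ hc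
  have hker : c⁻¹ * x ^ Nat.card (Abelianization P) ∈ ξ.ker := by
    rw [MonoidHom.mem_ker, map_mul, map_inv, he, inv_mul_cancel]
  have := hk _ hker
  rwa [map_mul, map_inv, hc', inv_one, one_mul, map_pow] at this

/-- The universal half: the kernel of a stem extension of a product. -/
theorem exists_surj {Q₁ : Type u} {Q₂ : Type v} [Group Q₁] [Group Q₂] [Finite Q₁] [Finite Q₂]
    (hcop : Nat.Coprime (Nat.card (Abelianization Q₁)) (Nat.card (Abelianization Q₂)))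
    {Γ : Type w} [Group Γ] (σ : Γ →* Q₁ × Q₂) (hσ : Cfsg.IsStemExtension σ) :
    ∃ π : mult Q₁ × mult Q₂ →* σ.ker, Function.Surjective π := by
  obtain ⟨hsurj, hcent, hder⟩ := hσ
  set X1 := ((MonoidHom.snd Q₁ Q₂).comp σ).ker with hX1
  set X2 := ((MonoidHom.fst Q₁ Q₂).comp σ).ker with hX2
  have hX1m : ∀ x : X1, (σ x).2 = 1 := fun x => x.2
  have hX2m : ∀ x : X2, (σ x).1 = 1 := fun x => x.2
  set ξ1 := ((MonoidHom.fst Q₁ Q₂).comp σ).comp X1.subtype with hξ1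
  set ξ2 := ((MonoidHom.snd Q₁ Q₂).comp σ).comp X2.subtype with hξ2
  have hs1 : Function.Surjective ξ1 := fun q => by
    obtain ⟨g, hg⟩ := hsurj (q, 1)
    exact ⟨⟨g, congrArg Prod.snd hg⟩, congrArg Prod.fst hg⟩
  have hs2 : Function.Surjective ξ2 := fun q => by
    obtain ⟨g, hg⟩ := hsurj (1, q)
    exact ⟨⟨g, congrArg Prod.fst hg⟩, congrArg Prod.snd hg⟩
  have hk1 : ∀ x : X1, x ∈ ξ1.ker → (x : Γ) ∈ σ.ker := fun x hx => Prod.ext hx (hX1m x)
  have hk2 : ∀ x : X2, x ∈ ξ2.ker → (x : Γ) ∈ σ.ker := fun x hx => Prod.ext (hX2m x) hx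
  have hc1 : ξ1.ker ≤ Subgroup.center X1 := fun x hx => Subgroup.mem_center_iff.mpr fun y =>
    Subtype.ext (Subgroup.mem_center_iff.mp (hcent (hk1 x hx)) y)
  have hc2 : ξ2.ker ≤ Subgroup.center X2 := fun x hx => Subgroup.mem_center_iff.mpr fun y =>
    Subtype.ext (Subgroup.mem_center_iff.mp (hcent (hk2 x hx)) y)
  -- the two halves commute
  have hbr : ∀ (x : X1) (y : X2), ⁅(x : Γ), (y : Γ)⁆ ∈ σ.ker := fun x y => by
    rw [MonoidHom.mem_ker, map_commutatorElement]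
    exact Prod.ext (by simp [commutatorElement_def, hX2m y]) (by simp [commutatorElement_def, hX1m x])
  have hcomm : ∀ (x : X1) (y : X2), (x : Γ) * (y : Γ) = (y : Γ) * (x : Γ) := by
    letI : CommGroup σ.ker :=
      { (inferInstance : Group σ.ker) with
        mul_comm := fun a b => Subtype.ext (Subgroup.mem_center_iff.mp (hcent b.2) a) }
    intro x y
    let φ : X1 →* σ.ker := MonoidHom.mk' (fun a => ⟨⁅(a : Γ), (y : Γ)⁆, hbr a y⟩) (fun a b => by
      apply Subtype.ext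
      show ⁅((a * b : X1) : Γ), (y : Γ)⁆ = ⁅(a : Γ), (y : Γ)⁆ * ⁅(b : Γ), (y : Γ)⁆
      have hz := Subgroup.mem_center_iff.mp (hcent (hbr b y))
      calc ⁅((a * b : X1) : Γ), (y : Γ)⁆ = (a : Γ) * ⁅(b : Γ), (y : Γ)⁆ * (y : Γ) * (a : Γ)⁻¹ * (y : Γ)⁻¹ := by
            rw [Subgroup.coe_mul, commutatorElement_def, commutatorElement_def]; group
        _ = ⁅(b : Γ), (y : Γ)⁆ * (a : Γ) * (y : Γ) * (a : Γ)⁻¹ * (y : Γ)⁻¹ := by rw [hz]
        _ = ⁅(a : Γ), (y : Γ)⁆ * ⁅(b : Γ), (y : Γ)⁆ := by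
            rw [hz, commutatorElement_def (a : Γ) (y : Γ)]; group)
    let ψ : X2 →* σ.ker := MonoidHom.mk' (fun b => ⟨⁅(x : Γ), (b : Γ)⁆, hbr x b⟩) (fun b c => by
      apply Subtype.ext
      show ⁅(x : Γ), ((b * c : X2) : Γ)⁆ = ⁅(x : Γ), (b : Γ)⁆ * ⁅(x : Γ), (c : Γ)⁆
      have hz := Subgroup.mem_center_iff.mp (hcent (hbr x c))
      calc ⁅(x : Γ), ((b * c : X2) : Γ)⁆ = ⁅(x : Γ), (b : Γ)⁆ * ((b : Γ) * ⁅(x : Γ), (c : Γ)⁆) * (b : Γ)⁻¹ := by
            rw [Subgroup.coe_mul, commutatorElement_def, commutatorElement_def, commutatorElement_def]; group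
        _ = ⁅(x : Γ), (b : Γ)⁆ * (⁅(x : Γ), (c : Γ)⁆ * (b : Γ)) * (b : Γ)⁻¹ := by rw [hz]
        _ = ⁅(x : Γ), (b : Γ)⁆ * ⁅(x : Γ), (c : Γ)⁆ := by group)
    have h1 := pow_card_abelianization ξ1 hs1 φ (fun a ha => Subtype.ext (by
      show ⁅(a : Γ), (y : Γ)⁆ = 1
      rw [commutatorElement_eq_one_iff_mul_comm]
      exact (Subgroup.mem_center_iff.mp (hcent (hk1 a ha)) y).symm)) x
    have h2 := pow_card_abelianization ξ2 hs2 ψ (fun b hb => Subtype.ext (by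
      show ⁅(x : Γ), (b : Γ)⁆ = 1
      rw [commutatorElement_eq_one_iff_mul_comm]
      exact Subgroup.mem_center_iff.mp (hcent (hk2 b hb)) x)) y
    have e : φ x = ψ y := rfl
    rw [← e] at h2
    have h3 : φ x = 1 := by
      rw [← orderOf_eq_one_iff]
      exact Nat.eq_one_of_dvd_coprimes hcop (orderOf_dvd_of_pow_eq_one h1)
        (orderOf_dvd_of_pow_eq_one h2)
    exact commutatorElement_eq_one_iff_mul_comm.mp (congrArg Subtype.val h3)
  let μ : X1 × X2 →* Γ := X1.subtype.noncommCoprod X2.subtype hcomm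
  have hμ : Function.Surjective μ := fun g => by
    obtain ⟨a, ha⟩ := hsurj ((σ g).1, 1)
    refine ⟨(⟨a, congrArg Prod.snd ha⟩, ⟨a⁻¹ * g, ?_⟩), mul_inv_cancel_left a g⟩
    show ((σ (a⁻¹ * g)) : Q₁ × Q₂).1 = 1
    rw [map_mul, map_inv, ha]
    simp
  obtain ⟨β1, hβ1⟩ := exists_lift ξ1 hs1 hc1 (MonoidHom.id Q₁)
  obtain ⟨β2, hβ2⟩ := exists_lift ξ2 hs2 hc2 (MonoidHom.id Q₂)
  rw [MonoidHom.id_comp] at hβ1 hβ2
  let F : mult Q₁ × mult Q₂ →* Γ :=
    μ.comp ((β1.comp (mult Q₁).subtype).prodMap (β2.comp (mult Q₂).subtype))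
  have hF : ∀ m, F m ∈ σ.ker := by
    intro m
    have e1 : ξ1 (β1 (m.1 : CExt Q₁)) = 1 := by
      rw [← MonoidHom.comp_apply, hβ1]; exact m.1.2.1
    have e2 : ξ2 (β2 (m.2 : CExt Q₂)) = 1 := by
      rw [← MonoidHom.comp_apply, hβ2]; exact m.2.2.1
    exact mul_mem (hk1 _ e1) (hk2 _ e2)
  refine ⟨F.codRestrict σ.ker hF, fun z => ?_⟩
  have hz : (z : Γ) ∈ (commutator (X1 × X2)).map μ := by
    rw [commutator_def, Subgroup.map_commutator, Subgroup.map_top_of_surjective μ hμ]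
    exact hder z.2
  obtain ⟨⟨c1, c2⟩, hc, hcz⟩ := hz
  have hc' : c1 ∈ commutator X1 ∧ c2 ∈ commutator X2 := by
    rw [commutator_def, ← Subgroup.top_prod_top, Subgroup.commutator_prod_prod] at hc
    exact hc
  have hσz : σ (c1 : Γ) * σ (c2 : Γ) = 1 := by
    rw [← map_mul]
    exact (congrArg σ hcz).trans (MonoidHom.mem_ker.mp z.2)
  have h11 : ξ1 c1 = 1 := by
    have := congrArg Prod.fst hσz
    simpa [ξ1, hX2m c2] using this
  have h22 : ξ2 c2 = 1 := by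
    have := congrArg Prod.snd hσz
    simpa [ξ2, hX1m c1] using this
  have m1 : c1 ∈ (mult Q₁).map β1 := by rw [map_mult hc1 hβ1]; exact ⟨h11, hc'.1⟩
  have m2 : c2 ∈ (mult Q₂).map β2 := by rw [map_mult hc2 hβ2]; exact ⟨h22, hc'.2⟩
  obtain ⟨a1, ha1, rfl⟩ := m1
  obtain ⟨a2, ha2, rfl⟩ := m2
  exact ⟨(⟨a1, ha1⟩, ⟨a2, ha2⟩), Subtype.ext hcz⟩

/-- Let `Q₁` and `Q₂` be finite groups whose commutator quotients have coprime orders, with Schur multipliers `A` and `B`. Then the Schur multiplier of `Q₁ × Q₂` is isomorphic to `A × B`. -/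
theorem result {Q₁ : Type u} {Q₂ : Type v} [Group Q₁] [Group Q₂] [Finite Q₁] [Finite Q₂] {A B : Type w} [CommGroup A] [CommGroup B] (hA : Cfsg.HasSchurMultiplier Q₁ A) (hB : Cfsg.HasSchurMultiplier Q₂ B) (hcop : Nat.Coprime (Nat.card (Abelianization Q₁)) (Nat.card (Abelianization Q₂))) : Cfsg.HasSchurMultiplier (Q₁ × Q₂) (A × B) := by
  obtain ⟨eA⟩ := nonempty_mulEquiv_mult hA
  obtain ⟨eB⟩ := nonempty_mulEquiv_mult hB
  refine ⟨?_, fun Γ _ _ σ hσ => ?_⟩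
  · obtain ⟨⟨Γ₁, i1, f1, σ₁, h1, ⟨e1⟩⟩, -⟩ := hA
    obtain ⟨⟨Γ₂, i2, f2, σ₂, h2, ⟨e2⟩⟩, -⟩ := hB
    refine ⟨Γ₁ × Γ₂, inferInstance, inferInstance, σ₁.prodMap σ₂,
      ⟨h1.1.prodMap h2.1, ?_, ?_⟩, ⟨?_⟩⟩
    · rw [MonoidHom.ker_prodMap]
      intro x hx
      rw [Subgroup.mem_center_iff]
      exact fun y => Prod.ext (Subgroup.mem_center_iff.mp (h1.2.1 hx.1) y.1)
        (Subgroup.mem_center_iff.mp (h2.2.1 hx.2) y.2)
    · rw [MonoidHom.ker_prodMap, commutator_def, ← Subgroup.top_prod_top,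
        Subgroup.commutator_prod_prod]
      exact Subgroup.prod_mono h1.2.2 h2.2.2
    · exact (MulEquiv.subgroupCongr (MonoidHom.ker_prodMap σ₁ σ₂)).trans
        ((Subgroup.prodEquiv _ _).trans (e1.prodCongr e2))
  · obtain ⟨π, hπ⟩ := exists_surj hcop σ hσ
    exact ⟨π.comp (eA.prodCongr eB).toMonoidHom, hπ.comp (eA.prodCongr eB).surjective⟩

end Cfsg.Agent.S3980
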