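import Cfsg.Statements.S3981
import Mathlib.GroupTheory.Sylow
import Mathlib.GroupTheory.Nilpotent

set_option autoImplicit false
open Cfsg

namespace Cfsg.Agent.S3981

/-- Let p be an odd prime, Q a p-subgroup of the finite group G and y an involution normalizing Q. Then Q is maximal among the p-subgroups of G normalized by y if and only if the image of y in N_G(Q) ⧸ Q neither inverts nor centralizes any element of order p there; the latter is phrased inside N_G(Q): for every x in N_G(Q) outside Q with x ^ p ∈ Q, neither y x y⁻¹ x nor y x y⁻¹ x⁻¹ lies in Q. -/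
theorem result {G : Type*} [Group G] [Finite G] (p : ℕ) [Fact p.Prime] (hp2 : p ≠ 2) (Q : Subgroup G) (hQ : IsPGroup p ↥Q) (y : G) (hy : orderOf y = 2) (hyQ : y ∈ Subgroup.normalizer (Q : Set G)) : (∀ R : Subgroup G, IsPGroup p ↥R → Q ≤ R → y ∈ Subgroup.normalizer (R : Set G) → R = Q) ↔ ∀ x : G, x ∈ Subgroup.normalizer (Q : Set G) → x ∉ Q → x ^ p ∈ Q → (y * x * y⁻¹ * x ∉ Q ∧ y * x * y⁻¹ * x⁻¹ ∉ Q) := by
  have hy2 : y * y = 1 := by
    rw [← pow_two, ← hy]; exact pow_orderOf_eq_one y
  have hyi : y⁻¹ = y := inv_eq_of_mul_eq_one_right hy2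
  constructor
  · intro hmax x hxN hxQ hxp
    by_contra hc
    have hxQ' : ∃ e ∈ Q, y * x * y⁻¹ = e * x⁻¹ ∨ y * x * y⁻¹ = e * x := by
      rcases not_and_or.mp hc with h | h <;> push Not at h
      · exact ⟨_, h, Or.inl (by group)⟩
      · exact ⟨_, h, Or.inr (by group)⟩
    set R := Q ⊔ Subgroup.zpowers x with hR
    have hRp : IsPGroup p R := by
      refine hQ.to_sup_of_normal_left' ?_ (Subgroup.zpowers_le.mpr hxN)
      obtain ⟨k, hk⟩ := hQ ⟨x ^ p, hxp⟩
      have hk' : x ^ p ^ (k + 1) = 1 := by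
        rw [pow_succ', pow_mul]; exact congrArg Subtype.val hk
      obtain ⟨i, -, hi⟩ := (Nat.dvd_prime_pow Fact.out).mp (orderOf_dvd_of_pow_eq_one hk')
      exact IsPGroup.of_card (n := i) (by rw [Nat.card_zpowers, hi])
    have hyR : y ∈ Subgroup.normalizer (R : Set G) := by
      refine Subgroup.mem_normalizer_fintype fun w hw => ?_
      have hle : R.map (MulAut.conj y).toMonoidHom ≤ R := by
        rw [hR, Subgroup.map_sup, MonoidHom.map_zpowers, sup_le_iff, Subgroup.zpowers_le]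
        refine ⟨?_, ?_⟩
        · rintro _ ⟨q, hq, rfl⟩
          exact Subgroup.mem_sup_left ((Subgroup.mem_normalizer_iff.mp hyQ q).mp hq)
        · obtain ⟨e, he, h | h⟩ := hxQ'
          · show y * x * y⁻¹ ∈ _
            rw [h]
            exact mul_mem (Subgroup.mem_sup_left he) (Subgroup.mem_sup_right (inv_mem (Subgroup.mem_zpowers x)))
          · show y * x * y⁻¹ ∈ _
            rw [h]
            exact mul_mem (Subgroup.mem_sup_left he) (Subgroup.mem_sup_right (Subgroup.mem_zpowers x))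
      exact hle ⟨w, hw, rfl⟩
    refine hxQ ?_
    rw [← hmax R hRp le_sup_left hyR]
    exact Subgroup.mem_sup_right (Subgroup.mem_zpowers x)
  · intro h R hR hQR hyR
    by_contra hne
    haveI : Group.IsNilpotent R := hR.isNilpotent
    set M := R ⊓ Subgroup.normalizer (Q : Set G) with hM
    have hQM : Q ≤ M := le_inf hQR Subgroup.le_normalizer
    haveI : (Q.subgroupOf M).Normal := (Subgroup.normal_subgroupOf_iff_le_normalizer hQM).mpr inf_le_right
    -- the quotient `M / Q` is nontrivial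
    haveI : Nontrivial (M ⧸ Q.subgroupOf M) := by
      have h1 : Q.subgroupOf R < ⊤ := lt_top_iff_ne_top.mpr fun h => hne (le_antisymm (Subgroup.subgroupOf_eq_top.mp h) hQR)
      obtain ⟨w, hw, hw'⟩ := SetLike.exists_of_lt (Group.normalizerCondition_of_isNilpotent _ h1)
      have hwN : (w : G) ∈ Subgroup.normalizer (Q : Set G) := by
        refine Subgroup.mem_normalizer_fintype fun q hq => ?_
        exact (Subgroup.mem_normalizer_iff.mp hw ⟨q, hQR hq⟩).mp hq
      exact ⟨⟨QuotientGroup.mk (⟨(w : G), w.2, hwN⟩ : M), 1, fun e => hw' ((QuotientGroup.eq_one_iff (⟨(w : G), w.2, hwN⟩ : M)).mp e : _)⟩⟩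
    have hMp : IsPGroup p (M ⧸ Q.subgroupOf M) := (hR.to_le inf_le_left).to_quotient _
    haveI := hMp.center_nontrivial
    obtain ⟨⟨c, hc⟩, hc0⟩ := exists_prime_orderOf_dvd_card' (G := Subgroup.center (M ⧸ Q.subgroupOf M)) p
      (by
        obtain ⟨n, hn, hn'⟩ := (hMp.to_subgroup _).nontrivial_iff_card.mp ‹_›
        rw [hn']; exact dvd_pow_self p hn.ne')
    rw [Subgroup.orderOf_mk] at hc0
    obtain ⟨⟨x, hxR, hxN⟩, rfl⟩ := QuotientGroup.mk_surjective c
    set xx : M := ⟨x, hxR, hxN⟩ with hxx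
    have hxQ : x ∉ Q := fun hq => by
      have h2 : (xx : M ⧸ Q.subgroupOf M) = 1 := (QuotientGroup.eq_one_iff _).mpr hq
      rw [h2, orderOf_one] at hc0
      exact (Fact.out : p.Prime).one_lt.ne hc0
    have hxp : x ^ p ∈ Q := by
      have h2 : ((xx ^ p : M) : M ⧸ Q.subgroupOf M) = 1 := by
        rw [QuotientGroup.mk_pow, ← hc0, pow_orderOf_eq_one]
      exact ((QuotientGroup.eq_one_iff (xx ^ p)).mp h2 :)
    have hyN : y ∈ Subgroup.normalizer (M : Set G) := by
      refine Subgroup.mem_normalizer_fintype fun w hw => ⟨(Subgroup.mem_normalizer_iff.mp hyR w).mp hw.1, ?_⟩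
      exact (Subgroup.normalizer (Q : Set G)).mul_mem ((Subgroup.normalizer (Q : Set G)).mul_mem hyQ hw.2) ((Subgroup.normalizer (Q : Set G)).inv_mem hyQ)
    have hyxM : y * x * y⁻¹ ∈ M := (Subgroup.mem_normalizer_iff.mp hyN x).mp xx.2
    set xy : M := ⟨_, hyxM⟩ with hxy
    have hcomm : (xx : M ⧸ Q.subgroupOf M) * (xy : M ⧸ Q.subgroupOf M) = xy * xx :=
      (Subgroup.mem_center_iff.mp hc _).symm
    by_cases hw : x * (y * x * y⁻¹) ∈ Q
    · refine (h x hxN hxQ hxp).1 ?_
      have h3 := (Subgroup.mem_normalizer_iff''.mp hxN _).mp hw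
      convert h3 using 1
      group
    · refine (h (x * (y * x * y⁻¹)) (mul_mem hxN hyxM.2) hw ?_).2 ?_
      · have h3 : (((xx * xy) ^ p : M) : M ⧸ Q.subgroupOf M) = 1 := by
          rw [QuotientGroup.mk_pow, QuotientGroup.mk_mul, (show Commute _ _ from hcomm).mul_pow,
            ← QuotientGroup.mk_pow, ← QuotientGroup.mk_pow, (QuotientGroup.eq_one_iff _).mpr (show xx ^ p ∈ Q.subgroupOf M from hxp), one_mul,
            QuotientGroup.eq_one_iff, Subgroup.mem_subgroupOf, Subgroup.coe_pow]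
          show (y * x * y⁻¹) ^ p ∈ Q
          rw [conj_pow]
          exact (Subgroup.mem_normalizer_iff.mp hyQ _).mp hxp
        exact ((QuotientGroup.eq_one_iff ((xx * xy) ^ p)).mp h3 :)
      · have h3 : ((xy * xx * (xx * xy)⁻¹ : M) : M ⧸ Q.subgroupOf M) = 1 := by
          rw [QuotientGroup.mk_mul, QuotientGroup.mk_inv, QuotientGroup.mk_mul, QuotientGroup.mk_mul, hcomm,
            mul_inv_cancel]
        have h4 : y * x * y⁻¹ * x * (x * (y * x * y⁻¹))⁻¹ ∈ Q := ((QuotientGroup.eq_one_iff (xy * xx * (xx * xy)⁻¹)).mp h3 :)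
        convert h4 using 2
        simp only [hyi, mul_assoc, hy2]
        simp [hy2]

end Cfsg.Agent.S3981
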