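import Cfsg.Statements.S3982
import Cfsg.Agent.Lib.Coprime.Action
import Mathlib.GroupTheory.Sylow
import Mathlib.GroupTheory.FixedPointFree
import Mathlib.Data.Set.Finite.Lemmas

set_option autoImplicit false
open Cfsg

namespace Cfsg.Agent.S3982

open scoped Pointwise

/-- Let p be an odd prime and G a finite group of even order divisible by p in which the centralizer of every non-identity p-element has odd order. If some nontrivial p-subgroup of G has a normalizer of even order, then the normalizer of every Sylow p-subgroup of G has even order. -/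
theorem result {G : Type*} [Group G] [Finite G] (p : ℕ) [Fact p.Prime] (hp2 : p ≠ 2) (hpG : p ∣ Nat.card G) (h2G : 2 ∣ Nat.card G) (hC : ∀ g : G, g ≠ 1 → (∃ k : ℕ, orderOf g = p ^ k) → Odd (Nat.card ↥(Subgroup.centralizer ({g} : Set G)))) (Q : Subgroup G) (hQ : IsPGroup p ↥Q) (hQ1 : Q ≠ ⊥) (hev : Even (Nat.card ↥(Subgroup.normalizer (Q : Set G)))) (P : Sylow p G) : Even (Nat.card ↥(Subgroup.normalizer ((P : Subgroup G) : Set G))) := by
  haveI h2 : Fact (Nat.Prime 2) := ⟨Nat.prime_two⟩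
  obtain ⟨⟨y, hyQ⟩, hy⟩ := exists_prime_orderOf_dvd_card' (G := Subgroup.normalizer (Q : Set G)) 2 hev.two_dvd
  rw [Subgroup.orderOf_mk] at hy
  have hyy : y * y = 1 := by rw [← pow_two, ← hy]; exact pow_orderOf_eq_one y
  have hyi : y⁻¹ = y := inv_eq_of_mul_eq_one_right hyy
  -- no nontrivial `p`-element commutes with `y`
  have hnc : ∀ u : G, (∃ k, orderOf u = p ^ k) → y * u = u * y → u = 1 := by
    intro u hu hc
    by_contra hu1
    have h1 : orderOf y ∣ Nat.card (Subgroup.centralizer ({u} : Set G)) :=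
      Subgroup.orderOf_dvd_natCard _ (Subgroup.mem_centralizer_singleton_iff.mpr hc)
    rw [hy] at h1
    exact Nat.not_even_iff_odd.mpr (hC u hu1 hu) (even_iff_two_dvd.mpr h1)
  obtain ⟨R, ⟨hRp, hQR, hyR⟩, hmax⟩ := Set.exists_max_image
    {R : Subgroup G | IsPGroup p R ∧ Q ≤ R ∧ y ∈ Subgroup.normalizer (R : Set G)} (fun R => Nat.card R)
    (Set.toFinite _) ⟨Q, hQ, le_rfl, hyQ⟩
  have hpel : ∀ r ∈ R, ∃ k, orderOf r = p ^ k := fun r hr => by
    obtain ⟨k, hk⟩ := IsPGroup.iff_orderOf.mp hRp ⟨r, hr⟩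
    exact ⟨k, by rwa [Subgroup.orderOf_mk] at hk⟩
  -- `y` inverts `R`
  have hinv : ∀ r ∈ R, y * r * y⁻¹ = r⁻¹ := by
    let φ : R →* R := MonoidHom.mk' (fun r => ⟨y * r * y⁻¹, (Subgroup.mem_normalizer_iff.mp hyR r).mp r.2⟩)
      (fun a b => Subtype.ext (by simp [mul_assoc]))
    have hfp : MonoidHom.FixedPointFree φ := by
      intro r hr
      refine Subtype.ext (hnc r (hpel r r.2) ?_)
      exact mul_inv_eq_iff_eq_mul.mp (congrArg Subtype.val hr)
    have hinvol : Function.Involutive φ := fun r => Subtype.ext (by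
      show y * (y * (r : G) * y⁻¹) * y⁻¹ = r
      simp only [hyi, mul_assoc, hyy, mul_one]
      rw [← mul_assoc, hyy, one_mul])
    intro r hr
    exact congrArg Subtype.val (congrFun (hfp.coe_eq_inv_of_involutive hinvol) ⟨r, hr⟩)
  have hRC : R ≤ Subgroup.centralizer (R : Set G) := by
    intro a ha
    rw [Subgroup.mem_centralizer_iff]
    intro b hb
    have h1 := hinv _ (mul_mem ha hb)
    rw [← conj_mul, hinv a ha, hinv b hb, mul_inv_rev] at h1
    have h8 : (b * a)⁻¹ = (a * b)⁻¹ := by rw [mul_inv_rev, mul_inv_rev]; exact h1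
    exact inv_injective h8
  set C := Subgroup.centralizer (R : Set G) with hCdef
  set NR := Subgroup.normalizer (R : Set G) with hNR
  have hCodd : Odd (Nat.card C) := by
    obtain ⟨r, hr, hr1⟩ := (Subgroup.bot_or_exists_ne_one R).resolve_left
      (fun h => hQ1 (le_bot_iff.mp (h ▸ hQR)))
    exact (hC r hr1 (hpel r hr)).of_dvd_nat (Subgroup.card_dvd_of_le
      (Subgroup.centralizer_le (Set.singleton_subset_iff.mpr hr)))
  have hyC : y ∈ Subgroup.normalizer (C : Set G) := by
    refine Subgroup.mem_normalizer_fintype fun c hc => ?_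
    show y * c * y⁻¹ ∈ C
    rw [Subgroup.mem_centralizer_iff]
    intro r hr
    have h1 := Subgroup.mem_centralizer_iff.mp hc _ ((Subgroup.mem_normalizer_iff''.mp hyR r).mp hr)
    have h2 := congrArg (fun w => y * w * y⁻¹) h1
    simpa [mul_assoc] using h2
  -- `R` is a Sylow subgroup of `C`
  have hRsyl : (Nat.card C).factorization p ≤ (Nat.card R).factorization p := by
    obtain ⟨S, hRS, hS⟩ := Cfsg.Agent.Lib.Coprime.exists_invariant_sylow_ge (A := Subgroup.zpowers y) (K := C)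
      (Subgroup.zpowers_le.mpr hyC) (by rw [Nat.card_zpowers, hy]; exact (Nat.coprime_two_left.mpr hCodd))
      (Or.inl (by letI := (Subgroup.isCyclic_zpowers y).commGroup; infer_instance)) p R hRC hRp (Subgroup.zpowers_le.mpr hyR)
    have h1 := hmax ((S : Subgroup C).map C.subtype)
      ⟨S.isPGroup'.map _, hQR.trans hRS, hS (Subgroup.mem_zpowers y)⟩
    rw [Subgroup.card_subtype, S.card_eq_multiplicity] at h1
    obtain ⟨k, hk⟩ := IsPGroup.iff_card.mp hRp
    rw [hk] at h1 ⊢
    rw [(Fact.out : p.Prime).factorization_pow, Finsupp.single_eq_same]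
    exact (Nat.pow_le_pow_iff_right (Fact.out : p.Prime).one_lt).mp h1
  -- every element of `N(R)` is a product from `C(R)` and `C(y)`
  have hfr : ∀ n ∈ NR, ∃ c ∈ C, c * n ∈ Subgroup.centralizer ({y} : Set G) := by
    intro n hn
    have hd : n * y * n⁻¹ * y⁻¹ ∈ C := by
      rw [Subgroup.mem_centralizer_iff]
      intro r hr
      have hr' : y⁻¹ * r * y ∈ R := (Subgroup.mem_normalizer_iff''.mp hyR r).mp hr
      have e1 : y⁻¹ * r * y = r⁻¹ := by
        have h1 := hinv r hr
        rw [hyi] at h1 ⊢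
        exact h1
      have e2 : n⁻¹ * r⁻¹ * n ∈ R := (Subgroup.mem_normalizer_iff''.mp hn _).mp (inv_mem hr)
      have h4 : n * y * n⁻¹ * y⁻¹ * r * (n * y * n⁻¹ * y⁻¹)⁻¹ = r := by
        calc n * y * n⁻¹ * y⁻¹ * r * (n * y * n⁻¹ * y⁻¹)⁻¹
            = n * (y * (n⁻¹ * (y⁻¹ * r * y) * n) * y⁻¹) * n⁻¹ := by group
          _ = r := by rw [e1, hinv _ e2]; group
      exact ((mul_inv_eq_iff_eq_mul.mp h4)).symm
    set d := n * y * n⁻¹ * y⁻¹ with hddef
    have hyd : y * d * y⁻¹ = d⁻¹ := by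
      rw [hddef, mul_inv_rev, mul_inv_rev, mul_inv_rev, inv_inv, inv_inv, hyi]
      simp only [mul_assoc, hyy, mul_one]
    obtain ⟨k, hk⟩ := (hCodd.of_dvd_nat (Subgroup.orderOf_dvd_natCard C hd) : Odd (orderOf d))
    set e := d ^ (k + 1) with hedef
    have hee : e * e = d := by
      rw [hedef, ← pow_add, show k + 1 + (k + 1) = (2 * k + 1) + 1 by ring, pow_succ, ← hk,
        pow_orderOf_eq_one, one_mul]
    have hye : y * e * y⁻¹ = e⁻¹ := by rw [hedef, ← conj_pow, hyd, inv_pow]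
    refine ⟨e⁻¹, inv_mem (pow_mem hd _), ?_⟩
    rw [Subgroup.mem_centralizer_singleton_iff]
    have h5 : n * y * n⁻¹ = d * y := by rw [hddef]; group
    have h6 : y * e⁻¹ = e * y := by
      have h7 : y * e⁻¹ * y⁻¹ = e := by rw [← conj_inv, hye, inv_inv]
      exact mul_inv_eq_iff_eq_mul.mp h7
    calc e⁻¹ * n * y = e⁻¹ * (n * y * n⁻¹) * n := by group
      _ = e⁻¹ * (e * e) * y * n := by rw [h5, hee]; group
      _ = y * (e⁻¹ * n) := by rw [← mul_assoc y, h6]; group
  -- `p` does not divide `[N(R) : R]`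
  have hCN : C ≤ NR := fun c hc => Subgroup.mem_normalizer_fintype fun r hr => by
    show c * r * c⁻¹ ∈ R
    rwa [← Subgroup.mem_centralizer_iff.mp hc r hr, mul_inv_cancel_right]
  haveI : (C.subgroupOf NR).Normal := ⟨fun c hc n => by
    rw [Subgroup.mem_subgroupOf] at hc ⊢
    rw [Subgroup.coe_mul, Subgroup.coe_mul, Subgroup.coe_inv, Subgroup.mem_centralizer_iff]
    intro r hr
    have h1 := Subgroup.mem_centralizer_iff.mp hc _ ((Subgroup.mem_normalizer_iff''.mp n.2 r).mp hr)
    have h2 := congrArg (fun w => (n : G) * w * (n : G)⁻¹) h1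
    simpa [mul_assoc] using h2⟩
  have hidx : ¬ p ∣ Nat.card (NR ⧸ C.subgroupOf NR) := by
    intro hp
    let W := (Subgroup.centralizer ({y} : Set G)).subgroupOf NR
    have hsur : Function.Surjective ((QuotientGroup.mk' (C.subgroupOf NR)).comp W.subtype) := by
      intro q
      obtain ⟨n, rfl⟩ := QuotientGroup.mk_surjective q
      obtain ⟨c, hc, hcn⟩ := hfr n n.2
      refine ⟨⟨⟨c, hCN hc⟩ * n, hcn⟩, ?_⟩
      show ((⟨c, hCN hc⟩ * n : NR) : NR ⧸ C.subgroupOf NR) = n
      rw [QuotientGroup.mk_mul, (QuotientGroup.eq_one_iff (⟨c, hCN hc⟩ : NR)).mpr hc, one_mul]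
    obtain ⟨⟨⟨u, huN⟩, huW⟩, hu⟩ := exists_prime_orderOf_dvd_card' (G := W) p
      (hp.trans (Subgroup.card_dvd_of_surjective _ hsur))
    rw [Subgroup.orderOf_mk, Subgroup.orderOf_mk] at hu
    have := hnc u ⟨1, by rw [hu, pow_one]⟩ (Subgroup.mem_centralizer_singleton_iff.mp huW).symm
    rw [this, orderOf_one] at hu
    exact (Fact.out : p.Prime).one_lt.ne hu
  have hNRfac : (Nat.card NR).factorization p ≤ (Nat.card R).factorization p := by
    refine le_trans ?_ hRsyl
    rw [Subgroup.card_eq_card_quotient_mul_card_subgroup (C.subgroupOf NR),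
      Nat.card_congr (Subgroup.subgroupOfEquivOfLe hCN).toEquiv,
      Nat.factorization_mul Nat.card_pos.ne' Nat.card_pos.ne', Finsupp.add_apply,
      Nat.factorization_eq_zero_of_not_dvd hidx, zero_add]
  -- so `R` is a Sylow subgroup of `G`
  obtain ⟨P0, hP0⟩ := hRp.exists_le_sylow
  have hRP0 : R = (P0 : Subgroup G) := by
    by_contra hne
    haveI : Group.IsNilpotent (P0 : Subgroup G) := P0.isPGroup'.isNilpotent
    have h1 : R.subgroupOf P0 < ⊤ := lt_top_iff_ne_top.mpr fun h => hne (le_antisymm hP0 (Subgroup.subgroupOf_eq_top.mp h))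
    obtain ⟨w, hw, hw'⟩ := SetLike.exists_of_lt (Group.normalizerCondition_of_isNilpotent _ h1)
    have hwN : (w : G) ∈ NR := Subgroup.mem_normalizer_fintype fun r hr =>
      (Subgroup.mem_normalizer_iff.mp hw ⟨r, hP0 hr⟩).mp hr
    set R' := R ⊔ Subgroup.zpowers (w : G) with hR'
    have hR'P : R' ≤ (P0 : Subgroup G) := sup_le hP0 (Subgroup.zpowers_le.mpr w.2)
    have hR'N : R' ≤ NR := sup_le Subgroup.le_normalizer (Subgroup.zpowers_le.mpr hwN)
    obtain ⟨a, ha⟩ := IsPGroup.iff_card.mp hRp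
    obtain ⟨b, hb⟩ := IsPGroup.iff_card.mp (P0.isPGroup'.to_le hR'P)
    have hlt : a < b := by
      have h2 : Nat.card R < Nat.card R' := by
        refine lt_of_le_of_ne (Subgroup.card_le_of_le le_sup_left) fun h => hw' ?_
        exact (Subgroup.eq_of_le_of_card_ge le_sup_left h.ge).symm ▸ Subgroup.mem_sup_right (Subgroup.mem_zpowers (w : G))
      rw [ha, hb] at h2
      exact (Nat.pow_lt_pow_iff_right (Fact.out : p.Prime).one_lt).mp h2
    have h3 := (Nat.Prime.pow_dvd_iff_le_factorization Fact.out Nat.card_pos.ne').mp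
      (hb ▸ Subgroup.card_dvd_of_le hR'N)
    rw [ha, (Fact.out : p.Prime).factorization_pow, Finsupp.single_eq_same] at hNRfac
    omega
  obtain ⟨g, rfl⟩ := MulAction.exists_smul_eq G P0 P
  have hmem : g * y * g⁻¹ ∈ Subgroup.normalizer (((g • P0 : Sylow p G) : Subgroup G) : Set G) := by
    rw [hNR, hRP0] at hyR
    refine Subgroup.mem_normalizer_fintype fun w hw => ?_
    have h1 : g⁻¹ * w * g ∈ (P0 : Subgroup G) := Cfsg.Agent.Lib.Coprime.mem_conj_smul.mp hw
    have h2 := (Subgroup.mem_normalizer_iff.mp hyR _).mp h1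
    refine Cfsg.Agent.Lib.Coprime.mem_conj_smul.mpr ?_
    convert h2 using 1
    group
  refine even_iff_two_dvd.mpr (hy ▸ ?_)
  rw [← MulEquiv.orderOf_eq (MulAut.conj g) y]
  exact Subgroup.orderOf_dvd_natCard _ hmem

end Cfsg.Agent.S3982
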