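import Cfsg.Statements.S3983
import Cfsg.Agent.Lib.Frobenius.Complement
import Mathlib.GroupTheory.Sylow

set_option autoImplicit false
open scoped Pointwise
open Cfsg

namespace Cfsg.Agent.S3983

open scoped Pointwise

/-- Let P be a Sylow p-subgroup of the finite group G that meets each conjugate g P g⁻¹ with g outside N_G(P) trivially, and let U be a subgroup of G of order divisible by p. Then a Sylow p-subgroup Q of U has the same property inside U: Q meets each conjugate u Q u⁻¹ with u ∈ U outside N_U(Q) trivially. -/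
theorem result {G : Type*} [Group G] [Finite G] (p : ℕ) [Fact p.Prime] (P : Sylow p G) (hTI : ∀ g : G, g ∉ Subgroup.normalizer ((P : Subgroup G) : Set G) → (P : Subgroup G) ⊓ (MulAut.conj g • (P : Subgroup G)) = ⊥) (U : Subgroup G) (hU : p ∣ Nat.card ↥U) (Q : Sylow p ↥U) : ∀ u : ↥U, u ∉ Subgroup.normalizer ((Q : Subgroup ↥U) : Set ↥U) → (Q : Subgroup ↥U) ⊓ (MulAut.conj u • (Q : Subgroup ↥U)) = ⊥ := by
  intro u hu
  by_contra hne
  obtain ⟨x, hx, hx1⟩ := (Subgroup.bot_or_exists_ne_one _).resolve_left hne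
  obtain ⟨hxQ, hxu⟩ := Subgroup.mem_inf.mp hx
  rw [Cfsg.Agent.Lib.Frobenius.mem_conj_smul] at hxu
  obtain ⟨R, hR⟩ := (Q.isPGroup'.map U.subtype).exists_le_sylow
  obtain ⟨h, rfl⟩ := MulAction.exists_smul_eq G P R
  have hmem : ∀ {v : U}, v ∈ (Q : Subgroup U) → h⁻¹ * (v : G) * h ∈ (P : Subgroup G) := fun hv =>
    Cfsg.Agent.Lib.Frobenius.mem_conj_smul.mp (hR ⟨_, hv, rfl⟩)
  have hN : h⁻¹ * (u : G) * h ∈ Subgroup.normalizer ((P : Subgroup G) : Set G) := by
    by_contra hN
    have h1 : h⁻¹ * (x : G) * h ∈ (⊥ : Subgroup G) := by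
      rw [← hTI _ hN]
      refine Subgroup.mem_inf.mpr ⟨hmem hxQ, ?_⟩
      rw [Cfsg.Agent.Lib.Frobenius.mem_conj_smul]
      convert hmem hxu using 1
      simp [mul_assoc]
    refine hx1 (Subtype.ext ?_)
    have h2 := Subgroup.mem_bot.mp h1
    rw [show (x : G) = h * (h⁻¹ * x * h) * h⁻¹ by group, h2]
    simp
  -- `Q` is the intersection of `U` with `h P h⁻¹`
  have hQeq : ∀ v : U, v ∈ (Q : Subgroup U) ↔ h⁻¹ * (v : G) * h ∈ (P : Subgroup G) := by
    intro v
    refine ⟨hmem, fun hv => ?_⟩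
    let S : Subgroup U := ((h • P : Sylow p G) : Subgroup G).subgroupOf U
    have hS : IsPGroup p S :=
      (h • P : Sylow p G).isPGroup'.comap_of_injective _ Subtype.val_injective
    have hle : (Q : Subgroup U) ≤ S := fun w hw => hR ⟨w, hw, rfl⟩
    rw [← Q.is_maximal' hS hle]
    exact Cfsg.Agent.Lib.Frobenius.mem_conj_smul.mpr hv
  apply hu
  rw [Subgroup.mem_normalizer_iff]
  intro v
  rw [hQeq, hQeq, Subgroup.mem_normalizer_iff.mp hN]
  simp [mul_assoc]

end Cfsg.Agent.S3983
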