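import Cfsg.Statements.S3984
import Cfsg.Agent.Lib.Frobenius.Complement
import Mathlib.GroupTheory.Sylow

set_option autoImplicit false
open scoped Pointwise
open Cfsg

namespace Cfsg.Agent.S3984

open scoped Pointwise

theorem exists_conj_mem_of_mem_sup {G : Type*} [Group G] [Finite G] {p : ℕ} [Fact p.Prime]
    (P : Sylow p G) (N : Subgroup G) [N.Normal] {a : G} (ha : a ∈ (P : Subgroup G) ⊔ N)
    (hp : IsPGroup p (Subgroup.zpowers a)) : ∃ n ∈ N, n⁻¹ * a * n ∈ (P : Subgroup G) := by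
  set K := (P : Subgroup G) ⊔ N
  obtain ⟨R, hR⟩ := (hp.comap_of_injective K.subtype Subtype.val_injective).exists_le_sylow
  obtain ⟨k, rfl⟩ := MulAction.exists_smul_eq K (P.subtype le_sup_left) R
  have h1 : (⟨a, ha⟩ : K) ∈ MulAut.conj k • ((P.subtype le_sup_left : Sylow p K) : Subgroup K) :=
    hR (show a ∈ Subgroup.zpowers a from Subgroup.mem_zpowers a)
  rw [Cfsg.Agent.Lib.Frobenius.mem_conj_smul] at h1
  obtain ⟨n, hn, q, hq, hnq⟩ := Subgroup.mem_sup_of_normal_left.mp
    (show (k : G) ∈ N ⊔ (P : Subgroup G) by rw [sup_comm]; exact k.2)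
  refine ⟨n, hn, ?_⟩
  have h2 : (k : G)⁻¹ * a * k ∈ (P : Subgroup G) := h1
  rw [← hnq] at h2
  have := mul_mem (mul_mem hq h2) (inv_mem hq)
  convert this using 1
  group

/-- Let P be a Sylow p-subgroup of the finite group G that meets each conjugate g P g⁻¹ with g outside N_G(P) trivially, and let N be a normal subgroup of G of order prime to p. Then every Sylow p-subgroup Q of G ⧸ N meets each conjugate x Q x⁻¹ with x outside its normalizer trivially. -/
theorem result {G : Type*} [Group G] [Finite G] (p : ℕ) [Fact p.Prime] (P : Sylow p G) (hTI : ∀ g : G, g ∉ Subgroup.normalizer ((P : Subgroup G) : Set G) → (P : Subgroup G) ⊓ (MulAut.conj g • (P : Subgroup G)) = ⊥) (N : Subgroup G) [N.Normal] (hN : (Nat.card ↥N).Coprime p) (Q : Sylow p (G ⧸ N)) : ∀ x : G ⧸ N, x ∉ Subgroup.normalizer ((Q : Subgroup (G ⧸ N)) : Set (G ⧸ N)) → (Q : Subgroup (G ⧸ N)) ⊓ (MulAut.conj x • (Q : Subgroup (G ⧸ N))) = ⊥ := by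
  intro x hx
  by_contra hne
  obtain ⟨y, hy, hy1⟩ := (Subgroup.bot_or_exists_ne_one _).resolve_left hne
  obtain ⟨hyQ, hyx⟩ := Subgroup.mem_inf.mp hy
  rw [Cfsg.Agent.Lib.Frobenius.mem_conj_smul] at hyx
  have hsurj := QuotientGroup.mk'_surjective N
  obtain ⟨hb, hQ⟩ := MulAction.exists_smul_eq (G ⧸ N) (P.mapSurjective hsurj) Q
  obtain ⟨h, rfl⟩ := hsurj hb
  obtain ⟨x, rfl⟩ := hsurj x
  subst hQ
  -- reduce to the conjugate `h P h⁻¹`
  set P' : Sylow p G := h • P with hP'
  have hTI' : ∀ g a : G, a ≠ 1 → a ∈ (P' : Subgroup G) → g⁻¹ * a * g ∈ (P' : Subgroup G) →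
      g ∈ Subgroup.normalizer ((P' : Subgroup G) : Set G) := by
    intro g a ha1 ha hga
    have e : ∀ z, z ∈ (P' : Subgroup G) ↔ h⁻¹ * z * h ∈ (P : Subgroup G) :=
      fun z => Cfsg.Agent.Lib.Frobenius.mem_conj_smul
    have hN : h⁻¹ * g * h ∈ Subgroup.normalizer ((P : Subgroup G) : Set G) := by
      by_contra hN
      have h1 : h⁻¹ * a * h ∈ (⊥ : Subgroup G) := by
        rw [← hTI _ hN]
        refine Subgroup.mem_inf.mpr ⟨(e _).mp ha, ?_⟩
        rw [Cfsg.Agent.Lib.Frobenius.mem_conj_smul]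
        convert (e _).mp hga using 1
        simp [mul_assoc]
      refine ha1 ?_
      rw [show a = h * (h⁻¹ * a * h) * h⁻¹ by group, Subgroup.mem_bot.mp h1]
      simp
    rw [Subgroup.mem_normalizer_iff] at hN ⊢
    intro z
    rw [e, e, hN]
    simp [mul_assoc]
  have hmem : ∀ z : G, QuotientGroup.mk' N z ∈
      ((QuotientGroup.mk' N h • P.mapSurjective hsurj : Sylow p (G ⧸ N)) : Subgroup (G ⧸ N)) ↔
      z ∈ (P' : Subgroup G) ⊔ N := by
    intro z
    rw [Sylow.smul_def, Sylow.pointwise_smul_def, Sylow.coe_subgroup_smul,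
      Cfsg.Agent.Lib.Frobenius.mem_conj_smul, Sylow.coe_mapSurjective]
    rw [← map_inv, ← map_mul, ← map_mul, ← Subgroup.mem_comap, Subgroup.comap_map_eq,
      QuotientGroup.ker_mk']
    rw [show N = MulAut.conj h • N from (Subgroup.Normal.conjAct inferInstance h).symm,
      ← Subgroup.smul_sup, Cfsg.Agent.Lib.Frobenius.mem_conj_smul,
      show MulAut.conj h • N = N from Subgroup.Normal.conjAct inferInstance h]
  -- lift `y` to a `p`-element
  obtain ⟨w, rfl⟩ := hsurj y
  obtain ⟨q', hq', n, hn, hqn⟩ := Subgroup.mem_sup_of_normal_right.mp ((hmem w).mp hyQ)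
  have hw : QuotientGroup.mk' N w = QuotientGroup.mk' N q' := by
    rw [← hqn, map_mul, show QuotientGroup.mk' N n = 1 from (QuotientGroup.eq_one_iff n).mpr hn, mul_one]
  rw [hw] at hy1 hyx
  have hq1 : q' ≠ 1 := fun hc => hy1 (by rw [hc, map_one])
  have hxq : x⁻¹ * q' * x ∈ (P' : Subgroup G) ⊔ N := (hmem _).mp (by simpa using hyx)
  have hp : IsPGroup p (Subgroup.zpowers (x⁻¹ * q' * x)) := by
    have h1 : IsPGroup p (Subgroup.zpowers q') :=
      P'.isPGroup'.to_le (Subgroup.zpowers_le.mpr hq')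
    have h2 := h1.map (MulAut.conj x⁻¹).toMonoidHom
    rw [MonoidHom.map_zpowers,
      show (MulAut.conj x⁻¹).toMonoidHom q' = x⁻¹ * q' * x by
        show x⁻¹ * q' * x⁻¹⁻¹ = _
        rw [inv_inv]] at h2
    exact h2
  obtain ⟨n', hn', hc⟩ := exists_conj_mem_of_mem_sup P' N hxq hp
  have hu : x * n' ∈ Subgroup.normalizer ((P' : Subgroup G) : Set G) :=
    hTI' _ q' hq1 hq' (by convert hc using 1; group)
  apply hx
  have hnor : x * n' ∈ Subgroup.normalizer ((((P' : Subgroup G) ⊔ N) : Subgroup G) : Set G) := by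
    have e1 : MulAut.conj (x * n') • (P' : Subgroup G) = P' := by
      ext z
      rw [Cfsg.Agent.Lib.Frobenius.mem_conj_smul]
      exact (Subgroup.mem_normalizer_iff''.mp hu z).symm
    have e2 : MulAut.conj (x * n') • ((P' : Subgroup G) ⊔ N) = (P' : Subgroup G) ⊔ N := by
      rw [Subgroup.smul_sup, e1,
        show MulAut.conj (x * n') • N = N from Subgroup.Normal.conjAct inferInstance _]
    rw [Subgroup.mem_normalizer_iff'']
    intro z
    conv_lhs => rw [← e2, Cfsg.Agent.Lib.Frobenius.mem_conj_smul]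
  rw [Subgroup.mem_normalizer_iff] at hnor ⊢
  intro z
  obtain ⟨z, rfl⟩ := hsurj z
  rw [show QuotientGroup.mk' N x = QuotientGroup.mk' N (x * n') by
    rw [map_mul, show QuotientGroup.mk' N n' = 1 from (QuotientGroup.eq_one_iff n').mpr hn', mul_one]]
  rw [← map_inv, ← map_mul, ← map_mul, hmem, hmem, hnor]

end Cfsg.Agent.S3984
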