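import Cfsg.Statements.S3985
import Cfsg.Agent.Lib.Frobenius.Complement
import Mathlib.GroupTheory.Sylow
import Mathlib.NumberTheory.Basic
import Mathlib.RingTheory.Int.Basic
import Mathlib.RingTheory.PrincipalIdealDomain

set_option autoImplicit false
open scoped Pointwise
open Cfsg

namespace Cfsg.Agent.S3985

open scoped Pointwise

/-- Conjugation fixing a non-identity element of a cyclic `p`-group: some `p`-power is trivial. -/
theorem exists_pow_commute {G : Type*} [Group G] [Finite G] {p : ℕ} [Fact p.Prime] {z g : G}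
    {u : ℕ} (hu : g * z * g⁻¹ = z ^ u) {k : ℕ} (hk : orderOf z = p ^ k) {j : ℕ}
    (hj : z ^ j ≠ 1) (hfix : g * z ^ j * g⁻¹ = z ^ j) : Commute (g ^ p ^ k) z := by
  have hpow : ∀ m : ℕ, g ^ m * z * (g ^ m)⁻¹ = z ^ (u ^ m) := by
    intro m
    induction m with
    | zero => simp
    | succ m ih =>
      calc g ^ (m + 1) * z * (g ^ (m + 1))⁻¹ = g * (g ^ m * z * (g ^ m)⁻¹) * g⁻¹ := by
            rw [pow_succ']; group
        _ = (g * z * g⁻¹) ^ (u ^ m) := by rw [ih, conj_pow]
        _ = z ^ (u ^ (m + 1)) := by rw [hu, ← pow_mul, pow_succ']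
  have h1 : ((p : ℤ) ^ k) ∣ ((u : ℤ) - 1) * j := by
    have h2 : z ^ (u * j) = z ^ j := by rw [pow_mul, ← hu, conj_pow, hfix]
    have h3 : z ^ (((u : ℤ) - 1) * j) = 1 := by
      rw [sub_mul, one_mul, zpow_sub, ← Nat.cast_mul, zpow_natCast, zpow_natCast, h2, mul_inv_cancel]
    have := orderOf_dvd_iff_zpow_eq_one.mpr h3
    rw [hk] at this
    exact_mod_cast this
  have hpu : (p : ℤ) ∣ (u : ℤ) - 1 := by
    by_contra hc
    have hcop : IsCoprime ((p : ℤ) ^ k) ((u : ℤ) - 1) :=
      ((Nat.prime_iff_prime_int.mp (Fact.out : p.Prime)).coprime_iff_not_dvd.mpr hc).pow_left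
    have h4 : p ^ k ∣ j := by exact_mod_cast hcop.dvd_of_dvd_mul_left h1
    exact hj (orderOf_dvd_iff_pow_eq_one.mp (hk ▸ h4))
  have h5 := dvd_sub_pow_of_dvd_sub hpu k
  rw [one_pow] at h5
  have h6 : z ^ ((u : ℤ) ^ p ^ k - 1) = 1 := by
    refine orderOf_dvd_iff_zpow_eq_one.mp ?_
    rw [hk]
    exact (by exact_mod_cast dvd_trans (pow_dvd_pow (p : ℤ) (Nat.le_succ k)) h5)
  have h7 : g ^ p ^ k * z * (g ^ p ^ k)⁻¹ = z := by
    rw [hpow]
    rw [zpow_sub, zpow_one, mul_inv_eq_one, ← Nat.cast_pow, zpow_natCast] at h6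
    exact h6
  exact mul_inv_eq_iff_eq_mul.mp h7

/-- Let P be a cyclic Sylow p-subgroup of the finite group G. Then P meets each conjugate g P g⁻¹ with g outside N_G(P) trivially if and only if P is weakly self-centralizing: C_G(x) = C_G(P) for every non-identity x ∈ P. -/
theorem result {G : Type*} [Group G] [Finite G] (p : ℕ) [Fact p.Prime] (P : Sylow p G) (hcyc : IsCyclic ↥(P : Subgroup G)) : (∀ g : G, g ∉ Subgroup.normalizer ((P : Subgroup G) : Set G) → (P : Subgroup G) ⊓ (MulAut.conj g • (P : Subgroup G)) = ⊥) ↔ ∀ x : G, x ∈ (P : Subgroup G) → x ≠ 1 → Subgroup.centralizer ({x} : Set G) = Subgroup.centralizer ((P : Subgroup G) : Set G) := by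
  have hab : ∀ a ∈ (P : Subgroup G), ∀ b ∈ (P : Subgroup G), a * b = b * a := by
    intro a ha b hb
    letI := hcyc.commGroup
    exact congrArg Subtype.val (mul_comm (⟨a, ha⟩ : (P : Subgroup G)) ⟨b, hb⟩)
  have hpel : ∀ w ∈ Subgroup.normalizer ((P : Subgroup G) : Set G), IsPGroup p (Subgroup.zpowers w) →
      w ∈ (P : Subgroup G) := fun w hw hp =>
    (Subgroup.mem_inf.mp (hp.inf_normalizer_sylow P ▸ Subgroup.mem_inf.mpr ⟨Subgroup.mem_zpowers w, hw⟩)).2
  constructor
  · intro hTI x hxP hx1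
    refine le_antisymm (fun g hg => ?_) (Subgroup.centralizer_le (Set.singleton_subset_iff.mpr hxP))
    rw [Subgroup.mem_centralizer_singleton_iff] at hg
    have hgN : g ∈ Subgroup.normalizer ((P : Subgroup G) : Set G) := by
      by_contra hN
      refine hx1 (Subgroup.mem_bot.mp (hTI g hN ▸ Subgroup.mem_inf.mpr ⟨hxP, ?_⟩))
      rw [Cfsg.Agent.Lib.Frobenius.mem_conj_smul, mul_assoc, ← hg, inv_mul_cancel_left]
      exact hxP
    obtain ⟨⟨z, hzP⟩, hz⟩ := hcyc.exists_generator
    have hgen : ∀ w ∈ (P : Subgroup G), ∃ u : ℕ, w = z ^ u := by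
      intro w hw
      obtain ⟨u, hu⟩ := (mem_powers_iff_mem_zpowers.mpr (hz ⟨w, hw⟩) : _ ∈ Submonoid.powers _)
      exact ⟨u, (congrArg Subtype.val hu).symm⟩
    obtain ⟨u, hu⟩ := hgen _ ((Subgroup.mem_normalizer_iff.mp hgN z).mp hzP)
    obtain ⟨j, rfl⟩ := hgen x hxP
    obtain ⟨k, hk⟩ := IsPGroup.iff_orderOf.mp P.isPGroup' ⟨z, hzP⟩
    rw [Subgroup.orderOf_mk] at hk
    have hc1 : Commute (g ^ p ^ k) z := exists_pow_commute hu hk hx1 (by rw [hg]; group)
    obtain ⟨m, hm⟩ : ∃ m, orderOf g = p ^ (orderOf g).factorization p * m :=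
      ⟨_, (Nat.ordProj_mul_ordCompl_eq_self (orderOf g) p).symm⟩
    have hgm : g ^ m ∈ (P : Subgroup G) := by
      refine hpel _ (pow_mem hgN m) ?_
      have h0 : (g ^ m) ^ p ^ (orderOf g).factorization p = 1 := by
        rw [← pow_mul, mul_comm, ← hm, pow_orderOf_eq_one]
      obtain ⟨i, -, hi⟩ := (Nat.dvd_prime_pow Fact.out).mp (orderOf_dvd_of_pow_eq_one h0)
      exact IsPGroup.of_card (n := i) (by rw [Nat.card_zpowers, hi])
    have hcop : Nat.Coprime (p ^ k) m := by
      have h1 := Nat.coprime_ordCompl (Fact.out : p.Prime) (orderOf_pos g).ne'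
      have h2 : m = orderOf g / p ^ (orderOf g).factorization p :=
        (Nat.div_eq_of_eq_mul_right (pow_pos (Fact.out : p.Prime).pos _) hm).symm
      exact h2 ▸ h1.pow_left k
    have hzg : g ∈ Subgroup.centralizer ({z} : Set G) := by
      have e : g = (g ^ p ^ k) ^ (Nat.gcdA (p ^ k) m) * (g ^ m) ^ (Nat.gcdB (p ^ k) m) := by
        rw [← zpow_natCast g, ← zpow_natCast g, ← zpow_mul, ← zpow_mul, ← zpow_add,
          ← Nat.gcd_eq_gcd_ab, hcop, Nat.cast_one, zpow_one]
      rw [e]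
      exact mul_mem (zpow_mem (Subgroup.mem_centralizer_singleton_iff.mpr hc1) _)
        (zpow_mem (Subgroup.mem_centralizer_singleton_iff.mpr (hab _ hgm z hzP)) _)
    refine Subgroup.mem_centralizer_iff.mpr fun w hw => ?_
    obtain ⟨v, rfl⟩ := hgen w hw
    exact ((Commute.pow_right (Subgroup.mem_centralizer_singleton_iff.mp hzg) v).eq).symm
  · intro h g hg
    by_contra hne
    obtain ⟨x, hx, hx1⟩ := (Subgroup.bot_or_exists_ne_one _).resolve_left hne
    obtain ⟨hxP, hxg⟩ := Subgroup.mem_inf.mp hx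
    rw [Cfsg.Agent.Lib.Frobenius.mem_conj_smul] at hxg
    have hy := h _ hxg (fun hc => hx1 (by
      have := congrArg (fun w => g * w * g⁻¹) hc
      simpa [mul_assoc] using this))
    have hX := h x hxP hx1
    have hmap : ∀ z ∈ (P : Subgroup G), g * z * g⁻¹ ∈ (P : Subgroup G) := by
      intro z hz
      have h1 : g * z * g⁻¹ ∈ Subgroup.centralizer ((P : Subgroup G) : Set G) := by
        rw [← hX, Subgroup.mem_centralizer_singleton_iff]
        have h2 : z * (g⁻¹ * x * g) = g⁻¹ * x * g * z := hab _ hz _ hxg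
        have h3 := congrArg (fun w => g * w * g⁻¹) h2
        simpa [mul_assoc] using h3
      refine hpel _ ?_ ?_
      · rw [Subgroup.mem_normalizer_iff]
        intro w
        constructor
        · intro hw
          rwa [← Subgroup.mem_centralizer_iff.mp h1 w hw, mul_inv_cancel_right]
        · intro hw
          have h3 := Subgroup.mem_centralizer_iff.mp h1 _ hw
          rw [inv_mul_cancel_right] at h3
          rwa [← mul_left_cancel (a := g * z * g⁻¹) h3.symm]
      · have h2 := (P.isPGroup'.to_le (Subgroup.zpowers_le.mpr hz)).map (MulAut.conj g).toMonoidHom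
        rw [MonoidHom.map_zpowers] at h2
        exact h2
    exact hg (Subgroup.mem_normalizer_fintype hmap)

end Cfsg.Agent.S3985
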