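import Cfsg.Statements.S3986
import Mathlib.GroupTheory.SchurZassenhaus
import Mathlib.GroupTheory.Sylow

set_option autoImplicit false
open Cfsg

namespace Cfsg.Agent.S3986

/-- A subgroup containing all prime power elements of `K` contains `K`. -/
theorem le_of_primePow_mem {G : Type*} [Group G] [Finite G] {C K : Subgroup G}
    (h : ∀ g ∈ K, ∀ q b : ℕ, q.Prime → orderOf g = q ^ b → g ∈ C) : K ≤ C := by
  suffices ∀ m : ℕ, ∀ g ∈ K, orderOf g = m → g ∈ C from fun g hg => this _ g hg rfl
  intro m
  induction m using Nat.recOnPrimeCoprime with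
  | zero => exact fun g _ hg => absurd hg (orderOf_pos g).ne'
  | prime_pow q b hq => exact fun g hg h' => h g hg q b hq h'
  | coprime a b ha hb hab iha ihb =>
    intro g hg ho
    have h1 := iha (g ^ b) (pow_mem hg b) (by
      rw [orderOf_pow' g (by omega), ho, Nat.gcd_mul_left_left, Nat.mul_div_cancel _ (by omega)])
    have h2 := ihb (g ^ a) (pow_mem hg a) (by
      rw [orderOf_pow' g (by omega), ho, Nat.gcd_mul_right_left, Nat.mul_div_cancel_left _ (by omega)])
    have e : g = (g ^ b) ^ (Nat.gcdB a b) * (g ^ a) ^ (Nat.gcdA a b) := by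
      rw [← zpow_natCast g, ← zpow_natCast g, ← zpow_mul, ← zpow_mul, ← zpow_add, add_comm,
        ← Nat.gcd_eq_gcd_ab, hab, Nat.cast_one, zpow_one]
    rw [e]
    exact mul_mem (zpow_mem h1 _) (zpow_mem h2 _)

/-- Let p be a prime and G a finite group. Then some Sylow p-subgroup of G is a direct factor of G (it is normal and has a normal complement) if and only if every element of p-power order commutes with every element whose order is a power of a prime other than p. -/
theorem result {G : Type*} [Group G] [Finite G] (p : ℕ) [Fact p.Prime] : (∃ (P : Sylow p G) (K : Subgroup G), (P : Subgroup G).Normal ∧ K.Normal ∧ (P : Subgroup G) ⊓ K = ⊥ ∧ (P : Subgroup G) ⊔ K = ⊤) ↔ ∀ x y : G, (∃ a : ℕ, orderOf x = p ^ a) → (∃ q b : ℕ, q.Prime ∧ q ≠ p ∧ orderOf y = q ^ b) → x * y = y * x := by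
  constructor
  · rintro ⟨P, K, hP, hK, hinf, hsup⟩ x y ⟨a, ha⟩ ⟨q, b, hq, hqp, hb⟩
    have hcomm : ∀ u ∈ (P : Subgroup G), ∀ v ∈ K, Commute u v :=
      fun u hu v hv => Subgroup.commute_of_normal_of_disjoint _ _ hP hK (disjoint_iff.mpr hinf) u v hu hv
    have hxP : x ∈ (P : Subgroup G) := by
      have : IsPGroup p (Subgroup.zpowers x) := IsPGroup.of_card (n := a) (by rw [Nat.card_zpowers, ha])
      obtain ⟨R, hR⟩ := this.exists_le_sylow
      haveI := Sylow.unique_of_normal P hP
      exact Subsingleton.elim R P ▸ hR (Subgroup.mem_zpowers x)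
    obtain ⟨u, hu, v, hv, rfl⟩ := Subgroup.mem_sup_of_normal_right.mp (hsup ▸ Subgroup.mem_top y)
    have hu1 : u = 1 := by
      have h1 := pow_orderOf_eq_one (u * v)
      rw [hb, (hcomm u hu v hv).mul_pow] at h1
      have h2 : u ^ q ^ b ∈ (P : Subgroup G) ⊓ K := Subgroup.mem_inf.mpr ⟨pow_mem hu _, by
        rw [eq_inv_of_mul_eq_one_left h1]; exact inv_mem (pow_mem hv _)⟩
      rw [hinf, Subgroup.mem_bot] at h2
      obtain ⟨c, hc⟩ := IsPGroup.iff_orderOf.mp P.isPGroup' ⟨u, hu⟩
      rw [Subgroup.orderOf_mk] at hc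
      have h3 := orderOf_dvd_of_pow_eq_one h2
      rw [hc] at h3
      rw [← orderOf_eq_one_iff, hc]
      exact Nat.Coprime.eq_one_of_dvd (((Nat.coprime_primes Fact.out hq).mpr (Ne.symm hqp)).pow c b) h3
    subst hu1
    rw [one_mul]
    exact hcomm x hxP v hv
  · intro h
    obtain ⟨P⟩ : Nonempty (Sylow p G) := inferInstance
    have hPel : ∀ u ∈ (P : Subgroup G), ∃ a, orderOf u = p ^ a := fun u hu => by
      obtain ⟨a, ha⟩ := IsPGroup.iff_orderOf.mp P.isPGroup' ⟨u, hu⟩
      exact ⟨a, by rwa [Subgroup.orderOf_mk] at ha⟩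
    have hnormal : (P : Subgroup G).Normal := by
      rw [← Subgroup.normalizer_eq_top_iff, eq_top_iff]
      set N := Subgroup.normalizer ((P : Subgroup G) : Set G) with hN
      have hcent : ∀ g : G, ∀ q b : ℕ, q.Prime → q ≠ p → orderOf g = q ^ b →
          g ∈ N := by
        intro g q b hq hqp hb
        rw [hN, Subgroup.mem_normalizer_iff]
        intro u
        constructor
        · intro hu
          rwa [← h u g (hPel u hu) ⟨q, b, hq, hqp, hb⟩, mul_inv_cancel_right]
        · intro hu
          have h1 := h _ g (hPel _ hu) ⟨q, b, hq, hqp, hb⟩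
          rw [inv_mul_cancel_right] at h1
          rwa [mul_left_cancel h1]
      -- the index of the normalizer is `1`
      suffices N.index = 1 by rw [Subgroup.index_eq_one.mp this]
      rw [Nat.eq_one_iff_not_exists_prime_dvd]
      intro q hq hdvd
      by_cases hqp : q = p
      · subst hqp
        exact P.not_dvd_index (hdvd.trans (Subgroup.index_dvd_of_le Subgroup.le_normalizer))
      · haveI : Fact q.Prime := ⟨hq⟩
        obtain ⟨Q⟩ : Nonempty (Sylow q G) := inferInstance
        have hle : (Q : Subgroup G) ≤ N := fun g hg => by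
          obtain ⟨b, hb⟩ := IsPGroup.iff_orderOf.mp Q.isPGroup' ⟨g, hg⟩
          exact hcent g q b hq hqp (by rwa [Subgroup.orderOf_mk] at hb)
        exact Q.not_dvd_index (hdvd.trans (Subgroup.index_dvd_of_le hle))
    obtain ⟨K, hK⟩ := Subgroup.exists_right_complement'_of_coprime P.card_coprime_index
    have hKP : K ≤ Subgroup.centralizer ((P : Subgroup G) : Set G) := by
      refine le_of_primePow_mem fun g hg q b hq hb => ?_
      by_cases hg1 : g = 1
      · subst hg1; exact one_mem _
      have hqp : q ≠ p := by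
        rintro rfl
        have h1 : orderOf g ∣ (P : Subgroup G).index := by
          rw [hK.symm.index_eq_card]
          exact Subgroup.orderOf_dvd_natCard K hg
        have hb0 : b ≠ 0 := fun h0 => hg1 (orderOf_eq_one_iff.mp (by rw [hb, h0, pow_zero]))
        rw [hb] at h1
        exact P.not_dvd_index ((dvd_pow_self q hb0).trans h1)
      exact Subgroup.mem_centralizer_iff.mpr fun u hu => h u g (hPel u hu) ⟨q, b, hq, hqp, hb⟩
    refine ⟨P, K, hnormal, ?_, disjoint_iff.mp hK.disjoint, hK.sup_eq_top⟩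
    rw [← Subgroup.normalizer_eq_top_iff, eq_top_iff, ← hK.sup_eq_top, sup_le_iff]
    refine ⟨fun u hu => Subgroup.mem_normalizer_iff.mpr fun w => ⟨fun hw => ?_, fun hw => ?_⟩,
      Subgroup.le_normalizer⟩
    · rwa [Subgroup.mem_centralizer_iff.mp (hKP hw) u hu, mul_inv_cancel_right]
    · have h1 := Subgroup.mem_centralizer_iff.mp (hKP hw) u hu
      rw [inv_mul_cancel_right] at h1
      rwa [← mul_left_cancel h1] 

end Cfsg.Agent.S3986
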