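import Cfsg.Statements.S3987
import Cfsg.Agent.S3986
import Mathlib.GroupTheory.Index

set_option autoImplicit false
open Cfsg

namespace Cfsg.Agent.S3987

/-- If `H K = G` then the index is multiplicative. -/
theorem index_inf_eq_mul {G : Type*} [Group G] [Finite G] {H K : Subgroup G}
    (h : ∀ g : G, ∃ k ∈ K, k⁻¹ * g ∈ H) : (H ⊓ K).index = H.index * K.index := by
  have hst : MulAction.stabilizer K ((1 : G) : G ⧸ H) = H.subgroupOf K := by
    ext k
    rw [MulAction.mem_stabilizer_iff, Subgroup.mem_subgroupOf]
    show ((k : G) * 1 : G) = ((1 : G) : G ⧸ H) ↔ _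
    rw [mul_one, eq_comm, QuotientGroup.eq, inv_one, one_mul]
  have horb : MulAction.orbit K ((1 : G) : G ⧸ H) = Set.univ := by
    refine Set.eq_univ_of_forall fun c => ?_
    obtain ⟨g, rfl⟩ := QuotientGroup.mk_surjective c
    obtain ⟨k, hk, hkg⟩ := h g
    refine ⟨⟨k, hk⟩, ?_⟩
    show ((k * 1 : G) : G ⧸ H) = g
    rw [mul_one, QuotientGroup.eq]
    exact hkg
  have h1 := MulAction.index_stabilizer K ((1 : G) : G ⧸ H)
  rw [hst, horb, Set.ncard_univ] at h1
  have h2 := Subgroup.relIndex_mul_index (inf_le_right : H ⊓ K ≤ K)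
  rw [Subgroup.inf_relIndex_right] at h2
  rw [← h2, Subgroup.relIndex, h1]
  rfl

/-- Let p be a prime and G a finite group. Then some Sylow p-subgroup of G is a direct factor of G (normal with a normal complement) if and only if for every element x of p-power order and every element y whose order is a power of a prime other than p, the conjugacy class of x y has as many elements as the product of the sizes of the classes of x and of y. -/
theorem result {G : Type*} [Group G] [Finite G] (p : ℕ) [Fact p.Prime] : (∃ (P : Sylow p G) (K : Subgroup G), (P : Subgroup G).Normal ∧ K.Normal ∧ (P : Subgroup G) ⊓ K = ⊥ ∧ (P : Subgroup G) ⊔ K = ⊤) ↔ ∀ x y : G, (∃ a : ℕ, orderOf x = p ^ a) → (∃ q b : ℕ, q.Prime ∧ q ≠ p ∧ orderOf y = q ^ b) → (Subgroup.centralizer ({x * y} : Set G)).index = (Subgroup.centralizer ({x} : Set G)).index * (Subgroup.centralizer ({y} : Set G)).index := by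
  constructor
  · intro hex x y hx hy
    have hc : Commute x y := (Cfsg.Agent.S3986.result p).mp hex x y hx hy
    obtain ⟨P, K, hP, hK, hinf, hsup⟩ := hex
    have hcomm : ∀ u ∈ (P : Subgroup G), ∀ v ∈ K, Commute u v :=
      fun u hu v hv => Subgroup.commute_of_normal_of_disjoint _ _ hP hK (disjoint_iff.mpr hinf) u v hu hv
    obtain ⟨a, ha⟩ := hx
    obtain ⟨q, b, hq, hqp, hb⟩ := hy
    have hcop : (orderOf x).Coprime (orderOf y) := by
      rw [ha, hb]
      exact ((Nat.coprime_primes Fact.out hq).mpr (Ne.symm hqp)).pow a b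
    have hCxy : Subgroup.centralizer ({x * y} : Set G) =
        Subgroup.centralizer ({x} : Set G) ⊓ Subgroup.centralizer ({y} : Set G) := by
      ext g
      simp only [Subgroup.mem_inf, Subgroup.mem_centralizer_singleton_iff]
      refine ⟨fun hg => ?_, fun ⟨h1, h2⟩ => (Commute.mul_right h1 h2).eq⟩
      have hgx : g * x = x * g := by
        have h1 : Commute g ((x * y) ^ orderOf y) := Commute.pow_right hg _
        rw [hc.mul_pow, pow_orderOf_eq_one, mul_one] at h1
        have h2 := h1.pow_right (Nat.gcdA (orderOf y) (orderOf x)).natAbs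
        obtain ⟨m, hm⟩ := exists_pow_eq_self_of_coprime hcop.symm
        rw [← hm]
        exact (h1.pow_right m).eq
      refine ⟨hgx, mul_left_cancel (a := x) ?_⟩
      calc x * (g * y) = (x * g) * y := by group
        _ = g * (x * y) := by rw [← hgx]; group
        _ = x * y * g := hg
        _ = x * (y * g) := by group
    rw [hCxy]
    refine index_inf_eq_mul fun g => ?_
    obtain ⟨u, hu, v, hv, rfl⟩ := Subgroup.mem_sup_of_normal_right.mp (hsup ▸ Subgroup.mem_top g)
    refine ⟨u, ?_, ?_⟩
    · -- `y` lies in `K`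
      rw [Subgroup.mem_centralizer_singleton_iff]
      obtain ⟨c, hc'⟩ := IsPGroup.iff_orderOf.mp P.isPGroup' ⟨u, hu⟩
      rw [Subgroup.orderOf_mk] at hc'
      exact (Cfsg.Agent.S3986.result p).mp ⟨P, K, hP, hK, hinf, hsup⟩ u y ⟨c, hc'⟩ ⟨q, b, hq, hqp, hb⟩
    · rw [inv_mul_cancel_left, Subgroup.mem_centralizer_singleton_iff]
      have hxP : x ∈ (P : Subgroup G) := by
        have : IsPGroup p (Subgroup.zpowers x) := IsPGroup.of_card (n := a) (by rw [Nat.card_zpowers, ha])
        obtain ⟨R, hR⟩ := this.exists_le_sylow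
        haveI := Sylow.unique_of_normal P hP
        exact Subsingleton.elim R P ▸ hR (Subgroup.mem_zpowers x)
      exact (hcomm x hxP v hv).eq.symm
  · intro h
    refine (Cfsg.Agent.S3986.result p).mpr fun x y hx hy => ?_
    set C := Subgroup.centralizer ({x} : Set G)
    set D := Subgroup.centralizer ({y} : Set G)
    have hle : C ⊓ D ≤ Subgroup.centralizer ({x * y} : Set G) := fun g hg => by
      simp only [C, D, Subgroup.mem_inf, Subgroup.mem_centralizer_singleton_iff] at hg ⊢
      exact (Commute.mul_right hg.1 hg.2).eq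
    have heq : C ⊓ D = Subgroup.centralizer ({x * y} : Set G) := by
      have h1 := h x y hx hy
      have h2 : (C ⊓ D).index ≤ C.index * D.index := Subgroup.index_inf_le
      rw [← h1] at h2
      have h3 := Subgroup.card_mul_index (C ⊓ D)
      have h4 := Subgroup.card_mul_index (Subgroup.centralizer ({x * y} : Set G))
      refine Subgroup.eq_of_le_of_card_ge hle ?_
      refine Nat.le_of_mul_le_mul_right ?_ (Nat.pos_of_ne_zero (Subgroup.index_ne_zero_of_finite (H := C ⊓ D)))
      rw [h3, ← h4]
      exact Nat.mul_le_mul_left _ h2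
    have hmem : x * y ∈ C ⊓ D := heq ▸ Subgroup.mem_centralizer_singleton_iff.mpr rfl
    have h5 := Subgroup.mem_centralizer_singleton_iff.mp (Subgroup.mem_inf.mp hmem).1
    rw [mul_assoc] at h5
    exact (mul_left_cancel h5).symm

end Cfsg.Agent.S3987
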