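import Cfsg.Statements.S3992
import Cfsg.Agent.S1475
import Cfsg.Agent.Lib.Coprime
import Cfsg.Agent.Lib.Frobenius.FourOrbits
import Cfsg.Agent.Lib.Cores
import Mathlib.GroupTheory.SpecificGroups.Cyclic

set_option autoImplicit false
open Cfsg

namespace Cfsg.Agent.S3992

universe u

open scoped IsMulCommutative

variable {G : Type u} [Group G] [Finite G]

theorem eq_of_commute {p r : ℕ} (hp : p.Prime) (hr : r.Prime)
    (hpp : ∀ g : G, g ≠ 1 → IsPrimePow (orderOf g)) {x y : G} (hx : orderOf x = p) (hy : orderOf y = r)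
    (hxy : Commute x y) : p = r := by
  by_contra hne
  haveI := Fact.mk hp
  haveI := Fact.mk hr
  have := S1475.eq_one_of_commute hne (fun g => (em (g = 1)).symm.imp_left (hpp g)) ⟨1, by rw [hx, pow_one]⟩
    hy hxy
  rw [this, orderOf_one] at hx
  exact hp.ne_one hx.symm

theorem eq_of_commute_subgroups {p r : ℕ} (hp : p.Prime) (hr : r.Prime)
    (hpp : ∀ g : G, g ≠ 1 → IsPrimePow (orderOf g)) {A B : Subgroup G}
    (hA : p ∣ Nat.card A) (hB : r ∣ Nat.card B) (hc : ∀ a ∈ A, ∀ b ∈ B, Commute a b) : p = r := by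
  haveI := Fact.mk hp
  haveI := Fact.mk hr
  obtain ⟨x, hx⟩ := exists_prime_orderOf_dvd_card' p hA
  obtain ⟨y, hy⟩ := exists_prime_orderOf_dvd_card' r hB
  exact eq_of_commute hp hr hpp ((Subgroup.orderOf_coe x).trans hx) ((Subgroup.orderOf_coe y).trans hy)
    (hc x x.2 y y.2)

/-- A solvable normal `R` is a `p`-group. -/
theorem radical_isPGroup (hns : ¬ Group.IsSolvable G) (hpp : ∀ g : G, g ≠ 1 → IsPrimePow (orderOf g))
    (R : Subgroup G) [R.Normal] (hRs : Group.IsSolvable ↥R) : ∃ p : ℕ, p.Prime ∧ IsPGroup p ↥R := by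
  classical
  rcases eq_or_ne R ⊥ with hR | hR
  · subst hR; exact ⟨2, Nat.prime_two, IsPGroup.of_bot⟩
  have : Nontrivial ↥R := R.nontrivial_iff_ne_bot.mpr hR
  obtain ⟨p, F, hp, hFn, hF1, -, hFp, -⟩ := Cfsg.Agent.Lib.Coprime.exists_normal_isPGroup_isMulCommutative ↥R
  haveI := Fact.mk hp
  refine ⟨p, hp, ?_⟩
  by_contra hno
  obtain ⟨q, hq, hqR, hqp⟩ : ∃ q, q.Prime ∧ q ∣ Nat.card R ∧ q ≠ p := by
    by_contra hc
    push_neg at hc
    refine hno (IsPGroup.of_card (n := (Nat.card R).primeFactorsList.length) ?_)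
    exact Nat.eq_prime_pow_of_unique_prime_dvd Nat.card_pos.ne' fun {d} hd hdd => hc d hd hdd
  haveI := Fact.mk hq
  obtain ⟨Q⟩ := (inferInstance : Nonempty (Sylow q ↥R))
  set Q' : Subgroup G := (Q : Subgroup ↥R).map R.subtype with hQ'
  have hQ'p : IsPGroup q Q' := Q.2.map R.subtype
  have hQ'1 : Q' ≠ ⊥ := fun e => Q.ne_bot_of_dvd_card hqR
    ((Subgroup.map_eq_bot_iff_of_injective _ R.subtype_injective).mp e)
  set F' : Subgroup G := F.map R.subtype with hF'
  have hF'1 : F' ≠ ⊥ := fun e => hF1 ((Subgroup.map_eq_bot_iff_of_injective _ R.subtype_injective).mp e)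
  have hF'p : IsPGroup p F' := hFp.map R.subtype
  have hQF : Q' ≤ Subgroup.normalizer (F' : Set G) := by
    rintro _ ⟨x, -, rfl⟩
    refine Subgroup.mem_normalizer_iff_map_conj_eq.mpr (Subgroup.eq_of_le_of_card_ge ?_ (le_of_eq ?_))
    · rintro _ ⟨_, ⟨y, hy, rfl⟩, rfl⟩
      exact ⟨x * y * x⁻¹, hFn.conj_mem y hy x, rfl⟩
    · exact Nat.card_congr (F'.equivMapOfInjective _ (MulAut.conj (R.subtype x)).injective).toEquiv
  have : Nontrivial ↥Q' := Q'.nontrivial_iff_ne_bot.mpr hQ'1
  have : Nontrivial ↥(Subgroup.center ↥Q') := hQ'p.center_nontrivial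
  obtain ⟨z₀, hz₀⟩ := exists_prime_orderOf_dvd_card' q
    ((IsPGroup.iff_card.mp (hQ'p.to_subgroup (Subgroup.center ↥Q'))).elim fun n hn => by
      rw [hn]; refine dvd_pow_self q fun h0 => ?_
      rw [h0, pow_zero] at hn
      exact (Finite.one_lt_card (α := ↥(Subgroup.center ↥Q'))).ne' hn)
  set z : G := ((z₀ : ↥Q') : G) with hzdef
  have hzQ : z ∈ Q' := (z₀ : ↥Q').2
  have hzq : orderOf z = q := by rw [hzdef, Subgroup.orderOf_coe, Subgroup.orderOf_coe, hz₀]
  have hzc : ∀ x ∈ Q', Commute x z := fun x hx =>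
    congrArg (fun y : ↥Q' => (y : G)) (Subgroup.mem_center_iff.mp z₀.2 ⟨x, hx⟩)
  have huniq : ∀ y ∈ Q', orderOf y = q → y ∈ Subgroup.zpowers z := by
    intro y hy hyq
    by_contra hyz
    set A := Subgroup.closure ({z, y} : Set G) with hA
    have hcomm : IsMulCommutative A := Subgroup.isMulCommutative_closure (by
      rintro a (rfl | rfl) b (rfl | rfl)
      · rfl
      · exact ((hzc _ hy).eq).symm
      · exact (hzc _ hy).eq
      · rfl)
    have hAQ : A ≤ Q' := (Subgroup.closure_le _).mpr (by rintro a (rfl | rfl) <;> assumption)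
    have hnc : ¬ IsCyclic A := by
      intro hcy
      refine hyz ?_
      have hzA : z ∈ A := Subgroup.subset_closure (Or.inl rfl)
      have hyA : y ∈ A := Subgroup.subset_closure (Or.inr rfl)
      have hle : ∀ w (hw : w ∈ A), orderOf w = q →
          Subgroup.zpowers (⟨w, hw⟩ : ↥A) = (powMonoidHom q : ↥A →* ↥A).ker := by
        intro w hw hwq
        refine Subgroup.eq_of_le_of_card_ge (Subgroup.zpowers_le.mpr ?_) ?_
        · rw [MonoidHom.mem_ker, powMonoidHom_apply, ← hwq]
          exact Subtype.ext (pow_orderOf_eq_one w)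
        · rw [Nat.card_zpowers, Subgroup.orderOf_mk, hwq, IsCyclic.card_powMonoidHom_ker]
          exact Nat.le_of_dvd hq.pos (Nat.gcd_dvd_right _ _)
      have h1 : (⟨y, hyA⟩ : ↥A) ∈ Subgroup.zpowers (⟨z, hzA⟩ : ↥A) := by
        rw [hle z hzA hzq, ← hle y hyA hyq]; exact Subgroup.mem_zpowers _
      obtain ⟨i, hi⟩ := h1
      exact ⟨i, congrArg Subtype.val hi⟩
    have hcop : (Nat.card A).Coprime (Nat.card F') := by
      obtain ⟨a, ha⟩ := (hQ'p.to_le hAQ).exists_card_eq
      obtain ⟨b, hb⟩ := hF'p.exists_card_eq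
      rw [ha, hb]
      exact Nat.Coprime.pow _ _ ((Nat.coprime_primes hq hp).mpr hqp)
    have hsup := Cfsg.Agent.Lib.Coprime.iSup_centralizer_eq (K := F') hnc (hAQ.trans hQF) hcop
    refine hF'1 (hsup.symm.trans (le_bot_iff.mp (iSup₂_le fun a ha => ?_)))
    obtain ⟨haA, ha1⟩ := ha
    by_contra hne
    have hne' : F' ⊓ Subgroup.centralizer ({a} : Set G) ≠ ⊥ := fun e => hne e.le
    have hqa : q ∣ Nat.card (Subgroup.zpowers a) := by
      obtain ⟨n, hn⟩ := (hQ'p.to_le (hAQ.trans' (Subgroup.zpowers_le.mpr haA))).exists_card_eq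
      rw [hn]
      refine dvd_pow_self q fun h0 => ha1 ?_
      rw [h0, pow_zero] at hn
      exact Subgroup.zpowers_eq_bot.mp (Subgroup.card_eq_one.mp hn)
    have hpb : p ∣ Nat.card ↥(F' ⊓ Subgroup.centralizer ({a} : Set G)) := by
      obtain ⟨n, hn⟩ := (hF'p.to_le (inf_le_left : F' ⊓ Subgroup.centralizer ({a} : Set G) ≤ F')).exists_card_eq
      rw [hn]
      refine dvd_pow_self p fun h0 => hne' ?_
      rw [h0, pow_zero] at hn
      exact Subgroup.card_eq_one.mp hn
    refine hqp (eq_of_commute_subgroups hq hp hpp hqa hpb fun u hu v hv => ?_)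
    obtain ⟨i, rfl⟩ := hu
    exact Commute.zpow_left (Subgroup.mem_centralizer_singleton_iff.mp hv.2).symm i
  -- `N(Q)` is solvable and covers `G/R`
  have hNN : Subgroup.normalizer (Q' : Set G) ≤ Subgroup.normalizer (Subgroup.zpowers z : Set G) := by
    intro g hg
    refine Subgroup.mem_normalizer_iff_map_conj_eq.mpr (Subgroup.eq_of_le_of_card_ge ?_ (le_of_eq ?_))
    · rw [MonoidHom.map_zpowers, Subgroup.zpowers_le]
      refine huniq _ ((Subgroup.mem_normalizer_iff.mp hg z).mp hzQ) ?_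
      exact (orderOf_injective (MulAut.conj g).toMonoidHom (MulAut.conj g).injective z).trans hzq
    · exact Nat.card_congr ((Subgroup.zpowers z).equivMapOfInjective _ (MulAut.conj g).injective).toEquiv
  have hCz : IsPGroup q (Subgroup.centralizer (Subgroup.zpowers z : Set G)) := by
    refine IsPGroup.iff_orderOf.mpr fun w => ?_
    rcases eq_or_ne (w : G) 1 with hw1 | hw1
    · exact ⟨0, by rw [← Subgroup.orderOf_coe, hw1, orderOf_one, pow_zero]⟩
    obtain ⟨r, k, hr, hk, hrk⟩ := hpp _ hw1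
    have hr' := Nat.prime_iff.mpr hr
    refine ⟨k, ?_⟩
    rw [← Subgroup.orderOf_coe, ← hrk]
    congr 1
    obtain ⟨w', hw', hwo⟩ : ∃ w' ∈ Subgroup.zpowers (w : G), orderOf w' = r := by
      refine ⟨(w : G) ^ (r ^ (k - 1)), ⟨_, zpow_natCast _ _⟩, ?_⟩
      rw [orderOf_pow_of_dvd (pow_ne_zero _ hr'.ne_zero) (hrk ▸ pow_dvd_pow r (Nat.sub_le k 1)),
        ← hrk, Nat.pow_div (Nat.sub_le k 1) hr'.pos]
      rw [show k - (k - 1) = 1 by omega, pow_one]
    refine eq_of_commute hr' hq hpp hwo hzq ?_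
    obtain ⟨i, rfl⟩ := hw'
    exact Commute.zpow_left (Subgroup.mem_centralizer_iff.mp w.2 z (Subgroup.mem_zpowers z)).symm i
  set N := Subgroup.normalizer (Subgroup.zpowers z : Set G) with hN
  have hNs : Group.IsSolvable N := by
    have hab : Group.IsSolvable (MulAut ↥(Subgroup.zpowers z)) :=
      Group.isSolvable_of_comm fun a b =>
        (IsCyclic.mulAutMulEquiv ↥(Subgroup.zpowers z)).injective (by rw [map_mul, map_mul, mul_comm])
    have hk : Group.IsSolvable (Subgroup.zpowers z).normalizerMonoidHom.ker := by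
      haveI := (hCz.of_equiv ((Subgroup.subgroupOfEquivOfLe
        (Subgroup.centralizer_le_normalizer (Subgroup.zpowers z : Set G))).symm)).isNilpotent
      rw [Subgroup.normalizerMonoidHom_ker]
      infer_instance
    exact Group.isSolvable_of_ker_le_range (Subgroup.zpowers z).normalizerMonoidHom.ker.subtype
      (Subgroup.zpowers z).normalizerMonoidHom (by rw [Subgroup.range_subtype])
  refine hns ?_
  refine Cfsg.Agent.Lib.Frobenius.FourOrbits.isSolvable_of_normal_of_quotient R hRs ?_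
  have htop := Sylow.normalizer_sup_eq_top Q
  rw [← hQ'] at htop
  haveI := hNs
  refine Group.isSolvable_of_surjective (G := ↥N) (f := (QuotientGroup.mk' R).comp N.subtype) fun x => ?_
  obtain ⟨g, rfl⟩ := QuotientGroup.mk'_surjective R x
  have hg : g ∈ Subgroup.normalizer (Q' : Set G) ⊔ R := htop ▸ Subgroup.mem_top g
  have hg' : g ∈ (↑(Subgroup.normalizer (Q' : Set G) ⊔ R) : Set G) := hg
  rw [Subgroup.mul_normal] at hg'
  obtain ⟨n, hn, r, hr, rfl⟩ := hg'
  exact ⟨⟨n, hNN hn⟩, by simp [(QuotientGroup.eq_one_iff r).mpr hr]⟩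

/-- The socle of a group with trivial solvable radical and prime power element orders. -/
theorem socle_simple [Nontrivial G] (hpp : ∀ g : G, g ≠ 1 → IsPrimePow (orderOf g))
    (hrad : ∀ N : Subgroup G, N.Normal → Group.IsSolvable ↥N → N = ⊥) :
    ∃ M : Subgroup G, M.Normal ∧ IsSimpleGroup ↥M ∧ ¬ IsMulCommutative ↥M ∧
      ∀ N : Subgroup G, N.Normal → N ≠ ⊥ → M ≤ N := by
  classical
  obtain ⟨M, ⟨hMn, hM1⟩, hMmin⟩ := (Set.toFinite
    {N : Subgroup G | N.Normal ∧ N ≠ ⊥}).exists_minimal ⟨⊤, inferInstance, top_ne_bot⟩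
  have hMs : ¬ Group.IsSolvable ↥M := fun h => hM1 (hrad M hMn h)
  have hMnc : ¬ IsMulCommutative ↥M := fun h => hMs (Group.isSolvable_of_comm fun a b => h.is_comm.comm a b)
  have two : ∀ {H : Subgroup G}, ¬ Group.IsSolvable ↥H → ∀ p : ℕ, p.Prime →
      ∃ q, q.Prime ∧ q ≠ p ∧ q ∣ Nat.card H := by
    intro H hH p hp
    by_contra hc
    push_neg at hc
    haveI := Fact.mk hp
    have : IsPGroup p H := IsPGroup.of_card (Nat.eq_prime_pow_of_unique_prime_dvd Nat.card_pos.ne'
      fun {d} hd hdd => by by_contra hne; exact hc d hd hne hdd)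
    haveI := this.isNilpotent
    exact hH inferInstance
  refine ⟨M, hMn, ?_, hMnc, fun N hN hN1 => ?_⟩
  · have : Nontrivial ↥M := M.nontrivial_iff_ne_bot.mpr hM1
    refine ⟨fun L hL => ?_⟩
    by_contra hno
    push_neg at hno
    obtain ⟨L₀, ⟨hL₀n, hL₀1, hL₀t⟩, hmin⟩ := (Set.toFinite
      {L : Subgroup ↥M | L.Normal ∧ L ≠ ⊥ ∧ L ≠ ⊤}).exists_minimal ⟨L, hL, hno.1, hno.2⟩
    set L' := L₀.map M.subtype with hL'
    have hL'M : L' ≤ M := Subgroup.map_subtype_le _
    obtain ⟨g, hg⟩ : ∃ g : G, L'.map (MulAut.conj g).toMonoidHom ≠ L' := by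
      by_contra hc
      push_neg at hc
      have hn : L'.Normal := ⟨fun x hx g => by rw [← hc g]; exact ⟨x, hx, rfl⟩⟩
      have := hMmin ⟨hn, fun e => hL₀1 ((Subgroup.map_eq_bot_iff_of_injective _ M.subtype_injective).mp e)⟩ hL'M
      exact hL₀t (eq_top_iff.mpr fun x _ => by
        obtain ⟨y, hy, e⟩ := this x.2
        exact (M.subtype_injective e) ▸ hy)
    set σ : MulAut ↥M := MulAut.conjNormal (H := M) g with hσ
    set L₁ : Subgroup ↥M := L₀.map σ.toMonoidHom with hL₁
    have hL₁n : L₁.Normal := hL₀n.map _ σ.surjective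
    have hne : L₁ ≠ L₀ := by
      intro e
      refine hg ?_
      have e' := congrArg (Subgroup.map M.subtype) e
      rw [hL₁, Subgroup.map_map] at e'
      rw [hL', Subgroup.map_map]
      exact e'
    have hcard : Nat.card L₁ = Nat.card L₀ :=
      (Nat.card_congr (L₀.equivMapOfInjective σ.toMonoidHom σ.injective).toEquiv).symm
    have hinf : L₀ ⊓ L₁ = ⊥ := by
      by_contra h0
      have hle := hmin ⟨inferInstance, h0, fun e => hL₀t (top_le_iff.mp (e ▸ inf_le_left))⟩ inf_le_left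
      exact hne (Subgroup.eq_of_le_of_card_ge (hle.trans inf_le_right) hcard.le).symm
    have hcm := Subgroup.commute_of_normal_of_disjoint L₀ L₁ hL₀n hL₁n (disjoint_iff.mpr hinf)
    have hcG : ∀ a ∈ L', ∀ b ∈ L₁.map M.subtype, Commute a b := by
      rintro _ ⟨a, ha, rfl⟩ _ ⟨b, hb, rfl⟩
      exact (hcm a b ha hb).map M.subtype
    have hcardG : Nat.card ↥(L₁.map M.subtype) = Nat.card ↥L₀ := by
      rw [Subgroup.card_map_of_injective M.subtype_injective, hcard]
    obtain ⟨p, hp, hpd⟩ := Nat.exists_prime_and_dvd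
      (fun e => hL₀1 (Subgroup.card_eq_one.mp e) : Nat.card ↥L₀ ≠ 1)
    haveI := Fact.mk hp
    by_cases hLs : IsPGroup p L₀
    · have h1 : L₀ ≤ Cfsg.pCore p ↥M := Cfsg.Agent.Lib.Cores.le_pCore hL₀n hLs
      have hc : (Cfsg.pCore p ↥M).Characteristic := Cfsg.Agent.Lib.Cores.characteristic_of_map_le fun φ =>
        le_of_eq (Cfsg.Agent.Lib.Cores.map_pCore_equiv φ)
      have hPp := (Cfsg.Agent.Lib.Cores.pCore_isPGroup p ↥M).map M.subtype
      haveI := hPp.isNilpotent
      have h2 := hrad ((Cfsg.pCore p ↥M).map M.subtype) inferInstance inferInstance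
      rw [Subgroup.map_eq_bot_iff_of_injective _ M.subtype_injective] at h2
      exact hL₀1 (le_bot_iff.mp (h2 ▸ h1))
    · obtain ⟨q, hq, hqd, hqp⟩ : ∃ q, q.Prime ∧ q ∣ Nat.card ↥L₀ ∧ q ≠ p := by
        by_contra hc
        push_neg at hc
        exact hLs (IsPGroup.of_card (Nat.eq_prime_pow_of_unique_prime_dvd Nat.card_pos.ne'
          fun {d} hd hdd => hc d hd hdd))
      refine hqp (eq_of_commute_subgroups hp hq hpp (A := L') (B := L₁.map M.subtype) ?_ ?_ hcG).symm
      · rwa [hL', Subgroup.card_map_of_injective M.subtype_injective]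
      · rwa [hcardG]
  · by_contra hle
    have hinf : M ⊓ N = ⊥ := by
      by_contra h0
      exact hle ((hMmin ⟨inferInstance, h0⟩ inf_le_left).trans inf_le_right)
    obtain ⟨r, hr, hrd⟩ := Nat.exists_prime_and_dvd
      (fun e => hN1 (Subgroup.card_eq_one.mp e) : Nat.card ↥N ≠ 1)
    obtain ⟨q, hq, hqr, hqd⟩ := two hMs r hr
    exact hqr (eq_of_commute_subgroups hq hr hpp hqd hrd fun a ha b hb =>
      Subgroup.commute_of_normal_of_disjoint M N hMn hN (disjoint_iff.mpr hinf) a b ha hb)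

/-- Let G be a finite non-solvable group in which every element has prime-power order, and let R be its largest solvable normal subgroup. Then R is a p-group for some prime p; G/R has a non-abelian simple normal subgroup contained in every nontrivial normal subgroup of G/R (its unique minimal normal subgroup); and the order of every solvable subgroup of G has at most two prime divisors. -/
theorem result {G : Type*} [Group G] [Finite G] (hns : ¬ Group.IsSolvable G) (hpp : ∀ g : G, g ≠ 1 → IsPrimePow (orderOf g))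
    (R : Subgroup G) [R.Normal] (hRs : Group.IsSolvable ↥R) (hRmax : ∀ N : Subgroup G, N.Normal → Group.IsSolvable ↥N → N ≤ R) :
    (∃ p : ℕ, p.Prime ∧ IsPGroup p ↥R) ∧
      (∃ M : Subgroup (G ⧸ R), M.Normal ∧ IsSimpleGroup ↥M ∧ ¬ IsMulCommutative ↥M ∧
        ∀ N : Subgroup (G ⧸ R), N.Normal → N ≠ ⊥ → M ≤ N) ∧
      ∀ H : Subgroup G, Group.IsSolvable ↥H → (Nat.card ↥H).primeFactors.card ≤ 2 := by
  classical
  refine ⟨radical_isPGroup hns hpp R hRs, ?_, fun H hH => ?_⟩
  · have hsol : ∀ N : Subgroup (G ⧸ R), N.Normal → Group.IsSolvable ↥N → N = ⊥ := by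
      intro N hN hNs
      have h1 : Group.IsSolvable ↥(N.comap (QuotientGroup.mk' R)) := by
        haveI := hRs
        haveI := hNs
        refine Group.isSolvable_of_ker_le_range
          (Subgroup.inclusion (show R ≤ N.comap (QuotientGroup.mk' R) from fun x hx => by
            rw [Subgroup.mem_comap, show QuotientGroup.mk' R x = 1 from (QuotientGroup.eq_one_iff x).mpr hx]
            exact one_mem _))
          ((QuotientGroup.mk' R).subgroupComap N) ?_
        intro x hx
        exact ⟨⟨(x : G), (QuotientGroup.eq_one_iff _).mp (congrArg Subtype.val hx)⟩, rfl⟩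
      have h2 := hRmax _ (hN.comap _) h1
      rw [eq_bot_iff]
      intro q hq
      obtain ⟨x, rfl⟩ := QuotientGroup.mk'_surjective R q
      exact Subgroup.mem_bot.mpr ((QuotientGroup.eq_one_iff x).mpr (h2 hq))
    have : Nontrivial (G ⧸ R) := by
      by_contra hc
      rw [not_nontrivial_iff_subsingleton] at hc
      refine hns (Cfsg.Agent.Lib.Frobenius.FourOrbits.isSolvable_of_normal_of_quotient R hRs ?_)
      exact Group.isSolvable_of_comm fun a b => Subsingleton.elim _ _
    refine socle_simple ?_ hsol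
    intro g hg
    obtain ⟨x, rfl⟩ := QuotientGroup.mk'_surjective R g
    have hd : orderOf (QuotientGroup.mk' R x) ∣ orderOf x := orderOf_map_dvd _ x
    have hx : x ≠ 1 := fun e => hg (by rw [e, map_one])
    exact (hpp x hx).dvd hd (fun e => hg (orderOf_eq_one_iff.mp e))
  · haveI := hH
    refine S1475.result fun g => ?_
    rcases eq_or_ne g 1 with h | h
    · exact Or.inr h
    · refine Or.inl ?_
      rw [← Subgroup.orderOf_coe]
      exact hpp _ fun e => h (Subtype.ext e)

end Cfsg.Agent.S3992
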