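import Cfsg.Statements.S3994
import Cfsg.Agent.S3993

set_option autoImplicit false
open Cfsg

namespace Cfsg.Agent.S3994

theorem count_aux {G : Type*} [Group G] [Finite G] (n L : ℕ) (hL : ∀ p ∈ n.primeFactors, p.Coprime L)
    (hLN : L ∣ Nat.card G) (S : Finset ℕ) (hS : S ⊆ n.primeFactors) :
    ∀ d : ℕ, L ∣ d → d ∣ Nat.card G →
      L ∣ Nat.card {g : G // g ^ d = 1 ∧ ∀ p ∈ S, p ^ n.factorization p ∣ orderOf g} := by
  classical
  haveI := Fintype.ofFinite G
  induction S using Finset.induction with
  | empty =>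
    intro d hLd hd
    refine hLd.trans ?_
    have h := Cfsg.Agent.S3993.gcd_dvd_card (G := G) d
    rw [Nat.gcd_eq_left hd] at h
    refine h.trans (dvd_of_eq (Nat.card_congr (Equiv.subtypeEquivRight fun g => ?_)))
    simp
  | insert a S ha ih =>
    intro d hLd hd
    obtain ⟨haP, hSP⟩ := Finset.insert_subset_iff.mp hS
    have hap := Nat.prime_of_mem_primeFactors haP
    set b := n.factorization a
    have hb : 1 ≤ b := Nat.Prime.factorization_pos_of_dvd hap (Nat.mem_primeFactors.mp haP).2.2
      (Nat.dvd_of_mem_primeFactors haP)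
    set N' := Nat.card G / a ^ (Nat.card G).factorization a * a ^ (b - 1)
    set d' := Nat.gcd d N'
    have hLd' : L ∣ d' := Nat.dvd_gcd hLd (Dvd.dvd.mul_right
      ((Nat.Coprime.pow_left _ (hL a haP)).symm.dvd_of_dvd_mul_left
        (by rw [Nat.ordProj_mul_ordCompl_eq_self]; exact hLN)) _)
    have hN0 : Nat.card G / a ^ (Nat.card G).factorization a ≠ 0 :=
      (Nat.ordCompl_pos a Nat.card_pos.ne').ne'
    have hiff : ∀ g : G, g ^ d = 1 → (g ^ d' = 1 ↔ ¬ a ^ b ∣ orderOf g) := by
      intro g hg
      rw [← orderOf_dvd_iff_pow_eq_one] at hg ⊢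
      constructor
      · intro h hab
        have h1 : a ^ b ∣ N' := (hab.trans h).trans (Nat.gcd_dvd_right _ _)
        rw [Nat.Prime.pow_dvd_iff_le_factorization hap (Nat.mul_ne_zero hN0 (pow_ne_zero _ hap.ne_zero)),
          Nat.factorization_mul hN0 (pow_ne_zero _ hap.ne_zero), Finsupp.add_apply,
          Nat.factorization_ordCompl, Finsupp.erase_same, hap.factorization_pow,
          Finsupp.single_eq_same] at h1
        omega
      · intro hab
        refine Nat.dvd_gcd hg ((Nat.factorization_le_iff_dvd (orderOf_pos g).ne'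
          (Nat.mul_ne_zero hN0 (pow_ne_zero _ hap.ne_zero))).mp fun q => ?_)
        rw [Nat.factorization_mul hN0 (pow_ne_zero _ hap.ne_zero), Finsupp.add_apply,
          Nat.factorization_ordCompl, hap.factorization_pow]
        by_cases hq : q = a
        · subst hq
          rw [Nat.Prime.pow_dvd_iff_le_factorization hap (orderOf_pos g).ne'] at hab
          rw [Finsupp.erase_same, Finsupp.single_eq_same]
          omega
        · rw [Finsupp.erase_ne hq, Finsupp.single_eq_of_ne hq, add_zero]
          exact (Nat.factorization_le_iff_dvd (orderOf_pos g).ne' Nat.card_pos.ne').mpr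
            (orderOf_dvd_natCard g) q
    have h1 := ih hSP d hLd hd
    have h2 := ih hSP d' hLd' ((Nat.gcd_dvd_left _ _).trans hd)
    rw [Nat.card_eq_fintype_card, Fintype.card_subtype] at h1 h2 ⊢
    have hsplit := Finset.card_filter_add_card_filter_not
      (s := (Finset.univ : Finset G).filter fun g => g ^ d = 1 ∧ ∀ p ∈ S, p ^ n.factorization p ∣ orderOf g)
      (fun g : G => g ^ d' = 1)
    rw [Finset.filter_filter, Finset.filter_filter] at hsplit
    have e1 : (Finset.univ.filter fun g : G =>
        (g ^ d = 1 ∧ ∀ p ∈ S, p ^ n.factorization p ∣ orderOf g) ∧ g ^ d' = 1) =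
        Finset.univ.filter fun g : G => g ^ d' = 1 ∧ ∀ p ∈ S, p ^ n.factorization p ∣ orderOf g := by
      refine Finset.filter_congr fun g _ => ⟨fun h => ⟨h.2, h.1.2⟩, fun h => ⟨⟨?_, h.2⟩, h.1⟩⟩
      obtain ⟨c, hc⟩ := Nat.gcd_dvd_left d N'
      rw [hc, pow_mul, h.1, one_pow]
    have e2 : (Finset.univ.filter fun g : G =>
        (g ^ d = 1 ∧ ∀ p ∈ S, p ^ n.factorization p ∣ orderOf g) ∧ ¬ g ^ d' = 1) =
        Finset.univ.filter fun g : G =>
          g ^ d = 1 ∧ ∀ p ∈ insert a S, p ^ n.factorization p ∣ orderOf g := by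
      refine Finset.filter_congr fun g _ => ⟨fun h => ⟨h.1.1, Finset.forall_mem_insert _ _ _ |>.mpr
        ⟨not_not.mp ((not_congr (hiff g h.1.1)).mp h.2), h.1.2⟩⟩, fun h => ?_⟩
      obtain ⟨ha', hS'⟩ := (Finset.forall_mem_insert _ _ _).mp h.2
      exact ⟨⟨h.1, hS'⟩, fun h3 => (hiff g h.1).mp h3 ha'⟩
    rw [e1, e2] at hsplit
    exact (Nat.dvd_add_iff_right h2).mpr (hsplit ▸ h1)

/-- Let G be a finite group and n a positive integer. The number of elements of G whose order is divisible by n is either 0 or divisible by the largest divisor of the order of G that is coprime to n. -/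
theorem result {G : Type*} [Group G] [Finite G] (n : ℕ) (hn : 0 < n) :
    Nat.card {g : G // n ∣ orderOf g} = 0 ∨
      (Nat.card G / Nat.gcd (Nat.card G) (n ^ Nat.card G)) ∣ Nat.card {g : G // n ∣ orderOf g} := by
  classical
  right
  set N := Nat.card G
  have hg0 : Nat.gcd N (n ^ N) ≠ 0 := (Nat.gcd_pos_of_pos_left _ Nat.card_pos).ne'
  set L := N / Nat.gcd N (n ^ N)
  have hL : L ∣ N := Nat.div_dvd_of_dvd (Nat.gcd_dvd_left _ _)
  have hcop : ∀ p ∈ n.primeFactors, p.Coprime L := by
    intro p hp
    have hpp := Nat.prime_of_mem_primeFactors hp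
    refine (Nat.Prime.coprime_iff_not_dvd hpp).mpr fun hd => ?_
    have h1 : 1 ≤ L.factorization p := Nat.Prime.factorization_pos_of_dvd hpp
      (ne_zero_of_dvd_ne_zero Nat.card_pos.ne' hL) hd
    rw [Nat.factorization_div (Nat.gcd_dvd_left _ _), Finsupp.tsub_apply,
      Nat.factorization_gcd Nat.card_pos.ne' (pow_ne_zero _ hn.ne'), Finsupp.inf_apply,
      Nat.factorization_pow, Finsupp.smul_apply, smul_eq_mul] at h1
    have hnp : 1 ≤ n.factorization p :=
      Nat.Prime.factorization_pos_of_dvd hpp hn.ne' (Nat.dvd_of_mem_primeFactors hp)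
    have h2 : N.factorization p ≤ N := (Nat.factorization_lt p Nat.card_pos.ne').le
    have h3 : N ≤ N * n.factorization p := Nat.le_mul_of_pos_right _ hnp
    have h4 : min (N.factorization p) (N * n.factorization p) = N.factorization p :=
      min_eq_left (h2.trans h3)
    rw [h4] at h1
    omega
  have h := count_aux (G := G) n L hcop hL n.primeFactors subset_rfl N hL dvd_rfl
  refine h.trans (dvd_of_eq (Nat.card_congr (Equiv.subtypeEquivRight fun g => ?_)))
  constructor
  · intro hg
    refine (Nat.factorization_le_iff_dvd hn.ne' (orderOf_pos g).ne').mp fun p => ?_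
    by_cases hp : p ∈ n.primeFactors
    · exact (Nat.Prime.pow_dvd_iff_le_factorization (Nat.prime_of_mem_primeFactors hp)
        (orderOf_pos g).ne').mp (hg.2 p hp)
    · rw [← Nat.support_factorization, Finsupp.notMem_support_iff] at hp
      rw [hp]; exact Nat.zero_le _
  · exact fun hg => ⟨pow_card_eq_one', fun p _ => (Nat.ordProj_dvd n p).trans hg⟩

end Cfsg.Agent.S3994
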