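import Cfsg.Statements.S3995
import Cfsg.Agent.S3993
import Cfsg.Agent.Lib.Frobenius.UniqueSubgroup
import Mathlib.GroupTheory.SpecificGroups.Quaternion
import Mathlib.GroupTheory.NoncommCoprod
import Mathlib.Tactic

set_option autoImplicit false
open Cfsg

namespace Cfsg.Agent.S3995

open Cfsg.Agent.Lib

/-- The number of elements of order `m`. -/
noncomputable def cnt (G : Type*) [Group G] (m : ℕ) : ℕ := Nat.card {g : G // orderOf g = m}

variable {G : Type*} [Group G] [Finite G]

theorem card_pow_prime_succ {p : ℕ} (hp : p.Prime) (k : ℕ) :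
    Nat.card {g : G // g ^ p ^ (k + 1) = 1} = Nat.card {g : G // g ^ p ^ k = 1} + cnt G (p ^ (k + 1)) := by
  classical
  haveI := Fintype.ofFinite G
  simp only [cnt, Nat.card_eq_fintype_card, Fintype.card_subtype]
  rw [← Finset.card_union_of_disjoint]
  · congr 1
    ext g
    simp only [Finset.mem_filter, Finset.mem_univ, true_and, Finset.mem_union,
      ← orderOf_dvd_iff_pow_eq_one]
    constructor
    · intro h
      obtain ⟨j, hj, hg⟩ := (Nat.dvd_prime_pow hp).mp h
      rcases Nat.lt_or_ge j (k + 1) with h' | h'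
      · exact Or.inl (hg ▸ pow_dvd_pow p (Nat.lt_succ_iff.mp h'))
      · exact Or.inr (by rw [hg, le_antisymm hj h'])
    · rintro (h | h)
      · exact h.trans (pow_dvd_pow p (Nat.le_succ k))
      · exact dvd_of_eq h
  · refine Finset.disjoint_filter.mpr fun g _ h1 h2 => ?_
    rw [← orderOf_dvd_iff_pow_eq_one, h2, Nat.pow_dvd_pow_iff_le_right hp.one_lt] at h1
    omega

theorem card_pow_one : Nat.card {g : G // g ^ 1 = 1} = 1 := by
  rw [Nat.card_eq_one_iff_unique]
  exact ⟨⟨fun a b => Subtype.ext ((pow_one a.1 ▸ a.2).trans (pow_one b.1 ▸ b.2).symm)⟩, ⟨⟨1, one_pow 1⟩⟩⟩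

theorem card_pow_prime {p : ℕ} (hp : p.Prime) :
    Nat.card {g : G // g ^ p = 1} = 1 + cnt G p := by
  have := card_pow_prime_succ (G := G) hp 0
  simpa [card_pow_one] using this

theorem exists_order_of_dvd {g : G} {d : ℕ} (h : d ∣ orderOf g) : ∃ x : G, orderOf x = d :=
  ⟨g ^ (orderOf g / d), orderOf_pow_orderOf_div (orderOf_pos g).ne' h⟩

/-- Let G be a finite group such that the numbers of elements of each order that occurs in G (the numbers #{g : o(g) = m}, m ranging over the element orders of G) take exactly two values, 1 and some n ≠ 1. Then either G is a p-group of exponent p and order at least 3 for some prime p, or G is the quaternion group of order 8, or G is cyclic of order 4, or G ≅ Z₂ × P for a p-group P of exponent p with p an odd prime. -/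
theorem result {G : Type*} [Group G] [Finite G] (n : ℕ) (hn : n ≠ 1) (h : ((fun m : ℕ => Nat.card {g : G // orderOf g = m}) '' Set.range (orderOf : G → ℕ)) = {1, n}) :
    (∃ p : ℕ, p.Prime ∧ IsPGroup p G ∧ 3 ≤ Nat.card G ∧ Monoid.exponent G = p) ∨
      Nonempty (G ≃* QuaternionGroup 2) ∨ (IsCyclic G ∧ Nat.card G = 4) ∨
      (∃ (p : ℕ) (P : Type) (_ : Group P) (_ : Finite P), p.Prime ∧ p ≠ 2 ∧ IsPGroup p P ∧ Monoid.exponent P = p ∧
        Nonempty (G ≃* Multiplicative (ZMod 2) × P)) := by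
  classical
  haveI := Fintype.ofFinite G
  have hdich : ∀ x : G, cnt G (orderOf x) = 1 ∨ cnt G (orderOf x) = n := fun x => by
    have : cnt G (orderOf x) ∈ ({1, n} : Set ℕ) := h ▸ ⟨orderOf x, ⟨x, rfl⟩, rfl⟩
    simpa using this
  have hge2 : ∀ x : G, 3 ≤ orderOf x → cnt G (orderOf x) = n := by
    intro x hx
    refine (hdich x).resolve_left fun h1 => ?_
    obtain ⟨hs, -⟩ := Nat.card_eq_one_iff_unique.mp h1
    have := congrArg Subtype.val (@Subsingleton.elim _ hs ⟨x, rfl⟩ ⟨x⁻¹, orderOf_inv x⟩)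
    have h2 : orderOf x ∣ 2 := orderOf_dvd_of_pow_eq_one (by
      rw [sq]; exact mul_eq_one_iff_eq_inv.mpr this)
    exact absurd (Nat.le_of_dvd two_pos h2) (by omega)
  have hn0 : n ≠ 0 := by
    obtain ⟨m, ⟨x, rfl⟩, hx⟩ : n ∈ (fun m : ℕ => Nat.card {g : G // orderOf g = m}) '' Set.range (orderOf : G → ℕ) := by
      rw [h]; exact Or.inr rfl
    rintro rfl
    haveI : Nonempty {g : G // orderOf g = orderOf x} := ⟨⟨x, rfl⟩⟩
    exact (Nat.card_pos (α := {g : G // orderOf g = orderOf x})).ne' hx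
  by_cases hbig : ∀ x : G, orderOf x < 3
  · left
    have h2 : ∀ x : G, x ^ 2 = 1 := fun x => by
      have := hbig x
      have := orderOf_pos x
      rcases (show orderOf x = 1 ∨ orderOf x = 2 by omega) with h1 | h1
      · rw [orderOf_eq_one_iff.mp h1, one_pow]
      · rw [← h1]; exact pow_orderOf_eq_one x
    obtain ⟨x, hx⟩ : ∃ x : G, cnt G (orderOf x) = n := by
      obtain ⟨m, ⟨x, rfl⟩, hx⟩ : n ∈ (fun m : ℕ => Nat.card {g : G // orderOf g = m}) '' Set.range (orderOf : G → ℕ) := by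
        rw [h]; exact Or.inr rfl
      exact ⟨x, hx⟩
    obtain ⟨⟨a, ha⟩, ⟨b, hb⟩, hab⟩ := (Finite.one_lt_card_iff_nontrivial.mp
      (show 1 < Nat.card {g : G // orderOf g = orderOf x} by
        show 1 < cnt G (orderOf x)
        omega)).exists_pair_ne
    have hab' : a ≠ b := fun e => hab (Subtype.ext e)
    have ha1 : a ≠ 1 := by
      rintro rfl
      rw [orderOf_one] at ha
      rw [← ha, orderOf_eq_one_iff] at hb
      exact hab' hb.symm
    have hb1 : b ≠ 1 := by
      rintro rfl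
      rw [orderOf_one] at hb
      rw [← hb, orderOf_eq_one_iff] at ha
      exact hab' ha
    refine ⟨2, Nat.prime_two, fun g => ⟨1, by rw [pow_one]; exact h2 g⟩, ?_, ?_⟩
    · calc 3 = ({1, a, b} : Finset G).card := by simp [Ne.symm ha1, Ne.symm hb1, hab']
        _ ≤ _ := by rw [Nat.card_eq_fintype_card]; exact Finset.card_le_univ _
    · refine ((Nat.dvd_prime Nat.prime_two).mp (Monoid.exponent_dvd_iff_forall_pow_eq_one.mpr h2)).resolve_left
        fun h1 => ha1 ?_
      haveI := Monoid.exp_eq_one_iff.mp h1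
      exact Subsingleton.elim _ _
  push Not at hbig
  obtain ⟨x0, hx0⟩ := hbig
  have hne : 2 ∣ n := by
    rw [← hge2 x0 hx0]
    exact (even_iff_two_dvd.mp (Nat.totient_even hx0)).trans (S3993.totient_dvd_card_orderOf _)
  have hodd : ∀ p : ℕ, p.Prime → p ≠ 2 → p ∣ Nat.card G → ∀ g : G, ¬ p ^ 2 ∣ orderOf g := by
    intro p hp hp2 hpG g hg
    haveI := Fact.mk hp
    have hp3 : 3 ≤ p := by have := hp.two_le; omega
    obtain ⟨u, hu⟩ := exists_prime_orderOf_dvd_card' p hpG
    obtain ⟨w, hw⟩ := exists_order_of_dvd hg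
    have h1 : cnt G p = n := hu ▸ hge2 u (hu ▸ hp3)
    have h2 : cnt G (p ^ 2) = n := hw ▸ hge2 w (by rw [hw]; nlinarith)
    have d1 : p ∣ 1 + n := by
      have := S3993.gcd_dvd_card (G := G) p
      rwa [Nat.gcd_eq_left hpG, card_pow_prime hp, h1] at this
    have d2 : p ^ 2 ∣ 1 + n + n := by
      have := S3993.gcd_dvd_card (G := G) (p ^ 2)
      rwa [Nat.gcd_eq_left (hg.trans (orderOf_dvd_natCard g)), card_pow_prime_succ hp 1, pow_one,
        card_pow_prime hp, h1, h2] at this
    have d3 : p ∣ n := (Nat.dvd_add_right d1).mp ((dvd_pow_self p two_ne_zero).trans d2)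
    have d4 : p ∣ 1 := (Nat.dvd_add_left d3).mp d1
    exact hp.one_lt.ne' (Nat.dvd_one.mp d4)
  set M := ordCompl[2] (Nat.card G) with hMdef
  obtain ⟨c, hc⟩ : ∃ c, c = (Nat.card G).factorization 2 := ⟨_, rfl⟩
  have hcard : Nat.card G = 2 ^ c * M := by rw [hc, hMdef, Nat.ordProj_mul_ordCompl_eq_self]
  have hM2 : ¬ 2 ∣ M := Nat.not_dvd_ordCompl Nat.prime_two Nat.card_pos.ne'
  have hM0 : 0 < M := Nat.ordCompl_pos 2 Nat.card_pos.ne'
  have hMdvd : M ∣ n + 1 := by
    rw [← Nat.factorization_le_iff_dvd hM0.ne' (Nat.succ_ne_zero n)]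
    intro p
    by_cases hpp : p.Prime ∧ p ∣ M
    swap
    · rw [Nat.factorization_eq_zero_iff _ _ |>.mpr (by tauto)]; exact Nat.zero_le _
    obtain ⟨hp, hpM⟩ := hpp
    haveI := Fact.mk hp
    have hp2 : p ≠ 2 := fun e => hM2 (e ▸ hpM)
    have hp3 : 3 ≤ p := by have := hp.two_le; omega
    have hpG : p ∣ Nat.card G := hcard ▸ hpM.trans (dvd_mul_left _ _)
    obtain ⟨u, hu⟩ := exists_prime_orderOf_dvd_card' p hpG
    have h1 : cnt G p = n := hu ▸ hge2 u (hu ▸ hp3)
    obtain ⟨a, ha⟩ : ∃ a, a = M.factorization p := ⟨_, rfl⟩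
    rw [← ha, ← hp.pow_dvd_iff_le_factorization (Nat.succ_ne_zero n)]
    show p ^ a ∣ n + 1
    rw [Nat.add_comm]
    have := S3993.gcd_dvd_card (G := G) (p ^ a)
    rw [Nat.gcd_eq_left (hcard ▸ ((ha ▸ Nat.ordProj_dvd M p).trans (dvd_mul_left _ _))),
      show Nat.card {g : G // g ^ p ^ a = 1} = Nat.card {g : G // g ^ p = 1} from
        Nat.card_congr (Equiv.subtypeEquivRight fun g => by
          rw [← orderOf_dvd_iff_pow_eq_one, ← orderOf_dvd_iff_pow_eq_one]
          constructor
          · intro hg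
            obtain ⟨j, -, hj⟩ := (Nat.dvd_prime_pow hp).mp hg
            rcases Nat.lt_or_ge j 2 with h' | h'
            · exact hj ▸ (pow_dvd_pow p (Nat.lt_succ_iff.mp h')).trans (by rw [pow_one])
            · exact absurd (hj ▸ pow_dvd_pow p h') (hodd p hp hp2 hpG g)
          · exact fun hg => hg.trans (dvd_pow_self p (ha ▸ (hp.factorization_pos_of_dvd hM0.ne' hpM).ne'))),
      card_pow_prime hp, h1] at this
    exact this
  set O := (Finset.univ.filter fun g : G => 3 ≤ orderOf g).image orderOf with hO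
  have hO' : ∀ g : G, 3 ≤ orderOf g → orderOf g ∈ O := fun g hg =>
    Finset.mem_image.mpr ⟨g, Finset.mem_filter.mpr ⟨Finset.mem_univ _, hg⟩, rfl⟩
  have hK1 : 1 ≤ O.card := Finset.card_pos.mpr ⟨_, hO' x0 hx0⟩
  have hfib : (Finset.univ.filter fun g : G => 3 ≤ orderOf g).card = O.card * n := by
    rw [Finset.card_eq_sum_card_image orderOf, ← hO, Finset.sum_const_nat]
    intro m hm
    obtain ⟨g, hg, rfl⟩ := Finset.mem_image.mp hm
    have hg3 := (Finset.mem_filter.mp hg).2
    rw [← hge2 g hg3, cnt, Nat.card_eq_fintype_card, Fintype.card_subtype, Finset.filter_filter]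
    congr 1
    exact Finset.filter_congr fun y _ => ⟨fun hy => hy.2, fun hy => ⟨hy ▸ hg3, hy⟩⟩
  have hsum : Nat.card {g : G // g ^ 2 = 1} + n * O.card = Nat.card G := by
    rw [Nat.card_eq_fintype_card, Nat.card_eq_fintype_card, Fintype.card_subtype, ← Finset.card_univ,
      ← Finset.card_filter_add_card_filter_not (s := (Finset.univ : Finset G)) (fun g : G => g ^ 2 = 1)]
    congr 1
    rw [show (Finset.univ.filter fun g : G => ¬ g ^ 2 = 1) = Finset.univ.filter fun g : G => 3 ≤ orderOf g from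
      Finset.filter_congr fun g _ => by
        rw [← orderOf_dvd_iff_pow_eq_one]
        constructor
        · intro hg
          by_contra hlt
          have := orderOf_pos g
          rcases (show orderOf g = 1 ∨ orderOf g = 2 by omega) with h1 | h1 <;> exact hg (by simp [h1])
        · intro hg hd
          have := Nat.le_of_dvd two_pos hd
          omega,
      hfib, mul_comm]
  rw [card_pow_prime Nat.prime_two] at hsum
  rcases Nat.eq_zero_or_pos c with hc0 | hcpos
  · -- odd order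
    have hGM : Nat.card G = M := by rw [hcard, hc0, pow_zero, one_mul]
    have hc2 : cnt G 2 = 0 := by
      rw [cnt, Nat.card_eq_zero]
      exact Or.inl ⟨fun g => hM2 (hGM ▸ g.2 ▸ orderOf_dvd_natCard g.1)⟩
    rw [hc2, hGM] at hsum
    obtain ⟨w, hw⟩ := hMdvd
    have hnK : n ≤ n * O.card := Nat.le_mul_of_pos_right n hK1
    have hwM : M ≤ n + 1 := Nat.le_of_dvd (Nat.succ_pos n) ⟨w, hw⟩
    have hO1 : O.card = 1 := by
      refine le_antisymm ?_ hK1
      refine Nat.le_of_mul_le_mul_left (?_ : n * O.card ≤ n * 1) (Nat.pos_of_ne_zero hn0)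
      omega
    obtain ⟨m, hm⟩ := Finset.card_eq_one.mp hO1
    obtain ⟨p, hp, hpG⟩ := Nat.exists_prime_and_dvd (show Nat.card G ≠ 1 by
      have := Nat.le_of_dvd Nat.card_pos (orderOf_dvd_natCard x0)
      omega)
    haveI := Fact.mk hp
    have hp2 : p ≠ 2 := fun e => hM2 (hGM ▸ e ▸ hpG)
    have hp3 : 3 ≤ p := by have := hp.two_le; omega
    obtain ⟨u, hu⟩ := exists_prime_orderOf_dvd_card' p hpG
    have hmp : m = p := by
      have := hO' u (hu ▸ hp3)
      rw [hm, Finset.mem_singleton, hu] at this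
      exact this.symm
    have hexp : ∀ g : G, g ^ p = 1 := by
      intro g
      rcases Nat.lt_or_ge (orderOf g) 3 with h3 | h3
      · have : orderOf g ≠ 2 := fun e => hM2 (hGM ▸ e ▸ orderOf_dvd_natCard g)
        have := orderOf_pos g
        rw [orderOf_eq_one_iff.mp (show orderOf g = 1 by omega), one_pow]
      · have := hO' g h3
        rw [hm, Finset.mem_singleton, hmp] at this
        rw [← this]; exact pow_orderOf_eq_one g
    refine Or.inl ⟨p, hp, fun g => ⟨1, by rw [pow_one]; exact hexp g⟩, ?_, ?_⟩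
    · have := Nat.le_of_dvd Nat.card_pos (orderOf_dvd_natCard x0)
      omega
    · refine ((Nat.dvd_prime hp).mp (Monoid.exponent_dvd_iff_forall_pow_eq_one.mpr hexp)).resolve_left fun h1 => ?_
      have h2 := Monoid.order_dvd_exponent x0
      rw [h1, Nat.dvd_one] at h2
      omega
  -- even order
  haveI := Fact.mk Nat.prime_two
  have h2G : 2 ∣ Nat.card G := hcard ▸ (dvd_pow_self 2 hcpos.ne').trans (dvd_mul_right _ _)
  obtain ⟨z, hz⟩ := exists_prime_orderOf_dvd_card' 2 h2G
  have hc2 : cnt G 2 = 1 := by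
    have := S3993.gcd_dvd_card (G := G) 2
    rw [Nat.gcd_eq_left h2G, card_pow_prime Nat.prime_two] at this
    rcases hdich z with h1 | h1 <;> rw [hz] at h1
    · exact h1
    · omega
  have huniq : ∀ a : G, orderOf a = 2 → a = z := by
    intro a ha
    obtain ⟨hs, -⟩ := Nat.card_eq_one_iff_unique.mp hc2
    exact congrArg Subtype.val (@Subsingleton.elim _ hs ⟨a, ha⟩ ⟨z, hz⟩)
  have hzc : ∀ g : G, g * z = z * g := fun g =>
    mul_inv_eq_iff_eq_mul.mp (huniq _ (((MulAut.conj g).orderOf_eq z).trans hz))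
  rw [hc2, hcard] at hsum
  obtain ⟨w, hw⟩ := hMdvd
  have hw0 : 0 < w := Nat.pos_of_ne_zero fun e => by rw [e, mul_zero] at hw; omega
  rcases (show c = 1 ∨ 2 ≤ c by omega) with rfl | hc2le
  · -- `2 M`
    rw [pow_one] at hsum hcard
    have hnK : n ≤ n * O.card := Nat.le_mul_of_pos_right n hK1
    have hw1 : w = 1 := by
      by_contra hw1
      have : M * 2 ≤ M * w := Nat.mul_le_mul_left M (by omega)
      omega
    rw [hw1, mul_one] at hw
    have hO2 : O.card = 2 := by
      refine Nat.eq_of_mul_eq_mul_left (Nat.pos_of_ne_zero hn0) ?_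
      omega
    obtain ⟨p, hp, hpM⟩ := Nat.exists_prime_and_dvd (show M ≠ 1 by omega)
    haveI := Fact.mk hp
    have hpG : p ∣ Nat.card G := hcard ▸ hpM.trans (dvd_mul_left _ _)
    have hp2 : p ≠ 2 := fun e => hM2 (e ▸ hpM)
    have hp3 : 3 ≤ p := by have := hp.two_le; omega
    have hzq : ∀ q : ℕ, q.Prime → q ≠ 2 → q ∣ Nat.card G → q ∈ O ∧ 2 * q ∈ O := by
      intro q hq hq2 hqG
      haveI := Fact.mk hq
      have hq3 : 3 ≤ q := by have := hq.two_le; omega
      obtain ⟨u, hu⟩ := exists_prime_orderOf_dvd_card' q hqG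
      refine ⟨hu ▸ hO' u (hu ▸ hq3), ?_⟩
      have h2 : orderOf (z * u) = 2 * q := by
        rw [(Commute.symm (hzc u : Commute u z)).orderOf_mul_eq_mul_orderOf_of_coprime (by
          rw [hz, hu]; exact (Nat.coprime_primes Nat.prime_two hq).mpr (Ne.symm hq2)), hz, hu]
      exact h2 ▸ hO' _ (by rw [h2]; omega)
    obtain ⟨hpO, hpO2⟩ := hzq p hp hp2 hpG
    have hOeq : ({p, 2 * p} : Finset ℕ) = O := Finset.eq_of_subset_of_card_le
      (by intro t; simp only [Finset.mem_insert, Finset.mem_singleton]; rintro (rfl | rfl) <;> assumption)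
      (by rw [hO2, Finset.card_pair (by omega)])
    have honly : ∀ q : ℕ, q.Prime → q ∣ M → q = p := by
      intro q hq hqM
      have hq2 : q ≠ 2 := fun e => hM2 (e ▸ hqM)
      have h1 := (hzq q hq hq2 (hcard ▸ hqM.trans (dvd_mul_left _ _))).1
      rw [← hOeq, Finset.mem_insert, Finset.mem_singleton] at h1
      refine h1.resolve_right fun e => ?_
      have : (2 * p).Prime := e ▸ hq
      exact Nat.not_prime_mul (by omega) hp.one_lt.ne' this
    obtain ⟨P⟩ : Nonempty (Sylow p G) := inferInstance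
    have hMp : M = p ^ M.factorization p := by
      conv_lhs => rw [← Nat.prod_factorization_pow_eq_self hM0.ne']
      rw [Finsupp.prod, Finset.prod_eq_single p]
      · intro q hq hne
        rw [Nat.support_factorization] at hq
        exact absurd (honly q (Nat.prime_of_mem_primeFactors hq) (Nat.dvd_of_mem_primeFactors hq)) hne
      · intro h1
        rw [Finsupp.notMem_support_iff.mp h1, pow_zero]
    have hPcard : Nat.card (P : Subgroup G) = M := by
      rw [P.card_eq_multiplicity, hcard, Nat.factorization_mul two_ne_zero hM0.ne', Finsupp.add_apply,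
        Nat.prime_two.factorization, Finsupp.single_eq_of_ne hp2, zero_add, ← hMp]
    have hexp : ∀ g : (P : Subgroup G), g ^ p = 1 := by
      intro g
      obtain ⟨j, hj⟩ := (IsPGroup.iff_orderOf.mp P.isPGroup') g
      refine orderOf_dvd_iff_pow_eq_one.mp (hj ▸ ?_)
      rcases Nat.lt_or_ge j 2 with h' | h'
      · exact (pow_dvd_pow p (Nat.lt_succ_iff.mp h')).trans (by rw [pow_one])
      · exfalso
        refine hodd p hp hp2 hpG g ?_
        rw [Subgroup.orderOf_coe, hj]; exact pow_dvd_pow p h'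
    obtain ⟨k, hk⟩ : ∃ k, k = Nat.card (P : Subgroup G) := ⟨_, rfl⟩
    let eP : {i : ℕ // i < k} ≃ (P : Subgroup G) := Fin.equivSubtype.symm.trans ((finCongr hk).trans (Finite.equivFin _).symm)
    letI iG : Group {i : ℕ // i < k} := eP.group
    let mP : {i : ℕ // i < k} ≃* (P : Subgroup G) := { eP with map_mul' := fun a b => eP.apply_symm_apply (eP a * eP b) }
    haveI : Finite {i : ℕ // i < k} := Finite.of_equiv _ eP.symm
    refine Or.inr (Or.inr (Or.inr ⟨p, {i : ℕ // i < k}, iG, inferInstance, hp, hp2, ?_, ?_, ?_⟩))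
    · exact fun g => ⟨1, by rw [pow_one]; exact mP.injective (by rw [map_pow, map_one, hexp])⟩
    · refine ((Nat.dvd_prime hp).mp (Monoid.exponent_dvd_iff_forall_pow_eq_one.mpr fun g =>
        mP.injective (by rw [map_pow, map_one, hexp]))).resolve_left fun h1 => ?_
      haveI := Monoid.exp_eq_one_iff.mp h1
      have : k ≤ 1 := by
        rw [hk, ← Nat.card_congr eP]; exact Finite.card_le_one_iff_subsingleton.mpr inferInstance
      omega
    · let ez : Multiplicative (ZMod 2) ≃* Subgroup.zpowers z :=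
        mulEquivOfCyclicCardEq (by rw [Nat.card_zpowers, hz, ← Nat.card_congr Multiplicative.ofAdd, Nat.card_zmod])
      have hcomm : ∀ (a : Subgroup.zpowers z) (b : (P : Subgroup G)), Commute ((Subgroup.zpowers z).subtype a)
          ((P : Subgroup G).subtype b) := by
        rintro ⟨a, ha⟩ b
        obtain ⟨i, rfl⟩ := Subgroup.mem_zpowers_iff.mp ha
        exact (Commute.symm (hzc b : Commute (b : G) z)).zpow_left i
      let φ := MonoidHom.noncommCoprod _ _ hcomm
      have hφ : Function.Injective φ := by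
        rw [injective_iff_map_eq_one]
        rintro ⟨a, b⟩ hab
        have h1 : (a : G) * (b : G) = 1 := hab
        have ha : (a : G) = 1 := Subgroup.mem_bot.mp ((Subgroup.inf_eq_bot_of_coprime
          (H := Subgroup.zpowers z) (K := (P : Subgroup G)) (by
            rw [Nat.card_zpowers, hz, hPcard]; exact (Nat.prime_two.coprime_iff_not_dvd.mpr hM2))).le
          ⟨a.2, by rw [eq_inv_of_mul_eq_one_left h1]; exact Subgroup.inv_mem _ b.2⟩)
        rw [ha, one_mul] at h1
        exact Prod.ext (Subtype.ext ha) (Subtype.ext h1)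
      have hbij : Function.Bijective φ := by
        refine (Nat.bijective_iff_injective_and_card _).mpr ⟨hφ, ?_⟩
        rw [Nat.card_prod, Nat.card_zpowers, hz, hPcard, hcard]
      exact ⟨(MulEquiv.ofBijective φ hbij).symm.trans (ez.symm.prodCongr mP.symm)⟩
  -- `4 ∣ |G|`
  obtain ⟨S⟩ : Nonempty (Sylow 2 G) := inferInstance
  have hScard : Nat.card (S : Subgroup G) = 2 ^ c := by rw [S.card_eq_multiplicity, ← hc]
  have h4le : 4 ≤ 2 ^ c := le_trans (by norm_num) (Nat.pow_le_pow_right two_pos hc2le)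
  obtain ⟨g4, hg4⟩ : ∃ g : G, orderOf g = 4 := by
    by_contra hno
    push Not at hno
    have hsub : Nat.card (S : Subgroup G) ≤ Nat.card {g : G // g ^ 2 = 1} := by
      refine Nat.card_le_card_of_injective (fun s => ⟨(s : G), ?_⟩) fun a b e =>
        Subtype.ext (congrArg (fun t : {g : G // g ^ 2 = 1} => (t : G)) e)
      obtain ⟨j, hj⟩ := (IsPGroup.iff_orderOf.mp S.isPGroup') s
      rw [← Subgroup.orderOf_coe] at hj
      refine orderOf_dvd_iff_pow_eq_one.mp ?_
      rcases Nat.lt_or_ge j 2 with h' | h'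
      · rw [hj]; exact (pow_dvd_pow 2 (Nat.lt_succ_iff.mp h')).trans (by rw [pow_one])
      · obtain ⟨x, hx⟩ := exists_order_of_dvd (g := (s : G)) (d := 4) (by
          rw [hj]; exact pow_dvd_pow 2 h')
        exact absurd hx (hno x)
    rw [hScard, card_pow_prime Nat.prime_two, hc2] at hsub
    omega
  have hn4 : cnt G 4 = n := hg4 ▸ hge2 g4 (by omega)
  have hq4 : Nat.card {g : G // g ^ 4 = 1} = 2 + n := by
    rw [show (4 : ℕ) = 2 ^ (1 + 1) from rfl, card_pow_prime_succ Nat.prime_two 1, pow_one,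
      card_pow_prime Nat.prime_two, hc2, show (2 : ℕ) ^ (1 + 1) = 4 from rfl, hn4]
  have h4G : 4 ∣ Nat.card G := hg4 ▸ orderOf_dvd_natCard g4
  have hmod : 4 ∣ 2 + n := by
    have := S3993.gcd_dvd_card (G := G) 4
    rwa [Nat.gcd_eq_left h4G, hq4] at this
  have hno8 : ∀ g : G, ¬ 8 ∣ orderOf g := by
    intro g hg
    obtain ⟨x, hx⟩ := exists_order_of_dvd hg
    have h8 : cnt G 8 = n := hx ▸ hge2 x (by omega)
    have := S3993.gcd_dvd_card (G := G) 8
    rw [Nat.gcd_eq_left (hx ▸ orderOf_dvd_natCard x), show (8 : ℕ) = 2 ^ (2 + 1) from rfl,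
      card_pow_prime_succ Nat.prime_two 2, show (2 : ℕ) ^ 2 = 4 from rfl, hq4,
      show (2 : ℕ) ^ (2 + 1) = 8 from rfl, h8] at this
    omega
  have hSz : ∀ a : (S : Subgroup G), orderOf a = 2 → (a : G) = z := fun a ha =>
    huniq _ (by rw [Subgroup.orderOf_coe, ha])
  have hSord : ∀ (a : (S : Subgroup G)) (j : ℕ), orderOf a = 2 ^ j → j ≤ 2 := by
    intro a j ha
    by_contra hj
    push Not at hj
    exact hno8 a (by rw [Subgroup.orderOf_coe, ha]; exact pow_dvd_pow 2 hj)
  have hstruct : (c = 2 ∧ IsCyclic (S : Subgroup G)) ∨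
      (c = 3 ∧ Nonempty ((S : Subgroup G) ≃* QuaternionGroup 2)) := by
    rcases Frobenius.isCyclic_or_quaternion_of_unique (p := 2) S.isPGroup'
      (fun a b ha hb => by
        rw [Subtype.ext ((hSz a ha).trans (hSz b hb).symm)]; exact Subgroup.mem_zpowers b) with hcy | ⟨-, m, ⟨e⟩⟩
    · obtain ⟨a, ha⟩ := IsCyclic.exists_ofOrder_eq_natCard (α := (S : Subgroup G))
      rw [hScard] at ha
      have := hSord a c ha
      exact Or.inl ⟨by omega, hcy⟩
    · have hm := e.symm.orderOf_eq (QuaternionGroup.a 1)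
      rw [QuaternionGroup.orderOf_a_one] at hm
      have hm2 := hSord _ (m + 2) (hm.trans (by ring))
      obtain rfl : m = 0 := by omega
      have h1 := Nat.card_congr e.toEquiv
      rw [hScard, Nat.card_eq_fintype_card, QuaternionGroup.card] at h1
      refine Or.inr ⟨Nat.pow_right_injective le_rfl (a₁ := c) (a₂ := 3) (by norm_num at h1 ⊢; exact h1), ⟨?_⟩⟩
      exact e
  have h2c : 2 ^ c = 4 ∨ 2 ^ c = 8 := by
    rcases hstruct with ⟨rfl, -⟩ | ⟨rfl, -⟩ <;> norm_num
  by_cases hM1 : M = 1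
  · have hStop : (S : Subgroup G) = ⊤ := Subgroup.eq_top_of_card_eq _ (by rw [hScard, hcard, hM1, mul_one])
    let eS : (S : Subgroup G) ≃* G := (MulEquiv.subgroupCongr hStop).trans Subgroup.topEquiv
    rcases hstruct with ⟨rfl, hcy⟩ | ⟨-, ⟨e⟩⟩
    · exact Or.inr (Or.inr (Or.inl ⟨eS.isCyclic.mp hcy, by rw [hcard, hM1]; norm_num⟩))
    · exact Or.inr (Or.inl ⟨eS.symm.trans e⟩)
  exfalso
  have hM3 : 3 ≤ M := by omega
  have hw1 : w = 1 ∧ (M = 3 ∨ M = 7) := by
    have h3w : 3 * w ≤ M * w := Nat.mul_le_mul_right w hM3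
    have hwo : ¬ 2 ∣ w := fun hd => by
      have : 2 ∣ n + 1 := hw ▸ hd.trans (dvd_mul_left _ _)
      omega
    have hd : (n : ℤ) ∣ (2 : ℤ) ^ c - 2 * w := by
      refine ⟨(O.card : ℤ) * w - 2 ^ c, ?_⟩
      have e1 : ((1 + 1 + n * O.card : ℕ) : ℤ) = ((2 ^ c * M : ℕ) : ℤ) := by rw [hsum]
      have e2 : ((n + 1 : ℕ) : ℤ) = ((M * w : ℕ) : ℤ) := by rw [hw]
      push_cast at e1 e2
      linear_combination (-(w : ℤ)) * e1 + (2 ^ c : ℤ) * e2
    have hb := Int.le_of_dvd (a := (n : ℤ)) (b := |(2 : ℤ) ^ c - 2 * w|) (abs_pos.mpr (by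
      rcases h2c with e | e <;> rw [show (2 : ℤ) ^ c = ((2 ^ c : ℕ) : ℤ) by push_cast; rfl, e] <;> omega))
      ((dvd_abs _ _).mpr hd)
    rw [show (2 : ℤ) ^ c = ((2 ^ c : ℕ) : ℤ) by push_cast; rfl] at hb
    obtain rfl : w = 1 := by
      by_contra hw1
      rcases abs_choice (((2 ^ c : ℕ) : ℤ) - 2 * w) with e | e <;> rw [e] at hb <;> omega
    refine ⟨rfl, ?_⟩
    rcases abs_choice (((2 ^ c : ℕ) : ℤ) - 2 * (1 : ℕ)) with e | e <;> rw [e] at hb <;> omega
  obtain ⟨rfl, hM37⟩ := hw1
  rw [mul_one] at hw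
  have hMp : M.Prime := by rcases hM37 with e | e <;> rw [e] <;> norm_num
  have hsub : O ⊆ ({4, M, 2 * M, 4 * M} : Finset ℕ) := by
    intro m hm
    obtain ⟨g, hg, rfl⟩ := Finset.mem_image.mp hm
    have hg3 := (Finset.mem_filter.mp hg).2
    have hdv : orderOf g ∣ 2 ^ c * M := hcard ▸ orderOf_dvd_natCard g
    obtain ⟨a, b, ha, hb, hab⟩ := Nat.dvd_mul.mp hdv
    obtain ⟨i, -, rfl⟩ := (Nat.dvd_prime_pow Nat.prime_two).mp ha
    have hi : i ≤ 2 := by
      by_contra hi
      push Not at hi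
      exact hno8 g (hab ▸ (pow_dvd_pow 2 hi).trans (dvd_mul_right _ _))
    rw [← hab] at hg3 ⊢
    rcases (Nat.dvd_prime hMp).mp hb with rfl | rfl <;>
      rcases (show i = 0 ∨ i = 1 ∨ i = 2 by omega) with rfl | rfl | rfl <;> simp at hg3 ⊢ <;> omega
  have hO4 : O.card ≤ 4 := (Finset.card_le_card hsub).trans Finset.card_le_four
  have h5 : n * O.card ≤ n * 4 := Nat.mul_le_mul_left n hO4
  rcases h2c with e | e <;> rw [e] at hsum <;> omega

end Cfsg.Agent.S3995
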