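import Cfsg.Statements.S3997
import Mathlib.GroupTheory.Sylow
import Mathlib.GroupTheory.Nilpotent

set_option autoImplicit false
open Cfsg

namespace Cfsg.Agent.S3997

theorem card_orderOf_mem {K : Type*} [Group K] [Finite K] (m : Set ℕ) :
    Nat.card {g : K // orderOf g ∈ m} = Nat.card (Σ n : m, {g : K // orderOf g = n}) :=
  Nat.card_congr
    { toFun := fun g => ⟨⟨orderOf g.1, g.2⟩, g.1, rfl⟩
      invFun := fun s => ⟨s.2.1, by rw [s.2.2]; exact s.1.2⟩
      left_inv := fun g => rfl
      right_inv := fun s => by
        obtain ⟨⟨n, hn⟩, ⟨g, hg⟩⟩ := s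
        change orderOf g = n at hg
        subst hg
        rfl }

theorem orderOf_mem_of_sylow {p : ℕ} [Fact p.Prime] {K : Type*} [Group K] [Finite K] (R : Sylow p K)
    (g : (R : Subgroup K)) : orderOf (g : K) ∈ {n : ℕ | ∃ k, n = p ^ k} := by
  obtain ⟨k, hk⟩ := (IsPGroup.iff_orderOf.mp R.isPGroup') g
  exact ⟨k, by rw [Subgroup.orderOf_coe, hk]⟩

/-- Let G and H be finite groups with the same order type: for every m they have the same number of elements of order m. If G is nilpotent then so is H. -/
theorem result {G H : Type*} [Group G] [Finite G] [Group H] [Finite H] (hT : (∀ m : ℕ, Nat.card {g : G // orderOf g = m} = Nat.card {h : H // orderOf h = m})) (hG : Group.IsNilpotent G) :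
    Group.IsNilpotent H := by
  refine ((Group.isNilpotent_of_finite_tfae (G := H)).out 0 3 rfl rfl).mpr fun p hp P => ?_
  classical
  haveI := hp
  obtain ⟨Q⟩ : Nonempty (Sylow p G) := inferInstance
  have hQn : (Q : Subgroup G).Normal := ((Group.isNilpotent_of_finite_tfae (G := G)).out 0 3 rfl rfl).mp hG p hp Q
  have hcardGH : Nat.card G = Nat.card H := by
    have := Fintype.ofFinite G
    have := Fintype.ofFinite H
    rw [Nat.card_eq_fintype_card, Nat.card_eq_fintype_card, ← Finset.card_univ, ← Finset.card_univ]
    rw [Finset.card_eq_sum_card_fiberwise (f := fun g : G => orderOf g)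
      (t := (Finset.univ.image fun g : G => orderOf g) ∪ (Finset.univ.image fun h : H => orderOf h))
      (fun g _ => Finset.mem_coe.mpr (Finset.mem_union_left _ (Finset.mem_image_of_mem _ (Finset.mem_univ g))))]
    rw [Finset.card_eq_sum_card_fiberwise (s := (Finset.univ : Finset H)) (f := fun h : H => orderOf h)
      (t := (Finset.univ.image fun g : G => orderOf g) ∪ (Finset.univ.image fun h : H => orderOf h))
      (fun g _ => Finset.mem_coe.mpr (Finset.mem_union_right _ (Finset.mem_image_of_mem _ (Finset.mem_univ g))))]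
    refine Finset.sum_congr rfl fun m _ => ?_
    have := hT m
    rwa [Nat.card_eq_fintype_card, Nat.card_eq_fintype_card, Fintype.card_subtype,
      Fintype.card_subtype] at this
  -- the p-elements
  have hcount : ∀ m : Set ℕ, Nat.card {g : G // orderOf g ∈ m} = Nat.card {h : H // orderOf h ∈ m} := by
    intro m
    have eG : ∀ n : m, {g : G // orderOf g = n} ≃ {h : H // orderOf h = n} := fun n =>
      (Finite.equivFin _).trans ((finCongr (hT n)).trans (Finite.equivFin _).symm)
    rw [card_orderOf_mem, card_orderOf_mem]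
    exact Nat.card_congr (Equiv.sigmaCongrRight eG)
  set S : Set ℕ := {n | ∃ k, n = p ^ k} with hS
  have hQall : Nat.card {g : G // orderOf g ∈ S} = Nat.card (Q : Subgroup G) := by
    refine Nat.card_congr
      { toFun := fun g => ⟨g.1, ?_⟩, invFun := fun g => ⟨g.1, orderOf_mem_of_sylow Q g⟩,
        left_inv := fun g => rfl, right_inv := fun g => rfl }
    obtain ⟨k, hk⟩ := g.2
    have hW : IsPGroup p (Subgroup.zpowers g.1) := IsPGroup.of_card (n := k) (by rw [Nat.card_zpowers, hk])
    obtain ⟨R, hR⟩ := hW.exists_le_sylow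
    have := Sylow.unique_of_normal Q hQn
    rw [Subsingleton.elim Q R]
    exact hR (Subgroup.mem_zpowers _)
  have hPall : ∀ h : H, orderOf h ∈ S → h ∈ (P : Subgroup H) := by
    intro h hh
    by_contra hP
    let f : Option (P : Subgroup H) → {h : H // orderOf h ∈ S} := fun o =>
      o.elim ⟨h, hh⟩ (fun g => ⟨g.1, orderOf_mem_of_sylow P g⟩)
    have hf : Function.Injective f := by
      rintro (_ | a) (_ | b) e
      · rfl
      · have hv : h = b := congrArg Subtype.val e
        exact absurd (hv ▸ b.2) hP
      · have hv : (a : H) = h := congrArg Subtype.val e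
        exact absurd (hv ▸ a.2) hP
      · exact congrArg some (Subtype.ext (congrArg Subtype.val e :))
    have h1 := Nat.card_le_card_of_injective f hf
    rw [← hcount S, hQall, Sylow.card_eq_multiplicity, hcardGH, ← P.card_eq_multiplicity] at h1
    have := Fintype.ofFinite (P : Subgroup H)
    rw [Nat.card_eq_fintype_card, Nat.card_eq_fintype_card, Fintype.card_option] at h1
    omega
  refine ⟨fun x hx g => hPall _ ?_⟩
  have : orderOf (g * x * g⁻¹) = orderOf x := by simpa using (MulAut.conj g).orderOf_eq x
  rw [this]
  exact orderOf_mem_of_sylow P ⟨x, hx⟩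

end Cfsg.Agent.S3997
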