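import Cfsg.Statements.S3998
import Cfsg.Agent.Lib.Solvable.Supersolvable

set_option autoImplicit false
open Cfsg

namespace Cfsg.Agent.S3998

universe u

open Cfsg.Agent.Lib

/-- Number of elements all prime divisors of whose order are at least `r`. -/
noncomputable def cnt (r : ℕ) (K : Type*) [Group K] : ℕ :=
  Nat.card {x : K // ∀ q : ℕ, q.Prime → q ∣ orderOf x → r ≤ q}

/-- For every `r` the number of such elements is the corresponding Hall number. -/
def TowerCount (K : Type*) [Group K] : Prop :=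
  ∀ r : ℕ, ∃ m : ℕ, Nat.card K = cnt r K * m ∧
    (∀ q : ℕ, q.Prime → q ∣ cnt r K → r ≤ q) ∧ ∀ q : ℕ, q.Prime → q ∣ m → q < r

theorem cnt_of_lt {K : Type*} [Group K] [Finite K] {r : ℕ}
    (h : ∀ q : ℕ, q.Prime → q ∣ Nat.card K → q < r) : cnt r K = 1 := by
  rw [cnt, Nat.card_eq_one_iff_unique]
  refine ⟨⟨fun a b => ?_⟩, ⟨⟨1, fun q hq hd => ?_⟩⟩⟩
  · have hone : ∀ c : {x : K // ∀ q : ℕ, q.Prime → q ∣ orderOf x → r ≤ q}, (c : K) = 1 := by
      intro c
      by_contra hc
      obtain ⟨q, hq, hqd⟩ := Nat.exists_prime_and_dvd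
        (n := orderOf (c : K)) (fun h1 => hc (orderOf_eq_one_iff.mp h1))
      exact absurd (c.2 q hq hqd) (not_le.mpr (h q hq (hqd.trans (orderOf_dvd_natCard (c : K)))))
    exact Subtype.ext ((hone a).trans (hone b).symm)
  · rw [orderOf_one] at hd
    exact absurd (Nat.dvd_one.mp hd) hq.ne_one

theorem cnt_quotient {K : Type*} [Group K] [Finite K] (R : Subgroup K) [R.Normal] {p : ℕ}
    (hp : p.Prime) (hR : ∀ q : ℕ, q.Prime → q ∣ Nat.card R → q = p) {r : ℕ} (hr : r ≤ p) :
    cnt r K = Nat.card R * cnt r (K ⧸ R) := by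
  let e : {x : K // ∀ q : ℕ, q.Prime → q ∣ orderOf x → r ≤ q} ≃
      (QuotientGroup.mk ⁻¹' {y : K ⧸ R | ∀ q : ℕ, q.Prime → q ∣ orderOf y → r ≤ q} : Set K) :=
    Equiv.subtypeEquivRight fun x => by
      refine ⟨fun h q hq hd => h q hq (hd.trans (orderOf_map_dvd (QuotientGroup.mk' R) x)),
        fun h q hq hd => ?_⟩
      have h1 : x ^ orderOf (QuotientGroup.mk' R x) ∈ R := by
        rw [← QuotientGroup.eq_one_iff]
        show QuotientGroup.mk' R (x ^ _) = 1
        rw [map_pow, pow_orderOf_eq_one]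
      have h2 : orderOf x ∣ orderOf (QuotientGroup.mk' R x) * Nat.card R := by
        apply orderOf_dvd_of_pow_eq_one
        rw [pow_mul]
        have := pow_card_eq_one' (G := R) (x := ⟨_, h1⟩)
        exact congrArg Subtype.val this
      rcases (Nat.Prime.dvd_mul hq).mp (hd.trans h2) with h3 | h3
      · exact h q hq h3
      · exact (hR q hq h3).symm ▸ hr
  rw [cnt, cnt, Nat.card_congr (e.trans (QuotientGroup.preimageMkEquivSubgroupProdSet R _)),
    Nat.card_prod]
  rfl

theorem towerCount_iff {K : Type*} [Group K] [Finite K] (R : Subgroup K) [R.Normal] {p : ℕ}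
    (hp : p.Prime) (hR : ∀ q : ℕ, q.Prime → q ∣ Nat.card R → q = p)
    (hmax : ∀ q : ℕ, q.Prime → q ∣ Nat.card K → q ≤ p) : TowerCount K ↔ TowerCount (K ⧸ R) := by
  have hcard : Nat.card K = Nat.card R * Nat.card (K ⧸ R) := by
    rw [mul_comm]; exact (Coprime.card_quotient_mul_card R).symm
  have hlt : ∀ r, p < r → ∀ q : ℕ, q.Prime → q ∣ Nat.card K → q < r :=
    fun r hr q hq hd => (hmax q hq hd).trans_lt hr
  constructor
  · intro h r
    rcases le_or_gt r p with hr | hr
    · obtain ⟨m, hm, h1, h2⟩ := h r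
      rw [cnt_quotient R hp hR hr] at hm h1
      refine ⟨m, ?_, fun q hq hd => h1 q hq (hd.mul_left _), h2⟩
      apply Nat.eq_of_mul_eq_mul_left (Nat.card_pos (α := R))
      rw [← hcard, hm, mul_assoc]
    · have hl : ∀ q : ℕ, q.Prime → q ∣ Nat.card (K ⧸ R) → q < r :=
        fun q hq hd => hlt r hr q hq (hd.trans R.card_quotient_dvd_card)
      refine ⟨Nat.card (K ⧸ R), by rw [cnt_of_lt hl, one_mul], fun q hq hd => ?_, hl⟩
      rw [cnt_of_lt hl] at hd
      exact absurd (Nat.dvd_one.mp hd) hq.ne_one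
  · intro h r
    rcases le_or_gt r p with hr | hr
    · obtain ⟨m, hm, h1, h2⟩ := h r
      refine ⟨m, by rw [cnt_quotient R hp hR hr, hcard, hm, mul_assoc], fun q hq hd => ?_, h2⟩
      rw [cnt_quotient R hp hR hr] at hd
      rcases (Nat.Prime.dvd_mul hq).mp hd with h3 | h3
      · exact (hR q hq h3).symm ▸ hr
      · exact h1 q hq h3
    · refine ⟨Nat.card K, by rw [cnt_of_lt (hlt r hr), one_mul], fun q hq hd => ?_, hlt r hr⟩
      rw [cnt_of_lt (hlt r hr)] at hd
      exact absurd (Nat.dvd_one.mp hd) hq.ne_one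

theorem exists_max_prime {n : ℕ} (hn : n ≠ 0) (hn1 : n ≠ 1) :
    ∃ p : ℕ, p.Prime ∧ p ∣ n ∧ ∀ q : ℕ, q.Prime → q ∣ n → q ≤ p := by
  obtain ⟨q0, hq0, hq0d⟩ := Nat.exists_prime_and_dvd hn1
  have hne : n.primeFactors.Nonempty := ⟨q0, Nat.mem_primeFactors.mpr ⟨hq0, hq0d, hn⟩⟩
  have h := n.primeFactors.max'_mem hne
  exact ⟨_, Nat.prime_of_mem_primeFactors h, Nat.dvd_of_mem_primeFactors h,
    fun q hq hd => Finset.le_max' _ q (Nat.mem_primeFactors.mpr ⟨hq, hd, hn⟩)⟩

theorem eq_of_dvd_card_pGroup {K : Type*} [Group K] [Finite K] {p : ℕ} (hp : p.Prime)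
    (P : Sylow p K) (q : ℕ) (hq : q.Prime) (hd : q ∣ Nat.card P) : q = p := by
  have := Fact.mk hp
  obtain ⟨n, hn⟩ := IsPGroup.iff_card.mp P.isPGroup'
  rw [hn] at hd
  exact (Nat.prime_dvd_prime_iff_eq hq hp).mp (hq.dvd_of_dvd_pow hd)

theorem towerCount_of_isSupersolvable {K : Type u} [Group K] [Finite K]
    (h : Cfsg.IsSupersolvable K) : TowerCount K := by
  obtain ⟨c, hc⟩ : ∃ c, Nat.card K = c := ⟨_, rfl⟩
  induction c using Nat.strongRecOn generalizing K with
  | ind c ih =>
  by_cases h1 : Nat.card K = 1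
  · intro r
    have hl : ∀ q : ℕ, q.Prime → q ∣ Nat.card K → q < r :=
      fun q hq hd => absurd (Nat.dvd_one.mp (h1 ▸ hd)) hq.ne_one
    refine ⟨1, by rw [cnt_of_lt hl, h1], fun q hq hd => ?_,
      fun q hq hd => absurd (Nat.dvd_one.mp hd) hq.ne_one⟩
    rw [cnt_of_lt hl] at hd
    exact absurd (Nat.dvd_one.mp hd) hq.ne_one
  · obtain ⟨p, hp, hpd, hmax⟩ := exists_max_prime Nat.card_pos.ne' h1
    have := Fact.mk hp
    let P : Sylow p K := default
    have hPn := Solvable.sylow_normal_of_max_prime h hmax P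
    rw [towerCount_iff (P : Subgroup K) hp (eq_of_dvd_card_pGroup hp P) hmax]
    refine ih _ ?_ (Solvable.isSupersolvable_quotient h _) rfl
    rw [← hc, ← Coprime.card_quotient_mul_card (P : Subgroup K)]
    refine lt_mul_of_one_lt_right Nat.card_pos ?_
    have h2 : p ∣ Nat.card P := P.dvd_card_of_dvd_card hpd
    exact lt_of_lt_of_le hp.one_lt (Nat.le_of_dvd Nat.card_pos h2)

theorem isSolvable_of_towerCount {K : Type u} [Group K] [Finite K]
    (h : TowerCount K) : Group.IsSolvable K := by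
  obtain ⟨c, hc⟩ : ∃ c, Nat.card K = c := ⟨_, rfl⟩
  induction c using Nat.strongRecOn generalizing K with
  | ind c ih =>
  by_cases h1 : Nat.card K = 1
  · have := (Nat.card_eq_one_iff_unique.mp h1).1
    infer_instance
  · obtain ⟨p, hp, hpd, hmax⟩ := exists_max_prime Nat.card_pos.ne' h1
    have := Fact.mk hp
    let P : Sylow p K := default
    obtain ⟨m, hm, hc1, hc2⟩ := h p
    have hS : (P : Set K) = {x : K | ∀ q : ℕ, q.Prime → q ∣ orderOf x → p ≤ q} := by
      refine Set.eq_of_subset_of_ncard_le (fun x hx q hq hd => ?_) ?_ (Set.toFinite _)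
      · exact (eq_of_dvd_card_pGroup hp P q hq
          (hd.trans (Subgroup.orderOf_mk x hx ▸ orderOf_dvd_natCard (⟨x, hx⟩ : (P : Subgroup K))))).ge
      · rw [← Nat.card_coe_set_eq, ← Nat.card_coe_set_eq]
        show cnt p K ≤ Nat.card P
        have hpm : ¬ p ∣ m := fun hd => lt_irrefl p (hc2 p hp hd)
        have hm0 : m ≠ 0 := fun h0 => hpm (h0 ▸ dvd_zero p)
        refine Nat.le_of_dvd Nat.card_pos ?_
        obtain ⟨k, hk⟩ : ∃ k, cnt p K = p ^ k := by
          refine ⟨_, Nat.eq_prime_pow_of_unique_prime_dvd ?_ fun {d} hd hdd =>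
            le_antisymm (hmax d hd (hdd.trans ⟨m, hm⟩)) (hc1 d hd hdd)⟩
          exact fun h0 => Nat.card_pos.ne' (by rw [hm, h0, zero_mul])
        rw [hk, P.card_eq_multiplicity]
        apply pow_dvd_pow
        rw [hm, hk, Nat.factorization_mul (pow_ne_zero _ hp.ne_zero) hm0,
          Nat.Prime.factorization_pow hp]
        simp
    have hPn : (P : Subgroup K).Normal := by
      refine ⟨fun x hx g => ?_⟩
      have hx' : x ∈ (P : Set K) := hx
      show g * x * g⁻¹ ∈ (P : Set K)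
      rw [hS] at hx' ⊢
      have horder : orderOf (g * x * g⁻¹) = orderOf x := by
        rw [← MulAut.conj_apply]; exact orderOf_injective (MulAut.conj g).toMonoidHom (MulAut.conj g).injective x
      show ∀ q : ℕ, q.Prime → q ∣ orderOf (g * x * g⁻¹) → p ≤ q
      rw [horder]
      exact hx'
    have hP1 : 1 < Nat.card P := lt_of_lt_of_le hp.one_lt
      (Nat.le_of_dvd Nat.card_pos (P.dvd_card_of_dvd_card hpd))
    have hq : Group.IsSolvable (K ⧸ (P : Subgroup K)) := by
      refine ih _ ?_ ((towerCount_iff (P : Subgroup K) hp (eq_of_dvd_card_pGroup hp P) hmax).mp h) rfl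
      rw [← hc, ← Coprime.card_quotient_mul_card (P : Subgroup K)]
      exact lt_mul_of_one_lt_right Nat.card_pos hP1
    exact (Group.isSolvable_iff_subgroup_quotient (P : Subgroup K)).mpr
      ⟨by have := IsPGroup.isNilpotent P.isPGroup'; infer_instance, hq⟩

/-- Let G and H be finite groups with the same order type (for every m the same number of elements of order m). If G is supersolvable then H is solvable. -/
theorem result {G H : Type*} [Group G] [Finite G] [Group H] [Finite H] (hT : (∀ m : ℕ, Nat.card {g : G // orderOf g = m} = Nat.card {h : H // orderOf h = m})) (hG : Cfsg.IsSupersolvable G) :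
    Group.IsSolvable H := by
  obtain ⟨e, he⟩ : ∃ e : G ≃ H, ∀ g, orderOf (e g) = orderOf g := by
    let E : ∀ m : ℕ, {g : G // orderOf g = m} ≃ {h : H // orderOf h = m} := fun m =>
      Classical.choice (Finite.card_eq.mp (hT m))
    exact ⟨Equiv.ofFiberEquiv E, fun g => Equiv.ofFiberEquiv_map E g⟩
  have hcnt : ∀ r, cnt r G = cnt r H := fun r =>
    Nat.card_congr (e.subtypeEquiv fun g => by rw [he])
  refine isSolvable_of_towerCount fun r => ?_
  obtain ⟨m, hm, h1, h2⟩ := towerCount_of_isSupersolvable hG r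
  exact ⟨m, by rw [← Nat.card_congr e, hm, hcnt r], hcnt r ▸ h1, h2⟩

end Cfsg.Agent.S3998
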