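import Cfsg.Statements.S3999
import Cfsg.Agent.S3998
import Cfsg.Agent.Lib.Frobenius.Kernel
import Cfsg.Agent.Lib.Frobenius.UniqueSubgroup
import Cfsg.Agent.Lib.Solvable.FixedPointFree
import Cfsg.Agent.Lib.Characters.Burnside
import Cfsg.Agent.Lib.Involutions.TwoGroupRec
import Cfsg.Agent.Lib.Coprime.Hall
import Cfsg.Agent.Lib.Cores.Fitting
import Mathlib.GroupTheory.Nilpotent
import Mathlib.GroupTheory.SchurZassenhaus

set_option autoImplicit false
open Cfsg

namespace Cfsg.Agent.S3999

universe u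

open Cfsg.Agent.Lib Cfsg.Agent.S3998

/-- Sylow restriction satisfied by Frobenius complements and their quotients. -/
def SmallSylows (Q : Type*) [Group Q] : Prop :=
  ∀ p : ℕ, p.Prime → ∀ S : Subgroup Q, IsPGroup p S →
    (p ≠ 2 → IsCyclic S) ∧ ∃ a b : Q, Subgroup.closure {a, b} = S

theorem smallSylows_of_surjective {A Q : Type*} [Group A] [Group Q] [Finite A] [Finite Q]
    (f : A →* Q) (hf : Function.Surjective f) (h : SmallSylows A) : SmallSylows Q := by
  intro p hp S hS
  haveI := Fact.mk hp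
  let f' : (S.comap f) →* S := (f.comp (S.comap f).subtype).codRestrict S fun x => x.2
  have hf' : Function.Surjective f' := fun y => by
    obtain ⟨x, hx⟩ := hf (y : Q)
    exact ⟨⟨x, Subgroup.mem_comap.mpr (hx.symm ▸ y.2)⟩, Subtype.ext hx⟩
  let P : Sylow p (S.comap f) := default
  have htop : P.toSubgroup.map f' = ⊤ := by
    rw [← Sylow.coe_mapSurjective hf' P]
    exact ((P.mapSurjective hf').is_maximal' (hS.of_equiv Subgroup.topEquiv.symm) le_top).symm
  set T : Subgroup A := P.toSubgroup.map (S.comap f).subtype with hT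
  have hTS : T.map f = S := by
    have h1 := congrArg (Subgroup.map S.subtype) htop
    rw [Subgroup.map_map, ← MonoidHom.range_eq_map, Subgroup.range_subtype] at h1
    rw [hT, Subgroup.map_map]
    exact h1
  obtain ⟨h1, a, b, hab⟩ := h p hp T (P.isPGroup'.map _)
  refine ⟨fun hp2 => ?_, f a, f b, ?_⟩
  · haveI := h1 hp2
    let g : T →* S := (f.comp T.subtype).codRestrict S fun x => hTS ▸ Subgroup.mem_map_of_mem f x.2
    refine isCyclic_of_surjective g fun y => ?_
    obtain ⟨x, hx, hxy⟩ := Subgroup.mem_map.mp (show (y : Q) ∈ T.map f from hTS.symm ▸ y.2)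
    exact ⟨⟨x, hx⟩, Subtype.ext hxy⟩
  · rw [← hTS, ← hab, MonoidHom.map_closure, Set.image_insert_eq, Set.image_singleton]

theorem card_le_four {Q : Type*} [Group Q] [Finite Q] {a b : Q} (ha : a ^ 2 = 1) (hb : b ^ 2 = 1)
    (hc : a * b = b * a) : Nat.card (Subgroup.closure ({a, b} : Set Q)) ≤ 4 := by
  classical
  let f : Bool × Bool → Q := fun x => (if x.1 then a else 1) * (if x.2 then b else 1)
  have ha' : a⁻¹ = a := inv_eq_of_mul_eq_one_right (by rw [← sq, ha])
  have hb' : b⁻¹ = b := inv_eq_of_mul_eq_one_right (by rw [← sq, hb])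
  rw [sq] at ha hb
  let H : Subgroup Q :=
    { carrier := Set.range f
      one_mem' := ⟨(false, false), by simp [f]⟩
      mul_mem' := by
        rintro _ _ ⟨⟨x, y⟩, rfl⟩ ⟨⟨z, w⟩, rfl⟩
        have h1 : b * (a * b) = a := by rw [hc, ← mul_assoc, hb, one_mul]
        have h2 : a * b * a = b := by rw [hc, mul_assoc, ha, mul_one]
        refine ⟨(xor x z, xor y w), ?_⟩
        cases x <;> cases y <;> cases z <;> cases w <;>
          simp only [f, Bool.xor_false, Bool.false_xor, Bool.xor_true, Bool.not_true, Bool.not_false,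
            if_true, Bool.false_eq_true, if_false, one_mul, mul_one, ha, hb, ← hc, h1, h2,
            mul_assoc] <;> first | done | (rw [← mul_assoc, ha, one_mul]) | (rw [hc, ← mul_assoc, hb, one_mul]) | simp [← mul_assoc, ha, hb, hc]
      inv_mem' := by
        rintro _ ⟨⟨x, y⟩, rfl⟩
        refine ⟨(x, y), ?_⟩
        cases x <;> cases y <;> simp [f, ha', hb', hc] }
  have hle : Subgroup.closure ({a, b} : Set Q) ≤ H := by
    rw [Subgroup.closure_le]
    rintro x (rfl | rfl)
    · exact ⟨(true, false), by simp [f]⟩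
    · exact ⟨(false, true), by simp [f]⟩
  refine (Subgroup.card_le_of_le hle).trans ?_
  show Nat.card (Set.range f) ≤ 4
  exact (Finite.card_range_le f).trans (by simp)

theorem sylow_normal_of_small {Q : Type u} [Group Q] [Finite Q] (hsol : Group.IsSolvable Q)
    (hW : SmallSylows Q) {p : ℕ} [hp : Fact p.Prime] (hp5 : 5 ≤ p)
    (hmax : ∀ q : ℕ, q.Prime → q ∣ Nat.card Q → q ≤ p) (P : Sylow p Q) :
    (P : Subgroup Q).Normal := by
  obtain ⟨c, hc⟩ : ∃ c, Nat.card Q = c := ⟨_, rfl⟩
  induction c using Nat.strongRecOn generalizing Q with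
  | ind c ih =>
  cases subsingleton_or_nontrivial Q with
  | inl hs =>
    rw [Subsingleton.elim (P : Subgroup Q) ⊥]
    infer_instance
  | inr hn =>
  haveI := hsol
  obtain ⟨q, N, hq, hNn, hN0, hNc, hNp, hNe⟩ :=
    Coprime.exists_normal_isPGroup_isMulCommutative Q
  have hN1 : 1 < Nat.card N :=
    Finite.one_lt_card_iff_nontrivial.mpr ((Subgroup.nontrivial_iff_ne_bot N).mpr hN0)
  let π : Q →* Q ⧸ N := QuotientGroup.mk' N
  have hπ : Function.Surjective π := QuotientGroup.mk'_surjective N
  let P' : Sylow p (Q ⧸ N) := P.mapSurjective hπ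
  have hlt : Nat.card (Q ⧸ N) < c := by
    rw [← hc, ← Coprime.card_quotient_mul_card N]
    exact lt_mul_of_one_lt_right Nat.card_pos hN1
  have hP'n : (P' : Subgroup (Q ⧸ N)).Normal :=
    ih _ hlt (Group.isSolvable_of_surjective hπ) (smallSylows_of_surjective π hπ hW)
      (fun r hr hd => hmax r hr (hd.trans N.card_quotient_dvd_card)) P' rfl
  set L := (P' : Subgroup (Q ⧸ N)).comap π
  have hLn : L.Normal := hP'n.comap π
  have hLeq : L = (P : Subgroup Q) ⊔ N := by
    show ((P.mapSurjective hπ : Sylow p (Q ⧸ N)) : Subgroup (Q ⧸ N)).comap π = _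
    rw [Sylow.coe_mapSurjective, Subgroup.comap_map_eq, QuotientGroup.ker_mk']
  have hPL : (P : Subgroup Q) ≤ L := hLeq ▸ le_sup_left
  by_cases hqp : q = p
  · subst hqp
    have hNP : N ≤ (P : Subgroup Q) := by
      obtain ⟨P0, hP0⟩ := hNp.exists_le_sylow
      obtain ⟨g, hg⟩ := MulAction.exists_smul_eq Q P0 P
      intro x hx
      rw [← hg, Sylow.coe_subgroup_smul, Cfsg.Agent.Lib.Coprime.mem_conj_smul]
      exact hP0 (by simpa using hNn.conj_mem x hx g⁻¹)
    rw [sup_eq_left.mpr hNP] at hLeq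
    exact hLeq ▸ hLn
  · have hqle : Nat.card N < p := by
      obtain ⟨hcyc, a, b, hab⟩ := hW q hq N hNp
      by_cases hq2 : q = 2
      · subst hq2
        have ha : a ∈ N := hab ▸ Subgroup.subset_closure (Set.mem_insert _ _)
        have hb : b ∈ N := hab ▸ Subgroup.subset_closure (Set.mem_insert_of_mem _ rfl)
        have h4 := card_le_four (hNe a ha) (hNe b hb)
          (congrArg Subtype.val (hNc.is_comm.comm ⟨a, ha⟩ ⟨b, hb⟩) :)
        rw [hab] at h4
        omega
      · haveI := hcyc hq2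
        have hdvd : Nat.card N ∣ q := by
          rw [← IsCyclic.exponent_eq_card]
          exact Monoid.exponent_dvd_of_forall_pow_eq_one fun x => Subtype.ext (hNe x x.2)
        have hqd : q ∣ Nat.card Q := by
          rcases (Nat.dvd_prime hq).mp hdvd with h1 | h1
          · omega
          · exact h1 ▸ Subgroup.card_subgroup_dvd_card N
        exact (Nat.le_of_dvd hq.pos hdvd).trans_lt (lt_of_le_of_ne (hmax q hq hqd) hqp)
    let PL : Sylow p L := P.subtype hPL
    have hidx : (PL : Subgroup L).index ∣ Nat.card N := by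
      have h1 := (PL : Subgroup L).card_mul_index
      have h2 : Nat.card (PL : Subgroup L) = Nat.card P :=
        Nat.card_congr (Subgroup.subgroupOfEquivOfLe hPL).toEquiv
      have h3 := Coprime.card_sup_mul_card_inf (N := N) (H := (P : Subgroup Q))
        Subgroup.le_normalizer_of_normal
      rw [sup_comm, ← hLeq] at h3
      rw [h2] at h1
      refine ⟨Nat.card (N ⊓ (P : Subgroup Q) : Subgroup Q), ?_⟩
      apply Nat.eq_of_mul_eq_mul_left (Nat.card_pos (α := P))
      rw [← mul_assoc, h1, h3, mul_comm]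
    have hone : Nat.card (Sylow p L) = 1 := by
      have hle := Nat.le_of_dvd Nat.card_pos ((PL.card_dvd_index).trans hidx)
      have hmod := card_sylow_modEq_one p L
      rw [Nat.ModEq, Nat.mod_eq_of_lt (hle.trans_lt hqle), Nat.mod_eq_of_lt hp.out.one_lt] at hmod
      exact hmod
    have : Subsingleton (Sylow p L) := (Nat.card_eq_one_iff_unique.mp hone).1
    have hchar : (PL : Subgroup L).Characteristic := Sylow.characteristic_of_subsingleton PL
    have : ((PL : Subgroup L).map L.subtype).Normal := inferInstance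
    have heq : (PL : Subgroup L).map L.subtype = P := Subgroup.map_subgroupOf_eq_of_le hPL
    exact heq ▸ this

/-- The counting property for all primes at least five. -/
def TowerFive (K : Type*) [Group K] : Prop :=
  ∀ r : ℕ, 5 ≤ r → ∃ m : ℕ, Nat.card K = cnt r K * m ∧
    (∀ q : ℕ, q.Prime → q ∣ cnt r K → r ≤ q) ∧ ∀ q : ℕ, q.Prime → q ∣ m → q < r

theorem towerFive_of_lt {K : Type*} [Group K] [Finite K] {r : ℕ}
    (hl : ∀ q : ℕ, q.Prime → q ∣ Nat.card K → q < r) :
    ∃ m : ℕ, Nat.card K = cnt r K * m ∧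
    (∀ q : ℕ, q.Prime → q ∣ cnt r K → r ≤ q) ∧ ∀ q : ℕ, q.Prime → q ∣ m → q < r := by
  refine ⟨Nat.card K, by rw [cnt_of_lt hl, one_mul], fun q hq hd => ?_, hl⟩
  rw [cnt_of_lt hl] at hd
  exact absurd (Nat.dvd_one.mp hd) hq.ne_one

theorem towerFive_iff {K : Type*} [Group K] [Finite K] (R : Subgroup K) [R.Normal] {p : ℕ}
    (hp : p.Prime) (hR : ∀ q : ℕ, q.Prime → q ∣ Nat.card R → q = p)
    (hmax : ∀ q : ℕ, q.Prime → q ∣ Nat.card K → q ≤ p) : TowerFive K ↔ TowerFive (K ⧸ R) := by
  have hcard : Nat.card K = Nat.card R * Nat.card (K ⧸ R) := by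
    rw [mul_comm]; exact (Coprime.card_quotient_mul_card R).symm
  constructor
  · intro h r h5
    rcases le_or_gt r p with hr | hr
    · obtain ⟨m, hm, h1, h2⟩ := h r h5
      rw [cnt_quotient R hp hR hr] at hm h1
      refine ⟨m, ?_, fun q hq hd => h1 q hq (hd.mul_left _), h2⟩
      apply Nat.eq_of_mul_eq_mul_left (Nat.card_pos (α := R))
      rw [← hcard, hm, mul_assoc]
    · exact towerFive_of_lt fun q hq hd =>
        (hmax q hq (hd.trans R.card_quotient_dvd_card)).trans_lt hr
  · intro h r h5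
    rcases le_or_gt r p with hr | hr
    · obtain ⟨m, hm, h1, h2⟩ := h r h5
      refine ⟨m, by rw [cnt_quotient R hp hR hr, hcard, hm, mul_assoc], fun q hq hd => ?_, h2⟩
      rw [cnt_quotient R hp hR hr] at hd
      rcases (Nat.Prime.dvd_mul hq).mp hd with h3 | h3
      · exact (hR q hq h3).symm ▸ hr
      · exact h1 q hq h3
    · exact towerFive_of_lt fun q hq hd => (hmax q hq hd).trans_lt hr

theorem towerFive_of_solvable {Q : Type u} [Group Q] [Finite Q] (hsol : Group.IsSolvable Q)
    (hW : SmallSylows Q) : TowerFive Q := by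
  obtain ⟨c, hc⟩ : ∃ c, Nat.card Q = c := ⟨_, rfl⟩
  induction c using Nat.strongRecOn generalizing Q with
  | ind c ih =>
  intro r h5
  by_cases hlt : ∀ q : ℕ, q.Prime → q ∣ Nat.card Q → q < r
  · exact towerFive_of_lt hlt
  push Not at hlt
  obtain ⟨q0, hq0, hq0d, hq0r⟩ := hlt
  obtain ⟨p, hp, hpd, hmax⟩ := exists_max_prime (Nat.card_pos (α := Q)).ne'
    (fun h1 => hq0.ne_one (Nat.dvd_one.mp (h1 ▸ hq0d)))
  haveI := Fact.mk hp
  have hp5 : 5 ≤ p := h5.trans (hq0r.trans (hmax q0 hq0 hq0d))
  let P : Sylow p Q := default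
  haveI := sylow_normal_of_small hsol hW hp5 hmax P
  refine (towerFive_iff (P : Subgroup Q) hp (eq_of_dvd_card_pGroup hp P) hmax).mpr ?_ r h5
  refine ih _ ?_ (Group.isSolvable_of_surjective (QuotientGroup.mk'_surjective _))
    (smallSylows_of_surjective _ (QuotientGroup.mk'_surjective _) hW) rfl
  rw [← hc, ← Coprime.card_quotient_mul_card (P : Subgroup Q)]
  exact lt_mul_of_one_lt_right Nat.card_pos
    (hp.one_lt.trans_le (Nat.le_of_dvd Nat.card_pos (P.dvd_card_of_dvd_card hpd)))

theorem mem_pSylow_of_normal {K : Type*} [Group K] [Finite K] {p : ℕ} [Fact p.Prime]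
    (P : Sylow p K) (hP : (P : Subgroup K).Normal) {x : K} {n : ℕ} (hx : orderOf x = p ^ n) :
    x ∈ (P : Subgroup K) := by
  obtain ⟨P'', hP''⟩ := (IsPGroup.of_card (n := n) (by rw [Nat.card_zpowers, hx]) :
    IsPGroup p (Subgroup.zpowers x)).exists_le_sylow
  obtain ⟨g, hg⟩ := MulAction.exists_smul_eq K P'' P
  have h1 : g * x * g⁻¹ ∈ ((g • P'' : Sylow p K) : Subgroup K) := by
    rw [Sylow.coe_subgroup_smul, Cfsg.Agent.Lib.Coprime.mem_conj_smul]
    simpa [mul_assoc] using hP'' (Subgroup.mem_zpowers x)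
  rw [hg] at h1
  simpa [mul_assoc] using hP.conj_mem _ h1 g⁻¹

theorem sylow_normal_iff_card {K : Type*} [Group K] [Finite K] {p : ℕ} [hp : Fact p.Prime]
    (P : Sylow p K) :
    (P : Subgroup K).Normal ↔
      Nat.card {x : K // ∃ n, orderOf x = p ^ n} = p ^ (Nat.card K).factorization p := by
  have hsub : (P : Set K) ⊆ {x : K | ∃ n, orderOf x = p ^ n} := fun x hx =>
    (IsPGroup.iff_orderOf.mp P.isPGroup' ⟨x, hx⟩).imp fun n hn => by
      rwa [Subgroup.orderOf_mk] at hn
  rw [← P.card_eq_multiplicity]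
  constructor
  · intro hP
    exact Nat.card_congr (Equiv.subtypeEquivRight fun x =>
      ⟨fun ⟨n, hn⟩ => mem_pSylow_of_normal P hP hn, fun hx => hsub hx⟩)
  · intro h
    have heq : (P : Set K) = {x : K | ∃ n, orderOf x = p ^ n} := by
      refine Set.eq_of_subset_of_ncard_le hsub ?_ (Set.toFinite _)
      rw [← Nat.card_coe_set_eq, ← Nat.card_coe_set_eq]
      exact h.le
    refine ⟨fun x hx g => ?_⟩
    have hx' : x ∈ (P : Set K) := hx
    show g * x * g⁻¹ ∈ (P : Set K)
    rw [heq, Set.mem_setOf_eq] at hx' ⊢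
    rwa [← MulAut.conj_apply, ← MulEquiv.coe_toMonoidHom,
      orderOf_injective (MulAut.conj g).toMonoidHom (MulAut.conj g).injective x]

theorem isSolvable_of_towerFive {Q : Type u} [Group Q] [Finite Q] (h : TowerFive Q) :
    Group.IsSolvable Q := by
  obtain ⟨c, hc⟩ : ∃ c, Nat.card Q = c := ⟨_, rfl⟩
  induction c using Nat.strongRecOn generalizing Q with
  | ind c ih =>
  by_cases hsmall : ∀ q : ℕ, q.Prime → q ∣ Nat.card Q → q ≤ 3
  · refine Characters.isSolvable_of_card_eq_pow_mul_pow (a := (Nat.card Q).factorization 2)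
      (b := (Nat.card Q).factorization 3) Nat.prime_two Nat.prime_three ?_
    refine Nat.eq_of_factorization_eq Nat.card_pos.ne' (by positivity) fun q => ?_
    rw [Nat.factorization_mul (by positivity) (by positivity), Nat.prime_two.factorization_pow,
      Nat.prime_three.factorization_pow, Finsupp.add_apply, Finsupp.single_apply, Finsupp.single_apply]
    by_cases h2 : q = 2
    · subst h2; simp
    by_cases h3 : q = 3
    · subst h3; simp
    rw [if_neg (Ne.symm h2), if_neg (Ne.symm h3), add_zero]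
    by_cases hq : q.Prime
    · refine Nat.factorization_eq_zero_of_not_dvd fun hd => ?_
      have := hsmall q hq hd
      have := hq.two_le
      omega
    · exact Nat.factorization_eq_zero_of_not_prime _ hq
  push Not at hsmall
  obtain ⟨q0, hq0, hq0d, hq3⟩ := hsmall
  obtain ⟨p, hp, hpd, hmax⟩ := exists_max_prime (Nat.card_pos (α := Q)).ne'
    (fun h1 => hq0.ne_one (Nat.dvd_one.mp (h1 ▸ hq0d)))
  haveI := Fact.mk hp
  have hp5 : 5 ≤ p := by
    have h1 := hmax q0 hq0 hq0d
    have h4 : p ≠ 4 := fun h => by subst h; norm_num at hp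
    omega
  let P : Sylow p Q := default
  obtain ⟨m, hm, hc1, hc2⟩ := h p hp5
  have hpm : ¬ p ∣ m := fun hd => lt_irrefl p (hc2 p hp hd)
  have hm0 : m ≠ 0 := fun h0 => hpm (h0 ▸ dvd_zero p)
  have hc0 : cnt p Q ≠ 0 := fun h0 => Nat.card_pos.ne' (by rw [hm, h0, zero_mul])
  have hcnt : cnt p Q = p ^ (Nat.card Q).factorization p := by
    have hk := Nat.eq_prime_pow_of_unique_prime_dvd hc0 fun {d} hd hdd =>
      le_antisymm (hmax d hd (hdd.trans ⟨m, hm⟩)) (hc1 d hd hdd)
    rw [hm, Nat.factorization_mul hc0 hm0, Finsupp.add_apply,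
      Nat.factorization_eq_zero_of_not_dvd hpm, add_zero, hk, hp.factorization_pow,
      Finsupp.single_eq_same]
  haveI hPn : (P : Subgroup Q).Normal := by
    rw [sylow_normal_iff_card, ← hcnt]
    refine Nat.card_congr (Equiv.subtypeEquivRight fun x => ⟨fun ⟨n, hn⟩ q hq hd => ?_, fun hx => ?_⟩)
    · rw [hn] at hd
      exact ((Nat.prime_dvd_prime_iff_eq hq hp).mp (hq.dvd_of_dvd_pow hd)).ge
    · exact ⟨_, Nat.eq_prime_pow_of_unique_prime_dvd (orderOf_pos x).ne' fun {d} hd hdd =>
        le_antisymm (hmax d hd (hdd.trans (orderOf_dvd_natCard x))) (hx d hd hdd)⟩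
  have hP1 : 1 < Nat.card P :=
    hp.one_lt.trans_le (Nat.le_of_dvd Nat.card_pos (P.dvd_card_of_dvd_card hpd))
  have hq : Group.IsSolvable (Q ⧸ (P : Subgroup Q)) := by
    refine ih _ ?_ ((towerFive_iff (P : Subgroup Q) hp (eq_of_dvd_card_pGroup hp P) hmax).mp h) rfl
    rw [← hc, ← Coprime.card_quotient_mul_card (P : Subgroup Q)]
    exact lt_mul_of_one_lt_right Nat.card_pos hP1
  exact (Group.isSolvable_iff_subgroup_quotient (P : Subgroup Q)).mpr
    ⟨by have := IsPGroup.isNilpotent P.isPGroup'; infer_instance, hq⟩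

/-- The facts used about a Frobenius group. -/
theorem frobenius_data {F : Type*} [Group F] [Finite F] {C : Subgroup F}
    (hC : Cfsg.IsFrobeniusComplement C) :
    ∃ K : Subgroup F, K.Normal ∧ 1 < Nat.card K ∧ 1 < Nat.card C ∧ K.index = Nat.card C ∧
      (Nat.card K).Coprime (Nat.card C) ∧
      (∀ x : F, orderOf x ∣ Nat.card K ∨ orderOf x ∣ Nat.card C) ∧ Group.IsNilpotent K ∧
      ∀ _ : K.Normal, SmallSylows (F ⧸ K) := by
  obtain ⟨K, hKn, hKset, hdisj, hsup, hK0, hcompl, hKcard⟩ := Frobenius.exists_frobeniusKernel hC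
  haveI := hKn
  haveI : Nontrivial K := (Subgroup.nontrivial_iff_ne_bot K).mpr hK0
  have hfpf := Frobenius.frobeniusKernel_fixedPointFree hC hKset
  let φ : C →* MulAut K := (MulAut.conjNormal (H := K)).comp C.subtype
  have hφ : ∀ c : C, c ≠ 1 → ∀ k : K, φ c k = k → k = 1 := by
    intro c hc k hk
    refine Subtype.ext (hfpf c c.2 (fun h => hc (Subtype.ext h)) k k.2 ?_)
    have h1 : (c : F) * k * (c : F)⁻¹ = k := by
      have := congrArg Subtype.val hk
      rwa [show ((φ c k : K) : F) = _ from MulAut.conjNormal_apply (c : F) k] at this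
    calc (c : F) * k = (c : F) * k * (c : F)⁻¹ * c := by group
      _ = k * c := by rw [h1]
  refine ⟨K, hKn, Finite.one_lt_card, Finite.one_lt_card_iff_nontrivial.mpr
    ((Subgroup.nontrivial_iff_ne_bot C).mpr hC.1), hcompl.symm.index_eq_card,
    hKcard ▸ (Frobenius.card_coprime_index hC).symm, fun x => ?_, ?_, fun _ => ?_⟩
  · by_cases hx : x ∈ K
    · exact Or.inl (Subgroup.orderOf_dvd_natCard K hx)
    · right
      rw [← SetLike.mem_coe, hKset] at hx
      simp only [Cfsg.frobeniusKernel, Set.mem_setOf_eq, not_or, not_forall, not_not] at hx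
      obtain ⟨g, hg⟩ := hx.2
      rw [← Cfsg.Agent.Lib.Coprime.card_conj_smul g C]
      exact Subgroup.orderOf_dvd_natCard _ hg
  · obtain ⟨r, hr, hrd⟩ := Nat.exists_prime_and_dvd (n := Nat.card C)
      (fun h => hC.1 (Subgroup.card_eq_one.mp h))
    haveI := Fact.mk hr
    obtain ⟨c, hc⟩ := exists_prime_orderOf_dvd_card' (G := C) r hrd
    refine Solvable.FixedPointFree.isNilpotent_of_fixedPointFree hr (φ c) ?_
      (hφ c fun h => hr.ne_one (by rw [← hc, h, orderOf_one]))
    rw [← map_pow, ← hc, pow_orderOf_eq_one, map_one]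
  · refine smallSylows_of_surjective ((QuotientGroup.mk' K).comp C.subtype) ?_ ?_
    · intro y
      obtain ⟨x, rfl⟩ := QuotientGroup.mk'_surjective K y
      have hx : x ∈ K ⊔ C := hsup ▸ Subgroup.mem_top x
      rw [← SetLike.mem_coe, Subgroup.normal_mul] at hx
      obtain ⟨k, hk, c, hc, rfl⟩ := Set.mem_mul.mp hx
      refine ⟨⟨c, hc⟩, ?_⟩
      rw [map_mul, (QuotientGroup.eq_one_iff k).mpr hk |> (fun h => (h : QuotientGroup.mk' K k = 1)),
        one_mul]
      rfl
    · intro p hp S hS
      haveI := Fact.mk hp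
      rcases Frobenius.isCyclic_or_quaternion_of_fixedPointFree φ hφ S hS with h | ⟨h2, m, ⟨e⟩⟩
      · refine ⟨fun _ => h, ?_⟩
        obtain ⟨g, hg⟩ := h.exists_generator
        refine ⟨g, g, le_antisymm ((Subgroup.closure_le _).mpr (by simp)) fun x hx => ?_⟩
        obtain ⟨j, hj⟩ := hg ⟨x, hx⟩
        have : (g : C) ^ j = x := congrArg Subtype.val hj
        rw [← this]
        exact zpow_mem (Subgroup.subset_closure (Set.mem_insert _ _)) j
      · refine ⟨fun hne => absurd h2 hne, ?_⟩
        haveI : NeZero (2 ^ (m + 1)) := ⟨by positivity⟩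
        let f : QuaternionGroup (2 ^ (m + 1)) →* C := S.subtype.comp e.symm.toMonoidHom
        refine ⟨f (.a 1), f (.xa 0), ?_⟩
        rw [← Involutions.quaternionHom_range f, MonoidHom.range_comp,
          MonoidHom.range_eq_top.mpr e.symm.surjective, ← MonoidHom.range_eq_map,
          Subgroup.range_subtype]

theorem card_sub_quotient {K : Type*} [Group K] [Finite K] (N : Subgroup K) [N.Normal]
    (hcop : (Nat.card N).Coprime N.index)
    (hmix : ∀ x : K, orderOf x ∣ Nat.card N ∨ orderOf x ∣ N.index) {m : ℕ} (hm : m ∣ N.index)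
    (hm1 : m ≠ 1) :
    Nat.card {x : K // orderOf x = m} = Nat.card N * Nat.card {y : K ⧸ N // orderOf y = m} := by
  let e : {x : K // orderOf x = m} ≃
      (QuotientGroup.mk ⁻¹' {y : K ⧸ N | orderOf y = m} : Set K) :=
    Equiv.subtypeEquivRight fun x => by
      show orderOf x = m ↔ orderOf (QuotientGroup.mk' N x) = m
      have key : orderOf x ∣ N.index → orderOf x = orderOf (QuotientGroup.mk' N x) := by
        intro hx
        refine Nat.dvd_antisymm ?_ (orderOf_map_dvd _ x)
        have h1 : x ^ orderOf (QuotientGroup.mk' N x) ∈ N := by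
          rw [← QuotientGroup.eq_one_iff]
          show QuotientGroup.mk' N (x ^ _) = 1
          rw [map_pow, pow_orderOf_eq_one]
        exact orderOf_dvd_of_pow_eq_one (orderOf_eq_one_iff.mp
          (Nat.eq_one_of_dvd_coprimes hcop (Subgroup.orderOf_dvd_natCard N h1)
            ((orderOf_pow_dvd _).trans hx)))
      refine ⟨fun h => (key (h ▸ hm)).symm.trans h, fun h => ?_⟩
      rcases hmix x with h1 | h1
      · refine absurd (Nat.eq_one_of_dvd_coprimes hcop ?_ hm) hm1
        exact h ▸ (orderOf_map_dvd _ x).trans h1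
      · exact (key h1).trans h
  rw [Nat.card_congr (e.trans (QuotientGroup.preimageMkEquivSubgroupProdSet N _)), Nat.card_prod]
  rfl

theorem quotient_orderType {F G : Type*} [Group F] [Finite F] [Group G] [Finite G]
    (hT : ∀ m : ℕ, Nat.card {g : F // orderOf g = m} = Nat.card {h : G // orderOf h = m})
    (K : Subgroup F) [K.Normal] (N : Subgroup G) [N.Normal]
    (hcard : Nat.card K = Nat.card N) (hidx : K.index = N.index)
    (hcop : (Nat.card K).Coprime K.index)
    (hK : ∀ x : F, orderOf x ∣ Nat.card K ∨ orderOf x ∣ K.index)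
    (hN : ∀ x : G, orderOf x ∣ Nat.card N ∨ orderOf x ∣ N.index) :
    ∀ m : ℕ, Nat.card {y : F ⧸ K // orderOf y = m} = Nat.card {y : G ⧸ N // orderOf y = m} := by
  intro m
  by_cases hm1 : m = 1
  · subst hm1
    simp only [orderOf_eq_one_iff, Nat.card_unique]
  by_cases hm : m ∣ K.index
  · have h1 := card_sub_quotient K hcop hK hm hm1
    have h2 := card_sub_quotient N (hcard ▸ hidx ▸ hcop) hN (hidx ▸ hm) hm1
    rw [hT m, h2, hcard] at h1
    exact (Nat.eq_of_mul_eq_mul_left Nat.card_pos h1).symm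
  · haveI : IsEmpty {y : F ⧸ K // orderOf y = m} :=
      ⟨fun y => hm (y.2 ▸ Subgroup.index_eq_card K ▸ orderOf_dvd_natCard y.1)⟩
    haveI : IsEmpty {y : G ⧸ N // orderOf y = m} :=
      ⟨fun y => hm (hidx ▸ y.2 ▸ Subgroup.index_eq_card N ▸ orderOf_dvd_natCard y.1)⟩
    rw [Nat.card_of_isEmpty, Nat.card_of_isEmpty]

theorem exists_orderOf_equiv {F G : Type*} [Group F] [Finite F] [Group G] [Finite G]
    (hT : ∀ m : ℕ, Nat.card {g : F // orderOf g = m} = Nat.card {h : G // orderOf h = m}) :
    ∃ e : F ≃ G, ∀ g, orderOf (e g) = orderOf g := by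
  let E : ∀ m : ℕ, {g : F // orderOf g = m} ≃ {h : G // orderOf h = m} := fun m =>
    Classical.choice (Finite.card_eq.mp (hT m))
  exact ⟨Equiv.ofFiberEquiv E, fun g => Equiv.ofFiberEquiv_map E g⟩

theorem towerFive_congr {F G : Type*} [Group F] [Finite F] [Group G] [Finite G]
    (hT : ∀ m : ℕ, Nat.card {g : F // orderOf g = m} = Nat.card {h : G // orderOf h = m})
    (h : TowerFive F) : TowerFive G := by
  obtain ⟨e, he⟩ := exists_orderOf_equiv hT
  have hcnt : ∀ r, cnt r F = cnt r G := fun r =>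
    Nat.card_congr (e.subtypeEquiv fun g => by rw [he])
  intro r h5
  obtain ⟨m, hm, h1, h2⟩ := h r h5
  exact ⟨m, by rw [← Nat.card_congr e, hm, hcnt r], hcnt r ▸ h1, h2⟩

/-- Let F be a finite Frobenius group (it has a Frobenius complement) and G a finite group with the same order type as F (for every m the same number of elements of order m). Then G is a Frobenius group; moreover G is solvable if and only if F is. -/
theorem result {F G : Type*} [Group F] [Finite F] [Group G] [Finite G] (hF : (∃ C : Subgroup F, Cfsg.IsFrobeniusComplement C)) (hT : (∀ m : ℕ, Nat.card {g : F // orderOf g = m} = Nat.card {h : G // orderOf h = m})) :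
    (∃ C : Subgroup G, Cfsg.IsFrobeniusComplement C) ∧ (Group.IsSolvable G ↔ Group.IsSolvable F) := by
  classical
  obtain ⟨C, hC⟩ := hF
  obtain ⟨K, hKn, hK1, hC1, hKidx, hcop, hmixF, hKnil, hWF⟩ := frobenius_data hC
  haveI := hKn
  haveI := hKnil
  obtain ⟨e, he⟩ := exists_orderOf_equiv hT
  have hGF : Nat.card G = Nat.card K * Nat.card C := by
    rw [← Nat.card_congr e, ← K.card_mul_index, hKidx]
  have hmixG : ∀ x : G, orderOf x ∣ Nat.card K ∨ orderOf x ∣ Nat.card C := fun x => by
    have := hmixF (e.symm x)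
    rwa [← he, e.apply_symm_apply] at this
  have hSyl : ∀ p : ℕ, p.Prime → p ∣ Nat.card K →
      ∃ P : Subgroup G, P.Normal ∧ Nat.card P = p ^ (Nat.card K).factorization p := by
    intro p hp hpK
    haveI := Fact.mk hp
    have hpC : ¬ p ∣ Nat.card C := fun h => hp.ne_one (Nat.eq_one_of_dvd_coprimes hcop hpK h)
    have hval : (Nat.card F).factorization p = (Nat.card K).factorization p := by
      rw [← K.card_mul_index, hKidx, Nat.factorization_mul Nat.card_pos.ne' Nat.card_pos.ne',
        Finsupp.add_apply, Nat.factorization_eq_zero_of_not_dvd hpC, add_zero]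
    let P0 : Sylow p K := default
    have hP0n : P0.toSubgroup.Normal := inferInstance
    haveI := P0.characteristic_of_normal hP0n
    let PF : Sylow p F := Sylow.ofCard (P0.toSubgroup.map K.subtype) (by
      rw [Subgroup.card_subtype, P0.card_eq_multiplicity, hval])
    have hPFn : (PF : Subgroup F).Normal := by
      show (P0.toSubgroup.map K.subtype).Normal
      infer_instance
    have hcount := (sylow_normal_iff_card PF).mp hPFn
    let PG : Sylow p G := default
    refine ⟨PG, (sylow_normal_iff_card PG).mpr ?_, ?_⟩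
    · rw [← Nat.card_congr (e.subtypeEquiv (p := fun x => ∃ n, orderOf x = p ^ n)
        fun g => by rw [he]), hcount, Nat.card_congr e]
    · rw [PG.card_eq_multiplicity, ← Nat.card_congr e, hval]
  obtain ⟨N, hNn, hNcop, hNK⟩ : ∃ N : Subgroup G, N.Normal ∧ (Nat.card N).Coprime (Nat.card C) ∧
      ∀ p ∈ (Nat.card K).primeFactors, p ^ (Nat.card K).factorization p ∣ Nat.card N := by
    have : ∀ S : Finset ℕ, S ⊆ (Nat.card K).primeFactors → ∃ N : Subgroup G, N.Normal ∧
        (Nat.card N).Coprime (Nat.card C) ∧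
        ∀ p ∈ S, p ^ (Nat.card K).factorization p ∣ Nat.card N := by
      intro S
      induction S using Finset.induction with
      | empty =>
        intro _
        exact ⟨⊥, inferInstance, by simp, by simp⟩
      | insert a S ha ih =>
        intro hsub
        obtain ⟨hasub, hSsub⟩ := Finset.insert_subset_iff.mp hsub
        obtain ⟨N0, hN0n, hN0c, hN0⟩ := ih hSsub
        obtain ⟨P, hPn, hPc⟩ := hSyl a (Nat.prime_of_mem_primeFactors hasub)
          (Nat.dvd_of_mem_primeFactors hasub)
        haveI := hN0n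
        haveI := hPn
        refine ⟨N0 ⊔ P, inferInstance, ?_, fun p hp => ?_⟩
        · refine Nat.Coprime.coprime_dvd_left (Dvd.intro _
            (Cfsg.Agent.Lib.Cores.card_sup_mul_card_inf N0 P)) ?_
          refine Nat.Coprime.mul_left hN0c ?_
          rw [hPc]
          exact (hcop.coprime_dvd_left (Nat.dvd_of_mem_primeFactors hasub)).pow_left _
        · rcases Finset.mem_insert.mp hp with rfl | hp
          · exact hPc ▸ Subgroup.card_dvd_of_le le_sup_right
          · exact (hN0 p hp).trans (Subgroup.card_dvd_of_le le_sup_left)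
    exact this _ subset_rfl
  haveI := hNn
  have hNcard : Nat.card N = Nat.card K := by
    refine Nat.dvd_antisymm (hNcop.dvd_of_dvd_mul_right (hGF ▸ Subgroup.card_subgroup_dvd_card N)) ?_
    rw [← Nat.factorization_le_iff_dvd Nat.card_pos.ne' Nat.card_pos.ne']
    intro p
    by_cases hp : p ∈ (Nat.card K).primeFactors
    · exact (Nat.Prime.pow_dvd_iff_le_factorization (Nat.prime_of_mem_primeFactors hp)
        Nat.card_pos.ne').mp (hNK p hp)
    · rw [← Nat.support_factorization, Finsupp.notMem_support_iff] at hp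
      rw [hp]; exact Nat.zero_le _
  have hNidx : N.index = Nat.card C := by
    have h1 := N.card_mul_index
    rw [hGF, hNcard] at h1
    exact Nat.eq_of_mul_eq_mul_left Nat.card_pos h1
  obtain ⟨D, hD⟩ := Subgroup.exists_right_complement'_of_coprime (N := N)
    (by rw [hNcard, hNidx]; exact hcop)
  have hDcard : Nat.card D = Nat.card C := by rw [← hNidx, hD.symm.index_eq_card]
  have hDC : Cfsg.IsFrobeniusComplement D := by
    refine Frobenius.isFrobeniusComplement_of_fixedPointFree hD.disjoint.eq_bot hD.sup_eq_top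
      (fun h => by rw [h, Subgroup.card_bot] at hNcard; omega)
      (fun h => by rw [h, Subgroup.card_bot] at hDcard; omega) ?_
    intro d hd hd1 n hn hc
    by_contra hn1
    have ho : orderOf (d * n) = orderOf d * orderOf n :=
      (show Commute d n from hc).orderOf_mul_eq_mul_orderOf_of_coprime
        ((hcop.symm.coprime_dvd_left (hDcard ▸ Subgroup.orderOf_dvd_natCard D hd)).coprime_dvd_right
          (hNcard ▸ Subgroup.orderOf_dvd_natCard N hn))
    rcases hmixG (d * n) with h | h <;> rw [ho] at h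
    · exact hd1 (orderOf_eq_one_iff.mp (Nat.eq_one_of_dvd_coprimes hcop
        ((dvd_mul_right _ _).trans h) (hDcard ▸ Subgroup.orderOf_dvd_natCard D hd)))
    · exact hn1 (orderOf_eq_one_iff.mp (Nat.eq_one_of_dvd_coprimes hcop
        (hNcard ▸ Subgroup.orderOf_dvd_natCard N hn) ((dvd_mul_left _ _).trans h)))
  refine ⟨⟨D, hDC⟩, ?_⟩
  obtain ⟨K', hK'n, -, -, hK'idx, hcop', hmix', hK'nil, hWG⟩ := frobenius_data hDC
  haveI := hK'n
  haveI := hK'nil
  rw [hDcard] at hK'idx hcop' hmix'
  have hK'card : Nat.card K' = Nat.card K := by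
    have h1 := K'.card_mul_index
    rw [hGF, hK'idx] at h1
    exact Nat.eq_of_mul_eq_mul_right Nat.card_pos h1
  have hQ := quotient_orderType hT K K' hK'card.symm (by rw [hKidx, hK'idx])
    (hKidx ▸ hcop) (hKidx ▸ hmixF) (hK'idx ▸ hmix')
  rw [Group.isSolvable_iff_subgroup_quotient K', Group.isSolvable_iff_subgroup_quotient K]
  exact ⟨fun h => ⟨inferInstance, isSolvable_of_towerFive
      (towerFive_congr (fun m => (hQ m).symm) (towerFive_of_solvable h.2 (hWG hK'n)))⟩,
    fun h => ⟨inferInstance, isSolvable_of_towerFive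
      (towerFive_congr hQ (towerFive_of_solvable h.2 (hWF hKn)))⟩⟩

end Cfsg.Agent.S3999
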