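import Cfsg.Statements.S4001
import Cfsg.Agent.Lib.Frobenius.TwoFrobenius
import Cfsg.Agent.Lib.Cores

set_option autoImplicit false
open Cfsg

namespace Cfsg.Agent.S4001

open Cfsg.Agent.Lib
open scoped IsMulCommutative

/-- Let G be a 2-Frobenius group: it has normal subgroups H < K with K a Frobenius group with kernel H and G/H a Frobenius group with kernel K/H. Then G is solvable; K/H has odd order coprime to the order of H and to the order of G/K (it is the image of an odd-order Hall subgroup); G/K is cyclic; and the prime graph of G has exactly two connected components, both complete: for distinct primes p, q dividing the order of G, G has an element of order pq exactly when p and q either both divide the order of K/H or both do not. -/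
theorem result {G : Type*} [Group G] [Finite G] (H K : Subgroup G) [H.Normal] [K.Normal] (hlt : H < K)
    (hK : ∃ C : Subgroup ↥K, Cfsg.IsFrobeniusComplement C ∧ Cfsg.frobeniusKernel C = (H.subgroupOf K : Set ↥K))
    (hGH : ∃ C : Subgroup (G ⧸ H), Cfsg.IsFrobeniusComplement C ∧ Cfsg.frobeniusKernel C = (K.map (QuotientGroup.mk' H) : Set (G ⧸ H))) :
    Group.IsSolvable G ∧ Odd (Nat.card (↥K ⧸ H.subgroupOf K)) ∧
      Nat.Coprime (Nat.card (↥K ⧸ H.subgroupOf K)) (Nat.card ↥H * Nat.card (G ⧸ K)) ∧ IsCyclic (G ⧸ K) ∧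
      ∀ p q : ℕ, p.Prime → q.Prime → p ≠ q → p ∣ Nat.card G → q ∣ Nat.card G →
        ((∃ g : G, orderOf g = p * q) ↔ (p ∣ Nat.card (↥K ⧸ H.subgroupOf K) ↔ q ∣ Nat.card (↥K ⧸ H.subgroupOf K))) := by

  obtain ⟨C, hC, hCker⟩ := hK
  obtain ⟨D, hD, hDker⟩ := hGH
  set π := QuotientGroup.mk' H with hπ
  set H' := H.subgroupOf K with hH'
  set K' := K.map π with hK'
  haveI : K'.Normal := (inferInstance : K.Normal).map _ (QuotientGroup.mk'_surjective H)
  obtain ⟨N1, -, hN1, hN1d, hN1s, hN1b, hN1c, hN1card⟩ := Lib.Frobenius.exists_frobeniusKernel hC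
  obtain rfl : N1 = H' := SetLike.coe_injective (hN1.trans hCker)
  obtain ⟨N2, -, hN2, hN2d, hN2s, hN2b, hN2c, hN2card⟩ := Lib.Frobenius.exists_frobeniusKernel hD
  obtain rfl : N2 = K' := SetLike.coe_injective (hN2.trans hDker)
  have hfpfC := Lib.Frobenius.fixedPointFree_of_isFrobeniusComplement hC hN1d
  have hfpfD := Lib.Frobenius.fixedPointFree_of_isFrobeniusComplement hD hN2d
  -- `C` maps isomorphically onto the upper kernel
  let f : C →* K' := ((π.subgroupMap K).comp C.subtype)
  have hf : Function.Bijective f := by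
    refine ⟨?_, ?_⟩
    · rw [injective_iff_map_eq_one]
      intro c hc
      have h1 : ((c : K) : G) ∈ H := (QuotientGroup.eq_one_iff _).mp (congrArg Subtype.val hc)
      exact Subtype.ext (Subgroup.mem_bot.mp (hN1d.le ⟨h1, c.2⟩))
    · rintro ⟨_, k, hk, rfl⟩
      obtain ⟨h, hh, c, hc, hhc⟩ := Subgroup.mem_sup_of_normal_left.mp (hN1s.ge (Subgroup.mem_top (⟨k, hk⟩ : K)))
      refine ⟨⟨c, hc⟩, Subtype.ext ?_⟩
      show π (c : G) = π k
      rw [show k = (h : G) * (c : G) from (congrArg Subtype.val hhc).symm, map_mul,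
        show π (h : G) = 1 from (QuotientGroup.eq_one_iff _).mpr hh, one_mul]
  let e : C ≃* K' := MulEquiv.ofBijective f hf
  haveI hH'nt : Nontrivial H' := (Subgroup.nontrivial_iff_ne_bot _).mpr hN1b
  let φC : C →* MulAut H' := (MulAut.conjNormal (H := H')).comp C.subtype
  have hφC : ∀ a : C, a ≠ 1 → ∀ v : H', φC a v = v → v = 1 := by
    intro a ha v hv
    have h1 : (a : K) * v * (a : K)⁻¹ = v := congrArg Subtype.val hv
    exact Subtype.ext (hfpfC a a.2 (fun h => ha (Subtype.ext h)) v v.2 (mul_inv_eq_iff_eq_mul.mp h1))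
  obtain ⟨hodd, hcyc⟩ := Lib.Frobenius.odd_isCyclic_of_kernel_complement hD hN2d
    (φC.comp e.symm.toMonoidHom) (fun a ha => hφC _ (fun h => ha (e.symm.injective (h.trans (map_one _).symm))))
  -- the top factor
  let g : D →* G ⧸ K := (QuotientGroup.map H K (MonoidHom.id G) hlt.le).comp D.subtype
  have hg : Function.Bijective g := by
    refine ⟨?_, ?_⟩
    · rw [injective_iff_map_eq_one]
      rintro ⟨d, hd⟩ h1
      obtain ⟨d, rfl⟩ := QuotientGroup.mk'_surjective H d
      have h2 : d ∈ K := (QuotientGroup.eq_one_iff d).mp h1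
      exact Subtype.ext (Subgroup.mem_bot.mp (hN2d.le ⟨⟨d, h2, rfl⟩, hd⟩))
    · intro y
      obtain ⟨y, rfl⟩ := QuotientGroup.mk_surjective y
      obtain ⟨_, ⟨k, hk, rfl⟩, d, hd, hkd⟩ := Subgroup.mem_sup_of_normal_left.mp (hN2s.ge (Subgroup.mem_top (π y)))
      refine ⟨⟨d, hd⟩, ?_⟩
      have h1 := congrArg (QuotientGroup.map H K (MonoidHom.id G) hlt.le) hkd
      rw [map_mul, show QuotientGroup.map H K (MonoidHom.id G) hlt.le (π k) = 1 from
        (QuotientGroup.eq_one_iff k).mpr hk, one_mul] at h1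
      exact h1
  haveI hDcomm : IsMulCommutative D := ⟨⟨fun a b => by
    let c : D →* MulAut K' := (MulAut.conjNormal (H := K')).comp D.subtype
    have hinj : Function.Injective c := by
      rw [injective_iff_map_eq_one]
      intro a ha
      by_contra ha1
      obtain ⟨n, hn, hn1⟩ := (Subgroup.bot_or_exists_ne_one K').resolve_left hN2b
      have h1 : (a : G ⧸ H) * n * (a : G ⧸ H)⁻¹ = n :=
        congrArg Subtype.val (DFunLike.congr_fun ha (⟨n, hn⟩ : K'))
      exact hn1 (hfpfD a a.2 (fun h => ha1 (Subtype.ext h)) n hn (mul_inv_eq_iff_eq_mul.mp h1))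
    apply hinj
    apply (IsCyclic.mulAutMulEquiv K').injective
    simp only [map_mul]
    exact mul_comm _ _⟩⟩
  have hDcyc : IsCyclic D := by
    haveI : Nontrivial K' := (Subgroup.nontrivial_iff_ne_bot _).mpr hN2b
    haveI := Lib.Frobenius.isCyclic_of_commutative (G := K') ((MulAut.conjNormal (H := K')).comp D.subtype)
      (fun a ha v hv => Subtype.ext (hfpfD a a.2 (fun h => ha (Subtype.ext h)) v v.2
        (mul_inv_eq_iff_eq_mul.mp (congrArg Subtype.val hv)))) ⊤ (fun a _ b _ => mul_comm' a b)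
    exact isCyclic_of_surjective _ (Subgroup.topEquiv (G := D)).surjective
  have hGK : IsCyclic (G ⧸ K) := isCyclic_of_surjective g hg.2
  have hHnil : Group.IsNilpotent H := by
    haveI := Lib.Frobenius.isNilpotent_normal_complement hC hN1d
    exact Group.nilpotent_of_mulEquiv (Subgroup.subgroupOfEquivOfLe hlt.le)
  haveI := hHnil
  have hKcard : Nat.card (K ⧸ H') = Nat.card C := by
    rw [← Subgroup.index_eq_card]; exact hN1c.symm.index_eq_card
  have hK'card : Nat.card K' = Nat.card C := (Nat.card_congr e.toEquiv).symm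
  have hDcard : Nat.card (G ⧸ K) = Nat.card D := (Nat.card_congr (Equiv.ofBijective g hg)).symm
  have hH'card : Nat.card H' = Nat.card H := Nat.card_congr (Subgroup.subgroupOfEquivOfLe hlt.le).toEquiv
  have hcopH : (Nat.card C).Coprime (Nat.card H) := by
    rw [← hH'card, hN1card]; exact Lib.Frobenius.card_coprime_index hC
  have hcopD : (Nat.card C).Coprime (Nat.card D) := by
    rw [← hK'card, hN2card]; exact (Lib.Frobenius.card_coprime_index hD).symm
  have hsolv : Group.IsSolvable G := by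
    haveI : IsCyclic K' := hcyc
    haveI : Group.IsSolvable K' := Group.isSolvable_of_comm fun a b => mul_comm' a b
    haveI : Group.IsSolvable (G ⧸ K) := Group.isSolvable_of_comm fun a b => mul_comm' a b
    haveI : Group.IsSolvable H' := by
      haveI := Lib.Frobenius.isNilpotent_normal_complement hC hN1d
      infer_instance
    haveI : Group.IsSolvable K := by
      refine Group.isSolvable_of_ker_le_range H'.subtype (π.subgroupMap K) fun x hx => ?_
      exact ⟨⟨x, (QuotientGroup.eq_one_iff (x : G)).mp (congrArg Subtype.val hx)⟩, rfl⟩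
    exact Group.isSolvable_of_ker_le_range K.subtype (QuotientGroup.mk' K)
      (by rw [QuotientGroup.ker_mk', Subgroup.range_subtype])
  refine ⟨hsolv, by rw [hKcard, ← hK'card]; exact hodd, by
    rw [hKcard, hDcard]; exact hcopH.mul_right hcopD, hGK, ?_⟩
  rw [hKcard]
  have hcardG : Nat.card G = Nat.card D * Nat.card C * Nat.card H := by
    rw [Subgroup.card_eq_card_quotient_mul_card_subgroup K, hDcard,
      Subgroup.card_eq_card_quotient_mul_card_subgroup H', hKcard, hH'card, mul_assoc]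
  -- an element of prime order of one kind does not commute with one of the other kind
  have hsep : ∀ p q : ℕ, p.Prime → q.Prime → p ∣ Nat.card C → ¬ q ∣ Nat.card C →
      ¬ ∃ x : G, orderOf x = p * q := by
    rintro p q hp hq hpC hqC ⟨x, hx⟩
    have hy : orderOf (x ^ q) = p := by
      rw [orderOf_pow_of_dvd hq.ne_zero (hx ▸ Dvd.intro_left _ rfl), hx, Nat.mul_div_cancel _ hq.pos]
    have hz : orderOf (x ^ p) = q := by
      rw [orderOf_pow_of_dvd hp.ne_zero (hx ▸ Dvd.intro _ rfl), hx, Nat.mul_div_cancel_left _ hp.pos]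
    have hyK : x ^ q ∈ K := by
      rw [← QuotientGroup.eq_one_iff, ← orderOf_eq_one_iff]
      exact Nat.eq_one_of_dvd_coprimes (hcopD.coprime_dvd_left hpC) (hy ▸ orderOf_map_dvd (QuotientGroup.mk' K) _)
        (hDcard ▸ orderOf_dvd_natCard _)
    have hyH : x ^ q ∉ H := fun h => by
      have : p ∣ Nat.card H := hy ▸ (Subgroup.orderOf_mk (x ^ q) h ▸ orderOf_dvd_natCard _)
      exact hp.not_dvd_one (hcopH.gcd_eq_one ▸ Nat.dvd_gcd hpC this)
    have hxy : Commute (x ^ p) (x ^ q) := Commute.pow_pow_self x p q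
    have hzK : x ^ p ∈ K := by
      by_contra hzK
      have hzK' : π (x ^ p) ∉ K' := by
        rintro ⟨k, hk, hke⟩
        refine hzK ?_
        have : (x ^ p)⁻¹ * k ∈ H := QuotientGroup.eq.mp hke.symm
        simpa using mul_mem hk (inv_mem (hlt.le this))
      obtain ⟨d, hd⟩ : ∃ d : G ⧸ H, d⁻¹ * π (x ^ p) * d ∈ D := by
        by_contra hc'
        push Not at hc'
        have hmem : π (x ^ p) ∈ Cfsg.frobeniusKernel D := Lib.Frobenius.mem_frobeniusKernel_iff.mpr (Or.inr hc')
        rw [hDker] at hmem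
        exact hzK' hmem
      have hy' : d⁻¹ * π (x ^ q) * d ∈ K' := by
        simpa using (inferInstance : K'.Normal).conj_mem _ ⟨_, hyK, rfl⟩ d⁻¹
      have h1 := hfpfD _ hd (fun h => hzK' (by
          rw [show π (x ^ p) = 1 from by
            calc π (x ^ p) = d * (d⁻¹ * π (x ^ p) * d) * d⁻¹ := by group
              _ = 1 := by rw [h]; group]
          exact K'.one_mem)) _ hy' (by
        calc d⁻¹ * π (x ^ p) * d * (d⁻¹ * π (x ^ q) * d) = d⁻¹ * (π (x ^ p) * π (x ^ q)) * d := by group
          _ = _ := by rw [← map_mul, hxy.eq, map_mul]; group)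
      refine hyH ((QuotientGroup.eq_one_iff _).mp ?_)
      calc π (x ^ q) = d * (d⁻¹ * π (x ^ q) * d) * d⁻¹ := by group
        _ = 1 := by rw [h1]; group
    set yK : K := ⟨x ^ q, hyK⟩
    set zK : K := ⟨x ^ p, hzK⟩
    have hzH : zK ∈ H' := by
      show x ^ p ∈ H
      rw [← QuotientGroup.eq_one_iff, ← orderOf_eq_one_iff]
      have hd1 : orderOf (π (x ^ p)) ∣ Nat.card C := by
        rw [← hK'card, ← Subgroup.orderOf_mk (H := K') (π (x ^ p)) ⟨_, hzK, rfl⟩]
        exact orderOf_dvd_natCard _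
      rcases (Nat.dvd_prime hq).mp (hz ▸ orderOf_map_dvd π (x ^ p)) with h | h
      · exact h
      · exact absurd (h ▸ hd1) hqC
    have hyK' : yK ∉ Cfsg.frobeniusKernel C := by rw [hCker]; exact hyH
    obtain ⟨c, hc⟩ : ∃ c : K, c⁻¹ * yK * c ∈ C := by
      by_contra hc'
      push Not at hc'
      exact hyK' (Lib.Frobenius.mem_frobeniusKernel_iff.mpr (Or.inr hc'))
    have hz' : c⁻¹ * zK * c ∈ H' := by simpa using (inferInstance : H'.Normal).conj_mem _ hzH c⁻¹
    have hcom : yK * zK = zK * yK := Subtype.ext hxy.eq.symm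
    have h1 := hfpfC _ hc (fun h => hyH (by
        rw [show x ^ q = ((c * (c⁻¹ * yK * c) * c⁻¹ : K) : G) by
          rw [show c * (c⁻¹ * yK * c) * c⁻¹ = yK by group], h]
        simp)) _ hz' (by
      calc c⁻¹ * yK * c * (c⁻¹ * zK * c) = c⁻¹ * (yK * zK) * c := by group
        _ = _ := by rw [hcom]; group)
    have hz1 : x ^ p = 1 := congrArg Subtype.val (show zK = 1 by
      calc zK = c * (c⁻¹ * zK * c) * c⁻¹ := by group
        _ = 1 := by rw [h1]; group)
    rw [hz1, orderOf_one] at hz
    exact hq.one_lt.ne hz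
  -- a lift of an element of a quotient
  have hlift : ∀ {Q : Type _} [Group Q] [Finite Q] (θ : G →* Q), Function.Surjective θ → ∀ n : ℕ,
      IsCyclic Q → n ∣ Nat.card Q → ∃ x : G, orderOf x = n := by
    intro Q _ _ θ hθ n hQ hn
    obtain ⟨y, hy⟩ := IsCyclic.exists_ofOrder_eq_natCard (α := Q)
    obtain ⟨x, rfl⟩ := hθ y
    exact ⟨_, orderOf_pow_orderOf_div (orderOf_pos x).ne' (hn.trans (hy ▸ orderOf_map_dvd θ x))⟩
  have hmulH : ∀ p q : ℕ, p.Prime → q.Prime → p ≠ q → p ∣ Nat.card H → ¬ q ∣ Nat.card C → q ∣ Nat.card G →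
      ∃ x : G, orderOf x = p * q := by
    intro p q hp hq hpq hpH hqC hqG
    haveI := Fact.mk hp
    haveI := Fact.mk hq
    have hcommute : ∀ y z : G, orderOf y = p → orderOf z = q → Commute y z → ∃ x : G, orderOf x = p * q :=
      fun y z hy hz hc => ⟨y * z, by
        rw [hc.orderOf_mul_eq_mul_orderOf_of_coprime (by rw [hy, hz]; exact (Nat.coprime_primes hp hq).mpr hpq), hy, hz]⟩
    -- central elements of order `p` in `H`
    set V : Subgroup G :=
      { carrier := {v | v ∈ H ∧ (∀ h ∈ H, h * v = v * h) ∧ v ^ p = 1}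
        one_mem' := ⟨one_mem _, fun h _ => by rw [mul_one, one_mul], one_pow p⟩
        mul_mem' := fun {a b} ha hb => ⟨mul_mem ha.1 hb.1,
          fun h hh => by rw [← mul_assoc, ha.2.1 h hh, mul_assoc, hb.2.1 h hh, mul_assoc],
          by rw [(show Commute a b from hb.2.1 a ha.1).mul_pow, ha.2.2, hb.2.2, one_mul]⟩
        inv_mem' := fun {a} ha => ⟨inv_mem ha.1, fun h hh => (Commute.inv_right (ha.2.1 h hh)).eq,
          by rw [inv_pow, ha.2.2, inv_one]⟩ }
    haveI hVn : V.Normal := ⟨fun v hv y => ⟨(inferInstance : H.Normal).conj_mem v hv.1 y, fun h hh => by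
      have hh' : y⁻¹ * h * y ∈ H := by simpa using (inferInstance : H.Normal).conj_mem h hh y⁻¹
      calc h * (y * v * y⁻¹) = y * (y⁻¹ * h * y * v) * y⁻¹ := by group
        _ = y * v * y⁻¹ * h := by rw [hv.2.1 _ hh']; group,
      by rw [conj_pow, hv.2.2, mul_one, mul_inv_cancel]⟩⟩
    haveI hVc : IsMulCommutative V := ⟨⟨fun a b => Subtype.ext (b.2.2.1 a a.2.1)⟩⟩
    haveI hVnt : Nontrivial V := by
      let P : Sylow p H := default
      have hPc : (P : Subgroup H) ⊓ Subgroup.center H ≠ ⊥ :=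
        Lib.Solvable.inf_center_ne_bot (P.ne_bot_of_dvd_card hpH)
      haveI : Nontrivial ((P : Subgroup H) ⊓ Subgroup.center H : Subgroup H) := (Subgroup.nontrivial_iff_ne_bot _).mpr hPc
      obtain ⟨k, hk0, hk⟩ := (P.2.to_le (inf_le_left : (P : Subgroup H) ⊓ Subgroup.center H ≤ P)).nontrivial_iff_card.mp inferInstance
      obtain ⟨⟨v, hv'⟩, hv⟩ := exists_prime_orderOf_dvd_card'
        (G := ((P : Subgroup H) ⊓ Subgroup.center H : Subgroup H)) p (hk ▸ dvd_pow_self p hk0.ne')
      rw [Subgroup.orderOf_mk] at hv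
      refine ⟨⟨⟨(v : G), v.2, fun h hh => congrArg Subtype.val (Subgroup.mem_center_iff.mp hv'.2 ⟨h, hh⟩), ?_⟩, 1, ?_⟩⟩
      · rw [← hv, ← Subgroup.orderOf_coe, pow_orderOf_eq_one]
      · intro he
        have hval : (v : G) = 1 := congrArg Subtype.val he
        have : v = 1 := Subtype.ext hval
        rw [this, orderOf_one] at hv
        exact hp.one_lt.ne hv
    have hVord : ∀ v : V, v ≠ 1 → orderOf (v : G) = p := fun v hv =>
      orderOf_eq_prime v.2.2.2 fun h => hv (Subtype.ext h)
    obtain ⟨z, hz⟩ := exists_prime_orderOf_dvd_card' (G := G) q hqG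
    by_cases hzH : z ∈ H
    · -- both primes in the nilpotent group `H`
      obtain ⟨v, hv⟩ := exists_ne (1 : V)
      exact hcommute v z (hVord v hv) hz (v.2.2.1 z hzH).symm
    let φ : G ⧸ H →* MulAut V := QuotientGroup.lift H (MulAut.conjNormal (H := V)) fun h hh => by
      refine MulEquiv.ext fun v => Subtype.ext ?_
      show h * v * h⁻¹ = v
      rw [v.2.2.1 h hh, mul_inv_cancel_right]
    have hπzK : π z ∉ K' := by
      intro hmem
      refine hzH ((QuotientGroup.eq_one_iff z).mp (orderOf_eq_one_iff.mp ?_))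
      rcases (Nat.dvd_prime hq).mp (hz ▸ orderOf_map_dvd π z) with h | h
      · exact h
      · exact absurd (hK'card ▸ h ▸ Subgroup.orderOf_mk (π z) hmem ▸ orderOf_dvd_natCard (⟨π z, hmem⟩ : K')) hqC
    have hVcard : (Nat.card K').Coprime (Nat.card V) := by
      rw [hK'card]
      exact hcopH.coprime_dvd_right (Subgroup.card_dvd_of_le fun v hv => hv.1)
    obtain ⟨v, hv1, hv⟩ := Lib.Frobenius.exists_fixed_of_kernel_fixedPointFree (V := V) φ hD hDker.symm hVcard
      (fun v hv => by
        by_contra hv1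
        obtain ⟨c, hc, hc1⟩ := (Subgroup.bot_or_exists_ne_one C).resolve_left hC.1
        have h1 : (c : G) * v * (c : G)⁻¹ = v :=
          congrArg Subtype.val (hv (π c) ⟨c, c.2, rfl⟩)
        have h2 := hfpfC c hc hc1 ⟨v, hlt.le v.2.1⟩ v.2.1 (Subtype.ext (mul_inv_eq_iff_eq_mul.mp h1))
        exact hv1 (Subtype.ext (congrArg Subtype.val h2 :))) hπzK
    have h1 : z * v * z⁻¹ = v := congrArg Subtype.val hv
    exact hcommute v z (hVord v hv1) hz ((mul_inv_eq_iff_eq_mul.mp h1).symm)
  intro p q hp hq hpq hpG hqG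
  constructor
  · rintro ⟨x, hx⟩
    by_contra hne
    by_cases hpC : p ∣ Nat.card C
    · exact hsep p q hp hq hpC (fun h => hne (iff_of_true hpC h)) ⟨x, hx⟩
    · have hqC : q ∣ Nat.card C := by
        by_contra h
        exact hne (iff_of_false hpC h)
      exact hsep q p hq hp hqC hpC ⟨x, hx.trans (mul_comm _ _)⟩
  · intro hiff
    by_cases hpC : p ∣ Nat.card C
    · have hdiv : p * q ∣ Nat.card C := ((Nat.coprime_primes hp hq).mpr hpq).mul_dvd_of_dvd_of_dvd hpC (hiff.mp hpC)
      obtain ⟨y, hy⟩ := IsCyclic.exists_ofOrder_eq_natCard (α := K')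
      obtain ⟨y, hyK⟩ := y
      rw [Subgroup.orderOf_mk, hK'card] at hy
      obtain ⟨k, hk, rfl⟩ := hyK
      exact ⟨_, orderOf_pow_orderOf_div (orderOf_pos k).ne' (hdiv.trans (hy ▸ orderOf_map_dvd π k))⟩
    · have hqC : ¬ q ∣ Nat.card C := fun h => hpC (hiff.mpr h)
      by_cases hpH : p ∣ Nat.card H
      · exact hmulH p q hp hq hpq hpH hqC hqG
      by_cases hqH : q ∣ Nat.card H
      · obtain ⟨x, hx⟩ := hmulH q p hq hp hpq.symm hqH hpC hpG
        exact ⟨x, hx.trans (mul_comm _ _)⟩
      refine hlift (QuotientGroup.mk' K) (QuotientGroup.mk'_surjective K) (p * q) hGK ?_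
      rw [hDcard]
      refine ((Nat.coprime_primes hp hq).mpr hpq).mul_dvd_of_dvd_of_dvd ?_ ?_
      · rw [hcardG] at hpG
        exact ((Nat.Prime.dvd_mul hp).mp (((Nat.Prime.dvd_mul hp).mp hpG).resolve_right hpH)).resolve_right hpC
      · rw [hcardG] at hqG
        exact ((Nat.Prime.dvd_mul hq).mp (((Nat.Prime.dvd_mul hq).mp hqG).resolve_right hqH)).resolve_right hqC

end Cfsg.Agent.S4001
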