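import Cfsg.Statements.S4002
import Cfsg.Agent.Lib.Frobenius.Structure
import Cfsg.Agent.Lib.Cores
import Cfsg.Agent.Lib.Coprime.Hall
import Mathlib.NumberTheory.Bertrand
import Mathlib.GroupTheory.SchurZassenhaus

set_option autoImplicit false
open Cfsg

namespace Cfsg.Agent.S4002

open Cfsg.Agent.Lib

universe u

/-- A power of an element of order divisible by `n` has order `n`. -/
theorem exists_orderOf_eq {G : Type*} [Group G] [Finite G] {g : G} {n : ℕ} (h : n ∣ orderOf g) :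
    ∃ x : G, orderOf x = n :=
  ⟨_, orderOf_pow_orderOf_div (orderOf_pos g).ne' h⟩

/-- A soluble group of fixed-point-free automorphisms of order divisible by two primes has an element
whose order is their product. -/
theorem exists_orderOf_mul_of_fpf {V L : Type*} [Group V] [Group L] [Finite V] [Nontrivial V] [Finite L]
    [Group.IsSolvable L] (φ : L →* MulAut V)
    (hfpf : ∀ a : L, a ≠ 1 → ∀ v : V, φ a v = v → v = 1) {q r : ℕ} (hq : q.Prime) (hr : r.Prime)
    (hqr : q ≠ r) (hqL : q ∣ Nat.card L) (hrL : r ∣ Nat.card L)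
    (hpi : ∀ t : ℕ, t.Prime → t ∣ Nat.card L → t = q ∨ t = r) : ∃ a : L, orderOf a = q * r := by
  haveI : Nontrivial L := Finite.one_lt_card_iff_nontrivial.mp
    (lt_of_lt_of_le hq.one_lt (Nat.le_of_dvd Nat.card_pos hqL))
  obtain ⟨t, ht, hct⟩ : ∃ t, ∃ (_ : Fact (Nat.Prime t)), Cfsg.pCore t L ≠ ⊥ := by
    by_contra hno
    push Not at hno
    exact Cores.fittingSubgroup_ne_bot_of_isSolvable (G := L) inferInstance
      (le_bot_iff.mp (Cores.fittingSubgroup_le_of_pCore_le fun t ht => (hno t ⟨ht⟩).le))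
  haveI : Nontrivial (Cfsg.pCore t L) := (Subgroup.nontrivial_iff_ne_bot _).mpr hct
  have hP := Cores.pCore_isPGroup t L
  obtain ⟨n, hn0, hn⟩ := hP.nontrivial_iff_card.mp inferInstance
  haveI := hP.center_nontrivial
  obtain ⟨m, hm0, hm⟩ := ((hP.to_subgroup (Subgroup.center (Cfsg.pCore t L))).nontrivial_iff_card).mp inferInstance
  obtain ⟨⟨b, hbc⟩, hb⟩ := exists_prime_orderOf_dvd_card' (G := Subgroup.center (Cfsg.pCore t L)) t
    (hm ▸ dvd_pow_self t hm0.ne')
  rw [Subgroup.orderOf_mk] at hb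
  have hbL : orderOf (b : L) = t := by rw [Subgroup.orderOf_coe, hb]
  have htd : t ∣ Nat.card L := hbL ▸ orderOf_dvd_natCard _
  obtain ⟨s, hs, hst, hsd⟩ : ∃ s : ℕ, s.Prime ∧ s ≠ t ∧ s ∣ Nat.card L := by
    rcases hpi t ht.out htd with rfl | rfl
    · exact ⟨r, hr, fun h => hqr h.symm, hrL⟩
    · exact ⟨q, hq, hqr, hqL⟩
  haveI := Fact.mk hs
  obtain ⟨a, ha⟩ := exists_prime_orderOf_dvd_card' (G := L) s hsd
  have hnorm : a ∈ Subgroup.normalizer (Subgroup.zpowers (b : L) : Set L) := by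
    have key : ∀ g : L, g * (b : L) * g⁻¹ ∈ Subgroup.zpowers (b : L) := by
      intro g
      haveI : (Cfsg.pCore t L).Normal := inferInstance
      have hc : g * (b : L) * g⁻¹ ∈ Cfsg.pCore t L := this.conj_mem _ b.2 g
      refine Lib.Frobenius.mem_zpowers_of_commute φ hfpf ht.out
        (by rw [← MulAut.conj_apply, MulEquiv.orderOf_eq, hbL]) hbL ?_
      exact congrArg Subtype.val (Subgroup.mem_center_iff.mp hbc ⟨_, hc⟩)
    rw [Subgroup.mem_normalizer_iff]
    intro x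
    constructor
    · intro hx
      obtain ⟨i, rfl⟩ := Subgroup.mem_zpowers_iff.mp hx
      rw [← conj_zpow]
      exact zpow_mem (key a) i
    · intro hx
      obtain ⟨i, hi⟩ := Subgroup.mem_zpowers_iff.mp hx
      have h1 := zpow_mem (key a⁻¹) i
      rw [conj_zpow, hi] at h1
      simpa [mul_assoc] using h1
  have hcomm : Commute a (b : L) := Lib.Frobenius.commute_of_mem_normalizer φ hfpf (by rw [ha]; exact hs) (by rw [hbL]; exact ht.out) hnorm
  have ho : orderOf (a * (b : L)) = s * t := by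
    rw [hcomm.orderOf_mul_eq_mul_orderOf_of_coprime (by rw [ha, hbL]; exact (Nat.coprime_primes hs ht.out).mpr hst), ha, hbL]
  refine ⟨a * (b : L), ho.trans ?_⟩
  rcases hpi t ht.out htd with rfl | rfl <;> rcases hpi s hs hsd with rfl | rfl
  · exact absurd rfl hst
  · exact mul_comm _ _
  · rfl
  · exact absurd rfl hst

/-- The case in which the first prime has a normal Sylow subgroup. -/
theorem core_case {G : Type u} [Group G] [Finite G] [Group.IsSolvable G] {p q r : ℕ}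
    (hp : p.Prime) (hq : q.Prime) (hr : r.Prime) (hpq : p ≠ q) (hpr : p ≠ r) (hqr : q ≠ r)
    (V : Subgroup G) [V.Normal] (hV : IsPGroup p V) (hVb : V ≠ ⊥) (hVi : ¬ p ∣ V.index)
    (hqG : q ∣ Nat.card G) (hrG : r ∣ Nat.card G) :
    ∃ g : G, orderOf g = p * q ∨ orderOf g = p * r ∨ orderOf g = q * r := by
  haveI := Fact.mk hp
  haveI : Nontrivial V := (Subgroup.nontrivial_iff_ne_bot _).mpr hVb
  obtain ⟨k, hk⟩ := IsPGroup.iff_card.mp hV
  obtain ⟨K, hK⟩ := Subgroup.exists_right_complement'_of_coprime (N := V)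
    (by rw [hk]; exact ((Nat.Prime.coprime_iff_not_dvd hp).mpr hVi).pow_left k)
  have hKc : Nat.card K = V.index := hK.symm.index_eq_card.symm
  have hsplit : ∀ s : ℕ, s.Prime → s ≠ p → s ∣ Nat.card G → s ∣ Nat.card K := by
    intro s hs hsp hsG
    rw [hKc]
    rw [← V.index_mul_card, hk] at hsG
    rcases (Nat.Prime.dvd_mul hs).mp hsG with h | h
    · exact h
    · exact absurd ((Nat.prime_dvd_prime_iff_eq hs hp).mp (hs.dvd_of_dvd_pow h)) hsp
  -- a Hall subgroup for the other two primes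
  obtain ⟨L, hLpi, hLidx⟩ := Lib.Coprime.exists_hall_of_solvable (G := K) (fun s => s = q ∨ s = r)
  have hdivL : ∀ s : ℕ, s.Prime → (s = q ∨ s = r) → s ∣ Nat.card K → s ∣ Nat.card L := by
    intro s hs hsqr hsK
    rw [← L.index_mul_card] at hsK
    rcases (Nat.Prime.dvd_mul hs).mp hsK with h | h
    · exact absurd hsqr (hLidx s hs h)
    · exact h
  have hqL := hdivL q hq (Or.inl rfl) (hsplit q hq (Ne.symm hpq) hqG)
  have hrL := hdivL r hr (Or.inr rfl) (hsplit r hr (Ne.symm hpr) hrG)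
  let φ : L →* MulAut V := ((MulAut.conjNormal (H := V)).comp K.subtype).comp L.subtype
  by_cases hfpf : ∀ a : L, a ≠ 1 → ∀ v : V, φ a v = v → v = 1
  · obtain ⟨a, ha⟩ := exists_orderOf_mul_of_fpf φ hfpf hq hr hqr hqL hrL hLpi
    exact ⟨((a : K) : G), Or.inr (Or.inr (by rw [Subgroup.orderOf_coe, Subgroup.orderOf_coe, ha]))⟩
  simp only [not_forall, exists_prop] at hfpf
  obtain ⟨a, ha1, v, hav, hv1⟩ := hfpf
  obtain ⟨s, hs, hsa⟩ := Nat.exists_prime_and_dvd (mt orderOf_eq_one_iff.mp ha1)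
  have hsqr := hLpi s hs (hsa.trans (orderOf_dvd_natCard a))
  have hsp : s ≠ p := by rcases hsqr with rfl | rfl; exacts [Ne.symm hpq, Ne.symm hpr]
  obtain ⟨j, hj⟩ := hV v
  obtain ⟨i, hi, hiv⟩ := (Nat.dvd_prime_pow hp).mp (orderOf_dvd_of_pow_eq_one hj)
  have hi0 : i ≠ 0 := fun h0 => hv1 (orderOf_eq_one_iff.mp (by rw [hiv, h0, pow_zero]))
  set g : G := ((a : K) : G)
  have hgv : Commute g (v : G) := mul_inv_eq_iff_eq_mul.mp (congrArg Subtype.val hav)
  have hog : orderOf g = orderOf a := by rw [Subgroup.orderOf_coe, Subgroup.orderOf_coe]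
  have hov : orderOf (v : G) = p ^ i := by rw [Subgroup.orderOf_coe, hiv]
  obtain ⟨x, hx⟩ := exists_orderOf_eq (g := g) (n := s) (hog ▸ hsa)
  obtain ⟨y, hy⟩ := exists_orderOf_eq (g := (v : G)) (n := p) (hov ▸ dvd_pow_self p hi0)
  have hgp : orderOf (g ^ (orderOf g / s)) = s := orderOf_pow_orderOf_div (orderOf_pos g).ne' (hog ▸ hsa)
  have hvp : orderOf ((v : G) ^ (orderOf (v : G) / p)) = p :=
    orderOf_pow_orderOf_div (orderOf_pos (v : G)).ne' (hov ▸ dvd_pow_self p hi0)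
  have ho : orderOf (g ^ (orderOf g / s) * (v : G) ^ (orderOf (v : G) / p)) = s * p := by
    rw [(hgv.pow_pow _ _).orderOf_mul_eq_mul_orderOf_of_coprime
      (by rw [hgp, hvp]; exact (Nat.coprime_primes hs hp).mpr hsp), hgp, hvp]
  refine ⟨g ^ (orderOf g / s) * (v : G) ^ (orderOf (v : G) / p), ?_⟩
  rcases hsqr with rfl | rfl
  · exact Or.inl (ho.trans (mul_comm _ _))
  · exact Or.inr (Or.inl (ho.trans (mul_comm _ _)))

/-- Lucido's three primes lemma. -/
theorem three_primes (n : ℕ) : ∀ (G : Type u) [Group G] [Finite G] [Group.IsSolvable G],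
    Nat.card G = n → ∀ p q r : ℕ, p.Prime → q.Prime → r.Prime → p ≠ q → p ≠ r → q ≠ r →
      p ∣ n → q ∣ n → r ∣ n →
      ∃ g : G, orderOf g = p * q ∨ orderOf g = p * r ∨ orderOf g = q * r := by
  induction n using Nat.strong_induction_on with
  | _ n ih =>
  intro G _ _ _ hn p q r hp hq hr hpq hpr hqr hpn hqn hrn
  haveI : Nontrivial G := Finite.one_lt_card_iff_nontrivial.mp
    (lt_of_lt_of_le hp.one_lt (Nat.le_of_dvd Nat.card_pos (hn ▸ hpn)))
  obtain ⟨t, ht, hct⟩ : ∃ t, ∃ (_ : Fact (Nat.Prime t)), Cfsg.pCore t G ≠ ⊥ := by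
    by_contra hno
    push Not at hno
    exact Cores.fittingSubgroup_ne_bot_of_isSolvable (G := G) inferInstance
      (le_bot_iff.mp (Cores.fittingSubgroup_le_of_pCore_le fun t ht => (hno t ⟨ht⟩).le))
  set V := Cfsg.pCore t G
  obtain ⟨k, hk⟩ := IsPGroup.iff_card.mp (Cores.pCore_isPGroup t G)
  have hdvd : ∀ s : ℕ, s.Prime → s ≠ t → s ∣ n → s ∣ Nat.card (G ⧸ V) := by
    intro s hs hst hsn
    rw [← hn, Subgroup.card_eq_card_quotient_mul_card_subgroup V, hk] at hsn
    rcases (Nat.Prime.dvd_mul hs).mp hsn with h | h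
    · exact h
    · exact absurd ((Nat.prime_dvd_prime_iff_eq hs ht.out).mp (hs.dvd_of_dvd_pow h)) hst
  by_cases hall : p ∣ Nat.card (G ⧸ V) ∧ q ∣ Nat.card (G ⧸ V) ∧ r ∣ Nat.card (G ⧸ V)
  · have hlt : Nat.card (G ⧸ V) < n := by
      rw [← hn, Subgroup.card_eq_card_quotient_mul_card_subgroup V]
      exact lt_mul_of_one_lt_right Nat.card_pos (V.one_lt_card_iff_ne_bot.mpr hct)
    obtain ⟨x, hx⟩ := ih _ hlt (G ⧸ V) rfl p q r hp hq hr hpq hpr hqr hall.1 hall.2.1 hall.2.2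
    obtain ⟨g, rfl⟩ := QuotientGroup.mk'_surjective V x
    have hd := orderOf_map_dvd (QuotientGroup.mk' V) g
    rcases hx with h | h | h <;> rw [h] at hd <;> obtain ⟨y, hy⟩ := exists_orderOf_eq hd
    · exact ⟨y, Or.inl hy⟩
    · exact ⟨y, Or.inr (Or.inl hy)⟩
    · exact ⟨y, Or.inr (Or.inr hy)⟩
  have hsylow : ¬ t ∣ V.index := by
    rw [Subgroup.index_eq_card]
    intro htd
    have h : ∀ s : ℕ, s.Prime → s ∣ n → s ∣ Nat.card (G ⧸ V) := fun s hs hsn => by
      by_cases hst : s = t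
      · exact hst ▸ htd
      · exact hdvd s hs hst hsn
    exact hall ⟨h p hp hpn, h q hq hqn, h r hr hrn⟩
  have hV := Cores.pCore_isPGroup t G
  rcases eq_or_ne t p with htp | htp
  · subst htp
    exact core_case hp hq hr hpq hpr hqr V hV hct hsylow (hn ▸ hqn) (hn ▸ hrn)
  rcases eq_or_ne t q with htq | htq
  · subst htq
    obtain ⟨g, h | h | h⟩ := core_case hq hp hr (Ne.symm hpq) hqr hpr V hV hct hsylow (hn ▸ hpn) (hn ▸ hrn)
    · exact ⟨g, Or.inl (h.trans (mul_comm _ _))⟩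
    · exact ⟨g, Or.inr (Or.inr h)⟩
    · exact ⟨g, Or.inr (Or.inl h)⟩
  rcases eq_or_ne t r with htr | htr
  · subst htr
    obtain ⟨g, h | h | h⟩ := core_case hr hp hq (Ne.symm hpr) (Ne.symm hqr) hpq V hV hct hsylow (hn ▸ hpn) (hn ▸ hqn)
    · exact ⟨g, Or.inr (Or.inl (h.trans (mul_comm _ _)))⟩
    · exact ⟨g, Or.inr (Or.inr (h.trans (mul_comm _ _)))⟩
    · exact ⟨g, Or.inl h⟩
  exact absurd ⟨hdvd p hp (Ne.symm htp) hpn, hdvd q hq (Ne.symm htq) hqn, hdvd r hr (Ne.symm htr) hrn⟩ hall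

/-- If the set of element orders of a finite group G is {1, 2, …, n} with n ≥ 7, then G is not solvable. -/
theorem result {G : Type*} [Group G] [Finite G] (n : ℕ) (hn : 7 ≤ n) (h : Set.range (orderOf : G → ℕ) = {k : ℕ | 1 ≤ k ∧ k ≤ n}) : ¬ Group.IsSolvable G := by

  intro hs
  obtain ⟨p, q, r, hp, hq, hr, hpq, hpr, hqr, hple, hqle, hrle, h1, h2, h3⟩ :
      ∃ p q r : ℕ, p.Prime ∧ q.Prime ∧ r.Prime ∧ p ≠ q ∧ p ≠ r ∧ q ≠ r ∧ p ≤ n ∧ q ≤ n ∧ r ≤ n ∧
        n < p * q ∧ n < p * r ∧ n < q * r := by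
    rcases lt_or_ge n 15 with h15 | h15
    · exact ⟨3, 5, 7, by norm_num, by norm_num, by norm_num, by norm_num, by norm_num, by norm_num,
        by omega, by omega, by omega, by omega, by omega, by omega⟩
    rcases lt_or_ge n 32 with h32 | h32
    · exact ⟨5, 7, 11, by norm_num, by norm_num, by norm_num, by norm_num, by norm_num, by norm_num,
        by omega, by omega, by omega, by omega, by omega, by omega⟩
    obtain ⟨a, ha, ha1, ha2⟩ := Nat.exists_prime_lt_and_le_two_mul (n / 2) (by omega)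
    obtain ⟨b, hb, hb1, hb2⟩ := Nat.exists_prime_lt_and_le_two_mul (n / 2 / 2) (by omega)
    obtain ⟨c, hc, hc1, hc2⟩ := Nat.exists_prime_lt_and_le_two_mul (n / 2 / 2 / 2) (by omega)
    have hb' : n < 4 * b := by omega
    have hc' : n < 8 * c := by omega
    have hbc : n < b * c := by
      by_contra hle
      push Not at hle
      have h1 : n * n < 32 * (b * c) := by
        calc n * n < (4 * b) * (8 * c) := Nat.mul_lt_mul'' hb' hc'
          _ = 32 * (b * c) := by ring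
      have h2 : 32 * (b * c) ≤ n * n := (Nat.mul_le_mul_left 32 hle).trans (Nat.mul_le_mul_right n h32)
      omega
    refine ⟨a, b, c, ha, hb, hc, by omega, by omega, by omega, by omega, by omega, by omega, ?_, ?_, hbc⟩
    · exact lt_of_lt_of_le hbc (le_trans (Nat.mul_le_mul_left b (show c ≤ a by omega))
        (Nat.mul_comm b a).le |>.trans le_rfl)
    · exact lt_of_lt_of_le hbc (Nat.mul_le_mul_right _ (by omega))
  have hocc : ∀ k, 1 ≤ k → k ≤ n → k ∣ Nat.card G := fun k hk1 hk2 => by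
    obtain ⟨g, hg⟩ := h.symm ▸ (show k ∈ {k : ℕ | 1 ≤ k ∧ k ≤ n} from ⟨hk1, hk2⟩)
    exact hg ▸ orderOf_dvd_natCard g
  haveI := hs
  obtain ⟨g, hg⟩ := three_primes (Nat.card G) G rfl p q r hp hq hr hpq hpr hqr (hocc p hp.pos hple)
    (hocc q hq.pos hqle) (hocc r hr.pos hrle)
  have hgn : orderOf g ∈ Set.range (orderOf : G → ℕ) := ⟨g, rfl⟩
  rw [h] at hgn
  rcases hg with e | e | e <;> rw [e] at hgn <;> exact absurd hgn.2 (by omega)

end Cfsg.Agent.S4002
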