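import Mathlib
import Cfsg.Statements.S4003
import Cfsg.Agent.Lib.OddLocal.UniquenessPassing
import Cfsg.Agent.Lib.OddLocal.Coprime
import Cfsg.Agent.Lib.Solvable.Nilpotent

set_option autoImplicit false
open Cfsg

namespace Cfsg.Agent.S4003

open Cfsg.Agent.Lib
open scoped commutatorElement

/-- Elements of order `d` are counted by the cyclic subgroups they generate. -/
theorem gens_card {H : Type*} [Group H] [Finite H] (d : ℕ) (Q : Subgroup H → Prop) :
    Nat.card {x : H // orderOf x = d ∧ Q (Subgroup.zpowers x)} =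
      Nat.totient d * Nat.card {C : Subgroup H // IsCyclic C ∧ Nat.card C = d ∧ Q C} := by
  classical
  let f : {x : H // orderOf x = d ∧ Q (Subgroup.zpowers x)} →
      {C : Subgroup H // IsCyclic C ∧ Nat.card C = d ∧ Q C} :=
    fun x => ⟨Subgroup.zpowers x.1, inferInstance, by rw [Nat.card_zpowers, x.2.1], x.2.2⟩
  have hfib : ∀ C : {C : Subgroup H // IsCyclic C ∧ Nat.card C = d ∧ Q C},
      Nat.card {x // f x = C} = Nat.totient d := by
    rintro ⟨C, hC, hCd, hQ⟩
    have hgen : ∀ g : C, orderOf g = d → Subgroup.zpowers (g : H) = C := fun g hg =>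
      Subgroup.eq_of_le_of_card_ge (Subgroup.zpowers_le.mpr g.2)
        (by rw [Nat.card_zpowers, Subgroup.orderOf_coe, hg, hCd])
    let e : {x // f x = ⟨C, hC, hCd, hQ⟩} ≃ {g : C // orderOf g = d} :=
      { toFun := fun x => ⟨⟨x.1.1, Subgroup.zpowers_le.mp
            (le_of_eq (congrArg Subtype.val x.2 : Subgroup.zpowers x.1.1 = C))⟩, by rw [Subgroup.orderOf_mk]; exact x.1.2.1⟩
        invFun := fun g => ⟨⟨(g.1 : H), by rw [Subgroup.orderOf_coe]; exact g.2,
            by rw [hgen g.1 g.2]; exact hQ⟩, Subtype.ext (hgen g.1 g.2)⟩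
        left_inv := fun x => rfl
        right_inv := fun g => rfl }
    have := Fintype.ofFinite ↥C
    rw [Nat.card_congr e, Nat.card_eq_fintype_card, Fintype.card_subtype]
    exact IsCyclic.card_orderOf_eq_totient (by rw [← Nat.card_eq_fintype_card, hCd])
  have := Fintype.ofFinite {C : Subgroup H // IsCyclic C ∧ Nat.card C = d ∧ Q C}
  rw [← Nat.card_congr (Equiv.sigmaFiberEquiv f), Nat.card_sigma,
    Finset.sum_congr rfl (fun C _ => hfib C), Finset.sum_const, Finset.card_univ,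
    Nat.card_eq_fintype_card (α := {C : Subgroup H // IsCyclic C ∧ Nat.card C = d ∧ Q C}),
    smul_eq_mul, mul_comm]

/-- Miller: in a noncyclic `p`-group, `p` odd, the number of elements of order `p ^ s` (`s ≥ 2`)
is a multiple of `p ^ s`. -/
theorem miller {R : Type*} [Group R] [Finite R] {p : ℕ} [hp : Fact p.Prime] (hodd : p ≠ 2)
    (hR : IsPGroup p R) (hnc : ¬ IsCyclic R) {s : ℕ} (hs : 2 ≤ s) :
    p ^ s ∣ Nat.card {x : R // orderOf x = p ^ s} := by
  classical
  obtain ⟨V, -, hV, hV2⟩ := OddLocal.exists_elementary_sq_of_not_cyclic (G := R) hodd ⊤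
    (hR.to_subgroup _) (fun h => hnc (Subgroup.topEquiv.isCyclic.mp h))
  obtain ⟨E, hEn, hE, hE2⟩ := OddLocal.exists_normal_elementary_sq hodd hR hV
    (by rw [hV2]; exact lt_self_pow₀ hp.out.one_lt one_lt_two)
  have : Group.IsNilpotent R := hR.isNilpotent
  set S := ⁅E, (⊤ : Subgroup R)⁆ with hSdef
  have hSE : S ≤ E := Subgroup.commutator_le_left _ _
  have hScard : Nat.card S ≤ p := by
    have hd : Nat.card S ∣ p ^ 2 := hE2 ▸ Subgroup.card_dvd_of_le hSE
    obtain ⟨i, hi, hiS⟩ := (Nat.dvd_prime_pow hp.out).mp hd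
    rcases Nat.lt_or_ge i 2 with h | h
    · rw [hiS]
      interval_cases i
      · simpa using hp.out.one_lt.le
      · simp
    · exfalso
      have heq : S = E := Subgroup.eq_of_le_of_card_ge hSE (by rw [hiS, hE2]; gcongr; exact hp.out.one_lt.le)
      obtain ⟨n, hn⟩ := Subgroup.nilpotent_iff_lowerCentralSeries.mp ‹Group.IsNilpotent R›
      have hle : ∀ k, E ≤ (⊤ : Subgroup R).lowerCentralSeries k := by
        intro k
        induction k with
        | zero => rw [Subgroup.lowerCentralSeries_zero]; exact le_top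
        | succ k ih =>
          rw [Subgroup.lowerCentralSeries_succ, ← heq]
          exact Subgroup.commutator_mono ih le_rfl
      have hbot : E = ⊥ := le_bot_iff.mp (hn ▸ hle n)
      rw [hbot, Subgroup.card_bot] at hE2
      exact (Nat.one_lt_pow two_ne_zero hp.out.one_lt).ne hE2
  have hScent : S ≤ Subgroup.center R := by
    by_cases hS : S = ⊥
    · rw [hS]; exact bot_le
    have h1 := Solvable.inf_center_ne_bot (N := S) hS
    have h2 : p ≤ Nat.card ↥(S ⊓ Subgroup.center R : Subgroup R) := by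
      obtain ⟨k, hk⟩ := IsPGroup.iff_card.mp (hR.to_subgroup (S ⊓ Subgroup.center R))
      rw [hk]
      refine Nat.le_self_pow ?_ p
      rintro rfl
      exact h1 (Subgroup.eq_bot_of_card_eq _ (by rw [hk, pow_zero]))
    have := Subgroup.eq_of_le_of_card_ge (inf_le_left : S ⊓ Subgroup.center R ≤ S)
      (hScard.trans h2)
    exact this ▸ inf_le_right
  -- right translation by `E` preserves the order
  have hpow : ∀ e ∈ E, ∀ x : R, (e * x) ^ p = x ^ p := by
    intro e he x
    set c := ⁅e, x⁆⁻¹ with hc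
    have hcS : c ∈ S := S.inv_mem (Subgroup.commutator_mem_commutator he (Subgroup.mem_top x))
    have hcc := Subgroup.mem_center_iff.mp (hScent hcS)
    have hxe : x * e = c * e * x := by rw [hc, commutatorElement_def]; group
    rw [OddLocal.mul_pow_of_central_commutator (hcc e) (hcc x) hxe, hE.2 e he, mul_one]
    obtain ⟨k, hk⟩ := hp.out.dvd_choose_self two_ne_zero
      (lt_of_le_of_ne hp.out.two_le (Ne.symm hodd))
    rw [hk, pow_mul, hE.2 c (hSE hcS), one_pow, one_mul]
  have hord : ∀ e ∈ E, ∀ x : R, orderOf x = p ^ s → orderOf (e * x) = p ^ s := by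
    intro e he x hx
    obtain ⟨t, rfl⟩ : ∃ t, s = t + 1 := ⟨s - 1, by omega⟩
    obtain ⟨t', rfl⟩ : ∃ t', t = t' + 1 := ⟨t - 1, by omega⟩
    have key : ∀ j : ℕ, (e * x) ^ p ^ (j + 1) = x ^ p ^ (j + 1) := fun j => by
      rw [pow_succ', pow_mul, hpow e he x, ← pow_mul]
    refine orderOf_eq_prime_pow ?_ ?_
    · rw [key t']
      intro h
      have := orderOf_dvd_of_pow_eq_one h
      rw [hx, Nat.pow_dvd_pow_iff_le_right hp.out.one_lt] at this
      omega
    · rw [key (t' + 1), ← hx, pow_orderOf_eq_one]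
  set π := QuotientGroup.mk' E with hπ
  let Tb : Set (R ⧸ E) := {u | ∃ x : R, orderOf x = p ^ s ∧ π x = u}
  let f : {x : R // orderOf x = p ^ s} → ↥Tb := fun x => ⟨π x.1, x.1, x.2, rfl⟩
  have hfib : ∀ u : ↥Tb, Nat.card {x // f x = u} = p ^ 2 := by
    rintro ⟨u, x0, hx0, rfl⟩
    rw [← hE2]
    refine (Nat.card_eq_of_bijective
      (fun e : E => (⟨⟨(e : R) * x0, hord e e.2 x0 hx0⟩, Subtype.ext ?_⟩ :
        {x // f x = ⟨π x0, x0, hx0, rfl⟩})) ⟨?_, ?_⟩).symm
    · show π ((e : R) * x0) = π x0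
      rw [map_mul, show π (e : R) = 1 from (QuotientGroup.eq_one_iff (e : R)).mpr e.2, one_mul]
    · intro a b h
      exact Subtype.ext (mul_right_cancel (congrArg (fun z => (z.1.1 : R)) h))
    · rintro ⟨⟨x, hx⟩, hfx⟩
      have h1 : π x = π x0 := congrArg Subtype.val hfx
      have h2 : x * x0⁻¹ ∈ E := by
        rw [← QuotientGroup.eq_one_iff (N := E)]
        show π (x * x0⁻¹) = 1
        rw [map_mul, map_inv, h1, mul_inv_cancel]
      exact ⟨⟨_, h2⟩, Subtype.ext (Subtype.ext (inv_mul_cancel_right x x0))⟩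
  have hT : Nat.card {x : R // orderOf x = p ^ s} = p ^ 2 * Nat.card ↥Tb := by
    have := Fintype.ofFinite ↥Tb
    rw [← Nat.card_congr (Equiv.sigmaFiberEquiv f), Nat.card_sigma,
      Finset.sum_congr rfl (fun C _ => hfib C), Finset.sum_const, Finset.card_univ,
      Nat.card_eq_fintype_card (α := ↥Tb), smul_eq_mul, mul_comm]
  let Q : Subgroup (R ⧸ E) → Prop := fun C => ∃ x : R, orderOf x = p ^ s ∧ Subgroup.zpowers (π x) = C
  have hQ : ∀ u : R ⧸ E, u ∈ Tb ↔ Q (Subgroup.zpowers u) := by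
    intro u
    constructor
    · rintro ⟨x, hx, rfl⟩
      exact ⟨x, hx, rfl⟩
    · rintro ⟨x, hx, hz⟩
      obtain ⟨k, hk⟩ := Subgroup.mem_zpowers_iff.mp (hz ▸ Subgroup.mem_zpowers u)
      obtain ⟨j, hj⟩ := Subgroup.mem_zpowers_iff.mp (hz.symm ▸ Subgroup.mem_zpowers (π x))
      refine ⟨x ^ k, ?_, by rw [map_zpow]; exact hk⟩
      have hpk : ¬ (p : ℤ) ∣ k := by
        intro hd
        have h1 : π x ^ (k * j - 1) = 1 := by
          rw [zpow_sub, zpow_mul, hk, hj, zpow_one, mul_inv_cancel]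
        have hne : π x ≠ 1 := by
          intro h
          have hxE : x ∈ E := (QuotientGroup.eq_one_iff x).mp h
          have := orderOf_dvd_of_pow_eq_one (hE.2 x hxE)
          rw [hx] at this
          nth_rewrite 2 [← pow_one p] at this
          rw [Nat.pow_dvd_pow_iff_le_right hp.out.one_lt] at this
          omega
        obtain ⟨i, hi⟩ := IsPGroup.iff_orderOf.mp (hR.to_quotient E) (π x)
        have h2 : (p : ℤ) ∣ k * j - 1 := by
          refine (Int.natCast_dvd_natCast.mpr ?_).trans (orderOf_dvd_iff_zpow_eq_one.mpr h1)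
          rw [hi]
          refine dvd_pow_self p ?_
          rintro rfl
          exact hne (orderOf_eq_one_iff.mp (hi.trans (pow_zero p)))
        have h3 : (p : ℤ) ∣ 1 := by
          have h4 := (hd.mul_right j).sub h2
          simpa using h4
        exact hp.out.one_lt.ne' (Nat.dvd_one.mp (Int.natCast_dvd_natCast.mp (by simpa using h3)))
      rw [← hx, orderOf_eq_orderOf_iff]
      intro n
      rw [← zpow_natCast, ← zpow_mul, ← orderOf_dvd_iff_zpow_eq_one, ← orderOf_dvd_iff_pow_eq_one, hx]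
      constructor
      · intro h
        have hco : IsCoprime ((p ^ s : ℕ) : ℤ) k := by
          push_cast
          exact ((Nat.prime_iff_prime_int.mp hp.out).irreducible.coprime_iff_not_dvd.mpr hpk).pow_left
        exact Int.natCast_dvd_natCast.mp (hco.dvd_of_dvd_mul_left h)
      · intro h
        exact (Int.natCast_dvd_natCast.mpr h).mul_left k
  have hsplit : Nat.card ↥Tb = Nat.card {u : R ⧸ E // orderOf u = p ^ (s - 1) ∧ Q (Subgroup.zpowers u)} +
      Nat.card {u : R ⧸ E // orderOf u = p ^ s ∧ Q (Subgroup.zpowers u)} := by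
    have hdisj : Disjoint {u : R ⧸ E | orderOf u = p ^ (s - 1) ∧ Q (Subgroup.zpowers u)}
        {u : R ⧸ E | orderOf u = p ^ s ∧ Q (Subgroup.zpowers u)} := by
      rw [Set.disjoint_left]
      rintro u ⟨h1, -⟩ ⟨h2, -⟩
      have := (Nat.pow_right_injective hp.out.two_le) (h1.symm.trans h2)
      omega
    have hun : Tb = {u : R ⧸ E | orderOf u = p ^ (s - 1) ∧ Q (Subgroup.zpowers u)} ∪
        {u : R ⧸ E | orderOf u = p ^ s ∧ Q (Subgroup.zpowers u)} := by
      ext u
      constructor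
      · intro hu
        obtain ⟨x, hx, rfl⟩ := hu
        have hd : orderOf (π x) ∣ p ^ s := hx ▸ orderOf_map_dvd π x
        obtain ⟨i, his, hi⟩ := (Nat.dvd_prime_pow hp.out).mp hd
        have hQ' : Q (Subgroup.zpowers (π x)) := ⟨x, hx, rfl⟩
        have hlow : s ≤ i + 1 := by
          by_contra hlt
          have h1 : x ^ p ^ i ∈ E := by
            rw [← QuotientGroup.eq_one_iff (N := E)]
            show π (x ^ p ^ i) = 1
            rw [map_pow, ← hi, pow_orderOf_eq_one]
          have h2 := hE.2 _ h1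
          rw [← pow_mul, ← pow_succ] at h2
          have := orderOf_dvd_of_pow_eq_one h2
          rw [hx, Nat.pow_dvd_pow_iff_le_right hp.out.one_lt] at this
          omega
        rcases Nat.lt_or_ge i s with h | h
        · exact Or.inl ⟨by rw [hi, show i = s - 1 by omega], hQ'⟩
        · exact Or.inr ⟨by rw [hi, show i = s by omega], hQ'⟩
      · rintro (⟨-, h⟩ | ⟨-, h⟩) <;> exact (hQ u).mpr h
    rw [Nat.card_coe_set_eq, hun, Set.ncard_union_eq hdisj (Set.toFinite _) (Set.toFinite _),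
      ← Nat.card_coe_set_eq, ← Nat.card_coe_set_eq]
    rfl
  rw [hT, hsplit, gens_card, gens_card, Nat.totient_prime_pow hp.out (by omega),
    Nat.totient_prime_pow hp.out (by omega)]
  obtain ⟨t, rfl⟩ : ∃ t, s = t + 2 := ⟨s - 2, by omega⟩
  rw [show t + 2 - 1 - 1 = t by omega, show t + 2 - 1 = t + 1 by omega]
  have hd : p ^ t ∣ p ^ t * (p - 1) * Nat.card {C : Subgroup (R ⧸ E) //
      IsCyclic C ∧ Nat.card C = p ^ (t + 1) ∧ Q C} + p ^ (t + 1) * (p - 1) *
        Nat.card {C : Subgroup (R ⧸ E) // IsCyclic C ∧ Nat.card C = p ^ (t + 2) ∧ Q C} :=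
    dvd_add ((dvd_mul_right _ _).mul_right _) (((pow_dvd_pow p t.le_succ).mul_right _).mul_right _)
  rw [show t + 2 = 2 + t by omega, pow_add p 2 t]
  rw [show t + 2 = 2 + t by omega, pow_add p 2 t] at hd
  exact mul_dvd_mul_left _ hd

/-- An action of `P` on subgroups by conjugation: counting modulo `p`. -/
theorem card_modEq_fixed {G : Type*} [Group G] [Finite G] {p : ℕ} [Fact p.Prime] {P : Subgroup G}
    (hP : IsPGroup p P) (S : G × Subgroup G → Prop)
    (hS : ∀ g ∈ P, ∀ z, S z → S (g * z.1 * g⁻¹, z.2.map (MulAut.conj g).toMonoidHom)) :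
    Nat.card {z // S z} ≡ Nat.card {z // S z ∧ (∀ g ∈ P, g * z.1 * g⁻¹ = z.1) ∧
      P ≤ Subgroup.normalizer (z.2 : Set G)} [MOD p] := by
  letI : MulAction P {z // S z} :=
    { smul := fun g z => ⟨((g : G) * z.1.1 * (g : G)⁻¹, z.1.2.map (MulAut.conj (g : G)).toMonoidHom),
        hS g g.2 z.1 z.2⟩
      one_smul := fun z => Subtype.ext (Prod.ext (by simp [HSMul.hSMul]) (by
        show z.1.2.map (MulAut.conj ((1 : P) : G)).toMonoidHom = z.1.2
        rw [OneMemClass.coe_one, map_one]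
        exact Subgroup.map_id _))
      mul_smul := fun g h z => Subtype.ext (Prod.ext
        (show ((g * h : P) : G) * z.1.1 * ((g * h : P) : G)⁻¹ =
            (g : G) * ((h : G) * z.1.1 * (h : G)⁻¹) * (g : G)⁻¹ by
          rw [Subgroup.coe_mul]; group)
        (show z.1.2.map (MulAut.conj ((g * h : P) : G)).toMonoidHom =
            (z.1.2.map (MulAut.conj (h : G)).toMonoidHom).map (MulAut.conj (g : G)).toMonoidHom by
          rw [Subgroup.map_map, Subgroup.coe_mul, map_mul]; rfl)) }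
  refine (hP.card_modEq_card_fixedPoints {z // S z}).trans ?_
  apply congrArg (· % p)
  refine Nat.card_congr
    { toFun := fun z => ⟨z.1.1, z.1.2, fun g hg => congrArg Prod.fst (congrArg Subtype.val (z.2 ⟨g, hg⟩)),
        fun g hg => Subgroup.mem_normalizer_iff_map_conj_eq.mpr
          (congrArg Prod.snd (congrArg Subtype.val (z.2 ⟨g, hg⟩)))⟩
      invFun := fun z => ⟨⟨z.1, z.2.1⟩, fun g => Subtype.ext (Prod.ext (z.2.2.1 g g.2)
        (Subgroup.mem_normalizer_iff_map_conj_eq.mp (z.2.2.2 g.2)))⟩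
      left_inv := fun z => rfl
      right_inv := fun z => rfl }

/-- Elements of order `a * b` for coprime `a`, `b`. -/
theorem card_orderOf_mul {G : Type*} [Group G] [Finite G] {a b : ℕ} (hab : Nat.Coprime a b)
    (ha : 0 < a) (hb : 0 < b) :
    Nat.card {g : G // orderOf g = a * b} =
      Nat.card {z : G × G // orderOf z.1 = b ∧ orderOf z.2 = a ∧ Commute z.1 z.2} := by
  refine (Nat.card_eq_of_bijective
    (fun z : {z : G × G // orderOf z.1 = b ∧ orderOf z.2 = a ∧ Commute z.1 z.2} =>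
      (⟨z.1.1 * z.1.2, ?_⟩ : {g : G // orderOf g = a * b})) ⟨?_, ?_⟩).symm
  · rw [z.2.2.2.orderOf_mul_eq_mul_orderOf_of_coprime (by rw [z.2.1, z.2.2.1]; exact hab.symm),
      z.2.1, z.2.2.1, mul_comm]
  · rintro ⟨⟨y, x⟩, hy, hx, hc⟩ ⟨⟨y', x'⟩, hy', hx', hc'⟩ h
    have h0 : y * x = y' * x' := congrArg Subtype.val h
    have h1 : y ^ a = y' ^ a := by
      have h := congrArg (· ^ a) h0
      simp only [hc.mul_pow, hc'.mul_pow] at h
      rwa [show x ^ a = 1 from hx ▸ pow_orderOf_eq_one x,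
        show x' ^ a = 1 from hx' ▸ pow_orderOf_eq_one x', mul_one, mul_one] at h
    obtain ⟨i, hi⟩ := exists_pow_eq_self_of_coprime (x := y) (n := a) (by rwa [hy])
    have h2 : (y' ^ a) ^ i = y' := by
      have hgcd : ((a * i : ℕ) : ℤ) ≡ 1 [ZMOD (orderOf y : ℤ)] := by
        rw [← zpow_eq_zpow_iff_modEq, zpow_natCast, zpow_one, pow_mul]
        exact hi
      rw [hy, ← hy', ← zpow_eq_zpow_iff_modEq, zpow_natCast, zpow_one, pow_mul] at hgcd
      exact hgcd
    have hyy : y = y' := by rw [← hi, h1, h2]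
    subst hyy
    exact Subtype.ext (Prod.ext rfl (mul_left_cancel h0))
  · rintro ⟨g, hg⟩
    have hbez := Nat.gcd_eq_gcd_ab a b
    rw [hab.gcd_eq_one, Nat.cast_one] at hbez
    set y := g ^ ((a : ℤ) * Nat.gcdA a b) with hy
    set x := g ^ ((b : ℤ) * Nat.gcdB a b) with hx
    have hc : Commute y x := (Commute.refl g).zpow_zpow _ _
    have hyx : y * x = g := by rw [hy, hx, ← zpow_add, ← hbez, zpow_one]
    have hgab : g ^ ((a : ℤ) * b) = 1 := by
      rw [← Nat.cast_mul, zpow_natCast, ← hg, pow_orderOf_eq_one]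
    have h1 : orderOf y ∣ b := by
      rw [orderOf_dvd_iff_pow_eq_one, hy, ← zpow_natCast, ← zpow_mul,
        show (a : ℤ) * Nat.gcdA a b * b = (a * b) * Nat.gcdA a b by ring, zpow_mul, hgab, one_zpow]
    have h2 : orderOf x ∣ a := by
      rw [orderOf_dvd_iff_pow_eq_one, hx, ← zpow_natCast, ← zpow_mul,
        show (b : ℤ) * Nat.gcdB a b * a = (a * b) * Nat.gcdB a b by ring, zpow_mul, hgab, one_zpow]
    have h3 : a * b ∣ orderOf y * orderOf x := by
      rw [← hg, ← hyx]
      exact hc.orderOf_mul_dvd_mul_orderOf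
    have h4 : a * b ≤ orderOf y * orderOf x :=
      Nat.le_of_dvd (Nat.mul_pos (orderOf_pos y) (orderOf_pos x)) h3
    have h5 := Nat.le_of_dvd hb h1
    have h6 := Nat.le_of_dvd ha h2
    refine ⟨⟨⟨y, x⟩, ?_, ?_, hc⟩, Subtype.ext hyx⟩
    · show orderOf y = b
      by_contra hne
      have := Nat.mul_le_mul (Nat.le_sub_one_of_lt (lt_of_le_of_ne h5 hne)) h6
      have : (b - 1) * a < b * a := Nat.mul_lt_mul_of_pos_right (by omega) ha
      nlinarith
    · show orderOf x = a
      by_contra hne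
      have := Nat.mul_le_mul h5 (Nat.le_sub_one_of_lt (lt_of_le_of_ne h6 hne))
      have : b * (a - 1) < b * a := Nat.mul_lt_mul_of_pos_left (by omega) hb
      nlinarith

/-- Let G be a finite group, p an odd prime dividing the order of G whose Sylow p-subgroups are not cyclic, and n = p^s·m with s > 1 and m coprime to p. Then the number of elements of G of order n is a multiple of p^s. -/
theorem result {G : Type*} [Group G] [Finite G] (p : ℕ) [Fact p.Prime] (hodd : p ≠ 2) (hpG : p ∣ Nat.card G)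
    (P : Sylow p G) (hP : ¬ IsCyclic ↥(P : Subgroup G)) (s m : ℕ) (hs : 1 < s) (hm : Nat.Coprime p m) :
    p ^ s ∣ Nat.card {g : G // orderOf g = p ^ s * m} := by
  classical
  have hp : p.Prime := Fact.out
  have hm0 : 0 < m := by
    rcases Nat.eq_zero_or_pos m with rfl | h
    · exact absurd (Nat.coprime_zero_right p |>.mp hm) hp.one_lt.ne'
    · exact h
  rw [card_orderOf_mul (hm.pow_left s) (pow_pos hp.pos s) hm0]
  -- pairs `(y, ⟨x⟩)`
  let S : G × Subgroup G → Prop := fun z =>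
    orderOf z.1 = m ∧ IsCyclic z.2 ∧ Nat.card z.2 = p ^ s ∧ z.2 ≤ Subgroup.centralizer {z.1}
  have hcount : Nat.card {z : G × G // orderOf z.1 = m ∧ orderOf z.2 = p ^ s ∧ Commute z.1 z.2} =
      Nat.totient (p ^ s) * Nat.card {z // S z} := by
    let e1 : {z : G × G // orderOf z.1 = m ∧ orderOf z.2 = p ^ s ∧ Commute z.1 z.2} ≃
        Σ y : {y : G // orderOf y = m},
          {x : G // orderOf x = p ^ s ∧ Subgroup.zpowers x ≤ Subgroup.centralizer {y.1}} :=
      { toFun := fun z => ⟨⟨z.1.1, z.2.1⟩, z.1.2, z.2.2.1,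
          Subgroup.zpowers_le.mpr (Subgroup.mem_centralizer_singleton_iff.mpr z.2.2.2.eq.symm)⟩
        invFun := fun w => ⟨(w.1.1, w.2.1), w.1.2, w.2.2.1,
          (Subgroup.mem_centralizer_singleton_iff.mp (w.2.2.2 (Subgroup.mem_zpowers _))).symm⟩
        left_inv := fun z => rfl
        right_inv := fun w => rfl }
    let e2 : {z // S z} ≃ Σ y : {y : G // orderOf y = m},
          {C : Subgroup G // IsCyclic C ∧ Nat.card C = p ^ s ∧ C ≤ Subgroup.centralizer {y.1}} :=
      { toFun := fun z => ⟨⟨z.1.1, z.2.1⟩, z.1.2, z.2.2.1, z.2.2.2.1, z.2.2.2.2⟩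
        invFun := fun w => ⟨(w.1.1, w.2.1), w.1.2, w.2.2.1, w.2.2.2.1, w.2.2.2.2⟩
        left_inv := fun z => rfl
        right_inv := fun w => rfl }
    have := Fintype.ofFinite {y : G // orderOf y = m}
    rw [Nat.card_congr e1, Nat.card_congr e2, Nat.card_sigma, Nat.card_sigma, Finset.mul_sum]
    exact Finset.sum_congr rfl fun y _ => gens_card (p ^ s) (fun C => C ≤ Subgroup.centralizer {y.1})
  rw [hcount, Nat.totient_prime_pow hp (by omega)]
  suffices hdiv : p ∣ Nat.card {z // S z} by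
    obtain ⟨k, hk⟩ := hdiv
    rw [hk]
    exact ⟨(p - 1) * k, by
      nth_rewrite 2 [show s = (s - 1) + 1 by omega]
      rw [pow_succ]
      ring⟩
  have hmap : ∀ (g : G) (C : Subgroup G),
      (IsCyclic C → IsCyclic ↥(C.map (MulAut.conj g).toMonoidHom)) ∧
      Nat.card ↥(C.map (MulAut.conj g).toMonoidHom) = Nat.card C := fun g C =>
    ⟨fun h => (C.equivMapOfInjective _ (MulAut.conj g).injective).isCyclic.mp h,
      (Nat.card_congr (C.equivMapOfInjective _ (MulAut.conj g).injective).toEquiv).symm⟩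
  have h1 := card_modEq_fixed P.2 S (fun g _ z hz => by
    refine ⟨(MulEquiv.orderOf_eq (MulAut.conj g) z.1).trans hz.1, (hmap g z.2).1 hz.2.1,
      (hmap g z.2).2.trans hz.2.2.1, ?_⟩
    rintro _ ⟨c, hc, rfl⟩
    rw [Subgroup.mem_centralizer_singleton_iff]
    have h := Subgroup.mem_centralizer_singleton_iff.mp (hz.2.2.2 hc)
    show (g * c * g⁻¹) * (g * z.1 * g⁻¹) = (g * z.1 * g⁻¹) * (g * c * g⁻¹)
    calc (g * c * g⁻¹) * (g * z.1 * g⁻¹) = g * (c * z.1) * g⁻¹ := by group
      _ = g * (z.1 * c) * g⁻¹ := by rw [h]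
      _ = _ := by group)
  let T : G × Subgroup G → Prop := fun z =>
    z.1 = 1 ∧ IsCyclic z.2 ∧ Nat.card z.2 = p ^ s ∧ z.2 ≤ (P : Subgroup G)
  have h2 := card_modEq_fixed P.2 T (fun g hg z hz => by
    refine ⟨by rw [hz.1, mul_one, mul_inv_cancel], (hmap g z.2).1 hz.2.1,
      (hmap g z.2).2.trans hz.2.2.1, ?_⟩
    rintro _ ⟨c, hc, rfl⟩
    exact (P : Subgroup G).mul_mem ((P : Subgroup G).mul_mem hg (hz.2.2.2 hc)) ((P : Subgroup G).inv_mem hg))
  have hN : p ∣ Nat.card {z // T z} := by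
    have hM := miller (R := ↥(P : Subgroup G)) hodd P.2 hP (s := s) hs
    have e : {x : ↥(P : Subgroup G) // orderOf x = p ^ s} ≃
        {x : G // orderOf x = p ^ s ∧ Subgroup.zpowers x ≤ (P : Subgroup G)} :=
      { toFun := fun x => ⟨x.1, by rw [Subgroup.orderOf_coe]; exact x.2, Subgroup.zpowers_le.mpr x.1.2⟩
        invFun := fun x => ⟨⟨x.1, x.2.2 (Subgroup.mem_zpowers _)⟩, by rw [Subgroup.orderOf_mk]; exact x.2.1⟩
        left_inv := fun x => rfl
        right_inv := fun x => rfl }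
    let e' : {z // T z} ≃ {C : Subgroup G // IsCyclic C ∧ Nat.card C = p ^ s ∧ C ≤ (P : Subgroup G)} :=
      { toFun := fun z => ⟨z.1.2, z.2.2⟩
        invFun := fun C => ⟨(1, C.1), rfl, C.2⟩
        left_inv := fun z => Subtype.ext (Prod.ext z.2.1.symm rfl)
        right_inv := fun C => rfl }
    rw [Nat.card_congr e, gens_card (p ^ s) (fun C => C ≤ (P : Subgroup G)),
      Nat.totient_prime_pow hp (by omega), ← Nat.card_congr e'] at hM
    have hM' : p ^ (s - 1) * p ∣ p ^ (s - 1) * ((p - 1) * Nat.card {z // T z}) := by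
      rw [← pow_succ, show s - 1 + 1 = s by omega, ← mul_assoc]
      exact hM
    rcases (Nat.Prime.dvd_mul hp).mp ((mul_dvd_mul_iff_left (pow_pos hp.pos _).ne').mp hM') with h | h
    · exact absurd (Nat.le_of_dvd (by have := hp.two_le; omega) h) (by have := hp.two_le; omega)
    · exact h
  -- the fixed points factor
  let F : {z // S z ∧ (∀ g ∈ (P : Subgroup G), g * z.1 * g⁻¹ = z.1) ∧
        (P : Subgroup G) ≤ Subgroup.normalizer (z.2 : Set G)} ≃
      {y : G // orderOf y = m ∧ ∀ g ∈ (P : Subgroup G), g * y * g⁻¹ = y} ×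
      {z // T z ∧ (∀ g ∈ (P : Subgroup G), g * z.1 * g⁻¹ = z.1) ∧
        (P : Subgroup G) ≤ Subgroup.normalizer (z.2 : Set G)} :=
    { toFun := fun z => (⟨z.1.1, z.2.1.1, z.2.2.1⟩, ⟨(1, z.1.2), ⟨rfl, z.2.1.2.1, z.2.1.2.2.1, by
          have hC : IsPGroup p z.1.2 := IsPGroup.of_card z.2.1.2.2.1
          have hsup : IsPGroup p ↥((P : Subgroup G) ⊔ z.1.2 : Subgroup G) :=
            IsPGroup.to_sup_of_normal_right' P.2 hC z.2.2.2
          exact le_sup_right.trans (P.3 hsup le_sup_left).le⟩,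
        fun g _ => by simp, z.2.2.2⟩)
      invFun := fun w => ⟨(w.1.1, w.2.1.2), ⟨w.1.2.1, w.2.2.1.2.1, w.2.2.1.2.2.1, fun c hc => by
          rw [Subgroup.mem_centralizer_singleton_iff]
          have h := w.1.2.2 c (w.2.2.1.2.2.2 hc)
          calc c * w.1.1 = (c * w.1.1 * c⁻¹) * c := by group
            _ = w.1.1 * c := by rw [h]⟩, w.1.2.2, w.2.2.2.2⟩
      left_inv := fun z => rfl
      right_inv := fun w => Prod.ext rfl (Subtype.ext (Prod.ext w.2.2.1.1.symm rfl)) }
  rw [Nat.card_congr F, Nat.card_prod] at h1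
  have h3 : p ∣ Nat.card {z // T z ∧ (∀ g ∈ (P : Subgroup G), g * z.1 * g⁻¹ = z.1) ∧
      (P : Subgroup G) ≤ Subgroup.normalizer (z.2 : Set G)} := (h2.dvd_iff dvd_rfl).mp hN
  exact (h1.dvd_iff dvd_rfl).mpr (h3.mul_left _)

end Cfsg.Agent.S4003
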