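import Cfsg.Statements.S4005
import Cfsg.Agent.Lib.Frobenius.Action
import Cfsg.Agent.Lib.Frobenius.UniqueSubgroup
import Cfsg.Agent.Lib.Characters.Burnside
import Cfsg.Agent.Lib.Coprime.Hall
import Mathlib.GroupTheory.IndexNormal

set_option autoImplicit false
open Cfsg

namespace Cfsg.Agent.S4005

open Cfsg.Agent.Lib

variable {G : Type*} [Group G] [Finite G]

/-- The conjugation action of a subgroup on a normal subgroup. -/
noncomputable def conjAct (S M : Subgroup G) [M.Normal] : S →* MulAut M :=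
  (MulAut.conjNormal (H := M)).comp S.subtype

theorem conjAct_fpf (S M : Subgroup G) [M.Normal]
    (h : ∀ a ∈ S, a ≠ 1 → ∀ m ∈ M, a * m = m * a → m = 1) :
    ∀ a : S, a ≠ 1 → ∀ m : M, conjAct S M a m = m → m = 1 := by
  intro a ha m hm
  refine Subtype.ext (h a a.2 (fun h1 => ha (Subtype.ext h1)) m m.2 ?_)
  have h1 : (a : G) * m * (a : G)⁻¹ = m := by
    have := congrArg Subtype.val hm
    rwa [show ((conjAct S M a m : M) : G) = _ from MulAut.conjNormal_apply (a : G) m] at this
  exact (mul_inv_eq_iff_eq_mul.mp h1)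

theorem card_eq_prime_of_fpf {q : ℕ} [Fact q.Prime] (S M : Subgroup G) [M.Normal] [Nontrivial M]
    (hS : IsPGroup q S) (hSq : S ≠ ⊥) (hexp : ∀ x ∈ S, x ^ q = 1)
    (h : ∀ a ∈ S, a ≠ 1 → ∀ m ∈ M, a * m = m * a → m = 1) : Nat.card S = q := by
  have hmain := Frobenius.isCyclic_or_quaternion_of_fixedPointFree (conjAct S M)
    (conjAct_fpf S M h) ⊤ (hS.of_equiv Subgroup.topEquiv.symm)
  have hexp' : ∀ x : S, x ^ q = 1 := fun x => Subtype.ext (hexp x x.2)
  rcases hmain with hc | ⟨rfl, m, ⟨e⟩⟩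
  · haveI : IsCyclic S := isCyclic_of_surjective Subgroup.topEquiv Subgroup.topEquiv.surjective
    have hdvd : Nat.card S ∣ q := by
      rw [← IsCyclic.exponent_eq_card]
      exact Monoid.exponent_dvd_of_forall_pow_eq_one hexp'
    refine ((Nat.dvd_prime (Fact.out : q.Prime)).mp hdvd).resolve_left fun h1 => hSq ?_
    exact Subgroup.card_eq_one.mp h1
  · exfalso
    haveI : NeZero (2 ^ (m + 1)) := ⟨by positivity⟩
    have h4 : orderOf (e.symm (QuaternionGroup.xa 0)) = 4 :=
      (orderOf_injective e.symm.toMonoidHom e.symm.injective _).trans (QuaternionGroup.orderOf_xa 0)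
    have h2 : orderOf (e.symm (QuaternionGroup.xa 0)) ∣ 2 := by
      refine orderOf_dvd_of_pow_eq_one (Subtype.ext (Subtype.ext ?_))
      exact congrArg Subtype.val (hexp' (e.symm (QuaternionGroup.xa 0) : (⊤ : Subgroup S)).1)
    rw [h4] at h2
    exact absurd (Nat.le_of_dvd two_pos h2) (by norm_num)

/-- A finite group whose set of element orders is exactly {1, 2, 3} has either a normal elementary abelian 3-subgroup of index 2 or a normal elementary abelian 2-subgroup of index 3. -/
theorem result {G : Type*} [Group G] [Finite G] (h : Set.range (orderOf : G → ℕ) = {k : ℕ | 1 ≤ k ∧ k ≤ 3}) :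
    (∃ N : Subgroup G, N.Normal ∧ Cfsg.IsElementaryAbelian 3 N ∧ N.index = 2) ∨
      (∃ N : Subgroup G, N.Normal ∧ Cfsg.IsElementaryAbelian 2 N ∧ N.index = 3) := by
  have hmem : ∀ x : G, orderOf x = 1 ∨ orderOf x = 2 ∨ orderOf x = 3 := fun x => by
    have h1 : orderOf x ∈ Set.range (orderOf : G → ℕ) := ⟨x, rfl⟩
    rw [h, Set.mem_setOf_eq] at h1
    omega
  obtain ⟨x2, hx2⟩ : 2 ∈ Set.range (orderOf : G → ℕ) := by rw [h]; simp
  obtain ⟨x3, hx3⟩ : 3 ∈ Set.range (orderOf : G → ℕ) := by rw [h]; simp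
  haveI := Fact.mk Nat.prime_two
  haveI := Fact.mk Nat.prime_three
  have hd2 : 2 ∣ Nat.card G := hx2 ▸ orderOf_dvd_natCard x2
  have hd3 : 3 ∣ Nat.card G := hx3 ▸ orderOf_dvd_natCard x3
  have hprimes : ∀ q : ℕ, q.Prime → q ∣ Nat.card G → q = 2 ∨ q = 3 := fun q hq hd => by
    haveI := Fact.mk hq
    obtain ⟨g, hg⟩ := exists_prime_orderOf_dvd_card' (G := G) q hd
    rcases hmem g with h1 | h1 | h1 <;> rw [hg] at h1
    · exact absurd h1 hq.ne_one
    · exact Or.inl h1
    · exact Or.inr h1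
  have hexp : ∀ (p : ℕ), p = 2 ∨ p = 3 → ∀ S : Subgroup G, IsPGroup p S → ∀ x ∈ S, x ^ p = 1 := by
    intro p hp S hS x hx
    haveI : Fact p.Prime := by rcases hp with rfl | rfl <;> infer_instance
    obtain ⟨k, hk⟩ := IsPGroup.iff_orderOf.mp hS ⟨x, hx⟩
    rw [Subgroup.orderOf_mk] at hk
    refine orderOf_dvd_iff_pow_eq_one.mp ?_
    rcases hmem x with h1 | h1 | h1
    · rw [h1]; exact one_dvd _
    all_goals
      have h2 : orderOf x ∣ p ^ k := hk ▸ dvd_rfl
      rw [h1] at h2 ⊢
      exact ((Nat.prime_dvd_prime_iff_eq (by first | exact Nat.prime_two | exact Nat.prime_three) Fact.out).mp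
        (Nat.Prime.dvd_of_dvd_pow (by first | exact Nat.prime_two | exact Nat.prime_three) h2)).symm ▸ dvd_rfl
  have hfpf : ∀ a b : G, a * b = b * a → a ^ 2 = 1 → b ^ 3 = 1 → a = 1 ∨ b = 1 := by
    intro a b hc ha hb
    by_contra hne
    push Not at hne
    have ha2 := orderOf_eq_prime ha hne.1
    have hb3 := orderOf_eq_prime hb hne.2
    have h6 := Commute.orderOf_mul_eq_mul_orderOf_of_coprime (show Commute a b from hc)
      (by rw [ha2, hb3]; norm_num)
    rw [ha2, hb3] at h6
    rcases hmem (a * b) with h1 | h1 | h1 <;> omega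
  haveI hsol : Group.IsSolvable G := by
    refine Characters.isSolvable_of_card_eq_pow_mul_pow (a := (Nat.card G).factorization 2)
      (b := (Nat.card G).factorization 3) Nat.prime_two Nat.prime_three ?_
    refine Nat.eq_of_factorization_eq Nat.card_pos.ne' (by positivity) fun q => ?_
    rw [Nat.factorization_mul (by positivity) (by positivity), Nat.prime_two.factorization_pow,
      Nat.prime_three.factorization_pow, Finsupp.add_apply, Finsupp.single_apply, Finsupp.single_apply]
    by_cases h2 : q = 2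
    · subst h2; simp
    by_cases h3 : q = 3
    · subst h3; simp
    rw [if_neg (Ne.symm h2), if_neg (Ne.symm h3), add_zero]
    by_cases hq : q.Prime
    · exact Nat.factorization_eq_zero_of_not_dvd fun hd => (hprimes q hq hd).elim h2 h3
    · exact Nat.factorization_eq_zero_of_not_prime _ hq
  haveI : Nontrivial G := ⟨⟨x2, 1, fun h1 => by rw [h1, orderOf_one] at hx2; norm_num at hx2⟩⟩
  obtain ⟨p, M, hp, hMn, hM0, hMc, hMp, hMe⟩ := Coprime.exists_normal_isPGroup_isMulCommutative G
  haveI := hMn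
  haveI := Fact.mk hp
  haveI : Nontrivial M := (Subgroup.nontrivial_iff_ne_bot M).mpr hM0
  have hp23 : p = 2 ∨ p = 3 := by
    obtain ⟨k, hk⟩ := IsPGroup.iff_card.mp hMp
    refine hprimes p hp ?_
    have : k ≠ 0 := fun hk0 => hM0 (Subgroup.card_eq_one.mp (by rw [hk, hk0, pow_zero]))
    exact (dvd_pow_self p this).trans (hk ▸ Subgroup.card_subgroup_dvd_card M)
  let P : Sylow 2 G := default
  let Q : Sylow 3 G := default
  have hP0 : (P : Subgroup G) ≠ ⊥ := fun h1 => by
    have := P.dvd_card_of_dvd_card hd2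
    rw [h1, Subgroup.card_bot] at this; norm_num at this
  have hQ0 : (Q : Subgroup G) ≠ ⊥ := fun h1 => by
    have := Q.dvd_card_of_dvd_card hd3
    rw [h1, Subgroup.card_bot] at this; norm_num at this
  have hcardG : Nat.card G = Nat.card P * Nat.card Q := by
    refine Nat.eq_of_factorization_eq Nat.card_pos.ne' (Nat.mul_ne_zero Nat.card_pos.ne' Nat.card_pos.ne') fun q => ?_
    rw [P.card_eq_multiplicity, Q.card_eq_multiplicity, Nat.factorization_mul (by positivity) (by positivity),
      Nat.prime_two.factorization_pow, Nat.prime_three.factorization_pow, Finsupp.add_apply,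
      Finsupp.single_apply, Finsupp.single_apply]
    by_cases h2 : q = 2
    · subst h2; simp
    by_cases h3 : q = 3
    · subst h3; simp
    rw [if_neg (Ne.symm h2), if_neg (Ne.symm h3), add_zero]
    by_cases hq : q.Prime
    · exact Nat.factorization_eq_zero_of_not_dvd fun hd => (hprimes q hq hd).elim h2 h3
    · exact Nat.factorization_eq_zero_of_not_prime _ hq
  rcases hp23 with rfl | rfl
  · right
    have hQc : Nat.card Q = 3 := card_eq_prime_of_fpf (Q : Subgroup G) M Q.isPGroup' hQ0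
      (hexp 3 (Or.inr rfl) _ Q.isPGroup') fun a ha ha1 m hm hc =>
        (hfpf m a hc.symm (hMe m hm) (hexp 3 (Or.inr rfl) _ Q.isPGroup' a ha)).resolve_right ha1
    have hPab : ∀ a ∈ (P : Subgroup G), ∀ b ∈ (P : Subgroup G), a * b = b * a := by
      intro a ha b hb
      have he := hexp 2 (Or.inl rfl) _ P.isPGroup'
      have inv : ∀ c ∈ (P : Subgroup G), c⁻¹ = c := fun c hc =>
        inv_eq_of_mul_eq_one_right (by rw [← sq]; exact he c hc)
      rw [← inv _ (mul_mem ha hb), mul_inv_rev, inv a ha, inv b hb]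
    have hMP : M ≤ (P : Subgroup G) := by
      obtain ⟨P0, hP0'⟩ := hMp.exists_le_sylow
      obtain ⟨g, hg⟩ := MulAction.exists_smul_eq G P0 P
      intro x hx
      rw [← hg, Sylow.coe_subgroup_smul, Coprime.mem_conj_smul]
      exact hP0' (by simpa using hMn.conj_mem x hx g⁻¹)
    set C := Subgroup.centralizer (M : Set G)
    have hC2 : IsPGroup 2 C := by
      refine IsPGroup.iff_orderOf.mpr fun c => ?_
      rw [← Subgroup.orderOf_coe]
      rcases hmem (c : G) with h1 | h1 | h1
      · exact ⟨0, by rw [h1, pow_zero]⟩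
      · exact ⟨1, by rw [h1, pow_one]⟩
      · exfalso
        obtain ⟨⟨m, hm⟩, hm1⟩ := exists_ne (1 : M)
        rcases hfpf m c (Subgroup.mem_centralizer_iff.mp c.2 m hm) (hMe m hm)
          (by rw [← h1, pow_orderOf_eq_one]) with h2 | h2
        · exact hm1 (Subtype.ext h2)
        · rw [h2, orderOf_one] at h1; norm_num at h1
    have hPC : (P : Subgroup G) ≤ C := fun a ha =>
      Subgroup.mem_centralizer_iff.mpr fun m hm => hPab m (hMP hm) a ha
    have hCP := P.is_maximal' hC2 hPC
    refine ⟨(P : Subgroup G), hCP ▸ inferInstance,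
      ⟨⟨⟨fun a b => Subtype.ext (hPab a a.2 b b.2)⟩⟩, hexp 2 (Or.inl rfl) _ P.isPGroup'⟩, ?_⟩
    have h1 := (P : Subgroup G).card_mul_index
    rw [hcardG, hQc] at h1
    exact Nat.eq_of_mul_eq_mul_left Nat.card_pos h1
  · left
    have hPc : Nat.card P = 2 := card_eq_prime_of_fpf (P : Subgroup G) M P.isPGroup' hP0
      (hexp 2 (Or.inl rfl) _ P.isPGroup') fun a ha ha1 m hm hc =>
        (hfpf a m hc (hexp 2 (Or.inl rfl) _ P.isPGroup' a ha) (hMe m hm)).resolve_left ha1
    have hidx : (Q : Subgroup G).index = 2 := by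
      have h1 := (Q : Subgroup G).card_mul_index
      rw [hcardG, hPc, mul_comm 2] at h1
      exact Nat.eq_of_mul_eq_mul_left Nat.card_pos h1
    haveI hQn := Subgroup.normal_of_index_eq_two hidx
    refine ⟨(Q : Subgroup G), hQn, ⟨?_, hexp 3 (Or.inr rfl) _ Q.isPGroup'⟩, hidx⟩
    refine Frobenius.isMulCommutative_of_two_dvd (conjAct (P : Subgroup G) (Q : Subgroup G))
      (conjAct_fpf _ _ fun a ha ha1 m hm hc =>
        (hfpf a m hc (hexp 2 (Or.inl rfl) _ P.isPGroup' a ha)
          (hexp 3 (Or.inr rfl) _ Q.isPGroup' m hm)).resolve_left ha1) ?_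
    rw [hPc]

end Cfsg.Agent.S4005
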