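import Mathlib
import Cfsg.Statements.S4006
import Cfsg.Agent.Lib.Solvable.Carter
import Cfsg.Agent.Lib.Characters.Burnside
import Cfsg.Agent.Lib.Frobenius.UniqueSubgroup
import Cfsg.Agent.Lib.LocalEven2.Basic
import Cfsg.Agent.Lib.PGroups.FpfOrderThree

set_option autoImplicit false
open Cfsg

namespace Cfsg.Agent.S4006

open Cfsg.Agent.Lib
open scoped commutatorElement

variable {G : Type*} [Group G]

/-- All element orders are between one and four. -/
def SmallOrders (G : Type*) [Group G] : Prop := ∀ g : G, orderOf g ∈ ({1, 2, 3, 4} : Set ℕ)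

theorem small_map {H : Type*} [Group H] (hs : SmallOrders G) (f : G →* H)
    (hf : Function.Surjective f) : SmallOrders H := by
  intro y
  obtain ⟨g, rfl⟩ := hf y
  have h1 := orderOf_map_dvd f g
  have hg := hs g
  simp only [Set.mem_insert_iff, Set.mem_singleton_iff] at hg ⊢
  have hle : orderOf (f g) ≤ 4 := by
    refine (Nat.le_of_dvd ?_ h1).trans ?_ <;> omega
  have hpos : orderOf (f g) ≠ 0 := by
    intro h0; rw [h0, zero_dvd_iff] at h1; omega
  omega

theorem orderOf_three_or_two (hs : SmallOrders G) {g : G} (hg : g ≠ 1) :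
    orderOf g = 3 ∨ orderOf g = 2 ∨ orderOf g = 4 := by
  have h := hs g
  simp only [Set.mem_insert_iff, Set.mem_singleton_iff] at h
  rcases h with h | h | h | h
  · exact absurd (orderOf_eq_one_iff.mp h) hg
  all_goals omega

/-- No element of order three commutes with an involution. -/
theorem no_six (hs : SmallOrders G) {u v : G} (hu : orderOf u = 3) (hv : orderOf v = 2)
    (h : Commute u v) : False := by
  have h6 : orderOf (u * v) = 6 := by
    rw [h.orderOf_mul_eq_mul_orderOf_of_coprime (by rw [hu, hv]; norm_num), hu, hv]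
  have := hs (u * v)
  simp only [Set.mem_insert_iff, Set.mem_singleton_iff] at this
  omega

/-- No element of order three commutes with a nontrivial element of a `2`-group. -/
theorem fpf_two (hs : SmallOrders G) {N : Subgroup G} (hN : IsPGroup 2 N) {u v : G}
    (hu : orderOf u = 3) (hv : v ∈ N) (h : Commute u v) : v = 1 := by
  by_contra h1
  obtain ⟨k, hk⟩ := hN ⟨v, hv⟩
  have hd : orderOf v ∣ 2 ^ k := orderOf_dvd_of_pow_eq_one (congrArg Subtype.val hk)
  rcases orderOf_three_or_two hs h1 with h3 | h2 | h4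
  · rw [h3] at hd
    exact absurd (Nat.prime_three.dvd_of_dvd_pow hd) (by norm_num)
  · exact no_six hs hu h2 h
  · exact no_six hs hu (show orderOf (v ^ 2) = 2 by rw [orderOf_pow' _ two_ne_zero, h4]; norm_num)
      (h.pow_right 2)

variable [Finite G]

theorem sq_one {M : Type*} [Monoid M] {x : M} (h : orderOf x = 2) : x * x = 1 := by
  rw [← pow_two]; exact orderOf_dvd_iff_pow_eq_one.mp h.dvd

theorem primeFactors_subset (hs : SmallOrders G) {p : ℕ} (hp : p.Prime) (hd : p ∣ Nat.card G) :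
    p = 2 ∨ p = 3 := by
  have := Fact.mk hp
  obtain ⟨g, hg⟩ := exists_prime_orderOf_dvd_card' p hd
  have := hs g
  rw [hg] at this
  simp only [Set.mem_insert_iff, Set.mem_singleton_iff] at this
  rcases this with h | h | h | h
  · exact absurd h hp.one_lt.ne'
  · exact Or.inl h
  · exact Or.inr h
  · subst h; norm_num at hp

theorem isSolvable_of_small (hs : SmallOrders G) : Group.IsSolvable G := by
  refine Characters.isSolvable_of_card_eq_pow_mul_pow (a := (Nat.card G).factorization 2)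
    (b := (Nat.card G).factorization 3) Nat.prime_two Nat.prime_three
    (Nat.eq_of_factorization_eq Nat.card_pos.ne' (by positivity) fun r => ?_)
  rw [Nat.factorization_mul (by positivity) (by positivity), Nat.prime_two.factorization_pow,
    Nat.prime_three.factorization_pow, Finsupp.add_apply, Finsupp.single_apply, Finsupp.single_apply]
  by_cases hr : r.Prime ∧ r ∣ Nat.card G
  · rcases primeFactors_subset hs hr.1 hr.2 with rfl | rfl <;> simp
  · have h0 : (Nat.card G).factorization r = 0 := by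
      rcases not_and_or.mp hr with h | h
      · exact Nat.factorization_eq_zero_of_not_prime _ h
      · exact Nat.factorization_eq_zero_of_not_dvd h
    rw [h0]
    split_ifs with h1 h2 h2
    all_goals subst_vars
    all_goals simp_all

/-- A `p`-group of small orders for odd `p = 3` has exponent three. -/
theorem pow_three_eq_one (hs : SmallOrders G) {P : Subgroup G} (hP : IsPGroup 3 P) {x : G}
    (hx : x ∈ P) : x ^ 3 = 1 := by
  by_cases h1 : x = 1
  · rw [h1, one_pow]
  obtain ⟨k, hk⟩ := hP ⟨x, hx⟩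
  have hd : orderOf x ∣ 3 ^ k := orderOf_dvd_of_pow_eq_one (congrArg Subtype.val hk)
  rcases orderOf_three_or_two hs h1 with h | h | h
  · rw [← h]; exact pow_orderOf_eq_one x
  · rw [h] at hd
    exact absurd (Nat.prime_two.dvd_of_dvd_pow hd) (by norm_num)
  · rw [h] at hd
    exact absurd (Nat.prime_two.dvd_of_dvd_pow ((by norm_num : 2 ∣ 4).trans hd)) (by norm_num)

/-- A minimal normal subgroup of `G / O_p(G)` is not a `p`-group. -/
theorem quotient_pCore {p : ℕ} (hp : p.Prime) [(Cfsg.pCore p G).Normal]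
    {M : Subgroup (G ⧸ Cfsg.pCore p G)} [M.Normal] (hM : IsPGroup p M) : M = ⊥ := by
  set π := QuotientGroup.mk' (Cfsg.pCore p G) with hπ
  have hle : M.comap π ≤ Cfsg.pCore p G := by
    refine LocalEven2.le_pCore inferInstance ?_
    refine IsPGroup.comap_of_ker_isPGroup hM π ?_
    rw [hπ, QuotientGroup.ker_mk']
    exact LocalEven2.pCore_isPGroup p G
  rw [eq_bot_iff]
  intro y hy
  obtain ⟨g, rfl⟩ := QuotientGroup.mk'_surjective _ y
  exact (QuotientGroup.eq_one_iff g).mpr (hle hy)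

theorem iso_perm_three {Q : Type*} [Group Q] [Finite Q] (hc : Nat.card Q = 6) {x t : Q}
    (ht : orderOf t = 2) (hn : t * x * t⁻¹ ≠ x) : Nonempty (Q ≃* Equiv.Perm (Fin 3)) := by
  set T := Subgroup.zpowers t with hT
  have hTc : Nat.card T = 2 := by rw [Nat.card_zpowers, ht]
  have h3 : Nat.card (Q ⧸ T) = 3 := by
    have h := Subgroup.card_eq_card_quotient_mul_card_subgroup T
    rw [hc, hTc] at h; omega
  let e : Q ⧸ T ≃ Fin 3 := (Finite.equivFin _).trans (finCongr h3)
  let f : Q →* Equiv.Perm (Fin 3) :=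
    e.permCongrHom.toMonoidHom.comp (MulAction.toPermHom Q (Q ⧸ T))
  have hinj : Function.Injective f := by
    refine (e.permCongrHom.injective.comp ?_)
    rw [← MonoidHom.ker_eq_bot_iff, ← Subgroup.normalCore_eq_ker, eq_bot_iff]
    intro g hg
    rcases Nat.eq_zero_or_pos 0 with - | h0
    · have hgT : g ∈ T := Subgroup.normalCore_le _ hg
      obtain ⟨i, hi⟩ := (Submonoid.mem_powers_iff _ _).mp
        ((mem_powers_iff_mem_zpowers).mpr hgT)
      rw [← pow_mod_orderOf, ht] at hi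
      rcases Nat.mod_two_eq_zero_or_one i with h | h
      · rw [h, pow_zero] at hi; exact Subgroup.mem_bot.mpr hi.symm
      · rw [h, pow_one] at hi
        subst hi
        have hmem : x * t * x⁻¹ ∈ T :=
          Subgroup.normalCore_le _ ((Subgroup.normalCore_normal T).conj_mem t hg x)
        obtain ⟨j, hj⟩ := (Submonoid.mem_powers_iff _ _).mp
          ((mem_powers_iff_mem_zpowers).mpr hmem)
        rw [← pow_mod_orderOf, ht] at hj
        rcases Nat.mod_two_eq_zero_or_one j with h | h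
        · rw [h, pow_zero] at hj
          have : t = 1 := by
            calc t = x⁻¹ * (x * t * x⁻¹) * x := by group
              _ = 1 := by rw [← hj]; group
          rw [this, orderOf_one] at ht
          exact absurd ht (by norm_num)
        · rw [h, pow_one] at hj
          refine absurd ?_ hn
          have e1 : x * t = t * x := by
            calc x * t = x * t * x⁻¹ * x := by group
              _ = t * x := by rw [← hj]
          rw [← e1, mul_inv_cancel_right]
    · omega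
  have hbij : Function.Bijective f :=
    (Nat.bijective_iff_injective_and_card f).mpr
      ⟨hinj, by rw [hc, Nat.card_perm, Nat.card_fin]; rfl⟩
  exact ⟨MulEquiv.ofBijective f hbij⟩

/-- Conjugation by `g` on a normal subgroup. -/
theorem conjNormal_fixed {N : Subgroup G} [N.Normal] {g : G} {n : N}
    (h : MulAut.conjNormal g n = n) : Commute g (n : G) := by
  have h' := congrArg Subtype.val h
  rw [MulAut.conjNormal_apply] at h'
  exact mul_inv_eq_iff_eq_mul.mp h'

theorem case_two (hs : SmallOrders G) (h3 : ∃ g : G, orderOf g = 3) (h4 : ∃ g : G, orderOf g = 4)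
    (hN0 : Cfsg.pCore 2 G ≠ ⊥) :
    ∃ (N : Subgroup G) (_ : N.Normal),
      (IsPGroup 2 ↥N ∧ Monoid.exponent ↥N = 4 ∧ Group.nilpotencyClass ↥N ≤ 2 ∧ N.index = 3) ∨
      (Cfsg.IsElementaryAbelian 2 N ∧ Nonempty (G ⧸ N ≃* Equiv.Perm (Fin 3))) := by
  have := Fact.mk Nat.prime_two
  have := Fact.mk Nat.prime_three
  set N := Cfsg.pCore 2 G with hN
  have hNn : N.Normal := LocalEven2.pCore_normal 2 G
  have hN2 : IsPGroup 2 N := LocalEven2.pCore_isPGroup 2 G
  have : Nontrivial N := (Subgroup.nontrivial_iff_ne_bot N).mpr hN0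
  -- a Sylow `3`-subgroup has order three
  obtain ⟨g3, hg3⟩ := h3
  obtain ⟨P, hgP⟩ := (IsPGroup.of_card (n := 1)
    (by rw [Nat.card_zpowers, hg3, pow_one]) : IsPGroup 3 (Subgroup.zpowers g3)).exists_le_sylow
  have hPexp : ∀ x ∈ (P : Subgroup G), x ^ 3 = 1 := fun x hx => pow_three_eq_one hs P.2 hx
  have hfpf : ∀ u : G, orderOf u = 3 → ∀ n : N, MulAut.conjNormal u n = n → n = 1 := fun u hu n hn =>
    Subtype.ext (fpf_two hs hN2 hu n.2 (conjNormal_fixed hn))
  have hPc : Nat.card P = 3 := by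
    have hcyc : IsCyclic (⊤ : Subgroup P) := by
      refine (Frobenius.isCyclic_or_quaternion_of_fixedPointFree
        ((MulAut.conjNormal (H := N)).comp (P : Subgroup G).subtype) (fun a ha n hn => ?_) ⊤
        (P.2.to_subgroup ⊤)).resolve_right fun h => absurd h.1 (by norm_num)
      refine hfpf a (orderOf_eq_prime (hPexp _ a.2) ?_) n hn
      exact fun h => ha (Subtype.ext h)
    have : IsCyclic P := isCyclic_of_surjective Subgroup.topEquiv.toMonoidHom
      Subgroup.topEquiv.surjective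
    obtain ⟨y, hy⟩ := IsCyclic.exists_ofOrder_eq_natCard (α := P)
    have hdvd : Nat.card P ∣ 3 := hy ▸ orderOf_dvd_of_pow_eq_one (Subtype.ext (hPexp _ y.2))
    refine (Nat.prime_three.eq_one_or_self_of_dvd _ hdvd).resolve_left fun h1 => ?_
    have := Subgroup.card_dvd_of_le hgP
    rw [Nat.card_zpowers, hg3, h1] at this
    norm_num at this
  -- the quotient
  set π := QuotientGroup.mk' N with hπ
  have hsQ : SmallOrders (G ⧸ N) := small_map hs π (QuotientGroup.mk'_surjective N)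
  set Pb := P.mapSurjective (QuotientGroup.mk'_surjective N) with hPb
  have hPbc : Nat.card Pb ∣ 3 := by
    exact (Subgroup.card_map_dvd _ _).trans hPc.dvd
  have : Nontrivial (G ⧸ N) := by
    rw [QuotientGroup.nontrivial_iff]
    intro htop
    obtain ⟨k, hk⟩ := hN2 ⟨g3, htop ▸ Subgroup.mem_top g3⟩
    have hd : orderOf g3 ∣ 2 ^ k := orderOf_dvd_of_pow_eq_one (congrArg Subtype.val hk)
    rw [hg3] at hd
    exact absurd (Nat.prime_three.dvd_of_dvd_pow hd) (by norm_num)
  have := isSolvable_of_small hsQ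
  obtain ⟨r, M, hr, hMn, hM0, -, hMr, -⟩ := Solvable.Carter.exists_minimal_normal (G := G ⧸ N)
  have hr3 : r = 3 := by
    have := Fact.mk hr
    obtain ⟨j, hj⟩ := IsPGroup.iff_card.mp hMr
    have hj0 : j ≠ 0 := by
      rintro rfl
      exact hM0 (Subgroup.eq_bot_of_card_eq M (by rw [hj, pow_zero]))
    refine (primeFactors_subset hsQ hr ?_).resolve_left fun h2 => ?_
    · exact (dvd_pow_self r hj0).trans (hj ▸ Subgroup.card_subgroup_dvd_card M)
    · subst h2; exact hM0 (quotient_pCore Nat.prime_two hMr)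
  subst hr3
  have hMP : M ≤ Pb := by
    have hp : IsPGroup 3 (M ⊔ (Pb : Subgroup (G ⧸ N)) : Subgroup (G ⧸ N)) :=
      IsPGroup.to_sup_of_normal_left hMr Pb.2
    calc M ≤ M ⊔ Pb := le_sup_left
      _ = Pb := Pb.3 hp le_sup_right
  have hMc : Nat.card M = 3 :=
    (Nat.prime_three.eq_one_or_self_of_dvd _ ((Subgroup.card_dvd_of_le hMP).trans hPbc)).resolve_left
      fun h1 => hM0 (Subgroup.eq_bot_of_card_eq M h1)
  have hMPb : M = Pb := Subgroup.eq_of_le_of_card_ge hMP
    (by rw [hMc]; exact Nat.le_of_dvd (by norm_num) hPbc)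
  set xb := π g3 with hxπ
  have hxb : xb ∈ M := hMPb ▸ ⟨g3, hgP (Subgroup.mem_zpowers g3), rfl⟩
  have hxo : orderOf xb = 3 := by
    refine (Nat.prime_three.eq_one_or_self_of_dvd _ ?_).resolve_left fun h1 => ?_
    · exact hg3 ▸ orderOf_map_dvd π g3
    · have hmem : g3 ∈ N := (QuotientGroup.eq_one_iff g3).mp (orderOf_eq_one_iff.mp h1)
      have := fpf_two hs hN2 hg3 hmem (Commute.refl g3)
      rw [this, orderOf_one] at hg3
      norm_num at hg3
  have hMgen : Subgroup.zpowers xb = M :=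
    Subgroup.eq_of_le_of_card_ge (Subgroup.zpowers_le.mpr hxb) (by rw [Nat.card_zpowers, hxo, hMc])
  set C := Subgroup.centralizer ({xb} : Set (G ⧸ N)) with hC
  have hMC : M ≤ C := by
    rw [← hMgen, Subgroup.zpowers_le, hC, Subgroup.mem_centralizer_singleton_iff]
  have hCc : Nat.card C = 3 := by
    have hC3 : IsPGroup 3 C := fun ⟨y, hy⟩ => by
      refine ⟨1, Subtype.ext ?_⟩
      show y ^ 3 ^ 1 = 1
      by_cases h1 : y = 1
      · rw [h1, one_pow]
      have hcom : Commute xb y := (Subgroup.mem_centralizer_singleton_iff.mp hy).symm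
      rw [pow_one]
      rcases orderOf_three_or_two hsQ h1 with h | h | h
      · rw [← h]; exact pow_orderOf_eq_one y
      · exact (no_six hsQ hxo h hcom).elim
      · exact (no_six hsQ hxo (show orderOf (y ^ 2) = 2 by
          rw [orderOf_pow' _ two_ne_zero, h]; norm_num) (hcom.pow_right 2)).elim
    obtain ⟨Q', hCQ⟩ := hC3.exists_le_sylow
    exact Nat.dvd_antisymm ((Subgroup.card_dvd_of_le hCQ).trans (by rw [Nat.card_congr (Sylow.equiv Q' Pb).toEquiv]; exact hPbc))
      (hMc ▸ Subgroup.card_dvd_of_le hMC)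
  have hconj : ∀ g : G ⧸ N, g * xb * g⁻¹ = xb ∨ g * xb * g⁻¹ = xb⁻¹ := by
    intro g
    have hm : g * xb * g⁻¹ ∈ Subgroup.zpowers xb := by
      rw [hMgen]; exact hMn.conj_mem _ hxb g
    obtain ⟨i, hi⟩ := (Submonoid.mem_powers_iff _ _).mp ((mem_powers_iff_mem_zpowers).mpr hm)
    rw [← pow_mod_orderOf, hxo] at hi
    have h3' : i % 3 = 0 ∨ i % 3 = 1 ∨ i % 3 = 2 := by omega
    rcases h3' with h | h | h <;> rw [h] at hi
    · rw [pow_zero] at hi
      have : xb = 1 := by
        calc xb = g⁻¹ * (g * xb * g⁻¹) * g := by group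
          _ = 1 := by rw [← hi]; group
      rw [this, orderOf_one] at hxo
      exact absurd hxo (by norm_num)
    · exact Or.inl (by rw [← hi, pow_one])
    · refine Or.inr (hi ▸ eq_inv_of_mul_eq_one_left ?_)
      rw [← pow_succ, show 2 + 1 = orderOf xb by rw [hxo]]
      exact pow_orderOf_eq_one xb
  have hexp4 : ∀ n : N, n ^ 4 = 1 := by
    intro n
    by_cases h1 : (n : G) = 1
    · exact Subtype.ext (by push_cast; rw [h1, one_pow])
    refine Subtype.ext ?_
    push_cast
    rcases orderOf_three_or_two hs h1 with h | h | h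
    · obtain ⟨k, hk⟩ := hN2 n
      have hd : orderOf (n : G) ∣ 2 ^ k := orderOf_dvd_of_pow_eq_one (congrArg Subtype.val hk)
      rw [h] at hd
      exact absurd (Nat.prime_three.dvd_of_dvd_pow hd) (by norm_num)
    · exact orderOf_dvd_iff_pow_eq_one.mp (by rw [h]; norm_num)
    · exact orderOf_dvd_iff_pow_eq_one.mp (by rw [h])
  -- class two
  have hxN : ∀ n : N, orderOf ((n : G) * g3) = 3 := by
    intro n
    have e : π ((n : G) * g3) = xb := by
      rw [map_mul, show π n = 1 from (QuotientGroup.eq_one_iff _).mpr n.2, one_mul]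
    have hd := orderOf_map_dvd π ((n : G) * g3)
    rw [e, hxo] at hd
    have h := hs ((n : G) * g3)
    simp only [Set.mem_insert_iff, Set.mem_singleton_iff] at h
    omega
  have hx3 : orderOf g3 = 3 := hg3
  set σ : N ≃* N := MulAut.conjNormal g3 with hσ
  have hσh : ∀ n : N, n * σ n * σ (σ n) = 1 := by
    intro n
    apply Subtype.ext
    simp only [hσ, Subgroup.coe_mul, MulAut.conjNormal_apply, Subgroup.coe_one]
    have h1 : ((n : G) * g3) ^ 3 = 1 := by rw [← hxN n]; exact pow_orderOf_eq_one _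
    have h2 : g3 ^ 3 = 1 := by rw [← hx3]; exact pow_orderOf_eq_one _
    calc (n : G) * (g3 * n * g3⁻¹) * (g3 * (g3 * n * g3⁻¹) * g3⁻¹)
        = ((n : G) * g3) ^ 3 * (g3 ^ 3)⁻¹ := by simp only [pow_succ, pow_zero, one_mul]; group
      _ = 1 := by rw [h1, h2]; simp
  have : Group.IsNilpotent N := hN2.isNilpotent
  have hcl : Group.nilpotencyClass N ≤ 2 := by
    refine PGroups.FpfThree.commutator_mem_center' σ hσh fun K _ q hq => ?_
    obtain ⟨k, hk⟩ := (hN2.to_quotient K) q
    have := Nat.dvd_gcd (orderOf_dvd_of_pow_eq_one hq) (orderOf_dvd_of_pow_eq_one hk)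
    rw [Nat.Coprime.gcd_eq_one ((Nat.coprime_primes Nat.prime_three Nat.prime_two).mpr
      (by norm_num) |>.pow_right k), Nat.dvd_one] at this
    exact orderOf_eq_one_iff.mp this
  refine ⟨N, hNn, ?_⟩
  by_cases hCtop : C = ⊤
  · refine Or.inl ⟨hN2, ?_, hcl, ?_⟩
    · refine Nat.dvd_antisymm (Monoid.exponent_dvd_of_forall_pow_eq_one hexp4) ?_
      obtain ⟨g, hg⟩ := h4
      have hgN : g ∈ N := by
        rw [← QuotientGroup.eq_one_iff, ← orderOf_eq_one_iff]
        have h1 : orderOf (π g) ∣ 4 := hg ▸ orderOf_map_dvd π g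
        have h2 : orderOf (π g) ∣ Nat.card C := by
          rw [hCtop, Subgroup.card_top]; exact orderOf_dvd_natCard _
        rw [hCc] at h2
        have := Nat.dvd_gcd h1 h2
        norm_num at this
        exact orderOf_eq_one_iff.mpr this
      rw [← hg, ← Subgroup.orderOf_mk g hgN]
      exact Monoid.order_dvd_exponent _
    · rw [← hCc, hCtop, Subgroup.card_top, Subgroup.index_eq_card]
  right
  obtain ⟨yb, hyb⟩ := SetLike.exists_not_mem_of_ne_top C hCtop
  have hinv : yb * xb * yb⁻¹ = xb⁻¹ := (hconj yb).resolve_left fun h =>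
    hyb (Subgroup.mem_centralizer_singleton_iff.mpr (mul_inv_eq_iff_eq_mul.mp h))
  have hidx : C.index = 2 := by
    refine Subgroup.index_eq_two_iff'.mpr ⟨yb, fun g => ?_⟩
    rcases hconj g with h | h
    · refine Or.inr ⟨Subgroup.mem_centralizer_singleton_iff.mpr (mul_inv_eq_iff_eq_mul.mp h),
        fun hm => ?_⟩
      have : yb ∈ C := (Subgroup.mul_mem_cancel_right C
        (Subgroup.mem_centralizer_singleton_iff.mpr (mul_inv_eq_iff_eq_mul.mp h))).mp hm
      exact hyb this
    · refine Or.inl ⟨Subgroup.mem_centralizer_singleton_iff.mpr (mul_inv_eq_iff_eq_mul.mp ?_),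
        fun hm => ?_⟩
      · calc yb * g * xb * (yb * g)⁻¹ = yb * (g * xb * g⁻¹) * yb⁻¹ := by group
          _ = (yb * xb * yb⁻¹)⁻¹ := by rw [h]; group
          _ = xb := by rw [hinv, inv_inv]
      · have h' := mul_inv_eq_iff_eq_mul.mpr (Subgroup.mem_centralizer_singleton_iff.mp hm)
        rw [h] at h'
        have : xb ^ 2 = 1 := by rw [pow_two]; nth_rewrite 1 [← h']; exact inv_mul_cancel xb
        have := orderOf_dvd_of_pow_eq_one this
        rw [hxo] at this
        norm_num at this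
  have hQc : Nat.card (G ⧸ N) = 6 := by rw [← C.card_mul_index, hCc, hidx]
  -- lift an involution normalizing a Sylow `3`-subgroup
  have hPgen : Subgroup.zpowers g3 = P :=
    Subgroup.eq_of_le_of_card_ge hgP (by rw [Nat.card_zpowers, hg3, hPc])
  set R := Subgroup.normalizer ((P : Subgroup G) : Set G) with hR
  have hRN : ∀ n ∈ R, n ∈ N → n = 1 := by
    intro n hnR hnN
    have hgR : g3 ∈ (P : Subgroup G) := hgP (Subgroup.mem_zpowers g3)
    have h1 : n * g3 * n⁻¹ ∈ (P : Subgroup G) := (Subgroup.mem_normalizer_iff.mp hnR g3).mp hgR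
    have hk : n * g3 * n⁻¹ * g3⁻¹ ∈ N := by
      have := mul_mem hnN (hNn.conj_mem _ (inv_mem hnN) g3)
      simpa [mul_assoc] using this
    obtain ⟨k, hk2⟩ := hN2 ⟨_, hk⟩
    have hd1 : orderOf (n * g3 * n⁻¹ * g3⁻¹) ∣ 2 ^ k :=
      orderOf_dvd_of_pow_eq_one (congrArg Subtype.val hk2)
    have hd2 : orderOf (n * g3 * n⁻¹ * g3⁻¹) ∣ 3 :=
      orderOf_dvd_of_pow_eq_one (hPexp _ (mul_mem h1 (inv_mem hgR)))
    have := Nat.dvd_gcd hd2 hd1
    rw [Nat.Coprime.gcd_eq_one ((Nat.coprime_primes Nat.prime_three Nat.prime_two).mpr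
      (by norm_num) |>.pow_right k), Nat.dvd_one, orderOf_eq_one_iff] at this
    exact fpf_two hs hN2 hg3 hnN (mul_inv_eq_iff_eq_mul.mp (mul_inv_eq_one.mp this)).symm
  have hRtop : R ⊔ N = ⊤ := by
    set H := M.comap π with hH
    have hHn : H.Normal := hMn.comap π
    have hPH : (P : Subgroup G) ≤ H := by
      rw [← hPgen, Subgroup.zpowers_le]
      exact hxb
    have hsup := Sylow.normalizer_sup_eq_top' P hPH
    refine eq_top_iff.mpr (hsup ▸ sup_le le_sup_left ?_)
    intro h (hh : π h ∈ M)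
    rw [← hMgen] at hh
    obtain ⟨j, hj⟩ := hh
    have hN' : (g3 ^ j)⁻¹ * h ∈ N := by
      rw [← QuotientGroup.eq_one_iff]
      show π ((g3 ^ j)⁻¹ * h) = 1
      rw [map_mul, map_inv, map_zpow]
      exact inv_mul_eq_one.mpr hj
    have := Subgroup.mul_mem_sup (Subgroup.le_normalizer (zpow_mem (hgP (Subgroup.mem_zpowers g3)) j) :
      g3 ^ j ∈ R) hN'
    rwa [mul_inv_cancel_left] at this
  obtain ⟨ub, hub⟩ := exists_prime_orderOf_dvd_card' (G := G ⧸ N) 2 (by rw [hQc]; norm_num)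
  obtain ⟨u, hu⟩ := QuotientGroup.mk'_surjective N ub
  obtain ⟨t, ht, n0, hn0, htn⟩ := Subgroup.mem_sup_of_normal_right.mp
    (hRtop ▸ Subgroup.mem_top u : u ∈ R ⊔ N)
  have hπt : π t = ub := by
    rw [← hu, ← htn, map_mul, show π n0 = 1 from (QuotientGroup.eq_one_iff _).mpr hn0, mul_one]
  have hto : orderOf t = 2 := by
    have hd := orderOf_map_dvd π t
    rw [hπt, hub] at hd
    have ht2 : t ^ 2 = 1 := by
      refine hRN _ (pow_mem ht 2) ((QuotientGroup.eq_one_iff _).mp ?_)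
      show π (t ^ 2) = 1
      rw [map_pow, hπt, ← hub]; exact pow_orderOf_eq_one ub
    exact Nat.dvd_antisymm (orderOf_dvd_of_pow_eq_one ht2) hd
  have hubC : ub * xb * ub⁻¹ = xb⁻¹ := (hconj ub).resolve_left fun h =>
    no_six hsQ hxo hub (mul_inv_eq_iff_eq_mul.mp h).symm
  refine ⟨?_, iso_perm_three hQc hub (fun h => no_six hsQ hxo hub (mul_inv_eq_iff_eq_mul.mp h).symm)⟩
  have htt : t * t = 1 := by rw [← pow_two, ← hto]; exact pow_orderOf_eq_one t
  have htinv : t⁻¹ = t := inv_eq_of_mul_eq_one_right htt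
  have hgR : g3 ∈ (P : Subgroup G) := hgP (Subgroup.mem_zpowers g3)
  have htx : t * g3 * t⁻¹ = g3⁻¹ := by
    have hm : t * g3 * t⁻¹ ∈ (P : Subgroup G) := (Subgroup.mem_normalizer_iff.mp ht g3).mp hgR
    rw [← hPgen] at hm
    obtain ⟨j, hj⟩ := (Submonoid.mem_powers_iff _ _).mp ((mem_powers_iff_mem_zpowers).mpr hm)
    rw [← pow_mod_orderOf, hg3] at hj
    have h3' : j % 3 = 0 ∨ j % 3 = 1 ∨ j % 3 = 2 := by omega
    rcases h3' with h | h | h <;> rw [h] at hj
    · rw [pow_zero] at hj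
      have : g3 = 1 := by
        calc g3 = t⁻¹ * (t * g3 * t⁻¹) * t := by group
          _ = 1 := by rw [← hj]; group
      rw [this, orderOf_one] at hg3
      norm_num at hg3
    · rw [pow_one] at hj
      exact (no_six hs hg3 hto (mul_inv_eq_iff_eq_mul.mp hj.symm).symm).elim
    · refine hj ▸ eq_inv_of_mul_eq_one_left ?_
      rw [← pow_succ, show 2 + 1 = orderOf g3 by rw [hg3]]
      exact pow_orderOf_eq_one g3
  have hrel : ∀ i : ℕ, ∀ n : N, (n * MulAut.conjNormal (t * g3 ^ i) n) ^ 2 = 1 := by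
    intro i n
    set s := t * g3 ^ i with hsdef
    have hc : t * g3 ^ i * t⁻¹ = (g3 ^ i)⁻¹ := by
      rw [← MulAut.conj_apply, map_pow, MulAut.conj_apply, htx, inv_pow]
    rw [htinv] at hc
    have hs2 : s * s = 1 := by rw [hsdef, ← mul_assoc, hc, inv_mul_cancel]
    have hsi : s⁻¹ = s := inv_eq_of_mul_eq_one_right hs2
    apply Subtype.ext
    push_cast
    rw [MulAut.conjNormal_apply, hsi]
    have hπs : π s = ub * xb ^ i := by rw [hsdef, map_mul, map_pow, hπt]
    have hne : ub * xb ^ i ≠ 1 := fun h => by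
      have hm : ub ∈ C := by
        rw [eq_inv_of_mul_eq_one_left h]
        exact inv_mem (pow_mem (hMC hxb) i)
      exact no_six hsQ hxo hub (Subgroup.mem_centralizer_singleton_iff.mp hm).symm
    have hpe : π ((n : G) * s) = π s := by
      rw [map_mul, show π n = 1 from (QuotientGroup.eq_one_iff _).mpr n.2, one_mul]
    have ho : orderOf (π s) = 2 :=
      orderOf_eq_prime (by rw [← map_pow, pow_two, hs2, map_one]) (hπs ▸ hne)
    have hd := orderOf_map_dvd π ((n : G) * s)
    rw [hpe, ho] at hd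
    have hne1 : (n : G) * s ≠ 1 := fun h => by
      rw [h, map_one] at hpe
      rw [← hpe, orderOf_one] at ho
      norm_num at ho
    have h4 : ((n : G) * s) ^ 4 = 1 := by
      rcases orderOf_three_or_two hs hne1 with h | h | h
      · rw [h] at hd; norm_num at hd
      · exact orderOf_dvd_iff_pow_eq_one.mp (by rw [h]; norm_num)
      · exact orderOf_dvd_iff_pow_eq_one.mp (by rw [h])
    calc ((n : G) * (s * n * s)) ^ 2 = ((n : G) * s) ^ 4 := by
          simp only [pow_succ, pow_zero, one_mul, mul_assoc]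
      _ = 1 := h4
  have hsq : ∀ n : N, n ^ 2 = 1 := by
    intro n
    have hcen : ∀ a b : N, ⁅a, b⁆ ∈ Subgroup.center N := by
      intro a b
      rw [Subgroup.mem_center_iff]
      intro c
      have h2 : (⊤ : Subgroup N).lowerCentralSeries 2 = ⊥ :=
        Subgroup.lowerCentralSeries_eq_bot_iff_nilpotencyClass_le.mpr hcl
      have : ⁅⁅a, b⁆, c⁆ ∈ (⊤ : Subgroup N).lowerCentralSeries 2 :=
        Subgroup.commutator_mem_commutator
          (Subgroup.commutator_mem_commutator (Subgroup.mem_top a) (Subgroup.mem_top b))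
          (Subgroup.mem_top c)
      rw [h2, Subgroup.mem_bot, commutatorElement_eq_one_iff_mul_comm] at this
      exact this.symm
    set τ : N ≃* N := MulAut.conjNormal t with hτ
    set m : ℕ → N := fun i => MulAut.conjNormal (t * g3 ^ i) n with hm
    have hm0 : m 0 = τ n := by
      show MulAut.conjNormal (t * g3 ^ 0) n = _
      rw [pow_zero, mul_one]
    have hm1 : m 1 = τ (σ n) := by
      show MulAut.conjNormal (t * g3 ^ 1) n = _
      rw [pow_one, map_mul]; rfl
    have hm2 : m 2 = τ (σ (σ n)) := by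
      show MulAut.conjNormal (t * g3 ^ 2) n = _
      rw [pow_two, map_mul, map_mul]; rfl
    have key : ∀ i, m i * m i = ⁅m i, n⁆⁻¹ * (n ^ 2)⁻¹ := by
      intro i
      have h := hrel i n
      have hcz := hcen (m i) n
      have e : n ^ 2 * (⁅m i, n⁆ * (m i * m i)) = 1 := by
        rw [← h]
        calc n ^ 2 * (⁅m i, n⁆ * (m i * m i)) = n * (n * ⁅m i, n⁆) * (m i * m i) := by
              simp only [pow_two, mul_assoc]
          _ = n * (⁅m i, n⁆ * n) * (m i * m i) := by rw [Subgroup.mem_center_iff.mp hcz n]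
          _ = (n * m i) ^ 2 := by rw [pow_two]; group
      rw [eq_inv_of_mul_eq_one_right e |> fun he => (show m i * m i = ⁅m i, n⁆⁻¹ * (n ^ 2)⁻¹ from
        eq_inv_mul_iff_mul_eq.mpr he)]
    have hmul : ∀ a b : N, ⁅a * b, n⁆ = ⁅a, n⁆ * ⁅b, n⁆ := by
      intro a b
      calc ⁅a * b, n⁆ = a * ⁅b, n⁆ * a⁻¹ * ⁅a, n⁆ := by group
        _ = ⁅b, n⁆ * ⁅a, n⁆ := by rw [Subgroup.mem_center_iff.mp (hcen b n) a, mul_inv_cancel_right]
        _ = _ := (Subgroup.mem_center_iff.mp (hcen b n) _).symm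
    have hp1 : m 0 * m 1 * m 2 = 1 := by rw [hm0, hm1, hm2, ← map_mul, ← map_mul, hσh, map_one]
    have hp2 : m 0 * m 0 * (m 1 * m 1) * (m 2 * m 2) = 1 := by
      rw [hm0, hm1, hm2, ← map_mul, ← map_mul, ← map_mul, ← map_mul, ← map_mul, ← map_mul,
        ← map_mul, ← map_mul, hσh, map_one]
    have hc1 : ⁅m 0, n⁆ * ⁅m 1, n⁆ * ⁅m 2, n⁆ = 1 := by
      rw [← hmul, ← hmul, hp1, commutatorElement_one_left]
    rw [key, key, key] at hp2
    have z : ∀ i, ∀ g : N, g * ⁅m i, n⁆⁻¹ = ⁅m i, n⁆⁻¹ * g := fun i g =>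
      Subgroup.mem_center_iff.mp (inv_mem (hcen (m i) n)) g
    have e : (⁅m 0, n⁆ * ⁅m 1, n⁆ * ⁅m 2, n⁆)⁻¹ * ((n ^ 2)⁻¹ * (n ^ 2)⁻¹ * (n ^ 2)⁻¹) = 1 := by
      rw [← hp2]
      calc (⁅m 0, n⁆ * ⁅m 1, n⁆ * ⁅m 2, n⁆)⁻¹ * ((n ^ 2)⁻¹ * (n ^ 2)⁻¹ * (n ^ 2)⁻¹)
          = ⁅m 2, n⁆⁻¹ * (⁅m 1, n⁆⁻¹ * (⁅m 0, n⁆⁻¹ * (n ^ 2)⁻¹)) * (n ^ 2)⁻¹ * (n ^ 2)⁻¹ := by
            group
        _ = ⁅m 2, n⁆⁻¹ * (⁅m 0, n⁆⁻¹ * (n ^ 2)⁻¹ * ⁅m 1, n⁆⁻¹) * (n ^ 2)⁻¹ * (n ^ 2)⁻¹ := by
            rw [z 1]
        _ = (⁅m 2, n⁆⁻¹ * (⁅m 0, n⁆⁻¹ * (n ^ 2)⁻¹ * (⁅m 1, n⁆⁻¹ * (n ^ 2)⁻¹))) * (n ^ 2)⁻¹ := by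
            group
        _ = (⁅m 0, n⁆⁻¹ * (n ^ 2)⁻¹ * (⁅m 1, n⁆⁻¹ * (n ^ 2)⁻¹)) * ⁅m 2, n⁆⁻¹ * (n ^ 2)⁻¹ := by
            rw [← z 2]
        _ = _ := by group
    rw [hc1, inv_one, one_mul] at e
    calc n ^ 2 = ((n ^ 2)⁻¹ * (n ^ 2)⁻¹ * (n ^ 2)⁻¹)⁻¹ * (n ^ 4)⁻¹ := by
          group
      _ = 1 := by rw [e, hexp4, inv_one, one_mul]
  refine ⟨⟨⟨fun a b => ?_⟩⟩, fun a ha => congrArg Subtype.val (hsq ⟨a, ha⟩)⟩
  have hi : ∀ c : N, c⁻¹ = c := fun c => inv_eq_of_mul_eq_one_right (by rw [← pow_two, hsq])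
  rw [← hi (a * b), mul_inv_rev, hi a, hi b]

theorem case_three (hs : SmallOrders G) (h4 : ∃ g : G, orderOf g = 4)
    (h20 : Cfsg.pCore 2 G = ⊥) :
    ∃ (N : Subgroup G) (_ : N.Normal), Cfsg.IsElementaryAbelian 3 N ∧
      ((IsCyclic (G ⧸ N) ∧ N.index = 4) ∨ Nonempty (G ⧸ N ≃* QuaternionGroup 2)) := by
  have := Fact.mk Nat.prime_two
  have := Fact.mk Nat.prime_three
  obtain ⟨g4, hg4⟩ := h4
  have : Nontrivial G := nontrivial_of_ne g4 1 fun h => by
    rw [h, orderOf_one] at hg4; norm_num at hg4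
  have := isSolvable_of_small hs
  set N := Cfsg.pCore 3 G with hN
  have hNn : N.Normal := LocalEven2.pCore_normal 3 G
  have hN3 : IsPGroup 3 N := LocalEven2.pCore_isPGroup 3 G
  have hN0 : N ≠ ⊥ := by
    obtain ⟨r, M, hr, hMn, hM0, -, hMr, -⟩ := Solvable.Carter.exists_minimal_normal (G := G)
    have := Fact.mk hr
    obtain ⟨j, hj⟩ := IsPGroup.iff_card.mp hMr
    have hj0 : j ≠ 0 := by
      rintro rfl
      exact hM0 (Subgroup.eq_bot_of_card_eq M (by rw [hj, pow_zero]))
    intro hN0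
    rcases primeFactors_subset hs hr
      ((dvd_pow_self r hj0).trans (hj ▸ Subgroup.card_subgroup_dvd_card M)) with rfl | rfl
    · exact hM0 (eq_bot_iff.mpr (h20 ▸ LocalEven2.le_pCore hMn hMr))
    · exact hM0 (eq_bot_iff.mpr (hN0 ▸ LocalEven2.le_pCore hMn hMr))
  have : Nontrivial N := (Subgroup.nontrivial_iff_ne_bot N).mpr hN0
  have hfpf : ∀ z : G, orderOf z = 2 → ∀ n : N, MulAut.conjNormal z n = n → n = 1 := by
    intro z hz n hn
    by_contra h1
    have hne : (n : G) ≠ 1 := fun h => h1 (Subtype.ext h)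
    exact no_six hs (orderOf_eq_prime (pow_three_eq_one hs hN3 n.2) hne) hz (conjNormal_fixed hn).symm
  set π := QuotientGroup.mk' N with hπ
  have hsQ : SmallOrders (G ⧸ N) := small_map hs π (QuotientGroup.mk'_surjective N)
  -- a Sylow `2`-subgroup has a unique involution
  obtain ⟨T, hgT⟩ := (IsPGroup.of_card (n := 2)
    (by rw [Nat.card_zpowers, hg4]; rfl) : IsPGroup 2 (Subgroup.zpowers g4)).exists_le_sylow
  have hTN : ∀ a ∈ (T : Subgroup G), a ∈ N → a = 1 := fun a ha haN => by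
    obtain ⟨i, hi⟩ := T.2 ⟨a, ha⟩
    obtain ⟨j, hj⟩ := hN3 ⟨a, haN⟩
    have := Nat.dvd_gcd (orderOf_dvd_of_pow_eq_one (congrArg Subtype.val hi))
      (orderOf_dvd_of_pow_eq_one (congrArg Subtype.val hj))
    rw [Nat.Coprime.gcd_eq_one ((Nat.coprime_primes Nat.prime_two Nat.prime_three).mpr
      (by norm_num) |>.pow i j), Nat.dvd_one] at this
    exact orderOf_eq_one_iff.mp this
  set φ : T →* MulAut N := (MulAut.conjNormal (H := N)).comp (T : Subgroup G).subtype with hφ
  have hTfpf : ∀ a : T, a ≠ 1 → ∀ n : N, φ a n = n → n = 1 := by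
    intro a ha n hn
    have hne : (a : G) ≠ 1 := fun h => ha (Subtype.ext h)
    rcases orderOf_three_or_two hs hne with h | h | h
    · obtain ⟨i, hi⟩ := T.2 a
      have hd := orderOf_dvd_of_pow_eq_one (congrArg Subtype.val hi)
      rw [show orderOf ((a : T) : G) = 3 from h] at hd
      exact absurd (Nat.prime_three.dvd_of_dvd_pow hd) (by norm_num)
    · exact hfpf a h n hn
    · refine hfpf ((a : G) ^ 2) (by rw [orderOf_pow' _ two_ne_zero, h]; norm_num) n ?_
      rw [pow_two, map_mul, MulAut.mul_apply]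
      change φ a (φ a n) = n
      rw [hn, hn]
  have hTt : ∀ a : T, (a : G) ∈ N → a = 1 := fun a ha => Subtype.ext (hTN a a.2 ha)
  have hT : (IsCyclic T ∧ Nat.card T = 4) ∨ Nonempty (T ≃* QuaternionGroup 2) := by
    have hmax : ∀ a : T, orderOf a ≤ 4 := fun a => by
      have := hs (a : G)
      simp only [Set.mem_insert_iff, Set.mem_singleton_iff, Subgroup.orderOf_coe] at this
      omega
    have h4T : orderOf (⟨g4, hgT (Subgroup.mem_zpowers g4)⟩ : T) = 4 := by
      rw [Subgroup.orderOf_mk]; exact hg4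
    rcases Frobenius.isCyclic_or_quaternion_of_fixedPointFree φ hTfpf ⊤ (T.2.to_subgroup ⊤) with
      h | ⟨-, m, ⟨e⟩⟩
    · have : IsCyclic T := isCyclic_of_surjective Subgroup.topEquiv.toMonoidHom
        Subgroup.topEquiv.surjective
      obtain ⟨y, hy⟩ := IsCyclic.exists_ofOrder_eq_natCard (α := T)
      refine Or.inl ⟨this, le_antisymm (hy ▸ hmax y) ?_⟩
      exact h4T ▸ Nat.le_of_dvd Nat.card_pos (orderOf_dvd_natCard _)
    · have e' := Subgroup.topEquiv.symm.trans e
      have h2m : 2 * 2 ^ (m + 1) ≤ 4 := by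
        have h1 := hmax (e'.symm (QuaternionGroup.a 1))
        rw [MulEquiv.orderOf_eq, QuaternionGroup.orderOf_a_one] at h1
        exact h1
      have hm : m = 0 := by
        by_contra hm
        have := Nat.pow_le_pow_right (show 1 ≤ 2 by norm_num) (show 2 ≤ m + 1 by omega)
        omega
      subst hm
      exact Or.inr ⟨e'⟩
  -- the involution of `T` inverts `N`
  set z := g4 ^ 2 with hz
  have hzo : orderOf z = 2 := by rw [hz, orderOf_pow' _ two_ne_zero, hg4]; norm_num
  have hzi : z⁻¹ = z := inv_eq_of_mul_eq_one_right (by rw [← pow_two, ← hzo]; exact pow_orderOf_eq_one z)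
  have hzπ : orderOf (π z) = 2 := by
    refine (Nat.prime_two.eq_one_or_self_of_dvd _ (hzo ▸ orderOf_map_dvd π z)).resolve_left
      fun h1 => ?_
    have := hTN z (pow_mem (hgT (Subgroup.mem_zpowers g4)) 2)
      ((QuotientGroup.eq_one_iff z).mp (orderOf_eq_one_iff.mp h1))
    rw [this, orderOf_one] at hzo
    norm_num at hzo
  have hinv : ∀ n ∈ N, z * n * z = n⁻¹ := by
    intro n hn
    have hpe : π (n * z) = π z := by
      rw [map_mul, show π n = 1 from (QuotientGroup.eq_one_iff _).mpr hn, one_mul]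
    have hd := orderOf_map_dvd π (n * z)
    rw [hpe, hzπ] at hd
    have hne : n * z ≠ 1 := fun h => by
      rw [h, map_one] at hpe; rw [← hpe, orderOf_one] at hzπ; norm_num at hzπ
    have hm : n * (z * n * z) ∈ N := mul_mem hn (by
      have := hNn.conj_mem n hn z; rwa [hzi] at this)
    have h2 : (n * (z * n * z)) ^ 2 = 1 := by
      have e : (n * (z * n * z)) ^ 2 = (n * z) ^ 4 := by
        simp only [pow_succ, pow_zero, one_mul, mul_assoc]
      rw [e]
      rcases orderOf_three_or_two hs hne with h | h | h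
      · rw [h] at hd; norm_num at hd
      · exact orderOf_dvd_iff_pow_eq_one.mp (by rw [h]; norm_num)
      · exact orderOf_dvd_iff_pow_eq_one.mp (by rw [h])
    have h3 := pow_three_eq_one hs hN3 hm
    exact eq_inv_of_mul_eq_one_right (by rwa [pow_succ, h2, one_mul] at h3)
  have hNe : Cfsg.IsElementaryAbelian 3 N := by
    refine ⟨⟨⟨fun a b => Subtype.ext ?_⟩⟩, fun a ha => pow_three_eq_one hs hN3 ha⟩
    push_cast
    have h1 := hinv _ (mul_mem (inv_mem a.2) (inv_mem b.2))
    have ha := hinv _ (inv_mem a.2)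
    have hb := hinv _ (inv_mem b.2)
    rw [inv_inv] at ha hb
    have hzz : z * z = 1 := by rw [← pow_two, ← hzo]; exact pow_orderOf_eq_one z
    calc (a : G) * b = z * (a : G)⁻¹ * z * (z * (b : G)⁻¹ * z) := by rw [ha, hb]
      _ = z * (a : G)⁻¹ * (z * z) * ((b : G)⁻¹ * z) := by group
      _ = z * ((a : G)⁻¹ * (b : G)⁻¹) * z := by rw [hzz]; group
      _ = (b : G) * a := by rw [h1, mul_inv_rev, inv_inv, inv_inv]
  -- the quotient is a `2`-group
  set Tb := T.mapSurjective (QuotientGroup.mk'_surjective N) with hTb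
  let f : T →* Tb :=
    (π.comp (T : Subgroup G).subtype).codRestrict _ fun a => ⟨a, a.2, rfl⟩
  have hf : Function.Bijective f := by
    refine ⟨?_, fun ⟨y, a, ha, hay⟩ => ⟨⟨a, ha⟩, Subtype.ext hay⟩⟩
    rw [← MonoidHom.ker_eq_bot_iff, eq_bot_iff]
    intro a ha
    exact hTt a ((QuotientGroup.eq_one_iff _).mp (congrArg Subtype.val ha))
  let eT := MulEquiv.ofBijective f hf
  have huniq : ∀ a b : T, orderOf a = 2 → orderOf b = 2 → a = b := by
    intro a b ha hb
    have hzc : ∀ c : T, orderOf c = 2 → ∀ n ∈ N, (c : G) * n * (c : G) = n⁻¹ := by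
      intro c hc n hn
      have hco : orderOf (c : G) = 2 := by rw [Subgroup.orderOf_coe, hc]
      have hci : ((c : G))⁻¹ = c := inv_eq_of_mul_eq_one_right
        (sq_one hco)
      have hm : n * ((c : G) * n * c) ∈ N := mul_mem hn (by
        have := hNn.conj_mem n hn c; rwa [hci] at this)
      have hfix : MulAut.conjNormal (c : G) (⟨_, hm⟩ : N) = ⟨_, hm⟩ := by
        apply Subtype.ext
        rw [MulAut.conjNormal_apply, hci]
        show (c : G) * (n * ((c : G) * n * c)) * c = n * ((c : G) * n * c)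
        have hab : n * ((c : G) * n * c) = ((c : G) * n * c) * n :=
          congrArg Subtype.val (hNe.1.1.1 (⟨n, hn⟩ : N) ⟨_, by
            have := hNn.conj_mem n hn c; rwa [hci] at this⟩)
        calc (c : G) * (n * ((c : G) * n * c)) * c = ((c : G) * n * c) * n * ((c : G) * c) := by group
          _ = _ := by rw [← hab, sq_one hco, mul_one]
      exact eq_inv_of_mul_eq_one_right (congrArg Subtype.val (hfpf c hco _ hfix))
    by_contra hne
    obtain ⟨n, hn⟩ := exists_ne (1 : N)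
    have hab : a * b ≠ 1 := fun h => hne (by
      rw [eq_inv_of_mul_eq_one_left h]
      exact inv_eq_of_mul_eq_one_right (sq_one hb))
    have hai : ((a : G))⁻¹ = a := inv_eq_of_mul_eq_one_right (sq_one (Subgroup.orderOf_coe a ▸ ha))
    have hbi : ((b : G))⁻¹ = b := inv_eq_of_mul_eq_one_right (sq_one (Subgroup.orderOf_coe b ▸ hb))
    refine hn (hTfpf _ hab n (Subtype.ext ?_))
    show ((MulAut.conjNormal ((a * b : T) : G) n : N) : G) = n
    rw [MulAut.conjNormal_apply]
    push_cast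
    rw [mul_inv_rev, hai, hbi]
    calc (a : G) * b * n * (b * a) = (a : G) * ((b : G) * n * b) * a := by group
      _ = n := by rw [hzc b hb n n.2, hzc a ha _ (inv_mem n.2), inv_inv]
  have : Nontrivial (G ⧸ N) := nontrivial_of_ne (π z) 1 fun h => by
    rw [h, orderOf_one] at hzπ; norm_num at hzπ
  have := isSolvable_of_small hsQ
  obtain ⟨r, M, hr, hMn, hM0, -, hMr, -⟩ := Solvable.Carter.exists_minimal_normal (G := G ⧸ N)
  have hr2 : r = 2 := by
    have := Fact.mk hr
    obtain ⟨j, hj⟩ := IsPGroup.iff_card.mp hMr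
    have hj0 : j ≠ 0 := by
      rintro rfl
      exact hM0 (Subgroup.eq_bot_of_card_eq M (by rw [hj, pow_zero]))
    refine (primeFactors_subset hsQ hr ?_).resolve_right fun h3 => ?_
    · exact (dvd_pow_self r hj0).trans (hj ▸ Subgroup.card_subgroup_dvd_card M)
    · subst h3; exact hM0 (quotient_pCore Nat.prime_three hMr)
  subst hr2
  have hMT : M ≤ Tb := by
    have hp : IsPGroup 2 (M ⊔ (Tb : Subgroup (G ⧸ N)) : Subgroup (G ⧸ N)) :=
      IsPGroup.to_sup_of_normal_left hMr Tb.2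
    calc M ≤ M ⊔ Tb := le_sup_left
      _ = Tb := Tb.3 hp le_sup_right
  obtain ⟨w, hw⟩ : ∃ w : M, orderOf w = 2 := by
    obtain ⟨j, hj⟩ := IsPGroup.iff_card.mp hMr
    refine exists_prime_orderOf_dvd_card' 2 (hj ▸ dvd_pow_self 2 ?_)
    rintro rfl
    exact hM0 (Subgroup.eq_bot_of_card_eq M (by rw [hj, pow_zero]))
  have hwc : ∀ g : G ⧸ N, g * w * g⁻¹ = w := by
    intro g
    have hm : g * (w : G ⧸ N) * g⁻¹ ∈ (Tb : Subgroup (G ⧸ N)) := hMT (hMn.conj_mem _ w.2 g)
    have ho : orderOf (g * (w : G ⧸ N) * g⁻¹) = 2 := by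
      rw [← MulAut.conj_apply, MulEquiv.orderOf_eq, Subgroup.orderOf_coe, hw]
    have := huniq (eT.symm ⟨_, hm⟩) (eT.symm ⟨_, hMT w.2⟩)
      (by rw [MulEquiv.orderOf_eq, Subgroup.orderOf_mk, ho])
      (by rw [MulEquiv.orderOf_eq, Subgroup.orderOf_mk, Subgroup.orderOf_coe, hw])
    exact congrArg Subtype.val (eT.symm.injective this)
  have hQ2 : IsPGroup 2 (⊤ : Subgroup (G ⧸ N)) := fun ⟨y, _⟩ => by
    refine ⟨2, Subtype.ext ?_⟩
    show y ^ 2 ^ 2 = 1
    by_cases h1 : y = 1
    · rw [h1, one_pow]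
    rcases orderOf_three_or_two hsQ h1 with h | h | h
    · exact (no_six hsQ h (Subgroup.orderOf_coe w ▸ hw)
        (mul_inv_eq_iff_eq_mul.mp (hwc y))).elim
    · exact orderOf_dvd_iff_pow_eq_one.mp (by rw [h]; norm_num)
    · exact orderOf_dvd_iff_pow_eq_one.mp (by rw [h]; norm_num)
  have htop : (Tb : Subgroup (G ⧸ N)) = ⊤ := (Tb.3 hQ2 le_top).symm
  let e : T ≃* G ⧸ N := eT.trans ((MulEquiv.subgroupCongr htop).trans Subgroup.topEquiv)
  refine ⟨N, hNn, hNe, ?_⟩
  rcases hT with ⟨hc, h4'⟩ | hTq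
  · refine Or.inl ⟨isCyclic_of_surjective e.toMonoidHom e.surjective, ?_⟩
    rw [Subgroup.index_eq_card, ← Nat.card_congr e.toEquiv]
    exact h4'
  · obtain ⟨iso⟩ := hTq
    exact Or.inr ⟨e.symm.trans iso⟩

/-- A finite group whose set of element orders is exactly {1, 2, 3, 4} has a normal subgroup N such that either N is a 2-group of exponent 4 and nilpotency class at most 2 with G/N of order 3, or N is an elementary abelian 2-group with G/N isomorphic to the symmetric group of degree 3, or N is an elementary abelian 3-group with G/N cyclic of order 4 or quaternion of order 8. -/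
theorem result {G : Type*} [Group G] [Finite G] (h : Set.range (orderOf : G → ℕ) = {k : ℕ | 1 ≤ k ∧ k ≤ 4}) :
    ∃ (N : Subgroup G) (_ : N.Normal),
      (IsPGroup 2 ↥N ∧ Monoid.exponent ↥N = 4 ∧ Group.nilpotencyClass ↥N ≤ 2 ∧ N.index = 3) ∨
      (Cfsg.IsElementaryAbelian 2 N ∧ Nonempty (G ⧸ N ≃* Equiv.Perm (Fin 3))) ∨
      (Cfsg.IsElementaryAbelian 3 N ∧ ((IsCyclic (G ⧸ N) ∧ N.index = 4) ∨ Nonempty (G ⧸ N ≃* QuaternionGroup 2))) := by
  have hs : SmallOrders G := fun g => by
    have hg : orderOf g ∈ Set.range (orderOf : G → ℕ) := ⟨g, rfl⟩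
    rw [h, Set.mem_ofPred_eq] at hg
    simp only [Set.mem_insert_iff, Set.mem_singleton_iff]
    omega
  have hex : ∀ k, 1 ≤ k → k ≤ 4 → ∃ g : G, orderOf g = k := fun k h1 h2 =>
    (show k ∈ Set.range (orderOf : G → ℕ) by rw [h]; exact ⟨h1, h2⟩)
  by_cases hN0 : Cfsg.pCore 2 G = ⊥
  · obtain ⟨N, hN, hNe, hQ⟩ := case_three hs (hex 4 (by norm_num) le_rfl) hN0
    exact ⟨N, hN, Or.inr (Or.inr ⟨hNe, hQ⟩)⟩
  · obtain ⟨N, hN, h | h⟩ := case_two hs (hex 3 (by norm_num) (by norm_num)) (hex 4 (by norm_num) le_rfl) hN0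
    · exact ⟨N, hN, Or.inl h⟩
    · exact ⟨N, hN, Or.inr (Or.inl h)⟩

end Cfsg.Agent.S4006
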