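import Cfsg.Statements.S4013
import Mathlib.GroupTheory.PGroup
import Mathlib.GroupTheory.GroupAction.ConjAct
import Mathlib.GroupTheory.GroupAction.Quotient

set_option autoImplicit false
open Cfsg

namespace Cfsg.Agent.S4013

/-- Let G be a finite p-group (p prime) and N < M normal subgroups of G such that for some g ∈ M ∖ N the conjugacy class of g is exactly M ∖ N. Then p = 2 and N has index 2 in M. -/
theorem result {G : Type*} [Group G] [Finite G] (p : ℕ) [Fact p.Prime] (hG : IsPGroup p G) (N M : Subgroup G) [N.Normal] [M.Normal] (hNM : N < M) (g : G) (hgM : g ∈ M) (hgN : g ∉ N) (hcl : {h : G | IsConj g h} = (M : Set G) \ (N : Set G)) : p = 2 ∧ N.relIndex M = 2 := by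
  have hp : p.Prime := Fact.out
  obtain ⟨a, ha⟩ := (hG.to_subgroup M).exists_card_eq
  obtain ⟨b, hb⟩ := (hG.to_subgroup N).exists_card_eq
  have hsub : ((N : Set G)) ⊆ (M : Set G) := hNM.le
  obtain ⟨c, hc⟩ : ∃ c, ({h : G | IsConj g h}).ncard = p ^ c := by
    have h1 : ({h : G | IsConj g h}) = MulAction.orbit (ConjAct G) g := by
      rw [ConjAct.orbit_eq_carrier_conjClasses]
      ext h
      simp only [Set.mem_ofPred_eq, ConjClasses.mem_carrier_iff_mk_eq, ConjClasses.mk_eq_mk_iff_isConj]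
      exact isConj_comm
    rw [h1, ← Nat.card_coe_set_eq,
      Nat.card_congr (MulAction.orbitEquivQuotientStabilizer (ConjAct G) g)]
    obtain ⟨k, hk⟩ := hG.exists_card_eq
    have hk' : Nat.card (ConjAct G) = p ^ k := hk
    obtain ⟨c, -, hc⟩ := (Nat.dvd_prime_pow hp).mp
      (hk' ▸ (MulAction.stabilizer (ConjAct G) g).index_dvd_card)
    exact ⟨c, hc⟩
  have heq : p ^ c + p ^ b = p ^ a := by
    rw [← hc, hcl, ← hb, ← ha]
    exact (Nat.card_coe_set_eq (N : Set G)).symm ▸ (Nat.card_coe_set_eq (M : Set G)).symm ▸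
      Set.ncard_sdiff_add_ncard_of_subset hsub
  have hba : b < a := by
    by_contra h
    push Not at h
    have := Nat.pow_le_pow_right hp.pos h
    have := Nat.one_le_pow c p hp.pos
    omega
  obtain ⟨d, rfl⟩ : ∃ d, a = b + (d + 1) := ⟨a - b - 1, by omega⟩
  have hcb : p ^ c = p ^ b * (p ^ (d + 1) - 1) := by
    rw [Nat.mul_sub, mul_one, ← pow_add]; omega
  obtain ⟨e, -, he⟩ := (Nat.dvd_prime_pow hp).mp (hcb ▸ dvd_mul_left _ _ : p ^ (d + 1) - 1 ∣ p ^ c)
  have he0 : e = 0 := by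
    by_contra h
    have h1 : p ∣ p ^ (d + 1) - 1 := he ▸ dvd_pow_self p h
    have h2 : p ∣ p ^ (d + 1) := dvd_pow_self p (Nat.succ_ne_zero d)
    have h3 := Nat.dvd_sub h2 h1
    rw [Nat.sub_sub_self (Nat.one_le_pow _ _ hp.pos), Nat.dvd_one] at h3
    exact hp.ne_one h3
  rw [he0, pow_zero] at he
  have hp2 : p ^ (d + 1) = 2 := by have := Nat.one_le_pow (d + 1) p hp.pos; omega
  have hd : d = 0 := by
    by_contra h
    have h4 : p ^ 2 ≤ p ^ (d + 1) := Nat.pow_le_pow_right hp.pos (by omega)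
    have h5 : 2 * 2 ≤ p ^ 2 := by rw [pow_two]; exact Nat.mul_le_mul hp.two_le hp.two_le
    omega
  subst hd
  rw [zero_add, pow_one] at hp2
  refine ⟨hp2, ?_⟩
  have hmul := Subgroup.card_mul_index (N.subgroupOf M)
  rw [Nat.card_congr (Subgroup.subgroupOfEquivOfLe hNM.le).toEquiv, ha, hb, zero_add, pow_add,
    pow_one, hp2] at hmul
  exact Nat.eq_of_mul_eq_mul_left (pow_pos (by norm_num) b) hmul

end Cfsg.Agent.S4013
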