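import Cfsg.Statements.S4014
import Cfsg.Agent.Lib.OddChar.PGroupDerived

set_option autoImplicit false
open Cfsg

namespace Cfsg.Agent.S4014

open Cfsg.Agent.Lib.OddChar

/-- Let p be a prime, n ≥ 1, and P a Sylow p-subgroup of the symmetric group on n letters. Then the derived length of P is exactly k = ⌊log_p n⌋ (the largest k with p^k ≤ n): the k-th derived subgroup of P is trivial and, when k ≥ 1, the (k−1)-st is not. -/
theorem result (p : ℕ) [Fact p.Prime] (n : ℕ) (hn : 1 ≤ n) (P : Sylow p (Equiv.Perm (Fin n))) : derivedSeries ↥(P : Subgroup (Equiv.Perm (Fin n))) (Nat.log p n) = ⊥ ∧ (1 ≤ Nat.log p n → derivedSeries ↥(P : Subgroup (Equiv.Perm (Fin n))) (Nat.log p n - 1) ≠ ⊥) := by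
  classical
  refine ⟨?_, fun h1 => ?_⟩
  · have h := derivedSeries_perm_eq_bot (P : Subgroup (Equiv.Perm (Fin n))) P.2
    rwa [Nat.card_fin] at h
  intro hbot
  obtain ⟨k, hk⟩ : ∃ k, Nat.log p n = k + 1 := ⟨Nat.log p n - 1, by omega⟩
  rw [hk, Nat.add_sub_cancel] at hbot
  let G := Multiplicative (ZMod p)
  have hG : Nat.card G = p := by simp [G]
  haveI : Nontrivial G := Finite.one_lt_card_iff_nontrivial.mp (by rw [hG]; exact (Fact.out : p.Prime).one_lt)
  have hle : p ^ (k + 1) ≤ n := hk ▸ Nat.pow_log_le_self p (by omega)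
  have hcard : Nat.card (Fin (k + 1) → G) = p ^ (k + 1) := by rw [Nat.card_fun, Nat.card_fin, hG]
  let ι : (Fin (k + 1) → G) ↪ Fin n :=
    (Finite.equivFinOfCardEq hcard).toEmbedding.trans (Fin.castLEEmb hle)
  let f : IteratedWreathProduct G (k + 1) →* Equiv.Perm (Fin n) :=
    (Equiv.Perm.viaEmbeddingHom ι).comp (iteratedWreathToPermHom G (k + 1))
  have hf : Function.Injective f :=
    (Equiv.Perm.viaEmbeddingHom_injective ι).comp (iteratedWreathToPermHomInj G (k + 1))
  have hp' : IsPGroup p f.range := by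
    refine IsPGroup.of_card (n := ∑ i ∈ Finset.range (k + 1), p ^ i) ?_
    rw [← Nat.card_congr (MonoidHom.ofInjective hf).toEquiv, IteratedWreathProduct.card, hG]
  obtain ⟨Q, hQ⟩ := hp'.exists_le_sylow
  let e : (Q : Subgroup (Equiv.Perm (Fin n))) ≃* (P : Subgroup (Equiv.Perm (Fin n))) := Sylow.equiv Q P
  have hQbot : derivedSeries (Q : Subgroup (Equiv.Perm (Fin n))) k = ⊥ := by
    rw [eq_bot_iff]
    intro x hx
    have := map_derivedSeries_le_derivedSeries e.toMonoidHom k ⟨x, hx, rfl⟩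
    rw [hbot, Subgroup.mem_bot] at this
    exact Subgroup.mem_bot.mpr (e.injective (this.trans (map_one e).symm))
  let g : IteratedWreathProduct G (k + 1) →* (Q : Subgroup (Equiv.Perm (Fin n))) :=
    f.codRestrict _ fun x => hQ ⟨x, rfl⟩
  refine iterated_derived_ne_bot (G := G) k (eq_bot_iff.mpr fun x hx => ?_)
  have := map_derivedSeries_le_derivedSeries g k ⟨x, hx, rfl⟩
  rw [hQbot, Subgroup.mem_bot] at this
  exact Subgroup.mem_bot.mpr (hf ((congrArg Subtype.val this).trans (map_one f).symm))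

end Cfsg.Agent.S4014
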