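import Cfsg.Statements.S4015
import Cfsg.Agent.Lib.FusionControl.DerivedWreath
import Cfsg.Agent.Lib.FusionControl.BlockDiag
import Cfsg.Agent.Lib.KnownA.SylowTori
import Cfsg.Agent.Lib.OddChar.PGroupDerived

set_option autoImplicit false
open Cfsg

namespace Cfsg.Agent.S4015

open Matrix
open Cfsg.Agent.Lib.FusionControl
open Cfsg.Agent.Lib.KnownA

variable {p q : ℕ} [hp : Fact p.Prime]

theorem val_pow (hp2 : p ≠ 2) (hq : 1 < q) (hpq : ¬ p ∣ q) {i : ℕ} (hi : 1 ≤ i) :
    padicValNat p (q ^ i - 1) = if orderOf (q : ZMod p) ∣ i then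
      SylowTori.expo p q + padicValNat p (i / orderOf (q : ZMod p)) else 0 := by
  split_ifs with h
  · obtain ⟨j, rfl⟩ := h
    have hd := SylowTori.ord_pos hpq
    have hdvd : p ∣ q ^ orderOf (q : ZMod p) - 1 :=
      (SylowTori.dvd_pow_sub_one_iff (by omega) _).mpr dvd_rfl
    rw [Nat.mul_div_cancel_left j hd, pow_mul, SylowTori.expo]
    have := padicValNat.pow_sub_pow (p := p) (x := q ^ orderOf (q : ZMod p)) (y := 1) (hp.out.odd_of_ne_two hp2)
      (Nat.one_lt_pow hd.ne' hq) hdvd (fun h' => hpq (hp.out.dvd_of_dvd_pow h')) (n := j)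
      (fun h0 => by simp [h0] at hi)
    rwa [one_pow] at this
  · exact padicValNat.eq_zero_of_not_dvd fun hd => h ((SylowTori.dvd_pow_sub_one_iff (by omega) i).mp hd)

theorem sum_val (hp2 : p ≠ 2) (hq : 1 < q) (hpq : ¬ p ∣ q) (n : ℕ) :
    ∑ i ∈ Finset.range n, padicValNat p (q ^ (i + 1) - 1) =
      n / orderOf (q : ZMod p) * SylowTori.expo p q + padicValNat p (n / orderOf (q : ZMod p)).factorial := by
  induction n with
  | zero => simp
  | succ n ih =>
    rw [Finset.sum_range_succ, ih, val_pow hp2 hq hpq (by omega), Nat.succ_div]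
    split_ifs with h
    · rw [Nat.factorial_succ, padicValNat.mul (Nat.succ_ne_zero _) (Nat.factorial_ne_zero _)]
      ring
    · simp

variable {F : Type*} [Field F] [Fintype F]

theorem val_card (hF : Fintype.card F = q) (hp2 : p ≠ 2) (hpq : ¬ p ∣ q) (n : ℕ) :
    padicValNat p (Nat.card (GL (Fin n) F)) =
      n / orderOf (q : ZMod p) * SylowTori.expo p q + padicValNat p (n / orderOf (q : ZMod p)).factorial := by
  have hq := SylowTori.one_lt_q hF
  rw [Cfsg.Agent.Lib.Classical.card_GL_formula, hF, padicValNat.mul (pow_ne_zero _ (by omega))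
    (Finset.prod_ne_zero_iff.mpr fun i _ => by have := Nat.one_lt_pow (n := i + 1) (by omega) hq; omega),
    padicValNat.eq_zero_of_not_dvd (fun h => hpq (hp.out.dvd_of_dvd_pow h)), zero_add,
    SylowTori.val_prod _ _ fun i _ => by have := Nat.one_lt_pow (n := i + 1) (by omega) hq; omega,
    sum_val hp2 hq hpq]

theorem derived_map_ne_bot {A B : Type*} [Group A] [Group B] (f : A →* B) (hf : Function.Injective f) {k : ℕ}
    (h : derivedSeries A k ≠ ⊥) : derivedSeries B k ≠ ⊥ := fun hb => h (by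
  rw [← Subgroup.map_eq_bot_iff_of_injective _ hf, eq_bot_iff, ← hb]
  exact map_derivedSeries_le_derivedSeries f k)

theorem tower (hF : Fintype.card F = q) (hp2 : p ≠ 2) (hpq : ¬ p ∣ q) :
    ∀ k : ℕ, ∃ Q : Subgroup (GL (Fin (orderOf (q : ZMod p) * p ^ k)) F), IsPGroup p Q ∧ derivedSeries Q k ≠ ⊥ := by
  classical
  have hd := SylowTori.ord_pos (r := p) hpq
  have hq := SylowTori.one_lt_q hF
  intro k
  induction k with
  | zero =>
    rw [pow_zero, mul_one]
    have hdvd : p ∣ Nat.card (GL (Fin (orderOf (q : ZMod p))) F) := by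
      refine dvd_of_one_le_padicValNat ?_
      rw [val_card hF hp2 hpq, Nat.div_self hd, one_mul]
      have : 1 ≤ SylowTori.expo p q := one_le_padicValNat_of_dvd
        (by have := Nat.one_lt_pow hd.ne' hq; omega) ((SylowTori.dvd_pow_sub_one_iff (by omega) _).mpr dvd_rfl)
      omega
    obtain ⟨g, hg⟩ := exists_prime_orderOf_dvd_card' p hdvd
    refine ⟨Subgroup.zpowers g, IsPGroup.of_card (n := 1) (by rw [Nat.card_zpowers, hg, pow_one]), ?_⟩
    rw [derivedSeries_zero]
    intro h
    have h1 : (⟨g, Subgroup.mem_zpowers g⟩ : Subgroup.zpowers g) ∈ (⊥ : Subgroup (Subgroup.zpowers g)) := h ▸ trivial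
    rw [Subgroup.mem_bot, Subtype.ext_iff] at h1
    exact hp.out.ne_one (hg ▸ orderOf_eq_one_iff.mpr h1)
  | succ k ih =>
    obtain ⟨Q, hQ, hk⟩ := ih
    have : Nonempty (Fin (orderOf (q : ZMod p) * p ^ k)) := ⟨⟨0, Nat.mul_pos hd (pow_pos hp.out.pos _)⟩⟩
    set σ : Equiv.Perm (Fin p) := finRotate p
    have hσ : σ ⟨0, hp.out.pos⟩ ≠ ⟨0, hp.out.pos⟩ := fun h => by
      have h2 := hp.out.two_le
      obtain ⟨r, hr⟩ : ∃ r, p = r + 2 := ⟨p - 2, by omega⟩
      have : ∀ {m : ℕ} (hm : m = r + 2) (h0 : 0 < m), finRotate m ⟨0, h0⟩ ≠ ⟨0, h0⟩ := by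
        rintro m rfl h0
        rw [finRotate_succ_apply]
        simp [Fin.ext_iff]
      exact this hr _ h
    have hW : IsPGroup p (Subgroup.zpowers σ) := by
      refine IsPGroup.of_card (n := 1) ?_
      rw [Nat.card_zpowers, pow_one]
      have h2 := hp.out.two_le
      rw [(isCycle_finRotate_of_le h2).orderOf, support_finRotate_of_le h2, Finset.card_univ, Fintype.card_fin]
    let E : Fin (orderOf (q : ZMod p) * p ^ k) × Fin p ≃ Fin (orderOf (q : ZMod p) * p ^ (k + 1)) :=
      finProdFinEquiv.trans (finCongr (by rw [pow_succ, mul_assoc]))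
    set P := WreathSquares.wreath DerivedWreath.blk DerivedWreath.bpm Q (Subgroup.zpowers σ)
    refine ⟨P.map (BlockDiag.glReindex (F := F) E).toMonoidHom,
      (DerivedWreath.isPGroup_wreath _ _ DerivedWreath.bpm_conj Q _ hQ hW).map _, ?_⟩
    exact derived_map_ne_bot (P.equivMapOfInjective _ (BlockDiag.glReindex (F := F) E).injective).toMonoidHom
      (MulEquiv.injective _) (DerivedWreath.derived_ne_bot _ _ DerivedWreath.bpm_conj DerivedWreath.blk_bpm_eq_one Q _
        σ (Subgroup.mem_zpowers σ) _ hσ hk)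

theorem upper (hF : Fintype.card F = q) (hp2 : p ≠ 2) (hpq : ¬ p ∣ q) (n : ℕ) (P : Sylow p (GL (Fin n) F)) :
    derivedSeries (P : Subgroup (GL (Fin n) F)) (Nat.log p (n / orderOf (q : ZMod p)) + 1) = ⊥ := by
  classical
  set e := orderOf (q : ZMod p) with he
  set w := n / e with hw
  have hd : 0 < e := SylowTori.ord_pos hpq
  have hep : e < p := by
    have h0 : (q : ZMod p) ≠ 0 := fun h => hpq ((ZMod.natCast_eq_zero_iff q p).mp h)
    have := Nat.le_of_dvd (by have := hp.out.two_le; omega) (ZMod.orderOf_dvd_card_sub_one h0)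
    omega
  have : Nonempty (Fin e) := ⟨⟨0, hd⟩⟩
  obtain ⟨C⟩ : Nonempty (Sylow p (GL (Fin e) F)) := inferInstance
  obtain ⟨W⟩ : Nonempty (Sylow p (Equiv.Perm (Fin w))) := inferInstance
  obtain ⟨φ⟩ := SylowTori.sylow_GL hF hep hpq C
  have hC : ∀ a ∈ (C : Subgroup (GL (Fin e) F)), ∀ b ∈ (C : Subgroup (GL (Fin e) F)), a * b = b * a := by
    intro a ha b hb
    exact congrArg Subtype.val (φ.injective (by rw [map_mul, map_mul, mul_comm]) :
      (⟨a, ha⟩ : (C : Subgroup (GL (Fin e) F))) * ⟨b, hb⟩ = ⟨b, hb⟩ * ⟨a, ha⟩)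
  let E : (Fin e × Fin w) ⊕ Fin (n - e * w) ≃ Fin n :=
    ((Equiv.sumCongr finProdFinEquiv (Equiv.refl _)).trans finSumFinEquiv).trans
      (finCongr (by have : e * w ≤ n := Nat.mul_div_le n e; omega))
  let f : GL (Fin e × Fin w) F →* GL (Fin n) F := (BlockDiag.glReindex E).toMonoidHom.comp DerivedWreath.pad
  have hf : Function.Injective f := (BlockDiag.glReindex E).injective.comp DerivedWreath.pad_injective
  set Q := WreathSquares.wreath DerivedWreath.blk DerivedWreath.bpm (C : Subgroup (GL (Fin e) F))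
    (W : Subgroup (Equiv.Perm (Fin w))) with hQdef
  have hQp : IsPGroup p (Q.map f) :=
    (DerivedWreath.isPGroup_wreath _ _ DerivedWreath.bpm_conj _ _ C.2 W.2).map f
  have hcard : Nat.card (Q.map f) = p ^ padicValNat p (Nat.card (GL (Fin n) F)) := by
    obtain ⟨c, hc⟩ := IsPGroup.iff_card.mp hQp
    refine le_antisymm ?_ ?_
    · rw [hc]
      exact Nat.pow_le_pow_right hp.out.pos
        ((padicValNat_dvd_iff_le Nat.card_pos.ne').mp (hc ▸ Subgroup.card_subgroup_dvd_card _))
    · rw [Subgroup.card_map_of_injective hf]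
      have h1 := WreathSquares.card_le_wreath DerivedWreath.blk DerivedWreath.bpm DerivedWreath.blk_bpm_eq_one
        (C : Subgroup (GL (Fin e) F)) (W : Subgroup (Equiv.Perm (Fin w)))
      rwa [C.card_eq_multiplicity, W.card_eq_multiplicity, Nat.factorization_def _ hp.out,
        Nat.factorization_def _ hp.out, val_card hF hp2 hpq, ← he, Nat.div_self hd, Nat.factorial_one,
        padicValNat_one_right, one_mul, add_zero, ← pow_mul, ← pow_add, Nat.card_perm, Nat.card_eq_fintype_card,
        Fintype.card_fin, mul_comm (SylowTori.expo p q), show w * SylowTori.expo p q + padicValNat p w.factorial =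
          padicValNat p (Nat.card (GL (Fin n) F)) by rw [val_card hF hp2 hpq n]] at h1
  let S : Sylow p (GL (Fin n) F) := Sylow.ofCard (Q.map f) (by rw [hcard, Nat.factorization_def _ hp.out])
  have hW : derivedSeries (W : Subgroup (Equiv.Perm (Fin w))) (Nat.log p w) = ⊥ := by
    have := Cfsg.Agent.Lib.OddChar.derivedSeries_perm_eq_bot (W : Subgroup (Equiv.Perm (Fin w))) W.2
    rwa [Nat.card_eq_fintype_card, Fintype.card_fin] at this
  have hQd : derivedSeries Q (Nat.log p w + 1) = ⊥ :=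
    DerivedWreath.derived_eq_bot _ _ DerivedWreath.bpm_conj _ hC _ hW
  by_contra hne
  exact derived_map_ne_bot ((Q.equivMapOfInjective f hf).symm.toMonoidHom.comp (P.equiv S).toMonoidHom)
    ((Q.equivMapOfInjective f hf).symm.injective.comp (P.equiv S).injective) hne hQd

/-- Let p be an odd prime, F a finite field with q elements where p does not divide q, and e the multiplicative order of q modulo p. Let n ≥ e and write w = ⌊n/e⌋ and k = ⌊log_p w⌋. Then a Sylow p-subgroup of GL(n, F) has derived length exactly k + 1: its (k+1)-st derived subgroup is trivial and its k-th is not. -/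
theorem result (p : ℕ) [Fact p.Prime] (hp : p ≠ 2) (F : Type*) [Field F] [Fintype F] (q : ℕ) (hq : Fintype.card F = q) (hpq : ¬ p ∣ q) (n : ℕ) (hn : orderOf (q : ZMod p) ≤ n) (P : Sylow p (Matrix.GeneralLinearGroup (Fin n) F)) : derivedSeries ↥(P : Subgroup (Matrix.GeneralLinearGroup (Fin n) F)) (Nat.log p (n / orderOf (q : ZMod p)) + 1) = ⊥ ∧ derivedSeries ↥(P : Subgroup (Matrix.GeneralLinearGroup (Fin n) F)) (Nat.log p (n / orderOf (q : ZMod p))) ≠ ⊥ := by
  classical
  refine ⟨upper hq hp hpq n P, ?_⟩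
  set e := orderOf (q : ZMod p) with he
  have hd : 0 < e := SylowTori.ord_pos hpq
  obtain ⟨Q, hQ, hk⟩ := tower hq hp hpq (Nat.log p (n / e))
  have hle : e * p ^ Nat.log p (n / e) ≤ n :=
    le_trans (Nat.mul_le_mul_left e (Nat.pow_log_le_self p (Nat.div_pos hn hd).ne')) (Nat.mul_div_le n e)
  let E : Fin (e * p ^ Nat.log p (n / e)) ⊕ Fin (n - e * p ^ Nat.log p (n / e)) ≃ Fin n :=
    finSumFinEquiv.trans (finCongr (by omega))
  let f : GL (Fin (e * p ^ Nat.log p (n / e))) F →* GL (Fin n) F :=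
    (BlockDiag.glReindex E).toMonoidHom.comp DerivedWreath.pad
  have hf : Function.Injective f := (BlockDiag.glReindex E).injective.comp DerivedWreath.pad_injective
  obtain ⟨S, hS⟩ := (hQ.map f).exists_le_sylow
  exact derived_map_ne_bot ((S.equiv P).toMonoidHom.comp ((Subgroup.inclusion hS).comp (Q.equivMapOfInjective f hf).toMonoidHom))
    ((S.equiv P).injective.comp ((Subgroup.inclusion_injective hS).comp (Q.equivMapOfInjective f hf).injective)) hk

end Cfsg.Agent.S4015
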