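import Cfsg.Statements.S4018
import Cfsg.Agent.Lib.Transfer.Frobenius
import Cfsg.Agent.Lib.Coprime.Basic
import Mathlib.GroupTheory.Sylow
import Mathlib.GroupTheory.Transfer
import Mathlib.GroupTheory.SpecificGroups.Cyclic.Basic
import Cfsg.Agent.Lib.Characters.TI
import Cfsg.Agent.Lib.Characters.Convolution
import Cfsg.Agent.Lib.Characters.Kernel
import Mathlib.GroupTheory.FiniteAbelian.Duality
import Mathlib.RingTheory.RootsOfUnity.AlgebraicallyClosed
import Mathlib.Analysis.Complex.Polynomial.Basic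
import Mathlib.Tactic

set_option autoImplicit false
open Cfsg

namespace Cfsg.Agent.S4018

open Cfsg.Agent.Lib

universe u

/-- The local structure forced on a simple group by the hypotheses. -/
structure Local (G : Type u) [Group G] where
  C : Subgroup G
  N : Subgroup G
  t : G
  m : ℕ
  hm : Odd m
  le : C ≤ N
  cardC : Nat.card C = 2 * m
  cardN : Nat.card N = 4 * m
  tC : t ∈ C
  t2 : orderOf t = 2
  comm : ∀ a ∈ C, ∀ b ∈ C, a * b = b * a
  uniq : ∀ c ∈ C, orderOf c = 2 → c = t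
  normal : ∀ a ∈ N, ∀ c ∈ C, a * c * a⁻¹ ∈ C
  outer : ∀ a ∈ N, a ∉ C → orderOf a = 2 ∧ ∀ c ∈ C, a * c * a⁻¹ = c⁻¹
  ti : ∀ g c : G, c ∈ C → c ≠ 1 → g * c * g⁻¹ ∈ C → g ∈ N
  cent : Subgroup.centralizer ({t} : Set G) = N
  conjInv : ∀ a : G, orderOf a = 2 → IsConj t a
  cover : ∀ a b : G, orderOf a = 2 → orderOf b = 2 → a ≠ b → ∃ g : G, g * (a * b) * g⁻¹ ∈ C

variable {G : Type u} [Group G] [Finite G]

theorem eq_one_of_sq {M : Type*} [Group M] [Finite M] (h : Odd (Nat.card M)) {x : M}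
    (hx : x ^ 2 = 1) : x = 1 := by
  have h1 : orderOf x ∣ 2 := orderOf_dvd_of_pow_eq_one hx
  rcases (Nat.dvd_prime Nat.prime_two).mp h1 with h2 | h2
  · exact orderOf_eq_one_iff.mp h2
  · exact absurd (h2 ▸ orderOf_dvd_natCard x) (by rw [← even_iff_two_dvd, Nat.not_even_iff_odd]; exact h)

theorem exists_local (P : Sylow 3 G) (hab : IsMulCommutative P) (hs : IsSimpleGroup G)
    (hN : Nat.card (Subgroup.normalizer ((P : Subgroup G) : Set G)) = 4 * Nat.card P)
    (hC : Nat.card (Subgroup.centralizer (P : Set G)) = 2 * Nat.card P)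
    (hTI : Cfsg.IsTISubset (Subgroup.centralizer (P : Set G) : Set G))
    (heven : ∀ H : Subgroup G, H ≠ ⊤ → 2 ∣ Nat.card H → Nat.card H ∣ 4 * Nat.card P) :
    ∃ D : Local G, D.m = Nat.card P ∧ 1 < Nat.card P := by
  classical
  haveI : Fact (Nat.Prime 3) := ⟨Nat.prime_three⟩
  haveI : Fact (Nat.Prime 2) := ⟨Nat.prime_two⟩
  set C := Subgroup.centralizer (P : Set G) with hCdef
  set N := Subgroup.normalizer ((P : Subgroup G) : Set G) with hNdef
  set m := Nat.card P with hm
  obtain ⟨e, he⟩ := IsPGroup.iff_card.mp P.2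
  have hm' : m = 3 ^ e := he
  have hodd : Odd m := hm' ▸ Odd.pow (by decide)
  have hmpos : 0 < m := Nat.card_pos
  have hCN : C ≤ N := Subgroup.centralizer_le_normalizer _
  -- `G` is not abelian
  have hnc : ¬ ∀ a b : G, a * b = b * a := by
    intro hc
    haveI := hs
    letI : CommGroup G := { (inferInstance : Group G) with mul_comm := hc }
    have hp : (Nat.card G).Prime := IsSimpleGroup.prime_card
    have h1 := Subgroup.card_subgroup_dvd_card N
    rw [hN] at h1
    have := (Nat.dvd_prime hp).mp ((Dvd.intro m rfl : 4 ∣ 4 * m).trans h1)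
    rcases this with h | h
    · omega
    · rw [← h] at hp; norm_num at hp
  have hnormal : ∀ H : Subgroup G, H.Normal → H = ⊥ ∨ H = ⊤ := fun H hH => hs.eq_bot_or_eq_top_of_normal H hH
  have hm1 : 1 < m := by
    by_contra hle
    have hP : (P : Subgroup G) = ⊥ := Subgroup.card_eq_one.mp (show Nat.card P = 1 by omega)
    have hNtop : N = ⊤ := by
      rw [hNdef, Subgroup.normalizer_eq_top_iff, hP]
      infer_instance
    have hCtop : C = ⊤ := by
      rw [eq_top_iff]
      intro g _ x hx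
      have hx' : x ∈ (P : Subgroup G) := hx
      rw [hP, Subgroup.mem_bot] at hx'
      simp [hx']
    rw [hNtop] at hN
    rw [hCtop] at hC
    omega
  -- elements of the centraliser
  have hPC : (P : Subgroup G) ≤ C := fun x hx y hy =>
    congrArg Subtype.val (mul_comm' (⟨y, hy⟩ : (P : Subgroup G)) ⟨x, hx⟩)
  obtain ⟨⟨t, htC⟩, ht⟩ := exists_prime_orderOf_dvd_card' (G := C) 2 (hC ▸ Dvd.intro m rfl)
  rw [Subgroup.orderOf_mk] at ht
  have ht1 : t ≠ 1 := fun h => by rw [h, orderOf_one] at ht; norm_num at ht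
  have htt : t * t = 1 := by
    have := pow_orderOf_eq_one t
    rwa [ht, pow_two] at this
  have htP : t ∉ (P : Subgroup G) := fun h => ht1
    (congrArg Subtype.val (eq_one_of_sq (M := (P : Subgroup G)) (x := ⟨t, h⟩) hodd (Subtype.ext (by
      show t ^ 2 = 1; rw [pow_two, htt]))))
  have hdec : ∀ c ∈ C, ∃ x ∈ (P : Subgroup G), c = x ∨ c = x * t := by
    intro c hc
    have hidx : ((P : Subgroup G).subgroupOf C).index = 2 := by
      have h := Subgroup.index_mul_card ((P : Subgroup G).subgroupOf C)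
      rw [Nat.card_congr (Subgroup.subgroupOfEquivOfLe hPC).toEquiv, hC] at h
      exact Nat.eq_of_mul_eq_mul_right hmpos h
    by_cases hcP : c ∈ (P : Subgroup G)
    · exact ⟨c, hcP, Or.inl rfl⟩
    · have h := (Subgroup.mul_mem_iff_of_index_two hidx (a := (⟨c, hc⟩ : C)) (b := ⟨t, htC⟩)).mpr
        (iff_of_false hcP htP)
      exact ⟨c * t, h, Or.inr (by rw [mul_assoc, htt, mul_one])⟩
  have hPt : ∀ x ∈ (P : Subgroup G), x * t = t * x := fun x hx => htC x hx
  have hcomm : ∀ a ∈ C, ∀ b ∈ C, a * b = b * a := by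
    intro a ha b hb
    obtain ⟨x, hx, ha'⟩ := hdec a ha
    obtain ⟨y, hy, hb'⟩ := hdec b hb
    have hxy : Commute x y := congrArg Subtype.val (mul_comm' (⟨x, hx⟩ : (P : Subgroup G)) ⟨y, hy⟩)
    have hxt : Commute x t := hPt x hx
    have hyt : Commute y t := hPt y hy
    rcases ha' with rfl | rfl <;> rcases hb' with rfl | rfl
    · exact hxy
    · exact hxy.mul_right hxt
    · exact hxy.mul_left hyt.symm
    · exact ((hxy.mul_right hxt).mul_left (hyt.symm.mul_right (Commute.refl t))).eq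
  have hunique : ∀ c ∈ C, orderOf c = 2 → c = t := by
    intro c hc hc2
    obtain ⟨x, hx, hc'⟩ := hdec c hc
    have hsq : c ^ 2 = 1 := by rw [← hc2]; exact pow_orderOf_eq_one c
    rcases hc' with rfl | rfl
    · have := congrArg Subtype.val (eq_one_of_sq (M := (P : Subgroup G)) (x := ⟨c, hx⟩) hodd (Subtype.ext hsq))
      simp only [OneMemClass.coe_one] at this
      rw [this, orderOf_one] at hc2; norm_num at hc2
    · have hx2 : x ^ 2 = 1 := by
        rw [(show Commute x t from hPt x hx).mul_pow, pow_two t, htt, mul_one] at hsq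
        exact hsq
      have := congrArg Subtype.val (eq_one_of_sq (M := (P : Subgroup G)) (x := ⟨x, hx⟩) hodd (Subtype.ext hx2))
      simp only [OneMemClass.coe_one] at this
      rw [this, one_mul]
  have hNnorm : ∀ a ∈ N, ∀ c ∈ C, a * c * a⁻¹ ∈ C := by
    intro a ha c hc x hx
    have hx' : a⁻¹ * x * a ∈ (P : Subgroup G) := by
      have := (Subgroup.mem_normalizer_iff''.mp ha x).mp hx
      simpa using this
    calc x * (a * c * a⁻¹) = a * ((a⁻¹ * x * a) * c) * a⁻¹ := by group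
      _ = a * (c * (a⁻¹ * x * a)) * a⁻¹ := by rw [hc _ hx']
      _ = a * c * a⁻¹ * x := by group
  -- the normaliser of `C`
  have hNC : Subgroup.normalizer (C : Set G) = N := by
    have hle : N ≤ Subgroup.normalizer (C : Set G) := by
      intro a ha
      rw [Subgroup.mem_normalizer_iff]
      refine fun c => ⟨hNnorm a ha c, fun h => ?_⟩
      have := hNnorm a⁻¹ (inv_mem ha) _ h
      simpa [mul_assoc] using this
    have hne : Subgroup.normalizer (C : Set G) ≠ ⊤ := by
      intro htop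
      rcases hnormal C (Subgroup.normalizer_eq_top_iff.mp htop) with h | h
      · rw [h, Subgroup.card_bot] at hC; omega
      · exact hnc fun a b => hcomm a (h ▸ Subgroup.mem_top a) b (h ▸ Subgroup.mem_top b)
    refine (Subgroup.eq_of_le_of_card_ge hle ?_).symm
    rw [hN]
    exact Nat.le_of_dvd (by omega) (heven _ hne ((hC ▸ Dvd.intro m rfl : 2 ∣ Nat.card C).trans
      (Subgroup.card_dvd_of_le Subgroup.le_normalizer)))
  have hti : ∀ g c : G, c ∈ C → c ≠ 1 → g * c * g⁻¹ ∈ C → g ∈ N := by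
    intro g c hc hc1 hgc
    rw [← hNC]
    by_contra hg
    exact hc1 (hTI g hg c hc hgc)
  -- the centraliser of `t`
  have hcent : Subgroup.centralizer ({t} : Set G) = N := by
    refine le_antisymm (fun g hg => ?_) fun a ha => ?_
    · refine hti g t htC ht1 ?_
      rw [Subgroup.mem_centralizer_singleton_iff] at hg
      rwa [hg, mul_inv_cancel_right]
    · rw [Subgroup.mem_centralizer_singleton_iff]
      refine mul_inv_eq_iff_eq_mul.mp (hunique _ (hNnorm a ha t htC) ?_)
      rw [← MulAut.conj_apply, MulEquiv.orderOf_eq, ht]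
  -- Sylow 2-subgroups are four-groups
  obtain ⟨S0, hS0⟩ : ∃ S0 : Sylow 2 G, Nat.card S0 = 4 ∧ t ∈ S0 ∧ (S0 : Subgroup G) ≤ N := by
    obtain ⟨SN⟩ : Nonempty (Sylow 2 N) := inferInstance
    have hz : IsPGroup 2 (Subgroup.zpowers (⟨t, hCN htC⟩ : N)) := IsPGroup.of_card (n := 1) (by
      rw [Nat.card_zpowers, Subgroup.orderOf_mk, ht, pow_one])
    obtain ⟨SN, hSN⟩ := hz.exists_le_sylow
    have hcard4 : Nat.card SN = 4 := by
      rw [SN.card_eq_multiplicity, hN, show 4 * m = 2 ^ 2 * m by norm_num,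
        Nat.factorization_mul (by norm_num) hmpos.ne', Nat.prime_two.factorization_pow,
        Finsupp.add_apply, Finsupp.single_eq_same,
        Nat.factorization_eq_zero_of_not_dvd (by rw [← even_iff_two_dvd, Nat.not_even_iff_odd]; exact hodd)]
      rfl
    obtain ⟨S0, hS0⟩ := (SN.2.map N.subtype).exists_le_sylow
    have hS0c : Nat.card S0 ≤ 4 := by
      have hne : (S0 : Subgroup G) ≠ ⊤ := by
        intro htop
        obtain ⟨j, hj⟩ := IsPGroup.iff_card.mp S0.2
        rw [htop, Subgroup.card_top] at hj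
        have h3 : 3 ∣ Nat.card G := by
          refine dvd_trans ?_ (Subgroup.card_subgroup_dvd_card (P : Subgroup G))
          show 3 ∣ Nat.card P
          rw [← hm, hm']
          exact dvd_pow_self 3 (by rintro rfl; simp at hm'; omega)
        rw [hj] at h3
        exact absurd ((Nat.prime_dvd_prime_iff_eq Nat.prime_three Nat.prime_two).mp
          (Nat.prime_three.dvd_of_dvd_pow h3)) (by norm_num)
      obtain ⟨j, hj⟩ := IsPGroup.iff_card.mp S0.2
      have h4 : 4 ∣ Nat.card S0 := by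
        rw [← hcard4, ← Subgroup.card_map_of_injective (K := (SN : Subgroup N)) N.subtype_injective]
        exact Subgroup.card_dvd_of_le hS0
      have hdvd := heven _ hne ((by norm_num : (2 : ℕ) ∣ 4).trans h4)
      have h5 : Nat.card S0 ∣ 4 := by
        refine (Nat.Coprime.dvd_of_dvd_mul_right ?_ hdvd)
        rw [hj]
        exact (Nat.coprime_primes Nat.prime_two Nat.prime_three).mpr (by norm_num) |>.pow j e |> fun h => hm' ▸ h
      exact Nat.le_of_dvd (by norm_num) h5
    have heq : (SN : Subgroup N).map N.subtype = (S0 : Subgroup G) := Subgroup.eq_of_le_of_card_ge hS0 (by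
      rw [Subgroup.card_map_of_injective N.subtype_injective, hcard4]; exact hS0c)
    refine ⟨S0, ?_, ?_, heq ▸ Subgroup.map_subtype_le _⟩
    · show Nat.card (S0 : Subgroup G) = 4
      rw [← heq, Subgroup.card_map_of_injective N.subtype_injective]
      exact hcard4
    · show t ∈ (S0 : Subgroup G)
      rw [← heq]
      exact ⟨⟨t, hCN htC⟩, hSN (Subgroup.mem_zpowers _), rfl⟩
  obtain ⟨hS4, htS, hSN⟩ := hS0
  haveI hSab : IsMulCommutative (S0 : Subgroup G) :=
    IsPGroup.isMulCommutative_of_card_eq_prime_sq (p := 2) (by rw [hS4]; norm_num)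
  -- fusion in the Sylow 2-subgroup
  have hfus : ¬ Subgroup.normalizer ((S0 : Subgroup G) : Set G) ≤ Subgroup.centralizer ((S0 : Subgroup G) : Set G) := by
    intro hle
    obtain ⟨Q, K, hKn, hK⟩ := Transfer.hasNormalPComplement_of_normalizer_le_centralizer S0 hle
    rcases hnormal K hKn with h | h
    · have h1 : Nat.card Q = Nat.card G := by rw [← hK.card_mul, h, Subgroup.card_bot, one_mul]
      rw [Q.card_eq_multiplicity, ← S0.card_eq_multiplicity, hS4] at h1
      have := Subgroup.card_subgroup_dvd_card N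
      rw [hN, ← h1] at this
      have := Nat.le_of_dvd (by norm_num) this
      omega
    · have h1 := hK.card_mul
      rw [h, Subgroup.card_top, Q.card_eq_multiplicity, ← S0.card_eq_multiplicity, hS4] at h1
      have := Nat.card_pos (α := G); omega
  obtain ⟨g, hgN, hgC⟩ := SetLike.not_le_iff_exists.mp hfus
  obtain ⟨a, b, ha, hb, hao, ⟨k, hk⟩, hgab⟩ := Transfer.exists_pPart_decomp (p := 2) g
  have haN := Subgroup.zpowers_le.mpr hgN ha
  have hbS := Transfer.mem_of_isPGroup_zpowers_of_mem_normalizer S0 hk (Subgroup.zpowers_le.mpr hgN hb)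
  have haC : a ∉ Subgroup.centralizer ((S0 : Subgroup G) : Set G) := fun h => hgC (by
    rw [hgab]
    refine mul_mem h fun x hx => ?_
    exact congrArg Subtype.val (mul_comm' (⟨x, hx⟩ : (S0 : Subgroup G)) ⟨b, hbS⟩))
  have haS : ∀ x ∈ (S0 : Subgroup G), a * x * a⁻¹ ∈ (S0 : Subgroup G) := fun x hx =>
    (Subgroup.mem_normalizer_iff.mp haN x).mp hx
  have ha2 : Odd (orderOf a) := by
    rw [← Nat.not_even_iff_odd, even_iff_two_dvd, ← Nat.prime_two.coprime_iff_not_dvd]
    exact hao.symm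
  -- a non-trivial element fixed by `a` does not exist
  have hS2 : ∀ x ∈ (S0 : Subgroup G), ∀ y ∈ (S0 : Subgroup G), x ≠ 1 → y ≠ 1 → x ≠ y →
      ∀ z ∈ (S0 : Subgroup G), z = 1 ∨ z = x ∨ z = y ∨ z = x * y := by
    intro x hx y hy hx1 hy1 hxy z hz
    by_contra hno
    push Not at hno
    obtain ⟨hz1, hzx, hzy, hzxy⟩ := hno
    have hxy1 : x * y ≠ x := fun h => hy1 (mul_eq_left.mp h)
    have hxy2 : x * y ≠ y := fun h => hx1 (mul_eq_right.mp h)
    by_cases hxy3 : x * y = 1
    · -- `y = x⁻¹`: then `S0` is cyclic, generated by `x`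
      have hy' : y = x⁻¹ := eq_inv_of_mul_eq_one_right hxy3
      have hox : orderOf x = 4 := by
        have hd : orderOf x ∣ 2 ^ 2 := by
          rw [show 2 ^ 2 = Nat.card (S0 : Subgroup G) by rw [hS4]; norm_num, ← Subgroup.orderOf_mk (H := (S0 : Subgroup G)) x hx]
          exact orderOf_dvd_natCard _
        obtain ⟨j, hj, hj'⟩ := (Nat.dvd_prime_pow Nat.prime_two).mp hd
        interval_cases j
        · exact absurd (orderOf_eq_one_iff.mp (by simpa using hj')) hx1
        · exfalso; apply hxy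
          rw [hy', eq_inv_iff_mul_eq_one, ← pow_two, show 2 = orderOf x by simpa using hj'.symm]
          exact pow_orderOf_eq_one x
        · simpa using hj'
      haveI : IsCyclic (S0 : Subgroup G) := isCyclic_of_orderOf_eq_card (⟨x, hx⟩ : (S0 : Subgroup G))
        (by rw [Subgroup.orderOf_mk, hox, hS4])
      have hle : Subgroup.normalizer ((S0 : Subgroup G) : Set G) ≤ Subgroup.centralizer ((S0 : Subgroup G) : Set G) := by
        rcases Sylow.normalizer_le_centralizer_or_le_commutator S0 with h | h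
        · exact h
        · exfalso
          refine haC fun w hw => ?_
          -- an automorphism of odd order of a cyclic group of order 4 is trivial
          let c := Subgroup.normalizerMonoidHom (S0 : Subgroup G) ⟨a, haN⟩
          have hc1 : c = 1 := by
            have h1 : orderOf c ∣ Nat.card (MulAut (S0 : Subgroup G)) := orderOf_dvd_natCard c
            rw [IsCyclic.card_mulAut, hS4] at h1
            have h2 : orderOf c ∣ orderOf a := by
              rw [← Subgroup.orderOf_mk (H := Subgroup.normalizer ((S0 : Subgroup G) : Set G)) a haN]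
              exact orderOf_map_dvd _ _
            rw [show Nat.totient 4 = 2 by decide] at h1
            rcases (Nat.dvd_prime Nat.prime_two).mp h1 with h3 | h3
            · exact orderOf_eq_one_iff.mp h3
            · rw [h3] at h2
              exact absurd (even_iff_two_dvd.mpr h2) (Nat.not_even_iff_odd.mpr ha2)
          have h3 : a * w * a⁻¹ = w := congrArg Subtype.val (DFunLike.congr_fun hc1 (⟨w, hw⟩ : (S0 : Subgroup G)))
          exact (mul_inv_eq_iff_eq_mul.mp h3).symm
      exact hfus hle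
    · have hsub : ({1, x, y, x * y, z} : Finset G) ⊆ (Set.toFinite ((S0 : Subgroup G) : Set G)).toFinset := by
        intro w hw
        simp only [Finset.mem_insert, Finset.mem_singleton] at hw
        rw [Set.Finite.mem_toFinset]
        rcases hw with rfl | rfl | rfl | rfl | rfl
        exacts [one_mem _, hx, hy, mul_mem hx hy, hz]
      have := Finset.card_le_card hsub
      rw [← Set.ncard_eq_toFinset_card _ (Set.toFinite _), ← Nat.card_coe_set_eq] at this
      rw [Finset.card_insert_of_notMem, Finset.card_insert_of_notMem, Finset.card_insert_of_notMem,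
        Finset.card_insert_of_notMem, Finset.card_singleton] at this
      · change 5 ≤ Nat.card (S0 : Subgroup G) at this
        omega
      all_goals simp [Ne.symm hx1, Ne.symm hy1, Ne.symm hxy3, Ne.symm hz1, hxy, Ne.symm hxy1, Ne.symm hxy2, Ne.symm hzx, Ne.symm hzy, Ne.symm hzxy]
  have hnofix : ∀ x ∈ (S0 : Subgroup G), a * x * a⁻¹ = x → x = 1 := by
    intro x hx hax
    by_contra hx1
    refine haC fun w hw => ?_
    by_cases hw1 : w = 1
    · simp [hw1]
    by_cases hwx : x = w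
    · subst hwx; exact (mul_inv_eq_iff_eq_mul.mp hax).symm
    have hxw : x * w = w * x := congrArg Subtype.val (mul_comm' (⟨x, hx⟩ : (S0 : Subgroup G)) ⟨w, hw⟩)
    rcases hS2 x hx w hw hx1 hw1 hwx _ (haS w hw) with h | h | h | h
    · exact absurd (conj_eq_one_iff.mp h) hw1
    · exact absurd (mul_left_cancel (mul_right_cancel (h.trans hax.symm))) (Ne.symm hwx)
    · exact (mul_inv_eq_iff_eq_mul.mp h).symm
    · -- `a² w a⁻² = w` and `a` has odd order
      have hxx : x * x = 1 := by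
        by_contra hxx
        rcases hS2 x hx w hw hx1 hw1 hwx (x * x) (mul_mem hx hx) with h' | h' | h' | h'
        · exact hxx h'
        · exact hx1 (mul_eq_left.mp h')
        · -- then `a` fixes `w`
          have : a * w * a⁻¹ = w := by
            rw [← h', show a * (x * x) * a⁻¹ = (a * x * a⁻¹) * (a * x * a⁻¹) by group, hax]
          exact hx1 (mul_eq_right.mp (h.symm.trans this))
        · exact hwx (mul_left_cancel h')
      have h2 : a ^ 2 * w * (a ^ 2)⁻¹ = w := by
        rw [show a ^ 2 * w * (a ^ 2)⁻¹ = a * (a * w * a⁻¹) * a⁻¹ by rw [pow_two]; group, h,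
          show a * (x * w) * a⁻¹ = (a * x * a⁻¹) * (a * w * a⁻¹) by group, hax, h, ← mul_assoc, hxx, one_mul]
      have hc2 : Commute (a ^ 2) w := mul_inv_eq_iff_eq_mul.mp h2
      obtain ⟨j, hj⟩ := exists_pow_eq_self_of_coprime (x := a) (n := 2)
        (Nat.coprime_two_left.mpr ha2)
      exact (hj ▸ hc2.pow_left j).eq.symm
  have hinvconj : ∀ s : G, orderOf s = 2 → IsConj t s := by
    have hS : ∀ s ∈ (S0 : Subgroup G), s ≠ 1 → IsConj t s := by
      intro s hs hs1
      set t1 := a * t * a⁻¹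
      have ht11 : t1 ≠ 1 := fun h => ht1 (conj_eq_one_iff.mp h)
      have ht1S := haS t htS
      have hne : t ≠ t1 := fun h => ht1 (hnofix t htS h.symm)
      set t2 := a * t1 * a⁻¹
      have ht21 : t2 ≠ 1 := fun h => ht11 (conj_eq_one_iff.mp h)
      have hne2 : t2 ≠ t1 := fun h => ht11 (hnofix t1 ht1S h)
      have hne3 : t2 ≠ t := fun h => by
        have hc2 : Commute (a ^ 2) t := mul_inv_eq_iff_eq_mul.mp (by
          rw [show a ^ 2 * t * (a ^ 2)⁻¹ = t2 by simp only [t2, t1, pow_two]; group, h])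
        obtain ⟨j, hj⟩ := exists_pow_eq_self_of_coprime (x := a) (n := 2) (Nat.coprime_two_left.mpr ha2)
        have hat : Commute a t := hj ▸ hc2.pow_left j
        exact ht1 (hnofix t htS (mul_inv_eq_iff_eq_mul.mpr hat.eq))
      have ht2 : t2 = t * t1 := by
        rcases hS2 t htS t1 ht1S ht1 ht11 hne t2 (haS t1 ht1S) with h | h | h | h
        exacts [absurd h ht21, absurd h hne3, absurd h hne2, h]
      rcases hS2 t htS t1 ht1S ht1 ht11 hne s hs with h | h | h | h
      · exact absurd h hs1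
      · exact h ▸ IsConj.refl t
      · exact isConj_iff.mpr ⟨a, h.symm⟩
      · exact isConj_iff.mpr ⟨a * a, by rw [h, ← ht2]; simp only [t2, t1]; group⟩
    intro s hs
    have hz : IsPGroup 2 (Subgroup.zpowers s) := IsPGroup.of_card (n := 1) (by rw [Nat.card_zpowers, hs, pow_one])
    obtain ⟨T, hT⟩ := hz.exists_le_sylow
    obtain ⟨y, hy⟩ := MulAction.exists_smul_eq G T S0
    have hys : y * s * y⁻¹ ∈ (S0 : Subgroup G) := by
      rw [← hy]
      exact Subgroup.smul_mem_pointwise_smul s (MulAut.conj y) _ (hT (Subgroup.mem_zpowers s))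
    refine (hS _ hys fun h => ?_).trans (isConj_iff.mpr ⟨y⁻¹, by group⟩)
    rw [conj_eq_one_iff.mp h, orderOf_one] at hs
    norm_num at hs
  -- an involution outside `C`
  obtain ⟨u, huS, hut, hu1⟩ : ∃ u ∈ (S0 : Subgroup G), u ≠ t ∧ u ≠ 1 :=
    ⟨a * t * a⁻¹, haS t htS, fun h => ht1 (hnofix t htS h), fun h => ht1 (conj_eq_one_iff.mp h)⟩
  have hu2 : orderOf u = 2 := by
    have hc := fun (x : G) (hx : x ∈ (S0 : Subgroup G)) => hS2 t htS u huS ht1 hu1 (Ne.symm hut) x hx
    refine orderOf_eq_prime ?_ hu1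
    rw [pow_two]
    rcases hc (u * u) (mul_mem huS huS) with h | h | h | h
    · exact h
    · exfalso
      have h1 : a * t * a⁻¹ ∈ (S0 : Subgroup G) := haS t htS
      rcases hc _ h1 with h' | h' | h' | h'
      · exact ht1 (conj_eq_one_iff.mp h')
      · exact ht1 (hnofix t htS h')
      · have h2 : (a * t * a⁻¹) * (a * t * a⁻¹) = 1 := by
          rw [show (a * t * a⁻¹) * (a * t * a⁻¹) = a * (t * t) * a⁻¹ by group, htt]; group
        rw [h', h] at h2; exact ht1 h2
      · have h2 : (a * t * a⁻¹) * (a * t * a⁻¹) = 1 := by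
          rw [show (a * t * a⁻¹) * (a * t * a⁻¹) = a * (t * t) * a⁻¹ by group, htt]; group
        have htu : t * u = u * t := congrArg Subtype.val (mul_comm' (⟨t, htS⟩ : (S0 : Subgroup G)) ⟨u, huS⟩)
        rw [h', show t * u * (t * u) = t * (u * t) * u by group, ← htu, show t * (t * u) * u = (t * t) * (u * u) by group, htt, one_mul, h] at h2
        exact ht1 h2
    · exact absurd (mul_eq_left.mp h) hu1
    · exact absurd (mul_right_cancel h) hut
  have huN : u ∈ N := hSN huS
  have huC : u ∉ C := fun h => hut (hunique u h hu2)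
  have huu : u * u = 1 := by
    have := pow_orderOf_eq_one u
    rwa [hu2, pow_two] at this
  have huinv : ∀ x ∈ (P : Subgroup G), u * x * u⁻¹ = x⁻¹ := by
    let σ : MulAut (P : Subgroup G) := Subgroup.normalizerMonoidHom (P : Subgroup G) ⟨u, huN⟩
    have hσ : MonoidHom.FixedPointFree σ := by
      intro x hx
      by_contra hx1
      have hfix : u * (x : G) * u⁻¹ = x := congrArg Subtype.val hx
      obtain ⟨k, hk⟩ := isConj_iff.mp (hinvconj u hu2)
      -- `C(u)` is `k N k⁻¹`
      have hxN : k⁻¹ * (x : G) * k ∈ N := by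
        rw [← hcent, Subgroup.mem_centralizer_singleton_iff]
        have hxu : (x : G) * u = u * x := (mul_inv_eq_iff_eq_mul.mp hfix).symm
        rw [show k⁻¹ * (x : G) * k * t = k⁻¹ * ((x : G) * (k * t * k⁻¹)) * k by group, hk, hxu, ← hk]
        group
      have hxP : k⁻¹ * (x : G) * k ∈ (P : Subgroup G) := by
        obtain ⟨j, hj⟩ := P.2 x
        have hox : orderOf (x : G) ∣ 3 ^ j := orderOf_dvd_of_pow_eq_one (congrArg Subtype.val hj)
        obtain ⟨i, -, hi⟩ := (Nat.dvd_prime_pow Nat.prime_three).mp hox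
        refine Transfer.mem_of_isPGroup_zpowers_of_mem_normalizer P (k := i) ?_ hxN
        rw [← hi, show k⁻¹ * (x : G) * k = MulAut.conj k⁻¹ (x : G) by simp, MulEquiv.orderOf_eq]
      have hk' := hti k⁻¹ (x : G) (hPC x.2) (fun h => hx1 (Subtype.ext h)) (by rw [inv_inv]; exact hPC hxP)
      have hkN : k ∈ N := inv_inv k ▸ inv_mem hk'
      rw [← hcent, Subgroup.mem_centralizer_singleton_iff] at hkN
      exact hut (by rw [← hk, hkN, mul_inv_cancel_right])
    have hinvol : Function.Involutive σ := by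
      intro x
      apply Subtype.ext
      show u * (u * (x : G) * u⁻¹) * u⁻¹ = x
      calc u * (u * (x : G) * u⁻¹) * u⁻¹ = (u * u) * x * (u * u)⁻¹ := by group
        _ = x := by rw [huu]; group
    have h := MonoidHom.FixedPointFree.coe_eq_inv_of_involutive hσ hinvol
    intro x hx
    exact congrArg Subtype.val (congrFun h ⟨x, hx⟩)
  have huC' : ∀ c ∈ C, u * c * u⁻¹ = c⁻¹ := by
    intro c hc
    obtain ⟨x, hx, hc'⟩ := hdec c hc
    have htu : u * t * u⁻¹ = t := by
      have h := hcent.ge huN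
      rw [Subgroup.mem_centralizer_singleton_iff] at h
      rw [h, mul_inv_cancel_right]
    rcases hc' with rfl | rfl
    · exact huinv c hx
    · rw [show u * (x * t) * u⁻¹ = (u * x * u⁻¹) * (u * t * u⁻¹) by group, huinv x hx, htu, mul_inv_rev,
        inv_eq_of_mul_eq_one_right htt]
      exact hPt _ (inv_mem hx)
  have houter : ∀ v ∈ N, v ∉ C → orderOf v = 2 ∧ ∀ c ∈ C, v * c * v⁻¹ = c⁻¹ := by
    intro v hv hvC
    have hidx : (C.subgroupOf N).index = 2 := by
      have h := Subgroup.index_mul_card (C.subgroupOf N)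
      rw [Nat.card_congr (Subgroup.subgroupOfEquivOfLe hCN).toEquiv, hN, hC] at h
      exact Nat.eq_of_mul_eq_mul_right (show 0 < 2 * m by omega) (by rw [h]; ring)
    have huv : u * v ∈ C := (Subgroup.mul_mem_iff_of_index_two hidx (a := (⟨u, huN⟩ : N)) (b := ⟨v, hv⟩)).mpr
      (iff_of_false huC hvC)
    obtain ⟨c0, hc0, rfl⟩ : ∃ c0 ∈ C, v = u * c0 := ⟨u * v, huv, by rw [← mul_assoc, huu, one_mul]⟩
    refine ⟨orderOf_eq_prime ?_ (fun h => hvC (by rw [h]; exact C.one_mem)), fun c hc => ?_⟩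
    · rw [pow_two, show u * c0 * (u * c0) = (u * c0 * u⁻¹) * (u * u) * c0 by group, huC' c0 hc0, huu,
        mul_one, inv_mul_cancel]
    · rw [show u * c0 * c * (u * c0)⁻¹ = u * (c0 * c * c0⁻¹) * u⁻¹ by group,
        hcomm c0 hc0 c hc, mul_inv_cancel_right, huC' c hc]
  -- products of two involutions
  have hcover : ∀ a b : G, orderOf a = 2 → orderOf b = 2 → a ≠ b → ∃ g : G, g * (a * b) * g⁻¹ ∈ C := by
    intro a b ha hb hab'
    set w := a * b with hw
    have haa : a * a = 1 := by have := pow_orderOf_eq_one a; rwa [ha, pow_two] at this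
    have hbb : b * b = 1 := by have := pow_orderOf_eq_one b; rwa [hb, pow_two] at this
    have hw1 : w ≠ 1 := fun h => hab' ((eq_inv_of_mul_eq_one_left h).trans (inv_eq_of_mul_eq_one_right hbb))
    by_cases hww : w * w = 1
    · obtain ⟨g, hg⟩ := isConj_iff.mp (hinvconj w (orderOf_eq_prime (by rw [pow_two]; exact hww) hw1)).symm
      exact ⟨g, hg ▸ htC⟩
    have hinv : ∀ c : G, c * c = 1 → c * w * c⁻¹ = w⁻¹ → c ∈ Subgroup.normalizer (Subgroup.zpowers w : Set G) := by
      intro c hcc hcw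
      rw [Subgroup.mem_normalizer_iff]
      intro x
      constructor
      · intro hx
        obtain ⟨i, rfl⟩ := Subgroup.mem_zpowers_iff.mp hx
        rw [← conj_zpow, hcw]
        exact zpow_mem (inv_mem (Subgroup.mem_zpowers w)) i
      · intro hx
        obtain ⟨i, hi⟩ := Subgroup.mem_zpowers_iff.mp hx
        have h1 : x = c * w ^ i * c⁻¹ := by
          rw [hi, show c * (c * x * c⁻¹) * c⁻¹ = (c * c) * x * (c * c)⁻¹ by group, hcc]; group
        rw [h1, ← conj_zpow, hcw]
        exact zpow_mem (inv_mem (Subgroup.mem_zpowers w)) i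
    have hai : a⁻¹ = a := inv_eq_of_mul_eq_one_right haa
    have hbi : b⁻¹ = b := inv_eq_of_mul_eq_one_right hbb
    have haw : a * w * a⁻¹ = w⁻¹ := by rw [hw, mul_inv_rev, hai, hbi, ← mul_assoc a a b, haa, one_mul]
    set NW := Subgroup.normalizer (Subgroup.zpowers w : Set G)
    have hNW : NW ≠ ⊤ := by
      intro htop
      rcases hnormal _ (Subgroup.normalizer_eq_top_iff.mp htop) with h | h
      · exact hw1 (Subgroup.zpowers_eq_bot.mp h)
      · refine hnc fun x y => ?_
        obtain ⟨i, rfl⟩ := Subgroup.mem_zpowers_iff.mp (h.ge (Subgroup.mem_top x))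
        obtain ⟨j, rfl⟩ := Subgroup.mem_zpowers_iff.mp (h.ge (Subgroup.mem_top y))
        exact (Commute.zpow_zpow_self w i j).eq
    have haNW : a ∈ NW := hinv a haa haw
    have hdvd := heven NW hNW (by rw [← ha, ← Subgroup.orderOf_mk (H := NW) a haNW]; exact orderOf_dvd_natCard _)
    have how : orderOf w ∣ 4 * m := by
      refine dvd_trans ?_ hdvd
      rw [← Nat.card_zpowers]
      exact Subgroup.card_dvd_of_le Subgroup.le_normalizer
    by_cases hev : 2 ∣ orderOf w
    · -- a central involution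
      set s := w ^ (orderOf w / 2)
      have hs2 : orderOf s = 2 := orderOf_pow_orderOf_div (orderOf_pos w).ne' hev
      have hss : s⁻¹ = s := inv_eq_of_mul_eq_one_right (by
        have := pow_orderOf_eq_one s; rwa [hs2, pow_two] at this)
      obtain ⟨g, hg⟩ := isConj_iff.mp (hinvconj s hs2).symm
      have hgN : ∀ y : G, Commute y s → g * y * g⁻¹ ∈ N := by
        intro y hy
        rw [← hcent, Subgroup.mem_centralizer_singleton_iff, ← hg]
        calc g * y * g⁻¹ * (g * s * g⁻¹) = g * (y * s) * g⁻¹ := by group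
          _ = g * (s * y) * g⁻¹ := by rw [hy.eq]
          _ = g * s * g⁻¹ * (g * y * g⁻¹) := by group
      have has : Commute a s := mul_inv_eq_iff_eq_mul.mp (by rw [← conj_pow, haw, inv_pow]; exact hss)
      have hws : Commute w s := Commute.self_pow w _
      have hgwN := hgN w hws
      by_contra hno
      push Not at hno
      have h2 := (houter _ hgwN (hno g)).1
      rw [← MulAut.conj_apply, MulEquiv.orderOf_eq] at h2
      exact hww (by rw [← pow_two, ← h2]; exact pow_orderOf_eq_one w)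
    · have how3 : orderOf w ∣ 3 ^ e := by
        rw [← hm']
        refine Nat.Coprime.dvd_of_dvd_mul_left ?_ how
        exact ((Nat.prime_two.coprime_iff_not_dvd.mpr hev).symm.pow_right 2)
      obtain ⟨i, -, hi⟩ := (Nat.dvd_prime_pow Nat.prime_three).mp how3
      have hz : IsPGroup 3 (Subgroup.zpowers w) := IsPGroup.of_card (n := i) (by rw [Nat.card_zpowers, hi])
      obtain ⟨T, hT⟩ := hz.exists_le_sylow
      obtain ⟨g, hg⟩ := MulAction.exists_smul_eq G T P
      refine ⟨g, hPC ?_⟩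
      rw [← hg]
      exact Subgroup.smul_mem_pointwise_smul w (MulAut.conj g) _ (hT (Subgroup.mem_zpowers w))
  exact ⟨⟨C, N, t, m, hodd, hCN, hC, hN, htC, ht, hcomm, hunique, hNnorm, houter, hti, hcent, hinvconj, hcover⟩, rfl, hm1⟩

section Count

variable (D : Local G)

theorem card_outer : Nat.card {a : G // a ∈ D.N ∧ a ∉ D.C} = 2 * D.m := by
  rw [show Nat.card {a : G // a ∈ D.N ∧ a ∉ D.C} = ((D.N : Set G) \ (D.C : Set G)).ncard from
      Nat.card_coe_set_eq _,
    Set.ncard_sdiff (show (D.C : Set G) ⊆ (D.N : Set G) from D.le) (Set.toFinite _),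
    show (D.N : Set G).ncard = Nat.card D.N from (Nat.card_coe_set_eq _).symm,
    show (D.C : Set G).ncard = Nat.card D.C from (Nat.card_coe_set_eq _).symm, D.cardN, D.cardC]
  omega

/-- The involutions inverting a nontrivial element of `C`. -/
theorem card_fibre {c : G} (hc : c ∈ D.C) (hc1 : c ≠ 1) :
    Nat.card {a : G // orderOf a = 2 ∧ orderOf (a * c) = 2} = 2 * D.m := by
  rw [← card_outer D]
  refine Nat.card_congr (Equiv.subtypeEquivRight fun a => ⟨fun ⟨ha, hac⟩ => ?_, fun ⟨haN, haC⟩ => ?_⟩)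
  · have haa : a⁻¹ = a := inv_eq_of_mul_eq_one_right (by
      have := pow_orderOf_eq_one a; rwa [ha, pow_two] at this)
    have hacac : a * c * (a * c) = 1 := by
      have := pow_orderOf_eq_one (a * c); rwa [hac, pow_two] at this
    have h1 : a * c * a⁻¹ = c⁻¹ := by
      rw [haa]
      exact eq_inv_of_mul_eq_one_left (by rw [mul_assoc (a * c) a c]; exact hacac)
    have haN : a ∈ D.N := D.ti a c hc hc1 (h1 ▸ inv_mem hc)
    refine ⟨haN, fun haC => hc1 ?_⟩
    have h2 := D.uniq _ haC ha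
    have h3 := D.uniq _ (mul_mem haC hc) hac
    rw [h2] at h3
    exact mul_eq_left.mp h3
  · refine ⟨(D.outer a haN haC).1, (D.outer _ (mul_mem haN (D.le hc)) fun h => haC ?_).1⟩
    simpa using mul_mem h (inv_mem hc)

theorem card_involutions : Nat.card {a : G // orderOf a = 2} = D.N.index := by
  rw [← D.cent, ← Characters.card_conj_eq_index D.t]
  refine Nat.card_congr (Equiv.subtypeEquivRight fun a => ⟨D.conjInv a, fun h => ?_⟩)
  obtain ⟨g, rfl⟩ := isConj_iff.mp h
  rw [← MulAut.conj_apply, MulEquiv.orderOf_eq, D.t2]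

/-- Pairs of distinct involutions are counted by the conjugates of the elements of `C`. -/
theorem index_eq : D.N.index + 2 * D.m = 4 * D.m * D.m + 1 := by
  classical
  let A := fun c : {c : G // c ∈ D.C ∧ c ≠ 1} => {a : G // orderOf a = 2 ∧ orderOf (a * c.1) = 2}
  let X := {q : {a : G // orderOf a = 2} × {a : G // orderOf a = 2} // q.1 ≠ q.2}
  have hinv : ∀ (g a : G), orderOf a = 2 → orderOf (g * a * g⁻¹) = 2 := fun g a ha => by
    rw [← MulAut.conj_apply, MulEquiv.orderOf_eq, ha]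
  let f : (G ⧸ D.N) × (Σ c, A c) → X := fun z =>
    ⟨(⟨z.1.out * z.2.2.1 * z.1.out⁻¹, hinv _ _ z.2.2.2.1⟩,
      ⟨z.1.out * (z.2.2.1 * z.2.1.1) * z.1.out⁻¹, hinv _ _ z.2.2.2.2⟩), fun h => z.2.1.2.2 (by
        have h1 : z.1.out * z.2.2.1 * z.1.out⁻¹ = z.1.out * (z.2.2.1 * z.2.1.1) * z.1.out⁻¹ :=
          congrArg Subtype.val h
        exact (mul_eq_left.mp (mul_left_cancel (mul_right_cancel h1)).symm))⟩
  have hf : Function.Bijective f := by
    constructor
    · rintro ⟨k, ⟨c, hc, hc1⟩, a, ha⟩ ⟨k', ⟨c', hc', hc1'⟩, a', ha'⟩ h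
      have e1 : k.out * a * k.out⁻¹ = k'.out * a' * k'.out⁻¹ :=
        congrArg (fun q : X => (q.1.1 : G)) h
      have e2 : k.out * (a * c) * k.out⁻¹ = k'.out * (a' * c') * k'.out⁻¹ :=
        congrArg (fun q : X => (q.1.2 : G)) h
      have e3 : k.out * c * k.out⁻¹ = k'.out * c' * k'.out⁻¹ := by
        calc k.out * c * k.out⁻¹ = (k.out * a * k.out⁻¹)⁻¹ * (k.out * (a * c) * k.out⁻¹) := by group
          _ = _ := by rw [e1, e2]; group
      have hN : k'.out⁻¹ * k.out ∈ D.N := D.ti _ c hc hc1 (by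
        have : k'.out⁻¹ * k.out * c * (k'.out⁻¹ * k.out)⁻¹ = c' := by
          calc k'.out⁻¹ * k.out * c * (k'.out⁻¹ * k.out)⁻¹ = k'.out⁻¹ * (k.out * c * k.out⁻¹) * k'.out := by group
            _ = c' := by rw [e3]; group
        rw [this]; exact hc')
      obtain rfl : k = k' := by
        rw [← QuotientGroup.out_eq' k, ← QuotientGroup.out_eq' k']
        exact (QuotientGroup.eq.mpr hN).symm
      obtain rfl := mul_left_cancel (mul_right_cancel e1)
      obtain rfl := mul_left_cancel (mul_right_cancel e3)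
      rfl
    · rintro ⟨⟨⟨a, ha⟩, ⟨b, hb⟩⟩, hab⟩
      have hab' : a ≠ b := fun h => hab (Subtype.ext h)
      obtain ⟨g, hg⟩ := D.cover a b ha hb hab'
      set k : G ⧸ D.N := QuotientGroup.mk g⁻¹
      obtain ⟨⟨y, hy⟩, hk⟩ := QuotientGroup.mk_out_eq_mul D.N g⁻¹
      have hk' : k.out = g⁻¹ * y := hk
      have hc : k.out⁻¹ * (a * b) * k.out ∈ D.C := by
        rw [hk', show (g⁻¹ * y)⁻¹ * (a * b) * (g⁻¹ * y) = y⁻¹ * (g * (a * b) * g⁻¹) * y⁻¹⁻¹ by group]
        exact D.normal _ (inv_mem hy) _ hg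
      have haa : a * a = 1 := by have := pow_orderOf_eq_one a; rwa [ha, pow_two] at this
      have hne : k.out⁻¹ * (a * b) * k.out ≠ 1 := fun h => hab' (by
        have h1 : a * b = 1 := by
          calc a * b = k.out * (k.out⁻¹ * (a * b) * k.out) * k.out⁻¹ := by group
            _ = 1 := by rw [h]; group
        exact mul_left_cancel (haa.trans h1.symm))
      have hA2 : orderOf (k.out⁻¹ * a * k.out * (k.out⁻¹ * (a * b) * k.out)) = 2 := by
        rw [show k.out⁻¹ * a * k.out * (k.out⁻¹ * (a * b) * k.out) = k.out⁻¹ * ((a * a) * b) * k.out⁻¹⁻¹ by group,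
          haa, one_mul]
        exact hinv _ _ hb
      refine ⟨(k, ⟨⟨_, hc, hne⟩, ⟨k.out⁻¹ * a * k.out, by simpa using hinv k.out⁻¹ a ha, hA2⟩⟩), ?_⟩
      refine Subtype.ext (Prod.ext (Subtype.ext ?_) (Subtype.ext ?_))
      · show k.out * (k.out⁻¹ * a * k.out) * k.out⁻¹ = a
        group
      · show k.out * (k.out⁻¹ * a * k.out * (k.out⁻¹ * (a * b) * k.out)) * k.out⁻¹ = b
        rw [show k.out * (k.out⁻¹ * a * k.out * (k.out⁻¹ * (a * b) * k.out)) * k.out⁻¹ = (a * a) * b by group,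
          haa, one_mul]
  have hcard := Nat.card_congr (Equiv.ofBijective f hf)
  have hCm : Nat.card {c : G // c ∈ D.C ∧ c ≠ 1} = 2 * D.m - 1 := by
    rw [show Nat.card {c : G // c ∈ D.C ∧ c ≠ 1} = ((D.C : Set G) \ {1}).ncard from Nat.card_coe_set_eq _,
      Set.ncard_sdiff_singleton_of_mem D.C.one_mem,
      show (D.C : Set G).ncard = Nat.card D.C from (Nat.card_coe_set_eq _).symm, D.cardC]
  haveI := Fintype.ofFinite {c : G // c ∈ D.C ∧ c ≠ 1}
  have hsig : Nat.card (Σ c, A c) = (2 * D.m - 1) * (2 * D.m) := by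
    rw [Nat.card_sigma, Finset.sum_congr rfl fun c _ => card_fibre D c.2.1 c.2.2, Finset.sum_const,
      Finset.card_univ, smul_eq_mul, ← Nat.card_eq_fintype_card, hCm]
  have hX : Nat.card X + D.N.index = D.N.index * D.N.index := by
    haveI := Fintype.ofFinite {a : G // orderOf a = 2}
    have h1 := Fintype.card_subtype_compl (fun q : {a : G // orderOf a = 2} × {a : G // orderOf a = 2} => q.1 = q.2)
    have h2 : Fintype.card {q : {a : G // orderOf a = 2} × {a : G // orderOf a = 2} // q.1 = q.2} =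
        Fintype.card {a : G // orderOf a = 2} :=
      Fintype.card_congr ⟨fun q => q.1.1, fun a => ⟨(a, a), rfl⟩, fun ⟨⟨a, b⟩, h⟩ => by
        obtain rfl : a = b := h
        rfl, fun a => rfl⟩
    have h3 := Fintype.card_subtype_le (fun q : {a : G // orderOf a = 2} × {a : G // orderOf a = 2} => q.1 = q.2)
    rw [h2, Fintype.card_prod] at h1
    rw [h2, Fintype.card_prod] at h3
    rw [← card_involutions D, Nat.card_eq_fintype_card, Nat.card_eq_fintype_card, h1]
    omega
  rw [← hcard, Nat.card_prod, hsig, ← Subgroup.index_eq_card] at hX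
  have hpos : 0 < D.N.index := Nat.pos_of_ne_zero Subgroup.index_ne_zero_of_finite
  have h4 : (2 * D.m - 1) * (2 * D.m) + 1 = D.N.index := by
    refine Nat.eq_of_mul_eq_mul_left hpos ?_
    rw [mul_add, mul_one, hX]
  obtain ⟨k, hk⟩ := D.hm
  rw [hk, show 2 * (2 * k + 1) - 1 = 4 * k + 1 by omega] at h4
  rw [hk]
  nlinarith

end Count

section Combinatorics

variable {I J : Type*} [Fintype I]

/-- Squares summing to two. -/
theorem sum_sq_two (v : I → ℤ) (h : ∑ i, v i * v i = 2) :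
    ∃ x y : I, x ≠ y ∧ v x * v x = 1 ∧ v y * v y = 1 ∧ ∀ z, z ≠ x → z ≠ y → v z = 0 := by
  classical
  set s := Finset.univ.filter fun i => v i ≠ 0
  have h1 : ∀ i ∈ s, 1 ≤ v i * v i := fun i hi => by
    have := (Finset.mem_filter.mp hi).2
    rcases lt_or_gt_of_ne this with h | h <;> nlinarith
  have hs : ∑ i ∈ s, v i * v i = 2 := by
    rw [← h]
    refine Finset.sum_subset (Finset.subset_univ _) fun i _ hi => ?_
    have : v i = 0 := by by_contra h0; exact hi (Finset.mem_filter.mpr ⟨Finset.mem_univ i, h0⟩)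
    rw [this, mul_zero]
  have hle : (s.card : ℤ) ≤ 2 := by
    have := Finset.card_nsmul_le_sum s _ 1 h1
    rw [nsmul_eq_mul, mul_one, hs] at this
    exact this
  have hcases : s.card = 0 ∨ s.card = 1 ∨ s.card = 2 := by omega
  rcases hcases with h0 | h0 | h0
  · rw [Finset.card_eq_zero.mp h0, Finset.sum_empty] at hs; omega
  · obtain ⟨x, hx⟩ := Finset.card_eq_one.mp h0
    rw [hx, Finset.sum_singleton] at hs
    exfalso
    have h2 : v x < 2 := by nlinarith
    have h3 : -2 < v x := by nlinarith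
    interval_cases (v x) <;> omega
  · obtain ⟨x, y, hxy, hs'⟩ := Finset.card_eq_two.mp h0
    rw [hs', Finset.sum_pair hxy] at hs
    have hx1 := h1 x (by rw [hs']; simp)
    have hy1 := h1 y (by rw [hs']; simp)
    refine ⟨x, y, hxy, by omega, by omega, fun z hzx hzy => ?_⟩
    by_contra hz
    have : z ∈ s := Finset.mem_filter.mpr ⟨Finset.mem_univ z, hz⟩
    rw [hs'] at this
    simp [hzx, hzy] at this

theorem eq_or_neg {a : ℤ} (h : a * a = 1) : a = 1 ∨ a = -1 := Int.eq_one_or_neg_one_of_mul_eq_one h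

/-- Two of the vectors share exactly one entry, with the same sign. -/
theorem share (v w : I → ℤ) (hv : ∑ i, v i * v i = 2) (hw : ∑ i, w i * w i = 2) (hvw : ∑ i, v i * w i = 1) :
    ∃ z, v z * v z = 1 ∧ w z = v z ∧ ∀ i, i ≠ z → v i * w i = 0 := by
  classical
  obtain ⟨x, y, hxy, hx, hy, hz⟩ := sum_sq_two v hv
  have h2 : v x * w x + v y * w y = 1 := by
    rw [← hvw, ← Finset.sum_pair hxy (f := fun i => v i * w i)]
    refine Finset.sum_subset (Finset.subset_univ _) fun i _ hi => ?_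
    simp only [Finset.mem_insert, Finset.mem_singleton, not_or] at hi
    rw [hz i hi.1 hi.2, zero_mul]
  have hw1 : ∀ i, w i = 0 ∨ w i = 1 ∨ w i = -1 := fun i => by
    obtain ⟨x', y', -, hx', hy', hz'⟩ := sum_sq_two w hw
    by_cases h1 : i = x'
    · subst h1; exact Or.inr (eq_or_neg hx')
    by_cases h3 : i = y'
    · subst h3; exact Or.inr (eq_or_neg hy')
    exact Or.inl (hz' i h1 h3)
  have key : ∀ {x y : I}, x ≠ y → v x * v x = 1 → v y * w y = 0 → v x * w x = 1 →
      (∀ z, z ≠ x → z ≠ y → v z = 0) →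
      ∃ z, v z * v z = 1 ∧ w z = v z ∧ ∀ i, i ≠ z → v i * w i = 0 := by
    intro x y _ hx h0 h1 hz
    refine ⟨x, hx, ?_, fun i hi => ?_⟩
    · calc w x = (v x * v x) * w x := by rw [hx, one_mul]
        _ = v x * (v x * w x) := by ring
        _ = v x := by rw [h1, mul_one]
    · by_cases hiy : i = y
      · rw [hiy]; exact h0
      · rw [hz i hi hiy, zero_mul]
  have hp : ∀ i, v i * v i = 1 → v i * w i = 0 ∨ v i * w i = 1 ∨ v i * w i = -1 := fun i hi => by
    rcases eq_or_neg hi with a | a <;> rcases hw1 i with c | c | c <;> simp [a, c]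
  rcases hp x hx with px | px | px <;> rcases hp y hy with py | py | py <;> try omega
  · exact key hxy.symm hy px py fun z h1 h2 => hz z h2 h1
  · exact key hxy hx py px hz

/-- Four vectors of norm two with mutual products one share an entry. -/
theorem exists_common (v : J → I → ℤ) (j : Fin 4 → J) (hj : Function.Injective j)
    (hsq : ∀ i, ∑ k, v i k * v i k = 2) (hone : ∀ i i', i ≠ i' → ∑ k, v i k * v i' k = 1) :
    ∃ X : I, ∃ s : ℤ, (s = 1 ∨ s = -1) ∧ ∀ i, v i X = s := by
  classical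
  obtain ⟨X, hX1, hX2, hX3⟩ := share (v (j 0)) (v (j 1)) (hsq _) (hsq _) (hone _ _ (hj.ne (by decide)))
  obtain ⟨a, a', haa', ha, ha', haz⟩ := sum_sq_two (v (j 0)) (hsq _)
  obtain ⟨b, b', hbb', hb, hb', hbz⟩ := sum_sq_two (v (j 1)) (hsq _)
  -- the other entries
  obtain ⟨Y0, hY0X, hY0, hsupp0⟩ : ∃ Y, Y ≠ X ∧ v (j 0) Y * v (j 0) Y = 1 ∧ ∀ z, z ≠ X → z ≠ Y → v (j 0) z = 0 := by
    by_cases h : X = a
    · subst h; exact ⟨a', Ne.symm haa', ha', haz⟩
    · have hXa' : X = a' := by
        by_contra h'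
        rw [haz X h h', mul_zero] at hX1; norm_num at hX1
      subst hXa'
      exact ⟨a, haa', ha, fun z h1 h2 => haz z h2 h1⟩
  have hX1' : v (j 1) X * v (j 1) X = 1 := by rw [hX2]; exact hX1
  obtain ⟨Y1, hY1X, hY1, hsupp1⟩ : ∃ Y, Y ≠ X ∧ v (j 1) Y * v (j 1) Y = 1 ∧ ∀ z, z ≠ X → z ≠ Y → v (j 1) z = 0 := by
    by_cases h : X = b
    · subst h; exact ⟨b', Ne.symm hbb', hb', hbz⟩
    · have hXb' : X = b' := by
        by_contra h'
        rw [hbz X h h', mul_zero] at hX1'; norm_num at hX1'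
      subst hXb'
      exact ⟨b, hbb', hb, fun z h1 h2 => hbz z h2 h1⟩
  -- a vector avoiding `X` is supported on the two other entries
  have htri : ∀ i, i ≠ j 0 → i ≠ j 1 → v i X = 0 → ∀ z, z ≠ Y0 → z ≠ Y1 → v i z = 0 := by
    intro i h0 h1 hiX z hz0 hz1
    obtain ⟨p, q, hpq, hp, hq, hpqz⟩ := sum_sq_two (v i) (hsq _)
    obtain ⟨w0, hw0, hw0', -⟩ := share (v i) (v (j 0)) (hsq _) (hsq _) (hone _ _ h0)
    obtain ⟨w1, hw1, hw1', -⟩ := share (v i) (v (j 1)) (hsq _) (hsq _) (hone _ _ h1)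
    have hw0X : w0 ≠ X := fun h => by rw [h, hiX] at hw0; norm_num at hw0
    have hw1X : w1 ≠ X := fun h => by rw [h, hiX] at hw1; norm_num at hw1
    have e0 : w0 = Y0 := by
      by_contra h
      rw [hsupp0 w0 hw0X h] at hw0'
      rw [← hw0'] at hw0; norm_num at hw0
    have e1 : w1 = Y1 := by
      by_contra h
      rw [hsupp1 w1 hw1X h] at hw1'
      rw [← hw1'] at hw1; norm_num at hw1
    subst e0; subst e1
    have hY01 : w0 ≠ w1 := by
      intro h
      subst h
      have := hX3 w0 hY0X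
      rcases mul_eq_zero.mp this with h' | h'
      · rw [h'] at hY0; norm_num at hY0
      · rw [h'] at hY1; norm_num at hY1
    by_contra hzne
    have hmem : ∀ w, v i w * v i w = 1 → w = p ∨ w = q := fun w hw => by
      by_contra h
      push Not at h
      rw [hpqz w h.1 h.2] at hw; norm_num at hw
    have hz' : z = p ∨ z = q := by
      by_contra h
      push Not at h
      exact hzne (hpqz z h.1 h.2)
    rcases hmem _ hw0 with e | e <;> rcases hmem _ hw1 with e' | e' <;> rcases hz' with e'' | e'' <;>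
      first
        | exact hY01 (e.trans e'.symm)
        | exact hz0 (e''.trans e.symm)
        | exact hz1 (e''.trans e'.symm)
  have hmain : ∀ i, i ≠ j 0 → i ≠ j 1 → v i X ≠ 0 → v i X = v (j 0) X := by
    intro i h0 h1 hiX
    obtain ⟨z, hz, hz', hz''⟩ := share (v (j 0)) (v i) (hsq _) (hsq _) (hone _ _ (Ne.symm h0))
    by_cases hzX : z = X
    · rw [hzX] at hz'; exact hz'
    · exfalso
      have := hz'' X (Ne.symm hzX)
      rcases mul_eq_zero.mp this with h | h
      · rw [h] at hX1; norm_num at hX1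
      · exact hiX h
  -- two triangles share two entries
  have hno : ∀ i k, i ≠ k → i ≠ j 0 → i ≠ j 1 → k ≠ j 0 → k ≠ j 1 → v i X = 0 → v k X = 0 → False := by
    intro i k hik hi0 hi1 hk0 hk1 hi hk
    obtain ⟨z, hz, hz', hz''⟩ := share (v i) (v k) (hsq _) (hsq _) (hone _ _ hik)
    obtain ⟨w0, hw0, hw0', -⟩ := share (v i) (v (j 0)) (hsq _) (hsq _) (hone _ _ hi0)
    obtain ⟨u0, hu0, hu0', -⟩ := share (v k) (v (j 0)) (hsq _) (hsq _) (hone _ _ hk0)
    obtain ⟨w1, hw1, hw1', -⟩ := share (v i) (v (j 1)) (hsq _) (hsq _) (hone _ _ hi1)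
    obtain ⟨u1, hu1, hu1', -⟩ := share (v k) (v (j 1)) (hsq _) (hsq _) (hone _ _ hk1)
    have find0 : ∀ (l : J), v l X = 0 → ∀ w, v l w * v l w = 1 → v (j 0) w = v l w → w = Y0 := by
      intro l hl w hw hw'
      by_contra h
      by_cases hwX : w = X
      · rw [hwX, hl] at hw; norm_num at hw
      · rw [hsupp0 w hwX h] at hw'; rw [← hw'] at hw; norm_num at hw
    have find1 : ∀ (l : J), v l X = 0 → ∀ w, v l w * v l w = 1 → v (j 1) w = v l w → w = Y1 := by
      intro l hl w hw hw'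
      by_contra h
      by_cases hwX : w = X
      · rw [hwX, hl] at hw; norm_num at hw
      · rw [hsupp1 w hwX h] at hw'; rw [← hw'] at hw; norm_num at hw
    have hY01 : Y0 ≠ Y1 := by
      intro h
      have := hX3 Y0 hY0X
      rcases mul_eq_zero.mp this with h' | h'
      · rw [h'] at hY0; norm_num at hY0
      · rw [h, ] at h'; rw [h'] at hY1; norm_num at hY1
    rw [find0 i hi w0 hw0 hw0'] at hw0
    rw [find0 k hk u0 hu0 hu0'] at hu0
    rw [find1 i hi w1 hw1 hw1'] at hw1
    rw [find1 k hk u1 hu1 hu1'] at hu1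
    rcases eq_or_ne z Y0 with rfl | hzY
    · rcases mul_eq_zero.mp (hz'' Y1 (Ne.symm hY01)) with h | h
      · rw [h] at hw1; norm_num at hw1
      · rw [h] at hu1; norm_num at hu1
    · rcases mul_eq_zero.mp (hz'' Y0 (Ne.symm hzY)) with h | h
      · rw [h] at hw0; norm_num at hw0
      · rw [h] at hu0; norm_num at hu0
  refine ⟨X, v (j 0) X, eq_or_neg hX1, fun i => ?_⟩
  rcases eq_or_ne i (j 0) with rfl | hi0
  · rfl
  rcases eq_or_ne i (j 1) with rfl | hi1
  · exact hX2
  refine hmain i hi0 hi1 fun hiX => ?_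
  -- a third of the four vectors through `X`
  obtain ⟨f, hf0, hf1, hfi⟩ : ∃ f : Fin 4, j f ≠ j 0 ∧ j f ≠ j 1 ∧ i ≠ j f := by
    rcases eq_or_ne i (j 2) with h | h
    · exact ⟨3, hj.ne (by decide), hj.ne (by decide), h ▸ hj.ne (by decide)⟩
    · exact ⟨2, hj.ne (by decide), hj.ne (by decide), h⟩
  have hfX : v (j f) X = v (j 0) X := hmain _ hf0 hf1 fun h => hno i (j f) hfi hi0 hi1 hf0 hf1 hiX h
  obtain ⟨w, hw, hw', -⟩ := share (v i) (v (j f)) (hsq _) (hsq _) (hone _ _ hfi)
  have hwX : w ≠ X := fun h => by rw [h, hiX] at hw; norm_num at hw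
  have hwY : w = Y0 ∨ w = Y1 := by
    by_contra h
    push Not at h
    rw [htri i hi0 hi1 hiX w h.1 h.2] at hw; norm_num at hw
  rcases hwY with rfl | rfl
  · obtain ⟨z, hz, hz', hz''⟩ := share (v (j 0)) (v (j f)) (hsq _) (hsq _) (hone _ _ (Ne.symm hf0))
    rcases eq_or_ne z X with rfl | hzX
    · rcases mul_eq_zero.mp (hz'' w (Ne.symm (Ne.symm hwX))) with h | h
      · rw [h] at hY0; norm_num at hY0
      · rw [h] at hw'; rw [← hw'] at hw; norm_num at hw
    · rcases mul_eq_zero.mp (hz'' X (Ne.symm hzX)) with h | h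
      · rw [h] at hX1; norm_num at hX1
      · rw [hfX] at h; rw [h] at hX1; norm_num at hX1
  · obtain ⟨z, hz, hz', hz''⟩ := share (v (j 1)) (v (j f)) (hsq _) (hsq _) (hone _ _ (Ne.symm hf1))
    rcases eq_or_ne z X with rfl | hzX
    · rcases mul_eq_zero.mp (hz'' w hwX) with h | h
      · rw [h] at hY1; norm_num at hY1
      · rw [h] at hw'; rw [← hw'] at hw; norm_num at hw
    · rcases mul_eq_zero.mp (hz'' X (Ne.symm hzX)) with h | h
      · rw [h] at hX1'; norm_num at hX1'
      · rw [hfX] at h; rw [h] at hX1; norm_num at hX1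

end Combinatorics

section Chars

open Characters
open scoped ComplexConjugate

variable [Fintype G] (D : Local G)

/-- Functions on the normaliser built from linear characters of `C`. -/
noncomputable def theta (l : D.C →* ℂˣ) : D.N → ℂ :=
  open scoped Classical in fun x => if h : (x : G) ∈ D.C then 2 - (l ⟨x, h⟩ : ℂ) - ((l⁻¹) ⟨x, h⟩ : ℂˣ) else 0

/-- The induced functions. -/
noncomputable def phi (l : D.C →* ℂˣ) : G → ℂ := indFun D.N (theta D l)

variable [Fintype D.C] [Fintype D.N]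

theorem inv_hom_eq_one (l : D.C →* ℂˣ) : l⁻¹ = 1 ↔ l = 1 := inv_eq_one (α := D.C →* ℂˣ)

theorem theta_coe (l : D.C →* ℂˣ) (c : D.C) :
    theta D l ⟨c, D.le c.2⟩ = 2 - (l c : ℂ) - ((l⁻¹) c : ℂˣ) := by
  simp [theta]

theorem theta_off (l : D.C →* ℂˣ) {x : D.N} (h : (x : G) ∉ D.C) : theta D l x = 0 := by
  simp [theta, h]

theorem theta_one (l : D.C →* ℂˣ) : theta D l 1 = 0 := by
  have h := theta_coe D l 1
  simp only [map_one, Units.val_one] at h
  refine Eq.trans ?_ (h.trans (by norm_num))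
  rfl

theorem theta_vanish (l : D.C →* ℂˣ) (x : D.N) (h : (x : G) ∉ (D.C : Set G) \ {1}) :
    theta D l x = 0 := by
  by_cases hx : (x : G) ∈ D.C
  · obtain rfl : x = 1 := Subtype.ext (by by_contra h1; exact h ⟨hx, h1⟩)
    exact theta_one D l
  · exact theta_off D l hx

theorem isClassFunction_theta (l : D.C →* ℂˣ) : IsClassFunction D.N (theta D l) := by
  intro x a
  by_cases hx : (x : G) ∈ D.C
  · have hax : ((a * x * a⁻¹ : D.N) : G) ∈ D.C := D.normal a a.2 x hx
    refine (theta_coe D l ⟨_, hax⟩).trans (Eq.trans ?_ (theta_coe D l ⟨_, hx⟩).symm)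
    by_cases ha : (a : G) ∈ D.C
    · have he : ((a * x * a⁻¹ : D.N) : G) = x := by
        show (a : G) * x * (a : G)⁻¹ = x
        rw [D.comm _ ha _ hx, mul_inv_cancel_right]
      simp only [he]
    · have he : (⟨((a * x * a⁻¹ : D.N) : G), hax⟩ : D.C) = (⟨x, hx⟩ : D.C)⁻¹ :=
        Subtype.ext ((D.outer a a.2 ha).2 x hx)
      rw [he]
      simp only [MonoidHom.inv_apply, map_inv, inv_inv]
      ring
  · rw [theta_off D l hx, theta_off D l fun h => hx ?_]
    have := D.normal _ (inv_mem a.2) _ h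
    simpa [mul_assoc] using this

theorem ti_supp (x : D.N) (hx : (x : G) ∈ (D.C : Set G) \ {1}) (g : G) (hg : g ∉ D.N) :
    g⁻¹ * (x : G) * g ∉ (D.C : Set G) \ {1} := fun h =>
  hg (by
    have := D.ti g⁻¹ x hx.1 (fun h1 => hx.2 h1) (by rw [inv_inv]; exact h.1)
    simpa using inv_mem this)

theorem phi_eq_theta (l : D.C →* ℂˣ) (x : D.N) (hx : (x : G) ∈ (D.C : Set G) \ {1}) :
    phi D l (x : G) = theta D l x :=
  indFun_eq_self D.N _ (isClassFunction_theta D l) (theta_vanish D l) x (fun g hg => ti_supp D x hx g hg)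

theorem phi_one (l : D.C →* ℂˣ) : phi D l 1 = 0 := by
  rw [phi, indFun_one, theta_one, mul_zero]

theorem sum_N (F : D.N → ℂ) (h : ∀ x : D.N, (x : G) ∉ D.C → F x = 0) :
    ∑ x, F x = ∑ c : D.C, F ⟨c, D.le c.2⟩ :=
  (Fintype.sum_of_injective (fun c : D.C => (⟨c, D.le c.2⟩ : D.N))
    (fun a b hab => Subtype.ext (congrArg (fun z : D.N => (z : G)) hab)) _ F
    (fun x hx => h x fun hxC => hx ⟨⟨x, hxC⟩, rfl⟩) (fun _ => rfl)).symm

open scoped Classical in
theorem sum_lin (l : D.C →* ℂˣ) : ∑ c, (l c : ℂ) = if l = 1 then (2 * D.m : ℂ) else 0 := by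
  have h := sum_hom_units ((Units.coeHom ℂ).comp l)
  simp only [MonoidHom.comp_apply, Units.coeHom_apply] at h
  rw [h]
  have hiff : (Units.coeHom ℂ).comp l = 1 ↔ l = 1 := by
    refine ⟨fun he => ?_, fun he => by rw [he]; ext; simp⟩
    ext c
    simpa using DFunLike.congr_fun he c
  by_cases hl : l = 1
  · rw [if_pos (hiff.mpr hl), if_pos hl, ← Nat.card_eq_fintype_card, D.cardC]; push_cast; rfl
  · rw [if_neg fun he => hl (hiff.mp he), if_neg hl]; simp

theorem conj_lin (l : D.C →* ℂˣ) (c : D.C) : conj (l c : ℂ) = ((l⁻¹) c : ℂˣ) := by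
  rw [← IsCharacter.apply_inv (IsIrrCharacter.isCharacter (isIrrCharacter_unitsHom l)) c,
    MonoidHom.inv_apply, map_inv]

open scoped Classical in
theorem classInner_phi (l μ : D.C →* ℂˣ) (hl : l ≠ 1) (hμ : μ ≠ 1) :
    classInner (phi D l) (phi D μ) =
      2 + (if l = μ then 1 else 0) + (if l * μ = 1 then 1 else 0) := by
  rw [phi, phi, classInner_indFun_indFun_eq D.N ((D.C : Set G) \ {1}) (isClassFunction_theta D μ)
    (theta_vanish D μ) (fun x hx g hg => ti_supp D x (by by_contra h; exact hx (theta_vanish D l x h)) g hg)]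
  unfold classInner
  rw [sum_N D _ (fun x hx => by simp [theta_off D l hx]), D.cardN]
  have hterm : ∀ c : D.C, theta D l ⟨c, D.le c.2⟩ * conj (theta D μ ⟨c, D.le c.2⟩) =
      4 - 2 * (μ c : ℂ) - 2 * ((μ⁻¹) c : ℂˣ) - 2 * (l c : ℂ) - 2 * ((l⁻¹) c : ℂˣ)
      + ((l * μ) c : ℂˣ) + ((l * μ⁻¹) c : ℂˣ) + ((l⁻¹ * μ) c : ℂˣ) + ((l⁻¹ * μ⁻¹) c : ℂˣ) := fun c => by
    rw [theta_coe, theta_coe, map_sub, map_sub, conj_lin, conj_lin, inv_inv (G := D.C →* ℂˣ), map_ofNat]
    simp only [MonoidHom.mul_apply, Units.val_mul]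
    ring
  simp only [hterm, Finset.sum_add_distrib, Finset.sum_sub_distrib, ← Finset.mul_sum, sum_lin,
    inv_hom_eq_one, hl, hμ, if_false, mul_zero, sub_zero, Finset.sum_const, Finset.card_univ,
    nsmul_eq_mul, ← Nat.card_eq_fintype_card, D.cardC]
  have e1 : l * μ⁻¹ = 1 ↔ l = μ := mul_inv_eq_one (G := D.C →* ℂˣ)
  have e2 : l⁻¹ * μ = 1 ↔ l = μ := inv_mul_eq_one (G := D.C →* ℂˣ)
  have e3 : l⁻¹ * μ⁻¹ = 1 ↔ l * μ = 1 := by rw [← mul_inv (α := D.C →* ℂˣ), inv_hom_eq_one]
  simp only [e1, e2, e3]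
  have hm0 : (D.m : ℂ) ≠ 0 := by
    obtain ⟨k, hk⟩ := D.hm
    exact_mod_cast (show D.m ≠ 0 by omega)
  push_cast
  split_ifs <;> field_simp <;> ring

/-- The multiplicity of a linear character in a restricted character. -/
noncomputable def bcoef (χ : G → ℂ) (l : D.C →* ℂˣ) : ℂ :=
  classInner (fun c : D.C => (l c : ℂ)) (fun c : D.C => χ c)

theorem bcoef_nat {χ : G → ℂ} (hχ : IsCharacter G χ) (l : D.C →* ℂˣ) :
    ∃ k : ℕ, bcoef D χ l = k :=
  IsCharacter.exists_classInner_nat (IsIrrCharacter.isCharacter (isIrrCharacter_unitsHom l))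
    (IsCharacter.restrict hχ D.C)

theorem apply_inv_of_mem {χ : G → ℂ} (hχ : IsClassFunction G χ) {c : G} (hc : c ∈ D.C) :
    χ c⁻¹ = χ c := by
  obtain ⟨u, huN, huC⟩ : ∃ u ∈ D.N, u ∉ D.C := SetLike.not_le_iff_exists.mp fun h => by
    have h1 := Nat.le_of_dvd Nat.card_pos (Subgroup.card_dvd_of_le h)
    rw [D.cardN, D.cardC] at h1
    obtain ⟨k, hk⟩ := D.hm
    omega
  rw [← (D.outer u huN huC).2 c hc, hχ c u]

theorem inner_phi {χ : G → ℂ} (hχ : IsClassFunction G χ) (l : D.C →* ℂˣ) :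
    classInner (phi D l) χ = bcoef D χ 1 - bcoef D χ l := by
  rw [phi, classInner_indFun D.N _ hχ]
  unfold bcoef classInner
  rw [sum_N D _ (fun x hx => by simp [theta_off D l hx]), D.cardN, D.cardC]
  have hinv : ∑ c : D.C, (((l⁻¹) c : ℂˣ) : ℂ) * conj (χ c) = ∑ c : D.C, (l c : ℂ) * conj (χ c) :=
    Fintype.sum_equiv (Equiv.inv D.C) _ _ fun c => by
      simp only [Equiv.inv_apply, MonoidHom.inv_apply, map_inv, InvMemClass.coe_inv,
        apply_inv_of_mem D hχ c.2]
  simp only [theta_coe, sub_mul, Finset.sum_sub_distrib, hinv, ← Finset.mul_sum, MonoidHom.one_apply,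
    Units.val_one, one_mul]
  push_cast
  ring

theorem inner_phi_one (l : D.C →* ℂˣ) (hl : l ≠ 1) :
    classInner (phi D l) (fun _ : G => (1 : ℂ)) = 1 := by
  classical
  have hm0 : (D.m : ℂ) ≠ 0 := by
    obtain ⟨k, hk⟩ := D.hm
    exact_mod_cast (show D.m ≠ 0 by omega)
  rw [inner_phi D (fun _ _ => rfl)]
  unfold bcoef classInner
  simp only [map_one, mul_one, sum_lin, hl, if_true, if_false, mul_zero, sub_zero, D.cardC]
  push_cast
  field_simp

theorem hom_pow_two_m (l : D.C →* ℂˣ) : l ^ (2 * D.m) = 1 := by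
  ext c
  have : l c ^ (2 * D.m) = 1 := by rw [← map_pow, ← D.cardC, pow_card_eq_one', map_one]
  simp [this]

open scoped Classical in
theorem apply_eq_of_sq {l : D.C →* ℂˣ} (hl : l ^ 2 = 1) (c : D.C) :
    l c = if c ^ D.m = 1 then 1 else l ⟨D.t, D.tC⟩ := by
  have h1 : l c = l (c ^ D.m) := by
    obtain ⟨k, hk⟩ := D.hm
    have h2 : l c ^ 2 = 1 := by simpa using DFunLike.congr_fun hl c
    rw [map_pow, hk, pow_succ, pow_mul, h2, one_pow, one_mul]
  split_ifs with h
  · rw [h1, h, map_one]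
  · rw [h1]
    congr 1
    apply Subtype.ext
    refine D.uniq _ (c ^ D.m).2 (orderOf_eq_prime ?_ fun he => h (Subtype.ext he))
    rw [← SubgroupClass.coe_pow (c ^ D.m) 2, ← pow_mul, mul_comm, ← D.cardC, pow_card_eq_one']
    rfl

theorem eq_of_sq {l μ : D.C →* ℂˣ} (hl : l ^ 2 = 1) (hμ : μ ^ 2 = 1) (hl1 : l ≠ 1) (hμ1 : μ ≠ 1) :
    l = μ := by
  classical
  have key : ∀ {ν : D.C →* ℂˣ}, ν ^ 2 = 1 → ν ≠ 1 → (ν ⟨D.t, D.tC⟩ : ℂ) = -1 := by
    intro ν hν hν1
    have h2 : ν ⟨D.t, D.tC⟩ ^ 2 = 1 := by simpa using DFunLike.congr_fun hν ⟨D.t, D.tC⟩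
    have h3 : (ν ⟨D.t, D.tC⟩ : ℂ) ^ 2 = 1 := by rw [← Units.val_pow_eq_pow_val, h2, Units.val_one]
    refine (sq_eq_one_iff.mp h3).resolve_left fun h => hν1 ?_
    ext c
    rw [apply_eq_of_sq D hν c]
    split_ifs <;> simp [h]
  ext c
  rw [apply_eq_of_sq D hl c, apply_eq_of_sq D hμ c]
  split_ifs
  · rfl
  · rw [key hl hl1, key hμ hμ1]

/-- Enough linear characters. -/
theorem exists_homs (h9 : 9 ≤ D.m) : ∃ (σ : D.C →* ℂˣ) (j : Fin 4 → D.C →* ℂˣ) (l0 : D.C →* ℂˣ),
    σ ≠ 1 ∧ σ ^ 2 = 1 ∧ (∀ k, j k ^ 2 ≠ 1) ∧ (∀ k k', k ≠ k' → j k ≠ j k' ∧ j k * j k' ≠ 1) ∧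
    l0 ^ 2 ≠ 1 ∧ l0 ⟨D.t, D.tC⟩ = 1 := by
  classical
  letI : CommGroup D.C :=
    { (inferInstance : Group D.C) with mul_comm := fun a b => Subtype.ext (D.comm _ a.2 _ b.2) }
  have hcard : Nat.card (D.C →* ℂˣ) = 2 * D.m := by
    rw [CommGroup.card_monoidHom_of_hasEnoughRootsOfUnity, D.cardC]
  haveI : Finite (D.C →* ℂˣ) := Nat.finite_of_card_ne_zero (by omega)
  haveI := Fintype.ofFinite (D.C →* ℂˣ)
  have ht1 : (⟨D.t, D.tC⟩ : D.C) ≠ 1 := fun h => by
    have : D.t = 1 := congrArg Subtype.val h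
    have h2 := D.t2
    rw [this, orderOf_one] at h2
    omega
  obtain ⟨ν, hν⟩ := CommGroup.exists_apply_ne_one_of_hasEnoughRootsOfUnity D.C ℂ ht1
  obtain ⟨k, hk⟩ := D.hm
  have htt : (⟨D.t, D.tC⟩ : D.C) ^ 2 = 1 := Subtype.ext (by
    show D.t ^ 2 = 1
    rw [← D.t2]; exact pow_orderOf_eq_one D.t)
  have hσt : (ν ^ D.m) ⟨D.t, D.tC⟩ = ν ⟨D.t, D.tC⟩ := by
    rw [MonoidHom.pow_apply, hk, pow_succ, pow_mul, ← map_pow, htt, map_one, one_pow, one_mul]
  have hσ1 : ν ^ D.m ≠ 1 := fun h => hν (by rw [← hσt, h, MonoidHom.one_apply])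
  have hσ2 : (ν ^ D.m) ^ 2 = 1 := by rw [← pow_mul, mul_comm, hom_pow_two_m]
  have pick : ∀ S : Finset (D.C →* ℂˣ), S.card ≤ 6 → ∃ l, l ∉ S ∧ l ^ 2 ≠ 1 := by
    intro S hS
    obtain ⟨l, hl⟩ : ∃ l, l ∉ S ∪ {1, ν ^ D.m} := by
      by_contra h
      push Not at h
      have h1 : Finset.univ ⊆ S ∪ {1, ν ^ D.m} := fun l _ => h l
      have h2 := (Finset.card_le_card h1).trans (Finset.card_union_le _ _)
      rw [Finset.card_univ, ← Nat.card_eq_fintype_card, hcard] at h2
      have h3 : ({1, ν ^ D.m} : Finset (D.C →* ℂˣ)).card ≤ 2 := Finset.card_le_two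
      omega
    simp only [Finset.mem_union, Finset.mem_insert, Finset.mem_singleton, not_or] at hl
    exact ⟨l, hl.1, fun h => hl.2.2 (eq_of_sq D h hσ2 hl.2.1 hσ1)⟩
  obtain ⟨a, -, ha⟩ := pick ∅ (by simp)
  obtain ⟨b, hb', hb⟩ := pick {a, a⁻¹} (Finset.card_le_two.trans (by norm_num))
  obtain ⟨c, hc', hc⟩ := pick {a, a⁻¹, b, b⁻¹} (Finset.card_le_four.trans (by norm_num))
  obtain ⟨d, hd', hd⟩ := pick {a, a⁻¹, b, b⁻¹, c, c⁻¹} Finset.card_le_six
  simp only [Finset.mem_insert, Finset.mem_singleton, not_or] at hb' hc' hd'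
  have hne : ∀ {x y : D.C →* ℂˣ}, y ≠ x⁻¹ → x * y ≠ 1 ∧ y * x ≠ 1 := fun {x y} h =>
    ⟨fun he => h (eq_inv_of_mul_eq_one_right (α := D.C →* ℂˣ) he), fun he => h (eq_inv_of_mul_eq_one_left (G := D.C →* ℂˣ) he)⟩
  refine ⟨ν ^ D.m, ![a, b, c, d], a ^ 2, hσ1, hσ2, fun i => by fin_cases i <;> assumption,
    ?_, fun h => ha ?_, by rw [MonoidHom.pow_apply, ← map_pow, htt, map_one]⟩
  · intro i i' hii'
    fin_cases i <;> fin_cases i' <;>
      first
        | exact absurd rfl hii'
        | exact ⟨Ne.symm hb'.1, (hne hb'.2).1⟩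
        | exact ⟨hb'.1, (hne hb'.2).2⟩
        | exact ⟨Ne.symm hc'.1, (hne hc'.2.1).1⟩
        | exact ⟨hc'.1, (hne hc'.2.1).2⟩
        | exact ⟨Ne.symm hc'.2.2.1, (hne hc'.2.2.2).1⟩
        | exact ⟨hc'.2.2.1, (hne hc'.2.2.2).2⟩
        | exact ⟨Ne.symm hd'.1, (hne hd'.2.1).1⟩
        | exact ⟨hd'.1, (hne hd'.2.1).2⟩
        | exact ⟨Ne.symm hd'.2.2.1, (hne hd'.2.2.2.1).1⟩
        | exact ⟨hd'.2.2.1, (hne hd'.2.2.2.1).2⟩
        | exact ⟨Ne.symm hd'.2.2.2.2.1, (hne hd'.2.2.2.2.2).1⟩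
        | exact ⟨hd'.2.2.2.2.1, (hne hd'.2.2.2.2.2).2⟩
  · have h4 : a ^ 4 = 1 := by rw [show 4 = 2 * 2 from rfl, pow_mul]; exact h
    have hgcd : Nat.gcd 4 (2 * D.m) = 2 := by
      rw [show 4 = 2 * 2 from rfl, Nat.gcd_mul_left, Nat.coprime_two_left.mpr D.hm]
    rw [← hgcd]
    exact pow_gcd_eq_one.mpr ⟨h4, hom_pow_two_m D a⟩

theorem card_fixed {y : G} (hy : orderOf y = 2) :
    Nat.card {g : G // g * D.t * g⁻¹ = y} = 4 * D.m := by
  rw [← D.cardN, ← D.cent]
  obtain ⟨k, rfl⟩ := isConj_iff.mp (D.conjInv y hy)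
  refine Nat.card_congr ((Equiv.mulLeft k⁻¹).subtypeEquiv fun g => ?_)
  simp only [Equiv.coe_mulLeft, Subgroup.mem_centralizer_singleton_iff]
  constructor
  · intro h
    calc k⁻¹ * g * D.t = k⁻¹ * (g * D.t * g⁻¹) * g := by group
      _ = D.t * (k⁻¹ * g) := by rw [h]; group
  · intro h
    calc g * D.t * g⁻¹ = k * (k⁻¹ * g * D.t) * g⁻¹ := by group
      _ = k * D.t * k⁻¹ := by rw [h]; group

open scoped Classical in
/-- The indicator function of the involutions. -/
noncomputable def invl (y : G) : ℂ := if orderOf y = 2 then 1 else 0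

theorem sum_conj_t (F : G → ℂ) :
    ∑ g : G, F (g * D.t * g⁻¹) = (4 * D.m : ℂ) * ∑ y, invl y * F y := by
  classical
  rw [← Finset.sum_fiberwise_of_maps_to (g := fun g : G => g * D.t * g⁻¹)
    (fun g _ => Finset.mem_univ _) (fun g => F (g * D.t * g⁻¹)), Finset.mul_sum]
  refine Finset.sum_congr rfl fun y _ => ?_
  rw [Finset.sum_congr rfl fun g hg => by rw [(Finset.mem_filter.mp hg).2], Finset.sum_const,
    nsmul_eq_mul]
  unfold invl
  split_ifs with hy
  · have h := card_fixed D hy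
    rw [Nat.card_eq_fintype_card, Fintype.card_subtype] at h
    rw [h]; push_cast; ring
  · have h0 : (Finset.univ.filter fun g : G => g * D.t * g⁻¹ = y) = ∅ :=
      Finset.filter_eq_empty_iff.mpr fun g _ hg => hy (by
        rw [← hg, ← MulAut.conj_apply, MulEquiv.orderOf_eq, D.t2])
    rw [h0]; simp

theorem sum_theta (l : D.C →* ℂˣ) (hl : l ≠ 1) :
    ∑ x : D.N, theta D l x = 4 * D.m := by
  classical
  rw [sum_N D _ (fun x hx => theta_off D l hx)]
  simp only [theta_coe, Finset.sum_sub_distrib, sum_lin, inv_hom_eq_one, hl, if_false, sub_zero,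
    Finset.sum_const, Finset.card_univ, nsmul_eq_mul, ← Nat.card_eq_fintype_card, D.cardC]
  push_cast; ring

theorem sum_pairs (l : D.C →* ℂˣ) (hl : l ≠ 1) :
    ∑ a : G, ∑ b : G, invl a * invl b * extendByZero D.N (theta D l) (a * b) =
      (2 * D.m : ℂ) * (4 * D.m) := by
  classical
  have h1 : ∀ a : G, ∑ b : G, invl a * invl b * extendByZero D.N (theta D l) (a * b) =
      ∑ c : G, invl a * invl (a * c) * extendByZero D.N (theta D l) c := by
    intro a
    rw [← Equiv.sum_comp (Equiv.mulLeft a) (fun b => invl a * invl b * extendByZero D.N (theta D l) (a * b))]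
    refine Finset.sum_congr rfl fun c _ => ?_
    simp only [Equiv.coe_mulLeft]
    by_cases ha : orderOf a = 2
    · have haa : a * a = 1 := by have := pow_orderOf_eq_one a; rwa [ha, pow_two] at this
      rw [← mul_assoc a a c, haa, one_mul]
    · simp [invl, ha]
  rw [Finset.sum_congr rfl fun a _ => h1 a, Finset.sum_comm, ← sum_theta D l hl, Finset.mul_sum]
  have h2 : ∀ c : G, ∑ a : G, invl a * invl (a * c) * extendByZero D.N (theta D l) c =
      (2 * D.m : ℂ) * extendByZero D.N (theta D l) c := by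
    intro c
    rw [← Finset.sum_mul]
    by_cases hc : c ∈ (D.C : Set G) \ {1}
    · congr 1
      have h := card_fibre D hc.1 hc.2
      rw [Nat.card_eq_fintype_card, Fintype.card_subtype] at h
      rw [show (2 * D.m : ℂ) = ((2 * D.m : ℕ) : ℂ) by push_cast; rfl, ← h, ← Finset.sum_boole]
      refine Finset.sum_congr rfl fun a _ => ?_
      unfold invl
      split_ifs <;> simp_all
    · have h0 : extendByZero D.N (theta D l) c = 0 := by
        by_cases hN : c ∈ D.N
        · rw [extendByZero_of_mem _ _ hN]; exact theta_vanish D l _ hc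
        · exact extendByZero_of_not_mem _ _ hN
      rw [h0, mul_zero, mul_zero]
  rw [Finset.sum_congr rfl fun c _ => h2 c, ← Finset.mul_sum, sum_extendByZero, Finset.mul_sum]

theorem sum_translate (l : D.C →* ℂˣ) (hl : l ≠ 1) :
    ∑ g : G, phi D l (D.t * (g * D.t * g⁻¹)) = 32 * (D.m : ℂ) ^ 3 := by
  set F := extendByZero D.N (theta D l)
  have h1 : ∀ x : G, ∑ g : G, F (x⁻¹ * (D.t * (g * D.t * g⁻¹)) * x) =
      ∑ g : G, F ((x⁻¹ * D.t * x) * (g * D.t * g⁻¹)) := fun x =>
    (Equiv.sum_comp (Equiv.mulLeft x) (fun g => F (x⁻¹ * (D.t * (g * D.t * g⁻¹)) * x))).symm.trans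
      (Finset.sum_congr rfl fun g _ => congrArg F (by simp only [Equiv.coe_mulLeft]; group))
  have h2 : ∑ g : G, phi D l (D.t * (g * D.t * g⁻¹)) =
      (Nat.card D.N : ℂ)⁻¹ * ∑ x : G, ∑ g : G, F ((x * D.t * x⁻¹) * (g * D.t * g⁻¹)) := by
    simp only [phi, indFun_apply, ← Finset.mul_sum]
    rw [Finset.sum_comm]
    congr 1
    rw [← Equiv.sum_comp (Equiv.inv G) (fun x => ∑ g : G, F ((x * D.t * x⁻¹) * (g * D.t * g⁻¹)))]
    refine Finset.sum_congr rfl fun x _ => ?_
    simp only [Equiv.inv_apply, inv_inv]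
    exact h1 x
  rw [h2, D.cardN, sum_conj_t D (fun a => ∑ g : G, F (a * (g * D.t * g⁻¹)))]
  have h3 : ∀ a : G, invl a * ∑ g : G, F (a * (g * D.t * g⁻¹)) =
      (4 * D.m : ℂ) * ∑ b : G, invl a * invl b * F (a * b) := fun a => by
    rw [sum_conj_t D (fun b => F (a * b)), Finset.mul_sum, Finset.mul_sum, Finset.mul_sum]
    exact Finset.sum_congr rfl fun b _ => by ring
  rw [Finset.sum_congr rfl fun a _ => h3 a, ← Finset.mul_sum, sum_pairs D l hl]
  have hm0 : (D.m : ℂ) ≠ 0 := by
    obtain ⟨k, hk⟩ := D.hm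
    exact_mod_cast (show D.m ≠ 0 by omega)
  push_cast
  field_simp
  ring

/-- The arithmetic contradiction. -/
theorem not_large (h9 : 9 ≤ D.m) : False := by
  classical
  haveI := Fintype.ofFinite (IrrCharacter G)
  obtain ⟨σ, j, l0, hσ1, hσ2, hj2, hjne, hl02, hl0t⟩ := exists_homs D h9
  have ne1 : ∀ {l : D.C →* ℂˣ}, l ^ 2 ≠ 1 → l ≠ 1 := fun {l} hl h => hl (by rw [h]; exact one_pow (M := D.C →* ℂˣ) 2)
  -- integral coordinates
  have hint : ∀ (l : D.C →* ℂˣ) (χ : IrrCharacter G), ∃ z : ℤ, classInner (phi D l) (χ : G → ℂ) = z := by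
    intro l χ
    obtain ⟨p, hp⟩ := bcoef_nat D (irr_isCharacter χ) 1
    obtain ⟨q, hq⟩ := bcoef_nat D (irr_isCharacter χ) l
    exact ⟨(p : ℤ) - q, by rw [inner_phi D (irr_isClassFunction χ), hp, hq]; push_cast; rfl⟩
  choose z hz using hint
  have hztriv : ∀ l, l ≠ 1 → z l (trivIrr G) = 1 := fun l hl => by
    have := (hz l (trivIrr G)).symm.trans (inner_phi_one D l hl)
    exact_mod_cast this
  let v : (D.C →* ℂˣ) → IrrCharacter G → ℤ := fun l χ => if χ = trivIrr G then 0 else z l χ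
  have hprod : ∀ l μ, l ≠ 1 → μ ≠ 1 → ∑ χ, v l χ * v μ χ =
      1 + (if l = μ then 1 else 0) + (if l * μ = 1 then 1 else 0) := by
    intro l μ hl hμ
    have h := classInner_phi D l μ hl hμ
    rw [classInner_eq_sum_irr (θ := phi D l) (φ := phi D μ) (isClassFunction_indFun _ _)
      (isClassFunction_indFun _ _)] at h
    simp only [hz, map_intCast] at h
    have h' : ∑ χ, z l χ * z μ χ = 2 + (if l = μ then 1 else 0) + (if l * μ = 1 then 1 else 0) := by
      exact_mod_cast h
    have hsplit : ∑ χ, z l χ * z μ χ = ∑ χ, v l χ * v μ χ + 1 := by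
      have : ∀ χ, z l χ * z μ χ = v l χ * v μ χ + (if χ = trivIrr G then 1 else 0) := fun χ => by
        by_cases hχ : χ = trivIrr G
        · simp [v, hχ, hztriv l hl, hztriv μ hμ]
        · simp [v, hχ]
      rw [Finset.sum_congr rfl fun χ _ => this χ, Finset.sum_add_distrib, Finset.sum_ite_eq',
        if_pos (Finset.mem_univ _)]
    linarith
  have hnorm : ∀ l, l ^ 2 ≠ 1 → ∑ χ, v l χ * v l χ = 2 := fun l hl => by
    rw [hprod l l (ne1 hl) (ne1 hl), if_pos rfl, if_neg (fun h => hl ((pow_two (M := D.C →* ℂˣ) l).trans h))]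
    rfl
  -- the distinct vectors
  let J := {f : IrrCharacter G → ℤ // ∃ l, l ^ 2 ≠ 1 ∧ v l = f}
  have hone : ∀ f f' : J, f ≠ f' → ∑ χ, f.1 χ * f'.1 χ = 1 := by
    rintro ⟨f, l, hl, rfl⟩ ⟨f', μ, hμ, rfl⟩ hne
    show ∑ χ, v l χ * v μ χ = 1
    rw [hprod l μ (ne1 hl) (ne1 hμ), if_neg, if_neg]
    · rfl
    · intro h
      apply hne
      apply Subtype.ext
      funext χ
      show (if χ = trivIrr G then 0 else z l χ) = if χ = trivIrr G then 0 else z μ χ
      split_ifs
      · rfl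
      · have h1 := hz l χ
        have hth : theta D l = theta D μ := by
          funext x
          rw [eq_inv_of_mul_eq_one_right (α := D.C →* ℂˣ) h]
          by_cases hx : (x : G) ∈ D.C
          · rw [show x = (⟨(x : G), D.le hx⟩ : D.N) from rfl, theta_coe D l ⟨_, hx⟩,
              theta_coe D l⁻¹ ⟨_, hx⟩, inv_inv (G := D.C →* ℂˣ)]
            ring
          · rw [theta_off D l hx, theta_off D l⁻¹ hx]
        rw [phi, hth, ← phi, hz μ χ] at h1
        exact_mod_cast h1.symm
    · rintro rfl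
      exact hne rfl
  have hjdiff : ∀ k k', k ≠ k' → ∑ χ, v (j k) χ * v (j k') χ = 1 := fun k k' hk => by
    rw [hprod _ _ (ne1 (hj2 k)) (ne1 (hj2 k')), if_neg (hjne k k' hk).1, if_neg (hjne k k' hk).2]
    rfl
  obtain ⟨X, s, hs, hX⟩ := exists_common (fun f : J => f.1) (fun k => ⟨v (j k), j k, hj2 k, rfl⟩)
    (fun k k' he => by
      by_contra hk
      have h1 := hjdiff k k' hk
      have he' : v (j k) = v (j k') := congrArg Subtype.val he
      rw [he', hnorm _ (hj2 k')] at h1
      norm_num at h1)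
    (fun f => by obtain ⟨f, l, hl, rfl⟩ := f; exact hnorm l hl) hone
  have hvX : ∀ l, l ^ 2 ≠ 1 → v l X = s := fun l hl => hX ⟨v l, l, hl, rfl⟩
  have hss : s * s = 1 := by rcases hs with rfl | rfl <;> rfl
  have hs0 : s ≠ 0 := by rcases hs with rfl | rfl <;> norm_num
  have hXt : X ≠ trivIrr G := fun h => hs0 (by rw [← hvX l0 hl02]; simp [v, h])
  -- the real character also has this entry
  have hσX : v σ X = s := by
    have hw : ∑ χ, v σ χ * v σ χ = 3 := by
      rw [hprod σ σ hσ1 hσ1, if_pos rfl, if_pos ((pow_two (M := D.C →* ℂˣ) σ).symm.trans hσ2)]; rfl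
    have hσj : ∀ k, ∑ χ, v σ χ * v (j k) χ = 1 := fun k => by
      have hne : σ ≠ j k := fun h => hj2 k (h ▸ hσ2)
      rw [hprod σ _ hσ1 (ne1 (hj2 k)), if_neg hne, if_neg]
      · rfl
      · intro h
        apply hne
        rw [eq_inv_of_mul_eq_one_right (α := D.C →* ℂˣ) h]
        exact eq_inv_of_mul_eq_one_left (G := D.C →* ℂˣ) ((pow_two (M := D.C →* ℂˣ) σ).symm.trans hσ2)
    by_contra hne
    have hY : ∀ k, ∃ Y, Y ≠ X ∧ v (j k) Y ≠ 0 ∧ v σ Y ≠ 0 := by
      intro k
      by_contra hno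
      push Not at hno
      have h := hσj k
      rw [Finset.sum_eq_single X (fun Y _ hY => by
          by_cases h0 : v (j k) Y = 0
          · rw [h0, mul_zero]
          · rw [hno Y hY h0, zero_mul]) (fun h => absurd (Finset.mem_univ X) h), hvX _ (hj2 k)] at h
      exact hne (by rcases hs with rfl | rfl <;> omega)
    choose Y hYX hY0 hYσ using hY
    have hinj : Function.Injective Y := by
      intro k k' hkk
      by_contra hk
      have hYk : v (j k') (Y k) ≠ 0 := hkk ▸ hY0 k'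
      obtain ⟨w, -, -, hw'⟩ := share (v (j k)) (v (j k')) (hnorm _ (hj2 k)) (hnorm _ (hj2 k')) (hjdiff k k' hk)
      have hwX : w = X := by
        by_contra hwX
        have := hw' X (Ne.symm hwX)
        rw [hvX _ (hj2 k), hvX _ (hj2 k'), hss] at this
        norm_num at this
      exact (mul_ne_zero (hY0 k) hYk) (hw' (Y k) (hwX ▸ hYX k))
    have hle : ∑ k, v σ (Y k) * v σ (Y k) ≤ ∑ χ, v σ χ * v σ χ := by
      rw [← Finset.sum_image (f := fun χ => v σ χ * v σ χ) (fun a _ b _ h => hinj h)]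
      exact Finset.sum_le_sum_of_subset_of_nonneg (Finset.subset_univ _) fun χ _ _ => mul_self_nonneg _
    have h1 : ∀ k, 1 ≤ v σ (Y k) * v σ (Y k) := fun k => mul_self_pos.mpr (hYσ k)
    rw [Fin.sum_univ_four, hw] at hle
    linarith [h1 0, h1 1, h1 2, h1 3]
  -- the restriction of `X` to `C`
  obtain ⟨p, hp⟩ := bcoef_nat D (irr_isCharacter X) 1
  have hall : ∀ l, l ≠ 1 → bcoef D (X : G → ℂ) l = p - s := by
    intro l hl
    have hzs : z l X = s := by
      have hv : v l X = s := by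
        by_cases hl2 : l ^ 2 = 1
        · rw [eq_of_sq D hl2 hσ2 hl hσ1]; exact hσX
        · exact hvX l hl2
      simpa [v, hXt] using hv
    have h := hz l X
    rw [inner_phi D (irr_isClassFunction X), hp, hzs] at h
    linear_combination -h
  obtain ⟨q, hq⟩ := bcoef_nat D (irr_isCharacter X) σ
  have hpq : (p : ℤ) = q + s := by
    have := (hall σ hσ1).symm.trans hq
    have h' : ((p : ℤ) : ℂ) = ((q + s : ℤ) : ℂ) := by push_cast; linear_combination this
    exact_mod_cast h'
  have hres : ∀ c : D.C, (X : G → ℂ) c = (if c = 1 then (2 * D.m : ℂ) * q else 0) + s := by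
    set f : D.C → ℂ := fun c => (if c = 1 then (2 * D.m : ℂ) * q else 0) + s
    haveI := Fintype.ofFinite (IrrCharacter D.C)
    have hcomm : ∀ a b : D.C, a * b = b * a := fun a b => Subtype.ext (D.comm _ a.2 _ b.2)
    suffices h : (fun c : D.C => (X : G → ℂ) c) = f from fun c => congrFun h c
    refine ext_classInner (IsCharacter.isClassFunction (IsCharacter.restrict (irr_isCharacter X) D.C))
      (fun a b => by rw [hcomm b a, mul_inv_cancel_right]) fun χ => ?_
    obtain ⟨l, hl⟩ := IsCharacter.exists_hom_of_apply_one (irr_isCharacter χ)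
      (IsIrrCharacter.apply_one_of_comm hcomm χ.2)
    have h1 : classInner (fun c : D.C => (X : G → ℂ) c) (χ : D.C → ℂ) = conj (bcoef D (X : G → ℂ) l) := by
      rw [hl]; exact (classInner_conj_symm _ _).symm
    have h2 : classInner f (χ : D.C → ℂ) = q + if l = 1 then (s : ℂ) else 0 := by
      rw [hl]
      unfold classInner
      simp only [f, add_mul, Finset.sum_add_distrib, ite_mul, zero_mul, Finset.sum_ite_eq',
        Finset.mem_univ, if_true, map_one, Units.val_one, conj_lin, ← Finset.mul_sum, sum_lin,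
        inv_hom_eq_one, D.cardC]
      have hm0 : (D.m : ℂ) ≠ 0 := by exact_mod_cast (show D.m ≠ 0 by omega)
      push_cast
      split_ifs <;> field_simp <;> ring
    rw [h1, h2]
    by_cases hl1 : l = 1
    · rw [hl1, hp, map_natCast, if_pos rfl]
      exact_mod_cast hpq
    · rw [hall l hl1, if_neg hl1, map_sub, map_natCast, map_intCast, add_zero,
        show ((p : ℕ) : ℂ) = ((p : ℤ) : ℂ) by push_cast; rfl, hpq]
      push_cast; ring
  have ht1 : (⟨D.t, D.tC⟩ : D.C) ≠ 1 := fun h => by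
    have h2 := D.t2
    rw [show D.t = 1 from congrArg Subtype.val h, orderOf_one] at h2
    omega
  have hXvt : (X : G → ℂ) D.t = s := by
    have := hres ⟨D.t, D.tC⟩
    rwa [if_neg ht1, zero_add] at this
  obtain ⟨x, hxpos, hx⟩ := IsIrrCharacter.exists_apply_one X.2
  have hxq : (x : ℤ) = 2 * D.m * q + s := by
    have h := hres 1
    rw [if_pos rfl, OneMemClass.coe_one, hx] at h
    have h' : ((x : ℤ) : ℂ) = ((2 * D.m * q + s : ℤ) : ℂ) := by push_cast; exact h
    exact_mod_cast h'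
  -- the decomposition of one induced function
  have hl01 : l0 ≠ 1 := ne1 hl02
  obtain ⟨Y, hYX, hY2, hY0⟩ : ∃ Y, Y ≠ X ∧ v l0 Y * v l0 Y = 1 ∧
      ∀ χ, χ ≠ X → χ ≠ Y → v l0 χ = 0 := by
    obtain ⟨a, b, hab, ha, hb, hz0⟩ := sum_sq_two (v l0) (hnorm l0 hl02)
    by_cases h : X = a
    · subst h; exact ⟨b, Ne.symm hab, hb, hz0⟩
    · have hXb : X = b := by
        by_contra h'
        exact hs0 ((hvX l0 hl02).symm.trans (hz0 X h h'))
      subst hXb
      exact ⟨a, hab, ha, fun χ h1 h2 => hz0 χ h2 h1⟩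
  set s' := v l0 Y with hs'def
  have hYt : Y ≠ trivIrr G := fun h => by
    have : s' = 0 := by simp [hs'def, v, h]
    rw [this] at hY2
    norm_num at hY2
  have hphi : ∀ y : G, phi D l0 y = 1 + (s : ℂ) * (X : G → ℂ) y + (s' : ℂ) * (Y : G → ℂ) y := by
    intro y
    have h := congrFun (eq_sum_classInner (isClassFunction_indFun D.N (theta D l0))) y
    simp only [Finset.sum_apply, Pi.smul_apply, smul_eq_mul] at h
    rw [phi, h]
    have hterm : ∀ χ : IrrCharacter G, classInner (phi D l0) (χ : G → ℂ) * (χ : G → ℂ) y =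
        (if χ = trivIrr G then 1 else 0) + (if χ = X then (s : ℂ) * (X : G → ℂ) y else 0) +
        (if χ = Y then (s' : ℂ) * (Y : G → ℂ) y else 0) := by
      intro χ
      rw [hz l0 χ]
      by_cases h1 : χ = trivIrr G
      · subst h1
        simp [hztriv l0 hl01, Ne.symm hXt, Ne.symm hYt]
      have hzv : z l0 χ = v l0 χ := by simp [v, h1]
      rw [hzv]
      by_cases h2 : χ = X
      · subst h2
        simp [hvX l0 hl02, h1, Ne.symm hYX]
      by_cases h3 : χ = Y
      · subst h3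
        simp [hs'def, h1, h2]
      simp [hY0 χ h2 h3, h1, h2, h3]
    rw [← phi, Finset.sum_congr rfl fun χ _ => hterm χ]
    simp [Finset.sum_add_distrib]
  obtain ⟨e, hepos, he⟩ := IsIrrCharacter.exists_apply_one Y.2
  have heq1 : 1 + (s : ℂ) * x + (s' : ℂ) * e = 0 := by
    rw [← hx, ← he, ← hphi, phi_one]
  have heqt : 1 + (s : ℂ) * s + (s' : ℂ) * (Y : G → ℂ) D.t = 0 := by
    conv_lhs => arg 1; arg 2; arg 2; rw [← hXvt]
    rw [← hphi, show D.t = ((⟨D.t, D.le D.tC⟩ : D.N) : G) from rfl,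
      phi_eq_theta D l0 ⟨D.t, D.le D.tC⟩ ⟨D.tC, fun h => ht1 (Subtype.ext h)⟩,
      show (⟨D.t, D.le D.tC⟩ : D.N) = ⟨((⟨D.t, D.tC⟩ : D.C) : G), D.le D.tC⟩ from rfl, theta_coe,
      MonoidHom.inv_apply, hl0t]
    norm_num
  have hssC : (s : ℂ) * s = 1 := by exact_mod_cast hss
  have hs'C : (s' : ℂ) * s' = 1 := by exact_mod_cast hY2
  have hYval : (Y : G → ℂ) D.t = -2 * (s' : ℂ) := by
    linear_combination (s' : ℂ) * heqt - (s' : ℂ) * hssC - (Y : G → ℂ) D.t * hs'C
  have hsum := sum_translate D l0 hl01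
  simp only [hphi, Finset.sum_add_distrib, ← Finset.mul_sum, IsIrrCharacter.sum_conj_translate X.2,
    IsIrrCharacter.sum_conj_translate Y.2, Finset.sum_const, Finset.card_univ, nsmul_eq_mul,
    ← Nat.card_eq_fintype_card, hXvt, hYval, hx, he, mul_one] at hsum
  have hG : (Nat.card G : ℂ) = 4 * D.m * D.N.index := by
    rw [← D.N.card_mul_index, D.cardN]; push_cast; ring
  rw [hG] at hsum
  have hm0 : (D.m : ℂ) ≠ 0 := by exact_mod_cast (show D.m ≠ 0 by omega)
  have hx0 : (x : ℂ) ≠ 0 := by exact_mod_cast hxpos.ne'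
  have he0 : (e : ℂ) ≠ 0 := by exact_mod_cast hepos.ne'
  have hn := index_eq D
  set n := D.N.index
  have key : (n : ℂ) * ((x : ℂ) * e + s * e + 4 * s' * x) = 8 * (D.m : ℂ) ^ 2 * (x * e) := by
    have h4 : (4 * D.m * n : ℂ) * ((x : ℂ) * e + s * e + 4 * s' * x) =
        32 * (D.m : ℂ) ^ 3 * (x * e) := by
      rw [← hsum]
      field_simp
      linear_combination (-(n : ℂ) * s * e) * hssC - (4 * (n : ℂ) * x * s') * hs'C
    refine mul_left_cancel₀ (mul_ne_zero (show (4 : ℂ) ≠ 0 by norm_num) hm0) ?_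
    linear_combination h4
  have keyZ : (n : ℤ) * ((x : ℤ) * e + s * e + 4 * s' * x) = 8 * (D.m : ℤ) ^ 2 * (x * e) := by
    exact_mod_cast key
  have heZ : 1 + s * (x : ℤ) + s' * e = 0 := by exact_mod_cast heq1
  have key2 : (n : ℤ) * (((x : ℤ) + s) * (1 + s * x) - 4 * x) = 8 * (D.m : ℤ) ^ 2 * (x * (1 + s * x)) := by
    linear_combination (-s') * keyZ + ((n : ℤ) * (x + s) - 8 * (D.m : ℤ) ^ 2 * x) * heZ +
      (4 * (n : ℤ) * x) * hY2
  have hnlt : (n : ℤ) < 4 * (D.m : ℤ) ^ 2 := by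
    have : (n : ℤ) + 2 * D.m = 4 * D.m * D.m + 1 := by exact_mod_cast hn
    have : (9 : ℤ) ≤ D.m := by exact_mod_cast h9
    nlinarith
  have hx1 : (1 : ℤ) ≤ x := by exact_mod_cast hxpos
  rcases hs with rfl | rfl
  · nlinarith [mul_nonneg (sub_nonneg.mpr hnlt.le) (sq_nonneg ((x : ℤ) - 1)),
      mul_pos (show (0 : ℤ) < 4 * (D.m : ℤ) ^ 2 by positivity)
        (show (0 : ℤ) < x ^ 2 + 4 * x - 1 by nlinarith)]
  · have hq1 : (1 : ℤ) ≤ q := by
      by_contra h
      have : (q : ℤ) = 0 := by omega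
      rw [this] at hxq
      omega
    have hx5 : (5 : ℤ) ≤ x := by
      have h9' : (9 : ℤ) ≤ D.m := by exact_mod_cast h9
      nlinarith
    nlinarith [mul_nonneg (sub_nonneg.mpr hnlt.le) (sq_nonneg ((x : ℤ) + 1)),
      mul_pos (show (0 : ℤ) < 4 * (D.m : ℤ) ^ 2 by positivity)
        (show (0 : ℤ) < x ^ 2 - 4 * x - 1 by nlinarith)]

end Chars

/-- Let G be a finite group with an abelian Sylow 3-subgroup P such that the normalizer of P has order 4·#P, the centralizer C of P has order 2·#P, C meets each of its conjugates by elements outside its normalizer trivially, and every proper subgroup of G of even order has order dividing 4·#P. Then G is not simple. -/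
theorem result {G : Type*} [Group G] [Finite G]
    (P : Sylow 3 G) (hab : IsMulCommutative P)
    (hN : Nat.card (Subgroup.normalizer ((P : Subgroup G) : Set G)) = 4 * Nat.card P)
    (hC : Nat.card (Subgroup.centralizer (P : Set G)) = 2 * Nat.card P)
    (hTI : Cfsg.IsTISubset (Subgroup.centralizer (P : Set G) : Set G))
    (heven : ∀ H : Subgroup G, H ≠ ⊤ → 2 ∣ Nat.card H → Nat.card H ∣ 4 * Nat.card P) :
    ¬ IsSimpleGroup G := by
  intro hs
  haveI : Fact (Nat.Prime 3) := ⟨Nat.prime_three⟩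
  obtain ⟨D, hDm, h1⟩ := exists_local P hab hs hN hC hTI heven
  haveI := Fintype.ofFinite G
  haveI := Fintype.ofFinite D.C
  haveI := Fintype.ofFinite D.N
  by_cases h9 : 9 ≤ D.m
  · exact not_large D h9
  obtain ⟨e, he⟩ := IsPGroup.iff_card.mp P.2
  have hm3 : D.m = 3 := by
    rw [hDm] at h9 ⊢
    rw [he] at h9 h1 ⊢
    rcases e with _ | _ | e
    · norm_num at h1
    · norm_num
    · exact absurd (Nat.le_of_dvd (by positivity) (pow_dvd_pow 3 (show 2 ≤ e + 2 by omega))) h9
  have hn := index_eq D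
  rw [hm3] at hn
  have hG : Nat.card G = 372 := by
    rw [← D.N.card_mul_index, D.cardN, hm3, show D.N.index = 31 by omega]
  haveI : Fact (Nat.Prime 31) := ⟨by norm_num⟩
  obtain ⟨Q⟩ : Nonempty (Sylow 31 G) := inferInstance
  have hQc : Nat.card Q = 31 := by
    rw [Q.card_eq_multiplicity, hG, show (372 : ℕ) = 31 ^ 1 * 12 by norm_num,
      Nat.factorization_mul (by norm_num) (by norm_num), Nat.Prime.factorization_pow (by norm_num),
      Finsupp.add_apply, Finsupp.single_eq_same, Nat.factorization_eq_zero_of_not_dvd (by norm_num)]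
    norm_num
  have hnum : Nat.card (Sylow 31 G) = 1 := by
    have hmod := card_sylow_modEq_one 31 G
    have hidx : (Q : Subgroup G).index = 12 := by
      have := (Q : Subgroup G).card_mul_index
      rw [hQc, hG] at this
      omega
    have hdvd := hidx ▸ Q.card_dvd_index
    have hle := Nat.le_of_dvd (by norm_num) hdvd
    unfold Nat.ModEq at hmod
    omega
  haveI : Subsingleton (Sylow 31 G) := (Nat.card_eq_one_iff_unique.mp hnum).1
  rcases hs.eq_bot_or_eq_top_of_normal _ (Sylow.normal_of_subsingleton (P := Q)) with h | h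
  · rw [h, Subgroup.card_bot] at hQc; norm_num at hQc
  · rw [h, Subgroup.card_top, hG] at hQc; norm_num at hQc

end Cfsg.Agent.S4018
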