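import Mathlib
import Cfsg.Statements.S4022
import Cfsg.Agent.Lib.Solvable.Carter
import Cfsg.Agent.Lib.Coprime.SchurZassenhaus
import Cfsg.Agent.Lib.Involutions.WreathedCentric

set_option autoImplicit false
open Cfsg

namespace Cfsg.Agent.S4022

universe u

open Cfsg.Agent.Lib

variable {G : Type*} [Group G]

/-- Conjugate of a subgroup. -/
local notation:max H "^^" g => Subgroup.map (MulEquiv.toMonoidHom (MulAut.conj g)) H

theorem card_conj (H : Subgroup G) (g : G) : Nat.card ↥(H ^^ g) = Nat.card H :=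
  (Nat.card_congr (H.equivMapOfInjective _ (MulAut.conj g).injective).toEquiv).symm

theorem conj_conj (H : Subgroup G) (g h : G) : ((H ^^ g) ^^ h) = (H ^^ (h * g)) := by
  rw [Subgroup.map_map, map_mul]
  rfl

theorem conj_normal (N : Subgroup G) [hN : N.Normal] (g : G) : (N ^^ g) = N :=
  Subgroup.mem_normalizer_iff_map_conj_eq.mp (Subgroup.le_normalizer_of_normal (Subgroup.mem_top g))

/-- Equal orders in a cyclic subgroup mean equality. -/
theorem eq_of_cyclic [Finite G] {S A B : Subgroup G} (hS : IsCyclic S) (hA : A ≤ S) (hB : B ≤ S)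
    (hc : Nat.card A = Nat.card B) : A = B := by
  suffices key : ∀ A B : Subgroup G, A ≤ S → B ≤ S → Nat.card A = Nat.card B → A ≤ B from
    le_antisymm (key A B hA hB hc) (key B A hB hA hc.symm)
  intro A B hA hB hc x hx
  have : IsCyclic B := isCyclic_of_injective (Subgroup.inclusion hB) (Subgroup.inclusion_injective hB)
  obtain ⟨b, hb⟩ := IsCyclic.exists_ofOrder_eq_natCard (α := B)
  have hd : orderOf (⟨x, hA hx⟩ : S) ∣ Nat.card B := by
    rw [← hc, Subgroup.orderOf_mk]; exact A.orderOf_dvd_natCard hx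
  obtain ⟨k, hk⟩ := hd
  have hord : orderOf ((⟨b, hB b.2⟩ : S) ^ k) = orderOf (⟨x, hA hx⟩ : S) := by
    rw [orderOf_pow, Subgroup.orderOf_mk, Subgroup.orderOf_coe, hb, hk, Nat.gcd_mul_left_left,
      Nat.mul_div_cancel _ (by
        rcases Nat.eq_zero_or_pos k with rfl | h
        · rw [mul_zero] at hk; exact absurd hk (Nat.card_pos).ne'
        · exact h)]
  obtain ⟨j, hj⟩ := Subgroup.mem_zpowers_iff.mp
    (Involutions.mem_zpowers_of_orderOf_eq (a := ((⟨b, hB b.2⟩ : S) ^ k)) hord.symm)
  have hx' : (((b : B) : G) ^ k) ^ j = x := by simpa using congrArg Subtype.val hj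
  exact hx' ▸ B.zpow_mem (B.pow_mem b.2 k) j

/-- Cyclic Sylow subgroups away from `r`. -/
def CyclicAway (r : ℕ) (G : Type*) [Group G] : Prop :=
  ∀ p : ℕ, p.Prime → p ≠ r → ∀ P : Sylow p G, IsCyclic P

theorem CyclicAway.quotient [Finite G] {r : ℕ} (h : CyclicAway r G) (N : Subgroup G) [N.Normal] :
    CyclicAway r (G ⧸ N) := by
  intro p hp hpr P
  have : Fact p.Prime := ⟨hp⟩
  obtain ⟨S, rfl⟩ := Sylow.mapSurjective_surjective (QuotientGroup.mk'_surjective N) p P
  have := h p hp hpr S
  rw [Sylow.coe_mapSurjective]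
  exact isCyclic_of_surjective ((QuotientGroup.mk' N).subgroupMap (S : Subgroup G))
    (MonoidHom.subgroupMap_surjective _ _)

theorem CyclicAway.subgroup [Finite G] {r : ℕ} (h : CyclicAway r G) (X : Subgroup G) :
    CyclicAway r X := by
  intro p hp hpr P
  obtain ⟨S, hS⟩ := (P.2.map X.subtype).exists_le_sylow
  have := h p hp hpr S
  exact isCyclic_of_injective ((Subgroup.inclusion hS).comp
    ((P : Subgroup X).equivMapOfInjective _ X.subtype_injective).toMonoidHom)
    ((Subgroup.inclusion_injective hS).comp (MulEquiv.injective _))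

/-- All `r`-subgroups of equal order are conjugate. -/
def ConjAt (r : ℕ) (G : Type*) [Group G] : Prop :=
  ∀ H K : Subgroup G, IsPGroup r H → IsPGroup r K → Nat.card H = Nat.card K →
    ∃ g : G, K = H ^^ g

theorem ConjAt.quotient [Finite G] {r : ℕ} [Fact r.Prime] (h : ConjAt r G) (N : Subgroup G) [N.Normal] :
    ConjAt r (G ⧸ N) := by
  intro H K hH hK hc
  set π := QuotientGroup.mk' N
  have hπ : Function.Surjective π := QuotientGroup.mk'_surjective N
  have lift : ∀ H : Subgroup (G ⧸ N), IsPGroup r H → ∃ S : Subgroup G, IsPGroup r S ∧ S.map π = H ∧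
      Nat.card S = r ^ (Nat.card H * Nat.card N).factorization r := by
    intro H hH
    obtain ⟨S⟩ : Nonempty (Sylow r (H.comap π)) := inferInstance
    refine ⟨(S : Subgroup (H.comap π)).map (H.comap π).subtype, S.2.map _, ?_, ?_⟩
    · let θ : H.comap π →* H := π.subgroupComap H
      have hθ : Function.Surjective θ := MonoidHom.subgroupComap_surjective_of_surjective π H hπ
      have htop : (S : Subgroup (H.comap π)).map θ = ⊤ := by
        have h1 := (S.mapSurjective hθ)
        have h2 : ((S.mapSurjective hθ : Sylow r H) : Subgroup H) = ⊤ :=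
          ((S.mapSurjective hθ).3 (hH.to_subgroup ⊤ |>.of_equiv (MulEquiv.refl _)) le_top).symm
        rwa [Sylow.coe_mapSurjective] at h2
      ext y
      constructor
      · rintro ⟨x, ⟨x', -, rfl⟩, rfl⟩
        exact x'.2
      · intro hy
        obtain ⟨x', hx', hxy⟩ := htop.ge (Subgroup.mem_top (⟨y, hy⟩ : H))
        exact ⟨x', ⟨x', hx', rfl⟩, congrArg Subtype.val hxy⟩
    · rw [← Nat.card_congr ((S : Subgroup (H.comap π)).equivMapOfInjective _ (Subgroup.subtype_injective _)).toEquiv,
        S.card_eq_multiplicity]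
      congr 2
      have e := Subgroup.relIndex_ker (f := π) (K := H.comap π)
      rw [Subgroup.map_comap_eq_self_of_surjective hπ, QuotientGroup.ker_mk'] at e
      have hle : N ≤ H.comap π := Solvable.Carter.le_comap_mk N H
      rw [← e, ← Nat.card_congr (Subgroup.subgroupOfEquivOfLe hle).toEquiv, mul_comm, Subgroup.relIndex,
        Subgroup.card_mul_index]
  obtain ⟨S, hS, hSH, hSc⟩ := lift H hH
  obtain ⟨T, hT, hTK, hTc⟩ := lift K hK
  obtain ⟨g, hg⟩ := h S T hS hT (by rw [hSc, hTc, hc])
  refine ⟨π g, ?_⟩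
  rw [← hTK, hg, ← hSH, Subgroup.map_map, Subgroup.map_map]
  congr 1

/-- The induction step through a normal subgroup contained in both or coprime to both. -/
theorem step [Finite G] (N : Subgroup G) [N.Normal] (hNs : Group.IsSolvable N) {H K : Subgroup G}
    (hc : Nat.card H = Nat.card K)
    (hcase : (N ≤ H ∧ N ≤ K) ∨ (Nat.card N).Coprime (Nat.card H))
    (IH : ∀ A B : Subgroup (G ⧸ N), A = H.map (QuotientGroup.mk' N) → B = K.map (QuotientGroup.mk' N) →
      Nat.card A = Nat.card B → ∃ q : G ⧸ N, B = A ^^ q) :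
    ∃ g : G, K = H ^^ g := by
  set π := QuotientGroup.mk' N
  have hcard : ∀ L : Subgroup G, Nat.card (L.map π) * Nat.card (L ⊓ N : Subgroup G) = Nat.card L := by
    intro L
    have e := Subgroup.relIndex_ker (f := π) (K := L)
    rw [QuotientGroup.ker_mk'] at e
    rw [← e, inf_comm, mul_comm, ← Nat.card_congr (Subgroup.subgroupOfEquivOfLe
      (inf_le_right : N ⊓ L ≤ L)).toEquiv, Subgroup.inf_subgroupOf_right, Subgroup.relIndex,
      Subgroup.card_mul_index]
  have hinf : Nat.card (H ⊓ N : Subgroup G) = Nat.card (K ⊓ N : Subgroup G) := by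
    rcases hcase with ⟨h1, h2⟩ | hcop
    · rw [inf_eq_right.mpr h1, inf_eq_right.mpr h2]
    · rw [Subgroup.inf_eq_bot_of_coprime hcop.symm, Subgroup.inf_eq_bot_of_coprime (hc ▸ hcop).symm]
  obtain ⟨q, hq⟩ := IH _ _ rfl rfl (by
    have h1 := hcard H
    rw [hc, ← hcard K, hinf] at h1
    exact Nat.eq_of_mul_eq_mul_right Nat.card_pos h1)
  obtain ⟨g, rfl⟩ := QuotientGroup.mk'_surjective N q
  have hsup : (H ^^ g) ⊔ N = K ⊔ N := by
    have e1 : ((H ^^ g)).map π = K.map π := by
      rw [hq, Subgroup.map_map, Subgroup.map_map]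
      congr 1
    have e := congrArg (Subgroup.comap π) e1
    rwa [Subgroup.comap_map_eq, Subgroup.comap_map_eq, QuotientGroup.ker_mk'] at e
  rcases hcase with ⟨h1, h2⟩ | hcop
  · have h1' : N ≤ H ^^ g := (conj_normal N g).ge.trans (Subgroup.map_mono h1)
    rw [sup_eq_left.mpr h1', sup_eq_left.mpr h2] at hsup
    exact ⟨g, hsup.symm⟩
  · obtain ⟨n, -, hn⟩ := Coprime.exists_conj_eq_of_le_sup (N := N) (H := H ^^ g) (K := K)
      Subgroup.le_normalizer_of_normal (by rwa [card_conj]) (Or.inl hNs) (by rw [card_conj, hc])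
      (by rw [sup_comm, hsup]; exact le_sup_left)
    refine ⟨n * g, ?_⟩
    rw [← conj_conj]
    exact hn.symm

/-- The main induction. -/
theorem main (r : ℕ) : ∀ (n : ℕ) (G : Type u) [Group G] [Finite G] [Group.IsSolvable G],
    Nat.card G = n → CyclicAway r G → ∀ H K : Subgroup G, Nat.card H = Nat.card K →
    (∀ p : ℕ, p.Prime → p = r → ¬ p ∣ Nat.card H) → ∃ g : G, K = H ^^ g := by
  intro n
  induction n using Nat.strong_induction_on with
  | _ n ih =>
  intro G _ _ _ hn hcyc H K hc hr
  rcases subsingleton_or_nontrivial G with hG | hG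
  · exact ⟨1, Subsingleton.elim _ _⟩
  obtain ⟨p, N, hp, hNn, hN0, hNc, hNp, hmin⟩ := Solvable.Carter.exists_minimal_normal (G := G)
  have := Fact.mk hp
  have hNs : Group.IsSolvable N := have := hNp.isNilpotent; IsNilpotent.to_isSolvable
  have IH : ∀ A B : Subgroup (G ⧸ N), A = H.map (QuotientGroup.mk' N) →
      B = K.map (QuotientGroup.mk' N) → Nat.card A = Nat.card B → ∃ q : G ⧸ N, B = A ^^ q := by
    intro A B hA _ hAB
    refine ih _ (hn ▸ Solvable.Carter.card_quotient_lt hN0) (G ⧸ N) rfl (hcyc.quotient N) A B hAB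
      fun s hs hsr hd => hr s hs hsr (hd.trans ?_)
    rw [hA]
    exact Subgroup.card_map_dvd _ _
  obtain ⟨d, hd⟩ := IsPGroup.iff_card.mp hNp
  by_cases hpH : p ∣ Nat.card H
  · have hpr : p ≠ r := fun h => hr p hp h hpH
    refine step N hNs hc (Or.inl ?_) IH
    obtain ⟨S, hNS⟩ := hNp.exists_le_sylow
    have hS := hcyc p hp hpr S
    have hd0 : d ≠ 0 := fun h => hN0 (Subgroup.eq_bot_of_card_eq _ (by rw [hd, h, pow_zero]))
    have hpN : p ∣ Nat.card N := hd ▸ dvd_pow_self p hd0
    obtain ⟨y, hy⟩ := exists_prime_orderOf_dvd_card' p hpN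
    set Y := Subgroup.zpowers (y : G)
    have hYN : Y ≤ N := Subgroup.zpowers_le.mpr y.2
    have hYc : Nat.card Y = p := by rw [Nat.card_zpowers, Subgroup.orderOf_coe, hy]
    have hY : ∀ X : Subgroup G, Nat.card X = p → X = Y := by
      intro X hX
      obtain ⟨T, hT⟩ := (IsPGroup.of_card (p := p) (n := 1) (show Nat.card X = p ^ 1 by rw [hX, pow_one])).exists_le_sylow
      obtain ⟨g, hg⟩ := MulAction.exists_smul_eq G T S
      have hXS : (X ^^ g) ≤ (S : Subgroup G) := by
        rw [← hg]; exact Subgroup.map_mono hT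
      have e := eq_of_cyclic hS hXS (hYN.trans hNS) (by rw [card_conj, hX, hYc])
      have hYn : (Y ^^ g⁻¹) ≤ N := (Subgroup.map_mono hYN).trans (conj_normal N g⁻¹).le
      have : X = Y ^^ g⁻¹ := by
        rw [← e, conj_conj, inv_mul_cancel, map_one]; exact (Subgroup.map_id X).symm
      rw [this]
      exact eq_of_cyclic hS (hYn.trans hNS) (hYN.trans hNS) (by rw [card_conj])
    have hYnorm : Y.Normal := by
      rw [← Subgroup.normalizer_eq_top_iff, eq_top_iff]
      exact fun g _ => Subgroup.mem_normalizer_iff_map_conj_eq.mpr (hY _ ((card_conj _ g).trans hYc))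
    have hYeq : Y = N := (hmin Y hYnorm hYN).resolve_left (fun h => by
      rw [h, Subgroup.card_bot] at hYc; exact hp.one_lt.ne hYc)
    have key : ∀ L : Subgroup G, p ∣ Nat.card L → N ≤ L := by
      intro L hL
      obtain ⟨x, hx⟩ := exists_prime_orderOf_dvd_card' p hL
      rw [← hYeq, ← hY (Subgroup.zpowers (x : G)) (by rw [Nat.card_zpowers, Subgroup.orderOf_coe, hx])]
      exact Subgroup.zpowers_le.mpr x.2
    exact ⟨key H hpH, key K (hc ▸ hpH)⟩
  · refine step N hNs hc (Or.inr ?_) IH
    rw [hd]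
    exact ((hp.coprime_iff_not_dvd).mpr hpH).pow_left d

theorem mainD (r : ℕ) [Fact r.Prime] : ∀ (n : ℕ) (G : Type u) [Group G] [Finite G] [Group.IsSolvable G],
    Nat.card G = n → CyclicAway r G → ConjAt r G → ∀ H K : Subgroup G, Nat.card H = Nat.card K →
    ∃ g : G, K = H ^^ g := by
  intro n
  induction n using Nat.strong_induction_on with
  | _ n ih =>
  intro G _ _ _ hn hcyc hD H K hc
  by_cases hrH : r ∣ Nat.card H
  swap
  · exact main r _ G rfl hcyc H K hc (fun s _ hsr => hsr ▸ hrH)
  rcases subsingleton_or_nontrivial G with hG | hG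
  · exact ⟨1, Subsingleton.elim _ _⟩
  obtain ⟨p, N, hp, hNn, hN0, hNc, hNp, hmin⟩ := Solvable.Carter.exists_minimal_normal (G := G)
  have := Fact.mk hp
  have hNs : Group.IsSolvable N := have := hNp.isNilpotent; IsNilpotent.to_isSolvable
  have IH : ∀ A B : Subgroup (G ⧸ N), A = H.map (QuotientGroup.mk' N) →
      B = K.map (QuotientGroup.mk' N) → Nat.card A = Nat.card B → ∃ q : G ⧸ N, B = A ^^ q :=
    fun A B _ _ hAB => ih _ (hn ▸ Solvable.Carter.card_quotient_lt hN0) (G ⧸ N) rfl (hcyc.quotient N)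
      (hD.quotient N) A B hAB
  obtain ⟨d, hd⟩ := IsPGroup.iff_card.mp hNp
  have hd0 : d ≠ 0 := fun h => hN0 (Subgroup.eq_bot_of_card_eq _ (by rw [hd, h, pow_zero]))
  by_cases hpH : p ∣ Nat.card H
  swap
  · refine step N hNs hc (Or.inr ?_) IH
    rw [hd]
    exact ((hp.coprime_iff_not_dvd).mpr hpH).pow_left d
  by_cases hpr : p = r
  swap
  · -- `N` has order `p` and lies in every subgroup of order divisible by `p`
    refine step N hNs hc (Or.inl ?_) IH
    obtain ⟨S, hNS⟩ := hNp.exists_le_sylow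
    have hS := hcyc p hp hpr S
    have hpN : p ∣ Nat.card N := hd ▸ dvd_pow_self p hd0
    obtain ⟨y, hy⟩ := exists_prime_orderOf_dvd_card' p hpN
    have hYN : Subgroup.zpowers (y : G) ≤ N := Subgroup.zpowers_le.mpr y.2
    have hY : ∀ X : Subgroup G, Nat.card X = p → X ≤ N := by
      intro X hX
      obtain ⟨T, hT⟩ := (IsPGroup.of_card (p := p) (n := 1) (show Nat.card X = p ^ 1 by rw [hX, pow_one])).exists_le_sylow
      obtain ⟨g, hg⟩ := MulAction.exists_smul_eq G T S
      have hXS : (X ^^ g) ≤ (S : Subgroup G) := by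
        rw [← hg]; exact Subgroup.map_mono hT
      have e := eq_of_cyclic hS hXS (hYN.trans hNS)
        (by rw [card_conj, hX, Nat.card_zpowers, Subgroup.orderOf_coe, hy])
      have hX' : X = (Subgroup.zpowers (y : G)) ^^ g⁻¹ := by
        rw [← e, conj_conj, inv_mul_cancel, map_one]; exact (Subgroup.map_id X).symm
      rw [hX']
      exact (Subgroup.map_mono hYN).trans (conj_normal N g⁻¹).le
    have hNp1 : Nat.card N = p := by
      have hYn : (Subgroup.zpowers (y : G)).Normal := by
        rw [← Subgroup.normalizer_eq_top_iff, eq_top_iff]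
        intro g _
        refine Subgroup.mem_normalizer_iff_map_conj_eq.mpr (eq_of_cyclic hS ?_ (hYN.trans hNS) (card_conj _ g))
        exact ((Subgroup.map_mono hYN).trans (conj_normal N g).le).trans hNS
      have e := (hmin _ hYn hYN).resolve_left (fun h => by
        have h1 : Nat.card (Subgroup.zpowers (y : G)) = 1 := by rw [h, Subgroup.card_bot]
        rw [Nat.card_zpowers, Subgroup.orderOf_coe, hy] at h1
        exact hp.one_lt.ne' h1)
      rw [← e, Nat.card_zpowers, Subgroup.orderOf_coe, hy]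
    have key : ∀ L : Subgroup G, p ∣ Nat.card L → N ≤ L := by
      intro L hL
      obtain ⟨x, hx⟩ := exists_prime_orderOf_dvd_card' p hL
      have hxc : Nat.card (Subgroup.zpowers (x : G)) = p := by
        rw [Nat.card_zpowers, Subgroup.orderOf_coe, hx]
      rw [← Subgroup.eq_of_le_of_card_ge (hY _ hxc) (by rw [hxc, hNp1])]
      exact Subgroup.zpowers_le.mpr x.2
    exact ⟨key H hpH, key K (hc ▸ hpH)⟩
  subst hpr
  -- `p = r`
  set k := (Nat.card H).factorization p with hk
  have sylOf : ∀ L : Subgroup G, (Nat.card L).factorization p = k →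
      ∃ R : Subgroup G, R ≤ L ∧ IsPGroup p R ∧ Nat.card R = p ^ k := by
    intro L hL
    obtain ⟨S⟩ : Nonempty (Sylow p L) := inferInstance
    refine ⟨(S : Subgroup L).map L.subtype, Subgroup.map_subtype_le _, S.2.map _, ?_⟩
    rw [← Nat.card_congr ((S : Subgroup L).equivMapOfInjective _ L.subtype_injective).toEquiv,
      S.card_eq_multiplicity, hL]
  obtain ⟨R, hRH, hRp, hRc⟩ := sylOf H rfl
  obtain ⟨R', hRK, hR'p, hR'c⟩ := sylOf K (by rw [← hc])
  rcases le_or_gt d k with hdk | hkd
  · refine step N hNs hc (Or.inl ?_) IH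
    have key : ∀ R : Subgroup G, IsPGroup p R → Nat.card R = p ^ k → N ≤ R := by
      intro R hR hRc
      obtain ⟨Y, hY, -⟩ := Sylow.exists_subgroup_card_pow_prime_le (G := R) p (m := d)
        (show p ^ d ∣ Nat.card R from hRc ▸ pow_dvd_pow p hdk) (⊥ : Subgroup R) (n := 0)
        (by rw [Subgroup.card_bot, pow_zero]) (Nat.zero_le d)
      have hYc : Nat.card (Y.map R.subtype) = p ^ d := by
        rw [← Nat.card_congr (Y.equivMapOfInjective _ R.subtype_injective).toEquiv, hY]
      obtain ⟨g, hg⟩ := hD (Y.map R.subtype) N (IsPGroup.of_card hYc) hNp (by rw [hYc, hd])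
      have e : Y.map R.subtype = N := by
        rw [← conj_normal N g⁻¹, hg, conj_conj, inv_mul_cancel, map_one]
        exact (Subgroup.map_id _).symm
      rw [← e]
      exact Subgroup.map_subtype_le _
    exact ⟨(key R hRp hRc).trans hRH, (key R' hR'p hR'c).trans hRK⟩
  -- the Sylow `p`-subgroups are normal
  have key : ∀ R : Subgroup G, IsPGroup p R → Nat.card R = p ^ k → R ≤ N := by
    intro R hR hRc
    obtain ⟨Y, hY⟩ := Sylow.exists_subgroup_card_pow_prime (G := N) p
      (show p ^ k ∣ Nat.card N from hd ▸ pow_dvd_pow p hkd.le)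
    have hYc : Nat.card (Y.map N.subtype) = p ^ k := by
      rw [← Nat.card_congr (Y.equivMapOfInjective _ N.subtype_injective).toEquiv, hY]
    obtain ⟨g, hg⟩ := hD (Y.map N.subtype) R (IsPGroup.of_card hYc) hR (by rw [hYc, hRc])
    rw [hg]
    exact (Subgroup.map_mono (Subgroup.map_subtype_le _)).trans (conj_normal N g).le
  have split : ∀ L R : Subgroup G, R ≤ L → IsPGroup p R → Nat.card R = p ^ k →
      (Nat.card L).factorization p = k → ∃ C : Subgroup G, L ≤ Subgroup.normalizer (R : Set G) ∧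
        C ≤ L ∧ R ⊔ C = L ∧ Nat.card R * Nat.card C = Nat.card L := by
    intro L R hRL hR hRc hL
    have hRe : R = L ⊓ N := by
      refine Subgroup.eq_of_le_of_card_ge (le_inf hRL (key R hR hRc)) ?_
      obtain ⟨j, hj⟩ := IsPGroup.iff_card.mp (hNp.to_le (inf_le_right : L ⊓ N ≤ N))
      have h := Subgroup.card_dvd_of_le (inf_le_left : L ⊓ N ≤ L)
      rw [hj, hp.pow_dvd_iff_le_factorization Nat.card_pos.ne', hL] at h
      rw [hj, hRc]
      exact Nat.pow_le_pow_right hp.pos h
    have hn : L ≤ Subgroup.normalizer (R : Set G) := by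
      rw [hRe]
      intro x hx
      refine Subgroup.mem_normalizer_iff_map_conj_eq.mpr ?_
      rw [Subgroup.map_inf _ _ _ (MulAut.conj x).injective]
      exact congrArg₂ (· ⊓ ·) (Subgroup.mem_normalizer_iff_map_conj_eq.mp (Subgroup.le_normalizer hx))
        (conj_normal N x)
    have hRn : (R.subgroupOf L).Normal := Subgroup.normal_subgroupOf_of_le_normalizer hn
    have hcop : Nat.Coprime (Nat.card (R.subgroupOf L)) (R.subgroupOf L).index := by
      rw [Nat.card_congr (Subgroup.subgroupOfEquivOfLe hRL).toEquiv, hRc]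
      refine ((hp.coprime_iff_not_dvd).mpr fun hd' => ?_).pow_left k
      have e := (R.subgroupOf L).card_mul_index
      rw [Nat.card_congr (Subgroup.subgroupOfEquivOfLe hRL).toEquiv, hRc] at e
      obtain ⟨t, ht⟩ := hd'
      rw [ht, ← mul_assoc, ← pow_succ] at e
      have := (hp.pow_dvd_iff_le_factorization Nat.card_pos.ne').mp (Dvd.intro t e)
      omega
    obtain ⟨C, hC⟩ := Subgroup.exists_right_complement'_of_coprime hcop
    refine ⟨C.map L.subtype, hn, Subgroup.map_subtype_le _, ?_, ?_⟩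
    · conv_lhs => arg 1; rw [← Subgroup.map_subgroupOf_eq_of_le hRL]
      rw [← Subgroup.map_sup, hC.sup_eq_top, ← MonoidHom.range_eq_map, Subgroup.range_subtype]
    · rw [← Nat.card_congr (C.equivMapOfInjective _ L.subtype_injective).toEquiv,
        ← Nat.card_congr (Subgroup.subgroupOfEquivOfLe hRL).toEquiv, hC.card_mul_card]
  obtain ⟨g, hg⟩ := hD R R' hRp hR'p (by rw [hRc, hR'c])
  obtain ⟨C, hnH, hCH, hHsup, hHc⟩ := split H R hRH hRp hRc rfl
  obtain ⟨C', hnK, hCK, hKsup, hKc⟩ := split K R' hRK hR'p hR'c (by rw [← hc])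
  set X := Subgroup.normalizer (R' : Set G)
  have hCX : (C ^^ g) ≤ X := by
    rintro _ ⟨c, hcC, rfl⟩
    refine Subgroup.mem_normalizer_iff_map_conj_eq.mpr ?_
    have hcR : (R ^^ c) = R := Subgroup.mem_normalizer_iff_map_conj_eq.mp (hnH (hCH hcC))
    show (R' ^^ (g * c * g⁻¹)) = R'
    rw [hg, conj_conj, show g * c * g⁻¹ * g = g * c by group, ← conj_conj, hcR]
  have hC'X : C' ≤ X := hCK.trans hnK
  have hCc : Nat.card C = Nat.card C' := by
    rw [hRc] at hHc
    rw [hR'c, ← hc, ← hHc] at hKc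
    exact (Nat.eq_of_mul_eq_mul_left (pow_pos hp.pos k) hKc).symm
  have hCp : ¬ p ∣ Nat.card C := by
    rintro ⟨t, ht⟩
    rw [hRc, ht, ← mul_assoc, ← pow_succ] at hHc
    have := (hp.pow_dvd_iff_le_factorization Nat.card_pos.ne').mp (Dvd.intro t hHc)
    omega
  have hXs : Group.IsSolvable X := inferInstance
  obtain ⟨x, hx⟩ := main p _ X rfl (hcyc.subgroup X) ((C ^^ g).subgroupOf X) (C'.subgroupOf X)
    (by rw [Nat.card_congr (Subgroup.subgroupOfEquivOfLe hCX).toEquiv, card_conj,
      Nat.card_congr (Subgroup.subgroupOfEquivOfLe hC'X).toEquiv, hCc])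
    (fun s _ hs => by
      rw [hs, Nat.card_congr (Subgroup.subgroupOfEquivOfLe hCX).toEquiv, card_conj]; exact hCp)
  refine ⟨(x : G) * g, ?_⟩
  have hC' : C' = (C ^^ ((x : G) * g)) := by
    have e := congrArg (Subgroup.map X.subtype) hx
    rw [Subgroup.map_subgroupOf_eq_of_le hC'X, Subgroup.map_map] at e
    have e' : X.subtype.comp (MulAut.conj x).toMonoidHom =
        (MulAut.conj (x : G)).toMonoidHom.comp X.subtype := MonoidHom.ext fun _ => rfl
    rw [e', ← Subgroup.map_map, Subgroup.map_subgroupOf_eq_of_le hCX, conj_conj] at e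
    exact e
  rw [← hKsup, ← hHsup, Subgroup.map_sup, ← hC', ← conj_conj, ← hg,
    (show (R' ^^ (x : G)) = R' from Subgroup.mem_normalizer_iff_map_conj_eq.mp x.2)]

/-- Let G be a finite solvable group in which, for every prime p, any two p-subgroups of the same order are conjugate, and suppose the Sylow p-subgroups of G are cyclic for all primes p with at most one exception. Then any two subgroups of G of the same order are conjugate. -/
theorem result {G : Type*} [Group G] [Finite G]
    [Group.IsSolvable G] (hD : ∀ p : ℕ, p.Prime → ∀ H K : Subgroup G, IsPGroup p H → IsPGroup p K → Nat.card H = Nat.card K →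
      ∃ g : G, K = H.map (MulAut.conj g).toMonoidHom)
    (r : ℕ) (hcyc : ∀ p : ℕ, p.Prime → p ≠ r → ∀ P : Sylow p G, IsCyclic P) :
    ∀ H K : Subgroup G, Nat.card H = Nat.card K → ∃ g : G, K = H.map (MulAut.conj g).toMonoidHom := by
  intro H K hc
  by_cases hr : r.Prime
  · have := Fact.mk hr
    exact mainD r _ G rfl hcyc (hD r hr) H K hc
  · exact main r _ G rfl hcyc H K hc (fun p hp e => absurd (e ▸ hp) hr)

end Cfsg.Agent.S4022
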