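import Cfsg.Statements.S4024
import Cfsg.Agent.Lib.PGroups.IsoByOrder
import Cfsg.Agent.Lib.Coprime.SylowNormalizes
import Cfsg.Agent.Lib.Cores.PCore

set_option autoImplicit false
open Cfsg

namespace Cfsg.Agent.S4024

/-- Let p be an odd prime and G a finite group in which any two p-subgroups of the same order are conjugate, with Sylow p-subgroup P. If H is a normal p-solvable subgroup of G whose order is divisible by p, then P is abelian, and either P ≤ H or P is cyclic. -/
theorem result {G : Type*} [Group G] [Finite G]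
    {p : ℕ} [Fact p.Prime] (hp : p ≠ 2) (hC : ∀ H K : Subgroup G, IsPGroup p H → IsPGroup p K → Nat.card H = Nat.card K →
      ∃ g : G, K = H.map (MulAut.conj g).toMonoidHom) (P : Sylow p G)
    (H : Subgroup G) [H.Normal] (hsolv : Cfsg.IsPSolvable p H) (hdiv : p ∣ Nat.card H) :
    IsMulCommutative P ∧ ((P : Subgroup G) ≤ H ∨ IsCyclic P) := by
  classical
  have hpp : p.Prime := Fact.out
  set K := Cfsg.pPrimeCore p G with hK
  set f := QuotientGroup.mk' K with hf
  have hKp : ¬ p ∣ Nat.card K := Lib.Cores.not_dvd_card_pPrimeCore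
  have hinj : ∀ x ∈ (P : Subgroup G), x ∈ K → x = 1 := by
    intro x hx hxK
    obtain ⟨k, hk⟩ := IsPGroup.iff_orderOf.mp P.isPGroup' ⟨x, hx⟩
    rw [Subgroup.orderOf_mk] at hk
    have h1 : orderOf x ∣ Nat.card K := Subgroup.orderOf_dvd_natCard K hxK
    rcases k with _ | k
    · exact orderOf_eq_one_iff.mp (by simpa using hk)
    · exact absurd (dvd_trans (by rw [hk, pow_succ]; exact dvd_mul_left _ _) h1) hKp
  haveI hHn : (H.map f).Normal := Subgroup.Normal.map inferInstance _ (QuotientGroup.mk'_surjective K)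
  have hsolv' : Cfsg.IsPSolvable p ↥(H.map f) :=
    Lib.PGroups.IsoByOrder.psolvable_of_surjective (f.subgroupMap H) (f.subgroupMap_surjective H) hsolv
  haveI : Nontrivial ↥(H.map f) := by
    rw [Subgroup.nontrivial_iff_ne_bot]
    intro hb
    rw [Subgroup.map_eq_bot_iff, hf, QuotientGroup.ker_mk'] at hb
    exact hKp (hdiv.trans (Subgroup.card_dvd_of_le hb))
  have hcore : Cfsg.pPrimeCore p ↥(H.map f) = ⊥ := by
    have := Lib.Cores.map_subtype_pPrimeCore_le (p := p) (H.map f)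
    rw [Lib.Cores.pPrimeCore_quotient_pPrimeCore, le_bot_iff, Subgroup.map_eq_bot_iff,
      Subgroup.ker_subtype, le_bot_iff] at this
    exact this
  obtain ⟨N, hNn, hN1, hNp⟩ := Lib.Coprime.SylowNormalizes.exists_normal_chain_factor hsolv'
  have hNp' : IsPGroup p N := by
    rcases hNp with ⟨m, hm⟩ | hm
    · exact IsPGroup.of_card hm
    · exact absurd (Lib.Cores.pPrimeCore_eq_bot_iff.mp hcore N hNn hm) hN1
  set R := (Cfsg.pCore p ↥(H.map f)).map (H.map f).subtype with hR
  haveI hRn : R.Normal := Lib.Cores.normal_map_subtype_of_char _ _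
  have hR1 : R ≠ ⊥ := by
    intro hb
    rw [hR, Subgroup.map_eq_bot_iff, Subgroup.ker_subtype, le_bot_iff] at hb
    exact hN1 (le_bot_iff.mp (hb ▸ Lib.Cores.le_pCore hNn hNp'))
  have hRp : IsPGroup p R := (Lib.Cores.pCore_isPGroup p _).map _
  have hRH : R ≤ H.map f := Subgroup.map_subtype_le _
  set Pb : Sylow p (G ⧸ K) := P.mapSurjective (QuotientGroup.mk'_surjective K) with hPb
  have hPb' : (Pb : Subgroup (G ⧸ K)) = (P : Subgroup G).map f := rfl
  have hRP : R ≤ (P : Subgroup G).map f := by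
    rw [← hPb']
    obtain ⟨Q, hQ⟩ := hRp.exists_le_sylow
    obtain ⟨g, hg⟩ := MulAction.exists_smul_eq (G ⧸ K) Q Pb
    rw [← hg]
    intro r hr
    rw [Sylow.coe_subgroup_smul, Subgroup.mem_pointwise_smul_iff_inv_smul_mem, MulAut.smul_def]
    refine hQ ?_
    have := hRn.conj_mem r hr g⁻¹
    rw [inv_inv] at this
    exact this
  -- an element of order `p` of `P` over `R`
  obtain ⟨y, hy, hyo, hyR⟩ : ∃ y ∈ (P : Subgroup G), orderOf y = p ∧ f y ∈ R := by
    obtain ⟨n, hn⟩ := hRp.exists_card_eq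
    obtain ⟨r, hr⟩ := exists_prime_orderOf_dvd_card' (G := R) p (by
      rcases n with _ | n
      · exact absurd (Subgroup.eq_bot_of_card_eq R (by rw [hn, pow_zero])) hR1
      · rw [hn, pow_succ]; exact dvd_mul_left _ _)
    obtain ⟨y, hy, hyr⟩ := hRP r.2
    refine ⟨y, hy, orderOf_eq_prime ?_ ?_, hyr ▸ r.2⟩
    · refine hinj _ (pow_mem hy p) ((QuotientGroup.eq_one_iff _).mp ?_)
      show f (y ^ p) = 1
      rw [map_pow, hyr, ← SubgroupClass.coe_pow, (orderOf_dvd_iff_pow_eq_one.mp (dvd_of_eq hr)), Subgroup.coe_one]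
    · rintro rfl
      rw [map_one] at hyr
      have : r = 1 := Subtype.ext hyr.symm
      rw [this, orderOf_one] at hr
      exact hpp.ne_one hr.symm
  have hconj : ∀ u v : G, orderOf u = p → orderOf v = p → ∀ S : Subgroup (G ⧸ K), S.Normal → f u ∈ S → f v ∈ S := by
    intro u v hu hv S hS huS
    obtain ⟨g, hg⟩ := hC (Subgroup.zpowers u) (Subgroup.zpowers v)
      (IsPGroup.of_card (n := 1) (by rw [Nat.card_zpowers, hu, pow_one]))
      (IsPGroup.of_card (n := 1) (by rw [Nat.card_zpowers, hv, pow_one]))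
      (by rw [Nat.card_zpowers, Nat.card_zpowers, hu, hv])
    obtain ⟨w, hw, hwv⟩ := hg.le (Subgroup.mem_zpowers v)
    obtain ⟨i, rfl⟩ := Subgroup.mem_zpowers_iff.mp hw
    rw [← hwv]
    show f (g * u ^ i * g⁻¹) ∈ S
    rw [map_mul, map_mul, map_inv, map_zpow]
    exact hS.conj_mem _ (S.zpow_mem huS i) _
  have hall : (∀ x : ↥(P : Subgroup G), x ^ p = 1) → ∀ x ∈ (P : Subgroup G), f x ∈ R := by
    intro he x hx
    by_cases hx1 : x = 1
    · rw [hx1, map_one]; exact one_mem _
    exact hconj y x hyo (orderOf_eq_prime (congrArg Subtype.val (he ⟨x, hx⟩)) hx1) R hRn hyR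
  have hPH : (∀ x : ↥(P : Subgroup G), x ^ p = 1) → (P : Subgroup G) ≤ H := by
    intro he x hx
    obtain ⟨h₀, hh₀, hhx⟩ := hRH (hall he x hx)
    obtain ⟨k, hk, hk'⟩ : ∃ k ∈ K, h₀ * k = x := by
      refine ⟨h₀⁻¹ * x, ?_, by group⟩
      exact QuotientGroup.eq.mp hhx
    set π := QuotientGroup.mk' H with hπ
    have h1 : π x = π k := by
      rw [← hk', map_mul]
      have : π h₀ = 1 := (QuotientGroup.eq_one_iff h₀).mpr hh₀
      rw [this, one_mul]
    have h2 : orderOf (π x) ∣ p := orderOf_dvd_of_pow_eq_one (by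
      rw [← map_pow, show x ^ p = 1 from congrArg Subtype.val (he ⟨x, hx⟩), map_one])
    have h3 : orderOf (π x) ∣ Nat.card K := by
      rw [h1]
      exact (orderOf_map_dvd π k).trans (Subgroup.orderOf_dvd_natCard K hk)
    rcases (Nat.dvd_prime hpp).mp h2 with h | h
    · exact (QuotientGroup.eq_one_iff x).mp (orderOf_eq_one_iff.mp h)
    · exact absurd (h ▸ h3) hKp
  rcases Lib.PGroups.IsoByOrder.classify P.isPGroup' (Lib.PGroups.IsoByOrder.isoByOrder_sylow hC P) with
    h | ⟨hc, he⟩ | h | ⟨h1, h2, h3, h4, -⟩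
  · haveI := h
    exact ⟨⟨⟨fun a b => (IsCyclic.commGroup (α := ↥(P : Subgroup G))).mul_comm a b⟩⟩, Or.inr h⟩
  · exact ⟨⟨⟨hc⟩⟩, Or.inl (hPH he)⟩
  · exact absurd h.1 hp
  · exfalso
    haveI : Nontrivial ↥(P : Subgroup G) := by
      by_contra hn
      haveI := not_nontrivial_iff_subsingleton.mp hn
      exact h2 fun a b => Subsingleton.elim _ _
    haveI := P.isPGroup'.center_nontrivial
    obtain ⟨⟨z, hzc⟩, hz1⟩ := exists_ne (1 : Subgroup.center ↥(P : Subgroup G))
    obtain ⟨a, b, hab⟩ : ∃ a b : ↥(P : Subgroup G), a * b ≠ b * a := by push Not at h2; exact h2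
    have ho : ∀ x : ↥(P : Subgroup G), x ≠ 1 → orderOf (x : G) = p := fun x hx => by
      rw [Subgroup.orderOf_coe]; exact orderOf_eq_prime (h4 x) hx
    set Z := (Subgroup.center ↥R).map R.subtype with hZ
    haveI hZn : Z.Normal := Lib.Cores.normal_map_subtype_of_char _ _
    have hzR : f (z : G) ∈ Z := by
      refine ⟨⟨f z, hall h4 z z.2⟩, Subgroup.mem_center_iff.mpr fun w => ?_, rfl⟩
      obtain ⟨w', hw', hww⟩ := hRP w.2
      refine Subtype.ext ?_
      show (w : G ⧸ K) * f z = f z * w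
      rw [← hww, ← map_mul, ← map_mul]
      exact congrArg (fun t : ↥(P : Subgroup G) => f (t : G)) (Subgroup.mem_center_iff.mp hzc ⟨w', hw'⟩)
    have hz1' : z ≠ 1 := fun e => hz1 (Subtype.ext e)
    have ha1 : a ≠ 1 := fun e => hab (by rw [e, one_mul, mul_one])
    obtain ⟨a', ha', haa⟩ := hconj z a (ho z hz1') (ho a ha1) Z hZn hzR
    have hcomm := congrArg Subtype.val (Subgroup.mem_center_iff.mp ha' ⟨f b, hall h4 b b.2⟩)
    simp only [Subgroup.coe_mul] at hcomm
    have haa' : (a' : G ⧸ K) = f a := haa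
    rw [haa', ← map_mul, ← map_mul] at hcomm
    apply hab
    have hm : ((b * a)⁻¹ * (a * b) : G) ∈ K := by
      exact QuotientGroup.eq.mp hcomm
    have := hinj _ (mul_mem (inv_mem (mul_mem b.2 a.2)) (mul_mem a.2 b.2)) hm
    exact Subtype.ext (inv_mul_eq_one.mp this).symm

end Cfsg.Agent.S4024
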