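import Cfsg.Statements.S4025
import Cfsg.Agent.Lib.SemilinearSylow.Group

set_option autoImplicit false
open Cfsg
open scoped IsMulCommutative

namespace Cfsg.Agent.S4025

theorem isComplement_aux {p : ℕ} [Fact p.Prime] {N : Type*} [Group N] [Finite N] (A : Subgroup N)
    [A.Normal] (hA : IsPGroup p A) (hidx : ¬ p ∣ A.index) :
    ∃ L : Subgroup N, A.IsComplement' L ∧ ¬ p ∣ Nat.card L := by
  obtain ⟨k, hk⟩ := IsPGroup.iff_card.mp hA
  obtain ⟨L, hL⟩ := Subgroup.exists_right_complement'_of_coprime (N := A)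
    (hk ▸ (((Fact.out : p.Prime).coprime_iff_not_dvd).mpr hidx).pow_left k)
  refine ⟨L, hL, ?_⟩
  rw [← hL.symm.index_eq_card]
  exact hidx

/-- Subgroups of an abelian Sylow subgroup conjugate in `G` are conjugate in its normaliser. -/
theorem conj_in_normalizer {G : Type*} [Group G] [Finite G] {p : ℕ} [Fact p.Prime] (P : Sylow p G)
    (hab : ∀ a b : G, a ∈ (P : Subgroup G) → b ∈ (P : Subgroup G) → a * b = b * a)
    {B B' : Subgroup G} (hB : B ≤ P) (hB' : B' ≤ P) (g : G)
    (hg : B' = B.map (MulAut.conj g).toMonoidHom) :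
    ∃ x ∈ Subgroup.normalizer ((P : Subgroup G) : Set G), B' = B.map (MulAut.conj x).toMonoidHom := by
  set C := Subgroup.centralizer (B' : Set G)
  have h1 : ((P : Sylow p G) : Subgroup G) ≤ C := fun a ha =>
    Subgroup.mem_centralizer_iff.mpr fun b hb => hab b a (hB' hb) ha
  have h2 : ((g • P : Sylow p G) : Subgroup G) ≤ C := by
    intro a ha
    rw [Sylow.coe_subgroup_smul, Subgroup.mem_pointwise_smul_iff_inv_smul_mem, MulAut.smul_def] at ha
    refine Subgroup.mem_centralizer_iff.mpr fun b hb => ?_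
    rw [hg] at hb
    obtain ⟨b₀, hb₀, rfl⟩ := hb
    have h := congrArg (MulAut.conj g) (hab b₀ _ (hB hb₀) ha)
    rw [map_mul, map_mul, MulAut.apply_inv_self] at h
    exact h
  obtain ⟨c, hc⟩ := MulAction.exists_smul_eq C ((g • P).subtype h2) (P.subtype h1)
  simp_rw [Sylow.smul_subtype, Subgroup.smul_def, smul_smul] at hc
  refine ⟨c * g, Sylow.smul_eq_iff_mem_normalizer.mp (Sylow.subtype_injective hc), ?_⟩
  ext y
  constructor
  · intro hy
    obtain ⟨b, hb, rfl⟩ := hg.le hy
    refine ⟨b, hb, ?_⟩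
    have hc' := Subgroup.mem_centralizer_iff.mp c.2 _ hy
    simp only [MulEquiv.coe_toMonoidHom, MulAut.conj_apply] at hc' ⊢
    calc (c : G) * g * b * ((c : G) * g)⁻¹ = (c : G) * (g * b * g⁻¹) * (c : G)⁻¹ := by group
      _ = g * b * g⁻¹ := by rw [← hc', mul_inv_cancel_right]
  · rintro ⟨b, hb, rfl⟩
    have hy : MulAut.conj g b ∈ B' := hg ▸ ⟨b, hb, rfl⟩
    have hc' := Subgroup.mem_centralizer_iff.mp c.2 _ hy
    simp only [MulEquiv.coe_toMonoidHom, MulAut.conj_apply] at hc' hy ⊢
    rwa [show (c : G) * g * b * ((c : G) * g)⁻¹ = (c : G) * (g * b * g⁻¹) * (c : G)⁻¹ by group,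
      ← hc', mul_inv_cancel_right]


/-- Let p be a prime and G a finite group in which any two p-subgroups of the same order are conjugate, and suppose a Sylow p-subgroup P of G is elementary abelian of order pⁿ with n ≥ 3. Let N be the normalizer of P and K the largest normal subgroup of N of order prime to p, and assume N/K is solvable. Then either n = 3 and N/K embeds in the one-dimensional semi-affine group over the field with p³ elements (and for p = 2 it is isomorphic to the affine or the semi-affine group over the field with 8 elements), or n = 5, p = 2 and N/K is isomorphic to the one-dimensional semi-affine group over the field with 32 elements. -/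
theorem result {G : Type*} [Group G] [Finite G]
    {p : ℕ} [Fact p.Prime] (hC : ∀ H K : Subgroup G, IsPGroup p H → IsPGroup p K → Nat.card H = Nat.card K →
      ∃ g : G, K = H.map (MulAut.conj g).toMonoidHom) (P : Sylow p G) (n : ℕ) (hn : 3 ≤ n)
    (hel : Cfsg.IsElementaryAbelian p (P : Subgroup G)) (hcard : Nat.card P = p ^ n)
    (N : Subgroup G) (hN : N = Subgroup.normalizer ((P : Subgroup G) : Set G))
    (hsolv : Group.IsSolvable (↥N ⧸ Cfsg.pPrimeCore p ↥N)) :
    (n = 3 ∧ (∃ f : ↥N ⧸ Cfsg.pPrimeCore p ↥N →* ↥(Cfsg.semiaffineGroup (GaloisField p 3)), Function.Injective f) ∧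
      (p = 2 → Nonempty (↥N ⧸ Cfsg.pPrimeCore p ↥N ≃* Cfsg.semiaffineGroup (GaloisField 2 3)) ∨
               Nonempty (↥N ⧸ Cfsg.pPrimeCore p ↥N ≃* Cfsg.affineGroup (GaloisField 2 3)))) ∨
    (n = 5 ∧ p = 2 ∧ Nonempty (↥N ⧸ Cfsg.pPrimeCore p ↥N ≃* Cfsg.semiaffineGroup (GaloisField 2 5))) := by
  subst hN
  set N := Subgroup.normalizer ((P : Subgroup G) : Set G)
  set A := (P : Subgroup G).subgroupOf N with hA
  have hPN : (P : Subgroup G) ≤ N := Subgroup.le_normalizer
  haveI : A.Normal := Subgroup.normal_in_normalizer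
  have hab : ∀ a b : G, a ∈ (P : Subgroup G) → b ∈ (P : Subgroup G) → a * b = b * a := fun a b ha hb =>
    congrArg Subtype.val (hel.1.is_comm.comm ⟨a, ha⟩ ⟨b, hb⟩)
  haveI : IsMulCommutative A := ⟨⟨fun a b => Subtype.ext (Subtype.ext (hab _ _ a.2 b.2))⟩⟩
  have hexp : ∀ x : Additive A, p • x = 0 := fun x => Additive.toMul.injective
    (Subtype.ext (Subtype.ext (hel.2 _ (Additive.toMul x : A).2)))
  letI : Module (ZMod p) (Additive A) := AddCommGroup.zmodModule hexp
  have hcardA : Nat.card A = p ^ n :=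
    (Nat.card_congr (Subgroup.subgroupOfEquivOfLe hPN).toEquiv).trans hcard
  have hidx : ¬ p ∣ A.index := fun h =>
    P.not_dvd_index (h.trans (Subgroup.relIndex_dvd_index_of_le hPN))
  obtain ⟨L, hL, hLp⟩ := isComplement_aux A (IsPGroup.of_card hcardA) hidx
  refine Cfsg.Agent.Lib.SemilinearSylow.group_main A L hL hLp n hn hcardA hsolv fun B B' hB hB' hBB' => ?_
  have hle : ∀ D : Subgroup N, D ≤ A → D.map N.subtype ≤ (P : Subgroup G) := by
    rintro D hD _ ⟨d, hd, rfl⟩
    exact hD hd
  have hcd : ∀ D : Subgroup N, Nat.card (D.map N.subtype) = Nat.card D := fun D =>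
    Subgroup.card_map_of_injective N.subtype_injective
  obtain ⟨g, hg⟩ := hC (B.map N.subtype) (B'.map N.subtype) (P.isPGroup'.to_le (hle B hB))
    (P.isPGroup'.to_le (hle B' hB')) (by rw [hcd, hcd, hBB'])
  obtain ⟨x, hx, hxB⟩ := conj_in_normalizer P hab (hle B hB) (hle B' hB') g hg
  refine ⟨⟨x, hx⟩, Subgroup.map_injective N.subtype_injective ?_⟩
  rw [hxB, Subgroup.map_map, Subgroup.map_map]
  congr 1

end Cfsg.Agent.S4025
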