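import Cfsg.Statements.S4034
import Cfsg.Agent.Lib.Coprime.Hall
import Cfsg.Agent.Lib.Cores.Fitting
import Cfsg.Agent.S0143
import Cfsg.Agent.Lib.SylowCounting.ConjClass
import Mathlib.GroupTheory.Nilpotent

set_option autoImplicit false
open Cfsg

namespace Cfsg.Agent.S4034

open scoped Pointwise

universe u

theorem index_centralizer_eq_ncard {G : Type*} [Group G] [Finite G] (x : G) :
    (Subgroup.centralizer ({x} : Set G)).index = (ConjClasses.mk x).carrier.ncard := by
  have h1 := Cfsg.Agent.Lib.SylowCounting.card_conjClass_mul_card_centralizer x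
  have h2 := Subgroup.card_mul_index (Subgroup.centralizer ({x} : Set G))
  have h3 : (ConjClasses.mk x).carrier.ncard = Nat.card {g : G // IsConj x g} := by
    rw [← Nat.card_coe_set_eq]
    refine Nat.card_congr (Equiv.subtypeEquivRight fun g => ?_)
    rw [ConjClasses.mem_carrier_iff_mk_eq, ConjClasses.mk_eq_mk_iff_isConj, isConj_comm]
  rw [h3]
  exact Nat.eq_of_mul_eq_mul_left (Nat.card_pos (α := Subgroup.centralizer ({x} : Set G)))
    (h2.trans (h1.symm.trans (mul_comm _ _)))

/-- All classes of `p`-regular elements have `p`-power size. -/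
def PowClasses (p : ℕ) (G : Type u) [Group G] : Prop :=
  ∀ x : G, (orderOf x).Coprime p → ∃ k, (Subgroup.centralizer ({x} : Set G)).index = p ^ k

/-- There is an abelian `p`-complement. -/
def AbComplement (p : ℕ) (G : Type u) [Group G] : Prop :=
  ∃ H : Subgroup G, IsMulCommutative H ∧ ¬ p ∣ Nat.card H ∧ ∃ k : ℕ, H.index = p ^ k

theorem exists_pow_eq_of_dvd {p : ℕ} (hp : p.Prime) {a : ℕ} {k : ℕ} (h : a ∣ p ^ k) : ∃ j, a = p ^ j := by
  obtain ⟨j, -, hj⟩ := (Nat.dvd_prime_pow hp).mp h
  exact ⟨j, hj⟩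

/-- `[N : N ∩ H] = [N H : H]` divides `[G : H]`. -/
theorem relIndex_dvd_index {G : Type*} [Group G] [Finite G] (H N : Subgroup G) [N.Normal] :
    H.relIndex N ∣ H.index := by
  have h1 := Cfsg.Agent.Lib.Cores.card_sup_mul_card_inf H N
  have h2 := Subgroup.relIndex_mul_index (le_sup_left : H ≤ H ⊔ N)
  refine ⟨(H ⊔ N).index, ?_⟩
  have h3 : Nat.card (H.subgroupOf N) * H.relIndex N = Nat.card N := Subgroup.card_mul_index _
  have h4 : Nat.card (H.subgroupOf (H ⊔ N)) * H.relIndex (H ⊔ N) = Nat.card ↥(H ⊔ N) := Subgroup.card_mul_index _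
  rw [Nat.card_congr (Subgroup.subgroupOfEquivOfLe (le_sup_left : H ≤ H ⊔ N)).toEquiv] at h4
  rw [← Subgroup.inf_subgroupOf_right, Nat.card_congr (Subgroup.subgroupOfEquivOfLe (inf_le_right : H ⊓ N ≤ N)).toEquiv] at h3
  rw [← h4, ← h3] at h1
  have h5 : H.relIndex (H ⊔ N) = H.relIndex N := by
    have hpos : 0 < Nat.card H * Nat.card ↥(H ⊓ N) := Nat.mul_pos Nat.card_pos Nat.card_pos
    refine Nat.eq_of_mul_eq_mul_left hpos ?_
    linarith
  rw [← h5]
  exact h2.symm

theorem abComplement_subgroup {p : ℕ} (hp : p.Prime) {G : Type u} [Group G] [Finite G]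
    (h : AbComplement p G) (N : Subgroup G) [N.Normal] : AbComplement p N := by
  obtain ⟨H, hab, hcard, k, hk⟩ := h
  refine ⟨H.subgroupOf N, ⟨⟨fun a b => ?_⟩⟩, fun hd => hcard (hd.trans ?_), exists_pow_eq_of_dvd hp (hk ▸ relIndex_dvd_index H N)⟩
  · exact Subtype.ext (Subtype.ext (congrArg Subtype.val (hab.is_comm.comm ⟨(a : N), a.2⟩ ⟨(b : N), b.2⟩) :))
  · rw [← Subgroup.inf_subgroupOf_right, Nat.card_congr (Subgroup.subgroupOfEquivOfLe (inf_le_right : H ⊓ N ≤ N)).toEquiv]
    exact Subgroup.card_dvd_of_le inf_le_left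

theorem abComplement_quotient {p : ℕ} (hp : p.Prime) {G : Type u} [Group G] [Finite G]
    (h : AbComplement p G) (N : Subgroup G) [N.Normal] : AbComplement p (G ⧸ N) := by
  obtain ⟨H, hab, hcard, k, hk⟩ := h
  refine ⟨H.map (QuotientGroup.mk' N), ⟨⟨?_⟩⟩, fun hd => hcard (hd.trans (Subgroup.card_map_dvd _ _)),
    exists_pow_eq_of_dvd hp (hk ▸ Subgroup.index_map_dvd _ (QuotientGroup.mk'_surjective N))⟩
  rintro ⟨_, a, ha, rfl⟩ ⟨_, b, hb, rfl⟩
  refine Subtype.ext ?_
  show QuotientGroup.mk' N a * QuotientGroup.mk' N b = QuotientGroup.mk' N b * QuotientGroup.mk' N a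
  rw [← map_mul, ← map_mul]
  exact congrArg _ (congrArg Subtype.val (hab.is_comm.comm ⟨a, ha⟩ ⟨b, hb⟩))

theorem powClasses_subgroup {p : ℕ} (hp : p.Prime) {G : Type u} [Group G] [Finite G]
    (h : PowClasses p G) (N : Subgroup G) [N.Normal] : PowClasses p N := by
  intro x hx
  obtain ⟨k, hk⟩ := h (x : G) (by rwa [Subgroup.orderOf_coe])
  refine exists_pow_eq_of_dvd hp (k := k) ?_
  rw [← hk]
  have e : Subgroup.centralizer ({x} : Set N) = (Subgroup.centralizer ({(x : G)} : Set G)).subgroupOf N := by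
    ext w
    simp [Subgroup.mem_subgroupOf, Subgroup.mem_centralizer_singleton_iff, Subtype.ext_iff]
  rw [e]
  exact relIndex_dvd_index _ N

theorem exists_coprime_lift {p : ℕ} (hp : p.Prime) {G : Type u} [Group G] [Finite G] (N : Subgroup G)
    [N.Normal] {y : G ⧸ N} (hy : (orderOf y).Coprime p) :
    ∃ u : G, (orderOf u).Coprime p ∧ QuotientGroup.mk' N u = y := by
  obtain ⟨w, rfl⟩ := QuotientGroup.mk'_surjective N y
  set e := p ^ (orderOf w).factorization p
  set m := orderOf w / p ^ (orderOf w).factorization p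
  have hm : e * m = orderOf w := Nat.ordProj_mul_ordCompl_eq_self _ _
  obtain ⟨j, hj⟩ := exists_pow_eq_self_of_coprime (x := QuotientGroup.mk' N w) (n := e)
    (hy.symm.pow_left _)
  refine ⟨(w ^ e) ^ j, ?_, by rw [map_pow, map_pow, hj]⟩
  refine Nat.Coprime.coprime_dvd_left (k := m) ?_ (Nat.coprime_ordCompl hp (orderOf_pos w).ne').symm
  refine (orderOf_pow_dvd j).trans (orderOf_dvd_of_pow_eq_one ?_)
  rw [← pow_mul, hm, pow_orderOf_eq_one]

theorem powClasses_quotient {p : ℕ} (hp : p.Prime) {G : Type u} [Group G] [Finite G]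
    (h : PowClasses p G) (N : Subgroup G) [N.Normal] : PowClasses p (G ⧸ N) := by
  intro y hy
  obtain ⟨u, hu, rfl⟩ := exists_coprime_lift hp N hy
  obtain ⟨k, hk⟩ := h u hu
  refine exists_pow_eq_of_dvd hp (k := k) ?_
  rw [← hk]
  refine (Subgroup.index_dvd_of_le ?_).trans (Subgroup.index_map_dvd _ (QuotientGroup.mk'_surjective N))
  rintro _ ⟨g, hg, rfl⟩
  rw [Subgroup.mem_centralizer_singleton_iff, ← map_mul, ← map_mul, Subgroup.mem_centralizer_singleton_iff.mp hg]

theorem isPGroup_of_no_regular {p : ℕ} (hp : p.Prime) {G : Type u} [Group G] [Finite G]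
    (h : ∀ x : G, (orderOf x).Coprime p → x = 1) : IsPGroup p G := by
  haveI := Fact.mk hp
  refine IsPGroup.of_card (n := (Nat.card G).factorization p) ?_
  refine Nat.eq_of_factorization_eq Nat.card_pos.ne' (pow_ne_zero _ hp.ne_zero) fun r => ?_
  rw [hp.factorization_pow]
  by_cases hrp : r = p
  · subst hrp; rw [Finsupp.single_eq_same]
  rw [Finsupp.single_eq_of_ne hrp]
  by_cases hr : r.Prime
  · refine Nat.factorization_eq_zero_of_not_dvd fun hd => ?_
    haveI := Fact.mk hr
    obtain ⟨g, hg⟩ := exists_prime_orderOf_dvd_card' (G := G) r hd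
    have := h g (hg ▸ (Nat.coprime_primes hr hp).mpr hrp)
    rw [this, orderOf_one] at hg
    exact hr.one_lt.ne hg
  · exact Nat.factorization_eq_zero_of_not_prime _ hr

theorem isSolvable_aux {p : ℕ} (hp : p.Prime) : ∀ n : ℕ, ∀ (G : Type u) [Group G] [Finite G],
    Nat.card G ≤ n → (PowClasses p G ∨ AbComplement p G) → Group.IsSolvable G := by
  intro n
  induction n with
  | zero => intro G _ _ h; have := Nat.card_pos (α := G); omega
  | succ n ih =>
    intro G _ _ hcard h
    haveI := Fact.mk hp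
    by_cases hsim : ∃ N : Subgroup G, N.Normal ∧ N ≠ ⊥ ∧ N ≠ ⊤
    · obtain ⟨N, hN, hN0, hN1⟩ := hsim
      have h1 := Subgroup.card_eq_card_quotient_mul_card_subgroup N
      have h2 : 1 < Nat.card N := Finite.one_lt_card_iff_nontrivial.mpr ((Subgroup.nontrivial_iff_ne_bot N).mpr hN0)
      have h3 : 1 < Nat.card (G ⧸ N) := by
        rw [← Subgroup.index_eq_card]
        have := Subgroup.index_ne_zero_of_finite (H := N)
        have : N.index ≠ 1 := fun h => hN1 (Subgroup.index_eq_one.mp h)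
        omega
      haveI hs1 : Group.IsSolvable N := ih N (by nlinarith)
        (h.imp (fun h => powClasses_subgroup hp h N) (fun h => abComplement_subgroup hp h N))
      haveI hs2 : Group.IsSolvable (G ⧸ N) := ih (G ⧸ N) (by nlinarith)
        (h.imp (fun h => powClasses_quotient hp h N) (fun h => abComplement_quotient hp h N))
      exact Group.isSolvable_of_ker_le_range N.subtype (QuotientGroup.mk' N)
        (by rw [QuotientGroup.ker_mk', Subgroup.range_subtype])
    · push Not at hsim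
      by_cases hsub : Subsingleton G
      · infer_instance
      haveI : Nontrivial G := not_subsingleton_iff_nontrivial.mp hsub
      haveI : IsSimpleGroup G := ⟨fun N hN => or_iff_not_imp_left.mpr (hsim N hN)⟩
      by_cases hP : IsPGroup p G
      · haveI := hP.isNilpotent
        infer_instance
      obtain ⟨g, k, hg, hk⟩ : ∃ (g : G) (k : ℕ), g ≠ 1 ∧ (Subgroup.centralizer ({g} : Set G)).index = p ^ k := by
        rcases h with h | ⟨H, hab, hcard', k, hk⟩
        · obtain ⟨g, hg, hg1⟩ : ∃ g : G, (orderOf g).Coprime p ∧ g ≠ 1 := by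
            by_contra hc
            push Not at hc
            exact hP (isPGroup_of_no_regular hp hc)
          exact ⟨g, (h g hg).choose, hg1, (h g hg).choose_spec⟩
        · rcases H.bot_or_exists_ne_one with rfl | ⟨g, hg, hg1⟩
          · rw [Subgroup.index_bot] at hk
            exact absurd (IsPGroup.of_card hk) hP
          · have hle : H ≤ Subgroup.centralizer ({g} : Set G) := fun w hw =>
              Subgroup.mem_centralizer_singleton_iff.mpr (congrArg Subtype.val (hab.is_comm.comm ⟨w, hw⟩ ⟨g, hg⟩))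
            obtain ⟨j, hj⟩ := exists_pow_eq_of_dvd hp (hk ▸ Subgroup.index_dvd_of_le hle)
            exact ⟨g, j, hg1, hj⟩
      have hprime := Cfsg.Agent.S0143.result p k hp g hg hk
      haveI := Fact.mk hprime
      haveI := isCyclic_of_prime_card (p := Nat.card G) (α := G) rfl
      letI := IsCyclic.commGroup (α := G)
      infer_instance

/-- A `p'`-element normalizing a `p`-complement lies in it. -/
theorem mem_of_normalizes {p : ℕ} (hp : p.Prime) {G : Type u} [Group G] [Finite G] {H : Subgroup G} {k : ℕ}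
    (hk : H.index = p ^ k) {a : G} (ha : a ∈ Subgroup.normalizer (H : Set G)) (hap : (orderOf a).Coprime p) :
    a ∈ H := by
  set M := Subgroup.normalizer (H : Set G)
  haveI : (H.subgroupOf M).Normal := Subgroup.normal_in_normalizer
  have h1 : orderOf (QuotientGroup.mk ⟨a, ha⟩ : M ⧸ H.subgroupOf M) ∣ orderOf a := by
    rw [← Subgroup.orderOf_mk a ha]
    exact orderOf_map_dvd (QuotientGroup.mk' (H.subgroupOf M)) _
  have h2 : orderOf (QuotientGroup.mk ⟨a, ha⟩ : M ⧸ H.subgroupOf M) ∣ p ^ k := by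
    refine (orderOf_dvd_natCard _).trans (hk ▸ ?_)
    rw [← Subgroup.index_eq_card]
    exact Subgroup.relIndex_dvd_index_of_le Subgroup.le_normalizer
  have h3 := Nat.eq_one_of_dvd_coprimes (hap.pow_right k) h1 h2
  exact (QuotientGroup.eq_one_iff (⟨a, ha⟩ : M)).mp (orderOf_eq_one_iff.mp h3)

theorem le_of_normal {p : ℕ} (hp : p.Prime) {G : Type u} [Group G] [Finite G] {H N : Subgroup G} [N.Normal]
    {k : ℕ} (hk : H.index = p ^ k) (hN : (Nat.card N).Coprime p) : N ≤ H := by
  refine Subgroup.relIndex_eq_one.mp ?_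
  refine Nat.eq_one_of_dvd_coprimes (hN.pow_right k) ?_ (hk ▸ relIndex_dvd_index H N)
  exact Subgroup.index_dvd_card _

theorem commute_of_core_eq_bot {p : ℕ} (hp : p.Prime) {G : Type u} [Group G] [Finite G]
    (h : PowClasses p G) (hsol : Group.IsSolvable G) (hcore : Cfsg.pCore p G = ⊥) {H : Subgroup G}
    (hH : ¬ p ∣ Nat.card H) {k : ℕ} (hk : H.index = p ^ k) : IsMulCommutative H := by
  haveI := Fact.mk hp
  haveI := hsol
  set F := Cfsg.fittingSubgroup G
  have hF : (Nat.card F).Coprime p := by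
    have h1 := Cfsg.Agent.Lib.Cores.fittingSubgroup_le_pCore_sup_pPrimeCore (G := G) p
    rw [hcore, bot_sup_eq] at h1
    exact (Cfsg.Agent.Lib.Cores.pPrimeCore_coprime p G).coprime_dvd_left (Subgroup.card_dvd_of_le h1)
  haveI hFn : F.Normal := inferInstance
  have hHcop : (Nat.card H).Coprime p := (hp.coprime_iff_not_dvd.mpr hH).symm
  have key : ∀ x ∈ H, x ∈ F ∧ ∃ L : Subgroup G, Nat.card L = Nat.card H ∧ L ≤ Subgroup.centralizer ({x} : Set G) ∧ F ≤ L := by
    intro x hx
    have hxp : (orderOf x).Coprime p := hHcop.coprime_dvd_left (Subgroup.orderOf_dvd_natCard H hx)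
    obtain ⟨j, hj⟩ := h x hxp
    set C := Subgroup.centralizer ({x} : Set G)
    have hG : Nat.card C * p ^ j = Nat.card H * p ^ k := by
      rw [← hk, ← hj, Subgroup.card_mul_index, Subgroup.card_mul_index]
    have hd : Nat.card H ∣ Nat.card C :=
      (hHcop.pow_right j).dvd_of_dvd_mul_right (hG ▸ dvd_mul_right _ _)
    obtain ⟨c, hc⟩ := hd
    have hcp : c * p ^ j = p ^ k := by
      rw [hc, mul_assoc] at hG
      exact Nat.eq_of_mul_eq_mul_left Nat.card_pos hG
    obtain ⟨i, rfl⟩ := exists_pow_eq_of_dvd hp (Dvd.intro _ hcp)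
    obtain ⟨L0, hL0⟩ := Cfsg.Agent.Lib.Coprime.exists_subgroup_card_eq_of_solvable (G := C) hc (hHcop.pow_right i)
    set L := L0.map C.subtype
    have hLcard : Nat.card L = Nat.card H := by rw [Subgroup.card_subtype, hL0]
    have hLC : L ≤ C := Subgroup.map_subtype_le _
    have hLidx : L.index = p ^ k := by
      have h1 := Subgroup.card_mul_index L
      rw [hLcard, ← Subgroup.card_mul_index H, hk] at h1
      exact Nat.eq_of_mul_eq_mul_left Nat.card_pos h1
    have hFL : F ≤ L := le_of_normal hp hLidx hF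
    refine ⟨Cfsg.Agent.Lib.Cores.centralizer_fittingSubgroup_le hsol ?_, L, hLcard, hLC, hFL⟩
    rw [Subgroup.mem_centralizer_iff]
    exact fun f hf => Subgroup.mem_centralizer_singleton_iff.mp (hLC (hFL hf))
  have hFH : F = H := le_antisymm (le_of_normal hp hk hF) fun x hx => (key x hx).1
  refine ⟨⟨fun a b => Subtype.ext ?_⟩⟩
  obtain ⟨-, L, hL, hLC, hFL⟩ := key a a.2
  have hLH : L = H := (hFH ▸ Subgroup.eq_of_le_of_card_ge hFL (by rw [hL, hFH])).symm
  exact (Subgroup.mem_centralizer_singleton_iff.mp (hLC (hLH.symm ▸ b.2))).symm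

/-- Let G be a finite group and p a prime. Every conjugacy class of p-regular elements of G (elements of order prime to p) has p-power size if and only if G has an abelian p-complement, i.e. an abelian subgroup of order prime to p and p-power index. -/
theorem result {G : Type*} [Group G] [Finite G] {p : ℕ} (hp : p.Prime) :
    (∀ x : G, (orderOf x).Coprime p → ∃ k : ℕ, (ConjClasses.mk x).carrier.ncard = p ^ k) ↔
    (∃ H : Subgroup G, IsMulCommutative H ∧ ¬ p ∣ Nat.card H ∧ ∃ k : ℕ, H.index = p ^ k) := by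
  haveI := Fact.mk hp
  constructor
  · intro h
    have hpc : PowClasses p G := fun x hx => by
      obtain ⟨k, hk⟩ := h x hx
      exact ⟨k, by rw [index_centralizer_eq_ncard, hk]⟩
    haveI hsol := isSolvable_aux hp _ G le_rfl (Or.inl hpc)
    obtain ⟨H, hH1, hH2⟩ := Cfsg.Agent.Lib.Coprime.exists_hall_of_solvable (G := G) (fun r => r ≠ p)
    have hHp : ¬ p ∣ Nat.card H := fun hd => hH1 p hp hd rfl
    obtain ⟨k, hk⟩ : ∃ k, H.index = p ^ k := ⟨_, Nat.eq_prime_pow_of_unique_prime_dvd Subgroup.index_ne_zero_of_finite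
      fun {d} hd hdd => by_contra fun hne => hH2 d hd hdd hne⟩
    refine ⟨H, ?_, hHp, k, hk⟩
    set K := Cfsg.pCore p G
    set π := QuotientGroup.mk' K
    have hidx : (H.map π).index ∣ p ^ k := hk ▸ Subgroup.index_map_dvd _ (QuotientGroup.mk'_surjective K)
    obtain ⟨j, -, hj⟩ := (Nat.dvd_prime_pow hp).mp hidx
    have hab := commute_of_core_eq_bot hp (powClasses_quotient hp hpc K)
      (Group.isSolvable_of_surjective (QuotientGroup.mk'_surjective K))
      (Cfsg.Agent.Lib.Cores.pCore_quotient_pCore p G)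
      (fun hd => hHp (hd.trans (Subgroup.card_map_dvd _ _))) hj
    refine ⟨⟨fun a b => Subtype.ext ?_⟩⟩
    have h1 := congrArg Subtype.val (hab.is_comm.comm ⟨π a, Subgroup.mem_map_of_mem _ a.2⟩ ⟨π b, Subgroup.mem_map_of_mem _ b.2⟩)
    have h2 : ((a : G) * b)⁻¹ * ((b : G) * a) ∈ K := QuotientGroup.eq.mp (by simpa [π] using h1)
    obtain ⟨i, hi⟩ := IsPGroup.iff_orderOf.mp (Cfsg.Agent.Lib.Cores.pCore_isPGroup p G) ⟨_, h2⟩
    rw [Subgroup.orderOf_mk] at hi
    refine inv_mul_eq_one.mp (orderOf_eq_one_iff.mp ?_)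
    refine Nat.eq_one_of_dvd_coprimes (((hp.coprime_iff_not_dvd.mpr hHp).symm).pow_right i) ?_ (hi ▸ dvd_rfl)
    exact Subgroup.orderOf_dvd_natCard H (mul_mem (inv_mem (mul_mem a.2 b.2)) (mul_mem b.2 a.2))
  · intro h x hx
    haveI hsol := isSolvable_aux hp _ G le_rfl (Or.inr h)
    obtain ⟨H, hab, hHp, k, hk⟩ := h
    obtain ⟨g, hg⟩ := Cfsg.Agent.Lib.Coprime.exists_le_conj_of_solvable (H := H) (K := Subgroup.zpowers x)
      (by rw [hk]; exact (hp.coprime_iff_not_dvd.mpr hHp).symm.pow_right k)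
      (by rw [Nat.card_zpowers, hk]; exact hx.pow_right k)
    have hxg := Cfsg.Agent.Lib.Coprime.mem_conj_smul.mp (hg (Subgroup.mem_zpowers x))
    have hle : MulAut.conj g • H ≤ Subgroup.centralizer ({x} : Set G) := by
      intro w hw
      have h1 := congrArg Subtype.val (hab.is_comm.comm ⟨_, Cfsg.Agent.Lib.Coprime.mem_conj_smul.mp hw⟩ ⟨_, hxg⟩)
      rw [Subgroup.mem_centralizer_singleton_iff]
      have h2 := congrArg (fun v => g * v * g⁻¹) h1
      simpa [mul_assoc] using h2
    have hidx : (MulAut.conj g • H).index = p ^ k := by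
      have h1 := Subgroup.card_mul_index (MulAut.conj g • H)
      rw [Cfsg.Agent.Lib.Coprime.card_conj_smul, ← Subgroup.card_mul_index H, hk] at h1
      exact Nat.eq_of_mul_eq_mul_left Nat.card_pos h1
    obtain ⟨j, hj⟩ := exists_pow_eq_of_dvd hp (hidx ▸ Subgroup.index_dvd_of_le hle)
    exact ⟨j, by rw [← index_centralizer_eq_ncard, hj]⟩

end Cfsg.Agent.S4034
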