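import Cfsg.Statements.S4027
import Cfsg.Agent.Lib.Involutions.BaerSuzuki
import Cfsg.Agent.Lib.Coprime.SchurZassenhaus
import Cfsg.Agent.S4034

set_option autoImplicit false
open Cfsg

namespace Cfsg.Agent.S4027

open Cfsg.Agent.Lib
open scoped Pointwise

/-- No nontrivial element of odd order is inverted: the Sylow `2`-subgroup is normal. -/
theorem sylow_two_normal {G : Type*} [Group G] [Finite G]
    (hno : ∀ x n : G, ¬ 2 ∣ orderOf x → x ≠ 1 → n * x * n⁻¹ ≠ x⁻¹) (P : Sylow 2 G) :
    (P : Subgroup G).Normal := by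
  haveI := Fact.mk Nat.prime_two
  set N := Cfsg.pCore 2 G with hN
  have hNp : IsPGroup 2 N := Cores.pCore_isPGroup 2 G
  by_cases heven : 2 ∣ Nat.card (G ⧸ N)
  · exfalso
    obtain ⟨t, ht⟩ := exists_prime_orderOf_dvd_card' (G := G ⧸ N) 2 heven
    have htt : t * t = 1 := by
      have h := pow_orderOf_eq_one t
      rwa [ht, sq] at h
    set X := Subgroup.zpowers t
    have hXc : Nat.card X = 2 := by rw [Nat.card_zpowers, ht]
    obtain ⟨g, hg⟩ : ∃ g : G ⧸ N, ¬ IsPGroup 2 ↥(X ⊔ X.map (MulAut.conj g).toMonoidHom) := by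
      by_contra hall
      push Not at hall
      obtain ⟨N', hN'n, hN'p, hXN⟩ :=
        Involutions.baer_suzuki X (IsPGroup.of_card (n := 1) (by rw [hXc, pow_one])) hall
      have h1 : N' ≤ Cfsg.pCore 2 (G ⧸ N) := le_sSup ⟨hN'n, hN'p⟩
      rw [show Cfsg.pCore 2 (G ⧸ N) = ⊥ from Cores.pCore_quotient_pCore 2 G, le_bot_iff] at h1
      have h2 : t ∈ N' := hXN (Subgroup.mem_zpowers t)
      rw [h1, Subgroup.mem_bot] at h2
      rw [h2, orderOf_one] at ht
      exact absurd ht (by norm_num)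
    set s := g * t * g⁻¹ with hs
    have hss : s * s = 1 := by
      rw [hs, show g * t * g⁻¹ * (g * t * g⁻¹) = g * (t * t) * g⁻¹ by group, htt, mul_one,
        mul_inv_cancel]
    set c := t * s with hc
    have hti : t⁻¹ = t := inv_eq_of_mul_eq_one_right htt
    have hsi : s⁻¹ = s := inv_eq_of_mul_eq_one_right hss
    have hinv : t * c * t⁻¹ = c⁻¹ := by
      rw [hc, mul_inv_rev, hti, hsi, ← mul_assoc, htt, one_mul]
    have hnorm : X ≤ Subgroup.normalizer ((Subgroup.zpowers c : Subgroup (G ⧸ N)) : Set (G ⧸ N)) := by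
      rw [Subgroup.zpowers_le, Cfsg.Agent.Lib.Involutions.mem_normalizer_iff_map_conj]
      rw [MonoidHom.map_zpowers]
      show Subgroup.zpowers (t * c * t⁻¹) = _
      rw [hinv, Subgroup.zpowers_inv]
    have hle : X ⊔ X.map (MulAut.conj g).toMonoidHom ≤ Subgroup.zpowers c ⊔ X := by
      refine sup_le le_sup_right ?_
      rw [MonoidHom.map_zpowers, Subgroup.zpowers_le]
      show s ∈ _
      have : s = t * c := by rw [hc, ← mul_assoc, htt, one_mul]
      rw [this]
      exact mul_mem (Subgroup.mem_sup_right (Subgroup.mem_zpowers t))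
        (Subgroup.mem_sup_left (Subgroup.mem_zpowers c))
    obtain ⟨r, hr, hrd, hr2⟩ : ∃ r : ℕ, r.Prime ∧ r ∣ orderOf c ∧ r ≠ 2 := by
      by_contra hall
      push Not at hall
      obtain ⟨k, hk⟩ : ∃ k, orderOf c = 2 ^ k :=
        ⟨_, Nat.eq_prime_pow_of_unique_prime_dvd (orderOf_pos c).ne' fun {d} hd hdd => hall d hd hdd⟩
      have h1 := Coprime.card_sup_mul_card_inf hnorm
      rw [Nat.card_zpowers, hk, hXc, ← pow_succ] at h1
      obtain ⟨j, -, hj⟩ := (Nat.dvd_prime_pow Nat.prime_two).mp (Dvd.intro _ h1)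
      exact hg ((IsPGroup.of_card hj).to_le hle)
    set y := c ^ (orderOf c / r) with hy
    have hyr : orderOf y = r := orderOf_pow_orderOf_div (orderOf_pos c).ne' hrd
    have hyinv : t * y * t⁻¹ = y⁻¹ := by rw [hy, ← conj_pow, hinv, inv_pow]
    obtain ⟨u, hu, huy⟩ := Cfsg.Agent.S4034.exists_coprime_lift Nat.prime_two N
      (y := y) (by rw [hyr]; exact (Nat.coprime_primes hr Nat.prime_two).mpr hr2)
    have hNu : ∀ w ∈ Subgroup.zpowers u, w ∈ N → w = 1 := by
      intro w hw hwN
      refine orderOf_eq_one_iff.mp (Nat.eq_one_of_dvd_coprimes (a := Nat.card N) (b := orderOf u)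
        ?_ (Subgroup.orderOf_dvd_natCard N hwN) ?_)
      · obtain ⟨k, hk⟩ := IsPGroup.iff_card.mp hNp
        rw [hk]
        exact hu.symm.pow_left k
      · rw [← Nat.card_zpowers u]
        exact Subgroup.orderOf_dvd_natCard _ hw
    obtain ⟨n, hn⟩ := QuotientGroup.mk'_surjective N t
    set K := MulAut.conj n • Subgroup.zpowers u
    have hK : K ≤ N ⊔ Subgroup.zpowers u := by
      intro w hw
      rw [Coprime.mem_conj_smul] at hw
      obtain ⟨k, hk⟩ := Subgroup.mem_zpowers_iff.mp hw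
      have hcomap : w ∈ ((Subgroup.zpowers u).map (QuotientGroup.mk' N)).comap (QuotientGroup.mk' N) := by
        rw [Subgroup.mem_comap, MonoidHom.map_zpowers, huy]
        have h1 : w = n * u ^ k * n⁻¹ := by rw [hk]; group
        refine ⟨-k, ?_⟩
        show y ^ (-k) = _
        rw [h1, map_mul, map_mul, map_zpow, map_inv, hn, huy, ← conj_zpow, hyinv, inv_zpow, zpow_neg]
      rwa [Subgroup.comap_map_eq, QuotientGroup.ker_mk', sup_comm] at hcomap
    haveI : IsCyclic (Subgroup.zpowers u) := Subgroup.isCyclic_zpowers u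
    obtain ⟨m, hm, hmK⟩ := Coprime.exists_conj_eq_of_le_sup (H := Subgroup.zpowers u) (K := K)
      Subgroup.le_normalizer_of_normal
      (by
        obtain ⟨k, hk⟩ := IsPGroup.iff_card.mp hNp
        rw [hk, Nat.card_zpowers]
        exact hu.symm.pow_left k)
      (Or.inr (Group.isSolvable_of_comm fun a b => IsCyclic.isMulCommutative.is_comm.comm a b))
      (Coprime.card_conj_smul _ _) hK
    set n' := m⁻¹ * n with hn'
    have hmn : n' * u * n'⁻¹ ∈ Subgroup.zpowers u := by
      have h1 : n * u * n⁻¹ ∈ K := Coprime.mem_conj_smul.mpr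
        (by simp [mul_assoc, Subgroup.mem_zpowers])
      rw [← hmK, Coprime.mem_conj_smul] at h1
      simpa [hn', mul_assoc] using h1
    have hm1 : QuotientGroup.mk' N m = 1 := (QuotientGroup.eq_one_iff m).mpr hm
    refine hno u n' (fun h2 => ?_) (fun h1 => ?_) (mul_inv_eq_one.mp ?_)
    · exact absurd (Nat.eq_one_of_dvd_coprimes hu h2 dvd_rfl) (by norm_num)
    · rw [h1, map_one] at huy
      rw [← huy, orderOf_one] at hyr
      exact hr.ne_one hyr.symm
    · rw [inv_inv]
      refine hNu _ (mul_mem hmn (Subgroup.mem_zpowers u)) ?_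
      rw [← QuotientGroup.eq_one_iff]
      show QuotientGroup.mk' N _ = 1
      rw [hn']
      simp only [map_mul, map_inv, hm1, hn, huy, inv_one, one_mul, hyinv, inv_mul_cancel]
  · have hPN : (P : Subgroup G) ≤ N := by
      intro x hx
      rw [← QuotientGroup.eq_one_iff]
      obtain ⟨k, hk⟩ := IsPGroup.iff_orderOf.mp P.isPGroup' ⟨x, hx⟩
      rw [Subgroup.orderOf_mk] at hk
      refine orderOf_eq_one_iff.mp (Nat.eq_one_of_dvd_coprimes
        (((Nat.Prime.coprime_iff_not_dvd Nat.prime_two).mpr heven).pow_left k)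
        (hk ▸ orderOf_map_dvd (QuotientGroup.mk' N) x) (orderOf_dvd_natCard _))
    rw [← P.is_maximal' hNp hPN]
    infer_instance

/-- Let G be a finite group in which every element x of odd order satisfies N_G(⟨x⟩) = C_G(x). Then the Sylow 2-subgroups of G are normal. -/
theorem result {G : Type*} [Group G] [Finite G]
    (hirr : ∀ x : G, (∀ r : ℕ, r.Prime → r ∣ orderOf x → r ≠ 2) →
      Subgroup.normalizer ((Subgroup.zpowers x : Subgroup G) : Set G) ≤ Subgroup.centralizer {x}) (P : Sylow 2 G) :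
    (P : Subgroup G).Normal := by
  refine sylow_two_normal (fun x n hx hx1 h => ?_) P
  have hmem : n ∈ Subgroup.normalizer ((Subgroup.zpowers x : Subgroup G) : Set G) := by
    rw [Cfsg.Agent.Lib.Involutions.mem_normalizer_iff_map_conj, MonoidHom.map_zpowers]
    show Subgroup.zpowers (n * x * n⁻¹) = _
    rw [h, Subgroup.zpowers_inv]
  have hc := hirr x (fun r hr hd h2 => hx (h2 ▸ hd)) hmem
  rw [Subgroup.mem_centralizer_singleton_iff] at hc
  rw [hc, mul_inv_cancel_right] at h
  have h2 : orderOf x ∣ 2 := orderOf_dvd_of_pow_eq_one (by rw [sq]; exact mul_eq_one_iff_eq_inv.mpr h)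
  rcases (Nat.dvd_prime Nat.prime_two).mp h2 with h3 | h3
  · exact hx1 (orderOf_eq_one_iff.mp h3)
  · exact hx (h3 ▸ dvd_rfl)

end Cfsg.Agent.S4027
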