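import Cfsg.Statements.S4028
import Mathlib.GroupTheory.Sylow
import Mathlib.GroupTheory.SpecificGroups.Cyclic

set_option autoImplicit false
open Cfsg

namespace Cfsg.Agent.S4028

/-- Let G be a finite group with Sylow 2-subgroup P. Then N_G(⟨x⟩) = C_G(x) holds for every 2-element x of G if and only if N_P(⟨y⟩) = C_P(y) holds for every y ∈ P (computed inside P). -/
theorem result {G : Type*} [Group G] [Finite G] (P : Sylow 2 G) :
    (∀ x : G, (∀ r : ℕ, r.Prime → r ∣ orderOf x → r = 2) →
      Subgroup.normalizer ((Subgroup.zpowers x : Subgroup G) : Set G) ≤ Subgroup.centralizer {x}) ↔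
    (∀ y : ↥(P : Subgroup G), Subgroup.normalizer ((Subgroup.zpowers y : Subgroup ↥(P : Subgroup G)) : Set ↥(P : Subgroup G)) ≤
        Subgroup.centralizer {y}) := by
  haveI : Fact (Nat.Prime 2) := ⟨Nat.prime_two⟩
  have h2pow : ∀ x : G, (∃ k, orderOf x = 2 ^ k) → ∀ r : ℕ, r.Prime → r ∣ orderOf x → r = 2 := by
    rintro x ⟨k, hk⟩ r hr hd
    exact (Nat.prime_dvd_prime_iff_eq hr Nat.prime_two).mp (hr.dvd_of_dvd_pow (hk ▸ hd))
  have hnorm : ∀ {A : Type _} [Group A] [Finite A] (g y : A),
      g ∈ Subgroup.normalizer ((Subgroup.zpowers y : Subgroup A) : Set A) ↔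
        g * y * g⁻¹ ∈ Subgroup.zpowers y := by
    intro A _ _ g y
    constructor
    · exact fun h => (Subgroup.mem_normalizer_iff.mp h y).mp (Subgroup.mem_zpowers y)
    · intro h
      have hmap : (Subgroup.zpowers y).map (MulAut.conj g).toMonoidHom ≤ Subgroup.zpowers y := by
        rw [MonoidHom.map_zpowers, Subgroup.zpowers_le]; simpa using h
      have heq := Subgroup.eq_of_le_of_card_ge hmap
        (le_of_eq (Nat.card_congr ((Subgroup.zpowers y).equivMapOfInjective _
          (MulAut.conj g).injective).toEquiv))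
      rw [Subgroup.mem_normalizer_iff]
      intro z
      conv_rhs => rw [← heq]
      simp only [Subgroup.mem_map, MulEquiv.coe_toMonoidHom, MulAut.conj_apply,
        mul_left_inj, mul_right_inj, exists_eq_right]
  constructor
  · intro h y g hg
    obtain ⟨k, hk⟩ := (IsPGroup.iff_orderOf.mp P.isPGroup') y
    have hy := h (y : G) (h2pow _ ⟨k, by rw [Subgroup.orderOf_coe]; exact hk⟩)
    have hgG : (g : G) ∈ Subgroup.centralizer {(y : G)} := by
      refine hy ((hnorm _ _).mpr ?_)
      obtain ⟨z, hz⟩ := Subgroup.mem_zpowers_iff.mp ((hnorm _ _).mp hg)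
      exact Subgroup.mem_zpowers_iff.mpr ⟨z, by simpa using congrArg Subtype.val hz⟩
    rw [Subgroup.mem_centralizer_singleton_iff] at hgG ⊢
    exact Subtype.ext (by simpa using hgG)
  · intro h x hx g hg
    obtain ⟨k, hk⟩ : ∃ k, orderOf x = 2 ^ k :=
      ⟨_, Nat.eq_prime_pow_of_unique_prime_dvd (orderOf_pos x).ne' fun {d} hd hdd => hx d hd hdd⟩
    -- the automorphism induced by `g` on `⟨x⟩` has 2-power order
    rw [hnorm] at hg
    obtain ⟨j, hj⟩ := (mem_powers_iff_mem_zpowers.mpr hg)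
    have hj' : x ^ j = g * x * g⁻¹ := hj
    have hiter : ∀ n : ℕ, g ^ n * x * (g ^ n)⁻¹ = x ^ (j ^ n) := by
      intro n
      induction n with
      | zero => simp
      | succ n ih =>
        calc g ^ (n + 1) * x * (g ^ (n + 1))⁻¹ = g * (g ^ n * x * (g ^ n)⁻¹) * g⁻¹ := by
              rw [pow_succ']; group
          _ = g * x ^ (j ^ n) * g⁻¹ := by rw [ih]
          _ = x ^ (j ^ (n + 1)) := by rw [← conj_pow, ← hj', ← pow_mul, pow_succ']
    -- some odd power is enough
    obtain ⟨a, m, hm, hgm⟩ : ∃ a m, Odd m ∧ orderOf g = 2 ^ a * m := by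
      obtain ⟨a, m, hm2, heq⟩ := Nat.exists_eq_pow_mul_and_not_dvd (orderOf_pos g).ne' 2 (by norm_num)
      exact ⟨a, m, Nat.not_even_iff_odd.mp (fun h => hm2 (even_iff_two_dvd.mp h)), heq⟩
    have hg2 : g ^ m ∈ Subgroup.centralizer ({x} : Set G) := by
      have hgN : g ^ m * x * (g ^ m)⁻¹ ∈ Subgroup.zpowers x := by
        rw [hiter]; exact Subgroup.pow_mem _ (Subgroup.mem_zpowers x) _
      have hp2 : ∀ z ∈ Subgroup.zpowers (g ^ m) ⊔ Subgroup.zpowers x, True := fun _ _ => trivial
      have hnorm' : Subgroup.zpowers (g ^ m) ≤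
          Subgroup.normalizer ((Subgroup.zpowers x : Subgroup G) : Set G) := by
        rw [Subgroup.zpowers_le, hnorm]; exact hgN
      have hP2 : IsPGroup 2 (Subgroup.zpowers (g ^ m) ⊔ Subgroup.zpowers x : Subgroup G) := by
        refine IsPGroup.to_sup_of_normal_right' ?_ ?_ hnorm'
        · refine IsPGroup.of_card (n := a) ?_
          rw [Nat.card_zpowers, orderOf_pow_of_dvd hm.pos.ne' ⟨2 ^ a, by rw [hgm, mul_comm]⟩, hgm,
            Nat.mul_div_cancel _ hm.pos]
        · exact IsPGroup.of_card (n := k) (by rw [Nat.card_zpowers, hk])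
      obtain ⟨Q, hQ⟩ := hP2.exists_le_sylow
      obtain ⟨e⟩ : Nonempty ((Q : Subgroup G) ≃* (P : Subgroup G)) := ⟨Q.equiv P⟩
      have hxQ : x ∈ (Q : Subgroup G) := hQ (Subgroup.mem_sup_right (Subgroup.mem_zpowers x))
      have hgQ : g ^ m ∈ (Q : Subgroup G) := hQ (Subgroup.mem_sup_left (Subgroup.mem_zpowers _))
      have h1 := h (e ⟨x, hxQ⟩) (x := e ⟨g ^ m, hgQ⟩) ((hnorm _ _).mpr ?_)
      · rw [Subgroup.mem_centralizer_singleton_iff, ← map_mul, ← map_mul] at h1
        exact Subgroup.mem_centralizer_singleton_iff.mpr (congrArg Subtype.val (e.injective h1))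
      · rw [← map_mul, ← map_inv, ← map_mul]
        obtain ⟨z, hz⟩ := Subgroup.mem_zpowers_iff.mp hgN
        refine Subgroup.mem_zpowers_iff.mpr ⟨z, ?_⟩
        rw [← map_zpow]
        exact congrArg e (Subtype.ext (by simpa using hz))
    -- hence `j ^ m = 1` modulo `2 ^ k`; as units of `ZMod (2 ^ k)` form a 2-group, so is `j`
    rw [Subgroup.mem_centralizer_singleton_iff]
    have hjm : x ^ (j ^ m) = x ^ 1 := by
      rw [← hiter, Subgroup.mem_centralizer_singleton_iff.mp hg2, mul_inv_cancel_right, pow_one]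
    rw [pow_eq_pow_iff_modEq, hk] at hjm
    have hj1 : j ≡ 1 [MOD 2 ^ k] := by
      rcases Nat.eq_zero_or_pos k with rfl | hk0
      · simp [Nat.modEq_one]
      have hu : IsUnit (j : ZMod (2 ^ k)) := by
        rw [← isUnit_pow_iff hm.pos.ne']
        have : ((j ^ m : ℕ) : ZMod (2 ^ k)) = ((1 : ℕ) : ZMod (2 ^ k)) :=
          (ZMod.natCast_eq_natCast_iff _ _ _).mpr hjm
        push_cast at this
        rw [this]; exact isUnit_one
      obtain ⟨u, hu'⟩ := hu
      have h1 : u ^ m = 1 := by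
        apply Units.ext
        rw [Units.val_pow_eq_pow_val, hu', Units.val_one]
        have : ((j ^ m : ℕ) : ZMod (2 ^ k)) = ((1 : ℕ) : ZMod (2 ^ k)) :=
          (ZMod.natCast_eq_natCast_iff _ _ _).mpr hjm
        push_cast at this
        exact this
      have hc : (Nat.card (ZMod (2 ^ k))ˣ).Coprime m := by
        haveI : NeZero (2 ^ k) := ⟨by positivity⟩
        rw [Nat.card_eq_fintype_card, ZMod.card_units_eq_totient,
          Nat.totient_prime_pow Nat.prime_two hk0]
        simpa using Nat.Coprime.pow_left (k - 1) (Nat.coprime_two_left.mpr hm)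
      have hu1 : u = 1 := (powCoprime hc).injective (by simp [h1])
      rw [← ZMod.natCast_eq_natCast_iff, ← hu', hu1]
      simp
    have : x ^ j = x ^ 1 := pow_eq_pow_iff_modEq.mpr (by rw [hk]; exact hj1)
    rw [pow_one, hj'] at this
    calc g * x = g * x * g⁻¹ * g := by group
      _ = x * g := by rw [this]

end Cfsg.Agent.S4028
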