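import Cfsg.Statements.S4029
import Cfsg.Agent.Lib.Cores.Frattini
import Cfsg.Agent.Lib.Characters.Ortho
import Mathlib.Algebra.Order.Chebyshev

set_option autoImplicit false
open Cfsg

namespace Cfsg.Agent.S4029

/-- Let P be a finite 2-group in which N_P(⟨y⟩) = C_P(y) for every y ∈ P. If s is the number of conjugacy classes of involutions of P, then #(P/Φ(P)) ≤ s + 1; in particular the subgroup generated by the involutions of P has order at least #(P/Φ(P)). -/
theorem result {P : Type*} [Group P] [Finite P] (hP : IsPGroup 2 P)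
    (hirr : ∀ y : P, Subgroup.normalizer ((Subgroup.zpowers y : Subgroup P) : Set P) ≤ Subgroup.centralizer {y}) :
    Nat.card (P ⧸ frattini P) ≤ Nat.card {c : ConjClasses P // ∃ y : P, ConjClasses.mk y = c ∧ orderOf y = 2} + 1 ∧
    Nat.card (P ⧸ frattini P) ≤ Nat.card (Subgroup.closure {y : P | orderOf y = 2}) := by
  classical
  have := Fintype.ofFinite P
  haveI : Fact (Nat.Prime 2) := ⟨Nat.prime_two⟩
  have hreal : ∀ x g : P, g * x * g⁻¹ = x⁻¹ → x ^ 2 = 1 := by
    intro x g hg
    have hN : g ∈ Subgroup.normalizer ((Subgroup.zpowers x : Subgroup P) : Set P) := by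
      rw [Subgroup.mem_normalizer_iff]
      intro y
      constructor
      · rintro ⟨z, rfl⟩
        exact ⟨-z, by simp only [← conj_zpow, hg, zpow_neg, inv_zpow]⟩
      · rintro ⟨z, hz⟩
        refine ⟨-z, ?_⟩
        have h2 : x ^ z = g * y * g⁻¹ := hz
        have h3 : g * x ^ (-z) * g⁻¹ = g * y * g⁻¹ := by
          rw [← conj_zpow, hg, inv_zpow, zpow_neg, inv_inv, h2]
        exact mul_left_cancel (mul_right_cancel h3)
    have h1 := Subgroup.mem_centralizer_singleton_iff.mp (hirr x hN)
    rw [h1, mul_inv_cancel_right] at hg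
    rw [sq, ← mul_inv_cancel x, ← hg]
  -- the pairs with equal squares
  let r : P → ℕ := fun h => (Finset.univ.filter fun u : P => u ^ 2 = h).card
  let Φs : Finset P := Finset.univ.filter (· ∈ frattini P)
  have hmaps : Set.MapsTo (fun u : P => u ^ 2) (Finset.univ : Finset P) Φs := fun u _ => by
    simpa [Φs] using Cfsg.Agent.Lib.Cores.pow_mem_frattini hP u
  have hsumr : ∑ h ∈ Φs, r h = Nat.card P := by
    rw [Nat.card_eq_fintype_card, ← Finset.card_univ,
      Finset.card_eq_sum_card_fiberwise (f := fun u : P => u ^ 2) hmaps]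
  have hsq : Nat.card {q : P × P // q.1 ^ 2 = q.2 ^ 2} = ∑ h ∈ Φs, r h ^ 2 := by
    rw [Nat.card_eq_fintype_card, Fintype.card_subtype,
      Finset.card_eq_sum_card_fiberwise (f := fun q : P × P => q.1 ^ 2) (t := Φs)]
    · refine Finset.sum_congr rfl fun h _ => ?_
      rw [sq, ← Finset.card_product]
      congr 1
      ext ⟨u, v⟩
      simp only [Finset.mem_filter, Finset.mem_univ, true_and, Finset.mem_product]
      constructor
      · rintro ⟨h1, h2⟩; exact ⟨h2, h1 ▸ h2⟩
      · rintro ⟨h1, h2⟩; exact ⟨h1.trans h2.symm, h1⟩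
    · intro q _
      simpa [Φs] using Cfsg.Agent.Lib.Cores.pow_mem_frattini hP q.1
  let X := {x : P // x ^ 2 = 1}
  have heq : Nat.card {q : P × P // q.1 ^ 2 = q.2 ^ 2} =
      Nat.card (Σ x : X, Subgroup.centralizer ({(x : P)} : Set P)) := by
    have hx : ∀ u v : P, u ^ 2 = v ^ 2 → (u⁻¹ * v) ^ 2 = 1 := fun u v h => by
      refine hreal _ v⁻¹⁻¹ ?_
      rw [inv_inv, mul_inv_rev, inv_inv]
      calc v * (u⁻¹ * v) * v⁻¹ = v * u⁻¹ := by group
        _ = v⁻¹ * (v ^ 2) * u⁻¹ := by group
        _ = v⁻¹ * (u ^ 2) * u⁻¹ := by rw [h]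
        _ = v⁻¹ * u := by group
    refine Nat.card_congr
      { toFun := fun q => ⟨⟨q.1.1⁻¹ * q.1.2, hx _ _ q.2⟩, ⟨q.1.1, ?_⟩⟩
        invFun := fun y => ⟨((y.2 : P), (y.2 : P) * (y.1 : P)), ?_⟩
        left_inv := fun q => Subtype.ext (Prod.ext rfl (by simp))
        right_inv := ?_ }
    · rw [Subgroup.mem_centralizer_singleton_iff]
      obtain ⟨⟨u, v⟩, h⟩ := q
      have h1 := hx u v h
      have h2 : (u⁻¹ * v)⁻¹ = u⁻¹ * v := by
        rw [inv_eq_iff_mul_eq_one, ← sq]; exact h1
      calc u * (u⁻¹ * v) = v := by group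
        _ = v⁻¹ * v ^ 2 := by group
        _ = v⁻¹ * u ^ 2 := by rw [h]
        _ = (u⁻¹ * v)⁻¹ * u := by simp [sq, mul_assoc]
        _ = u⁻¹ * v * u := by rw [h2]
    · have h1 := Subgroup.mem_centralizer_singleton_iff.mp y.2.2
      show (y.2 : P) ^ 2 = ((y.2 : P) * (y.1 : P)) ^ 2
      rw [(show Commute (y.2 : P) (y.1 : P) from h1).mul_pow, y.1.2, mul_one]
    · rintro ⟨⟨x, hx'⟩, ⟨g, hg⟩⟩
      have : g⁻¹ * (g * x) = x := inv_mul_cancel_left g x
      simp only
      congr 1
      · exact Subtype.ext this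
      · exact (Subtype.heq_iff_coe_eq (fun z => by simp [this])).mpr rfl
  -- classes of solutions of x ^ 2 = 1
  let CX := {c : ConjClasses P // ∃ y : P, ConjClasses.mk y = c ∧ y ^ 2 = 1}
  have hclass : Nat.card (Σ x : X, Subgroup.centralizer ({(x : P)} : Set P)) =
      Nat.card P * Nat.card CX := by
    rw [Nat.card_sigma]
    let f : X → CX := fun x => ⟨ConjClasses.mk x.1, x.1, rfl, x.2⟩
    rw [← Fintype.sum_fiberwise f (fun x => Nat.card (Subgroup.centralizer ({(x : P)} : Set P)))]
    have hfib : ∀ c : CX, ∑ x : {x : X // f x = c},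
        Nat.card (Subgroup.centralizer ({((x : X) : P)} : Set P)) = Nat.card P := by
      rintro ⟨c, y, rfl, hy⟩
      have hc : ∀ x : {x : X // f x = ⟨ConjClasses.mk y, y, rfl, hy⟩},
          Nat.card (Subgroup.centralizer ({((x : X) : P)} : Set P)) =
            Nat.card (Subgroup.centralizer ({y} : Set P)) := by
        intro x
        obtain ⟨g, hg⟩ := isConj_iff.mp
          (ConjClasses.mk_eq_mk_iff_isConj.mp (congrArg Subtype.val x.2))
        refine Eq.trans ?_ (congrArg (fun w : P => Nat.card (Subgroup.centralizer ({w} : Set P))) hg)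
        refine Nat.card_congr ((MulAut.conj g).toEquiv.subtypeEquiv fun z => ?_)
        simp only [SetLike.mem_coe, Subgroup.mem_centralizer_singleton_iff, MulEquiv.toEquiv_eq_coe,
          EquivLike.coe_coe, MulAut.conj_apply]
        constructor
        · intro h
          simp only [mul_assoc, inv_mul_cancel_left, mul_left_cancel_iff]
          rw [← mul_assoc, h, mul_assoc]
        · intro h
          simp only [mul_assoc, inv_mul_cancel_left, mul_left_cancel_iff] at h
          rw [← mul_assoc, ← mul_assoc] at h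
          exact mul_right_cancel h
      rw [Finset.sum_congr rfl fun x _ => hc x, Finset.sum_const, Finset.card_univ, smul_eq_mul,
        ← Nat.card_eq_fintype_card]
      rw [← Cfsg.Agent.Lib.Characters.card_conj_mul_card_centralizer y]
      congr 1
      refine Nat.card_congr
        { toFun := fun x => ⟨((x : X) : P),
            (ConjClasses.mk_eq_mk_iff_isConj.mp (congrArg Subtype.val x.2)).symm⟩
          invFun := fun z => ⟨⟨z.1, by
            obtain ⟨g, hg⟩ := isConj_iff.mp z.2
            rw [← hg, conj_pow, hy, mul_one, mul_inv_cancel]⟩,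
            Subtype.ext (ConjClasses.mk_eq_mk_iff_isConj.mpr z.2.symm)⟩
          left_inv := fun x => rfl
          right_inv := fun z => rfl }
    rw [Finset.sum_congr rfl fun c _ => hfib c, Finset.sum_const, Finset.card_univ, smul_eq_mul,
      ← Nat.card_eq_fintype_card, mul_comm]
  have hcs : Nat.card P ^ 2 ≤ Nat.card (frattini P) * ∑ h ∈ Φs, r h ^ 2 := by
    rw [← hsumr]
    have h1 := sq_sum_le_card_mul_sum_sq (s := Φs) (f := r)
    have h2 : Φs.card = Nat.card (frattini P) := by
      rw [Nat.card_eq_fintype_card, Fintype.card_subtype]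
    rw [h2] at h1
    exact h1
  rw [← hsq, heq, hclass] at hcs
  have hCX : Nat.card CX ≤
      Nat.card {c : ConjClasses P // ∃ y : P, ConjClasses.mk y = c ∧ orderOf y = 2} + 1 := by
    let e' : CX → Option {c : ConjClasses P // ∃ y : P, ConjClasses.mk y = c ∧ orderOf y = 2} :=
      fun c => if h : c.1 = ConjClasses.mk 1 then none else some ⟨c.1, by
        obtain ⟨y, hy, hy2⟩ := c.2
        refine ⟨y, hy, orderOf_eq_prime hy2 ?_⟩
        rintro rfl
        exact h hy.symm⟩
    have he : Function.Injective e' := by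
      intro a b hab
      apply Subtype.ext
      simp only [e'] at hab
      split_ifs at hab with h1 h2
      · exact h1.trans h2.symm
      · simpa using hab
    refine (Nat.card_le_card_of_injective e' he).trans ?_
    rw [Nat.card_eq_fintype_card, Fintype.card_option, Nat.card_eq_fintype_card]
  have hA : Nat.card (P ⧸ frattini P) ≤ Nat.card CX := by
    refine Nat.le_of_mul_le_mul_right ?_ (Nat.card_pos (α := frattini P))
    rw [← Subgroup.card_eq_card_quotient_mul_card_subgroup]
    refine Nat.le_of_mul_le_mul_left ?_ (Nat.card_pos (α := P))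
    calc Nat.card P * Nat.card P = Nat.card P ^ 2 := (sq _).symm
      _ ≤ _ := hcs
      _ = Nat.card P * (Nat.card CX * Nat.card (frattini P)) := by ring
  refine ⟨hA.trans hCX, hA.trans ?_⟩
  let g : CX → Subgroup.closure {y : P | orderOf y = 2} := fun c => ⟨c.2.choose, by
    obtain ⟨-, h2⟩ := c.2.choose_spec
    by_cases h1 : c.2.choose = 1
    · rw [h1]; exact one_mem _
    · exact Subgroup.subset_closure (orderOf_eq_prime h2 h1)⟩
  refine Nat.card_le_card_of_injective g fun a b hab => Subtype.ext ?_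
  rw [← a.2.choose_spec.1, ← b.2.choose_spec.1]
  exact congrArg ConjClasses.mk (congrArg Subtype.val hab)

end Cfsg.Agent.S4029
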