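import Cfsg.Statements.S4153
import Cfsg.Agent.Lib.Cores.Basic
import Cfsg.Agent.Lib.Frobenius.Complement
import Mathlib.GroupTheory.Sylow

set_option autoImplicit false
open Cfsg

namespace Cfsg.Agent.S4153

open scoped Pointwise

/-- An element of `p`-power order in a quotient lifts to one. -/
theorem exists_pElement_lift {G : Type*} [Group G] [Finite G] {p : ℕ} [Fact p.Prime] {N : Subgroup G}
    [N.Normal] {y : G ⧸ N} (hy : ∃ k : ℕ, orderOf y = p ^ k) :
    ∃ u : G, QuotientGroup.mk' N u = y ∧ ∃ k : ℕ, orderOf u = p ^ k := by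
  obtain ⟨k, hk⟩ := hy
  obtain ⟨w, rfl⟩ := QuotientGroup.mk'_surjective N y
  set m := orderOf w / p ^ (orderOf w).factorization p
  have hm : p ^ (orderOf w).factorization p * m = orderOf w := Nat.ordProj_mul_ordCompl_eq_self _ _
  have hcop : Nat.Coprime (p ^ k) m :=
    (Nat.coprime_ordCompl (Fact.out : p.Prime) (orderOf_pos w).ne').pow_left k
  refine ⟨(w ^ m) ^ Nat.gcdB (p ^ k) m, ?_, ?_⟩
  · have h1 := Nat.gcd_eq_gcd_ab (p ^ k) m
    rw [hcop, Nat.cast_one] at h1
    rw [map_zpow, map_pow, ← zpow_natCast, ← zpow_mul]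
    have h2 : (QuotientGroup.mk' N w) ^ (((p ^ k : ℕ) : ℤ) * Nat.gcdA (p ^ k) m) = 1 := by
      rw [zpow_mul, zpow_natCast, orderOf_dvd_iff_pow_eq_one.mp hk.dvd, one_zpow]
    conv_rhs => rw [← zpow_one (QuotientGroup.mk' N w), h1, zpow_add, h2, one_mul]
  · have h0 : ((w ^ m) ^ Nat.gcdB (p ^ k) m) ^ p ^ (orderOf w).factorization p = 1 := by
      rw [← zpow_natCast, ← zpow_mul, mul_comm, zpow_mul, zpow_natCast, ← pow_mul, mul_comm m, hm,
        pow_orderOf_eq_one, one_zpow]
    obtain ⟨i, -, hi⟩ := (Nat.dvd_prime_pow Fact.out).mp (orderOf_dvd_of_pow_eq_one h0)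
    exact ⟨i, hi⟩

/-- Let G be a finite group, p a prime, N a normal subgroup, P a Sylow p-subgroup of G and P̄ a Sylow p-subgroup of G/N. Count the elements of p-power order, the identity included. Then (number of such elements of G/N)/#P̄ ≤ (number of such elements of G)/#P, stated as a cross-multiplied inequality, with equality when N is central. -/
theorem result {G : Type*} [Group G] [Finite G] (p : ℕ) [Fact p.Prime] (N : Subgroup G) [N.Normal]
    (P : Sylow p G) (Pbar : Sylow p (G ⧸ N)) :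
    Nat.card {g : (G ⧸ N) // ∃ k : ℕ, orderOf g = p ^ k} * Nat.card (P : Subgroup G) ≤ Nat.card {g : G // ∃ k : ℕ, orderOf g = p ^ k} * Nat.card (Pbar : Subgroup (G ⧸ N)) ∧
    (N ≤ Subgroup.center G → Nat.card {g : (G ⧸ N) // ∃ k : ℕ, orderOf g = p ^ k} * Nat.card (P : Subgroup G) = Nat.card {g : G // ∃ k : ℕ, orderOf g = p ^ k} * Nat.card (Pbar : Subgroup (G ⧸ N))) := by
  classical
  haveI := Fintype.ofFinite (G ⧸ N)
  set a := {g : (G ⧸ N) // ∃ k : ℕ, orderOf g = p ^ k}
  have hsurj := QuotientGroup.mk'_surjective N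
  set k0 := Nat.card ↥((P : Subgroup G) ⊓ N) with hk0
  have hcard : Nat.card (P : Subgroup G) = Nat.card (Pbar : Subgroup (G ⧸ N)) * k0 := by
    rw [Pbar.card_eq_multiplicity, ← (P.mapSurjective hsurj).card_eq_multiplicity, Sylow.coe_mapSurjective, hk0]
    have := Cfsg.Agent.Lib.Cores.card_map_mul_card_inf_ker (QuotientGroup.mk' N) (P : Subgroup G)
    rw [QuotientGroup.ker_mk'] at this
    exact this.symm
  have hR : ∀ R : Sylow p G, Nat.card ↥((R : Subgroup G) ⊓ N) = k0 := by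
    intro R
    obtain ⟨g, rfl⟩ := MulAction.exists_smul_eq G P R
    have e : ((g • P : Sylow p G) : Subgroup G) ⊓ N = ((P : Subgroup G) ⊓ N).map (MulAut.conj g).toMonoidHom := by
      ext z
      rw [Subgroup.mem_map_equiv, Subgroup.mem_inf, Subgroup.mem_inf]
      refine and_congr Cfsg.Agent.Lib.Frobenius.mem_conj_smul ⟨fun hz => ?_, fun hz => ?_⟩
      · simpa [MulAut.conj_symm_apply, mul_assoc] using Subgroup.Normal.conj_mem inferInstance z hz g⁻¹
      · simpa [MulAut.conj_symm_apply, mul_assoc] using Subgroup.Normal.conj_mem inferInstance _ hz g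
    rw [e, ← Nat.card_congr (Subgroup.equivMapOfInjective _ _ (MulAut.conj g).injective).toEquiv]
  choose u hu hup using fun y : a => exists_pElement_lift y.2
  have hSy : ∀ y : a, ∃ R : Sylow p G, u y ∈ (R : Subgroup G) := by
    intro y
    obtain ⟨k, hk⟩ := hup y
    obtain ⟨R, hR'⟩ := (IsPGroup.of_card (p := p) (n := k) (by rw [Nat.card_zpowers, hk]) :
      IsPGroup p (Subgroup.zpowers (u y))).exists_le_sylow
    exact ⟨R, hR' (Subgroup.mem_zpowers _)⟩
  choose R hRu using hSy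
  let F : (Σ y : a, ↥((R y : Subgroup G) ⊓ N)) → {g : G // ∃ k : ℕ, orderOf g = p ^ k} := fun s =>
    ⟨u s.1 * s.2, by
      obtain ⟨k, hk⟩ := IsPGroup.iff_orderOf.mp (R s.1).isPGroup'
        ⟨u s.1 * s.2, mul_mem (hRu s.1) s.2.2.1⟩
      rw [Subgroup.orderOf_mk] at hk
      exact ⟨k, hk⟩⟩
  have himg : ∀ s, QuotientGroup.mk' N (F s).1 = s.1.1 := fun s => by
    show QuotientGroup.mk' N (u s.1 * s.2) = _
    rw [map_mul, show QuotientGroup.mk' N (s.2 : G) = 1 from (QuotientGroup.eq_one_iff _).mpr s.2.2.2,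
      mul_one, hu]
  have hinj : Function.Injective F := by
    rintro ⟨y, n⟩ ⟨z, m⟩ h
    have h1 := himg ⟨y, n⟩
    rw [h, himg] at h1
    obtain rfl : z = y := Subtype.ext h1
    have h2 : u z * (n : G) = u z * (m : G) := congrArg Subtype.val h
    exact Sigma.ext rfl (heq_of_eq (Subtype.ext (mul_left_cancel h2)))
  have hsig : Nat.card (Σ y : a, ↥((R y : Subgroup G) ⊓ N)) = Nat.card a * k0 := by
    rw [Nat.card_sigma, Finset.sum_congr rfl fun y _ => hR (R y), Finset.sum_const, smul_eq_mul,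
      Finset.card_univ, Nat.card_eq_fintype_card]
  have hle := Nat.card_le_card_of_injective F hinj
  rw [hsig] at hle
  refine ⟨?_, fun hN => ?_⟩
  · rw [hcard, mul_comm (Nat.card (Pbar : Subgroup (G ⧸ N))) k0, ← mul_assoc]
    exact Nat.mul_le_mul_right _ hle
  · have hsur : Function.Surjective F := by
      rintro ⟨g, k, hk⟩
      let y : a := ⟨QuotientGroup.mk' N g, by
        obtain ⟨i, -, hi⟩ := (Nat.dvd_prime_pow Fact.out).mp (hk ▸ orderOf_map_dvd (QuotientGroup.mk' N) g)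
        exact ⟨i, hi⟩⟩
      have hn : (u y)⁻¹ * g ∈ N := QuotientGroup.eq.mp (hu y)
      refine ⟨⟨y, ⟨(u y)⁻¹ * g, Subgroup.mem_inf.mpr ⟨?_, hn⟩⟩⟩, Subtype.ext (mul_inv_cancel_left _ _)⟩
      have hc := Subgroup.mem_center_iff.mp (hN hn)
      obtain ⟨j, hj⟩ := hup y
      have hcu : Commute (u y)⁻¹ g := by
        have h3 : u y * ((u y)⁻¹ * g) = (u y)⁻¹ * g * u y := hc (u y)
        rw [mul_inv_cancel_left] at h3
        have h4 : g * (u y)⁻¹ = (u y)⁻¹ * g := by
          conv_lhs => rw [h3]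
          group
        exact h4.symm
      have h5 : ((u y)⁻¹ * g) ^ (p ^ j * p ^ k) = 1 := by
        rw [hcu.mul_pow, inv_pow, pow_mul, ← hj, pow_orderOf_eq_one, one_pow, inv_one, one_mul,
          mul_comm, pow_mul, ← hk, pow_orderOf_eq_one, one_pow]
      have hp : IsPGroup p (Subgroup.zpowers ((u y)⁻¹ * g)) := by
        rw [← pow_add] at h5
        obtain ⟨i, -, hi⟩ := (Nat.dvd_prime_pow Fact.out).mp (orderOf_dvd_of_pow_eq_one h5)
        exact IsPGroup.of_card (n := i) (by rw [Nat.card_zpowers, hi])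
      exact (Subgroup.mem_inf.mp (hp.inf_normalizer_sylow (R y) ▸ Subgroup.mem_inf.mpr
        ⟨Subgroup.mem_zpowers _, Subgroup.mem_normalizer_iff.mpr fun z => by
          rw [← hc z, mul_inv_cancel_right]⟩)).2
    rw [← Nat.card_eq_of_bijective F ⟨hinj, hsur⟩, hsig, hcard]
    ring

end Cfsg.Agent.S4153
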