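import Cfsg.Statements.S4032
import Cfsg.Agent.S3986
import Cfsg.Agent.S4153
import Cfsg.Agent.Lib.Cores.Basic
import Cfsg.Agent.Lib.Frobenius.Complement

set_option autoImplicit false
open Cfsg

namespace Cfsg.Agent.S4032

open scoped Pointwise

/-- Let π be a set of primes and G a finite group in which N_G(⟨x⟩) = C_G(x) for every π-element x. If N is a normal subgroup of G whose order is divisible by no prime of π, then G/N has the same property: N_{G/N}(⟨y⟩) = C_{G/N}(y) for every π-element y of G/N. -/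
theorem result {G : Type*} [Group G] [Finite G] (π : Set ℕ)
    (hirr : ∀ x : G, (∀ r : ℕ, r.Prime → r ∣ orderOf x → r ∈ π) →
      Subgroup.normalizer ((Subgroup.zpowers x : Subgroup G) : Set G) ≤ Subgroup.centralizer {x})
    (N : Subgroup G) [N.Normal] (hN : ∀ r : ℕ, r.Prime → r ∣ Nat.card N → r ∉ π) :
    ∀ y : G ⧸ N, (∀ r : ℕ, r.Prime → r ∣ orderOf y → r ∈ π) →
      Subgroup.normalizer ((Subgroup.zpowers y : Subgroup (G ⧸ N)) : Set (G ⧸ N)) ≤ Subgroup.centralizer {y} := by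
  intro y hy g hg
  refine Subgroup.mem_centralizer_singleton_iff.mpr ?_
  suffices hsuf : Subgroup.zpowers y ≤ Subgroup.centralizer ({g} : Set (G ⧸ N)) from
    (Subgroup.mem_centralizer_singleton_iff.mp (hsuf (Subgroup.mem_zpowers y))).symm
  refine Cfsg.Agent.S3986.le_of_primePow_mem fun z hz r b hr hb => ?_
  rw [Subgroup.mem_centralizer_singleton_iff]
  rcases Nat.eq_zero_or_pos b with rfl | hb0
  · rw [show z = 1 from orderOf_eq_one_iff.mp (by simpa using hb)]; simp
  have hrπ : r ∈ π := by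
    refine hy r hr ((dvd_pow_self r hb0.ne').trans ?_)
    rw [← hb]
    exact orderOf_dvd_of_mem_zpowers hz
  haveI : Fact r.Prime := ⟨hr⟩
  have hsurj := QuotientGroup.mk'_surjective N
  obtain ⟨u, hu, i, hi⟩ := Cfsg.Agent.S4153.exists_pElement_lift (p := r) ⟨b, hb⟩
  have hub : orderOf u = r ^ b := by
    refine Nat.dvd_antisymm (orderOf_dvd_of_pow_eq_one ?_) (hb ▸ hu ▸ orderOf_map_dvd _ u)
    have h1 : u ^ r ^ b ∈ N := by
      rw [← QuotientGroup.eq_one_iff, QuotientGroup.mk_pow, ← hb, show (u : G ⧸ N) = z from hu, pow_orderOf_eq_one]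
    rw [← orderOf_eq_one_iff]
    refine Nat.eq_one_of_dvd_coprimes ((hr.coprime_iff_not_dvd.mpr fun hd => hN r hr hd hrπ).pow_left i)
      (hi ▸ orderOf_pow_dvd _) (Subgroup.orderOf_dvd_natCard N h1)
  obtain ⟨g, rfl⟩ := hsurj g
  set H := (Subgroup.zpowers z).comap (QuotientGroup.mk' N) with hH
  have hgz : QuotientGroup.mk' N g * z * (QuotientGroup.mk' N g)⁻¹ ∈ Subgroup.zpowers z := by
    obtain ⟨j, rfl⟩ := hz
    have h1 : QuotientGroup.mk' N g * y * (QuotientGroup.mk' N g)⁻¹ ∈ Subgroup.zpowers y :=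
      (Subgroup.mem_normalizer_iff.mp hg y).mp (Subgroup.mem_zpowers y)
    obtain ⟨l, hl⟩ := h1
    refine ⟨l, ?_⟩
    show (y ^ j) ^ l = _
    rw [← zpow_mul, mul_comm, zpow_mul, show y ^ l = _ from hl, conj_zpow]
  have hu1 : u ∈ H := by rw [hH, Subgroup.mem_comap, hu]; exact Subgroup.mem_zpowers z
  have hu2 : g * u * g⁻¹ ∈ H := by rw [hH, Subgroup.mem_comap, map_mul, map_mul, map_inv, hu]; exact hgz
  have hcardH : (Nat.card H).factorization r = b := by
    have hr' : ¬ r ∣ Nat.card N := fun hd => hN r hr hd hrπ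
    rw [hH, Cfsg.Agent.Lib.Cores.card_comap_mk', Nat.card_zpowers, hb,
      Nat.factorization_mul Nat.card_pos.ne' (pow_ne_zero _ hr.ne_zero), Finsupp.add_apply,
      Nat.factorization_eq_zero_of_not_dvd hr', hr.factorization_pow, Finsupp.single_eq_same, zero_add]
  let S1 : Sylow r H := Sylow.ofCard (Subgroup.zpowers ⟨u, hu1⟩)
    (by rw [Nat.card_zpowers, Subgroup.orderOf_mk, hub, hcardH])
  let S2 : Sylow r H := Sylow.ofCard (Subgroup.zpowers ⟨g * u * g⁻¹, hu2⟩)
    (by rw [Nat.card_zpowers, Subgroup.orderOf_mk, ← MulAut.conj_apply, MulEquiv.orderOf_eq, hub, hcardH])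
  obtain ⟨⟨h, hh⟩, hh'⟩ := MulAction.exists_smul_eq H S2 S1
  have hmem : h * g * u * (h * g)⁻¹ ∈ Subgroup.zpowers u := by
    have h1 : (⟨h, hh⟩ : H) * ⟨g * u * g⁻¹, hu2⟩ * (⟨h, hh⟩ : H)⁻¹ ∈ (S1 : Subgroup H) := by
      rw [← hh']
      refine Cfsg.Agent.Lib.Frobenius.mem_conj_smul.mpr ?_
      have hS2 : (⟨g * u * g⁻¹, hu2⟩ : H) ∈ (S2 : Subgroup H) := Subgroup.mem_zpowers _
      convert hS2 using 1
      group
    obtain ⟨l, hl⟩ := h1
    refine ⟨l, ?_⟩
    have h2 := congrArg (fun w : H => (w : G)) hl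
    simp only [Subgroup.coe_mul, Subgroup.coe_inv, SubgroupClass.coe_zpow] at h2
    show u ^ l = _
    rw [h2]
    group
  have hnor : h * g ∈ Subgroup.normalizer ((Subgroup.zpowers u : Subgroup G) : Set G) := by
    refine Subgroup.mem_normalizer_fintype fun w hw => ?_
    obtain ⟨l, rfl⟩ := hw
    show h * g * u ^ l * (h * g)⁻¹ ∈ Subgroup.zpowers u
    rw [← conj_zpow]
    exact zpow_mem hmem l
  have hc := Subgroup.mem_centralizer_singleton_iff.mp
    (hirr u (fun s hs hd => (Nat.prime_dvd_prime_iff_eq hs hr).mp (hs.dvd_of_dvd_pow (hub ▸ hd)) ▸ hrπ) hnor)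
  have hc' := congrArg (QuotientGroup.mk' N) hc
  simp only [map_mul, hu] at hc'
  obtain ⟨l, hl⟩ := (Subgroup.mem_comap.mp hh : QuotientGroup.mk' N h ∈ Subgroup.zpowers z)
  rw [show QuotientGroup.mk' N h = z ^ l from hl.symm] at hc'
  have h3 : z ^ l * (z * QuotientGroup.mk' N g) = z ^ l * (QuotientGroup.mk' N g * z) := by
    calc z ^ l * (z * QuotientGroup.mk' N g) = z * (z ^ l * QuotientGroup.mk' N g) := by
          rw [← mul_assoc, (Commute.zpow_left (Commute.refl z) l).eq, mul_assoc]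
      _ = z ^ l * QuotientGroup.mk' N g * z := hc'.symm
      _ = z ^ l * (QuotientGroup.mk' N g * z) := mul_assoc _ _ _
  exact mul_left_cancel h3

end Cfsg.Agent.S4032
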