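import Cfsg.Statements.S4033
import Cfsg.Agent.Lib.RegularClasses.TwoSizes

set_option autoImplicit false
open Cfsg

namespace Cfsg.Agent.S4033

open Cfsg.Agent.Lib Cfsg.Agent.Lib.RegularClasses

/-- Let G be a finite group and p a prime, and suppose the conjugacy classes of p-regular elements of G (elements of order prime to p) have exactly two distinct sizes. Then either G has an abelian p-complement (an abelian subgroup of order prime to p and p-power index), or there are a prime q ≠ p, a Sylow p-subgroup P, a Sylow q-subgroup Q and a central subgroup A such that PQ is a normal subgroup of order #P·#Q and G is the internal direct product PQ × A. -/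
theorem result {G : Type*} [Group G] [Finite G] {p : ℕ} (hp : p.Prime)
    (h2 : Set.ncard (Set.range fun x : {x : G // (orderOf x).Coprime p} => (ConjClasses.mk (x : G)).carrier.ncard) = 2) :
    (∃ H : Subgroup G, IsMulCommutative H ∧ ¬ p ∣ Nat.card H ∧ ∃ k : ℕ, H.index = p ^ k) ∨
    (∃ (q : ℕ) (_ : Fact q.Prime) (P : Sylow p G) (Q : Sylow q G) (A : Subgroup G), q ≠ p ∧
        A ≤ Subgroup.center G ∧ Nat.card ↥((P : Subgroup G) ⊔ (Q : Subgroup G)) = Nat.card P * Nat.card Q ∧
        ((P : Subgroup G) ⊔ (Q : Subgroup G)).Normal ∧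
        ((P : Subgroup G) ⊔ (Q : Subgroup G)) ⊓ A = ⊥ ∧ ((P : Subgroup G) ⊔ (Q : Subgroup G)) ⊔ A = ⊤) := by
  have hcard : ∀ g : G, (ConjClasses.mk g).carrier.ncard = (Subgroup.centralizer ({g} : Set G)).index := by
    intro g
    rw [← Characters.card_conj_eq_index, ← Nat.card_coe_set_eq]
    refine Nat.card_congr (Equiv.subtypeEquivRight fun y => ?_)
    rw [ConjClasses.mem_carrier_iff_mk_eq, eq_comm, ConjClasses.mk_eq_mk_iff_isConj]
  simp only [hcard] at h2
  obtain ⟨a, b, hab, hS⟩ := Set.ncard_eq_two.mp h2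
  have hmem : ∀ g : G, Reg p g → (Subgroup.centralizer ({g} : Set G)).index = a ∨
      (Subgroup.centralizer ({g} : Set G)).index = b := by
    intro g hg
    have := hS.le ⟨⟨g, hg⟩, rfl⟩
    simpa using this
  have hcent : ∀ g : G, (Subgroup.centralizer ({g} : Set G)).index = 1 ↔ g ∈ Subgroup.center G := by
    intro g
    rw [Subgroup.index_eq_one, Subgroup.centralizer_eq_top_iff_subset, Set.singleton_subset_iff]
    rfl
  have hone := hmem 1 (by rw [Reg, orderOf_one]; exact Nat.coprime_one_left _)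
  rw [(hcent 1).mpr (one_mem _)] at hone
  obtain ⟨m, hm1, heq, x0, hx0, hx0m⟩ : ∃ m, m ≠ 1 ∧ EqSizes G p m ∧ ∃ x, Reg p x ∧
      (Subgroup.centralizer ({x} : Set G)).index = m := by
    rcases hone with ha | hb
    · obtain ⟨⟨x, hx⟩, hxe⟩ := hS.ge (Or.inr rfl)
      exact ⟨b, fun e => hab (ha.symm.trans e.symm), fun g hg hgc =>
        (hmem g hg).resolve_left fun e => hgc ((hcent g).mp (e.trans ha.symm)), x, hx, hxe⟩
    · obtain ⟨⟨x, hx⟩, hxe⟩ := hS.ge (Or.inl rfl)
      exact ⟨a, fun e => hab (e.trans hb), fun g hg hgc =>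
        (hmem g hg).resolve_right fun e => hgc ((hcent g).mp (e.trans hb.symm)), x, hx, hxe⟩
  have hx0c : x0 ∉ Subgroup.center G := fun e => hm1 (hx0m.symm.trans ((hcent x0).mpr e))
  by_cases hI : ∃ (q : ℕ) (x u w : G), q.Prime ∧ q ≠ p ∧ (∃ j, x ^ q ^ j = 1) ∧
      x ∉ Subgroup.center G ∧ Reg p u ∧ u ∈ Subgroup.centralizer ({x} : Set G) ∧
      w ∈ Subgroup.centralizer ({x} : Set G) ∧ ¬ Commute w u
  · obtain ⟨q, x, u, w, hq, hqp, hxq, hxc, hu, hux, hw, hwu⟩ := hI
    haveI := Fact.mk hq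
    exact Or.inr (direct_of_central hp hqp (central_outside hp heq hq
      (reg_of_prime_pow hp hq hqp hxq.choose_spec) hxq hxc hu hux hw hwu))
  push Not at hI
  have hk : ∀ x : G, Reg p x → x ∉ Subgroup.center G → ∀ g ∈ Subgroup.centralizer ({x} : Set G),
      Reg p g → Subgroup.centralizer ({x} : Set G) ≤ Subgroup.centralizer ({g} : Set G) := by
    intro x hx hxc g hgx hg
    obtain ⟨q, y, hq, hqp, hyq, hyx, hyc⟩ := exists_primary_noncentral hp hx hxc
    have hle : Subgroup.centralizer ({x} : Set G) ≤ Subgroup.centralizer ({y} : Set G) := by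
      intro w hw
      obtain ⟨i, rfl⟩ := Subgroup.mem_zpowers_iff.mp hyx
      exact mem_C.mpr ((show Commute w x from mem_C.mp hw).zpow_right i).eq
    exact fun w hw => mem_C.mpr (hI q y g w hq hqp hyq hyc hg (hle hgx) (hle hw)).eq
  by_cases hpm : ∀ q : ℕ, q.Prime → q ∣ m → q = p
  · refine Or.inl ⟨regPart hk hx0 hx0c, ⟨⟨fun a b => Subtype.ext
      (regPart_comm hk hx0 hx0c a a.2 b b.2).eq⟩⟩, fun hd => ?_, ?_⟩
    · haveI := Fact.mk hp
      obtain ⟨⟨a, ha, har⟩, hao⟩ := exists_prime_orderOf_dvd_card' p hd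
      rw [← Subgroup.orderOf_coe] at hao
      exact hp.coprime_iff_not_dvd.mp har.symm (hao ▸ dvd_rfl)
    · refine ⟨_, Nat.eq_prime_pow_of_unique_prime_dvd Subgroup.index_ne_zero_of_finite ?_⟩
      intro t ht htd
      by_contra htp
      haveI := Fact.mk ht
      obtain ⟨S, hS1⟩ := exists_sylow_le (s := t) (H := Subgroup.centralizer ({x0} : Set G))
        (fun e => htp (hpm t ht (hx0m ▸ e)))
      refine S.not_dvd_index (htd.trans (Subgroup.index_dvd_of_le fun g hg => ⟨hS1 hg, ?_⟩))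
      obtain ⟨k, hk'⟩ := S.isPGroup' ⟨g, hg⟩
      exact reg_of_prime_pow hp ht htp (by simpa using congrArg Subtype.val hk')
  push Not at hpm
  obtain ⟨q, hq, hqm, hqp⟩ := hpm
  haveI := Fact.mk hq
  by_cases hcen : ∀ s : ℕ, s.Prime → s ≠ p → s ≠ q → ∀ g : G, (∃ k, g ^ s ^ k = 1) → g ∈ Subgroup.center G
  · exact Or.inr (direct_of_central hp hqp hcen)
  push Not at hcen
  obtain ⟨s, hs, hsp, hsq, g, hg, hgc⟩ := hcen
  exact (no_two_primes hp heq hk hqp hqm hs hsp hsq hg hgc).elim

end Cfsg.Agent.S4033
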