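import Cfsg.Statements.S4036
import Cfsg.Agent.Lib.Frobenius.Action
import Mathlib.GroupTheory.PGroup

set_option autoImplicit false
open Cfsg

namespace Cfsg.Agent.S4036

/-- Let P be a finite abelian p-group and K a group of automorphisms of P (a subgroup of Aut P) whose order is divisible by p. If all non-identity elements of K have the same fixed-point subgroup on P, then K has no non-trivial normal subgroup of order prime to p. -/
theorem result {P : Type*} [CommGroup P] [Finite P] {p : ℕ}
    [Fact p.Prime] (hP : IsPGroup p P) (K : Subgroup (MulAut P)) (hK : p ∣ Nat.card K)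
    (hfix : ∀ x y : MulAut P, x ∈ K → y ∈ K → x ≠ 1 → y ≠ 1 → ∀ v : P, x v = v ↔ y v = v) :
    ∀ N : Subgroup ↥K, N.Normal → ¬ p ∣ Nat.card N → N = ⊥ := by
  intro N hN hpN
  classical
  have hp : p.Prime := Fact.out
  by_contra hne
  obtain ⟨n₀, hn₀, hn₁⟩ := N.bot_or_exists_ne_one.resolve_left hne
  obtain ⟨k, hk⟩ := exists_prime_orderOf_dvd_card' p hK
  have hk1 : (k : MulAut P) ≠ 1 := fun h => by
    rw [show k = 1 from Subtype.ext h, orderOf_one] at hk
    exact hp.ne_one hk.symm
  have hn₁' : (n₀ : MulAut P) ≠ 1 := fun h => hn₁ (Subtype.ext h)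
  have := Fintype.ofFinite N
  -- the norm map of `N`
  let θ : P → P := fun v => ∏ n : N, ((n : K) : MulAut P) v
  have hθmul : ∀ u v, θ (u * v) = θ u * θ v := fun u v => by
    simp only [θ, map_mul, Finset.prod_mul_distrib]
  let θh : P →* P := MonoidHom.mk' θ hθmul
  have hθfix : ∀ v, ((n₀ : K) : MulAut P) (θ v) = θ v := fun v => by
    simp only [θ, map_prod]
    exact Fintype.prod_equiv (Equiv.mulLeft (⟨n₀, hn₀⟩ : N)) _ _ fun n => rfl
  have hkfix : ∀ v, θ v = v ^ Nat.card N → (∀ n : N, ((n : K) : MulAut P) v = v) → True :=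
    fun _ _ _ => trivial
  have hkinv : ∀ v ∈ θh.ker, (k : MulAut P) v ∈ θh.ker := by
    intro v hv
    rw [MonoidHom.mem_ker] at hv ⊢
    have hv' : θ v = 1 := hv
    show θ ((k : MulAut P) v) = 1
    have : θ ((k : MulAut P) v) = (k : MulAut P) (θ v) := by
      simp only [θ, map_prod]
      refine Fintype.prod_equiv
        { toFun := fun n : N => (⟨k⁻¹ * n * k, by simpa using hN.conj_mem _ n.2 k⁻¹⟩ : N)
          invFun := fun n : N => (⟨k * n * k⁻¹, hN.conj_mem _ n.2 k⟩ : N)
          left_inv := fun n => Subtype.ext (by group)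
          right_inv := fun n => Subtype.ext (by group) } _ _ fun n => ?_
      simp [mul_assoc]
    rw [this, hv', map_one]
  -- fixed points of any nontrivial element are the common fixed points
  have hcop : (Nat.card N).Coprime p := ((hp.coprime_iff_not_dvd).mpr hpN).symm
  have hker : θh.ker ≠ ⊥ := by
    intro h
    have hinj : Function.Injective θh := (MonoidHom.ker_eq_bot_iff θh).mp h
    have hsurj := Finite.surjective_of_injective hinj
    apply hn₁'
    refine MulEquiv.ext fun v => ?_
    obtain ⟨u, rfl⟩ := hsurj v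
    exact hθfix u
  have : Nontrivial θh.ker := (Subgroup.nontrivial_iff_ne_bot _).mpr hker
  obtain ⟨w, hw⟩ := (hP.to_subgroup θh.ker).exists_card_eq
  have hdvd : p ∣ Nat.card θh.ker := by
    rcases w with _ | w
    · rw [pow_zero] at hw
      exact absurd hw (Finite.one_lt_card (α := θh.ker)).ne'
    · rw [hw]; exact dvd_pow_self p (Nat.succ_ne_zero w)
  let σ : MulAut θh.ker :=
    { toFun := fun v => ⟨(k : MulAut P) v, hkinv v v.2⟩
      invFun := fun v => (Finite.surjective_of_injective
        (f := fun v : θh.ker => (⟨(k : MulAut P) v, hkinv v v.2⟩ : θh.ker))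
        (fun a b h => Subtype.ext ((k : MulAut P).injective (congrArg Subtype.val h))) v).choose
      left_inv := fun v => by
        have h := (Finite.surjective_of_injective
          (f := fun v : θh.ker => (⟨(k : MulAut P) v, hkinv v v.2⟩ : θh.ker))
          (fun a b h => Subtype.ext ((k : MulAut P).injective (congrArg Subtype.val h)))
          ⟨(k : MulAut P) v, hkinv v v.2⟩).choose_spec
        exact Subtype.ext ((k : MulAut P).injective (congrArg Subtype.val h))
      right_inv := fun v => (Finite.surjective_of_injective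
          (f := fun v : θh.ker => (⟨(k : MulAut P) v, hkinv v v.2⟩ : θh.ker))
          (fun a b h => Subtype.ext ((k : MulAut P).injective (congrArg Subtype.val h))) v).choose_spec
      map_mul' := fun a b => Subtype.ext (map_mul (k : MulAut P) (a : P) (b : P)) }
  have hσ : σ ^ p = 1 := by
    have hkp : (k : MulAut P) ^ p = 1 := by
      rw [← SubgroupClass.coe_pow, ← hk, pow_orderOf_eq_one]; rfl
    have hit : ∀ (j : ℕ) (v : θh.ker), ((σ ^ j) v : P) = ((k : MulAut P) ^ j) (v : P) := by
      intro j
      induction j with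
      | zero => intro v; rfl
      | succ j ih =>
        intro v
        rw [pow_succ', pow_succ', MulAut.mul_apply, MulAut.mul_apply]
        exact congrArg (k : MulAut P) (ih v)
    exact MulEquiv.ext fun v => Subtype.ext (by rw [hit, hkp]; rfl)
  -- a `p`-element has a nontrivial fixed point
  by_cases hσ1 : ∀ v, σ v = v → v = 1
  · have hc := Cfsg.Agent.Lib.Frobenius.card_coprime (A := Subgroup.zpowers σ)
      (Subgroup.zpowers σ).subtype (fun a ha v hv => ?_)
    · have hσne : σ ≠ 1 := fun h => by
        obtain ⟨v, hv⟩ := exists_ne (1 : θh.ker)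
        exact hv (hσ1 v (by rw [h]; rfl))
      rw [Nat.card_zpowers, orderOf_eq_prime hσ hσne] at hc
      exact Nat.not_coprime_of_dvd_of_dvd hp.one_lt dvd_rfl hdvd hc
    · have : Fact p.Prime := ⟨hp⟩
      have hσne : σ ≠ 1 := fun h => ha (Subtype.ext (by
        have := a.2
        simp only [h, Subgroup.zpowers_one_eq_bot, Subgroup.mem_bot] at this
        simpa using this))
      obtain ⟨z, hz⟩ := Subgroup.mem_zpowers_iff.mp a.2
      have hmem : σ ∈ Subgroup.zpowers (a : MulAut θh.ker) := by
        have ho : orderOf σ = p := orderOf_eq_prime hσ hσne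
        have hle : Subgroup.zpowers (a : MulAut θh.ker) ≤ Subgroup.zpowers σ :=
          Subgroup.zpowers_le.mpr a.2
        have hd := Subgroup.card_dvd_of_le hle
        rw [Nat.card_zpowers, Nat.card_zpowers, ho] at hd
        rcases hp.eq_one_or_self_of_dvd _ hd with h | h
        · exact absurd (Subtype.ext (orderOf_eq_one_iff.mp h)) ha
        · rw [Subgroup.eq_of_le_of_card_ge hle (by rw [Nat.card_zpowers, Nat.card_zpowers, ho, h])]
          exact Subgroup.mem_zpowers σ
      obtain ⟨y, hy⟩ := Subgroup.mem_zpowers_iff.mp hmem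
      refine hσ1 v ?_
      rw [← hy]
      exact (MulAction.mem_stabilizer_iff (G := MulAut θh.ker)).mp
        (zpow_mem (show (a : MulAut θh.ker) ∈ MulAction.stabilizer (MulAut θh.ker) v from hv) y)
  · push Not at hσ1
    obtain ⟨v, hv, hv1⟩ := hσ1
    have hkv : (k : MulAut P) v = v := congrArg Subtype.val hv
    have hall : ∀ n : N, ((n : K) : MulAut P) v = v := by
      intro n
      by_cases hn : ((n : K) : MulAut P) = 1
      · rw [hn]; rfl
      · exact (hfix _ _ k.2 (n : K).2 hk1 hn v).mp hkv
    have h1 : (v : P) ^ Nat.card N = 1 := by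
      have := v.2
      rw [MonoidHom.mem_ker] at this
      have h2 : θ v = 1 := this
      simpa [θ, hall, Finset.card_univ, ← Nat.card_eq_fintype_card] using h2
    refine hv1 (Subtype.ext ?_)
    obtain ⟨j, hj⟩ := hP (v : P)
    exact orderOf_eq_one_iff.mp (Nat.eq_one_of_dvd_coprimes (hcop.pow_right j)
      (orderOf_dvd_of_pow_eq_one h1) (orderOf_dvd_of_pow_eq_one hj))

end Cfsg.Agent.S4036
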