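import Cfsg.Statements.S4039
import Cfsg.Agent.Lib.Frobenius.NilpotentMaximal

set_option autoImplicit false
open Cfsg

namespace Cfsg.Agent.S4039

open Cfsg.Agent.Lib

universe u

theorem step {G : Type u} [Group G] [Finite G] {M : Subgroup G} (hmax : IsCoatom M)
    (hnil : Group.IsNilpotent M) (hcl : ∀ x y z : M, Commute (x * y * x⁻¹ * y⁻¹) z)
    (hcore : ∀ N : Subgroup G, N.Normal → N ≤ M → N = ⊥) (p : ℕ) [Fact p.Prime] (P : Sylow p G)
    (hPN : Subgroup.normalizer ((P : Subgroup G) : Set G) = M) :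
    Cfsg.HasNormalPComplement p G := by
  refine Lib.Frobenius.hasNormalPComplement_of_class_two fun R => ?_
  obtain ⟨g, rfl⟩ := MulAction.exists_smul_eq G P R
  set c := MulAut.conj g
  have heq : Subgroup.normalizer (((g • P : Sylow p G) : Subgroup G) : Set G) = M.map c.toMonoidHom := by
    rw [← hPN, Subgroup.map_normalizer_eq_of_bijective _ c.bijective]
    rfl
  rw [heq]
  haveI := hnil
  refine ⟨((MulEquiv.mapSubgroup c).isCoatom_iff M).mpr hmax,
    Group.nilpotent_of_mulEquiv (M.equivMapOfInjective c.toMonoidHom c.injective), ?_, ?_⟩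
  · rintro x y z ⟨x', hx, rfl⟩ ⟨y', hy, rfl⟩ ⟨z', hz, rfl⟩
    have h := congrArg Subtype.val (hcl ⟨x', hx⟩ ⟨y', hy⟩ ⟨z', hz⟩).eq
    have h' : Commute (x' * y' * x'⁻¹ * y'⁻¹) z' := h
    simpa only [map_mul, map_inv] using h'.map c.toMonoidHom
  · intro N hN hle
    refine hcore N hN fun x hx => ?_
    obtain ⟨y, hy, he⟩ := hle (hN.conj_mem x hx g)
    have he' : g * y * g⁻¹ = g * x * g⁻¹ := he
    rwa [← mul_left_cancel (mul_right_cancel he')]

/-- A finite group possessing a maximal subgroup that is nilpotent of class at most 2 is solvable. -/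
theorem result {G : Type*} [Group G] [Finite G]
    (M : Subgroup G) (hmax : IsCoatom M) (hnil : Group.IsNilpotent M) (hcl : Group.nilpotencyClass ↥M ≤ 2) :
    Group.IsSolvable G := by

  refine Lib.Frobenius.isSolvable_of_coatom_of_step
    (fun H _ => ∀ x y z : H, Commute (x * y * x⁻¹ * y⁻¹) z) ?_ ?_ hmax hnil ?_
  · intro H K _ _ f hf h x y z
    obtain ⟨x, rfl⟩ := hf x
    obtain ⟨y, rfl⟩ := hf y
    obtain ⟨z, rfl⟩ := hf z
    simpa only [map_mul, map_inv] using (h x y z).map f
  · intro H _ _ M hmax hnil hM hcore p _ P _ _ hPN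
    exact step hmax hnil hM hcore p P hPN
  · haveI := hnil
    intro x y z
    have h2 : Subgroup.upperCentralSeries ↥M 2 = ⊤ :=
      Subgroup.upperCentralSeries_eq_top_iff_nilpotencyClass_le.mpr hcl
    have h := (Subgroup.mem_upperCentralSeries_succ_iff).mp (h2.ge (Subgroup.mem_top x)) y
    rw [Subgroup.upperCentralSeries_one, Subgroup.mem_center_iff] at h
    exact (h z).symm

end Cfsg.Agent.S4039
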