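import Cfsg.Statements.S4040
import Cfsg.Agent.Lib.Frobenius.NilpotentMaximal
import Cfsg.Agent.Lib.PLocal.ZJElem
import Cfsg.Agent.Lib.OddLocal.Uniqueness

set_option autoImplicit false
open Cfsg

namespace Cfsg.Agent.S4040

open Cfsg.Agent.Lib

universe u

/-- A finite group possessing a maximal subgroup that is nilpotent of odd order is solvable. -/
theorem result {G : Type*} [Group G] [Finite G]
    (M : Subgroup G) (hmax : IsCoatom M) (hnil : Group.IsNilpotent M) (hodd : Odd (Nat.card M)) :
    Group.IsSolvable G := by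

  refine Lib.Frobenius.isSolvable_of_coatom_of_step (fun H _ => Odd (Nat.card H)) ?_ ?_ hmax hnil hodd
  · intro H K _ _ f hf h
    exact Odd.of_dvd_nat h (Subgroup.card_dvd_of_surjective f hf)
  · intro H _ _ M hmax hnil hM hcore p _ P hPM hPb hPN
    haveI := hnil
    have hp2 : p ≠ 2 := by
      rintro rfl
      refine hPb (Subgroup.card_eq_one.mp ?_)
      obtain ⟨n, hn⟩ := IsPGroup.iff_card.mp P.2
      rcases Nat.eq_zero_or_pos n with rfl | hn0
      · simpa using hn
      · exact absurd (Odd.of_dvd_nat hM ((dvd_pow_self 2 hn0.ne').trans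
          (hn ▸ Subgroup.card_dvd_of_le hPM))) (by decide)
    refine Lib.PLocal.npc_zjE hp2 P ?_
    rw [Lib.PLocal.centerThompsonOf_eq_jZ]
    have hMle : M ≤ Subgroup.normalizer (Lib.OddLocal.jZ p (P : Subgroup H) : Set H) :=
      hPN.ge.trans (Lib.OddLocal.normalizer_le_normalizer_jZ p _)
    have heq : Subgroup.normalizer (Lib.OddLocal.jZ p (P : Subgroup H) : Set H) = M := by
      refine (hmax.le_iff.mp hMle).resolve_left fun htop => Lib.OddLocal.jZ_ne_bot P.2 hPb ?_
      exact hcore _ (Subgroup.normalizer_eq_top_iff.mp htop) ((Lib.OddLocal.jZ_le _).trans hPM)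
    rw [heq]
    exact Lib.Solvable.FixedPointFree.hasNormalPComplement_of_isNilpotent p

end Cfsg.Agent.S4040
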