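import Cfsg.Statements.S4043
import Cfsg.Agent.Lib.Coprime.SchurZassenhaus
import Cfsg.Agent.Lib.Involutions.BaerSuzuki
import Mathlib.GroupTheory.Nilpotent
import Mathlib.Tactic

set_option autoImplicit false
open Cfsg

namespace Cfsg.Agent.S4043

open Cfsg.Agent.Lib
open scoped Pointwise

/-- The `p`-complement of a subgroup, as a subgroup of `G`. -/
theorem exists_compl {G : Type*} [Group G] [Finite G] {p : ℕ} [hp : Fact p.Prime] {A : Subgroup G}
    (h : Cfsg.HasNormalPComplement p A) :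
    ∃ K P : Subgroup G, K ≤ A ∧ P ≤ A ∧ IsPGroup p P ∧ (Nat.card K).Coprime p ∧
      A ≤ Subgroup.normalizer (K : Set G) ∧ K ⊔ P = A ∧
      Nat.card K = Nat.card A / p ^ (Nat.card A).factorization p := by
  obtain ⟨Q, N, hN, hc⟩ := h
  refine ⟨N.map A.subtype, (Q : Subgroup A).map A.subtype, Subgroup.map_subtype_le _,
    Subgroup.map_subtype_le _, Q.isPGroup'.map _, ?_, ?_, ?_, ?_⟩
  · rw [Subgroup.card_subtype, Nat.coprime_comm, Nat.Prime.coprime_iff_not_dvd hp.out]
    intro hd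
    exact Q.not_dvd_index (hc.index_eq_card.symm ▸ hd)
  · intro a ha
    rw [Subgroup.mem_normalizer_iff]
    intro x
    constructor
    · rintro ⟨w, hw, rfl⟩
      exact ⟨⟨a, ha⟩ * w * ⟨a, ha⟩⁻¹, hN.conj_mem w hw _, rfl⟩
    · rintro ⟨w, hw, hwe⟩
      refine ⟨⟨a, ha⟩⁻¹ * w * ⟨a, ha⟩⁻¹⁻¹, hN.conj_mem w hw _, ?_⟩
      have hwe' : (w : G) = a * x * a⁻¹ := hwe
      show a⁻¹ * (w : G) * a⁻¹⁻¹ = x
      rw [hwe']; group
  · rw [← Subgroup.map_sup, hc.sup_eq_top, ← MonoidHom.range_eq_map, Subgroup.range_subtype]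
  · have h1 := hc.card_mul
    rw [Q.card_eq_multiplicity] at h1
    rw [Subgroup.card_subtype]
    exact (Nat.div_eq_of_eq_mul_left (pow_pos hp.out.pos _) h1.symm).symm

/-- Let G be a finite group that is the semidirect product of a normal p-subgroup N by a subgroup A, and also of N by a subgroup A₁, where p is a prime and A and A₁ both have normal p-complements. If C_N(A) = C_N(A₁) = 1, then A₁ is conjugate to A by an element of N. -/
theorem result {G : Type*} [Group G] [Finite G] {p : ℕ}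
    [Fact p.Prime] (N : Subgroup G) [N.Normal] (hN : IsPGroup p N) (A A₁ : Subgroup G)
    (hA : A.IsComplement' N) (hA₁ : A₁.IsComplement' N)
    (hAp : Cfsg.HasNormalPComplement p A) (hA₁p : Cfsg.HasNormalPComplement p A₁)
    (hC : ∀ n : G, n ∈ N → (∀ a : G, a ∈ A → a * n * a⁻¹ = n) → n = 1)
    (hC₁ : ∀ n : G, n ∈ N → (∀ a : G, a ∈ A₁ → a * n * a⁻¹ = n) → n = 1) :
    ∃ n : G, n ∈ N ∧ A₁ = A.map (MulAut.conj n).toMonoidHom := by
  have hp := (Fact.out : p.Prime)
  obtain ⟨K, P, hKA, hPA, hPp, hKp, hAK, hKP, hKc⟩ := exists_compl hAp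
  obtain ⟨K₁, P₁, hK₁A, -, -, hK₁p, hA₁K, -, hK₁c⟩ := exists_compl hA₁p
  have hcardA : Nat.card A₁ = Nat.card A := by
    have h1 := hA.card_mul
    have h2 := hA₁.card_mul
    exact Nat.eq_of_mul_eq_mul_right Nat.card_pos (h2.trans h1.symm)
  obtain ⟨e, he⟩ := IsPGroup.iff_card.mp hN
  haveI hNsol : Group.IsSolvable N := by haveI := hN.isNilpotent; infer_instance
  set L := N ⊔ K with hL
  have hAN : A ⊔ N = ⊤ := hA.sup_eq_top
  haveI hLn : L.Normal := by
    rw [← Subgroup.normalizer_eq_top_iff, eq_top_iff, ← hAN]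
    refine sup_le ?_ (le_sup_left.trans Subgroup.le_normalizer)
    intro a ha
    rw [Involutions.mem_normalizer_iff_map_conj, hL, Subgroup.map_sup,
      Involutions.mem_normalizer_iff_map_conj.mp (hAK ha),
      Involutions.mem_normalizer_iff_map_conj.mp (Subgroup.normalizer_eq_top N ▸ Subgroup.mem_top a)]
  have hK₁L : K₁ ≤ N ⊔ K := by
    intro k hk
    rw [← hL, ← QuotientGroup.eq_one_iff, ← orderOf_eq_one_iff]
    obtain ⟨i, hi⟩ := IsPGroup.iff_card.mp hPp
    refine Nat.eq_one_of_dvd_coprimes (a := Nat.card K₁) (b := p ^ i) (hK₁p.pow_right i)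
      ((orderOf_map_dvd (QuotientGroup.mk' L) k).trans (Subgroup.orderOf_dvd_natCard _ hk)) ?_
    refine (orderOf_dvd_natCard _).trans ?_
    rw [← hi]
    have hsurj : Function.Surjective ((QuotientGroup.mk' L).comp P.subtype) := by
      intro y
      obtain ⟨g, rfl⟩ := QuotientGroup.mk'_surjective L y
      have hg : g ∈ (P ⊔ L : Subgroup G) := by
        have : (⊤ : Subgroup G) ≤ P ⊔ L := by
          rw [← hAN, ← hKP, hL]
          refine sup_le (sup_le ?_ le_sup_left) ?_
          · exact le_sup_of_le_right le_sup_right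
          · exact le_sup_of_le_right le_sup_left
        exact this (Subgroup.mem_top g)
      rw [← SetLike.mem_coe, Subgroup.mul_normal] at hg
      obtain ⟨u, hu, l, hl, rfl⟩ := hg
      refine ⟨⟨u, hu⟩, ?_⟩
      have hl1 : QuotientGroup.mk' L l = 1 := (QuotientGroup.eq_one_iff l).mpr hl
      rw [map_mul, hl1, mul_one]; rfl
    exact Subgroup.card_dvd_of_surjective _ hsurj
  have hcop : (Nat.card N).Coprime (Nat.card K) := he ▸ hKp.symm.pow_left e
  obtain ⟨n, hn, hnK⟩ := Coprime.exists_conj_eq_of_le_sup (N := N) (H := K) (K := K₁)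
    Subgroup.le_normalizer_of_normal hcop (Or.inl hNsol) (by rw [hKc, hK₁c, hcardA]) hK₁L
  refine ⟨n, hn, ?_⟩
  have hM : ∀ x ∈ N, x ∈ Subgroup.centralizer (K : Set G) → x = 1 := by
    intro x hxN hxC
    by_contra hx1
    set M := N ⊓ Subgroup.centralizer (K : Set G)
    have hPM : ∀ q ∈ P, ∀ m ∈ M, q * m * q⁻¹ ∈ M := by
      intro q hq m hm
      refine Subgroup.mem_inf.mpr ⟨(inferInstance : N.Normal).conj_mem m hm.1 q, ?_⟩
      rw [Subgroup.mem_centralizer_iff]
      intro k hk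
      have h1 := Subgroup.mem_centralizer_iff.mp hm.2 (q⁻¹ * k * q)
        ((Subgroup.mem_normalizer_iff''.mp (hAK (hPA hq)) k).mp hk)
      calc k * (q * m * q⁻¹) = q * (q⁻¹ * k * q * m) * q⁻¹ := by group
        _ = q * (m * (q⁻¹ * k * q)) * q⁻¹ := by rw [h1]
        _ = q * m * q⁻¹ * k := by group
    letI : MulAction P M :=
      { smul := fun q m => ⟨q * m * (q : G)⁻¹, hPM q q.2 m m.2⟩
        one_smul := fun m => Subtype.ext (by show (1 : G) * m * (1 : G)⁻¹ = m; simp)
        mul_smul := fun a b m => Subtype.ext (by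
          show ((a : G) * b) * m * ((a : G) * b)⁻¹ = a * (b * m * (b : G)⁻¹) * (a : G)⁻¹; group) }
    have hMdvd : p ∣ Nat.card M := by
      obtain ⟨j, hj⟩ := IsPGroup.iff_card.mp (hN.to_le (inf_le_left : M ≤ N))
      have hj0 : j ≠ 0 := fun h0 => hx1 (by
        have h := Subgroup.card_eq_one.mp (show Nat.card M = 1 by rw [hj, h0, pow_zero])
        have hx : x ∈ M := ⟨hxN, hxC⟩
        rwa [h, Subgroup.mem_bot] at hx)
      exact hj ▸ dvd_pow_self p hj0
    obtain ⟨m, hm, hm1⟩ := hPp.exists_fixed_point_of_prime_dvd_card_of_fixed_point M hMdvd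
      (a := (1 : M)) (fun q => Subtype.ext (by show (q : G) * 1 * (q : G)⁻¹ = 1; simp))
    refine hm1 (Subtype.ext (hC m m.2.1 fun a ha => ?_).symm)
    have hle : K ⊔ P ≤ Subgroup.centralizer ({(m : G)} : Set G) := sup_le
      (fun k hk => Subgroup.mem_centralizer_singleton_iff.mpr (Subgroup.mem_centralizer_iff.mp m.2.2 k hk))
      (fun q hq => Subgroup.mem_centralizer_singleton_iff.mpr
        (mul_inv_eq_iff_eq_mul.mp (congrArg Subtype.val (hm ⟨q, hq⟩) :)))
    rw [Subgroup.mem_centralizer_singleton_iff.mp (hle (hKP.symm ▸ ha)), mul_inv_cancel_right]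
  have hNK : Subgroup.normalizer (K : Set G) = A := by
    refine le_antisymm (fun g hg => ?_) hAK
    have hg' : g ∈ A ⊔ N := hAN ▸ Subgroup.mem_top g
    rw [← SetLike.mem_coe, Subgroup.mul_normal] at hg'
    obtain ⟨a, ha, x, hx, rfl⟩ := hg'
    have hxK : x ∈ Subgroup.normalizer (K : Set G) := by
      have := mul_mem (inv_mem (hAK ha)) hg
      simpa using this
    have hxC : x ∈ Subgroup.centralizer (K : Set G) := by
      rw [Subgroup.mem_centralizer_iff]
      intro k hk
      have h1 : x * k * x⁻¹ * k⁻¹ ∈ K :=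
        mul_mem ((Subgroup.mem_normalizer_iff.mp hxK k).mp hk) (inv_mem hk)
      have h2 : x * k * x⁻¹ * k⁻¹ ∈ N := by
        rw [mul_assoc, mul_assoc]
        exact mul_mem hx (by simpa [mul_assoc] using (inferInstance : N.Normal).conj_mem _ (inv_mem hx) k)
      have h3 : x * k * x⁻¹ * k⁻¹ = 1 :=
        orderOf_eq_one_iff.mp (Nat.eq_one_of_dvd_coprimes hcop (Subgroup.orderOf_dvd_natCard N h2)
          (Subgroup.orderOf_dvd_natCard K h1))
      exact (mul_inv_eq_iff_eq_mul.mp (mul_inv_eq_one.mp h3)).symm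
    simpa [hM x hx hxC] using ha
  refine Subgroup.eq_of_le_of_card_ge ?_ ?_
  · intro a ha
    have h1 : a ∈ Subgroup.normalizer (K₁ : Set G) := hA₁K ha
    rw [Involutions.mem_normalizer_iff_map_conj] at h1
    refine ⟨n⁻¹ * a * n, ?_, by show n * (n⁻¹ * a * n) * n⁻¹ = a; group⟩
    rw [SetLike.mem_coe, ← hNK, Involutions.mem_normalizer_iff_map_conj]
    have h2 : ∀ (g : G) (S : Subgroup G), S.map (MulAut.conj g).toMonoidHom = MulAut.conj g • S := fun g S => rfl
    rw [h2] at h1 ⊢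
    rw [← hnK, ← mul_smul, ← map_mul] at h1
    rw [map_mul, map_mul, map_inv, mul_smul, mul_smul, inv_smul_eq_iff, ← mul_smul, ← map_mul, h1]
  · rw [hcardA, Subgroup.card_map_of_injective (MulAut.conj n).injective]

end Cfsg.Agent.S4043
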