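import Cfsg.Statements.S4049
import Cfsg.Agent.S4027

set_option autoImplicit false
open Cfsg

namespace Cfsg.Agent.S4049

theorem normal_centralizer_subgroupOf {G : Type*} [Group G] (H : Subgroup G) :
    ((Subgroup.centralizer (H : Set G)).subgroupOf (Subgroup.normalizer (H : Set G))).Normal := by
  refine ⟨fun c hc g => ?_⟩
  rw [Subgroup.mem_subgroupOf, Subgroup.mem_centralizer_iff] at hc ⊢
  intro h hh
  have h1 : (g : G)⁻¹ * h * g ∈ H := (Subgroup.mem_normalizer_iff''.mp g.2 h).mp hh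
  have h2 := hc _ h1
  calc h * ((g : G) * c * (g : G)⁻¹) = g * ((g : G)⁻¹ * h * g * c) * (g : G)⁻¹ := by group
    _ = g * (c * ((g : G)⁻¹ * h * g)) * (g : G)⁻¹ := by rw [h2]
    _ = (g : G) * c * (g : G)⁻¹ * h := by group

/-- Let G be a finite group such that N_G(H)/C_G(H) has odd order for every nontrivial subgroup H of odd order. Then the Sylow 2-subgroups of G are normal. -/
theorem result {G : Type*} [Group G] [Finite G]
    (hhom : ∀ H : Subgroup G, H ≠ ⊥ → ¬ 2 ∣ Nat.card ↥H →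
        ¬ 2 ∣ (Subgroup.centralizer (H : Set G)).relIndex (Subgroup.normalizer (H : Set G))) (P : Sylow 2 G) :
    (P : Subgroup G).Normal := by
  refine Cfsg.Agent.S4027.sylow_two_normal (fun x n hx hx1 h => ?_) P
  have hmem : n ∈ Subgroup.normalizer ((Subgroup.zpowers x : Subgroup G) : Set G) := by
    rw [Cfsg.Agent.Lib.Involutions.mem_normalizer_iff_map_conj, MonoidHom.map_zpowers]
    show Subgroup.zpowers (n * x * n⁻¹) = _
    rw [h, Subgroup.zpowers_inv]
  have hodd := hhom (Subgroup.zpowers x) (fun hb => hx1 (Subgroup.zpowers_eq_bot.mp hb))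
    (by rwa [Nat.card_zpowers])
  set C := (Subgroup.centralizer ((Subgroup.zpowers x : Subgroup G) : Set G)).subgroupOf
    (Subgroup.normalizer ((Subgroup.zpowers x : Subgroup G) : Set G))
  haveI : C.Normal := normal_centralizer_subgroupOf _
  have h2 : (⟨n, hmem⟩ : Subgroup.normalizer ((Subgroup.zpowers x : Subgroup G) : Set G)) ^ 2 ∈ C := by
    show n ^ 2 ∈ Subgroup.centralizer ((Subgroup.zpowers x : Subgroup G) : Set G)
    rw [Subgroup.mem_centralizer_iff]
    rintro w ⟨k, rfl⟩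
    have e1 : n ^ 2 * x * (n ^ 2)⁻¹ = x := by
      rw [sq, show n * n * x * (n * n)⁻¹ = n * (n * x * n⁻¹) * n⁻¹ by group, h,
        show n * x⁻¹ * n⁻¹ = (n * x * n⁻¹)⁻¹ by group, h, inv_inv]
    exact (Commute.zpow_left (show Commute x (n ^ 2) from (mul_inv_eq_iff_eq_mul.mp e1).symm) k).eq
  have hn : (⟨n, hmem⟩ : Subgroup.normalizer ((Subgroup.zpowers x : Subgroup G) : Set G)) ∈ C := by
    rw [← QuotientGroup.eq_one_iff, ← orderOf_eq_one_iff]
    refine Nat.eq_one_of_dvd_coprimes (a := 2) (b := C.index)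
      ((Nat.Prime.coprime_iff_not_dvd Nat.prime_two).mpr hodd) ?_ ?_
    · refine orderOf_dvd_of_pow_eq_one ?_
      rw [← QuotientGroup.mk_pow, QuotientGroup.eq_one_iff]
      exact h2
    · rw [Subgroup.index_eq_card]; exact orderOf_dvd_natCard _
  have hc : n * x = x * n := (Subgroup.mem_centralizer_iff.mp
    (show n ∈ Subgroup.centralizer ((Subgroup.zpowers x : Subgroup G) : Set G) from hn) x
    (Subgroup.mem_zpowers x)).symm
  rw [hc, mul_inv_cancel_right] at h
  have h3 : orderOf x ∣ 2 := orderOf_dvd_of_pow_eq_one (by rw [sq]; exact mul_eq_one_iff_eq_inv.mpr h)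
  rcases (Nat.dvd_prime Nat.prime_two).mp h3 with h4 | h4
  · exact hx1 (orderOf_eq_one_iff.mp h4)
  · exact hx (h4 ▸ dvd_rfl)

end Cfsg.Agent.S4049
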