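import Cfsg.Statements.S4050
import Cfsg.Agent.Lib.FusionControl.PiClosed

set_option autoImplicit false
open Cfsg

namespace Cfsg.Agent.S4050

open Cfsg.Agent.Lib.FusionControl in
theorem closed_of_series {G : Type*} [Group G] [Finite G] {π : Set ℕ} (hh : PiClosed.Hom π G)
    {n : ℕ} (H : Fin (n + 1) → Subgroup G) (h0 : H 0 = ⊥) (hmono : Monotone H)
    (hn : ∀ i, (H i).Normal)
    (hf : ∀ i : Fin n, (∀ q : ℕ, q.Prime → q ∣ (H i.castSucc).relIndex (H i.succ) → q ∈ π) ∨
        (∀ q : ℕ, q.Prime → q ∣ (H i.castSucc).relIndex (H i.succ) → q ∉ π)) :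
    ∀ i, PiClosed.Closed π ↥(H i) := by
  intro i
  induction i using Fin.induction with
  | zero =>
    refine PiClosed.closed_of_card_trivial fun p hp hd => ?_
    rw [h0, Subgroup.card_bot] at hd
    exact absurd (Nat.dvd_one.mp hd) hp.ne_one
  | succ i ih =>
    have := hn i.castSucc
    refine PiClosed.closed_extension (hh.subgroup _) ((H i.castSucc).subgroupOf (H i.succ))
      (ih.of_mulEquiv (Subgroup.subgroupOfEquivOfLe (hmono (Fin.castSucc_le_succ i)))) ?_
    rcases hf i with h | h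
    · exact PiClosed.closed_of_card_trivial h
    · exact PiClosed.closed_of_card_prime' h

/-- Let π be a set of primes and G a finite group. The π-elements of G (elements whose order is divisible only by primes of π) form a subgroup if and only if G is π-separable (it has a chain of normal subgroups from 1 to G with each successive index divisible only by primes in π or only by primes outside π) and N_G(H)/C_G(H) is a π'-group for every nontrivial π'-subgroup H of G. -/
theorem result {G : Type*} [Group G] [Finite G] (π : Set ℕ)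
    (hπ : ∀ p ∈ π, p.Prime) :
    (∃ K : Subgroup G, ∀ x : G, x ∈ K ↔ ∀ p : ℕ, p.Prime → p ∣ orderOf x → p ∈ π) ↔
    ((∃ (n : ℕ) (H : Fin (n + 1) → Subgroup G), H 0 = ⊥ ∧ H (Fin.last n) = ⊤ ∧ Monotone H ∧ (∀ i, (H i).Normal) ∧
      ∀ i : Fin n, (∀ q : ℕ, q.Prime → q ∣ (H i.castSucc).relIndex (H i.succ) → q ∈ π) ∨
        (∀ q : ℕ, q.Prime → q ∣ (H i.castSucc).relIndex (H i.succ) → q ∉ π)) ∧
     (∀ H : Subgroup G, H ≠ ⊥ → (∀ p : ℕ, p.Prime → p ∣ Nat.card ↥H → p ∉ π) →
        ∀ p : ℕ, p.Prime → p ∣ (Subgroup.centralizer (H : Set G)).relIndex (Subgroup.normalizer (H : Set G)) → p ∉ π)) := by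
  constructor
  · rintro ⟨K, hK⟩
    have hKn : K.Normal := ⟨fun x hx g => by
      rw [hK] at hx ⊢
      intro p hp hd
      rw [show g * x * g⁻¹ = MulAut.conj g x from rfl, MulEquiv.orderOf_eq] at hd
      exact hx p hp hd⟩
    have hKπ : ∀ p : ℕ, p.Prime → p ∣ Nat.card K → p ∈ π := by
      intro p hp hd
      have : Fact p.Prime := ⟨hp⟩
      obtain ⟨z, hz⟩ := exists_prime_orderOf_dvd_card' p hd
      exact (hK _).mp z.2 p hp (by rw [Subgroup.orderOf_coe, hz])
    have hKi : ∀ p : ℕ, p.Prime → p ∣ K.index → p ∉ π := by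
      intro p hp hd hpπ
      have : Fact p.Prime := ⟨hp⟩
      obtain ⟨S⟩ : Nonempty (Sylow p G) := inferInstance
      refine S.not_dvd_index (hd.trans (Subgroup.index_dvd_of_le fun y hy => (hK y).mpr ?_))
      intro q hq hqd
      obtain ⟨k, hk⟩ := IsPGroup.iff_orderOf.mp S.2 ⟨y, hy⟩
      rw [Subgroup.orderOf_mk] at hk
      rw [hk] at hqd
      rwa [(Nat.prime_dvd_prime_iff_eq hq hp).mp (hq.dvd_of_dvd_pow hqd)]
    refine ⟨⟨2, ![⊥, K, ⊤], rfl, rfl, ?_, ?_, ?_⟩, ?_⟩
    · refine Fin.monotone_iff_le_succ.mpr fun i => ?_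
      fin_cases i <;> simp
    · intro i
      fin_cases i <;> simp <;> infer_instance
    · intro i
      fin_cases i
      · left; simpa using hKπ
      · right; simpa using hKi
    · intro H _ hH p hp hd hpπ
      have : Fact p.Prime := ⟨hp⟩
      obtain ⟨g, hgN, ⟨k, hk⟩, hgC⟩ :=
        Cfsg.Agent.Lib.FusionControl.PiClosed.exists_primary hd
      refine hgC (Subgroup.mem_centralizer_iff.mpr fun y hy => ?_)
      have hgK : g ∈ K := (hK g).mpr fun q hq hqd => by
        rw [hk] at hqd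
        rwa [(Nat.prime_dvd_prime_iff_eq hq hp).mp (hq.dvd_of_dvd_pow hqd)]
      have hbot : K ⊓ H = ⊥ := by
        refine Subgroup.inf_eq_bot_of_coprime (Nat.coprime_of_dvd fun q hq h1 h2 => hH q hq h2 (hKπ q hq h1))
      have h1 : g * y * g⁻¹ * y⁻¹ ∈ H :=
        mul_mem ((Subgroup.mem_normalizer_iff.mp hgN y).mp hy) (inv_mem hy)
      have h2 : g * y * g⁻¹ * y⁻¹ ∈ K := by
        rw [mul_assoc, mul_assoc, ← mul_assoc y g⁻¹ y⁻¹]
        exact mul_mem hgK (hKn.conj_mem _ (inv_mem hgK) y)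
      have h3 : g * y * g⁻¹ * y⁻¹ ∈ (⊥ : Subgroup G) := hbot ▸ (⟨h2, h1⟩ : _ ∈ K ⊓ H)
      rw [Subgroup.mem_bot, mul_inv_eq_one, mul_inv_eq_iff_eq_mul] at h3
      exact h3.symm
  · rintro ⟨⟨n, H, h0, hl, hmono, hn, hf⟩, hhom⟩
    have := closed_of_series (Cfsg.Agent.Lib.FusionControl.PiClosed.hom_of_index hhom) H h0 hmono hn hf
      (Fin.last n)
    rw [hl] at this
    exact this.of_mulEquiv Subgroup.topEquiv.symm

end Cfsg.Agent.S4050
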