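import Cfsg.Statements.S4056
import Cfsg.Agent.Lib.Cores.Frattini
import Mathlib.GroupTheory.Nilpotent

set_option autoImplicit false
open Cfsg

namespace Cfsg.Agent.S4056

theorem exists_coatom_not_mem {E : Type*} [Group E] [Finite E] (hsq : ∀ e : E, e ^ 2 = 1)
    (y : E) (hy : y ≠ 1) : ∃ M : Subgroup E, IsCoatom M ∧ y ∉ M := by
  have hcomm : ∀ a b : E, a * b = b * a := fun a b => by
    have hi : ∀ e : E, e⁻¹ = e := fun e => inv_eq_of_mul_eq_one_right (by rw [← sq]; exact hsq e)
    calc a * b = (a * b)⁻¹ := (hi _).symm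
      _ = b⁻¹ * a⁻¹ := mul_inv_rev a b
      _ = b * a := by rw [hi, hi]
  obtain ⟨M, -, hM⟩ := (Finite.exists_le_maximal (α := Subgroup E) (p := fun K => y ∉ K) (a := ⊥)
    (by simpa using hy))
  refine ⟨M, ⟨fun h => hM.1 (h ▸ Subgroup.mem_top y), fun L hL => ?_⟩, hM.1⟩
  rw [eq_top_iff]
  intro z _
  have hyL : y ∈ L := by
    by_contra h
    exact hL.not_ge (hM.2 h hL.le)
  by_cases hzM : z ∈ M
  · exact hL.le hzM
  have hz : y ∈ M ⊔ Subgroup.zpowers z := by
    by_contra h
    exact hzM (hM.2 h le_sup_left (Subgroup.mem_sup_right (Subgroup.mem_zpowers z)))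
  haveI : M.Normal := ⟨fun a ha g => by rwa [hcomm g a, mul_inv_cancel_right]⟩
  rw [← SetLike.mem_coe, Subgroup.normal_mul] at hz
  obtain ⟨m, hm, w, hw, hmw⟩ := Set.mem_mul.mp hz
  obtain ⟨j, rfl⟩ := Subgroup.mem_zpowers_iff.mp hw
  rcases Int.even_or_odd' j with ⟨c, rfl | rfl⟩
  · exfalso
    rw [zpow_mul, show z ^ (2 : ℤ) = 1 by exact_mod_cast hsq z, one_zpow, mul_one] at hmw
    exact hM.1 (hmw ▸ hm)
  · rw [zpow_add_one, zpow_mul, show z ^ (2 : ℤ) = 1 by exact_mod_cast hsq z, one_zpow, one_mul] at hmw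
    have : z = m⁻¹ * y := by rw [← hmw]; group
    rw [this]
    exact L.mul_mem (L.inv_mem (hL.le hm)) hyL

/-- In a finite 2-group of nilpotency class at most 2 and exponent dividing 4, the Frattini subgroup lies in the centre and is elementary abelian. -/
theorem result {P : Type*} [Group P] [Finite P] (hP : IsPGroup 2 P)
    (hcl : Group.nilpotencyClass P ≤ 2) (hexp : Monoid.exponent P ∣ 4) :
    frattini P ≤ Subgroup.center P ∧ Cfsg.IsElementaryAbelian 2 (frattini P) := by
  open scoped commutatorElement in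
  haveI : Fact (Nat.Prime 2) := ⟨Nat.prime_two⟩
  haveI : Group.IsNilpotent P := hP.isNilpotent
  have hc : ∀ a b : P, ⁅a, b⁆ ∈ Subgroup.center P := by
    intro a b
    rw [Subgroup.mem_center_iff]
    intro g
    have h2 : Subgroup.lowerCentralSeries (⊤ : Subgroup P) 2 = ⊥ :=
      (Subgroup.lowerCentralSeries_eq_bot_iff_nilpotencyClass_le).mpr hcl
    have h1 : ⁅a, b⁆ ∈ Subgroup.lowerCentralSeries (⊤ : Subgroup P) 1 := by
      rw [Subgroup.lowerCentralSeries_succ, Subgroup.lowerCentralSeries_zero]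
      exact Subgroup.commutator_mem_commutator trivial trivial
    have h3 : ⁅⁅a, b⁆, g⁆ ∈ Subgroup.lowerCentralSeries (⊤ : Subgroup P) 2 := by
      rw [Subgroup.lowerCentralSeries_succ]
      exact Subgroup.commutator_mem_commutator h1 trivial
    rw [h2, Subgroup.mem_bot, commutatorElement_eq_one_iff_mul_comm] at h3
    exact h3.symm
  have hx4 : ∀ x : P, x ^ 4 = 1 := fun x => orderOf_dvd_iff_pow_eq_one.mp
    ((Monoid.order_dvd_exponent x).trans hexp)
  have hcomm2 : ∀ a b : P, ⁅a, b⁆ ^ 2 = 1 := by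
    intro a b
    set c := ⁅a, b⁆ with hcdef
    have hcc : ∀ g, Commute c g := fun g => (Subgroup.mem_center_iff.mp (hc a b) g).symm
    have hab : a * b = c * (b * a) := by rw [hcdef, commutatorElement_def]; group
    have e2 : (b * a) * (b * a) = b * b * (a * a) * c := by
      calc (b * a) * (b * a) = b * (a * b) * a := by group
        _ = b * (c * (b * a)) * a := by rw [hab]
        _ = c * (b * b * (a * a)) := by
            rw [← mul_assoc b c, ← (hcc b).eq]; simp only [mul_assoc]
        _ = b * b * (a * a) * c := (hcc _).eq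
    have e3 : a * a * b = c * c * (b * (a * a)) := by
      calc a * a * b = a * (a * b) := by group
        _ = a * (c * (b * a)) := by rw [hab]
        _ = c * (a * b * a) := by rw [← mul_assoc, ← (hcc a).eq]; simp only [mul_assoc]
        _ = c * (c * (b * a) * a) := by rw [hab]
        _ = c * c * (b * (a * a)) := by simp only [mul_assoc]
    have e4 : a * a * (b * b) = c * c * (c * c) * (b * b * (a * a)) := by
      calc a * a * (b * b) = a * a * b * b := by group
        _ = c * c * (b * (a * a * b)) := by (conv_lhs => rw [e3]); simp only [mul_assoc]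
        _ = c * c * (b * (c * c * (b * (a * a)))) := by rw [e3]
        _ = c * c * (c * c) * (b * b * (a * a)) := by
            rw [← mul_assoc b (c * c), ← ((hcc b).mul_left (hcc b)).eq]; simp only [mul_assoc]
    have hc4 : c * c * (c * c) = 1 := by
      have h := hx4 c
      rwa [pow_succ, pow_succ, pow_succ, pow_one, mul_assoc (c * c)] at h
    rw [hc4, one_mul] at e4
    have h4 := hx4 (b * a)
    have e5 : (b * a) ^ 4 = (b * b) * (b * b) * ((a * a) * (a * a)) * (c * c) := by
      calc (b * a) ^ 4 = (b * a) * (b * a) * ((b * a) * (b * a)) := by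
            simp only [pow_succ, pow_zero, one_mul, mul_assoc]
        _ = b * b * (a * a) * c * (b * b * (a * a) * c) := by rw [e2]
        _ = b * b * (a * a) * (b * b * (a * a)) * (c * c) := by
            rw [mul_assoc (b * b * (a * a)) c, ← mul_assoc c, (hcc _).eq]; simp only [mul_assoc]
        _ = b * b * (a * a * (b * b)) * (a * a) * (c * c) := by simp only [mul_assoc]
        _ = (b * b) * (b * b) * ((a * a) * (a * a)) * (c * c) := by rw [e4]; simp only [mul_assoc]
    have hsq : ∀ g : P, g * g * (g * g) = 1 := fun g => by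
      have h := hx4 g
      rwa [pow_succ, pow_succ, pow_succ, pow_one, mul_assoc (g * g)] at h
    rw [h4, hsq, hsq, one_mul, one_mul] at e5
    rw [sq]; exact e5.symm
  have hsqc : ∀ x : P, x ^ 2 ∈ Subgroup.center P := by
    intro x
    rw [Subgroup.mem_center_iff]
    intro g
    have hcc : Commute ⁅x, g⁆ x := (Subgroup.mem_center_iff.mp (hc x g) x).symm
    have hxg : x * g = ⁅x, g⁆ * (g * x) := by rw [commutatorElement_def]; group
    calc g * x ^ 2 = g * x * x := by rw [sq, mul_assoc]
      _ = ⁅x, g⁆ ^ 2 * (g * x * x) := by rw [hcomm2, one_mul]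
      _ = ⁅x, g⁆ * (⁅x, g⁆ * (g * x) * x) := by simp only [sq, mul_assoc]
      _ = ⁅x, g⁆ * (x * g * x) := by rw [hxg]
      _ = x * (⁅x, g⁆ * (g * x)) := by simp only [← mul_assoc]; rw [hcc.eq]
      _ = x * (x * g) := by rw [hxg]
      _ = x ^ 2 * g := by rw [sq, mul_assoc]
  set S := Subgroup.closure (Set.range fun x : P => x ^ 2) with hS
  have hSc : S ≤ Subgroup.center P :=
    (Subgroup.closure_le _).mpr (by rintro _ ⟨x, rfl⟩; exact hsqc x)
  haveI hSn : S.Normal := ⟨fun a ha g => by
    rwa [Subgroup.mem_center_iff.mp (hSc ha) g, mul_inv_cancel_right]⟩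
  have hΦ : frattini P ≤ S := by
    intro z hz
    by_contra hzS
    have hsq : ∀ e : P ⧸ S, e ^ 2 = 1 := fun e => by
      induction e using Quotient.inductionOn' with
      | h x => exact (QuotientGroup.eq_one_iff (x ^ 2)).mpr (Subgroup.subset_closure ⟨x, rfl⟩)
    obtain ⟨M, hM, hzM⟩ := exists_coatom_not_mem hsq (z : P ⧸ S)
      (fun h => hzS ((QuotientGroup.eq_one_iff z).mp h))
    refine hzM (frattini_le_coatom hM ?_)
    exact Cfsg.Agent.Lib.Cores.map_frattini_le (QuotientGroup.mk' S) (QuotientGroup.mk'_surjective S)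
      ⟨z, hz, rfl⟩
  refine ⟨hΦ.trans hSc, ?_, fun a ha => ?_⟩
  · exact ⟨⟨fun a b => Subtype.ext ((Subgroup.mem_center_iff.mp (hSc (hΦ b.2))) a)⟩⟩
  · have : ∀ s ∈ S, s ^ 2 = 1 := by
      intro s hs
      induction hs using Subgroup.closure_induction with
      | mem y hy =>
        obtain ⟨x, rfl⟩ := hy
        rw [← pow_mul]; exact hx4 x
      | one => exact one_pow 2
      | mul u v hu hv ihu ihv =>
        rw [(show Commute u v from Subgroup.mem_center_iff.mp (hSc hv) u).mul_pow, ihu, ihv, one_mul]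
      | inv u _ ihu => rw [inv_pow, ihu, inv_one]
    exact this a (hΦ ha)

end Cfsg.Agent.S4056
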