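import Cfsg.Statements.S4057
import Cfsg.Agent.Lib.RankBound.Triangular
import Cfsg.Agent.Lib.RankBound.Pivot
import Cfsg.Agent.Lib.OddLocal.OmegaExtend
import Cfsg.Agent.Lib.OddLocal.Omega
import Cfsg.Agent.Lib.PGroups.BurnsideBasis
import Cfsg.Agent.Lib.Cores.Frattini
import Cfsg.Agent.Lib.Coprime.Basic

set_option autoImplicit false
open Cfsg

namespace Cfsg.Agent.S4057

open scoped commutatorElement

/-- Let p be an odd prime and P a finite p-group in which every normal abelian subgroup can be generated by k elements. Then every subgroup of P can be generated by at most ⌊k(k+4)/4⌋ elements. -/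
theorem result {P : Type*} [Group P] [Finite P] {p : ℕ} [Fact p.Prime]
    (hp : p ≠ 2) (hP : IsPGroup p P) (k : ℕ)
    (hab : ∀ A : Subgroup P, A.Normal → IsMulCommutative A → ∃ S : Finset P, S.card ≤ k ∧ Subgroup.closure (S : Set P) = A) :
    ∀ H : Subgroup P, ∃ S : Finset P, S.card ≤ k * (k + 4) / 4 ∧ Subgroup.closure (S : Set P) = H := by
  classical
  intro H
  have hpp : p.Prime := Fact.out
  haveI := Fintype.ofFinite P
  -- a maximal normal elementary abelian subgroup
  obtain ⟨A, ⟨hAn, hA⟩, hAmax⟩ := Set.Finite.exists_maximal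
    (Set.toFinite {A : Subgroup P | A.Normal ∧ Cfsg.IsElementaryAbelian p A})
    ⟨⊥, inferInstance, ⟨⟨fun x y => Subsingleton.elim _ _⟩⟩, fun a ha => by rw [Subgroup.mem_bot.1 ha, one_pow]⟩
  haveI : A.Normal := hAn
  set C := Subgroup.centralizer (A : Set P) with hCdef
  have hCA : ∀ x ∈ C, x ^ p = 1 → x ∈ A := by
    intro x hx hxp
    by_contra hxA
    obtain ⟨y, hyC, hyp, hyA, hyr⟩ :=
      Cfsg.Agent.Lib.OddLocal.exists_omega_central_mod hp hP A C le_rfl ⟨x, hx, hxp, hxA⟩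
    have hel := Cfsg.Agent.Lib.OddLocal.isElementary_sup_zpowers hA hyC hyp
    have hn : (A ⊔ Subgroup.zpowers y).Normal := by
      refine ⟨fun z hz r => ?_⟩
      have : (A ⊔ Subgroup.zpowers y).map (MulAut.conj r).toMonoidHom ≤ A ⊔ Subgroup.zpowers y := by
        rw [Subgroup.map_sup, sup_le_iff]
        constructor
        · rintro _ ⟨w, hw, rfl⟩
          exact Subgroup.mem_sup_left (hAn.conj_mem w hw r)
        · rw [MonoidHom.map_zpowers, Subgroup.zpowers_le]
          have e : (MulAut.conj r).toMonoidHom y = ⁅r, y⁆ * y := by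
            simp [commutatorElement_def, mul_assoc]
          rw [e]
          exact mul_mem (Subgroup.mem_sup_left (hyr r)) (Subgroup.mem_sup_right (Subgroup.mem_zpowers y))
      simpa using this ⟨z, hz, rfl⟩
    exact hyA (hAmax ⟨hn, hel⟩ le_sup_left (Subgroup.mem_sup_right (Subgroup.mem_zpowers y)))
  -- its order
  obtain ⟨a, hAcard⟩ := (hP.to_subgroup A).exists_card_eq
  have hak : a ≤ k := by
    obtain ⟨S, hS, hSA⟩ := hab A hAn hA.1
    have hSmem : ∀ s : S, (s : P) ∈ A := fun s => hSA ▸ Subgroup.subset_closure s.2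
    letI : CommGroup ↥A := { (inferInstance : Group ↥A) with mul_comm := fun u v => hA.1.is_comm.comm u v }
    have hpow : ∀ x : ↥A, x ^ p = 1 := fun x => Subtype.ext (hA.2 x x.2)
    letI : Module (ZMod p) (Additive ↥A) := AddCommGroup.zmodModule fun x =>
      Additive.toMul.injective (by rw [toMul_nsmul, toMul_zero]; exact hpow _)
    haveI : FiniteDimensional (ZMod p) (Additive ↥A) := Module.Finite.of_finite
    have hgen : Subgroup.closure (Set.range fun s : S => (⟨(s : P), hSmem s⟩ : ↥A)) = ⊤ := by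
      refine Subgroup.map_injective A.subtype_injective ?_
      rw [MonoidHom.map_closure, ← MonoidHom.range_eq_map, Subgroup.range_subtype, ← Set.range_comp]
      conv_rhs => rw [← hSA]
      congr 1
      ext z
      simp
    rw [Cfsg.Agent.Lib.PGroups.closure_eq_top_iff_span (p := p)] at hgen
    have h1 := finrank_range_le_card (R := ZMod p)
      (fun s : S => Additive.ofMul (⟨(s : P), hSmem s⟩ : ↥A))
    rw [Set.finrank, hgen, finrank_top] at h1
    have h2 : Nat.card (Additive ↥A) = Nat.card (ZMod p) ^ Module.finrank (ZMod p) (Additive ↥A) :=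
      @Module.natCard_eq_pow_finrank (ZMod p) (Additive ↥A) _ _ _ Module.Finite.of_finite
    rw [Nat.card_zmod] at h2
    have h3 : Module.finrank (ZMod p) (Additive ↥A) = a :=
      Nat.pow_right_injective hpp.two_le (h2.symm.trans hAcard)
    rw [h3, Fintype.card_coe] at h1
    omega
  -- linear action
  letI : CommGroup ↥A := { (inferInstance : Group ↥A) with mul_comm := fun u v => hA.1.is_comm.comm u v }
  obtain ⟨φ, hlow, hφ1⟩ := Cfsg.Agent.RankBound.exists_triangular_of_mulAut hP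
    (fun x : ↥A => Subtype.ext (hA.2 x x.2)) (MulAut.conjNormal : P →* MulAut ↥A) a hAcard
  -- the subgroup `F`
  have hHp : IsPGroup p ↥H := hP.to_subgroup H
  haveI := hHp.isNilpotent
  set Φ : Subgroup P := (frattini ↥H).map H.subtype with hΦdef
  have hΦH : Φ ≤ H := Subgroup.map_subtype_le _
  set C0 := H ⊓ C with hC0
  have hpowΦ : ∀ x ∈ H, x ^ p ∈ Φ := fun x hx =>
    ⟨⟨x, hx⟩ ^ p, Cfsg.Agent.Lib.Cores.pow_mem_frattini hHp _, rfl⟩
  have hcomΦ : ∀ g ∈ H, ∀ h ∈ H, g * h * g⁻¹ * h⁻¹ ∈ Φ := fun g hg h hh =>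
    ⟨⁅(⟨g, hg⟩ : ↥H), ⟨h, hh⟩⁆, Cfsg.Agent.Lib.Cores.commutator_le_frattini
      (Subgroup.commutator_mem_commutator (Subgroup.mem_top _) (Subgroup.mem_top _)), rfl⟩
  -- the centralising part is small
  have hC0small : Nat.card C0 ≤ p ^ a * Nat.card ↥(C0 ⊓ Φ) := by
    have hom : ∀ z : ↥C0, z ^ p = 1 → (z : P) ∈ A := fun z hz =>
      hCA z z.2.2 (by simpa using congrArg Subtype.val hz)
    have hcent : ∀ z : ↥C0, z ^ p = 1 → z ∈ Subgroup.center ↥C0 := fun z hz =>
      Subgroup.mem_center_iff.2 fun w => Subtype.ext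
        ((Subgroup.mem_centralizer_iff.1 w.2.2 z (hom z hz)).symm)
    have hfib : ∀ v : ↥C0, Nat.card {y : ↥C0 // y ^ p = v} ≤ p ^ a := by
      intro v
      rcases isEmpty_or_nonempty {y : ↥C0 // y ^ p = v} with h | ⟨⟨y₀, hy₀⟩⟩
      · rw [Nat.card_of_isEmpty]; exact Nat.zero_le _
      rw [← hAcard]
      have hroot : ∀ y : {y : ↥C0 // y ^ p = v}, (y₀⁻¹ * y.1) ^ p = 1 := fun y =>
        Cfsg.Agent.Lib.OddLocal.pow_eq_one_of_mul_pow_eq hp (Nat.card ↥C0) (hP.to_subgroup C0) ⊤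
          inferInstance (le_of_eq Subgroup.card_top) (fun t _ ht => hcent t ht) y₀ _ (Subgroup.mem_top _)
          (by rw [mul_inv_cancel_left, y.2, hy₀])
      refine Nat.card_le_card_of_injective (fun y => (⟨_, hom _ (hroot y)⟩ : ↥A)) fun y y' hyy => ?_
      have := congrArg Subtype.val hyy
      exact Subtype.ext (mul_left_cancel (Subtype.ext this))
    let pw : ↥C0 → ↥(C0 ⊓ Φ) := fun y => ⟨(y : P) ^ p, pow_mem y.2 p, hpowΦ _ y.2.1⟩
    haveI := Fintype.ofFinite ↥(C0 ⊓ Φ)
    rw [Nat.card_congr (Equiv.sigmaFiberEquiv pw).symm, Nat.card_sigma]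
    refine le_trans (Finset.sum_le_card_nsmul _ _ (p ^ a) fun v _ => ?_) ?_
    · refine le_trans ?_ (hfib ⟨v.1, v.2.1⟩)
      refine Nat.card_le_card_of_injective
        (fun y : {y // pw y = v} => (⟨y.1, by have := congrArg Subtype.val y.2; exact Subtype.ext (by simpa [pw] using this)⟩ : {y : ↥C0 // y ^ p = ⟨v.1, v.2.1⟩}))
        fun y y' h => Subtype.ext (congrArg (fun z => z.1) h)
    · rw [Finset.card_univ, Nat.card_eq_fintype_card (α := ↥(C0 ⊓ Φ)), smul_eq_mul, mul_comm]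
  -- the rest
  obtain ⟨t, ht4, htc⟩ := Cfsg.Agent.RankBound.pivot_bound φ hlow H (Φ ⊔ C0) (sup_le hΦH inf_le_left)
    (fun g hg hg1 => Subgroup.mem_sup_right ⟨hg, Subgroup.mem_centralizer_iff.2 fun w hw => by
      have h2 : (MulAut.conjNormal g (⟨w, hw⟩ : ↥A) : ↥A) = ⟨w, hw⟩ := hφ1 g hg1 ⟨w, hw⟩
      have h3 := congrArg Subtype.val h2
      rw [MulAut.conjNormal_apply] at h3
      simp only at h3
      calc w * g = (g * w * g⁻¹) * g := by rw [h3]
        _ = g * w := by group⟩)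
    (fun g hg h hh => Subgroup.mem_sup_left (hcomΦ g hg h hh))
  have hΦn : H ≤ Subgroup.normalizer (Φ : Set P) := by
    intro g hg
    refine Subgroup.mem_normalizer_iff.2 fun w => ?_
    have hc : ∀ g ∈ H, ∀ w ∈ Φ, g * w * g⁻¹ ∈ Φ := by
      rintro g hg _ ⟨w, hw, rfl⟩
      exact ⟨⟨g, hg⟩ * w * ⟨g, hg⟩⁻¹, (inferInstance : (frattini ↥H).Normal).conj_mem w hw _, rfl⟩
    refine ⟨hc g hg w, fun hw => ?_⟩
    have := hc g⁻¹ (inv_mem hg) _ hw
    simpa [mul_assoc] using this
  have hFcard : Nat.card ↥(Φ ⊔ C0) ≤ p ^ a * Nat.card Φ := by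
    have h1 : Nat.card ↥(Φ ⊔ C0) * Nat.card ↥(C0 ⊓ Φ) = Nat.card Φ * Nat.card ↥C0 := by
      rw [inf_comm C0 Φ]
      exact Cfsg.Agent.Lib.Coprime.card_sup_mul_card_inf (inf_le_left.trans hΦn)
    have hpos : 0 < Nat.card ↥(C0 ⊓ Φ) := Nat.card_pos
    refine Nat.le_of_mul_le_mul_right ?_ hpos
    rw [h1]
    calc Nat.card Φ * Nat.card ↥C0 ≤ Nat.card Φ * (p ^ a * Nat.card ↥(C0 ⊓ Φ)) := Nat.mul_le_mul_left _ hC0small
      _ = _ := by ring
  have hHΦ : Nat.card ↥H ≤ p ^ (t + a) * Nat.card ↥(frattini ↥H) := by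
    rw [← Subgroup.card_map_of_injective H.subtype_injective, ← hΦdef, pow_add, mul_assoc]
    exact htc.trans (Nat.mul_le_mul_left _ hFcard)
  have hdvd : Nat.card (↥H ⧸ frattini ↥H) ∣ p ^ (t + a) := by
    obtain ⟨e, he⟩ := (hHp.to_quotient (frattini ↥H)).exists_card_eq
    rw [Subgroup.card_eq_card_quotient_mul_card_subgroup (frattini ↥H), he] at hHΦ
    rw [he]
    exact pow_dvd_pow p ((Nat.pow_le_pow_iff_right hpp.one_lt).1 (Nat.le_of_mul_le_mul_right hHΦ Nat.card_pos))
  obtain ⟨f, hf⟩ := Cfsg.Agent.Lib.PGroups.exists_generators_of_card hdvd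
  choose g hg using fun i => QuotientGroup.mk'_surjective (frattini ↥H) (f i)
  have hgtop := Cfsg.Agent.Lib.PGroups.closure_eq_top_of_mk g (by
    rw [show (fun i => ((g i : ↥H) : ↥H ⧸ frattini ↥H)) = f from funext hg]; exact hf)
  refine ⟨Finset.univ.image (fun i => ((g i : ↥H) : P)), ?_, ?_⟩
  · refine Finset.card_image_le.trans ?_
    rw [Finset.card_univ, Fintype.card_fin, Nat.le_div_iff_mul_le (by norm_num)]
    nlinarith
  · rw [Finset.coe_image, Finset.coe_univ, Set.image_univ]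
    have := congrArg (Subgroup.map H.subtype) hgtop
    rw [MonoidHom.map_closure, ← MonoidHom.range_eq_map, Subgroup.range_subtype, ← Set.range_comp] at this
    exact this

end Cfsg.Agent.S4057
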