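import Cfsg.Statements.S4058
import Cfsg.Agent.Lib.Characters.FrobeniusSchur
import Cfsg.Agent.Lib.Characters.Integrality
import Cfsg.Agent.Lib.Cores.Frattini
import Mathlib.GroupTheory.FiniteAbelian.Duality
import Mathlib.RingTheory.RootsOfUnity.AlgebraicallyClosed
import Mathlib.Analysis.Complex.Polynomial.Basic

set_option autoImplicit false
open Cfsg

namespace Cfsg.Agent.S4058

universe u

open Cfsg.Agent.Lib Cfsg.Agent.Lib.Characters
open scoped ComplexConjugate

variable {G : Type u} [Group G] [Finite G]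

/-- The value at `g` of a linear character of the Frattini quotient. -/
noncomputable def lfun (l : (G ⧸ frattini G) →* ℂˣ) : G →* ℂ :=
  (Units.coeHom ℂ).comp (l.comp (QuotientGroup.mk' (frattini G)))

theorem lfun_one : lfun (G := G) 1 = 1 := by ext; simp [lfun]

theorem lfun_mul (a b : (G ⧸ frattini G) →* ℂˣ) (g : G) : lfun (a * b) g = lfun a g * lfun b g := by
  simp [lfun]

theorem lfun_injective : Function.Injective (lfun (G := G)) := by
  intro a b h
  ext g
  exact DFunLike.congr_fun h g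

theorem lfun_mul_self (hG : IsPGroup 2 G) (l : (G ⧸ frattini G) →* ℂˣ) (g : G) :
    lfun l g * lfun l g = 1 := by
  haveI := Fact.mk Nat.prime_two
  rw [← map_mul]
  show ((l (QuotientGroup.mk' (frattini G) (g * g)) : ℂˣ) : ℂ) = 1
  rw [map_mul, ← sq, Cores.pow_eq_one_quotient_frattini hG, map_one, Units.val_one]

theorem lfun_sq_arg (hG : IsPGroup 2 G) (l : (G ⧸ frattini G) →* ℂˣ) (g : G) :
    lfun l (g * g) = 1 := by rw [map_mul, lfun_mul_self hG]

theorem conj_lfun (hG : IsPGroup 2 G) (l : (G ⧸ frattini G) →* ℂˣ) (g : G) :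
    conj (lfun l g) = lfun l g := by
  rcases mul_self_eq_one_iff.mp (lfun_mul_self hG l g) with h | h <;> rw [h] <;> simp

theorem isIrr_mul (hG : IsPGroup 2 G) (l : (G ⧸ frattini G) →* ℂˣ) {χ : G → ℂ}
    (hχ : IsIrrCharacter G χ) : IsIrrCharacter G (fun g => lfun l g * χ g) := by
  haveI := Fintype.ofFinite G
  have hc : IsCharacter G (fun g => lfun l g * χ g) :=
    IsCharacter.mul (IsIrrCharacter.isCharacter (isIrrCharacter_monoidHom (lfun l))) (IsIrrCharacter.isCharacter hχ)
  rw [IsCharacter.isIrr_iff hc]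
  rw [← IsIrrCharacter.classInner_self hχ]
  simp only [classInner]
  congr 1
  refine Finset.sum_congr rfl fun g _ => ?_
  rw [map_mul, conj_lfun hG, mul_mul_mul_comm, lfun_mul_self hG, one_mul]

/-- Multiplication of irreducible characters by real linear characters. -/
@[reducible] noncomputable def linAction (hG : IsPGroup 2 G) :
    MulAction ((G ⧸ frattini G) →* ℂˣ) (IrrCharacter G) where
  smul l χ := ⟨fun g => lfun l g * (χ : G → ℂ) g, isIrr_mul hG l χ.2⟩
  one_smul χ := Subtype.ext (funext fun g => by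
    show lfun (1 : (G ⧸ frattini G) →* ℂˣ) g * _ = _
    rw [lfun_one, MonoidHom.one_apply, one_mul])
  mul_smul a b χ := Subtype.ext (funext fun g => by
    show lfun (a * b) g * _ = lfun a g * (lfun b g * _)
    rw [lfun_mul, mul_assoc])

theorem card_le_sq (hG : IsPGroup 2 G) (χ : IrrCharacter G) (n : ℕ) (hn : (χ : G → ℂ) 1 = n)
    (S : Finset ((G ⧸ frattini G) →* ℂˣ))
    (hS : ∀ l ∈ S, (fun g => lfun l g * (χ : G → ℂ) g) = (χ : G → ℂ)) : S.card ≤ n ^ 2 := by
  classical
  haveI := Fintype.ofFinite G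
  haveI := Fintype.ofFinite (IrrCharacter G)
  set φ : G → ℂ := fun g => (χ : G → ℂ) g * conj ((χ : G → ℂ) g)
  have hφ : IsCharacter G φ := IsCharacter.mul (irr_isCharacter χ) (IsCharacter.conjugate (irr_isCharacter χ))
  obtain ⟨m, hm, hmi⟩ := IsCharacter.exists_nat_decomp hφ
  let e : ((G ⧸ frattini G) →* ℂˣ) → IrrCharacter G := fun l => ⟨lfun l, isIrrCharacter_monoidHom _⟩
  have he : Function.Injective e := fun a b h => lfun_injective
    (DFunLike.coe_injective (congrArg Subtype.val h))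
  have hm1 : ∀ l ∈ S, m (e l) = 1 := by
    intro l hl
    have h1 : classInner φ ((e l : IrrCharacter G) : G → ℂ) = 1 := by
      rw [← IsIrrCharacter.classInner_self χ.2]
      simp only [classInner]
      congr 1
      refine Finset.sum_congr rfl fun g _ => ?_
      show (χ : G → ℂ) g * conj ((χ : G → ℂ) g) * conj (lfun l g) = _
      have h' : lfun l g * (χ : G → ℂ) g = (χ : G → ℂ) g := congrFun (hS l hl) g
      rw [conj_lfun hG]
      linear_combination conj ((χ : G → ℂ) g) * h'
    rw [hmi] at h1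
    exact_mod_cast h1
  choose d hd0 hd using fun ψ : IrrCharacter G => IsIrrCharacter.exists_apply_one ψ.2
  have h2 : (n : ℂ) ^ 2 = ∑ ψ : IrrCharacter G, ((m ψ * d ψ : ℕ) : ℂ) := by
    have := congrFun hm 1
    simp only [φ, hn, map_natCast, Finset.sum_apply, Pi.smul_apply, smul_eq_mul, hd] at this
    rw [sq, show (n : ℂ) = (d χ : ℂ) from hn.symm.trans (hd χ)]
    exact this.trans (Finset.sum_congr rfl fun ψ _ => (Nat.cast_mul _ _).symm)
  have h3 : n ^ 2 = ∑ ψ : IrrCharacter G, m ψ * d ψ := by exact_mod_cast h2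
  have h4 : ∀ l ∈ S, d (e l) = 1 := fun l _ => by
    have := hd (e l)
    rw [show ((e l : IrrCharacter G) : G → ℂ) 1 = lfun l 1 from rfl, map_one] at this
    exact_mod_cast this.symm
  rw [h3, ← Finset.card_image_of_injective S he, Finset.card_eq_sum_ones]
  refine le_trans (Finset.sum_le_sum fun ψ hψ => ?_)
    (Finset.sum_le_sum_of_subset (Finset.subset_univ _))
  obtain ⟨l, hl, rfl⟩ := Finset.mem_image.mp hψ
  rw [hm1 l hl, h4 l hl]

/-- Let G be a finite 2-group with #(G/Φ(G)) ≥ 2^(2k+1). Then the number of elements x of G with x² = 1 is divisible by 2^(k+1). -/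
theorem result {G : Type*} [Group G] [Finite G] (hG : IsPGroup 2 G) (k : ℕ)
    (hgen : 2 ^ (2 * k + 1) ≤ Nat.card (G ⧸ frattini G)) :
    2 ^ (k + 1) ∣ Nat.card {x : G // x ^ 2 = 1} := by
  classical
  haveI := Fact.mk Nat.prime_two
  haveI := Fintype.ofFinite G
  haveI := Fintype.ofFinite (IrrCharacter G)
  have hQ2 : ∀ x : G ⧸ frattini G, x * x = 1 := fun x => by
    rw [← sq]; exact Cores.pow_eq_one_quotient_frattini hG x
  letI : CommGroup (G ⧸ frattini G) := { (inferInstance : Group (G ⧸ frattini G)) with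
    mul_comm := fun a b => by
      have inv : ∀ c : G ⧸ frattini G, c⁻¹ = c := fun c => inv_eq_of_mul_eq_one_right (hQ2 c)
      rw [← inv (a * b), mul_inv_rev, inv, inv] }
  haveI : NeZero (Monoid.exponent (G ⧸ frattini G)) := ⟨Monoid.exponent_ne_zero_of_finite⟩
  have hL : Nat.card ((G ⧸ frattini G) →* ℂˣ) = Nat.card (G ⧸ frattini G) :=
    CommGroup.card_monoidHom_of_hasEnoughRootsOfUnity _ _
  haveI : Finite ((G ⧸ frattini G) →* ℂˣ) := Nat.finite_of_card_ne_zero (hL ▸ Nat.card_pos.ne')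
  haveI := Fintype.ofFinite ((G ⧸ frattini G) →* ℂˣ)
  obtain ⟨D, hD⟩ := IsPGroup.iff_card.mp (hG.to_quotient (frattini G))
  have hDk : 2 * k + 1 ≤ D := (Nat.pow_le_pow_iff_right (by norm_num)).mp (hD ▸ hgen)
  letI := linAction hG
  choose n hn0 hn hndvd using fun χ : IrrCharacter G => IsIrrCharacter.exists_degree_dvd χ.2
  have hν : ∀ χ : IrrCharacter G, ∃ z : ℤ,
      (Nat.card G : ℂ)⁻¹ * ∑ s : G, (χ : G → ℂ) (s * s) = z := by
    intro χ
    obtain ⟨h0, h1⟩ := frobeniusSchur χ.2
    by_cases hr : ∀ s : G, ((χ : G → ℂ) s).im = 0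
    · obtain ⟨-, -, ε, -, -, hε, -, he⟩ := h1 hr
      rcases hε with rfl | rfl
      · exact ⟨1, by rw [he]; simp⟩
      · exact ⟨-1, by rw [he]; simp⟩
    · push Not at hr
      exact ⟨0, by rw [h0 hr]; simp⟩
  choose z hz using hν
  set f : IrrCharacter G → ℤ := fun χ => (n χ : ℤ) * z χ with hf
  have hsum : (Nat.card {x : G // x ^ 2 = 1} : ℤ) = ∑ χ, f χ := by
    have : ((Nat.card {x : G // x ^ 2 = 1} : ℤ) : ℂ) = ((∑ χ, f χ : ℤ) : ℂ) := by
      push_cast [hf]
      simp_rw [← hz, ← hn, Finset.mul_sum]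
      rw [Finset.sum_comm]
      simp_rw [mul_left_comm _ (Nat.card G : ℂ)⁻¹, ← Finset.mul_sum, sum_degree_mul]
      rw [Finset.sum_ite, Finset.sum_const_zero, add_zero, Finset.sum_const, nsmul_eq_mul,
        mul_left_comm, inv_mul_cancel₀ natCard_ne_zero_complex, mul_one,
        Nat.card_eq_fintype_card, Fintype.card_subtype]
      simp [sq]
    exact_mod_cast this
  have hinv : ∀ (l : (G ⧸ frattini G) →* ℂˣ) (χ : IrrCharacter G), f (l • χ) = f χ := by
    intro l χ
    have h1 : n (l • χ) = n χ := by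
      have := hn (l • χ)
      rw [show ((l • χ : IrrCharacter G) : G → ℂ) 1 = lfun l 1 * (χ : G → ℂ) 1 from rfl, map_one,
        one_mul, hn χ] at this
      exact_mod_cast this.symm
    have h2 : z (l • χ) = z χ := by
      have := hz (l • χ)
      rw [show (fun s : G => ((l • χ : IrrCharacter G) : G → ℂ) (s * s)) =
        fun s => (χ : G → ℂ) (s * s) from funext fun s => by
          show lfun l (s * s) * _ = _
          rw [lfun_sq_arg hG, one_mul], hz χ] at this
      exact_mod_cast this.symm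
    simp only [hf, h1, h2]
  rw [← Int.natCast_dvd_natCast, hsum,
    ← Finset.sum_fiberwise_of_maps_to (t := Finset.univ.image fun χ : IrrCharacter G =>
      MulAction.orbit ((G ⧸ frattini G) →* ℂˣ) χ) (fun χ _ => Finset.mem_image_of_mem _ (Finset.mem_univ χ))]
  refine Finset.dvd_sum fun ω hω => ?_
  obtain ⟨χ, -, rfl⟩ := Finset.mem_image.mp hω
  set O := Finset.univ.filter (fun ψ : IrrCharacter G => MulAction.orbit ((G ⧸ frattini G) →* ℂˣ) ψ =
    MulAction.orbit ((G ⧸ frattini G) →* ℂˣ) χ) with hO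
  have hconst : ∀ ψ ∈ O, f ψ = f χ := by
    intro ψ hψ
    rw [hO, Finset.mem_filter, MulAction.orbit_eq_iff] at hψ
    obtain ⟨l, rfl⟩ := hψ.2
    exact hinv l χ
  rw [Finset.sum_congr rfl hconst, Finset.sum_const, nsmul_eq_mul, hf]
  dsimp only
  rw [← mul_assoc]
  refine Dvd.dvd.mul_right ?_ _
  rw [← Nat.cast_mul, Int.natCast_dvd_natCast]
  set St := MulAction.stabilizer ((G ⧸ frattini G) →* ℂˣ) χ
  have hOc : O.card * Nat.card St = 2 ^ D := by
    rw [← hD, ← hL, ← St.card_mul_index, mul_comm, MulAction.index_stabilizer, ← Set.ncard_coe_finset]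
    congr 2
    ext ψ
    simp [hO, MulAction.orbit_eq_iff]
  obtain ⟨s, hsD, hs⟩ := (Nat.dvd_prime_pow Nat.prime_two).mp (Dvd.intro_left _ hOc)
  obtain ⟨N, hN⟩ := IsPGroup.iff_card.mp hG
  obtain ⟨m, -, hm⟩ := (Nat.dvd_prime_pow Nat.prime_two).mp (hN ▸ hndvd χ)
  have hs2 : s ≤ 2 * m := by
    have h := card_le_sq hG χ (n χ) (hn χ) (Finset.univ.filter fun l => l ∈ St) (fun l hl => by
      have := MulAction.mem_stabilizer_iff.mp (Finset.mem_filter.mp hl).2
      exact congrArg Subtype.val this)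
    rw [← Fintype.card_subtype, ← Nat.card_eq_fintype_card] at h
    change Nat.card St ≤ _ at h
    rw [hs, hm, ← pow_mul] at h
    rw [mul_comm]
    exact (Nat.pow_le_pow_iff_right (by norm_num)).mp h
  have hO2 : O.card = 2 ^ (D - s) := by
    apply Nat.eq_of_mul_eq_mul_right (pow_pos (by norm_num : 0 < 2) s)
    rw [← pow_add, Nat.sub_add_cancel hsD, ← hs, hOc]
  rw [hO2, hm, ← pow_add]
  exact pow_dvd_pow 2 (by omega)

end Cfsg.Agent.S4058
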