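import Cfsg.Statements.S4059
import Mathlib.GroupTheory.Sylow
import Mathlib.GroupTheory.Abelianization.Defs

set_option autoImplicit false
open Cfsg

namespace Cfsg.Agent.S4059

open scoped Pointwise
variable {G : Type*} [Group G] [Finite G]

theorem conj_pow_inv {g x : G} (h : g * x * g⁻¹ = x⁻¹) (m : ℕ) :
    g ^ (2 * m + 1) * x * (g ^ (2 * m + 1))⁻¹ = x⁻¹ := by
  induction m with
  | zero => simpa using h
  | succ m ih =>
    calc g ^ (2 * (m + 1) + 1) * x * (g ^ (2 * (m + 1) + 1))⁻¹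
        = g ^ (2 * m + 1) * (g * (g * x * g⁻¹) * g⁻¹) * (g ^ (2 * m + 1))⁻¹ := by
          rw [show 2 * (m + 1) + 1 = (2 * m + 1) + 1 + 1 by ring, pow_succ, pow_succ]; group
      _ = g ^ (2 * m + 1) * x * (g ^ (2 * m + 1))⁻¹ := by
          rw [h, show g * x⁻¹ * g⁻¹ = (g * x * g⁻¹)⁻¹ by group, h, inv_inv]
      _ = x⁻¹ := ih

theorem exists_odd_pow_two_element (g : G) :
    ∃ m : ℕ, IsPGroup 2 (Subgroup.zpowers (g ^ (2 * m + 1))) := by
  have h2 : ¬ 2 ∣ orderOf g / 2 ^ (orderOf g).factorization 2 :=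
    Nat.not_dvd_ordCompl Nat.prime_two (orderOf_pos g).ne'
  obtain ⟨m, hm⟩ : Odd (orderOf g / 2 ^ (orderOf g).factorization 2) :=
    Nat.not_even_iff_odd.mp fun he => h2 he.two_dvd
  refine ⟨m, ?_⟩
  rw [← hm]
  have h0 : (g ^ (orderOf g / 2 ^ (orderOf g).factorization 2)) ^ 2 ^ (orderOf g).factorization 2 = 1 := by
    rw [← pow_mul, mul_comm, Nat.ordProj_mul_ordCompl_eq_self, pow_orderOf_eq_one]
  obtain ⟨i, -, hi⟩ := (Nat.dvd_prime_pow Nat.prime_two).mp (orderOf_dvd_of_pow_eq_one h0)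
  exact IsPGroup.of_card (n := i) (by rw [Nat.card_zpowers, hi])

/-- A real element centralizing a Sylow `2`-subgroup squares to `1`. -/
theorem sq_eq_one_of_isConj_inv (S : Sylow 2 G) {x : G}
    (hc : x ∈ Subgroup.centralizer ((S : Subgroup G) : Set G)) (h : IsConj x x⁻¹) : x ^ 2 = 1 := by
  obtain ⟨c, hc'⟩ := isConj_iff.mp h
  obtain ⟨n, hn, hnx⟩ := Sylow.conj_eq_normalizer_conj_of_mem_centralizer S x c⁻¹ hc
    (by rw [inv_inv, hc']; exact inv_mem hc)
  rw [inv_inv, hc'] at hnx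
  obtain ⟨m, hm⟩ := exists_odd_pow_two_element n⁻¹
  have hS : n⁻¹ ^ (2 * m + 1) ∈ (S : Subgroup G) :=
    (Subgroup.mem_inf.mp (hm.inf_normalizer_sylow S ▸ Subgroup.mem_inf.mpr
      ⟨Subgroup.mem_zpowers _, pow_mem (inv_mem hn) _⟩)).2
  have h1 : n⁻¹ * x * n⁻¹⁻¹ = x⁻¹ := by rw [inv_inv]; exact hnx.symm
  have h2 := conj_pow_inv h1 m
  rw [Subgroup.mem_centralizer_iff.mp hc _ hS, mul_inv_cancel_right] at h2
  rw [pow_two]
  exact mul_eq_one_iff_eq_inv.mpr h2

/-- Let G be a finite group in which every element is conjugate to its inverse. Then: every non-identity element commuting with all elements of some Sylow 2-subgroup is an involution; the centre of G is an elementary abelian 2-group; the commutator quotient G/G' is an elementary abelian 2-group; and G is generated by its 2-elements. -/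
theorem result {G : Type*} [Group G] [Finite G] (hamb : ∀ x : G, IsConj x x⁻¹) :
    (∀ (S : Sylow 2 G) (x : G), x ∈ Subgroup.centralizer ((S : Subgroup G) : Set G) → x ≠ 1 → orderOf x = 2) ∧
    (∀ z : G, z ∈ Subgroup.center G → z ^ 2 = 1) ∧
    (∀ x : G, x ^ 2 ∈ commutator G) ∧
    Subgroup.closure {x : G | ∃ k : ℕ, orderOf x = 2 ^ k} = ⊤ := by
  refine ⟨fun S x hx hx1 => orderOf_eq_prime (sq_eq_one_of_isConj_inv S hx (hamb x)) hx1,
    fun z hz => ?_, fun x => ?_, ?_⟩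
  · obtain ⟨c, hc⟩ := isConj_iff.mp (hamb z)
    rw [Subgroup.mem_center_iff.mp hz c, mul_inv_cancel_right] at hc
    rw [pow_two]
    exact mul_eq_one_iff_eq_inv.mpr hc
  · obtain ⟨c, hc⟩ := isConj_iff.mp (hamb x)
    have h : c * x * c⁻¹ * x⁻¹ ∈ commutator G := by
      rw [commutator_def, ← commutatorElement_def]
      exact Subgroup.commutator_mem_commutator (Subgroup.mem_top c) (Subgroup.mem_top x)
    rw [hc] at h
    simpa [pow_two] using inv_mem h
  · set K := Subgroup.closure {x : G | ∃ k : ℕ, orderOf x = 2 ^ k} with hK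
    haveI : K.Normal := by
      refine ⟨fun x hx g => ?_⟩
      have hmap : K.map (MulAut.conj g).toMonoidHom ≤ K := by
        rw [hK, MonoidHom.map_closure]
        refine Subgroup.closure_mono ?_
        rintro _ ⟨y, ⟨k, hk⟩, rfl⟩
        exact ⟨k, by rw [MulEquiv.coe_toMonoidHom, MulEquiv.orderOf_eq]; exact hk⟩
      exact hmap ⟨x, hx, rfl⟩
    have h2 : ∀ g : G, ∃ m : ℕ, g ^ (2 * m + 1) ∈ K := by
      intro g
      obtain ⟨m, hm⟩ := exists_odd_pow_two_element g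
      obtain ⟨i, hi⟩ := IsPGroup.iff_orderOf.mp hm ⟨_, Subgroup.mem_zpowers _⟩
      rw [Subgroup.orderOf_mk] at hi
      exact ⟨m, Subgroup.subset_closure ⟨i, hi⟩⟩
    rw [eq_top_iff]
    intro x _
    obtain ⟨c, hc⟩ := isConj_iff.mp (hamb x)
    obtain ⟨m, hm⟩ := h2 c
    obtain ⟨i, hi⟩ := h2 x
    have e1 : (QuotientGroup.mk (c ^ (2 * m + 1) * x * (c ^ (2 * m + 1))⁻¹) : G ⧸ K) = QuotientGroup.mk x⁻¹ := by
      rw [conj_pow_inv hc m]
    rw [QuotientGroup.mk_mul, QuotientGroup.mk_mul, QuotientGroup.mk_inv, QuotientGroup.mk_inv,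
      (QuotientGroup.eq_one_iff _).mpr hm, one_mul, inv_one, mul_one] at e1
    rw [← QuotientGroup.eq_one_iff]
    have e2 : (QuotientGroup.mk x : G ⧸ K) ^ 2 = 1 := by
      rw [pow_two]; exact mul_eq_one_iff_eq_inv.mpr e1
    have e3 : (QuotientGroup.mk x : G ⧸ K) ^ (2 * i + 1) = 1 := by
      rw [← QuotientGroup.mk_pow]; exact (QuotientGroup.eq_one_iff _).mpr hi
    rwa [pow_succ, pow_mul, e2, one_pow, one_mul] at e3

end Cfsg.Agent.S4059
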