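import Cfsg.Statements.S4060
import Cfsg.Agent.S4059
import Cfsg.Agent.Lib.Cores.Fitting

set_option autoImplicit false
open Cfsg

namespace Cfsg.Agent.S4060

universe u

theorem not_isConj_inv_aux : ∀ n : ℕ, ∀ (G : Type u) [Group G] [Finite G],
    Group.IsSolvable G → Nat.card G ≤ n → ∀ (S : Sylow 2 G) (x : G), x ≠ 1 → Odd (orderOf x) →
    x ∈ Subgroup.normalizer ((S : Subgroup G) : Set G) → ¬ IsConj x x⁻¹ := by
  intro n
  induction n with
  | zero => intro G _ _ _ h; have := Nat.card_pos (α := G); omega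
  | succ n ih =>
    intro G _ _ hsol hcard S x hx hodd hnorm hconj
    haveI : Nontrivial G := ⟨⟨x, 1, hx⟩⟩
    obtain ⟨q, hq, hM⟩ : ∃ q : ℕ, q.Prime ∧ Cfsg.pCore q G ≠ ⊥ := by
      by_contra hc
      push Not at hc
      refine Cfsg.Agent.Lib.Cores.fittingSubgroup_ne_bot_of_isSolvable hsol ?_
      rw [Cfsg.Agent.Lib.Cores.fittingSubgroup_eq_iSup]
      simp only [iSup_eq_bot]
      intro q
      first
      | exact hc q.1 q.2
      | exact hc q.1 (Nat.prime_of_mem_primeFactors q.2)
      | exact fun hq => hc q hq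
    haveI : Fact q.Prime := ⟨hq⟩
    haveI : (Cfsg.pCore q G).Normal := inferInstance
    set M := Cfsg.pCore q G with hMdef
    by_cases hxM : x ∈ M
    · -- `x` centralizes `S`
      have hcS : x ∈ Subgroup.centralizer ((S : Subgroup G) : Set G) := by
        rw [Subgroup.mem_centralizer_iff]
        intro s hs
        have h1 : x * s * x⁻¹ * s⁻¹ ∈ (S : Subgroup G) ⊓ M := by
          refine Subgroup.mem_inf.mpr ⟨mul_mem ((Subgroup.mem_normalizer_iff.mp hnorm s).mp hs) (inv_mem hs), ?_⟩
          have h2 : x * (s * x⁻¹ * s⁻¹) ∈ M :=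
            mul_mem hxM (Subgroup.Normal.conj_mem inferInstance _ (inv_mem hxM) s)
          simpa [mul_assoc] using h2
        obtain ⟨a, ha⟩ := IsPGroup.iff_orderOf.mp (Cfsg.Agent.Lib.Cores.pCore_isPGroup q G) ⟨x, hxM⟩
        rw [Subgroup.orderOf_mk] at ha
        have hq2 : q ≠ 2 := by
          rintro rfl
          rcases Nat.eq_zero_or_pos a with h | h
          · exact hx (orderOf_eq_one_iff.mp (by rw [ha, h, pow_zero]))
          · exact (Nat.not_odd_iff_even.mpr (by rw [ha]; exact (Nat.even_pow).mpr ⟨even_two, by omega⟩)) hodd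
        have h3 : (S : Subgroup G) ⊓ M = ⊥ :=
          disjoint_iff.mp (IsPGroup.disjoint_of_ne 2 q (Ne.symm hq2) _ _ S.isPGroup'
            (Cfsg.Agent.Lib.Cores.pCore_isPGroup q G))
        rw [h3, Subgroup.mem_bot, mul_inv_eq_one] at h1
        exact (mul_inv_eq_iff_eq_mul.mp h1).symm
      have h2 := Cfsg.Agent.S4059.sq_eq_one_of_isConj_inv S hcS hconj
      obtain ⟨k, hk⟩ := hodd
      refine hx ?_
      have h3 := pow_orderOf_eq_one x
      rwa [hk, pow_succ, pow_mul, h2, one_pow, one_mul] at h3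
    · have hlt : Nat.card (G ⧸ M) ≤ n := by
        have h1 := Subgroup.card_eq_card_quotient_mul_card_subgroup M
        have h2 : 1 < Nat.card M := Finite.one_lt_card_iff_nontrivial.mpr ((Subgroup.nontrivial_iff_ne_bot M).mpr hM)
        have h3 : 0 < Nat.card (G ⧸ M) := Nat.card_pos
        nlinarith
      haveI := hsol
      have hsurj := QuotientGroup.mk'_surjective M
      refine ih (G ⧸ M) (Group.isSolvable_of_surjective hsurj) hlt (S.mapSurjective hsurj)
        (QuotientGroup.mk' M x) (fun h => hxM ((QuotientGroup.eq_one_iff x).mp h)) ?_ ?_ ?_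
      · exact hodd.of_dvd_nat (orderOf_map_dvd _ _)
      · rw [Sylow.coe_mapSurjective]
        exact Subgroup.le_normalizer_map _ (Subgroup.mem_map_of_mem _ hnorm)
      · rw [← map_inv]
        exact MonoidHom.map_isConj _ hconj

/-- Let G be a finite solvable group with Sylow 2-subgroup S, and let x ≠ 1 be an element of odd order normalizing S. Then x is not conjugate to its inverse in G. -/
theorem result {G : Type*} [Group G] [Finite G] [Group.IsSolvable G]
    (S : Sylow 2 G) (x : G) (hx : x ≠ 1) (hodd : Odd (orderOf x))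
    (hnorm : x ∈ Subgroup.normalizer ((S : Subgroup G) : Set G)) : ¬ IsConj x x⁻¹ := by
  exact not_isConj_inv_aux (Nat.card G) G inferInstance le_rfl S x hx hodd hnorm

end Cfsg.Agent.S4060
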