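import Cfsg.Statements.S4061
import Cfsg.Agent.S4059
import Cfsg.Agent.Lib.Cores.PCore
import Cfsg.Agent.Lib.Cores.Fitting
import Cfsg.Agent.Lib.Frobenius.UniqueSubgroup

set_option autoImplicit false
set_option linter.style.haveILetI false
open Cfsg

namespace Cfsg.Agent.S4061


open scoped commutatorElement

open Cfsg.Agent in
theorem odd_eq_one {G : Type*} [Group G] {g : G} {k : ℕ} (ho : Odd (orderOf g)) (h : g ^ 2 ^ k = 1) : g = 1 := by
  rw [← orderOf_eq_one_iff]
  exact Nat.eq_one_of_dvd_coprimes (Nat.Coprime.pow_right k ((Nat.coprime_two_right).mpr ho)) dvd_rfl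
    (orderOf_dvd_of_pow_eq_one h)

theorem exists_two_element_inv {G : Type*} [Group G] [Finite G] {x : G} (h : IsConj x x⁻¹) :
    ∃ y : G, (∃ i, orderOf y = 2 ^ i) ∧ y * x * y⁻¹ = x⁻¹ := by
  obtain ⟨c, hc⟩ := isConj_iff.mp h
  obtain ⟨m, hm⟩ := Cfsg.Agent.S4059.exists_odd_pow_two_element c
  obtain ⟨i, hi⟩ := IsPGroup.iff_orderOf.mp hm ⟨_, Subgroup.mem_zpowers _⟩
  rw [Subgroup.orderOf_mk] at hi
  exact ⟨_, ⟨i, hi⟩, Cfsg.Agent.S4059.conj_pow_inv hc m⟩

theorem unique_involution {G : Type*} [Group G] [Finite G] (hsol : Group.IsSolvable G)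
    (hamb : ∀ x : G, IsConj x x⁻¹) (hone : ∀ s t : G, orderOf s = 2 → orderOf t = 2 → IsConj s t)
    (hO : Cfsg.oddCore G = ⊥) : ∀ s t : G, orderOf s = 2 → orderOf t = 2 → s = t := by
  classical
  haveI : Fact (Nat.Prime 2) := ⟨Nat.prime_two⟩
  intro s t hs ht
  by_contra hst
  haveI : Nontrivial G := ⟨⟨s, t, hst⟩⟩
  have hT : Cfsg.pCore 2 G ≠ ⊥ := by
    intro hT
    refine Cfsg.Agent.Lib.Cores.fittingSubgroup_ne_bot_of_isSolvable hsol ?_
    rw [Cfsg.Agent.Lib.Cores.fittingSubgroup_eq_iSup]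
    have key : ∀ q : ℕ, q.Prime → Cfsg.pCore q G = ⊥ := by
      intro q hq
      by_cases h2 : q = 2
      · subst h2; exact hT
      · haveI : Fact q.Prime := ⟨hq⟩
        obtain ⟨n, hn⟩ := IsPGroup.iff_card.mp (Cfsg.Agent.Lib.Cores.pCore_isPGroup q G)
        rw [eq_bot_iff, ← hO]
        refine Cfsg.Agent.Lib.Cores.le_oddCore inferInstance ?_
        rw [hn]
        exact (hq.odd_of_ne_two h2).pow
    simp only [iSup_eq_bot]
    intro q
    first
    | exact key q.1 q.2
    | exact key q.1 (Nat.prime_of_mem_primeFactors q.2)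
    | exact fun hq => key q hq
  set T := Cfsg.pCore 2 G with hTdef
  have hT2 : IsPGroup 2 T := Cfsg.Agent.Lib.Cores.pCore_isPGroup 2 G
  haveI : Nontrivial T := (Subgroup.nontrivial_iff_ne_bot _).mpr hT
  haveI := hT2.center_nontrivial
  set Z : Subgroup G := (Subgroup.center T).map T.subtype with hZ
  haveI : Z.Normal := inferInstance
  have hZ2 : IsPGroup 2 Z := hT2.to_le (Subgroup.map_subtype_le _)
  obtain ⟨z, hz⟩ : ∃ z : Subgroup.center T, orderOf z = 2 := by
    obtain ⟨n, hn, hnc⟩ := (hT2.to_subgroup (Subgroup.center T)).nontrivial_iff_card.mp inferInstance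
    exact exists_prime_orderOf_dvd_card' 2 (by rw [hnc]; exact dvd_pow_self 2 (by omega))
  have hzG : orderOf ((z : T) : G) = 2 := by rw [Subgroup.orderOf_coe, Subgroup.orderOf_coe, hz]
  have hinZ : ∀ u : G, orderOf u = 2 → u ∈ Z := by
    intro u hu
    obtain ⟨g, hg⟩ := isConj_iff.mp (hone _ u hzG hu)
    rw [← hg]
    exact (inferInstance : Z.Normal).conj_mem _ ⟨(z : T), z.2, rfl⟩ g
  have hcomm : ∀ u ∈ Z, ∀ w ∈ Z, u * w = w * u := by
    rintro _ ⟨u, hu, rfl⟩ _ ⟨w, _, rfl⟩
    rw [← map_mul, ← map_mul, Subgroup.mem_center_iff.mp hu w]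
  have hsq : ∀ u : G, orderOf u = 2 → u * u = 1 := fun u hu => by
    rw [← pow_two, ← hu, pow_orderOf_eq_one]
  have hinv : ∀ u : G, orderOf u = 2 → u⁻¹ = u := fun u hu => inv_eq_of_mul_eq_one_right (hsq u hu)
  have hmul : ∀ u w : G, orderOf u = 2 → orderOf w = 2 → u * w ≠ 1 → orderOf (u * w) = 2 := by
    intro u w hu hw hne
    refine orderOf_eq_prime ?_ hne
    rw [pow_two]
    calc u * w * (u * w) = u * (w * u) * w := by group
      _ = u * (u * w) * w := by rw [hcomm w (hinZ w hw) u (hinZ u hu)]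
      _ = (u * u) * (w * w) := by group
      _ = 1 := by rw [hsq u hu, hsq w hw, one_mul]
  -- a subgroup acting on the involutions as a nontrivial abelian group
  set C : Subgroup G := Subgroup.centralizer {u : G | orderOf u = 2} with hC
  have h0 : ¬ derivedSeries G 0 ≤ C := by
    rw [derivedSeries_zero]
    intro h
    obtain ⟨g, hg⟩ := isConj_iff.mp (hone s t hs ht)
    have := Subgroup.mem_centralizer_iff.mp (h (Subgroup.mem_top g)) s hs
    rw [← this, mul_inv_cancel_right] at hg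
    exact hst hg
  have hex : ∃ n, derivedSeries G n ≤ C := by
    obtain ⟨n, hn⟩ := hsol.solvable
    exact ⟨n, hn ▸ bot_le⟩
  obtain ⟨k, hk⟩ : ∃ k, Nat.find hex = k + 1 := by
    refine ⟨Nat.find hex - 1, ?_⟩
    have : Nat.find hex ≠ 0 := fun h => h0 (h ▸ Nat.find_spec hex)
    omega
  have hk1 : derivedSeries G (k + 1) ≤ C := hk ▸ Nat.find_spec hex
  have hk0 : ¬ derivedSeries G k ≤ C := Nat.find_min hex (by omega)
  set D := derivedSeries G k with hD
  haveI : D.Normal := derivedSeries_normal G k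
  have hab : ∀ a ∈ D, ∀ b ∈ D, ∀ u : G, orderOf u = 2 →
      a * (b * u * b⁻¹) * a⁻¹ = b * (a * u * a⁻¹) * b⁻¹ := by
    intro a ha b hb u hu
    have hw : a⁻¹ * b⁻¹ * a * b ∈ C := hk1 (by
      rw [derivedSeries_succ]
      simpa [commutatorElement_def] using
        Subgroup.commutator_mem_commutator (inv_mem ha) (inv_mem hb))
    have h := Subgroup.mem_centralizer_iff.mp hw u hu
    calc a * (b * u * b⁻¹) * a⁻¹
        = b * a * (a⁻¹ * b⁻¹ * a * b * u) * (b⁻¹ * a⁻¹) := by group
      _ = b * a * (u * (a⁻¹ * b⁻¹ * a * b)) * (b⁻¹ * a⁻¹) := by rw [h]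
      _ = b * (a * u * a⁻¹) * b⁻¹ := by group
  let K : G → Subgroup G := fun u => D ⊓ Subgroup.centralizer ({u} : Set G)
  have hKmem : ∀ u a, a ∈ K u ↔ a ∈ D ∧ a * u * a⁻¹ = u := by
    intro u a
    show a ∈ D ⊓ Subgroup.centralizer ({u} : Set G) ↔ _
    rw [Subgroup.mem_inf, Subgroup.mem_centralizer_singleton_iff, mul_inv_eq_iff_eq_mul]
    try simp [eq_comm]
  have hKcard : ∀ u w : G, orderOf u = 2 → orderOf w = 2 → Nat.card (K u) = Nat.card (K w) := by
    intro u w hu hw
    obtain ⟨g, hg⟩ := isConj_iff.mp (hone u w hu hw)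
    have : (K u).map (MulAut.conj g).toMonoidHom = K w := by
      ext a
      rw [Subgroup.mem_map_equiv, hKmem, hKmem]
      simp only [MulAut.conj_symm_apply]
      constructor
      · rintro ⟨h1, h2⟩
        refine ⟨?_, ?_⟩
        · have := Subgroup.Normal.conj_mem (inferInstance : D.Normal) _ h1 g
          simpa [mul_assoc] using this
        · rw [← hg]
          calc a * (g * u * g⁻¹) * a⁻¹ = g * ((g⁻¹ * a * g) * u * (g⁻¹ * a * g)⁻¹) * g⁻¹ := by group
            _ = _ := by rw [h2]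
      · rintro ⟨h1, h2⟩
        refine ⟨Subgroup.Normal.conj_mem' (inferInstance : D.Normal) _ h1 g, ?_⟩
        rw [← hg] at h2
        calc (g⁻¹ * a * g) * u * (g⁻¹ * a * g)⁻¹ = g⁻¹ * (a * (g * u * g⁻¹) * a⁻¹) * g := by group
          _ = u := by rw [h2]; group
    rw [← this, Subgroup.card_map_of_injective (MulAut.conj g).injective]
  have hKle : ∀ u w : G, orderOf u = 2 → orderOf w = 2 → K u ≤ K w → K u = K w := fun u w hu hw h =>
    Subgroup.eq_of_le_of_card_ge h (hKcard u w hu hw).ge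
  have hKeq : ∀ v w : G, orderOf v = 2 → orderOf w = 2 → K v = K w := by
    intro v w hv hw
    by_contra hne
    have hvw : v * w ≠ 1 := fun h => by
      rw [mul_eq_one_iff_eq_inv, hinv w hw] at h
      exact hne (by rw [h])
    have hu := hmul v w hv hw hvw
    obtain ⟨a, hau, hav⟩ : ∃ a ∈ K (v * w), a ∉ K v := by
      refine SetLike.not_le_iff_exists.mp fun h => ?_
      have he := hKle _ v hu hv h
      refine hne (hKle v w hv hw fun b hb => ?_)
      have hb' := he.ge hb
      rw [hKmem] at hb hb' ⊢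
      refine ⟨hb.1, ?_⟩
      have h1 : b * (v * w) * b⁻¹ = (b * v * b⁻¹) * (b * w * b⁻¹) := by group
      rw [hb'.2, hb.2] at h1
      exact (mul_left_cancel h1).symm
    rw [hKmem] at hau
    have haD := hau.1
    rw [hKmem, not_and] at hav
    set v' := a * v * a⁻¹ with hv'
    set w' := a * w * a⁻¹ with hw'
    have hov : orderOf v' = 2 := by
      rw [hv', ← MulAut.conj_apply, MulEquiv.orderOf_eq, hv]
    have how : orderOf w' = 2 := by
      rw [hw', ← MulAut.conj_apply, MulEquiv.orderOf_eq, hw]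
    have e : v' * w' = v * w := by rw [hv', hw']; rw [← hau.2]; group
    have hd : v' * v = w' * w := by
      have h1 : v' = v * w * w' := by rw [← e, mul_assoc, hsq w' how, mul_one]
      rw [h1, hcomm (v * w * w') (hinZ _ (h1 ▸ hov)) v (hinZ v hv),
        mul_assoc v w w', ← mul_assoc v v, hsq v hv, one_mul, hcomm w (hinZ w hw) w' (hinZ w' how)]
    have hdne : v' * v ≠ 1 := fun h => by
      rw [mul_eq_one_iff_eq_inv, hinv v hv] at h
      exact hav haD h
    have hdo := hmul v' v hov hv hdne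
    have hfix : ∀ u, orderOf u = 2 → ∀ b ∈ K u, b * (a * u * a⁻¹ * u) * b⁻¹ = a * u * a⁻¹ * u := by
      intro u hu b hb
      rw [hKmem] at hb
      calc b * (a * u * a⁻¹ * u) * b⁻¹ = b * (a * u * a⁻¹) * b⁻¹ * (b * u * b⁻¹) := by group
        _ = a * (b * u * b⁻¹) * a⁻¹ * (b * u * b⁻¹) := by rw [hab b hb.1 a haD u hu]
        _ = _ := by rw [hb.2]
    have k1 : K v = K (v' * v) := hKle v _ hv hdo fun b hb =>
      (hKmem _ b).mpr ⟨((hKmem v b).mp hb).1, hfix v hv b hb⟩
    have k2 : K w = K (v' * v) := hKle w _ hw hdo fun b hb =>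
      (hKmem _ b).mpr ⟨((hKmem w b).mp hb).1, by rw [hd]; exact hfix w hw b hb⟩
    exact hne (k1.trans k2.symm)
  have hfpf : ∀ a ∈ D, a ∉ C → ∀ u : G, orderOf u = 2 → a * u * a⁻¹ ≠ u := by
    intro a ha haC u hu h
    refine haC (Subgroup.mem_centralizer_iff.mpr fun w hw => ?_)
    have := (hKmem w a).mp ((hKeq u w hu hw).le ((hKmem u a).mpr ⟨ha, h⟩))
    exact (mul_inv_eq_iff_eq_mul.mp this.2).symm
  -- an element of odd order acting without fixed involutions
  obtain ⟨m, hmD, hmC⟩ := SetLike.not_le_iff_exists.mp hk0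
  obtain ⟨x, hxD, hxodd, hxC⟩ : ∃ x ∈ D, Odd (orderOf x) ∧ x ∉ C := by
    set a := (orderOf m).factorization 2 with ha
    set o := orderOf m / 2 ^ a with ho
    have hmo : 2 ^ a * o = orderOf m := Nat.ordProj_mul_ordCompl_eq_self _ _
    have hoodd : Odd o := Nat.not_even_iff_odd.mp fun he =>
      Nat.not_dvd_ordCompl Nat.prime_two (orderOf_pos m).ne' he.two_dvd
    by_contra hcon
    push Not at hcon
    have hxC : m ^ 2 ^ a ∈ C := hcon _ (pow_mem hmD _) (by
      rw [orderOf_pow_of_dvd (by positivity) (hmo ▸ dvd_mul_right _ _), ← hmo,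
        Nat.mul_div_cancel_left _ (Nat.two_pow_pos a)]
      exact hoodd)
    have hyC : m ^ o ∈ C := by
      by_contra hyC
      set Q := Subgroup.zpowers (m ^ o)
      let V : Subgroup G :=
        { carrier := {g | g ∈ Z ∧ g * g = 1}
          one_mem' := ⟨one_mem _, one_mul 1⟩
          mul_mem' := fun {g h} hg hh => ⟨mul_mem hg.1 hh.1, by
            calc g * h * (g * h) = g * (h * g) * h := by group
              _ = g * (g * h) * h := by rw [hcomm h hh.1 g hg.1]
              _ = (g * g) * (h * h) := by group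
              _ = 1 := by rw [hg.2, hh.2, one_mul]⟩
          inv_mem' := fun {g} hg => ⟨inv_mem hg.1, by rw [← mul_inv_rev, hg.2, inv_one]⟩ }
      haveI : V.Normal := ⟨fun g hg c => ⟨Subgroup.Normal.conj_mem inferInstance _ hg.1 c, by
        rw [show c * g * c⁻¹ * (c * g * c⁻¹) = c * (g * g) * c⁻¹ by group, hg.2]; group⟩⟩
      letI : MulAction Q V := MulAction.compHom _ ((MulAut.conjNormal (H := V)).comp Q.subtype)
      have hQ : IsPGroup 2 Q := by
        have hm' : (m ^ o) ^ 2 ^ a = 1 := by rw [← pow_mul, mul_comm, hmo, pow_orderOf_eq_one]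
        obtain ⟨i, -, hi⟩ := (Nat.dvd_prime_pow Nat.prime_two).mp (orderOf_dvd_of_pow_eq_one hm')
        exact IsPGroup.of_card (n := i) (by rw [Nat.card_zpowers, hi])
      have h2 : 2 ∣ Nat.card V := by
        have h := orderOf_dvd_natCard (⟨s, hinZ s hs, hsq s hs⟩ : V)
        rwa [← Subgroup.orderOf_coe, hs] at h
      have h1 : (1 : V) ∈ MulAction.fixedPoints Q V := fun q => map_one (MulAut.conjNormal (H := V) (q : G))
      obtain ⟨b, hb, hb1⟩ := hQ.exists_fixed_point_of_prime_dvd_card_of_fixed_point V h2 h1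
      have hbo : orderOf (b : G) = 2 := orderOf_eq_prime (by rw [pow_two]; exact b.2.2)
        (fun h => hb1 (Subtype.ext h.symm))
      refine hfpf _ (pow_mem hmD o) hyC _ hbo ?_
      have := congrArg Subtype.val (hb ⟨m ^ o, Subgroup.mem_zpowers _⟩)
      exact this
    have hg : Nat.gcd o (2 ^ a) = 1 := Nat.Coprime.pow_right a ((Nat.coprime_two_right).mpr hoodd)
    have he := Nat.gcd_eq_gcd_ab o (2 ^ a)
    rw [hg] at he
    apply hmC
    have : m = (m ^ o) ^ (o.gcdA (2 ^ a)) * (m ^ 2 ^ a) ^ (o.gcdB (2 ^ a)) := by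
      rw [← zpow_natCast m o, ← zpow_natCast m (2 ^ a), ← zpow_mul, ← zpow_mul, ← zpow_add, ← he]
      simp
    rw [this]
    exact mul_mem (zpow_mem hyC _) (zpow_mem hxC _)
  obtain ⟨y, ⟨i, hi⟩, hy⟩ := exists_two_element_inv (hamb x)
  have hx1 : x ≠ 1 := fun h => hxC (h ▸ one_mem _)
  have hx2 : ∀ k, x ^ 2 ^ k = 1 → False := fun k h => hx1 (odd_eq_one hxodd h)
  rcases i with _ | _ | i
  · rw [pow_zero, orderOf_eq_one_iff] at hi
    refine hx2 1 ?_
    rw [hi] at hy
    rw [pow_one, pow_two]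
    nth_rewrite 2 [show x = x⁻¹ by simpa using hy]
    rw [mul_inv_cancel]
  · rw [zero_add, pow_one] at hi
    have h1 : x * y * x⁻¹ * y⁻¹ = x ^ 2 := by
      have h3 : y * x⁻¹ * y⁻¹ = x := by
        calc y * x⁻¹ * y⁻¹ = (y * x * y⁻¹)⁻¹ := by simp [mul_assoc]
        _ = x := by rw [hy, inv_inv]
      calc x * y * x⁻¹ * y⁻¹ = x * (y * x⁻¹ * y⁻¹) := by group
        _ = x ^ 2 := by rw [h3, pow_two]
    have h2 : x ^ 2 ∈ Z := h1 ▸ mul_mem (Subgroup.Normal.conj_mem inferInstance _ (hinZ y hi) x)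
      (inv_mem (hinZ y hi))
    obtain ⟨j, hj⟩ := hZ2 ⟨x ^ 2, h2⟩
    exact hx2 (j + 1) (by rw [pow_succ', pow_mul]; exact congrArg Subtype.val hj)
  · have hu : orderOf (y ^ 2 ^ (i + 1)) = 2 := by
      rw [orderOf_pow_of_dvd (by positivity) (hi ▸ pow_dvd_pow 2 (by omega)), hi,
        Nat.pow_div (by omega) two_pos, show i + 1 + 1 - (i + 1) = 1 by omega, pow_one]
    refine hfpf x hxD hxC _ hu ?_
    have hc : Commute x (y ^ 2) := by
      show x * y ^ 2 = y ^ 2 * x
      have hyy : y ^ 2 * x * (y ^ 2)⁻¹ = x := by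
        calc y ^ 2 * x * (y ^ 2)⁻¹ = y * (y * x * y⁻¹) * y⁻¹ := by rw [pow_two]; group
          _ = y * x⁻¹ * y⁻¹ := by rw [hy]
          _ = (y * x * y⁻¹)⁻¹ := by simp [mul_assoc]
          _ = x := by rw [hy, inv_inv]
      exact (mul_inv_eq_iff_eq_mul.mp hyy).symm
    have hc' := hc.pow_right (2 ^ i)
    rw [← pow_mul, ← pow_succ'] at hc'
    rw [mul_inv_eq_iff_eq_mul, hc'.eq]


/-- Let G be a finite solvable group of even order in which every element is conjugate to its inverse and all involutions are conjugate. Then a Sylow 2-subgroup S of G has order 2 or is a generalized quaternion group (of order at least 8). Moreover, if S has order 2, then G is the semidirect product of its largest normal subgroup of odd order O(G) by S, O(G) equals the derived subgroup of G, and the involution of S inverts every element of O(G). -/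
theorem result {G : Type*} [Group G] [Finite G] [Group.IsSolvable G]
    (hamb : ∀ x : G, IsConj x x⁻¹) (heven : 2 ∣ Nat.card G) (hone : ∀ s t : G, orderOf s = 2 → orderOf t = 2 → IsConj s t) (S : Sylow 2 G) :
    (Nat.card S = 2 ∨ ∃ n : ℕ, Nonempty ((S : Subgroup G) ≃* QuaternionGroup (2 ^ (n + 1)))) ∧
    (Nat.card S = 2 → (S : Subgroup G).IsComplement' (Cfsg.oddCore G) ∧ Cfsg.oddCore G = commutator G ∧
        ∀ t : G, t ∈ S → t ≠ 1 → ∀ x : G, x ∈ Cfsg.oddCore G → t * x * t⁻¹ = x⁻¹) := by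

  classical
  haveI : Fact (Nat.Prime 2) := ⟨Nat.prime_two⟩
  set O := Cfsg.oddCore G with hOdef
  have hOodd : Odd (Nat.card O) := Cfsg.Agent.Lib.Cores.odd_card_oddCore G
  have hO2 : ∀ g ∈ O, ∀ k, g ^ 2 ^ k = 1 → g = 1 := fun g hg k h => odd_eq_one
    (Odd.of_dvd_nat hOodd (Subgroup.orderOf_dvd_natCard O hg)) h
  have hS2 : IsPGroup 2 S := S.2
  have hSinj : ∀ g ∈ (S : Subgroup G), g ∈ O → g = 1 := fun g hg hgO => by
    obtain ⟨k, hk⟩ := hS2 ⟨g, hg⟩
    exact hO2 g hgO k (congrArg Subtype.val hk)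
  haveI : Nontrivial S := by
    rw [← Finite.one_lt_card_iff_nontrivial]
    obtain ⟨n, hn⟩ := IsPGroup.iff_card.mp hS2
    have := (S : Subgroup G).card_mul_index
    have h2 := S.not_dvd_index
    rcases n with _ | n
    · rw [hn, pow_zero, one_mul] at this
      exact absurd (this ▸ heven) h2
    · rw [hn]; exact Nat.one_lt_pow (by omega) (by norm_num)
  set π := QuotientGroup.mk' O with hπ
  have hqO : Cfsg.oddCore (G ⧸ O) = ⊥ := Cfsg.Agent.Lib.Cores.pPrimeCore_quotient_pPrimeCore 2 G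
  have hqamb : ∀ x : G ⧸ O, IsConj x x⁻¹ := by
    intro x
    obtain ⟨g, rfl⟩ := QuotientGroup.mk'_surjective O x
    rw [← map_inv]
    exact MonoidHom.map_isConj π (hamb g)
  have hlift : ∀ u : G ⧸ O, orderOf u = 2 → ∃ g : G, orderOf g = 2 ∧ π g = u := by
    intro u hu
    obtain ⟨g, rfl⟩ := QuotientGroup.mk'_surjective O u
    obtain ⟨m, hm⟩ := Cfsg.Agent.S4059.exists_odd_pow_two_element g
    have hu2 : π g ^ 2 = 1 := orderOf_dvd_iff_pow_eq_one.mp (dvd_of_eq hu)
    have himg : π (g ^ (2 * m + 1)) = π g := by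
      rw [map_pow, pow_succ, pow_mul, hu2, one_pow, one_mul]
    refine ⟨_, orderOf_eq_prime ?_ (fun h => ?_), himg⟩
    · have hmem : (g ^ (2 * m + 1)) ^ 2 ∈ O := by
        rw [← QuotientGroup.ker_mk' O, MonoidHom.mem_ker, map_pow, himg, hu2]
      obtain ⟨k, hk⟩ := hm ⟨_, pow_mem (Subgroup.mem_zpowers (g ^ (2 * m + 1))) 2⟩
      exact hO2 _ hmem k (congrArg Subtype.val hk)
    · rw [h, map_one] at himg
      rw [← himg, orderOf_one] at hu
      norm_num at hu
  have hsolq : Group.IsSolvable (G ⧸ O) := Group.isSolvable_of_surjective (QuotientGroup.mk'_surjective O)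
  have huq := unique_involution hsolq hqamb (fun u w hu hw => by
    obtain ⟨a, ha, rfl⟩ := hlift u hu
    obtain ⟨b, hb, rfl⟩ := hlift w hw
    exact MonoidHom.map_isConj π (hone a b ha hb)) hqO
  have huS : ∀ a b : S, orderOf a = 2 → orderOf b = 2 → a ∈ Subgroup.zpowers b := by
    intro a b ha hb
    have hord : ∀ c : S, orderOf c = 2 → orderOf (π (c : G)) = 2 := by
      intro c hc
      refine orderOf_eq_prime ?_ (fun h => ?_)
      · rw [← map_pow, orderOf_dvd_iff_pow_eq_one.mp (dvd_of_eq ((Subgroup.orderOf_coe c).trans hc)),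
          map_one]
      · have := hSinj c c.2 ((QuotientGroup.eq_one_iff _).mp h)
        rw [← Subgroup.orderOf_coe, this, orderOf_one] at hc
        norm_num at hc
    have h := huq _ _ (hord a ha) (hord b hb)
    have h' : (b : G)⁻¹ * (a : G) ∈ O := by
      rw [← QuotientGroup.ker_mk' O, MonoidHom.mem_ker, map_mul, map_inv]
      show (π (b : G))⁻¹ * π (a : G) = 1
      rw [h, inv_mul_cancel]
    have h1 : (b : G)⁻¹ * (a : G) = 1 := hSinj _ (mul_mem (inv_mem b.2) a.2) h'
    rw [Subtype.ext (inv_mul_eq_one.mp h1).symm]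
    exact Subgroup.mem_zpowers b
  have hkey : Nat.card S = 2 ∨ ∃ n : ℕ, Nonempty ((S : Subgroup G) ≃* QuaternionGroup (2 ^ (n + 1))) := by
    rcases Cfsg.Agent.Lib.Frobenius.isCyclic_or_quaternion_of_unique hS2 huS with hc | ⟨-, h⟩
    · refine Or.inl ?_
      haveI := hc
      have hmf : (Nat.card G).minFac = 2 := by
        rw [Nat.minFac_eq_two_iff]; exact heven
      set τ := MonoidHom.transferSylow S (IsCyclic.normalizer_le_centralizer hmf hc)
      have hsq : ∀ g : (S : Subgroup G), g ^ 2 = 1 := by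
        intro g
        have h1 : commutator G ≤ τ.ker := by
          rw [commutator_def, Subgroup.commutator_le]
          intro a _ b _
          rw [MonoidHom.mem_ker, map_commutatorElement, commutatorElement_eq_one_iff_mul_comm]
          exact (IsCyclic.commGroup (α := (S : Subgroup G))).mul_comm _ _
        have h2 : (g : G) ^ 2 ∈ τ.ker ⊓ (S : Subgroup G) :=
          ⟨h1 ((Cfsg.Agent.S4059.result hamb).2.2.1 (g : G)), pow_mem g.2 2⟩
        rw [(MonoidHom.ker_transferSylow_isComplement' S _).disjoint.eq_bot, Subgroup.mem_bot] at h2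
        exact Subtype.ext h2
      obtain ⟨g, hg⟩ := IsCyclic.exists_generator (α := (S : Subgroup G))
      have hc2 := orderOf_dvd_of_pow_eq_one (hsq g)
      rw [orderOf_eq_card_of_forall_mem_zpowers hg] at hc2
      have h1 := (Finite.one_lt_card_iff_nontrivial (α := (S : Subgroup G))).mpr ‹Nontrivial S›
      have := Nat.le_of_dvd two_pos hc2
      show Nat.card (S : Subgroup G) = 2
      omega
    · exact Or.inr h
  refine ⟨hkey, fun h2 => ?_⟩
  have h2' : Nat.card (S : Subgroup G) = 2 := h2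
  haveI : Fact (Nat.card (S : Subgroup G)).Prime := ⟨by rw [h2']; exact Nat.prime_two⟩
  have hc : IsCyclic (S : Subgroup G) := isCyclic_of_prime_card (p := 2) h2'
  haveI := hc
  have hmf : (Nat.card G).minFac = 2 := by
    rw [Nat.minFac_eq_two_iff]; exact heven
  set τ := MonoidHom.transferSylow S (IsCyclic.normalizer_le_centralizer hmf hc)
  have hcompl : τ.ker.IsComplement' (S : Subgroup G) := MonoidHom.ker_transferSylow_isComplement' S _
  have hkodd : Odd (Nat.card τ.ker) := Nat.not_even_iff_odd.mp fun he =>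
    MonoidHom.not_dvd_card_ker_transferSylow S _ he.two_dvd
  have hle : τ.ker ≤ O := Cfsg.Agent.Lib.Cores.le_oddCore inferInstance hkodd
  have hindex : τ.ker.index = 2 := hcompl.symm.index_eq_card.trans h2'
  have hOK : O = τ.ker := by
    refine le_antisymm ?_ hle
    intro g hg
    by_contra hgK
    haveI := Subgroup.normal_of_index_eq_two hindex
    have hpow : g ^ Nat.card O ∈ τ.ker := by
      have : (⟨g, hg⟩ : O) ^ Nat.card O = 1 := pow_card_eq_one'
      have h := congrArg Subtype.val this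
      simp only [SubmonoidClass.coe_pow, OneMemClass.coe_one] at h
      rw [h]; exact one_mem _
    obtain ⟨j, hj⟩ := hOodd
    rw [hj, pow_succ] at hpow
    refine hgK ((Subgroup.mul_mem_cancel_left _ ?_).mp hpow)
    rw [pow_mul]
    exact pow_mem (Subgroup.sq_mem_of_index_two hindex g) j
  have hcS : (S : Subgroup G).IsComplement' O := by rw [hOK]; exact hcompl.symm
  have hconjodd : ∀ k ∈ O, ∀ x ∈ O, k * x * k⁻¹ = x⁻¹ → x = 1 := by
    intro k hk x hx h
    obtain ⟨m, hm⟩ := Cfsg.Agent.S4059.exists_odd_pow_two_element k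
    have h1 := Cfsg.Agent.S4059.conj_pow_inv h m
    obtain ⟨i, hi⟩ := hm ⟨_, Subgroup.mem_zpowers _⟩
    have he : k ^ (2 * m + 1) = 1 := hO2 _ (pow_mem hk _) i (congrArg Subtype.val hi)
    rw [he] at h1
    refine hO2 x hx 1 ?_
    rw [pow_one, pow_two]
    nth_rewrite 2 [show x = x⁻¹ by simpa using h1]
    rw [mul_inv_cancel]
  have hnotO : ∀ t : G, t ∈ S → t ≠ 1 → t ∉ O := fun t ht ht1 h => ht1 (hSinj t ht h)
  have hinvert : ∀ t : G, t ∈ S → t ≠ 1 → ∀ x : G, x ∈ O → t * x * t⁻¹ = x⁻¹ := by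
    intro t ht ht1
    have htt : t * t = 1 := by
      have : (⟨t, ht⟩ : (S : Subgroup G)) ^ Nat.card (S : Subgroup G) = 1 := pow_card_eq_one'
      rw [h2', pow_two] at this
      exact congrArg Subtype.val this
    let φ : O → O := fun x => ⟨t * x * t⁻¹, Subgroup.Normal.conj_mem inferInstance _ x.2 t⟩
    have hfix : ∀ x ∈ O, t * x * t⁻¹ = x → x = 1 := by
      intro x hx hfx
      obtain ⟨g, hg⟩ := isConj_iff.mp (hamb x)
      by_cases hgO : g ∈ O
      · exact hconjodd g hgO x hx hg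
      · refine hconjodd (g * t) ?_ x hx ?_
        · rw [hOK] at hgO ⊢
          have htK : t ∉ τ.ker := hOK ▸ hnotO t ht ht1
          rw [Subgroup.mul_mem_iff_of_index_two hindex]
          exact iff_of_false hgO htK
        · rw [show g * t * x * (g * t)⁻¹ = g * (t * x * t⁻¹) * g⁻¹ by group, hfx, hg]
    intro x hx
    let f : O →* O :=
      { toFun := φ
        map_one' := Subtype.ext (by simp [φ])
        map_mul' := fun a b => Subtype.ext (by simp [φ, mul_assoc]) }
    have hf : MonoidHom.FixedPointFree f := fun a ha =>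
      Subtype.ext (hfix a a.2 (congrArg Subtype.val ha))
    have hf2 : Function.Involutive f := fun a => Subtype.ext (by
      show t * (t * (a : G) * t⁻¹) * t⁻¹ = a
      rw [show t * (t * (a : G) * t⁻¹) * t⁻¹ = (t * t) * a * (t * t)⁻¹ by group, htt]; simp)
    exact congrArg Subtype.val (congrFun (hf.coe_eq_inv_of_involutive hf2) ⟨x, hx⟩)
  refine ⟨hcS, ?_, hinvert⟩
  refine le_antisymm ?_ ?_
  · intro x hx
    obtain ⟨t, ht1⟩ := exists_ne (1 : (S : Subgroup G))
    have ht1' : (t : G) ≠ 1 := fun h => ht1 (Subtype.ext h)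
    have hmem : x⁻¹ * x⁻¹ ∈ commutator G := by
      have : ⁅(t : G), x⁆ ∈ commutator G := by
        rw [commutator_def]
        exact Subgroup.commutator_mem_commutator (Subgroup.mem_top _) (Subgroup.mem_top _)
      rwa [commutatorElement_def, hinvert t t.2 ht1' x hx] at this
    have hxx : (⟨x, hx⟩ : O) ^ Nat.card O = 1 := pow_card_eq_one'
    have h := congrArg Subtype.val hxx
    simp only [SubmonoidClass.coe_pow, OneMemClass.coe_one] at h
    obtain ⟨j, hj⟩ := hOodd
    rw [hj, pow_succ, pow_mul, mul_eq_one_iff_eq_inv] at h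
    rw [show x = ((x ^ 2) ^ j)⁻¹ by rw [h, inv_inv]]
    refine inv_mem (pow_mem ?_ j)
    simpa [pow_two] using inv_mem hmem
  · rw [hOK, commutator_def, Subgroup.commutator_le]
    intro a _ b _
    rw [MonoidHom.mem_ker, map_commutatorElement, commutatorElement_eq_one_iff_mul_comm]
    exact (IsCyclic.commGroup (α := (S : Subgroup G))).mul_comm _ _

end Cfsg.Agent.S4061
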