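import Cfsg.Statements.S4062
import Mathlib.GroupTheory.Solvable
import Mathlib.GroupTheory.Sylow
import Mathlib.GroupTheory.GroupAction.Quotient
import Mathlib.Tactic

set_option autoImplicit false
open Cfsg

namespace Cfsg.Agent.S4062

universe u

/-- In the abelian case there are at most two elements. -/
theorem card_le_two {G : Type u} [Group G] [Finite G]
    (h : ∀ x y : G, orderOf x = orderOf y → IsConj x y) (hc : ∀ x y : G, x * y = y * x) :
    Nat.card G ≤ 2 := by
  have heq : ∀ x y : G, orderOf x = orderOf y → x = y := by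
    intro x y hxy
    obtain ⟨g, hg⟩ := isConj_iff.mp (h x y hxy)
    rwa [hc g x, mul_inv_cancel_right] at hg
  by_contra hn
  have hinv : ∀ x : G, x ≠ 1 → orderOf x = 2 := by
    intro x hx
    have h1 := heq x x⁻¹ (orderOf_inv x).symm
    exact orderOf_eq_prime (by rw [pow_two]; nth_rewrite 2 [h1]; exact mul_inv_cancel x) hx
  obtain ⟨x, hx⟩ : ∃ x : G, x ≠ 1 := by
    by_contra hall
    push Not at hall
    haveI : Subsingleton G := ⟨fun a b => (hall a).trans (hall b).symm⟩
    exact hn (by simp)
  have huniv : (Set.univ : Set G) ⊆ {1, x} := fun y _ => by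
    rcases eq_or_ne y 1 with rfl | hy
    · simp
    · simp [heq y x ((hinv y hy).trans (hinv x hx).symm)]
  have h2 := Set.ncard_le_ncard huniv (Set.toFinite _)
  rw [Set.ncard_univ] at h2
  exact hn (h2.trans ((Set.ncard_insert_le _ _).trans (by simp)))

/-- A class cannot be bigger than the index of a cyclic subgroup. -/
theorem ncard_mul_orderOf_le {G : Type u} [Group G] [Finite G] {x : G} {S : Set G}
    (hS : ∀ y ∈ S, IsConj x y) : S.ncard * orderOf x ≤ Nat.card G := by
  haveI : Finite (ConjAct G) := inferInstanceAs (Finite G)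
  have h1 : S ⊆ MulAction.orbit (ConjAct G) x := fun y hy =>
    ConjAct.mem_orbit_conjAct.mpr (hS y hy).symm
  have h2 := Set.ncard_le_ncard h1 (Set.toFinite _)
  rw [← MulAction.index_stabilizer] at h2
  have h3 : orderOf x ≤ Nat.card (MulAction.stabilizer (ConjAct G) x) := by
    rw [← orderOf_injective (ConjAct.toConjAct (G := G)).toMonoidHom ConjAct.toConjAct.injective x,
      ← Nat.card_zpowers]
    refine Subgroup.card_le_of_le (Subgroup.zpowers_le.mpr ?_)
    rw [MulAction.mem_stabilizer_iff]
    show ConjAct.toConjAct x • x = x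
    rw [ConjAct.toConjAct_smul, mul_inv_cancel_right]
  calc S.ncard * orderOf x ≤ (MulAction.stabilizer (ConjAct G) x).index *
        Nat.card (MulAction.stabilizer (ConjAct G) x) := Nat.mul_le_mul h2 h3
    _ = Nat.card G := Subgroup.index_mul_card _

theorem sub_one_le_index {G : Type u} [Group G] [Finite G] {a : G} {S : Set G}
    (hS : ∀ y ∈ S, IsConj a y) : S.ncard ≤ (Subgroup.centralizer ({a} : Set G)).index := by
  have h1 : S ⊆ MulAction.orbit (ConjAct G) a := fun y hy =>
    ConjAct.mem_orbit_conjAct.mpr (hS y hy).symm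
  have h2 := Set.ncard_le_ncard h1 (Set.toFinite _)
  rw [← MulAction.index_stabilizer] at h2
  refine h2.trans (le_of_eq ?_)
  rw [← Subgroup.index_comap_of_surjective (f := (ConjAct.toConjAct (G := G)).toMonoidHom) _
    ConjAct.toConjAct.surjective]
  congr 1
  ext g
  rw [Subgroup.mem_comap, MulAction.mem_stabilizer_iff, Subgroup.mem_centralizer_singleton_iff]
  show ConjAct.toConjAct g • a = a ↔ _
  rw [ConjAct.toConjAct_smul, mul_inv_eq_iff_eq_mul]

theorem card_cases (n : ℕ) : ∀ (G : Type u) [Group G] [Finite G] [Group.IsSolvable G],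
    Nat.card G = n → (∀ x y : G, orderOf x = orderOf y → IsConj x y) →
    n = 1 ∨ n = 2 ∨ n = 6 := by
  induction n using Nat.strong_induction_on with
  | _ n ih =>
  intro G _ _ _ hn h
  by_cases hc : ∀ x y : G, x * y = y * x
  · have := card_le_two h hc
    have := Nat.card_pos (α := G)
    omega
  -- a nontrivial abelian normal subgroup
  have hnt : (⊤ : Subgroup G) ≠ ⊥ := fun hb => hc fun x y => by
    rw [Subgroup.mem_bot.mp (hb.le (Subgroup.mem_top x)), one_mul, mul_one]
  obtain ⟨m, hm, hm'⟩ : ∃ m, derivedSeries G m ≠ ⊥ ∧ derivedSeries G (m + 1) = ⊥ := by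
    obtain ⟨k, hk⟩ := (Group.isSolvable_def G).mp inferInstance
    induction k with
    | zero => exact absurd hk hnt
    | succ k ihk =>
      rcases eq_or_ne (derivedSeries G k) ⊥ with h0 | h0
      · exact ihk h0
      · exact ⟨k, h0, hk⟩
  set A := derivedSeries G m with hA
  haveI hAn : A.Normal := derivedSeries_normal G m
  have hAc : ∀ x ∈ A, ∀ y ∈ A, x * y = y * x := by
    rw [derivedSeries_succ, Subgroup.commutator_eq_bot_iff_le_centralizer] at hm'
    exact fun x hx y hy => (hm' hx y hy).symm
  obtain ⟨p, hp, hpA⟩ := Nat.exists_prime_and_dvd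
    (fun h1 : Nat.card A = 1 => hm (Subgroup.card_eq_one.mp h1))
  haveI := Fact.mk hp
  obtain ⟨⟨a, haA⟩, ha⟩ := exists_prime_orderOf_dvd_card' p hpA
  rw [Subgroup.orderOf_mk] at ha
  have hin : ∀ x : G, x ^ p = 1 → x ∈ A := by
    intro x hx
    rcases eq_or_ne x 1 with rfl | hx1
    · exact A.one_mem
    obtain ⟨g, rfl⟩ := isConj_iff.mp (h a x (ha.trans (orderOf_eq_prime hx hx1).symm))
    exact hAn.conj_mem a haA g
  let N : Subgroup G :=
    { carrier := {x | x ^ p = 1}
      one_mem' := one_pow p
      mul_mem' := fun {x y} hx hy => by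
        show (x * y) ^ p = 1
        rw [(show Commute x y from hAc x (hin x hx) y (hin y hy)).mul_pow, hx, hy, one_mul]
      inv_mem' := fun {x} hx => by
        show x⁻¹ ^ p = 1
        rw [inv_pow, hx, inv_one] }
  have hmemN : ∀ x, x ∈ N ↔ x ^ p = 1 := fun x => Iff.rfl
  haveI hNn : N.Normal := ⟨fun x hx g => by
    rw [hmemN] at hx ⊢
    rw [conj_pow, hx, mul_one, mul_inv_cancel]⟩
  have haN : a ∈ N := by rw [hmemN, ← ha]; exact pow_orderOf_eq_one a
  have ha1 : a ≠ 1 := fun h1 => by
    rw [h1, orderOf_one] at ha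
    exact hp.one_lt.ne ha
  have hN2 : 2 ≤ Nat.card N := N.one_lt_card_iff_ne_bot.mpr
    fun hb => ha1 (Subgroup.mem_bot.mp (hb.le haN))
  have hNcl : ∀ y ∈ (N : Set G) \ {1}, IsConj a y := fun y hy =>
    h a y (ha.trans (orderOf_eq_prime hy.1 hy.2).symm)
  have hNcard : ((N : Set G) \ {1}).ncard = Nat.card N - 1 := by
    rw [Set.ncard_sdiff_singleton_of_mem N.one_mem]
    congr 1
  have hNC : N ≤ Subgroup.centralizer ({a} : Set G) := fun x hx =>
    Subgroup.mem_centralizer_singleton_iff.mpr (hAc x (hin x hx) a haA)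
  -- the quotient
  set π := QuotientGroup.mk' N
  have hlift : ∀ (x : G), p ∣ orderOf (π x) → orderOf x = orderOf (π x) * p := by
    intro x hx
    have h1 : orderOf x ∣ orderOf (π x) * p := orderOf_dvd_of_pow_eq_one (by
      rw [pow_mul, ← hmemN, ← QuotientGroup.eq_one_iff]
      exact pow_orderOf_eq_one (π x))
    have h2 : orderOf (π x) ∣ orderOf x := orderOf_map_dvd π x
    obtain ⟨c, hc'⟩ := h2
    have hpos : 0 < orderOf (π x) := orderOf_pos _
    rw [hc'] at h1
    have hc2 : c ∣ p := Nat.dvd_of_mul_dvd_mul_left hpos h1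
    rcases (Nat.dvd_prime hp).mp hc2 with rfl | rfl
    · exfalso
      rw [mul_one] at hc'
      obtain ⟨e, he⟩ := hx
      have h3 : π (x ^ e) = 1 := (QuotientGroup.eq_one_iff _).mpr (by
        rw [hmemN, ← pow_mul, mul_comm e p, ← he, ← hc', pow_orderOf_eq_one])
      rw [map_pow] at h3
      have h4 := Nat.le_of_dvd (Nat.pos_of_ne_zero fun h0 => by rw [h0, mul_zero] at he; omega) (orderOf_dvd_of_pow_eq_one h3)
      have hp2 := hp.two_le
      nlinarith
    · exact hc'
  have hQ : ∀ x y : G ⧸ N, orderOf x = orderOf y → IsConj x y := by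
    intro x y hxy
    obtain ⟨x, rfl⟩ := QuotientGroup.mk'_surjective N x
    obtain ⟨y, rfl⟩ := QuotientGroup.mk'_surjective N y
    by_cases hd : p ∣ orderOf (π x)
    · exact π.map_isConj (h x y (by rw [hlift x hd, hlift y (hxy ▸ hd), hxy]))
    · obtain ⟨k, hk⟩ := exists_pow_eq_self_of_coprime (x := π x) (n := p)
        (hp.coprime_iff_not_dvd.mpr hd)
      have key : ∀ z : G, orderOf (π z) = orderOf (π x) →
          ((π z) ^ p) ^ k = π z → orderOf ((z ^ p) ^ k) = orderOf (π x) ∧ π ((z ^ p) ^ k) = π z := by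
        intro z hz hzk
        have e : π ((z ^ p) ^ k) = π z := by rw [map_pow, map_pow, hzk]
        refine ⟨Nat.dvd_antisymm ?_ ?_, e⟩
        · refine orderOf_dvd_of_pow_eq_one ?_
          have h0 : z ^ orderOf (π x) ∈ N := by
            rw [← QuotientGroup.eq_one_iff, ← hz]
            exact pow_orderOf_eq_one (π z)
          rw [hmemN] at h0
          rw [← pow_mul, ← pow_mul, show p * (k * orderOf (π x)) = orderOf (π x) * p * k by ring,
            pow_mul, pow_mul, h0, one_pow]
        · rw [← hz, ← e]; exact orderOf_map_dvd π _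
      have hyk : ((π y) ^ p) ^ k = π y := by
        rw [← pow_mul] at hk ⊢
        conv_rhs => rw [← pow_one (π y)]
        conv_rhs at hk => rw [← pow_one (π x)]
        rw [pow_eq_pow_iff_modEq] at hk ⊢
        rwa [← hxy]
      obtain ⟨h1, e1⟩ := key x rfl hk
      obtain ⟨h2, e2⟩ := key y hxy.symm hyk
      rw [← e1, ← e2]
      exact π.map_isConj (h _ _ (h1.trans h2.symm))
  have hcardG : Nat.card G = Nat.card (G ⧸ N) * Nat.card N := Subgroup.card_eq_card_quotient_mul_card_subgroup N
  have hlt : Nat.card (G ⧸ N) < n := by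
    rw [← hn, hcardG]
    exact lt_mul_of_one_lt_right Nat.card_pos hN2
  have hidx : (Subgroup.centralizer ({a} : Set G)).index ∣ Nat.card (G ⧸ N) :=
    Subgroup.index_dvd_of_le hNC
  have hle := sub_one_le_index hNcl
  rw [hNcard] at hle
  have hne4 : Nat.card G ≠ 4 := by
    intro h4
    haveI : IsMulCommutative G := IsPGroup.isMulCommutative_of_card_eq_prime_sq (p := 2) (by rw [h4]; norm_num)
    exact hc mul_comm'
  rcases ih _ hlt (G ⧸ N) rfl hQ with hq | hq | hq
  · -- `N = ⊤` is abelian
    exfalso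
    refine hc fun x y => hAc x (hin x ?_) y (hin y ?_)
    all_goals
      haveI := (Nat.card_eq_one_iff_unique.mp hq).1
      exact (hmemN _).mp ((QuotientGroup.eq_one_iff _).mp (Subsingleton.elim _ _))
  · have := Nat.le_of_dvd two_pos (hq ▸ hidx)
    have h23 : Nat.card N = 2 ∨ Nat.card N = 3 := by omega
    rcases h23 with h2 | h3
    · exact absurd (by rw [hcardG, hq, h2]) hne4
    · exact Or.inr (Or.inr (by rw [← hn, hcardG, hq, h3]))
  · exfalso
    have hQnc : ¬ ∀ x y : G ⧸ N, x * y = y * x := fun hc' => by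
      have := card_le_two hQ hc'; omega
    haveI : Fact (Nat.Prime 3) := ⟨Nat.prime_three⟩
    obtain ⟨u, hu⟩ := exists_prime_orderOf_dvd_card' (G := G ⧸ N) 2 (by rw [hq]; norm_num)
    obtain ⟨v, hv⟩ := exists_prime_orderOf_dvd_card' (G := G ⧸ N) 3 (by rw [hq]; norm_num)
    -- at least two involutions
    obtain ⟨u', hu', huu'⟩ : ∃ u' : G ⧸ N, orderOf u' = 2 ∧ u' ≠ u := by
      by_contra hno
      push Not at hno
      have huv : Commute u v := by
        have h1 := hno (v * u * v⁻¹) (by
          rw [← MulAut.conj_apply, MulEquiv.orderOf_eq, hu])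
        show u * v = v * u
        nth_rewrite 1 [← h1]
        group
      have h6 : orderOf (u * v) = Nat.card (G ⧸ N) := by
        rw [huv.orderOf_mul_eq_mul_orderOf_of_coprime (by rw [hu, hv]; norm_num), hu, hv, hq]
      haveI := isCyclic_of_orderOf_eq_card _ h6
      exact hQnc fun x y => mul_comm' x y
    have hv2 : orderOf (v ^ 2) = 3 ∧ v ^ 2 ≠ v := by
      refine ⟨by rw [Nat.Coprime.orderOf_pow (by rw [hv]; norm_num), hv], fun e => ?_⟩
      rw [pow_two, mul_eq_left] at e
      rw [e, orderOf_one] at hv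
      norm_num at hv
    have count : ∀ (k : ℕ) (s t : G ⧸ N), s ≠ t → orderOf s = k → orderOf t = k → p = k → False := by
      intro k s t hst hs ht hpk
      obtain ⟨x, rfl⟩ := QuotientGroup.mk'_surjective N s
      set S : Set G := QuotientGroup.mk (s := N) ⁻¹' {π x, t} with hS
      have h1 := ncard_mul_orderOf_le (x := x) (S := S) (fun y hy => by
        have hy' : orderOf (π y) = k := by
          rcases hy with hy | hy
          · exact (congrArg orderOf hy).trans hs
          · exact (congrArg orderOf (Set.mem_singleton_iff.mp hy)).trans ht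
        exact h x y (by rw [hlift x (by rw [hs, hpk]), hlift y (by rw [hy', hpk]), hs, hy']))
      have h2 : S.ncard = Nat.card N * 2 := by
        rw [← Nat.card_coe_set_eq, hS, Nat.card_congr (QuotientGroup.preimageMkEquivSubgroupProdSet N _),
          Nat.card_prod, Nat.card_coe_set_eq, Set.ncard_pair hst]
      rw [h2, hlift x (by rw [hs, hpk]), hs, hcardG, hq, hpk] at h1
      subst hpk
      have := hp.two_le
      have h4 : 4 ≤ p * p := Nat.mul_le_mul this this
      nlinarith [Nat.card_pos (α := N)]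
    by_cases hp2 : p = 2
    · exact count 2 u u' huu'.symm hu hu' hp2
    by_cases hp3 : p = 3
    · exact count 3 v (v ^ 2) hv2.2.symm hv hv2.1 hp3
    -- now `N` has order `7`
    rw [hq] at hidx
    have hNle : Nat.card N ≤ 7 := by have := Nat.le_of_dvd (by norm_num) hidx; omega
    have hpg : IsPGroup p N := fun x => ⟨1, Subtype.ext (by rw [pow_one]; exact x.2)⟩
    obtain ⟨e, he⟩ := IsPGroup.iff_card.mp hpg
    have hp5 : 5 ≤ p := by
      have h2 := hp.two_le
      by_contra h5
      have h4 : p = 4 := by omega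
      subst h4
      norm_num at hp
    have he1 : e = 1 := by
      rcases Nat.lt_or_ge e 2 with h | h
      · rcases Nat.eq_zero_or_pos e with rfl | h0
        · rw [pow_zero] at he; omega
        · omega
      · have := Nat.pow_le_pow_right (by omega : 0 < p) h
        nlinarith
    subst he1
    rw [pow_one] at he
    have hcyc : IsCyclic N := isCyclic_of_prime_card he
    have hz : Subgroup.zpowers a = N := Subgroup.eq_of_le_of_card_ge (Subgroup.zpowers_le.mpr haN)
      (by rw [Nat.card_zpowers, ha, he])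
    obtain ⟨w, rfl⟩ := QuotientGroup.mk'_surjective N v
    obtain ⟨g, hg⟩ := isConj_iff.mp (hQ _ _ (hv.trans hv2.1.symm))
    obtain ⟨g, rfl⟩ := QuotientGroup.mk'_surjective N g
    set z := g * w * g⁻¹ * w⁻¹ with hzdef
    have hπz : π z = π w := by
      rw [hzdef, map_mul, map_mul, map_mul, map_inv, map_inv, hg, pow_two, mul_inv_cancel_right]
    have hzC : z ∈ Subgroup.centralizer ({a} : Set G) := by
      rw [Subgroup.mem_centralizer_singleton_iff, ← mul_inv_eq_iff_eq_mul]
      obtain ⟨i, hi⟩ := Subgroup.mem_zpowers_iff.mp (hz.ge (hNn.conj_mem a haN g))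
      obtain ⟨j, hj⟩ := Subgroup.mem_zpowers_iff.mp (hz.ge (hNn.conj_mem a haN w))
      have hgi : ∀ r : ℤ, g * a ^ r * g⁻¹ = a ^ (i * r) := fun r => by
        rw [← conj_zpow, ← hi, zpow_mul]
      have hwi : ∀ r : ℤ, w * a ^ r * w⁻¹ = a ^ (j * r) := fun r => by
        rw [← conj_zpow, ← hj, zpow_mul]
      have key : g * w * a * (g * w)⁻¹ = w * g * a * (w * g)⁻¹ := by
        calc g * w * a * (g * w)⁻¹ = g * (w * a * w⁻¹) * g⁻¹ := by group
          _ = a ^ (i * j) := by rw [← hj, hgi]
          _ = a ^ (j * i) := by rw [mul_comm]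
          _ = w * (g * a * g⁻¹) * w⁻¹ := by rw [← hi, hwi]
          _ = w * g * a * (w * g)⁻¹ := by group
      calc z * a * z⁻¹
          = g * w * ((w * g)⁻¹ * a * (w * g)) * (g * w)⁻¹ := by rw [hzdef]; group
        _ = a := by
          obtain ⟨r, hr⟩ := Subgroup.mem_zpowers_iff.mp
            (hz.ge (by simpa using hNn.conj_mem a haN (w * g)⁻¹ : (w * g)⁻¹ * a * (w * g) ∈ N))
          have : g * w * a ^ r * (g * w)⁻¹ = w * g * a ^ r * (w * g)⁻¹ := by
            rw [← conj_zpow, key, conj_zpow]
          rw [← hr, this, hr]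
          group
    have h3 : 3 ∣ Nat.card ((Subgroup.centralizer ({a} : Set G)).map π) := by
      have hmem : π w ∈ (Subgroup.centralizer ({a} : Set G)).map π := ⟨z, hzC, hπz⟩
      have h := orderOf_dvd_natCard (⟨π w, hmem⟩ : (Subgroup.centralizer ({a} : Set G)).map π)
      rwa [Subgroup.orderOf_mk, hv] at h
    have hindex : ((Subgroup.centralizer ({a} : Set G)).map π).index = (Subgroup.centralizer ({a} : Set G)).index := by
      rw [← Subgroup.index_comap_of_surjective (f := π) _ (QuotientGroup.mk'_surjective N),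
        Subgroup.comap_map_eq, QuotientGroup.ker_mk', sup_eq_left.mpr hNC]
    have hle2 := Subgroup.index_mul_card ((Subgroup.centralizer ({a} : Set G)).map π)
    rw [hq, hindex] at hle2
    have := Nat.le_of_dvd Nat.card_pos h3
    have h12 := hle2 ▸ Nat.mul_le_mul_left (Subgroup.centralizer ({a} : Set G)).index this
    omega

theorem mulEquiv_perm {G : Type u} [Group G] [Finite G] (hG : Nat.card G = 6)
    (hc : ¬ ∀ x y : G, x * y = y * x) : Nonempty (G ≃* Equiv.Perm (Fin 3)) := by
  obtain ⟨x, hx⟩ := exists_prime_orderOf_dvd_card' (G := G) 2 (by rw [hG]; norm_num)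
  have hidx : (Subgroup.zpowers x).index = 3 := by
    have := Subgroup.index_mul_card (Subgroup.zpowers x)
    rw [Nat.card_zpowers, hx, hG] at this
    omega
  have hinj : Function.Injective (MulAction.toPermHom G (G ⧸ Subgroup.zpowers x)) := by
    rw [← MonoidHom.ker_eq_bot_iff, ← Subgroup.normalCore_eq_ker]
    by_contra hb
    apply hc
    have hle := (Subgroup.zpowers x).normalCore_le
    have h2 : Nat.card (Subgroup.zpowers x).normalCore ∣ 2 := by
      rw [← hx, ← Nat.card_zpowers]; exact Subgroup.card_dvd_of_le hle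
    have heq : (Subgroup.zpowers x).normalCore = Subgroup.zpowers x := by
      rcases (Nat.dvd_prime Nat.prime_two).mp h2 with h1 | h1
      · exact absurd (Subgroup.card_eq_one.mp h1) hb
      · exact Subgroup.eq_of_le_of_card_ge hle (by rw [h1, Nat.card_zpowers, hx])
    have hn : (Subgroup.zpowers x).Normal := heq ▸ Subgroup.normalCore_normal _
    haveI : Fact (Nat.Prime 3) := ⟨Nat.prime_three⟩
    obtain ⟨y, hy⟩ := exists_prime_orderOf_dvd_card' (G := G) 3 (by rw [hG]; norm_num)
    have hxy : Commute x y := by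
      obtain ⟨i, hi⟩ := Subgroup.mem_zpowers_iff.mp (hn.conj_mem x (Subgroup.mem_zpowers x) y)
      have hne : y * x * y⁻¹ ≠ 1 := fun e => by
        rw [conj_eq_one_iff] at e
        rw [e, orderOf_one] at hx; omega
      rw [← zpow_mod_orderOf, hx] at hi
      rcases Int.emod_two_eq_zero_or_one i with h0 | h0
      · norm_num [h0] at hi; exact absurd hi.symm hne
      · norm_num [h0] at hi; exact (eq_mul_inv_iff_mul_eq.mp hi)
    have h6 : orderOf (x * y) = Nat.card G := by
      rw [hxy.orderOf_mul_eq_mul_orderOf_of_coprime (by rw [hx, hy]; norm_num), hx, hy, hG]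
    haveI := isCyclic_of_orderOf_eq_card _ h6
    exact fun a b => mul_comm' a b
  haveI := Fintype.ofFinite (G ⧸ Subgroup.zpowers x)
  let e : G ⧸ Subgroup.zpowers x ≃ Fin 3 :=
    (Finite.equivFin _).trans (finCongr (by rw [← Subgroup.index_eq_card, hidx]))
  let f : G →* Equiv.Perm (Fin 3) :=
    e.permCongrHom.toMonoidHom.comp (MulAction.toPermHom G (G ⧸ Subgroup.zpowers x))
  have hf : Function.Injective f := e.permCongrHom.injective.comp hinj
  exact ⟨MulEquiv.ofBijective f ((Nat.bijective_iff_injective_and_card f).mpr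
    ⟨hf, by rw [hG, Nat.card_perm, Nat.card_fin]; rfl⟩)⟩

/-- A finite solvable group in which any two elements of the same order are conjugate has order 1 or 2 or is isomorphic to the symmetric group of degree 3. -/
theorem result {G : Type*} [Group G] [Finite G] [Group.IsSolvable G]
    (h : ∀ x y : G, orderOf x = orderOf y → IsConj x y) :
    Nat.card G = 1 ∨ Nat.card G = 2 ∨ Nonempty (G ≃* Equiv.Perm (Fin 3)) := by

  rcases card_cases (Nat.card G) G rfl h with h1 | h2 | h6
  · exact Or.inl h1
  · exact Or.inr (Or.inl h2)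
  · exact Or.inr (Or.inr (mulEquiv_perm h6 fun hc => by
      have := card_le_two h hc; omega))

end Cfsg.Agent.S4062
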