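import Cfsg.Statements.S4065
import Cfsg.Agent.Lib.Geometry.Dickson.Basic
-- import your own Cfsg.Agent.* helpers here

set_option autoImplicit false
open Cfsg
open scoped Matrix
open Cfsg.Agent.Lib.Geometry.Dickson Cfsg.Agent.Lib.SL2Trace

namespace Cfsg.Agent.S4065

theorem ti_centralizer {G : Type*} [Group G]
    (h : ∀ a b : G, a ≠ 1 → b ≠ 1 → b ∈ Subgroup.centralizer ({a} : Set G) →
      Subgroup.centralizer ({b} : Set G) = Subgroup.centralizer ({a} : Set G)) (x : G) :
    Cfsg.IsTISubset (Subgroup.centralizer ({x} : Set G) : Set G) := by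
  intro g hg y hy hgy
  by_contra hy1
  apply hg
  by_cases hx : x = 1
  · subst hx
    have ht : Subgroup.centralizer ({1} : Set G) = ⊤ := by
      ext z; simp [Subgroup.mem_centralizer_singleton_iff]
    rw [ht, Subgroup.mem_normalizer_iff]
    simp
  have e1 := h x y hx hy1 hy
  have e2 := h x (g * y * g⁻¹) hx (fun e => hy1 (by simpa using conj_eq_one_iff.mp e)) hgy
  rw [Subgroup.mem_normalizer_iff]
  intro z
  constructor
  · intro hz
    rw [← e1, Subgroup.mem_centralizer_singleton_iff] at hz
    rw [← e2, Subgroup.mem_centralizer_singleton_iff]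
    calc g * z * g⁻¹ * (g * y * g⁻¹) = g * (z * y) * g⁻¹ := by group
      _ = g * (y * z) * g⁻¹ := by rw [hz]
      _ = g * y * g⁻¹ * (g * z * g⁻¹) := by group
  · intro hz
    rw [← e2, Subgroup.mem_centralizer_singleton_iff] at hz
    rw [← e1, Subgroup.mem_centralizer_singleton_iff]
    calc z * y = g⁻¹ * (g * z * g⁻¹ * (g * y * g⁻¹)) * g := by group
      _ = g⁻¹ * (g * y * g⁻¹ * (g * z * g⁻¹)) * g := by rw [hz]
      _ = y * z := by group

theorem centralizer_eq_two {F : Type*} [Field F] [CharP F 2]
    (a b : Matrix.ProjectiveSpecialLinearGroup (Fin 2) F) (ha : a ≠ 1) (hb : b ≠ 1)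
    (hab : b ∈ Subgroup.centralizer ({a} : Set (Matrix.ProjectiveSpecialLinearGroup (Fin 2) F))) :
    Subgroup.centralizer ({b} : Set (Matrix.ProjectiveSpecialLinearGroup (Fin 2) F)) =
      Subgroup.centralizer ({a} : Set (Matrix.ProjectiveSpecialLinearGroup (Fin 2) F)) := by
  have hinj : Function.Injective (toPSL (F := F)) := by
    refine (injective_iff_map_eq_one _).mpr fun A hA => ?_
    rcases toPSL_eq_one.mp hA with h | h
    · exact h
    · rw [h]
      apply Subtype.ext
      simp [CharTwo.neg_eq]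
  obtain ⟨A, rfl⟩ := toPSL_surjective a
  obtain ⟨B, rfl⟩ := toPSL_surjective b
  have hc : ∀ C : Matrix.SpecialLinearGroup (Fin 2) F, C ≠ 1 → C ∉ Subgroup.center _ := fun C hC h => by
    rcases mem_center_iff.mp h with h | h
    · exact hC h
    · exact hC (hinj (by rw [h, map_one]; exact (toPSL_eq_one.mpr (Or.inr rfl))))
  have hA : A ∉ Subgroup.center _ := hc A fun h => ha (by rw [h, map_one])
  have hB : B ∉ Subgroup.center _ := hc B fun h => hb (by rw [h, map_one])
  rw [Subgroup.mem_centralizer_singleton_iff, ← map_mul, ← map_mul] at hab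
  have e := centralizer_eq hA hB (Subgroup.mem_centralizer_singleton_iff.mpr (hinj hab))
  ext z
  obtain ⟨Z, rfl⟩ := toPSL_surjective z
  rw [Subgroup.mem_centralizer_singleton_iff, Subgroup.mem_centralizer_singleton_iff, ← map_mul, ← map_mul,
    ← map_mul, ← map_mul, hinj.eq_iff, hinj.eq_iff, ← Subgroup.mem_centralizer_singleton_iff, e,
    Subgroup.mem_centralizer_singleton_iff]

/-- Let F be a finite field with 2ⁿ elements, n ≥ 2. In PSL₂(F) the centralizer of every element meets each of its conjugates by elements outside its normalizer trivially. -/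
theorem result (n : ℕ) (hn : 2 ≤ n)
    (x : Matrix.ProjectiveSpecialLinearGroup (Fin 2) (GaloisField 2 n)) :
    Cfsg.IsTISubset (Subgroup.centralizer ({x} : Set (Matrix.ProjectiveSpecialLinearGroup (Fin 2) (GaloisField 2 n))) :
      Set (Matrix.ProjectiveSpecialLinearGroup (Fin 2) (GaloisField 2 n))) := by
  haveI : Fact (Nat.Prime 2) := ⟨Nat.prime_two⟩
  exact ti_centralizer (fun a b ha hb hab => centralizer_eq_two a b ha hb hab) x

end Cfsg.Agent.S4065
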