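import Cfsg.Statements.S4066
import Mathlib.GroupTheory.Sylow
import Mathlib.GroupTheory.Nilpotent
import Cfsg.Agent.Lib.Cores.Fitting
import Cfsg.Prelude.Def_OddOrderLocal

set_option autoImplicit false
open Cfsg

namespace Cfsg.Agent.S4066

open scoped Pointwise

variable {G : Type*} [Group G] [Finite G]

theorem centralizer_le_normalizer_centralizer
    (hTI : ∀ x : G, Cfsg.IsTISubset (Subgroup.centralizer ({x} : Set G) : Set G))
    {a b : G} (ha : a ≠ 1) (hab : a * b = b * a) :
    Subgroup.centralizer ({a} : Set G) ≤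
      Subgroup.normalizer (Subgroup.centralizer ({b} : Set G) : Set G) := by
  intro g hg
  by_contra hN
  refine ha (hTI b g hN a (Subgroup.mem_centralizer_singleton_iff.mpr hab) ?_)
  rw [Subgroup.mem_centralizer_singleton_iff.mp hg, mul_inv_cancel_right]
  exact Subgroup.mem_centralizer_singleton_iff.mpr hab

theorem isTISubset_centralizer_restrict
    (hTI : ∀ x : G, Cfsg.IsTISubset (Subgroup.centralizer ({x} : Set G) : Set G))
    (K : Subgroup G) (x : K) :
    Cfsg.IsTISubset (Subgroup.centralizer ({x} : Set K) : Set K) := by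
  intro g hg y hy hgy
  have hmem : ∀ w : K, w ∈ Subgroup.centralizer ({x} : Set K) ↔
      (w : G) ∈ Subgroup.centralizer ({(x : G)} : Set G) := fun w => by
    simp [Subgroup.mem_centralizer_singleton_iff, Subtype.ext_iff]
  refine Subtype.ext (hTI (x : G) (g : G) (fun hN => hg ?_) (y : G) ((hmem y).mp hy) ?_)
  · rw [Subgroup.mem_normalizer_iff] at hN ⊢
    intro w
    rw [hmem, hmem]
    simpa using hN (w : G)
  · simpa using (hmem _).mp hgy

/-- If every centralizer is normal, the group is nilpotent. -/
theorem isNilpotent_of_normal_centralizers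
    (h : ∀ x : G, (Subgroup.centralizer ({x} : Set G)).Normal) : Group.IsNilpotent G := by
  have htop : Cfsg.fittingSubgroup G = ⊤ := by
    rw [eq_top_iff]
    intro x _
    set N := Subgroup.normalClosure ({x} : Set G) with hN
    have hconj : ∀ a b : G, IsConj x a → IsConj x b → a * b = b * a := by
      intro a b ha hb
      obtain ⟨c, hc⟩ := isConj_iff.mp (ha.symm.trans hb)
      have h1 : a ∈ Subgroup.centralizer ({a} : Set G) :=
        Subgroup.mem_centralizer_singleton_iff.mpr rfl
      have h2 := (h a).conj_mem a h1 c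
      rw [hc] at h2
      exact (Subgroup.mem_centralizer_singleton_iff.mp h2).symm
    have hcomm : IsMulCommutative N := by
      rw [hN, Subgroup.normalClosure]
      apply Subgroup.isMulCommutative_closure
      intro a ha b hb
      obtain ⟨a', rfl, ha'⟩ := Group.mem_conjugatesOfSet_iff.mp ha
      obtain ⟨b', rfl, hb'⟩ := Group.mem_conjugatesOfSet_iff.mp hb
      exact hconj a b ha' hb'
    have hnil : Group.IsNilpotent N := by
      letI : CommGroup N := open scoped IsMulCommutative in inferInstance
      exact CommGroup.isNilpotent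
    exact Cfsg.Agent.Lib.Cores.le_fittingSubgroup Subgroup.normalClosure_normal hnil
      (Subgroup.subset_normalClosure rfl)
  have := Cfsg.Agent.Lib.Cores.fittingSubgroup_isNilpotent (G := G)
  rw [htop] at this
  exact Cfsg.Agent.Lib.Cores.isNilpotent_of_injective
    ((Subgroup.topEquiv (G := G)).symm.toMonoidHom) (Subgroup.topEquiv (G := G)).symm.injective

/-- A nontrivial central element forces nilpotency. -/
theorem isNilpotent_of_center
    (hTI : ∀ x : G, Cfsg.IsTISubset (Subgroup.centralizer ({x} : Set G) : Set G))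
    {z : G} (hz : z ≠ 1) (hc : z ∈ Subgroup.center G) : Group.IsNilpotent G := by
  refine isNilpotent_of_normal_centralizers fun x => ?_
  have h := centralizer_le_normalizer_centralizer hTI hz (b := x)
    (Subgroup.mem_center_iff.mp hc x).symm
  rw [← Subgroup.normalizer_eq_top_iff, eq_top_iff]
  exact fun g _ => h (Subgroup.mem_centralizer_singleton_iff.mpr (Subgroup.mem_center_iff.mp hc g))

/-- Let G be a finite group in which the centralizer of every element meets each of its conjugates by elements outside its normalizer trivially. Then any two distinct Sylow p-subgroups of G, for any prime p, intersect trivially. -/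
theorem result {G : Type*} [Group G] [Finite G] (hTI : ∀ x : G, Cfsg.IsTISubset (Subgroup.centralizer ({x} : Set G) : Set G))
    {p : ℕ} [Fact p.Prime] (P Q : Sylow p G) (hPQ : P ≠ Q) : (P : Subgroup G) ⊓ (Q : Subgroup G) = ⊥ := by
  classical
  by_contra hne
  obtain ⟨x, hx, hx1⟩ := ((P : Subgroup G) ⊓ (Q : Subgroup G)).bot_or_exists_ne_one.resolve_left hne
  obtain ⟨hxP, hxQ⟩ := Subgroup.mem_inf.mp hx
  apply hPQ
  have hcent : ∀ R : Sylow p G, x ∈ (R : Subgroup G) →
      ∃ z : G, z ≠ 1 ∧ z ∈ (R : Subgroup G) ∧ ∀ w ∈ (R : Subgroup G), w * z = z * w := by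
    intro R hR
    have : Nontrivial (R : Subgroup G) := nontrivial_of_ne ⟨x, hR⟩ 1 (fun h => hx1 (congrArg Subtype.val h))
    have hc := R.isPGroup'.center_nontrivial
    obtain ⟨⟨z, hz⟩, hz1⟩ := exists_ne (1 : Subgroup.center (R : Subgroup G))
    exact ⟨z, fun h => hz1 (Subtype.ext (Subtype.ext h)), z.2, fun w hw =>
      congrArg Subtype.val (Subgroup.mem_center_iff.mp hz ⟨w, hw⟩)⟩
  obtain ⟨z, hz1, hzP, hzc⟩ := hcent P hxP
  obtain ⟨z', hz1', hzQ, hzc'⟩ := hcent Q hxQ
  set C := Subgroup.centralizer ({z} : Set G) with hC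
  have hPC : (P : Subgroup G) ≤ C := fun w hw => Subgroup.mem_centralizer_singleton_iff.mpr (hzc w hw)
  set N := Subgroup.normalizer (C : Set G) with hN
  have hCN : C ≤ N := Subgroup.le_normalizer
  -- `z'` centralizes `z`
  have hz'N : z' ∈ N := centralizer_le_normalizer_centralizer hTI hx1 (hzc x hxP)
    (Subgroup.mem_centralizer_singleton_iff.mpr (hzc' x hxQ).symm)
  have hCnormal : (C.subgroupOf N).Normal := Subgroup.normal_in_normalizer
  have hsyl : ∀ w ∈ N, (∃ k : ℕ, w ^ p ^ k = 1) → w ∈ C := by
    intro w hwN ⟨k, hk⟩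
    have hW : IsPGroup p (Subgroup.zpowers (⟨w, hwN⟩ : N)) := by
      obtain ⟨j, -, hj⟩ := (Nat.dvd_prime_pow (Fact.out : p.Prime)).mp (orderOf_dvd_of_pow_eq_one hk)
      exact IsPGroup.of_card (n := j) (by rw [Nat.card_zpowers, Subgroup.orderOf_mk, hj])
    obtain ⟨R, hR⟩ := hW.exists_le_sylow
    have hPN : (P : Subgroup G) ≤ N := hPC.trans hCN
    obtain ⟨g, hg⟩ := MulAction.exists_smul_eq N (P.subtype hPN) R
    have hRC : (R : Subgroup N) ≤ C.subgroupOf N := by
      rw [← hg, Sylow.coe_subgroup_smul]
      intro u hu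
      rw [Subgroup.mem_pointwise_smul_iff_inv_smul_mem] at hu
      have h1 : (MulAut.conj g)⁻¹ • u ∈ C.subgroupOf N := by
        have h2 : (MulAut.conj g)⁻¹ • u ∈ (P : Subgroup G).subgroupOf N := hu
        exact Subgroup.mem_subgroupOf.mpr (hPC (Subgroup.mem_subgroupOf.mp h2))
      have := hCnormal.conj_mem _ h1 g
      simpa [MulAut.smul_def, mul_assoc] using this
    exact Subgroup.mem_subgroupOf.mp (hRC (hR (Subgroup.mem_zpowers _)))
  have hz'C : z' ∈ C := by
    refine hsyl z' hz'N ?_
    obtain ⟨k, hk⟩ := Q.isPGroup' ⟨z', hzQ⟩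
    exact ⟨k, by simpa using congrArg Subtype.val hk⟩
  -- hence `Q` normalizes, and is contained in, `C`
  have hQC : (Q : Subgroup G) ≤ C := by
    intro w hw
    refine hsyl w (centralizer_le_normalizer_centralizer hTI hz1'
      (Subgroup.mem_centralizer_singleton_iff.mp hz'C)
      (Subgroup.mem_centralizer_singleton_iff.mpr (hzc' w hw))) ?_
    obtain ⟨k, hk⟩ := Q.isPGroup' ⟨w, hw⟩
    exact ⟨k, by simpa using congrArg Subtype.val hk⟩
  have hnil : Group.IsNilpotent C :=
    isNilpotent_of_center (isTISubset_centralizer_restrict hTI C)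
      (z := ⟨z, Subgroup.mem_centralizer_singleton_iff.mpr rfl⟩)
      (fun h => hz1 (congrArg Subtype.val h))
      (Subgroup.mem_center_iff.mpr fun g => Subtype.ext (Subgroup.mem_centralizer_singleton_iff.mp g.2))
  have huniq : ∀ R R' : Sylow p C, R = R' := by
    intro R R'
    have hn : ∀ S : Sylow p C, (S : Subgroup C).Normal := fun S =>
      ((Group.isNilpotent_of_finite_tfae (G := C)).out 0 3 rfl rfl).mp hnil p ‹_› S
    have := hn R
    obtain ⟨g, hg⟩ := MulAction.exists_smul_eq C R R'
    rw [← hg, Sylow.smul_eq_of_normal]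
  have := congrArg (fun S : Sylow p C => (S : Subgroup C).map C.subtype)
    (huniq (P.subtype hPC) (Q.subtype hQC))
  simp only [Sylow.coe_subtype, Subgroup.subgroupOf_map_subtype, inf_eq_left.mpr hPC,
    inf_eq_left.mpr hQC] at this
  exact Sylow.ext this

end Cfsg.Agent.S4066
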