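import Cfsg.Statements.S4067
import Mathlib
import Cfsg.Agent.Lib.Characters.Kernel
import Cfsg.Agent.Lib.Characters.Integrality
import Cfsg.Agent.Lib.Characters.Ortho

set_option autoImplicit false
open Cfsg

namespace Cfsg.Agent.S4067

section

variable {G : Type*} [Group G] [Finite G]

omit [Finite G] in
theorem pow_class_two (a b d : G) (hba : b * a = d * (a * b)) (hd : ∀ x : G, x * d = d * x)
    (n : ℕ) : (a * b) ^ n = d ^ n.choose 2 * a ^ n * b ^ n := by
  have hdk : ∀ (k : ℕ) (x : G), x * d ^ k = d ^ k * x := fun k x =>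
    ((show Commute x d from hd x).pow_right k).eq
  have hb : ∀ k : ℕ, b ^ k * a = d ^ k * (a * b ^ k) := by
    intro k
    induction k with
    | zero => simp
    | succ k ih =>
      calc b ^ (k + 1) * a = b ^ k * (b * a) := by rw [pow_succ, mul_assoc]
        _ = b ^ k * d * (a * b) := by rw [hba, mul_assoc]
        _ = d * (b ^ k * a) * b := by rw [hd (b ^ k)]; simp only [mul_assoc]
        _ = _ := by rw [ih, pow_succ' d, pow_succ b]; simp only [mul_assoc]
  induction n with
  | zero => simp
  | succ n ih =>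
    rw [pow_succ (a * b), ih, Nat.choose_succ_succ', Nat.choose_one_right, Nat.add_comm n, pow_add]
    calc d ^ n.choose 2 * a ^ n * b ^ n * (a * b)
        = d ^ n.choose 2 * a ^ n * (b ^ n * a) * b := by simp only [mul_assoc]
      _ = d ^ n.choose 2 * (a ^ n * d ^ n) * (a * b ^ n) * b := by
          rw [hb]; simp only [mul_assoc]
      _ = d ^ n.choose 2 * (d ^ n * a ^ n) * (a * b ^ n) * b := by rw [hdk]
      _ = _ := by rw [pow_succ a, pow_succ b]; simp only [mul_assoc]

theorem minFac_le_of_dvd {d : ℕ} (hd : d ∣ Nat.card G) (h1 : d ≠ 1) :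
    (Nat.card G).minFac ≤ d :=
  (Nat.minFac_le_of_dvd (Nat.minFac_prime h1).two_le ((Nat.minFac_dvd d).trans hd)).trans
    (Nat.minFac_le (Nat.pos_of_dvd_of_pos hd Nat.card_pos))

theorem orbits_le_classes :
    Nat.card (MulAction.orbitRel.Quotient (MulAut G) G) ≤ Nat.card (ConjClasses G) := by
  haveI : Finite (ConjClasses G) := Finite.of_surjective _ ConjClasses.mk_surjective
  refine Nat.card_le_card_of_surjective
    (Quotient.lift (fun g : G => (Quotient.mk (MulAction.orbitRel (MulAut G) G) g))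
      (fun a b h => Quotient.sound ?_)) ?_
  · obtain ⟨c, hc⟩ := isConj_iff.mp h
    show a ∈ MulAction.orbit (MulAut G) b
    exact ⟨(MulAut.conj c)⁻¹, by
      show (MulAut.conj c)⁻¹ b = a
      rw [← hc]; simp [mul_assoc]⟩
  · intro q
    induction q using Quotient.inductionOn with
    | h g => exact ⟨ConjClasses.mk g, rfl⟩

open Cfsg.Agent.Lib.Characters in
theorem classes_bound {p : ℕ} (hp : p = (Nat.card G).minFac) :
    Nat.card (ConjClasses G) * p ^ 2 + (commutator G).index ≤
      Nat.card G + (commutator G).index * p ^ 2 := by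
  classical
  haveI : Finite (ConjClasses G) := Finite.of_surjective _ ConjClasses.mk_surjective
  haveI : Finite (IrrCharacter G) := Nat.finite_of_card_ne_zero (by
    rw [card_irrCharacter]; exact Nat.card_pos.ne')
  haveI := Fintype.ofFinite (IrrCharacter G)
  choose d hd0 hd hdvd using fun χ : IrrCharacter G => IsIrrCharacter.exists_degree_dvd χ.2
  have hsum : ∑ χ, d χ ^ 2 = Nat.card G := by
    have h := sum_degree_sq (G := G)
    simp only [hd] at h
    exact_mod_cast h
  set L := Finset.univ.filter fun χ : IrrCharacter G => (χ : G → ℂ) 1 = 1 with hL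
  have hLc : L.card = (commutator G).index := by
    rw [← card_linear_irr, Nat.card_eq_fintype_card, Fintype.card_subtype]
  have hk : Nat.card (ConjClasses G) = Fintype.card (IrrCharacter G) := by
    rw [← card_irrCharacter, Nat.card_eq_fintype_card]
  have hLd : ∀ χ ∈ L, d χ = 1 := fun χ hχ => by
    have h := (Finset.mem_filter.1 hχ).2
    rw [hd χ] at h
    exact_mod_cast h
  have hle : ∀ χ ∈ Lᶜ, p ^ 2 ≤ d χ ^ 2 := fun χ hχ => Nat.pow_le_pow_left
    (hp ▸ minFac_le_of_dvd (hdvd χ) fun h1 => by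
      refine (Finset.mem_compl.1 hχ) (Finset.mem_filter.2 ⟨Finset.mem_univ _, ?_⟩)
      rw [hd χ, h1, Nat.cast_one]) 2
  rw [← Finset.sum_add_sum_compl L, Finset.sum_congr rfl fun χ hχ => by rw [hLd χ hχ, one_pow],
    Finset.sum_const, smul_eq_mul, mul_one, hLc] at hsum
  have h2 := Finset.card_nsmul_le_sum _ (fun χ => d χ ^ 2) _ hle
  rw [smul_eq_mul] at h2
  have h3 : Fintype.card (IrrCharacter G) = (commutator G).index + Lᶜ.card := by
    rw [← hLc, Finset.card_add_card_compl]
  rw [hk, h3, add_mul]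
  omega

/-- An automorphism fixing `C` and sending `u` to `v`. -/
theorem exists_aut (C : Subgroup G) [C.Normal] {p : ℕ} (hp : p.Prime) (hC : C.index = p) (u v : G)
    (hu : u ∉ C) (hvu : u⁻¹ * v ∈ C) (hpow : v ^ p = u ^ p)
    (hcm : ∀ c ∈ C, Commute (u⁻¹ * v) c) :
    ∃ φ : MulAut G, ∀ (i : ℤ), ∀ c ∈ C, φ (c * u ^ i) = c * v ^ i := by
  haveI := Fact.mk hp
  have hcard : Nat.card (G ⧸ C) = p := hC
  have hu1 : (u : G ⧸ C) ≠ 1 := fun h => hu ((QuotientGroup.eq_one_iff u).1 h)
  have hord : orderOf (u : G ⧸ C) = p :=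
    orderOf_eq_prime (by rw [← hcard]; exact pow_card_eq_one') hu1
  have hdiv : ∀ i : ℤ, u ^ i ∈ C → (p : ℤ) ∣ i := fun i h => by
    rw [← hord, orderOf_dvd_iff_zpow_eq_one, ← QuotientGroup.mk_zpow, QuotientGroup.eq_one_iff]
    exact h
  have hex : ∀ g : G, ∃ i : ℤ, g * (u ^ i)⁻¹ ∈ C := fun g => by
    have htop : Subgroup.zpowers (u : G ⧸ C) = ⊤ := Subgroup.eq_top_of_card_eq _ (by
      rw [Nat.card_zpowers, hord, hcard])
    obtain ⟨i, hi⟩ := Subgroup.mem_zpowers_iff.1 (htop ▸ Subgroup.mem_top (g : G ⧸ C))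
    refine ⟨i, (QuotientGroup.eq_one_iff _).1 ?_⟩
    rw [QuotientGroup.mk_mul, QuotientGroup.mk_inv, QuotientGroup.mk_zpow, hi, mul_inv_cancel]
  choose κ hκ using hex
  have hwd : ∀ (i j : ℤ) (c c' : G), c ∈ C → c' ∈ C → c * u ^ i = c' * u ^ j →
      c * v ^ i = c' * v ^ j := by
    intro i j c c' hc hc' h
    have h2 : c'⁻¹ * c = u ^ (j - i) := by
      rw [zpow_sub]
      calc c'⁻¹ * c = c'⁻¹ * (c * u ^ i) * (u ^ i)⁻¹ := by group
        _ = _ := by rw [h]; group
    obtain ⟨t, ht⟩ := hdiv (j - i) (h2 ▸ mul_mem (inv_mem hc') hc)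
    have h3 : v ^ (j - i) = u ^ (j - i) := by
      rw [ht, zpow_mul, zpow_mul, zpow_natCast, zpow_natCast, hpow]
    calc c * v ^ i = c' * (c'⁻¹ * c) * v ^ i := by group
      _ = c' * v ^ (j - i) * v ^ i := by rw [h2, h3]
      _ = c' * v ^ j := by rw [mul_assoc, ← zpow_add, sub_add_cancel]
  let f : G → G := fun g => g * (u ^ κ g)⁻¹ * v ^ κ g
  have hf : ∀ (i : ℤ), ∀ c ∈ C, f (c * u ^ i) = c * v ^ i := fun i c hc =>
    hwd (κ (c * u ^ i)) i _ _ (hκ _) hc (by group)
  have hconj : ∀ c ∈ C, ∀ i : ℤ, v ^ i * c * (v ^ i)⁻¹ = u ^ i * c * (u ^ i)⁻¹ := by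
    have h1 : ∀ c ∈ C, MulAut.conj v c = MulAut.conj u c := fun c hc => by
      have := (hcm c hc).eq
      show v * c * v⁻¹ = u * c * u⁻¹
      calc v * c * v⁻¹ = u * ((u⁻¹ * v) * c) * v⁻¹ := by group
        _ = u * (c * (u⁻¹ * v)) * v⁻¹ := by rw [this]
        _ = _ := by group
    intro c hc i
    induction i using Int.induction_on generalizing c with
    | zero => simp
    | succ n ih =>
      have hc' : u * c * u⁻¹ ∈ C := Subgroup.Normal.conj_mem ‹_› c hc u
      have h := ih (u * c * u⁻¹) hc'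
      rw [zpow_add, zpow_add, zpow_one, zpow_one]
      have := h1 c hc
      simp only [MulAut.conj_apply] at this
      calc v ^ (n : ℤ) * v * c * (v ^ (n : ℤ) * v)⁻¹
          = v ^ (n : ℤ) * (v * c * v⁻¹) * (v ^ (n : ℤ))⁻¹ := by group
        _ = u ^ (n : ℤ) * (u * c * u⁻¹) * (u ^ (n : ℤ))⁻¹ := by rw [this, h]
        _ = _ := by group
    | pred n ih =>
      have hc' : u⁻¹ * c * u ∈ C := by
        simpa using Subgroup.Normal.conj_mem ‹_› c hc u⁻¹
      have h := ih (u⁻¹ * c * u) hc'
      have := h1 _ hc'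
      simp only [MulAut.conj_apply] at this
      rw [zpow_sub, zpow_sub, zpow_one, zpow_one]
      have e : v⁻¹ * c * v = u⁻¹ * c * u := by
        calc v⁻¹ * c * v = v⁻¹ * (u * (u⁻¹ * c * u) * u⁻¹) * v := by group
          _ = v⁻¹ * (v * (u⁻¹ * c * u) * v⁻¹) * v := by rw [this]
          _ = _ := by group
      calc v ^ (-(n : ℤ)) * v⁻¹ * c * (v ^ (-(n : ℤ)) * v⁻¹)⁻¹
          = v ^ (-(n : ℤ)) * (v⁻¹ * c * v) * (v ^ (-(n : ℤ)))⁻¹ := by group
        _ = u ^ (-(n : ℤ)) * (u⁻¹ * c * u) * (u ^ (-(n : ℤ)))⁻¹ := by rw [e, h]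
        _ = _ := by group
  have hmul : ∀ a b, f (a * b) = f a * f b := by
    intro a b
    obtain ⟨c, hc, hca⟩ : ∃ c ∈ C, a = c * u ^ κ a := ⟨_, hκ a, by group⟩
    obtain ⟨c', hc', hcb⟩ : ∃ c ∈ C, b = c * u ^ κ b := ⟨_, hκ b, by group⟩
    have hmem : c * (u ^ κ a * c' * (u ^ κ a)⁻¹) ∈ C :=
      mul_mem hc (Subgroup.Normal.conj_mem ‹_› c' hc' _)
    have hab : a * b = (c * (u ^ κ a * c' * (u ^ κ a)⁻¹)) * u ^ (κ a + κ b) := by
      conv_lhs => rw [hca, hcb]
      group
    rw [hab, hf _ _ hmem]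
    conv_rhs => rw [hca, hcb, hf _ _ hc, hf _ _ hc']
    rw [← hconj c' hc' (κ a)]
    group
  have hvC : ∀ i : ℤ, v ^ i ∈ C → (p : ℤ) ∣ i := fun i h => by
    refine hdiv i ((QuotientGroup.eq_one_iff _).1 ?_)
    have e : (v : G ⧸ C) = u := (QuotientGroup.eq.2 hvu).symm
    rw [QuotientGroup.mk_zpow, ← e, ← QuotientGroup.mk_zpow, QuotientGroup.eq_one_iff]
    exact h
  let F : G →* G := MonoidHom.mk' f hmul
  have hinj : Function.Injective F := by
    rw [injective_iff_map_eq_one]
    intro g hg
    change g * (u ^ κ g)⁻¹ * v ^ κ g = 1 at hg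
    obtain ⟨t, ht⟩ := hvC (κ g) (by
      rw [show v ^ κ g = (g * (u ^ κ g)⁻¹)⁻¹ from eq_inv_of_mul_eq_one_right hg]
      exact inv_mem (hκ g))
    have : v ^ κ g = u ^ κ g := by rw [ht, zpow_mul, zpow_mul, zpow_natCast, zpow_natCast, hpow]
    rw [this, inv_mul_cancel_right] at hg
    exact hg
  exact ⟨MulEquiv.ofBijective F ((Finite.injective_iff_bijective).1 hinj), hf⟩

theorem central_commutator {p : ℕ} (hp : p = (Nat.card G).minFac) (hpp : p.Prime)
    (hcard : Nat.card (commutator G) = p) : ∀ c ∈ commutator G, ∀ x : G, x * c = c * x := by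
  classical
  haveI := Fact.mk hpp
  intro c hc x
  by_cases hc1 : c = 1
  · simp [hc1]
  set a : ↥(commutator G) := ⟨c, hc⟩ with ha
  have horb : MulAction.orbit (ConjAct G) a ⊆ {b : ↥(commutator G) | b ≠ 1} := by
    rintro _ ⟨g, rfl⟩ h
    apply hc1
    have h' := congrArg (fun b : ↥(commutator G) => g⁻¹ • b) h
    simp only [inv_smul_smul, smul_one] at h'
    exact congrArg Subtype.val h'
  have hlt : Nat.card (MulAction.orbit (ConjAct G) a) < p := by
    rw [Nat.card_coe_set_eq]
    refine (Set.ncard_le_ncard horb).trans_lt ?_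
    rw [show ({b : ↥(commutator G) | b ≠ 1}) = {1}ᶜ by ext; simp, Set.ncard_compl,
      Set.ncard_singleton, hcard]
    exact Nat.sub_lt hpp.pos one_pos
  have hdvd : Nat.card (MulAction.orbit (ConjAct G) a) ∣ Nat.card G := by
    rw [Nat.card_congr (MulAction.orbitEquivQuotientStabilizer (ConjAct G) a),
      ← Nat.card_congr (ConjAct.ofConjAct (G := G)).toEquiv]
    exact Subgroup.index_dvd_card _
  have h1 : Nat.card (MulAction.orbit (ConjAct G) a) = 1 := by
    by_contra h
    exact absurd (minFac_le_of_dvd hdvd h) (by rw [← hp]; omega)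
  obtain ⟨b, hb⟩ := (Set.ncard_eq_one.1 ((Nat.card_coe_set_eq _).symm.trans h1))
  have e1 : a = b := by simpa [hb] using MulAction.mem_orbit_self (M := ConjAct G) a
  have e2 : ConjAct.toConjAct x • a = b := by
    simpa [hb] using MulAction.mem_orbit a (ConjAct.toConjAct x)
  have e := congrArg Subtype.val (e2.trans e1.symm)
  rw [ConjAct.Subgroup.val_conj_smul, ConjAct.toConjAct_smul] at e
  exact mul_inv_eq_iff_eq_mul.1 e

theorem le_index {p : ℕ} (hp : p = (Nat.card G).minFac) {H : Subgroup G} (hH : H ≠ ⊤) :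
    p ≤ H.index :=
  hp ▸ minFac_le_of_dvd H.index_dvd_card (fun h => hH (Subgroup.index_eq_one.1 h))

/-- The orbit count, given a suitable maximal subgroup and twisting element. -/
theorem count_bound {p : ℕ} (hp : p = (Nat.card G).minFac) (hpp : p.Prime)
    (hcard : Nat.card (commutator G) = p)
    (C : Subgroup G) [C.Normal] (hC : C.index = p) (hZ : Subgroup.center G < C) (u w : G)
    (hu : u ∉ C) (hw : w ∈ C) (hwG : w ∉ commutator G) (hcm : ∀ c ∈ C, Commute w c)
    (hpow : (u * w) ^ p = u ^ p) :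
    Nat.card (MulAction.orbitRel.Quotient (MulAut G) G) * p ≤ Nat.card G := by
  classical
  haveI := Fintype.ofFinite G
  haveI := Fact.mk hpp
  have hvu : u⁻¹ * (u * w) = w := inv_mul_cancel_left u w
  obtain ⟨φ, hφ⟩ := exists_aut C hpp hC u (u * w) hu (by rw [hvu]; exact hw) hpow
    (by rw [hvu]; exact hcm)
  have horb_nc : ∀ g : G, g ∉ Subgroup.center G → p ≤ Nat.card (MulAction.orbit (MulAut G) g) := by
    intro g hg
    obtain ⟨x, hx⟩ : ∃ x, x * g ≠ g * x := by
      by_contra h
      push Not at h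
      exact hg (Subgroup.mem_center_iff.2 h)
    have hle : MulAction.orbit (ConjAct G) g ⊆ MulAction.orbit (MulAut G) g := by
      rintro _ ⟨y, rfl⟩
      exact ⟨MulAut.conj (ConjAct.ofConjAct y), rfl⟩
    refine le_trans ?_ (Nat.card_mono (Set.toFinite _) hle)
    rw [Nat.card_congr (MulAction.orbitEquivQuotientStabilizer (ConjAct G) g)]
    refine hp ▸ minFac_le_of_dvd ?_ fun h => ?_
    · rw [← Nat.card_congr (ConjAct.ofConjAct (G := G)).toEquiv]
      exact Subgroup.index_dvd_card _
    · have h' : ConjAct.toConjAct x ∈ MulAction.stabilizer (ConjAct G) g := by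
        have := Subgroup.index_eq_one.1 h
        rw [this]; exact Subgroup.mem_top _
      rw [MulAction.mem_stabilizer_iff, ConjAct.toConjAct_smul, mul_inv_eq_iff_eq_mul] at h'
      exact hx h'
  -- the image modulo the derived subgroup
  have hab : ∀ a b : G ⧸ commutator G, a * b = b * a := fun a b => by
    induction a using QuotientGroup.induction_on with
    | H a => induction b using QuotientGroup.induction_on with
      | H b =>
        rw [← QuotientGroup.mk_mul, ← QuotientGroup.mk_mul, QuotientGroup.eq]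
        have := Subgroup.commutator_mem_commutator (Subgroup.mem_top b⁻¹) (Subgroup.mem_top a⁻¹)
        rw [commutator_def]
        convert this using 1
        rw [commutatorElement_def]; group
  have hmkw : (w : G ⧸ commutator G) ≠ 1 := fun h => hwG ((QuotientGroup.eq_one_iff w).1 h)
  have hφmk : ∀ (i : ℤ), ∀ c ∈ C, ∀ k : ℕ,
      (((φ ^ k) (c * u ^ i) : G) : G ⧸ commutator G) =
        ((c * u ^ i : G) : G ⧸ commutator G) * (w : G ⧸ commutator G) ^ (i * k) ∧
      (φ ^ k) (c * u ^ i) * (u ^ i)⁻¹ ∈ C := by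
    intro i c hc k
    induction k with
    | zero => simpa using hc
    | succ k ih =>
      obtain ⟨ih1, ih2⟩ := ih
      rw [pow_succ' φ, MulAut.mul_apply]
      have e : (φ ^ k) (c * u ^ i) = ((φ ^ k) (c * u ^ i) * (u ^ i)⁻¹) * u ^ i := by group
      rw [e, hφ i _ ih2]
      have hvc : (u * w) ^ i * (u ^ i)⁻¹ ∈ C := by
        rw [← QuotientGroup.eq_one_iff, QuotientGroup.mk_mul, QuotientGroup.mk_zpow,
          QuotientGroup.mk_inv, QuotientGroup.mk_zpow, QuotientGroup.mk_mul,
          (QuotientGroup.eq_one_iff w).2 hw, mul_one, mul_inv_cancel]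
      refine ⟨?_, ?_⟩
      · rw [QuotientGroup.mk_mul, QuotientGroup.mk_mul, QuotientGroup.mk_zpow,
          QuotientGroup.mk_inv, QuotientGroup.mk_zpow, ih1, QuotientGroup.mk_mul,
          QuotientGroup.mk_zpow, QuotientGroup.mk_mul, Commute.mul_zpow (hab _ _), Nat.cast_succ,
          mul_add, mul_one, zpow_add]
        calc _ = (c : G ⧸ commutator G) * ((u : G ⧸ commutator G) ^ i *
              (w : G ⧸ commutator G) ^ (i * k)) * (w : G ⧸ commutator G) ^ i := by group
          _ = _ := by group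
      · rw [mul_assoc]
        exact mul_mem ih2 hvc
  have hcl : ∀ (x : G), ∀ d ∈ commutator G, x ∉ Subgroup.center G →
      x * d ∈ MulAction.orbit (MulAut G) x := by
    intro x d hd hx
    obtain ⟨y, hy⟩ : ∃ y, y * x ≠ x * y := by
      by_contra h
      push Not at h
      exact hx (Subgroup.mem_center_iff.2 h)
    set d0 := y * x * y⁻¹ * x⁻¹ with hd0
    have hd0m : d0 ∈ commutator G :=
      Subgroup.commutator_mem_commutator (Subgroup.mem_top y) (Subgroup.mem_top x)
    have hcen := central_commutator hp hpp hcard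
    have hd01 : d0 ≠ 1 := fun h => hy (by
      have e : y * x * y⁻¹ = x := mul_inv_eq_one.1 h
      exact mul_inv_eq_iff_eq_mul.1 e)
    have hgen : Subgroup.zpowers d0 = commutator G :=
      Subgroup.eq_of_le_of_card_ge ((Subgroup.zpowers_le).2 hd0m) (by
        rw [Nat.card_zpowers, hcard,
          orderOf_eq_prime (by
            have := pow_card_eq_one' (G := ↥(commutator G)) (x := ⟨d0, hd0m⟩)
            rw [hcard] at this
            exact congrArg Subtype.val this) hd01])
    obtain ⟨k, rfl⟩ := (Submonoid.mem_powers_iff _ _).1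
      ((isOfFinOrder_of_finite d0).mem_powers_iff_mem_zpowers.2 (hgen.symm ▸ hd))
    refine ⟨MulAut.conj y ^ k, ?_⟩
    show (MulAut.conj y ^ k) x = x * d0 ^ k
    induction k with
    | zero => simp
    | succ k ih =>
      rw [pow_succ' (MulAut.conj y), MulAut.mul_apply, ih (pow_mem hd0m k), map_mul,
        pow_succ' d0, hcen _ (pow_mem hd0m k)]
      · show y * x * y⁻¹ * (y * d0 ^ k * y⁻¹) = _
        rw [hcen _ (pow_mem hd0m k) y, mul_inv_cancel_right,
          show y * x * y⁻¹ = d0 * x by rw [hd0, inv_mul_cancel_right], ← hcen d0 hd0m x, mul_assoc,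
          hcen _ (pow_mem hd0m k) d0]
  have horb_out : ∀ g : G, g ∉ C → p ^ 2 ≤ Nat.card (MulAction.orbit (MulAut G) g) := by
    intro g hg
    haveI : Fact p.Prime := ⟨hpp⟩
    obtain ⟨i, hi0, hi1, hi⟩ : ∃ i : ℤ, 0 < i ∧ i < p ∧ g * (u ^ i)⁻¹ ∈ C := by
      have hu1 : (u : G ⧸ C) ≠ 1 := fun h => hu ((QuotientGroup.eq_one_iff u).1 h)
      have hm := mem_zpowers_of_prime_card (G := G ⧸ C) (p := p) hC (g' := (g : G ⧸ C)) hu1
      obtain ⟨j, hj⟩ := Subgroup.mem_zpowers_iff.1 hm
      have hup : (u : G ⧸ C) ^ (p : ℤ) = 1 := by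
        rw [zpow_natCast, ← hC]; exact pow_card_eq_one'
      have hj' : (u : G ⧸ C) ^ (j % p) = g := by
        rw [← hj]
        conv_rhs => rw [← Int.mul_ediv_add_emod j p, zpow_add, zpow_mul, hup, one_zpow, one_mul]
      have hp0 : (0 : ℤ) < p := by exact_mod_cast hpp.pos
      refine ⟨j % p, ?_, Int.emod_lt_of_pos _ hp0, (QuotientGroup.eq_one_iff _).1 (by
        rw [QuotientGroup.mk_mul, QuotientGroup.mk_inv, QuotientGroup.mk_zpow, hj', mul_inv_cancel])⟩
      rcases (Int.emod_nonneg j hp0.ne').eq_or_lt with h | h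
      · rw [← h, zpow_zero] at hj'
        exact absurd ((QuotientGroup.eq_one_iff g).1 hj'.symm) hg
      · exact h
    have hgeq : g = g * (u ^ i)⁻¹ * u ^ i := by group
    let e : Fin p × ↥(commutator G) → G := fun z => (φ ^ (z.1 : ℕ)) g * z.2
    have hsub : Set.range e ⊆ MulAction.orbit (MulAut G) g := by
      rintro _ ⟨⟨k, d⟩, rfl⟩
      have h1 : (φ ^ (k : ℕ)) g ∈ MulAction.orbit (MulAut G) g := ⟨φ ^ (k : ℕ), rfl⟩
      rw [← MulAction.orbit_eq_iff.2 h1]
      refine hcl _ _ d.2 fun hz => hg ?_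
      have := (hφmk i _ hi k).2
      rw [← hgeq] at this
      have h3 := mul_mem (inv_mem this) (hZ.le hz)
      rw [mul_inv_rev, inv_inv, inv_mul_cancel_right] at h3
      simpa using mul_mem hi h3
    have hinj : Function.Injective e := by
      rintro ⟨k, d⟩ ⟨k', d'⟩ h
      have h2 : (((φ ^ (k : ℕ)) g * d : G) : G ⧸ commutator G) = ((φ ^ (k' : ℕ)) g * d' : G) := by
        simpa [e] using congrArg (fun z : G => (z : G ⧸ commutator G)) h
      rw [QuotientGroup.mk_mul, QuotientGroup.mk_mul, (QuotientGroup.eq_one_iff (d : G)).2 d.2,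
        (QuotientGroup.eq_one_iff (d' : G)).2 d'.2, mul_one, mul_one, hgeq,
        (hφmk i _ hi k).1, (hφmk i _ hi k').1, mul_right_inj, zpow_eq_zpow_iff_modEq,
        Int.modEq_iff_dvd, ← mul_sub] at h2
      have hk : k = k' := by
        by_contra hne
        set n := orderOf (w : G ⧸ commutator G)
        have hn1 : n ≠ 1 := fun h => hmkw (orderOf_eq_one_iff.1 h)
        obtain ⟨r, hr, hrn⟩ := Nat.exists_prime_and_dvd hn1
        have hrG : r ∣ Nat.card G :=
          hrn.trans ((orderOf_dvd_natCard _).trans (Subgroup.card_quotient_dvd_card _))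
        have hpr : p ≤ r := hp ▸ minFac_le_of_dvd hrG hr.ne_one
        rcases (Nat.prime_iff_prime_int.1 hr).dvd_mul.1 ((Int.natCast_dvd_natCast.2 hrn).trans h2)
          with h4 | h4
        · have := Int.le_of_dvd hi0 h4
          omega
        · have h5 : ((k' : ℕ) : ℤ) - (k : ℕ) ≠ 0 := by
            rw [sub_ne_zero]; exact fun h => hne (Fin.ext (Int.ofNat.inj h).symm)
          have := Int.natAbs_le_of_dvd_ne_zero h4 h5
          have := k.2; have := k'.2
          omega
      subst hk
      simp only [e, mul_right_inj] at h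
      rw [Subtype.ext h]
    calc p ^ 2 = Nat.card (Fin p × ↥(commutator G)) := by
          rw [Nat.card_prod, Nat.card_fin, hcard, sq]
      _ = Nat.card (Set.range e) := (Nat.card_congr (Equiv.ofInjective e hinj))
      _ ≤ _ := Nat.card_mono (Set.toFinite _) hsub
  -- weighted count
  let wt : G → ℕ := fun g => if g ∈ C then (if g ∈ Subgroup.center G then p ^ 2 else p) else 1
  have hkey : ∀ q : MulAction.orbitRel.Quotient (MulAut G) G,
      p ^ 2 ≤ ∑ g ∈ Finset.univ.filter (fun g : G => Quotient.mk'' g = q), wt g := by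
    intro q
    induction q using Quotient.inductionOn' with
    | h g =>
      set O := Finset.univ.filter (fun x : G => (Quotient.mk'' x :
        MulAction.orbitRel.Quotient (MulAut G) G) = Quotient.mk'' g)
      have hcardO : O.card = Nat.card (MulAction.orbit (MulAut G) g) := by
        rw [Nat.card_eq_fintype_card, Fintype.card_of_finset' O]
        intro x
        simp only [O, Finset.mem_filter, Finset.mem_univ, true_and, Quotient.eq'',
          MulAction.orbitRel_apply]
      by_cases hgz : g ∈ Subgroup.center G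
      · refine le_trans ?_ (Finset.single_le_sum (fun x _ => Nat.zero_le (wt x))
          (show g ∈ O by simp [O]))
        simp [wt, hgz, hZ.le hgz]
      · by_cases hout : ∃ x ∈ O, x ∉ C
        · obtain ⟨x, hx, hxC⟩ := hout
          have hxo : x ∈ MulAction.orbit (MulAut G) g := by
            simpa only [O, Finset.mem_filter, Finset.mem_univ, true_and, Quotient.eq'',
              MulAction.orbitRel_apply] using hx
          have h1 := horb_out x hxC
          rw [MulAction.orbit_eq_iff.2 hxo, ← hcardO] at h1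
          refine h1.trans ?_
          rw [Finset.card_eq_sum_ones]
          refine Finset.sum_le_sum fun y _ => ?_
          have := hpp.pos
          simp only [wt]
          split_ifs <;> first | exact Nat.one_le_pow _ _ this | omega
        · push Not at hout
          have h1 := horb_nc g hgz
          rw [← hcardO] at h1
          calc p ^ 2 ≤ O.card * p := by rw [sq]; exact Nat.mul_le_mul_right p h1
            _ ≤ _ := by
              rw [← smul_eq_mul]
              refine Finset.card_nsmul_le_sum _ _ _ fun y hy => ?_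
              simp only [wt, hout y hy, if_true]
              split_ifs
              · exact Nat.le_self_pow two_ne_zero p
              · exact le_rfl
  haveI : Fintype (MulAction.orbitRel.Quotient (MulAut G) G) := Fintype.ofFinite _
  have htot : Nat.card (MulAction.orbitRel.Quotient (MulAut G) G) * p ^ 2 ≤ ∑ g, wt g := by
    rw [Nat.card_eq_fintype_card, ← Finset.sum_fiberwise (g := fun g : G =>
      (Quotient.mk'' g : MulAction.orbitRel.Quotient (MulAut G) G))]
    exact Finset.card_nsmul_le_sum _ _ _ fun q _ => hkey q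
  set c := Nat.card C with hcdef
  set z := Nat.card (Subgroup.center G) with hzdef
  have hG : Nat.card G = p * c := by rw [← hC, hcdef, Subgroup.index_mul_card]
  have hzc : p * z ≤ c := by
    have h1 := (Subgroup.center G).subgroupOf C |>.card_mul_index
    rw [Nat.card_congr (Subgroup.subgroupOfEquivOfLe hZ.le).toEquiv] at h1
    rw [← hcdef, ← hzdef] at h1
    rw [← h1, mul_comm p z]
    refine Nat.mul_le_mul_left z (hp ▸ minFac_le_of_dvd ?_ fun h => ?_)
    · exact (Subgroup.index_dvd_card _).trans (Subgroup.card_subgroup_dvd_card C)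
    · rw [Subgroup.index_eq_one, Subgroup.subgroupOf_eq_top] at h
      exact hZ.not_ge h
  have hsum : ∑ g, wt g + c + p * z = Nat.card G + p * c + p ^ 2 * z := by
    have hw' : ∀ g, wt g + (if g ∈ C then 1 else 0) + p * (if g ∈ Subgroup.center G then 1 else 0)
        = 1 + p * (if g ∈ C then 1 else 0) + p ^ 2 * (if g ∈ Subgroup.center G then 1 else 0) := by
      intro g
      by_cases h1 : g ∈ C <;> by_cases h2 : g ∈ Subgroup.center G
      · simp [wt, h1, h2]; omega
      · simp [wt, h1, h2]; omega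
      · exact absurd (hZ.le h2) h1
      · simp [wt, h1, h2]
    have hs := Finset.sum_congr (rfl : (Finset.univ : Finset G) = _) fun g _ => hw' g
    simp only [Finset.sum_add_distrib, ← Finset.mul_sum, Finset.sum_boole, Nat.cast_id,
      Finset.sum_const, Finset.card_univ, smul_eq_mul, mul_one] at hs
    rw [← Fintype.card_subtype, ← Fintype.card_subtype, ← Nat.card_eq_fintype_card,
      ← Nat.card_eq_fintype_card, ← Nat.card_eq_fintype_card] at hs
    exact hs
  refine Nat.le_of_mul_le_mul_right ?_ hpp.pos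
  rw [mul_assoc, ← sq, hG]
  refine htot.trans ?_
  have h2p := hpp.two_le
  have h3 : (p - 1) * (p * z) ≤ (p - 1) * c := Nat.mul_le_mul_left _ hzc
  obtain ⟨r, rfl⟩ : ∃ r, p = r + 2 := ⟨p - 2, by omega⟩
  rw [Nat.add_sub_assoc (by omega : 1 ≤ 2)] at h3
  rw [hG] at hsum
  nlinarith [hsum, h3, Nat.zero_le (r * c)]

theorem main (hna : ¬ IsMulCommutative G) :
    Nat.card (MulAction.orbitRel.Quotient (MulAut G) G) * (Nat.card G).minFac ≤ Nat.card G := by
  classical
  obtain ⟨p, hp⟩ : ∃ p, p = (Nat.card G).minFac := ⟨_, rfl⟩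
  rw [← hp]
  obtain ⟨a, b, hab⟩ : ∃ a b : G, a * b ≠ b * a := by
    by_contra h
    push Not at h
    exact hna ⟨⟨h⟩⟩
  have hn1 : Nat.card G ≠ 1 := fun h => hab (by
    haveI := (Nat.card_eq_one_iff_unique.1 h).1
    exact Subsingleton.elim _ _)
  have hpp : p.Prime := hp ▸ Nat.minFac_prime hn1
  haveI := Fact.mk hpp
  have hD1 : commutator G ≠ ⊥ := fun h => hab (by
    have := Subgroup.commutator_mem_commutator (Subgroup.mem_top a) (Subgroup.mem_top b)
    rw [← commutator_def, h, Subgroup.mem_bot, commutatorElement_eq_one_iff_mul_comm] at this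
    exact this)
  have hDp : p ≤ Nat.card (commutator G) := hp ▸ minFac_le_of_dvd (Subgroup.card_subgroup_dvd_card _)
    (fun h => hD1 (Subgroup.eq_bot_of_card_eq _ h))
  rcases hDp.eq_or_lt with hcard | hgt
  swap
  · refine le_trans (Nat.mul_le_mul_right p orbits_le_classes) ?_
    have hb := classes_bound hp
    have hG := Subgroup.index_mul_card (commutator G)
    generalize Nat.card (ConjClasses G) = k at hb ⊢
    generalize (commutator G).index = A at hb hG
    obtain ⟨r, rfl⟩ : ∃ r, p = r + 1 := ⟨p - 1, by have := hpp.pos; omega⟩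
    have h1 : A * (r + 2) ≤ Nat.card G := by
      rw [← hG]; exact Nat.mul_le_mul_left A hgt
    refine Nat.le_of_mul_le_mul_right ?_ hpp.pos
    nlinarith [Nat.mul_le_mul_left r h1]
  replace hcard : Nat.card (commutator G) = p := hcard.symm
  have hcen := central_commutator hp hpp hcard
  have hDZ : commutator G ≤ Subgroup.center G := fun c hc =>
    Subgroup.mem_center_iff.2 (hcen c hc)
  have hpow1 : ∀ d ∈ commutator G, d ^ p = 1 := fun d hd => by
    have := pow_card_eq_one' (G := ↥(commutator G)) (x := ⟨d, hd⟩)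
    rw [hcard] at this
    exact congrArg Subtype.val this
  have hcmem : ∀ x y : G, y * x * (x * y)⁻¹ ∈ commutator G := fun x y => by
    have := Subgroup.commutator_mem_commutator (Subgroup.mem_top y) (Subgroup.mem_top x)
    rw [commutatorElement_def, ← commutator_def] at this
    convert this using 1
    group
  have hprod : ∀ x y : G, (x * y) ^ p =
      (y * x * (x * y)⁻¹) ^ p.choose 2 * x ^ p * y ^ p := fun x y =>
    pow_class_two x y _ (inv_mul_cancel_right _ _).symm (fun z => hcen _ (hcmem x y) z) p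
  -- the power map lands in the centre
  have hpZ : ∀ x : G, x ^ p ∈ Subgroup.center G := by
    intro x
    refine Subgroup.mem_center_iff.2 fun y => ?_
    obtain ⟨d, hd, hd'⟩ : ∃ d ∈ commutator G, y * x = d * (x * y) :=
      ⟨_, hcmem x y, (inv_mul_cancel_right _ _).symm⟩
    have h : ∀ k : ℕ, y * x ^ k = d ^ k * (x ^ k * y) := by
      intro k
      induction k with
      | zero => simp
      | succ k ih =>
        calc y * x ^ (k + 1) = (y * x ^ k) * x := by rw [pow_succ, mul_assoc]
          _ = d ^ k * x ^ k * (y * x) := by rw [ih]; simp only [mul_assoc]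
          _ = d ^ k * x ^ k * d * (x * y) := by rw [hd']; simp only [mul_assoc]
          _ = d ^ k * (d * x ^ k) * (x * y) := by rw [mul_assoc (d ^ k), hcen d hd (x ^ k)]
          _ = _ := by rw [pow_succ d, pow_succ x]; simp only [mul_assoc]
    rw [h p, hpow1 d hd, one_mul]
  -- the maximal subgroup attached to a noncentral element
  have hCof : ∀ g : G, g ∉ Subgroup.center G → ∃ (C : Subgroup G) (_ : C.Normal) (u : G),
      C.index = p ∧ Subgroup.center G < C ∧ u ∉ C ∧ g ∈ C ∧ ∀ c ∈ C, Commute g c := by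
    intro g hg
    let ψ : G →* ↥(commutator G) := MonoidHom.mk' (fun x => ⟨x * g * (g * x)⁻¹, hcmem g x⟩) (by
      intro x y
      apply Subtype.ext
      show x * y * g * (g * (x * y))⁻¹ = x * g * (g * x)⁻¹ * (y * g * (g * y)⁻¹)
      have h1 := hcen _ (hcmem g y) x
      calc x * y * g * (g * (x * y))⁻¹
          = x * (y * g * (g * y)⁻¹) * (g * x⁻¹ * g⁻¹) := by group
        _ = (y * g * (g * y)⁻¹) * (x * g * (g * x)⁻¹) := by rw [h1]; group
        _ = _ := (hcen _ (hcmem g y) _).symm)
    have hker : ∀ x, x ∈ ψ.ker ↔ x * g = g * x := fun x => by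
      rw [MonoidHom.mem_ker, ← mul_inv_eq_one (a := x * g)]
      exact Subtype.ext_iff
    have hne : ψ.ker ≠ ⊤ := fun h => hg (Subgroup.mem_center_iff.2 fun x =>
      (hker x).1 (h ▸ Subgroup.mem_top x))
    obtain ⟨u, hu⟩ : ∃ u, u ∉ ψ.ker := by
      by_contra h
      push Not at h
      exact hne (eq_top_iff.2 fun x _ => h x)
    refine ⟨ψ.ker, inferInstance, u, ?_, ?_, hu, (hker g).2 rfl, fun c hc => ((hker c).1 hc).symm⟩
    · refine le_antisymm ?_ (le_index hp hne)
      rw [Subgroup.index_ker, ← hcard]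
      exact Subgroup.card_le_card_group _
    · exact lt_of_le_of_ne (fun z hz => (hker z).2 (Subgroup.mem_center_iff.1 hz g).symm)
        (fun h => hg (h ▸ (hker g).2 rfl))
  obtain ⟨g0, hg0⟩ : ∃ g, g ∉ Subgroup.center G := ⟨a, fun h => hab (Subgroup.mem_center_iff.1 h b).symm⟩
  by_cases hI : ∃ z ∈ Subgroup.center G, z ^ p = 1 ∧ z ∉ commutator G
  · obtain ⟨z, hz, hzp, hzD⟩ := hI
    obtain ⟨C, hCn, u, hC, hZC, hu, -, -⟩ := hCof g0 hg0
    refine count_bound hp hpp hcard C hC hZC u z hu (hZC.le hz) hzD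
      (fun c _ => (Subgroup.mem_center_iff.1 hz c).symm) ?_
    rw [(show Commute u z from (Subgroup.mem_center_iff.1 hz u)).mul_pow, hzp, mul_one]
  push Not at hI
  obtain ⟨c0, hc0, hc01⟩ := (Subgroup.ne_bot_iff_exists_ne_one.1 hD1 : ∃ x : ↥(commutator G), x ≠ 1) |>
    fun ⟨x, hx⟩ => (⟨x.1, x.2, fun h => hx (Subtype.ext h)⟩ : ∃ c ∈ commutator G, c ≠ 1)
  -- the centre modulo `p`-th powers has order `p`
  letI : CommGroup ↥(Subgroup.center G) :=
    { (inferInstance : Group ↥(Subgroup.center G)) with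
      mul_comm := fun a b => Subtype.ext (Subgroup.mem_center_iff.1 b.2 a.1) }
  set P := powMonoidHom (α := ↥(Subgroup.center G)) p
  have hkerc : Nat.card P.ker = p := by
    rw [← hcard]
    refine Nat.card_congr ⟨fun z => ⟨z.1.1, hI _ z.1.2 (congrArg Subtype.val z.2)⟩,
      fun d => ⟨⟨d.1, hDZ d.2⟩, Subtype.ext (hpow1 _ d.2)⟩, fun z => rfl, fun d => rfl⟩
  have hQ : Nat.card (↥(Subgroup.center G) ⧸ P.range) = p := by
    have h1 := P.ker.card_mul_index
    rw [Subgroup.index_ker, hkerc] at h1
    have h2 := P.range.card_mul_index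
    rw [← h1, mul_comm p] at h2
    exact Nat.eq_of_mul_eq_mul_left Nat.card_pos h2
  let cls : G → ↥(Subgroup.center G) ⧸ P.range := fun x => QuotientGroup.mk ⟨x ^ p, hpZ x⟩
  have hclsmul : ∀ x y : G, ∃ d : ↥(Subgroup.center G), (d : G) ∈ commutator G ∧
      cls (x * y) = (QuotientGroup.mk d) ^ p.choose 2 * cls x * cls y ∧
      (x * y ≠ y * x → (d : G) ≠ 1) := by
    intro x y
    refine ⟨⟨_, hDZ (hcmem x y)⟩, hcmem x y, ?_, fun h h' => h (mul_inv_eq_one.1 h').symm⟩
    simp only [cls]
    rw [← QuotientGroup.mk_pow, ← QuotientGroup.mk_mul, ← QuotientGroup.mk_mul]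
    exact congrArg _ (Subtype.ext (hprod x y))
  set C0 : ↥(Subgroup.center G) ⧸ P.range := QuotientGroup.mk ⟨c0, hDZ hc0⟩
  have hclsZ : ∀ z ∈ Subgroup.center G, cls z = 1 := fun z hz =>
    (QuotientGroup.eq_one_iff _).2 ⟨⟨z, hz⟩, rfl⟩
  -- a noncentral element with prescribed `p`-th power class
  obtain ⟨g, hg, hgc⟩ : ∃ g, g ∉ Subgroup.center G ∧ cls g = C0 ^ p.choose 2 := by
    by_contra h
    push Not at h
    have hncab : ∀ i : ℕ, a ^ i * b ∉ Subgroup.center G := fun i hi => hab (by
      have h1 := Subgroup.mem_center_iff.1 hi a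
      rw [mul_assoc (a ^ i), ← mul_assoc a, (Commute.self_pow a i).eq, mul_assoc (a ^ i) a] at h1
      exact mul_left_cancel h1)
    have hanc : a ∉ Subgroup.center G := fun h' => hab (Subgroup.mem_center_iff.1 h' b).symm
    rcases hpp.eq_two_or_odd' with rfl | hodd
    · simp only [Nat.choose_self, pow_one] at h
      have htwo : ∀ X Y : ↥(Subgroup.center G) ⧸ P.range, X ≠ C0 → Y ≠ C0 → X = Y := by
        intro X Y hX hY
        by_contra hXY
        obtain ⟨q1, q2, -, hall⟩ := (Nat.card_eq_two_iff.1 hQ)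
        have key : ∀ Z, Z = q1 ∨ Z = q2 := fun Z => by simpa using Set.eq_univ_iff_forall.1 hall Z
        rcases key X with hx | hx <;> rcases key Y with hy | hy <;> rcases key C0 with hc | hc <;>
          simp_all
      obtain ⟨d, hd, he, hne⟩ := hclsmul a b
      have hdc : (d : G) = c0 := by
        have hz : Subgroup.zpowers c0 = commutator G :=
          Subgroup.eq_of_le_of_card_ge ((Subgroup.zpowers_le).2 hc0) (by
            rw [Nat.card_zpowers, hcard, orderOf_eq_prime (hpow1 c0 hc0) hc01])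
        obtain ⟨k, hk⟩ := Subgroup.mem_zpowers_iff.1 (hz.symm ▸ hd)
        rcases Int.even_or_odd' k with ⟨m, rfl | rfl⟩
        · rw [zpow_mul, zpow_ofNat, hpow1 c0 hc0, one_zpow] at hk
          exact absurd hk.symm (hne hab)
        · rw [zpow_add, zpow_mul, zpow_ofNat, hpow1 c0 hc0, one_zpow, one_mul, zpow_one] at hk
          exact hk.symm
      rw [Nat.choose_self, pow_one, show d = ⟨c0, hDZ hc0⟩ from Subtype.ext hdc] at he
      change cls (a * b) = C0 * cls a * cls b at he
      have hbnc : b ∉ Subgroup.center G := fun h' => hab (Subgroup.mem_center_iff.1 h' a)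
      rw [htwo (cls b) (cls a) (h b hbnc) (h a hanc), mul_assoc] at he
      have hsq : cls a * cls a = 1 := by
        rw [← sq, ← hQ]; exact pow_card_eq_one'
      rw [hsq, mul_one] at he
      exact h (a * b) (by simpa using hncab 1) he
    · have hch : p ∣ p.choose 2 := hpp.dvd_choose_self two_ne_zero (by
        have := hpp.two_le; rcases hodd with ⟨m, rfl⟩; omega)
      have hone : ∀ X : ↥(Subgroup.center G) ⧸ P.range, X ^ p.choose 2 = 1 := fun X =>
        orderOf_dvd_iff_pow_eq_one.1 (((orderOf_dvd_natCard X).trans hQ.dvd).trans hch)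
      simp only [hone] at h
      have hhom : ∀ x y, cls (x * y) = cls x * cls y := fun x y => by
        obtain ⟨d, -, he, -⟩ := hclsmul x y
        rw [he, hone, one_mul]
      let clsH : G →* ↥(Subgroup.center G) ⧸ P.range := MonoidHom.mk' cls hhom
      have hm := mem_powers_of_prime_card hQ (g' := (cls b)⁻¹) (h a hanc)
      obtain ⟨i, hi⟩ := (Submonoid.mem_powers_iff _ _).1 hm
      refine h (a ^ i * b) (hncab i) ?_
      show clsH (a ^ i * b) = 1
      rw [map_mul, map_pow]
      show cls a ^ i * cls b = 1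
      rw [hi, inv_mul_cancel]
  -- correct it by a central element
  obtain ⟨⟨z, hz⟩, hzP⟩ := QuotientGroup.eq.1
    (hgc.trans (QuotientGroup.mk_pow P.range (⟨c0, hDZ hc0⟩ : ↥(Subgroup.center G)) (p.choose 2)).symm)
  have hzP' : z ^ p = (g ^ p)⁻¹ * c0 ^ p.choose 2 := congrArg Subtype.val hzP
  have hwp : (g * z) ^ p = c0 ^ p.choose 2 := by
    rw [(show Commute g z from (Subgroup.mem_center_iff.1 hz g)).mul_pow, hzP', mul_inv_cancel_left]
  have hwnc : g * z ∉ Subgroup.center G := fun h => hg (by simpa using mul_mem h (inv_mem hz))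
  obtain ⟨C, hCn, u, hC, hZC, hu, hgC, hcm⟩ := hCof (g * z) hwnc
  refine count_bound hp hpp hcard C hC hZC u (g * z) hu hgC (fun h => hwnc (hDZ h)) hcm ?_
  rw [hprod, hwp]
  set d := g * z * u * (u * (g * z))⁻¹
  have hd := hcmem u (g * z)
  change d ∈ commutator G at hd
  rcases hpp.eq_two_or_odd' with rfl | hodd
  · simp only [Nat.choose_self, pow_one]
    have hd1 : d ≠ 1 := fun h => hu (by
      have e : g * z * u = u * (g * z) := mul_inv_eq_one.1 h
      have hle : ∀ x, Commute (g * z) x → x ∈ C := by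
        intro x hx
        by_contra hxC
        apply hwnc
        refine Subgroup.mem_center_iff.2 fun y => ?_
        have h2 : Nat.card (G ⧸ C) = 2 := hC
        obtain ⟨i, hi⟩ := Subgroup.mem_zpowers_iff.1 (mem_zpowers_of_prime_card h2 (g' := (y : G ⧸ C))
          (fun e => hxC ((QuotientGroup.eq_one_iff x).1 e)))
        rw [← QuotientGroup.mk_zpow, QuotientGroup.eq] at hi
        have h3 := (hx.zpow_right i).mul_right (hcm _ hi)
        rw [mul_inv_cancel_left] at h3
        exact h3.symm.eq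
      exact hle u e)
    have hdc : d = c0 := by
      have h2 : Nat.card ↥(commutator G) = 2 := hcard
      obtain ⟨q, -, huniq⟩ := Nat.card_eq_two_iff' (1 : ↥(commutator G)) |>.1 h2
      exact congrArg Subtype.val ((huniq ⟨d, hd⟩ (fun e => hd1 (congrArg Subtype.val e))).trans
        (huniq ⟨c0, hc0⟩ (fun e => hc01 (congrArg Subtype.val e))).symm)
    rw [hdc, hcen c0 hc0, ← mul_assoc, ← sq, hpow1 c0 hc0, one_mul]
  · obtain ⟨m, hm⟩ := hpp.dvd_choose_self (k := 2) two_ne_zero (by
      have := hpp.two_le; rcases hodd with ⟨m, rfl⟩; omega)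
    rw [hm, pow_mul, pow_mul, hpow1 d hd, hpow1 c0 hc0, one_pow, one_mul, mul_one]

end


/-- Let G be a finite non-abelian group and p the least prime dividing its order. Then the automorphism group of G has at most #G/p orbits on G. -/
theorem result {G : Type*} [Group G] [Finite G] (hna : ¬ IsMulCommutative G) :
    Nat.card (MulAction.orbitRel.Quotient (MulAut G) G) ≤ Nat.card G / (Nat.card G).minFac := by
  rw [Nat.le_div_iff_mul_le (Nat.minFac_pos _)]
  exact main hna

end Cfsg.Agent.S4067
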