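import Cfsg.Statements.S4068
import Cfsg.Agent.S0494
import Cfsg.Agent.Lib.Frobenius.FourOrbitsSixty

set_option autoImplicit false
open Cfsg

namespace Cfsg.Agent.S4068

open Cfsg.Agent.Lib.Frobenius.FourOrbits

/-- A finite non-solvable group on which its automorphism group has exactly four orbits is isomorphic to the alternating group of degree 5. -/
theorem result {G : Type*} [Group G] [Finite G] (hns : ¬ Group.IsSolvable G)
    (h4 : Nat.card (MulAction.orbitRel.Quotient (MulAut G) G) = 4) : Nonempty (G ≃* alternatingGroup (Fin 5)) := by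
  classical
  haveI : Nontrivial G := by
    by_contra h
    haveI := not_nontrivial_iff_subsingleton.mp h
    exact hns inferInstance
  let F : MulAction.orbitRel.Quotient (MulAut G) G → ℕ := Quotient.lift (fun g => orderOf g) (by
    rintro u v huv
    obtain ⟨φ, rfl⟩ : u ∈ MulAction.orbit (MulAut G) v := huv
    exact MulEquiv.orderOf_eq φ v)
  -- three primes
  obtain ⟨a₁, ha₁, ha₁d⟩ := Nat.exists_prime_and_dvd (Finite.one_lt_card (α := G)).ne'
  obtain ⟨a₂, ha₂, ha₂d, h21⟩ : ∃ q : ℕ, q.Prime ∧ q ∣ Nat.card G ∧ q ≠ a₁ := by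
    by_contra hc
    push Not at hc
    exact hns (isSolvable_of_two_primes ha₁ ha₁ fun q hq hd => Or.inl (hc q hq hd))
  obtain ⟨a₃, ha₃, ha₃d, h31, h32⟩ : ∃ q : ℕ, q.Prime ∧ q ∣ Nat.card G ∧ q ≠ a₁ ∧ q ≠ a₂ := by
    by_contra hc
    push Not at hc
    exact hns (isSolvable_of_two_primes ha₁ ha₂ fun q hq hd => or_iff_not_imp_left.mpr (hc q hq hd))
  haveI := Fact.mk ha₁
  haveI := Fact.mk ha₂
  haveI := Fact.mk ha₃
  obtain ⟨x₁, hx₁⟩ := exists_prime_orderOf_dvd_card' (G := G) a₁ ha₁d
  obtain ⟨x₂, hx₂⟩ := exists_prime_orderOf_dvd_card' (G := G) a₂ ha₂d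
  obtain ⟨x₃, hx₃⟩ := exists_prime_orderOf_dvd_card' (G := G) a₃ ha₃d
  let f : Fin 4 → MulAction.orbitRel.Quotient (MulAut G) G :=
    ![Quotient.mk _ 1, Quotient.mk _ x₁, Quotient.mk _ x₂, Quotient.mk _ x₃]
  have hf : Function.Injective f := by
    intro i j h
    have hF := congrArg F h
    have := ha₁.two_le
    have := ha₂.two_le
    have := ha₃.two_le
    fin_cases i <;> fin_cases j <;> first
      | rfl
      | (exfalso
         simp [f, F, hx₁, hx₂, hx₃] at hF
         omega)
  haveI : Finite (MulAction.orbitRel.Quotient (MulAut G) G) := Finite.of_surjective _ Quotient.mk_surjective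
  have hbij : Function.Bijective f := (Nat.bijective_iff_injective_and_card f).mpr ⟨hf, by rw [Nat.card_fin, h4]⟩
  have hvals : ∀ g : G, orderOf g = 1 ∨ orderOf g = a₁ ∨ orderOf g = a₂ ∨ orderOf g = a₃ := by
    intro g
    obtain ⟨i, hi⟩ := hbij.2 (Quotient.mk _ g)
    have hF : F (f i) = orderOf g := by rw [hi]; rfl
    rw [← hF]
    fin_cases i <;> simp [f, F, hx₁, hx₂, hx₃]
  have horb : ∀ u v : G, orderOf u = orderOf v → ∃ φ : MulAut G, φ u = v := by
    intro u v huv
    obtain ⟨i, hi⟩ := hbij.2 (Quotient.mk _ u)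
    obtain ⟨j, hj⟩ := hbij.2 (Quotient.mk _ v)
    have hij : i = j := by
      have h1 : F (f i) = F (f j) := by rw [hi, hj]; exact huv
      have := ha₁.two_le
      have := ha₂.two_le
      have := ha₃.two_le
      fin_cases i <;> fin_cases j <;> first
        | rfl
        | (exfalso
           simp [f, F, hx₁, hx₂, hx₃] at h1
           omega)
    subst hij
    have h2 : v ∈ MulAction.orbit (MulAut G) u := Quotient.exact (hj.symm.trans hi)
    exact h2
  have hord : ∀ g : G, g ≠ 1 → (orderOf g).Prime := by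
    intro g hg
    rcases hvals g with h | h | h | h
    · exact absurd (orderOf_eq_one_iff.mp h) hg
    all_goals rw [h]; assumption
  have hthree : ∀ q : ℕ, q.Prime → q ∣ Nat.card G → q = a₁ ∨ q = a₂ ∨ q = a₃ := by
    intro q hq hd
    haveI := Fact.mk hq
    obtain ⟨g, hg⟩ := exists_prime_orderOf_dvd_card' (G := G) q hd
    rcases hvals g with h | h | h | h <;> rw [hg] at h
    · exact absurd h hq.one_lt.ne'
    · exact Or.inl h
    · exact Or.inr (Or.inl h)
    · exact Or.inr (Or.inr h)
  have hsum : Nat.card G = 1 + orderCount G a₁ + orderCount G a₂ + orderCount G a₃ := by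
    haveI := Fintype.ofFinite G
    have h0 := Finset.card_eq_sum_card_fiberwise (f := fun g : G => orderOf g) (s := Finset.univ)
      (t := ({1, a₁, a₂, a₃} : Finset ℕ)) (fun g _ => by simpa using hvals g)
    have hc : ∀ r : ℕ, (Finset.univ.filter fun g : G => orderOf g = r).card = orderCount G r := fun r => by
      unfold orderCount
      rw [Nat.card_eq_fintype_card, Fintype.card_subtype]
    have h1 : orderCount G 1 = 1 := by
      unfold orderCount
      refine Nat.card_eq_one_iff_unique.mpr ⟨⟨fun u v => Subtype.ext ?_⟩, ⟨⟨1, orderOf_one⟩⟩⟩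
      rw [orderOf_eq_one_iff.mp u.2, orderOf_eq_one_iff.mp v.2]
    rw [Finset.sum_insert (by simp [ha₁.one_lt.ne, ha₂.one_lt.ne, ha₃.one_lt.ne]),
      Finset.sum_insert (by simp [h21.symm, h31.symm]), Finset.sum_pair h32.symm] at h0
    simp only [hc, h1, Finset.card_univ] at h0
    rw [Nat.card_eq_fintype_card]
    omega
  have h60 : Nat.card G = 60 := by
    rcases two_mem_primes hord horb ha₁ ha₂ ha₃ hthree hns h21.symm h31.symm h32.symm ⟨ha₁d, ha₂d, ha₃d⟩ hsum with h | h | h
    · subst h
      exact card_eq_sixty hord horb h21 h31 h32.symm hthree ⟨ha₁d, ha₂d, ha₃d⟩ hns hsum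
    · subst h
      exact card_eq_sixty hord horb h21.symm h32 h31.symm (fun q hq hd => or_left_comm.mp (hthree q hq hd))
        ⟨ha₂d, ha₁d, ha₃d⟩ hns (by omega)
    · subst h
      exact card_eq_sixty hord horb h31.symm h32.symm h21.symm
        (fun q hq hd => by rcases hthree q hq hd with h | h | h <;> simp [h]) ⟨ha₃d, ha₁d, ha₂d⟩ hns (by omega)
  haveI : IsSimpleGroup G := ⟨fun N hN => ?_⟩
  · exact Cfsg.Agent.S0494.result h60
  by_contra hc
  push Not at hc
  apply hns
  have h1 : 1 < Nat.card N := Finite.one_lt_card_iff_nontrivial.mpr ((Subgroup.nontrivial_iff_ne_bot N).mpr hc.1)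
  have h2 : 1 < Nat.card (G ⧸ N) := by
    rw [← Subgroup.index_eq_card]
    have := Subgroup.index_ne_zero_of_finite (H := N)
    have : N.index ≠ 1 := fun h => hc.2 (Subgroup.index_eq_one.mp h)
    omega
  have hmul : Nat.card (G ⧸ N) * Nat.card N = 60 := by
    rw [← Subgroup.card_eq_card_quotient_mul_card_subgroup, h60]
  have hfour : 2 ∣ Nat.card N → 4 ∣ Nat.card N := by
    intro hd
    haveI : Fact (Nat.Prime 2) := ⟨Nat.prime_two⟩
    obtain ⟨⟨t, htN⟩, ht⟩ := exists_prime_orderOf_dvd_card' (G := N) 2 hd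
    rw [Subgroup.orderOf_mk] at ht
    obtain ⟨b, c, hbp, hcp, hth⟩ : ∃ b c : ℕ, b.Prime ∧ c.Prime ∧
        ∀ q : ℕ, q.Prime → q ∣ Nat.card G → q = 2 ∨ q = b ∨ q = c := by
      refine ⟨3, 5, Nat.prime_three, by norm_num, fun q hq hd => ?_⟩
      rw [h60] at hd
      have hd' : q ∣ 2 ^ 2 * (3 * 5) := hd
      rcases hq.dvd_mul.mp hd' with h | h
      · exact Or.inl ((Nat.prime_dvd_prime_iff_eq hq Nat.prime_two).mp (hq.dvd_of_dvd_pow h))
      · rcases hq.dvd_mul.mp h with h | h
        · exact Or.inr (Or.inl ((Nat.prime_dvd_prime_iff_eq hq Nat.prime_three).mp h))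
        · exact Or.inr (Or.inr ((Nat.prime_dvd_prime_iff_eq hq (by norm_num)).mp h))
    obtain ⟨S⟩ : Nonempty (Sylow 2 G) := inferInstance
    have hSN : (S : Subgroup G) ≤ N := by
      intro s hs
      by_cases hs1 : s = 1
      · rw [hs1]; exact one_mem N
      obtain ⟨u, hu⟩ := isConj_iff.mp (isConj_involutions hord horb hbp hcp hth hns ht
        (orderOf_of_mem_pGroup hord S.isPGroup' hs hs1))
      rw [← hu]
      exact hN.conj_mem t htN u
    refine Dvd.dvd.trans ?_ (Subgroup.card_dvd_of_le hSN)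
    rw [S.card_eq_multiplicity, show (4 : ℕ) = 2 ^ 2 from rfl]
    refine pow_dvd_pow 2 ?_
    rw [← Nat.Prime.pow_dvd_iff_le_factorization Nat.prime_two Nat.card_pos.ne', h60]
    norm_num
  refine isSolvable_of_normal_of_quotient N ?_ ?_
  all_goals
    have hNd : Nat.card N ∣ 60 := Dvd.intro_left _ hmul
    have hmem : Nat.card N ∈ Nat.divisors 60 := Nat.mem_divisors.mpr ⟨hNd, by norm_num⟩
    have hdiv : Nat.divisors 60 = {1, 2, 3, 4, 5, 6, 10, 12, 15, 20, 30, 60} := by decide
    rw [hdiv] at hmem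
    simp only [Finset.mem_insert, Finset.mem_singleton] at hmem
    rcases hmem with h | h | h | h | h | h | h | h | h | h | h | h <;>
      (try omega) <;> (try (exfalso; have := hfour (by omega); omega)) <;>
      (rw [h] at hmul; have hq : Nat.card (G ⧸ N) = 60 / Nat.card N := by (rw [h]; omega)
       first
       | exact Cfsg.Agent.Lib.Characters.isSolvable_of_card_eq_pow_mul_pow (p := 2) (q := 3) (a := 2) (b := 1) Nat.prime_two Nat.prime_three (by omega)
       | exact Cfsg.Agent.Lib.Characters.isSolvable_of_card_eq_pow_mul_pow (p := 2) (q := 3) (a := 0) (b := 1) Nat.prime_two Nat.prime_three (by omega)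
       | exact Cfsg.Agent.Lib.Characters.isSolvable_of_card_eq_pow_mul_pow (p := 2) (q := 3) (a := 2) (b := 0) Nat.prime_two Nat.prime_three (by omega)
       | exact Cfsg.Agent.Lib.Characters.isSolvable_of_card_eq_pow_mul_pow (p := 2) (q := 5) (a := 0) (b := 1) Nat.prime_two (by norm_num) (by omega)
       | exact Cfsg.Agent.Lib.Characters.isSolvable_of_card_eq_pow_mul_pow (p := 2) (q := 5) (a := 2) (b := 1) Nat.prime_two (by norm_num) (by omega)
       | exact Cfsg.Agent.Lib.Characters.isSolvable_of_card_eq_pow_mul_pow (p := 3) (q := 5) (a := 1) (b := 1) Nat.prime_three (by norm_num) (by omega))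

end Cfsg.Agent.S4068
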