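import Cfsg.Statements.S4072
import Cfsg.Agent.Lib.Transfer.Frobenius
import Cfsg.Agent.Lib.Transfer.Gruen
import Cfsg.Agent.Lib.Transfer.PFrattini
import Mathlib.GroupTheory.Solvable
import Mathlib.Tactic

set_option autoImplicit false
open Cfsg

namespace Cfsg.Agent.S4072

open Cfsg.Agent.Lib

/-- A finite group whose nontrivial subgroups are all self-normalising is abelian. -/
theorem commutative_of_selfNormalizing {W : Type*} [Group W] [Finite W]
    (h : ∀ H : Subgroup W, H ≠ ⊥ → Subgroup.normalizer (H : Set W) = H) : ∀ a b : W, a * b = b * a := by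
  rcases subsingleton_or_nontrivial W with hW | hW
  · exact fun a b => Subsingleton.elim _ _
  obtain ⟨p, hp, hpW⟩ := Nat.exists_prime_and_dvd (Finite.one_lt_card (α := W)).ne'
  haveI := Fact.mk hp
  obtain ⟨P⟩ : Nonempty (Sylow p W) := inferInstance
  have hP0 : (P : Subgroup W) ≠ ⊥ := P.ne_bot_of_dvd_card hpW
  have hPab : ∀ a ∈ (P : Subgroup W), ∀ b ∈ (P : Subgroup W), a * b = b * a := by
    haveI : Nontrivial (P : Subgroup W) := (Subgroup.nontrivial_iff_ne_bot _).mpr hP0
    set Z := (Subgroup.center (P : Subgroup W)).map (P : Subgroup W).subtype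
    have hZ0 : Z ≠ ⊥ := by
      rw [Ne, Subgroup.map_eq_bot_iff_of_injective _ (P : Subgroup W).subtype_injective]
      haveI := P.isPGroup'.center_nontrivial
      exact (Subgroup.nontrivial_iff_ne_bot _).mp inferInstance
    have hle : (P : Subgroup W) ≤ Z := by
      rw [← h Z hZ0]
      intro x hx
      rw [Subgroup.mem_normalizer_iff]
      have key : ∀ y ∈ Z, x * y = y * x := by
        rintro _ ⟨y, hy, rfl⟩
        exact congrArg Subtype.val (Subgroup.mem_center_iff.mp hy ⟨x, hx⟩)
      intro y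
      constructor
      · intro hy; rwa [key y hy, mul_inv_cancel_right]
      · intro hy
        have h1 := key _ hy
        have h2 : x * y * x⁻¹ = y := mul_left_cancel (a := x) (by rw [h1]; group)
        rwa [h2] at hy
    intro a ha b hb
    obtain ⟨a', ha', rfl⟩ := hle ha
    exact (congrArg Subtype.val (Subgroup.mem_center_iff.mp ha' ⟨b, hb⟩)).symm
  have hN := Transfer.hasNormalPComplement_of_normalizer_le_centralizer P (by
    rw [h _ hP0]
    exact fun x hx => Subgroup.mem_centralizer_iff.mpr fun y hy => hPab y hy x hx)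
  obtain ⟨Q, L, hL, hc⟩ := hN
  haveI := hL
  by_cases hL0 : L = ⊥
  · have hQ : (Q : Subgroup W) = ⊤ := Subgroup.eq_top_of_card_eq _ (by
      have := hc.card_mul_card
      rwa [hL0, Subgroup.card_bot, one_mul] at this)
    obtain ⟨g, hg⟩ := MulAction.exists_smul_eq W Q P
    have hP : (P : Subgroup W) = ⊤ := Subgroup.eq_top_of_card_eq _ (by
      rw [P.card_eq_multiplicity, ← Q.card_eq_multiplicity, hQ, Subgroup.card_top])
    exact fun a b => hPab a (hP ▸ Subgroup.mem_top a) b (hP ▸ Subgroup.mem_top b)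
  · exfalso
    have hLt : L = ⊤ := (h L hL0).symm.trans (Subgroup.normalizer_eq_top_iff.mpr hL)
    have h1 := hc.card_mul_card
    rw [hLt, Subgroup.card_top] at h1
    have h2 : Nat.card (Q : Subgroup W) = 1 := Nat.eq_of_mul_eq_mul_left Nat.card_pos (h1.trans (mul_one _).symm)
    exact Q.ne_bot_of_dvd_card hpW (Subgroup.card_eq_one.mp h2)

variable {G : Type*} [Group G] [Finite G]

/-- If `A` is self-centralising normal in `H`, the quotient has only self-normalising subgroups. -/
theorem quotient_comm (hS : ∀ H : Subgroup G, ¬ IsMulCommutative H → Subgroup.normalizer (H : Set G) = H)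
    {H : Subgroup G} (C : Subgroup H) [C.Normal] (hC : ∀ x : H, (∀ c ∈ C, c * x = x * c) → x ∈ C) :
    ∀ a b : H ⧸ C, a * b = b * a := by
  refine commutative_of_selfNormalizing fun K hK => ?_
  refine le_antisymm ?_ Subgroup.le_normalizer
  set K' := K.comap (QuotientGroup.mk' C)
  have hna : ¬ IsMulCommutative (K'.map H.subtype) := by
    intro hab
    apply hK
    rw [Subgroup.eq_bot_iff_forall]
    intro w hw
    obtain ⟨x, rfl⟩ := QuotientGroup.mk'_surjective C w
    refine (QuotientGroup.eq_one_iff x).mpr (hC x fun c hc => ?_)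
    have hcK : c ∈ K' := by
      show QuotientGroup.mk' C c ∈ K
      rw [show QuotientGroup.mk' C c = 1 from (QuotientGroup.eq_one_iff c).mpr hc]
      exact one_mem K
    exact Subtype.ext (congrArg (fun t : (K'.map H.subtype : Subgroup G) => (t : G)) (hab.is_comm.comm (⟨(c : G), c, hcK, rfl⟩ : K'.map H.subtype) ⟨(x : G), x, hw, rfl⟩))
  intro w hw
  obtain ⟨x, rfl⟩ := QuotientGroup.mk'_surjective C w
  have h1 : (x : G) ∈ Subgroup.normalizer ((K'.map H.subtype : Subgroup G) : Set G) := by
    rw [Subgroup.mem_normalizer_iff]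
    intro y
    constructor
    · rintro ⟨z, hz, rfl⟩
      refine ⟨x * z * x⁻¹, ?_, rfl⟩
      show QuotientGroup.mk' C (x * z * x⁻¹) ∈ K
      rw [map_mul, map_mul, map_inv]
      exact (Subgroup.mem_normalizer_iff.mp hw _).mp hz
    · rintro ⟨z, hz, hzy⟩
      refine ⟨x⁻¹ * z * x, ?_, ?_⟩
      · show QuotientGroup.mk' C (x⁻¹ * z * x) ∈ K
        refine (Subgroup.mem_normalizer_iff.mp hw _).mpr ?_
        rw [← map_inv, ← map_mul, ← map_mul, show x * (x⁻¹ * z * x) * x⁻¹ = z by group]
        exact hz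
      · show (x : G)⁻¹ * (z : G) * x = y
        rw [show (z : G) = x * y * (x : G)⁻¹ from hzy]; group
  rw [hS _ hna] at h1
  obtain ⟨z, hz, hzx⟩ := h1
  exact (Subtype.ext hzx : z = x) ▸ hz

/-- A finite group in which every non-abelian subgroup is self-normalizing is solvable or simple. -/
theorem result {G : Type*} [Group G] [Finite G] (hS : ∀ H : Subgroup G, ¬ IsMulCommutative H → Subgroup.normalizer (H : Set G) = H) :
    Group.IsSolvable G ∨ IsSimpleGroup G := by
  classical
  by_contra hcon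
  obtain ⟨hns, hnsimp⟩ := not_or.mp hcon
  have habel : ∀ N : Subgroup G, N.Normal → N ≠ ⊤ → IsMulCommutative N := fun N hN hne => by
    by_contra h
    exact hne ((hS N h).symm.trans (Subgroup.normalizer_eq_top_iff.mpr hN))
  have hperf : commutator G = ⊤ := by
    by_contra hne
    have hab := habel _ inferInstance hne
    refine hns ⟨⟨2, ?_⟩⟩
    rw [derivedSeries_succ, derivedSeries_one, Subgroup.commutator_eq_bot_iff_le_centralizer]
    intro x hx
    exact Subgroup.mem_centralizer_iff.mpr fun y hy => congrArg Subtype.val (hab.is_comm.comm ⟨y, hy⟩ (⟨x, hx⟩ : commutator G))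
  haveI : Nontrivial G := by
    by_contra hnt
    rw [not_nontrivial_iff_subsingleton] at hnt
    exact hns inferInstance
  obtain ⟨N, hN, hN0, hNt⟩ : ∃ N : Subgroup G, N.Normal ∧ N ≠ ⊥ ∧ N ≠ ⊤ := by
    by_contra hno
    refine hnsimp ⟨fun H hH => ?_⟩
    by_cases h0 : H = ⊥
    · exact Or.inl h0
    · exact Or.inr (by_contra fun ht => hno ⟨H, hH, h0, ht⟩)
  obtain ⟨M, hNM, ⟨hMn, hMt⟩, hMmax⟩ := (Set.toFinite {S : Subgroup G | S.Normal ∧ S ≠ ⊤}).exists_le_maximal
    (a := N) ⟨hN, hNt⟩
  haveI := hMn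
  have hMab : ∀ a ∈ M, ∀ b ∈ M, a * b = b * a := fun a ha b hb =>
    congrArg Subtype.val ((habel M hMn hMt).is_comm.comm (⟨a, ha⟩ : M) ⟨b, hb⟩)
  have hMc : M ≤ Subgroup.center G := by
    by_contra hnc
    have hle : M ≤ Subgroup.centralizer (M : Set G) := fun a ha => Subgroup.mem_centralizer_iff.mpr fun b hb => hMab b hb a ha
    have hne : Subgroup.centralizer (M : Set G) ≠ ⊤ := fun ht => hnc fun a ha => Subgroup.mem_center_iff.mpr fun g =>
      (Subgroup.mem_centralizer_iff.mp (ht ▸ Subgroup.mem_top g) a ha).symm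
    have heq : Subgroup.centralizer (M : Set G) ≤ M := hMmax ⟨inferInstance, hne⟩ hle
    have h1 := quotient_comm hS (H := (⊤ : Subgroup G)) (M.subgroupOf ⊤) fun x hx => Subgroup.mem_subgroupOf.mpr
      (heq (Subgroup.mem_centralizer_iff.mpr fun a ha => congrArg Subtype.val (hx ⟨a, Subgroup.mem_top a⟩ ha)))
    refine hMt (top_le_iff.mp (hperf ▸ ?_))
    rw [commutator_def, Subgroup.commutator_le]
    intro a _ b _
    have h2 := h1 (QuotientGroup.mk ⟨a, Subgroup.mem_top a⟩) (QuotientGroup.mk ⟨b, Subgroup.mem_top b⟩)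
    have h3 := Subgroup.mem_subgroupOf.mp (QuotientGroup.eq.mp h2)
    have h3' : (a * b)⁻¹ * (b * a) ∈ M := h3
    have h4 := hMn.conj_mem _ (inv_mem h3') (b * a)
    rw [commutatorElement_def]
    have e : b * a * ((a * b)⁻¹ * (b * a))⁻¹ * (b * a)⁻¹ = a * b * a⁻¹ * b⁻¹ := by group
    rwa [e] at h4
  have hM0 : M ≠ ⊥ := fun h => hN0 (le_bot_iff.mp (h ▸ hNM))
  obtain ⟨p, hp, hpM⟩ := Nat.exists_prime_and_dvd ((Subgroup.one_lt_card_iff_ne_bot _).mpr hM0).ne'
  haveI := Fact.mk hp
  obtain ⟨z, hz⟩ := exists_prime_orderOf_dvd_card' p hpM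
  have hzp : IsPGroup p (Subgroup.zpowers (z : G)) := IsPGroup.of_card (n := 1) (by rw [Nat.card_zpowers, Subgroup.orderOf_coe, hz, pow_one])
  obtain ⟨P0, hP0⟩ := hzp.exists_le_sylow
  have hzP : ∀ P : Sylow p G, (z : G) ∈ (P : Subgroup G) := by
    intro P
    obtain ⟨g, rfl⟩ := MulAction.exists_smul_eq G P0 P
    exact ⟨z, hP0 (Subgroup.mem_zpowers _), show g * (z : G) * g⁻¹ = z by
      rw [Subgroup.mem_center_iff.mp (hMc z.2) g, mul_inv_cancel_right]⟩
  -- no abelian Sylow subgroup
  have hPna : ∀ P : Sylow p G, ¬ ∀ a ∈ (P : Subgroup G), ∀ b ∈ (P : Subgroup G), a * b = b * a := by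
    intro P hab
    letI : CommGroup (P : Subgroup G) := { (inferInstance : Group (P : Subgroup G)) with mul_comm := fun a b => Subtype.ext (hab a a.2 b b.2) }
    have h1 := Transfer.hom_eq_one_of_mem_center_of_mem_commutator (MonoidHom.id (P : Subgroup G)) (hMc z.2) (hzP P)
      (hperf ▸ Subgroup.mem_top _) (by
        rw [show MonoidHom.id (P : Subgroup G) ⟨z, hzP P⟩ = ⟨z, hzP P⟩ from rfl, Subgroup.orderOf_mk, Subgroup.orderOf_coe, hz]
        exact hp.coprime_iff_not_dvd.mpr P.not_dvd_index)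
    have h2 : (z : G) = 1 := congrArg Subtype.val h1
    rw [← Subgroup.orderOf_coe, h2, orderOf_one] at hz
    exact hp.one_lt.ne hz
  have hsub : ∀ (P : Sylow p G) (U : Subgroup G), U < (P : Subgroup G) → ∀ a ∈ U, ∀ b ∈ U, a * b = b * a := by
    intro P U hU a ha b hb
    by_contra hne
    have h1 := Transfer.lt_inf_normalizer P.isPGroup' hU
    rw [hS U (fun hc => hne (congrArg Subtype.val (hc.is_comm.comm (⟨a, ha⟩ : U) ⟨b, hb⟩))), inf_eq_right.mpr hU.le] at h1
    exact lt_irrefl _ h1
  obtain ⟨P⟩ : Nonempty (Sylow p G) := inferInstance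
  have hnil : Cfsg.HasNormalPComplement p G := by
    refine Transfer.hasNormalPComplement_of_frobenius P fun Q hQ g hg hgo => ?_
    by_cases hQP : Q = (P : Subgroup G)
    · subst hQP
      rw [hS _ (fun hc => hPna P fun a ha b hb => congrArg Subtype.val (hc.is_comm.comm (⟨a, ha⟩ : (P : Subgroup G)) ⟨b, hb⟩))] at hg
      obtain ⟨t, ht⟩ := IsPGroup.iff_orderOf.mp P.isPGroup' ⟨g, hg⟩
      rw [Subgroup.orderOf_mk] at ht
      have : g = 1 := orderOf_eq_one_iff.mp (Nat.eq_one_of_dvd_coprimes (hgo.pow_right t) dvd_rfl (ht ▸ dvd_rfl))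
      rw [this]; exact one_mem _
    by_contra hgQ
    obtain ⟨A, hQA, hAP, hAmax⟩ := (Set.toFinite {S : Subgroup G | S < (P : Subgroup G)}).exists_le_maximal
      (a := Q) (lt_of_le_of_ne hQ hQP)
    replace hAP : A < (P : Subgroup G) := hAP
    set C := Subgroup.centralizer (Q : Set G) with hCd
    have hCle : C ≤ Subgroup.normalizer (Q : Set G) := Subgroup.centralizer_le_normalizer _
    have hCab : ∀ a ∈ C, ∀ b ∈ C, a * b = b * a := by
      intro a ha b hb
      by_contra hne
      have h1 := hS C fun hc => hne (congrArg Subtype.val (hc.is_comm.comm (⟨a, ha⟩ : C) ⟨b, hb⟩))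
      apply hgQ
      rw [← h1, Subgroup.mem_normalizer_iff]
      intro x
      have hconj : ∀ (t : G), t ∈ Subgroup.normalizer (Q : Set G) → ∀ y ∈ C, t * y * t⁻¹ ∈ C := by
        intro t ht y hy
        rw [hCd, Subgroup.mem_centralizer_iff]
        intro q hq
        have hq' : t⁻¹ * q * t ∈ Q := by
          refine (Subgroup.mem_normalizer_iff.mp ht _).mpr ?_
          rwa [show t * (t⁻¹ * q * t) * t⁻¹ = q by group]
        calc q * (t * y * t⁻¹) = t * (t⁻¹ * q * t * y) * t⁻¹ := by group
          _ = t * (y * (t⁻¹ * q * t)) * t⁻¹ := by rw [Subgroup.mem_centralizer_iff.mp hy _ hq']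
          _ = _ := by group
      refine ⟨hconj g hg x, fun hx => ?_⟩
      have := hconj g⁻¹ (inv_mem hg) _ hx
      rwa [show g⁻¹ * (g * x * g⁻¹) * g⁻¹⁻¹ = x by group] at this
    have hAC : A ≤ C := fun a ha => Subgroup.mem_centralizer_iff.mpr fun q hq => hsub P A hAP q (hQA hq) a ha
    have hAsyl : ∀ U : Subgroup G, IsPGroup p U → A ≤ U → U ≤ C → U = A := by
      intro U hU hAU hUC
      by_contra hne
      obtain ⟨P', hP'⟩ := hU.exists_le_sylow
      by_cases hUP' : U = (P' : Subgroup G)
      · exact hPna P' fun a ha b hb => hCab a (hUC (hUP' ▸ ha)) b (hUC (hUP' ▸ hb))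
      · have hlt : A < U := lt_of_le_of_ne hAU (Ne.symm hne)
        have h1 : Nat.card U < Nat.card (P' : Subgroup G) := Set.ncard_lt_ncard (SetLike.coe_ssubset_coe.mpr (lt_of_le_of_ne hP' hUP')) (Set.toFinite _)
        have h2 : Nat.card A < Nat.card U := Set.ncard_lt_ncard (SetLike.coe_ssubset_coe.mpr hlt) (Set.toFinite _)
        obtain ⟨i, hi⟩ := IsPGroup.iff_card.mp hU
        obtain ⟨j, hj⟩ := IsPGroup.iff_card.mp (P.isPGroup'.to_le hAP.le)
        rw [P'.card_eq_multiplicity, ← P.card_eq_multiplicity] at h1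
        -- a maximal subgroup has index `p`
        have hcoat : IsCoatom (A.subgroupOf (P : Subgroup G)) := by
          refine ⟨fun h => hAP.ne (le_antisymm hAP.le (Subgroup.subgroupOf_eq_top.mp h)), fun B hB => ?_⟩
          by_contra hBt
          have hlt' : B.map (P : Subgroup G).subtype < (P : Subgroup G) := by
            refine lt_of_le_of_ne (Subgroup.map_subtype_le B) fun e => hBt ?_
            exact Subgroup.map_injective (P : Subgroup G).subtype_injective (e.trans ((MonoidHom.range_eq_map _).symm.trans (Subgroup.range_subtype _)).symm)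
          have hAB : A ≤ B.map (P : Subgroup G).subtype := fun a ha => ⟨⟨a, hAP.le ha⟩, hB.le ha, rfl⟩
          refine hB.not_ge fun x hx => ?_
          exact hAmax hlt' hAB ⟨x, hx, rfl⟩
        have hidx := (Transfer.index_eq_of_isCoatom P.isPGroup' hcoat).2
        have h3 := (A.subgroupOf (P : Subgroup G)).card_mul_index
        rw [hidx, Nat.card_congr (Subgroup.subgroupOfEquivOfLe hAP.le).toEquiv, hj, ← pow_succ] at h3
        rw [hi, ← h3] at h1
        rw [hi, hj] at h2
        have := (Nat.pow_lt_pow_iff_right hp.one_lt).mp h1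
        have := (Nat.pow_lt_pow_iff_right hp.one_lt).mp h2
        omega
    have hgA : g ∈ Subgroup.normalizer (A : Set G) := by
      refine (Subgroup.mem_normalizer_iff_map_conj_eq).mpr (Subgroup.eq_of_le_of_card_ge ?_ (Subgroup.card_map_of_injective (MulAut.conj g).injective).ge)
      have hmapC : A.map (MulAut.conj g).toMonoidHom ≤ C := by
        rintro _ ⟨a, ha, rfl⟩
        rw [hCd, Subgroup.mem_centralizer_iff]
        intro q hq
        have hq' : g⁻¹ * q * g ∈ Q := by
          refine (Subgroup.mem_normalizer_iff.mp hg _).mpr ?_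
          rwa [show g * (g⁻¹ * q * g) * g⁻¹ = q by group]
        show q * (g * a * g⁻¹) = g * a * g⁻¹ * q
        calc q * (g * a * g⁻¹) = g * (g⁻¹ * q * g * a) * g⁻¹ := by group
          _ = g * (a * (g⁻¹ * q * g)) * g⁻¹ := by rw [Subgroup.mem_centralizer_iff.mp (hAC ha) _ hq']
          _ = _ := by group
      have hAp : IsPGroup p A := P.isPGroup'.to_le hAP.le
      have hsup : IsPGroup p (A.map (MulAut.conj g).toMonoidHom ⊔ A : Subgroup G) := by
        refine IsPGroup.to_sup_of_normal_right' (hAp.map _) hAp fun x hx => ?_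
        rw [Subgroup.mem_normalizer_iff]
        intro y
        constructor
        · intro hy; rwa [hCab x (hmapC hx) y (hAC hy), mul_inv_cancel_right]
        · intro hy
          have h1 := hCab x (hmapC hx) _ (hAC hy)
          have h2 : x * y * x⁻¹ = y := mul_left_cancel (a := x) (by rw [h1]; group)
          rwa [h2] at hy
      exact le_sup_left.trans (hAsyl _ hsup le_sup_right (sup_le hmapC hAC)).le
    have hPA : (P : Subgroup G) ≤ Subgroup.normalizer (A : Set G) := by
      intro x hx
      have h1 := Transfer.lt_inf_normalizer P.isPGroup' hAP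
      have h2 : (P : Subgroup G) ⊓ Subgroup.normalizer (A : Set G) = (P : Subgroup G) := by
        by_contra hne
        exact h1.not_ge (hAmax (lt_of_le_of_ne inf_le_left hne) h1.le)
      exact (h2.ge hx).2
    set H := Subgroup.normalizer (A : Set G) with hHd
    set CA := (Subgroup.centralizer (A : Set G)).subgroupOf H with hCAd
    haveI : CA.Normal := ⟨fun y hy t => by
      rw [hCAd, Subgroup.mem_subgroupOf, Subgroup.mem_centralizer_iff] at hy ⊢
      intro q hq
      have hq' : (t : G)⁻¹ * q * t ∈ A := by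
        refine (Subgroup.mem_normalizer_iff.mp t.2 _).mpr ?_
        rwa [show (t : G) * ((t : G)⁻¹ * q * t) * (t : G)⁻¹ = q by group]
      show q * ((t : G) * y * (t : G)⁻¹) = (t : G) * y * (t : G)⁻¹ * q
      calc q * ((t : G) * y * (t : G)⁻¹) = t * ((t : G)⁻¹ * q * t * y) * (t : G)⁻¹ := by group
        _ = t * ((y : G) * ((t : G)⁻¹ * q * t)) * (t : G)⁻¹ := by rw [hy _ hq']
        _ = _ := by group⟩
    have hW := quotient_comm hS CA (fun x hx => Subgroup.mem_subgroupOf.mpr (Subgroup.mem_centralizer_iff.mpr fun a ha =>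
      congrArg Subtype.val (hx ⟨a, Subgroup.le_normalizer ha⟩ (Subgroup.mem_subgroupOf.mpr
        (Subgroup.mem_centralizer_iff.mpr fun a' ha' => hsub P A hAP a' ha' a ha)))))
    set π := QuotientGroup.mk' CA
    set T := ((P : Subgroup G).subgroupOf H).map π with hTd
    have hT0 : T ≠ ⊥ := by
      intro h0
      rw [hTd, Subgroup.map_eq_bot_iff, QuotientGroup.ker_mk'] at h0
      apply hPna P
      intro a ha b hb
      have hmem : ∀ x ∈ (P : Subgroup G), ∀ y ∈ A, y * x = x * y := fun x hx y hy =>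
        Subgroup.mem_centralizer_iff.mp (h0 (show (⟨x, hPA hx⟩ : H) ∈ (P : Subgroup G).subgroupOf H from hx)) y hy
      by_cases haA : a ∈ A
      · exact hmem b hb a haA
      have hgen : A ⊔ Subgroup.zpowers a = (P : Subgroup G) := by
        by_contra hne
        exact haA (hAmax (lt_of_le_of_ne (sup_le hAP.le (Subgroup.zpowers_le.mpr ha)) hne) le_sup_left
          (Subgroup.mem_sup_right (Subgroup.mem_zpowers a)))
      have hle : (P : Subgroup G) ≤ Subgroup.centralizer ({a} : Set G) := by
        rw [← hgen]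
        exact sup_le (fun y hy => Subgroup.mem_centralizer_singleton_iff.mpr (hmem a ha y hy))
          (Subgroup.zpowers_le.mpr (Subgroup.mem_centralizer_singleton_iff.mpr rfl))
      exact (Subgroup.mem_centralizer_singleton_iff.mp (hle hb)).symm
    have hTn : T.Normal := ⟨fun y hy t => by rw [hW t y, mul_inv_cancel_right]; exact hy⟩
    have hTna : ¬ IsMulCommutative (((T.comap π).map H.subtype : Subgroup G)) := fun hc => by
      apply hPna P
      intro a ha b hb
      exact congrArg Subtype.val (hc.is_comm.comm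
        (⟨a, ⟨a, hPA ha⟩, Subgroup.mem_map_of_mem π (show (⟨a, hPA ha⟩ : H) ∈ (P : Subgroup G).subgroupOf H from ha), rfl⟩ : (T.comap π).map H.subtype)
        ⟨b, ⟨b, hPA hb⟩, Subgroup.mem_map_of_mem π (show (⟨b, hPA hb⟩ : H) ∈ (P : Subgroup G).subgroupOf H from hb), rfl⟩)
    have hgT : π ⟨g, hgA⟩ ∈ T := by
      have h1 : g ∈ Subgroup.normalizer (((T.comap π).map H.subtype : Subgroup G) : Set G) := by
        rw [Subgroup.mem_normalizer_iff]
        intro y
        haveI := hTn
        constructor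
        · rintro ⟨w, hw, rfl⟩
          exact ⟨⟨g, hgA⟩ * w * ⟨g, hgA⟩⁻¹, (hTn.comap π).conj_mem w hw _, rfl⟩
        · rintro ⟨w, hw, hwy⟩
          refine ⟨⟨g, hgA⟩⁻¹ * w * ⟨g, hgA⟩, by simpa using (hTn.comap π).conj_mem w hw ⟨g, hgA⟩⁻¹, ?_⟩
          show g⁻¹ * (w : G) * g = y
          rw [show (w : G) = g * y * g⁻¹ from hwy]; group
      rw [hS _ hTna] at h1
      obtain ⟨w, hw, hwg⟩ := h1
      exact (Subtype.ext hwg : w = ⟨g, hgA⟩) ▸ hw
    have hTp : IsPGroup p T := (P.isPGroup'.comap_of_injective H.subtype H.subtype_injective).map π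
    obtain ⟨t, ht⟩ := IsPGroup.iff_orderOf.mp hTp ⟨π ⟨g, hgA⟩, hgT⟩
    rw [Subgroup.orderOf_mk] at ht
    have h1 : π ⟨g, hgA⟩ = 1 := orderOf_eq_one_iff.mp (Nat.eq_one_of_dvd_coprimes (hgo.pow_right t)
      ((orderOf_map_dvd π _).trans (by rw [Subgroup.orderOf_mk])) (ht ▸ dvd_rfl))
    refine hgQ (Subgroup.mem_centralizer_iff.mpr fun q hq => ?_)
    exact Subgroup.mem_centralizer_iff.mp (Subgroup.mem_subgroupOf.mp ((QuotientGroup.eq_one_iff _).mp h1)) q (hQA hq)
  obtain ⟨R, L, hL, hc⟩ := hnil
  haveI := hL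
  have hLsol : IsPGroup p (G ⧸ L) := IsPGroup.of_card (n := (Nat.card G).factorization p) (by
    rw [← Subgroup.index_eq_card, hc.symm.index_eq_card, R.card_eq_multiplicity])
  by_cases hL1 : L = ⊤
  · have h1 := hc.card_mul_card
    rw [hL1, Subgroup.card_top] at h1
    have h2 : Nat.card (R : Subgroup G) = 1 := Nat.eq_of_mul_eq_mul_left Nat.card_pos (h1.trans (mul_one _).symm)
    refine hPna R fun a ha b hb => ?_
    rw [Subgroup.card_eq_one.mp h2, Subgroup.mem_bot] at ha
    subst ha; simp
  haveI : Group.IsNilpotent (G ⧸ L) := hLsol.isNilpotent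
  haveI : Nontrivial (G ⧸ L) := QuotientGroup.nontrivial_iff.mpr hL1
  refine (Group.IsSolvable.commutator_lt_top_of_nontrivial (G ⧸ L)).ne ?_
  rw [← MonoidHom.range_eq_top.mpr (QuotientGroup.mk'_surjective L), MonoidHom.range_eq_map, commutator_def,
    ← Subgroup.map_top_of_surjective _ (QuotientGroup.mk'_surjective L), ← Subgroup.map_commutator, ← commutator_def, hperf]

end Cfsg.Agent.S4072
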