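import Cfsg.Statements.S4074
import Mathlib.GroupTheory.SpecificGroups.Dihedral
import Mathlib.GroupTheory.PGroup
import Mathlib.GroupTheory.Index

set_option autoImplicit false
open Cfsg

namespace Cfsg.Agent.S4074

open DihedralGroup

theorem dihedral_evenSubgroup (n : ℕ) (hn : 4 < n) (he : Even n) :
    ∃ H : Subgroup (DihedralGroup n), ¬ IsMulCommutative H ∧ H.Normal ∧ H ≠ ⊤ := by
  haveI : NeZero n := ⟨by omega⟩
  let H : Subgroup (DihedralGroup n) :=
  { carrier := {g | ∃ j : ZMod n, g = r (2 * j) ∨ g = sr (2 * j)}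
    one_mem' := ⟨0, Or.inl (by rw [mul_zero]; rfl)⟩
    mul_mem' := by
      rintro a b ⟨i, ha⟩ ⟨j, hb⟩
      rcases ha with rfl | rfl <;> rcases hb with rfl | rfl
      · exact ⟨i + j, Or.inl (by rw [r_mul_r]; ring_nf)⟩
      · exact ⟨j - i, Or.inr (by rw [r_mul_sr]; ring_nf)⟩
      · exact ⟨i + j, Or.inr (by rw [sr_mul_r]; ring_nf)⟩
      · exact ⟨j - i, Or.inl (by rw [sr_mul_sr]; ring_nf)⟩
    inv_mem' := by
      rintro a ⟨i, rfl | rfl⟩
      · exact ⟨-i, Or.inl (by rw [inv_r]; ring_nf)⟩
      · exact ⟨i, Or.inr (inv_sr _)⟩ }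
  refine ⟨H, fun hc => ?_, ⟨?_⟩, fun h => ?_⟩
  · have hm := hc.is_comm.comm ⟨r (2 * 1), 1, Or.inl rfl⟩ ⟨sr (2 * 0), 0, Or.inr rfl⟩
    have h4 : ((4 : ℕ) : ZMod n) = 0 := by
      have h := congrArg Subtype.val hm
      simp only [Subgroup.coe_mul, r_mul_sr, sr_mul_r, sr.injEq] at h
      push_cast
      linear_combination -h
    have := Nat.le_of_dvd (by norm_num) ((ZMod.natCast_eq_zero_iff 4 n).mp h4)
    omega
  · intro x hx g
    obtain ⟨j, rfl | rfl⟩ := hx
    · cases g with
      | r i => exact ⟨j, Or.inl (by rw [inv_r, r_mul_r, r_mul_r]; ring_nf)⟩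
      | sr i => exact ⟨-j, Or.inl (by rw [inv_sr, sr_mul_r, sr_mul_sr]; ring_nf)⟩
    · cases g with
      | r i => exact ⟨j - i, Or.inr (by rw [inv_r, r_mul_sr, sr_mul_r]; ring_nf)⟩
      | sr i => exact ⟨i - j, Or.inr (by rw [inv_sr, sr_mul_sr, r_mul_sr]; ring_nf)⟩
  · obtain ⟨j, hj | hj⟩ : r (1 : ZMod n) ∈ H := h ▸ Subgroup.mem_top _
    · have h2 := congrArg (ZMod.castHom (even_iff_two_dvd.mp he) (ZMod 2)) (r.inj hj)
      rw [map_one, map_mul, map_ofNat] at h2
      revert h2
      generalize (ZMod.castHom (even_iff_two_dvd.mp he) (ZMod 2)) j = t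
      revert t
      decide
    · simp at hj

/-- For n > 2, every non-abelian subgroup of the dihedral group of order 2n is self-normalizing if and only if n = 4 or n is odd. -/
theorem result (n : ℕ) (hn : 2 < n) :
    (∀ H : Subgroup (DihedralGroup n), ¬ IsMulCommutative H → Subgroup.normalizer (H : Set (DihedralGroup n)) = H) ↔
    (n = 4 ∨ Odd n) := by
  constructor
  · intro h
    by_contra hc
    push Not at hc
    obtain ⟨h4, hodd⟩ := hc
    have he : Even n := Nat.not_odd_iff_even.mp hodd
    have : 4 < n := by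
      obtain ⟨k, rfl⟩ := he
      omega
    obtain ⟨H, hna, hnorm, hne⟩ := dihedral_evenSubgroup n this he
    exact hne ((h H hna).symm.trans (Subgroup.normalizer_eq_top_iff.mpr hnorm))
  · intro hn' H hna
    haveI : NeZero n := ⟨by omega⟩
    rcases hn' with rfl | hodd
    · have hcard : Nat.card (DihedralGroup 4) = 8 := DihedralGroup.nat_card
      have htop : H = ⊤ := by
        by_contra hne
        have hdvd : Nat.card H ∣ 2 ^ 3 := by
          have := Subgroup.card_subgroup_dvd_card H
          rwa [hcard] at this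
        obtain ⟨k, hk, hk'⟩ := (Nat.dvd_prime_pow Nat.prime_two).mp hdvd
        haveI : Fact (Nat.Prime 2) := ⟨Nat.prime_two⟩
        interval_cases k
        · exact hna (Subgroup.card_eq_one.mp (by simpa using hk') ▸ inferInstance)
        · haveI := isCyclic_of_prime_card (p := 2) (α := H) (by simpa using hk')
          exact hna inferInstance
        · exact hna ⟨⟨fun a b => IsPGroup.commutative_of_card_eq_prime_sq (p := 2) hk' a b⟩⟩
        · exact hne (Subgroup.eq_top_of_card_eq H (by rw [hk', hcard]; norm_num))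
      subst htop
      exact top_le_iff.mp Subgroup.le_normalizer
    · refine le_antisymm ?_ Subgroup.le_normalizer
      obtain ⟨a, ha⟩ : ∃ a, DihedralGroup.sr a ∈ H := by
        by_contra hc
        push Not at hc
        refine hna ⟨⟨fun u v => ?_⟩⟩
        obtain ⟨u, hu⟩ := u
        obtain ⟨v, hv⟩ := v
        cases u with
        | sr i => exact absurd hu (hc i)
        | r i => cases v with
          | sr j => exact absurd hv (hc j)
          | r j => exact Subtype.ext (by simp [DihedralGroup.r_mul_r, add_comm])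
      have hrot : ∀ i, DihedralGroup.r i ∈ Subgroup.normalizer (H : Set (DihedralGroup n)) →
          DihedralGroup.r i ∈ H := by
        intro i hi
        have h1 := (Subgroup.mem_normalizer_iff.mp hi (DihedralGroup.sr a)).mp ha
        have h2 := H.mul_mem h1 ha
        simp only [DihedralGroup.inv_r, DihedralGroup.r_mul_sr, DihedralGroup.sr_mul_r,
          DihedralGroup.sr_mul_sr] at h2
        obtain ⟨k, hk⟩ := hodd
        have h3 := H.pow_mem h2 (k + 1)
        rw [DihedralGroup.r_pow] at h3
        convert h3 using 2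
        have hn0 : ((2 * k + 1 : ℕ) : ZMod n) = 0 := by rw [← hk, ZMod.natCast_self]
        push_cast at hn0 ⊢
        linear_combination -i * hn0
      intro g hg
      cases g with
      | r i => exact hrot i hg
      | sr i =>
        have h1 : DihedralGroup.sr i * DihedralGroup.sr a ∈ H := by
          rw [DihedralGroup.sr_mul_sr]
          apply hrot
          rw [← DihedralGroup.sr_mul_sr]
          exact mul_mem hg (Subgroup.le_normalizer ha)
        simpa using H.mul_mem h1 (H.inv_mem ha)

end Cfsg.Agent.S4074
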