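import Cfsg.Statements.S4075
import Mathlib.GroupTheory.Nilpotent
import Mathlib.Algebra.IsPrimePow

set_option autoImplicit false
open Cfsg

namespace Cfsg.Agent.S4075

open scoped commutatorElement

theorem eq_top_or_comm {G : Type*} [Group G] [Finite G] [Group.IsNilpotent G]
    (h : ∀ H : Subgroup G, ¬ IsMulCommutative H → Subgroup.normalizer (H : Set G) = H)
    (H : Subgroup G) : H = ⊤ ∨ IsMulCommutative H := by
  by_contra hc
  push Not at hc
  obtain ⟨h1, h2⟩ := hc
  have hlt := Group.normalizerCondition_of_isNilpotent H (lt_top_iff_ne_top.mpr h1)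
  rw [h H h2] at hlt
  exact lt_irrefl _ hlt

theorem exists_single_prime {G : Type*} [Group G] [Finite G] [Group.IsNilpotent G]
    (hna : ¬ IsMulCommutative G) (hab : ∀ H : Subgroup G, H ≠ ⊤ → IsMulCommutative H) :
    IsPrimePow (Nat.card G) := by
  by_contra hnp
  apply hna
  obtain ⟨e⟩ := ((Group.isNilpotent_of_finite_tfae (G := G)).out 0 4).mp ‹_›
  have hP : ∀ (p : (Nat.card G).primeFactors) (P : Sylow (p : ℕ) G), IsMulCommutative (P : Subgroup G) := by
    intro p P
    have : Fact (p : ℕ).Prime := ⟨Nat.prime_of_mem_primeFactors p.2⟩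
    refine hab _ fun htop => hnp ?_
    have hpd : (p : ℕ) ∣ Nat.card G := Nat.dvd_of_mem_primeFactors p.2
    obtain ⟨k, hk⟩ := P.isPGroup'.exists_card_eq
    rw [htop, Subgroup.card_top] at hk
    rw [hk]
    have hk0 : k ≠ 0 := by
      rintro rfl
      exact (Fact.out : (p : ℕ).Prime).not_dvd_one (hpd.trans (dvd_of_eq (hk.trans (pow_zero _))))
    exact ((Fact.out : (p : ℕ).Prime).isPrimePow).pow hk0
  constructor
  constructor
  intro a b
  apply e.symm.injective
  rw [map_mul, map_mul]
  funext p P
  exact ((hP p P).is_comm.comm _ _)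

/-- Let G be a finite nilpotent group. Every non-abelian subgroup of G is self-normalizing if and only if G is abelian or G is a minimal non-abelian p-group for some prime p (non-abelian of prime-power order with every proper subgroup abelian). -/
theorem result {G : Type*} [Group G] [Finite G]
    [Group.IsNilpotent G] :
    (∀ H : Subgroup G, ¬ IsMulCommutative H → Subgroup.normalizer (H : Set G) = H) ↔
    (IsMulCommutative G ∨ (IsPrimePow (Nat.card G) ∧ ¬ IsMulCommutative G ∧ ∀ H : Subgroup G, H ≠ ⊤ → IsMulCommutative H)) := by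
  constructor
  · intro h
    by_cases hG : IsMulCommutative G
    · exact Or.inl hG
    · refine Or.inr ⟨?_, hG, fun H hH => (eq_top_or_comm h H).resolve_left hH⟩
      exact exists_single_prime hG fun H hH => (eq_top_or_comm h H).resolve_left hH
  · rintro (hG | ⟨-, -, hmin⟩) H hH
    · exact absurd ⟨⟨fun a b => Subtype.ext (hG.is_comm.comm (a : G) b)⟩⟩ hH
    · have : H = ⊤ := by
        by_contra hne
        exact hH (hmin H hne)
      subst this
      exact top_le_iff.mp Subgroup.le_normalizer

end Cfsg.Agent.S4075
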