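import Cfsg.Statements.S4079
import Cfsg.Agent.Lib.PGroups.MetacyclicOmega
import Cfsg.Agent.Lib.RankTwo.Omega
import Cfsg.Agent.Lib.RankTwo.TwoMaxClass
-- import your own Cfsg.Agent.* helpers here

set_option autoImplicit false
open Cfsg

namespace Cfsg.Agent.S4079

open scoped commutatorElement

theorem diff_eq_commutator {G : Type*} [Group G] (u g : G) : u⁻¹ * (g * u * g⁻¹) = ⁅u⁻¹, g⁆ := by
  rw [commutatorElement_def]; group

theorem mul_diff {G : Type*} [Group G] (u g : G) : u * (u⁻¹ * (g * u * g⁻¹)) = g * u * g⁻¹ := by group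

theorem move_diff {G : Type*} [Group G] (u g : G) : u * g⁻¹ = g⁻¹ * (u * (u⁻¹ * (g * u * g⁻¹))) := by group

theorem conj_split {G : Type*} [Group G] (u v g : G) (h : g * u * g⁻¹ = u) :
    v⁻¹ * (g * v * g⁻¹) = ⁅(u⁻¹ * v)⁻¹, g⁆ := by
  have h1 : g * v * g⁻¹ = g * u * g⁻¹ * (g * (u⁻¹ * v) * g⁻¹) := by group
  rw [h1, h, commutatorElement_def]; group

/-- In a group of maximal class the normal subgroups of order `p ^ 2` coincide. -/
theorem normal_sq_le {P : Type*} [Group P] [Finite P] {p : ℕ} [Fact p.Prime] (hP : IsPGroup p P)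
    (hz : Nat.card (Subgroup.center P) = p) (hq : Nat.card (Subgroup.center (P ⧸ Subgroup.center P)) = p)
    (A B : Subgroup P) [A.Normal] [B.Normal] (hA : Nat.card A = p ^ 2) (hB : Nat.card B = p ^ 2) : A = B := by
  set π := QuotientGroup.mk' (Subgroup.center P) with hπ
  set S := (Subgroup.center (P ⧸ Subgroup.center P)).comap π with hS
  have hle : ∀ (R : Subgroup P) [R.Normal], Nat.card R = p ^ 2 → R ≤ S := by
    intro R _ hR u hu
    rw [hS, Subgroup.mem_comap, Subgroup.mem_center_iff]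
    intro g'
    obtain ⟨g, rfl⟩ := QuotientGroup.mk'_surjective _ g'
    refine (commutatorElement_eq_one_iff_mul_comm.mp ?_).symm
    rw [← map_commutatorElement, QuotientGroup.mk'_apply, QuotientGroup.eq_one_iff]
    exact Cfsg.Agent.Lib.RankTwo.commutator_mem_center hP R hR hu g
  have hker : S ⊓ π.ker = Subgroup.center P := by
    rw [hπ, QuotientGroup.ker_mk']
    refine le_antisymm inf_le_right (le_inf (fun u hu => ?_) le_rfl)
    rw [hS, Subgroup.mem_comap, hπ, QuotientGroup.mk'_apply, (QuotientGroup.eq_one_iff u).mpr hu]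
    exact one_mem _
  have hcard : Nat.card S = p ^ 2 := by
    have h := Cfsg.Agent.Lib.Cores.card_map_mul_card_inf_ker π S
    rw [hker, hS, Subgroup.map_comap_eq_self_of_surjective (QuotientGroup.mk'_surjective _), hq, hz] at h
    rw [hS, ← h, sq]
  rw [Subgroup.eq_of_le_of_card_ge (hle A hA) (by rw [hA, hcard]),
    Subgroup.eq_of_le_of_card_ge (hle B hB) (by rw [hB, hcard])]

/-- Let p be an odd prime and L a finite metacyclic p-group with no cyclic subgroup of index p, and let a be an automorphism of L of order p. Then a moves some element of order p of L if and only if p = 3 and the semidirect product L ⋊ ⟨a⟩ (of order 3·#L) has maximal class, i.e. nilpotency class m where #L = 3^m. -/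
theorem result {L : Type*} [Group L] [Finite L] {p : ℕ} [Fact p.Prime]
    (hp : p ≠ 2) (hL : IsPGroup p L) (hmc : Cfsg.IsMetacyclic L) (hnc : ∀ C : Subgroup L, IsCyclic C → C.index ≠ p)
    (a : MulAut L) (ha : orderOf a = p) (m : ℕ) (hm : Nat.card L = p ^ m) :
    (∃ x : L, orderOf x = p ∧ a x ≠ x) ↔
    (p = 3 ∧ Group.nilpotencyClass (SemidirectProduct L ↥(Subgroup.zpowers a) (Subgroup.zpowers a).subtype) = m) := by
  classical
  have hp' : p.Prime := Fact.out
  haveI : Nontrivial L := by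
    by_contra h
    rw [not_nontrivial_iff_subsingleton] at h
    have : a = 1 := MulEquiv.ext fun _ => Subsingleton.elim _ _
    rw [this, orderOf_one] at ha
    exact hp'.ne_one ha.symm
  obtain ⟨hcard4, E, hEn, hEc, hEp, hΩ, hF1, hroots⟩ :=
    Cfsg.Agent.Lib.PGroups.metacyclic_omega_spec hp hL hmc hnc
  have hm4 : 4 ≤ m := (Nat.pow_le_pow_iff_right hp'.one_lt).mp (hm ▸ hcard4)
  let P := SemidirectProduct L ↥(Subgroup.zpowers a) (Subgroup.zpowers a).subtype
  let ι : L →* P := SemidirectProduct.inl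
  let A : P := SemidirectProduct.inr ⟨a, Subgroup.mem_zpowers a⟩
  have hιi : Function.Injective ι := SemidirectProduct.inl_injective
  have hAι : ∀ x : L, A * ι x * A⁻¹ = ι (a x) := fun x => by
    have h := SemidirectProduct.inl_aut (φ := (Subgroup.zpowers a).subtype) ⟨a, Subgroup.mem_zpowers a⟩ x
    rw [map_inv] at h
    exact h.symm
  haveI hfA : Finite ↥(Subgroup.zpowers a) := by
    refine Nat.finite_of_card_ne_zero ?_
    rw [Nat.card_zpowers, ha]
    exact hp'.ne_zero
  haveI : Finite P := Finite.of_equiv _ SemidirectProduct.equivProd.symm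
  have hPc : Nat.card P = p ^ (m + 1) := by
    rw [SemidirectProduct.card, hm, Nat.card_zpowers, ha, pow_succ]
  have hP : IsPGroup p P := IsPGroup.of_card hPc
  have hAp : A ^ p = 1 := by
    have h : (⟨a, Subgroup.mem_zpowers a⟩ : ↥(Subgroup.zpowers a)) ^ p = 1 :=
      Subtype.ext (by simp [← ha, pow_orderOf_eq_one])
    show SemidirectProduct.inr _ ^ p = 1
    rw [← map_pow, h, map_one]
  set M : Subgroup P := ι.range with hMdef
  haveI hMn : M.Normal := by
    rw [hMdef, show ι = SemidirectProduct.inl from rfl, SemidirectProduct.range_inl_eq_ker_rightHom]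
    infer_instance
  have hMi : M.index = p := by
    have h := M.card_mul_index
    rw [show Nat.card M = p ^ m by rw [← hm]; exact (Nat.card_congr (MonoidHom.ofInjective hιi).toEquiv).symm,
      hPc, pow_succ] at h
    exact Nat.eq_of_mul_eq_mul_left (pow_pos hp'.pos m) h
  set Ep := E.map ι with hEpdef
  have hEpc : Nat.card Ep = p ^ 2 := by
    rw [← hEc]; exact (Nat.card_congr (E.equivMapOfInjective ι hιi).toEquiv).symm
  have hEpp : ∀ e ∈ Ep, e ^ p = 1 := by
    rintro _ ⟨e, he, rfl⟩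
    rw [← map_pow, hEp e he, map_one]
  have hEM : Ep ≤ M := by
    rintro _ ⟨e, -, rfl⟩
    exact ⟨e, rfl⟩
  have hΩM : ∀ t ∈ M, t ^ p = 1 → t ∈ Ep := by
    rintro _ ⟨t, rfl⟩ ht
    exact ⟨t, hΩ t (hιi (by rw [map_pow, ht, map_one])), rfl⟩
  haveI hEpn : Ep.Normal := ⟨fun e he g => hΩM _ (hMn.conj_mem e (hEM he) g)
    (by rw [conj_pow, hEpp e he, mul_one, mul_inv_cancel])⟩
  haveI := hP.isNilpotent
  constructor
  · rintro ⟨y, hy, hay⟩
    have hyE : y ∈ E := hΩ y (hy ▸ pow_orderOf_eq_one y)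
    obtain ⟨x, hx⟩ := hroots y hyE
    set CM : Subgroup P := M ⊓ Subgroup.centralizer (Ep : Set P) with hCMdef
    have hcm : ∀ u ∈ CM, ∀ e ∈ Ep, Commute e u := fun u hu e he =>
      Subgroup.mem_centralizer_iff.mp (Subgroup.mem_inf.mp hu).2 e he
    have hCMc : Cfsg.Agent.Lib.RankTwo.OmegaCentral p CM := fun t ht htp u hu =>
      hcm u hu t (hΩM t (Subgroup.mem_inf.mp ht).1 htp)
    have hroot : ∀ t : L, t ^ p ∈ E → ι t ∈ CM := fun t ht => Subgroup.mem_inf.mpr ⟨⟨t, rfl⟩,
      Subgroup.mem_centralizer_iff.mpr (by rintro _ ⟨e, he, rfl⟩; exact ((hF1 t ht e he).map ι).eq)⟩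
    have hCMn : CM.Normal := Subgroup.normal_inf_normal _ _
    set X := ι x with hX
    set Y := ι y with hY
    have hXC : X ∈ CM := hroot x (hx ▸ hyE)
    have hXY : X ^ p = Y := by rw [hX, hY, ← map_pow, hx]
    have hYE : Y ∈ Ep := ⟨y, hyE, rfl⟩
    set δ := X⁻¹ * (A * X * A⁻¹) with hδ
    have hδC : δ ∈ CM := CM.mul_mem (CM.inv_mem hXC) (hCMn.conj_mem X hXC A)
    set z := Y⁻¹ * (A * Y * A⁻¹) with hz
    have hzE : z ∈ Ep := Ep.mul_mem (Ep.inv_mem hYE) (hEpn.conj_mem Y hYE A)
    have hzc : z ∈ Subgroup.center P := by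
      have e : z = ⁅Y⁻¹, A⁆ := diff_eq_commutator Y A
      rw [e]
      exact Cfsg.Agent.Lib.RankTwo.commutator_mem_center hP Ep hEpc (Ep.inv_mem hYE) A
    have hz1 : z ≠ 1 := fun h => hay (hιi (by
      rw [← hAι]; exact (inv_mul_eq_one.mp h).symm))
    have hδp : δ ^ p = z := by
      have h := Cfsg.Agent.Lib.RankTwo.mul_pow_of_commute_pow hp hP hCMc hXC hδC
        (hXY ▸ (hcm δ hδC Y hYE).symm)
      rw [show X * δ = A * X * A⁻¹ from mul_diff X A, conj_pow, hXY] at h
      rw [hz, h, inv_mul_cancel_left]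
    set w := δ⁻¹ * (A * δ * A⁻¹) with hw
    have hAδ : A * δ * A⁻¹ ∈ CM := hCMn.conj_mem δ hδC A
    have hwp : w ^ p = 1 := Cfsg.Agent.Lib.RankTwo.inv_mul_pow_eq_one hp hP hCMc hδC hAδ (by
      rw [conj_pow, hδp, Subgroup.mem_center_iff.mp hzc A, mul_inv_cancel_right])
    have hwE : w ∈ Ep := hΩM w (CM.mul_mem (CM.inv_mem hδC) hAδ : w ∈ CM).1 hwp
    set ε := w⁻¹ * (A * w * A⁻¹) with hε
    have hεE : ε ∈ Ep := Ep.mul_mem (Ep.inv_mem hwE) (hEpn.conj_mem w hwE A)
    have hεc : ε ∈ Subgroup.center P := by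
      have e : ε = ⁅w⁻¹, A⁆ := diff_eq_commutator w A
      rw [e]
      exact Cfsg.Agent.Lib.RankTwo.commutator_mem_center hP Ep hEpc (Ep.inv_mem hwE) A
    have hεcomm : ∀ g, Commute ε g := fun g => (Subgroup.mem_center_iff.mp hεc g).symm
    have hit := Cfsg.Agent.Lib.RankTwo.iterate (d := X) (f := δ) (η := w) (ε := ε) (x := A⁻¹)
      (move_diff X A) (move_diff δ A) (move_diff w A) (hεcomm A⁻¹).eq (hcm δ hδC w hwE).symm
      (hεcomm δ).symm (hεcomm w).symm p
    rw [inv_pow, hAp, inv_one, mul_one, one_mul, hδp,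
      Cfsg.Agent.Lib.RankTwo.pow_of_dvd (hEpp w hwE) (Cfsg.Agent.Lib.RankTwo.dvd_choose hp), mul_one,
      mul_assoc, left_eq_mul] at hit
    have hp3 : p = 3 := by
      by_contra h3
      rw [Cfsg.Agent.Lib.RankTwo.pow_of_dvd (hEpp ε hεE) (Cfsg.Agent.Lib.RankTwo.dvd_choose_three hp h3),
        mul_one] at hit
      exact hz1 hit
    refine ⟨hp3, ?_⟩
    have hAM : A ∉ M := by
      rw [hMdef, show ι = SemidirectProduct.inl from rfl, SemidirectProduct.range_inl_eq_ker_rightHom,
        MonoidHom.mem_ker]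
      intro h
      have h1 : a = 1 := congrArg Subtype.val ((SemidirectProduct.rightHom_inr _).symm.trans h)
      rw [h1, orderOf_one] at ha
      exact hp'.ne_one ha.symm
    have hc2 := Cfsg.Agent.Lib.RankTwo.card_centralizer_eq_sq hP hMi hEM hEpc hΩM hEpp hAM
      ⟨Y, hYE, fun h => hz1 (by rw [hz, ← h.eq, mul_inv_cancel_right, inv_mul_cancel])⟩ hzE hz1
      (Subgroup.mem_center_iff.mp hzc A).symm (fun u hu huA hup => by
        obtain ⟨t, rfl⟩ := hu
        have htE : t ^ p ∈ E := by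
          obtain ⟨e, he, hte⟩ := hzE
          rw [← hte, ← map_pow] at hup
          exact hιi hup ▸ he
        have htC : ι t ∈ CM := hroot t htE
        have he := Cfsg.Agent.Lib.RankTwo.inv_mul_pow_eq_one hp hP hCMc htC hδC (by rw [hup, hδp])
        set e := (ι t)⁻¹ * δ with hedef
        have heC : e ∈ CM := CM.mul_mem (CM.inv_mem htC) hδC
        have heE : e ∈ Ep := hΩM e (Subgroup.mem_inf.mp heC).1 he
        have hwe : w = ⁅e⁻¹, A⁆ := conj_split (ι t) δ A (by rw [← huA.eq, mul_inv_cancel_right])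
        have hwc : w ∈ Subgroup.center P := hwe ▸
          Cfsg.Agent.Lib.RankTwo.commutator_mem_center hP Ep hEpc (Ep.inv_mem heE) A
        have hε1 : ε = 1 := by
          rw [hε, Subgroup.mem_center_iff.mp hwc A, mul_inv_cancel_right, inv_mul_cancel]
        rw [hε1, one_pow, mul_one] at hit
        exact hz1 hit)
    have hne := Cfsg.Agent.Lib.RankTwo.lowerCentralSeries_ne_bot_of_centralizer (m + 1) hPc A hc2
    have hbot := Cfsg.Agent.Lib.RankTwo.lowerCentralSeries_eq_bot (p := p) (show 2 ≤ m + 1 by omega) hPc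
    rw [Subgroup.lowerCentralSeries_eq_bot_iff_nilpotencyClass_le] at hbot
    rw [Ne, Subgroup.lowerCentralSeries_eq_bot_iff_nilpotencyClass_le] at hne
    show Group.nilpotencyClass P = m
    omega
  · rintro ⟨rfl, hcl⟩
    change Group.nilpotencyClass P = m at hcl
    by_contra hcon
    push Not at hcon
    have hfix : ∀ e ∈ E, a e = e := fun e he => by
      by_cases he1 : e = 1
      · rw [he1, map_one]
      · exact hcon e (orderOf_eq_prime (hEp e he) he1)
    have hne : (⊤ : Subgroup P).lowerCentralSeries (m + 1 - 2) ≠ ⊥ := by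
      rw [Ne, Subgroup.lowerCentralSeries_eq_bot_iff_nilpotencyClass_le]
      omega
    obtain ⟨hz, hq, hne'⟩ := Cfsg.Agent.Lib.RankTwo.maxClass_center (by omega) hPc hne
    have hq2 := (Cfsg.Agent.Lib.RankTwo.maxClass_center (by omega : 3 ≤ m + 1 - 1) hq
      (by rw [show m + 1 - 1 - 2 = m + 1 - 3 by omega]; exact hne')).1
    obtain ⟨N, hNn, hNc, hQc⟩ := hmc
    haveI := hNn
    have hcN : commutator L ≤ N := by
      obtain ⟨g, hg⟩ := hQc.exists_generator
      refine hNn.quotient_commutative_iff_commutator_le.mp ⟨⟨fun u v => ?_⟩⟩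
      obtain ⟨i, rfl⟩ := Subgroup.mem_zpowers_iff.mp (hg u)
      obtain ⟨j, rfl⟩ := Subgroup.mem_zpowers_iff.mp (hg v)
      rw [← zpow_add, ← zpow_add, add_comm]
    haveI : IsCyclic ↥(commutator L) := isCyclic_of_injective (Subgroup.inclusion hcN)
      (Subgroup.inclusion_injective _)
    obtain ⟨⟨γ, hγD⟩, hγ⟩ := IsCyclic.exists_generator (α := ↥(commutator L))
    have hDγ : commutator L = Subgroup.zpowers γ := by
      refine le_antisymm (fun u hu => ?_) (Subgroup.zpowers_le.mpr hγD)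
      obtain ⟨k, hk⟩ := Subgroup.mem_zpowers_iff.mp (hγ ⟨u, hu⟩)
      exact Subgroup.mem_zpowers_iff.mpr ⟨k, congrArg Subtype.val hk⟩
    have hDn : ((commutator L).map ι).Normal := by
      have e : (commutator L).map ι = ⁅M, M⁆ := by
        rw [commutator_def, Subgroup.map_commutator, ← MonoidHom.range_eq_map]
      rw [e]
      infer_instance
    have hγ3 : γ ^ 3 = 1 := by
      by_contra hne3
      obtain ⟨j, hj⟩ := IsPGroup.iff_orderOf.mp hL γ
      have hj2 : 2 ≤ j := by
        by_contra hj2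
        exact hne3 (orderOf_dvd_iff_pow_eq_one.mp (hj ▸ (by
          conv_rhs => rw [← pow_one 3]
          exact pow_dvd_pow 3 (by omega))))
      set c := γ ^ 3 ^ (j - 2) with hc
      have hco : orderOf c = 3 ^ 2 := by
        rw [hc, orderOf_pow_of_dvd (pow_ne_zero _ (by norm_num)) (hj ▸ pow_dvd_pow 3 (Nat.sub_le _ _)), hj,
          Nat.pow_div (Nat.sub_le _ _) (by norm_num), show j - (j - 2) = 2 by omega]
      haveI hCn : (Subgroup.zpowers (ι c)).Normal := ⟨fun w hw g => by
        obtain ⟨k, rfl⟩ := Subgroup.mem_zpowers_iff.mp hw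
        rw [← conj_zpow]
        refine zpow_mem ?_ k
        have h1 : g * ι γ * g⁻¹ ∈ (commutator L).map ι := hDn.conj_mem _ ⟨γ, hγD, rfl⟩ g
        obtain ⟨v, hv, hv'⟩ := h1
        rw [hDγ] at hv
        obtain ⟨r, rfl⟩ := Subgroup.mem_zpowers_iff.mp hv
        rw [hc, map_pow, ← conj_pow, ← hv', map_zpow, ← zpow_natCast (ι γ ^ r), ← zpow_mul, mul_comm r, zpow_mul,
          zpow_natCast]
        exact zpow_mem (Subgroup.mem_zpowers _) _⟩
      have hCc : Nat.card (Subgroup.zpowers (ι c)) = 3 ^ 2 := by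
        rw [Nat.card_zpowers, orderOf_injective ι hιi, hco]
      have hCE : Subgroup.zpowers (ι c) = Ep := normal_sq_le hP hz hq2 _ _ hCc hEpc
      have h3 : c ^ 3 = 1 := hιi (by
        rw [map_pow, map_one]; exact hEpp _ (hCE ▸ Subgroup.mem_zpowers _))
      have := hco ▸ orderOf_dvd_of_pow_eq_one h3
      norm_num at this
    have hDZ : commutator L ≤ Subgroup.center L := Cfsg.Agent.Lib.RankTwo.le_center_of_card_le hL (by
      rw [hDγ, Nat.card_zpowers]; exact Nat.le_of_dvd (by norm_num) (orderOf_dvd_of_pow_eq_one hγ3))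
    have hEZ : ∀ e ∈ E, ∀ g : L, g * e = e * g := by
      intro e he g
      obtain ⟨x, rfl⟩ := hroots e he
      have hmem : ⁅g, x⁆ ∈ commutator L :=
        Subgroup.commutator_mem_commutator (Subgroup.mem_top g) (Subgroup.mem_top x)
      have h3 : ⁅g, x⁆ ^ 3 = 1 := by
        rw [hDγ] at hmem
        obtain ⟨k, hk⟩ := Subgroup.mem_zpowers_iff.mp hmem
        rw [← hk, ← zpow_natCast, ← zpow_mul, mul_comm, zpow_mul, zpow_natCast, hγ3, one_zpow]
      have h1 : g * x * g⁻¹ = ⁅g, x⁆ * x := by rw [commutatorElement_def]; group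
      have h2 : g * x ^ 3 * g⁻¹ = x ^ 3 := by
        rw [← conj_pow, h1, (show Commute ⁅g, x⁆ x from
          (Subgroup.mem_center_iff.mp (hDZ hmem) x).symm).mul_pow, h3, one_mul]
      exact mul_inv_eq_iff_eq_mul.mp h2
    have hEpZ : Ep ≤ Subgroup.center P := by
      rintro _ ⟨e, he, rfl⟩
      refine Subgroup.mem_center_iff.mpr fun g => ?_
      rw [← SemidirectProduct.inl_left_mul_inr_right g]
      refine Commute.mul_left (show Commute (ι g.left) (ι e) from (show Commute g.left e from hEZ e he g.left).map ι) ?_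
      obtain ⟨k, hk⟩ := Subgroup.mem_zpowers_iff.mp g.right.2
      have hk' : g.right = (⟨a, Subgroup.mem_zpowers a⟩ : ↥(Subgroup.zpowers a)) ^ k := Subtype.ext (by simp [hk])
      rw [hk', map_zpow]
      refine Commute.zpow_left ?_ k
      show A * ι e = ι e * A
      rw [← mul_inv_eq_iff_eq_mul, hAι, hfix e he]
    have := Subgroup.card_le_of_le hEpZ
    rw [hEpc, hz] at this
    norm_num at this

end Cfsg.Agent.S4079
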