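import Cfsg.Statements.S4080
import Mathlib.GroupTheory.OrderOfElement
import Mathlib.GroupTheory.PGroup
import Mathlib.Tactic.Abel

set_option autoImplicit false
open Cfsg

namespace Cfsg.Agent.S4080

variable {A : Type*} [AddCommGroup A]

theorem iterate_expansion (α : A ≃+ A) (δ : A →+ A) (hδ : ∀ x, α x = x + δ x) (m : ℕ) (x : A) :
    (α^[m]) x = ∑ i ∈ Finset.range (m + 1), (m.choose i) • (δ^[i]) x := by
  induction m with
  | zero => simp
  | succ m ih =>
    rw [Function.iterate_succ_apply', ih, hδ, map_sum]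
    simp only [map_nsmul, ← Function.iterate_succ_apply' (f := δ)]
    have e : ∑ i ∈ Finset.range (m + 1), (m.choose i) • (δ^[i]) x =
        x + ∑ i ∈ Finset.range (m + 1), (m.choose (i + 1)) • (δ^[i + 1]) x := by
      rw [Finset.sum_range_succ' (fun i => (m.choose i) • (δ^[i]) x) m,
        Finset.sum_range_succ (fun i => (m.choose (i + 1)) • (δ^[i + 1]) x) m]
      simp [add_comm]
    rw [e, Finset.sum_range_succ' (fun i => ((m + 1).choose i) • (δ^[i]) x) (m + 1), add_assoc,
      ← Finset.sum_add_distrib]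
    simp [Nat.choose_succ_succ, add_nsmul, add_comm]

/-- Let p > 3 be a prime and L the direct product of two cyclic groups of order p². Every automorphism of L of order p fixes every element of order p of L. -/
theorem result {p : ℕ} [Fact p.Prime] (hp : 3 < p)
    (a : MulAut (Multiplicative (ZMod (p ^ 2) × ZMod (p ^ 2)))) (ha : orderOf a = p)
    (x : Multiplicative (ZMod (p ^ 2) × ZMod (p ^ 2))) (hx : orderOf x = p) : a x = x := by
  have hp' : p.Prime := Fact.out
  haveI : NeZero (p ^ 2) := ⟨pow_ne_zero _ hp'.ne_zero⟩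
  let V := ZMod (p ^ 2) × ZMod (p ^ 2)
  let α : V ≃+ V :=
    { toFun := fun v => (a (Multiplicative.ofAdd v)).toAdd
      invFun := fun v => (a.symm (Multiplicative.ofAdd v)).toAdd
      left_inv := fun v => by simp
      right_inv := fun v => by simp
      map_add' := fun u v => by simp }
  let δ : V →+ V := α.toAddMonoidHom - AddMonoidHom.id V
  have hδ : ∀ v, α v = v + δ v := fun v => by simp [δ]
  have hαp : ∀ v, (α^[p]) v = v := by
    intro v
    have hit : ∀ j : ℕ, (α^[j]) v = ((a ^ j) (Multiplicative.ofAdd v)).toAdd := by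
      intro j
      induction j with
      | zero => rfl
      | succ j ih =>
        rw [Function.iterate_succ_apply', ih, pow_succ' a j, MulAut.mul_apply]
        rfl
    rw [hit, (congrArg (fun n : ℕ => a ^ n) ha).symm.trans (pow_orderOf_eq_one a)]
    rfl
  have hsq : ∀ v : V, (p ^ 2) • v = 0 := fun v => by
    refine Prod.ext ?_ ?_
    · show (p ^ 2) • v.1 = 0
      rw [nsmul_eq_mul, ZMod.natCast_self, zero_mul]
    · show (p ^ 2) • v.2 = 0
      rw [nsmul_eq_mul, ZMod.natCast_self, zero_mul]
  -- elements killed by `p` are multiples of `p`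
  have hdiv : ∀ v : V, p • v = 0 → ∃ u : V, p • u = v := by
    have h1 : ∀ c : ZMod (p ^ 2), p • c = 0 → ∃ d : ZMod (p ^ 2), p • d = c := by
      intro c hc
      have h2 : ((p * c.val : ℕ) : ZMod (p ^ 2)) = 0 := by
        rw [Nat.cast_mul, ZMod.natCast_zmod_val, ← nsmul_eq_mul, hc]
      rw [ZMod.natCast_eq_zero_iff] at h2
      obtain ⟨d, hd⟩ := Nat.dvd_of_mul_dvd_mul_left hp'.pos ((dvd_of_eq (sq p).symm).trans h2)
      exact ⟨(d : ZMod (p ^ 2)), by rw [nsmul_eq_mul, ← Nat.cast_mul, ← hd, ZMod.natCast_zmod_val]⟩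
    rintro ⟨c₁, c₂⟩ h
    obtain ⟨d₁, hd₁⟩ := h1 c₁ (congrArg Prod.fst h)
    obtain ⟨d₂, hd₂⟩ := h1 c₂ (congrArg Prod.snd h)
    exact ⟨(d₁, d₂), Prod.ext hd₁ hd₂⟩
  -- the torsion part
  let T : AddSubgroup V := (nsmulAddMonoidHom (α := V) p).ker
  have hT : ∀ v, v ∈ T ↔ p • v = 0 := fun v => Iff.rfl
  have hδT : ∀ v ∈ T, δ v ∈ T := fun v hv => by
    rw [hT] at hv ⊢
    rw [← map_nsmul, hv, map_zero]
  have hTcard : Nat.card T ∣ p ^ 2 := by
    have h1 : Nat.card T * (nsmulAddMonoidHom (α := V) p).ker.index = Nat.card V :=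
      AddSubgroup.card_mul_index _
    have hV : Nat.card V = p ^ 2 * p ^ 2 := by
      rw [Nat.card_prod, Nat.card_zmod]
    have h2 : p ^ 2 ≤ (nsmulAddMonoidHom (α := V) p).ker.index := by
      rw [AddSubgroup.index_ker]
      let f : Fin p × Fin p → (nsmulAddMonoidHom (α := V) p).range := fun u =>
        ⟨p • (((u.1.val : ZMod (p ^ 2))), ((u.2.val : ZMod (p ^ 2)))), ⟨_, rfl⟩⟩
      have hf : Function.Injective f := by
        intro u w h
        have h' := congrArg Subtype.val h
        have hh1 := congrArg Prod.fst h'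
        have hh2 := congrArg Prod.snd h'
        simp only [f, Prod.smul_mk, nsmul_eq_mul, ← Nat.cast_mul] at hh1 hh2
        have hlt : ∀ i : Fin p, p * i.val < p ^ 2 := fun i => by
          rw [sq]; exact Nat.mul_lt_mul_of_pos_left i.isLt hp'.pos
        rw [ZMod.natCast_eq_natCast_iff', Nat.mod_eq_of_lt (hlt _), Nat.mod_eq_of_lt (hlt _)] at hh1 hh2
        exact Prod.ext (Fin.ext (Nat.eq_of_mul_eq_mul_left hp'.pos hh1))
          (Fin.ext (Nat.eq_of_mul_eq_mul_left hp'.pos hh2))
      have := Nat.card_le_card_of_injective f hf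
      simpa [sq] using this
    have h3 : Nat.card T ∣ p ^ 4 := by
      refine Dvd.intro _ (h1.trans ?_)
      rw [hV, ← pow_add]
    obtain ⟨j, -, hj⟩ := (Nat.dvd_prime_pow hp').mp h3
    rw [hj]
    refine pow_dvd_pow p ?_
    by_contra hlt
    have : p ^ 3 ≤ p ^ j := Nat.pow_le_pow_right hp'.pos (by omega)
    have h5 : p ^ 3 * p ^ 2 ≤ p ^ 2 * p ^ 2 := by
      rw [← hV, ← h1, hj]; exact Nat.mul_le_mul this h2
    have h6 : p ^ 3 ≤ p ^ 2 := Nat.le_of_mul_le_mul_right h5 (pow_pos hp'.pos 2)
    exact absurd ((Nat.pow_le_pow_iff_right hp'.one_lt).mp h6) (by norm_num)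
  -- `δ` is nilpotent on the torsion part
  have hnil : ∀ v ∈ T, δ (δ v) = 0 := by
    let δT : T →+ T := (δ.comp T.subtype).codRestrict T fun v => hδT v v.2
    have hδTv : ∀ (j : ℕ) (v : T), ((δT^[j]) v : V) = (δ^[j]) (v : V) := by
      intro j
      induction j with
      | zero => intro v; rfl
      | succ j ih => intro v; rw [Function.iterate_succ_apply', Function.iterate_succ_apply', ← ih]; rfl
    have hδp : ∀ v : T, (δT^[p]) v = 0 := by
      intro v
      apply Subtype.ext
      rw [hδTv]
      have h := iterate_expansion α δ hδ p v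
      rw [hαp, Finset.sum_range_succ, Finset.sum_eq_single 0] at h
      · simpa using h
      · intro i hi hi0
        obtain ⟨c, hc⟩ := hp'.dvd_choose_self hi0 (Finset.mem_range.mp hi)
        rw [hc, mul_comm, mul_nsmul']
        have hz : p • (δ^[i]) (v : V) = 0 := by
          rw [← hδTv]; exact ((δT^[i]) v).2
        rw [hz, smul_zero]
      · intro h0; exact absurd (Finset.mem_range.mpr hp'.pos) h0
    have hne : ∀ S : AddSubgroup T, S ≠ ⊥ → (∀ s ∈ S, ∃ s' ∈ S, δT s' = s) → False := by
      intro S hS hSsurj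
      obtain ⟨s, hs, hs0⟩ := S.bot_or_exists_ne_zero.resolve_left hS
      have : ∀ j, ∃ u ∈ S, (δT^[j]) u = s := by
        intro j
        induction j with
        | zero => exact ⟨s, hs, rfl⟩
        | succ j ih =>
          obtain ⟨u, hu, hus⟩ := ih
          obtain ⟨u', hu', hu''⟩ := hSsurj u hu
          exact ⟨u', hu', by rw [Function.iterate_succ_apply, hu'', hus]⟩
      obtain ⟨u, -, hus⟩ := this p
      exact hs0 (by rw [← hus, hδp])
    have hstep : ∀ (S : AddSubgroup T) (j : ℕ), S.map δT ≤ S → Nat.card S ∣ p ^ (j + 1) →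
        Nat.card (S.map δT) ∣ p ^ j := by
      intro S j hsub hS
      obtain ⟨i, hi, hSi⟩ := (Nat.dvd_prime_pow hp').mp hS
      have h1 := AddSubgroup.card_dvd_of_le hsub
      rw [hSi] at h1
      obtain ⟨i', hi', hi''⟩ := (Nat.dvd_prime_pow hp').mp h1
      rw [hi'']
      refine pow_dvd_pow p ?_
      by_contra hlt
      by_cases hS0 : S = ⊥
      · subst hS0
        rw [AddSubgroup.map_bot, AddSubgroup.card_bot, eq_comm, Nat.pow_eq_one] at hi''
        exact absurd (hi''.resolve_left hp'.ne_one) (by omega)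
      refine hne S hS0 fun s hs => ?_
      have hii : i' = i := by omega
      have heq : S.map δT = S := AddSubgroup.eq_of_le_of_card_ge hsub (by rw [hi'', hSi, hii])
      rw [← heq] at hs
      obtain ⟨u, hu, rfl⟩ := hs
      exact ⟨u, hu, rfl⟩
    intro v hv
    set S₁ := (⊤ : AddSubgroup T).map δT with hS₁
    have h1 : Nat.card S₁ ∣ p ^ 1 := hstep ⊤ 1 le_top (by rw [AddSubgroup.card_top]; exact hTcard)
    have h2 : Nat.card (S₁.map δT) ∣ p ^ 0 := hstep S₁ 0
      (AddSubgroup.map_mono le_top) h1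
    have hbot : S₁.map δT = ⊥ := AddSubgroup.eq_bot_of_card_eq _ (Nat.dvd_one.mp (by simpa using h2))
    have hmem : δT (δT ⟨v, hv⟩) ∈ S₁.map δT :=
      ⟨δT ⟨v, hv⟩, ⟨⟨v, hv⟩, trivial, rfl⟩, rfl⟩
    rw [hbot, AddSubgroup.mem_bot] at hmem
    exact congrArg Subtype.val hmem
  -- expand `α ^ p = 1`
  have hk : ∀ v : V, p • δ v = 0 := by
    intro v
    have hpd : p • δ (δ v) = 0 := by
      have h := hnil (p • v) (by rw [hT, ← mul_smul, ← sq, hsq])
      rwa [map_nsmul, map_nsmul] at h
    have h4 : δ (δ (δ (δ v))) = 0 := hnil _ hpd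
    have hhigh : ∀ i, 4 ≤ i → (δ^[i]) v = 0 := by
      intro i hi
      induction i, hi using Nat.le_induction with
      | base => exact h4
      | succ i _ ih => rw [Function.iterate_succ_apply', ih, map_zero]
    have h := iterate_expansion α δ hδ p v
    rw [hαp, Finset.sum_range_succ', Finset.sum_eq_single 0] at h
    · simp only [Function.iterate_one, zero_add, Nat.choose_one_right, Nat.choose_zero_right,
        one_nsmul, Function.iterate_zero, id_eq] at h
      exact left_eq_add.mp (h.trans (add_comm _ _))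
    · intro i hi hi0
      rcases Nat.lt_or_ge (i + 1) 4 with hlt | hge
      · obtain ⟨c, hc⟩ := hp'.dvd_choose_self (Nat.succ_ne_zero i) (by omega : i + 1 < p)
        rw [hc, mul_nsmul]
        have hz : p • (δ^[i + 1]) v = 0 := by
          obtain ⟨i', rfl⟩ : ∃ i', i = i' + 1 := ⟨i - 1, by omega⟩
          have : ∀ j, p • (δ^[j + 2]) v = 0 := by
            intro j
            induction j with
            | zero => exact hpd
            | succ j ih => rw [Function.iterate_succ_apply', ← map_nsmul, ih, map_zero]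
          exact this i'
        rw [hz, smul_zero]
      · rw [hhigh _ hge, smul_zero]
    · intro h0; exact absurd (Finset.mem_range.mpr hp'.pos) h0
  let v : V := x.toAdd
  have hpv : p • v = 0 := by
    have := pow_orderOf_eq_one x
    rw [hx] at this
    exact congrArg Multiplicative.toAdd this
  obtain ⟨u, hu⟩ := hdiv v hpv
  have : α v = v := by
    rw [hδ, ← hu, map_nsmul, hk, add_zero]
  exact congrArg Multiplicative.ofAdd this

end Cfsg.Agent.S4080
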