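import Cfsg.Statements.S4081
import Cfsg.Agent.Lib.Frobenius.UniqueSubgroup
import Cfsg.Agent.Lib.Frobenius.Complement
import Cfsg.Agent.Lib.Characters.Burnside
import Cfsg.Agent.Lib.Cores.Fitting
import Mathlib.RingTheory.AdjoinRoot
import Mathlib.RingTheory.Polynomial.Cyclotomic.Factorization
import Mathlib.LinearAlgebra.Dimension.Free
import Mathlib.LinearAlgebra.Dual.Lemmas
import Mathlib.GroupTheory.SemidirectProduct
import Mathlib.GroupTheory.SchurZassenhaus
import Mathlib.Algebra.Module.ZMod

set_option autoImplicit false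
open Cfsg

namespace Cfsg.Agent.S4081

open Polynomial

section Linear

variable {p q : ℕ} [Fact p.Prime] [Fact q.Prime] {V : Type*} [AddCommGroup V] [Module (ZMod p) V]
  [Finite V]

theorem map_aeval_apply (T : Module.End (ZMod p) V) (A : V ≃+ V) (i : ℕ)
    (h : ∀ v, A (T v) = (T ^ i) (A v)) (g : (ZMod p)[X]) (v : V) :
    A (aeval T g v) = aeval T (g.comp (X ^ i)) (A v) := by
  rw [aeval_comp, map_pow, aeval_X]
  induction g using Polynomial.induction_on' with
  | add a b ha hb => simp [map_add, LinearMap.add_apply, ha, hb]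
  | monomial k c =>
    have hk : ∀ (k : ℕ) (v : V), A ((T ^ k) v) = ((T ^ i) ^ k) (A v) := by
      intro k
      induction k with
      | zero => intro v; simp
      | succ k ih => intro v; rw [pow_succ, pow_succ, Module.End.mul_apply, Module.End.mul_apply, ih, h]
    simp only [aeval_monomial, Module.End.mul_apply, Module.algebraMap_end_apply]
    rw [ZMod.map_smul, hk]

/-- A transitive situation forces the order of `p` modulo `q` to be `q - 1`. -/
theorem orderOf_eq_of_transitive [Nontrivial V] (hpq : p ≠ q) (T : Module.End (ZMod p) V)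
    (hT : T ^ q = 1) (hfix : ∀ v, T v = v → v = 0)
    (hA : ∀ i : ℕ, 0 < i → i < q → ∃ A : V ≃+ V, ∀ v, A (T v) = (T ^ i) (A v))
    (hS : ∀ v w : V, v ≠ 0 → w ≠ 0 → ∃ (A : V ≃+ V) (i : ℕ), (∀ u, A (T u) = (T ^ i) (A u)) ∧ A v = w) :
    orderOf (p : ZMod q) = q - 1 := by
  classical
  let R : V → Set V := fun v => Set.range fun g : (ZMod p)[X] => aeval T g v
  have hRle : ∀ v w : V, v ≠ 0 → w ≠ 0 → (R v).ncard ≤ (R w).ncard := by
    intro v w hv hw
    obtain ⟨A, i, hAi, hAv⟩ := hS v w hv hw
    rw [← Set.ncard_image_of_injective (R v) A.injective]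
    refine Set.ncard_le_ncard ?_ (Set.toFinite _)
    rintro _ ⟨_, ⟨g, rfl⟩, rfl⟩
    exact ⟨g.comp (X ^ i), by show aeval T (g.comp (X ^ i)) w = _; rw [map_aeval_apply T A i hAi, hAv]⟩
  have hirr : ∀ (g : (ZMod p)[X]) (v : V), aeval T g v ≠ 0 → ∃ h : (ZMod p)[X], aeval T h (aeval T g v) = v := by
    intro g v hgv
    have hv : v ≠ 0 := fun h => hgv (by rw [h, map_zero])
    have hsub : R (aeval T g v) ⊆ R v := by
      rintro _ ⟨h, rfl⟩
      exact ⟨h * g, by simp [map_mul, Module.End.mul_apply]⟩
    have heq := Set.eq_of_subset_of_ncard_le hsub (hRle v _ hv hgv) (Set.toFinite _)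
    have hmem : v ∈ R v := ⟨1, by simp⟩
    rw [← heq] at hmem
    exact hmem
  have hcomm : ∀ (g h : (ZMod p)[X]) (v : V), aeval T g (aeval T h v) = aeval T h (aeval T g v) := by
    intro g h v
    rw [← Module.End.mul_apply, ← Module.End.mul_apply, ← map_mul, ← map_mul, mul_comm]
  have hann : ∀ (g : (ZMod p)[X]) (v w : V), v ≠ 0 → aeval T g v = 0 → aeval T g w = 0 := by
    intro g v w hv hgv
    by_contra hgw
    obtain ⟨h, hh⟩ := hirr g (v + w) (by rw [map_add, hgv, zero_add]; exact hgw)
    rw [map_add, hgv, zero_add] at hh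
    have hvR : v = aeval T (h * g - 1) w := by
      simp only [map_sub, map_mul, map_one, LinearMap.sub_apply, Module.End.mul_apply, Module.End.one_apply]
      rw [hh, add_sub_cancel_right]
    obtain ⟨l, hl⟩ := hirr (h * g - 1) w (by rw [← hvR]; exact hv)
    rw [← hvR] at hl
    refine hgw ?_
    rw [← hl, hcomm, hgv, map_zero]
  have hint : IsIntegral (ZMod p) T := Algebra.IsIntegral.isIntegral T
  set f := minpoly (ZMod p) T with hf
  have hfirr : Irreducible f := by
    refine ⟨minpoly.not_isUnit _ _, fun a b hab => ?_⟩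
    have h0 : f ≠ 0 := minpoly.ne_zero hint
    by_cases hb : aeval T b = 0
    · obtain ⟨c, hc⟩ := minpoly.dvd (ZMod p) T hb
      rw [← hf] at hc
      refine Or.inl (IsUnit.of_mul_eq_one c (mul_left_cancel₀ h0 ?_))
      rw [mul_one]
      calc f * (a * c) = a * (f * c) := by ring
        _ = f := by rw [← hc, ← hab]
    · obtain ⟨v, hv⟩ : ∃ v, aeval T b v ≠ 0 := by
        by_contra hc
        push Not at hc
        exact hb (LinearMap.ext hc)
      have hab0 : aeval T a (aeval T b v) = 0 := by
        rw [← Module.End.mul_apply, ← map_mul, ← hab, hf, minpoly.aeval]; rfl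
      have ha : aeval T a = 0 := LinearMap.ext fun w => hann a _ w hv hab0
      obtain ⟨c, hc⟩ := minpoly.dvd (ZMod p) T ha
      rw [← hf] at hc
      refine Or.inr (IsUnit.of_mul_eq_one c (mul_left_cancel₀ h0 ?_))
      rw [mul_one]
      calc f * (b * c) = (f * c) * b := by ring
        _ = f := by rw [← hc, ← hab]
  have hdvdq : f ∣ X ^ q - 1 := minpoly.dvd _ _ (by simp [hT])
  have hcyc : f ∣ cyclotomic q (ZMod p) := by
    refine minpoly.dvd _ _ ?_
    refine LinearMap.ext fun v => ?_
    refine sub_eq_zero.mp ?_ |> fun h => h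
    rw [LinearMap.zero_apply, sub_zero]
    have h1 : aeval T ((X - 1) * cyclotomic q (ZMod p)) = 0 := by
      rw [cyclotomic_prime, mul_geom_sum]; simp [hT]
    apply hfix
    rw [← sub_eq_zero]
    have h2 := LinearMap.congr_fun h1 v
    rw [map_mul, Module.End.mul_apply] at h2
    simpa [map_sub] using h2
  haveI : Fact (Irreducible f) := ⟨hfirr⟩
  set r := AdjoinRoot.root f
  have hev : ∀ g : (ZMod p)[X], f ∣ g → aeval r g = 0 := by
    intro g hg
    rw [AdjoinRoot.aeval_eq, AdjoinRoot.mk_eq_zero]
    exact hg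
  have hrq : r ^ q = 1 := by
    have h1 := hev _ hdvdq
    rw [map_sub, map_pow, aeval_X, map_one, sub_eq_zero] at h1
    exact h1
  have hr1 : r ≠ 1 := by
    intro h1
    have h2 : f ∣ X - 1 := by
      rw [← AdjoinRoot.mk_eq_zero, map_sub, AdjoinRoot.mk_X, map_one, sub_eq_zero]
      exact h1
    obtain ⟨c, hc⟩ := h2
    have h3 : aeval T (X - 1 : (ZMod p)[X]) = 0 := by rw [hc, map_mul, hf, minpoly.aeval, zero_mul]
    obtain ⟨v, hv⟩ := exists_ne (0 : V)
    refine hv (hfix v ?_)
    have h4 := LinearMap.congr_fun h3 v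
    simpa [sub_eq_zero] using h4
  have hord : orderOf r = q := orderOf_eq_prime hrq hr1
  have hroots : q - 1 ≤ f.natDegree := by
    have hmon : f.Monic := minpoly.monic hint
    let Z := (Finset.Ico 1 q).image fun i => r ^ i
    have hZ : Z.card = q - 1 := by
      rw [Finset.card_image_of_injOn, Nat.card_Ico]
      intro a ha b hb hab
      simp only [Finset.coe_Ico, Set.mem_Ico] at ha hb
      exact pow_injOn_Iio_orderOf (by rw [hord]; exact ha.2) (by rw [hord]; exact hb.2) hab
    rw [← hZ, ← natDegree_map (algebraMap (ZMod p) (AdjoinRoot f))]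
    refine card_le_degree_of_subset_roots fun z hz => ?_
    obtain ⟨i, hi, rfl⟩ := Finset.mem_image.mp (Finset.mem_val.mp hz)
    rw [Finset.mem_Ico] at hi
    rw [mem_roots (map_ne_zero hmon.ne_zero), IsRoot.def, eval_map, ← aeval_def]
    obtain ⟨A, hA'⟩ := hA i hi.1 hi.2
    have h1 : f ∣ f.comp (X ^ i) := by
      refine minpoly.dvd _ _ (LinearMap.ext fun v => ?_)
      obtain ⟨u, rfl⟩ := A.surjective v
      rw [← map_aeval_apply T A i hA', hf, minpoly.aeval, LinearMap.zero_apply, map_zero]
      rfl
    have h2 := hev _ h1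
    rwa [aeval_comp, map_pow, aeval_X] at h2
  have hcop : p.Coprime q := (Nat.coprime_primes Fact.out Fact.out).mpr hpq
  have hdeg := natDegree_of_dvd_cyclotomic_of_irreducible (K := ZMod p) (p := p) (f := 1) (n := q)
    (by simp) (by simpa using hcop) hcyc hfirr
  have hordu : orderOf (p : ZMod q) = f.natDegree := by
    rw [hdeg, ← orderOf_units, ZMod.coe_unitOfCoprime, pow_one]
  refine le_antisymm ?_ (hordu ▸ hroots)
  refine Nat.le_of_dvd (by have := (Fact.out : q.Prime).two_le; omega) (orderOf_dvd_of_pow_eq_one ?_)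
  refine ZMod.pow_card_sub_one_eq_one fun h0 => ?_
  rw [ZMod.natCast_eq_zero_iff, Nat.prime_dvd_prime_iff_eq Fact.out Fact.out] at h0
  exact hpq h0.symm

/-- When `p` is a primitive root modulo `q`, there are many equivariant maps. -/
theorem exists_equiv_of_primitive (hpq : p ≠ q) (T : Module.End (ZMod p) V)
    (hT : T ^ q = 1) (hfix : ∀ v, T v = v → v = 0) (hord : orderOf (p : ZMod q) = q - 1) :
    (∀ v w : V, v ≠ 0 → w ≠ 0 → ∃ A : V ≃+ V, (∀ u, A (T u) = T (A u)) ∧ A v = w) ∧
    (∀ i : ℕ, ¬ q ∣ i → ∃ A : V ≃+ V, ∀ v, A (T v) = (T ^ i) (A v)) := by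
  classical
  set Φ := cyclotomic q (ZMod p) with hΦ
  have hΦT : aeval T Φ = 0 := by
    refine LinearMap.ext fun v => hfix _ ?_
    rw [← sub_eq_zero]
    have h1 : aeval T ((X - 1) * Φ) = 0 := by
      rw [hΦ, cyclotomic_prime, mul_geom_sum]; simp [hT]
    have h2 := LinearMap.congr_fun h1 v
    rw [map_mul, Module.End.mul_apply] at h2
    simpa [map_sub] using h2
  have hpq' : ¬ p ∣ q := fun h => hpq ((Nat.prime_dvd_prime_iff_eq Fact.out Fact.out).mp h)
  have hirr : Irreducible Φ := by
    refine ZMod.irreducible_of_dvd_cyclotomic_of_natDegree hpq' dvd_rfl ?_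
    rw [hΦ, natDegree_cyclotomic, Nat.totient_prime Fact.out, ← hord, ← orderOf_units, ZMod.coe_unitOfCoprime]
  haveI : Fact (Irreducible Φ) := ⟨hirr⟩
  let ψ : AdjoinRoot Φ →+* Module.End (ZMod p) V :=
    Ideal.Quotient.lift (Ideal.span {Φ}) (aeval T : (ZMod p)[X] →ₐ[ZMod p] _).toRingHom (by
      intro a ha
      obtain ⟨c, rfl⟩ := Ideal.mem_span_singleton.mp ha
      show aeval T (Φ * c) = 0
      rw [map_mul, hΦT, zero_mul])
  set r := AdjoinRoot.root Φ with hr
  have hψr : ψ r = T := by
    show aeval T X = T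
    rw [aeval_X]
  letI : Module (AdjoinRoot Φ) V := Module.compHom V ψ
  have hsmul : ∀ u : V, r • u = T u := fun u => by
    show ψ r u = T u
    rw [hψr]
  haveI : Module.Finite (AdjoinRoot Φ) V := Module.Finite.of_finite
  constructor
  · intro v w hv hw
    obtain ⟨φ, hφv, hφw⟩ : ∃ φ : V →ₗ[AdjoinRoot Φ] AdjoinRoot Φ, φ v ≠ 0 ∧ φ w ≠ 0 := by
      obtain ⟨φ1, h1⟩ : ∃ φ : V →ₗ[AdjoinRoot Φ] AdjoinRoot Φ, φ v ≠ 0 := by
        by_contra hc; push Not at hc
        exact hv ((Module.forall_dual_apply_eq_zero_iff (AdjoinRoot Φ) v).mp hc)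
      obtain ⟨φ2, h2⟩ : ∃ φ : V →ₗ[AdjoinRoot Φ] AdjoinRoot Φ, φ w ≠ 0 := by
        by_contra hc; push Not at hc
        exact hw ((Module.forall_dual_apply_eq_zero_iff (AdjoinRoot Φ) w).mp hc)
      by_cases h1w : φ1 w = 0
      · by_cases h2v : φ2 v = 0
        · exact ⟨φ1 + φ2, by simp [h1, h2v], by simp [h1w, h2]⟩
        · exact ⟨φ2, h2v, h2⟩
      · exact ⟨φ1, h1, h1w⟩
    let φ' := (φ v)⁻¹ • φ
    have hv1 : φ' v = 1 := by simp [φ', inv_mul_cancel₀ hφv]
    let L : V →ₗ[AdjoinRoot Φ] V := LinearMap.id + φ'.smulRight (w - v)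
    have hL : ∀ u, L u = u + φ' u • (w - v) := fun u => rfl
    have hinj : Function.Injective L := by
      rw [← LinearMap.ker_eq_bot, LinearMap.ker_eq_bot']
      intro u hu
      rw [hL] at hu
      have h1 := congrArg φ' hu
      rw [map_add, map_smul, map_sub, hv1, map_zero, smul_eq_mul] at h1
      have h2 : φ' u * φ' w = 0 := by linear_combination h1
      have hw' : φ' w ≠ 0 := by simp [φ', hφv, hφw]
      rw [(mul_eq_zero.mp h2).resolve_right hw', zero_smul, add_zero] at hu
      exact hu
    refine ⟨AddEquiv.ofBijective L.toAddMonoidHom ⟨hinj, Finite.surjective_of_injective hinj⟩,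
      fun u => ?_, ?_⟩
    · show L (T u) = T (L u)
      rw [← hsmul, map_smul, hsmul]
    · show L v = w
      rw [hL, hv1, one_smul, add_sub_cancel]
  · intro i hi
    haveI : NeZero ((q : ℕ) : AdjoinRoot Φ) := ⟨by
      rw [← map_natCast (AdjoinRoot.of Φ)]
      intro h0
      rw [map_eq_zero, ZMod.natCast_eq_zero_iff] at h0
      exact hpq' h0⟩
    have hroot : (X : (ZMod p)[X]) ^ q - 1 = (X - 1) * Φ := by rw [hΦ, cyclotomic_prime, mul_geom_sum]
    have hrprim : IsPrimitiveRoot r q := by
      rw [← isRoot_cyclotomic_iff, ← map_cyclotomic q (AdjoinRoot.of Φ), ← hΦ]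
      exact AdjoinRoot.isRoot_root Φ
    have hri : eval₂ (AdjoinRoot.of Φ) (r ^ i) Φ = 0 := by
      have h1 : IsPrimitiveRoot (r ^ i) q :=
        hrprim.pow_of_coprime i (Nat.Coprime.symm ((Fact.out : q.Prime).coprime_iff_not_dvd.mpr hi))
      have h2 := isRoot_cyclotomic_iff.mpr h1
      rw [← map_cyclotomic q (AdjoinRoot.of Φ), IsRoot.def, eval_map] at h2
      exact h2
    let σ : AdjoinRoot Φ →+* AdjoinRoot Φ := AdjoinRoot.lift (AdjoinRoot.of Φ) (r ^ i) hri
    have hσr : σ r = r ^ i := AdjoinRoot.lift_root hri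
    let b := (Module.finBasis (AdjoinRoot Φ) V).equivFun
    let F : V →+ V :=
      { toFun := fun u => b.symm fun k => σ (b u k)
        map_zero' := by simp; rfl
        map_add' := fun u u' => by
          rw [← map_add b.symm]
          congr 1
          funext k
          simp }
    have hinj : Function.Injective F := fun u u' h => b.injective (funext fun k =>
      σ.injective (congrFun (b.symm.injective h) k))
    refine ⟨AddEquiv.ofBijective F ⟨hinj, Finite.surjective_of_injective hinj⟩, fun u => ?_⟩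
    show b.symm (fun k => σ (b (T u) k)) = (T ^ i) (b.symm fun k => σ (b u k))
    rw [← hψr, ← map_pow]
    show b.symm (fun k => σ (b (r • u) k)) = r ^ i • b.symm (fun k => σ (b u k))
    rw [← map_smul b.symm]
    congr 1
    funext k
    simp [hσr]

end Linear

section Group

variable {G : Type*} [Group G] [Finite G] {p q : ℕ}

/-- An automorphism from an equivariant automorphism of a complemented normal subgroup. -/
theorem exists_mulAut (P : Subgroup G) [P.Normal] {x y : G} [Fact q.Prime]
    (hc : P.IsComplement' (Subgroup.zpowers x)) (hx : orderOf x = q) (hy : orderOf y = q) (hyP : y ∉ P)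
    (A : P ≃* P) (hA : ∀ v : P, (A (MulAut.conjNormal x v) : G) = y * (A v : G) * y⁻¹) :
    ∃ ψ : MulAut G, ψ x = y ∧ ∀ v : P, ψ (v : G) = (A v : G) := by
  set H := Subgroup.zpowers x with hH
  let g : H := ⟨x, Subgroup.mem_zpowers x⟩
  have hg : ∀ h : H, h ∈ Subgroup.zpowers g := by
    rintro ⟨h, k, rfl⟩
    exact ⟨k, Subtype.ext (by simp [g])⟩
  let f2 : H →* G := monoidHomOfForallMemZpowers hg (g' := y) (by rw [Subgroup.orderOf_mk, hx, hy])
  have hf2g : f2 g = y := monoidHomOfForallMemZpowers_apply_gen _ _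
  let act := (P.normalizerMonoidHom).comp (Subgroup.inclusion (P.normalizer_eq_top ▸ le_top : H ≤ _))
  let f1 : P →* G := P.subtype.comp A.toMonoidHom
  have hcomp : ∀ h : H, f1.comp (act h).toMonoidHom = (MulAut.conj (f2 h)).toMonoidHom.comp f1 := by
    intro h
    obtain ⟨k, rfl⟩ := hg h
    induction k using Int.induction_on with
    | zero => ext v; simp [f1]
    | succ k ih =>
      ext v
      have h1 := DFunLike.congr_fun ih (act g v)
      have h2 : f1 (act g v) = y * f1 v * y⁻¹ := by
        have h3 := hA v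
        exact h3
      simp only [MonoidHom.comp_apply, MulEquiv.coe_toMonoidHom, MulAut.conj_apply] at h1 ⊢
      rw [zpow_add_one, map_mul, map_mul, MulAut.mul_apply, h1, h2, hf2g]
      group
    | pred k ih =>
      ext v
      have h1 := DFunLike.congr_fun ih ((act g⁻¹) v)
      have h2 : f1 ((act g⁻¹) v) = y⁻¹ * f1 v * y := by
        have h3 : f1 (act g ((act g⁻¹) v)) = y * f1 ((act g⁻¹) v) * y⁻¹ := hA _
        rw [← MulAut.mul_apply, ← map_mul, mul_inv_cancel, map_one, MulAut.one_apply] at h3
        rw [h3]; group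
      simp only [MonoidHom.comp_apply, MulEquiv.coe_toMonoidHom, MulAut.conj_apply] at h1 ⊢
      rw [zpow_sub_one, map_mul, map_mul, MulAut.mul_apply, h1, h2, map_inv f2, hf2g]
      group
  let e := SemidirectProduct.mulEquivSubgroup hc
  let Ψ : G →* G := (SemidirectProduct.lift f1 f2 hcomp).comp e.symm.toMonoidHom
  have hPv : ∀ v : P, Ψ (v : G) = (A v : G) := by
    intro v
    have h1 : e (SemidirectProduct.inl v) = (v : G) := by
      simp [e, SemidirectProduct.mulEquivSubgroup, SemidirectProduct.monoidHomSubgroup]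
    show SemidirectProduct.lift f1 f2 hcomp (e.symm (v : G)) = _
    rw [← h1, MulEquiv.symm_apply_apply, SemidirectProduct.lift_inl]
    rfl
  have hx' : Ψ x = y := by
    have h1 : e (SemidirectProduct.inr g) = x := by
      simp [e, g, SemidirectProduct.mulEquivSubgroup, SemidirectProduct.monoidHomSubgroup]
    show SemidirectProduct.lift f1 f2 hcomp (e.symm x) = _
    rw [← h1, MulEquiv.symm_apply_apply, SemidirectProduct.lift_inr, hf2g]
  have hsurj : Function.Surjective Ψ := by
    rw [← MonoidHom.range_eq_top]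
    have hPle : P ≤ Ψ.range := fun v hv => ⟨(A.symm ⟨v, hv⟩ : P), by rw [hPv]; simp⟩
    have hidx : P.index = q := by rw [hc.symm.index_eq_card, Nat.card_zpowers, hx]
    have hdvd := Subgroup.index_dvd_of_le hPle
    rw [hidx] at hdvd
    rcases (Nat.dvd_prime Fact.out).mp hdvd with h | h
    · exact Subgroup.index_eq_one.mp h
    · exfalso
      have h2 := Subgroup.relIndex_mul_index hPle
      rw [h, hidx] at h2
      have h3 : P.relIndex Ψ.range = 1 := Nat.eq_of_mul_eq_mul_right (Fact.out : q.Prime).pos (by rw [h2, one_mul])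
      exact hyP (Subgroup.relIndex_eq_one.mp h3 ⟨x, hx'⟩)
  exact ⟨MulEquiv.ofBijective Ψ ⟨Finite.injective_iff_surjective.mpr hsurj, hsurj⟩, hx', hPv⟩

end Group

/-- Let G be a finite group whose order is not a prime power. Then the automorphism group of G has exactly three orbits on G if and only if there are distinct primes p, q with #G = pⁿ·q (n ≥ 1) such that G has a normal elementary abelian Sylow p-subgroup P, p is a primitive root modulo q (the multiplicative order of p mod q is q − 1), and every element of order q of G acts on P without non-identity fixed points. -/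
theorem result {G : Type*} [Group G] [Finite G] (hnpp : ¬ IsPrimePow (Nat.card G)) (hnt : Nat.card G ≠ 1) :
    Nat.card (MulAction.orbitRel.Quotient (MulAut G) G) = 3 ↔
    ∃ (p q n : ℕ) (_ : Fact p.Prime) (_ : Fact q.Prime), p ≠ q ∧ 1 ≤ n ∧ Nat.card G = p ^ n * q ∧
      (∀ P : Sylow p G, (P : Subgroup G).Normal ∧ Cfsg.IsElementaryAbelian p (P : Subgroup G)) ∧
      orderOf (p : ZMod q) = q - 1 ∧
      ∀ x y : G, orderOf x = q → orderOf y = p → x * y * x⁻¹ ≠ y := by
  classical
  constructor
  · intro h3
    -- elements of the same order are in one orbit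
    let F : MulAction.orbitRel.Quotient (MulAut G) G → ℕ := Quotient.lift (fun g => orderOf g) (by
      rintro a b hab
      obtain ⟨φ, rfl⟩ : a ∈ MulAction.orbit (MulAut G) b := hab
      exact MulEquiv.orderOf_eq φ b)
    obtain ⟨p₀, hp₀, hp₀d⟩ := Nat.exists_prime_and_dvd hnt
    obtain ⟨q₀, hq₀, hq₀d, hne₀⟩ : ∃ q₀ : ℕ, q₀.Prime ∧ q₀ ∣ Nat.card G ∧ q₀ ≠ p₀ := by
      by_contra hc
      push Not at hc
      refine hnpp ?_
      rw [isPrimePow_nat_iff]
      have h := Nat.eq_prime_pow_of_unique_prime_dvd Nat.card_pos.ne' (fun {d} hd hdd => hc d hd hdd)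
      refine ⟨p₀, _, hp₀, ?_, h.symm⟩
      exact Nat.pos_of_ne_zero fun h0 => hnt (by rw [h, h0, pow_zero])
    haveI := Fact.mk hp₀
    haveI := Fact.mk hq₀
    obtain ⟨a₀, ha₀⟩ := exists_prime_orderOf_dvd_card' (G := G) p₀ hp₀d
    obtain ⟨b₀, hb₀⟩ := exists_prime_orderOf_dvd_card' (G := G) q₀ hq₀d
    haveI : Finite (MulAction.orbitRel.Quotient (MulAut G) G) := Finite.of_surjective _ Quotient.mk_surjective
    haveI := Fintype.ofFinite (MulAction.orbitRel.Quotient (MulAut G) G)
    have himg : ({1, p₀, q₀} : Finset ℕ) ⊆ Finset.univ.image F := by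
      intro m hm
      simp only [Finset.mem_insert, Finset.mem_singleton] at hm
      rcases hm with rfl | rfl | rfl
      · exact Finset.mem_image.mpr ⟨Quotient.mk _ (1 : G), Finset.mem_univ _, orderOf_one⟩
      · exact Finset.mem_image.mpr ⟨Quotient.mk _ a₀, Finset.mem_univ _, ha₀⟩
      · exact Finset.mem_image.mpr ⟨Quotient.mk _ b₀, Finset.mem_univ _, hb₀⟩
    have hc3 : ({1, p₀, q₀} : Finset ℕ).card = 3 := by
      rw [Finset.card_insert_of_notMem, Finset.card_pair hne₀.symm]
      simp [hp₀.one_lt.ne, hq₀.one_lt.ne]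
    have hFu : (Finset.univ : Finset (MulAction.orbitRel.Quotient (MulAut G) G)).card = 3 := by
      rw [Finset.card_univ, ← Nat.card_eq_fintype_card, h3]
    have hle := Finset.card_le_card himg
    rw [hc3] at hle
    have hcardimg : (Finset.univ.image F).card = 3 := le_antisymm (hFu ▸ Finset.card_image_le) hle
    have himgeq := Finset.eq_of_subset_of_card_le himg (by rw [hcardimg, hc3])
    have hFinj : Function.Injective F := by
      intro a b hab
      exact Finset.card_image_iff.mp (by rw [hcardimg, hFu]) (Finset.mem_coe.mpr (Finset.mem_univ a))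
        (Finset.mem_coe.mpr (Finset.mem_univ b)) hab
    have hord : ∀ g : G, orderOf g = 1 ∨ orderOf g = p₀ ∨ orderOf g = q₀ := by
      intro g
      have h1 : F (Quotient.mk _ g) ∈ ({1, p₀, q₀} : Finset ℕ) := by
        rw [himgeq]; exact Finset.mem_image_of_mem _ (Finset.mem_univ _)
      simp only [Finset.mem_insert, Finset.mem_singleton] at h1
      exact h1
    have horb : ∀ a b : G, orderOf a = orderOf b → ∃ φ : MulAut G, φ a = b := by
      intro a b hab
      have h1 : b ∈ MulAction.orbit (MulAut G) a :=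
        Quotient.exact (hFinj (show F (Quotient.mk _ b) = F (Quotient.mk _ a) from hab.symm))
      exact h1
    clear himg himgeq hcardimg hle hc3 hFu hFinj
    -- solvable, hence some core is nontrivial
    have hdvd2 : ∀ r : ℕ, r.Prime → r ∣ Nat.card G → r = p₀ ∨ r = q₀ := by
      intro r hr hrd
      haveI := Fact.mk hr
      obtain ⟨g, hg⟩ := exists_prime_orderOf_dvd_card' (G := G) r hrd
      rcases hord g with h | h | h
      · exact absurd (hg.symm.trans h) hr.one_lt.ne'
      · exact Or.inl (hg.symm.trans h)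
      · exact Or.inr (hg.symm.trans h)
    have hsol : Group.IsSolvable G := by
      refine Cfsg.Agent.Lib.Characters.isSolvable_of_card_eq_pow_mul_pow hp₀ hq₀
        (a := (Nat.card G).factorization p₀) (b := (Nat.card G).factorization q₀) ?_
      refine Nat.eq_of_factorization_eq Nat.card_pos.ne' (mul_ne_zero (pow_ne_zero _ hp₀.ne_zero) (pow_ne_zero _ hq₀.ne_zero)) fun r => ?_
      rw [Nat.factorization_mul (pow_ne_zero _ hp₀.ne_zero) (pow_ne_zero _ hq₀.ne_zero),
        hp₀.factorization_pow, hq₀.factorization_pow, Finsupp.add_apply]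
      by_cases hr : r.Prime ∧ r ∣ Nat.card G
      · rcases hdvd2 r hr.1 hr.2 with rfl | rfl
        · rw [Finsupp.single_eq_same, Finsupp.single_eq_of_ne hne₀.symm, add_zero]
        · rw [Finsupp.single_eq_same, Finsupp.single_eq_of_ne hne₀, zero_add]
      · have h0 : (Nat.card G).factorization r = 0 := by
          by_cases hr' : r.Prime
          · exact Nat.factorization_eq_zero_of_not_dvd fun hd => hr ⟨hr', hd⟩
          · exact Nat.factorization_eq_zero_of_not_prime _ hr'
        have hrp : r ≠ p₀ := fun h => hr ⟨h ▸ hp₀, h ▸ hp₀d⟩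
        have hrq : r ≠ q₀ := fun h => hr ⟨h ▸ hq₀, h ▸ hq₀d⟩
        rw [h0, Finsupp.single_eq_of_ne hrp, Finsupp.single_eq_of_ne hrq, add_zero]
    obtain ⟨p, q, hp, hq, hpq, hpd, hqd, hord', hcore⟩ : ∃ p q : ℕ, p.Prime ∧ q.Prime ∧ p ≠ q ∧
        p ∣ Nat.card G ∧ q ∣ Nat.card G ∧ (∀ g : G, orderOf g = 1 ∨ orderOf g = p ∨ orderOf g = q) ∧
        Cfsg.pCore p G ≠ ⊥ := by
      haveI : Nontrivial G := Finite.one_lt_card_iff_nontrivial.mp (by have := Nat.card_pos (α := G); omega)
      obtain ⟨r, hr, hM⟩ : ∃ r : ℕ, r.Prime ∧ Cfsg.pCore r G ≠ ⊥ := by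
        by_contra hc
        push Not at hc
        refine Cfsg.Agent.Lib.Cores.fittingSubgroup_ne_bot_of_isSolvable hsol ?_
        rw [Cfsg.Agent.Lib.Cores.fittingSubgroup_eq_iSup]
        simp only [iSup_eq_bot]
        intro r
        first
        | exact hc r.1 r.2
        | exact hc r.1 (Nat.prime_of_mem_primeFactors r.2)
        | exact fun hr => hc r hr
      have hrd : r ∣ Nat.card G := by
        haveI := Fact.mk hr
        haveI : Nontrivial (Cfsg.pCore r G) := (Subgroup.nontrivial_iff_ne_bot _).mpr hM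
        obtain ⟨m, hm, hm'⟩ := (Cfsg.Agent.Lib.Cores.pCore_isPGroup r G).nontrivial_iff_card.mp ‹_›
        exact (dvd_pow_self r hm.ne').trans (hm' ▸ Subgroup.card_subgroup_dvd_card _)
      rcases hdvd2 r hr hrd with rfl | rfl
      · exact ⟨r, q₀, hr, hq₀, hne₀.symm, hrd, hq₀d, hord, hM⟩
      · exact ⟨r, p₀, hr, hp₀, hne₀, hrd, hp₀d, fun g => by rcases hord g with h | h | h <;> simp [h], hM⟩
    clear hord hdvd2
    haveI hpF := Fact.mk hp
    haveI hqF := Fact.mk hq
    set M := Cfsg.pCore p G with hMdef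
    have hMp : IsPGroup p M := Cfsg.Agent.Lib.Cores.pCore_isPGroup p G
    have hMinv : ∀ (φ : MulAut G), ∀ m ∈ M, φ m ∈ M := fun φ m hm =>
      Cfsg.Agent.Lib.Cores.map_pCore_le (φ : G ≃* G).toMonoidHom φ.surjective ⟨m, hm, rfl⟩
    haveI hMn : M.Normal := ⟨fun m hm g => hMinv (MulAut.conj g) m hm⟩
    have hpelM : ∀ g : G, orderOf g = p → g ∈ M := by
      intro g hg
      obtain ⟨w, hw, hw1⟩ := (Subgroup.bot_or_exists_ne_one M).resolve_left hcore
      have hwo : orderOf w = p := by
        obtain ⟨k, hk⟩ := IsPGroup.iff_orderOf.mp hMp ⟨w, hw⟩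
        rw [Subgroup.orderOf_mk] at hk
        rcases hord' w with h | h | h
        · exact absurd (orderOf_eq_one_iff.mp h) hw1
        · exact h
        · exfalso
          exact hpq ((Nat.prime_dvd_prime_iff_eq hq hp).mp (hq.dvd_of_dvd_pow (n := k) (by rw [← hk, h]))).symm
      obtain ⟨φ, rfl⟩ := horb w g (hwo.trans hg.symm)
      exact hMinv φ w hw
    have hMel : ∀ m ∈ M, m = 1 ∨ orderOf m = p := by
      intro m hm
      obtain ⟨k, hk⟩ := IsPGroup.iff_orderOf.mp hMp ⟨m, hm⟩
      rw [Subgroup.orderOf_mk] at hk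
      rcases hord' m with h | h | h
      · exact Or.inl (orderOf_eq_one_iff.mp h)
      · exact Or.inr h
      · exact absurd ((Nat.prime_dvd_prime_iff_eq hq hp).mp (hq.dvd_of_dvd_pow (n := k) (by rw [← hk, h]))).symm hpq
    have hSylM : ∀ P : Sylow p G, (P : Subgroup G) = M := by
      intro P
      refine le_antisymm (fun g hg => ?_) ?_
      · obtain ⟨k, hk⟩ := IsPGroup.iff_orderOf.mp P.isPGroup' ⟨g, hg⟩
        rw [Subgroup.orderOf_mk] at hk
        rcases hord' g with h | h | h
        · rw [orderOf_eq_one_iff.mp h]; exact one_mem _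
        · exact hpelM g h
        · exact absurd ((Nat.prime_dvd_prime_iff_eq hq hp).mp (hq.dvd_of_dvd_pow (n := k) (by rw [← hk, h]))).symm hpq
      · obtain ⟨R, hR⟩ := hMp.exists_le_sylow
        obtain ⟨g, rfl⟩ := MulAction.exists_smul_eq G R P
        intro m hm
        refine Cfsg.Agent.Lib.Frobenius.mem_conj_smul.mpr (hR ?_)
        simpa using hMn.conj_mem m hm g⁻¹
    -- `M` is abelian
    have hMnt : Nontrivial M := (Subgroup.nontrivial_iff_ne_bot M).mpr hcore
    have hab : ∀ a ∈ M, ∀ b ∈ M, a * b = b * a := by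
      haveI := hMp.center_nontrivial
      obtain ⟨⟨⟨z, hz⟩, hzc⟩, hz1⟩ := exists_ne (1 : Subgroup.center M)
      have hz1' : z ≠ 1 := fun h => hz1 (Subtype.ext (Subtype.ext h))
      intro a ha b hb
      rcases hMel a ha with rfl | hao
      · simp
      obtain ⟨φ, rfl⟩ := horb z a (((hMel z hz).resolve_left hz1').trans hao.symm)
      obtain ⟨b', rfl⟩ := φ.surjective b
      have hb' : b' ∈ M := by simpa using hMinv φ⁻¹ _ hb
      rw [← map_mul, ← map_mul]
      exact congrArg φ (congrArg Subtype.val (Subgroup.mem_center_iff.mp hzc ⟨b', hb'⟩)).symm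
    have hfree : ∀ x y : G, orderOf x = q → orderOf y = p → x * y * x⁻¹ ≠ y := by
      intro x y hx hy he
      have hc : Commute x y := mul_inv_eq_iff_eq_mul.mp he
      have h1 := hc.orderOf_mul_eq_mul_orderOf_of_coprime (by rw [hx, hy]; exact (Nat.coprime_primes hq hp).mpr hpq.symm)
      rw [hx, hy] at h1
      have := hq.two_le
      have := hp.two_le
      rcases hord' (x * y) with h | h | h <;> rw [h1] at h <;> nlinarith
    -- the Sylow `q`-subgroup has order `q`
    obtain ⟨Q⟩ : Nonempty (Sylow q G) := inferInstance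
    have hQel : ∀ w : (Q : Subgroup G), w ≠ 1 → orderOf w = q := by
      intro w hw
      obtain ⟨k, hk⟩ := IsPGroup.iff_orderOf.mp Q.isPGroup' w
      rcases hord' (w : G) with h | h | h
      · exact absurd (Subtype.ext (orderOf_eq_one_iff.mp h)) hw
      · rw [Subgroup.orderOf_coe] at h
        exact absurd ((Nat.prime_dvd_prime_iff_eq hp hq).mp (hp.dvd_of_dvd_pow (n := k) (by rw [← hk, h]))) hpq
      · rwa [Subgroup.orderOf_coe] at h
    let act : (Q : Subgroup G) →* MulAut M := MulAut.conjNormal.comp (Q : Subgroup G).subtype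
    have hactfpf : ∀ a : (Q : Subgroup G), a ≠ 1 → ∀ m : M, act a m = m → m = 1 := by
      intro a ha m hm
      by_contra hm1
      refine hfree (a : G) (m : G) (by rw [Subgroup.orderOf_coe]; exact hQel a ha)
        ((hMel m m.2).resolve_left fun h => hm1 (Subtype.ext h)) ?_
      have h2 := congrArg Subtype.val hm
      simpa [act] using h2
    obtain ⟨x, hx⟩ := exists_prime_orderOf_dvd_card' (G := (Q : Subgroup G)) q (Q.dvd_card_of_dvd_card hqd)
    have hQz : ∀ w : (Q : Subgroup G), w ∈ Subgroup.zpowers x := by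
      intro w
      by_cases hw : w = 1
      · rw [hw]; exact one_mem _
      · rw [← Cfsg.Agent.Lib.Frobenius.zpowers_eq_of_orderOf_prime act hactfpf Q.isPGroup' (hQel w hw) hx]
        exact Subgroup.mem_zpowers w
    have hQcard : Nat.card (Q : Subgroup G) = q := by
      exact ((Nat.card_congr (Equiv.subtypeUnivEquiv hQz)).symm.trans (Nat.card_zpowers x)).trans hx
    have hxG : orderOf (x : G) = q := by rw [Subgroup.orderOf_coe, hx]
    obtain ⟨n, hn⟩ := IsPGroup.iff_card.mp hMp
    have hn1 : 1 ≤ n := Nat.one_le_iff_ne_zero.mpr fun h0 => hcore (Subgroup.eq_bot_of_card_eq M (by rw [hn, h0, pow_zero]))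
    obtain ⟨P0⟩ : Nonempty (Sylow p G) := inferInstance
    have hcardG : Nat.card G = p ^ n * q := by
      refine Nat.eq_of_factorization_eq Nat.card_pos.ne' (mul_ne_zero (pow_ne_zero _ hp.ne_zero) hq.ne_zero) fun r => ?_
      rw [Nat.factorization_mul (pow_ne_zero _ hp.ne_zero) hq.ne_zero, Finsupp.add_apply, hp.factorization_pow,
        hq.factorization]
      have hP0 : Nat.card M = p ^ (Nat.card G).factorization p := by rw [← hSylM P0]; exact P0.card_eq_multiplicity
      have hfp : (Nat.card G).factorization p = n :=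
        (Nat.pow_right_injective hp.two_le (hn.symm.trans hP0)).symm
      have hfq : (Nat.card G).factorization q = 1 := by
        have h1 := Q.card_eq_multiplicity
        rw [hQcard] at h1
        exact (Nat.pow_right_injective hq.two_le ((pow_one q).trans h1)).symm
      by_cases hrp : r = p
      · subst hrp; rw [hfp, Finsupp.single_eq_same, Finsupp.single_eq_of_ne hpq, add_zero]
      by_cases hrq : r = q
      · subst hrq; rw [hfq, Finsupp.single_eq_same, Finsupp.single_eq_of_ne hrp, zero_add]
      rw [Finsupp.single_eq_of_ne hrp, Finsupp.single_eq_of_ne hrq]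
      by_cases hr' : r.Prime
      · refine Nat.factorization_eq_zero_of_not_dvd fun hd => ?_
        haveI := Fact.mk hr'
        obtain ⟨g, hg⟩ := exists_prime_orderOf_dvd_card' (G := G) r hd
        rcases hord' g with h | h | h
        · exact hr'.one_lt.ne' (hg.symm.trans h)
        · exact hrp (hg.symm.trans h)
        · exact hrq (hg.symm.trans h)
      · exact Nat.factorization_eq_zero_of_not_prime _ hr'
    refine ⟨p, q, n, hpF, hqF, hpq, hn1, hcardG, fun P => ?_, ?_, hfree⟩
    · rw [hSylM P]
      exact ⟨hMn, ⟨⟨fun a b => Subtype.ext (hab a a.2 b b.2)⟩⟩, fun a ha => by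
        rcases hMel a ha with rfl | h
        · exact one_pow p
        · rw [← h, pow_orderOf_eq_one]⟩
    · -- the primitive root
      letI : CommGroup M := { (inferInstance : Group M) with mul_comm := fun a b => Subtype.ext (hab a a.2 b b.2) }
      haveI : Module (ZMod p) (Additive M) := AddCommGroup.zmodModule (fun v => by
        rcases hMel (Additive.toMul v : M) (Additive.toMul v).2 with h | h
        · rw [show v = 0 from Subtype.ext h, smul_zero]
        · refine Subtype.ext ?_
          show (((Additive.toMul v) ^ p : M) : G) = 1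
          rw [Subgroup.coe_pow, ← h, pow_orderOf_eq_one])
      let T : Module.End (ZMod p) (Additive M) :=
        ((MulAut.conjNormal (x : G) : MulAut M).toMonoidHom.toAdditive).toZModLinearMap p
      have hTk : ∀ (k : ℕ) (v : Additive M), (T ^ k) v = Additive.ofMul ((MulAut.conjNormal ((x : G) ^ k) : MulAut M) (Additive.toMul v)) := by
        intro k
        induction k with
        | zero => intro v; simp
        | succ k ih =>
          intro v
          rw [pow_succ, Module.End.mul_apply, ih, pow_succ, map_mul, MulAut.mul_apply]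
          rfl
      have hnotM : (x : G) ∉ M := fun h => by
        rcases hMel _ h with h1 | h1
        · rw [h1, orderOf_one] at hxG; exact hq.one_lt.ne hxG
        · exact hpq (h1.symm.trans hxG)
      -- the shape of automorphisms
      have hshape : ∀ φ : MulAut G, ∃ (A : Additive M ≃+ Additive M) (k : ℕ),
          (∀ u, A (T u) = (T ^ k) (A u)) ∧ (∀ u, ((Additive.toMul (A u) : M) : G) = φ ((Additive.toMul u : M) : G)) ∧
          ((φ (x : G)) * ((x : G) ^ k)⁻¹ ∈ M) := by
        intro φ
        let A0 : M ≃* M :=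
          { toFun := fun m => ⟨φ m, hMinv φ m m.2⟩
            invFun := fun m => ⟨φ⁻¹ m, hMinv φ⁻¹ m m.2⟩
            left_inv := fun m => Subtype.ext (by simp)
            right_inv := fun m => Subtype.ext (by simp)
            map_mul' := fun a b => Subtype.ext (by simp) }
        have hcompl : M.IsComplement' (Subgroup.zpowers (x : G)) := Subgroup.isComplement'_of_coprime
          (by rw [hn, Nat.card_zpowers, hxG, hcardG]) (by rw [hn, Nat.card_zpowers, hxG]; exact ((Nat.coprime_primes hp hq).mpr hpq).pow_left n)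
        obtain ⟨u, hu, w, hw, huw⟩ := Subgroup.mem_sup_of_normal_left.mp
          (show φ (x : G) ∈ M ⊔ Subgroup.zpowers (x : G) by rw [hcompl.sup_eq_top]; trivial)
        obtain ⟨k, rfl⟩ := mem_powers_iff_mem_zpowers.mpr hw
        refine ⟨MulEquiv.toAdditive A0, k, fun v => ?_, fun v => rfl, by rw [← huw]; simpa using hu⟩
        rw [hTk]
        refine Subtype.ext ?_
        show φ ((x : G) * ((Additive.toMul v : M) : G) * (x : G)⁻¹) = _
        rw [map_mul, map_mul, map_inv, ← huw]
        show _ = (x : G) ^ k * φ ((Additive.toMul v : M) : G) * ((x : G) ^ k)⁻¹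
        have h4 := hab u hu _ ((inferInstance : M.Normal).conj_mem _ (hMinv φ _ (Additive.toMul v : M).2) ((x : G) ^ k))
        simp only [mul_inv_rev, mul_assoc] at h4 ⊢
        calc u * ((x : G) ^ k * (φ ((Additive.toMul v : M) : G) * (((x : G) ^ k)⁻¹ * u⁻¹)))
            = (u * ((x : G) ^ k * (φ ((Additive.toMul v : M) : G) * ((x : G) ^ k)⁻¹))) * u⁻¹ := by group
          _ = _ := by rw [h4]; group
      haveI : Nontrivial (Additive M) := hMnt
      refine orderOf_eq_of_transitive hpq T ?_ ?_ ?_ ?_
      · refine LinearMap.ext fun v => ?_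
        rw [hTk, show (x : G) ^ q = 1 from orderOf_dvd_iff_pow_eq_one.mp hxG.dvd, map_one]
        rfl
      · intro v hv
        exact hactfpf x (fun h => by rw [h, Subgroup.coe_one, orderOf_one] at hxG; exact hq.one_lt.ne hxG) (Additive.toMul v) hv
      · intro i hi0 hiq
        obtain ⟨φ, hφ⟩ := horb (x : G) ((x : G) ^ i) (by
          rw [Nat.Coprime.orderOf_pow]
          rw [hxG]
          exact hq.coprime_iff_not_dvd.mpr fun hd => absurd (Nat.le_of_dvd hi0 hd) (by omega))
        obtain ⟨A, k, h1, -, h2⟩ := hshape φ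
        refine ⟨A, fun v => ?_⟩
        rw [h1, hTk, hTk]
        rw [hφ] at h2
        have hki : (MulAut.conjNormal ((x : G) ^ i) : MulAut M) = MulAut.conjNormal ((x : G) ^ k) := by
          conv_lhs => rw [show (x : G) ^ i = ((x : G) ^ i * ((x : G) ^ k)⁻¹) * (x : G) ^ k by group]
          rw [map_mul]
          have : MulAut.conjNormal ((x : G) ^ i * ((x : G) ^ k)⁻¹) = (1 : MulAut M) := by
            ext m
            simp only [MulAut.conjNormal_apply, MulAut.one_apply]
            rw [hab _ h2 m m.2, mul_inv_cancel_right]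
          rw [this, one_mul]
        rw [hki]
      · intro v w hv hw
        have hv' : ((Additive.toMul v : M) : G) ≠ 1 := fun h => hv (Subtype.ext h)
        have hw' : ((Additive.toMul w : M) : G) ≠ 1 := fun h => hw (Subtype.ext h)
        obtain ⟨φ, hφ⟩ := horb ((Additive.toMul v : M) : G) ((Additive.toMul w : M) : G)
          (((hMel _ (Additive.toMul v).2).resolve_left hv').trans ((hMel _ (Additive.toMul w).2).resolve_left hw').symm)
        obtain ⟨A, k, h1, h2, -⟩ := hshape φ
        exact ⟨A, k, h1, Subtype.ext (by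
          show ((Additive.toMul (A v) : M) : G) = _
          rw [h2, hφ]
          rfl)⟩
  · rintro ⟨p, q, n, hpF, hqF, hpq, hn1, hcard, hP, hord, hfree⟩
    have hp : p.Prime := hpF.out
    have hq : q.Prime := hqF.out
    obtain ⟨P⟩ : Nonempty (Sylow p G) := inferInstance
    obtain ⟨hPn, hPe⟩ := hP P
    set M := (P : Subgroup G) with hM
    have hab : ∀ a ∈ M, ∀ b ∈ M, a * b = b * a := fun a ha b hb =>
      congrArg Subtype.val (hPe.1.is_comm.comm ⟨a, ha⟩ ⟨b, hb⟩)
    have hMcard : Nat.card M = p ^ n := by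
      rw [P.card_eq_multiplicity, hcard, Nat.factorization_mul (pow_ne_zero _ hp.ne_zero) hq.ne_zero,
        Finsupp.add_apply, hp.factorization_pow, hq.factorization, Finsupp.single_eq_same,
        Finsupp.single_eq_of_ne hpq, add_zero]
    obtain ⟨x, hx⟩ := exists_prime_orderOf_dvd_card' (G := G) q (hcard ▸ dvd_mul_left q _)
    have hxM : x ∉ M := fun h => by
      have h1 := Subgroup.orderOf_dvd_natCard M h
      rw [hx, hMcard] at h1
      exact hpq ((Nat.prime_dvd_prime_iff_eq hq hp).mp (hq.dvd_of_dvd_pow h1)).symm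
    have hidx : M.index = q := by
      have h1 := Subgroup.card_mul_index M
      rw [hMcard, hcard] at h1
      exact Nat.eq_of_mul_eq_mul_left (pow_pos hp.pos n) h1
    have hcompl : M.IsComplement' (Subgroup.zpowers x) := Subgroup.isComplement'_of_coprime
      (by rw [hMcard, Nat.card_zpowers, hx, hcard]) (by rw [hMcard, Nat.card_zpowers, hx]; exact ((Nat.coprime_primes hp hq).mpr hpq).pow_left n)
    have hMel : ∀ m ∈ M, m ≠ 1 → orderOf m = p := fun m hm h1 => orderOf_eq_prime (hPe.2 m hm) h1
    have hout : ∀ g : G, g ∉ M → orderOf g = q := by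
      intro g hg
      have hgq : g ^ q ∈ M := by
        have h1 : (QuotientGroup.mk g : G ⧸ M) ^ q = 1 := by
          rw [← hidx, Subgroup.index_eq_card, pow_card_eq_one']
        rwa [← QuotientGroup.mk_pow, QuotientGroup.eq_one_iff] at h1
      refine orderOf_eq_prime ?_ fun h => hg (h ▸ one_mem M)
      by_contra h1
      have h2 := hMel _ hgq h1
      have h3 : orderOf (g ^ p) = q := by
        refine orderOf_eq_prime ?_ ?_
        · rw [← pow_mul, mul_comm, pow_mul, hPe.2 _ hgq]
        · intro h4
          obtain ⟨a, b, hab'⟩ : ∃ a b : ℤ, a * p + b * q = 1 :=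
            (Int.isCoprime_iff_gcd_eq_one.mpr (by simpa using (Nat.coprime_primes hp hq).mpr hpq))
          refine hg ?_
          rw [← zpow_one g, ← hab', zpow_add, mul_comm a, mul_comm b, zpow_mul, zpow_mul, zpow_natCast,
            zpow_natCast, h4, one_zpow, one_mul]
          exact zpow_mem hgq b
      refine hfree _ _ h3 h2 ?_
      have hc : Commute (g ^ p) (g ^ q) := Commute.pow_pow_self g p q
      rw [hc.eq, mul_inv_cancel_right]
    letI : CommGroup M := { (inferInstance : Group M) with mul_comm := fun a b => Subtype.ext (hab a a.2 b b.2) }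
    haveI : Module (ZMod p) (Additive M) := AddCommGroup.zmodModule (fun v => by
      refine Subtype.ext ?_
      show (((Additive.toMul v) ^ p : M) : G) = 1
      rw [Subgroup.coe_pow]
      exact hPe.2 _ (Additive.toMul v).2)
    let T : Module.End (ZMod p) (Additive M) :=
      ((MulAut.conjNormal x : MulAut M).toMonoidHom.toAdditive).toZModLinearMap p
    have hTk : ∀ (k : ℕ) (v : Additive M), (T ^ k) v = Additive.ofMul ((MulAut.conjNormal (x ^ k) : MulAut M) (Additive.toMul v)) := by
      intro k
      induction k with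
      | zero => intro v; simp
      | succ k ih =>
        intro v
        rw [pow_succ, Module.End.mul_apply, ih, pow_succ, map_mul, MulAut.mul_apply]
        rfl
    have hTq : T ^ q = 1 := LinearMap.ext fun v => by
      rw [hTk, ← hx, pow_orderOf_eq_one, map_one]; rfl
    have hTfix : ∀ v, T v = v → v = 0 := by
      intro v hv
      by_contra hv0
      exact hfree x _ hx (hMel _ (Additive.toMul v).2 fun h => hv0 (Subtype.ext h)) (congrArg (fun u => ((Additive.toMul u : M) : G)) hv)
    obtain ⟨hlin, hsemi⟩ := exists_equiv_of_primitive hpq T hTq hTfix hord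
    have htransQ : ∀ y : G, y ∉ M → ∃ φ : MulAut G, φ x = y := by
      intro y hy
      obtain ⟨u, hu, w, hw, huw⟩ := Subgroup.mem_sup_of_normal_left.mp
        (show y ∈ M ⊔ Subgroup.zpowers x by rw [hcompl.sup_eq_top]; trivial)
      obtain ⟨k, rfl⟩ := mem_powers_iff_mem_zpowers.mpr hw
      have hk : ¬ q ∣ k := fun hd => by
        obtain ⟨c, rfl⟩ := hd
        exact hy (by rw [← huw]; simp [pow_mul, ← hx, pow_orderOf_eq_one, hu])
      obtain ⟨A, hA⟩ := hsemi k hk
      obtain ⟨φ, hφ, -⟩ := exists_mulAut M hcompl hx (hout y hy) hy (AddEquiv.toMultiplicative A) (fun v => by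
        have h1 := congrArg (fun u => ((Additive.toMul u : M) : G)) (hA (Additive.ofMul v))
        rw [hTk] at h1
        refine h1.trans ?_
        show x ^ k * ((Additive.toMul (A (Additive.ofMul v)) : M) : G) * (x ^ k)⁻¹ = _
        rw [← huw]
        show _ = u * x ^ k * ((Additive.toMul (A (Additive.ofMul v)) : M) : G) * (u * x ^ k)⁻¹
        have h2 := hab u hu _ (hPn.conj_mem _ (Additive.toMul (A (Additive.ofMul v))).2 (x ^ k))
        rw [show u * x ^ k * ((Additive.toMul (A (Additive.ofMul v)) : M) : G) * (u * x ^ k)⁻¹ =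
          u * (x ^ k * ((Additive.toMul (A (Additive.ofMul v)) : M) : G) * (x ^ k)⁻¹) * u⁻¹ by group, h2, mul_inv_cancel_right])
      exact ⟨φ, hφ⟩
    have htransP : ∀ a b : G, a ∈ M → b ∈ M → a ≠ 1 → b ≠ 1 → ∃ φ : MulAut G, φ a = b := by
      intro a b ha hb ha1 hb1
      obtain ⟨A, hA, hAv⟩ := hlin (Additive.ofMul ⟨a, ha⟩) (Additive.ofMul ⟨b, hb⟩)
        (fun h => ha1 (congrArg (fun u => ((Additive.toMul u : M) : G)) h))
        (fun h => hb1 (congrArg (fun u => ((Additive.toMul u : M) : G)) h))
      obtain ⟨φ, -, hφ⟩ := exists_mulAut M hcompl hx hx hxM (AddEquiv.toMultiplicative A) (fun v => by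
        have h1 := congrArg (fun u => ((Additive.toMul u : M) : G)) (hA (Additive.ofMul v))
        exact h1)
      refine ⟨φ, ?_⟩
      rw [show φ a = _ from hφ ⟨a, ha⟩]
      exact congrArg (fun u => ((Additive.toMul u : M) : G)) hAv
    obtain ⟨a, ha, ha1⟩ := (Subgroup.bot_or_exists_ne_one M).resolve_left (fun h => by
      rw [h, Subgroup.card_bot] at hMcard
      exact (Nat.one_lt_pow (by omega) hp.one_lt).ne hMcard)
    let f : Fin 3 → MulAction.orbitRel.Quotient (MulAut G) G := ![Quotient.mk _ 1, Quotient.mk _ a, Quotient.mk _ x]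
    have hinv : ∀ u v : G, (Quotient.mk _ u : MulAction.orbitRel.Quotient (MulAut G) G) = Quotient.mk _ v → orderOf u = orderOf v := by
      intro u v h
      obtain ⟨φ, rfl⟩ : u ∈ MulAction.orbit (MulAut G) v := Quotient.exact h
      exact MulEquiv.orderOf_eq φ v
    have hbij : Function.Bijective f := by
      constructor
      · intro i j hij
        have hoa := hMel a ha ha1
        have h1p := hp.one_lt.ne
        have h1q := hq.one_lt.ne
        fin_cases i <;> fin_cases j <;> first
          | rfl
          | (exfalso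
             have := hinv _ _ hij
             simp only [orderOf_one, hoa, hx] at this
             omega)
      · intro c
        induction c using Quotient.inductionOn with
        | h g =>
          by_cases hg : g ∈ M
          · by_cases hg1 : g = 1
            · exact ⟨0, by rw [hg1]; rfl⟩
            · obtain ⟨φ, hφ⟩ := htransP g a hg ha hg1 ha1
              exact ⟨1, Quotient.sound ⟨φ, hφ⟩⟩
          · obtain ⟨φ, hφ⟩ := htransQ g hg
            exact ⟨2, (Quotient.sound (show g ∈ MulAction.orbit (MulAut G) x from ⟨φ, hφ⟩)).symm⟩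
    rw [← Nat.card_eq_of_bijective f hbij, Nat.card_fin]

end Cfsg.Agent.S4081
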