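import Cfsg.Statements.S4083
import Cfsg.Agent.Lib.PGroups.RestrictedBase
import Cfsg.Agent.Lib.PGroups.DihedralSubgroups
import Cfsg.Agent.S3116
import Cfsg.Agent.Lib.PGroups.SylowTwentyOne

set_option autoImplicit false
open Cfsg

namespace Cfsg.Agent.S4083

/-- Let G be a finite group with Sylow 2-subgroup P. Every subgroup H of G whose Sylow 2-subgroup is normal in H with cyclic quotient is cyclic, dihedral of 2-power order, or isomorphic to the alternating group of degree 4, if and only if either P is cyclic, or P is dihedral (of order at least 4) and every elementary abelian subgroup K of order 4 of P satisfies C_G(K) = K. -/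
theorem result {G : Type*} [Group G] [Finite G] (P : Sylow 2 G) :
    (∀ H : Subgroup G, (∀ S : Sylow 2 ↥H, (S : Subgroup ↥H).Normal) →
        (∀ (S : Sylow 2 ↥H) [(S : Subgroup ↥H).Normal], IsCyclic (↥H ⧸ (S : Subgroup ↥H))) →
        IsCyclic H ∨ (∃ n : ℕ, Nonempty (H ≃* DihedralGroup (2 ^ n))) ∨ Nonempty (H ≃* alternatingGroup (Fin 4))) ↔
    (IsCyclic P ∨
      ((∃ n : ℕ, 1 ≤ n ∧ Nonempty ((P : Subgroup G) ≃* DihedralGroup (2 ^ n))) ∧
        ∀ K : Subgroup G, K ≤ P → Nat.card K = 4 → (∀ k ∈ K, k ^ 2 = 1) → Subgroup.centralizer (K : Set G) = K)) := by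

  classical
  haveI : Fact (Nat.Prime 2) := ⟨Nat.prime_two⟩
  open Lib.PGroups.RestrictedBase in
  constructor
  · intro h
    -- the Sylow subgroup itself
    obtain ⟨hN, hQ⟩ := hyps_of_closure (p := 2) (P : Subgroup G) P.isPGroup' 1 (one_mem _) (by
      intro T hT hTle hcop
      rw [Subgroup.zpowers_one_eq_bot, sup_bot_eq] at hTle hcop ⊢
      obtain ⟨k, hk⟩ := (P.isPGroup'.index (T.subgroupOf (P : Subgroup G)))
      rcases Nat.eq_zero_or_pos k with rfl | hk0
      · rw [pow_zero, Subgroup.index_eq_one, Subgroup.subgroupOf_eq_top] at hk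
        rw [le_antisymm hTle hk]; exact Subgroup.le_normalizer
      · exact absurd hcop (by rw [hk, Nat.coprime_pow_left_iff hk0]; decide))
    have hP := h _ hN hQ
    rw [Subgroup.zpowers_one_eq_bot, sup_bot_eq] at hP
    have hK : ∀ K : Subgroup G, K ≤ P → Nat.card K = 4 → (∀ k ∈ K, k ^ 2 = 1) →
        Subgroup.centralizer (K : Set G) = K := by
      intro K hKP hK4 hK2
      have hcomm : ∀ a ∈ K, ∀ b ∈ K, a * b = b * a := fun a ha b hb => by
        have := congrArg Subtype.val (mul_comm_of_exponent_two (G := K) ?_ ⟨a, ha⟩ ⟨b, hb⟩)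
        · exact this
        · refine le_antisymm (Nat.le_of_dvd two_pos (Monoid.exponent_dvd_of_forall_pow_eq_one fun x => Subtype.ext (hK2 x x.2))) ?_
          refine Nat.succ_le_of_lt (lt_of_le_of_ne (Nat.pos_of_ne_zero Monoid.exponent_ne_zero_of_finite) fun e => ?_)
          haveI := Monoid.exp_eq_one_iff.mp e.symm
          rw [Nat.card_unique] at hK4
          omega
      refine le_antisymm (fun y hy => ?_) fun a ha => Subgroup.mem_centralizer_iff.mpr fun b hb => hcomm b hb a ha
      obtain ⟨hN, hQ, hab⟩ := hyps_of_commute (p := 2) K (P.isPGroup'.to_le hKP) hcomm y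
        fun a ha => (Subgroup.mem_centralizer_iff.mp hy a ha).symm
      have hyH : y ∈ K ⊔ Subgroup.zpowers y := Subgroup.mem_sup_right (Subgroup.mem_zpowers y)
      rcases h _ hN hQ with hc | ⟨n, ⟨e⟩⟩ | ⟨⟨e⟩⟩
      · exfalso
        haveI : IsCyclic K := isCyclic_of_injective (Subgroup.inclusion (le_sup_left : K ≤ K ⊔ Subgroup.zpowers y)) (Subgroup.inclusion_injective _)
        haveI := Fintype.ofFinite K
        have h1 := IsCyclic.card_pow_eq_one_le (α := K) (n := 2) two_pos
        rw [Finset.filter_true_of_mem (s := (Finset.univ : Finset K)) (fun a _ => (Subtype.ext (hK2 _ a.2) : a ^ 2 = 1)), Finset.card_univ,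
          ← Nat.card_eq_fintype_card, hK4] at h1
        omega
      · have hn : n ≤ 1 := by
          by_contra hn
          have h1 := congrArg e (hab (e.symm (DihedralGroup.r 1)) (e.symm (DihedralGroup.sr 0)))
          simp only [map_mul, MulEquiv.apply_symm_apply, DihedralGroup.r_mul_sr, DihedralGroup.sr_mul_r,
            DihedralGroup.sr.injEq, zero_sub, zero_add] at h1
          rw [neg_eq_iff_add_eq_zero] at h1
          have h2 : ((2 : ℕ) : ZMod (2 ^ n)) = 0 := by rw [Nat.cast_two, show (2 : ZMod (2 ^ n)) = 1 + 1 from one_add_one_eq_two.symm]; exact h1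
          rw [ZMod.natCast_eq_zero_iff] at h2
          have := Nat.le_of_dvd two_pos h2
          have := Nat.pow_le_pow_right (show 1 ≤ 2 by norm_num) (show 2 ≤ n by omega)
          omega
        have hcard : Nat.card ↥(K ⊔ Subgroup.zpowers y) ≤ 4 := by
          rw [Nat.card_congr e.toEquiv, DihedralGroup.nat_card]
          have := Nat.pow_le_pow_right (show 1 ≤ 2 by norm_num) hn
          omega
        rw [Subgroup.eq_of_le_of_card_ge (le_sup_left : K ≤ K ⊔ Subgroup.zpowers y) (by rw [hK4]; exact hcard)]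
        exact hyH
      · exfalso
        have h3 : ∀ a b : alternatingGroup (Fin 4), a * b = b * a := fun a b => by
          have := congrArg e (hab (e.symm a) (e.symm b))
          simpa using this
        revert h3; decide
    rcases hP with hc | ⟨n, ⟨e⟩⟩ | ⟨⟨e⟩⟩
    · exact Or.inl hc
    · rcases Nat.eq_zero_or_pos n with rfl | hn
      · left
        refine isCyclic_of_prime_card (p := 2) ?_
        rw [Nat.card_congr e.toEquiv, DihedralGroup.nat_card, pow_zero, mul_one]
      · exact Or.inr ⟨⟨n, hn, ⟨e⟩⟩, hK⟩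
    · exfalso
      obtain ⟨k, hk⟩ := P.isPGroup'.exists_card_eq
      haveI : Fact (Nat.Prime 5) := ⟨by norm_num⟩
      rw [Nat.card_congr e.toEquiv, Lib.PGroups.TwentyOne.card_alt_four] at hk
      have : (3 : ℕ) ∣ 2 ^ k := ⟨4, hk.symm⟩
      exact absurd (Nat.prime_three.dvd_of_dvd_pow this) (by norm_num)
  intro hP H hHS hHQ
  obtain ⟨S⟩ : Nonempty (Sylow 2 H) := inferInstance
  haveI := hHS S
  haveI := hHQ S
  obtain ⟨c, hc2, hcop, hcard, htop, hint⟩ := exists_generator_complement S
  -- move the Sylow subgroup into `P`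
  obtain ⟨T, hT⟩ := ((S.isPGroup').map H.subtype).exists_le_sylow
  obtain ⟨g, rfl⟩ := MulAction.exists_smul_eq G P T
  let ι : (S : Subgroup H) →* (P : Subgroup G) := MonoidHom.codRestrict
    ((MulAut.conj g⁻¹).toMonoidHom.comp (H.subtype.comp (S : Subgroup H).subtype)) _ (fun s => by
      obtain ⟨q, hq, hqe⟩ := hT (Subgroup.mem_map_of_mem H.subtype s.2)
      show MulAut.conj g⁻¹ ((s : H) : G) ∈ (P : Subgroup G)
      have : MulAut.conj g q = ((s : H) : G) := hqe
      rw [← this, map_inv, MulAut.inv_apply, MulEquiv.symm_apply_apply]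
      exact hq)
  have hι : Function.Injective ι := fun a b hab => by
    have := congrArg (fun t : (P : Subgroup G) => (t : G)) hab
    exact Subtype.ext (Subtype.ext ((MulAut.conj g⁻¹).injective this))
  have hcycS : IsCyclic (S : Subgroup H) → IsCyclic H := fun hS => by
    refine isCyclic_of_coprime _ c hS (centralizes_of_pgroup_aut (p := 2) _ ?_ c ?_ hc2) hcop hcard
    · haveI := hS
      obtain ⟨k, hk⟩ := S.isPGroup'.exists_card_eq
      rcases Nat.eq_zero_or_pos k with rfl | hk0
      · haveI : Subsingleton (S : Subgroup H) := (Nat.card_eq_one_iff_unique.mp (by rw [hk, pow_zero])).1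
        exact fun f => ⟨0, MulEquiv.ext fun x => Subsingleton.elim _ _⟩
      refine IsPGroup.of_card (n := k - 1) ?_
      rw [IsCyclic.card_mulAut, hk, Nat.totient_prime_pow Nat.prime_two hk0]
      norm_num
    · rw [(Subgroup.normalizer_eq_top_iff).mpr inferInstance]; exact Subgroup.mem_top _
  rcases hP with hPc | ⟨⟨n, hn, ⟨e⟩⟩, hK⟩
  · exact Or.inl (hcycS (isCyclic_of_injective ι hι))
  let Φ := e.toMonoidHom.comp ι
  have hΦ : Function.Injective Φ := e.injective.comp hι
  let eS := MonoidHom.ofInjective hΦ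
  rcases Lib.PGroups.DihedralSubgroups.cyclic_or_dihedral Φ.range with hr | ⟨j, hj, ⟨f⟩⟩
  · exact Or.inl (hcycS (isCyclic_of_injective eS.toMonoidHom eS.injective))
  let E : (S : Subgroup H) ≃* DihedralGroup (2 ^ j) := eS.trans f
  obtain ⟨V, hV4, hV2⟩ := Lib.PGroups.DihedralSubgroups.exists_four hj
  let W : Subgroup H := (V.map E.symm.toMonoidHom).map (S : Subgroup H).subtype
  have hWS : W ≤ S := Subgroup.map_subtype_le _
  have hW4 : Nat.card W = 4 := by
    rw [Subgroup.card_subtype, Subgroup.card_map_of_injective E.symm.injective]; exact hV4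
  have hW2 : ∀ w ∈ W, w ^ 2 = 1 := by
    rintro _ ⟨_, ⟨v, hv, rfl⟩, rfl⟩
    rw [← map_pow, ← map_pow, hV2 v hv, map_one, map_one]
  -- the centralizer of `W` in `H` is `W`
  have hCW : ∀ x : H, (∀ w ∈ W, x * w = w * x) → x ∈ W := by
    intro x hx
    let K : Subgroup G := (W.map H.subtype).map (MulAut.conj g⁻¹).toMonoidHom
    have hKP : K ≤ P := by
      rintro _ ⟨_, ⟨w, hw, rfl⟩, rfl⟩
      exact (ι ⟨w, hWS hw⟩).2
    have hK' := hK K hKP (by
      rw [Subgroup.card_map_of_injective (MulAut.conj g⁻¹).injective, Subgroup.card_subtype]; exact hW4) (by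
      rintro _ ⟨_, ⟨w, hw, rfl⟩, rfl⟩
      rw [← map_pow, ← map_pow, hW2 w hw, map_one, map_one])
    have : MulAut.conj g⁻¹ (x : G) ∈ Subgroup.centralizer (K : Set G) := by
      refine Subgroup.mem_centralizer_iff.mpr ?_
      rintro _ ⟨_, ⟨w, hw, rfl⟩, rfl⟩
      show MulAut.conj g⁻¹ (w : G) * _ = _ * MulAut.conj g⁻¹ (w : G)
      rw [← map_mul, ← map_mul, ← Subgroup.coe_mul, ← hx w hw, Subgroup.coe_mul]
    rw [hK'] at this
    obtain ⟨_, ⟨w, hw, rfl⟩, hwe⟩ := this
    rwa [← Subtype.ext ((MulAut.conj g⁻¹).injective hwe)]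
  have hint' : ∀ x : H, x ∈ (S : Subgroup H) → x ∈ Subgroup.zpowers c → x = 1 := fun x h1 h2 => by
    have : x ∈ (S : Subgroup H) ⊓ Subgroup.zpowers c := ⟨h1, h2⟩
    rwa [hint] at this
  by_cases hcen : ∀ w ∈ W, c * w = w * c
  · -- `H` is its Sylow subgroup
    have hc1 : c = 1 := hint' c (hWS (hCW c hcen)) (Subgroup.mem_zpowers c)
    refine Or.inr (Or.inl ⟨j, ⟨?_⟩⟩)
    have hStop : (S : Subgroup H) = ⊤ := by rw [← htop, hc1, Subgroup.zpowers_one_eq_bot, sup_bot_eq]
    exact ((MulEquiv.subgroupCongr hStop).trans Subgroup.topEquiv).symm.trans E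
  have hcS : ∀ (A : IsPGroup 2 (MulAut (S : Subgroup H))), False := fun A => hcen fun w hw =>
    centralizes_of_pgroup_aut (p := 2) _ A c
      (by rw [(Subgroup.normalizer_eq_top_iff).mpr inferInstance]; exact Subgroup.mem_top _) hc2 w (hWS hw)
  have hj1 : j = 1 := by
    by_contra hne
    exact hcS (Cfsg.Agent.S3116.result S.isPGroup' (Or.inl ⟨2 ^ j, by
      calc 4 = 2 ^ 2 := by norm_num
        _ ≤ 2 ^ j := Nat.pow_le_pow_right (by norm_num) (by omega), ⟨E⟩⟩))
  have hSW : (S : Subgroup H) = W := (Subgroup.eq_of_le_of_card_ge hWS (by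
    rw [hW4, Nat.card_congr E.toEquiv, DihedralGroup.nat_card, hj1]; norm_num)).symm
  refine Or.inr (Or.inr ?_)
  -- conjugation by `c` permutes the three involutions
  have hWn : ∀ w ∈ W, c * w * c⁻¹ ∈ W := fun w hw => by
    rw [← hSW] at hw ⊢; exact (inferInstance : (S : Subgroup H).Normal).conj_mem w hw c
  have hc3 : c ^ 3 = 1 := by
    refine hint' _ (hWS (hCW _ fun w hw => ?_)) (pow_mem (Subgroup.mem_zpowers c) 3)
    let X := {w : H // w ∈ W ∧ w ≠ 1}
    have hX : Nat.card X = 3 := by
      have h1 : Nat.card {w : H // w ∈ W} = Nat.card X + 1 := by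
        rw [← Finite.card_option]
        refine Nat.card_congr ((Equiv.optionSubtype (⟨1, one_mem W⟩ : {w : H // w ∈ W})).symm ?_).1.symm
        exact
          { toFun := fun a => ⟨⟨a.1, a.2.1⟩, fun e => a.2.2 (congrArg Subtype.val e)⟩
            invFun := fun a => ⟨a.1, a.1.2, fun e => a.2 (Subtype.ext e)⟩
            left_inv := fun a => rfl
            right_inv := fun a => rfl }
      have : Nat.card {w : H // w ∈ W} = 4 := hW4
      omega
    let σ : Equiv.Perm X := Equiv.ofBijective (fun a => ⟨c * a.1 * c⁻¹, hWn _ a.2.1, fun e => a.2.2 (by simpa using e)⟩)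
      (Finite.injective_iff_bijective.mp fun a b hab => Subtype.ext (mul_left_cancel (mul_right_cancel (congrArg Subtype.val hab))))
    have hσ : ∀ (i : ℕ) (a : X), ((σ ^ i) a).1 = c ^ i * a.1 * (c ^ i)⁻¹ := by
      intro i a
      induction i with
      | zero => simp
      | succ i ih =>
        rw [pow_succ', Equiv.Perm.mul_apply]
        show c * ((σ ^ i) a).1 * c⁻¹ = _
        rw [ih, pow_succ']; group
    have hord : orderOf σ ∣ orderOf c := orderOf_dvd_of_pow_eq_one (Equiv.ext fun a => Subtype.ext (by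
      rw [hσ, pow_orderOf_eq_one]; simp))
    have h6 : orderOf σ ∣ 6 := by
      have := orderOf_dvd_natCard σ
      rwa [Nat.card_perm, hX] at this
    have h3 : orderOf σ ∣ 3 := by
      have hodd : ¬ 2 ∣ orderOf σ := fun h => hc2 (h.trans hord)
      exact (Nat.Coprime.dvd_of_dvd_mul_left ((Nat.prime_two.coprime_iff_not_dvd.mpr hodd).symm) (by norm_num; exact h6))
    by_cases hw1 : w = 1
    · rw [hw1, mul_one, one_mul]
    have := congrArg Subtype.val (Equiv.ext_iff.mp (orderOf_dvd_iff_pow_eq_one.mp h3) (⟨w, hw, hw1⟩ : X))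
    rw [hσ] at this
    exact mul_inv_eq_iff_eq_mul.mp this
  have hco : orderOf c = 3 := orderOf_eq_prime hc3 fun e => hcen (by subst e; simp)
  have h12 : Nat.card H = 12 := by rw [hcard, hco, hSW, hW4]
  have hker : (MulAction.toPermHom H (H ⧸ Subgroup.zpowers c)).ker = ⊥ := by
    rw [← Subgroup.normalCore_eq_ker]
    refine (Subgroup.bot_or_exists_ne_one _).resolve_right ?_
    rintro ⟨x, hx, hx1⟩
    have hxc := Subgroup.normalCore_le _ hx
    have hnc : (Subgroup.zpowers c).normalCore = Subgroup.zpowers c := by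
      refine Subgroup.eq_of_le_of_card_ge (Subgroup.normalCore_le _) ?_
      rw [Nat.card_zpowers, hco]
      have := Subgroup.card_dvd_of_le (Subgroup.normalCore_le (Subgroup.zpowers c))
      rw [Nat.card_zpowers, hco, Nat.dvd_prime Nat.prime_three] at this
      rcases this with h | h
      · exact absurd (Subgroup.eq_bot_of_card_eq _ h ▸ hx) (by simpa using hx1)
      · rw [h]
    haveI : (Subgroup.zpowers c).Normal := hnc ▸ Subgroup.normalCore_normal _
    exact hcen fun w hw => Subgroup.commute_of_normal_of_disjoint _ _ inferInstance (hSW ▸ inferInstance)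
      (disjoint_iff.mpr (by rw [inf_comm, ← hSW]; exact hint)) c w (Subgroup.mem_zpowers c) hw
  have hinj := (MonoidHom.ker_eq_bot_iff _).mp hker
  have h4 : Nat.card (H ⧸ Subgroup.zpowers c) = 4 := by
    have := Subgroup.card_eq_card_quotient_mul_card_subgroup (Subgroup.zpowers c)
    rw [h12, Nat.card_zpowers, hco] at this
    omega
  obtain ⟨b⟩ := Finite.card_eq.mp (show Nat.card (H ⧸ Subgroup.zpowers c) = Nat.card (Fin 4) by rw [h4, Nat.card_fin])
  let ψ : H →* Equiv.Perm (Fin 4) := b.permCongrHom.toMonoidHom.comp (MulAction.toPermHom H (H ⧸ Subgroup.zpowers c))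
  have hψ : Function.Injective ψ := b.permCongrHom.injective.comp hinj
  have hrange : ψ.range = alternatingGroup (Fin 4) := by
    apply Equiv.Perm.eq_alternatingGroup_of_index_eq_two
    have := ψ.range.card_mul_index
    rw [← Nat.card_congr (MonoidHom.ofInjective hψ).toEquiv, h12, Nat.card_perm, Nat.card_fin] at this
    norm_num [Nat.factorial] at this
    omega
  exact ⟨(MonoidHom.ofInjective hψ).trans (MulEquiv.subgroupCongr hrange)⟩

end Cfsg.Agent.S4083
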