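import Cfsg.Statements.S4084
import Mathlib.GroupTheory.Sylow
import Mathlib.GroupTheory.OrderOfElement
import Mathlib.GroupTheory.Perm.Cycle.Type
import Mathlib.GroupTheory.Index

set_option autoImplicit false
open Cfsg

namespace Cfsg.Agent.S4084

variable {G H : Type*} [Group G] [Finite G] [Group H] [Finite H]

theorem exists_mem_maximal_clique (g : G) :
    ∃ A : Subgroup G, g ∈ A ∧ (∀ a ∈ A, ∀ b ∈ A, Commute a b) ∧
      ∀ x : G, (∀ a ∈ A, Commute x a) → x ∈ A := by
  obtain ⟨A, hgA, hAc, hAmax⟩ := Finite.exists_le_maximal (α := Subgroup G)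
    (p := fun A => ∀ a ∈ A, ∀ b ∈ A, Commute a b) (a := Subgroup.zpowers g)
    (fun a ha b hb => by
      obtain ⟨i, rfl⟩ := Subgroup.mem_zpowers_iff.mp ha
      obtain ⟨j, rfl⟩ := Subgroup.mem_zpowers_iff.mp hb
      exact (Commute.refl g).zpow_zpow i j)
  refine ⟨A, hgA (Subgroup.mem_zpowers g), hAc, fun x hx => ?_⟩
  have hc : IsMulCommutative (Subgroup.closure ((A : Set G) ∪ {x})) := by
    apply Subgroup.isMulCommutative_closure
    intro a ha b hb
    rcases ha with ha | rfl <;> rcases hb with hb | rfl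
    · exact (hAc a ha b hb).eq
    · exact (hx a ha).symm.eq
    · exact (hx b hb).eq
    · rfl
  have hle : A ≤ Subgroup.closure ((A : Set G) ∪ {x}) := fun a ha => Subgroup.subset_closure (Or.inl ha)
  exact hAmax (fun a ha b hb => congrArg Subtype.val (hc.is_comm.comm ⟨a, ha⟩ ⟨b, hb⟩)) hle
    (Subgroup.subset_closure (Or.inr rfl))

theorem forward (e : G ≃ H) (he : ∀ x y : G, Commute x y ↔ Commute (e x) (e y))
    {p q : ℕ} (hp : p.Prime) (hq : q.Prime) (hpq : p ≠ q) (h : ∃ g : G, orderOf g = p * q) :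
    ∃ h : H, orderOf h = p * q := by
  obtain ⟨g, hg⟩ := h
  obtain ⟨A, hgA, hAc, hAmax⟩ := exists_mem_maximal_clique g
  -- the image of `A` is a subgroup
  let B : Subgroup H :=
    { carrier := e '' A
      one_mem' := ⟨e.symm 1, hAmax _ fun a _ => by rw [he]; simp, by simp⟩
      mul_mem' := by
        rintro _ _ ⟨a, ha, rfl⟩ ⟨b, hb, rfl⟩
        refine ⟨e.symm (e a * e b), hAmax _ fun c hc => ?_, by simp⟩
        rw [he, e.apply_symm_apply]
        exact ((he a c).mp (hAc a ha c hc)).mul_left ((he b c).mp (hAc b hb c hc))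
      inv_mem' := by
        rintro _ ⟨a, ha, rfl⟩
        refine ⟨e.symm (e a)⁻¹, hAmax _ fun c hc => ?_, by simp⟩
        rw [he, e.apply_symm_apply]
        exact ((he a c).mp (hAc a ha c hc)).inv_left }
  have hcard : Nat.card B = Nat.card A := Nat.card_congr (e.image (A : Set G)).symm
  have hBc : ∀ x ∈ B, ∀ y ∈ B, Commute x y := by
    rintro _ ⟨a, ha, rfl⟩ _ ⟨b, hb, rfl⟩
    exact (he a b).mp (hAc a ha b hb)
  have hdvd : p * q ∣ Nat.card B := by
    have := orderOf_dvd_natCard (⟨g, hgA⟩ : A)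
    rwa [Subgroup.orderOf_mk, hg, ← hcard] at this
  have : Fact p.Prime := ⟨hp⟩
  have : Fact q.Prime := ⟨hq⟩
  obtain ⟨x, hx⟩ := exists_prime_orderOf_dvd_card' p ((dvd_mul_right p q).trans hdvd)
  obtain ⟨y, hy⟩ := exists_prime_orderOf_dvd_card' q ((dvd_mul_left q p).trans hdvd)
  refine ⟨(x : H) * y, ?_⟩
  rw [(hBc x x.2 y y.2).orderOf_mul_eq_mul_orderOf_of_coprime, Subgroup.orderOf_coe,
    Subgroup.orderOf_coe, hx, hy]
  rw [Subgroup.orderOf_coe, Subgroup.orderOf_coe, hx, hy]
  exact (Nat.coprime_primes hp hq).mpr hpq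

/-- Let G and H be finite groups whose commuting graphs are isomorphic: there is a bijection e : G → H with x, y commuting exactly when e(x), e(y) commute. Then G and H have the same prime graph: for distinct primes p, q, G has an element of order pq if and only if H does (and #G = #H, so the prime divisors agree). -/
theorem result {G H : Type*} [Group G] [Finite G] [Group H] [Finite H] (e : G ≃ H)
    (he : ∀ x y : G, Commute x y ↔ Commute (e x) (e y))
    {p q : ℕ} (hp : p.Prime) (hq : q.Prime) (hpq : p ≠ q) :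
    (∃ g : G, orderOf g = p * q) ↔ (∃ h : H, orderOf h = p * q) := by
  refine ⟨forward e he hp hq hpq, forward e.symm (fun x y => ?_) hp hq hpq⟩
  simpa using (he (e.symm x) (e.symm y)).symm

end Cfsg.Agent.S4084
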