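import Cfsg.Statements.S4085
import Mathlib.GroupTheory.SpecificGroups.Cyclic
import Mathlib.Data.Nat.Factorization.PrimePow
import Mathlib.FieldTheory.Finite.Basic

set_option autoImplicit false
open Cfsg

namespace Cfsg.Agent.S4085

/-- one of the two elements is a power of the other -/
def Comp {G : Type*} [Group G] (a b : G) : Prop :=
  a ∈ Subgroup.zpowers b ∨ b ∈ Subgroup.zpowers a

/-- at least two different primes divide `n` -/
def TwoPrimes (n : ℕ) : Prop :=
  ∃ p q : ℕ, p.Prime ∧ q.Prime ∧ p ≠ q ∧ p ∣ n ∧ q ∣ n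

theorem comp_self {G : Type*} [Group G] (a : G) : Comp a a := Or.inl (Subgroup.mem_zpowers a)

theorem comp_symm {G : Type*} [Group G] {a b : G} (h : Comp a b) : Comp b a := h.symm

theorem comp_one {G : Type*} [Group G] (a : G) : Comp (1 : G) a := Or.inl (one_mem _)

theorem not_twoPrimes {d : ℕ} (h1 : d ≠ 1) (hpos : 0 < d) (h : ¬ TwoPrimes d) :
    ∃ r j : ℕ, r.Prime ∧ 0 < j ∧ d = r ^ j := by
  obtain ⟨r, hr, hrd⟩ := Nat.exists_prime_and_dvd h1
  refine ⟨r, d.primeFactorsList.length, hr, ?_, ?_⟩
  · rw [List.length_pos_iff, Ne, Nat.primeFactorsList_eq_nil]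
    omega
  · apply Nat.eq_prime_pow_of_unique_prime_dvd hpos.ne'
    intro q hq hqd
    by_contra hne
    exact h ⟨q, r, hq, hr, hne, hqd, hrd⟩

theorem not_dvd_prime_pow_of_two {d r j : ℕ} (hr : r.Prime) (h : TwoPrimes d) : ¬ d ∣ r ^ j := by
  obtain ⟨p, q, hp, hq, hpq, hpd, hqd⟩ := h
  intro hd
  exact hpq ((Nat.prime_dvd_prime_iff_eq hp hr).mp (hp.dvd_of_dvd_pow (hpd.trans hd))
    |>.trans ((Nat.prime_dvd_prime_iff_eq hq hr).mp (hq.dvd_of_dvd_pow (hqd.trans hd))).symm)

theorem twoPrimes_other {d : ℕ} (h : TwoPrimes d) (r : ℕ) : ∃ q, q.Prime ∧ q ≠ r ∧ q ∣ d := by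
  obtain ⟨p, q, hp, hq, hpq, hpd, hqd⟩ := h
  by_cases hpr : p = r
  · exact ⟨q, hq, fun h' => hpq (hpr.trans h'.symm), hqd⟩
  · exact ⟨p, hp, hpr, hpd⟩

section group
variable {G : Type*} [Group G] [Finite G]

theorem mem_of_ord_dvd {a b c : G} (ha : a ∈ Subgroup.zpowers c) (hb : b ∈ Subgroup.zpowers c)
    (hd : orderOf a ∣ orderOf b) : a ∈ Subgroup.zpowers b := by
  classical
  letI : Fintype (Subgroup.zpowers c) := Fintype.ofFinite _
  letI : Fintype (Subgroup.zpowers (⟨b, hb⟩ : Subgroup.zpowers c)) := Fintype.ofFinite _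
  set a' : Subgroup.zpowers c := ⟨a, ha⟩ with ha'
  set b' : Subgroup.zpowers c := ⟨b, hb⟩ with hb'
  have hsub : (Finset.univ.filter fun g => g ∈ Subgroup.zpowers b') ⊆
      (Finset.univ.filter fun g : Subgroup.zpowers c => g ^ orderOf b = 1) := by
    intro g hg
    simp only [Finset.mem_filter, Finset.mem_univ, true_and] at hg ⊢
    apply orderOf_dvd_iff_pow_eq_one.mp
    have := orderOf_dvd_of_mem_zpowers hg
    rwa [show orderOf b' = orderOf b from (Subgroup.orderOf_coe b').symm] at this
  have hcard := IsCyclic.card_pow_eq_one_le (α := Subgroup.zpowers c) (orderOf_pos b)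
  have hb2 : (Finset.univ.filter fun g => g ∈ Subgroup.zpowers b').card = orderOf b := by
    rw [← Fintype.card_subtype, ← Nat.card_eq_fintype_card, show orderOf b = orderOf b' from
      Subgroup.orderOf_coe b', ← Nat.card_zpowers b']
  have heq := Finset.eq_of_subset_of_card_le hsub (by rw [hb2]; exact hcard)
  have hmem : a' ∈ Finset.univ.filter fun g : Subgroup.zpowers c => g ^ orderOf b = 1 := by
    simp only [Finset.mem_filter, Finset.mem_univ, true_and]
    apply Subtype.ext
    rw [Subgroup.coe_pow, Subgroup.coe_one]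
    exact orderOf_dvd_iff_pow_eq_one.mp hd
  rw [← heq] at hmem
  simp only [Finset.mem_filter, Finset.mem_univ, true_and] at hmem
  obtain ⟨k, hk⟩ := Subgroup.mem_zpowers_iff.mp hmem
  exact Subgroup.mem_zpowers_iff.mpr ⟨k, by
    have := congrArg Subtype.val hk
    simpa using this⟩

theorem comp_iff_dvd {a b c : G} (ha : a ∈ Subgroup.zpowers c) (hb : b ∈ Subgroup.zpowers c) :
    Comp a b ↔ (orderOf a ∣ orderOf b ∨ orderOf b ∣ orderOf a) := by
  constructor
  · rintro (h | h)
    · exact Or.inl (orderOf_dvd_of_mem_zpowers h)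
    · exact Or.inr (orderOf_dvd_of_mem_zpowers h)
  · rintro (h | h)
    · exact Or.inl (mem_of_ord_dvd ha hb h)
    · exact Or.inr (mem_of_ord_dvd hb ha h)

theorem exists_ord {c : G} {d : ℕ} (h : d ∣ orderOf c) :
    ∃ a ∈ Subgroup.zpowers c, orderOf a = d :=
  ⟨c ^ (orderOf c / d), Subgroup.pow_mem _ (Subgroup.mem_zpowers c) _,
    orderOf_pow_orderOf_div (orderOf_pos c).ne' h⟩

theorem mem_symm_of_ord {a b : G} (h : a ∈ Subgroup.zpowers b) (ho : orderOf a = orderOf b) :
    b ∈ Subgroup.zpowers a :=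
  mem_of_ord_dvd (Subgroup.mem_zpowers b) h (dvd_of_eq ho.symm)

/-- elements generating the same cyclic subgroup have the same neighbours -/
theorem comp_congr {a b : G} (h₁ : a ∈ Subgroup.zpowers b) (h₂ : b ∈ Subgroup.zpowers a) (u : G) :
    Comp a u ↔ Comp b u := by
  have hz : Subgroup.zpowers a = Subgroup.zpowers b :=
    le_antisymm (Subgroup.zpowers_le.mpr h₁) (Subgroup.zpowers_le.mpr h₂)
  have hh : ∀ v : G, a ∈ Subgroup.zpowers v ↔ b ∈ Subgroup.zpowers v := fun v => by
    rw [← Subgroup.zpowers_le, ← Subgroup.zpowers_le, hz]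
  simp only [Comp, hh u, hz]

/-- a proper multiple of an element with two prime divisors -/
theorem exists_not_comp_of_two {y w : G} (hy : TwoPrimes (orderOf y))
    (hw : w ∉ Subgroup.zpowers y) (hyw : y ∈ Subgroup.zpowers w) :
    ∃ u ∈ Subgroup.zpowers w, ¬ Comp u y := by
  have hnd : ¬ orderOf w ∣ orderOf y := fun h => hw (mem_of_ord_dvd (Subgroup.mem_zpowers w) hyw h)
  rw [Nat.dvd_iff_prime_pow_dvd_dvd] at hnd
  push Not at hnd
  obtain ⟨s, k, hs, hsk, hsky⟩ := hnd
  obtain ⟨u, hu, huo⟩ := exists_ord hsk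
  refine ⟨u, hu, ?_⟩
  rintro (h | h)
  · exact hsky (huo ▸ orderOf_dvd_of_mem_zpowers h)
  · exact not_dvd_prime_pow_of_two hs hy (huo ▸ orderOf_dvd_of_mem_zpowers h)

/-- a prime power element and a multiple with two prime divisors -/
theorem exists_not_comp_of_pp {y w : G} {r a : ℕ} (hr : r.Prime) (ha : 0 < a)
    (hy : orderOf y = r ^ a) (hw : TwoPrimes (orderOf w)) :
    ∃ u ∈ Subgroup.zpowers w, ¬ Comp u y := by
  obtain ⟨q, hq, hqr, hqw⟩ := twoPrimes_other hw r
  obtain ⟨u, hu, huo⟩ := exists_ord hqw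
  refine ⟨u, hu, ?_⟩
  rintro (h | h)
  · have := orderOf_dvd_of_mem_zpowers h
    rw [huo, hy] at this
    exact hqr ((Nat.prime_dvd_prime_iff_eq hq hr).mp (hq.dvd_of_dvd_pow this))
  · have := orderOf_dvd_of_mem_zpowers h
    rw [huo, hy] at this
    exact hqr ((Nat.prime_dvd_prime_iff_eq hr hq).mp ((dvd_pow_self r ha.ne').trans this)).symm

/-- twins have the same number (one / several) of prime divisors -/
theorem twins_twoPrimes {y w : G} (hw1 : w ≠ 1) (hy : TwoPrimes (orderOf y))
    (hN : ∀ u, Comp y u ↔ Comp w u) : TwoPrimes (orderOf w) := by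
  by_contra hw
  obtain ⟨r, a, hr, ha, hwo⟩ :=
    not_twoPrimes (fun h => hw1 (orderOf_eq_one_iff.mp h)) (orderOf_pos w) hw
  rcases (hN w).mpr (comp_self w) with h | h
  · exact not_dvd_prime_pow_of_two hr hy (hwo ▸ orderOf_dvd_of_mem_zpowers h)
  · obtain ⟨u, hu, hnc⟩ := exists_not_comp_of_pp hr ha hwo hy
    exact hnc (comp_symm ((hN u).mp (Or.inr hu)))

/-- two twins with two prime divisors generate the same subgroup -/
theorem twins_same {y w : G} (hy : TwoPrimes (orderOf y)) (hw : TwoPrimes (orderOf w))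
    (hN : ∀ u, Comp y u ↔ Comp w u) : w ∈ Subgroup.zpowers y ∧ y ∈ Subgroup.zpowers w := by
  rcases (hN w).mpr (comp_self w) with h | h
  · refine ⟨?_, h⟩
    by_contra hwy
    obtain ⟨u, hu, hnc⟩ := exists_not_comp_of_two hy hwy h
    exact hnc (comp_symm ((hN u).mpr (Or.inr hu)))
  · refine ⟨h, ?_⟩
    by_contra hyw
    obtain ⟨u, hu, hnc⟩ := exists_not_comp_of_two hw hyw h
    exact hnc (comp_symm ((hN u).mp (Or.inr hu)))

/-- generators of a cyclic subgroup of given order -/
noncomputable def level (x : G) (k : ℕ) : Finset G := by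
  classical
  letI : Fintype G := Fintype.ofFinite G
  exact Finset.univ.filter fun t => t ∈ Subgroup.zpowers x ∧ orderOf t = k

theorem mem_level {x t : G} {k : ℕ} :
    t ∈ level x k ↔ t ∈ Subgroup.zpowers x ∧ orderOf t = k := by
  classical
  letI : Fintype G := Fintype.ofFinite G
  simp [level]

theorem card_level {x : G} {k : ℕ} (hk : k ∣ orderOf x) :
    (level x k).card = Nat.totient k := by
  classical
  letI : Fintype G := Fintype.ofFinite G
  have h := IsCyclic.card_orderOf_eq_totient (α := Subgroup.zpowers x) (d := k)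
    (by rw [← Nat.card_eq_fintype_card, Nat.card_zpowers]; exact hk)
  rw [← h, ← Finset.card_map (Function.Embedding.subtype _)]
  congr 1
  ext t
  simp only [mem_level, Finset.mem_map, Finset.mem_filter, Finset.mem_univ, true_and,
    Function.Embedding.coe_subtype]
  constructor
  · rintro ⟨ht, hto⟩
    exact ⟨⟨t, ht⟩, by rw [← Subgroup.orderOf_coe]; exact hto, rfl⟩
  · rintro ⟨⟨s, hs⟩, hso, rfl⟩
    exact ⟨hs, by rw [← hso, ← Subgroup.orderOf_coe]⟩

end group

/-- two divisors of `n` comparable with the same divisors of `n` -/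
theorem twin_nat_two {n k k' : ℕ} (hk : k ∣ n) (hk' : k' ∣ n) (hk1' : k' ≠ 1) (hn0 : 0 < n)
    (h : TwoPrimes k) (hT : ∀ d, d ∣ n → ((k ∣ d ∨ d ∣ k) ↔ (k' ∣ d ∨ d ∣ k'))) : k' = k := by
  have hpos' : 0 < k' := Nat.pos_of_dvd_of_pos hk' hn0
  have big : ∀ a b : ℕ, a ∣ b → b ∣ n → TwoPrimes a →
      (∀ d, d ∣ n → ((b ∣ d ∨ d ∣ b) → (a ∣ d ∨ d ∣ a))) → b ∣ a := by
    intro a b hab hbn ha hT'
    rw [Nat.dvd_iff_prime_pow_dvd_dvd]
    intro s i hs hsi
    rcases hT' _ (hsi.trans hbn) (Or.inr hsi) with h' | h'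
    · exact absurd h' (not_dvd_prime_pow_of_two hs ha)
    · exact h'
  by_cases h2 : TwoPrimes k'
  · rcases (hT k hk).mp (Or.inl dvd_rfl) with h' | h'
    · exact Nat.dvd_antisymm h' (big k' k h' hk h2 fun d hd => (hT d hd).mp)
    · exact Nat.dvd_antisymm (big k k' h' hk' h fun d hd => (hT d hd).mpr) h'
  · exfalso
    obtain ⟨r, a, hr, ha, hwo⟩ := not_twoPrimes hk1' hpos' h2
    obtain ⟨q, hq, hqr, hqk⟩ := twoPrimes_other h r
    subst hwo
    rcases (hT q (hqk.trans hk)).mp (Or.inr hqk) with h' | h'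
    · exact hqr ((Nat.prime_dvd_prime_iff_eq hr hq).mp ((dvd_pow_self r ha.ne').trans h')).symm
    · exact hqr ((Nat.prime_dvd_prime_iff_eq hq hr).mp (hq.dvd_of_dvd_pow h'))

theorem twin_nat_pp {n k k' p i e : ℕ} (hp : p.Prime) (hi : 0 < i) (hkp : k = p ^ i)
    (hk : k ∣ n) (hk' : k' ∣ n) (hk1' : k' ≠ 1) (hn : TwoPrimes n) (hn0 : 0 < n)
    (he : p ^ e ∣ n) (he' : ¬ p ^ (e + 1) ∣ n)
    (hT : ∀ d, d ∣ n → ((k ∣ d ∨ d ∣ k) ↔ (k' ∣ d ∨ d ∣ k'))) :
    ∃ j, k' = p ^ j ∧ j ≤ e ∧ (i = e ↔ j = e) := by
  have hpos' : 0 < k' := Nat.pos_of_dvd_of_pos hk' hn0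
  have hk1 : k ≠ 1 := by
    rw [hkp]
    exact (Nat.one_lt_pow hi.ne' hp.one_lt).ne'
  have h2 : ¬ TwoPrimes k' := fun h => by
    have := twin_nat_two hk' hk hk1 hn0 h fun d hd => (hT d hd).symm
    rw [← this, hkp] at h
    exact not_dvd_prime_pow_of_two hp h dvd_rfl
  obtain ⟨r, a, hr, ha, hwo⟩ := not_twoPrimes hk1' hpos' h2
  have hrp : r = p := by
    rcases (hT k hk).mp (Or.inl dvd_rfl) with h' | h'
    · rw [hkp, hwo] at h'
      exact (Nat.prime_dvd_prime_iff_eq hr hp).mp (hr.dvd_of_dvd_pow ((dvd_pow_self r ha.ne').trans h'))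
    · rw [hkp, hwo] at h'
      exact ((Nat.prime_dvd_prime_iff_eq hp hr).mp (hp.dvd_of_dvd_pow ((dvd_pow_self p hi.ne').trans h'))).symm
  subst hrp
  have hle : ∀ b, r ^ b ∣ n → b ≤ e := fun b hb => by
    by_contra hlt
    exact he' ((Nat.pow_dvd_pow r (by omega)).trans hb)
  have hie : i ≤ e := hle i (hkp ▸ hk)
  have hae : a ≤ e := hle a (hwo ▸ hk')
  obtain ⟨q, hq, hqp, hqn⟩ := twoPrimes_other hn r
  have key : ∀ b c : ℕ, r ^ b ∣ n → b < e → c = e →
      (∀ d, d ∣ n → ((r ^ b ∣ d ∨ d ∣ r ^ b) → (r ^ c ∣ d ∨ d ∣ r ^ c))) → False := by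
    intro b c hb hbe hce hT'
    have hcop : Nat.Coprime (r ^ b) q := Nat.Coprime.pow_left _ ((Nat.coprime_primes hr hq).mpr hqp.symm)
    have hd : r ^ b * q ∣ n := hcop.mul_dvd_of_dvd_of_dvd hb hqn
    rcases hT' _ hd (Or.inl (dvd_mul_right _ _)) with h' | h'
    · have hcop' : Nat.Coprime (r ^ c) q := Nat.Coprime.pow_left _ ((Nat.coprime_primes hr hq).mpr hqp.symm)
      have := (Nat.pow_dvd_pow_iff_le_right hr.one_lt).mp (hcop'.dvd_of_dvd_mul_right h')
      omega
    · exact hqp ((Nat.prime_dvd_prime_iff_eq hq hr).mp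
        (hq.dvd_of_dvd_pow ((dvd_mul_left q _).trans h')))
  subst hkp hwo
  refine ⟨a, rfl, hae, ?_, ?_⟩
  · intro hh
    by_contra hne
    exact key a i hk' (by omega) hh fun d hd => (hT d hd).mpr
  · intro hh
    by_contra hne
    exact key i a hk (by omega) hh fun d hd => (hT d hd).mp

theorem eq_two_mul_of_totient_le {n k : ℕ} (hn : 0 < n) (hk : k ∣ n) (hne : k ≠ n)
    (h : Nat.totient n ≤ Nat.totient k) : n = 2 * k := by
  obtain ⟨c, rfl⟩ := hk
  have hc : 0 < c := Nat.pos_of_ne_zero fun h' => by simp [h'] at hn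
  have hk0 : 0 < Nat.totient k := Nat.totient_pos.mpr (Nat.pos_of_ne_zero fun h' => by simp [h'] at hn)
  have h1 := Nat.totient_super_multiplicative k c
  have h2 : Nat.totient c ≤ 1 := by
    by_contra hlt
    have : Nat.totient k * 2 ≤ Nat.totient k * Nat.totient c := Nat.mul_le_mul_left _ (by omega)
    omega
  have h3 : Nat.totient c = 1 := le_antisymm h2 (Nat.totient_pos.mpr hc)
  rcases Nat.totient_eq_one_iff.mp h3 with rfl | rfl
  · exact absurd (mul_one k).symm hne
  · exact mul_comm k 2

/-- the closed neighbourhood of a maximal cyclic subgroup determines its order -/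
theorem orderOf_image {G H : Type*} [Group G] [Finite G] [Group H] [Finite H] (e : G ≃ H)
    (he : ∀ a b : G, Comp a b ↔ Comp (e a) (e b)) {x : G}
    (hmax : ∀ z, x ∈ Subgroup.zpowers z → z ∈ Subgroup.zpowers x)
    (hn : TwoPrimes (orderOf x)) (hy1 : e x ≠ 1) : orderOf (e x) = orderOf x := by
  classical
  letI : Fintype G := Fintype.ofFinite G
  letI : Fintype H := Fintype.ofFinite H
  set n := orderOf x with hndef
  set y := e x with hydef
  have hn0 : 0 < n := orderOf_pos x
  have hnx : ∀ t, Comp x t ↔ t ∈ Subgroup.zpowers x := fun t =>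
    ⟨fun h => h.elim (hmax t) id, Or.inr⟩
  have hny : ∀ s, Comp y s ↔ e.symm s ∈ Subgroup.zpowers x := fun s => by
    rw [← hnx, he x (e.symm s), Equiv.apply_symm_apply]
  have hcardN : (Finset.univ.filter fun s => Comp y s).card = n := by
    rw [hndef, ← Nat.card_zpowers, Nat.card_eq_fintype_card, Fintype.card_subtype]
    exact Finset.card_equiv e.symm (fun s => by simp [hny])
  have huniv : ∀ t, (Comp x t ∧ ∀ u, Comp x u → Comp t u) ↔
      (t = 1 ∨ t ∈ level x n) := by
    intro t
    constructor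
    · rintro ⟨ht, hu⟩
      rw [hnx] at ht
      rw [mem_level]
      by_contra hc
      push Not at hc
      have hto1 : orderOf t ≠ 1 := fun h => hc.1 (orderOf_eq_one_iff.mp h)
      have hton : orderOf t ≠ n := hc.2 ht
      have hnd : ¬ n ∣ orderOf t := fun h =>
        hton (Nat.dvd_antisymm (orderOf_dvd_of_mem_zpowers ht) h)
      by_cases h2 : TwoPrimes (orderOf t)
      · obtain ⟨u, hu', hnc⟩ := exists_not_comp_of_two h2
          (fun h => hnd (orderOf_dvd_of_mem_zpowers h)) ht
        exact hnc (comp_symm (hu u ((hnx u).mpr hu')))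
      · obtain ⟨r, a, hr, ha, hto⟩ := not_twoPrimes hto1 (orderOf_pos t) h2
        obtain ⟨u, hu', hnc⟩ := exists_not_comp_of_pp hr ha hto hn
        exact hnc (comp_symm (hu u ((hnx u).mpr hu')))
    · rintro (rfl | h)
      · exact ⟨(hnx _).mpr (one_mem _), fun u _ => comp_one u⟩
      · rw [mem_level] at h
        refine ⟨(hnx t).mpr h.1, fun u hu => ?_⟩
        exact (comp_congr h.1 (mem_symm_of_ord h.1 h.2) u).mpr hu
  set W := Finset.univ.filter fun s => Comp y s ∧ ∀ u, Comp y u → Comp s u with hW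
  have hWmem : ∀ s, s ∈ W ↔ (e.symm s = 1 ∨ e.symm s ∈ level x n) := by
    intro s
    rw [← huniv, hW]
    simp only [Finset.mem_filter, Finset.mem_univ, true_and]
    constructor
    · rintro ⟨h1, h2⟩
      refine ⟨(hnx _).mpr ((hny s).mp h1), fun u hu => ?_⟩
      rw [he (e.symm s) u, Equiv.apply_symm_apply]
      exact h2 _ ((he x u).mp hu)
    · rintro ⟨h1, h2⟩
      refine ⟨(hny s).mpr ((hnx _).mp h1), fun u hu => ?_⟩
      have := h2 (e.symm u) ((hnx _).mpr ((hny u).mp hu))
      rwa [he, Equiv.apply_symm_apply, Equiv.apply_symm_apply] at this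
  have hcardW : W.card = Nat.totient n + 1 := by
    rw [← card_level (x := x) (k := n) dvd_rfl]
    rw [show W.card = (insert 1 (level x n)).card from
      Finset.card_equiv e.symm (fun s => by simp [hWmem])]
    apply Finset.card_insert_of_notMem
    rw [mem_level, orderOf_one]
    rintro ⟨-, h⟩
    rw [← h] at hn
    exact not_dvd_prime_pow_of_two Nat.prime_two hn (one_dvd (2 ^ 1))
  have hgen : ∀ t, t ∈ level x n → ∀ u, Comp x u ↔ Comp t u := fun t ht u => by
    rw [mem_level] at ht
    exact (comp_congr ht.1 (mem_symm_of_ord ht.1 ht.2) u).symm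
  have htwin : ∀ s ∈ W, s ≠ 1 → ∀ u, Comp y u ↔ Comp s u := by
    intro s hs hs1 u
    rcases (hWmem s).mp hs with h | h
    · have h1W : (1 : H) ∈ W := by
        rw [hW]
        simp only [Finset.mem_filter, Finset.mem_univ, true_and]
        exact ⟨comp_symm (comp_one y), fun u _ => comp_one u⟩
      have ht0 : e.symm 1 ∈ level x n := ((hWmem 1).mp h1W).resolve_left fun h' =>
        hs1 (e.symm.injective (h.trans h'.symm))
      have hall : Comp y u := by
        have h' : Comp (e.symm 1) (e.symm u) := by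
          rw [he, Equiv.apply_symm_apply, Equiv.apply_symm_apply]
          exact comp_one u
        have := (he _ _).mp ((hgen _ ht0 _).mpr h')
        rwa [Equiv.apply_symm_apply] at this
      have hs' : Comp s u := by
        have := (he (e.symm s) (e.symm u)).mp (by rw [h]; exact comp_one _)
        rwa [Equiv.apply_symm_apply, Equiv.apply_symm_apply] at this
      simp [hall, hs']
    · have := hgen _ h (e.symm u)
      rwa [he, he, Equiv.apply_symm_apply, Equiv.apply_symm_apply] at this
  have hsameW : ∀ s, (∀ u, Comp y u ↔ Comp s u) → s ∈ W := fun s hs => by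
    rw [hW]
    simp only [Finset.mem_filter, Finset.mem_univ, true_and]
    exact ⟨(hs s).mpr (comp_self s), fun u hu => (hs u).mp hu⟩
  have hyW : y ∈ W := hsameW y fun _ => Iff.rfl
  -- elements in the neighbourhood of `y` which are not universal there
  have houtside : ∀ w, Comp y w → w ∉ W →
      e.symm w ∈ Subgroup.zpowers x ∧ orderOf (e.symm w) ≠ 1 ∧ orderOf (e.symm w) ≠ n := by
    intro w hw hwW
    have hmem := (hny w).mp hw
    refine ⟨hmem, fun h => hwW ((hWmem w).mpr (Or.inl (orderOf_eq_one_iff.mp h))), fun h => ?_⟩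
    exact hwW ((hWmem w).mpr (Or.inr (mem_level.mpr ⟨hmem, h⟩)))
  have hrel : ∀ w w', Comp y w → Comp y w' → (∀ u, Comp w u ↔ Comp w' u) →
      ∀ d, d ∣ n → ((orderOf (e.symm w) ∣ d ∨ d ∣ orderOf (e.symm w)) ↔
        (orderOf (e.symm w') ∣ d ∨ d ∣ orderOf (e.symm w'))) := by
    intro w w' hw hw' hww d hd
    obtain ⟨u, hu, huo⟩ := exists_ord hd
    rw [← huo, ← comp_iff_dvd ((hny w).mp hw) hu, ← comp_iff_dvd ((hny w').mp hw') hu,
      he, he, Equiv.apply_symm_apply, Equiv.apply_symm_apply]
    exact hww (e u)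
  have hy1' : orderOf y ≠ 1 := fun h => hy1 (orderOf_eq_one_iff.mp h)
  by_cases hy2 : TwoPrimes (orderOf y)
  · -- the order of `y` has two prime divisors
    set d := orderOf y with hd
    have hWeq : W = insert 1 (level y d) := by
      ext s
      simp only [Finset.mem_insert, mem_level]
      constructor
      · intro hs
        by_cases hs1 : s = 1
        · exact Or.inl hs1
        · right
          have hN := htwin s hs hs1
          obtain ⟨h1, h2⟩ := twins_same hy2 (twins_twoPrimes hs1 hy2 hN) hN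
          exact ⟨h1, Nat.dvd_antisymm (orderOf_dvd_of_mem_zpowers h1) (orderOf_dvd_of_mem_zpowers h2)⟩
      · rintro (rfl | ⟨h1, h2⟩)
        · rw [hW]
          simp only [Finset.mem_filter, Finset.mem_univ, true_and]
          exact ⟨comp_symm (comp_one y), fun u _ => comp_one u⟩
        · exact hsameW s fun u => (comp_congr h1 (mem_symm_of_ord h1 h2) u).symm
    have hphi : Nat.totient d = Nat.totient n := by
      have h1 : (1 : H) ∉ level y d := by
        rw [mem_level, orderOf_one]
        exact fun h => hy1' h.2.symm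
      have := hcardW
      rw [hWeq, Finset.card_insert_of_notMem h1, card_level dvd_rfl] at this
      rw [hd]
      omega
    set M := Finset.univ.filter fun w => Comp y w ∧ w ∉ Subgroup.zpowers y with hM
    rcases M.eq_empty_or_nonempty with hMe | ⟨w, hw⟩
    · rw [hd, ← Nat.card_zpowers, Nat.card_eq_fintype_card, Fintype.card_subtype, ← hcardN]
      congr 1
      ext s
      simp only [Finset.mem_filter, Finset.mem_univ, true_and]
      refine ⟨Or.inr, fun h => ?_⟩
      by_contra hs
      exact Finset.notMem_empty s (hMe ▸ (by rw [hM]; simp [h, hs]))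
    · exfalso
      have hMmem : ∀ s, s ∈ M ↔ Comp y s ∧ s ∉ Subgroup.zpowers y := fun s => by simp [hM]
      have hMW : ∀ s ∈ M, s ∉ W := by
        intro s hs hsW
        rw [hWeq, Finset.mem_insert, mem_level] at hsW
        rcases hsW with rfl | ⟨h, -⟩
        · exact ((hMmem _).mp hs).2 (one_mem _)
        · exact ((hMmem _).mp hs).2 h
      have hup : ∀ s ∈ M, y ∈ Subgroup.zpowers s := fun s hs =>
        (((hMmem s).mp hs).1).resolve_right ((hMmem s).mp hs).2
      have hclass : ∀ s ∈ M, level s (orderOf s) ⊆ M := by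
        intro s hs t ht
        rw [mem_level] at ht
        have hst := mem_symm_of_ord ht.1 ht.2
        rw [hMmem]
        refine ⟨comp_symm ((comp_congr ht.1 hst y).mpr (comp_symm ((hMmem s).mp hs).1)), ?_⟩
        intro hty
        exact ((hMmem s).mp hs).2 ((Subgroup.zpowers_le.mpr hty) hst)
      have hbig : ∀ s ∈ M, Nat.totient n ≤ (level s (orderOf s)).card := by
        intro s hs
        rw [card_level dvd_rfl, ← hphi]
        exact Nat.le_of_dvd (Nat.totient_pos.mpr (orderOf_pos s))
          (Nat.totient_dvd_of_dvd (orderOf_dvd_of_mem_zpowers (hup s hs)))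
      have hhalf : ∀ s ∈ M, n = 2 * orderOf (e.symm s) := by
        intro s hs
        obtain ⟨hsx, hs1, hsn⟩ := houtside s ((hMmem s).mp hs).1 (hMW s hs)
        set k := orderOf (e.symm s) with hk
        have hkn : k ∣ n := orderOf_dvd_of_mem_zpowers hsx
        apply eq_two_mul_of_totient_le hn0 hkn hsn
        have hT : ∀ t ∈ level s (orderOf s), e.symm t ∈ Subgroup.zpowers x ∧
            orderOf (e.symm t) ≠ 1 ∧ (∀ d, d ∣ n → ((k ∣ d ∨ d ∣ k) ↔
              (orderOf (e.symm t) ∣ d ∨ d ∣ orderOf (e.symm t)))) := by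
          intro t ht
          have htM := hclass s hs ht
          obtain ⟨h1, h2, -⟩ := houtside t ((hMmem t).mp htM).1 (hMW t htM)
          rw [mem_level] at ht
          exact ⟨h1, h2, hrel s t ((hMmem s).mp hs).1 ((hMmem t).mp htM).1
            fun u => (comp_congr ht.1 (mem_symm_of_ord ht.1 ht.2) u).symm⟩
        by_cases h2 : TwoPrimes k
        · rw [← card_level (x := x) hkn]
          refine (hbig s hs).trans (Finset.card_le_card_of_injOn e.symm ?_ e.symm.injective.injOn)
          intro t ht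
          obtain ⟨h1, h1', h3⟩ := hT t ht
          exact mem_level.mpr ⟨h1, twin_nat_two hkn (orderOf_dvd_of_mem_zpowers h1) h1' hn0 h2 h3⟩
        obtain ⟨p, i, hp, hi, hki⟩ := not_twoPrimes hs1 (orderOf_pos _) h2
        change k = p ^ i at hki
        set m := n.factorization p with hm
        have hmd : p ^ m ∣ n := Nat.ordProj_dvd n p
        have hmd' : ¬ p ^ (m + 1) ∣ n := Nat.pow_succ_factorization_not_dvd hn0.ne' hp
        have htw := fun t (ht : t ∈ level s (orderOf s)) =>
          twin_nat_pp hp hi hki hkn (orderOf_dvd_of_mem_zpowers (hT t ht).1) (hT t ht).2.1 hn hn0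
            hmd hmd' (hT t ht).2.2
        by_cases him : i = m
        · rw [← card_level (x := x) hkn]
          refine (hbig s hs).trans (Finset.card_le_card_of_injOn e.symm ?_ e.symm.injective.injOn)
          intro t ht
          obtain ⟨j, hj, -, hij⟩ := htw t ht
          exact mem_level.mpr ⟨(hT t ht).1, by rw [hj, hki, him, hij.mp him]⟩
        exfalso
        obtain ⟨q, hq, hqp, hqn⟩ := twoPrimes_other hn p
        have him' : i < m := by
          rcases Nat.lt_or_ge i (m + 1) with h' | h'
          · omega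
          · exact absurd ((Nat.pow_dvd_pow p h').trans (hki ▸ hkn)) hmd'
        obtain ⟨z, hz, hzo⟩ := exists_ord (c := x) (d := p ^ (m - 1))
          ((Nat.pow_dvd_pow p (Nat.sub_le m 1)).trans hmd)
        have hsmall : (level s (orderOf s)).card ≤ p ^ (m - 1) := by
          rw [← hzo, ← Nat.card_zpowers z, Nat.card_eq_fintype_card, Fintype.card_subtype]
          refine Finset.card_le_card_of_injOn e.symm ?_ e.symm.injective.injOn
          intro t ht
          obtain ⟨j, hj, hjm, hij⟩ := htw t ht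
          have hjm' : j ≤ m - 1 := by
            rcases eq_or_lt_of_le hjm with h' | h'
            · exact absurd (hij.mpr h') him
            · omega
          simp only [Finset.coe_filter, Finset.mem_univ, true_and, Set.mem_setOf_eq]
          exact mem_of_ord_dvd (hT t ht).1 hz (by rw [hj, hzo]; exact Nat.pow_dvd_pow p hjm')
        have hprod : Nat.totient (p ^ m * q) ∣ Nat.totient n :=
          Nat.totient_dvd_of_dvd ((Nat.Coprime.pow_left _
            ((Nat.coprime_primes hp hq).mpr hqp.symm)).mul_dvd_of_dvd_of_dvd hmd hqn)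
        rw [Nat.totient_mul (Nat.Coprime.pow_left _ ((Nat.coprime_primes hp hq).mpr hqp.symm)),
          Nat.totient_prime hq, Nat.totient_prime_pow hp (by omega)] at hprod
        have hle := Nat.le_of_dvd (Nat.totient_pos.mpr hn0) hprod
        have h2p := hp.two_le
        have h2q := hq.two_le
        have hpq2 : 2 ≤ (p - 1) * (q - 1) := by
          rcases Nat.lt_or_ge 2 p with hh | hh
          · have : 2 * 1 ≤ (p - 1) * (q - 1) := Nat.mul_le_mul (by omega) (by omega)
            omega
          · have : 1 * 2 ≤ (p - 1) * (q - 1) := Nat.mul_le_mul (by omega) (by omega)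
            omega
        have hgt : p ^ (m - 1) * 2 ≤ p ^ (m - 1) * (p - 1) * (q - 1) := by
          rw [mul_assoc]
          exact Nat.mul_le_mul_left _ hpq2
        have := hbig s hs
        have : 0 < p ^ (m - 1) := pow_pos hp.pos _
        omega
      have hMcard : M.card ≤ Nat.totient n := by
        obtain ⟨hwx, -, -⟩ := houtside w ((hMmem w).mp hw).1 (hMW w hw)
        have hkn : orderOf (e.symm w) ∣ n := orderOf_dvd_of_mem_zpowers hwx
        refine le_trans (le_trans (Finset.card_le_card_of_injOn e.symm ?_ e.symm.injective.injOn)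
          (card_level (x := x) hkn).le) (Nat.le_of_dvd (Nat.totient_pos.mpr hn0)
            (Nat.totient_dvd_of_dvd hkn))
        intro t ht
        refine mem_level.mpr ⟨(hny t).mp ((hMmem t).mp ht).1, ?_⟩
        have := hhalf t ht
        have := hhalf w hw
        omega
      have hone : M = level w (orderOf w) :=
        (Finset.eq_of_subset_of_card_le (hclass w hw) (hMcard.trans (hbig w hw))).symm
      refine hMW w hw ?_
      rw [hW]
      simp only [Finset.mem_filter, Finset.mem_univ, true_and]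
      refine ⟨((hMmem w).mp hw).1, fun u hu => ?_⟩
      by_cases huy : u ∈ Subgroup.zpowers y
      · exact Or.inr ((Subgroup.zpowers_le.mpr (hup w hw)) huy)
      · have : u ∈ level w (orderOf w) := hone ▸ (hMmem u).mpr ⟨hu, huy⟩
        exact Or.inr (mem_level.mp this).1
  · -- the order of `y` is a prime power: impossible
    exfalso
    obtain ⟨v, hvW, hvmax⟩ := Finset.exists_max_image W (fun s => orderOf s) ⟨y, hyW⟩
    have hv1 : v ≠ 1 := fun h => by
      have := hvmax y hyW
      rw [h, orderOf_one] at this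
      have := orderOf_pos y
      omega
    have hv := htwin v hvW hv1
    have hv2 : ¬ TwoPrimes (orderOf v) := fun h =>
      hy2 (twins_twoPrimes hy1 h fun u => (hv u).symm)
    obtain ⟨r, j, hr, hj, hvo⟩ :=
      not_twoPrimes (fun h => hv1 (orderOf_eq_one_iff.mp h)) (orderOf_pos v) hv2
    have hWeq : W = Finset.univ.filter fun s => s ∈ Subgroup.zpowers v := by
      ext s
      simp only [Finset.mem_filter, Finset.mem_univ, true_and]
      constructor
      · intro hs
        have hs' := hs
        rw [hW, Finset.mem_filter] at hs'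
        rcases (hv s).mp hs'.2.1 with h | h
        · exact mem_symm_of_ord h (le_antisymm (Nat.le_of_dvd (orderOf_pos s)
            (orderOf_dvd_of_mem_zpowers h)) (hvmax s hs))
        · exact h
      · intro hs
        rw [hW]
        simp only [Finset.mem_filter, Finset.mem_univ, true_and]
        refine ⟨(hv s).mpr (Or.inr hs), fun u hu => ?_⟩
        rcases (hv u).mp hu with h | h
        · exact Or.inl ((Subgroup.zpowers_le.mpr h) hs)
        · rw [comp_iff_dvd hs h]
          obtain ⟨a, -, ha⟩ := (Nat.dvd_prime_pow hr).mp (hvo ▸ orderOf_dvd_of_mem_zpowers hs)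
          obtain ⟨b, -, hb⟩ := (Nat.dvd_prime_pow hr).mp (hvo ▸ orderOf_dvd_of_mem_zpowers h)
          rw [ha, hb]
          exact (le_total a b).imp (Nat.pow_dvd_pow r) (Nat.pow_dvd_pow r)
    have hphi : Nat.totient n + 1 = r ^ j := by
      rw [← hcardW, ← hvo, ← Nat.card_zpowers, Nat.card_eq_fintype_card, Fintype.card_subtype,
        hWeq]
    set A := Nat.totient (r ^ j) with hA
    have hAdvd : ∀ p, p.Prime → p ∣ n → A ∣ Nat.totient (p ^ n.factorization p) := by
      intro p hp hpn
      set m := n.factorization p with hm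
      have hm0 : 0 < m := hp.factorization_pos_of_dvd hn0.ne' hpn
      have hmd : p ^ m ∣ n := Nat.ordProj_dvd n p
      have hmd' : ¬ p ^ (m + 1) ∣ n := Nat.pow_succ_factorization_not_dvd hn0.ne' hp
      set T := (level x (p ^ m)).image e with hT
      have hTmem : ∀ s, s ∈ T ↔ Comp y s ∧ orderOf (e.symm s) = p ^ m := by
        intro s
        rw [hT, hny]
        simp only [Finset.mem_image, mem_level]
        constructor
        · rintro ⟨t, ht, rfl⟩
          simpa using ht
        · intro h
          exact ⟨e.symm s, h, e.apply_symm_apply s⟩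
      have hTW : ∀ s ∈ T, s ∉ W := by
        intro s hs hsW
        have ho := ((hTmem s).mp hs).2
        rcases (hWmem s).mp hsW with h | h
        · rw [h, orderOf_one] at ho
          exact (Nat.one_lt_pow hm0.ne' hp.one_lt).ne ho
        · rw [(mem_level.mp h).2] at ho
          exact not_dvd_prime_pow_of_two hp hn (dvd_of_eq ho)
      have hTclosed : ∀ s ∈ T, level s (orderOf s) ⊆ T := by
        intro s hs t ht
        rw [mem_level] at ht
        have hst := mem_symm_of_ord ht.1 ht.2
        have hc : ∀ u, Comp s u ↔ Comp t u := fun u => (comp_congr ht.1 hst u).symm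
        have hyt : Comp y t := comp_symm ((hc y).mp (comp_symm ((hTmem s).mp hs).1))
        refine (hTmem t).mpr ⟨hyt, ?_⟩
        have htW : t ∉ W := by
          intro htW
          rw [hWeq, Finset.mem_filter] at htW
          refine hTW s hs ?_
          rw [hWeq, Finset.mem_filter]
          exact ⟨Finset.mem_univ s, (Subgroup.zpowers_le.mpr htW.2) hst⟩
        obtain ⟨htx, ht1, -⟩ := houtside t hyt htW
        have ho := ((hTmem s).mp hs).2
        obtain ⟨j', hj', -, hij⟩ := twin_nat_pp hp hm0 ho (ho ▸ hmd) (orderOf_dvd_of_mem_zpowers htx)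
          ht1 hn hn0 hmd hmd' (hrel s t ((hTmem s).mp hs).1 hyt hc)
        rw [hj', hij.mp rfl]
      have hcardT : T.card = Nat.totient (p ^ m) := by
        rw [hT, Finset.card_image_of_injective _ e.injective, card_level hmd]
      rw [← hcardT, Finset.card_eq_sum_card_image (fun s => Subgroup.zpowers s) T]
      refine Finset.dvd_sum fun K hK => ?_
      obtain ⟨s, hs, rfl⟩ := Finset.mem_image.mp hK
      have hfib : (T.filter fun t => Subgroup.zpowers t = Subgroup.zpowers s) =
          level s (orderOf s) := by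
        ext t
        rw [Finset.mem_filter, mem_level]
        constructor
        · rintro ⟨-, h⟩
          exact ⟨h ▸ Subgroup.mem_zpowers t, by rw [← Nat.card_zpowers, h, Nat.card_zpowers]⟩
        · intro h
          refine ⟨hTclosed s hs (mem_level.mpr h), le_antisymm (Subgroup.zpowers_le.mpr h.1)
            (Subgroup.zpowers_le.mpr (mem_symm_of_ord h.1 h.2))⟩
      rw [hfib, card_level dvd_rfl, hA, ← hvo]
      have hvs : v ∈ Subgroup.zpowers s := by
        rcases (hv s).mp ((hTmem s).mp hs).1 with h | h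
        · exact h
        · refine absurd ?_ (hTW s hs)
          rw [hWeq]
          simp [h]
      exact Nat.totient_dvd_of_dvd (orderOf_dvd_of_mem_zpowers hvs)
    obtain ⟨p, q, hp, hq, hpq, hpn, hqn⟩ := hn
    have hcop : Nat.Coprime (p ^ n.factorization p) (q ^ n.factorization q) :=
      Nat.Coprime.pow _ _ ((Nat.coprime_primes hp hq).mpr hpq)
    have hAA : A * A ∣ Nat.totient n := by
      refine dvd_trans ?_ (Nat.totient_dvd_of_dvd (hcop.mul_dvd_of_dvd_of_dvd
        (Nat.ordProj_dvd n p) (Nat.ordProj_dvd n q)))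
      rw [Nat.totient_mul hcop]
      exact Nat.mul_dvd_mul (hAdvd p hp hpn) (hAdvd q hq hqn)
    rw [hA, Nat.totient_prime_pow hr hj] at hAA
    have h2r := hr.two_le
    have hn1 : 2 ≤ Nat.totient n := by
      by_contra hlt
      have h1 : Nat.totient n = 1 := by
        have := Nat.totient_pos.mpr hn0
        omega
      rcases Nat.totient_eq_one_iff.mp h1 with h' | h' <;> rw [h'] at hpn hqn
      · exact hp.ne_one (Nat.dvd_one.mp hpn)
      · exact hpq (((Nat.prime_dvd_prime_iff_eq hp Nat.prime_two).mp hpn).trans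
          ((Nat.prime_dvd_prime_iff_eq hq Nat.prime_two).mp hqn).symm)
    rcases Nat.lt_or_ge j 2 with hj2 | hj2
    · have hj1 : j = 1 := by omega
      subst hj1
      rw [pow_one] at hphi
      simp only [Nat.sub_self, pow_zero, one_mul] at hAA
      have hle := Nat.le_of_dvd (by omega) hAA
      have : 2 * (r - 1) ≤ (r - 1) * (r - 1) := Nat.mul_le_mul_right _ (by omega)
      omega
    · have h1 : r ∣ Nat.totient n := by
        refine dvd_trans ?_ hAA
        exact dvd_mul_of_dvd_left (dvd_mul_of_dvd_left (dvd_pow_self r (by omega)) _) _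
      have h2 : r ∣ Nat.totient n + 1 := hphi ▸ dvd_pow_self r (by omega)
      exact hr.ne_one (Nat.dvd_one.mp ((Nat.dvd_add_right h1).mp h2))

theorem forward {G H : Type*} [Group G] [Finite G] [Group H] [Finite H] (e : G ≃ H)
    (he : ∀ a b : G, Comp a b ↔ Comp (e a) (e b))
    {p q : ℕ} (hp : p.Prime) (hq : q.Prime) (hpq : p ≠ q)
    (hg : ∃ g : G, orderOf g = p * q) : ∃ h : H, orderOf h = p * q := by
  classical
  letI : Fintype G := Fintype.ofFinite G
  obtain ⟨g, hg⟩ := hg
  obtain ⟨x, hx, hxmax⟩ := Finset.exists_max_image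
    (Finset.univ.filter fun z => g ∈ Subgroup.zpowers z) (fun z => orderOf z)
    ⟨g, by simp [Subgroup.mem_zpowers]⟩
  simp only [Finset.mem_filter, Finset.mem_univ, true_and] at hx hxmax
  have hdvd : p * q ∣ orderOf x := hg ▸ orderOf_dvd_of_mem_zpowers hx
  have hn : TwoPrimes (orderOf x) :=
    ⟨p, q, hp, hq, hpq, (dvd_mul_right p q).trans hdvd, (dvd_mul_left q p).trans hdvd⟩
  have hmax : ∀ z, x ∈ Subgroup.zpowers z → z ∈ Subgroup.zpowers x := fun z hz =>
    mem_symm_of_ord hz (le_antisymm (Nat.le_of_dvd (orderOf_pos z) (orderOf_dvd_of_mem_zpowers hz))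
      (hxmax z ((Subgroup.zpowers_le.mpr hz) hx)))
  have hgen : ∃ x', orderOf x' = orderOf x ∧
      (∀ z, x' ∈ Subgroup.zpowers z → z ∈ Subgroup.zpowers x') ∧ e x' ≠ 1 := by
    by_cases h1 : e x = 1
    · refine ⟨x⁻¹, orderOf_inv x, fun z hz => ?_, fun h' => ?_⟩
      · rw [Subgroup.zpowers_inv]
        exact hmax z (by simpa using hz)
      · have hxx : x⁻¹ = x := e.injective (h'.trans h1.symm)
        have h2 : orderOf x ∣ 2 ^ 1 := by
          rw [pow_one, orderOf_dvd_iff_pow_eq_one, pow_two]
          nth_rewrite 1 [← hxx]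
          exact inv_mul_cancel x
        exact not_dvd_prime_pow_of_two Nat.prime_two hn h2
    · exact ⟨x, rfl, hmax, h1⟩
  obtain ⟨x', hx', hmax', hy⟩ := hgen
  have := orderOf_image e he hmax' (hx' ▸ hn) hy
  rw [hx'] at this
  obtain ⟨h, -, hh⟩ := exists_ord (c := e x') (this ▸ hdvd)
  exact ⟨h, hh⟩

/-- Let G and H be finite groups whose power graphs are isomorphic: there is a bijection e : G → H such that, for all x, y, one of x, y is a power of the other exactly when one of e(x), e(y) is a power of the other. Then G and H have the same prime graph: for distinct primes p, q, G has an element of order pq if and only if H does. -/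
theorem result {G H : Type*} [Group G] [Finite G] [Group H] [Finite H] (e : G ≃ H)
    (he : ∀ x y : G, (x ∈ Subgroup.zpowers y ∨ y ∈ Subgroup.zpowers x) ↔
      (e x ∈ Subgroup.zpowers (e y) ∨ e y ∈ Subgroup.zpowers (e x)))
    {p q : ℕ} (hp : p.Prime) (hq : q.Prime) (hpq : p ≠ q) :
    (∃ g : G, orderOf g = p * q) ↔ (∃ h : H, orderOf h = p * q) := by
  have he' : ∀ a b : H, Comp a b ↔ Comp (e.symm a) (e.symm b) := fun a b => by
    have := he (e.symm a) (e.symm b)
    rw [Equiv.apply_symm_apply, Equiv.apply_symm_apply] at this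
    exact this.symm
  exact ⟨forward e he hp hq hpq, forward e.symm he' hp hq hpq⟩

end Cfsg.Agent.S4085
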