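import Cfsg.Statements.S4086
import Mathlib.Data.Nat.Factorization.PrimePow
import Mathlib.GroupTheory.SpecificGroups.Cyclic

set_option autoImplicit false
open Cfsg

namespace Cfsg.Agent.S4086

/-- For a finite group G the following are equivalent: every non-identity element has prime-power order; whenever two elements generate a cyclic subgroup, one of them is a power of the other (the enhanced power graph of G coincides with its power graph). -/
theorem result {G : Type*} [Group G] [Finite G] :
    (∀ g : G, g ≠ 1 → IsPrimePow (orderOf g)) ↔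
    (∀ x y : G, IsCyclic ↥(Subgroup.closure ({x, y} : Set G)) → (x ∈ Subgroup.zpowers y ∨ y ∈ Subgroup.zpowers x)) := by
  constructor
  · intro h x y hcyc
    obtain ⟨g, hg⟩ := (Subgroup.isCyclic_iff_exists_zpowers_eq_top _).mp hcyc
    have hx : x ∈ Subgroup.zpowers g := hg ▸ Subgroup.subset_closure (by simp)
    have hy : y ∈ Subgroup.zpowers g := hg ▸ Subgroup.subset_closure (by simp)
    by_cases hg1 : g = 1
    · subst hg1
      simp only [Subgroup.zpowers_one_eq_bot, Subgroup.mem_bot] at hx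
      exact Or.inl (hx ▸ one_mem _)
    obtain ⟨p, k, hp, hk, hpk⟩ := h g hg1
    have hp' : p.Prime := hp.nat_prime
    have key : ∀ z ∈ Subgroup.zpowers g, ∃ i, i ≤ k ∧
        Subgroup.zpowers z = Subgroup.zpowers (g ^ p ^ i) := by
      intro z hz
      obtain ⟨n, rfl⟩ := (mem_powers_iff_mem_zpowers (x := g)).mpr hz
      obtain ⟨i, hi, hgcd⟩ := (Nat.dvd_prime_pow hp').mp
        (hpk ▸ Nat.gcd_dvd_right n (p ^ k) : Nat.gcd n (orderOf g) ∣ p ^ k)
      refine ⟨i, hi, le_antisymm ?_ ?_⟩
      · rw [Subgroup.zpowers_le, ← hgcd]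
        obtain ⟨c, hc⟩ := Nat.gcd_dvd_left n (orderOf g)
        exact ⟨c, by simp only [zpow_natCast, ← pow_mul]; rw [← hc]⟩
      · rw [Subgroup.zpowers_le, ← hgcd, Subgroup.mem_zpowers_iff]
        refine ⟨Nat.gcdA n (orderOf g), ?_⟩
        rw [← zpow_natCast g (Nat.gcd n (orderOf g)), Nat.gcd_eq_gcd_ab, zpow_add, zpow_mul,
          zpow_mul, zpow_natCast, zpow_natCast, pow_orderOf_eq_one, one_zpow, mul_one]
    obtain ⟨i, -, hi⟩ := key x hx
    obtain ⟨j, -, hj⟩ := key y hy
    rcases le_total i j with hij | hij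
    · right
      rw [hi]
      have : y ∈ Subgroup.zpowers (g ^ p ^ j) := hj ▸ Subgroup.mem_zpowers y
      refine (Subgroup.zpowers_le.mpr ?_) this
      obtain ⟨c, hc⟩ := Nat.pow_dvd_pow p hij
      rw [hc, pow_mul]
      exact Subgroup.pow_mem _ (Subgroup.mem_zpowers _) _
    · left
      rw [hj]
      have : x ∈ Subgroup.zpowers (g ^ p ^ i) := hi ▸ Subgroup.mem_zpowers x
      refine (Subgroup.zpowers_le.mpr ?_) this
      obtain ⟨c, hc⟩ := Nat.pow_dvd_pow p hij
      rw [hc, pow_mul]
      exact Subgroup.pow_mem _ (Subgroup.mem_zpowers _) _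
  · intro h g hg1
    have hn1 : orderOf g ≠ 1 := fun h' => hg1 (orderOf_eq_one_iff.mp h')
    rw [isPrimePow_iff_unique_prime_dvd]
    obtain ⟨p, hp, hpd⟩ := Nat.exists_prime_and_dvd hn1
    refine ⟨p, ⟨hp, hpd⟩, ?_⟩
    rintro q ⟨hq, hqd⟩
    by_contra hne
    set x := g ^ (orderOf g / q) with hx
    set y := g ^ (orderOf g / p) with hy
    have hox : orderOf x = q := orderOf_pow_orderOf_div (orderOf_pos g).ne' hqd
    have hoy : orderOf y = p := orderOf_pow_orderOf_div (orderOf_pos g).ne' hpd
    have hle : Subgroup.closure ({x, y} : Set G) ≤ Subgroup.zpowers g := by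
      rw [Subgroup.closure_le]
      rintro z (rfl | rfl) <;> exact Subgroup.pow_mem _ (Subgroup.mem_zpowers g) _
    rcases h x y (Subgroup.isCyclic_of_le hle) with hxy | hxy
    · have := orderOf_dvd_natCard (⟨x, hxy⟩ : Subgroup.zpowers y)
      rw [Nat.card_zpowers, hoy, Subgroup.orderOf_mk, hox] at this
      exact hne ((Nat.prime_dvd_prime_iff_eq hq hp).mp this)
    · have := orderOf_dvd_natCard (⟨y, hxy⟩ : Subgroup.zpowers x)
      rw [Nat.card_zpowers, hox, Subgroup.orderOf_mk, hoy] at this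
      exact hne ((Nat.prime_dvd_prime_iff_eq hp hq).mp this).symm

end Cfsg.Agent.S4086
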