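import Cfsg.Statements.S4089
import Cfsg.Agent.Lib.Cores.PCore
import Cfsg.Agent.Lib.PGroups.Subnormal
import Cfsg.Agent.Lib.Coprime.Hall
import Mathlib.GroupTheory.IsSubnormal

set_option autoImplicit false
open Cfsg

namespace Cfsg.Agent.S4089

open Cfsg.Agent.Lib
open scoped Pointwise

/-- `R` is a radical `p`-subgroup. -/
def Radical {G : Type*} [Group G] (p : ℕ) (R : Subgroup G) : Prop :=
  (Cfsg.pCore p (Subgroup.normalizer (R : Set G))).map (Subgroup.normalizer (R : Set G)).subtype = R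

theorem radical_isPGroup {G : Type*} [Group G] [Finite G] {p : ℕ} {R : Subgroup G}
    (hR : Radical p R) : IsPGroup p R := by
  have h := (Cores.pCore_isPGroup p (Subgroup.normalizer (R : Set G))).map
    (Subgroup.normalizer (R : Set G)).subtype
  rwa [show (Cfsg.pCore p (Subgroup.normalizer (R : Set G))).map _ = R from hR] at h

theorem subnormal_iff {G : Type*} [Group G] [Finite G] {p : ℕ} [hp : Fact p.Prime] {H : Subgroup G}
    (hH : IsPGroup p H) (g : G) :
    (H.subgroupOf (H ⊔ Subgroup.zpowers g)).IsSubnormal ↔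
      ∃ R : Subgroup G, H ≤ R ∧ Radical p R ∧ g ∈ Subgroup.normalizer (R : Set G) := by
  set J := H ⊔ Subgroup.zpowers g with hJ
  constructor
  · intro h
    have h1 := Cores.le_pCore_of_isSubnormal h
      (hH.of_equiv (Subgroup.subgroupOfEquivOfLe (le_sup_left : H ≤ J)).symm)
    set S0 := (Cfsg.pCore p J).map J.subtype
    have hS0p : IsPGroup p S0 := (Cores.pCore_isPGroup p J).map _
    have hHS0 : H ≤ S0 := fun x hx =>
      ⟨⟨x, (le_sup_left : H ≤ J) hx⟩, h1 (Subgroup.mem_subgroupOf.mpr hx), rfl⟩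
    have hgS0 : g ∈ Subgroup.normalizer (S0 : Set G) := by
      have hgJ : g ∈ J := Subgroup.mem_sup_right (Subgroup.mem_zpowers g)
      haveI hn : (Cfsg.pCore p J).Normal := Subgroup.sSup_normal _ (fun _ h => h.1)
      have hle : J.subtype.range ≤ Subgroup.normalizer (S0 : Set G) := by
        rw [MonoidHom.range_eq_map, ← Subgroup.normalizer_eq_top (H := Cfsg.pCore p J)]
        exact Subgroup.le_normalizer_map _
      exact hle (by rw [Subgroup.range_subtype]; exact hgJ)
    obtain ⟨R, hS0R, hR⟩ := (Set.toFinite {R : Subgroup G | IsPGroup p R ∧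
      g ∈ Subgroup.normalizer (R : Set G)}).exists_le_maximal (a := S0) ⟨hS0p, hgS0⟩
    obtain ⟨⟨hRp, hgR⟩, hmax⟩ := hR
    refine ⟨R, hHS0.trans hS0R, ?_, hgR⟩
    set N := Subgroup.normalizer (R : Set G)
    set T := (Cfsg.pCore p N).map N.subtype
    have hRT : R ≤ T := fun x hx => by
      have hn : (R.subgroupOf N).Normal := Subgroup.normal_in_normalizer
      exact ⟨⟨x, Subgroup.le_normalizer hx⟩, Cores.le_pCore hn
        (hRp.of_equiv (Subgroup.subgroupOfEquivOfLe Subgroup.le_normalizer).symm)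
        (Subgroup.mem_subgroupOf.mpr hx), rfl⟩
    have hgT : g ∈ Subgroup.normalizer (T : Set G) := by
      haveI hn : (Cfsg.pCore p N).Normal := Subgroup.sSup_normal _ (fun _ h => h.1)
      have hle : N.subtype.range ≤ Subgroup.normalizer (T : Set G) := by
        rw [MonoidHom.range_eq_map, ← Subgroup.normalizer_eq_top (H := Cfsg.pCore p N)]
        exact Subgroup.le_normalizer_map _
      exact hle (by rw [Subgroup.range_subtype]; exact hgR)
    exact le_antisymm (hmax ⟨(Cores.pCore_isPGroup p N).map _, hgT⟩ hRT) hRT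
  · rintro ⟨R, hHR, hR, hg⟩
    have hJN : J ≤ Subgroup.normalizer (R : Set G) :=
      sup_le (hHR.trans Subgroup.le_normalizer) (Subgroup.zpowers_le.mpr hg)
    haveI hRn : (R.subgroupOf J).Normal := Subgroup.normal_subgroupOf_of_le_normalizer hJN
    haveI : Group.IsNilpotent (R.subgroupOf J) :=
      ((radical_isPGroup hR).comap_subtype (K := J)).isNilpotent
    have hle : H.subgroupOf J ≤ R.subgroupOf J := Subgroup.comap_mono hHR
    exact Subgroup.IsSubnormal.trans hle (PGroups.isSubnormal_of_isNilpotent _) hRn.isSubnormal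

theorem eq_sInf_sylow {G : Type*} [Group G] [Finite G] {p : ℕ} [hp : Fact p.Prime] {R : Subgroup G}
    (hR : Radical p R) :
    sInf {K : Subgroup G | ∃ Q : Sylow p G, R ≤ (Q : Subgroup G) ∧ K = (Q : Subgroup G)} ≤ R := by
  set T := sInf {K : Subgroup G | ∃ Q : Sylow p G, R ≤ (Q : Subgroup G) ∧ K = (Q : Subgroup G)}
  have hRp := radical_isPGroup hR
  obtain ⟨Q, hQ⟩ := hRp.exists_le_sylow
  have hTQ : T ≤ (Q : Subgroup G) := sInf_le ⟨Q, hQ, rfl⟩
  have hTp : IsPGroup p T := Q.isPGroup'.to_le hTQ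
  have hRT : R ≤ T := le_sInf (by rintro K ⟨Q', hQ', rfl⟩; exact hQ')
  set N := Subgroup.normalizer (R : Set G)
  have hTN : T ⊓ N ≤ R := by
    have hn : ((T ⊓ N).subgroupOf N).Normal := by
      refine ⟨fun x hx n => ?_⟩
      rw [Subgroup.mem_subgroupOf, Subgroup.mem_inf] at hx ⊢
      refine ⟨?_, mul_mem (mul_mem n.2 x.2) (inv_mem n.2)⟩
      rw [Subgroup.mem_sInf]
      rintro K ⟨Q', hQ', rfl⟩
      have hR' : R ≤ (((n : G)⁻¹ • Q' : Sylow p G) : Subgroup G) := by
        intro r hr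
        rw [Sylow.coe_subgroup_smul, Coprime.mem_conj_smul]
        simpa using hQ' ((Subgroup.mem_normalizer_iff.mp n.2 r).mp hr)
      have hx' := Subgroup.mem_sInf.mp hx.1 _ ⟨_, hR', rfl⟩
      rw [Sylow.coe_subgroup_smul, Coprime.mem_conj_smul] at hx'
      simpa using hx'
    intro x hx
    have h1 := Cores.le_pCore hn ((hTp.to_le inf_le_left).of_equiv
      (Subgroup.subgroupOfEquivOfLe (inf_le_right : T ⊓ N ≤ N)).symm)
    rw [← hR]
    exact ⟨⟨x, hx.2⟩, h1 (Subgroup.mem_subgroupOf.mpr hx), rfl⟩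
  by_contra hne
  have hlt : R.subgroupOf T < ⊤ := lt_top_iff_ne_top.mpr fun h => hne (Subgroup.subgroupOf_eq_top.mp h)
  haveI := hTp.isNilpotent
  obtain ⟨x, hx, hxR⟩ := SetLike.exists_of_lt
    (Group.normalizerCondition_of_isNilpotent (G := T) _ hlt)
  apply hxR
  rw [Subgroup.mem_subgroupOf]
  refine hTN (Subgroup.mem_inf.mpr ⟨x.2, ?_⟩)
  rw [Subgroup.mem_normalizer_iff]
  intro r
  constructor
  · intro hr
    exact (Subgroup.mem_normalizer_iff.mp hx ⟨r, hRT hr⟩).mp hr
  · intro hr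
    have hrT : r ∈ T := by
      have := mul_mem (mul_mem (inv_mem x.2) (hRT hr)) x.2
      simpa [mul_assoc] using this
    exact (Subgroup.mem_normalizer_iff.mp hx ⟨r, hrT⟩).mpr hr

/-- Let G be a finite group, p a prime and H a p-subgroup of G. Then the set of elements g of G such that H is subnormal in the subgroup generated by H and g is the union of the normalizers N_G(R) over the subgroups R of G containing H with R = O_p(N_G(R)); and this set does not change when H is replaced by the intersection of all Sylow p-subgroups of G containing H. -/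
theorem result {G : Type*} [Group G] [Finite G] (p : ℕ) [Fact p.Prime]
    (H : Subgroup G) (hH : IsPGroup p H) :
    {g : G | ((H).subgroupOf (H ⊔ Subgroup.zpowers g)).IsSubnormal} =
      {g : G | ∃ R : Subgroup G, H ≤ R ∧ (Cfsg.pCore p (Subgroup.normalizer (R : Set G))).map (Subgroup.normalizer (R : Set G)).subtype = R ∧ g ∈ Subgroup.normalizer (R : Set G)} ∧
    ∀ g : G, (((H).subgroupOf (H ⊔ Subgroup.zpowers g)).IsSubnormal ↔
      (((sInf {K : Subgroup G | ∃ Q : Sylow p G, H ≤ (Q : Subgroup G) ∧ K = (Q : Subgroup G)})).subgroupOf ((sInf {K : Subgroup G | ∃ Q : Sylow p G, H ≤ (Q : Subgroup G) ∧ K = (Q : Subgroup G)}) ⊔ Subgroup.zpowers g)).IsSubnormal) := by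
  set H' := sInf {K : Subgroup G | ∃ Q : Sylow p G, H ≤ (Q : Subgroup G) ∧ K = (Q : Subgroup G)}
  have hHH' : H ≤ H' := le_sInf (by rintro K ⟨Q, hQ, rfl⟩; exact hQ)
  obtain ⟨Q, hQ⟩ := hH.exists_le_sylow
  have hH'p : IsPGroup p H' := Q.isPGroup'.to_le (sInf_le ⟨Q, hQ, rfl⟩)
  refine ⟨Set.ext fun g => ?_, fun g => ?_⟩
  · exact subnormal_iff hH g
  · rw [subnormal_iff hH g, subnormal_iff hH'p g]
    constructor
    · rintro ⟨R, hHR, hR, hg⟩
      refine ⟨R, le_trans ?_ (eq_sInf_sylow hR), hR, hg⟩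
      exact sInf_le_sInf (by rintro K ⟨Q', hQ', rfl⟩; exact ⟨Q', hHR.trans hQ', rfl⟩)
    · rintro ⟨R, hHR, hR, hg⟩
      exact ⟨R, hHH'.trans hHR, hR, hg⟩

end Cfsg.Agent.S4089
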