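import Cfsg.Statements.S4090
import Cfsg.Agent.Lib.OddLocal.Subnormalizer

set_option autoImplicit false
open scoped BigOperators
open Cfsg

namespace Cfsg.Agent.S4090

open Cfsg.Agent.Lib.OddLocal.Subnormalizer in
theorem telescope {G : Type*} [Group G] [Finite G] (p : ℕ) [Fact p.Prime] (H : Subgroup G)
    (hH : IsPGroup p H) (n : ℕ) (M : Fin (n + 1) → Subgroup G) (h0 : M 0 = ⊥) (hn : M (Fin.last n) = ⊤)
    (hmono : Monotone M) (hnormal : ∀ i, (M i).Normal)
    (hfac : ∀ i : Fin n, (∃ m : ℕ, (M i.castSucc).relIndex (M i.succ) = p ^ m) ∨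
      ((M i.castSucc).relIndex (M i.succ)).Coprime p) :
    subnCard H = ∏ i : Fin n, (if ((M i.castSucc).relIndex (M i.succ)).Coprime p then
      Nat.card {u : G // u ∈ M i.succ ∧ ∀ h ∈ H, h * u * h⁻¹ * u⁻¹ ∈ M i.castSucc} / Nat.card (M i.castSucc)
      else (M i.castSucc).relIndex (M i.succ)) := by
  classical
  haveI := hnormal
  set c : Fin n → ℕ := fun i => if ((M i.castSucc).relIndex (M i.succ)).Coprime p then
      Nat.card {u : G // u ∈ M i.succ ∧ ∀ h ∈ H, h * u * h⁻¹ * u⁻¹ ∈ M i.castSucc} / Nat.card (M i.castSucc)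
      else (M i.castSucc).relIndex (M i.succ) with hc
  let F : Fin (n + 1) → ℕ := fun i => subnCard (H.map (QuotientGroup.mk' (M i)))
  have step : ∀ i : Fin n, F i.castSucc = F i.succ * c i := by
    intro i
    have hle : M i.castSucc ≤ M i.succ := hmono i.castSucc_lt_succ.le
    let f : G ⧸ M i.castSucc →* G ⧸ M i.succ :=
      QuotientGroup.map (M i.castSucc) (M i.succ) (MonoidHom.id G) hle
    have hf : Function.Surjective f := by
      intro x
      obtain ⟨g, rfl⟩ := QuotientGroup.mk_surjective x
      exact ⟨g, rfl⟩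
    have hker : f.ker = (M i.succ).map (QuotientGroup.mk' (M i.castSucc)) := by
      ext x
      obtain ⟨g, rfl⟩ := QuotientGroup.mk'_surjective (M i.castSucc) x
      rw [MonoidHom.mem_ker]
      constructor
      · intro h
        exact ⟨g, (QuotientGroup.eq_one_iff g).mp h, rfl⟩
      · rintro ⟨u, hu, hue⟩
        rw [← hue]
        exact (QuotientGroup.eq_one_iff u).mpr hu
    have hkc : Nat.card f.ker = (M i.castSucc).relIndex (M i.succ) := by
      rw [hker, ← Subgroup.relIndex_ker, QuotientGroup.ker_mk']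
    have himg : (H.map (QuotientGroup.mk' (M i.castSucc))).map f = H.map (QuotientGroup.mk' (M i.succ)) := by
      rw [Subgroup.map_map]
      rfl
    have hHi : IsPGroup p (H.map (QuotientGroup.mk' (M i.castSucc))) := hH.map _
    rcases hfac i with ⟨m, hm⟩ | hcop
    · by_cases hcop : ((M i.castSucc).relIndex (M i.succ)).Coprime p
      · -- trivial factor
        have hk1 : Nat.card f.ker = 1 := by
          rw [hkc]
          rcases Nat.eq_zero_or_pos m with rfl | hpos
          · simpa using hm
          · exfalso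
            rw [hm, Nat.coprime_pow_left_iff hpos, Nat.coprime_self] at hcop
            exact (Fact.out : p.Prime).ne_one hcop
        have h := subnCard_of_ker_pGroup hf (IsPGroup.of_card (n := 0) (by simpa using hk1)) hHi
        rw [himg, hk1] at h
        have hMeq : M i.succ = M i.castSucc := le_antisymm (Subgroup.relIndex_eq_one.mp (hkc ▸ hk1)) hle
        have hci : c i = 1 := by
          simp only [hc, if_pos hcop, hMeq]
          have : Nat.card {u : G // u ∈ M i.castSucc ∧ ∀ h ∈ H, h * u * h⁻¹ * u⁻¹ ∈ M i.castSucc} =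
              Nat.card (M i.castSucc) :=
            Nat.card_congr (Equiv.subtypeEquivRight fun u => ⟨fun hu => hu.1, fun hu =>
              ⟨hu, fun h _ => mul_mem ((hnormal i.castSucc).conj_mem u hu h) (inv_mem hu)⟩⟩)
          rw [this, Nat.div_self Nat.card_pos]
        show subnCard _ = subnCard _ * _
        rw [h, hci]
      · have h := subnCard_of_ker_pGroup hf (IsPGroup.of_card (hkc.trans hm)) hHi
        rw [himg, hkc] at h
        simp only [hc, if_neg hcop]
        exact h
    · have h := subnCard_of_ker_coprime hf (hkc ▸ hcop) hHi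
      rw [himg] at h
      simp only [hc, if_pos hcop]
      have hcard : Nat.card {u : G // u ∈ M i.succ ∧ ∀ h ∈ H, h * u * h⁻¹ * u⁻¹ ∈ M i.castSucc} =
          Nat.card ↥(f.ker ⊓ Subgroup.centralizer ((H.map (QuotientGroup.mk' (M i.castSucc)) : Subgroup _) : Set _)) *
            Nat.card (M i.castSucc) := by
        refine Eq.trans ?_ ((card_preimage (QuotientGroup.mk'_surjective (M i.castSucc)) _).trans
          (by rw [QuotientGroup.ker_mk']))
        refine Nat.card_congr (Equiv.subtypeEquivRight fun u => ?_)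
        rw [Subgroup.mem_inf, Subgroup.mem_centralizer_iff, MonoidHom.mem_ker]
        refine and_congr (QuotientGroup.eq_one_iff u).symm ⟨?_, ?_⟩
        · rintro hu _ ⟨h, hh, rfl⟩
          have := (QuotientGroup.eq_one_iff _).mpr (hu h hh)
          simp only [QuotientGroup.mk_mul, QuotientGroup.mk_inv] at this
          rwa [mul_inv_eq_one, mul_inv_eq_iff_eq_mul] at this
        · intro hu h hh
          rw [← QuotientGroup.eq_one_iff]
          simp only [QuotientGroup.mk_mul, QuotientGroup.mk_inv]
          rw [mul_inv_eq_one, mul_inv_eq_iff_eq_mul]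
          exact hu _ ⟨h, hh, rfl⟩
      rw [hcard, Nat.mul_div_cancel _ Nat.card_pos]
      exact h
  have hlast : F (Fin.last n) = 1 := by
    show subnCard _ = 1
    haveI : Subsingleton (G ⧸ M (Fin.last n)) := by rw [hn]; exact QuotientGroup.subsingleton_quotient_top
    rw [subnCard, Nat.card_eq_one_iff_unique]
    refine ⟨inferInstance, ⟨⟨1, ?_⟩⟩⟩
    rw [subnormal_iff (hH.map _) (1 : G ⧸ M (Fin.last n))]
    exact ⟨_, ⟨hH.map _, one_mem _⟩, le_rfl⟩
  have hzero : F 0 = subnCard H := by
    have hk : IsPGroup p (QuotientGroup.mk' (M 0)).ker := by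
      rw [QuotientGroup.ker_mk', h0]; exact IsPGroup.of_bot
    have h := subnCard_of_ker_pGroup (QuotientGroup.mk'_surjective (M 0)) hk hH
    have hk1 : Nat.card (QuotientGroup.mk' (M 0)).ker = 1 := by
      rw [QuotientGroup.ker_mk', h0, Subgroup.card_bot]
    rw [hk1, mul_one] at h
    exact h.symm
  rw [← hzero]
  have key : ∀ (m : ℕ) (F : Fin (m + 1) → ℕ) (d : Fin m → ℕ), (∀ i, F i.castSucc = F i.succ * d i) →
      F 0 = F (Fin.last m) * ∏ i, d i := by
    intro m
    induction m with
    | zero => intro F d _; simp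
    | succ m ih =>
      intro F d hs
      have := ih (fun i => F i.succ) (fun i => d i.succ) fun i => hs i.succ
      rw [Fin.prod_univ_succ, ← Fin.castSucc_zero, hs 0, this, Fin.succ_last]
      ring
  rw [key n F c step, hlast, one_mul]


/-- Let G be a finite p-solvable group, H a p-subgroup of G and P a Sylow p-subgroup, and fix a chain of normal subgroups 1 = M₀ ≤ M₁ ≤ ⋯ ≤ Mₙ = G of G each of whose factors is a p-group or a p'-group. Then the number of elements g of G such that H is subnormal in the subgroup generated by H and g equals the order of P times the product, over the factors Mᵢ₊₁/Mᵢ of order prime to p, of the order of the centralizer of H in Mᵢ₊₁/Mᵢ (counted as the number of u ∈ Mᵢ₊₁ with [h, u] ∈ Mᵢ for all h ∈ H, divided by the order of Mᵢ). -/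
theorem result {G : Type*} [Group G] [Finite G] (p : ℕ) [Fact p.Prime]
    (hG : Cfsg.IsPSolvable p G) (H : Subgroup G) (hH : IsPGroup p H) (P : Sylow p G)
    (n : ℕ) (M : Fin (n + 1) → Subgroup G) (h0 : M 0 = ⊥) (hn : M (Fin.last n) = ⊤) (hmono : Monotone M)
    (hnormal : ∀ i, (M i).Normal)
    (hfac : ∀ i : Fin n, (∃ m : ℕ, (M i.castSucc).relIndex (M i.succ) = p ^ m) ∨ ((M i.castSucc).relIndex (M i.succ)).Coprime p) :
    Nat.card {g : G // ((H).subgroupOf (H ⊔ Subgroup.zpowers g)).IsSubnormal} =
      Nat.card (P : Subgroup G) *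
        ∏ i : Fin n, (if ((M i.castSucc).relIndex (M i.succ)).Coprime p then
          Nat.card {u : G // u ∈ M i.succ ∧ ∀ h ∈ H, h * u * h⁻¹ * u⁻¹ ∈ M i.castSucc} / Nat.card (M i.castSucc)
          else 1) := by
  classical
  show Cfsg.Agent.Lib.OddLocal.Subnormalizer.subnCard H = _
  rw [telescope p H hH n M h0 hn hmono hnormal hfac]
  set c : Fin n → ℕ := fun i => Nat.card {u : G // u ∈ M i.succ ∧ ∀ h ∈ H, h * u * h⁻¹ * u⁻¹ ∈ M i.castSucc} /
    Nat.card (M i.castSucc) with hc
  set r : Fin n → ℕ := fun i => (M i.castSucc).relIndex (M i.succ) with hr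
  have hbot := telescope p (⊥ : Subgroup G) IsPGroup.of_bot n M h0 hn hmono hnormal hfac
  haveI := hnormal
  have hG : Nat.card G = ∏ i, r i := by
    have hall : Cfsg.Agent.Lib.OddLocal.Subnormalizer.subnCard (⊥ : Subgroup G) = Nat.card G :=
      Nat.card_congr (Equiv.subtypeUnivEquiv fun g => by
        rw [Subgroup.bot_subgroupOf]; exact Subgroup.IsSubnormal.bot)
    rw [← hall, hbot]
    refine Finset.prod_congr rfl fun i _ => ?_
    split_ifs
    · have hle : M i.castSucc ≤ M i.succ := hmono i.castSucc_lt_succ.le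
      have h1 : Nat.card {u : G // u ∈ M i.succ ∧ ∀ h ∈ (⊥ : Subgroup G), h * u * h⁻¹ * u⁻¹ ∈ M i.castSucc} =
          Nat.card (M i.succ) := by
        refine Nat.card_congr (Equiv.subtypeEquivRight fun u => ⟨fun hu => hu.1, fun hu => ⟨hu, ?_⟩⟩)
        intro h hh
        rw [Subgroup.mem_bot.mp hh]
        simp
      rw [h1, ← Subgroup.relIndex_bot_left, ← Subgroup.relIndex_bot_left (M i.castSucc),
        ← Subgroup.relIndex_mul_relIndex ⊥ (M i.castSucc) (M i.succ) bot_le hle,
        Nat.mul_div_cancel_left _ (by rw [Subgroup.relIndex_bot_left]; exact Nat.card_pos)]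
    · rfl
  -- the `p`-part of the order
  have hP : Nat.card (P : Subgroup G) = ∏ i, (if (r i).Coprime p then 1 else r i) := by
    set X := ∏ i, (if (r i).Coprime p then 1 else r i) with hX
    set Y := ∏ i, (if (r i).Coprime p then r i else 1) with hY
    have hXY : Nat.card G = X * Y := by
      rw [hG, hX, hY, ← Finset.prod_mul_distrib]
      exact Finset.prod_congr rfl fun i _ => by split_ifs <;> simp
    have hXp : ∃ a, X = p ^ a := by
      refine Finset.prod_induction _ (fun x => ∃ a, x = p ^ a) ?_ ⟨0, rfl⟩ fun i _ => ?_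
      · rintro _ _ ⟨a, rfl⟩ ⟨b, rfl⟩; exact ⟨a + b, (pow_add _ _ _).symm⟩
      · split_ifs with h
        · exact ⟨0, rfl⟩
        · rcases hfac i with ⟨m, hm⟩ | hm
          · exact ⟨m, hm⟩
          · exact absurd hm h
    have hYp : Y.Coprime p :=
      Nat.Coprime.prod_left fun i _ => by
        split_ifs with h
        · exact h
        · exact Nat.coprime_one_left p
    obtain ⟨a, ha⟩ := hXp
    have hcard := P.card_eq_multiplicity
    rw [hcard, ha]
    congr 1
    rw [hXY, ha, Nat.factorization_mul (pow_ne_zero _ (Fact.out : p.Prime).ne_zero)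
      (fun h0' => by rw [h0'] at hXY; simp at hXY; exact Nat.card_pos.ne' hXY)]
    simp [(Fact.out : p.Prime).factorization_self,
      Nat.factorization_eq_zero_of_not_dvd fun hdvd => (Fact.out : p.Prime).ne_one
        (Nat.eq_one_of_dvd_coprimes hYp hdvd dvd_rfl)]
  rw [hP, ← Finset.prod_mul_distrib]
  refine Finset.prod_congr rfl fun i _ => ?_
  simp only [hc, hr]
  split_ifs <;> simp

end Cfsg.Agent.S4090
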