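import Cfsg.Statements.S4091
import Cfsg.Agent.Lib.Coprime.Action
import Cfsg.Agent.Lib.Coprime.Basic
import Cfsg.Agent.Lib.Coprime.Generation
import Cfsg.Agent.Lib.Coprime.SylowNormalizes
import Cfsg.Agent.Lib.BlockHeights.PConstrainedCores
import Mathlib

set_option autoImplicit false
open Cfsg

namespace Cfsg.Agent.S4091

open scoped Pointwise commutatorElement
open Cfsg.Agent.Lib

universe u

section fix

variable {G : Type u} [Group G]

/-- The order of the centralizer of a set in `N`. -/
noncomputable def fixC (N : Subgroup G) (s : Set G) : ℕ :=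
  Nat.card ↥(N ⊓ Subgroup.centralizer s)

/-- The product of the centralizer orders in `N` of the elements of `P`. -/
noncomputable def prodFix (P N : Subgroup G) : ℕ := ∏ᶠ x : P, fixC N {(x : G)}

theorem card_eq_map_mul {G' : Type*} [Group G'] (f : G →* G') (H : Subgroup G) :
    Nat.card H = Nat.card (H.map f) * Nat.card ↥(H ⊓ f.ker) := by
  have h1 := Subgroup.card_eq_card_quotient_mul_card_subgroup (f.comp H.subtype).ker
  rw [Nat.card_congr (QuotientGroup.quotientKerEquivRange (f.comp H.subtype)).toEquiv] at h1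
  have h2 : (f.comp H.subtype).range = H.map f := by
    rw [MonoidHom.range_comp, Subgroup.range_subtype]
  have h3 : Nat.card (f.comp H.subtype).ker = Nat.card ↥(H ⊓ f.ker) := by
    rw [← Nat.card_congr (Subgroup.subgroupOfEquivOfLe
      (inf_le_left : H ⊓ f.ker ≤ H)).toEquiv]
    rw [show (f.comp H.subtype).ker = (H ⊓ f.ker).subgroupOf H by
      ext x; simp [Subgroup.mem_subgroupOf]]
  rw [h1, h2, h3]

theorem fixC_le [Finite G] (N : Subgroup G) (s : Set G) : fixC N s ≤ Nat.card N :=
  Subgroup.card_le_of_le inf_le_left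

theorem fixC_dvd (N : Subgroup G) (s : Set G) : fixC N s ∣ Nat.card N :=
  Subgroup.card_dvd_of_le inf_le_left

theorem fixC_pos [Finite G] (N : Subgroup G) (s : Set G) : 0 < fixC N s := Nat.card_pos

theorem fixC_eq_card {N : Subgroup G} {s : Set G} (h : N ≤ Subgroup.centralizer s) :
    fixC N s = Nat.card N := by
  rw [fixC, inf_eq_left.2 h]

theorem cen_zpowers (x : G) :
    Subgroup.centralizer ((Subgroup.zpowers x : Subgroup G) : Set G) =
      Subgroup.centralizer {x} := by
  rw [Subgroup.zpowers_eq_closure, Subgroup.centralizer_closure]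

theorem fixC_zpowers (N : Subgroup G) (x : G) :
    fixC N ((Subgroup.zpowers x : Subgroup G) : Set G) = fixC N {x} := by
  rw [fixC, fixC, cen_zpowers]

theorem fixC_map_injective {G' : Type*} [Group G'] {f : G →* G'} (hf : Function.Injective f)
    (N : Subgroup G) (s : Set G) :
    Nat.card ↥(N.map f ⊓ Subgroup.centralizer (f '' s)) = fixC N s := by
  have h : N.map f ⊓ Subgroup.centralizer (f '' s) = (N ⊓ Subgroup.centralizer s).map f := by
    ext y
    constructor
    · rintro ⟨⟨n, hn, rfl⟩, hc⟩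
      refine ⟨n, ⟨hn, Subgroup.mem_centralizer_iff.2 fun a ha => hf ?_⟩, rfl⟩
      rw [map_mul, map_mul]
      exact Subgroup.mem_centralizer_iff.1 hc _ ⟨a, ha, rfl⟩
    · rintro ⟨n, ⟨hn, hc⟩, rfl⟩
      refine ⟨⟨n, hn, rfl⟩, Subgroup.mem_centralizer_iff.2 ?_⟩
      rintro _ ⟨a, ha, rfl⟩
      rw [← map_mul, ← map_mul, Subgroup.mem_centralizer_iff.1 hc a ha]
  rw [h, fixC]
  exact Subgroup.card_map_of_injective hf

theorem fixC_quot [Finite G] (W N A : Subgroup G) [W.Normal] (hWN : W ≤ N)
    (hcop : (Nat.card A).Coprime (Nat.card N)) (hsolv : Group.IsSolvable A) :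
    fixC N A = fixC W A * fixC (N.map (QuotientGroup.mk' W))
      ((A.map (QuotientGroup.mk' W) : Subgroup (G ⧸ W)) : Set (G ⧸ W)) := by
  have hmap : (N ⊓ Subgroup.centralizer (A : Set G)).map (QuotientGroup.mk' W) =
      N.map (QuotientGroup.mk' W) ⊓ Subgroup.centralizer
        ((A.map (QuotientGroup.mk' W) : Subgroup (G ⧸ W)) : Set (G ⧸ W)) := by
    ext y
    constructor
    · rintro ⟨n, ⟨hn, hc⟩, rfl⟩
      refine ⟨⟨n, hn, rfl⟩, Subgroup.mem_centralizer_iff.2 ?_⟩
      rintro _ ⟨a, ha, rfl⟩
      rw [← map_mul, ← map_mul, Subgroup.mem_centralizer_iff.1 hc a ha]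
    · rintro ⟨⟨n, hn, rfl⟩, hc⟩
      have hWA : A ≤ Subgroup.normalizer (W : Set G) := by
        rw [Subgroup.normalizer_eq_top]; exact le_top
      have hfix : ∀ a ∈ A, a * n * a⁻¹ * n⁻¹ ∈ W := by
        intro a ha
        have h1 := Subgroup.mem_centralizer_iff.1 hc _ ⟨a, ha, rfl⟩
        rw [← QuotientGroup.eq_one_iff, ← QuotientGroup.mk'_apply]
        rw [map_mul, map_mul, map_mul, map_inv, map_inv, h1]
        group
      obtain ⟨w, hw, hwc⟩ := Coprime.exists_mem_centralizer_of_fixed_coset hWA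
        (hcop.coprime_dvd_right (Subgroup.card_dvd_of_le hWN)) (Or.inl hsolv)
        (by rw [Subgroup.normalizer_eq_top]; trivial) hfix
      refine ⟨n * w, ⟨N.mul_mem hn (hWN hw), hwc⟩, ?_⟩
      rw [map_mul]
      have : QuotientGroup.mk' W w = 1 := (QuotientGroup.eq_one_iff w).2 hw
      rw [this, mul_one]
  have hker : (N ⊓ Subgroup.centralizer (A : Set G)) ⊓ (QuotientGroup.mk' W).ker =
      W ⊓ Subgroup.centralizer (A : Set G) := by
    rw [QuotientGroup.ker_mk', inf_right_comm, inf_eq_right.2 hWN]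
  unfold fixC
  rw [card_eq_map_mul (QuotientGroup.mk' W) (N ⊓ Subgroup.centralizer (A : Set G)), hmap, hker,
    mul_comm]

theorem fixC_quot_singleton [Finite G] (W N : Subgroup G) [W.Normal] (hWN : W ≤ N) (x : G)
    (hcop : (orderOf x).Coprime (Nat.card N)) :
    fixC N {x} = fixC W {x} * fixC (N.map (QuotientGroup.mk' W)) {QuotientGroup.mk' W x} := by
  rw [← fixC_zpowers, ← fixC_zpowers, fixC_quot W N _ hWN (by rwa [Nat.card_zpowers])
    (Coprime.isSolvable_zpowers x), MonoidHom.map_zpowers, fixC_zpowers, fixC_zpowers]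

theorem prodFix_eq [Finite G] (P N : Subgroup G) [Fintype P] :
    prodFix P N = ∏ x : P, fixC N {(x : G)} := finprod_eq_prod_of_fintype _

theorem prodFix_map {G' : Type u} [Group G'] [Finite G] [Finite G'] (f : G →* G')
    (P : Subgroup G) (N' : Subgroup G') (hinj : Set.InjOn f P) :
    prodFix (P.map f) N' = ∏ᶠ x : P, fixC N' {f x} := by
  classical
  haveI := Fintype.ofFinite P
  haveI := Fintype.ofFinite (P.map f)
  rw [prodFix_eq, finprod_eq_prod_of_fintype]
  refine (Fintype.prod_bijective (fun x : P => (⟨f x, ⟨x, x.2, rfl⟩⟩ : P.map f))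
    ⟨fun a b h => Subtype.ext (hinj a.2 b.2 congr(($h).1)), ?_⟩ _ _ fun x => rfl).symm
  rintro ⟨_, y, hy, rfl⟩
  exact ⟨⟨y, hy⟩, rfl⟩

end fix

section qgroup

/-- The fundamental inequality for a `p`-group acting on a `q`-group. -/
theorem q_bound {p q : ℕ} [hp : Fact p.Prime] [hq : Fact q.Prime] (hpq : p ≠ q) :
    ∀ (n : ℕ) (G : Type u) [Group G] [Finite G] (P N : Subgroup G), Nat.card N = n →
      IsPGroup p P → IsPGroup q N → P ≤ Subgroup.normalizer (N : Set G) →
      prodFix P N ^ p ≤
        n ^ Nat.card P * fixC N (P : Set G) ^ ((p - 1) * Nat.card P) := by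
  classical
  intro n
  induction n using Nat.strong_induction_on with
  | _ n IH =>
  -- the case of a group generated by `N` and `P`
  suffices key : ∀ (G : Type u) [Group G] [Finite G] (P N : Subgroup G), Nat.card N = n →
      IsPGroup p P → IsPGroup q N → P ≤ Subgroup.normalizer (N : Set G) → N ⊔ P = ⊤ →
      prodFix P N ^ p ≤
        n ^ Nat.card P * fixC N (P : Set G) ^ ((p - 1) * Nat.card P) by
    intro G _ _ P N hn hP hN hPN
    set H := N ⊔ P
    have hPH : P ≤ H := le_sup_right
    have hNH : N ≤ H := le_sup_left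
    have eP : (P.subgroupOf H).map H.subtype = P := Subgroup.map_subgroupOf_eq_of_le hPH
    have eN : (N.subgroupOf H).map H.subtype = N := Subgroup.map_subgroupOf_eq_of_le hNH
    have hfix : ∀ s : Set H, fixC (N.subgroupOf H) s = fixC N (H.subtype '' s) := by
      intro s
      conv_rhs => rw [← eN]
      exact (fixC_map_injective H.subtype_injective _ _).symm
    have h := key H (P.subgroupOf H) (N.subgroupOf H)
      (by rw [Nat.card_congr (Subgroup.subgroupOfEquivOfLe hNH).toEquiv, hn])
      (hP.of_equiv (Subgroup.subgroupOfEquivOfLe hPH).symm)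
      (hN.of_equiv (Subgroup.subgroupOfEquivOfLe hNH).symm)
      (by
        intro x hx
        rw [Subgroup.mem_normalizer_iff]
        intro y
        exact Subgroup.mem_normalizer_iff.1 (hPN hx) y)
      (by rw [← Subgroup.subgroupOf_sup hNH hPH, Subgroup.subgroupOf_self])
    rw [Nat.card_congr (Subgroup.subgroupOfEquivOfLe hPH).toEquiv, hfix,
      ← Subgroup.coe_map, eP] at h
    have hprod : prodFix (P.subgroupOf H) (N.subgroupOf H) = prodFix P N := by
      conv_rhs => rw [← eP, prodFix_map H.subtype (P.subgroupOf H) N H.subtype_injective.injOn]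
      unfold prodFix
      refine finprod_congr fun x => ?_
      rw [hfix, Set.image_singleton]
    rwa [hprod] at h
  intro G _ _ P N hn hP hN hPN htop
  haveI := Fintype.ofFinite P
  have hcop : (Nat.card P).Coprime (Nat.card N) := IsPGroup.coprime_card_of_ne p q hpq P N hP hN
  have hsolvP : Group.IsSolvable P := by
    haveI := hP.isNilpotent
    infer_instance
  -- reduction along an invariant normal subgroup
  have reduce : ∀ W : Subgroup G, W ≤ N → W ≠ ⊥ → W ≠ N → N ≤ Subgroup.normalizer (W : Set G) →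
      P ≤ Subgroup.normalizer (W : Set G) →
      prodFix P N ^ p ≤ n ^ Nat.card P * fixC N (P : Set G) ^ ((p - 1) * Nat.card P) := by
    intro W hWN hW1 hW2 hNW hPW
    haveI : W.Normal := Subgroup.normalizer_eq_top_iff.1 (top_le_iff.1 (htop ▸ sup_le hNW hPW))
    set f := QuotientGroup.mk' W with hf
    have hinj : Set.InjOn f P := by
      intro a ha b hb hab
      have h1 : a⁻¹ * b ∈ W := QuotientGroup.eq.1 hab
      exact inv_mul_eq_one.1 (Coprime.eq_one_of_mem_of_mem hcop
        (P.mul_mem (P.inv_mem ha) hb) (hWN h1))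
    have hcardP : Nat.card (P.map f) = Nat.card P := (Nat.card_congr (Equiv.ofBijective
      (fun x : P => (⟨f x, ⟨x, x.2, rfl⟩⟩ : P.map f))
      ⟨fun a b h => Subtype.ext (hinj a.2 b.2 congr(($h).1)),
        fun ⟨_, y, hy, he⟩ => ⟨⟨y, hy⟩, Subtype.ext he⟩⟩)).symm
    have hn' : n = Nat.card W * Nat.card (N.map f) := by
      rw [← hn, card_eq_map_mul f N, hf, QuotientGroup.ker_mk', inf_eq_right.2 hWN, mul_comm]
    have hW1' : 1 < Nat.card W := (Subgroup.one_lt_card_iff_ne_bot W).2 hW1
    have hWlt : Nat.card W < n := hn ▸ lt_of_le_of_ne (Subgroup.card_le_of_le hWN)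
      (fun h => hW2 (Subgroup.eq_of_le_of_card_ge hWN h.ge))
    have hQlt : Nat.card (N.map f) < n := by
      rw [hn']
      exact lt_mul_of_one_lt_left Nat.card_pos hW1'
    have h1 := IH _ hWlt G P W rfl hP (hN.to_le hWN) hPW
    have h2 := IH _ hQlt (G ⧸ W) (P.map f) (N.map f) rfl (hP.map f) (hN.map f)
      ((Subgroup.map_mono hPN).trans (Subgroup.le_normalizer_map f))
    rw [hcardP] at h2
    have h3 : prodFix P N = prodFix P W * prodFix (P.map f) (N.map f) := by
      rw [prodFix_map f P _ hinj, prodFix_eq, prodFix_eq, finprod_eq_prod_of_fintype,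
        ← Finset.prod_mul_distrib]
      refine Finset.prod_congr rfl fun x _ => ?_
      exact fixC_quot_singleton W N hWN _
        (hcop.coprime_dvd_left (Subgroup.orderOf_coe x ▸ orderOf_dvd_natCard x))
    have h4 : fixC N (P : Set G) = fixC W (P : Set G) * fixC (N.map f) (P.map f : Subgroup (G ⧸ W)) :=
      fixC_quot W N P hWN hcop hsolvP
    rw [h3, h4, hn', mul_pow, mul_pow, mul_pow]
    calc _ ≤ _ := Nat.mul_le_mul h1 h2
      _ = _ := by ring
  by_cases hN1 : N = ⊥
  · subst hN1
    have hcb : Nat.card (⊥ : Subgroup G) = 1 := Subgroup.card_bot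
    have hone : ∀ s, fixC (⊥ : Subgroup G) s = 1 := fun s =>
      Nat.dvd_one.1 (hcb ▸ fixC_dvd _ s)
    simp [prodFix_eq, hone, ← hn]
  by_cases hNab : ⁅N, N⁆ = ⊥
  swap
  · haveI : Group.IsNilpotent N := hN.isNilpotent
    have hsol : Group.IsSolvable N := inferInstance
    refine reduce ⁅N, N⁆ (Subgroup.commutator_le_self N) hNab ?_ ?_ ?_
    · intro h
      have hc : commutator N = ⊤ := by
        apply Subgroup.map_injective N.subtype_injective
        rw [Subgroup.map_subtype_commutator, h, ← MonoidHom.range_eq_map, Subgroup.range_subtype]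
      haveI : Nontrivial N := (Subgroup.nontrivial_iff_ne_bot N).2 hN1
      have := Group.IsSolvable.commutator_lt_top_of_nontrivial N
      exact this.ne hc
    · intro x hx
      refine Coprime.mem_normalizer_of_conj_smul_eq ?_
      have hxN := Coprime.conj_smul_eq_of_mem_normalizer (Subgroup.le_normalizer hx :
        x ∈ Subgroup.normalizer (N : Set G))
      have hxN' : N.map (MulAut.conj x).toMonoidHom = N := hxN
      show (⁅N, N⁆).map (MulAut.conj x).toMonoidHom = ⁅N, N⁆
      rw [Subgroup.map_commutator, hxN']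
    · intro x hx
      refine Coprime.mem_normalizer_of_conj_smul_eq ?_
      have hxN := Coprime.conj_smul_eq_of_mem_normalizer (hPN hx)
      have hxN' : N.map (MulAut.conj x).toMonoidHom = N := hxN
      show (⁅N, N⁆).map (MulAut.conj x).toMonoidHom = ⁅N, N⁆
      rw [Subgroup.map_commutator, hxN']
  -- abelian case
  have hcomm : ∀ a ∈ N, ∀ b ∈ N, a * b = b * a := fun a ha b hb =>
    commutatorElement_eq_one_iff_mul_comm.1 (Subgroup.mem_bot.1
      (hNab ▸ Subgroup.commutator_mem_commutator ha hb))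
  by_cases hcent : P ≤ Subgroup.centralizer (N : Set G)
  · have h1 : fixC N (P : Set G) = n := by
      rw [fixC_eq_card (Subgroup.le_centralizer_iff.1 hcent), hn]
    have h2 : ∀ x : P, fixC N {(x : G)} = n := fun x => by
      rw [fixC_eq_card ?_, hn]
      intro a ha
      exact Subgroup.mem_centralizer_singleton_iff.2 (Subgroup.mem_centralizer_iff.1 (hcent x.2) a ha)
    rw [prodFix_eq, Finset.prod_congr rfl fun x _ => h2 x, Finset.prod_const, Finset.card_univ,
      ← Nat.card_eq_fintype_card, h1, ← pow_mul, ← pow_add]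
    refine le_of_eq ?_
    congr 1
    obtain ⟨r, rfl⟩ : ∃ r, p = r + 1 := ⟨p - 1, by have := hp.out.pos; omega⟩
    simp; ring
  let act : P →* MulAut N := (Subgroup.normalizerMonoidHom N).comp (Subgroup.inclusion hPN)
  have hact : ∀ (y : P) (v : N), ((act y v : N) : G) = (y : G) * v * (y : G)⁻¹ := fun _ _ => rfl
  have hrange : IsPGroup p act.range := by
    rw [MonoidHom.range_eq_map]
    exact (hP.to_subgroup ⊤).map act
  haveI : Nontrivial act.range := by
    rw [Subgroup.nontrivial_iff_ne_bot]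
    intro h
    refine hcent fun y hy => Subgroup.mem_centralizer_iff.2 fun v hv => ?_
    have h1 : act ⟨y, hy⟩ = 1 := Subgroup.mem_bot.1 (h ▸ MonoidHom.mem_range.2 ⟨_, rfl⟩)
    have h2 := hact ⟨y, hy⟩ ⟨v, hv⟩
    rw [h1] at h2
    simp only [MulAut.one_apply] at h2
    calc v * y = (y * v * y⁻¹) * y := by rw [← h2]
      _ = y * v := by group
  haveI := hrange.center_nontrivial
  obtain ⟨⟨⟨_, z, rfl⟩, hzc⟩, hzord⟩ := exists_prime_orderOf_dvd_card' (G := Subgroup.center act.range) p
    (hrange.to_subgroup _ |>.nontrivial_iff_card.1 inferInstance |> fun ⟨k, hk, hc⟩ =>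
      hc ▸ dvd_pow_self p hk.ne')
  have hzord' : orderOf (act z) = p := by
    rw [← hzord, ← Subgroup.orderOf_coe, ← Subgroup.orderOf_coe]
  have hzcomm : ∀ y : P, act y * act z = act z * act y := fun y =>
    congrArg Subtype.val (Subgroup.mem_center_iff.1 hzc ⟨_, y, rfl⟩)
  set W := N ⊓ Subgroup.centralizer {(z : G)} with hWdef
  have hmemW : ∀ v : N, (v : G) ∈ W ↔ act z v = v := by
    intro v
    rw [hWdef, Subgroup.mem_inf, Subgroup.mem_centralizer_singleton_iff, Subtype.ext_iff, hact]
    exact ⟨fun h => mul_inv_eq_iff_eq_mul.2 h.2.symm, fun h => ⟨v.2, (mul_inv_eq_iff_eq_mul.1 h).symm⟩⟩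
  by_cases hW : W = ⊥
  swap
  · refine reduce W inf_le_left hW ?_ ?_ ?_
    · intro h
      have h1 : act z = 1 := by
        refine MulEquiv.ext fun v => ?_
        rw [MulAut.one_apply]
        exact (hmemW v).1 (h.symm ▸ v.2)
      rw [h1, orderOf_one] at hzord'
      exact hp.out.one_lt.ne hzord'
    · intro x hx
      rw [Subgroup.mem_normalizer_iff]
      intro v
      constructor
      · intro hv
        rwa [hcomm x hx v hv.1, mul_inv_cancel_right]
      · intro hv
        have hvN : v ∈ N := by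
          have := N.mul_mem (N.mul_mem (N.inv_mem hx) hv.1) hx
          simpa [mul_assoc] using this
        rwa [hcomm x hx v hvN, mul_inv_cancel_right] at hv
    · have hfw : ∀ y : P, ∀ v ∈ W, (y : G) * v * (y : G)⁻¹ ∈ W := by
        intro y v hv
        have h1 := (hmemW ⟨v, hv.1⟩).1 hv
        rw [show (y : G) * v * (y : G)⁻¹ = ((act y ⟨v, hv.1⟩ : N) : G) from rfl, hmemW]
        have h2 : (act z * act y) ⟨v, hv.1⟩ = (act y * act z) ⟨v, hv.1⟩ := by rw [hzcomm]
        rw [MulAut.mul_apply, MulAut.mul_apply, h1] at h2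
        exact h2
      intro x hx
      rw [Subgroup.mem_normalizer_iff]
      refine fun v => ⟨hfw ⟨x, hx⟩ v, fun hv => ?_⟩
      have := hfw ⟨x, hx⟩⁻¹ _ hv
      simpa [mul_assoc] using this
  -- `z` acts without fixed points
  have hfp : ∀ v : N, act z v = v → v = 1 := fun v h =>
    Subtype.ext (Subgroup.mem_bot.1 (hW ▸ (hmemW v).2 h))
  have hzp : act z ^ p = 1 := hzord' ▸ pow_orderOf_eq_one _
  have hfixP : fixC N (P : Set G) = 1 := by
    have h1 : N ⊓ Subgroup.centralizer (P : Set G) ≤ W :=
      inf_le_inf_left _ (Subgroup.centralizer_le (Set.singleton_subset_iff.2 z.2))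
    rw [hW, le_bot_iff] at h1
    rw [fixC, h1, Subgroup.card_bot]
  letI : CommGroup N := { (inferInstance : Group N) with
    mul_comm := fun a b => Subtype.ext (hcomm a a.2 b b.2) }
  have hindep : ∀ x : P, ∏ i : Fin p, fixC N {((x * z ^ (i : ℕ) : P) : G)} ≤ n := by
    intro x
    let Cs : Fin p → Subgroup N := fun i =>
      { carrier := {v | act (x * z ^ (i : ℕ)) v = v}
        one_mem' := map_one _
        mul_mem' := fun {a b} ha hb => by
          show act _ (a * b) = a * b
          rw [map_mul, ha, hb]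
        inv_mem' := fun {a} ha => by
          show act _ a⁻¹ = a⁻¹
          rw [map_inv, ha] }
    have hCs : ∀ i : Fin p, fixC N {((x * z ^ (i : ℕ) : P) : G)} = Nat.card (Cs i) := by
      intro i
      rw [fixC]
      refine Nat.card_congr
        { toFun := fun v => ⟨⟨v, v.2.1⟩, Subtype.ext ?_⟩
          invFun := fun v => ⟨(v : N), v.1.2, ?_⟩
          left_inv := fun v => rfl
          right_inv := fun v => rfl }
      · rw [hact]
        exact mul_inv_eq_iff_eq_mul.2 (Subgroup.mem_centralizer_singleton_iff.1 v.2.2).symm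
      · refine Subgroup.mem_centralizer_singleton_iff.2 (mul_inv_eq_iff_eq_mul.1 ?_).symm
        exact congrArg Subtype.val v.2
    simp only [hCs]
    have hsep : ∀ (i j : Fin p) (v : N), v ∈ Cs i → act (x * z ^ (j : ℕ)) v = v → i ≠ j → v = 1 := by
      intro i j v hi hj hij
      have hi' : act (x * z ^ (i : ℕ)) v = v := hi
      rw [map_mul, map_pow, MulAut.mul_apply] at hi' hj
      have h1 : (act z ^ (i : ℕ)) v = (act z ^ (j : ℕ)) v := (act x).injective (hi'.trans hj.symm)
      obtain ⟨m, hm0, hmp, hm⟩ : ∃ m, 0 < m ∧ m < p ∧ (act z ^ m) v = v := by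
        rcases lt_or_gt_of_ne (fun h => hij (Fin.ext h)) with h | h
        · refine ⟨(j : ℕ) - i, by omega, by omega, (act z ^ (i : ℕ)).injective ?_⟩
          rw [← MulAut.mul_apply, ← pow_add, show (i : ℕ) + ((j : ℕ) - i) = j by omega, h1]
        · refine ⟨(i : ℕ) - j, by omega, by omega, (act z ^ (j : ℕ)).injective ?_⟩
          rw [← MulAut.mul_apply, ← pow_add, show (j : ℕ) + ((i : ℕ) - j) = i by omega, h1]
      have hall : ∀ l, ((act z ^ m) ^ l) v = v := by
        intro l
        induction l with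
        | zero => rfl
        | succ l ih => rw [pow_succ, MulAut.mul_apply, hm, ih]
      obtain ⟨l, hl⟩ := exists_pow_eq_self_of_coprime (n := m) (x := act z) (by
        rw [hzord']
        exact (hp.out.coprime_iff_not_dvd.2 fun h => by
          have := Nat.le_of_dvd hm0 h; omega).symm)
      apply hfp
      conv_lhs => rw [← hl]
      exact hall l
    have hstab : ∀ (i j : Fin p) (v : N), v ∈ Cs i →
        act (x * z ^ (j : ℕ)) v / v ∈ Cs i := by
      intro i j v hv
      refine (Cs i).div_mem ?_ hv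
      show act (x * z ^ (i : ℕ)) (act (x * z ^ (j : ℕ)) v) = act (x * z ^ (j : ℕ)) v
      have hc : act (x * z ^ (i : ℕ)) * act (x * z ^ (j : ℕ)) =
          act (x * z ^ (j : ℕ)) * act (x * z ^ (i : ℕ)) := by
        have hc1 : Commute (act x) (act z) := hzcomm x
        simp only [map_mul, map_pow]
        exact ((Commute.refl (act x)).mul_left (hc1.symm.pow_left _)).mul_right
          ((hc1.pow_right _).mul_left ((Commute.refl (act z)).pow_pow _ _))
      rw [← MulAut.mul_apply, hc, MulAut.mul_apply, show act (x * z ^ (i : ℕ)) v = v from hv]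
    have key : ∀ (s : Finset (Fin p)) (v : Fin p → N), (∀ i ∈ s, v i ∈ Cs i) →
        ∏ i ∈ s, v i = 1 → ∀ i ∈ s, v i = 1 := by
      intro s
      induction s using Finset.induction_on with
      | empty => intro v _ _ i hi; simp at hi
      | @insert j s hjs ih =>
        intro v hv hprod
        have hw := ih (fun i => act (x * z ^ (j : ℕ)) (v i) / v i)
          (fun i hi => hstab i j _ (hv i (Finset.mem_insert_of_mem hi))) ?_
        · have hs : ∀ i ∈ s, v i = 1 := fun i hi => hsep i j _ (hv i (Finset.mem_insert_of_mem hi))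
            (div_eq_one.1 (hw i hi)) (fun h => hjs (h ▸ hi))
          intro i hi
          rcases Finset.mem_insert.1 hi with rfl | hi'
          · rw [Finset.prod_insert hjs, Finset.prod_eq_one hs, mul_one] at hprod
            exact hprod
          · exact hs i hi'
        · rw [Finset.prod_insert hjs] at hprod
          have hvj : act (x * z ^ (j : ℕ)) (v j) = v j := hv j (Finset.mem_insert_self j s)
          rw [Finset.prod_div_distrib, ← map_prod, eq_inv_of_mul_eq_one_right hprod, map_inv, hvj,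
            div_self']
    have hinjΦ : Function.Injective fun v : (∀ i, Cs i) => ∏ i, ((v i : N)) := by
      intro v w hvw
      have h1 := key Finset.univ (fun i => (v i : N) / (w i : N))
        (fun i _ => (Cs i).div_mem (v i).2 (w i).2) (by
          rw [Finset.prod_div_distrib]; exact div_eq_one.2 hvw)
      funext i
      exact Subtype.ext (div_eq_one.1 (h1 i (Finset.mem_univ i)))
    have hle := Nat.card_le_card_of_injective _ hinjΦ
    rwa [Nat.card_pi, hn] at hle
  rw [hfixP, one_pow, mul_one, prodFix_eq]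
  calc (∏ x : P, fixC N {(x : G)}) ^ p
      = ∏ i : Fin p, ∏ x : P, fixC N {((x * z ^ (i : ℕ) : P) : G)} := by
        have h : ∀ i : Fin p, ∏ x : P, fixC N {((x * z ^ (i : ℕ) : P) : G)} =
            ∏ x : P, fixC N {(x : G)} := fun i =>
          Equiv.prod_comp (Equiv.mulRight (z ^ (i : ℕ))) (fun x : P => fixC N {(x : G)})
        simp only [h, Finset.prod_const, Finset.card_univ, Fintype.card_fin]
    _ = ∏ x : P, ∏ i : Fin p, fixC N {((x * z ^ (i : ℕ) : P) : G)} := Finset.prod_comm
    _ ≤ ∏ _x : P, n := Finset.prod_le_prod' fun x _ => hindep x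
    _ = n ^ Nat.card P := by rw [Finset.prod_const, Finset.card_univ, Nat.card_eq_fintype_card]

end qgroup

section general

/-- The fundamental inequality for coprime action of a `p`-group. -/
theorem coprime_bound {G : Type u} [Group G] [Finite G] {p : ℕ} [hp : Fact p.Prime]
    (P N : Subgroup G) (hP : IsPGroup p P) (hN : ¬ p ∣ Nat.card N)
    (hPN : P ≤ Subgroup.normalizer (N : Set G)) :
    prodFix P N ^ p ≤
      Nat.card N ^ Nat.card P * fixC N (P : Set G) ^ ((p - 1) * Nat.card P) := by
  classical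
  haveI := Fintype.ofFinite P
  have hne : ∀ x : P, fixC N {(x : G)} ≠ 0 := fun x => (fixC_pos _ _).ne'
  have hl : prodFix P N ^ p ≠ 0 := by
    rw [prodFix_eq]; exact pow_ne_zero _ (Finset.prod_ne_zero_iff.2 fun x _ => hne x)
  have hr : Nat.card N ^ Nat.card P * fixC N (P : Set G) ^ ((p - 1) * Nat.card P) ≠ 0 :=
    mul_ne_zero (pow_ne_zero _ Nat.card_pos.ne') (pow_ne_zero _ (fixC_pos _ _).ne')
  refine Nat.le_of_dvd (Nat.pos_of_ne_zero hr) ((Nat.factorization_le_iff_dvd hl hr).1 fun q => ?_)
  rw [prodFix_eq, Nat.factorization_pow, Nat.factorization_prod (fun x _ => hne x),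
    Nat.factorization_mul (pow_ne_zero _ Nat.card_pos.ne') (pow_ne_zero _ (fixC_pos _ _).ne'),
    Nat.factorization_pow, Nat.factorization_pow]
  simp only [Finsupp.smul_apply, Finsupp.finset_sum_apply, Finsupp.add_apply, smul_eq_mul]
  by_cases hqN : q.Prime ∧ q ∣ Nat.card N
  swap
  · have h0 : ∀ s : Set G, (fixC N s).factorization q = 0 := fun s => by
      rw [Nat.factorization_eq_zero_iff]
      by_contra h
      push Not at h
      exact hqN ⟨h.1, h.2.1.trans (fixC_dvd N s)⟩
    simp [h0]
  obtain ⟨hqp, hqd⟩ := hqN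
  haveI := Fact.mk hqp
  have hpq : p ≠ q := fun h => hN (h ▸ hqd)
  have hcop : (Nat.card P).Coprime (Nat.card N) := by
    obtain ⟨k, hk⟩ := IsPGroup.iff_card.1 hP
    rw [hk]
    exact (hp.out.coprime_iff_not_dvd.2 hN).pow_left k
  have hsolvP : Group.IsSolvable P := by
    haveI := hP.isNilpotent
    infer_instance
  obtain ⟨Q, hQ⟩ := Coprime.exists_invariant_sylow hPN hcop (Or.inl hsolvP) q
  set Qg := (Q : Subgroup N).map N.subtype with hQg
  have hQgq : IsPGroup q Qg := Q.isPGroup'.map _
  have hQgN : Qg ≤ N := Subgroup.map_subtype_le _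
  have hQcard : Nat.card Qg = q ^ (Nat.card N).factorization q := by
    rw [hQg, Subgroup.card_map_of_injective N.subtype_injective, Q.card_eq_multiplicity]
  have hpart : ∀ A : Subgroup G, A ≤ P →
      fixC Qg (A : Set G) = q ^ (fixC N (A : Set G)).factorization q := by
    intro A hAP
    obtain ⟨j, hj⟩ := IsPGroup.iff_card.1 (hQgq.to_le
      (inf_le_left : Qg ⊓ Subgroup.centralizer (A : Set G) ≤ Qg))
    have hle : j ≤ (fixC N (A : Set G)).factorization q :=
      (hqp.pow_dvd_iff_le_factorization (fixC_pos _ _).ne').1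
        (hj ▸ Subgroup.card_dvd_of_le (inf_le_inf_right _ hQgN))
    obtain ⟨R⟩ : Nonempty (Sylow q ↥(N ⊓ Subgroup.centralizer (A : Set G))) := inferInstance
    set Rg := (R : Subgroup ↥(N ⊓ Subgroup.centralizer (A : Set G))).map (Subgroup.subtype _) with hRg
    have hRgle : Rg ≤ N ⊓ Subgroup.centralizer (A : Set G) := Subgroup.map_subtype_le _
    have hAcop := hcop.coprime_dvd_left (Subgroup.card_dvd_of_le hAP)
    have hAsolv : Group.IsSolvable A ∨ Group.IsSolvable N := Or.inl (Coprime.isSolvable_of_le hAP hsolvP)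
    obtain ⟨Q', hRQ', hAQ'⟩ := Coprime.exists_invariant_sylow_ge (A := A) (K := N) (hAP.trans hPN)
      hAcop hAsolv q Rg (hRgle.trans inf_le_left) (R.isPGroup'.map _) (by
        intro a ha
        refine Subgroup.centralizer_le_normalizer _ (Subgroup.mem_centralizer_iff.2 fun r hr => ?_)
        exact (Subgroup.mem_centralizer_iff.1 (hRgle hr).2 a ha).symm)
    obtain ⟨c, hc, hcQ⟩ := Coprime.exists_centralizer_conj_sylow (A := A) (K := N) (hAP.trans hPN)
      hAcop hAsolv Q' Q hAQ' (hAP.trans hQ)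
    have hsub : MulAut.conj (c : G) • Rg ≤ Qg ⊓ Subgroup.centralizer (A : Set G) := by
      intro y hy
      rw [Coprime.mem_conj_smul] at hy
      refine ⟨?_, ?_⟩
      · have h1 : y ∈ MulAut.conj (c : G) • (Q' : Subgroup N).map N.subtype := by
          rw [Coprime.mem_conj_smul]; exact hRQ' hy
        rw [← Coprime.sylow_map_conj_smul, hcQ] at h1
        exact h1
      · have h2 := (Subgroup.centralizer (A : Set G)).mul_mem
          ((Subgroup.centralizer (A : Set G)).mul_mem hc (hRgle hy).2)
          ((Subgroup.centralizer (A : Set G)).inv_mem hc)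
        simpa [mul_assoc] using h2
    have hge := Subgroup.card_le_of_le hsub
    rw [Coprime.card_conj_smul, hRg,
      Subgroup.card_map_of_injective (Subgroup.subtype_injective _), R.card_eq_multiplicity, hj] at hge
    have hge' := (Nat.pow_le_pow_iff_right hqp.one_lt).1 hge
    show Nat.card ↥(Qg ⊓ Subgroup.centralizer (A : Set G)) = _
    rw [hj]
    exact congrArg _ (le_antisymm hle hge')
  have hx : ∀ x : P, fixC Qg {(x : G)} = q ^ (fixC N {(x : G)}).factorization q := fun x => by
    rw [← fixC_zpowers, ← fixC_zpowers]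
    exact hpart _ (Subgroup.zpowers_le.2 x.2)
  have hb := q_bound hpq (Nat.card Qg) G P Qg rfl hP hQgq hQ
  rw [prodFix_eq, Finset.prod_congr rfl fun x _ => hx x, Finset.prod_pow_eq_pow_sum, ← pow_mul,
    hQcard, hpart P le_rfl, ← pow_mul, ← pow_mul, ← pow_add] at hb
  have hb' := (Nat.pow_le_pow_iff_right hqp.one_lt).1 hb
  linarith

end general
section main

open Cfsg

variable {G : Type u} [Group G]

/-- The number of Sylow subgroups containing `x`. -/
noncomputable def lam (p : ℕ) (x : G) : ℕ := Nat.card {S : Sylow p G // x ∈ (S : Subgroup G)}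

theorem card_eq_mul_of_fibers {α β : Type*} [Finite α] [Finite β] (f : α → β) (c k : ℕ)
    (h : ∀ b, Nat.card {a : α // f a = b} * c = k) : Nat.card α * c = Nat.card β * k := by
  classical
  haveI := Fintype.ofFinite β
  rw [← Nat.card_congr (Equiv.sigmaFiberEquiv f), Nat.card_sigma, Finset.sum_mul,
    Finset.sum_congr rfl fun b _ => h b, Finset.sum_const, Finset.card_univ, smul_eq_mul,
    Nat.card_eq_fintype_card]

variable [Finite G] {p : ℕ} [hp : Fact p.Prime]

/-- A Sylow subgroup of the quotient containing the image of a `p`-element `x` is the image of a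
Sylow subgroup containing `x`. -/
theorem exists_sylow_over (N : Subgroup G) [N.Normal] (x : G) (hx : IsPGroup p (Subgroup.zpowers x))
    (Sb : Sylow p (G ⧸ N)) (hxS : QuotientGroup.mk' N x ∈ (Sb : Subgroup (G ⧸ N))) :
    ∃ S : Sylow p G, x ∈ (S : Subgroup G) ∧
      S.mapSurjective (QuotientGroup.mk'_surjective N) = Sb := by
  set f := QuotientGroup.mk' N with hf
  set H := (Sb : Subgroup (G ⧸ N)).comap f with hH
  have hxH : Subgroup.zpowers x ≤ H := Subgroup.zpowers_le.2 hxS
  obtain ⟨S0, hS0⟩ := (hx.of_equiv (Subgroup.subgroupOfEquivOfLe hxH).symm :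
    IsPGroup p ((Subgroup.zpowers x).subgroupOf H)).exists_le_sylow
  set Q := (S0 : Subgroup H).map H.subtype with hQ
  have hQi : ¬ p ∣ Q.index := by
    rw [hQ, Subgroup.index_map_subtype, show H.index = (Sb : Subgroup (G ⧸ N)).index from
      Subgroup.index_comap_of_surjective (Sb : Subgroup (G ⧸ N)) (QuotientGroup.mk'_surjective N)]
    exact Nat.Prime.not_dvd_mul hp.out S0.not_dvd_index Sb.not_dvd_index
  refine ⟨(S0.isPGroup'.map H.subtype).toSylow hQi,
    ⟨⟨x, hxS⟩, hS0 (Subgroup.mem_subgroupOf.2 (Subgroup.mem_zpowers x)), rfl⟩, ?_⟩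
  refine Sylow.ext ((Sylow.is_maximal' _ Sb.isPGroup' ?_).symm)
  rw [Sylow.coe_mapSurjective]
  exact Subgroup.map_le_iff_le_comap.2 (Subgroup.map_subtype_le _)

theorem fixC_sylow_eq (N : Subgroup G) [N.Normal] (S T : Sylow p G) :
    fixC N ((S : Subgroup G) : Set G) = fixC N ((T : Subgroup G) : Set G) := by
  obtain ⟨g, hg⟩ := MulAction.exists_smul_eq G T S
  have hS : ((S : Subgroup G) : Set G) = (MulAut.conj g : G ≃* G).toMonoidHom '' (T : Subgroup G) := by
    rw [← hg]
    rfl
  have hNg : N.map (MulAut.conj g : G ≃* G).toMonoidHom = N :=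
    Coprime.conj_smul_eq_of_mem_normalizer (by rw [Subgroup.normalizer_eq_top]; trivial)
  rw [hS]
  conv_lhs => rw [← hNg]
  exact fixC_map_injective (MulAut.conj g : G ≃* G).injective N _

/-- Sylow subgroups through a `p`-element modulo a normal `p'`-subgroup. -/
theorem lam_eq (N : Subgroup G) [N.Normal] (hN : ¬ p ∣ Nat.card N) (P : Sylow p G) (x : G)
    (hx : IsPGroup p (Subgroup.zpowers x)) :
    lam p x * fixC N ((P : Subgroup G) : Set G) =
      lam p (QuotientGroup.mk' N x) * fixC N {x} := by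
  classical
  set f := QuotientGroup.mk' N with hf
  have hsurj := QuotientGroup.mk'_surjective N
  let π : {S : Sylow p G // x ∈ (S : Subgroup G)} →
      {T : Sylow p (G ⧸ N) // f x ∈ (T : Subgroup (G ⧸ N))} :=
    fun S => ⟨S.1.mapSurjective hsurj, ⟨x, S.2, rfl⟩⟩
  refine card_eq_mul_of_fibers π _ _ fun Tb => ?_
  obtain ⟨S0, hxS0, hS0⟩ := exists_sylow_over N x hx Tb.1 Tb.2
  set K := N ⊓ Subgroup.centralizer ({x} : Set G) with hK
  have hcopx : (Nat.card (Subgroup.zpowers x)).Coprime (Nat.card N) := by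
    obtain ⟨k, hk⟩ := IsPGroup.iff_card.1 hx
    rw [hk]
    exact (hp.out.coprime_iff_not_dvd.2 hN).pow_left k
  have hfixS : ∀ S : Sylow p G, x ∈ (S : Subgroup G) →
      ∀ a ∈ Subgroup.zpowers x, a • S = S := fun S hS a ha =>
    Sylow.smul_eq_iff_mem_normalizer.2 (Subgroup.le_normalizer ((Subgroup.zpowers_le.2 hS) ha))
  have hfixn : ∀ n ∈ N, ∀ S : Sylow p G, (n • S).mapSurjective hsurj = S.mapSurjective hsurj := by
    intro n hn S
    apply Sylow.ext
    rw [Sylow.coe_mapSurjective, Sylow.coe_mapSurjective, Sylow.coe_subgroup_smul]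
    ext y
    constructor
    · rintro ⟨w, hw, rfl⟩
      rw [SetLike.mem_coe, Coprime.mem_conj_smul] at hw
      refine ⟨_, hw, ?_⟩
      simp [hf, (QuotientGroup.eq_one_iff n).2 hn]
    · rintro ⟨w, hw, rfl⟩
      refine ⟨n * w * n⁻¹, ?_, ?_⟩
      · rw [SetLike.mem_coe, Coprime.mem_conj_smul, show n⁻¹ * (n * w * n⁻¹) * n = w by group]
        exact hw
      · simp [hf, (QuotientGroup.eq_one_iff n).2 hn]
  let e : {S : {S : Sylow p G // x ∈ (S : Subgroup G)} // π S = Tb} ≃
      MulAction.orbit (K : Subgroup G) S0 :=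
    { toFun := fun S => ⟨S.1.1, by
        have hSn : ∃ n ∈ N, n • S0 = S.1.1 := by
          set M := (S0 : Subgroup G) ⊔ N with hM
          have hS0M : (S0 : Subgroup G) ≤ M := le_sup_left
          have hSM : (S.1.1 : Subgroup G) ≤ M := by
            intro y hy
            have h1 : f y ∈ (Tb.1 : Subgroup (G ⧸ N)) := by
              rw [← congrArg Subtype.val S.2]
              exact ⟨y, hy, rfl⟩
            rw [← hS0] at h1
            obtain ⟨w, hw, hwe⟩ := h1
            have h2 : w⁻¹ * y ∈ N := QuotientGroup.eq.1 hwe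
            simpa using M.mul_mem (hS0M hw) (Subgroup.mem_sup_right h2 : w⁻¹ * y ∈ M)
          obtain ⟨h, hh⟩ := MulAction.exists_smul_eq M (S0.subtype hS0M) (S.1.1.subtype hSM)
          obtain ⟨n, hn, s, hs, hns⟩ := Coprime.exists_mul_of_mem_sup (N := N)
            (H := (S0 : Subgroup G)) (by rw [Subgroup.normalizer_eq_top]; exact le_top)
            (show (h : G) ∈ N ⊔ (S0 : Subgroup G) by rw [sup_comm]; exact h.2)
          refine ⟨n, hn, ?_⟩
          have h3 : (h : G) • S0 = S.1.1 := by
            rw [Sylow.smul_subtype hS0M] at hh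
            exact Sylow.subtype_injective hh
          rw [hns, mul_smul, Sylow.smul_eq_iff_mem_normalizer.2 (Subgroup.le_normalizer hs)] at h3
          exact h3
        obtain ⟨n, hn, hnS⟩ := hSn
        obtain ⟨c, hcN, hcC, hcS⟩ := Coprime.exists_centralizer_smul_eq (A := Subgroup.zpowers x)
          (K := N) (by rw [Subgroup.normalizer_eq_top]; exact le_top) hcopx
          (Or.inl (Coprime.isSolvable_zpowers x)) S0 S.1.1 (hfixS S0 hxS0) (hfixS S.1.1 S.1.2)
          ⟨n, hn, hnS⟩
        exact ⟨⟨c, hcN, by rwa [← cen_zpowers]⟩, hcS⟩⟩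
      invFun := fun S => ⟨⟨S.1, by
        obtain ⟨c, hc⟩ := S.2
        rw [← hc]
        show x ∈ (((c : G) • S0 : Sylow p G) : Subgroup G)
        rw [Sylow.coe_subgroup_smul, Coprime.mem_conj_smul]
        have h1 : (c : G) * x = x * c := Subgroup.mem_centralizer_singleton_iff.1 c.2.2
        rw [mul_assoc, ← h1, inv_mul_cancel_left]
        exact hxS0⟩, by
        obtain ⟨c, hc⟩ := S.2
        apply Subtype.ext
        show Sylow.mapSurjective hsurj S.1 = Tb.1
        rw [← hc, ← hS0]
        exact hfixn c c.2.1 S0⟩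
      left_inv := fun S => rfl
      right_inv := fun S => rfl }
  rw [Nat.card_congr e]
  have hstab : Nat.card (MulAction.stabilizer K S0) = fixC N ((S0 : Subgroup G) : Set G) := by
    refine Nat.card_congr
      { toFun := fun c => ⟨((c : K) : G), (c : K).2.1, ?_⟩
        invFun := fun c => ⟨⟨c, c.2.1, ?_⟩, ?_⟩
        left_inv := fun c => rfl
        right_inv := fun c => rfl }
    · refine Subgroup.mem_centralizer_iff.2 fun s hs => ?_
      have hcn : ((c : K) : G) ∈ Subgroup.normalizer ((S0 : Subgroup G) : Set G) :=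
        Sylow.smul_eq_iff_mem_normalizer.1 c.2
      set m : G := ((c : K) : G) with hm
      have h1 : s⁻¹ * m * s * m⁻¹ ∈ N ⊓ (S0 : Subgroup G) := by
        refine ⟨?_, ?_⟩
        · refine N.mul_mem ?_ (N.inv_mem (c : K).2.1)
          simpa using (inferInstance : N.Normal).conj_mem m (c : K).2.1 s⁻¹
        · have h2 := (Subgroup.mem_normalizer_iff.1 hcn s).1 hs
          rw [show s⁻¹ * m * s * m⁻¹ = s⁻¹ * (m * s * m⁻¹) by group]
          exact (S0 : Subgroup G).mul_mem ((S0 : Subgroup G).inv_mem hs) h2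
      have h3 : N ⊓ (S0 : Subgroup G) = ⊥ := by
        refine Coprime.inf_eq_bot_of_coprime_card ?_
        obtain ⟨k, hk⟩ := IsPGroup.iff_card.1 S0.isPGroup'
        rw [hk]
        exact ((hp.out.coprime_iff_not_dvd.2 hN).pow_left k).symm
      rw [h3, Subgroup.mem_bot] at h1
      calc s * m = s * (s⁻¹ * m * s * m⁻¹) * m := by rw [h1, mul_one]
        _ = m * s := by group
    · exact Subgroup.centralizer_le (Set.singleton_subset_iff.2 hxS0) c.2.2
    · show (c : G) • S0 = S0
      exact Sylow.smul_eq_iff_mem_normalizer.2 (Subgroup.centralizer_le_normalizer _ c.2.2)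
  rw [← fixC_sylow_eq N S0 P, ← hstab, Nat.card_coe_set_eq, ← MulAction.index_stabilizer,
    Subgroup.index_mul_card]
  rfl

/-- The geometric mean of the number of Sylow subgroups through the elements of `P`. -/
theorem prod_lam_le : ∀ (m : ℕ) (G : Type u) [Group G] [Finite G], Nat.card G = m →
    Cfsg.IsPSolvable p G → ∀ P : Sylow p G,
    (∏ᶠ x : (P : Subgroup G), lam p (x : G)) ^ p ≤
      Nat.card (Sylow p G) ^ Nat.card (P : Subgroup G) := by
  classical
  intro m
  induction m using Nat.strong_induction_on with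
  | _ m IH =>
  intro G _ _ hm hG P
  haveI := Fintype.ofFinite (P : Subgroup G)
  rw [finprod_eq_prod_of_fintype]
  rcases subsingleton_or_nontrivial G with hs | hnt
  · haveI : Subsingleton (Sylow p G) :=
      ⟨fun a b => Sylow.ext (Subsingleton.elim _ _)⟩
    have h1 : ∀ y : G, lam p y ≤ 1 := fun y => by
      unfold lam
      exact Finite.card_le_one_iff_subsingleton.2 inferInstance
    refine le_trans ?_ (Nat.one_le_pow _ _ Nat.card_pos)
    exact (Nat.pow_le_pow_left (Finset.prod_le_one' (s := Finset.univ) (f := fun x : (P : Subgroup G) => lam p (x : G)) fun x _ => h1 x) p).trans (one_pow p).le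
  obtain ⟨N, hNn, hNbot, hNf⟩ := Coprime.SylowNormalizes.exists_normal_chain_factor hG
  haveI := hNn
  set f := QuotientGroup.mk' N with hf
  have hsurj : Function.Surjective f := QuotientGroup.mk'_surjective N
  have hlt : Nat.card (G ⧸ N) < m := by
    rw [← hm, Subgroup.card_eq_card_quotient_mul_card_subgroup N]
    exact lt_mul_of_one_lt_right Nat.card_pos ((Subgroup.one_lt_card_iff_ne_bot N).2 hNbot)
  set Pb := P.mapSurjective hsurj with hPb
  have hIH := IH _ hlt (G ⧸ N) rfl (BlockHeights.isPSolvable_quot N hG) Pb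
  haveI := Fintype.ofFinite (Pb : Subgroup (G ⧸ N))
  rw [finprod_eq_prod_of_fintype] at hIH
  by_cases hNp : p ∣ Nat.card N
  · have hNP : IsPGroup p N := by
      rcases hNf with ⟨k, hk⟩ | hc
      · exact IsPGroup.of_card hk
      · exact absurd hNp (hp.out.coprime_iff_not_dvd.1 hc.symm)
    have hle : ∀ S : Sylow p G, N ≤ (S : Subgroup G) := by
      intro S
      have h1 : IsPGroup p ((S : Subgroup G) ⊔ N : Subgroup G) := S.isPGroup'.to_sup_of_normal_right hNP
      rw [← S.is_maximal' h1 le_sup_left]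
      exact le_sup_right
    have hpre : ∀ (S : Sylow p G) (y : G), f y ∈ (S.mapSurjective hsurj : Subgroup (G ⧸ N)) →
        y ∈ (S : Subgroup G) := by
      rintro S y ⟨w, hw, hwe⟩
      simpa using (S : Subgroup G).mul_mem hw (hle S (QuotientGroup.eq.1 hwe))
    have hπinj : Function.Injective
        (Sylow.mapSurjective hsurj : Sylow p G → Sylow p (G ⧸ N)) := by
      intro S T h
      refine Sylow.ext (le_antisymm (fun y hy => hpre T y ?_) (fun y hy => hpre S y ?_))
      · rw [← h]; exact ⟨y, hy, rfl⟩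
      · rw [h]; exact ⟨y, hy, rfl⟩
    have hn : Nat.card (Sylow p G) = Nat.card (Sylow p (G ⧸ N)) :=
      Nat.card_eq_of_bijective _ ⟨hπinj, Sylow.mapSurjective_surjective hsurj p⟩
    have hlam : ∀ y : G, lam p y = lam p (f y) := by
      intro y
      refine Nat.card_eq_of_bijective
        (fun S : {S : Sylow p G // y ∈ (S : Subgroup G)} =>
          (⟨S.1.mapSurjective hsurj, ⟨y, S.2, rfl⟩⟩ :
            {T : Sylow p (G ⧸ N) // f y ∈ (T : Subgroup (G ⧸ N))}))
        ⟨fun S T h => Subtype.ext (hπinj congr(($h).1)), fun T => ?_⟩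
      obtain ⟨S, hS⟩ := Sylow.mapSurjective_surjective hsurj p T.1
      exact ⟨⟨S, hpre S y (hS ▸ T.2)⟩, Subtype.ext hS⟩
    let g : (P : Subgroup G) →* (Pb : Subgroup (G ⧸ N)) :=
      (f.comp (P : Subgroup G).subtype).codRestrict (Pb : Subgroup (G ⧸ N))
        fun x => ⟨x, x.2, rfl⟩
    have hg : Function.Surjective g := by
      rintro ⟨_, y, hy, rfl⟩
      exact ⟨⟨y, hy⟩, rfl⟩
    set c := (Finset.univ.filter fun x => g x = 1).card with hc
    have hfib : ∀ b, (Finset.univ.filter fun x => g x = b).card = c := fun b => by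
      exact MonoidHom.card_fiber_eq_of_mem_range g (hg b) (hg 1)
    have hcard : Nat.card (P : Subgroup G) = Nat.card (Pb : Subgroup (G ⧸ N)) * c := by
      rw [Nat.card_eq_fintype_card, Nat.card_eq_fintype_card, ← Finset.card_univ,
        Finset.card_eq_sum_card_fiberwise (t := Finset.univ) (f := g) (fun x _ => Finset.mem_univ _),
        Finset.sum_congr rfl fun b _ => hfib b, Finset.sum_const, Finset.card_univ, smul_eq_mul]
    have hprod : ∏ x : (P : Subgroup G), lam p (x : G) =
        (∏ b : (Pb : Subgroup (G ⧸ N)), lam p (b : G ⧸ N)) ^ c := by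
      rw [← Finset.prod_fiberwise Finset.univ g, ← Finset.prod_pow]
      refine Finset.prod_congr rfl fun b _ => ?_
      rw [← hfib b, ← Finset.prod_const]
      refine Finset.prod_congr rfl fun x hx => ?_
      rw [hlam, ← (Finset.mem_filter.1 hx).2]
      rfl
    rw [hprod, ← pow_mul, mul_comm c p, pow_mul, hn, hcard, pow_mul]
    exact Nat.pow_le_pow_left hIH c
  · have hx : ∀ x : (P : Subgroup G), IsPGroup p (Subgroup.zpowers (x : G)) := fun x =>
      P.isPGroup'.to_le (Subgroup.zpowers_le.2 x.2)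
    have h1 : lam p (1 : G) = Nat.card (Sylow p G) := Nat.card_congr (Equiv.subtypeUnivEquiv fun S => one_mem _)
    have h1' : lam p (1 : G ⧸ N) = Nat.card (Sylow p (G ⧸ N)) :=
      Nat.card_congr (Equiv.subtypeUnivEquiv fun S => one_mem _)
    have h2 : fixC N ({1} : Set G) = Nat.card N :=
      fixC_eq_card fun a _ => Subgroup.mem_centralizer_singleton_iff.2 (by simp)
    have hn := lam_eq N hNp P 1 (by rw [Subgroup.zpowers_one_eq_bot]; exact IsPGroup.of_bot)
    rw [h1, h2, map_one, h1'] at hn
    have hcop : (Nat.card (P : Subgroup G)).Coprime (Nat.card N) := by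
      obtain ⟨k, hk⟩ := IsPGroup.iff_card.1 P.isPGroup'
      rw [hk]
      exact (hp.out.coprime_iff_not_dvd.2 hNp).pow_left k
    have hinj : Set.InjOn f (P : Subgroup G) := by
      intro a ha b hb hab
      exact inv_mul_eq_one.1 (Coprime.eq_one_of_mem_of_mem hcop
        ((P : Subgroup G).mul_mem ((P : Subgroup G).inv_mem ha) hb) (QuotientGroup.eq.1 hab))
    let ψ : ↥(P : Subgroup G) → ↥(Pb : Subgroup (G ⧸ N)) := fun x => ⟨f x, ⟨x, x.2, rfl⟩⟩
    have hψ : Function.Bijective ψ := ⟨fun a b h => Subtype.ext (hinj a.2 b.2 congr(($h).1)),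
      fun ⟨_, y, hy, he⟩ => ⟨⟨y, hy⟩, Subtype.ext he⟩⟩
    have hcardP : Nat.card (P : Subgroup G) = Nat.card (Pb : Subgroup (G ⧸ N)) :=
      Nat.card_eq_of_bijective ψ hψ
    set F := fixC N ((P : Subgroup G) : Set G) with hF
    have hprod : (∏ x : (P : Subgroup G), lam p (x : G)) * F ^ Nat.card (P : Subgroup G) =
        (∏ b : (Pb : Subgroup (G ⧸ N)), lam p (b : G ⧸ N)) * prodFix (P : Subgroup G) N := by
      rw [prodFix_eq, ← Fintype.prod_bijective ψ hψ (fun x => lam p (f x)) _ fun x => rfl,
        ← Finset.prod_mul_distrib, Nat.card_eq_fintype_card, ← Finset.card_univ, ← Finset.prod_const,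
        ← Finset.prod_mul_distrib]
      exact Finset.prod_congr rfl fun x _ => lam_eq N hNp P x (hx x)
    have hb := coprime_bound (P : Subgroup G) N P.isPGroup' hNp
      (by rw [Subgroup.normalizer_eq_top]; exact le_top)
    rw [← hcardP] at hIH
    have h3 := Nat.mul_le_mul hIH hb
    rw [← mul_pow, ← hprod, mul_pow, ← pow_mul, ← mul_assoc, ← mul_pow, ← hn, mul_pow, mul_assoc,
      ← pow_add] at h3
    have hexp : Nat.card (P : Subgroup G) + (p - 1) * Nat.card (P : Subgroup G) =
        Nat.card (P : Subgroup G) * p := by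
      obtain ⟨r, rfl⟩ : ∃ r, p = r + 1 := ⟨p - 1, by have := hp.out.pos; omega⟩
      simp; ring
    rw [hexp] at h3
    exact Nat.le_of_mul_le_mul_right h3 (pow_pos (fixC_pos _ _) _)

end main

/-- Let G be a finite p-solvable group, P a Sylow p-subgroup of G, u the number of p-elements of G (elements of p-power order, the identity included) and n the number of Sylow p-subgroups of G. Then u/#P ≥ n^((p−1)/p), stated as u^p ≥ #P^p · n^(p−1). -/
theorem result {G : Type*} [Group G] [Finite G] (p : ℕ) [Fact p.Prime]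
    (hG : Cfsg.IsPSolvable p G) (P : Sylow p G) :
    Nat.card (P : Subgroup G) ^ p * Nat.card (Sylow p G) ^ (p - 1) ≤ Nat.card {g : G // ∃ k : ℕ, orderOf g = p ^ k} ^ p := by
  classical
  have hp : Fact p.Prime := inferInstance
  haveI := Fintype.ofFinite (P : Subgroup G)
  haveI := Fintype.ofFinite (Sylow p G)
  haveI := Fintype.ofFinite G
  set n := Nat.card (Sylow p G) with hn
  set U : Finset G := Finset.univ.filter fun g => ∃ k : ℕ, orderOf g = p ^ k with hU
  have hUcard : Nat.card {g : G // ∃ k : ℕ, orderOf g = p ^ k} = U.card := by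
    rw [Nat.card_eq_fintype_card, Fintype.card_subtype]
  have hmem : ∀ (S : Sylow p G) (g : G), g ∈ (S : Subgroup G) → g ∈ U := by
    intro S g hg
    refine Finset.mem_filter.2 ⟨Finset.mem_univ _, ?_⟩
    obtain ⟨k, hk⟩ := IsPGroup.iff_orderOf.1 S.isPGroup' ⟨g, hg⟩
    exact ⟨k, by rwa [Subgroup.orderOf_mk] at hk⟩
  have hlampos : ∀ g ∈ U, 0 < lam p g := by
    intro g hg
    obtain ⟨k, hk⟩ := (Finset.mem_filter.1 hg).2
    obtain ⟨S, hS⟩ := (IsPGroup.of_card (n := k) (by rw [Nat.card_zpowers, hk]) :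
      IsPGroup p (Subgroup.zpowers g)).exists_le_sylow
    haveI : Nonempty {S : Sylow p G // g ∈ (S : Subgroup G)} :=
      ⟨⟨S, hS (Subgroup.mem_zpowers g)⟩⟩
    exact Nat.card_pos
  let w : G → ℝ := fun g => 1 / (lam p g : ℝ)
  have hwinv : ∀ (c g : G), w (c * g * c⁻¹) = w g := by
    intro c g
    have : lam p (c * g * c⁻¹) = lam p g := by
      refine (Nat.card_congr (Equiv.subtypeEquiv (MulAction.toPerm c : Equiv.Perm (Sylow p G))
        fun S => ?_)).symm
      rw [MulAction.toPerm_apply, Sylow.coe_subgroup_smul, Coprime.mem_conj_smul]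
      simp [mul_assoc]
    simp only [w, this]
  have hsum : (U.card : ℝ) = n * ∑ x : (P : Subgroup G), w (x : G) := by
    have h1 : ∀ S : Sylow p G, ∑ g ∈ U, (if g ∈ (S : Subgroup G) then w g else 0) =
        ∑ x : (P : Subgroup G), w (x : G) := by
      intro S
      rw [← Finset.sum_filter]
      obtain ⟨c, hc⟩ := MulAction.exists_smul_eq G P S
      refine (Finset.sum_bij (fun (x : (P : Subgroup G)) _ => c * (x : G) * c⁻¹) ?_ ?_ ?_ ?_).symm
      · intro x _
        have : c * (x : G) * c⁻¹ ∈ (S : Subgroup G) := by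
          rw [← hc, Sylow.coe_subgroup_smul, Coprime.mem_conj_smul]; simp [mul_assoc]
        exact Finset.mem_filter.2 ⟨hmem S _ this, this⟩
      · intro a _ b _ h
        exact Subtype.ext (mul_left_cancel (mul_right_cancel h))
      · intro g hg
        have hgS := (Finset.mem_filter.1 hg).2
        rw [← hc, Sylow.coe_subgroup_smul, Coprime.mem_conj_smul] at hgS
        exact ⟨⟨_, hgS⟩, Finset.mem_univ _, by simp [mul_assoc]⟩
      · intro x _
        exact (hwinv c x).symm
    have h2 : ∀ g ∈ U, ∑ S : Sylow p G, (if g ∈ (S : Subgroup G) then w g else 0) = 1 := by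
      intro g hg
      rw [← Finset.sum_filter, Finset.sum_const, nsmul_eq_mul, ← Fintype.card_subtype,
        ← Nat.card_eq_fintype_card]
      exact mul_one_div_cancel (Nat.cast_ne_zero.2 (hlampos g hg).ne')
    calc (U.card : ℝ) = ∑ g ∈ U, (1 : ℝ) := by simp
      _ = ∑ g ∈ U, ∑ S : Sylow p G, (if g ∈ (S : Subgroup G) then w g else 0) :=
          Finset.sum_congr rfl fun g hg => (h2 g hg).symm
      _ = ∑ S : Sylow p G, ∑ g ∈ U, (if g ∈ (S : Subgroup G) then w g else 0) := Finset.sum_comm
      _ = _ := by rw [Finset.sum_congr rfl fun S _ => h1 S, Finset.sum_const, Finset.card_univ,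
                    nsmul_eq_mul, hn, Nat.card_eq_fintype_card]
  have hkey := prod_lam_le (p := p) _ G rfl hG P
  rw [finprod_eq_prod_of_fintype] at hkey
  set k := Nat.card (P : Subgroup G) with hk
  have hk0 : (0 : ℝ) < k := Nat.cast_pos.2 Nat.card_pos
  have hn0 : (0 : ℝ) < n := Nat.cast_pos.2 Nat.card_pos
  have hw0 : ∀ x : (P : Subgroup G), 0 < w (x : G) := fun x =>
    div_pos one_pos (Nat.cast_pos.2 (hlampos _ (hmem P _ x.2)))
  set A := (∑ x : (P : Subgroup G), w (x : G)) / k with hA
  have hA0 : 0 ≤ A := div_nonneg (Finset.sum_nonneg fun x _ => (hw0 x).le) hk0.le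
  have hamgm : ∏ x : (P : Subgroup G), w (x : G) ≤ A ^ k := by
    have h := Real.geom_mean_le_arith_mean Finset.univ (fun _ : (P : Subgroup G) => (1 : ℝ))
      (fun x => w (x : G)) (fun _ _ => zero_le_one) (by simp [Fintype.card_pos])
      (fun x _ => (hw0 x).le)
    simp only [Real.rpow_one, one_mul, Finset.sum_const, Finset.card_univ, nsmul_eq_mul, mul_one,
      ← Nat.card_eq_fintype_card, ← hk, ← hA] at h
    have h2 := pow_le_pow_left₀ (Real.rpow_nonneg (Finset.prod_nonneg fun x _ => (hw0 x).le) _) h k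
    rwa [Real.rpow_inv_natCast_pow (Finset.prod_nonneg fun x _ => (hw0 x).le) Nat.card_pos.ne'] at h2
  have hlow : (1 / (n : ℝ)) ^ k ≤ (A ^ p) ^ k := by
    rw [← pow_mul, mul_comm p k, pow_mul]
    refine le_trans ?_ (pow_le_pow_left₀ (Finset.prod_nonneg fun x _ => (hw0 x).le) hamgm p)
    have hpos : (0 : ℝ) < ∏ x : (P : Subgroup G), (lam p (x : G) : ℝ) :=
      Finset.prod_pos fun x _ => Nat.cast_pos.2 (hlampos _ (hmem P _ x.2))
    simp only [w, one_div, Finset.prod_inv_distrib, inv_pow]
    rw [inv_le_inv₀ (pow_pos hn0 _) (pow_pos hpos _)]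
    exact_mod_cast hkey
  have hmean : 1 / (n : ℝ) ≤ A ^ p :=
    (pow_le_pow_iff_left₀ (by positivity) (pow_nonneg hA0 _) Nat.card_pos.ne').1 hlow
  rw [hUcard]
  have hfin : (k : ℝ) ^ p * (n : ℝ) ^ (p - 1) ≤ (U.card : ℝ) ^ p := by
    have hUeq : (U.card : ℝ) = n * k * A := by
      rw [hsum, hA]; field_simp
    rw [hUeq, mul_pow, mul_pow]
    have hpn : (n : ℝ) ^ p = (n : ℝ) ^ (p - 1) * n := by
      rw [← pow_succ, Nat.sub_add_cancel hp.out.one_lt.le]
    calc (k : ℝ) ^ p * (n : ℝ) ^ (p - 1) = (n : ℝ) ^ p * (k : ℝ) ^ p * (1 / n) := by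
          rw [hpn]; field_simp
      _ ≤ _ := mul_le_mul_of_nonneg_left hmean (by positivity)
  exact_mod_cast hfin

end Cfsg.Agent.S4091
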