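import Cfsg.Statements.S4092
import Mathlib.GroupTheory.Sylow
import Cfsg.Agent.Lib.Frobenius.Complement

set_option autoImplicit false
open Cfsg

namespace Cfsg.Agent.S4092

open scoped Pointwise

/-- Let G be a finite group, p a prime and P a Sylow p-subgroup of G that is not normal in G. Then G has at least p·#P elements of p-power order (the identity included). -/
theorem result {G : Type*} [Group G] [Finite G] (p : ℕ) [Fact p.Prime]
    (P : Sylow p G) (hP : ¬ (P : Subgroup G).Normal) :
    p * Nat.card (P : Subgroup G) ≤ Nat.card {g : G // ∃ k : ℕ, orderOf g = p ^ k} := by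
  classical
  haveI := Fintype.ofFinite G
  obtain ⟨P', hP'⟩ : ∃ P' : Sylow p G, P' ≠ P := by
    by_contra hc
    push Not at hc
    haveI : Subsingleton (Sylow p G) := ⟨fun a b => (hc a).trans (hc b).symm⟩
    exact hP P.normal_of_subsingleton
  -- two Sylow subgroups with intersection of largest order
  obtain ⟨⟨⟨A, B⟩, hAB⟩, -, hmax⟩ := Set.exists_max_image (Set.univ : Set {q : Sylow p G × Sylow p G // q.1 ≠ q.2})
    (fun q => Nat.card ↥((q.1.1 : Subgroup G) ⊓ q.1.2)) Set.finite_univ ⟨⟨(P', P), hP'⟩, trivial⟩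
  set D := (A : Subgroup G) ⊓ (B : Subgroup G) with hD
  have hcardAB : ∀ R : Sylow p G, Nat.card (R : Subgroup G) = Nat.card (P : Subgroup G) := fun R =>
    R.card_eq_multiplicity.trans P.card_eq_multiplicity.symm
  have hmax' : ∀ R T : Sylow p G, R ≠ T → D ≤ (R : Subgroup G) ⊓ T → (R : Subgroup G) ⊓ T = D := fun R T hne hle =>
    (Subgroup.eq_of_le_of_card_ge hle (hmax ⟨(R, T), hne⟩ trivial)).symm
  have hDlt : D < (A : Subgroup G) := by
    refine lt_of_le_of_ne inf_le_left fun h => hAB (Sylow.ext ?_)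
    exact Subgroup.eq_of_le_of_card_ge (inf_eq_left.mp h) (by rw [hcardAB A, hcardAB B])
  obtain ⟨x, hxA, hxN, hxD⟩ : ∃ x ∈ (A : Subgroup G), x ∈ Subgroup.normalizer (D : Set G) ∧ x ∉ D := by
    haveI : Group.IsNilpotent (A : Subgroup G) := A.isPGroup'.isNilpotent
    have h1 : D.subgroupOf A < ⊤ := lt_top_iff_ne_top.mpr fun h =>
      hDlt.not_ge (Subgroup.subgroupOf_eq_top.mp h)
    obtain ⟨y, hyN, hyD⟩ := SetLike.exists_of_lt (Group.normalizerCondition_of_isNilpotent _ h1)
    refine ⟨y, y.2, ?_, fun h => hyD (Subgroup.mem_subgroupOf.mpr h)⟩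
    rw [Subgroup.mem_normalizer_iff]
    intro z
    constructor
    · intro hz
      exact (Subgroup.mem_normalizer_iff.mp hyN ⟨z, inf_le_left (a := (A : Subgroup G)) hz⟩).mp hz
    · intro hz
      have hzA : z ∈ (A : Subgroup G) := by
        have := mul_mem (mul_mem (inv_mem y.2) (inf_le_left (a := (A : Subgroup G)) hz)) y.2
        simpa [mul_assoc] using this
      exact (Subgroup.mem_normalizer_iff.mp hyN ⟨z, hzA⟩).mpr hz
  -- the orbit of `B` under `N_A(D)`
  let H := (A : Subgroup G) ⊓ Subgroup.normalizer (D : Set G)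
  have hstab : MulAction.stabilizer H B = D.subgroupOf H := by
    ext ⟨h, hh⟩
    rw [MulAction.mem_stabilizer_iff, Subgroup.mem_subgroupOf]
    change h • B = B ↔ h ∈ D
    rw [Sylow.smul_eq_iff_mem_normalizer]
    refine ⟨fun hN => Subgroup.mem_inf.mpr ⟨hh.1, ?_⟩, fun hd => Subgroup.le_normalizer (inf_le_right (a := (A : Subgroup G)) hd)⟩
    exact (Subgroup.mem_inf.mp ((A.isPGroup'.to_le (Subgroup.zpowers_le.mpr hh.1)).inf_normalizer_sylow B ▸
      Subgroup.mem_inf.mpr ⟨Subgroup.mem_zpowers h, hN⟩)).2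
  set O := MulAction.orbit H B with hO
  have hOcard : p ≤ O.ncard := by
    rw [hO, ← MulAction.index_stabilizer, hstab]
    have hdvd : (D.subgroupOf H).index ∣ p ^ (Nat.card G).factorization p := by
      rw [← P.card_eq_multiplicity, ← hcardAB A]
      exact (Subgroup.index_dvd_card _).trans (Subgroup.card_dvd_of_le inf_le_left)
    obtain ⟨i, -, hi⟩ := (Nat.dvd_prime_pow Fact.out).mp hdvd
    rw [hi]
    refine Nat.le_self_pow (fun h0 => hxD ?_) p
    rw [h0, pow_zero, Subgroup.index_eq_one, Subgroup.subgroupOf_eq_top] at hi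
    exact hi ⟨hxA, hxN⟩
  -- members of the orbit
  have hOmem : ∀ R ∈ O, D ≤ (R : Subgroup G) ∧ R ≠ A := by
    rintro R ⟨⟨h, hh⟩, rfl⟩
    change D ≤ ((h • B : Sylow p G) : Subgroup G) ∧ h • B ≠ A
    constructor
    · intro d hd
      refine Cfsg.Agent.Lib.Frobenius.mem_conj_smul.mpr (inf_le_right (a := (A : Subgroup G)) ?_)
      exact (Subgroup.mem_normalizer_iff''.mp hh.2 d).mp hd
    · intro he
      refine hAB ?_
      have hA : h • A = A := Sylow.smul_eq_iff_mem_normalizer.mpr (Subgroup.le_normalizer hh.1)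
      exact (MulAction.injective h (he.trans hA.symm)).symm
  have hpair : ∀ R T : Sylow p G, (R = A ∨ R ∈ O) → (T = A ∨ T ∈ O) → R ≠ T → (R : Subgroup G) ⊓ T = D := by
    intro R T hR hT hne
    refine hmax' R T hne (le_inf ?_ ?_)
    · rcases hR with rfl | hR
      · exact inf_le_left
      · exact (hOmem R hR).1
    · rcases hT with rfl | hT
      · exact inf_le_left
      · exact (hOmem T hT).1
  -- count
  let I : Finset (Sylow p G) := insert A O.toFinset
  let U : Sylow p G → Finset G := fun R => Finset.univ.filter fun g => g ∈ (R : Subgroup G) ∧ g ∉ D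
  have hU : ∀ R ∈ I, (U R).card = Nat.card (P : Subgroup G) - Nat.card D := by
    intro R hR
    have hle : D ≤ (R : Subgroup G) := by
      rcases Finset.mem_insert.mp hR with rfl | hR
      · exact inf_le_left
      · exact (hOmem R (Set.mem_toFinset.mp hR)).1
    rw [show U R = (Finset.univ.filter fun g => g ∈ (R : Subgroup G)) \ (Finset.univ.filter fun g => g ∈ D) from
      Finset.ext fun g => by simp [U], Finset.card_sdiff_of_subset (fun g hg => by simp at hg ⊢; exact hle hg),
      ← hcardAB R, ← Fintype.card_subtype, ← Fintype.card_subtype, Nat.card_eq_fintype_card, Nat.card_eq_fintype_card]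
  have hdisj : ∀ R ∈ I, ∀ T ∈ I, R ≠ T → Disjoint (U R) (U T) := by
    intro R hR T hT hne
    rw [Finset.disjoint_left]
    intro g hg hg'
    simp only [U, Finset.mem_filter, Finset.mem_univ, true_and] at hg hg'
    refine hg.2 (hpair R T ?_ ?_ hne ▸ Subgroup.mem_inf.mpr ⟨hg.1, hg'.1⟩)
    · exact (Finset.mem_insert.mp hR).imp id Set.mem_toFinset.mp
    · exact (Finset.mem_insert.mp hT).imp id Set.mem_toFinset.mp
  have hI : p + 1 ≤ I.card := by
    rw [Finset.card_insert_of_notMem (fun h => (hOmem A (Set.mem_toFinset.mp h)).2 rfl), ← Set.ncard_eq_toFinset_card']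
    omega
  let E : Finset G := Finset.univ.filter fun g => g ∈ D
  have hEdisj : Disjoint E (I.biUnion U) := by
    rw [Finset.disjoint_left]
    intro g hg hg'
    simp only [U, E, Finset.mem_biUnion, Finset.mem_filter, Finset.mem_univ, true_and] at hg hg'
    obtain ⟨_, -, -, h⟩ := hg'
    exact h hg
  have hsub : E ∪ I.biUnion U ⊆ Finset.univ.filter fun g => ∃ k : ℕ, orderOf g = p ^ k := by
    intro g hg
    have h1 : ∃ R : Sylow p G, g ∈ (R : Subgroup G) := by
      rcases Finset.mem_union.mp hg with h | h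
      · exact ⟨A, inf_le_left (a := (A : Subgroup G)) (Finset.mem_filter.mp h).2⟩
      · obtain ⟨R, -, hR⟩ := Finset.mem_biUnion.mp h
        exact ⟨R, (Finset.mem_filter.mp hR).2.1⟩
    obtain ⟨R, hR⟩ := h1
    obtain ⟨k, hk⟩ := IsPGroup.iff_orderOf.mp R.isPGroup' ⟨g, hR⟩
    rw [Subgroup.orderOf_mk] at hk
    exact Finset.mem_filter.mpr ⟨Finset.mem_univ _, k, hk⟩
  rw [Nat.card_eq_fintype_card (α := {g : G // ∃ k : ℕ, orderOf g = p ^ k}), Fintype.card_subtype]
  refine le_trans ?_ (Finset.card_le_card hsub)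
  rw [Finset.card_union_of_disjoint hEdisj, Finset.card_biUnion hdisj, Finset.sum_congr rfl hU,
    Finset.sum_const, smul_eq_mul, show E.card = Nat.card D by
      rw [Nat.card_eq_fintype_card, ← Fintype.card_subtype]]
  have hpD : p * Nat.card D ≤ Nat.card (P : Subgroup G) := by
    rw [← hcardAB A]
    obtain ⟨a, ha⟩ := IsPGroup.iff_card.mp A.isPGroup'
    obtain ⟨d, hd⟩ := IsPGroup.iff_card.mp (A.isPGroup'.to_le (inf_le_left (b := (B : Subgroup G))))
    have hlt : Nat.card D < Nat.card (A : Subgroup G) := by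
      refine lt_of_le_of_ne (Nat.le_of_dvd Nat.card_pos (Subgroup.card_dvd_of_le hDlt.le)) fun h => hDlt.ne ?_
      exact Subgroup.eq_of_le_of_card_ge hDlt.le h.ge
    rw [ha, hd] at hlt ⊢
    have := (Nat.pow_lt_pow_iff_right (Fact.out : p.Prime).one_lt).mp hlt
    rw [← pow_succ']
    exact Nat.pow_le_pow_right (Fact.out : p.Prime).pos this
  obtain ⟨e, he⟩ := Nat.exists_eq_add_of_le (le_trans (Nat.le_mul_of_pos_left _ (Fact.out : p.Prime).pos) hpD)
  rw [he] at hpD ⊢
  rw [Nat.add_sub_cancel_left]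
  nlinarith

end Cfsg.Agent.S4092
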