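import Cfsg.Statements.S4093
import Cfsg.Agent.S3984
import Mathlib.GroupTheory.Index
import Mathlib.Algebra.BigOperators.Finprod

set_option autoImplicit false
open scoped BigOperators
open Cfsg

namespace Cfsg.Agent.S4093

variable {G : Type*} [Group G]

theorem mem_centralizer_iff_conj {x n : G} :
    n ∈ Subgroup.centralizer ({x} : Set G) ↔ n * x * n⁻¹ = x := by
  rw [Subgroup.mem_centralizer_singleton_iff, mul_inv_eq_iff_eq_mul]

/-- The map from cosets of the centralizer to conjugates. -/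
def conjMap (N : Subgroup G) (x : G) :
    N ⧸ (Subgroup.centralizer ({x} : Set G)).subgroupOf N → G :=
  fun c => Quotient.liftOn' c (fun n : N => (n : G) * x * (n : G)⁻¹) (by
    intro a b hab
    rw [QuotientGroup.leftRel_apply, Subgroup.mem_subgroupOf, mem_centralizer_iff_conj] at hab
    simp only [Subgroup.coe_mul, Subgroup.coe_inv, mul_inv_rev, inv_inv] at hab
    calc (a : G) * x * (a : G)⁻¹ = a * ((a : G)⁻¹ * b * x * ((b : G)⁻¹ * a)) * (a : G)⁻¹ := by rw [hab]
      _ = b * x * (b : G)⁻¹ := by group)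

/-- Let G be a finite group with a normal subgroup N complementing a Sylow p-subgroup P (a normal p-complement). Then the number of elements of G of p-power order equals the sum over x ∈ P of the index of C_N(x) in N. -/
theorem result {G : Type*} [Group G] [Finite G] (p : ℕ) [Fact p.Prime]
    (P : Sylow p G) (N : Subgroup G) [N.Normal] (hNP : N.IsComplement' (P : Subgroup G)) :
    Nat.card {g : G // ∃ k : ℕ, orderOf g = p ^ k} =
      ∑ᶠ x : (P : Subgroup G), Nat.card N / Nat.card ↥(N ⊓ Subgroup.centralizer ({(x : G)} : Set G)) := by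
  classical
  haveI := Fintype.ofFinite (P : Subgroup G)
  have hC : ∀ x : G, Nat.card N / Nat.card ↥(N ⊓ Subgroup.centralizer ({x} : Set G)) =
      Nat.card (N ⧸ (Subgroup.centralizer ({x} : Set G)).subgroupOf N) := by
    intro x
    have h1 := Subgroup.card_eq_card_quotient_mul_card_subgroup ((Subgroup.centralizer ({x} : Set G)).subgroupOf N)
    rw [← Subgroup.inf_subgroupOf_left, Nat.card_congr (Subgroup.subgroupOfEquivOfLe (inf_le_left :
      N ⊓ Subgroup.centralizer ({x} : Set G) ≤ N)).toEquiv, Subgroup.inf_subgroupOf_left] at h1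
    rw [h1, Nat.mul_div_cancel _ Nat.card_pos]
  have hpel : ∀ n : G, ∀ x ∈ (P : Subgroup G), ∃ k, orderOf (n * x * n⁻¹) = p ^ k := by
    intro n x hx
    obtain ⟨k, hk⟩ := IsPGroup.iff_orderOf.mp P.isPGroup' ⟨x, hx⟩
    rw [Subgroup.orderOf_mk] at hk
    exact ⟨k, by rw [← MulAut.conj_apply, MulEquiv.orderOf_eq, hk]⟩
  rw [finsum_eq_sum_of_fintype]
  simp only [hC]
  rw [← Nat.card_sigma]
  let F : (Σ x : (P : Subgroup G), N ⧸ (Subgroup.centralizer ({(x : G)} : Set G)).subgroupOf N) →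
      {g : G // ∃ k : ℕ, orderOf g = p ^ k} := fun s => ⟨conjMap N s.1 s.2, by
    obtain ⟨⟨x, hx⟩, c⟩ := s
    obtain ⟨n, rfl⟩ := QuotientGroup.mk_surjective c
    exact hpel n x hx⟩
  have hval : ∀ (x : (P : Subgroup G)) (n : N), (F ⟨x, QuotientGroup.mk n⟩).1 = n * x * (n : G)⁻¹ :=
    fun _ _ => rfl
  refine (Nat.card_eq_of_bijective F ⟨?_, ?_⟩).symm
  · rintro ⟨x, c⟩ ⟨y, d⟩ h
    obtain ⟨n, rfl⟩ := QuotientGroup.mk_surjective c
    obtain ⟨m, rfl⟩ := QuotientGroup.mk_surjective d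
    have h1 : (n : G) * x * (n : G)⁻¹ = m * y * (m : G)⁻¹ := by
      rw [← hval, ← hval]; exact congrArg Subtype.val h
    have h2 : (QuotientGroup.mk (x : G) : G ⧸ N) = QuotientGroup.mk (y : G) := by
      have h3 := congrArg (QuotientGroup.mk' N) h1
      simpa [(QuotientGroup.eq_one_iff (n : G)).mpr n.2, (QuotientGroup.eq_one_iff (m : G)).mpr m.2] using h3
    have h4 : (x : G)⁻¹ * y ∈ N ⊓ (P : Subgroup G) :=
      Subgroup.mem_inf.mpr ⟨QuotientGroup.eq.mp h2, mul_mem (inv_mem x.2) y.2⟩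
    rw [disjoint_iff.mp hNP.disjoint, Subgroup.mem_bot, inv_mul_eq_one] at h4
    obtain rfl : x = y := Subtype.ext h4
    refine Sigma.ext rfl (heq_of_eq (QuotientGroup.eq.mpr ?_))
    rw [Subgroup.mem_subgroupOf, mem_centralizer_iff_conj, Subgroup.coe_mul, Subgroup.coe_inv]
    calc (n : G)⁻¹ * m * x * ((n : G)⁻¹ * m)⁻¹ = (n : G)⁻¹ * (m * x * (m : G)⁻¹) * n := by group
      _ = x := by rw [← h1]; group
  · rintro ⟨g, k, hk⟩
    obtain ⟨n, hn, hx⟩ := Cfsg.Agent.S3984.exists_conj_mem_of_mem_sup P N (a := g)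
      (by rw [sup_comm, hNP.sup_eq_top]; trivial)
      (IsPGroup.of_card (n := k) (by rw [Nat.card_zpowers, hk]))
    exact ⟨⟨⟨_, hx⟩, QuotientGroup.mk ⟨n, hn⟩⟩, Subtype.ext (by rw [hval]; group)⟩

end Cfsg.Agent.S4093
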