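import Cfsg.Statements.S4097
import Cfsg.Agent.Lib.Frobenius.Kernel
import Cfsg.Agent.Lib.Coprime.Action

set_option autoImplicit false
open Cfsg

namespace Cfsg.Agent.S4097

universe u

open scoped Pointwise

theorem isSolvable_sup {H : Type*} [Group H] {N B : Subgroup H}
    (hB : B ≤ Subgroup.normalizer (N : Set H)) (hN : Group.IsSolvable N) (hBs : Group.IsSolvable B) :
    Group.IsSolvable ↥(N ⊔ B) := by
  have hle : N ⊔ B ≤ Subgroup.normalizer (N : Set H) := sup_le Subgroup.le_normalizer hB
  have : (N.subgroupOf (N ⊔ B)).Normal := by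
    constructor
    intro n hn g
    exact (Subgroup.mem_normalizer_iff.mp (hle g.2) n.1).mp hn
  let f : B →* ↥(N ⊔ B) ⧸ N.subgroupOf (N ⊔ B) :=
    (QuotientGroup.mk' _).comp (Subgroup.inclusion le_sup_right)
  have hf : Function.Surjective f := by
    intro q
    induction q using QuotientGroup.induction_on with
    | H x =>
      obtain ⟨x, hx⟩ := x
      have h' : x ∈ ((N : Set H) * (B : Set H)) := by
        rw [← Subgroup.coe_mul_of_right_le_normalizer_left N B hB]; exact hx
      obtain ⟨n, hn, b, hb, rfl⟩ := h'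
      refine ⟨⟨b, hb⟩, ?_⟩
      apply QuotientGroup.eq.mpr
      show (b : H)⁻¹ * (n * b) ∈ N
      exact (Subgroup.mem_normalizer_iff''.mp (hB hb) n).mp hn |> fun h => by
        simpa [mul_assoc] using h
  have : Group.IsSolvable (↥(N ⊔ B) ⧸ N.subgroupOf (N ⊔ B)) :=
    Group.isSolvable_of_surjective hf
  have : Group.IsSolvable ↥(N.subgroupOf (N ⊔ B)) :=
    Group.isSolvable_of_isSolvable_injective (f := (Subgroup.subgroupOfEquivOfLe (le_sup_left : N ≤ N ⊔ B)).toMonoidHom)
      (Subgroup.subgroupOfEquivOfLe (le_sup_left : N ≤ N ⊔ B)).injective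
  exact Group.isSolvable_of_ker_le_range (N.subgroupOf (N ⊔ B)).subtype
    (QuotientGroup.mk' (N.subgroupOf (N ⊔ B))) (by simp)

/-- The hypothesis of the statement. -/
def Hyp {H : Type*} [Group H] (A : Subgroup H) : Prop :=
  Group.IsSolvable A ∧
    ∀ S : Subgroup H, A ≤ S → Group.IsSolvable S → ∀ a ∈ A, ∀ s ∈ S, a * s = s * a

theorem Hyp.le_centralizer {H : Type*} [Group H] {A : Subgroup H} (h : Hyp A) {B : Subgroup H}
    (hB : B ≤ Subgroup.normalizer (A : Set H)) (hBs : Group.IsSolvable B) :
    B ≤ Subgroup.centralizer (A : Set H) := by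
  intro s hs
  exact Subgroup.mem_centralizer_iff.mpr fun a ha =>
    h.2 (A ⊔ B) le_sup_left (isSolvable_sup hB h.1 hBs) a ha s (Subgroup.mem_sup_right hs)

theorem Hyp.normalizer_le {H : Type*} [Group H] {A : Subgroup H} (h : Hyp A) :
    Subgroup.normalizer (A : Set H) ≤ Subgroup.centralizer (A : Set H) := by
  intro g hg
  refine h.le_centralizer (Subgroup.zpowers_le.mpr hg) ?_ (Subgroup.mem_zpowers g)
  have : IsMulCommutative (Subgroup.zpowers g) := inferInstance
  exact Group.isSolvable_of_comm fun a b => this.is_comm.comm a b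

theorem main : ∀ (n : ℕ) (G : Type u) [Group G] [Finite G], Nat.card G = n →
    ∀ A : Subgroup G, Hyp A → A ≤ Subgroup.center G := by
  intro n
  induction n using Nat.strong_induction_on with
  | _ n IH =>
  intro G _ _ hn A hA
  classical
  by_contra hcon
  have hmem : ∀ {H : Subgroup G} {a : G}, A ≤ H → H ≠ ⊤ → a ∈ A → ∀ x ∈ H, a * x = x * a := by
    intro H a hAH hH ha x hx
    have hlt : Nat.card H < n := by
      rw [← hn]
      exact lt_of_le_of_ne (Subgroup.card_le_card_group H)
        (fun e => hH (Subgroup.eq_top_of_card_eq H e))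
    have hH' : Hyp (A.subgroupOf H) := by
      refine ⟨?_, fun S hS hSs a ha s hs => Subtype.ext ?_⟩
      · have := hA.1
        exact Group.isSolvable_of_isSolvable_injective
          (f := (Subgroup.subgroupOfEquivOfLe hAH).toMonoidHom)
          (Subgroup.subgroupOfEquivOfLe hAH).injective
      · refine hA.2 (S.map H.subtype) ?_ ?_ a.1 ha s.1 ⟨s, hs, rfl⟩
        · intro y hy
          exact ⟨⟨y, hAH hy⟩, hS hy, rfl⟩
        · have := hSs
          exact Group.isSolvable_of_surjective
            (f := ((S.equivMapOfInjective H.subtype H.subtype_injective) : S ≃* _).toMonoidHom)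
            (S.equivMapOfInjective H.subtype H.subtype_injective).surjective
    have := IH _ hlt H rfl (A.subgroupOf H) hH' (x := ⟨a, hAH ha⟩) ha
    exact congrArg Subtype.val (Subgroup.mem_center_iff.mp this ⟨x, hx⟩).symm
  -- the quotient by the centre
  have hZ : Subgroup.center G = ⊥ := by
    by_contra hZ
    have hlt : Nat.card (G ⧸ Subgroup.center G) < n := by
      rw [← hn, Subgroup.card_eq_card_quotient_mul_card_subgroup (Subgroup.center G)]
      exact lt_mul_of_one_lt_right Nat.card_pos ((Subgroup.one_lt_card_iff_ne_bot _).mpr hZ)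
    let π := QuotientGroup.mk' (Subgroup.center G)
    have hπ : Function.Surjective π := QuotientGroup.mk'_surjective _
    have hq : Hyp (A.map π) := by
      refine ⟨?_, fun S hS hSs a ha s hs => ?_⟩
      · have := hA.1
        exact Group.isSolvable_of_surjective (f := π.subgroupMap A) (π.subgroupMap_surjective A)
      · obtain ⟨a, ha, rfl⟩ := ha
        obtain ⟨s, rfl⟩ := hπ s
        rw [← map_mul, ← map_mul]
        refine congrArg π (hA.2 (S.comap π) (fun y hy => hS ⟨y, hy, rfl⟩) ?_ a ha s hs)
        have hk : Subgroup.center G ≤ S.comap π := by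
          intro z hz
          have : π z = 1 := (QuotientGroup.eq_one_iff z).mpr hz
          show π z ∈ S
          rw [this]; exact S.one_mem
        have := hSs
        have hZs : Group.IsSolvable ↥(Subgroup.center G) :=
          Group.isSolvable_of_comm fun a b =>
            Subtype.ext (Subgroup.mem_center_iff.mp b.2 a.1)
        refine Group.isSolvable_of_ker_le_range (Subgroup.inclusion hk) (π.subgroupComap S) ?_
        intro x hx
        refine ⟨⟨x.1, ?_⟩, rfl⟩
        have : (π x.1) = 1 := congrArg Subtype.val (MonoidHom.mem_ker.mp hx)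
        exact (QuotientGroup.eq_one_iff _).mp this
    have hc := IH _ hlt _ rfl (A.map π) hq
    have hN : (A ⊔ Subgroup.center G).Normal := by
      have hn' : (A.map π).Normal := ⟨fun x hx g => by
        have hx' := Subgroup.mem_center_iff.mp (hc hx) g
        rw [hx', mul_inv_cancel_right]; exact hx⟩
      have h2 := hn'.comap π
      rwa [Subgroup.comap_map_eq, QuotientGroup.ker_mk'] at h2
    apply hcon
    intro a ha
    refine Subgroup.mem_center_iff.mpr fun g => ?_
    have hcomm : IsMulCommutative (Subgroup.zpowers g) := inferInstance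
    have hs := isSolvable_sup (N := A ⊔ Subgroup.center G) (B := Subgroup.zpowers g)
      (by rw [Subgroup.normalizer_eq_top]; exact le_top)
      (isSolvable_sup (N := A) (B := Subgroup.center G) (fun z hz => by
          rw [Subgroup.mem_normalizer_iff]; intro y
          rw [← Subgroup.mem_center_iff.mp hz y, mul_inv_cancel_right])
        hA.1 (Group.isSolvable_of_comm fun a b => Subtype.ext (Subgroup.mem_center_iff.mp b.2 a.1)))
      (Group.isSolvable_of_comm fun a b => hcomm.is_comm.comm a b)
    exact (hA.2 _ (le_sup_left.trans le_sup_left) hs a ha g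
      (Subgroup.mem_sup_right (Subgroup.mem_zpowers g))).symm
  -- M = C(A)
  set M := Subgroup.centralizer (A : Set G) with hM
  have hle : ∀ H : Subgroup G, A ≤ H → H ≠ ⊤ → H ≤ M := fun H h1 h2 x hx =>
    Subgroup.mem_centralizer_iff.mpr fun a ha => hmem h1 h2 ha x hx
  have hAM : A ≤ M := by
    intro x hx
    exact Subgroup.mem_centralizer_iff.mpr fun a ha => hA.2 A le_rfl hA.1 a ha x hx
  have hMt : M ≠ ⊤ := fun h => hcon fun a ha => Subgroup.mem_center_iff.mpr fun g =>
    (Subgroup.mem_centralizer_iff.mp (show g ∈ M from h ▸ Subgroup.mem_top g) a ha).symm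
  have hA1 : A ≠ ⊥ := fun h => hcon (h ▸ bot_le)
  have hMfr : Cfsg.IsFrobeniusComplement M := by
    rw [Cfsg.Agent.Lib.Frobenius.isFrobeniusComplement_iff]
    refine ⟨fun h => hA1 (le_bot_iff.mp (h ▸ hAM)), hMt, ?_⟩
    intro g hg x hx hxg
    by_contra hx1
    have hxZ : x ∉ Subgroup.center G := by rw [hZ]; exact hx1
    set C := Subgroup.centralizer ({x} : Set G) with hC
    have hC1 : C ≠ ⊤ := fun h => hxZ (Subgroup.mem_center_iff.mpr fun y =>
      (Subgroup.mem_centralizer_iff.mp (show y ∈ C from h ▸ Subgroup.mem_top y) x rfl).symm)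
    have hAC : A ≤ C := fun a ha => Subgroup.mem_centralizer_iff.mpr fun y hy => by
      rw [Set.mem_singleton_iff.mp hy]
      exact (Subgroup.mem_centralizer_iff.mp hx a ha).symm
    have hconj : ∀ a ∈ A, g * a * g⁻¹ ∈ M := by
      intro a ha
      apply hle C hAC hC1
      refine Subgroup.mem_centralizer_iff.mpr fun y hy => ?_
      rw [Set.mem_singleton_iff.mp hy]
      have h1 : a * (g⁻¹ * x * g) = (g⁻¹ * x * g) * a :=
        Subgroup.mem_centralizer_iff.mp hxg a ha
      calc x * (g * a * g⁻¹) = g * ((g⁻¹ * x * g) * a) * g⁻¹ := by group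
        _ = g * (a * (g⁻¹ * x * g)) * g⁻¹ := by rw [h1]
        _ = (g * a * g⁻¹) * x := by group
    -- `A` centralizes `g A g⁻¹`, so `g⁻¹ A g ≤ M`, hence `M` is normalized by `g`
    have hgM : g ∈ Subgroup.normalizer (M : Set G) := by
      have hA' : A ≤ Subgroup.comap (MulAut.conj g⁻¹).toMonoidHom M := by
        intro b hb
        refine Subgroup.mem_centralizer_iff.mpr fun a ha => ?_
        have h1 : b * (g * a * g⁻¹) = (g * a * g⁻¹) * b :=
          Subgroup.mem_centralizer_iff.mp (hconj a ha) b hb
        simp only [MulEquiv.toMonoidHom_eq_coe, MonoidHom.coe_coe, MulAut.conj_apply, inv_inv]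
        calc a * (g⁻¹ * b * g) = g⁻¹ * ((g * a * g⁻¹) * b) * g := by group
          _ = g⁻¹ * (b * (g * a * g⁻¹)) * g := by rw [h1]
          _ = (g⁻¹ * b * g) * a := by group
      have hle' := hle _ hA' (fun h => hMt (by
        rw [eq_top_iff]; intro y _
        have : g * y * g⁻¹ ∈ Subgroup.comap (MulAut.conj g⁻¹).toMonoidHom M :=
          h ▸ Subgroup.mem_top _
        simpa [mul_assoc] using this))
      have hcard : Subgroup.comap (MulAut.conj g⁻¹).toMonoidHom M = M :=
        Cfsg.Agent.Lib.Coprime.eq_of_le_of_card_le hle' (le_of_eq (by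
          refine (Nat.card_congr ?_).symm
          exact ((MulAut.conj g⁻¹).toEquiv.subtypeEquiv fun y => Iff.rfl)))
      rw [Subgroup.mem_normalizer_iff'']
      intro y
      have h := SetLike.ext_iff.mp hcard y
      simpa [mul_assoc] using h.symm
    have hNM : Subgroup.normalizer (M : Set G) ≠ ⊤ := by
      intro htop
      have hMn : M.Normal := Subgroup.normalizer_eq_top_iff.mp htop
      have hW : Subgroup.normalClosure (A : Set G) ≤
          Subgroup.centralizer (M : Set G) ⊓ M := by
        have : (Subgroup.centralizer (M : Set G)).Normal := inferInstance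
        apply Subgroup.normalClosure_le_normal
        intro a ha
        exact Subgroup.mem_inf.mpr ⟨Subgroup.mem_centralizer_iff.mpr fun m hm =>
          (Subgroup.mem_centralizer_iff.mp hm a ha).symm, hAM ha⟩
      apply hcon
      intro a ha
      refine Subgroup.mem_center_iff.mpr fun y => ?_
      have hcomm : IsMulCommutative (Subgroup.zpowers y) := inferInstance
      have hs := isSolvable_sup (N := Subgroup.normalClosure (A : Set G))
        (B := Subgroup.zpowers y) (by rw [Subgroup.normalizer_eq_top]; exact le_top)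
        (Group.isSolvable_of_comm fun p q => Subtype.ext
          (Subgroup.mem_centralizer_iff.mp (hW q.2).1 p.1 (hW p.2).2))
        (Group.isSolvable_of_comm fun a b => hcomm.is_comm.comm a b)
      exact (hA.2 _ (Subgroup.le_normalClosure.trans le_sup_left) hs a ha y
        (Subgroup.mem_sup_right (Subgroup.mem_zpowers y))).symm
    exact hg (hle _ (hAM.trans Subgroup.le_normalizer) hNM hgM)
  obtain ⟨N, hNn, -, hdisj, hsup, hN1, hcompl, hNcard⟩ :=
    Cfsg.Agent.Lib.Frobenius.exists_frobeniusKernel hMfr
  have hcopM := Cfsg.Agent.Lib.Frobenius.card_coprime_index hMfr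
  have hcop : (Nat.card A).Coprime (Nat.card N) := by
    rw [hNcard]
    exact hcopM.coprime_dvd_left (Subgroup.card_dvd_of_le hAM)
  obtain ⟨r, hr, hrdvd⟩ := Nat.exists_prime_and_dvd (n := Nat.card N)
    (fun h => hN1 (Subgroup.card_eq_one.mp h))
  have : Fact r.Prime := ⟨hr⟩
  have hAN : A ≤ Subgroup.normalizer (N : Set G) := by
    rw [Subgroup.normalizer_eq_top]; exact le_top
  obtain ⟨P, hP⟩ := Cfsg.Agent.Lib.Coprime.exists_invariant_sylow hAN hcop (Or.inl hA.1) r
  have hPne : (P : Subgroup N) ≠ ⊥ := P.ne_bot_of_dvd_card hrdvd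
  apply hPne
  rw [Subgroup.eq_bot_iff_forall]
  intro x hx
  have hs : Group.IsSolvable ↥(A ⊔ (P : Subgroup N).map N.subtype) := by
    rw [sup_comm]
    refine isSolvable_sup hP ?_ hA.1
    have := (P.2.map N.subtype).isNilpotent
    infer_instance
  have hxM : (x : G) ∈ M := Subgroup.mem_centralizer_iff.mpr fun a ha =>
    hA.2 _ le_sup_left hs a ha x (Subgroup.mem_sup_right ⟨x, hx, rfl⟩)
  have h1 : (x : G) ∈ N ⊓ M := Subgroup.mem_inf.mpr ⟨x.2, hxM⟩
  rw [hdisj, Subgroup.mem_bot] at h1
  exact Subtype.ext h1

/-- Let A be a solvable subgroup of a finite group G such that A lies in the centre of every solvable subgroup of G containing A. Then A lies in the centre of G. -/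
theorem result {G : Type*} [Group G] [Finite G]
    (A : Subgroup G) (hA : Group.IsSolvable A)
    (hc : ∀ S : Subgroup G, A ≤ S → Group.IsSolvable S → ∀ a ∈ A, ∀ s ∈ S, a * s = s * a) : A ≤ Subgroup.center G := by
  exact main _ G rfl A ⟨hA, hc⟩

end Cfsg.Agent.S4097
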