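import Cfsg.Statements.S4106
import Cfsg.Agent.Lib.Coprime.Hall

set_option autoImplicit false
open Cfsg

namespace Cfsg.Agent.S4106

universe u

theorem card_piClasses_le {s : Finset ℕ} (hs : ∀ p ∈ s, p.Prime) :
    ∀ (G : Type u) [Group G] [Finite G] (m : ℕ), m ≠ 0 →
      (∀ p ∈ s, p ^ (Nat.card G).factorization p ∣ m) →
      Nat.card {C : ConjClasses G // ∃ g : G, ConjClasses.mk g = C ∧
        ∀ q : ℕ, q.Prime → q ∣ orderOf g → q ∈ s} ≤ m := by
  classical
  induction s using Finset.induction with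
  | empty =>
    intro G _ _ m hm _
    haveI : Subsingleton {C : ConjClasses G // ∃ g : G, ConjClasses.mk g = C ∧
        ∀ q : ℕ, q.Prime → q ∣ orderOf g → q ∈ (∅ : Finset ℕ)} := by
      refine ⟨fun a b => ?_⟩
      have key : ∀ c : {C : ConjClasses G // ∃ g : G, ConjClasses.mk g = C ∧
          ∀ q : ℕ, q.Prime → q ∣ orderOf g → q ∈ (∅ : Finset ℕ)}, c.1 = ConjClasses.mk 1 := by
        intro c
        obtain ⟨g, hg, hq⟩ := c.2
        by_cases hg1 : g = 1
        · rw [← hg, hg1]
        · obtain ⟨q, hqp, hqd⟩ := Nat.exists_prime_and_dvd fun h => hg1 (orderOf_eq_one_iff.mp h)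
          exact absurd (hq q hqp hqd) (Finset.notMem_empty q)
      exact Subtype.ext ((key a).trans (key b).symm)
    exact (Finite.card_le_one_iff_subsingleton.mpr this).trans (Nat.one_le_iff_ne_zero.mpr hm)
  | insert p s hp ih =>
    intro G _ _ m hm hdiv
    obtain ⟨hpp, hsp⟩ := (Finset.forall_mem_insert _ _ _).mp hs
    haveI := Fact.mk hpp
    haveI := Fintype.ofFinite G
    set v := (Nat.card G).factorization p
    obtain ⟨m', hm'⟩ := hdiv p (Finset.mem_insert_self _ _)
    have hm'0 : m' ≠ 0 := fun h => hm (by rw [hm', h, mul_zero])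
    let P : Sylow p G := default
    haveI := Fintype.ofFinite (P : Subgroup G)
    let X := Σ x : (P : Subgroup G), {C : ConjClasses (Subgroup.centralizer ({(x : G)} : Set G)) //
      ∃ g, ConjClasses.mk g = C ∧ ∀ q : ℕ, q.Prime → q ∣ orderOf g → q ∈ s}
    let f : X → ConjClasses G := fun z => Quotient.liftOn z.2.1
      (fun y => ConjClasses.mk ((z.1 : G) * (y : G))) (fun a b hab => by
        obtain ⟨c, hc⟩ := isConj_iff.mp hab
        refine ConjClasses.mk_eq_mk_iff_isConj.mpr (isConj_iff.mpr ⟨(c : G), ?_⟩)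
        rw [← hc]
        have h := Subgroup.mem_centralizer_singleton_iff.mp c.2
        show (c : G) * ((z.1 : G) * a) * (c : G)⁻¹ = z.1 * ((c : G) * a * (c : G)⁻¹)
        simp only [← mul_assoc]
        rw [h])
    have hsurj : ∀ C : {C : ConjClasses G // ∃ g : G, ConjClasses.mk g = C ∧
        ∀ q : ℕ, q.Prime → q ∣ orderOf g → q ∈ insert p s}, ∃ z : X, f z = C.1 := by
      rintro ⟨_, g, rfl, hg⟩
      set a := (orderOf g).factorization p
      set b := orderOf g / p ^ a
      have hab : p ^ a * b = orderOf g := Nat.ordProj_mul_ordCompl_eq_self _ p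
      have hcop : (p ^ a).Coprime b := (Nat.coprime_ordCompl hpp (orderOf_pos g).ne').pow_left a
      set A := g ^ ((b : ℤ) * Nat.gcdB (p ^ a) b)
      set B := g ^ (((p ^ a : ℕ) : ℤ) * Nat.gcdA (p ^ a) b)
      have hAB : A * B = g := by
        rw [← zpow_add, add_comm, ← Nat.gcd_eq_gcd_ab, hcop, Nat.cast_one, zpow_one]
      have hA : A ^ (p ^ a) = 1 := by
        rw [← zpow_natCast A, ← zpow_mul,
          show (b : ℤ) * Nat.gcdB (p ^ a) b * ((p ^ a : ℕ) : ℤ) = ((p ^ a * b : ℕ) : ℤ) * Nat.gcdB (p ^ a) b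
            by push_cast; ring, zpow_mul, zpow_natCast, hab, pow_orderOf_eq_one, one_zpow]
      have hB : B ^ b = 1 := by
        rw [← zpow_natCast B, ← zpow_mul,
          show ((p ^ a : ℕ) : ℤ) * Nat.gcdA (p ^ a) b * (b : ℤ) = ((p ^ a * b : ℕ) : ℤ) * Nat.gcdA (p ^ a) b
            by push_cast; ring, zpow_mul, zpow_natCast, hab, pow_orderOf_eq_one, one_zpow]
      obtain ⟨P', hP'⟩ := (IsPGroup.iff_orderOf.mpr fun z : Subgroup.zpowers A => by
        obtain ⟨j, -, hj⟩ := (Nat.dvd_prime_pow hpp).mp ((Subgroup.orderOf_dvd_natCard _ z.2).trans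
          ((Nat.card_zpowers A).symm ▸ orderOf_dvd_of_pow_eq_one hA))
        exact ⟨j, by rw [← Subgroup.orderOf_coe]; exact hj⟩ : IsPGroup p (Subgroup.zpowers A)).exists_le_sylow
      obtain ⟨c, hc⟩ := MulAction.exists_smul_eq G P' P
      have hx : c * A * c⁻¹ ∈ (P : Subgroup G) := by
        rw [← hc, Sylow.coe_subgroup_smul, Cfsg.Agent.Lib.Coprime.mem_conj_smul]
        simpa [mul_assoc] using hP' (Subgroup.mem_zpowers A)
      have hcomm : Commute A B := (Commute.refl g).zpow_zpow _ _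
      have hy : c * B * c⁻¹ ∈ Subgroup.centralizer ({c * A * c⁻¹} : Set G) := by
        rw [Subgroup.mem_centralizer_singleton_iff]
        calc c * B * c⁻¹ * (c * A * c⁻¹) = c * (B * A) * c⁻¹ := by group
          _ = c * (A * B) * c⁻¹ := by rw [hcomm.eq]
          _ = _ := by group
      refine ⟨⟨⟨_, hx⟩, ConjClasses.mk ⟨_, hy⟩, ⟨_, hy⟩, rfl, fun q hq hd => ?_⟩, ?_⟩
      · rw [Subgroup.orderOf_mk, ← MulAut.conj_apply, ← MulEquiv.coe_toMonoidHom,
          orderOf_injective (MulAut.conj c).toMonoidHom (MulAut.conj c).injective B] at hd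
        have hqb : q ∣ b := hd.trans (orderOf_dvd_of_pow_eq_one hB)
        refine (Finset.mem_insert.mp (hg q hq (hqb.trans ⟨p ^ a, by rw [← hab, mul_comm]⟩))).resolve_left ?_
        rintro rfl
        exact hq.ne_one (Nat.eq_one_of_dvd_coprimes (Nat.coprime_ordCompl hpp (orderOf_pos g).ne') dvd_rfl hqb)
      · show ConjClasses.mk (c * A * c⁻¹ * (c * B * c⁻¹)) = ConjClasses.mk g
        refine (ConjClasses.mk_eq_mk_iff_isConj.mpr (isConj_iff.mpr ⟨c, ?_⟩)).symm
        rw [← hAB]
        group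
    choose z hz using hsurj
    refine (Nat.card_le_card_of_injective z fun a b h => Subtype.ext (by rw [← hz a, h, hz b])).trans ?_
    rw [Nat.card_sigma, hm']
    refine (Finset.sum_le_card_nsmul _ _ m' fun x _ => ih hsp _ m' hm'0 fun q hq => ?_).trans ?_
    · refine ((hsp q hq).pow_dvd_iff_le_factorization hm'0).mpr ?_
      have h1 := ((hsp q hq).pow_dvd_iff_le_factorization hm).mp (hdiv q (Finset.mem_insert_of_mem hq))
      rw [hm', Nat.factorization_mul (pow_ne_zero _ hpp.ne_zero) hm'0, Finsupp.add_apply,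
        hpp.factorization_pow, Finsupp.single_eq_of_ne (show q ≠ p from fun h => hp (h ▸ hq)), zero_add] at h1
      exact le_trans ((Nat.factorization_le_iff_dvd Nat.card_pos.ne' Nat.card_pos.ne').mpr
        (Subgroup.card_subgroup_dvd_card _) q) h1
    · rw [smul_eq_mul, Finset.card_univ, ← Nat.card_eq_fintype_card, P.card_eq_multiplicity]

/-- Let G be a finite group, π a set of primes and m the π-part of the order of G. Then the number of conjugacy classes of G consisting of π-elements (elements whose order is divisible only by primes in π) is at most m. -/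
theorem result {G : Type*} [Group G] [Finite G]
    (π : Set ℕ) (hπ : ∀ q ∈ π, q.Prime)
    (m : ℕ) (hm : m ∣ Nat.card G) (hmπ : ∀ q : ℕ, q.Prime → q ∣ m → q ∈ π)
    (hm' : ∀ q ∈ π, ¬ q ∣ Nat.card G / m) :
    Nat.card {C : ConjClasses G // ∀ q : ℕ, q.Prime → (∃ g : G, ConjClasses.mk g = C ∧ q ∣ orderOf g) → q ∈ π} ≤ m := by
  classical
  have hm0 : m ≠ 0 := fun h => Nat.card_pos.ne' (Nat.eq_zero_of_zero_dvd (h ▸ hm))
  set s := (Nat.card G).primeFactors.filter (· ∈ π)
  have h := card_piClasses_le (s := s) (fun p hp => Nat.prime_of_mem_primeFactors (Finset.mem_filter.mp hp).1)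
    G m hm0 ?_
  · refine le_trans (Nat.card_le_card_of_injective
      (α := {C : ConjClasses G // ∀ q : ℕ, q.Prime → (∃ g : G, ConjClasses.mk g = C ∧ q ∣ orderOf g) → q ∈ π})
      (β := {C : ConjClasses G // ∃ g : G, ConjClasses.mk g = C ∧ ∀ q : ℕ, q.Prime → q ∣ orderOf g → q ∈ s})
      (fun C => ⟨C.1, ?_⟩) (fun a b hab => Subtype.ext (congrArg Subtype.val hab :))) h
    obtain ⟨g, hg⟩ := ConjClasses.exists_rep C.1
    refine ⟨g, hg, fun q hq hd => Finset.mem_filter.mpr
      ⟨Nat.mem_primeFactors.mpr ⟨hq, hd.trans (orderOf_dvd_natCard g), Nat.card_pos.ne'⟩,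
        C.2 q hq ⟨g, hg, hd⟩⟩⟩
  · intro p hp
    obtain ⟨hp1, hp2⟩ := Finset.mem_filter.mp hp
    refine Nat.Coprime.dvd_of_dvd_mul_right (k := p ^ (Nat.card G).factorization p)
      (n := Nat.card G / m) (((hπ p hp2).coprime_iff_not_dvd.mpr (hm' p hp2)).pow_left _) ?_
    rw [Nat.mul_div_cancel' hm]
    exact Nat.ordProj_dvd _ _

end Cfsg.Agent.S4106
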