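import Cfsg.Statements.S4107
import Cfsg.Agent.Lib.Cores

set_option autoImplicit false
open Cfsg

namespace Cfsg.Agent.S4107

open Cfsg.Agent.Lib

/-- If an element of `O_p(G)` outside `N` has constant order on its coset, `N` is a `p`-group. -/
theorem le_pCore_of_coset_order {G : Type*} [Group G] [Finite G] {N : Subgroup G} [N.Normal]
    (heq : ∀ x : G, x ∉ N → ∀ n ∈ N, orderOf (x * n) = orderOf x) {p : ℕ} [Fact p.Prime]
    (h : ¬ Cfsg.pCore p G ≤ N) : N ≤ Cfsg.pCore p G := by
  obtain ⟨x, hx, hxN⟩ := SetLike.not_le_iff_exists.mp h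
  refine le_sSup ⟨inferInstance, fun n => ?_⟩
  set π := QuotientGroup.mk' (Cfsg.pCore p G)
  obtain ⟨k, hk⟩ := Cores.pCore_isPGroup p G ⟨x, hx⟩
  have hxk : x ^ p ^ k = 1 := congrArg Subtype.val hk
  have hn : (x * (n : G)) ^ p ^ k = 1 := by
    rw [← orderOf_dvd_iff_pow_eq_one, heq x hxN n n.2, orderOf_dvd_iff_pow_eq_one, hxk]
  have hnO : (n : G) ^ p ^ k ∈ Cfsg.pCore p G := by
    rw [← QuotientGroup.eq_one_iff]
    have h2 := congrArg π hn
    rw [map_pow, map_mul, show π x = 1 from (QuotientGroup.eq_one_iff x).mpr hx, one_mul, map_one] at h2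
    exact h2
  obtain ⟨j, hj⟩ := Cores.pCore_isPGroup p G ⟨_, hnO⟩
  exact ⟨k + j, Subtype.ext (by rw [SubmonoidClass.coe_pow, pow_add, pow_mul]; exact congrArg Subtype.val hj)⟩

/-- Let G be a finite group and N a proper non-trivial normal subgroup such that for every x outside N all elements of the coset xN have the same order as x. Then N ≤ F(G) or F(G) ≤ N, where F(G) is the Fitting subgroup; and if N is properly contained in F(G) then F(G) has prime-power order. -/
theorem result {G : Type*} [Group G] [Finite G] (N : Subgroup G) [N.Normal] (hN1 : N ≠ ⊥) (hN2 : N ≠ ⊤)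
    (heq : ∀ x : G, x ∉ N → ∀ n ∈ N, orderOf (x * n) = orderOf x) :
    (N ≤ Cfsg.fittingSubgroup G ∨ Cfsg.fittingSubgroup G ≤ N) ∧
    (N < Cfsg.fittingSubgroup G → IsPrimePow (Nat.card (Cfsg.fittingSubgroup G))) := by

  constructor
  · by_cases h : ∀ (p : ℕ) [Fact p.Prime], Cfsg.pCore p G ≤ N
    · exact Or.inr (Lib.Cores.fittingSubgroup_le_of_pCore_le fun p hp => @h p ⟨hp⟩)
    · push Not at h
      obtain ⟨p, hp, hpN⟩ := h
      exact Or.inl ((le_pCore_of_coset_order heq hpN).trans (Lib.Cores.pCore_le_fittingSubgroup p))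
  · intro hlt
    obtain ⟨p, hp, hpN⟩ : ∃ p, ∃ (_ : Fact (Nat.Prime p)), ¬ Cfsg.pCore p G ≤ N := by
      by_contra hno
      push Not at hno
      exact hlt.not_ge (Lib.Cores.fittingSubgroup_le_of_pCore_le fun p hp => hno p ⟨hp⟩)
    have hNp := le_pCore_of_coset_order heq hpN
    have hFp : Cfsg.fittingSubgroup G ≤ Cfsg.pCore p G := by
      refine Lib.Cores.fittingSubgroup_le_of_pCore_le fun q hq' => ?_
      haveI hq := Fact.mk hq'
      by_cases hqp : q = p
      · subst hqp; exact le_rfl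
      by_cases hqN : Cfsg.pCore q G ≤ N
      · exact hqN.trans hNp
      exfalso
      have hbot : Cfsg.pCore q G ⊓ Cfsg.pCore p G = ⊥ :=
        disjoint_iff.mp (IsPGroup.disjoint_of_ne q p hqp _ _ (Lib.Cores.pCore_isPGroup q G) (Lib.Cores.pCore_isPGroup p G))
      exact hN1 (le_bot_iff.mp (hbot ▸ le_inf (le_pCore_of_coset_order heq hqN) hNp))
    obtain ⟨k, hk⟩ := IsPGroup.iff_card.mp ((Lib.Cores.pCore_isPGroup p G).to_le hFp)
    refine ⟨p, k, hp.out.prime, ?_, hk.symm⟩
    rcases Nat.eq_zero_or_pos k with rfl | h0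
    · rw [pow_zero, Subgroup.card_eq_one] at hk
      exact absurd (hk ▸ hlt) not_lt_bot
    · exact h0

end Cfsg.Agent.S4107
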