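import Cfsg.Statements.S4108
import Cfsg.Agent.Lib.Frobenius.Complement
import Mathlib.GroupTheory.PGroup

set_option autoImplicit false
open Cfsg

namespace Cfsg.Agent.S4108

/-- Let G be a finite group, p a prime and N a proper non-trivial normal p-subgroup such that for every x outside N all elements of the coset xN have the same order as x. Then every non-trivial subgroup H of G of order prime to p acts fixed-point-freely on N: NH is a Frobenius group with complement H and kernel N. -/
theorem result {G : Type*} [Group G] [Finite G] (N : Subgroup G) [N.Normal] (hN1 : N ≠ ⊥) (hN2 : N ≠ ⊤)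
    (heq : ∀ x : G, x ∉ N → ∀ n ∈ N, orderOf (x * n) = orderOf x)
    (p : ℕ) [Fact p.Prime] (hNp : IsPGroup p N) :
    ∀ H : Subgroup G, H ≠ ⊥ → (Nat.card H).Coprime p →
      Cfsg.IsFrobeniusComplement (H.subgroupOf (N ⊔ H)) ∧ Cfsg.frobeniusKernel (H.subgroupOf (N ⊔ H)) = (N.subgroupOf (N ⊔ H) : Set ↥(N ⊔ H)) := by
  intro H hH hcop
  have hdisj : N ⊓ H = ⊥ := by
    rw [Subgroup.eq_bot_iff_forall]
    rintro x ⟨hxN, hxH⟩
    obtain ⟨k, hk⟩ := hNp ⟨x, hxN⟩
    have h1 : x ^ p ^ k = 1 := by simpa using congrArg Subtype.val hk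
    have h2 : orderOf x ∣ Nat.card H := by
      have := orderOf_dvd_natCard (⟨x, hxH⟩ : H)
      rwa [Subgroup.orderOf_mk] at this
    have h3 := Nat.dvd_gcd h2 (orderOf_dvd_of_pow_eq_one h1)
    rw [Nat.Coprime.gcd_eq_one (hcop.pow_right k), Nat.dvd_one] at h3
    exact orderOf_eq_one_iff.mp h3
  refine Cfsg.Agent.Lib.Frobenius.isFrobeniusComplement_subgroupOf_sup hdisj hN1 hH ?_
  intro h hh h1 n hn hc
  have hhN : h ∉ N := fun hhN => h1 (by
    have : h ∈ N ⊓ H := Subgroup.mem_inf.mpr ⟨hhN, hh⟩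
    simpa [hdisj] using this)
  have hord := heq h hhN n hn
  obtain ⟨k, hk⟩ := hNp ⟨n, hn⟩
  have hnk : n ^ p ^ k = 1 := by simpa using congrArg Subtype.val hk
  have hco : (orderOf h).Coprime (orderOf n) := by
    have h2 : orderOf h ∣ Nat.card H := by
      have := orderOf_dvd_natCard (⟨h, hh⟩ : H)
      rwa [Subgroup.orderOf_mk] at this
    exact ((hcop.pow_right k).coprime_dvd_left h2).coprime_dvd_right (orderOf_dvd_of_pow_eq_one hnk)
  rw [(show Commute h n from hc).orderOf_mul_eq_mul_orderOf_of_coprime hco] at hord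
  exact orderOf_eq_one_iff.mp ((mul_eq_left₀ (orderOf_pos h).ne').mp hord)

end Cfsg.Agent.S4108
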