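import Cfsg.Statements.S4113
import Cfsg.Agent.Lib.Frobenius.Complement

set_option autoImplicit false
open Cfsg

namespace Cfsg.Agent.S4113

/-- Let G be a finite group, M ≤ N non-trivial proper normal subgroups, and H a subgroup with HM = G and H ∩ M = 1. Then every element of G outside N acts fixed-point-freely on M (C_G(x) ≤ N for every x ∈ M, x ≠ 1) if and only if H ∩ gHg⁻¹ ≤ H ∩ N for every g outside H, with H proper and non-trivial and H ∩ N proper in H. -/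
theorem result {G : Type*} [Group G] [Finite G] (N M : Subgroup G) [N.Normal] [M.Normal] (hMN : M ≤ N) (hM1 : M ≠ ⊥) (hN2 : N ≠ ⊤)
    (H : Subgroup G) (hHM : H ⊔ M = ⊤) (hHM' : H ⊓ M = ⊥) :
    (∀ x ∈ M, x ≠ 1 → Subgroup.centralizer ({x} : Set G) ≤ N) ↔
      (H ≠ ⊥ ∧ H ≠ ⊤ ∧ H ⊓ N < H ∧ ∀ g : G, g ∉ H → H ⊓ H.map (MulAut.conj g).toMonoidHom ≤ N) := by
  have hHne : H ≠ ⊥ := by
    rintro rfl
    rw [bot_sup_eq] at hHM
    exact hN2 (top_le_iff.mp (hHM ▸ hMN))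
  have hHtop : H ≠ ⊤ := by
    rintro rfl
    rw [top_inf_eq] at hHM'
    exact hM1 hHM'
  have hlt : H ⊓ N < H := by
    refine lt_of_le_of_ne inf_le_left fun h => hN2 ?_
    rw [eq_top_iff, ← hHM]
    exact sup_le (h ▸ inf_le_right) hMN
  have hmemconj : ∀ g x : G, x ∈ H.map (MulAut.conj g).toMonoidHom ↔ g⁻¹ * x * g ∈ H := by
    intro g x
    constructor
    · rintro ⟨h, hh, rfl⟩
      simpa [mul_assoc] using hh
    · intro h
      exact ⟨_, h, by simp [mul_assoc]⟩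
  constructor
  · intro hC
    refine ⟨hHne, hHtop, hlt, fun g hg x hx => ?_⟩
    obtain ⟨hxH, hxg⟩ := Subgroup.mem_inf.mp hx
    rw [hmemconj] at hxg
    have hmem : g ∈ M ⊔ H := by rw [sup_comm, hHM]; trivial
    rw [← SetLike.mem_coe, Subgroup.normal_mul] at hmem
    obtain ⟨m, hm, k, hk, rfl⟩ := Set.mem_mul.mp hmem
    have h2 : m⁻¹ * x * m ∈ H := by
      have := H.mul_mem (H.mul_mem hk hxg) (H.inv_mem hk)
      simpa [mul_assoc] using this
    have h3 : x⁻¹ * (m⁻¹ * x * m) ∈ H ⊓ M := by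
      refine Subgroup.mem_inf.mpr ⟨H.mul_mem (H.inv_mem hxH) h2, ?_⟩
      have := M.mul_mem ((inferInstance : M.Normal).conj_mem m⁻¹ (M.inv_mem hm) x⁻¹) hm
      simpa [mul_assoc] using this
    rw [hHM', Subgroup.mem_bot] at h3
    have hm1 : m ≠ 1 := by rintro rfl; exact hg (by simpa using hk)
    refine hC m hm hm1 (Subgroup.mem_centralizer_singleton_iff.mpr ?_)
    have h5 : m⁻¹ * x * m = x := inv_mul_eq_one.mp h3 |>.symm
    calc x * m = m * (m⁻¹ * x * m) := by group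
      _ = m * x := by rw [h5]
  · rintro ⟨-, -, -, hint⟩ m hm hm1 c hc
    by_contra hcN
    have hcent : ∀ h ∈ H, h ∉ N → Subgroup.centralizer ({h} : Set G) ≤ H := by
      intro h hh hhN g hg
      by_contra hgH
      refine hhN (hint g hgH (Subgroup.mem_inf.mpr ⟨hh, (hmemconj g h).mpr ?_⟩))
      rwa [mul_assoc, ← Subgroup.mem_centralizer_singleton_iff.mp hg, inv_mul_cancel_left]
    have hinjMH : Function.Injective fun q : M × H => (q.1 : G) * q.2 := by
      rintro ⟨m₁, h₁⟩ ⟨m₂, h₂⟩ he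
      have he' : (m₁ : G) * h₁ = m₂ * h₂ := he
      have hz : (m₂ : G)⁻¹ * m₁ ∈ H ⊓ M := Subgroup.mem_inf.mpr ⟨by
        rw [show (m₂ : G)⁻¹ * m₁ = (h₂ : G) * (h₁ : G)⁻¹ by
          rw [eq_mul_inv_iff_mul_eq, mul_assoc, inv_mul_eq_iff_eq_mul]; exact he']
        exact H.mul_mem h₂.2 (H.inv_mem h₁.2), M.mul_mem (M.inv_mem m₂.2) m₁.2⟩
      rw [hHM', Subgroup.mem_bot, inv_mul_eq_one] at hz
      rw [hz] at he'
      exact Prod.ext (Subtype.ext hz.symm) (Subtype.ext (mul_left_cancel he'))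
    have hsurjMH : ∀ x : G, ∃ m₁ ∈ M, ∃ h₁ ∈ H, m₁ * h₁ = x := by
      intro x
      have hx : x ∈ M ⊔ H := by rw [sup_comm, hHM]; trivial
      rw [← SetLike.mem_coe, Subgroup.normal_mul] at hx
      exact Set.mem_mul.mp hx
    let e : ↥M × {h : H // (h : G) ∉ N} → {x : G // x ∉ N} := fun q =>
      ⟨(q.1 : G) * (q.2.1 : G) * (q.1 : G)⁻¹, fun hx => q.2.2 (by
        have := (inferInstance : N.Normal).conj_mem _ hx (q.1 : G)⁻¹
        simpa [mul_assoc] using this)⟩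
    let e' : {x : G // x ∉ N} → ↥M × {h : H // (h : G) ∉ N} := fun x =>
      (⟨(hsurjMH x.1).choose, (hsurjMH x.1).choose_spec.1⟩,
        ⟨⟨(hsurjMH x.1).choose_spec.2.choose, (hsurjMH x.1).choose_spec.2.choose_spec.1⟩,
          fun hh => x.2 (by
            rw [← (hsurjMH x.1).choose_spec.2.choose_spec.2]
            exact N.mul_mem (hMN (hsurjMH x.1).choose_spec.1) hh)⟩)
    have he' : Function.Injective e' := by
      intro x y hxy
      apply Subtype.ext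
      rw [← (hsurjMH x.1).choose_spec.2.choose_spec.2, ← (hsurjMH y.1).choose_spec.2.choose_spec.2]
      exact congrArg (fun q : ↥M × {h : H // (h : G) ∉ N} => (q.1 : G) * (q.2.1 : G)) hxy
    have he : Function.Injective e := by
      rintro ⟨m₁, h₁⟩ ⟨m₂, h₂⟩ hq
      have hq' : (m₁ : G) * (h₁.1 : G) * (m₁ : G)⁻¹ = m₂ * (h₂.1 : G) * (m₂ : G)⁻¹ :=
        congrArg Subtype.val hq
      set z := (m₂ : G)⁻¹ * m₁ with hzdef
      have hz : z * (h₁.1 : G) * z⁻¹ = h₂.1 := by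
        calc z * (h₁.1 : G) * z⁻¹ = (m₂ : G)⁻¹ * ((m₁ : G) * (h₁.1 : G) * (m₁ : G)⁻¹) * m₂ := by
              rw [hzdef]; group
          _ = h₂.1 := by rw [hq']; group
      have hzH : z ∈ H := by
        by_contra hzH
        refine h₁.2 (hint z⁻¹ (fun h => hzH (by simpa using H.inv_mem h))
          (Subgroup.mem_inf.mpr ⟨h₁.1.2, (hmemconj _ _).mpr ?_⟩))
        rw [inv_inv, hz]
        exact h₂.1.2
      have hz1 : z = 1 := by
        have : z ∈ H ⊓ M := Subgroup.mem_inf.mpr ⟨hzH, M.mul_mem (M.inv_mem m₂.2) m₁.2⟩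
        simpa [hHM'] using this
      rw [hz1, one_mul, inv_one, mul_one] at hz
      rw [hzdef, inv_mul_eq_one] at hz1
      exact Prod.ext (Subtype.ext hz1.symm) (Subtype.ext (Subtype.ext hz))
    have hbij : Function.Bijective e := (Nat.bijective_iff_injective_and_card e).mpr
      ⟨he, le_antisymm (Nat.card_le_card_of_injective e he) (Nat.card_le_card_of_injective e' he')⟩
    obtain ⟨⟨m₁, h₁⟩, hq⟩ := hbij.2 ⟨c, hcN⟩
    have hq' : (m₁ : G) * (h₁.1 : G) * (m₁ : G)⁻¹ = c := congrArg Subtype.val hq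
    have hmem : (m₁ : G)⁻¹ * m * m₁ ∈ H ⊓ M := by
      refine Subgroup.mem_inf.mpr ⟨hcent _ h₁.1.2 h₁.2 (Subgroup.mem_centralizer_singleton_iff.mpr ?_), ?_⟩
      · have hh : (h₁.1 : G) = (m₁ : G)⁻¹ * c * m₁ := by rw [← hq']; group
        rw [hh]
        have hcm : c * m = m * c := Subgroup.mem_centralizer_singleton_iff.mp hc
        calc (m₁ : G)⁻¹ * m * m₁ * ((m₁ : G)⁻¹ * c * m₁) = (m₁ : G)⁻¹ * (m * c) * m₁ := by group
          _ = (m₁ : G)⁻¹ * (c * m) * m₁ := by rw [hcm]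
          _ = (m₁ : G)⁻¹ * c * m₁ * ((m₁ : G)⁻¹ * m * m₁) := by group
      · simpa using (inferInstance : M.Normal).conj_mem m hm (m₁ : G)⁻¹
    rw [hHM', Subgroup.mem_bot] at hmem
    refine hm1 ?_
    calc m = (m₁ : G) * ((m₁ : G)⁻¹ * m * m₁) * (m₁ : G)⁻¹ := by group
      _ = 1 := by rw [hmem]; group

end Cfsg.Agent.S4113
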