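import Cfsg.Statements.S4115
import Cfsg.Agent.Lib.Frobenius.TIComplement

set_option autoImplicit false
universe u
open Cfsg

namespace Cfsg.Agent.S4115

/-- Let G be a finite group and H a subgroup that meets each of its conjugates by elements outside N_G(H) trivially and whose order is coprime to its index in N_G(H). Then H has a normal complement in N_G(H) if and only if H has a normal complement in G. Moreover, if H is not normal in G and has a normal complement in N_G(H), then H is isomorphic to a Frobenius complement of some finite Frobenius group. -/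
theorem result {G : Type u} [Group G] [Finite G] (H : Subgroup G)
    (hTI : Cfsg.IsTISubset (H : Set G)) (hHall : (Nat.card H).Coprime (H.subgroupOf (Subgroup.normalizer (H : Set G))).index) :
    ((∃ K : Subgroup (Subgroup.normalizer (H : Set G)), K.Normal ∧ K.IsComplement' (H.subgroupOf (Subgroup.normalizer (H : Set G)))) ↔
      (∃ N : Subgroup G, N.Normal ∧ N.IsComplement' H)) ∧
    (¬ H.Normal → (∃ K : Subgroup (Subgroup.normalizer (H : Set G)), K.Normal ∧ K.IsComplement' (H.subgroupOf (Subgroup.normalizer (H : Set G)))) →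
      ∃ (F : Type u) (_ : Group F) (_ : Finite F) (C : Subgroup F), Cfsg.IsFrobeniusComplement C ∧ Nonempty (H ≃* C)) := by
  have hc := Cfsg.Agent.Lib.Frobenius.coprime_index_of_tiSubgroup hTI hHall
  refine ⟨⟨?_, ?_⟩, ?_⟩
  · rintro ⟨K, hKn, hK⟩
    haveI := hKn
    exact Cfsg.Agent.Lib.Frobenius.TIComplement.exists_normal_complement hTI hc hK
  · rintro ⟨N, hNn, hN⟩
    haveI := hNn
    refine ⟨N.subgroupOf (Subgroup.normalizer (H : Set G)), inferInstance,
      Subgroup.isComplement'_of_disjoint_and_mul_eq_univ ?_ ?_⟩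
    · rw [disjoint_iff, Subgroup.eq_bot_iff_forall]
      rintro ⟨x, hx⟩ ⟨hxN, hxH⟩
      exact Subtype.ext (Subgroup.mem_bot.mp (hN.disjoint.le_bot ⟨hxN, hxH⟩))
    · rw [Set.eq_univ_iff_forall]
      rintro ⟨l, hl⟩
      obtain ⟨⟨⟨a, ha⟩, ⟨b, hb⟩⟩, hab⟩ := hN.2 l
      have hab' : a * b = l := hab
      have haL : a ∈ Subgroup.normalizer (H : Set G) := by
        rw [eq_mul_inv_of_mul_eq hab']
        exact mul_mem hl (inv_mem (Subgroup.le_normalizer hb))
      exact ⟨⟨a, haL⟩, ha, ⟨b, Subgroup.le_normalizer hb⟩, hb, Subtype.ext hab'⟩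
  · rintro hnn ⟨K, hKn, hK⟩
    haveI := hKn
    obtain ⟨N0, hN0n, hN0⟩ :=
      Cfsg.Agent.Lib.Frobenius.TIComplement.exists_normal_complement hTI hc hK
    haveI := hN0n
    exact Cfsg.Agent.Lib.Frobenius.TIComplement.exists_frobenius hTI hc hnn hK hN0

end Cfsg.Agent.S4115
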