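import Cfsg.Statements.S4116
import Cfsg.Agent.Lib.Frobenius.Kernel
import Mathlib.GroupTheory.Sylow

set_option autoImplicit false
open Cfsg

namespace Cfsg.Agent.S4116

open scoped Pointwise

theorem mem_map_conj {G : Type*} [Group G] {H : Subgroup G} {g x : G} :
    x ∈ H.map (MulAut.conj g).toMonoidHom ↔ g⁻¹ * x * g ∈ H := by
  constructor
  · rintro ⟨h, hh, rfl⟩
    simpa [mul_assoc] using hh
  · intro h
    exact ⟨_, h, by simp [mul_assoc]⟩

variable {G : Type*} [Group G] [Finite G]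

/-- In a TI Hall subgroup's normalizer, an element whose prime divisors divide `|H|` lies in `H`. -/
theorem mem_of_mem_normalizer {H : Subgroup G} (hHall : (Nat.card H).Coprime H.index) {y : G}
    (hy : ∀ q : ℕ, q.Prime → q ∣ orderOf y → q ∣ Nat.card H)
    (hN : y ∈ Subgroup.normalizer (H : Set G)) : y ∈ H := by
  set N := Subgroup.normalizer (H : Set G)
  have hn : (H.subgroupOf N).Normal := Subgroup.normal_in_normalizer
  have h1 : orderOf (QuotientGroup.mk' (H.subgroupOf N) ⟨y, hN⟩) ∣ orderOf y := by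
    have := orderOf_map_dvd (QuotientGroup.mk' (H.subgroupOf N)) ⟨y, hN⟩
    rwa [Subgroup.orderOf_mk] at this
  have h2 : orderOf (QuotientGroup.mk' (H.subgroupOf N) ⟨y, hN⟩) ∣ H.index :=
    (orderOf_dvd_natCard _).trans (Subgroup.relIndex_dvd_index_of_le Subgroup.le_normalizer)
  have h3 : orderOf (QuotientGroup.mk' (H.subgroupOf N) ⟨y, hN⟩) = 1 := by
    by_contra hne
    obtain ⟨q, hq, hqd⟩ := Nat.exists_prime_and_dvd hne
    exact Nat.not_coprime_of_dvd_of_dvd hq.one_lt (hy q hq (hqd.trans h1)) (hqd.trans h2) hHall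
  exact Subgroup.mem_subgroupOf.mp ((QuotientGroup.eq_one_iff (⟨y, hN⟩ : N)).mp (orderOf_eq_one_iff.mp h3))

theorem exists_conj_mem {H : Subgroup G} (hHall : (Nat.card H).Coprime H.index)
    (hTI : Cfsg.IsTISubset (H : Set G)) {y : G}
    (hy : ∀ q : ℕ, q.Prime → q ∣ orderOf y → q ∣ Nat.card H) : ∃ g : G, g⁻¹ * y * g ∈ H := by
  by_cases hy1 : orderOf y = 1
  · exact ⟨1, by simp [orderOf_eq_one_iff.mp hy1, H.one_mem]⟩
  obtain ⟨p, hp, hpd⟩ := Nat.exists_prime_and_dvd hy1
  have : Fact p.Prime := ⟨hp⟩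
  set z := y ^ (orderOf y / p) with hz
  have hzo : orderOf z = p := orderOf_pow_orderOf_div (orderOf_pos y).ne' hpd
  obtain ⟨Q⟩ : Nonempty (Sylow p H) := inferInstance
  obtain ⟨R, hR⟩ := (IsPGroup.of_card (p := p) (n := 1)
    (G := Subgroup.zpowers z) (by rw [Nat.card_zpowers, hzo, pow_one])).exists_le_sylow
  have hQcard : Nat.card ((Q : Subgroup H).map H.subtype) = p ^ (Nat.card G).factorization p := by
    rw [Nat.card_congr ((Q : Subgroup H).equivMapOfInjective _ H.subtype_injective).symm.toEquiv,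
      Sylow.card_eq_multiplicity]
    congr 1
    rw [← H.card_mul_index, Nat.factorization_mul Nat.card_pos.ne' Subgroup.index_ne_zero_of_finite,
      Finsupp.add_apply, Nat.factorization_eq_zero_of_not_dvd (fun h =>
        Nat.not_coprime_of_dvd_of_dvd hp.one_lt (hy p hp hpd) h hHall), add_zero]
  obtain ⟨g, hg⟩ := MulAction.exists_smul_eq G (Sylow.ofCard _ hQcard) R
  have hzH : g⁻¹ * z * g ∈ H := by
    have hzR : z ∈ (R : Subgroup G) := hR (Subgroup.mem_zpowers z)
    rw [← hg, Sylow.coe_subgroup_smul, Sylow.coe_ofCard,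
      Subgroup.mem_pointwise_smul_iff_inv_smul_mem] at hzR
    simp only [← map_inv, MulAut.smul_def, MulAut.conj_apply, inv_inv] at hzR
    exact Subgroup.map_subtype_le _ hzR
  refine ⟨g, mem_of_mem_normalizer hHall (fun q hq hqd => hy q hq ?_) ?_⟩
  · have : orderOf (g⁻¹ * y * g) = orderOf y := by
      simpa using (MulAut.conj g⁻¹).orderOf_eq y
    rwa [this] at hqd
  · by_contra hN
    have hne : g⁻¹ * z * g ≠ 1 := fun h => by
      have hz1 : z = 1 := by
        calc z = g * (g⁻¹ * z * g) * g⁻¹ := by group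
          _ = 1 := by rw [h]; group
      rw [hz1, orderOf_one] at hzo
      exact hp.ne_one hzo.symm
    refine hne (hTI _ hN _ hzH ?_)
    have hc : Commute (g⁻¹ * y * g) (g⁻¹ * z * g) := by
      show _ = _
      have hyz : y * z = z * y := by rw [hz, ← pow_succ', ← pow_succ]
      calc g⁻¹ * y * g * (g⁻¹ * z * g) = g⁻¹ * (y * z) * g := by group
        _ = g⁻¹ * (z * y) * g := by rw [hyz]
        _ = g⁻¹ * z * g * (g⁻¹ * y * g) := by group
    rw [hc.eq, mul_inv_cancel_right]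
    exact hzH

/-- Let G be a finite group with a subgroup H whose order is coprime to its index (a Hall subgroup) and which meets each of its conjugates by elements outside N_G(H) trivially. Then every subgroup of G whose order is divisible only by primes dividing the order of H lies in a conjugate of H. -/
theorem result {G : Type*} [Group G] [Finite G] (H : Subgroup G)
    (hHall : (Nat.card H).Coprime H.index) (hTI : Cfsg.IsTISubset (H : Set G))
    (K : Subgroup G) (hK : ∀ q : ℕ, q.Prime → q ∣ Nat.card K → q ∣ Nat.card H) :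
    ∃ g : G, K ≤ H.map (MulAut.conj g).toMonoidHom := by
  classical
  have hconjTI : ∀ g g' x : G, x ≠ 1 → g⁻¹ * x * g ∈ H → g'⁻¹ * x * g' ∈ H →
      ∀ w, g⁻¹ * w * g ∈ H ↔ g'⁻¹ * w * g' ∈ H := by
    intro g g' x hx h1 h2 w
    have hN : g'⁻¹ * g ∈ Subgroup.normalizer (H : Set G) := by
      by_contra hN
      refine hx ?_
      have h' := hTI _ hN _ h1 (by
        have e : g'⁻¹ * g * (g⁻¹ * x * g) * (g'⁻¹ * g)⁻¹ = g'⁻¹ * x * g' := by group
        rw [e]; exact h2)
      calc x = g * (g⁻¹ * x * g) * g⁻¹ := by group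
        _ = 1 := by rw [h']; group
    rw [Subgroup.mem_normalizer_iff.mp hN (g⁻¹ * w * g)]
    constructor <;> intro h
    · have e : g'⁻¹ * g * (g⁻¹ * w * g) * (g'⁻¹ * g)⁻¹ = g'⁻¹ * w * g' := by group
      rwa [← e]
    · have e : g'⁻¹ * g * (g⁻¹ * w * g) * (g'⁻¹ * g)⁻¹ = g'⁻¹ * w * g' := by group
      rwa [e]
  have hyK : ∀ y : K, ∀ q : ℕ, q.Prime → q ∣ orderOf (y : G) → q ∣ Nat.card H := by
    intro y q hq hqd
    refine hK q hq (hqd.trans ?_)
    rw [Subgroup.orderOf_coe]; exact orderOf_dvd_natCard y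
  by_contra hcon
  push Not at hcon
  let A : G → Subgroup K := fun g => (H.map (MulAut.conj g).toMonoidHom).subgroupOf K
  have hmemA : ∀ g (y : K), y ∈ A g ↔ g⁻¹ * (y : G) * g ∈ H := fun g y => by
    rw [Subgroup.mem_subgroupOf, mem_map_conj]
  have hFrob : ∀ g, A g ≠ ⊥ → Cfsg.IsFrobeniusComplement (A g) := by
    intro g hg
    refine Cfsg.Agent.Lib.Frobenius.isFrobeniusComplement_iff.mpr ⟨hg, fun h => ?_, ?_⟩
    · exact hcon g (fun x hx => mem_map_conj.mpr ((hmemA g ⟨x, hx⟩).mp (h ▸ Subgroup.mem_top _)))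
    · intro k hk a ha hka
      by_contra ha1
      apply hk
      rw [hmemA] at ha hka ⊢
      have ha1' : (a : G) ≠ 1 := fun h => ha1 (Subtype.ext h)
      have hN : g⁻¹ * (k : G) * g ∈ Subgroup.normalizer (H : Set G) := by
        by_contra hN
        have hN' : g⁻¹ * (k : G)⁻¹ * g ∉ Subgroup.normalizer (H : Set G) := fun h => hN (by
          have := inv_mem h
          simpa [mul_assoc] using this)
        have h' := hTI _ hN' _ ha (by
          simpa [mul_assoc] using hka)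
        refine ha1' ?_
        calc (a : G) = g * (g⁻¹ * a * g) * g⁻¹ := by group
          _ = 1 := by rw [h']; group
      refine mem_of_mem_normalizer hHall (fun q hq hqd => hyK k q hq ?_) hN
      have : orderOf (g⁻¹ * (k : G) * g) = orderOf (k : G) := by
        simpa using (MulAut.conj g⁻¹).orderOf_eq (k : G)
      rwa [this] at hqd
  have hA : ∀ y : K, y ≠ 1 → ∃ g, y ∈ A g ∧ A g ≠ ⊥ := by
    intro y hy
    obtain ⟨g, hg⟩ := exists_conj_mem hHall hTI (hyK y)
    exact ⟨g, (hmemA g y).mpr hg, Cfsg.Agent.Lib.Frobenius.ne_bot_of_mem ((hmemA g y).mpr hg) hy⟩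
  obtain ⟨y₀, hy₀⟩ : ∃ y : K, y ≠ 1 := by
    by_contra h
    push Not at h
    exact hcon 1 (fun x hx => mem_map_conj.mpr (by
      rw [show x = 1 from congrArg Subtype.val (h ⟨x, hx⟩)]; simp [H.one_mem]))
  obtain ⟨g₁, -, hg₁⟩ := hA y₀ hy₀
  obtain ⟨K₁, -, hK₁, -, -, hK₁ne, hK₁c, -⟩ :=
    Cfsg.Agent.Lib.Frobenius.exists_frobeniusKernel (hFrob g₁ hg₁)
  obtain ⟨y₁, hy₁K, hy₁⟩ := K₁.bot_or_exists_ne_one.resolve_left hK₁ne
  obtain ⟨g₂, hy₁A, hg₂⟩ := hA y₁ hy₁
  obtain ⟨K₂, -, hK₂, hK₂disj, -, -, hK₂c, -⟩ :=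
    Cfsg.Agent.Lib.Frobenius.exists_frobeniusKernel (hFrob g₂ hg₂)
  have hK₁top : K₁ ≠ ⊤ := fun h => hg₁ (by
    have := hK₁c.disjoint
    rw [h, disjoint_iff, top_inf_eq] at this
    exact this)
  have hy₁K₂ : y₁ ∉ K₂ := fun h => hy₁ (by
    have : y₁ ∈ K₂ ⊓ A g₂ := Subgroup.mem_inf.mpr ⟨h, hy₁A⟩
    simpa [hK₂disj] using this)
  obtain ⟨y₂, hy₂⟩ : ∃ y, y ∉ K₁ := by
    by_contra h
    push Not at h
    exact hK₁top (eq_top_iff.mpr fun x _ => h x)
  have hunion : ∀ y : K, y ∈ K₁ ∨ y ∈ K₂ := by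
    intro y
    by_cases hy : y = 1
    · exact Or.inl (hy ▸ one_mem _)
    by_contra hnot
    push Not at hnot
    obtain ⟨h1, h2⟩ := hnot
    rw [← SetLike.mem_coe, hK₁, Cfsg.Agent.Lib.Frobenius.mem_frobeniusKernel_iff] at h1
    rw [← SetLike.mem_coe, hK₂, Cfsg.Agent.Lib.Frobenius.mem_frobeniusKernel_iff] at h2
    push Not at h1 h2
    obtain ⟨-, c, hc⟩ := h1
    obtain ⟨-, d, hd⟩ := h2
    rw [hmemA] at hc hd
    -- the conjugates of `H` through `y` coincide
    have key := hconjTI ((c : G) * g₁) ((d : G) * g₂) (y : G) (fun h => hy (Subtype.ext h))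
      (by simpa [mul_assoc] using hc) (by simpa [mul_assoc] using hd)
    have hw := (key ((d : G) * y₁ * (d : G)⁻¹)).mpr (by
      have := (hmemA g₂ y₁).mp hy₁A
      simpa [mul_assoc] using this)
    have hy₁k : y₁ ∈ Cfsg.frobeniusKernel (A g₁) := by rw [← hK₁]; exact hy₁K
    rcases Cfsg.Agent.Lib.Frobenius.mem_frobeniusKernel_iff.mp hy₁k with h | h
    · exact hy₁ h
    · refine h (d⁻¹ * c) ((hmemA _ _).mpr ?_)
      simpa [mul_assoc] using hw
  have hy₂K₂ : y₂ ∈ K₂ := (hunion y₂).resolve_left hy₂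
  rcases hunion (y₁ * y₂) with h | h
  · exact hy₂ (by simpa using K₁.mul_mem (K₁.inv_mem hy₁K) h)
  · exact hy₁K₂ (by simpa using K₂.mul_mem h (K₂.inv_mem hy₂K₂))

end Cfsg.Agent.S4116
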