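import Cfsg.Statements.S4117
import Cfsg.Agent.Lib.Frobenius.TIHall
import Cfsg.Agent.Lib.Coprime.External
import Mathlib.GroupTheory.SpecificGroups.Cyclic.Basic
import Mathlib.GroupTheory.SemidirectProduct

set_option autoImplicit false
open Cfsg

namespace Cfsg.Agent.S4117

open Cfsg.Agent.Lib
open scoped commutatorElement IsMulCommutative

universe u

/-- If a group of automorphisms centralises a Sylow subgroup of a `p`-nilpotent group, the
commutators lie in the normal complement. -/
theorem coprime_commutator {G : Type u} [Group G] [Finite G] {Z Q P0 : Subgroup G} {p : ℕ}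
    [Fact p.Prime] (hQZ : Q ≤ Subgroup.normalizer (Z : Set G))
    (hnpc : Cfsg.HasNormalPComplement p Z) (P : Sylow p Z) (hP : (P : Subgroup Z).map Z.subtype = P0)
    (hcent : Q ≤ Subgroup.centralizer (P0 : Set G)) : (Nat.card (⁅Z, Q⁆ : Subgroup G)).Coprime p := by
  set R := (Cfsg.pResidual p Z).map Z.subtype with hR
  haveI : (Cfsg.pResidual p Z).Normal := Transfer.pResidual_normal
  have hRc : (Nat.card R).Coprime p := by
    rw [hR, Subgroup.card_map_of_injective Z.subtype_injective]
    exact (Transfer.hasNormalPComplement_iff_coprime).mp hnpc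
  have hgen : R = Subgroup.closure {x : G | x ∈ Z ∧ Nat.Coprime (orderOf x) p} := by
    rw [hR, Cfsg.pResidual, MonoidHom.map_closure]
    congr 1
    ext x
    constructor
    · rintro ⟨y, hy, rfl⟩
      exact ⟨y.2, by rw [Subgroup.coe_subtype, Subgroup.orderOf_coe]; exact hy⟩
    · rintro ⟨hx, hc⟩
      exact ⟨⟨x, hx⟩, (show Nat.Coprime (orderOf (⟨x, hx⟩ : Z)) p by rw [Subgroup.orderOf_mk]; exact hc), rfl⟩
  have hnorm : ∀ y ∈ Subgroup.normalizer (Z : Set G), ∀ x ∈ R, y * x * y⁻¹ ∈ R := by
    intro y hy x hx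
    have h1 := Subgroup.mem_map_of_mem (MulAut.conj y).toMonoidHom hx
    rw [hgen, MonoidHom.map_closure] at h1
    rw [hgen]
    refine Subgroup.closure_mono ?_ h1
    rintro _ ⟨z, ⟨hz, hzc⟩, rfl⟩
    exact ⟨(Subgroup.mem_normalizer_iff.mp hy z).mp hz,
      by rw [MulEquiv.coe_toMonoidHom, MulEquiv.orderOf_eq]; exact hzc⟩
  refine Nat.Coprime.coprime_dvd_left (Subgroup.card_dvd_of_le ?_) hRc
  rw [Subgroup.commutator_le]
  intro z hz q hq
  obtain ⟨s, hs, r, hr, hsr⟩ := Subgroup.mem_sup_of_normal_right.mp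
    ((Transfer.sylow_sup_pResidual P).ge (Subgroup.mem_top (⟨z, hz⟩ : Z)))
  have hz' : z = (s : G) * (r : G) := (congrArg Subtype.val hsr).symm
  have hrR : (r : G) ∈ R := ⟨r, hr, rfl⟩
  have hqs : (s : G) * q = q * (s : G) := hcent hq _ (hP ▸ ⟨s, hs, rfl⟩)
  have h1 : (r : G) * (q * (r : G)⁻¹ * q⁻¹) ∈ R :=
    mul_mem hrR (hnorm q (hQZ hq) _ (inv_mem hrR))
  have h2 := hnorm _ (Subgroup.le_normalizer (H := Z) s.2) _ h1
  have hinv : q⁻¹ * (s : G)⁻¹ = (s : G)⁻¹ * q⁻¹ := by rw [← mul_inv_rev, hqs, mul_inv_rev]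
  have : ⁅z, q⁆ = (s : G) * ((r : G) * (q * (r : G)⁻¹ * q⁻¹)) * (s : G)⁻¹ := by
    rw [commutatorElement_def, hz']
    calc (s : G) * r * q * ((s : G) * r)⁻¹ * q⁻¹
        = (s : G) * r * q * (r : G)⁻¹ * ((s : G)⁻¹ * q⁻¹) := by group
      _ = _ := by rw [← hinv]; group
  rw [this]
  exact h2

/-- A coprime group of automorphisms of a cyclic `p`-group with a nontrivial fixed point is trivial. -/
theorem centralizes_of_fixed {G : Type u} [Group G] [Finite G] {P Q : Subgroup G} [IsCyclic P] {p : ℕ}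
    [hp : Fact p.Prime] (hP : IsPGroup p P) (hQP : Q ≤ Subgroup.normalizer (P : Set G))
    (hcop : (Nat.card P).Coprime (Nat.card Q)) {u : G} (huP : u ∈ P) (hu1 : u ≠ 1)
    (hu : ∀ q ∈ Q, q * u = u * q) : Q ≤ Subgroup.centralizer (P : Set G) := by
  rcases IsPGroup.commutator_eq_bot_or_commutator_eq_self hP hQP hcop with h | h
  · exact Subgroup.commutator_eq_bot_iff_le_centralizer.mp h
  exfalso
  haveI : Nontrivial P := ⟨⟨⟨u, huP⟩, 1, fun h => hu1 (congrArg Subtype.val h)⟩⟩
  obtain ⟨n, hn0, hn⟩ := hP.nontrivial_iff_card.mp inferInstance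
  obtain ⟨k, hk⟩ := (Nat.dvd_prime_pow hp.out).mp (hn ▸ orderOf_dvd_natCard (⟨u, huP⟩ : P))
  have hk0 : k ≠ 0 := fun h0 => by
    have := hk.2
    rw [h0, pow_zero, orderOf_eq_one_iff] at this
    exact hu1 (congrArg Subtype.val this)
  set v : P := (⟨u, huP⟩ : P) ^ p ^ (k - 1) with hv
  have hvo : orderOf v = p := by
    rw [hv, orderOf_pow_of_dvd (pow_ne_zero _ hp.out.ne_zero) (hk.2 ▸ pow_dvd_pow p (Nat.sub_le k 1)), hk.2,
      Nat.pow_div (Nat.sub_le k 1) hp.out.pos, show k - (k - 1) = 1 by omega, pow_one]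
  have hvfix : ∀ q ∈ Q, q * (v : G) = (v : G) * q := fun q hq => by
    rw [hv, SubmonoidClass.coe_pow]
    exact (Commute.pow_right (show Commute q u from hu q hq) _).eq
  -- elements of order dividing `p` are fixed
  have hall : ∀ y : P, y ^ p = 1 → y ∈ Subgroup.zpowers v := by
    intro y hy
    classical
    haveI := Fintype.ofFinite P
    set S := ({x : P | x ^ p = 1} : Finset P) with hS
    have hle : S.card ≤ p := IsCyclic.card_pow_eq_one_le hp.out.pos
    have hvp : v ^ p = 1 := orderOf_dvd_iff_pow_eq_one.mp hvo.dvd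
    have hsub : (Finset.univ.filter fun x : P => x ∈ Subgroup.zpowers v) ⊆ S := by
      intro x hx
      obtain ⟨i, rfl⟩ := Subgroup.mem_zpowers_iff.mp (Finset.mem_filter.mp hx).2
      simp only [hS, Finset.mem_filter, Finset.mem_univ, true_and]
      rw [← zpow_natCast, ← zpow_mul, mul_comm, zpow_mul, zpow_natCast, hvp, one_zpow]
    have hcard : (Finset.univ.filter fun x : P => x ∈ Subgroup.zpowers v).card = p := by
      rw [← Fintype.card_subtype, ← Nat.card_eq_fintype_card]
      exact (Nat.card_zpowers v).trans hvo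
    have heq := Finset.eq_of_subset_of_card_le hsub (hle.trans hcard.ge)
    have hyS : y ∈ S := by simp [hS, hy]
    rw [← heq] at hyS
    exact (Finset.mem_filter.mp hyS).2
  -- commutators have exponent dividing `|P| / p`
  set m := p ^ (n - 1) with hm
  have hle : ⁅Q, P⁆ ≤ ((powMonoidHom m : P →* P).ker).map P.subtype := by
    rw [Subgroup.commutator_le]
    intro q hq g hg
    have hqg : q * g * q⁻¹ ∈ P := (Subgroup.mem_normalizer_iff.mp (hQP hq) g).mp hg
    refine ⟨⟨q * g * q⁻¹, hqg⟩ * (⟨g, hg⟩ : P)⁻¹, ?_, by simp [commutatorElement_def]⟩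
    refine MonoidHom.mem_ker.mpr ?_
    rw [powMonoidHom_apply, mul_pow, inv_pow, mul_inv_eq_one]
    have h1 : ((⟨g, hg⟩ : P) ^ m) ^ p = 1 := by
      rw [← pow_mul, hm, ← pow_succ, show n - 1 + 1 = n by omega, ← hn, pow_card_eq_one']
    obtain ⟨i, hi⟩ := Subgroup.mem_zpowers_iff.mp (hall _ h1)
    apply Subtype.ext
    rw [SubmonoidClass.coe_pow, conj_pow, SubmonoidClass.coe_pow]
    have h2 : g ^ m = (v : G) ^ i := by
      have := congrArg Subtype.val hi
      simpa using this.symm
    show q * g ^ m * q⁻¹ = g ^ m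
    rw [h2, (Commute.zpow_right (show Commute q (v : G) from hvfix q hq) i).eq, mul_inv_cancel_right]
  obtain ⟨x, hx⟩ := IsCyclic.exists_ofOrder_eq_natCard (α := P)
  obtain ⟨y, hy, hyx⟩ := hle (h.ge x.2)
  have hxm : x ^ m = 1 := by rw [← Subtype.ext hyx (a2 := x)]; exact hy
  have := orderOf_dvd_of_pow_eq_one hxm
  rw [hx, hn, hm] at this
  have := (Nat.pow_dvd_pow_iff_le_right hp.out.one_lt).mp this
  omega

/-- In a group with cyclic Sylow subgroups, a coprime group of automorphisms has commutator and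
fixed-point subgroups of coprime orders. -/
theorem coprime_commutator_centralizer {G : Type u} [Group G] [Finite G] {H Q : Subgroup G}
    [hZ : IsZGroup H] (hQ : Q ≤ Subgroup.normalizer (H : Set G))
    (hQc : (Nat.card Q).Coprime (Nat.card H)) :
    (Nat.card (⁅H, Q⁆ : Subgroup G)).Coprime (Nat.card (H ⊓ Subgroup.centralizer (Q : Set G) : Subgroup G)) := by
  have hsolv : Group.IsSolvable H := inferInstance
  have hcyc : ∀ (p : ℕ) [Fact p.Prime] (P : Sylow p H), IsCyclic (P : Subgroup H) :=
    fun p _ P => inferInstance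
  set C := H ⊓ Subgroup.centralizer (Q : Set G) with hC
  set K := ⁅H, Q⁆ with hK
  have hKH : K ≤ H := Lib.Coprime.commutator_le_of_le_normalizer hQ
  -- the primes of `C` do not divide the order of `K`
  have hKC : (Nat.card K).Coprime (Nat.card C) := by
    refine Nat.coprime_of_dvd fun p hp hpK hpC => ?_
    haveI := Fact.mk hp
    let U0 : Sylow p C := default
    set U := (U0 : Subgroup C).map C.subtype with hU
    have hUC : U ≤ C := Subgroup.map_subtype_le _
    have hUQ : Q ≤ Subgroup.centralizer (U : Set G) := by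
      rw [Subgroup.le_centralizer_iff]
      exact hUC.trans inf_le_right
    obtain ⟨P, hUP, hQP⟩ := Lib.Coprime.exists_invariant_sylow_ge hQ hQc (Or.inr hsolv) p U
      (hUC.trans inf_le_left) (U0.2.map _) (hUQ.trans (Subgroup.centralizer_le_normalizer _))
    haveI := hcyc p P
    set P0 := (P : Subgroup H).map H.subtype with hP0
    haveI : IsCyclic P0 := isCyclic_of_surjective _
      ((P : Subgroup H).equivMapOfInjective H.subtype H.subtype_injective).surjective
    obtain ⟨u, huU, hu1⟩ := (Subgroup.bot_or_exists_ne_one U).resolve_left fun h0 => by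
      rw [hU, Subgroup.map_eq_bot_iff_of_injective _ C.subtype_injective] at h0
      exact U0.ne_bot_of_dvd_card hpC h0
    have hcP : (Nat.card P0).Coprime (Nat.card Q) :=
      (hQc.coprime_dvd_right (Subgroup.card_dvd_of_le (Subgroup.map_subtype_le _))).symm
    have hQP0 : Q ≤ Subgroup.centralizer (P0 : Set G) :=
      centralizes_of_fixed (P.2.map _) hQP hcP (hUP huU) hu1
        (fun q hq => (hUQ hq u huU).symm)
    have hcop : ∀ Z : Subgroup G, K ≤ Z → Z ≤ H → Q ≤ Subgroup.normalizer (Z : Set G) →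
        P0 ≤ Z → Cfsg.HasNormalPComplement p Z → False := by
      intro Z hKZ hZH hQZ hPZ hnpc
      obtain ⟨PZ, hPZ'⟩ := ((P.2.map H.subtype).of_equiv (Subgroup.subgroupOfEquivOfLe hPZ).symm).exists_le_sylow
      have hmax : (PZ : Subgroup Z).map Z.subtype = P0 := by
        refine le_antisymm ?_ fun x hx => ⟨⟨x, hPZ hx⟩, hPZ' hx, rfl⟩
        have h1 : ((PZ : Subgroup Z).map Z.subtype).subgroupOf H = (P : Subgroup H) :=
          P.3 ((PZ.2.map _).comap_of_injective H.subtype H.subtype_injective)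
            (fun y hy => ⟨⟨y, hPZ ⟨y, hy, rfl⟩⟩, hPZ' ⟨y, hy, rfl⟩, rfl⟩)
        intro x hx
        have hxH : x ∈ H := hZH (Subgroup.map_subtype_le _ hx)
        exact ⟨⟨x, hxH⟩, h1.le hx, rfl⟩
      have hc := coprime_commutator hQZ hnpc PZ hmax hQP0
      have heq : K = ⁅K, Q⁆ := (Lib.Coprime.commutator_commutator_eq hQ hQc (Or.inr hsolv)).symm
      have hKle : K ≤ ⁅Z, Q⁆ := heq.le.trans (Subgroup.commutator_mono hKZ le_rfl)
      exact hp.not_dvd_one (hc.gcd_eq_one ▸ Nat.dvd_gcd (hpK.trans (Subgroup.card_dvd_of_le hKle)) dvd_rfl)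
    rcases Sylow.normalizer_le_centralizer_or_le_commutator P with hb | hb
    · exact hcop H hKH le_rfl hQ (Subgroup.map_subtype_le _)
        (Lib.Transfer.hasNormalPComplement_of_normalizer_le_centralizer P hb)
    -- now the Sylow subgroup is normal
    haveI := IsZGroup.isCyclic_commutator (G := H)
    have hPn : ∀ h : H, ∀ x ∈ (P : Subgroup H), h * x * h⁻¹ ∈ (P : Subgroup H) := by
      intro h x hx
      set P' := (P : Subgroup H).map (MulAut.conj h).toMonoidHom with hP'
      have hP'le : P' ≤ commutator H := by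
        rintro _ ⟨y, hy, rfl⟩
        exact (inferInstance : (commutator H).Normal).conj_mem y (hb hy) h
      have hcomm : ∀ a ∈ commutator H, ∀ b ∈ commutator H, a * b = b * a := fun a ha b hb' =>
        congrArg Subtype.val (mul_comm' (⟨a, ha⟩ : commutator H) ⟨b, hb'⟩)
      have hsp : IsPGroup p ((P : Subgroup H) ⊔ P' : Subgroup H) :=
        IsPGroup.to_sup_of_normal_right' P.2 (P.2.map _) (fun a ha =>
          Subgroup.centralizer_le_normalizer _ fun b hb' =>
            hcomm b (hP'le hb') a (hb ha))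
      have := P.3 hsp le_sup_left
      exact this.le (Subgroup.mem_sup_right ⟨x, hx, rfl⟩)
    set Z := H ⊓ Subgroup.centralizer (P0 : Set G) with hZdef
    have hP0n : H ≤ Subgroup.normalizer (P0 : Set G) := by
      intro h hh
      rw [Subgroup.mem_normalizer_iff]
      intro x
      constructor
      · rintro ⟨y, hy, rfl⟩
        exact ⟨_, hPn ⟨h, hh⟩ y hy, rfl⟩
      · rintro ⟨y, hy, he⟩
        refine ⟨_, hPn ⟨h, hh⟩⁻¹ y hy, ?_⟩
        simp only [Subgroup.coe_subtype] at he ⊢
        push_cast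
        rw [he]; group
    have hKZ : K ≤ Z := by
      refine le_inf hKH (Subgroup.commutator_eq_bot_iff_le_centralizer.mp ?_)
      refine Subgroup.commutator_commutator_eq_bot_of_rotate ?_ ?_
      · rw [Subgroup.commutator_eq_bot_iff_le_centralizer.mpr hQP0, Subgroup.commutator_bot_left]
      · refine le_bot_iff.mp ((Subgroup.commutator_mono (?_ : ⁅P0, H⁆ ≤ P0) le_rfl).trans ?_)
        · exact Subgroup.le_normalizer_iff_commutator_le_left.mp hP0n
        · exact (Subgroup.commutator_eq_bot_iff_le_centralizer.mpr (Subgroup.le_centralizer_iff.mp hQP0)).le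
    have hPab : P0 ≤ Subgroup.centralizer (P0 : Set G) := fun a ha b hb' =>
      congrArg Subtype.val (mul_comm' (⟨b, hb'⟩ : P0) ⟨a, ha⟩)
    have hQZ : Q ≤ Subgroup.normalizer (Z : Set G) :=
      le_trans (le_inf hQ ((hQP0.trans (Subgroup.centralizer_le_normalizer _)).trans
        (by
          intro y hy
          rw [Subgroup.mem_normalizer_iff]
          intro c
          simp only [Subgroup.mem_centralizer_iff]
          constructor
          · intro hc b hb'
            have hb'' : y⁻¹ * b * y ∈ P0 := by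
              have := (Subgroup.mem_normalizer_iff''.mp hy b).mp hb'; simpa using this
            have := hc _ hb''
            calc b * (y * c * y⁻¹) = y * (y⁻¹ * b * y * c) * y⁻¹ := by group
              _ = y * (c * (y⁻¹ * b * y)) * y⁻¹ := by rw [this]
              _ = y * c * y⁻¹ * b := by group
          · intro hc b hb'
            have hb'' : y * b * y⁻¹ ∈ P0 := (Subgroup.mem_normalizer_iff.mp hy b).mp hb'
            have := hc _ hb''
            calc b * c = y⁻¹ * (y * b * y⁻¹ * (y * c * y⁻¹)) * y := by group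
              _ = y⁻¹ * (y * c * y⁻¹ * (y * b * y⁻¹)) * y := by rw [this]
              _ = c * b := by group))) Subgroup.inf_normalizer_le_normalizer_inf
    refine hcop Z hKZ inf_le_left hQZ (le_inf (Subgroup.map_subtype_le _) hPab) ?_
    obtain ⟨PZ, hPZ'⟩ := ((P.2.map H.subtype).of_equiv (Subgroup.subgroupOfEquivOfLe
      (le_inf (Subgroup.map_subtype_le _) hPab : P0 ≤ Z)).symm).exists_le_sylow
    refine Lib.Transfer.hasNormalPComplement_of_normalizer_le_centralizer PZ fun z _ a ha => ?_
    have hmem : (a : G) ∈ P0 := by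
      have h1 : ((PZ : Subgroup Z).map Z.subtype).subgroupOf H = (P : Subgroup H) :=
        P.3 ((PZ.2.map _).comap_of_injective H.subtype H.subtype_injective)
          (fun y hy => ⟨⟨y, le_inf (Subgroup.map_subtype_le _) hPab ⟨y, hy, rfl⟩⟩, hPZ' ⟨y, hy, rfl⟩, rfl⟩)
      exact ⟨⟨a, a.2.1⟩, h1.le ⟨a, ha, rfl⟩, rfl⟩
    exact Subtype.ext (z.2.2 _ hmem)
  exact hKC

/-- The commutator of such an action is cyclic. -/
theorem isCyclic_commutator_action {G : Type u} [Group G] [Finite G] {H Q : Subgroup G}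
    [hZ : IsZGroup H] (hQ : Q ≤ Subgroup.normalizer (H : Set G)) : IsCyclic (⁅H, Q⁆ : Subgroup G) := by
  have hKH : ⁅H, Q⁆ ≤ H := Lib.Coprime.commutator_le_of_le_normalizer hQ
  set D := ⁅H, H⁆ with hD
  haveI hDc : IsCyclic D := by
    haveI := IsZGroup.isCyclic_commutator (G := H)
    have h := Subgroup.map_subtype_commutator H
    exact isCyclic_of_surjective _ (((commutator H).equivMapOfInjective H.subtype H.subtype_injective).trans
      (MulEquiv.subgroupCongr h)).surjective
  have hHD : H ≤ Subgroup.normalizer (D : Set G) := Subgroup.normalizer_commutator_ge_left H H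
  have hND : Subgroup.normalizer (H : Set G) ≤ Subgroup.normalizer (D : Set G) := by
    intro y hy
    rw [Subgroup.mem_normalizer_iff_map_conj_eq, hD, Subgroup.map_commutator,
      Subgroup.mem_normalizer_iff_map_conj_eq.mp hy]
  -- commutators centralise the cyclic group `D`
  have hcent : ⁅H, Q⁆ ≤ Subgroup.centralizer (D : Set G) := by
    rw [Subgroup.commutator_le]
    intro h hh q hq
    let c := Subgroup.normalizerMonoidHom D
    have hker : c (⁅(⟨h, hHD hh⟩ : Subgroup.normalizer (D : Set G)), ⟨q, hND (hQ hq)⟩⁆) = 1 := by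
      rw [map_commutatorElement]
      refine commutatorElement_eq_one_iff_commute.mpr ?_
      refine (IsCyclic.mulAutMulEquiv D).injective ?_
      rw [map_mul, map_mul]
      exact mul_comm _ _
    rw [Subgroup.mem_centralizer_iff]
    intro d hd
    have h1 := congrArg (fun f : MulAut D => (f ⟨d, hd⟩ : G)) hker
    have h2 : ⁅h, q⁆ * d * ⁅h, q⁆⁻¹ = d := h1
    exact (mul_inv_eq_iff_eq_mul.mp h2).symm
  haveI : IsZGroup (⁅H, Q⁆ : Subgroup G) :=
    IsZGroup.of_injective (f := Subgroup.inclusion hKH) (Subgroup.inclusion_injective hKH)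
  haveI : Group.IsNilpotent (⁅H, Q⁆ : Subgroup G) := by
    refine isNilpotent_of_ker_le_center ((Abelianization.of).comp (Subgroup.inclusion hKH)) fun x hx => ?_
    rw [Subgroup.mem_center_iff]
    intro y
    have hxD : (x : G) ∈ D := by
      have h1 : Subgroup.inclusion hKH x ∈ commutator H := by
        rw [← Abelianization.ker_of]; exact hx
      rw [hD, ← Subgroup.map_subtype_commutator]
      exact ⟨_, h1, rfl⟩
    exact Subtype.ext ((hcent y.2 x hxD).symm)
  infer_instance

/-- Let A be a finite group acting on the finite group G by automorphisms with the orders of A and G coprime, and suppose every Sylow subgroup of G is cyclic. Then the fixed-point subgroup C_G(A) is a Hall subgroup of G (its order is coprime to its index), the subgroup [G, A] generated by the elements g⁻¹·a(g) is cyclic and normal with [G, A] ∩ C_G(A) = 1 and [G, A]·C_G(A) = G. -/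
theorem result {G A : Type*} [Group G] [Finite G] [Group A] [Finite A]
    [MulDistribMulAction A G] (hcop : (Nat.card A).Coprime (Nat.card G))
    (hcyc : ∀ (p : ℕ) [Fact p.Prime] (P : Sylow p G), IsCyclic (P : Subgroup G)) :
    (Nat.card (MulAction.fixedPoints A G : Set G)).Coprime (Nat.card G / Nat.card (MulAction.fixedPoints A G : Set G)) ∧
    IsCyclic (Subgroup.closure {y : G | ∃ (a : A) (g : G), y = g⁻¹ * a • g}) ∧
    (Subgroup.closure {y : G | ∃ (a : A) (g : G), y = g⁻¹ * a • g}).Normal ∧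
    (Subgroup.closure {y : G | ∃ (a : A) (g : G), y = g⁻¹ * a • g} : Set G) ∩ MulAction.fixedPoints A G = {1} ∧
    Subgroup.closure {y : G | ∃ (a : A) (g : G), y = g⁻¹ * a • g} ⊔ Subgroup.closure (MulAction.fixedPoints A G) = ⊤ := by

  haveI hZG : IsZGroup G := ⟨fun p hp P => @hcyc p ⟨hp⟩ P⟩
  set φ : A →* MulAut G := MulDistribMulAction.toMulAut A G
  haveI : Finite (G ⋊[φ] A) := Lib.Coprime.finite_semidirect φ
  set H := (SemidirectProduct.inl : G →* G ⋊[φ] A).range
  set Q := (SemidirectProduct.inr : A →* G ⋊[φ] A).range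
  have hinj := (SemidirectProduct.inl_injective (φ := φ))
  haveI : IsZGroup H := IsZGroup.of_surjective (f := (SemidirectProduct.inl : G →* G ⋊[φ] A).rangeRestrict)
    (MonoidHom.rangeRestrict_surjective _)
  have hQ : Q ≤ Subgroup.normalizer (H : Set (G ⋊[φ] A)) := Lib.Coprime.inr_range_le_normalizer φ
  have hQc : (Nat.card Q).Coprime (Nat.card H) := Lib.Coprime.coprime_ranges φ hcop
  set T := {y : G | ∃ (a : A) (g : G), y = g⁻¹ * a • g}
  set K0 := Subgroup.closure T
  have hcomm : ∀ (a : A) (g : G), (⁅SemidirectProduct.inl g⁻¹, SemidirectProduct.inr a⁆ : G ⋊[φ] A) =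
      SemidirectProduct.inl (g⁻¹ * a • g) := fun a g => by
    rw [commutatorElement_def, map_inv, inv_inv, map_mul, map_inv, show a • g = φ a g from rfl,
      SemidirectProduct.inl_aut, map_inv]
    group
  have hK0 : K0.map SemidirectProduct.inl = ⁅H, Q⁆ := by
    refine le_antisymm ?_ (Subgroup.commutator_le.mpr ?_)
    · rw [MonoidHom.map_closure, Subgroup.closure_le]
      rintro _ ⟨_, ⟨a, g, rfl⟩, rfl⟩
      rw [← hcomm]
      exact Subgroup.commutator_mem_commutator ⟨g⁻¹, rfl⟩ ⟨a, rfl⟩
    · rintro _ ⟨g, rfl⟩ _ ⟨a, rfl⟩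
      rw [← inv_inv g, hcomm]
      exact Subgroup.mem_map_of_mem _ (Subgroup.subset_closure ⟨a, g⁻¹, rfl⟩)
  set C0 := (Subgroup.centralizer (Q : Set (G ⋊[φ] A))).comap SemidirectProduct.inl
  have hC0 : (C0 : Set G) = MulAction.fixedPoints A G := by
    ext g
    rw [SetLike.mem_coe, Subgroup.mem_comap, Lib.Coprime.inl_mem_centralizer_iff]
    rfl
  have hCmap : C0.map SemidirectProduct.inl = H ⊓ Subgroup.centralizer (Q : Set (G ⋊[φ] A)) := by
    rw [Subgroup.map_comap_eq]
  have hcp := coprime_commutator_centralizer (H := H) hQ hQc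
  rw [← hK0, ← hCmap, Subgroup.card_map_of_injective hinj, Subgroup.card_map_of_injective hinj] at hcp
  have hsolv : Group.IsSolvable Q ∨ Group.IsSolvable H := Or.inr inferInstance
  have htop : K0 ⊔ C0 = ⊤ := by
    apply Subgroup.map_injective hinj
    rw [Subgroup.map_sup, hK0, hCmap, Lib.Coprime.commutator_sup_centralizer_eq hQ hQc hsolv,
      ← MonoidHom.range_eq_map]
  have hnorm : K0.Normal := by
    refine ⟨fun x hx g => ?_⟩
    have h1 : SemidirectProduct.inl g ∈ Subgroup.normalizer ((⁅H, Q⁆ : Subgroup (G ⋊[φ] A)) : Set (G ⋊[φ] A)) :=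
      Subgroup.normalizer_commutator_ge_left H Q ⟨g, rfl⟩
    rw [← hK0] at h1
    obtain ⟨y, hy, hye⟩ := (Subgroup.mem_normalizer_iff.mp h1 _).mp (Subgroup.mem_map_of_mem _ hx)
    rw [← map_inv, ← map_mul, ← map_mul] at hye
    exact hinj hye ▸ hy
  haveI := hnorm
  have hinf : K0 ⊓ C0 = ⊥ := Subgroup.inf_eq_bot_of_coprime hcp
  have hidx : K0.index = Nat.card C0 :=
    ((Subgroup.isComplement'_of_disjoint_and_mul_eq_univ (disjoint_iff.mpr hinf)
      (by rw [← Subgroup.normal_mul, htop, Subgroup.coe_top])).symm).index_eq_card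
  have hcardG : Nat.card G = Nat.card K0 * Nat.card C0 := by rw [← hidx, Subgroup.card_mul_index]
  have hCc : Nat.card (MulAction.fixedPoints A G : Set G) = Nat.card C0 :=
    Nat.card_congr (Equiv.setCongr hC0.symm)
  refine ⟨?_, ?_, hnorm, ?_, ?_⟩
  · rw [hCc, hcardG, Nat.mul_div_cancel _ Nat.card_pos]
    exact hcp.symm
  · haveI := isCyclic_commutator_action (H := H) (Q := Q) hQ
    exact isCyclic_of_surjective _
      (((K0.equivMapOfInjective _ hinj).trans (MulEquiv.subgroupCongr hK0)).symm).surjective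
  · rw [← hC0, ← Subgroup.coe_inf, hinf, Subgroup.coe_bot]
  · rw [← hC0, Subgroup.closure_eq]
    exact htop

end Cfsg.Agent.S4117
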