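import Cfsg.Statements.S4118
import Cfsg.Agent.Lib.Frobenius.TIHall
import Cfsg.Agent.Lib.Frobenius.Zassenhaus.AutSolvable
import Cfsg.Agent.Lib.Coprime.Hall

set_option autoImplicit false
open Cfsg

namespace Cfsg.Agent.S4118

open Lib.Frobenius Lib.Frobenius.Zassenhaus
open scoped commutatorElement

/-- A subgroup acting with constant centralisers on a solvable normal subgroup of coprime order. -/
theorem isFPF_of_centralizers {G : Type*} [Group G] [Finite G] {H O : Subgroup G} [hOn : O.Normal]
    (hOc : (Nat.card O).Coprime (Nat.card H)) (hOs : Group.IsSolvable O)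
    (hC : ∀ h ∈ H, h ≠ 1 → ∀ x ∈ O, h * x = x * h → x ∈ Subgroup.centralizer (H : Set G))
    (hne : ¬ O ≤ Subgroup.centralizer (H : Set G)) : IsFPF H := by
  classical
  set C := Subgroup.centralizer (H : Set G)
  set D : ℕ → Subgroup G := fun k => (derivedSeries O k).map O.subtype
  have hex : ∃ k, D k ≤ C := by
    obtain ⟨n, hn⟩ := hOs
    exact ⟨n, by show (derivedSeries O n).map O.subtype ≤ C; rw [hn, Subgroup.map_bot]; exact bot_le⟩
  obtain ⟨k, hk1, hk2⟩ : ∃ k, ¬ D k ≤ C ∧ D (k + 1) ≤ C := by
    rcases hm : Nat.find hex with _ | k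
    · exfalso
      apply hne
      have h := Nat.find_spec hex
      rw [hm] at h
      have e : D 0 = O := by
        show (derivedSeries O 0).map O.subtype = O
        rw [derivedSeries_zero, ← MonoidHom.range_eq_map, Subgroup.range_subtype]
      rwa [e] at h
    · refine ⟨k, Nat.find_min hex (by omega), ?_⟩
      have h := Nat.find_spec hex
      rwa [hm] at h
  set K := D k with hK
  have hKO : K ≤ O := Subgroup.map_subtype_le _
  haveI hKn : K.Normal := (inferInstance : ((derivedSeries O k).map O.subtype).Normal)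
  have hcomm : ⁅K, K⁆ ≤ C := by
    refine le_trans (le_of_eq ?_) hk2
    show _ = (derivedSeries O (k + 1)).map O.subtype
    rw [derivedSeries_succ, Subgroup.map_commutator]
  set C' := C.subgroupOf K with hC'
  haveI hC'n : C'.Normal := ⟨fun c hc g => by
    rw [hC', Subgroup.mem_subgroupOf] at hc ⊢
    rw [Subgroup.coe_mul, Subgroup.coe_mul, Subgroup.coe_inv,
      show (g : G) * c * (g : G)⁻¹ = ⁅(g : G), (c : G)⁆ * c by rw [commutatorElement_def]; group]
    exact mul_mem (hcomm (Subgroup.commutator_mem_commutator g.2 c.2)) hc⟩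
  haveI : Nontrivial (K ⧸ C') := by
    rw [QuotientGroup.nontrivial_iff]
    intro e
    exact hk1 (Subgroup.subgroupOf_eq_top.mp e)
  have hsolv : Group.IsSolvable (K ⧸ C') := by
    haveI : Group.IsSolvable K := Lib.Coprime.isSolvable_of_le hKO hOs
    exact inferInstance
  have hmap : ∀ a : H, C'.map (MulAut.conjNormal (a : G) : MulAut K).toMonoidHom = C' := by
    intro a
    have hfix : ∀ c : K, c ∈ C' → MulAut.conjNormal (a : G) c = c := fun c hc => Subtype.ext (by
      rw [MulAut.conjNormal_apply, (Subgroup.mem_subgroupOf.mp hc) (a : G) a.2, mul_inv_cancel_right])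
    ext c
    constructor
    · rintro ⟨d, hd, rfl⟩
      exact (hfix d hd).symm ▸ hd
    · exact fun hc => ⟨c, hc, hfix c hc⟩
  let φ : H →* MulAut (K ⧸ C') :=
    { toFun := fun a => QuotientGroup.congr C' C' (MulAut.conjNormal (a : G)) (hmap a)
      map_one' := by
        apply MulEquiv.ext
        intro q
        induction q using QuotientGroup.induction_on with
        | H x => simp
      map_mul' := fun a b => by
        apply MulEquiv.ext
        intro q
        induction q using QuotientGroup.induction_on with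
        | H x =>
          show (QuotientGroup.mk (MulAut.conjNormal ((a * b : H) : G) x) : K ⧸ C') =
            QuotientGroup.mk (MulAut.conjNormal (a : G) (MulAut.conjNormal (b : G) x))
          rw [Subgroup.coe_mul, map_mul, MulAut.mul_apply] }
  refine IsFPF.of_mulAut φ (fun a ha q => ?_) hsolv
  induction q using QuotientGroup.induction_on with
  | H x => ?_
  intro hq
  have hq' : (QuotientGroup.mk (MulAut.conjNormal (a : G) x) : K ⧸ C') = QuotientGroup.mk x := hq
  rw [QuotientGroup.eq, Subgroup.mem_subgroupOf, Subgroup.coe_mul, Subgroup.coe_inv,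
    MulAut.conjNormal_apply] at hq'
  set h : G := (a : G)
  set c : G := ((h * x * h⁻¹)⁻¹ * x)⁻¹ with hc
  have hcC : c ∈ C := inv_mem hq'
  have hcO : c ∈ O := inv_mem (mul_mem (inv_mem (hOn.conj_mem _ (hKO x.2) h)) (hKO x.2))
  have h1 : h * x * h⁻¹ = x * c := by rw [hc]; group
  have hn : ∀ n : ℕ, h ^ n * x * (h ^ n)⁻¹ = x * c ^ n := by
    intro n
    induction n with
    | zero => simp
    | succ n ih =>
      have hcc : h * c ^ n * h⁻¹ = c ^ n := by
        rw [(pow_mem hcC n : c ^ n ∈ C) h a.2, mul_inv_cancel_right]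
      calc h ^ (n + 1) * x * (h ^ (n + 1))⁻¹ = h * (h ^ n * x * (h ^ n)⁻¹) * h⁻¹ := by
            rw [pow_succ']; group
        _ = (h * x * h⁻¹) * (h * c ^ n * h⁻¹) := by rw [ih]; group
        _ = x * c ^ (n + 1) := by rw [h1, hcc, mul_assoc, pow_succ']
  have hc1 : c = 1 := by
    apply orderOf_eq_one_iff.mp
    refine Nat.eq_one_of_dvd_coprimes hOc (Subgroup.orderOf_dvd_natCard O hcO) ?_
    refine (orderOf_dvd_of_pow_eq_one ?_).trans (Subgroup.orderOf_dvd_natCard H a.2)
    have := hn (orderOf h)
    rw [pow_orderOf_eq_one, one_mul, inv_one, mul_one] at this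
    exact mul_left_cancel (a := (x : G)) (by rw [mul_one]; exact this.symm)
  rw [hc1, mul_one, mul_inv_eq_iff_eq_mul] at h1
  exact (QuotientGroup.eq_one_iff x).mpr
    (hC h a.2 (fun e => ha (Subtype.ext e)) x (hKO x.2) h1)

/-- A group with a normal Hall subgroup having solvable automorphism group, and no normal subgroup
of coprime order, is solvable. -/
theorem isSolvable_of_hall {G : Type*} [Group G] [Finite G] (H : Subgroup G) [H.Normal]
    (hHall : (Nat.card H).Coprime H.index) (hH : Group.IsSolvable H) (hA : Group.IsSolvable (MulAut H))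
    (hcore : ∀ K : Subgroup G, K.Normal → (Nat.card K).Coprime (Nat.card H) → K = ⊥) :
    Group.IsSolvable G := by
  set C := Subgroup.centralizer (H : Set G)
  set Z := H.subgroupOf C
  haveI : Z.Normal := inferInstance
  have hZH : Nat.card Z ∣ Nat.card H := by
    rw [← Subgroup.card_map_of_injective C.subtype_injective]
    exact Subgroup.card_dvd_of_le (by rw [Subgroup.subgroupOf_map_subtype]; exact inf_le_left)
  have hZi : Z.index ∣ H.index := by
    show H.relIndex C ∣ _
    exact Subgroup.relIndex_dvd_index_of_normal H C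
  obtain ⟨K, hK⟩ := Subgroup.exists_right_complement'_of_coprime (N := Z)
    (Nat.Coprime.coprime_dvd_left hZH (hHall.coprime_dvd_right hZi))
  have hKc : (Nat.card K).Coprime (Nat.card H) := by
    rw [← hK.symm.index_eq_card]
    exact (hHall.coprime_dvd_right hZi).symm
  have hcen : ∀ z : C, z ∈ Z → ∀ w : C, Commute z w := fun z hz w => Subtype.ext (w.2 z hz)
  set K' := K.map C.subtype
  have hK'n : K'.Normal := by
    refine ⟨fun m hm g => ?_⟩
    obtain ⟨k, hk, rfl⟩ := hm
    have hCn : C.Normal := inferInstance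
    set w : C := ⟨g * (k : G) * g⁻¹, hCn.conj_mem _ k.2 g⟩
    obtain ⟨⟨z, k'⟩, hzk⟩ := hK.2 w
    have hz1 : (z : C) = 1 := by
      apply orderOf_eq_one_iff.mp
      refine Nat.eq_one_of_dvd_coprimes hKc (orderOf_dvd_of_pow_eq_one ?_)
        ((Subgroup.orderOf_dvd_natCard Z z.2).trans hZH)
      have h1 : w ^ Nat.card K = 1 := Subtype.ext (by
        show (g * (k : G) * g⁻¹) ^ Nat.card K = 1
        rw [conj_pow, ← SubmonoidClass.coe_pow,
          orderOf_dvd_iff_pow_eq_one.mp (Subgroup.orderOf_dvd_natCard K hk), Subgroup.coe_one, mul_one,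
          mul_inv_cancel])
      rw [← hzk, (hcen z z.2 k').mul_pow,
        orderOf_dvd_iff_pow_eq_one.mp (Subgroup.orderOf_dvd_natCard K k'.2), mul_one] at h1
      exact h1
    refine ⟨k', k'.2, ?_⟩
    have := congrArg Subtype.val hzk
    simp only [Subgroup.coe_mul, hz1, Subgroup.coe_one, one_mul] at this
    exact this
  have hK1 : K = ⊥ := by
    rw [← Subgroup.map_eq_bot_iff_of_injective K C.subtype_injective]
    refine hcore K' hK'n ?_
    rwa [Subgroup.card_map_of_injective C.subtype_injective]
  have hCH : C ≤ H := by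
    have hZ : Z = ⊤ := by
      rw [hK1, Subgroup.isComplement'_bot_right] at hK
      exact hK
    exact Subgroup.subgroupOf_eq_top.mp hZ
  haveI := hH
  haveI := hA
  refine Group.isSolvable_of_ker_le_range H.subtype (MulAut.conjNormal : G →* MulAut H) ?_
  rw [Subgroup.range_subtype]
  intro g hg
  apply hCH
  intro x hx
  have h1 := congrArg (fun τ : MulAut H => ((τ ⟨x, hx⟩ : H) : G)) (MonoidHom.mem_ker.mp hg)
  rw [MulAut.conjNormal_apply] at h1
  exact (mul_inv_eq_iff_eq_mul.mp h1).symm

/-- Let G be a finite group and H a non-normal subgroup meeting each of its conjugates by elements outside N_G(H) trivially, with the order of H coprime to its index in N_G(H); let π be the set of primes dividing the order of H and suppose G is π-separable (it has a chain of normal subgroups from 1 to G each of whose factors has order divisible only by primes in π or coprime to the order of H). Let O be the largest normal subgroup of G of order coprime to the order of H. Then G = O·N_G(H), O·H is normal in G, and G is solvable if and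 only if O is solvable and H has no subgroup isomorphic to SL₂(5). -/
theorem result {G : Type*} [Group G] [Finite G] (H : Subgroup G)
    (hTI : Cfsg.IsTISubset (H : Set G)) (hnn : ¬ H.Normal)
    (hHall : (Nat.card H).Coprime (H.subgroupOf (Subgroup.normalizer (H : Set G))).index)
    (hsep : ∃ (n : ℕ) (M : Fin (n + 1) → Subgroup G), M 0 = ⊥ ∧ M (Fin.last n) = ⊤ ∧ Monotone M ∧ (∀ i, (M i).Normal) ∧
      ∀ i : Fin n, (∀ q : ℕ, q.Prime → q ∣ (M i.castSucc).relIndex (M i.succ) → q ∣ Nat.card H) ∨
        ((M i.castSucc).relIndex (M i.succ)).Coprime (Nat.card H))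
    (O : Subgroup G) (hO : O = sSup {K : Subgroup G | K.Normal ∧ (Nat.card K).Coprime (Nat.card H)}) :
    O ⊔ Subgroup.normalizer (H : Set G) = ⊤ ∧ (O ⊔ H).Normal ∧
    (Group.IsSolvable G ↔ Group.IsSolvable O ∧
      ∀ K : Subgroup G, K ≤ H → ¬ Nonempty (K ≃* Matrix.SpecialLinearGroup (Fin 2) (ZMod 5))) := by

  have hH : H ≠ ⊥ := by rintro rfl; exact hnn inferInstance
  have hHG := coprime_index_of_tiSubgroup hTI hHall
  obtain ⟨hOn, hOc⟩ := normal_coprime_core hO
  haveI := hOn
  have h1 : O ⊔ Subgroup.normalizer (H : Set G) = ⊤ := sup_normalizer_eq_top hTI hH hHG hsep hO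
  have h2 : (O ⊔ H).Normal := by
    refine Subgroup.normalizer_eq_top_iff.mp (top_le_iff.mp (h1 ▸ sup_le ?_ ?_))
    · exact (le_sup_left : O ≤ O ⊔ H).trans Subgroup.le_normalizer
    · exact Lib.Coprime.le_normalizer_sup (by rw [O.normalizer_eq_top]; exact le_top) le_rfl
  refine ⟨h1, h2, fun hs => ?_, fun hh => ?_⟩
  · haveI := hs
    refine ⟨inferInstance, ?_⟩
    rintro K - ⟨e⟩
    haveI : Group.IsSolvable (Matrix.SpecialLinearGroup (Fin 2) (ZMod 5)) :=
      Group.isSolvable_of_surjective (f := e.toMonoidHom) e.surjective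
    exact (ico_sl25).not_isSolvable inferInstance
  obtain ⟨hOs, hK⟩ := hh
  have hC : ∀ h ∈ H, h ≠ 1 → ∀ x ∈ O, h * x = x * h → x ∈ Subgroup.centralizer (H : Set G) := by
    intro h hh h1' x hx hxh
    have hxN : x ∈ Subgroup.normalizer (H : Set G) :=
      centralizer_le_of_tiSubgroup hTI hh h1' (Subgroup.mem_centralizer_singleton_iff.mpr hxh.symm)
    intro y hy
    have hyH : x * y * x⁻¹ ∈ H := (Subgroup.mem_normalizer_iff.mp hxN y).mp hy
    have he : x * y * x⁻¹ * y⁻¹ = 1 :=
      Lib.Coprime.eq_one_of_mem_of_mem hOc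
        (by
          rw [show x * y * x⁻¹ * y⁻¹ = x * (y * x⁻¹ * y⁻¹) by group]
          exact mul_mem hx (hOn.conj_mem _ (inv_mem hx) y))
        (mul_mem hyH (inv_mem hy))
    rw [mul_inv_eq_one, mul_inv_eq_iff_eq_mul] at he
    exact he.symm
  have hne : ¬ O ≤ Subgroup.centralizer (H : Set G) := fun h => hnn <| by
    refine Subgroup.normalizer_eq_top_iff.mp (top_le_iff.mp (h1 ▸ sup_le (h.trans ?_) le_rfl))
    exact Subgroup.centralizer_le_normalizer _
  have hF : IsFPF H := isFPF_of_centralizers hOc hOs hC hne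
  have hHs : Group.IsSolvable H := by
    by_contra hns
    obtain ⟨U, _, _, _, hU, -⟩ := hF.nonsolvable hns
    obtain ⟨e⟩ := ico_mulEquiv_sl25 hU
    exact hK (U.map H.subtype) (Subgroup.map_subtype_le U)
      ⟨(U.equivMapOfInjective H.subtype H.subtype_injective).symm.trans e⟩
  set π := QuotientGroup.mk' O with hπ
  set Hb := H.map π with hHb
  have hsup : Hb = (O ⊔ H).map π := by
    rw [Subgroup.map_sup, show O.map π = ⊥ from (Subgroup.map_eq_bot_iff O).mpr (QuotientGroup.ker_mk' O).ge,
      bot_sup_eq]
  haveI : Hb.Normal := hsup ▸ h2.map π (QuotientGroup.mk'_surjective O)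
  let j : H →* Hb := π.subgroupMap H
  have hj : Function.Bijective j := by
    refine ⟨?_, π.subgroupMap_surjective H⟩
    rw [injective_iff_map_eq_one]
    intro x hx
    exact Subtype.ext (Lib.Coprime.eq_one_of_mem_of_mem hOc
      ((QuotientGroup.eq_one_iff (x : G)).mp (congrArg Subtype.val hx)) x.2)
  set e := MulEquiv.ofBijective j hj
  have hcard : Nat.card Hb = Nat.card H := (Nat.card_congr e.toEquiv).symm
  haveI : Group.IsSolvable (G ⧸ O) := by
    refine isSolvable_of_hall Hb ?_ ?_ ?_ ?_
    · rw [hcard]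
      exact hHG.coprime_dvd_right (Subgroup.index_map_dvd H (QuotientGroup.mk'_surjective O))
    · exact Lib.Coprime.isSolvable_of_injective (f := e.symm.toMonoidHom) e.symm.injective hHs
    · exact Lib.Coprime.isSolvable_of_injective (f := (MulAut.congr e.symm).toMonoidHom)
        (MulAut.congr e.symm).injective (hF.isSolvable_mulAut hHs)
    · intro X hXn hXc
      haveI := hXn
      have hle : X.comap π ≤ O := by
        refine le_of_le_of_eq (le_sSup (show X.comap π ∈ {K : Subgroup G | K.Normal ∧
          (Nat.card K).Coprime (Nat.card H)} from ⟨inferInstance, ?_⟩)) hO.symm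
        rw [Lib.Coprime.card_comap_mk']
        exact hOc.mul_left (hcard ▸ hXc)
      rw [eq_bot_iff, ← Subgroup.map_comap_eq_self_of_surjective (f := π) (QuotientGroup.mk'_surjective O) X,
        ← show O.map π = ⊥ from (Subgroup.map_eq_bot_iff O).mpr (QuotientGroup.ker_mk' O).ge]
      exact Subgroup.map_mono hle
  haveI := hOs
  exact Group.isSolvable_of_ker_le_range O.subtype π (by rw [QuotientGroup.ker_mk', Subgroup.range_subtype])

end Cfsg.Agent.S4118
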