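import Cfsg.Statements.S4125
import Cfsg.Agent.Lib.PowerOrbits.BaerClasses
import Cfsg.Agent.Lib.PowerOrbits.BaerSolvable

set_option autoImplicit false
open Cfsg

namespace Cfsg.Agent.S4125

open Lib.PowerOrbits Lib.PowerOrbits.Baer

/-- The situation in which one prime `q` serves for all classes. -/
theorem same_prime {G : Type*} [Group G] [Finite G] {q : ℕ} [hq : Fact q.Prime] (Q : Sylow q G)
    [hQ : (Q : Subgroup G).Normal]
    (hBaer : ∀ x : G, (∃ k : ℕ, orderOf x = q ^ k) → ∃ (r : ℕ) (a : ℕ), r.Prime ∧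
      (Subgroup.centralizer ({x} : Set G)).index = r ^ a)
    (h : ∀ k : G, (orderOf k).Coprime q → ∀ s ∈ (Q : Subgroup G), Commute k s) :
    (∃ K L : Subgroup G, K.Normal ∧ L.Normal ∧ K ≤ L ∧ (Nat.card K).Coprime q ∧
      (∃ m : ℕ, K.relIndex L = q ^ m) ∧ L.index.Coprime q) ∧
    ∃ p : ℕ, p.Prime ∧ (∀ x : G, (∃ k : ℕ, orderOf x = q ^ k) → ∃ a : ℕ,
      (Subgroup.centralizer ({x} : Set G)).index = p ^ a) ∧
      (p = q → (Q : Subgroup G).Normal ∧
        ∃ N : Subgroup G, N.Normal ∧ N.IsComplement' (Q : Subgroup G)) ∧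
      (p ≠ q → IsMulCommutative (Q : Subgroup G) ∧
        (Cfsg.pCore p G ⊔ (Q : Subgroup G)).Normal ∧
        ∀ _h : (Cfsg.pPrimeCore q G).Normal, Group.IsSolvable (G ⧸ Cfsg.pPrimeCore q G)) := by
  obtain ⟨m, hm⟩ := IsPGroup.iff_card.mp Q.isPGroup'
  obtain ⟨N, hNn, hNc, -⟩ := exists_normal_complement Q h
  refine ⟨⟨⊥, (Q : Subgroup G), inferInstance, hQ, bot_le, by simp,
    ⟨m, by rw [Subgroup.relIndex_bot_left, hm]⟩,
    (hq.out.coprime_iff_not_dvd.mpr Q.not_dvd_index).symm⟩,
    q, hq.out, fun x hx => ?_, fun _ => ⟨hQ, N, hNn, hNc⟩, fun h' => absurd rfl h'⟩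
  obtain ⟨r, a, hr, hra⟩ := hBaer x hx
  rcases Nat.eq_zero_or_pos a with rfl | ha
  · exact ⟨0, by rw [hra, pow_zero, pow_zero]⟩
  refine ⟨a, ?_⟩
  by_contra hne
  have hrq : r ≠ q := fun h' => hne (h' ▸ hra)
  haveI := Fact.mk hr
  obtain ⟨P, hP⟩ := exists_sylow_mem hx
  haveI := Sylow.unique_of_normal Q hQ
  have hxQ : x ∈ (Q : Subgroup G) := Subsingleton.elim P Q ▸ hP
  obtain ⟨T⟩ : Nonempty (Sylow r G) := inferInstance
  have hT : (T : Subgroup G) ≤ Subgroup.centralizer ({x} : Set G) := fun t ht => by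
    obtain ⟨j, hj⟩ := exists_orderOf_of_mem T.isPGroup' ht
    exact Subgroup.mem_centralizer_singleton_iff.mpr
      (h t (hj ▸ ((Nat.coprime_primes hr hq.out).mpr hrq).pow_left j) x hxQ).eq
  exact T.not_dvd_index ((dvd_pow_self r ha.ne').trans (hra ▸ Subgroup.index_dvd_of_le hT))

/-- Let G be a finite group and q a prime dividing its order such that every element of q-power order has a conjugacy class of prime-power size. Then G is q-solvable of q-length 1: there are normal subgroups K ≤ L of G with K of order prime to q, L/K a q-group and L of index prime to q. Moreover there is a prime p such that every element of q-power order has a class of p-power size (one prime serving for all of them), and for a Sylow q-subgroup Q: if p = q then Q is normal with a normal complement (a direct factor), while if p ≠ q then Q is abelian, the product of Q with the largest normal p-subgroup O_p(G) is normal in G, and G/O_{q'}(G) is solvable, where O_{q'}(G) is the largest normal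 subgroup of order prime to q. -/
theorem result {G : Type*} [Group G] [Finite G] (q : ℕ) [Fact q.Prime] (hq : q ∣ Nat.card G)
    (hBaer : ∀ x : G, (∃ k : ℕ, orderOf x = q ^ k) → ∃ (r : ℕ) (a : ℕ), r.Prime ∧ (Subgroup.centralizer ({x} : Set G)).index = r ^ a) (Q : Sylow q G) :
    (∃ K L : Subgroup G, K.Normal ∧ L.Normal ∧ K ≤ L ∧ (Nat.card K).Coprime q ∧ (∃ m : ℕ, K.relIndex L = q ^ m) ∧ L.index.Coprime q) ∧
    ∃ p : ℕ, p.Prime ∧ (∀ x : G, (∃ k : ℕ, orderOf x = q ^ k) → ∃ a : ℕ, (Subgroup.centralizer ({x} : Set G)).index = p ^ a) ∧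
      (p = q → (Q : Subgroup G).Normal ∧ ∃ N : Subgroup G, N.Normal ∧ N.IsComplement' (Q : Subgroup G)) ∧
      (p ≠ q → IsMulCommutative (Q : Subgroup G) ∧ (Cfsg.pCore p G ⊔ (Q : Subgroup G)).Normal ∧
        ∀ _h : (Cfsg.pPrimeCore q G).Normal, Group.IsSolvable (G ⧸ Cfsg.pPrimeCore q G)) := by
  classical
  obtain ⟨R, hRn, hRs, hR⟩ := exists_solvable_normal hBaer
  haveI := hRn
  by_cases hI : ∃ x : G, (∃ k : ℕ, orderOf x = q ^ k) ∧
      ∃ a : ℕ, 0 < a ∧ (Subgroup.centralizer ({x} : Set G)).index = q ^ a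
  · -- some class has nontrivial `q`-power size
    obtain ⟨x, hx, a, ha, hxa⟩ := hI
    haveI : (Cfsg.pCore q G).Normal := Cfsg.pCore_normal q G
    have hQS : (Q : Subgroup G) = Cfsg.pCore q G := le_antisymm
      (fun y hy => mem_pCore_of_qType hBaer hx ha hxa (exists_orderOf_of_mem Q.isPGroup' hy))
      (Lib.Cores.pCore_le_sylow Q)
    haveI hQn : (Q : Subgroup G).Normal := hQS ▸ inferInstance
    have hxQ : x ∈ (Q : Subgroup G) := hQS ▸ mem_pCore_of_index_eq hx hxa
    exact same_prime Q hBaer fun k hk s hs => commute_of_qType hBaer Q hxQ ha hxa hk hs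
  push Not at hI
  have hcop : ∀ x : G, (∃ k : ℕ, orderOf x = q ^ k) →
      ¬ q ∣ (Subgroup.centralizer ({x} : Set G)).index := by
    intro x hx hd
    obtain ⟨r, a, hr, hra⟩ := hBaer x hx
    rw [hra] at hd
    rw [← (Nat.prime_dvd_prime_iff_eq Fact.out hr).mp
      ((Fact.out : q.Prime).dvd_of_dvd_pow hd)] at hra hd
    rcases Nat.eq_zero_or_pos a with rfl | ha
    · rw [pow_zero] at hd
      exact (Fact.out : q.Prime).ne_one (Nat.dvd_one.mp hd)
    · exact hI x hx a ha hra
  by_cases hcentral : ∀ x : G, (∃ k : ℕ, orderOf x = q ^ k) →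
      (Subgroup.centralizer ({x} : Set G)).index = 1
  · -- all `q`-elements are central
    have hc : ∀ x : G, (∃ k : ℕ, orderOf x = q ^ k) → ∀ g : G, Commute g x := fun x hx g => by
      have h1 : g ∈ Subgroup.centralizer ({x} : Set G) :=
        Subgroup.index_eq_one.mp (hcentral x hx) ▸ Subgroup.mem_top g
      exact Subgroup.mem_centralizer_singleton_iff.mp h1
    haveI : (Q : Subgroup G).Normal := ⟨fun s hs g => by
      rw [(hc s (exists_orderOf_of_mem Q.isPGroup' hs) g).eq, mul_inv_cancel_right]; exact hs⟩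
    exact same_prime Q hBaer fun k _ s hs => hc s (exists_orderOf_of_mem Q.isPGroup' hs) k
  push Not at hcentral
  obtain ⟨x₀, hx₀, hx₀1⟩ := hcentral
  obtain ⟨p, b, hp, hpb⟩ := hBaer x₀ hx₀
  haveI := Fact.mk hp
  have hb : 0 < b := Nat.pos_of_ne_zero fun h => hx₀1 (by rw [hpb, h, pow_zero])
  have hpq : p ≠ q := fun h => hcop x₀ hx₀ (by rw [hpb, h]; exact dvd_pow_self q hb.ne')
  -- the quotient by `O_{q'}(G)`
  haveI hKn : (Cfsg.pPrimeCore q G).Normal := Cfsg.pPrimeCore_normal q G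
  set π := QuotientGroup.mk' (Cfsg.pPrimeCore q G) with hπ
  have hπs : Function.Surjective π := QuotientGroup.mk'_surjective _
  haveI : (R.map π).Normal := hRn.map π hπs
  haveI : Group.IsSolvable ↥(R.map π) :=
    Group.isSolvable_of_surjective (MonoidHom.subgroupMap_surjective π R)
  have hcore := Lib.Cores.pPrimeCore_quotient_pPrimeCore q G
  set S := Cfsg.pCore q (G ⧸ Cfsg.pPrimeCore q G) with hS
  haveI hSn : S.Normal := Cfsg.pCore_normal q _
  have hbar : ∀ x : G, (∃ k : ℕ, orderOf x = q ^ k) → π x ∈ S ∧ ∀ s ∈ S, Commute s (π x) :=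
    fun x hx => mem_pCore_of_coprime_classes hcore (Subgroup.mem_map_of_mem π (hR x hx))
      fun h => hcop x hx (h.trans (index_centralizer_map_dvd π hπs x))
  have hQbar : (Q : Subgroup G).map π = S := by
    refine le_antisymm ?_ ?_
    · rintro _ ⟨x, hx, rfl⟩
      exact (hbar x (exists_orderOf_of_mem Q.isPGroup' hx)).1
    · exact Lib.Cores.pCore_le_sylow (Q.mapSurjective hπs)
  have hSidx : ¬ q ∣ S.index := by
    rw [← hQbar]
    exact fun h => Q.not_dvd_index (h.trans (Subgroup.index_map_dvd _ hπs))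
  have hSc : ∀ u ∈ S, ∀ v ∈ S, u * v = v * u := by
    intro u hu v hv
    rw [← hQbar] at hv
    obtain ⟨y, hy, rfl⟩ := hv
    exact ((hbar y (exists_orderOf_of_mem Q.isPGroup' hy)).2 u hu).eq
  have hQc : ∀ x ∈ (Q : Subgroup G), ∀ y ∈ (Q : Subgroup G), x * y = y * x := by
    intro x hx y hy
    have h1 : π x * π y = π y * π x :=
      hSc _ (hbar x (exists_orderOf_of_mem Q.isPGroup' hx)).1 _
        (hbar y (exists_orderOf_of_mem Q.isPGroup' hy)).1
    rw [← map_mul, ← map_mul, QuotientGroup.mk'_eq_mk'] at h1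
    obtain ⟨z, hz, he⟩ := h1
    have hzQ : z ∈ (Q : Subgroup G) := by
      rw [show z = (x * y)⁻¹ * (y * x) by rw [← he]; group]
      exact mul_mem (inv_mem (mul_mem hx hy)) (mul_mem hy hx)
    obtain ⟨k, hk⟩ := exists_orderOf_of_mem Q.isPGroup' hzQ
    have h2 : orderOf z = 1 := Nat.eq_one_of_dvd_coprimes
      ((Lib.Cores.pPrimeCore_coprime q G).pow_right k)
      (Subgroup.orderOf_dvd_natCard _ hz) (hk ▸ dvd_rfl)
    rw [orderOf_eq_one_iff] at h2
    rw [← he, h2, mul_one]
  -- one prime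
  have hprime : ∀ x : G, (∃ k : ℕ, orderOf x = q ^ k) →
      ∃ a : ℕ, (Subgroup.centralizer ({x} : Set G)).index = p ^ a := by
    have inQ : ∀ x : G, (∃ k : ℕ, orderOf x = q ^ k) →
        ∃ g : G, g * x * g⁻¹ ∈ (Q : Subgroup G) := by
      intro x hx
      obtain ⟨P, hP⟩ := exists_sylow_mem hx
      obtain ⟨g, hg⟩ := MulAction.exists_smul_eq G P Q
      refine ⟨g, ?_⟩
      rw [← hg, Sylow.coe_subgroup_smul, Subgroup.mem_pointwise_smul_iff_inv_smul_mem]
      simpa [MulAut.smul_def, mul_assoc] using hP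
    intro x hx
    obtain ⟨r, a, hr, hra⟩ := hBaer x hx
    rcases Nat.eq_zero_or_pos a with rfl | ha
    · exact ⟨0, by rw [hra, pow_zero, pow_zero]⟩
    obtain ⟨g, hg⟩ := inQ x hx
    obtain ⟨g₀, hg₀⟩ := inQ x₀ hx₀
    have hrq : r ≠ q := fun h => hcop x hx (by rw [hra, h]; exact dvd_pow_self q ha.ne')
    have := eq_of_commute hBaer (conj_orderOf hx g) (conj_orderOf hx₀ g₀) (hQc _ hg _ hg₀) hr hp
      hrq hpq ha hb (by rw [index_centralizer_conj, hra]) (by rw [index_centralizer_conj, hpb])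
    exact ⟨a, this ▸ hra⟩
  refine ⟨?_, p, hp, hprime, fun h => absurd h hpq, fun _ => ⟨⟨⟨fun a b =>
    Subtype.ext (hQc a a.2 b b.2)⟩⟩, ?_, fun _ => ?_⟩⟩
  · -- the series
    refine ⟨Cfsg.pPrimeCore q G, S.comap π, hKn, inferInstance, ?_,
      Lib.Cores.pPrimeCore_coprime q G, ?_, ?_⟩
    · intro z hz
      rw [Subgroup.mem_comap, hπ, QuotientGroup.mk'_apply, (QuotientGroup.eq_one_iff z).mpr hz]
      exact one_mem S
    · obtain ⟨m, hm⟩ := IsPGroup.iff_card.mp (Lib.Cores.pCore_isPGroup q (G ⧸ Cfsg.pPrimeCore q G))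
      refine ⟨m, ?_⟩
      refine (congrArg (fun K => Subgroup.relIndex K (S.comap π))
        (QuotientGroup.ker_mk' (Cfsg.pPrimeCore q G)).symm).trans ?_
      show π.ker.relIndex (S.comap π) = q ^ m
      rw [← MonoidHom.comap_bot, Subgroup.relIndex_comap,
        Subgroup.map_comap_eq_self_of_surjective hπs, Subgroup.relIndex_bot_left, hm]
    · rw [Subgroup.index_comap_of_surjective _ hπs]
      exact ((Fact.out : q.Prime).coprime_iff_not_dvd.mpr hSidx).symm
  · -- `O_p(G) Q` is normal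
    haveI hNn : (Cfsg.pCore p G).Normal := Cfsg.pCore_normal p G
    set ν := QuotientGroup.mk' (Cfsg.pCore p G) with hν
    have hνs : Function.Surjective ν := QuotientGroup.mk'_surjective _
    have h1 : (Q : Subgroup G).map ν = Cfsg.pCore q (G ⧸ Cfsg.pCore p G) := by
      refine le_antisymm ?_ (Lib.Cores.pCore_le_sylow (Q.mapSurjective hνs))
      rintro _ ⟨x, hx, rfl⟩
      exact mem_pCore_quotient hprime hR (exists_orderOf_of_mem Q.isPGroup' hx)
    haveI : (Cfsg.pCore q (G ⧸ Cfsg.pCore p G)).Normal := Cfsg.pCore_normal q _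
    have h2 : Cfsg.pCore p G ⊔ (Q : Subgroup G) = (Cfsg.pCore q (G ⧸ Cfsg.pCore p G)).comap ν := by
      rw [← h1, Subgroup.comap_map_eq, hν, QuotientGroup.ker_mk', sup_comm]
    rw [h2]
    infer_instance
  · -- solvability
    have hSp : IsPGroup q ↥S := Lib.Cores.pCore_isPGroup q _
    refine isSolvable_of_abelian_sylow (p := p) S hSp hSc hSidx ?_ ?_
    · -- the Sylow subgroup is self-centralizing
      intro g hg hgc
      set D := Subgroup.centralizer (S : Set (G ⧸ Cfsg.pPrimeCore q G)) with hD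
      haveI : D.Normal := inferInstance
      have hSD : S ≤ D := fun s hs => Subgroup.mem_centralizer_iff.mpr fun t ht => hSc t ht s hs
      have hrel : ¬ q ∣ (S.subgroupOf D).index := fun h =>
        hSidx (Subgroup.relIndex_mul_index hSD ▸ h.mul_right _)
      let P : Sylow q ↥D := (hSp.comap_subtype : IsPGroup q ↥(S.subgroupOf D)).toSylow hrel
      have hPS : (P : Subgroup ↥D) = S.subgroupOf D := IsPGroup.toSylow_coe _ _
      haveI : (P : Subgroup ↥D).Normal := hPS ▸ inferInstance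
      obtain ⟨N, hN, hNc, hcN⟩ := exists_normal_complement P fun k _ s hs => Subtype.ext (by
        rw [hPS, Subgroup.mem_subgroupOf] at hs
        exact (Subgroup.mem_centralizer_iff.mp k.2 s hs).symm)
      have hN0 : N = ⊥ := le_bot_iff.mp ((Lib.Cores.le_pPrimeCore hN hcN).trans
        (le_of_eq ((Subgroup.map_eq_bot_iff_of_injective _ D.subtype_injective).mp
          (le_bot_iff.mp (hcore ▸ Lib.Cores.map_subtype_pPrimeCore_le D)))))
      subst hN0
      rw [Subgroup.isComplement'_bot_left, hPS, Subgroup.subgroupOf_eq_top] at hNc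
      have hgS : g ∈ S := hNc (Subgroup.mem_centralizer_iff.mpr fun s hs => (hgc s hs).eq.symm)
      obtain ⟨k, hk⟩ := exists_orderOf_of_mem hSp hgS
      rw [← orderOf_eq_one_iff]
      exact Nat.eq_one_of_dvd_coprimes (hg.pow_right k) dvd_rfl (hk ▸ dvd_rfl)
    · intro v hv
      rw [← hQbar] at hv
      obtain ⟨x, hx, rfl⟩ := hv
      obtain ⟨i, hi⟩ := hprime x (exists_orderOf_of_mem Q.isPGroup' hx)
      exact ⟨i, hi ▸ index_centralizer_map_dvd π hπs x⟩

end Cfsg.Agent.S4125
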