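import Cfsg.Statements.S4126
import Cfsg.Agent.Lib.Involutions.SmallElements
import Cfsg.Agent.Lib.Transfer.Frobenius
import Cfsg.Agent.Lib.Cores
import Cfsg.Agent.Lib.Coprime.Action
import Cfsg.Agent.Lib.InvChar.OddElems

set_option autoImplicit false
open Cfsg

namespace Cfsg.Agent.S4126

open Cfsg.Agent.Lib
open Cfsg.Agent.Lib.Involutions (SmallOrder smallOrder_iff smallOrder_mul smallOrder_conj)

/-- For an element with class of `p`-power size, the group is covered by any Sylow subgroup and the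
centraliser. -/
theorem exists_mul_centralizer {G : Type*} [Group G] [Finite G] {p : ℕ} [hp : Fact p.Prime]
    (P : Sylow p G) {x : G} (h : ∃ a : ℕ, (Subgroup.centralizer ({x} : Set G)).index = p ^ a) (g : G) :
    ∃ s ∈ (P : Subgroup G), g * x * g⁻¹ = s * x * s⁻¹ := by
  obtain ⟨a, ha⟩ := h
  set C := Subgroup.centralizer ({x} : Set G)
  have hle : (P : Subgroup G) ⊓ C ≤ C := inf_le_right
  obtain ⟨b, hb⟩ := IsPGroup.iff_card.mp (P.2.to_le (inf_le_left : (P : Subgroup G) ⊓ C ≤ (P : Subgroup G)))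
  have h1 : C.relIndex (P : Subgroup G) * p ^ b = Nat.card (P : Subgroup G) := by
    rw [← Subgroup.inf_relIndex_left, ← hb, mul_comm]
    exact Coprime.relIndex_mul_card inf_le_left
  have hbC : p ^ b ∣ Nat.card C := hb ▸ Subgroup.card_dvd_of_le hle
  have hcard : Nat.card G = p ^ a * Nat.card C := by rw [← ha, Subgroup.index_mul_card]
  have hab : a + b ≤ (Nat.card G).factorization p := by
    refine (hp.out.pow_dvd_iff_le_factorization Nat.card_pos.ne').mp ?_
    rw [hcard, pow_add]
    exact mul_dvd_mul_left _ hbC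
  have hidx : C.index ≤ C.relIndex (P : Subgroup G) := by
    have h2 : p ^ a * p ^ b ≤ C.relIndex (P : Subgroup G) * p ^ b := by
      rw [h1, P.card_eq_multiplicity, ← pow_add]
      exact Nat.pow_le_pow_right hp.out.pos hab
    rw [ha]
    exact Nat.le_of_mul_le_mul_right h2 (pow_pos hp.out.pos b)
  let f : (P : Subgroup G) ⧸ C.subgroupOf (P : Subgroup G) → G ⧸ C :=
    Quotient.map' (fun s : (P : Subgroup G) => (s : G)) fun u v huv => by
      rw [QuotientGroup.leftRel_apply] at huv ⊢
      exact huv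
  have hinj : Function.Injective f := by
    intro u v
    induction u using QuotientGroup.induction_on with | H u =>
    induction v using QuotientGroup.induction_on with | H v =>
    intro huv
    exact QuotientGroup.eq.mpr (show ((u⁻¹ * v : (P : Subgroup G)) : G) ∈ C from QuotientGroup.eq.mp huv)
  have hbij : Function.Bijective f := (Nat.bijective_iff_injective_and_card f).mpr
    ⟨hinj, le_antisymm (Nat.card_le_card_of_injective f hinj) hidx⟩
  obtain ⟨u, hu⟩ := hbij.2 (g : G ⧸ C)
  obtain ⟨s, rfl⟩ := QuotientGroup.mk_surjective u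
  refine ⟨(s : G), s.2, ?_⟩
  have hmem : (s : G)⁻¹ * g ∈ C := QuotientGroup.eq.mp hu
  rw [Subgroup.mem_centralizer_singleton_iff] at hmem
  calc g * x * g⁻¹ = (s : G) * ((s : G)⁻¹ * g * x) * g⁻¹ := by group
    _ = _ := by rw [hmem]; group

/-- Baer's lemma. -/
theorem mem_pCore {G : Type*} [Group G] [Finite G] {p : ℕ} [hp : Fact p.Prime] {x : G}
    (h : ∃ a : ℕ, (Subgroup.centralizer ({x} : Set G)).index = p ^ a) {k : ℕ} (hx : x ^ p ^ k = 1) :
    x ∈ Cfsg.pCore p G := by
  have hz : IsPGroup p (Subgroup.zpowers x) := by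
    obtain ⟨j, -, hj⟩ := (Nat.dvd_prime_pow hp.out).mp (orderOf_dvd_of_pow_eq_one hx)
    exact IsPGroup.of_card (n := j) (by rw [Nat.card_zpowers, hj])
  obtain ⟨P, hP⟩ := hz.exists_le_sylow
  have hxP := hP (Subgroup.mem_zpowers x)
  have hle : Subgroup.normalClosure ({x} : Set G) ≤ (P : Subgroup G) := by
    refine (Subgroup.closure_le _).mpr fun y hy => ?_
    obtain ⟨z, hz, hzy⟩ := Group.mem_conjugatesOfSet_iff.mp hy
    obtain ⟨g, rfl⟩ := isConj_iff.mp hzy
    obtain rfl := Set.mem_singleton_iff.mp hz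
    obtain ⟨s, hs, he⟩ := exists_mul_centralizer P h g
    rw [he]
    exact mul_mem (mul_mem hs hxP) (inv_mem hs)
  have hle' : Subgroup.normalClosure ({x} : Set G) ≤ Cfsg.pCore p G :=
    le_sSup ⟨inferInstance, P.2.to_le hle⟩
  exact hle' (Subgroup.subset_normalClosure (Set.mem_singleton x))

/-- The elements of order prime to `p` centralise `O_p(G)`. -/
theorem centralizes_pCore {G : Type*} [Group G] [Finite G] {p : ℕ} [hp : Fact p.Prime]
    (h : ∀ x : G, (orderOf x = p ∨ (p = 2 ∧ orderOf x = 4)) → ∃ a : ℕ, (Subgroup.centralizer ({x} : Set G)).index = p ^ a) :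
    ∀ M : Subgroup G, M.Normal → IsPGroup p M → ∀ g : G, Nat.Coprime (orderOf g) p →
      g ∈ Subgroup.centralizer (M : Set G) := by
  intro M
  induction hn : Nat.card M using Nat.strong_induction_on generalizing M with
  | _ n ih =>
  subst hn
  intro hMn hMp
  haveI := hMn
  by_contra hM
  simp only [not_forall, exists_prop] at hM
  obtain ⟨g₀, hg₀, hg₀M⟩ := hM
  have hsub : ∀ L : Subgroup G, L.Normal → L < M → ∀ g : G, Nat.Coprime (orderOf g) p →
      g ∈ Subgroup.centralizer (L : Set G) := fun L hL hlt =>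
    ih _ (Set.Finite.card_lt_card (Set.toFinite _) (SetLike.coe_ssubset_coe.mpr hlt)) L rfl hL (hMp.to_le hlt.le)
  set E := Cfsg.pResidual p G with hE
  have hEle : ∀ L : Subgroup G, L.Normal → L < M → E ≤ Subgroup.centralizer (L : Set G) := fun L hL hlt => by
    rw [hE, Cfsg.pResidual, Subgroup.closure_le]
    exact fun g hg => hsub L hL hlt g hg
  haveI : E.Normal := Transfer.pResidual_normal
  -- no proper normal subgroup contains the commutators
  have hcom : ∀ L : Subgroup G, L.Normal → L < M →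
      (∀ g : G, Nat.Coprime (orderOf g) p → ∀ m ∈ M, g * m * g⁻¹ * m⁻¹ ∈ L) → False := by
    intro L hL hlt htriv
    haveI := hL
    apply hg₀M
    obtain ⟨k, hk⟩ := IsPGroup.iff_card.mp (hMp.to_le hlt.le)
    refine Coprime.le_centralizer_of_stabilizes (A := Subgroup.zpowers g₀) (K := M) (N := L)
      (by rw [L.normalizer_eq_top]; exact le_top) (by rw [L.normalizer_eq_top]; exact le_top) ?_ ?_ ?_
      (Subgroup.mem_zpowers g₀)
    · rw [Nat.card_zpowers, hk]; exact hg₀.pow_right k
    · intro a ha m hm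
      exact htriv a (hg₀.coprime_dvd_left (orderOf_dvd_of_mem_zpowers ha)) m hm
    · exact Subgroup.zpowers_le.mpr (hsub L hL hlt g₀ hg₀)
  -- `[M, E] = M`
  have hME : ⁅M, E⁆ = M := by
    by_contra hne
    refine hcom _ inferInstance (lt_of_le_of_ne (Subgroup.commutator_le_left M E) hne) fun g hg m hm => ?_
    have h1 := inv_mem (Subgroup.commutator_mem_commutator hm (Transfer.mem_pResidual_of_coprime (p := p) hg))
    rwa [commutatorElement_inv, commutatorElement_def] at h1
  -- proper normal subgroups are central in `M`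
  have hcentral : ∀ L : Subgroup G, L.Normal → L < M → M ≤ Subgroup.centralizer (L : Set G) := by
    intro L hL hlt
    haveI := hL
    rw [← hME, ← Subgroup.commutator_eq_bot_iff_le_centralizer]
    have hEL : ⁅E, L⁆ = ⊥ := Subgroup.commutator_eq_bot_iff_le_centralizer.mpr (hEle L hL hlt)
    refine Subgroup.commutator_commutator_eq_bot_of_rotate ?_ ?_
    · rw [hEL, Subgroup.commutator_bot_left]
    · refine le_bot_iff.mp ((Subgroup.commutator_mono (Subgroup.commutator_le_left L M) le_rfl).trans ?_)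
      rw [Subgroup.commutator_comm, hEL]
  haveI hMnt : Nontrivial M := (Subgroup.nontrivial_iff_ne_bot _).mpr fun hb => hg₀M (by
    rw [hb]
    intro y hy
    rw [SetLike.mem_coe, Subgroup.mem_bot] at hy
    simp [hy])
  haveI := hMp.isNilpotent
  set Φ := (frattini M).map M.subtype with hΦ
  haveI hΦn : Φ.Normal := Cores.normal_map_subtype_of_char M (frattini M)
  have hΦlt : Φ < M := by
    refine lt_of_le_of_ne (Subgroup.map_subtype_le _) fun he => Cores.frattini_ne_top (G := M) ?_
    refine eq_top_iff.mpr fun y _ => ?_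
    obtain ⟨z, hz, hzy⟩ := he.ge y.2
    rwa [← Subtype.ext hzy]
  have hΦc : ∀ f ∈ Φ, ∀ m ∈ M, Commute f m := fun f hf m hm => hcentral Φ hΦn hΦlt hm f hf
  -- the elements of small order
  set S := {a : G | a ∈ M ∧ SmallOrder p a}
  let Ω : Subgroup G :=
    { carrier := S
      one_mem' := ⟨M.one_mem, Or.inl (one_pow p)⟩
      mul_mem' := fun {x y} hx hy => ⟨M.mul_mem hx.1 hy.1, by
        have h3 := smallOrder_mul (x := (⟨x, hx.1⟩ : M)) (y := ⟨y, hy.1⟩)
          (fun z => Subtype.ext (hΦc _ (⟨_, Cores.commutator_le_frattini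
            (Subgroup.commutator_mem_commutator (Subgroup.mem_top _) (Subgroup.mem_top _)), rfl⟩) z z.2).eq)
          (Subtype.ext (hΦc _ (⟨(⟨y, hy.1⟩ : M) ^ p, Cores.pow_mem_frattini hMp _, rfl⟩) x hx.1).eq)
          ((smallOrder_iff p _).2 (Subtype.ext ((smallOrder_iff p x).1 hx.2)))
          ((smallOrder_iff p _).2 (Subtype.ext ((smallOrder_iff p y).1 hy.2)))
        exact (smallOrder_iff p _).2 (congrArg Subtype.val ((smallOrder_iff p _).1 h3))⟩
      inv_mem' := fun {x} hx => ⟨M.inv_mem hx.1, by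
        have := hx.2
        rw [smallOrder_iff] at this ⊢
        rw [inv_pow, this, inv_one]⟩ }
  haveI hΩn : Ω.Normal := ⟨fun a ha g => ⟨hMn.conj_mem a ha.1 g, smallOrder_conj g ha.2⟩⟩
  have hΩM : Ω ≤ M := fun a ha => ha.1
  rcases lt_or_eq_of_le hΩM with hΩlt | hΩeq
  · -- all small elements are fixed
    apply hg₀M
    refine Involutions.mem_centralizer_of_smallOrder_series hg₀ (fun i => if i = 0 then ⊥ else Ω) rfl 1 M hMp
      (by rw [M.normalizer_eq_top]; trivial) (fun a ha has => by simpa using (show a ∈ Ω from ⟨ha, has⟩)) ?_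
    intro a _ has i hai
    rcases Nat.eq_zero_or_pos i with rfl | hi
    · have haΩ : a ∈ Ω := by simpa using hai
      have := hsub Ω hΩn hΩlt g₀ hg₀ a haΩ
      simp [← this]
    · simp only [hi.ne', if_false]
      exact mul_mem (hΩn.conj_mem a ⟨by assumption, has⟩ g₀) (inv_mem ⟨by assumption, has⟩)
  · -- a fixed point of a Sylow subgroup in a chief factor
    obtain ⟨L, ⟨hLn, hLlt⟩, hLmax⟩ := Set.Finite.exists_maximal
      (Set.toFinite {L : Subgroup G | L.Normal ∧ L < M})
      ⟨⊥, inferInstance, bot_lt_iff_ne_bot.mpr ((Subgroup.nontrivial_iff_ne_bot _).mp hMnt)⟩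
    haveI := hLn
    obtain ⟨P, hP⟩ := hMp.exists_le_sylow
    set Pb := (P : Subgroup G).map (QuotientGroup.mk' L) with hPb
    set Mb := M.map (QuotientGroup.mk' L) with hMb
    have hMbP : Mb ≤ Pb := Subgroup.map_mono hP
    haveI : Mb.Normal := hMn.map _ (QuotientGroup.mk'_surjective L)
    have hMbne : Mb.subgroupOf Pb ≠ ⊥ := by
      intro hb
      refine hLlt.not_ge fun m hm => (QuotientGroup.eq_one_iff m).mp ?_
      have h1 : (⟨QuotientGroup.mk' L m, hMbP ⟨m, hm, rfl⟩⟩ : Pb) ∈ Mb.subgroupOf Pb := ⟨m, hm, rfl⟩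
      rw [hb, Subgroup.mem_bot] at h1
      exact congrArg Subtype.val h1
    haveI : Group.IsNilpotent Pb := (P.2.map _).isNilpotent
    obtain ⟨z, hz, hz1⟩ := (Subgroup.bot_or_exists_ne_one (Mb.subgroupOf Pb ⊓ Subgroup.center Pb)).resolve_left
      (Solvable.inf_center_ne_bot hMbne)
    obtain ⟨x, hxM, hxz⟩ := hz.1
    have hxL : x ∉ L := fun hxL => hz1 (Subtype.ext (hxz.symm.trans ((QuotientGroup.eq_one_iff x).mpr hxL)))
    have hxs : SmallOrder p x := (hΩeq.ge hxM : x ∈ Ω).2
    have hcl : ∃ a : ℕ, (Subgroup.centralizer ({x} : Set G)).index = p ^ a := by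
      refine h x ?_
      have hx1 : x ≠ 1 := fun e => hxL (e ▸ L.one_mem)
      by_cases hxp : x ^ p = 1
      · exact Or.inl (orderOf_eq_prime hxp hx1)
      · obtain ⟨h2, hx4⟩ := hxs.resolve_left hxp
        subst h2
        exact Or.inr ⟨rfl, orderOf_eq_prime_pow (p := 2) (n := 1) (by rwa [pow_one]) hx4⟩
    have hfix : ∀ g : G, QuotientGroup.mk' L (g * x * g⁻¹) = QuotientGroup.mk' L x := by
      intro g
      obtain ⟨s, hs, he⟩ := exists_mul_centralizer P hcl g
      have hcz := congrArg Subtype.val (Subgroup.mem_center_iff.mp hz.2 ⟨_, ⟨s, hs, rfl⟩⟩)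
      simp only [Subgroup.coe_mul] at hcz
      change QuotientGroup.mk' L x = (z : G ⧸ L) at hxz
      rw [he, map_mul, map_mul, hxz, hcz, mul_assoc, ← map_mul, mul_inv_cancel, map_one, mul_one]
    let B : Subgroup G := (Subgroup.zpowers (QuotientGroup.mk' L x)).comap (QuotientGroup.mk' L)
    have hfix' : ∀ (g b : G), b ∈ B → QuotientGroup.mk' L (g * b * g⁻¹) = QuotientGroup.mk' L b := by
      intro g b hb
      obtain ⟨i, hi⟩ := Subgroup.mem_zpowers_iff.mp hb
      have hgx := hfix g
      rw [map_mul, map_mul, map_inv] at hgx ⊢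
      rw [← hi, ← conj_zpow, hgx]
    haveI hBn : B.Normal := ⟨fun b hb g => by
      show QuotientGroup.mk' L (g * b * g⁻¹) ∈ Subgroup.zpowers (QuotientGroup.mk' L x)
      rw [hfix' g b hb]; exact hb⟩
    have hBM : B ≤ M := by
      intro b hb
      obtain ⟨i, hi⟩ := Subgroup.mem_zpowers_iff.mp hb
      have h1 : (x ^ i)⁻¹ * b ∈ L := by
        rw [← QuotientGroup.eq_one_iff]
        show QuotientGroup.mk' L ((x ^ i)⁻¹ * b) = 1
        rw [map_mul, map_inv, map_zpow, hi, inv_mul_cancel]
      have := mul_mem (zpow_mem hxM i) (hLlt.le h1)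
      rwa [mul_inv_cancel_left] at this
    have hLB : L ≤ B := fun l hl => by
      show QuotientGroup.mk' L l ∈ Subgroup.zpowers (QuotientGroup.mk' L x)
      rw [show QuotientGroup.mk' L l = 1 from (QuotientGroup.eq_one_iff l).mpr hl]
      exact one_mem _
    have hBeq : B = M := by
      by_contra hne
      exact hxL (hLmax ⟨hBn, lt_of_le_of_ne hBM hne⟩ hLB
        (Subgroup.mem_zpowers (QuotientGroup.mk' L x) : x ∈ B))
    refine hcom L hLn hLlt fun g _ m hm => ?_
    rw [← QuotientGroup.eq_one_iff]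
    show QuotientGroup.mk' L (g * m * g⁻¹ * m⁻¹) = 1
    rw [map_mul, hfix' g m (hBeq.ge hm), map_inv, mul_inv_cancel]

/-- Let G be a finite group and p a prime. Suppose every element of order p, and when p = 2 also every element of order 4, has a conjugacy class of p-power size. Then G has a normal p-complement. -/
theorem result {G : Type*} [Group G] [Finite G] (p : ℕ) [Fact p.Prime]
    (h : ∀ x : G, (orderOf x = p ∨ (p = 2 ∧ orderOf x = 4)) → ∃ a : ℕ, (Subgroup.centralizer ({x} : Set G)).index = p ^ a) :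
    Cfsg.HasNormalPComplement p G := by

  refine Lib.Transfer.hasNormalPComplement_of_frobenius default fun Q hQ g hg hgo => ?_
  have hU := centralizes_pCore h (Cfsg.pCore p G) inferInstance (Lib.Cores.pCore_isPGroup p G) g hgo
  refine Lib.Involutions.mem_centralizer_of_smallOrder_series hgo (fun i => if i = 0 then ⊥ else Cfsg.pCore p G)
    rfl 1 Q ((default : Sylow p G).2.to_le hQ) hg ?_ ?_
  · intro a _ has
    simp only [Nat.one_ne_zero, if_false]
    rcases eq_or_ne a 1 with rfl | ha1
    · exact one_mem _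
    by_cases hap : a ^ p = 1
    · exact mem_pCore (h a (Or.inl (orderOf_eq_prime hap ha1))) (k := 1) (by rwa [pow_one])
    · obtain ⟨h2, h4⟩ := has.resolve_left hap
      subst h2
      exact mem_pCore (h a (Or.inr ⟨rfl, orderOf_eq_prime_pow (p := 2) (n := 1) (by rwa [pow_one]) h4⟩)) (k := 2) h4
  · intro a _ _ i hai
    rcases Nat.eq_zero_or_pos i with rfl | hi
    · have := hU a (by simpa using hai)
      simp [← this]
    · simp only [hi.ne', if_false, Nat.succ_ne_zero] at hai ⊢
      exact mul_mem ((inferInstance : (Cfsg.pCore p G).Normal).conj_mem a hai g) (inv_mem hai)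

end Cfsg.Agent.S4126
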