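import Cfsg.Statements.S4130
import Cfsg.Agent.Lib.Frobenius.SquarefreeClasses
import Cfsg.Agent.Lib.PGroups.Subnormal
import Cfsg.Agent.Lib.Cores.Fitting
import Cfsg.Agent.Lib.Solvable.Nilpotent

set_option autoImplicit false
open Cfsg

namespace Cfsg.Agent.S4130

theorem ucs_two {G : Type*} [Group G] {K H : Subgroup G} (hK : commutator G ≤ K)
    (hH : H ≤ Subgroup.centralizer (K : Set G)) :
    Subgroup.upperCentralSeries ↥H 2 = ⊤ := by
  rw [eq_top_iff]
  intro x _
  rw [Subgroup.mem_upperCentralSeries_succ_iff]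
  intro y
  rw [Subgroup.upperCentralSeries_one, Subgroup.mem_center_iff]
  intro z
  apply Subtype.ext
  have hc : (x : G) * y * (x : G)⁻¹ * (y : G)⁻¹ ∈ K := hK <| by
    rw [← commutatorElement_def]
    exact Subgroup.commutator_mem_commutator (Subgroup.mem_top _) (Subgroup.mem_top _)
  exact ((Subgroup.mem_centralizer_iff.mp (hH z.2)) _ hc).symm

theorem conj_pow_cyclic {G : Type*} [Group G] {K : Subgroup G} [K.Normal] (hc : IsCyclic K)
    (g : G) : ∃ m : ℤ, ∀ k ∈ K, g * k * g⁻¹ = k ^ m := by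
  obtain ⟨m, hm⟩ := MonoidHom.map_cyclic ((MulAut.conjNormal g : K ≃* K).toMonoidHom)
  refine ⟨m, fun k hk => ?_⟩
  have := congrArg Subtype.val (hm ⟨k, hk⟩)
  rw [SubgroupClass.coe_zpow] at this
  exact this

theorem cyclic_le_centralizer {G : Type*} [Group G] [Finite G] {K F : Subgroup G} [K.Normal]
    (hKF : K ≤ F) (hF : Group.IsNilpotent F) (hc : IsCyclic K)
    (hsq : Squarefree (Nat.card K)) : F ≤ Subgroup.centralizer (K : Set G) := by
  rw [Subgroup.le_centralizer_iff]
  by_contra hne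
  set M := K ⊓ Subgroup.centralizer (F : Set G)
  have hMK : M ≤ K := inf_le_left
  have hi : M.relIndex K ≠ 1 := by
    rw [Ne, Subgroup.relIndex_eq_one]
    exact fun e => hne (e.trans inf_le_right)
  have hmul : Nat.card M * M.relIndex K = Nat.card K := by
    rw [← Nat.card_congr (Subgroup.subgroupOfEquivOfLe hMK).toEquiv]
    exact (M.subgroupOf K).card_mul_index
  obtain ⟨r, hr, hrd⟩ := Nat.exists_prime_and_dvd hi
  haveI := Fact.mk hr
  have hrM : ¬ r ∣ Nat.card M := fun hd => hr.ne_one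
    (Nat.isUnit_iff.mp (hsq r (hmul ▸ mul_dvd_mul hd hrd)))
  obtain ⟨⟨k, hk⟩, hko⟩ := exists_prime_orderOf_dvd_card' (G := K) r (hmul ▸ Dvd.dvd.mul_left hrd _)
  rw [← Subgroup.orderOf_coe] at hko
  have hn : ((Subgroup.zpowers k).subgroupOf F).Normal := by
    refine ⟨fun x hx g => ?_⟩
    rw [Subgroup.mem_subgroupOf] at hx ⊢
    obtain ⟨m, hm⟩ := conj_pow_cyclic hc (g : G)
    obtain ⟨j, hj⟩ := hx
    refine ⟨j * m, ?_⟩
    have hj' : k ^ j = (x : G) := hj
    show k ^ (j * m) = (g : G) * (x : G) * (g : G)⁻¹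
    rw [← hj', hm _ (K.zpow_mem hk _), zpow_mul]
  have hkF : k ∈ F := hKF hk
  have hb : (Subgroup.zpowers k).subgroupOf F ≠ ⊥ := by
    intro e
    have h1 : (⟨k, hkF⟩ : F) ∈ (Subgroup.zpowers k).subgroupOf F := Subgroup.mem_zpowers k
    rw [e, Subgroup.mem_bot] at h1
    have h2 : k = 1 := congrArg Subtype.val h1
    subst h2
    rw [orderOf_one] at hko
    exact hr.ne_one hko.symm
  obtain ⟨z, ⟨hz, hzc⟩, hz1⟩ := Lib.Frobenius.ClassSizes.exists_ne_one_of_ne_bot _
    (Lib.Solvable.inf_center_ne_bot hb)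
  have hzM : (z : G) ∈ M := by
    refine ⟨?_, fun f hf => ?_⟩
    · obtain ⟨j, hj⟩ := (Subgroup.mem_subgroupOf.mp hz : (z : G) ∈ Subgroup.zpowers k)
      exact (show k ^ j = (z : G) from hj) ▸ K.zpow_mem hk j
    · exact congrArg Subtype.val (Subgroup.mem_center_iff.mp hzc ⟨f, hf⟩)
  apply hrM
  have hord : orderOf (z : G) ∣ r := by
    have h1 := Subgroup.orderOf_dvd_natCard _ (Subgroup.mem_subgroupOf.mp hz)
    rwa [Nat.card_zpowers, hko] at h1
  rcases (Nat.dvd_prime hr).mp hord with e | e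
  · exact absurd (Subtype.ext (orderOf_eq_one_iff.mp e)) hz1
  · exact e ▸ Subgroup.orderOf_dvd_natCard _ hzM

/-- Let G be a finite group all of whose conjugacy class sizes are square-free. Then G is supersolvable, G/F(G) and the derived subgroup G′ are cyclic of square-free order (F(G) the Fitting subgroup, which is normal), F(G) has nilpotency class at most 2, and G is metabelian. -/
theorem result {G : Type*} [Group G] [Finite G]
    (h : ∀ x : G, Squarefree (Subgroup.centralizer ({x} : Set G)).index) :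
    Cfsg.IsSupersolvable G ∧ (Cfsg.fittingSubgroup G).Normal ∧
    (∀ _h : (Cfsg.fittingSubgroup G).Normal, IsCyclic (G ⧸ Cfsg.fittingSubgroup G) ∧ Squarefree (Cfsg.fittingSubgroup G).index) ∧
    IsCyclic (commutator G) ∧ Squarefree (Nat.card (commutator G)) ∧
    Subgroup.upperCentralSeries ↥(Cfsg.fittingSubgroup G) 2 = ⊤ ∧ commutator ↥(commutator G) = ⊥ := by

  have hs := Lib.Frobenius.SquarefreeClasses.isSupersolvable h
  have hsq := Lib.Frobenius.SquarefreeClasses.squarefree_card_commutator h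
  haveI hFn : (Cfsg.fittingSubgroup G).Normal := Lib.PGroups.fitting_normal
  haveI hKn : Group.IsNilpotent (commutator G) := Lib.Solvable.isNilpotent_commutator hs
  haveI : IsZGroup (commutator G) := IsZGroup.of_squarefree hsq
  have hcyc : IsCyclic (commutator G) := inferInstance
  have hKF : commutator G ≤ Cfsg.fittingSubgroup G :=
    Lib.Cores.le_fittingSubgroup inferInstance hKn
  set C := Subgroup.centralizer (commutator G : Set G)
  have hCn : C.Normal := inferInstance
  have hFC : Cfsg.fittingSubgroup G = C := le_antisymm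
    (cyclic_le_centralizer hKF (Lib.Cores.fittingSubgroup_isNilpotent G) hcyc hsq)
    (Lib.Cores.le_fittingSubgroup hCn ⟨⟨2, ucs_two le_rfl le_rfl⟩⟩)
  obtain ⟨a, ha⟩ := hcyc.exists_generator
  have hCa : C = Subgroup.centralizer ({(a : G)} : Set G) := by
    refine le_antisymm (Subgroup.centralizer_le (Set.singleton_subset_iff.mpr a.2)) fun g hg => ?_
    rw [Subgroup.mem_centralizer_iff]
    intro k hk
    obtain ⟨j, hj⟩ := ha ⟨k, hk⟩
    have hj' : (a : G) ^ j = k := by
      rw [← SubgroupClass.coe_zpow]; exact congrArg Subtype.val hj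
    rw [← hj']
    exact (Commute.zpow_left (Subgroup.mem_centralizer_singleton_iff.mp hg).symm j).eq
  refine ⟨hs, hFn, fun _ => ?_, hcyc, hsq, ucs_two le_rfl hFC.le, ?_⟩
  · have hi : Squarefree (Cfsg.fittingSubgroup G).index := by rw [hFC, hCa]; exact h _
    refine ⟨?_, hi⟩
    have hcm : ∀ x y : G ⧸ Cfsg.fittingSubgroup G, x * y = y * x :=
      ((Subgroup.Normal.quotient_commutative_iff_commutator_le (N := Cfsg.fittingSubgroup G)).mpr hKF).is_comm.comm
    letI : CommGroup (G ⧸ Cfsg.fittingSubgroup G) :=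
      { (inferInstance : Group (G ⧸ Cfsg.fittingSubgroup G)) with mul_comm := hcm }
    haveI : IsZGroup (G ⧸ Cfsg.fittingSubgroup G) := IsZGroup.of_squarefree hi
    infer_instance
  · rw [commutator_eq_bot_iff_center_eq_top, eq_top_iff]
    intro x _
    rw [Subgroup.mem_center_iff]
    intro y
    exact (IsCyclic.isMulCommutative (α := commutator G)).is_comm.comm y x

end Cfsg.Agent.S4130
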