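import Cfsg.Statements.S4134
import Cfsg.Agent.Lib.ClassSizes.TwoSizes
import Cfsg.Agent.Lib.Classification.CyclicNormalAbelian

set_option autoImplicit false
open Cfsg

namespace Cfsg.Agent.S4134

open Lib.ClassSizes

/-- Let G be a finite group whose conjugacy classes have exactly two sizes, 1 and n > 1. Then n is a power of a prime p and G is the direct product of a p-group and an abelian group of order prime to p: its Sylow p-subgroup P is normal with an abelian normal complement centralizing it; moreover P has an abelian normal subgroup A with P/A of exponent dividing p. -/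
theorem result {G : Type*} [Group G] [Finite G] (n : ℕ) (hn : 1 < n)
    (h : ∀ x : G, (Subgroup.centralizer ({x} : Set G)).index = 1 ∨ (Subgroup.centralizer ({x} : Set G)).index = n) (hex : ∃ x : G, (Subgroup.centralizer ({x} : Set G)).index = n) :
    ∃ (p : ℕ) (_ : Fact p.Prime) (a : ℕ), n = p ^ a ∧ ∀ P : Sylow p G, (P : Subgroup G).Normal ∧
      (∃ N : Subgroup G, N.Normal ∧ N.IsComplement' (P : Subgroup G) ∧ IsMulCommutative N ∧
        ∀ x ∈ N, ∀ y ∈ (P : Subgroup G), x * y = y * x) ∧
      ∃ A : Subgroup (P : Subgroup G), A.Normal ∧ IsMulCommutative A ∧ ∀ y : (P : Subgroup G), y ^ p ∈ A := by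
  have h2 : TwoSizes G n := fun x hx => (h x).resolve_left fun h1 => hx (by
    rw [mem_center_iff_centralizer]; exact Subgroup.index_eq_one.mp h1)
  obtain ⟨x₀, hx₀⟩ := hex
  have hx₀Z : x₀ ∉ Subgroup.center G := fun hc => by
    rw [mem_center_iff_centralizer] at hc
    rw [hc, Subgroup.index_top] at hx₀
    omega
  obtain ⟨p, hp, hQ⟩ := h2.exists_isPGroup_quotient fun htop => hx₀Z (htop ▸ Subgroup.mem_top x₀)
  haveI := Fact.mk hp
  obtain ⟨k, hk⟩ := IsPGroup.iff_card.mp hQ
  rw [← Subgroup.index_eq_card] at hk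
  obtain ⟨a, -, ha⟩ := (Nat.dvd_prime_pow hp).mp
    (hk ▸ hx₀ ▸ Subgroup.index_dvd_of_le (center_le_centralizer x₀))
  refine ⟨p, ⟨hp⟩, a, ha, fun P => ?_⟩
  -- elements of order prime to `p` are central
  have hcentral : ∀ g : G, ¬ p ∣ orderOf g → g ∈ Subgroup.center G := by
    intro g hg
    obtain ⟨j, hj⟩ := hQ (QuotientGroup.mk' (Subgroup.center G) g)
    have h3 : orderOf (QuotientGroup.mk' (Subgroup.center G) g) = 1 :=
      Nat.eq_one_of_dvd_coprimes ((hp.coprime_iff_not_dvd.mpr hg).pow_left j)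
        (orderOf_dvd_of_pow_eq_one hj) (orderOf_map_dvd _ g)
    rw [orderOf_eq_one_iff] at h3
    exact (QuotientGroup.eq_one_iff g).mp h3
  obtain ⟨j, hj⟩ := IsPGroup.iff_card.mp P.isPGroup'
  have hPZ : (P : Subgroup G) ⊔ Subgroup.center G = ⊤ := by
    set K := (P : Subgroup G) ⊔ Subgroup.center G with hK
    have h3 : K.index ∣ p ^ k := hk ▸ Subgroup.index_dvd_of_le le_sup_right
    have h4 : Nat.Coprime (p ^ k) (P : Subgroup G).index :=
      (hp.coprime_iff_not_dvd.mpr P.not_dvd_index).pow_left k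
    exact Subgroup.index_eq_one.mp
      (Nat.eq_one_of_dvd_coprimes h4 h3 (Subgroup.index_dvd_of_le le_sup_left))
  have hPn : (P : Subgroup G).Normal := by
    rw [← Subgroup.normalizer_eq_top_iff, eq_top_iff, ← hPZ]
    exact sup_le Subgroup.le_normalizer (fun c hc => Subgroup.mem_normalizer_iff.mpr fun v => by rw [← Subgroup.mem_center_iff.mp hc v, mul_inv_cancel_right])
  refine ⟨hPn, ?_, ?_⟩
  · obtain ⟨N, hN⟩ := Subgroup.exists_right_complement'_of_coprime (N := (P : Subgroup G))
      (hj ▸ (hp.coprime_iff_not_dvd.mpr P.not_dvd_index).pow_left j)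
    have hNZ : N ≤ Subgroup.center G := fun g hg => hcentral g fun hd => P.not_dvd_index (by
      rw [hN.symm.index_eq_card]
      exact hd.trans (Subgroup.orderOf_dvd_natCard _ hg))
    refine ⟨N, ⟨fun g hg t => ?_⟩, hN.symm, ⟨⟨fun u v => Subtype.ext ?_⟩⟩, fun u hu v _ => ?_⟩
    · rw [Subgroup.mem_center_iff.mp (hNZ hg) t, mul_inv_cancel_right]; exact hg
    · exact Subgroup.mem_center_iff.mp (hNZ v.2) u
    · exact (Subgroup.mem_center_iff.mp (hNZ hu) v).symm
  · obtain ⟨A, hAn, hAc, hCA⟩ :=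
      Lib.Classification.exists_normal_abelian_selfCentralizing (P := ↥(P : Subgroup G)) P.isPGroup'
    exact ⟨A, hAn, hAc, fun y => h2.pow_mem_of_selfCentralizing P.isPGroup' hAc hCA y⟩

end Cfsg.Agent.S4134
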