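import Cfsg.Statements.S4135
import Cfsg.Agent.Lib.TwoClassSizes.Semiregular
import Cfsg.Agent.S4127
import Cfsg.Agent.Lib.Solvable.Nilpotent

set_option autoImplicit false
open Cfsg

namespace Cfsg.Agent.S4135

set_option linter.all false
open Cfsg.Agent Cfsg.Agent.Lib.TwoClassSizes

section

variable {G : Type*} [Group G] [Finite G]

local notation "𝐂" z:max => Subgroup.centralizer ({z} : Set G)

theorem mem_C {w z : G} : w ∈ 𝐂 z ↔ w * z = z * w := Subgroup.mem_centralizer_singleton_iff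

theorem center_iff {z : G} : z ∈ Subgroup.center G ↔ 𝐂 z = ⊤ := by
  rw [Subgroup.centralizer_eq_top_iff_subset]; simp

theorem C_le_of_mem_zpowers {z a : G} (ha : a ∈ Subgroup.zpowers z) : 𝐂 z ≤ 𝐂 a := by
  intro l hl
  obtain ⟨i, rfl⟩ := Subgroup.mem_zpowers_iff.1 ha
  exact mem_C.2 ((show Commute l z from mem_C.1 hl).zpow_right i).eq

theorem not_dvd_index_of_sylow_le {p : ℕ} [Fact p.Prime] (P : Sylow p G) {H : Subgroup G}
    (hH : (P : Subgroup G) ≤ H) : ¬ p ∣ H.index :=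
  fun h => P.not_dvd_index (h.trans (Subgroup.index_dvd_of_le hH))

variable {N : Subgroup G} {m : ℕ}

/-- The class-size hypothesis. -/
def TwoSizes (N : Subgroup G) (m : ℕ) : Prop :=
  ∀ x ∈ N, (𝐂 x).index = 1 ∨ (𝐂 x).index = m

theorem idx (h : TwoSizes N m) {z : G} (hz : z ∈ N) (hzc : z ∉ Subgroup.center G) :
    (𝐂 z).index = m :=
  (h z hz).resolve_left fun e => hzc (center_iff.2 (Subgroup.index_eq_one.1 e))

theorem card_C_eq (h : TwoSizes N m) {z w : G} (hz : z ∈ N) (hzc : z ∉ Subgroup.center G)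
    (hw : w ∈ N) (hwc : w ∉ Subgroup.center G) : Nat.card (𝐂 z) = Nat.card (𝐂 w) :=
  mul_left_cancel₀ (Subgroup.index_ne_zero_of_finite (H := 𝐂 z))
    (by rw [Subgroup.index_mul_card, idx h hz hzc, ← idx h hw hwc, Subgroup.index_mul_card])

theorem eq_of_le (h : TwoSizes N m) {z w : G} (hz : z ∈ N) (hzc : z ∉ Subgroup.center G)
    (hw : w ∈ N) (hwc : w ∉ Subgroup.center G) (hle : 𝐂 z ≤ 𝐂 w) : 𝐂 z = 𝐂 w :=
  Subgroup.eq_of_le_of_card_ge hle (card_C_eq h hz hzc hw hwc).ge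

theorem mem_zpowers_mul {u v : G} (hc : Commute u v)
    (hcop : (orderOf u).Coprime (orderOf v)) : u ∈ Subgroup.zpowers (u * v) := by
  obtain ⟨n, hn⟩ := exists_pow_eq_self_of_coprime (x := u) hcop.symm
  have : (u * v) ^ orderOf v = u ^ orderOf v := by rw [hc.mul_pow, pow_orderOf_eq_one, mul_one]
  have h2 := pow_mem (pow_mem (Subgroup.mem_zpowers (u * v)) (orderOf v)) n
  rwa [this, hn] at h2

theorem eq_of_coprime (h : TwoSizes N m) {u v : G} (hu : u ∈ N) (huc : u ∉ Subgroup.center G)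
    (hv : v ∈ N) (hvc : v ∉ Subgroup.center G) (hc : Commute u v)
    (hcop : (orderOf u).Coprime (orderOf v)) : 𝐂 u = 𝐂 v := by
  have h1 := C_le_of_mem_zpowers (mem_zpowers_mul hc hcop)
  have h2 : 𝐂 (u * v) ≤ 𝐂 v := by
    rw [hc.eq]; exact C_le_of_mem_zpowers (mem_zpowers_mul hc.symm hcop.symm)
  have hw : u * v ∉ Subgroup.center G := fun e =>
    huc (center_iff.2 (top_le_iff.1 ((center_iff.1 e).ge.trans h1)))
  rw [← eq_of_le h (mul_mem hu hv) hw hu huc h1, eq_of_le h (mul_mem hu hv) hw hv hvc h2]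

open scoped Pointwise in
theorem sylow_central [N.Normal] (h : TwoSizes N m) {q : ℕ} [Fact q.Prime] (hq : ¬ q ∣ m)
    (S : Sylow q N) {z s : N} (hs : s ∈ S) : Commute s z := by
  set H := Subgroup.centralizer ((S : Subgroup N) : Set N)
  have htop : H = ⊤ := by
    refine S4127.eq_top_of_forall_conj H fun g => ?_
    by_cases hgc : (g : G) ∈ Subgroup.center G
    · refine ⟨1, Subgroup.mem_centralizer_iff.2 fun t _ => Subtype.ext ?_⟩
      simpa using (Subgroup.mem_center_iff.1 hgc (t : G))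
    let D : Sylow q (𝐂 (g : G)) := default
    have hD : Nat.card ((D : Subgroup (𝐂 (g : G))).map (𝐂 (g : G)).subtype) =
        q ^ (Nat.card G).factorization q := by
      rw [Subgroup.card_map_of_injective (Subgroup.subtype_injective _), D.card_eq_multiplicity,
        ← (𝐂 (g : G)).index_mul_card,
        Nat.factorization_mul Subgroup.index_ne_zero_of_finite Nat.card_pos.ne', Finsupp.add_apply,
        Nat.factorization_eq_zero_of_not_dvd (n := (𝐂 (g : G)).index) (p := q)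
          (by rw [idx h g.2 hgc]; exact hq), zero_add]
    let P' : Sylow q G := Sylow.ofCard _ hD
    have hP' : (P' : Subgroup G) ≤ 𝐂 (g : G) := by
      rintro _ ⟨d, -, rfl⟩; exact d.2
    obtain ⟨P0, hP0⟩ := (S.2.map N.subtype).exists_le_sylow
    obtain ⟨k, hk⟩ := MulAction.exists_smul_eq G P0 P'
    obtain ⟨n, hn⟩ := MulAction.exists_smul_eq N S ((MulAut.conjNormal k : MulAut N) • S)
    refine ⟨n, Subgroup.mem_centralizer_iff.2 fun t ht => ?_⟩
    have h1 : MulAut.conj n • t ∈ ((n • S : Sylow q N) : Subgroup N) :=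
      Subgroup.smul_mem_pointwise_smul t (MulAut.conj n) (S : Subgroup N) ht
    rw [hn, Sylow.pointwise_smul_def, Subgroup.mem_pointwise_smul_iff_inv_smul_mem] at h1
    have h2 := hP0 (Subgroup.mem_map_of_mem N.subtype h1)
    have h3 : MulAut.conj k • N.subtype ((MulAut.conjNormal k : MulAut N)⁻¹ • MulAut.conj n • t) ∈
        ((k • P0 : Sylow q G) : Subgroup G) :=
      Subgroup.smul_mem_pointwise_smul _ (MulAut.conj k) (P0 : Subgroup G) h2
    rw [hk] at h3
    have h4 := mem_C.1 (hP' h3)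
    have h6 : MulAut.conj k • N.subtype ((MulAut.conjNormal k : MulAut N)⁻¹ • MulAut.conj n • t) =
        (n : G) * t * (n : G)⁻¹ := by
      simp only [MulAut.smul_def, ← map_inv, Subgroup.coe_subtype, MulAut.conjNormal_apply,
        MulAut.conj_apply, Subgroup.coe_mul, Subgroup.coe_inv]
      group
    rw [h6] at h4
    have h5 : ((n : G) * t * (n : G)⁻¹) * g = g * ((n : G) * t * (n : G)⁻¹) := h4
    apply Subtype.ext
    push_cast
    calc (t : G) * ((n : G)⁻¹ * g * n) = (n : G)⁻¹ * (((n : G) * t * (n : G)⁻¹) * g) * n := by group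
      _ = (n : G)⁻¹ * g * n * t := by rw [h5]; group
  have : z ∈ H := htop ▸ Subgroup.mem_top z
  exact Subgroup.mem_centralizer_iff.1 this s hs

theorem mem_of_isPElement [N.Normal] {r : ℕ} [Fact r.Prime] (R : Sylow r G)
    (hRN : (R : Subgroup G) ≤ N) {b : G} {k : ℕ} (hb : orderOf b = r ^ k) : b ∈ N := by
  obtain ⟨P1, hP1⟩ := (IsPGroup.of_card (p := r) (n := k)
    (show Nat.card (Subgroup.zpowers b) = r ^ k by rw [Nat.card_zpowers, hb])).exists_le_sylow
  obtain ⟨g, rfl⟩ := MulAction.exists_smul_eq G R P1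
  have := hP1 (Subgroup.mem_zpowers b)
  rw [Sylow.coe_subgroup_smul, Subgroup.mem_pointwise_smul_iff_inv_smul_mem] at this
  have h2 := hRN this
  simp [MulAut.smul_def] at h2
  have h3 := (inferInstance : N.Normal).conj_mem _ h2 g
  simpa [mul_assoc] using h3

theorem card_pGroup_le {r : ℕ} [Fact r.Prime] {H B : Subgroup G} (D : Sylow r H)
    {K : Subgroup G} (hK : Nat.card K = Nat.card H) (hB : IsPGroup r B) (hBK : B ≤ K) :
    Nat.card B ≤ Nat.card ((D : Subgroup H).map H.subtype) := by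
  obtain ⟨n, hn⟩ := IsPGroup.iff_card.1 hB
  rw [Subgroup.card_map_of_injective (Subgroup.subtype_injective _), D.card_eq_multiplicity, hn]
  refine Nat.pow_le_pow_right (Fact.out : r.Prime).pos ?_
  rw [← (Fact.out : r.Prime).pow_dvd_iff_le_factorization Nat.card_pos.ne', ← hn, ← hK]
  exact Subgroup.card_dvd_of_le hBK

/-- The main step: if `r ∣ m` then `N` has no noncentral element of prime power order prime to `r`. -/
theorem central_of_dvd [N.Normal] (h : TwoSizes N m) {r q : ℕ} [Fact r.Prime] [Fact q.Prime]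
    (hrq : r ≠ q) (R : Sylow r G) (hR : ¬ (R : Subgroup G) ≤ Subgroup.center G)
    (hRN : (R : Subgroup G) ≤ N) (hrm : r ∣ m) {b : G} (hb : b ∈ N)
    (hbq : ∃ k, orderOf b = q ^ k) (hbc : b ∉ Subgroup.center G) : False := by
  obtain ⟨k, hk⟩ := hbq
  have hbP : IsPGroup q (Subgroup.zpowers b) :=
    IsPGroup.of_card (n := k) (by rw [Nat.card_zpowers, hk])
  -- `q ∣ m`
  have hqm : q ∣ m := by
    by_contra hqm
    obtain ⟨S, hS⟩ := (hbP.comap_subtype (K := N)).exists_le_sylow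
    refine not_dvd_index_of_sylow_le R (H := 𝐂 b) (fun x hx => mem_C.2 ?_) (idx h hb hbc ▸ hrm)
    exact congrArg Subtype.val (sylow_central h hqm S (z := ⟨x, hRN hx⟩) (s := ⟨b, hb⟩)
      (hS (Subgroup.mem_zpowers b))).eq.symm
  -- an element central modulo the centre in a Sylow `q`-subgroup
  obtain ⟨P, hP⟩ := hbP.exists_le_sylow
  obtain ⟨y, hyP, hy, hyc, hyP'⟩ : ∃ y ∈ P, y ∈ N ∧ y ∉ Subgroup.center G ∧
      ∀ p ∈ P, p * y * p⁻¹ * y⁻¹ ∈ Subgroup.center G := by
    set Z' := (Subgroup.center G).subgroupOf (P : Subgroup G)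
    set π := QuotientGroup.mk' Z'
    haveI : Group.IsNilpotent ((P : Subgroup G) ⧸ Z') := (P.2.to_quotient Z').isNilpotent
    haveI : (Subgroup.map π (N.subgroupOf (P : Subgroup G))).Normal :=
      Subgroup.Normal.map inferInstance π (QuotientGroup.mk'_surjective _)
    have hne : Subgroup.map π (N.subgroupOf (P : Subgroup G)) ≠ ⊥ := fun e => hbc <| by
      have : π ⟨b, hP (Subgroup.mem_zpowers b)⟩ = 1 :=
        Subgroup.mem_bot.1 (e ▸ Subgroup.mem_map_of_mem π (show _ ∈ N.subgroupOf _ from hb))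
      exact (QuotientGroup.eq_one_iff (N := Z') (⟨b, _⟩ : (P : Subgroup G))).1 this
    obtain ⟨⟨_, ⟨⟨y, hyP⟩, hy, rfl⟩, hc⟩, hne1⟩ :=
      Subgroup.ne_bot_iff_exists_ne_one.1 (Lib.Solvable.inf_center_ne_bot hne)
    refine ⟨y, hyP, hy, fun e => hne1 (Subtype.ext
      ((QuotientGroup.eq_one_iff (N := Z') (⟨y, hyP⟩ : (P : Subgroup G))).2 e)), fun p hp => ?_⟩
    have := Subgroup.mem_center_iff.1 hc (π ⟨p, hp⟩)
    rw [← map_mul, ← map_mul] at this
    have h2 : π (⟨p, hp⟩ * ⟨y, hyP⟩ * (⟨p, hp⟩)⁻¹ * (⟨y, hyP⟩)⁻¹) = 1 := by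
      rw [map_mul, map_mul, this, map_mul, map_inv, map_inv]; group
    exact (QuotientGroup.eq_one_iff (N := Z') _).1 h2
  obtain ⟨ky, hky⟩ := IsPGroup.iff_orderOf.1 P.2 ⟨y, hyP⟩
  rw [Subgroup.orderOf_mk] at hky
  have hcop : r.Coprime q :=
    (Nat.coprime_primes (Fact.out : r.Prime) (Fact.out : q.Prime)).2 hrq
  have hyr : (orderOf y).Coprime r := hky ▸ hcop.symm.pow_left ky
  -- the Sylow `r`-subgroup of `C(y)`
  let D : Sylow r (𝐂 y) := default
  set A := (D : Subgroup (𝐂 y)).map (𝐂 y).subtype with hA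
  have hAr : IsPGroup r A := D.2.map _
  have hAC : A ≤ 𝐂 y := by rintro _ ⟨d, -, rfl⟩; exact d.2
  have hAN : A ≤ N := fun a ha => by
    obtain ⟨j, hj⟩ := IsPGroup.iff_orderOf.1 hAr ⟨a, ha⟩
    rw [Subgroup.orderOf_mk] at hj
    exact mem_of_isPElement R hRN hj
  obtain ⟨x, hxA, hxc⟩ : ∃ x ∈ A, x ∉ Subgroup.center G := by
    by_contra! hall
    obtain ⟨x0, hx0R, hx0c⟩ := Set.not_subset.1 hR
    have hcen : A ≤ 𝐂 x0 := fun a ha => mem_C.2 (Subgroup.mem_center_iff.1 (hall a ha) x0).symm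
    haveI : A.Normal := ⟨fun a ha g => by
      rwa [Subgroup.mem_center_iff.1 (hall a ha) g, mul_inv_cancel_right]⟩
    have hB : IsPGroup r (A ⊔ Subgroup.zpowers x0 : Subgroup G) :=
      IsPGroup.to_sup_of_normal_left hAr (R.2.to_le (Subgroup.zpowers_le.2 hx0R))
    have := card_pGroup_le D (card_C_eq h (hRN hx0R) hx0c hy hyc) hB
      (sup_le hcen (Subgroup.zpowers_le.2 (mem_C.2 rfl)))
    have h2 := Subgroup.eq_of_le_of_card_ge (le_sup_left : A ≤ A ⊔ Subgroup.zpowers x0) this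
    exact hx0c (hall x0 (h2 ▸ Subgroup.mem_sup_right (Subgroup.mem_zpowers x0)))
  obtain ⟨kx, hkx⟩ : ∃ kx, orderOf x = r ^ kx := by
    obtain ⟨j, hj⟩ := IsPGroup.iff_orderOf.1 hAr ⟨x, hxA⟩
    exact ⟨j, by rwa [Subgroup.orderOf_mk] at hj⟩
  have hxy : 𝐂 x = 𝐂 y := eq_of_coprime h (hAN hxA) hxc hy hyc (mem_C.1 (hAC hxA))
    (hkx ▸ (hyr.symm.pow_left kx))
  -- the abelian group `T`
  set T := 𝐂 y ⊓ N with hT
  have hTC : ∀ z ∈ T, z ∉ Subgroup.center G → 𝐂 z = 𝐂 y := by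
    rintro z ⟨hzy, hzN⟩ hzc
    obtain ⟨a, c, haz, hcz, hao, ⟨j, hj⟩, rfl⟩ := Lib.Transfer.exists_pPart_decomp (p := r) z
    have hle := Subgroup.zpowers_le.2 hzN
    have hley := Subgroup.zpowers_le.2 hzy
    by_cases hcc : c ∈ Subgroup.center G
    · have hac : a ∉ Subgroup.center G := fun e => hzc (mul_mem e hcc)
      rw [eq_of_le h hzN hzc (hle haz) hac (C_le_of_mem_zpowers haz), ← hxy]
      exact eq_of_coprime h (hle haz) hac (hAN hxA) hxc
        (mem_C.1 (hxy ▸ hley haz : a ∈ 𝐂 x)) (hkx ▸ hao.pow_right kx)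
    · rw [eq_of_le h hzN hzc (hle hcz) hcc (C_le_of_mem_zpowers hcz)]
      exact eq_of_coprime h (hle hcz) hcc hy hyc (mem_C.1 (hley hcz))
        (hj ▸ (hyr.symm.pow_left j))
  have hTcomm : ∀ s t : T, s * t = t * s := fun s t => by
    apply Subtype.ext
    show (s : G) * t = t * s
    by_cases hsc : (s : G) ∈ Subgroup.center G
    · exact (Subgroup.mem_center_iff.1 hsc t).symm
    · have : (t : G) ∈ 𝐂 (s : G) := by rw [hTC s s.2 hsc]; exact t.2.1
      exact (mem_C.1 this).symm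
  letI : CommGroup T := { (inferInstance : Group T) with mul_comm := hTcomm }
  let φ := Subgroup.normalizerMonoidHom T
  have hφ : ∀ (l : Subgroup.normalizer (T : Set G)) (t : T), ((φ l t : T) : G) = l * t * (l : G)⁻¹ :=
    fun l t => rfl
  let Z : Subgroup T := (Subgroup.center G).subgroupOf T
  have hS : Semiregular φ.range.subtype Z := by
    refine ⟨?_, ?_⟩
    · rintro ⟨_, l, rfl⟩ t ht
      refine Subtype.ext ((hφ l t).trans ?_)
      have ht' : (t : G) ∈ Subgroup.center G := ht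
      rw [Subgroup.mem_center_iff.1 ht' (l : G), mul_inv_cancel_right]
    · rintro ⟨_, l, rfl⟩ t hne hfix
      by_contra htc
      refine hne (Subtype.ext (MulEquiv.ext fun t' => Subtype.ext ((hφ l t').trans ?_)))
      show _ = (t' : G)
      have hl : (l : G) ∈ 𝐂 y := by
        rw [← hTC t t.2 htc, mem_C, ← mul_inv_eq_iff_eq_mul]
        exact (hφ l t).symm.trans (congrArg Subtype.val hfix)
      by_cases ht'c : (t' : G) ∈ Subgroup.center G
      · rw [Subgroup.mem_center_iff.1 ht'c (l : G), mul_inv_cancel_right]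
      · rw [← hTC t' t'.2 ht'c] at hl
        rw [mem_C.1 hl, mul_inv_cancel_right]
  have hxT : x ∈ T := ⟨hAC hxA, hAN hxA⟩
  have hyT : y ∈ T := ⟨mem_C.2 rfl, hy⟩
  have hnorm : ∀ l u : G, 𝐂 u = 𝐂 y → 𝐂 (l * u * l⁻¹) = 𝐂 y →
      l ∈ Subgroup.normalizer (T : Set G) := by
    intro l u hu hlu
    refine Subgroup.mem_normalizer_iff.2 fun w => ?_
    have hC : w ∈ 𝐂 y ↔ l * w * l⁻¹ ∈ 𝐂 y := by
      constructor
      · intro hw
        rw [← hu] at hw; rw [← hlu, mem_C]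
        calc l * w * l⁻¹ * (l * u * l⁻¹) = l * (w * u) * l⁻¹ := by group
          _ = l * (u * w) * l⁻¹ := by rw [mem_C.1 hw]
          _ = _ := by group
      · intro hw
        rw [← hlu] at hw; rw [← hu, mem_C]
        calc w * u = l⁻¹ * (l * w * l⁻¹ * (l * u * l⁻¹)) * l := by group
          _ = l⁻¹ * (l * u * l⁻¹ * (l * w * l⁻¹)) * l := by rw [mem_C.1 hw]
          _ = _ := by group
    have hN : w ∈ N ↔ l * w * l⁻¹ ∈ N := by
      refine ⟨fun hw => (inferInstance : N.Normal).conj_mem _ hw l, fun hw => ?_⟩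
      simpa [mul_assoc] using (inferInstance : N.Normal).conj_mem _ hw l⁻¹
    exact and_congr hC hN
  have horder : ∀ (p : ℕ) [Fact p.Prime] (l : G) (hl : l ∈ Subgroup.normalizer (T : Set G)),
      (∃ j, orderOf l = p ^ j) → (∃ t ∈ T, l * t * l⁻¹ ≠ t) → p ∣ Nat.card φ.range := by
    intro p _ l hl ⟨j, hj⟩ ⟨t, ht, hne⟩
    let ω : φ.range := ⟨φ ⟨l, hl⟩, ⟨_, rfl⟩⟩
    have hω : ω ≠ 1 := fun e => hne <| (hφ ⟨l, hl⟩ ⟨t, ht⟩).symm.trans <| by
      rw [show φ ⟨l, hl⟩ = 1 from congrArg Subtype.val e]; rfl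
    have hd : orderOf ω ∣ p ^ j := by
      rw [← hj, ← Subgroup.orderOf_coe ω, ← Subgroup.orderOf_mk l hl]
      exact orderOf_map_dvd φ _
    obtain ⟨i, -, hi⟩ := (Nat.dvd_prime_pow (Fact.out : p.Prime)).1 hd
    refine (dvd_trans ?_ (orderOf_dvd_natCard ω))
    rw [hi]
    refine dvd_pow_self p fun h0 => hω (orderOf_eq_one_iff.1 (by rw [hi, h0, pow_zero]))
  refine hS.not_dvd hrq ⟨⟨x, hxT⟩, hxc, kx, Subtype.ext ?_⟩ ⟨⟨y, hyT⟩, hyc, ky, Subtype.ext ?_⟩
    ?_ ?_
  · simp [← hkx, pow_orderOf_eq_one]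
  · simp [← hky, pow_orderOf_eq_one]
  · -- `r` divides the automorphism group
    obtain ⟨R1, hR1⟩ := hAr.exists_le_sylow
    have hlt : A < (R1 : Subgroup G) := lt_of_le_of_ne hR1 fun e =>
      not_dvd_index_of_sylow_le R1 (e ▸ hAC) (idx h hy hyc ▸ hrm)
    haveI : Group.IsNilpotent (R1 : Subgroup G) := R1.2.isNilpotent
    obtain ⟨⟨g, hgR⟩, hgn, hgA⟩ := SetLike.exists_of_lt (Group.normalizerCondition_of_isNilpotent
      (A.subgroupOf (R1 : Subgroup G)) (lt_top_iff_ne_top.2 fun e =>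
        hlt.not_ge (Subgroup.subgroupOf_eq_top.1 e)))
    obtain ⟨j, hj⟩ := IsPGroup.iff_orderOf.1 R1.2 ⟨g, hgR⟩
    rw [Subgroup.orderOf_mk] at hj
    have hgxA : g * x * g⁻¹ ∈ A := (Subgroup.mem_normalizer_iff.1 hgn ⟨x, hR1 hxA⟩).1 hxA
    have hgxc : g * x * g⁻¹ ∉ Subgroup.center G := fun e => hxc <| by
      simpa [mul_assoc] using Subgroup.Normal.conj_mem inferInstance _ e g⁻¹
    refine horder r g (hnorm g x hxy (hTC _ ⟨hAC hgxA, hAN hgxA⟩ hgxc)) ⟨j, hj⟩
      ⟨x, hxT, fun e => hgA ?_⟩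
    have hgC : g ∈ 𝐂 y := hxy ▸ mem_C.2 (mul_inv_eq_iff_eq_mul.1 e)
    set B := A ⊔ Subgroup.zpowers g
    have hgNA : Subgroup.zpowers g ≤ Subgroup.normalizer (A : Set G) := by
      refine Subgroup.zpowers_le.2 (Subgroup.mem_normalizer_iff.2 fun w => ⟨fun hw => ?_, fun hw => ?_⟩)
      · exact (Subgroup.mem_normalizer_iff.1 hgn ⟨w, hR1 hw⟩).1 hw
      · have hwR : w ∈ (R1 : Subgroup G) := by
          have := mul_mem (mul_mem (inv_mem hgR) (hR1 hw)) hgR
          simpa [mul_assoc] using this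
        exact (Subgroup.mem_normalizer_iff.1 hgn ⟨w, hwR⟩).2 hw
    have hB : IsPGroup r B :=
      R1.2.to_le (sup_le hR1 (Subgroup.zpowers_le.2 hgR))
    have := card_pGroup_le D rfl hB (sup_le hAC (Subgroup.zpowers_le.2 hgC))
    have h2 := Subgroup.eq_of_le_of_card_ge (le_sup_left : A ≤ B) this
    exact h2.ge (Subgroup.mem_sup_right (Subgroup.mem_zpowers g))
  · -- `q` divides it
    obtain ⟨p, hpP, hpy⟩ := Set.not_subset.1 fun hle : (P : Subgroup G) ≤ 𝐂 y =>
      not_dvd_index_of_sylow_le P hle (idx h hy hyc ▸ hqm)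
    obtain ⟨j, hj⟩ := IsPGroup.iff_orderOf.1 P.2 ⟨p, hpP⟩
    rw [Subgroup.orderOf_mk] at hj
    refine horder q p (hnorm p y rfl ?_) ⟨j, hj⟩
      ⟨y, hyT, fun e => hpy (mem_C.2 (mul_inv_eq_iff_eq_mul.1 e))⟩
    ext w
    have hc := Subgroup.mem_center_iff.1 (hyP' p hpP) w
    set c := p * y * p⁻¹ * y⁻¹ with hcdef
    have he : p * y * p⁻¹ = c * y := (inv_mul_cancel_right _ y).symm
    rw [mem_C, mem_C, he, ← mul_assoc w, hc, mul_assoc c, mul_assoc c, mul_right_inj]

end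

/-- Let G be a finite group, r a prime and R a Sylow r-subgroup of G that is not central, N a normal subgroup of G containing R, and m a natural number such that every element of N has a conjugacy class in G of size 1 or m. Then N is nilpotent. -/
theorem result {G : Type*} [Group G] [Finite G] (r : ℕ) [Fact r.Prime]
    (R : Sylow r G) (hR : ¬ (R : Subgroup G) ≤ Subgroup.center G) (N : Subgroup G) [N.Normal] (hRN : (R : Subgroup G) ≤ N)
    (m : ℕ) (h : ∀ x ∈ N, (Subgroup.centralizer ({x} : Set G)).index = 1 ∨ (Subgroup.centralizer ({x} : Set G)).index = m) : Group.IsNilpotent N := by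
  have h' : TwoSizes N m := h
  suffices hk : ∀ w : N, (orderOf w).Coprime r → w ∈ Subgroup.center N by
    refine Group.of_quotient_center_nilpotent (IsPGroup.isNilpotent (p := r) ?_)
    intro x
    obtain ⟨x, rfl⟩ := QuotientGroup.mk_surjective x
    obtain ⟨a, c, haz, hcz, hao, ⟨j, hj⟩, rfl⟩ := Lib.Transfer.exists_pPart_decomp (p := r) x
    refine ⟨j, ?_⟩
    rw [QuotientGroup.mk_mul, (QuotientGroup.eq_one_iff a).2 (hk a hao), one_mul,
      ← QuotientGroup.mk_pow, ← hj, pow_orderOf_eq_one, QuotientGroup.mk_one]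
  intro w hw
  rw [← Subgroup.orderOf_coe] at hw
  by_cases hwc : (w : G) ∈ Subgroup.center G
  · exact Subgroup.mem_center_iff.2 fun t => Subtype.ext (Subgroup.mem_center_iff.1 hwc t)
  by_cases hrm : r ∣ m
  · exfalso
    set o := orderOf (QuotientGroup.mk' (Subgroup.center G) (w : G))
    have ho : o ≠ 1 := fun e => hwc ((QuotientGroup.eq_one_iff (w : G)).1 (orderOf_eq_one_iff.1 e))
    obtain ⟨q, hq, hqo⟩ := Nat.exists_prime_and_dvd ho
    haveI := Fact.mk hq
    have hrq : r ≠ q := fun e =>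
      (Fact.out : r.Prime).not_dvd_one (hw.gcd_eq_one ▸ Nat.dvd_gcd
        (e ▸ hqo.trans (orderOf_map_dvd _ (w : G))) dvd_rfl)
    obtain ⟨a, c, haz, hcz, hao, ⟨j, hj⟩, hac⟩ := Lib.Transfer.exists_pPart_decomp (p := q) (w : G)
    refine central_of_dvd h' hrq R hR hRN hrm (Subgroup.zpowers_le.2 w.2 hcz) ⟨j, hj⟩ fun hcc => ?_
    have hd : o ∣ orderOf a := by
      refine orderOf_dvd_of_pow_eq_one ?_
      rw [hac, map_mul, show QuotientGroup.mk' (Subgroup.center G) c = 1 from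
        (QuotientGroup.eq_one_iff c).2 hcc, mul_one, ← map_pow, pow_orderOf_eq_one, map_one]
    exact hq.not_dvd_one (hao.gcd_eq_one ▸ Nat.dvd_gcd (hqo.trans hd) dvd_rfl)
  · obtain ⟨x, hxR, hxc⟩ := Set.not_subset.1 hR
    have hcen : ∀ t : N, Commute (⟨x, hRN hxR⟩ : N) t := fun t =>
      sylow_central h' hrm (R.subtype hRN) hxR
    obtain ⟨j, hj⟩ := IsPGroup.iff_orderOf.1 R.2 ⟨x, hxR⟩
    rw [Subgroup.orderOf_mk] at hj
    have hC := eq_of_coprime h' w.2 hwc (hRN hxR) hxc (congrArg Subtype.val (hcen w).eq.symm)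
      (hj ▸ hw.pow_right j)
    refine Subgroup.mem_center_iff.2 fun t => Subtype.ext ?_
    have : (t : G) ∈ Subgroup.centralizer ({x} : Set G) :=
      mem_C.2 (congrArg Subtype.val (hcen t).eq.symm)
    rw [← hC] at this
    exact mem_C.1 this

end Cfsg.Agent.S4135
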