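import Cfsg.Statements.S4138
import Cfsg.Agent.Lib.PowerOrbits.BaerBasic
import Cfsg.Agent.Lib.Frobenius.Complement
import Cfsg.Agent.Lib.PGroups.Subnormal
import Mathlib

set_option autoImplicit false
open Cfsg

namespace Cfsg.Agent.S4138

set_option linter.all false
open Cfsg.Agent Cfsg.Agent.Lib.PowerOrbits.Baer

section

variable {G : Type*} [Group G] [Finite G]

local notation "𝐂" z:max => Subgroup.centralizer ({z} : Set G)
local notation "𝐙" => Subgroup.center G

theorem center_iff {z : G} : z ∈ 𝐙 ↔ 𝐂 z = ⊤ := by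
  rw [Subgroup.centralizer_eq_top_iff_subset]; simp

theorem center_of_index_eq_one {z : G} (h : (𝐂 z).index = 1) : z ∈ 𝐙 :=
  center_iff.2 (Subgroup.index_eq_one.1 h)

theorem center_le (z : G) : 𝐙 ≤ 𝐂 z := Subgroup.center_le_centralizer _

theorem mem_C {u z : G} : u ∈ 𝐂 z ↔ u * z = z * u := Subgroup.mem_centralizer_singleton_iff

theorem mem_C_comm {u z : G} (h : u ∈ 𝐂 z) : z ∈ 𝐂 u := mem_C.2 (mem_C.1 h).symm

theorem pow_gcd_mem {K : Subgroup G} {x : G} {a b : ℕ} (ha : x ^ a ∈ K) (hb : x ^ b ∈ K) :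
    x ^ Nat.gcd a b ∈ K := by
  rw [← zpow_natCast, Nat.gcd_eq_gcd_ab, zpow_add, zpow_mul, zpow_mul, zpow_natCast, zpow_natCast]
  exact K.mul_mem (K.zpow_mem ha _) (K.zpow_mem hb _)

theorem mem_of_pow_mem {K : Subgroup G} {x : G} {a b : ℕ} (ha : x ^ a ∈ K) (hb : x ^ b ∈ K)
    (hc : a.Coprime b) : x ∈ K := by
  have := pow_gcd_mem ha hb
  rwa [hc.gcd_eq_one, pow_one] at this

/-- Separation of commuting parts of coprime order modulo the centre. -/
theorem C_mul_le {a b : G} (hc : Commute a b) {N M : ℕ} (ha : a ^ M ∈ 𝐙) (hb : b ^ N ∈ 𝐙)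
    (hcop : N.Coprime M) : 𝐂 (a * b) ≤ 𝐂 a ⊓ 𝐂 b := by
  intro v hv
  have h1 : v ∈ 𝐂 ((a * b) ^ N) := mem_C.2 ((show Commute v (a * b) from mem_C.1 hv).pow_right N).eq
  have h2 : (a * b) ^ N ∈ 𝐂 v := mem_C_comm h1
  rw [hc.mul_pow] at h2
  have h3 : a ^ N ∈ 𝐂 v := by
    have := mul_mem h2 (inv_mem (center_le v hb))
    rwa [mul_inv_cancel_right] at this
  have h4 : a ∈ 𝐂 v := mem_of_pow_mem h3 (center_le v ha) hcop
  refine ⟨mem_C_comm h4, mem_C_comm ?_⟩
  have := mul_mem (inv_mem h4) (mem_C_comm hv)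
  rwa [inv_mul_cancel_left] at this

/-- The subgroup generated by `a⁻¹ a'` for the conjugates `a'` of `a`. -/
def diffGroup (a : G) : Subgroup G :=
  Subgroup.closure (Set.range fun g : G => a⁻¹ * (g * a * g⁻¹))

theorem diff_mem (a g : G) : a⁻¹ * (g * a * g⁻¹) ∈ diffGroup a :=
  Subgroup.subset_closure ⟨g, rfl⟩

instance diffGroup_normal (a : G) : (diffGroup a).Normal := ⟨fun d hd u => by
  have h1 : MulAut.conj u d ∈ (diffGroup a).map (MulAut.conj u).toMonoidHom :=
    Subgroup.mem_map_of_mem _ hd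
  rw [diffGroup, MonoidHom.map_closure] at h1
  refine (Subgroup.closure_le _).2 ?_ h1
  rintro _ ⟨_, ⟨g, rfl⟩, rfl⟩
  have := (diffGroup a).mul_mem ((diffGroup a).inv_mem (diff_mem a u)) (diff_mem a (u * g))
  show u * (a⁻¹ * (g * a * g⁻¹)) * u⁻¹ ∈ diffGroup a
  rwa [show (a⁻¹ * (u * a * u⁻¹))⁻¹ * (a⁻¹ * (u * g * a * (u * g)⁻¹)) =
    u * (a⁻¹ * (g * a * g⁻¹)) * u⁻¹ by group] at this⟩

theorem mem_conjugatesOf' {a b : G} : b ∈ conjugatesOf a ↔ ∃ g, g * a * g⁻¹ = b := isConj_iff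

/-- `cl a · cl b` is one class; `cl b` embeds in it. -/
theorem index_le_index_mul {a b : G} (hcop : (𝐂 a).index.Coprime (𝐂 b).index) :
    (𝐂 b).index ≤ (𝐂 (a * b)).index ∧ (𝐂 a).index ≤ (𝐂 (a * b)).index := by
  rw [← natCard_conjugatesOf, ← natCard_conjugatesOf, ← natCard_conjugatesOf]
  constructor
  · refine Nat.card_le_card_of_injective (fun w => ⟨a * w.1, ?_⟩) fun v w e =>
      Subtype.ext (mul_left_cancel (congrArg Subtype.val e))
    obtain ⟨k, hk⟩ := mem_conjugatesOf'.1 w.2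
    obtain ⟨t, ht1, ht2⟩ := exists_conj_pair hcop 1 k
    refine mem_conjugatesOf'.2 ⟨t, ?_⟩
    rw [← conj_mul, ht1, ht2, hk]; group
  · refine Nat.card_le_card_of_injective (fun w => ⟨w.1 * b, ?_⟩) fun v w e =>
      Subtype.ext (mul_right_cancel (congrArg Subtype.val e))
    obtain ⟨k, hk⟩ := mem_conjugatesOf'.1 w.2
    obtain ⟨t, ht1, ht2⟩ := exists_conj_pair hcop k 1
    refine mem_conjugatesOf'.2 ⟨t, ?_⟩
    rw [← conj_mul, ht1, ht2, hk]; group

theorem index_mul_dvd {a b : G} (hcop : (𝐂 a).index.Coprime (𝐂 b).index) :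
    (𝐂 (a * b)).index ∣ (𝐂 a).index * (𝐂 b).index := by
  rw [← index_inf_eq_mul hcop]
  refine Subgroup.index_dvd_of_le fun v hv => mem_C.2 ?_
  exact ((show Commute v a from mem_C.1 hv.1).mul_right (mem_C.1 hv.2)).eq

/-- The key step. -/
theorem diff_card_dvd {a b : G} (hcop : (𝐂 a).index.Coprime (𝐂 b).index)
    (hab : (𝐂 (a * b)).index = (𝐂 b).index) :
    Nat.card (diffGroup a) ∣ (𝐂 b).index := by
  classical
  set B : Set G := conjugatesOf b
  have hmem : ∀ g, ∀ w ∈ B, (g * a * g⁻¹) * w ∈ conjugatesOf (a * b) := by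
    intro g w hw
    obtain ⟨k, hk⟩ := mem_conjugatesOf'.1 hw
    obtain ⟨t, ht1, ht2⟩ := exists_conj_pair hcop g k
    exact mem_conjugatesOf'.2 ⟨t, by rw [← conj_mul, ht1, ht2, hk]⟩
  have himg : (fun w => a * w) '' B = conjugatesOf (a * b) := by
    refine Set.eq_of_subset_of_ncard_le ?_ ?_ (Set.toFinite _)
    · rintro _ ⟨w, hw, rfl⟩
      simpa using hmem 1 w hw
    · rw [Set.ncard_image_of_injective _ (mul_right_injective a), ← Nat.card_coe_set_eq,
        ← Nat.card_coe_set_eq, natCard_conjugatesOf, natCard_conjugatesOf, hab]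
  have hstab : ∀ d ∈ diffGroup a, ∀ w ∈ B, d * w ∈ B := by
    intro d hd
    induction hd using Subgroup.closure_induction with
    | mem d hd =>
      obtain ⟨g, rfl⟩ := hd
      intro w hw
      obtain ⟨w', hw', he⟩ := himg.ge (hmem g w hw)
      show a⁻¹ * (g * a * g⁻¹) * w ∈ B
      rw [mul_assoc, ← he, inv_mul_cancel_left]; exact hw'
    | one => intro w hw; rwa [one_mul]
    | mul d e _ _ ihd ihe => intro w hw; rw [mul_assoc]; exact ihd _ (ihe w hw)
    | inv d _ ih =>
      intro w hw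
      have h1 : (fun w => d * w) '' B = B :=
        Set.eq_of_subset_of_ncard_le (by rintro _ ⟨w, hw, rfl⟩; exact ih w hw)
          (by rw [Set.ncard_image_of_injective _ (mul_right_injective d)]) (Set.toFinite _)
      obtain ⟨w', hw', he⟩ := h1.ge hw
      rw [← he, inv_mul_cancel_left]; exact hw'
  set D := diffGroup a
  let T : Set (G ⧸ D) := QuotientGroup.mk '' B
  have hB : QuotientGroup.mk ⁻¹' T = B := by
    refine Set.Subset.antisymm ?_ fun w hw => ⟨w, hw, rfl⟩
    rintro w ⟨w', hw', he⟩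
    have h1 : w * w'⁻¹ ∈ D := by
      have := Subgroup.Normal.conj_mem inferInstance _ (QuotientGroup.eq.1 he) w'
      rwa [mul_inv_cancel_left] at this
    have h2 := hstab _ h1 w' hw'
    rwa [inv_mul_cancel_right] at h2
  rw [← natCard_conjugatesOf b]
  show _ ∣ Nat.card B
  rw [← hB, Nat.card_congr (QuotientGroup.preimageMkEquivSubgroupProdSet D T), Nat.card_prod]
  exact dvd_mul_right _ _

theorem diff_le_C {a : G} (hcop : (Nat.card (diffGroup a)).Coprime (𝐂 a).index) (g : G) :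
    diffGroup a ≤ 𝐂 (g * a * g⁻¹) := by
  refine Subgroup.relIndex_eq_one.1 (Nat.eq_one_of_dvd_coprimes hcop
    (Subgroup.relIndex_dvd_card _ _) ?_)
  rw [← index_centralizer_conj g a]
  exact Lib.PGroups.relIndex_dvd_index_of_normal_right _ _

theorem diff_comm {a : G} (hcop : (Nat.card (diffGroup a)).Coprime (𝐂 a).index) {d e : G}
    (hd : d ∈ diffGroup a) (he : e ∈ diffGroup a) : d * e = e * d := by
  have : diffGroup a ≤ 𝐂 e := fun d hd => by
    induction he using Subgroup.closure_induction with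
    | mem e he =>
      obtain ⟨g, rfl⟩ := he
      have h1 := mem_C.1 (diff_le_C hcop 1 hd)
      rw [one_mul, inv_one, mul_one] at h1
      exact mem_C.2 ((show Commute d a from h1).inv_right.mul_right (mem_C.1 (diff_le_C hcop g hd))).eq
    | one => exact mem_C.2 (Commute.one_right d).eq
    | mul e f _ _ ihe ihf => exact mem_C.2 ((show Commute d e from mem_C.1 ihe).mul_right (mem_C.1 ihf)).eq
    | inv e _ ih => exact mem_C.2 (show Commute d e from mem_C.1 ih).inv_right.eq
  exact mem_C.1 (this hd)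

/-- The hypotheses. -/
structure Setup (G : Type*) [Group G] (m n : ℕ) (x y : G) : Prop where
  hmn : n < m
  hn : 1 < n
  hcop : m.Coprime n
  htop : ∀ z : G, (Subgroup.centralizer ({z} : Set G)).index ≤ m
  hsecond : ∀ z : G, (Subgroup.centralizer ({z} : Set G)).index < m →
    (Subgroup.centralizer ({z} : Set G)).index ≤ n
  hx : (Subgroup.centralizer ({x} : Set G)).index = n
  hy : (Subgroup.centralizer ({y} : Set G)).index = m

variable {m n : ℕ} {x y : G}

theorem Setup.dvd_x (S : Setup G m n x y) : Nat.card (diffGroup x) ∣ m := by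
  have hc : (𝐂 x).index.Coprime (𝐂 y).index := by rw [S.hx, S.hy]; exact S.hcop.symm
  rw [← S.hy]
  refine diff_card_dvd hc (le_antisymm ((S.htop _).trans_eq S.hy.symm) (index_le_index_mul hc).1)

/-- A noncentral element has class size not properly dividing `m`. -/
theorem Setup.index_eq_of_dvd (S : Setup G m n x y) {b : G} (hb : (𝐂 b).index ∣ m)
    (hbc : b ∉ 𝐙) : (𝐂 b).index = m := by
  by_contra hne
  have hm0 : 0 < m := lt_trans (lt_trans zero_lt_one S.hn) S.hmn
  have hdlt : (𝐂 b).index < m := lt_of_le_of_ne (S.htop b) hne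
  have hc : (𝐂 x).index.Coprime (𝐂 b).index := by
    rw [S.hx]; exact Nat.Coprime.coprime_dvd_right hb S.hcop.symm
  have he : (𝐂 (x * b)).index = n := by
    have h1 := (index_le_index_mul hc).2
    have h2 := index_mul_dvd hc
    rw [S.hx] at h1 h2
    rcases (S.htop (x * b)).eq_or_lt with h | h
    · rw [h] at h2
      exact absurd (le_antisymm (S.htop b) (Nat.le_of_dvd (Nat.pos_of_ne_zero
        Subgroup.index_ne_zero_of_finite) (S.hcop.dvd_of_dvd_mul_left h2))) hne
    · exact le_antisymm (S.hsecond _ h) h1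
  have hbx : (𝐂 (b * x)).index = n := by
    rw [← he, ← index_centralizer_conj x⁻¹ (x * b)]; congr 4; group
  have hHb : Nat.card (diffGroup b) ∣ n := S.hx ▸ diff_card_dvd hc.symm (hbx.trans S.hx.symm)
  have hle : 𝐂 (x * b) ≤ 𝐂 x ⊓ 𝐂 b := by
    intro u hu
    have hu' : (u * x * u⁻¹) * (u * b * u⁻¹) = x * b := by
      rw [conj_mul, mul_inv_eq_iff_eq_mul]; exact mem_C.1 hu
    set x' := u * x * u⁻¹
    set b' := u * b * u⁻¹
    have h1 : x⁻¹ * x' = b * (b⁻¹ * b')⁻¹ * b⁻¹ := by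
      calc x⁻¹ * x' = x⁻¹ * (x' * b') * b'⁻¹ := by group
        _ = _ := by rw [hu']; group
    have h2 : x⁻¹ * x' ∈ diffGroup x ⊓ diffGroup b :=
      ⟨diff_mem x u, h1 ▸ Subgroup.Normal.conj_mem inferInstance _ (inv_mem (diff_mem b u)) b⟩
    rw [Subgroup.inf_eq_bot_of_coprime
      ((S.hcop.coprime_dvd_left S.dvd_x).coprime_dvd_right hHb), Subgroup.mem_bot] at h2
    have hux : u ∈ 𝐂 x := mem_C.2 (mul_inv_eq_iff_eq_mul.1 (inv_mul_eq_one.1 h2).symm)
    refine ⟨hux, mem_C.2 (mul_inv_eq_iff_eq_mul.1 ?_)⟩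
    rw [show x' = x from (inv_mul_eq_one.1 h2).symm] at hu'
    exact mul_left_cancel hu'
  have h3 := Subgroup.index_dvd_of_le hle
  rw [index_inf_eq_mul hc, he, S.hx] at h3
  have h4 : (𝐂 b).index ∣ 1 :=
    Nat.dvd_of_mul_dvd_mul_left (lt_trans zero_lt_one S.hn) (by rwa [mul_one])
  exact hbc (center_of_index_eq_one (Nat.dvd_one.1 h4))

/-- An element of class size prime to `m` lies in `Z(G) diffGroup a`, and `|diffGroup a| ∣ m`. -/
theorem Setup.decomp (S : Setup G m n x y) {a : G} (ha : (𝐂 a).index.Coprime m) :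
    Nat.card (diffGroup a) ∣ m ∧ ∃ z ∈ 𝐙, ∃ h ∈ diffGroup a, a = z * h := by
  classical
  have hc : (𝐂 a).index.Coprime (𝐂 y).index := by rwa [S.hy]
  have hHm : Nat.card (diffGroup a) ∣ m := by
    rw [← S.hy]
    exact diff_card_dvd hc (le_antisymm ((S.htop _).trans_eq S.hy.symm) (index_le_index_mul hc).1)
  refine ⟨hHm, ?_⟩
  set D := diffGroup a with hD
  have hcopD : (Nat.card D).Coprime (𝐂 a).index := (ha.coprime_dvd_right hHm).symm
  letI : CommGroup D := { (inferInstance : Group D) with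
    mul_comm := fun d e => Subtype.ext (diff_comm hcopD d.2 e.2) }
  haveI := Fintype.ofFinite (conjugatesOf a)
  set d := Fintype.card (conjugatesOf a) with hd
  have hdC : d = (𝐂 a).index := by rw [hd, ← Nat.card_eq_fintype_card, natCard_conjugatesOf]
  let f : conjugatesOf a → D := fun b => ⟨a⁻¹ * b, by
    obtain ⟨g, hg⟩ := mem_conjugatesOf'.1 b.2
    rw [← hg]; exact diff_mem a g⟩
  let P : D := ∏ b, f b
  set h0 : D := (powCoprime hcopD).symm P with hh0
  have hh0P : h0 ^ d = P := by rw [hdC]; exact (powCoprime hcopD).apply_symm_apply P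
  have hfix : ∀ u ∈ 𝐂 y, u * (a * h0) * u⁻¹ = a * h0 := by
    intro u _
    let σ : conjugatesOf a ≃ conjugatesOf a :=
      { toFun := fun b => ⟨u * b * u⁻¹, mem_conjugatesOf'.2 (by
          obtain ⟨g, hg⟩ := mem_conjugatesOf'.1 b.2
          exact ⟨u * g, by rw [← hg]; group⟩)⟩
        invFun := fun b => ⟨u⁻¹ * b * u, mem_conjugatesOf'.2 (by
          obtain ⟨g, hg⟩ := mem_conjugatesOf'.1 b.2
          exact ⟨u⁻¹ * g, by rw [← hg]; group⟩)⟩
        left_inv := fun b => Subtype.ext (by show u⁻¹ * (u * b * u⁻¹) * u = b; group)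
        right_inv := fun b => Subtype.ext (by show u * (u⁻¹ * b * u) * u⁻¹ = b; group) }
    let δ : D := ⟨a⁻¹ * (u * a * u⁻¹), diff_mem a u⟩
    have h1 : ∀ b, f (σ b) = δ * MulAut.conjNormal u (f b) := fun b => Subtype.ext (by
      show a⁻¹ * (u * b * u⁻¹) = a⁻¹ * (u * a * u⁻¹) * (u * (a⁻¹ * b) * u⁻¹)
      group)
    have h2 : P = δ ^ d * MulAut.conjNormal u P := by
      conv_lhs => rw [show P = ∏ b, f b from rfl, ← Equiv.prod_comp σ]
      simp only [h1, Finset.prod_mul_distrib, Finset.prod_const, Finset.card_univ, ← map_prod]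
      rfl
    have h3 : δ * MulAut.conjNormal u h0 = h0 := by
      apply (powCoprime hcopD).injective
      simp only [powCoprime_apply, ← hdC, mul_pow, ← map_pow, hh0P]
      exact h2.symm
    have h4 : a⁻¹ * (u * a * u⁻¹) * (u * (h0 : G) * u⁻¹) = h0 := congrArg Subtype.val h3
    calc u * (a * h0) * u⁻¹ = a * (a⁻¹ * (u * a * u⁻¹) * (u * (h0 : G) * u⁻¹)) := by group
      _ = a * h0 := by rw [h4]
  have hle : 𝐂 y ≤ 𝐂 (a * h0) := fun u hu => mem_C.2 (mul_inv_eq_iff_eq_mul.1 (hfix u hu))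
  have hcen : a * (h0 : G) ∈ 𝐙 := by
    by_contra hnc
    have hm := S.index_eq_of_dvd (S.hy ▸ Subgroup.index_dvd_of_le hle) hnc
    -- the class of `a h0` lies in the coset `a D`
    have hsub : conjugatesOf (a * (h0 : G)) ⊆ (fun w => a * w) '' (D : Set G) := by
      intro w hw
      obtain ⟨g, rfl⟩ := mem_conjugatesOf'.1 hw
      refine ⟨a⁻¹ * (g * a * g⁻¹) * (g * (h0 : G) * g⁻¹), D.mul_mem (diff_mem a g)
        (Subgroup.Normal.conj_mem inferInstance _ h0.2 g), ?_⟩
      group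
    have heq : conjugatesOf (a * (h0 : G)) = (fun w => a * w) '' (D : Set G) := by
      refine Set.eq_of_subset_of_ncard_le hsub ?_ (Set.toFinite _)
      rw [Set.ncard_image_of_injective _ (mul_right_injective a), ← Nat.card_coe_set_eq,
        ← Nat.card_coe_set_eq, natCard_conjugatesOf, hm]
      exact Nat.le_of_dvd (lt_trans (lt_trans zero_lt_one S.hn) S.hmn) hHm
    have hamem : a ∈ conjugatesOf (a * (h0 : G)) := heq ▸ ⟨1, D.one_mem, mul_one a⟩
    obtain ⟨g, hg⟩ := mem_conjugatesOf'.1 hamem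
    have hidx : (𝐂 a).index = m := by
      rw [← hm, ← index_centralizer_conj g (a * (h0 : G)), hg]
    rw [hidx, Nat.coprime_self] at ha
    have := S.hmn; have := S.hn; omega
  refine ⟨a * h0, hcen, (h0 : G)⁻¹, D.inv_mem h0.2, ?_⟩
  rw [mul_inv_cancel_right]

theorem exists_prime_elem {K : Subgroup G} {s : ℕ} [Fact s.Prime] (hs : s ∣ (𝐙).relIndex K) :
    ∃ c ∈ K, c ∉ 𝐙 ∧ c ^ s ∈ 𝐙 := by
  obtain ⟨q, hq⟩ := exists_prime_orderOf_dvd_card' (G := K ⧸ (𝐙).subgroupOf K) s hs
  obtain ⟨c, rfl⟩ := QuotientGroup.mk_surjective q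
  refine ⟨c, c.2, fun hc => ?_, ?_⟩
  · rw [(QuotientGroup.eq_one_iff c).2 (Subgroup.mem_subgroupOf.2 hc), orderOf_one] at hq
    exact (Fact.out : s.Prime).ne_one hq.symm
  · have := pow_orderOf_eq_one ((c : K) : K ⧸ (𝐙).subgroupOf K)
    rw [hq, ← QuotientGroup.mk_pow, QuotientGroup.eq_one_iff] at this
    exact this

theorem pow_relIndex_mem {K : Subgroup G} {c : G} (hc : c ∈ K) : c ^ (𝐙).relIndex K ∈ 𝐙 := by
  have := pow_card_eq_one' (x := ((⟨c, hc⟩ : K) : K ⧸ (𝐙).subgroupOf K))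
  rw [← QuotientGroup.mk_pow, QuotientGroup.eq_one_iff] at this
  exact this

theorem coprime_of_forall_prime {a b : ℕ}
    (h : ∀ s, s.Prime → s ∣ a → ¬ s ∣ b) : a.Coprime b := by
  by_contra hne
  obtain ⟨s, hs, hd⟩ := Nat.exists_prime_and_dvd hne
  exact h s hs (hd.trans (Nat.gcd_dvd_left _ _)) (hd.trans (Nat.gcd_dvd_right _ _))

theorem Setup.main (S : Setup G m n x y) :
    IsMulCommutative (𝐂 x) ∧ IsMulCommutative (𝐂 y) ∧
    Cfsg.IsFrobeniusComplement ((𝐂 y).map (QuotientGroup.mk' 𝐙)) ∧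
    Cfsg.frobeniusKernel ((𝐂 y).map (QuotientGroup.mk' 𝐙)) =
      ((𝐂 x).map (QuotientGroup.mk' 𝐙) : Set (G ⧸ 𝐙)) := by
  classical
  have hm0 : 0 < m := lt_trans (lt_trans zero_lt_one S.hn) S.hmn
  have hnm : ¬ n ∣ m := fun hd => by
    have := Nat.eq_one_of_dvd_coprimes S.hcop hd dvd_rfl
    have := S.hn; omega
  -- the primary element of class size `n`
  obtain ⟨hHm, z0, hz0, h, hhD, hxzh⟩ := S.decomp (a := x) (by rw [S.hx]; exact S.hcop.symm)
  set D := diffGroup x
  have hcopD : (Nat.card D).Coprime (𝐂 x).index := by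
    rw [S.hx]; exact S.hcop.coprime_dvd_left hHm
  have hxh : 𝐂 x = 𝐂 h := by
    ext u
    have hu := (Subgroup.mem_center_iff.1 hz0 u)
    rw [mem_C, mem_C, hxzh, ← mul_assoc, hu, mul_assoc, mul_assoc, mul_right_inj]
  have hidxh : (𝐂 h).index = n := hxh ▸ S.hx
  have hhm : h ^ m = 1 := by
    obtain ⟨k, hk⟩ := hHm
    have := congrArg Subtype.val (pow_card_eq_one' (x := (⟨h, hhD⟩ : D)))
    simp only [SubmonoidClass.coe_pow, OneMemClass.coe_one] at this
    rw [hk, pow_mul, this, one_pow]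
  have hhZ : h ^ m ∈ 𝐙 := hhm ▸ one_mem _
  set X := 𝐂 x with hX
  have hZX : 𝐙 ≤ X := center_le x
  have hDX : D ≤ X := fun d hd => by simpa using diff_le_C hcopD 1 hd
  -- step 2: no element of `X` of order prime to `m` modulo the centre
  have step2 : ∀ c ∈ X, ∀ N : ℕ, c ^ N ∈ 𝐙 → N.Coprime m → c ∈ 𝐙 := by
    intro c hcX N hcN hN
    by_contra hcc
    have hhc : Commute h c := (mem_C.1 (hxh ▸ hcX : c ∈ 𝐂 h)).symm
    have hle := C_mul_le hhc hhZ hcN hN
    have hge : 𝐂 h ⊓ 𝐂 c ≤ 𝐂 (h * c) := fun v hv =>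
      mem_C.2 ((show Commute v h from mem_C.1 hv.1).mul_right (mem_C.1 hv.2)).eq
    have heq : 𝐂 (h * c) = 𝐂 h ⊓ 𝐂 c := le_antisymm hle hge
    have hnd : n ∣ (𝐂 (h * c)).index := by
      rw [← hidxh, heq]; exact Subgroup.index_dvd_of_le inf_le_left
    have hidx : (𝐂 (h * c)).index = n := by
      rcases (S.htop (h * c)).eq_or_lt with h1 | h1
      · exact absurd (h1 ▸ hnd) hnm
      · exact le_antisymm (S.hsecond _ h1)
          (Nat.le_of_dvd (Nat.pos_of_ne_zero Subgroup.index_ne_zero_of_finite) hnd)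
    have hle2 : 𝐂 h ≤ 𝐂 c := by
      have h5 : 𝐂 h ⊓ 𝐂 c = 𝐂 h := by
        refine Subgroup.eq_of_le_of_card_ge inf_le_left (le_of_eq ?_)
        refine mul_left_cancel₀ (Subgroup.index_ne_zero_of_finite (H := 𝐂 h)) ?_
        rw [Subgroup.index_mul_card, hidxh, ← hidx, heq, Subgroup.index_mul_card]
      exact h5 ▸ inf_le_right
    obtain ⟨hHc, z, hz, d, hd, hczd⟩ := S.decomp (a := c)
      ((Nat.Coprime.coprime_dvd_left (hidxh ▸ Subgroup.index_dvd_of_le hle2) S.hcop.symm))
    have hdm : c ^ m ∈ 𝐙 := by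
      obtain ⟨k, hk⟩ := hHc
      have h1 := congrArg Subtype.val (pow_card_eq_one' (x := (⟨d, hd⟩ : diffGroup c)))
      simp only [SubmonoidClass.coe_pow, OneMemClass.coe_one] at h1
      rw [hczd, (show Commute z d from (Subgroup.mem_center_iff.1 hz d).symm).mul_pow, hk,
        pow_mul d, h1, one_pow, mul_one]
      exact pow_mem hz _
    exact hcc (mem_of_pow_mem hcN hdm hN)
  set r := (𝐙).relIndex X with hr
  have hrm : ∀ s, s.Prime → s ∣ r → s ∣ m := by
    intro s hs hsr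
    by_contra hsm
    haveI := Fact.mk hs
    obtain ⟨c, hc, hcc, hcs⟩ := exists_prime_elem hsr
    exact hcc (step2 c hc s hcs ((hs.coprime_iff_not_dvd).2 hsm))
  have hrN : ∀ N : ℕ, N.Coprime m → N.Coprime r := fun N hN =>
    coprime_of_forall_prime fun s hs h1 h2 =>
      hs.not_dvd_one (hN.gcd_eq_one ▸ Nat.dvd_gcd h1 (hrm s hs h2))
  -- replace `y` by a `π'`-element with the same centraliser
  obtain ⟨y', hy'C, N, hyN, hN⟩ :
      ∃ y' : G, 𝐂 y' = 𝐂 y ∧ ∃ N : ℕ, y' ^ N ∈ 𝐙 ∧ N.Coprime m := by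
    set o := orderOf (QuotientGroup.mk' 𝐙 y) with ho
    have hyo : y ^ o ∈ 𝐙 := (QuotientGroup.eq_one_iff (y ^ o)).1
      ((map_pow (QuotientGroup.mk' 𝐙) y o).trans (pow_orderOf_eq_one _))
    by_cases hs : ∃ s, s.Prime ∧ s ∣ o ∧ ¬ s ∣ m
    · obtain ⟨s, hs, hso, hsm⟩ := hs
      set y2 := y ^ (o / s)
      have hy2 : y2 ∉ 𝐙 := fun hmem => by
        have h1 : QuotientGroup.mk' 𝐙 y ^ (o / s) = 1 := by
          rw [← map_pow]; exact (QuotientGroup.eq_one_iff _).2 hmem
        have h2 := Nat.le_of_dvd (Nat.div_pos (Nat.le_of_dvd (orderOf_pos _) hso) hs.pos)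
          (orderOf_dvd_of_pow_eq_one h1)
        exact absurd (Nat.div_lt_self (orderOf_pos _) hs.one_lt) h2.not_gt
      have hle : 𝐂 y ≤ 𝐂 y2 := fun u hu =>
        mem_C.2 ((show Commute u y from mem_C.1 hu).pow_right _).eq
      have hidx := S.index_eq_of_dvd (S.hy ▸ Subgroup.index_dvd_of_le hle) hy2
      refine ⟨y2, (Subgroup.eq_of_le_of_card_ge hle (le_of_eq ?_)).symm, s, ?_,
        (hs.coprime_iff_not_dvd).2 hsm⟩
      · refine mul_left_cancel₀ (Subgroup.index_ne_zero_of_finite (H := 𝐂 y2)) ?_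
        conv_lhs => rw [Subgroup.index_mul_card]
        rw [hidx, ← S.hy, Subgroup.index_mul_card]
      · rw [← pow_mul, Nat.div_mul_cancel hso]; exact hyo
    · push Not at hs
      obtain ⟨q, hq, hqn⟩ := Nat.exists_prime_and_dvd (n := n) (by have := S.hn; omega)
      haveI := Fact.mk hq
      have hqm : q.Coprime m := Nat.Coprime.coprime_dvd_left hqn S.hcop.symm
      have hqY : q ∣ (𝐙).relIndex (𝐂 y) := by
        have h1 := Subgroup.relIndex_mul_index (center_le y)
        have h2 := Subgroup.relIndex_mul_index hZX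
        rw [S.hy] at h1; rw [S.hx] at h2
        refine hqm.dvd_of_dvd_mul_right (?_ : q ∣ _ * m)
        rw [h1, ← h2]; exact hqn.mul_left _
      obtain ⟨c, hcY, hcc, hcq⟩ := exists_prime_elem hqY
      have hqo : q.Coprime o := (hq.coprime_iff_not_dvd).2 fun hd =>
        hq.not_dvd_one (hqm.gcd_eq_one ▸ Nat.dvd_gcd dvd_rfl (hs q hq hd))
      have hyc : Commute y c := (mem_C.1 hcY).symm
      have hle := C_mul_le hyc hyo hcq hqo
      have heq : 𝐂 (y * c) = 𝐂 y := by
        refine Subgroup.eq_of_le_of_card_ge (hle.trans inf_le_left) ?_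
        refine Nat.le_of_mul_le_mul_left (?_ : m * _ ≤ m * _) hm0
        calc m * Nat.card (𝐂 y) = Nat.card G := by rw [← S.hy]; exact Subgroup.index_mul_card _
          _ = (𝐂 (y * c)).index * Nat.card (𝐂 (y * c)) := (Subgroup.index_mul_card _).symm
          _ ≤ m * Nat.card (𝐂 (y * c)) := Nat.mul_le_mul_right _ (S.htop _)
      have hle2 : 𝐂 y ≤ 𝐂 c := heq ▸ hle.trans inf_le_right
      have hidx := S.index_eq_of_dvd (S.hy ▸ Subgroup.index_dvd_of_le hle2) hcc
      refine ⟨c, (Subgroup.eq_of_le_of_card_ge hle2 (le_of_eq ?_)).symm, q, hcq, hqm⟩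
      refine mul_left_cancel₀ (Subgroup.index_ne_zero_of_finite (H := 𝐂 c)) ?_
      conv_lhs => rw [Subgroup.index_mul_card]
      rw [hidx, ← S.hy, Subgroup.index_mul_card]
  set Y := 𝐂 y with hY
  have hXY : X.index.Coprime Y.index := by rw [S.hx, S.hy]; exact S.hcop.symm
  have hinfidx : (X ⊓ Y).index = n * m := by rw [index_inf_eq_mul hXY, S.hx, S.hy]
  have hD : X ⊓ Y = 𝐙 := by
    refine le_antisymm (fun v hv => ?_) (le_inf hZX (center_le y))
    by_contra hvc
    have hvy : Commute y' v := (mem_C.1 (hy'C.symm ▸ hv.2 : v ∈ 𝐂 y')).symm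
    have hle := C_mul_le hvy.symm (pow_relIndex_mem hv.1) hyN (hrN N hN)
    rw [hy'C] at hle
    have heq : 𝐂 (v * y') = Y := by
      refine Subgroup.eq_of_le_of_card_ge (hle.trans inf_le_right) ?_
      refine Nat.le_of_mul_le_mul_left (?_ : m * _ ≤ m * _) hm0
      calc m * Nat.card Y = Nat.card G := by rw [← S.hy]; exact Subgroup.index_mul_card _
        _ = (𝐂 (v * y')).index * Nat.card (𝐂 (v * y')) := (Subgroup.index_mul_card _).symm
        _ ≤ m * Nat.card (𝐂 (v * y')) := Nat.mul_le_mul_right _ (S.htop _)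
    have hle2 : Y ≤ 𝐂 v := heq ▸ hle.trans inf_le_left
    have hidx := S.index_eq_of_dvd (S.hy ▸ Subgroup.index_dvd_of_le hle2) hvc
    have hCv : 𝐂 v = Y := by
      refine (Subgroup.eq_of_le_of_card_ge hle2 (le_of_eq ?_)).symm
      refine mul_left_cancel₀ (Subgroup.index_ne_zero_of_finite (H := 𝐂 v)) ?_
      conv_lhs => rw [Subgroup.index_mul_card]
      rw [hidx, ← S.hy, Subgroup.index_mul_card]
    have hhY : h ∈ Y := by
      rw [← hCv]; exact mem_C_comm (hxh ▸ hv.1 : v ∈ 𝐂 h)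
    have hhy : Commute h y' := mem_C.1 (hy'C.symm ▸ hhY : h ∈ 𝐂 y')
    have hle3 := C_mul_le hhy hhZ hyN hN
    rw [hy'C, ← hxh] at hle3
    have h1 := Subgroup.index_dvd_of_le hle3
    rw [hinfidx] at h1
    have h2 := Nat.le_of_dvd (Nat.pos_of_ne_zero Subgroup.index_ne_zero_of_finite) h1
    have h3 : n * m ≤ 1 * m := by rw [one_mul]; exact h2.trans (S.htop _)
    have := Nat.le_of_mul_le_mul_right h3 hm0
    have := S.hn; omega
  have hZidx : (𝐙).index = n * m := hD ▸ hinfidx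
  have hrX : r = m := by
    have h2 := Subgroup.relIndex_mul_index hZX
    rw [S.hx, hZidx, mul_comm n m] at h2
    exact Nat.eq_of_mul_eq_mul_right (lt_trans zero_lt_one S.hn) h2
  have hrC : ∀ g : G, (𝐂 g).index = m → (𝐙).relIndex (𝐂 g) = n := fun g hg => by
    have h2 := Subgroup.relIndex_mul_index (center_le g)
    rw [hg, hZidx] at h2
    exact Nat.eq_of_mul_eq_mul_right hm0 h2
  have hpow : ∀ g : G, g ^ (n * m) ∈ 𝐙 := fun g => by
    have := pow_relIndex_mem (K := ⊤) (Subgroup.mem_top g)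
    rwa [Subgroup.relIndex_top_right, hZidx] at this
  have hselfpow : ∀ g : G, (𝐂 g).index = m → g ^ n ∈ 𝐙 := fun g hg =>
    hrC g hg ▸ pow_relIndex_mem (K := 𝐂 g) (mem_C.2 rfl)
  -- step 3
  have step3 : ∀ c : G, ∀ N : ℕ, c ^ N ∈ 𝐙 → N.Coprime m → c ∉ 𝐙 → (𝐂 c).index = m := by
    intro c N hcN hN hcc
    letI : CommGroup D := { (inferInstance : Group D) with
      mul_comm := fun d e => Subtype.ext (diff_comm hcopD d.2 e.2) }
    let φ : D →* D := (MulAut.conjNormal c : MulAut D).toMonoidHom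
    let θ : D →* D := φ / MonoidHom.id D
    have hθ : ∀ w : D, ((θ w : D) : G) = c * w * c⁻¹ * (w : G)⁻¹ := fun w => by
      simp [θ, φ, div_eq_mul_inv]
    have hker : ∀ w : D, θ w = 1 ↔ (w : G) ∈ 𝐂 c := fun w => by
      rw [Subtype.ext_iff, hθ, OneMemClass.coe_one, mul_inv_eq_one, mul_inv_eq_iff_eq_mul, mem_C,
        eq_comm]
    have hND : N.Coprime (Nat.card D) := Nat.Coprime.coprime_dvd_right hHm hN
    have hdisj : Disjoint θ.ker θ.range := by
      rw [Subgroup.disjoint_def]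
      rintro w hw ⟨e, rfl⟩
      set w := θ e
      have hwc : Commute c (w : G) := (mem_C.1 ((hker w).1 (MonoidHom.mem_ker.1 hw))).symm
      have hit : ∀ i : ℕ, c ^ i * (e : G) * (c ^ i)⁻¹ = (w : G) ^ i * e := by
        intro i
        induction i with
        | zero => simp
        | succ i ih =>
          have h1 : c * (e : G) * c⁻¹ = (w : G) * e := by
            rw [show (w : G) = c * e * c⁻¹ * (e : G)⁻¹ from hθ e, inv_mul_cancel_right]
          calc c ^ (i + 1) * (e : G) * (c ^ (i + 1))⁻¹ = c * (c ^ i * (e : G) * (c ^ i)⁻¹) * c⁻¹ := by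
                rw [pow_succ']; group
            _ = (w : G) ^ i * (c * (e : G) * c⁻¹) := by
                rw [ih, ← mul_assoc c, (hwc.pow_right i).eq]; group
            _ = (w : G) ^ (i + 1) * e := by rw [h1, pow_succ, mul_assoc]
      have h2 := hit N
      rw [← Subgroup.mem_center_iff.1 hcN (e : G), mul_inv_cancel_right, eq_comm, mul_eq_right] at h2
      have h3 : w ^ N = 1 := Subtype.ext (by simpa using h2)
      exact orderOf_eq_one_iff.1 (Nat.eq_one_of_dvd_coprimes hND (orderOf_dvd_of_pow_eq_one h3)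
        (orderOf_dvd_natCard w))
    have hcard : Nat.card θ.ker * Nat.card θ.range = Nat.card D := by
      rw [← Subgroup.index_ker, Subgroup.card_mul_index]
    obtain ⟨⟨u, w⟩, huw⟩ := ((Nat.bijective_iff_injective_and_card
      (fun p : θ.ker × θ.range => (p.1 : D) * p.2)).2
      ⟨Subgroup.mul_injective_of_disjoint hdisj, by rw [Nat.card_prod, hcard]⟩).2 ⟨h, hhD⟩
    have huw' : h = ((u : D) : G) * ((w : D) : G) := (congrArg Subtype.val huw).symm
    have huc : ((u : D) : G) ∈ 𝐂 c := (hker u).1 (MonoidHom.mem_ker.1 u.2)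
    have hum : ((u : D) : G) ^ m = 1 := by
      obtain ⟨k, hk⟩ := hHm
      have := congrArg Subtype.val (pow_card_eq_one' (x := (u : D)))
      simp only [SubmonoidClass.coe_pow, OneMemClass.coe_one] at this
      rw [hk, pow_mul, this, one_pow]
    set g := ((u : D) : G) * c
    have hCg : 𝐂 g ≤ 𝐂 (u : D).1 ⊓ 𝐂 c := C_mul_le (mem_C.1 huc) (hum ▸ one_mem _) hcN hN
    have hgidx : (𝐂 g).index = m := by
      by_contra hne
      set A := 𝐂 g ⊓ X
      have hv : ∀ v ∈ 𝐂 g, ∃ w' : θ.range, w' ≠ 1 ∧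
          v * h * v⁻¹ = ((u : D) : G) * ((w' : D) : G) := by
        intro v hv
        obtain ⟨hvu, hvc⟩ := hCg hv
        obtain ⟨e, he⟩ := w.2
        let w' : D := MulAut.conjNormal v (w : D)
        have hw' : w' ∈ θ.range := ⟨MulAut.conjNormal v e, Subtype.ext (by
          rw [hθ, MulAut.conjNormal_apply, MulAut.conjNormal_apply, ← he, hθ]
          have h1 : c * v = v * c := (mem_C.1 hvc).symm
          have h2 : v⁻¹ * c⁻¹ = c⁻¹ * v⁻¹ := by rw [← mul_inv_rev, ← mul_inv_rev, h1]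
          calc c * (v * (e : G) * v⁻¹) * c⁻¹ * (v * (e : G) * v⁻¹)⁻¹ =
              (c * v) * (e : G) * (v⁻¹ * c⁻¹) * (v * (e : G) * v⁻¹)⁻¹ := by group
            _ = _ := by rw [h1, h2]; group)⟩
        refine ⟨⟨w', hw'⟩, fun h1 => ?_, ?_⟩
        · have hvh : v * h * v⁻¹ = ((u : D) : G) := by
            have h2 : v * ((w : D) : G) * v⁻¹ = 1 := congrArg (fun t : θ.range => ((t : D) : G)) h1
            rw [huw', show v * (((u : D) : G) * ((w : D) : G)) * v⁻¹ =
              (v * ((u : D) : G) * v⁻¹) * (v * ((w : D) : G) * v⁻¹) by group, h2, mul_one,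
              mem_C.1 hvu, mul_inv_cancel_right]
          have hcX : c ∈ X := by
            rw [hxh, mem_C]
            have h3 : c * (v * h * v⁻¹) = v * h * v⁻¹ * c := by
              rw [hvh]; exact (mem_C.1 huc).symm
            have h4 : c * v = v * c := (mem_C.1 hvc).symm
            have h5 : v⁻¹ * c = c * v⁻¹ := by
              rw [inv_mul_eq_iff_eq_mul, ← mul_assoc, ← h4, mul_inv_cancel_right]
            refine mul_left_cancel (a := v) (mul_right_cancel (b := v⁻¹) ?_)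
            calc v * (c * h) * v⁻¹ = (v * c) * h * v⁻¹ := by group
              _ = c * (v * h * v⁻¹) := by rw [← h4]; group
              _ = v * h * v⁻¹ * c := h3
              _ = v * h * (c * v⁻¹) := by rw [← h5]; group
              _ = v * (h * c) * v⁻¹ := by group
          exact hcc (step2 c hcX N hcN hN)
        · show v * h * v⁻¹ = ((u : D) : G) * (v * ((w : D) : G) * v⁻¹)
          rw [huw', show v * (((u : D) : G) * ((w : D) : G)) * v⁻¹ =
            (v * ((u : D) : G) * v⁻¹) * (v * ((w : D) : G) * v⁻¹) by group,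
            mem_C.1 hvu, mul_inv_cancel_right]
      choose F hF1 hF2 using hv
      haveI := Fintype.ofFinite θ.range
      let F' : (𝐂 g) ⧸ A.subgroupOf (𝐂 g) → {t : θ.range // t ≠ 1} :=
        fun q => ⟨F q.out q.out.2, hF1 _ _⟩
      have hFinj : Function.Injective F' := by
        intro q q' he
        have h1 : F q.out q.out.2 = F q'.out q'.out.2 := congrArg Subtype.val he
        have h2 : (q.out : G) * h * (q.out : G)⁻¹ = (q'.out : G) * h * (q'.out : G)⁻¹ := by
          rw [hF2 _ q.out.2, hF2 _ q'.out.2, h1]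
        rw [← QuotientGroup.out_eq' q, ← QuotientGroup.out_eq' q']
        refine QuotientGroup.eq.2 (Subgroup.mem_subgroupOf.2 ⟨SetLike.coe_mem _, ?_⟩)
        rw [hxh]
        show ((q.out : G))⁻¹ * (q'.out : G) ∈ 𝐂 h
        rw [mem_C]
        calc ((q.out : G))⁻¹ * (q'.out : G) * h
            = ((q.out : G))⁻¹ * ((q'.out : G) * h * (q'.out : G)⁻¹) * (q'.out : G) := by group
          _ = h * (((q.out : G))⁻¹ * (q'.out : G)) := by rw [← h2]; group
      have hA1 : A.relIndex (𝐂 g) + 1 ≤ Nat.card θ.range := by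
        have h1 := Nat.card_le_card_of_injective F' hFinj
        rw [Nat.card_eq_fintype_card (α := {t : θ.range // t ≠ 1}), Fintype.card_subtype_compl,
          Fintype.card_subtype_eq] at h1
        rw [Nat.card_eq_fintype_card]
        have : 0 < Fintype.card θ.range := Fintype.card_pos
        show Nat.card ((𝐂 g) ⧸ A.subgroupOf (𝐂 g)) + 1 ≤ _
        omega
      have hA2 : Nat.card A * Nat.card D ≤ Nat.card θ.ker * Nat.card X := by
        have e1 : Nat.card (A ⊓ D : Subgroup G) * D.relIndex A = Nat.card A := by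
          rw [← Subgroup.inf_relIndex_left, ← Subgroup.relIndex_bot_left, ← Subgroup.relIndex_bot_left]
          exact Subgroup.relIndex_mul_relIndex _ _ _ bot_le inf_le_left
        have e2 : Nat.card D * D.relIndex X = Nat.card X := by
          rw [← Subgroup.relIndex_bot_left, ← Subgroup.relIndex_bot_left]
          exact Subgroup.relIndex_mul_relIndex _ _ _ bot_le hDX
        have e3 : Nat.card (A ⊓ D : Subgroup G) ≤ Nat.card θ.ker :=
          Nat.card_le_card_of_injective (fun t => ⟨⟨t, t.2.2⟩,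
            MonoidHom.mem_ker.2 ((hker _).2 (hCg t.2.1.1).2)⟩)
            fun s t e => Subtype.ext (congrArg (fun t : θ.ker => ((t : D) : G)) e)
        have e4 : D.relIndex A ≤ D.relIndex X :=
          Subgroup.relIndex_le_of_le_right inf_le_right Subgroup.index_ne_zero_of_finite
        calc Nat.card A * Nat.card D = Nat.card (A ⊓ D : Subgroup G) * D.relIndex A * Nat.card D := by
              rw [e1]
          _ ≤ Nat.card θ.ker * D.relIndex X * Nat.card D :=
              Nat.mul_le_mul_right _ (Nat.mul_le_mul e3 e4)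
          _ = Nat.card θ.ker * Nat.card X := by rw [← e2]; ring
      have hcg : Nat.card A * A.relIndex (𝐂 g) = Nat.card (𝐂 g) := by
        rw [← Subgroup.relIndex_bot_left, ← Subgroup.relIndex_bot_left]
        exact Subgroup.relIndex_mul_relIndex _ _ _ bot_le inf_le_left
      have hlt : Nat.card (𝐂 g) < Nat.card X := by
        have hDpos : 0 < Nat.card D := Nat.card_pos
        have hApos : 0 < Nat.card A := Nat.card_pos
        refine Nat.lt_of_mul_lt_mul_right (a := Nat.card D) ?_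
        calc Nat.card (𝐂 g) * Nat.card D = Nat.card A * Nat.card D * A.relIndex (𝐂 g) := by
              rw [← hcg]; ring
          _ < Nat.card A * Nat.card D * Nat.card θ.range :=
              Nat.mul_lt_mul_of_pos_left (by omega) (Nat.mul_pos hApos hDpos)
          _ ≤ Nat.card θ.ker * Nat.card X * Nat.card θ.range := Nat.mul_le_mul_right _ hA2
          _ = Nat.card X * Nat.card D := by rw [← hcard]; ring
      have hle : (𝐂 g).index ≤ n := S.hsecond _ (lt_of_le_of_ne (S.htop g) hne)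
      have h1 : Nat.card G ≤ n * Nat.card (𝐂 g) := by
        rw [← Subgroup.index_mul_card (𝐂 g)]; exact Nat.mul_le_mul_right _ hle
      have h2 : Nat.card G = n * Nat.card X := by rw [← S.hx]; exact (Subgroup.index_mul_card _).symm
      rw [h2] at h1
      exact hlt.not_ge (Nat.le_of_mul_le_mul_left h1 (lt_trans zero_lt_one S.hn))
    -- so `u` is central
    have hgn := hselfpow g hgidx
    have hcn : c ^ n ∈ 𝐙 := by
      have h1 := pow_gcd_mem hcN (hpow c)
      have h2 : Nat.gcd N (n * m) ∣ n :=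
        (Nat.Coprime.coprime_dvd_left (Nat.gcd_dvd_left _ _) hN).dvd_of_dvd_mul_right
          (Nat.gcd_dvd_right N (n * m))
      obtain ⟨k, hk⟩ := h2
      rw [hk, pow_mul]; exact pow_mem h1 k
    rw [(show Commute ((u : D) : G) c from mem_C.1 huc).mul_pow] at hgn
    have hun : ((u : D) : G) ^ n ∈ 𝐙 := (Subgroup.mul_mem_cancel_right _ hcn).1 hgn
    have huz : ((u : D) : G) ∈ 𝐙 := mem_of_pow_mem hun (hum ▸ one_mem _ : _ ^ m ∈ 𝐙) S.hcop.symm
    rw [← hgidx]
    congr 1
    ext v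
    rw [mem_C, mem_C, ← mul_assoc, ← (Subgroup.mem_center_iff.1 huz v).symm,
      mul_assoc ((u : D) : G), mul_assoc ((u : D) : G), mul_right_inj]
  -- step 4
  have step4 : ∀ v : G, v ^ m ∈ 𝐙 → v ∉ 𝐙 → v ∈ X ∧ 𝐂 v = X := by
    have base : ∀ v : G, v ^ m ∈ 𝐙 → v ∉ 𝐙 → (𝐂 v).index = n ∧ (𝐙).relIndex (𝐂 v) = m := by
      intro v hvm hvc
      have hne : (𝐂 v).index ≠ m := fun e =>
        hvc (mem_of_pow_mem (hselfpow v e) hvm S.hcop.symm)
      have hle : (𝐂 v).index ≤ n := S.hsecond _ (lt_of_le_of_ne (S.htop v) hne)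
      have h2 := Subgroup.relIndex_mul_index (center_le v)
      rw [hZidx] at h2
      set R := (𝐙).relIndex (𝐂 v)
      have hcopR : R.Coprime n := coprime_of_forall_prime fun q hq hqR hqn => by
        haveI := Fact.mk hq
        obtain ⟨c, hcv, hcc, hcq⟩ := exists_prime_elem hqR
        have hidx := step3 c q hcq (Nat.Coprime.coprime_dvd_left hqn S.hcop.symm) hcc
        have h3 : v ^ n ∈ 𝐙 := hrC c hidx ▸ pow_relIndex_mem (K := 𝐂 c) (mem_C_comm hcv)
        exact hvc (mem_of_pow_mem h3 hvm S.hcop.symm)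
      have hRm : R ∣ m := hcopR.dvd_of_dvd_mul_left ⟨(𝐂 v).index, h2.symm⟩
      have hRge : m ≤ R := by
        refine Nat.le_of_mul_le_mul_left (?_ : n * m ≤ n * R) (lt_trans zero_lt_one S.hn)
        rw [← h2, mul_comm n R]
        exact Nat.mul_le_mul_left R hle
      have hR : R = m := le_antisymm (Nat.le_of_dvd hm0 hRm) hRge
      refine ⟨?_, hR⟩
      rw [hR, mul_comm n m] at h2
      exact Nat.eq_of_mul_eq_mul_left hm0 h2
    have inX : ∀ v : G, v ^ m ∈ 𝐙 → v ∈ X := by
      intro v hvm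
      by_cases hvc : v ∈ 𝐙
      · exact hZX hvc
      obtain ⟨hHv, z, hz, d, hd, hvzd⟩ := S.decomp (a := v)
        (by rw [(base v hvm hvc).1]; exact S.hcop.symm)
      rw [hvzd]
      refine mul_mem (hZX hz) ?_
      set M := diffGroup v ⊔ X
      have e1 : Nat.card M = Nat.card (diffGroup v) * (diffGroup v).relIndex X := by
        rw [← Subgroup.relIndex_sup_left (H := X) (K := diffGroup v), ← Subgroup.relIndex_bot_left,
          ← Subgroup.relIndex_bot_left]
        exact (Subgroup.relIndex_mul_relIndex _ _ _ bot_le le_sup_left).symm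
      have e2 : Nat.card M ∣ Nat.card X * Nat.card (diffGroup v) := by
        rw [e1, mul_comm (Nat.card X)]
        exact Nat.mul_dvd_mul_left _ (Subgroup.relIndex_dvd_card _ _)
      have e3 : Nat.card M ∣ Nat.card X * n := by
        rw [mul_comm, ← S.hx, Subgroup.index_mul_card]; exact Subgroup.card_subgroup_dvd_card _
      have e4 : Nat.card M ∣ Nat.card X := by
        have := Nat.dvd_gcd e2 e3
        rwa [Nat.gcd_mul_left, (S.hcop.coprime_dvd_left hHv).gcd_eq_one, mul_one] at this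
      have e5 : X = M := Subgroup.eq_of_le_of_card_ge le_sup_right (Nat.le_of_dvd Nat.card_pos e4)
      exact e5.ge (Subgroup.mem_sup_left hd)
    intro v hvm hvc
    refine ⟨inX v hvm, ?_⟩
    obtain ⟨hidx, hR⟩ := base v hvm hvc
    refine Subgroup.eq_of_le_of_card_ge (fun w hw => inX w (hR ▸ pow_relIndex_mem (K := 𝐂 v) hw))
      (le_of_eq ?_)
    refine mul_left_cancel₀ (Subgroup.index_ne_zero_of_finite (H := X)) ?_
    conv_lhs => rw [Subgroup.index_mul_card]
    rw [S.hx, ← hidx, Subgroup.index_mul_card]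
  have hXpow : ∀ v ∈ X, v ^ m ∈ 𝐙 := fun v hv => hrX ▸ hr ▸ pow_relIndex_mem hv
  have hXcomm : ∀ v ∈ X, ∀ w ∈ X, v * w = w * v := by
    intro v hv w hw
    by_cases hvc : v ∈ 𝐙
    · exact (Subgroup.mem_center_iff.1 hvc w).symm
    · exact (mem_C.1 ((step4 v (hXpow v hv) hvc).2.symm ▸ hw : w ∈ 𝐂 v)).symm
  haveI hXn : X.Normal := ⟨fun v hv g => by
    by_cases hvc : v ∈ 𝐙
    · exact hZX (Subgroup.Normal.conj_mem inferInstance _ hvc g)
    · refine (step4 _ ?_ fun hc => hvc ?_).1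
      · rw [conj_pow]; exact Subgroup.Normal.conj_mem inferInstance _ (hXpow v hv) g
      · simpa [mul_assoc] using Subgroup.Normal.conj_mem inferInstance _ hc g⁻¹⟩
  have hprod : ∀ g : G, ∃ a ∈ X, ∃ b ∈ Y, g = a * b := exists_mul_of_coprime_index hXY
  have hYpow : ∀ b ∈ Y, b ^ n ∈ 𝐙 := fun b hb => hrC y S.hy ▸ pow_relIndex_mem (K := Y) hb
  have hcom : ∀ a c : G, ∀ z ∈ 𝐙, a * c * a⁻¹ = z * c → ∀ i : ℕ, a ^ i * c * (a ^ i)⁻¹ = z ^ i * c := by
    intro a c z hz he i
    induction i with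
    | zero => simp
    | succ i ih =>
      have hzi : a * z ^ i = z ^ i * a := Subgroup.mem_center_iff.1 (pow_mem hz i) a
      calc a ^ (i + 1) * c * (a ^ (i + 1))⁻¹ = a * (a ^ i * c * (a ^ i)⁻¹) * a⁻¹ := by
            rw [pow_succ']; group
        _ = z ^ i * (a * c * a⁻¹) := by rw [ih, ← mul_assoc a, hzi]; group
        _ = z ^ (i + 1) * c := by rw [he, pow_succ, mul_assoc]
  have hzpow : ∀ a c z : G, z ∈ 𝐙 → a * c * a⁻¹ = z * c → ∀ k : ℕ, a ^ k ∈ 𝐙 → z ^ k = 1 := by
    intro a c z hz he k hk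
    have := hcom a c z hz he k
    rw [(Subgroup.mem_center_iff.1 hk c).symm, mul_inv_cancel_right, eq_comm, mul_eq_right] at this
    exact this
  have hCc : ∀ c ∈ Y, c ∉ 𝐙 → 𝐂 c = Y := by
    intro c hcY hcc
    have hidx := step3 c n (hYpow c hcY) S.hcop.symm hcc
    have hle : 𝐂 c ≤ Y := by
      intro v hv
      obtain ⟨a, ha, b, hb, rfl⟩ := hprod v
      set z := b * c * b⁻¹ * c⁻¹ with hzdef
      have hab : a * b * c * (a * b)⁻¹ = c := mul_inv_eq_iff_eq_mul.2 (mem_C.1 hv)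
      have hbc : b * c * b⁻¹ = a⁻¹ * c * a := by
        calc b * c * b⁻¹ = a⁻¹ * (a * b * c * (a * b)⁻¹) * a := by group
          _ = a⁻¹ * c * a := by rw [hab]
      have hzX : z ∈ X := by
        rw [hzdef, hbc, show a⁻¹ * c * a * c⁻¹ = a⁻¹ * (c * a * c⁻¹) by group]
        exact mul_mem (inv_mem ha) (hXn.conj_mem a ha c)
      have hzY : z ∈ Y := mul_mem (mul_mem (mul_mem hb hcY) (inv_mem hb)) (inv_mem hcY)
      have hzZ : z ∈ 𝐙 := hD ▸ ⟨hzX, hzY⟩
      have hz1 : z ^ n = 1 :=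
        hzpow b c z hzZ (by rw [hzdef, inv_mul_cancel_right]) n (hYpow b hb)
      have hz2 : z ^ m = 1 := by
        have hza : a⁻¹ * c * a⁻¹⁻¹ = z * c := by rw [inv_inv, hzdef, hbc, inv_mul_cancel_right]
        exact hzpow a⁻¹ c z hzZ hza m (by rw [inv_pow]; exact inv_mem (hXpow a ha))
      have hz0 : z = 1 := orderOf_eq_one_iff.1 (Nat.eq_one_of_dvd_coprimes S.hcop.symm
        (orderOf_dvd_of_pow_eq_one hz1) (orderOf_dvd_of_pow_eq_one hz2))
      have hbC : b ∈ 𝐂 c := by
        rw [mem_C, ← mul_inv_eq_iff_eq_mul, ← mul_inv_eq_one]; exact hz0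
      have haC : a ∈ 𝐂 c := by
        have := mul_mem hv (inv_mem hbC); rwa [mul_inv_cancel_right] at this
      have haZ : a ∈ 𝐙 := mem_of_pow_mem (hrC c hidx ▸ pow_relIndex_mem (K := 𝐂 c) haC)
        (hXpow a ha) S.hcop.symm
      exact mul_mem (center_le y haZ) hb
    refine Subgroup.eq_of_le_of_card_ge hle (le_of_eq ?_)
    refine mul_left_cancel₀ (Subgroup.index_ne_zero_of_finite (H := Y)) ?_
    conv_lhs => rw [Subgroup.index_mul_card]
    rw [S.hy, ← hidx, Subgroup.index_mul_card]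
  have hYcomm : ∀ v ∈ Y, ∀ w ∈ Y, v * w = w * v := by
    intro v hv w hw
    by_cases hvc : v ∈ 𝐙
    · exact (Subgroup.mem_center_iff.1 hvc w).symm
    · exact (mem_C.1 ((hCc v hv hvc).symm ▸ hw : w ∈ 𝐂 v)).symm
  -- the quotient by the centre
  set π := QuotientGroup.mk' 𝐙
  haveI : (X.map π).Normal := hXn.map π (QuotientGroup.mk'_surjective _)
  have hdisj : X.map π ⊓ Y.map π = ⊥ := by
    rw [eq_bot_iff]
    rintro _ ⟨⟨a, ha, rfl⟩, b, hb, he⟩
    obtain ⟨z, hz, hz'⟩ := (QuotientGroup.mk'_eq_mk' (N := 𝐙)).1 he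
    have haY : a ∈ Y := hz' ▸ mul_mem hb (center_le y hz)
    exact Subgroup.mem_bot.2 ((QuotientGroup.eq_one_iff a).2 (hD ▸ ⟨ha, haY⟩))
  have hsup : X.map π ⊔ Y.map π = ⊤ := by
    rw [eq_top_iff]
    intro q _
    obtain ⟨g, rfl⟩ := QuotientGroup.mk'_surjective 𝐙 q
    obtain ⟨a, ha, b, hb, rfl⟩ := hprod g
    rw [map_mul]
    exact mul_mem (Subgroup.mem_sup_left (Subgroup.mem_map_of_mem _ ha))
      (Subgroup.mem_sup_right (Subgroup.mem_map_of_mem _ hb))
  have hXne : X.map π ≠ ⊥ := fun e => by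
    have h1 := (Subgroup.map_eq_bot_iff _).1 e
    rw [QuotientGroup.ker_mk'] at h1
    have : r = 1 := Subgroup.relIndex_eq_one.2 h1
    have := S.hmn; have := S.hn; omega
  have hYne : Y.map π ≠ ⊥ := fun e => by
    have h1 := (Subgroup.map_eq_bot_iff _).1 e
    rw [QuotientGroup.ker_mk'] at h1
    have h2 : (𝐙).relIndex Y = 1 := Subgroup.relIndex_eq_one.2 h1
    rw [hrC y S.hy] at h2
    have := S.hn; omega
  have hfpf : ∀ q ∈ Y.map π, q ≠ 1 → ∀ p ∈ X.map π, q * p = p * q → p = 1 := by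
    rintro _ ⟨b, hb, rfl⟩ hb1 _ ⟨a, ha, rfl⟩ he
    have hbc : b ∉ 𝐙 := fun e => hb1 ((QuotientGroup.eq_one_iff b).2 e)
    set z := b * a * b⁻¹ * a⁻¹ with hzdef
    have hz : z ∈ 𝐙 := by
      refine (QuotientGroup.eq_one_iff z).1 ?_
      show π z = 1
      rw [hzdef, map_mul, map_mul, map_mul, map_inv, map_inv, he, mul_inv_cancel_right,
        mul_inv_cancel]
    have hz1 : z ^ n = 1 := hzpow b a z hz (by rw [hzdef, inv_mul_cancel_right]) n (hYpow b hb)
    have hz2 : z⁻¹ ^ m = 1 := hzpow a b z⁻¹ (inv_mem hz) (by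
      rw [hzdef]; group) m (hXpow a ha)
    rw [inv_pow, inv_eq_one] at hz2
    have hz0 : z = 1 := orderOf_eq_one_iff.1 (Nat.eq_one_of_dvd_coprimes S.hcop.symm
      (orderOf_dvd_of_pow_eq_one hz1) (orderOf_dvd_of_pow_eq_one hz2))
    have haY : a ∈ Y := by
      rw [← hCc b hb hbc, mem_C, eq_comm, ← mul_inv_eq_iff_eq_mul, ← mul_inv_eq_one]
      exact hz0
    exact (QuotientGroup.eq_one_iff a).2 (hD ▸ ⟨ha, haY⟩)
  exact ⟨⟨⟨fun v w => Subtype.ext (hXcomm v v.2 w w.2)⟩⟩,
    ⟨⟨fun v w => Subtype.ext (hYcomm v v.2 w w.2)⟩⟩,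
    Lib.Frobenius.isFrobeniusComplement_of_fixedPointFree hdisj hsup hXne hYne hfpf,
    Lib.Frobenius.frobeniusKernel_eq_of_fixedPointFree hdisj hsup hfpf⟩

end

/-- Let G be a finite group whose two largest conjugacy class sizes m > n > 1 are coprime, and let x, y ∈ G have classes of sizes n and m respectively. Then C_G(x) and C_G(y) are abelian, and G/Z(G) is a Frobenius group with kernel C_G(x)/Z(G) and complement C_G(y)/Z(G). -/
theorem result {G : Type*} [Group G] [Finite G] (m n : ℕ) (hmn : n < m) (hn : 1 < n)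
    (hcop : m.Coprime n) (htop : ∀ z : G, (Subgroup.centralizer ({z} : Set G)).index ≤ m) (hsecond : ∀ z : G, (Subgroup.centralizer ({z} : Set G)).index < m → (Subgroup.centralizer ({z} : Set G)).index ≤ n)
    (x y : G) (hx : (Subgroup.centralizer ({x} : Set G)).index = n) (hy : (Subgroup.centralizer ({y} : Set G)).index = m) :
    IsMulCommutative (Subgroup.centralizer ({x} : Set G)) ∧ IsMulCommutative (Subgroup.centralizer ({y} : Set G)) ∧
    Cfsg.IsFrobeniusComplement ((Subgroup.centralizer ({y} : Set G)).map (QuotientGroup.mk' (Subgroup.center G))) ∧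
    Cfsg.frobeniusKernel ((Subgroup.centralizer ({y} : Set G)).map (QuotientGroup.mk' (Subgroup.center G))) =
      ((Subgroup.centralizer ({x} : Set G)).map (QuotientGroup.mk' (Subgroup.center G)) : Set (G ⧸ Subgroup.center G)) := by
  exact Setup.main ⟨hmn, hn, hcop, htop, hsecond, hx, hy⟩

end Cfsg.Agent.S4138
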