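import Cfsg.Statements.S4139
import Cfsg.Agent.Lib.PowerOrbits.BaerBasic
import Cfsg.Agent.Lib.PGroups.Subnormal
import Cfsg.Agent.Lib.Cores.PCore
import Cfsg.Agent.Lib.Transfer.Basic
import Mathlib

set_option autoImplicit false
open Cfsg

namespace Cfsg.Agent.S4139

set_option linter.all false
open Cfsg.Agent Cfsg.Agent.Lib.PowerOrbits.Baer

section

variable {G : Type*} [Group G] [Finite G]

local notation "𝐂" z:max => Subgroup.centralizer ({z} : Set G)
local notation "𝐙" => Subgroup.center G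

theorem classNum_eq (x : G) : Nat.card (ConjClasses.mk x).carrier = (𝐂 x).index :=
  natCard_conjugatesOf x

/-- Elements with class size satisfying `p` as a sum over classes. -/
noncomputable def fiberEquiv (P : ℕ → Prop) :
    {g : G // P (𝐂 g).index} ≃
      (C : {C : ConjClasses G // P (Nat.card C.carrier)}) × (C.1).carrier where
  toFun g := ⟨⟨ConjClasses.mk g.1, by rw [classNum_eq]; exact g.2⟩, g.1, mem_conjugatesOf_self⟩
  invFun s := ⟨s.2.1, by
    have h := ConjClasses.mem_carrier_iff_mk_eq.1 s.2.2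
    rw [← classNum_eq, h]; exact s.1.2⟩
  left_inv g := rfl
  right_inv := by
    rintro ⟨⟨C, hC⟩, g, hg⟩
    obtain rfl := ConjClasses.mem_carrier_iff_mk_eq.1 hg
    rfl

variable {q : ℕ} [Fact q.Prime]

theorem exists_sylow_le_centralizer {x : G} (hx : ¬ q ∣ (𝐂 x).index) :
    ∃ R : Sylow q G, (R : Subgroup G) ≤ 𝐂 x := by
  let D : Sylow q (𝐂 x) := default
  have hD : Nat.card ((D : Subgroup (𝐂 x)).map (𝐂 x).subtype) =
      q ^ (Nat.card G).factorization q := by
    rw [Subgroup.card_map_of_injective (Subgroup.subtype_injective _), D.card_eq_multiplicity,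
      ← (𝐂 x).index_mul_card,
      Nat.factorization_mul Subgroup.index_ne_zero_of_finite Nat.card_pos.ne', Finsupp.add_apply,
      Nat.factorization_eq_zero_of_not_dvd (n := (𝐂 x).index) (p := q) hx, zero_add]
  exact ⟨Sylow.ofCard _ hD, by rintro _ ⟨d, -, rfl⟩; exact d.2⟩

/-- The `q`-part of the centre. -/
noncomputable def zPart (q : ℕ) [Fact q.Prime] : Subgroup G :=
  ((default : Sylow q (Subgroup.center G)) : Subgroup (Subgroup.center G)).map (Subgroup.center G).subtype

theorem zPart_le : zPart (G := G) q ≤ 𝐙 := Subgroup.map_subtype_le _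

instance zPart_normal : (zPart (G := G) q).Normal := ⟨fun z hz g => by
  rwa [Subgroup.mem_center_iff.1 (zPart_le hz) g, mul_inv_cancel_right]⟩

theorem zPart_isPGroup : IsPGroup q (zPart (G := G) q) :=
  ((default : Sylow q (Subgroup.center G))).2.map _

theorem card_zPart : Nat.card (zPart (G := G) q) = q ^ (Nat.card 𝐙).factorization q := by
  rw [zPart, Subgroup.card_map_of_injective (Subgroup.subtype_injective _),
    Sylow.card_eq_multiplicity]

theorem le_zPart {B : Subgroup G} (hB : IsPGroup q B) (hBZ : B ≤ 𝐙) : B ≤ zPart q := by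
  intro b hb
  obtain ⟨Q, hQ⟩ := (hB.comap_subtype (K := 𝐙)).exists_le_sylow
  have hQd : (Q : Subgroup 𝐙) = ((default : Sylow q 𝐙) : Subgroup 𝐙) := by
    obtain ⟨g, hg⟩ := MulAction.exists_smul_eq 𝐙 Q (default : Sylow q 𝐙)
    rw [← hg]
    ext w
    rw [Sylow.coe_subgroup_smul, Subgroup.mem_pointwise_smul_iff_inv_smul_mem]
    have hw : (MulAut.conj g)⁻¹ • w = w := Subtype.ext (by
      simp only [MulAut.smul_def, ← map_inv, MulAut.conj_apply, Subgroup.coe_mul, inv_inv,
        Subgroup.coe_inv]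
      rw [Subgroup.mem_center_iff.1 w.2]; group)
    rw [hw]
  exact ⟨⟨b, hBZ hb⟩, hQd ▸ hQ hb, rfl⟩

theorem zPart_le_sylow (R : Sylow q G) : zPart q ≤ (R : Subgroup G) := by
  rw [← R.3 (R.2.to_sup_of_normal_right (K := zPart q) zPart_isPGroup) le_sup_left]
  exact le_sup_right

/-- The elements of class size prime to `q`, counted modulo `q`. -/
theorem card_pprime_class (R : Sylow q G) :
    ∃ t : ℕ, Nat.card {g : G // ¬ q ∣ (𝐂 g).index} = Nat.card (zPart (G := G) q) * t ∧
      t ≡ (zPart (G := G) q).relIndex (Subgroup.centralizer ((R : Subgroup G) : Set G)) [MOD q] := by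
  classical
  set Z' := zPart (G := G) q
  set Y : Set G := {g | ¬ q ∣ (𝐂 g).index}
  set C := Subgroup.centralizer ((R : Subgroup G) : Set G)
  have hCz : ∀ (z : G), z ∈ 𝐙 → ∀ g : G, 𝐂 (g * z) = 𝐂 g := fun z hz g => by
    ext v
    rw [mem_centralizer_iff', mem_centralizer_iff',
      show v * (g * z) * v⁻¹ = v * g * v⁻¹ * (v * z * v⁻¹) by group,
      Subgroup.mem_center_iff.1 hz v, mul_inv_cancel_right, mul_left_inj]
  let T : Set (G ⧸ Z') := QuotientGroup.mk '' Y
  have hY : QuotientGroup.mk ⁻¹' T = Y := by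
    refine Set.Subset.antisymm ?_ fun w hw => ⟨w, hw, rfl⟩
    rintro w ⟨w', hw', he⟩
    show ¬ q ∣ _
    rw [show w = w' * (w'⁻¹ * w) by group, hCz _ (zPart_le (QuotientGroup.eq.1 he)) w']
    exact hw'
  have hcard : Nat.card {g : G // ¬ q ∣ (𝐂 g).index} = Nat.card Z' * Nat.card T := by
    show Nat.card Y = _
    rw [← hY, Nat.card_congr (QuotientGroup.preimageMkEquivSubgroupProdSet Z' T), Nat.card_prod]
  refine ⟨Nat.card T, hcard, ?_⟩
  letI : MulAction (R : Subgroup G) T :=
    { smul := fun r s => ⟨QuotientGroup.mk' Z' r * s.1 * (QuotientGroup.mk' Z' r)⁻¹, by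
        obtain ⟨w, hw, he⟩ := s.2
        refine ⟨(r : G) * w * (r : G)⁻¹, ?_, ?_⟩
        · show ¬ q ∣ _
          rw [index_centralizer_conj]; exact hw
        · rw [← he]; rfl⟩
      one_smul := fun s => Subtype.ext (show QuotientGroup.mk' Z' ((1 : (R : Subgroup G)) : G) * s.1 *
        (QuotientGroup.mk' Z' ((1 : (R : Subgroup G)) : G))⁻¹ = s.1 by simp)
      mul_smul := fun r r' s => Subtype.ext (show QuotientGroup.mk' Z' ((r * r' : (R : Subgroup G)) : G) * s.1 *
        (QuotientGroup.mk' Z' ((r * r' : (R : Subgroup G)) : G))⁻¹ = QuotientGroup.mk' Z' (r : G) *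
          (QuotientGroup.mk' Z' (r' : G) * s.1 * (QuotientGroup.mk' Z' (r' : G))⁻¹) *
          (QuotientGroup.mk' Z' (r : G))⁻¹ by
        rw [Subgroup.coe_mul, map_mul, mul_inv_rev]; group) }
  refine (R.2.card_modEq_card_fixedPoints T).trans (congrArg (· % q) ?_)
  show Nat.card (MulAction.fixedPoints (R : Subgroup G) T) = _
  rw [show Z'.relIndex C = Nat.card (C.map (QuotientGroup.mk' Z')) by
    rw [← Subgroup.relIndex_ker, QuotientGroup.ker_mk']]
  -- a fixed coset consists of elements centralised by `R`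
  have hfix : ∀ w : G, w ∈ Y → (∀ r ∈ (R : Subgroup G), r * w * r⁻¹ * w⁻¹ ∈ Z') → w ∈ C := by
    intro w hw hr
    refine Subgroup.mem_centralizer_iff.2 fun r hrR => ?_
    have hle := Lib.PGroups.relIndex_dvd_index_of_normal_right Z' (𝐂 w)
    set c := r * w * r⁻¹ * w⁻¹ with hc
    -- `r ↦ [r, w]` is a homomorphism into `Z'` with kernel `C(w) ∩ R`
    have hmem : ∀ s : (R : Subgroup G), (s : G) * w * (s : G)⁻¹ * w⁻¹ ∈ Z' := fun s => hr s s.2
    obtain ⟨R', hR'⟩ := exists_sylow_le_centralizer hw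
    obtain ⟨u, hu⟩ := MulAction.exists_smul_eq G R' R
    -- conjugates of `w` in `w Z'` have class size a power of `q` dividing a `q'`-number
    let S : Subgroup G :=
      { carrier := {s | s * w * s⁻¹ * w⁻¹ ∈ Z'}
        one_mem' := by simp
        mul_mem' := fun {a b} ha hb => by
          show a * b * w * (a * b)⁻¹ * w⁻¹ ∈ Z'
          rw [show a * b * w * (a * b)⁻¹ * w⁻¹ =
            a * (b * w * b⁻¹ * w⁻¹) * a⁻¹ * (a * w * a⁻¹ * w⁻¹) by group]
          exact mul_mem (zPart_normal.conj_mem _ hb a) ha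
        inv_mem' := fun {a} ha => by
          show a⁻¹ * w * a⁻¹⁻¹ * w⁻¹ ∈ Z'
          rw [show a⁻¹ * w * a⁻¹⁻¹ * w⁻¹ = a⁻¹ * (a * w * a⁻¹ * w⁻¹)⁻¹ * a⁻¹⁻¹ by group]
          exact zPart_normal.conj_mem _ (inv_mem ha) _ }
    let f : S →* Z' :=
      { toFun := fun s => ⟨(s : G) * w * (s : G)⁻¹ * w⁻¹, s.2⟩
        map_one' := Subtype.ext (by simp)
        map_mul' := fun a b => Subtype.ext (by
          have hb := Subgroup.mem_center_iff.1 (zPart_le b.2) (a : G)
          show (a : G) * b * w * ((a : G) * b)⁻¹ * w⁻¹ =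
            (a : G) * w * (a : G)⁻¹ * w⁻¹ * ((b : G) * w * (b : G)⁻¹ * w⁻¹)
          rw [show (a : G) * b * w * ((a : G) * b)⁻¹ * w⁻¹ =
            (a : G) * ((b : G) * w * (b : G)⁻¹ * w⁻¹) * (a : G)⁻¹ * ((a : G) * w * (a : G)⁻¹ * w⁻¹) by group,
            hb, mul_inv_cancel_right]
          exact (Subgroup.mem_center_iff.1 (zPart_le b.2) _).symm) }
    have hker : f.ker = (𝐂 w).subgroupOf S := by
      ext s
      rw [MonoidHom.mem_ker, Subgroup.mem_subgroupOf, mem_centralizer_iff', Subtype.ext_iff]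
      exact mul_inv_eq_one
    have h1 : f.ker.index ∣ Nat.card Z' := by
      rw [Subgroup.index_ker]; exact Subgroup.card_subgroup_dvd_card _
    have h2 : f.ker.index ∣ (𝐂 w).index := by
      rw [hker]
      have hCS : 𝐂 w ≤ S := fun s hs => by
        show s * w * s⁻¹ * w⁻¹ ∈ Z'
        rw [mem_centralizer_iff'.1 hs, mul_inv_cancel]; exact one_mem _
      exact Dvd.intro _ (Subgroup.relIndex_mul_index hCS)
    rw [card_zPart] at h1
    have h3 : f.ker.index = 1 := Nat.eq_one_of_dvd_coprimes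
      (((Fact.out : q.Prime).coprime_iff_not_dvd.2 hw).pow_left _) h1 h2
    rw [Subgroup.index_eq_one, hker] at h3
    have h4 : (⟨r, hr r hrR⟩ : S) ∈ (𝐂 w).subgroupOf S := h3 ▸ Subgroup.mem_top _
    exact Subgroup.mem_centralizer_singleton_iff.1 h4
  refine Nat.card_congr
    { toFun := fun s => ⟨s.1.1, ?_⟩
      invFun := fun s => ⟨⟨s.1, ?_⟩, ?_⟩
      left_inv := fun s => rfl
      right_inv := fun s => rfl }
  · obtain ⟨w, hw, he⟩ := s.1.2
    refine ⟨w, hfix w hw fun r hr => (QuotientGroup.eq_one_iff _).1 ?_, he⟩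
    have h : QuotientGroup.mk' Z' r * s.1.1 * (QuotientGroup.mk' Z' r)⁻¹ = s.1.1 :=
      congrArg Subtype.val (MulAction.mem_fixedPoints.1 s.2 ⟨r, hr⟩)
    rw [← he] at h
    rw [QuotientGroup.mk_mul, QuotientGroup.mk_mul, QuotientGroup.mk_mul, QuotientGroup.mk_inv,
      QuotientGroup.mk_inv]
    exact mul_inv_eq_one.2 h
  · obtain ⟨w, hw, he⟩ := s.2
    exact ⟨w, fun hd => R.not_dvd_index (hd.trans (Subgroup.index_dvd_of_le fun r hr =>
      Subgroup.mem_centralizer_singleton_iff.2 (Subgroup.mem_centralizer_iff.1 hw r hr))), he⟩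
  · refine MulAction.mem_fixedPoints.2 fun r => Subtype.ext ?_
    obtain ⟨w, hw, he⟩ := s.2
    show QuotientGroup.mk' Z' r * s.1 * (QuotientGroup.mk' Z' r)⁻¹ = s.1
    rw [← he, ← map_inv, ← map_mul, ← map_mul, Subgroup.mem_centralizer_iff.1 hw r r.2,
      mul_inv_cancel_right]

theorem zPart_le_centralizer (R : Subgroup G) :
    zPart q ≤ Subgroup.centralizer (R : Set G) :=
  fun z hz => Subgroup.mem_centralizer_iff.2 fun r _ => Subgroup.mem_center_iff.1 (zPart_le hz) r

/-- All `q`-elements centralising `R` are central iff `q` does not divide the index of `zPart`. -/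
theorem central_iff (R : Sylow q G) :
    (∀ c ∈ Subgroup.centralizer ((R : Subgroup G) : Set G), (∃ k, orderOf c = q ^ k) → c ∈ 𝐙) ↔
      ¬ q ∣ (zPart (G := G) q).relIndex (Subgroup.centralizer ((R : Subgroup G) : Set G)) := by
  set C := Subgroup.centralizer ((R : Subgroup G) : Set G)
  constructor
  · intro h hd
    obtain ⟨x, hx⟩ := exists_prime_orderOf_dvd_card' (G := C ⧸ (zPart q).subgroupOf C) q hd
    obtain ⟨c, rfl⟩ := QuotientGroup.mk_surjective x
    have hq : (c : C) ^ q ∈ (zPart q).subgroupOf C := by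
      have := pow_orderOf_eq_one ((c : C) : C ⧸ (zPart q).subgroupOf C)
      rwa [hx, ← QuotientGroup.mk_pow, QuotientGroup.eq_one_iff] at this
    obtain ⟨j, hj⟩ := zPart_isPGroup (⟨_, hq⟩ : zPart (G := G) q)
    have hcz : (c : G) ^ (q * q ^ j) = 1 := by
      rw [pow_mul]; simpa using congrArg Subtype.val hj
    obtain ⟨i, -, hi⟩ := (Nat.dvd_prime_pow (Fact.out : q.Prime)).1
      ((pow_succ' q j).symm ▸ orderOf_dvd_of_pow_eq_one hcz)
    have hcZ := h c c.2 ⟨i, hi⟩
    have hB : IsPGroup q (Subgroup.zpowers (c : G)) :=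
      IsPGroup.of_card (n := i) (by rw [Nat.card_zpowers, hi])
    have hcP := le_zPart hB (Subgroup.zpowers_le.2 hcZ) (Subgroup.mem_zpowers _)
    rw [(QuotientGroup.eq_one_iff c).2 (Subgroup.mem_subgroupOf.2 hcP), orderOf_one] at hx
    exact (Fact.out : q.Prime).ne_one hx.symm
  · intro h c hc ⟨k, hk⟩
    refine zPart_le (q := q) ?_
    let cc : C := ⟨c, hc⟩
    have h1 : orderOf ((cc : C) : C ⧸ (zPart q).subgroupOf C) ∣ q ^ k := by
      rw [← hk, ← Subgroup.orderOf_mk c hc]
      exact orderOf_map_dvd (QuotientGroup.mk' ((zPart q).subgroupOf C)) cc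
    have h2 : orderOf ((cc : C) : C ⧸ (zPart q).subgroupOf C) ∣ (zPart q).relIndex C :=
      orderOf_dvd_natCard _
    have h3 := Nat.eq_one_of_dvd_coprimes ((((Fact.out : q.Prime).coprime_iff_not_dvd).2 h).pow_left k) h1 h2
    rw [orderOf_eq_one_iff, QuotientGroup.eq_one_iff] at h3
    exact h3

theorem central_iff_card (R : Sylow q G) :
    (∀ c ∈ Subgroup.centralizer ((R : Subgroup G) : Set G), (∃ k, orderOf c = q ^ k) → c ∈ 𝐙) ↔
      ¬ q ^ ((Nat.card 𝐙).factorization q + 1) ∣ Nat.card {g : G // ¬ q ∣ (𝐂 g).index} := by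
  rw [central_iff R]
  obtain ⟨t, ht, htmod⟩ := card_pprime_class R
  rw [ht, card_zPart, pow_succ, Nat.mul_dvd_mul_iff_left (pow_pos (Fact.out : q.Prime).pos _),
    Nat.ModEq.dvd_iff htmod dvd_rfl]

theorem sylow_commute [Group.IsNilpotent G] (R : Sylow q G) {c : G} (hc : (orderOf c).Coprime q)
    {r : G} (hr : r ∈ (R : Subgroup G)) : Commute r c := by
  haveI hR : (R : Subgroup G).Normal :=
    (Group.isNilpotent_of_finite_tfae.out 0 3 rfl rfl).mp ‹_› q ‹_› R
  set D := Subgroup.centralizer ((R : Subgroup G) : Set G)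
  -- reduce to primary components
  have key : ∀ (s : ℕ), s.Prime → s ≠ q → ∀ a : G, (∃ k, orderOf a = s ^ k) → Commute r a := by
    intro s hs hsq a ha
    haveI := Fact.mk hs
    obtain ⟨S, haS⟩ := exists_sylow_mem (q := s) ha
    haveI hS : (S : Subgroup G).Normal :=
      (Group.isNilpotent_of_finite_tfae.out 0 3 rfl rfl).mp ‹_› s ‹_› S
    exact Subgroup.commute_of_normal_of_disjoint (H₁ := (R : Subgroup G)) (H₂ := (S : Subgroup G)) hR hS
      (IsPGroup.disjoint_of_ne q s (Ne.symm hsq) _ _ R.2 S.2) r a hr haS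
  suffices h : ∀ (n : ℕ) (c : G), orderOf c = n → n.Coprime q → Commute r c from h _ c rfl hc
  intro n
  induction n using Nat.strong_induction_on with
  | _ n ih =>
    intro c hn hcop
    by_cases h1 : n = 1
    · rw [orderOf_eq_one_iff.1 (hn.trans h1)]; exact Commute.one_right r
    obtain ⟨s, hs, hsn⟩ := Nat.exists_prime_and_dvd h1
    haveI := Fact.mk hs
    have hsq : s ≠ q := fun e => hs.not_dvd_one (hcop.gcd_eq_one ▸ Nat.dvd_gcd hsn (e ▸ dvd_rfl))
    obtain ⟨a, b, haz, hbz, hao, hbk, hab⟩ := Lib.Transfer.exists_pPart_decomp (p := s) c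
    obtain ⟨i, hi⟩ := Subgroup.mem_zpowers_iff.1 haz
    have hda : orderOf a ∣ n := hn ▸ orderOf_dvd_of_pow_eq_one (by
      rw [← hi, ← zpow_natCast, ← zpow_mul, mul_comm, zpow_mul, zpow_natCast, pow_orderOf_eq_one,
        one_zpow])
    have hlt : orderOf a < n := lt_of_le_of_ne (Nat.le_of_dvd (hn ▸ orderOf_pos c) hda) fun e =>
      hs.not_dvd_one (hao.gcd_eq_one ▸ Nat.dvd_gcd (e ▸ hsn) dvd_rfl)
    rw [hab]
    exact (ih _ hlt a rfl (hcop.coprime_dvd_left hda)).mul_right (key s hs hsq b hbk)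

theorem nilpotent_central [Group.IsNilpotent G] (R : Sylow q G) :
    ∀ c ∈ Subgroup.centralizer ((R : Subgroup G) : Set G), (∃ k, orderOf c = q ^ k) → c ∈ 𝐙 := by
  intro c hc hk
  haveI : (R : Subgroup G).Normal :=
    (Group.isNilpotent_of_finite_tfae.out 0 3 rfl rfl).mp ‹_› q ‹_› R
  have hcR : c ∈ (R : Subgroup G) := by
    obtain ⟨P, hP⟩ := exists_sylow_mem hk
    obtain ⟨g, rfl⟩ := MulAction.exists_smul_eq G R P
    rwa [Sylow.smul_eq_of_normal] at hP
  refine Subgroup.mem_center_iff.2 fun g => ?_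
  obtain ⟨a, b, -, -, hao, hbk, rfl⟩ := Lib.Transfer.exists_pPart_decomp (p := q) g
  have h1 : Commute c a := sylow_commute R hao hcR
  have h2 : Commute c b := by
    obtain ⟨P, hP⟩ := exists_sylow_mem hbk
    obtain ⟨g, rfl⟩ := MulAction.exists_smul_eq G R P
    rw [Sylow.smul_eq_of_normal] at hP
    exact (Subgroup.mem_centralizer_iff.1 hc b hP).symm
  exact (h1.mul_right h2).eq.symm

/-- In a nilpotent group the elements of `q`-power class size are at least `R Z(G)`. -/
theorem nilpotent_ppower [Group.IsNilpotent G] (R : Sylow q G) :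
    Nat.card (R : Subgroup G) * Nat.card 𝐙 ≤ q ^ (Nat.card 𝐙).factorization q *
      Nat.card {g : G // ∀ s, s.Prime → s ≠ q → ¬ s ∣ (𝐂 g).index} := by
  set RZ := (R : Subgroup G) ⊔ 𝐙
  have hcard : Nat.card (R : Subgroup G) * Nat.card 𝐙 =
      Nat.card RZ * Nat.card ((R : Subgroup G) ⊓ 𝐙 : Subgroup G) := by
    have e1 : Nat.card (𝐙) * (𝐙).relIndex (R : Subgroup G) = Nat.card RZ := by
      rw [← Subgroup.relIndex_sup_right (H := (R : Subgroup G)) (K := 𝐙), ← Subgroup.relIndex_bot_left,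
        ← Subgroup.relIndex_bot_left]
      exact Subgroup.relIndex_mul_relIndex _ _ _ bot_le le_sup_right
    have e2 : Nat.card ((R : Subgroup G) ⊓ 𝐙 : Subgroup G) * (𝐙).relIndex (R : Subgroup G) =
        Nat.card (R : Subgroup G) := by
      rw [← Subgroup.inf_relIndex_left, ← Subgroup.relIndex_bot_left, ← Subgroup.relIndex_bot_left]
      exact Subgroup.relIndex_mul_relIndex _ _ _ bot_le inf_le_left
    rw [← e1, ← e2]; ring
  rw [hcard, mul_comm]
  refine Nat.mul_le_mul ?_ ?_
  · rw [← card_zPart]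
    exact Subgroup.card_le_of_le (le_zPart (R.2.to_le inf_le_left) inf_le_right)
  · refine Nat.card_le_card_of_injective (fun g => ⟨g.1, fun s hs hsq hd => ?_⟩)
      fun a b e => Subtype.ext (congrArg Subtype.val e :)
    haveI := Fact.mk hs
    obtain ⟨a, ha, z, hz, he⟩ := Subgroup.mem_sup_of_normal_right.1 g.2
    let S : Sylow s G := default
    refine S.not_dvd_index (hd.trans (Subgroup.index_dvd_of_le fun v hv => ?_))
    obtain ⟨j, hj⟩ := exists_orderOf_of_mem R.2 ha
    have h1 : Commute v a := sylow_commute S (hj ▸ (((Nat.coprime_primes (Fact.out : q.Prime) hs).2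
      (Ne.symm hsq)).pow_left j)) hv
    rw [mem_centralizer_iff', ← he, show v * (a * z) * v⁻¹ = v * a * v⁻¹ * (v * z * v⁻¹) by group,
      h1.eq, mul_inv_cancel_right, Subgroup.mem_center_iff.1 hz v, mul_inv_cancel_right]

/-- If all `s`-elements centralising a Sylow `s`-subgroup are central for all `s`, the elements of
`q`-power class size lie in `O_q(G) Z(G)`. -/
theorem ppower_le (hcen : ∀ (s : ℕ) [Fact s.Prime] (S : Sylow s G),
      ∀ c ∈ Subgroup.centralizer ((S : Subgroup G) : Set G), (∃ k, orderOf c = s ^ k) → c ∈ 𝐙)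
    {g : G} (hg : ∀ s, s.Prime → s ≠ q → ¬ s ∣ (𝐂 g).index) :
    g ∈ Cfsg.pCore q G ⊔ 𝐙 := by
  obtain ⟨a, b, haz, hbz, hao, hbk, hab⟩ := Lib.Transfer.exists_pPart_decomp (p := q) g
  have hmono : ∀ c ∈ Subgroup.zpowers g, 𝐂 g ≤ 𝐂 c := by
    intro c hc v hv
    obtain ⟨i, rfl⟩ := Subgroup.mem_zpowers_iff.1 hc
    exact Subgroup.mem_centralizer_singleton_iff.2
      ((show Commute v g from Subgroup.mem_centralizer_singleton_iff.1 hv).zpow_right i).eq
  have ha : a ∈ 𝐙 := by
    by_contra hac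
    set o := orderOf (QuotientGroup.mk' 𝐙 a)
    have ho : o ≠ 1 := fun e => hac ((QuotientGroup.eq_one_iff a).1 (orderOf_eq_one_iff.1 e))
    obtain ⟨s, hs, hso⟩ := Nat.exists_prime_and_dvd ho
    haveI := Fact.mk hs
    have hsq : s ≠ q := fun e => hs.not_dvd_one (hao.gcd_eq_one ▸
      Nat.dvd_gcd (hso.trans (orderOf_map_dvd _ a)) (e ▸ dvd_rfl))
    obtain ⟨c, d, hcz, hdz, hco, hdk, hcd⟩ := Lib.Transfer.exists_pPart_decomp (p := s) a
    obtain ⟨S, hS⟩ := exists_sylow_le_centralizer (x := g) (q := s) (hg s hs hsq)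
    have hdC : d ∈ Subgroup.centralizer ((S : Subgroup G) : Set G) :=
      Subgroup.mem_centralizer_iff.2 fun v hv => Subgroup.mem_centralizer_singleton_iff.1
        (hmono d (Subgroup.zpowers_le.2 haz hdz) (hS hv))
    have hd := hcen s S d hdC hdk
    have hdvd : o ∣ orderOf c := by
      refine orderOf_dvd_of_pow_eq_one ?_
      rw [hcd, map_mul, show QuotientGroup.mk' 𝐙 d = 1 from (QuotientGroup.eq_one_iff d).2 hd,
        mul_one, ← map_pow, pow_orderOf_eq_one, map_one]
    exact hs.not_dvd_one (hco.gcd_eq_one ▸ Nat.dvd_gcd (hso.trans hdvd) dvd_rfl)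
  have hb : b ∈ Cfsg.pCore q G := by
    have hd : (𝐂 b).index ∣ (𝐂 g).index := Subgroup.index_dvd_of_le (hmono b hbz)
    exact mem_pCore_of_index_eq hbk (Nat.eq_prime_pow_of_unique_prime_dvd
      Subgroup.index_ne_zero_of_finite fun {s} hs hsd => by
        by_contra hsq; exact hg s hs hsq (hsd.trans hd))
  rw [hab]
  exact mul_mem (Subgroup.mem_sup_right ha) (Subgroup.mem_sup_left hb)

end

/-- Let G and H be finite groups such that for every natural number k, G and H have the same number of conjugacy classes of size k. If H is nilpotent then G is nilpotent. -/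
theorem result {G H : Type*} [Group G] [Finite G] [Group H] [Finite H]
    (hH : Group.IsNilpotent H)
    (h : ∀ k : ℕ, Nat.card {C : ConjClasses G // Nat.card C.carrier = k} = Nat.card {C : ConjClasses H // Nat.card C.carrier = k}) :
    Group.IsNilpotent G := by
  haveI := hH
  let e := fun k => (Finite.card_eq.1 (h k)).some
  let E : ConjClasses G ≃ ConjClasses H :=
    Equiv.ofFiberEquiv (f := fun C : ConjClasses G => Nat.card C.carrier)
      (g := fun C : ConjClasses H => Nat.card C.carrier) e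
  have hE : ∀ C, Nat.card (E C).carrier = Nat.card C.carrier := fun C => Equiv.ofFiberEquiv_map e C
  have count : ∀ P : ℕ → Prop, Nat.card {g : G // P (Subgroup.centralizer ({g} : Set G)).index} =
      Nat.card {g : H // P (Subgroup.centralizer ({g} : Set H)).index} := by
    intro P
    classical
    haveI := Fintype.ofFinite (ConjClasses G)
    haveI := Fintype.ofFinite (ConjClasses H)
    rw [Nat.card_congr (fiberEquiv P), Nat.card_congr (fiberEquiv P), Nat.card_sigma, Nat.card_sigma]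
    refine Fintype.sum_equiv (E.subtypeEquiv fun C => by rw [hE]) _ _ fun C => ?_
    exact (hE C.1).symm
  have hcardG : Nat.card G = Nat.card H := by
    have := count fun _ => True
    rwa [Nat.card_congr (Equiv.subtypeUnivEquiv fun _ => trivial),
      Nat.card_congr (Equiv.subtypeUnivEquiv fun _ => trivial)] at this
  have hcardZ : Nat.card (Subgroup.center G) = Nat.card (Subgroup.center H) := by
    have h1 := count fun i => i = 1
    have hG : ∀ g : G, (Subgroup.centralizer ({g} : Set G)).index = 1 ↔ g ∈ Subgroup.center G := by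
      intro g; rw [Subgroup.index_eq_one, Subgroup.centralizer_eq_top_iff_subset]; simp
    have hH : ∀ g : H, (Subgroup.centralizer ({g} : Set H)).index = 1 ↔ g ∈ Subgroup.center H := by
      intro g; rw [Subgroup.index_eq_one, Subgroup.centralizer_eq_top_iff_subset]; simp
    rwa [Nat.card_congr (Equiv.subtypeEquivRight hG), Nat.card_congr (Equiv.subtypeEquivRight hH)]
      at h1
  have hcen : ∀ (s : ℕ) [Fact s.Prime] (S : Sylow s G),
      ∀ c ∈ Subgroup.centralizer ((S : Subgroup G) : Set G), (∃ k, orderOf c = s ^ k) →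
        c ∈ Subgroup.center G := by
    intro s _ S
    rw [central_iff_card S, hcardZ, count fun i => ¬ s ∣ i,
      ← central_iff_card (default : Sylow s H)]
    exact nilpotent_central _
  refine (Group.isNilpotent_of_finite_tfae.out 0 3 rfl rfl).mpr fun q hq Q => ?_
  haveI := hq
  let R : Sylow q H := default
  have h1 := nilpotent_ppower R
  rw [← count fun i => ∀ s, s.Prime → s ≠ q → ¬ s ∣ i, ← hcardZ] at h1
  set O := Cfsg.pCore q G
  set Z := Subgroup.center G
  have hO : IsPGroup q O := Lib.Cores.pCore_isPGroup q G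
  have hZO : zPart q ≤ O ⊓ Z := by
    refine le_inf ?_ zPart_le
    exact Lib.Cores.le_pCore inferInstance zPart_isPGroup
  have hI : Nat.card (O ⊓ Z : Subgroup G) = q ^ (Nat.card Z).factorization q := by
    rw [← card_zPart]
    exact congrArg (fun K : Subgroup G => Nat.card K)
      (le_antisymm (le_zPart (hO.to_le inf_le_left) inf_le_right) hZO)
  have h2 : Nat.card {g : G // ∀ s, s.Prime → s ≠ q → ¬ s ∣
      (Subgroup.centralizer ({g} : Set G)).index} ≤ Nat.card (O ⊔ Z : Subgroup G) :=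
    Nat.card_le_card_of_injective (fun g => ⟨g.1, ppower_le hcen g.2⟩)
      fun a b e => Subtype.ext (congrArg (fun t : (O ⊔ Z : Subgroup G) => (t : G)) e)
  have h3 : Nat.card (O ⊔ Z : Subgroup G) * Nat.card (O ⊓ Z : Subgroup G) = Nat.card O * Nat.card Z := by
    have e1 : Nat.card Z * Z.relIndex O = Nat.card (O ⊔ Z : Subgroup G) := by
      rw [← Subgroup.relIndex_sup_right (H := O) (K := Z), ← Subgroup.relIndex_bot_left,
        ← Subgroup.relIndex_bot_left]
      exact Subgroup.relIndex_mul_relIndex _ _ _ bot_le le_sup_right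
    have e2 : Nat.card (O ⊓ Z : Subgroup G) * Z.relIndex O = Nat.card O := by
      rw [← Subgroup.inf_relIndex_left, ← Subgroup.relIndex_bot_left, ← Subgroup.relIndex_bot_left]
      exact Subgroup.relIndex_mul_relIndex _ _ _ bot_le inf_le_left
    rw [← e1, ← e2]; ring
  rw [R.card_eq_multiplicity, ← hcardG, ← Q.card_eq_multiplicity] at h1
  have h4 : Nat.card (Q : Subgroup G) ≤ Nat.card O := by
    refine Nat.le_of_mul_le_mul_right (h1.trans ?_) (Nat.card_pos (α := Z))
    rw [← h3, hI, mul_comm]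
    exact Nat.mul_le_mul_right _ h2
  have hOQ : O ≤ (Q : Subgroup G) := Lib.Cores.pCore_le_sylow Q
  rw [← Subgroup.eq_of_le_of_card_ge hOQ h4]
  exact Cfsg.pCore_normal q G

end Cfsg.Agent.S4139
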