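import Cfsg.Statements.S4142
import Mathlib.GroupTheory.Index
import Mathlib.GroupTheory.GroupAction.Quotient
import Cfsg.Agent.Lib.Characters.Ortho

set_option autoImplicit false
open Cfsg

namespace Cfsg.Agent.S4142

/-- Let G be a finite group and N a normal subgroup. Then the conjugacy class of every element g outside N is a union of cosets of N (gn is conjugate to g for all n ∈ N) if and only if for every g outside N the centralizer of g in G has the same order as the centralizer of gN in G/N. -/
theorem result {G : Type*} [Group G] [Finite G] (N : Subgroup G) [N.Normal] :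
    (∀ g : G, g ∉ N → ∀ n ∈ N, ∃ x : G, x * g * x⁻¹ = g * n) ↔
      ∀ g : G, g ∉ N → Nat.card (Subgroup.centralizer ({g} : Set G)) =
        Nat.card (Subgroup.centralizer ({(QuotientGroup.mk g : G ⧸ N)} : Set (G ⧸ N))) := by
  classical
  -- the class of `g` lies over the class of `gN`; compare cardinalities fibrewise
  have key : ∀ g : G,
      (∀ n ∈ N, ∃ x : G, x * g * x⁻¹ = g * n) ↔ Nat.card (Subgroup.centralizer ({g} : Set G)) =
        Nat.card (Subgroup.centralizer ({(QuotientGroup.mk g : G ⧸ N)} : Set (G ⧸ N))) := by
    intro g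
    set C := Subgroup.centralizer ({g} : Set G)
    set D := (Subgroup.centralizer ({(QuotientGroup.mk g : G ⧸ N)} : Set (G ⧸ N))).comap
      (QuotientGroup.mk' N) with hD
    have hDmem : ∀ x : G, x ∈ D ↔ g⁻¹ * (x * g * x⁻¹) ∈ N := by
      intro x
      rw [hD, Subgroup.mem_comap, Subgroup.mem_centralizer_singleton_iff]
      simp only [QuotientGroup.mk'_apply, ← QuotientGroup.mk_mul]
      constructor
      · intro h
        apply QuotientGroup.eq.mp
        have : ((x * g * x⁻¹ : G) : G ⧸ N) = ((g * x : G) : G ⧸ N) * ((x⁻¹ : G) : G ⧸ N) := by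
          rw [← h, QuotientGroup.mk_mul]
        rw [this, ← QuotientGroup.mk_mul, mul_inv_cancel_right]
      · intro h
        have h' : ((g : G) : G ⧸ N) = ((x * g * x⁻¹ : G) : G ⧸ N) := QuotientGroup.eq.mpr h
        calc ((x * g : G) : G ⧸ N) = ((x * g * x⁻¹ : G) : G ⧸ N) * (x : G ⧸ N) := by
              rw [← QuotientGroup.mk_mul, inv_mul_cancel_right]
          _ = ((g * x : G) : G ⧸ N) := by rw [← h', QuotientGroup.mk_mul]
    have hCD : C ≤ D := fun x hx => (hDmem x).mpr (by
      rw [Subgroup.mem_centralizer_singleton_iff.mp hx, mul_inv_cancel_right, inv_mul_cancel]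
      exact one_mem _)
    let f : D ⧸ C.subgroupOf D → N := fun q => Quotient.liftOn' q
      (fun x => ⟨g⁻¹ * ((x : G) * g * (x : G)⁻¹), (hDmem x).mp x.2⟩)
      (fun x y hxy => by
        rw [QuotientGroup.leftRel_apply, Subgroup.mem_subgroupOf,
          Subgroup.mem_centralizer_singleton_iff] at hxy
        apply Subtype.ext
        show g⁻¹ * ((x : G) * g * (x : G)⁻¹) = g⁻¹ * ((y : G) * g * (y : G)⁻¹)
        have hxy' : (x : G)⁻¹ * y * g = g * ((x : G)⁻¹ * y) := by simpa using hxy
        congr 1
        calc (x : G) * g * (x : G)⁻¹ = x * (g * ((x : G)⁻¹ * y)) * (y : G)⁻¹ := by group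
          _ = x * ((x : G)⁻¹ * y * g) * (y : G)⁻¹ := by rw [hxy']
          _ = (y : G) * g * (y : G)⁻¹ := by group)
    have hinj : Function.Injective f := by
      intro a b
      induction a using Quotient.inductionOn' with
      | h x =>
        induction b using Quotient.inductionOn' with
        | h y =>
          intro h
          apply QuotientGroup.eq.mpr
          rw [Subgroup.mem_subgroupOf, Subgroup.mem_centralizer_singleton_iff]
          have h' : (x : G) * g * (x : G)⁻¹ = (y : G) * g * (y : G)⁻¹ :=
            mul_left_cancel (congrArg Subtype.val h)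
          push_cast
          calc (x : G)⁻¹ * y * g = (x : G)⁻¹ * ((y : G) * g * (y : G)⁻¹) * y := by group
            _ = g * ((x : G)⁻¹ * y) := by rw [← h']; group
    have hsurj : (∀ n ∈ N, ∃ x : G, x * g * x⁻¹ = g * n) ↔ Function.Surjective f := by
      constructor
      · intro h n
        obtain ⟨x, hx⟩ := h n n.2
        have hxD : x ∈ D := (hDmem x).mpr (by rw [hx, inv_mul_cancel_left]; exact n.2)
        exact ⟨((⟨x, hxD⟩ : D) : D ⧸ C.subgroupOf D), Subtype.ext (by
          show g⁻¹ * (x * g * x⁻¹) = n
          rw [hx, inv_mul_cancel_left])⟩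
      · intro h n hn
        obtain ⟨q, hq⟩ := h ⟨n, hn⟩
        induction q using Quotient.inductionOn' with
        | h x =>
          refine ⟨x, ?_⟩
          have : g⁻¹ * ((x : G) * g * (x : G)⁻¹) = n := congrArg Subtype.val hq
          rw [← this, mul_inv_cancel_left]
    have hDcard : Nat.card D = Nat.card N *
        Nat.card (Subgroup.centralizer ({(QuotientGroup.mk g : G ⧸ N)} : Set (G ⧸ N))) := by
      have hNle : N ≤ D := fun x hx => (hDmem x).mpr (by
        have h1 := (inferInstance : N.Normal).conj_mem x hx g⁻¹
        have := N.mul_mem h1 (N.inv_mem hx)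
        simpa [mul_assoc] using this)
      have hmap : D.map (QuotientGroup.mk' N) =
          Subgroup.centralizer ({(QuotientGroup.mk g : G ⧸ N)} : Set (G ⧸ N)) :=
        Subgroup.map_comap_eq_self_of_surjective (QuotientGroup.mk'_surjective N) _
      rw [← hmap, ← (N.subgroupOf D).card_mul_index,
        Nat.card_congr (Subgroup.subgroupOfEquivOfLe hNle).toEquiv]
      congr 1
      have e := QuotientGroup.quotientKerEquivRange ((QuotientGroup.mk' N).comp D.subtype)
      have hk : ((QuotientGroup.mk' N).comp D.subtype).ker = N.subgroupOf D := by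
        ext x; simp [Subgroup.mem_subgroupOf]
      have hr : ((QuotientGroup.mk' N).comp D.subtype).range = D.map (QuotientGroup.mk' N) := by
        rw [MonoidHom.range_comp, Subgroup.range_subtype]
      rw [← hr, ← Nat.card_congr e.toEquiv, hk, Subgroup.index]
    have hq : Nat.card (D ⧸ C.subgroupOf D) * Nat.card C = Nat.card D := by
      rw [← Subgroup.index, ← Nat.card_congr (Subgroup.subgroupOfEquivOfLe hCD).toEquiv,
        mul_comm, Subgroup.card_mul_index]
    rw [hsurj]
    constructor
    · intro hs
      rw [Nat.card_eq_of_bijective f ⟨hinj, hs⟩, hDcard] at hq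
      exact Nat.eq_of_mul_eq_mul_left Nat.card_pos hq
    · intro hc
      rw [hDcard, ← hc] at hq
      exact ((Nat.bijective_iff_injective_and_card f).mpr
        ⟨hinj, Nat.eq_of_mul_eq_mul_right Nat.card_pos hq⟩).2
  exact ⟨fun h g hg => (key g).mp (h g hg), fun h g hg => (key g).mpr (h g hg)⟩

end Cfsg.Agent.S4142
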