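import Cfsg.Statements.S4140
import Cfsg.Agent.Lib.Camina.Basic
import Cfsg.Agent.Lib.Frobenius.UniqueSubgroup
import Cfsg.Agent.S4112
import Cfsg.Agent.S4142
import Cfsg.Agent.S0033
import Cfsg.Agent.Lib.Cores.Fitting

set_option autoImplicit false
open Cfsg

namespace Cfsg.Agent.S4140

set_option linter.all false
open Cfsg.Agent Cfsg.Agent.Lib.Camina

section

variable {G : Type*} [Group G] [Finite G] {N : Subgroup G}

theorem no_central_high_order {m : ℕ} [NeZero m] {z : QuaternionGroup m} (hm : 2 ≤ m)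
    (hz : ∀ w, z * w = w * z) : z ^ 2 = 1 := by
  rcases z with i | i
  · have h := hz (QuaternionGroup.xa 0)
    simp only [QuaternionGroup.a_mul_xa, QuaternionGroup.xa_mul_a] at h
    injection h with h
    have h2 : i + i = 0 := by linear_combination -h
    rw [pow_two, QuaternionGroup.a_mul_a, h2]; rfl
  · exfalso
    have h := hz (QuaternionGroup.a 1)
    simp only [QuaternionGroup.xa_mul_a, QuaternionGroup.a_mul_xa] at h
    injection h with h
    have h2 : ((2 : ℕ) : ZMod (2 * m)) = 0 := by push_cast; linear_combination h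
    rw [ZMod.natCast_eq_zero_iff] at h2
    have := Nat.le_of_dvd (by norm_num) h2
    omega

/-- In a cyclic or quaternion Sylow subgroup some element generates the Sylow subgroup of its
centralizer. -/
theorem exists_self_centralising {H : Type*} [Group H] [Finite H] {p : ℕ} [Fact p.Prime]
    (P : Sylow p H)
    (huniq : ∀ a b : P, orderOf a = p → orderOf b = p → a ∈ Subgroup.zpowers b) :
    ∃ a ∈ P, ∀ n : ℕ, p ^ n ∣ Nat.card (Subgroup.centralizer ({a} : Set H)) → p ^ n ∣ orderOf a := by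
  rcases Lib.Frobenius.isCyclic_or_quaternion_of_unique P.2 huniq with hc | ⟨rfl, m, ⟨e⟩⟩
  · obtain ⟨a, ha⟩ := IsCyclic.exists_ofOrder_eq_natCard (α := (P : Subgroup H))
    refine ⟨a, a.2, fun n hn => ?_⟩
    rw [Subgroup.orderOf_coe, ha, P.card_eq_multiplicity]
    refine Nat.pow_dvd_pow p ?_
    rw [← (Fact.out : p.Prime).pow_dvd_iff_le_factorization Nat.card_pos.ne']
    exact hn.trans (Subgroup.card_subgroup_dvd_card _)
  · set M := 2 ^ (m + 1) with hM
    have hM2 : 2 ≤ M := Nat.le_self_pow (by omega) 2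
    set a := e.symm (QuaternionGroup.a 1)
    have ha : orderOf (a : H) = 2 * M := by
      rw [Subgroup.orderOf_coe, MulEquiv.orderOf_eq, QuaternionGroup.orderOf_a_one]
    refine ⟨a, a.2, fun n hn => ?_⟩
    obtain ⟨P0, hP0⟩ : ∃ P0 : Subgroup (Subgroup.centralizer ({(a : H)} : Set H)),
        Nat.card P0 = 2 ^ n := Sylow.exists_subgroup_card_pow_prime 2 hn
    rw [ha]
    by_contra hle
    set Q := P0.map (Subgroup.centralizer ({(a : H)} : Set H)).subtype
    have hQc : Nat.card Q = 2 ^ n := by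
      rw [Subgroup.card_map_of_injective (Subgroup.subtype_injective _), hP0]
    -- then a Sylow subgroup of `H` centralises `a`
    have hn3 : m + 3 ≤ n := by
      by_contra hlt
      refine hle ?_
      rw [hM, ← pow_succ']
      exact Nat.pow_dvd_pow 2 (by omega)
    obtain ⟨P1, hP1⟩ := (IsPGroup.of_card hQc : IsPGroup 2 Q).exists_le_sylow
    have hPc : Nat.card (P : Subgroup H) = 4 * M := by
      rw [Nat.card_congr e.toEquiv, Nat.card_eq_fintype_card, QuaternionGroup.card]
    have hP1c : Nat.card (P1 : Subgroup H) = 4 * M := by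
      rw [← hPc, P1.card_eq_multiplicity, P.card_eq_multiplicity]
    have hQP : Q = (P1 : Subgroup H) := Subgroup.eq_of_le_of_card_ge hP1 (by
      rw [hP1c, hQc, hM, show 4 * 2 ^ (m + 1) = 2 ^ (m + 3) by ring]
      exact Nat.pow_le_pow_right (by norm_num) hn3)
    have hP1C : (P1 : Subgroup H) ≤ Subgroup.centralizer ({(a : H)} : Set H) := by
      rw [← hQP]; rintro _ ⟨x, -, rfl⟩; exact x.2
    have haP1 : (a : H) ∈ (P1 : Subgroup H) := by
      have hB : IsPGroup 2 ((P1 : Subgroup H) ⊔ Subgroup.zpowers (a : H) : Subgroup H) :=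
        IsPGroup.to_sup_of_normal_left' P1.2 (P.2.to_le (Subgroup.zpowers_le.2 a.2))
          (Subgroup.zpowers_le.2 (Subgroup.mem_normalizer_iff.2 fun w => ⟨fun hw => by
            rw [← Subgroup.mem_centralizer_singleton_iff.1 (hP1C hw), mul_inv_cancel_right]
            exact hw, fun hw => by
            have h1 := Subgroup.mem_centralizer_singleton_iff.1 (hP1C hw)
            have h2 : w * (a : H) = (a : H) * w := by
              calc w * (a : H) = (a : H)⁻¹ * ((a : H) * w * (a : H)⁻¹ * (a : H)) * (a : H) := by group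
                _ = (a : H)⁻¹ * ((a : H) * ((a : H) * w * (a : H)⁻¹)) * (a : H) := by rw [h1]
                _ = (a : H) * w := by group
            rwa [show (a : H) * w * (a : H)⁻¹ = w by rw [← h2, mul_inv_cancel_right]] at hw⟩))
      rw [← P1.3 hB le_sup_left]
      exact Subgroup.mem_sup_right (Subgroup.mem_zpowers _)
    let f : (P1 : Subgroup H) ≃* QuaternionGroup M := (P1.equiv P).trans e
    have h2 := no_central_high_order hM2 (z := f ⟨a, haP1⟩) fun w => by
      rw [← f.apply_symm_apply w, ← map_mul, ← map_mul]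
      congr 1
      exact Subtype.ext (Subgroup.mem_centralizer_singleton_iff.1 (hP1C (f.symm w).2)).symm
    rw [← map_pow, map_eq_one_iff _ f.injective] at h2
    have h3 := orderOf_dvd_of_pow_eq_one h2
    rw [Subgroup.orderOf_mk, ha] at h3
    have := Nat.le_of_dvd (by norm_num) h3
    omega

variable [N.Normal]

/-- `N` nilpotent, not a `p`-group, `p` dividing `|N|` and `|G : N|`: not a Camina pair. -/
theorem no_nilpotent_mixed (h : IsCaminaPair N) (hN : Group.IsNilpotent N) {p q : ℕ} [Fact p.Prime]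
    [Fact q.Prime] (hqp : q ≠ p) (hpN : p ∣ Nat.card N) (hqN : q ∣ Nat.card N) (hpi : p ∣ N.index) :
    False := by
  classical
  let P : Sylow p G := default
  let Q0 : Sylow q N := default
  haveI hQ0n : (Q0 : Subgroup N).Normal :=
    (Group.isNilpotent_of_finite_tfae.out 0 3 rfl rfl).mp hN q ‹Fact q.Prime› Q0
  set Q := (Q0 : Subgroup N).map N.subtype
  haveI : (Q0 : Subgroup N).Characteristic := Sylow.characteristic_of_normal Q0 hQ0n
  haveI : Q.Normal := inferInstance
  haveI hQnt : Nontrivial Q := by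
    rw [Subgroup.nontrivial_iff_ne_bot]
    intro e
    exact Q0.ne_bot_of_dvd_card hqN ((Subgroup.map_eq_bot_iff_of_injective _ N.subtype_injective).1 e)
  have hQq : IsPGroup q Q := Q0.2.map _
  have hQN : Q ≤ N := Subgroup.map_subtype_le _
  have hcop : p.Coprime q := (Nat.coprime_primes (Fact.out : p.Prime) (Fact.out : q.Prime)).2 hqp.symm
  -- elements of `P` outside `N` act fixed point freely, those inside trivially
  have hfree : ∀ a ∈ P, a ∉ N → ∀ v ∈ Q, Commute a v → v = 1 := by
    intro a haP haN v hv hc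
    obtain ⟨k, hk⟩ := P.2 ⟨a, haP⟩
    have h1 := h.pow_eq_one haN (hQN hv) hc (congrArg Subtype.val hk)
    obtain ⟨l, hl⟩ := hQq ⟨v, hv⟩
    exact orderOf_eq_one_iff.1 (Nat.eq_one_of_dvd_coprimes (hcop.pow k l)
      (orderOf_dvd_of_pow_eq_one h1) (orderOf_dvd_of_pow_eq_one (congrArg Subtype.val hl)))
  let φ0 : (P : Subgroup G) →* MulAut Q :=
    (MulAut.conjNormal (H := Q)).comp (P : Subgroup G).subtype
  have htriv : N.subgroupOf (P : Subgroup G) ≤ φ0.ker := by
    rintro ⟨a, haP⟩ haN
    refine MonoidHom.mem_ker.2 (MulEquiv.ext fun v => Subtype.ext ?_)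
    show a * v * a⁻¹ = v
    obtain ⟨k, hk⟩ := P.2 ⟨a, haP⟩
    obtain ⟨l, hl⟩ := hQq v
    -- commuting in the nilpotent group `N`
    haveI := hN
    have hprod := (Group.isNilpotent_of_finite_tfae.out 0 3 rfl rfl).mp hN
    let Pn : Sylow p N := default
    haveI := hprod p ‹Fact p.Prime› Pn
    obtain ⟨Pa, hPa⟩ := (IsPGroup.comap_subtype (K := N)
      (P.2.to_le (Subgroup.zpowers_le.2 haP))).exists_le_sylow
    haveI : (Pa : Subgroup N).Normal := hprod p ‹Fact p.Prime› Pa
    have hd : Disjoint (Pa : Subgroup N) (Q0 : Subgroup N) :=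
      IsPGroup.disjoint_of_ne p q hqp.symm _ _ Pa.2 Q0.2
    obtain ⟨v', hv', hvv⟩ := v.2
    have hc := Subgroup.commute_of_normal_of_disjoint (H₁ := (Pa : Subgroup N))
      (H₂ := (Q0 : Subgroup N)) inferInstance inferInstance hd ⟨a, haN⟩ v'
      (hPa (Subgroup.mem_zpowers a)) hv'
    have hc' : a * (v : G) = v * a := by rw [← hvv]; exact congrArg Subtype.val hc.eq
    rw [hc', mul_inv_cancel_right]
  let φ := QuotientGroup.lift (N.subgroupOf (P : Subgroup G)) φ0 htriv
  have hfpf : ∀ a, a ≠ 1 → ∀ v : Q, φ a v = v → v = 1 := by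
    intro a ha v hv
    obtain ⟨⟨a, haP⟩, rfl⟩ := QuotientGroup.mk_surjective a
    refine Subtype.ext (hfree a haP (fun e => ha ((QuotientGroup.eq_one_iff _).2 e)) v v.2 ?_)
    exact mul_inv_eq_iff_eq_mul.1 (congrArg Subtype.val hv)
  let Pb : Sylow p (G ⧸ N) := P.mapSurjective (QuotientGroup.mk'_surjective N)
  let ψ : (P : Subgroup G) →* Pb :=
    ((QuotientGroup.mk' N).comp (P : Subgroup G).subtype).codRestrict (Pb : Subgroup (G ⧸ N))
      fun a => Subgroup.mem_map_of_mem _ a.2
  have hψs : Function.Surjective ψ := by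
    rintro ⟨_, a, ha, rfl⟩; exact ⟨⟨a, ha⟩, rfl⟩
  have hψk : ψ.ker = N.subgroupOf (P : Subgroup G) := by
    ext a
    rw [MonoidHom.mem_ker, Subgroup.mem_subgroupOf]
    exact Subtype.ext_iff.trans (QuotientGroup.eq_one_iff (a : G))
  let E : ((P : Subgroup G) ⧸ N.subgroupOf (P : Subgroup G)) ≃* Pb :=
    (QuotientGroup.quotientMulEquivOfEq hψk.symm).trans
      (QuotientGroup.quotientKerEquivOfSurjective ψ hψs)
  have huniq : ∀ a b : Pb, orderOf a = p → orderOf b = p → a ∈ Subgroup.zpowers b := by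
    intro a b ha hb
    have h1 := Lib.Frobenius.zpowers_eq_of_orderOf_prime φ hfpf
      (P.2.to_quotient (N.subgroupOf (P : Subgroup G))) ((E.symm.orderOf_eq a).trans ha)
      ((E.symm.orderOf_eq b).trans hb)
    obtain ⟨i, hi⟩ := Subgroup.mem_zpowers_iff.1 (h1 ▸ Subgroup.mem_zpowers (E.symm a))
    exact Subgroup.mem_zpowers_iff.2 ⟨i, E.symm.injective ((map_zpow _ _ _).trans hi)⟩
  obtain ⟨ab, habP, hab⟩ := exists_self_centralising Pb huniq
  obtain ⟨a, haP, rfl⟩ := habP
  obtain ⟨l, hl⟩ := IsPGroup.iff_orderOf.1 Pb.2 ⟨QuotientGroup.mk' N a, a, haP, rfl⟩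
  replace hl : orderOf (QuotientGroup.mk' N a) = p ^ l := (Subgroup.orderOf_coe _).trans hl
  -- the image is nontrivial
  have hl0 : l ≠ 0 := by
    intro h0
    have hd : p ^ 1 ∣ Nat.card (Subgroup.centralizer ({QuotientGroup.mk' N a} : Set (G ⧸ N))) := by
      rw [(orderOf_eq_one_iff (x := QuotientGroup.mk' N a)).1 (by rw [hl, h0, pow_zero]), pow_one,
        Subgroup.centralizer_eq_top_iff_subset.2 (by simp), Subgroup.card_top]
      exact hpi
    have := hab 1 hd
    rw [hl, h0, pow_zero, pow_one] at this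
    exact (Fact.out : p.Prime).not_dvd_one this
  have haN : a ∉ N := fun e => hl0 <| by
    have : QuotientGroup.mk' N a = 1 := (QuotientGroup.eq_one_iff a).2 e
    rw [this, orderOf_one] at hl
    exact (Nat.pow_eq_one.1 hl.symm).resolve_left (Fact.out : p.Prime).ne_one
  -- a central element of `P` in `N`
  obtain ⟨z, hzN, hzc, hz1⟩ := S4112.exists_mem_center_of_normal P.2 (N.subgroupOf (P : Subgroup G)) (by
    intro e
    obtain ⟨Pn, hPn⟩ := Sylow.exists_comap_eq_of_injective (default : Sylow p N) N.subtype_injective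
    obtain ⟨g, hg⟩ := MulAction.exists_smul_eq G P Pn
    refine (default : Sylow p N).ne_bot_of_dvd_card hpN (eq_bot_iff.2 fun x hx => ?_)
    rw [← hPn, Subgroup.mem_comap, ← hg, Sylow.coe_subgroup_smul,
      Subgroup.mem_pointwise_smul_iff_inv_smul_mem] at hx
    have hn : (MulAut.conj g)⁻¹ • (x : G) ∈ N := by
      simpa [MulAut.smul_def] using (inferInstance : N.Normal).conj_mem _ x.2 g⁻¹
    have h2 : (⟨_, hx⟩ : (P : Subgroup G)) ∈ N.subgroupOf (P : Subgroup G) := hn
    rw [e, Subgroup.mem_bot] at h2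
    have h3 : (MulAut.conj g)⁻¹ • (x : G) = 1 := congrArg Subtype.val h2
    rw [smul_eq_iff_eq_inv_smul, inv_inv, smul_one] at h3
    exact Subgroup.mem_bot.2 (Subtype.ext h3))
  set C := Subgroup.centralizer ({a} : Set G)
  set S := Subgroup.zpowers a ⊔ Subgroup.zpowers (z : G)
  have hSC : S ≤ C := sup_le (Subgroup.zpowers_le.2 (Subgroup.mem_centralizer_singleton_iff.2 rfl))
    (Subgroup.zpowers_le.2 (Subgroup.mem_centralizer_singleton_iff.2
      (congrArg Subtype.val (Subgroup.mem_center_iff.1 hzc ⟨a, haP⟩)).symm))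
  have hSP : S ≤ (P : Subgroup G) := sup_le (Subgroup.zpowers_le.2 haP) (Subgroup.zpowers_le.2 z.2)
  have hbig : p * p ^ l ∣ Nat.card S := by
    have hmap : Subgroup.zpowers (QuotientGroup.mk' N a) ≤ S.map (QuotientGroup.mk' N) :=
      Subgroup.zpowers_le.2 (Subgroup.mem_map_of_mem _ (Subgroup.mem_sup_left (Subgroup.mem_zpowers a)))
    obtain ⟨s, hs⟩ := IsPGroup.iff_card.1 ((P.2.to_le hSP).to_subgroup (N.subgroupOf S))
    have hs0 : s ≠ 0 := by
      rintro rfl
      rw [pow_zero] at hs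
      have : (⟨z, Subgroup.mem_sup_right (Subgroup.mem_zpowers _)⟩ : S) ∈ N.subgroupOf S := hzN
      rw [Subgroup.eq_bot_of_card_eq _ hs, Subgroup.mem_bot] at this
      have h9 : (z : G) = 1 := congrArg Subtype.val this
      exact hz1 (Subtype.ext h9)
    have hidx : (N.subgroupOf S).index = Nat.card (S.map (QuotientGroup.mk' N)) := by
      show N.relIndex S = _
      rw [← Subgroup.relIndex_ker, QuotientGroup.ker_mk']
    rw [← (N.subgroupOf S).card_mul_index, hs, hidx, ← hl, ← Nat.card_zpowers]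
    exact mul_dvd_mul (dvd_pow_self p hs0) (Subgroup.card_dvd_of_le hmap)
  have hC : Nat.card C = Nat.card (Subgroup.centralizer ({QuotientGroup.mk' N a} : Set (G ⧸ N))) :=
    (S4142.result N).1 h a haN
  have h1 : p ^ (l + 1) ∣ Nat.card (Subgroup.centralizer ({QuotientGroup.mk' N a} : Set (G ⧸ N))) := by
    rw [← hC, pow_succ']; exact hbig.trans (Subgroup.card_dvd_of_le hSC)
  have h2 := hab _ h1
  rw [hl, Nat.pow_dvd_pow_iff_le_right (Fact.out : p.Prime).one_lt] at h2
  omega

end

/-- Let G be a finite group and N a proper non-trivial normal subgroup such that for every g outside N the conjugacy class of g is a union of cosets of N (equivalently gn is conjugate to g for every n ∈ N). Then either every element of G outside N acts fixed-point-freely on N (C_G(x) ≤ N for all x ∈ N, x ≠ 1, so G is a Frobenius group with kernel N), or N has prime-power order, or G/N has prime-power order. -/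
theorem result {G : Type*} [Group G] [Finite G] (N : Subgroup G) [N.Normal] (hN1 : N ≠ ⊥) (hN2 : N ≠ ⊤)
    (hcam : ∀ g : G, g ∉ N → ∀ n ∈ N, ∃ x : G, x * g * x⁻¹ = g * n) :
    (∀ x ∈ N, x ≠ 1 → Subgroup.centralizer ({x} : Set G) ≤ N) ∨ IsPrimePow (Nat.card N) ∨ IsPrimePow N.index := by
  have h : IsCaminaPair N := hcam
  by_contra hcon
  push Not at hcon
  obtain ⟨⟨x, hxN, hx1, hxC⟩, hNp, hip⟩ := hcon
  obtain ⟨g, hgx, hgN⟩ := Set.not_subset.1 hxC
  obtain ⟨n0, hn0, hn0'⟩ : ∃ p : ℕ, p.Prime ∧ ∃ a ∈ Subgroup.zpowers g, a ∉ N ∧ ∃ k, orderOf a = p ^ k := by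
    set o := orderOf (QuotientGroup.mk' N g)
    have ho : o ≠ 1 := fun e => hgN ((QuotientGroup.eq_one_iff g).1 (orderOf_eq_one_iff.1 e))
    obtain ⟨p, hp, hpo⟩ := Nat.exists_prime_and_dvd ho
    haveI := Fact.mk hp
    obtain ⟨a, c, haz, hcz, hao, hck, hac⟩ := Lib.Transfer.exists_pPart_decomp (p := p) g
    refine ⟨p, hp, c, hcz, fun hc => ?_, hck⟩
    have hd : o ∣ orderOf a := by
      refine orderOf_dvd_of_pow_eq_one ?_
      rw [hac, map_mul, show QuotientGroup.mk' N c = 1 from (QuotientGroup.eq_one_iff c).2 hc, mul_one,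
        ← map_pow, pow_orderOf_eq_one, map_one]
    exact hp.not_dvd_one (hao.gcd_eq_one ▸ Nat.dvd_gcd (hpo.trans hd) dvd_rfl)
  obtain ⟨a, haz, haN, k, hak⟩ := hn0'
  haveI := Fact.mk hn0
  have hax : Commute a x := by
    obtain ⟨i, rfl⟩ := Subgroup.mem_zpowers_iff.1 haz
    exact (show Commute g x from Subgroup.mem_centralizer_singleton_iff.1 hgx).zpow_left i
  have hpN : n0 ∣ Nat.card N := by
    have h1 := h.pow_eq_one haN hxN hax (hak ▸ pow_orderOf_eq_one a)
    obtain ⟨j, -, hj⟩ := (Nat.dvd_prime_pow hn0).1 (orderOf_dvd_of_pow_eq_one h1)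
    have hj0 : j ≠ 0 := fun e => hx1 (orderOf_eq_one_iff.1 (by rw [hj, e, pow_zero]))
    refine (dvd_pow_self n0 hj0).trans (hj ▸ ?_)
    exact Subgroup.orderOf_dvd_natCard N hxN
  have hpi : n0 ∣ N.index := by
    have h1 : orderOf (QuotientGroup.mk' N a) ∣ n0 ^ k := hak ▸ orderOf_map_dvd _ a
    obtain ⟨j, -, hj⟩ := (Nat.dvd_prime_pow hn0).1 h1
    have hj0 : j ≠ 0 := fun e => haN ((QuotientGroup.eq_one_iff a).1
      ((orderOf_eq_one_iff (x := QuotientGroup.mk' N a)).1 (by rw [hj, e, pow_zero])))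
    exact (dvd_pow_self n0 hj0).trans (hj ▸ orderOf_dvd_natCard _)
  have other : ∀ M : ℕ, M ≠ 0 → ¬ IsPrimePow M → n0 ∣ M → ∃ r, r.Prime ∧ r ≠ n0 ∧ r ∣ M := by
    intro M hM0 hM hd
    by_contra hno
    push Not at hno
    refine hM ((isPrimePow_nat_iff M).2 ⟨n0, M.primeFactorsList.length, hn0, ?_, ?_⟩)
    · have := Nat.eq_prime_pow_of_unique_prime_dvd hM0 (p := n0) fun {r} hr hrM => by
        by_contra hne; exact hno r hr hne hrM
      by_contra h0
      rw [this, show M.primeFactorsList.length = 0 by omega, pow_zero] at hd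
      exact hn0.not_dvd_one hd
    · exact (Nat.eq_prime_pow_of_unique_prime_dvd hM0 (p := n0) fun {r} hr hrM => by
        by_contra hne; exact hno r hr hne hrM).symm
  obtain ⟨r, hr, hrn, hri⟩ := other _ Subgroup.index_ne_zero_of_finite hip hpi
  haveI := Fact.mk hr
  by_cases hrN : r ∣ Nat.card N
  · -- pass to the largest quotient of `N` that is a product of a `p`- and an `r`-group
    set K1 := pResidue n0 N
    set K2 := pResidue r N
    have hK : K1 ⊓ K2 ≤ N := inf_le_left.trans (pResidue_le n0)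
    set π := QuotientGroup.mk' (K1 ⊓ K2)
    set N' := N.map π
    haveI : N'.Normal := Subgroup.Normal.map inferInstance π (QuotientGroup.mk'_surjective _)
    have hidx : N'.index = N.index := by
      rw [Subgroup.index_map_eq _ (QuotientGroup.mk'_surjective _) (by rwa [QuotientGroup.ker_mk'])]
    -- the two projections
    have key : ∀ (q : ℕ) [Fact q.Prime], q ∣ Nat.card N → q ∣ N.index →
        IsPGroup q (N.map (QuotientGroup.mk' (pResidue q N))) ∧
          q ∣ Nat.card (N.map (QuotientGroup.mk' (pResidue q N))) := by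
      intro q _ hq hqi
      have hP : IsPGroup q (N.map (QuotientGroup.mk' (pResidue q N))) := by
        rintro ⟨_, n, hn, rfl⟩
        obtain ⟨c, d, hcz, hdz, hco, ⟨j, hj⟩, rfl⟩ := Lib.Transfer.exists_pPart_decomp (p := q) n
        refine ⟨j, Subtype.ext ?_⟩
        have hc1 : QuotientGroup.mk' (pResidue q N) c = 1 := (QuotientGroup.eq_one_iff c).2
          (Subgroup.subset_closure ⟨Subgroup.zpowers_le.2 hn hcz, hco⟩)
        simp only [SubmonoidClass.coe_pow, OneMemClass.coe_one]
        rw [map_mul, hc1, one_mul, ← map_pow, ← hj, pow_orderOf_eq_one, map_one]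
      refine ⟨hP, ?_⟩
      obtain ⟨j, hj⟩ := IsPGroup.iff_card.1 hP
      rw [hj]
      refine dvd_pow_self q fun h0 => ?_
      rw [h0, pow_zero] at hj
      refine (h.pResidue_lt hq hqi).not_ge fun n hn => ?_
      have h2 : QuotientGroup.mk' (pResidue q N) n ∈ N.map (QuotientGroup.mk' (pResidue q N)) :=
        Subgroup.mem_map_of_mem _ hn
      rw [Subgroup.eq_bot_of_card_eq _ hj, Subgroup.mem_bot] at h2
      exact (QuotientGroup.eq_one_iff n).1 h2
    obtain ⟨hP1, hd1⟩ := key n0 hpN hpi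
    obtain ⟨hP2, hd2⟩ := key r hrN hri
    let pr : ∀ (K : Subgroup G) [K.Normal] (hle : K1 ⊓ K2 ≤ K), N' →* N.map (QuotientGroup.mk' K) :=
      fun K _ hle => ((QuotientGroup.map _ K (MonoidHom.id G) hle).comp N'.subtype).codRestrict _ (by
        rintro ⟨_, n, hn, rfl⟩; exact ⟨n, hn, rfl⟩)
    have hsurj : ∀ (K : Subgroup G) [K.Normal] (hle : K1 ⊓ K2 ≤ K), Function.Surjective (pr K hle) := by
      rintro K _ hle ⟨_, n, hn, rfl⟩; exact ⟨⟨_, n, hn, rfl⟩, rfl⟩
    have hnil : Group.IsNilpotent N' := by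
      haveI := hP1.isNilpotent
      haveI := hP2.isNilpotent
      refine Lib.Cores.isNilpotent_of_injective ((pr K1 inf_le_left).prod (pr K2 inf_le_right)) ?_
      rw [← MonoidHom.ker_eq_bot_iff, eq_bot_iff]
      rintro ⟨_, n, hn, rfl⟩ he
      rw [MonoidHom.mem_ker, MonoidHom.prod_apply, Prod.mk_eq_one] at he
      refine Subgroup.mem_bot.2 (Subtype.ext ((QuotientGroup.eq_one_iff n).2 ⟨?_, ?_⟩))
      · exact (QuotientGroup.eq_one_iff n).1 (congrArg Subtype.val he.1)
      · exact (QuotientGroup.eq_one_iff n).1 (congrArg Subtype.val he.2)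
    exact no_nilpotent_mixed (h.map _ hK) hnil hrn
      (hd1.trans (Subgroup.card_dvd_of_surjective _ (hsurj K1 inf_le_left)))
      (hd2.trans (Subgroup.card_dvd_of_surjective _ (hsurj K2 inf_le_right))) (hidx ▸ hpi)
  · obtain ⟨q, hq, hqn, hqN⟩ := other _ Nat.card_pos.ne' hNp hpN
    haveI := Fact.mk hq
    obtain ⟨u, hu⟩ := exists_prime_orderOf_dvd_card' (G := G) r (hri.trans N.index_dvd_card)
    have huN : u ∉ N := fun e => hrN (hu ▸ Subgroup.orderOf_dvd_natCard N e)
    have hfpf : MonoidHom.FixedPointFree ((MulAut.conjNormal u : MulAut N) : N →* N) := by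
      intro n hn
      have hc : Commute u (n : G) := mul_inv_eq_iff_eq_mul.1 (congrArg Subtype.val hn)
      have h1 := h.pow_eq_one huN n.2 hc (hu ▸ pow_orderOf_eq_one u)
      refine Subtype.ext ((orderOf_eq_one_iff).1 (Nat.eq_one_of_dvd_coprimes
        ((hr.coprime_iff_not_dvd).2 hrN) (orderOf_dvd_of_pow_eq_one h1) ?_))
      exact Subgroup.orderOf_dvd_natCard N n.2
    have hord : orderOf (MulAut.conjNormal u : MulAut N) = r := by
      refine orderOf_eq_prime (by rw [← map_pow, ← hu, pow_orderOf_eq_one, map_one]) fun e => ?_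
      obtain ⟨v, hv⟩ := exists_prime_orderOf_dvd_card' (G := N) q hqN
      have : v = 1 := hfpf v (by rw [e]; rfl)
      rw [this, orderOf_one] at hv
      exact hq.ne_one hv.symm
    exact no_nilpotent_mixed h (S0033.result _ hfpf r hr hord) hqn hpN hqN hpi

end Cfsg.Agent.S4140
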