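import Cfsg.Statements.S4143
import Cfsg.Agent.Lib.Coprime.Hall
import Mathlib.GroupTheory.Nilpotent
import Mathlib.Tactic

set_option autoImplicit false
open Cfsg

namespace Cfsg.Agent.S4143

universe u

variable {p : ℕ} [hp : Fact p.Prime]

theorem comm_of_card_le_sq {Y : Type*} [Group Y] [Finite Y] (hY : IsPGroup p Y)
    (h : Nat.card Y ≤ p ^ 2) : ∀ x y : Y, x * y = y * x := by
  obtain ⟨k, hk⟩ := IsPGroup.iff_card.mp hY
  have hk2 : k ≤ 2 := (Nat.pow_le_pow_iff_right hp.out.one_lt).mp (hk ▸ h)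
  interval_cases k
  · intro x y
    haveI := (Nat.card_eq_one_iff_unique.mp (by rw [hk, pow_zero])).1
    exact Subsingleton.elim _ _
  · haveI := isCyclic_of_prime_card (α := Y) (p := p) (by rw [hk, pow_one])
    exact IsCyclic.isMulCommutative.is_comm.comm
  · exact IsPGroup.commutative_of_card_eq_prime_sq hk

theorem class_eq_one_of_comm {Y : Type*} [Group Y] [Finite Y] [Nontrivial Y] (hY : IsPGroup p Y)
    (h : ∀ x y : Y, x * y = y * x) : Group.nilpotencyClass Y = 1 := by
  haveI := hY.isNilpotent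
  letI : CommGroup Y := { (inferInstance : Group Y) with mul_comm := h }
  have h1 : Group.nilpotencyClass Y ≤ 1 := CommGroup.nilpotencyClass_le_one
  have h0 : Group.nilpotencyClass Y ≠ 0 := fun h0 =>
    not_subsingleton Y (nilpotencyClass_zero_iff_subsingleton.mp h0)
  omega

theorem class_quotient {Y : Type*} [Group Y] [Finite Y] [Nontrivial Y] (hY : IsPGroup p Y) :
    Group.nilpotencyClass Y = Group.nilpotencyClass (Y ⧸ Subgroup.center Y) + 1 := by
  haveI := hY.isNilpotent
  exact nilpotencyClass_eq_quotient_center_plus_one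

/-- An element with centraliser of order at most `p²` gives maximal class. -/
theorem class_of_element : ∀ (n : ℕ) (Y : Type u) [Group Y] [Finite Y], Nat.card Y = p ^ n → 2 ≤ n →
    (∃ a : Y, Nat.card (Subgroup.centralizer ({a} : Set Y)) ≤ p ^ 2) →
    Group.nilpotencyClass Y = n - 1 := by
  intro n
  induction n using Nat.strong_induction_on with
  | _ n ih =>
  rintro Y _ _ hY hn ⟨a, ha⟩
  have hYp : IsPGroup p Y := IsPGroup.of_card hY
  haveI : Nontrivial Y := Finite.one_lt_card_iff_nontrivial.mp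
    (hY ▸ Nat.one_lt_pow (by omega) hp.out.one_lt)
  by_cases hsmall : n = 2
  · subst hsmall
    exact class_eq_one_of_comm hYp (comm_of_card_le_sq hYp hY.le)
  set C := Subgroup.centralizer ({a} : Set Y)
  set Z := Subgroup.center Y
  have hbig : p ^ 2 < Nat.card Y := hY ▸ Nat.pow_lt_pow_right hp.out.one_lt (by omega)
  have haZ : a ∉ Z := fun h => by
    have : C = ⊤ := Subgroup.centralizer_eq_top_iff_subset.mpr (Set.singleton_subset_iff.mpr h)
    rw [this, Subgroup.card_top] at ha
    omega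
  have hZC : Z < C := lt_of_le_of_ne (Subgroup.center_le_centralizer _)
    fun h => haZ (h ▸ Subgroup.mem_centralizer_singleton_iff.mpr rfl)
  obtain ⟨i, hi⟩ := IsPGroup.iff_card.mp (hYp.to_subgroup Z)
  obtain ⟨j, hj⟩ := IsPGroup.iff_card.mp (hYp.to_subgroup C)
  have hi0 : i ≠ 0 := fun h0 => by
    have := hYp.center_nontrivial
    exact (Finite.one_lt_card_iff_nontrivial.mpr this).ne' (by rw [hi, h0, pow_zero])
  have hij : i < j := by
    by_contra hle
    exact hZC.ne (Subgroup.eq_of_le_of_card_ge hZC.le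
      (hi ▸ hj ▸ Nat.pow_le_pow_right hp.out.pos (not_lt.mp hle)))
  have hj2 : j ≤ 2 := (Nat.pow_le_pow_iff_right hp.out.one_lt).mp (hj ▸ ha)
  have hi1 : i = 1 := by omega
  have hcard : Nat.card (Y ⧸ Z) = p ^ (n - 1) := by
    refine Nat.eq_of_mul_eq_mul_right (hp.out.pos) ?_
    rw [← pow_succ, show n - 1 + 1 = n by omega, ← hY, Z.card_eq_card_quotient_mul_card_subgroup, hi,
      hi1, pow_one]
  rw [class_quotient hYp, ih (n - 1) (by omega) (Y ⧸ Z) hcard (by omega) ⟨QuotientGroup.mk a, ?_⟩]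
  · omega
  set D := (Subgroup.centralizer ({(QuotientGroup.mk a : Y ⧸ Z)} : Set (Y ⧸ Z))).comap (QuotientGroup.mk' Z)
  have hmem : ∀ d : D, (d : Y) * a * (d : Y)⁻¹ * a⁻¹ ∈ Z := fun d => by
    have := Subgroup.mem_centralizer_singleton_iff.mp (Subgroup.mem_comap.mp d.2)
    rw [← QuotientGroup.eq_one_iff]
    simp only [QuotientGroup.mk_mul, QuotientGroup.mk_inv]
    have h : (QuotientGroup.mk (d : Y) : Y ⧸ Z) * QuotientGroup.mk a = QuotientGroup.mk a * QuotientGroup.mk (d : Y) := this
    rw [h]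
    group
  let f : D →* Z := MonoidHom.mk' (fun d => ⟨(d : Y) * a * (d : Y)⁻¹ * a⁻¹, hmem d⟩) fun d e => by
    refine Subtype.ext ?_
    show (d : Y) * e * a * ((d : Y) * e)⁻¹ * a⁻¹ = _ * ((e : Y) * a * (e : Y)⁻¹ * a⁻¹)
    have hz := Subgroup.mem_center_iff.mp (hmem e) (d : Y)
    calc (d : Y) * e * a * ((d : Y) * e)⁻¹ * a⁻¹
        = (d : Y) * ((e : Y) * a * (e : Y)⁻¹ * a⁻¹) * (a * (d : Y)⁻¹ * a⁻¹) := by group
      _ = ((e : Y) * a * (e : Y)⁻¹ * a⁻¹) * ((d : Y) * a * (d : Y)⁻¹ * a⁻¹) := by rw [hz]; group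
      _ = _ := (Subgroup.mem_center_iff.mp (hmem e) _).symm
  have hker : Nat.card f.ker ≤ Nat.card C := by
    refine Nat.card_le_card_of_injective (fun d => (⟨((d : D) : Y), ?_⟩ : C)) fun x y h =>
      Subtype.ext (Subtype.ext (congrArg Subtype.val h :))
    rw [Subgroup.mem_centralizer_singleton_iff]
    have h1 : ((d : D) : Y) * a * ((d : D) : Y)⁻¹ * a⁻¹ = 1 := congrArg Subtype.val (MonoidHom.mem_ker.mp d.2)
    exact mul_inv_eq_iff_eq_mul.mp (mul_inv_eq_one.mp h1)
  have hDle : Nat.card D ≤ p ^ 3 := by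
    rw [f.ker.card_eq_card_quotient_mul_card_subgroup, pow_succ' p 2]
    refine Nat.mul_le_mul ?_ (hker.trans ha)
    rw [← Subgroup.index_eq_card, Subgroup.index_ker]
    refine (Subgroup.card_le_card_group _).trans (le_of_eq ?_)
    rw [hi, hi1, pow_one]
  rw [Cfsg.Agent.Lib.Coprime.card_comap_mk', hi, hi1, pow_one, pow_succ'] at hDle
  exact Nat.le_of_mul_le_mul_left hDle hp.out.pos

/-- A self-centralising subgroup of order `p²` gives maximal class. -/
theorem class_of_subgroup (n : ℕ) (Y : Type u) [Group Y] [Finite Y] (hY : Nat.card Y = p ^ n)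
    (hn : 2 ≤ n) (A : Subgroup Y) (hA : Nat.card A = p ^ 2)
    (hC : Subgroup.centralizer (A : Set Y) ≤ A) : Group.nilpotencyClass Y = n - 1 := by
  have hYp : IsPGroup p Y := IsPGroup.of_card hY
  set Z := Subgroup.center Y
  have hZA : Z ≤ A := (Subgroup.center_le_centralizer _).trans hC
  by_cases hZ : Z = A
  · have : Subgroup.centralizer (A : Set Y) = ⊤ :=
      Subgroup.centralizer_eq_top_iff_subset.mpr (by rw [← hZ])
    rw [this, top_le_iff] at hC
    refine class_of_element n Y hY hn ⟨1, (Subgroup.card_le_card_group _).trans (le_of_eq ?_)⟩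
    rw [← hA, hC, Subgroup.card_top]
  · obtain ⟨a, haA, haZ⟩ : ∃ a ∈ A, a ∉ Z := by
      by_contra hall
      push Not at hall
      exact hZ (le_antisymm hZA hall)
    refine class_of_element n Y hY hn ⟨a, ?_⟩
    set K := Z ⊔ Subgroup.zpowers a
    have hKA : K = A := by
      refine Subgroup.eq_of_le_of_card_ge (sup_le hZA (Subgroup.zpowers_le.mpr haA)) ?_
      obtain ⟨i, hi⟩ := IsPGroup.iff_card.mp (hYp.to_subgroup Z)
      obtain ⟨j, hj⟩ := IsPGroup.iff_card.mp (hYp.to_subgroup K)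
      haveI : Nontrivial Y := ⟨⟨a, 1, fun h => haZ (h ▸ one_mem _)⟩⟩
      have hi0 : i ≠ 0 := fun h0 => by
        have := hYp.center_nontrivial
        exact (Finite.one_lt_card_iff_nontrivial.mpr this).ne' (by rw [hi, h0, pow_zero])
      have hlt : Z < K := lt_of_le_of_ne le_sup_left fun h =>
        haZ (h ▸ Subgroup.mem_sup_right (Subgroup.mem_zpowers a))
      have hij : i < j := by
        by_contra hle
        exact hlt.ne (Subgroup.eq_of_le_of_card_ge hlt.le
          (hi ▸ hj ▸ Nat.pow_le_pow_right hp.out.pos (not_lt.mp hle)))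
      rw [hA, hj]
      exact Nat.pow_le_pow_right hp.out.pos (by omega)
    have hle : Subgroup.centralizer ({a} : Set Y) ≤ Subgroup.centralizer (A : Set Y) := by
      intro x hx
      rw [Subgroup.mem_centralizer_iff]
      intro w hw
      have hxK : K ≤ Subgroup.centralizer ({x} : Set Y) := sup_le (Subgroup.center_le_centralizer _)
        (Subgroup.zpowers_le.mpr (Subgroup.mem_centralizer_singleton_iff.mpr
          (Subgroup.mem_centralizer_singleton_iff.mp hx).symm))
      exact Subgroup.mem_centralizer_singleton_iff.mp (hxK (hKA.symm ▸ hw))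
    exact (Subgroup.card_le_of_le (hle.trans hC)).trans hA.le

/-- Let X be a finite p-group of order p^n containing a non-abelian subgroup B of order p³ with C_X(B) ≤ B. Then X has nilpotency class n − 1 (maximal class). -/
theorem result {X : Type*} [Group X] [Finite X] {p : ℕ} [Fact p.Prime] (n : ℕ) (hX : Nat.card X = p ^ n)
    (B : Subgroup X) (hB : Nat.card B = p ^ 3) (hBna : ¬ IsMulCommutative B) (hC : Subgroup.centralizer (B : Set X) ≤ B) :
    Group.nilpotencyClass X = n - 1 := by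
  have hp := (Fact.out : p.Prime)
  have hXp : IsPGroup p X := IsPGroup.of_card hX
  have hBp : IsPGroup p B := hXp.to_subgroup B
  have hn : 3 ≤ n := by
    have h := Subgroup.card_subgroup_dvd_card B
    rw [hX, hB] at h
    exact (Nat.pow_dvd_pow_iff_le_right hp.one_lt).mp h
  haveI : Nontrivial X := Finite.one_lt_card_iff_nontrivial.mp
    (hX ▸ Nat.one_lt_pow (by omega) hp.one_lt)
  obtain ⟨u, v, huv⟩ : ∃ u v : B, u * v ≠ v * u := by
    by_contra hall
    push Not at hall
    exact hBna ⟨⟨hall⟩⟩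
  set Z := Subgroup.center X
  have hZB : Z ≤ B := (Subgroup.center_le_centralizer _).trans hC
  have hZsub : ∀ w ∈ Z, ∀ b : B, w * (b : X) = (b : X) * w := fun w hw b =>
    (Subgroup.mem_center_iff.mp hw b).symm
  have hgen : ∀ K : Subgroup B, u ∈ K → v ∈ K → K = ⊤ := by
    intro K hu hv
    by_contra hK
    obtain ⟨i, hi⟩ := IsPGroup.iff_card.mp (hBp.to_subgroup K)
    have hlt : i < 3 := by
      by_contra hle
      exact hK (Subgroup.eq_top_of_le_card K (hB ▸ hi ▸ Nat.pow_le_pow_right hp.pos (not_lt.mp hle)))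
    exact huv (congrArg Subtype.val (comm_of_card_le_sq (hBp.to_subgroup K)
      (hi ▸ Nat.pow_le_pow_right hp.pos (by omega)) ⟨u, hu⟩ ⟨v, hv⟩) :)
  obtain ⟨iz, hiz⟩ := IsPGroup.iff_card.mp (hXp.to_subgroup Z)
  have hiz1 : iz = 1 := by
    have h0 : iz ≠ 0 := fun h0 => by
      have := hXp.center_nontrivial
      exact (Finite.one_lt_card_iff_nontrivial.mpr this).ne' (by rw [hiz, h0, pow_zero])
    by_contra h1
    have h2 : 2 ≤ iz := by omega
    -- then `Z` and `u` generate an abelian group which is all of `B`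
    set W := Z.subgroupOf B ⊔ Subgroup.zpowers u
    have hlt : Z.subgroupOf B < W := by
      refine lt_of_le_of_ne le_sup_left fun h => huv ?_
      have : u ∈ Z.subgroupOf B := h ▸ Subgroup.mem_sup_right (Subgroup.mem_zpowers u)
      exact Subtype.ext (hZsub _ (Subgroup.mem_subgroupOf.mp this) v)
    obtain ⟨j, hj⟩ := IsPGroup.iff_card.mp (hBp.to_subgroup W)
    have hc : Nat.card (Z.subgroupOf B) = p ^ iz := by
      rw [Nat.card_congr (Subgroup.subgroupOfEquivOfLe hZB).toEquiv, hiz]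
    have hij : iz < j := by
      by_contra hle
      exact hlt.ne (Subgroup.eq_of_le_of_card_ge hlt.le
        (hc ▸ hj ▸ Nat.pow_le_pow_right hp.pos (not_lt.mp hle)))
    have hW : W = ⊤ := Subgroup.eq_top_of_le_card W (hB ▸ hj ▸ Nat.pow_le_pow_right hp.pos (by omega))
    have hWc : W ≤ Subgroup.centralizer ({u} : Set B) := sup_le
      (fun w hw => Subgroup.mem_centralizer_singleton_iff.mpr
        (Subtype.ext (hZsub _ (Subgroup.mem_subgroupOf.mp hw) u)))
      (Subgroup.zpowers_le.mpr (Subgroup.mem_centralizer_singleton_iff.mpr rfl))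
    exact huv (Subgroup.mem_centralizer_singleton_iff.mp (hWc (hW ▸ Subgroup.mem_top v))).symm
  rw [class_quotient hXp]
  set π := QuotientGroup.mk' Z
  have hcard : Nat.card (X ⧸ Z) = p ^ (n - 1) := by
    refine Nat.eq_of_mul_eq_mul_right hp.pos ?_
    rw [← pow_succ, show n - 1 + 1 = n by omega, ← hX, Z.card_eq_card_quotient_mul_card_subgroup, hiz,
      hiz1, pow_one]
  have hA : Nat.card (B.map π) = p ^ 2 := by
    refine Nat.eq_of_mul_eq_mul_left hp.pos ?_
    have h := Cfsg.Agent.Lib.Coprime.card_comap_mk' Z (B.map π)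
    rw [Subgroup.comap_map_eq, QuotientGroup.ker_mk', sup_eq_left.mpr hZB, hB, hiz, hiz1, pow_one] at h
    rw [← h]; ring
  rw [class_of_subgroup (p := p) (n - 1) (X ⧸ Z) hcard (by omega) (B.map π) hA ?_]
  · omega
  set D := (Subgroup.centralizer ((B.map π : Subgroup (X ⧸ Z)) : Set (X ⧸ Z))).comap π
  suffices hDB : D ≤ B by
    intro y hy
    obtain ⟨x, rfl⟩ := QuotientGroup.mk'_surjective Z y
    exact Subgroup.mem_map_of_mem π (hDB hy)
  have hmem : ∀ (b : B) (d : D), (d : X) * b * (d : X)⁻¹ * (b : X)⁻¹ ∈ Z := fun b d => by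
    have h := Subgroup.mem_centralizer_iff.mp (Subgroup.mem_comap.mp d.2) (π b) (Subgroup.mem_map_of_mem π b.2)
    rw [← QuotientGroup.eq_one_iff]
    show π _ = 1
    rw [map_mul, map_mul, map_mul, map_inv, map_inv, ← h]
    group
  let f : B → (D →* Z) := fun b => MonoidHom.mk' (fun d => ⟨_, hmem b d⟩) fun d e => by
    refine Subtype.ext ?_
    show (d : X) * e * b * ((d : X) * e)⁻¹ * (b : X)⁻¹ = _ * ((e : X) * b * (e : X)⁻¹ * (b : X)⁻¹)
    have hz := Subgroup.mem_center_iff.mp (hmem b e) (d : X)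
    calc (d : X) * e * b * ((d : X) * e)⁻¹ * (b : X)⁻¹
        = (d : X) * ((e : X) * b * (e : X)⁻¹ * (b : X)⁻¹) * ((b : X) * (d : X)⁻¹ * (b : X)⁻¹) := by group
      _ = ((e : X) * b * (e : X)⁻¹ * (b : X)⁻¹) * ((d : X) * b * (d : X)⁻¹ * (b : X)⁻¹) := by rw [hz]; group
      _ = _ := (Subgroup.mem_center_iff.mp (hmem b e) _).symm
  let g : D →* Z × Z := (f u).prod (f v)
  have hker : Nat.card g.ker ≤ p := by
    refine le_of_le_of_eq (Nat.card_le_card_of_injective (fun d => (⟨((d : D) : X), ?_⟩ : Z))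
      fun x y h => Subtype.ext (Subtype.ext (congrArg Subtype.val h :))) (by rw [hiz, hiz1, pow_one])
    have hd := MonoidHom.mem_ker.mp d.2
    have h1 : ∀ b : B, f b (d : D) = 1 → ((d : D) : X) * b = (b : X) * ((d : D) : X) := fun b hb => by
      have h2 : ((d : D) : X) * b * ((d : D) : X)⁻¹ * (b : X)⁻¹ = 1 := congrArg Subtype.val hb
      exact mul_inv_eq_iff_eq_mul.mp (mul_inv_eq_one.mp h2)
    have hCd : (Subgroup.centralizer ({((d : D) : X)} : Set X)).subgroupOf B = ⊤ :=
      hgen _ (Subgroup.mem_subgroupOf.mpr (Subgroup.mem_centralizer_singleton_iff.mpr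
          (h1 u (congrArg Prod.fst hd)).symm))
        (Subgroup.mem_subgroupOf.mpr (Subgroup.mem_centralizer_singleton_iff.mpr
          (h1 v (congrArg Prod.snd hd)).symm))
    have hdC : ((d : D) : X) ∈ Subgroup.centralizer (B : Set X) := by
      rw [Subgroup.mem_centralizer_iff]
      intro w hw
      exact Subgroup.mem_centralizer_singleton_iff.mp (Subgroup.mem_subgroupOf.mp
        (show (⟨w, hw⟩ : B) ∈ _ from hCd ▸ Subgroup.mem_top _))
    have hdB := hC hdC
    -- the centre of `B` is `Z`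
    by_contra hdZ
    set W := Z.subgroupOf B ⊔ Subgroup.zpowers (⟨_, hdB⟩ : B)
    have hWc : ∀ b : B, b ∈ W → ∀ b' : B, b * b' = b' * b := by
      intro b hb b'
      have hle : W ≤ Subgroup.centralizer ({b'} : Set B) := sup_le
        (fun w hw => Subgroup.mem_centralizer_singleton_iff.mpr
          (Subtype.ext (hZsub _ (Subgroup.mem_subgroupOf.mp hw) b')))
        (Subgroup.zpowers_le.mpr (Subgroup.mem_centralizer_singleton_iff.mpr
          (Subtype.ext (Subgroup.mem_centralizer_iff.mp hdC _ b'.2).symm)))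
      exact Subgroup.mem_centralizer_singleton_iff.mp (hle hb)
    obtain ⟨j, hj⟩ := IsPGroup.iff_card.mp (hBp.to_subgroup W)
    have hlt : Z.subgroupOf B < W := lt_of_le_of_ne le_sup_left fun h => hdZ
      (Subgroup.mem_subgroupOf.mp (show (⟨_, hdB⟩ : B) ∈ Z.subgroupOf B from h ▸ Subgroup.mem_sup_right (Subgroup.mem_zpowers _)))
    have hc : Nat.card (Z.subgroupOf B) = p := by
      rw [Nat.card_congr (Subgroup.subgroupOfEquivOfLe hZB).toEquiv, hiz, hiz1, pow_one]
    have hj2 : 2 ≤ j := by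
      by_contra hle
      exact hlt.ne (Subgroup.eq_of_le_of_card_ge hlt.le
        (by rw [hc, hj]; exact (Nat.pow_le_pow_right hp.pos (by omega : j ≤ 1)).trans (pow_one p).le))
    set W' := W ⊔ Subgroup.zpowers u
    have hlt' : W < W' := lt_of_le_of_ne le_sup_left fun h =>
      huv (hWc u (h ▸ Subgroup.mem_sup_right (Subgroup.mem_zpowers u)) v)
    obtain ⟨l, hl⟩ := IsPGroup.iff_card.mp (hBp.to_subgroup W')
    have hjl : j < l := by
      by_contra hle
      exact hlt'.ne (Subgroup.eq_of_le_of_card_ge hlt'.le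
        (hj ▸ hl ▸ Nat.pow_le_pow_right hp.pos (not_lt.mp hle)))
    have hW' : W' = ⊤ := Subgroup.eq_top_of_le_card W' (hB ▸ hl ▸ Nat.pow_le_pow_right hp.pos (by omega))
    have hWu : W' ≤ Subgroup.centralizer ({u} : Set B) := sup_le
      (fun w hw => Subgroup.mem_centralizer_singleton_iff.mpr (hWc w hw u))
      (Subgroup.zpowers_le.mpr (Subgroup.mem_centralizer_singleton_iff.mpr rfl))
    exact huv (Subgroup.mem_centralizer_singleton_iff.mp (hWu (hW' ▸ Subgroup.mem_top v))).symm
  have hBsubD : B ≤ D := by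
    intro b hb
    show π b ∈ Subgroup.centralizer _
    rw [Subgroup.mem_centralizer_iff]
    intro w hw
    exact congrArg Subtype.val (comm_of_card_le_sq ((hXp.to_quotient Z).to_subgroup (B.map π)) hA.le
      ⟨w, hw⟩ ⟨π b, Subgroup.mem_map_of_mem π hb⟩)
  refine (Subgroup.eq_of_le_of_card_ge hBsubD ?_).ge
  rw [g.ker.card_eq_card_quotient_mul_card_subgroup, hB, pow_succ p 2]
  refine Nat.mul_le_mul ?_ hker
  rw [← Subgroup.index_eq_card, Subgroup.index_ker]
  refine (Subgroup.card_le_card_group _).trans (le_of_eq ?_)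
  rw [Nat.card_prod, hiz, hiz1, pow_one, sq]

end Cfsg.Agent.S4143
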