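import Cfsg.Statements.S4144
import Cfsg.Agent.Lib.MaxClassPower.Engel

set_option autoImplicit false
open Cfsg

namespace Cfsg.Agent.S4144

set_option maxHeartbeats 1000000
set_option linter.unusedSectionVars false

open scoped commutatorElement
open Cfsg.Agent.Lib.MaxClassPower
open Subgroup (mem_top)

universe u

theorem relIndex_mul_card {G : Type*} [Group G] {H K : Subgroup G} (h : H ≤ K) :
    H.relIndex K * Nat.card H = Nat.card K := by
  have := Subgroup.card_mul_index (H.subgroupOf K)
  rw [Nat.card_congr (Subgroup.subgroupOfEquivOfLe h).toEquiv] at this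
  rw [mul_comm]; exact this

variable {X : Type u} [Group X] [Finite X] {p : ℕ} [hp : Fact p.Prime]

/-- The subgroup of elements centralizing `L j / L (j + 2)`. -/
def layerCent (X : Type u) [Group X] [Finite X] (j : ℕ) : Subgroup X where
  carrier := {x | ∀ g ∈ L X j, ⁅g, x⁆ ∈ L X (j + 2)}
  one_mem' := fun g _ => by simp [one_mem]
  mul_mem' := fun {x y} hx hy g hg => by
    have e : ⁅g, x * y⁆ = ⁅g, x⁆ * (x * ⁅g, y⁆ * x⁻¹) := by
      simp only [commutatorElement_def]; group
    rw [e]
    exact mul_mem (hx g hg) ((inferInstance : (L X (j + 2)).Normal).conj_mem _ (hy g hg) x)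
  inv_mem' := fun {x} hx g hg => by
    have e : ⁅g, x⁻¹⁆ = x⁻¹ * ⁅g, x⁆⁻¹ * x⁻¹⁻¹ := by simp only [commutatorElement_def]; group
    rw [e]
    exact (inferInstance : (L X (j + 2)).Normal).conj_mem _ (inv_mem (hx g hg)) _

theorem mem_layerCent {j : ℕ} {x : X} : x ∈ layerCent X j ↔ ∀ g ∈ L X j, ⁅g, x⁆ ∈ L X (j + 2) :=
  Iff.rfl

variable {n : ℕ} (hn : 2 ≤ n) (hX : Nat.card X = p ^ n) (hmax : ∀ j, j < n - 1 → L X j ≠ ⊥)

include hn hX hmax in
theorem L_lt {j : ℕ} (h1 : 1 ≤ j) (h2 : j + 2 ≤ n) :
    p * Nat.card (L X (j + 1)) = Nat.card (L X j) := by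
  rw [card_L hn hX hmax (by omega) (by omega), card_L hn hX hmax h1 (by omega), ← pow_succ']
  congr 1; omega

include hn hX hmax in
/-- A layer is generated by any element outside the next one. -/
theorem layer_gen {j : ℕ} (h1 : 1 ≤ j) (h2 : j + 2 ≤ n) {g : X} (hg : g ∈ L X j)
    (hg' : g ∉ L X (j + 1)) : Subgroup.zpowers g ⊔ L X (j + 1) = L X j := by
  have hpG : IsPGroup p X := IsPGroup.of_card hX
  have hle : Subgroup.zpowers g ⊔ L X (j + 1) ≤ L X j :=
    sup_le (Subgroup.zpowers_le.mpr hg) (L_mono (by omega))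
  have hlt : L X (j + 1) < Subgroup.zpowers g ⊔ L X (j + 1) := lt_of_le_of_ne le_sup_right fun h =>
    hg' (by rw [h]; exact Subgroup.mem_sup_left (Subgroup.mem_zpowers g))
  refine Subgroup.eq_of_le_of_card_ge hle ?_
  have := Lib.PGroups.card_mul_le_of_lt (hpG.to_subgroup _) hlt
  rw [← L_lt hn hX hmax h1 h2, mul_comm]
  exact this

include hn hX hmax in
theorem mem_layerCent_of {j : ℕ} (h1 : 1 ≤ j) (h2 : j + 2 ≤ n) {g x : X} (hg : g ∈ L X j)
    (hg' : g ∉ L X (j + 1)) (h : ⁅g, x⁆ ∈ L X (j + 2)) : x ∈ layerCent X j := by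
  intro g' hg2
  rw [← layer_gen hn hX hmax h1 h2 hg hg'] at hg2
  let B : Subgroup X :=
    { carrier := {a | ⁅a, x⁆ ∈ L X (j + 2)}
      one_mem' := by simp [one_mem]
      mul_mem' := fun {a b} ha hb => by
        show ⁅a * b, x⁆ ∈ L X (j + 2)
        rw [show ⁅a * b, x⁆ = a * ⁅b, x⁆ * a⁻¹ * ⁅a, x⁆ by simp only [commutatorElement_def]; group]
        exact mul_mem ((inferInstance : (L X (j + 2)).Normal).conj_mem _ hb a) ha
      inv_mem' := fun {a} ha => by
        show ⁅a⁻¹, x⁆ ∈ L X (j + 2)
        rw [show ⁅a⁻¹, x⁆ = a⁻¹ * ⁅a, x⁆⁻¹ * a⁻¹⁻¹ by simp only [commutatorElement_def]; group]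
        exact (inferInstance : (L X (j + 2)).Normal).conj_mem _ (inv_mem ha) _ }
  have hle : Subgroup.zpowers g ⊔ L X (j + 1) ≤ B :=
    sup_le (Subgroup.zpowers_le.mpr h) fun l hl => L_comm (j := 0) hl (mem_top x)
  exact hle hg2

include hn hX hmax in
theorem layerCent_ne_top {j : ℕ} (h1 : 1 ≤ j) (h2 : j + 3 ≤ n) : layerCent X j ≠ ⊤ := by
  intro hC
  have hle : L X (j + 1) ≤ L X (j + 2) := by
    show ⁅L X j, (⊤ : Subgroup X)⁆ ≤ L X (j + 2)
    rw [Subgroup.commutator_le]
    exact fun g hg x _ => mem_layerCent.mp (hC ▸ mem_top x) g hg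
  have := Subgroup.card_le_of_le hle
  rw [card_L hn hX hmax (by omega) (by omega), card_L hn hX hmax (by omega) (by omega),
    Nat.pow_le_pow_iff_right hp.out.one_lt] at this
  omega

include hn hX hmax in
theorem card_L_one : Nat.card (L X 1) = p ^ (n - 2) := by
  rw [card_L hn hX hmax le_rfl (by omega)]; rfl

include hn hX hmax in
/-- Two elements independent modulo the derived group generate the group modulo it. -/
theorem sup_eq_top {x y : X} (hx : x ∉ L X 1) (hy : y ∉ Subgroup.zpowers x ⊔ L X 1) :
    Subgroup.zpowers y ⊔ (Subgroup.zpowers x ⊔ L X 1) = ⊤ := by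
  have hpG : IsPGroup p X := IsPGroup.of_card hX
  have h1 : L X 1 < Subgroup.zpowers x ⊔ L X 1 := lt_of_le_of_ne le_sup_right fun h =>
    hx (by rw [h]; exact Subgroup.mem_sup_left (Subgroup.mem_zpowers x))
  have h2 : Subgroup.zpowers x ⊔ L X 1 < Subgroup.zpowers y ⊔ (Subgroup.zpowers x ⊔ L X 1) :=
    lt_of_le_of_ne le_sup_right fun h =>
      hy (by rw [h]; exact Subgroup.mem_sup_left (Subgroup.mem_zpowers y))
  refine Subgroup.eq_top_of_card_eq _ (le_antisymm ?_ ?_)
  · exact Nat.card_le_card_of_injective _ Subtype.val_injective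
  · have e1 := Lib.PGroups.card_mul_le_of_lt (hpG.to_subgroup _) h1
    have e2 := Lib.PGroups.card_mul_le_of_lt (hpG.to_subgroup _) h2
    rw [card_L_one hn hX hmax, ← pow_succ] at e1
    rw [hX, show p ^ n = p ^ (n - 2 + 1) * p by rw [← pow_succ]; congr 1; omega]
    exact le_trans (Nat.mul_le_mul_right p e1) e2

include hn hX hmax in
theorem comm_notMem_two (hn3 : 3 ≤ n) {x y : X} (hx : x ∉ L X 1)
    (hy : y ∉ Subgroup.zpowers x ⊔ L X 1) : ⁅x, y⁆ ∉ L X 2 := by
  intro h
  have hcl : ∀ g ∈ ({x, y} : Set X) ∪ (L X 1 : Set X), ∀ g' ∈ ({x, y} : Set X) ∪ (L X 1 : Set X),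
      qm X 2 g * qm X 2 g' = qm X 2 g' * qm X 2 g := by
    intro g hg g' hg'
    rw [← commutatorElement_eq_one_iff_mul_comm, ← map_commutatorElement, qm_eq_one]
    rcases hg' with hg' | hg'
    · rcases hg with hg | hg
      · rcases hg with rfl | rfl <;> rcases hg' with rfl | rfl
        · simp [one_mem]
        · exact h
        · rw [← commutatorElement_inv]; exact inv_mem h
        · simp [one_mem]
      · exact L_mono (by omega) (L_comm (i := 1) (j := 0) hg (mem_top g'))
    · exact L_mono (by omega) (L_comm (i := 0) (j := 1) (mem_top g) hg')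
  have htop : Subgroup.closure (({x, y} : Set X) ∪ (L X 1 : Set X)) = ⊤ := by
    rw [eq_top_iff, ← sup_eq_top hn hX hmax hx hy]
    refine sup_le (Subgroup.zpowers_le.mpr (Subgroup.subset_closure (by simp)))
      (sup_le (Subgroup.zpowers_le.mpr (Subgroup.subset_closure (by simp))) fun l hl =>
        Subgroup.subset_closure (Or.inr hl))
  have hab : ∀ g g' : X, qm X 2 g * qm X 2 g' = qm X 2 g' * qm X 2 g := by
    intro g g'
    have hg : g ∈ Subgroup.closure (({x, y} : Set X) ∪ (L X 1 : Set X)) := htop ▸ mem_top g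
    have hg' : g' ∈ Subgroup.closure (({x, y} : Set X) ∪ (L X 1 : Set X)) := htop ▸ mem_top g'
    induction hg, hg' using Subgroup.closure_induction₂ with
    | mem a b ha hb => exact hcl a ha b hb
    | one_left => rw [map_one, one_mul, mul_one]
    | one_right => rw [map_one, one_mul, mul_one]
    | mul_left a b c _ _ _ h1 h2 => rw [map_mul]; exact (Commute.mul_left h1 h2).eq
    | mul_right a b c _ _ _ h1 h2 => rw [map_mul]; exact (Commute.mul_right h1 h2).eq
    | inv_left a b _ _ h => rw [map_inv]; exact (Commute.inv_left h).eq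
    | inv_right a b _ _ h => rw [map_inv]; exact (Commute.inv_right h).eq
  have hle : L X 1 ≤ L X 2 := by
    show ⁅(⊤ : Subgroup X), (⊤ : Subgroup X)⁆ ≤ L X 2
    rw [Subgroup.commutator_le]
    intro g _ g' _
    rw [← qm_eq_one, map_commutatorElement, commutatorElement_eq_one_iff_mul_comm]
    exact hab g g'
  have hL2 := Subgroup.card_le_of_le hle
  rw [card_L hn hX hmax le_rfl (by omega)] at hL2
  have h2b : Nat.card (L X 2) ≤ p ^ (n - 3) := by
    rw [card_L hn hX hmax (by omega) (by omega)]
    exact Nat.pow_le_pow_right hp.out.pos (by omega)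
  have := (Nat.pow_le_pow_iff_right hp.out.one_lt).mp (hL2.trans h2b)
  omega

include hX in
/-- Fewer than `p` proper subgroups do not cover the group. -/
theorem exists_notMem (S : Finset (Subgroup X)) (hS : S.card < p + 1) (htop : ∀ H ∈ S, H ≠ ⊤)
    (hn1 : 1 ≤ n) : ∃ x : X, ∀ H ∈ S, x ∉ H := by
  classical
  have := Fintype.ofFinite X
  have hpG : IsPGroup p X := IsPGroup.of_card hX
  by_contra! hno
  have hcard : ∀ H ∈ S, (Finset.univ.filter fun x => x ∈ H).card ≤ p ^ (n - 1) := by
    intro H hH
    have e : (Finset.univ.filter fun x => x ∈ H).card = Nat.card H := by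
      rw [← Fintype.card_subtype, ← Nat.card_eq_fintype_card]
    rw [e]
    obtain ⟨k, hk⟩ := (hpG.to_subgroup H).exists_card_eq
    rw [hk]
    refine Nat.pow_le_pow_right hp.out.pos ?_
    by_contra hlt
    have hle : p ^ n ≤ Nat.card H := hk ▸ Nat.pow_le_pow_right hp.out.pos (by omega)
    exact htop H hH (Subgroup.eq_top_of_card_eq _
      (le_antisymm (Nat.card_le_card_of_injective _ Subtype.val_injective) (hX ▸ hle)))
  have hcov : Finset.univ = S.biUnion fun H => Finset.univ.filter fun x => x ∈ H := by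
    ext x
    simpa using hno x
  have h1 := congrArg Finset.card hcov
  rw [Finset.card_univ, ← Nat.card_eq_fintype_card, hX] at h1
  -- the identity lies in every member
  have h2 : (S.biUnion fun H => Finset.univ.filter fun x => x ∈ H).card < p ^ n := by
    rcases S.eq_empty_or_nonempty with rfl | ⟨H₀, hH₀⟩
    · simpa using pow_pos hp.out.pos n
    have hsub : (S.biUnion fun H => Finset.univ.filter fun x => x ∈ H) ⊆
        insert 1 (S.biUnion fun H => (Finset.univ.filter fun x => x ∈ H).erase 1) := by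
      intro x hx
      rw [Finset.mem_biUnion] at hx
      obtain ⟨H, hH, hxH⟩ := hx
      by_cases hx1 : x = 1
      · simp [hx1]
      · exact Finset.mem_insert_of_mem (Finset.mem_biUnion.mpr ⟨H, hH, Finset.mem_erase.mpr ⟨hx1, hxH⟩⟩)
    have h3 := Finset.card_le_card hsub
    have h4 := Finset.card_insert_le (1 : X)
      (S.biUnion fun H => (Finset.univ.filter fun x => x ∈ H).erase 1)
    have h5 := Finset.card_biUnion_le_card_mul S
      (fun H => (Finset.univ.filter fun x => x ∈ H).erase 1) (p ^ (n - 1) - 1) (fun H hH => by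
        rw [Finset.card_erase_of_mem (by simp [H.one_mem])]
        have := hcard H hH; omega)
    have h6 : S.card * (p ^ (n - 1) - 1) ≤ p * (p ^ (n - 1) - 1) :=
      Nat.mul_le_mul_right _ (by omega)
    have h7 : p * (p ^ (n - 1) - 1) + p = p ^ n := by
      rw [← Nat.mul_succ, Nat.succ_eq_add_one, Nat.sub_add_cancel (Nat.one_le_pow _ _ hp.out.pos),
        ← pow_succ']
      congr 1; omega
    have := hp.out.two_le
    omega
  omega

include hn hX hmax in
theorem pow_mem_pred (hnp : p + 1 ≤ n) : ∀ x : X, x ^ p ∈ L X (p - 1) := by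
  have := hp.out.two_le
  exact pow_mem_L (by omega) hX hmax (p - 1) (by omega) (by omega) (by omega)

include hn hX hmax in
theorem pow_shift (hnp : p + 1 ≤ n) {i : ℕ} {x : X} (hx : x ∈ L X i) :
    x ^ p ∈ L X (i + (p - 1)) := by
  have := hp.out.two_le
  exact pow_mem_shift (Lib.RankTwo.lowerCentralSeries_eq_bot hn hX) (M := p - 1) (by omega)
    (pow_mem_pred hn hX hmax hnp) i x hx

include hn hX hmax in
/-- Some `p`-th power lies outside `L p`. -/
theorem exists_pow_notMem (hnp : p + 1 ≤ n) : ∃ b : X, b ^ p ∉ L X p := by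
  classical
  have hp2 := hp.out.two_le
  by_contra! hall
  have hexp : ∀ z : X ⧸ L X p, z ^ p = 1 := by
    intro z
    induction z using QuotientGroup.induction_on with
    | H z => rw [← QuotientGroup.mk_pow, QuotientGroup.eq_one_iff]; exact hall z
  have hcW : L (X ⧸ L X p) p = ⊥ := by
    rw [← map_L_surj (QuotientGroup.mk' (L X p)) (QuotientGroup.mk'_surjective _) p,
      Subgroup.map_eq_bot_iff, QuotientGroup.ker_mk']
  let S : Finset (Subgroup X) := insert (L X 1) ((Finset.Icc 1 (p - 2)).image (layerCent X))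
  obtain ⟨s, hs⟩ := exists_notMem (n := n) hX S (by
      have := Finset.card_insert_le (L X 1) ((Finset.Icc 1 (p - 2)).image (layerCent X))
      have := Finset.card_image_le (s := Finset.Icc 1 (p - 2)) (f := layerCent X)
      simp only [Nat.card_Icc] at this
      simp only [S]; omega)
    (by
      intro H hH
      simp only [S, Finset.mem_insert, Finset.mem_image, Finset.mem_Icc] at hH
      rcases hH with rfl | ⟨j, ⟨hj1, hj2⟩, rfl⟩
      · intro h
        have := card_L_one hn hX hmax
        rw [h, Subgroup.card_top, hX] at this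
        have := Nat.pow_right_injective hp.out.two_le this
        omega
      · exact layerCent_ne_top hn hX hmax hj1 (by omega))
    (by omega)
  obtain ⟨x, hx⟩ := exists_notMem (n := n) hX {Subgroup.zpowers s ⊔ L X 1} (by simp; omega)
    (by
      intro H hH
      rw [Finset.mem_singleton] at hH
      subst hH
      intro h
      have hsup : Subgroup.zpowers s ⊔ L X 1 = ⊤ := h
      have hle : L X 1 ≤ L X 2 := by
        show ⁅(⊤ : Subgroup X), (⊤ : Subgroup X)⁆ ≤ L X 2
        rw [Subgroup.commutator_le]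
        intro g _ g' _
        obtain ⟨a, ha, l, hl, rfl⟩ := Subgroup.mem_sup_of_normal_right.mp (hsup ▸ mem_top g)
        obtain ⟨a', ha', l', hl', rfl⟩ := Subgroup.mem_sup_of_normal_right.mp (hsup ▸ mem_top g')
        obtain ⟨z, rfl⟩ := Subgroup.mem_zpowers_iff.mp ha
        obtain ⟨z', rfl⟩ := Subgroup.mem_zpowers_iff.mp ha'
        have c1 : ∀ l ∈ L X 1, ∀ g : X, Commute (qm X 2 g) (qm X 2 l) := fun l hl g => qm_comm hl g
        rw [← qm_eq_one, map_commutatorElement, commutatorElement_eq_one_iff_mul_comm, map_mul,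
          map_mul, map_zpow, map_zpow]
        exact ((((Commute.refl _).zpow_zpow z z').mul_right ((c1 l' hl' s).zpow_left z)).mul_left
          (((c1 l hl s).symm.zpow_right z').mul_right (c1 l' hl' l))).eq
      have := Subgroup.card_le_of_le hle
      rw [card_L hn hX hmax le_rfl (by omega), card_L hn hX hmax (by omega) (by omega),
        Nat.pow_le_pow_iff_right hp.out.one_lt] at this
      omega)
    (by omega)
  have hxs : x ∉ Subgroup.zpowers s ⊔ L X 1 := hx _ (Finset.mem_singleton_self _)
  have hs1 : s ∉ L X 1 := hs _ (Finset.mem_insert_self _ _)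
  have hu : ∀ j, 1 ≤ j → j ≤ p - 1 → ub s x j ∉ L X (j + 1) := by
    intro j hj
    induction j, hj using Nat.le_induction with
    | base =>
      intro _ h
      have := comm_notMem_two hn hX hmax (by omega) hs1 hxs
      exact this (by rw [← commutatorElement_inv]; exact inv_mem h)
    | succ j hj ih =>
      intro hjp h
      exact hs _ (Finset.mem_insert_of_mem (Finset.mem_image_of_mem _
        (Finset.mem_Icc.mpr ⟨hj, by omega⟩)))
        (mem_layerCent_of hn hX hmax hj (by omega) (ub_mem s x j) (ih (by omega)) h)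
  have hW := engel hexp hcW (QuotientGroup.mk' (L X p) s) (QuotientGroup.mk' (L X p) x)
  have hub : ∀ j, ub (QuotientGroup.mk' (L X p) s) (QuotientGroup.mk' (L X p) x) j =
      QuotientGroup.mk' (L X p) (ub s x j) := by
    intro j
    induction j with
    | zero => rfl
    | succ j ih => rw [ub, ub, ih, map_commutatorElement]
  rw [hub] at hW
  have := hu (p - 1) (by omega) le_rfl
  rw [show p - 1 + 1 = p by omega] at this
  exact this ((QuotientGroup.eq_one_iff _).mp hW)

/-- Conjugates have congruent powers. -/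
theorem step_congr {F : ℕ → Subgroup X} {N : ℕ} (hF : Lib.PGroups.IsFiltration F N) {b s : X}
    (hb : b ∈ F 1) (ha : ⁅s, b⁆ ∈ F 1) (T : Subgroup X) [T.Normal]
    (hlow : ∀ j, 2 ≤ j → j < p → ∀ x ∈ F j, x ^ p ∈ T) (hhigh : ∀ j, p ≤ j → F j ≤ T)
    (hap : ⁅s, b⁆ ^ p ∈ T) : ⁅s, b ^ p⁆ ∈ T := by
  have h := hall_congr hF ha hb T hlow hhigh
  have e : (⁅s, b⁆ * b) ^ p = ⁅s, b ^ p⁆ * b ^ p := by
    rw [show ⁅s, b⁆ * b = s * b * s⁻¹ by rw [commutatorElement_def]; group, conj_pow,
      commutatorElement_def]
    group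
  rw [e] at h
  have h2 := (inferInstance : T.Normal).conj_mem _ h (b ^ p)
  rw [show b ^ p * ((b ^ p)⁻¹ * (⁅s, b⁆ ^ p)⁻¹ * (⁅s, b ^ p⁆ * b ^ p)) * (b ^ p)⁻¹ =
    (⁅s, b⁆ ^ p)⁻¹ * ⁅s, b ^ p⁆ by group] at h2
  simpa using mul_mem hap h2

theorem comm_zpowers_sup {F : Subgroup X} [F.Normal] {s : X} {N : Subgroup X} [N.Normal]
    (h1 : ∀ l ∈ F, ∀ g ∈ Subgroup.zpowers s ⊔ F, ⁅l, g⁆ ∈ N) :
    ⁅Subgroup.zpowers s ⊔ F, Subgroup.zpowers s ⊔ F⁆ ≤ N := by
  rw [Subgroup.commutator_le]
  intro g hg g' hg'
  obtain ⟨z, hz, l, hl, rfl⟩ := Subgroup.mem_sup_of_normal_right.mp hg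
  obtain ⟨z', hz', l', hl', rfl⟩ := Subgroup.mem_sup_of_normal_right.mp hg'
  obtain ⟨e, rfl⟩ := Subgroup.mem_zpowers_iff.mp hz
  obtain ⟨e', rfl⟩ := Subgroup.mem_zpowers_iff.mp hz'
  have hkey : ∀ a ∈ F, ∀ g ∈ Subgroup.zpowers s ⊔ F,
      QuotientGroup.mk' N a * QuotientGroup.mk' N g = QuotientGroup.mk' N g * QuotientGroup.mk' N a := by
    intro a ha g hg
    rw [← commutatorElement_eq_one_iff_mul_comm, ← map_commutatorElement]
    exact (QuotientGroup.eq_one_iff _).mpr (h1 a ha g hg)
  have hz0 : ∀ e : ℤ, s ^ e ∈ Subgroup.zpowers s ⊔ F := fun e =>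
    Subgroup.mem_sup_left (zpow_mem (Subgroup.mem_zpowers s) e)
  rw [← QuotientGroup.eq_one_iff]
  show QuotientGroup.mk' N _ = 1
  rw [map_commutatorElement, commutatorElement_eq_one_iff_mul_comm, map_mul, map_mul]
  refine (Commute.mul_left (Commute.mul_right ?_ (Commute.symm (hkey l' hl' _ (hz0 e))))
    (Commute.mul_right (hkey l hl _ (hz0 e')) (hkey l hl _ (Subgroup.mem_sup_right hl')))).eq
  rw [map_zpow, map_zpow]
  exact (Commute.refl _).zpow_zpow _ _

/-- A filtration with a gain of one step at the second level. -/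
theorem gainFil {c : ℕ} (hc : L X c = ⊥) {B : Subgroup X} {i : ℕ} (hle : L X (i + 2) ≤ B)
    (hBB : ⁅B, B⁆ ≤ L X (i + 2))
    (hBL : ∀ j, 2 ≤ j → ⁅B, L X (i + j)⁆ ≤ L X (i + j + 1)) :
    Lib.PGroups.IsFiltration (fun j => if j ≤ 1 then B else L X (i + j)) (c + 2) where
  anti j := by
    show (if j + 1 ≤ 1 then B else L X (i + (j + 1))) ≤ if j ≤ 1 then B else L X (i + j)
    split_ifs
    · exact le_rfl
    · omega
    · exact le_trans (L_mono (by omega)) hle
    · exact L_mono (by omega)
  comm a b := by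
    show ⁅(if a ≤ 1 then B else L X (i + a)), (if b ≤ 1 then B else L X (i + b))⁆ ≤
      if a + b ≤ 1 then B else L X (i + (a + b))
    rcases Nat.lt_or_ge a 2 with ha | ha <;> rcases Nat.lt_or_ge b 2 with hb | hb
    · rw [if_pos (show a ≤ 1 by omega), if_pos (show b ≤ 1 by omega)]
      split_ifs
      · exact hBB.trans hle
      · exact hBB.trans (L_mono (by omega))
    · rw [if_pos (show a ≤ 1 by omega), if_neg (show ¬ b ≤ 1 by omega),
        if_neg (show ¬ a + b ≤ 1 by omega)]
      exact (hBL b hb).trans (L_mono (by omega))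
    · rw [if_neg (show ¬ a ≤ 1 by omega), if_pos (show b ≤ 1 by omega),
        if_neg (show ¬ a + b ≤ 1 by omega), Subgroup.commutator_comm]
      exact (hBL a ha).trans (L_mono (by omega))
    · rw [if_neg (show ¬ a ≤ 1 by omega), if_neg (show ¬ b ≤ 1 by omega),
        if_neg (show ¬ a + b ≤ 1 by omega)]
      exact Subgroup.commutator_le.mpr fun g hg g' hg' => L_mono (by omega) (L_comm hg hg')
  bot j hj := by
    show (if j ≤ 1 then B else L X (i + j)) = ⊥
    rw [if_neg (by omega), eq_bot_iff, ← hc]
    exact L_mono (by omega)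

include hn hX hmax in
/-- If one element of a layer has `p`-th power in its expected layer, so have all. -/
theorem step_all (hnp : p + 1 ≤ n) {i : ℕ} (hi : 1 ≤ i) (hin : i + 2 ≤ n) {a a' : X}
    (ha : a ∈ L X i) (hap : a ^ p ∉ L X (i + p)) (ha' : a' ∈ L X i) (ha'' : a' ∉ L X (i + 1)) :
    a' ^ p ∉ L X (i + p) := by
  intro h
  have hp2 := hp.out.two_le
  have hF := filtration_L (G := X) (Lib.RankTwo.lowerCentralSeries_eq_bot hn hX)
  have hc := Lib.RankTwo.lowerCentralSeries_eq_bot hn hX
  let Y : Subgroup X :=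
    { carrier := {y | y ∈ L X i ∧ y ^ p ∈ L X (i + p)}
      one_mem' := ⟨one_mem _, by rw [one_pow]; exact one_mem _⟩
      inv_mem' := fun {y} hy => ⟨inv_mem hy.1, by rw [inv_pow]; exact inv_mem hy.2⟩
      mul_mem' := fun {u v} hu hv => ⟨mul_mem hu.1 hv.1, by
        have h := hall_congr (p := p) (gainFil hc (B := L X i) (i := i) (L_mono (by omega))
            (Subgroup.commutator_le.mpr fun g hg g' hg' => L_mono (by omega) (L_comm hg hg'))
            (fun j _ => Subgroup.commutator_le.mpr fun g hg g' hg' =>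
              L_mono (by omega) (L_comm hg hg'))) (a := u) (b := v)
          (by simpa using hu.1) (by simpa using hv.1) (L X (i + p))
          (fun j hj hjp y hy => by
            simp only [if_neg (show ¬ j ≤ 1 by omega)] at hy
            exact L_mono (by omega) (pow_shift hn hX hmax hnp hy))
          (fun j hj y hy => by
            simp only [if_neg (show ¬ j ≤ 1 by omega)] at hy
            exact L_mono (by omega) hy)
        rw [show (u * v) ^ p = u ^ p * v ^ p * ((v ^ p)⁻¹ * (u ^ p)⁻¹ * (u * v) ^ p) by group]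
        exact mul_mem (mul_mem hu.2 hv.2) h⟩ }
  have hle : Subgroup.zpowers a' ⊔ L X (i + 1) ≤ Y :=
    sup_le (Subgroup.zpowers_le.mpr ⟨ha', h⟩) fun l hl =>
      ⟨L_mono (by omega) hl, L_mono (by omega) (pow_shift hn hX hmax hnp hl)⟩
  rw [layer_gen hn hX hmax hi hin ha' ha''] at hle
  exact hap (hle ha).2


include hn hX hmax in
/-- Every layer carries a `p`-th power into the expected layer. -/
theorem pow_layer (hnp : p + 1 ≤ n) : ∀ i, 1 ≤ i → i + p + 1 ≤ n → ∀ a ∈ L X i, a ∉ L X (i + 1) →
    a ^ p ∉ L X (i + p) := by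
  classical
  have hp2 := hp.out.two_le
  have hc := Lib.RankTwo.lowerCentralSeries_eq_bot hn hX
  suffices h : ∀ i, 1 ≤ i → i + p + 1 ≤ n → ∃ a ∈ L X i, a ∉ L X (i + 1) ∧ a ^ p ∉ L X (i + p) from
    fun i h1 h2 a ha ha' => by
      obtain ⟨c, hcm, -, hcp⟩ := h i h1 h2
      exact step_all hn hX hmax hnp h1 (by omega) hcm hcp ha ha'
  intro i hi
  induction i, hi using Nat.le_induction with
  | base =>
    intro hn2
    obtain ⟨b, hb⟩ := exists_pow_notMem hn hX hmax hnp
    have hbp : b ^ p ∈ L X (p - 1) := pow_mem_pred hn hX hmax hnp b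
    have hbC : b ∈ layerCent X (p - 1) := by
      refine mem_layerCent_of hn hX hmax (by omega) (by omega) hbp
        (by rwa [show p - 1 + 1 = p by omega]) ?_
      rw [commutatorElement_eq_one_iff_mul_comm.mpr ((Commute.refl b).pow_left p).eq]
      exact one_mem _
    have hb1 : b ∉ L X 1 := fun h => hb (L_mono (by omega) (pow_shift hn hX hmax hnp h))
    set B := Subgroup.zpowers b ⊔ L X 1 with hB
    have hBC : B ≤ layerCent X (p - 1) := by
      refine sup_le (Subgroup.zpowers_le.mpr hbC) fun l hl g hg => ?_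
      exact L_mono (by omega) (L_comm hg hl)
    obtain ⟨s, hs⟩ := exists_notMem (n := n) hX {layerCent X (p - 1)} (by simp; omega)
      (by
        intro H hH
        rw [Finset.mem_singleton] at hH
        subst hH
        exact layerCent_ne_top hn hX hmax (by omega) (by omega))
      (by omega)
    have hsC := hs _ (Finset.mem_singleton_self _)
    refine ⟨⁅s, b⁆, L_comm (i := 0) (j := 0) (mem_top s) (mem_top b), fun h => ?_, fun h => ?_⟩
    · refine comm_notMem_two hn hX hmax (by omega) hb1 (fun hsB => hsC (hBC hsB)) ?_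
      rw [← commutatorElement_inv]
      exact inv_mem h
    · refine hsC (mem_layerCent_of hn hX hmax (by omega) (by omega) hbp
        (by rwa [show p - 1 + 1 = p by omega]) ?_)
      rw [← commutatorElement_inv, show p - 1 + 2 = 1 + p by omega]
      refine inv_mem ?_
      have hBB : ⁅B, B⁆ ≤ L X 2 := comm_zpowers_sup fun l hl g _ => L_comm (j := 0) hl (mem_top g)
      have hBp : ⁅B, L X (p - 1)⁆ ≤ L X (p + 1) := by
        rw [Subgroup.commutator_le]
        intro g hg l hl
        rw [← commutatorElement_inv, show p + 1 = p - 1 + 2 by omega]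
        exact inv_mem (hBC hg l hl)
      let F : ℕ → Subgroup X := fun j => if j ≤ 1 then B else if j < p then L X j else L X (j + 1)
      have hFle : ∀ j, 2 ≤ j → F j ≤ L X j := fun j hj => by
        simp only [F, if_neg (show ¬ j ≤ 1 by omega)]
        split_ifs
        · exact le_rfl
        · exact L_mono (by omega)
      have hLF : ∀ j, 1 ≤ j → L X (j + 1) ≤ F j := fun j hj => by
        simp only [F]
        split_ifs
        · exact le_sup_of_le_right (L_mono (by omega))
        · exact L_mono (by omega)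
        · exact le_rfl
      have hBF : ∀ j, 2 ≤ j → ⁅B, F j⁆ ≤ F (j + 1) := by
        intro j hj
        simp only [F, if_neg (show ¬ j ≤ 1 by omega), if_neg (show ¬ j + 1 ≤ 1 by omega)]
        split_ifs with h1 h2
        · exact Subgroup.commutator_le.mpr fun g _ l hl => L_mono (by omega)
            (L_comm (i := 0) (mem_top g) hl)
        · rw [show j = p - 1 by omega, show p - 1 + 1 + 1 = p + 1 by omega]
          exact hBp
        · omega
        · exact Subgroup.commutator_le.mpr fun g _ l hl => L_mono (by omega)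
            (L_comm (i := 0) (mem_top g) hl)
      have hanti : ∀ j, F (j + 1) ≤ F j := fun j => by
        rcases Nat.lt_or_ge j 1 with hj | hj
        · simp only [F, if_pos (show j + 1 ≤ 1 by omega), if_pos (show j ≤ 1 by omega)]
          exact le_rfl
        · exact (hFle (j + 1) (by omega)).trans (hLF j hj)
      have hB1 : ∀ j, j ≤ 1 → F j = B := fun j hj => if_pos hj
      have hF2 : F 2 ≥ ⁅B, B⁆ := by
        simp only [F, if_neg (show ¬ 2 ≤ 1 by omega)]
        split_ifs with h2
        · exact hBB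
        · -- `p = 2`
          rw [show 2 + 1 = p + 1 by omega]
          refine comm_zpowers_sup fun l hl g hg => ?_
          rw [← commutatorElement_inv]
          exact inv_mem (hBp (Subgroup.commutator_mem_commutator hg
            (by rwa [show p - 1 = 1 by omega])))
      have hF : Lib.PGroups.IsFiltration F (n + 1) := by
        refine ⟨hanti, fun a c => ?_, fun j hj => ?_⟩
        · rcases Nat.lt_or_ge a 2 with ha | ha <;> rcases Nat.lt_or_ge c 2 with hc' | hc'
          · rw [hB1 a (by omega), hB1 c (by omega)]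
            rcases Nat.lt_or_ge (a + c) 2 with h | h
            · rw [hB1 _ (by omega)]
              exact (le_trans hF2 ((hanti 1).trans (le_of_eq (hB1 1 le_rfl))))
            · rw [show a + c = 2 by omega]; exact hF2
          · rw [hB1 a (by omega)]
            rcases Nat.eq_zero_or_pos a with rfl | ha0
            · rw [zero_add]; exact (hBF c hc').trans (hanti c)
            · rw [show a + c = c + 1 by omega]; exact hBF c hc'
          · rw [hB1 c (by omega), Subgroup.commutator_comm]
            rcases Nat.eq_zero_or_pos c with rfl | hc0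
            · rw [add_zero]; exact (hBF a ha).trans (hanti a)
            · rw [show a + c = a + 1 by omega]; exact hBF a ha
          · refine le_trans (Subgroup.commutator_mono (hFle a ha) (hFle c hc')) ?_
            refine le_trans (Subgroup.commutator_le.mpr fun g hg l hl => L_comm hg hl) ?_
            exact hLF (a + c) (by omega)
        · rw [eq_bot_iff, ← hc]
          exact (hFle j (by omega)).trans (L_mono (by omega))
      refine step_congr hF (b := b) (s := s) ?_ ?_ (L X (1 + p)) (fun j h2 hjp y hy => ?_)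
        (fun j hj => ?_) h
      · rw [hB1 1 le_rfl]; exact Subgroup.mem_sup_left (Subgroup.mem_zpowers b)
      · rw [hB1 1 le_rfl]
        exact Subgroup.mem_sup_right (L_comm (i := 0) (j := 0) (mem_top s) (mem_top b))
      · exact L_mono (by omega) (pow_shift hn hX hmax hnp (hFle j h2 hy))
      · simp only [F, if_neg (show ¬ j ≤ 1 by omega), if_neg (show ¬ j < p by omega)]
        exact L_mono (by omega)
  | succ i hi ih =>
    intro hin
    obtain ⟨b, hbL, hb', hbp⟩ := ih (by omega)
    obtain ⟨s, hs⟩ := exists_notMem (n := n) hX {layerCent X i, layerCent X (i + (p - 1))}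
      (by
        have := Finset.card_le_two (a := layerCent X i) (b := layerCent X (i + (p - 1)))
        omega)
      (by
        intro H hH
        simp only [Finset.mem_insert, Finset.mem_singleton] at hH
        rcases hH with rfl | rfl
        · exact layerCent_ne_top hn hX hmax hi (by omega)
        · exact layerCent_ne_top hn hX hmax (by omega) (by omega))
      (by omega)
    refine ⟨⁅s, b⁆, by simpa using L_comm (i := 0) (mem_top s) hbL, fun h => ?_, fun h => ?_⟩
    · refine hs (layerCent X i) (by simp) (mem_layerCent_of hn hX hmax hi (by omega) hbL hb' ?_)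
      rw [← commutatorElement_inv]
      exact inv_mem h
    · refine hs (layerCent X (i + (p - 1))) (by simp) (mem_layerCent_of hn hX hmax (by omega)
        (by omega) (pow_shift hn hX hmax hnp hbL)
        (by rwa [show i + (p - 1) + 1 = i + p by omega]) ?_)
      rw [← commutatorElement_inv, show i + (p - 1) + 2 = i + 1 + p by omega]
      refine inv_mem ?_
      set B := Subgroup.zpowers b ⊔ L X (i + 1) with hB
      have hBi : B ≤ L X i := sup_le (Subgroup.zpowers_le.mpr hbL) (L_mono (by omega))
      have hF := gainFil hc (B := B) (i := i + 1) (le_sup_of_le_right (L_mono (by omega)))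
        (comm_zpowers_sup fun l hl g hg => L_mono (by omega) (L_comm hl (hBi hg)))
        (fun j _ => Subgroup.commutator_le.mpr fun g hg l hl =>
          L_mono (by omega) (L_comm (hBi hg) hl))
      refine step_congr hF (b := b) (s := s) ?_ ?_ (L X (i + 1 + p)) (fun j h2 hjp y hy => ?_)
        (fun j hj => ?_) h
      · show b ∈ if 1 ≤ 1 then B else L X (i + 1 + 1)
        rw [if_pos le_rfl]
        exact Subgroup.mem_sup_left (Subgroup.mem_zpowers b)
      · show ⁅s, b⁆ ∈ if 1 ≤ 1 then B else L X (i + 1 + 1)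
        rw [if_pos le_rfl]
        exact Subgroup.mem_sup_right (L_mono (by omega) (L_comm (i := 0) (mem_top s) hbL))
      · simp only [if_neg (show ¬ j ≤ 1 by omega)] at hy
        exact L_mono (by omega) (pow_shift hn hX hmax hnp hy)
      · simp only [if_neg (show ¬ j ≤ 1 by omega)]
        exact L_mono (by omega)

/-- Let X be a finite p-group of order p^n, n ≥ 2, of nilpotency class n − 1 (maximal class), and H any subgroup of X. Then the index in H of the subgroup generated by the p-th powers of elements of H is at most p^p. -/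
theorem result {X : Type*} [Group X] [Finite X] {p : ℕ} [Fact p.Prime] (n : ℕ) (hn : 2 ≤ n) (hX : Nat.card X = p ^ n)
    (hmax : Group.nilpotencyClass X = n - 1) (H : Subgroup X) :
    (Subgroup.closure {y : X | ∃ h ∈ H, y = h ^ p}).relIndex H ≤ p ^ p := by

  classical
  have hp : Fact p.Prime := inferInstance
  have hp2 := hp.out.two_le
  set K := Subgroup.closure {y : X | ∃ h ∈ H, y = h ^ p} with hK
  have hKH : K ≤ H := by
    rw [hK, Subgroup.closure_le]
    rintro _ ⟨h, hh, rfl⟩
    exact H.pow_mem hh p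
  have hpG : IsPGroup p X := IsPGroup.of_card hX
  suffices hb : Nat.card H ≤ p ^ p * Nat.card K by
    have e : K.relIndex H * Nat.card K = Nat.card H := by
      have := Subgroup.card_mul_index (K.subgroupOf H)
      rw [Nat.card_congr (Subgroup.subgroupOfEquivOfLe hKH).toEquiv] at this
      rw [mul_comm]; exact this
    exact Nat.le_of_mul_le_mul_right (e.le.trans hb) Nat.card_pos
  rcases Nat.lt_or_ge n (p + 1) with hnp | hnp
  · calc Nat.card H ≤ Nat.card X := Nat.card_le_card_of_injective _ Subtype.val_injective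
      _ = p ^ n := hX
      _ ≤ p ^ p := Nat.pow_le_pow_right hp.out.pos (by omega)
      _ ≤ p ^ p * Nat.card K := Nat.le_mul_of_pos_right _ Nat.card_pos
  have := hpG.isNilpotent
  have hne : ∀ j, j < n - 1 → L X j ≠ ⊥ := fun j hj h => by
    have := Subgroup.lowerCentralSeries_eq_bot_iff_nilpotencyClass_le.mp h
    omega
  have hgain : ∀ d i, 1 ≤ i → n ≤ i + d →
      Nat.card ↥(H ⊓ L X i) ≤ p ^ (p - 1) * Nat.card ↥(K ⊓ L X (i + (p - 1))) := by
    intro d
    induction d with
    | zero =>
      intro i hi hid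
      have : H ⊓ L X i = ⊥ := by
        rw [eq_bot_iff, ← Lib.RankTwo.lowerCentralSeries_eq_bot hn hX]
        exact inf_le_right.trans (L_mono (by omega))
      rw [this, Subgroup.card_bot]
      exact Nat.one_le_iff_ne_zero.mpr (Nat.mul_ne_zero (pow_ne_zero _ hp.out.ne_zero) Nat.card_pos.ne')
    | succ d ih =>
      intro i hi hid
      rcases Nat.lt_or_ge n (i + p + 1) with hdeep | hdeep
      · refine le_trans ?_ (Nat.le_mul_of_pos_right _ Nat.card_pos)
        refine le_trans (Subgroup.card_le_of_le (inf_le_right : H ⊓ L X i ≤ L X i)) ?_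
        rcases Nat.lt_or_ge (n - 1) i with hi' | hi'
        · have hb : L X i = ⊥ := by
            rw [eq_bot_iff, ← Lib.RankTwo.lowerCentralSeries_eq_bot hn hX]
            exact L_mono (by omega)
          rw [hb, Subgroup.card_bot]
          exact Nat.one_le_pow _ _ hp.out.pos
        · rw [card_L hn hX hne hi hi']
          exact Nat.pow_le_pow_right hp.out.pos (by omega)
      have IH := ih (i + 1) (by omega) (by omega)
      by_cases hex : ∃ a ∈ H ⊓ L X i, a ∉ L X (i + 1)
      · obtain ⟨a, ⟨haH, haL⟩, ha'⟩ := hex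
        have h1 : Nat.card ↥(H ⊓ L X i) ≤ p * Nat.card ↥(H ⊓ L X (i + 1)) := by
          have e1 := (H ⊓ L X (i + 1)).relIndex_mul_relIndex ⊥
          have hidx : (L X (i + 1)).relIndex (L X i) = p := by
            have := relIndex_mul_card (L_mono (G := X) (show i ≤ i + 1 by omega))
            rw [← L_lt hn hX hne hi (by omega)] at this
            exact Nat.eq_of_mul_eq_mul_right Nat.card_pos this
          have hle : (H ⊓ L X (i + 1)).relIndex (H ⊓ L X i) ≤ p := by
            have e : (H ⊓ L X (i + 1)).relIndex (H ⊓ L X i) = (L X (i + 1)).relIndex (H ⊓ L X i) := by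
              rw [← Subgroup.inf_relIndex_right, ← Subgroup.inf_relIndex_right (L X (i + 1))]
              congr 1
              ext y; simp [Subgroup.mem_inf]; tauto
            rw [e]
            have := Subgroup.relIndex_le_of_le_right (H := L X (i + 1))
              (inf_le_right : H ⊓ L X i ≤ L X i) (by rw [hidx]; exact hp.out.ne_zero)
            omega
          have := relIndex_mul_card
            (inf_le_inf_left H (L_mono (G := X) (show i ≤ i + 1 by omega)))
          rw [← this]
          exact Nat.mul_le_mul_right _ hle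
        have h2 : p * Nat.card ↥(K ⊓ L X (i + 1 + (p - 1))) ≤
            Nat.card ↥(K ⊓ L X (i + (p - 1))) := by
          rw [mul_comm]
          refine Lib.PGroups.card_mul_le_of_lt (hpG.to_subgroup _) (lt_of_le_of_ne
            (inf_le_inf_left K (L_mono (by omega))) fun h => ?_)
          have hm : a ^ p ∈ K ⊓ L X (i + (p - 1)) :=
            ⟨Subgroup.subset_closure ⟨a, haH, rfl⟩, pow_shift hn hX hne hnp haL⟩
          rw [← h] at hm
          exact pow_layer hn hX hne hnp i hi hdeep a haL ha' (L_mono (by omega) hm.2)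
        calc Nat.card ↥(H ⊓ L X i) ≤ p * Nat.card ↥(H ⊓ L X (i + 1)) := h1
          _ ≤ p * (p ^ (p - 1) * Nat.card ↥(K ⊓ L X (i + 1 + (p - 1)))) := Nat.mul_le_mul_left p IH
          _ = p ^ (p - 1) * (p * Nat.card ↥(K ⊓ L X (i + 1 + (p - 1)))) := by ring
          _ ≤ _ := Nat.mul_le_mul_left _ h2
      · push Not at hex
        have he : H ⊓ L X i ≤ H ⊓ L X (i + 1) := fun a ha => ⟨ha.1, hex a ha⟩
        exact (Subgroup.card_le_of_le he).trans (IH.trans (Nat.mul_le_mul_left _
          (Subgroup.card_le_of_le (inf_le_inf_left K (L_mono (by omega))))))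
  have hH1 := hgain n 1 le_rfl (by omega)
  rw [show 1 + (p - 1) = p by omega] at hH1
  have hKle : Nat.card ↥(K ⊓ L X p) ≤ Nat.card K := Subgroup.card_le_of_le inf_le_left
  by_cases htop : H ⊔ L X 1 = ⊤
  · -- then `H` is the whole group
    have hHtop : H = ⊤ := by
      by_contra hH
      obtain ⟨M, hM, hHM⟩ := (eq_top_or_exists_le_coatom H).resolve_left hH
      have hMn : M.Normal := Subgroup.NormalizerCondition.normal_of_coatom M Group.normalizerCondition_of_isNilpotent hM
      have hc1 : L X 1 ≤ M := by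
        show ⁅(⊤ : Subgroup X), (⊤ : Subgroup X)⁆ ≤ M
        rw [Subgroup.commutator_le]
        intro g _ g' _
        obtain ⟨x, hxM⟩ : ∃ x, x ∉ M := by
          by_contra! h
          exact hM.1 (eq_top_iff.mpr fun y _ => h y)
        have hgen : Subgroup.zpowers x ⊔ M = ⊤ := hM.2 _ (lt_of_le_of_ne le_sup_right fun h =>
          hxM (by rw [h]; exact Subgroup.mem_sup_left (Subgroup.mem_zpowers x)))
        have hq : ∀ y : X, ∃ z : ℤ, QuotientGroup.mk' M y = QuotientGroup.mk' M x ^ z := by
          intro y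
          obtain ⟨u, hu, l, hl, rfl⟩ := Subgroup.mem_sup_of_normal_right.mp (hgen ▸ mem_top y)
          obtain ⟨z, rfl⟩ := Subgroup.mem_zpowers_iff.mp hu
          refine ⟨z, ?_⟩
          rw [map_mul, map_zpow, show QuotientGroup.mk' M l = 1 from (QuotientGroup.eq_one_iff _).mpr hl,
            mul_one]
        obtain ⟨z, hz⟩ := hq g
        obtain ⟨z', hz'⟩ := hq g'
        rw [← QuotientGroup.eq_one_iff]
        show QuotientGroup.mk' M _ = 1
        rw [map_commutatorElement, commutatorElement_eq_one_iff_mul_comm, hz, hz']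
        exact zpow_mul_comm _ _ _
      exact hM.1 (top_le_iff.mp (htop ▸ sup_le hHM hc1))
    subst hHtop
    obtain ⟨b, hb⟩ := exists_pow_notMem hn hX hne hnp
    have h2 : p * Nat.card ↥(K ⊓ L X p) ≤ Nat.card K := by
      rw [mul_comm]
      refine Lib.PGroups.card_mul_le_of_lt (hpG.to_subgroup _) (lt_of_le_of_ne inf_le_left fun h => hb ?_)
      have hm : b ^ p ∈ K := Subgroup.subset_closure ⟨b, mem_top b, rfl⟩
      rw [← h] at hm
      exact hm.2
    rw [top_inf_eq] at hH1
    rw [Subgroup.card_top, hX, show p ^ n = p ^ 2 * p ^ (n - 2) by rw [← pow_add]; congr 1; omega,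
      ← card_L_one hn hX hne]
    calc p ^ 2 * Nat.card (L X 1) ≤ p ^ 2 * (p ^ (p - 1) * Nat.card ↥(K ⊓ L X p)) :=
          Nat.mul_le_mul_left _ hH1
      _ = p ^ p * (p * Nat.card ↥(K ⊓ L X p)) := by
          rw [← mul_assoc, ← mul_assoc, ← pow_add, ← pow_succ]; congr 2; omega
      _ ≤ _ := Nat.mul_le_mul_left _ h2
  · have hidx : (L X 1).relIndex H ≤ p := by
      have e1 : (L X 1).relIndex (H ⊔ L X 1) = (L X 1).relIndex H := Subgroup.relIndex_sup_right H _
      have e2 := relIndex_mul_card (le_sup_right : L X 1 ≤ H ⊔ L X 1)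
      obtain ⟨k, hk⟩ := (hpG.to_subgroup (H ⊔ L X 1)).exists_card_eq
      have hlt : Nat.card ↥(H ⊔ L X 1) < p ^ n := by
        rw [← hX]
        exact lt_of_le_of_ne (Nat.card_le_card_of_injective _ Subtype.val_injective) fun h =>
          htop (Subgroup.eq_top_of_card_eq _ h)
      have hkn : k ≤ n - 1 := by
        rw [hk] at hlt
        have := (Nat.pow_lt_pow_iff_right hp.out.one_lt).mp hlt
        omega
      rw [e1, hk, card_L_one hn hX hne] at e2
      refine Nat.le_of_mul_le_mul_right ?_ (pow_pos hp.out.pos (n - 2))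
      rw [e2, ← pow_succ']
      exact Nat.pow_le_pow_right hp.out.pos (by omega)
    have e := relIndex_mul_card (inf_le_left : H ⊓ L X 1 ≤ H)
    rw [Subgroup.inf_relIndex_left] at e
    calc Nat.card H = (L X 1).relIndex H * Nat.card ↥(H ⊓ L X 1) := e.symm
      _ ≤ p * (p ^ (p - 1) * Nat.card ↥(K ⊓ L X p)) := Nat.mul_le_mul hidx hH1
      _ ≤ p * (p ^ (p - 1) * Nat.card K) := Nat.mul_le_mul_left _ (Nat.mul_le_mul_left _ hKle)
      _ = _ := by rw [← mul_assoc, ← pow_succ']; congr 2; omega

end Cfsg.Agent.S4144
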