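import Cfsg.Statements.S4145
import Cfsg.Agent.S4049
import Cfsg.Agent.Lib.Transfer.Frobenius
import Mathlib.NumberTheory.Basic

set_option autoImplicit false
open Cfsg

namespace Cfsg.Agent.S4145

open Cfsg.Agent.Lib
open scoped Pointwise

variable {G : Type*} [Group G] [Finite G] {p : ℕ} [hp : Fact p.Prime]

/-- A power of `h` centralises the cyclic `p`-group generated by `y` when `r ≡ 1 (mod p)`. -/
theorem exists_pow_commute {y h : G} {a : ℕ} (ho : orderOf y ∣ p ^ a) {r : ℤ}
    (hr : h * y * h⁻¹ = y ^ r) (hr1 : (p : ℤ) ∣ r - 1) :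
    Commute (h ^ (p ^ a)) y := by
  have key : ∀ k : ℕ, h ^ k * y * (h ^ k)⁻¹ = y ^ (r ^ k) := by
    intro k
    induction k with
    | zero => simp
    | succ k ih =>
      rw [pow_succ, show h ^ k * h * y * (h ^ k * h)⁻¹ = h ^ k * (h * y * h⁻¹) * (h ^ k)⁻¹ by group,
        hr, ← conj_zpow, ih, ← zpow_mul, pow_succ]
  have hd : ((p : ℤ) ^ a) ∣ r ^ (p ^ a) - 1 := by
    have h1 := dvd_sub_pow_of_dvd_sub (R := ℤ) hr1 a
    rw [one_pow] at h1
    exact (pow_dvd_pow _ (Nat.le_succ a)).trans h1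
  have h2 : y ^ (r ^ (p ^ a)) = y ^ (1 : ℤ) := by
    rw [zpow_eq_zpow_iff_modEq]
    refine (Int.modEq_iff_dvd.mpr ?_).symm
    exact dvd_trans (Int.natCast_dvd_natCast.mpr ho) (by push_cast; exact hd)
  have h3 := key (p ^ a)
  rw [h2, zpow_one] at h3
  exact (mul_inv_eq_iff_eq_mul.mp h3)

theorem commute_of_generator {y g : G} (h : Commute g y) {z : G}
    (hz : z ∈ Subgroup.zpowers y) : Commute g z := by
  obtain ⟨i, rfl⟩ := Subgroup.mem_zpowers_iff.mp hz
  exact h.zpow_right i

/-- Inside `N(Z)`, an element whose `p`-power power centralises `Z` already centralises it,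
provided a Sylow `p`-subgroup centralises `Z`. -/
theorem mem_centralizer_of_pow (P : Sylow p G) (Z : Subgroup G)
    (hPZ : (P : Subgroup G) ≤ Subgroup.centralizer (Z : Set G)) {n : G}
    (hn : n ∈ Subgroup.normalizer (Z : Set G)) {a : ℕ}
    (hpow : n ^ (p ^ a) ∈ Subgroup.centralizer (Z : Set G)) :
    n ∈ Subgroup.centralizer (Z : Set G) := by
  set C := (Subgroup.centralizer (Z : Set G)).subgroupOf (Subgroup.normalizer (Z : Set G))
  haveI : C.Normal := Cfsg.Agent.S4049.normal_centralizer_subgroupOf _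
  have hidx : ¬ p ∣ C.index := fun hd => P.not_dvd_index (hd.trans
    ((Subgroup.relIndex_dvd_index_of_le (Subgroup.centralizer_le_normalizer _)).trans (Subgroup.index_dvd_of_le hPZ)))
  have hn' : (⟨n, hn⟩ : Subgroup.normalizer (Z : Set G)) ∈ C := by
    rw [← QuotientGroup.eq_one_iff, ← orderOf_eq_one_iff]
    refine Nat.eq_one_of_dvd_coprimes (a := p ^ a) (b := C.index)
      (((Nat.Prime.coprime_iff_not_dvd hp.out).mpr hidx).pow_left a) ?_ ?_
    · refine orderOf_dvd_of_pow_eq_one ?_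
      rw [← QuotientGroup.mk_pow, QuotientGroup.eq_one_iff]
      exact hpow
    · rw [Subgroup.index_eq_card]; exact orderOf_dvd_natCard _
  exact hn'

/-- A cyclic Sylow subgroup meeting the centre nontrivially gives a normal `p`-complement. -/
theorem complement_of_central (P : Sylow p G) (hP : IsCyclic (P : Subgroup G)) {z : G}
    (hz : z ∈ (P : Subgroup G)) (hz1 : z ≠ 1) (hzc : z ∈ Subgroup.center G) :
    Cfsg.HasNormalPComplement p G := by
  refine Transfer.hasNormalPComplement_of_normalizer_le_centralizer P fun n hn => ?_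
  obtain ⟨⟨y, hy⟩, hgen⟩ := hP.exists_generator
  have hPy : ∀ w ∈ (P : Subgroup G), w ∈ Subgroup.zpowers y := fun w hw => by
    obtain ⟨i, hi⟩ := hgen ⟨w, hw⟩
    exact Subgroup.mem_zpowers_iff.mpr ⟨i, congrArg Subtype.val hi⟩
  have hPcom : (P : Subgroup G) ≤ Subgroup.centralizer ((P : Subgroup G) : Set G) := fun u hu => by
    rw [Subgroup.mem_centralizer_iff]
    exact fun v hv => congrArg Subtype.val (hP.isMulCommutative.is_comm.comm ⟨v, hv⟩ ⟨u, hu⟩)
  obtain ⟨a, ha⟩ := IsPGroup.iff_orderOf.mp P.isPGroup' ⟨y, hy⟩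
  rw [Subgroup.orderOf_mk] at ha
  obtain ⟨r, hr⟩ := Subgroup.mem_zpowers_iff.mp (hPy _ ((Subgroup.mem_normalizer_iff.mp hn y).mp hy))
  obtain ⟨i, hi⟩ := Subgroup.mem_zpowers_iff.mp (hPy z hz)
  have hr1 : (p : ℤ) ∣ r - 1 := by
    by_contra hnd
    have h1 : n * z * n⁻¹ = z := by rw [Subgroup.mem_center_iff.mp hzc n, mul_inv_cancel_right]
    rw [← hi, ← conj_zpow, ← hr, ← zpow_mul, zpow_eq_zpow_iff_modEq, ha] at h1
    have h2 : ((p : ℤ) ^ a) ∣ (r - 1) * i := by
      have := Int.modEq_iff_dvd.mp h1.symm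
      push_cast at this
      rwa [sub_mul, one_mul]
    have h3 : ((p : ℤ) ^ a) ∣ i :=
      ((Nat.prime_iff_prime_int.mp hp.out).irreducible.coprime_iff_not_dvd.mpr hnd).pow_left.dvd_of_dvd_mul_left h2
    refine hz1 (hi ▸ orderOf_dvd_iff_zpow_eq_one.mp ?_)
    rw [ha]; exact_mod_cast h3
  refine mem_centralizer_of_pow P (P : Subgroup G) hPcom hn (a := a) ?_
  rw [Subgroup.mem_centralizer_iff]
  exact fun w hw => (commute_of_generator (exists_pow_commute (dvd_of_eq ha) hr.symm hr1) (hPy w hw)).symm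

omit [Finite G] in
theorem conjInvariant_le {N : Subgroup G} [Finite G] {H : Subgroup G} [H.Normal] (hN : N ≤ H)
    (hmem : ∀ x ∈ H, x ∈ N ↔ (orderOf x).Coprime p) : N.Normal := by
  refine ⟨fun x hx g => ?_⟩
  rw [hmem _ (Subgroup.Normal.conj_mem ‹H.Normal› x (hN hx) g), ← MulAut.conj_apply,
    ← MulEquiv.coe_toMonoidHom, orderOf_injective (MulAut.conj g).toMonoidHom (MulAut.conj g).injective x]
  exact (hmem x (hN hx)).mp hx

/-- The normal `p`-complement of a normal subgroup, as a normal subgroup of `G`. -/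
theorem exists_complement_map {H : Subgroup G} [H.Normal] (h : Cfsg.HasNormalPComplement p H) :
    ∃ N : Subgroup G, N.Normal ∧ N ≤ H ∧ (Nat.card N).Coprime p ∧ ∃ k, N.relIndex H = p ^ k := by
  obtain ⟨Q, N, hN, hc⟩ := h
  obtain ⟨k, hk⟩ := IsPGroup.iff_card.mp Q.isPGroup'
  have hidx : N.index = p ^ k := by rw [hc.symm.index_eq_card, hk]
  have hcard : (Nat.card N).Coprime p := by
    rw [Nat.coprime_comm, Nat.Prime.coprime_iff_not_dvd hp.out]
    intro hd
    have h1 : Nat.card N = (Q : Subgroup H).index := (hc.index_eq_card).symm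
    exact Q.not_dvd_index (h1 ▸ hd)
  have hNmap : N.map H.subtype ≤ H := Subgroup.map_subtype_le _
  refine ⟨N.map H.subtype, conjInvariant_le (p := p) hNmap fun x hx => ?_, hNmap, ?_, k, ?_⟩
  · constructor
    · rintro ⟨w, hw, rfl⟩
      rw [Subgroup.coe_subtype, Subgroup.orderOf_coe]
      exact hcard.coprime_dvd_left (Subgroup.orderOf_dvd_natCard N hw)
    · intro hxp
      refine ⟨⟨x, hx⟩, ?_, rfl⟩
      rw [SetLike.mem_coe, ← QuotientGroup.eq_one_iff, ← orderOf_eq_one_iff]
      refine Nat.eq_one_of_dvd_coprimes (a := orderOf x) (b := p ^ k) (hxp.pow_right k) ?_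
        (hidx ▸ Subgroup.index_eq_card N ▸ orderOf_dvd_natCard _)
      exact (orderOf_map_dvd (QuotientGroup.mk' N) ⟨x, hx⟩).trans (dvd_of_eq (Subgroup.orderOf_mk x hx))
  · rwa [Subgroup.card_subtype]
  · rw [← hidx, Subgroup.relIndex, Subgroup.subgroupOf, Subgroup.comap_map_eq_self_of_injective H.subtype_injective]

/-- Let G be a finite group with a cyclic Sylow p-subgroup and H a normal subgroup such that p divides both the order of H and the index of H. Then H has a normal p-complement and G is p-solvable. -/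
theorem result {G : Type*} [Group G] [Finite G] (p : ℕ) [Fact p.Prime]
    (P : Sylow p G) (hP : IsCyclic (P : Subgroup G)) (H : Subgroup G) [H.Normal] (h1 : p ∣ Nat.card H) (h2 : p ∣ H.index) :
    Cfsg.HasNormalPComplement p H ∧ Cfsg.IsPSolvable p G := by
  have hp := (Fact.out : p.Prime)
  set P0 := (P : Subgroup G) ⊓ H with hP0
  obtain ⟨⟨y, hy⟩, hgen⟩ := hP.exists_generator
  have hPy : ∀ w ∈ (P : Subgroup G), w ∈ Subgroup.zpowers y := fun w hw => by
    obtain ⟨i, hi⟩ := hgen ⟨w, hw⟩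
    exact Subgroup.mem_zpowers_iff.mpr ⟨i, congrArg Subtype.val hi⟩
  have hPcom : (P : Subgroup G) ≤ Subgroup.centralizer (P0 : Set G) := fun u hu => by
    rw [Subgroup.mem_centralizer_iff]
    exact fun v hv => congrArg Subtype.val (hP.isMulCommutative.is_comm.comm ⟨v, hv.1⟩ ⟨u, hu⟩)
  have hPH : ¬ (P : Subgroup G) ≤ H := fun h => P.not_dvd_index (h2.trans (Subgroup.index_dvd_of_le h))
  obtain ⟨PH, hPH'⟩ : ∃ Q : Sylow p H, (Q : Subgroup H) = (P : Subgroup G).subgroupOf H := by
    have hrel : ¬ p ∣ ((P : Subgroup G).subgroupOf H).index := fun hd =>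
      P.not_dvd_index (hd.trans (Cfsg.Agent.S4034.relIndex_dvd_index (P : Subgroup G) H))
    exact ⟨(IsPGroup.comap_subtype P.isPGroup').toSylow hrel, rfl⟩
  have hHcompl : Cfsg.HasNormalPComplement p H := by
    refine Transfer.hasNormalPComplement_of_normalizer_le_centralizer PH fun n hn => ?_
    have hnP0 : (n : G) ∈ Subgroup.normalizer (P0 : Set G) := by
      rw [Subgroup.mem_normalizer_iff]
      intro w
      by_cases hw : w ∈ H
      · have h := Subgroup.mem_normalizer_iff.mp hn ⟨w, hw⟩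
        rw [hPH', Subgroup.mem_subgroupOf, Subgroup.mem_subgroupOf] at h
        simp only [hP0, Subgroup.mem_inf, hw, and_true]
        refine h.trans ⟨fun h' => ⟨h', ?_⟩, fun h' => h'.1⟩
        exact mul_mem (mul_mem n.2 hw) (inv_mem n.2)
      · simp only [hP0, Subgroup.mem_inf, hw, and_false, false_iff, not_and]
        intro _ hc
        apply hw
        have := mul_mem (mul_mem (inv_mem n.2) hc) n.2
        simpa [mul_assoc] using this
    suffices hc : (n : G) ∈ Subgroup.centralizer (P0 : Set G) by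
      rw [Subgroup.mem_centralizer_iff] at hc ⊢
      intro w hw
      rw [hPH', SetLike.mem_coe, Subgroup.mem_subgroupOf] at hw
      exact Subtype.ext (hc w ⟨hw, w.2⟩)
    -- Frattini argument in `C(P₀) ⊓ (H ⊔ P)`
    set D := Subgroup.centralizer (P0 : Set G) ⊓ (H ⊔ (P : Subgroup G))
    have hPD : (P : Subgroup G) ≤ D := le_inf hPcom le_sup_right
    have hnPD : MulAut.conj (n : G) • (P : Subgroup G) ≤ D := by
      intro w hw
      rw [Cfsg.Agent.Lib.Coprime.mem_conj_smul] at hw
      have hw' : w = (n : G) * ((n : G)⁻¹ * w * n) * (n : G)⁻¹ := by group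
      refine Subgroup.mem_inf.mpr ⟨?_, ?_⟩
      · rw [Subgroup.mem_centralizer_iff]
        intro v hv
        have h1 := Subgroup.mem_centralizer_iff.mp (hPcom hw) _
          ((Subgroup.mem_normalizer_iff''.mp hnP0 v).mp hv)
        rw [hw']
        calc v * ((n : G) * ((n : G)⁻¹ * w * n) * (n : G)⁻¹)
            = n * ((n : G)⁻¹ * v * n * ((n : G)⁻¹ * w * n)) * (n : G)⁻¹ := by group
          _ = n * ((n : G)⁻¹ * w * n * ((n : G)⁻¹ * v * n)) * (n : G)⁻¹ := by rw [h1]
          _ = _ := by group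
      · rw [hw']
        exact mul_mem (mul_mem (Subgroup.mem_sup_left n.2) (Subgroup.mem_sup_right hw))
          (Subgroup.mem_sup_left (inv_mem n.2))
    obtain ⟨d, hd⟩ := MulAction.exists_smul_eq D
      (((n : G) • P).subtype (show (((n : G) • P : Sylow p G) : Subgroup G) ≤ D by
        rw [Sylow.coe_subgroup_smul]; exact hnPD)) (P.subtype hPD)
    set m := (d : G) * n
    have hm : ∀ w ∈ (P : Subgroup G), m * w * m⁻¹ ∈ (P : Subgroup G) := by
      intro w hw
      have h1 : (⟨(n : G) * w * (n : G)⁻¹, hnPD (Cfsg.Agent.Lib.Coprime.mem_conj_smul.mpr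
          (by simpa [mul_assoc] using hw))⟩ : D) ∈
          ((((n : G) • P).subtype (show (((n : G) • P : Sylow p G) : Subgroup G) ≤ D by
            rw [Sylow.coe_subgroup_smul]; exact hnPD) : Sylow p D) : Subgroup D) := by
        show (n : G) * w * (n : G)⁻¹ ∈ (((n : G) • P : Sylow p G) : Subgroup G)
        rw [Sylow.coe_subgroup_smul, Cfsg.Agent.Lib.Coprime.mem_conj_smul]
        simpa [mul_assoc] using hw
      have h2 := Subgroup.smul_mem_pointwise_smul _ (MulAut.conj d) _ h1
      rw [← Sylow.coe_subgroup_smul, hd] at h2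
      have h3 : (d : G) * ((n : G) * w * (n : G)⁻¹) * (d : G)⁻¹ ∈ (P : Subgroup G) := h2
      simpa [m, mul_assoc] using h3
    have hmem : m ∈ H ⊔ (P : Subgroup G) := mul_mem d.2.2 (Subgroup.mem_sup_left n.2)
    rw [← SetLike.mem_coe, Subgroup.normal_mul] at hmem
    obtain ⟨h, hh, x, hx, hmx⟩ := Set.mem_mul.mp hmem
    have hyh : h * y * h⁻¹ ∈ (P : Subgroup G) := by
      have h1 := hm (x⁻¹ * y * x) (mul_mem (mul_mem (inv_mem hx) hy) hx)
      rw [← hmx] at h1
      simpa [mul_assoc] using h1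
    obtain ⟨r, hr⟩ := Subgroup.mem_zpowers_iff.mp (hPy _ hyh)
    obtain ⟨a, ha⟩ := IsPGroup.iff_orderOf.mp P.isPGroup' ⟨y, hy⟩
    rw [Subgroup.orderOf_mk] at ha
    have hr1 : (p : ℤ) ∣ r - 1 := by
      by_contra hnd
      apply hPH
      intro w hw
      obtain ⟨i, hi⟩ := Subgroup.mem_zpowers_iff.mp (hPy w hw)
      have hcop : IsCoprime ((p : ℤ) ^ a) (r - 1) :=
        ((Nat.prime_iff_prime_int.mp hp).irreducible.coprime_iff_not_dvd.mpr hnd).pow_left
      obtain ⟨u, v, huv⟩ := hcop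
      have h1 : y ^ (r - 1) ∈ H := by
        rw [zpow_sub, zpow_one, hr]
        have := mul_mem hh ((inferInstance : H.Normal).conj_mem _ (inv_mem hh) y)
        simpa [mul_assoc] using this
      have h2 : y ∈ H := by
        have h3 : y = (y ^ (r - 1)) ^ v := by
          rw [← zpow_mul]
          conv_lhs => rw [← zpow_one y, ← huv, zpow_add]
          rw [mul_comm v, mul_comm u, zpow_mul y _ u,
            show y ^ ((p : ℤ) ^ a) = 1 by rw [← Nat.cast_pow, zpow_natCast, ← ha, pow_orderOf_eq_one],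
            one_zpow, one_mul]
        rw [h3]; exact zpow_mem h1 v
      rw [← hi]; exact zpow_mem h2 i
    have hcom := exists_pow_commute (dvd_of_eq ha) hr.symm hr1
    have hsame : ∀ k : ℕ, ∀ z ∈ P0, (n : G) ^ k * z * ((n : G) ^ k)⁻¹ = h ^ k * z * (h ^ k)⁻¹ ∧
        (n : G) ^ k * z * ((n : G) ^ k)⁻¹ ∈ P0 := by
      intro k
      induction k with
      | zero => intro z hz; simp [hz]
      | succ k ih =>
        intro z hz
        have hz' : (n : G) * z * (n : G)⁻¹ ∈ P0 := (Subgroup.mem_normalizer_iff.mp hnP0 z).mp hz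
        have e1 : h * z * h⁻¹ = (n : G) * z * (n : G)⁻¹ := by
          have hxz : x * z * x⁻¹ = z := by
            rw [← Subgroup.mem_centralizer_iff.mp (hPcom hx) z hz, mul_inv_cancel_right]
          have hdz : (d : G) * ((n : G) * z * (n : G)⁻¹) * (d : G)⁻¹ = (n : G) * z * (n : G)⁻¹ := by
            rw [← Subgroup.mem_centralizer_iff.mp d.2.1 _ hz', mul_inv_cancel_right]
          calc h * z * h⁻¹ = h * (x * z * x⁻¹) * h⁻¹ := by rw [hxz]
            _ = (h * x) * z * (h * x)⁻¹ := by group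
            _ = (d : G) * ((n : G) * z * (n : G)⁻¹) * (d : G)⁻¹ := by rw [hmx]; simp only [m]; group
            _ = _ := hdz
        obtain ⟨e2, e3⟩ := ih _ hz'
        rw [pow_succ, pow_succ, show (n : G) ^ k * n * z * ((n : G) ^ k * n)⁻¹ =
          (n : G) ^ k * ((n : G) * z * (n : G)⁻¹) * ((n : G) ^ k)⁻¹ by group,
          show h ^ k * h * z * (h ^ k * h)⁻¹ = h ^ k * (h * z * h⁻¹) * (h ^ k)⁻¹ by group, e1]
        exact ⟨e2, e3⟩
    refine mem_centralizer_of_pow P P0 hPcom hnP0 (a := a) ?_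
    rw [Subgroup.mem_centralizer_iff]
    intro z hz
    have e := (hsame (p ^ a) z hz).1
    rw [(commute_of_generator hcom (hPy z hz.1)).eq, mul_inv_cancel_right] at e
    exact (mul_inv_eq_iff_eq_mul.mp e).symm
  refine ⟨hHcompl, ?_⟩
  obtain ⟨N, hNn, hNH, hNcop, k, hk⟩ := exists_complement_map hHcompl
  haveI := hNn
  set π := QuotientGroup.mk' N
  have hπ : Function.Surjective π := QuotientGroup.mk'_surjective N
  set H' := H.map π
  haveI hH'n : H'.Normal := Subgroup.Normal.map inferInstance π hπ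
  have hH'p : IsPGroup p H' := by
    refine IsPGroup.of_card (n := k) ?_
    rw [← hk, ← Subgroup.relIndex_bot_left, ← Subgroup.relIndex_comap, MonoidHom.comap_bot,
      QuotientGroup.ker_mk']
  have hH'ne : H' ≠ ⊥ := by
    intro hb
    rw [Subgroup.map_eq_bot_iff, QuotientGroup.ker_mk'] at hb
    exact hp.ne_one (Nat.eq_one_of_dvd_coprimes hNcop.symm dvd_rfl
      (h1.trans (Subgroup.card_dvd_of_le hb)))
  let P' : Sylow p (G ⧸ N) := P.mapSurjective hπ
  have hP'c : IsCyclic (P' : Subgroup (G ⧸ N)) := by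
    haveI := hP
    rw [Sylow.coe_mapSurjective]
    exact isCyclic_of_surjective ((π.comp (P : Subgroup G).subtype).codRestrict _
      fun x => Subgroup.mem_map_of_mem π x.2) fun ⟨w, hw⟩ => by
        obtain ⟨u, hu, rfl⟩ := hw; exact ⟨⟨u, hu⟩, rfl⟩
  have hH'P : H' ≤ (P' : Subgroup (G ⧸ N)) := by
    obtain ⟨Q, hQ⟩ := hH'p.exists_le_sylow
    obtain ⟨g, hg⟩ := MulAction.exists_smul_eq (G ⧸ N) Q P'
    intro w hw
    rw [← hg, Sylow.coe_subgroup_smul, Cfsg.Agent.Lib.Coprime.mem_conj_smul]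
    exact hQ (by simpa using hH'n.conj_mem w hw g⁻¹)
  set C := Subgroup.centralizer (H' : Set (G ⧸ N))
  haveI hCn : C.Normal := by
    refine ⟨fun c hc g => ?_⟩
    rw [Subgroup.mem_centralizer_iff] at hc ⊢
    intro v hv
    have h' := hc (g⁻¹ * v * g) (by simpa using hH'n.conj_mem v hv g⁻¹)
    calc v * (g * c * g⁻¹) = g * (g⁻¹ * v * g * c) * g⁻¹ := by group
      _ = g * (c * (g⁻¹ * v * g)) * g⁻¹ := by rw [h']
      _ = g * c * g⁻¹ * v := by group
  have hP'C : (P' : Subgroup (G ⧸ N)) ≤ C := fun u hu => by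
    rw [Subgroup.mem_centralizer_iff]
    exact fun v hv => congrArg Subtype.val (hP'c.isMulCommutative.is_comm.comm ⟨v, hH'P hv⟩ ⟨u, hu⟩)
  haveI := (Subgroup.nontrivial_iff_ne_bot H').mpr hH'ne
  obtain ⟨⟨z, hz⟩, hzne⟩ := exists_ne (1 : H')
  have hCcompl : Cfsg.HasNormalPComplement p C := by
    haveI := hP'c
    refine complement_of_central (P'.subtype hP'C)
      (isCyclic_of_surjective (Subgroup.subgroupOfEquivOfLe hP'C).symm
        (Subgroup.subgroupOfEquivOfLe hP'C).symm.surjective)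
      (z := ⟨z, hP'C (hH'P hz)⟩) (hH'P hz)
      (fun h => hzne (Subtype.ext (congrArg Subtype.val h :))) ?_
    rw [Subgroup.mem_center_iff]
    exact fun c => Subtype.ext (Subgroup.mem_centralizer_iff.mp c.2 z hz).symm
  obtain ⟨L, hLn, hLC, hLcop, l, hl⟩ := exists_complement_map hCcompl
  haveI := hLn
  refine ⟨4, ![⊥, N, L.comap π, C.comap π, ⊤], rfl, rfl, ?_, ?_, ?_⟩
  · rw [Fin.monotone_iff_le_succ]
    intro i
    fin_cases i
    · exact bot_le
    · show N ≤ L.comap π
      conv_lhs => rw [← QuotientGroup.ker_mk' N]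
      exact Subgroup.ker_le_comap π L
    · exact Subgroup.comap_mono hLC
    · exact le_top
  · intro i
    fin_cases i
    · exact Subgroup.normal_bot
    · exact hNn
    · exact hLn.comap π
    · exact hCn.comap π
    · exact Subgroup.normal_top
  · intro i
    fin_cases i
    · right
      show ((⊥ : Subgroup G).relIndex N).Coprime p
      rw [Subgroup.relIndex_bot_left]; exact hNcop
    · right
      show (N.relIndex (L.comap π)).Coprime p
      have e := Subgroup.relIndex_comap (⊥ : Subgroup (G ⧸ N)) π (L.comap π)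
      rw [MonoidHom.comap_bot, QuotientGroup.ker_mk', Subgroup.map_comap_eq_self_of_surjective hπ,
        Subgroup.relIndex_bot_left] at e
      rw [e]
      exact hLcop
    · left
      refine ⟨l, ?_⟩
      show (L.comap π).relIndex (C.comap π) = p ^ l
      rw [Subgroup.relIndex_comap, Subgroup.map_comap_eq_self_of_surjective hπ, hl]
    · right
      show ((C.comap π).relIndex ⊤).Coprime p
      rw [Subgroup.relIndex_top_right, Subgroup.index_comap_of_surjective C hπ, Nat.coprime_comm,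
        Nat.Prime.coprime_iff_not_dvd hp]
      exact fun hd => P'.not_dvd_index (hd.trans (Subgroup.index_dvd_of_le hP'C))

end Cfsg.Agent.S4145
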