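import Cfsg.Statements.S4149
import Cfsg.Agent.Lib.Transfer.Frobenius
import Mathlib.GroupTheory.Sylow

set_option autoImplicit false
open Cfsg

namespace Cfsg.Agent.S4149

theorem two_mul_card_le {G : Type*} [Group G] [Finite G] (p : ℕ) [Fact p.Prime]
    (hnp : ¬ Cfsg.HasNormalPComplement p G) :
    2 * Nat.card {x : G | ¬ p ∣ (Subgroup.centralizer ({x} : Set G)).index} ≤ Nat.card G := by
  obtain ⟨P⟩ : Nonempty (Sylow p G) := inferInstance
  set C : Subgroup G := Subgroup.centralizer ((P : Subgroup G) : Set G) with hCdef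
  set N : Subgroup G := Subgroup.normalizer ((P : Subgroup G) : Set G) with hNdef
  have hCN : C ≤ N := Subgroup.centralizer_le_normalizer _
  have hne : ¬ N ≤ C := fun h =>
    hnp (Cfsg.Agent.Lib.Transfer.hasNormalPComplement_of_normalizer_le_centralizer P h)
  have h2 : 2 * Nat.card C ≤ Nat.card N := by
    obtain ⟨k, hk⟩ := Subgroup.card_dvd_of_le hCN
    rw [hk]
    have hk1 : k ≠ 1 := by
      intro h1
      exact hne (Subgroup.eq_of_le_of_card_ge hCN (by rw [hk, h1, mul_one])).ge
    have hk0 : k ≠ 0 := by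
      intro h0
      rw [h0, mul_zero] at hk
      exact Nat.card_pos.ne' hk
    rw [mul_comm]
    exact Nat.mul_le_mul_left _ (by omega)
  have hsub : {x : G | ¬ p ∣ (Subgroup.centralizer ({x} : Set G)).index} ⊆
      Set.range (fun qc : (G ⧸ N) × C => qc.1.out * (qc.2 : G) * qc.1.out⁻¹) := by
    intro x hx
    obtain ⟨Q⟩ : Nonempty (Sylow p (Subgroup.centralizer ({x} : Set G))) := inferInstance
    obtain ⟨R, hR⟩ := (Q.2.map (Subgroup.centralizer ({x} : Set G)).subtype).exists_le_sylow
    have hQR : Subgroup.map (Subgroup.centralizer ({x} : Set G)).subtype (Q : Subgroup _) = (R : Subgroup G) := by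
      apply Subgroup.eq_of_le_of_card_ge hR
      rw [Subgroup.card_map_of_injective (Subgroup.subtype_injective _), Q.card_eq_multiplicity,
        R.card_eq_multiplicity]
      apply Nat.pow_le_pow_right (Fact.out : p.Prime).pos
      rw [← (Subgroup.centralizer ({x} : Set G)).card_mul_index,
        Nat.factorization_mul Nat.card_pos.ne' Subgroup.index_ne_zero_of_finite]
      simp [Nat.factorization_eq_zero_of_not_dvd hx]
    obtain ⟨g, hg⟩ := MulAction.exists_smul_eq G P R
    obtain ⟨n, hn⟩ := QuotientGroup.mk_out_eq_mul N g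
    set u : G := (g : G ⧸ N).out with hu
    have hPR : u • P = R := by
      rw [hn, mul_smul, (Sylow.smul_eq_iff_mem_normalizer).mpr n.2, hg]
    have hxC : u⁻¹ * x * u ∈ C := by
      rw [hCdef, Subgroup.mem_centralizer_iff]
      intro y hy
      have h1 : u * y * u⁻¹ ∈ (R : Subgroup G) := by
        rw [← hPR]
        exact Subgroup.smul_mem_pointwise_smul y (MulAut.conj u) _ hy
      rw [← hQR] at h1
      obtain ⟨z, _, hz⟩ := Subgroup.mem_map.mp h1
      have hz2 : x * (u * y * u⁻¹) = (u * y * u⁻¹) * x := by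
        rw [← hz]
        exact Subgroup.mem_centralizer_iff.mp z.2 x rfl
      calc y * (u⁻¹ * x * u) = u⁻¹ * ((u * y * u⁻¹) * x) * u := by group
        _ = u⁻¹ * (x * (u * y * u⁻¹)) * u := by rw [hz2]
        _ = u⁻¹ * x * u * y := by group
    exact ⟨((g : G ⧸ N), ⟨u⁻¹ * x * u, hxC⟩), by simp [hu, mul_assoc]⟩
  have h3 : Nat.card {x : G | ¬ p ∣ (Subgroup.centralizer ({x} : Set G)).index} ≤ N.index * Nat.card C := by
    refine (Nat.card_mono (Set.finite_range _) hsub).trans ?_
    refine (Finite.card_range_le _).trans ?_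
    rw [Nat.card_prod, ← Subgroup.index]
  calc 2 * Nat.card {x : G | ¬ p ∣ (Subgroup.centralizer ({x} : Set G)).index}
      ≤ 2 * (N.index * Nat.card C) := Nat.mul_le_mul_left _ h3
    _ = N.index * (2 * Nat.card C) := by ring
    _ ≤ N.index * Nat.card N := Nat.mul_le_mul_left _ h2
    _ = Nat.card G := by rw [mul_comm, N.card_mul_index]

/-- Let G be a finite group that has a normal p-complement for at most one prime p dividing its order, and let σ be a natural number such that every conjugacy class size of G has at most σ distinct prime divisors. Then the number of primes dividing at least one conjugacy class size of G is at most 2σ. -/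
theorem result {G : Type*} [Group G] [Finite G] (σ : ℕ)
    (hσ : ∀ x : G, ((Subgroup.centralizer ({x} : Set G)).index).primeFactors.card ≤ σ)
    (hnil : ∀ p q : ℕ, p.Prime → q.Prime → p ∣ Nat.card G → q ∣ Nat.card G →
      Cfsg.HasNormalPComplement p G → Cfsg.HasNormalPComplement q G → p = q) :
    Nat.card {p : ℕ | p.Prime ∧ ∃ x : G, p ∣ (Subgroup.centralizer ({x} : Set G)).index} ≤ 2 * σ := by
  classical
  haveI := Fintype.ofFinite G
  let f : G → ℕ := fun x => (Subgroup.centralizer ({x} : Set G)).index
  let R : Finset ℕ := (Nat.card G).primeFactors.filter (fun p => ∃ x : G, p ∣ f x)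
  have hR : Nat.card {p : ℕ | p.Prime ∧ ∃ x : G, p ∣ (Subgroup.centralizer ({x} : Set G)).index} = R.card := by
    rw [← Nat.card_eq_finsetCard R]
    refine Nat.card_congr (Equiv.setCongr ?_)
    ext p
    simp only [Set.mem_setOf_eq, SetLike.mem_coe, R, f, Finset.mem_filter, Nat.mem_primeFactors]
    constructor
    · rintro ⟨hp, x, hx⟩
      exact ⟨⟨hp, hx.trans (Subgroup.index_dvd_card _), Nat.card_pos.ne'⟩, x, hx⟩
    · rintro ⟨⟨hp, _, _⟩, x, hx⟩
      exact ⟨hp, x, hx⟩
  rw [hR]
  rcases Nat.eq_zero_or_pos σ with hs0 | hspos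
  · subst hs0
    rw [mul_zero, Nat.le_zero, Finset.card_eq_zero]
    refine Finset.eq_empty_of_forall_notMem fun p hp => ?_
    obtain ⟨hp1, x, hx⟩ := Finset.mem_filter.mp hp
    have h0 := Finset.card_eq_zero.mp (Nat.le_zero.mp (hσ x))
    have : p ∈ (f x).primeFactors :=
      Nat.mem_primeFactors.mpr ⟨Nat.prime_of_mem_primeFactors hp1, hx, Subgroup.index_ne_zero_of_finite⟩
    rw [h0] at this
    exact Finset.notMem_empty _ this
  let T : Finset ℕ := R.filter (fun p => ¬ Cfsg.HasNormalPComplement p G)
  have hRT : R.card ≤ T.card + 1 := by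
    have h1 : (R.filter (fun p => Cfsg.HasNormalPComplement p G)).card ≤ 1 := by
      refine Finset.card_le_one.mpr fun a ha b hb => ?_
      obtain ⟨ha1, ha2⟩ := Finset.mem_filter.mp ha
      obtain ⟨hb1, hb2⟩ := Finset.mem_filter.mp hb
      have ha3 := Nat.mem_primeFactors.mp (Finset.mem_filter.mp ha1).1
      have hb3 := Nat.mem_primeFactors.mp (Finset.mem_filter.mp hb1).1
      exact hnil a b ha3.1 hb3.1 ha3.2.1 hb3.2.1 ha2 hb2
    have h2 := Finset.card_filter_add_card_filter_not (s := R) (p := fun p => Cfsg.HasNormalPComplement p G)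
    change _ + T.card = _ at h2
    omega
  suffices hT : T.card < 2 * σ by omega
  by_contra hcon
  push Not at hcon
  have hlow : ∀ p ∈ T, Fintype.card G ≤ 2 * (Finset.univ.filter (fun x : G => p ∣ f x)).card := by
    intro p hp
    obtain ⟨hp1, hp2⟩ := Finset.mem_filter.mp hp
    haveI : Fact p.Prime := ⟨Nat.prime_of_mem_primeFactors (Finset.mem_filter.mp hp1).1⟩
    have h1 := two_mul_card_le p hp2
    have h2 : Nat.card {x : G | ¬ p ∣ (Subgroup.centralizer ({x} : Set G)).index} =
        (Finset.univ.filter (fun x : G => ¬ p ∣ f x)).card := by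
      rw [Nat.card_eq_fintype_card, Fintype.card_subtype]
      simp [f]
    rw [h2, Nat.card_eq_fintype_card] at h1
    have h3 := Finset.card_filter_add_card_filter_not (s := (Finset.univ : Finset G)) (p := fun x => p ∣ f x)
    rw [Finset.card_univ] at h3
    omega
  have hsum1 : T.card * Fintype.card G ≤ 2 * ∑ x : G, (T.filter (fun p => p ∣ f x)).card := by
    have := Finset.sum_le_sum hlow
    rw [Finset.sum_const, smul_eq_mul, ← Finset.mul_sum] at this
    refine this.trans (le_of_eq ?_)
    congr 1
    simp only [Finset.card_filter]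
    exact Finset.sum_comm
  have hsum2 : ∑ x : G, (T.filter (fun p => p ∣ f x)).card + σ ≤ σ * Fintype.card G := by
    rw [← Finset.add_sum_erase Finset.univ _ (Finset.mem_univ (1 : G))]
    have h1 : (T.filter (fun p => p ∣ f (1 : G))).card = 0 := by
      rw [Finset.card_eq_zero, Finset.filter_eq_empty_iff]
      intro p hp hdvd
      have hf1 : f (1 : G) = 1 := by
        simp only [f]
        rw [Subgroup.index_eq_one, Subgroup.eq_top_iff']
        intro y
        exact Subgroup.mem_centralizer_iff.mpr fun z hz => by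
          rw [Set.mem_singleton_iff.mp hz, one_mul, mul_one]
      rw [hf1] at hdvd
      exact (Nat.prime_of_mem_primeFactors (Finset.mem_filter.mp (Finset.mem_filter.mp hp).1).1).ne_one
        (Nat.dvd_one.mp hdvd)
    have h2 : ∑ x ∈ Finset.univ.erase (1 : G), (T.filter (fun p => p ∣ f x)).card ≤
        (Finset.univ.erase (1 : G)).card * σ := by
      refine (Finset.sum_le_card_nsmul _ _ σ fun x _ => ?_).trans (le_of_eq (smul_eq_mul _ _))
      refine (Finset.card_le_card ?_).trans (hσ x)
      intro p hp
      obtain ⟨hp1, hp2⟩ := Finset.mem_filter.mp hp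
      exact Nat.mem_primeFactors.mpr ⟨Nat.prime_of_mem_primeFactors
        (Finset.mem_filter.mp (Finset.mem_filter.mp hp1).1).1, hp2, Subgroup.index_ne_zero_of_finite⟩
    rw [Finset.card_erase_of_mem (Finset.mem_univ _), Finset.card_univ] at h2
    have hpos : 1 ≤ Fintype.card G := Fintype.card_pos
    have h3 : (Fintype.card G - 1) * σ + σ = σ * Fintype.card G := by
      rw [← Nat.succ_mul, Nat.succ_eq_add_one, Nat.sub_add_cancel hpos, mul_comm]
    omega
  have h3 : 2 * σ * Fintype.card G ≤ T.card * Fintype.card G := Nat.mul_le_mul_right _ hcon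
  rw [mul_assoc] at h3
  omega

end Cfsg.Agent.S4149
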