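import Cfsg.Statements.S4150
import Cfsg.Agent.Lib.Frobenius.ThreePrimesInterval
import Cfsg.Agent.Lib.Frobenius.PairGenerated

set_option autoImplicit false
open Cfsg

namespace Cfsg.Agent.S4150

open Equiv.Perm MulAction Cfsg.Agent.Lib.Frobenius Cfsg.Agent.Lib.Frobenius.PairGenerated

variable {α : Type*} [Fintype α] [DecidableEq α]

/-- The conclusion for a subgroup. -/
def Good (K : Subgroup (Equiv.Perm α)) : Prop :=
  ∃ d : ℕ, 5 ≤ d ∧ Nonempty (K ≃* alternatingGroup (Fin d))

theorem good_of_le {K : Subgroup (Equiv.Perm α)} (h5 : 5 ≤ Fintype.card α) (hK : K ≤ alternatingGroup α)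
    (h : alternatingGroup α ≤ K) : Good K :=
  ⟨Fintype.card α, h5, ⟨(MulEquiv.subgroupCongr (le_antisymm hK h)).trans
    (Equiv.altCongrHom (Fintype.equivFin α))⟩⟩

theorem order_three_six (hα : Fintype.card α = 6) {a b : Equiv.Perm α} (ha : orderOf a = 3)
    (hb : orderOf b = 5) (hprim : IsPreprimitive (Subgroup.closure ({a, b} : Set (Equiv.Perm α))) α)
    (hK : Subgroup.closure ({a, b} : Set (Equiv.Perm α)) ≤ alternatingGroup α) :
    Good (Subgroup.closure ({a, b} : Set (Equiv.Perm α))) := by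
  classical
  set K := Subgroup.closure ({a, b} : Set (Equiv.Perm α)) with hKdef
  haveI : Nontrivial α := Fintype.one_lt_card_iff_nontrivial.mp (by omega)
  haveI : IsSimpleGroup (alternatingGroup α) :=
    alternatingGroup.isSimpleGroup (by rw [Nat.card_eq_fintype_card, hα]; norm_num)
  by_cases htop : K.subgroupOf (alternatingGroup α) = ⊤
  · exact good_of_le (by omega) hK (Subgroup.subgroupOf_eq_top.mp htop)
  haveI := hprim.toIsPretransitive
  have hA : Nat.card (alternatingGroup α) = 360 := by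
    rw [nat_card_alternatingGroup, Nat.card_eq_fintype_card, hα]; rfl
  have haK : a ∈ K := Subgroup.subset_closure (by simp)
  have hbK : b ∈ K := Subgroup.subset_closure (by simp)
  obtain ⟨x⟩ : Nonempty α := inferInstance
  have h6 : 6 ∣ Nat.card K := by
    rw [← hα, ← Nat.card_eq_fintype_card, ← index_stabilizer_of_transitive K x]
    exact Subgroup.index_dvd_card _
  have h5 : 5 ∣ Nat.card K := hb ▸ Subgroup.orderOf_mk (H := K) b hbK ▸ orderOf_dvd_natCard _
  have h30 : 30 ∣ Nat.card K := Nat.Coprime.mul_dvd_of_dvd_of_dvd (by norm_num) h6 h5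
  have hidx := (K.subgroupOf (alternatingGroup α)).index_mul_card
  rw [Nat.card_congr (Subgroup.subgroupOfEquivOfLe hK).toEquiv, hA] at hidx
  have hfac := card_dvd_factorial htop
  rw [hA] at hfac
  have hk6 : 6 ≤ (K.subgroupOf (alternatingGroup α)).index := by
    by_contra hlt
    push Not at hlt
    interval_cases hk : (K.subgroupOf (alternatingGroup α)).index <;> revert hfac <;> decide
  obtain ⟨c, hc⟩ := h30
  rw [hc] at hidx
  have hc12 : c = 1 ∨ c = 2 := by
    have : 6 * (30 * c) ≤ 360 := hidx ▸ Nat.mul_le_mul_right _ hk6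
    rcases c with _ | _ | _ | c <;> omega
  rcases hc12 with rfl | rfl
  · exfalso
    refine odd_gen_card_ne (G := K) (a := ⟨a, haK⟩) (b := ⟨b, hbK⟩) ?_ ?_ ?_ (c := 15) (by decide) hc
    · apply Subgroup.map_injective K.subtype_injective
      rw [MonoidHom.map_closure, Set.image_pair, ← MonoidHom.range_eq_map, Subgroup.range_subtype]
      rfl
    · rw [Subgroup.orderOf_mk, ha]; decide
    · rw [Subgroup.orderOf_mk, hb]; decide
  · set A := alternatingGroup α
    set H := K.subgroupOf A
    have hidx6 : H.index = 6 := by omega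
    haveI := Fintype.ofFinite (A ⧸ H)
    have hcardX : Fintype.card (A ⧸ H) = 6 := by rw [← Nat.card_eq_fintype_card, ← Subgroup.index_eq_card, hidx6]
    haveI : Nontrivial (A ⧸ H) := Fintype.one_lt_card_iff_nontrivial.mp (by omega)
    set φ := MulAction.toPermHom A (A ⧸ H)
    have hinj : Function.Injective φ := coset_injective htop
    have hrange : φ.range = alternatingGroup (A ⧸ H) := by
      apply eq_alternatingGroup_of_index_eq_two
      have h1 := φ.range.index_mul_card
      rw [← Nat.card_congr (MonoidHom.ofInjective hinj).toEquiv, hA, Nat.card_perm,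
        Nat.card_eq_fintype_card, hcardX, show Nat.factorial 6 = 720 from rfl] at h1
      omega
    let Φ : A ≃* alternatingGroup (A ⧸ H) := (MonoidHom.ofInjective hinj).trans (MulEquiv.subgroupCongr hrange)
    let pt : A ⧸ H := ((1 : A) : A ⧸ H)
    let s : Finset (A ⧸ H) := {pt}ᶜ
    have hmap : H.map Φ.toMonoidHom = (alternatingGroup.ofSubtype s).range := by
      ext g
      obtain ⟨g, rfl⟩ := Φ.surjective g
      have h1 : (Φ g : Equiv.Perm (A ⧸ H)) = φ g := rfl
      rw [alternatingGroup.mem_range_ofSubtype_iff, h1]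
      simp only [s, Finset.subset_compl_singleton, notMem_support]
      show Φ g ∈ H.map Φ.toMonoidHom ↔ g • pt = pt
      rw [Subgroup.mem_map]
      constructor
      · rintro ⟨y, hy, he⟩
        obtain rfl := Φ.injective he
        rw [← MulAction.mem_stabilizer_iff, MulAction.stabilizer_quotient]
        exact hy
      · intro h
        rw [← MulAction.mem_stabilizer_iff, MulAction.stabilizer_quotient] at h
        exact ⟨g, h, rfl⟩
    have hs : Fintype.card {y // y ∈ s} = 5 := by
      rw [Fintype.card_coe, Finset.card_compl, hcardX, Finset.card_singleton]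
    exact ⟨5, le_rfl, ⟨(Subgroup.subgroupOfEquivOfLe hK).symm.trans
      (((Φ.subgroupMap H).trans (MulEquiv.subgroupCongr hmap)).trans
        ((MonoidHom.ofInjective alternatingGroup.ofSubtype_injective).symm.trans
          (Equiv.altCongrHom ((Fintype.equivFin _).trans (finCongr hs)))))⟩⟩

theorem twin_of (hα : (Fintype.card α).Prime) (h5 : 5 ≤ Fintype.card α) {a b : Equiv.Perm α}
    (hac : a.IsCycle) (hd : a.support.card + 2 = Fintype.card α)
    (hprim : IsPreprimitive (Subgroup.closure ({a, b} : Set (Equiv.Perm α))) α) :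
    ∃ u v, Twin (Subgroup.closure ({a, b} : Set (Equiv.Perm α))) (Fintype.card α) a u v := by
  classical
  obtain ⟨u, v, huv, hsupp⟩ := Finset.card_eq_two.mp (show a.supportᶜ.card = 2 by rw [Finset.card_compl]; omega)
  have hu : u ∈ a.supportᶜ := by rw [hsupp]; simp
  have hv : v ∈ a.supportᶜ := by rw [hsupp]; simp
  refine ⟨u, v, rfl, hα, h5, Subgroup.subset_closure (by simp), hac, hd, huv, by simpa using hu,
    by simpa using hv, fun x y => ?_⟩
  obtain ⟨⟨g, hg⟩, h⟩ := hprim.toIsPretransitive.exists_smul_eq x y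
  exact ⟨g, hg, h⟩

/-- The admissible pairs of primes. -/
def Pair (m p q : ℕ) : Prop :=
  (p + 3 ≤ q ∧ m < 2 * p) ∨ (m = 5 ∧ p = 3 ∧ q = 5) ∨ (m = 6 ∧ p = 3 ∧ q = 5) ∨
    (7 ≤ m ∧ m ≤ 10 ∧ p = 5 ∧ q = 7) ∨ (m = 14 ∧ p = 7 ∧ q = 11) ∨
    (15 ≤ m ∧ m ≤ 16 ∧ p = 11 ∧ q = 13)

theorem exists_pair (m : ℕ) (hm : 5 ≤ m) : ∃ p q : ℕ, p.Prime ∧ q.Prime ∧ m ≤ 2 * p ∧ p < q ∧ q ≤ m ∧
    m < p + q ∧ m < 2 * q ∧ Pair m p q := by
  unfold Pair
  by_cases h : 17 ≤ m
  · obtain ⟨p, q, hp, hq, h1, h2, h3⟩ := exists_gap_pair m h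
    exact ⟨p, q, hp, hq, by omega, by omega, h3, by omega, by omega, Or.inl ⟨h1, h2⟩⟩
  rcases (show m ≤ 6 ∨ (7 ≤ m ∧ m ≤ 10) ∨ (11 ≤ m ∧ m ≤ 14) ∨ (15 ≤ m ∧ m ≤ 16) by omega) with h | h | h | h
  · exact ⟨3, 5, by norm_num, by norm_num, by omega, by norm_num, by omega, by omega, by omega, by omega⟩
  · exact ⟨5, 7, by norm_num, by norm_num, by omega, by norm_num, by omega, by omega, by omega, by omega⟩
  · exact ⟨7, 11, by norm_num, by norm_num, by omega, by norm_num, by omega, by omega, by omega, by omega⟩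
  · exact ⟨11, 13, by norm_num, by norm_num, by omega, by norm_num, by omega, by omega, by omega, by omega⟩

theorem good_closure {m p q : ℕ} (hp : p.Prime) (hq : q.Prime) (hpq : p < q) (hm1 : m ≤ 2 * p)
    (hm2 : m < 2 * q) (hm3 : m < p + q) (hP : Pair m p q) (hdm : Fintype.card α ≤ m) {a b : Equiv.Perm α}
    (ha : orderOf a = p) (hb : orderOf b = q) (hcov : ∀ x, a x ≠ x ∨ b x ≠ x)
    (hK : Subgroup.closure ({a, b} : Set (Equiv.Perm α)) ≤ alternatingGroup α) :
    Good (Subgroup.closure ({a, b} : Set (Equiv.Perm α))) := by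
  classical
  obtain ⟨nb, hnb⟩ := cycleType_prime_order (σ := b) (hb.symm ▸ hq)
  rw [hb] at hnb
  have hbs := sum_cycleType b
  rw [hnb, Multiset.sum_replicate, smul_eq_mul] at hbs
  have hbu := Finset.card_le_univ b.support
  have hnb0 : nb = 0 := by
    by_contra h
    have : 2 * q ≤ (nb + 1) * q := Nat.mul_le_mul_right q (by omega)
    omega
  subst hnb0
  have hbc : b.IsCycle := card_cycleType_eq_one.mp (by rw [hnb, Multiset.card_replicate])
  have hbq : b.support.card = q := by rw [← hbs, zero_add, one_mul]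
  have hprim := primitive_pair hp hq ha hbc hbq hcov (by omega) (by omega)
  have hd5 : 5 ≤ Fintype.card α := by
    have h7 : 5 ≤ q := by
      rcases hP with ⟨h, h'⟩ | ⟨-, -, rfl⟩ | ⟨-, -, rfl⟩ | ⟨-, -, -, rfl⟩ | ⟨-, -, rfl⟩ | ⟨-, -, -, rfl⟩ <;>
        first | omega | (have := hp.two_le; omega)
    omega
  set K := Subgroup.closure ({a, b} : Set (Equiv.Perm α))
  have haK : a ∈ K := Subgroup.subset_closure (by simp)
  have hbK : b ∈ K := Subgroup.subset_closure (by simp)
  -- the first element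
  obtain ⟨na, hna⟩ := cycleType_prime_order (σ := a) (ha.symm ▸ hp)
  rw [ha] at hna
  have has := sum_cycleType a
  rw [hna, Multiset.sum_replicate, smul_eq_mul] at has
  have hau := Finset.card_le_univ a.support
  have hna1 : na ≤ 1 := by
    by_contra h
    have : 3 * p ≤ (na + 1) * p := Nat.mul_le_mul_right p (by omega)
    have := hp.two_le
    omega
  have hjb : q + 3 ≤ Fintype.card α → Good K := fun h => good_of_le hd5 hK
    (Lib.Perm.alternatingGroup_le_of_prime_cycle K hprim hq h hbc hbq hbK)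
  rcases (show na = 0 ∨ na = 1 by omega) with rfl | rfl
  · have hac : a.IsCycle := card_cycleType_eq_one.mp (by rw [hna, Multiset.card_replicate])
    have hap : a.support.card = p := by rw [← has, zero_add, one_mul]
    by_cases hj : p + 3 ≤ Fintype.card α
    · exact good_of_le hd5 hK (Lib.Perm.alternatingGroup_le_of_prime_cycle K hprim hp hj hac hap haK)
    by_cases hp3 : p = 3
    · exact good_of_le hd5 hK (alternatingGroup_le_of_isPreprimitive_of_isThreeCycle_mem hprim
        (card_support_eq_three_iff.mp (hap.trans hp3)) haK)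
    have hdq : q ≤ Fintype.card α := hbq ▸ hbu
    rcases hP with ⟨h, -⟩ | ⟨-, rfl, -⟩ | ⟨-, rfl, -⟩ | ⟨-, -, rfl, rfl⟩ | ⟨-, rfl, rfl⟩ | ⟨-, -, rfl, rfl⟩
    · omega
    · exact absurd rfl hp3
    · exact absurd rfl hp3
    · have hd : Fintype.card α = 7 := by omega
      obtain ⟨u, v, T⟩ := twin_of (by rw [hd]; norm_num) hd5 hac (by rw [hap, hd]) hprim
      rw [hd] at T
      exact good_of_le hd5 hK (T.seven hK rfl (by rw [hb]; decide))
    · omega
    · have hd : Fintype.card α = 13 := by omega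
      obtain ⟨u, v, T⟩ := twin_of (by rw [hd]; norm_num) hd5 hac (by rw [hap, hd]) hprim
      rw [hd] at T
      exact good_of_le hd5 hK (T.thirteen hK)
  · have h2p : 2 * p ≤ Fintype.card α := by omega
    rcases hP with ⟨h, h'⟩ | ⟨rfl, rfl, rfl⟩ | ⟨rfl, rfl, rfl⟩ | ⟨-, h', rfl, rfl⟩ | ⟨-, rfl, rfl⟩ | ⟨-, h', rfl, rfl⟩
    · omega
    · omega
    · exact order_three_six (by omega) ha hb hprim hK
    · exact hjb (by omega)
    · exact hjb (by omega)
    · omega

/-- Let m ≥ 5. Then there are primes p < q with m/2 ≤ p and q ≤ m such that any two elements x, y of the alternating group of degree m with x of order p and y of order q generate a subgroup isomorphic to an alternating group of some degree d ≥ 5. -/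
theorem result (m : ℕ) (hm : 5 ≤ m) :
    ∃ p q : ℕ, p.Prime ∧ q.Prime ∧ m ≤ 2 * p ∧ p < q ∧ q ≤ m ∧
      ∀ x y : alternatingGroup (Fin m), orderOf x = p → orderOf y = q →
        ∃ d : ℕ, 5 ≤ d ∧ Nonempty (Subgroup.closure ({x, y} : Set (alternatingGroup (Fin m))) ≃* alternatingGroup (Fin d)) := by
  classical
  obtain ⟨p, q, hp, hq, h1, h2, h3, h4, h5, hP⟩ := exists_pair m hm
  refine ⟨p, q, hp, hq, h1, h2, h3, fun x y hx hy => ?_⟩
  set S : Finset (Fin m) := (x : Equiv.Perm (Fin m)).support ∪ (y : Equiv.Perm (Fin m)).support with hS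
  obtain ⟨a, hax⟩ : x ∈ (alternatingGroup.ofSubtype S).range :=
    (alternatingGroup.mem_range_ofSubtype_iff S x).mpr Finset.subset_union_left
  obtain ⟨b, hby⟩ : y ∈ (alternatingGroup.ofSubtype S).range :=
    (alternatingGroup.mem_range_ofSubtype_iff S y).mpr Finset.subset_union_right
  rw [← hax] at hx
  rw [← hby] at hy
  rw [← hax, ← hby]
  rw [orderOf_injective _ alternatingGroup.ofSubtype_injective, ← Subgroup.orderOf_coe] at hx hy
  have hcov : ∀ z : {z // z ∈ S}, (a : Equiv.Perm {z // z ∈ S}) z ≠ z ∨ (b : Equiv.Perm {z // z ∈ S}) z ≠ z := by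
    intro z
    have hz : (z : Fin m) ∈ (alternatingGroup.ofSubtype S a : Equiv.Perm (Fin m)).support ∪
        (alternatingGroup.ofSubtype S b : Equiv.Perm (Fin m)).support := by
      rw [hax, hby]; exact z.2
    simp only [Finset.mem_union, mem_support, alternatingGroup.coe_ofSubtype, ofSubtype_apply_coe] at hz
    rcases hz with h | h
    · exact Or.inl fun e => h (by rw [e])
    · exact Or.inr fun e => h (by rw [e])
  have hK : Subgroup.closure ({(a : Equiv.Perm {z // z ∈ S}), (b : Equiv.Perm {z // z ∈ S})} : Set _) ≤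
      alternatingGroup {z // z ∈ S} :=
    (Subgroup.closure_le _).mpr (Set.insert_subset_iff.mpr ⟨a.2, Set.singleton_subset_iff.mpr b.2⟩)
  obtain ⟨d, hd, ⟨e⟩⟩ := good_closure (α := {z // z ∈ S}) hp hq h2 h1 h5 h4 hP
    (by rw [Fintype.card_coe]; exact (Finset.card_le_univ S).trans (Fintype.card_fin m).le) hx hy hcov hK
  refine ⟨d, hd, ⟨?_⟩⟩
  set H0 := Subgroup.closure ({a, b} : Set (alternatingGroup {z // z ∈ S})) with hH0
  have e1 : H0.map (alternatingGroup {z // z ∈ S}).subtype =
      Subgroup.closure ({(a : Equiv.Perm {z // z ∈ S}), (b : Equiv.Perm {z // z ∈ S})} : Set _) := by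
    rw [hH0, MonoidHom.map_closure, Set.image_pair]
    rfl
  have e2 : H0.map (alternatingGroup.ofSubtype S) =
      Subgroup.closure {alternatingGroup.ofSubtype S a, alternatingGroup.ofSubtype S b} := by
    rw [hH0, MonoidHom.map_closure, Set.image_pair]
  exact (MulEquiv.subgroupCongr e2.symm).trans
    ((H0.equivMapOfInjective _ alternatingGroup.ofSubtype_injective).symm.trans
      ((H0.equivMapOfInjective _ (alternatingGroup {z // z ∈ S}).subtype_injective).trans
        ((MulEquiv.subgroupCongr e1).trans e)))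

end Cfsg.Agent.S4150
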