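import Cfsg.Statements.S4151
import Cfsg.Agent.Lib.Frobenius.TIHall

set_option autoImplicit false
open Cfsg

namespace Cfsg.Agent.S4151

open Cfsg.Agent.Lib
open scoped commutatorElement IsMulCommutative

universe u

/-- If a group of automorphisms centralises a Sylow subgroup of a `p`-nilpotent group, the
commutators lie in the normal complement. -/
theorem coprime_commutator {G : Type u} [Group G] [Finite G] {Z Q P0 : Subgroup G} {p : ℕ}
    [Fact p.Prime] (hQZ : Q ≤ Subgroup.normalizer (Z : Set G))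
    (hnpc : Cfsg.HasNormalPComplement p Z) (P : Sylow p Z) (hP : (P : Subgroup Z).map Z.subtype = P0)
    (hcent : Q ≤ Subgroup.centralizer (P0 : Set G)) : (Nat.card (⁅Z, Q⁆ : Subgroup G)).Coprime p := by
  set R := (Cfsg.pResidual p Z).map Z.subtype with hR
  haveI : (Cfsg.pResidual p Z).Normal := Transfer.pResidual_normal
  have hRc : (Nat.card R).Coprime p := by
    rw [hR, Subgroup.card_map_of_injective Z.subtype_injective]
    exact (Transfer.hasNormalPComplement_iff_coprime).mp hnpc
  have hgen : R = Subgroup.closure {x : G | x ∈ Z ∧ Nat.Coprime (orderOf x) p} := by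
    rw [hR, Cfsg.pResidual, MonoidHom.map_closure]
    congr 1
    ext x
    constructor
    · rintro ⟨y, hy, rfl⟩
      exact ⟨y.2, by rw [Subgroup.coe_subtype, Subgroup.orderOf_coe]; exact hy⟩
    · rintro ⟨hx, hc⟩
      exact ⟨⟨x, hx⟩, (show Nat.Coprime (orderOf (⟨x, hx⟩ : Z)) p by rw [Subgroup.orderOf_mk]; exact hc), rfl⟩
  have hnorm : ∀ y ∈ Subgroup.normalizer (Z : Set G), ∀ x ∈ R, y * x * y⁻¹ ∈ R := by
    intro y hy x hx
    have h1 := Subgroup.mem_map_of_mem (MulAut.conj y).toMonoidHom hx
    rw [hgen, MonoidHom.map_closure] at h1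
    rw [hgen]
    refine Subgroup.closure_mono ?_ h1
    rintro _ ⟨z, ⟨hz, hzc⟩, rfl⟩
    exact ⟨(Subgroup.mem_normalizer_iff.mp hy z).mp hz,
      by rw [MulEquiv.coe_toMonoidHom, MulEquiv.orderOf_eq]; exact hzc⟩
  refine Nat.Coprime.coprime_dvd_left (Subgroup.card_dvd_of_le ?_) hRc
  rw [Subgroup.commutator_le]
  intro z hz q hq
  obtain ⟨s, hs, r, hr, hsr⟩ := Subgroup.mem_sup_of_normal_right.mp
    ((Transfer.sylow_sup_pResidual P).ge (Subgroup.mem_top (⟨z, hz⟩ : Z)))
  have hz' : z = (s : G) * (r : G) := (congrArg Subtype.val hsr).symm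
  have hrR : (r : G) ∈ R := ⟨r, hr, rfl⟩
  have hqs : (s : G) * q = q * (s : G) := hcent hq _ (hP ▸ ⟨s, hs, rfl⟩)
  have h1 : (r : G) * (q * (r : G)⁻¹ * q⁻¹) ∈ R :=
    mul_mem hrR (hnorm q (hQZ hq) _ (inv_mem hrR))
  have h2 := hnorm _ (Subgroup.le_normalizer (H := Z) s.2) _ h1
  have hinv : q⁻¹ * (s : G)⁻¹ = (s : G)⁻¹ * q⁻¹ := by rw [← mul_inv_rev, hqs, mul_inv_rev]
  have : ⁅z, q⁆ = (s : G) * ((r : G) * (q * (r : G)⁻¹ * q⁻¹)) * (s : G)⁻¹ := by
    rw [commutatorElement_def, hz']
    calc (s : G) * r * q * ((s : G) * r)⁻¹ * q⁻¹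
        = (s : G) * r * q * (r : G)⁻¹ * ((s : G)⁻¹ * q⁻¹) := by group
      _ = _ := by rw [← hinv]; group
  rw [this]
  exact h2

/-- A coprime group of automorphisms of a cyclic `p`-group with a nontrivial fixed point is trivial. -/
theorem centralizes_of_fixed {G : Type u} [Group G] [Finite G] {P Q : Subgroup G} [IsCyclic P] {p : ℕ}
    [hp : Fact p.Prime] (hP : IsPGroup p P) (hQP : Q ≤ Subgroup.normalizer (P : Set G))
    (hcop : (Nat.card P).Coprime (Nat.card Q)) {u : G} (huP : u ∈ P) (hu1 : u ≠ 1)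
    (hu : ∀ q ∈ Q, q * u = u * q) : Q ≤ Subgroup.centralizer (P : Set G) := by
  rcases IsPGroup.commutator_eq_bot_or_commutator_eq_self hP hQP hcop with h | h
  · exact Subgroup.commutator_eq_bot_iff_le_centralizer.mp h
  exfalso
  haveI : Nontrivial P := ⟨⟨⟨u, huP⟩, 1, fun h => hu1 (congrArg Subtype.val h)⟩⟩
  obtain ⟨n, hn0, hn⟩ := hP.nontrivial_iff_card.mp inferInstance
  obtain ⟨k, hk⟩ := (Nat.dvd_prime_pow hp.out).mp (hn ▸ orderOf_dvd_natCard (⟨u, huP⟩ : P))
  have hk0 : k ≠ 0 := fun h0 => by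
    have := hk.2
    rw [h0, pow_zero, orderOf_eq_one_iff] at this
    exact hu1 (congrArg Subtype.val this)
  set v : P := (⟨u, huP⟩ : P) ^ p ^ (k - 1) with hv
  have hvo : orderOf v = p := by
    rw [hv, orderOf_pow_of_dvd (pow_ne_zero _ hp.out.ne_zero) (hk.2 ▸ pow_dvd_pow p (Nat.sub_le k 1)), hk.2,
      Nat.pow_div (Nat.sub_le k 1) hp.out.pos, show k - (k - 1) = 1 by omega, pow_one]
  have hvfix : ∀ q ∈ Q, q * (v : G) = (v : G) * q := fun q hq => by
    rw [hv, SubmonoidClass.coe_pow]
    exact (Commute.pow_right (show Commute q u from hu q hq) _).eq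
  -- elements of order dividing `p` are fixed
  have hall : ∀ y : P, y ^ p = 1 → y ∈ Subgroup.zpowers v := by
    intro y hy
    classical
    haveI := Fintype.ofFinite P
    set S := ({x : P | x ^ p = 1} : Finset P) with hS
    have hle : S.card ≤ p := IsCyclic.card_pow_eq_one_le hp.out.pos
    have hvp : v ^ p = 1 := orderOf_dvd_iff_pow_eq_one.mp hvo.dvd
    have hsub : (Finset.univ.filter fun x : P => x ∈ Subgroup.zpowers v) ⊆ S := by
      intro x hx
      obtain ⟨i, rfl⟩ := Subgroup.mem_zpowers_iff.mp (Finset.mem_filter.mp hx).2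
      simp only [hS, Finset.mem_filter, Finset.mem_univ, true_and]
      rw [← zpow_natCast, ← zpow_mul, mul_comm, zpow_mul, zpow_natCast, hvp, one_zpow]
    have hcard : (Finset.univ.filter fun x : P => x ∈ Subgroup.zpowers v).card = p := by
      rw [← Fintype.card_subtype, ← Nat.card_eq_fintype_card]
      exact (Nat.card_zpowers v).trans hvo
    have heq := Finset.eq_of_subset_of_card_le hsub (hle.trans hcard.ge)
    have hyS : y ∈ S := by simp [hS, hy]
    rw [← heq] at hyS
    exact (Finset.mem_filter.mp hyS).2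
  -- commutators have exponent dividing `|P| / p`
  set m := p ^ (n - 1) with hm
  have hle : ⁅Q, P⁆ ≤ ((powMonoidHom m : P →* P).ker).map P.subtype := by
    rw [Subgroup.commutator_le]
    intro q hq g hg
    have hqg : q * g * q⁻¹ ∈ P := (Subgroup.mem_normalizer_iff.mp (hQP hq) g).mp hg
    refine ⟨⟨q * g * q⁻¹, hqg⟩ * (⟨g, hg⟩ : P)⁻¹, ?_, by simp [commutatorElement_def]⟩
    refine MonoidHom.mem_ker.mpr ?_
    rw [powMonoidHom_apply, mul_pow, inv_pow, mul_inv_eq_one]
    have h1 : ((⟨g, hg⟩ : P) ^ m) ^ p = 1 := by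
      rw [← pow_mul, hm, ← pow_succ, show n - 1 + 1 = n by omega, ← hn, pow_card_eq_one']
    obtain ⟨i, hi⟩ := Subgroup.mem_zpowers_iff.mp (hall _ h1)
    apply Subtype.ext
    rw [SubmonoidClass.coe_pow, conj_pow, SubmonoidClass.coe_pow]
    have h2 : g ^ m = (v : G) ^ i := by
      have := congrArg Subtype.val hi
      simpa using this.symm
    show q * g ^ m * q⁻¹ = g ^ m
    rw [h2, (Commute.zpow_right (show Commute q (v : G) from hvfix q hq) i).eq, mul_inv_cancel_right]
  obtain ⟨x, hx⟩ := IsCyclic.exists_ofOrder_eq_natCard (α := P)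
  obtain ⟨y, hy, hyx⟩ := hle (h.ge x.2)
  have hxm : x ^ m = 1 := by rw [← Subtype.ext hyx (a2 := x)]; exact hy
  have := orderOf_dvd_of_pow_eq_one hxm
  rw [hx, hn, hm] at this
  have := (Nat.pow_dvd_pow_iff_le_right hp.out.one_lt).mp this
  omega

/-- Let G be a finite group and H a non-normal subgroup meeting each of its conjugates by elements outside N_G(H) trivially, with the order of H coprime to its index in N_G(H), such that G is π-separable for π the set of primes dividing the order of H (G has a chain of normal subgroups from 1 to G each of whose factors has order divisible only by primes dividing the order of H or coprime to it). Suppose a Sylow 2-subgroup of H is abelian and Q is a complement of H in N_G(H). Then C_H(Q), the subgroup of elements of H commuting with Q, has order coprime to its index in G and has a normal complement in G. -/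
theorem result {G : Type*} [Group G] [Finite G] (H : Subgroup G)
    (hTI : Cfsg.IsTISubset (H : Set G)) (hnn : ¬ H.Normal)
    (hHall : (Nat.card H).Coprime (H.subgroupOf (Subgroup.normalizer (H : Set G))).index)
    (hsep : ∃ (n : ℕ) (M : Fin (n + 1) → Subgroup G), M 0 = ⊥ ∧ M (Fin.last n) = ⊤ ∧ Monotone M ∧ (∀ i, (M i).Normal) ∧
      ∀ i : Fin n, (∀ q : ℕ, q.Prime → q ∣ (M i.castSucc).relIndex (M i.succ) → q ∣ Nat.card H) ∨
        ((M i.castSucc).relIndex (M i.succ)).Coprime (Nat.card H))
    (h2 : ∀ P : Sylow 2 H, IsMulCommutative (P : Subgroup H))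
    (Q : Subgroup G) (hQ : Q ≤ Subgroup.normalizer (H : Set G)) (hQH : Q ⊓ H = ⊥) (hQH' : Q ⊔ H = Subgroup.normalizer (H : Set G)) :
    (Nat.card ↥(H ⊓ Subgroup.centralizer (Q : Set G))).Coprime (H ⊓ Subgroup.centralizer (Q : Set G)).index ∧
    ∃ N : Subgroup G, N.Normal ∧ N.IsComplement' (H ⊓ Subgroup.centralizer (Q : Set G)) := by

  set N := Subgroup.normalizer (H : Set G) with hNdef
  have hH1 : H ≠ ⊥ := by rintro rfl; exact hnn inferInstance
  have hHG := Lib.Frobenius.coprime_index_of_tiSubgroup hTI hHall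
  set O := sSup {K : Subgroup G | K.Normal ∧ (Nat.card K).Coprime (Nat.card H)} with hOdef
  obtain ⟨hOn, hOc⟩ := Lib.Frobenius.normal_coprime_core (O := O) rfl
  haveI := hOn
  have hsup : O ⊔ N = ⊤ := Lib.Frobenius.sup_normalizer_eq_top hTI hH1 hHG hsep rfl
  have hcyc : ∀ (p : ℕ) [Fact p.Prime] (P : Sylow p H), IsCyclic (P : Subgroup H) := fun p _ P =>
    Lib.Frobenius.isCyclic_sylow_of_sup_normalizer hTI hnn hsup hOc P (fun hp2 => by
      subst hp2
      exact h2 P)
  haveI hZ : IsZGroup H := ⟨fun p hp P => @hcyc p ⟨hp⟩ P⟩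
  have hsolv : Group.IsSolvable H := inferInstance
  -- `Q` has order prime to that of `H`
  have hQc : (Nat.card Q).Coprime (Nat.card H) := by
    have h1 := Lib.Coprime.card_sup_mul_card_inf (N := H) (H := Q) hQ
    rw [sup_comm, hQH', inf_comm, hQH, Subgroup.card_bot, mul_one] at h1
    have h3 : Nat.card ↥(H.subgroupOf N) * (H.subgroupOf N).index = Nat.card N := Subgroup.card_mul_index _
    rw [Nat.card_congr (Subgroup.subgroupOfEquivOfLe Subgroup.le_normalizer).toEquiv] at h3
    rw [Nat.eq_of_mul_eq_mul_left Nat.card_pos (h1.symm.trans h3.symm)]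
    exact hHall.symm
  set C := H ⊓ Subgroup.centralizer (Q : Set G) with hC
  set K := ⁅H, Q⁆ with hK
  have hKH : K ≤ H := Lib.Coprime.commutator_le_of_le_normalizer hQ
  -- the primes of `C` do not divide the order of `K`
  have hKC : (Nat.card K).Coprime (Nat.card C) := by
    refine Nat.coprime_of_dvd fun p hp hpK hpC => ?_
    haveI := Fact.mk hp
    let U0 : Sylow p C := default
    set U := (U0 : Subgroup C).map C.subtype with hU
    have hUC : U ≤ C := Subgroup.map_subtype_le _
    have hUQ : Q ≤ Subgroup.centralizer (U : Set G) := by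
      rw [Subgroup.le_centralizer_iff]
      exact hUC.trans inf_le_right
    obtain ⟨P, hUP, hQP⟩ := Lib.Coprime.exists_invariant_sylow_ge hQ hQc (Or.inr hsolv) p U
      (hUC.trans inf_le_left) (U0.2.map _) (hUQ.trans (Subgroup.centralizer_le_normalizer _))
    haveI := hcyc p P
    set P0 := (P : Subgroup H).map H.subtype with hP0
    haveI : IsCyclic P0 := isCyclic_of_surjective _
      ((P : Subgroup H).equivMapOfInjective H.subtype H.subtype_injective).surjective
    obtain ⟨u, huU, hu1⟩ := (Subgroup.bot_or_exists_ne_one U).resolve_left fun h0 => by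
      rw [hU, Subgroup.map_eq_bot_iff_of_injective _ C.subtype_injective] at h0
      exact U0.ne_bot_of_dvd_card hpC h0
    have hcP : (Nat.card P0).Coprime (Nat.card Q) :=
      (hQc.coprime_dvd_right (Subgroup.card_dvd_of_le (Subgroup.map_subtype_le _))).symm
    have hQP0 : Q ≤ Subgroup.centralizer (P0 : Set G) :=
      centralizes_of_fixed (P.2.map _) hQP hcP (hUP huU) hu1
        (fun q hq => (hUQ hq u huU).symm)
    have hcop : ∀ Z : Subgroup G, K ≤ Z → Z ≤ H → Q ≤ Subgroup.normalizer (Z : Set G) →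
        P0 ≤ Z → Cfsg.HasNormalPComplement p Z → False := by
      intro Z hKZ hZH hQZ hPZ hnpc
      obtain ⟨PZ, hPZ'⟩ := ((P.2.map H.subtype).of_equiv (Subgroup.subgroupOfEquivOfLe hPZ).symm).exists_le_sylow
      have hmax : (PZ : Subgroup Z).map Z.subtype = P0 := by
        refine le_antisymm ?_ fun x hx => ⟨⟨x, hPZ hx⟩, hPZ' hx, rfl⟩
        have h1 : ((PZ : Subgroup Z).map Z.subtype).subgroupOf H = (P : Subgroup H) :=
          P.3 ((PZ.2.map _).comap_of_injective H.subtype H.subtype_injective)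
            (fun y hy => ⟨⟨y, hPZ ⟨y, hy, rfl⟩⟩, hPZ' ⟨y, hy, rfl⟩, rfl⟩)
        intro x hx
        have hxH : x ∈ H := hZH (Subgroup.map_subtype_le _ hx)
        exact ⟨⟨x, hxH⟩, h1.le hx, rfl⟩
      have hc := coprime_commutator hQZ hnpc PZ hmax hQP0
      have heq : K = ⁅K, Q⁆ := (Lib.Coprime.commutator_commutator_eq hQ hQc (Or.inr hsolv)).symm
      have hKle : K ≤ ⁅Z, Q⁆ := heq.le.trans (Subgroup.commutator_mono hKZ le_rfl)
      exact hp.not_dvd_one (hc.gcd_eq_one ▸ Nat.dvd_gcd (hpK.trans (Subgroup.card_dvd_of_le hKle)) dvd_rfl)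
    rcases Sylow.normalizer_le_centralizer_or_le_commutator P with hb | hb
    · exact hcop H hKH le_rfl hQ (Subgroup.map_subtype_le _)
        (Lib.Transfer.hasNormalPComplement_of_normalizer_le_centralizer P hb)
    -- now the Sylow subgroup is normal
    haveI := IsZGroup.isCyclic_commutator (G := H)
    have hPn : ∀ h : H, ∀ x ∈ (P : Subgroup H), h * x * h⁻¹ ∈ (P : Subgroup H) := by
      intro h x hx
      set P' := (P : Subgroup H).map (MulAut.conj h).toMonoidHom with hP'
      have hP'le : P' ≤ commutator H := by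
        rintro _ ⟨y, hy, rfl⟩
        exact (inferInstance : (commutator H).Normal).conj_mem y (hb hy) h
      have hcomm : ∀ a ∈ commutator H, ∀ b ∈ commutator H, a * b = b * a := fun a ha b hb' =>
        congrArg Subtype.val (mul_comm' (⟨a, ha⟩ : commutator H) ⟨b, hb'⟩)
      have hsp : IsPGroup p ((P : Subgroup H) ⊔ P' : Subgroup H) :=
        IsPGroup.to_sup_of_normal_right' P.2 (P.2.map _) (fun a ha =>
          Subgroup.centralizer_le_normalizer _ fun b hb' =>
            hcomm b (hP'le hb') a (hb ha))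
      have := P.3 hsp le_sup_left
      exact this.le (Subgroup.mem_sup_right ⟨x, hx, rfl⟩)
    set Z := H ⊓ Subgroup.centralizer (P0 : Set G) with hZdef
    have hP0n : H ≤ Subgroup.normalizer (P0 : Set G) := by
      intro h hh
      rw [Subgroup.mem_normalizer_iff]
      intro x
      constructor
      · rintro ⟨y, hy, rfl⟩
        exact ⟨_, hPn ⟨h, hh⟩ y hy, rfl⟩
      · rintro ⟨y, hy, he⟩
        refine ⟨_, hPn ⟨h, hh⟩⁻¹ y hy, ?_⟩
        simp only [Subgroup.coe_subtype] at he ⊢
        push_cast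
        rw [he]; group
    have hKZ : K ≤ Z := by
      refine le_inf hKH (Subgroup.commutator_eq_bot_iff_le_centralizer.mp ?_)
      refine Subgroup.commutator_commutator_eq_bot_of_rotate ?_ ?_
      · rw [Subgroup.commutator_eq_bot_iff_le_centralizer.mpr hQP0, Subgroup.commutator_bot_left]
      · refine le_bot_iff.mp ((Subgroup.commutator_mono (?_ : ⁅P0, H⁆ ≤ P0) le_rfl).trans ?_)
        · exact Subgroup.le_normalizer_iff_commutator_le_left.mp hP0n
        · exact (Subgroup.commutator_eq_bot_iff_le_centralizer.mpr (Subgroup.le_centralizer_iff.mp hQP0)).le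
    have hPab : P0 ≤ Subgroup.centralizer (P0 : Set G) := fun a ha b hb' =>
      congrArg Subtype.val (mul_comm' (⟨b, hb'⟩ : P0) ⟨a, ha⟩)
    have hQZ : Q ≤ Subgroup.normalizer (Z : Set G) :=
      le_trans (le_inf hQ ((hQP0.trans (Subgroup.centralizer_le_normalizer _)).trans
        (by
          intro y hy
          rw [Subgroup.mem_normalizer_iff]
          intro c
          simp only [Subgroup.mem_centralizer_iff]
          constructor
          · intro hc b hb'
            have hb'' : y⁻¹ * b * y ∈ P0 := by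
              have := (Subgroup.mem_normalizer_iff''.mp hy b).mp hb'; simpa using this
            have := hc _ hb''
            calc b * (y * c * y⁻¹) = y * (y⁻¹ * b * y * c) * y⁻¹ := by group
              _ = y * (c * (y⁻¹ * b * y)) * y⁻¹ := by rw [this]
              _ = y * c * y⁻¹ * b := by group
          · intro hc b hb'
            have hb'' : y * b * y⁻¹ ∈ P0 := (Subgroup.mem_normalizer_iff.mp hy b).mp hb'
            have := hc _ hb''
            calc b * c = y⁻¹ * (y * b * y⁻¹ * (y * c * y⁻¹)) * y := by group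
              _ = y⁻¹ * (y * c * y⁻¹ * (y * b * y⁻¹)) * y := by rw [this]
              _ = c * b := by group))) Subgroup.inf_normalizer_le_normalizer_inf
    refine hcop Z hKZ inf_le_left hQZ (le_inf (Subgroup.map_subtype_le _) hPab) ?_
    obtain ⟨PZ, hPZ'⟩ := ((P.2.map H.subtype).of_equiv (Subgroup.subgroupOfEquivOfLe
      (le_inf (Subgroup.map_subtype_le _) hPab : P0 ≤ Z)).symm).exists_le_sylow
    refine Lib.Transfer.hasNormalPComplement_of_normalizer_le_centralizer PZ fun z _ a ha => ?_
    have hmem : (a : G) ∈ P0 := by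
      have h1 : ((PZ : Subgroup Z).map Z.subtype).subgroupOf H = (P : Subgroup H) :=
        P.3 ((PZ.2.map _).comap_of_injective H.subtype H.subtype_injective)
          (fun y hy => ⟨⟨y, le_inf (Subgroup.map_subtype_le _) hPab ⟨y, hy, rfl⟩⟩, hPZ' ⟨y, hy, rfl⟩, rfl⟩)
      exact ⟨⟨a, a.2.1⟩, h1.le ⟨a, ha, rfl⟩, rfl⟩
    exact Subtype.ext (z.2.2 _ hmem)
  -- the complement
  have hKCH : K ⊔ C = H := Lib.Coprime.commutator_sup_centralizer_eq hQ hQc (Or.inr hsolv)
  set N' := O ⊔ (K ⊔ Q) with hN'
  have hcardN : Nat.card N' ∣ Nat.card O * (Nat.card K * Nat.card Q) := by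
    have h1 := Lib.Coprime.card_sup_mul_card_inf (N := O) (H := K ⊔ Q) (by rw [O.normalizer_eq_top]; exact le_top)
    have h3 := Lib.Coprime.card_sup_mul_card_inf (N := K) (H := Q) (Subgroup.normalizer_commutator_ge_right H Q)
    rw [hN']
    exact ((Dvd.intro _ h1).trans (mul_dvd_mul_left _ (Dvd.intro _ h3)))
  have hCH : Nat.card C ∣ Nat.card H := Subgroup.card_dvd_of_le inf_le_left
  have hNC : (Nat.card N').Coprime (Nat.card C) :=
    Nat.Coprime.coprime_dvd_left hcardN
      ((hOc.coprime_dvd_right hCH).mul_left (hKC.mul_left (hQc.coprime_dvd_right hCH)))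
  have htop : N' ⊔ C = ⊤ := by
    rw [eq_top_iff, ← hsup, ← hQH', ← hKCH]
    refine sup_le (le_sup_left.trans le_sup_left) (sup_le ?_ (sup_le ?_ le_sup_right))
    · exact (le_sup_right.trans le_sup_right).trans le_sup_left
    · exact (le_sup_left.trans le_sup_right).trans le_sup_left
  have hCn : C ≤ Subgroup.normalizer (N' : Set G) :=
    Lib.Coprime.le_normalizer_sup (by rw [O.normalizer_eq_top]; exact le_top)
      (Lib.Coprime.le_normalizer_sup (inf_le_left.trans (Subgroup.normalizer_commutator_ge_left H Q))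
        (inf_le_right.trans (Subgroup.centralizer_le_normalizer _)))
  haveI hN'n : N'.Normal := Subgroup.normalizer_eq_top_iff.mp (top_le_iff.mp
    (htop.ge.trans (sup_le Subgroup.le_normalizer hCn)))
  have hcompl : N'.IsComplement' C := Subgroup.isComplement'_of_disjoint_and_mul_eq_univ
    (disjoint_iff.mpr (Subgroup.inf_eq_bot_of_coprime hNC))
    (by rw [← Subgroup.normal_mul, htop, Subgroup.coe_top])
  refine ⟨?_, N', hN'n, hcompl⟩
  rw [hcompl.index_eq_card]
  exact hNC.symm

end Cfsg.Agent.S4151
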