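import Cfsg.Statements.S4152
import Cfsg.Agent.Lib.PiClass.Basic

set_option autoImplicit false
open Cfsg

namespace Cfsg.Agent.S4152
open Cfsg.Agent.Lib.PiClass

open Classical in
theorem card_centralizer_le {G : Type*} [Group G] [Finite G] (N : Subgroup G) [N.Normal] (x : G) :
    Nat.card (Subgroup.centralizer {x}) ≤ Nat.card (N ⊓ Subgroup.centralizer {x} : Subgroup G) *
      Nat.card (Subgroup.centralizer {(QuotientGroup.mk x : G ⧸ N)}) := by
  let f : Subgroup.centralizer {x} →* Subgroup.centralizer {(QuotientGroup.mk x : G ⧸ N)} :=
    ((QuotientGroup.mk' N).comp (Subgroup.centralizer {x}).subtype).codRestrict _ fun c => by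
      rw [Subgroup.mem_centralizer_singleton_iff]
      change (QuotientGroup.mk' N) c * (QuotientGroup.mk' N) x = (QuotientGroup.mk' N) x * (QuotientGroup.mk' N) c
      rw [← map_mul, ← map_mul, Subgroup.mem_centralizer_singleton_iff.mp c.2]
  rw [← f.ker.card_mul_index, Subgroup.index_ker]
  refine Nat.mul_le_mul ?_ (Subgroup.card_le_card_group _)
  refine Nat.card_le_card_of_injective (fun k => ⟨(k.1 : G), ?_, k.1.2⟩) fun a b h => ?_
  · exact (QuotientGroup.eq_one_iff (k.1 : G)).mp (congrArg Subtype.val (MonoidHom.mem_ker.mp k.2))
  · exact Subtype.ext (Subtype.ext (congrArg (fun u : (N ⊓ Subgroup.centralizer {x} : Subgroup G) => (u : G)) h))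

/-- Let G be a finite group, N a normal subgroup and π a set of primes. Then the number of conjugacy classes of π-elements of G (elements whose order is divisible only by primes in π) is at most the number of conjugacy classes of π-elements of N (under conjugation by N) times the number of conjugacy classes of π-elements of G/N. -/
theorem result {G : Type*} [Group G] [Finite G] (N : Subgroup G) [N.Normal] (π : Set ℕ) :
    Nat.card {C : ConjClasses G // ∀ q : ℕ, q.Prime → (∃ g : G, ConjClasses.mk g = C ∧ q ∣ orderOf g) → q ∈ π} ≤ Nat.card {C : ConjClasses N // ∀ q : ℕ, q.Prime → (∃ g : N, ConjClasses.mk g = C ∧ q ∣ orderOf g) → q ∈ π} * Nat.card {C : ConjClasses (G ⧸ N) // ∀ q : ℕ, q.Prime → (∃ g : (G ⧸ N), ConjClasses.mk g = C ∧ q ∣ orderOf g) → q ∈ π} := by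
  classical
  haveI := Fintype.ofFinite G
  haveI := Fintype.ofFinite N
  haveI := Fintype.ofFinite (G ⧸ N)
  refine Nat.le_of_mul_le_mul_left (?_ : Nat.card G * _ ≤ Nat.card G * _) Nat.card_pos
  rw [← sum_piEl π]
  calc ∑ x ∈ Finset.univ.filter (fun x : G => PiEl π x), Nat.card (Subgroup.centralizer {x})
      = ∑ c ∈ Finset.univ.filter (fun c : G ⧸ N => PiEl π c),
          ∑ x ∈ (Finset.univ.filter (fun x : G => PiEl π x)).filter (fun x => QuotientGroup.mk x = c),
            Nat.card (Subgroup.centralizer {x}) := by
        refine (Finset.sum_fiberwise_of_maps_to (fun x hx => ?_) _).symm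
        simp only [Finset.mem_filter, Finset.mem_univ, true_and] at hx ⊢
        exact piEl_of_dvd (orderOf_map_dvd (QuotientGroup.mk' N) x) hx
    _ ≤ ∑ c ∈ Finset.univ.filter (fun c : G ⧸ N => PiEl π c), Nat.card (Subgroup.centralizer {c}) *
          ∑ y ∈ Finset.univ.filter (fun y : N => PiEl π y), Nat.card (Subgroup.centralizer {y}) := by
        refine Finset.sum_le_sum fun c hc => ?_
        obtain ⟨t, rfl⟩ := QuotientGroup.mk_surjective c
        simp only [Finset.mem_filter, Finset.mem_univ, true_and] at hc
        have hcond : ∀ x, t⁻¹ * x ∈ N → piC π x ∈ N := by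
          intro x hx
          rw [← QuotientGroup.eq_one_iff]
          refine eq_one_of_piEl (π := π) ?_ ?_
          · have e : (QuotientGroup.mk x : G ⧸ N) = QuotientGroup.mk t := (QuotientGroup.eq.mpr hx).symm
            obtain ⟨i, hi⟩ := Subgroup.mem_zpowers_iff.mp (piC_mem_zpowers π x)
            rw [← hi, QuotientGroup.mk_zpow, e]
            exact piEl_of_dvd (orderOf_dvd_of_mem_zpowers (Subgroup.zpow_mem_zpowers _ i)) hc
          · exact piEl_of_dvd (orderOf_map_dvd (QuotientGroup.mk' N) _) (piC_piEl π x)
        calc ∑ x ∈ (Finset.univ.filter (fun x : G => PiEl π x)).filter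
                (fun x => (QuotientGroup.mk x : G ⧸ N) = QuotientGroup.mk t), Nat.card (Subgroup.centralizer {x})
            ≤ Nat.card (Subgroup.centralizer {(QuotientGroup.mk t : G ⧸ N)}) * (pairs N t fun p => PiEl π p.1).card := by
              rw [Finset.card_eq_sum_card_fiberwise (f := fun p : G × G => p.1)
                (s := pairs N t fun p => PiEl π p.1)
                (t := (Finset.univ.filter (fun x : G => PiEl π x)).filter
                  (fun x => (QuotientGroup.mk x : G ⧸ N) = QuotientGroup.mk t)) fun p hp => by
                  simp only [Finset.mem_coe, mem_pairs] at hp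
                  simp only [Finset.mem_coe, Finset.mem_filter, Finset.mem_univ, true_and]
                  exact ⟨hp.2.2.2, (QuotientGroup.eq.mpr hp.1).symm⟩, Finset.mul_sum]
              refine Finset.sum_le_sum fun x hx => ?_
              simp only [Finset.mem_filter, Finset.mem_univ, true_and] at hx
              refine (card_centralizer_le N x).trans ?_
              rw [mul_comm, hx.2]
              refine Nat.mul_le_mul le_rfl (le_of_eq ?_)
              rw [← Fintype.card_coe, ← Nat.card_eq_fintype_card]
              refine Nat.card_congr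
                { toFun := fun y => ⟨(x, (y : G)), ?_⟩
                  invFun := fun p => ⟨p.1.2, ?_⟩
                  left_inv := fun y => rfl
                  right_inv := fun p => ?_ }
              · simp only [Finset.mem_filter, mem_pairs]
                exact ⟨⟨QuotientGroup.eq.mp hx.2.symm, y.2.1,
                  Commute.symm (Subgroup.mem_centralizer_singleton_iff.mp y.2.2), hx.1⟩, trivial⟩
              · obtain ⟨hp, hp2⟩ := Finset.mem_filter.mp p.2
                rw [mem_pairs] at hp
                exact ⟨hp.2.1, Subgroup.mem_centralizer_singleton_iff.mpr ((fun a b (e : a = x) (h : Commute a b) => (e ▸ h.symm.eq : b * x = x * b)) _ _ hp2 hp.2.2.1)⟩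
              · obtain ⟨hp, hp2⟩ := Finset.mem_filter.mp p.2
                exact Subtype.ext (Prod.ext hp2.symm rfl)
          _ ≤ Nat.card (Subgroup.centralizer {(QuotientGroup.mk t : G ⧸ N)}) *
              ∑ y ∈ Finset.univ.filter (fun y : N => PiEl π y), Nat.card (Subgroup.centralizer {y}) := by
              rw [pairs_pi_eq π N t hcond]
              refine Nat.mul_le_mul le_rfl ?_
              rw [Finset.card_eq_sum_card_fiberwise (f := fun p : G × G => p.2)
                (s := pairs N t fun p => PiEl π p.2)
                (t := (Finset.univ.filter (fun y : N => PiEl π y)).map (Function.Embedding.subtype _)) fun p hp => by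
                  simp only [Finset.mem_coe, mem_pairs] at hp
                  simp only [Finset.mem_coe, Finset.mem_map, Finset.mem_filter, Finset.mem_univ, true_and,
                    Function.Embedding.coe_subtype]
                  exact ⟨⟨p.2, hp.2.1⟩, piEl_of_dvd (dvd_of_eq (Subgroup.orderOf_mk p.2 hp.2.1)) hp.2.2.2, rfl⟩,
                Finset.sum_map]
              refine Finset.sum_le_sum fun y _ => ?_
              simp only [Function.Embedding.coe_subtype]
              rcases ((pairs N t fun p => PiEl π p.2).filter fun p => p.2 = (y : G)).eq_empty_or_nonempty with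
                he | ⟨q, hq⟩
              · exact (Finset.card_eq_zero.mpr he).le.trans (Nat.zero_le _)
              · obtain ⟨hq1, hq2⟩ := Finset.mem_filter.mp hq
                rw [mem_pairs] at hq1
                refine le_of_eq_of_le (Nat.card_eq_finsetCard _).symm ?_
                refine Nat.card_le_card_of_injective (fun p => ⟨⟨q.1⁻¹ * p.1.1, ?_⟩, ?_⟩) fun a b h => ?_
                · have hp := (mem_pairs.mp (Finset.mem_filter.mp p.2).1).1
                  simpa [mul_assoc] using mul_mem (inv_mem hq1.1) hp
                · obtain ⟨hp1, hp2⟩ := Finset.mem_filter.mp p.2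
                  rw [mem_pairs] at hp1
                  rw [Subgroup.mem_centralizer_singleton_iff]
                  have c1 : Commute q.1 (y : G) := by rw [← hq2]; exact hq1.2.2.1
                  have c2 : Commute p.1.1 (y : G) := (fun a b c (e : b = c) (h : Commute a b) => (e ▸ h : Commute a c)) _ _ _ hp2 hp1.2.2.1
                  exact Subtype.ext (c1.inv_left.mul_left c2).eq
                · obtain ⟨-, ha⟩ := Finset.mem_filter.mp a.2
                  obtain ⟨-, hb⟩ := Finset.mem_filter.mp b.2
                  exact Subtype.ext (Prod.ext (mul_left_cancel (congrArg (fun u => ((u.1 : N) : G)) h)) (ha.trans hb.symm))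
    _ = _ := by
        rw [← Finset.sum_mul, sum_piEl, sum_piEl, Subgroup.card_eq_card_quotient_mul_card_subgroup N]
        ring

end Cfsg.Agent.S4152
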