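import Cfsg.Statements.S4154
import Mathlib.GroupTheory.Index
import Cfsg.Agent.Lib.Cores.Basic

set_option autoImplicit false
open Cfsg

namespace Cfsg.Agent.S4154

/-- Let G be a finite group and α an automorphism of G such that every element of G is the product of an element fixed by α and an element of the form g⁻¹α(g). If N is a normal α-invariant subgroup, then the automorphism ᾱ induced on G/N has the same property, and every coset fixed by ᾱ contains an element fixed by α (so the fixed points of ᾱ are the images of the fixed points of α). -/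
theorem result {G : Type*} [Group G] [Finite G] (α : MulAut G)
    (hccp : ∀ x : G, ∃ c g : G, α c = c ∧ x = c * (g⁻¹ * α g))
    (N : Subgroup G) [N.Normal] (hN : ∀ n ∈ N, α n ∈ N) :
    (∀ x : G, ∃ c g : G, c⁻¹ * α c ∈ N ∧ x⁻¹ * (c * (g⁻¹ * α g)) ∈ N) ∧
    (∀ x : G, x⁻¹ * α x ∈ N → ∃ c : G, α c = c ∧ c⁻¹ * x ∈ N) := by
  refine ⟨fun x => ?_, ?_⟩
  · obtain ⟨c, g, hc, rfl⟩ := hccp x
    exact ⟨c, g, by rw [hc, inv_mul_cancel]; exact one_mem N, by rw [inv_mul_cancel]; exact one_mem N⟩
  -- fixed points, and elements fixed modulo `N`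
  let C : Subgroup G :=
  { carrier := {c | α c = c}
    one_mem' := map_one α
    mul_mem' := fun {a b} ha hb => by
      show α (a * b) = a * b
      rw [map_mul, show α a = a from ha, show α b = b from hb]
    inv_mem' := fun {a} ha => by
      show α a⁻¹ = a⁻¹
      rw [map_inv, show α a = a from ha] }
  let A : Subgroup G :=
  { carrier := {c | c⁻¹ * α c ∈ N}
    one_mem' := by show (1 : G)⁻¹ * α 1 ∈ N; rw [map_one, inv_one, one_mul]; exact one_mem N
    mul_mem' := fun {a b} ha hb => by
      show (a * b)⁻¹ * α (a * b) ∈ N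
      have h1 := mul_mem (Subgroup.Normal.conj_mem inferInstance _ (show a⁻¹ * α a ∈ N from ha) b⁻¹)
        (show b⁻¹ * α b ∈ N from hb)
      convert h1 using 1
      rw [map_mul]
      group
    inv_mem' := fun {a} ha => by
      show a⁻¹⁻¹ * α a⁻¹ ∈ N
      have h1 := Subgroup.Normal.conj_mem inferInstance _ (inv_mem (show a⁻¹ * α a ∈ N from ha)) a
      convert h1 using 1
      rw [map_inv]
      group }
  have hle : C ⊔ N ≤ A := by
    refine sup_le (fun c hc => ?_) (fun n hn => mul_mem (inv_mem hn) (hN n hn))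
    show c⁻¹ * α c ∈ N
    rw [show α c = c from hc, inv_mul_cancel]
    exact one_mem N
  -- a surjection `(C ⊔ N) × (cosets of A) → G`
  let f : ↥(C ⊔ N) × (G ⧸ A) → G := fun q => (q.1 : G) * (q.2.out * α q.2.out⁻¹)
  have hsur : Function.Surjective f := by
    intro x
    obtain ⟨c, g, hc, rfl⟩ := hccp x
    set r := (QuotientGroup.mk g⁻¹ : G ⧸ A).out with hr
    obtain ⟨⟨a, ha⟩, har⟩ := QuotientGroup.mk_out_eq_mul A g⁻¹
    rw [← hr] at har
    -- `g = a r⁻¹`
    have hg : g = a * r⁻¹ := by rw [har]; group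
    have hn : r * (a⁻¹ * α a) * r⁻¹ ∈ N := Subgroup.Normal.conj_mem inferInstance _ (show a⁻¹ * α a ∈ N from ha) r
    refine ⟨(⟨c * (r * (a⁻¹ * α a) * r⁻¹), mul_mem (Subgroup.mem_sup_left hc) (Subgroup.mem_sup_right hn)⟩,
      QuotientGroup.mk g⁻¹), ?_⟩
    show c * (r * (a⁻¹ * α a) * r⁻¹) * (r * α r⁻¹) = c * (g⁻¹ * α g)
    rw [hg, map_mul, map_inv]
    group
  have hcard := Nat.card_le_card_of_surjective f hsur
  rw [Nat.card_prod, ← Subgroup.card_mul_index A, ← Subgroup.index_eq_card] at hcard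
  have heq : C ⊔ N = A := Subgroup.eq_of_le_of_card_ge hle
    (Nat.le_of_mul_le_mul_right hcard (Nat.pos_of_ne_zero Subgroup.index_ne_zero_of_finite))
  intro x hx
  obtain ⟨c, hc, n, hn, rfl⟩ := Subgroup.mem_sup_of_normal_right.mp (show x ∈ C ⊔ N from heq ▸ hx)
  exact ⟨c, hc, by rw [inv_mul_cancel_left]; exact hn⟩

end Cfsg.Agent.S4154
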