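import Cfsg.Statements.S4155
import Cfsg.Agent.S4107
import Cfsg.Agent.Lib.Cores
import Cfsg.Agent.Lib.Frobenius.UniqueSubgroup
import Cfsg.Agent.Lib.Solvable.FixedPointFree

set_option autoImplicit false
open Cfsg

namespace Cfsg.Agent.S4155

open Cfsg.Agent.Lib

/-- Let G be a finite group and N a proper non-trivial normal nilpotent subgroup whose order is not a prime power, such that for every x outside N all elements of the coset xN have the same order as x. Then N is the Fitting subgroup of G, and for every prime q every Sylow q-subgroup of G/N is cyclic or generalized quaternion. -/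
theorem result {G : Type*} [Group G] [Finite G] (N : Subgroup G) [N.Normal] (hN1 : N ≠ ⊥) (hN2 : N ≠ ⊤)
    (heq : ∀ x : G, x ∉ N → ∀ n ∈ N, orderOf (x * n) = orderOf x)
    (hnil : Group.IsNilpotent N) (hnpp : ¬ IsPrimePow (Nat.card N)) :
    N = Cfsg.fittingSubgroup G ∧
    ∀ (q : ℕ) [Fact q.Prime] (Q : Sylow q (G ⧸ N)), IsCyclic (Q : Subgroup (G ⧸ N)) ∨ ∃ n : ℕ, Nonempty ((Q : Subgroup (G ⧸ N)) ≃* QuaternionGroup (2 ^ n)) := by

  obtain ⟨hor, hlt⟩ := S4107.result N hN1 hN2 heq
  have hNF : N ≤ Cfsg.fittingSubgroup G := Lib.Cores.le_fittingSubgroup inferInstance hnil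
  constructor
  · refine hNF.eq_of_not_lt fun h => hnpp ?_
    obtain ⟨p, k, hp, hk, hpk⟩ := hlt h
    obtain ⟨j, hj, hjN⟩ := (Nat.dvd_prime_pow hp.nat_prime).mp (hpk.symm ▸ Subgroup.card_dvd_of_le hNF)
    refine ⟨p, j, hp, ?_, hjN.symm⟩
    rcases Nat.eq_zero_or_pos j with rfl | h0
    · rw [pow_zero, Subgroup.card_eq_one] at hjN
      exact absurd hjN hN1
    · exact h0
  intro q hq Q
  obtain ⟨r, hr, hrN, hrq⟩ : ∃ r : ℕ, r.Prime ∧ r ∣ Nat.card N ∧ r ≠ q := by
    by_contra hno
    push Not at hno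
    apply hnpp
    have h := Nat.eq_prime_pow_of_unique_prime_dvd (p := q) (Nat.card_pos (α := N)).ne' (fun {d} hd hdN => hno d hd hdN)
    refine ⟨q, _, hq.out.prime, ?_, h.symm⟩
    refine Nat.pos_of_ne_zero fun h0 => ?_
    rw [h0, pow_zero, Subgroup.card_eq_one] at h
    exact hN1 h
  haveI := Fact.mk hr
  haveI := hnil
  let R0 : Sylow r N := default
  set R := (Cfsg.pCore r N).map N.subtype with hR
  have hR0le : (R0 : Subgroup N) ≤ Cfsg.pCore r N := le_sSup ⟨inferInstance, R0.2⟩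
  haveI hchar : (Cfsg.pCore r N).Characteristic := Lib.Cores.pCore_characteristic r N
  haveI hRn : R.Normal := Lib.Cores.normal_map_subtype_of_char N (Cfsg.pCore r N)
  have hRp : IsPGroup r R := (Lib.Cores.pCore_isPGroup r N).map _
  haveI hRnt : Nontrivial R := by
    rw [Subgroup.nontrivial_iff_ne_bot, hR, Ne, Subgroup.map_eq_bot_iff_of_injective _ N.subtype_injective]
    exact fun h => R0.ne_bot_of_dvd_card hrN (le_bot_iff.mp (h ▸ hR0le))
  set π := QuotientGroup.mk' N
  set L := (Q : Subgroup (G ⧸ N)).comap π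
  let S : Sylow q L := default
  set S0 := (S : Subgroup L).map L.subtype with hS0
  have hSQ : S0.map π = (Q : Subgroup (G ⧸ N)) := by
    let f : L →* (Q : Subgroup (G ⧸ N)) := π.subgroupComap _
    have hf : Function.Surjective f := fun y => by
      obtain ⟨g, hg⟩ := QuotientGroup.mk'_surjective N (y : G ⧸ N)
      exact ⟨⟨g, show π g ∈ (Q : Subgroup (G ⧸ N)) by rw [hg]; exact y.2⟩, Subtype.ext hg⟩
    have htop : (S : Subgroup L).map f = ⊤ :=
      ((Sylow.mapSurjective hf S).3 (Q.2.to_subgroup ⊤) le_top).symm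
    refine le_antisymm ?_ fun y hy => ?_
    · rintro _ ⟨_, ⟨s, hs, rfl⟩, rfl⟩
      exact s.2
    · obtain ⟨s, hs, hsy⟩ := htop.ge (Subgroup.mem_top (⟨y, hy⟩ : (Q : Subgroup (G ⧸ N))))
      exact ⟨s, ⟨s, hs, rfl⟩, congrArg Subtype.val hsy⟩
  let φ : S0 →* MulAut R := (MulAut.conjNormal (H := R)).comp S0.subtype
  have hcomm : ∀ s : S0, (s : G) ∈ N → φ s = 1 := by
    intro s hsN
    refine MulEquiv.ext fun v => Subtype.ext ?_
    show (s : G) * v * (s : G)⁻¹ = v
    obtain ⟨⟨v', hv', hv''⟩⟩ : Nonempty {v' : N // v' ∈ Cfsg.pCore r N ∧ (v' : G) = v} := by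
      obtain ⟨v', h1, h2⟩ := v.2
      exact ⟨⟨v', h1, h2⟩⟩
    obtain ⟨k, hk⟩ := (S.2.map L.subtype) s
    have hsq : Nat.Coprime (orderOf (⟨(s : G), hsN⟩ : N)) r := by
      rw [Subgroup.orderOf_mk]
      refine Nat.Coprime.coprime_dvd_left (orderOf_dvd_of_pow_eq_one (congrArg Subtype.val hk)) ?_
      exact ((Nat.coprime_primes hq.out hr).mpr (Ne.symm hrq)).pow_left k
    have h := Lib.Transfer.commute_of_hasNormalPComplement
      (Lib.Solvable.FixedPointFree.hasNormalPComplement_of_isNilpotent r) (Lib.Cores.pCore_isPGroup r N) hsq v' hv'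
    rw [← hv'']
    have h' := congrArg Subtype.val h
    simp only [Subgroup.coe_mul] at h'
    rw [← h', mul_inv_cancel_right]
  let K := N.subgroupOf S0
  let ψ : S0 ⧸ K →* MulAut R := QuotientGroup.lift K φ fun s hs => hcomm s hs
  have hfpf : ∀ a : S0 ⧸ K, a ≠ 1 → ∀ v : R, ψ a v = v → v = 1 := by
    intro a ha v hav
    obtain ⟨s, rfl⟩ := QuotientGroup.mk_surjective a
    have hsN : (s : G) ∉ N := fun h => ha ((QuotientGroup.eq_one_iff s).mpr h)
    have hav' : (s : G) * v * (s : G)⁻¹ = v := congrArg Subtype.val hav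
    obtain ⟨k, hk⟩ := (S.2.map L.subtype) s
    obtain ⟨j, hj⟩ := hRp v
    have hcp : Nat.Coprime (orderOf (s : G)) (orderOf (v : G)) :=
      (((Nat.coprime_primes hq.out hr).mpr (Ne.symm hrq)).pow k j).coprime_dvd_left
        (orderOf_dvd_of_pow_eq_one (congrArg Subtype.val hk)) |>.coprime_dvd_right
        (orderOf_dvd_of_pow_eq_one (congrArg Subtype.val hj))
    have hc : Commute (s : G) (v : G) := mul_inv_eq_iff_eq_mul.mp hav'
    have h := heq s hsN v (Subgroup.map_subtype_le _ v.2)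
    rw [hc.orderOf_mul_eq_mul_orderOf_of_coprime hcp] at h
    have := Nat.eq_of_mul_eq_mul_left (orderOf_pos (s : G)) (h.trans (mul_one _).symm)
    exact Subtype.ext (orderOf_eq_one_iff.mp this)
  let g : S0 →* (Q : Subgroup (G ⧸ N)) :=
    (MulEquiv.subgroupCongr hSQ).toMonoidHom.comp (π.subgroupMap S0)
  have hg : Function.Surjective g :=
    (MulEquiv.subgroupCongr hSQ).surjective.comp (π.subgroupMap_surjective S0)
  have hker : g.ker = K := by
    ext s
    rw [MonoidHom.mem_ker]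
    constructor
    · intro h
      exact (QuotientGroup.eq_one_iff (s : G)).mp (congrArg Subtype.val h)
    · intro h
      exact Subtype.ext ((QuotientGroup.eq_one_iff (s : G)).mpr h)
  let e : S0 ⧸ K ≃* (Q : Subgroup (G ⧸ N)) :=
    (QuotientGroup.quotientMulEquivOfEq hker.symm).trans (QuotientGroup.quotientKerEquivOfSurjective g hg)
  have htopp : IsPGroup q (⊤ : Subgroup (S0 ⧸ K)) :=
    (Q.2.of_equiv e.symm).to_subgroup ⊤
  rcases Lib.Frobenius.isCyclic_or_quaternion_of_fixedPointFree ψ hfpf ⊤ htopp with h | ⟨-, m, ⟨e'⟩⟩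
  · haveI := h
    exact Or.inl (isCyclic_of_surjective (Subgroup.topEquiv.trans e) (Subgroup.topEquiv.trans e).surjective)
  · exact Or.inr ⟨m + 1, ⟨((Subgroup.topEquiv.trans e).symm).trans e'⟩⟩

end Cfsg.Agent.S4155
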