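import Cfsg.Statements.S4156
import Mathlib.GroupTheory.SpecificGroups.Alternating.Simple
import Mathlib.LinearAlgebra.Matrix.ToLin
import Mathlib.LinearAlgebra.Matrix.ProjectiveSpecialLinearGroup

set_option autoImplicit false
open Cfsg

namespace Cfsg.Agent.S4156

variable {n : ℕ} {F : Type*} [Field F]

/-- permutation matrices in the basis of differences `e i - e last` of the sum-zero hyperplane -/
def stdMat (F : Type*) [Field F] (σ : Equiv.Perm (Fin (n + 1))) : Matrix (Fin n) (Fin n) F :=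
  fun j i => (if σ i.castSucc = j.castSucc then 1 else 0) - (if σ (Fin.last n) = j.castSucc then 1 else 0)

theorem stdMat_one : stdMat F (1 : Equiv.Perm (Fin (n + 1))) = 1 := by
  ext j i
  simp [stdMat, Matrix.one_apply, eq_comm, (Fin.castSucc_lt_last j).ne']

theorem sum_castSucc_ite (a : Fin (n + 1)) (f : Fin (n + 1) → F) :
    ∑ j : Fin n, (if a = j.castSucc then f j.castSucc else 0) =
      if a = Fin.last n then 0 else f a := by
  induction a using Fin.lastCases with
  | last => simp [(Fin.castSucc_lt_last _).ne']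
  | cast b => simp [(Fin.castSucc_lt_last b).ne]

theorem stdMat_mul (σ τ : Equiv.Perm (Fin (n + 1))) :
    stdMat F (σ * τ) = stdMat F σ * stdMat F τ := by
  ext k i
  let f : Fin (n + 1) → F := fun a =>
    (if σ a = k.castSucc then 1 else 0) - (if σ (Fin.last n) = k.castSucc then 1 else 0)
  have h : ∀ a, ∑ j : Fin n, stdMat F σ k j * (if a = j.castSucc then 1 else 0) = f a := by
    intro a
    rw [Finset.sum_congr rfl fun j _ => show stdMat F σ k j * (if a = j.castSucc then (1 : F) else 0) =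
      if a = j.castSucc then f j.castSucc else 0 by split_ifs <;> simp [stdMat, f]]
    rw [sum_castSucc_ite]
    split_ifs with ha
    · simp [ha, f]
    · rfl
  rw [Matrix.mul_apply, Finset.sum_congr rfl fun j _ => show stdMat F σ k j * stdMat F τ j i =
    stdMat F σ k j * (if τ i.castSucc = j.castSucc then 1 else 0) -
      stdMat F σ k j * (if τ (Fin.last n) = j.castSucc then 1 else 0) from mul_sub _ _ _,
    Finset.sum_sub_distrib, h, h]
  simp [stdMat, f, Equiv.Perm.mul_apply]
  congr 1 <;> split_ifs <;> simp_all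

/-- the representation -/
def stdHom (F : Type*) [Field F] (n : ℕ) : Equiv.Perm (Fin (n + 1)) →* (Matrix (Fin n) (Fin n) F)ˣ :=
  MonoidHom.toHomUnits { toFun := stdMat F, map_one' := stdMat_one, map_mul' := stdMat_mul }

/-- Let n ≥ 5 and F a finite field. Then the projective special linear group PSL_n(F) contains a subgroup isomorphic to the alternating group of degree n + 1. -/
theorem result (n : ℕ) (hn : 5 ≤ n) (F : Type*) [Field F] [Finite F] :
    ∃ f : alternatingGroup (Fin (n + 1)) →* Matrix.ProjectiveSpecialLinearGroup (Fin n) F, Function.Injective f := by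
  haveI : IsSimpleGroup (alternatingGroup (Fin (n + 1))) :=
    alternatingGroup.isSimpleGroup (by rw [Nat.card_eq_fintype_card, Fintype.card_fin]; omega)
  -- the determinant is trivial on the simple group
  let d : alternatingGroup (Fin (n + 1)) →* Fˣ :=
    (Units.map (Matrix.detMonoidHom (n := Fin n) (R := F))).comp ((stdHom F n).comp (Subgroup.subtype _))
  have hna : ∃ a b : alternatingGroup (Fin (n + 1)), a * b ≠ b * a := by
    let i0 : Fin (n + 1) := ⟨0, by omega⟩
    let i1 : Fin (n + 1) := ⟨1, by omega⟩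
    let i2 : Fin (n + 1) := ⟨2, by omega⟩
    let i3 : Fin (n + 1) := ⟨3, by omega⟩
    refine ⟨⟨Equiv.swap i0 i1 * Equiv.swap i1 i2, ?_⟩, ⟨Equiv.swap i0 i1 * Equiv.swap i2 i3, ?_⟩, ?_⟩
    · simp [Equiv.Perm.mem_alternatingGroup, Equiv.Perm.sign_swap, i0, i1, i2]
    · simp [Equiv.Perm.mem_alternatingGroup, Equiv.Perm.sign_swap, i0, i1, i2, i3]
    · intro h
      have := congrArg (fun u : alternatingGroup (Fin (n + 1)) => (u : Equiv.Perm (Fin (n + 1))) i0) h
      simp [Equiv.swap_apply_def, i0, i1, i2, i3] at this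
  have hd : ∀ σ, d σ = 1 := by
    intro σ
    rcases d.normal_ker.eq_bot_or_eq_top with h | h
    · exfalso
      obtain ⟨a, b, hab⟩ := hna
      exact hab ((MonoidHom.ker_eq_bot_iff d).mp h (by rw [map_mul, map_mul, mul_comm]))
    · exact MonoidHom.mem_ker.mp (h ▸ Subgroup.mem_top σ)
  let ρ : alternatingGroup (Fin (n + 1)) →* Matrix.SpecialLinearGroup (Fin n) F :=
    MonoidHom.mk' (fun σ => ⟨stdMat F (σ : Equiv.Perm (Fin (n + 1))), by
      simpa [d, stdHom] using congrArg Units.val (hd σ)⟩)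
      (fun σ τ => Subtype.ext (stdMat_mul _ _))
  let π := (QuotientGroup.mk' (Subgroup.center (Matrix.SpecialLinearGroup (Fin n) F))).comp ρ
  refine ⟨π, (MonoidHom.ker_eq_bot_iff π).mp (π.normal_ker.eq_bot_or_eq_top.resolve_right fun h => ?_)⟩
  -- a double transposition is not scalar
  let i0 : Fin (n + 1) := ⟨0, by omega⟩
  let i1 : Fin (n + 1) := ⟨1, by omega⟩
  let i2 : Fin (n + 1) := ⟨2, by omega⟩
  let i3 : Fin (n + 1) := ⟨3, by omega⟩
  let σ : alternatingGroup (Fin (n + 1)) := ⟨Equiv.swap i0 i1 * Equiv.swap i2 i3, by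
    simp [Equiv.Perm.mem_alternatingGroup, Equiv.Perm.sign_swap, i0, i1, i2, i3]⟩
  have hσ : σ ∈ π.ker := h ▸ Subgroup.mem_top σ
  have hc : ρ σ ∈ Subgroup.center (Matrix.SpecialLinearGroup (Fin n) F) :=
    (QuotientGroup.eq_one_iff _).mp (MonoidHom.mem_ker.mp hσ)
  obtain ⟨r, -, hr⟩ := Matrix.SpecialLinearGroup.mem_center_iff.mp hc
  have h2 : stdMat F (Equiv.swap i0 i1 * Equiv.swap i2 i3) (⟨1, by omega⟩ : Fin n) ⟨0, by omega⟩ = 0 := by
    refine (congrFun (congrFun hr ⟨1, by omega⟩) ⟨0, by omega⟩).symm.trans ?_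
    simp [Matrix.scalar_apply, Fin.ext_iff]
  have e0 : Fin.castSucc (⟨0, by omega⟩ : Fin n) = i0 := rfl
  have e1 : Fin.castSucc (⟨1, by omega⟩ : Fin n) = i1 := rfl
  have hne : ∀ a b : Fin (n + 1), (a : ℕ) ≠ (b : ℕ) → a ≠ b := fun a b hab h => hab (congrArg Fin.val h)
  have n02 : i0 ≠ i2 := hne _ _ (show (0 : ℕ) ≠ 2 by omega)
  have n03 : i0 ≠ i3 := hne _ _ (show (0 : ℕ) ≠ 3 by omega)
  have nl0 : Fin.last n ≠ i0 := hne _ _ (show n ≠ 0 by omega)
  have nl1 : Fin.last n ≠ i1 := hne _ _ (show n ≠ 1 by omega)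
  have nl2 : Fin.last n ≠ i2 := hne _ _ (show n ≠ 2 by omega)
  have nl3 : Fin.last n ≠ i3 := hne _ _ (show n ≠ 3 by omega)
  have v1 : (Equiv.swap i0 i1 * Equiv.swap i2 i3) i0 = i1 := by
    rw [Equiv.Perm.mul_apply, Equiv.swap_apply_of_ne_of_ne n02 n03, Equiv.swap_apply_left]
  have v2 : (Equiv.swap i0 i1 * Equiv.swap i2 i3) (Fin.last n) = Fin.last n := by
    rw [Equiv.Perm.mul_apply, Equiv.swap_apply_of_ne_of_ne nl2 nl3,
      Equiv.swap_apply_of_ne_of_ne nl0 nl1]
  simp only [stdMat, e0, e1, v1, v2] at h2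
  rw [if_pos trivial, if_neg nl1, sub_zero] at h2
  exact one_ne_zero h2

end Cfsg.Agent.S4156
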