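import Cfsg.Statements.S4160
import Mathlib
-- import your own Cfsg.Agent.* helpers here

set_option autoImplicit false
open Cfsg

namespace Cfsg.Agent.S4160

/-- The conjugates of a subgroup meet at most `[G : N(H)] (|H| - 1)` non-identity elements. -/
theorem card_conjugates_le {G : Type*} [Group G] [Finite G] (H : Subgroup G) :
    Set.ncard {g : G | g ≠ 1 ∧ ∃ x : G, x⁻¹ * g * x ∈ H} + (Subgroup.normalizer (H : Set G)).index ≤
      (Subgroup.normalizer (H : Set G)).index * Nat.card H := by
  classical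
  set N := Subgroup.normalizer (H : Set G) with hN
  let f : (G ⧸ N) × {h : H // h ≠ 1} → G := fun p => p.1.out * (p.2.1 : G) * p.1.out⁻¹
  have hsub : {g : G | g ≠ 1 ∧ ∃ x : G, x⁻¹ * g * x ∈ H} ⊆ Set.range f := by
    rintro g ⟨hg1, x, hx⟩
    set q : G ⧸ N := (x : G ⧸ N) with hq
    obtain ⟨n, hn⟩ := QuotientGroup.mk_out_eq_mul N x
    have hmem : q.out⁻¹ * g * q.out ∈ H := by
      rw [hq, hn]
      have h1 : (n : G) * ((x * n)⁻¹ * g * (x * n)) * (n : G)⁻¹ = x⁻¹ * g * x := by group
      exact (Subgroup.mem_normalizer_iff.mp n.2 _).mpr (h1.symm ▸ hx)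
    refine ⟨(q, ⟨⟨_, hmem⟩, fun e => hg1 ?_⟩), ?_⟩
    · have e' : q.out⁻¹ * g * q.out = 1 := congrArg Subtype.val e
      calc g = q.out * (q.out⁻¹ * g * q.out) * q.out⁻¹ := by group
        _ = 1 := by rw [e', mul_one, mul_inv_cancel]
    · show q.out * (q.out⁻¹ * g * q.out) * q.out⁻¹ = g
      group
  have h1 : Set.ncard {g : G | g ≠ 1 ∧ ∃ x : G, x⁻¹ * g * x ∈ H} ≤ Nat.card ((G ⧸ N) × {h : H // h ≠ 1}) := by
    refine (Set.ncard_le_ncard hsub (Set.toFinite _)).trans ?_
    rw [← Set.image_univ]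
    refine (Set.ncard_image_le (Set.toFinite _)).trans (le_of_eq ?_)
    rw [Set.ncard_univ]
  rw [Nat.card_prod, ← Subgroup.index_eq_card] at h1
  have h2 : Nat.card {h : H // h ≠ 1} + 1 = Nat.card H := by
    haveI := Fintype.ofFinite H
    simp only [Nat.card_eq_fintype_card, Fintype.card_subtype_compl, Fintype.card_subtype_eq]
    have : 0 < Fintype.card H := Fintype.card_pos
    omega
  calc _ ≤ N.index * Nat.card {h : H // h ≠ 1} + N.index := Nat.add_le_add_right h1 _
    _ = N.index * Nat.card H := by rw [← h2]; ring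

/-- A self-normalizing Sylow centralizer gives a normal complement. -/
theorem complement_of_centralizer {G : Type*} [Group G] [Finite G] {p : ℕ} [Fact p.Prime] (P : Sylow p G)
    (h : Subgroup.normalizer ((Subgroup.centralizer ((P : Subgroup G) : Set G) : Subgroup G) : Set G) =
      Subgroup.centralizer ((P : Subgroup G) : Set G)) : Cfsg.HasNormalPComplement p G := by
  have hle : Subgroup.normalizer ((P : Subgroup G) : Set G) ≤ Subgroup.centralizer ((P : Subgroup G) : Set G) := by
    rw [← h]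
    intro x hx
    rw [Subgroup.mem_normalizer_iff]
    intro y
    constructor
    · intro hy
      refine Subgroup.mem_centralizer_iff.mpr fun u hu => ?_
      have h1 := Subgroup.mem_centralizer_iff.mp hy _ ((Subgroup.mem_normalizer_iff''.mp hx u).mp hu)
      calc u * (x * y * x⁻¹) = x * ((x⁻¹ * u * x) * y) * x⁻¹ := by group
        _ = x * (y * (x⁻¹ * u * x)) * x⁻¹ := by rw [h1]
        _ = _ := by group
    · intro hy
      refine Subgroup.mem_centralizer_iff.mpr fun u hu => ?_
      have h1 := Subgroup.mem_centralizer_iff.mp hy _ ((Subgroup.mem_normalizer_iff.mp hx u).mp hu)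
      calc u * y = x⁻¹ * ((x * u * x⁻¹) * (x * y * x⁻¹)) * x := by group
        _ = x⁻¹ * ((x * y * x⁻¹) * (x * u * x⁻¹)) * x := by rw [h1]
        _ = _ := by group
  exact ⟨P, _, inferInstance, MonoidHom.ker_transferSylow_isComplement' P hle⟩


/-- Let G be a finite group and p ≠ q primes each dividing the size of some conjugacy class of G, such that no conjugacy class size is divisible by pq. Then G has a normal p-complement or a normal q-complement. -/
theorem result {G : Type*} [Group G] [Finite G] (p q : ℕ) (hp : p.Prime) (hq : q.Prime) (hpq : p ≠ q)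
    (hp' : ∃ x : G, p ∣ (Subgroup.centralizer ({x} : Set G)).index) (hq' : ∃ x : G, q ∣ (Subgroup.centralizer ({x} : Set G)).index) (h : ∀ x : G, ¬ p * q ∣ (Subgroup.centralizer ({x} : Set G)).index) :
    Cfsg.HasNormalPComplement p G ∨ Cfsg.HasNormalPComplement q G := by
  classical
  haveI := Fact.mk hp
  haveI := Fact.mk hq
  obtain ⟨P⟩ : Nonempty (Sylow p G) := inferInstance
  obtain ⟨Q⟩ : Nonempty (Sylow q G) := inferInstance
  by_contra hcon
  push Not at hcon
  set A := Subgroup.centralizer ((P : Subgroup G) : Set G) with hA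
  set B := Subgroup.centralizer ((Q : Subgroup G) : Set G) with hB
  have hidx : ∀ H : Subgroup G, Subgroup.normalizer (H : Set G) ≠ H →
      2 * ((Subgroup.normalizer (H : Set G)).index * Nat.card H) ≤ Nat.card G := by
    intro H hH
    have h1 : H.relIndex (Subgroup.normalizer (H : Set G)) ≠ 1 := fun e =>
      hH (le_antisymm (Subgroup.relIndex_eq_one.mp e) Subgroup.le_normalizer)
    have h2 : 2 ≤ H.relIndex (Subgroup.normalizer (H : Set G)) := by
      have : H.relIndex (Subgroup.normalizer (H : Set G)) ≠ 0 := Subgroup.index_ne_zero_of_finite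
      omega
    calc 2 * ((Subgroup.normalizer (H : Set G)).index * Nat.card H)
        ≤ H.relIndex (Subgroup.normalizer (H : Set G)) * ((Subgroup.normalizer (H : Set G)).index * Nat.card H) :=
          Nat.mul_le_mul_right _ h2
      _ = H.index * Nat.card H := by rw [← Subgroup.relIndex_mul_index (H := H) (K := Subgroup.normalizer (H : Set G)) Subgroup.le_normalizer, mul_assoc]
      _ = Nat.card G := by rw [mul_comm, H.card_mul_index]
  have hA2 := hidx A fun e => hcon.1 (complement_of_centralizer P e)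
  have hB2 := hidx B fun e => hcon.2 (complement_of_centralizer Q e)
  -- every element centralizes a Sylow subgroup for one of the primes
  have hcov : ∀ (r : ℕ) [Fact r.Prime] (S : Sylow r G) (g : G),
      ¬ r ∣ (Subgroup.centralizer ({g} : Set G)).index →
        ∃ x : G, x⁻¹ * g * x ∈ Subgroup.centralizer ((S : Subgroup G) : Set G) := by
    intro r _ S g hr
    obtain ⟨T⟩ : Nonempty (Sylow r (Subgroup.centralizer ({g} : Set G))) := inferInstance
    have hT : ¬ r ∣ ((T : Subgroup (Subgroup.centralizer ({g} : Set G))).map (Subgroup.centralizer ({g} : Set G)).subtype).index := by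
      rw [Subgroup.index_map_subtype]
      exact fun hd => (Nat.Prime.dvd_mul (Fact.out : r.Prime)).mp hd |>.elim T.not_dvd_index hr
    let T' : Sylow r G := (T.2.map (Subgroup.centralizer ({g} : Set G)).subtype).toSylow hT
    obtain ⟨x, hx⟩ := MulAction.exists_smul_eq G S T'
    refine ⟨x, Subgroup.mem_centralizer_iff.mpr fun u hu => ?_⟩
    have h1 : x * u * x⁻¹ ∈ (T' : Subgroup G) := by
      rw [← hx]
      exact ⟨u, hu, rfl⟩
    obtain ⟨⟨v, hv⟩, -, hve⟩ := h1
    have h2 : g * (x * u * x⁻¹) = (x * u * x⁻¹) * g := by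
      rw [← hve]; exact Subgroup.mem_centralizer_singleton_iff.mp hv |>.symm
    calc u * (x⁻¹ * g * x) = x⁻¹ * ((x * u * x⁻¹) * g) * x := by group
      _ = x⁻¹ * (g * (x * u * x⁻¹)) * x := by rw [h2]
      _ = _ := by group
  have huniv : (Set.univ : Set G) ⊆ {1} ∪ ({g : G | g ≠ 1 ∧ ∃ x : G, x⁻¹ * g * x ∈ A} ∪
      {g : G | g ≠ 1 ∧ ∃ x : G, x⁻¹ * g * x ∈ B}) := by
    intro g _
    by_cases hg : g = 1
    · exact Or.inl hg
    by_cases h1 : p ∣ (Subgroup.centralizer ({g} : Set G)).index
    · refine Or.inr (Or.inr ⟨hg, hcov q Q g fun h2 => h g ?_⟩)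
      exact ((Nat.coprime_primes hp hq).mpr hpq).mul_dvd_of_dvd_of_dvd h1 h2
    · exact Or.inr (Or.inl ⟨hg, hcov p P g h1⟩)
  have h3 := Set.ncard_le_ncard huniv (Set.toFinite _)
  rw [Set.ncard_univ] at h3
  have h4 := Set.ncard_union_le ({1} : Set G) ({g : G | g ≠ 1 ∧ ∃ x : G, x⁻¹ * g * x ∈ A} ∪
      {g : G | g ≠ 1 ∧ ∃ x : G, x⁻¹ * g * x ∈ B})
  have h5 := Set.ncard_union_le {g : G | g ≠ 1 ∧ ∃ x : G, x⁻¹ * g * x ∈ A} {g : G | g ≠ 1 ∧ ∃ x : G, x⁻¹ * g * x ∈ B}
  rw [Set.ncard_singleton] at h4
  have h6 := card_conjugates_le A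
  have h7 := card_conjugates_le B
  have h8 : 0 < (Subgroup.normalizer (A : Set G)).index := Nat.pos_of_ne_zero Subgroup.index_ne_zero_of_finite
  have h9 : 0 < (Subgroup.normalizer (B : Set G)).index := Nat.pos_of_ne_zero Subgroup.index_ne_zero_of_finite
  omega

end Cfsg.Agent.S4160
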