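import Cfsg.Statements.S4163
import Mathlib.GroupTheory.Nilpotent
import Mathlib.Tactic

set_option autoImplicit false
open Cfsg

namespace Cfsg.Agent.S4163

open scoped commutatorElement

variable {G : Type*} [Group G] [Finite G]

/-- Isaacs' lemma: commutators with an abelian normal subgroup have smaller classes. -/
theorem index_centralizer_commutator_lt (A : Subgroup G) [A.Normal] (hA : ∀ a ∈ A, ∀ b ∈ A, a * b = b * a)
    (x : G) {a : G} (ha : a ∈ A) (hu : a * x * a⁻¹ * x⁻¹ ≠ 1) :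
    (Subgroup.centralizer ({a * x * a⁻¹ * x⁻¹} : Set G)).index < (Subgroup.centralizer ({x} : Set G)).index := by
  classical
  set C := Subgroup.centralizer ({x} : Set G) with hC
  set u := a * x * a⁻¹ * x⁻¹ with hu'
  set D := Subgroup.centralizer ({u} : Set G) with hD
  let f : A → G := fun b => (b : G) * x * (b : G)⁻¹ * x⁻¹
  set H := C ⊔ A with hH
  set T := Set.range f with hT
  have hfA : ∀ b : A, f b ∈ A := fun b => by
    show (b : G) * x * (b : G)⁻¹ * x⁻¹ ∈ A
    rw [mul_assoc (b : G) x, mul_assoc]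
    exact mul_mem b.2 ((inferInstance : A.Normal).conj_mem _ (inv_mem b.2) x)
  -- `H` permutes `T`
  have hinv : ∀ g ∈ H, ∀ t ∈ T, g * t * g⁻¹ ∈ T := by
    intro g hg
    rw [hH, ← SetLike.mem_coe, Subgroup.mul_normal] at hg
    obtain ⟨c, hc, b, hb, rfl⟩ := hg
    rintro _ ⟨w, rfl⟩
    have h1 : b * f w * b⁻¹ = f w := by rw [hA b hb _ (hfA w), mul_inv_cancel_right]
    refine ⟨⟨c * w * c⁻¹, (inferInstance : A.Normal).conj_mem _ w.2 c⟩, ?_⟩
    rw [show c * b * f w * (c * b)⁻¹ = c * (b * f w * b⁻¹) * c⁻¹ by group, h1]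
    have hcx : c * x = x * c := Subgroup.mem_centralizer_singleton_iff.mp hc
    show c * (w : G) * c⁻¹ * x * (c * (w : G) * c⁻¹)⁻¹ * x⁻¹ = c * ((w : G) * x * (w : G)⁻¹ * x⁻¹) * c⁻¹
    rw [show c * (w : G) * c⁻¹ * x * (c * (w : G) * c⁻¹)⁻¹ * x⁻¹ =
      c * (w : G) * (c⁻¹ * (x * c)) * (w : G)⁻¹ * c⁻¹ * x⁻¹ by group, ← hcx, inv_mul_cancel_left,
      show c * ((w : G) * x * (w : G)⁻¹ * x⁻¹) * c⁻¹ = c * (w : G) * x * (w : G)⁻¹ * (c * x)⁻¹ by group, hcx]
    group
  have huT : u ∈ T := ⟨⟨a, ha⟩, rfl⟩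
  have h1T : (1 : G) ∈ T := ⟨1, by simp [f]⟩
  haveI : Finite T := Set.toFinite T |>.to_subtype
  have hlow : Nat.card T ≤ C.relIndex H := by
    let ι : T → H ⧸ C.subgroupOf H := fun t =>
      QuotientGroup.mk ⟨((t.2.choose : A) : G), Subgroup.mem_sup_right (t.2.choose).2⟩
    refine Nat.card_le_card_of_injective ι fun s t e => Subtype.ext ?_
    have h1 := Subgroup.mem_subgroupOf.mp (QuotientGroup.eq.mp e)
    rw [← s.2.choose_spec, ← t.2.choose_spec]
    show ((s.2.choose : A) : G) * x * _ * x⁻¹ = _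
    set b := ((s.2.choose : A) : G)
    set b' := ((t.2.choose : A) : G)
    have h2 : b⁻¹ * b' * x = x * (b⁻¹ * b') := Subgroup.mem_centralizer_singleton_iff.mp h1
    show b * x * b⁻¹ * x⁻¹ = b' * x * b'⁻¹ * x⁻¹
    rw [show b' * x * b'⁻¹ = b * (b⁻¹ * b' * x) * (b⁻¹ * b')⁻¹ * b⁻¹ by group, h2]
    group
  have hup : D.relIndex H ≤ Nat.card T - 1 := by
    let κ : H ⧸ D.subgroupOf H → {t : T // t ≠ ⟨1, h1T⟩} := fun q =>
      ⟨⟨(q.out : G) * u * (q.out : G)⁻¹, hinv _ q.out.2 u huT⟩, fun e => hu (by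
        have := congrArg Subtype.val e
        exact conj_eq_one_iff.mp this)⟩
    refine (Nat.card_le_card_of_injective κ fun s t e => ?_).trans (le_of_eq ?_)
    · have e' : (s.out : G) * u * (s.out : G)⁻¹ = (t.out : G) * u * (t.out : G)⁻¹ :=
        congrArg (fun z : {t : T // t ≠ ⟨1, h1T⟩} => ((z : T) : G)) e
      refine (QuotientGroup.out_eq' s).symm.trans (Eq.trans ?_ (QuotientGroup.out_eq' t))
      refine QuotientGroup.eq.mpr (Subgroup.mem_subgroupOf.mpr (Subgroup.mem_centralizer_singleton_iff.mpr ?_))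
      show (s.out : G)⁻¹ * (t.out : G) * u = u * ((s.out : G)⁻¹ * (t.out : G))
      calc (s.out : G)⁻¹ * (t.out : G) * u = (s.out : G)⁻¹ * ((t.out : G) * u * (t.out : G)⁻¹) * (t.out : G) := by group
        _ = (s.out : G)⁻¹ * ((s.out : G) * u * (s.out : G)⁻¹) * (t.out : G) := by rw [e']
        _ = _ := by group
    · haveI := Fintype.ofFinite T
      rw [Nat.card_eq_fintype_card, Nat.card_eq_fintype_card, Fintype.card_subtype_compl, Fintype.card_subtype_eq]
  have hHC : C.relIndex H * H.index = C.index := Subgroup.relIndex_mul_index le_sup_left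
  have hTpos : 0 < Nat.card T := by
    haveI : Nonempty T := ⟨⟨1, h1T⟩⟩
    exact Nat.card_pos
  have hD' : D.index ≤ D.relIndex H * H.index := by
    rw [← Subgroup.inf_relIndex_right, Subgroup.relIndex_mul_index inf_le_right]
    exact Nat.le_of_dvd (Nat.pos_of_ne_zero Subgroup.index_ne_zero_of_finite) (Subgroup.index_dvd_of_le inf_le_left)
  calc D.index ≤ D.relIndex H * H.index := hD'
    _ < C.relIndex H * H.index :=
      Nat.mul_lt_mul_of_pos_right (by omega) (Nat.pos_of_ne_zero Subgroup.index_ne_zero_of_finite)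
    _ = C.index := hHC

theorem mem_center_of_index_one {x : G} (h : (Subgroup.centralizer ({x} : Set G)).index = 1) :
    x ∈ Subgroup.center G := by
  rw [Subgroup.index_eq_one] at h
  exact Subgroup.mem_center_iff.mpr fun g =>
    Subgroup.mem_centralizer_singleton_iff.mp (h ▸ Subgroup.mem_top g)

/-- Triple commutators of the subgroup generated by small classes are central. -/
theorem triple_commutator (A : Subgroup G) [A.Normal] (hA : IsMulCommutative A)
    (hCA : Subgroup.centralizer (A : Set G) = A) (m : ℕ)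
    (hmin : ∀ x : G, 1 < (Subgroup.centralizer ({x} : Set G)).index → m ≤ (Subgroup.centralizer ({x} : Set G)).index)
    (M : Subgroup G)
    (hM : M ≤ Subgroup.closure {x : G | (Subgroup.centralizer ({x} : Set G)).index = 1 ∨ (Subgroup.centralizer ({x} : Set G)).index = m})
    {g h k : G} (hg : g ∈ M) (hh : h ∈ M) (hk : k ∈ M) : ⁅⁅g, h⁆, k⁆ ∈ Subgroup.center G := by
  have hAc : ∀ a ∈ A, ∀ b ∈ A, a * b = b * a := fun a ha b hb =>
    congrArg Subtype.val (hA.is_comm.comm (⟨a, ha⟩ : A) ⟨b, hb⟩)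
  set π := QuotientGroup.mk' (Subgroup.center G)
  set K := (Subgroup.centralizer ((A.map π : Subgroup (G ⧸ Subgroup.center G)) : Set (G ⧸ Subgroup.center G))).comap π
  have hK : ∀ g ∈ K, ∀ a ∈ A, ∃ z ∈ Subgroup.center G, g * a * g⁻¹ = a * z := by
    intro g hg a ha
    have h1 := Subgroup.mem_centralizer_iff.mp hg (π a) (Subgroup.mem_map_of_mem π ha)
    refine ⟨a⁻¹ * (g * a * g⁻¹), (QuotientGroup.eq_one_iff _).mp ?_, (mul_inv_cancel_left _ _).symm⟩
    show π (a⁻¹ * (g * a * g⁻¹)) = 1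
    rw [map_mul, map_mul, map_mul, map_inv, map_inv, ← h1, mul_inv_cancel_right, inv_mul_cancel]
  have hMK : M ≤ K := by
    refine hM.trans ((Subgroup.closure_le K).mpr fun x hx => ?_)
    show π x ∈ Subgroup.centralizer _
    rw [Subgroup.mem_centralizer_iff]
    rintro _ ⟨a, ha, rfl⟩
    refine commutatorElement_eq_one_iff_mul_comm.mp ?_
    rw [← map_commutatorElement]
    refine (QuotientGroup.eq_one_iff _).mpr ?_
    rw [commutatorElement_def]
    by_cases hu : a * x * a⁻¹ * x⁻¹ = 1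
    · rw [hu]; exact one_mem _
    have hlt := index_centralizer_commutator_lt A hAc x ha hu
    refine mem_center_of_index_one ?_
    rcases hx with hx | hx
    · have := Nat.pos_of_ne_zero (Subgroup.index_ne_zero_of_finite (H := Subgroup.centralizer ({a * x * a⁻¹ * x⁻¹} : Set G)))
      omega
    · by_contra hne
      have := Nat.pos_of_ne_zero (Subgroup.index_ne_zero_of_finite (H := Subgroup.centralizer ({a * x * a⁻¹ * x⁻¹} : Set G)))
      have := hmin _ (by omega : 1 < (Subgroup.centralizer ({a * x * a⁻¹ * x⁻¹} : Set G)).index)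
      omega
  have hghA : ⁅g, h⁆ ∈ A := by
    rw [← hCA, Subgroup.mem_centralizer_iff]
    intro a ha
    obtain ⟨z, hz, hz'⟩ := hK g (hMK hg) a ha
    obtain ⟨w, hw, hw'⟩ := hK h (hMK hh) a ha
    have hzc := fun y => Subgroup.mem_center_iff.mp hz y
    have hwc := fun y => Subgroup.mem_center_iff.mp hw y
    have e1 : g⁻¹ * a * g = a * z⁻¹ := by
      calc g⁻¹ * a * g = g⁻¹ * ((a * z) * z⁻¹) * g := by group
        _ = g⁻¹ * (g * a * g⁻¹ * z⁻¹) * g := by rw [hz']
        _ = a * (g⁻¹ * (z⁻¹ * g)) := by group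
        _ = a * z⁻¹ := by rw [← (Commute.inv_right (hzc g)).eq, inv_mul_cancel_left]
    have e2 : h⁻¹ * a * h = a * w⁻¹ := by
      calc h⁻¹ * a * h = h⁻¹ * ((a * w) * w⁻¹) * h := by group
        _ = h⁻¹ * (h * a * h⁻¹ * w⁻¹) * h := by rw [hw']
        _ = a * (h⁻¹ * (w⁻¹ * h)) := by group
        _ = a * w⁻¹ := by rw [← (Commute.inv_right (hwc h)).eq, inv_mul_cancel_left]
    have cz : ∀ y : G, y * z⁻¹ = z⁻¹ * y := fun y => (Commute.inv_right (hzc y)).eq
    have cw : ∀ y : G, y * w⁻¹ = w⁻¹ * y := fun y => (Commute.inv_right (hwc y)).eq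
    have e3 : ⁅g, h⁆ * a * ⁅g, h⁆⁻¹ = a := by
      calc ⁅g, h⁆ * a * ⁅g, h⁆⁻¹ = g * (h * (g⁻¹ * (h⁻¹ * a * h) * g) * h⁻¹) * g⁻¹ := by
            rw [commutatorElement_def]; group
        _ = g * (h * ((g⁻¹ * a) * (w⁻¹ * g)) * h⁻¹) * g⁻¹ := by rw [e2]; group
        _ = g * (h * ((g⁻¹ * a * g) * w⁻¹) * h⁻¹) * g⁻¹ := by rw [← cw g]; group
        _ = g * ((h * a) * ((z⁻¹ * w⁻¹) * h⁻¹)) * g⁻¹ := by rw [e1]; group
        _ = g * ((h * a * h⁻¹) * (z⁻¹ * w⁻¹)) * g⁻¹ := by
            rw [show (z⁻¹ * w⁻¹) * h⁻¹ = h⁻¹ * (z⁻¹ * w⁻¹) by rw [mul_assoc, ← cw, ← mul_assoc, ← cz, mul_assoc]]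
            group
        _ = g * (a * (w * (z⁻¹ * w⁻¹))) * g⁻¹ := by rw [hw']; group
        _ = g * (a * z⁻¹) * g⁻¹ := by rw [← mul_assoc w, cz w, mul_inv_cancel_right]
        _ = g * a * (z⁻¹ * g⁻¹) := by group
        _ = g * a * g⁻¹ * z⁻¹ := by rw [← cz]; group
        _ = a := by rw [hz', mul_inv_cancel_right]
    exact (mul_inv_eq_iff_eq_mul.mp e3).symm
  obtain ⟨z, hz, hz'⟩ := hK k (hMK hk) _ hghA
  have : ⁅⁅g, h⁆, k⁆ = z⁻¹ := by
    calc ⁅⁅g, h⁆, k⁆ = ⁅g, h⁆ * (k * ⁅g, h⁆ * k⁻¹)⁻¹ := by rw [commutatorElement_def ⁅g, h⁆ k]; group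
      _ = ⁅g, h⁆ * (⁅g, h⁆ * z)⁻¹ := by rw [hz']
      _ = z⁻¹ := by
        rw [mul_inv_rev, (Commute.inv_left (Commute.inv_right (Subgroup.mem_center_iff.mp hz ⁅g, h⁆).symm)).eq,
          mul_inv_cancel_left]
  rw [this]
  exact inv_mem hz

theorem upperCentralSeries_three {M : Type*} [Group M]
    (h : ∀ g h k l : M, ⁅⁅g, h⁆, k⁆ * l = l * ⁅⁅g, h⁆, k⁆) : Subgroup.upperCentralSeries M 3 = ⊤ := by
  rw [eq_top_iff]
  intro g _
  rw [Subgroup.mem_upperCentralSeries_succ_iff]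
  intro y
  rw [Subgroup.mem_upperCentralSeries_succ_iff]
  intro z
  rw [Subgroup.upperCentralSeries_one, Subgroup.mem_center_iff]
  exact fun l => (h g y z l).symm

/-- Let G be a finite group with a normal abelian subgroup A satisfying C_G(A) = A. Suppose some conjugacy class of G has size greater than 1, let m be the smallest such size, and let M be the subgroup generated by the elements whose class has size 1 or m. Then M is nilpotent of class at most 3. -/
theorem result {G : Type*} [Group G] [Finite G]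
    (A : Subgroup G) [A.Normal] (hA : IsMulCommutative A) (hCA : Subgroup.centralizer (A : Set G) = A)
    (m : ℕ) (hm1 : 1 < m) (hm : ∃ x : G, (Subgroup.centralizer ({x} : Set G)).index = m) (hmin : ∀ x : G, 1 < (Subgroup.centralizer ({x} : Set G)).index → m ≤ (Subgroup.centralizer ({x} : Set G)).index) :
    Subgroup.upperCentralSeries ↥(Subgroup.closure {x : G | (Subgroup.centralizer ({x} : Set G)).index = 1 ∨ (Subgroup.centralizer ({x} : Set G)).index = m}) 3 = ⊤ := by
  refine upperCentralSeries_three fun g h k l => Subtype.ext ?_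
  exact (Subgroup.mem_center_iff.mp (triple_commutator A hA hCA m hmin _ le_rfl g.2 h.2 k.2) (l : G)).symm

end Cfsg.Agent.S4163
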