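import Cfsg.Statements.S4168
import Mathlib.GroupTheory.Transfer
import Mathlib.GroupTheory.IsPerfect
import Mathlib.GroupTheory.Sylow
import Mathlib.GroupTheory.SchurZassenhaus
import Cfsg.Prelude.Def_CaseTheorems

set_option autoImplicit false
open Cfsg

namespace Cfsg.Agent.S4168

open scoped commutatorElement

/-- Let L be a finite quasisimple group (perfect with L/Z(L) simple). Then every prime dividing the order of the centre Z(L) also divides the order of L/Z(L). -/
theorem result {L : Type*} [Group L] [Finite L] (hL : Cfsg.IsQuasisimple L)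
    (p : ℕ) (hp : p.Prime) (hdiv : p ∣ Nat.card (Subgroup.center L)) : p ∣ (Subgroup.center L).index := by
  by_contra hnd
  have : Fact p.Prime := ⟨hp⟩
  obtain ⟨hperf, -⟩ := hL
  obtain ⟨Q⟩ : Nonempty (Sylow p (Subgroup.center L)) := inferInstance
  have hcard : Nat.card ((Q : Subgroup (Subgroup.center L)).map (Subgroup.center L).subtype) =
      p ^ (Nat.card L).factorization p := by
    rw [Nat.card_congr ((Q : Subgroup (Subgroup.center L)).equivMapOfInjective _
      (Subgroup.center L).subtype_injective).symm.toEquiv, Sylow.card_eq_multiplicity]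
    congr 1
    rw [← (Subgroup.center L).card_mul_index,
      Nat.factorization_mul Nat.card_pos.ne' Subgroup.index_ne_zero_of_finite, Finsupp.add_apply,
      Nat.factorization_eq_zero_of_not_dvd hnd, add_zero]
  set P := Sylow.ofCard _ hcard with hP
  have hPZ : (P : Subgroup L) ≤ Subgroup.center L := by
    rw [hP, Sylow.coe_ofCard]; exact Subgroup.map_subtype_le _
  have hPne : (P : Subgroup L) ≠ ⊥ := fun h => by
    have h1 : p ∣ Nat.card L := hdiv.trans (Subgroup.center L).card_subgroup_dvd_card
    exact P.ne_bot_of_dvd_card h1 h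
  have : (P : Subgroup L).Normal := ⟨fun x hx g => by
    rwa [Subgroup.mem_center_iff.mp (hPZ hx) g, mul_inv_cancel_right]⟩
  obtain ⟨H, hH⟩ := Subgroup.exists_right_complement'_of_coprime (N := (P : Subgroup L))
    P.card_coprime_index
  have hcov : ∀ g : L, ∃ u ∈ (P : Subgroup L), ∃ h ∈ H, u * h = g := by
    intro g
    have hg : g ∈ (P : Subgroup L) ⊔ H := by rw [hH.sup_eq_top]; trivial
    rw [← SetLike.mem_coe, Subgroup.normal_mul] at hg
    exact Set.mem_mul.mp hg
  have hle : commutator L ≤ H := by
    rw [commutator_def, Subgroup.commutator_le]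
    intro a _ b _
    obtain ⟨u, hu, h, hh, rfl⟩ := hcov a
    obtain ⟨v, hv, k, hk, rfl⟩ := hcov b
    have cu : ∀ y : L, Commute u y := fun y => (Subgroup.mem_center_iff.mp (hPZ hu) y).symm
    have cv : ∀ y : L, Commute v y := fun y => (Subgroup.mem_center_iff.mp (hPZ hv) y).symm
    have e1 : (u * h) * (v * k) = (u * v) * (h * k) := by
      rw [mul_assoc, ← mul_assoc h, ← (cv h).eq, mul_assoc v, ← mul_assoc]
    have e2 : (v * k) * (u * h) = (u * v) * (k * h) := by
      rw [mul_assoc, ← mul_assoc k, ← (cu k).eq, mul_assoc u, ← mul_assoc, (cv u).eq]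
    have e3 : ⁅u * h, v * k⁆ = ⁅h, k⁆ := by
      simp only [commutatorElement_def]
      have key : (u * h) * (v * k) * ((v * k) * (u * h))⁻¹ = h * k * (k * h)⁻¹ := by
        rw [e1, e2, mul_inv_rev (u * v) (k * h)]
        calc (u * v) * (h * k) * ((k * h)⁻¹ * (u * v)⁻¹) = (u * v) * (h * k * (k * h)⁻¹) * (u * v)⁻¹ := by group
          _ = h * k * (k * h)⁻¹ := by
            rw [(((cu _).mul_left (cv _)) : Commute (u * v) (h * k * (k * h)⁻¹)).eq, mul_inv_cancel_right]
      simpa [mul_assoc] using key
    rw [e3, commutatorElement_def]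
    exact H.mul_mem (H.mul_mem (H.mul_mem hh hk) (H.inv_mem hh)) (H.inv_mem hk)
  rw [show commutator L = ⊤ from hperf.commutator_eq_top] at hle
  apply hPne
  have h3 := hH.disjoint
  rw [top_le_iff.mp hle, disjoint_iff, inf_top_eq] at h3
  exact h3

end Cfsg.Agent.S4168
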