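import Cfsg.Statements.S4169
import Cfsg.Agent.S4163
import Cfsg.Agent.Lib.Classification.CyclicNormalAbelian
import Mathlib.Tactic

set_option autoImplicit false
open Cfsg

namespace Cfsg.Agent.S4169

/-- Let P be a finite p-group whose conjugacy classes have exactly two sizes (1 and one other value). Then P has nilpotency class at most 3. -/
theorem result {P : Type*} [Group P] [Finite P] {p : ℕ} [Fact p.Prime] (hP : IsPGroup p P)
    (m : ℕ) (hm : 1 < m) (h : ∀ x : P, (Subgroup.centralizer ({x} : Set P)).index = 1 ∨ (Subgroup.centralizer ({x} : Set P)).index = m) :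
    upperCentralSeries P 3 = ⊤ := by
  obtain ⟨A, hAn, hA, hCA⟩ := Cfsg.Agent.Lib.Classification.exists_normal_abelian_selfCentralizing hP
  haveI := hAn
  refine Cfsg.Agent.S4163.upperCentralSeries_three fun g h' k l => ?_
  refine (Subgroup.mem_center_iff.mp (Cfsg.Agent.S4163.triple_commutator A hA hCA m (fun x hx => ?_) ⊤ ?_
    (Subgroup.mem_top g) (Subgroup.mem_top h') (Subgroup.mem_top k)) l).symm
  · rcases h x with e | e <;> omega
  · exact fun x _ => Subgroup.subset_closure (h x)

end Cfsg.Agent.S4169
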