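import Cfsg.Statements.S4170
import Cfsg.Agent.Lib.SylowCounting.SylowRatio

set_option autoImplicit false
open scoped Pointwise
open Cfsg
open scoped Pointwise

namespace Cfsg.Agent.S4170

/-- Let p be an odd prime and G a nontrivial group of permutations of a finite set Ω that is generated by its elements of p-power order. Then Ω has two disjoint nonempty subsets Δ₁ and Δ₂ such that the index in G of the subgroup of elements mapping Δ₁ onto Δ₁ and Δ₂ onto Δ₂ (and hence also the complement of their union onto itself) is divisible by p. -/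
theorem result {Ω : Type*} [Fintype Ω] (p : ℕ) [Fact p.Prime] (hp : p ≠ 2) (G : Subgroup (Equiv.Perm Ω)) (hG : G ≠ ⊥) (hgen : Subgroup.closure {g : G | ∃ k : ℕ, orderOf g = p ^ k} = ⊤) :
    ∃ Δ₁ Δ₂ : Set Ω, Δ₁.Nonempty ∧ Δ₂.Nonempty ∧ Disjoint Δ₁ Δ₂ ∧ p ∣ (MulAction.stabilizer G Δ₁ ⊓ MulAction.stabilizer G Δ₂).index := by
  classical
  by_contra hno
  push Not at hno
  -- a nontrivial element of `p`-power order
  obtain ⟨g, ⟨k, hk⟩, hg⟩ : ∃ g : G, (∃ k : ℕ, orderOf g = p ^ k) ∧ g ≠ 1 := by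
    by_contra hall
    push Not at hall
    refine hG ((Subgroup.eq_bot_iff_forall _).mpr fun x hx => ?_)
    have h : (⟨x, hx⟩ : G) ∈ (⊥ : Subgroup G) := by
      have hle : Subgroup.closure {g : G | ∃ k : ℕ, orderOf g = p ^ k} ≤ ⊥ :=
        (Subgroup.closure_le _).mpr fun g ⟨k, hk⟩ => Subgroup.mem_bot.mpr (hall g ⟨k, hk⟩)
      exact hle (hgen ▸ Subgroup.mem_top _)
    exact congrArg Subtype.val (Subgroup.mem_bot.mp h)
  obtain ⟨α, hα⟩ : ∃ α : Ω, (g : Equiv.Perm Ω) α ≠ α := by
    by_contra hall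
    push Not at hall
    exact hg (Subtype.ext (Equiv.ext hall))
  have hpow : ∃ j : ℕ, ((g ^ p ^ j : G) : Equiv.Perm Ω) α = α := by
    refine ⟨k, ?_⟩
    rw [← hk, pow_orderOf_eq_one]
    rfl
  have hj0 : Nat.find hpow ≠ 0 := fun h => hα (by
    have h' := Nat.find_spec hpow
    rwa [h, pow_zero, pow_one] at h')
  set y := g ^ p ^ (Nat.find hpow - 1) with hy
  have hyα : (y : Equiv.Perm Ω) α ≠ α := Nat.find_min hpow (by omega)
  have hyp : ((y ^ p : G) : Equiv.Perm Ω) α = α := by
    rw [hy, ← pow_mul, ← pow_succ, Nat.sub_add_cancel (Nat.one_le_iff_ne_zero.mpr hj0)]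
    exact Nat.find_spec hpow
  -- the orbit of `α` under `y` and the two sets
  set T : Finset Ω := (Finset.range p).image fun i => ((y ^ i : G) : Equiv.Perm Ω) α with hT
  have hp1 : 1 < p := (Fact.out : p.Prime).one_lt
  have hαT : α ∈ T := Finset.mem_image.mpr ⟨0, Finset.mem_range.mpr (by omega), by simp⟩
  have hTcard : T.card ≤ p := Finset.card_image_le.trans (le_of_eq (Finset.card_range p))
  have hne2 : (↑(T.erase α) : Set Ω).Nonempty := ⟨(y : Equiv.Perm Ω) α, Finset.mem_coe.mpr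
    (Finset.mem_erase.mpr ⟨hyα, Finset.mem_image.mpr ⟨1, Finset.mem_range.mpr hp1, by simp⟩⟩)⟩
  have hdisj : Disjoint ({α} : Set Ω) (↑(T.erase α) : Set Ω) := by simp
  have hidx := hno {α} (↑(T.erase α)) (Set.singleton_nonempty α) hne2 hdisj
  set S := MulAction.stabilizer G ({α} : Set Ω) ⊓ MulAction.stabilizer G (↑(T.erase α) : Set Ω) with hS
  obtain ⟨R⟩ : Nonempty (Sylow p S) := inferInstance
  have hRidx : ¬ p ∣ ((R : Subgroup S).map S.subtype).index := by
    rw [Subgroup.index_map_subtype]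
    exact fun h => ((Fact.out : p.Prime).dvd_mul.mp h).elim R.not_dvd_index hidx
  set R' : Sylow p G := (R.isPGroup'.map S.subtype).toSylow hRidx with hR'
  have hR'S : (R' : Subgroup G) ≤ S := Subgroup.map_subtype_le _
  -- `R'` fixes `T` pointwise
  have hfix : ∀ r ∈ (R' : Subgroup G), ∀ β ∈ T, (r : Equiv.Perm Ω) β = β := by
    intro r hr β hβ
    by_cases hβα : β = α
    · subst hβα
      have h : r • β ∈ r • ({β} : Set Ω) := Set.smul_mem_smul_set (Set.mem_singleton β)
      rw [show r • ({β} : Set Ω) = {β} from (hR'S hr).1] at h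
      exact h
    · obtain ⟨m, hm⟩ := (R'.isPGroup' : IsPGroup p (R' : Subgroup G)).card_orbit β
      have hsub : MulAction.orbit (R' : Subgroup G) β ⊆ (↑(T.erase α) : Set Ω) := by
        rintro _ ⟨s, rfl⟩
        have h : (s : G) • β ∈ (s : G) • (↑(T.erase α) : Set Ω) :=
          Set.smul_mem_smul_set (Finset.mem_coe.mpr (Finset.mem_erase.mpr ⟨hβα, hβ⟩))
        rwa [show (s : G) • (↑(T.erase α) : Set Ω) = _ from (hR'S s.2).2] at h
      have hlt : Nat.card (MulAction.orbit (R' : Subgroup G) β) < p := by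
        refine lt_of_le_of_lt (Nat.card_mono (Finset.finite_toSet _) hsub) ?_
        rw [Nat.card_coe_set_eq, Set.ncard_coe_finset, Finset.card_erase_of_mem hαT]
        omega
      rw [hm] at hlt
      have hm0 : m = 0 := by
        by_contra h0
        exact absurd hlt (not_lt.mpr (Nat.le_of_dvd (pow_pos (by omega) m) (dvd_pow_self p h0)))
      rw [hm0, pow_zero] at hm
      have : Subsingleton (MulAction.orbit (R' : Subgroup G) β) := (Nat.card_eq_one_iff_unique.mp hm).1
      exact congrArg Subtype.val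
        (this.elim ⟨(⟨r, hr⟩ : (R' : Subgroup G)) • β, MulAction.mem_orbit _ _⟩ ⟨β, MulAction.mem_orbit_self β⟩)
  -- the pointwise stabilizer of `T`
  let W : Subgroup G := ⨅ β ∈ T, MulAction.stabilizer G β
  have hRW : (R' : Subgroup G) ≤ W := le_iInf₂ fun β hβ r hr => hfix r hr β hβ
  have hTy : ∀ β ∈ T, (y : Equiv.Perm Ω) β ∈ T := by
    intro β hβ
    obtain ⟨i, hi, rfl⟩ := Finset.mem_image.mp hβ
    rw [Finset.mem_range] at hi
    rcases lt_or_eq_of_le (show i + 1 ≤ p by omega) with h | h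
    · exact Finset.mem_image.mpr ⟨i + 1, Finset.mem_range.mpr h, by rw [pow_succ']; rfl⟩
    · refine Finset.mem_image.mpr ⟨0, Finset.mem_range.mpr (by omega), ?_⟩
      have h' : (y : Equiv.Perm Ω) (((y ^ i : G) : Equiv.Perm Ω) α) = ((y ^ (i + 1) : G) : Equiv.Perm Ω) α := by
        rw [pow_succ' y i]
        rfl
      rw [h', h, hyp]
      simp
  have hnorm : y ∈ Subgroup.normalizer (W : Set G) := by
    refine Lib.SylowRatio.mem_normalizer_of_cj_eq ?_
    refine (Subgroup.eq_of_le_of_card_ge ?_ (Lib.SylowRatio.card_cj y W).le).symm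
    intro w hw
    refine Subgroup.mem_map.mpr ⟨y⁻¹ * w * y, ?_, by simp [mul_assoc]⟩
    simp only [W, Subgroup.mem_iInf, MulAction.mem_stabilizer_iff] at hw ⊢
    intro β hβ
    have h : w • (y • β) = y • β := hw (y • β) (hTy β hβ)
    rw [mul_smul, mul_smul, h, inv_smul_smul]
  have hyW : Subgroup.zpowers y ≤ W := Lib.SylowRatio.le_of_normalizes p (P := R') hRW
    ((IsPGroup.of_card (n := k) (by rw [Nat.card_zpowers, hk]) : IsPGroup p (Subgroup.zpowers g)).to_le
      (Subgroup.zpowers_le.mpr (Subgroup.npow_mem_zpowers g _))) (Subgroup.zpowers_le.mpr hnorm)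
  have hy' : y ∈ MulAction.stabilizer G α :=
    (Subgroup.mem_iInf.mp (Subgroup.mem_iInf.mp (hyW (Subgroup.mem_zpowers y)) α) hαT)
  exact hyα hy'

end Cfsg.Agent.S4170
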