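import Cfsg.Statements.S4172
import Mathlib
import Cfsg.Agent.Lib.Cores
import Cfsg.Agent.Lib.Components.GenFitting
import Cfsg.Agent.Lib.Transfer.PFrattini
import Cfsg.Agent.Lib.LocalEven.Subnormal
import Cfsg.Agent.Lib.Coprime
-- import your own Cfsg.Agent.* helpers here

set_option autoImplicit false
open Cfsg

namespace Cfsg.Agent.S4172


open Subgroup
open Cfsg.Agent.Lib
open scoped commutatorElement

section PGroup

variable {P : Type*} [Group P] [Finite P] {p : ℕ} [Fact p.Prime]

/-- In a two-generated `p`-group a normal subgroup outside the Frattini subgroup has cyclic quotient. -/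
theorem exists_sup_zpowers_eq_top (hP : IsPGroup p P) (hidx : (frattini P).index = p ^ 2)
    (A : Subgroup P) (hA : ¬ A ≤ frattini P) : ∃ y : P, A ⊔ zpowers y = ⊤ := by
  haveI : (frattini P).Normal := inferInstance
  by_cases hM : A ⊔ frattini P = ⊤
  · exact ⟨1, by rw [frattini_nongenerating hM, top_sup_eq]⟩
  obtain ⟨y, -, hy⟩ := SetLike.exists_of_lt (lt_top_iff_ne_top.mpr hM)
  refine ⟨y, frattini_nongenerating ?_⟩
  have h1 : (A ⊔ frattini P).index ∣ p ^ 2 := hidx ▸ index_dvd_of_le le_sup_right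
  have hlt : (A ⊔ frattini P).index < p ^ 2 := by
    refine hidx ▸ index_strictAnti ?_
    exact lt_of_le_of_ne le_sup_right fun h => hA (h ▸ le_sup_left)
  obtain ⟨i, hi, hi'⟩ := (Nat.dvd_prime_pow (Fact.out : p.Prime)).mp h1
  have hi1 : i = 1 := by
    rcases i with _ | _ | _ | i
    · exact absurd (index_eq_one.mp (by rw [hi', pow_zero])) hM
    · rfl
    · exact absurd hlt (by rw [hi']; exact lt_irrefl _)
    · omega
  rw [hi1, pow_one] at hi'
  rw [sup_right_comm]
  by_contra htop
  have h2 : (A ⊔ frattini P ⊔ zpowers y).index ∣ p := hi' ▸ index_dvd_of_le le_sup_left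
  rcases (Nat.dvd_prime (Fact.out : p.Prime)).mp h2 with h | h
  · exact htop (index_eq_one.mp h)
  · have hne : A ⊔ frattini P < A ⊔ frattini P ⊔ zpowers y :=
      lt_of_le_of_ne le_sup_left fun e => hy (e ▸ mem_sup_right (mem_zpowers y))
    have := index_strictAnti hne
    omega

theorem commutator_le_of_not_le_frattini (hP : IsPGroup p P) (hidx : (frattini P).index = p ^ 2)
    (A : Subgroup P) [A.Normal] (hA : ¬ A ≤ frattini P) : commutator P ≤ A := by
  obtain ⟨y, hy⟩ := exists_sup_zpowers_eq_top hP hidx A hA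
  have hcyc : ∀ q : P ⧸ A, q ∈ zpowers (y : P ⧸ A) := by
    intro q
    obtain ⟨x, rfl⟩ := QuotientGroup.mk'_surjective A q
    obtain ⟨a, ha, h, hh, rfl⟩ := mem_sup_of_normal_left.mp (hy ▸ mem_top x : x ∈ A ⊔ zpowers y)
    obtain ⟨i, rfl⟩ := mem_zpowers_iff.mp hh
    refine mem_zpowers_iff.mpr ⟨i, ?_⟩
    rw [QuotientGroup.mk'_apply, QuotientGroup.mk_mul, (QuotientGroup.eq_one_iff a).mpr ha, one_mul,
      QuotientGroup.mk_zpow]
  rw [commutator_def, commutator_le]
  intro a _ b _
  rw [← QuotientGroup.eq_one_iff]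
  show QuotientGroup.mk' A ⁅a, b⁆ = 1
  rw [map_commutatorElement, commutatorElement_eq_one_iff_mul_comm]
  obtain ⟨i, hi⟩ := mem_zpowers_iff.mp (hcyc (a : P ⧸ A))
  obtain ⟨j, hj⟩ := mem_zpowers_iff.mp (hcyc (b : P ⧸ A))
  rw [QuotientGroup.mk'_apply, QuotientGroup.mk'_apply, ← hi, ← hj, ← zpow_add, ← zpow_add, add_comm]

end PGroup

variable {G : Type*} [Group G] [Finite G] {p : ℕ} [Fact p.Prime]

/-- The image of the Frattini subgroup of a Sylow subgroup grows with the subgroup. -/
theorem frattini_map_mono (P : Sylow p G) {Q : Subgroup G} (hQ : Q ≤ (P : Subgroup G)) :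
    (frattini Q).map Q.subtype ≤ (frattini (P : Subgroup G)).map (P : Subgroup G).subtype := by
  haveI : Group.IsNilpotent (P : Subgroup G) := P.isPGroup'.isNilpotent
  refine LocalEven.frattini_map_le (p := p) (fun a ha b hb => ?_) fun a ha => ?_
  · exact ⟨_, Cores.commutator_le_frattini
      (commutator_mem_commutator (mem_top (⟨a, hQ ha⟩ : (P : Subgroup G))) (mem_top ⟨b, hQ hb⟩)), rfl⟩
  · exact ⟨_, Cores.pow_mem_frattini P.isPGroup' ⟨a, hQ ha⟩, rfl⟩

/-- Tate: a `P`-invariant subgroup meeting `P` inside the Frattini subgroup has `O^p` of order prime to `p`. -/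
theorem coprime_pResidual_of_inf_le_frattini (P : Sylow p G) {S : Subgroup G}
    (hS : (P : Subgroup G) ≤ normalizer (S : Set G))
    (h : (P : Subgroup G) ⊓ S ≤ (frattini (P : Subgroup G)).map (P : Subgroup G).subtype) :
    (Nat.card ((Cfsg.pResidual p S).map S.subtype : Subgroup G)).Coprime p := by
  set X := S ⊔ (P : Subgroup G) with hX
  set PX := P.subtype (le_sup_right : (P : Subgroup G) ≤ X) with hPX
  haveI hSn : (S.subgroupOf X).Normal :=
    normal_subgroupOf_of_le_normalizer (sup_le le_normalizer hS)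
  have hres : Cfsg.pResidual p X ≤ S.subgroupOf X := by
    have hq : IsPGroup p (X ⧸ S.subgroupOf X) := by
      refine IsPGroup.of_surjective PX.isPGroup' ((QuotientGroup.mk' (S.subgroupOf X)).comp
        (PX : Subgroup X).subtype) fun q => ?_
      obtain ⟨⟨x, hx⟩, rfl⟩ := QuotientGroup.mk'_surjective (S.subgroupOf X) q
      obtain ⟨s, hs, y, hy, rfl⟩ := Coprime.exists_mul_of_mem_sup hS hx
      refine ⟨⟨⟨y, mem_sup_right hy⟩, hy⟩, ?_⟩
      show QuotientGroup.mk' _ (⟨y, mem_sup_right hy⟩ : X) = QuotientGroup.mk' _ _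
      rw [QuotientGroup.mk'_apply, QuotientGroup.mk'_apply, QuotientGroup.eq, mem_subgroupOf]
      simpa [mul_assoc] using (le_normalizer_iff.mp hS y⁻¹ (inv_mem hy) s hs)
    have := Transfer.pResidual_le_ker hq (QuotientGroup.mk' (S.subgroupOf X))
    rwa [QuotientGroup.ker_mk'] at this
  let e : (PX : Subgroup X) ≃* (P : Subgroup G) := subgroupOfEquivOfLe le_sup_right
  have hT := Transfer.inf_pResidual_eq PX (H := (PX : Subgroup X)) le_rfl (by
    refine le_trans ?_ (le_sup_left.trans le_sup_left)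
    rintro x ⟨hxP, hxR⟩
    obtain ⟨w, hw, hwx⟩ := h ⟨hxP, hres hxR⟩
    exact ⟨e.symm w, Transfer.map_frattini_le_of_surjective e.symm.toMonoidHom e.symm.surjective
      ⟨w, hw, rfl⟩, Subtype.ext hwx⟩)
  rw [Transfer.pResidual_eq_bot PX.isPGroup', Subgroup.map_bot, inf_bot_eq,
    ← Transfer.hasNormalPComplement_iff_inf_eq_bot, Transfer.hasNormalPComplement_iff_coprime] at hT
  refine hT.coprime_dvd_left ?_
  have hle : (Cfsg.pResidual p S).map S.subtype ≤ (Cfsg.pResidual p X).map X.subtype := by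
    rw [map_le_iff_le_comap, Cfsg.pResidual, closure_le]
    intro g hg
    exact ⟨⟨g, mem_sup_left g.2⟩, subset_closure (by
      show (orderOf (⟨(g : G), mem_sup_left g.2⟩ : X)).Coprime p
      rwa [Subgroup.orderOf_mk, Subgroup.orderOf_coe]), rfl⟩
  exact (card_dvd_of_le hle).trans (card_map_dvd _ _)

/-- A normal subgroup meeting `P` inside the Frattini subgroup is trivial. -/
theorem eq_bot_of_inf_le_frattini (P : Sylow p G) (hcore : Cfsg.pPrimeCore p G = ⊥)
    (hfrat : ((frattini (P : Subgroup G)).map (P : Subgroup G).subtype).normalCore = ⊥)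
    (N : Subgroup G) [N.Normal]
    (h : (P : Subgroup G) ⊓ N ≤ (frattini (P : Subgroup G)).map (P : Subgroup G).subtype) : N = ⊥ := by
  have hR := coprime_pResidual_of_inf_le_frattini P le_normalizer_of_normal h
  haveI : (Cfsg.pResidual p N).Characteristic := Cores.characteristic_of_map_le fun φ => by
    rw [map_le_iff_le_comap, Cfsg.pResidual, closure_le]
    intro g hg
    refine subset_closure ?_
    show (orderOf (φ g)).Coprime p
    rwa [MulEquiv.orderOf_eq]
  have hb : Cfsg.pResidual p N = ⊥ := (map_eq_bot_iff_of_injective _ N.subtype_injective).mp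
    (le_bot_iff.mp (hcore ▸ Cores.le_pPrimeCore inferInstance hR))
  have hNp : IsPGroup p N := by
    refine (Transfer.isPGroup_quotient_pResidual (G := N) (p := p)).of_injective
      (QuotientGroup.mk' (Cfsg.pResidual p N)) ?_
    rw [← MonoidHom.ker_eq_bot_iff, QuotientGroup.ker_mk', hb]
  have hNP : N ≤ (P : Subgroup G) := (Cores.le_pCore inferInstance hNp).trans (Cores.pCore_le_sylow P)
  rw [← le_bot_iff, ← hfrat]
  exact (normal_le_normalCore).mpr (by rwa [inf_eq_right.mpr hNP] at h)

/-- Two disjoint `P`-invariant subgroups cannot both leave the Frattini subgroup. -/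
theorem not_two (P : Sylow p G) (hna : ¬ IsMulCommutative (P : Subgroup G))
    (hidx : (frattini (P : Subgroup G)).index = p ^ 2) (S₁ S₂ : Subgroup G)
    (h₁ : (P : Subgroup G) ≤ normalizer (S₁ : Set G)) (h₂ : (P : Subgroup G) ≤ normalizer (S₂ : Set G))
    (hdis : S₁ ⊓ S₂ = ⊥)
    (f₁ : ¬ (P : Subgroup G) ⊓ S₁ ≤ (frattini (P : Subgroup G)).map (P : Subgroup G).subtype)
    (f₂ : ¬ (P : Subgroup G) ⊓ S₂ ≤ (frattini (P : Subgroup G)).map (P : Subgroup G).subtype) : False := by
  have key : ∀ S : Subgroup G, (P : Subgroup G) ≤ normalizer (S : Set G) →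
      ¬ (P : Subgroup G) ⊓ S ≤ (frattini (P : Subgroup G)).map (P : Subgroup G).subtype →
      commutator (P : Subgroup G) ≤ S.subgroupOf (P : Subgroup G) := by
    intro S hS hf
    haveI := normal_subgroupOf_of_le_normalizer hS
    refine commutator_le_of_not_le_frattini P.isPGroup' hidx _ fun h => hf ?_
    rintro x ⟨hxP, hxS⟩
    exact ⟨⟨x, hxP⟩, h (show (⟨x, hxP⟩ : (P : Subgroup G)) ∈ S.subgroupOf _ from hxS), rfl⟩
  refine hna ⟨⟨fun a b => ?_⟩⟩
  have hc : ⁅a, b⁆ ∈ commutator (P : Subgroup G) := commutator_mem_commutator (mem_top a) (mem_top b)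
  have h3 : ((⁅a, b⁆ : (P : Subgroup G)) : G) ∈ S₁ ⊓ S₂ := ⟨key S₁ h₁ f₁ hc, key S₂ h₂ f₂ hc⟩
  rw [hdis, mem_bot] at h3
  exact commutatorElement_eq_one_iff_mul_comm.mp (Subtype.ext h3)

/-- Let p be a prime and G a finite group with a non-commutative Sylow p-subgroup P whose Frattini subgroup has index p² in P (P is generated by two elements). Suppose G has no nontrivial normal subgroup of order prime to p and the Frattini subgroup of P contains no nontrivial normal subgroup of G. Then the generalized Fitting subgroup F*(G) is the unique minimal normal subgroup of G, the image of P in G/F*(G) is cyclic, and if F*(G) is not commutative then P permutes the components of G transitively by conjugation. -/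
theorem result {G : Type*} [Group G] [Finite G] (p : ℕ) [Fact p.Prime] (P : Sylow p G) (hna : ¬ IsMulCommutative (P : Subgroup G)) (hgen : (frattini ↥(P : Subgroup G)).index = p ^ 2) (hcore : Cfsg.pPrimeCore p G = ⊥) (hfrat : ((frattini ↥(P : Subgroup G)).map (P : Subgroup G).subtype).normalCore = ⊥) [hFn : (Cfsg.generalizedFittingSubgroup G).Normal] :
    (Cfsg.generalizedFittingSubgroup G ≠ ⊥ ∧ ∀ K : Subgroup G, K.Normal → K ≠ ⊥ → Cfsg.generalizedFittingSubgroup G ≤ K) ∧
      IsCyclic ↥((P : Subgroup G).map (QuotientGroup.mk' (Cfsg.generalizedFittingSubgroup G))) ∧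
      (¬ IsMulCommutative (Cfsg.generalizedFittingSubgroup G) → ∀ K L : Subgroup G, Cfsg.IsComponent K → Cfsg.IsComponent L → ∃ x ∈ (P : Subgroup G), L = K.map (MulAut.conj x).toMonoidHom) := by
  set FS := Cfsg.generalizedFittingSubgroup G with hFS
  haveI hPfin : Finite (P : Subgroup G) := inferInstance
  have hfat : ∀ N : Subgroup G, N.Normal → N ≠ ⊥ →
      ¬ (P : Subgroup G) ⊓ N ≤ (frattini (P : Subgroup G)).map (P : Subgroup G).subtype :=
    fun N hN hne h => hne (by haveI := hN; exact eq_bot_of_inf_le_frattini P hcore hfrat N h)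
  have hnormP : ∀ N : Subgroup G, N.Normal → (P : Subgroup G) ≤ Subgroup.normalizer (N : Set G) :=
    fun N hN => by haveI := hN; exact Subgroup.le_normalizer_of_normal
  have hGnt : (⊤ : Subgroup G) ≠ ⊥ := fun h => hna ⟨⟨fun a b => by
    have h' : ∀ x : (P : Subgroup G), x = 1 := fun x =>
      Subtype.ext (Subgroup.mem_bot.mp (h ▸ Subgroup.mem_top (x : G)))
    rw [h' a, h' b]⟩⟩
  obtain ⟨N, ⟨hNn, hNne⟩, hNmin⟩ := (Set.toFinite {K : Subgroup G | K.Normal ∧ K ≠ ⊥}).exists_minimal
    ⟨⊤, inferInstance, hGnt⟩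
  haveI := hNn
  have huniq : ∀ K : Subgroup G, K.Normal → K ≠ ⊥ → N ≤ K := by
    intro K hK hKne
    by_contra hle
    haveI := hK
    have hb : N ⊓ K = ⊥ := by
      by_contra hne
      exact hle ((hNmin ⟨inferInstance, hne⟩ inf_le_left).trans inf_le_right)
    exact not_two P hna hgen N K (hnormP N hNn) (hnormP K hK) hb (hfat N hNn hNne) (hfat K hK hKne)
  have hcyc : IsCyclic ((P : Subgroup G).map (QuotientGroup.mk' FS)) ∨ ¬ N ≤ FS := by
    by_cases hle : N ≤ FS
    · left
      haveI : (N.subgroupOf (P : Subgroup G)).Normal :=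
        Subgroup.normal_subgroupOf_of_le_normalizer (hnormP N hNn)
      obtain ⟨y, hy⟩ := exists_sup_zpowers_eq_top P.isPGroup' hgen (N.subgroupOf (P : Subgroup G)) (by
        intro h
        refine hfat N hNn hNne ?_
        rintro x ⟨hxP, hxN⟩
        exact ⟨⟨x, hxP⟩, h (show (⟨x, hxP⟩ : (P : Subgroup G)) ∈ N.subgroupOf _ from hxN), rfl⟩)
      have : (P : Subgroup G).map (QuotientGroup.mk' FS) = Subgroup.zpowers ((y : G) : G ⧸ FS) := by
        refine le_antisymm ?_ (Subgroup.zpowers_le.mpr ⟨y, y.2, rfl⟩)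
        rintro _ ⟨x, hx, rfl⟩
        obtain ⟨a, ha, h, hh, he⟩ := Subgroup.mem_sup_of_normal_left.mp
          (hy ▸ Subgroup.mem_top (⟨x, hx⟩ : (P : Subgroup G)) : (⟨x, hx⟩ : (P : Subgroup G)) ∈ _ ⊔ _)
        obtain ⟨i, rfl⟩ := Subgroup.mem_zpowers_iff.mp hh
        refine Subgroup.mem_zpowers_iff.mpr ⟨i, ?_⟩
        have he' : x = (a : G) * (y : G) ^ i := by
          have := congrArg Subtype.val he
          simpa using this.symm
        rw [QuotientGroup.mk'_apply, he', QuotientGroup.mk_mul, (QuotientGroup.eq_one_iff (a : G)).mpr (hle ha),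
          one_mul, QuotientGroup.mk_zpow]
      rw [this]
      infer_instance
    · exact Or.inr hle
  have hZE : Cfsg.layer G ≠ ⊥ → Cfsg.fittingSubgroup G ⊓ Cfsg.layer G = ⊥ := by
    intro hE
    by_contra hZ
    have hNZ : N ≤ Cfsg.fittingSubgroup G ⊓ Cfsg.layer G := huniq _ inferInstance hZ
    refine hfat N hNn hNne ?_
    rintro x ⟨hxP, hxN⟩
    have hxE : x ∈ Cfsg.layer G := (hNZ hxN).2
    have hzc : (⟨x, hxE⟩ : Cfsg.layer G) ∈ Subgroup.center (Cfsg.layer G) := by
      have := hNZ hxN
      rw [Components.fitting_inf_layer] at this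
      obtain ⟨z, hz, hzx⟩ := this
      rwa [show (⟨x, hxE⟩ : Cfsg.layer G) = z from Subtype.ext hzx.symm]
    obtain ⟨Q, hQ⟩ : ∃ Q : Sylow p (Cfsg.layer G),
        (P : Subgroup G).subgroupOf (Cfsg.layer G) = Q := by
      refine ⟨Sylow.ofCard ((P : Subgroup G).subgroupOf (Cfsg.layer G)) ?_, (Sylow.coe_ofCard _ _).symm⟩
      obtain ⟨Q⟩ : Nonempty (Sylow p (Cfsg.layer G)) := inferInstance
      obtain ⟨R, hR⟩ := (Q.isPGroup'.map (Cfsg.layer G).subtype).exists_le_sylow
      obtain ⟨g, hg⟩ := MulAction.exists_smul_eq G R P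
      have hpg : IsPGroup p ((P : Subgroup G).subgroupOf (Cfsg.layer G)) := P.isPGroup'.comap_subtype
      obtain ⟨m, hm⟩ := hpg.exists_card_eq
      apply le_antisymm
      · rw [← Q.card_eq_multiplicity]
        obtain ⟨Q', hQ'⟩ := hpg.exists_le_sylow
        exact (Subgroup.card_le_of_le hQ').trans (Sylow.card_eq_multiplicity Q' ▸ Q.card_eq_multiplicity ▸ le_rfl)
      · rw [← Q.card_eq_multiplicity]
        let ψ : Q → (P : Subgroup G).subgroupOf (Cfsg.layer G) := fun q =>
          ⟨⟨g * ((q : Cfsg.layer G) : G) * g⁻¹,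
            (inferInstance : (Cfsg.layer G).Normal).conj_mem _ (q : Cfsg.layer G).2 g⟩, by
            show g * ((q : Cfsg.layer G) : G) * g⁻¹ ∈ (P : Subgroup G)
            rw [← hg, Sylow.coe_subgroup_smul]
            exact ⟨_, hR ⟨(q : Cfsg.layer G), q.2, rfl⟩, rfl⟩⟩
        exact Nat.card_le_card_of_injective ψ fun a b hab => Subtype.ext (Subtype.ext (by
          have := congrArg (fun w : (P : Subgroup G).subgroupOf (Cfsg.layer G) => ((w : Cfsg.layer G) : G)) hab
          simpa [ψ] using this))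
    have hzQ : (⟨x, hxE⟩ : Cfsg.layer G) ∈ (Q : Subgroup (Cfsg.layer G)) := hQ ▸ hxP
    haveI := Components.layer_isPerfect G
    have hmem := Transfer.mem_frattini_of_forall_hom Q.isPGroup' (x := ⟨_, hzQ⟩) fun {A} _ hA δ =>
      Transfer.hom_eq_one_of_mem_center_of_perfect Q (Group.IsPerfect.commutator_eq_top) hzc hzQ δ
    refine frattini_map_mono P (Q := (Q : Subgroup (Cfsg.layer G)).map (Cfsg.layer G).subtype) ?_ ?_
    · rw [← hQ, Subgroup.subgroupOf_map_subtype]; exact inf_le_left
    · let e := (Q : Subgroup (Cfsg.layer G)).equivMapOfInjective (Cfsg.layer G).subtype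
        (Cfsg.layer G).subtype_injective
      exact ⟨e ⟨_, hzQ⟩, Transfer.map_frattini_le_of_surjective e.toMonoidHom e.surjective
        ⟨_, hmem, rfl⟩, rfl⟩
  by_cases hE : Cfsg.layer G = ⊥
  · -- no components
    have hF : FS = Cfsg.pCore p G := by
      rw [hFS, Cfsg.generalizedFittingSubgroup, hE, bot_sup_eq]
      refine le_antisymm ?_ (Cores.pCore_le_fittingSubgroup p)
      have := Cores.fittingSubgroup_le_pCore_sup_pPrimeCore (G := G) p
      rwa [hcore, sup_bot_eq] at this
    have hCF : Subgroup.centralizer (FS : Set G) ≤ FS := Components.centralizer_genFitting_le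
    have hne : FS ≠ ⊥ := fun h => hGnt (le_bot_iff.mp (by
      rw [h, Subgroup.coe_bot] at hCF
      exact le_trans (fun g _ => Subgroup.mem_centralizer_singleton_iff.mpr (by simp)) hCF))
    have hFp : IsPGroup p FS := hF ▸ Cores.pCore_isPGroup p G
    have hFP : FS ≤ (P : Subgroup G) := hF ▸ Cores.pCore_le_sylow P
    haveI : Group.IsNilpotent FS := hFp.isNilpotent
    have hΦ : (frattini FS).map FS.subtype = ⊥ := by
      rw [← le_bot_iff, ← hfrat]
      haveI : ((frattini FS).map FS.subtype).Normal := Cores.normal_map_subtype_of_char FS _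
      exact Subgroup.normal_le_normalCore.mpr (frattini_map_mono P hFP)
    have hab : ∀ a ∈ FS, ∀ b ∈ FS, a * b = b * a := fun a ha b hb => by
      have : ((⁅(⟨a, ha⟩ : FS), ⟨b, hb⟩⁆ : FS) : G) ∈ (frattini FS).map FS.subtype :=
        ⟨_, Cores.commutator_le_frattini (Subgroup.commutator_mem_commutator (Subgroup.mem_top _) (Subgroup.mem_top _)), rfl⟩
      rw [hΦ, Subgroup.mem_bot] at this
      exact commutatorElement_eq_one_iff_mul_comm.mp this
    have hexp : ∀ a ∈ FS, a ^ p = 1 := fun a ha => by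
      have : (((⟨a, ha⟩ : FS) ^ p : FS) : G) ∈ (frattini FS).map FS.subtype :=
        ⟨_, Cores.pow_mem_frattini hFp _, rfl⟩
      rw [hΦ, Subgroup.mem_bot] at this
      exact this
    have hNFS : N ≤ FS := huniq FS hFn hne
    have hEq : FS = N := by
      refine le_antisymm ?_ hNFS
      by_contra hnot
      -- an element of `FS` outside `N` centralized by `P`
      obtain ⟨y, hy⟩ := exists_sup_zpowers_eq_top P.isPGroup' hgen (N.subgroupOf (P : Subgroup G)) (by
        intro h
        refine hfat N hNn hNne ?_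
        rintro x ⟨hxP, hxN⟩
        exact ⟨⟨x, hxP⟩, h (show (⟨x, hxP⟩ : (P : Subgroup G)) ∈ N.subgroupOf _ from hxN), rfl⟩)
      haveI : (N.subgroupOf (P : Subgroup G)).Normal :=
        Subgroup.normal_subgroupOf_of_le_normalizer (hnormP N hNn)
      have hdec : ∀ x ∈ (P : Subgroup G), ∃ a ∈ N, ∃ i : ℤ, x = a * (y : G) ^ i := by
        intro x hx
        obtain ⟨a, ha, h, hh, he⟩ := Subgroup.mem_sup_of_normal_left.mp
          (hy ▸ Subgroup.mem_top (⟨x, hx⟩ : (P : Subgroup G)) : (⟨x, hx⟩ : (P : Subgroup G)) ∈ _ ⊔ _)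
        obtain ⟨i, rfl⟩ := Subgroup.mem_zpowers_iff.mp hh
        exact ⟨a, ha, i, by simpa using (congrArg Subtype.val he).symm⟩
      obtain ⟨v, hv, hvN⟩ := SetLike.not_le_iff_exists.mp hnot
      obtain ⟨a, ha, i, hva⟩ := hdec v (hFP hv)
      set v₀ := (y : G) ^ i with hv₀
      have hv₀F : v₀ ∈ FS := by
        rw [show v₀ = a⁻¹ * v by rw [hva]; group]; exact mul_mem (inv_mem (hNFS ha)) hv
      have hv₀N : v₀ ∉ N := fun h => hvN (hva ▸ mul_mem ha h)
      have hPv₀ : ∀ x ∈ (P : Subgroup G), x * v₀ * x⁻¹ = v₀ := by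
        intro x hx
        obtain ⟨b, hb, j, rfl⟩ := hdec x hx
        rw [show b * (y : G) ^ j * v₀ * (b * (y : G) ^ j)⁻¹ = b * v₀ * b⁻¹ by rw [hv₀]; group,
          hab b (hNFS hb) v₀ hv₀F, mul_inv_cancel_right]
      -- the centralizer of `FS ⧸ N`
      let C : Subgroup G :=
        { carrier := {g | ∀ u ∈ FS, g * u * g⁻¹ * u⁻¹ ∈ N}
          one_mem' := fun u _ => by simp
          mul_mem' := fun {g h} hg hh u hu => by
            have h1 := hg _ (hFn.conj_mem u hu h)
            have h2 := hh u hu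
            rw [show g * h * u * (g * h)⁻¹ * u⁻¹ = (g * (h * u * h⁻¹) * g⁻¹ * (h * u * h⁻¹)⁻¹) * (h * u * h⁻¹ * u⁻¹) by group]
            exact mul_mem h1 h2
          inv_mem' := fun {g} hg u hu => by
            have h1 := hg _ (hFn.conj_mem u hu g⁻¹)
            simp only [inv_inv] at h1 ⊢
            rw [show g⁻¹ * u * g * u⁻¹ = (g * (g⁻¹ * u * g) * g⁻¹ * (g⁻¹ * u * g)⁻¹)⁻¹ by group]
            exact inv_mem h1 }
      haveI hCn : C.Normal := ⟨fun c hc g u hu => by
        have h1 := hc _ (by simpa using hFn.conj_mem u hu g⁻¹ : g⁻¹ * u * g ∈ FS)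
        rw [show g * c * g⁻¹ * u * (g * c * g⁻¹)⁻¹ * u⁻¹ =
          g * (c * (g⁻¹ * u * g) * c⁻¹ * (g⁻¹ * u * g)⁻¹) * g⁻¹ by group]
        exact hNn.conj_mem _ h1 g⟩
      have hPC : (P : Subgroup G) ≤ C := by
        intro x hx u hu
        obtain ⟨b, hb, j, hj⟩ := hdec u (hFP hu)
        obtain ⟨b', hb', j', rfl⟩ := hdec x hx
        subst hj
        have hyj : (y : G) ^ j ∈ FS := by
          rw [show (y : G) ^ j = b⁻¹ * (b * (y : G) ^ j) by group]; exact mul_mem (inv_mem (hNFS hb)) hu
        rw [show b' * (y : G) ^ j' * (b * (y : G) ^ j) * (b' * (y : G) ^ j')⁻¹ * (b * (y : G) ^ j)⁻¹ =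
          (b' * ((y : G) ^ j' * b * ((y : G) ^ j')⁻¹) * b'⁻¹) * ((b' * (y : G) ^ j * b'⁻¹) * ((y : G) ^ j)⁻¹) * b⁻¹ by group,
          hab b' (hNFS hb') _ hyj, mul_inv_cancel_right, mul_inv_cancel, mul_one]
        exact mul_mem (hNn.conj_mem _ (hNn.conj_mem b hb _) b') (inv_mem hb)
      -- average over the cosets of `P` in `C`
      letI : CommGroup FS := { (inferInstance : Group FS) with
        mul_comm := fun u v => Subtype.ext (hab u u.2 v v.2) }
      set P₀ := (P : Subgroup G).subgroupOf C with hP₀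
      letI : Fintype (C ⧸ P₀) := Fintype.ofFinite _
      let f : C ⧸ P₀ → FS := fun q => Quotient.liftOn' q
        (fun c => (⟨(c : G) * v₀ * (c : G)⁻¹, hFn.conj_mem _ hv₀F c⟩ : FS))
        (fun c d hcd => Subtype.ext (by
          have h := hPv₀ ((c⁻¹ * d : C) : G) (Subgroup.mem_subgroupOf.mp (QuotientGroup.leftRel_apply.mp hcd : c⁻¹ * d ∈ P₀))
          simp only [Subgroup.coe_mul, InvMemClass.coe_inv] at h
          calc (c : G) * v₀ * (c : G)⁻¹ = (c : G) * ((c : G)⁻¹ * d * v₀ * ((c : G)⁻¹ * d)⁻¹) * (c : G)⁻¹ := by rw [h]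
            _ = (d : G) * v₀ * (d : G)⁻¹ := by group))
      set w : FS := ∏ q, f q with hw
      have hwC : ∀ c : C, (c : G) * (w : G) * (c : G)⁻¹ = w := by
        intro c
        let σ : MulAut FS := MulAut.conjNormal (c : G)
        have hσ : ∀ u : FS, ((σ u : FS) : G) = (c : G) * u * (c : G)⁻¹ := fun u => MulAut.conjNormal_apply _ _
        have : σ w = w := by
          rw [hw, map_prod]
          refine Fintype.prod_equiv (MulAction.toPerm c) _ _ fun q => ?_
          induction q using Quotient.inductionOn' with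
          | h d =>
            refine Subtype.ext ?_
            show ((σ _ : FS) : G) = ((c * d : C) : G) * v₀ * ((c * d : C) : G)⁻¹
            rw [hσ]
            simp only [Subgroup.coe_mul]
            show (c : G) * ((d : G) * v₀ * (d : G)⁻¹) * (c : G)⁻¹ = _
            group
        rw [← hσ, this]
      have hwN : (w : G) ∉ N := by
        intro hwN
        haveI : (N.subgroupOf FS).Normal := hNn.subgroupOf FS
        let π := QuotientGroup.mk' (N.subgroupOf FS)
        have h1 : π w = π ⟨v₀, hv₀F⟩ ^ Nat.card (C ⧸ P₀) := by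
          rw [hw, map_prod, Nat.card_eq_fintype_card, ← Finset.card_univ, ← Finset.prod_const]
          refine Finset.prod_congr rfl fun q _ => ?_
          induction q using Quotient.inductionOn' with
          | h d =>
            rw [← mul_inv_eq_one, ← map_inv, ← map_mul]
            exact (QuotientGroup.eq_one_iff _).mpr (d.2 v₀ hv₀F)
        rw [show π w = 1 from (QuotientGroup.eq_one_iff w).mpr hwN] at h1
        have h2 : π ⟨v₀, hv₀F⟩ ^ p = 1 := by
          rw [← map_pow, show (⟨v₀, hv₀F⟩ : FS) ^ p = 1 from Subtype.ext (hexp v₀ hv₀F), map_one]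
        have h3 : (Nat.card (C ⧸ P₀)).Coprime p := by
          rw [← Subgroup.index_eq_card]
          exact ((Fact.out : p.Prime).coprime_iff_not_dvd.mpr (P.subtype hPC).not_dvd_index).symm
        exact hv₀N ((QuotientGroup.eq_one_iff (⟨v₀, hv₀F⟩ : FS)).mp (orderOf_eq_one_iff.mp
          (Nat.eq_one_of_dvd_coprimes h3 (orderOf_dvd_of_pow_eq_one h1.symm) (orderOf_dvd_of_pow_eq_one h2))))
      set W := FS ⊓ Subgroup.centralizer (C : Set G) with hW
      have hwW : (w : G) ∈ W := ⟨w.2, fun c hc => mul_inv_eq_iff_eq_mul.mp (hwC ⟨c, hc⟩)⟩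
      have hWne : W ≠ ⊥ := fun h => hwN (by
        rw [h, Subgroup.mem_bot] at hwW; rw [hwW]; exact N.one_mem)
      have hNW : N ≤ W := huniq W inferInstance hWne
      -- `W = FS`, so `C ≤ FS`
      have hFW : FS ≤ W := by
        intro u hu
        obtain ⟨b, hb, j, hj⟩ := hdec u (hFP hu)
        obtain ⟨b₀, hb₀, j₀, hj₀⟩ := hdec w (hFP w.2)
        have hq : ∀ x ∈ FS, ∃ b ∈ N, ∃ n : ℤ, x = b * (w : G) ^ n := by
          haveI : (N.subgroupOf FS).Normal := hNn.subgroupOf FS
          have hcyc' : IsCyclic (FS ⧸ N.subgroupOf FS) := by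
            let g : FS →* (P : Subgroup G) ⧸ N.subgroupOf (P : Subgroup G) :=
              (QuotientGroup.mk' _).comp (Subgroup.inclusion hFP)
            have hg : g.ker = N.subgroupOf FS := by
              ext x; exact QuotientGroup.eq_one_iff (Subgroup.inclusion hFP x)
            haveI : IsCyclic ((P : Subgroup G) ⧸ N.subgroupOf (P : Subgroup G)) := by
              refine ⟨⟨(y : (P : Subgroup G) ⧸ N.subgroupOf (P : Subgroup G)), fun q => ?_⟩⟩
              obtain ⟨⟨x, hx⟩, rfl⟩ := QuotientGroup.mk'_surjective _ q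
              obtain ⟨b, hb, i, rfl⟩ := hdec x hx
              refine Subgroup.mem_zpowers_iff.mpr ⟨i, ?_⟩
              rw [QuotientGroup.mk'_apply, ← QuotientGroup.mk_zpow, QuotientGroup.eq, Subgroup.mem_subgroupOf]
              simpa [mul_assoc] using hNn.conj_mem b hb ((y : G) ^ i)⁻¹
            exact isCyclic_of_injective ((g.range.subtype).comp ((QuotientGroup.quotientMulEquivOfEq hg.symm).trans
              (QuotientGroup.quotientKerEquivRange g)).toMonoidHom)
              (g.range.subtype_injective.comp (MulEquiv.injective _))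
          let π := QuotientGroup.mk' (N.subgroupOf FS)
          have hπw : orderOf (π w) = p := orderOf_eq_prime
            (by rw [← map_pow, show w ^ p = 1 from Subtype.ext (hexp w w.2), map_one])
            (fun h => hwN ((QuotientGroup.eq_one_iff w).mp h))
          have hcard : Nat.card (FS ⧸ N.subgroupOf FS) ≤ p := by
            obtain ⟨t, ht⟩ := hcyc'.exists_generator
            rw [← Subgroup.card_top (G := FS ⧸ N.subgroupOf FS), ← (Subgroup.eq_top_iff' _).mpr ht,
              Nat.card_zpowers]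
            obtain ⟨x, rfl⟩ := QuotientGroup.mk'_surjective _ t
            exact orderOf_le_of_pow_eq_one (Fact.out : p.Prime).pos
              (by rw [← map_pow, show x ^ p = 1 from Subtype.ext (hexp x x.2), map_one])
          have htop : Subgroup.zpowers (π w) = ⊤ := Subgroup.eq_top_of_card_eq _ (le_antisymm
            (Subgroup.card_le_card_group _) (by rwa [Nat.card_zpowers, hπw]))
          intro x hx
          obtain ⟨n, hn⟩ := Subgroup.mem_zpowers_iff.mp (htop ▸ Subgroup.mem_top (π ⟨x, hx⟩) : π ⟨x, hx⟩ ∈ Subgroup.zpowers (π w))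
          refine ⟨x * ((w : G) ^ n)⁻¹, ?_, n, by group⟩
          rw [← map_zpow, eq_comm, ← mul_inv_eq_one, ← map_inv, ← map_mul] at hn
          simpa [Subgroup.mem_subgroupOf] using (QuotientGroup.eq_one_iff (N := N.subgroupOf FS) ((⟨x, hx⟩ : FS) * (w ^ n)⁻¹)).mp hn
        obtain ⟨b', hb', n, rfl⟩ := hq u hu
        exact mul_mem (hNW hb') (zpow_mem hwW n)
      have hCF' : C ≤ FS := fun c hc => hCF (Subgroup.mem_centralizer_iff.mpr fun u hu =>
        (Subgroup.mem_centralizer_iff.mp (hFW hu).2 c hc).symm)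
      exact hna ⟨⟨fun a b => Subtype.ext (hab a (hCF' (hPC a.2)) b (hCF' (hPC b.2)))⟩⟩
    refine ⟨⟨hne, fun K hK hKne => hEq.le.trans (huniq K hK hKne)⟩, hcyc.resolve_right (fun h => h hNFS), fun hn => ?_⟩
    exact absurd ⟨⟨fun a b => Subtype.ext (hab a a.2 b b.2)⟩⟩ hn
  · -- components
    have hNE : N ≤ Cfsg.layer G := huniq _ inferInstance hE
    have hFb : Cfsg.fittingSubgroup G = ⊥ := by
      by_contra hF
      have h1 : N ≤ Cfsg.fittingSubgroup G ⊓ Cfsg.layer G := le_inf (huniq _ inferInstance hF) hNE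
      rw [hZE hE] at h1
      exact hNne (le_bot_iff.mp h1)
    have hFE : FS = Cfsg.layer G := by rw [hFS, Cfsg.generalizedFittingSubgroup, hFb, sup_bot_eq]
    have hZbot : ∀ x ∈ Cfsg.layer G, (∀ y ∈ Cfsg.layer G, y * x = x * y) → x = 1 := by
      intro x hx hc
      have h1 : x ∈ Cfsg.fittingSubgroup G ⊓ Cfsg.layer G := by
        rw [Components.fitting_inf_layer, Components.mem_map_center]; exact ⟨hx, hc⟩
      rwa [hZE hE, Subgroup.mem_bot] at h1
    have hEN : Cfsg.layer G ≤ N := by
      rw [Components.layer_le_iff]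
      intro K hK
      by_contra hKN
      set E₂ := sSup {L | Cfsg.IsComponent L ∧ ¬ L ≤ N} with hE₂
      haveI : E₂.Normal := Components.sSup_normal_of_conj fun g L hL => ⟨(Components.IsComponent.map_conj hL.1) g, fun h => hL.2 (by
        intro l hl
        have := hNn.conj_mem _ (h ⟨l, hl, rfl⟩) g⁻¹
        simpa [mul_assoc] using this)⟩
      have hne2 : E₂ ≠ ⊥ := fun h => (Components.IsComponent.ne_bot hK) (le_bot_iff.mp (h ▸ le_sSup ⟨hK, hKN⟩))
      have hcent : ⁅N, E₂⁆ = ⊥ := Components.commutator_sSup_eq_bot fun L hL => by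
        rw [Subgroup.commutator_comm]
        exact ((Components.IsComponent.le_or_commutator_eq_bot hL.1) hNn.isSubnormal).resolve_left hL.2
      have hNab : Group.IsNilpotent N := Components.isNilpotent_of_isMulCommutative ⟨⟨fun a b => Subtype.ext
        (Components.commute_of_commutator_eq_bot hcent a.2 (huniq E₂ inferInstance hne2 b.2))⟩⟩
      have : N ≤ Cfsg.fittingSubgroup G := Components.le_fittingSubgroup hNn hNab
      exact hNne (le_bot_iff.mp (hFb ▸ this))
    have hFN : FS = N := hFE.trans (le_antisymm hEN hNE)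
    refine ⟨⟨fun h => hNne (hFN.symm.trans h), fun K hK hKne => hFN.le.trans (huniq K hK hKne)⟩,
      hcyc.resolve_right (fun h => h hFN.ge), fun _ K L hK hL => ?_⟩
    by_contra hno
    push_neg at hno
    let O : Subgroup G → Prop := fun M => ∃ x ∈ (P : Subgroup G), M = K.map (MulAut.conj x).toMonoidHom
    set S₁ := sSup {M | Cfsg.IsComponent M ∧ O M} with hS₁
    set S₂ := sSup {M | Cfsg.IsComponent M ∧ ¬ O M} with hS₂
    have hcomp : ∀ x g : G, ∀ M : Subgroup G, (M.map (MulAut.conj g).toMonoidHom).map (MulAut.conj x).toMonoidHom =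
        M.map (MulAut.conj (x * g)).toMonoidHom := fun x g M => by
      rw [Subgroup.map_map]; congr 1; ext u; simp [mul_assoc]
    have hOinv : ∀ x ∈ (P : Subgroup G), ∀ M, O M → O (M.map (MulAut.conj x).toMonoidHom) := by
      rintro x hx M ⟨g, hg, rfl⟩
      exact ⟨x * g, mul_mem hx hg, hcomp x g K⟩
    have hPnorm : ∀ q : Subgroup G → Prop, (∀ x ∈ (P : Subgroup G), ∀ M, q M → q (M.map (MulAut.conj x).toMonoidHom)) →
        (P : Subgroup G) ≤ Subgroup.normalizer ((sSup {M | Cfsg.IsComponent M ∧ q M} : Subgroup G) : Set G) := by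
      intro q hq
      rw [Subgroup.le_normalizer_iff]
      intro x hx u hu
      have h1 : (sSup {M | Cfsg.IsComponent M ∧ q M}).map (MulAut.conj x).toMonoidHom ≤
          sSup {M | Cfsg.IsComponent M ∧ q M} := by
        rw [Subgroup.map_le_iff_le_comap]
        refine sSup_le fun M hM => ?_
        rw [← Subgroup.map_le_iff_le_comap]
        exact le_sSup (a := M.map (MulAut.conj x).toMonoidHom) ⟨(Components.IsComponent.map_conj hM.1) x, hq x hx M hM.2⟩
      exact h1 ⟨u, hu, rfl⟩
    have hP1 := hPnorm O hOinv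
    have hP2 := hPnorm (fun M => ¬ O M) fun x hx M hM hM' => hM (by
      have := hOinv x⁻¹ (inv_mem hx) _ hM'
      rwa [hcomp, inv_mul_cancel, show M.map (MulAut.conj (1 : G)).toMonoidHom = M by
        ext u; simp [Subgroup.mem_map]] at this)
    have hKS : K ≤ S₁ := le_sSup ⟨hK, 1, one_mem _, by ext u; simp [Subgroup.mem_map]⟩
    have hLS : L ≤ S₂ := le_sSup ⟨hL, fun ⟨x, hx, h⟩ => hno x hx h⟩
    have hcen : ⁅S₁, S₂⁆ = ⊥ := Components.commutator_sSup_eq_bot fun M hM => by
      rw [Subgroup.commutator_comm]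
      refine Components.commutator_sSup_eq_bot fun M' hM' => ?_
      exact (Components.IsComponent.commutator_eq_bot_of_ne hM.1) hM'.1 fun h => hM.2 (h ▸ hM'.2)
    have hS1E : S₁ ≤ Cfsg.layer G := sSup_le fun M hM => (Components.IsComponent.le_layer hM.1)
    have hS2E : S₂ ≤ Cfsg.layer G := sSup_le fun M hM => (Components.IsComponent.le_layer hM.1)
    have hdis : S₁ ⊓ S₂ = ⊥ := by
      rw [eq_bot_iff]
      intro z hz
      refine Subgroup.mem_bot.mpr (hZbot z (hS1E hz.1) ?_)
      have hle : Cfsg.layer G ≤ Subgroup.centralizer ({z} : Set G) := by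
        rw [Components.layer_le_iff]
        intro M hM m hm
        refine Subgroup.mem_centralizer_singleton_iff.mpr ?_
        by_cases hOM : O M
        · exact Components.commute_of_commutator_eq_bot hcen ((le_sSup ⟨hM, hOM⟩ : M ≤ S₁) hm) hz.2
        · exact (Components.commute_of_commutator_eq_bot hcen hz.1 ((le_sSup ⟨hM, hOM⟩ : M ≤ S₂) hm)).symm
      exact fun y hy => Subgroup.mem_centralizer_singleton_iff.mp (hle hy)
    have hfatS : ∀ q : Subgroup G → Prop,
        (P : Subgroup G) ≤ Subgroup.normalizer ((sSup {M | Cfsg.IsComponent M ∧ q M} : Subgroup G) : Set G) →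
        sSup {M | Cfsg.IsComponent M ∧ q M} ≠ ⊥ →
        ¬ (P : Subgroup G) ⊓ sSup {M | Cfsg.IsComponent M ∧ q M} ≤
          (frattini (P : Subgroup G)).map (P : Subgroup G).subtype := by
      intro q hq hne h
      set S := sSup {M | Cfsg.IsComponent M ∧ q M} with hS
      have hperf : ⁅S, S⁆ = S := Components.commutator_sSup_self fun M hM => (Components.IsComponent.commutator_self hM.1)
      haveI : Group.IsPerfect S := Subgroup.isPerfect_iff.mpr hperf
      have htop : Cfsg.pResidual p S = ⊤ := by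
        haveI : (Cfsg.pResidual p S).Normal := by
          haveI : (Cfsg.pResidual p S).Characteristic := Cores.characteristic_of_map_le fun φ => by
            rw [Subgroup.map_le_iff_le_comap, Cfsg.pResidual, Subgroup.closure_le]
            intro g hg
            refine Subgroup.subset_closure ?_
            show (orderOf (φ g)).Coprime p
            rwa [MulEquiv.orderOf_eq]
          infer_instance
        by_contra hne'
        have hq' : IsPGroup p (S ⧸ Cfsg.pResidual p S) := Transfer.isPGroup_quotient_pResidual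
        haveI : Group.IsPerfect (S ⧸ Cfsg.pResidual p S) :=
          Group.IsPerfect.ofSurjective (QuotientGroup.mk'_surjective _)
        have := Components.subsingleton_of_perfect_solvable (X := S ⧸ Cfsg.pResidual p S)
          (by haveI := hq'.isNilpotent; infer_instance)
        exact hne' (QuotientGroup.subsingleton_iff.mp this)
      have hc := coprime_pResidual_of_inf_le_frattini P hq h
      rw [htop, ← MonoidHom.range_eq_map, Subgroup.range_subtype] at hc
      haveI : (S.subgroupOf (Cfsg.layer G)).Normal := Subgroup.normal_subgroupOf_of_le_normalizer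
        (Components.layer_le_normalizer_sSup q)
      have hSle : S ≤ Cfsg.layer G := sSup_le fun M hM => (Components.IsComponent.le_layer hM.1)
      have h1 : S.subgroupOf (Cfsg.layer G) ≤ Cfsg.pPrimeCore p (Cfsg.layer G) :=
        Cores.le_pPrimeCore inferInstance (by rwa [Nat.card_congr (Subgroup.subgroupOfEquivOfLe hSle).toEquiv])
      refine hne (le_bot_iff.mp ?_)
      rw [← hcore]
      intro s hs
      exact Cores.map_subtype_pPrimeCore_le _ ⟨⟨s, hSle hs⟩, h1 hs, rfl⟩
    exact not_two P hna hgen S₁ S₂ hP1 hP2 hdis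
      (hfatS O hP1 fun h => (Components.IsComponent.ne_bot hK) (le_bot_iff.mp (h ▸ hKS)))
      (hfatS (fun M => ¬ O M) hP2 fun h => (Components.IsComponent.ne_bot hL) (le_bot_iff.mp (h ▸ hLS)))

end Cfsg.Agent.S4172
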