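import Cfsg.Statements.S4177
import Mathlib.RepresentationTheory.Invariants
import Mathlib.GroupTheory.Index
import Mathlib.LinearAlgebra.Dimension.Finite

set_option autoImplicit false
open Cfsg

namespace Cfsg.Agent.S4177

/-- Let k be a field whose characteristic does not divide the order of the finite group H (for instance a field of characteristic zero), and ρ a k-linear representation of H on V. Let a be a vector whose H-orbit spans V. Then the space of H-fixed vectors has dimension at most 1, and every vector b whose H-orbit has size coprime to the size of the orbit of a is fixed by H. -/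
theorem result {k V H : Type*} [Field k] [AddCommGroup V] [Module k V] [Group H] [Finite H]
    (hchar : ¬ ringChar k ∣ Nat.card H) (ρ : Representation k H V) (a : V)
    (hspan : Submodule.span k {u : V | ∃ h : H, ρ h a = u} = ⊤) :
    Module.finrank k ρ.invariants ≤ 1 ∧
    ∀ b : V, (Nat.card {u : V | ∃ h : H, ρ h a = u}).Coprime (Nat.card {u : V | ∃ h : H, ρ h b = u}) → ∀ h : H, ρ h b = b := by
  classical
  have := Fintype.ofFinite H
  have hk : ∀ S : Subgroup H, (Nat.card S : k) ≠ 0 := by
    intro S h
    exact hchar (((ringChar.spec k _).mp h).trans S.card_subgroup_dvd_card)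
  set n : Module.End k V := ∑ h : H, ρ h with hn
  have hn_inv : ∀ v ∈ ρ.invariants, n v = (Nat.card H : k) • v := by
    intro v hv
    rw [hn, LinearMap.sum_apply, Finset.sum_congr rfl (fun h _ => hv h), Finset.sum_const,
      Finset.card_univ, ← Nat.card_eq_fintype_card, Nat.cast_smul_eq_nsmul]
  have hn_orbit : ∀ h : H, n (ρ h a) = n a := by
    intro h
    simp only [hn, LinearMap.sum_apply, ← Module.End.mul_apply, ← map_mul]
    exact Fintype.sum_equiv (Equiv.mulRight h) _ _ fun g => rfl
  have hHk : (Nat.card H : k) ≠ 0 := by simpa using hk ⊤
  have hle : ρ.invariants ≤ Submodule.span k {n a} := by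
    intro v hv
    have h1 : n v ∈ Submodule.span k {n a} := by
      have hm : Submodule.map n (Submodule.span k {u : V | ∃ h : H, ρ h a = u}) ≤
          Submodule.span k {n a} := by
        rw [Submodule.map_span, Submodule.span_le]
        rintro _ ⟨_, ⟨h, rfl⟩, rfl⟩
        rw [hn_orbit h]
        exact Submodule.mem_span_singleton_self _
      exact hm ⟨v, by rw [hspan]; trivial, rfl⟩
    rw [hn_inv v hv] at h1
    have h2 := Submodule.smul_mem _ (Nat.card H : k)⁻¹ h1
    rwa [smul_smul, inv_mul_cancel₀ hHk, one_smul] at h2
  refine ⟨?_, ?_⟩
  · refine (Submodule.finrank_mono hle).trans ?_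
    exact (finrank_span_le_card ({n a} : Set V)).trans (by simp)
  · intro b hcop
    let stab : V → Subgroup H := fun c =>
      { carrier := {h | ρ h c = c}
        one_mem' := by simp
        mul_mem' := fun {x y} (hx : ρ x c = c) (hy : ρ y c = c) => by
          show ρ (x * y) c = c
          rw [map_mul, Module.End.mul_apply, hy, hx]
        inv_mem' := fun {x} (hx : ρ x c = c) => by
          show ρ x⁻¹ c = c
          conv_lhs => rw [← hx]
          exact Representation.inv_self_apply ρ x c }
    have hmk : ∀ (c : V) (x y : H), ((x : H) : H ⧸ stab c) = (y : H ⧸ stab c) ↔ ρ x c = ρ y c := by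
      intro c x y
      rw [QuotientGroup.eq]
      constructor
      · intro h
        have h' : ρ (x⁻¹ * y) c = c := h
        conv_lhs => rw [← h', ← Module.End.mul_apply, ← map_mul, mul_inv_cancel_left]
      · intro h
        show ρ (x⁻¹ * y) c = c
        rw [map_mul, Module.End.mul_apply, ← h, Representation.inv_self_apply]
    have hcardOrb : ∀ c : V, Nat.card {u : V | ∃ h : H, ρ h c = u} = (stab c).index := by
      intro c
      refine (Nat.card_congr (Equiv.ofBijective
        (fun q : H ⧸ stab c => (⟨Quotient.liftOn' q (fun h => ρ h c)
          (fun x y hxy => (hmk c x y).mp (Quotient.sound' hxy)), by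
            induction q using Quotient.inductionOn' with
            | h x => exact ⟨x, rfl⟩⟩ : {u : V | ∃ h : H, ρ h c = u})) ⟨?_, ?_⟩)).symm
      · intro q r
        induction q using Quotient.inductionOn' with
        | h x =>
          induction r using Quotient.inductionOn' with
          | h y => exact fun h => (hmk c x y).mpr (congrArg Subtype.val h)
      · rintro ⟨u, x, rfl⟩
        exact ⟨(x : H ⧸ stab c), rfl⟩
    rw [hcardOrb, hcardOrb] at hcop
    set A := stab a with hA
    set B := stab b with hB
    -- `B` is transitive on the orbit of `a`
    have hrel : (A ⊓ B).relIndex B = A.index := by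
      refine le_antisymm ?_ ?_
      · rw [Subgroup.inf_relIndex_right]
        exact Nat.le_of_dvd (Nat.pos_of_ne_zero Subgroup.index_ne_zero_of_finite)
          (by
            have h1 : (A ⊓ B).relIndex B * B.index = (A ⊓ B).index :=
              Subgroup.relIndex_mul_index inf_le_right
            have h2 : (A ⊓ B).index ≤ A.index * B.index := Subgroup.index_inf_le
            have h3 : A.index ∣ (A ⊓ B).relIndex B * B.index := h1 ▸ Subgroup.index_dvd_of_le inf_le_left
            have h4 := hcop.dvd_of_dvd_mul_right h3
            rw [Subgroup.inf_relIndex_right] at h4 h1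
            have h5 : A.relIndex B ≤ A.index := by
              by_contra hlt
              push Not at hlt
              have := Nat.mul_lt_mul_of_pos_right hlt (Nat.pos_of_ne_zero (Subgroup.index_ne_zero_of_finite (H := B)))
              omega
            have h6 := Nat.le_of_dvd (Nat.pos_of_ne_zero Subgroup.index_ne_zero_of_finite) h4
            rw [le_antisymm h5 h6])
      · have h1 : (A ⊓ B).relIndex B * B.index = (A ⊓ B).index :=
          Subgroup.relIndex_mul_index inf_le_right
        have h3 : A.index ∣ (A ⊓ B).relIndex B * B.index := h1 ▸ Subgroup.index_dvd_of_le inf_le_left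
        exact Nat.le_of_dvd (Nat.pos_of_ne_zero Subgroup.index_ne_zero_of_finite)
          (hcop.dvd_of_dvd_mul_right h3)
    have htrans : ∀ h : H, ∃ y ∈ B, ρ y a = ρ h a := by
      intro h
      let f : B ⧸ (A.subgroupOf B) → H ⧸ A :=
        Quotient.map' (fun y : B => (y : H)) (fun x y hxy => by
          rw [QuotientGroup.leftRel_apply] at hxy ⊢
          exact hxy)
      have hf : Function.Injective f := by
        intro q r
        induction q using Quotient.inductionOn' with
        | h x =>
          induction r using Quotient.inductionOn' with
          | h y =>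
            intro hxy
            have := QuotientGroup.eq.mp hxy
            exact QuotientGroup.eq.mpr this
      have hbij : Function.Bijective f := (Nat.bijective_iff_injective_and_card f).mpr
        ⟨hf, by rw [Subgroup.inf_relIndex_right] at hrel; exact hrel⟩
      obtain ⟨q, hq⟩ := hbij.2 (h : H ⧸ A)
      induction q using Quotient.inductionOn' with
      | h y => exact ⟨y, y.2, (hmk a (y : H) h).mp hq⟩
    set m : Module.End k V := ∑ y : B, ρ (y : H) with hm
    have hm_orbit : ∀ h : H, m (ρ h a) = m a := by
      intro h
      obtain ⟨y, hy, hya⟩ := htrans h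
      rw [← hya]
      simp only [hm, LinearMap.sum_apply, ← Module.End.mul_apply, ← map_mul]
      exact Fintype.sum_equiv (Equiv.mulRight ⟨y, hy⟩) _ _ fun g => rfl
    have hmb : m b = (Nat.card B : k) • b := by
      have : ∀ y : B, ρ (y : H) b = b := fun y => y.2
      simp [hm, LinearMap.sum_apply, this, Finset.card_univ, Nat.card_eq_fintype_card,
        ← Nat.cast_smul_eq_nsmul k]
    obtain ⟨c, hc⟩ : ∃ c : k, c • m a = m b := by
      have hle2 : Submodule.map m (Submodule.span k {u : V | ∃ h : H, ρ h a = u}) ≤
          Submodule.span k {m a} := by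
        rw [Submodule.map_span, Submodule.span_le]
        rintro _ ⟨_, ⟨h, rfl⟩, rfl⟩
        rw [hm_orbit h]
        exact Submodule.mem_span_singleton_self _
      exact Submodule.mem_span_singleton.mp (hle2 ⟨b, by rw [hspan]; trivial, rfl⟩)
    have hmn : (Nat.card H : k) • m a = (Nat.card B : k) • n a := by
      have h1 : m (n a) = (Nat.card H : k) • m a := by
        simp [hn, LinearMap.sum_apply, hm_orbit, Finset.card_univ, Nat.card_eq_fintype_card,
          ← Nat.cast_smul_eq_nsmul k]
      rw [← h1]
      have h2 : ∀ y : B, ρ (y : H) (n a) = n a := fun y => by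
        simp only [hn, LinearMap.sum_apply, map_sum, ← Module.End.mul_apply, ← map_mul]
        exact Fintype.sum_equiv (Equiv.mulLeft (y : H)) _ _ fun g => rfl
      simp [hm, LinearMap.sum_apply, h2, Finset.card_univ, Nat.card_eq_fintype_card,
        ← Nat.cast_smul_eq_nsmul k]
    intro h
    have hna : ρ h (n a) = n a := by
      simp only [hn, LinearMap.sum_apply, map_sum, ← Module.End.mul_apply, ← map_mul]
      exact Fintype.sum_equiv (Equiv.mulLeft h) _ _ fun g => rfl
    have hma : ρ h (m a) = m a := by
      apply smul_right_injective V hHk
      simp only [← map_smul, hmn]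
      rw [map_smul, map_smul, hna]

    apply smul_right_injective V (hk B)
    simp only
    rw [← map_smul, ← hmb, ← hc, map_smul, hma]

end Cfsg.Agent.S4177
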