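import Cfsg.Statements.S4178
import Mathlib.LinearAlgebra.Dimension.Finite
import Mathlib.FieldTheory.Finiteness
import Mathlib.LinearAlgebra.FiniteDimensional.Basic
import Mathlib.Analysis.Real.Sqrt

set_option autoImplicit false
open Cfsg

namespace Cfsg.Agent.S4178

theorem index_le_of_inj {G W : Type*} [Group G] [Finite W] (R : Subgroup G) (f : G ⧸ R → W)
    (hf : Function.Injective f) (w₀ : W) (hw : ∀ q, f q ≠ w₀) : R.index ≤ Nat.card W - 1 := by
  classical
  have := Fintype.ofFinite W
  have h := Nat.card_le_card_of_injective (fun q => (⟨f q, hw q⟩ : {w : W // w ≠ w₀}))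
    (fun a b h => hf (congrArg Subtype.val h))
  rwa [Nat.card_eq_fintype_card (α := {w : W // w ≠ w₀}), Fintype.card_subtype_compl,
    Fintype.card_subtype_eq, ← Nat.card_eq_fintype_card] at h

/-- Let F be a finite field with q elements, V a non-zero finite-dimensional F-space of dimension d, H a group of invertible linear maps of V, and R the subgroup of H generated by the elements of H that fix some non-zero vector (have eigenvalue 1). Then the index of R in H is at most q^d − 1; and if H leaves invariant some proper non-zero subspace, the index is at most q^(d/2) − 1. -/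
theorem result {F V : Type*} [Field F] [Fintype F] [AddCommGroup V] [Module F V] [FiniteDimensional F V] [Nontrivial V]
    (H : Subgroup (V ≃ₗ[F] V)) :
    (Subgroup.closure {h : ↥H | ∃ v : V, v ≠ 0 ∧ (h : V ≃ₗ[F] V) v = v}).index ≤ Fintype.card F ^ Module.finrank F V - 1 ∧
    ((∃ W : Submodule F V, W ≠ ⊥ ∧ W ≠ ⊤ ∧ ∀ h ∈ H, ∀ w ∈ W, h w ∈ W) →
      ((Subgroup.closure {h : ↥H | ∃ v : V, v ≠ 0 ∧ (h : V ≃ₗ[F] V) v = v}).index : ℝ) ≤ Real.sqrt ((Fintype.card F : ℝ) ^ Module.finrank F V) - 1) := by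
  classical
  have hVfin : Finite V := Module.finite_of_finite F
  have hcardq : ∀ (W : Type _) [AddCommGroup W] [Module F W] [FiniteDimensional F W],
      Nat.card W = Fintype.card F ^ Module.finrank F W := by
    intro W _ _ _
    rw [← Nat.card_eq_fintype_card]
    exact Module.natCard_eq_pow_finrank
  set S : Set ↥H := {h : ↥H | ∃ v : V, v ≠ 0 ∧ (h : V ≃ₗ[F] V) v = v} with hS
  set R := Subgroup.closure S with hR
  have hmem : ∀ (c d : ↥H) (v : V), v ≠ 0 → (c : V ≃ₗ[F] V) v = (d : V ≃ₗ[F] V) v → d⁻¹ * c ∈ R := by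
    intro c d v hv hcd
    refine Subgroup.subset_closure ⟨v, hv, ?_⟩
    simp [LinearEquiv.mul_apply, hcd]
  have h1 : R.index ≤ Nat.card V - 1 := by
    obtain ⟨v₀, hv₀⟩ := exists_ne (0 : V)
    refine index_le_of_inj R (fun q => (q.out : V ≃ₗ[F] V) v₀) (fun q r h => ?_) 0
      (fun q => fun h => hv₀ (by simpa using h))
    have := hmem _ _ v₀ hv₀ h
    rw [← QuotientGroup.out_eq' q, ← QuotientGroup.out_eq' r]
    exact (QuotientGroup.eq.mpr this).symm
  refine ⟨by rwa [hcardq V] at h1, ?_⟩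
  rintro ⟨W, hW0, hW1, hWinv⟩
  have hA : R.index ≤ Nat.card W - 1 := by
    obtain ⟨w₀, hw₀, hw₀0⟩ := (Submodule.ne_bot_iff W).mp hW0
    refine index_le_of_inj R (fun q => (⟨(q.out : V ≃ₗ[F] V) w₀, hWinv _ q.out.2 _ hw₀⟩ : W))
      (fun q r h => ?_) 0 (fun q => fun h => hw₀0 (by simpa [Subtype.ext_iff] using h))
    have := hmem _ _ w₀ hw₀0 (congrArg Subtype.val h)
    rw [← QuotientGroup.out_eq' q, ← QuotientGroup.out_eq' r]
    exact (QuotientGroup.eq.mpr this).symm
  have : Finite (V ⧸ W) := Quotient.finite _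
  have hB : R.index ≤ Nat.card (V ⧸ W) - 1 := by
    obtain ⟨v₀, hv₀⟩ : ∃ v, v ∉ W := by
      by_contra h
      push Not at h
      exact hW1 (eq_top_iff.mpr fun v _ => h v)
    refine index_le_of_inj R (fun q => Submodule.Quotient.mk ((q.out : V ≃ₗ[F] V) v₀))
      (fun q r h => ?_) 0 (fun q h => hv₀ ?_)
    · rw [← QuotientGroup.out_eq' q, ← QuotientGroup.out_eq' r]
      refine (QuotientGroup.eq.mpr ?_).symm
      set g : ↥H := r.out⁻¹ * q.out with hg
      by_contra hgR
      have hfix : ∀ v : V, (g : V ≃ₗ[F] V) v = v → v = 0 := fun v hv => by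
        by_contra h0
        exact hgR (Subgroup.subset_closure ⟨v, h0, hv⟩)
      have hd : (g : V ≃ₗ[F] V) v₀ - v₀ ∈ W := by
        have h' := hWinv _ r.out⁻¹.2 _ ((Submodule.Quotient.eq W).mp h)
        simpa [hg, map_sub, LinearEquiv.mul_apply] using h'
      let e : W → W := fun w => ⟨(g : V ≃ₗ[F] V) w - w, W.sub_mem (hWinv _ g.2 _ w.2) w.2⟩
      have he : Function.Injective e := by
        intro a b hab
        have hab' : (g : V ≃ₗ[F] V) a - a = (g : V ≃ₗ[F] V) b - b := congrArg Subtype.val hab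
        refine Subtype.ext (sub_eq_zero.mp (hfix _ ?_))
        rw [map_sub, ← sub_eq_zero]
        rw [← sub_eq_zero] at hab'
        rw [← hab']; abel
      obtain ⟨w, hw⟩ := Finite.surjective_of_injective he ⟨_, hd⟩
      have hw' : (g : V ≃ₗ[F] V) w - w = (g : V ≃ₗ[F] V) v₀ - v₀ := congrArg Subtype.val hw
      refine hv₀ ?_
      have : v₀ - (w : V) = 0 := hfix _ (by
        rw [map_sub, ← sub_eq_zero]
        rw [← sub_eq_zero] at hw'
        have h2 : (g : V ≃ₗ[F] V) v₀ - (g : V ≃ₗ[F] V) w - (v₀ - w) =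
            -((g : V ≃ₗ[F] V) w - w - ((g : V ≃ₗ[F] V) v₀ - v₀)) := by abel
        rw [h2, hw', neg_zero])
      rw [sub_eq_zero.mp this]
      exact w.2
    · have h' := hWinv _ q.out⁻¹.2 _ ((Submodule.Quotient.mk_eq_zero W).mp h)
      simpa using h'
  have hsum := Submodule.finrank_quotient_add_finrank W
  have hq : 1 ≤ Fintype.card F := Fintype.card_pos
  rw [hcardq W] at hA
  rw [hcardq (V ⧸ W)] at hB
  have hsq : (R.index + 1) ^ 2 ≤ Fintype.card F ^ Module.finrank F V := by
    have e1 : R.index + 1 ≤ Fintype.card F ^ Module.finrank F W := by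
      have := Nat.one_le_pow (Module.finrank F W) _ hq; omega
    have e2 : R.index + 1 ≤ Fintype.card F ^ Module.finrank F (V ⧸ W) := by
      have := Nat.one_le_pow (Module.finrank F (V ⧸ W)) _ hq; omega
    rw [sq, ← hsum, pow_add]
    exact Nat.mul_le_mul e2 e1
  have : ((R.index : ℝ) + 1) ≤ Real.sqrt ((Fintype.card F : ℝ) ^ Module.finrank F V) := by
    rw [Real.le_sqrt (by positivity) (by positivity)]
    exact_mod_cast hsq
  linarith

end Cfsg.Agent.S4178
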