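import Cfsg.Statements.S4181
import Cfsg.Agent.Lib.SylowCounting.SylowRatio

set_option autoImplicit false
open Cfsg

namespace Cfsg.Agent.S4181

/-- Let p be a prime and G a finite group generated by its elements of p-power order, and let H be a proper subgroup of G containing a Sylow p-subgroup of G. Then 2p − 1 times the number of Sylow p-subgroups of H is at most p − 1 times the number of Sylow p-subgroups of G. -/
theorem result {G : Type*} [Group G] [Finite G] (p : ℕ) [Fact p.Prime] (hgen : Subgroup.closure {g : G | ∃ k : ℕ, orderOf g = p ^ k} = ⊤)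
    (H : Subgroup G) (hH : H ≠ ⊤) (P : Sylow p G) (hP : (P : Subgroup G) ≤ H) :
    (2 * p - 1) * Nat.card (Sylow p ↥H) ≤ (p - 1) * Nat.card (Sylow p G) := by
  classical
  have hg : ∀ (p' : ℕ) [Fact p'.Prime], Lib.SylowRatio.cl p' (⊤ : Subgroup G) =
      Subgroup.closure {g : G | ∃ k : ℕ, orderOf g = p' ^ k} := fun p' _ => Lib.SylowRatio.cl_top_eq_closure
  have htop : Lib.SylowRatio.cl p (⊤ : Subgroup G) = ⊤ := (hg p).trans hgen
  have h := Lib.SylowRatio.good (p := p) (⊤ : Subgroup G) htop H le_top
    fun h => hH (top_le_iff.mp (h ▸ Lib.SylowRatio.cl_le p H))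
  rw [Lib.SylowRatio.nu_top, Lib.SylowRatio.nu_eq_card_sylow hP] at h
  have h1 : 1 ≤ p := (Fact.out : p.Prime).one_le
  zify [h1, show 1 ≤ 2 * p by omega]
  linarith

end Cfsg.Agent.S4181
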