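import Cfsg.Statements.S4182
import Mathlib

set_option autoImplicit false
open Cfsg

namespace Cfsg.Agent.S4182

open scoped Pointwise

/-- The `p`-elements of a subgroup. -/
def pSet {G : Type*} [Group G] (p : ℕ) (H : Subgroup G) : Set G :=
  {g | (∃ k : ℕ, orderOf g = p ^ k) ∧ g ∈ H}

theorem closure_pSet {G : Type*} [Group G] {p : ℕ} (H : Subgroup G) :
    Subgroup.closure (pSet p (Subgroup.closure (pSet p H))) = Subgroup.closure (pSet p H) := by
  refine le_antisymm ((Subgroup.closure_le _).2 fun g hg => hg.2) ((Subgroup.closure_le _).2 ?_)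
  exact fun g hg => Subgroup.subset_closure ⟨hg.1, Subgroup.subset_closure hg⟩

theorem closure_pSet_of_isPGroup {G : Type*} [Group G] {p : ℕ} [Fact p.Prime] {H : Subgroup G}
    (h : IsPGroup p H) : Subgroup.closure (pSet p H) = H := by
  refine le_antisymm ((Subgroup.closure_le _).2 fun g hg => hg.2) fun g hg => ?_
  obtain ⟨k, hk⟩ := IsPGroup.iff_orderOf.1 h ⟨g, hg⟩
  exact Subgroup.subset_closure ⟨⟨k, by rwa [Subgroup.orderOf_mk] at hk⟩, hg⟩

theorem closure_pSet_zpowers {G : Type*} [Group G] {p : ℕ} {z : G} (hz : ∃ k : ℕ, orderOf z = p ^ k) :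
    Subgroup.closure (pSet p (Subgroup.zpowers z)) = Subgroup.zpowers z :=
  le_antisymm ((Subgroup.closure_le _).2 fun _ hg => hg.2)
    (Subgroup.zpowers_le.2 (Subgroup.subset_closure ⟨hz, Subgroup.mem_zpowers z⟩))

theorem conj_smul_eq_self {G : Type*} [Group G] {H : Subgroup G} {z : G} (hz : z ∈ H) :
    MulAut.conj z • H = H := Subgroup.conj_smul_eq_self_of_mem hz

theorem smul_lt {G : Type*} [Group G] {H L : Subgroup G} {z : G} (_hz : z ∈ L) (h : H < L) :
    MulAut.conj z • H < MulAut.conj z • L :=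
  lt_of_le_of_ne (Subgroup.pointwise_smul_le_pointwise_smul_iff.2 h.le)
    fun e => h.ne (smul_left_cancel _ e)

theorem closure_pSet_smul {G : Type*} [Group G] {p : ℕ} (z : G) {H : Subgroup G}
    (h : Subgroup.closure (pSet p H) = H) :
    Subgroup.closure (pSet p (MulAut.conj z • H)) = MulAut.conj z • H := by
  refine le_antisymm ((Subgroup.closure_le _).2 fun _ hg => hg.2) ?_
  conv_lhs => rw [← h]
  rw [Subgroup.smul_closure]
  refine Subgroup.closure_mono ?_
  rintro _ ⟨g, hg, rfl⟩
  refine ⟨?_, Subgroup.smul_mem_pointwise_smul _ _ _ hg.2⟩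
  obtain ⟨k, hk⟩ := hg.1
  exact ⟨k, by rw [← hk]; exact (MulAut.conj z).orderOf_eq g⟩


/-- A permutation of `p`-power order of at most `p` points with a fixed point is trivial. -/
theorem perm_eq_one {α : Type*} [Fintype α] {p : ℕ} [hp : Fact p.Prime] (hc : Fintype.card α ≤ p)
    {σ : Equiv.Perm α} {k : ℕ} (hσ : σ ^ p ^ k = 1) {x : α} (hx : σ x = x) : σ = 1 := by
  classical
  obtain ⟨j, -, hj⟩ := (Nat.dvd_prime_pow hp.out).1 (orderOf_dvd_of_pow_eq_one hσ)
  rcases Nat.eq_zero_or_pos j with rfl | hj0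
  · rwa [pow_zero, orderOf_eq_one_iff] at hj
  · exfalso
    have hsupp : σ.support.card < p := by
      refine lt_of_lt_of_le (Finset.card_lt_card (Finset.ssubset_univ_iff.2 fun e => ?_)) ?_
      · exact Equiv.Perm.mem_support.1 (e ▸ Finset.mem_univ x) hx
      · rw [Finset.card_univ]; exact hc
    have hne : σ ≠ 1 := fun e => hp.out.ne_one (by
      rw [e, orderOf_one] at hj
      exact ((pow_eq_one_iff).1 hj.symm).resolve_right hj0.ne')
    obtain ⟨n, hn⟩ := Multiset.exists_mem_of_ne_zero (mt Equiv.Perm.cycleType_eq_zero.1 hne)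
    have h2 := Equiv.Perm.two_le_of_mem_cycleType hn
    have hd := Equiv.Perm.dvd_of_mem_cycleType hn
    rw [hj] at hd
    obtain ⟨i, -, hi⟩ := (Nat.dvd_prime_pow hp.out).1 hd
    have hi0 : i ≠ 0 := fun e => by rw [hi, e, pow_zero] at h2; omega
    have h3 : p ≤ n := hi ▸ Nat.le_self_pow hi0 p
    have h4 := Multiset.le_sum_of_mem hn
    rw [Equiv.Perm.sum_cycleType] at h4
    omega

/-- Let p be a prime and G a finite group generated by its p-elements. If a finite family of proper subgroups of G covers the set of p-elements of G (every element of p-power order lies in one of them), then the family has at least p + 1 members. -/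
theorem result {G : Type*} [Group G] [Finite G] (p : ℕ) [Fact p.Prime] (hgen : Subgroup.closure {g : G | ∃ k : ℕ, orderOf g = p ^ k} = ⊤)
    {ι : Type*} [Fintype ι] (K : ι → Subgroup G) (hK : ∀ i, K i ≠ ⊤)
    (hcov : ∀ g : G, (∃ k : ℕ, orderOf g = p ^ k) → ∃ i, g ∈ K i) :
    p + 1 ≤ Fintype.card ι := by
  classical
  have hp : p.Prime := Fact.out
  by_contra hlt
  have hn : Fintype.card ι ≤ p := Nat.le_of_lt_succ (not_le.1 hlt)
  suffices key : ∀ L : Subgroup G, Subgroup.closure (pSet p L) = L → ∃ i, L ≤ K i by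
    obtain ⟨i, hi⟩ := key ⊤ (top_le_iff.1 (hgen.ge.trans
      (Subgroup.closure_mono fun g hg => ⟨hg, Subgroup.mem_top g⟩)))
    exact hK i (top_le_iff.1 hi)
  intro L
  induction hN : Nat.card L using Nat.strong_induction_on generalizing L with
  | _ N ih =>
    intro hL
    by_contra hcon
    push Not at hcon
    -- smaller subgroups generated by `p`-elements are covered
    have hsmall : ∀ M : Subgroup G, M < L → Subgroup.closure (pSet p M) = M → ∃ i, M ≤ K i :=
      fun M hM hMp => ih _ (hN ▸ (Set.ncard_lt_ncard (SetLike.coe_ssubset_coe.2 hM)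
        (Set.toFinite _))) M rfl hMp
    let W : ι → Subgroup G := fun i => Subgroup.closure (pSet p (K i ⊓ L))
    have hWL : ∀ i, W i < L := fun i => lt_of_le_of_ne
      ((Subgroup.closure_le _).2 fun g hg => hg.2.2)
      (fun e => hcon i (e ▸ (Subgroup.closure_le _).2 fun g hg => hg.2.1))
    have hWp : ∀ i, Subgroup.closure (pSet p (W i)) = W i := fun i => closure_pSet _
    -- the maximal ones
    let 𝓜 : Finset (Subgroup G) := (Finset.univ.image W).filter fun M => ∀ i, M ≤ W i → M = W i
    have hcard : 𝓜.card ≤ p := ((Finset.card_filter_le _ _).trans Finset.card_image_le).trans hn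
    have hin : ∀ M : Subgroup G, M < L → Subgroup.closure (pSet p M) = M → ∃ M' ∈ 𝓜, M ≤ M' := by
      intro M hM hMp
      obtain ⟨i, hi⟩ := hsmall M hM hMp
      have hMW : M ≤ W i := by
        rw [← hMp]
        exact Subgroup.closure_mono fun g hg => ⟨hg.1, hi hg.2, hM.le hg.2⟩
      obtain ⟨M', hM', hmax⟩ := Finset.exists_maximal (s := (Finset.univ.image W).filter fun X => M ≤ X)
        ⟨W i, by simp [hMW]⟩
      rw [Finset.mem_filter] at hM'
      refine ⟨M', Finset.mem_filter.2 ⟨hM'.1, fun j hj => ?_⟩, hM'.2⟩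
      exact le_antisymm hj (hmax (by simp [hM'.2.trans hj]) hj)
    -- conjugation by `p`-elements of `L` fixes them
    have hnorm : ∀ M ∈ 𝓜, ∀ z ∈ pSet p L, MulAut.conj z • M = M := by
      intro M hM z hz
      have hconj : ∀ X ∈ 𝓜, MulAut.conj z • X ∈ 𝓜 := by
        intro X hX
        obtain ⟨i, -, rfl⟩ := Finset.mem_image.1 (Finset.mem_filter.1 hX).1
        have hlt' : MulAut.conj z • W i < L := by
          rw [← conj_smul_eq_self hz.2]
          exact smul_lt hz.2 (hWL i)
        obtain ⟨M', hM', hle⟩ := hin _ hlt' (closure_pSet_smul z (hWp i))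
        obtain ⟨j, -, rfl⟩ := Finset.mem_image.1 (Finset.mem_filter.1 hM').1
        have h1 : W i ≤ MulAut.conj z⁻¹ • W j := by
          rw [map_inv, Subgroup.subset_pointwise_smul_iff, ] at *
          exact hle
        have hlt'' : MulAut.conj z⁻¹ • W j < L := by
          rw [← conj_smul_eq_self (inv_mem hz.2)]
          exact smul_lt (inv_mem hz.2) (hWL j)
        obtain ⟨M'', hM'', hle'⟩ := hin _ hlt'' (closure_pSet_smul z⁻¹ (hWp j))
        obtain ⟨l, -, rfl⟩ := Finset.mem_image.1 (Finset.mem_filter.1 hM'').1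
        have e := (Finset.mem_filter.1 hX).2 l (h1.trans hle')
        have e' : MulAut.conj z⁻¹ • W j = W i := le_antisymm (e ▸ hle') h1
        rw [← e', map_inv, smul_inv_smul]
        exact hM'
      by_contra hne
      let σ : Equiv.Perm {X // X ∈ 𝓜} :=
        Equiv.ofBijective (fun X => ⟨_, hconj X.1 X.2⟩) (Finite.injective_iff_bijective.1 fun a b h =>
          Subtype.ext (smul_left_cancel _ (congrArg Subtype.val h)))
      have hpow : ∀ j : ℕ, ∀ X, ((σ ^ j) X).1 = MulAut.conj (z ^ j) • X.1 := by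
        intro j
        induction j with
        | zero => intro X; simp
        | succ j ihj => intro X; rw [pow_succ', Equiv.Perm.mul_apply, pow_succ', map_mul, mul_smul]; exact congrArg (MulAut.conj z • ·) (ihj X)
      obtain ⟨k, hk⟩ := hz.1
      have hσk : σ ^ p ^ k = 1 := Equiv.ext fun X => Subtype.ext (by
        rw [hpow, ← hk, pow_orderOf_eq_one, map_one, one_smul]; rfl)
      have hσ1 : σ ≠ 1 := fun e => hne (congrArg (fun s : Equiv.Perm _ => (s ⟨M, hM⟩).1) e)
      -- a fixed member
      by_cases hzL : Subgroup.zpowers z = L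
      · obtain ⟨i, hi⟩ := hcov z hz.1
        exact hcon i (hzL ▸ Subgroup.zpowers_le.2 hi)
      obtain ⟨M', hM', hle⟩ := hin _ (lt_of_le_of_ne (Subgroup.zpowers_le.2 hz.2) hzL) (closure_pSet_zpowers hz.1)
      have hfix : σ ⟨M', hM'⟩ = ⟨M', hM'⟩ :=
        Subtype.ext (conj_smul_eq_self (hle (Subgroup.mem_zpowers z)))
      exact hσ1 (perm_eq_one (by rw [Fintype.card_coe]; exact hcard) hσk hfix)
    -- a Sylow subgroup of `L`
    obtain ⟨P⟩ : Nonempty (Sylow p L) := inferInstance
    set P' := (P : Subgroup L).map L.subtype with hP'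
    have hP'p : IsPGroup p P' := P.2.map _
    by_cases hPL : P' = L
    · -- `L` is a `p`-group
      rw [hPL] at hP'p
      have hle : (L : Set G).ncard ≤ ((⋃ i, ((W i : Set G) \ {1})) ∪ {1}).ncard :=
        Set.ncard_le_ncard (fun g hg => by
          by_cases hg1 : g = 1
          · exact Or.inr hg1
          · obtain ⟨k, hk⟩ := IsPGroup.iff_orderOf.1 hP'p ⟨g, hg⟩
            rw [Subgroup.orderOf_mk] at hk
            obtain ⟨i, hi⟩ := hcov g ⟨k, hk⟩
            exact Or.inl (Set.mem_iUnion.2 ⟨i, Subgroup.subset_closure ⟨⟨k, hk⟩, hi, hg⟩, hg1⟩))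
          (Set.toFinite _)
      have hne1 : Nat.card L ≠ 1 := fun e => by
        obtain ⟨i, -⟩ := hcov 1 ⟨0, orderOf_one.trans (pow_zero p).symm⟩
        exact hcon i ((Subgroup.card_eq_one.1 e) ▸ bot_le)
      have hb : ∀ i, p * ((W i : Set G) \ {1}).ncard + p ≤ Nat.card L := fun i => by
        rw [Set.ncard_sdiff_singleton_of_mem (one_mem _), ← Nat.card_coe_set_eq]
        obtain ⟨a, ha⟩ := IsPGroup.iff_card.1 (hP'p.to_le (hWL i).le)
        obtain ⟨b, hb⟩ := IsPGroup.iff_card.1 hP'p
        have h1 : Nat.card (W i) < Nat.card L := by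
          have := Set.ncard_lt_ncard (SetLike.coe_ssubset_coe.2 (hWL i)) (Set.toFinite _)
          rwa [← Nat.card_coe_set_eq, ← Nat.card_coe_set_eq] at this
        rw [ha, hb, Nat.pow_lt_pow_iff_right hp.one_lt] at h1
        have h2 : p * p ^ a ≤ p ^ b := by
          rw [← pow_succ']; exact Nat.pow_le_pow_right hp.pos h1
        rw [hb]
        change p * (Nat.card (W i) - 1) + p ≤ p ^ b
        rw [ha, Nat.mul_sub_one]
        have : p ≤ p * p ^ a := Nat.le_mul_of_pos_right _ (pow_pos hp.pos a)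
        omega
      have h3 : (⋃ i, ((W i : Set G) \ {1})).ncard ≤ ∑ i, ((W i : Set G) \ {1}).ncard := by
        have := Finset.set_ncard_biUnion_le Finset.univ fun i => ((W i : Set G) \ {1})
        simpa using this
      have h4 := Finset.sum_le_sum fun i (_ : i ∈ Finset.univ) => hb i
      rw [Finset.sum_add_distrib, Finset.sum_const, Finset.sum_const, ← Finset.mul_sum,
        Finset.card_univ, smul_eq_mul, smul_eq_mul] at h4
      rw [Set.union_singleton] at hle
      have h5 := hle.trans (Set.ncard_insert_le _ _)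
      rw [← Nat.card_coe_set_eq] at h5
      change Nat.card L ≤ _ at h5
      have h6 : 1 < Nat.card L := by have := Nat.card_pos (α := L); omega
      have h7 : Fintype.card ι * Nat.card L ≤ p * Nat.card L := Nat.mul_le_mul_right _ hn
      have h8 : 2 ≤ p := hp.two_le
      have h9 : 1 ≤ Fintype.card ι := by
        obtain ⟨i, -⟩ := hcov 1 ⟨0, orderOf_one.trans (pow_zero p).symm⟩
        exact Fintype.card_pos_iff.2 ⟨i⟩
      nlinarith [Nat.mul_le_mul_left p (h5.trans (Nat.add_le_add_right h3 1))]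
    · obtain ⟨M, hM, hPM⟩ := hin P' (lt_of_le_of_ne (Subgroup.map_subtype_le _) hPL)
        (closure_pSet_of_isPGroup hP'p)
      have hMn : ∀ z ∈ L, MulAut.conj z • M = M := by
        intro z hz
        rw [← hL] at hz
        induction hz using Subgroup.closure_induction with
        | mem x hx => exact hnorm M hM x hx
        | one => rw [map_one, one_smul]
        | mul x y _ _ hx hy => rw [map_mul, mul_smul, hy, hx]
        | inv x _ hx => rw [map_inv, inv_smul_eq_iff, hx]
      obtain ⟨i, -, rfl⟩ := Finset.mem_image.1 (Finset.mem_filter.1 hM).1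
      apply (hWL i).ne
      refine le_antisymm (hWL i).le (hL.symm.le.trans ((Subgroup.closure_le _).2 ?_))
      rintro g ⟨⟨k, hk⟩, hgL⟩
      obtain ⟨Q, hQ⟩ := (IsPGroup.of_card (p := p) (n := k) (by
        rw [Nat.card_zpowers, Subgroup.orderOf_mk, hk] :
        Nat.card (Subgroup.zpowers (⟨g, hgL⟩ : L)) = p ^ k)).exists_le_sylow
      obtain ⟨c, rfl⟩ := MulAction.exists_smul_eq L P Q
      have hg := hQ (Subgroup.mem_zpowers (⟨g, hgL⟩ : L))
      rw [Sylow.coe_subgroup_smul, Subgroup.mem_pointwise_smul_iff_inv_smul_mem] at hg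
      have := hPM (Subgroup.mem_map_of_mem L.subtype hg)
      rw [SetLike.mem_coe, ← hMn c c.2, Subgroup.mem_pointwise_smul_iff_inv_smul_mem]
      simpa [MulAut.smul_def] using this

end Cfsg.Agent.S4182
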