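import Cfsg.Statements.S4184
import Cfsg.Agent.Lib.Coprime.Hall

set_option autoImplicit false
open Cfsg

namespace Cfsg.Agent.S4184

/-- Index of the centralizer. -/
noncomputable def ix {G : Type*} [Group G] (g : G) : ℕ :=
  (Subgroup.centralizer ({g} : Set G)).index

theorem ix_one {G : Type*} [Group G] : ix (1 : G) = 1 := by
  rw [ix, Subgroup.index_eq_one]
  exact Subgroup.centralizer_eq_top_iff_subset.mpr (by simp)

theorem ix_ne_one {G : Type*} [Group G] (hZ : Subgroup.center G = ⊥) {g : G} (hg : g ≠ 1) :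
    ix g ≠ 1 := by
  intro h
  rw [ix, Subgroup.index_eq_one, Subgroup.centralizer_eq_top_iff_subset] at h
  have : g ∈ Subgroup.center G := h rfl
  rw [hZ, Subgroup.mem_bot] at this
  exact hg this

theorem ix_dvd {G : Type*} [Group G] (g : G) : ix g ∣ Nat.card G :=
  Subgroup.index_dvd_card _

theorem ix_ne_zero {G : Type*} [Group G] [Finite G] (g : G) : ix g ≠ 0 :=
  Subgroup.index_ne_zero_of_finite

theorem factorization_card_eq {G : Type*} [Group G] [Finite G] (g : G) (r : ℕ) :
    (Nat.card (Subgroup.centralizer ({g} : Set G))).factorization r + (ix g).factorization r =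
      (Nat.card G).factorization r := by
  rw [← (Subgroup.centralizer ({g} : Set G)).card_mul_index,
    Nat.factorization_mul Nat.card_pos.ne' Subgroup.index_ne_zero_of_finite]
  rfl

theorem le_centralizer_of_mem_center {G : Type*} [Group G] (H : Subgroup G) (z : H)
    (hz : z ∈ Subgroup.center H) : H ≤ Subgroup.centralizer ({(z : G)} : Set G) := fun w hw =>
  Subgroup.mem_centralizer_singleton_iff.mpr
    (congrArg Subtype.val (Subgroup.mem_center_iff.mp hz ⟨w, hw⟩) :)

theorem not_dvd_ix_of_sylow_center {G : Type*} [Group G] [Finite G] {p : ℕ} [hp : Fact p.Prime]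
    (P : Sylow p G) (z : (P : Subgroup G)) (hz : z ∈ Subgroup.center (P : Subgroup G)) :
    ¬ p ∣ ix (z : G) := fun hd =>
  P.not_dvd_index (hd.trans (Subgroup.index_dvd_of_le (le_centralizer_of_mem_center _ z hz)))

theorem ix_conj {G : Type*} [Group G] [Finite G] (g x : G) : ix (g * x * g⁻¹) = ix x := by
  have h1 : Subgroup.centralizer ({g * x * g⁻¹} : Set G) =
      (Subgroup.centralizer ({x} : Set G)).map (MulAut.conj g).toMonoidHom := by
    ext w
    rw [Subgroup.mem_map_equiv, Subgroup.mem_centralizer_singleton_iff,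
      Subgroup.mem_centralizer_singleton_iff, MulAut.conj_symm_apply]
    constructor
    · intro h
      calc g⁻¹ * w * g * x = g⁻¹ * (w * (g * x * g⁻¹)) * g := by group
        _ = g⁻¹ * (g * x * g⁻¹ * w) * g := by rw [h]
        _ = _ := by group
    · intro h
      calc w * (g * x * g⁻¹) = g * (g⁻¹ * w * g * x) * g⁻¹ := by group
        _ = g * (x * (g⁻¹ * w * g)) * g⁻¹ := by rw [h]
        _ = _ := by group
  rw [ix, ix, h1]
  exact Subgroup.index_map_equiv _ (MulAut.conj g)

theorem ix_dvd_mul {G : Type*} [Group G] [Finite G] {u y : G} (hc : Commute u y)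
    (hcop : (orderOf u).Coprime (orderOf y)) : ix u ∣ ix (u * y) := by
  refine Subgroup.index_dvd_of_le fun w hw => ?_
  rw [Subgroup.mem_centralizer_singleton_iff] at hw ⊢
  obtain ⟨m, hm⟩ := exists_pow_eq_self_of_coprime (x := u) (n := orderOf y) hcop.symm
  have hu : u = ((u * y) ^ orderOf y) ^ m := by
    rw [hc.mul_pow, pow_orderOf_eq_one, mul_one, hm]
  rw [hu]
  exact ((Commute.pow_right (show Commute w (u * y) from hw) _).pow_right m)

/-- The `S`-part of `s` is the `S`-part of the order of `M`. -/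
def Full (M : Type*) [Group M] (S : ℕ → Prop) (s : ℕ) : Prop :=
  ∀ r : ℕ, r.Prime → S r → s.factorization r = (Nat.card M).factorization r

theorem side {M : Type*} [Group M] [Finite M] (A : Set ℕ)
    (hno : ∀ a ∈ A, ∀ b ∉ A, a.Prime → b.Prime → a ∣ Nat.card M → b ∣ Nat.card M →
      ¬ ∃ x : M, orderOf x = a * b) {y : M} (hy : y ≠ 1) {a : ℕ} (ha : a.Prime)
    (had : a ∣ orderOf y) (r : ℕ) (hr : r.Prime) (hside : ¬ (a ∈ A ↔ r ∈ A)) :
    (ix y).factorization r = (Nat.card M).factorization r := by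
  rw [← factorization_card_eq y r, eq_comm]
  refine add_eq_right.mpr (Nat.factorization_eq_zero_of_not_dvd fun hd => ?_)
  have := Fact.mk hr
  obtain ⟨w, hw⟩ := exists_prime_orderOf_dvd_card' r hd
  set z := y ^ (orderOf y / a)
  have hz : orderOf z = a := by
    rw [orderOf_pow_orderOf_div (orderOf_pos y).ne' had]
  have hc : Commute z (w : M) :=
    ((show Commute (w : M) y from Subgroup.mem_centralizer_singleton_iff.mp w.2).symm).pow_left _
  have hne : a ≠ r := fun h => hside (by rw [h])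
  have ho : orderOf (z * (w : M)) = a * r := by
    rw [hc.orderOf_mul_eq_mul_orderOf_of_coprime] <;>
      rw [hz, Subgroup.orderOf_coe, hw]
    exact (Nat.coprime_primes ha hr).mpr hne
  have had' : a ∣ Nat.card M := had.trans (orderOf_dvd_natCard y)
  have hrd : r ∣ Nat.card M := hd.trans (Subgroup.card_subgroup_dvd_card _)
  by_cases haA : a ∈ A
  · exact hno a haA r (fun h => hside ⟨fun _ => h, fun _ => haA⟩) ha hr had' hrd ⟨_, ho⟩
  · have hrA : r ∈ A := by_contra fun h => hside ⟨fun h' => absurd h' haA, fun h' => absurd h' h⟩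
    exact hno r hrA a haA hr ha hrd had' ⟨_, ho.trans (mul_comm _ _)⟩

theorem key {G M : Type*} [Group G] [Finite G] [Group M] [Finite M]
    (hZG : Subgroup.center G = ⊥) (S : ℕ → Prop)
    (hdvd : ∀ g : G, g ≠ 1 → ix g ∣ Nat.card M ∧ ix g ≠ Nat.card M)
    (hfull : ∀ g : G, g ≠ 1 → Full M S (ix g) ∨ Full M (fun r => ¬ S r) (ix g))
    {q : ℕ} [hq : Fact q.Prime] (hqS : ¬ S q) (hqM : q ∣ Nat.card M) (hqG : q ∣ Nat.card G)
    {p : ℕ} [hp : Fact p.Prime] (hpS : S p)
    (hlt : (Nat.card M).factorization p < (Nat.card G).factorization p) :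
    ¬ p ∣ Nat.card M ∧
      ∀ u : G, u ≠ 1 → (∃ n, orderOf u = p ^ n) → ¬ Full M (fun r => ¬ S r) (ix u) := by
  classical
  have hqp : q ≠ p := fun h => hqS (h.symm ▸ hpS)
  let Q : Sylow q G := default
  have : Nontrivial (Q : Subgroup G) :=
    Finite.one_lt_card_iff_nontrivial.mp
      (hq.out.one_lt.trans_le (Nat.le_of_dvd Nat.card_pos (Q.dvd_card_of_dvd_card hqG)))
  have := IsPGroup.center_nontrivial Q.isPGroup'
  obtain ⟨⟨y, hyc⟩, hyne⟩ := exists_ne (1 : Subgroup.center (Q : Subgroup G))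
  have hy1 : (y : G) ≠ 1 := fun h => hyne (Subtype.ext (Subtype.ext h))
  obtain ⟨ny, hny⟩ := IsPGroup.iff_orderOf.mp Q.isPGroup' y
  rw [← Subgroup.orderOf_coe] at hny
  have hyS : Full M S (ix (y : G)) := by
    refine (hfull _ hy1).resolve_right fun h => not_dvd_ix_of_sylow_center Q y hyc ?_
    have := h q hq.out hqS
    exact Nat.dvd_of_factorization_pos (this ▸
      (Nat.Prime.factorization_pos_of_dvd hq.out Nat.card_pos.ne' hqM).ne')
  have hnf : ∀ u : G, u ≠ 1 → (∃ n, orderOf u = p ^ n) → Commute u (y : G) →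
      ¬ Full M (fun r => ¬ S r) (ix u) := by
    rintro u hu ⟨n, hn⟩ hc hf
    have hcop : (orderOf u).Coprime (orderOf (y : G)) := by
      rw [hn, hny]
      exact Nat.Coprime.pow _ _ ((Nat.coprime_primes hp.out hq.out).mpr (Ne.symm hqp))
    have hne : u * (y : G) ≠ 1 := by
      intro h
      have := hc.orderOf_mul_eq_mul_orderOf_of_coprime hcop
      rw [h, orderOf_one] at this
      exact hu (orderOf_eq_one_iff.mp (Nat.eq_one_of_mul_eq_one_right this.symm))
    obtain ⟨hd1, hd2⟩ := hdvd _ hne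
    have hdu : ix u ∣ ix (u * (y : G)) := ix_dvd_mul hc hcop
    have hdy : ix (y : G) ∣ ix (u * (y : G)) := by
      rw [hc.eq]; exact ix_dvd_mul hc.symm hcop.symm
    refine hd2 (Nat.eq_of_factorization_eq (ix_ne_zero _) Nat.card_pos.ne' fun r => ?_)
    refine le_antisymm ((Nat.factorization_le_iff_dvd (ix_ne_zero _) Nat.card_pos.ne').mpr hd1 r) ?_
    by_cases hr : r.Prime
    · by_cases hS : S r
      · exact (hyS r hr hS).ge.trans
          ((Nat.factorization_le_iff_dvd (ix_ne_zero _) (ix_ne_zero _)).mpr hdy r)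
      · exact (hf r hr hS).ge.trans
          ((Nat.factorization_le_iff_dvd (ix_ne_zero _) (ix_ne_zero _)).mpr hdu r)
    · rw [Nat.factorization_eq_zero_of_not_prime _ hr]; exact Nat.zero_le _
  let D0 : Sylow p (Subgroup.centralizer ({(y : G)} : Set G)) := default
  set D : Subgroup G := D0.toSubgroup.map (Subgroup.subtype _) with hD
  have hDle : D ≤ Subgroup.centralizer ({(y : G)} : Set G) := Subgroup.map_subtype_le _
  set d := (Nat.card G).factorization p - (Nat.card M).factorization p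
  have hDcard : Nat.card D = p ^ d := by
    rw [hD, Subgroup.card_subtype, D0.card_eq_multiplicity]
    have h1 := factorization_card_eq (y : G) p
    rw [hyS p hp.out hpS] at h1
    congr 1
    omega
  have hDp : IsPGroup p D := IsPGroup.of_card hDcard
  have : Nontrivial D := Finite.one_lt_card_iff_nontrivial.mp
    (hDcard ▸ Nat.one_lt_pow (by omega) hp.out.one_lt)
  have := hDp.center_nontrivial
  obtain ⟨⟨u, huc⟩, hune⟩ := exists_ne (1 : Subgroup.center D)
  have hu1 : (u : G) ≠ 1 := fun h => hune (Subtype.ext (Subtype.ext h))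
  have hpe : ∀ w ∈ D, ∃ n, orderOf w = p ^ n := fun w hw =>
    (IsPGroup.iff_orderOf.mp hDp ⟨w, hw⟩).imp fun n hn => by rwa [Subgroup.orderOf_mk] at hn
  have hcomm : ∀ w ∈ D, Commute w (y : G) := fun w hw =>
    Subgroup.mem_centralizer_singleton_iff.mp (hDle hw)
  have huS : Full M S (ix (u : G)) :=
    (hfull _ hu1).resolve_right (hnf _ hu1 (hpe _ u.2) (hcomm _ u.2))
  have hDu : D ≤ Subgroup.centralizer ({(u : G)} : Set G) := le_centralizer_of_mem_center _ u huc
  obtain ⟨P, hDP⟩ := hDp.exists_le_sylow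
  have hPD : (P : Subgroup G) ⊓ Subgroup.centralizer ({(u : G)} : Set G) = D := by
    refine (Subgroup.eq_of_le_of_card_ge (le_inf hDP hDu) ?_).symm
    obtain ⟨k, hk⟩ := IsPGroup.iff_card.mp (IsPGroup.to_le P.isPGroup' (inf_le_left : (P : Subgroup G) ⊓
      Subgroup.centralizer ({(u : G)} : Set G) ≤ _))
    rw [hk, hDcard]
    refine Nat.pow_le_pow_right hp.out.pos ?_
    have hd := Subgroup.card_dvd_of_le
      (inf_le_right : (P : Subgroup G) ⊓ Subgroup.centralizer ({(u : G)} : Set G) ≤ _)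
    rw [hk] at hd
    have h1 := (Nat.Prime.pow_dvd_iff_le_factorization hp.out Nat.card_pos.ne').mp hd
    have h2 := factorization_card_eq (u : G) p
    rw [huS p hp.out hpS] at h2
    omega
  have : Nontrivial (P : Subgroup G) := by
    obtain ⟨w, hw⟩ := exists_ne (1 : D)
    exact ⟨⟨⟨w, hDP w.2⟩, 1, fun h => hw (Subtype.ext (congrArg Subtype.val h :))⟩⟩
  have := IsPGroup.center_nontrivial P.isPGroup'
  obtain ⟨⟨x, hxc⟩, hxne⟩ := exists_ne (1 : Subgroup.center (P : Subgroup G))
  have hx1 : (x : G) ≠ 1 := fun h => hxne (Subtype.ext (Subtype.ext h))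
  have hxD : (x : G) ∈ D := hPD ▸ Subgroup.mem_inf.mpr ⟨x.2, Subgroup.mem_centralizer_singleton_iff.mpr
    (Subgroup.mem_centralizer_singleton_iff.mp
      (le_centralizer_of_mem_center _ x hxc (hDP u.2))).symm⟩
  have hxS : Full M S (ix (x : G)) :=
    (hfull _ hx1).resolve_right (hnf _ hx1 (hpe _ hxD) (hcomm _ hxD))
  have hpM : ¬ p ∣ Nat.card M := fun hd => not_dvd_ix_of_sylow_center P x hxc
    (Nat.dvd_of_factorization_pos (hxS p hp.out hpS ▸
      (Nat.Prime.factorization_pos_of_dvd hp.out Nat.card_pos.ne' hd).ne'))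
  refine ⟨hpM, fun v hv hvp => ?_⟩
  have hd0 : d = (Nat.card G).factorization p := by
    have h0 := Nat.factorization_eq_zero_of_not_dvd hpM
    omega
  let P' : Sylow p G := Sylow.ofCard D (by rw [hDcard, hd0])
  obtain ⟨n, hn⟩ := hvp
  obtain ⟨P'', hP''⟩ := (IsPGroup.of_card (n := n) (by rw [Nat.card_zpowers, hn]) :
    IsPGroup p (Subgroup.zpowers v)).exists_le_sylow
  obtain ⟨g, hg⟩ := MulAction.exists_smul_eq G P'' P'
  have hmem : g * v * g⁻¹ ∈ D := by
    have h1 : g * v * g⁻¹ ∈ ((g • P'' : Sylow p G) : Subgroup G) := by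
      rw [Sylow.coe_subgroup_smul, Cfsg.Agent.Lib.Coprime.mem_conj_smul]
      simpa [mul_assoc] using hP'' (Subgroup.mem_zpowers v)
    rw [hg] at h1
    exact h1
  rw [← ix_conj g v]
  refine hnf _ (fun h => hv ?_) (hpe _ hmem) (hcomm _ hmem)
  simpa using h

/-- Let G and M be finite groups with trivial centres and the same set of conjugacy class sizes, and suppose the prime graph of M is disconnected: the prime divisors of #M split into two non-empty parts such that M has no element of order pq with p in one part and q in the other. Then #G = #M. -/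
theorem result {G M : Type*}
    [Group G] [Finite G] [Group M] [Finite M] (hZG : Subgroup.center G = ⊥) (hZM : Subgroup.center M = ⊥)
    (h : Set.range (fun g : G => (Subgroup.centralizer ({g} : Set G)).index) = Set.range (fun g : M => (Subgroup.centralizer ({g} : Set M)).index))
    (hdisc : ∃ A : Set ℕ, (∃ a ∈ A, a.Prime ∧ a ∣ Nat.card M) ∧ (∃ b ∉ A, b.Prime ∧ b ∣ Nat.card M) ∧
      ∀ a ∈ A, ∀ b ∉ A, a.Prime → b.Prime → a ∣ Nat.card M → b ∣ Nat.card M → ¬ ∃ x : M, orderOf x = a * b) :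
    Nat.card G = Nat.card M := by
  obtain ⟨A, ⟨a, haA, ha, haM⟩, ⟨b, hbA, hb, hbM⟩, hno⟩ := hdisc
  have haF := Fact.mk ha
  have hbF := Fact.mk hb
  have hGM : ∀ g : G, g ≠ 1 → ∃ w : M, w ≠ 1 ∧ ix w = ix g := by
    intro g hg
    obtain ⟨w, hw⟩ : ix g ∈ Set.range (fun g : M => (Subgroup.centralizer ({g} : Set M)).index) :=
      h ▸ Set.mem_range_self g
    refine ⟨w, fun h1 => ix_ne_one hZG hg ?_, hw⟩
    rw [← hw, h1]
    exact ix_one
  have hMG : ∀ w : M, ∃ g : G, ix g = ix w := by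
    intro w
    obtain ⟨g, hg⟩ : ix w ∈ Set.range (fun g : G => (Subgroup.centralizer ({g} : Set G)).index) :=
      h.symm ▸ Set.mem_range_self w
    exact ⟨g, hg⟩
  have hdvd : ∀ g : G, g ≠ 1 → ix g ∣ Nat.card M ∧ ix g ≠ Nat.card M := by
    intro g hg
    obtain ⟨w, hw, he⟩ := hGM g hg
    rw [← he]
    refine ⟨ix_dvd w, fun h1 => hw ?_⟩
    have h2 := (Subgroup.centralizer ({w} : Set M)).card_mul_index
    rw [show (Subgroup.centralizer ({w} : Set M)).index = Nat.card M from h1] at h2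
    have h3 : Nat.card (Subgroup.centralizer ({w} : Set M)) = 1 :=
      (mul_eq_right₀ Nat.card_pos.ne').mp h2
    have h4 := Subgroup.card_eq_one.mp h3
    have h5 : w ∈ Subgroup.centralizer ({w} : Set M) := Subgroup.mem_centralizer_singleton_iff.mpr rfl
    rwa [h4, Subgroup.mem_bot] at h5
  have hfull : ∀ g : G, g ≠ 1 →
      Full M (fun r => r ∈ A) (ix g) ∨ Full M (fun r => r ∉ A) (ix g) := by
    intro g hg
    obtain ⟨w, hw, he⟩ := hGM g hg
    rw [← he]
    obtain ⟨c, hc, hcd⟩ := Nat.exists_prime_and_dvd (fun h1 => hw (orderOf_eq_one_iff.mp h1))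
    by_cases hcA : c ∈ A
    · exact Or.inr fun r hr hrA => side A hno hw hc hcd r hr fun h1 => hrA (h1.mp hcA)
    · exact Or.inl fun r hr hrA => side A hno hw hc hcd r hr fun h1 => hcA (h1.mpr hrA)
  have hge : ∀ r : ℕ, (Nat.card M).factorization r ≤ (Nat.card G).factorization r := by
    intro r
    by_cases hr : r.Prime
    swap
    · rw [Nat.factorization_eq_zero_of_not_prime _ hr]; exact Nat.zero_le _
    obtain ⟨c, hc, hcM, hside⟩ : ∃ c : ℕ, c.Prime ∧ c ∣ Nat.card M ∧ ¬ (c ∈ A ↔ r ∈ A) := by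
      by_cases hrA : r ∈ A
      · exact ⟨b, hb, hbM, fun h1 => hbA (h1.mpr hrA)⟩
      · exact ⟨a, ha, haM, fun h1 => hrA (h1.mp haA)⟩
    have := Fact.mk hc
    obtain ⟨w, hw⟩ := exists_prime_orderOf_dvd_card' (G := M) c hcM
    have hw1 : w ≠ 1 := fun h1 => hc.ne_one (by rw [← hw, h1, orderOf_one])
    rw [← side A hno hw1 hc hw.symm.dvd r hr hside]
    obtain ⟨g, hg⟩ := hMG w
    rw [← hg]
    exact (Nat.factorization_le_iff_dvd (ix_ne_zero _) Nat.card_pos.ne').mpr (ix_dvd g) r
  have hMdG : ∀ r : ℕ, r.Prime → r ∣ Nat.card M → r ∣ Nat.card G := fun r hr hd =>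
    Nat.dvd_of_factorization_pos (lt_of_lt_of_le
      (Nat.Prime.factorization_pos_of_dvd hr Nat.card_pos.ne' hd) (hge r)).ne'
  refine Nat.eq_of_factorization_eq Nat.card_pos.ne' Nat.card_pos.ne' fun p => ?_
  refine le_antisymm ?_ (hge p)
  by_contra hlt
  push Not at hlt
  have hp : p.Prime := by
    by_contra hp
    rw [Nat.factorization_eq_zero_of_not_prime (Nat.card G) hp] at hlt
    omega
  have := Fact.mk hp
  by_cases hpM : p ∣ Nat.card M
  · by_cases hpA : p ∈ A
    · exact (key hZG (fun r => r ∈ A) hdvd hfull hbA hbM (hMdG b hb hbM) hpA hlt).1 hpM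
    · exact (key hZG (fun r => r ∉ A) hdvd
        (fun g hg => (hfull g hg).symm.imp id fun h1 r hr h2 => h1 r hr (not_not.mp h2))
        (not_not.mpr haA) haM (hMdG a ha haM) hpA hlt).1 hpM
  · have hpzero : ∀ g : G, g ≠ 1 → (ix g).factorization p = (Nat.card M).factorization p := by
      intro g hg
      rw [Nat.factorization_eq_zero_of_not_dvd hpM,
        Nat.factorization_eq_zero_of_not_dvd fun hd => hpM (hd.trans (hdvd g hg).1)]
    have hap : a ≠ p := fun h1 => hpM (h1 ▸ haM)
    have hbp : b ≠ p := fun h1 => hpM (h1 ▸ hbM)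
    have k1 := (key hZG (fun r => r ∈ A ∨ r = p) hdvd (fun g hg => (hfull g hg).imp
      (fun h1 r hr h2 => h2.elim (h1 r hr) (fun h3 => h3.symm ▸ hpzero g hg))
      (fun h1 r hr h2 => h1 r hr fun h3 => h2 (Or.inl h3)))
      (fun h1 => h1.elim hbA hbp) hbM (hMdG b hb hbM) (Or.inr rfl) hlt).2
    have k2 := (key hZG (fun r => r ∉ A ∨ r = p) hdvd (fun g hg => (hfull g hg).symm.imp
      (fun h1 r hr h2 => h2.elim (h1 r hr) (fun h3 => h3.symm ▸ hpzero g hg))
      (fun h1 r hr h2 => h1 r hr (by_contra fun h3 => h2 (Or.inl h3))))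
      (fun h1 => h1.elim (fun h2 => h2 haA) hap) haM (hMdG a ha haM) (Or.inr rfl) hlt).2
    have hpG : p ∣ Nat.card G := Nat.dvd_of_factorization_pos (Nat.ne_zero_of_lt hlt)
    obtain ⟨u, hu⟩ := exists_prime_orderOf_dvd_card' (G := G) p hpG
    have hu1 : u ≠ 1 := fun h1 => hp.ne_one (by rw [← hu, h1, orderOf_one])
    rcases hfull u hu1 with h1 | h1
    · exact k2 u hu1 ⟨1, by rw [hu, pow_one]⟩ fun r hr h2 =>
        h1 r hr (by_contra fun h3 => h2 (Or.inl h3))
    · exact k1 u hu1 ⟨1, by rw [hu, pow_one]⟩ fun r hr h2 => h1 r hr fun h3 => h2 (Or.inl h3)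

end Cfsg.Agent.S4184
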