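import Cfsg.Statements.S4186
import Mathlib.GroupTheory.PGroup

set_option autoImplicit false
open Cfsg

namespace Cfsg.Agent.S4186

/-- Let T and X be subgroups of a group with T a finite 2-group normalizing X but not centralizing it. Then some element of T inverts some non-identity element of X under conjugation. -/
theorem result {G : Type*} [Group G] (T X : Subgroup G) [Finite ↥T] (hT : IsPGroup 2 ↥T) (hTN : T ≤ Subgroup.normalizer (X : Set G)) (hTC : ¬ T ≤ Subgroup.centralizer (X : Set G)) : ∃ t ∈ T, ∃ x ∈ X, x ≠ 1 ∧ t * x * t⁻¹ = x⁻¹ := by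
  obtain ⟨t₀, ht₀, ht₀C⟩ : ∃ t ∈ T, t ∉ Subgroup.centralizer (X : Set G) := by
    by_contra h
    push Not at h
    exact hTC h
  have key : ∀ k : ℕ, ∀ t ∈ T, t ∉ Subgroup.centralizer (X : Set G) → t ^ (2 ^ k) = 1 →
      ∃ s ∈ T, s ∉ Subgroup.centralizer (X : Set G) ∧ s ^ 2 ∈ Subgroup.centralizer (X : Set G) := by
    intro k
    induction k with
    | zero =>
      intro t _ ht h1
      rw [pow_zero, pow_one] at h1
      exact absurd (h1 ▸ one_mem _) ht
    | succ k ih =>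
      intro t htT ht h1
      by_cases h2 : t ^ 2 ∈ Subgroup.centralizer (X : Set G)
      · exact ⟨t, htT, ht, h2⟩
      · exact ih (t ^ 2) (T.pow_mem htT 2) h2 (by rw [← pow_mul, ← pow_succ']; exact h1)
  obtain ⟨k, hk⟩ := hT ⟨t₀, ht₀⟩
  obtain ⟨t, htT, htC, ht2⟩ := key k t₀ ht₀ ht₀C (by simpa using congrArg Subtype.val hk)
  obtain ⟨x, hx, hxt⟩ : ∃ x ∈ X, t * x ≠ x * t := by
    by_contra h
    push Not at h
    exact htC (Subgroup.mem_centralizer_iff.mpr fun y hy => (h y hy).symm)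
  have htx : t * x * t⁻¹ ∈ X := (Subgroup.mem_normalizer_iff.mp (hTN htT) x).mp hx
  refine ⟨t, htT, x⁻¹ * (t * x * t⁻¹), X.mul_mem (X.inv_mem hx) htx, ?_, ?_⟩
  · intro h
    rw [inv_mul_eq_one, eq_mul_inv_iff_mul_eq] at h
    exact hxt h.symm
  · have hc : t ^ 2 * x = x * t ^ 2 := ((Subgroup.mem_centralizer_iff.mp ht2) x hx).symm
    calc t * (x⁻¹ * (t * x * t⁻¹)) * t⁻¹ = t * x⁻¹ * t⁻¹ * (t ^ 2 * x) * (t ^ 2)⁻¹ := by group
      _ = t * x⁻¹ * t⁻¹ * (x * t ^ 2) * (t ^ 2)⁻¹ := by rw [hc]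
      _ = (x⁻¹ * (t * x * t⁻¹))⁻¹ := by group

end Cfsg.Agent.S4186
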