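import Cfsg.Statements.S4188
import Mathlib
import Cfsg.Agent.Lib.Cores
import Cfsg.Agent.Lib.LocalEven.Subnormal
import Cfsg.Agent.Lib.OddLocal.Coprime
import Cfsg.Agent.Lib.Frobenius.Structure
import Cfsg.Agent.Lib.Solvable.Nilpotent
-- import your own Cfsg.Agent.* helpers here

set_option autoImplicit false
open Cfsg

namespace Cfsg.Agent.S4188


open Subgroup
open Cfsg.Agent.Lib
open scoped commutatorElement

section Frattini

variable {H : Type*} [Group H] [Finite H]

/-- The Frattini index is submultiplicative along a homomorphism. -/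
theorem F_le_mul (hH : IsPGroup 2 H) {K : Type*} [Group K] [Finite K] (f : H →* K) :
    (frattini H).index ≤ (frattini f.range).index * (frattini f.ker).index := by
  have hΦn : (frattini H).Normal := inferInstance
  have h1 : (frattini H).index = (frattini H).relIndex (frattini H ⊔ f.ker) * (frattini H ⊔ f.ker).index :=
    (relIndex_mul_index le_sup_left).symm
  have hF : ∀ x y : H, ⁅x, y⁆ ∈ frattini H := fun x y => by
    haveI := hH.isNilpotent
    exact Cores.commutator_le_frattini (commutator_mem_commutator (mem_top x) (mem_top y))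
  have h2 : (frattini H ⊔ f.ker).index ≤ (frattini f.range).index := by
    have e : (frattini H ⊔ f.ker).index = ((frattini H).map f.rangeRestrict).index := by
      rw [index_map, MonoidHom.ker_rangeRestrict, MonoidHom.range_eq_top.mpr f.rangeRestrict_surjective, index_top, mul_one]
    rw [e]
    refine Nat.le_of_dvd (Nat.pos_of_ne_zero Subgroup.index_ne_zero_of_finite) (index_dvd_of_le ?_)
    refine LocalEven.frattini_le_of_quotient_elementary (p := 2) ?_ fun y => ?_
    · rw [_root_.commutator_def, commutator_le]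
      intro x _ y _
      obtain ⟨a, rfl⟩ := f.rangeRestrict_surjective x
      obtain ⟨b, rfl⟩ := f.rangeRestrict_surjective y
      exact ⟨⁅a, b⁆, hF a b, map_commutatorElement _ _ _⟩
    · obtain ⟨a, rfl⟩ := f.rangeRestrict_surjective y
      exact ⟨a ^ 2, Cores.pow_mem_frattini hH a, map_pow _ _ _⟩
  have h3 : (frattini H).relIndex (frattini H ⊔ f.ker) ≤ (frattini f.ker).index := by
    rw [sup_comm, relIndex_sup_right]
    show ((frattini H).subgroupOf f.ker).index ≤ _
    refine Nat.le_of_dvd (Nat.pos_of_ne_zero Subgroup.index_ne_zero_of_finite) (index_dvd_of_le ?_)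
    refine LocalEven.frattini_le_of_quotient_elementary (p := 2) ?_ fun y => ?_
    · rw [_root_.commutator_def, commutator_le]
      intro x _ y _
      exact hF x y
    · exact Cores.pow_mem_frattini hH (y : H)
  rw [h1, mul_comm (frattini f.range).index]
  exact Nat.mul_le_mul h3 h2

/-- A commutative `2`-group with few square roots of one. -/
theorem F_le_roots (hH : IsPGroup 2 H) (hc : ∀ a b : H, a * b = b * a) :
    (frattini H).index ≤ Nat.card {x : H // x ^ 2 = 1} := by
  letI : CommGroup H := { (inferInstance : Group H) with mul_comm := hc }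
  have hle : (powMonoidHom 2 : H →* H).range ≤ frattini H := by
    rintro _ ⟨x, rfl⟩; exact Cores.pow_mem_frattini hH x
  refine le_trans (Nat.le_of_dvd (Nat.pos_of_ne_zero Subgroup.index_ne_zero_of_finite) (index_dvd_of_le hle)) ?_
  refine le_of_eq ?_
  have h1 := (powMonoidHom 2 : H →* H).range.card_mul_index
  have h2 := (powMonoidHom 2 : H →* H).ker.card_mul_index
  rw [index_ker] at h2
  have : (powMonoidHom 2 : H →* H).range.index = Nat.card (powMonoidHom 2 : H →* H).ker :=
    Nat.eq_of_mul_eq_mul_left Nat.card_pos (by rw [h1, mul_comm, h2])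
  rw [this]
  exact Nat.card_congr (Equiv.subtypeEquivRight fun x => by simp)

end Frattini

theorem sq_roots_units_le (k : ℕ) : Nat.card {u : (ZMod (2 ^ k))ˣ // u ^ 2 = 1} ≤ 4 := by
  haveI : NeZero (2 ^ k) := ⟨by positivity⟩
  obtain hk | hk := Nat.lt_or_ge k 2
  · refine le_trans (Nat.card_le_card_of_injective _ Subtype.val_injective) ?_
    refine le_trans (Nat.card_le_card_of_injective _ Units.val_injective) ?_
    rw [Nat.card_zmod]
    interval_cases k <;> norm_num
  obtain ⟨m, rfl⟩ : ∃ m, k = m + 2 := ⟨k - 2, by omega⟩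
  let S : Finset (ZMod (2 ^ (m + 2))) := {1, -1, 1 + 2 ^ (m + 1), -1 + 2 ^ (m + 1)}
  have hS : ∀ u : (ZMod (2 ^ (m + 2)))ˣ, u ^ 2 = 1 → (u : ZMod (2 ^ (m + 2))) ∈ S := by
    intro u hu
    obtain ⟨j, hj⟩ := ZMod.intCast_surjective (u : ZMod (2 ^ (m + 2)))
    have h0 : ((2 ^ (m + 2) : ℕ) : ℤ) ∣ (j - 1) * (j + 1) := by
      rw [← ZMod.intCast_zmod_eq_zero_iff_dvd]
      push_cast
      rw [hj]
      have := congrArg Units.val hu
      rw [Units.val_pow_eq_pow_val, Units.val_one] at this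
      linear_combination this
    push_cast at h0
    have hodd : ¬ (2 : ℤ) ∣ j := by
      rintro ⟨c, rfl⟩
      have h2 : (2 : ℤ) ∣ (2 * c - 1) * (2 * c + 1) := (dvd_pow_self 2 (by omega : m + 2 ≠ 0)).trans h0
      rcases Int.prime_two.dvd_mul.mp h2 with h | h <;> omega
    obtain ⟨i, rfl⟩ : ∃ i, j = 2 * i + 1 := ⟨j / 2, by omega⟩
    have h1 : (2 : ℤ) ^ m ∣ i * (i + 1) := by
      rw [show (2 * i + 1 - 1) * (2 * i + 1 + 1) = 4 * (i * (i + 1)) by ring,
        show (2 : ℤ) ^ (m + 2) = 4 * 2 ^ m by ring] at h0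
      exact (mul_dvd_mul_iff_left (by norm_num : (4 : ℤ) ≠ 0)).mp h0
    have hz : ((2 : ZMod (2 ^ (m + 2))) ^ (m + 2)) = 0 := by
      have := ZMod.natCast_self (2 ^ (m + 2))
      push_cast at this
      exact this
    have key : ∀ c : ℤ, ∀ i0 : ℤ, (2 * (2 ^ m * c + i0) + 1 : ℤ) = 2 * i0 + 1 + 2 ^ (m + 1) * c := fun c i0 => by ring
    have cases2 : ∀ c : ℤ, ((2 ^ (m + 1) * c : ℤ) : ZMod (2 ^ (m + 2))) = 0 ∨
        ((2 ^ (m + 1) * c : ℤ) : ZMod (2 ^ (m + 2))) = 2 ^ (m + 1) := by
      intro c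
      rcases Int.even_or_odd' c with ⟨d, rfl | rfl⟩
      · left; push_cast; linear_combination (d : ZMod (2 ^ (m + 2))) * hz
      · right; push_cast; linear_combination (d : ZMod (2 ^ (m + 2))) * hz
    rw [← hj]
    simp only [S, Finset.mem_insert, Finset.mem_singleton]
    by_cases hi : (2 : ℤ) ∣ i
    · obtain ⟨c, hc⟩ : (2 : ℤ) ^ m ∣ i :=
        Int.prime_two.pow_dvd_of_dvd_mul_right m (by omega) h1
      have e : (2 * i + 1 : ℤ) = 1 + 2 ^ (m + 1) * c := by rw [hc]; ring
      rw [e]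
      rcases cases2 c with h | h <;> rw [Int.cast_add, h] <;> simp
    · obtain ⟨c, hc⟩ : (2 : ℤ) ^ m ∣ i + 1 :=
        Int.prime_two.pow_dvd_of_dvd_mul_left m hi h1
      have e : (2 * i + 1 : ℤ) = -1 + 2 ^ (m + 1) * c := by linear_combination 2 * hc
      rw [e]
      rcases cases2 c with h | h <;> rw [Int.cast_add, h] <;> simp
  refine le_trans (Nat.card_le_card_of_injective (fun u => (⟨_, hS u.1 u.2⟩ : S))
    fun u v h => Subtype.ext (Units.ext (congrArg Subtype.val h))) ?_
  rw [Nat.card_eq_fintype_card, Fintype.card_coe]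
  exact (Finset.card_insert_le _ _).trans (Nat.succ_le_succ ((Finset.card_insert_le _ _).trans
    (Nat.succ_le_succ ((Finset.card_insert_le _ _).trans (by simp)))))

/-- The bound on the Frattini rank. -/
def w (r n : ℕ) : ℕ := if n ≤ 1 then n else if r = 3 then (3 * n - 2) / 2 else 2 * n - 1

theorem w_add (r a b : ℕ) (ha : 1 ≤ a) (hb : 1 ≤ b) : w r a + w r b ≤ w r (a + b) := by
  unfold w; split_ifs <;> omega

theorem w_double (r a : ℕ) (ha : 1 ≤ a) (h : r ≠ 3 ∨ 2 ≤ a) : 1 + (w r a + w r a) ≤ w r (a + a) := by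
  unfold w; split_ifs <;> omega

theorem w_pow_lt (r n : ℕ) (hr : 3 ≤ r) (hr4 : r ≠ 4) (hn : 1 ≤ n) : 2 ^ w r n < r ^ n := by
  unfold w
  split_ifs with h1 h3
  · exact Nat.pow_lt_pow_left (by omega) (by omega)
  · subst h3
    by_contra hc
    have h2 : (3 ^ n) ^ 2 ≤ (2 ^ ((3 * n - 2) / 2)) ^ 2 := Nat.pow_le_pow_left (by omega) 2
    rw [← pow_mul, ← pow_mul] at h2
    have h4 : 2 ^ ((3 * n - 2) / 2 * 2) ≤ 2 ^ (3 * n) := Nat.pow_le_pow_right (by norm_num) (by omega)
    have h5 : 2 ^ (3 * n) < 3 ^ (n * 2) := by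
      rw [pow_mul, mul_comm, pow_mul]; exact Nat.pow_lt_pow_left (by norm_num) (by omega)
    omega
  · calc 2 ^ (2 * n - 1) ≤ 2 ^ (2 * n) := Nat.pow_le_pow_right (by norm_num) (by omega)
      _ = 4 ^ n := by rw [pow_mul]; norm_num
      _ < r ^ n := Nat.pow_lt_pow_left (by omega) (by omega)

section Action

variable {H V : Type*} [Group H] [CommGroup V]

/-- Restriction of an action to an invariant subgroup. -/
noncomputable def restr (φ : H →* MulAut V) (W : Subgroup V) (hW : ∀ h, ∀ v ∈ W, φ h v ∈ W) : H →* MulAut W :=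
  MonoidHom.mk'
    (fun h =>
      { toFun := fun v => ⟨φ h v, hW h v v.2⟩
        invFun := fun v => ⟨φ h⁻¹ v, hW h⁻¹ v v.2⟩
        left_inv := fun v => Subtype.ext (by show φ h⁻¹ (φ h v) = v; rw [← MulAut.mul_apply, ← map_mul]; simp)
        right_inv := fun v => Subtype.ext (by show φ h (φ h⁻¹ v) = v; rw [← MulAut.mul_apply, ← map_mul]; simp)
        map_mul' := fun u v => Subtype.ext (by simp) })
    (fun g h => MulEquiv.ext fun v => Subtype.ext (by simp))

theorem restr_apply (φ : H →* MulAut V) (W : Subgroup V) (hW : ∀ h, ∀ v ∈ W, φ h v ∈ W) (h : H) (v : W) :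
    (restr φ W hW h v : V) = φ h v := rfl

theorem restr_injective (φ : H →* MulAut V) (hφ : Function.Injective φ) (A B : Subgroup V)
    (hA : ∀ h, ∀ v ∈ A, φ h v ∈ A) (hB : ∀ h, ∀ v ∈ B, φ h v ∈ B) (hsup : A ⊔ B = ⊤) :
    Function.Injective ((restr φ A hA).prod (restr φ B hB)) := by
  rw [injective_iff_map_eq_one]
  intro h hh
  refine (injective_iff_map_eq_one φ).mp hφ h (MulEquiv.ext fun v => ?_)
  obtain ⟨a, ha, b, hb, rfl⟩ := mem_sup.mp (hsup ▸ mem_top v : v ∈ A ⊔ B)
  have h1 : φ h a = a := (congrArg Subtype.val (DFunLike.congr_fun (congrArg Prod.fst hh) ⟨a, ha⟩) :)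
  have h2 : φ h b = b := (congrArg Subtype.val (DFunLike.congr_fun (congrArg Prod.snd hh) ⟨b, hb⟩) :)
  rw [map_mul, h1, h2]; rfl

/-- An involution that is not inversion splits the module. -/
theorem split [Finite V] {r : ℕ} (hr : Odd r) (hV : ∀ v : V, v ^ r = 1) (e : MulAut V) (he : ∀ v, e (e v) = v) :
    let A : Subgroup V := (e.toMonoidHom / MonoidHom.id V).ker
    let B : Subgroup V := (e.toMonoidHom * MonoidHom.id V).ker
    A ⊔ B = ⊤ ∧ A ⊓ B = ⊥ := by
  intro A B
  have hmA : ∀ v, v ∈ A ↔ e v = v := fun v => by simp [A, MonoidHom.mem_ker, div_eq_one]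
  have hmB : ∀ v, v ∈ B ↔ e v = v⁻¹ := fun v => by simp [B, MonoidHom.mem_ker, mul_eq_one_iff_eq_inv]
  obtain ⟨t, ht⟩ := hr
  have hh : ∀ v : V, (v ^ (t + 1)) ^ 2 = v := fun v => by
    rw [← pow_mul, show (t + 1) * 2 = r + 1 by omega, pow_succ, hV, one_mul]
  constructor
  · refine (eq_top_iff' _).mpr fun v => ?_
    refine mem_sup.mpr ⟨(v * e v) ^ (t + 1), ?_, (v / e v) ^ (t + 1), ?_, ?_⟩
    · rw [hmA, map_pow, map_mul, he, mul_comm]
    · rw [hmB, map_pow, map_div, he, ← inv_pow, inv_div]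
    · rw [← mul_pow, show v * e v * (v / e v) = v ^ 2 by rw [pow_two, mul_mul_div_cancel], ← pow_mul, mul_comm, pow_mul]
      exact hh v
  · rw [eq_bot_iff]
    rintro v ⟨h1, h2⟩
    rw [mem_bot]
    have h3 : v ^ 2 = 1 := by
      rw [pow_two, mul_eq_one_iff_eq_inv, ← (hmB v).mp h2, (hmA v).mp h1]
    have := hh v
    rw [← pow_mul, mul_comm, pow_mul, h3, one_pow] at this
    exact this.symm

end Action

theorem card_eq_mul {V : Type*} [CommGroup V] [Finite V] (A B : Subgroup V) (hsup : A ⊔ B = ⊤) (hinf : A ⊓ B = ⊥) :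
    Nat.card A * Nat.card B = Nat.card V :=
  (isComplement'_of_disjoint_and_mul_eq_univ (disjoint_iff.mpr hinf)
    (by rw [← Subgroup.mul_normal A B, hsup, coe_top])).card_mul

universe u v

/-- A `2`-group acting faithfully on a group of prime order is cyclic. -/
theorem F_le_two {H : Type u} [Group H] [Finite H] {V : Type v} [CommGroup V] [Finite V] (hH : IsPGroup 2 H)
    {r : ℕ} [Fact r.Prime] (hV : Nat.card V = r) (φ : H →* MulAut V) (hφ : Function.Injective φ) :
    (frattini H).index ≤ 2 ∧ Nat.card H ∣ r - 1 := by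
  haveI : IsCyclic V := isCyclic_of_prime_card hV
  let ψ : H →* (ZMod (Nat.card V))ˣ := (IsCyclic.mulAutMulEquiv V).toMonoidHom.comp φ
  have hψ : Function.Injective ψ := (IsCyclic.mulAutMulEquiv V).injective.comp hφ
  have hc : ∀ a b : H, a * b = b * a := fun a b => hψ (by rw [map_mul, map_mul, mul_comm])
  haveI : Fact (Nat.card V).Prime := ⟨hV ▸ Fact.out⟩
  refine ⟨(F_le_roots hH hc).trans ?_, ?_⟩
  · classical
    refine le_trans (Nat.card_le_card_of_injective (fun x : {x : H // x ^ 2 = 1} => decide (ψ x.1 = 1)) ?_) (by simp)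
    have hpm : ∀ x : {x : H // x ^ 2 = 1}, ψ x.1 = 1 ∨ ψ x.1 = -1 := by
      intro x
      have h1 : ((ψ x.1 : (ZMod (Nat.card V))ˣ) : ZMod (Nat.card V)) ^ 2 = 1 := by
        rw [← Units.val_pow_eq_pow_val, ← map_pow, x.2, map_one, Units.val_one]
      rcases sq_eq_one_iff.mp h1 with h | h
      · exact Or.inl (Units.ext h)
      · exact Or.inr (Units.ext h)
    intro x y hxy
    have hxy' : (ψ x.1 = 1 ↔ ψ y.1 = 1) := decide_eq_decide.mp hxy
    refine Subtype.ext (hψ ?_)
    rcases hpm x with h | h <;> rcases hpm y with h' | h' <;> rw [h, h']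
    · exact ((hxy'.mp h).symm.trans h')
    · exact (h.symm.trans (hxy'.mpr h'))
  · refine (Subgroup.card_dvd_of_injective ψ hψ).trans (dvd_of_eq ?_)
    rw [Nat.card_eq_fintype_card, ZMod.card_units, hV]

/-- The `2`-subgroups of the automorphism group of an elementary group of order nine have order at most 16. -/
theorem card_le_sixteen {H : Type u} [Group H] [Finite H] {V : Type v} [CommGroup V] [Finite V] (hH : IsPGroup 2 H)
    (hV : Nat.card V = 9) (hexp : ∀ v : V, v ^ 3 = 1) (φ : H →* MulAut V) (hφ : Function.Injective φ) :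
    Nat.card H ≤ 16 := by
  classical
  haveI : Nontrivial V := Finite.one_lt_card_iff_nontrivial.mp (by omega)
  obtain ⟨x, hx⟩ := exists_ne (1 : V)
  haveI h3 : Fact (Nat.Prime 3) := ⟨by norm_num⟩
  have hcx : Nat.card (zpowers x) = 3 := by rw [Nat.card_zpowers]; exact orderOf_eq_prime (hexp x) hx
  obtain ⟨y, hy⟩ : ∃ y, y ∉ zpowers x := by
    by_contra h
    push Not at h
    rw [(eq_top_iff' _).mpr h, card_top] at hcx
    omega
  have hq : Nat.card (V ⧸ zpowers x) = 3 := by
    have := (zpowers x).card_eq_card_quotient_mul_card_subgroup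
    rw [hV, hcx] at this; omega
  letI : MulAction H V := MulAction.compHom V φ
  have hsm : ∀ (h : H) (v : V), h • v = φ h v := fun _ _ => rfl
  have hmul : Nat.card (MulAction.orbit H x) * Nat.card (MulAction.stabilizer H x) = Nat.card H := by
    rw [mul_comm, Nat.card_congr (MulAction.orbitEquivQuotientStabilizer H x), ← index_eq_card, card_mul_index]
  have horb : Nat.card (MulAction.orbit H x) ≤ 8 := by
    have : Nat.card (MulAction.orbit H x) ≤ Nat.card ({1}ᶜ : Set V) := by
      refine Nat.card_mono (Set.toFinite _) fun v hv => ?_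
      obtain ⟨h, rfl⟩ := hv
      simp only [Set.mem_compl_iff, Set.mem_singleton_iff]
      intro h1
      exact hx ((φ h).injective (by rw [map_one]; exact h1))
    have h2 : ({1}ᶜ : Set V).ncard = 8 := by rw [Set.ncard_compl, Set.ncard_singleton, hV]
    rw [← Nat.card_coe_set_eq] at h2
    omega
  let q := QuotientGroup.mk' (zpowers x)
  have hqy : ∀ s : MulAction.stabilizer H x, q (φ (s : H) y) = q y ∨ q (φ (s : H) y) = (q y)⁻¹ := by
    intro s
    have hs : φ (s : H) x = x := s.2
    have hne : q (φ (s : H) y) ≠ 1 := by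
      intro h
      obtain ⟨i, hi⟩ := mem_zpowers_iff.mp ((QuotientGroup.eq_one_iff _).mp h)
      exact hy (mem_zpowers_iff.mpr ⟨i, (φ (s : H)).injective (by rw [map_zpow, hs, hi])⟩)
    have hqy0 : q y ≠ 1 := fun h => hy ((QuotientGroup.eq_one_iff _).mp h)
    obtain ⟨i, hi⟩ := mem_zpowers_iff.mp (mem_zpowers_of_prime_card hq hqy0 (g' := q (φ (s : H) y)))
    have hqy3 : q y ^ (3 : ℤ) = 1 := by
      rw [show ((3 : ℤ)) = ((3 : ℕ) : ℤ) by norm_num, zpow_natCast, ← map_pow, hexp, map_one]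
    rw [← hi] at hne ⊢
    rw [← Int.emod_add_mul_ediv i 3, zpow_add, zpow_mul, hqy3, one_zpow, mul_one] at hne ⊢
    rcases (show i % 3 = 0 ∨ i % 3 = 1 ∨ i % 3 = 2 by omega) with h | h | h <;> rw [h] at hne ⊢
    · exact absurd (zpow_zero _) hne
    · exact Or.inl (zpow_one _)
    · exact Or.inr (eq_inv_of_mul_eq_one_left (by rw [← zpow_add_one]; exact hqy3))
  have hstab : Nat.card (MulAction.stabilizer H x) ≤ 2 := by
    refine le_trans (Nat.card_le_card_of_injective (fun s => decide (q (φ (s : H) y) = q y)) ?_) (by simp)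
    intro s t hst
    have hst' : (q (φ (s : H) y) = q y ↔ q (φ (t : H) y) = q y) := decide_eq_decide.mp hst
    have heq : q (φ (s : H) y) = q (φ (t : H) y) := by
      rcases hqy s with h | h <;> rcases hqy t with h' | h' <;> rw [h, h']
      · exact ((hst'.mp h).symm.trans h')
      · exact (h.symm.trans (hst'.mpr h'))
    obtain ⟨i, hi⟩ := mem_zpowers_iff.mp (QuotientGroup.eq.mp heq)
    set u : MulAction.stabilizer H x := s⁻¹ * t
    have hux : φ (u : H) x = x := u.2
    have hsx : φ (s : H)⁻¹ x = x := (s⁻¹).2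
    have huy : φ (u : H) y = y * x ^ i := by
      have e1 : φ (t : H) y = φ (s : H) y * x ^ i := by rw [hi]; simp
      show φ ((s : H)⁻¹ * t) y = _
      rw [map_mul, MulAut.mul_apply, e1, map_mul, ← MulAut.mul_apply, ← map_mul, inv_mul_cancel, map_one,
        MulAut.one_apply, map_zpow, hsx]
    have htop : zpowers x ⊔ zpowers y = ⊤ := by
      have hlt : zpowers x < zpowers x ⊔ zpowers y :=
        lt_of_le_of_ne le_sup_left fun e => hy (e ▸ mem_sup_right (mem_zpowers y))
      have h1 : (zpowers x ⊔ zpowers y).index ∣ 3 := by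
        rw [← hq, ← index_eq_card]; exact index_dvd_of_le le_sup_left
      rcases (Nat.dvd_prime h3.out).mp h1 with h | h
      · exact index_eq_one.mp h
      · have := index_strictAnti hlt
        rw [h, index_eq_card, hq] at this
        omega
    have hu3 : φ ((u : H) ^ 3) = 1 := MulEquiv.ext fun v => by
      have hle : zpowers x ⊔ zpowers y ≤ MonoidHom.eqLocus (φ ((u : H) ^ 3)).toMonoidHom (MonoidHom.id V) := by
        refine sup_le (zpowers_le.mpr ?_) (zpowers_le.mpr ?_)
        · show φ ((u : H) ^ 3) x = x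
          simp [pow_succ, hux]
        · show φ ((u : H) ^ 3) y = y
          have e3 : (x ^ i) ^ 3 = 1 := hexp _
          simp only [pow_succ, pow_zero, one_mul, map_mul, MulAut.mul_apply, huy, map_zpow, hux]
          rw [mul_assoc, mul_assoc, ← mul_assoc (x ^ i)]
          simpa [pow_succ, mul_assoc] using congrArg (y * ·) e3
      exact hle (htop ▸ mem_top v)
    have hu1 : (u : H) = 1 := by
      have h1 : orderOf (u : H) ∣ 3 := orderOf_dvd_of_pow_eq_one ((injective_iff_map_eq_one φ).mp hφ _ hu3)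
      obtain ⟨k, hk⟩ := hH (u : H)
      refine orderOf_eq_one_iff.mp (Nat.eq_one_of_dvd_coprimes (Nat.Coprime.pow_left k (by norm_num : Nat.Coprime 2 3)) (orderOf_dvd_of_pow_eq_one hk) h1)
    exact Subtype.ext (inv_mul_eq_one.mp hu1)
  calc Nat.card H = _ := hmul.symm
    _ ≤ 8 * 2 := Nat.mul_le_mul horb hstab

theorem exists_pow_card {V : Type v} [CommGroup V] [Finite V] {r n : ℕ} [Fact r.Prime] (hV : Nat.card V = r ^ n)
    (A B : Subgroup V) (hsup : A ⊔ B = ⊤) (hinf : A ⊓ B = ⊥) (hA : A ≠ ⊥) (hB : B ≠ ⊥) :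
    ∃ a b, Nat.card A = r ^ a ∧ Nat.card B = r ^ b ∧ 1 ≤ a ∧ 1 ≤ b ∧ a + b = n := by
  obtain ⟨a, -, ha⟩ := (Nat.dvd_prime_pow (Fact.out : r.Prime)).mp (hV ▸ A.card_subgroup_dvd_card)
  obtain ⟨b, -, hb⟩ := (Nat.dvd_prime_pow (Fact.out : r.Prime)).mp (hV ▸ B.card_subgroup_dvd_card)
  refine ⟨a, b, ha, hb, ?_, ?_, Nat.pow_right_injective (Fact.out : r.Prime).two_le ?_⟩
  · by_contra h
    exact hA (card_eq_one.mp (by rw [ha, show a = 0 by omega, pow_zero]))
  · by_contra h
    exact hB (card_eq_one.mp (by rw [hb, show b = 0 by omega, pow_zero]))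
  · show r ^ (a + b) = r ^ n
    rw [pow_add, ← ha, ← hb, card_eq_mul A B hsup hinf, hV]

theorem bound {r : ℕ} [hrf : Fact r.Prime] (hr : Odd r) : ∀ (n : ℕ) (H : Type v) [Group H] [Finite H] (V : Type v)
    [CommGroup V] [Finite V], IsPGroup 2 H → Nat.card V = r ^ n → (∀ v : V, v ^ r = 1) →
    ∀ φ : H →* MulAut V, Function.Injective φ → (frattini H).index ≤ 2 ^ w r n := by
  intro n
  induction n using Nat.strong_induction_on with
  | _ n IH =>
  intro H _ _ V _ _ hH hV hexp φ hφ
  haveI := hH.isNilpotent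
  obtain hn | hn := Nat.lt_or_ge n 2
  · interval_cases n
    · haveI : Subsingleton V := (Nat.card_eq_one_iff_unique.mp (by rw [hV, pow_zero])).1
      haveI : Subsingleton (MulAut V) := ⟨fun a b => MulEquiv.ext fun v => Subsingleton.elim _ _⟩
      haveI : Subsingleton H := hφ.subsingleton
      refine le_trans (le_of_eq ?_) (Nat.one_le_two_pow)
      exact index_eq_one.mpr (Subsingleton.elim _ _)
    · rw [show w r 1 = 1 from rfl, pow_one]
      exact (F_le_two hH (hV.trans (pow_one r)) φ hφ).1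
  have red : ∀ (K : Subgroup H) (A B : Subgroup V) (a b : ℕ), Nat.card A = r ^ a → Nat.card B = r ^ b →
      a < n → b < n → A ⊔ B = ⊤ → (∀ h : K, ∀ v ∈ A, φ h v ∈ A) → (∀ h : K, ∀ v ∈ B, φ h v ∈ B) →
      (frattini K).index ≤ 2 ^ (w r a + w r b) := by
    intro K A B a b ha hb han hbn hsup hA hB
    have hKp := hH.to_subgroup K
    let fA := restr (φ.comp K.subtype) A hA
    refine (F_le_mul hKp fA).trans ?_
    rw [pow_add]
    refine Nat.mul_le_mul (IH a han _ _ (hKp.of_surjective fA.rangeRestrict fA.rangeRestrict_surjective) ha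
      (fun v => Subtype.ext (hexp v)) fA.range.subtype fA.range.subtype_injective) ?_
    refine IH b hbn _ _ (hKp.to_subgroup _) hb (fun v => Subtype.ext (hexp v))
      ((restr (φ.comp K.subtype) B hB).comp fA.ker.subtype) ?_
    intro g h hgh
    refine Subtype.ext (restr_injective (φ.comp K.subtype) (hφ.comp K.subtype_injective) A B hA hB hsup ?_)
    exact Prod.ext ((g.2 : fA _ = 1).trans (h.2 : fA _ = 1).symm) hgh
  have hsplit : ∀ e : H, e ^ 2 = 1 → ∀ v, φ e (φ e v) = v := fun e he v => by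
    rw [← MulAut.mul_apply, ← map_mul, ← pow_two, he, map_one]; rfl
  by_cases hcA : ∃ h ∈ center H, h ≠ 1 ∧ h ^ 2 = 1 ∧ ∃ v, φ h v ≠ v⁻¹
  · obtain ⟨e, hec, he1, he2, v₀, hv₀⟩ := hcA
    obtain ⟨hsup, hinf⟩ := split hr hexp (φ e) (hsplit e he2)
    set A : Subgroup V := ((φ e).toMonoidHom / MonoidHom.id V).ker
    set B : Subgroup V := ((φ e).toMonoidHom * MonoidHom.id V).ker
    have hmA : ∀ v, v ∈ A ↔ φ e v = v := fun v => by simp [A, MonoidHom.mem_ker, div_eq_one]
    have hmB : ∀ v, v ∈ B ↔ φ e v = v⁻¹ := fun v => by simp [B, MonoidHom.mem_ker, mul_eq_one_iff_eq_inv]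
    have hAne : A ≠ ⊥ := by
      intro h
      rw [h, bot_sup_eq] at hsup
      exact hv₀ ((hmB v₀).mp (hsup ▸ mem_top v₀))
    have hBne : B ≠ ⊥ := by
      intro h
      rw [h, sup_bot_eq] at hsup
      exact he1 ((injective_iff_map_eq_one φ).mp hφ e (MulEquiv.ext fun v => (hmA v).mp (hsup ▸ mem_top v)))
    obtain ⟨a, b, ha, hb, ha1, hb1, hab⟩ := exists_pow_card hV A B hsup hinf hAne hBne
    have hcom : ∀ (g : H) v, φ e (φ g v) = φ g (φ e v) := fun g v => by
      rw [← MulAut.mul_apply, ← map_mul, ← mem_center_iff.mp hec g, map_mul]; rfl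
    have h1 : (frattini (⊤ : Subgroup H)).index ≤ _ := red ⊤ A B a b ha hb (by omega) (by omega) hsup
      (fun h v hv => by rw [hmA] at hv ⊢; rw [hcom, hv])
      (fun h v hv => by rw [hmB] at hv ⊢; rw [hcom, hv, map_inv])
    have h2 := F_le_mul hH (MonoidHom.id H)
    refine le_trans ?_ (h1.trans (Nat.pow_le_pow_right (by norm_num) (hab ▸ w_add r a b ha1 hb1)))
    have hk : (frattini (MonoidHom.id H).ker).index = 1 := by
      haveI : Subsingleton (MonoidHom.id H).ker := by rw [MonoidHom.ker_id]; infer_instance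
      exact index_eq_one.mpr (Subsingleton.elim _ _)
    rw [hk, mul_one] at h2
    rw [MonoidHom.range_eq_top.mpr (Function.surjective_id : Function.Surjective (MonoidHom.id H))] at h2
    exact h2
  push Not at hcA
  have huniq : ∀ z z' : H, z ∈ center H → z' ∈ center H → z ≠ 1 → z' ≠ 1 → z ^ 2 = 1 → z' ^ 2 = 1 → z = z' :=
    fun z z' hz hz' h1 h1' h2 h2' => hφ (MulEquiv.ext fun v => by rw [hcA z hz h1 h2 v, hcA z' hz' h1' h2' v])
  by_cases hE : ∃ E : Subgroup H, E.Normal ∧ (∀ x ∈ E, x ^ 2 = 1) ∧ 2 < Nat.card E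
  · obtain ⟨E, hEn, hE2, hEc⟩ := hE
    haveI := hEn
    have hEne : E ≠ ⊥ := fun h => by rw [h, card_bot] at hEc; omega
    obtain ⟨z, hz, hz1⟩ := (Subgroup.ne_bot_iff_exists_ne_one.mp (Solvable.inf_center_ne_bot hEne))
    |> fun ⟨z, hz1⟩ => (⟨(z : H), z.2, fun h => hz1 (Subtype.ext h)⟩ : ∃ z, z ∈ E ⊓ center H ∧ z ≠ 1)
    have hzv : ∀ v, φ z v = v⁻¹ := hcA z hz.2 hz1 (hE2 z hz.1)
    set Z := zpowers z
    haveI hZn : Z.Normal := ⟨fun x hx g => by
      obtain ⟨i, rfl⟩ := mem_zpowers_iff.mp hx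
      rw [mem_center_iff.mp (Subgroup.zpow_mem _ hz.2 i) g, mul_inv_cancel_right]
      exact mem_zpowers_iff.mpr ⟨i, rfl⟩⟩
    have hZc : Nat.card Z = 2 := by
      haveI : Fact (Nat.Prime 2) := ⟨Nat.prime_two⟩
      rw [Nat.card_zpowers]; exact orderOf_eq_prime (hE2 z hz.1) hz1
    haveI : (E.map (QuotientGroup.mk' Z)).Normal := hEn.map _ (QuotientGroup.mk'_surjective Z)
    have hne : E.map (QuotientGroup.mk' Z) ≠ ⊥ := by
      rw [Ne, Subgroup.map_eq_bot_iff, QuotientGroup.ker_mk']
      intro h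
      have := card_le_of_le h
      omega
    obtain ⟨⟨_, ⟨⟨e, heE, rfl⟩, hec⟩⟩, he1⟩ := Subgroup.ne_bot_iff_exists_ne_one.mp (Solvable.inf_center_ne_bot hne)
    have heZ : e ∉ Z := fun h => he1 (Subtype.ext ((QuotientGroup.eq_one_iff e).mpr h))
    have hconj : ∀ g : H, g * e * g⁻¹ = e ∨ g * e * g⁻¹ = z * e := by
      intro g
      have h1 := mem_center_iff.mp hec (QuotientGroup.mk' Z g)
      rw [← map_mul, ← map_mul] at h1
      have h2 : g * e * g⁻¹ * e⁻¹ ∈ Z := by
        rw [← QuotientGroup.eq_one_iff, ← QuotientGroup.mk'_apply]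
        simp only [map_mul, map_inv] at h1 ⊢
        rw [h1]; group
      obtain ⟨i, hi⟩ := mem_zpowers_iff.mp h2
      rw [← Int.emod_add_mul_ediv i 2, zpow_add, zpow_mul, show z ^ (2 : ℤ) = 1 by exact_mod_cast hE2 z hz.1,
        one_zpow, mul_one] at hi
      rcases (show i % 2 = 0 ∨ i % 2 = 1 by omega) with h | h <;> rw [h] at hi
      · left; rw [zpow_zero, eq_comm, mul_inv_eq_one] at hi; exact hi
      · right; rw [zpow_one] at hi; exact eq_mul_of_mul_inv_eq hi.symm
    set M := centralizer ({e} : Set H)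
    have hmem : ∀ g, g ∈ M ↔ g * e * g⁻¹ = e := fun g => by
      rw [mem_centralizer_singleton_iff, mul_inv_eq_iff_eq_mul]
    obtain ⟨g₀, hg₀⟩ : ∃ g, g ∉ M := by
      by_contra h
      push Not at h
      exact heZ (by
        by_cases he1' : e = 1
        · exact he1' ▸ one_mem _
        · exact (huniq e z (mem_center_iff.mpr fun g => mem_centralizer_singleton_iff.mp (h g)) hz.2 he1' hz1
            (hE2 e heE) (hE2 z hz.1)) ▸ mem_zpowers z)
    have hoff : ∀ g, g ∉ M → g * e * g⁻¹ = z * e := fun g hg => (hconj g).resolve_left fun h => hg ((hmem g).mpr h)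
    have hzc : ∀ g, g * z = z * g := mem_center_iff.mp hz.2
    have hidx : M.index = 2 := by
      rw [index_eq_two_iff]
      refine ⟨g₀, fun b => ?_⟩
      by_cases hb : b ∈ M
      · refine Or.inr ⟨hb, fun h => hg₀ ?_⟩
        simpa using mul_mem (inv_mem hb) h
      · refine Or.inl ⟨(hmem _).mpr ?_, hb⟩
        rw [show b * g₀ * e * (b * g₀)⁻¹ = b * (g₀ * e * g₀⁻¹) * b⁻¹ by group, hoff g₀ hg₀,
          show b * (z * e) * b⁻¹ = (b * z) * (e * b⁻¹) by group, hzc, show z * b * (e * b⁻¹) = z * (b * e * b⁻¹) by group,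
          hoff b hb, ← mul_assoc, ← pow_two, hE2 z hz.1, one_mul]
    haveI hMn : M.Normal := normal_of_index_eq_two hidx
    obtain ⟨hsup, hinf⟩ := split hr hexp (φ e) (hsplit e (hE2 e heE))
    set A : Subgroup V := ((φ e).toMonoidHom / MonoidHom.id V).ker
    set B : Subgroup V := ((φ e).toMonoidHom * MonoidHom.id V).ker
    have hmA : ∀ v, v ∈ A ↔ φ e v = v := fun v => by simp [A, MonoidHom.mem_ker, div_eq_one]
    have hmB : ∀ v, v ∈ B ↔ φ e v = v⁻¹ := fun v => by simp [B, MonoidHom.mem_ker, mul_eq_one_iff_eq_inv]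
    have hswap : ∀ v, φ e (φ g₀ v) = (φ g₀ (φ e v))⁻¹ := fun v => by
      have h1 : e * g₀ = z * (g₀ * e) := by
        have h0 : g₀ * e = z * (e * g₀) := by rw [← mul_assoc, ← hoff g₀ hg₀]; group
        rw [h0, ← mul_assoc, ← pow_two, hE2 z hz.1, one_mul]
      rw [← MulAut.mul_apply, ← map_mul, h1, map_mul, MulAut.mul_apply, hzv, map_mul]; rfl
    have hAB : ∀ v ∈ A, φ g₀ v ∈ B := fun v hv => by rw [hmB, hswap, (hmA v).mp hv]
    have hBA : ∀ v ∈ B, φ g₀ v ∈ A := fun v hv => by rw [hmA, hswap, (hmB v).mp hv, map_inv, inv_inv]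
    have hcard : Nat.card A = Nat.card B := le_antisymm
      (Nat.card_le_card_of_injective (fun v : A => (⟨_, hAB v v.2⟩ : B)) fun u v h => Subtype.ext ((φ g₀).injective (congrArg Subtype.val h)))
      (Nat.card_le_card_of_injective (fun v : B => (⟨_, hBA v v.2⟩ : A)) fun u v h => Subtype.ext ((φ g₀).injective (congrArg Subtype.val h)))
    have hV1 : 1 < Nat.card V := by rw [hV]; exact Nat.one_lt_pow (by omega) (Fact.out : r.Prime).one_lt
    have hAne : A ≠ ⊥ := by
      intro h
      have := card_eq_mul A B hsup hinf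
      rw [← hcard, h, card_bot] at this; omega
    have hBne : B ≠ ⊥ := by
      intro h
      have := card_eq_mul A B hsup hinf
      rw [hcard, h, card_bot] at this; omega
    obtain ⟨a, b, ha, hb, ha1, hb1, hab⟩ := exists_pow_card hV A B hsup hinf hAne hBne
    have hab' : b = a := Nat.pow_right_injective (Fact.out : r.Prime).two_le (by show r ^ b = r ^ a; rw [← ha, ← hb, hcard])
    subst hab'
    have hcom : ∀ (g : M) v, φ e (φ (g : H) v) = φ (g : H) (φ e v) := fun g v => by
      rw [← MulAut.mul_apply, ← map_mul, ← mem_centralizer_singleton_iff.mp g.2, map_mul]; rfl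
    have hMA : ∀ h : M, ∀ v ∈ A, φ (h : H) v ∈ A := fun h v hv => by rw [hmA] at hv ⊢; rw [hcom, hv]
    have hMB : ∀ h : M, ∀ v ∈ B, φ (h : H) v ∈ B := fun h v hv => by rw [hmB] at hv ⊢; rw [hcom, hv, map_inv]
    by_cases h3 : r = 3 ∧ b = 1
    · obtain ⟨rfl, rfl⟩ := h3
      let fA := restr (φ.comp M.subtype) A hMA
      have hMp := hH.to_subgroup M
      have h1 : Nat.card fA.range ∣ 2 := (F_le_two (hMp.of_surjective fA.rangeRestrict fA.rangeRestrict_surjective)
        (ha.trans (pow_one 3)) fA.range.subtype fA.range.subtype_injective).2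
      have h2 : Nat.card fA.ker ∣ 2 := (F_le_two (hMp.to_subgroup _) (hb.trans (pow_one 3))
        ((restr (φ.comp M.subtype) B hMB).comp fA.ker.subtype) (by
          intro g h hgh
          refine Subtype.ext (restr_injective (φ.comp M.subtype) (hφ.comp M.subtype_injective) A B hMA hMB hsup ?_)
          exact Prod.ext ((g.2 : fA _ = 1).trans (h.2 : fA _ = 1).symm) hgh)).2
      have hM4 : Nat.card M ≤ 4 := by
        rw [← fA.ker.card_mul_index, index_ker]
        exact Nat.mul_le_mul (Nat.le_of_dvd two_pos h2) (Nat.le_of_dvd two_pos h1)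
      have hH8 : Nat.card H ≤ 8 := by rw [← M.card_mul_index, hidx]; omega
      have hz' : ⁅g₀, e⁆ = z := by rw [commutatorElement_def, hoff g₀ hg₀, mul_inv_cancel_right]
      have hΦ : 2 ≤ Nat.card (frattini H) := by
        refine (Subgroup.one_lt_card_iff_ne_bot _).mpr fun h => hz1 ?_
        have := Cores.commutator_le_frattini (commutator_mem_commutator (mem_top g₀) (mem_top e))
        rwa [hz', h, mem_bot] at this
      rw [← hab, show w 3 (1 + 1) = 2 from rfl]
      have := (frattini H).card_mul_index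
      have := Nat.mul_le_mul_right (frattini H).index hΦ
      omega
    have hred := red M A B b b ha hb (by omega) (by omega) hsup hMA hMB
    have h2 := F_le_mul hH (QuotientGroup.mk' M)
    rw [QuotientGroup.ker_mk'] at h2
    have hr2 : (frattini (QuotientGroup.mk' M).range).index ≤ 2 := by
      refine (Nat.le_of_dvd Nat.card_pos (Subgroup.index_dvd_card _)).trans ?_
      refine le_trans (card_le_card_group _) ?_
      rw [← index_eq_card, hidx]
    refine h2.trans ((Nat.mul_le_mul hr2 hred).trans ?_)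
    rw [← pow_succ', ← hab, Nat.add_comm (w r b + w r b) 1]
    exact Nat.pow_le_pow_right (by norm_num) (w_double r b hb1 (by omega))
  push Not at hE
  obtain ⟨A, hAn, hAc, hAC⟩ := OddLocal.exists_normal_abelian_centralizer_le H
  haveI := hAn
  have hAcom : ∀ a b : A, a * b = b * a := hAc.is_comm.comm
  have hroot2 : Nat.card {x : A // x ^ 2 = 1} ≤ 2 := by
    let E : Subgroup H :=
      { carrier := {x | x ∈ A ∧ x ^ 2 = 1}
        one_mem' := ⟨one_mem _, one_pow _⟩
        mul_mem' := fun {x y} hx hy => ⟨mul_mem hx.1 hy.1, by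
          rw [(show Commute x y from congrArg Subtype.val (hAcom ⟨x, hx.1⟩ ⟨y, hy.1⟩)).mul_pow, hx.2, hy.2, one_mul]⟩
        inv_mem' := fun {x} hx => ⟨inv_mem hx.1, by rw [inv_pow, hx.2, inv_one]⟩ }
    have := hE E ⟨fun x hx g => ⟨hAn.conj_mem x hx.1 g, by rw [conj_pow, hx.2, mul_one, mul_inv_cancel]⟩⟩ fun x hx => hx.2
    refine le_trans (le_of_eq (Nat.card_congr ?_)) this
    exact { toFun := fun x => ⟨x.1.1, x.1.2, congrArg Subtype.val x.2⟩
            invFun := fun x => ⟨⟨x.1, x.2.1⟩, Subtype.ext x.2.2⟩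
            left_inv := fun _ => rfl
            right_inv := fun _ => rfl }
  haveI : IsCyclic A := Frobenius.isCyclic_of_commute_of_prime_roots hAcom fun p hp => by
    by_cases hp2 : p = 2
    · subst hp2; exact hroot2
    · haveI : Subsingleton {x : A // x ^ p = 1} := ⟨fun x y => by
        have key : ∀ x : {x : A // x ^ p = 1}, x.1 = 1 := fun x => by
          obtain ⟨k, hk⟩ := hH.to_subgroup A x.1
          exact orderOf_eq_one_iff.mp (Nat.eq_one_of_dvd_coprimes (Nat.Coprime.pow_left k ((Nat.coprime_primes Nat.prime_two hp).mpr (Ne.symm hp2)))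
            (orderOf_dvd_of_pow_eq_one hk) (orderOf_dvd_of_pow_eq_one x.2))
        exact Subtype.ext ((key x).trans (key y).symm)⟩
      exact le_trans (Finite.card_le_one_iff_subsingleton.mpr this) hp.one_lt.le
  let c : H →* MulAut A := MulAut.conjNormal
  have hker : c.ker ≤ A := fun g hg => hAC (mem_centralizer_iff.mpr fun a ha => by
    have := congrArg Subtype.val (DFunLike.congr_fun (MonoidHom.mem_ker.mp hg) ⟨a, ha⟩)
    simp only [c, MulAut.conjNormal_apply, MulAut.one_apply] at this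
    exact (mul_inv_eq_iff_eq_mul.mp this).symm)
  have hkerF : (frattini c.ker).index ≤ 2 := by
    refine (F_le_roots (hH.to_subgroup _) fun a b => Subtype.ext (congrArg Subtype.val (hAcom ⟨a, hker a.2⟩ ⟨b, hker b.2⟩) :)).trans ?_
    refine le_trans (Nat.card_le_card_of_injective (fun x => (⟨⟨x.1.1, hker x.1.2⟩, Subtype.ext (by simpa using congrArg Subtype.val x.2)⟩ : {x : A // x ^ 2 = 1})) ?_) hroot2
    intro x y h
    exact Subtype.ext (Subtype.ext (congrArg (fun t : {x : A // x ^ 2 = 1} => ((t.1 : A) : H)) h))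
  obtain ⟨k, hk⟩ := IsPGroup.iff_card.mp (hH.to_subgroup A)
  let e : MulAut A ≃* (ZMod (2 ^ k))ˣ := hk ▸ (IsCyclic.mulAutMulEquiv A)
  let ψ : c.range →* (ZMod (2 ^ k))ˣ := e.toMonoidHom.comp c.range.subtype
  have hψ : Function.Injective ψ := e.injective.comp c.range.subtype_injective
  have hrangeF : (frattini c.range).index ≤ 4 := by
    refine (F_le_roots (hH.of_surjective c.rangeRestrict c.rangeRestrict_surjective) fun a b => hψ (by rw [map_mul, map_mul, mul_comm])).trans ?_
    refine le_trans (Nat.card_le_card_of_injective (fun x => (⟨ψ x.1, by rw [← map_pow, x.2, map_one]⟩ : {u : (ZMod (2 ^ k))ˣ // u ^ 2 = 1})) ?_) (sq_roots_units_le k)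
    intro x y h
    exact Subtype.ext (hψ (congrArg Subtype.val h))
  refine (F_le_mul hH c).trans ?_
  by_cases h3 : r = 3 ∧ n = 2
  · obtain ⟨rfl, rfl⟩ := h3
    have hr2 : Nat.card c.range ≤ 2 := by
      obtain hk3 | hk3 := Nat.lt_or_ge k 3
      · refine (Nat.card_le_card_of_injective ψ hψ).trans ?_
        haveI : NeZero (2 ^ k) := ⟨by positivity⟩
        rw [Nat.card_eq_fintype_card, ZMod.card_units_eq_totient]
        interval_cases k <;> decide
      · have h16 := card_le_sixteen hH hV hexp φ hφ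
        have h1 : Nat.card c.ker * Nat.card c.range = Nat.card H := by rw [← index_ker, c.ker.card_mul_index]
        have h2 : Nat.card A ≤ Nat.card c.ker := card_le_of_le fun a ha => MonoidHom.mem_ker.mpr (MulEquiv.ext fun b => Subtype.ext (by
          simp only [c, MulAut.conjNormal_apply, MulAut.one_apply]
          rw [mul_inv_eq_iff_eq_mul]; exact congrArg Subtype.val (hAcom ⟨a, ha⟩ b)))
        have h8 : 8 ≤ Nat.card A := by rw [hk]; exact (by norm_num : 8 = 2 ^ 3) ▸ Nat.pow_le_pow_right two_pos hk3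
        by_contra hc
        have := Nat.mul_le_mul (h8.trans h2) (not_le.mp hc)
        omega
    have := (Nat.le_of_dvd Nat.card_pos (Subgroup.index_dvd_card (frattini c.range))).trans hr2
    exact le_trans (Nat.mul_le_mul this hkerF) (by decide)
  · refine (Nat.mul_le_mul hrangeF hkerF).trans (le_trans (le_of_eq (by norm_num : 4 * 2 = 2 ^ 3)) (Nat.pow_le_pow_right two_pos ?_))
    unfold w
    split_ifs <;> omega

/-- Let G be a finite group that is the semidirect product of a normal abelian subgroup N of odd order by a 2-subgroup P, and suppose N is the unique minimal normal subgroup of G. Then the index of the Frattini subgroup of P in P is at most #N − 1. -/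
theorem result {G : Type*} [Group G] [Finite G] (N P : Subgroup G) (hN : N.Normal) (hNab : IsMulCommutative ↥N) (hNodd : Odd (Nat.card ↥N)) (hP : IsPGroup 2 ↥P) (hdisj : N ⊓ P = ⊥) (hprod : N ⊔ P = ⊤) (hmin : N ≠ ⊥ ∧ ∀ M : Subgroup G, M.Normal → M ≠ ⊥ → N ≤ M) : (frattini ↥P).index ≤ Nat.card ↥N - 1 := by
  haveI := hN
  obtain ⟨r, hr, hrd⟩ := Nat.exists_prime_and_dvd (fun h => hmin.1 (Subgroup.card_eq_one.mp h) : Nat.card N ≠ 1)
  haveI : Fact r.Prime := ⟨hr⟩
  have hrodd : Odd r := by
    rcases hr.eq_two_or_odd' with rfl | h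
    · exact absurd hrd (Nat.two_dvd_ne_zero.mpr (Nat.odd_iff.mp hNodd))
    · exact h
  have hcom : ∀ a b : N, a * b = b * a := hNab.is_comm.comm
  let Ω : Subgroup G :=
    { carrier := {x | x ∈ N ∧ x ^ r = 1}
      one_mem' := ⟨one_mem _, one_pow _⟩
      mul_mem' := fun {x y} hx hy => ⟨mul_mem hx.1 hy.1, by
        rw [(show Commute x y from congrArg Subtype.val (hcom ⟨x, hx.1⟩ ⟨y, hy.1⟩)).mul_pow, hx.2, hy.2, one_mul]⟩
      inv_mem' := fun {x} hx => ⟨inv_mem hx.1, by rw [inv_pow, hx.2, inv_one]⟩ }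
  have hΩ : Ω ≠ ⊥ := by
    obtain ⟨x, hx⟩ := exists_prime_orderOf_dvd_card' r hrd
    intro h
    have h1 : (x : G) ∈ Ω := ⟨x.2, by rw [← Subgroup.coe_pow, ← hx, pow_orderOf_eq_one, Subgroup.coe_one]⟩
    rw [h, Subgroup.mem_bot] at h1
    rw [show x = 1 from Subtype.ext h1, orderOf_one] at hx
    exact hr.one_lt.ne hx
  have hexp : ∀ x ∈ N, x ^ r = 1 := fun x hx =>
    (hmin.2 Ω ⟨fun x hx g => ⟨hN.conj_mem x hx.1 g, by rw [conj_pow, hx.2, mul_one, mul_inv_cancel]⟩⟩ hΩ hx).2
  have hNr : IsPGroup r N := fun x => ⟨1, Subtype.ext (by rw [pow_one]; exact hexp x x.2)⟩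
  obtain ⟨n, hn⟩ := IsPGroup.iff_card.mp hNr
  have hn1 : 1 ≤ n := by
    by_contra h
    exact hmin.1 (Subgroup.card_eq_one.mp (by rw [hn, show n = 0 by omega, pow_zero]))
  letI : CommGroup N := { (inferInstance : Group N) with mul_comm := hcom }
  let φ : P →* MulAut N := (MulAut.conjNormal (H := N)).comp P.subtype
  have hφ : Function.Injective φ := by
    rw [injective_iff_map_eq_one]
    intro g hg
    set K := P ⊓ Subgroup.centralizer (N : Set G)
    have hgK : (g : G) ∈ K := ⟨g.2, Subgroup.mem_centralizer_iff.mpr fun x hx => by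
      have := congrArg Subtype.val (DFunLike.congr_fun hg ⟨x, hx⟩)
      simp only [φ, MonoidHom.comp_apply, MulAut.conjNormal_apply, MulAut.one_apply, Subgroup.coe_subtype] at this
      exact (mul_inv_eq_iff_eq_mul.mp this).symm⟩
    have hKn : K.Normal := Subgroup.normalizer_eq_top_iff.mp (top_le_iff.mp (hprod ▸ sup_le (by
        intro y hy
        have hc : ∀ y ∈ N, ∀ x ∈ K, y * x * y⁻¹ = x := fun y hy x hx => by
          rw [Subgroup.mem_centralizer_iff.mp hx.2 y hy, mul_inv_cancel_right]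
        refine Subgroup.mem_normalizer_iff.mpr fun x => ⟨fun hx => ?_, fun hx => ?_⟩
        · rw [hc y hy x hx]; exact hx
        · have h1 := hc y⁻¹ (inv_mem hy) _ hx
          rw [show y⁻¹ * (y * x * y⁻¹) * y⁻¹⁻¹ = x by group] at h1
          rw [h1]; exact hx)
      (by
        intro y hy
        refine Subgroup.mem_normalizer_iff.mpr fun x => ?_
        have hc : ∀ y ∈ P, ∀ x ∈ K, y * x * y⁻¹ ∈ K := fun y hy x hx => ⟨P.mul_mem (P.mul_mem hy hx.1) (P.inv_mem hy),
          (Subgroup.Normal.conj_mem inferInstance x hx.2 y)⟩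
        exact ⟨hc y hy x, fun h => by simpa [mul_assoc] using hc y⁻¹ (inv_mem hy) _ h⟩)))
    by_contra hg1
    have hKb : K ≠ ⊥ := fun h => hg1 (Subtype.ext (by rw [h, Subgroup.mem_bot] at hgK; exact hgK))
    obtain ⟨⟨x, hx⟩, hx1⟩ := Subgroup.ne_bot_iff_exists_ne_one.mp hmin.1
    have : x ∈ N ⊓ P := ⟨hx, (hmin.2 K hKn hKb hx).1⟩
    rw [hdisj, Subgroup.mem_bot] at this
    exact hx1 (Subtype.ext this)
  have h1 := bound hrodd n P N hP hn (fun v => Subtype.ext (hexp v v.2)) φ hφ
  have h2 := w_pow_lt r n (by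
    rcases hrodd with ⟨t, ht⟩
    have := hr.two_le
    omega) (fun h => by rw [h] at hr; norm_num at hr) hn1
  omega

end Cfsg.Agent.S4188
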