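import Cfsg.Statements.S4189
import Cfsg.Agent.Lib.PGroups.BurnsideBasis
import Cfsg.Agent.Lib.Cores.Frattini
import Cfsg.Agent.Lib.Frobenius.UniqueSubgroup
import Mathlib.GroupTheory.Nilpotent
import Mathlib.Tactic

set_option autoImplicit false
open Cfsg

namespace Cfsg.Agent.S4189

open Cfsg.Agent.Lib
open scoped commutatorElement

theorem eq_bot_of_le_commutator {P : Type*} [Group P] [Group.IsNilpotent P] {N : Subgroup P}
    (h : N ≤ ⁅N, (⊤ : Subgroup P)⁆) : N = ⊥ := by
  rw [eq_bot_iff, ← lowerCentralSeries_nilpotencyClass (G := P)]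
  suffices ∀ n, N ≤ Subgroup.lowerCentralSeries (⊤ : Subgroup P) n from this _
  intro n
  induction n with
  | zero => exact le_top
  | succ n ih =>
    rw [Subgroup.lowerCentralSeries_succ]
    exact h.trans (Subgroup.commutator_mono ih le_rfl)

theorem mk_commute {P : Type*} [Group P] {N : Subgroup P} [N.Normal] {a b : P} :
    Commute (QuotientGroup.mk' N a) (QuotientGroup.mk' N b) ↔ ⁅a, b⁆ ∈ N := by
  rw [← QuotientGroup.eq_one_iff]
  show _ ↔ QuotientGroup.mk' N ⁅a, b⁆ = 1
  rw [map_commutatorElement, commutatorElement_eq_one_iff_commute]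

/-- Let P be a finite non-abelian 2-group whose commutator subgroup has index 4 and whose automorphism group is not a 2-group (some automorphism has order that is not a power of 2). Then P is isomorphic to the quaternion group of order 8. -/
theorem result {P : Type*} [Group P] [Finite P] (hP : IsPGroup 2 P) (hna : ¬ IsMulCommutative P) (h4 : (commutator P).index = 4) (haut : ¬ IsPGroup 2 (MulAut P)) : Nonempty (P ≃* QuaternionGroup 2) := by
  haveI := Fact.mk Nat.prime_two
  haveI := hP.isNilpotent
  set F := frattini P with hF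
  have hne : ¬ IsCyclic P := fun h => hna h.isMulCommutative
  have hFq : ∀ q : P ⧸ F, q ^ 2 = 1 := Cores.pow_eq_one_quotient_frattini hP
  have hF4 : 4 ≤ F.index := by
    obtain ⟨k, hk⟩ := hP.index F
    rw [hk]
    by_contra hlt
    apply hne
    have hk1 : k ≤ 1 := by
      by_contra hk2
      exact hlt ((by norm_num : 4 ≤ 2 ^ 2).trans (Nat.pow_le_pow_right two_pos (by omega)))
    have hd : Nat.card (P ⧸ F) ∣ 2 ^ 1 := by
      rw [← Subgroup.index_eq_card, hk]; exact pow_dvd_pow 2 hk1
    obtain ⟨f, hf⟩ := PGroups.exists_generators_of_card hd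
    choose g hg using fun i => QuotientGroup.mk'_surjective F (f i)
    have h1 := PGroups.closure_eq_top_of_mk g (by
      rwa [show (fun i => (g i : P ⧸ frattini P)) = f from funext hg])
    rw [Set.range_unique, ← Subgroup.zpowers_eq_closure] at h1
    exact (isCyclic_iff_exists_zpowers_eq_top.mpr ⟨_, h1⟩)
  have hCF : commutator P = F := by
    refine Subgroup.eq_of_le_of_card_ge Cores.commutator_le_frattini ?_
    have h1 := (commutator P).card_mul_index
    have h2 := F.card_mul_index
    rw [h4] at h1
    nlinarith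
  have hFi : F.index = 4 := hCF ▸ h4
  -- an automorphism of odd order moves some coset of the Frattini subgroup
  obtain ⟨q, hq, hq2, α, hαo⟩ : ∃ q, Nat.Prime q ∧ q ≠ 2 ∧ ∃ α : MulAut P, orderOf α = q := by
    by_contra hall
    push Not at hall
    refine haut (IsPGroup.of_card (n := (Nat.card (MulAut P)).primeFactorsList.length)
      (Nat.eq_prime_pow_of_unique_prime_dvd Nat.card_pos.ne' fun {d} hd hdd => ?_))
    by_contra hd2
    haveI := Fact.mk hd
    obtain ⟨α, hα⟩ := exists_prime_orderOf_dvd_card' (G := MulAut P) d hdd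
    exact hall d hd hd2 α hα
  haveI := Fact.mk hq
  let mk := QuotientGroup.mk' F
  have hαF : ∀ z : P, z ∈ F → α z ∈ F := fun z hz => by
    rw [hF, ← Cores.map_frattini_equiv α]; exact Subgroup.mem_map_of_mem _ hz
  have hcong : ∀ a b : P, mk a = mk b → mk (α a) = mk (α b) := by
    intro a b h
    have h2 := hαF _ (QuotientGroup.eq.mp h)
    rw [map_mul, map_inv] at h2
    exact QuotientGroup.eq.mpr h2
  obtain ⟨x, hx⟩ : ∃ x, mk (α x) ≠ mk x := by
    by_contra hall
    push Not at hall
    have hfix : ∀ c : P ⧸ F, ∃ z : P, mk z = c ∧ α z = z := by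
      intro c
      let X := {z : P // mk z = c}
      letI : MulAction (Subgroup.zpowers α) X :=
        { smul := fun β z => ⟨(β : MulAut P) z.1, by
            have key : ∀ β ∈ Subgroup.zpowers α, ∀ z : P, mk (β z) = mk z := by
              intro β hβ
              obtain ⟨i, rfl⟩ := mem_powers_iff_mem_zpowers.mpr hβ
              intro z
              induction i generalizing z with
              | zero => simp
              | succ i ih =>
                show mk ((α ^ (i + 1)) z) = mk z
                rw [pow_succ, MulAut.mul_apply]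
                exact (ih ((Submonoid.pow_mem (Subgroup.zpowers α).toSubmonoid (Subgroup.mem_zpowers α) i)) (α z)).trans (hall z)
            rw [key _ β.2]; exact z.2⟩
          one_smul := fun z => Subtype.ext rfl
          mul_smul := fun a b z => Subtype.ext rfl }
      have hXc : Nat.card X = Nat.card F := by
        have e : X ≃ (QuotientGroup.mk ⁻¹' ({c} : Set (P ⧸ F)) : Set P) := Equiv.subtypeEquivRight fun z => Iff.rfl
        rw [Nat.card_congr (e.trans (QuotientGroup.preimageMkEquivSubgroupProdSet F _)), Nat.card_prod]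
        simp
      have hqX : ¬ q ∣ Nat.card X := by
        obtain ⟨j, hj⟩ := IsPGroup.iff_card.mp (hP.to_subgroup F)
        rw [hXc, hj]
        exact fun hd => hq2 ((Nat.prime_dvd_prime_iff_eq hq Nat.prime_two).mp (hq.dvd_of_dvd_pow hd))
      obtain ⟨z, hz⟩ := (IsPGroup.of_card (n := 1) (by rw [Nat.card_zpowers, hαo, pow_one]) :
        IsPGroup q (Subgroup.zpowers α)).nonempty_fixed_point_of_prime_not_dvd_card X hqX
      exact ⟨z.1, z.2, congrArg Subtype.val (hz ⟨α, Subgroup.mem_zpowers α⟩)⟩
    choose z hz1 hz2 using hfix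
    obtain ⟨f, hf⟩ := PGroups.exists_generators_of_card (Q := P ⧸ F) (p := 2) (r := 2)
      (by rw [← Subgroup.index_eq_card, hFi]; norm_num)
    have hα1 := PGroups.aut_eq_one_of_fix_generators (fun i => z (f i))
      (PGroups.closure_eq_top_of_mk _ (by
        rwa [show (fun i => (z (f i) : P ⧸ frattini P)) = f from funext fun i => hz1 (f i)]))
      α (fun i => hz2 (f i))
    rw [hα1, orderOf_one] at hαo
    exact hq.ne_one hαo.symm
  set y := α x with hy
  have hx1 : mk x ≠ 1 := fun h => hx (by
    rw [h]
    have := hcong x 1 (h.trans (map_one mk).symm)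
    rwa [map_one, map_one] at this)
  have hy1 : mk y ≠ 1 := fun h => by
    have h' := hαF
    have hinj : α.symm y ∈ F := by
      rw [hF, ← Cores.map_frattini_equiv α.symm]
      exact Subgroup.mem_map_of_mem _ ((QuotientGroup.eq_one_iff y).mp h)
    rw [hy, MulEquiv.symm_apply_apply] at hinj
    exact hx1 ((QuotientGroup.eq_one_iff x).mpr hinj)
  have hself : ∀ c : P ⧸ F, c * c = 1 := fun c => by rw [← sq]; exact hFq c
  have hinv : ∀ c : P ⧸ F, c⁻¹ = c := fun c => inv_eq_of_mul_eq_one_right (hself c)
  have hfour : ∀ c : P ⧸ F, c = 1 ∨ c = mk x ∨ c = mk y ∨ c = mk x * mk y := by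
    classical
    haveI := Fintype.ofFinite (P ⧸ F)
    have hxy : mk x * mk y ≠ 1 := fun h => hx (by
      rw [← hinv (mk x)]; exact eq_inv_of_mul_eq_one_right h)
    have h1 : mk x * mk y ≠ mk x := fun h => hy1 (mul_left_cancel (h.trans (mul_one _).symm))
    have h2 : mk x * mk y ≠ mk y := fun h => hx1 (mul_right_cancel (h.trans (one_mul _).symm))
    have hcard : ({1, mk x, mk y, mk x * mk y} : Finset (P ⧸ F)).card = 4 := by
      rw [Finset.card_insert_of_notMem (by simp [hx1.symm, hy1.symm, hxy.symm]),
        Finset.card_insert_of_notMem (by simp [Ne.symm hx, h1.symm]),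
        Finset.card_insert_of_notMem (by simp [h2.symm]), Finset.card_singleton]
    intro c
    have huniv := Finset.eq_univ_of_card _ (hcard.trans
      (by rw [← Nat.card_eq_fintype_card, ← Subgroup.index_eq_card, hFi]))
    have : c ∈ ({1, mk x, mk y, mk x * mk y} : Finset (P ⧸ F)) := huniv ▸ Finset.mem_univ c
    simpa using this
  have hαy : mk (α y) = mk x * mk y := by
    rcases hfour (mk (α y)) with h | h | h | h
    · exfalso
      have hmem : α.symm (α y) ∈ F := by
        rw [hF, ← Cores.map_frattini_equiv α.symm]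
        exact Subgroup.mem_map_of_mem _ ((QuotientGroup.eq_one_iff _).mp h)
      rw [MulEquiv.symm_apply_apply] at hmem
      exact hy1 ((QuotientGroup.eq_one_iff y).mpr hmem)
    · exfalso
      -- then the square of `α` fixes the coset of `x`, and so does `α`
      have heven : ∀ i : ℕ, mk ((α ^ (2 * i)) x) = mk x := by
        intro i
        induction i with
        | zero => simp
        | succ i ih =>
          rw [show 2 * (i + 1) = 1 + (1 + 2 * i) by ring, pow_add, pow_add, pow_one, MulAut.mul_apply,
            MulAut.mul_apply, hcong _ _ (hcong _ _ ih)]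
          exact h
      obtain ⟨l, hl⟩ := hq.eq_two_or_odd'.resolve_left hq2
      refine hx ?_
      have h1 := heven (l + 1)
      rwa [show 2 * (l + 1) = q + 1 by omega, pow_succ, ← hαo, pow_orderOf_eq_one, one_mul] at h1
    · exfalso
      have h1 : α.symm (α y) * (α.symm (α x))⁻¹ ∈ F := by
        have h2 : α y * (α x)⁻¹ ∈ F := by
          rw [← QuotientGroup.eq_one_iff]
          show mk (α y * (α x)⁻¹) = 1
          rw [map_mul, map_inv, h, ← hy, mul_inv_cancel]
        rw [hF, ← Cores.map_frattini_equiv α.symm]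
        exact ⟨α y * (α x)⁻¹, h2, by simp⟩
      rw [MulEquiv.symm_apply_apply, MulEquiv.symm_apply_apply, ← QuotientGroup.eq_one_iff] at h1
      refine hx (mul_inv_eq_one.mp ?_)
      rw [← map_inv, ← map_mul]
      exact h1
    · exact h
  -- generators
  have hgen : Subgroup.closure ({x, y} : Set P) = ⊤ := by
    apply frattini_nongenerating
    rw [eq_top_iff]
    intro z _
    have key : ∀ w ∈ Subgroup.closure ({x, y} : Set P), mk z = mk w →
        z ∈ Subgroup.closure ({x, y} : Set P) ⊔ frattini P := by
      intro w hw h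
      have := Subgroup.mul_mem_sup hw (QuotientGroup.eq.mp h.symm)
      rwa [mul_inv_cancel_left] at this
    rcases hfour (mk z) with h | h | h | h
    · exact key 1 (one_mem _) (by rw [h, map_one])
    · exact key x (Subgroup.subset_closure (Set.mem_insert _ _)) h
    · exact key y (Subgroup.subset_closure (Set.mem_insert_of_mem _ rfl)) h
    · exact key (x * y) (mul_mem (Subgroup.subset_closure (Set.mem_insert _ _))
        (Subgroup.subset_closure (Set.mem_insert_of_mem _ rfl))) (by rw [h, map_mul])
  set z := ⁅x, y⁆ with hz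
  set C := commutator P with hC
  set P3 := ⁅C, (⊤ : Subgroup P)⁆ with hP3
  haveI hP3n : P3.Normal := Subgroup.commutator_normal _ _
  have hP3C : P3 ≤ C := Subgroup.commutator_le_left _ _
  let π := QuotientGroup.mk' P3
  have hcen : ∀ c ∈ C, ∀ g : P, Commute (π c) (π g) := fun c hc g =>
    mk_commute.mpr (Subgroup.commutator_mem_commutator hc (Subgroup.mem_top g))
  have hsqC : ∀ g : P, g * g ∈ C := fun g => by
    rw [hCF, ← QuotientGroup.eq_one_iff]; exact hself (g : P ⧸ F)
  have hzC : z ∈ C := Subgroup.commutator_mem_commutator (Subgroup.mem_top x) (Subgroup.mem_top y)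
  -- `C = P3 ⟨z⟩`
  have hCgen : C ≤ P3 ⊔ Subgroup.zpowers z := by
    set K := P3 ⊔ Subgroup.zpowers z with hK
    haveI hKn : K.Normal := by
      refine ⟨fun k hk g => ?_⟩
      have hkC : k ∈ C := (sup_le hP3C (Subgroup.zpowers_le.mpr hzC)) hk
      have h1 : ⁅k, g⁆ ∈ K := Subgroup.mem_sup_left (Subgroup.commutator_mem_commutator hkC (Subgroup.mem_top g))
      have h2 : g * k * g⁻¹ = ⁅k, g⁆⁻¹ * k := by rw [commutatorElement_def]; group
      rw [h2]; exact mul_mem (inv_mem h1) hk
    refine Subgroup.Normal.quotient_commutative_iff_commutator_le.mp ⟨⟨fun u v => ?_⟩⟩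
    have hab : Commute (QuotientGroup.mk' K x) (QuotientGroup.mk' K y) :=
      mk_commute.mpr (Subgroup.mem_sup_right (Subgroup.mem_zpowers z))
    have hgen' : ∀ w : P ⧸ K, w ∈ Subgroup.closure ({QuotientGroup.mk' K x, QuotientGroup.mk' K y} : Set _) := by
      intro w
      obtain ⟨g, rfl⟩ := QuotientGroup.mk'_surjective _ w
      have := Subgroup.mem_map_of_mem (QuotientGroup.mk' K) (show g ∈ Subgroup.closure ({x, y} : Set P) from hgen ▸ Subgroup.mem_top g)
      rwa [MonoidHom.map_closure, Set.image_insert_eq, Set.image_singleton] at this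
    refine Subgroup.closure_induction₂ (p := fun u v _ _ => u * v = v * u) ?_ (fun _ _ => by simp)
      (fun _ _ => by simp) (fun u v w _ _ _ h1 h2 => Commute.mul_left h1 h2)
      (fun u v w _ _ _ h1 h2 => Commute.mul_right h1 h2) (fun u v _ _ h => Commute.inv_left h)
      (fun u v _ _ h => Commute.inv_right h) (hgen' u) (hgen' v)
    rintro u v (rfl | rfl) (rfl | rfl)
    · rfl
    · exact hab
    · exact hab.symm
    · rfl
  have hz2 : π z * π z = 1 := by
    have h1 : Commute (π (x * x)) (π y) := hcen _ (hsqC x) y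
    have h2 : π z * π y = π x * π y * (π x)⁻¹ := by
      rw [hz, map_commutatorElement, commutatorElement_def]; group
    have h3 : π x * (π z * π y) * (π x)⁻¹ = π y := by
      rw [h2, show π x * (π x * π y * (π x)⁻¹) * (π x)⁻¹ = (π x * π x) * π y * (π x * π x)⁻¹ by group,
        ← map_mul, h1.eq, mul_inv_cancel_right]
    rw [← mul_assoc, ← (hcen z hzC x).eq, mul_assoc, mul_assoc, ← mul_assoc (π x), ← h2, ← mul_assoc] at h3
    exact mul_eq_right.mp h3
  have hP3ne : z ∉ P3 := by
    intro h
    have hCP : C ≤ P3 := hCgen.trans (sup_le le_rfl (Subgroup.zpowers_le.mpr h))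
    apply hna
    have hb := eq_bot_of_le_commutator hCP
    refine ⟨⟨fun a b => ?_⟩⟩
    have h1 : ⁅a, b⁆ ∈ C := Subgroup.commutator_mem_commutator (Subgroup.mem_top a) (Subgroup.mem_top b)
    rw [hb, Subgroup.mem_bot, commutatorElement_eq_one_iff_mul_comm] at h1
    exact h1
  have hpiC : ∀ c ∈ C, π c = 1 ∨ π c = π z := by
    intro c hc
    have hc' : c ∈ P3 ⊔ Subgroup.zpowers z := hCgen hc
    rw [← SetLike.mem_coe, Subgroup.normal_mul] at hc'
    obtain ⟨w, hw, t, ht, rfl⟩ := hc'
    obtain ⟨i, rfl⟩ := Subgroup.mem_zpowers_iff.mp ht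
    have hw1 : π w = 1 := (QuotientGroup.eq_one_iff w).mpr hw
    rw [map_mul, hw1, one_mul, map_zpow]
    rcases Int.even_or_odd i with ⟨l, rfl⟩ | ⟨l, rfl⟩
    · left; rw [← two_mul, zpow_mul, zpow_ofNat, sq, hz2, one_zpow]
    · right; rw [zpow_add, zpow_mul, zpow_ofNat, sq, hz2, one_zpow, one_mul, zpow_one]
  -- squares only depend on the coset, and are moved compatibly by `α`
  have hcoset : ∀ a b : P, mk a = mk b → π (a * a) = π (b * b) := by
    intro a b h
    obtain ⟨u, rfl⟩ : ∃ u, b = a * u := ⟨a⁻¹ * b, by group⟩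
    have h' := QuotientGroup.eq.mp h
    rw [inv_mul_cancel_left] at h'
    have hu : u ∈ C := hCF ▸ h'
    have hu2 : π u * π u = 1 := by
      rcases hpiC _ hu with e | e <;> rw [e]
      · rw [mul_one]
      · exact hz2
    simp only [map_mul]
    rw [show π a * π u * (π a * π u) = π a * (π u * π a) * π u by group, (hcen _ hu a).eq,
      show π a * (π a * π u) * π u = π a * π a * (π u * π u) by group,
      hu2, mul_one]
  haveI hCc : C.Characteristic := by rw [hC]; infer_instance
  haveI hP3c : P3.Characteristic := Subgroup.commutator_characteristic _ _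
  have hαP3 : ∀ c : P, π (α c) = 1 ↔ π c = 1 := by
    intro c
    show ((α c : P) : P ⧸ P3) = 1 ↔ (c : P ⧸ P3) = 1
    rw [QuotientGroup.eq_one_iff, QuotientGroup.eq_one_iff]
    conv_rhs => rw [← Subgroup.Characteristic.fixed (H := P3) ‹_› α]
    rw [Subgroup.mem_comap]; rfl
  have hxsq : π (x * x) = π z := by
    refine (hpiC _ (hsqC x)).resolve_left fun hc => ?_
    have hy2 : π (y * y) = 1 := by rw [hy, ← map_mul α, hαP3]; exact hc
    have hxy2 : π (x * y * (x * y)) = 1 := by
      rw [hcoset (x * y) (α y) (by rw [map_mul, hαy]), ← map_mul α, hαP3]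
      exact hy2
    apply hP3ne
    rw [← QuotientGroup.eq_one_iff]
    show π z = 1
    rw [map_mul] at hc hy2
    rw [map_mul, map_mul] at hxy2
    rw [hz, map_commutatorElement, commutatorElement_def, inv_eq_of_mul_eq_one_right hc,
      inv_eq_of_mul_eq_one_right hy2, ← hxy2]
    group
  have hcxy : π (y * y) = π z := by
    refine (hpiC _ (hsqC y)).resolve_left fun hc => hP3ne ?_
    rw [hy, ← map_mul α, hαP3] at hc
    rw [← QuotientGroup.eq_one_iff]
    exact hxsq.symm.trans hc
  -- `P3 = ⊥`
  have hP3bot : P3 = ⊥ := by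
    refine eq_bot_of_le_commutator ?_
    set P4 := ⁅P3, (⊤ : Subgroup P)⁆
    haveI hP4n : P4.Normal := Subgroup.commutator_normal _ _
    let ρ := QuotientGroup.mk' P4
    have hw : ∀ w ∈ P3, ∀ g : P, Commute (ρ w) (ρ g) := fun w hw g =>
      mk_commute.mpr (Subgroup.commutator_mem_commutator hw (Subgroup.mem_top g))
    have hzg : ∀ g : P, π (g * g) = π z → Commute (ρ z) (ρ g) := by
      intro g hg
      have hmem : (g * g)⁻¹ * z ∈ P3 := QuotientGroup.eq.mp hg
      have h1 : z = g * g * ((g * g)⁻¹ * z) := by group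
      rw [h1, map_mul, map_mul]
      exact ((Commute.refl _).mul_left (Commute.refl _)).mul_left (hw _ hmem g)
    have hCc' : ∀ c ∈ C, ∀ g : P, Commute (ρ c) (ρ g) := by
      intro c hc g
      have hzall : Commute (ρ z) (ρ g) := by
        have : g ∈ Subgroup.closure ({x, y} : Set P) := hgen ▸ Subgroup.mem_top g
        refine Subgroup.closure_induction (p := fun u _ => Commute (ρ z) (ρ u)) ?_ ?_ ?_ ?_ this
        · rintro u (rfl | rfl)
          · exact hzg _ hxsq
          · exact hzg _ hcxy
        · rw [map_one]; exact Commute.one_right _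
        · intro u v _ _ h1 h2; rw [map_mul]; exact h1.mul_right h2
        · intro u _ h1; rw [map_inv]; exact h1.inv_right
      have hc' : c ∈ P3 ⊔ Subgroup.zpowers z := hCgen hc
      rw [← SetLike.mem_coe, Subgroup.normal_mul] at hc'
      obtain ⟨w, hw', t, ht, rfl⟩ := hc'
      obtain ⟨i, rfl⟩ := Subgroup.mem_zpowers_iff.mp ht
      rw [map_mul, map_zpow]
      exact (hw w hw' g).mul_left (hzall.zpow_left i)
    exact Subgroup.commutator_le.mpr fun c hc g _ => mk_commute.mp (hCc' c hc g)
  -- `P` has order eight and a unique involution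
  have hπinj : ∀ a b : P, π a = π b → a = b := fun a b h => by
    have := QuotientGroup.eq.mp h
    rw [hP3bot, Subgroup.mem_bot] at this
    exact inv_mul_eq_one.mp this
  have hCcard : Nat.card C = 2 := by
    show Nat.card (C : Set P) = 2
    rw [show (C : Set P) = {1, z} from Set.ext fun c => ⟨fun hc => ?_, ?_⟩,
      Nat.card_coe_set_eq, Set.ncard_pair (show (1 : P) ≠ z from fun h => hP3ne (h ▸ one_mem _))]
    · exact (hpiC c hc).imp (fun e => hπinj c 1 (e.trans (map_one π).symm)) (fun e => hπinj c z e)
    · rintro (rfl | rfl)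
      · exact one_mem _
      · exact hzC
  have hcard : Nat.card P = 2 ^ 3 := by rw [← C.card_mul_index, hCcard, h4]; norm_num
  have hinvol : ∀ a : P, orderOf a = 2 → a = z := by
    intro a ha
    have ha2 : a * a = 1 := by
      have := pow_orderOf_eq_one a
      rwa [ha, sq] at this
    by_cases haC : a ∈ C
    · rcases hpiC a haC with e | e
      · rw [hπinj a 1 (e.trans (map_one π).symm), orderOf_one] at ha
        exact absurd ha (by norm_num)
      · exact hπinj a z e
    exfalso
    apply hP3ne
    rw [← QuotientGroup.eq_one_iff]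
    show π z = 1
    have h1 : π (a * a) = 1 := by rw [ha2, map_one]
    have ha1 : mk a ≠ 1 := fun h => haC (hCF ▸ (QuotientGroup.eq_one_iff a).mp h)
    rcases hfour (mk a) with h | h | h | h
    · exact absurd h ha1
    · rwa [hcoset a x h, hxsq] at h1
    · rwa [hcoset a y h, hcxy] at h1
    · rw [hcoset a (α y) (h.trans hαy.symm), ← map_mul α, hαP3, hcxy] at h1
      exact h1
  rcases Frobenius.isCyclic_or_quaternion_of_unique hP
      (fun a b ha hb => by rw [hinvol a ha, hinvol b hb]; exact Subgroup.mem_zpowers z)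
    with h | ⟨-, m, ⟨e⟩⟩
  · exact absurd h hne
  · have hm := Nat.card_congr e.toEquiv
    haveI : NeZero (2 ^ (m + 1)) := ⟨by positivity⟩
    rw [hcard, Nat.card_eq_fintype_card, QuaternionGroup.card,
      show 4 * 2 ^ (m + 1) = 2 ^ (m + 3) by ring] at hm
    have hm0 : m = 0 := by have := Nat.pow_right_injective le_rfl hm; omega
    subst hm0
    exact ⟨e⟩

end Cfsg.Agent.S4189
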