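import Cfsg.Statements.S4195

set_option autoImplicit false
open Cfsg

namespace Cfsg.Agent.S4195

/-- Let x be a non-identity element of a finite group G whose centralizer contains a Sylow 2-subgroup of G. If x is conjugate to its inverse, then x has order 2. -/
theorem result {G : Type*} [Group G] [Finite G] (x : G) (hx : x ≠ 1) (P : Sylow 2 G) (hP : (P : Subgroup G) ≤ Subgroup.centralizer ({x} : Set G)) (hreal : IsConj x x⁻¹) : orderOf x = 2 := by
  obtain ⟨c, hc⟩ := isConj_iff.mp hreal
  by_contra hne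
  have hx2 : x⁻¹ ≠ x := by
    intro h
    apply hne
    refine orderOf_eq_prime ?_ hx
    rw [pow_two]
    exact (inv_eq_iff_mul_eq_one).mp h
  have hcc : c ∉ Subgroup.centralizer ({x} : Set G) := by
    intro h
    apply hx2
    rw [← hc, Subgroup.mem_centralizer_singleton_iff.mp h]
    group
  -- the subgroup of elements sending `x` to `x` or to its inverse
  let N : Subgroup G :=
    { carrier := {g | g * x * g⁻¹ = x ∨ g * x * g⁻¹ = x⁻¹}
      one_mem' := Or.inl (by simp)
      mul_mem' := by
        intro a b ha hb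
        have e : a * b * x * (a * b)⁻¹ = a * (b * x * b⁻¹) * a⁻¹ := by group
        have e' : a * x⁻¹ * a⁻¹ = (a * x * a⁻¹)⁻¹ := by group
        show a * b * x * (a * b)⁻¹ = x ∨ a * b * x * (a * b)⁻¹ = x⁻¹
        rw [e]
        rcases hb with hb | hb <;> rcases ha with ha | ha <;> rw [hb] <;>
          simp [ha, e']
      inv_mem' := by
        intro a ha
        rcases ha with ha | ha
        · left
          calc a⁻¹ * x * a⁻¹⁻¹ = a⁻¹ * (a * x * a⁻¹) * a⁻¹⁻¹ := by rw [ha]
            _ = x := by group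
        · right
          calc a⁻¹ * x * a⁻¹⁻¹ = (a⁻¹ * x⁻¹ * a)⁻¹ := by group
            _ = (a⁻¹ * (a * x * a⁻¹) * a)⁻¹ := by rw [ha]
            _ = x⁻¹ := by group }
  let C := Subgroup.centralizer ({x} : Set G)
  have hCN : C ≤ N := fun g hg => Or.inl (by
    rw [Subgroup.mem_centralizer_singleton_iff.mp hg]; group)
  have hcN : c ∈ N := Or.inr hc
  have h2 : C.relIndex N = 2 := by
    rw [Subgroup.relIndex, Subgroup.index_eq_two_iff]
    refine ⟨⟨c, hcN⟩, fun b => ?_⟩
    rw [Subgroup.mem_subgroupOf, Subgroup.mem_subgroupOf, Subgroup.coe_mul]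
    rcases b.2 with hb | hb
    · refine Or.inr ⟨Subgroup.mem_centralizer_singleton_iff.mpr ?_, fun h => hcc ?_⟩
      · exact mul_inv_eq_iff_eq_mul.mp hb
      · exact (Subgroup.mul_mem_cancel_left _ (Subgroup.mem_centralizer_singleton_iff.mpr
          (mul_inv_eq_iff_eq_mul.mp hb))).mp h
    · refine Or.inl ⟨Subgroup.mem_centralizer_singleton_iff.mpr ?_, fun h => hx2 ?_⟩
      · apply mul_inv_eq_iff_eq_mul.mp
        calc (b : G) * c * x * ((b : G) * c)⁻¹ = b * (c * x * c⁻¹) * (b : G)⁻¹ := by group
          _ = (b * x * (b : G)⁻¹)⁻¹ := by rw [hc]; group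
          _ = x := by rw [hb, inv_inv]
      · have := hCN h
        rw [← hb, Subgroup.mem_centralizer_singleton_iff.mp h]; group
  have hd : C.relIndex N ∣ C.index := ⟨N.index, (Subgroup.relIndex_mul_index hCN).symm⟩
  rw [h2] at hd
  exact P.not_dvd_index (hd.trans (Subgroup.index_dvd_of_le hP))

end Cfsg.Agent.S4195
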