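import Cfsg.Statements.S4196
import Cfsg.Agent.S4195

set_option autoImplicit false
open Cfsg

namespace Cfsg.Agent.S4196

/-- A finite group G has elementary abelian Sylow 2-subgroups (commutative with every element squaring to the identity) if and only if every 2-element of G has a Sylow 2-subgroup in its centralizer and is conjugate to its inverse. -/
theorem result {G : Type*} [Group G] [Finite G] (P : Sylow 2 G) :
    (IsMulCommutative (P : Subgroup G) ∧ ∀ x ∈ (P : Subgroup G), x ^ 2 = 1) ↔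
      ∀ x : G, (∃ k : ℕ, orderOf x = 2 ^ k) → (∃ Q : Sylow 2 G, (Q : Subgroup G) ≤ Subgroup.centralizer ({x} : Set G)) ∧ IsConj x x⁻¹ := by
  constructor
  · rintro ⟨hcomm, hsq⟩ x ⟨k, hk⟩
    obtain ⟨Q, hQ⟩ := (IsPGroup.of_card (n := k) (G := Subgroup.zpowers x)
      (by rw [Nat.card_zpowers, hk])).exists_le_sylow (p := 2)
    obtain ⟨g, hg⟩ := MulAction.exists_smul_eq G P Q
    have key : ∀ y ∈ (Q : Subgroup G), ∃ z ∈ (P : Subgroup G), g * z * g⁻¹ = y := by
      intro y hy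
      rw [← hg, Sylow.smul_def] at hy
      exact hy
    refine ⟨⟨Q, fun y hy => ?_⟩, ?_⟩
    · rw [Subgroup.mem_centralizer_singleton_iff]
      obtain ⟨a, ha, rfl⟩ := key y hy
      obtain ⟨b, hb, hx⟩ := key x (hQ (Subgroup.mem_zpowers x))
      rw [← hx]
      have : a * b = b * a := congrArg Subtype.val (hcomm.is_comm.comm ⟨a, ha⟩ ⟨b, hb⟩)
      calc g * a * g⁻¹ * (g * b * g⁻¹) = g * (a * b) * g⁻¹ := by group
        _ = g * (b * a) * g⁻¹ := by rw [this]
        _ = g * b * g⁻¹ * (g * a * g⁻¹) := by group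
    · obtain ⟨b, hb, hx⟩ := key x (hQ (Subgroup.mem_zpowers x))
      have hinv : x⁻¹ = x := by
        have h1 : b⁻¹ = b := inv_eq_of_mul_eq_one_right (by rw [← pow_two]; exact hsq b hb)
        rw [← hx]
        calc (g * b * g⁻¹)⁻¹ = g * b⁻¹ * g⁻¹ := by group
          _ = g * b * g⁻¹ := by rw [h1]
      rw [hinv]
  · intro h
    have hsq : ∀ x ∈ (P : Subgroup G), x ^ 2 = 1 := by
      intro x hx
      by_cases h1 : x = 1
      · simp [h1]
      obtain ⟨k, hk⟩ := IsPGroup.iff_orderOf.mp P.isPGroup' ⟨x, hx⟩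
      obtain ⟨⟨Q, hQ⟩, hreal⟩ := h x ⟨k, by rw [← hk, Subgroup.orderOf_mk]⟩
      rw [← Cfsg.Agent.S4195.result x h1 Q hQ hreal, pow_orderOf_eq_one]
    refine ⟨⟨⟨fun a b => Subtype.ext ?_⟩⟩, hsq⟩
    have hi : ∀ y ∈ (P : Subgroup G), y⁻¹ = y := fun y hy =>
      inv_eq_of_mul_eq_one_right (by rw [← pow_two]; exact hsq y hy)
    show (a : G) * b = b * a
    calc (a : G) * b = ((a : G) * b)⁻¹ := (hi _ (mul_mem a.2 b.2)).symm
      _ = b * a := by rw [mul_inv_rev, hi _ a.2, hi _ b.2]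

end Cfsg.Agent.S4196
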