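import Cfsg.Statements.S4198
import Mathlib

set_option autoImplicit false
open Cfsg

namespace Cfsg.Agent.S4198


open Equiv

/-- unshrink: inverse of the shrinking map on partitions -/
noncomputable def unshrink : Multiset ℕ ⊕ Multiset ℕ → Multiset ℕ
  | .inl q => 1 ::ₘ q
  | .inr q => (sInf {i | i ∈ q} + 1) ::ₘ q.erase (sInf {i | i ∈ q})

theorem card_partition_succ (n : ℕ) (hn : 1 ≤ n) :
    Fintype.card (Nat.Partition (n + 1)) ≤ 2 * Fintype.card (Nat.Partition n) := by
  classical
  have hne : ∀ q : Nat.Partition (n + 1), ∃ i, i ∈ q.parts := by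
    intro q
    by_contra h
    push Not at h
    have := q.parts_sum
    rw [Multiset.eq_zero_of_forall_notMem h, Multiset.sum_zero] at this
    omega
  have key : ∀ q : Nat.Partition (n + 1), ∃ r : Nat.Partition n ⊕ Nat.Partition n,
      unshrink (r.map Nat.Partition.parts Nat.Partition.parts) = q.parts := by
    intro q
    by_cases h1 : 1 ∈ q.parts
    · refine ⟨.inl ⟨q.parts.erase 1, fun hi => q.parts_pos (Multiset.mem_of_mem_erase hi), ?_⟩, ?_⟩
      · have := Multiset.sum_erase h1
        have := q.parts_sum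
        omega
      · simp [unshrink, Multiset.cons_erase h1]
    · set m := sInf {i | i ∈ q.parts} with hm
      have hmem : m ∈ q.parts := Nat.sInf_mem (hne q)
      have hm0 : 0 < m := q.parts_pos hmem
      have hm1 : m ≠ 1 := fun e => h1 (by rwa [e] at hmem)
      refine ⟨.inr ⟨(m - 1) ::ₘ q.parts.erase m, ?_, ?_⟩, ?_⟩
      · intro i hi
        rcases Multiset.mem_cons.mp hi with rfl | hi
        · omega
        · exact q.parts_pos (Multiset.mem_of_mem_erase hi)
      · have := Multiset.sum_erase hmem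
        have := q.parts_sum
        rw [Multiset.sum_cons]
        omega
      · have hle : ∀ i ∈ q.parts.erase m, m ≤ i := fun i hi => Nat.sInf_le (Multiset.mem_of_mem_erase hi)
        have hinf : sInf {i | i ∈ (m - 1) ::ₘ q.parts.erase m} = m - 1 := by
          refine le_antisymm (Nat.sInf_le (Multiset.mem_cons_self _ _)) ?_
          refine le_csInf ⟨m - 1, Multiset.mem_cons_self _ _⟩ ?_
          intro i hi
          rcases Multiset.mem_cons.mp hi with rfl | hi
          · exact le_rfl
          · have := hle i hi; omega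
        simp only [unshrink, Sum.map_inr]
        rw [hinf, Multiset.erase_cons_head, Nat.sub_add_cancel hm0, Multiset.cons_erase hmem]
  choose f hf using key
  have hinj : Function.Injective f := fun a b h => Nat.Partition.ext (by rw [← hf a, ← hf b, h])
  have := Fintype.card_le_of_injective f hinj
  rw [Fintype.card_sum] at this
  omega

theorem card_partition_five : Fintype.card (Nat.Partition 5) ≤ 8 := by
  classical
  let T : Finset (ℕ × ℕ × ℕ × ℕ) :=
    ((Finset.range 3) ×ˢ (Finset.range 2) ×ˢ (Finset.range 2) ×ˢ (Finset.range 2)).filter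
      fun t => 2 * t.1 + 3 * t.2.1 + 4 * t.2.2.1 + 5 * t.2.2.2 ≤ 5
  have hT : T.card ≤ 8 := by decide
  let c : Nat.Partition 5 → ℕ × ℕ × ℕ × ℕ := fun q =>
    (q.parts.count 2, q.parts.count 3, q.parts.count 4, q.parts.count 5)
  have hsum : ∀ q : Nat.Partition 5, q.parts.count 1 + 2 * q.parts.count 2 + 3 * q.parts.count 3 +
      4 * q.parts.count 4 + 5 * q.parts.count 5 = 5 := by
    intro q
    have h := q.parts_sum
    rw [Finset.sum_multiset_count_of_subset q.parts (Finset.Icc 1 5) (fun i hi => by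
      rw [Multiset.mem_toFinset] at hi
      exact Finset.mem_Icc.mpr ⟨q.parts_pos hi, Nat.Partition.le_of_mem_parts hi⟩)] at h
    rw [show Finset.Icc 1 5 = ({1, 2, 3, 4, 5} : Finset ℕ) by decide] at h
    simp [Finset.sum_insert] at h
    omega
  refine le_trans ?_ hT
  rw [← Finset.card_univ]
  refine Finset.card_le_card_of_injOn c (fun q _ => ?_) (fun q _ r _ h => ?_)
  · have := hsum q
    simp only [Finset.mem_coe, T, c, Finset.mem_filter, Finset.mem_product, Finset.mem_range]
    omega
  · simp only [c, Prod.mk.injEq] at h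
    have h1 := hsum q
    have h2 := hsum r
    refine Nat.Partition.ext (Multiset.ext.mpr fun i => ?_)
    by_cases hi : 1 ≤ i ∧ i ≤ 5
    · obtain ⟨_, _⟩ := hi
      interval_cases i <;> omega
    · rw [Multiset.count_eq_zero.mpr, Multiset.count_eq_zero.mpr] <;>
        exact fun hm => hi ⟨Nat.Partition.parts_pos _ hm, Nat.Partition.le_of_mem_parts hm⟩

theorem card_partition_le : ∀ n, 5 ≤ n → Fintype.card (Nat.Partition n) ≤ 2 ^ (n - 2) := by
  intro n hn
  induction n, hn using Nat.le_induction with
  | base => exact card_partition_five.trans (by norm_num)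
  | succ n hn ih =>
    refine (card_partition_succ n (by omega)).trans ?_
    rw [show n + 1 - 2 = (n - 2) + 1 by omega, pow_succ]
    omega

section
variable {n : ℕ}

theorem shift_odd (hn : 5 ≤ n) (g : Perm (Fin n))
    (hg : Subgroup.centralizer ({g} : Set (Perm (Fin n))) ≤ alternatingGroup (Fin n)) :
    ∃ (m : ℕ) (σ : Perm (Fin n)), m ∈ g.cycleType ∧ Odd m ∧ 3 ≤ m ∧ (∀ i ∈ g.cycleType, i ≤ m) ∧
      σ.cycleType = (m - 1) ::ₘ g.cycleType.erase m ∧ Perm.sign σ = -1 := by
  obtain ⟨hodd, hfix, -⟩ := Perm.centralizer_le_alternating_iff.mp hg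
  rw [Fintype.card_fin] at hfix
  have hne : g.cycleType.toFinset.Nonempty := by
    rw [Finset.nonempty_iff_ne_empty]
    intro e
    rw [Multiset.toFinset_eq_empty] at e
    rw [e, Multiset.sum_zero] at hfix
    omega
  obtain ⟨m, hm, hmax⟩ := Finset.exists_max_image g.cycleType.toFinset id hne
  rw [Multiset.mem_toFinset] at hm
  have h2 := Perm.two_le_of_mem_cycleType hm
  have hm3 : 3 ≤ m := by
    obtain ⟨k, hk⟩ := hodd m hm
    omega
  have hsum := Multiset.sum_erase hm
  have hsle := Perm.sum_cycleType_le g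
  rw [Fintype.card_fin] at hsle
  obtain ⟨σ, hσ⟩ := (Perm.exists_with_cycleType_iff (Fin n) (m := (m - 1) ::ₘ g.cycleType.erase m)).mpr
    ⟨by rw [Multiset.sum_cons, Fintype.card_fin]; omega, by
      intro a ha
      rcases Multiset.mem_cons.mp ha with rfl | ha
      · omega
      · exact Perm.two_le_of_mem_cycleType (Multiset.mem_of_mem_erase ha)⟩
  refine ⟨m, σ, hm, hodd m hm, hm3, fun i hi => hmax i (Multiset.mem_toFinset.mpr hi), hσ, ?_⟩
  have hgs : Perm.sign g = 1 := Perm.mem_alternatingGroup.mp
    (hg (Subgroup.mem_centralizer_singleton_iff.mpr rfl))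
  rw [Perm.sign_of_cycleType] at hgs
  rw [Perm.sign_of_cycleType, hσ, Multiset.sum_cons, Multiset.card_cons,
    Multiset.card_erase_of_mem hm]
  have hc : 0 < Multiset.card g.cycleType := Multiset.card_pos_iff_exists_mem.mpr ⟨m, hm⟩
  rw [show m - 1 + (g.cycleType.erase m).sum + ((Multiset.card g.cycleType).pred + 1)
    = g.cycleType.sum + Multiset.card g.cycleType - 1 by rw [Nat.pred_eq_sub_one]; omega]
  have h1 : g.cycleType.sum + Multiset.card g.cycleType - 1 + 1 = g.cycleType.sum + Multiset.card g.cycleType := by omega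
  rw [← h1, pow_succ] at hgs
  rw [mul_neg, mul_one, neg_eq_iff_eq_neg] at hgs
  exact hgs

end


/-- For n ≥ 5 the alternating group of degree n has strictly fewer conjugacy classes than the symmetric group of degree n, and the symmetric group of degree n (whose classes correspond to the partitions of n) has at most 2^(n−2) conjugacy classes. -/
theorem result (n : ℕ) (hn : 5 ≤ n) : Nat.card (ConjClasses (alternatingGroup (Fin n))) < Nat.card (ConjClasses (Equiv.Perm (Fin n))) ∧ Nat.card (ConjClasses (Equiv.Perm (Fin n))) ≤ 2 ^ (n - 2) := by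

  classical
  have hinjP : Function.Injective (fun C : ConjClasses (Perm (Fin n)) =>
      Quotient.liftOn C (fun σ => σ.partition) (fun a b h => Perm.partition_eq_of_isConj.mp h)) := by
    intro C D
    induction C using Quotient.inductionOn with
    | h a => induction D using Quotient.inductionOn with
      | h b => exact fun h => Quotient.sound (Perm.partition_eq_of_isConj.mpr h)
  refine ⟨?_, ?_⟩
  swap
  · have h1 := Nat.card_le_card_of_injective _ hinjP
    rw [Nat.card_eq_fintype_card (α := Nat.Partition _)] at h1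
    refine h1.trans ?_
    have := card_partition_le n hn
    rwa [Fintype.card_fin]
  -- the class map
  let A := alternatingGroup (Fin n)
  let π : ConjClasses A → ConjClasses (Perm (Fin n)) := ConjClasses.map A.subtype
  let Even' : Set (ConjClasses (Perm (Fin n))) := {C | ∃ g, ConjClasses.mk g = C ∧ Perm.sign g = 1}
  let Odd' : Set (ConjClasses (Perm (Fin n))) := {C | ∃ g, ConjClasses.mk g = C ∧ Perm.sign g = -1}
  let Split : Set (ConjClasses (Perm (Fin n))) :=
    {C | ∃ g, ConjClasses.mk g = C ∧ Subgroup.centralizer ({g} : Set (Perm (Fin n))) ≤ alternatingGroup (Fin n)}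
  have hpi : ∀ a : A, π (ConjClasses.mk a) = ConjClasses.mk (a : Perm (Fin n)) := fun a => rfl
  obtain ⟨τ, hτ⟩ : ∃ τ : Perm (Fin n), Perm.sign τ = -1 :=
    ⟨swap ⟨0, by omega⟩ ⟨1, by omega⟩, Perm.sign_swap (by simp [Fin.ext_iff])⟩
  -- an even conjugator gives conjugacy in A
  have heven : ∀ (a b : A) (x : Perm (Fin n)), Perm.sign x = 1 → x * a * x⁻¹ = b → IsConj a b := by
    intro a b x hx h
    exact isConj_iff.mpr ⟨⟨x, Perm.mem_alternatingGroup.mpr hx⟩, Subtype.ext h⟩
  have hodd : ∀ a b : A, IsConj (a : Perm (Fin n)) b → ¬ IsConj a b →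
      ∃ x : Perm (Fin n), Perm.sign x = -1 ∧ x * a * x⁻¹ = b := by
    intro a b hab hn'
    obtain ⟨x, hx⟩ := isConj_iff.mp hab
    rcases Int.units_eq_one_or (Perm.sign x) with h | h
    · exact absurd (heven a b x h hx) hn'
    · exact ⟨x, h, hx⟩
  have hthree : ∀ C D E : ConjClasses A, π C = π D → π C = π E → C ≠ D → C ≠ E → D = E := by
    intro C D E
    obtain ⟨a, rfl⟩ := ConjClasses.exists_rep C
    obtain ⟨b, rfl⟩ := ConjClasses.exists_rep D
    obtain ⟨c, rfl⟩ := ConjClasses.exists_rep E
    simp only [hpi, ConjClasses.mk_eq_mk_iff_isConj, Ne]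
    intro hab hac hnb hnc
    obtain ⟨x, hx, hxe⟩ := hodd a b hab hnb
    obtain ⟨y, hy, hye⟩ := hodd a c hac hnc
    refine heven b c (y * x⁻¹) (by simp [hx, hy]) ?_
    rw [← hye, ← hxe]; group
  have hsplit : ∀ C D : ConjClasses A, π C = π D → C ≠ D → π C ∈ Split := by
    intro C D
    obtain ⟨a, rfl⟩ := ConjClasses.exists_rep C
    obtain ⟨b, rfl⟩ := ConjClasses.exists_rep D
    simp only [hpi, ConjClasses.mk_eq_mk_iff_isConj, Ne]
    intro hab hne
    refine ⟨(a : Perm (Fin n)), rfl, fun z hz => ?_⟩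
    rw [Perm.mem_alternatingGroup]
    rcases Int.units_eq_one_or (Perm.sign z) with h | h
    · exact h
    exfalso
    obtain ⟨x, hx, hxe⟩ := hodd a b hab hne
    refine hne (heven a b (x * z) (by simp [hx, h]) ?_)
    have hz' : z * (a : Perm (Fin n)) = a * z := Subgroup.mem_centralizer_singleton_iff.mp hz
    rw [← hxe]
    calc x * z * a * (x * z)⁻¹ = x * (z * a) * z⁻¹ * x⁻¹ := by group
      _ = x * a * x⁻¹ := by rw [hz']; group
  have hA : Nat.card (ConjClasses A) ≤ Nat.card Even' + Nat.card Split := by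
    haveI : Nonempty (ConjClasses A) := ⟨1⟩
    let rep : ConjClasses (Perm (Fin n)) → ConjClasses A := Function.invFun π
    have hrep : ∀ C, π (rep (π C)) = π C := fun C => Function.invFun_eq ⟨C, rfl⟩
    have hE : ∀ C, π C ∈ Even' := by
      intro C
      obtain ⟨a, rfl⟩ := ConjClasses.exists_rep C
      exact ⟨a, rfl, Perm.mem_alternatingGroup.mp a.2⟩
    let f : ConjClasses A → Even' ⊕ Split := fun C =>
      if h : C = rep (π C) then .inl ⟨π C, hE C⟩ else .inr ⟨π C, hsplit C _ (hrep C).symm h⟩
    have hf : Function.Injective f := by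
      intro C D hCD
      simp only [f] at hCD
      by_cases hC : C = rep (π C) <;> by_cases hD : D = rep (π D)
      · rw [dif_pos hC, dif_pos hD] at hCD
        have he : π C = π D := congrArg Subtype.val (Sum.inl_injective hCD)
        exact hC.trans ((congrArg rep he).trans hD.symm)
      · rw [dif_pos hC, dif_neg hD] at hCD; exact absurd hCD Sum.inl_ne_inr
      · rw [dif_neg hC, dif_pos hD] at hCD; exact absurd hCD Sum.inr_ne_inl
      · rw [dif_neg hC, dif_neg hD] at hCD
        have he : π C = π D := congrArg Subtype.val (Sum.inr_injective hCD)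
        refine hthree (rep (π C)) C D (hrep C) ?_ (Ne.symm hC) ?_
        · rw [hrep, he]
        · rw [he]; exact Ne.symm hD
    have := Nat.card_le_card_of_injective f hf
    rwa [Nat.card_sum] at this
  have hS : Nat.card Even' + Nat.card Odd' ≤ Nat.card (ConjClasses (Perm (Fin n))) := by
    rw [Nat.card_coe_set_eq, Nat.card_coe_set_eq, ← Set.ncard_union_eq ?_ (Set.toFinite _) (Set.toFinite _)]
    · exact (Set.ncard_le_ncard (Set.subset_univ _) (Set.toFinite _)).trans (by rw [Set.ncard_univ])
    rw [Set.disjoint_left]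
    rintro C ⟨g, rfl, hg⟩ ⟨h, hh, hh'⟩
    obtain ⟨x, hx⟩ := isConj_iff.mp (ConjClasses.mk_eq_mk_iff_isConj.mp hh)
    rw [← hx] at hg
    simp [hh'] at hg
  have hlt : Nat.card Split < Nat.card Odd' := by
    have hex : ∀ C : Split, ∃ D : Odd', ∃ (g σ : Perm (Fin n)) (m : ℕ), ConjClasses.mk g = (C : ConjClasses (Perm (Fin n))) ∧
        Subgroup.centralizer ({g} : Set (Perm (Fin n))) ≤ alternatingGroup (Fin n) ∧
        m ∈ g.cycleType ∧ Odd m ∧ 3 ≤ m ∧ (∀ i ∈ g.cycleType, i ≤ m) ∧
        σ.cycleType = (m - 1) ::ₘ g.cycleType.erase m ∧ ConjClasses.mk σ = (D : ConjClasses (Perm (Fin n))) := by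
      rintro ⟨C, g, hgC, hg⟩
      obtain ⟨m, σ, h1, h2, h3, h4, h5, h6⟩ := shift_odd hn g hg
      exact ⟨⟨_, σ, rfl, h6⟩, g, σ, m, hgC, hg, h1, h2, h3, h4, h5, rfl⟩
    choose F hF using hex
    have hFinj : Function.Injective F := by
      intro C D hCD
      obtain ⟨g, σ, m, h0, hgA, h1, h2, h3, -, h5, h6⟩ := hF C
      obtain ⟨g', σ', m', h0', hgA', h1', h2', h3', -, h5', h6'⟩ := hF D
      rw [hCD] at h6
      have hc : σ.cycleType = σ'.cycleType :=
        Perm.isConj_iff_cycleType_eq.mp (ConjClasses.mk_eq_mk_iff_isConj.mp (h6.trans h6'.symm))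
      rw [h5, h5'] at hc
      have hfil : ∀ (g : Perm (Fin n)) (m : ℕ), Subgroup.centralizer ({g} : Set (Perm (Fin n))) ≤ alternatingGroup (Fin n) →
          Odd m → ((m - 1) ::ₘ g.cycleType.erase m).filter Even = {m - 1} := by
        intro g m hgA hm
        obtain ⟨ho, -, -⟩ := Perm.centralizer_le_alternating_iff.mp hgA
        have he : Even (m - 1) := by obtain ⟨k, hk⟩ := hm; exact ⟨k, by omega⟩
        rw [Multiset.filter_cons_of_pos _ he, Multiset.filter_eq_nil.mpr ?_]
        · rfl
        intro i hi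
        exact Nat.not_even_iff_odd.mpr (ho i (Multiset.mem_of_mem_erase hi))
      have hmm : m - 1 = m' - 1 := by
        have := congrArg (Multiset.filter Even) hc
        rw [hfil g m hgA h2, hfil g' m' hgA' h2'] at this
        exact Multiset.singleton_inj.mp this
      have hmeq : m = m' := by omega
      subst hmeq
      rw [Multiset.cons_inj_right] at hc
      apply Subtype.ext
      rw [← h0, ← h0', ConjClasses.mk_eq_mk_iff_isConj, Perm.isConj_iff_cycleType_eq,
        ← Multiset.cons_erase h1, ← Multiset.cons_erase h1', hc]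
    refine lt_of_le_of_ne (Nat.card_le_card_of_injective F hFinj) fun he => ?_
    have hbij := (Nat.bijective_iff_injective_and_card F).mpr ⟨hFinj, he⟩
    obtain ⟨C, hC⟩ := hbij.2 ⟨ConjClasses.mk (swap ⟨0, by omega⟩ ⟨1, by omega⟩), _, rfl,
      Perm.sign_swap (by simp [Fin.ext_iff])⟩
    obtain ⟨g, σ, m, -, hgA, h1, -, h3, -, h5, h6⟩ := hF C
    rw [hC] at h6
    have hσ : σ.cycleType = {2} := by
      rw [Perm.isConj_iff_cycleType_eq.mp (ConjClasses.mk_eq_mk_iff_isConj.mp h6)]
      exact Perm.isSwap_iff_cycleType.mp ⟨_, _, by simp [Fin.ext_iff], rfl⟩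
    rw [h5] at hσ
    have hm3 : m - 1 = 2 := Multiset.mem_singleton.mp (hσ ▸ Multiset.mem_cons_self _ _)
    have h7 := congrArg Multiset.sum hσ
    rw [Multiset.sum_cons, Multiset.sum_singleton] at h7
    have h8 := Multiset.sum_erase h1
    obtain ⟨-, hfix, -⟩ := Perm.centralizer_le_alternating_iff.mp hgA
    rw [Fintype.card_fin] at hfix
    omega
  exact lt_of_le_of_lt hA (by omega)

end Cfsg.Agent.S4198
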