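import Cfsg.Statements.S4200
import Mathlib.GroupTheory.GroupAction.CardCommute
import Mathlib.Algebra.Order.BigOperators.Group.Finset
import Mathlib.Algebra.BigOperators.Ring.Finset
import Mathlib.Tactic.Ring
import Mathlib.Tactic.Group

set_option autoImplicit false
open Cfsg

namespace Cfsg.Agent.S4200

variable {X : Type*} [Group X] [Finite X]

theorem pairs_eq (G : Type*) [Group G] [Finite G] [Fintype G] :
    Nat.card (ConjClasses G) * Nat.card G = ∑ x : G, Nat.card (Subgroup.centralizer ({x} : Set G)) := by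
  rw [← card_comm_eq_card_conjClasses_mul_card, ← Nat.card_sigma]
  exact Nat.card_congr
    { toFun := fun p => ⟨p.1.1, ⟨p.1.2, Subgroup.mem_centralizer_singleton_iff.mpr p.2.eq.symm⟩⟩
      invFun := fun s => ⟨(s.1, s.2.1), (Subgroup.mem_centralizer_singleton_iff.mp s.2.2).symm⟩
      left_inv := fun p => rfl
      right_inv := fun s => rfl }

/-- Let Y be a subgroup of the finite group X, of index m. Then the numbers of conjugacy classes satisfy k(Y) ≤ m·k(X) and k(X) ≤ m·k(Y), and the second inequality is strict unless Y is normal in X. -/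
theorem result {X : Type*} [Group X] [Finite X] (Y : Subgroup X) : Nat.card (ConjClasses Y) ≤ Y.index * Nat.card (ConjClasses X) ∧ Nat.card (ConjClasses X) ≤ Y.index * Nat.card (ConjClasses Y) ∧ (¬ Y.Normal → Nat.card (ConjClasses X) < Y.index * Nat.card (ConjClasses Y)) := by
  classical
  haveI := Fintype.ofFinite X
  haveI := Fintype.ofFinite Y
  set m := Y.index with hm
  have hm0 : 0 < m := Nat.pos_of_ne_zero Subgroup.index_ne_zero_of_finite
  have hcardY : Nat.card Y * m = Nat.card X := Y.card_mul_index
  let C := fun x : X => Subgroup.centralizer ({x} : Set X)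
  let a := fun x : X => Nat.card (C x ⊓ Y : Subgroup X)
  have hCY : ∀ y : Y, Nat.card (Subgroup.centralizer ({y} : Set Y)) = a y := by
    intro y
    refine Nat.card_congr
      { toFun := fun z => ⟨(z : Y), ?_, z.1.2⟩
        invFun := fun z => ⟨⟨z, z.2.2⟩, ?_⟩
        left_inv := fun z => rfl
        right_inv := fun z => rfl }
    · exact Subgroup.mem_centralizer_singleton_iff.mpr
        (congrArg Subtype.val (Subgroup.mem_centralizer_singleton_iff.mp z.2))
    · exact Subgroup.mem_centralizer_singleton_iff.mpr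
        (Subtype.ext (Subgroup.mem_centralizer_singleton_iff.mp z.2.1))
  have hsplit : ∀ x, Nat.card (C x) = a x * Y.relIndex (C x) := by
    intro x
    show _ = Nat.card (C x ⊓ Y : Subgroup X) * _
    rw [← Subgroup.inf_relIndex_left, ← Subgroup.relIndex_bot_left (C x ⊓ Y),
      Subgroup.relIndex_mul_relIndex _ _ _ bot_le inf_le_left, Subgroup.relIndex_bot_left]
  have hrel : ∀ x, Y.relIndex (C x) ≤ m := by
    intro x
    rw [hm, ← Subgroup.relIndex_top_right]
    exact Subgroup.relIndex_le_of_le_right le_top (by simp [Subgroup.relIndex_top_right, Subgroup.index_ne_zero_of_finite])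
  have hswap : ∑ x : X, a x = ∑ y : Y, Nat.card (C y) := by
    rw [← Nat.card_sigma, ← Nat.card_sigma]
    exact Nat.card_congr
      { toFun := fun s => ⟨⟨s.2.1, s.2.2.2⟩, ⟨s.1, Subgroup.mem_centralizer_singleton_iff.mpr
          (Subgroup.mem_centralizer_singleton_iff.mp s.2.2.1).symm⟩⟩
        invFun := fun s => ⟨s.2.1, ⟨s.1, Subgroup.mem_centralizer_singleton_iff.mpr
          (Subgroup.mem_centralizer_singleton_iff.mp s.2.2).symm, s.1.2⟩⟩
        left_inv := fun s => rfl
        right_inv := fun s => rfl }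
  have hY : Nat.card (ConjClasses Y) * Nat.card Y = ∑ y : Y, a y := by
    rw [pairs_eq Y]; exact Finset.sum_congr rfl fun y _ => hCY y
  have hX := pairs_eq X
  have h1 : Nat.card (ConjClasses Y) * Nat.card Y ≤ Nat.card (ConjClasses X) * Nat.card X := by
    rw [hY, hX]
    refine le_trans (Finset.sum_le_sum fun y _ => ?_)
      (le_trans hswap.ge (Finset.sum_le_sum fun x _ => ?_))
    · exact Nat.le_of_dvd Nat.card_pos (Subgroup.card_dvd_of_le inf_le_left)
    · exact Nat.le_of_dvd Nat.card_pos (Subgroup.card_dvd_of_le inf_le_left)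
  have hle : ∀ x, Nat.card (C x) ≤ m * a x := fun x => by
    rw [hsplit, mul_comm m]; exact Nat.mul_le_mul le_rfl (hrel x)
  have h2 : ∑ x : X, Nat.card (C x) ≤ m * (m * ∑ y : Y, a y) := by
    calc ∑ x : X, Nat.card (C x) ≤ ∑ x : X, m * a x := Finset.sum_le_sum fun x _ => hle x
      _ = m * ∑ y : Y, Nat.card (C y) := by rw [← Finset.mul_sum, hswap]
      _ ≤ m * (m * ∑ y : Y, a y) := by
          refine Nat.mul_le_mul le_rfl ?_
          rw [Finset.mul_sum]
          exact Finset.sum_le_sum fun y _ => hle y
  refine ⟨?_, ?_, fun hn => ?_⟩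
  · refine Nat.le_of_mul_le_mul_right (c := Nat.card Y) ?_ Nat.card_pos
    calc _ ≤ _ := h1
      _ = m * Nat.card (ConjClasses X) * Nat.card Y := by rw [← hcardY]; ring
  · refine Nat.le_of_mul_le_mul_right (c := Nat.card X) ?_ Nat.card_pos
    calc Nat.card (ConjClasses X) * Nat.card X ≤ m * (m * ∑ y : Y, a y) := hX ▸ h2
      _ = m * Nat.card (ConjClasses Y) * Nat.card X := by rw [← hY, ← hcardY]; ring
  · obtain ⟨y, hy, g, hg⟩ : ∃ y ∈ Y, ∃ g : X, g * y * g⁻¹ ∉ Y := by
      by_contra hc
      push Not at hc
      exact hn ⟨hc⟩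
    have hlt : Nat.card (C y) < m * a y := by
      rw [hsplit, mul_comm m]
      refine Nat.mul_lt_mul_of_pos_left (lt_of_le_of_ne (hrel y) fun heq => ?_) Nat.card_pos
      -- equality would make `C(y)` transitive on the cosets of `Y`
      let f : (C y) ⧸ Y.subgroupOf (C y) → X ⧸ Y := Quotient.map' (fun c => (c : X))
        (fun u v h => by rw [QuotientGroup.leftRel_apply] at h ⊢; exact h)
      have hinj : Function.Injective f := by
        intro u v
        induction u using QuotientGroup.induction_on with
        | H u =>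
          induction v using QuotientGroup.induction_on with
          | H v =>
            intro h
            exact QuotientGroup.eq.mpr (QuotientGroup.eq.mp h : (u : X)⁻¹ * v ∈ Y)
      have hbij := (Nat.bijective_iff_injective_and_card f).mpr ⟨hinj, heq⟩
      obtain ⟨c, hc⟩ := hbij.2 (g⁻¹ : X)
      induction c using QuotientGroup.induction_on with
      | H c =>
        have hw : (c : X)⁻¹ * g⁻¹ ∈ Y := QuotientGroup.eq.mp hc
        apply hg
        have hcy : (c : X) * y = y * c := Subgroup.mem_centralizer_singleton_iff.mp c.2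
        have e : g * y * g⁻¹ = ((c : X)⁻¹ * g⁻¹)⁻¹ * y * ((c : X)⁻¹ * g⁻¹) := by
          calc g * y * g⁻¹ = g * (c * y) * (c : X)⁻¹ * g⁻¹ * 1 := by rw [hcy]; group
            _ = _ := by group
        rw [e]
        exact mul_mem (mul_mem (inv_mem hw) hy) hw
    refine Nat.lt_of_mul_lt_mul_right (a := Nat.card X) ?_
    calc Nat.card (ConjClasses X) * Nat.card X = ∑ x : X, Nat.card (C x) := hX
      _ < ∑ x : X, m * a x := Finset.sum_lt_sum (fun x _ => hle x) ⟨y, Finset.mem_univ _, hlt⟩
      _ = m * ∑ y : Y, Nat.card (C y) := by rw [← Finset.mul_sum, hswap]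
      _ ≤ m * (m * ∑ y : Y, a y) := by
          refine Nat.mul_le_mul le_rfl ?_
          rw [Finset.mul_sum]
          exact Finset.sum_le_sum fun y _ => hle y
      _ = m * Nat.card (ConjClasses Y) * Nat.card X := by rw [← hY, ← hcardY]; ring

end Cfsg.Agent.S4200
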