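import Cfsg.Statements.S4201
import Mathlib.GroupTheory.GroupAction.CardCommute
import Mathlib.Algebra.Order.BigOperators.Group.Finset
import Mathlib.Algebra.BigOperators.Ring.Finset
import Mathlib.Tactic.Ring
import Mathlib.Tactic.Group

set_option autoImplicit false
open Cfsg

namespace Cfsg.Agent.S4201

variable {X : Type*} [Group X] [Finite X]

theorem card_coset_commute_le (N : Subgroup X) [N.Normal] (A : X ⧸ N) (x : X) :
    Nat.card {y : X // (y : X ⧸ N) = A ∧ x * y = y * x} ≤ Nat.card {n : N // x * n = n * x} := by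
  rcases isEmpty_or_nonempty {y : X // (y : X ⧸ N) = A ∧ x * y = y * x} with h | h
  · rw [Nat.card_of_isEmpty]; exact Nat.zero_le _
  obtain ⟨y0, hA, hy0⟩ := h
  refine Nat.card_le_card_of_injective
    (fun y => (⟨⟨y0⁻¹ * y.1, QuotientGroup.eq.mp (hA.trans y.2.1.symm)⟩, ?_⟩ : {n : N // x * n = n * x})) ?_
  · show x * (y0⁻¹ * y.1) = y0⁻¹ * y.1 * x
    calc x * (y0⁻¹ * y.1) = y0⁻¹ * (y0 * x) * y0⁻¹ * y.1 := by group
      _ = y0⁻¹ * (x * y.1) := by rw [← hy0]; group
      _ = y0⁻¹ * y.1 * x := by rw [y.2.2]; group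
  · intro u v huv
    have := congrArg (fun t : {n : N // x * n = n * x} => (t.1 : X)) huv
    exact Subtype.ext (mul_left_cancel this)

/-- If N is a normal subgroup of the finite group X then k(X) ≤ k(N)·k(X ⧸ N), where k denotes the number of conjugacy classes. -/
theorem result {X : Type*} [Group X] [Finite X] (N : Subgroup X) [N.Normal] : Nat.card (ConjClasses X) ≤ Nat.card (ConjClasses N) * Nat.card (ConjClasses (X ⧸ N)) := by
  classical
  haveI := Fintype.ofFinite X
  haveI := Fintype.ofFinite N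
  haveI := Fintype.ofFinite (X ⧸ N)
  refine Nat.le_of_mul_le_mul_right (c := Nat.card X) ?_ Nat.card_pos
  have hX : Nat.card X = Nat.card (X ⧸ N) * Nat.card N := N.card_eq_card_quotient_mul_card_subgroup
  rw [← card_comm_eq_card_conjClasses_mul_card]
  refine le_trans ?_ (le_of_eq (show Nat.card {p : (X ⧸ N) × (X ⧸ N) // Commute p.1 p.2} *
      Nat.card {p : N × N // Commute p.1 p.2} = _ by
    rw [card_comm_eq_card_conjClasses_mul_card, card_comm_eq_card_conjClasses_mul_card, hX]; ring))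
  let π : {p : X × X // Commute p.1 p.2} → {p : (X ⧸ N) × (X ⧸ N) // Commute p.1 p.2} := fun p =>
    ⟨((p.1.1 : X ⧸ N), (p.1.2 : X ⧸ N)), show QuotientGroup.mk' N p.1.1 * QuotientGroup.mk' N p.1.2 = QuotientGroup.mk' N p.1.2 * QuotientGroup.mk' N p.1.1 by rw [← map_mul, ← map_mul, p.2.eq]⟩
  rw [Nat.card_congr (Equiv.sigmaFiberEquiv π).symm, Nat.card_sigma]
  refine le_trans (Finset.sum_le_card_nsmul _ _ (Nat.card {p : N × N // Commute p.1 p.2}) ?_) ?_
  · intro q _
    obtain ⟨⟨A, B⟩, hAB⟩ := q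
    have e1 : {p // π p = ⟨(A, B), hAB⟩} ≃
        Σ x : {x : X // (x : X ⧸ N) = A}, {y : X // (y : X ⧸ N) = B ∧ x.1 * y = y * x.1} :=
      { toFun := fun p => ⟨⟨p.1.1.1, congrArg (fun t => t.1.1) p.2⟩,
          ⟨p.1.1.2, congrArg (fun t => t.1.2) p.2, p.1.2⟩⟩
        invFun := fun s => ⟨⟨(s.1.1, s.2.1), s.2.2.2⟩, Subtype.ext (Prod.ext s.1.2 s.2.2.1)⟩
        left_inv := fun p => rfl
        right_inv := fun s => rfl }
    rw [Nat.card_congr e1, Nat.card_sigma]
    refine le_trans (Finset.sum_le_sum fun x _ => card_coset_commute_le N B x.1) ?_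
    have e2 : (Σ x : {x : X // (x : X ⧸ N) = A}, {n : N // x.1 * n = n * x.1}) ≃
        Σ n : N, {x : X // (x : X ⧸ N) = A ∧ (n : X) * x = x * n} :=
      { toFun := fun s => ⟨s.2.1, ⟨s.1.1, s.1.2, s.2.2.symm⟩⟩
        invFun := fun s => ⟨⟨s.2.1, s.2.2.1⟩, ⟨s.1, s.2.2.2.symm⟩⟩
        left_inv := fun s => rfl
        right_inv := fun s => rfl }
    rw [← Nat.card_sigma, Nat.card_congr e2, Nat.card_sigma]
    refine le_trans (Finset.sum_le_sum fun n _ => card_coset_commute_le N A (n : X)) ?_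
    rw [← Nat.card_sigma]
    refine le_of_eq (Nat.card_congr
      { toFun := fun s => ⟨(s.1, s.2.1), Subtype.ext s.2.2⟩
        invFun := fun p => ⟨p.1.1, ⟨p.1.2, congrArg Subtype.val p.2⟩⟩
        left_inv := fun s => rfl
        right_inv := fun p => rfl })
  · rw [Finset.card_univ, ← Nat.card_eq_fintype_card, smul_eq_mul]

end Cfsg.Agent.S4201
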