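import Cfsg.Statements.S4203
import Cfsg.Agent.Lib.PGroups.SylowNumber
import Cfsg.Agent.Lib.PGroups.SmallPerm
import Mathlib

set_option autoImplicit false
open Cfsg

namespace Cfsg.Agent.S4203


universe u

theorem index_modEq_one {R : Type*} [Group R] [Finite R] {p : ℕ} [Fact p.Prime] (P : Sylow p R)
    (M : Subgroup R) (h : Subgroup.normalizer ((P : Subgroup R) : Set R) ≤ M) : M.index ≡ 1 [MOD p] := by
  have h1 := Cfsg.Agent.Lib.PGroups.card_sylow_subgroup_eq P M (Subgroup.le_normalizer.trans h)
  have h2 := Subgroup.relIndex_mul_index h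
  rw [← h1, ← Cfsg.Agent.Lib.PGroups.card_sylow_eq_index P] at h2
  have h3 := card_sylow_modEq_one p R
  rw [← h2] at h3
  have h4 := (card_sylow_modEq_one p M).mul_right M.index
  rw [one_mul] at h4
  exact h4.symm.trans h3

theorem exists_last_derived {G : Type*} [Group G] [Finite G] (h : ¬ Group.IsSolvable G) :
    ∃ R : Subgroup G, R.Normal ∧ ¬ Group.IsSolvable R ∧
      ∀ K : Subgroup G, [K.Normal] → Group.IsSolvable (G ⧸ K) → R ≤ K := by
  classical
  -- minimal member of the derived series
  obtain ⟨n, hn⟩ : ∃ n, ∀ m, Nat.card (derivedSeries G n) ≤ Nat.card (derivedSeries G m) := by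
    have hex : ∃ c, ∃ n, Nat.card (derivedSeries G n) = c := ⟨_, 0, rfl⟩
    obtain ⟨n, hn⟩ := Nat.find_spec hex
    exact ⟨n, fun m => hn.trans_le (Nat.find_min' hex ⟨m, rfl⟩)⟩
  have hstab : derivedSeries G (n + 1) = derivedSeries G n :=
    Subgroup.eq_of_le_of_card_ge (derivedSeries_antitone G (Nat.le_succ n)) (hn _)
  refine ⟨derivedSeries G n, derivedSeries_normal G n, ?_, ?_⟩
  · intro hs
    obtain ⟨m, hm⟩ := hs.solvable
    have hperf : ∀ j, (derivedSeries (derivedSeries G n) j) = ⊤ := by
      intro j
      induction j with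
      | zero => rfl
      | succ j ih =>
        rw [derivedSeries_succ, ih]
        apply Subgroup.map_injective (derivedSeries G n).subtype_injective
        rw [Subgroup.map_commutator, ← MonoidHom.range_eq_map, Subgroup.range_subtype,
          ← derivedSeries_succ, hstab]
    rw [hperf] at hm
    have hbot : derivedSeries G n = ⊥ := by
      have := congrArg (Subgroup.map (derivedSeries G n).subtype) hm
      rwa [← MonoidHom.range_eq_map, Subgroup.range_subtype, Subgroup.map_bot] at this
    exact h ⟨⟨n, hbot⟩⟩
  · intro K _ hK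
    obtain ⟨m, hm⟩ := hK.solvable
    have hle : derivedSeries G m ≤ K := by
      have h2 := map_derivedSeries_le_derivedSeries (QuotientGroup.mk' K) m
      rw [hm, le_bot_iff, Subgroup.map_eq_bot_iff, QuotientGroup.ker_mk'] at h2
      exact h2
    have hst : ∀ j, derivedSeries G (n + j) = derivedSeries G n := by
      intro j
      induction j with
      | zero => rfl
      | succ j ih => rw [← Nat.add_assoc, derivedSeries_succ, ih, ← derivedSeries_succ, hstab]
    rw [← hst m]
    exact (derivedSeries_antitone G (Nat.le_add_left m n)).trans hle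

theorem main : ∀ (n : ℕ) (G : Type u) [Group G] [Finite G], Nat.card G = n →
    (∀ M : Subgroup G, IsCoatom M → ∃ p : ℕ, p.Prime ∧ (M.index = p ∨ M.index = p ^ 2)) →
    Group.IsSolvable G := by
  intro n
  induction n using Nat.strong_induction_on with
  | _ n ih =>
  intro G _ _ hn h
  classical
  by_contra hns
  obtain ⟨R, hR, hRns, hRle⟩ := exists_last_derived hns
  haveI := hR
  have hquot : ∀ K : Subgroup G, [K.Normal] → K ≠ ⊥ → Group.IsSolvable (G ⧸ K) := by
    intro K _ hK
    refine ih _ ?_ (G ⧸ K) rfl ?_
    · have h1 := Subgroup.card_eq_card_quotient_mul_card_subgroup K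
      have h2 : 1 < Nat.card K := Subgroup.one_lt_card_iff_ne_bot K |>.mpr hK
      have h3 : 0 < Nat.card (G ⧸ K) := Nat.card_pos
      subst hn
      calc Nat.card (G ⧸ K) = Nat.card (G ⧸ K) * 1 := (mul_one _).symm
        _ < Nat.card (G ⧸ K) * Nat.card K := Nat.mul_lt_mul_of_pos_left h2 h3
        _ = Nat.card G := h1.symm
    · intro M hM
      have hf := QuotientGroup.mk'_surjective K
      have hco : IsCoatom (M.comap (QuotientGroup.mk' K)) := by
        refine ⟨fun e => hM.1 ?_, fun B hB => ?_⟩
        · rw [← Subgroup.map_comap_eq_self_of_surjective hf M, e, Subgroup.map_top_of_surjective _ hf]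
        · have hKB : (QuotientGroup.mk' K).ker ≤ B := le_trans (Subgroup.ker_le_comap _ _) hB.le
          have hlt : M < B.map (QuotientGroup.mk' K) := by
            rw [← Subgroup.comap_lt_comap_of_surjective hf, Subgroup.comap_map_eq, sup_eq_left.mpr hKB]
            exact hB
          have := congrArg (Subgroup.comap (QuotientGroup.mk' K)) (hM.2 _ hlt)
          rwa [Subgroup.comap_map_eq, sup_eq_left.mpr hKB, Subgroup.comap_top] at this
      obtain ⟨p, hp, hidx⟩ := h _ hco
      exact ⟨p, hp, by rwa [Subgroup.index_comap_of_surjective M hf] at hidx⟩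
  have hRK : ∀ K : Subgroup G, [K.Normal] → K ≠ ⊥ → R ≤ K := fun K _ hK => hRle K (hquot K hK)
  have hRb : R ≠ ⊥ := by
    intro e
    apply hRns
    rw [e]
    infer_instance
  have hc1 : Nat.card R ≠ 1 := fun e => hRb (Subgroup.card_eq_one.mp e)
  -- largest prime divisor of the order of R
  obtain ⟨p, hpmem, hpmax⟩ := Finset.exists_max_image (Nat.card R).primeFactors id
    (Nat.nonempty_primeFactors.mpr (by have := Nat.card_pos (α := R); omega))
  have hp : p.Prime := Nat.prime_of_mem_primeFactors hpmem
  haveI := Fact.mk hp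
  obtain ⟨P⟩ : Nonempty (Sylow p R) := inferInstance
  set NP := Subgroup.normalizer (((P : Subgroup R).map R.subtype : Subgroup G) : Set G) with hNP
  have hFr : NP ⊔ R = ⊤ := Sylow.normalizer_sup_eq_top P
  have hNPtop : NP ≠ ⊤ := by
    intro e
    have hn' : ((P : Subgroup R).map R.subtype).Normal := Subgroup.normalizer_eq_top_iff.mp e
    have hne : (P : Subgroup R).map R.subtype ≠ ⊥ := by
      rw [Ne, Subgroup.map_eq_bot_iff_of_injective _ R.subtype_injective]
      exact P.ne_bot_of_dvd_card (Nat.dvd_of_mem_primeFactors hpmem)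
    haveI := hn'
    have hle := hRK _ hne
    have hpg : IsPGroup p R := (P.isPGroup'.map R.subtype).to_le hle
    haveI := hpg.isNilpotent
    exact hRns inferInstance
  obtain ⟨M, hM, hNM⟩ := (eq_top_or_exists_le_coatom NP).resolve_left hNPtop
  have hMR : M ⊔ R = ⊤ := top_le_iff.mp (hFr ▸ sup_le_sup_right hNM R)
  have hcore : M.normalCore = ⊥ := by
    by_contra e
    have h1 : R ≤ M := (hRK _ e).trans (Subgroup.normalCore_le M)
    exact hM.1 (by rw [← hMR, sup_eq_left.mpr h1])
  obtain ⟨q, hq, hidx⟩ := h M hM
  have hidx' : (M.subgroupOf R).index = M.index := by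
    show M.relIndex R = M.index
    rw [← Subgroup.relIndex_top_right M, ← hMR, Cfsg.Agent.Lib.PGroups.relIndex_sup_of_le_normalizer (by rw [Subgroup.normalizer_eq_top]; exact le_top)]
  have hmod : M.index ≡ 1 [MOD p] := by
    rw [← hidx']
    refine index_modEq_one P _ fun x hx => ?_
    apply hNM
    rw [hNP]
    exact Subgroup.le_normalizer_map R.subtype ⟨x, hx, rfl⟩
  have hdvd : M.index ∣ Nat.card R := by
    rw [← hidx']; exact Subgroup.index_dvd_card _
  have hqR : q ∣ Nat.card R := by
    refine dvd_trans ?_ hdvd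
    rcases hidx with e | e <;> rw [e]
    exact dvd_pow_self q two_ne_zero
  have hqp : q ≤ p := hpmax q (Nat.mem_primeFactors.mpr ⟨hq, hqR, Nat.card_pos.ne'⟩)
  have hne : q ≠ p := by
    rintro rfl
    have h0 : M.index ≡ 0 [MOD q] := by
      rw [Nat.modEq_zero_iff_dvd]
      rcases hidx with e | e <;> rw [e]
      exact dvd_pow_self q two_ne_zero
    have := (Nat.modEq_zero_iff_dvd.mp (hmod.symm.trans h0))
    exact hq.ne_one (Nat.dvd_one.mp this)
  have h4 : M.index = 4 := by
    rcases hidx with e | e
    · exfalso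
      rw [e] at hmod
      have h1 := Nat.ModEq.eq_of_lt_of_lt hmod (lt_of_le_of_ne hqp hne) hp.one_lt
      exact hq.ne_one h1
    · rw [e] at hmod ⊢
      have h1 : p ∣ q ^ 2 - 1 := (Nat.modEq_iff_dvd' (Nat.one_le_pow _ _ hq.pos)).mp hmod.symm
      have h2 : q ^ 2 - 1 = (q + 1) * (q - 1) := by
        have := hq.one_le
        rw [← Nat.sq_sub_sq, one_pow]
      rw [h2] at h1
      rcases hp.dvd_mul.mp h1 with h3 | h3
      · have h5 : p = q + 1 := by
          have := Nat.le_of_dvd (by omega) h3
          omega
        subst h5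
        rcases hq.eq_two_or_odd with rfl | hodd
        · norm_num
        · exfalso
          rcases hp.eq_two_or_odd with e2 | e2
          · have := hq.two_le; omega
          · omega
      · exfalso
        have := hq.two_le
        have := Nat.le_of_dvd (by omega) h3
        omega
  apply hns
  haveI : Fintype (G ⧸ M) := Fintype.ofFinite _
  haveI : Group.IsSolvable (Equiv.Perm (G ⧸ M)) :=
    Cfsg.Agent.Lib.PGroups.isSolvable_perm_of_card_le_four (by
      rw [← Nat.card_eq_fintype_card]; exact h4.le)
  refine Group.isSolvable_of_isSolvable_injective (f := MulAction.toPermHom G (G ⧸ M)) ?_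
  rw [← MonoidHom.ker_eq_bot_iff, ← Subgroup.normalCore_eq_ker, hcore]


/-- A finite group in which every maximal subgroup has index a prime or the square of a prime is solvable. -/
theorem result {G : Type*} [Group G] [Finite G] (h : ∀ M : Subgroup G, IsCoatom M → ∃ p : ℕ, p.Prime ∧ (M.index = p ∨ M.index = p ^ 2)) : Group.IsSolvable G := by

  exact main _ G rfl h

end Cfsg.Agent.S4203
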