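import Cfsg.Statements.S4204
import Cfsg.Agent.Lib.PGroups.Commutator

set_option autoImplicit false
open Cfsg

namespace Cfsg.Agent.S4204

variable {G : Type*} [Group G]

theorem commutator_le_iff_map_le_centralizer {A B T : Subgroup G} [T.Normal] :
    ⁅A, B⁆ ≤ T ↔ A.map (QuotientGroup.mk' T) ≤
      Subgroup.centralizer ((B.map (QuotientGroup.mk' T) : Subgroup (G ⧸ T)) : Set (G ⧸ T)) := by
  rw [← Subgroup.commutator_eq_bot_iff_le_centralizer, ← Subgroup.map_commutator, Subgroup.map_eq_bot_iff,
    QuotientGroup.ker_mk']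

theorem commutator_iSup_le {ι : Sort*} {A : ι → Subgroup G} {B T : Subgroup G} [T.Normal]
    (h : ∀ i, ⁅A i, B⁆ ≤ T) : ⁅⨆ i, A i, B⁆ ≤ T := by
  rw [commutator_le_iff_map_le_centralizer, Subgroup.map_iSup, iSup_le_iff]
  exact fun i => commutator_le_iff_map_le_centralizer.mp (h i)

theorem commutator_sup_le {A B C T : Subgroup G} [T.Normal] (h1 : ⁅A, B⁆ ≤ T) (h2 : ⁅A, C⁆ ≤ T) :
    ⁅A, B ⊔ C⁆ ≤ T := by
  rw [Subgroup.commutator_comm, commutator_le_iff_map_le_centralizer, Subgroup.map_sup, sup_le_iff]
  rw [Subgroup.commutator_comm, commutator_le_iff_map_le_centralizer] at h1 h2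
  exact ⟨h1, h2⟩

/-- The lower central series preceded by the whole group. -/
def serTop (H : Subgroup G) : ℕ → Subgroup G
  | 0 => ⊤
  | i + 1 => H.lowerCentralSeries i

theorem lcs_normal (H : Subgroup G) [H.Normal] : ∀ i, (H.lowerCentralSeries i).Normal
  | 0 => ‹H.Normal›
  | i + 1 => by haveI := lcs_normal H i; rw [Subgroup.lowerCentralSeries_succ]; infer_instance

theorem serTop_normal (H : Subgroup G) [H.Normal] : ∀ i, (serTop H i).Normal
  | 0 => inferInstanceAs (⊤ : Subgroup G).Normal
  | i + 1 => lcs_normal H i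

theorem serTop_step (H : Subgroup G) [H.Normal] : ∀ i, ⁅serTop H i, H⁆ ≤ serTop H (i + 1)
  | 0 => Subgroup.commutator_le_right ⊤ H
  | _ + 1 => le_of_eq rfl

/-- The filtration of the join. -/
def joined (H K : Subgroup G) (n : ℕ) : Subgroup G :=
  ⨆ (i : ℕ) (j : ℕ) (_ : n ≤ i + j), serTop H i ⊓ serTop K j

theorem joined_normal (H K : Subgroup G) [H.Normal] [K.Normal] (n : ℕ) : (joined H K n).Normal := by
  haveI := serTop_normal H
  haveI := serTop_normal K
  unfold joined
  infer_instance

theorem lcs_sup_le (H K : Subgroup G) [H.Normal] [K.Normal] :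
    ∀ n, (H ⊔ K).lowerCentralSeries n ≤ joined H K (n + 1) := by
  intro n
  induction n with
  | zero =>
    refine sup_le ?_ ?_
    · refine le_trans ?_ (le_iSup₂_of_le 1 0 (le_iSup_of_le (by omega) le_rfl))
      exact le_inf le_rfl le_top
    · refine le_trans ?_ (le_iSup₂_of_le 0 1 (le_iSup_of_le (by omega) le_rfl))
      exact le_inf le_top le_rfl
  | succ n ih =>
    haveI := joined_normal H K (n + 1 + 1)
    rw [Subgroup.lowerCentralSeries_succ]
    refine le_trans (Subgroup.commutator_mono ih le_rfl) ?_
    refine commutator_iSup_le fun i => commutator_iSup_le fun j => commutator_iSup_le fun hij => ?_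
    haveI := serTop_normal H i
    haveI := serTop_normal K j
    refine commutator_sup_le ?_ ?_
    · refine le_trans ?_ (le_iSup₂_of_le (i + 1) j (le_iSup_of_le (by omega) le_rfl))
      exact le_inf ((Subgroup.commutator_mono inf_le_left le_rfl).trans (serTop_step H i))
        ((Subgroup.commutator_mono inf_le_right le_rfl).trans (Subgroup.commutator_le_left _ _))
    · refine le_trans ?_ (le_iSup₂_of_le i (j + 1) (le_iSup_of_le (by omega) le_rfl))
      exact le_inf ((Subgroup.commutator_mono inf_le_left le_rfl).trans (Subgroup.commutator_le_left _ _))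
        ((Subgroup.commutator_mono inf_le_right le_rfl).trans (serTop_step K j))

/-- If `H` and `K` are normal subgroups of a finite group with `H` nilpotent of class at most `c` and `K` nilpotent of class at most `d` (the terms with index `c`, respectively `d`, of their lower central series are trivial, indices starting at `0`), then `HK` is nilpotent of class at most `c + d`. -/
theorem result {G : Type*} [Group G] [Finite G] (H K : Subgroup G) [H.Normal] [K.Normal] (c d : ℕ) (hH : H.lowerCentralSeries c = ⊥) (hK : K.lowerCentralSeries d = ⊥) : (H ⊔ K).lowerCentralSeries (c + d) = ⊥ := by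
  refine eq_bot_iff.mpr ((lcs_sup_le H K (c + d)).trans ?_)
  refine iSup_le fun i => iSup_le fun j => iSup_le fun hij => ?_
  rcases Nat.lt_or_ge c i with h | h
  · obtain ⟨i, rfl⟩ := Nat.exists_eq_succ_of_ne_zero (show i ≠ 0 by omega)
    exact inf_le_left.trans ((H.lowerCentralSeries_antitone (show c ≤ i by omega)).trans hH.le)
  · obtain ⟨j, rfl⟩ := Nat.exists_eq_succ_of_ne_zero (show j ≠ 0 by omega)
    exact inf_le_right.trans ((K.lowerCentralSeries_antitone (show d ≤ j by omega)).trans hK.le)

end Cfsg.Agent.S4204
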