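import Cfsg.Statements.S4205

set_option autoImplicit false
open Cfsg

namespace Cfsg.Agent.S4205

/-- In a finite group whose upper central series reaches the whole group at step `c` (nilpotent of class at most `c`), starting from any subgroup and taking normalizers `c` times reaches the whole group. -/
theorem result {G : Type*} [Group G] [Finite G] (c : ℕ) (hG : Subgroup.upperCentralSeries G c = ⊤) (H : Subgroup G) : (fun K : Subgroup G => Subgroup.normalizer (K : Set G))^[c] H = ⊤ := by
  have key : ∀ i, ∀ x ∈ Subgroup.upperCentralSeries G i,
      x ∈ (fun K : Subgroup G => Subgroup.normalizer (K : Set G))^[i] H := by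
    intro i
    induction i with
    | zero =>
      intro x hx
      simp only [Subgroup.upperCentralSeries_zero, Subgroup.mem_bot] at hx
      simp [hx]
    | succ i ih =>
      intro x hx
      rw [Function.iterate_succ_apply']
      set K := (fun K : Subgroup G => Subgroup.normalizer (K : Set G))^[i] H with hK
      rw [Subgroup.mem_upperCentralSeries_succ_iff] at hx
      rw [Subgroup.mem_normalizer_iff]
      intro h
      open scoped commutatorElement in
      have e : x * h * x⁻¹ = ⁅x, h⁆ * h := by rw [commutatorElement_def]; group
      have hm := ih _ (hx h)
      rw [e]
      exact ⟨fun hh => mul_mem hm hh, fun hh => (Subgroup.mul_mem_cancel_left _ hm).mp hh⟩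
  rw [eq_top_iff]
  intro x _
  exact key c x (by rw [hG]; exact Subgroup.mem_top x)

end Cfsg.Agent.S4205
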