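import Cfsg.Statements.S4208
import Cfsg.Agent.Lib.PGroups.BurnsideBasis

set_option autoImplicit false
open Cfsg

namespace Cfsg.Agent.S4208

/-- Let `P` be a group of order `p^n` whose Frattini subgroup has index `p^r`. Then the order of the automorphism group of `P` divides `p^(r(n-r)) · (p^r - 1)(p^r - p) ⋯ (p^r - p^(r-1))`. -/
theorem result {P : Type*} [Group P] [Finite P] {p n r : ℕ} [Fact p.Prime] (hP : Nat.card P = p ^ n) (hr : (frattini P).index = p ^ r) : Nat.card (MulAut P) ∣ p ^ (r * (n - r)) * ∏ i ∈ Finset.range r, (p ^ r - p ^ i) := by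
  have hp : p.Prime := Fact.out
  have hPp : IsPGroup p P := IsPGroup.of_card hP
  have hrn : r ≤ n := (Nat.pow_dvd_pow_iff_le_right hp.one_lt).mp
    (hr ▸ hP ▸ Subgroup.index_dvd_card (frattini P))
  have hΦ : Nat.card (frattini P) = p ^ (n - r) := by
    apply Nat.eq_of_mul_eq_mul_right (pow_pos hp.pos r)
    rw [← pow_add, Nat.sub_add_cancel hrn, ← hr, Subgroup.card_mul_index, hP]
  haveI := hPp.isNilpotent
  have h := Cfsg.Agent.Lib.PGroups.card_mulAut_dvd (G := P) (r := r)
  rw [hΦ, ← pow_mul, mul_comm (n - r), Cfsg.Agent.Lib.PGroups.card_generating_tuples (p := p) ?_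
    (Cfsg.Agent.Lib.Cores.pow_eq_one_quotient_frattini hPp) hr] at h
  · exact h
  · intro a b
    obtain ⟨x, rfl⟩ := QuotientGroup.mk'_surjective _ a
    obtain ⟨y, rfl⟩ := QuotientGroup.mk'_surjective _ b
    have hm := Cfsg.Agent.Lib.Cores.commutator_le_frattini (G := P)
      (Subgroup.commutator_mem_commutator (Subgroup.mem_top x⁻¹) (Subgroup.mem_top y⁻¹))
    rw [← map_mul, ← map_mul, QuotientGroup.mk'_apply, QuotientGroup.mk'_apply, QuotientGroup.eq]
    convert inv_mem hm using 1
    rw [commutatorElement_def]; group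

end Cfsg.Agent.S4208
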