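import Cfsg.Statements.S4211
import Mathlib

set_option autoImplicit false
open Cfsg

namespace Cfsg.Agent.S4211

universe u

theorem comm_pow {G : Type u} [Group G] {z y d : G} (h : z * y = d * (y * z))
    (hdz : Commute d z) (hdy : Commute d y) (N : ℕ) : z ^ N * y = d ^ N * (y * z ^ N) := by
  induction N with
  | zero => simp
  | succ N ih =>
    calc z ^ (N + 1) * y = z ^ N * (z * y) := by rw [pow_succ, mul_assoc]
      _ = d * (z ^ N * y * z) := by
          rw [h, ← mul_assoc, ← (hdz.pow_right N).eq, mul_assoc, mul_assoc]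
      _ = d ^ (N + 1) * (y * z ^ (N + 1)) := by
          rw [ih, pow_succ' d, pow_succ z]; simp only [mul_assoc]

theorem mul_pow_comm {G : Type u} [Group G] {z y d : G} (h : z * y = d * (y * z))
    (hdz : Commute d z) (hdy : Commute d y) (N : ℕ) :
    (y * z) ^ N = d ^ (N.choose 2) * (y ^ N * z ^ N) := by
  induction N with
  | zero => simp
  | succ N ih =>
    rw [pow_succ, ih, Nat.choose_succ_succ', Nat.choose_one_right, add_comm N, pow_add d]
    calc d ^ N.choose 2 * (y ^ N * z ^ N) * (y * z)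
        = d ^ N.choose 2 * (y ^ N * (z ^ N * y) * z) := by simp only [mul_assoc]
      _ = d ^ N.choose 2 * d ^ N * (y ^ (N + 1) * z ^ (N + 1)) := by
          rw [comm_pow h hdz hdy, ← mul_assoc (y ^ N), (hdy.pow_pow N N).symm.eq, pow_succ y,
            pow_succ z]
          simp only [mul_assoc]

theorem pow_ne_of_minimal {G : Type u} [Group G] [Finite G] {x y : G} (hxy : ¬ Commute x y)
    (hx : ∀ x' : G, orderOf x' < orderOf x → Commute x' y) :
    ∃ p m : ℕ, p.Prime ∧ orderOf x = p ^ (m + 1) ∧ Commute (x ^ p) y := by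
  have h1 : orderOf x ≠ 1 := fun h => hxy (by rw [orderOf_eq_one_iff.mp h]; exact Commute.one_left y)
  obtain ⟨p, hp, hpx⟩ := Nat.exists_prime_and_dvd h1
  have hlt : ∀ q : ℕ, q.Prime → q ∣ orderOf x → Commute (x ^ q) y := fun q hq hqx => by
    refine hx _ ?_
    rw [orderOf_pow_of_dvd hq.ne_zero hqx]
    exact Nat.div_lt_self (orderOf_pos x) hq.one_lt
  have hall : ∀ q : ℕ, q.Prime → q ∣ orderOf x → q = p := by
    intro q hq hqx
    by_contra hne
    refine hxy ?_
    have hb : ((p : ℤ) * Nat.gcdA p q + (q : ℤ) * Nat.gcdB p q) = 1 := by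
      rw [← Nat.gcd_eq_gcd_ab, (Nat.coprime_primes hp hq).mpr (Ne.symm hne)]; rfl
    have e : x = (x ^ p) ^ Nat.gcdA p q * (x ^ q) ^ Nat.gcdB p q := by
      rw [← zpow_natCast x p, ← zpow_natCast x q, ← zpow_mul, ← zpow_mul, ← zpow_add, hb, zpow_one]
    rw [e]
    exact ((hlt p hp hpx).zpow_left _).mul_left ((hlt q hq hqx).zpow_left _)
  obtain ⟨m, hm⟩ : ∃ m, orderOf x = p ^ m :=
    ⟨_, Nat.eq_prime_pow_of_unique_prime_dvd (orderOf_pos x).ne' fun {q} hq hqx => hall q hq hqx⟩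
  obtain ⟨m', rfl⟩ : ∃ m', m = m' + 1 :=
    Nat.exists_eq_succ_of_ne_zero fun h => h1 (by rw [hm, h, pow_zero])
  exact ⟨p, m', hp, hm, hlt p hp hpx⟩

theorem exists_q8 {G : Type u} [Group G] [Finite G] (hn : ∀ H : Subgroup G, H.Normal)
    (hna : ∃ a b : G, ¬ Commute a b) :
    ∃ x y : G, orderOf x = 4 ∧ orderOf y = 4 ∧ x ^ 2 = y ^ 2 ∧ y * x * y⁻¹ = x⁻¹ := by
  classical
  have hex : ∃ s, ∃ a b : G, ¬ Commute a b ∧ orderOf a + orderOf b = s := by
    obtain ⟨a, b, h⟩ := hna; exact ⟨_, a, b, h, rfl⟩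
  obtain ⟨x, y, hxy, hs, hle⟩ : ∃ x y : G, ¬ Commute x y ∧ orderOf x + orderOf y = Nat.find hex ∧
      orderOf y ≤ orderOf x := by
    obtain ⟨a, b, h, hs⟩ := Nat.find_spec hex
    rcases le_total (orderOf b) (orderOf a) with hle | hle
    · exact ⟨a, b, h, hs, hle⟩
    · exact ⟨b, a, fun hc => h hc.symm, by rw [add_comm]; exact hs, hle⟩
  have hmin : ∀ a b : G, ¬ Commute a b → orderOf x + orderOf y ≤ orderOf a + orderOf b :=
    fun a b h => hs ▸ Nat.find_min' hex ⟨a, b, h, rfl⟩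
  obtain ⟨p, m, hp, hm, hxp⟩ := pow_ne_of_minimal hxy fun x' h => by
    by_contra hc; have := hmin x' y hc; omega
  obtain ⟨q, n, hq, hn', hyq⟩ := pow_ne_of_minimal (fun hc => hxy hc.symm) (x := y) (y := x)
    fun y' h => by
      by_contra hc; have := hmin x y' (fun h' => hc h'.symm); omega
  set c := x * y * x⁻¹ * y⁻¹ with hc
  have hcy : c ∈ Subgroup.zpowers y :=
    mul_mem ((hn _).conj_mem y (Subgroup.mem_zpowers y) x) (inv_mem (Subgroup.mem_zpowers y))
  have hcx : c ∈ Subgroup.zpowers x := by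
    rw [hc, show x * y * x⁻¹ * y⁻¹ = x * (y * x⁻¹ * y⁻¹) by group]
    exact mul_mem (Subgroup.mem_zpowers x)
      ((hn _).conj_mem _ (inv_mem (Subgroup.mem_zpowers x)) y)
  obtain ⟨i, hi⟩ := Subgroup.mem_zpowers_iff.mp hcx
  obtain ⟨j, hj⟩ := Subgroup.mem_zpowers_iff.mp hcy
  have hcmx : Commute c x := hi ▸ (Commute.refl x).zpow_left i
  have hcmy : Commute c y := hj ▸ (Commute.refl y).zpow_left j
  have hbase : x * y = c * (y * x) := by rw [hc]; group
  have hcp : c ^ p = 1 := by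
    have h := comm_pow hbase hcmx hcmy p
    rw [hxp.eq] at h
    exact mul_eq_right.mp h.symm
  have hc1 : c ≠ 1 := fun h => hxy (by rw [commute_iff_eq, hbase, h, one_mul])
  have hcq : c ^ q = 1 := by
    have hbase' : y * x = c⁻¹ * (x * y) := by rw [hbase, inv_mul_cancel_left]
    have h := comm_pow hbase' hcmy.inv_left hcmx.inv_left q
    rw [hyq.eq, inv_pow] at h
    exact inv_eq_one.mp (mul_eq_right.mp h.symm)
  obtain rfl : q = p := by
    by_contra hne
    exact hc1 (orderOf_eq_one_iff.mp (Nat.eq_one_of_dvd_coprimes ((Nat.coprime_primes hq hp).mpr hne)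
      (orderOf_dvd_of_pow_eq_one hcq) (orderOf_dvd_of_pow_eq_one hcp)))
  haveI := Fact.mk hq
  have hco : orderOf c = q := orderOf_eq_prime hcp hc1
  -- `c` generates the subgroup of order `q` of `⟨z⟩`
  have hsoc : ∀ (z : G) (k : ℕ), orderOf z = q ^ (k + 1) → c ∈ Subgroup.zpowers z →
      Subgroup.zpowers (z ^ q ^ k) = Subgroup.zpowers c := by
    intro z k hz hcz
    obtain ⟨l, hl⟩ := Subgroup.mem_zpowers_iff.mp hcz
    symm
    refine Subgroup.eq_of_le_of_card_ge (Subgroup.zpowers_le.mpr ?_) ?_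
    · have h1 : z ^ (l * (q : ℤ)) = 1 := by rw [zpow_mul, zpow_natCast, hl, hcp]
      rw [← orderOf_dvd_iff_zpow_eq_one, hz, Nat.cast_pow, pow_succ] at h1
      obtain ⟨e, he⟩ := (mul_dvd_mul_iff_right (by exact_mod_cast hq.ne_zero)).mp h1
      rw [← hl, he, zpow_mul, ← Nat.cast_pow, zpow_natCast]
      exact Subgroup.zpow_mem _ (Subgroup.mem_zpowers _) e
    · rw [Nat.card_zpowers, Nat.card_zpowers, hco, orderOf_pow_of_dvd (pow_ne_zero _ hq.ne_zero)
        (hz ▸ pow_dvd_pow q k.le_succ), hz, pow_succ, Nat.mul_div_cancel_left _ (pow_pos hq.pos k)]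
  have hxs := hsoc x m hm hcx
  have hys := hsoc y n hn' hcy
  have hmn : n ≤ m := by
    rw [hm, hn'] at hle
    have := (Nat.pow_le_pow_iff_right hq.one_lt).mp hle
    omega
  obtain ⟨s, hs'⟩ : ∃ s : ℕ, (x ^ q ^ m) ^ s = (y ^ q ^ n)⁻¹ :=
    Submonoid.mem_powers_iff _ _ |>.mp (mem_powers_iff_mem_zpowers.mpr
      (inv_mem (hxs ▸ hys ▸ Subgroup.mem_zpowers (y ^ q ^ n))))
  set t := q ^ (m - n) * s with ht
  have hxt : (x ^ t) ^ q ^ n = (y ^ q ^ n)⁻¹ := by
    rw [← hs', ← pow_mul, ← pow_mul]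
    congr 1
    rw [ht, mul_right_comm, ← pow_add, Nat.sub_add_cancel hmn]
  have hxy' : ¬ Commute x (y * x ^ t) := fun h => hxy (by
    have h2 := h.mul_right ((Commute.refl x).pow_right t).inv_right
    rwa [mul_inv_cancel_right] at h2)
  have hne : (y * x ^ t) ^ q ^ n ≠ 1 := fun h => by
    have h1 := hmin x _ hxy'
    have h2 : orderOf (y * x ^ t) ≤ q ^ n := Nat.le_of_dvd (pow_pos hq.pos n) (orderOf_dvd_of_pow_eq_one h)
    have h3 : q ^ n < q ^ (n + 1) := Nat.pow_lt_pow_right hq.one_lt n.lt_succ_self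
    omega
  have hbase2 : x ^ t * y = c ^ t * (y * x ^ t) := comm_pow hbase hcmx hcmy t
  rw [mul_pow_comm hbase2 (hcmx.pow_pow t t) (hcmy.pow_left t), hxt, mul_inv_cancel, mul_one,
    ← pow_mul, ne_eq, ← orderOf_dvd_iff_pow_eq_one, hco] at hne
  have hpn : q ^ n = 2 := by
    by_contra h
    rcases Nat.eq_zero_or_pos n with h0 | h0
    · exact hne (by simp [h0])
    · exact hne (dvd_mul_of_dvd_right (hq.dvd_choose_pow (by norm_num) (Ne.symm h)) t)
  have hn1 : n = 1 := by
    rcases Nat.eq_zero_or_pos n with h0 | h0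
    · rw [h0, pow_zero] at hpn; omega
    · by_contra h
      have h2 : q ^ 2 ≤ q ^ n := Nat.pow_le_pow_right hq.pos (by omega)
      have := hq.two_le
      nlinarith
  obtain rfl : q = 2 := by rw [hn1, pow_one] at hpn; exact hpn
  have hm1 : m = 1 := by
    by_contra h
    refine hne (dvd_mul_of_dvd_left ?_ _)
    exact dvd_mul_of_dvd_left (dvd_pow_self 2 (by omega)) s
  subst hm1 hn1
  norm_num at hm hn' hxs hys
  have hsq : ∀ z : G, orderOf z = 4 → Subgroup.zpowers (z ^ 2) = Subgroup.zpowers c → z ^ 2 = c := by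
    intro z hz hzs
    obtain ⟨l, hl⟩ : ∃ l : ℕ, c ^ l = z ^ 2 := Submonoid.mem_powers_iff _ _ |>.mp
      (mem_powers_iff_mem_zpowers.mpr (hzs ▸ Subgroup.mem_zpowers (z ^ 2)))
    rcases Nat.mod_two_eq_zero_or_one l with h | h
    · rw [← pow_mod_orderOf, hco, h, pow_zero] at hl
      have h4 := Nat.le_of_dvd two_pos (orderOf_dvd_of_pow_eq_one hl.symm)
      omega
    · rw [← pow_mod_orderOf, hco, h, pow_one] at hl
      exact hl.symm
  have hx2 := hsq x hm hxs
  refine ⟨x, y, hm, hn', hx2.trans (hsq y hn' hys).symm, ?_⟩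
  have h : y * x⁻¹ * y⁻¹ = x := by
    have e : x⁻¹ * c = x := by rw [← hx2, pow_two, inv_mul_cancel_left]
    conv_rhs => rw [← e, hc]
    group
  calc y * x * y⁻¹ = (y * x⁻¹ * y⁻¹)⁻¹ := by group
    _ = x⁻¹ := by rw [h]



/-- A finite non-abelian group in which every subgroup is normal is the internal direct product of a subgroup isomorphic to the quaternion group of order `8`, an elementary abelian `2`-subgroup and an abelian subgroup of odd order. -/
theorem result {G : Type*} [Group G] [Finite G] (hna : ¬ IsMulCommutative G) (hn : ∀ H : Subgroup G, H.Normal) : ∃ Q E A : Subgroup G, Nonempty (Q ≃* QuaternionGroup 2) ∧ Cfsg.IsElementaryAbelian 2 E ∧ IsMulCommutative A ∧ Odd (Nat.card A) ∧ E ⊓ A = ⊥ ∧ Q ⊓ (E ⊔ A) = ⊥ ∧ Q ⊔ (E ⊔ A) = ⊤ := by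
  classical
  haveI := Fintype.ofFinite G
  have hna' : ∃ a b : G, ¬ Commute a b := by
    by_contra h
    push Not at h
    exact hna ⟨⟨fun a b => h a b⟩⟩
  obtain ⟨x, y, hx, hy, hsq, hconj⟩ := exists_q8 hn hna'
  have hxy : ¬ Commute x y := fun h => by
    rw [← h.eq, mul_inv_cancel_right] at hconj
    have h2 : x ^ 2 = 1 := by rw [pow_two]; nth_rw 2 [hconj]; exact mul_inv_cancel x
    have := Nat.le_of_dvd two_pos (orderOf_dvd_of_pow_eq_one h2)
    omega
  have hx4 : x ^ 4 = 1 := hx ▸ pow_orderOf_eq_one x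
  have hy4 : y ^ 4 = 1 := hy ▸ pow_orderOf_eq_one y
  -- conjugates of elements of order four
  have hpm : ∀ z g : G, orderOf z = 4 → g * z * g⁻¹ = z ∨ g * z * g⁻¹ = z⁻¹ := by
    intro z g hz
    have hz4 : z ^ 4 = 1 := hz ▸ pow_orderOf_eq_one z
    obtain ⟨i, hi⟩ : ∃ i : ℕ, z ^ i = g * z * g⁻¹ := Submonoid.mem_powers_iff _ _ |>.mp
      (mem_powers_iff_mem_zpowers.mpr ((hn _).conj_mem z (Subgroup.mem_zpowers z) g))
    rw [← pow_mod_orderOf, hz] at hi
    have hlt := Nat.mod_lt i (show 4 > 0 by norm_num)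
    have hodd : i % 4 ≠ 0 ∧ i % 4 ≠ 2 := by
      refine ⟨fun h => ?_, fun h => ?_⟩ <;> rw [h] at hi
      · rw [pow_zero, eq_comm, conj_eq_one_iff] at hi
        rw [hi, orderOf_one] at hz; omega
      · have h2 : (g * z * g⁻¹) ^ 2 = 1 := by rw [← hi, ← pow_mul, hz4]
        rw [conj_pow, conj_eq_one_iff] at h2
        have := Nat.le_of_dvd two_pos (orderOf_dvd_of_pow_eq_one h2)
        omega
    have hcases : i % 4 = 1 ∨ i % 4 = 3 := by omega
    rcases hcases with h | h <;> rw [h] at hi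
    · exact Or.inl (by rw [← hi, pow_one])
    · exact Or.inr (by rw [← hi]; exact eq_inv_of_mul_eq_one_left (by rw [← pow_succ]; exact hz4))
  -- the quaternion subgroup
  have hyx : ∀ k : ℤ, x ^ k * y = y * x ^ (-k) := by
    intro k
    have h : y * x ^ (-k) * y⁻¹ = x ^ k := by
      rw [← conj_zpow, hconj, inv_zpow', neg_neg]
    rw [← h]; group
  have hval : ∀ k : ℤ, x ^ ((k : ZMod (2 * 2))).val = x ^ k := by
    intro k
    rw [← zpow_natCast, ZMod.val_intCast, show ((2 * 2 : ℕ) : ℤ) = (orderOf x : ℤ) by rw [hx]]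
    exact zpow_mod_orderOf x k
  let f : QuaternionGroup 2 → G := fun q => match q with
    | .a i => x ^ i.val
    | .xa i => y * x ^ i.val
  let φ : QuaternionGroup 2 →* G := MonoidHom.mk' f (by
    intro a b
    rcases a with a | a <;> rcases b with b | b <;>
      obtain ⟨k, rfl⟩ := ZMod.intCast_surjective a <;> obtain ⟨l, rfl⟩ := ZMod.intCast_surjective b
    · rw [QuaternionGroup.a_mul_a, ← Int.cast_add]
      show x ^ _ = x ^ _ * x ^ _
      rw [hval, hval, hval, zpow_add]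
    · rw [QuaternionGroup.a_mul_xa, ← Int.cast_sub]
      show y * x ^ _ = x ^ _ * (y * x ^ _)
      rw [hval, hval, hval, ← mul_assoc, hyx, mul_assoc, ← zpow_add]
      congr 2; ring
    · rw [QuaternionGroup.xa_mul_a, ← Int.cast_add]
      show y * x ^ _ = y * x ^ _ * x ^ _
      rw [hval, hval, hval, zpow_add, mul_assoc]
    · rw [QuaternionGroup.xa_mul_xa, show ((2 : ℕ) : ZMod (2 * 2)) = ((2 : ℤ) : ZMod (2 * 2)) from rfl,
        ← Int.cast_add, ← Int.cast_sub]
      show x ^ _ = y * x ^ _ * (y * x ^ _)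
      rw [hval, hval, hval]
      calc x ^ (2 + l - k) = x ^ (2 : ℤ) * x ^ (-k + l) := by rw [← zpow_add]; congr 1; ring
        _ = y * y * (x ^ (-k) * x ^ l) := by rw [zpow_add, zpow_two, ← pow_two, hsq, pow_two]
        _ = y * (x ^ k * y) * x ^ l := by rw [hyx]; simp only [mul_assoc]
        _ = _ := by simp only [mul_assoc])
  have hφ : Function.Injective φ := by
    rw [injective_iff_map_eq_one]
    intro a h
    rcases a with a | a <;> obtain ⟨k, rfl⟩ := ZMod.intCast_surjective a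
    · change x ^ _ = 1 at h
      rw [hval, ← orderOf_dvd_iff_zpow_eq_one, hx] at h
      rw [QuaternionGroup.one_def, (ZMod.intCast_zmod_eq_zero_iff_dvd k (2 * 2)).mpr h]
    · change y * x ^ _ = 1 at h
      rw [hval, mul_eq_one_iff_eq_inv] at h
      exact absurd (h ▸ ((Commute.refl x).zpow_right k).inv_right) hxy
  set Q := φ.range with hQ
  have hxQ : x ∈ Q := ⟨.a 1, by show x ^ ((1 : ZMod (2*2))).val = x; rw [show (1 : ZMod (2*2)).val = 1 from rfl, pow_one]⟩
  have hyQ : y ∈ Q := ⟨.xa 0, by show y * x ^ ((0 : ZMod (2*2))).val = y; simp⟩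
  -- the centralizer
  set C := Subgroup.centralizer ({x, y} : Set G) with hC
  have hmemC : ∀ g : G, g ∈ C ↔ Commute g x ∧ Commute g y := by
    intro g
    rw [hC, Subgroup.mem_centralizer_iff]
    constructor
    · exact fun h => ⟨(h x (Or.inl rfl)).symm, (h y (Or.inr rfl)).symm⟩
    · rintro ⟨h1, h2⟩ h (rfl | rfl)
      · exact h1.symm
      · exact h2.symm
  have hcomm : ∀ g z : G, g * z * g⁻¹ = z ↔ Commute g z := fun g z => by
    rw [mul_inv_eq_iff_eq_mul]; rfl
  have hgC : ∀ g : G, ∃ q ∈ Q, q⁻¹ * g ∈ C := by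
    intro g
    have hxi : y⁻¹ * x⁻¹ * y = x := by
      rw [← hconj]; group
    have hyi : x⁻¹ * y⁻¹ * x = y := by
      rcases hpm y x⁻¹ hy with h | h
      · exact absurd (((hcomm _ _).mp h).inv_left) (by rw [inv_inv]; exact hxy)
      · rw [inv_inv] at h
        calc x⁻¹ * y⁻¹ * x = (x⁻¹ * y * x)⁻¹ := by group
          _ = y := by rw [h, inv_inv]
    have key : ∀ q z w : G, g * z * g⁻¹ = w → q⁻¹ * w * q = z → Commute (q⁻¹ * g) z := by
      intro q z w h1 h2
      rw [← hcomm, mul_inv_rev, inv_inv]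
      calc q⁻¹ * g * z * (g⁻¹ * q) = q⁻¹ * (g * z * g⁻¹) * q := by group
        _ = z := by rw [h1, h2]
    rcases hpm x g hx with h1 | h1 <;> rcases hpm y g hy with h2 | h2
    · exact ⟨1, one_mem _, (hmemC _).mpr ⟨key 1 x x h1 (by group), key 1 y y h2 (by group)⟩⟩
    · exact ⟨x, hxQ, (hmemC _).mpr ⟨key x x x h1 (by group), key x y _ h2 hyi⟩⟩
    · exact ⟨y, hyQ, (hmemC _).mpr ⟨key y x _ h1 hxi, key y y y h2 (by group)⟩⟩
    · refine ⟨x * y, mul_mem hxQ hyQ, (hmemC _).mpr ⟨key _ x _ h1 ?_, key _ y _ h2 ?_⟩⟩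
      · rw [show (x * y)⁻¹ * x⁻¹ * (x * y) = y⁻¹ * x⁻¹ * y by group, hxi]
      · rw [show (x * y)⁻¹ * y⁻¹ * (x * y) = y⁻¹ * (x⁻¹ * y⁻¹ * x) * y by group, hyi]; group
  have hno4 : ∀ g ∈ C, g ^ 4 = 1 → g ^ 2 = 1 := by
    intro g hg hg4
    obtain ⟨hgx, hgy⟩ := (hmemC g).mp hg
    have hgne : g ≠ x := fun h => hxy (h ▸ hgy)
    have hxg4 : (x * g) ^ 4 = 1 := by rw [hgx.symm.mul_pow, hx4, hg4, one_mul]
    obtain ⟨i, hi⟩ : ∃ i : ℕ, (x * g) ^ i = y * (x * g) * y⁻¹ := Submonoid.mem_powers_iff _ _ |>.mp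
      (mem_powers_iff_mem_zpowers.mpr ((hn _).conj_mem _ (Subgroup.mem_zpowers (x * g)) y))
    have he : y * (x * g) * y⁻¹ = x⁻¹ * g := by
      calc y * (x * g) * y⁻¹ = y * x * (g * y⁻¹) := by simp only [mul_assoc]
        _ = x⁻¹ * g := by rw [hgy.inv_right.eq, ← mul_assoc, hconj]
    rw [he, pow_eq_pow_mod i hxg4, hgx.symm.mul_pow] at hi
    have hxinv : x⁻¹ = x ^ 3 := inv_eq_of_mul_eq_one_right (by rw [← pow_succ']; exact hx4)
    have hlt := Nat.mod_lt i (show 4 > 0 by norm_num)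
    interval_cases hi' : i % 4
    · rw [pow_zero, pow_zero, one_mul, eq_comm, inv_mul_eq_one] at hi
      exact absurd hi.symm hgne
    · rw [pow_one, pow_one] at hi
      have h := mul_right_cancel hi
      exfalso
      have h2 : x ^ 2 = 1 := by rw [pow_two]; nth_rw 2 [h]; exact mul_inv_cancel x
      have := Nat.le_of_dvd two_pos (orderOf_dvd_of_pow_eq_one h2)
      omega
    · exfalso
      rw [pow_two g, ← mul_assoc] at hi
      have h := mul_right_cancel hi
      refine hgne (mul_left_cancel (a := x ^ 2) ?_)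
      rw [h, hxinv, ← pow_succ]
    · rw [hxinv, pow_succ g] at hi
      have h : x ^ 3 * (g ^ 2 * g) = x ^ 3 * (1 * g) := by rw [one_mul]; exact hi
      exact mul_right_cancel (mul_left_cancel h)
  have htwo : ∀ (k : ℕ), ∀ g ∈ C, g ^ 2 ^ k = 1 → g ^ 2 = 1 := by
    intro k
    induction k with
    | zero => intro g _ h; rw [pow_zero, pow_one] at h; rw [h, one_pow]
    | succ k ih =>
      intro g hg h
      refine hno4 g hg ?_
      have := ih (g ^ 2) (pow_mem hg 2) (by rw [← pow_mul, ← pow_succ']; exact h)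
      rw [← pow_mul] at this
      exact this
  have hCcomm : ∀ a ∈ C, ∀ b ∈ C, Commute a b := by
    by_contra h
    push Not at h
    obtain ⟨a, ha, b, hb, hab⟩ := h
    obtain ⟨u, -, hu, -, -, -⟩ := exists_q8 (G := C) (fun H => by
      have hcm := (hn (H.map C.subtype)).comap C.subtype
      rwa [Subgroup.comap_map_eq_self_of_injective C.subtype_injective] at hcm)
      ⟨⟨a, ha⟩, ⟨b, hb⟩, fun hc => hab (congrArg Subtype.val hc)⟩
    have h4 : (u : G) ^ 4 = 1 := congrArg Subtype.val (hu ▸ pow_orderOf_eq_one u)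
    have h2 := Nat.le_of_dvd two_pos (orderOf_dvd_of_pow_eq_one (hno4 u u.2 h4))
    rw [Subgroup.orderOf_coe] at h2
    omega
  -- odd part
  let A : Subgroup G :=
    { carrier := {g | g ∈ C ∧ Odd (orderOf g)}
      one_mem' := ⟨one_mem _, by simp⟩
      mul_mem' := fun {a b} ha hb => ⟨mul_mem ha.1 hb.1,
        Odd.of_dvd_nat (ha.2.mul hb.2) (hCcomm a ha.1 b hb.1).orderOf_mul_dvd_mul_orderOf⟩
      inv_mem' := fun {a} ha => ⟨inv_mem ha.1, by rw [orderOf_inv]; exact ha.2⟩ }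
  have hAodd : Odd (Nat.card A) := by
    rw [← Nat.not_even_iff_odd, even_iff_two_dvd]
    intro h
    haveI := Fact.mk Nat.prime_two
    obtain ⟨a, ha⟩ := exists_prime_orderOf_dvd_card' 2 h
    have := a.2.2
    rw [Subgroup.orderOf_coe, ha] at this
    exact absurd this (by decide)
  set c := x ^ 2 with hc
  have hcQ : c ∈ Q := pow_mem hxQ 2
  have hcC : c ∈ C := (hmemC _).mpr ⟨(Commute.refl x).pow_left 2, by
    rw [hsq]; exact (Commute.refl y).pow_left 2⟩
  have hc2 : c ^ 2 = 1 := by rw [hc, ← pow_mul]; exact hx4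
  have hc1 : c ≠ 1 := fun h => by
    have := Nat.le_of_dvd two_pos (orderOf_dvd_of_pow_eq_one h)
    omega
  obtain ⟨E, hEs, hEmax⟩ := Finset.exists_max_image
    (Finset.univ.filter fun E : Subgroup G => E ≤ C ∧ (∀ e ∈ E, e ^ 2 = 1) ∧ c ∉ E)
    (fun E => Nat.card E)
    ⟨⊥, by simp [hc1]⟩
  simp only [Finset.mem_filter, Finset.mem_univ, true_and] at hEs hEmax
  obtain ⟨hEC, hE2, hcE⟩ := hEs
  have hsplit : ∀ t ∈ C, t ^ 2 = 1 → t ∈ E ∨ t * c ∈ E := by
    intro t ht ht2
    have htt : t * t = 1 := by rw [← pow_two]; exact ht2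
    have hinv : t⁻¹ = t := inv_eq_of_mul_eq_one_right htt
    by_contra h
    push Not at h
    let E' : Subgroup G :=
      { carrier := {z | z ∈ E ∨ t * z ∈ E}
        one_mem' := Or.inl (one_mem _)
        mul_mem' := fun {a b} ha hb => by
          rcases ha with ha | ha <;> rcases hb with hb | hb
          · exact Or.inl (mul_mem ha hb)
          · refine Or.inr ?_
            rw [← mul_assoc, (hCcomm t ht a (hEC ha)).eq, mul_assoc]
            exact mul_mem ha hb
          · exact Or.inr (by rw [← mul_assoc]; exact mul_mem ha hb)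
          · refine Or.inl ?_
            have haC : a ∈ C := by simpa [← mul_assoc, htt] using mul_mem ht (hEC ha)
            have h3 := mul_mem ha hb
            rw [show t * a * (t * b) = a * b by
              rw [mul_assoc, ← mul_assoc a, ← (hCcomm t ht a haC).eq, ← mul_assoc, ← mul_assoc, htt,
                one_mul]] at h3
            exact h3
        inv_mem' := fun {a} ha => by
          rcases ha with ha | ha
          · exact Or.inl (inv_mem ha)
          · refine Or.inr ?_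
            have haC : a ∈ C := by simpa [← mul_assoc, htt] using mul_mem ht (hEC ha)
            have h3 := inv_mem ha
            rw [mul_inv_rev, hinv] at h3
            rwa [(hCcomm t ht a⁻¹ (inv_mem haC)).eq] }
    have hEE' : E < E' := by
      refine SetLike.lt_iff_le_and_exists.mpr ⟨fun z hz => Or.inl hz, t, Or.inr ?_, h.1⟩
      rw [htt]; exact one_mem _
    have hlt : Nat.card E < Nat.card E' := by
      by_contra hle
      exact hEE'.ne (Subgroup.eq_of_le_of_card_ge hEE'.le (not_lt.mp hle))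
    refine absurd (hEmax E' ⟨fun z hz => ?_, fun z hz => ?_, fun hz => hz.elim hcE h.2⟩) (not_le.mpr hlt)
    · exact hz.elim (fun h => hEC h) fun h => by simpa [← mul_assoc, htt] using mul_mem ht (hEC h)
    · rcases hz with hz | hz
      · exact hE2 z hz
      · have hzC : z ∈ C := by simpa [← mul_assoc, htt] using mul_mem ht (hEC hz)
        have h5 := hE2 _ hz
        rwa [(hCcomm t ht z hzC).mul_pow, ht2, one_mul] at h5
  haveI := hn A
  haveI := hn (E ⊔ A)
  refine ⟨Q, E, A, ⟨(MonoidHom.ofInjective hφ).symm⟩, ⟨?_, hE2⟩, ?_, hAodd, ?_, ?_, ?_⟩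
  · exact ⟨⟨fun a b => Subtype.ext (hCcomm a (hEC a.2) b (hEC b.2))⟩⟩
  · exact ⟨⟨fun a b => Subtype.ext (hCcomm a a.2.1 b b.2.1)⟩⟩
  · rw [eq_bot_iff]
    rintro g ⟨hgE, -, hgA⟩
    refine orderOf_eq_one_iff.mp (((Nat.dvd_prime Nat.prime_two).mp
      (orderOf_dvd_of_pow_eq_one (hE2 g hgE))).resolve_right fun h => ?_)
    rw [h] at hgA
    exact absurd hgA (by decide)
  · rw [eq_bot_iff]
    rintro g ⟨⟨q, rfl⟩, hg⟩
    obtain ⟨e, he, a, ha, hea⟩ := Subgroup.mem_sup_of_normal_right.mp hg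
    have hqd : ∀ q : QuaternionGroup 2, q ^ 4 = 1 ∧ (q ^ 2 = 1 → q = 1 ∨ q = .a 2) := by decide
    have h4 : (e * a) ^ 4 = 1 := by rw [hea, ← map_pow, (hqd q).1, map_one]
    rw [(hCcomm e (hEC he) a ha.1).mul_pow, show 4 = 2 * 2 from rfl, pow_mul e, hE2 e he, one_pow,
      one_mul, ← orderOf_dvd_iff_pow_eq_one] at h4
    have ha1 : a = 1 := orderOf_eq_one_iff.mp (Nat.eq_one_of_dvd_coprimes
      (ha.2.coprime_two_right.pow_right 2) dvd_rfl h4)
    rw [ha1, mul_one] at hea
    subst hea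
    have hq2 : q ^ 2 = 1 := hφ (by rw [map_pow, hE2 _ he, map_one])
    rcases (hqd q).2 hq2 with rfl | rfl
    · exact map_one φ
    · exact absurd he hcE
  · rw [eq_top_iff]
    intro g _
    obtain ⟨q, hq, hz⟩ := hgC g
    obtain ⟨k, r, hr, hkr⟩ := Nat.exists_eq_two_pow_mul_odd (orderOf_pos (q⁻¹ * g)).ne'
    set z := q⁻¹ * g with hz'
    have hzr : (z ^ r) ^ 2 = 1 := by
      refine htwo k _ (pow_mem hz r) ?_
      rw [← pow_mul, mul_comm, ← hkr, pow_orderOf_eq_one]
    have hza : z ^ (1 + r) ∈ A := by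
      refine ⟨pow_mem hz _, hr.of_dvd_nat (orderOf_dvd_of_pow_eq_one ?_)⟩
      obtain ⟨s, hs⟩ := hr
      rw [← pow_mul, show (1 + r) * r = r * 2 * (s + 1) by rw [hs]; ring, pow_mul, pow_mul, hzr,
        one_pow]
    have hdec : g = q * (z ^ r * z ^ (1 + r)) := by
      rw [← pow_add, show r + (1 + r) = r * 2 + 1 by ring, pow_succ, pow_mul, hzr, one_mul, hz',
        mul_inv_cancel_left]
    rcases hsplit _ (pow_mem hz r) hzr with h | h
    · rw [hdec]
      exact Subgroup.mul_mem_sup hq (Subgroup.mul_mem_sup h hza)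
    · have e : g = q * c * (z ^ r * c * z ^ (1 + r)) := by
        conv_lhs => rw [hdec]
        rw [(hCcomm _ (pow_mem hz r) c hcC).eq]
        simp only [mul_assoc]
        rw [← mul_assoc c c, ← pow_two, hc2, one_mul]
      rw [e]
      exact Subgroup.mul_mem_sup (mul_mem hq hcQ) (Subgroup.mul_mem_sup h hza)

end Cfsg.Agent.S4211
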