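import Cfsg.Statements.S4212
import Cfsg.Agent.S3993
import Cfsg.Agent.Lib.SylowCounting.ConjClass
import Mathlib

set_option autoImplicit false
open Cfsg

namespace Cfsg.Agent.S4212

universe u

theorem gcd_pow_mul_dvd (k m n j : ℕ) (h : Nat.gcd (k * m) n ∣ m) : Nat.gcd (k ^ j * m) n ∣ m := by
  induction j with
  | zero => simp [Nat.gcd_dvd_left]
  | succ j ih =>
    refine dvd_trans ?_ ((Nat.gcd_dvd_gcd_of_dvd_left n (mul_dvd_mul_left k ih)).trans h)
    refine Nat.dvd_gcd ?_ (Nat.gcd_dvd_right _ _)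
    rw [← Nat.gcd_mul_left]
    refine Nat.dvd_gcd ?_ ((Nat.gcd_dvd_right _ _).trans (dvd_mul_left n k))
    rw [pow_succ', mul_assoc]
    exact Nat.gcd_dvd_left _ _

theorem central_count {G : Type u} [Group G] [Finite G] (c : G) (hc : c ∈ Subgroup.center G)
    (n : ℕ) : Nat.gcd n (Nat.card G) ∣ Nat.card {x : G // x ^ n = c} := by
  classical
  haveI := Fintype.ofFinite G
  rcases Nat.eq_zero_or_pos n with hn | hn
  · subst hn
    rw [Nat.gcd_zero_left]
    by_cases h1 : c = 1
    · exact dvd_of_eq (Nat.card_congr (Equiv.subtypeUnivEquiv fun x => by simp [h1]).symm)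
    · haveI : IsEmpty {x : G // x ^ 0 = c} := ⟨fun x => h1 (by simpa using x.2.symm)⟩
      rw [(Nat.card_of_isEmpty : Nat.card {x : G // x ^ 0 = c} = 0)]; exact dvd_zero _
  set k := orderOf c with hk
  have hkpos : 0 < k := orderOf_pos c
  set n1 := Nat.gcd n (k ^ n) with hn1def
  obtain ⟨n2, hn2⟩ : n1 ∣ n := Nat.gcd_dvd_left _ _
  have hn1pos : 0 < n1 := Nat.gcd_pos_of_pos_left _ hn
  haveI : NeZero n1 := ⟨hn1pos.ne'⟩
  have hn1pr : ∀ q : ℕ, q.Prime → q ∣ n1 → q ∣ k := fun q hq hd =>
    hq.dvd_of_dvd_pow (hd.trans (Nat.gcd_dvd_right _ _))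
  have hcop : (k * n1).Coprime n2 := by
    refine Nat.coprime_of_dvd fun q hq hqK hq2 => ?_
    have hqk : q ∣ k := (hq.dvd_mul.mp hqK).elim id (hn1pr q hq)
    have h1 : q ^ n.factorization q ∣ n1 :=
      Nat.dvd_gcd (Nat.ordProj_dvd n q) ((pow_dvd_pow_of_dvd hqk _).trans
        (pow_dvd_pow k (Nat.factorization_lt q hn.ne').le))
    refine Nat.pow_succ_factorization_not_dvd hn.ne' hq ?_
    rw [pow_succ]
    conv_rhs => rw [hn2]
    exact mul_dvd_mul h1 hq2
  obtain ⟨α, hα1, hα0⟩ := Nat.chineseRemainder hcop 1 0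
  have hcmod : ∀ j : ℕ, j ≡ 1 [MOD k] → c ^ j = c := fun j hj => by
    conv_rhs => rw [← pow_one c]
    exact pow_eq_pow_iff_modEq.mpr hj
  let P : G × G → Prop := fun p =>
    p.1 ^ (k * n1) = 1 ∧ p.1 ^ n = c ∧ Commute p.1 p.2 ∧ p.2 ^ n2 = 1
  let e : {x : G // x ^ n = c} ≃ {p : G × G // P p} :=
    { toFun := fun x => ⟨(x.1 ^ α, (x.1 ^ α)⁻¹ * x.1), by
        have hk1 : (x.1 ^ n) ^ k = 1 := by rw [x.2, hk, pow_orderOf_eq_one]
        have hord : orderOf x.1 ∣ k * n1 * n2 := by
          refine orderOf_dvd_of_pow_eq_one ?_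
          rw [show k * n1 * n2 = n * k by rw [hn2]; ring, pow_mul]
          exact hk1
        have hxc : Commute (x.1 ^ α) x.1 := (Commute.refl x.1).pow_left α
        refine ⟨?_, ?_, ?_, ?_⟩
        · rw [← pow_mul, ← orderOf_dvd_iff_pow_eq_one, mul_comm α]
          exact hord.trans (mul_dvd_mul_left _ (Nat.modEq_zero_iff_dvd.mp hα0))
        · rw [← pow_mul, mul_comm, pow_mul, x.2]
          exact hcmod α (hα1.of_dvd (dvd_mul_right k n1))
        · exact ((Commute.refl (x.1 ^ α)).inv_right).mul_right hxc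
        · rw [hxc.inv_left.mul_pow, inv_pow, inv_mul_eq_one, ← pow_mul, pow_eq_pow_iff_modEq]
          have h2 := Nat.ModEq.mul_right' n2 hα1
          rw [one_mul] at h2
          exact h2.of_dvd hord⟩
      invFun := fun p => ⟨p.1.1 * p.1.2, by
        obtain ⟨⟨u, v⟩, -, hu2, huv, hv⟩ := p
        show (u * v) ^ n = c
        rw [huv.mul_pow, hu2]
        conv_lhs => rw [hn2, mul_comm n1 n2, pow_mul v, hv, one_pow, mul_one]⟩
      left_inv := fun x => Subtype.ext (mul_inv_cancel_left _ _)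
      right_inv := by
        rintro ⟨⟨u, v⟩, hu1, -, huv, hv⟩
        have hvα : v ^ α = 1 := by
          obtain ⟨d, hd⟩ := Nat.modEq_zero_iff_dvd.mp hα0
          rw [hd, pow_mul, hv, one_pow]
        have huα : u ^ α = u := by
          conv_rhs => rw [← pow_one u]
          exact pow_eq_pow_iff_modEq.mpr (hα1.of_dvd (orderOf_dvd_of_pow_eq_one hu1))
        have h : (u * v) ^ α = u := by rw [huv.mul_pow, hvα, mul_one, huα]
        refine Subtype.ext ?_
        show ((u * v) ^ α, ((u * v) ^ α)⁻¹ * (u * v)) = (u, v)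
        rw [h, inv_mul_cancel_left] }
  rw [Nat.card_congr e, Nat.card_congr (Equiv.subtypeProdEquivSigmaSubtype fun a b => P (a, b)),
    Nat.card_sigma]
  set f : G → ℕ := fun u => Nat.card {v : G // P (u, v)} with hf
  have hzero : ∀ u : G, ¬ (u ^ (k * n1) = 1 ∧ u ^ n = c) → f u = 0 := fun u hu => by
    haveI : IsEmpty {v : G // P (u, v)} := ⟨fun v => hu ⟨v.2.1, v.2.2.1⟩⟩
    exact Nat.card_of_isEmpty
  have hdiv : ∀ u : G, Nat.gcd n2 (Nat.card (Subgroup.centralizer ({u} : Set G))) ∣ f u := by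
    intro u
    by_cases hu : u ^ (k * n1) = 1 ∧ u ^ n = c
    · refine dvd_trans (Cfsg.Agent.S3993.gcd_dvd_card
        (G := Subgroup.centralizer ({u} : Set G)) n2) (dvd_of_eq (Nat.card_congr ?_))
      exact
        { toFun := fun v => ⟨v.1.1, hu.1, hu.2,
            (Subgroup.mem_centralizer_singleton_iff.mp v.1.2).symm, congrArg Subtype.val v.2⟩
          invFun := fun v => ⟨⟨v.1, Subgroup.mem_centralizer_singleton_iff.mpr v.2.2.2.1.symm.eq⟩,
            Subtype.ext v.2.2.2.2⟩
          left_inv := fun v => rfl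
          right_inv := fun v => rfl }
    · rw [hzero u hu]; exact dvd_zero _
  have hA : n1 ∣ ∑ u : G, f u := by
    rw [← Finset.sum_filter_of_ne (p := fun u : G => u ^ (k * n1) = 1 ∧ u ^ n = c)
      (fun u _ h => by_contra fun h' => h (hzero u h'))]
    rw [← Finset.sum_fiberwise_of_maps_to (g := fun u : G => Subgroup.zpowers u)
      (t := Finset.univ.image fun u : G => Subgroup.zpowers u)
      (fun u _ => Finset.mem_image_of_mem _ (Finset.mem_univ u))]
    refine Finset.dvd_sum fun H _ => ?_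
    set F := (Finset.univ.filter fun u : G => u ^ (k * n1) = 1 ∧ u ^ n = c).filter
      fun u => Subgroup.zpowers u = H with hF
    rcases F.eq_empty_or_nonempty with h0 | ⟨u0, hu0⟩
    · rw [h0, Finset.sum_empty]; exact dvd_zero _
    simp only [hF, Finset.mem_filter, Finset.mem_univ, true_and] at hu0
    obtain ⟨⟨hu1, hu2⟩, hz⟩ := hu0
    subst hz
    have hconst : ∀ u ∈ F, f u = f u0 := by
      intro u hu
      simp only [hF, Finset.mem_filter, Finset.mem_univ, true_and] at hu
      obtain ⟨⟨ha, hb⟩, hz⟩ := hu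
      refine Nat.card_congr (Equiv.subtypeEquivRight fun v => ?_)
      obtain ⟨i, hi⟩ := Subgroup.mem_zpowers_iff.mp
        (hz ▸ Subgroup.mem_zpowers u : u ∈ Subgroup.zpowers u0)
      obtain ⟨j, hj⟩ := Subgroup.mem_zpowers_iff.mp
        (hz.symm ▸ Subgroup.mem_zpowers u0 : u0 ∈ Subgroup.zpowers u)
      refine ⟨fun ⟨_, _, h3, h4⟩ => ⟨hu1, hu2, hj ▸ h3.zpow_left j, h4⟩,
        fun ⟨_, _, h3, h4⟩ => ⟨ha, hb, hi ▸ h3.zpow_left i, h4⟩⟩
    rw [Finset.sum_congr rfl hconst, Finset.sum_const, smul_eq_mul]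
    refine dvd_mul_of_dvd_left (dvd_of_eq ?_) _
    -- the order of `u0` is `k * n1`
    have hord : orderOf u0 = k * n1 := by
      have hd : orderOf u0 ∣ k * n1 := orderOf_dvd_of_pow_eq_one hu1
      have hkd : k ∣ orderOf u0 := by
        rw [hk, ← hu2]; exact orderOf_pow_dvd _
      obtain ⟨m, hm⟩ := hkd
      have hg : Nat.gcd (k * m) n = m := by
        have h := orderOf_pow (x := u0) (n := n)
        rw [hu2, ← hk, hm] at h
        have h2 : Nat.gcd (k * m) n * ((k * m) / Nat.gcd (k * m) n) = k * m :=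
          Nat.mul_div_cancel' (Nat.gcd_dvd_left _ _)
        rw [← h] at h2
        exact Nat.eq_of_mul_eq_mul_left hkpos (by rw [mul_comm k]; exact h2)
      refine Nat.dvd_antisymm hd ?_
      rw [hm]
      refine mul_dvd_mul_left k (dvd_trans ?_ (gcd_pow_mul_dvd k m n n hg.dvd))
      exact Nat.dvd_gcd ((Nat.gcd_dvd_right _ _).trans (dvd_mul_right _ _)) (Nat.gcd_dvd_left _ _)
    have hcopi : ∀ i : ℕ, (k * n1).Coprime (1 + k * i) := fun i =>
      Nat.coprime_of_dvd fun q hq h1 h2 => by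
        have hqk : q ∣ k := (hq.dvd_mul.mp h1).elim id (hn1pr q hq)
        exact hq.not_dvd_one ((Nat.dvd_add_left (hqk.trans (dvd_mul_right k i))).mp h2)
    have hmem : ∀ i : Fin n1, u0 ^ (1 + k * i.1) ∈ F := fun i => by
      simp only [hF, Finset.mem_filter, Finset.mem_univ, true_and]
      refine ⟨⟨by rw [← pow_mul, mul_comm, pow_mul, hu1, one_pow], ?_⟩, ?_⟩
      · rw [← pow_mul, mul_comm, pow_mul, hu2]
        exact hcmod _ ((Nat.modEq_iff_dvd' (Nat.le_add_right 1 _)).mpr
          (by rw [Nat.add_sub_cancel_left]; exact dvd_mul_right k _)).symm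
      · refine Subgroup.eq_of_le_of_card_ge (Subgroup.zpowers_le.mpr
          (pow_mem (Subgroup.mem_zpowers u0) _)) ?_
        rw [Nat.card_zpowers, Nat.card_zpowers,
          Nat.Coprime.orderOf_pow (by rw [hord]; exact hcopi i.1)]
    have hbij : Function.Bijective (fun i : Fin n1 => (⟨u0 ^ (1 + k * i.1), hmem i⟩ : F)) := by
      constructor
      · intro i j hij
        have h := pow_eq_pow_iff_modEq.mp (congrArg Subtype.val hij)
        rw [hord] at h
        have h3 := (Nat.ModEq.mul_left_cancel_iff' hkpos.ne').mp (h.add_left_cancel' 1)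
        exact Fin.ext (h3.eq_of_lt_of_lt i.2 j.2)
      · rintro ⟨u, hu⟩
        simp only [hF, Finset.mem_filter, Finset.mem_univ, true_and] at hu
        obtain ⟨⟨ha, hb⟩, hz⟩ := hu
        obtain ⟨j, hj⟩ : ∃ j : ℕ, u0 ^ j = u :=
          Submonoid.mem_powers_iff _ _ |>.mp (mem_powers_iff_mem_zpowers.mpr
            (hz ▸ Subgroup.mem_zpowers u))
        have hj1 : j ≡ 1 [MOD k] := by
          rw [hk, ← pow_eq_pow_iff_modEq, pow_one]
          conv_lhs => rw [← hu2, ← pow_mul, mul_comm, pow_mul, hj, hb]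
        obtain ⟨d, hd⟩ : k ∣ j + k * n1 - 1 := by
          refine (Nat.modEq_iff_dvd' ?_).mp ?_
          · have : 0 < k * n1 := Nat.mul_pos hkpos hn1pos
            omega
          · refine hj1.symm.trans ?_
            exact (Nat.ModEq.symm (Nat.modEq_iff_dvd' (Nat.le_add_right j _) |>.mpr
              (by rw [Nat.add_sub_cancel_left]; exact dvd_mul_right k n1))).symm
        refine ⟨⟨d % n1, Nat.mod_lt _ hn1pos⟩, Subtype.ext ?_⟩
        show u0 ^ (1 + k * (d % n1)) = u
        rw [← hj, pow_eq_pow_iff_modEq, hord]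
        have h1 : j + k * n1 = 1 + k * d := by
          have : 0 < k * n1 := Nat.mul_pos hkpos hn1pos
          omega
        have h2 : 1 + k * (d % n1) ≡ 1 + k * d [MOD k * n1] :=
          ((Nat.mod_modEq d n1).mul_left' k).add_left 1
        rw [← h1] at h2
        exact h2.trans (Nat.add_modEq_right)
    rw [← Fintype.card_coe, ← Fintype.card_of_bijective hbij, Fintype.card_fin]
  have hB : Nat.gcd n2 (Nat.card G) ∣ ∑ u : G, f u := by
    rw [← Finset.sum_fiberwise_of_maps_to (g := fun u : G => ConjClasses.mk u)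
      (t := Finset.univ.image fun u : G => ConjClasses.mk u)
      (fun u _ => Finset.mem_image_of_mem _ (Finset.mem_univ u))]
    refine Finset.dvd_sum fun C hC => ?_
    obtain ⟨u0, -, rfl⟩ := Finset.mem_image.mp hC
    have hconst : ∀ u ∈ Finset.univ.filter (fun u : G => ConjClasses.mk u = ConjClasses.mk u0),
        f u = f u0 := by
      intro u hu
      obtain ⟨g, hg⟩ := isConj_iff.mp (ConjClasses.mk_eq_mk_iff_isConj.mp
        (Finset.mem_filter.mp hu).2).symm
      refine (Nat.card_congr (((MulAut.conj g).toEquiv).subtypeEquiv fun v => ?_)).symm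
      show P (u0, v) ↔ P (u, MulAut.conj g v)
      have hu' : u = MulAut.conj g u0 := hg.symm
      have hc' : MulAut.conj g c = c := by
        rw [MulAut.conj_apply, Subgroup.mem_center_iff.mp hc g, mul_inv_cancel_right]
      have hpow : ∀ (a : G) (i : ℕ), (MulAut.conj g a) ^ i = MulAut.conj g (a ^ i) :=
        fun a i => (map_pow _ a i).symm
      have h1 : ∀ (a : G), MulAut.conj g a = 1 ↔ a = 1 := fun a => map_eq_one_iff _ (MulAut.conj g).injective
      subst hu'
      simp only [P, hpow, h1]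
      conv_rhs => rw [← hc']
      simp only [(MulAut.conj g).injective.eq_iff, commute_iff_eq, ← map_mul]
    rw [Finset.sum_congr rfl hconst, Finset.sum_const, smul_eq_mul]
    have hcard : (Finset.univ.filter (fun u : G => ConjClasses.mk u = ConjClasses.mk u0)).card *
        Nat.card (Subgroup.centralizer ({u0} : Set G)) = Nat.card G := by
      rw [← Cfsg.Agent.Lib.SylowCounting.card_conjClass_mul_card_centralizer u0]
      congr 1
      rw [Nat.card_eq_fintype_card, Fintype.card_subtype]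
      congr 1
      ext u
      simp only [Finset.mem_filter, Finset.mem_univ, true_and, ConjClasses.mk_eq_mk_iff_isConj]
      exact isConj_comm
    rw [← hcard]
    exact (Nat.gcd_mul_right_dvd_mul_gcd n2 _ _).trans (mul_dvd_mul (Nat.gcd_dvd_right _ _) (hdiv u0))
  rw [Nat.gcd_comm, hn2, Nat.Coprime.gcd_mul _ (hcop.coprime_mul_left)]
  refine Nat.Coprime.mul_dvd_of_dvd_of_dvd ?_ ((Nat.gcd_dvd_right _ _).trans hA) ?_
  · exact Nat.Coprime.coprime_dvd_left (Nat.gcd_dvd_right _ _)
      (Nat.Coprime.coprime_dvd_right (Nat.gcd_dvd_right _ _) hcop.coprime_mul_left)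
  · rw [Nat.gcd_comm]; exact hB



/-- Let `G` be a finite group of order `g`, `c` an element whose conjugacy class has `h` elements, and `n` a natural number. Then the number of elements `x` of `G` with `x^n` conjugate to `c` is a multiple of `gcd(hn, g)`. -/
theorem result {G : Type*} [Group G] [Finite G] (c : G) (n : ℕ) : Nat.gcd (Nat.card {y : G // IsConj c y} * n) (Nat.card G) ∣ Nat.card {x : G // IsConj c (x ^ n)} := by
  classical
  haveI := Fintype.ofFinite G
  set C := Subgroup.centralizer ({c} : Set G) with hC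
  set h := Nat.card {y : G // IsConj c y} with hh
  have hg : h * Nat.card C = Nat.card G :=
    Cfsg.Agent.Lib.SylowCounting.card_conjClass_mul_card_centralizer c
  have hcount : Nat.card {x : G // IsConj c (x ^ n)} = h * Nat.card {x : G // x ^ n = c} := by
    rw [hh, ← Nat.card_prod]
    refine (Nat.card_congr ?_)
    choose t ht using fun y : {y : G // IsConj c y} => isConj_iff.mp y.2
    exact
      { toFun := fun x => (⟨x.1 ^ n, x.2⟩, ⟨(t ⟨x.1 ^ n, x.2⟩)⁻¹ * x.1 * t ⟨x.1 ^ n, x.2⟩, by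
          have e := ht ⟨x.1 ^ n, x.2⟩
          rw [show (t ⟨x.1 ^ n, x.2⟩)⁻¹ * x.1 * t ⟨x.1 ^ n, x.2⟩ =
              (t ⟨x.1 ^ n, x.2⟩)⁻¹ * x.1 * (t ⟨x.1 ^ n, x.2⟩)⁻¹⁻¹ by group, conj_pow, inv_inv]
          calc _ = (t ⟨x.1 ^ n, x.2⟩)⁻¹ *
                (t ⟨x.1 ^ n, x.2⟩ * c * (t ⟨x.1 ^ n, x.2⟩)⁻¹) * t ⟨x.1 ^ n, x.2⟩ := by rw [e]
            _ = c := by group⟩)
        invFun := fun p => ⟨t p.1 * p.2.1 * (t p.1)⁻¹, by
          rw [conj_pow, p.2.2, ht p.1]; exact p.1.2⟩
        left_inv := fun x => Subtype.ext (by simp [mul_assoc])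
        right_inv := by
          rintro ⟨y, x, hx⟩
          have e : (⟨(t y * x * (t y)⁻¹) ^ n, by rw [conj_pow, hx, ht y]; exact y.2⟩ :
              {y : G // IsConj c y}) = y := Subtype.ext (by
            show (t y * x * (t y)⁻¹) ^ n = y.1
            rw [conj_pow, hx, ht y])
          refine Prod.ext e (Subtype.ext ?_)
          simp only [e]
          group }
  have hCc : Nat.card {x : G // x ^ n = c} =
      Nat.card {x : C // x ^ n = ⟨c, Subgroup.mem_centralizer_singleton_iff.mpr rfl⟩} := by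
    refine Nat.card_congr
      { toFun := fun x => ⟨⟨x.1, Subgroup.mem_centralizer_singleton_iff.mpr ?_⟩, Subtype.ext x.2⟩
        invFun := fun x => ⟨x.1.1, congrArg Subtype.val x.2⟩
        left_inv := fun x => rfl
        right_inv := fun x => rfl }
    have hx := Commute.self_pow x.1 n
    rw [x.2] at hx
    exact hx.eq
  rw [hcount, ← hg, Nat.gcd_mul_left]
  refine mul_dvd_mul_left h ?_
  rw [hCc]
  refine central_count _ (Subgroup.mem_center_iff.mpr fun g => Subtype.ext ?_) n
  exact Subgroup.mem_centralizer_singleton_iff.mp g.2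

end Cfsg.Agent.S4212
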