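import Cfsg.Statements.S4213
import Cfsg.Agent.S3993
import Cfsg.Agent.Lib.Cores.Basic
import Mathlib

set_option autoImplicit false
open Cfsg

namespace Cfsg.Agent.S4213

universe u

theorem exists_abelian_normal {G : Type u} [Group G] [Finite G] [Group.IsSolvable G] [Nontrivial G] :
    ∃ (p : ℕ) (N : Subgroup G), p.Prime ∧ N.Normal ∧ N ≠ ⊥ ∧ ∀ x ∈ N, x ^ p = 1 := by
  classical
  have hex : ∃ n, derivedSeries G n = ⊥ :=
    (Group.isSolvable_def G).mp inferInstance
  obtain ⟨k, hk⟩ : ∃ k, Nat.find hex = k + 1 := by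
    refine Nat.exists_eq_succ_of_ne_zero fun h0 => ?_
    have h := Nat.find_spec hex
    rw [h0, derivedSeries_zero] at h
    exact top_ne_bot h
  set D := derivedSeries G k with hD
  have hDne : D ≠ ⊥ := Nat.find_min hex (by omega)
  have hDn : D.Normal := derivedSeries_normal G k
  have hDc : ⁅D, D⁆ = ⊥ := by
    have h := Nat.find_spec hex
    rwa [hk, derivedSeries_succ] at h
  obtain ⟨p, hp, hpD⟩ := Nat.exists_prime_and_dvd (fun h => hDne (Subgroup.card_eq_one.mp h))
  haveI := Fact.mk hp
  have hcm : ∀ a ∈ D, ∀ b ∈ D, Commute a b := fun a ha b hb =>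
    (Subgroup.mem_centralizer_iff.mp (Subgroup.commutator_eq_bot_iff_le_centralizer.mp hDc hb) a ha)
  let W : Subgroup G :=
    { carrier := {x | x ∈ D ∧ x ^ p = 1}
      one_mem' := ⟨one_mem _, one_pow p⟩
      mul_mem' := fun {a b} ha hb => ⟨mul_mem ha.1 hb.1, by
        rw [(hcm a ha.1 b hb.1).mul_pow, ha.2, hb.2, mul_one]⟩
      inv_mem' := fun {a} ha => ⟨inv_mem ha.1, by rw [inv_pow, ha.2, inv_one]⟩ }
  refine ⟨p, W, hp, ⟨fun x hx g => ⟨hDn.conj_mem x hx.1 g, by
    rw [conj_pow, hx.2, mul_one, mul_inv_cancel]⟩⟩, fun h => ?_, fun x hx => hx.2⟩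
  obtain ⟨x, hx⟩ := exists_prime_orderOf_dvd_card' p hpD
  have h1 : (x : G) ∈ W := ⟨x.2, by
    rw [← SubmonoidClass.coe_pow, ← hx, pow_orderOf_eq_one]; rfl⟩
  rw [h, Subgroup.mem_bot] at h1
  rw [show x = 1 from Subtype.ext h1, orderOf_one] at hx
  exact hp.one_lt.ne hx

theorem main : ∀ (c : ℕ) (G : Type u) [Group G] [Finite G] [Group.IsSolvable G], Nat.card G = c →
    ∀ n : ℕ, n ∣ Nat.card G → Nat.card {x : G // x ^ n = 1} = n →
      ∃ H : Subgroup G, H.Normal ∧ (H : Set G) = {x : G | x ^ n = 1} := by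
  intro c
  induction c using Nat.strong_induction_on with
  | _ c ih =>
    intro G _ _ _ hc n hn hcount
    classical
    have hn0 : n ≠ 0 := fun h => Nat.card_pos.ne' (zero_dvd_iff.mp (h ▸ hn))
    rcases subsingleton_or_nontrivial G with hs | hs
    · exact ⟨⊤, inferInstance, Set.ext fun x => by simp [Subsingleton.elim x 1]⟩
    obtain ⟨p, N, hp, hNn, hNb, hNp⟩ := exists_abelian_normal (G := G)
    haveI := hNn
    haveI := Fact.mk hp
    obtain ⟨e, he⟩ := IsPGroup.iff_card.mp
      (fun x => ⟨1, Subtype.ext (by simpa using hNp x x.2)⟩ : IsPGroup p N)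
    have he0 : e ≠ 0 := fun h => hNb (Subgroup.card_eq_one.mp (by rw [he, h, pow_zero]))
    have hGQ : Nat.card G = Nat.card (G ⧸ N) * p ^ e := by
      rw [← he]; exact N.card_eq_card_quotient_mul_card_subgroup
    have hlt : Nat.card (G ⧸ N) < c := by
      rw [← hc, hGQ]
      exact lt_mul_of_one_lt_right Nat.card_pos (Nat.one_lt_pow he0 hp.one_lt)
    have hpre : ∀ t : Set (G ⧸ N), Nat.card {x : G // (x : G ⧸ N) ∈ t} = p ^ e * Nat.card t := by
      intro t
      rw [← he, ← Nat.card_prod]
      exact Nat.card_congr (QuotientGroup.preimageMkEquivSubgroupProdSet N t)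
    set S := {x : G | x ^ n = 1} with hS
    have hScard : Nat.card S = n := hcount
    by_cases hpn : p ∣ n
    · set a := n.factorization p with ha
      set b := min a e with hb
      obtain ⟨nb, hnb⟩ : p ^ b ∣ n :=
        (pow_dvd_pow p (min_le_left a e)).trans (Nat.ordProj_dvd n p)
      have hb1 : 1 ≤ b := le_min (hp.factorization_pos_of_dvd hn0 hpn) (by omega)
      have hnQ : nb ∣ Nat.card (G ⧸ N) := by
        rcases le_or_gt e a with h | h
        · rw [show b = e from min_eq_right h] at hnb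
          rw [hGQ, hnb, mul_comm (Nat.card (G ⧸ N))] at hn
          exact Nat.dvd_of_mul_dvd_mul_left (pow_pos hp.pos e) hn
        · rw [show b = a from min_eq_left h.le] at hnb
          have hcop : nb.Coprime p := by
            rw [Nat.coprime_comm, hp.coprime_iff_not_dvd]
            intro hd
            refine Nat.pow_succ_factorization_not_dvd hn0 hp ?_
            have h' : p ^ a * p ∣ p ^ a * nb := mul_dvd_mul_left _ hd
            rwa [← hnb, ← pow_succ] at h'
          rw [hGQ] at hn
          exact (hcop.pow_right e).dvd_of_dvd_mul_right ((dvd_mul_left nb _).trans (hnb ▸ hn))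
      set T := {x : G | (x : G ⧸ N) ^ nb = 1} with hT
      have hTS : T ⊆ S := by
        intro x hx
        have h1 : x ^ nb ∈ N := by
          rw [← QuotientGroup.eq_one_iff, QuotientGroup.mk_pow]; exact hx
        show x ^ n = 1
        have h2 : x ^ (nb * p) = 1 := by rw [pow_mul]; exact hNp _ h1
        obtain ⟨k, hk⟩ : nb * p ∣ n := by
          rw [hnb, mul_comm nb p]
          exact mul_dvd_mul_right (dvd_pow_self p (by omega)) nb
        rw [hk, pow_mul, h2, one_pow]
      obtain ⟨w, hw⟩ := Cfsg.Agent.S3993.result (G := G ⧸ N) nb hnQ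
      have hTcard : Nat.card T = p ^ e * Nat.card {q : G ⧸ N // q ^ nb = 1} :=
        hpre {q | q ^ nb = 1}
      have hle : Nat.card T ≤ n := hScard ▸ Nat.card_mono (Set.toFinite S) hTS
      have hw0 : 0 < w := by
        rcases Nat.eq_zero_or_pos w with h | h
        · exfalso
          rw [h, mul_zero] at hw
          haveI : Nonempty {q : G ⧸ N // q ^ nb = 1} := ⟨⟨1, one_pow nb⟩⟩
          exact Nat.card_pos.ne' hw
        · exact h
      have hnb0 : 0 < nb := Nat.pos_of_ne_zero fun h => hn0 (by rw [hnb, h, mul_zero])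
      rw [hw] at hTcard
      have h1 : p ^ b * (nb * 1) ≤ p ^ e * (nb * 1) :=
        Nat.mul_le_mul_right _ (Nat.pow_le_pow_right hp.pos (min_le_right a e))
      have h2 : p ^ e * (nb * 1) ≤ p ^ e * (nb * w) :=
        Nat.mul_le_mul_left _ (Nat.mul_le_mul_left _ hw0)
      rw [mul_one] at h1 h2
      rw [hTcard] at hle
      have hw1 : p ^ e * (nb * w) = p ^ e * nb := by
        have : n = p ^ b * nb := hnb
        omega
      have hTn : Nat.card T = n := by
        have : n = p ^ b * nb := hnb
        omega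
      have hTeq : T = S := Set.eq_of_subset_of_ncard_le hTS
        (by rw [← Nat.card_coe_set_eq, ← Nat.card_coe_set_eq, hScard, hTn]) (Set.toFinite S)
      have hqcard : Nat.card {q : G ⧸ N // q ^ nb = 1} = nb := by
        rw [hw]
        exact Nat.eq_of_mul_eq_mul_left (pow_pos hp.pos e) hw1
      obtain ⟨Hb, hHn, hHb⟩ := ih _ hlt (G ⧸ N) rfl nb hnQ hqcard
      refine ⟨Hb.comap (QuotientGroup.mk' N), hHn.comap _, ?_⟩
      rw [← hTeq, Subgroup.coe_comap, hHb]
      rfl
    · have hcop : n.Coprime p := by rw [Nat.coprime_comm, hp.coprime_iff_not_dvd]; exact hpn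
      have hnQ : n ∣ Nat.card (G ⧸ N) := (hcop.pow_right e).dvd_of_dvd_mul_right (hGQ ▸ hn)
      let f : S → {q : G ⧸ N // q ^ n = 1} := fun x => ⟨(x.1 : G ⧸ N), by
        rw [← QuotientGroup.mk_pow, show x.1 ^ n = 1 from x.2]; rfl⟩
      have hfs : Function.Surjective f := by
        rintro ⟨q, hq⟩
        obtain ⟨x, rfl⟩ := QuotientGroup.mk_surjective q
        obtain ⟨j, hj1, hj0⟩ := Nat.chineseRemainder hcop 1 0
        have h1 : x ^ n ∈ N := by rw [← QuotientGroup.eq_one_iff, QuotientGroup.mk_pow]; exact hq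
        refine ⟨⟨x ^ j, ?_⟩, Subtype.ext ?_⟩
        · show (x ^ j) ^ n = 1
          obtain ⟨k, hk⟩ := Nat.modEq_zero_iff_dvd.mp hj0
          rw [hk, ← pow_mul, mul_assoc, mul_comm k n, ← mul_assoc, mul_comm p n, pow_mul, pow_mul,
            hNp _ h1, one_pow]
        · show ((x ^ j : G) : G ⧸ N) = (x : G ⧸ N)
          rw [QuotientGroup.mk_pow]
          conv_rhs => rw [← pow_one (x : G ⧸ N)]
          rw [pow_eq_pow_iff_modEq]
          exact hj1.of_dvd (orderOf_dvd_of_pow_eq_one hq)
      obtain ⟨w, hw⟩ := Cfsg.Agent.S3993.result (G := G ⧸ N) n hnQ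
      have hle : Nat.card {q : G ⧸ N // q ^ n = 1} ≤ n :=
        (Nat.card_le_card_of_surjective f hfs).trans hScard.le
      have hqcard : Nat.card {q : G ⧸ N // q ^ n = 1} = n := by
        haveI : Nonempty {q : G ⧸ N // q ^ n = 1} := ⟨⟨1, one_pow n⟩⟩
        have hpos : 0 < Nat.card {q : G ⧸ N // q ^ n = 1} := Nat.card_pos
        exact le_antisymm hle (Nat.le_of_dvd hpos ⟨w, hw⟩)
      obtain ⟨Hb, hHn, hHb⟩ := ih _ hlt (G ⧸ N) rfl n hnQ hqcard
      set H := Hb.comap (QuotientGroup.mk' N) with hH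
      have hHbc : Nat.card Hb = n := by
        rw [← hqcard]
        exact Nat.card_congr (Equiv.subtypeEquivRight fun q => Set.ext_iff.mp hHb q)
      have hHc : Nat.card H = p ^ e * n := by
        rw [hH, Cfsg.Agent.Lib.Cores.card_comap_mk', he, hHbc]
      have hNH : N ≤ H := QuotientGroup.le_comap_mk' N Hb
      have hNc : Nat.card (N.subgroupOf H) = p ^ e := by
        rw [Nat.card_congr (Subgroup.subgroupOfEquivOfLe hNH).toEquiv, he]
      have hidx : (N.subgroupOf H).index = n := by
        have h := (N.subgroupOf H).card_mul_index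
        rw [hNc, hHc] at h
        exact Nat.eq_of_mul_eq_mul_left (pow_pos hp.pos e) h
      obtain ⟨K, hK⟩ := Subgroup.exists_right_complement'_of_coprime (N := N.subgroupOf H)
        (by rw [hNc, hidx]; exact (hcop.symm).pow_left e)
      have hKc : Nat.card K = n := by
        rw [← hK.symm.index_eq_card, hidx]
      set K' := K.map H.subtype with hK'
      have hK'c : Nat.card K' = n := by
        rw [hK', Subgroup.card_map_of_injective H.subtype_injective, hKc]
      have hsub : (K' : Set G) ⊆ S := by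
        intro x hx
        show x ^ n = 1
        rw [← hK'c]
        exact congrArg Subtype.val (pow_card_eq_one' (x := (⟨x, hx⟩ : K')))
      have heq : (K' : Set G) = S := Set.eq_of_subset_of_ncard_le hsub
        (by rw [← Nat.card_coe_set_eq, ← Nat.card_coe_set_eq, hScard]; exact hK'c.ge) (Set.toFinite S)
      refine ⟨K', ⟨fun x hx g => ?_⟩, heq⟩
      have hx' : x ^ n = 1 := heq.subset hx
      refine heq.superset ?_
      show (g * x * g⁻¹) ^ n = 1
      rw [conj_pow, hx', mul_one, mul_inv_cancel]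


/-- If `G` is a finite solvable group and `n` divides the order of `G` and exactly `n` elements `x` of `G` satisfy `x^n = 1`, then these elements form a normal subgroup. -/
theorem result {G : Type*} [Group G] [Finite G] [Group.IsSolvable G] (n : ℕ) (hn : n ∣ Nat.card G) (hcount : Nat.card {x : G // x ^ n = 1} = n) : ∃ H : Subgroup G, H.Normal ∧ (H : Set G) = {x : G | x ^ n = 1} := by
  exact main _ G rfl n hn hcount

end Cfsg.Agent.S4213
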