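import Cfsg.Statements.S4214
import Cfsg.Agent.Lib.PGroups.Pronormal
import Cfsg.Agent.Lib.Coprime.Hall

set_option autoImplicit false
open Cfsg

namespace Cfsg.Agent.S4214

open Cfsg.Agent.Lib.PGroups.Pronormal (cj cj_mul cj_one cj_iff cj_eq_cj map_cj cj_self)
open Cfsg.Agent.Lib.Coprime

universe u

/-- The property of one factor. -/
def Factor (G : Type*) [Group G] (m x : ℕ) : Prop :=
  (∃ q e : ℕ, q.Prime ∧ x = q ^ e) ∧ (∃ K L : Subgroup G, K.Normal ∧ L.Normal ∧ K < L ∧
    (∀ M : Subgroup G, M.Normal → K ≤ M → M ≤ L → M = K ∨ M = L) ∧ x ∣ K.relIndex L) ∧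
    (∃ r : ℕ, r.Prime ∧ r ∣ m ∧ x ≡ 1 [MOD r])

theorem factor_comap {G : Type*} [Group G] (N : Subgroup G) [N.Normal] {m m' x : ℕ} (hm : m' ∣ m)
    (h : Factor (G ⧸ N) m' x) : Factor G m x := by
  obtain ⟨h1, ⟨K, L, hK, hL, hKL, hmin, hx⟩, r, hr, hrm, hmod⟩ := h
  set π := QuotientGroup.mk' N
  have hπ : Function.Surjective π := QuotientGroup.mk'_surjective N
  refine ⟨h1, ⟨K.comap π, L.comap π, hK.comap π, hL.comap π,
    (Subgroup.comap_lt_comap_of_surjective hπ).mpr hKL, fun M hM hKM hML => ?_, ?_⟩,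
    r, hr, hrm.trans hm, hmod⟩
  · have hNM : π.ker ≤ M := le_trans (Subgroup.ker_le_comap π K) hKM
    have e : (M.map π).comap π = M := Subgroup.comap_map_eq_self hNM
    rcases hmin (M.map π) (hM.map π hπ)
      (Subgroup.map_comap_eq_self_of_surjective hπ K ▸ Subgroup.map_mono hKM)
      (Subgroup.map_le_iff_le_comap.mpr hML) with h | h
    · exact Or.inl (by rw [← e, h])
    · exact Or.inr (by rw [← e, h])
  · rwa [Subgroup.relIndex_comap, Subgroup.map_comap_eq_self_of_surjective hπ]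

/-- Index of a centralizer of a coprime solvable group. -/
theorem coprime_factors {G : Type*} [Group G] [Finite G] (N : Subgroup G) [N.Normal] {q : ℕ}
    (hq : q.Prime) (hN : IsPGroup q N) :
    ∀ c : ℕ, ∀ H : Subgroup G, Nat.card H = c → Group.IsSolvable H → ¬ q ∣ c →
      ∃ l : List ℕ, l.prod = (N ⊓ Subgroup.centralizer (H : Set G)).relIndex N ∧
        ∀ x ∈ l, (∃ e, x = q ^ e) ∧ x ∣ Nat.card N ∧ ∃ r : ℕ, r.Prime ∧ r ∣ c ∧ x ≡ 1 [MOD r] := by
  haveI := Fact.mk hq
  intro c
  induction c using Nat.strongRecOn with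
  | ind c ih =>
  intro H hc hsolv hqc
  by_cases hb : H = ⊥
  · refine ⟨[], ?_, by simp⟩
    rw [hb, List.prod_nil, eq_comm, Subgroup.relIndex_eq_one]
    intro x hx
    exact ⟨hx, fun y hy => by rw [Subgroup.mem_bot.mp hy, one_mul, mul_one]⟩
  haveI := hsolv
  haveI : Nontrivial H := (Subgroup.nontrivial_iff_ne_bot H).mpr hb
  obtain ⟨M₀, hM₀n, hM₀⟩ := exists_normal_prime_index (H := H)
  set r := M₀.index
  haveI := Fact.mk hM₀
  set M := M₀.map H.subtype with hMdef
  have hcardM : Nat.card M * r = c := by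
    rw [hMdef, Nat.card_congr (M₀.equivMapOfInjective H.subtype H.subtype_injective).toEquiv.symm,
      M₀.card_mul_index, hc]
  have hlt : Nat.card M < c := hcardM ▸ lt_mul_of_one_lt_right Nat.card_pos hM₀.one_lt
  have hMH : M ≤ H := Subgroup.map_subtype_le _
  obtain ⟨l, hl, hlP⟩ := ih _ hlt M rfl (isSolvable_of_le hMH hsolv)
    (fun h => hqc (h.trans (hcardM ▸ dvd_mul_right _ _)))
  -- an `r`-element outside `M`
  obtain ⟨x, hx⟩ : ∃ x : H, x ∉ M₀ := by
    by_contra! h
    exact hM₀.ne_one (Subgroup.index_eq_one.mpr ((Subgroup.eq_top_iff' _).mpr h))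
  set y := x ^ (orderOf x / r ^ (orderOf x).factorization r)
  have hxr : x ^ r ∈ M₀ := Subgroup.pow_index_mem M₀ x
  have hy : y ∉ M₀ := by
    intro hy
    have hcop : Nat.Coprime r (orderOf x / r ^ (orderOf x).factorization r) :=
      Nat.coprime_ordCompl hM₀ (orderOf_pos x).ne'
    have hx1 := Subgroup.mul_mem _ (M₀.zpow_mem hxr (Nat.gcdA r (orderOf x / r ^ (orderOf x).factorization r)))
      (M₀.zpow_mem hy (Nat.gcdB r (orderOf x / r ^ (orderOf x).factorization r)))
    simp only [y, ← zpow_natCast, ← zpow_mul, ← zpow_add] at hx1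
    rw [← Nat.gcd_eq_gcd_ab, hcop.gcd_eq_one, Nat.cast_one, zpow_one] at hx1
    exact hx hx1
  have hyr : (y : G) ^ (r ^ (orderOf x).factorization r) = 1 := by
    rw [← SubmonoidClass.coe_pow, ← pow_mul, Nat.div_mul_cancel (Nat.ordProj_dvd _ _),
      pow_orderOf_eq_one]
    rfl
  set Y := Subgroup.zpowers (y : G)
  have hY : IsPGroup r Y := by
    rintro ⟨z, i, rfl⟩
    exact ⟨(orderOf x).factorization r, Subtype.ext (by
      show ((y : G) ^ i) ^ (r ^ _) = 1
      rw [← zpow_natCast, ← zpow_mul, mul_comm, zpow_mul, zpow_natCast, hyr, one_zpow])⟩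
  have hHY : H ≤ M ⊔ Y := by
    intro h hh
    have htop : M₀ ⊔ Subgroup.zpowers y = ⊤ := by
      rw [← Subgroup.index_eq_one]
      refine (hM₀.eq_one_or_self_of_dvd _ (Subgroup.index_dvd_of_le le_sup_left)).resolve_right fun e => ?_
      have := Subgroup.eq_of_le_of_card_ge (le_sup_left (a := M₀) (b := Subgroup.zpowers y))
        (Nat.le_of_eq (Nat.eq_of_mul_eq_mul_right hM₀.pos (by
          show Nat.card _ * r = Nat.card _ * r
          rw [M₀.card_mul_index, ← e, Subgroup.card_mul_index])))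
      exact hy (this ▸ Subgroup.mem_sup_right (Subgroup.mem_zpowers y))
    have := Subgroup.mem_map_of_mem H.subtype (htop ▸ Subgroup.mem_top (⟨h, hh⟩ : H))
    rw [Subgroup.map_sup, MonoidHom.map_zpowers] at this
    exact this
  set C₁ := N ⊓ Subgroup.centralizer (M : Set G)
  set C := N ⊓ Subgroup.centralizer (H : Set G)
  have hCle : C ≤ C₁ := inf_le_inf_left N (Subgroup.centralizer_le hMH)
  have hconj : ∀ g ∈ H, ∀ v ∈ C₁, g * v * g⁻¹ ∈ C₁ := by
    intro g hg v hv
    refine ⟨(inferInstance : N.Normal).conj_mem v hv.1 g, fun k hk => ?_⟩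
    have hk' : g⁻¹ * k * g ∈ M := by
      obtain ⟨k₀, hk₀, rfl⟩ := hk
      refine ⟨(⟨g, hg⟩ : H)⁻¹ * k₀ * ⟨g, hg⟩, ?_, rfl⟩
      have := hM₀n.conj_mem k₀ hk₀ (⟨g, hg⟩ : H)⁻¹
      rwa [inv_inv] at this
    have := hv.2 _ hk'
    calc k * (g * v * g⁻¹) = g * ((g⁻¹ * k * g) * v) * g⁻¹ := by group
      _ = g * (v * (g⁻¹ * k * g)) * g⁻¹ := by rw [this]
      _ = _ := by group
  have hYH : Y ≤ H := Subgroup.zpowers_le.mpr y.2
  letI : MulAction Y C₁ :=
    { smul := fun g v => ⟨(g : G) * v * (g : G)⁻¹, hconj g (hYH g.2) v v.2⟩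
      one_smul := fun v => Subtype.ext (show (1 : G) * v * (1 : G)⁻¹ = v by simp)
      mul_smul := fun g h v => Subtype.ext (show ((g : G) * h) * v * ((g : G) * h)⁻¹ =
        (g : G) * ((h : G) * v * (h : G)⁻¹) * (g : G)⁻¹ by simp [mul_assoc]) }
  have hfix : Nat.card (MulAction.fixedPoints Y C₁) = Nat.card C := by
    refine Nat.card_congr
      { toFun := fun v => ⟨v.1.1, v.1.2.1, ?_⟩
        invFun := fun v => ⟨⟨v.1, hCle v.2⟩, fun g => Subtype.ext ?_⟩
        left_inv := fun v => rfl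
        right_inv := fun v => rfl }
    · have hle : M ⊔ Y ≤ Subgroup.centralizer ({v.1.1} : Set G) := by
        refine sup_le (fun k hk => Subgroup.mem_centralizer_singleton_iff.mpr (v.1.2.2 k hk))
          (fun g hg => Subgroup.mem_centralizer_singleton_iff.mpr ?_)
        have := congrArg Subtype.val (v.2 (⟨g, hg⟩ : Y))
        calc g * v.1.1 = g * v.1.1 * g⁻¹ * g := by group
          _ = v.1.1 * g := by rw [show g * v.1.1 * g⁻¹ = v.1.1 from this]
      exact fun h hh => Subgroup.mem_centralizer_singleton_iff.mp (hle (hHY hh))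
    · show (g : G) * v.1 * (g : G)⁻¹ = v.1
      rw [v.2.2 g (hYH g.2), mul_inv_cancel_right]
  have hmod := hY.card_modEq_card_fixedPoints C₁
  rw [hfix] at hmod
  have hd : Nat.card C * C.relIndex C₁ = Nat.card C₁ := by
    rw [← Nat.card_congr (Subgroup.subgroupOfEquivOfLe hCle).toEquiv]
    exact Subgroup.card_mul_index _
  have hpow : ∀ d, d ∣ Nat.card N → ∃ e, d = q ^ e := fun d hd' => by
    obtain ⟨k, hk⟩ := hN.exists_card_eq
    obtain ⟨e, -, he⟩ := (Nat.dvd_prime_pow hq).mp (hk ▸ hd')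
    exact ⟨e, he⟩
  have hC₁N : Nat.card C₁ ∣ Nat.card N := Subgroup.card_dvd_of_le inf_le_left
  have hdN : C.relIndex C₁ ∣ Nat.card N := (Dvd.intro_left _ hd).trans hC₁N
  have hcop : Nat.Coprime r (Nat.card C) := by
    obtain ⟨e, he⟩ := hpow _ (((Dvd.intro _ hd)).trans hC₁N)
    rw [he]
    refine Nat.Coprime.pow_right e ((Nat.coprime_primes hM₀ hq).mpr ?_)
    intro h
    exact hqc (h ▸ Dvd.intro_left _ hcardM)
  refine ⟨C.relIndex C₁ :: l, ?_, ?_⟩
  · rw [List.prod_cons, hl]
    exact Subgroup.relIndex_mul_relIndex C C₁ N hCle inf_le_left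
  · intro d hd'
    rcases List.mem_cons.mp hd' with rfl | hd'
    · refine ⟨hpow _ hdN, hdN, r, hM₀, Dvd.intro_left _ hcardM, ?_⟩
      refine Nat.ModEq.cancel_left_of_coprime (c := Nat.card C) hcop.gcd_eq_one ?_
      rw [hd, mul_one]
      exact hmod
    · obtain ⟨h1, h2, r', hr', hr'd, hmod'⟩ := hlP d hd'
      exact ⟨h1, h2, r', hr', hr'd.trans (Dvd.intro _ hcardM), hmod'⟩

theorem count_conjugates {G : Type u} [Group G] [Finite G] [Group.IsSolvable G] {m : ℕ} (H : Subgroup G)
    (hH : Nat.card H = m) (hcop : (Nat.card H).Coprime H.index) :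
    Nat.card {K : Subgroup G // Nat.card K = m} = (Subgroup.normalizer (H : Set G)).index := by
  classical
  have hc : ∀ g : G, Nat.card (cj g H) = m := fun g => by
    rw [← hH]
    exact Nat.card_congr (Subgroup.equivMapOfInjective H _ (MulEquiv.injective _)).symm.toEquiv
  let φ : G ⧸ Subgroup.normalizer (H : Set G) → {K : Subgroup G // Nat.card K = m} :=
    Quotient.lift (fun g => ⟨cj g H, hc g⟩) fun a b h =>
      Subtype.ext (cj_eq_cj.mpr (QuotientGroup.leftRel_apply.mp h))
  refine (Nat.card_congr (Equiv.ofBijective φ ⟨?_, ?_⟩)).symm.trans (Subgroup.index_eq_card _).symm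
  · intro a b
    obtain ⟨a, rfl⟩ := QuotientGroup.mk_surjective a
    obtain ⟨b, rfl⟩ := QuotientGroup.mk_surjective b
    intro h
    exact QuotientGroup.eq.mpr (cj_eq_cj.mp (congrArg Subtype.val h))
  · rintro ⟨K, hK⟩
    obtain ⟨g, hg⟩ := exists_conj_eq_of_solvable hcop (K := K) (hK.trans hH.symm)
    exact ⟨(g : G ⧸ _), Subtype.ext hg⟩

theorem main : ∀ (c : ℕ) (G : Type u) [Group G] [Finite G] [Group.IsSolvable G], Nat.card G = c →
    ∀ (H : Subgroup G), (Nat.card H).Coprime H.index →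
      ∃ l : List ℕ, l.prod = (Subgroup.normalizer (H : Set G)).index ∧
        ∀ x ∈ l, Factor G (Nat.card H) x := by
  intro c
  induction c using Nat.strongRecOn with
  | ind c ih =>
  intro G _ _ _ hc H hcop
  rcases subsingleton_or_nontrivial G with hs | hs
  · refine ⟨[], ?_, by simp⟩
    rw [List.prod_nil, eq_comm, Subgroup.index_eq_one]
    exact Subsingleton.elim _ _
  obtain ⟨N, hN, hNmin⟩ : ∃ N : Subgroup G, (N.Normal ∧ N ≠ ⊥) ∧
      ∀ M : Subgroup G, M.Normal → M ≠ ⊥ → M ≤ N → M = N := by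
    obtain ⟨N, hN⟩ := (Set.toFinite {N : Subgroup G | N.Normal ∧ N ≠ ⊥}).exists_minimal
      ⟨⊤, inferInstance, top_ne_bot⟩
    exact ⟨N, hN.prop, fun M h1 h2 h3 => le_antisymm h3 (hN.2 ⟨h1, h2⟩ h3)⟩
  haveI := hN.1
  obtain ⟨q, M, hq, hMn, hM0, hMle, -, hMp, -⟩ := exists_normal_abelian_pgroup_le hN.2
    (inferInstance : Group.IsSolvable N)
  obtain rfl : M = N := hNmin M hMn hM0 hMle
  haveI := Fact.mk hq
  set π := QuotientGroup.mk' M
  have hπ : Function.Surjective π := QuotientGroup.mk'_surjective M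
  set X := Subgroup.normalizer (H : Set G)
  have hlt : Nat.card (G ⧸ M) < c := by
    rw [← hc, ← card_quotient_mul_card M]
    exact lt_mul_of_one_lt_right Nat.card_pos (M.one_lt_card_iff_ne_bot.mpr hM0)
  have hHd : Nat.card (H.map π) ∣ Nat.card H :=
    Subgroup.card_dvd_of_surjective (π.subgroupMap H) (π.subgroupMap_surjective H)
  obtain ⟨l₁, hl₁, hl₁P⟩ := ih _ hlt (G ⧸ M) rfl (H.map π)
    ((hcop.coprime_dvd_left hHd).coprime_dvd_right (Subgroup.index_map_dvd H hπ))
  have himg : X.map π = Subgroup.normalizer ((H.map π : Subgroup (G ⧸ M)) : Set (G ⧸ M)) := by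
    refine le_antisymm ?_ fun g' hg' => ?_
    · rintro _ ⟨g, hg, rfl⟩
      rw [← cj_iff, ← map_cj, cj_iff.mpr hg]
    · obtain ⟨g, rfl⟩ := hπ g'
      rw [← cj_iff, ← map_cj] at hg'
      set L := (H.map π).comap π
      have hHL : H ≤ L := Subgroup.le_comap_map _ _
      have hgL : cj g H ≤ L := by
        have := Subgroup.le_comap_map π (cj g H)
        rwa [hg'] at this
      haveI : Group.IsSolvable L := inferInstance
      have hHL' : Nat.card (H.subgroupOf L) = Nat.card H :=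
        Nat.card_congr (Subgroup.subgroupOfEquivOfLe hHL).toEquiv
      obtain ⟨d, hd⟩ := exists_conj_eq_of_solvable (H := H.subgroupOf L)
        (hHL'.symm ▸ hcop.coprime_dvd_right (Dvd.intro _ (Subgroup.relIndex_mul_index hHL)))
        (K := (cj g H).subgroupOf L) (by
          rw [hHL', Nat.card_congr (Subgroup.subgroupOfEquivOfLe hgL).toEquiv]
          exact Nat.card_congr (Subgroup.equivMapOfInjective H _ (MulEquiv.injective _)).symm.toEquiv)
      have hd' : cj (d : G) H = cj g H := by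
        have h := congrArg (Subgroup.map L.subtype) hd
        change (cj d (H.subgroupOf L)).map L.subtype = _ at h
        rw [map_cj, Subgroup.map_subgroupOf_eq_of_le hHL, Subgroup.map_subgroupOf_eq_of_le hgL] at h
        exact h
      obtain ⟨h, hh, hhd⟩ := (d.2 : π d ∈ H.map π)
      refine ⟨h * ((d : G)⁻¹ * g), Subgroup.mul_mem _ (Subgroup.le_normalizer hh) (cj_eq_cj.mp hd'), ?_⟩
      rw [map_mul, map_mul, map_inv, hhd, mul_inv_cancel_left]
  -- the index splits along the normal subgroup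
  have hsplit : X.index = (X.map π).index * X.relIndex M := by
    have hcard : Nat.card (X.map π) = M.relIndex X := by
      have h := Subgroup.relIndex_ker X π
      rw [QuotientGroup.ker_mk'] at h
      exact h.symm
    have e1 : X.relIndex M * M.index = (X ⊓ M).index := by
      rw [← Subgroup.inf_relIndex_right X M, Subgroup.relIndex_mul_index inf_le_right]
    have e2 : M.relIndex X * X.index = (X ⊓ M).index := by
      rw [← Subgroup.inf_relIndex_left X M, Subgroup.relIndex_mul_index inf_le_left]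
    have e3 : M.index = M.relIndex X * (X.map π).index := by
      rw [← hcard, Subgroup.card_mul_index]; rfl
    refine Nat.eq_of_mul_eq_mul_left (hcard ▸ Nat.card_pos : 0 < M.relIndex X) ?_
    rw [e2, ← e1, e3]
    ring
  have hchief : ∀ x, (∃ e, x = q ^ e) → x ∣ Nat.card M → (∃ r : ℕ, r.Prime ∧ r ∣ Nat.card H ∧ x ≡ 1 [MOD r]) →
      Factor G (Nat.card H) x := by
    rintro x ⟨e, he⟩ hxM hr
    refine ⟨⟨q, e, hq, he⟩, ⟨⊥, M, inferInstance, hMn, bot_lt_iff_ne_bot.mpr hM0,
      fun K hK _ hKM => ?_, by rwa [Subgroup.relIndex_bot_left]⟩, hr⟩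
    by_cases hK0 : K = ⊥
    · exact Or.inl hK0
    · exact Or.inr (hNmin K hK hK0 hKM)
  obtain ⟨l₂, hl₂, hl₂P⟩ : ∃ l₂ : List ℕ, l₂.prod = X.relIndex M ∧ ∀ x ∈ l₂, Factor G (Nat.card H) x := by
    by_cases hqH : q ∣ Nat.card H
    · refine ⟨[], ?_, by simp⟩
      obtain ⟨k, hk⟩ := hMp.exists_card_eq
      have hcopM : (Nat.card M).Coprime H.index := by
        rw [hk]
        exact Nat.Coprime.pow_left k ((hcop.coprime_dvd_left hqH))
      obtain ⟨g, hg⟩ := exists_le_conj_of_solvable hcop hcopM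
      have hMH : M ≤ H := fun v hv => by
        obtain ⟨w, hw, hwe⟩ := hg (hMn.conj_mem v hv g)
        have : w = v := (MulAut.conj g).injective (show MulAut.conj g w = MulAut.conj g v from hwe)
        exact this ▸ hw
      rw [List.prod_nil, eq_comm, Subgroup.relIndex_eq_one]
      exact hMH.trans Subgroup.le_normalizer
    · obtain ⟨l, hl, hlP⟩ := coprime_factors M hq hMp _ H rfl
        (inferInstance) hqH
      refine ⟨l, ?_, fun x hx => hchief x (hlP x hx).1 (hlP x hx).2.1 (hlP x hx).2.2⟩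
      rw [hl, ← Subgroup.inf_relIndex_right X M, inf_comm X M]
      congr 1
      refine le_antisymm (inf_le_inf_left M (Subgroup.centralizer_le_normalizer (s := (H : Set G)))) ?_
      rintro v ⟨hvM, hvX⟩
      refine ⟨hvM, fun k hk => ?_⟩
      obtain ⟨e, he⟩ := hMp.exists_card_eq
      have hdisj : M ⊓ H = ⊥ := Subgroup.inf_eq_bot_of_coprime (by
        rw [he]; exact Nat.Coprime.pow_left e (hq.coprime_iff_not_dvd.mpr hqH))
      have h1 : k * v * k⁻¹ * v⁻¹ ∈ M ⊓ H := by
        refine ⟨M.mul_mem (hMn.conj_mem v hvM k) (M.inv_mem hvM), ?_⟩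
        have := (Subgroup.mem_normalizer_iff.mp hvX k⁻¹).mp (H.inv_mem hk)
        have e' : k * v * k⁻¹ * v⁻¹ = k * (v * k⁻¹ * v⁻¹) := by group
        show k * v * k⁻¹ * v⁻¹ ∈ H
        rw [e']
        exact H.mul_mem hk this
      rw [hdisj, Subgroup.mem_bot] at h1
      calc k * v = k * v * k⁻¹ * v⁻¹ * (v * k) := by group
        _ = v * k := by rw [h1, one_mul]
  refine ⟨l₁ ++ l₂, ?_, fun x hx => ?_⟩
  · rw [List.prod_append, hl₁, hl₂, ← himg, hsplit]
  · rcases List.mem_append.mp hx with hx | hx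
    · exact factor_comap M hHd (hl₁P x hx)
    · exact hl₂P x hx


/-- Let `G` be a finite solvable group of order `mn` with `gcd(m, n) = 1`. Then the number of subgroups of order `m` is a product of natural numbers each of which is a power of a prime, divides the order of some chief factor of `G` (a quotient `L/K` of normal subgroups `K < L` of `G` with no normal subgroup of `G` strictly between them), and is congruent to `1` modulo some prime divisor of `m`. -/
theorem result {G : Type*} [Group G] [Finite G] [Group.IsSolvable G] (m n : ℕ) (hG : Nat.card G = m * n) (hmn : Nat.Coprime m n) : ∃ (k : ℕ) (f : Fin k → ℕ), Nat.card {H : Subgroup G // Nat.card H = m} = ∏ i, f i ∧ ∀ i, (∃ q e : ℕ, q.Prime ∧ f i = q ^ e) ∧ (∃ K L : Subgroup G, K.Normal ∧ L.Normal ∧ K < L ∧ (∀ M : Subgroup G, M.Normal → K ≤ M → M ≤ L → M = K ∨ M = L) ∧ f i ∣ K.relIndex L) ∧ (∃ q : ℕ, q.Prime ∧ q ∣ m ∧ f i ≡ 1 [MOD q]) := by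
  obtain ⟨H, hH⟩ := exists_subgroup_card_eq_of_solvable hG hmn
  have hcop : (Nat.card H).Coprime H.index := by
    have := H.card_mul_index
    rw [hH, hG] at this
    rw [hH, Nat.eq_of_mul_eq_mul_left (hH ▸ Nat.card_pos) this]
    exact hmn
  obtain ⟨l, hl, hlP⟩ := main _ G rfl H hcop
  refine ⟨l.length, l.get, ?_, fun i => hH ▸ hlP _ (List.get_mem l i)⟩
  rw [count_conjugates H hH hcop, ← hl, ← List.prod_ofFn, List.ofFn_get]

end Cfsg.Agent.S4214
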