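import Cfsg.Statements.S4216
import Mathlib

set_option autoImplicit false
open Cfsg

namespace Cfsg.Agent.S4216

open MulAction
open scoped commutatorElement

universe u

theorem grun_aux {G : Type u} [Group G] [Finite G] {p : ℕ} [hp : Fact p.Prime] (P : Sylow p G)
    {A : Type u} [CommGroup A] (hA : IsPGroup p A) (ϕ : (P : Subgroup G) →* A) (x : G)
    (hx : x ∈ (P : Subgroup G)) (hxG : x ∈ commutator G)
    (hsmall : ∀ (y : (P : Subgroup G)), (y : G) ∈ commutator G → orderOf (y : G) < orderOf x →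
      ϕ y = 1)
    (hN : ∀ t ∈ Subgroup.normalizer ((P : Subgroup G) : Set G), ∀ y : (P : Subgroup G),
      (y : G) = t⁻¹ * x * t → ϕ y = ϕ ⟨x, hx⟩)
    (hD : ∀ (t u : G), u ∈ (P : Subgroup G) → ∀ y z : (P : Subgroup G), (y : G) = t⁻¹ * x * t →
      (z : G) = t⁻¹ * (u⁻¹ * x * u) * t → ϕ z = ϕ y) :
    ϕ ⟨x, hx⟩ = 1 := by
  classical
  by_cases hx1 : x = 1
  · subst hx1; exact map_one ϕ
  haveI := Fintype.ofFinite (G ⧸ (P : Subgroup G))
  haveI := Fintype.ofFinite (Quotient (orbitRel (Subgroup.zpowers x) (G ⧸ (P : Subgroup G))))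
  have h0 : MonoidHom.transfer ϕ x = 1 :=
    (Abelianization.commutator_subset_ker (MonoidHom.transfer ϕ)) hxG
  rw [MonoidHom.transfer_eq_prod_quotient_orbitRel_zpowers_quot] at h0
  obtain ⟨a, ha⟩ := IsPGroup.iff_orderOf.mp P.2 ⟨x, hx⟩
  rw [Subgroup.orderOf_mk] at ha
  have hfix_mem : ∀ c : G ⧸ (P : Subgroup G), x • c = c → c.out⁻¹ * x * c.out ∈ (P : Subgroup G) := by
    intro c hc
    rw [mul_assoc, ← QuotientGroup.eq]
    show (c.out : G ⧸ (P : Subgroup G)) = x • (c.out : G ⧸ (P : Subgroup G))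
    rw [QuotientGroup.out_eq', hc]
  let w : G ⧸ (P : Subgroup G) → A := fun c =>
    if h : x • c = c then ϕ ⟨_, hfix_mem c h⟩ else 1
  -- the transfer is the product over the fixed cosets
  have hw : ∏ c, w c = 1 := by
    rw [← Finset.prod_subset (Finset.subset_univ (Finset.univ.filter fun c => x • c = c))
      (fun c _ hc => dif_neg (by simpa using hc))]
    rw [← Finset.prod_subset (Finset.subset_univ (Finset.univ.filter fun q :
      Quotient (orbitRel (Subgroup.zpowers x) (G ⧸ (P : Subgroup G))) => x • q.out = q.out))] at h0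
    · rw [← h0]
      have hout : ∀ c : G ⧸ (P : Subgroup G), x • c = c → (Quotient.mk'' c :
          Quotient (orbitRel (Subgroup.zpowers x) (G ⧸ (P : Subgroup G)))).out = c := by
        intro c hc
        obtain ⟨⟨g, hg⟩, h⟩ := Quotient.mk_out' (s₁ := orbitRel (Subgroup.zpowers x) _) c
        obtain ⟨n, rfl⟩ := Subgroup.mem_zpowers_iff.mp hg
        rw [← h]
        show x ^ n • c = c
        exact zpow_smul_eq_iff_period_dvd.mpr (by
          rw [show MulAction.period x c = 1 from MulAction.period_eq_one_iff.mpr hc, Nat.cast_one]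
          exact one_dvd _)
      refine Finset.prod_bij' (fun c _ => Quotient.mk'' c) (fun q _ => q.out) (fun c hc => ?_)
        (fun q hq => ?_) (fun c hc => ?_) (fun q _ => Quotient.out_eq' q) (fun c hc => ?_)
      · simp only [Finset.mem_filter, Finset.mem_univ, true_and] at hc ⊢
        rw [hout c hc]
        exact hc
      · simpa using hq
      · exact hout c (by simpa using hc)
      · simp only [Finset.mem_filter, Finset.mem_univ, true_and] at hc
        have hmp : Function.minimalPeriod (x • ·) c = 1 :=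
          Function.minimalPeriod_eq_one_iff_isFixedPt.mpr hc
        simp only [w, dif_pos hc, hout c hc, hmp, pow_one]
    · intro q _ hq
      have hf : Function.minimalPeriod (x • ·) q.out ≠ 1 := fun h =>
        hq (Finset.mem_filter.mpr ⟨Finset.mem_univ _,
          Function.minimalPeriod_eq_one_iff_isFixedPt.mp h⟩)
      refine hsmall _ ?_ ?_
      · have h := (inferInstance : (commutator G).Normal).conj_mem _
          (Subgroup.pow_mem _ hxG (Function.minimalPeriod (x • ·) q.out)) q.out.out⁻¹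
        rwa [inv_inv] at h
      · set f := Function.minimalPeriod (x • ·) q.out with hfdef
        have hfd : f ∣ orderOf x := MulAction.period_dvd_orderOf x q.out
        have hfpos : 0 < f := Nat.pos_of_dvd_of_pos hfd (orderOf_pos x)
        show orderOf (q.out.out⁻¹ * x ^ f * q.out.out) < orderOf x
        rw [show q.out.out⁻¹ * x ^ f * q.out.out = MulAut.conj q.out.out⁻¹ (x ^ f) by simp,
          MulEquiv.orderOf_eq, orderOf_pow, Nat.gcd_eq_right hfd]
        exact Nat.div_lt_self (orderOf_pos x) (by omega)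
  -- the cosets fixed by `P`
  set F := Finset.univ.filter fun c : G ⧸ (P : Subgroup G) =>
    ∀ u : (P : Subgroup G), u • c = c with hFdef
  have hFw : ∀ c ∈ F, w c = ϕ ⟨x, hx⟩ := by
    intro c hc
    simp only [hFdef, Finset.mem_filter, Finset.mem_univ, true_and] at hc
    have hxc : x • c = c := hc ⟨x, hx⟩
    simp only [w, dif_pos hxc]
    refine hN c.out ?_ _ rfl
    rw [Subgroup.mem_normalizer_iff_map_conj_eq]
    refine (Subgroup.eq_of_le_of_card_ge (fun y hy => ?_)
      (Subgroup.card_map_of_injective (MulAut.conj c.out).injective).le).symm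
    have h1 : y • c = c := hc ⟨y, hy⟩
    refine ⟨c.out⁻¹ * y * c.out, ?_, by simp [mul_assoc]⟩
    rw [SetLike.mem_coe, mul_assoc, ← QuotientGroup.eq]
    show (c.out : G ⧸ (P : Subgroup G)) = y • (c.out : G ⧸ (P : Subgroup G))
    rw [QuotientGroup.out_eq', h1]
  have hrest : ∏ c ∈ Fᶜ, w c = 1 := by
    rw [← Finset.prod_fiberwise_of_maps_to (t := (Finset.univ : Finset (Quotient
      (orbitRel (P : Subgroup G) (G ⧸ (P : Subgroup G))))))
      (g := fun c => (Quotient.mk'' c : Quotient (orbitRel (P : Subgroup G) (G ⧸ (P : Subgroup G)))))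
      (fun _ _ => Finset.mem_univ _)]
    refine Finset.prod_eq_one fun o _ => ?_
    induction o using Quotient.inductionOn' with
    | h c₀ =>
    have hmem : ∀ c : G ⧸ (P : Subgroup G),
        (Quotient.mk'' c : Quotient (orbitRel (P : Subgroup G) (G ⧸ (P : Subgroup G)))) =
          Quotient.mk'' c₀ ↔ c ∈ orbit (P : Subgroup G) c₀ :=
      fun c => Quotient.eq''.trans orbitRel_apply
    by_cases hF0 : c₀ ∈ F
    · refine Finset.prod_eq_one fun c hc => absurd ?_ (Finset.mem_compl.mp (Finset.mem_filter.mp hc).1)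
      obtain ⟨u, rfl⟩ := (hmem c).mp (Finset.mem_filter.mp hc).2
      simp only [hFdef, Finset.mem_filter, Finset.mem_univ, true_and] at hF0 ⊢
      intro v
      rw [hF0 u]
      exact hF0 v
    set S := Fᶜ.filter fun c => (Quotient.mk'' c : Quotient (orbitRel (P : Subgroup G)
      (G ⧸ (P : Subgroup G)))) = Quotient.mk'' c₀ with hS
    have hSmem : ∀ c, c ∈ S ↔ c ∈ orbit (P : Subgroup G) c₀ := by
      intro c
      rw [hS, Finset.mem_filter, hmem, and_iff_right_iff_imp, Finset.mem_compl]
      rintro ⟨u, rfl⟩ hcF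
      apply hF0
      simp only [hFdef, Finset.mem_filter, Finset.mem_univ, true_and] at hcF ⊢
      have h1 : c₀ = u • c₀ := by
        have := hcF u⁻¹
        rwa [inv_smul_smul] at this
      intro v
      rw [h1]
      exact hcF v
    set S' := S.filter fun c => x • c = c with hS'
    rw [← Finset.prod_subset (Finset.filter_subset (fun c => x • c = c) S)
      (fun c hc hc' => dif_neg fun h => hc' (Finset.mem_filter.mpr ⟨hc, h⟩)), ← hS']
    rcases S'.eq_empty_or_nonempty with he | ⟨c₁, hc₁⟩
    · rw [he, Finset.prod_empty]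
    have hx₁ : x • c₁ = c₁ := (Finset.mem_filter.mp hc₁).2
    have hval : ∀ c ∈ S', w c = ϕ ⟨_, hfix_mem c₁ hx₁⟩ := by
      intro c hc
      obtain ⟨hcS, hxc⟩ := Finset.mem_filter.mp hc
      simp only [w, dif_pos hxc]
      obtain ⟨u, hu⟩ : c ∈ orbit (P : Subgroup G) c₁ := by
        rw [MulAction.orbit_eq_iff.mpr ((hSmem c₁).mp (Finset.mem_filter.mp hc₁).1)]
        exact (hSmem c).mp hcS
      -- `u c₁.out = c.out v` with `v` in `P`
      have hv : c.out⁻¹ * ((u : G) * c₁.out) ∈ (P : Subgroup G) := by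
        rw [← QuotientGroup.eq]
        show (c.out : G ⧸ (P : Subgroup G)) = (u : G) • (c₁.out : G ⧸ (P : Subgroup G))
        rw [QuotientGroup.out_eq', QuotientGroup.out_eq']
        exact hu.symm
      set v : (P : Subgroup G) := ⟨_, hv⟩
      have hz : ϕ (v⁻¹ * ⟨_, hfix_mem c hxc⟩ * v) = ϕ ⟨_, hfix_mem c hxc⟩ := by
        rw [map_mul, map_mul, map_inv, mul_comm, mul_inv_cancel_left]
      rw [← hz]
      refine hD c₁.out u u.2 _ _ rfl ?_
      simp only [v, Subgroup.coe_mul, Subgroup.coe_inv]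
      group
    rw [Finset.prod_congr rfl hval, Finset.prod_const]
    -- the number of fixed cosets in a nontrivial orbit is divisible by `p`
    have hdiv : p ∣ S'.card := by
      let X : Subgroup (P : Subgroup G) := Subgroup.zpowers ⟨x, hx⟩
      have hXp : IsPGroup p X := P.2.to_subgroup X
      haveI : Finite (orbit (P : Subgroup G) c₀) := Subtype.finite
      have h1 := hXp.card_modEq_card_fixedPoints (orbit (P : Subgroup G) c₀)
      have h2 : Nat.card (fixedPoints X (orbit (P : Subgroup G) c₀)) = S'.card := by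
        rw [← Nat.card_eq_finsetCard]
        refine Nat.card_congr
          { toFun := fun c => ⟨c.1.1, Finset.mem_filter.mpr ⟨(hSmem _).mpr c.1.2,
              congrArg Subtype.val (c.2 ⟨_, Subgroup.mem_zpowers _⟩)⟩⟩
            invFun := fun c => ⟨⟨c.1, (hSmem _).mp (Finset.mem_filter.mp c.2).1⟩, ?_⟩
            left_inv := fun c => rfl
            right_inv := fun c => rfl }
        rintro ⟨g, hg⟩
        obtain ⟨n, rfl⟩ := Subgroup.mem_zpowers_iff.mp hg
        refine Subtype.ext ?_
        show ((((⟨x, hx⟩ : (P : Subgroup G)) ^ n : (P : Subgroup G))) : G) • c.1 = c.1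
        rw [Subgroup.coe_zpow]
        exact zpow_smul_eq_iff_period_dvd.mpr (by
          rw [show MulAction.period x c.1 = 1 from
            MulAction.period_eq_one_iff.mpr (Finset.mem_filter.mp c.2).2]
          exact one_dvd _)
      obtain ⟨n, hn⟩ := P.2.card_orbit (a := c₀)
      rw [h2, hn] at h1
      rcases Nat.eq_zero_or_pos n with hn0 | hn0
      · exfalso
        apply hF0
        simp only [hFdef, Finset.mem_filter, Finset.mem_univ, true_and]
        intro u
        rw [hn0, pow_zero, Nat.card_eq_one_iff_unique] at hn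
        haveI := hn.1
        exact congrArg Subtype.val
          (Subsingleton.elim (⟨u • c₀, mem_orbit c₀ u⟩ : orbit (P : Subgroup G) c₀)
            ⟨c₀, mem_orbit_self c₀⟩)
      · exact (Nat.ModEq.dvd_iff h1 dvd_rfl).mp (dvd_pow_self p hn0.ne')
    obtain ⟨k, hk⟩ := hdiv
    rw [hk, pow_mul]
    have hsm : ϕ (⟨_, hfix_mem c₁ hx₁⟩ : (P : Subgroup G)) ^ p = 1 := by
      rw [← map_pow]
      refine hsmall _ ?_ ?_
      · rw [Subgroup.coe_pow]
        exact Subgroup.pow_mem _ (by
          simpa using (inferInstance : (commutator G).Normal).conj_mem _ hxG c₁.out⁻¹) p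
      · rw [Subgroup.coe_pow]
        show orderOf ((c₁.out⁻¹ * x * c₁.out) ^ p) < orderOf x
        have he : orderOf (c₁.out⁻¹ * x * c₁.out) = orderOf x := by
          rw [show c₁.out⁻¹ * x * c₁.out = MulAut.conj c₁.out⁻¹ x by simp, MulEquiv.orderOf_eq]
        rw [orderOf_pow, he]
        have hpd : p ∣ orderOf x := by
          rw [ha]
          refine dvd_pow_self p ?_
          rintro rfl
          exact hx1 (orderOf_eq_one_iff.mp (by rw [ha, pow_zero]))
        rw [Nat.gcd_eq_right hpd]
        exact Nat.div_lt_self (orderOf_pos x) hp.out.one_lt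
    rw [hsm, one_pow]
  rw [← Finset.prod_mul_prod_compl F, hrest, mul_one, Finset.prod_congr rfl hFw,
    Finset.prod_const] at hw
  have hcop : ¬ p ∣ F.card := by
    intro hd
    have h1 := P.2.card_modEq_card_fixedPoints (G ⧸ (P : Subgroup G))
    have h2 : Nat.card (fixedPoints (P : Subgroup G) (G ⧸ (P : Subgroup G))) = F.card := by
      rw [← Nat.card_eq_finsetCard]
      exact Nat.card_congr (Equiv.subtypeEquivRight fun c => by simp [hFdef])
    rw [h2, ← Subgroup.index] at h1
    exact P.not_dvd_index ((Nat.ModEq.dvd_iff h1 dvd_rfl).mpr hd)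
  obtain ⟨k, hk⟩ := hA (ϕ ⟨x, hx⟩)
  have := pow_gcd_eq_one.mpr ⟨hw, hk⟩
  rwa [Nat.Coprime.gcd_eq_one (Nat.Coprime.pow_right k
    ((Nat.coprime_comm.mp (hp.out.coprime_iff_not_dvd.mpr hcop)))), pow_one] at this


/-- Grün's first Theorem: if `P` is a Sylow `p`-subgroup of the finite group `G`, then `P ∩ G'` is the subgroup generated by `P ∩ N_G(P)'` together with the subgroups `P ∩ z P' z⁻¹` for all `z ∈ G`, where `'` denotes the derived subgroup and `N_G(P)` the normalizer of `P`. -/
theorem result {G : Type*} [Group G] [Finite G] {p : ℕ} [Fact p.Prime] (P : Sylow p G) : (P : Subgroup G) ⊓ commutator G = ((P : Subgroup G) ⊓ ⁅Subgroup.normalizer ((P : Subgroup G) : Set G), Subgroup.normalizer ((P : Subgroup G) : Set G)⁆) ⊔ ⨆ z : G, (P : Subgroup G) ⊓ (⁅(P : Subgroup G), (P : Subgroup G)⁆).map (MulAut.conj z).toMonoidHom := by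
  classical
  set N := Subgroup.normalizer ((P : Subgroup G) : Set G)
  refine le_antisymm ?_ (sup_le ?_ (iSup_le fun z => ?_))
  rotate_left
  · exact inf_le_inf_left _ (by rw [commutator_def]; exact Subgroup.commutator_mono le_top le_top)
  · refine inf_le_inf_left _ ?_
    rw [Subgroup.map_commutator, commutator_def]
    exact Subgroup.commutator_mono le_top le_top
  set R := ((P : Subgroup G) ⊓ ⁅N, N⁆) ⊔
    ⨆ z : G, (P : Subgroup G) ⊓ (⁅(P : Subgroup G), (P : Subgroup G)⁆).map (MulAut.conj z).toMonoidHom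
  have hcomm : ∀ a ∈ (P : Subgroup G), ∀ b ∈ (P : Subgroup G), a⁻¹ * (b⁻¹ * a * b) ∈ R := by
    intro a ha b hb
    refine Subgroup.mem_sup_left (Subgroup.mem_inf.mpr
      ⟨mul_mem (inv_mem ha) (mul_mem (mul_mem (inv_mem hb) ha) hb), ?_⟩)
    have : a⁻¹ * (b⁻¹ * a * b) = ⁅a⁻¹, b⁻¹⁆ := by rw [commutatorElement_def]; group
    rw [this]
    exact Subgroup.commutator_mem_commutator (inv_mem (Subgroup.le_normalizer ha))
      (inv_mem (Subgroup.le_normalizer hb))
  haveI : (R.subgroupOf (P : Subgroup G)).Normal := by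
    refine ⟨fun r hr g => ?_⟩
    rw [Subgroup.mem_subgroupOf] at hr ⊢
    have h1 := hcomm r r.2 _ (inv_mem g.2)
    have h2 := mul_mem hr h1
    simpa [mul_assoc] using h2
  let A := (P : Subgroup G) ⧸ R.subgroupOf (P : Subgroup G)
  have hAc : ∀ a b : A, a * b = b * a := by
    intro a b
    induction a using QuotientGroup.induction_on with
    | _ a =>
      induction b using QuotientGroup.induction_on with
      | _ b =>
        rw [← QuotientGroup.mk_mul, ← QuotientGroup.mk_mul, QuotientGroup.eq,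
          Subgroup.mem_subgroupOf]
        simp only [Subgroup.coe_mul, Subgroup.coe_inv, mul_inv_rev]
        have h := hcomm (b : G)⁻¹ (inv_mem b.2) (a : G)⁻¹ (inv_mem a.2)
        have h' := inv_mem h
        simp only [mul_inv_rev, inv_inv] at h'
        have e := hcomm (a : G) a.2 (b : G) b.2
        have e' : (b : G)⁻¹ * (a : G)⁻¹ * ((b : G) * a) =
            ((a : G)⁻¹ * ((b : G)⁻¹ * a * b))⁻¹ := by group
        rw [e']
        exact inv_mem e
  letI : CommGroup A := { (inferInstance : Group A) with mul_comm := hAc }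
  have hA : IsPGroup p A := P.2.to_quotient _
  let ϕ : (P : Subgroup G) →* A := QuotientGroup.mk' _
  have hϕ : ∀ y : (P : Subgroup G), ϕ y = 1 ↔ (y : G) ∈ R := fun y =>
    (QuotientGroup.eq_one_iff y).trans Subgroup.mem_subgroupOf
  have hϕeq : ∀ y z : (P : Subgroup G), (y : G)⁻¹ * z ∈ R → ϕ y = ϕ z := fun y z h =>
    QuotientGroup.eq.mpr (Subgroup.mem_subgroupOf.mpr (by simpa using h))
  suffices H : ∀ (n : ℕ) (x : (P : Subgroup G)), orderOf (x : G) = n → (x : G) ∈ commutator G →
      ϕ x = 1 from fun x hx => (hϕ ⟨x, hx.1⟩).mp (H _ ⟨x, hx.1⟩ rfl hx.2)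
  intro n
  induction n using Nat.strong_induction_on with
  | _ n ih =>
    rintro ⟨x, hx⟩ hn hxG
    refine grun_aux P hA ϕ x hx hxG (fun y hy hlt => ih _ (hn ▸ hlt) y rfl hy) ?_ ?_
    · intro t ht y hy
      refine (hϕeq _ _ ?_).symm
      refine Subgroup.mem_sup_left (Subgroup.mem_inf.mpr ⟨mul_mem (inv_mem hx) y.2, ?_⟩)
      have : x⁻¹ * (y : G) = ⁅x⁻¹, t⁻¹⁆ := by rw [hy, commutatorElement_def]; group
      show x⁻¹ * (y : G) ∈ ⁅N, N⁆
      rw [this]
      exact Subgroup.commutator_mem_commutator (inv_mem (Subgroup.le_normalizer hx)) (inv_mem ht)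
    · intro t u hu y z hy hz
      refine (hϕeq _ _ ?_).symm
      refine Subgroup.mem_sup_right (Subgroup.mem_iSup_of_mem t⁻¹ (Subgroup.mem_inf.mpr
        ⟨mul_mem (inv_mem y.2) z.2, ⟨⁅x⁻¹, u⁻¹⁆,
          Subgroup.commutator_mem_commutator (inv_mem hx) (inv_mem hu), ?_⟩⟩))
      show t⁻¹ * ⁅x⁻¹, u⁻¹⁆ * t⁻¹⁻¹ = _
      rw [hy, hz, commutatorElement_def]
      group

end Cfsg.Agent.S4216
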