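import Cfsg.Statements.S4217
import Cfsg.Agent.Lib.Solvable.Gaschuetz
import Cfsg.Agent.Lib.Cores.Basic

set_option autoImplicit false
open Cfsg

namespace Cfsg.Agent.S4217

variable {G : Type*} [Group G]

/-- The elements of the abelian subgroup `A` killed by `n`. -/
def tors (A : Subgroup G) (hA : IsMulCommutative A) (n : ℕ) : Subgroup G where
  carrier := {a | a ∈ A ∧ a ^ n = 1}
  one_mem' := ⟨one_mem A, one_pow n⟩
  mul_mem' := by
    rintro a b ⟨ha, ha'⟩ ⟨hb, hb'⟩
    refine ⟨mul_mem ha hb, ?_⟩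
    have h : Commute a b := congrArg Subtype.val (hA.is_comm.comm (⟨a, ha⟩ : A) ⟨b, hb⟩)
    rw [h.mul_pow, ha', hb', one_mul]
  inv_mem' := by
    rintro a ⟨ha, ha'⟩
    exact ⟨inv_mem ha, by rw [inv_pow, ha', inv_one]⟩

theorem mem_tors {A : Subgroup G} {hA : IsMulCommutative A} {n : ℕ} {a : G} :
    a ∈ tors A hA n ↔ a ∈ A ∧ a ^ n = 1 := Iff.rfl

instance tors_normal (A : Subgroup G) [A.Normal] (hA : IsMulCommutative A) (n : ℕ) :
    (tors A hA n).Normal :=
  ⟨fun a ha g => ⟨Subgroup.Normal.conj_mem inferInstance a ha.1 g, by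
    rw [conj_pow, ha.2, mul_one, mul_inv_cancel]⟩⟩

theorem tors_inf {A : Subgroup G} (hA : IsMulCommutative A) {m n : ℕ} (h : m.Coprime n) :
    tors A hA m ⊓ tors A hA n = ⊥ := by
  rw [eq_bot_iff]
  rintro a ⟨hm, hn⟩
  have := pow_gcd_eq_one.mpr ⟨hm.2, hn.2⟩
  rwa [h.gcd_eq_one, pow_one] at this

theorem le_tors_sup [Finite G] {A : Subgroup G} (hA : IsMulCommutative A) {m n : ℕ}
    (h : m.Coprime n) (hmn : Nat.card A = m * n) : A ≤ tors A hA m ⊔ tors A hA n := by
  intro a ha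
  have hpow : a ^ ((m * n : ℕ) : ℤ) = 1 := by
    have h1 := pow_card_eq_one' (G := A) (x := ⟨a, ha⟩)
    rw [hmn] at h1
    rw [zpow_natCast]
    exact congrArg Subtype.val h1
  have hb := Nat.gcd_eq_gcd_ab m n
  rw [h.gcd_eq_one] at hb
  have ha' : a = a ^ ((n : ℤ) * Nat.gcdB m n) * a ^ ((m : ℤ) * Nat.gcdA m n) := by
    rw [← zpow_add, add_comm, ← hb]
    simp
  rw [ha']
  refine Subgroup.mul_mem_sup ⟨A.zpow_mem ha _, ?_⟩ ⟨A.zpow_mem ha _, ?_⟩
  · rw [← zpow_natCast, ← zpow_mul,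
      show (n : ℤ) * Nat.gcdB m n * (m : ℤ) = ((m * n : ℕ) : ℤ) * Nat.gcdB m n by push_cast; ring,
      zpow_mul, hpow, one_zpow]
  · rw [← zpow_natCast, ← zpow_mul,
      show (m : ℤ) * Nat.gcdA m n * (n : ℤ) = ((m * n : ℕ) : ℤ) * Nat.gcdA m n by push_cast; ring,
      zpow_mul, hpow, one_zpow]

theorem card_tors_coprime [Finite G] {A : Subgroup G} (hA : IsMulCommutative A) {m n : ℕ}
    (h : m.Coprime n) : (Nat.card (tors A hA m)).Coprime n := by
  refine Nat.coprime_of_dvd fun q hq hqc hqn => ?_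
  haveI := Fact.mk hq
  obtain ⟨x, hx⟩ := exists_prime_orderOf_dvd_card' q hqc
  have hqm : q ∣ m := hx ▸ orderOf_dvd_of_pow_eq_one (Subtype.ext x.2.2)
  exact hq.not_dvd_one (h.gcd_eq_one ▸ Nat.dvd_gcd hqm hqn)

theorem card_tors [Finite G] {A : Subgroup G} [A.Normal] (hA : IsMulCommutative A) {m n : ℕ}
    (h : m.Coprime n) (hmn : Nat.card A = m * n) : Nat.card (tors A hA m) = m := by
  have hsup : tors A hA m ⊔ tors A hA n = A :=
    le_antisymm (sup_le (fun a ha => ha.1) (fun a ha => ha.1)) (le_tors_sup hA h hmn)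
  have hc : Nat.card (tors A hA m) * Nat.card (tors A hA n) = m * n := by
    have h1 := Cfsg.Agent.Lib.Cores.card_sup_mul_card_inf (tors A hA m) (tors A hA n)
    rw [hsup, tors_inf hA h, Subgroup.card_bot, mul_one, hmn] at h1
    exact h1.symm
  refine Nat.dvd_antisymm ?_ ?_
  · exact (card_tors_coprime hA h).dvd_of_dvd_mul_right ⟨_, hc.symm⟩
  · have h2 : m.Coprime (Nat.card (tors A hA n)) := (card_tors_coprime hA h.symm).symm
    exact h2.dvd_of_dvd_mul_right ⟨n, hc⟩

open Cfsg.Agent.Lib in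
theorem exists_complement [Finite G] (A : Subgroup G) [A.Normal] (hA : IsMulCommutative A)
    (hloc : ∀ p : ℕ, p.Prime → p ∣ A.index → ∃ (S : Sylow p (G ⧸ A)) (K : Subgroup G),
      K ⊓ A = ⊥ ∧ K ⊔ A = (S : Subgroup (G ⧸ A)).comap (QuotientGroup.mk' A)) :
    ∃ H : Subgroup G, H.IsComplement' A := by
  classical
  set s := (Nat.card A).primeFactors with hs
  have hlocal : ∀ p : s, ∃ Hp : Subgroup G,
      Hp.index = (p : ℕ) ^ (Nat.card A).factorization p ∧
      tors A hA ((p : ℕ) ^ (Nat.card A).factorization p) ⊓ Hp = ⊥ := by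
    rintro ⟨p, hp⟩
    have hpp : p.Prime := Nat.prime_of_mem_primeFactors hp
    haveI := Fact.mk hpp
    set v := (Nat.card A).factorization p
    set m := Nat.card A / p ^ v
    have hmn : Nat.card A = p ^ v * m :=
      (Nat.mul_div_cancel' (Nat.ordProj_dvd _ _)).symm
    have hcop : (p ^ v).Coprime m :=
      (hpp.coprime_iff_not_dvd.mpr (Nat.not_dvd_ordCompl hpp Nat.card_pos.ne')).pow_left v
    set Ap := tors A hA (p ^ v)
    set B := tors A hA m
    haveI : IsMulCommutative Ap := ⟨⟨fun a b => Subtype.ext (congrArg Subtype.val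
      (hA.is_comm.comm (⟨a.1, a.2.1⟩ : A) ⟨b.1, b.2.1⟩) : (a : G) * b = b * a)⟩⟩
    have hBA : B ≤ A := fun a ha => ha.1
    have hApA : Ap ≤ A := fun a ha => ha.1
    obtain ⟨U, K, hAU, hKA, hKAU, hU⟩ : ∃ U K : Subgroup G, A ≤ U ∧ K ⊓ A = ⊥ ∧ K ⊔ A = U ∧
        ¬ p ∣ U.index := by
      by_cases hpi : p ∣ A.index
      · obtain ⟨S, K, h1, h2⟩ := hloc p hpp hpi
        refine ⟨_, K, h2 ▸ le_sup_right, h1, h2, ?_⟩
        rw [Subgroup.index_comap_of_surjective _ (QuotientGroup.mk'_surjective A)]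
        exact S.not_dvd_index
      · exact ⟨A, ⊥, le_rfl, bot_inf_eq A, bot_sup_eq A, hpi⟩
    have hXA : (B ⊔ K) ⊓ Ap = ⊥ := by
      rw [eq_bot_iff]
      rintro x ⟨hx, hxA⟩
      obtain ⟨b, hb, k, hk, rfl⟩ :=
        Coprime.exists_mul_of_mem_sup Subgroup.le_normalizer_of_normal hx
      have hkA : k ∈ K ⊓ A :=
        ⟨hk, by simpa using mul_mem (inv_mem (hBA hb)) (hApA hxA)⟩
      rw [hKA, Subgroup.mem_bot] at hkA
      subst hkA
      rw [mul_one] at hxA ⊢
      exact (tors_inf hA hcop).le ⟨hxA, hb⟩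
    have hXU : Ap ⊔ (B ⊔ K) = U := by
      rw [← sup_assoc, ← hKAU, sup_comm K A]
      congr 1
      exact le_antisymm (sup_le hApA hBA) (le_tors_sup hA hcop hmn)
    have hcard : Nat.card Ap = p ^ v := card_tors hA hcop hmn
    obtain ⟨H, hH⟩ := Solvable.exists_complement_of_coprime_index (K := Ap) (U := U)
      (hApA.trans hAU) (by
        rw [hcard]
        exact (hpp.coprime_iff_not_dvd.mpr hU).pow_left v) (hXU ▸ le_sup_right) hXA hXU
    exact ⟨H, hH.index_eq_card.trans hcard, disjoint_iff.mp hH.disjoint⟩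
  choose Hp hidx hinf using hlocal
  refine ⟨⨅ p, Hp p, ?_⟩
  have hdisj : (⨅ p, Hp p) ⊓ A = ⊥ := by
    rw [eq_bot_iff]
    rintro a ⟨haH, haA⟩
    rw [Subgroup.mem_bot]
    by_contra ha
    obtain ⟨q, hq, hqd⟩ := Nat.exists_prime_and_dvd (orderOf_eq_one_iff.not.mpr ha)
    obtain ⟨j, hj⟩ := hqd
    have hord : orderOf (a ^ j) = q := by
      have h0 : orderOf a ≠ 0 := (orderOf_pos a).ne'
      rw [orderOf_pow' a (by rintro rfl; simp [hj] at h0),
        Nat.gcd_eq_right ⟨q, by rw [hj]; ring⟩, hj, Nat.mul_div_left _ (by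
          rcases Nat.eq_zero_or_pos j with h | h
          · simp [hj, h] at h0
          · exact h)]
    have hqA : q ∈ s := by
      refine Nat.mem_primeFactors.mpr ⟨hq, ?_, Nat.card_pos.ne'⟩
      rw [← hord, show orderOf (a ^ j) = orderOf (⟨a ^ j, A.pow_mem haA j⟩ : A) from
        (Subgroup.orderOf_coe (⟨a ^ j, A.pow_mem haA j⟩ : A))]
      exact orderOf_dvd_natCard _
    have hv : a ^ j ∈ tors A hA (q ^ (Nat.card A).factorization q) := by
      refine ⟨A.pow_mem haA j, orderOf_dvd_iff_pow_eq_one.mp ?_⟩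
      rw [hord]
      exact dvd_pow_self q ((hq.factorization_pos_of_dvd Nat.card_pos.ne'
        (Nat.dvd_of_mem_primeFactors hqA)).ne')
    have h1 := (hinf ⟨q, hqA⟩).le ⟨hv, pow_mem (Subgroup.mem_iInf.mp haH _) j⟩
    rw [Subgroup.mem_bot] at h1
    rw [h1, orderOf_one] at hord
    exact hq.one_lt.ne hord
  refine Subgroup.isComplement'_of_card_mul_and_disjoint (le_antisymm ?_ ?_)
    (disjoint_iff.mpr hdisj)
  · have h1 := Cfsg.Agent.Lib.Cores.card_sup_mul_card_inf (⨅ p, Hp p) A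
    rw [hdisj, Subgroup.card_bot, mul_one] at h1
    rw [← h1]
    exact Subgroup.card_le_card_group _
  · have h2 : (⨅ p, Hp p).index ≤ Nat.card A := by
      refine (Subgroup.index_iInf_le _).trans (le_of_eq ?_)
      simp only [hidx]
      rw [Finset.prod_coe_sort s (fun p => p ^ (Nat.card A).factorization p)]
      exact (Nat.prod_factorization_pow_eq_self (n := Nat.card A) Nat.card_pos.ne')
    calc Nat.card G = Nat.card (⨅ p, Hp p : Subgroup G) * (⨅ p, Hp p).index :=
          (Subgroup.card_mul_index _).symm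
      _ ≤ _ := Nat.mul_le_mul le_rfl h2


/-- Let `A` be an abelian normal subgroup of the finite group `G`. Then `A` has a complement in `G` if and only if, for every prime `p` dividing the index of `A`, there are a Sylow `p`-subgroup `S` of `G/A` and a subgroup `K` of `G` with `K ∩ A = 1` and `KA` equal to the preimage of `S` (that is, `A` has a complement in the preimage of a Sylow `p`-subgroup of `G/A`). -/
theorem result {G : Type*} [Group G] [Finite G] (A : Subgroup G) [A.Normal] (hA : IsMulCommutative A) : (∃ K : Subgroup G, K.IsComplement' A) ↔ ∀ p : ℕ, p.Prime → p ∣ A.index → ∃ (S : Sylow p (G ⧸ A)) (K : Subgroup G), K ⊓ A = ⊥ ∧ K ⊔ A = (S : Subgroup (G ⧸ A)).comap (QuotientGroup.mk' A) := by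
  constructor
  · rintro ⟨K, hK⟩ p hp -
    haveI := Fact.mk hp
    obtain ⟨S⟩ := (inferInstance : Nonempty (Sylow p (G ⧸ A)))
    refine ⟨S, K ⊓ (S : Subgroup (G ⧸ A)).comap (QuotientGroup.mk' A), ?_, ?_⟩
    · exact le_antisymm ((inf_le_inf_right A inf_le_left).trans (disjoint_iff.mp hK.disjoint).le)
        bot_le
    · refine le_antisymm (sup_le inf_le_right ?_) fun x hx => ?_
      · intro a ha
        show (a : G ⧸ A) ∈ (S : Subgroup (G ⧸ A))
        rw [(QuotientGroup.eq_one_iff a).mpr ha]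
        exact one_mem _
      · obtain ⟨⟨k, a⟩, hka, -⟩ := hK.existsUnique x
        obtain rfl : (k : G) * a = x := hka
        refine Subgroup.mul_mem_sup ⟨k.2, ?_⟩ a.2
        show ((k : G) : G ⧸ A) ∈ (S : Subgroup (G ⧸ A))
        have hx' : (((k : G) * a : G) : G ⧸ A) ∈ (S : Subgroup (G ⧸ A)) := hx
        rwa [QuotientGroup.mk_mul, (QuotientGroup.eq_one_iff (a : G)).mpr a.2, mul_one] at hx'
  · exact exists_complement A hA

end Cfsg.Agent.S4217
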