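import Cfsg.Statements.S4218
import Cfsg.Agent.Lib.Blocks.PSolvable
import Cfsg.Agent.Lib.Transfer.Basic
import Cfsg.Agent.Lib.Coprime.Action
import Cfsg.Agent.Lib.Coprime.Generation

set_option autoImplicit false
open Cfsg

namespace Cfsg.Agent.S4218

open scoped commutatorElement

universe u

theorem isPSolvable_quotient {G : Type u} [Group G] [Finite G] {p : ℕ} [hp : Fact p.Prime]
    (N : Subgroup G) [N.Normal] (h : Cfsg.IsPSolvable p G) : Cfsg.IsPSolvable p (G ⧸ N) := by
  obtain ⟨n, H, h0, hl, hm, hn, hf⟩ := h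
  refine ⟨n, fun i => (H i).map (QuotientGroup.mk' N), ?_, ?_, ?_, ?_, ?_⟩
  · show (H 0).map (QuotientGroup.mk' N) = ⊥
    rw [h0, Subgroup.map_bot]
  · show (H (Fin.last n)).map (QuotientGroup.mk' N) = ⊤
    rw [hl, Subgroup.map_top_of_surjective _ (QuotientGroup.mk'_surjective N)]
  · exact fun i j hij => Subgroup.map_mono (hm hij)
  · exact fun i => (hn i).map _ (QuotientGroup.mk'_surjective N)
  · intro i
    haveI := hn i.castSucc
    haveI : ((H i.castSucc) ⊔ N).Normal := Subgroup.sup_normal _ _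
    have hd : ((H i.castSucc).map (QuotientGroup.mk' N)).relIndex
        ((H i.succ).map (QuotientGroup.mk' N)) ∣ (H i.castSucc).relIndex (H i.succ) := by
      rw [Subgroup.relIndex_map_map, QuotientGroup.ker_mk']
      have h1 : H i.succ ⊔ N = H i.succ ⊔ (H i.castSucc ⊔ N) := by
        rw [← sup_assoc, sup_eq_left.mpr (hm (Fin.castSucc_le_succ i))]
      rw [h1, Subgroup.relIndex_sup_right]
      exact Subgroup.relIndex_dvd_of_le_left _ le_sup_left
    rcases hf i with ⟨m, he⟩ | hc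
    · obtain ⟨j, -, hj⟩ := (Nat.dvd_prime_pow hp.out).mp (he ▸ hd)
      exact Or.inl ⟨j, hj⟩
    · exact Or.inr (hc.coprime_dvd_left hd)

/-- In a `p`-solvable group with trivial `p'`-core an element acting trivially on the Frattini
quotient of `O_p` lies in `O_p`. -/
theorem mem_pCore_of_frattini {Q : Type u} [Group Q] [Finite Q] {p : ℕ} [hp : Fact p.Prime]
    (hC : Subgroup.centralizer (Cfsg.pCore p Q : Set Q) ≤ Cfsg.pCore p Q) (g : Q)
    (h : ∀ v : Cfsg.pCore p Q, (MulAut.conjNormal g v * v⁻¹ : Cfsg.pCore p Q) ∈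
      frattini (Cfsg.pCore p Q)) : g ∈ Cfsg.pCore p Q := by
  set V := Cfsg.pCore p Q
  set W := frattini V
  have hVp : IsPGroup p V := Cfsg.Agent.Lib.Cores.pCore_isPGroup p Q
  let mapM : Q → Monoid.End (V ⧸ W) := fun q => QuotientGroup.map W W
    (MulAut.conjNormal q).toMonoidHom
    ((Subgroup.characteristic_iff_comap_eq.mp inferInstance (MulAut.conjNormal q)).ge)
  let ρ : Q →* Monoid.End (V ⧸ W) :=
    { toFun := mapM
      map_one' := by
        refine MonoidHom.ext fun m => ?_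
        obtain ⟨v, rfl⟩ := QuotientGroup.mk_surjective m
        show ((MulAut.conjNormal (1 : Q) v : V) : V ⧸ W) = (v : V ⧸ W)
        rw [map_one, MulAut.one_apply]
      map_mul' := fun q r => by
        refine MonoidHom.ext fun m => ?_
        obtain ⟨v, rfl⟩ := QuotientGroup.mk_surjective m
        show ((MulAut.conjNormal (q * r) v : V) : V ⧸ W) =
          ((MulAut.conjNormal q (MulAut.conjNormal r v) : V) : V ⧸ W)
        rw [map_mul, MulAut.mul_apply] }
  have hker : ∀ q, q ∈ ρ.ker ↔ ∀ v : V, (MulAut.conjNormal q v * v⁻¹ : V) ∈ W := by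
    intro q
    rw [MonoidHom.mem_ker]
    constructor
    · intro hq v
      have h1 : ((MulAut.conjNormal q v : V) : V ⧸ W) = (v : V ⧸ W) :=
        DFunLike.congr_fun hq (v : V ⧸ W)
      rw [← QuotientGroup.eq_one_iff, QuotientGroup.mk_mul, h1, QuotientGroup.mk_inv, mul_inv_cancel]
    · intro hq
      refine MonoidHom.ext fun m => ?_
      obtain ⟨v, rfl⟩ := QuotientGroup.mk_surjective m
      have h1 : ((MulAut.conjNormal q v * v⁻¹ : V) : V ⧸ W) = 1 :=
        (QuotientGroup.eq_one_iff _).mpr (hq v)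
      rw [QuotientGroup.mk_mul, QuotientGroup.mk_inv, mul_inv_eq_one] at h1
      exact h1
  have hkp : IsPGroup p ρ.ker := by
    intro q
    obtain ⟨a, b, ha, hb, hac, ⟨k, hk⟩, hab⟩ := Cfsg.Agent.Lib.Transfer.exists_pPart_decomp (p := p) (q : Q)
    refine ⟨k, ?_⟩
    have haK : a ∈ ρ.ker := (Subgroup.zpowers_le.mpr q.2) ha
    have hza : Subgroup.zpowers a ≤ ρ.ker := Subgroup.zpowers_le.mpr haK
    have haC : a ∈ Subgroup.centralizer (V : Set Q) := by
      refine Cfsg.Agent.Lib.Coprime.le_centralizer_of_frattini (A := Subgroup.zpowers a) (K := V) ?_ ?_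
        (Subgroup.mem_zpowers a)
      · rw [Nat.card_zpowers]
        obtain ⟨e, he⟩ := (hVp.to_subgroup (frattini V)).exists_card_eq
        rw [he]
        exact hac.pow_right e
      · intro s hs v hv
        exact ⟨_, (hker s).mp (hza hs) ⟨v, hv⟩, rfl⟩
    have ha1 : a = 1 := Cfsg.Agent.Lib.Transfer.eq_one_of_isPGroup_of_coprime hVp (hC haC) hac
    refine Subtype.ext ?_
    rw [Subgroup.coe_pow, hab, ha1, one_mul, ← hk]
    exact pow_orderOf_eq_one b
  exact Cfsg.Agent.Lib.Cores.le_pCore (inferInstance : ρ.ker.Normal) hkp ((hker g).mpr h)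


/-- Let `G` be a finite `p`-solvable group, `N₀ = O_{p'}(G)`, `P₁ = O_{p',p}(G)`, and let `F ≤ P₁` be the preimage of the Frattini subgroup of `P₁/N₀`. Then an element `g` of `G` induces the identity on `P₁/F` by conjugation (that is, `g x g⁻¹ x⁻¹ ∈ F` for all `x ∈ P₁`) if and only if `g ∈ P₁`: the group `G/P₁` acts faithfully on `P₁/F`. -/
theorem result {G : Type*} [Group G] [Finite G] {p : ℕ} [Fact p.Prime] (hG : Cfsg.IsPSolvable p G) (g : G) : (∀ x ∈ Cfsg.pPrimePCore p G, g * x * g⁻¹ * x⁻¹ ∈ ((frattini (↥(Cfsg.pPrimePCore p G) ⧸ (Cfsg.pPrimeCore p G).subgroupOf (Cfsg.pPrimePCore p G))).comap (QuotientGroup.mk' ((Cfsg.pPrimeCore p G).subgroupOf (Cfsg.pPrimePCore p G)))).map (Cfsg.pPrimePCore p G).subtype) ↔ g ∈ Cfsg.pPrimePCore p G := by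
  set P₁ := Cfsg.pPrimePCore p G with hP₁
  set N₀ := Cfsg.pPrimeCore p G
  set N₀' := N₀.subgroupOf P₁
  set V := Cfsg.pCore p (G ⧸ N₀)
  haveI : P₁.Normal := Subgroup.Normal.comap inferInstance _
  have hVp : IsPGroup p V := Cfsg.Agent.Lib.Cores.pCore_isPGroup p _
  let f : P₁ →* V := ((QuotientGroup.mk' N₀).comp P₁.subtype).codRestrict V (fun x => x.2)
  have hfs : Function.Surjective f := by
    rintro ⟨v, hv⟩
    obtain ⟨x, rfl⟩ := QuotientGroup.mk_surjective v
    exact ⟨⟨x, hv⟩, rfl⟩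
  have hfk : N₀' ≤ f.ker := fun x hx => Subtype.ext ((QuotientGroup.eq_one_iff (x : G)).mpr hx)
  let f' : P₁ ⧸ N₀' →* V := QuotientGroup.lift N₀' f hfk
  have hf's : Function.Surjective f' := fun v => by
    obtain ⟨x, hx⟩ := hfs v
    exact ⟨x, hx⟩
  have hf'i : Function.Injective f' := by
    rw [injective_iff_map_eq_one]
    intro y hy
    obtain ⟨x, rfl⟩ := QuotientGroup.mk_surjective y
    rw [QuotientGroup.eq_one_iff]
    exact (QuotientGroup.eq_one_iff (x : G)).mp (congrArg Subtype.val (show f x = 1 from hy))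
  constructor
  · intro h
    have hC := Cfsg.Agent.Lib.Blocks.centralizer_pCore_le_of_isPSolvable p
      (show Cfsg.IsPSolvable p (G ⧸ N₀) from ?_) (Cfsg.Agent.Lib.Cores.pPrimeCore_quotient_pPrimeCore p G)
    · refine mem_pCore_of_frattini (Q := G ⧸ N₀) hC (g : G ⧸ N₀) fun v => ?_
      obtain ⟨x, rfl⟩ := hfs v
      obtain ⟨y, hy, hyeq⟩ := h x x.2
      have h1 : f' (y : P₁ ⧸ N₀') ∈ frattini V :=
        frattini_le_comap_frattini_of_surjective hf's hy
      have h2 : f y = MulAut.conjNormal (g : G ⧸ N₀) (f x) * (f x)⁻¹ := by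
        refine Subtype.ext ?_
        show ((y : G) : G ⧸ N₀) = _
        rw [show (y : G) = g * x * g⁻¹ * (x : G)⁻¹ from hyeq]
        rfl
      rwa [← h2]
    · exact isPSolvable_quotient N₀ hG
  · intro hg x hx
    refine ⟨⁅(⟨g, hg⟩ : P₁), ⟨x, hx⟩⁆, ?_, ?_⟩
    · show ((⁅(⟨g, hg⟩ : P₁), ⟨x, hx⟩⁆ : P₁) : P₁ ⧸ N₀') ∈ frattini (P₁ ⧸ N₀')
      refine Cfsg.Agent.Lib.Coprime.commutator_le_frattini_of_isPGroup
        (hVp.of_injective f' hf'i) ?_
      rw [← QuotientGroup.mk'_apply, map_commutatorElement]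
      exact Subgroup.commutator_mem_commutator (Subgroup.mem_top _) (Subgroup.mem_top _)
    · show ((⁅(⟨g, hg⟩ : P₁), ⟨x, hx⟩⁆ : P₁) : G) = _
      simp [commutatorElement_def]

end Cfsg.Agent.S4218
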