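import Cfsg.Statements.S4219
import Mathlib

set_option autoImplicit false
open Cfsg

namespace Cfsg.Agent.S4219


theorem map_conj_mul {G : Type*} [Group G] (H : Subgroup G) (a b : G) :
    H.map (MulAut.conj (a * b)).toMonoidHom =
      (H.map (MulAut.conj b).toMonoidHom).map (MulAut.conj a).toMonoidHom := by
  rw [Subgroup.map_map, map_mul]; rfl


/-- Let a finite group `G` act `t`-fold transitively on a finite set, let `H` be the stabilizer of `t` distinct points and `P` a Sylow `p`-subgroup of `H`. Then the normalizer of `P` in `G` is `t`-fold transitive on the fixed points of `P`: any `t` distinct fixed points of `P` can be carried to any other `t` distinct fixed points of `P` by an element normalizing `P`. -/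
theorem result {G : Type*} [Group G] [Finite G] {α : Type*} [Fintype α] [MulAction G α] {t : ℕ} (hG : MulAction.IsMultiplyPretransitive G α t) (x : Fin t ↪ α) {p : ℕ} [Fact p.Prime] (P : Sylow p (MulAction.stabilizer G x)) (a b : Fin t ↪ α) (ha : ∀ i, a i ∈ MulAction.fixedPoints ((P : Subgroup (MulAction.stabilizer G x)).map (MulAction.stabilizer G x).subtype) α) (hb : ∀ i, b i ∈ MulAction.fixedPoints ((P : Subgroup (MulAction.stabilizer G x)).map (MulAction.stabilizer G x).subtype) α) : ∃ g ∈ Subgroup.normalizer ((((P : Subgroup (MulAction.stabilizer G x)).map (MulAction.stabilizer G x).subtype) : Subgroup G) : Set G), g • a = b := by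

  classical
  set Pm := (P : Subgroup (MulAction.stabilizer G x)).map (MulAction.stabilizer G x).subtype with hPm
  haveI : MulAction.IsPretransitive G (Fin t ↪ α) := hG
  obtain ⟨k, hk⟩ := MulAction.exists_smul_eq G a b
  have hfix : ∀ (c : Fin t ↪ α), (∀ i, c i ∈ MulAction.fixedPoints Pm α) →
      Pm ≤ MulAction.stabilizer G c := by
    intro c hc g hg
    rw [MulAction.mem_stabilizer_iff]
    ext i
    exact hc i ⟨g, hg⟩
  have hPa := hfix a ha
  have hPb := hfix b hb
  let Pk := Pm.map (MulAut.conj k).toMonoidHom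
  have hkb : Pk ≤ MulAction.stabilizer G b := by
    rintro _ ⟨g, hg, rfl⟩
    rw [MulAction.mem_stabilizer_iff]
    simp only [MulEquiv.coe_toMonoidHom, MulAut.conj_apply, mul_smul]
    rw [inv_smul_eq_iff.mpr hk.symm, MulAction.mem_stabilizer_iff.mp (hPa hg), hk]
  have hcard : Nat.card Pm = Nat.card P := by
    exact (Nat.card_congr (Subgroup.equivMapOfInjective _ _ (MulAction.stabilizer G x).subtype_injective).toEquiv).symm
  have hcardk : Nat.card Pk = Nat.card Pm :=
    (Nat.card_congr (Subgroup.equivMapOfInjective _ _ (MulAut.conj k).injective).toEquiv).symm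
  obtain ⟨m, hm⟩ := MulAction.exists_smul_eq G x b
  have hst : Nat.card (MulAction.stabilizer G b) = Nat.card (MulAction.stabilizer G x) :=
    (Nat.card_congr (MulAction.stabilizerEquivStabilizer hm.symm).toEquiv).symm
  have hPcard : Nat.card Pm = p ^ (Nat.card (MulAction.stabilizer G b)).factorization p := by
    rw [hcard, hst]; exact P.card_eq_multiplicity
  let S1 : Sylow p (MulAction.stabilizer G b) := Sylow.ofCard (Pm.subgroupOf (MulAction.stabilizer G b))
    (by rw [Nat.card_congr (Subgroup.subgroupOfEquivOfLe hPb).toEquiv, hPcard])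
  let S2 : Sylow p (MulAction.stabilizer G b) := Sylow.ofCard (Pk.subgroupOf (MulAction.stabilizer G b))
    (by rw [Nat.card_congr (Subgroup.subgroupOfEquivOfLe hkb).toEquiv, hcardk, hPcard])
  obtain ⟨s, hs⟩ := MulAction.exists_smul_eq (MulAction.stabilizer G b) S2 S1
  have hsmem : ∀ y : G, y ∈ Pk → (s : G) * y * (s : G)⁻¹ ∈ Pm := by
    intro y hy
    have h1 : (MulAut.conj s ⟨y, hkb hy⟩ : MulAction.stabilizer G b) ∈ ((s • S2 : Sylow p _) : Subgroup _) := by
      rw [Sylow.coe_subgroup_smul]
      exact Subgroup.smul_mem_pointwise_smul _ _ _ (by show (⟨y, hkb hy⟩ : MulAction.stabilizer G b) ∈ Pk.subgroupOf _; exact hy)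
    rw [hs] at h1
    exact h1
  refine ⟨(s : G) * k, ?_, by rw [mul_smul, hk]; exact MulAction.mem_stabilizer_iff.mp s.2⟩
  rw [Subgroup.mem_normalizer_iff_map_conj_eq]
  refine Subgroup.eq_of_le_of_card_ge ?_ (le_of_eq ?_)
  · rintro _ ⟨y, hy, rfl⟩
    have h2 := hsmem _ (Subgroup.mem_map_of_mem (MulAut.conj k).toMonoidHom hy)
    simpa [mul_assoc] using h2
  · exact Nat.card_congr (Subgroup.equivMapOfInjective _ _ (MulEquiv.injective _)).toEquiv

end Cfsg.Agent.S4219
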