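import Cfsg.Statements.S4220
import Cfsg.Agent.Lib.Perm.SmallSupport
import Cfsg.Agent.Lib.Perm.FourTransNine
import Cfsg.Agent.Lib.Perm.Jordan
import Cfsg.Agent.S4219

set_option autoImplicit false
set_option maxHeartbeats 2000000
set_option linter.style.haveILetI false
open Cfsg

namespace Cfsg.Agent.S4220

open MulAction

set_option maxRecDepth 8000 in
theorem three_witness : ∃ s t : Equiv.Perm (Fin 3), ((t * s)⁻¹ * (s * t)) ≠ 1 ∧
    ((t * s)⁻¹ * (s * t)) ^ 3 = 1 := ⟨Equiv.swap 0 1, Equiv.swap 0 2, by decide⟩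

set_option maxRecDepth 8000 in
theorem four_witness : ∃ s t : Equiv.Perm (Fin 4),
    ((t ^ 2 * s ^ 2)⁻¹ * (s ^ 2 * t ^ 2)) ≠ 1 ∧ ((t ^ 2 * s ^ 2)⁻¹ * (s ^ 2 * t ^ 2)) ^ 2 = 1 :=
  ⟨Equiv.swap 0 1 * Equiv.swap 1 2, Equiv.swap 0 1 * Equiv.swap 1 3, by decide⟩

set_option maxRecDepth 8000 in
theorem four_no_cyclic : ∀ σ : Equiv.Perm (Fin 4), σ ^ 12 = 1 := by decide

set_option maxRecDepth 8000 in
theorem four_klein : ∃ z₁ z₂ : Equiv.Perm (Fin 4), (∃ s, s ^ 6 = z₁) ∧ (∃ s, s ^ 6 = z₂) ∧
    ∀ σ : Equiv.Perm (Fin 4), ¬ ((∃ a : Fin 12, σ ^ (a : ℕ) = z₁) ∧ ∃ b : Fin 12, σ ^ (b : ℕ) = z₂) :=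
  ⟨Equiv.swap 0 2 * Equiv.swap 1 3, Equiv.swap 0 1 * Equiv.swap 2 3,
    ⟨Equiv.swap 0 1 * Equiv.swap 1 2 * Equiv.swap 2 3, by decide⟩,
    ⟨Equiv.swap 0 2 * Equiv.swap 2 1 * Equiv.swap 1 3, by decide⟩, by decide⟩

set_option maxRecDepth 8000 in
theorem five_witness : ∃ s t s' t' : Equiv.Perm (Fin 5),
    ¬ Commute ((t ^ 2 * s ^ 2)⁻¹ * (s ^ 2 * t ^ 2)) ((t' ^ 2 * s' ^ 2)⁻¹ * (s' ^ 2 * t' ^ 2)) :=
  ⟨Equiv.swap 0 1 * Equiv.swap 1 2, Equiv.swap 0 3 * Equiv.swap 3 4,
    Equiv.swap 0 1 * Equiv.swap 1 2, Equiv.swap 1 3 * Equiv.swap 3 4, by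
      unfold Commute SemiconjBy; decide⟩

/-- Let `n = kp + r` with `p` prime, `1 ≤ k < p` and `r > k`, excluding the case `k = 1, r = 2`. Then a permutation group of degree `n` that is `(r + 1)`-fold transitive contains the alternating group. -/
theorem result {α : Type*} [Fintype α] [DecidableEq α] (G : Subgroup (Equiv.Perm α)) {k p r : ℕ} (hp : p.Prime) (hn : Fintype.card α = k * p + r) (hk : 1 ≤ k) (hpk : k < p) (hrk : k < r) (hex : ¬ (k = 1 ∧ r = 2)) (hG : MulAction.IsMultiplyPretransitive G α (r + 1)) : alternatingGroup α ≤ G := by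
  classical
  haveI := Fact.mk hp
  have hp2 := hp.two_le
  have hr3 : 3 ≤ r := by
    rcases Nat.lt_or_ge 1 k with h | h
    · omega
    · have : k = 1 := le_antisymm h hk
      rcases Nat.lt_or_ge r 3 with h' | h'
      · exact absurd ⟨this, by omega⟩ hex
      · exact h'
  have hkpos : p ≤ k * p := Nat.le_mul_of_pos_left p hk
  have hrn : r + 1 ≤ Fintype.card α := by omega
  have hle : ∀ m, m ≤ r + 1 → IsMultiplyPretransitive G α m := fun m hm =>
    haveI := hG
    isMultiplyPretransitive_of_le' (n := r + 1) hm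
      (by rw [ENat.card_eq_coe_fintype_card]; exact_mod_cast hrn)
  have hprim : IsPreprimitive G α := isPreprimitive_of_is_two_pretransitive (hle 2 (by omega))
  rcases Nat.lt_or_ge 3 (k * p) with hkp4 | hs
  swap
  · exact _root_.IsMultiplyPretransitive.alternatingGroup_le α G
      (hle _ (by rw [Nat.card_eq_fintype_card]; omega))
  by_cases h9 : k = 2 ∧ r = 3 ∧ p = 3
  · obtain ⟨rfl, rfl, rfl⟩ := h9
    exact Cfsg.Agent.Lib.Perm.FourTransNine.alternatingGroup_le G (by rw [hn]) (hle 4 le_rfl)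
  by_contra hnot
  -- no small supports
  have hgen : ∀ g : G, g ≠ 1 → ∀ S : Finset α, (∀ a ∉ S, g • a = a) → S.card ≤ r + 1 →
      S.card < Fintype.card α → False := by
    intro g hg S hS hc hlt
    have hsub : (g : Equiv.Perm α).support ⊆ S := fun a ha => by
      by_contra h
      exact Equiv.Perm.mem_support.mp ha (hS a h)
    exact hnot (Cfsg.Agent.Lib.Perm.SmallSupport.alternatingGroup_le_of_support G hprim hG hrn g.2
      (fun e => hg (Subtype.ext e)) ((Finset.card_le_card hsub).trans hc)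
      ((Finset.card_le_card hsub).trans_lt hlt))
  have hgenp : ∀ g : G, g ≠ 1 → g ^ p = 1 → ∀ S : Finset α, (∀ a ∉ S, g • a = a) → S.card ≤ p →
      False := by
    intro g hg hgp S hS hc
    have hsub : (g : Equiv.Perm α).support ⊆ S := fun a ha => by
      by_contra h
      exact Equiv.Perm.mem_support.mp ha (hS a h)
    have hord : orderOf (g : Equiv.Perm α) = p :=
      orderOf_eq_prime (by rw [← SubmonoidClass.coe_pow, hgp]; rfl) fun e => hg (Subtype.ext e)
    have hcyc : (g : Equiv.Perm α).IsCycle := Equiv.Perm.isCycle_of_prime_order (by rw [hord]; exact hp)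
      (by rw [hord]; have := (Finset.card_le_card hsub).trans hc; omega)
    refine hnot (Cfsg.Agent.Lib.Perm.alternatingGroup_le_of_prime_cycle G hprim hp ?_ hcyc ?_ g.2)
    · omega
    · rw [← hcyc.orderOf, hord]
  -- the Sylow subgroup of the stabilizer of `r` points
  obtain ⟨x⟩ : Nonempty (Fin r ↪ α) :=
    Function.Embedding.nonempty_of_card_le (by rw [Fintype.card_fin]; omega)
  obtain ⟨P⟩ : Nonempty (Sylow p (stabilizer G x)) := inferInstance
  set Pm := (P : Subgroup (stabilizer G x)).map (stabilizer G x).subtype with hPm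
  have hPmx : Pm ≤ stabilizer G x := Subgroup.map_subtype_le _
  have hfix : ∀ u ∈ Pm, ∀ i, u • x i = x i := fun u hu i =>
    DFunLike.congr_fun (mem_stabilizer_iff.mp (hPmx hu)) i
  have hPmp : IsPGroup p Pm := P.2.map _
  set S0 := Finset.univ.map x with hS0
  have hS0c : S0.card = r := by rw [hS0, Finset.card_map, Finset.card_univ, Fintype.card_fin]
  have hS0m : ∀ a, a ∈ S0 ↔ a ∈ Set.range x := fun a => by simp [hS0]
  -- orbits of length `p`
  have horb : ∀ a, a ∉ Set.range x → Nat.card (orbit Pm a) = p := by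
    intro a ha
    obtain ⟨e, he⟩ := hPmp.card_orbit a
    rw [he]
    have he1 : e ≠ 0 := by
      rintro rfl
      rw [pow_zero, Nat.card_eq_one_iff_unique] at he
      have hPa : ∀ u : Pm, u • a = a := fun u =>
        congrArg Subtype.val (@Subsingleton.elim _ he.1 ⟨u • a, mem_orbit a u⟩ ⟨a, mem_orbit_self a⟩)
      let y : Fin (r + 1) ↪ α := ⟨Fin.snoc x a, Fin.snoc_injective_of_injective x.injective ha⟩
      have hPy : Pm ≤ stabilizer G y := fun u hu => by
        refine mem_stabilizer_iff.mpr (Function.Embedding.ext fun i => ?_)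
        show u • (Fin.snoc x a : Fin (r + 1) → α) i = (Fin.snoc x a : Fin (r + 1) → α) i
        refine Fin.lastCases ?_ (fun j => ?_) i
        · rw [Fin.snoc_last]; exact hPa ⟨u, hu⟩
        · rw [Fin.snoc_castSucc]; exact hfix u hu j
      have i1 : IsPretransitive G (Fin r ↪ α) := hle r (by omega)
      have i2 : IsPretransitive G (Fin (r + 1) ↪ α) := hG
      have e1 := Subgroup.card_mul_index (stabilizer G x)
      have e2 := Subgroup.card_mul_index (stabilizer G y)
      rw [@index_stabilizer_of_transitive G (Fin r ↪ α) _ _ x i1] at e1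
      rw [@index_stabilizer_of_transitive G (Fin (r + 1) ↪ α) _ _ y i2] at e2
      rw [Nat.card_eq_fintype_card (α := Fin _ ↪ α),
        Fintype.card_embedding_eq, Fintype.card_fin] at e1 e2
      rw [Nat.descFactorial_succ, ← mul_assoc, show Fintype.card α - r = k * p by omega] at e2
      have e3 : Nat.card (stabilizer G x) = Nat.card (stabilizer G y) * (k * p) :=
        Nat.eq_of_mul_eq_mul_right (Nat.descFactorial_pos.mpr (by omega) :
          0 < (Fintype.card α).descFactorial r) (e1.trans e2.symm)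
      have e4 : Nat.card Pm = p ^ (Nat.card (stabilizer G x)).factorization p := by
        rw [hPm, Subgroup.card_map_of_injective (stabilizer G x).subtype_injective]
        exact P.card_eq_multiplicity
      have e5 : p ^ ((Nat.card (stabilizer G x)).factorization p + 1) ∣ Nat.card (stabilizer G x) := by
        rw [pow_succ, ← e4]
        conv_rhs => rw [e3]
        exact Nat.mul_dvd_mul (Subgroup.card_dvd_of_le hPy) (dvd_mul_left p k)
      have := (Nat.Prime.pow_dvd_iff_le_factorization hp Nat.card_pos.ne').mp e5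
      omega
    have hle2 : p ^ e ≤ k * p := by
      rw [← he, Nat.card_coe_set_eq]
      refine (Set.ncard_le_ncard (t := (Set.range x)ᶜ) ?_).trans ?_
      · rintro _ ⟨u, rfl⟩ ⟨i, hi⟩
        apply ha
        refine ⟨i, ?_⟩
        have h1 : (u : G)⁻¹ • x i = a := by rw [hi]; exact inv_smul_smul (u : G) a
        rw [hfix _ (inv_mem u.2)] at h1
        exact h1
      · rw [Set.ncard_compl, Set.ncard_range_of_injective x.injective, Nat.card_eq_fintype_card,
          Nat.card_fin]
        omega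
    rcases Nat.lt_or_ge e 2 with h | h
    · rw [show e = 1 by omega, pow_one]
    · have := (Nat.pow_le_pow_right hp.pos h).trans hle2
      rw [pow_two] at this
      exact absurd (Nat.le_of_mul_le_mul_right this hp.pos) (by omega)
  have hout : ∀ a, a ∉ Set.range x → ∀ b ∈ orbit Pm a, b ∉ Set.range x := by
    rintro a ha _ ⟨u, rfl⟩ ⟨i, hi⟩
    apply ha
    refine ⟨i, ?_⟩
    have h1 : (u : G)⁻¹ • x i = a := by rw [hi]; exact inv_smul_smul (u : G) a
    rw [hfix _ (inv_mem u.2)] at h1
    exact h1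
  have hindex : ∀ a, a ∉ Set.range x → (stabilizer Pm a).index = p ∧ (stabilizer Pm a).Normal := by
    intro a ha
    have h1 : (stabilizer Pm a).index = p := by
      rw [index_stabilizer, ← Nat.card_coe_set_eq]; exact horb a ha
    refine ⟨h1, Subgroup.normal_of_index_eq_minFac_card ?_⟩
    obtain ⟨e, he⟩ := hPmp.exists_card_eq
    have he0 : e ≠ 0 := by
      rintro rfl
      have := (stabilizer Pm a).index_dvd_card
      rw [h1, he, pow_zero, Nat.dvd_one] at this
      exact hp.ne_one this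
    rw [h1, he, Nat.Prime.pow_minFac hp he0]
  have hfaith : ∀ u v : G, u ∈ Pm → v ∈ Pm → (∀ a, a ∉ Set.range x → u • a = v • a) → u = v := by
    intro u v hu hv h
    refine eq_of_smul_eq_smul (α := α) fun a => ?_
    by_cases ha : a ∈ Set.range x
    · obtain ⟨i, rfl⟩ := ha
      rw [hfix u hu, hfix v hv]
    · exact h a ha
  have hab : ∀ u ∈ Pm, ∀ v ∈ Pm, u * v = v * u := by
    intro u hu v hv
    refine hfaith _ _ (mul_mem hu hv) (mul_mem hv hu) fun a ha => ?_
    obtain ⟨h1, h2⟩ := hindex a ha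
    haveI := h2
    haveI : IsCyclic (Pm ⧸ stabilizer Pm a) :=
      isCyclic_of_prime_card (p := p) (by rw [← Subgroup.index_eq_card, h1])
    letI := IsCyclic.commGroup (α := Pm ⧸ stabilizer Pm a)
    have h3 : ((⟨v, hv⟩ * ⟨u, hu⟩ : Pm) : Pm ⧸ stabilizer Pm a) = ((⟨u, hu⟩ * ⟨v, hv⟩ : Pm) : _) := by
      rw [QuotientGroup.mk_mul, QuotientGroup.mk_mul, mul_comm]
    have h4 := mem_stabilizer_iff.mp (QuotientGroup.eq.mp h3)
    change ((v * u)⁻¹ * (u * v)) • a = a at h4
    rwa [mul_smul, inv_smul_eq_iff] at h4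
  have hexp : ∀ u ∈ Pm, u ^ p = 1 := by
    intro u hu
    refine hfaith _ _ (pow_mem hu p) (one_mem _) fun a ha => ?_
    obtain ⟨h1, h2⟩ := hindex a ha
    haveI := h2
    have h3 := Subgroup.pow_index_mem (stabilizer Pm a) (⟨u, hu⟩ : Pm)
    rw [h1] at h3
    rw [one_smul]
    exact mem_stabilizer_iff.mp h3
  -- the normalizer
  set N := Subgroup.normalizer (Pm : Set G) with hN
  have hNc : ∀ g ∈ N, ∀ u ∈ Pm, g * u * g⁻¹ ∈ Pm := fun g hg u hu =>
    (Subgroup.mem_normalizer_iff.mp hg u).mp hu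
  have hNc' : ∀ g ∈ N, ∀ u ∈ Pm, g⁻¹ * u * g ∈ Pm := fun g hg u hu => by
    simpa using hNc g⁻¹ (inv_mem hg) u hu
  have hfixiff : ∀ a, a ∈ Set.range x ↔ ∀ u ∈ Pm, u • a = a := by
    refine fun a => ⟨?_, fun h => ?_⟩
    · rintro ⟨i, rfl⟩ u hu; exact hfix u hu i
    · by_contra ha
      have h1 : orbit Pm a = {a} := by
        ext b
        refine ⟨?_, fun e => by rw [Set.mem_singleton_iff.mp e]; exact mem_orbit_self _⟩
        rintro ⟨u, rfl⟩
        exact h u u.2
      have := horb a ha
      rw [h1, Nat.card_coe_set_eq, Set.ncard_singleton] at this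
      exact hp.ne_one this.symm
  have hNF : ∀ g ∈ N, ∀ a, a ∈ Set.range x → g • a ∈ Set.range x := fun g hg a ha => by
    rw [hfixiff] at ha ⊢
    intro u hu
    have h1 := ha _ (hNc' g hg u hu)
    rwa [mul_smul, mul_smul, inv_smul_eq_iff] at h1
  have hNout : ∀ g ∈ N, ∀ a, a ∉ Set.range x → g • a ∉ Set.range x := fun g hg a ha h => by
    have := hNF g⁻¹ (inv_mem hg) _ h
    rw [inv_smul_smul] at this
    exact ha this
  -- the action on the fixed points
  have hρex : ∀ g : N, ∃ σ : Equiv.Perm (Fin r), ∀ i, (g : G) • x i = x (σ i) := fun g => by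
    choose f hf using fun i => hNF g g.2 (x i) ⟨i, rfl⟩
    have hinj : Function.Injective f := fun i j h => x.injective (smul_left_cancel (g : G) (by
      rw [← hf i, ← hf j, h]))
    exact ⟨Equiv.ofBijective f (Finite.injective_iff_bijective.mp hinj), fun i => (hf i).symm⟩
  choose ρ0 hρ0 using hρex
  let ρ : N →* Equiv.Perm (Fin r) :=
    { toFun := ρ0
      map_one' := Equiv.ext fun i => x.injective (by rw [← hρ0]; simp)
      map_mul' := fun g h => Equiv.ext fun i => x.injective (by
        rw [← hρ0, Subgroup.coe_mul, mul_smul, hρ0, hρ0]; rfl) }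
  have hρsurj : Function.Surjective ρ := fun σ => by
    obtain ⟨g, hg, hgx⟩ := Cfsg.Agent.S4219.result (hle r (by omega)) x P x (σ.toEmbedding.trans x)
      (fun i u => hfix u u.2 i) (fun i u => hfix u u.2 (σ i))
    exact ⟨⟨g, hg⟩, Equiv.ext fun i => x.injective ((hρ0 ⟨g, hg⟩ i).symm.trans (DFunLike.congr_fun hgx i))⟩
  have hμ : ∀ g : G, (∀ a, a ∉ Set.range x → g • a = a) → g = 1 := fun g h => by
    by_contra hg
    exact hgen g hg S0 (fun a ha => h a (fun h' => ha ((hS0m a).mpr h'))) (by omega) (by omega)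
  -- the action on the orbits
  let β := {S : Set α // ∃ a, a ∉ Set.range x ∧ orbit Pm a = S}
  let π : {a : α // a ∉ Set.range x} → β := fun a => ⟨orbit Pm a.1, a.1, a.2, rfl⟩
  have hπeq : ∀ (e a : α) (he : e ∉ Set.range x) (ha : a ∉ Set.range x),
      π ⟨e, he⟩ = π ⟨a, ha⟩ → e ∈ orbit Pm a := fun e a he ha h => by
    have h1 : orbit Pm e = orbit Pm a := congrArg Subtype.val h
    rw [← h1]; exact mem_orbit_self _
  have hexa : ∃ a, a ∉ Set.range x := by
    by_contra h
    push Not at h
    have h1 := Finset.card_le_card (show (Finset.univ : Finset α) ⊆ S0 from fun a _ => (hS0m a).mpr (h a))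
    rw [Finset.card_univ] at h1
    omega
  have hπ : Function.Surjective π := by
    rintro ⟨S, a, ha, rfl⟩; exact ⟨⟨a, ha⟩, rfl⟩
  haveI : Fintype β := Fintype.ofFinite β
  have hβ : Fintype.card β = k := by
    have hfib : ∀ S : β, Nat.card {a // π a = S} = p := by
      intro S
      obtain ⟨⟨a, ha⟩, rfl⟩ := hπ S
      rw [← horb a ha]
      refine Nat.card_congr
        { toFun := fun b => ⟨b.1.1, by
            have h1 : orbit Pm b.1.1 = orbit Pm a := congrArg Subtype.val b.2
            rw [← h1]; exact mem_orbit_self _⟩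
          invFun := fun b => ⟨⟨b.1, hout a ha b.1 b.2⟩, Subtype.ext (orbit_eq_iff.mpr b.2)⟩
          left_inv := fun b => rfl
          right_inv := fun b => rfl }
    have h1 := Nat.card_congr (Equiv.sigmaFiberEquiv π)
    rw [Nat.card_sigma] at h1
    simp only [hfib, Finset.sum_const, Finset.card_univ, smul_eq_mul] at h1
    rw [Nat.card_eq_fintype_card, Fintype.card_subtype_compl] at h1
    have h2 : Fintype.card {a // a ∈ Set.range x} = r := by
      rw [← Nat.card_eq_fintype_card]
      show Nat.card (Set.range x) = r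
      rw [Nat.card_range_of_injective x.injective, Nat.card_fin]
    rw [h2, hn, Nat.add_sub_cancel] at h1
    exact Nat.eq_of_mul_eq_mul_right hp.pos h1
  have himg : ∀ g ∈ N, ∀ a, (fun b : α => g • b) '' orbit Pm a = orbit Pm (g • a) := by
    intro g hg a
    ext b
    constructor
    · rintro ⟨_, ⟨u, rfl⟩, rfl⟩
      exact ⟨⟨_, hNc g hg u u.2⟩, by show (g * u * g⁻¹) • g • a = g • (u : G) • a; simp [mul_smul]⟩
    · rintro ⟨u, rfl⟩
      exact ⟨(g⁻¹ * u * g) • a, ⟨⟨_, hNc' g hg u u.2⟩, rfl⟩, by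
        show g • (g⁻¹ * u * g) • a = (u : G) • g • a
        simp [mul_smul]⟩
  let F : N → β → β := fun g S => ⟨(fun b : α => (g : G) • b) '' S.1, by
    obtain ⟨a, ha, e⟩ := S.2
    exact ⟨(g : G) • a, hNout g g.2 a ha, by rw [← e, himg g g.2 a]⟩⟩
  letI actβ : MulAction N β :=
    { smul := F
      one_smul := fun S => Subtype.ext (by show (fun b : α => ((1 : N) : G) • b) '' S.1 = S.1; simp)
      mul_smul := fun g h S => Subtype.ext (by
        show (fun b : α => ((g * h : N) : G) • b) '' S.1 =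
          (fun b : α => (g : G) • b) '' ((fun b : α => (h : G) • b) '' S.1)
        rw [Set.image_image]; simp [mul_smul]) }
  let θ : N →* Equiv.Perm β := MulAction.toPermHom N β
  have hθker : ∀ g : N, g ∈ θ.ker → ∀ a, a ∉ Set.range x → (g : G) • a ∈ orbit Pm a := by
    intro g hg a ha
    have h1 := congrArg Subtype.val (DFunLike.congr_fun (MonoidHom.mem_ker.mp hg) (π ⟨a, ha⟩))
    change (fun b : α => (g : G) • b) '' orbit Pm a = orbit Pm a at h1
    rw [himg g g.2 a] at h1
    rw [← h1]
    exact mem_orbit_self _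
  have hθcard : Nat.card (Equiv.Perm β) = k.factorial := by
    rw [Nat.card_perm, Nat.card_eq_fintype_card, hβ]
  have hθpow : ∀ g : N, g ^ k.factorial ∈ θ.ker := fun g => by
    rw [MonoidHom.mem_ker, map_pow, ← hθcard, pow_card_eq_one']
  -- elements centralizing the Sylow subgroup and preserving its orbits
  have hC0 : ∀ c : N, c ∈ θ.ker → (∀ u ∈ Pm, (c : G) * u = u * c) → ∀ a, a ∉ Set.range x →
      ∃ u ∈ Pm, ∀ b ∈ orbit Pm a, (c : G) • b = u • b := by
    intro c hc hcc a ha
    obtain ⟨u, hu⟩ := hθker c hc a ha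
    refine ⟨u, u.2, ?_⟩
    rintro _ ⟨v, rfl⟩
    show (c : G) • (v : G) • a = (u : G) • (v : G) • a
    rw [← mul_smul, hcc v v.2, mul_smul, ← mul_smul (u : G), hab u u.2 v v.2, mul_smul]
    exact congrArg _ hu.symm
  have hC0exp : ∀ c : N, c ∈ θ.ker → (∀ u ∈ Pm, (c : G) * u = u * c) → c ^ p = 1 := by
    intro c hc hcc
    refine Subtype.ext (hμ _ fun a ha => ?_)
    obtain ⟨u, hu, hcu⟩ := hC0 c hc hcc a ha
    have : ∀ j : ℕ, ((c : G) ^ j) • a = (u ^ j) • a := by
      intro j
      induction j with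
      | zero => simp
      | succ j ih =>
        rw [pow_succ', mul_smul, ih, pow_succ' u, mul_smul]
        exact hcu _ ⟨⟨u ^ j, pow_mem hu j⟩, rfl⟩
    rw [SubmonoidClass.coe_pow, this p, hexp u hu, one_smul]
  have hC0comm : ∀ c d : N, c ∈ θ.ker → (∀ u ∈ Pm, (c : G) * u = u * c) → d ∈ θ.ker →
      (∀ u ∈ Pm, (d : G) * u = u * d) → c * d = d * c := by
    intro c d hc hcc hd hdc
    have h1 : ((d : G) * c)⁻¹ * ((c : G) * d) = 1 := hμ _ fun a ha => by
      obtain ⟨u, hu, hcu⟩ := hC0 c hc hcc a ha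
      obtain ⟨v, hv, hdv⟩ := hC0 d hd hdc a ha
      rw [mul_smul, inv_smul_eq_iff, mul_smul, mul_smul, hdv a (mem_orbit_self a),
        hcu a (mem_orbit_self a), hcu (v • a) ⟨⟨v, hv⟩, rfl⟩, hdv (u • a) ⟨⟨u, hu⟩, rfl⟩,
        ← mul_smul, ← mul_smul, hab u hu v hv]
    exact Subtype.ext ((inv_mul_eq_one.mp h1).symm)
  -- the local scalar
  have hpowloc : ∀ a : α, ∀ z ∈ Pm, ∀ z' ∈ Pm, z • a = z' • a → ∀ j : ℕ, z ^ j • a = z' ^ j • a := by
    intro a z hz z' hz' e j
    induction j with
    | zero => simp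
    | succ j ih =>
      rw [pow_succ, mul_smul, e, ← mul_smul, hab _ (pow_mem hz j) _ hz', mul_smul, ih, ← mul_smul,
        ← pow_succ']
  have hgenorb : ∀ a, a ∉ Set.range x → ∀ w0 ∈ Pm, w0 • a ≠ a → ∀ b ∈ orbit Pm a,
      ∃ j : ℕ, w0 ^ j • a = b := by
    intro a ha w0 hw0 hne b hb
    obtain ⟨v, rfl⟩ := hb
    obtain ⟨h1, h2⟩ := hindex a ha
    haveI := h2
    have hq : ((⟨w0, hw0⟩ : Pm) : Pm ⧸ stabilizer Pm a) ≠ 1 := by
      rw [Ne, QuotientGroup.eq_one_iff, mem_stabilizer_iff]
      exact hne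
    have h3 := mem_powers_of_prime_card (p := p) (by rw [← Subgroup.index_eq_card, h1])
      (g := ((⟨w0, hw0⟩ : Pm) : Pm ⧸ stabilizer Pm a)) (g' := (v : Pm ⧸ stabilizer Pm a)) hq
    obtain ⟨j, hj⟩ := h3
    change ((⟨w0, hw0⟩ : Pm) : Pm ⧸ stabilizer Pm a) ^ j = _ at hj
    rw [← QuotientGroup.mk_pow, QuotientGroup.eq, mem_stabilizer_iff, mul_smul, inv_smul_eq_iff] at hj
    exact ⟨j, hj.symm⟩
  have hscal : ∀ u : N, u ∈ θ.ker → ∀ a, a ∉ Set.range x →
      ∃ i : ℕ, ∀ w ∈ Pm, ((u : G) * w * (u : G)⁻¹) • a = w ^ i • a := by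
    intro u hu a ha
    obtain ⟨v, hv⟩ := hθker u⁻¹ (inv_mem hu) a ha
    obtain ⟨w0, hw0, hne⟩ : ∃ w0 ∈ Pm, w0 • a ≠ a := by
      by_contra h
      push Not at h
      exact ha ((hfixiff a).mpr h)
    obtain ⟨i, hi⟩ := hgenorb a ha w0 hw0 hne (((u : G) * w0 * (u : G)⁻¹) • a)
      ⟨⟨_, hNc u u.2 w0 hw0⟩, rfl⟩
    refine ⟨i, fun w hw => ?_⟩
    obtain ⟨j, hj⟩ := hgenorb a ha w0 hw0 hne (w • a) ⟨⟨w, hw⟩, rfl⟩
    have hua : (u : G)⁻¹ • a = (v : G) • a := hv.symm
    have hconj : ((u : G) * w * (u : G)⁻¹) • a = ((u : G) * w0 * (u : G)⁻¹) ^ j • a := by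
      rw [conj_pow, mul_smul, mul_smul, mul_smul ((u : G) * w0 ^ j), mul_smul (u : G), hua,
        ← mul_smul w, hab w hw v v.2, mul_smul, ← hj, ← mul_smul (v : G),
        ← hab _ (pow_mem hw0 j) v v.2, mul_smul]
    rw [hconj, hpowloc a _ (hNc u u.2 w0 hw0) _ (pow_mem hw0 i) hi.symm j, ← pow_mul, mul_comm,
      pow_mul, hpowloc a _ (pow_mem hw0 j) w hw hj i]
  have hcommker : ∀ u v : N, u ∈ θ.ker → v ∈ θ.ker →
      (v * u)⁻¹ * (u * v) ∈ θ.ker ∧ ∀ w ∈ Pm, (((v * u)⁻¹ * (u * v) : N) : G) * w =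
        w * (((v * u)⁻¹ * (u * v) : N) : G) := by
    intro u v hu hv
    refine ⟨mul_mem (inv_mem (mul_mem hv hu)) (mul_mem hu hv), fun w hw => ?_⟩
    have h1 : ((u : G) * v) * w * ((u : G) * v)⁻¹ = ((v : G) * u) * w * ((v : G) * u)⁻¹ := by
      refine hfaith _ _ (hNc _ (u * v).2 w hw) (hNc _ (v * u).2 w hw) fun a ha => ?_
      obtain ⟨i, hi⟩ := hscal u hu a ha
      obtain ⟨j, hj⟩ := hscal v hv a ha
      have e1 : ((u : G) * v) * w * ((u : G) * v)⁻¹ = (u : G) * ((v : G) * w * (v : G)⁻¹) * (u : G)⁻¹ := by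
        group
      have e2 : ((v : G) * u) * w * ((v : G) * u)⁻¹ = (v : G) * ((u : G) * w * (u : G)⁻¹) * (v : G)⁻¹ := by
        group
      rw [e1, e2, hi _ (hNc v v.2 w hw), hj _ (hNc u u.2 w hw),
        hpowloc a _ (hNc v v.2 w hw) _ (pow_mem hw j) (hj w hw) i,
        hpowloc a _ (hNc u u.2 w hw) _ (pow_mem hw i) (hi w hw) j, ← pow_mul, ← pow_mul, mul_comm]
    simp only [Subgroup.coe_mul, Subgroup.coe_inv]
    calc ((v : G) * u)⁻¹ * ((u : G) * v) * w
        = ((v : G) * u)⁻¹ * (((u : G) * v) * w * ((u : G) * v)⁻¹) * ((u : G) * v) := by group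
      _ = ((v : G) * u)⁻¹ * (((v : G) * u) * w * ((v : G) * u)⁻¹) * ((u : G) * v) := by rw [h1]
      _ = _ := by group
  have hρC0 : ∀ c : N, c ∈ θ.ker → (∀ u ∈ Pm, (c : G) * u = u * c) → (ρ c) ^ p = 1 := fun c hc hcc => by
    rw [← map_pow, hC0exp c hc hcc, map_one]
  have hcop : ∀ (z : Equiv.Perm (Fin r)) (q : ℕ), q.Prime → q ≠ p → z ^ q = 1 → z ^ p = 1 → z = 1 :=
    fun z q hq hqp h1 h2 => orderOf_eq_one_iff.mp (Nat.eq_one_of_dvd_coprimes
      ((Nat.coprime_primes hq hp).mpr hqp) (orderOf_dvd_of_pow_eq_one h1) (orderOf_dvd_of_pow_eq_one h2))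
  have hp5 : k = 1 ∨ r = 3 → p ≠ 3 := by
    rintro h rfl
    rcases h with rfl | rfl
    · omega
    · exact h9 ⟨by omega, rfl, rfl⟩
  rcases Nat.lt_or_ge r 5 with hr5 | hr5
  · rcases (show r = 3 ∨ r = 4 by omega) with rfl | rfl
    · -- three fixed points
      obtain ⟨s, t, hz1, hz3⟩ := three_witness
      obtain ⟨u, rfl⟩ := hρsurj s
      obtain ⟨v, rfl⟩ := hρsurj t
      rw [← map_mul, ← map_mul, ← map_inv, ← map_mul] at hz1 hz3
      rcases (show k = 1 ∨ k = 2 by omega) with rfl | rfl
      · have hall : ∀ g : N, g ∈ θ.ker := fun g => by simpa using hθpow g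
        obtain ⟨hc, hcc⟩ := hcommker u v (hall u) (hall v)
        exact hz1 (hcop _ 3 Nat.prime_three (hp5 (Or.inl rfl)).symm hz3 (hρC0 _ hc hcc))
      · -- the Sylow subgroup has order `p`
        have hsingle : ∀ a, a ∉ Set.range x → stabilizer Pm a = ⊥ := by
          intro a ha
          rw [Subgroup.eq_bot_iff_forall]
          intro w hw
          by_contra hw1
          obtain ⟨S2, hS2⟩ : ∃ S : β, S ≠ π ⟨a, ha⟩ := Fintype.exists_ne_of_one_lt_card (by omega) _
          obtain ⟨⟨b, hb⟩, rfl⟩ := hπ S2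
          refine hgenp (w : G) (fun e => hw1 (Subtype.ext e)) (hexp w w.2) (orbit Pm b).toFinset
            (fun e he => ?_) ?_
          · rw [Set.mem_toFinset] at he
            by_cases hex' : e ∈ Set.range x
            · exact (hfixiff e).mp hex' w w.2
            · have h3 : π ⟨e, hex'⟩ = π ⟨a, ha⟩ := by
                by_contra h3
                have h4 : π ⟨e, hex'⟩ ≠ π ⟨b, hb⟩ := fun h => he (hπeq e b hex' hb h)
                have h5 := Finset.card_le_univ ({π ⟨e, hex'⟩, π ⟨b, hb⟩, π ⟨a, ha⟩} : Finset β)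
                rw [hβ, Finset.card_eq_three.mpr ⟨_, _, _, h4, h3, hS2, rfl⟩] at h5
                omega
              obtain ⟨v', hv'⟩ : e ∈ orbit Pm a := hπeq e a hex' ha h3
              have hw' : (w : G) • a = a := hw
              rw [← hv']
              show (w : G) • (v' : G) • a = (v' : G) • a
              rw [← mul_smul, hab w w.2 v' v'.2, mul_smul, hw']
          · rw [← Set.ncard_eq_toFinset_card', ← Nat.card_coe_set_eq, horb b hb]
        obtain ⟨a0, ha0⟩ := hexa
        haveI : IsCyclic Pm := isCyclic_of_prime_card (p := p) (by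
          have h1 := (stabilizer Pm a0).card_mul_index
          rw [hsingle a0 ha0, Subgroup.card_bot, one_mul, ← hsingle a0 ha0, (hindex a0 ha0).1] at h1
          exact h1.symm)
        obtain ⟨w0, hw0⟩ := IsCyclic.exists_generator (α := Pm)
        have hinv : ∀ g : N, ∃ i : ℤ, ∀ w ∈ Pm, (g : G) * w * (g : G)⁻¹ = w ^ i := by
          intro g
          obtain ⟨i, hi⟩ := hw0 ⟨_, hNc g g.2 w0 w0.2⟩
          refine ⟨i, fun w hw => ?_⟩
          obtain ⟨j, hj⟩ := hw0 ⟨w, hw⟩
          have hi' : (w0 : G) ^ i = (g : G) * w0 * (g : G)⁻¹ := congrArg Subtype.val hi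
          have hj' : (w0 : G) ^ j = w := congrArg Subtype.val hj
          rw [← hj', ← conj_zpow, ← hi', ← zpow_mul, ← zpow_mul, mul_comm]
        set c := (v * u)⁻¹ * (u * v) with hc
        have hcc : ∀ w ∈ Pm, (c : G) * w = w * c := by
          intro w hw
          obtain ⟨i, hi⟩ := hinv u
          obtain ⟨j, hj⟩ := hinv v
          have h1 : ((u : G) * v) * w * ((u : G) * v)⁻¹ = ((v : G) * u) * w * ((v : G) * u)⁻¹ := by
            calc ((u : G) * v) * w * ((u : G) * v)⁻¹
                = (u : G) * ((v : G) * w * (v : G)⁻¹) * (u : G)⁻¹ := by group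
              _ = (w ^ j) ^ i := by rw [hj w hw, hi _ (zpow_mem hw j)]
              _ = (w ^ i) ^ j := by rw [← zpow_mul, ← zpow_mul, mul_comm]
              _ = (v : G) * ((u : G) * w * (u : G)⁻¹) * (v : G)⁻¹ := by rw [hi w hw, hj _ (zpow_mem hw i)]
              _ = _ := by group
          simp only [hc, Subgroup.coe_mul, Subgroup.coe_inv]
          calc ((v : G) * u)⁻¹ * ((u : G) * v) * w
              = ((v : G) * u)⁻¹ * (((u : G) * v) * w * ((u : G) * v)⁻¹) * ((u : G) * v) := by group
            _ = ((v : G) * u)⁻¹ * (((v : G) * u) * w * ((v : G) * u)⁻¹) * ((u : G) * v) := by rw [h1]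
            _ = _ := by group
        have hc2 : c ^ 2 ∈ θ.ker := by simpa using hθpow c
        have h2 := hρC0 _ hc2 fun w hw => by
          rw [SubmonoidClass.coe_pow]
          exact ((show Commute (c : G) w from hcc w hw).pow_left 2)
        rw [map_pow] at h2
        have h3 := hcop ((ρ c) ^ 2) 3 Nat.prime_three (hp5 (Or.inr rfl)).symm
          (by rw [← pow_mul, mul_comm, pow_mul, hz3, one_pow]) h2
        refine hz1 ?_
        calc ρ c = (ρ c) ^ 3 * ((ρ c) ^ 2)⁻¹ := by rw [pow_succ' _ 2, mul_inv_cancel_right]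
          _ = 1 := by rw [hz3, h3, inv_one, mul_one]
    · -- four fixed points
      rcases (show k ≤ 2 ∨ k = 3 by omega) with hk2 | rfl
      · obtain ⟨s, t, hz1, hz2⟩ := four_witness
        obtain ⟨u, rfl⟩ := hρsurj s
        obtain ⟨v, rfl⟩ := hρsurj t
        rw [← map_pow, ← map_pow, ← map_mul, ← map_mul, ← map_inv, ← map_mul] at hz1 hz2
        have hsq : ∀ g : N, g ^ 2 ∈ θ.ker := fun g => by
          rcases (show k = 1 ∨ k = 2 by omega) with rfl | rfl
          · have := hθpow g
            rw [Nat.factorial_one, pow_one] at this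
            exact pow_mem this 2
          · simpa using hθpow g
        obtain ⟨hc, hcc⟩ := hcommker (u ^ 2) (v ^ 2) (hsq u) (hsq v)
        refine hz1 (hcop _ 2 Nat.prime_two (fun e => ?_) hz2 (hρC0 _ hc hcc))
        subst e
        omega
      · -- three orbits: the automorphisms are scalars
        have hscalglob : ∀ u : N, u ∈ θ.ker → ∃ i : ℕ, ∀ w ∈ Pm, (u : G) * w * (u : G)⁻¹ = w ^ i := by
          intro u hu
          obtain ⟨a, ha⟩ := hexa
          obtain ⟨i, hi⟩ := hscal u hu a ha
          refine ⟨i, fun w hw => hfaith _ _ (hNc u u.2 w hw) (pow_mem hw i) fun b hb => ?_⟩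
          by_cases hab' : π ⟨b, hb⟩ = π ⟨a, ha⟩
          · obtain ⟨v', hv'⟩ : b ∈ orbit Pm a := hπeq b a hb ha hab'
            rw [← hv']
            show ((u : G) * w * (u : G)⁻¹) • (v' : G) • a = w ^ i • (v' : G) • a
            rw [← mul_smul, hab _ (hNc u u.2 w hw) _ v'.2, mul_smul, hi w hw, ← mul_smul,
              hab _ v'.2 _ (pow_mem hw i), mul_smul]
          · obtain ⟨j, hj⟩ := hscal u hu b hb
            obtain ⟨c, hc, hcb, hcd⟩ : ∃ c ∈ Pm, c • b ≠ b ∧
                ((u : G) * c * (u : G)⁻¹) * (c ^ i)⁻¹ = 1 := by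
              by_cases hbig : stabilizer Pm a = ⊥
              · obtain ⟨c, hc, hcb⟩ : ∃ c ∈ Pm, c • b ≠ b := by
                  by_contra h
                  push Not at h
                  exact hb ((hfixiff b).mpr h)
                refine ⟨c, hc, hcb, ?_⟩
                have hm : (⟨_, mul_mem (hNc u u.2 c hc) (inv_mem (pow_mem hc i))⟩ : Pm) ∈ stabilizer Pm a := by
                  rw [mem_stabilizer_iff]
                  show ((u : G) * c * (u : G)⁻¹ * (c ^ i)⁻¹) • a = a
                  rw [hab _ (hNc u u.2 c hc) _ (inv_mem (pow_mem hc i)), mul_smul, inv_smul_eq_iff,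
                    hi c hc]
                rw [hbig, Subgroup.mem_bot] at hm
                exact congrArg Subtype.val hm
              · obtain ⟨S3, hS3⟩ : ∃ S : β, S ∉ ({π ⟨a, ha⟩, π ⟨b, hb⟩} : Finset β) := by
                  by_contra h
                  push Not at h
                  have h5 := Finset.card_le_card (show (Finset.univ : Finset β) ⊆ _ from fun S _ => h S)
                  rw [Finset.card_univ, hβ] at h5
                  have := h5.trans Finset.card_le_two
                  omega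
                obtain ⟨⟨e, he⟩, rfl⟩ := hπ S3
                simp only [Finset.mem_insert, Finset.mem_singleton, not_or] at hS3
                have hcover : ∀ f (hf : f ∉ Set.range x), π ⟨f, hf⟩ = π ⟨a, ha⟩ ∨
                    π ⟨f, hf⟩ = π ⟨b, hb⟩ ∨ π ⟨f, hf⟩ = π ⟨e, he⟩ := by
                  intro f hf
                  by_contra h
                  push Not at h
                  have h5 := Finset.card_le_univ
                    ({π ⟨f, hf⟩, π ⟨a, ha⟩, π ⟨b, hb⟩, π ⟨e, he⟩} : Finset β)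
                  rw [hβ, Finset.card_insert_of_notMem (by simp [h.1, h.2.1, h.2.2]),
                    Finset.card_eq_three.mpr ⟨_, _, _, fun q => hab' q.symm, fun q => hS3.1 q.symm,
                      fun q => hS3.2 q.symm, rfl⟩] at h5
                  omega
                have horbfix : ∀ (f : α) (w' : G), w' ∈ Pm → w' • f = f → ∀ g ∈ orbit Pm f, w' • g = g := by
                  rintro f w' hw' hwf _ ⟨q, rfl⟩
                  show w' • (q : G) • f = (q : G) • f
                  rw [← mul_smul, hab w' hw' q q.2, mul_smul, hwf]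
                have hsupp1 : ∀ (f : α) (hf : f ∉ Set.range x) (w' : G), w' ∈ Pm →
                    (∀ S : β, S ≠ π ⟨f, hf⟩ → ∀ g ∈ S.1, w' • g = g) → w' = 1 := by
                  intro f hf w' hw' hfx
                  by_contra hw1
                  refine hgenp w' hw1 (hexp w' hw') (orbit Pm f).toFinset (fun g hg => ?_)
                    (by rw [← Set.ncard_eq_toFinset_card', ← Nat.card_coe_set_eq, horb f hf])
                  rw [Set.mem_toFinset] at hg
                  by_cases hgx : g ∈ Set.range x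
                  · exact (hfixiff g).mp hgx w' hw'
                  · exact hfx (π ⟨g, hgx⟩) (fun q => hg (hπeq g f hgx hf q)) g (mem_orbit_self g)
                have hne : stabilizer Pm e ≠ ⊥ := fun h => hbig (by
                  have h1 := (stabilizer Pm e).card_mul_index
                  have h2 := (stabilizer Pm a).card_mul_index
                  rw [(hindex e he).1, h, Subgroup.card_bot, one_mul] at h1
                  rw [(hindex a ha).1, ← h1] at h2
                  exact Subgroup.card_eq_one.mp (Nat.eq_of_mul_eq_mul_right hp.pos (h2.trans (one_mul p).symm)))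
                obtain ⟨⟨c, hce⟩, hc1⟩ := (Subgroup.ne_bot_iff_exists_ne_one).mp hne
                rw [mem_stabilizer_iff] at hce
                have hce' : (c : G) • e = e := hce
                have hmem : ∀ (f : α) (hf : f ∉ Set.range x) (S : β), S = π ⟨f, hf⟩ → ∀ g ∈ S.1,
                    g ∈ orbit Pm f := fun f hf S q g hg => by rw [q] at hg; exact hg
                have hca : (c : G) • a ≠ a := fun h => hc1 (Subtype.ext (Subtype.ext
                  (hsupp1 b hb c c.2 fun S hS g hg => by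
                    obtain ⟨⟨f, hf⟩, rfl⟩ := hπ S
                    rcases hcover f hf with q | q | q
                    · exact horbfix a c c.2 h g (hmem a ha _ q g hg)
                    · exact absurd q hS
                    · exact horbfix e c c.2 hce' g (hmem e he _ q g hg))))
                have hcb : (c : G) • b ≠ b := fun h => hc1 (Subtype.ext (Subtype.ext
                  (hsupp1 a ha c c.2 fun S hS g hg => by
                    obtain ⟨⟨f, hf⟩, rfl⟩ := hπ S
                    rcases hcover f hf with q | q | q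
                    · exact absurd q hS
                    · exact horbfix b c c.2 h g (hmem b hb _ q g hg)
                    · exact horbfix e c c.2 hce' g (hmem e he _ q g hg))))
                refine ⟨c, c.2, hcb, hsupp1 b hb _
                  (mul_mem (hNc u u.2 c c.2) (inv_mem (pow_mem c.2 i))) fun S hS g hg => ?_⟩
                obtain ⟨⟨f, hf⟩, rfl⟩ := hπ S
                rcases hcover f hf with q | q | q
                · refine horbfix a _ (mul_mem (hNc u u.2 c c.2) (inv_mem (pow_mem c.2 i))) ?_ g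
                    (hmem a ha _ q g hg)
                  rw [hab _ (hNc u u.2 c c.2) _ (inv_mem (pow_mem c.2 i)), mul_smul, inv_smul_eq_iff,
                    hi c c.2]
                · exact absurd q hS
                · refine horbfix e _ (mul_mem (hNc u u.2 c c.2) (inv_mem (pow_mem c.2 i))) ?_ g
                    (hmem e he _ q g hg)
                  obtain ⟨k', hk'⟩ := hscal u hu e he
                  have e1 : ∀ m : ℕ, (c : G) ^ m • e = e := fun m => by
                    induction m with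
                    | zero => simp
                    | succ m ih => rw [pow_succ, mul_smul, hce', ih]
                  rw [mul_smul, inv_smul_eq_iff.mpr (e1 i).symm, hk' c c.2, e1 k']
            rw [mul_inv_eq_one] at hcd
            have hij : c ^ j • b = c ^ i • b := by rw [← hj c hc, hcd]
            obtain ⟨m, hm⟩ := hgenorb b hb c hc hcb (w • b) ⟨⟨w, hw⟩, rfl⟩
            rw [hj w hw, ← hpowloc b _ (pow_mem hc m) w hw hm j, ← hpowloc b _ (pow_mem hc m) w hw hm i,
              ← pow_mul, ← pow_mul, mul_comm m j, mul_comm m i, pow_mul, pow_mul,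
              hpowloc b _ (pow_mem hc j) _ (pow_mem hc i) hij m]
        choose χ0 hχ0 using hscalglob
        -- the image in the units
        obtain ⟨a0, ha0⟩ := hexa
        obtain ⟨w1, hw1, hw1a⟩ : ∃ w ∈ Pm, w • a0 ≠ a0 := by
          by_contra h
          push Not at h
          exact ha0 ((hfixiff a0).mpr h)
        have hw1ord : orderOf w1 = p := orderOf_eq_prime (hexp w1 hw1) fun h => hw1a (by rw [h, one_smul])
        have hmodw : ∀ i j : ℕ, w1 ^ i = w1 ^ j → (i : ZMod p) = (j : ZMod p) := fun i j h => by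
          rw [pow_eq_pow_iff_modEq, hw1ord] at h
          exact (ZMod.natCast_eq_natCast_iff _ _ _).mpr h
        have hwmod : ∀ i j : ℕ, (i : ZMod p) = (j : ZMod p) → ∀ w ∈ Pm, w ^ i = w ^ j := fun i j h w hw => by
          rw [ZMod.natCast_eq_natCast_iff] at h
          exact pow_eq_pow_iff_modEq.mpr (h.of_dvd (orderOf_dvd_of_pow_eq_one (hexp w hw)))
        let χ : θ.ker →* ZMod p :=
          { toFun := fun u => (χ0 u u.2 : ZMod p)
            map_one' := by
              rw [← Nat.cast_one]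
              refine hmodw _ _ ?_
              rw [← hχ0 _ (1 : θ.ker).2 w1 hw1]; simp
            map_mul' := fun u v => by
              rw [← Nat.cast_mul]
              refine hmodw _ _ ?_
              rw [← hχ0 _ (u * v).2 w1 hw1, mul_comm (χ0 u u.2), pow_mul,
                ← hχ0 u u.2 _ (pow_mem hw1 _), ← hχ0 v v.2 w1 hw1]
              simp only [Subgroup.coe_mul]
              group }
        let χu : θ.ker →* (ZMod p)ˣ := χ.toHomUnits
        have hρχ : ∀ u : θ.ker, χu u = 1 → ρ (u : N) = 1 := by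
          intro u hu
          have h1 : ((χ0 u u.2 : ℕ) : ZMod p) = ((1 : ℕ) : ZMod p) := by
            rw [Nat.cast_one]
            exact congrArg Units.val hu
          have hcu : ∀ w ∈ Pm, ((u : N) : G) * w = w * ((u : N) : G) := fun w hw =>
            mul_inv_eq_iff_eq_mul.mp (by rw [hχ0 u u.2 w hw, hwmod _ _ h1 w hw, pow_one])
          have h12 := four_no_cyclic (ρ (u : N))
          have hpp := hρC0 _ u.2 hcu
          refine orderOf_eq_one_iff.mp (Nat.eq_one_of_dvd_coprimes (?_ : Nat.Coprime 12 p)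
            (orderOf_dvd_of_pow_eq_one h12) (orderOf_dvd_of_pow_eq_one hpp))
          rw [Nat.coprime_comm, hp.coprime_iff_not_dvd]
          intro hd
          rcases (Nat.Prime.dvd_mul hp).mp (show p ∣ 4 * 3 from hd) with h | h
          · have h2 := (Nat.prime_dvd_prime_iff_eq hp Nat.prime_two).mp
              ((Nat.Prime.dvd_mul hp).mp (show p ∣ 2 * 2 from h) |>.elim id id)
            omega
          · have h2 := (Nat.prime_dvd_prime_iff_eq hp Nat.prime_three).mp h
            omega
        haveI : IsCyclic χu.range := inferInstance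
        obtain ⟨⟨_, g, rfl⟩, hg⟩ := IsCyclic.exists_generator (α := χu.range)
        obtain ⟨z₁, z₂, ⟨s₁, hs₁⟩, ⟨s₂, hs₂⟩, hno⟩ := four_klein
        have hpow : ∀ s : Equiv.Perm (Fin 4), ∃ a : Fin 12, (ρ (g : N)) ^ (a : ℕ) = s ^ 6 := by
          intro s
          obtain ⟨u, rfl⟩ := hρsurj s
          have hu : u ^ 6 ∈ θ.ker := by simpa [Nat.factorial] using hθpow u
          obtain ⟨n, hn'⟩ := hg ⟨χu ⟨_, hu⟩, ⟨_, rfl⟩⟩
          have h1 : χu ((g ^ n)⁻¹ * ⟨_, hu⟩) = 1 := by
            rw [map_mul, map_inv, map_zpow, inv_mul_eq_one]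
            exact congrArg Subtype.val hn'
          have h2 := hρχ _ h1
          rw [Subgroup.coe_mul, map_mul, Subgroup.coe_inv, map_inv, inv_mul_eq_one, SubgroupClass.coe_zpow,
            map_zpow] at h2
          have h12 := four_no_cyclic (ρ (g : N))
          obtain ⟨m, hm⟩ : ∃ m : ℕ, (ρ (g : N)) ^ n = (ρ (g : N)) ^ m :=
            ⟨(n % 12).toNat, by
              rw [zpow_eq_zpow_emod' n h12, ← zpow_natCast, Int.toNat_of_nonneg (Int.emod_nonneg _ (by norm_num))]
              rfl⟩
          refine ⟨⟨m % 12, Nat.mod_lt _ (by norm_num)⟩, ?_⟩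
          show (ρ (g : N)) ^ (m % 12) = _
          rw [← pow_eq_pow_mod m h12, ← hm, h2, map_pow]
        exact hno (ρ (g : N)) ⟨hs₁ ▸ hpow s₁, hs₂ ▸ hpow s₂⟩
  · -- at least five fixed points
    set R := θ.ker.map ρ with hR
    haveI : R.Normal := Subgroup.Normal.map inferInstance ρ hρsurj
    have hRne : R ≠ ⊥ := by
      intro h
      rw [hR, Subgroup.map_eq_bot_iff] at h
      have h1 := Subgroup.index_dvd_of_le h
      rw [Subgroup.index_ker, Subgroup.index_ker, MonoidHom.range_eq_top.mpr hρsurj,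
        Subgroup.card_top, Nat.card_perm, Nat.card_fin] at h1
      have h2 : Nat.card θ.range ∣ k.factorial := hθcard ▸ Subgroup.card_subgroup_dvd_card θ.range
      have h3 := Nat.le_of_dvd (Nat.factorial_pos k) (h1.trans h2)
      have h4 := (Nat.factorial_lt hk).mpr hrk
      omega
    have hA := Equiv.Perm.alternatingGroup_le_of_normal (N := R) (by rw [Nat.card_fin]; exact hr5)
      ((Subgroup.nontrivial_iff_ne_bot R).mpr hRne)
    let ι : Equiv.Perm (Fin 5) →* Equiv.Perm (Fin r) := Equiv.Perm.viaEmbeddingHom (Fin.castLEEmb hr5)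
    obtain ⟨s, t, s', t', hne⟩ := five_witness
    have key : ∀ s t : Equiv.Perm (Fin 5), ∃ c : N, c ∈ θ.ker ∧ (∀ w ∈ Pm, (c : G) * w = w * c) ∧
        ρ c = ι ((t ^ 2 * s ^ 2)⁻¹ * (s ^ 2 * t ^ 2)) := by
      intro s t
      have hmem : ∀ z : Equiv.Perm (Fin r), z ^ 2 ∈ R := fun z => hA (by
        rw [Equiv.Perm.mem_alternatingGroup, map_pow, Int.units_sq])
      obtain ⟨u, hu, hu'⟩ := hmem (ι s)
      obtain ⟨v, hv, hv'⟩ := hmem (ι t)
      obtain ⟨h1, h2⟩ := hcommker u v hu hv
      exact ⟨_, h1, h2, by simp only [map_mul, map_inv, map_pow, hu', hv']⟩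
    obtain ⟨c, hc, hcc, hρc⟩ := key s t
    obtain ⟨d, hd, hdc, hρd⟩ := key s' t'
    refine hne (Equiv.Perm.viaEmbeddingHom_injective (Fin.castLEEmb hr5) ?_)
    show ι _ = ι _
    rw [map_mul ι, map_mul ι _ ((t ^ 2 * s ^ 2)⁻¹ * (s ^ 2 * t ^ 2)), ← hρc, ← hρd, ← map_mul,
      ← map_mul, hC0comm c d hc hcc hd hdc]

end Cfsg.Agent.S4220
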