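import Mathlib
import Cfsg.Prelude

/-!
S4221 (M. Hall): a 4-transitive group with an odd four-point stabiliser.

All involutions are conjugate and fix `f ∈ {2, 3}` points. Two kinds of commuting pairs over a
quadruple (a regular four-group, or a transposition pair) are counted, once over quadruples and
once over pairs; the order formula for a four-group acting on a group of odd order relates them to
the numbers of involutions over a quadruple, and this gives `n ≤ 7` or `n = 11`.
-/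

set_option linter.unusedSectionVars false
set_option linter.unusedVariables false

namespace Cfsg.Agent.S4221

open Equiv Finset

section Aux

variable {α : Type*} [Fintype α] [DecidableEq α]

lemma inv_apply {u : Perm α} (hu : u * u = 1) (a : α) : u (u a) = a := by
  rw [← Perm.mul_apply, hu, Perm.one_apply]

lemma inv_eq_self {u : Perm α} (hu : u * u = 1) : u⁻¹ = u := inv_eq_of_mul_eq_one_left hu

lemma even_card_of_fpf {u : Perm α} (hu : u * u = 1) (s : Finset α) (hs : ∀ a ∈ s, u a ∈ s)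
    (hne : ∀ a ∈ s, u a ≠ a) : Even s.card := by
  have h : ∑ a ∈ s, (1 : ZMod 2) = 0 :=
    Finset.sum_involution (fun a _ => u a) (fun a _ => by decide) (fun a ha _ => hne a ha) hs
      (fun a _ => inv_apply hu a)
  have h2 : ((s.card : ℕ) : ZMod 2) = 0 := by simpa using h
  exact ZMod.natCast_eq_zero_iff_even.mp h2

lemma exists_half {x : Perm α} (hx : Odd (orderOf x)) : ∃ j : ℕ, (x ^ j) * (x ^ j) = x := by
  obtain ⟨m, hm⟩ := hx
  refine ⟨m + 1, ?_⟩
  rw [← pow_add, show m + 1 + (m + 1) = orderOf x + 1 by omega, pow_succ, pow_orderOf_eq_one,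
    one_mul]

lemma eq_of_sq_eq {x y : Perm α} (hx : Odd (orderOf x)) (hy : Odd (orderOf y))
    (h : x * x = y * y) : x = y := by
  obtain ⟨m, hm⟩ := hx.mul hy
  have e : ∀ z : Perm α, z ^ (orderOf x * orderOf y) = 1 → z = (z * z) ^ (m + 1) := by
    intro z hz
    rw [← pow_two, ← pow_mul, show 2 * (m + 1) = orderOf x * orderOf y + 1 by omega, pow_succ, hz,
      one_mul]
  rw [e x (by rw [pow_mul, pow_orderOf_eq_one, one_pow]),
    e y (by rw [mul_comm, pow_mul, pow_orderOf_eq_one, one_pow]), h]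

lemma conj_pow' {u : Perm α} (hu : u * u = 1) (x : Perm α) (j : ℕ) :
    u * x ^ j * u = (u * x * u) ^ j := by
  induction j with
  | zero => simp [hu]
  | succ j ih =>
      rw [pow_succ, pow_succ, ← ih]
      calc u * (x ^ j * x) * u = u * x ^ j * (u * u) * x * u := by
            rw [hu, mul_one]; group
        _ = _ := by group

/-- points fixed by `u`. -/
def fixF (u : Perm α) : Finset α := univ.filter fun a => u a = a

def movF (u : Perm α) : Finset α := univ.filter fun a => u a ≠ a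

lemma mem_fixF {u : Perm α} {a : α} : a ∈ fixF u ↔ u a = a := by simp [fixF]

lemma mem_movF {u : Perm α} {a : α} : a ∈ movF u ↔ u a ≠ a := by simp [movF]

lemma card_fix_add_mov (u : Perm α) : (fixF u).card + (movF u).card = Fintype.card α := by
  rw [← Finset.card_univ]
  exact Finset.card_filter_add_card_filter_not _

lemma movF_even {u : Perm α} (hu : u * u = 1) : Even (movF u).card := by
  refine even_card_of_fpf hu _ ?_ (fun a ha => mem_movF.mp ha)
  intro a ha
  rw [mem_movF] at ha ⊢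
  rw [inv_apply hu]
  exact fun h => ha h.symm

/-- fixed by `z`, moved by `u`. -/
def onlyF (z u : Perm α) : Finset α := univ.filter fun a => z a = a ∧ u a ≠ a

def regF (z u : Perm α) : Finset α := univ.filter fun a => z a ≠ a ∧ u a ≠ a ∧ z a ≠ u a

def agreeF (z u : Perm α) : Finset α := univ.filter fun a => z a = u a ∧ z a ≠ a

lemma mem_onlyF {z u : Perm α} {a : α} : a ∈ onlyF z u ↔ z a = a ∧ u a ≠ a := by simp [onlyF]

lemma mem_regF {z u : Perm α} {a : α} :
    a ∈ regF z u ↔ z a ≠ a ∧ u a ≠ a ∧ z a ≠ u a := by simp [regF]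

lemma mem_agreeF {z u : Perm α} {a : α} : a ∈ agreeF z u ↔ z a = u a ∧ z a ≠ a := by
  simp [agreeF]

lemma card_onlyF_conj (g z u : Perm α) :
    (onlyF (g * z * g⁻¹) (g * u * g⁻¹)).card = (onlyF z u).card := by
  refine Finset.card_nbij' (fun a => g⁻¹ a) (fun a => g a) ?_ ?_ ?_ ?_
  · intro a ha
    replace ha := mem_onlyF.mp ha
    refine mem_onlyF.mpr ?_
    simp only [Perm.mul_apply] at ha ⊢
    refine ⟨?_, ?_⟩
    · apply g.injective; simpa using ha.1
    · intro h; apply ha.2; rw [h]; simp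
  · intro a ha
    replace ha := mem_onlyF.mp ha
    refine mem_onlyF.mpr ?_
    simp only [Perm.mul_apply] at ha ⊢
    simpa using ha
  · intro a _; simp
  · intro a _; simp

lemma card_fixF_conj (g u : Perm α) : (fixF (g * u * g⁻¹)).card = (fixF u).card := by
  refine Finset.card_nbij' (fun a => g⁻¹ a) (fun a => g a) ?_ ?_ ?_ ?_
  · intro a ha
    replace ha := mem_fixF.mp ha
    refine mem_fixF.mpr ?_
    simp only [Perm.mul_apply] at ha ⊢
    apply g.injective; simpa using ha
  · intro a ha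
    replace ha := mem_fixF.mp ha
    refine mem_fixF.mpr ?_
    simp only [Perm.mul_apply] at ha ⊢
    simpa using ha
  · intro a _; simp
  · intro a _; simp

lemma conj_mul_self {g u : Perm α} (hu : u * u = 1) : g * u * g⁻¹ * (g * u * g⁻¹) = 1 := by
  calc g * u * g⁻¹ * (g * u * g⁻¹) = g * (u * u) * g⁻¹ := by group
    _ = 1 := by rw [hu]; group

lemma conj_commute {g u v : Perm α} (h : Commute u v) :
    Commute (g * u * g⁻¹) (g * v * g⁻¹) := by
  show g * u * g⁻¹ * (g * v * g⁻¹) = g * v * g⁻¹ * (g * u * g⁻¹)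
  calc g * u * g⁻¹ * (g * v * g⁻¹) = g * (u * v) * g⁻¹ := by group
    _ = g * (v * u) * g⁻¹ := by rw [h.eq]
    _ = _ := by group

end Aux

/-- patterns on a quadruple. -/
def pA : Fin 4 → Fin 4 := ![1, 0, 3, 2]
def pB : Fin 4 → Fin 4 := ![2, 3, 0, 1]
def pC : Fin 4 → Fin 4 := ![3, 2, 1, 0]
def pT : Fin 4 → Fin 4 := ![1, 0, 2, 3]
def pU : Fin 4 → Fin 4 := ![0, 1, 3, 2]

section Main

open scoped Classical

variable {α : Type*} [Fintype α] [DecidableEq α] (G : Subgroup (Perm α))

def Fixq (q : Fin 4 ↪ α) (g : Perm α) : Prop := g ∈ G ∧ ∀ i, g (q i) = q i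

variable {G}

lemma Fixq.mul {q : Fin 4 ↪ α} {g h : Perm α} (hg : Fixq G q g) (hh : Fixq G q h) :
    Fixq G q (g * h) :=
  ⟨mul_mem hg.1 hh.1, fun i => by rw [Perm.mul_apply, hh.2, hg.2]⟩

lemma Fixq.inv {q : Fin 4 ↪ α} {g : Perm α} (hg : Fixq G q g) : Fixq G q g⁻¹ :=
  ⟨inv_mem hg.1, fun i => g.injective (by rw [hg.2]; simp)⟩

lemma Fixq.one {q : Fin 4 ↪ α} : Fixq G q 1 := ⟨one_mem G, fun _ => rfl⟩

lemma Fixq.pow {q : Fin 4 ↪ α} {g : Perm α} (hg : Fixq G q g) (j : ℕ) : Fixq G q (g ^ j) := by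
  induction j with
  | zero => rw [pow_zero]; exact Fixq.one
  | succ j ih => rw [pow_succ]; exact ih.mul hg

variable (G)

noncomputable def Hq (q : Fin 4 ↪ α) : Finset (Perm α) := univ.filter (Fixq G q)

/-- involutions of `G` with pattern `σ` on `q`. -/
noncomputable def S (σ : Fin 4 → Fin 4) (q : Fin 4 ↪ α) : Finset (Perm α) :=
  univ.filter fun u => u ∈ G ∧ u * u = 1 ∧ ∀ i, u (q i) = q (σ i)

noncomputable def P (σ τ : Fin 4 → Fin 4) (q : Fin 4 ↪ α) : Finset (Perm α × Perm α) :=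
  univ.filter fun p => p.1 ∈ S G σ q ∧ p.2 ∈ S G τ q ∧ Commute p.1 p.2

noncomputable def Inv : Finset (Perm α) := univ.filter fun u => u ∈ G ∧ u * u = 1 ∧ u ≠ 1

noncomputable def Cp : Finset (Perm α × Perm α) :=
  univ.filter fun p => p.1 ∈ Inv G ∧ p.2 ∈ Inv G ∧ Commute p.1 p.2 ∧ p.1 ≠ p.2

variable {G}

lemma mem_S {σ : Fin 4 → Fin 4} {q : Fin 4 ↪ α} {u : Perm α} :
    u ∈ S G σ q ↔ u ∈ G ∧ u * u = 1 ∧ ∀ i, u (q i) = q (σ i) := by simp [S]

lemma mem_P {σ τ : Fin 4 → Fin 4} {q : Fin 4 ↪ α} {p : Perm α × Perm α} :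
    p ∈ P G σ τ q ↔ p.1 ∈ S G σ q ∧ p.2 ∈ S G τ q ∧ Commute p.1 p.2 := by simp [P]

lemma mem_Inv {u : Perm α} : u ∈ Inv G ↔ u ∈ G ∧ u * u = 1 ∧ u ≠ 1 := by simp [Inv]

lemma mem_Cp {p : Perm α × Perm α} :
    p ∈ Cp G ↔ p.1 ∈ Inv G ∧ p.2 ∈ Inv G ∧ Commute p.1 p.2 ∧ p.1 ≠ p.2 := by simp [Cp]

lemma mem_Hq {q : Fin 4 ↪ α} {g : Perm α} : g ∈ Hq G q ↔ Fixq G q g := by simp [Hq]

lemma S_ne_one {σ : Fin 4 → Fin 4} (hσ : ∃ i, σ i ≠ i) {q : Fin 4 ↪ α} {u : Perm α}
    (hu : u ∈ S G σ q) : u ≠ 1 := by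
  rintro rfl
  obtain ⟨i, hi⟩ := hσ
  exact hi (q.injective ((mem_S.mp hu).2.2 i)).symm

lemma S_sigma_invol {σ : Fin 4 → Fin 4} {q : Fin 4 ↪ α} {u : Perm α}
    (hu : u ∈ S G σ q) (i : Fin 4) : σ (σ i) = i := by
  obtain ⟨-, h2, h3⟩ := mem_S.mp hu
  apply q.injective
  rw [← h3, ← h3, inv_apply h2]

lemma S_conj {σ : Fin 4 → Fin 4} {q : Fin 4 ↪ α} {g u : Perm α} (hg : g ∈ G)
    (hu : u ∈ S G σ q) : g * u * g⁻¹ ∈ S G σ (q.trans g.toEmbedding) := by
  obtain ⟨h1, h2, h3⟩ := mem_S.mp hu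
  refine mem_S.mpr ⟨mul_mem (mul_mem hg h1) (inv_mem hg), conj_mul_self h2, fun i => ?_⟩
  simp [Perm.mul_apply, h3]

lemma trans_fix {q : Fin 4 ↪ α} {k : Perm α} (hk : Fixq G q k) : q.trans k.toEmbedding = q := by
  ext i; exact hk.2 i

lemma S_relabel {σ σ' : Fin 4 → Fin 4} (π : Fin 4 ↪ Fin 4) (hπ : ∀ i, σ' (π i) = π (σ i))
    (q : Fin 4 ↪ α) : S G σ (π.trans q) = S G σ' q := by
  have hsurj : Function.Surjective π := Finite.injective_iff_surjective.mp π.injective
  ext u
  simp only [mem_S, Function.Embedding.trans_apply]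
  refine and_congr_right fun _ => and_congr_right fun _ => ⟨fun h j => ?_, fun h i => ?_⟩
  · obtain ⟨i, rfl⟩ := hsurj j
    rw [h i, hπ]
  · rw [h, hπ]

lemma P_relabel {σ σ' τ τ' : Fin 4 → Fin 4} (π : Fin 4 ↪ Fin 4)
    (h1 : ∀ i, σ' (π i) = π (σ i)) (h2 : ∀ i, τ' (π i) = π (τ i))
    (q : Fin 4 ↪ α) : P G σ τ (π.trans q) = P G σ' τ' q := by
  ext p
  simp only [mem_P, S_relabel π h1 q, S_relabel π h2 q]

variable (hG : ∀ q q' : Fin 4 ↪ α, ∃ g ∈ G, q.trans g.toEmbedding = q')
variable (hH : ∀ (q : Fin 4 ↪ α) (g : Perm α), Fixq G q g → Odd (orderOf g))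

include hG in
lemma card_S_eq (σ : Fin 4 → Fin 4) (q q' : Fin 4 ↪ α) :
    (S G σ q).card = (S G σ q').card := by
  suffices H : ∀ a b : Fin 4 ↪ α, (S G σ a).card ≤ (S G σ b).card from le_antisymm (H _ _) (H _ _)
  intro a b
  obtain ⟨g, hg, hab⟩ := hG a b
  refine Finset.card_le_card_of_injOn (fun u => g * u * g⁻¹) ?_ ?_
  · intro u hu
    have := S_conj hg (Finset.mem_coe.mp hu)
    rwa [hab] at this
  · intro u _ v _ h
    simpa using h

include hG in
lemma card_P_eq (σ τ : Fin 4 → Fin 4) (q q' : Fin 4 ↪ α) :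
    (P G σ τ q).card = (P G σ τ q').card := by
  suffices H : ∀ a b : Fin 4 ↪ α, (P G σ τ a).card ≤ (P G σ τ b).card from
    le_antisymm (H _ _) (H _ _)
  intro a b
  obtain ⟨g, hg, hab⟩ := hG a b
  refine Finset.card_le_card_of_injOn (fun p => (g * p.1 * g⁻¹, g * p.2 * g⁻¹)) ?_ ?_
  · intro p hp
    obtain ⟨h1, h2, h3⟩ := mem_P.mp (Finset.mem_coe.mp hp)
    refine Finset.mem_coe.mpr (mem_P.mpr ⟨?_, ?_, conj_commute h3⟩)
    · have := S_conj hg h1; rwa [hab] at this
    · have := S_conj hg h2; rwa [hab] at this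
  · intro u _ v _ h
    simp only [Prod.mk.injEq, mul_left_inj, mul_right_inj] at h
    exact Prod.ext h.1 h.2

include hH in
/-- involutions with the same pattern are conjugate in the four-point stabiliser. -/
lemma conj_S {σ : Fin 4 → Fin 4} {q : Fin 4 ↪ α} {u v : Perm α}
    (hu : u ∈ S G σ q) (hv : v ∈ S G σ q) :
    ∃ k, Fixq G q k ∧ k * u * k⁻¹ = v ∧ ∀ z, Commute z u → Commute z v → Commute z k := by
  obtain ⟨hu1, hu2, hu3⟩ := mem_S.mp hu
  obtain ⟨hv1, hv2, hv3⟩ := mem_S.mp hv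
  have hw : Fixq G q (u * v) := ⟨mul_mem hu1 hv1, fun i => by
    rw [Perm.mul_apply, hv3, hu3, S_sigma_invol hu]⟩
  obtain ⟨j, hj⟩ := exists_half (hH q _ hw)
  set w := u * v with hwd
  set k := w ^ j with hk
  have huw : u * w * u = w⁻¹ := by
    rw [hwd, mul_inv_rev, inv_eq_self hu2, inv_eq_self hv2, ← mul_assoc u u v, hu2, one_mul]
  have huk : u * k * u = k⁻¹ := by rw [hk, conj_pow' hu2, huw, inv_pow]
  refine ⟨k⁻¹, (hw.pow j).inv, ?_, fun z hzu hzv => ((hzu.mul_right hzv).pow_right j).inv_right⟩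
  calc k⁻¹ * u * k⁻¹⁻¹ = k⁻¹ * (u * k * u) * u⁻¹ := by group
    _ = (k * k)⁻¹ * u⁻¹ := by rw [huk]; group
    _ = v⁻¹ * (u⁻¹ * u⁻¹) := by rw [hj, hwd]; group
    _ = v := by rw [inv_eq_self hu2, hu2, inv_eq_self hv2, mul_one]

include hH in
lemma exists_invol_of_pattern {σ : Fin 4 → Fin 4} {q : Fin 4 ↪ α} {g : Perm α} (hg : g ∈ G)
    (hgq : ∀ i, g (q i) = q (σ i)) (hσ : ∀ i, σ (σ i) = i) :
    ∃ u ∈ S G σ q, ∀ z, Commute z g → Commute z u := by
  have hgg : Fixq G q (g * g) := ⟨mul_mem hg hg, fun i => by rw [Perm.mul_apply, hgq, hgq, hσ]⟩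
  obtain ⟨m, hm⟩ := hH q _ hgg
  refine ⟨g ^ orderOf (g * g), mem_S.mpr ⟨pow_mem hg _, ?_, fun i => ?_⟩,
    fun z hz => hz.pow_right _⟩
  · rw [← (Commute.refl g).mul_pow, pow_orderOf_eq_one]
  · rw [hm, pow_succ, pow_mul, pow_two, Perm.mul_apply, hgq, (hgg.pow m).2]

include hG hH in
lemma exists_S {σ : Fin 4 → Fin 4} (hσ : ∀ i, σ (σ i) = i) (q : Fin 4 ↪ α) :
    (S G σ q).Nonempty := by
  obtain ⟨g, hg, hgq⟩ := hG q ((⟨σ, Function.Involutive.injective hσ⟩ : Fin 4 ↪ Fin 4).trans q)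
  obtain ⟨u, hu, -⟩ := exists_invol_of_pattern hH hg (fun i => DFunLike.congr_fun hgq i) hσ
  exact ⟨u, hu⟩

include hG hH in
lemma exists_P {σ τ : Fin 4 → Fin 4} (hσ : ∀ i, σ (σ i) = i) (hτ : ∀ i, τ (τ i) = i)
    (hc : ∀ i, τ (σ (τ i)) = σ i) (q : Fin 4 ↪ α) : (P G σ τ q).Nonempty := by
  obtain ⟨z, hz⟩ := exists_S hG hH hσ q
  obtain ⟨v, hv⟩ := exists_S hG hH hτ q
  obtain ⟨hz1, hz2, hz3⟩ := mem_S.mp hz
  obtain ⟨hv1, hv2, hv3⟩ := mem_S.mp hv
  have hz' : v * z * v⁻¹ ∈ S G σ q := by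
    refine mem_S.mpr ⟨mul_mem (mul_mem hv1 hz1) (inv_mem hv1), conj_mul_self hz2, fun i => ?_⟩
    rw [inv_eq_self hv2, Perm.mul_apply, Perm.mul_apply, hv3, hz3, hv3, hc]
  obtain ⟨k, hk, hkz, -⟩ := conj_S hH hz' hz
  have hcg : Commute z (k * v) := by
    show z * (k * v) = k * v * z
    conv_lhs => rw [← hkz]
    group
  obtain ⟨t, ht, hzt⟩ := exists_invol_of_pattern hH (mul_mem hk.1 hv1) (σ := τ) (q := q)
    (fun i => by rw [Perm.mul_apply, hv3, hk.2]) hτ
  exact ⟨(z, t), mem_P.mpr ⟨hz, ht, hzt z hcg⟩⟩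

include hG hH in
/-- all pairs with a given pattern are conjugate to each other. -/
lemma conj_P {σ τ : Fin 4 → Fin 4} {q q' : Fin 4 ↪ α} {z u z' u' : Perm α}
    (hp : (z, u) ∈ P G σ τ q) (hp' : (z', u') ∈ P G σ τ q') :
    ∃ g ∈ G, g * z * g⁻¹ = z' ∧ g * u * g⁻¹ = u' := by
  obtain ⟨g, hg, hgq⟩ := hG q q'
  obtain ⟨h1, h2, h3⟩ := mem_P.mp hp
  obtain ⟨h1', h2', h3'⟩ := mem_P.mp hp'
  dsimp only at h1 h2 h3 h1' h2' h3'
  have e1 := S_conj hg h1
  have e2 := S_conj hg h2
  rw [hgq] at e1 e2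
  obtain ⟨k1, hk1, hk1z, -⟩ := conj_S hH e1 h1'
  have e3 := S_conj hk1.1 e2
  rw [trans_fix hk1] at e3
  have hc : Commute z' (k1 * (g * u * g⁻¹) * k1⁻¹) := by
    rw [← hk1z]; exact conj_commute (conj_commute h3)
  obtain ⟨k2, hk2, hk2u, hk2c⟩ := conj_S hH e3 h2'
  have hcz : Commute z' k2 := hk2c z' hc h3'
  refine ⟨k2 * k1 * g, mul_mem (mul_mem hk2.1 hk1.1) hg, ?_, ?_⟩
  · calc k2 * k1 * g * z * (k2 * k1 * g)⁻¹ = k2 * (k1 * (g * z * g⁻¹) * k1⁻¹) * k2⁻¹ := by group
      _ = k2 * z' * k2⁻¹ := by rw [hk1z]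
      _ = z' * k2 * k2⁻¹ := by rw [hcz.eq]
      _ = z' := by group
  · calc k2 * k1 * g * u * (k2 * k1 * g)⁻¹ = k2 * (k1 * (g * u * g⁻¹) * k1⁻¹) * k2⁻¹ := by group
      _ = u' := hk2u

include hH in
/-- pairs = (second entries) × (first entries commuting with one of them). -/
lemma card_P_fiber {σ τ : Fin 4 → Fin 4} {q : Fin 4 ↪ α} {t : Perm α} (ht : t ∈ S G τ q) :
    (P G σ τ q).card = (S G τ q).card * ((S G σ q).filter fun u => Commute u t).card := by
  have hmaps : ∀ p ∈ P G σ τ q, p.2 ∈ S G τ q := fun p hp => (mem_P.mp hp).2.1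
  rw [Finset.card_eq_sum_card_fiberwise hmaps, ← smul_eq_mul, ← Finset.sum_const]
  refine Finset.sum_congr rfl fun t' ht' => ?_
  obtain ⟨k, hk, hkt, -⟩ := conj_S hH ht' ht
  have hki : k⁻¹ * t * k⁻¹⁻¹ = t' := by rw [← hkt]; group
  refine Finset.card_nbij' (fun p => k * p.1 * k⁻¹) (fun u => (k⁻¹ * u * k⁻¹⁻¹, t')) ?_ ?_ ?_ ?_
  · intro p hp
    simp only [coe_filter, Set.mem_setOf_eq, mem_P] at hp ⊢
    obtain ⟨⟨h1, h2, h3⟩, rfl⟩ := hp
    refine ⟨?_, hkt ▸ conj_commute h3⟩
    have := S_conj hk.1 h1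
    rwa [trans_fix hk] at this
  · intro u hu
    simp only [coe_filter, Set.mem_setOf_eq, mem_P] at hu ⊢
    refine ⟨⟨?_, ht', hki ▸ conj_commute hu.2⟩, trivial⟩
    have := S_conj hk.inv.1 hu.1
    rwa [trans_fix hk.inv] at this
  · intro p hp
    simp only [coe_filter, Set.mem_setOf_eq] at hp
    refine Prod.ext ?_ hp.2.symm
    show k⁻¹ * (k * p.1 * k⁻¹) * k⁻¹⁻¹ = p.1
    group
  · intro u _
    show k * (k⁻¹ * u * k⁻¹⁻¹) * k⁻¹ = u
    group

/-- elements of the stabiliser inverted by `z`. -/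
noncomputable def IA (G : Subgroup (Perm α)) (z : Perm α) (q : Fin 4 ↪ α) : Finset (Perm α) :=
  univ.filter fun x => Fixq G q x ∧ z * x * z = x⁻¹

lemma mem_IA {z x : Perm α} {q : Fin 4 ↪ α} :
    x ∈ IA G z q ↔ Fixq G q x ∧ z * x * z = x⁻¹ := by simp [IA]

lemma S_mul_mem_IA {σ : Fin 4 → Fin 4} {q : Fin 4 ↪ α} {z u : Perm α}
    (hz : z ∈ S G σ q) (hu : u ∈ S G σ q) : z * u ∈ IA G z q := by
  obtain ⟨hz1, hz2, hz3⟩ := mem_S.mp hz
  obtain ⟨hu1, hu2, hu3⟩ := mem_S.mp hu
  refine mem_IA.mpr ⟨⟨mul_mem hz1 hu1, fun i => ?_⟩, ?_⟩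
  · rw [Perm.mul_apply, hu3, hz3, S_sigma_invol hz]
  · rw [mul_inv_rev, inv_eq_self hz2, inv_eq_self hu2, ← mul_assoc, hz2, one_mul]

lemma mul_mem_S_of_IA {σ : Fin 4 → Fin 4} {q : Fin 4 ↪ α} {z x : Perm α}
    (hz : z ∈ S G σ q) (hx : x ∈ IA G z q) : z * x ∈ S G σ q := by
  obtain ⟨hz1, hz2, hz3⟩ := mem_S.mp hz
  obtain ⟨hx1, hx2⟩ := mem_IA.mp hx
  refine mem_S.mpr ⟨mul_mem hz1 hx1.1, ?_, fun i => ?_⟩
  · rw [← mul_assoc, hx2, inv_mul_cancel]
  · rw [Perm.mul_apply, hx1.2, hz3]

lemma card_S_eq_IA {σ : Fin 4 → Fin 4} {q : Fin 4 ↪ α} {z : Perm α}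
    (hz : z ∈ S G σ q) : (S G σ q).card = (IA G z q).card := by
  have hz2 := (mem_S.mp hz).2.1
  refine Finset.card_nbij' (fun u => z * u) (fun x => z * x)
    (fun u hu => S_mul_mem_IA hz hu) (fun x hx => mul_mem_S_of_IA hz hx) ?_ ?_
  · intro u _; show z * (z * u) = u; rw [← mul_assoc, hz2, one_mul]
  · intro u _; show z * (z * u) = u; rw [← mul_assoc, hz2, one_mul]

lemma card_S_comm_eq_IA {σ : Fin 4 → Fin 4} {q : Fin 4 ↪ α} {z a : Perm α}
    (hz : z ∈ S G σ q) (hza : Commute z a) :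
    ((S G σ q).filter fun u => Commute u a).card
      = ((IA G z q).filter fun x => Commute x a).card := by
  have hz2 := (mem_S.mp hz).2.1
  refine Finset.card_nbij' (fun u => z * u) (fun x => z * x) ?_ ?_ ?_ ?_
  · intro u hu
    simp only [coe_filter, Set.mem_setOf_eq] at hu ⊢
    exact ⟨S_mul_mem_IA hz hu.1, hza.mul_left hu.2⟩
  · intro u hu
    simp only [coe_filter, Set.mem_setOf_eq] at hu ⊢
    exact ⟨mul_mem_S_of_IA hz hu.1, hza.mul_left hu.2⟩
  · intro u _; show z * (z * u) = u; rw [← mul_assoc, hz2, one_mul]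
  · intro u _; show z * (z * u) = u; rw [← mul_assoc, hz2, one_mul]

include hH in
/-- the factorisation behind the order formula for a four-group on a group of odd order. -/
lemma card_IA_mul {σ τ : Fin 4 → Fin 4} {q : Fin 4 ↪ α} {z a : Perm α}
    (hz : z ∈ S G σ q) (ha : a ∈ S G τ q) (hza : Commute z a) :
    (IA G z q).card = ((IA G z q).filter fun x => Commute x a).card
      * ((IA G z q).filter fun x => Commute x (z * a)).card := by
  obtain ⟨hz1, hz2, hz3⟩ := mem_S.mp hz
  obtain ⟨ha1, ha2, ha3⟩ := mem_S.mp ha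
  have zz : ∀ x : Perm α, z * (z * x) = x := fun x => by rw [← mul_assoc, hz2, one_mul]
  have aa : ∀ x : Perm α, a * (a * x) = x := fun x => by rw [← mul_assoc, ha2, one_mul]
  have az : a * z = z * a := hza.eq.symm
  have cj : ∀ x y : Perm α, z * (x * y) * z = (z * x * z) * (z * y * z) := fun x y => by
    simp only [mul_assoc, zz]
  have caj : ∀ x y : Perm α, a * (x * y) * a = (a * x * a) * (a * y * a) := fun x y => by
    simp only [mul_assoc, aa]
  have comm_iff : ∀ x : Perm α, Commute x a ↔ a * x * a = x := by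
    intro x
    constructor
    · intro h; rw [← h.eq, mul_assoc, ha2, mul_one]
    · intro h
      show x * a = a * x
      conv_lhs => rw [← h]
      rw [mul_assoc, ha2, mul_one]
  have comm_b : ∀ x : Perm α, z * x * z = x⁻¹ → (Commute x (z * a) ↔ a * x * a = x⁻¹) := by
    intro x hx
    constructor
    · intro h
      calc a * x * a = z * (z * a * x) * a := by simp only [mul_assoc, zz]
        _ = z * (x * (z * a)) * a := by rw [h.eq]
        _ = z * x * z := by simp only [mul_assoc, ha2, mul_one]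
        _ = x⁻¹ := hx
    · intro h
      show x * (z * a) = z * a * x
      calc x * (z * a) = z * (z * x * z) * a := by simp only [mul_assoc, zz]
        _ = z * (a * x * a) * a := by rw [hx, h]
        _ = z * a * x := by simp only [mul_assoc, ha2, mul_one]
  have hfix_a : ∀ x, Fixq G q x → Fixq G q (a * x * a) := fun x hx =>
    ⟨mul_mem (mul_mem ha1 hx.1) ha1, fun i => by
      rw [Perm.mul_apply, Perm.mul_apply, ha3, hx.2, ha3, S_sigma_invol ha]⟩
  rw [← Finset.card_product]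
  symm
  refine Finset.card_bij (fun pr _ => pr.1 * pr.2 * pr.1) ?_ ?_ ?_
  · intro pr hpr
    simp only [mem_product, mem_filter, mem_IA] at hpr
    obtain ⟨⟨⟨hp, hp'⟩, -⟩, ⟨hr, hr'⟩, -⟩ := hpr
    refine mem_IA.mpr ⟨(hp.mul hr).mul hp, ?_⟩
    rw [cj, cj, hp', hr']
    group
  · intro pr hpr pr' hpr' heq
    simp only [mem_product, mem_filter, mem_IA] at hpr hpr'
    obtain ⟨⟨⟨hp, -⟩, hpa⟩, ⟨hr, hr'⟩, hrb⟩ := hpr
    obtain ⟨⟨⟨hp2, -⟩, hpa2⟩, ⟨hr2, hr2'⟩, hrb2⟩ := hpr'
    have key : ∀ p r : Perm α, a * p * a = p → a * r * a = r⁻¹ →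
        (p * r * p) * (a * (p * r * p) * a)⁻¹ = (p * r * p⁻¹) * (p * r * p⁻¹) := by
      intro p r h1 h2
      rw [caj, caj, h1, h2]
      group
    have k1 := key _ _ ((comm_iff _).mp hpa) ((comm_b _ hr').mp hrb)
    have k2 := key _ _ ((comm_iff _).mp hpa2) ((comm_b _ hr2').mp hrb2)
    rw [heq, k2] at k1
    have hr_eq := eq_of_sq_eq (hH q _ ((hp2.mul hr2).mul hp2.inv))
      (hH q _ ((hp.mul hr).mul hp.inv)) k1
    have hpsq : pr.1 * pr.1 = pr'.1 * pr'.1 := by
      calc pr.1 * pr.1 = (pr.1 * pr.2 * pr.1⁻¹)⁻¹ * (pr.1 * pr.2 * pr.1) := by group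
        _ = (pr'.1 * pr'.2 * pr'.1⁻¹)⁻¹ * (pr'.1 * pr'.2 * pr'.1) := by rw [← hr_eq, heq]
        _ = _ := by group
    have hp_eq := eq_of_sq_eq (hH q _ hp) (hH q _ hp2) hpsq
    refine Prod.ext hp_eq ?_
    rw [← hp_eq] at heq
    exact mul_left_cancel (mul_right_cancel heq)
  · intro x hx
    obtain ⟨hxf, hxz⟩ := mem_IA.mp hx
    set y := x * (a * x * a)⁻¹ with hy
    have hyf : Fixq G q y := hxf.mul (hfix_a x hxf).inv
    obtain ⟨j, hj⟩ := exists_half (hH q _ hyf)
    set r := y ^ j with hr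
    have hay : a * y * a = y⁻¹ := by
      have e : a * (a * x * a)⁻¹ * a = x⁻¹ := by
        calc a * (a * x * a)⁻¹ * a = (a * a⁻¹) * x⁻¹ * (a⁻¹ * a) := by group
          _ = x⁻¹ := by group
      rw [hy, caj, e]
      group
    have har : a * r * a = r⁻¹ := by rw [hr, conj_pow' ha2, hay, inv_pow]
    have hzy : z * y * z = x⁻¹ * y⁻¹ * x := by
      have e : z * (a * x * a)⁻¹ * z = a * x * a := by
        calc z * (a * x * a)⁻¹ * z = z * a⁻¹ * x⁻¹ * a⁻¹ * z := by group
          _ = z * a * (z * x * z) * a * z := by rw [inv_eq_self ha2, hxz]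
          _ = (z * a) * z * x * (z * (a * z)) := by simp only [mul_assoc]
          _ = a * x * a := by rw [← az]; simp only [az, mul_assoc, zz, hz2, mul_one]
      rw [hy, cj, hxz, e]
      group
    have hzr : z * r * z = x⁻¹ * r⁻¹ * x := by
      rw [hr, conj_pow' hz2, hzy]
      have := conj_pow (a := x⁻¹) (b := y⁻¹) (i := j)
      rw [inv_inv] at this
      rw [this, inv_pow]
    have hzri : z * r⁻¹ * z = x⁻¹ * r * x := by
      have : (z * r * z)⁻¹ = x⁻¹ * r * x := by rw [hzr]; group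
      rwa [mul_inv_rev, mul_inv_rev, inv_eq_self hz2, ← mul_assoc] at this
    have hari : a * r⁻¹ * a = r := by
      have : (a * r * a)⁻¹ = r := by rw [har, inv_inv]
      rwa [mul_inv_rev, mul_inv_rev, inv_eq_self ha2, ← mul_assoc] at this
    set w := r⁻¹ * x with hw
    have hwf : Fixq G q w := (hyf.pow j).inv.mul hxf
    have haw : a * w * a = w := by
      calc a * w * a = (a * r⁻¹ * a) * (a * x * a) := by rw [hw, caj]
        _ = r * (y⁻¹ * x) := by rw [hari, hy]; group
        _ = w := by rw [hw, ← hj]; group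
    have hzw : z * w * z = w⁻¹ := by rw [hw, cj, hzri, hxz]; group
    obtain ⟨i, hi⟩ := exists_half (hH q _ hwf)
    set p := w ^ i with hp
    have hap : a * p * a = p := by rw [hp, conj_pow' ha2, haw]
    have hzp : z * p * z = p⁻¹ := by rw [hp, conj_pow' hz2, hzw, inv_pow]
    have hxrp : x = r * (p * p) := by rw [hi, hw, mul_inv_cancel_left]
    have hapi : a * p⁻¹ * a = p⁻¹ := by
      have : (a * p * a)⁻¹ = p⁻¹ := by rw [hap]
      rwa [mul_inv_rev, mul_inv_rev, inv_eq_self ha2, ← mul_assoc] at this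
    have hzpi : z * p⁻¹ * z = p := by
      have : (z * p * z)⁻¹ = p := by rw [hzp, inv_inv]
      rwa [mul_inv_rev, mul_inv_rev, inv_eq_self hz2, ← mul_assoc] at this
    refine ⟨(p, p⁻¹ * r * p), ?_, ?_⟩
    · have hqf : Fixq G q (p⁻¹ * r * p) :=
        ((hwf.pow i).inv.mul (hyf.pow j)).mul (hwf.pow i)
      have hzq : z * (p⁻¹ * r * p) * z = (p⁻¹ * r * p)⁻¹ := by
        rw [cj, cj, hzpi, hzr, hzp, hxrp]; group
      have haq : a * (p⁻¹ * r * p) * a = (p⁻¹ * r * p)⁻¹ := by
        rw [caj, caj, hapi, har, hap]; group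
      simp only [mem_product, mem_filter, mem_IA]
      exact ⟨⟨⟨hwf.pow i, hzp⟩, (comm_iff _).mpr hap⟩, ⟨hqf, hzq⟩, (comm_b _ hzq).mpr haq⟩
    · show p * (p⁻¹ * r * p) * p = x
      rw [hxrp]; group

include hH in
lemma card_mul_card {σ τ ρ : Fin 4 → Fin 4} (hρ : ∀ i, ρ i = σ (τ i)) {q : Fin 4 ↪ α}
    (hne : (P G σ τ q).Nonempty) :
    (S G σ q).card * (S G τ q).card * (S G ρ q).card
      = (P G σ τ q).card * (P G σ ρ q).card := by
  obtain ⟨⟨z, a⟩, hp⟩ := hne
  obtain ⟨hz, ha, hza⟩ := mem_P.mp hp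
  obtain ⟨hz1, hz2, hz3⟩ := mem_S.mp hz
  obtain ⟨ha1, ha2, ha3⟩ := mem_S.mp ha
  have hzb : Commute z (z * a) := (Commute.refl z).mul_right hza
  have hb : z * a ∈ S G ρ q := by
    refine mem_S.mpr ⟨mul_mem hz1 ha1, ?_, fun i => ?_⟩
    · calc z * a * (z * a) = z * (a * z) * a := by group
        _ = z * z * (a * a) := by rw [← hza.eq]; group
        _ = 1 := by rw [hz2, ha2, one_mul]
    · rw [Perm.mul_apply, ha3, hz3, hρ]
  rw [card_P_fiber hH ha, card_P_fiber hH hb, card_S_comm_eq_IA hz hza,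
    card_S_comm_eq_IA hz hzb, card_S_eq_IA hz, card_IA_mul hH hz ha hza]
  ring

end Main

section Count

open scoped Classical

variable {α : Type*} [Fintype α] [DecidableEq α]

lemma sum_swap {β γ : Type*} (s : Finset β) (t : Finset γ) (R : β → γ → Prop) :
    ∑ q ∈ t, (s.filter fun u => R u q).card = ∑ u ∈ s, (t.filter fun q => R u q).card := by
  simp only [Finset.card_filter]
  exact Finset.sum_comm

def mk4 (a b c d : α) (h1 : a ≠ b) (h2 : a ≠ c) (h3 : a ≠ d) (h4 : b ≠ c) (h5 : b ≠ d)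
    (h6 : c ≠ d) : Fin 4 ↪ α :=
  ⟨![a, b, c, d], by
    intro i j h
    fin_cases i <;> fin_cases j <;> simp_all [eq_comm]⟩

lemma exists_emb_mem {s : Finset α} (hs : 4 ≤ s.card) : ∃ q : Fin 4 ↪ α, ∀ i, q i ∈ s := by
  obtain ⟨e⟩ : Nonempty (Fin 4 ↪ s) :=
    Function.Embedding.nonempty_of_card_le (by simpa using hs)
  exact ⟨e.trans (Function.Embedding.subtype _), fun i => (e i).2⟩

lemma card_quads_double {u : Perm α} (hu : u * u = 1) :
    ((univ : Finset (Fin 4 ↪ α)).filter fun q => ∀ i, u (q i) = q (pA i)).card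
      = (movF u).card * ((movF u).card - 2) := by
  have hc : ∀ a ∈ movF u, ((movF u) \ {a, u a}).card = (movF u).card - 2 := by
    intro a ha
    have ha' := mem_movF.mp ha
    rw [Finset.card_sdiff_of_subset ?_, Finset.card_pair ha'.symm]
    intro b hb
    simp only [mem_insert, Finset.mem_singleton] at hb
    rcases hb with rfl | rfl
    · exact ha
    · rw [mem_movF, inv_apply hu]; exact ha'.symm
  have hcard : ((movF u).sigma fun a => (movF u) \ {a, u a}).card
      = (movF u).card * ((movF u).card - 2) := by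
    rw [Finset.card_sigma, Finset.sum_congr rfl hc, Finset.sum_const, smul_eq_mul]
  rw [← hcard]
  refine Finset.card_bij (fun q _ => ⟨q 0, q 2⟩) ?_ ?_ ?_
  · intro q hq
    have hq' := (mem_filter.mp hq).2
    have h0 : u (q 0) = q 1 := hq' 0
    have h2 : u (q 2) = q 3 := hq' 2
    simp [mem_movF, h0, h2, q.injective.eq_iff]
  · intro q hq q' hq' h
    simp only [Sigma.mk.injEq, heq_eq_eq] at h
    have a1 := (mem_filter.mp hq).2
    have a2 := (mem_filter.mp hq').2
    have e1 : q 1 = q' 1 := by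
      have x1 : u (q 0) = q 1 := a1 0
      have x2 : u (q' 0) = q' 1 := a2 0
      rw [← x1, ← x2, h.1]
    have e3 : q 3 = q' 3 := by
      have x1 : u (q 2) = q 3 := a1 2
      have x2 : u (q' 2) = q' 3 := a2 2
      rw [← x1, ← x2, h.2]
    ext i
    fin_cases i
    exacts [h.1, e1, h.2, e3]
  · rintro ⟨a, b⟩ hab
    simp only [Finset.mem_sigma, mem_sdiff, mem_insert, Finset.mem_singleton, not_or, mem_movF]
      at hab
    obtain ⟨ha, hb, hba, hbu⟩ := hab
    refine ⟨mk4 a (u a) b (u b) ha.symm (Ne.symm hba) ?_ (Ne.symm hbu) ?_ hb.symm, ?_, rfl⟩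
    · intro h; apply hbu; rw [h, inv_apply hu]
    · intro h; exact hba (u.injective h).symm
    · refine mem_filter.mpr ⟨mem_univ _, fun i => ?_⟩
      fin_cases i <;> first | rfl | exact inv_apply hu _

lemma card_quads_single {u : Perm α} (hu : u * u = 1) :
    ((univ : Finset (Fin 4 ↪ α)).filter fun q => ∀ i, u (q i) = q (pT i)).card
      = (movF u).card * ((fixF u).card * (fixF u).card - (fixF u).card) := by
  rw [← Finset.offDiag_card, ← Finset.card_product]
  refine Finset.card_bij (fun q _ => (q 0, q 2, q 3)) ?_ ?_ ?_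
  · intro q hq
    have hq' := (mem_filter.mp hq).2
    have h0 : u (q 0) = q 1 := hq' 0
    have h2 : u (q 2) = q 2 := hq' 2
    have h3 : u (q 3) = q 3 := hq' 3
    simp [mem_movF, mem_fixF, h0, h2, h3, q.injective.eq_iff]
  · intro q hq q' hq' h
    simp only [Prod.mk.injEq] at h
    have a1 := (mem_filter.mp hq).2
    have a2 := (mem_filter.mp hq').2
    have e1 : q 1 = q' 1 := by
      have x1 : u (q 0) = q 1 := a1 0
      have x2 : u (q' 0) = q' 1 := a2 0
      rw [← x1, ← x2, h.1]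
    ext i
    fin_cases i
    exacts [h.1, e1, h.2.1, h.2.2]
  · rintro ⟨a, b, c⟩ hab
    simp only [Finset.mem_product, Finset.mem_offDiag, mem_movF, mem_fixF] at hab
    obtain ⟨ha, hb, hc, hbc⟩ := hab
    refine ⟨mk4 a (u a) b c ha.symm ?_ ?_ ?_ ?_ hbc, ?_, rfl⟩
    · intro h; exact ha (h ▸ hb)
    · intro h; exact ha (h ▸ hc)
    · intro h; apply ha; rw [← h, inv_apply hu] at hb; rw [← hb]
    · intro h; apply ha; rw [← h, inv_apply hu] at hc; rw [← hc]
    · refine mem_filter.mpr ⟨mem_univ _, fun i => ?_⟩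
      fin_cases i <;> first | rfl | exact inv_apply hu _ | assumption

lemma card_quads_reg {z u : Perm α} (hz : z * z = 1) (hu : u * u = 1) (hzu : Commute z u) :
    ((univ : Finset (Fin 4 ↪ α)).filter fun q =>
      (∀ i, z (q i) = q (pA i)) ∧ ∀ i, u (q i) = q (pB i)).card = (regF z u).card := by
  have hcm : ∀ a, u (z a) = z (u a) := fun a => by
    rw [← Perm.mul_apply, ← hzu.eq, Perm.mul_apply]
  refine Finset.card_bij (fun q _ => q 0) ?_ ?_ ?_
  · intro q hq
    obtain ⟨h1, h2⟩ := (mem_filter.mp hq).2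
    have e1 : z (q 0) = q 1 := h1 0
    have e2 : u (q 0) = q 2 := h2 0
    simp [mem_regF, e1, e2, q.injective.eq_iff]
  · intro q hq q' hq' h
    obtain ⟨h1, h2⟩ := (mem_filter.mp hq).2
    obtain ⟨g1, g2⟩ := (mem_filter.mp hq').2
    have e1 : q 1 = q' 1 := by
      have x1 : z (q 0) = q 1 := h1 0
      have x2 : z (q' 0) = q' 1 := g1 0
      rw [← x1, ← x2, h]
    have e2 : q 2 = q' 2 := by
      have x1 : u (q 0) = q 2 := h2 0
      have x2 : u (q' 0) = q' 2 := g2 0
      rw [← x1, ← x2, h]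
    have e3 : q 3 = q' 3 := by
      have x1 : z (q 2) = q 3 := h1 2
      have x2 : z (q' 2) = q' 3 := g1 2
      rw [← x1, ← x2, e2]
    ext i
    fin_cases i
    exacts [h, e1, e2, e3]
  · intro a ha
    obtain ⟨h1, h2, h3⟩ := mem_regF.mp ha
    refine ⟨mk4 a (z a) (u a) (z (u a)) h1.symm h2.symm ?_ h3 ?_ ?_, ?_, rfl⟩
    · intro h; apply h3; conv_lhs => rw [h, inv_apply hz]
    · intro h; exact h2 (z.injective h).symm
    · intro h; apply h1; rw [← hcm] at h; exact (u.injective h).symm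
    · refine mem_filter.mpr ⟨mem_univ _, fun i => ?_, fun i => ?_⟩
      · fin_cases i <;> first | rfl | exact inv_apply hz _
      · fin_cases i <;>
          first | rfl | exact inv_apply hu _ | exact hcm _ | exact (hcm _).trans (congrArg z (inv_apply hu a))

lemma card_quads_mixed {z u : Perm α} (hz : z * z = 1) (hu : u * u = 1) (hzu : Commute z u) :
    ((univ : Finset (Fin 4 ↪ α)).filter fun q =>
      (∀ i, z (q i) = q (pA i)) ∧ ∀ i, u (q i) = q (pT i)).card
      = (agreeF z u).card * (onlyF u z).card := by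
  have hcm : ∀ a, u (z a) = z (u a) := fun a => by
    rw [← Perm.mul_apply, ← hzu.eq, Perm.mul_apply]
  rw [← Finset.card_product]
  refine Finset.card_bij (fun q _ => (q 0, q 2)) ?_ ?_ ?_
  · intro q hq
    obtain ⟨h1, h2⟩ := (mem_filter.mp hq).2
    have e1 : z (q 0) = q 1 := h1 0
    have e2 : u (q 0) = q 1 := h2 0
    have e3 : z (q 2) = q 3 := h1 2
    have e4 : u (q 2) = q 2 := h2 2
    simp [mem_agreeF, mem_onlyF, e1, e2, e3, e4, q.injective.eq_iff]
  · intro q hq q' hq' h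
    simp only [Prod.mk.injEq] at h
    obtain ⟨h1, h2⟩ := (mem_filter.mp hq).2
    obtain ⟨g1, g2⟩ := (mem_filter.mp hq').2
    have e1 : q 1 = q' 1 := by
      have x1 : z (q 0) = q 1 := h1 0
      have x2 : z (q' 0) = q' 1 := g1 0
      rw [← x1, ← x2, h.1]
    have e3 : q 3 = q' 3 := by
      have x1 : z (q 2) = q 3 := h1 2
      have x2 : z (q' 2) = q' 3 := g1 2
      rw [← x1, ← x2, h.2]
    ext i
    fin_cases i
    exacts [h.1, e1, h.2, e3]
  · rintro ⟨a, b⟩ hab
    simp only [Finset.mem_product, mem_agreeF, mem_onlyF] at hab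
    obtain ⟨⟨ha, ha'⟩, hb, hb'⟩ := hab
    have hua : u a ≠ a := ha ▸ ha'
    have hzb : u (z b) = z b := by rw [hcm, hb]
    refine ⟨mk4 a (z a) b (z b) ha'.symm ?_ ?_ ?_ ?_ hb'.symm, ?_, rfl⟩
    · intro h; exact hua (h ▸ hb)
    · intro h; exact hua (h ▸ hzb)
    · intro h; exact hua (by rw [← h, ha, inv_apply hu] at hb; exact ha ▸ (ha.trans hb.symm).symm ▸ hb.symm ▸ rfl)
    · intro h; exact hua (by rw [z.injective h, hb])
    · refine mem_filter.mpr ⟨mem_univ _, fun i => ?_, fun i => ?_⟩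
      · fin_cases i <;> first | rfl | exact inv_apply hz _
      · have huza : u (z a) = a := by rw [ha, inv_apply hu]
        fin_cases i <;> first | exact ha.symm | exact huza | exact hb | exact hzb

lemma partition_card {z u : Perm α} (hz : z * z = 1) :
    ∃ K : ℕ, (fixF z).card = K + (onlyF z u).card ∧ (fixF u).card = K + (onlyF u z).card ∧
      (fixF (z * u)).card = K + (agreeF z u).card ∧
      (movF z).card = (onlyF u z).card + ((agreeF z u).card + (regF z u).card) := by
  refine ⟨(univ.filter fun a => z a = a ∧ u a = a).card, ?_, ?_, ?_, ?_⟩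
  · rw [← Finset.card_filter_add_card_filter_not (s := fixF z) (fun a => u a = a)]
    congr 2 <;> ext a <;> simp [fixF, onlyF]
  · rw [← Finset.card_filter_add_card_filter_not (s := fixF u) (fun a => z a = a)]
    congr 2 <;> ext a <;> simp [fixF, onlyF, and_comm]
  · rw [← Finset.card_filter_add_card_filter_not (s := fixF (z * u)) (fun a => z a = a)]
    congr 2 <;> ext a <;>
      simp only [mem_filter, mem_fixF, mem_agreeF, mem_univ, true_and, Perm.mul_apply]
    · constructor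
      · rintro ⟨h, h'⟩
        refine ⟨h', z.injective (h.trans h'.symm)⟩
      · rintro ⟨h, h'⟩
        exact ⟨by rw [h', h], h⟩
    · constructor
      · rintro ⟨h, h'⟩
        refine ⟨?_, h'⟩
        conv_lhs => rw [← h, inv_apply hz]
      · rintro ⟨h, h'⟩
        exact ⟨by rw [← h, inv_apply hz], h'⟩
  · rw [← Finset.card_filter_add_card_filter_not (s := movF z) (fun a => u a = a)]
    congr 1
    · congr 1; ext a; simp [movF, onlyF, and_comm]
    · rw [← Finset.card_filter_add_card_filter_not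
        (s := (movF z).filter fun a => ¬ u a = a) (fun a => z a = u a)]
      congr 2 <;> ext a <;>
        simp only [mem_filter, mem_movF, mem_agreeF, mem_regF, mem_univ, true_and]
      · constructor
        · rintro ⟨⟨h1, h2⟩, h3⟩; exact ⟨h3, h1⟩
        · rintro ⟨h3, h1⟩; exact ⟨⟨h1, h3 ▸ h1⟩, h3⟩
      · tauto

lemma even_onlyF {z u : Perm α} (hu : u * u = 1) (hzu : Commute z u) :
    Even (onlyF z u).card := by
  refine even_card_of_fpf hu _ ?_ (fun a ha => (mem_onlyF.mp ha).2)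
  intro a ha
  obtain ⟨h1, h2⟩ := mem_onlyF.mp ha
  refine mem_onlyF.mpr ⟨?_, ?_⟩
  · rw [← Perm.mul_apply, hzu.eq, Perm.mul_apply, h1]
  · rw [inv_apply hu]; exact h2.symm

variable {G : Subgroup (Perm α)}
variable (hG : ∀ q q' : Fin 4 ↪ α, ∃ g ∈ G, q.trans g.toEmbedding = q')
variable (hH : ∀ (q : Fin 4 ↪ α) (g : Perm α), Fixq G q g → Odd (orderOf g))

include hH in
lemma card_fixF_le {u : Perm α} (hu : u ∈ Inv G) : (fixF u).card ≤ 3 := by
  by_contra hlt
  obtain ⟨h1, h2, h3⟩ := mem_Inv.mp hu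
  obtain ⟨q, hq⟩ := exists_emb_mem (s := fixF u) (by omega)
  have hodd := hH q u ⟨h1, fun i => mem_fixF.mp (hq i)⟩
  have : orderOf u = 2 := orderOf_eq_prime (by rw [pow_two, h2]) h3
  rw [this] at hodd
  exact absurd hodd (by decide)

lemma S_subset_Inv {σ : Fin 4 → Fin 4} (hσ : ∃ i, σ i ≠ i) {q : Fin 4 ↪ α} {u : Perm α}
    (hu : u ∈ S G σ q) : u ∈ Inv G :=
  mem_Inv.mpr ⟨(mem_S.mp hu).1, (mem_S.mp hu).2.1, S_ne_one hσ hu⟩

include hG hH in
lemma card_fixF_eq (hn : 6 ≤ Fintype.card α) {x : Fin 4 ↪ α} {u v : Perm α}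
    (hu : u ∈ Inv G) (hv : v ∈ Inv G) : (fixF u).card = (fixF v).card := by
  obtain ⟨z, hz⟩ := exists_S hG hH (σ := pA) (by decide) x
  suffices H : ∀ w ∈ Inv G, (fixF w).card = (fixF z).card by rw [H u hu, H v hv]
  intro w hw
  obtain ⟨h1, h2, h3⟩ := mem_Inv.mp hw
  have hcard := card_fix_add_mov w
  have hle := card_fixF_le hH hw
  have hev := movF_even h2
  have hm : 4 ≤ (movF w).card := by
    obtain ⟨m, hm⟩ := hev; omega
  have hq : ((univ : Finset (Fin 4 ↪ α)).filter fun q => ∀ i, w (q i) = q (pA i)).Nonempty := by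
    rw [← Finset.card_pos, card_quads_double h2]
    exact Nat.mul_pos (by omega) (by omega)
  obtain ⟨q, hq⟩ := hq
  obtain ⟨g, hg, hgq⟩ := hG q x
  have e := S_conj hg (mem_S.mpr ⟨h1, h2, (mem_filter.mp hq).2⟩ : w ∈ S G pA q)
  rw [hgq] at e
  obtain ⟨k, hk, hkw, -⟩ := conj_S hH e hz
  rw [← hkw, card_fixF_conj, card_fixF_conj]

include hG in
lemma count_single (σ : Fin 4 → Fin 4) (hσ : ∃ i, σ i ≠ i) (x : Fin 4 ↪ α) (c : ℕ)
    (hc : ∀ u ∈ Inv G,
      ((univ : Finset (Fin 4 ↪ α)).filter fun q => ∀ i, u (q i) = q (σ i)).card = c) :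
    Fintype.card (Fin 4 ↪ α) * (S G σ x).card = (Inv G).card * c := by
  have hS : ∀ q, S G σ q = (Inv G).filter fun u => ∀ i, u (q i) = q (σ i) := by
    intro q; ext u
    rw [mem_filter]
    exact ⟨fun h => ⟨S_subset_Inv hσ h, (mem_S.mp h).2.2⟩,
      fun h => mem_S.mpr ⟨(mem_Inv.mp h.1).1, (mem_Inv.mp h.1).2.1, h.2⟩⟩
  calc Fintype.card (Fin 4 ↪ α) * (S G σ x).card
      = ∑ q : Fin 4 ↪ α, (S G σ q).card := by
        rw [Finset.sum_congr rfl (fun q _ => card_S_eq hG σ q x), Finset.sum_const, smul_eq_mul,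
          Finset.card_univ]
    _ = ∑ u ∈ Inv G, ((univ : Finset (Fin 4 ↪ α)).filter fun q => ∀ i, u (q i) = q (σ i)).card := by
        simp only [hS]; convert sum_swap (Inv G) (univ : Finset (Fin 4 ↪ α)) (fun u q => ∀ i, u (q i) = q (σ i))
    _ = (Inv G).card * c := by
        rw [Finset.sum_congr rfl hc, Finset.sum_const, smul_eq_mul]

include hG in
lemma count_pair (σ τ : Fin 4 → Fin 4) (hσ : ∃ i, σ i ≠ i) (hτ : ∃ i, τ i ≠ i)
    (hne : ∃ i, σ i ≠ τ i) (x : Fin 4 ↪ α) (c : ℕ)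
    (hc : ∀ p ∈ Cp G, ((univ : Finset (Fin 4 ↪ α)).filter fun q =>
      (∀ i, p.1 (q i) = q (σ i)) ∧ ∀ i, p.2 (q i) = q (τ i)).card = c) :
    Fintype.card (Fin 4 ↪ α) * (P G σ τ x).card = (Cp G).card * c := by
  have hS : ∀ q, P G σ τ q = (Cp G).filter fun p =>
      (∀ i, p.1 (q i) = q (σ i)) ∧ ∀ i, p.2 (q i) = q (τ i) := by
    intro q; ext p
    rw [mem_filter, mem_Cp, mem_P]
    constructor
    · rintro ⟨h1, h2, h3⟩
      refine ⟨⟨S_subset_Inv hσ h1, S_subset_Inv hτ h2, h3, ?_⟩, (mem_S.mp h1).2.2,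
        (mem_S.mp h2).2.2⟩
      intro he
      obtain ⟨i, hi⟩ := hne
      apply hi; apply q.injective
      rw [← (mem_S.mp h1).2.2, ← (mem_S.mp h2).2.2, he]
    · rintro ⟨⟨h1, h2, h3, -⟩, h4, h5⟩
      exact ⟨mem_S.mpr ⟨(mem_Inv.mp h1).1, (mem_Inv.mp h1).2.1, h4⟩,
        mem_S.mpr ⟨(mem_Inv.mp h2).1, (mem_Inv.mp h2).2.1, h5⟩, h3⟩
  calc Fintype.card (Fin 4 ↪ α) * (P G σ τ x).card
      = ∑ q : Fin 4 ↪ α, (P G σ τ q).card := by
        rw [Finset.sum_congr rfl (fun q _ => card_P_eq hG σ τ q x), Finset.sum_const, smul_eq_mul,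
          Finset.card_univ]
    _ = ∑ p ∈ Cp G, ((univ : Finset (Fin 4 ↪ α)).filter fun q =>
          (∀ i, p.1 (q i) = q (σ i)) ∧ ∀ i, p.2 (q i) = q (τ i)).card := by
        simp only [hS]; convert sum_swap (Cp G) (univ : Finset (Fin 4 ↪ α))
          (fun p q => (∀ i, p.1 (q i) = q (σ i)) ∧ ∀ i, p.2 (q i) = q (τ i))
    _ = (Cp G).card * c := by
        rw [Finset.sum_congr rfl hc, Finset.sum_const, smul_eq_mul]

include hG hH in
/-- the numbers over a quadruple are linked by the order formula. -/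
lemma pair_relation (x : Fin 4 ↪ α) :
    (P G pA pT x).card * (S G pA x).card = (P G pA pB x).card * (S G pT x).card := by
  let p12 : Fin 4 ↪ Fin 4 := ⟨![0, 2, 1, 3], by decide⟩
  let p123 : Fin 4 ↪ Fin 4 := ⟨![0, 3, 1, 2], by decide⟩
  let p23 : Fin 4 ↪ Fin 4 := ⟨![0, 1, 3, 2], by decide⟩
  let p02 : Fin 4 ↪ Fin 4 := ⟨![2, 3, 0, 1], by decide⟩
  have eB : (S G pB x).card = (S G pA x).card := by
    rw [← S_relabel p12 (σ := pA) (σ' := pB) (by decide) x]; exact card_S_eq hG _ _ _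
  have eC : (S G pC x).card = (S G pA x).card := by
    rw [← S_relabel p123 (σ := pA) (σ' := pC) (by decide) x]; exact card_S_eq hG _ _ _
  have eU : (S G pU x).card = (S G pT x).card := by
    rw [← S_relabel p02 (σ := pT) (σ' := pU) (by decide) x]; exact card_S_eq hG _ _ _
  have pC' : (P G pA pC x).card = (P G pA pB x).card := by
    rw [← P_relabel p23 (σ := pA) (σ' := pA) (τ := pB) (τ' := pC) (by decide) (by decide) x]
    exact card_P_eq hG _ _ _ _
  have pU' : (P G pA pU x).card = (P G pA pT x).card := by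
    rw [← P_relabel p02 (σ := pA) (σ' := pA) (τ := pT) (τ' := pU) (by decide) (by decide) x]
    exact card_P_eq hG _ _ _ _
  have h1 := card_mul_card (σ := pA) (τ := pB) (ρ := pC) hH (by decide)
    (exists_P hG hH (σ := pA) (τ := pB) (by decide) (by decide) (by decide) x)
  have h2 := card_mul_card (σ := pA) (τ := pT) (ρ := pU) hH (by decide)
    (exists_P hG hH (σ := pA) (τ := pT) (by decide) (by decide) (by decide) x)
  rw [eB, eC, pC'] at h1
  rw [eU, pU'] at h2
  apply Nat.pow_left_injective (n := 2) (by norm_num)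
  show (_ : ℕ) ^ 2 = _ ^ 2
  rw [mul_pow, mul_pow, pow_two ((P G pA pT x).card), ← h2, pow_two ((P G pA pB x).card), ← h1]
  ring

include hG hH in
/-- all commuting pairs of distinct involutions have the same shape. -/
lemma pair_shape (hn : 8 ≤ Fintype.card α) {f : ℕ} (hf : ∀ u ∈ Inv G, (fixF u).card = f)
    {x : Fin 4 ↪ α} (hf2 : f ≤ 3) {z u : Perm α} (hp : (z, u) ∈ Cp G) :
    (agreeF z u).card = 2 ∧ (onlyF u z).card = 2 ∧
      (regF z u).card + 4 = Fintype.card α - f := by
  have key : ∀ {z u : Perm α}, (z, u) ∈ Cp G → ((regF z u).card = 0 → False) →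
      (onlyF z u).card = 2 → (agreeF z u).card = 2 ∧ (onlyF u z).card = 2 ∧
        (regF z u).card + 4 = Fintype.card α - f := by
    intro z u hp _ h2
    obtain ⟨hz, hu, hc, hne⟩ := mem_Cp.mp hp
    dsimp only at hz hu hc hne
    have hv : z * u ∈ Inv G := by
      refine mem_Inv.mpr ⟨mul_mem (mem_Inv.mp hz).1 (mem_Inv.mp hu).1, ?_, ?_⟩
      · rw [← pow_two, hc.mul_pow, pow_two, pow_two, (mem_Inv.mp hz).2.1, (mem_Inv.mp hu).2.1,
          one_mul]
      · intro h
        exact hne ((eq_inv_of_mul_eq_one_left h).trans (inv_eq_self (mem_Inv.mp hu).2.1))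
    obtain ⟨K, hK1, hK2, hK3, hK4⟩ := partition_card (u := u) (mem_Inv.mp hz).2.1
    rw [hf z hz] at hK1
    rw [hf u hu] at hK2
    rw [hf _ hv] at hK3
    have := card_fix_add_mov z
    rw [hf z hz] at this
    omega
  obtain ⟨⟨z0, t0⟩, h0⟩ := exists_P hG hH (σ := pA) (τ := pT) (by decide) (by decide) (by decide) x
  obtain ⟨hz0, ht0, hc0⟩ := mem_P.mp h0
  dsimp only at hz0 ht0 hc0
  have hp0 : (z0, t0) ∈ Cp G := by
    refine mem_Cp.mpr ⟨S_subset_Inv (by decide) hz0, S_subset_Inv (by decide) ht0, hc0, ?_⟩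
    intro h
    have a1 : z0 (x 2) = x 3 := (mem_S.mp hz0).2.2 2
    have a2 : t0 (x 2) = x 2 := (mem_S.mp ht0).2.2 2
    simp only at h
    rw [h, a2] at a1
    exact absurd (x.injective a1) (by decide)
  have hpart : ∀ {z u : Perm α}, (z, u) ∈ Cp G →
      (onlyF z u).card = (onlyF u z).card ∧ ((onlyF z u).card = 0 ∨ (onlyF z u).card = 2) ∧
      ((regF z u).card = 0 → False) := by
    intro z u hp
    obtain ⟨hz, hu, hc, hne⟩ := mem_Cp.mp hp
    dsimp only at hz hu hc hne
    obtain ⟨-, hz2, -⟩ := mem_Inv.mp hz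
    have hv : z * u ∈ Inv G := by
      refine mem_Inv.mpr ⟨mul_mem (mem_Inv.mp hz).1 (mem_Inv.mp hu).1, ?_, ?_⟩
      · rw [← pow_two, hc.mul_pow, pow_two, pow_two, hz2, (mem_Inv.mp hu).2.1, one_mul]
      · intro h
        exact hne ((eq_inv_of_mul_eq_one_left h).trans (inv_eq_self (mem_Inv.mp hu).2.1))
    obtain ⟨K, hK1, hK2, hK3, hK4⟩ := partition_card (u := u) hz2
    rw [hf z hz] at hK1
    rw [hf u hu] at hK2
    rw [hf _ hv] at hK3
    have hcard := card_fix_add_mov z
    rw [hf z hz] at hcard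
    obtain ⟨m, hm⟩ := even_onlyF (z := z) (mem_Inv.mp hu).2.1 hc
    omega
  have h0two : (onlyF z0 t0).card = 2 := by
    obtain ⟨a, b, -⟩ := hpart hp0
    have : x 2 ∈ onlyF t0 z0 := by
      rw [mem_onlyF]
      refine ⟨(mem_S.mp ht0).2.2 2, ?_⟩
      rw [(mem_S.mp hz0).2.2 2]
      exact fun h => absurd (x.injective h) (by decide)
    have := Finset.card_pos.mpr ⟨_, this⟩
    omega
  refine key hp (hpart hp).2.2 ?_
  obtain ⟨a, ha⟩ := Finset.card_pos.mp
    (Nat.pos_of_ne_zero (fun h => (hpart hp).2.2 h) : 0 < (regF z u).card)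
  obtain ⟨a0, ha0⟩ := Finset.card_pos.mp
    (Nat.pos_of_ne_zero (fun h => (hpart hp0).2.2 h) : 0 < (regF z0 t0).card)
  have mk : ∀ {z u : Perm α}, (z, u) ∈ Cp G → ∀ a ∈ regF z u,
      ∃ q, (z, u) ∈ P G pA pB q := by
    intro z u hp a ha
    obtain ⟨hz, hu, hc, -⟩ := mem_Cp.mp hp
    obtain ⟨hz1, hz2, -⟩ := mem_Inv.mp hz
    obtain ⟨hu1, hu2, -⟩ := mem_Inv.mp hu
    have := card_quads_reg hz2 hu2 hc
    obtain ⟨q, hq⟩ := Finset.card_pos.mp (by rw [this]; exact Finset.card_pos.mpr ⟨a, ha⟩)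
    obtain ⟨hqz, hqu⟩ := (mem_filter.mp hq).2
    exact ⟨q, mem_P.mpr ⟨mem_S.mpr ⟨hz1, hz2, hqz⟩, mem_S.mpr ⟨hu1, hu2, hqu⟩, hc⟩⟩
  obtain ⟨q, hq⟩ := mk hp a ha
  obtain ⟨q0, hq0⟩ := mk hp0 a0 ha0
  obtain ⟨g, -, hgz, hgu⟩ := conj_P hG hH hq hq0
  rw [← h0two, ← hgz, ← hgu, card_onlyF_conj]

include hG hH in
lemma degree_eq_eleven (hn : 8 ≤ Fintype.card α) (x : Fin 4 ↪ α) :
    Fintype.card α = 11 := by
  obtain ⟨t, ht⟩ := exists_S hG hH (σ := pT) (by decide) x
  have htI : t ∈ Inv G := S_subset_Inv (by decide) ht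
  obtain ⟨f, hfdef⟩ : ∃ f, f = (fixF t).card := ⟨_, rfl⟩
  have hf : ∀ u ∈ Inv G, (fixF u).card = f := fun u hu =>
    (card_fixF_eq hG hH (by omega) (x := x) hu htI).trans hfdef.symm
  have hf3 : f ≤ 3 := hfdef ▸ card_fixF_le hH htI
  have hf2 : 2 ≤ f := by
    have : ({x 2, x 3} : Finset α) ⊆ fixF t := by
      intro a ha
      simp only [mem_insert, Finset.mem_singleton] at ha
      rcases ha with rfl | rfl
      · exact mem_fixF.mpr ((mem_S.mp ht).2.2 2)
      · exact mem_fixF.mpr ((mem_S.mp ht).2.2 3)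
    have := Finset.card_le_card this
    rw [Finset.card_pair (x.injective.ne (by decide))] at this
    omega
  obtain ⟨M, hMdef⟩ : ∃ M, M = Fintype.card α - f := ⟨_, rfl⟩
  have hM : ∀ u ∈ Inv G, (movF u).card = M := fun u hu => by
    have := card_fix_add_mov u
    rw [hf u hu] at this; omega
  obtain ⟨m, hm⟩ := hM t htI ▸ movF_even (mem_Inv.mp htI).2.1
  have c1 := count_single hG pA (by decide) x (M * (M - 2)) (fun u hu => by
    rw [card_quads_double (mem_Inv.mp hu).2.1, hM u hu])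
  have c2 := count_single hG pT (by decide) x (M * (f * f - f)) (fun u hu => by
    rw [card_quads_single (mem_Inv.mp hu).2.1, hM u hu, hf u hu])
  have c3 := count_pair hG pA pB (by decide) (by decide) (by decide) x (M - 4) (fun p hp => by
    obtain ⟨hz, hu, hc, -⟩ := mem_Cp.mp hp
    rw [card_quads_reg (mem_Inv.mp hz).2.1 (mem_Inv.mp hu).2.1 hc]
    have := pair_shape hG hH hn hf (x := x) hf3 hp
    omega)
  have c4 := count_pair hG pA pT (by decide) (by decide) (by decide) x 4 (fun p hp => by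
    obtain ⟨hz, hu, hc, -⟩ := mem_Cp.mp hp
    rw [card_quads_mixed (mem_Inv.mp hz).2.1 (mem_Inv.mp hu).2.1 hc]
    have := pair_shape hG hH hn hf (x := x) hf3 hp
    rw [this.1, this.2.1])
  have hrel := pair_relation hG hH x
  obtain ⟨⟨z0, t0⟩, h0⟩ :=
    exists_P hG hH (σ := pA) (τ := pT) (by decide) (by decide) (by decide) x
  obtain ⟨hz0, ht0, hc0⟩ := mem_P.mp h0
  have hT : 0 < (Cp G).card := by
    have : 0 < (P G pA pT x).card := Finset.card_pos.mpr ⟨_, h0⟩
    have h4 : 0 < Fintype.card (Fin 4 ↪ α) := Fintype.card_pos_iff.mpr ⟨x⟩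
    have := Nat.mul_pos h4 this
    rw [c4] at this
    exact Nat.pos_of_mul_pos_right this
  have hI : 0 < (Inv G).card := Finset.card_pos.mpr ⟨t, htI⟩
  have hfin : 4 * (M - 2) = (M - 4) * (f * f - f) := by
    have h : (Cp G).card * 4 * ((Inv G).card * (M * (M - 2)))
        = (Cp G).card * (M - 4) * ((Inv G).card * (M * (f * f - f))) := by
      rw [← c1, ← c2, ← c3, ← c4]
      calc _ = Fintype.card (Fin 4 ↪ α) * Fintype.card (Fin 4 ↪ α)
            * ((P G pA pT x).card * (S G pA x).card) := by ring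
        _ = _ := by rw [hrel]; ring
    apply Nat.eq_of_mul_eq_mul_left (Nat.mul_pos (Nat.mul_pos hT hI) (show 0 < M by omega))
    calc (Cp G).card * (Inv G).card * M * (4 * (M - 2))
        = (Cp G).card * 4 * ((Inv G).card * (M * (M - 2))) := by ring
      _ = _ := h
      _ = _ := by ring
  rcases (show f = 2 ∨ f = 3 by omega) with h | h <;> rw [h] at hfin hMdef <;> omega

include hG hH in
lemma card_Hq_ne_one_of_seven (hn : Fintype.card α = 7) (x : Fin 4 ↪ α) :
    (Hq G x).card ≠ 1 := by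
  intro h1
  obtain ⟨t, ht⟩ := exists_S hG hH (σ := pT) (by decide) x
  obtain ⟨z, hz⟩ := exists_S hG hH (σ := pA) (by decide) x
  have htI : t ∈ Inv G := S_subset_Inv (by decide) ht
  have e : ∀ {σ : Fin 4 → Fin 4} {w : Perm α}, w ∈ S G σ x → (S G σ x).card = 1 := by
    intro σ w hw
    have : (IA G w x).card ≤ (Hq G x).card :=
      Finset.card_le_card fun y hy => mem_Hq.mpr (mem_IA.mp hy).1
    have hpos : 0 < (S G σ x).card := Finset.card_pos.mpr ⟨w, hw⟩
    rw [← card_S_eq_IA hw] at this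
    omega
  have hf : ∀ u ∈ Inv G, (fixF u).card = 3 ∧ (movF u).card = 4 := by
    intro u hu
    rw [card_fixF_eq hG hH (by omega) (x := x) hu htI]
    have h3 := card_fixF_le hH htI
    have h3' := card_fixF_le hH hu
    obtain ⟨a, ha⟩ := movF_even (mem_Inv.mp htI).2.1
    obtain ⟨b, hb⟩ := movF_even (mem_Inv.mp hu).2.1
    have := card_fix_add_mov t
    have := card_fix_add_mov u
    have := card_fixF_eq hG hH (by omega) (x := x) hu htI
    have hpos : 0 < (movF t).card := Finset.card_pos.mpr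
      ⟨x 0, mem_movF.mpr (by
        rw [show t (x 0) = x 1 from (mem_S.mp ht).2.2 0]; exact x.injective.ne (by decide))⟩
    have : ({x 2, x 3} : Finset α) ⊆ fixF t := by
      intro a ha
      simp only [mem_insert, Finset.mem_singleton] at ha
      rcases ha with rfl | rfl
      · exact mem_fixF.mpr ((mem_S.mp ht).2.2 2)
      · exact mem_fixF.mpr ((mem_S.mp ht).2.2 3)
    have := Finset.card_le_card this
    rw [Finset.card_pair (x.injective.ne (by decide))] at this
    omega
  have c1 := count_single hG pA (by decide) x (4 * 2) (fun u hu => by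
    rw [card_quads_double (mem_Inv.mp hu).2.1, (hf u hu).2])
  have c2 := count_single hG pT (by decide) x (4 * 6) (fun u hu => by
    rw [card_quads_single (mem_Inv.mp hu).2.1, (hf u hu).2, (hf u hu).1])
  rw [e hz] at c1
  rw [e ht] at c2
  have : 0 < Fintype.card (Fin 4 ↪ α) := Fintype.card_pos_iff.mpr ⟨x⟩
  omega

include hG hH in
lemma card_Hq_eq_one_of_eleven (hn : Fintype.card α = 11) (hprim : MulAction.IsPreprimitive G α)
    (x : Fin 4 ↪ α) : (Hq G x).card = 1 := by
  obtain ⟨⟨z, t⟩, hzt⟩ :=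
    exists_P hG hH (σ := pA) (τ := pT) (by decide) (by decide) (by decide) x
  obtain ⟨hz, ht, hc⟩ := mem_P.mp hzt
  dsimp only at hz ht hc
  obtain ⟨hz1, hz2, hz3⟩ := mem_S.mp hz
  have hzI : z ∈ Inv G := S_subset_Inv (by decide) hz
  have htI : t ∈ Inv G := S_subset_Inv (by decide) ht
  have hf : ∀ u ∈ Inv G, (fixF u).card = 3 ∧ (movF u).card = 8 := by
    intro u hu
    have h3 := card_fixF_le hH hu
    obtain ⟨b, hb⟩ := movF_even (mem_Inv.mp hu).2.1
    have := card_fix_add_mov u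
    have h := card_fixF_eq hG hH (by omega) (x := x) hu htI
    have : ({x 2, x 3} : Finset α) ⊆ fixF t := by
      intro a ha
      simp only [mem_insert, Finset.mem_singleton] at ha
      rcases ha with rfl | rfl
      · exact mem_fixF.mpr ((mem_S.mp ht).2.2 2)
      · exact mem_fixF.mpr ((mem_S.mp ht).2.2 3)
    have := Finset.card_le_card this
    rw [Finset.card_pair (x.injective.ne (by decide))] at this
    omega
  have hcen : ∀ g, Fixq G x g → Commute z g → g = 1 := by
    intro g hg hzg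
    have hodd := hH x g hg
    set Y := (movF z) \ (univ.map x) with hY
    have hYcard : Y.card = 4 := by
      rw [hY, Finset.card_sdiff_of_subset ?_, (hf z hzI).2, Finset.card_map]
      · simp
      · intro a ha
        obtain ⟨i, -, rfl⟩ := Finset.mem_map.mp ha
        rw [mem_movF, hz3]
        exact x.injective.ne ((by decide : ∀ i, pA i ≠ i) i)
    have hcg : ∀ a, g (z a) = z (g a) := fun a => by
      rw [← Perm.mul_apply, ← hzg.eq, Perm.mul_apply]
    have hYg : ∀ a ∈ Y, g a ∈ Y := by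
      intro a ha
      simp only [hY, mem_sdiff, mem_movF, Finset.mem_map, mem_univ, true_and] at ha ⊢
      refine ⟨fun h => ha.1 ?_, fun ⟨i, hi⟩ => ha.2 ⟨i, ?_⟩⟩
      · rw [← hcg] at h; exact g.injective h
      · rw [← hg.2 i] at hi; exact g.injective hi
    have hYz : ∀ a ∈ Y, z a ∈ Y := by
      intro a ha
      simp only [hY, mem_sdiff, mem_movF, Finset.mem_map, mem_univ, true_and] at ha ⊢
      refine ⟨fun h => ha.1 (z.injective h), fun ⟨i, hi⟩ => ha.2 ⟨pA i, ?_⟩⟩
      rw [← hz3 i, hi, inv_apply hz2]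
    have odd_fix : ∀ a, g (g a) = a → g a = a := by
      intro a h
      obtain ⟨m, hm⟩ := hodd
      have e : ∀ j : ℕ, (g ^ (2 * j)) a = a := by
        intro j; induction j with
        | zero => simp
        | succ j ih => rw [Nat.mul_succ, pow_add, Perm.mul_apply, pow_two, Perm.mul_apply, h, ih]
      have h1 : g ^ (2 * (m + 1)) = g := by
        rw [show 2 * (m + 1) = orderOf g + 1 by omega, pow_succ, pow_orderOf_eq_one, one_mul]
      have := e (m + 1)
      rwa [h1] at this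
    have hfixY : ∀ a ∈ Y, g a = a := by
      intro a ha
      by_contra hga
      have hza : z a ≠ a := mem_movF.mp (mem_sdiff.mp ha).1
      by_cases h2 : g a = z a
      · apply hga; apply odd_fix
        rw [h2, hcg, h2, inv_apply hz2]
      · have hb := hYg a ha
        have hset : ({a, z a, g a, z (g a)} : Finset α) = Y := by
          apply Finset.eq_of_subset_of_card_le
          · intro b hb'
            simp only [mem_insert, Finset.mem_singleton] at hb'
            rcases hb' with rfl | rfl | rfl | rfl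
            exacts [ha, hYz _ ha, hb, hYz _ hb]
          · rw [hYcard]
            have h3 : z (g a) ≠ a := fun h => h2 ((inv_apply hz2 (g a)).symm.trans (congrArg z h))
            have h4 : z (g a) ≠ g a := mem_movF.mp (mem_sdiff.mp hb).1
            have h5 : z (g a) ≠ z a := fun h => hga (z.injective h)
            simp [Finset.card_insert_of_notMem, Ne.symm hza, Ne.symm hga, Ne.symm h3,
              Ne.symm h2, Ne.symm h5, Ne.symm h4]
        have hgg : g (g a) ∈ Y := hYg _ hb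
        rw [← hset] at hgg
        simp only [mem_insert, Finset.mem_singleton] at hgg
        rcases hgg with h | h | h | h
        · exact hga (odd_fix a h)
        · have e4 : g (g (g (g a))) = a := by rw [h, hcg, hcg, h, inv_apply hz2]
          have e2 : g (g a) = a := by
            obtain ⟨m, hm⟩ := hodd
            have e : ∀ j : ℕ, ((g * g) ^ (2 * j)) a = a := by
              intro j; induction j with
              | zero => simp
              | succ j ih =>
                rw [Nat.mul_succ, pow_add, Perm.mul_apply, pow_two, Perm.mul_apply,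
                  Perm.mul_apply, Perm.mul_apply, e4, ih]
            have h1 : (g * g) ^ (2 * (m + 1)) = g * g := by
              rw [show 2 * (m + 1) = orderOf g + 1 by omega, pow_succ,
                (Commute.refl g).mul_pow, pow_orderOf_eq_one, one_mul, one_mul]
            have := e (m + 1)
            rwa [h1] at this
          exact hga (odd_fix a e2)
        · exact hga (g.injective h)
        · apply hga; apply odd_fix
          have : g (g (g a)) = g a := by rw [h, hcg, h, inv_apply hz2]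
          exact g.injective this
    by_contra hg1
    have hsupp : g.support ⊆ fixF z := by
      intro a ha
      rw [Perm.mem_support] at ha
      by_contra h
      rw [mem_fixF] at h
      by_cases hr : a ∈ univ.map x
      · obtain ⟨i, -, rfl⟩ := Finset.mem_map.mp hr
        exact ha (hg.2 i)
      · exact ha (hfixY a (mem_sdiff.mpr ⟨mem_movF.mpr h, hr⟩))
    have hs3 := Finset.card_le_card hsupp
    rw [(hf z hzI).1] at hs3
    have hs0 : g.support.card ≠ 0 := by
      simpa [Perm.card_support_eq_zero] using hg1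
    have hs1 := Perm.card_support_ne_one g
    have hs2 : g.support.card ≠ 2 := by
      intro h
      rw [(Perm.card_support_eq_two.mp h).orderOf] at hodd
      exact absurd hodd (by decide)
    have h3c : g.IsThreeCycle := card_support_eq_three_iff.mp (by omega)
    have hle : alternatingGroup α ≤ G :=
      Perm.alternatingGroup_le_of_isPreprimitive_of_isThreeCycle_mem hprim h3c hg.1
    obtain ⟨q, hq⟩ := exists_emb_mem (s := univ \ univ.map x) (by
      rw [Finset.card_sdiff_of_subset (Finset.subset_univ _), Finset.card_univ, Finset.card_map]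
      simp [hn])
    set d := swap (q 0) (q 1) * swap (q 2) (q 3) with hd
    have hne : ∀ i j, i ≠ j → q i ≠ q j := fun i j h => q.injective.ne h
    have hdG : d ∈ G := hle (by
      rw [Perm.mem_alternatingGroup, hd, Perm.sign_mul, Perm.sign_swap (hne 0 1 (by decide)),
        Perm.sign_swap (hne 2 3 (by decide))]
      decide)
    have hxq : ∀ i j, x i ≠ q j := by
      intro i j h
      exact (mem_sdiff.mp (hq j)).2 (Finset.mem_map.mpr ⟨i, mem_univ _, h⟩)
    have hdfix : Fixq G x d := ⟨hdG, fun i => by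
      rw [hd, Perm.mul_apply, swap_apply_of_ne_of_ne (hxq i 2) (hxq i 3),
        swap_apply_of_ne_of_ne (hxq i 0) (hxq i 1)]⟩
    have hd0 : d (q 0) = q 1 := by
      rw [hd, Perm.mul_apply, swap_apply_of_ne_of_ne (hne 0 2 (by decide)) (hne 0 3 (by decide)),
        swap_apply_left]
    have hd2 : d * d = 1 := by
      have hdis : Commute (swap (q 0) (q 1)) (swap (q 2) (q 3)) := by
        apply Perm.Disjoint.commute
        intro a
        by_cases h0 : a = q 0
        · right; subst h0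
          exact swap_apply_of_ne_of_ne (hne 0 2 (by decide)) (hne 0 3 (by decide))
        · by_cases h1 : a = q 1
          · right; subst h1
            exact swap_apply_of_ne_of_ne (hne 1 2 (by decide)) (hne 1 3 (by decide))
          · left; exact swap_apply_of_ne_of_ne h0 h1
      rw [hd, ← pow_two, hdis.mul_pow, pow_two, pow_two, swap_mul_self, swap_mul_self, one_mul]
    have := eq_of_sq_eq (hH x d hdfix) (hH x 1 Fixq.one) (by rw [hd2, one_mul])
    rw [this, Perm.one_apply] at hd0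
    exact hne 0 1 (by decide) hd0
  have hle : (Hq G x).card ≤ (S G pA x).card := by
    refine Finset.card_le_card_of_injOn (fun g => g * z * g⁻¹) ?_ ?_
    · intro g hg
      have hg' := mem_Hq.mp (Finset.mem_coe.mp hg)
      have := S_conj hg'.1 hz
      rwa [trans_fix hg'] at this
    · intro g hg k hk h
      have hg' := mem_Hq.mp (Finset.mem_coe.mp hg)
      have hk' := mem_Hq.mp (Finset.mem_coe.mp hk)
      simp only at h
      have : Commute z (k⁻¹ * g) := by
        show z * (k⁻¹ * g) = k⁻¹ * g * z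
        calc z * (k⁻¹ * g) = k⁻¹ * (k * z * k⁻¹) * g := by group
          _ = k⁻¹ * (g * z * g⁻¹) * g := by rw [h]
          _ = k⁻¹ * g * z := by group
      exact (inv_mul_eq_one.mp (hcen _ (hk'.inv.mul hg') this)).symm
  have c1 := count_single hG pA (by decide) x (8 * 6) (fun u hu => by
    rw [card_quads_double (mem_Inv.mp hu).2.1, (hf u hu).2])
  have c2 := count_single hG pT (by decide) x (8 * 6) (fun u hu => by
    rw [card_quads_single (mem_Inv.mp hu).2.1, (hf u hu).2, (hf u hu).1])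
  have heq : (S G pT x).card = (S G pA x).card :=
    Nat.eq_of_mul_eq_mul_left (Fintype.card_pos_iff.mpr ⟨x⟩) (c2.trans c1.symm)
  have allinv : ∀ {σ : Fin 4 → Fin 4} {w : Perm α}, w ∈ S G σ x →
      (S G σ x).card = (S G pA x).card → ∀ g, Fixq G x g → w * g * w = g⁻¹ := by
    intro σ w hw hcard g hg
    have : IA G w x = Hq G x := by
      apply Finset.eq_of_subset_of_card_le (fun y hy => mem_Hq.mpr (mem_IA.mp hy).1)
      rw [← card_S_eq_IA hw, hcard]; exact hle
    exact (mem_IA.mp (this ▸ mem_Hq.mpr hg)).2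
  have heqU : (S G pU x).card = (S G pA x).card := by
    let p02 : Fin 4 ↪ Fin 4 := ⟨![2, 3, 0, 1], by decide⟩
    rw [← S_relabel p02 (σ := pT) (σ' := pU) (by decide) x, card_S_eq hG _ _ x, heq]
  have hb : z * t ∈ S G pU x := by
    obtain ⟨ht1, ht2, ht3⟩ := mem_S.mp ht
    refine mem_S.mpr ⟨mul_mem hz1 ht1, ?_, fun i => ?_⟩
    · rw [← pow_two, hc.mul_pow, pow_two, pow_two, hz2, ht2, one_mul]
    · rw [Perm.mul_apply, ht3, hz3]
      congr 1; revert i; decide
  refine Finset.card_eq_one.mpr ⟨1, Finset.eq_singleton_iff_unique_mem.mpr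
    ⟨mem_Hq.mpr Fixq.one, fun g hg => ?_⟩⟩
  have hg' := mem_Hq.mp hg
  have a1 := allinv hz rfl g hg'
  have a2 := allinv ht heq g hg'
  have a3 := allinv hb heqU g hg'
  have : g = g⁻¹ := by
    calc g = z * g⁻¹ * z := by
          have : (z * g * z)⁻¹ = g := by rw [a1, inv_inv]
          rw [mul_inv_rev, mul_inv_rev, inv_eq_self hz2, ← mul_assoc] at this
          exact this.symm
      _ = z * (t * g * t) * z := by rw [a2]
      _ = z * t * g * (t * z) := by group
      _ = z * t * g * (z * t) := by rw [← hc.eq]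
      _ = g⁻¹ := a3
  refine eq_of_sq_eq (hH x g hg') (hH x 1 Fixq.one) ?_
  rw [one_mul]
  nth_rewrite 2 [this]
  exact mul_inv_cancel g

end Count

/-- Let `G` be a `4`-fold transitive permutation group on a finite set of `n` points in which the pointwise stabilizer of some four distinct points has odd order. Then `n = 4` or `n = 5` with `G` the full symmetric group, or `n = 6` or `n = 7` with `G` the alternating group, or `n = 11` and `G` has order `7920`. -/
theorem result {α : Type*} [Fintype α] [DecidableEq α] (G : Subgroup (Equiv.Perm α)) (hG : MulAction.IsMultiplyPretransitive G α 4) (x : Fin 4 ↪ α) (hodd : Odd (Nat.card (MulAction.stabilizer G x))) : ((Fintype.card α = 4 ∨ Fintype.card α = 5) ∧ G = ⊤) ∨ ((Fintype.card α = 6 ∨ Fintype.card α = 7) ∧ G = alternatingGroup α) ∨ (Fintype.card α = 11 ∧ Nat.card G = 7920) := by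
  classical
  haveI := hG
  haveI : MulAction.IsPretransitive G (Fin 4 ↪ α) := hG
  have hT : ∀ q q' : Fin 4 ↪ α, ∃ g ∈ G, q.trans g.toEmbedding = q' := by
    intro q q'
    obtain ⟨g, hg⟩ := MulAction.exists_smul_eq G q q'
    refine ⟨g, g.2, ?_⟩
    rw [← hg]
    ext i
    simp [Subgroup.smul_def]
  have hH : ∀ (q : Fin 4 ↪ α) (g : Equiv.Perm α), Fixq G q g → Odd (orderOf g) := by
    intro q g hg
    obtain ⟨g0, hg0, h0⟩ := hT x q
    have hk : (⟨g0⁻¹ * g * g0, mul_mem (mul_mem (inv_mem hg0) hg.1) hg0⟩ : G)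
        ∈ MulAction.stabilizer G x := by
      rw [MulAction.mem_stabilizer_iff]
      ext i
      have hi : g0 (x i) = q i := DFunLike.congr_fun h0 i
      show (g0⁻¹ * g * g0) (x i) = x i
      rw [Equiv.Perm.mul_apply, Equiv.Perm.mul_apply, hi, hg.2 i, ← hi]
      simp
    have h2 : orderOf (g0⁻¹ * g * g0) ∣ Nat.card (MulAction.stabilizer G x) := by
      have := orderOf_dvd_natCard (⟨_, hk⟩ : MulAction.stabilizer G x)
      rwa [Subgroup.orderOf_mk, Subgroup.orderOf_mk] at this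
    have h3 : orderOf (g0⁻¹ * g * g0) = orderOf g := by
      have := orderOf_injective (MulAut.conj g0⁻¹).toMonoidHom (MulAut.conj g0⁻¹).injective g
      rw [MulEquiv.coe_toMonoidHom, MulAut.conj_apply, inv_inv] at this
      exact this
    rw [h3] at h2
    exact hodd.of_dvd_nat h2
  have hHq : Nat.card (MulAction.stabilizer G x) = (Hq G x).card := by
    rw [← Nat.card_eq_finsetCard]
    refine Nat.card_congr
      { toFun := fun g => ⟨((g : G) : Equiv.Perm α), mem_Hq.mpr ⟨(g : G).2, fun i => ?_⟩⟩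
        invFun := fun g => ⟨⟨g.1, (mem_Hq.mp g.2).1⟩, ?_⟩
        left_inv := fun g => rfl
        right_inv := fun g => rfl }
    · have := DFunLike.congr_fun (MulAction.mem_stabilizer_iff.mp g.2) i
      simpa [Subgroup.smul_def] using this
    · rw [MulAction.mem_stabilizer_iff]
      ext i
      simpa [Subgroup.smul_def] using (mem_Hq.mp g.2).2 i
  have hidx : (MulAction.stabilizer G x).index = Nat.card (Fin 4 ↪ α) := by
    rw [MulAction.index_stabilizer, ← Set.ncard_univ (Fin 4 ↪ α)]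
    congr 1
    ext q
    simp only [Set.mem_univ, iff_true]
    obtain ⟨g, hg, hq⟩ := hT x q
    refine MulAction.mem_orbit_iff.mpr ⟨⟨g, hg⟩, ?_⟩
    rw [← hq]
    ext i
    simp [Subgroup.smul_def]
  have hcard : Nat.card G = (Fintype.card α).descFactorial 4 * (Hq G x).card := by
    rw [← hHq, ← (MulAction.stabilizer G x).card_mul_index,
      hidx, Nat.card_eq_fintype_card (α := Fin 4 ↪ α),
      Fintype.card_embedding_eq, Fintype.card_fin, mul_comm]
  have hpodd : Odd (Hq G x).card := hHq ▸ hodd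
  have hn4 : 4 ≤ Fintype.card α := by
    simpa using Fintype.card_le_of_embedding x
  have hdvd : Nat.card G ∣ Nat.factorial (Fintype.card α) := by
    have := Subgroup.card_subgroup_dvd_card G
    rw [Nat.card_perm, Nat.card_eq_fintype_card (α := α)] at this
    exact this
  haveI : Nontrivial α := Fintype.one_lt_card_iff_nontrivial.mp (by omega)
  have halt : 2 * Nat.card G = Nat.factorial (Fintype.card α) → G = alternatingGroup α := by
    intro h
    apply Equiv.Perm.eq_alternatingGroup_of_index_eq_two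
    have := G.card_mul_index
    rw [Nat.card_perm, Nat.card_eq_fintype_card (α := α), ← h, mul_comm 2] at this
    exact Nat.eq_of_mul_eq_mul_left Nat.card_pos this
  rcases Nat.lt_or_ge (Fintype.card α) 6 with h5 | h6
  · refine Or.inl ⟨by omega, ?_⟩
    apply Equiv.Perm.eq_top_of_isMultiplyPretransitive
    rw [Nat.card_eq_fintype_card]
    exact MulAction.isMultiplyPretransitive_of_le (n := 4) (by omega) (by simpa using hn4)
  rcases Nat.lt_or_ge (Fintype.card α) 8 with h7 | h8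
  · refine Or.inr (Or.inl ⟨by omega, halt ?_⟩)
    rcases (show Fintype.card α = 6 ∨ Fintype.card α = 7 by omega) with h | h
    · rw [h] at hcard hdvd ⊢
      rw [hcard] at hdvd ⊢
      have hd : (Hq G x).card ∣ 2 := by
        have h' : 360 * (Hq G x).card ∣ 360 * 2 := by simpa [Nat.descFactorial, Nat.factorial] using hdvd
        exact Nat.dvd_of_mul_dvd_mul_left (by norm_num) h'
      have := Nat.le_of_dvd (by norm_num) hd
      obtain ⟨m, hm⟩ := hpodd
      rw [show (Hq G x).card = 1 by omega]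
      decide
    · have hne := card_Hq_ne_one_of_seven hT hH h x
      rw [h] at hcard hdvd ⊢
      rw [hcard] at hdvd ⊢
      have hd : (Hq G x).card ∣ 6 := by
        have h' : 840 * (Hq G x).card ∣ 840 * 6 := by simpa [Nat.descFactorial, Nat.factorial] using hdvd
        exact Nat.dvd_of_mul_dvd_mul_left (by norm_num) h'
      have := Nat.le_of_dvd (by norm_num) hd
      obtain ⟨m, hm⟩ := hpodd
      have : (Hq G x).card = 3 := by
        have : (Hq G x).card ≠ 5 := fun h5 => by rw [h5] at hd; norm_num at hd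
        omega
      rw [this]
      decide
  · have h11 := degree_eq_eleven hT hH h8 x
    have hprim : MulAction.IsPreprimitive G α := by
      have : MulAction.IsMultiplyPretransitive G α 2 :=
        MulAction.isMultiplyPretransitive_of_le (n := 4) (by norm_num) (by simpa using hn4)
      exact MulAction.isPreprimitive_of_is_two_pretransitive this
    refine Or.inr (Or.inr ⟨h11, ?_⟩)
    rw [hcard, card_Hq_eq_one_of_eleven hT hH h11 hprim x, h11]
    decide

end Cfsg.Agent.S4221
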