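import Cfsg.Statements.S4222

set_option autoImplicit false
open Cfsg

namespace Cfsg.Agent.S4222

/-- If a normal subgroup `N` of a finite group is complete (its centre is trivial and every automorphism of `N` is inner), then the group is the internal direct product of `N` and the centralizer of `N`: the centralizer is a complement to `N`. -/
theorem result {T : Type*} [Group T] [Finite T] (N : Subgroup T) [N.Normal] (hz : Subgroup.center ↥N = ⊥) (ha : Function.Surjective (MulAut.conj : ↥N →* MulAut ↥N)) : (Subgroup.centralizer (N : Set T)).IsComplement' N := by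
  have hdisj : Disjoint (Subgroup.centralizer (N : Set T)) N := by
    rw [Subgroup.disjoint_def]
    intro t ht htN
    have hmem : (⟨t, htN⟩ : N) ∈ Subgroup.center N := by
      rw [Subgroup.mem_center_iff]
      intro n
      exact Subtype.ext (Subgroup.mem_centralizer_iff.mp ht n n.2)
    rw [hz, Subgroup.mem_bot] at hmem
    exact congrArg Subtype.val hmem
  refine Subgroup.isComplement'_of_disjoint_and_mul_eq_univ hdisj ?_
  rw [Set.eq_univ_iff_forall]
  intro t
  obtain ⟨n, hn⟩ := ha (MulAut.conjNormal t)
  refine ⟨t * (n : T)⁻¹, ?_, n, n.2, inv_mul_cancel_right t n⟩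
  rw [SetLike.mem_coe, Subgroup.mem_centralizer_iff]
  intro m hm
  have hcomp : ∀ m : N, t * (m : T) * t⁻¹ = (n : T) * m * (n : T)⁻¹ := by
    intro m
    have := congrArg (fun f : MulAut N => ((f m : N) : T)) hn
    simpa [MulAut.conjNormal_apply] using this.symm
  have h1 := hcomp (n⁻¹ * ⟨m, hm⟩ * n)
  simp only [Subgroup.coe_mul, Subgroup.coe_inv] at h1
  have h2 : (n : T) * ((n : T)⁻¹ * m * n) * (n : T)⁻¹ = m := by group
  rw [h2] at h1
  calc m * (t * (n : T)⁻¹) = t * ((n : T)⁻¹ * m * n) * t⁻¹ * (t * (n : T)⁻¹) := by rw [h1]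
    _ = t * (n : T)⁻¹ * m := by group

end Cfsg.Agent.S4222
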