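import Cfsg.Statements.S4223

set_option autoImplicit false
open Cfsg

namespace Cfsg.Agent.S4223

/-- No decomposition into two normal factors. -/
def Indec (G : Type*) [Group G] : Prop :=
  Nontrivial G ∧ ∀ H K : Subgroup G, H.Normal → K.Normal → H ⊓ K = ⊥ → H ⊔ K = ⊤ → H = ⊥ ∨ K = ⊥

/-- An endomorphism commuting with conjugation. -/
def IsNormalEndo {G : Type*} [Group G] (f : G →* G) : Prop := ∀ x a, f (x * a * x⁻¹) = x * f a * x⁻¹

theorem fitting {G : Type*} [Group G] [Finite G] (hG : Indec G) {f : G →* G} (hf : IsNormalEndo f) :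
    Function.Bijective f ∨ ∃ n : ℕ, ∀ x, (⇑f)^[n] x = 1 := by
  classical
  obtain ⟨a, b, hab, he⟩ := Finite.exists_ne_map_eq_of_infinite (fun n : ℕ => (⇑f)^[n])
  wlog hlt : a < b generalizing a b
  · exact this b a hab.symm he.symm (by omega)
  obtain ⟨d, rfl⟩ : ∃ d, b = a + (d + 1) := ⟨b - a - 1, by omega⟩
  have hper : ∀ k, a ≤ k → (⇑f)^[k + (d + 1)] = (⇑f)^[k] := fun k hk => by
    obtain ⟨t, rfl⟩ := Nat.exists_eq_add_of_le hk
    rw [show a + t + (d + 1) = t + (a + (d + 1)) by omega, Function.iterate_add, ← he,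
      ← Function.iterate_add, add_comm t a]
  obtain ⟨N, hN1, hN⟩ : ∃ N, 0 < N ∧ (⇑f)^[N + N] = (⇑f)^[N] := by
    refine ⟨(a + 1) * (d + 1), by positivity, ?_⟩
    have hk : ∀ j, (⇑f)^[(a + 1) * (d + 1) + j * (d + 1)] = (⇑f)^[(a + 1) * (d + 1)] := by
      intro j
      induction j with
      | zero => simp
      | succ j ih =>
        rw [show (a + 1) * (d + 1) + (j + 1) * (d + 1) = ((a + 1) * (d + 1) + j * (d + 1)) + (d + 1) by ring,
          hper _ (by nlinarith), ih]
    exact hk (a + 1)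
  have hit : ∀ n, ∀ x y, (⇑f)^[n] (x * y) = (⇑f)^[n] x * (⇑f)^[n] y := fun n => iterate_map_mul f n
  let g : G →* G := MonoidHom.mk' ((⇑f)^[N]) (hit N)
  have hg : ∀ x, g (g x) = g x := fun x => by
    show (⇑f)^[N] ((⇑f)^[N] x) = (⇑f)^[N] x
    rw [← Function.iterate_add_apply, hN]
  have hgn : IsNormalEndo g := by
    intro x a
    show (⇑f)^[N] _ = x * (⇑f)^[N] a * x⁻¹
    clear hN hN1 hg g
    induction N generalizing a with
    | zero => rfl
    | succ N ih => rw [Function.iterate_succ_apply, hf, ih, Function.iterate_succ_apply]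
  haveI : g.range.Normal := ⟨by
    rintro _ ⟨a, rfl⟩ x
    exact ⟨x * a * x⁻¹, hgn x a⟩⟩
  rcases hG.2 g.ker g.range inferInstance inferInstance (by
      rw [eq_bot_iff]
      rintro _ ⟨hk, a, rfl⟩
      have hk' : g (g a) = 1 := hk
      rw [hg] at hk'
      exact hk') (by
      rw [eq_top_iff]
      intro x _
      rw [show x = (x * (g x)⁻¹) * g x by group]
      exact Subgroup.mul_mem_sup (MonoidHom.mem_ker.mpr (by rw [map_mul, map_inv, hg, mul_inv_cancel]))
        ⟨x, rfl⟩) with h | h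
  · left
    have hinj : Function.Injective f := fun x y hxy => by
      apply (MonoidHom.ker_eq_bot_iff g).mp h
      show (⇑f)^[N] x = (⇑f)^[N] y
      obtain ⟨M, rfl⟩ : ∃ M, N = M + 1 := ⟨N - 1, by omega⟩
      rw [Function.iterate_succ_apply, Function.iterate_succ_apply, hxy]
    exact ⟨hinj, Finite.surjective_of_injective hinj⟩
  · exact Or.inr ⟨N, fun x => Subgroup.mem_bot.mp (h ▸ (⟨x, rfl⟩ : g x ∈ g.range))⟩

theorem sum_not_bij {G : Type*} [Group G] [Finite G] (hG : Indec G) {f g h : G →* G}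
    (hf : IsNormalEndo f) (hg : IsNormalEndo g) (hh : IsNormalEndo h) (he : ∀ a, h a = f a * g a)
    (hhb : Function.Bijective h) : Function.Bijective f ∨ Function.Bijective g := by
  let e := MulEquiv.ofBijective h hhb
  have he' : ∀ a, h (e.symm a) = a := fun a => e.apply_symm_apply a
  have hes : ∀ x a, e.symm (x * a * x⁻¹) = x * e.symm a * x⁻¹ := fun x a => hhb.1 (by
    rw [hh, he', he'])
  let f' : G →* G := f.comp e.symm.toMonoidHom
  let g' : G →* G := g.comp e.symm.toMonoidHom
  have hf' : IsNormalEndo f' := fun x a => by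
    show f (e.symm _) = x * f (e.symm a) * x⁻¹
    rw [hes, hf]
  have hg' : IsNormalEndo g' := fun x a => by
    show g (e.symm _) = x * g (e.symm a) * x⁻¹
    rw [hes, hg]
  have hback : ∀ φ : G →* G, Function.Bijective (φ.comp e.symm.toMonoidHom) → Function.Bijective φ :=
    fun φ hb => by
      have := hb.comp e.bijective
      have e1 : (⇑(φ.comp e.symm.toMonoidHom) ∘ ⇑e) = ⇑φ := funext fun a => by simp
      rwa [e1] at this
  rcases fitting hG hf' with hb | ⟨n, hn⟩
  · exact Or.inl (hback f hb)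
  rcases fitting hG hg' with hb | ⟨n', hn'⟩
  · exact Or.inr (hback g hb)
  exfalso
  haveI := hG.1
  obtain ⟨x, hx, hfx⟩ : ∃ x : G, x ≠ 1 ∧ f' x = 1 := by
    obtain ⟨y, hy⟩ := exists_ne (1 : G)
    induction n generalizing y with
    | zero => exact absurd (hn y) hy
    | succ n ih =>
      by_cases h1 : f' y = 1
      · exact ⟨y, hy, h1⟩
      · by_cases h2 : ∀ z, (⇑f')^[n] z = 1
        · exact ih h2 y hy
        · push Not at h2
          obtain ⟨z, hz⟩ := h2
          refine ⟨_, hz, ?_⟩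
          exact (Function.iterate_succ_apply' (⇑f') n z).symm.trans (hn z)
  have hgx : g' x = x := by
    have := (he (e.symm x)).symm.trans (he' x)
    change f' x * g' x = x at this
    rwa [hfx, one_mul] at this
  exact hx (by rw [← Function.iterate_fixed hgx n']; exact hn' x)

theorem match_factor {ι κ : Type} [Fintype ι] [Fintype κ] [DecidableEq ι] [DecidableEq κ]
    {A : ι → Type*} {B : κ → Type*} [∀ i, Group (A i)] [∀ j, Group (B j)] [∀ i, Finite (A i)]
    [∀ j, Finite (B j)] (hA : ∀ i, Indec (A i)) (hB : ∀ j, Indec (B j))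
    (e : (∀ i, A i) ≃* ∀ j, B j) (i₀ : ι) :
    ∃ j₀, Nonempty (A i₀ ≃* B j₀) ∧
      Nonempty ((∀ i : {i // i ≠ i₀}, A i) ≃* ∀ j : {j // j ≠ j₀}, B j) := by
  classical
  let α : ∀ j, A i₀ →* B j := fun j =>
    (Pi.evalMonoidHom B j).comp (e.toMonoidHom.comp (MonoidHom.mulSingle A i₀))
  let res : Finset κ → ((∀ j, B j) →* ∀ j, B j) := fun T =>
    MonoidHom.mk' (fun v j => if j ∈ T then v j else 1) fun u v => funext fun j => by
      by_cases h : j ∈ T <;> simp [h]
  let f : Finset κ → (A i₀ →* A i₀) := fun T =>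
    (Pi.evalMonoidHom A i₀).comp (e.symm.toMonoidHom.comp ((res T).comp
      (e.toMonoidHom.comp (MonoidHom.mulSingle A i₀))))
  have hfT : ∀ T a, f T a = e.symm (res T (e (Pi.mulSingle i₀ a))) i₀ := fun T a => rfl
  have hres : ∀ T (Y v : ∀ j, B j), res T (Y * v * Y⁻¹) = Y * res T v * Y⁻¹ := fun T Y v =>
    funext fun j => by by_cases h : j ∈ T <;> simp [res, h]
  have hn : ∀ T, IsNormalEndo (f T) := fun T x a => by
    rw [hfT, hfT, Pi.mulSingle_mul, Pi.mulSingle_mul, Pi.mulSingle_inv, map_mul e, map_mul e, map_inv e,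
      hres, map_mul e.symm, map_mul e.symm, map_inv e.symm, e.symm_apply_apply]
    simp
  have key : ∀ T, Function.Bijective (f T) → ∃ j, Function.Bijective (f {j}) := by
    intro T
    induction T using Finset.induction_on with
    | empty =>
      intro hb
      haveI := (hA i₀).1
      obtain ⟨x, hx⟩ := exists_ne (1 : A i₀)
      refine absurd (hb.1 ?_) hx
      have h0 : ∀ a, res ∅ a = 1 := fun a => funext fun j => by simp [res]
      rw [hfT, hfT, h0, h0]
    | @insert j T hj ih =>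
      intro hb
      rcases sum_not_bij (hA i₀) (hn {j}) (hn T) (hn _) (fun a => by
        rw [hfT, hfT, hfT, ← Pi.mul_apply, ← map_mul]
        refine congrArg (fun v => e.symm v i₀) (funext fun k => ?_)
        by_cases hk : k = j
        · subst hk; simp [res, hj]
        · simp [res, hk]) hb with h | h
      · exact ⟨j, h⟩
      · exact ih h
  obtain ⟨j₀, hj₀⟩ := key Finset.univ (by
    have : ∀ a, f Finset.univ a = a := fun a => by
      have h1 : ∀ v, res Finset.univ v = v := fun v => funext fun j => by simp [res]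
      rw [hfT, h1, e.symm_apply_apply, Pi.mulSingle_eq_same]
    rw [show (⇑(f Finset.univ)) = id from funext this]
    exact Function.bijective_id)
  let β : B j₀ →* A i₀ := (Pi.evalMonoidHom A i₀).comp (e.symm.toMonoidHom.comp (MonoidHom.mulSingle B j₀))
  have hβα : ∀ a, β (α j₀ a) = f {j₀} a := fun a => by
    show e.symm (Pi.mulSingle j₀ _) i₀ = _
    rw [hfT]
    refine congrArg (fun v => e.symm v i₀) (funext fun k => ?_)
    by_cases hk : k = j₀
    · subst hk; simp [res, α]
    · simp [res, hk]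
  have hαinj : Function.Injective (α j₀) := fun a b h => hj₀.1 (by rw [← hβα, ← hβα, h])
  haveI : (MonoidHom.mulSingle A i₀).range.Normal := ⟨by
    rintro _ ⟨a, rfl⟩ x
    refine ⟨x i₀ * a * (x i₀)⁻¹, funext fun i => ?_⟩
    by_cases hi : i = i₀
    · subst hi; simp
    · simp [hi]⟩
  haveI hrn : (α j₀).range.Normal := by
    have e1 : (α j₀).range = ((MonoidHom.mulSingle A i₀).range).map
        ((Pi.evalMonoidHom B j₀).comp e.toMonoidHom) := by
      rw [MonoidHom.map_range]; rfl
    rw [e1]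
    exact Subgroup.Normal.map inferInstance _
      ((Function.surjective_eval j₀).comp e.surjective)
  rcases (hB j₀).2 (α j₀).range β.ker hrn inferInstance (by
      rw [eq_bot_iff]
      rintro _ ⟨⟨a, rfl⟩, hk⟩
      have hk' : β (α j₀ a) = 1 := hk
      rw [hβα, ← map_one (f {j₀})] at hk'
      rw [hj₀.1 hk', map_one]
      exact one_mem _) (by
      rw [eq_top_iff]
      intro b _
      obtain ⟨a, ha⟩ := hj₀.2 (β b)
      rw [show b = α j₀ a * ((α j₀ a)⁻¹ * b) by group]
      exact Subgroup.mul_mem_sup ⟨a, rfl⟩ (MonoidHom.mem_ker.mpr (by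
        rw [map_mul, map_inv, hβα, ha, inv_mul_cancel]))) with h | h
  · haveI := (hA i₀).1
    obtain ⟨x, hx⟩ := exists_ne (1 : A i₀)
    exact absurd (hαinj ((Subgroup.mem_bot.mp (h ▸ (⟨x, rfl⟩ : α j₀ x ∈ (α j₀).range))).trans (map_one _).symm)) hx
  have hβinj : Function.Injective β := (MonoidHom.ker_eq_bot_iff β).mp h
  have hαs : Function.Surjective (α j₀) := fun b => by
    obtain ⟨a, ha⟩ := hj₀.2 (β b)
    exact ⟨a, hβinj (by rw [hβα, ha])⟩
  refine ⟨j₀, ⟨MulEquiv.ofBijective (α j₀) ⟨hαinj, hαs⟩⟩, ?_⟩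
  let ext : (∀ i : {i // i ≠ i₀}, A i) →* ∀ i, A i :=
    MonoidHom.mk' (fun v i => if h : i = i₀ then 1 else v ⟨i, h⟩) fun u v => funext fun i => by
      by_cases h : i = i₀ <;> simp [h]
  let Ψ : (∀ i : {i // i ≠ i₀}, A i) →* ∀ j : {j // j ≠ j₀}, B j :=
    MonoidHom.mk' (fun v j => e (ext v) j) fun u v => funext fun j => by simp
  have hinj : Function.Injective Ψ := by
    rw [injective_iff_map_eq_one]
    intro v hv
    have h1 : e (ext v) = Pi.mulSingle j₀ (e (ext v) j₀) := funext fun j => by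
      by_cases hj : j = j₀
      · subst hj; simp
      · rw [Pi.mulSingle_eq_of_ne hj]; exact congrFun hv ⟨j, hj⟩
    have h2 : β (e (ext v) j₀) = 1 := by
      show e.symm (Pi.mulSingle j₀ _) i₀ = 1
      rw [← h1, e.symm_apply_apply]
      simp [ext]
    rw [hβinj (h2.trans (map_one β).symm), Pi.mulSingle_one] at h1
    have h3 : ext v = 1 := e.injective (h1.trans (map_one e).symm)
    funext i
    have := congrFun h3 i
    simpa [ext, i.2] using this
  have hcard : Nat.card (∀ i : {i // i ≠ i₀}, A i) = Nat.card (∀ j : {j // j ≠ j₀}, B j) := by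
    have h1 := Nat.card_congr (Equiv.piSplitAt i₀ A)
    have h2 := Nat.card_congr (Equiv.piSplitAt j₀ B)
    rw [Nat.card_congr e.toEquiv, h2, Nat.card_prod, Nat.card_prod,
      ← Nat.card_congr (MulEquiv.ofBijective (α j₀) ⟨hαinj, hαs⟩).toEquiv] at h1
    exact (Nat.eq_of_mul_eq_mul_left Nat.card_pos h1).symm
  exact ⟨MulEquiv.ofBijective Ψ ((Nat.bijective_iff_injective_and_card _).mpr ⟨hinj, hcard⟩)⟩

universe uA uB

theorem main : ∀ (c : ℕ) (ι κ : Type) [Fintype ι] [Fintype κ] [DecidableEq ι] [DecidableEq κ]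
    (A : ι → Type uA) (B : κ → Type uB) [∀ i, Group (A i)] [∀ j, Group (B j)] [∀ i, Finite (A i)]
    [∀ j, Finite (B j)], Fintype.card ι = c → (∀ i, Indec (A i)) → (∀ j, Indec (B j)) →
    ((∀ i, A i) ≃* ∀ j, B j) → ∃ σ : ι ≃ κ, ∀ i, Nonempty (A i ≃* B (σ i)) := by
  intro c
  induction c with
  | zero =>
    intro ι κ _ _ _ _ A B _ _ _ _ hc hA hB e
    haveI := Fintype.card_eq_zero_iff.mp hc
    haveI : IsEmpty κ := ⟨fun j => by
      haveI := (hB j).1
      obtain ⟨b, hb⟩ := exists_ne (1 : B j)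
      have h : e.symm (Pi.mulSingle j b) = e.symm 1 := Subsingleton.elim _ _
      exact hb (Pi.mulSingle_eq_one_iff.mp (e.symm.injective h))⟩
    exact ⟨Equiv.equivOfIsEmpty ι κ, fun i => isEmptyElim i⟩
  | succ c ih =>
    intro ι κ _ _ _ _ A B _ _ _ _ hc hA hB e
    obtain ⟨i₀⟩ : Nonempty ι := Fintype.card_pos_iff.mp (by omega)
    obtain ⟨j₀, hij, ⟨e'⟩⟩ := match_factor hA hB e i₀
    obtain ⟨τ, hτ⟩ := ih {i // i ≠ i₀} {j // j ≠ j₀} (fun i => A i) (fun j => B j)
      (by simp [Fintype.card_subtype_compl, hc]) (fun i => hA i) (fun j => hB j) e'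
    refine ⟨(Equiv.optionSubtypeNe i₀).symm.trans ((Equiv.optionCongr τ).trans
      (Equiv.optionSubtypeNe j₀)), fun i => ?_⟩
    by_cases hi : i = i₀
    · subst hi
      have h : (Equiv.optionSubtypeNe j₀) (τ.optionCongr ((Equiv.optionSubtypeNe i).symm i)) = j₀ := by
        rw [Equiv.optionSubtypeNe_symm_self]; rfl
      simp only [Equiv.trans_apply]
      exact h.symm ▸ hij
    · have h : (Equiv.optionSubtypeNe j₀) (τ.optionCongr ((Equiv.optionSubtypeNe i₀).symm i)) = τ ⟨i, hi⟩ := by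
        rw [Equiv.optionSubtypeNe_symm_of_ne hi]; rfl
      simp only [Equiv.trans_apply]
      exact h.symm ▸ hτ ⟨i, hi⟩


/-- If a finite group is isomorphic both to a direct product of `m` directly indecomposable nontrivial groups and to a direct product of `n` such groups (a group is directly indecomposable when it is not the internal direct product of two nontrivial normal subgroups), then `m = n` and the factors are isomorphic in pairs after a suitable matching. -/
theorem result {m n : ℕ} {A : Fin m → Type*} {B : Fin n → Type*} [∀ i, Group (A i)] [∀ j, Group (B j)] [∀ i, Finite (A i)] [∀ j, Finite (B j)] (hA : ∀ i, Nontrivial (A i) ∧ ∀ H K : Subgroup (A i), H.Normal → K.Normal → H ⊓ K = ⊥ → H ⊔ K = ⊤ → H = ⊥ ∨ K = ⊥) (hB : ∀ j, Nontrivial (B j) ∧ ∀ H K : Subgroup (B j), H.Normal → K.Normal → H ⊓ K = ⊥ → H ⊔ K = ⊤ → H = ⊥ ∨ K = ⊥) (e : ((i : Fin m) → A i) ≃* ((j : Fin n) → B j)) : ∃ σ : Fin m ≃ Fin n, ∀ i, Nonempty (A i ≃* B (σ i)) := by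
  classical
  exact main m (Fin m) (Fin n) A B (Fintype.card_fin m) hA hB e

end Cfsg.Agent.S4223
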