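import Cfsg.Statements.S4227
import Cfsg.Agent.S0144
import Cfsg.Agent.Lib.OddLocal.PStable
import Cfsg.Agent.Lib.PLength.Basic
import Cfsg.Agent.Lib.Coprime.Generation

set_option autoImplicit false
open Cfsg

namespace Cfsg.Agent.S4227

open scoped commutatorElement

universe u

theorem eq_pow_two_three : ∀ n : ℕ, 0 < n → (∀ q : ℕ, q.Prime → q ∣ n → q = 2 ∨ q = 3) →
    ∃ a b : ℕ, n = 2 ^ a * 3 ^ b := by
  intro n hn h
  obtain ⟨a, m, hm, rfl⟩ := Nat.exists_eq_two_pow_mul_odd hn.ne'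
  refine ⟨a, _, congrArg (2 ^ a * ·) (Nat.eq_prime_pow_of_unique_prime_dvd ?_ ?_)⟩
  · exact fun h0 => by simp [h0] at hm
  · intro q hq hqm
    rcases h q hq (hqm.mul_left _) with rfl | rfl
    · exact absurd hqm hm.not_two_dvd_nat
    · rfl

theorem isSolvable_of_exp {G : Type u} [Group G] [Finite G] (h6 : ∀ x : G, x ^ 6 = 1) :
    Group.IsSolvable G := by
  obtain ⟨a, b, hab⟩ := eq_pow_two_three (Nat.card G) Nat.card_pos fun q hq hqd => by
    haveI := Fact.mk hq
    obtain ⟨x, hx⟩ := exists_prime_orderOf_dvd_card' q hqd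
    have h1 : q ∣ 6 := hx ▸ orderOf_dvd_of_pow_eq_one (h6 x)
    have h2 := Nat.le_of_dvd (by norm_num) h1
    interval_cases q <;> first | omega | (revert hq h1; norm_num)
  exact Cfsg.Agent.S0144.result 2 3 a b Nat.prime_two Nat.prime_three hab

theorem pow_prime_eq_one {G : Type u} [Group G] {p k : ℕ} (hp : p = 2 ∨ p = 3) {x : G}
    (h6 : x ^ 6 = 1) (hk : x ^ p ^ k = 1) : x ^ p = 1 := by
  have hpp : p.Prime := by rcases hp with rfl | rfl <;> norm_num
  obtain ⟨i, -, hi⟩ := (Nat.dvd_prime_pow hpp).mp (orderOf_dvd_of_pow_eq_one hk)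
  have h : orderOf x ∣ 6 := orderOf_dvd_of_pow_eq_one h6
  refine orderOf_dvd_iff_pow_eq_one.mp (hi ▸ ?_)
  rcases Nat.lt_or_ge i 2 with hlt | hge
  · interval_cases i <;> simp
  · exfalso
    have h4 : p ^ 2 ∣ 6 := (pow_dvd_pow p hge).trans (hi ▸ h)
    rcases hp with rfl | rfl <;> norm_num at h4

theorem ring_lemma {R : Type u} [Ring R] (h3 : (3 : R) = 0) {a b c X : R} (ha : a * a = 1)
    (hb : b * b = 1) (hab : a * b = c) (hba : b * a = c) (hXa : X * a = b * X) (hXb : X * b = c * X)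
    (hXc : X * c = a * X) (hX : X * X + X + 1 = 0) (haX : a * X * (a * X) + a * X + 1 = 0) :
    a = 1 := by
  have hc : c * c = 1 := by
    calc c * c = a * b * (b * a) := by rw [hab, hba]
      _ = a * (b * b) * a := by noncomm_ring
      _ = 1 := by rw [hb, mul_one, ha]
  have hac : a * c = b := by rw [← hab, ← mul_assoc, ha, one_mul]
  have hbc : b * c = a := by rw [← hba, ← mul_assoc, hb, one_mul]
  have hca : c * a = b := by rw [← hba, mul_assoc, ha, mul_one]
  have hcb : c * b = a := by rw [← hab, mul_assoc, hb, mul_one]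
  have hXX : X * X = -X - 1 := by linear_combination (norm := noncomm_ring) hX
  have hinv : ∀ t : R, t * X = 0 → t = 0 := by
    intro t ht
    have h : t * (X * X + X + 1) = 0 := by rw [hX, mul_zero]
    rw [mul_add, mul_add, ← mul_assoc, ht, zero_mul, zero_add, zero_add, mul_one] at h
    exact h
  have e1' : (a - c) * X + (1 - c) = 0 := by
    have h : a * X * (a * X) = c * (X * X) := by
      rw [mul_assoc, ← mul_assoc X a X, hXa, mul_assoc b X X, ← mul_assoc, hab]
    rw [h, hXX] at haX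
    rw [← haX]
    noncomm_ring
  have conj : ∀ s t s' t' : R, X * s = s' * X → X * t = t' * X → s * X + t = 0 →
      s' * X + t' = 0 := by
    intro s t s' t' hs ht h
    apply hinv
    calc (s' * X + t') * X = X * (s * X + t) := by
          rw [mul_add, ← mul_assoc, hs, ht]; noncomm_ring
      _ = 0 := by rw [h, mul_zero]
  have e2 : (b - a) * X + (1 - a) = 0 := conj _ _ _ _ (by rw [mul_sub, sub_mul, hXa, hXc])
    (by rw [mul_sub, sub_mul, mul_one, one_mul, hXc]) e1'
  have e3' : (c - b) * X + (1 - b) = 0 := conj _ _ _ _ (by rw [mul_sub, sub_mul, hXb, hXa])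
    (by rw [mul_sub, sub_mul, mul_one, one_mul, hXa]) e2
  have e1 : (1 - b) * X + (a - b) = 0 := by
    have h : a * ((a - c) * X + (1 - c)) = 0 := by rw [e1', mul_zero]
    rw [mul_add, ← mul_assoc, mul_sub, mul_sub, ha, hac, mul_one] at h
    exact h
  have e3 : (1 - a) * X + (c - a) = 0 := by
    have h : c * ((c - b) * X + (1 - b)) = 0 := by rw [e3', mul_zero]
    rw [mul_add, ← mul_assoc, mul_sub, mul_sub, hc, hcb, mul_one] at h
    exact h
  have f3 : c - a + (b - 1) = 0 := by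
    have h : (1 + a) * ((1 - a) * X + (c - a)) = 0 := by rw [e3, mul_zero]
    have h0 : (1 + a) * (1 - a) = 0 := by
      rw [add_mul, one_mul, mul_sub, mul_one, ha]; noncomm_ring
    rw [mul_add, ← mul_assoc, h0, zero_mul, zero_add, add_mul, one_mul, mul_sub, hac, ha] at h
    exact h
  have f1 : a - b + (c - 1) = 0 := by
    have h : (1 + b) * ((1 - b) * X + (a - b)) = 0 := by rw [e1, mul_zero]
    have h0 : (1 + b) * (1 - b) = 0 := by
      rw [add_mul, one_mul, mul_sub, mul_one, hb]; noncomm_ring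
    rw [mul_add, ← mul_assoc, h0, zero_mul, zero_add, add_mul, one_mul, mul_sub, hba, hb] at h
    exact h
  have hc1 : c = 1 := by
    have h2 : c + c - (1 + 1) = 0 := by
      rw [show c + c - (1 + 1) = (c - a + (b - 1)) + (a - b + (c - 1)) by abel, f3, f1, add_zero]
    have h3'' : (1 + 1 + 1 : R) = 0 := by rw [← h3]; norm_num
    have h3' : c * (1 + 1 + 1) = 0 := by rw [h3'', mul_zero]
    have e : c * (1 + 1 + 1) - (c + c - (1 + 1)) - (1 + 1 + 1) = c - 1 := by noncomm_ring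
    rw [h3', h2, h3'', sub_zero, sub_zero] at e
    exact sub_eq_zero.mp e.symm
  rw [hc1, mul_one] at hXc
  exact (sub_eq_zero.mp (hinv (1 - a) (by rw [sub_mul, one_mul, ← hXc, sub_self]))).symm

section
variable {Q : Type u} [Group Q] [Finite Q]

theorem three_mem (h6 : ∀ x : Q, x ^ 6 = 1) (hQ : Cfsg.pPrimeCore 3 Q = ⊥) (x : Q) (hx : x ^ 3 = 1) :
    x ∈ Cfsg.pCore 3 Q := by
  haveI hp3 : Fact (Nat.Prime 3) := ⟨Nat.prime_three⟩
  haveI hp2 : Fact (Nat.Prime 2) := ⟨Nat.prime_two⟩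
  haveI := isSolvable_of_exp h6
  set V := Cfsg.pCore 3 Q with hV
  have hVp : IsPGroup 3 V := Cfsg.Agent.Lib.Cores.pCore_isPGroup 3 Q
  have hC := Cfsg.Agent.Lib.OddLocal.centralizer_pCore_le hQ
  have hV3 : ∀ v : V, v ^ 3 = 1 := fun v => by
    obtain ⟨k, hk⟩ := hVp v
    exact pow_prime_eq_one (Or.inr rfl) (Subtype.ext (h6 v)) hk
  set W := frattini V
  haveI : W.Characteristic := inferInstance
  let M := V ⧸ W
  have hcomm : ∀ a b : M, a * b = b * a := by
    intro a b
    induction a using QuotientGroup.induction_on with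
    | _ a =>
      induction b using QuotientGroup.induction_on with
      | _ b =>
        rw [← QuotientGroup.mk_mul, ← QuotientGroup.mk_mul, QuotientGroup.eq]
        refine Cfsg.Agent.Lib.Coprime.commutator_le_frattini_of_isPGroup hVp ?_
        have : (a * b)⁻¹ * (b * a) = ⁅b⁻¹, a⁻¹⁆ := by rw [commutatorElement_def]; group
        rw [this]
        exact Subgroup.commutator_mem_commutator (Subgroup.mem_top _) (Subgroup.mem_top _)
  letI : CommGroup M := { (inferInstance : Group M) with mul_comm := hcomm }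
  let mapM : Q → M →* M := fun q => QuotientGroup.map W W (MulAut.conjNormal q).toMonoidHom
    ((Subgroup.characteristic_iff_comap_eq.mp inferInstance (MulAut.conjNormal q)).ge)
  have hmapM : ∀ q (v : V), mapM q v = ((MulAut.conjNormal q v : V) : M) := fun q v => rfl
  let ρ : Q →* AddMonoid.End (Additive M) :=
    { toFun := fun q => MonoidHom.toAdditive (mapM q)
      map_one' := by
        refine AddMonoidHom.ext fun m => ?_
        obtain ⟨v, rfl⟩ := QuotientGroup.mk_surjective (Additive.toMul m)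
        show mapM 1 v = (v : M)
        rw [hmapM, map_one, MulAut.one_apply]
      map_mul' := fun q r => by
        refine AddMonoidHom.ext fun m => ?_
        obtain ⟨v, rfl⟩ := QuotientGroup.mk_surjective (Additive.toMul m)
        show mapM (q * r) v = mapM q (mapM r v)
        rw [hmapM, hmapM, hmapM, map_mul, MulAut.mul_apply] }
  have hρ : ∀ q (v : V), ρ q (Additive.ofMul (v : M)) =
      Additive.ofMul ((MulAut.conjNormal q v : V) : M) := fun q v => rfl
  have hρV : V ≤ MonoidHom.ker ρ := by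
    intro v hv
    rw [MonoidHom.mem_ker]
    refine AddMonoidHom.ext fun m => ?_
    obtain ⟨w, rfl⟩ := QuotientGroup.mk_surjective (Additive.toMul m)
    show ((MulAut.conjNormal v w : V) : M) = (w : M)
    have : (MulAut.conjNormal v w : V) = ⟨v, hv⟩ * w * ⟨v, hv⟩⁻¹ := Subtype.ext (by simp)
    rw [this, QuotientGroup.mk_mul, QuotientGroup.mk_mul, QuotientGroup.mk_inv, hcomm, ← mul_assoc,
      inv_mul_cancel, one_mul]
  let σ : Q ⧸ V →* AddMonoid.End (Additive M) := QuotientGroup.lift V ρ hρV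
  have h30 : (3 : AddMonoid.End (Additive M)) = 0 := by
    refine AddMonoidHom.ext fun m => ?_
    obtain ⟨v, rfl⟩ := QuotientGroup.mk_surjective (Additive.toMul m)
    show ((3 : ℕ) : AddMonoid.End (Additive M)) (Additive.ofMul (v : M)) = 0
    rw [AddMonoid.End.natCast_apply, ← ofMul_pow, ← QuotientGroup.mk_pow, hV3]
    rfl
  have hrel : ∀ q : Q, q ^ 3 = 1 → ρ q * ρ q + ρ q + 1 = 0 := by
    intro q hq
    refine AddMonoidHom.ext fun m => ?_
    obtain ⟨v, rfl⟩ := QuotientGroup.mk_surjective (Additive.toMul m)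
    show ρ q (ρ q (Additive.ofMul (v : M))) + ρ q (Additive.ofMul (v : M)) + Additive.ofMul (v : M) = 0
    rw [hρ, hρ, ← ofMul_mul, ← ofMul_mul, hcomm ((MulAut.conjNormal q (MulAut.conjNormal q v) : V) : M),
      ← QuotientGroup.mk_mul, ← QuotientGroup.mk_mul]
    have h9 : (q * v) ^ 9 = 1 := by
      have h3 : (q * v) ^ 3 ∈ V := by
        rw [← QuotientGroup.eq_one_iff, QuotientGroup.mk_pow, QuotientGroup.mk_mul,
          (QuotientGroup.eq_one_iff (v : Q)).mpr v.2, mul_one, ← QuotientGroup.mk_pow, hq]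
        rfl
      have := congrArg Subtype.val (hV3 ⟨_, h3⟩)
      rw [pow_mul _ 3 3]
      exact this
    have h3 : (q * v) ^ 3 = 1 := pow_prime_eq_one (k := 2) (Or.inr rfl) (h6 _) (by norm_num; exact h9)
    have : (MulAut.conjNormal q v * MulAut.conjNormal q (MulAut.conjNormal q v) * v : V) = 1 := by
      refine Subtype.ext ?_
      simp only [Subgroup.coe_mul, MulAut.conjNormal_apply, OneMemClass.coe_one]
      have hq2 : q⁻¹ = q * q := by
        rw [inv_eq_iff_mul_eq_one, ← mul_assoc, ← pow_two, ← pow_succ, hq]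
      calc q * v * q⁻¹ * (q * (q * v * q⁻¹) * q⁻¹) * v = q * v * q * v * q⁻¹ * q⁻¹ * v := by group
        _ = q * v * q * v * (q * q) * (q * q) * v := by rw [hq2]
        _ = (q * v) * (q * v) * (q ^ 3 * (q * v)) := by
          simp only [pow_succ, pow_zero, one_mul, mul_assoc]
        _ = (q * v) ^ 3 := by rw [hq, one_mul, pow_succ, pow_two]
        _ = 1 := h3
    rw [this]
    rfl
  have hrel' : ∀ y : Q ⧸ V, y ^ 3 = 1 → σ y * σ y + σ y + 1 = 0 := by
    intro y hy
    obtain ⟨q, rfl⟩ := QuotientGroup.mk_surjective y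
    have h : ((q ^ 4 : Q) : Q ⧸ V) = q := by
      rw [QuotientGroup.mk_pow, pow_succ, hy, one_mul]
    rw [← h]
    exact hrel _ (by rw [← pow_mul, show 4 * 3 = 6 * 2 from rfl, pow_mul, h6, one_pow])
  have h6' : ∀ y : Q ⧸ V, y ^ 6 = 1 := by
    intro y
    obtain ⟨q, rfl⟩ := QuotientGroup.mk_surjective y
    rw [← QuotientGroup.mk_pow, h6]
    rfl
  haveI := isSolvable_of_exp h6'
  have hbot : Cfsg.pPrimeCore 2 (Q ⧸ V) = ⊥ := by
    refine Cfsg.Agent.Lib.Cores.pPrimeCore_eq_bot_iff.mpr fun N hN hN2 => ?_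
    refine (Cfsg.Agent.Lib.Cores.pCore_eq_bot_iff.mp
      (Cfsg.Agent.Lib.Cores.pCore_quotient_pCore 3 Q)) N hN fun n => ⟨1, ?_⟩
    have ho : (orderOf n).Coprime 2 := hN2.coprime_dvd_left (orderOf_dvd_natCard n)
    have h : orderOf n ∣ 2 * 3 := by
      rw [← Subgroup.orderOf_coe n]
      exact orderOf_dvd_of_pow_eq_one (h6' n)
    exact orderOf_dvd_iff_pow_eq_one.mp (by rw [pow_one]; exact ho.dvd_of_dvd_mul_left h)
  set U := Cfsg.pCore 2 (Q ⧸ V)
  have hUn : U.Normal := inferInstance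
  have hU2 : ∀ a ∈ U, a * a = 1 := fun a ha => by
    obtain ⟨k, hk⟩ := Cfsg.Agent.Lib.Cores.pCore_isPGroup 2 (Q ⧸ V) ⟨a, ha⟩
    rw [← pow_two]
    exact pow_prime_eq_one (Or.inl rfl) (h6' a) (congrArg Subtype.val hk)
  have hUc : ∀ a ∈ U, ∀ b ∈ U, a * b = b * a := fun a ha b hb => by
    have h := inv_eq_of_mul_eq_one_right (hU2 _ (mul_mem ha hb))
    rw [mul_inv_rev, inv_eq_of_mul_eq_one_right (hU2 a ha),
      inv_eq_of_mul_eq_one_right (hU2 b hb)] at h
    exact h.symm
  obtain ⟨X, hXdef⟩ : ∃ X : Q ⧸ V, X = ((x : Q) : Q ⧸ V) := ⟨_, rfl⟩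
  have hX3 : X ^ 3 = 1 := by rw [hXdef, ← QuotientGroup.mk_pow, hx]; rfl
  have hX3' : ∀ a : Q ⧸ V, X * (X * (X * a * X⁻¹) * X⁻¹) * X⁻¹ = a := fun a => by
    calc _ = X ^ 3 * a * (X ^ 3)⁻¹ := by
          simp only [pow_succ, pow_zero, one_mul, mul_inv_rev, mul_assoc]
      _ = a := by rw [hX3]; group
  have key : ∀ u ∈ U, X * u = u * X := by
    intro u hu
    set u1 := X * u * X⁻¹ with hu1
    set u2 := X * u1 * X⁻¹ with hu2
    have hu1m : u1 ∈ U := hUn.conj_mem u hu X
    have hu2m : u2 ∈ U := hUn.conj_mem u1 hu1m X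
    set w := u * u1 * u2 with hw
    have hwm : w ∈ U := mul_mem (mul_mem hu hu1m) hu2m
    have hwX : X * w * X⁻¹ = w := by
      calc X * w * X⁻¹ = u1 * u2 * (X * u2 * X⁻¹) := by rw [hw, hu2, hu1]; group
        _ = u1 * u2 * u := by rw [show X * u2 * X⁻¹ = u from hX3' u]
        _ = w := by rw [hw, ← hUc u hu _ (mul_mem hu1m hu2m)]; group
    set a := u * w with ha
    have ham : a ∈ U := mul_mem hu hwm
    have hb : X * a * X⁻¹ = u1 * w := by
      calc X * a * X⁻¹ = u1 * (X * w * X⁻¹) := by rw [ha, hu1]; group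
        _ = u1 * w := by rw [hwX]
    have hc : X * (u1 * w) * X⁻¹ = u2 * w := by
      calc X * (u1 * w) * X⁻¹ = u2 * (X * w * X⁻¹) := by rw [hu2]; group
        _ = u2 * w := by rw [hwX]
    have ha' : X * (u2 * w) * X⁻¹ = a := by
      calc X * (u2 * w) * X⁻¹ = X * u2 * X⁻¹ * (X * w * X⁻¹) := by group
        _ = a := by rw [hwX, show X * u2 * X⁻¹ = u from hX3' u]
    have hbm : u1 * w ∈ U := mul_mem hu1m hwm
    have hab : a * (u1 * w) = u2 * w := by
      calc a * (u1 * w) = u * (w * u1) * w := by rw [ha]; group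
        _ = u * (u1 * w) * w := by rw [hUc w hwm u1 hu1m]
        _ = u * u1 * (w * w) := by group
        _ = u * u1 * (u2 * u2) := by rw [hU2 w hwm, hU2 u2 hu2m]
        _ = w * u2 := by rw [hw]; group
        _ = u2 * w := hUc w hwm u2 hu2m
    have haX3 : (a * X) ^ 3 = 1 := by
      calc (a * X) ^ 3 = a * (X * a * X⁻¹) * (X * (X * a * X⁻¹) * X⁻¹) * X ^ 3 := by
            simp [pow_succ, mul_assoc]
        _ = a * (u1 * w) * (u2 * w) := by rw [hb, hc, hX3, mul_one]
        _ = 1 := by rw [hab, hU2 _ (mul_mem hu2m hwm)]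
    have hconj : ∀ s t : Q ⧸ V, X * s * X⁻¹ = t → σ X * σ s = σ t * σ X := fun s t h => by
      rw [← map_mul, ← map_mul, ← h, inv_mul_cancel_right]
    have ha1 : σ a = 1 := by
      refine ring_lemma h30 (a := σ a) (b := σ (u1 * w)) (c := σ (u2 * w)) (X := σ X) ?_ ?_ ?_ ?_
        (hconj _ _ hb) (hconj _ _ hc) (hconj _ _ ha') (hrel' X hX3) ?_
      · rw [← map_mul, hU2 a ham, map_one]
      · rw [← map_mul, hU2 _ hbm, map_one]
      · rw [← map_mul, hab]
      · rw [← map_mul, ← hUc a ham _ hbm, hab]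
      · rw [← map_mul]
        exact hrel' _ haX3
    have hb1 : σ (u1 * w) = 1 := by
      have h := hconj _ _ hb
      rw [ha1, mul_one] at h
      have := congrArg (· * σ X⁻¹) h
      simp only [mul_assoc, ← map_mul, mul_inv_cancel, map_one, mul_one] at this
      exact this.symm
    set k := u1 * u with hk
    have hkm : k ∈ U := mul_mem hu1m hu
    have hk1 : σ k = 1 := by
      have : k = u1 * w * (u * w) := by
        calc k = u1 * (w * w) * u := by rw [hU2 w hwm, mul_one, hk]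
          _ = u1 * w * (w * u) := by group
          _ = u1 * w * (u * w) := by rw [hUc w hwm u hu]
      rw [this, map_mul, hb1, ← ha, ha1, one_mul]
    suffices hk0 : k = 1 by
      have h : u1 = u := by
        rw [← mul_one u1, ← hU2 u hu, ← mul_assoc, ← hk, hk0, one_mul]
      calc X * u = u1 * X := by rw [hu1]; group
        _ = u * X := by rw [h]
    -- a lift of order two centralizes `V`, so lies in it
    obtain ⟨q, hq⟩ := QuotientGroup.mk_surjective k
    set r := q ^ 3 with hr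
    have hrk : (r : Q ⧸ V) = k := by
      rw [hr, QuotientGroup.mk_pow, hq, pow_succ, pow_two, hU2 k hkm, one_mul]
    have hr2 : r ^ 2 = 1 := by rw [hr, ← pow_mul]; exact h6 q
    have hρr : ρ r = 1 := by rw [← hk1, ← hrk]; rfl
    have hrV : r ∈ V := hC (Cfsg.Agent.Lib.Coprime.le_centralizer_of_frattini (A := Subgroup.zpowers r) (K := V)
      (by
        obtain ⟨e, he⟩ := (hVp.to_subgroup W).exists_card_eq
        rw [he, Nat.card_zpowers]
        exact Nat.Coprime.coprime_dvd_left (orderOf_dvd_of_pow_eq_one hr2)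
          (Nat.Coprime.pow_right e (by norm_num)))
      (by
        intro s hs v hv
        have hs1 : ρ s = 1 := by
          obtain ⟨n, rfl⟩ := mem_powers_iff_mem_zpowers.mpr hs
          show ρ (r ^ n) = 1
          rw [map_pow, hρr, one_pow]
        have h := DFunLike.congr_fun hs1 (Additive.ofMul ((⟨v, hv⟩ : V) : M))
        rw [hρ] at h
        have h' : ((MulAut.conjNormal s ⟨v, hv⟩ : V) : M) = ((⟨v, hv⟩ : V) : M) :=
          Additive.ofMul.injective h
        refine ⟨(MulAut.conjNormal s ⟨v, hv⟩ : V) * ⟨v, hv⟩⁻¹, ?_, rfl⟩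
        rw [SetLike.mem_coe, ← QuotientGroup.eq_one_iff, QuotientGroup.mk_mul, h',
          QuotientGroup.mk_inv, mul_inv_cancel]) (Subgroup.mem_zpowers r))
    rw [← hrk]
    exact (QuotientGroup.eq_one_iff r).mpr hrV
  have hXU : X ∈ U := Cfsg.Agent.Lib.OddLocal.centralizer_pCore_le hbot (fun u hu => (key u hu).symm)
  have hX1 : X = 1 := by
    have h := hU2 X hXU
    calc X = X * (X * X) := by rw [h, mul_one]
      _ = X ^ 3 := by rw [pow_succ', pow_two]
      _ = 1 := hX3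
  exact (QuotientGroup.eq_one_iff x).mp (hXdef ▸ hX1)

theorem two_mem (h6 : ∀ x : Q, x ^ 6 = 1) (hQ : Cfsg.pPrimeCore 2 Q = ⊥) (x : Q) (hx : x ^ 2 = 1) :
    x ∈ Cfsg.pCore 2 Q := by
  haveI hp2 : Fact (Nat.Prime 2) := ⟨Nat.prime_two⟩
  haveI := isSolvable_of_exp h6
  refine Cfsg.Agent.Lib.OddLocal.centralizer_pCore_le hQ ?_
  intro v hv
  have hV2 : ∀ w ∈ Cfsg.pCore 2 Q, w ^ 2 = 1 := fun w hw => by
    obtain ⟨k, hk⟩ := Cfsg.Agent.Lib.Cores.pCore_isPGroup 2 Q ⟨w, hw⟩
    exact pow_prime_eq_one (Or.inl rfl) (h6 w) (congrArg Subtype.val hk)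
  have h2 : (x * v) ^ 2 ∈ Cfsg.pCore 2 Q := by
    rw [← QuotientGroup.eq_one_iff, QuotientGroup.mk_pow, QuotientGroup.mk_mul,
      (QuotientGroup.eq_one_iff v).mpr hv, mul_one, ← QuotientGroup.mk_pow, hx]
    rfl
  have h4 : (x * v) ^ 4 = 1 := by rw [pow_mul _ 2 2]; exact hV2 _ h2
  have hxv : (x * v) ^ 2 = 1 := pow_prime_eq_one (k := 2) (Or.inl rfl) (h6 _) (by norm_num; exact h4)
  have e1 : x⁻¹ = x := inv_eq_of_mul_eq_one_right (by rw [← pow_two, hx])
  have e2 : v⁻¹ = v := inv_eq_of_mul_eq_one_right (by rw [← pow_two, hV2 v hv])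
  have e3 : (x * v)⁻¹ = x * v := inv_eq_of_mul_eq_one_right (by rw [← pow_two, hxv])
  rw [mul_inv_rev, e1, e2] at e3
  exact e3

theorem pLength_le_one (p : ℕ) [hp : Fact p.Prime] (hp6 : p = 2 ∨ p = 3) {G : Type u} [Group G]
    [Finite G] (h : ∀ x : G, x ^ 6 = 1) : Cfsg.PLengthLE p 1 G := by
  refine Cfsg.Agent.Lib.PLength.of_quotient_coprime (Cfsg.pPrimeCore p G)
    (Cfsg.Agent.Lib.Cores.pPrimeCore_coprime p G) ?_
  set R := G ⧸ Cfsg.pPrimeCore p G
  have h6 : ∀ x : R, x ^ 6 = 1 := fun x => by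
    obtain ⟨g, rfl⟩ := QuotientGroup.mk_surjective x
    rw [← QuotientGroup.mk_pow, h]
    rfl
  refine Cfsg.Agent.Lib.PLength.of_quotient_isPGroup (k := 0) (Cfsg.pCore p R)
    (Cfsg.Agent.Lib.Cores.pCore_isPGroup p R) (Cfsg.Agent.Lib.PLength.of_coprime ?_ 0)
  rw [Nat.coprime_comm, hp.out.coprime_iff_not_dvd]
  intro hd
  obtain ⟨y, hy⟩ := exists_prime_orderOf_dvd_card' p hd
  obtain ⟨q, rfl⟩ := QuotientGroup.mk_surjective y
  have hyp : ((q : R ⧸ Cfsg.pCore p R)) ^ p = 1 := by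
    have h1 := pow_orderOf_eq_one (q : R ⧸ Cfsg.pCore p R)
    rwa [hy] at h1
  have hbot := Cfsg.Agent.Lib.Cores.pPrimeCore_quotient_pPrimeCore p G
  suffices hq1 : ((q : R ⧸ Cfsg.pCore p R)) = 1 by
    rw [hq1, orderOf_one] at hy
    exact hp.out.one_lt.ne hy
  rcases hp6 with rfl | rfl
  · have hmem := two_mem h6 hbot (q ^ 3) (by rw [← pow_mul]; exact h6 q)
    have h1 : ((q ^ 3 : R) : R ⧸ Cfsg.pCore 2 R) = 1 := (QuotientGroup.eq_one_iff _).mpr hmem
    rwa [QuotientGroup.mk_pow, pow_succ, hyp, one_mul] at h1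
  · have hmem := three_mem h6 hbot (q ^ 4) (by
      rw [← pow_mul, show 4 * 3 = 6 * 2 from rfl, pow_mul, h6, one_pow])
    have h1 : ((q ^ 4 : R) : R ⧸ Cfsg.pCore 3 R) = 1 := (QuotientGroup.eq_one_iff _).mpr hmem
    rwa [QuotientGroup.mk_pow, pow_succ, hyp, one_mul] at h1

end


/-- A finite group in which every element has order dividing `6` has `2`-length at most `1` and `3`-length at most `1`. -/
theorem result {G : Type*} [Group G] [Finite G] (h : ∀ x : G, x ^ 6 = 1) : Cfsg.PLengthLE 2 1 G ∧ Cfsg.PLengthLE 3 1 G := by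
  haveI : Fact (Nat.Prime 2) := ⟨Nat.prime_two⟩
  haveI : Fact (Nat.Prime 3) := ⟨Nat.prime_three⟩
  exact ⟨pLength_le_one 2 (Or.inl rfl) h, pLength_le_one 3 (Or.inr rfl) h⟩

end Cfsg.Agent.S4227
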