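import Cfsg.Statements.S4230
import Mathlib

set_option autoImplicit false
open Cfsg

namespace Cfsg.Agent.S4230

/-- Let p be an odd prime, q a natural number not divisible by p, and e the multiplicative order of q modulo p. For a natural number f, p divides the value at q of the f-th cyclotomic polynomial if and only if f = e·p^j for some j ≥ 0. -/
theorem result (p q f : ℕ) (hp : p.Prime) (hp2 : p ≠ 2) (hpq : ¬ p ∣ q) :
    ((p : ℤ) ∣ (Polynomial.cyclotomic f ℤ).eval (q : ℤ)) ↔ ∃ j : ℕ, f = orderOf (q : ZMod p) * p ^ j := by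

  classical
  haveI := Fact.mk hp
  have hq0 : (q : ZMod p) ≠ 0 := by rwa [Ne, ZMod.natCast_eq_zero_iff]
  have he : orderOf (q : ZMod p) ∣ p - 1 := ZMod.orderOf_dvd_card_sub_one hq0
  have hepos : 0 < orderOf (q : ZMod p) :=
    Nat.pos_of_dvd_of_pos he (by have := hp.two_le; omega)
  have heNot : ¬ p ∣ orderOf (q : ZMod p) := by
    intro h
    have := Nat.le_of_dvd (by have := hp.two_le; omega) (h.trans he)
    have := hp.two_le
    omega
  have hev : ((p : ℤ) ∣ (Polynomial.cyclotomic f ℤ).eval (q : ℤ)) ↔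
      (Polynomial.cyclotomic f (ZMod p)).IsRoot (q : ZMod p) := by
    rw [← ZMod.intCast_zmod_eq_zero_iff_dvd, Polynomial.IsRoot.def, ← Polynomial.map_cyclotomic_int f (ZMod p)]
    rw [show (q : ZMod p) = Int.castRingHom (ZMod p) (q : ℤ) by simp, Polynomial.eval_map, Polynomial.eval₂_hom]
    simp
  rw [hev]
  rcases eq_or_ne f 0 with rfl | hf
  · rw [Polynomial.cyclotomic_zero, Polynomial.IsRoot.def, Polynomial.eval_one]
    refine iff_of_false one_ne_zero ?_
    rintro ⟨j, hj⟩
    exact (Nat.mul_pos hepos (pow_pos hp.pos j)).ne hj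
  obtain ⟨a, m, hm, rfl⟩ := Nat.exists_eq_pow_mul_and_not_dvd hf p hp.ne_one
  haveI : NeZero (m : ZMod p) := ⟨by rwa [Ne, ZMod.natCast_eq_zero_iff]⟩
  rw [Polynomial.isRoot_cyclotomic_prime_pow_mul_iff_of_charP, IsPrimitiveRoot.iff_orderOf]
  constructor
  · intro h
    exact ⟨a, by rw [h, mul_comm]⟩
  · rintro ⟨j, hj⟩
    have h1 : m ∣ orderOf (q : ZMod p) := by
      refine (Nat.Coprime.dvd_of_dvd_mul_right ?_ (hj ▸ dvd_mul_left m (p ^ a)))
      exact Nat.Coprime.pow_right _ ((hp.coprime_iff_not_dvd.mpr hm).symm)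
    have h2 : orderOf (q : ZMod p) ∣ m := by
      refine (Nat.Coprime.dvd_of_dvd_mul_left ?_ (hj.symm ▸ dvd_mul_right _ (p ^ j)))
      exact Nat.Coprime.pow_right _ ((hp.coprime_iff_not_dvd.mpr heNot).symm)
    exact Nat.dvd_antisymm h2 h1

end Cfsg.Agent.S4230
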