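import Cfsg.Statements.S4234
import Cfsg.Agent.Lib.Geometry.Dickson.Thirteen

set_option autoImplicit false
open Cfsg

namespace Cfsg.Agent.S4234

open Cfsg.Agent.Lib.SL2Trace (toPSL toPSL_surjective tr)

local notation "SL13" => Matrix.SpecialLinearGroup (Fin 2) (ZMod 13)
local notation "PSL13" => Matrix.ProjectiveSpecialLinearGroup (Fin 2) (ZMod 13)

/-- Non-normal subgroups have maximal normalisers. -/
def MaxNorm (G : Type*) [Group G] : Prop :=
  ∀ H : Subgroup G, ¬ H.Normal → IsCoatom (Subgroup.normalizer (H : Set G))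

theorem MaxNorm.of_equiv {G G' : Type*} [Group G] [Group G'] (e : G ≃* G') (h : MaxNorm G') : MaxNorm G := by
  intro H hH
  have hs : Function.Surjective e.toMonoidHom := e.surjective
  have hH' : ¬ (H.map e.toMonoidHom).Normal := fun hn => hH (by
    have := hn.comap e.toMonoidHom
    rwa [Subgroup.comap_map_eq_self_of_injective e.injective] at this)
  have := Subgroup.isCoatom_comap_of_surjective hs (h _ hH')
  rwa [Subgroup.comap_normalizer_eq_of_surjective _ hs,
    Subgroup.comap_map_eq_self_of_injective e.injective] at this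

theorem maxNorm_psl [Fact (Nat.Prime 13)] : MaxNorm PSL13 := by
  intro H hH
  refine Cfsg.Agent.Lib.Geometry.Dickson.Thirteen.norm_coatom (ZMod.card 13) H ?_ ?_
  · rintro rfl; exact hH inferInstance
  · rintro rfl; exact hH inferInstance

theorem eq_one_or_neg_of_sq [Fact (Nat.Prime 13)] {x : SL13} (h : x * x = 1) : x = 1 ∨ x = -1 := by
  refine Cfsg.Agent.Lib.SL2Trace.mem_center_iff.mp ?_
  have hinv : x⁻¹ = x := inv_eq_of_mul_eq_one_left h
  have he := Cfsg.Agent.Lib.Geometry.Dickson.coe_inv_eq x
  rw [hinv] at he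
  have h2 : (2 : ZMod 13) ≠ 0 := ne_of_apply_ne ZMod.val (show (2 : ℕ) ≠ 0 by decide)
  have hent : ∀ i j, (2 : ZMod 13) * (x : Matrix (Fin 2) (Fin 2) (ZMod 13)) i j =
      tr x * (1 : Matrix (Fin 2) (Fin 2) (ZMod 13)) i j := fun i j => by
    have := congrFun (congrFun he i) j
    simp [Matrix.sub_apply, Matrix.smul_apply] at this
    linear_combination this
  rw [Cfsg.Agent.Lib.SL2Trace.mem_center_iff]
  refine Cfsg.Agent.Lib.SL2Trace.eq_scalar_of_entries ?_ ?_ ?_
  · have := hent 1 0; simpa [h2] using this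
  · have := hent 0 1; simpa [h2] using this
  · exact mul_left_cancel₀ h2 (by rw [hent 0 0, hent 1 1]; simp)

theorem maxNorm_sl [Fact (Nat.Prime 13)] : MaxNorm SL13 := by
  have key : ∀ H : Subgroup SL13, (-1 : SL13) ∈ H → ¬ H.Normal →
      IsCoatom (Subgroup.normalizer (H : Set SL13)) := by
    intro H hm hH
    have hsur : Function.Surjective (toPSL : SL13 →* PSL13) := toPSL_surjective
    have hker : (toPSL : SL13 →* PSL13).ker ≤ H := fun x hx => by
      rcases Cfsg.Agent.Lib.SL2Trace.toPSL_eq_one.mp (MonoidHom.mem_ker.mp hx) with rfl | rfl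
      · exact H.one_mem
      · exact hm
    have hcm : (H.map toPSL).comap toPSL = H := Subgroup.comap_map_eq_self hker
    have hn : ¬ (H.map toPSL).Normal := fun hn => hH (hcm ▸ hn.comap _)
    have := Subgroup.isCoatom_comap_of_surjective hsur (maxNorm_psl _ hn)
    rwa [Subgroup.comap_normalizer_eq_of_surjective _ hsur, hcm] at this
  intro H hH
  by_cases hm : (-1 : SL13) ∈ H
  · exact key H hm hH
  · have hodd : Odd (Nat.card H) := by
      rw [← Nat.not_even_iff_odd, even_iff_two_dvd]
      intro h2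
      obtain ⟨x, hx⟩ := exists_prime_orderOf_dvd_card' 2 h2
      have hxx := pow_orderOf_eq_one x
      rw [hx, pow_two] at hxx
      rcases eq_one_or_neg_of_sq (x := (x : SL13)) (congrArg Subtype.val hxx) with h | h
      · rw [OneMemClass.coe_eq_one.mp h, orderOf_one] at hx; omega
      · exact hm (h ▸ x.2)
    let H' : Subgroup SL13 :=
      { carrier := {g | g ∈ H ∨ -g ∈ H}
        one_mem' := Or.inl H.one_mem
        mul_mem' := by
          rintro a b (ha | ha) (hb | hb)
          · exact Or.inl (H.mul_mem ha hb)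
          · exact Or.inr (by simpa using H.mul_mem ha hb)
          · exact Or.inr (by simpa using H.mul_mem ha hb)
          · exact Or.inl (by simpa using H.mul_mem ha hb)
        inv_mem' := by
          rintro a (ha | ha)
          · exact Or.inl (H.inv_mem ha)
          · exact Or.inr (by simpa using H.inv_mem ha) }
    have hne : Subgroup.normalizer (H : Set SL13) = Subgroup.normalizer (H' : Set SL13) := by
      have hneg : ∀ g a : SL13, g * (-a) * g⁻¹ = -(g * a * g⁻¹) := fun g a => by simp
      have hone : ∀ g : SL13, ∀ a ∈ H, -(g * a * g⁻¹) ∈ H → False := fun g a ha h => by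
        have h1 : (-(g * a * g⁻¹)) ^ Nat.card H = 1 :=
          orderOf_dvd_iff_pow_eq_one.mp (H.orderOf_dvd_natCard h)
        rw [hodd.neg_pow, conj_pow, orderOf_dvd_iff_pow_eq_one.mp (H.orderOf_dvd_natCard ha),
          mul_one, mul_inv_cancel] at h1
        exact hm ((congrArg (· ∈ H) h1).mpr H.one_mem)
      ext g
      constructor
      · intro hg
        rw [Subgroup.mem_normalizer_iff] at hg ⊢
        intro a
        show a ∈ H ∨ -a ∈ H ↔ g * a * g⁻¹ ∈ H ∨ -(g * a * g⁻¹) ∈ H
        rw [hg a, hg (-a), hneg]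
      · intro hg
        rw [Subgroup.mem_normalizer_iff] at hg ⊢
        intro a
        constructor
        · intro ha
          exact ((hg a).mp (Or.inl ha)).resolve_right (hone g a ha)
        · intro ha
          refine ((hg a).mpr (Or.inl ha)).resolve_right fun h => hone g⁻¹ (g * a * g⁻¹) ha ?_
          simpa [mul_assoc] using h
    rw [hne]
    refine key H' (Or.inr (by simp)) fun hn => hH ?_
    rw [← Subgroup.normalizer_eq_top_iff, hne]
    exact Subgroup.normalizer_eq_top_iff.mpr hn

/-- Let K be isomorphic to PSL(2, 13) or to SL(2, 13) and let S be a finite abelian group of order coprime to the order of K. Then in the direct product K × S every subgroup that is not normal has a normalizer that is a maximal subgroup. -/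
theorem result {K S : Type*} [Group K] [CommGroup S] [Finite K] [Finite S]
    (hK : Nonempty (K ≃* Matrix.ProjectiveSpecialLinearGroup (Fin 2) (ZMod 13)) ∨
      Nonempty (K ≃* Matrix.SpecialLinearGroup (Fin 2) (ZMod 13)))
    (hKS : (Nat.card K).Coprime (Nat.card S)) (H : Subgroup (K × S)) (hH : ¬ H.Normal) :
    IsCoatom (Subgroup.normalizer (H : Set (K × S))) := by
  haveI : Fact (Nat.Prime 13) := ⟨by norm_num⟩
  have hmax : MaxNorm K := by
    rcases hK with ⟨⟨e⟩⟩ | ⟨⟨e⟩⟩
    · exact maxNorm_psl.of_equiv e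
    · exact maxNorm_sl.of_equiv e
  set H1 := H.map (MonoidHom.fst K S)
  set H2 := H.map (MonoidHom.snd K S)
  have hleft : ∀ k s, (k, s) ∈ H → (k, (1 : S)) ∈ H := by
    intro k s h
    obtain ⟨n, hn1, hn2⟩ := Nat.chineseRemainder hKS 1 0
    have hk : k ^ n = k := by
      conv_rhs => rw [← pow_one k]
      rw [pow_eq_pow_iff_modEq]
      exact hn1.of_dvd (orderOf_dvd_natCard k)
    have hs : s ^ n = 1 :=
      orderOf_dvd_iff_pow_eq_one.mp ((orderOf_dvd_natCard s).trans (Nat.modEq_zero_iff_dvd.mp hn2))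
    have := H.pow_mem h n
    rwa [Prod.pow_mk, hk, hs] at this
  have hprod : H = H1.prod H2 := by
    refine le_antisymm (fun x hx => ⟨⟨x, hx, rfl⟩, ⟨x, hx, rfl⟩⟩) ?_
    rintro ⟨k, s⟩ ⟨⟨⟨k', s'⟩, h1, rfl⟩, ⟨⟨k'', s''⟩, h2, rfl⟩⟩
    have hb : ((1 : K), s'') ∈ H := by
      simpa using H.mul_mem (H.inv_mem (hleft _ _ h2)) h2
    simpa using H.mul_mem (hleft _ _ h1) hb
  have hnorm : Subgroup.normalizer (H : Set (K × S)) =
      (Subgroup.normalizer (H1 : Set K)).comap (MonoidHom.fst K S) := by
    ext ⟨k, s⟩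
    rw [Subgroup.mem_comap, Subgroup.mem_normalizer_iff, Subgroup.mem_normalizer_iff, hprod]
    simp only [Prod.forall, Subgroup.mem_prod, Prod.mk_mul_mk, Prod.inv_mk, MonoidHom.coe_fst]
    constructor
    · intro h a
      have := h a 1
      simpa using this
    · intro h a b
      rw [h a, mul_inv_cancel_comm]
  have hH1 : ¬ H1.Normal := fun hn => hH (by
    rw [← Subgroup.normalizer_eq_top_iff, hnorm, Subgroup.normalizer_eq_top_iff.mpr hn, Subgroup.comap_top])
  rw [hnorm]
  exact Subgroup.isCoatom_comap_of_surjective (fun k => ⟨(k, 1), rfl⟩) (hmax H1 hH1)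

end Cfsg.Agent.S4234
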