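import Cfsg.Statements.S4236
import Cfsg.Agent.Lib.PGroups.SylowDegree

set_option autoImplicit false
open Cfsg

namespace Cfsg.Agent.S4236

/-- No finite group has exactly 35 Sylow 17-subgroups. -/
theorem result {G : Type*} [Group G] [Finite G] : Nat.card (Sylow 17 G) ≠ 35 := by
  haveI : Fact (Nat.Prime 17) := ⟨by norm_num⟩
  refine Cfsg.Agent.Lib.PGroups.card_sylow_ne_of_simple 17 35 (by norm_num) ?_ ?_ ?_ G
  · intro d hd h
    have : d ≤ 35 := Nat.le_of_dvd (by norm_num) hd
    interval_cases d <;> omega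
  · refine ⟨5, by norm_num, ?_⟩
    have h5 : Nat.factorization 35 5 = 1 := by
      rw [show (35 : ℕ) = 5 ^ 1 * 7 by norm_num, Nat.factorization_mul (by norm_num) (by norm_num),
        Finsupp.add_apply,
        Nat.factorization_eq_zero_of_not_dvd (by norm_num : ¬ 5 ∣ 7)]
      simp [show Nat.Prime 5 by norm_num]
    rw [h5]; norm_num
  · intro S _ _ _ hS hd hn
    obtain ⟨hodd, d, hcard, hdvd, hd1⟩ :=
      Cfsg.Agent.Lib.PGroups.isCyclic_sylow_two_and_index_of_card_sylow (p := 17) hS hd (by norm_num) hn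
    rw [hcard] at hodd
    have : d ≤ 16 := Nat.le_of_dvd (by norm_num) hdvd
    interval_cases d <;> simp_all (config := { decide := true }) [Nat.odd_iff]

end Cfsg.Agent.S4236
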