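import Cfsg.Statements.S4237
import Cfsg.Agent.Lib.PGroups.SubgroupCountGroup

set_option autoImplicit false
open Cfsg

namespace Cfsg.Agent.S4237

/-- Let G be a finite group, p a prime and a a natural number such that p^(a+1) divides the order of G. Then the number of subgroups of G of order p^a is congruent to 1 or to 1 + p modulo p². -/
theorem result {G : Type*} [Group G] [Finite G] (p a : ℕ) (hp : p.Prime) (hdvd : p ^ (a + 1) ∣ Nat.card G) :
    Nat.card {H : Subgroup G // Nat.card H = p ^ a} ≡ 1 [MOD p ^ 2] ∨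
      Nat.card {H : Subgroup G // Nat.card H = p ^ a} ≡ 1 + p [MOD p ^ 2] := by
  haveI := Fact.mk hp
  show Cfsg.Agent.Lib.PGroups.SubgroupCount.cnt G (p ^ a) ≡ 1 [MOD p ^ 2] ∨
    Cfsg.Agent.Lib.PGroups.SubgroupCount.cnt G (p ^ a) ≡ 1 + p [MOD p ^ 2]
  rcases eq_or_ne p 2 with rfl | hp2
  · have h := Cfsg.Agent.Lib.PGroups.SubgroupCount.cnt_modEq_one (G := G) (k := a) hp
      ((pow_dvd_pow 2 (Nat.le_succ a)).trans hdvd)
    simp only [Nat.ModEq] at h ⊢
    omega
  rcases Nat.eq_zero_or_pos a with rfl | ha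
  · left
    rw [show Cfsg.Agent.Lib.PGroups.SubgroupCount.cnt G (p ^ 0) = 1 from
      Nat.card_eq_one_iff_unique.mpr ⟨⟨fun x y => Subtype.ext (by
        rw [Subgroup.eq_bot_of_card_eq x.1 (x.2.trans (pow_zero p)),
          Subgroup.eq_bot_of_card_eq y.1 (y.2.trans (pow_zero p))])⟩, ⟨⟨⊥, by simp⟩⟩⟩]
  obtain ⟨P⟩ : Nonempty (Sylow p G) := inferInstance
  obtain ⟨m, hm⟩ := P.2.exists_card_eq
  have ham : a + 1 ≤ m := (Nat.pow_dvd_pow_iff_le_right hp.one_lt).mp
    (hm ▸ P.pow_dvd_card_of_pow_dvd_card hdvd)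
  have key := Cfsg.Agent.Lib.PGroups.SubgroupCount.cnt_sylow P hdvd
  by_cases hc : IsCyclic (P : Subgroup G)
  · haveI := hc
    left
    rw [← ZMod.natCast_eq_natCast_iff, key,
      Cfsg.Agent.Lib.PGroups.SubgroupCount.cnt_of_isCyclic (hm ▸ pow_dvd_pow p (by omega))]
  · right
    rw [← ZMod.natCast_eq_natCast_iff, key,
      Cfsg.Agent.Lib.PGroups.SubgroupCount.cnt_odd hp2 m _ hm hc a ha (by omega)]
    push_cast
    rfl

end Cfsg.Agent.S4237
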