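import Cfsg.Statements.S4238
import Cfsg.Agent.Lib.Coprime.Action
import Cfsg.Agent.Lib.Cores.PCore
import Cfsg.Agent.Lib.Cores.Basic
import Cfsg.Agent.Lib.Cores.Frattini
import Cfsg.Agent.Lib.Transfer.Frobenius
import Mathlib

set_option autoImplicit false
open Cfsg

namespace Cfsg.Agent.S4238

open Cfsg.Agent.Lib
open scoped IsMulCommutative commutatorElement Pointwise

universe u

variable {G : Type u} [Group G] [Finite G]

theorem exists_orderOf_eq_exponent {p : ℕ} [hp : Fact p.Prime] {K : Type u} [Group K] [Finite K]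
    (hK : IsPGroup p K) : ∃ k : K, orderOf k = Monoid.exponent K := by
  obtain ⟨k, -, hk⟩ := Set.exists_max_image (Set.univ : Set K) orderOf (Set.toFinite _) ⟨1, trivial⟩
  refine ⟨k, Nat.dvd_antisymm (Monoid.order_dvd_exponent k) ?_⟩
  refine Monoid.exponent_dvd_of_forall_pow_eq_one fun x => orderOf_dvd_iff_pow_eq_one.mp ?_
  obtain ⟨i, hi⟩ := IsPGroup.iff_orderOf.mp hK x
  obtain ⟨j, hj⟩ := IsPGroup.iff_orderOf.mp hK k
  rw [hi, hj]
  refine pow_dvd_pow p ((Nat.pow_le_pow_iff_right hp.out.one_lt).mp ?_)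
  rw [← hi, ← hj]
  exact hk x trivial

theorem forward {p : ℕ} [Fact p.Prime] (h : Cfsg.HasNormalPComplement p G) (H : Subgroup G)
    (N : Subgroup H) [N.Normal] (hK : Cfsg.pPrimeCore p (H ⧸ N) = ⊥) :
    ∃ k : H ⧸ N, orderOf k = Monoid.exponent (H ⧸ N) := by
  have h1 := Transfer.hasNormalPComplement_of_surjective (QuotientGroup.mk' N) (QuotientGroup.mk'_surjective N)
    (Transfer.hasNormalPComplement_subgroup h H)
  rw [Transfer.hasNormalPComplement_iff_coprime] at h1
  have h2 : Cfsg.pResidual p (H ⧸ N) = ⊥ := le_bot_iff.mp (hK ▸ Cores.le_pPrimeCore Transfer.pResidual_normal h1)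
  obtain ⟨k, hk⟩ := Transfer.exists_index_pResidual (G := H ⧸ N) (p := p)
  rw [h2, Subgroup.index_bot] at hk
  exact exists_orderOf_eq_exponent (p := p) (IsPGroup.of_card hk)

/-- A minimal configuration gives a section without an element of order the exponent. -/
theorem no_bad {p q : ℕ} [hp : Fact p.Prime] [hq : Fact q.Prime] (hqp : q ≠ p)
    (hyp : ∀ (H : Subgroup G) (N : Subgroup H) [N.Normal], Cfsg.pPrimeCore p (H ⧸ N) = ⊥ →
      ∃ k : H ⧸ N, orderOf k = Monoid.exponent (H ⧸ N))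
    (Q : Subgroup G) (hQ : IsPGroup p Q) (g : G) {e : ℕ} (hge : orderOf g = q ^ e)
    (hgQ : g ∈ Subgroup.normalizer (Q : Set G)) (hgc : g ∉ Subgroup.centralizer (Q : Set G))
    (hgq : g ^ q ∈ Subgroup.centralizer (Q : Set G))
    (hmin : ∀ R : Subgroup G, R ≤ Q → R ≠ Q → g ∈ Subgroup.normalizer (R : Set G) →
      g ∈ Subgroup.centralizer (R : Set G)) : False := by
  classical
  set A := Subgroup.zpowers g with hA
  have hAQ : A ≤ Subgroup.normalizer (Q : Set G) := Subgroup.zpowers_le.mpr hgQ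
  have hcop : (Nat.card A).Coprime (Nat.card Q) := by
    obtain ⟨n, hn⟩ := hQ.exists_card_eq
    rw [hA, Nat.card_zpowers, hge, hn]
    exact ((Nat.coprime_primes hq.out hp.out).mpr hqp).pow e n
  haveI : Group.IsNilpotent Q := hQ.isNilpotent
  have hAcent : ∀ R : Subgroup G, g ∈ Subgroup.centralizer (R : Set G) → A ≤ Subgroup.centralizer (R : Set G) :=
    fun R h => Subgroup.zpowers_le.mpr h
  -- the commutator is everything
  have hle : ⁅Q, A⁆ ≤ Q := by
    rw [Subgroup.commutator_le]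
    intro x hx a ha
    rw [commutatorElement_def, show x * a * x⁻¹ * a⁻¹ = x * (a * x⁻¹ * a⁻¹) by group]
    exact Q.mul_mem hx ((Subgroup.mem_normalizer_iff.mp (hAQ ha) _).mp (Q.inv_mem hx))
  have hsolv : Group.IsSolvable A ∨ Group.IsSolvable Q := Or.inr inferInstance
  have hsup : ⁅Q, A⁆ = Q := by
    by_contra hne
    have hn : g ∈ Subgroup.normalizer ((⁅Q, A⁆ : Subgroup G) : Set G) := by
      refine Coprime.mem_normalizer_of_conj_smul_eq ?_
      show (Subgroup.map (MulAut.conj g).toMonoidHom ⁅Q, A⁆) = _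
      rw [Subgroup.map_commutator]
      congr 1
      · exact Coprime.conj_smul_eq_of_mem_normalizer hgQ
      · exact Coprime.conj_smul_eq_of_mem_normalizer (Subgroup.le_normalizer (Subgroup.mem_zpowers g))
    have h1 := hAcent _ (hmin _ hle hne hn)
    have h2 : ⁅⁅Q, A⁆, A⁆ = ⊥ := Subgroup.commutator_eq_bot_iff_le_centralizer.mpr (Subgroup.le_centralizer_iff.mp h1)
    rw [Coprime.commutator_commutator_eq hAQ hcop hsolv] at h2
    exact hgc ((Subgroup.le_centralizer_iff.mp (Subgroup.commutator_eq_bot_iff_le_centralizer.mp h2))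
      (Subgroup.mem_zpowers g))
  have hQne : Q ≠ ⊥ := fun h => hgc (Subgroup.mem_centralizer_iff.mpr fun x hx => by
    rw [h] at hx
    rw [Subgroup.mem_bot.mp hx, one_mul, mul_one])
  set Φ := (frattini Q).map Q.subtype with hΦ
  have hΦQ : Φ ≤ Q := Subgroup.map_subtype_le _
  have hgΦn : g ∈ Subgroup.normalizer (Φ : Set G) := Cores.normalizer_le_normalizer_map_subtype Q (frattini Q) hgQ
  have hΦne : Φ ≠ Q := by
    intro h
    haveI : Nontrivial Q := (Subgroup.nontrivial_iff_ne_bot Q).mpr hQne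
    have : frattini Q = ⊤ := by
      rw [eq_top_iff]
      intro x _
      obtain ⟨y, hy, hye⟩ := h.ge x.2
      rwa [← Subtype.ext hye]
    obtain ⟨M, hM, -⟩ := (eq_top_or_exists_le_coatom (⊥ : Subgroup Q)).resolve_left bot_ne_top
    exact hM.1 (top_le_iff.mp (this ▸ frattini_le_coatom hM))
  have hgΦ := hmin Φ hΦQ hΦne hgΦn
  -- the section
  set H := Q ⊔ A with hH
  set N0 := Φ ⊔ Subgroup.zpowers (g ^ q) with hN0
  have hN0H : N0 ≤ H := sup_le (hΦQ.trans le_sup_left)
    (Subgroup.zpowers_le.mpr (pow_mem (Subgroup.mem_sup_right (Subgroup.mem_zpowers g)) q))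
  have hQgq : ∀ x ∈ Q, Commute x (g ^ q) := fun x hx => Subgroup.mem_centralizer_iff.mp hgq x hx
  have hnormN : H ≤ Subgroup.normalizer (N0 : Set G) := by
    rw [hH, sup_le_iff]
    refine ⟨fun x hx => ?_, Subgroup.zpowers_le.mpr ?_⟩
    · refine Coprime.mem_normalizer_of_conj_smul_eq ?_
      rw [hN0, Subgroup.smul_sup, Coprime.conj_smul_eq_of_mem_normalizer
        (Cores.normalizer_le_normalizer_map_subtype Q (frattini Q) (Subgroup.le_normalizer hx))]
      congr 1
      refine Coprime.conj_smul_eq_of_mem_normalizer (Subgroup.centralizer_le_normalizer _ (Subgroup.mem_centralizer_iff.mpr ?_))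
      intro y hy
      obtain ⟨k, rfl⟩ := Subgroup.mem_zpowers_iff.mp hy
      exact ((hQgq x hx).zpow_right k).eq.symm
    · refine Coprime.mem_normalizer_of_conj_smul_eq ?_
      rw [hN0, Subgroup.smul_sup, Coprime.conj_smul_eq_of_mem_normalizer hgΦn]
      congr 1
      refine Coprime.conj_smul_eq_of_mem_normalizer (Subgroup.centralizer_le_normalizer _ (Subgroup.mem_centralizer_iff.mpr ?_))
      intro y hy
      obtain ⟨k, rfl⟩ := Subgroup.mem_zpowers_iff.mp hy
      exact (((Commute.refl g).pow_left q).zpow_left k).eq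
  haveI hNn : (N0.subgroupOf H).Normal := Subgroup.normal_subgroupOf_of_le_normalizer hnormN
  set π := QuotientGroup.mk' (N0.subgroupOf H) with hπ
  have hπ1 : ∀ {x : H}, π x = 1 ↔ (x : G) ∈ N0 := fun {x} =>
    (QuotientGroup.eq_one_iff x).trans Subgroup.mem_subgroupOf
  -- elements of order prime to `p` in `Q` are trivial
  have hdisj : ∀ y : G, y ∈ Q → y ∈ A → y = 1 := fun y hy hyA =>
    orderOf_eq_one_iff.mp (Nat.eq_one_of_dvd_coprimes hcop (Subgroup.orderOf_dvd_natCard A hyA)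
      (Subgroup.orderOf_dvd_natCard Q hy))
  have hzA : Subgroup.zpowers (g ^ q) ≤ A := Subgroup.zpowers_le.mpr (pow_mem (Subgroup.mem_zpowers g) q)
  have hΦnorm : Subgroup.zpowers (g ^ q) ≤ Subgroup.normalizer (Φ : Set G) :=
    Subgroup.zpowers_le.mpr (pow_mem hgΦn q)
  have hQN : ∀ y ∈ Q, y ∈ N0 → y ∈ Φ := by
    intro y hy hyN
    obtain ⟨a, ha, b, hb, rfl⟩ := Coprime.exists_mul_of_mem_sup hΦnorm hyN
    have hb1 : b = 1 := hdisj b (by
      have := Q.mul_mem (Q.inv_mem (hΦQ ha)) hy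
      rwa [inv_mul_cancel_left] at this) (hzA hb)
    rw [hb1, mul_one]; exact ha
  set gH : H := ⟨g, Subgroup.mem_sup_right (Subgroup.mem_zpowers g)⟩ with hgH
  set gb := π gH with hgb
  have hgbq : gb ^ q = 1 := by
    rw [hgb, ← map_pow, hπ1]
    exact Subgroup.mem_sup_right (Subgroup.mem_zpowers _)
  have hgb1 : gb ≠ 1 := by
    intro h
    rw [hgb, hπ1] at h
    obtain ⟨a, ha, b, hb, hab⟩ := Coprime.exists_mul_of_mem_sup hΦnorm h
    have ha1 : a = 1 := hdisj a (hΦQ ha) (by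
      have hab' : g = a * b := hab
      rw [show a = g * b⁻¹ by rw [hab', mul_inv_cancel_right]]
      exact A.mul_mem (Subgroup.mem_zpowers g) (A.inv_mem (hzA hb)))
    have hab' : g = a * b := hab
    rw [ha1, one_mul] at hab'
    obtain ⟨k, hk⟩ := Subgroup.mem_zpowers_iff.mp hb
    refine hgc ?_
    rw [hab', ← hk]
    exact zpow_mem hgq k
  set Qb := (Q.subgroupOf H).map π with hQb
  haveI : (Q.subgroupOf H).Normal := Subgroup.normal_subgroupOf_of_le_normalizer (sup_le Subgroup.le_normalizer hAQ)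
  haveI hQbn : Qb.Normal := Subgroup.Normal.map inferInstance π (QuotientGroup.mk'_surjective _)
  have hQbp : IsPGroup p Qb := (hQ.comap_of_injective H.subtype H.subtype_injective).map π
  have hQbmem : ∀ {x : G} (hx : x ∈ Q), π ⟨x, Subgroup.mem_sup_left hx⟩ ∈ Qb := fun {x} hx =>
    ⟨⟨x, Subgroup.mem_sup_left hx⟩, Subgroup.mem_subgroupOf.mpr hx, rfl⟩
  haveI hQbc : IsMulCommutative Qb := by
    refine ⟨⟨fun a b => Subtype.ext ?_⟩⟩
    obtain ⟨x, hx, hxe⟩ := a.2
    obtain ⟨y, hy, hye⟩ := b.2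
    show (a : H ⧸ N0.subgroupOf H) * b = b * a
    rw [← hxe, ← hye]
    have hxQ : (x : G) ∈ Q := hx
    have hyQ : (y : G) ∈ Q := hy
    have h1 : π (x * y * x⁻¹ * y⁻¹) = 1 := by
      refine hπ1.mpr (Subgroup.mem_sup_left ?_)
      exact ⟨⁅(⟨x, hxQ⟩ : Q), (⟨y, hyQ⟩ : Q)⁆, Cores.commutator_le_frattini
        (Subgroup.commutator_mem_commutator (Subgroup.mem_top _) (Subgroup.mem_top _)), rfl⟩
    rw [map_mul, map_mul, map_mul, map_inv, map_inv, mul_inv_eq_one, mul_inv_eq_iff_eq_mul] at h1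
    exact h1
  have hQbpow : ∀ u : Qb, u ^ p = 1 := by
    rintro ⟨_, x, hx, rfl⟩
    refine Subtype.ext ?_
    show π x ^ p = 1
    rw [← map_pow, hπ1]
    exact Subgroup.mem_sup_left ⟨(⟨(x : G), hx⟩ : Q) ^ p, Cores.pow_mem_frattini hQ _, rfl⟩
  -- every element is a product
  have hdec : ∀ w : H ⧸ N0.subgroupOf H, ∃ a ∈ Qb, ∃ i : ℤ, w = a * gb ^ i := by
    intro w
    obtain ⟨⟨x, hx⟩, rfl⟩ := QuotientGroup.mk'_surjective _ w
    obtain ⟨a, ha, b, hb, hab⟩ := Coprime.exists_mul_of_mem_sup hAQ hx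
    obtain ⟨i, hi⟩ := Subgroup.mem_zpowers_iff.mp hb
    refine ⟨_, hQbmem ha, i, ?_⟩
    rw [hgb, ← map_zpow, ← map_mul]
    congr 1
    exact Subtype.ext (by rw [Subgroup.coe_mul, SubgroupClass.coe_zpow, hgH, hi]; exact hab)
  -- `gb` does not centralize the image of `Q`
  have hnc : ∀ r : H ⧸ N0.subgroupOf H, r ∉ Qb → ¬ (∀ u ∈ Qb, Commute r u) := by
    intro r hr hall
    obtain ⟨a, ha, i, rfl⟩ := hdec r
    have hgi : gb ^ i ≠ 1 := fun h => hr (by rw [h, mul_one]; exact ha)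
    have hcoli : ∀ u ∈ Qb, Commute (gb ^ i) u := fun u hu => by
      have hau : Commute a u := congrArg Subtype.val (hQbc.is_comm.comm (⟨a, ha⟩ : Qb) ⟨u, hu⟩)
      have := hau.inv_left.mul_left (hall u hu)
      rwa [inv_mul_cancel_left] at this
    have hord : orderOf gb = q := orderOf_eq_prime hgbq hgb1
    have hgen : gb ∈ Subgroup.zpowers (gb ^ i) := by
      have hc : Int.gcd i q = 1 := by
        rcases (Nat.dvd_prime hq.out).mp (Int.natCast_dvd_natCast.mp (Int.gcd_dvd_right i q)) with h | h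
        · exact h
        · refine absurd ?_ hgi
          obtain ⟨k, hk⟩ : (q : ℤ) ∣ i := h ▸ Int.gcd_dvd_left i q
          rw [hk, zpow_mul, zpow_natCast, hgbq, one_zpow]
      obtain ⟨x, y, hxy⟩ : ∃ x y : ℤ, i * x + (q : ℤ) * y = 1 := ⟨_, _, (Int.gcd_eq_gcd_ab i q).symm.trans (by rw [hc]; rfl)⟩
      refine ⟨x, ?_⟩
      show (gb ^ i) ^ x = gb
      calc (gb ^ i) ^ x = gb ^ (i * x + (q : ℤ) * y) := by
            rw [zpow_add, zpow_mul gb (q : ℤ) y, zpow_natCast, hgbq, one_zpow, mul_one, zpow_mul]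
        _ = gb := by rw [hxy, zpow_one]
    have hcol : ∀ u ∈ Qb, Commute gb u := fun u hu => by
      obtain ⟨k, hk⟩ := Subgroup.mem_zpowers_iff.mp hgen
      rw [← hk]; exact (hcoli u hu).zpow_left k
    refine hgc (Coprime.le_centralizer_of_frattini (A := A) (K := Q) ?_ (fun a ha x hx => ?_) (Subgroup.mem_zpowers g))
    · exact hcop.coprime_dvd_right (Subgroup.card_subgroup_dvd_card _)
    · refine hQN _ ?_ ?_
      · exact Q.mul_mem ((Subgroup.mem_normalizer_iff.mp (hAQ ha) x).mp hx) (Q.inv_mem hx)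
      · have haH : a ∈ H := Subgroup.mem_sup_right ha
        obtain ⟨k, hk⟩ := Subgroup.mem_zpowers_iff.mp ha
        have : π (⟨a, haH⟩ * ⟨x, Subgroup.mem_sup_left hx⟩ * (⟨a, haH⟩ : H)⁻¹ * (⟨x, Subgroup.mem_sup_left hx⟩ : H)⁻¹) = 1 := by
          have hka : π ⟨a, haH⟩ = gb ^ k := by
            rw [hgb, ← map_zpow]; exact congrArg π (Subtype.ext (by rw [SubgroupClass.coe_zpow, hgH, hk]))
          rw [map_mul, map_mul, map_mul, map_inv, map_inv, hka,
            ((hcol _ (hQbmem hx)).zpow_left k).eq, mul_inv_cancel_right, mul_inv_cancel]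
        exact hπ1.mp this
  -- the `p'`-core is trivial
  have hcore : Cfsg.pPrimeCore p (H ⧸ N0.subgroupOf H) = ⊥ := by
    set M := Cfsg.pPrimeCore p (H ⧸ N0.subgroupOf H)
    have hMp := Cores.pPrimeCore_coprime p (H ⧸ N0.subgroupOf H)
    rw [Subgroup.eq_bot_iff_forall]
    intro m hm
    have hmQ : m ∈ Qb → m = 1 := fun h => by
      obtain ⟨n, hn⟩ := IsPGroup.iff_orderOf.mp hQbp ⟨m, h⟩
      rw [Subgroup.orderOf_mk] at hn
      exact orderOf_eq_one_iff.mp (Nat.eq_one_of_dvd_coprimes (hMp.pow_right n)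
        (Subgroup.orderOf_dvd_natCard M hm) (dvd_of_eq hn))
    by_cases hq' : m ∈ Qb
    · exact hmQ hq'
    · refine absurd (fun u hu => ?_) (hnc m hq')
      have h1 : m * u * m⁻¹ * u⁻¹ ∈ Qb := Qb.mul_mem (hQbn.conj_mem u hu m) (Qb.inv_mem hu)
      have h2 : m * u * m⁻¹ * u⁻¹ ∈ M := by
        rw [show m * u * m⁻¹ * u⁻¹ = m * (u * m⁻¹ * u⁻¹) by group]
        exact M.mul_mem hm ((inferInstance : M.Normal).conj_mem _ (M.inv_mem hm) u)
      obtain ⟨n, hn⟩ := IsPGroup.iff_orderOf.mp hQbp ⟨_, h1⟩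
      rw [Subgroup.orderOf_mk] at hn
      have h3 : m * u * m⁻¹ * u⁻¹ = 1 := orderOf_eq_one_iff.mp (Nat.eq_one_of_dvd_coprimes (hMp.pow_right n)
        (Subgroup.orderOf_dvd_natCard M h2) (dvd_of_eq hn))
      exact mul_inv_eq_iff_eq_mul.mp (mul_inv_eq_one.mp h3)
  obtain ⟨w, hw⟩ := hyp H (N0.subgroupOf H) hcore
  -- an element of order p in the centralizer of an element of order q
  have hqe : q ∣ orderOf w := by
    rw [hw]; exact (orderOf_eq_prime hgbq hgb1 ▸ Monoid.order_dvd_exponent gb)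
  have hQb1 : ∃ u ∈ Qb, u ≠ 1 := by
    by_contra hh
    push Not at hh
    exact hnc gb (fun h => hgb1 (hh gb h)) fun u hu => by rw [hh u hu]; exact Commute.one_right gb
  have hpe : p ∣ orderOf w := by
    obtain ⟨u, hu, hu1⟩ := hQb1
    have : orderOf u = p := orderOf_eq_prime (congrArg Subtype.val (hQbpow ⟨u, hu⟩)) hu1
    rw [hw]; exact this ▸ Monoid.order_dvd_exponent u
  have howpos : orderOf w ≠ 0 := (orderOf_pos w).ne'
  set r := w ^ (orderOf w / q) with hr
  set y := w ^ (orderOf w / p) with hy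
  have hro : orderOf r = q := orderOf_pow_orderOf_div howpos hqe
  have hyo : orderOf y = p := orderOf_pow_orderOf_div howpos hpe
  have hrQ : r ∉ Qb := fun h => by
    have := orderOf_dvd_of_pow_eq_one (congrArg Subtype.val (hQbpow ⟨r, h⟩) : r ^ p = 1)
    rw [hro, Nat.prime_dvd_prime_iff_eq hq.out hp.out] at this
    exact hqp this
  have hyQ : y ∈ Qb := by
    obtain ⟨a, ha, i, hyai⟩ := hdec y
    have h1 : (QuotientGroup.mk y : (H ⧸ N0.subgroupOf H) ⧸ Qb) = (QuotientGroup.mk gb) ^ i := by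
      rw [hyai, QuotientGroup.mk_mul, (QuotientGroup.eq_one_iff a).mpr ha, one_mul, QuotientGroup.mk_zpow]
    have h2 : orderOf (QuotientGroup.mk y : (H ⧸ N0.subgroupOf H) ⧸ Qb) = 1 := by
      refine Nat.eq_one_of_dvd_coprimes ((Nat.coprime_primes hp.out hq.out).mpr (Ne.symm hqp))
        (hyo ▸ orderOf_map_dvd (QuotientGroup.mk' Qb) y) (orderOf_dvd_of_pow_eq_one ?_)
      rw [h1, ← zpow_natCast, ← zpow_mul, mul_comm, zpow_mul, zpow_natCast, ← QuotientGroup.mk_pow, hgbq,
        QuotientGroup.mk_one, one_zpow]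
    exact (QuotientGroup.eq_one_iff y).mp (orderOf_eq_one_iff.mp h2)
  -- the norm map kills the image of `Q`
  set c : MulAut Qb := MulAut.conjNormal gb with hc
  have hcq : c ^ q = 1 := by rw [hc, ← map_pow, hgbq, map_one]
  let θ : Qb →* Qb := ∏ i ∈ Finset.range q, (c ^ i).toMonoidHom
  have hθ : ∀ u, θ u = ∏ i ∈ Finset.range q, (c ^ i) u := fun u => by
    simp [θ, MonoidHom.finset_prod_apply]
  have hθc : ∀ u, θ (c u) = θ u := fun u => by
    rw [hθ, hθ]
    simp only [← MulAut.mul_apply, ← pow_succ]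
    have h1 := Finset.prod_range_succ' (fun i => (c ^ i) u) q
    have h2 := Finset.prod_range_succ (fun i => (c ^ i) u) q
    rw [h2, hcq, pow_zero] at h1
    exact (mul_right_cancel h1).symm
  have hθcpow : ∀ (n : ℕ) u, θ ((c ^ n) u) = θ u := by
    intro n
    induction n with
    | zero => intro u; rfl
    | succ n ih => intro u; rw [pow_succ', MulAut.mul_apply, hθc, ih]
  have hθ1 : ∀ u, θ u = 1 := by
    intro u
    obtain ⟨x, hx, hxe⟩ := u.2
    have hR : ⁅Q, A⁆ ≤ ((θ.ker.map Qb.subtype).comap π).map H.subtype := by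
      rw [Subgroup.commutator_le]
      intro x hx a ha
      have hxH : x ∈ H := Subgroup.mem_sup_left hx
      have haH : a ∈ H := Subgroup.mem_sup_right ha
      refine ⟨⁅(⟨x, hxH⟩ : H), (⟨a, haH⟩ : H)⁆, ?_, rfl⟩
      rw [mem_zpowers_iff_mem_range_orderOf, Finset.mem_image] at ha
      obtain ⟨n, -, hn⟩ := ha
      set xq : Qb := ⟨π ⟨x, hxH⟩, hQbmem hx⟩
      refine ⟨xq * (c ^ n) xq⁻¹, ?_, ?_⟩
      · rw [SetLike.mem_coe, MonoidHom.mem_ker, map_mul, hθcpow, map_inv, mul_inv_cancel]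
      · have hna : π ⟨a, haH⟩ = gb ^ n := by
          rw [hgb, ← map_pow]; exact congrArg π (Subtype.ext (by rw [SubmonoidClass.coe_pow, hgH, hn]))
        show (π ⟨x, hxH⟩) * (((c ^ n) xq⁻¹ : Qb) : H ⧸ N0.subgroupOf H) = π ⁅_, _⁆
        rw [map_commutatorElement, commutatorElement_def, hna, hc, ← map_pow, MulAut.conjNormal_apply]
        show π ⟨x, hxH⟩ * (gb ^ n * (π ⟨x, hxH⟩)⁻¹ * (gb ^ n)⁻¹) = _
        group
    obtain ⟨x', hx', hxx⟩ := (hsup ▸ hR) (show (x : G) ∈ Q from hx)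
    obtain rfl : x' = x := Subtype.ext hxx
    obtain ⟨v, hv, hve⟩ := hx'
    have : v = u := Subtype.ext (hve.trans hxe)
    exact this ▸ hv
  -- conclusion
  have hry : Commute y r := (Commute.refl w).pow_pow _ _
  obtain ⟨a, ha, i, hrai⟩ := hdec r
  have hyi : Commute y (gb ^ i) := by
    have hya : Commute y a := congrArg Subtype.val (hQbc.is_comm.comm (⟨y, hyQ⟩ : Qb) ⟨a, ha⟩)
    have := hya.inv_right.mul_right (hrai ▸ hry)
    rwa [inv_mul_cancel_left] at this
  have hgy : Commute y gb := by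
    have hgi : gb ^ i ≠ 1 := fun h => hrQ (by rw [hrai, h, mul_one]; exact ha)
    have hord : orderOf gb = q := orderOf_eq_prime hgbq hgb1
    have hsub : Subgroup.zpowers (gb ^ i) = Subgroup.zpowers gb := by
      refine Subgroup.eq_of_le_of_card_ge (Subgroup.zpowers_le.mpr (Subgroup.zpow_mem_zpowers gb i)) (le_of_eq ?_)
      rw [Nat.card_zpowers, Nat.card_zpowers, hord, orderOf_eq_prime (p := q) ?_ hgi]
      rw [← zpow_natCast, ← zpow_mul, mul_comm, zpow_mul, zpow_natCast, hgbq, one_zpow]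
    obtain ⟨k, hk⟩ := Subgroup.mem_zpowers_iff.mp (hsub.ge (Subgroup.mem_zpowers gb))
    rw [← hk]; exact hyi.zpow_right k
  have h := hθ1 ⟨y, hyQ⟩
  have hfix : ∀ n : ℕ, (c ^ n) ⟨y, hyQ⟩ = (⟨y, hyQ⟩ : Qb) := fun n => by
    rw [hc, ← map_pow]
    exact Subtype.ext (by rw [MulAut.conjNormal_apply, (hgy.pow_right n).symm.eq, mul_inv_cancel_right])
  simp only [hθ, hfix, Finset.prod_const, Finset.card_range] at h
  have h4 : y ^ q = 1 := congrArg Subtype.val h
  have := orderOf_dvd_of_pow_eq_one h4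
  rw [hyo, Nat.prime_dvd_prime_iff_eq hp.out hq.out] at this
  exact hqp this.symm

theorem backward {p : ℕ} [hp : Fact p.Prime]
    (hyp : ∀ (H : Subgroup G) (N : Subgroup H) [N.Normal], Cfsg.pPrimeCore p (H ⧸ N) = ⊥ →
      ∃ k : H ⧸ N, orderOf k = Monoid.exponent (H ⧸ N)) : Cfsg.HasNormalPComplement p G := by
  classical
  refine Transfer.hasNormalPComplement_of_frobenius (default : Sylow p G) fun Q hQS g hg hgo => ?_
  have hQp : IsPGroup p Q := (default : Sylow p G).2.to_le hQS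
  have hprim : ∀ (q : ℕ) [Fact q.Prime], q ≠ p → ∀ (n : ℕ) (Q : Subgroup G) (h : G) (e : ℕ), IsPGroup p Q →
      Nat.card Q + e = n → h ∈ Subgroup.normalizer (Q : Set G) → orderOf h = q ^ e →
      h ∈ Subgroup.centralizer (Q : Set G) := by
    intro q hq hqp n
    induction n using Nat.strongRecOn with
    | _ n ih =>
      intro Q h e hQ hn hh he
      by_contra hc
      rcases Nat.eq_zero_or_pos e with h0 | h0
      · rw [h0, pow_zero, orderOf_eq_one_iff] at he
        exact hc (he ▸ one_mem _)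
      have hgq : h ^ q ∈ Subgroup.centralizer (Q : Set G) := by
        refine ih (Nat.card Q + (e - 1)) (by omega) Q (h ^ q) (e - 1) hQ rfl (pow_mem hh q) ?_
        rw [orderOf_pow' _ hq.out.ne_zero, he, Nat.gcd_eq_right (dvd_pow_self q h0.ne')]
        conv_lhs => rw [show e = (e - 1) + 1 by omega, pow_succ]
        exact Nat.mul_div_cancel _ hq.out.pos
      exact no_bad hqp hyp Q hQ h he hh hc hgq fun R hR hne hhR => by
        have hlt : Nat.card R < Nat.card Q := lt_of_le_of_ne (Subgroup.card_le_of_le hR) fun e =>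
          hne (Subgroup.eq_of_le_of_card_ge hR e.ge)
        exact ih (Nat.card R + e) (by omega) R h e (hQ.to_le hR) rfl hhR he
  have h1 : (Subgroup.centralizer (Q : Set G)).relIndex (Subgroup.zpowers g) = 1 := by
    refine Nat.eq_one_iff_not_exists_prime_dvd.mpr fun r hr hrd => ?_
    haveI := Fact.mk hr
    have hdg : r ∣ orderOf g := by
      rw [← Nat.card_zpowers]; exact hrd.trans (Subgroup.index_dvd_card _)
    have hrp : r ≠ p := fun e => hr.one_lt.ne' (Nat.eq_one_of_dvd_coprimes hgo hdg (dvd_of_eq e))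
    obtain ⟨R⟩ : Nonempty (Sylow r (Subgroup.zpowers g)) := inferInstance
    refine R.not_dvd_index (hrd.trans (Subgroup.index_dvd_of_le fun v hv => ?_))
    obtain ⟨e, he⟩ := IsPGroup.iff_orderOf.mp R.2 ⟨v, hv⟩
    rw [Subgroup.orderOf_mk] at he
    exact hprim r hrp _ Q (v : G) e hQp rfl (Subgroup.zpowers_le.mpr hg v.2) (by rw [Subgroup.orderOf_coe]; exact he)
  exact Subgroup.relIndex_eq_one.mp h1 (Subgroup.mem_zpowers g)

/-- Let G be a finite group and p a prime. Then G has a normal p-complement if and only if every section K = H/N of G (N a normal subgroup of a subgroup H) whose largest normal subgroup of order prime to p is trivial contains an element whose order equals the exponent of K. -/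
theorem result {G : Type*} [Group G] [Finite G] (p : ℕ) [Fact p.Prime] :
    Cfsg.HasNormalPComplement p G ↔
      ∀ (H : Subgroup G) (N : Subgroup H) [N.Normal], Cfsg.pPrimeCore p (H ⧸ N) = ⊥ →
        ∃ k : H ⧸ N, orderOf k = Monoid.exponent (H ⧸ N) := by
  refine ⟨fun h H N _ hK => forward h H N hK, fun h => backward ?_⟩
  intro H N _ hK
  exact h H N hK

end Cfsg.Agent.S4238
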