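import Cfsg.Statements.S4242
import Cfsg.Agent.Lib.Coprime.Action
import Cfsg.Agent.Lib.Cores.Fitting
import Cfsg.Agent.Lib.Transfer.Frobenius
import Cfsg.Agent.Lib.Solvable.Schmidt
import Cfsg.Agent.Lib.Cores.PCore
import Mathlib

set_option autoImplicit false
open Cfsg

namespace Cfsg.Agent.S4242

open Cfsg.Agent.Lib

universe u

variable {G : Type u} [Group G] [Finite G]

theorem nilpotent_of_comap {H : Subgroup G} {X : Subgroup H} (h : Group.IsNilpotent (X.map H.subtype)) :
    Group.IsNilpotent X :=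
  haveI := h
  Cores.isNilpotent_of_injective (X.equivMapOfInjective H.subtype H.subtype_injective).toMonoidHom
    (X.equivMapOfInjective H.subtype H.subtype_injective).injective

theorem le_proper {p : ℕ} (h : ∀ M : Subgroup G, IsCoatom M → p ∣ Nat.card M → Group.IsNilpotent M)
    {H : Subgroup G} (hH : H ≠ ⊤) (hp : p ∣ Nat.card H) : Group.IsNilpotent H := by
  obtain ⟨M, hM, hle⟩ := (eq_top_or_exists_le_coatom H).resolve_left hH
  haveI := h M hM (hp.trans (Subgroup.card_dvd_of_le hle))
  exact Cores.isNilpotent_of_injective (Subgroup.inclusion hle) (Subgroup.inclusion_injective hle)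

/-- In a nilpotent normalizer, `p'`-elements centralize a `p`-subgroup. -/
theorem centralize_of_nilpotent {p : ℕ} [Fact p.Prime] {Q : Subgroup G} (hQ : IsPGroup p Q)
    {N : Subgroup G} (hQN : Q ≤ N) [Group.IsNilpotent N] {g : G} (hg : g ∈ N)
    (hgo : Nat.Coprime (orderOf g) p) : g ∈ Subgroup.centralizer (Q : Set G) := by
  classical
  set Q' := Q.subgroupOf N with hQ'
  have hQ'p : IsPGroup p Q' := hQ.comap_of_injective N.subtype N.subtype_injective
  set C := Subgroup.centralizer (Q' : Set N) ⊔ ⊥ with hC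
  have hmem : (⟨g, hg⟩ : N) ∈ Subgroup.centralizer (Q' : Set N) := by
    have hidx : ∀ r : ℕ, r.Prime → r ∣ (Subgroup.centralizer (Q' : Set N)).index → r = p := by
      intro r hr hrd
      by_contra hrp
      haveI := Fact.mk hr
      obtain ⟨R⟩ : Nonempty (Sylow r N) := inferInstance
      exact R.not_dvd_index (hrd.trans (Subgroup.index_dvd_of_le
        (Solvable.Schmidt.commute_of_coprime_orderOf hrp R.2 hQ'p)))
    -- a coset of order dividing both the index and the order of g
    rw [← Subgroup.zpowers_le]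
    intro x hx
    set Z := Subgroup.zpowers (⟨g, hg⟩ : N)
    have h1 : (Subgroup.centralizer (Q' : Set N)).relIndex Z = 1 := by
      refine Nat.eq_one_iff_not_exists_prime_dvd.mpr fun r hr hrd => ?_
      have hdZ : r ∣ Nat.card Z := hrd.trans (Subgroup.index_dvd_card _)
      rw [Nat.card_zpowers, Subgroup.orderOf_mk] at hdZ
      haveI := Fact.mk hr
      have hrp : r ≠ p := by
        rintro rfl
        exact hr.one_lt.ne' (Nat.eq_one_of_dvd_coprimes hgo hdZ dvd_rfl)
      -- the Sylow r-subgroup of Z centralizes Q'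
      obtain ⟨R⟩ : Nonempty (Sylow r Z) := inferInstance
      refine R.not_dvd_index (hrd.trans (Subgroup.index_dvd_of_le fun v hv => ?_))
      exact Solvable.Schmidt.commute_of_coprime_orderOf hrp (R.2.map Z.subtype) hQ'p ⟨v, hv, rfl⟩
    exact Subgroup.relIndex_eq_one.mp h1 hx
  rw [Subgroup.mem_centralizer_iff]
  intro q hq
  exact congrArg Subtype.val (Subgroup.mem_centralizer_iff.mp hmem (⟨q, hQN hq⟩ : N) hq)

/-- Every element commuting with a subgroup. -/
theorem sup_prod {A B : Subgroup G} (h : ∀ a ∈ A, ∀ b ∈ B, Commute a b) :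
    A ≤ Subgroup.normalizer (B : Set G) := fun a ha =>
  Subgroup.centralizer_le_normalizer _ (Subgroup.mem_centralizer_iff.mpr fun b hb => (h a ha b hb).symm.eq)

theorem forward {p : ℕ} [hpf : Fact p.Prime] (hpG : p ∣ Nat.card G)
    (h : ∀ M : Subgroup G, IsCoatom M → p ∣ Nat.card M → Group.IsNilpotent M) :
    Group.IsNilpotent G ∨ Cfsg.IsMinimalNonNilpotent G ∨
      ∃ Z K : Subgroup G, Z.Normal ∧ K.Normal ∧ Z ⊓ K = ⊥ ∧ Z ⊔ K = ⊤ ∧ Nat.card Z = p ∧
        Cfsg.IsMinimalNonNilpotent K ∧ ¬ p ∣ Nat.card K := by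
  classical
  by_cases hall : ∀ M : Subgroup G, IsCoatom M → Group.IsNilpotent M
  · by_cases hnil : Group.IsNilpotent G
    · exact Or.inl hnil
    · refine Or.inr (Or.inl ⟨hnil, fun H hH => ?_⟩)
      obtain ⟨M, hM, hle⟩ := (eq_top_or_exists_le_coatom H).resolve_left hH
      haveI := hall M hM
      exact Cores.isNilpotent_of_injective (Subgroup.inclusion hle) (Subgroup.inclusion_injective hle)
  push Not at hall
  obtain ⟨M, hM, hMnil⟩ := hall
  have hpM : ¬ p ∣ Nat.card M := fun hd => hMnil (h M hM hd)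
  obtain ⟨P⟩ : Nonempty (Sylow p G) := inferInstance
  -- it suffices to find a nontrivial normal Sylow subgroup centralized by M
  suffices hkey : (P : Subgroup G).Normal ∧ ∀ a ∈ (P : Subgroup G), ∀ b ∈ M, Commute a b by
    obtain ⟨hPn, hcomm⟩ := hkey
    haveI := hPn
    right; right
    have hinf : (P : Subgroup G) ⊓ M = ⊥ := by
      refine Subgroup.eq_bot_of_card_le _ (Nat.le_of_eq ?_)
      obtain ⟨n, hn⟩ := (P.2.to_le (inf_le_left : (P : Subgroup G) ⊓ M ≤ P)).exists_card_eq
      rcases Nat.eq_zero_or_pos n with h0 | h0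
      · rw [hn, h0, pow_zero]
      · exact absurd ((dvd_pow_self p h0.ne').trans (hn ▸ Subgroup.card_dvd_of_le inf_le_right)) hpM
    have htop : (P : Subgroup G) ⊔ M = ⊤ := hM.2 _ (lt_of_le_of_ne le_sup_right fun e => hpM
      ((P.dvd_card_of_dvd_card hpG).trans (Subgroup.card_dvd_of_le (e.ge.trans' le_sup_left))))
    have hMn : M.Normal := by
      rw [← Subgroup.normalizer_eq_top_iff, eq_top_iff, ← htop, sup_le_iff]
      exact ⟨sup_prod hcomm, Subgroup.le_normalizer⟩
    haveI := hMn
    have hidx : M.index = Nat.card (P : Subgroup G) := by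
      have h1 := Coprime.card_sup_mul_card_inf (N := (P : Subgroup G)) (H := M) Subgroup.le_normalizer_of_normal
      rw [hinf, htop, Subgroup.card_bot, mul_one, Subgroup.card_top] at h1
      have h2 := M.card_mul_index
      rw [h1, mul_comm (Nat.card (P : Subgroup G))] at h2
      exact Nat.eq_of_mul_eq_mul_left Nat.card_pos h2
    -- M is a normal maximal subgroup of p-power index, so of index p
    have hidxp : M.index = p := by
      haveI : Nontrivial (G ⧸ M) := QuotientGroup.nontrivial_iff.mpr hM.1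
      obtain ⟨q, hq⟩ := exists_prime_orderOf_dvd_card' (G := G ⧸ M) p (by
        rw [← Subgroup.index_eq_card, hidx]; exact P.dvd_card_of_dvd_card hpG)
      obtain ⟨x, rfl⟩ := QuotientGroup.mk_surjective q
      have hsup : M ⊔ Subgroup.zpowers x = ⊤ := hM.2 _ (lt_of_le_of_ne le_sup_left fun e => by
        have hx : x ∈ M := e.ge (Subgroup.mem_sup_right (Subgroup.mem_zpowers x))
        rw [(QuotientGroup.eq_one_iff x).mpr hx, orderOf_one] at hq
        exact hpf.out.one_lt.ne hq)
      have htq : Subgroup.zpowers (x : G ⧸ M) = ⊤ := by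
        rw [eq_top_iff]
        intro y _
        obtain ⟨g, rfl⟩ := QuotientGroup.mk_surjective y
        have hg : g ∈ M ⊔ Subgroup.zpowers x := hsup ▸ Subgroup.mem_top g
        obtain ⟨m, hm, z, hz, rfl⟩ := Coprime.exists_mul_of_mem_sup
          (Subgroup.le_normalizer_of_normal : Subgroup.zpowers x ≤ Subgroup.normalizer (M : Set G)) hg
        obtain ⟨k, rfl⟩ := Subgroup.mem_zpowers_iff.mp hz
        rw [QuotientGroup.mk_mul, (QuotientGroup.eq_one_iff m).mpr hm, one_mul, QuotientGroup.mk_zpow]
        exact Subgroup.zpow_mem_zpowers _ k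
      rw [Subgroup.index_eq_card, ← Subgroup.card_top (G := G ⧸ M), ← htq, Nat.card_zpowers, hq]
    refine ⟨(P : Subgroup G), M, hPn, hMn, hinf, htop, hidx.symm.trans hidxp, ⟨hMnil, fun H hH => ?_⟩, hpM⟩
    set H' := H.map M.subtype with hH'
    have hne : (P : Subgroup G) ⊔ H' ≠ ⊤ := by
      intro e
      have h1 := Coprime.card_sup_mul_card_inf (N := (P : Subgroup G)) (H := H') Subgroup.le_normalizer_of_normal
      rw [e, le_bot_iff.mp ((inf_le_inf_left _ (Subgroup.map_subtype_le H)).trans hinf.le), Subgroup.card_bot, mul_one,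
        Subgroup.card_top, ← hidx, Subgroup.card_subtype] at h1
      have h2 := M.card_mul_index
      rw [mul_comm] at h2
      rw [← h2] at h1
      exact hH (Subgroup.eq_top_of_card_eq H (Nat.eq_of_mul_eq_mul_left (Nat.pos_of_ne_zero Subgroup.index_ne_zero_of_finite) h1).symm)
    have := le_proper h hne ((P.dvd_card_of_dvd_card hpG).trans (Subgroup.card_dvd_of_le le_sup_left))
    exact nilpotent_of_comap (Cores.isNilpotent_of_injective (Subgroup.inclusion (le_sup_right : H' ≤ (P : Subgroup G) ⊔ H'))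
      (Subgroup.inclusion_injective _))
  -- now prove the key statement
  have hPne : (P : Subgroup G) ≠ ⊥ := fun e => by
    have := P.dvd_card_of_dvd_card hpG
    rw [e, Subgroup.card_bot] at this
    exact hpf.out.one_lt.ne' (Nat.dvd_one.mp this)
  have hnc : (P : Subgroup G).Normal → ∀ a ∈ (P : Subgroup G), ∀ b ∈ M, Commute a b := by
    intro hPn a ha b hb
    haveI := hPn
    have hne : (P : Subgroup G) ⊔ Subgroup.zpowers b ≠ ⊤ := by
      intro e
      refine hMnil ?_
      have hle : M ≤ Subgroup.zpowers b := by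
        intro m hm
        obtain ⟨u, hu, v, hv, huv⟩ := Coprime.exists_mul_of_mem_sup
          (Subgroup.le_normalizer_of_normal : Subgroup.zpowers b ≤ Subgroup.normalizer ((P : Subgroup G) : Set G))
          (e ▸ Subgroup.mem_top m : m ∈ (P : Subgroup G) ⊔ Subgroup.zpowers b)
        have huM : u ∈ M := by
          have : u = m * v⁻¹ := by rw [huv, mul_inv_cancel_right]
          exact this ▸ M.mul_mem hm (M.inv_mem (Subgroup.zpowers_le.mpr hb hv))
        have hu1 : u = 1 := by
          have h1 := Subgroup.orderOf_dvd_natCard M huM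
          obtain ⟨k, hk⟩ := IsPGroup.iff_orderOf.mp P.2 ⟨u, hu⟩
          rw [Subgroup.orderOf_mk] at hk
          rcases Nat.eq_zero_or_pos k with h0 | h0
          · exact orderOf_eq_one_iff.mp (by rw [hk, h0, pow_zero])
          · exact absurd ((dvd_pow_self p h0.ne').trans (hk ▸ h1)) hpM
        rw [hu1, one_mul] at huv
        exact huv ▸ hv
      haveI : IsCyclic (Subgroup.zpowers b) := inferInstance
      letI : CommGroup (Subgroup.zpowers b) := IsCyclic.commGroup
      exact Cores.isNilpotent_of_injective (Subgroup.inclusion hle) (Subgroup.inclusion_injective hle)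
    haveI := le_proper h hne ((P.dvd_card_of_dvd_card hpG).trans (Subgroup.card_dvd_of_le le_sup_left))
    refine (Subgroup.mem_centralizer_iff.mp (centralize_of_nilpotent P.2 (le_sup_left : (P : Subgroup G) ≤ _)
      (Subgroup.mem_sup_right (Subgroup.mem_zpowers b)) ?_) a ha)
    refine Nat.Coprime.symm ((hpf.out.coprime_iff_not_dvd).mpr fun hd => hpM (hd.trans (Subgroup.orderOf_dvd_natCard M hb)))
  by_cases hloc : ∀ Q : Subgroup G, IsPGroup p Q → Q ≠ ⊥ → Subgroup.normalizer (Q : Set G) ≠ ⊤
  · -- G has a normal p-complement, which is M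
    have hnpc : Cfsg.HasNormalPComplement p G := by
      refine Transfer.hasNormalPComplement_of_frobenius P fun Q hQ g hg hgo => ?_
      have hQp : IsPGroup p Q := P.2.to_le hQ
      by_cases hQb : Q = ⊥
      · subst hQb
        exact Subgroup.mem_centralizer_iff.mpr fun q hq => by
          rw [Subgroup.mem_bot.mp hq, one_mul, mul_one]
      haveI := le_proper h (hloc Q hQp hQb) (by
        obtain ⟨n, hn⟩ := hQp.exists_card_eq
        rcases Nat.eq_zero_or_pos n with h0 | h0
        · exact absurd (Subgroup.card_eq_one.mp (by rw [hn, h0, pow_zero])) hQb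
        · exact (dvd_pow_self p h0.ne').trans (hn ▸ Subgroup.card_dvd_of_le Subgroup.le_normalizer))
      exact centralize_of_nilpotent hQp Subgroup.le_normalizer hg hgo
    obtain ⟨P', K, hKn, hKc⟩ := hnpc
    haveI := hKn
    have hKidx : K.index = Nat.card (P' : Subgroup G) := hKc.symm.index_eq_card
    have hMK : M ≤ K := by
      intro m hm
      have hcop : (orderOf m).Coprime K.index := by
        obtain ⟨n, hn⟩ := P'.2.exists_card_eq
        rw [hKidx, hn]
        exact (Nat.Coprime.symm ((hpf.out.coprime_iff_not_dvd).mpr fun hd =>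
          hpM (hd.trans (Subgroup.orderOf_dvd_natCard M hm)))).pow_right _
      have h1 : orderOf (m : G ⧸ K) = 1 := Nat.eq_one_of_dvd_coprimes hcop (orderOf_map_dvd (QuotientGroup.mk' K) m)
        ((orderOf_dvd_natCard _).trans (dvd_of_eq (Subgroup.index_eq_card K).symm))
      exact (QuotientGroup.eq_one_iff m).mp (orderOf_eq_one_iff.mp h1)
    have hKne : K ≠ ⊤ := fun e => by
      rw [e, Subgroup.index_top] at hKidx
      have := P'.dvd_card_of_dvd_card hpG
      rw [← hKidx] at this
      exact hpf.out.one_lt.ne' (Nat.dvd_one.mp this)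
    have hKM : K = M := ((hM.le_iff.mp hMK).resolve_left hKne)
    subst hKM
    -- P centralizes every invariant Sylow subgroup of K
    have hpK : ¬ p ∣ Nat.card K := hpM
    have hcopPK : (Nat.card (P : Subgroup G)).Coprime (Nat.card K) := by
      obtain ⟨n, hn⟩ := P.2.exists_card_eq
      rw [hn]; exact ((hpf.out.coprime_iff_not_dvd).mpr hpK).pow_left _
    haveI : Group.IsNilpotent (P : Subgroup G) := P.2.isNilpotent
    have hle : K ≤ Subgroup.centralizer ((P : Subgroup G) : Set G) := by
      have h1 : (Subgroup.centralizer ((P : Subgroup G) : Set G)).relIndex K = 1 := by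
        refine Nat.eq_one_iff_not_exists_prime_dvd.mpr fun r hr hrd => ?_
        haveI := Fact.mk hr
        obtain ⟨R, hR⟩ := Coprime.exists_invariant_sylow (A := (P : Subgroup G)) (K := K)
          Subgroup.le_normalizer_of_normal hcopPK (Or.inl inferInstance) r
        refine R.not_dvd_index (hrd.trans (Subgroup.index_dvd_of_le fun v hv => ?_))
        have hrK : r ∣ Nat.card K := hrd.trans (Subgroup.index_dvd_card _)
        have hrp : r ≠ p := fun e => hpK (e ▸ hrK)
        set R' := (R : Subgroup K).map K.subtype with hR'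
        have hne : R' ⊔ (P : Subgroup G) ≠ ⊤ := by
          intro e
          refine hMnil ?_
          have hcR : (Nat.card R').Coprime (Nat.card (P : Subgroup G)) :=
            (hcopPK.coprime_dvd_right (Subgroup.card_dvd_of_le (Subgroup.map_subtype_le _))).symm
          have h2 := Coprime.card_sup_of_coprime hR hcR
          rw [e, Subgroup.card_top] at h2
          have h3 := K.card_mul_index
          rw [hKidx, h2, P'.card_eq_multiplicity, ← P.card_eq_multiplicity] at h3
          have h4 : R' = K := Subgroup.eq_of_le_of_card_ge (Subgroup.map_subtype_le _)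
            (Nat.eq_of_mul_eq_mul_right Nat.card_pos h3).le
          rw [← h4]
          exact (R.2.map K.subtype).isNilpotent
        haveI := le_proper h hne ((P.dvd_card_of_dvd_card hpG).trans (Subgroup.card_dvd_of_le le_sup_right))
        refine centralize_of_nilpotent P.2 (le_sup_right : (P : Subgroup G) ≤ R' ⊔ _)
          (Subgroup.mem_sup_left ⟨v, hv, rfl⟩) ?_
        obtain ⟨k, hk⟩ := IsPGroup.iff_orderOf.mp R.2 ⟨v, hv⟩
        rw [Subgroup.orderOf_mk] at hk
        rw [K.subtype_apply, Subgroup.orderOf_coe, hk]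
        exact ((Nat.coprime_primes hr hpf.out).mpr hrp).pow_left _
      exact Subgroup.relIndex_eq_one.mp h1
    have htop : (P : Subgroup G) ⊔ K = ⊤ := hM.2 _ (lt_of_le_of_ne le_sup_right fun e => hpM
      ((P.dvd_card_of_dvd_card hpG).trans (Subgroup.card_dvd_of_le (e.ge.trans' le_sup_left))))
    have hc : ∀ a ∈ (P : Subgroup G), ∀ b ∈ K, Commute a b := fun a ha b hb =>
      Subgroup.mem_centralizer_iff.mp (hle hb) a ha
    refine ⟨?_, hc⟩
    rw [← Subgroup.normalizer_eq_top_iff, eq_top_iff, ← htop, sup_le_iff]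
    exact ⟨Subgroup.le_normalizer, sup_prod fun b hb a ha => (hc a ha b hb).symm⟩
  · push Not at hloc
    obtain ⟨Q, hQp, hQb, hQn⟩ := hloc
    haveI : Q.Normal := Subgroup.normalizer_eq_top_iff.mp hQn
    have hQP : Q ≤ P := (Cores.le_pCore (p := p) (N := Q) inferInstance hQp).trans (Cores.pCore_le_sylow P)
    have htop : Q ⊔ M = ⊤ := hM.2 _ (lt_of_le_of_ne le_sup_right fun e => by
      obtain ⟨n, hn⟩ := hQp.exists_card_eq
      rcases Nat.eq_zero_or_pos n with h0 | h0
      · exact hQb (Subgroup.card_eq_one.mp (by rw [hn, h0, pow_zero]))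
      · exact hpM ((dvd_pow_self p h0.ne').trans (hn ▸ Subgroup.card_dvd_of_le (e.ge.trans' le_sup_left))))
    have hPQ : (P : Subgroup G) = Q := by
      refine (Subgroup.eq_of_le_of_card_ge hQP (Nat.le_of_dvd Nat.card_pos ?_)).symm
      have h1 := Coprime.card_sup_mul_card_inf (N := Q) (H := M) Subgroup.le_normalizer_of_normal
      rw [htop, Subgroup.card_top] at h1
      have hd : Nat.card (P : Subgroup G) ∣ Nat.card Q * Nat.card M :=
        h1 ▸ (Subgroup.card_subgroup_dvd_card _).mul_right _
      refine (Nat.Coprime.dvd_of_dvd_mul_right ?_ hd)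
      obtain ⟨n, hn⟩ := P.2.exists_card_eq
      rw [hn]; exact ((hpf.out.coprime_iff_not_dvd).mpr hpM).pow_left _
    have hPn : (P : Subgroup G).Normal := hPQ ▸ (inferInstance : Q.Normal)
    exact ⟨hPn, hnc hPn⟩

theorem backward {p : ℕ} [hpf : Fact p.Prime] (Z K : Subgroup G) [Z.Normal] [K.Normal] (hinf : Z ⊓ K = ⊥)
    (htop : Z ⊔ K = ⊤) (hZ : Nat.card Z = p) (hK : Cfsg.IsMinimalNonNilpotent K) (hpK : ¬ p ∣ Nat.card K)
    (M : Subgroup G) (hM : IsCoatom M) (hpM : p ∣ Nat.card M) : Group.IsNilpotent M := by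
  classical
  obtain ⟨z, hz⟩ := exists_prime_orderOf_dvd_card' (G := M) p hpM
  rw [← Subgroup.orderOf_coe] at hz
  have hc : ∀ a ∈ Z, ∀ b ∈ K, Commute a b := fun a ha b hb => by
    have : a * b * a⁻¹ * b⁻¹ ∈ Z ⊓ K := by
      refine ⟨?_, K.mul_mem ((inferInstance : K.Normal).conj_mem b hb a) (K.inv_mem hb)⟩
      rw [show a * b * a⁻¹ * b⁻¹ = a * (b * a⁻¹ * b⁻¹) by group]
      exact Z.mul_mem ha ((inferInstance : Z.Normal).conj_mem _ (Z.inv_mem ha) b)
    rw [hinf, Subgroup.mem_bot, mul_inv_eq_one, mul_inv_eq_iff_eq_mul] at this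
    exact this
  obtain ⟨u, hu, v, hv, huv⟩ := Coprime.exists_mul_of_mem_sup
    (Subgroup.le_normalizer_of_normal : K ≤ Subgroup.normalizer (Z : Set G)) (htop ▸ Subgroup.mem_top (z : G))
  have hv1 : v = 1 := by
    have hupow : u ^ p = 1 := by
      rw [← hZ]; exact congrArg Subtype.val (pow_card_eq_one' (x := (⟨u, hu⟩ : Z)))
    have h1 : v ^ p = 1 := by
      have := pow_orderOf_eq_one (z : G)
      rwa [hz, huv, (hc u hu v hv).mul_pow, hupow, one_mul] at this
    have h2 := orderOf_dvd_of_pow_eq_one h1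
    rcases (Nat.dvd_prime hpf.out).mp h2 with h3 | h3
    · exact orderOf_eq_one_iff.mp h3
    · exact absurd (h3 ▸ Subgroup.orderOf_dvd_natCard K hv) hpK
  rw [hv1, mul_one] at huv
  have hZM : Z ≤ M := by
    have h1 : Subgroup.zpowers (z : G) = Z := Subgroup.eq_of_le_of_card_ge
      (Subgroup.zpowers_le.mpr (huv ▸ hu)) (by rw [Nat.card_zpowers, hz, hZ])
    exact h1 ▸ Subgroup.zpowers_le.mpr z.2
  have hne : (M ⊓ K).subgroupOf K ≠ ⊤ := by
    intro e
    rw [Subgroup.subgroupOf_eq_top] at e
    exact hM.1 (top_le_iff.mp (htop.ge.trans (sup_le hZM (e.trans inf_le_left))))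
  haveI := hK.2 _ hne
  haveI : Group.IsNilpotent ↥(M ⊓ K) :=
    Cores.isNilpotent_of_injective (Subgroup.subgroupOfEquivOfLe (inf_le_right : M ⊓ K ≤ K)).symm.toMonoidHom
      (Subgroup.subgroupOfEquivOfLe (inf_le_right : M ⊓ K ≤ K)).symm.injective
  -- M = Z × (M ∩ K)
  haveI : Fact (Nat.card Z).Prime := ⟨hZ ▸ hpf.out⟩
  haveI : IsCyclic Z := isCyclic_of_prime_card rfl
  letI : CommGroup Z := IsCyclic.commGroup
  let φ : ↥Z × ↥(M ⊓ K) →* G := MonoidHom.noncommCoprod Z.subtype (M ⊓ K).subtype fun a b => hc a a.2 b b.2.2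
  have hrange : φ.range = M := by
    apply le_antisymm
    · rintro _ ⟨⟨a, b⟩, rfl⟩
      exact M.mul_mem (hZM a.2) b.2.1
    · intro m hm
      obtain ⟨a, ha, b, hb, hab⟩ := Coprime.exists_mul_of_mem_sup
        (Subgroup.le_normalizer_of_normal : K ≤ Subgroup.normalizer (Z : Set G)) (htop ▸ Subgroup.mem_top m)
      have hbM : b ∈ M := by
        have : b = a⁻¹ * m := by rw [hab, inv_mul_cancel_left]
        exact this ▸ M.mul_mem (M.inv_mem (hZM ha)) hm
      exact ⟨(⟨a, ha⟩, ⟨b, hbM, hb⟩), hab.symm⟩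
  rw [← hrange]
  exact Group.nilpotent_of_surjective φ.rangeRestrict φ.rangeRestrict_surjective

/-- Let G be a finite group and p a prime dividing its order. Every maximal subgroup of G of order divisible by p is nilpotent if and only if G is nilpotent, or G is a minimal non-nilpotent group, or G is the internal direct product of a normal subgroup of order p and a normal minimal non-nilpotent subgroup of order prime to p. -/
theorem result {G : Type*} [Group G] [Finite G] (p : ℕ) (hp : p.Prime) (hpG : p ∣ Nat.card G) :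
    (∀ M : Subgroup G, IsCoatom M → p ∣ Nat.card M → Group.IsNilpotent M) ↔
      (Group.IsNilpotent G ∨ Cfsg.IsMinimalNonNilpotent G ∨
        ∃ Z K : Subgroup G, Z.Normal ∧ K.Normal ∧ Z ⊓ K = ⊥ ∧ Z ⊔ K = ⊤ ∧ Nat.card Z = p ∧
          Cfsg.IsMinimalNonNilpotent K ∧ ¬ p ∣ Nat.card K) := by
  haveI := Fact.mk hp
  refine ⟨forward hpG, ?_⟩
  rintro (hn | hn | ⟨Z, K, hZ, hK, h1, h2, h3, h4, h5⟩) M hM hpM
  · exact Cores.isNilpotent_of_injective M.subtype M.subtype_injective
  · exact hn.2 M hM.1
  · exact backward Z K h1 h2 h3 h4 h5 M hM hpM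

end Cfsg.Agent.S4242
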