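import Cfsg.Statements.S4245
import Cfsg.Agent.Lib.Characters.Kernel
import Cfsg.Agent.Lib.Involutions.Counting
import Mathlib

set_option autoImplicit false
open Cfsg

namespace Cfsg.Agent.S4245

universe u

theorem simple_case {G : Type u} [Group G] [Finite G] [IsSimpleGroup G] (A : Subgroup G) (p s : ℕ)
    (hp : p.Prime) (hA : A.index = p ^ s) (B : Subgroup A) [B.Normal] (hB : IsCyclic B)
    (hAB : IsCyclic (A ⧸ B)) (h2 : IsPGroup 2 (A ⧸ B)) : Group.IsSolvable G := by
  classical
  haveI : Fact (Nat.Prime 2) := ⟨Nat.prime_two⟩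
  haveI := Fact.mk hp
  have hprime : (Nat.card G).Prime → Group.IsSolvable G := fun h => by
    haveI := Fact.mk h
    haveI := isCyclic_of_prime_card (α := G) rfl
    letI := IsCyclic.commGroup (α := G)
    infer_instance
  have hpgrp : ∀ {q : ℕ}, q.Prime → IsPGroup q G → Group.IsSolvable G := fun hq h => by
    haveI := Fact.mk hq
    haveI := h.isNilpotent
    infer_instance
  -- Burnside: no non-identity element has class of prime power size
  have hclass : ∀ g : G, g ≠ 1 → ∀ K : Subgroup G, ∀ k : ℕ, K ≤ Subgroup.centralizer ({g} : Set G) →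
      K.index = p ^ k → Group.IsSolvable G := by
    intro g hg K k hKle hK
    have hd : (Subgroup.centralizer ({g} : Set G)).index ∣ p ^ k := hK ▸ Subgroup.index_dvd_of_le hKle
    obtain ⟨j, -, hj⟩ := (Nat.dvd_prime_pow hp).mp hd
    exact hprime (Cfsg.Agent.Lib.Characters.card_prime_of_class_primePow hp hg hj)
  by_cases hp2 : p = 2
  · subst hp2
    by_cases hB2 : IsPGroup 2 B
    · refine hpgrp Nat.prime_two ?_
      obtain ⟨a, ha⟩ := IsPGroup.iff_card.mp hB2
      obtain ⟨b, hb⟩ := IsPGroup.iff_card.mp h2
      refine IsPGroup.of_card (n := s + (b + a)) ?_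
      rw [← A.index_mul_card, hA, B.card_eq_card_quotient_mul_card_subgroup, ha, hb, ← pow_add, ← pow_add]
    · obtain ⟨x, hx⟩ : ∃ x : B, x ≠ 1 := by
        by_contra h
        push Not at h
        exact hB2 (fun x => ⟨0, by rw [h x, one_pow]⟩)
      obtain ⟨b, hb⟩ := IsPGroup.iff_card.mp h2
      refine hclass ((x : A) : G) (fun h => hx (Subtype.ext (Subtype.ext h))) (B.map A.subtype) (b + s) ?_ ?_
      · haveI := hB
        letI := IsCyclic.commGroup (α := B)
        rintro _ ⟨y, hy, rfl⟩
        rw [Subgroup.mem_centralizer_singleton_iff]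
        exact congrArg (fun z : B => ((z : A) : G)) (mul_comm (⟨y, hy⟩ : B) x)
      · rw [Subgroup.index_map_of_injective _ A.subtype_injective, Subgroup.range_subtype, hA,
          Subgroup.index, hb, ← pow_add]
  by_cases hZ : ∃ z : A, z ≠ 1 ∧ ∀ a : A, a * z = z * a
  · obtain ⟨z, hz1, hz⟩ := hZ
    refine hclass (z : G) (fun h => hz1 (Subtype.ext h)) A s (fun a ha => ?_) hA
    rw [Subgroup.mem_centralizer_singleton_iff]
    exact congrArg Subtype.val (hz ⟨a, ha⟩)
  push Not at hZ
  -- the cyclic normal subgroup has odd order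
  have hBodd : ¬ 2 ∣ Nat.card B := by
    intro hd
    obtain ⟨x, hx⟩ := exists_prime_orderOf_dvd_card' (G := B) 2 hd
    obtain ⟨a, ha⟩ := hZ (x : A) (fun h => by
      rw [show x = 1 from Subtype.ext h, orderOf_one] at hx; omega)
    refine ha ?_
    haveI := hB
    have hxx : (⟨a * x * a⁻¹, Subgroup.Normal.conj_mem inferInstance _ x.2 a⟩ : B) = x := by
      have hu : ∀ y : B, y ^ 2 = 1 → y = 1 ∨ y = x := by
        intro y hy
        by_cases h1 : y = 1
        · exact Or.inl h1
        refine Or.inr ?_
        have hle : Nat.card {y : B // y ^ 2 = 1} ≤ 2 := by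
          haveI := Fintype.ofFinite B
          rw [Nat.card_eq_fintype_card, Fintype.card_subtype]
          exact IsCyclic.card_pow_eq_one_le two_pos
        by_contra hne
        haveI := Fintype.ofFinite {y : B // y ^ 2 = 1}
        have hx1 : x ^ 2 = 1 := hx ▸ pow_orderOf_eq_one x
        have : 2 < Nat.card {y : B // y ^ 2 = 1} := by
          rw [Nat.card_eq_fintype_card, Fintype.two_lt_card_iff]
          refine ⟨⟨1, one_pow 2⟩, ⟨x, hx1⟩, ⟨y, hy⟩, ?_, ?_, ?_⟩ <;> intro h
          · have h' : (1 : B) = x := congrArg Subtype.val h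
            rw [← h', orderOf_one] at hx; omega
          · exact h1 (congrArg Subtype.val h : (1 : B) = y).symm
          · exact hne (congrArg Subtype.val h : x = y).symm
        omega
      refine (hu _ ?_).resolve_left fun h => ?_
      · refine Subtype.ext ?_
        rw [SubmonoidClass.coe_pow, conj_pow, show (x : A) ^ 2 = 1 from
          congrArg Subtype.val (hx ▸ pow_orderOf_eq_one x : x ^ 2 = 1), mul_one, mul_inv_cancel]
        rfl
      · have h' := congrArg Subtype.val h
        simp only [Subgroup.coe_one, conj_eq_one_iff] at h'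
        rw [show x = 1 from Subtype.ext h', orderOf_one] at hx; omega
    have := congrArg Subtype.val hxx
    exact mul_inv_eq_iff_eq_mul.mp this
  obtain ⟨b, hb⟩ := IsPGroup.iff_card.mp h2
  -- a Sylow 2-subgroup is cyclic
  obtain ⟨T⟩ : Nonempty (Sylow 2 A) := inferInstance
  have hTcyc : IsCyclic (T : Subgroup A) := by
    refine isCyclic_of_injective ((QuotientGroup.mk' B).comp (T : Subgroup A).subtype) ?_
    rw [injective_iff_map_eq_one]
    intro t ht
    have htB : (t : A) ∈ B := (QuotientGroup.eq_one_iff _).mp ht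
    refine Subtype.ext (orderOf_eq_one_iff.mp ?_)
    obtain ⟨k, hk⟩ := IsPGroup.iff_orderOf.mp T.isPGroup' t
    rw [← Subgroup.orderOf_coe] at hk
    have hd : orderOf (t : A) ∣ Nat.card B := by
      show orderOf ((⟨t, htB⟩ : B) : A) ∣ Nat.card B
      rw [Subgroup.orderOf_coe]; exact orderOf_dvd_natCard _
    rw [hk] at hd ⊢
    rcases Nat.eq_zero_or_pos k with h0 | h0
    · rw [h0, pow_zero]
    · exact absurd ((dvd_pow_self 2 h0.ne').trans hd) hBodd
  by_cases heven : 2 ∣ Nat.card G
  · set T' := (T : Subgroup A).map A.subtype with hT'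
    have hTp : IsPGroup 2 T' := T.isPGroup'.map _
    have hTidx : ¬ 2 ∣ T'.index := by
      rw [hT', Subgroup.index_map_of_injective _ A.subtype_injective, Subgroup.range_subtype, hA]
      intro h
      rcases Nat.prime_two.dvd_mul.mp h with h | h
      · exact T.not_dvd_index h
      · exact hp2 ((Nat.prime_dvd_prime_iff_eq Nat.prime_two hp).mp
          (Nat.prime_two.dvd_of_dvd_pow h)).symm
    obtain ⟨H, hH⟩ := Cfsg.Agent.Lib.Involutions.exists_index_two_of_cyclic_sylow
      (even_iff_two_dvd.mpr heven) (hTp.toSylow hTidx) (by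
        haveI := hTcyc
        exact isCyclic_of_surjective (Subgroup.equivMapOfInjective (T : Subgroup A) _
          A.subtype_injective).toMonoidHom (MulEquiv.surjective _))
    haveI := Subgroup.normal_of_index_eq_two hH
    rcases IsSimpleGroup.eq_bot_or_eq_top_of_normal H inferInstance with h | h
    · refine hprime ?_
      rw [h, Subgroup.index_bot] at hH
      rw [hH]; exact Nat.prime_two
    · rw [h, Subgroup.index_top] at hH; omega
  · -- then `A = B` is abelian, hence trivial
    have hb0 : b = 0 := by
      by_contra h0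
      refine heven ((dvd_pow_self 2 h0).trans ?_)
      rw [← hb]
      exact (Subgroup.card_quotient_dvd_card B).trans A.card_subgroup_dvd_card
    rw [hb0, pow_zero] at hb
    have hBtop : B = ⊤ := Subgroup.index_eq_one.mp hb
    have hA1 : ∀ a : A, a = 1 := by
      intro a
      by_contra h1
      obtain ⟨c, hc⟩ := hZ a h1
      refine hc ?_
      haveI := hB
      letI := IsCyclic.commGroup (α := B)
      exact congrArg Subtype.val (mul_comm (⟨c, hBtop ▸ Subgroup.mem_top c⟩ : B) ⟨a, hBtop ▸ Subgroup.mem_top a⟩)
    refine hpgrp hp (IsPGroup.of_card (n := s) ?_)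
    rw [← A.index_mul_card, hA, Subgroup.card_eq_one.mpr
      ((Subgroup.eq_bot_iff_forall _).mpr fun a ha => congrArg Subtype.val (hA1 ⟨a, ha⟩)), mul_one]

theorem main : ∀ (c : ℕ) (G : Type u) [Group G] [Finite G], Nat.card G = c →
    ∀ (A : Subgroup G) (p s : ℕ), p.Prime → A.index = p ^ s → ∀ (B : Subgroup A) [B.Normal],
      IsCyclic B → IsCyclic (A ⧸ B) → IsPGroup 2 (A ⧸ B) → Group.IsSolvable G := by
  intro c
  induction c using Nat.strong_induction_on with
  | _ c ih =>
    intro G _ _ hc A p s hp hA B _ hB hAB h2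
    classical
    rcases subsingleton_or_nontrivial G with hs | hs
    · exact Group.isSolvable_of_comm fun a b => Subsingleton.elim _ _
    by_cases hsimp : IsSimpleGroup G
    · exact simple_case A p s hp hA B hB hAB h2
    obtain ⟨N, hN, hNb, hNt⟩ : ∃ N : Subgroup G, N.Normal ∧ N ≠ ⊥ ∧ N ≠ ⊤ := by
      by_contra h
      push Not at h
      exact hsimp ⟨fun N hN => Classical.or_iff_not_imp_left.mpr (h N hN)⟩
    haveI := hN
    haveI := hB
    haveI := hAB
    have hcard := N.card_eq_card_quotient_mul_card_subgroup
    have hNgt : 1 < Nat.card N := (Subgroup.one_lt_card_iff_ne_bot N).mpr hNb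
    have hQgt : 1 < Nat.card (G ⧸ N) := by
      rw [← Subgroup.index_eq_card]
      exact lt_of_le_of_ne (Nat.one_le_iff_ne_zero.mpr Subgroup.index_ne_zero_of_finite)
        fun h => hNt (Subgroup.index_eq_one.mp h.symm)
    have hpd : ∀ d : ℕ, d ∣ A.index → ∃ j, d = p ^ j := fun d hd => by
      obtain ⟨j, -, hj⟩ := (Nat.dvd_prime_pow hp).mp (hA ▸ hd)
      exact ⟨j, hj⟩
    -- the normal subgroup
    haveI hsN : Group.IsSolvable N := by
      set A' := A.subgroupOf N
      obtain ⟨j, hj⟩ := hpd A'.index (by
        have h1 : N.relIndex A * A.index = A.relIndex N * N.index := by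
          rw [← Subgroup.inf_relIndex_right N A, ← Subgroup.inf_relIndex_right A N,
            Subgroup.relIndex_mul_index inf_le_right, Subgroup.relIndex_mul_index inf_le_right, inf_comm]
        obtain ⟨d, hd⟩ := Subgroup.relIndex_dvd_index_of_normal N A
        refine ⟨d, Nat.eq_of_mul_eq_mul_left (Nat.pos_of_ne_zero fun h0 => ?_) (?_ : N.relIndex A * _ = N.relIndex A * _)⟩
        · rw [h0, zero_mul] at hd; exact Subgroup.index_ne_zero_of_finite hd
        · rw [h1, hd]
          show _ = N.relIndex A * (A.relIndex N * d)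
          ring)
      let f : A' →* A ⧸ B := (QuotientGroup.mk' B).comp
        ((N.subtype.comp A'.subtype).codRestrict A fun a => a.2)
      refine ih (Nat.card N) ?_ N rfl A' p j hp hj f.ker ?_ ?_ ?_
      · rw [← hc, hcard]; exact lt_mul_of_one_lt_left Nat.card_pos hQgt
      · let g : f.ker →* B :=
          (((N.subtype.comp A'.subtype).codRestrict A fun a => a.2).comp f.ker.subtype).codRestrict B
            fun a => (QuotientGroup.eq_one_iff _).mp a.2
        refine isCyclic_of_injective g fun a b hab => ?_
        have h := congrArg (fun z : B => ((z : A) : G)) hab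
        exact Subtype.ext (Subtype.ext (Subtype.ext h))
      · exact isCyclic_of_injective (QuotientGroup.kerLift f) (QuotientGroup.kerLift_injective f)
      · exact h2.of_injective (QuotientGroup.kerLift f) (QuotientGroup.kerLift_injective f)
    -- the quotient
    haveI hsQ : Group.IsSolvable (G ⧸ N) := by
      set π := QuotientGroup.mk' N with hπ
      obtain ⟨j, hj⟩ := hpd (A.map π).index (Subgroup.index_map_dvd A (QuotientGroup.mk'_surjective N))
      set φ := π.subgroupMap A with hφ
      have hφs : Function.Surjective φ := π.subgroupMap_surjective A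
      haveI : (B.map φ).Normal := Subgroup.Normal.map inferInstance φ hφs
      refine ih (Nat.card (G ⧸ N)) ?_ (G ⧸ N) rfl (A.map π) p j hp hj (B.map φ) ?_ ?_ ?_
      · rw [← hc, hcard]; exact lt_mul_of_one_lt_right Nat.card_pos hNgt
      · exact isCyclic_of_surjective (φ.subgroupMap B) (φ.subgroupMap_surjective B)
      · exact isCyclic_of_surjective (QuotientGroup.map B (B.map φ) φ (Subgroup.le_comap_map _ _))
          (QuotientGroup.map_surjective_of_surjective _ _ _
            ((QuotientGroup.mk'_surjective _).comp hφs) _)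
      · exact h2.of_surjective (QuotientGroup.map B (B.map φ) φ (Subgroup.le_comap_map _ _))
          (QuotientGroup.map_surjective_of_surjective _ _ _
            ((QuotientGroup.mk'_surjective _).comp hφs) _)
    exact Group.isSolvable_of_ker_le_range N.subtype (QuotientGroup.mk' N)
      (by simp [QuotientGroup.ker_mk'])


/-- Let G be a finite group with a subgroup A of prime-power index. Suppose A has a normal cyclic subgroup B such that A/B is cyclic of order a power of 2. Then G is solvable. -/
theorem result {G : Type*} [Group G] [Finite G] (A : Subgroup G) (p s : ℕ) (hp : p.Prime) (hA : A.index = p ^ s)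
    (B : Subgroup A) [B.Normal] (hB : IsCyclic B) (hAB : IsCyclic (A ⧸ B)) (r : ℕ) (hr : Nat.card (A ⧸ B) = 2 ^ r) :
    Group.IsSolvable G := by
  exact main _ G rfl A p s hp hA B hB hAB (IsPGroup.of_card hr)

end Cfsg.Agent.S4245
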