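import Cfsg.Statements.S4250
import Cfsg.Agent.S0116
import Cfsg.Agent.Lib.Transfer.Focal

set_option autoImplicit false
open Cfsg

namespace Cfsg.Agent.S4250

open Cfsg.Agent.Lib.FusionControl
open scoped commutatorElement

variable {G : Type*} [Group G] [Finite G] {p : ℕ} [Fact p.Prime]

omit [Finite G] in
theorem chain_step {𝓕 : Set (Subgroup G)} {R : Subgroup G} {A : Set G} {g : G}
    (h : Chain 𝓕 A g) :
    (∀ T ∈ 𝓕, A.ncard ≤ Nat.card T → ∀ x ∈ Subgroup.normalizer (T : Set G), ∀ a ∈ T,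
      a⁻¹ * (x * a * x⁻¹) ∈ R) →
    ∀ [Finite G], ∀ a ∈ A, a⁻¹ * (g * a * g⁻¹) ∈ R := by
  induction h with
  | @step A x T hT hA hx =>
    intro hloc _ a ha
    refine hloc T hT ?_ _ hx a (hA ha)
    rw [← Nat.card_coe_set_eq A]
    exact Nat.card_mono (Set.toFinite _) hA
  | @comp A x y _ _ ih1 ih2 =>
    intro hloc _ a ha
    have h1 := ih1 hloc a ha
    have h2 := ih2 (fun T hT hc => hloc T hT (by
      rwa [cs, Set.ncard_image_of_injective _ (fun u v h => by simpa using h : Function.Injective fun a => x * a * x⁻¹)] at hc))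
      _ ⟨a, ha, rfl⟩
    have : a⁻¹ * (y * x * a * (y * x)⁻¹) =
        a⁻¹ * (x * a * x⁻¹) * ((x * a * x⁻¹)⁻¹ * (y * (x * a * x⁻¹) * y⁻¹)) := by group
    rw [this]
    exact mul_mem h1 h2

/-- Elements of `N(U)` whose commutators with `U` lie in `R`. -/
def goodSub (U R : Subgroup G) : Subgroup G where
  carrier := {x | x ∈ Subgroup.normalizer (U : Set G) ∧ ∀ a ∈ U, a⁻¹ * (x * a * x⁻¹) ∈ R}
  one_mem' := ⟨one_mem _, fun a _ => by simp⟩
  mul_mem' := by
    rintro x y ⟨hx, hx'⟩ ⟨hy, hy'⟩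
    refine ⟨mul_mem hx hy, fun a ha => ?_⟩
    have h := mul_mem (hy' a ha) (hx' _ ((Subgroup.mem_normalizer_iff.mp hy a).mp ha))
    have e : a⁻¹ * (x * y * a * (x * y)⁻¹) =
        a⁻¹ * (y * a * y⁻¹) * ((y * a * y⁻¹)⁻¹ * (x * (y * a * y⁻¹) * x⁻¹)) := by group
    rw [e]
    exact h
  inv_mem' := by
    rintro x ⟨hx, hx'⟩
    refine ⟨inv_mem hx, fun a ha => ?_⟩
    have h := inv_mem (hx' _ ((Subgroup.mem_normalizer_iff.mp (inv_mem hx) a).mp ha))
    have e : a⁻¹ * (x⁻¹ * a * x⁻¹⁻¹) =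
        ((x⁻¹ * a * x⁻¹⁻¹)⁻¹ * (x * (x⁻¹ * a * x⁻¹⁻¹) * x⁻¹))⁻¹ := by group
    rw [e]
    exact h

theorem local_mem (P : Sylow p G) {R : Subgroup G}
    (h0 : ∀ x ∈ Subgroup.normalizer ((P : Subgroup G) : Set G), ∀ a ∈ (P : Subgroup G),
      a⁻¹ * (x * a * x⁻¹) ∈ R)
    (h1 : ∀ U ∈ Cfsg.Agent.S0116.tameInts P, ∀ x ∈ Subgroup.normalizer (U : Set G),
      (∃ k : ℕ, orderOf x = p ^ k) → ∀ a ∈ U, a⁻¹ * (x * a * x⁻¹) ∈ R) :
    ∀ U ∈ Cfsg.Agent.S0116.tameInts P, ∀ x ∈ Subgroup.normalizer (U : Set G), ∀ a ∈ U,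
      a⁻¹ * (x * a * x⁻¹) ∈ R := by
  suffices H : ∀ (k : ℕ) (U : Subgroup G), U ∈ Cfsg.Agent.S0116.tameInts P →
      Nat.card (P : Subgroup G) - Nat.card U = k →
      ∀ x ∈ Subgroup.normalizer (U : Set G), ∀ a ∈ U, a⁻¹ * (x * a * x⁻¹) ∈ R from
    fun U hU => H _ U hU rfl
  intro k
  induction k using Nat.strong_induction_on with
  | _ k ih =>
    intro U hU hk x hx
    obtain ⟨Q, hUe, hext, -⟩ := id hU
    have hUP : U ≤ (P : Subgroup G) := hUe ▸ inf_le_left
    rcases eq_or_lt_of_le hUP with rfl | hlt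
    · exact h0 x hx
    set N := Subgroup.normalizer (U : Set G)
    set S := (P : Subgroup G) ⊓ N
    set M := goodSub U R ⊓ N
    have hp : ∀ y ∈ N, (∃ j : ℕ, orderOf y = p ^ j) → y ∈ M :=
      fun y hy hj => ⟨⟨hy, h1 U hU y hy hj⟩, hy⟩
    have hSM : S ≤ M := fun y hy => hp y hy.2 (by
      obtain ⟨j, hj⟩ := IsPGroup.iff_orderOf.mp P.2 ⟨y, hy.1⟩
      exact ⟨j, by rw [← hj, Subgroup.orderOf_mk]⟩)
    have hSp : IsPGroup p S := P.2.to_le inf_le_left
    have hxS : cj x S ≤ M := by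
      rintro _ ⟨y, hy, rfl⟩
      refine hp _ (mul_mem (mul_mem hx hy.2) (inv_mem hx)) ?_
      obtain ⟨j, hj⟩ := IsPGroup.iff_orderOf.mp P.2 ⟨y, hy.1⟩
      exact ⟨j, by
        rw [orderOf_injective (MulAut.conj x).toMonoidHom (MulAut.conj x).injective, ← hj,
          Subgroup.orderOf_mk]⟩
    obtain ⟨m, hm, hmS⟩ := exists_cj_le_of_not_dvd hSM hSp (fun hd => hext (hd.trans
      (dvd_of_mul_right_eq _ (Subgroup.relIndex_mul_relIndex S M N hSM inf_le_right))))
      hxS (isPGroup_cj hSp)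
    rw [cj_cj] at hmS
    have hn : m * x ∈ goodSub U R := by
      refine ⟨mul_mem hm.2 hx, fun a ha => ?_⟩
      have hc := Cfsg.Agent.S0116.chain_tame P S (m * x) inf_le_left (hmS.trans inf_le_left)
      refine chain_step hc (fun T hT hTc y hy b hb => ?_) a (le_inf hUP Subgroup.le_normalizer ha)
      have hlt' : Nat.card U < Nat.card S := card_lt_nS P.2 hlt
      have hTc' : Nat.card S ≤ Nat.card T := by
        rwa [← Nat.card_coe_set_eq] at hTc
      have hTP : T ≤ (P : Subgroup G) := by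
        obtain ⟨R', rfl, -⟩ := hT
        exact inf_le_left
      refine ih _ ?_ T hT rfl y hy b hb
      have := Subgroup.card_le_of_le hTP
      omega
    have hfin := (goodSub U R).mul_mem ((goodSub U R).inv_mem hm.1) hn
    rw [inv_mul_cancel_left] at hfin
    exact hfin.2


/-- Let P be a Sylow p-subgroup of a finite group G. Call an intersection H = P ∩ Q with a Sylow p-subgroup Q tame when N_P(H) and N_Q(H) are Sylow p-subgroups of N_G(H). Then P ∩ G′ is generated by [P, N_G(P)] together with the commutator subgroups [P ∩ Q, ⟨x⟩] for all tame intersections P ∩ Q and all p-elements x of N_G(P ∩ Q). -/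
theorem result {G : Type*} [Group G] [Finite G] (p : ℕ) [Fact p.Prime] (P : Sylow p G) :
    (P : Subgroup G) ⊓ commutator G =
      ⁅(P : Subgroup G), Subgroup.normalizer ((P : Subgroup G) : Set G)⁆ ⊔
        ⨆ (Q : Sylow p G) (_ : (¬ p ∣ ((P : Subgroup G) ⊓ Subgroup.normalizer (((P : Subgroup G) ⊓ (Q : Subgroup G) : Subgroup G) : Set G)).relIndex (Subgroup.normalizer (((P : Subgroup G) ⊓ (Q : Subgroup G) : Subgroup G) : Set G)) ∧ ¬ p ∣ ((Q : Subgroup G) ⊓ Subgroup.normalizer (((P : Subgroup G) ⊓ (Q : Subgroup G) : Subgroup G) : Set G)).relIndex (Subgroup.normalizer (((P : Subgroup G) ⊓ (Q : Subgroup G) : Subgroup G) : Set G))))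
          (x : G) (_ : x ∈ Subgroup.normalizer (((P : Subgroup G) ⊓ (Q : Subgroup G) : Subgroup G) : Set G) ∧ ∃ k : ℕ, orderOf x = p ^ k),
          ⁅(P : Subgroup G) ⊓ (Q : Subgroup G), Subgroup.zpowers x⁆ := by
  open Cfsg.Agent.Lib.FusionControl in
  refine le_antisymm ?_ (sup_le ?_ (iSup_le fun Q => iSup_le fun _ => iSup_le fun x =>
    iSup_le fun hx => ?_))
  · rw [inf_comm, Subgroup.commutator_inf_eq_focalSubgroup P]
    refine le_trans ?_ (le_refl _)
    rw [Cfsg.Agent.Lib.Transfer.focalSubgroup_le_iff]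
    intro y hy g hg
    have hT : Subgroup.closure {y} ≤ (P : Subgroup G) :=
      (Subgroup.closure_le _).2 (Set.singleton_subset_iff.2 hy)
    have hgT : cj g (Subgroup.closure {y}) ≤ (P : Subgroup G) := by
      rw [cj, MonoidHom.map_closure, Set.image_singleton]
      exact (Subgroup.closure_le _).2 (Set.singleton_subset_iff.2 hg)
    refine chain_step ((Cfsg.Agent.S0116.chain_tame P _ g hT hgT)) (fun T hT _ => ?_) y
      (Subgroup.subset_closure rfl)
    refine local_mem P ?_ ?_ T hT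
    · intro x hx a ha
      refine Subgroup.mem_sup_left ?_
      have e : a⁻¹ * (x * a * x⁻¹) = ⁅a⁻¹, x⁆ := by rw [commutatorElement_def]; group
      rw [e]
      exact Subgroup.commutator_mem_commutator (inv_mem ha) hx
    · rintro _ ⟨Q, rfl, hP, hQ⟩ x hx hp a ha
      refine Subgroup.mem_sup_right ?_
      refine Subgroup.mem_iSup_of_mem Q (Subgroup.mem_iSup_of_mem ⟨hP, hQ⟩
        (Subgroup.mem_iSup_of_mem x (Subgroup.mem_iSup_of_mem ⟨hx, hp⟩ ?_)))
      have e : a⁻¹ * (x * a * x⁻¹) = ⁅a⁻¹, x⁆ := by rw [commutatorElement_def]; group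
      rw [e]
      exact Subgroup.commutator_mem_commutator (inv_mem ha) (Subgroup.mem_zpowers x)
  · refine le_inf ?_ ?_
    · rw [Subgroup.commutator_le]
      intro a ha b hb
      rw [commutatorElement_def, mul_assoc, mul_assoc]
      exact mul_mem ha (by simpa [mul_assoc] using
        (Subgroup.mem_normalizer_iff.mp hb a⁻¹).mp (inv_mem ha))
    · rw [commutator_def]
      exact Subgroup.commutator_mono le_top le_top
  · refine le_inf (le_trans ?_ (inf_le_left (b := (Q : Subgroup G)))) ?_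
    · rw [Subgroup.commutator_le]
      intro a ha b hb
      rw [commutatorElement_def, mul_assoc, mul_assoc]
      exact mul_mem ha (by simpa [mul_assoc] using
        (Subgroup.mem_normalizer_iff.mp (Subgroup.zpowers_le.mpr hx.1 hb) a⁻¹).mp (inv_mem ha))
    · rw [commutator_def]
      exact Subgroup.commutator_mono le_top le_top

end Cfsg.Agent.S4250
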