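import Cfsg.Statements.S4251
import Cfsg.Agent.S0116
import Cfsg.Agent.Lib.Cores.Basic
import Cfsg.Agent.Lib.Coprime.Basic

set_option autoImplicit false
open Cfsg

namespace Cfsg.Agent.S4251

open Cfsg.Agent.Lib.FusionControl

variable {G : Type*} [Group G]

theorem chain_conj {𝓕 : Set (Subgroup G)} {P : Subgroup G}
    (hloc : ∀ T ∈ 𝓕, ∀ x ∈ Subgroup.normalizer (T : Set G), ∀ a ∈ T,
      ∃ z ∈ P, z * a * z⁻¹ = x * a * x⁻¹) {A : Set G} {g : G} (h : Chain 𝓕 A g) :
    ∀ a ∈ A, ∃ z ∈ P, z * a * z⁻¹ = g * a * g⁻¹ := by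
  induction h with
  | step T hT hA hx => exact fun a ha => hloc T hT _ hx a (hA ha)
  | @comp A x y _ _ ih1 ih2 =>
    intro a ha
    obtain ⟨z, hz, hza⟩ := ih1 a ha
    obtain ⟨w, hw, hwa⟩ := ih2 _ ⟨a, ha, rfl⟩
    refine ⟨w * z, mul_mem hw hz, ?_⟩
    calc w * z * a * (w * z)⁻¹ = w * (z * a * z⁻¹) * w⁻¹ := by group
      _ = w * (x * a * x⁻¹) * w⁻¹ := by rw [hza]
      _ = y * (x * a * x⁻¹) * y⁻¹ := hwa
      _ = _ := by group


/-- Let P be a Sylow p-subgroup of a finite group G. Call an intersection H = P ∩ Q with a Sylow p-subgroup Q tame when N_P(H) and N_Q(H) are Sylow p-subgroups of N_G(H). If N_G(H)/C_G(H) is a p-group for every nontrivial tame intersection H = P ∩ Q, then G has a normal p-complement. -/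
theorem result {G : Type*} [Group G] [Finite G] (p : ℕ) [Fact p.Prime] (P : Sylow p G)
    (h : ∀ Q : Sylow p G, (P : Subgroup G) ⊓ (Q : Subgroup G) ≠ ⊥ → (¬ p ∣ ((P : Subgroup G) ⊓ Subgroup.normalizer (((P : Subgroup G) ⊓ (Q : Subgroup G) : Subgroup G) : Set G)).relIndex (Subgroup.normalizer (((P : Subgroup G) ⊓ (Q : Subgroup G) : Subgroup G) : Set G)) ∧ ¬ p ∣ ((Q : Subgroup G) ⊓ Subgroup.normalizer (((P : Subgroup G) ⊓ (Q : Subgroup G) : Subgroup G) : Set G)).relIndex (Subgroup.normalizer (((P : Subgroup G) ⊓ (Q : Subgroup G) : Subgroup G) : Set G))) →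
      IsPGroup p (Subgroup.normalizer (((P : Subgroup G) ⊓ (Q : Subgroup G) : Subgroup G) : Set G) ⧸
        (Subgroup.centralizer (((P : Subgroup G) ⊓ (Q : Subgroup G) : Subgroup G) : Set G)).subgroupOf
          (Subgroup.normalizer (((P : Subgroup G) ⊓ (Q : Subgroup G) : Subgroup G) : Set G)))) :
    Cfsg.HasNormalPComplement p G := by
  refine Cfsg.Agent.Lib.Transfer.hasNormalPComplement_of_controlsFusion P fun x hx g hg => ?_
  have hT : Subgroup.closure {x} ≤ (P : Subgroup G) :=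
    (Subgroup.closure_le _).2 (Set.singleton_subset_iff.2 hx)
  have hgT : cj g (Subgroup.closure {x}) ≤ (P : Subgroup G) := by
    rw [cj, MonoidHom.map_closure, Set.image_singleton]
    exact (Subgroup.closure_le _).2 (Set.singleton_subset_iff.2 hg)
  refine chain_conj (P := (P : Subgroup G)) ?_ (Cfsg.Agent.S0116.chain_tame P _ g hT hgT) x
    (Subgroup.subset_closure rfl)
  rintro _ ⟨R, rfl, hP, hR⟩ y hy a ha
  set U := (P : Subgroup G) ⊓ (R : Subgroup G) with hUdef
  by_cases hU : U = ⊥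
  · rw [hU, Subgroup.mem_bot] at ha
    subst ha
    exact ⟨1, one_mem _, by simp⟩
  set N := Subgroup.normalizer (U : Set G)
  set C := Subgroup.centralizer (U : Set G)
  have hCN : C ≤ N := Subgroup.centralizer_le_normalizer _
  obtain ⟨k, hk⟩ := IsPGroup.iff_card.mp (h R hU ⟨hP, hR⟩)
  set S := (P : Subgroup G) ⊓ N
  have hidx : (C ⊔ S).relIndex N ∣ p ^ k := by
    refine (Subgroup.relIndex_dvd_of_le_left N le_sup_left).trans ?_
    rw [← hk]
    exact dvd_of_eq (Subgroup.index_eq_card _)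
  have hidx' : (C ⊔ S).relIndex N ∣ S.relIndex N := Subgroup.relIndex_dvd_of_le_left N le_sup_right
  have h1 : (C ⊔ S).relIndex N = 1 := by
    obtain ⟨i, -, hi⟩ := (Nat.dvd_prime_pow (Fact.out : p.Prime)).mp hidx
    rcases Nat.eq_zero_or_pos i with h0 | h0
    · rw [hi, h0, pow_zero]
    · exact absurd (((dvd_pow_self p h0.ne').trans hi.symm.dvd).trans hidx') hP
  have hy' : y ∈ C ⊔ S := Subgroup.relIndex_eq_one.mp h1 hy
  have hnorm : S ≤ Subgroup.normalizer (C : Set G) := fun t ht => by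
    refine Subgroup.mem_normalizer_iff.mpr fun c => ⟨fun hc => ?_, fun hc => ?_⟩
    · rw [Subgroup.mem_centralizer_iff] at hc ⊢
      intro b hb
      have hb' : t⁻¹ * b * t ∈ U := by
        simpa using (Subgroup.mem_normalizer_iff.mp (inv_mem ht.2) b).mp hb
      have := congrArg (fun w => t * w * t⁻¹) (hc _ hb')
      simpa [mul_assoc] using this
    · rw [Subgroup.mem_centralizer_iff] at hc ⊢
      intro b hb
      have hb' : t * b * t⁻¹ ∈ U := (Subgroup.mem_normalizer_iff.mp ht.2 b).mp hb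
      have := congrArg (fun w => t⁻¹ * w * t) (hc _ hb')
      simpa [mul_assoc] using this
  obtain ⟨c, hc, s, hs, rfl⟩ := Cfsg.Agent.Lib.Coprime.exists_mul_of_mem_sup hnorm hy'
  refine ⟨s, hs.1, ?_⟩
  have hb : s * a * s⁻¹ ∈ U := (Subgroup.mem_normalizer_iff.mp hs.2 a).mp ha
  have hca : c * (s * a * s⁻¹) * c⁻¹ = s * a * s⁻¹ := by
    rw [← Subgroup.mem_centralizer_iff.mp hc _ hb, mul_inv_cancel_right]
  calc s * a * s⁻¹ = c * (s * a * s⁻¹) * c⁻¹ := hca.symm
    _ = _ := by group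

end Cfsg.Agent.S4251
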