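import Cfsg.Statements.S4252

set_option autoImplicit false
open Cfsg
open scoped Pointwise

namespace Cfsg.Agent.S4252

/-- Let a finite group G act on a finite set Ω with more than one point, transitively but not regularly, so that no non-identity element of G fixes two distinct points. Then the stabilizer H of any point is a Frobenius complement in G (nontrivial, proper, meeting its other conjugates trivially), and the Frobenius kernel of G with respect to H (the identity together with the elements lying in no conjugate of H) is exactly the set consisting of the identity and the elements fixing no point. -/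
theorem result {G Ω : Type*} [Group G] [Finite G] [Fintype Ω] [MulAction G Ω] (hΩ : 1 < Fintype.card Ω)
    (htrans : ∀ α β : Ω, ∃ g : G, g • α = β) (hnreg : ∃ g : G, g ≠ 1 ∧ ∃ α : Ω, g • α = α)
    (hfix : ∀ g : G, g ≠ 1 → ∀ α β : Ω, g • α = α → g • β = β → α = β) (α : Ω) :
    Cfsg.IsFrobeniusComplement (MulAction.stabilizer G α) ∧
      Cfsg.frobeniusKernel (MulAction.stabilizer G α) = {g : G | g = 1 ∨ ∀ ω : Ω, g • ω ≠ ω} := by
  have hne : ∃ β : Ω, β ≠ α := by
    rcases Fintype.one_lt_card_iff.mp hΩ with ⟨a, b, hab⟩
    by_cases h : a = α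
    · exact ⟨b, fun hb => hab (h.trans hb.symm)⟩
    · exact ⟨a, h⟩
  refine ⟨⟨?_, ?_, ?_⟩, ?_⟩
  · obtain ⟨g, hg1, β, hgβ⟩ := hnreg
    obtain ⟨k, hk⟩ := htrans β α
    intro hbot
    have : k * g * k⁻¹ ∈ MulAction.stabilizer G α := by
      rw [MulAction.mem_stabilizer_iff, mul_smul, mul_smul, ← hk, inv_smul_smul, hgβ]
    rw [hbot, Subgroup.mem_bot] at this
    exact hg1 (by simpa [mul_inv_eq_one] using this)
  · intro htop
    obtain ⟨β, hβ⟩ := hne
    obtain ⟨k, hk⟩ := htrans α β
    have : k ∈ MulAction.stabilizer G α := htop ▸ Subgroup.mem_top k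
    exact hβ (hk ▸ this)
  · intro k hk
    rw [eq_bot_iff]
    rintro z ⟨h1, h2⟩
    rw [Subgroup.mem_bot]
    by_contra hz
    replace h2 : z ∈ MulAut.conj k • MulAction.stabilizer G α := h2
    rw [Subgroup.mem_pointwise_smul_iff_inv_smul_mem] at h2
    have h3 : z • k • α = k • α := by
      rw [MulAction.mem_stabilizer_iff] at h2
      have h4 : (k⁻¹ * z * k) • α = α := by simpa [MulAut.smul_def] using h2
      calc z • k • α = k • ((k⁻¹ * z * k) • α) := by simp [mul_smul]
        _ = k • α := by rw [h4]
    exact hk (hfix z hz _ _ h3 h1)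
  · ext g
    simp only [Cfsg.frobeniusKernel, Set.mem_setOf_eq]
    constructor
    · rintro (h | h)
      · exact Or.inl h
      · refine Or.inr fun ω hω => ?_
        obtain ⟨k, hk⟩ := htrans α ω
        refine h k ?_
        rw [Subgroup.mem_pointwise_smul_iff_inv_smul_mem, MulAction.mem_stabilizer_iff]
        have e : (k⁻¹ * g * k) • α = α := by rw [mul_smul, mul_smul, hk, hω, ← hk, inv_smul_smul]
        simpa [MulAut.smul_def] using e
    · rintro (h | h)
      · exact Or.inl h
      · refine Or.inr fun k hk => h (k • α) ?_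
        rw [Subgroup.mem_pointwise_smul_iff_inv_smul_mem, MulAction.mem_stabilizer_iff] at hk
        have h4 : (k⁻¹ * g * k) • α = α := by simpa [MulAut.smul_def] using hk
        calc g • k • α = k • ((k⁻¹ * g * k) • α) := by simp [mul_smul]
          _ = k • α := by rw [h4]

end Cfsg.Agent.S4252
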