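import Cfsg.Statements.S4253

set_option autoImplicit false
open Cfsg
open scoped Pointwise

namespace Cfsg.Agent.S4253

/-- Let H be a Frobenius complement in a finite group G (a nontrivial proper subgroup meeting each conjugate gHg⁻¹ with g outside H trivially). Then in the action of G on the left cosets of H by left multiplication, no non-identity element of G fixes two distinct cosets. -/
theorem result {G : Type*} [Group G] [Finite G] (H : Subgroup G) (hH : Cfsg.IsFrobeniusComplement H)
    (g : G) (hg : g ≠ 1) (a b : G ⧸ H) (ha : g • a = a) (hb : g • b = b) : a = b := by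
  classical
  induction a using QuotientGroup.induction_on with
  | H a =>
    induction b using QuotientGroup.induction_on with
    | H b =>
      rw [MulAction.Quotient.smul_coe, smul_eq_mul, QuotientGroup.eq] at ha hb
      rw [QuotientGroup.eq]
      by_contra hne
      have h := hH.2.2 (a⁻¹ * b) hne
      have key : a⁻¹ * g * a ∈ H ⊓ (MulAut.conj (a⁻¹ * b) • H) := by
        refine ⟨by simpa [mul_assoc] using inv_mem ha, ?_⟩
        show a⁻¹ * g * a ∈ MulAut.conj (a⁻¹ * b) • H
        rw [Subgroup.mem_pointwise_smul_iff_inv_smul_mem]
        simpa [MulAut.smul_def, mul_assoc] using inv_mem hb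
      rw [h, Subgroup.mem_bot] at key
      apply hg
      calc g = a * (a⁻¹ * g * a) * a⁻¹ := by group
        _ = 1 := by rw [key]; group

end Cfsg.Agent.S4253
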