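import Cfsg.Statements.S4255
import Cfsg.Agent.Lib.PGroups.ClassGraph

set_option autoImplicit false
open Cfsg

namespace Cfsg.Agent.S4255


open Cfsg.Agent.Lib
open Cfsg.Agent.Lib.PGroups.ClassGraph
open Subgroup
open scoped commutatorElement

universe u

/-- The oriented form: the largest class size has all its primes outside `S`. -/
theorem oriented {G : Type u} [Group G] [Finite G] (S : Set ℕ) (hpure : ∀ g : G, IsNum S (cl g) ∨ IsNum Sᶜ (cl g))
    (hexS : ∃ b : G, IsNum S (cl b) ∧ cl b ≠ 1) (hexT : ∃ x : G, IsNum Sᶜ (cl x) ∧ cl x ≠ 1)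
    (hmax : ∃ c : G, IsNum Sᶜ (cl c) ∧ ∀ g : G, cl g ≤ cl c) :
    ∃ H : Subgroup (G ⧸ Subgroup.center G), Cfsg.IsFrobeniusComplement H ∧ IsMulCommutative H ∧
      ∀ x ∈ Cfsg.frobeniusKernel H, ∀ y ∈ Cfsg.frobeniusKernel H, x * y = y * x := by
  classical
  obtain ⟨c, hcT, hcmax⟩ := hmax
  have hc1 : cl c ≠ 1 := fun e => by
    obtain ⟨x, -, hx⟩ := hexT
    have := hcmax x
    have := cl_pos x
    omega
  have h1T : ∀ g : G, IsNum S (cl g) → IsNum Sᶜ (cl g) → cl g = 1 := fun g h1 h2 => by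
    by_contra hne
    obtain ⟨r, hr, hrd⟩ := Nat.exists_prime_and_dvd hne
    exact h2 r hr hrd (h1 r hr hrd)
  -- mixed products are impossible
  have hmix : ∀ a b : G, a * b = b * a → (orderOf a).Coprime (orderOf b) → IsNum S (cl a) →
      IsNum Sᶜ (cl b) → cl a = 1 ∨ cl b = 1 := by
    intro a b hab hcop ha hb
    have h1 := cl_dvd_mul hab hcop
    have h2 := cl_dvd_mul hab.symm hcop.symm
    rw [← hab] at h2
    rcases hpure (a * b) with h | h
    · exact Or.inr (h1T b (h.of_dvd h2) hb)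
    · exact Or.inl (h1T a ha (h.of_dvd h1))
  -- every element with `S`-class is below the maximum
  have hH : ∀ b : G, IsNum S (cl b) → Nat.card (commSub b) ∣ cl c := by
    intro b hb
    by_cases hb1 : cl b = 1
    · have hbZ := cl_eq_one.mp hb1
      have : commSub b = ⊥ := by
        rw [eq_bot_iff]
        refine (closure_le _).mpr ?_
        rintro _ ⟨a, rfl⟩
        show b⁻¹ * (a * b * a⁻¹) ∈ (⊥ : Subgroup G)
        rw [mem_bot, mem_center_iff.mp hbZ a, mul_inv_cancel_right, inv_mul_cancel]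
      rw [this, card_bot]
      exact one_dvd _
    have hcop : (cl b).Coprime (cl c) := hb.coprime hcT
    obtain ⟨hd, hle, -⟩ := product_class hcop
    have heq : cl (b * c) = cl c := by
      refine le_antisymm (hcmax _) hle
    exact card_commSub_dvd hcop heq
  have hcopH : ∀ b : G, IsNum S (cl b) → (Nat.card (commSub b)).Coprime (cl b) := fun b hb =>
    (hb.coprime (hcT.of_dvd (hH b hb))).symm
  have hHT : ∀ b : G, IsNum S (cl b) → IsNum Sᶜ (Nat.card (commSub b)) := fun b hb => hcT.of_dvd (hH b hb)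
  let prim : G → Prop := fun b => IsNum S (cl b) ∧ ∃ r k : ℕ, r.Prime ∧ orderOf b = r ^ k
  have hconj : ∀ b a : G, a * b * a⁻¹ = b * (b⁻¹ * (a * b * a⁻¹)) := fun b a => by group
  -- primary elements with `S`-class commute
  have hprimT : ∀ b : G, IsNum S (cl b) → cl b ≠ 1 → ∀ r k : ℕ, r.Prime → orderOf b = r ^ k → r ∉ S := by
    intro b hb hb1 r k hr hbo
    have hne : Nat.card (commSub b) ≠ 1 := fun e => hb1 (cl_eq_one.mpr (mem_center_iff.mpr fun a => by
      have := comm_mem_commSub b a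
      rw [card_eq_one.mp e, mem_bot, inv_mul_eq_one] at this
      calc a * b = a * b * a⁻¹ * a := by group
        _ = b * a := by rw [← this]))
    haveI := Fact.mk hr
    obtain ⟨j, hj⟩ := (isPGroup_commSub (hcopH b hb) hbo).exists_card_eq
    refine hHT b hb r hr ?_
    rw [hj]
    refine dvd_pow_self r fun e => hne ?_
    rw [hj, e, pow_zero]
  have hNp : ∀ b : G, IsNum S (cl b) → ∀ r k : ℕ, r.Prime → orderOf b = r ^ k → b ∈ Cfsg.pCore r G := by
    intro b hb r k hr hbo
    haveI := Fact.mk hr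
    have hN : (commSub b ⊔ zpowers b).Normal := by
      rw [← normalizer_eq_top_iff, eq_top_iff]
      intro a _
      rw [mem_normalizer_iff_map_conj_eq]
      refine eq_of_le_of_card_ge ?_ (Nat.card_congr
        ((commSub b ⊔ zpowers b).equivMapOfInjective _ (MulAut.conj a).injective).toEquiv).le
      rw [Subgroup.map_sup, MonoidHom.map_zpowers]
      refine sup_le ?_ (zpowers_le.mpr ?_)
      · rintro _ ⟨h, hh, rfl⟩
        exact mem_sup_left ((commSub_normal b).conj_mem h hh a)
      · show a * b * a⁻¹ ∈ commSub b ⊔ zpowers b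
        rw [hconj]
        exact mul_mem (mem_sup_right (mem_zpowers b)) (mem_sup_left (comm_mem_commSub b a))
    refine Cores.le_pCore hN ?_ (mem_sup_right (mem_zpowers b))
    exact (isPGroup_commSub (hcopH b hb) hbo).to_sup_of_normal_left
      (IsPGroup.of_card (n := k) (by rw [Nat.card_zpowers, hbo]))
  have hcomm : ∀ b b' : G, prim b → prim b' → b * b' = b' * b := by
    rintro b b' ⟨hb, r, k, hr, hbo⟩ ⟨hb', r', k', hr', hbo'⟩
    by_cases h1 : cl b = 1
    · exact (mem_center_iff.mp (cl_eq_one.mp h1) b').symm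
    by_cases h1' : cl b' = 1
    · exact mem_center_iff.mp (cl_eq_one.mp h1') b
    haveI := Fact.mk hr
    haveI := Fact.mk hr'
    by_cases hrr : r = r'
    · subst hrr
      -- `b` lies in every Sylow `r`-subgroup
      have hbO := hNp b hb r k hr hbo
      obtain ⟨T⟩ : Nonempty (Sylow r (centralizer ({b'} : Set G))) := inferInstance
      have hTi : ¬ r ∣ ((T : Subgroup (centralizer ({b'} : Set G))).map (centralizer ({b'} : Set G)).subtype).index := by
        rw [index_map_subtype]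
        exact fun hd => ((Nat.Prime.dvd_mul hr).mp hd).elim T.not_dvd_index
          fun hd => hprimT b hb h1 r k hr hbo (hb' r hr hd)
      let T' : Sylow r G := (T.2.map (centralizer ({b'} : Set G)).subtype).toSylow hTi
      obtain ⟨y, -, hy⟩ := (Cores.pCore_le_sylow T' hbO : b ∈ (T' : Subgroup G))
      rw [← hy]
      exact mem_cent.mp y.2
    · have hdisj := IsPGroup.disjoint_of_ne r r' hrr _ _ (isPGroup_commSub (hcopH b hb) hbo)
        (isPGroup_commSub (hcopH b' hb') hbo')
      have h : b⁻¹ * (b'⁻¹ * b * b') = 1 := by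
        refine Subgroup.disjoint_def.mp hdisj ?_ ?_
        · simpa using comm_mem_commSub b b'⁻¹
        · have := inv_mem (comm_mem_commSub b' b⁻¹)
          simpa [mul_assoc] using this
      rw [inv_mul_eq_one] at h
      calc b * b' = b' * (b'⁻¹ * b * b') := by group
        _ = b' * b := by rw [← h]
  let M : Subgroup G := closure {b | prim b}
  have hMab : ∀ x ∈ M, ∀ y ∈ M, x * y = y * x := by
    have h1 : M ≤ centralizer ({b | prim b} : Set G) :=
      (closure_le _).mpr fun b hb => mem_centralizer_iff.mpr fun b' hb' => hcomm b' b hb' hb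
    have h2 : M ≤ centralizer (M : Set G) := by
      refine (closure_le _).mpr fun b hb => mem_centralizer_iff.mpr fun y hy => ?_
      exact (mem_centralizer_iff.mp (h1 hy) b hb).symm
    exact fun x hx y hy => (mem_centralizer_iff.mp (h2 hx) y hy).symm
  haveI hMn : M.Normal := by
    refine ⟨fun x hx a => ?_⟩
    have : (MulAut.conj a) x ∈ M.map (MulAut.conj a).toMonoidHom := ⟨x, hx, rfl⟩
    rw [MonoidHom.map_closure] at this
    refine closure_mono ?_ this
    rintro _ ⟨b, ⟨hb, r, k, hr, hbo⟩, rfl⟩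
    refine ⟨?_, r, k, hr, ?_⟩
    · show IsNum S (cl (a * b * a⁻¹))
      rwa [cl_conj]
    · rw [← hbo]
      exact orderOf_injective _ (MulAut.conj a).injective b
  have hAM : ∀ x : G, IsNum S (cl x) → x ∈ M := fun x hx =>
    mem_of_parts M x fun n q k hq hn =>
      subset_closure (⟨hx.of_dvd (cl_pow_dvd x n), q, k, hq, hn⟩ : prim (x ^ n))
  -- a non-central primary element with `S`-class
  obtain ⟨b0, ⟨hb0, r0, k0, hr0, hb0o⟩, hb01⟩ : ∃ b, prim b ∧ cl b ≠ 1 := by
    by_contra h
    push Not at h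
    obtain ⟨b, hb, hb1⟩ := hexS
    refine hb1 (cl_eq_one.mpr ?_)
    have hMZ : M ≤ center G := (closure_le _).mpr fun x hx => cl_eq_one.mp (h x hx)
    exact hMZ (hAM b hb)
  have hone : IsNum S 1 := fun r hr hd => absurd hd hr.not_dvd_one
  -- elements of `T`-prime power order have `S`-class
  have hother : ∀ b : G, IsNum S (cl b) → cl b ≠ 1 → ∀ r k : ℕ, r.Prime → orderOf b = r ^ k →
      ∀ t : ℕ, t.Prime → t ∉ S → r ≠ t → ∀ y : G, (∃ j, orderOf y = t ^ j) → IsNum S (cl y) := by
    intro b hb hb1 r k hr hbo t ht htS hrt y hy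
    obtain ⟨j, hj⟩ := hy
    haveI := Fact.mk ht
    obtain ⟨T⟩ : Nonempty (Sylow t (centralizer ({b} : Set G))) := inferInstance
    have hTi : ¬ t ∣ ((T : Subgroup (centralizer ({b} : Set G))).map (centralizer ({b} : Set G)).subtype).index := by
      rw [index_map_subtype]
      exact fun hd => ((Nat.Prime.dvd_mul ht).mp hd).elim T.not_dvd_index fun hd => htS (hb t ht hd)
    let T' : Sylow t G := (T.2.map (centralizer ({b} : Set G)).subtype).toSylow hTi
    obtain ⟨P, hP⟩ := (IsPGroup.of_card (n := j) (by rw [Nat.card_zpowers, hj]) :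
      IsPGroup t (zpowers y)).exists_le_sylow
    obtain ⟨a, ha⟩ := MulAction.exists_smul_eq G T' P
    have hy' : y ∈ ((a • T' : Sylow t G) : Subgroup G) := ha ▸ hP (mem_zpowers y)
    obtain ⟨w, hw, hwy⟩ := hy'
    obtain ⟨⟨w, hwC⟩, -, rfl⟩ := hw
    have hwy' : a * w * a⁻¹ = y := hwy
    have hcw : cl y = cl w := by rw [← hwy', cl_conj]
    have how : orderOf w = t ^ j := by
      rw [← hj, ← hwy']
      exact (orderOf_injective (MulAut.conj a).toMonoidHom (MulAut.conj a).injective w).symm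
    rw [hcw]
    rcases hpure w with h | h
    · exact h
    rcases hmix b w (mem_cent.mp hwC).symm (by
      rw [hbo, how]; exact Nat.Coprime.pow _ _ ((Nat.coprime_primes hr ht).mpr hrt)) hb h with h' | h'
    · exact absurd h' hb1
    · rw [h']; exact hone
  have hTS : ∀ t : ℕ, t.Prime → t ∉ S → ∀ y : G, (∃ j, orderOf y = t ^ j) → IsNum S (cl y) := by
    intro t ht htS y hy
    by_cases hall : ∀ b : G, IsNum S (cl b) → ∀ r k : ℕ, r.Prime → orderOf b = r ^ k → cl b ≠ 1 → r = t
    swap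
    · push Not at hall
      obtain ⟨b, hb, r, k, hr, hbo, hb1, hrt⟩ := hall
      exact hother b hb hb1 r k hr hbo t ht htS hrt y hy
    obtain rfl : r0 = t := hall b0 hb0 r0 k0 hr0 hb0o hb01
    haveI := Fact.mk hr0
    set R := Cfsg.pCore r0 G with hR
    haveI : R.Normal := Cfsg.pCore_normal r0 G
    have hRp : IsPGroup r0 R := Cores.pCore_isPGroup r0 G
    -- the other primes outside `S` act trivially
    have hcenT : ∀ t : ℕ, t.Prime → t ∉ S → t ≠ r0 → ∀ z : G, (∃ j, orderOf z = t ^ j) → z ∈ center G := by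
      intro t ht htS htr z hz
      obtain ⟨j, hj⟩ := hz
      by_contra hzc
      exact htr (hall z (hother b0 hb0 hb01 r0 k0 hr0 hb0o t ht htS htr.symm z ⟨j, hj⟩) t j ht hj
        fun e => hzc (cl_eq_one.mp e))
    -- `r0`-elements centralizing `b0` lie in `R`
    have hCR : ∀ w : G, w ∈ centralizer ({b0} : Set G) → (∃ j, orderOf w = r0 ^ j) → w ∈ R := by
      intro w hwC hw
      obtain ⟨j, hj⟩ := hw
      rcases hpure w with h | h
      · exact hNp w h r0 j hr0 hj
      by_cases hw1 : cl w = 1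
      · exact hNp w (hw1 ▸ hone) r0 j hr0 hj
      set N := normalClosure ({w} : Set G) with hN
      have hNC : N ≤ centralizer ({b0} : Set G) := by
        refine (closure_le _).mpr fun x hx => ?_
        obtain ⟨w', hw', hcj⟩ := Group.mem_conjugatesOfSet_iff.mp hx
        rw [Set.mem_singleton_iff] at hw'
        subst hw'
        obtain ⟨a, rfl⟩ := isConj_iff.mp hcj
        obtain ⟨u, hu, v, hv, rfl⟩ := exists_mul_of_coprime (hb0.coprime h) a
        have e : u * v * w' * (u * v)⁻¹ = u * w' * u⁻¹ := by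
          calc u * v * w' * (u * v)⁻¹ = u * (v * w' * v⁻¹) * u⁻¹ := by group
            _ = _ := by rw [mem_cent.mp hv, mul_inv_cancel_right]
        rw [SetLike.mem_coe, e]
        exact mul_mem (mul_mem hu hwC) (inv_mem hu)
      have hNcen : ∀ q : ℕ, q.Prime → q ≠ r0 → ∀ z ∈ N, (∃ i, orderOf z = q ^ i) → z ∈ center G := by
        intro q hq hqr z hz hzo
        obtain ⟨i, hi⟩ := hzo
        by_contra hzc
        have hz1 : cl z ≠ 1 := fun e => hzc (cl_eq_one.mp e)
        rcases hpure z with hz' | hz'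
        · exact hqr (hall z hz' q i hq hi hz1)
        rcases hmix b0 z (mem_cent.mp (hNC hz)).symm (by
          rw [hb0o, hi]; exact Nat.Coprime.pow _ _ ((Nat.coprime_primes hr0 hq).mpr hqr.symm)) hb0 hz' with h' | h'
        · exact hb01 h'
        · exact hz1 h'
      haveI : Group.IsNilpotent N := by
        have hq : IsPGroup r0 (N ⧸ center N) := by
          refine IsPGroup.iff_card.mpr ⟨(Nat.card (N ⧸ center N)).primeFactorsList.length,
            Nat.eq_prime_pow_of_unique_prime_dvd Nat.card_pos.ne' fun {d} hd hdd => ?_⟩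
          by_contra hdr
          haveI := Fact.mk hd
          obtain ⟨D⟩ : Nonempty (Sylow d N) := inferInstance
          refine D.not_dvd_index (hdd.trans ?_)
          rw [← index_eq_card]
          refine index_dvd_of_le fun z hz => mem_center_iff.mpr fun z' => Subtype.ext ?_
          obtain ⟨i, hi⟩ := IsPGroup.iff_orderOf.mp D.2 ⟨z, hz⟩
          rw [Subgroup.orderOf_mk] at hi
          exact mem_center_iff.mp (hNcen d hd hdr z z.2 ⟨i, by rw [orderOf_coe, hi]⟩) z'
        haveI := hq.isNilpotent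
        exact Subgroup.isNilpotent_of_ker_le_center (QuotientGroup.mk' (center N)) (by rw [QuotientGroup.ker_mk'])
      have hwN : w ∈ N := subset_normalClosure rfl
      obtain ⟨D, hD⟩ := (IsPGroup.of_card (n := j) (by
        rw [Nat.card_zpowers, ← orderOf_coe, hj]) : IsPGroup r0 (zpowers (⟨w, hwN⟩ : N))).exists_le_sylow
      haveI : (D : Subgroup N).Characteristic := Sylow.characteristic_of_normal D
        (Sylow.normal_of_normalizerCondition Group.normalizerCondition_of_isNilpotent D)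
      exact Cores.le_pCore (Cores.normal_map_subtype_of_char N (D : Subgroup N)) (D.2.map N.subtype)
        ⟨_, hD (mem_zpowers _), rfl⟩
    -- `R` is the Sylow subgroup
    obtain ⟨T⟩ : Nonempty (Sylow r0 (centralizer ({b0} : Set G))) := inferInstance
    have hTR : (T : Subgroup (centralizer ({b0} : Set G))).map (centralizer ({b0} : Set G)).subtype ≤ R := by
      rintro _ ⟨v, hv, rfl⟩
      obtain ⟨i, hi⟩ := IsPGroup.iff_orderOf.mp T.2 ⟨v, hv⟩
      rw [Subgroup.orderOf_mk] at hi
      exact hCR v v.2 ⟨i, by rw [orderOf_coe, hi]⟩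
    have hRi : ¬ r0 ∣ R.index := by
      intro hd
      have h := hd.trans (index_dvd_of_le hTR)
      rw [index_map_subtype] at h
      exact ((Nat.Prime.dvd_mul hr0).mp h).elim T.not_dvd_index fun h =>
        hprimT b0 hb0 hb01 r0 k0 hr0 hb0o (hb0 r0 hr0 h)
    let RS : Sylow r0 G := hRp.toSylow hRi
    haveI : Subsingleton (Sylow r0 G) := @Unique.instSubsingleton _ (_root_.Sylow.unique_of_normal RS
      (by show R.Normal; infer_instance))
    have hmemR : ∀ z : G, (∃ i, orderOf z = r0 ^ i) → z ∈ R := by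
      intro z hz
      obtain ⟨i, hi⟩ := hz
      obtain ⟨P, hP⟩ := (IsPGroup.of_card (n := i) (by rw [Nat.card_zpowers, hi]) :
        IsPGroup r0 (zpowers z)).exists_le_sylow
      have := hP (mem_zpowers z)
      rw [Subsingleton.elim P RS] at this
      exact this
    have hRb : ∀ b : G, IsNum S (cl b) → R ≤ centralizer ({b} : Set G) := by
      intro b hb
      obtain ⟨T⟩ : Nonempty (Sylow r0 (centralizer ({b} : Set G))) := inferInstance
      have hTi : ¬ r0 ∣ ((T : Subgroup (centralizer ({b} : Set G))).map (centralizer ({b} : Set G)).subtype).index := by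
        rw [index_map_subtype]
        exact fun hd => ((Nat.Prime.dvd_mul hr0).mp hd).elim T.not_dvd_index fun hd => htS (hb r0 hr0 hd)
      let T' : Sylow r0 G := (T.2.map (centralizer ({b} : Set G)).subtype).toSylow hTi
      have e : ((T' : Sylow r0 G) : Subgroup G) = R := by rw [Subsingleton.elim T' RS]; rfl
      rw [← e]
      exact map_subtype_le _
    by_contra hyS
    obtain ⟨j, hj⟩ := hy
    have hyR : y ∈ R := hmemR y ⟨j, hj⟩
    -- class sizes of `T`-elements of `R` are powers of `r0`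
    have hpowT : ∀ w : G, IsNum Sᶜ (cl w) → ∀ q : ℕ, q.Prime → q ∣ cl w → q = r0 := by
      intro w hw q hq hqd
      by_contra hqr
      haveI := Fact.mk hq
      obtain ⟨Qs⟩ : Nonempty (Sylow q G) := inferInstance
      refine Qs.not_dvd_index (hqd.trans (index_dvd_of_le fun z hz => ?_))
      obtain ⟨i, hi⟩ := IsPGroup.iff_orderOf.mp Qs.2 ⟨z, hz⟩
      rw [Subgroup.orderOf_mk] at hi
      exact mem_cent.mpr (mem_center_iff.mp (hcenT q hq (hw q hq hqd) hqr z ⟨i, hi⟩) w).symm
    have hdec : ∀ w : G, IsNum Sᶜ (cl w) → ∀ a : G, ∃ c ∈ centralizer ({w} : Set G), ∃ u ∈ R, a = c * u := by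
      intro w hw a
      have htop : centralizer ({w} : Set G) ⊔ R = ⊤ := by
        rw [← index_eq_one]
        by_contra hne
        obtain ⟨q, hq, hqd⟩ := Nat.exists_prime_and_dvd hne
        have h1 := hpowT w hw q hq (hqd.trans (index_dvd_of_le le_sup_left))
        exact hRi (h1 ▸ hqd.trans (index_dvd_of_le le_sup_right))
      have : a ∈ centralizer ({w} : Set G) ⊔ R := htop ▸ mem_top a
      obtain ⟨c, hc, u, hu, e⟩ := mem_sup_of_normal_right.mp this
      exact ⟨c, hc, u, hu, e.symm⟩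
    obtain ⟨s, hs, hsd⟩ := Nat.exists_prime_and_dvd hb01
    haveI := Fact.mk hs
    have hsT : ∀ w : G, IsNum Sᶜ (cl w) → ¬ s ∣ cl w := fun w hw hd => hw s hs hd (hb0 s hs hsd)
    obtain ⟨P⟩ : Nonempty (Sylow s G) := inferInstance
    set U := centralizer ((P : Subgroup G) : Set G) with hU
    have hcover : ∀ w : R, w ∈ U.subgroupOf R ⊔ frattini R ∨ w ∈ M.subgroupOf R ⊔ frattini R := by
      intro w
      rcases hpure (w : G) with h | h
      · exact Or.inr (mem_sup_left (mem_subgroupOf.mpr (hAM _ h)))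
      obtain ⟨T⟩ : Nonempty (Sylow s (centralizer ({(w : G)} : Set G))) := inferInstance
      have hTi : ¬ s ∣ ((T : Subgroup (centralizer ({(w : G)} : Set G))).map (centralizer ({(w : G)} : Set G)).subtype).index := by
        rw [index_map_subtype]
        exact fun hd => ((Nat.Prime.dvd_mul hs).mp hd).elim T.not_dvd_index (hsT _ h)
      let T' : Sylow s G := (T.2.map (centralizer ({(w : G)} : Set G)).subtype).toSylow hTi
      obtain ⟨a, ha⟩ := MulAction.exists_smul_eq G P T'
      obtain ⟨c, hc, u, hu, rfl⟩ := hdec _ h a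
      refine Or.inl ?_
      have hv : (⟨u, hu⟩⁻¹ * w * ⟨u, hu⟩ : R) ∈ U.subgroupOf R ⊔ frattini R := by
        refine mem_sup_left (mem_subgroupOf.mpr (mem_centralizer_iff.mpr fun p hp => ?_))
        have h1 : c * u * p * (c * u)⁻¹ ∈ (T' : Subgroup G) := ha ▸ ⟨p, hp, rfl⟩
        obtain ⟨z, -, hz⟩ := h1
        have h2 : z.1 * (w : G) = (w : G) * z.1 := mem_cent.mp z.2
        rw [show z.1 = c * u * p * (c * u)⁻¹ from hz] at h2
        have h3 := mem_cent.mp hc
        show p * (u⁻¹ * (w : G) * u) = u⁻¹ * (w : G) * u * p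
        have e1 : c⁻¹ * (w : G) * c = w := by rw [mul_assoc, ← h3, inv_mul_cancel_left]
        calc p * (u⁻¹ * (w : G) * u) = p * (u⁻¹ * (c⁻¹ * (w : G) * c) * u) := by rw [e1]
          _ = (c * u)⁻¹ * (c * u * p * (c * u)⁻¹ * (w : G)) * (c * u) := by group
          _ = u⁻¹ * (c⁻¹ * (w : G) * c) * u * p := by rw [h2]; group
          _ = _ := by rw [e1]
      have hc' : ⁅w, (⟨u, hu⟩ : R)⁻¹⁆ ∈ frattini R := by
        haveI := hRp.isNilpotent
        exact Cores.commutator_le_frattini (commutator_mem_commutator (mem_top _) (mem_top _))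
      have e : w = ⁅w, (⟨u, hu⟩ : R)⁻¹⁆ * ((⟨u, hu⟩ : R)⁻¹ * w * ⟨u, hu⟩) := by
        rw [commutatorElement_def]; group
      rw [e]
      exact mul_mem (mem_sup_right hc') hv
    have hor : U.subgroupOf R ⊔ frattini R = ⊤ ∨ M.subgroupOf R ⊔ frattini R = ⊤ := by
      by_contra h
      push Not at h
      obtain ⟨v, -, hv⟩ := SetLike.exists_of_lt (lt_top_iff_ne_top.mpr h.1)
      obtain ⟨z, -, hz⟩ := SetLike.exists_of_lt (lt_top_iff_ne_top.mpr h.2)
      have hvM := (hcover v).resolve_left hv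
      have hzU := (hcover z).resolve_right hz
      rcases hcover (v * z) with h' | h'
      · exact hv (by simpa using mul_mem h' (inv_mem hzU))
      · exact hz (by simpa [mul_assoc] using mul_mem (inv_mem hvM) h')
    rcases hor with h | h
    · have hUR := frattini_nongenerating h
      have hb0R : b0 ∈ R := hmemR b0 ⟨k0, hb0o⟩
      have hb0U : b0 ∈ U := mem_subgroupOf.mp (hUR.symm ▸ mem_top (⟨b0, hb0R⟩ : R))
      refine P.not_dvd_index (hsd.trans (index_dvd_of_le fun z hz => ?_))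
      exact mem_cent.mpr (mem_centralizer_iff.mp hb0U z hz)
    · have hMR := frattini_nongenerating h
      have hyM : y ∈ M := mem_subgroupOf.mp (hMR.symm ▸ mem_top (⟨y, hyR⟩ : R))
      have hyT := (hpure y).resolve_left hyS
      have hRy : R ≤ centralizer ({y} : Set G) := by
        intro z hz
        have h1 : M ≤ centralizer ({z} : Set G) := (closure_le _).mpr fun b hb =>
          mem_cent.mpr (mem_cent.mp (hRb b hb.1 hz)).symm
        exact mem_cent.mpr (mem_cent.mp (h1 hyM)).symm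
      refine hyS ?_
      have : cl y = 1 := by
        by_contra hne
        obtain ⟨q, hq, hqd⟩ := Nat.exists_prime_and_dvd hne
        exact hRi (hpowT y hyT q hq hqd ▸ hqd.trans (index_dvd_of_le hRy))
      rw [this]; exact hone
  -- the index of `M` is an `S`-number
  have hMi : IsNum S M.index := by
    intro t ht htd
    by_contra htS
    haveI := Fact.mk ht
    obtain ⟨T⟩ : Nonempty (Sylow t G) := inferInstance
    refine T.not_dvd_index (htd.trans (index_dvd_of_le fun z hz => ?_))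
    obtain ⟨i, hi⟩ := IsPGroup.iff_orderOf.mp T.2 ⟨z, hz⟩
    rw [Subgroup.orderOf_mk] at hi
    exact hAM z (hTS t ht htS z ⟨i, hi⟩)
  have hMS : ∀ x ∈ M, IsNum S (cl x) := fun x hx =>
    hMi.of_dvd (index_dvd_of_le fun z hz => mem_cent.mpr (hMab z hz x hx))
  have hpart : ∀ x : G, x ∉ M → ∃ n s k : ℕ, s.Prime ∧ orderOf (x ^ n) = s ^ k ∧ s ∈ S ∧ x ^ n ∉ M := by
    intro x hx
    by_contra h
    refine hx (mem_of_parts M x fun n s k hs hn => ?_)
    by_contra hnM
    by_cases hsS : s ∈ S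
    · exact h ⟨n, s, k, hs, hn, hsS, hnM⟩
    · exact hnM (hAM _ (hTS s hs hsS _ ⟨k, hn⟩))
  have houtT : ∀ x : G, x ∉ M → IsNum Sᶜ (cl x) ∧ cl x ≠ 1 := fun x hx =>
    ⟨(hpure x).resolve_left fun h => hx (hAM x h), fun e => hx (hAM x (e ▸ hone))⟩
  have hprimM : ∀ m ∈ M, ∀ q j : ℕ, q.Prime → orderOf m = q ^ j → m ∉ center G → q ∉ S :=
    fun m hm q j hq hmo hmc => hprimT m (hMS m hm) (fun e => hmc (cl_eq_one.mp e)) q j hq hmo
  have hMC : ∀ x : G, x ∉ M → ∀ m ∈ M, m * x = x * m → m ∈ center G := by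
    intro x hx m hm hmx
    obtain ⟨n, s, k, hs, hn, hsS, hnM⟩ := hpart x hx
    refine mem_of_parts _ m fun i q j hq hi => ?_
    by_contra hmc
    have hqs : q ≠ s := fun e => hprimM _ (pow_mem hm i) q j hq hi hmc (e ▸ hsS)
    rcases hmix (m ^ i) (x ^ n) ((show Commute m x from hmx).pow_pow i n).eq (by
      rw [hi, hn]; exact Nat.Coprime.pow _ _ ((Nat.coprime_primes hq hs).mpr hqs))
      (hMS _ (pow_mem hm i)) (houtT _ hnM).1 with h | h
    · exact hmc (cl_eq_one.mp h)
    · exact (houtT _ hnM).2 h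
  -- fixed-point-free action modulo the centre
  have hfpf : ∀ x : G, x ∉ M → ∀ m ∈ M, ⁅m, x⁆ ∈ center G → m ∈ center G := by
    intro x hx m hm hc
    obtain ⟨n, s, k, hs, hn, hsS, hnM⟩ := hpart x hx
    refine mem_of_parts _ m fun i q j hq hi => ?_
    by_contra hmc
    have hqs : q ≠ s := fun e => hprimM _ (pow_mem hm i) q j hq hi hmc (e ▸ hsS)
    set z := ⁅m ^ i, x ^ n⁆ with hz
    have hzc : z ∈ center G := by
      rw [← QuotientGroup.eq_one_iff, hz]
      show QuotientGroup.mk' (center G) ⁅m ^ i, x ^ n⁆ = 1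
      have h1 : QuotientGroup.mk' (center G) ⁅m, x⁆ = 1 := (QuotientGroup.eq_one_iff _).mpr hc
      rw [map_commutatorElement, commutatorElement_eq_one_iff_mul_comm] at h1
      rw [map_commutatorElement, commutatorElement_eq_one_iff_mul_comm, map_pow, map_pow]
      exact ((show Commute _ _ from h1).pow_pow i n).eq
    have hcz : ∀ g, Commute z g := fun g => (mem_center_iff.mp hzc g).symm
    have e1 : m ^ i * x ^ n * (m ^ i)⁻¹ = z * x ^ n := by rw [hz, commutatorElement_def]; group
    have e2 : x ^ n * m ^ i * (x ^ n)⁻¹ = z⁻¹ * m ^ i := by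
      rw [hz, commutatorElement_def]; group
    have h1 : z ^ (s ^ k) = 1 := by
      have h := congrArg (· ^ (s ^ k)) e1
      simp only [conj_pow, (hcz _).mul_pow, ← hn, pow_orderOf_eq_one, mul_one, mul_inv_cancel] at h
      rw [← hn]; exact h.symm
    have h2 : z ^ (q ^ j) = 1 := by
      have h := congrArg (· ^ (q ^ j)) e2
      simp only [conj_pow, ((hcz _).inv_left).mul_pow, ← hi, pow_orderOf_eq_one, mul_one, mul_inv_cancel, inv_pow] at h
      rw [← hi]; exact inv_eq_one.mp h.symm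
    have hz1 : z = 1 := orderOf_eq_one_iff.mp (Nat.eq_one_of_dvd_coprimes
      (Nat.Coprime.pow k j ((Nat.coprime_primes hs hq).mpr hqs.symm))
      (orderOf_dvd_of_pow_eq_one h1) (orderOf_dvd_of_pow_eq_one h2))
    rw [hz, commutatorElement_eq_one_iff_mul_comm] at hz1
    exact hmc (hMC _ hnM _ (pow_mem hm i) hz1)
  -- the complement
  obtain ⟨x0, hx0T, hx01⟩ := hexT
  have hx0M : x0 ∉ M := fun h => hx01 (h1T x0 (hMS x0 h) hx0T)
  obtain ⟨n0, s0, l0, hs0, hn0, hs0S, hy0M⟩ := hpart x0 hx0M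
  set y0 := x0 ^ n0
  set L := centralizer ({y0} : Set G) with hL
  have hsup : ∀ y : G, y ∉ M → M ⊔ centralizer ({y} : Set G) = ⊤ := fun y hy => by
    rw [← index_eq_one]
    exact Nat.eq_one_of_dvd_coprimes (hMi.coprime (houtT y hy).1) (index_dvd_of_le le_sup_left)
      (index_dvd_of_le le_sup_right)
  have hLM : ∀ m ∈ M, m ∈ L → m ∈ center G := fun m hm hmL => hMC y0 hy0M m hm (mem_cent.mp hmL)
  have hLab : ∀ y ∈ L, ∀ c ∈ L, c * y = y * c := by
    intro y hy c hc
    by_cases hyM : y ∈ M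
    · exact mem_center_iff.mp (hLM y hyM hy) c
    obtain ⟨μ, hμ, d, hd, hcd⟩ := mem_sup_of_normal_left.mp (hsup y hyM ▸ mem_top c)
    have hdy : d * y * d⁻¹ = y := by rw [mem_cent.mp hd, mul_inv_cancel_right]
    have e1 : c * y * c⁻¹ = μ * y * μ⁻¹ := by
      calc c * y * c⁻¹ = μ * (d * y * d⁻¹) * μ⁻¹ := by rw [← hcd]; group
        _ = _ := by rw [hdy]
    have h2 : μ * y * μ⁻¹ * y0 = y0 * (μ * y * μ⁻¹) := e1 ▸ mem_cent.mp (mul_mem (mul_mem hc hy) (inv_mem hc))
    have hν : ⁅μ⁻¹, y0⁆ ∈ M := by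
      rw [commutatorElement_def]
      have := mul_mem (inv_mem hμ) (hMn.conj_mem _ (inv_mem (inv_mem hμ)) y0)
      simpa [mul_assoc] using this
    have hyν : ⁅μ⁻¹, y0⁆ * y = y * ⁅μ⁻¹, y0⁆ := by
      have a1 : Commute (μ⁻¹ * y0 * μ) y := by
        show μ⁻¹ * y0 * μ * y = y * (μ⁻¹ * y0 * μ)
        calc μ⁻¹ * y0 * μ * y = μ⁻¹ * (y0 * (μ * y * μ⁻¹)) * μ := by group
          _ = _ := by rw [← h2]; group
      have a2 : Commute y0⁻¹ y := (show Commute y0 y from (mem_cent.mp hy).symm).inv_left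
      have : ⁅μ⁻¹, y0⁆ = μ⁻¹ * y0 * μ * y0⁻¹ := by rw [commutatorElement_def, inv_inv]
      rw [this]
      exact (a1.mul_left a2).eq
    have hμc := hfpf y0 hy0M μ⁻¹ (inv_mem hμ) (hMC y hyM _ hν hyν)
    have e3 : μ * y * μ⁻¹ = y := by
      have := mem_center_iff.mp hμc y
      calc μ * y * μ⁻¹ = μ * (y * μ⁻¹) := by group
        _ = y := by rw [this, mul_inv_cancel_left]
    rw [e3] at e1
    exact mul_inv_eq_iff_eq_mul.mp e1
  set π := QuotientGroup.mk' (center G) with hπ
  have hπs : Function.Surjective π := QuotientGroup.mk'_surjective _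
  haveI : (M.map π).Normal := hMn.map π hπs
  have hdisj : M.map π ⊓ L.map π = ⊥ := by
    rw [eq_bot_iff]
    rintro _ ⟨⟨m, hm, rfl⟩, l, hl, hlm⟩
    rw [mem_bot]
    have hz : l⁻¹ * m ∈ center G := QuotientGroup.eq.mp hlm
    have hmL : m ∈ L := by
      have := mul_mem hl (show l⁻¹ * m ∈ L from mem_cent.mpr (mem_center_iff.mp hz y0).symm)
      rwa [mul_inv_cancel_left] at this
    exact (QuotientGroup.eq_one_iff m).mpr (hLM m hm hmL)
  have hsup' : M.map π ⊔ L.map π = ⊤ := by
    rw [← Subgroup.map_sup, hL, hsup y0 hy0M, map_top_of_surjective _ hπs]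
  have hN : M.map π ≠ ⊥ := fun e => hb01 (cl_eq_one.mpr ((QuotientGroup.eq_one_iff b0).mp
    (mem_bot.mp (e ▸ ⟨b0, hAM b0 hb0, rfl⟩ : π b0 ∈ (⊥ : Subgroup _)))))
  have hH0 : L.map π ≠ ⊥ := fun e => (houtT y0 hy0M).2 (cl_eq_one.mpr ((QuotientGroup.eq_one_iff y0).mp
    (mem_bot.mp (e ▸ ⟨y0, mem_cent.mpr rfl, rfl⟩ : π y0 ∈ (⊥ : Subgroup _)))))
  have hf : ∀ h ∈ L.map π, h ≠ 1 → ∀ n ∈ M.map π, h * n = n * h → n = 1 := by
    rintro _ ⟨l, hl, rfl⟩ hne _ ⟨m, hm, rfl⟩ hcm
    have hlM : l ∉ M := fun h => hne ((QuotientGroup.eq_one_iff l).mpr (hLM l h hl))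
    refine (QuotientGroup.eq_one_iff m).mpr (hfpf l hlM m hm ?_)
    rw [← QuotientGroup.eq_one_iff]
    show π ⁅m, l⁆ = 1
    rw [map_commutatorElement, commutatorElement_eq_one_iff_mul_comm]
    exact hcm.symm
  refine ⟨L.map π, Frobenius.isFrobeniusComplement_of_fixedPointFree hdisj hsup' hN hH0 hf, ⟨⟨?_⟩⟩, ?_⟩
  · rintro ⟨_, a, ha, rfl⟩ ⟨_, b, hb, rfl⟩
    exact Subtype.ext (by show π a * π b = π b * π a; rw [← map_mul, ← map_mul, hLab b hb a ha])
  · rw [Frobenius.frobeniusKernel_eq_of_fixedPointFree hdisj hsup' hf]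
    rintro _ ⟨a, ha, rfl⟩ _ ⟨b, hb, rfl⟩
    rw [← map_mul, ← map_mul, hMab a ha b hb]


/-- Let G be a finite group. Call a prime a vertex if it divides some conjugacy class size of G, and two distinct vertices adjacent if their product divides some class size. Suppose this graph is disconnected: the vertices split into two nonempty parts with no vertex of one part adjacent to a vertex of the other. Then G/Z(G) is a Frobenius group with abelian Frobenius complement and with a Frobenius kernel all of whose elements commute. -/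
theorem result {G : Type*} [Group G] [Finite G] (S : Set ℕ) (hS : ∃ p ∈ S, (p.Prime ∧ ∃ g : G, p ∣ (Subgroup.centralizer ({g} : Set G)).index)) (hS' : ∃ q ∉ S, (q.Prime ∧ ∃ g : G, q ∣ (Subgroup.centralizer ({g} : Set G)).index))
    (hdisc : ∀ p q : ℕ, (p.Prime ∧ ∃ g : G, p ∣ (Subgroup.centralizer ({g} : Set G)).index) → (q.Prime ∧ ∃ g : G, q ∣ (Subgroup.centralizer ({g} : Set G)).index) → p ∈ S → q ∉ S → ¬ (∃ g : G, p * q ∣ (Subgroup.centralizer ({g} : Set G)).index)) :
    ∃ H : Subgroup (G ⧸ Subgroup.center G), Cfsg.IsFrobeniusComplement H ∧ IsMulCommutative H ∧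
      ∀ x ∈ Cfsg.frobeniusKernel H, ∀ y ∈ Cfsg.frobeniusKernel H, x * y = y * x := by
  have hpure : ∀ g : G, IsNum S (cl g) ∨ IsNum Sᶜ (cl g) := by
    intro g
    by_contra h
    simp only [IsNum, not_or, not_forall] at h
    obtain ⟨⟨q, hq, hqd, hqS⟩, p, hp, hpd, hpS⟩ := h
    have hpS' : p ∈ S := by simpa using hpS
    refine hdisc p q ⟨hp, g, hpd⟩ ⟨hq, g, hqd⟩ hpS' hqS ⟨g, ?_⟩
    exact ((Nat.coprime_primes hp hq).mpr fun e => hqS (e ▸ hpS')).mul_dvd_of_dvd_of_dvd hpd hqd
  obtain ⟨p, hpS, hp, g, hg⟩ := hS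
  obtain ⟨q, hqS, hq, g', hg'⟩ := hS'
  have hb : IsNum S (cl g) ∧ cl g ≠ 1 :=
    ⟨(hpure g).resolve_right fun h => h p hp hg hpS,
      fun e => hp.not_dvd_one (e ▸ hg)⟩
  have hx : IsNum Sᶜ (cl g') ∧ cl g' ≠ 1 :=
    ⟨(hpure g').resolve_left fun h => hqS (h q hq hg'), fun e => hq.not_dvd_one (e ▸ hg')⟩
  obtain ⟨c, hc⟩ := Finite.exists_max (fun x : G => cl x)
  rcases hpure c with h | h
  · exact oriented Sᶜ (fun g => (hpure g).symm.imp id fun h => by rwa [compl_compl])
      ⟨g', hx⟩ ⟨g, by rw [compl_compl]; exact hb⟩ ⟨c, by rw [compl_compl]; exact h, hc⟩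
  · exact oriented S hpure ⟨g, hb⟩ ⟨g', hx⟩ ⟨c, h, hc⟩

end Cfsg.Agent.S4255
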