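import Cfsg.Statements.S4257
import Cfsg.Agent.Lib.PGroups.ClassGraph
import Cfsg.Agent.S4160
import Cfsg.Agent.S0055
import Cfsg.Agent.Lib.Coprime.Basic

set_option autoImplicit false
open Cfsg

namespace Cfsg.Agent.S4257


open Cfsg.Agent.Lib
open Cfsg.Agent.Lib.PGroups.ClassGraph
open Subgroup
open scoped commutatorElement

universe u

/-- A walk with at most three steps gives a path with at most three edges. -/
theorem path_of_walk (R : ℕ → ℕ → Prop) (hR : ∀ a b, R a b → R b a) {p t t' q : ℕ} (hpq : p ≠ q)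
    (h1 : p = t ∨ R p t) (h2 : t = t' ∨ R t t') (h3 : t' = q ∨ R t' q) :
    R p q ∨ (∃ r, r ≠ p ∧ r ≠ q ∧ R p r ∧ R r q) ∨
      ∃ r s, r ≠ p ∧ s ≠ q ∧ r ≠ s ∧ r ≠ q ∧ s ≠ p ∧ R p r ∧ R r s ∧ R s q := by
  rcases h1 with rfl | h1
  · rcases h2 with rfl | h2
    · exact Or.inl (h3.resolve_left hpq)
    · rcases h3 with rfl | h3
      · exact Or.inl h2
      · by_cases e : t' = p
        · exact Or.inl (e ▸ h3)
        by_cases e' : t' = q
        · exact Or.inl (e' ▸ h2)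
        exact Or.inr (Or.inl ⟨t', e, e', h2, h3⟩)
  · by_cases et : t = p
    · subst et
      rcases h2 with rfl | h2
      · exact Or.inl (h3.resolve_left hpq)
      · rcases h3 with rfl | h3
        · exact Or.inl h2
        · by_cases e : t' = t
          · exact Or.inl (e ▸ h3)
          by_cases e' : t' = q
          · exact Or.inl (e' ▸ h2)
          exact Or.inr (Or.inl ⟨t', e, e', h2, h3⟩)
    by_cases etq : t = q
    · exact Or.inl (etq ▸ h1)
    rcases h2 with rfl | h2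
    · exact Or.inr (Or.inl ⟨t, et, etq, h1, h3.resolve_left etq⟩)
    · by_cases e' : t' = q
      · exact Or.inr (Or.inl ⟨t, et, etq, h1, e' ▸ h2⟩)
      have h3' : R t' q := h3.resolve_left e'
      by_cases e : t' = p
      · exact Or.inl (e ▸ h3')
      by_cases ett : t = t'
      · exact Or.inr (Or.inl ⟨t, et, etq, h1, ett ▸ h3'⟩)
      exact Or.inr (Or.inr ⟨t, t', et, e', ett, etq, e, h1, h2, h3'⟩)

/-- A finite group is not the union of the conjugates of a proper subgroup. -/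
theorem eq_top_of_cover {G : Type u} [Group G] [Finite G] (H : Subgroup G)
    (h : ∀ g : G, g ≠ 1 → ∃ x : G, x⁻¹ * g * x ∈ H) : H = ⊤ := by
  have hb := Cfsg.Agent.S4160.card_conjugates_le H
  set N := normalizer (H : Set G)
  have hsub : ({1}ᶜ : Set G) ⊆ {g : G | g ≠ 1 ∧ ∃ x : G, x⁻¹ * g * x ∈ H} :=
    fun g hg => ⟨hg, h g hg⟩
  have h1 := Set.ncard_le_ncard hsub (Set.toFinite _)
  rw [Set.ncard_compl, Set.ncard_singleton] at h1
  have h2 : N.index * Nat.card H ≤ Nat.card G := by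
    calc N.index * Nat.card H ≤ N.index * Nat.card N := Nat.mul_le_mul_left _ (Subgroup.card_le_of_le le_normalizer)
      _ = Nat.card G := by rw [mul_comm, N.card_mul_index]
  have h3 : N.index = 1 := by
    have : 0 < N.index := Nat.pos_of_ne_zero index_ne_zero_of_finite
    have : 0 < Nat.card G := Nat.card_pos
    omega
  haveI : H.Normal := normalizer_eq_top_iff.mp (index_eq_one.mp h3)
  refine eq_top_iff.mpr fun g _ => ?_
  by_cases hg : g = 1
  · rw [hg]; exact one_mem H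
  obtain ⟨x, hx⟩ := h g hg
  have := (inferInstance : H.Normal).conj_mem _ hx x
  simpa [mul_assoc] using this

/-- The structure forced by a prime all of whose classes are prime to the largest one. -/
theorem bad_structure {G : Type u} [Group G] [Finite G] (c : G) (hcmax : ∀ g : G, cl g ≤ cl c) (p : ℕ)
    (hp : p.Prime) (hv : ∃ g : G, p ∣ cl g) (hbad : ∀ g : G, p ∣ cl g → (cl g).Coprime (cl c)) :
    ∃ k r : ℕ, p ∣ k ∧ r.Prime ∧ (∃ v : G, cl v = k) ∧ ∀ g : G, cl g ∣ k ∨ r ∣ cl g := by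
  classical
  haveI := Fact.mk hp
  let S : Set ℕ := {r | ¬ r ∣ cl c}
  have hcT : IsNum Sᶜ (cl c) := fun r _ hd h => h hd
  obtain ⟨M, hMn, hMab, hAM, hprimT⟩ := abelian_normal_of_max S c hcT hcmax
  haveI := hMn
  haveI hMc : IsMulCommutative M := ⟨⟨fun a b => Subtype.ext (hMab a a.2 b b.2)⟩⟩
  obtain ⟨P⟩ : Nonempty (Sylow p G) := inferInstance
  set C := centralizer ((P : Subgroup G) : Set G) with hC
  -- the part of order prime to `p`
  let M' : Subgroup G :=
    { carrier := {m | m ∈ M ∧ (orderOf m).Coprime p}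
      one_mem' := ⟨one_mem _, by rw [orderOf_one]; exact Nat.coprime_one_left p⟩
      mul_mem' := fun {a b} ha hb => ⟨mul_mem ha.1 hb.1, Nat.Coprime.coprime_dvd_left
        (Commute.orderOf_mul_dvd_mul_orderOf (hMab a ha.1 b hb.1)) (ha.2.mul_left hb.2)⟩
      inv_mem' := fun {a} ha => ⟨inv_mem ha.1, by rw [orderOf_inv]; exact ha.2⟩ }
  haveI hM'n : M'.Normal := ⟨fun m hm a => ⟨hMn.conj_mem m hm.1 a, by
    rw [show a * m * a⁻¹ = (MulAut.conj a).toMonoidHom m from rfl,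
      orderOf_injective _ (MulAut.conj a).injective]; exact hm.2⟩⟩
  haveI : IsMulCommutative M' := ⟨⟨fun a b => Subtype.ext (hMab a a.2.1 b b.2.1)⟩⟩
  have hMab' : ∀ m ∈ M', ∀ z ∈ M', m * z = z * m := fun m hm z hz => hMab m hm.1 z hz.1
  set N := M' ⊔ center G with hN
  haveI hNn : N.Normal := Subgroup.sup_normal _ _
  have hNab : ∀ a ∈ N, ∀ b ∈ N, a * b = b * a := by
    have h0 : N ≤ centralizer (M' : Set G) := sup_le
      (fun m hm => mem_centralizer_iff.mpr fun z hz => hMab' z hz m hm) (center_le_centralizer _)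
    have h1 : N ≤ centralizer (N : Set G) := sup_le
      (fun m hm => mem_centralizer_iff.mpr fun z hz => (mem_centralizer_iff.mp (h0 hz) m hm).symm)
      (center_le_centralizer _)
    exact fun a ha b hb => (mem_centralizer_iff.mp (h1 ha) b hb).symm
  have hpc : p ∈ S := fun hd => by
    obtain ⟨g, hg⟩ := hv
    exact hp.ne_one (Nat.eq_one_of_dvd_coprimes (hbad g hg) hg hd)
  have hAN : ∀ x : G, IsNum S (cl x) → x ∈ N := fun x hx => mem_of_parts N x fun n q j hq hn => by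
    have hxn : IsNum S (cl (x ^ n)) := hx.of_dvd (cl_pow_dvd x n)
    by_cases h1 : cl (x ^ n) = 1
    · exact mem_sup_right (cl_eq_one.mp h1)
    refine mem_sup_left ⟨hAM _ hxn, ?_⟩
    rw [hn]
    exact Nat.Coprime.pow_left j ((Nat.coprime_primes hq hp).mpr fun e => hprimT _ hxn h1 q j hq hn (e ▸ hpc))
  have hbN : ∀ g : G, p ∣ cl g → g ∈ N := fun g hg => hAN g fun r hr hd hrc =>
    hr.ne_one (Nat.eq_one_of_dvd_coprimes (hbad g hg) hd hrc)
  -- elements outside `N` centralize a conjugate of `P`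
  have houtC : ∀ g : G, g ∉ N → ∃ a : G, a⁻¹ * g * a ∈ C := by
    intro g hg
    have hpg : ¬ p ∣ cl g := fun h => hg (hbN g h)
    obtain ⟨T⟩ : Nonempty (Sylow p (centralizer ({g} : Set G))) := inferInstance
    have hTi : ¬ p ∣ ((T : Subgroup (centralizer ({g} : Set G))).map (centralizer ({g} : Set G)).subtype).index := by
      rw [index_map_subtype]
      exact fun hd => ((Nat.Prime.dvd_mul hp).mp hd).elim T.not_dvd_index hpg
    let T' : Sylow p G := (T.2.map (centralizer ({g} : Set G)).subtype).toSylow hTi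
    obtain ⟨a, ha⟩ := MulAction.exists_smul_eq G P T'
    refine ⟨a, mem_centralizer_iff.mpr fun u hu => ?_⟩
    have h1 : a * u * a⁻¹ ∈ (T' : Subgroup G) := ha ▸ ⟨u, hu, rfl⟩
    obtain ⟨z, -, hz⟩ := h1
    have h2 : z.1 * g = g * z.1 := mem_cent.mp z.2
    rw [show z.1 = a * u * a⁻¹ from hz] at h2
    calc u * (a⁻¹ * g * a) = a⁻¹ * (a * u * a⁻¹ * g) * a := by group
      _ = _ := by rw [h2]; group
  have hZC : center G ≤ C := center_le_centralizer _
  have hMC : M' ⊔ C = ⊤ := eq_top_of_cover _ fun g _ => by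
    by_cases hg : g ∈ N
    · exact ⟨1, by simpa using (sup_le_sup_left hZC M') hg⟩
    · obtain ⟨a, ha⟩ := houtC g hg
      exact ⟨a, mem_sup_right ha⟩
  have hPM : (P : Subgroup G) ≤ normalizer (M' : Set G) := by rw [normalizer_eq_top]; exact le_top
  have hcop : (Nat.card (P : Subgroup G)).Coprime (Nat.card M') := by
    obtain ⟨j, hj⟩ := IsPGroup.iff_card.mp P.2
    rw [hj]
    refine Nat.Coprime.pow_left j (hp.coprime_iff_not_dvd.mpr fun hd => ?_)
    obtain ⟨z, hz⟩ := exists_prime_orderOf_dvd_card' p hd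
    have h1 := z.2.2
    rw [orderOf_coe, hz, Nat.coprime_self] at h1
    exact hp.ne_one h1
  obtain ⟨hdisj0, hsup0⟩ := Cfsg.Agent.S0055.result (P : Subgroup G) M' hPM hcop
  set V := ⁅M', (P : Subgroup G)⁆ with hV
  have hVM : V ≤ M' := le_normalizer_iff_commutator_le_left.mp hPM
  have hVN : V ≤ N := hVM.trans le_sup_left
  have hVC : ∀ v ∈ V, v ∈ C → v = 1 := fun v hv hvC =>
    mem_bot.mp (hdisj0 ▸ mem_inf.mpr ⟨⟨hVM hv, hvC⟩, hv⟩)
  have hVC' : V ⊔ C = ⊤ := by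
    refine top_le_iff.mp (hMC.ge.trans (sup_le ?_ le_sup_right))
    rw [← hsup0]
    exact sup_le (inf_le_right.trans le_sup_right) le_sup_left
  haveI hVn : V.Normal := by
    rw [← normalizer_eq_top_iff, eq_top_iff, ← hMC]
    refine sup_le (fun m hm => centralizer_le_normalizer _ (mem_centralizer_iff.mpr fun v hv =>
      hMab' v (hVM hv) m hm)) fun d hd => ?_
    rw [mem_normalizer_iff_map_conj_eq, hV, map_commutator,
      mem_normalizer_iff_map_conj_eq.mp (show d ∈ normalizer (M' : Set G) by rw [normalizer_eq_top]; trivial),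
      mem_normalizer_iff_map_conj_eq.mp (centralizer_le_normalizer _ hd)]
  -- fixed-point-free action on `V`
  have hfpf : ∀ x ∈ C, x ∉ N → ∀ v ∈ V, v * x = x * v → v = 1 := by
    intro x hxC hxN
    let f : V → V := fun w => ⟨x⁻¹ * (w : G) * x * (w : G)⁻¹, mul_mem (by
      simpa using hVn.conj_mem w w.2 x⁻¹) (inv_mem w.2)⟩
    have hsurj : Function.Surjective f := by
      intro v
      have hxv : x * (v : G) ∉ N := fun h => hxN (by
        simpa [mul_assoc] using mul_mem h (inv_mem (hVN v.2)))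
      obtain ⟨a, ha⟩ := houtC _ hxv
      obtain ⟨w, hw, d, hd, rfl⟩ := mem_sup_of_normal_left.mp (hVC' ▸ mem_top a)
      have hy : w⁻¹ * (x * v) * w ∈ C := by
        have := mul_mem (mul_mem hd ha) (inv_mem hd)
        simpa [mul_assoc] using this
      have h1 : x⁻¹ * w⁻¹ * x * v * w ∈ V :=
        mul_mem (mul_mem (by simpa using hVn.conj_mem _ (inv_mem hw) x⁻¹) v.2) hw
      have h2 := hVC _ h1 (by simpa [mul_assoc] using mul_mem (inv_mem hxC) hy)
      refine ⟨⟨w, hw⟩, Subtype.ext ?_⟩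
      show x⁻¹ * w * x * w⁻¹ = v
      calc x⁻¹ * w * x * w⁻¹ = (x⁻¹ * w * x) * (x⁻¹ * w⁻¹ * x * v * w) * w⁻¹ := by rw [h2]; group
        _ = v := by group
    intro v hv hvx
    have hinj := Finite.injective_iff_surjective.mpr hsurj
    have : f ⟨v, hv⟩ = f 1 := Subtype.ext (by
      show x⁻¹ * v * x * v⁻¹ = x⁻¹ * ((1 : V) : G) * x * ((1 : V) : G)⁻¹
      rw [mul_assoc x⁻¹, hvx, inv_mul_cancel_left, OneMemClass.coe_one]
      group)
    simpa using congrArg Subtype.val (hinj this)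
  obtain ⟨g0, hg0⟩ := hv
  have hVne : V ≠ ⊥ := fun e => by
    rw [e, bot_sup_eq] at hVC'
    refine P.not_dvd_index (hg0.trans (index_dvd_of_le fun u hu => ?_))
    exact mem_cent.mpr (mem_centralizer_iff.mp (show g0 ∈ C by rw [hVC']; exact mem_top g0) u hu)
  obtain ⟨v0, hv0, hv01⟩ := (bot_or_exists_ne_one V).resolve_left hVne
  obtain ⟨r, hr, hrV⟩ := Nat.exists_prime_and_dvd (fun e => hVne (card_eq_one.mp e) : Nat.card V ≠ 1)
  have hdvdN : ∀ g ∈ N, cl g ∣ N.index := fun g hg =>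
    index_dvd_of_le fun z hz => mem_cent.mpr (hNab z hz g hg)
  have hCv : centralizer ({v0} : Set G) = N := by
    refine le_antisymm (fun g hg => ?_) fun g hg => mem_cent.mpr (hNab g hg v0 (hVN hv0))
    obtain ⟨w, hw, d, hd, rfl⟩ := mem_sup_of_normal_left.mp (hVC' ▸ mem_top g)
    refine mul_mem (hVN hw) ?_
    by_contra hdN
    refine hv01 (hfpf d hd hdN v0 hv0 ?_)
    have h1 := mem_cent.mp hg
    have h2 := hNab w (hVN hw) v0 (hVN hv0)
    calc v0 * d = w⁻¹ * (w * v0) * d := by group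
      _ = w⁻¹ * (v0 * w) * d := by rw [h2]
      _ = w⁻¹ * (w * d * v0) := by rw [h1]; group
      _ = d * v0 := by group
  refine ⟨N.index, r, hg0.trans (hdvdN g0 (hbN g0 hg0)), hr, ⟨v0, by rw [cl, hCv]⟩, fun g => ?_⟩
  by_cases hg : g ∈ N
  · exact Or.inl (hdvdN g hg)
  refine Or.inr (hrV.trans ?_)
  obtain ⟨a, ha⟩ := houtC g hg
  have hbot : V ⊓ centralizer ({g} : Set G) = ⊥ := by
    rw [eq_bot_iff]
    intro v hv
    have h1 := hfpf _ ha (fun h => hg (by
      have := hNn.conj_mem _ h a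
      simpa [mul_assoc] using this)) (a⁻¹ * v * a) (by simpa using hVn.conj_mem v hv.1 a⁻¹) (by
        calc a⁻¹ * v * a * (a⁻¹ * g * a) = a⁻¹ * (v * g) * a := by group
          _ = _ := by rw [mem_cent.mp hv.2]; group)
    rw [mem_bot]
    calc v = a * (a⁻¹ * v * a) * a⁻¹ := by group
      _ = 1 := by rw [h1]; group
  have h1 := Coprime.card_sup_mul_card_inf (N := V) (H := centralizer ({g} : Set G))
    (by rw [normalizer_eq_top]; exact le_top)
  rw [hbot, card_bot, mul_one] at h1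
  have h2 := card_subgroup_dvd_card (V ⊔ centralizer ({g} : Set G))
  rw [h1, ← card_mul_index (centralizer ({g} : Set G)), mul_comm] at h2
  exact (Nat.mul_dvd_mul_iff_left Nat.card_pos).mp h2


/-- Let G be a finite group. Call a prime a vertex if it divides some conjugacy class size of G, and two distinct vertices adjacent if their product divides some class size. If this graph is connected, then its diameter is at most 3: any two distinct vertices p and q are adjacent, or joined through one or two intermediate vertices. -/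
theorem result {G : Type*} [Group G] [Finite G]
    (hconn : ∀ S : Set ℕ, (∃ p ∈ S, (p.Prime ∧ ∃ g : G, p ∣ (Subgroup.centralizer ({g} : Set G)).index)) → (∃ q ∉ S, (q.Prime ∧ ∃ g : G, q ∣ (Subgroup.centralizer ({g} : Set G)).index)) →
      ∃ p q : ℕ, (p.Prime ∧ ∃ g : G, p ∣ (Subgroup.centralizer ({g} : Set G)).index) ∧ (q.Prime ∧ ∃ g : G, q ∣ (Subgroup.centralizer ({g} : Set G)).index) ∧ p ∈ S ∧ q ∉ S ∧ (∃ g : G, p * q ∣ (Subgroup.centralizer ({g} : Set G)).index))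
    (p q : ℕ) (hp : (p.Prime ∧ ∃ g : G, p ∣ (Subgroup.centralizer ({g} : Set G)).index)) (hq : (q.Prime ∧ ∃ g : G, q ∣ (Subgroup.centralizer ({g} : Set G)).index)) (hpq : p ≠ q) :
    (∃ g : G, p * q ∣ (Subgroup.centralizer ({g} : Set G)).index) ∨ (∃ r : ℕ, (r.Prime ∧ ∃ g : G, r ∣ (Subgroup.centralizer ({g} : Set G)).index) ∧ r ≠ p ∧ r ≠ q ∧ (∃ g : G, p * r ∣ (Subgroup.centralizer ({g} : Set G)).index) ∧ (∃ g : G, r * q ∣ (Subgroup.centralizer ({g} : Set G)).index)) ∨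
      (∃ r s : ℕ, (r.Prime ∧ ∃ g : G, r ∣ (Subgroup.centralizer ({g} : Set G)).index) ∧ (s.Prime ∧ ∃ g : G, s ∣ (Subgroup.centralizer ({g} : Set G)).index) ∧ r ≠ p ∧ s ≠ q ∧ r ≠ s ∧ r ≠ q ∧ s ≠ p ∧
        (∃ g : G, p * r ∣ (Subgroup.centralizer ({g} : Set G)).index) ∧ (∃ g : G, r * s ∣ (Subgroup.centralizer ({g} : Set G)).index) ∧ (∃ g : G, s * q ∣ (Subgroup.centralizer ({g} : Set G)).index)) := by
  obtain ⟨c, hc⟩ := Finite.exists_max (fun g : G => cl g)
  set R : ℕ → ℕ → Prop := fun a b => a.Prime ∧ b.Prime ∧ ∃ g : G, a * b ∣ cl g with hR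
  have hsym : ∀ a b, R a b → R b a := fun a b ⟨ha, hb, g, hg⟩ => ⟨hb, ha, g, mul_comm a b ▸ hg⟩
  have hadj : ∀ a b : ℕ, a.Prime → b.Prime → ∀ g : G, a ∣ cl g → b ∣ cl g → a = b ∨ R a b := by
    intro a b ha hb g h1 h2
    by_cases h : a = b
    · exact Or.inl h
    · exact Or.inr ⟨ha, hb, g, ((Nat.coprime_primes ha hb).mpr h).mul_dvd_of_dvd_of_dvd h1 h2⟩
  suffices h : R p q ∨ (∃ r, r ≠ p ∧ r ≠ q ∧ R p r ∧ R r q) ∨
      ∃ r s, r ≠ p ∧ s ≠ q ∧ r ≠ s ∧ r ≠ q ∧ s ≠ p ∧ R p r ∧ R r s ∧ R s q by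
    rcases h with ⟨-, -, g, hg⟩ | ⟨r, h1, h2, ⟨-, hr, g, hg⟩, ⟨-, -, g', hg'⟩⟩ |
      ⟨r, s, h1, h2, h3, h4, h5, ⟨-, hr, g, hg⟩, ⟨-, hs, g', hg'⟩, ⟨-, -, g'', hg''⟩⟩
    · exact Or.inl ⟨g, hg⟩
    · exact Or.inr (Or.inl ⟨r, ⟨hr, g, (dvd_mul_left r p).trans hg⟩, h1, h2, ⟨g, hg⟩, ⟨g', hg'⟩⟩)
    · exact Or.inr (Or.inr ⟨r, s, ⟨hr, g, (dvd_mul_left r p).trans hg⟩, ⟨hs, g', (dvd_mul_left s r).trans hg'⟩,
        h1, h2, h3, h4, h5, ⟨g, hg⟩, ⟨g', hg'⟩, ⟨g'', hg''⟩⟩)
  -- the walk from a bad prime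
  have hwalk : ∀ p q : ℕ, p.Prime → q.Prime → (∃ g : G, p ∣ cl g) → (∃ g : G, q ∣ cl g) →
      (∀ g : G, p ∣ cl g → (cl g).Coprime (cl c)) →
      ∃ a b : ℕ, a.Prime ∧ b.Prime ∧ (p = a ∨ R p a) ∧ (a = b ∨ R a b) ∧ (b = q ∨ R b q) := by
    intro p q hp hq hpv hqv hbad
    obtain ⟨k, r, hpk, hr, ⟨v, hv⟩, hall⟩ := bad_structure c hc p hp hpv hbad
    subst hv
    by_cases hqk : q ∣ cl v
    · exact ⟨p, p, hp, hp, Or.inl rfl, Or.inl rfl, hadj p q hp hq v hpk hqk⟩
    obtain ⟨a, b, ⟨ha, -⟩, ⟨hb, -⟩, hak, hbk, g, hg⟩ := hconn {x | x ∣ cl v}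
      ⟨p, hpk, hp, v, hpk⟩ ⟨q, hqk, hq, hqv⟩
    have hrg : r ∣ cl g := (hall g).resolve_left fun h => hbk (((dvd_mul_left b a).trans hg).trans h)
    obtain ⟨g', hg'⟩ := hqv
    have hrg' : r ∣ cl g' := (hall g').resolve_left fun h => hqk (hg'.trans h)
    exact ⟨a, r, ha, hr, hadj p a hp ha v hpk hak,
      hadj a r ha hr g ((dvd_mul_right a b).trans hg) hrg, hadj r q hr hq g' hrg' hg'⟩
  obtain ⟨hpp, hpv⟩ := hp
  obtain ⟨hqp, hqv⟩ := hq
  by_cases hbp : ∀ g : G, p ∣ cl g → (cl g).Coprime (cl c)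
  · obtain ⟨a, b, -, -, h1, h2, h3⟩ := hwalk p q hpp hqp hpv hqv hbp
    exact path_of_walk R hsym hpq h1 h2 h3
  by_cases hbq : ∀ g : G, q ∣ cl g → (cl g).Coprime (cl c)
  · obtain ⟨a, b, -, -, h1, h2, h3⟩ := hwalk q p hqp hpp hqv hpv hbq
    exact path_of_walk R hsym hpq (h3.imp Eq.symm (hsym _ _)) (h2.imp Eq.symm (hsym _ _))
      (h1.imp Eq.symm (hsym _ _))
  push Not at hbp hbq
  obtain ⟨g, hg, hgc⟩ := hbp
  obtain ⟨g', hg', hgc'⟩ := hbq
  obtain ⟨t, ht, htg, htc⟩ := Nat.Prime.not_coprime_iff_dvd.mp hgc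
  obtain ⟨t', ht', htg', htc'⟩ := Nat.Prime.not_coprime_iff_dvd.mp hgc'
  exact path_of_walk R hsym hpq (hadj p t hpp ht g hg htg) (hadj t t' ht ht' c htc htc')
    (hadj t' q ht' hqp g' htg' hg')

end Cfsg.Agent.S4257
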