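import Cfsg.Statements.S4261
import Mathlib

set_option autoImplicit false
open Cfsg

namespace Cfsg.Agent.S4261


theorem aux {G : Type*} [Group G] [Finite G] (hG : Group.IsSolvable G) (M : Subgroup G)
    (hM : IsCoatom M) (hcore : M.normalCore = ⊥) (hexp : ∀ x : G, x ^ M.index ∈ M) : M.Normal := by
  classical
  haveI := hG
  have hsub : ∀ N : Subgroup G, N.Normal → N ≤ M → N = ⊥ := fun N hN hle => by
    haveI := hN
    exact le_bot_iff.mp (hcore ▸ Subgroup.normal_le_normalCore.mpr hle)
  rcases subsingleton_or_nontrivial G with hs | hnt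
  · exact absurd (Subsingleton.elim M ⊤) hM.1
  -- an abelian normal subgroup
  obtain ⟨A₀, hA₀n, hA₀ne, hA₀c⟩ : ∃ A : Subgroup G, A.Normal ∧ A ≠ ⊥ ∧ ⁅A, A⁆ = ⊥ := by
    obtain ⟨n, hn⟩ := hG.solvable
    have hex : ∃ m, derivedSeries G m = ⊥ := ⟨n, hn⟩
    have h0 : Nat.find hex ≠ 0 := by
      intro h
      have := Nat.find_spec hex
      rw [h, derivedSeries_zero] at this
      exact top_ne_bot this
    obtain ⟨k, hk⟩ := Nat.exists_eq_succ_of_ne_zero h0
    refine ⟨derivedSeries G k, derivedSeries_normal G k, Nat.find_min hex (by omega), ?_⟩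
    rw [← derivedSeries_succ]
    have := Nat.find_spec hex
    rw [hk] at this
    exact this
  have hA₀comm : ∀ a ∈ A₀, ∀ b ∈ A₀, a * b = b * a := by
    intro a ha b hb
    exact commutatorElement_eq_one_iff_mul_comm.mp ((Subgroup.mem_bot).mp (hA₀c ▸ Subgroup.commutator_mem_commutator ha hb))
  obtain ⟨p, hp, hpd⟩ := Nat.exists_prime_and_dvd
    (n := Nat.card A₀) (fun h => hA₀ne (Subgroup.card_eq_one.mp h))
  haveI := Fact.mk hp
  let A : Subgroup G :=
    { carrier := {a | a ∈ A₀ ∧ a ^ p = 1}
      one_mem' := ⟨A₀.one_mem, one_pow _⟩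
      inv_mem' := fun {a} ha => ⟨A₀.inv_mem ha.1, by rw [inv_pow, ha.2, inv_one]⟩
      mul_mem' := fun {a b} ha hb => ⟨A₀.mul_mem ha.1 hb.1, by
        have : Commute a b := hA₀comm a ha.1 b hb.1
        rw [this.mul_pow, ha.2, hb.2, one_mul]⟩ }
  have hAn : A.Normal := ⟨fun a ha g => ⟨hA₀n.conj_mem a ha.1 g, by
    rw [conj_pow, ha.2, mul_one, mul_inv_cancel]⟩⟩
  have hAne : A ≠ ⊥ := by
    obtain ⟨a, ha⟩ := exists_prime_orderOf_dvd_card' (G := A₀) p hpd
    intro h
    have hmem : (a : G) ∈ A := ⟨a.2, by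
      have := pow_orderOf_eq_one a; rw [ha] at this; exact_mod_cast this⟩
    rw [h, Subgroup.mem_bot] at hmem
    have : a = 1 := Subtype.ext hmem
    rw [this, orderOf_one] at ha
    exact hp.ne_one ha.symm
  have hAnle : ¬ A ≤ M := fun h => hAne (hsub A hAn h)
  have hAM : A ⊔ M = ⊤ := hM.2 _ (right_lt_sup.mpr hAnle)
  have hdisj : A ⊓ M = ⊥ := by
    apply hsub _ ?_ inf_le_right
    rw [← Subgroup.normalizer_eq_top_iff, eq_top_iff, ← hAM, sup_le_iff]
    constructor
    · intro a ha
      rw [Subgroup.mem_normalizer_iff_map_conj_eq]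
      ext x
      constructor
      · rintro ⟨y, hy, rfl⟩
        have hc : a * y = y * a := hA₀comm a ha.1 y hy.1.1
        simpa [hc, mul_assoc] using hy
      · intro hx
        have hc : a * x = x * a := hA₀comm a ha.1 x hx.1.1
        exact ⟨x, hx, by simp [hc, mul_assoc]⟩
    · intro m hm
      refine Subgroup.mem_normalizer_iff.mpr fun x => ?_
      simp only [Subgroup.mem_inf]
      constructor
      · exact fun hx => ⟨hAn.conj_mem x hx.1 m, M.mul_mem (M.mul_mem hm hx.2) (M.inv_mem hm)⟩
      · intro hx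
        have h1 := hAn.conj_mem _ hx.1 m⁻¹
        have h2 := M.mul_mem (M.mul_mem (M.inv_mem hm) hx.2) hm
        simp only [inv_inv, mul_assoc, inv_mul_cancel_left, inv_mul_cancel, mul_one] at h1 h2
        exact ⟨h1, h2⟩
  have hAp : IsPGroup p A := fun a => ⟨1, Subtype.ext (by simpa using a.2.2)⟩
  obtain ⟨k, hk⟩ := IsPGroup.iff_card.mp hAp
  haveI := hAn
  have hidx : M.index = p ^ k := by
    rw [← hk]
    refine Subgroup.IsComplement'.index_eq_card ?_
    exact Subgroup.isComplement'_of_disjoint_and_mul_eq_univ (disjoint_iff.mpr hdisj)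
      (by rw [← Subgroup.normal_mul, hAM]; rfl)
  -- elements of order prime to p
  let S : Set G := {x | ¬ p ∣ orderOf x}
  have hS : ∀ x ∈ S, x ∈ M := by
    intro x hx
    have hcop : (p ^ k).Coprime (orderOf x) := Nat.Coprime.pow_left _ (hp.coprime_iff_not_dvd.mpr hx)
    obtain ⟨m, hm⟩ := exists_pow_eq_self_of_coprime hcop
    rw [← hm]
    exact M.pow_mem (hidx ▸ hexp x) m
  have hSn : (Subgroup.closure S).Normal := by
    refine ⟨fun a ha g => ?_⟩
    have hle : Subgroup.closure S ≤ (Subgroup.closure S).comap (MulAut.conj g).toMonoidHom := by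
      rw [Subgroup.closure_le]
      intro x hx
      refine Subgroup.subset_closure ?_
      show ¬ p ∣ orderOf (MulAut.conj g x)
      rw [MulEquiv.orderOf_eq]
      exact hx
    exact hle ha
  have hSb : Subgroup.closure S = ⊥ := hsub _ hSn ((Subgroup.closure_le M).mpr hS)
  have hPG : IsPGroup p G := by
    rw [IsPGroup.iff_orderOf]
    intro g
    obtain ⟨a, b, hb, hab⟩ := Nat.exists_eq_pow_mul_and_not_dvd (orderOf_pos g).ne' p hp.ne_one
    have h1 : orderOf (g ^ p ^ a) = b := by
      rw [orderOf_pow_of_dvd (pow_ne_zero _ hp.ne_zero) (hab ▸ dvd_mul_right _ _), hab,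
        Nat.mul_div_cancel_left _ (pow_pos hp.pos _)]
    have h2 : g ^ p ^ a ∈ Subgroup.closure S := Subgroup.subset_closure (show ¬ p ∣ orderOf (g ^ p ^ a) by rw [h1]; exact hb)
    rw [hSb, Subgroup.mem_bot] at h2
    rw [h2, orderOf_one] at h1
    exact ⟨a, by rw [hab, ← h1, mul_one]⟩
  haveI := hPG.isNilpotent
  exact Subgroup.NormalizerCondition.normal_of_coatom M Group.normalizerCondition_of_isNilpotent hM


/-- Let M be a maximal subgroup of a finite solvable group G such that x^[G : M] lies in M for every x in G. Then M is normal in G. -/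
theorem result {G : Type*} [Group G] [Finite G] (hG : Group.IsSolvable G) (M : Subgroup G) (hM : IsCoatom M)
    (hexp : ∀ x : G, x ^ M.index ∈ M) : M.Normal := by

  classical
  let K := M.normalCore
  have hKM : K ≤ M := Subgroup.normalCore_le M
  let f := QuotientGroup.mk' K
  have hf : Function.Surjective f := QuotientGroup.mk'_surjective K
  have hker : f.ker ≤ M := by rw [QuotientGroup.ker_mk']; exact hKM
  have hcm : (M.map f).comap f = M := by
    rw [Subgroup.comap_map_eq, sup_eq_left.mpr hker]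
  have hidx : (M.map f).index = M.index := by
    rw [← Subgroup.index_comap_of_surjective (M.map f) hf, hcm]
  haveI := hG
  have hco : IsCoatom (M.map f) := by
    refine ⟨fun h => hM.1 (by rw [← hcm, h, Subgroup.comap_top]), fun B hB => ?_⟩
    have hlt : M < B.comap f := by
      conv_lhs => rw [← hcm]
      exact (Subgroup.comap_lt_comap_of_surjective hf).mpr hB
    have := hM.2 _ hlt
    rw [← Subgroup.map_comap_eq_self_of_surjective hf B, this, Subgroup.map_top_of_surjective f hf]
  have hcore : (M.map f).normalCore = ⊥ := by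
    have h1 : ((M.map f).normalCore).comap f ≤ K :=
      Subgroup.normal_le_normalCore.mpr (le_trans (Subgroup.comap_mono (Subgroup.normalCore_le _)) hcm.le)
    rw [eq_bot_iff, ← Subgroup.map_comap_eq_self_of_surjective hf (M.map f).normalCore]
    refine le_trans (Subgroup.map_mono h1) (le_of_eq ?_)
    rw [Subgroup.map_eq_bot_iff, QuotientGroup.ker_mk']
  have hn := aux (Group.isSolvable_of_surjective hf) (M.map f) hco hcore (fun y => by
    obtain ⟨x, rfl⟩ := hf y
    rw [hidx, ← map_pow]
    exact Subgroup.mem_map_of_mem f (hexp x))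
  rw [← hcm]
  exact hn.comap f

end Cfsg.Agent.S4261
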