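import Cfsg.Statements.S4263
import Cfsg.Agent.Lib.PGroups.Subnormal

set_option autoImplicit false
open Cfsg

namespace Cfsg.Agent.S4263

/-- Let G be a finite group. An element x lies in the Fitting subgroup F(G) if and only if, for every subgroup H of G, the power x^[G : H] lies in H. -/
theorem result {G : Type*} [Group G] [Finite G] (x : G) :
    x ∈ Cfsg.fittingSubgroup G ↔ ∀ H : Subgroup G, x ^ H.index ∈ H := by
  open Cfsg.Agent.Lib.PGroups in
  constructor
  · intro hx H
    have hF : (Cfsg.fittingSubgroup G).Normal := fitting_normal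
    haveI := fitting_isNilpotent (G := G)
    have hsn := isSubnormal_of_isNilpotent (H.subgroupOf (Cfsg.fittingSubgroup G))
    have h := pow_index_mem_of_isSubnormal hsn ⟨x, hx⟩
    rw [Subgroup.mem_subgroupOf] at h
    obtain ⟨c, hc⟩ := relIndex_dvd_index_of_normal_right (Cfsg.fittingSubgroup G) H
    rw [hc, pow_mul]
    exact pow_mem (by simpa [Subgroup.relIndex] using h) c
  · intro hx
    -- show that the cyclic group generated by `x` lies in the join of the `O_p(G)`
    rw [fitting_eq_nilpotentHead]
    let C := Subgroup.zpowers x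
    let S : Subgroup C := (nilpotentHead G).subgroupOf C
    suffices S = ⊤ by
      have : C ≤ nilpotentHead G := by simpa [S, Subgroup.subgroupOf_eq_top] using this
      exact this (Subgroup.mem_zpowers x)
    rw [← Subgroup.index_eq_one]
    by_contra hne
    obtain ⟨p, hp, hdvd⟩ := Nat.exists_prime_and_dvd hne
    haveI : Fact p.Prime := ⟨hp⟩
    obtain ⟨T⟩ : Nonempty (Sylow p C) := inferInstance
    have hTle : ∀ P : Sylow p G, (T : Subgroup C).map C.subtype ≤ (P : Subgroup G) := by
      intro P y hy
      obtain ⟨z, hz, rfl⟩ := hy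
      obtain ⟨n, hn⟩ := Subgroup.mem_zpowers_iff.mp z.2
      obtain ⟨k, hk⟩ := T.isPGroup' ⟨z, hz⟩
      have hz1 : (z : G) ^ p ^ k = 1 := by
        have := congrArg (fun t : (T : Subgroup C) => ((t : C) : G)) hk
        simpa using this
      have hmem : (z : G) ^ (P : Subgroup G).index ∈ (P : Subgroup G) := by
        have e : (z : G) ^ (P : Subgroup G).index = (x ^ (P : Subgroup G).index) ^ n := by
          rw [← hn, ← zpow_natCast, ← zpow_natCast, ← zpow_mul, ← zpow_mul, mul_comm]
        rw [e]
        exact zpow_mem (hx (P : Subgroup G)) n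
      have hcop : Nat.Coprime (p ^ k) (P : Subgroup G).index :=
        Nat.Coprime.pow_left _ ((Nat.Prime.coprime_iff_not_dvd hp).mpr P.not_dvd_index)
      have hgcd := Nat.gcd_eq_gcd_ab (p ^ k) (P : Subgroup G).index
      rw [hcop] at hgcd
      have : (z : G) = ((z : G) ^ (P : Subgroup G).index) ^ Nat.gcdB (p ^ k) (P : Subgroup G).index := by
        conv_lhs => rw [← zpow_one (z : G)]
        rw [show ((1 : ℤ)) = _ from hgcd, zpow_add, zpow_mul, zpow_mul, zpow_natCast, zpow_natCast,
          hz1, one_zpow, one_mul]
      rw [Subgroup.coe_subtype, this]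
      exact zpow_mem hmem _
    obtain ⟨P⟩ : Nonempty (Sylow p G) := inferInstance
    have hcore : (T : Subgroup C).map C.subtype ≤ Cfsg.pCore p G := by
      refine le_trans ?_ (le_pCore_of_normal (Subgroup.normalCore_normal (P : Subgroup G))
        (P.isPGroup'.to_le (Subgroup.normalCore_le _)))
      intro y hy g
      have := hTle (g⁻¹ • P) hy
      rw [Sylow.coe_subgroup_smul, Subgroup.mem_pointwise_smul_iff_inv_smul_mem] at this
      simpa [MulAut.smul_def, mul_assoc] using this
    have hmem : p ∈ (Nat.card G).primeFactors := Nat.mem_primeFactors.mpr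
      ⟨hp, hdvd.trans ((Subgroup.index_dvd_card S).trans (Subgroup.card_subgroup_dvd_card C)),
        Nat.card_pos.ne'⟩
    have hle : (T : Subgroup C).map C.subtype ≤ nilpotentHead G :=
      le_trans hcore (le_iSup (fun q : (Nat.card G).primeFactors => Cfsg.pCore (q : ℕ) G) ⟨p, hmem⟩)
    have : (T : Subgroup C) ≤ S := Subgroup.map_le_iff_le_comap.mp hle
    exact T.not_dvd_index (hdvd.trans (Subgroup.index_dvd_of_le this))

end Cfsg.Agent.S4263
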