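import Cfsg.Statements.S4269
import Mathlib

set_option autoImplicit false
open Cfsg

namespace Cfsg.Agent.S4269


open scoped commutatorElement

theorem map_conj_mul {G : Type*} [Group G] (H : Subgroup G) (a b : G) :
    H.map (MulAut.conj (a * b)).toMonoidHom =
      (H.map (MulAut.conj b).toMonoidHom).map (MulAut.conj a).toMonoidHom := by
  rw [Subgroup.map_map, map_mul]; rfl

theorem map_conj_iff {G : Type*} [Group G] {H : Subgroup G} {g : G} :
    H.map (MulAut.conj g).toMonoidHom = H ↔ g ∈ Subgroup.normalizer (H : Set G) := by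
  rw [Subgroup.mem_normalizer_iff_map_conj_eq]; rfl


/-- Let G be a finite group, V an abelian normal subgroup and H a subgroup with HV = G. Then H is pronormal in G (H and gHg⁻¹ are conjugate inside the subgroup they generate, for every g) if and only if every H-invariant subgroup U of V satisfies U = N_U(H)·[H, U], that is, U is the join of U ∩ N_G(H) and the commutator subgroup [H, U]. -/
theorem result {G : Type*} [Group G] [Finite G]
    (V : Subgroup G) [V.Normal] (hV : IsMulCommutative ↥V) (H : Subgroup G) (hHV : H ⊔ V = ⊤) :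
    Cfsg.IsPronormal H ↔
      ∀ U : Subgroup G, U ≤ V → (∀ h ∈ H, U.map (MulAut.conj h).toMonoidHom = U) →
        U = (U ⊓ Subgroup.normalizer (H : Set G)) ⊔ ⁅H, U⁆ := by

  classical
  have hab : ∀ a ∈ V, ∀ b ∈ V, a * b = b * a := fun a ha b hb =>
    congrArg Subtype.val (hV.is_comm.comm (⟨a, ha⟩ : V) ⟨b, hb⟩)
  have hgen : ∀ g : G, ∃ v ∈ V, ∃ h ∈ H, g = v * h := by
    intro g
    have : g ∈ V ⊔ H := by rw [sup_comm, hHV]; trivial
    obtain ⟨v, hv, h, hh, e⟩ := Subgroup.mem_sup_of_normal_left.mp this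
    exact ⟨v, hv, h, hh, e.symm⟩
  have hHfix : ∀ (h : G), h ∈ H → H.map (MulAut.conj h).toMonoidHom = H := fun h hh =>
    map_conj_iff.mpr (Subgroup.le_normalizer hh)
  constructor
  · intro hpro U hUV hinv
    have hUn : U.Normal := by
      refine ⟨fun u hu g => ?_⟩
      obtain ⟨v, hv, h, hh, rfl⟩ := hgen g
      have h1 : h * u * h⁻¹ ∈ U := by
        have := Subgroup.mem_map_of_mem (MulAut.conj h).toMonoidHom hu
        rw [hinv h hh] at this
        exact this
      have h2 : v * (h * u * h⁻¹) = (h * u * h⁻¹) * v := hab v hv _ (hUV h1)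
      have e : v * h * u * (v * h)⁻¹ = v * (h * u * h⁻¹) * v⁻¹ := by group
      rw [e, h2, mul_inv_cancel_right]
      exact h1
    haveI := hUn
    have hcU : ⁅H, U⁆ ≤ U := Subgroup.commutator_le_right H U
    refine le_antisymm (fun u hu => ?_) (sup_le inf_le_left hcU)
    obtain ⟨x, hx, hxe⟩ := hpro u
    have hle : H ⊔ H.map (MulAut.conj u).toMonoidHom ≤ H ⊔ ⁅H, U⁆ := by
      refine sup_le le_sup_left ?_
      rintro _ ⟨h, hh, rfl⟩
      have e : u * h * u⁻¹ = h * ⁅h⁻¹, u⁆ := by simp [commutatorElement_def, mul_assoc]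
      show u * h * u⁻¹ ∈ H ⊔ ⁅H, U⁆
      rw [e]
      exact Subgroup.mul_mem_sup hh (Subgroup.commutator_mem_commutator (H.inv_mem hh) hu)
    have hnc : H ≤ Subgroup.normalizer ((⁅H, U⁆ : Subgroup G) : Set G) := by
      intro h hh
      rw [← map_conj_iff, Subgroup.map_commutator, hHfix h hh, hinv h hh]
    have hx' : x ∈ ⁅H, U⁆ ⊔ H := by rw [sup_comm]; exact hle hx
    rw [← SetLike.mem_coe, Subgroup.coe_mul_of_right_le_normalizer_left ⁅H, U⁆ H hnc] at hx'
    obtain ⟨c, hc, h, hh, rfl⟩ := Set.mem_mul.mp hx'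
    rw [map_conj_mul, hHfix h hh] at hxe
    have hn : c⁻¹ * u ∈ Subgroup.normalizer (H : Set G) := by
      rw [← map_conj_iff, map_conj_mul, hxe, ← map_conj_mul, inv_mul_cancel, map_one]
      exact Subgroup.map_id H
    have e : u = c * (c⁻¹ * u) := by group
    rw [e, sup_comm]
    exact Subgroup.mul_mem_sup hc ⟨U.mul_mem (U.inv_mem (hcU hc)) hu, hn⟩
  · intro hU g
    obtain ⟨v, hv, h, hh, rfl⟩ := hgen g
    rw [map_conj_mul, hHfix h hh]
    set J := H ⊔ H.map (MulAut.conj v).toMonoidHom with hJ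
    have hHJ : H ≤ J := le_sup_left
    let S : Subgroup G :=
      { carrier := {u | u ∈ V ∧ ∀ k ∈ H, ⁅k, u⁆ ∈ J}
        one_mem' := ⟨V.one_mem, fun k _ => by simp⟩
        mul_mem' := by
          rintro a b ⟨ha, ha'⟩ ⟨hb, hb'⟩
          refine ⟨V.mul_mem ha hb, fun k hk => ?_⟩
          have hcb : ⁅k, b⁆ ∈ V := Subgroup.commutator_le_right ⊤ V (Subgroup.commutator_mem_commutator (Subgroup.mem_top k) hb)
          have e : ⁅k, a * b⁆ = ⁅k, a⁆ * (a * ⁅k, b⁆ * a⁻¹) := by simp [commutatorElement_def, mul_assoc]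
          rw [e, hab a ha _ hcb, mul_inv_cancel_right]
          exact J.mul_mem (ha' k hk) (hb' k hk)
        inv_mem' := by
          rintro a ⟨ha, ha'⟩
          refine ⟨V.inv_mem ha, fun k hk => ?_⟩
          have hca : ⁅k, a⁆ ∈ V := Subgroup.commutator_le_right ⊤ V (Subgroup.commutator_mem_commutator (Subgroup.mem_top k) ha)
          have e : ⁅k, a⁻¹⁆ = a⁻¹ * ⁅k, a⁆⁻¹ * a := by simp [commutatorElement_def, mul_assoc]
          rw [e, hab _ (V.inv_mem ha) _ (V.inv_mem hca), mul_assoc, inv_mul_cancel, mul_one]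
          exact J.inv_mem (ha' k hk) }
    let U := Subgroup.closure {u | ∃ k ∈ H, u = k * v * k⁻¹}
    have hvU : v ∈ U := Subgroup.subset_closure ⟨1, H.one_mem, by simp⟩
    have hvS : v ∈ S := by
      refine ⟨hv, fun k hk => ?_⟩
      have e : ⁅k, v⁆ = k * (v * k⁻¹ * v⁻¹) := by simp [commutatorElement_def, mul_assoc]
      rw [e]
      refine J.mul_mem (hHJ hk) ?_
      exact (le_sup_right : H.map (MulAut.conj v).toMonoidHom ≤ J) ⟨k⁻¹, H.inv_mem hk, rfl⟩
    have hUS : U ≤ S := by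
      rw [Subgroup.closure_le]
      rintro _ ⟨m, hm, rfl⟩
      refine ⟨(inferInstance : V.Normal).conj_mem v hv m, fun k hk => ?_⟩
      have e : ⁅k, m * v * m⁻¹⁆ = m * ⁅m⁻¹ * k * m, v⁆ * m⁻¹ := by simp [commutatorElement_def, mul_assoc]
      rw [e]
      exact J.mul_mem (J.mul_mem (hHJ hm) (hvS.2 _ (H.mul_mem (H.mul_mem (H.inv_mem hm) hk) hm))) (J.inv_mem (hHJ hm))
    have hUV : U ≤ V := fun u hu => (hUS hu).1
    have hinv : ∀ k ∈ H, U.map (MulAut.conj k).toMonoidHom = U := by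
      have hle : ∀ k ∈ H, U.map (MulAut.conj k).toMonoidHom ≤ U := by
        intro k hk
        rw [MonoidHom.map_closure, Subgroup.closure_le]
        rintro _ ⟨_, ⟨m, hm, rfl⟩, rfl⟩
        exact Subgroup.subset_closure ⟨k * m, H.mul_mem hk hm, by simp [mul_assoc]⟩
      intro k hk
      refine le_antisymm (hle k hk) ?_
      have h2 := Subgroup.map_mono (f := (MulAut.conj k).toMonoidHom) (hle k⁻¹ (H.inv_mem hk))
      rw [← map_conj_mul, mul_inv_cancel, map_one] at h2
      exact le_trans (le_of_eq (Subgroup.map_id U).symm) h2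
    have hmem : v ∈ (U ⊓ Subgroup.normalizer (H : Set G)) ⊔ ⁅H, U⁆ := hU U hUV hinv ▸ hvU
    have hcV : ⁅H, U⁆ ≤ V := le_trans (Subgroup.commutator_mono le_rfl hUV) (Subgroup.commutator_le_right H V)
    have hsup : (U ⊓ Subgroup.normalizer (H : Set G)) ⊔ ⁅H, U⁆ ≤ V := sup_le (inf_le_left.trans hUV) hcV
    have hcN : ⁅H, U⁆ ≤ Subgroup.normalizer ((U ⊓ Subgroup.normalizer (H : Set G) : Subgroup G) : Set G) := by
      intro c hc
      rw [Subgroup.mem_normalizer_iff_map_conj_eq]
      ext u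
      constructor
      · rintro ⟨w, hw, rfl⟩
        have := hab c (hcV hc) w (hUV hw.1)
        simpa [this, mul_assoc] using hw
      · intro hu
        exact ⟨u, hu, by simp [hab c (hcV hc) u (hUV hu.1), mul_assoc]⟩
    rw [← SetLike.mem_coe, Subgroup.coe_mul_of_right_le_normalizer_left _ _ hcN] at hmem
    obtain ⟨n, hn, c, hc, hnc⟩ := Set.mem_mul.mp hmem
    refine ⟨c, (Subgroup.commutator_le.mpr fun k hk u hu => (hUS hu).2 k hk) hc, ?_⟩
    rw [← hnc, hab n (hUV hn.1) c (hcV hc), map_conj_mul, map_conj_iff.mpr hn.2]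

end Cfsg.Agent.S4269
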