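import Cfsg.Statements.S4274
import Cfsg.Agent.Lib.KnownA.OrderJanko

set_option autoImplicit false
open Cfsg

namespace Cfsg.Agent.S4274
open Cfsg.Agent.Lib.SylowCounting

universe u

/-- If an element of order 19 normalizes a Sylow `r`-subgroup for every `r`, and these are small, the Sylow
19-subgroup is normal. -/
theorem normal_of_normalizing {G : Type u} [Group G] [Finite G] [Fact (Nat.Prime 19)] (P : Sylow 19 G)
    (hP : Nat.card (P : Subgroup G) = 19)
    (hnorm : ∀ r : ℕ, r.Prime → r ≠ 19 → r ∣ Nat.card G → ∀ R : Sylow r G,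
      Nat.card (R : Subgroup G) < 19 ∧ 19 ∣ Nat.card (Subgroup.normalizer ((R : Subgroup G) : Set G))) :
    (P : Subgroup G).Normal := by
  suffices hall : Subgroup.centralizer ((P : Subgroup G) : Set G) = ⊤ by
    exact ⟨fun x hx g => by
      have hg : g ∈ Subgroup.centralizer ((P : Subgroup G) : Set G) := by rw [hall]; trivial
      rwa [← Subgroup.mem_centralizer_iff.1 hg x hx, mul_inv_cancel_right]⟩
  refine Subgroup.eq_top_of_card_eq _ (le_antisymm
    (Nat.le_of_dvd Nat.card_pos (Subgroup.card_subgroup_dvd_card _)) ?_)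
  refine Nat.le_of_dvd Nat.card_pos ?_
  rw [← Nat.factorization_le_iff_dvd Nat.card_pos.ne' Nat.card_pos.ne']
  intro r
  by_cases hr : r.Prime
  swap
  · simp [Nat.factorization_eq_zero_of_not_prime _ hr]
  haveI := Fact.mk hr
  rw [← hr.pow_dvd_iff_le_factorization Nat.card_pos.ne']
  by_cases hrd : r ∣ Nat.card G
  swap
  · simp [Nat.factorization_eq_zero_of_not_dvd hrd]
  by_cases h19 : r = 19
  · subst h19
    rw [← P.card_eq_multiplicity]
    haveI : IsCyclic (P : Subgroup G) := isCyclic_of_prime_card hP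
    exact Subgroup.card_dvd_of_le fun x hx => Subgroup.mem_centralizer_iff.2 fun y hy =>
      congrArg Subtype.val (mul_comm' (⟨y, hy⟩ : (P : Subgroup G)) ⟨x, hx⟩)
  obtain ⟨R⟩ : Nonempty (Sylow r G) := inferInstance
  obtain ⟨hlt, hdvd⟩ := hnorm r hr h19 hrd R
  rw [← R.card_eq_multiplicity]
  obtain ⟨z, hz⟩ := exists_prime_orderOf_dvd_card' (G := Subgroup.normalizer ((R : Subgroup G) : Set G)) 19 hdvd
  have hzo : orderOf (z : G) = 19 := by rw [Subgroup.orderOf_coe, hz]
  rw [← card_centralizer_prime P hP hzo]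
  refine Subgroup.card_dvd_of_le fun x hx => ?_
  rw [Subgroup.mem_centralizer_singleton_iff]
  haveI : Fintype (R : Subgroup G) := Fintype.ofFinite _
  classical
  let σ : Equiv.Perm (R : Subgroup G) := ⟨fun y => ⟨(z : G) * y * (z : G)⁻¹, (Subgroup.mem_normalizer_iff.1 z.2 _).1 y.2⟩,
    fun y => ⟨(z : G)⁻¹ * y * (z : G), by
      have := (Subgroup.mem_normalizer_iff.1 (inv_mem z.2) _).1 y.2
      simpa using this⟩, fun y => Subtype.ext (by simp [mul_assoc]), fun y => Subtype.ext (by simp [mul_assoc])⟩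
  have hσ : ∀ (n : ℕ) (y : (R : Subgroup G)), ((σ ^ n) y : G) = (z : G) ^ n * y * ((z : G) ^ n)⁻¹ := by
    intro n
    induction n with
    | zero => simp
    | succ n ih => intro y; rw [pow_succ', Equiv.Perm.mul_apply]; show (z : G) * ((σ ^ n) y : G) * (z : G)⁻¹ = _; rw [ih, pow_succ']; simp [mul_assoc]
  have h1 : σ ^ 19 = 1 := Equiv.ext fun y => Subtype.ext (by rw [hσ, ← hzo, pow_orderOf_eq_one]; simp)
  have h2 : σ = 1 := by
    refine orderOf_eq_one_iff.1 ?_
    have hdo : orderOf σ ∣ (Fintype.card (R : Subgroup G)).factorial := by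
      rw [← Fintype.card_perm]; exact orderOf_dvd_card
    refine Nat.eq_one_of_dvd_coprimes ?_ (orderOf_dvd_of_pow_eq_one h1) hdo
    rw [Nat.Prime.coprime_iff_not_dvd (by norm_num), Nat.Prime.dvd_factorial (by norm_num)]
    rw [← Nat.card_eq_fintype_card]
    omega
  have h3 : (z : G) * x * (z : G)⁻¹ = x := congrArg Subtype.val (Equiv.ext_iff.1 h2 ⟨x, hx⟩)
  exact (mul_inv_eq_iff_eq_mul.1 h3).symm

/-- The induction. -/
theorem main : ∀ n : ℕ, n ∣ 175560 → 19 ∣ n → ∀ (G : Type u) [Group G] [Finite G], Nat.card G = n →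
    (IsSimpleGroup G ∧ n = 175560) ∨ ∀ P : Sylow 19 G, (P : Subgroup G).Normal := by
  haveI := Fact.mk (show Nat.Prime 19 by norm_num)
  intro n
  induction n using Nat.strong_induction_on with
  | _ n ih =>
  intro hn h19 G _ _ hG
  obtain ⟨d, rfl⟩ := h19
  have hd : d ∣ 9240 := (Nat.mul_dvd_mul_iff_left (by norm_num : 0 < 19)).1 (by simpa using hn)
  have hd19 : ¬ 19 ∣ d := fun h => by have := h.trans hd; norm_num at this
  have hPc : ∀ P : Sylow 19 G, Nat.card (P : Subgroup G) = 19 := fun P => by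
    rw [sylow_card (k := 1) (m := d) (by rw [hG, pow_one]) hd19 P, pow_one]
  -- one normal subgroup of order 19 is enough
  have enough : ∀ L : Subgroup G, L.Normal → Nat.card L = 19 → ∀ P : Sylow 19 G, (P : Subgroup G).Normal := by
    intro L hL hLc P
    have hLp : IsPGroup 19 L := IsPGroup.of_card (n := 1) (by rw [hLc, pow_one])
    have hle : L ≤ (P : Subgroup G) := by
      obtain ⟨Q, hQ⟩ := hLp.exists_le_sylow
      obtain ⟨g, hg⟩ := MulAction.exists_smul_eq G Q P
      intro x hx
      rw [← hg, Sylow.coe_subgroup_smul]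
      exact ⟨g⁻¹ * x * g, hQ (by simpa using hL.conj_mem x hx g⁻¹), by simp [MulAut.conj_apply, mul_assoc]⟩
    rwa [← Subgroup.eq_of_le_of_card_ge hle (by rw [hPc, hLc])]
  -- a proper normal subgroup of order divisible by 19
  have below : ∀ N : Subgroup G, N.Normal → N ≠ ⊤ → 19 ∣ Nat.card N → ∀ P : Sylow 19 G, (P : Subgroup G).Normal := by
    intro N hN hNt h19N
    have hlt : Nat.card N < 19 * d := by
      rw [← hG]
      exact lt_of_le_of_ne (Nat.le_of_dvd Nat.card_pos (Subgroup.card_subgroup_dvd_card N))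
        fun e => hNt (Subgroup.eq_top_of_card_eq N e)
    have hNd : Nat.card N ∣ 175560 := (Subgroup.card_subgroup_dvd_card N).trans (hG ▸ hn)
    rcases ih _ hlt hNd h19N N rfl with ⟨-, he⟩ | hT
    · have := Nat.le_of_dvd (by norm_num) hn
      omega
    obtain ⟨T⟩ : Nonempty (Sylow 19 N) := inferInstance
    haveI := hT T
    haveI : Subsingleton (Sylow 19 N) := ⟨fun A B => Sylow.ext (by
      obtain ⟨g, hg⟩ := MulAction.exists_smul_eq N T A
      obtain ⟨g', hg'⟩ := MulAction.exists_smul_eq N T B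
      rw [← hg, ← hg', Sylow.smul_eq_of_normal, Sylow.smul_eq_of_normal])⟩
    haveI : (T : Subgroup N).Characteristic := Sylow.characteristic_of_subsingleton T
    refine enough ((T : Subgroup N).map N.subtype) (ConjAct.normal_of_characteristic_of_normal (K := (T : Subgroup N))) ?_
    rw [Subgroup.card_map_of_injective N.subtype_injective]
    have hN19 : ¬ 19 ∣ Nat.card N / 19 := fun h => by
      have h1 : 19 * 19 ∣ Nat.card N := by
        have := Nat.mul_dvd_mul_left 19 h
        rwa [Nat.mul_div_cancel' h19N] at this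
      have := h1.trans hNd
      norm_num at this
    rw [sylow_card (k := 1) (m := Nat.card N / 19) (by rw [pow_one, Nat.mul_div_cancel' h19N]) hN19 T, pow_one]
  by_cases hs : IsSimpleGroup G
  · by_cases hdm : d = 9240
    · exact Or.inl ⟨hs, by rw [hdm]⟩
    right
    by_cases hcomm : IsMulCommutative G
    · exact fun P => ⟨fun x hx g => by rwa [mul_comm' g x, mul_inv_cancel_right]⟩
    · exact (Cfsg.Agent.Lib.KnownA.OrderJanko.not_simple hcomm hd hdm hG).elim
  right
  haveI : Nontrivial G := Finite.one_lt_card_iff_nontrivial.1 (by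
    rw [hG]; rcases Nat.eq_zero_or_pos d with h0 | h0
    · subst h0; simp at hd
    · omega)
  obtain ⟨N, hN, hNb, hNt⟩ : ∃ N : Subgroup G, N.Normal ∧ N ≠ ⊥ ∧ N ≠ ⊤ := by
    by_contra hcon
    apply hs
    refine { eq_bot_or_eq_top_of_normal := fun N hN => ?_ }
    by_contra hN'
    rw [not_or] at hN'
    exact hcon ⟨N, hN, hN'.1, hN'.2⟩
  by_cases h19N : 19 ∣ Nat.card N
  · exact below N hN hNt h19N
  -- the quotient
  have hq19 : 19 ∣ Nat.card (G ⧸ N) := by
    have h := N.card_eq_card_quotient_mul_card_subgroup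
    rw [hG] at h
    exact ((Nat.Prime.dvd_mul (by norm_num)).1 (h ▸ dvd_mul_right 19 d)).resolve_right h19N
  have hqlt : Nat.card (G ⧸ N) < 19 * d := by
    rw [← hG, N.card_eq_card_quotient_mul_card_subgroup]
    exact lt_mul_of_one_lt_right Nat.card_pos (Finite.one_lt_card_iff_nontrivial.2 ((Subgroup.nontrivial_iff_ne_bot N).2 hNb))
  intro P
  rcases ih _ hqlt ((Subgroup.card_quotient_dvd_card N).trans (hG ▸ hn)) hq19 (G ⧸ N) rfl with ⟨-, he⟩ | hT
  · have := Nat.le_of_dvd (by norm_num) hn
    omega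
  let Pq : Sylow 19 (G ⧸ N) := P.mapSurjective (QuotientGroup.mk'_surjective N)
  haveI := hT Pq
  by_cases hL : ((Pq : Subgroup (G ⧸ N)).comap (QuotientGroup.mk' N)) = ⊤
  · refine normal_of_normalizing P (hPc P) fun r hr hr19 hrd R => ?_
    haveI := Fact.mk hr
    refine ⟨?_, ?_⟩
    · have hrd' : r ^ (Nat.card G).factorization r ∣ 175560 := ((Nat.ordProj_dvd _ r)).trans (hG ▸ hn)
      rw [R.card_eq_multiplicity]
      have hr' : r ∈ [2, 3, 5, 7, 11] := by
        have h1 : r ∣ 175560 := hrd.trans (hG ▸ hn)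
        rw [show (175560 : ℕ) = 2 ^ 3 * 3 * 5 * 7 * 11 * 19 by norm_num] at h1
        simp only [hr.dvd_mul] at h1
        have key : ∀ q : ℕ, q.Prime → r ∣ q → r = q := fun q hq h => (Nat.prime_dvd_prime_iff_eq hr hq).1 h
        simp only [List.mem_cons, List.not_mem_nil, or_false]
        rcases h1 with ((((h1 | h1) | h1) | h1) | h1) | h1
        · exact Or.inl (key 2 Nat.prime_two (hr.dvd_of_dvd_pow h1))
        · exact Or.inr (Or.inl (key _ (by norm_num) h1))
        · exact Or.inr (Or.inr (Or.inl (key _ (by norm_num) h1)))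
        · exact Or.inr (Or.inr (Or.inr (Or.inl (key _ (by norm_num) h1))))
        · exact Or.inr (Or.inr (Or.inr (Or.inr (key _ (by norm_num) h1))))
        · exact absurd (key _ (by norm_num) h1) hr19
      have small : ∀ q ∈ [2, 3, 5, 7, 11], ∀ k : Fin 5, q ^ (k : ℕ) ∣ 175560 → q ^ (k : ℕ) < 19 := by decide +kernel
      have hbound : (Nat.card G).factorization r < 5 := by
        by_contra hcon
        have h5 : r ^ 5 ∣ 175560 := (pow_dvd_pow r (by omega)).trans hrd'
        have : ∀ q ∈ [2, 3, 5, 7, 11], ¬ q ^ 5 ∣ 175560 := by decide +kernel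
        exact this r hr' h5
      exact small r hr' ⟨_, hbound⟩ hrd'
    · -- the Sylow subgroup lies in `N`, so Frattini applies
      have hq : Nat.card (G ⧸ N) = Nat.card (Pq : Subgroup (G ⧸ N)) := by
        rw [show (Pq : Subgroup (G ⧸ N)) = ⊤ from Subgroup.comap_injective (QuotientGroup.mk'_surjective N) (hL.trans (Subgroup.comap_top _).symm),
          Subgroup.card_top]
      obtain ⟨a, ha⟩ := Pq.isPGroup'.exists_card_eq
      have hRN : (R : Subgroup G) ≤ N := by
        intro x hx
        rw [← QuotientGroup.eq_one_iff, ← orderOf_eq_one_iff]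
        obtain ⟨b, hb⟩ := (IsPGroup.iff_orderOf.1 R.isPGroup') ⟨x, hx⟩
        rw [← Subgroup.orderOf_coe] at hb
        refine Nat.eq_one_of_dvd_coprimes ?_ (hb ▸ orderOf_map_dvd (QuotientGroup.mk' N) x)
          ((orderOf_dvd_natCard _).trans (dvd_of_eq (hq.trans ha)))
        exact Nat.Coprime.pow _ _ ((Nat.coprime_primes hr (by norm_num)).2 hr19)
      have hsup := Sylow.normalizer_sup_eq_top (R.subtype hRN) (N := N)
      rw [Sylow.coe_subtype, Subgroup.map_subgroupOf_eq_of_le hRN] at hsup
      set M := Subgroup.normalizer ((R : Subgroup G) : Set G)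
      have hdv : Nat.card G ∣ Nat.card M * Nat.card N := by
        have h1 : N.relIndex M = N.index := by
          rw [← Subgroup.relIndex_sup_right, hsup, Subgroup.relIndex_top_right]
        rw [N.card_eq_card_quotient_mul_card_subgroup]
        refine mul_dvd_mul_right ?_ _
        rw [← Subgroup.index_eq_card, ← h1]
        exact Subgroup.relIndex_dvd_card N M
      exact ((Nat.Prime.dvd_mul (by norm_num)).1 ((hG ▸ dvd_mul_right 19 d : 19 ∣ Nat.card G).trans hdv)).resolve_right h19N
  · refine below _ (Subgroup.normal_comap _) hL ?_ P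
    have hle : (P : Subgroup G) ≤ (Pq : Subgroup (G ⧸ N)).comap (QuotientGroup.mk' N) := by
      intro x hx
      show QuotientGroup.mk' N x ∈ (Pq : Subgroup (G ⧸ N))
      exact ⟨x, hx, rfl⟩
    have := Subgroup.card_dvd_of_le hle
    rwa [hPc P] at this

/-- A finite group of order 175560 = 2³·3·5·7·11·19 is either simple or has a normal Sylow 19-subgroup. -/
theorem result {G : Type*} [Group G] [Finite G] (hG : Nat.card G = 175560) : IsSimpleGroup G ∨ ∀ P : Sylow 19 G, (P : Subgroup G).Normal := by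
  rcases main 175560 dvd_rfl (by norm_num) G hG with h | h
  · exact Or.inl h.1
  · exact Or.inr h

end Cfsg.Agent.S4274
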