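import Cfsg.Statements.S4275
import Mathlib

set_option autoImplicit false
open Cfsg

namespace Cfsg.Agent.S4275

/-- Let G be a transitive group of permutations of a finite set Ω, let o ∈ Ω, and let α be an automorphism of G. Then α is induced by conjugation by a permutation of Ω normalizing G if and only if the image under α of the stabilizer of o fixes some point of Ω. -/
theorem result {Ω : Type*} [Fintype Ω] (G : Subgroup (Equiv.Perm Ω)) (htr : MulAction.IsPretransitive G Ω) (o : Ω) (α : G ≃* G) : (∃ σ : Equiv.Perm Ω, σ ∈ Subgroup.normalizer (G : Set (Equiv.Perm Ω)) ∧ ∀ g : G, ((α g : G) : Equiv.Perm Ω) = σ * (g : Equiv.Perm Ω) * σ⁻¹) ↔ ∃ ω : Ω, ∀ g ∈ (MulAction.stabilizer G o).map α.toMonoidHom, g • ω = ω := by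

  haveI := htr
  constructor
  · rintro ⟨σ, -, hσ⟩
    refine ⟨σ o, ?_⟩
    rintro _ ⟨g, hg, rfl⟩
    show ((α g : G) : Equiv.Perm Ω) (σ o) = σ o
    rw [hσ g]
    simp only [Equiv.Perm.mul_apply, Equiv.Perm.inv_def, Equiv.symm_apply_apply]
    exact congrArg σ (MulAction.mem_stabilizer_iff.mp hg)
  · rintro ⟨ω, hω⟩
    have h1 : (MulAction.stabilizer G o).map α.toMonoidHom = MulAction.stabilizer G ω := by
      refine Subgroup.eq_of_le_of_card_ge (fun g hg => MulAction.mem_stabilizer_iff.mpr (hω g hg)) ?_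
      rw [Nat.card_congr ((MulAction.stabilizer G o).equivMapOfInjective _ α.injective).toEquiv.symm]
      obtain ⟨g, hg⟩ := MulAction.exists_smul_eq G ω o
      exact le_of_eq (Nat.card_congr (MulAction.stabilizerEquivStabilizer hg.symm).toEquiv)
    have hiff : ∀ g h : G, g • o = h • o ↔ α g • ω = α h • ω := by
      intro g h
      rw [← inv_smul_eq_iff, ← inv_smul_eq_iff, ← mul_smul, ← mul_smul, ← map_inv, ← map_mul,
        ← MulAction.mem_stabilizer_iff, ← MulAction.mem_stabilizer_iff (a := ω), ← h1]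
      exact (Subgroup.mem_map_iff_mem α.injective).symm
    choose f hf using fun a => MulAction.exists_smul_eq G o a
    have hinj : Function.Injective (fun a => α (f a) • ω) := fun a b hab => by
      rw [← hf a, ← hf b]; exact (hiff _ _).mpr hab
    let σ : Equiv.Perm Ω := Equiv.ofBijective _ (Finite.injective_iff_bijective.mp hinj)
    have hσ : ∀ g : G, σ (g • o) = α g • ω := fun g => (hiff _ _).mp (hf (g • o))
    have hconj : ∀ g : G, ((α g : G) : Equiv.Perm Ω) = σ * (g : Equiv.Perm Ω) * σ⁻¹ := by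
      intro g
      rw [eq_mul_inv_iff_mul_eq]
      ext a
      obtain ⟨h, rfl⟩ := MulAction.exists_smul_eq G o a
      show α g • σ (h • o) = σ (g • h • o)
      rw [← mul_smul g h o, hσ, hσ, map_mul, mul_smul]
    refine ⟨σ, ?_, hconj⟩
    rw [Subgroup.mem_normalizer_iff]
    intro a
    constructor
    · intro ha
      have := (α ⟨a, ha⟩).2
      rwa [hconj ⟨a, ha⟩] at this
    · intro ha
      have h2 := hconj (α.symm ⟨_, ha⟩)
      rw [MulEquiv.apply_symm_apply] at h2
      have h3 : a = ((α.symm ⟨_, ha⟩ : G) : Equiv.Perm Ω) := mul_left_cancel (mul_right_cancel h2)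
      rw [h3]; exact SetLike.coe_mem _

end Cfsg.Agent.S4275
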