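import Cfsg.Statements.S4276
import Mathlib

set_option autoImplicit false
open Cfsg

namespace Cfsg.Agent.S4276

open MulAction Matrix

universe u

/-- The all-one matrix. -/
def allOne (Ω : Type u) : Matrix Ω Ω ℤ := Matrix.of fun _ _ => 1

section arith

/-- The arithmetic step. -/
theorem arith {n k t b d : ℤ} {l : ℕ} (hn : 2 ≤ n) (hk1 : 1 ≤ k) (hkn : k < n) (hco : IsCoprime k n)
    (hc : t ^ 2 * (n - 1) = k * (n - k)) (hsq : k ^ 2 = t ^ 2 + d * n)
    (hpow : k ^ (2 * l + 1) = t ^ (2 * l + 1) + b * n) : k = 1 ∨ k = n - 1 := by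
  have ht : IsCoprime t n := by
    have h : IsCoprime (t ^ 2) n := by
      have h2 : IsCoprime (k ^ 2) n := hco.pow_left
      rw [hsq, show t ^ 2 + d * n = t ^ 2 + n * d by ring] at h2
      exact h2.of_add_mul_left_left
    exact (IsCoprime.pow_left_iff (by norm_num : 0 < 2)).mp h
  have h1 : n ∣ k ^ 2 - t ^ 2 := ⟨d, by linarith⟩
  have h2 : n ∣ k ^ (2 * l) - t ^ (2 * l) := by
    rw [pow_mul, pow_mul]; exact h1.trans (sub_dvd_pow_sub_pow _ _ _)
  have h3 : n ∣ t ^ (2 * l) * (k - t) := by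
    have e : t ^ (2 * l) * (k - t) = b * n - k * (k ^ (2 * l) - t ^ (2 * l)) := by
      rw [pow_succ, pow_succ] at hpow
      linear_combination hpow
    rw [e]; exact dvd_sub (dvd_mul_left _ _) (dvd_mul_of_dvd_right h2 _)
  have h4 : n ∣ k - t := (ht.pow_left (m := 2 * l)).symm.dvd_of_dvd_mul_left h3
  have h5 : t ^ 2 ≤ k := by nlinarith
  have h6 : -k ≤ t ∧ t ≤ k := by
    constructor <;> nlinarith [Int.le_self_sq t, Int.le_self_sq (-t)]
  obtain ⟨e, he⟩ := h4
  have he0 : 0 ≤ e := by nlinarith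
  have he2 : e < 2 := by nlinarith
  interval_cases e
  · left; nlinarith
  · right
    have ht' : t = k - n := by linarith
    subst ht'
    have h7 : (n - k) * (n - 1) = k := by
      have : (n - k) * ((n - k) * (n - 1) - k) = 0 := by linear_combination hc
      rcases mul_eq_zero.mp this with h | h <;> linarith
    by_contra hne
    have : 2 ≤ n - k := by omega
    nlinarith

end arith

section main

variable {Ω : Type u} [Fintype Ω] (G : Subgroup (Equiv.Perm Ω)) (α : MulAut G) (o ω : Ω)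

/-- The twisted stabilizer. -/
def tw : Subgroup G := (stabilizer G o).map α.toMonoidHom

/-- The incidence relation. -/
def Inc (x y : Ω) : Prop := ∀ g : G, g • o = x → (α g)⁻¹ • y ∈ orbit (tw G α o) ω

theorem inc_iff {x y : Ω} (g : G) (hg : g • o = x) :
    Inc G α o ω x y ↔ (α g)⁻¹ • y ∈ orbit (tw G α o) ω := by
  refine ⟨fun h => h g hg, fun h g' hg' => ?_⟩
  have hmem : α ((g')⁻¹ * g) ∈ tw G α o := by
    refine ⟨(g')⁻¹ * g, ?_, rfl⟩
    simp [mem_stabilizer_iff, mul_smul, hg, inv_smul_eq_iff, hg']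
  obtain ⟨h', hh'⟩ := h
  refine ⟨⟨_, hmem⟩ * h', ?_⟩
  show (⟨_, hmem⟩ * h' : tw G α o) • ω = _
  rw [mul_smul, show h' • ω = (α g)⁻¹ • y from hh', Subgroup.smul_def]
  show α ((g')⁻¹ * g) • _ = _
  rw [map_mul, map_inv, mul_smul, smul_inv_smul]

theorem inc_smul [IsPretransitive G Ω] (g : G) (x y : Ω) :
    Inc G α o ω (g • x) ((α g) • y) ↔ Inc G α o ω x y := by
  obtain ⟨g0, hg0⟩ := exists_smul_eq G o x
  rw [inc_iff G α o ω (g * g0) (by rw [mul_smul, hg0]), inc_iff G α o ω g0 hg0, map_mul,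
    _root_.mul_inv_rev, mul_smul, inv_smul_smul]

open scoped Classical in
/-- The incidence matrix. -/
noncomputable def inc : Matrix Ω Ω ℤ := Matrix.of fun x y => if Inc G α o ω x y then 1 else 0

theorem inc_apply_smul [IsPretransitive G Ω] (g : G) (x y : Ω) :
    inc G α o ω (g • x) ((α g) • y) = inc G α o ω x y := by
  classical
  simp only [inc, Matrix.of_apply, inc_smul]

theorem row_sum [IsPretransitive G Ω] (x : Ω) :
    ∑ y, inc G α o ω x y = (Nat.card (orbit (tw G α o) ω) : ℤ) := by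
  classical
  obtain ⟨g, hg⟩ := exists_smul_eq G o x
  simp only [inc, Matrix.of_apply, inc_iff G α o ω g hg]
  rw [Finset.sum_boole, ← Fintype.card_subtype, ← Nat.card_eq_fintype_card]
  congr 1
  exact Nat.card_congr (Equiv.subtypeEquiv (MulAction.toPerm (α g)⁻¹) fun y => Iff.rfl)

theorem col_sum [IsPretransitive G Ω] (y : Ω) :
    ∑ x, inc G α o ω x y = (Nat.card (orbit (tw G α o) ω) : ℤ) := by
  classical
  set k : ℤ := (Nat.card (orbit (tw G α o) ω) : ℤ) with hk
  have hconst : ∀ y', ∑ x, inc G α o ω x y' = ∑ x, inc G α o ω x y := by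
    intro y'
    obtain ⟨g, hg⟩ := exists_smul_eq G y y'
    obtain ⟨g0, rfl⟩ := α.surjective g
    rw [← hg]
    exact (Fintype.sum_equiv (MulAction.toPerm g0) _ _ fun x => (inc_apply_smul G α o ω g0 x y).symm).symm
  have h1 : ∑ y', ∑ x, inc G α o ω x y' = Fintype.card Ω * k := by
    refine Finset.sum_comm.trans ?_
    simp [row_sum G α o ω, hk]
  simp only [hconst] at h1
  rw [Finset.sum_const, Finset.card_univ, nsmul_eq_mul] at h1
  have : (Fintype.card Ω : ℤ) ≠ 0 := by
    have : 0 < Fintype.card Ω := Fintype.card_pos_iff.mpr ⟨y⟩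
    omega
  exact mul_left_cancel₀ this h1

theorem pow_apply_smul [IsPretransitive G Ω] [DecidableEq Ω] : ∀ (i : ℕ) (g : G) (x y : Ω),
    (inc G α o ω ^ i) (g • x) (((α ^ i) g) • y) = (inc G α o ω ^ i) x y := by
  intro i
  induction i with
  | zero =>
    intro g x y
    simp [Matrix.one_apply]
  | succ i ih =>
    intro g x y
    simp only [pow_succ (inc G α o ω) i, Matrix.mul_apply]
    refine (Fintype.sum_equiv (MulAction.toPerm ((α ^ i) g)) _ _ fun z => ?_).symm
    rw [MulAction.toPerm_apply, ih, pow_succ', MulAut.mul_apply, inc_apply_smul]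

variable (h2 : IsMultiplyPretransitive G Ω 2)
include h2

theorem eq_const [IsPretransitive G Ω] [DecidableEq Ω] {z : Ω} (hz : z ≠ o) (A : Matrix Ω Ω ℤ)
    (hA : ∀ (g : G) x y, A (g • x) (g • y) = A x y) :
    A = (A o o - A o z) • (1 : Matrix Ω Ω ℤ) + A o z • allOne Ω := by
  ext x y
  by_cases hxy : x = y
  · subst hxy
    obtain ⟨g, rfl⟩ := exists_smul_eq G o x
    simp only [Matrix.add_apply, Matrix.smul_apply, smul_eq_mul, Matrix.one_apply_eq, allOne,
      Matrix.of_apply, hA]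
    ring
  · obtain ⟨g, rfl, rfl⟩ := MulAction.is_two_pretransitive_iff.mp h2 hz.symm hxy
    simp only [Matrix.add_apply, Matrix.smul_apply, smul_eq_mul, Matrix.one_apply_ne hxy, allOne,
      Matrix.of_apply, hA]
    ring

theorem size_cases (hn : 2 ≤ Fintype.card Ω) (hα : Odd (orderOf α))
    (hk : (Nat.card (orbit (tw G α o) ω)).Coprime (Fintype.card Ω)) :
    Nat.card (orbit (tw G α o) ω) = 1 ∨ Nat.card (orbit (tw G α o) ω) = Fintype.card Ω - 1 := by
  classical
  haveI := h2
  haveI : IsPretransitive G Ω := isPretransitive_of_is_two_pretransitive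
  set kk := Nat.card (orbit (tw G α o) ω) with hkk
  obtain ⟨z, hz⟩ : ∃ z : Ω, z ≠ o := Fintype.exists_ne_of_one_lt_card hn o
  have hk1 : 1 ≤ kk := Nat.card_pos_iff.mpr ⟨⟨⟨ω, mem_orbit_self ω⟩⟩, inferInstance⟩
  have hkn : kk ≤ Fintype.card Ω := by
    rw [hkk, ← Nat.card_eq_fintype_card]
    exact Nat.card_le_card_of_injective _ Subtype.val_injective
  have hkne : kk < Fintype.card Ω := by
    refine lt_of_le_of_ne hkn fun h => ?_
    rw [h, Nat.coprime_self] at hk
    omega
  set M := inc G α o ω with hM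
  set J := allOne Ω with hJ
  set n : ℤ := (Fintype.card Ω : ℤ) with hn'
  set k : ℤ := (kk : ℤ) with hk'
  have hMJ : M * J = k • J := by
    ext x y
    simp [Matrix.mul_apply, hJ, allOne, hM, row_sum G α o ω, hk', hkk]
  have hJM : J * M = k • J := by
    ext x y
    simp [Matrix.mul_apply, hJ, allOne, hM, col_sum G α o ω, hk', hkk]
  have hJJ : J * J = n • J := by
    ext x y
    simp [Matrix.mul_apply, hJ, allOne, hn']
  have hJT : Jᵀ = J := by ext x y; rfl
  have hMTJ : Mᵀ * J = k • J := by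
    rw [← hJT, ← transpose_mul, hJM, transpose_smul]
  have hJMT : J * Mᵀ = k • J := by
    rw [← hJT, ← transpose_mul, hMJ, transpose_smul]
  obtain ⟨c, d, hP⟩ : ∃ c d : ℤ, M * Mᵀ = c • (1 : Matrix Ω Ω ℤ) + d • J := by
    refine ⟨_, _, eq_const G o h2 hz (M * Mᵀ) fun g x y => ?_⟩
    simp only [Matrix.mul_apply, Matrix.transpose_apply]
    refine (Fintype.sum_equiv (MulAction.toPerm (α g)) _ _ fun w => ?_).symm
    rw [MulAction.toPerm_apply, hM, inc_apply_smul, inc_apply_smul]
  obtain ⟨l, hl⟩ := hα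
  obtain ⟨a, b, hN⟩ : ∃ a b : ℤ, M ^ (2 * l + 1) = a • (1 : Matrix Ω Ω ℤ) + b • J := by
    refine ⟨_, _, eq_const G o h2 hz (M ^ (2 * l + 1)) fun g x y => ?_⟩
    have h := pow_apply_smul G α o ω (2 * l + 1) g x y
    rwa [← hl, pow_orderOf_eq_one, MulAut.one_apply, hl, ← hM] at h
  have hev : ∀ p q : ℤ, (p • (1 : Matrix Ω Ω ℤ) + q • J) o o = p + q ∧
      (p • (1 : Matrix Ω Ω ℤ) + q • J) o z = q := fun p q => by
    constructor <;> simp only [hJ, allOne, Matrix.add_apply, Matrix.smul_apply, smul_eq_mul,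
      Matrix.one_apply_eq, Matrix.one_apply_ne hz.symm, Matrix.of_apply, mul_one, mul_zero, zero_add]
  have hcd : c + d = k := by
    have h := congrFun (congrFun hP o) o
    rw [(hev c d).1] at h
    rw [← h, Matrix.mul_apply, hk', hkk, ← row_sum G α o ω o]
    refine Finset.sum_congr rfl fun y _ => ?_
    simp only [Matrix.transpose_apply, hM, inc, Matrix.of_apply]
    split_ifs <;> simp
  have hcdn : k ^ 2 = c + d * n := by
    have h : (M * Mᵀ) * J = (c + d * n) • J := by
      rw [hP, add_mul, Matrix.smul_mul, Matrix.smul_mul, one_mul, hJJ, smul_smul, ← add_smul]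
    rw [mul_assoc, hMTJ, Matrix.mul_smul, hMJ, smul_smul] at h
    have := congrFun (congrFun h o) o
    simpa [hJ, allOne, pow_two] using this
  have hpowJ : ∀ i : ℕ, M ^ i * J = (k ^ i) • J := by
    intro i
    induction i with
    | zero => simp
    | succ i ih => rw [pow_succ, mul_assoc, hMJ, Matrix.mul_smul, ih, smul_smul, ← pow_succ']
  have habn : k ^ (2 * l + 1) = a + b * n := by
    have h := hpowJ (2 * l + 1)
    rw [hN, add_mul, Matrix.smul_mul, Matrix.smul_mul, one_mul, hJJ, smul_smul, ← add_smul] at h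
    have := congrFun (congrFun h o) o
    simpa [hJ, allOne] using this.symm
  have hMMt : ∀ i : ℕ, ∃ e : ℤ, M ^ i * Mᵀ ^ i = (c ^ i) • (1 : Matrix Ω Ω ℤ) + e • J := by
    intro i
    induction i with
    | zero => exact ⟨0, by simp⟩
    | succ i ih =>
      obtain ⟨e, he⟩ := ih
      refine ⟨c ^ i * d + e * k * k, ?_⟩
      rw [pow_succ' M, pow_succ Mᵀ, mul_assoc M, ← mul_assoc (M ^ i), he, add_mul, Matrix.smul_mul,
        Matrix.smul_mul, one_mul, hJMT, mul_add, Matrix.mul_smul, Matrix.mul_smul, Matrix.mul_smul,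
        hMJ, hP, smul_add, smul_smul, smul_smul, smul_smul, smul_smul, add_assoc, ← add_smul,
        ← pow_succ]
  have hac : a ^ 2 = c ^ (2 * l + 1) := by
    obtain ⟨e, he⟩ := hMMt (2 * l + 1)
    have hT : Mᵀ ^ (2 * l + 1) = a • (1 : Matrix Ω Ω ℤ) + b • J := by
      rw [← Matrix.transpose_pow, hN, transpose_add, transpose_smul, transpose_smul, transpose_one, hJT]
    rw [hN, hT, add_mul, mul_add, mul_add, Matrix.smul_mul, Matrix.smul_mul, Matrix.smul_mul,
      Matrix.smul_mul, one_mul, one_mul, Matrix.mul_smul, Matrix.mul_smul, mul_one, hJJ, smul_smul,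
      smul_smul, smul_smul, smul_smul, smul_smul, add_assoc, ← add_smul, ← add_smul] at he
    have h1 := congrFun (congrFun he o) o
    have h2 := congrFun (congrFun he o) z
    rw [(hev _ _).1, (hev _ _).1] at h1
    rw [(hev _ _).2, (hev _ _).2] at h2
    rw [pow_two]; linarith
  have hc : c * (n - 1) = k * (n - k) := by linear_combination n * hcd + hcdn
  have hn2 : (2 : ℤ) ≤ n := by rw [hn']; exact_mod_cast hn
  have hk1' : (1 : ℤ) ≤ k := by rw [hk']; exact_mod_cast hk1
  have hkn' : k < n := by rw [hk', hn']; exact_mod_cast hkne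
  have hc0 : 0 < c := by nlinarith
  have hdvd : c ^ l ∣ a := by
    rw [← Int.pow_dvd_pow_iff (n := 2) (by norm_num), hac, ← pow_mul, mul_comm l 2]
    exact pow_dvd_pow _ (Nat.le_succ _)
  obtain ⟨t, ht⟩ := hdvd
  have hct : c = t ^ 2 := by
    refine mul_left_cancel₀ (pow_ne_zero (2 * l) hc0.ne') ?_
    calc c ^ (2 * l) * c = c ^ (2 * l + 1) := (pow_succ _ _).symm
      _ = a ^ 2 := hac.symm
      _ = c ^ (2 * l) * t ^ 2 := by rw [ht]; ring
  have hat : a = t ^ (2 * l + 1) := by rw [ht, hct]; ring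
  rcases arith hn2 hk1' hkn' (Nat.isCoprime_iff_coprime.mpr hk) (hct ▸ hc) (hct ▸ hcdn)
    (hat ▸ habn) with h | h
  · left; rw [hk'] at h; exact_mod_cast h
  · right; rw [hk', hn'] at h; omega

theorem exists_perm (hn : 2 ≤ Fintype.card Ω)
    (hk : Nat.card (orbit (tw G α o) ω) = 1 ∨ Nat.card (orbit (tw G α o) ω) = Fintype.card Ω - 1) :
    ∃ σ : Equiv.Perm Ω, σ ∈ Subgroup.normalizer (G : Set (Equiv.Perm Ω)) ∧
      ∀ g : G, ((α g : G) : Equiv.Perm Ω) = σ * (g : Equiv.Perm Ω) * σ⁻¹ := by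
  classical
  haveI := h2
  haveI : IsPretransitive G Ω := isPretransitive_of_is_two_pretransitive
  obtain ⟨w, hw⟩ : ∃ w : Ω, ∀ h ∈ tw G α o, h • w = w := by
    rcases hk with hk | hk
    · obtain ⟨hsub, -⟩ := Nat.card_eq_one_iff_unique.mp hk
      exact ⟨ω, fun h hh => congrArg Subtype.val
        (hsub.elim (⟨h • ω, ⟨h, hh⟩, rfl⟩ : orbit (tw G α o) ω) ⟨ω, mem_orbit_self ω⟩)⟩
    · have hc : Nat.card ((orbit (tw G α o) ω)ᶜ : Set Ω) = 1 := by
        rw [Nat.card_coe_set_eq] at hk ⊢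
        rw [Set.ncard_compl, hk, Nat.card_eq_fintype_card]
        omega
      obtain ⟨hsub, ⟨w, hw⟩⟩ := Nat.card_eq_one_iff_unique.mp hc
      refine ⟨w, fun h hh => congrArg Subtype.val (hsub.elim (⟨h • w, fun hm => hw ?_⟩ :
        ((orbit (tw G α o) ω)ᶜ : Set Ω)) ⟨w, hw⟩)⟩
      obtain ⟨h', hh'⟩ := hm
      refine ⟨(⟨h, hh⟩ : tw G α o)⁻¹ * h', ?_⟩
      show ((⟨h, hh⟩ : tw G α o)⁻¹ * h') • ω = w
      rw [mul_smul, show h' • ω = h • w from hh', Subgroup.smul_def]
      exact inv_smul_smul h w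
  have heq : tw G α o = stabilizer G w := by
    refine Subgroup.eq_of_le_of_card_ge (fun h hh => hw h hh) ?_
    have h1 : Nat.card (tw G α o) = Nat.card (stabilizer G o) :=
      Nat.card_congr ((stabilizer G o).equivMapOfInjective _ α.injective).toEquiv.symm
    have h3 := (stabilizer G o).card_mul_index
    have h4 := (stabilizer G w).card_mul_index
    rw [index_stabilizer_of_transitive] at h3 h4
    have hpos : 0 < Nat.card Ω := by rw [Nat.card_eq_fintype_card]; omega
    exact le_of_eq ((Nat.eq_of_mul_eq_mul_right hpos (h4.trans h3.symm)).trans h1.symm)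
  choose r hr using fun x => exists_smul_eq G o x
  have hwd : ∀ (g : G) x, g • o = x → α g • w = α (r x) • w := by
    intro g x hg
    have hm : α ((r x)⁻¹ * g) ∈ tw G α o := ⟨(r x)⁻¹ * g, by
      simp [mem_stabilizer_iff, mul_smul, hg, inv_smul_eq_iff, hr], rfl⟩
    have := hw _ hm
    rwa [map_mul, map_inv, mul_smul, inv_smul_eq_iff] at this
  have hinj : Function.Injective (fun x => α (r x) • w) := by
    intro x y hxy
    have hm : α ((r y)⁻¹ * r x) ∈ tw G α o := by
      rw [heq, mem_stabilizer_iff, map_mul, map_inv, mul_smul, inv_smul_eq_iff]; exact hxy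
    obtain ⟨g, hg, hge⟩ := hm
    obtain rfl := α.injective hge
    rw [SetLike.mem_coe, mem_stabilizer_iff, mul_smul, inv_smul_eq_iff, hr, hr] at hg
    exact hg
  let σ : Equiv.Perm Ω := Equiv.ofBijective _ ⟨hinj, Finite.surjective_of_injective hinj⟩
  have hσ : ∀ g : G, ((α g : G) : Equiv.Perm Ω) = σ * (g : Equiv.Perm Ω) * σ⁻¹ := by
    intro g
    rw [eq_mul_inv_iff_mul_eq]
    ext x
    show α g • (α (r x) • w) = α (r (g • x)) • w
    rw [smul_smul, ← map_mul]
    exact hwd _ _ (by rw [mul_smul, hr])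
  refine ⟨σ, Subgroup.mem_set_normalizer_iff.mpr fun h => ?_, hσ⟩
  show h ∈ G ↔ σ * h * σ⁻¹ ∈ G
  constructor
  · intro hh; rw [← hσ ⟨h, hh⟩]; exact SetLike.coe_mem _
  · intro hh
    obtain ⟨g0, hg0⟩ := α.surjective ⟨_, hh⟩
    have := hσ g0
    rw [hg0] at this
    exact mul_left_cancel (mul_right_cancel this) ▸ g0.2

end main

/-- Let G be a doubly transitive group of permutations of a finite set Ω of size n, let o ∈ Ω, and let α be an automorphism of G of odd order. Suppose that the image under α of the stabilizer of o has an orbit on Ω whose length k is coprime to n. Then α is induced by conjugation by a permutation of Ω normalizing G, and k = 1 or k = n − 1. -/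
theorem result {Ω : Type*} [Fintype Ω] (G : Subgroup (Equiv.Perm Ω)) (h2 : MulAction.IsMultiplyPretransitive G Ω 2) (o : Ω) (α : MulAut G) (hα : Odd (orderOf α)) (ω : Ω) (hk : (Nat.card (MulAction.orbit ((MulAction.stabilizer G o).map α.toMonoidHom) ω)).Coprime (Fintype.card Ω)) : (∃ σ : Equiv.Perm Ω, σ ∈ Subgroup.normalizer (G : Set (Equiv.Perm Ω)) ∧ ∀ g : G, ((α g : G) : Equiv.Perm Ω) = σ * (g : Equiv.Perm Ω) * σ⁻¹) ∧ (Nat.card (MulAction.orbit ((MulAction.stabilizer G o).map α.toMonoidHom) ω) = 1 ∨ Nat.card (MulAction.orbit ((MulAction.stabilizer G o).map α.toMonoidHom) ω) = Fintype.card Ω - 1) := by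
  classical
  rcases le_or_gt 2 (Fintype.card Ω) with hn | hn
  · have hc := size_cases G α o ω h2 hn hα hk
    exact ⟨exists_perm G α o ω h2 hn hc, hc⟩
  · haveI : Subsingleton Ω := Fintype.card_le_one_iff_subsingleton.mp (by omega)
    refine ⟨⟨1, one_mem _, fun g => Subsingleton.elim _ _⟩, Or.inl ?_⟩
    exact Nat.card_eq_one_iff_unique.mpr ⟨inferInstance, ⟨⟨ω, MulAction.mem_orbit_self ω⟩⟩⟩

end Cfsg.Agent.S4276
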