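import Cfsg.Statements.S4277
import Cfsg.Agent.Lib.PrimeIndexOut.Basic

set_option autoImplicit false
open Cfsg

namespace Cfsg.Agent.S4277

/-- A case of the Schreier conjecture: if a finite simple group G has a subgroup of prime index, then the outer automorphism group of G is solvable. -/
theorem result {G : Type*} [Group G] [Finite G] [IsSimpleGroup G] (H : Subgroup G) (hH : H.index.Prime) : Group.IsSolvable (Cfsg.Out G) := by
  classical
  obtain ⟨p, hp⟩ : ∃ p, p = H.index := ⟨_, rfl⟩
  haveI : Fact p.Prime := ⟨hp ▸ hH⟩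
  have hne : H ≠ ⊤ := fun h => hH.ne_one (by simp [h])
  have hcore : H.normalCore = ⊥ := by
    rcases (Subgroup.normalCore_normal H).eq_bot_or_eq_top with h | h
    · exact h
    · exact absurd (top_le_iff.1 (h ▸ Subgroup.normalCore_le H)) hne
  haveI : FaithfulSMul G (G ⧸ H) := ⟨fun {a b} hab => by
    have h1 : a⁻¹ * b ∈ (MulAction.toPermHom G (G ⧸ H)).ker := by
      rw [MonoidHom.mem_ker]; ext x
      simp [mul_smul, ← hab x]
    rw [← Subgroup.normalCore_eq_ker, hcore, Subgroup.mem_bot, inv_mul_eq_one] at h1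
    exact h1⟩
  have hX : Nat.card (G ⧸ H) = p := hp ▸ rfl
  haveI : Fintype (G ⧸ H) := Fintype.ofFinite _
  exact Cfsg.Agent.Lib.PrimeIndexOut.isSolvable_out hX (((1 : G) : G ⧸ H))
    (by rw [MulAction.stabilizer_quotient])

end Cfsg.Agent.S4277
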