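import Cfsg.Statements.S4278
import Cfsg.Agent.Lib.KnownA.G2Invol.Main

set_option autoImplicit false
open Cfsg

namespace Cfsg.Agent.S4278

/-- In the Chevalley group of type G₂ over a finite field of odd order, any two involutions are conjugate. -/
theorem result {F : Type*} [Field F] [Fintype F] (hF : Odd (Fintype.card F)) (s t : ↥(Cfsg.Lie.chevG2.group F)) (hs : orderOf s = 2) (ht : orderOf t = 2) : IsConj s t := by
  have key : ∀ x : ↥(Cfsg.Lie.chevG2.group F), orderOf x = 2 →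
      ∃ g ∈ Cfsg.Lie.chevG2.group F, g * (x : GL Cfsg.Lie.chevG2.Idx F) * g⁻¹ =
        Cfsg.Agent.KnownA.G2Invol.tZero F := by
    intro x hx
    refine Cfsg.Agent.KnownA.G2Invol.invol_conj_tZero hF x.2 ?_ ?_
    · have h := pow_orderOf_eq_one x
      rw [hx, pow_two] at h
      simpa using congrArg Subtype.val h
    · intro e
      rw [show x = 1 from Subtype.ext e, orderOf_one] at hx
      omega
  obtain ⟨g, hg, eg⟩ := key s hs
  obtain ⟨k, hk, ek⟩ := key t ht
  refine isConj_iff.2 ⟨⟨k, hk⟩⁻¹ * ⟨g, hg⟩, Subtype.ext ?_⟩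
  show k⁻¹ * g * (s : GL Cfsg.Lie.chevG2.Idx F) * (k⁻¹ * g)⁻¹ = t
  calc k⁻¹ * g * (s : GL Cfsg.Lie.chevG2.Idx F) * (k⁻¹ * g)⁻¹
      = k⁻¹ * (g * s * g⁻¹) * k := by group
    _ = t := by rw [eg, ← ek]; group

end Cfsg.Agent.S4278
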