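import Cfsg.Statements.S4279
import Cfsg.Agent.Lib.KnownA.G2Invol.Cent

set_option autoImplicit false
open Cfsg Cfsg.Agent.KnownA.G2Invol

namespace Cfsg.Agent.S4279

/-- In the Chevalley group G of type G₂ over a finite field F of odd order q, the centralizer of an involution t has order q²(q² − 1)² and contains two elementwise commuting subgroups, each isomorphic to SL(2, F), which meet exactly in the subgroup generated by t and whose join has index 2 in the centralizer. -/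
theorem result {F : Type*} [Field F] [Fintype F] (hF : Odd (Fintype.card F)) (t : ↥(Cfsg.Lie.chevG2.group F)) (ht : orderOf t = 2) : Nat.card (Subgroup.centralizer ({t} : Set ↥(Cfsg.Lie.chevG2.group F))) = Fintype.card F ^ 2 * (Fintype.card F ^ 2 - 1) ^ 2 ∧ ∃ L₁ L₂ : Subgroup ↥(Cfsg.Lie.chevG2.group F), Nonempty (L₁ ≃* Matrix.SpecialLinearGroup (Fin 2) F) ∧ Nonempty (L₂ ≃* Matrix.SpecialLinearGroup (Fin 2) F) ∧ (∀ x ∈ L₁, ∀ y ∈ L₂, x * y = y * x) ∧ L₁ ⊓ L₂ = Subgroup.zpowers t ∧ L₁ ⊔ L₂ ≤ Subgroup.centralizer ({t} : Set ↥(Cfsg.Lie.chevG2.group F)) ∧ (L₁ ⊔ L₂).relIndex (Subgroup.centralizer ({t} : Set ↥(Cfsg.Lie.chevG2.group F))) = 2 := by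
  have h2F : (2 : F) ≠ 0 := Cfsg.Agent.Lib.KnownA.two_ne_zero_of_odd hF
  have ht2 : (t : GL Cfsg.Lie.chevG2.Idx F) * t = 1 := by
    have h := pow_orderOf_eq_one t
    rw [ht, pow_two] at h
    simpa using congrArg Subtype.val h
  have ht1 : (t : GL Cfsg.Lie.chevG2.Idx F) ≠ 1 := fun e => by
    rw [show t = 1 from Subtype.ext e, orderOf_one] at ht; omega
  obtain ⟨g, hg, e⟩ := invol_conj_tZero hF t.2 ht2 ht1
  set φ : MulAut (GL Cfsg.Lie.chevG2.Idx F) := MulAut.conj g⁻¹ with hφ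
  have hφt : φ (tZero F) = t := by rw [hφ, MulAut.conj_apply, ← e]; group
  have hinj : Function.Injective φ.toMonoidHom := φ.injective
  have hCmap : (bigC F).map φ.toMonoidHom =
      (Subgroup.centralizer ({t} : Set ↥(Cfsg.Lie.chevG2.group F))).map (Cfsg.Lie.chevG2.group F).subtype := by
    ext x
    constructor
    · rintro ⟨y, hy, rfl⟩
      obtain ⟨hyG, hyc⟩ := (mem_bigC_iff h2F).1 hy
      refine ⟨⟨g⁻¹ * y * g⁻¹⁻¹, mul_mem (mul_mem (inv_mem hg) hyG) (inv_mem (inv_mem hg))⟩, ?_, rfl⟩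
      refine Subgroup.mem_centralizer_singleton_iff.2 (Subtype.ext ?_)
      show φ y * (t : GL Cfsg.Lie.chevG2.Idx F) = (t : GL Cfsg.Lie.chevG2.Idx F) * φ y
      rw [← hφt, ← map_mul, ← map_mul, hyc]
    · rintro ⟨y, hy, rfl⟩
      refine ⟨φ.symm y, (mem_bigC_iff h2F).2 ⟨?_, ?_⟩, φ.apply_symm_apply _⟩
      · rw [hφ, MulAut.conj_symm_apply]
        exact mul_mem (mul_mem (inv_mem (inv_mem hg)) y.2) (inv_mem hg)
      · apply φ.injective
        rw [map_mul, map_mul, hφt, φ.apply_symm_apply]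
        exact congrArg Subtype.val (Subgroup.mem_centralizer_singleton_iff.1 hy).symm
  have hcard : ∀ K : Subgroup (GL Cfsg.Lie.chevG2.Idx F), K ≤ bigC F →
      (K.map φ.toMonoidHom).subgroupOf (Cfsg.Lie.chevG2.group F) ≤ Subgroup.centralizer ({t} : Set ↥(Cfsg.Lie.chevG2.group F)) ∧
      ((K.map φ.toMonoidHom).subgroupOf (Cfsg.Lie.chevG2.group F)).map (Cfsg.Lie.chevG2.group F).subtype = K.map φ.toMonoidHom := by
    intro K hK
    have hle : K.map φ.toMonoidHom ≤ (Subgroup.centralizer ({t} : Set ↥(Cfsg.Lie.chevG2.group F))).map (Cfsg.Lie.chevG2.group F).subtype :=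
      hCmap ▸ Subgroup.map_mono hK
    constructor
    · intro x hx
      obtain ⟨y, hy, e⟩ := hle hx
      exact Subtype.ext e ▸ hy
    · rw [Subgroup.subgroupOf_map_subtype, inf_eq_left]
      exact hle.trans (Subgroup.map_subtype_le _)
  have h6 : (f6 F).range ≤ bigC F := le_sup_left.trans le_sup_left
  have h9 : (f9 F).range ≤ bigC F := le_sup_right.trans le_sup_left
  have hiso : ∀ (f : Matrix.SpecialLinearGroup (Fin 2) F →* GL Cfsg.Lie.chevG2.Idx F),
      Function.Injective f → f.range ≤ bigC F →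
      Nonempty (↥((f.range.map φ.toMonoidHom).subgroupOf (Cfsg.Lie.chevG2.group F)) ≃* Matrix.SpecialLinearGroup (Fin 2) F) := by
    intro f hf hle
    refine ⟨(Subgroup.subgroupOfEquivOfLe ?_).trans
      ((Subgroup.equivMapOfInjective _ _ hinj).symm.trans (MonoidHom.ofInjective hf).symm)⟩
    rw [← (hcard _ hle).2]
    exact Subgroup.map_subtype_le _
  have hsub : Function.Injective (Cfsg.Lie.chevG2.group F).subtype := (Cfsg.Lie.chevG2.group F).subtype_injective
  refine ⟨?_, ((f6 F).range.map φ.toMonoidHom).subgroupOf (Cfsg.Lie.chevG2.group F), ((f9 F).range.map φ.toMonoidHom).subgroupOf (Cfsg.Lie.chevG2.group F),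
    hiso _ f6_injective h6, hiso _ f9_injective h9, ?_, ?_, sup_le (hcard _ h6).1 (hcard _ h9).1, ?_⟩
  · rw [← Subgroup.card_map_of_injective hsub, ← hCmap, Subgroup.card_map_of_injective hinj]
    exact bigC_card hF
  · rintro x ⟨_, ⟨a, rfl⟩, hx⟩ y ⟨_, ⟨b, rfl⟩, hy⟩
    refine Subtype.ext ?_
    simp only [Subgroup.coe_mul, Subgroup.subtype_apply] at hx hy ⊢
    rw [← hx, ← hy, ← map_mul, ← map_mul, (f_commute a b).eq]
  · apply Subgroup.map_injective hsub
    rw [Subgroup.map_inf _ _ _ hsub, (hcard _ h6).2, (hcard _ h9).2, ← Subgroup.map_inf _ _ _ hinj,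
      (pair_card h2F).1, MonoidHom.map_zpowers, MonoidHom.map_zpowers]
    exact congrArg Subgroup.zpowers hφt
  · rw [← Subgroup.relIndex_map_map_of_injective _ _ hsub, Subgroup.map_sup, (hcard _ h6).2,
      (hcard _ h9).2, ← Subgroup.map_sup, ← hCmap, Subgroup.relIndex_map_map_of_injective _ _ hinj]
    exact pair_relIndex hF

end Cfsg.Agent.S4279
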