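import Cfsg.Statements.S4283
import Cfsg.Agent.Lib.Frobenius.Kernel
import Mathlib

set_option autoImplicit false
open Cfsg

namespace Cfsg.Agent.S4283


open scoped Pointwise


/-- Let G be a finite group with centre Z and let K, H be abelian subgroups of G containing Z such that G/Z is a Frobenius group with complement H/Z and kernel K/Z. Then the conjugacy class sizes of G are exactly 1, [G : K] and [G : H], and these two indices are coprime. (This is the converse half of the characterization of finite groups whose conjugacy class sizes are exactly 1, m and n with m and n coprime.) -/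
theorem result {G : Type*} [Group G] [Finite G] (K H : Subgroup G) (hZK : Subgroup.center G ≤ K) (hZH : Subgroup.center G ≤ H) (hK : IsMulCommutative K) (hH : IsMulCommutative H) (hFrob : Cfsg.IsFrobeniusComplement (H.map (QuotientGroup.mk' (Subgroup.center G)))) (hker : Cfsg.frobeniusKernel (H.map (QuotientGroup.mk' (Subgroup.center G))) = (K.map (QuotientGroup.mk' (Subgroup.center G)) : Set (G ⧸ Subgroup.center G))) : Set.range (fun x : G => (Subgroup.centralizer ({x} : Set G)).index) = ({1, K.index, H.index} : Set ℕ) ∧ K.index.Coprime H.index := by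

  classical
  set f := QuotientGroup.mk' (Subgroup.center G) with hf
  have hfs : Function.Surjective f := QuotientGroup.mk'_surjective _
  have hcK : (K.map f).comap f = K := by
    rw [Subgroup.comap_map_eq, QuotientGroup.ker_mk', sup_eq_left.mpr hZK]
  have hcH : (H.map f).comap f = H := by
    rw [Subgroup.comap_map_eq, QuotientGroup.ker_mk', sup_eq_left.mpr hZH]
  have hidxK : K.index = (K.map f).index := by
    rw [← Subgroup.index_comap_of_surjective (K.map f) hfs, hcK]
  have hidxH : H.index = (H.map f).index := by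
    rw [← Subgroup.index_comap_of_surjective (H.map f) hfs, hcH]
  obtain ⟨K', -, hK', hd, -, hne, hcomp, -⟩ := Cfsg.Agent.Lib.Frobenius.exists_frobeniusKernel hFrob
  obtain rfl : K' = K.map f := SetLike.coe_injective (hK'.trans hker)
  have hKi : (K.map f).index = Nat.card (H.map f) := hcomp.symm.index_eq_card
  have hcop : K.index.Coprime H.index := by
    rw [hidxK, hidxH, hKi]
    exact Cfsg.Agent.Lib.Frobenius.card_coprime_index hFrob
  have hfpf := Cfsg.Agent.Lib.Frobenius.fixedPointFree_of_isFrobeniusComplement hFrob hd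
  have hKab : ∀ a ∈ K, ∀ b ∈ K, a * b = b * a := fun a ha b hb =>
    congrArg Subtype.val (hK.is_comm.comm (⟨a, ha⟩ : K) ⟨b, hb⟩)
  have hHab : ∀ a ∈ H, ∀ b ∈ H, a * b = b * a := fun a ha b hb =>
    congrArg Subtype.val (hH.is_comm.comm (⟨a, ha⟩ : H) ⟨b, hb⟩)
  have hZ : ∀ x : G, x ∈ Subgroup.center G ↔ f x = 1 := fun x => by
    rw [← MonoidHom.mem_ker, QuotientGroup.ker_mk']
  have hCK : ∀ x ∈ K, x ∉ Subgroup.center G → Subgroup.centralizer ({x} : Set G) = K := by
    intro x hx hxZ
    refine le_antisymm (fun g hg => ?_) (fun g hg => Subgroup.mem_centralizer_singleton_iff.mpr (hKab g hg x hx))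
    rw [Subgroup.mem_centralizer_singleton_iff] at hg
    haveI : (K.map f).Normal := ⟨fun n hn a => by
      rw [← SetLike.mem_coe, hK'] at hn ⊢
      rw [Cfsg.Agent.Lib.Frobenius.mem_frobeniusKernel_iff] at hn ⊢
      rcases hn with rfl | hn
      · exact Or.inl (by group)
      · exact Or.inr fun b => by simpa [mul_assoc] using hn (a⁻¹ * b)⟩
    have hmem : f g ∈ (K.map f : Set (G ⧸ Subgroup.center G)) * (H.map f : Set (G ⧸ Subgroup.center G)) := by
      rw [hcomp.mul_eq]; trivial
    obtain ⟨_, ⟨k, hk, rfl⟩, _, ⟨h, hh, rfl⟩, he⟩ := Set.mem_mul.mp hmem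
    by_cases h1 : f h = 1
    · rw [h1, mul_one] at he
      have : g ∈ (K.map f).comap f := ⟨k, hk, he⟩
      rwa [hcK] at this
    exfalso
    apply hxZ
    rw [hZ]
    refine hfpf (f h) ⟨h, hh, rfl⟩ h1 (f x) ⟨x, hx, rfl⟩ ?_
    have h2 : f g * f x = f x * f g := by rw [← map_mul, ← map_mul, hg]
    rw [← he] at h2
    have h3 : f k * f x = f x * f k := by rw [← map_mul, ← map_mul, hKab k hk x hx]
    rw [← mul_assoc, ← h3, mul_assoc, mul_assoc] at h2
    exact mul_left_cancel h2
  have hCH : ∀ x ∈ H, x ∉ Subgroup.center G → Subgroup.centralizer ({x} : Set G) = H := by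
    intro x hx hxZ
    refine le_antisymm (fun g hg => ?_) (fun g hg => Subgroup.mem_centralizer_singleton_iff.mpr (hHab g hg x hx))
    rw [Subgroup.mem_centralizer_singleton_iff] at hg
    have := Cfsg.Agent.Lib.Frobenius.centralizer_le hFrob ⟨x, hx, rfl⟩ (fun e => hxZ ((hZ x).mpr e))
      (Subgroup.mem_centralizer_singleton_iff.mpr (by rw [← map_mul, ← map_mul, hg]) : f g ∈ Subgroup.centralizer {f x})
    have h1 : g ∈ (H.map f).comap f := this
    rwa [hcH] at h1
  have hZ1 : ∀ x ∈ Subgroup.center G, (Subgroup.centralizer ({x} : Set G)).index = 1 := by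
    intro x hx
    rw [Subgroup.index_eq_one, eq_top_iff]
    exact fun g _ => Subgroup.mem_centralizer_singleton_iff.mpr (Subgroup.mem_center_iff.mp hx g)
  refine ⟨Set.ext fun c => ⟨?_, ?_⟩, hcop⟩
  · rintro ⟨x, rfl⟩
    by_cases hxZ : x ∈ Subgroup.center G
    · exact Or.inl (hZ1 x hxZ)
    by_cases hxK : x ∈ K
    · exact Or.inr (Or.inl (by show (Subgroup.centralizer ({x} : Set G)).index = K.index; rw [hCK x hxK hxZ]))
    have hnk : f x ∉ (K.map f : Set (G ⧸ Subgroup.center G)) := fun h => hxK (hcK ▸ (h : x ∈ (K.map f).comap f))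
    rw [hK', Cfsg.Agent.Lib.Frobenius.mem_frobeniusKernel_iff] at hnk
    push Not at hnk
    obtain ⟨-, b, hb⟩ := hnk
    obtain ⟨b, rfl⟩ := hfs b
    have hy : b⁻¹ * x * b ∈ H := by
      rw [← hcH, Subgroup.mem_comap, map_mul, map_mul, map_inv]; exact hb
    have hyZ : b⁻¹ * x * b ∉ Subgroup.center G := fun h => by
      apply hxZ
      have := (inferInstance : (Subgroup.center G).Normal).conj_mem _ h b
      simpa [mul_assoc] using this
    refine Or.inr (Or.inr ?_)
    show (Subgroup.centralizer ({x} : Set G)).index = H.index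
    rw [← hCH _ hy hyZ]
    have e : Subgroup.centralizer ({b⁻¹ * x * b} : Set G) =
        (Subgroup.centralizer ({x} : Set G)).comap (MulAut.conj b).toMonoidHom := by
      ext g
      simp only [Subgroup.mem_centralizer_singleton_iff, Subgroup.mem_comap, MulEquiv.coe_toMonoidHom, MulAut.conj_apply]
      constructor
      · intro h
        calc b * g * b⁻¹ * x = b * (g * (b⁻¹ * x * b)) * b⁻¹ := by group
          _ = x * (b * g * b⁻¹) := by rw [h]; group
      · intro h
        calc g * (b⁻¹ * x * b) = b⁻¹ * (b * g * b⁻¹ * x) * b := by group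
          _ = b⁻¹ * x * b * g := by rw [h]; group
    rw [e, Subgroup.index_comap_of_surjective _ (MulAut.conj b).surjective]
  · rintro (rfl | rfl | rfl)
    · exact ⟨1, hZ1 1 (Subgroup.one_mem _)⟩
    · obtain ⟨x, hx, hxZ⟩ : ∃ x ∈ K, x ∉ Subgroup.center G := by
        by_contra h
        push Not at h
        exact hne ((Subgroup.map_eq_bot_iff _).mpr (by rw [QuotientGroup.ker_mk']; exact h))
      exact ⟨x, by simp only [hCK x hx hxZ]⟩
    · obtain ⟨x, hx, hxZ⟩ : ∃ x ∈ H, x ∉ Subgroup.center G := by
        by_contra h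
        push Not at h
        exact hFrob.1 ((Subgroup.map_eq_bot_iff _).mpr (by rw [QuotientGroup.ker_mk']; exact h))
      exact ⟨x, by simp only [hCH x hx hxZ]⟩

end Cfsg.Agent.S4283
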