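import Cfsg.Statements.S4284
import Cfsg.Agent.Lib.PGroups.ClassStepAlphaTwo
import Cfsg.Agent.Lib.PGroups.ClassStepBetaTwo

set_option autoImplicit false
open Cfsg

namespace Cfsg.Agent.S4284

open Cfsg.Agent.Lib.PGroups Cfsg.Agent.Lib.PGroups.ClassStep


/-- Let G be a finite group with no nontrivial abelian direct factor whose conjugacy class sizes are exactly 1, m and m·n with m, n > 1 coprime. Then m is a prime p dividing n − 1; the elements whose class has size 1 or p form an abelian normal subgroup of index p; G has a normal p-complement; and the commutator subgroup of a Sylow p-subgroup of G has order p. -/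
theorem result {G : Type*} [Group G] [Finite G] (hnodf : ∀ A B : Subgroup G, A.Normal → B.Normal → A ⊓ B = ⊥ → A ⊔ B = ⊤ → IsMulCommutative A → A = ⊥) (m n : ℕ) (hm : 1 < m) (hn : 1 < n) (hcop : m.Coprime n) (h : Set.range (fun x : G => (Subgroup.centralizer ({x} : Set G)).index) = ({1, m, m * n} : Set ℕ)) : m.Prime ∧ m ∣ n - 1 ∧ (∃ M : Subgroup G, M.Normal ∧ (M : Set G) = {x : G | (Subgroup.centralizer ({x} : Set G)).index = 1 ∨ (Subgroup.centralizer ({x} : Set G)).index = m} ∧ M.index = m ∧ IsMulCommutative M) ∧ (∃ N : Subgroup G, N.Normal ∧ (Nat.card N).Coprime m ∧ ∃ a : ℕ, N.index = m ^ a) ∧ ∀ P : Sylow m G, Nat.card (commutator (P : Subgroup G)) = m := by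
  have key : ∀ k, (∃ x : G, ClassGraph.cl x = k) ↔ k ∈ ({1, m, m * n} : Set ℕ) := fun k => Set.ext_iff.1 h k
  have hG : Hyp G m n :=
    { hm := hm
      hn := hn
      cop := hcop
      size := fun x => by simpa using (key (ClassGraph.cl x)).1 ⟨x, rfl⟩
      exm := (key m).2 (by simp)
      exmn := (key (m * n)).2 (by simp) }
  obtain ⟨q, hq, hqn⟩ := Nat.exists_prime_and_dvd (ne_of_gt hn)
  haveI : Fact q.Prime := ⟨hq⟩
  obtain ⟨Q⟩ : Nonempty (Sylow q G) := inferInstance
  obtain ⟨H, hD⟩ := (dichotomy hG hqn Q).resolve_left (not_onePrime hG)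
  have hA := abel_of_twoData hG hD
  have hp := hA.prime hG
  obtain ⟨N, hNn, -, hNc, hNi⟩ := hA.pcomplement hG hp
  exact ⟨hp, hA.dvd_sub hG hp, ⟨H, hA.normal hG, hA.set_eq hG, hA.index,
    ⟨⟨fun a b => Subtype.ext (hA.comm a a.2 b b.2)⟩⟩⟩, ⟨N, hNn, hNc, hNi⟩, fun P => hA.commutator_card hG hp P⟩

end Cfsg.Agent.S4284
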