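import Cfsg.Statements.S4291
import Cfsg.Agent.Lib.Frobenius.Zassenhaus.Quotient
import Cfsg.Agent.Lib.Frobenius.Zassenhaus.QuaternionAut

set_option autoImplicit false
open Cfsg

namespace Cfsg.Agent.S4291

open Lib.Frobenius.Zassenhaus

/-- `G` has a map to `Alt` or `Sym` on four or five points with the properties needed. -/
theorem core_unique {G : Type*} [Group G] [Finite G] (hG : IsFPF G) {n : ℕ} (hn : n = 4 ∨ n = 5) {h : 4 ≤ n}
    (hf : PermFacts n h) {F : G →* Equiv.Perm (Fin n)} (hr : alternatingGroup (Fin n) ≤ F.range)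
    {L : Subgroup G} [L.Normal] (hLC : ∀ c, F c = 1 → ∀ l ∈ L, c * l = l * c)
    (hsq : ∀ l ∈ L, F l = 1 → l * l = 1) (hL : ∃ l ∈ L, F l ≠ 1)
    (hV4 : ∀ f : G →* DihedralGroup 2, ¬ IsZGroup f.ker) (hZ : IsZGroup F.ker) :
    ∃! N : Subgroup G, N.Normal ∧ (∀ (p : ℕ) [Fact p.Prime] (P : Sylow p N), IsCyclic P) ∧ QuotientType N := by
  refine ⟨F.ker, ⟨inferInstance, fun p hp P => hZ.isZGroup p hp.out P, quotientType_of_range hn hr⟩, ?_⟩
  rintro N ⟨hNn, hNc, hNt⟩
  haveI := hNn
  exact hG.eq_core hf hr hLC hsq hL hV4 ⟨fun p hp P => @hNc p ⟨hp⟩ P⟩ hNt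

theorem dihedral_sq : ∀ t : DihedralGroup 2, t * t = 1 := by decide +kernel

theorem dihedral_odd {t : DihedralGroup 2} {k : ℕ} (hk : Odd k) (h : t ^ k = 1) : t = 1 := by
  obtain ⟨j, rfl⟩ := hk
  rw [pow_add, pow_mul, pow_two, dihedral_sq, one_pow, one_mul, pow_one] at h
  exact h

theorem five_case {G : Type*} [Group G] [Finite G] (hG : IsFPF G) (hns : ¬ Group.IsSolvable G) :
    ∃! N : Subgroup G, N.Normal ∧ (∀ (p : ℕ) [Fact p.Prime] (P : Sylow p N), IsCyclic P) ∧ QuotientType N := by
  obtain ⟨U, M, hUn, hMn, hU, -, -, -, -, -, -, Θ, hΘ, hCM⟩ := hG.nonsolvable hns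
  haveI := hUn
  have hcl := hU.closure_three
  obtain ⟨hUc, f, hf, hker⟩ := id hU
  set e := MulEquiv.ofBijective _ (Cfsg.Agent.S2119.result 5 (by norm_num) (by norm_num))
  set F : G →* Equiv.Perm (Fin 5) := e.symm.toMonoidHom.comp Θ
  have hFk : F.ker = Subgroup.centralizer (U : Set G) := by
    rw [← hΘ]; exact MonoidHom.ker_comp_of_injective _ _ e.symm.injective
  have hUC : ∀ u : U, F (u : G) = 1 ↔ u * u = 1 := fun u => by
    rw [← MonoidHom.mem_ker, hFk]
    refine ⟨fun hu => ?_, fun hu y hy => hG.central_of_sq (congrArg Subtype.val hu) y⟩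
    rw [← hker]
    have hcen : ∀ a : alternatingGroup (Fin 5), (∀ b, a * b = b * a) → a = 1 := by decide +kernel
    refine hcen _ fun b => ?_
    obtain ⟨w, rfl⟩ := hf b
    rw [← map_mul, ← map_mul, show u * w = w * u from Subtype.ext (hu w w.2).symm]
  have hr : alternatingGroup (Fin 5) ≤ F.range := by
    set r := F.comp U.subtype
    have hk : r.ker = f.ker := by
      ext u
      rw [MonoidHom.mem_ker, MonoidHom.mem_ker, hker]
      exact hUC u
    have h1 := r.ker.card_mul_index
    have h2 := f.ker.card_mul_index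
    rw [Subgroup.index_ker, hk] at h1
    rw [Subgroup.index_ker, MonoidHom.range_eq_top.mpr hf, Subgroup.card_top,
      Lib.Frobenius.Zassenhaus.card_alt_five, hUc] at h2
    rw [hUc] at h1
    have h3 : Nat.card f.ker = 2 := by omega
    rw [h3] at h1
    have hi : r.range.index = 2 := by
      have h4 := r.range.card_mul_index
      rw [show Nat.card r.range = 60 by omega, show Nat.card (Equiv.Perm (Fin 5)) = 120 by
        rw [Nat.card_eq_fintype_card, Fintype.card_perm]; rfl] at h4
      omega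
    rw [← Equiv.Perm.eq_alternatingGroup_of_index_eq_two hi]
    rintro _ ⟨u, rfl⟩
    exact ⟨(u : G), rfl⟩
  have hUnot : ∀ {H : Subgroup G}, U ≤ H → ¬ IsZGroup H := fun {H} hle hZ => by
    haveI : IsZGroup U := IsZGroup.of_injective (f := Subgroup.inclusion hle) (Subgroup.inclusion_injective hle)
    refine noFourImage_alt permFacts_five (f := (alternatingGroup (Fin 5)).subtype.comp f) ?_ inferInstance
    intro a ha
    obtain ⟨g, hg⟩ := hf ⟨a, ha⟩
    exact ⟨g, congrArg Subtype.val hg⟩
  refine core_unique hG (Or.inr rfl) permFacts_five hr (L := U)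
    (fun c hc l hl => ((hFk ▸ MonoidHom.mem_ker.mpr hc : c ∈ Subgroup.centralizer (U : Set G)) l hl).symm)
    (fun l hl hc => congrArg Subtype.val ((hUC ⟨l, hl⟩).mp hc)) ?_ ?_ ?_
  · obtain ⟨u, hu⟩ : ∃ u : U, orderOf u = 3 := by
      haveI : Fact (Nat.Prime 3) := ⟨Nat.prime_three⟩
      exact exists_prime_orderOf_dvd_card' (G := U) 3 (by rw [hUc]; norm_num)
    refine ⟨u, u.2, fun h => ?_⟩
    have := orderOf_dvd_of_pow_eq_one ((pow_two u).trans ((hUC u).mp h))
    rw [hu] at this; norm_num at this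
  · intro g
    refine hUnot ?_
    intro u hu
    have hmem : (⟨u, hu⟩ : U) ∈ Subgroup.closure {v : U | orderOf v = 3} := hcl ▸ Subgroup.mem_top _
    refine (Subgroup.closure_le (K := g.ker.comap U.subtype)).mpr (fun v hv => ?_) hmem
    show g (v : G) = 1
    refine dihedral_odd (k := 3) (by decide) ?_
    rw [← map_pow, ← SubmonoidClass.coe_pow, ← show orderOf v = 3 from hv, pow_orderOf_eq_one, Subgroup.coe_one, map_one]
  · rw [hFk]
    refine hG.isZGroup_of_sq _ fun c hc ⟨k, hk⟩ => ?_
    by_contra hne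
    -- a `2`-element centralising `U` is a central involution
    rcases k with _ | _ | k
    · rw [pow_zero, orderOf_eq_one_iff] at hk; exact hne (by rw [hk, one_mul])
    · exact hne (by rw [← pow_two, ← orderOf_dvd_iff_pow_eq_one, hk]; norm_num)
    set d := c ^ 2 ^ k
    have hd : orderOf d = 4 := by
      have h := orderOf_pow_orderOf_div (orderOf_pos c).ne' (n := 4) (by rw [hk]; exact ⟨2 ^ k, by ring⟩)
      rwa [hk, show 2 ^ (k + 1 + 1) / 4 = 2 ^ k by
        rw [show 2 ^ (k + 1 + 1) = 2 ^ k * 4 by ring, Nat.mul_div_cancel _ (by norm_num)]] at h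
    obtain ⟨a, ha⟩ : ∃ a : alternatingGroup (Fin 5), a * a = 1 ∧ a ≠ 1 := by decide +kernel
    obtain ⟨w, hw⟩ := hf a
    haveI : Fact (Nat.Prime 2) := ⟨Nat.prime_two⟩
    have hw1 : w * w ≠ 1 := fun h => ha.2 (hw ▸ (hker w).mpr h)
    have hw2 : (w * w) * (w * w) = 1 := (hker _).mp (by rw [map_mul, hw, ha.1])
    have hwo : orderOf (w : G) = 4 := by
      rw [Subgroup.orderOf_coe]
      exact orderOf_eq_prime_pow (p := 2) (n := 1) (by rw [pow_one, pow_two]; exact hw1)
        (by rw [show 2 ^ (1 + 1) = 2 * 2 from rfl, pow_mul, pow_two, pow_two]; exact hw2)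
    have hdC : d ∈ Subgroup.centralizer (U : Set G) := pow_mem hc _
    have hdU : d ∈ U := Subgroup.zpowers_le.mpr w.2 (hG.mem_zpowers_of_commute (hdC _ w.2) (by rw [hwo, hd]))
    have h2 : d * d = 1 :=
      congrArg Subtype.val ((hUC ⟨d, hdU⟩).mp (MonoidHom.mem_ker.mp (hFk ▸ hdC : d ∈ F.ker)))
    have := orderOf_dvd_of_pow_eq_one ((pow_two d).trans h2)
    rw [hd] at this; norm_num at this

theorem four_case {G : Type*} [Group G] [Finite G] (hG : IsFPF G) (hq : IsFPF.QCase G) :
    ∃! N : Subgroup G, N.Normal ∧ (∀ (p : ℕ) [Fact p.Prime] (P : Sylow p N), IsCyclic P) ∧ QuotientType N := by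
  obtain ⟨Q, hQn, ⟨e⟩, s, hso, hsc⟩ := hq
  haveI := hQn
  set Ψ : G →* MulAut (QuaternionGroup 2) := (MulAut.congr e).toMonoidHom.comp MulAut.conjNormal
  set F : G →* Equiv.Perm (Fin 4) := chi.comp Ψ
  have hFk : F.ker = Subgroup.centralizer (Q : Set G) := by
    rw [MonoidHom.ker_comp_of_injective _ _ chi_injective, MonoidHom.ker_comp_of_injective _ _ (MulAut.congr e).injective]
    ext g
    rw [MonoidHom.mem_ker]
    constructor
    · intro h q hq
      have h1 := congrArg (fun τ : MulAut Q => ((τ ⟨q, hq⟩ : Q) : G)) h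
      rw [MulAut.conjNormal_apply] at h1
      exact (mul_inv_eq_iff_eq_mul.mp h1).symm
    · intro h
      apply MulEquiv.ext
      intro q
      apply Subtype.ext
      rw [MulAut.conjNormal_apply, ← h q q.2, mul_inv_cancel_right]
      rfl
  have hQC : ∀ q ∈ Q, F q = 1 → q * q = 1 := by
    intro q hq h
    have hc : q ∈ Subgroup.centralizer (Q : Set G) := hFk ▸ MonoidHom.mem_ker.mpr h
    have hc2 := qmap_center (e ⟨q, hq⟩) fun t => e.symm.injective (by
      rw [map_mul, map_mul, e.symm_apply_apply]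
      exact Subtype.ext (hc _ (e.symm t).2).symm)
    rw [← map_mul, e.map_eq_one_iff] at hc2
    exact congrArg Subtype.val hc2
  have hs3 : orderOf (F s) = 3 := by
    have h1 : orderOf (F s) ∣ orderOf s := orderOf_map_dvd F s
    have h2 : orderOf (F s) ∣ 24 := by
      have h := orderOf_dvd_natCard (F s)
      rwa [Nat.card_eq_fintype_card, Fintype.card_perm] at h
    have h0 : orderOf (F s) ≠ 1 := fun h => hsc (hFk ▸ MonoidHom.mem_ker.mpr (orderOf_eq_one_iff.mp h))
    have h3 : Nat.gcd (orderOf s) 24 ∣ 3 := by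
      have hc : (orderOf s).Coprime 8 := by
        rw [show (8 : ℕ) = 2 ^ 3 from rfl]; exact (Nat.coprime_two_right.mpr hso).pow_right 3
      rw [show (24 : ℕ) = 8 * 3 from rfl, Nat.Coprime.gcd_mul _ (by norm_num), hc.gcd_eq_one, one_mul]
      exact Nat.gcd_dvd_right _ _
    exact ((Nat.dvd_prime Nat.prime_three).mp ((Nat.dvd_gcd h1 h2).trans h3)).resolve_left h0
  have hr : alternatingGroup (Fin 4) ≤ F.range := by
    set r := F.comp Q.subtype
    have hk : Nat.card r.ker ≤ 2 := by
      have hsub : ∀ u : r.ker, (u : Q) * (u : Q) = 1 := fun u => Subtype.ext (hQC _ (u : Q).2 u.2)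
      have : ∀ q : QuaternionGroup 2, q * q = 1 → q = 1 ∨ q = .a 2 := by decide +kernel
      refine (Nat.card_le_card_of_injective (β := ({1, .a 2} : Finset (QuaternionGroup 2)))
        (fun u : r.ker => ⟨e (u : Q), by
          rcases this (e (u : Q)) (by rw [← map_mul, hsub, map_one]) with h | h <;> simp [h]⟩) ?_).trans ?_
      · intro u v h
        exact Subtype.ext (e.injective (congrArg Subtype.val h))
      · rw [Nat.card_eq_fintype_card, Fintype.card_coe]
        exact Finset.card_le_two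
    have h1 := r.ker.card_mul_index
    rw [Subgroup.index_ker, show Nat.card Q = 8 by
      rw [Nat.card_congr e.toEquiv, Nat.card_eq_fintype_card, QuaternionGroup.card]] at h1
    have hle : r.range ≤ F.range := by
      rintro _ ⟨u, rfl⟩
      exact ⟨(u : G), rfl⟩
    have hd := Subgroup.card_dvd_of_le hle
    have h3 : 3 ∣ Nat.card F.range := by
      rw [← hs3, ← Subgroup.orderOf_mk (H := F.range) (F s) ⟨s, rfl⟩]
      exact orderOf_dvd_natCard _
    have hpos : 0 < Nat.card r.ker := Nat.card_pos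
    have h4 : 4 ∣ Nat.card F.range := by
      interval_cases hh : Nat.card r.ker
      · exact dvd_trans (by norm_num) ((show Nat.card r.range = 8 by omega) ▸ hd)
      · rw [show Nat.card r.range = 4 by omega] at hd; exact hd
    have h12 : 12 ∣ Nat.card F.range := Nat.Coprime.mul_dvd_of_dvd_of_dvd (by norm_num : Nat.Coprime 4 3) h4 h3
    have hi := F.range.card_mul_index
    rw [show Nat.card (Equiv.Perm (Fin 4)) = 24 by rw [Nat.card_eq_fintype_card, Fintype.card_perm]; rfl] at hi
    obtain ⟨j, hj⟩ := h12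
    have hi2 : F.range.index = 1 ∨ F.range.index = 2 := by
      apply (Nat.dvd_prime Nat.prime_two).mp
      rw [hj] at hi
      exact ⟨j, by nlinarith⟩
    rcases hi2 with h | h
    · rw [Subgroup.index_eq_one.mp h]; exact le_top
    · rw [Equiv.Perm.eq_alternatingGroup_of_index_eq_two h]
  refine core_unique hG (Or.inl rfl) permFacts_four hr (L := Q)
    (fun c hc l hl => ((hFk ▸ MonoidHom.mem_ker.mpr hc : c ∈ Subgroup.centralizer (Q : Set G)) l hl).symm)
    hQC ?_ ?_ ?_
  · by_contra hcon
    have h4 : ∀ q : Q, q * q = 1 := fun q => Subtype.ext (hQC q q.2 (by_contra fun h => hcon ⟨q, q.2, h⟩))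
    have := h4 (e.symm (QuaternionGroup.xa 0))
    rw [← map_mul, e.symm.map_eq_one_iff] at this
    revert this; decide +kernel
  · intro g
    -- the kernel contains the non-central commutators
    by_contra hZ
    haveI := hZ
    set N := g.ker
    have hsN : s ∈ N := dihedral_odd hso (by rw [← map_pow, pow_orderOf_eq_one, map_one])
    have hne : (N.map F) ≠ ⊥ := fun h => by
      have : F s ∈ N.map F := ⟨s, hsN, rfl⟩
      rw [h, Subgroup.mem_bot] at this
      rw [this, orderOf_one] at hs3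
      norm_num at hs3
    obtain ⟨hx, hy⟩ := permFacts_four.mem _ hne fun a m hm => by
      obtain ⟨k, hk, rfl⟩ := hm
      obtain ⟨w, hw⟩ := hr a.2
      exact ⟨w * k * w⁻¹, (inferInstance : N.Normal).conj_mem k hk w, by rw [map_mul, map_mul, map_inv, hw]⟩
    obtain ⟨h1, h2, h3, h4, h5, h6, -⟩ := permFacts_four.dbl_spec
    haveI : IsZGroup (F.comp N.subtype).range := IsZGroup.of_surjective (MonoidHom.rangeRestrict_surjective _)
    rw [show N.map F = (F.comp N.subtype).range by rw [MonoidHom.range_comp, Subgroup.range_subtype]] at hx hy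
    exact not_isZGroup_of_dbl (x := (⟨_, hx⟩ : (F.comp N.subtype).range)) (y := ⟨_, hy⟩)
      (Subtype.ext h1) (Subtype.ext h2) (fun e => h3 (congrArg Subtype.val e))
      (fun e => h4 (congrArg Subtype.val e)) (fun e => h5 (congrArg Subtype.val e)) (Subtype.ext h6) inferInstance
  · rw [hFk]
    exact hG.isZGroup_of_sq _ fun c hc ⟨k, hk⟩ => hG.centralizer_quaternion e hc hk

/-- The map of the generalised quaternion group onto the four-group. -/
def toFour {n : ℕ} (q : QuaternionGroup n) : DihedralGroup 2 :=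
  match q with
  | .a i => .r (ZMod.castHom (dvd_mul_right 2 n) (ZMod 2) i)
  | .xa i => .sr (ZMod.castHom (dvd_mul_right 2 n) (ZMod 2) i)

theorem two_case {G : Type*} [Group G] [Finite G] (hG : IsFPF G) (h : Cfsg.HasNormalPComplement 2 G) :
    ∃! N : Subgroup G, N.Normal ∧ (∀ (p : ℕ) [Fact p.Prime] (P : Sylow p N), IsCyclic P) ∧ QuotientType N := by
  obtain ⟨P, W, hW, hc⟩ := h
  haveI := hW
  have hWodd : Odd (Nat.card W) := by
    rw [Nat.odd_iff, ← Nat.two_dvd_ne_zero]
    intro h2
    have := P.not_dvd_index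
    rw [hc.index_eq_card] at this
    exact this h2
  have hWP : ∀ g : G, ∃ w ∈ W, ∃ p : P, g = w * (p : G) := fun g => by
    obtain ⟨⟨w, p⟩, hwp⟩ := hc.2 g
    exact ⟨w, w.2, p, hwp.symm⟩
  have hWN : ∀ {k : ℕ} (T : G →* DihedralGroup 2) (w : G), w ∈ W → k = orderOf w → T w = 1 := fun T w hw hk =>
    dihedral_odd (hWodd.of_dvd_nat (Subgroup.orderOf_dvd_natCard W hw)) (by rw [← map_pow, pow_orderOf_eq_one, map_one])
  -- no map onto `Alt(4)`
  have hnoperm : ∀ {n : ℕ} {hn : 4 ≤ n}, PermFacts n hn → ∀ T : G →* Equiv.Perm (Fin n),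
      alternatingGroup (Fin n) ≤ T.range → False := by
    intro n hn hf T hr
    obtain ⟨h1, -, h3, -, -, -, a, ha⟩ := hf.dbl_spec
    by_cases hne : W.map T = ⊥
    · -- the alternating group would be a two-group
      obtain ⟨σ, hσ⟩ : ∃ σ : alternatingGroup (Fin n), orderOf (σ : Equiv.Perm (Fin n)) = 3 := by
        set p : Equiv.Perm (Fin n) := Equiv.swap ⟨0, by omega⟩ ⟨1, by omega⟩ * Equiv.swap ⟨0, by omega⟩ ⟨2, by omega⟩
        have hp3 : p.IsThreeCycle :=
          Equiv.Perm.isThreeCycle_swap_mul_swap_same (by simp) (by simp) (by simp)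
        exact ⟨⟨p, hp3.mem_alternatingGroup⟩, hp3.orderOf⟩
      obtain ⟨g, hg⟩ := hr σ.2
      obtain ⟨w, hw, p, rfl⟩ := hWP g
      have hw1 : T w = 1 := by rw [← Subgroup.mem_bot, ← hne]; exact ⟨w, hw, rfl⟩
      rw [map_mul, hw1, one_mul] at hg
      obtain ⟨k, hk⟩ := IsPGroup.iff_orderOf.mp P.isPGroup' p
      have h5 := orderOf_map_dvd T (p : G)
      rw [hg, hσ, Subgroup.orderOf_coe, hk] at h5
      have := Nat.le_of_dvd (by norm_num) ((Nat.Prime.dvd_of_dvd_pow Nat.prime_three h5))
      omega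
    · obtain ⟨⟨w, hw, hwx⟩, -⟩ := hf.mem _ hne fun b m hm => by
        obtain ⟨k, hk, rfl⟩ := hm
        obtain ⟨u, hu⟩ := hr b.2
        exact ⟨u * k * u⁻¹, (inferInstance : W.Normal).conj_mem k hk u, by rw [map_mul, map_mul, map_inv, hu]⟩
      have h5 := orderOf_map_dvd T w
      haveI : Fact (Nat.Prime 2) := ⟨Nat.prime_two⟩
      rw [hwx, orderOf_eq_prime (p := 2) (by rw [pow_two, h1]) h3] at h5
      exact Nat.two_dvd_ne_zero.mpr (Nat.odd_iff.mp hWodd) (h5.trans (Subgroup.orderOf_dvd_natCard W hw))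
  rcases hG.sylow_shape (P : Subgroup G) P.isPGroup' with hcyc | ⟨-, m, ⟨e⟩⟩
  · -- all Sylow subgroups are cyclic
    haveI hZ : IsZGroup G := ⟨fun p hp R => by
      haveI := Fact.mk hp
      by_cases hp2 : p = 2
      · subst hp2
        haveI := hcyc
        exact (MulEquiv.isCyclic (P.equiv R)).mp inferInstance
      · exact hG.isCyclic_odd hp2 _ R.isPGroup'⟩
    refine ⟨⊤, ⟨inferInstance, fun p hp R => ?_, Or.inl rfl⟩, ?_⟩
    · haveI : IsZGroup (⊤ : Subgroup G) := inferInstance
      exact IsZGroup.isZGroup p hp.out R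
    · rintro N ⟨hNn, -, hNt⟩
      rcases quotientType_cases hNt with h | ⟨f, hf, -⟩ | ⟨n, hn, hf, f, -, hr⟩
      · exact h
      · exfalso
        haveI : IsZGroup (DihedralGroup 2) := IsZGroup.of_surjective hf
        exact not_isZGroup_of_dbl (x := (DihedralGroup.r 1 : DihedralGroup 2)) (y := .sr 0) (dihedral_sq _)
          (dihedral_sq _) (by decide) (by decide) (by decide) (by decide +kernel) inferInstance
      · exact absurd hr (fun hr => hnoperm hf f hr)
  -- a generalised quaternion Sylow subgroup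
  set n := 2 ^ (m + 1) with hn
  have hn2 : (n : ZMod 2) = 0 := by
    rw [hn, Nat.cast_pow, show ((2 : ℕ) : ZMod 2) = 0 from rfl, zero_pow (by omega)]
  let r : QuaternionGroup n →* DihedralGroup 2 := MonoidHom.mk' toFour fun a b => by
    have hc : ZMod.castHom (dvd_mul_right 2 n) (ZMod 2) (n : ZMod (2 * n)) = 0 := by rw [map_natCast, hn2]
    rcases a with i | i <;> rcases b with j | j <;>
      simp only [QuaternionGroup.a_mul_a, QuaternionGroup.a_mul_xa, QuaternionGroup.xa_mul_a,
        QuaternionGroup.xa_mul_xa, DihedralGroup.r_mul_r, DihedralGroup.r_mul_sr, DihedralGroup.sr_mul_r,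
        DihedralGroup.sr_mul_sr, toFour, map_add, map_sub, hc, zero_add]
  set π := QuotientGroup.mk' W
  have hbij : Function.Bijective (π.comp (P : Subgroup G).subtype) := by
    refine ⟨?_, fun x => ?_⟩
    · rw [injective_iff_map_eq_one]
      intro p hp
      have hpW : (p : G) ∈ W := (QuotientGroup.eq_one_iff _).mp hp
      exact Subtype.ext (Subgroup.disjoint_def.mp hc.disjoint hpW p.2)
    · obtain ⟨g, rfl⟩ := QuotientGroup.mk'_surjective W x
      obtain ⟨w, hw, p, rfl⟩ := hWP g
      exact ⟨p, by show π (p : G) = π (w * p); rw [map_mul, show π w = 1 from (QuotientGroup.eq_one_iff _).mpr hw, one_mul]⟩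
  set ε := MulEquiv.ofBijective _ hbij
  set f₀ : G →* DihedralGroup 2 := r.comp (e.toMonoidHom.comp (ε.symm.toMonoidHom.comp π))
  have hf₀p : ∀ p : P, f₀ (p : G) = r (e p) := fun p => by
    show r (e (ε.symm (π (p : G)))) = r (e p)
    rw [show π (p : G) = ε p from rfl, ε.symm_apply_apply]
  have hf₀ : Function.Surjective f₀ := by
    intro t
    obtain ⟨q, hq⟩ : ∃ q, r q = t := by
      rcases t with i | i
      · obtain ⟨j, hj⟩ := ZMod.ringHom_surjective (ZMod.castHom (dvd_mul_right 2 n) (ZMod 2)) i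
        exact ⟨.a j, congrArg DihedralGroup.r hj⟩
      · obtain ⟨j, hj⟩ := ZMod.ringHom_surjective (ZMod.castHom (dvd_mul_right 2 n) (ZMod 2)) i
        exact ⟨.xa j, congrArg DihedralGroup.sr hj⟩
    exact ⟨(e.symm q : P), by rw [hf₀p, e.apply_symm_apply, hq]⟩
  -- its kernel consists of products of odd elements and squares
  have hsquare : ∀ q : QuaternionGroup n, r q = 1 → ∃ u, u * u = q := by
    rintro (i | i) hi
    · have hi' : ZMod.castHom (dvd_mul_right 2 n) (ZMod 2) i = 0 := DihedralGroup.r.inj hi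
      rw [← ZMod.natCast_zmod_val i, map_natCast, ZMod.natCast_eq_zero_iff_even] at hi'
      obtain ⟨j, hj⟩ := hi'
      exact ⟨.a (j : ℕ), by rw [QuaternionGroup.a_mul_a, ← Nat.cast_add, ← hj, ZMod.natCast_zmod_val]⟩
    · cases hi
  have hle : ∀ T : G →* DihedralGroup 2, f₀.ker ≤ T.ker := by
    intro T g hg
    obtain ⟨w, hw, p, rfl⟩ := hWP g
    rw [MonoidHom.mem_ker, map_mul, hWN f₀ w hw rfl, one_mul, hf₀p] at hg
    obtain ⟨u, hu⟩ := hsquare _ hg
    rw [MonoidHom.mem_ker, map_mul, hWN T w hw rfl, one_mul,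
      show p = e.symm u * e.symm u from e.injective (by rw [map_mul, e.apply_symm_apply, hu]),
      Subgroup.coe_mul, map_mul, dihedral_sq]
  have hZ : IsZGroup f₀.ker := by
    refine ⟨fun p hp R => ?_⟩
    haveI := Fact.mk hp
    by_cases hp2 : p = 2
    swap
    · exact (hG.subgroup _).isCyclic_odd hp2 _ R.isPGroup'
    subst hp2
    -- the two-part embeds in a cyclic group
    have hmem : ∀ x : (R : Subgroup f₀.ker), e (ε.symm (π ((x : f₀.ker) : G))) ∈
        Subgroup.zpowers (QuaternionGroup.a 1 : QuaternionGroup n) := by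
      intro x
      obtain ⟨u, hu⟩ := hsquare _ (x : f₀.ker).2
      rw [show e (ε.symm (π ((x : f₀.ker) : G))) = u * u from hu.symm]
      rcases u with i | i
      · rw [QuaternionGroup.a_mul_a, ← ZMod.natCast_zmod_val (i + i), ← QuaternionGroup.a_one_pow]
        exact Subgroup.npow_mem_zpowers _ _
      · rw [QuaternionGroup.xa_mul_xa, add_sub_cancel_right, ← QuaternionGroup.a_one_pow]
        exact Subgroup.npow_mem_zpowers _ _
    let j : (R : Subgroup f₀.ker) →* Subgroup.zpowers (QuaternionGroup.a 1 : QuaternionGroup n) :=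
      (e.toMonoidHom.comp (ε.symm.toMonoidHom.comp (π.comp (f₀.ker.subtype.comp (R : Subgroup f₀.ker).subtype)))).codRestrict _ hmem
    refine isCyclic_of_injective j ?_
    rw [injective_iff_map_eq_one]
    intro x hx
    have h1 : e (ε.symm (π ((x : f₀.ker) : G))) = 1 := congrArg Subtype.val hx
    rw [e.map_eq_one_iff, ε.symm.map_eq_one_iff] at h1
    have hxW : ((x : f₀.ker) : G) ∈ W := (QuotientGroup.eq_one_iff _).mp h1
    obtain ⟨k, hk⟩ := IsPGroup.iff_orderOf.mp R.isPGroup' x
    have h2 := Subgroup.orderOf_dvd_natCard W hxW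
    rw [Subgroup.orderOf_coe, Subgroup.orderOf_coe, hk] at h2
    rcases k with _ | k
    · rw [pow_zero, orderOf_eq_one_iff] at hk; exact hk
    · exact absurd ((dvd_pow_self 2 k.succ_ne_zero).trans h2) (Nat.two_dvd_ne_zero.mpr (Nat.odd_iff.mp hWodd))
  refine ⟨f₀.ker, ⟨inferInstance, fun p hp R => hZ.isZGroup p hp.out R, Or.inr (Or.inl ⟨f₀, hf₀, rfl⟩)⟩, ?_⟩
  rintro N ⟨hNn, hNc, hNt⟩
  rcases quotientType_cases hNt with h | ⟨T, hT, hTk⟩ | ⟨k, hk, hf, T, -, hr⟩
  · exfalso
    subst h
    haveI : IsZGroup (⊤ : Subgroup G) := ⟨fun p hp R => @hNc p ⟨hp⟩ R⟩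
    haveI : IsZGroup (DihedralGroup 2) :=
      IsZGroup.of_surjective (f := f₀.comp (⊤ : Subgroup G).subtype) fun t => by
        obtain ⟨g, hg⟩ := hf₀ t
        exact ⟨⟨g, trivial⟩, hg⟩
    exact not_isZGroup_of_dbl (x := (DihedralGroup.r 1 : DihedralGroup 2)) (y := .sr 0) (dihedral_sq _)
      (dihedral_sq _) (by decide) (by decide) (by decide) (by decide +kernel) inferInstance
  · rw [← hTk]
    refine (Subgroup.eq_of_le_of_card_ge (hle T) (le_of_eq ?_)).symm
    have h1 := f₀.ker.card_mul_index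
    have h2 := T.ker.card_mul_index
    rw [Subgroup.index_ker, MonoidHom.range_eq_top.mpr hf₀, Subgroup.card_top] at h1
    rw [Subgroup.index_ker, MonoidHom.range_eq_top.mpr hT, Subgroup.card_top] at h2
    exact Nat.eq_of_mul_eq_mul_right Nat.card_pos (h2.trans h1.symm)
  · exact (hnoperm hf T hr).elim

/-- Let G be a finite group that occurs as a Frobenius complement. Then G has exactly one normal subgroup N such that every Sylow subgroup of N is cyclic and the quotient of G by N is trivial or isomorphic to one of the following five groups: the Klein four-group, the alternating group of degree 4, the symmetric group of degree 4, the alternating group of degree 5, the symmetric group of degree 5. (The quotient is described by a surjective homomorphism with kernel N; the Klein four-group is written as the dihedral group of order 4.) -/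
theorem result {G : Type*} [Group G] [Finite G]
    (hFC : (∃ (L : Type) (_ : Group L) (_ : Finite L) (H : Subgroup L), Cfsg.IsFrobeniusComplement H ∧ Nonempty (G ≃* H))) :
    ∃! N : Subgroup G, N.Normal ∧ (∀ (p : ℕ) [Fact p.Prime] (P : Sylow p N), IsCyclic P) ∧
      (N = ⊤ ∨
        (∃ f : G →* DihedralGroup 2, Function.Surjective f ∧ f.ker = N) ∨
        (∃ f : G →* alternatingGroup (Fin 4), Function.Surjective f ∧ f.ker = N) ∨
        (∃ f : G →* Equiv.Perm (Fin 4), Function.Surjective f ∧ f.ker = N) ∨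
        (∃ f : G →* alternatingGroup (Fin 5), Function.Surjective f ∧ f.ker = N) ∨
        (∃ f : G →* Equiv.Perm (Fin 5), Function.Surjective f ∧ f.ker = N)) := by

  obtain ⟨L, _, _, H, hH, ⟨e⟩⟩ := hFC
  have hG : Lib.Frobenius.Zassenhaus.IsFPF G := (Lib.Frobenius.Zassenhaus.IsFPF.of_complement hH).of_equiv e.symm
  by_cases hs : Group.IsSolvable G
  · rcases hG.qCase_or_npc hs with h | h
    · exact four_case hG h
    · exact two_case hG h
  · exact five_case hG hs

end Cfsg.Agent.S4291
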