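import Cfsg.Statements.S4292
import Cfsg.Agent.Lib.PGroups.NormZero

set_option autoImplicit false
open Cfsg

namespace Cfsg.Agent.S4292

open Cfsg.Agent.Lib.PGroups.NormZero

theorem nz_left {A B : Type*} [Group A] [Group B] (h : NZ (A × B)) : NZ A := by
  obtain ⟨f, hf, hs⟩ := h
  obtain ⟨⟨a₀, b₀⟩, h0⟩ := Function.ne_iff.mp hf
  refine ⟨fun a => f (a, b₀), Function.ne_iff.mpr ⟨a₀, h0⟩, fun c hc x y => ?_⟩
  have ho : orderOf ((c, 1) : A × B) = orderOf c := by simp [Prod.orderOf]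
  have h1 := hs (c, 1) (by rwa [ho]) (x, b₀) (y, 1)
  rw [ho] at h1
  simpa using h1

theorem nz_right {A B : Type*} [Group A] [Group B] (h : NZ (A × B)) : NZ B :=
  nz_left (h.of_mulEquiv MulEquiv.prodComm)

theorem nz_coprime {A B : Type*} [Group A] [Finite A] [Group B] [Finite B] (h : NZ (A × B)) :
    (Nat.card A).Coprime (Nat.card B) := by
  obtain ⟨f, hf, hs⟩ := h
  refine Nat.coprime_of_dvd fun p hp hA hB => hf (funext fun x => ?_)
  haveI := Fact.mk hp
  obtain ⟨a, ha⟩ := exists_prime_orderOf_dvd_card' p hA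
  obtain ⟨b, hb⟩ := exists_prime_orderOf_dvd_card' p hB
  have hl : ∀ j, orderOf ((a, b ^ j) : A × B) = p := fun j => by
    refine orderOf_eq_prime (Prod.ext ?_ ?_) fun e => ?_
    · show a ^ p = 1
      rw [← ha, pow_orderOf_eq_one]
    · show (b ^ j) ^ p = 1
      rw [← pow_mul, mul_comm, pow_mul, ← hb, pow_orderOf_eq_one, one_pow]
    · have : a = 1 := congrArg Prod.fst e
      rw [this, orderOf_one] at ha
      exact hp.one_lt.ne ha
  have hl0 : orderOf ((1, b) : A × B) = p := by simp [Prod.orderOf, hb]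
  let F : ℕ → ℕ → ℤ := fun i m => f (x * (a ^ i, b ^ m))
  have hline : ∀ j, ∑ i ∈ Finset.range p, F i (i * j) = 0 := fun j => by
    have h1 := hs (a, b ^ j) (hl j ▸ hp) x 1
    rw [hl j] at h1
    simpa [F, ← pow_mul, mul_comm] using h1
  have hcol : ∀ i, ∑ m ∈ Finset.range p, F i m = 0 := fun i => by
    have h1 := hs (1, b) (hl0 ▸ hp) (x * (a ^ i, 1)) 1
    rw [hl0] at h1
    simpa [F, mul_assoc] using h1
  have hmod : ∀ i m, F i (m % p) = F i m := fun i m => by
    show f (x * (a ^ i, b ^ (m % p))) = _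
    rw [← hb, pow_mod_orderOf]
  have h0 : ∑ i ∈ Finset.range p, ∑ j ∈ Finset.range p, F i (i * j) = 0 := by
    rw [Finset.sum_comm]; exact Finset.sum_eq_zero fun j _ => hline j
  have hrest : ∀ i ∈ Finset.range p, i ≠ 0 → ∑ j ∈ Finset.range p, F i (i * j) = 0 := by
    intro i hi hi0
    rw [← hcol i, Finset.sum_congr rfl (fun j _ => (hmod i (i * j)).symm)]
    have hcop : Nat.Coprime i p := (hp.coprime_iff_not_dvd.mpr fun hd =>
      hi0 (Nat.eq_zero_of_dvd_of_lt hd (Finset.mem_range.mp hi))).symm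
    refine Finset.sum_nbij (fun j => i * j % p) (fun j _ => Finset.mem_coe.mpr
      (Finset.mem_range.mpr (Nat.mod_lt _ hp.pos))) ?_ ?_ (fun j _ => rfl)
    · intro j hj k hk he
      have h1 : j ≡ k [MOD p] := Nat.ModEq.cancel_left_of_coprime (c := i) (Nat.coprime_comm.mp hcop) he
      exact Nat.ModEq.eq_of_lt_of_lt h1 (Finset.mem_range.mp hj) (Finset.mem_range.mp hk)
    · refine Finset.surjOn_of_injOn_of_card_le _ (fun j _ => Finset.mem_coe.mpr
        (Finset.mem_range.mpr (Nat.mod_lt _ hp.pos))) ?_ le_rfl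
      intro j hj k hk he
      have h1 : j ≡ k [MOD p] := Nat.ModEq.cancel_left_of_coprime (c := i) (Nat.coprime_comm.mp hcop) he
      exact Nat.ModEq.eq_of_lt_of_lt h1 (Finset.mem_range.mp hj) (Finset.mem_range.mp hk)
  rw [Finset.sum_eq_single 0 hrest (fun hn => absurd (Finset.mem_range.mpr hp.pos) hn)] at h0
  have hF : F 0 0 = f x := by
    show f (x * (a ^ 0, b ^ 0)) = f x
    rw [pow_zero, pow_zero, Prod.mk_one_one, mul_one]
  simp only [zero_mul, hF, Finset.sum_const, Finset.card_range, nsmul_eq_mul] at h0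
  exact (mul_eq_zero.mp h0).resolve_left (by exact_mod_cast hp.ne_zero)

theorem nz_prod {A B : Type*} [Group A] [Finite A] [Group B] [Finite B] (hA : NZ A) (hB : NZ B)
    (hcop : (Nat.card A).Coprime (Nat.card B)) : NZ (A × B) := by
  obtain ⟨f, hf, hfs⟩ := hA
  obtain ⟨g, hg, hgs⟩ := hB
  obtain ⟨a₀, ha₀⟩ := Function.ne_iff.mp hf
  obtain ⟨b₀, hb₀⟩ := Function.ne_iff.mp hg
  refine ⟨fun v => f v.1 * g v.2, Function.ne_iff.mpr ⟨(a₀, b₀), mul_ne_zero ha₀ hb₀⟩, ?_⟩
  rintro ⟨a, b⟩ hc ⟨x, x'⟩ ⟨y, y'⟩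
  set q := orderOf ((a, b) : A × B) with hq
  have ha : orderOf a ∣ q := hq ▸ orderOf_fst_dvd_orderOf
  have hb : orderOf b ∣ q := hq ▸ orderOf_snd_dvd_orderOf
  rcases (Nat.dvd_prime hc).mp ha with h1 | h1
  · have ha1 : a = 1 := orderOf_eq_one_iff.mp h1
    have hbq : orderOf b = q := by rw [hq, Prod.orderOf]; simp [ha1]
    subst ha1
    simp only [Prod.pow_mk, Prod.mk_mul_mk, one_pow, mul_one, ← Finset.mul_sum]
    rw [← hbq, hgs b (hbq ▸ hc) x' y', mul_zero]
  · rcases (Nat.dvd_prime hc).mp hb with h2 | h2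
    · have hb1 : b = 1 := orderOf_eq_one_iff.mp h2
      subst hb1
      simp only [Prod.pow_mk, Prod.mk_mul_mk, one_pow, mul_one, ← Finset.sum_mul]
      rw [← h1, hfs a (h1 ▸ hc) x y, zero_mul]
    · exfalso
      have := Nat.dvd_gcd (h1 ▸ orderOf_dvd_natCard a) (h2 ▸ orderOf_dvd_natCard b)
      rw [hcop.gcd_eq_one] at this
      exact hc.not_dvd_one this


/-- Let A and B be nontrivial finite groups. Then the direct product A × B occurs as a Frobenius complement if and only if A and B both occur as Frobenius complements and the orders of A and B are coprime. -/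
theorem result {A B : Type*} [Group A] [Finite A] [Nontrivial A] [Group B] [Finite B] [Nontrivial B] :
    (∃ (L : Type) (_ : Group L) (_ : Finite L) (H : Subgroup L), Cfsg.IsFrobeniusComplement H ∧ Nonempty ((A × B) ≃* H)) ↔
    ((∃ (L : Type) (_ : Group L) (_ : Finite L) (H : Subgroup L), Cfsg.IsFrobeniusComplement H ∧ Nonempty (A ≃* H)) ∧
     (∃ (L : Type) (_ : Group L) (_ : Finite L) (H : Subgroup L), Cfsg.IsFrobeniusComplement H ∧ Nonempty (B ≃* H)) ∧
     (Nat.card A).Coprime (Nat.card B)) := by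
  constructor
  · rintro ⟨L, _, _, H, hH, ⟨e⟩⟩
    have h := (nz_of_complement hH).of_mulEquiv e.symm
    exact ⟨complement_of_nz (nz_left h), complement_of_nz (nz_right h), nz_coprime h⟩
  · rintro ⟨⟨L, _, _, H, hH, ⟨e⟩⟩, ⟨L', _, _, H', hH', ⟨e'⟩⟩, hcop⟩
    exact complement_of_nz (nz_prod ((nz_of_complement hH).of_mulEquiv e.symm)
      ((nz_of_complement hH').of_mulEquiv e'.symm) hcop)

end Cfsg.Agent.S4292
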