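import Cfsg.Statements.S4293
import Cfsg.Agent.Lib.PGroups.FrobExamples
import Mathlib

set_option autoImplicit false
open Cfsg

namespace Cfsg.Agent.S4293


section
variable {D : Type*} [DivisionRing D] (H : Subgroup Dˣ)

def cc (h : H) : D := ((h : Dˣ) : D)

def lat : Submodule ℤ D := Submodule.span ℤ (Set.range (cc H))

theorem mul_mem_lat (h : H) {x : D} (hx : x ∈ lat H) : cc H h * x ∈ lat H := by
  have hle : lat H ≤ (lat H).comap (LinearMap.mulLeft ℤ (cc H h)) := by
    rw [lat, Submodule.span_le]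
    rintro _ ⟨k, rfl⟩
    exact Submodule.subset_span ⟨h * k, by simp [cc]⟩
  exact hle hx

noncomputable def latAct : H →* (lat H →ₗ[ℤ] lat H) :=
  { toFun := fun h => LinearMap.restrict (LinearMap.mulLeft ℤ (cc H h)) (fun _ hx => mul_mem_lat H h hx)
    map_one' := by
      refine LinearMap.ext fun x => Subtype.ext ?_
      show cc H 1 * (x : D) = x
      simp [cc]
    map_mul' := fun a b => by
          refine LinearMap.ext fun x => Subtype.ext ?_
          show cc H (a * b) * (x : D) = cc H a * (cc H b * x)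
          simp [cc, mul_assoc] }

end

theorem geom_sum_eq_zero' {D : Type*} [DivisionRing D] {x : D} (hx : x ≠ 1) {n : ℕ} (hn : x ^ n = 1) :
    ∑ i ∈ Finset.range n, x ^ i = 0 := by
  have h := mul_geom_sum x n
  rw [hn, sub_self] at h
  exact (mul_eq_zero.mp h).resolve_left (sub_ne_zero.mpr hx)


/-- A nontrivial finite subgroup of the multiplicative group of a division ring occurs as a Frobenius complement of some finite Frobenius group. -/
theorem result {D : Type*} [DivisionRing D] (H : Subgroup Dˣ) [Finite H] (hH : H ≠ ⊥) :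
    ∃ (L : Type) (_ : Group L) (_ : Finite L) (C : Subgroup L), Cfsg.IsFrobeniusComplement C ∧ Nonempty (H ≃* C) := by

  classical
  haveI : Nontrivial H := (Subgroup.nontrivial_iff_ne_bot H).mpr hH
  set L := lat H with hL
  haveI : Module.Finite ℤ L := Module.Finite.span_of_finite ℤ (Set.finite_range _)
  have hone : (1 : D) ∈ L := Submodule.subset_span ⟨1, by simp [cc]⟩
  obtain ⟨r, hr0, hcase⟩ : ∃ r : ℕ, r ≠ 0 ∧
      ((r : D) = 0 ∨ (CharZero D ∧ r.Prime ∧ Nat.card H < r)) := by
    rcases em (CharZero D) with h | h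
    · obtain ⟨r, hlt, hp⟩ := Nat.exists_infinite_primes (Nat.card H + 1)
      exact ⟨r, hp.ne_zero, Or.inr ⟨h, hp, hlt⟩⟩
    · obtain ⟨p, hp⟩ := CharP.exists D
      refine ⟨p, ?_, Or.inl (CharP.cast_eq_zero D p)⟩
      rintro rfl
      exact h (CharP.charP_to_charZero D)
  let R : Submodule ℤ L := LinearMap.range ((r : ℤ) • (LinearMap.id : L →ₗ[ℤ] L))
  have hmemR : ∀ x : L, (r : ℤ) • x ∈ R := fun x => ⟨x, rfl⟩
  have hrV : ∀ v : L ⧸ R, r • v = 0 := by
    intro v
    obtain ⟨x, rfl⟩ := Submodule.Quotient.mk_surjective R v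
    rw [← natCast_zsmul, ← Submodule.Quotient.mk_smul, Submodule.Quotient.mk_eq_zero]
    exact hmemR x
  haveI : Finite (L ⧸ R) := by
    refine Module.finite_of_fg_torsion (L ⧸ R) ?_
    intro v
    refine ⟨⟨(r : ℤ), mem_nonZeroDivisors_iff_ne_zero.mpr (by exact_mod_cast hr0)⟩, ?_⟩
    show (r : ℤ) • v = 0
    rw [natCast_zsmul]; exact hrV v
  have hRtop : R ≠ ⊤ := by
    intro htop
    rcases hcase with h0 | ⟨hc0, hp, -⟩
    · obtain ⟨x, hx⟩ : (⟨1, hone⟩ : L) ∈ R := htop ▸ Submodule.mem_top
      have h1 := congrArg Subtype.val hx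
      simp [h0] at h1
    · haveI := hc0
      haveI : Module.IsTorsionFree ℤ D := inferInstance
      haveI : Module.Free ℤ L := Module.free_of_finite_type_torsion_free'
      let b := Module.Free.chooseBasis ℤ L
      haveI : Nontrivial L := ⟨⟨⟨1, hone⟩, 0, fun h => one_ne_zero (congrArg Subtype.val h)⟩⟩
      obtain ⟨i⟩ := b.index_nonempty
      obtain ⟨x, hx⟩ : b i ∈ R := htop ▸ Submodule.mem_top
      have h1 := DFunLike.congr_fun (congrArg b.repr hx) i
      simp at h1
      have h2 : (r : ℤ) ∣ 1 := ⟨_, h1.symm⟩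
      have h3 : r ∣ 1 := by exact_mod_cast h2
      exact hp.ne_one (Nat.dvd_one.mp h3)
  haveI : Nontrivial (L ⧸ R) := Submodule.Quotient.nontrivial_iff.mpr hRtop
  have hinv : ∀ h : H, R ≤ R.comap (latAct H h) := by
    rintro h _ ⟨x, rfl⟩
    exact ⟨latAct H h x, by simp⟩
  let ρ : H →* AddMonoid.End (L ⧸ R) :=
    { toFun := fun h => (R.mapQ R (latAct H h) (hinv h)).toAddMonoidHom
      map_one' := by
        refine AddMonoidHom.ext fun v => ?_
        obtain ⟨x, rfl⟩ := Submodule.Quotient.mk_surjective R v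
        show Submodule.Quotient.mk (latAct H 1 x) = Submodule.Quotient.mk x
        rw [map_one]; rfl
      map_mul' := fun a b => by
          refine AddMonoidHom.ext fun v => ?_
          obtain ⟨x, rfl⟩ := Submodule.Quotient.mk_surjective R v
          show Submodule.Quotient.mk (latAct H (a * b) x) = Submodule.Quotient.mk (latAct H a (latAct H b x))
          rw [map_mul]; rfl }
  have hρ : ∀ h x, ρ h (Submodule.Quotient.mk x) = Submodule.Quotient.mk (latAct H h x) := fun _ _ => rfl
  refine Cfsg.Agent.Lib.PGroups.exists_frobeniusComplement_of_addAction ρ fun h hh v hv => ?_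
  have hh' : cc H h ≠ 1 := fun e => hh (Subtype.ext (Units.ext (by simpa [cc] using e)))
  obtain ⟨x, rfl⟩ := Submodule.Quotient.mk_surjective R v
  rcases hcase with h0 | ⟨-, hp, hlt⟩
  · rw [hρ, Submodule.Quotient.eq] at hv
    obtain ⟨y, hy⟩ := hv
    have h1 := congrArg Subtype.val hy
    simp [h0] at h1
    have h2 : (cc H h - 1) * (x : D) = 0 := by
      rw [sub_mul, one_mul]; exact h1.symm
    have h3 : x = 0 := Subtype.ext ((mul_eq_zero.mp h2).resolve_left (sub_ne_zero.mpr hh'))
    rw [h3, Submodule.Quotient.mk_zero]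
  · have hfix : ∀ i : ℕ, ρ (h ^ i) (Submodule.Quotient.mk x) = Submodule.Quotient.mk x := by
      intro i
      induction i with
      | zero => rw [pow_zero, map_one]; rfl
      | succ i ih =>
        rw [pow_succ, map_mul, AddMonoid.End.coe_mul, Function.comp_apply, hv, ih]
    have hpow : ∀ i : ℕ, cc H (h ^ i) = cc H h ^ i := fun i => by simp [cc]
    have hsum : ∑ i ∈ Finset.range (orderOf h), latAct H (h ^ i) x = 0 := by
      apply Subtype.ext
      rw [Submodule.coe_sum]
      show ∑ i ∈ Finset.range (orderOf h), cc H (h ^ i) * (x : D) = ((0 : L) : D)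
      simp only [hpow]
      rw [← Finset.sum_mul, geom_sum_eq_zero' hh' (by rw [← hpow, pow_orderOf_eq_one]; simp [cc]),
        zero_mul]
      rfl
    have h1 : (orderOf h) • (Submodule.Quotient.mk x : L ⧸ R) = 0 := by
      have h2 := congrArg (R.mkQ) hsum
      rw [map_sum, map_zero] at h2
      simp only [Submodule.mkQ_apply, ← hρ, hfix, Finset.sum_const, Finset.card_range] at h2
      exact h2
    have hcop : Nat.Coprime r (orderOf h) := by
      rw [hp.coprime_iff_not_dvd]
      intro hd
      have := Nat.le_of_dvd (orderOf_pos h) hd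
      have := orderOf_le_card (G := H) (x := h)
      omega
    have h3 := Nat.dvd_gcd (addOrderOf_dvd_of_nsmul_eq_zero (hrV (Submodule.Quotient.mk x)))
      (addOrderOf_dvd_of_nsmul_eq_zero h1)
    rw [hcop.gcd_eq_one, Nat.dvd_one, AddMonoid.addOrderOf_eq_one_iff] at h3
    exact h3

end Cfsg.Agent.S4293
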