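import Cfsg.Statements.S4294
import Cfsg.Agent.Lib.Frobenius.Zassenhaus.DivisionRing
import Cfsg.Agent.Lib.Frobenius.Zassenhaus.Structure
import Cfsg.Agent.S4293

set_option autoImplicit false
open Cfsg

namespace Cfsg.Agent.S4294

open Lib.Frobenius.Zassenhaus

/-- The four-cycle used below. -/
def tau : Equiv.Perm (Fin 5) := Equiv.swap 0 1 * Equiv.swap 1 2 * Equiv.swap 2 3

theorem perm_facts : Equiv.Perm.sign tau = -1 ∧ Equiv.Perm.sign (tau * tau) = 1 ∧ tau * tau ≠ 1 ∧
    tau * tau * (tau * tau) = 1 ∧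
    Equiv.Perm.sign (Equiv.swap (0 : Fin 5) 1 * Equiv.swap 2 3) = 1 ∧
    Equiv.swap (0 : Fin 5) 1 * Equiv.swap 2 3 * (Equiv.swap 0 1 * Equiv.swap 2 3) = 1 ∧
    Equiv.swap (0 : Fin 5) 1 * Equiv.swap 2 3 ≠ 1 ∧ tau * tau ≠ Equiv.swap (0 : Fin 5) 1 * Equiv.swap 2 3 ∧
    tau * tau * (Equiv.swap (0 : Fin 5) 1 * Equiv.swap 2 3) = Equiv.swap (0 : Fin 5) 1 * Equiv.swap 2 3 * (tau * tau) ∧
    tau * (Equiv.swap (0 : Fin 5) 1 * Equiv.swap 2 3) * tau⁻¹ =
      tau * tau * (Equiv.swap (0 : Fin 5) 1 * Equiv.swap 2 3) := by decide +kernel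

theorem five_cycle_conj : ∀ σ : alternatingGroup (Fin 5), σ * σ * σ * σ * σ = 1 → σ ≠ 1 →
    ∃ w : alternatingGroup (Fin 5), tau * (σ : Equiv.Perm (Fin 5)) * tau⁻¹ =
      (w : Equiv.Perm (Fin 5)) * ((σ : Equiv.Perm (Fin 5)) * σ) * (w : Equiv.Perm (Fin 5))⁻¹ := by decide +kernel

/-- A finite non-solvable subgroup of the multiplicative group of a division ring is isomorphic to the binary icosahedral group SL(2,5). -/
theorem result {D : Type*} [DivisionRing D] (H : Subgroup Dˣ) [Finite H] (hH : ¬ Group.IsSolvable H) :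
    Nonempty (H ≃* Matrix.SpecialLinearGroup (Fin 2) (ZMod 5)) := by

  classical
  have hne : H ≠ ⊥ := by
    rintro rfl
    exact hH inferInstance
  obtain ⟨L, _, _, C0, hC0, ⟨e0⟩⟩ := Cfsg.Agent.S4293.result H hne
  have hG : IsFPF H := (IsFPF.of_complement hC0).of_equiv e0.symm
  obtain ⟨U, M, hUn, hMn, hU, -, hM30, -, -, -, -, Θ, hΘ, hCM⟩ := hG.nonsolvable hH
  haveI := hUn
  obtain ⟨z, hz, hz1, hzu, -⟩ := center_of_cover hU
  obtain ⟨hUc, f, hf, hker⟩ := id hU
  set φ : H →* D := (Units.coeHom D).comp H.subtype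
  have hφ : Function.Injective φ := fun a b h => Subtype.ext (Units.ext h)
  have hsq : ∀ k : H, k * k = 1 → φ k = 1 ∨ φ k = -1 := fun k hk =>
    DivisionRing.eq_of_mul_self_eq (Commute.one_right _) (by rw [← map_mul, hk, map_one, one_mul])
  have hφz : φ (z : H) = -1 := (hsq _ (congrArg Subtype.val hz)).resolve_left fun e =>
    hz1 (Subtype.ext (hφ (e.trans (map_one φ).symm)))
  have h2 : (2 : D) ≠ 0 := fun h => hz1 (Subtype.ext (hφ (by
    rw [hφz, Subgroup.coe_one, map_one, neg_eq_iff_add_eq_zero, one_add_one_eq_two, h])))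
  set eA := MulEquiv.ofBijective _ (Cfsg.Agent.S2119.result 5 (by norm_num) (by norm_num))
  set F : H →* Equiv.Perm (Fin 5) := eA.symm.toMonoidHom.comp Θ
  have hFk : F.ker = Subgroup.centralizer (U : Set H) := by
    rw [← hΘ]; exact MonoidHom.ker_comp_of_injective _ _ eA.symm.injective
  have hUC : ∀ u : U, F (u : H) = 1 ↔ u * u = 1 := fun u => by
    rw [← MonoidHom.mem_ker, hFk]
    refine ⟨fun hu => ?_, fun hu y hy => hG.central_of_sq (congrArg Subtype.val hu) y⟩
    rw [← hker]
    have hcen : ∀ a : alternatingGroup (Fin 5), (∀ b, a * b = b * a) → a = 1 := by decide +kernel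
    refine hcen _ fun b => ?_
    obtain ⟨w, rfl⟩ := hf b
    rw [← map_mul, ← map_mul, show u * w = w * u from Subtype.ext (hu w w.2).symm]
  set r := F.comp U.subtype with hrdef
  have hr : r.range = alternatingGroup (Fin 5) := by
    have hk : r.ker = f.ker := by
      ext u
      rw [MonoidHom.mem_ker, MonoidHom.mem_ker, hker]
      exact hUC u
    have h1 := r.ker.card_mul_index
    have h2' := f.ker.card_mul_index
    rw [Subgroup.index_ker, hk] at h1
    rw [Subgroup.index_ker, MonoidHom.range_eq_top.mpr hf, Subgroup.card_top,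
      Lib.Frobenius.Zassenhaus.card_alt_five, hUc] at h2'
    rw [hUc] at h1
    rw [show Nat.card f.ker = 2 by omega] at h1
    have hi : r.range.index = 2 := by
      have h4 := r.range.card_mul_index
      rw [show Nat.card r.range = 60 by omega, show Nat.card (Equiv.Perm (Fin 5)) = 120 by
        rw [Nat.card_eq_fintype_card, Fintype.card_perm]; rfl] at h4
      omega
    exact Equiv.Perm.eq_alternatingGroup_of_index_eq_two hi
  have hlift : ∀ σ : Equiv.Perm (Fin 5), Equiv.Perm.sign σ = 1 → ∃ u ∈ U, F u = σ := by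
    intro σ hσ
    obtain ⟨u, hu⟩ : σ ∈ r.range := hr.symm ▸ Equiv.Perm.mem_alternatingGroup.mpr hσ
    exact ⟨u, u.2, hu⟩
  have hsame : ∀ x ∈ U, ∀ y ∈ U, F x = F y → φ x = φ y ∨ φ x = -φ y := by
    intro x hx y hy h
    have h1 : (x * y⁻¹) * (x * y⁻¹) = 1 := congrArg Subtype.val
      ((hUC ⟨x * y⁻¹, mul_mem hx (inv_mem hy)⟩).mp (by rw [map_mul, map_inv, h, mul_inv_cancel]))
    have h3 : φ x = φ (x * y⁻¹) * φ y := by rw [← map_mul, inv_mul_cancel_right]
    rcases hsq _ h1 with e | e <;> rw [h3, e]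
    · exact Or.inl (one_mul _)
    · exact Or.inr (neg_one_mul _)
  have hinv : ∀ x ∈ U, F x * F x = 1 → F x ≠ 1 → φ x * φ x = -1 := by
    intro x hx h hne1
    rw [← map_mul]
    refine (hsq _ (congrArg Subtype.val ((hUC ⟨x * x, mul_mem hx hx⟩).mp (by rw [map_mul]; exact h)))).resolve_left
      fun e => hne1 ?_
    exact (hUC ⟨x, hx⟩).mpr (Subtype.ext (hφ (e.trans (map_one φ).symm)))
  have hanti : ∀ x ∈ U, ∀ y ∈ U, F x * F x = 1 → F x ≠ 1 → F y * F y = 1 → F y ≠ 1 → F x ≠ F y →
      F x * F y = F y * F x → φ x * φ y = -(φ y * φ x) := by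
    intro x hx y hy a1 a2 b1 b2 hne' hc
    rw [← map_mul, ← map_mul]
    refine (hsame _ (mul_mem hx hy) _ (mul_mem hy hx) (by rw [map_mul, map_mul, hc])).resolve_left fun e => hne' ?_
    rw [map_mul, map_mul] at e
    rcases DivisionRing.eq_of_mul_self_eq e ((hinv x hx a1 a2).trans (hinv y hy b1 b2).symm) with h | h
    · rw [hφ h]
    · have : x = y * (z : H) := hφ (by rw [h, map_mul, hφz, mul_neg_one])
      rw [this, map_mul, (hUC z).mpr hz, mul_one]
  obtain ⟨p1, p2, p3, p4, p5, p6, p7, p8, p9, p10⟩ := perm_facts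
  obtain ⟨i₀, hi₀, hFi⟩ := hlift _ p2
  obtain ⟨j₀, hj₀, hFj⟩ := hlift _ p5
  have hii := hinv i₀ hi₀ (by rw [hFi]; exact p4) (by rw [hFi]; exact p3)
  have hjj := hinv j₀ hj₀ (by rw [hFj]; exact p6) (by rw [hFj]; exact p7)
  have hij := hanti i₀ hi₀ j₀ hj₀ (by rw [hFi]; exact p4) (by rw [hFi]; exact p3) (by rw [hFj]; exact p6)
    (by rw [hFj]; exact p7) (by rw [hFi, hFj]; exact p8) (by rw [hFi, hFj]; exact p9)
  -- a square root of five commuting with `U`
  obtain ⟨a, b, ha2, ha, hb3, hb, hab5, hab⟩ := generators_five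
  obtain ⟨α, β, hα, hβ, hα2, hβ3, hγ5⟩ :=
    lifts hf hker hz1 hz hzu (fun g => Subtype.ext (hG.central_of_sq (congrArg Subtype.val hz) (g : H))) ha2 ha hb3 hab5
  set A := φ (α : H)
  set B := φ (β : H)
  have hA : A * A = -1 := by rw [← map_mul, ← hφz, ← hα2]; rfl
  have hB1 : B ≠ 1 := fun e => hb (by
    rw [← hβ, show β = 1 from Subtype.ext (hφ (e.trans (map_one φ).symm)), map_one])
  have hB3 : B * B * B = 1 := by
    rw [← map_mul, ← map_mul, show ((β : H) * β * β) = ((β * β * β : U) : H) from rfl, hβ3, Subgroup.coe_one, map_one]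
  have hB : B * B = -1 - B := by
    have h : (B - 1) * (B * B + B + 1) = 0 := by
      have : (B - 1) * (B * B + B + 1) = B * B * B - 1 := by
        simp only [sub_mul, mul_add, one_mul, mul_one, ← mul_assoc]; abel
      rw [this, hB3, sub_self]
    have h' := (mul_eq_zero.mp h).resolve_left (sub_ne_zero.mpr hB1)
    linear_combination (norm := abel_nf) h'
  set γ : H := ((α * β : U) : H)
  set G := φ γ
  have hG5 : G ^ 5 = 1 := by rw [← map_pow, ← SubmonoidClass.coe_pow, hγ5, Subgroup.coe_one, map_one]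
  have hG1 : G ≠ 1 := fun e => hab (by
    rw [← hα, ← hβ, ← map_mul, show α * β = 1 from Subtype.ext (hφ (e.trans (map_one φ).symm)), map_one])
  have hGAB : G = A * B := map_mul φ _ _
  have hsum : G ^ 4 + G ^ 3 + G ^ 2 + G + 1 = 0 := by
    have h : (G - 1) * (G ^ 4 + G ^ 3 + G ^ 2 + G + 1) = 0 := by
      have : (G - 1) * (G ^ 4 + G ^ 3 + G ^ 2 + G + 1) = G ^ 5 - 1 := by
        simp only [sub_mul, mul_add, one_mul, mul_one, ← pow_succ', ← pow_two]; abel
      rw [this, hG5, sub_self]
    exact (mul_eq_zero.mp h).resolve_left (sub_ne_zero.mpr hG1)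
  set η := G + G ^ 4
  have hG4 : G ^ 4 = A + B * A := by
    have e1 : G ^ 4 * G = 1 := by rw [← pow_succ, hG5]
    have e2 : (A + B * A) * G = 1 := by
      rw [hGAB, add_mul, ← mul_assoc A A B, hA, mul_assoc B A, ← mul_assoc A A B, hA, neg_one_mul, mul_neg, hB]
      abel
    exact mul_right_cancel₀ (fun h => by rw [h, mul_zero] at e1; exact zero_ne_one e1) (e1.trans e2.symm)
  have hηA : Commute A η := by
    show A * η = η * A
    simp only [η]
    rw [hG4, hGAB]
    simp only [mul_add, add_mul]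
    simp only [mul_assoc, hA, mul_neg, mul_one]
    rw [← mul_assoc A A B, hA, neg_one_mul]
    abel
  have hηB : Commute B η := by
    show B * η = η * B
    simp only [η]
    rw [hG4, hGAB]
    simp only [mul_add, add_mul]
    rw [← mul_assoc B B A, hB, mul_assoc A B B, hB]
    simp only [sub_mul, mul_sub, mul_neg, mul_one, neg_one_mul, neg_mul, one_mul, ← mul_assoc]
    abel
  have hclo : Subgroup.closure {α, β} = ⊤ := by
    set K := Subgroup.closure {α, β}
    have hαK : α ∈ K := Subgroup.subset_closure (Set.mem_insert _ _)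
    have hβK : β ∈ K := Subgroup.subset_closure (Set.mem_insert_of_mem _ rfl)
    have htop := eq_top_of_235 ha2 ha hb3 hb hab5 hab (K.map f) ⟨α, hαK, hα⟩ ⟨β, hβK, hβ⟩
    rw [eq_top_iff]
    intro u _
    obtain ⟨k, hk, hku⟩ := htop.ge (Subgroup.mem_top (f u))
    rcases hzu (k⁻¹ * u) ((hker _).mp (by rw [map_mul, map_inv, hku, inv_mul_cancel])) with e | e
    · exact (inv_mul_eq_one.mp e) ▸ hk
    · rw [show u = k * (α * α) by rw [hα2, ← e, mul_inv_cancel_left]]
      exact mul_mem hk (mul_mem hαK hαK)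
  have hηU : ∀ x ∈ U, Commute (φ x) η := by
    intro x hx
    have hmem : (⟨x, hx⟩ : U) ∈ Subgroup.closure {α, β} := hclo ▸ Subgroup.mem_top _
    suffices key : ∀ y : U, y ∈ Subgroup.closure {α, β} → Commute (φ (y : H)) η from key ⟨x, hx⟩ hmem
    intro y hy
    induction hy using Subgroup.closure_induction with
    | mem y hy =>
      rcases hy with rfl | rfl
      exacts [hηA, hηB]
    | one => rw [Subgroup.coe_one, map_one]; exact Commute.one_left _
    | mul y w _ _ hy hw => rw [Subgroup.coe_mul, map_mul]; exact hy.mul_left hw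
    | inv y _ hy =>
      rw [Subgroup.coe_inv]
      have hinv' : φ ((y : H)⁻¹) = (φ (y : H))⁻¹ :=
        eq_inv_of_mul_eq_one_left (by rw [← map_mul, inv_mul_cancel, map_one])
      rw [hinv']; exact hy.inv_left₀
  set s := 2 * η + 1
  have hηη : η * η + η = 1 := by
    have e : η * η = G ^ 2 + G ^ 3 + (1 + 1) := by
      have e8 : G ^ 4 * G ^ 4 = G ^ 3 := by rw [← pow_add, show 4 + 4 = 5 + 3 from rfl, pow_add, hG5, one_mul]
      rw [show η * η = G * G + G * G ^ 4 + (G ^ 4 * G + G ^ 4 * G ^ 4) by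
        simp only [η, add_mul, mul_add]; abel, e8, ← pow_succ', ← pow_succ, hG5, ← pow_two]
      abel
    rw [e]
    simp only [η]
    rw [show G ^ 2 + G ^ 3 + (1 + 1) + (G + G ^ 4) = G ^ 4 + G ^ 3 + G ^ 2 + G + 1 + 1 by abel, hsum, zero_add]
  have hss : s * s = 5 := by
    have e : s * s = 4 * (η * η + η) + 1 := by
      simp only [s, two_mul, add_mul, mul_add, one_mul, mul_one,
        show (4 : D) = 1 + 1 + 1 + 1 by norm_num]
      abel
    rw [e, hηη, mul_one]; norm_num
  have hsU : ∀ x ∈ U, Commute (φ x) s := fun x hx =>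
    ((DivisionRing.two_commute (φ x)).symm.mul_right (hηU x hx)).add_right (Commute.one_right _)
  -- no other element centralises `U`
  have hcφ : ∀ c ∈ Subgroup.centralizer (U : Set H), ∀ x ∈ U, Commute (φ c) (φ x) := fun c hc x hx => by
    show φ c * φ x = φ x * φ c
    rw [← map_mul, ← map_mul, hc x hx]
  have hM : M = ⊥ := by
    by_contra hne'
    obtain ⟨q, hq, hqd⟩ := Nat.exists_prime_and_dvd (fun h => hne' (Subgroup.card_eq_one.mp h))
    haveI := Fact.mk hq
    obtain ⟨c, hc⟩ := exists_prime_orderOf_dvd_card' (G := M) q hqd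
    rw [← Subgroup.orderOf_coe] at hc
    have hq30 : ¬ q ∣ 30 := fun h => hq.ne_one (Nat.eq_one_of_dvd_coprimes hM30 hqd h)
    have hcC : (c : H) ∈ Subgroup.centralizer (U : Set H) := fun x hx => by
      have hdis : (U ⊓ M : Subgroup H) = ⊥ := by
        rw [Subgroup.eq_bot_iff_forall]
        rintro w ⟨hwU, hwM⟩
        apply orderOf_eq_one_iff.mp
        refine Nat.eq_one_of_dvd_coprimes hM30 (Subgroup.orderOf_dvd_natCard M hwM) ?_
        have h120 : orderOf w ∣ 120 := hUc ▸ Subgroup.orderOf_dvd_natCard U hwU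
        have hcop : (orderOf w).Coprime 4 :=
          ((hM30.coprime_dvd_right (by norm_num : 2 ∣ 30)).coprime_dvd_left (Subgroup.orderOf_dvd_natCard M hwM)).pow_right 2
        exact hcop.dvd_of_dvd_mul_left (show orderOf w ∣ 4 * 30 from h120)
      exact (Subgroup.commute_of_normal_of_disjoint U M hUn hMn (disjoint_iff.mpr hdis) x c hx c.2).eq
    refine DivisionRing.false_of_prime_order h2 hii hjj hij hss (hsU i₀ hi₀).symm (hsU j₀ hj₀).symm hq
      (fun h => hq30 (h ▸ (by norm_num))) (fun h => hq30 (h ▸ (by norm_num))) (c := φ (c : H)) ?_ ?_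
      (hcφ _ hcC _ hi₀) (hcφ _ hcC _ hj₀) ?_
    · rw [← map_pow, ← hc, pow_orderOf_eq_one, map_one]
    · intro e
      rw [show (c : H) = 1 from hφ (e.trans (map_one φ).symm), orderOf_one] at hc
      exact hq.ne_one hc.symm
    · have h1 : Commute (φ (c : H)) η := by
        have hcg := hcφ _ hcC γ (α * β).2
        exact hcg.add_right (hcg.pow_right _)
      exact ((DivisionRing.two_commute _).symm.mul_right h1).add_right (Commute.one_right _)
  have hC : ∀ c, F c = 1 → c ∈ U := by
    intro c hc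
    have hcC : c ∈ Subgroup.centralizer (U : Set H) := hFk ▸ MonoidHom.mem_ker.mpr hc
    obtain ⟨k, m, hm, hkm⟩ := Nat.exists_eq_two_pow_mul_odd (orderOf_pos c).ne'
    have h1 : c ^ 2 ^ k = 1 := by
      rw [← Subgroup.mem_bot, ← hM]
      refine hCM _ (pow_mem hcC _) ?_
      rw [orderOf_pow' _ (by positivity), hkm, Nat.gcd_mul_right_left, Nat.mul_div_cancel_left _ (by positivity)]
      exact hm
    have hcc : c * c = 1 := by
      by_contra hne'
      rcases k with _ | k
      · exact hne' (by rw [pow_zero, pow_one] at h1; rw [h1, one_mul])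
      have hex : ∃ n, c ^ 2 ^ (n + 1) = 1 := ⟨k, h1⟩
      rcases hn : Nat.find hex with _ | n
      · have := Nat.find_spec hex
        rw [hn, zero_add, pow_one, pow_two] at this
        exact hne' this
      · have hspec := Nat.find_spec hex
        rw [hn] at hspec
        have hmin : c ^ 2 ^ (n + 1) ≠ 1 := Nat.find_min hex (by omega)
        set d := c ^ 2 ^ n
        have hd2 : d * d = c ^ 2 ^ (n + 1) := by rw [← pow_two, ← pow_mul, ← pow_succ]
        have hd4 : (d * d) * (d * d) = 1 := by rw [hd2, ← pow_add, ← two_mul, ← pow_succ', hspec]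
        have hdd : φ d * φ d = -1 := by
          rw [← map_mul]
          exact (hsq _ hd4).resolve_left fun e => hmin (hd2 ▸ hφ (e.trans (map_one φ).symm))
        have hdC : d ∈ Subgroup.centralizer (U : Set H) := pow_mem hcC _
        have hcj := hcφ _ hdC _ hj₀
        have hnc : ¬ Commute (φ i₀) (φ j₀) := fun hco => by
          have e := hij
          rw [hco.eq, eq_neg_iff_add_eq_zero, ← two_mul] at e
          rcases mul_eq_zero.mp e with e' | e'
          · exact h2 e'
          · have := congrArg (fun t => t * t) e'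
            simp only [mul_zero] at this
            rw [mul_assoc, ← mul_assoc (φ i₀) (φ j₀), hco.eq, mul_assoc (φ j₀), hii, mul_neg_one, mul_neg, hjj,
              neg_neg] at this
            exact one_ne_zero this
        rcases DivisionRing.eq_of_mul_self_eq (hcφ _ hdC _ hi₀) (hdd.trans hii.symm) with e | e
        · exact hnc (e ▸ hcj)
        · exact hnc (by rw [show φ i₀ = -φ d by rw [e, neg_neg]]; exact hcj.neg_left)
    by_cases hc1 : c = 1
    · rw [hc1]; exact one_mem U
    · rw [hG.eq_of_sq hcc hc1 (congrArg Subtype.val hz) (fun e => hz1 (Subtype.ext e))]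
      exact z.2
  by_cases hall : ∀ g, Equiv.Perm.sign (F g) = 1
  · have htop : U = ⊤ := by
      rw [eq_top_iff]
      intro g _
      obtain ⟨u, hu, hFu⟩ := hlift _ (hall g)
      have := hC (g * u⁻¹) (by rw [map_mul, map_inv, hFu, mul_inv_cancel])
      simpa using mul_mem this hu
    obtain ⟨e⟩ := ico_mulEquiv_sl25 hU
    exact ⟨(Subgroup.topEquiv (G := H)).symm.trans ((MulEquiv.subgroupCongr htop.symm).trans e)⟩
  exfalso
  push Not at hall
  obtain ⟨g, hg⟩ := hall
  obtain ⟨w, hw, hFw⟩ := hlift (tau * (F g)⁻¹) (by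
    rw [map_mul, map_inv, p1, (Int.units_eq_one_or _).resolve_left hg]; rfl)
  set u := w * g
  have hFu : F u = tau := by rw [map_mul, hFw, inv_mul_cancel_right]
  have hu2 : u * u ∈ U := by
    have := hC (u * u * i₀⁻¹) (by rw [map_mul, map_mul, map_inv, hFu, hFi, mul_inv_cancel])
    simpa using mul_mem this hi₀
  have hFu2 : F (u * u) = tau * tau := by rw [map_mul, hFu]
  have hjj' := hinv (u * u) hu2 (by rw [hFu2]; exact p4) (by rw [hFu2]; exact p3)
  have hij' := hanti (u * u) hu2 j₀ hj₀ (by rw [hFu2]; exact p4) (by rw [hFu2]; exact p3) (by rw [hFj]; exact p6)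
    (by rw [hFj]; exact p7) (by rw [hFu2, hFj]; exact p8) (by rw [hFu2, hFj]; exact p9)
  refine DivisionRing.false_of_octahedral (i := φ (u * u)) (j := φ j₀) (u := φ u) (s := s) h2 hjj' hjj hij'
    (map_mul φ u u).symm ?_ hss (hsU _ hu2).symm (hsU j₀ hj₀).symm ?_
  · have hmem : u * j₀ * u⁻¹ ∈ U := hUn.conj_mem j₀ hj₀ u
    rcases hsame _ hmem _ (mul_mem hu2 hj₀) (by rw [map_mul, map_mul, map_inv, map_mul F (u * u), hFu2, hFu, hFj]; exact p10) with e | e
    · left
      rw [← map_mul, ← map_mul φ (u * u), ← e, ← map_mul, inv_mul_cancel_right]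
    · right
      rw [← map_mul, ← map_mul φ (u * u), ← neg_eq_iff_eq_neg.mpr e, neg_mul, neg_neg, ← map_mul,
        inv_mul_cancel_right]
  · have hγU : γ ∈ U := (α * β).2
    have hγH : γ ^ 5 = 1 := by rw [← SubmonoidClass.coe_pow, hγ5]; rfl
    have hFγ : F γ ≠ 1 := fun e => hG1 (by
      have := congrArg Subtype.val ((hUC (α * β)).mp e)
      rcases hsq γ this with h | h
      · exact h
      · exfalso
        have h5 := hG5
        rw [show G = -1 from h, Odd.neg_one_pow (by decide)] at h5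
        exact h2 (by rw [← one_add_one_eq_two]; nth_rewrite 1 [← h5]; exact neg_add_cancel 1))
    obtain ⟨v, hv⟩ := five_cycle_conj ⟨F γ, hr ▸ (⟨α * β, rfl⟩ : F γ ∈ r.range)⟩
      (Subtype.ext (by
        show F γ * F γ * F γ * F γ * F γ = 1
        rw [← map_mul, ← map_mul, ← map_mul, ← map_mul,
          show γ * γ * γ * γ * γ = γ ^ 5 by simp [pow_succ], hγH, map_one]))
      (fun e => hFγ (congrArg Subtype.val e))
    obtain ⟨y, hy, hFy⟩ := hlift v (Equiv.Perm.mem_alternatingGroup.mp v.2)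
    set e := (y * (γ * γ) * y⁻¹)⁻¹ * (u * γ * u⁻¹)
    have hm1 : u * γ * u⁻¹ ∈ U := hUn.conj_mem γ hγU u
    have hm2 : y * (γ * γ) * y⁻¹ ∈ U := hUn.conj_mem _ (mul_mem hγU hγU) y
    have he : e * e = 1 := congrArg Subtype.val ((hUC ⟨e, mul_mem (inv_mem hm2) hm1⟩).mp (by
      show F ((y * (γ * γ) * y⁻¹)⁻¹ * (u * γ * u⁻¹)) = 1
      simp only [map_mul, map_inv, hFu, hFy]
      rw [hv, inv_mul_cancel]))
    have hconj : u * γ * u⁻¹ = y * (γ * γ) * y⁻¹ := by
      have h5 : e ^ 5 = 1 := by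
        have hx : (u * γ * u⁻¹) ^ 5 = (y * (γ * γ) * y⁻¹) ^ 5 * e ^ 5 := by
          rw [← (show Commute (y * (γ * γ) * y⁻¹) e from hG.central_of_sq he _).mul_pow,
            mul_inv_cancel_left]
        rw [conj_pow, conj_pow, hγH, mul_one, mul_inv_cancel, ← pow_two γ, ← pow_mul, mul_comm, pow_mul, hγH,
          one_pow, mul_one, mul_inv_cancel, one_mul] at hx
        exact hx.symm
      have e1 : e = 1 := by
        rw [show e ^ 5 = (e * e) * (e * e) * e by simp [pow_succ, mul_assoc], he, one_mul, one_mul] at h5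
        exact h5
      exact (inv_mul_eq_one.mp e1).symm
    have hx : ∀ n, φ u * φ (γ ^ n) = φ y * φ ((γ * γ) ^ n) * φ y⁻¹ * φ u := fun n => by
      rw [← map_mul, ← map_mul, ← map_mul, ← map_mul, ← conj_pow, ← hconj, conj_pow, inv_mul_cancel_right]
    have hx1 := hx 1
    have hx4 := hx 4
    simp only [map_pow, map_mul, pow_one] at hx1 hx4
    rw [(Commute.refl (φ γ)).mul_pow, ← pow_add, show (4 + 4) = 5 + 3 from rfl, pow_add,
      show φ γ ^ 5 = 1 from hG5, one_mul] at hx4
    have hy' : φ y * φ y⁻¹ = 1 := by rw [← map_mul, mul_inv_cancel, map_one]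
    have key : φ u * η = (-1 - η) * φ u := by
      calc φ u * η = φ y * (G * G + G ^ 3) * φ y⁻¹ * φ u := by
            rw [show η = G + G ^ 4 from rfl, mul_add, hx1, hx4, mul_add, add_mul, add_mul]
        _ = (-1 - η) * φ u := by
            congr 1
            rw [show G * G + G ^ 3 = -1 - η by
              simp only [η, ← pow_two]
              linear_combination (norm := abel_nf) hsum]
            rw [mul_sub, mul_neg_one, sub_mul, neg_mul, hy', (hηU y hy).eq, mul_assoc, hy', mul_one]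
    show φ u * (2 * η + 1) = -((2 * η + 1) * φ u)
    rw [mul_add, mul_one, ← mul_assoc, ← (DivisionRing.two_commute (φ u)).eq, mul_assoc, key]
    simp only [two_mul, sub_mul, neg_mul, one_mul, add_mul]
    abel

end Cfsg.Agent.S4294
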