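import Cfsg.Statements.S4295
import Cfsg.Agent.Lib.PGroups.QuaternionSquare
import Cfsg.Agent.Lib.PGroups.FrobExamples

set_option autoImplicit false
open Cfsg

namespace Cfsg.Agent.S4295

section
variable {R : Type} [CommRing R] (a b : R)

/-- The first generator. -/
def genI : AddMonoid.End (R × R) :=
  AddMonoidHom.mk' (fun v => (v.2, -v.1)) (fun v w => by ext <;> simp <;> abel)

/-- The second generator. -/
def genJ : AddMonoid.End (R × R) :=
  AddMonoidHom.mk' (fun v => (a * v.1 + b * v.2, b * v.1 - a * v.2))
    (fun v w => by ext <;> simp <;> ring)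

theorem genI_apply (v : R × R) : genI v = (v.2, -v.1) := rfl

theorem genJ_apply (v : R × R) : genJ a b v = (a * v.1 + b * v.2, b * v.1 - a * v.2) := rfl

theorem End_mul_apply (f g : AddMonoid.End (R × R)) (v : R × R) : (f * g) v = f (g v) := rfl

theorem genI_four : (genI : AddMonoid.End (R × R)) ^ 4 = 1 := by
  refine AddMonoidHom.ext fun v => ?_
  show ((genI : AddMonoid.End (R × R)) ^ 4) v = v
  simp [pow_succ, End_mul_apply, genI_apply]

theorem genJ_sq (h : a ^ 2 + b ^ 2 = -1) : genJ a b * genJ a b = (genI : AddMonoid.End (R × R)) ^ 2 := by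
  refine AddMonoidHom.ext fun v => ?_
  show (genJ a b * genJ a b) v = ((genI : AddMonoid.End (R × R)) ^ 2) v
  simp only [pow_two, End_mul_apply, genI_apply, genJ_apply]
  refine Prod.ext ?_ ?_
  · linear_combination v.1 * h
  · linear_combination v.2 * h

theorem genI_mul_genJ : genI * genJ a b = genJ a b * (genI : AddMonoid.End (R × R)) ^ 3 := by
  refine AddMonoidHom.ext fun v => ?_
  show ((genI : AddMonoid.End (R × R)) * genJ a b) v = (genJ a b * (genI : AddMonoid.End (R × R)) ^ 3) v
  simp only [pow_succ, pow_zero, one_mul, End_mul_apply, genI_apply, genJ_apply]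
  refine Prod.ext ?_ ?_ <;> ring

end

section
variable {M : Type} [Monoid M]

/-- A homomorphism out of the quaternion group of order eight. -/
theorem exists_quaternion_hom (I J : M) (hI : I ^ 4 = 1) (hJ : J * J = I ^ 2)
    (hIJ : I * J = J * I ^ 3) :
    ∃ f : QuaternionGroup 2 →* M, f (.a 1) = I ∧ f (.a 2) = I ^ 2 := by
  let P : ZMod (2 * 2) → M := fun i => I ^ i.val
  have hPn : ∀ n : ℕ, I ^ n = P (n : ZMod (2 * 2)) := fun n => by
    show I ^ n = I ^ ((n : ZMod (2 * 2)).val)
    rw [ZMod.val_natCast, ← pow_eq_pow_mod n hI]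
  have hPadd : ∀ i j, P (i + j) = P i * P j := fun i j => by
    show _ = I ^ i.val * I ^ j.val
    rw [← pow_add, hPn, Nat.cast_add, ZMod.natCast_zmod_val, ZMod.natCast_zmod_val]
  have hPJn : ∀ n : ℕ, I ^ n * J = J * I ^ (3 * n) := by
    intro n
    induction n with
    | zero => simp
    | succ n ih =>
      rw [pow_succ, mul_assoc, hIJ, ← mul_assoc, ih, mul_assoc, ← pow_add, mul_add, mul_one]
  have hPJ : ∀ i, P i * J = J * P (-i) := fun i => by
    show I ^ i.val * J = _
    rw [hPJn, hPn, Nat.cast_mul, ZMod.natCast_zmod_val]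
    congr 2
    revert i
    decide
  let g : QuaternionGroup 2 → M := fun x => match x with
    | .a i => P i
    | .xa i => J * P i
  have hmul : ∀ x y, g (x * y) = g x * g y := by
    rintro (i | i) (j | j)
    · exact hPadd i j
    · rw [QuaternionGroup.a_mul_xa]
      show J * P (j - i) = P i * (J * P j)
      rw [← mul_assoc, hPJ, mul_assoc, ← hPadd, sub_eq_neg_add]
    · rw [QuaternionGroup.xa_mul_a]
      show J * P (i + j) = J * P i * P j
      rw [hPadd, mul_assoc]
    · rw [QuaternionGroup.xa_mul_xa]
      show P _ = J * P i * (J * P j)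
      rw [mul_assoc J, ← mul_assoc (P i), hPJ, mul_assoc J (P (-i)), ← hPadd, ← mul_assoc, hJ, hPn,
        ← hPadd]
      congr 1
      abel
  refine ⟨{ toFun := g, map_one' := ?_, map_mul' := hmul }, ?_, ?_⟩
  · show I ^ (0 : ZMod (2 * 2)).val = 1
    rw [ZMod.val_zero, pow_zero]
  · exact pow_one I
  · rfl

end


/-- For a natural number m the following are equivalent: (a) some finite group has a Frobenius complement isomorphic to the quaternion group of order 8 whose Frobenius kernel (the identity together with the elements lying in no conjugate of the complement) has exactly m elements; (b) m is an odd perfect square greater than 1. -/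
theorem result (m : ℕ) :
    (∃ (L : Type) (_ : Group L) (_ : Finite L) (H : Subgroup L), Cfsg.IsFrobeniusComplement H ∧
        Nonempty (H ≃* QuaternionGroup 2) ∧ Nat.card (Cfsg.frobeniusKernel H) = m) ↔
    (Odd m ∧ IsSquare m ∧ 1 < m) := by
  constructor
  · rintro ⟨L, _, _, H, hF, ⟨e⟩, hm⟩
    have hi : ∀ x y : QuaternionGroup 2, e.symm x * e.symm y = e.symm (x * y) :=
      fun x y => (map_mul e.symm x y).symm
    have h := Cfsg.Agent.Lib.PGroups.frobeniusKernel_square hF (e.symm (.a 1)) (e.symm (.xa 0))
      (by rw [hi, hi]; exact congrArg e.symm (by decide))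
      (by
        rw [hi]; intro h
        rw [← map_one e.symm] at h
        revert h
        exact fun h => absurd (e.symm.injective h) (by decide))
      (by rw [hi, hi, ← map_one e.symm]; exact congrArg e.symm (by decide))
      (by rw [hi, hi, hi, hi]; exact congrArg e.symm (by decide))
    rw [hm] at h
    refine ⟨h.1, h.2, ?_⟩
    obtain ⟨K, -, hKs, -, -, hKb, -, -⟩ := Cfsg.Agent.Lib.Frobenius.exists_frobeniusKernel hF
    rw [← hm, ← hKs]
    exact (Subgroup.one_lt_card_iff_ne_bot K).mpr hKb
  · rintro ⟨hodd, ⟨k, rfl⟩, h1⟩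
    have hk1 : 1 < k := by
      by_contra h
      interval_cases k <;> omega
    have hk0 : k ≠ 0 := by omega
    have hkodd : Odd k := (Nat.odd_mul.mp hodd).1
    set l := k.primeFactorsList
    have hpr : ∀ t : Fin l.length, (l[t]).Prime := fun t =>
      Nat.prime_of_mem_primeFactorsList (List.getElem_mem _)
    have hex : ∀ t : Fin l.length, ∃ ab : ZMod l[t] × ZMod l[t], ab.1 ^ 2 + ab.2 ^ 2 = -1 := fun t => by
      haveI := Fact.mk (hpr t)
      obtain ⟨a, b, h⟩ := ZMod.sq_add_sq l[t] (-1)
      exact ⟨(a, b), h⟩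
    choose ab hab using hex
    haveI : ∀ t : Fin l.length, NeZero l[t] := fun t => ⟨(hpr t).ne_zero⟩
    let R := ∀ t : Fin l.length, ZMod l[t]
    have hR : Nat.card R = k := by
      rw [Nat.card_pi, Finset.prod_congr rfl (g := fun t : Fin l.length => l[t])
        (fun t _ => Nat.card_zmod _)]
      have h := Nat.prod_primeFactorsList hk0
      rw [← List.ofFn_getElem (xs := k.primeFactorsList), List.prod_ofFn] at h
      exact h
    obtain ⟨f, -, hf2⟩ := exists_quaternion_hom (genI (R := R)) (genJ (fun t => (ab t).1) (fun t => (ab t).2))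
      genI_four (genJ_sq _ _ (funext fun t => hab t)) (genI_mul_genJ _ _)
    haveI : Nontrivial (R × R) := by
      rw [← Finite.one_lt_card_iff_nontrivial, Nat.card_prod, hR]
      exact h1
    obtain ⟨L, iL, fL, C, hC, ⟨e⟩, hcard⟩ :=
      Cfsg.Agent.Lib.PGroups.exists_frobeniusComplement_of_addAction_card f (fun h hh v hv => by
        have hz : f (.a 2) v = v := by
          have hd : ∀ h : QuaternionGroup 2, h ≠ 1 → h = .a 2 ∨ h * h = .a 2 := by decide
          rcases hd h hh with rfl | hh'
          · exact hv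
          · rw [← hh', map_mul]
            show f h (f h v) = v
            rw [hv, hv]
        rw [hf2] at hz
        have h2 : v + v = 0 := by
          have e : ((genI : AddMonoid.End (R × R)) ^ 2) v = -v := by
            simp [pow_two, End_mul_apply, genI_apply]
            exact Prod.ext rfl rfl
          rw [e] at hz
          exact neg_eq_iff_add_eq_zero.mp hz
        have h3 : addOrderOf v ∣ 2 := addOrderOf_dvd_of_nsmul_eq_zero (by rw [two_nsmul, h2])
        have h4 : addOrderOf v ∣ k * k := by
          have h7 := addOrderOf_dvd_natCard v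
          rw [Nat.card_prod, hR] at h7
          exact h7
        have h5 := Nat.dvd_gcd h3 h4
        rw [Nat.Coprime.gcd_eq_one (Nat.coprime_two_left.mpr hodd)] at h5
        exact AddMonoid.addOrderOf_eq_one_iff.mp (Nat.dvd_one.mp h5))
    refine ⟨L, iL, fL, C, hC, ⟨e.symm⟩, ?_⟩
    haveI := fL
    obtain ⟨K, -, hKs, -, -, -, -, hKc⟩ := Cfsg.Agent.Lib.Frobenius.exists_frobeniusKernel hC
    have h6 := C.card_mul_index
    rw [← hKc, hcard, Nat.card_prod, hR, ← Nat.card_congr e.toEquiv, mul_comm (k * k)] at h6
    rw [← hKs]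
    exact Nat.eq_of_mul_eq_mul_left Nat.card_pos h6

end Cfsg.Agent.S4295
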