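import Cfsg.Statements.S4296
import Cfsg.Agent.Lib.PGroups.QuaternionSquare
import Cfsg.Agent.Lib.Frobenius.UniqueSubgroup

set_option autoImplicit false
open Cfsg

namespace Cfsg.Agent.S4296

/-- Let H be a Frobenius complement in a finite group, and suppose some Sylow subgroup of H is not cyclic. Then the number of elements of the Frobenius kernel (the identity together with the elements lying in no conjugate of H) is an odd perfect square. -/
theorem result {L : Type*} [Group L] [Finite L] (H : Subgroup L) (hF : Cfsg.IsFrobeniusComplement H)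
    (hZ : ∃ (p : ℕ) (_ : Fact p.Prime) (P : Sylow p H), ¬ IsCyclic P) :
    Odd (Nat.card (Cfsg.frobeniusKernel H)) ∧ IsSquare (Nat.card (Cfsg.frobeniusKernel H)) := by
  obtain ⟨p, hp, P, hP⟩ := hZ
  haveI := hp
  obtain ⟨K, hKn, hKs, -, -, hKb, -, -⟩ := Cfsg.Agent.Lib.Frobenius.exists_frobeniusKernel hF
  haveI := hKn
  haveI : Nontrivial K := (Subgroup.nontrivial_iff_ne_bot K).mpr hKb
  have hfpf : ∀ h : H, h ≠ 1 → ∀ g : K, (MulAut.conjNormal.comp H.subtype : H →* MulAut K) h g = g → g = 1 := by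
    intro h hh g hg
    have h1 : (h : L) * g * (h : L)⁻¹ = g := by
      have := congrArg Subtype.val hg
      simpa using this
    exact Subtype.ext (Cfsg.Agent.Lib.Frobenius.frobeniusKernel_fixedPointFree hF hKs h h.2
      (fun e => hh (Subtype.ext e)) g g.2 (mul_inv_eq_iff_eq_mul.mp h1))
  obtain ⟨-, m, ⟨e⟩⟩ := (Cfsg.Agent.Lib.Frobenius.isCyclic_or_quaternion_of_fixedPointFree _ hfpf
    (P : Subgroup H) P.2).resolve_left hP
  let f : QuaternionGroup (2 ^ (m + 1)) →* H := (P : Subgroup H).subtype.comp e.symm.toMonoidHom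
  have hf : Function.Injective f := (P : Subgroup H).subtype_injective.comp e.symm.injective
  set N := 2 ^ m with hN
  have h2N : 2 ^ (m + 1) = 2 * N := by rw [hN, pow_succ']
  have hsum : ((N : ℕ) : ZMod (2 * 2 ^ (m + 1))) + N = (2 ^ (m + 1) : ℕ) := by
    rw [← Nat.cast_add]; congr 1; omega
  have hii : QuaternionGroup.a (N : ZMod (2 * 2 ^ (m + 1))) * QuaternionGroup.a (N : ZMod _) =
      QuaternionGroup.a ((2 ^ (m + 1) : ℕ) : ZMod _) := by
    rw [QuaternionGroup.a_mul_a, hsum]
  have hzz : QuaternionGroup.a ((2 ^ (m + 1) : ℕ) : ZMod (2 * 2 ^ (m + 1))) *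
      QuaternionGroup.a ((2 ^ (m + 1) : ℕ) : ZMod _) = 1 := by
    rw [QuaternionGroup.a_mul_a, ← Nat.cast_add, ← two_mul, ZMod.natCast_self]
    rfl
  refine Cfsg.Agent.Lib.PGroups.frobeniusKernel_square hF (f (.a (N : ZMod _))) (f (.xa 0))
    ?_ ?_ ?_ ?_
  · rw [← map_mul, ← map_mul, hii, QuaternionGroup.xa_mul_xa, add_zero, sub_zero]
  · rw [← map_mul, hii]
    intro h
    rw [← map_one f] at h
    have h' := hf h
    rw [QuaternionGroup.one_def, QuaternionGroup.a.injEq, ZMod.natCast_eq_zero_iff] at h'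
    have := Nat.le_of_dvd (Nat.pos_of_ne_zero (by positivity)) h'
    have : 0 < 2 ^ (m + 1) := by positivity
    omega
  · rw [← map_mul, hii, ← map_mul, hzz, map_one]
  · rw [← map_mul, ← map_mul, ← map_mul, ← map_mul, hii, QuaternionGroup.a_mul_xa,
      QuaternionGroup.xa_mul_a, QuaternionGroup.a_mul_xa, zero_add, zero_sub, ← hsum]
    congr 2
    ring

end Cfsg.Agent.S4296
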