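import Cfsg.Statements.S4297
import Cfsg.Agent.Lib.PGroups.FrobExamples
import Mathlib

set_option autoImplicit false
open Cfsg

namespace Cfsg.Agent.S4297


section
variable {r : ℕ} (χ : ℕ → ZMod r)

/-- the two-dimensional representation of the dicyclic group -/
def rep {n : ℕ} : QuaternionGroup n → AddMonoid.End (ZMod r × ZMod r)
  | .a i => AddMonoidHom.mk' (fun x => (χ i.val * x.1, χ (-i).val * x.2))
      (fun x y => by ext <;> simp [mul_add])
  | .xa i => AddMonoidHom.mk' (fun x => (-(χ (-i).val * x.2), χ i.val * x.1))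
      (fun x y => by ext <;> simp [mul_add] <;> ring)

theorem rep_a {n : ℕ} (i : ZMod (2 * n)) (x : ZMod r × ZMod r) :
    rep χ (QuaternionGroup.a i) x = (χ i.val * x.1, χ (-i).val * x.2) := rfl

theorem rep_xa {n : ℕ} (i : ZMod (2 * n)) (x : ZMod r × ZMod r) :
    rep χ (QuaternionGroup.xa i) x = (-(χ (-i).val * x.2), χ i.val * x.1) := rfl

end


/-- For every n ≥ 2 the dicyclic group of order 4n (generated by an element a of order 2n and an element x with x² = aⁿ and x a x⁻¹ = a⁻¹) occurs as a Frobenius complement of some finite Frobenius group. -/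
theorem result (n : ℕ) (hn : 2 ≤ n) :
    ∃ (L : Type) (_ : Group L) (_ : Finite L) (H : Subgroup L), Cfsg.IsFrobeniusComplement H ∧ Nonempty (H ≃* QuaternionGroup n) := by

  classical
  obtain ⟨r, hr, hr2, hmod⟩ := Nat.exists_prime_gt_modEq_one (k := 2 * n) 2 (by omega)
  haveI := Fact.mk hr
  haveI : NeZero (2 * n) := ⟨by omega⟩
  haveI : NeZero n := ⟨by omega⟩
  obtain ⟨g, hg⟩ := IsCyclic.exists_ofOrder_eq_natCard (α := (ZMod r)ˣ)
  have hdvd : 2 * n ∣ orderOf g := by
    rw [hg, Nat.card_eq_fintype_card, ZMod.card_units r]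
    exact (Nat.modEq_iff_dvd' hr.one_le).mp hmod.symm
  obtain ⟨u, hu⟩ : ∃ u : (ZMod r)ˣ, orderOf u = 2 * n :=
    ⟨g ^ (orderOf g / (2 * n)), orderOf_pow_orderOf_div (orderOf_pos g).ne' hdvd⟩
  let χ : ℕ → ZMod r := fun k => ((u ^ k : (ZMod r)ˣ) : ZMod r)
  have hadd : ∀ i j : ZMod (2 * n), χ (i + j).val = χ i.val * χ j.val := by
    intro i j
    show ((u ^ (i + j).val : (ZMod r)ˣ) : ZMod r) = (u ^ i.val : (ZMod r)ˣ) * (u ^ j.val : (ZMod r)ˣ)
    rw [← Units.val_mul, ← pow_add, ZMod.val_add]
    congr 1
    conv_rhs => rw [← pow_mod_orderOf, hu]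
  have h0 : χ (0 : ZMod (2 * n)).val = 1 := by simp [χ]
  have hone : ∀ i : ZMod (2 * n), χ i.val = 1 → i = 0 := by
    intro i h
    have h1 : u ^ i.val = 1 := Units.ext (by simpa [χ] using h)
    have h2 := orderOf_dvd_of_pow_eq_one h1
    rw [hu] at h2
    exact (ZMod.val_eq_zero i).mp (Nat.eq_zero_of_dvd_of_lt h2 (ZMod.val_lt i))
  have hn' : χ (n : ZMod (2 * n)).val = -1 := by
    have h1 : χ (n : ZMod (2 * n)).val * χ (n : ZMod (2 * n)).val = 1 := by
      rw [← hadd, ← Nat.cast_add, show n + n = 2 * n by ring, ZMod.natCast_self, h0]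
    rcases mul_self_eq_one_iff.mp h1 with h2 | h2
    · exfalso
      have h3 := congrArg ZMod.val (hone _ h2)
      rw [ZMod.val_natCast, ZMod.val_zero, Nat.mod_eq_of_lt (by omega)] at h3
      omega
    · exact h2
  have hneg : ∀ i : ZMod (2 * n), χ i.val * χ (-i).val = 1 := fun i => by
    rw [← hadd, add_neg_cancel, h0]
  have hnn : -(n : ZMod (2 * n)) = n := by
    rw [neg_eq_iff_add_eq_zero, ← Nat.cast_add, show n + n = 2 * n by ring, ZMod.natCast_self]
  let ρ : QuaternionGroup n →* AddMonoid.End (ZMod r × ZMod r) :=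
    { toFun := rep χ
      map_one' := by
        refine AddMonoidHom.ext fun x => ?_
        show rep χ (QuaternionGroup.a 0) x = x
        rw [rep_a, neg_zero, h0, one_mul, one_mul]
      map_mul' := fun a b => by
          refine AddMonoidHom.ext fun x => ?_
          show rep χ (a * b) x = rep χ a (rep χ b x)
          rcases a with i | i <;> rcases b with j | j
          · rw [QuaternionGroup.a_mul_a]
            simp only [rep_a, neg_add, hadd, mul_assoc]
          · rw [QuaternionGroup.a_mul_xa]
            simp only [rep_a, rep_xa, neg_sub, sub_eq_add_neg, neg_add, neg_neg, hadd]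
            refine Prod.ext ?_ ?_ <;> ring
          · rw [QuaternionGroup.xa_mul_a]
            simp only [rep_a, rep_xa, neg_add, hadd]
            refine Prod.ext ?_ ?_ <;> ring
          · rw [QuaternionGroup.xa_mul_xa]
            simp only [rep_a, rep_xa, sub_eq_add_neg, neg_add, neg_neg, hadd, hn', hnn]
            refine Prod.ext ?_ ?_ <;> ring }
  obtain ⟨L, iL, fL, C, hC, ⟨e⟩⟩ :=
    Cfsg.Agent.Lib.PGroups.exists_frobeniusComplement_of_addAction ρ (fun a ha x hx => by
      have hx' : rep χ a x = x := hx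
      rcases a with i | i
      · rw [rep_a] at hx'
        have hi : i ≠ 0 := fun h => ha (by rw [h, QuaternionGroup.one_def])
        have h1 := congrArg Prod.fst hx'
        have h2 := congrArg Prod.snd hx'
        simp only at h1 h2
        refine Prod.ext ?_ ?_
        · by_contra hv
          exact hi (hone i ((mul_eq_right₀ hv).mp h1))
        · by_contra hv
          exact hi (neg_eq_zero.mp (hone _ ((mul_eq_right₀ hv).mp h2)))
      · rw [rep_xa] at hx'
        have h1 := congrArg Prod.fst hx'
        have h2 := congrArg Prod.snd hx'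
        simp only at h1 h2
        have h3 : (2 : ZMod r) * x.1 = 0 := by
          linear_combination (-1 : ZMod r) * h1 + χ (-i).val * h2 - x.1 * hneg i
        have h4 : (2 : ZMod r) ≠ 0 := by
          intro h
          have h' : ((2 : ℕ) : ZMod r) = 0 := by exact_mod_cast h
          rw [ZMod.natCast_eq_zero_iff] at h'
          have := Nat.le_of_dvd (by norm_num) h'
          omega
        have h5 := (mul_eq_zero.mp h3).resolve_left h4
        rw [h5, mul_zero] at h2
        exact Prod.ext h5 h2.symm)
  exact ⟨L, iL, fL, C, hC, ⟨e.symm⟩⟩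

end Cfsg.Agent.S4297
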