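import Cfsg.Statements.S4298
import Cfsg.Agent.Lib.PGroups.FrobExamples
import Mathlib

set_option autoImplicit false
open Cfsg

namespace Cfsg.Agent.S4298


def tab : List (ZMod 5 × ZMod 5 × ZMod 5 × ZMod 5) := [(0, 0, 0, 0), (0, 0, 0, 0), (0, 0, 0, 0), (0, 0, 0, 0), (0, 0, 0, 0), (0, 0, 0, 0), (0, 0, 0, 0), (0, 0, 0, 0), (0, 0, 0, 0), (0, 0, 0, 0), (0, 0, 0, 0), (0, 0, 0, 0), (0, 0, 0, 0), (0, 0, 0, 0), (0, 0, 0, 0), (0, 4, 1, 0), (2, 4, 3, 4), (3, 2, 1, 1), (0, 0, 0, 0), (0, 0, 0, 0), (0, 0, 0, 0), (0, 1, 4, 0), (2, 3, 4, 4), (3, 1, 2, 1), (0, 0, 0, 0), (0, 0, 0, 0), (0, 0, 0, 0), (0, 0, 0, 0), (1, 0, 0, 1), (0, 0, 0, 0), (0, 0, 0, 0), (1, 2, 1, 3), (0, 0, 0, 0), (0, 0, 0, 0), (3, 3, 4, 1), (0, 0, 0, 0), (0, 0, 0, 0), (1, 1, 2, 3), (0, 0, 0, 0), (0, 0, 0, 0), (0, 0, 0, 0), (0, 2, 2, 0), (4, 2, 1, 2), (0, 0, 0, 0), (0, 0, 0, 0), (0, 0, 0, 0), (3, 4, 3, 1), (0, 0, 0, 0), (4,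 1, 2, 2), (0, 0, 0, 0), (0, 0, 0, 0), (0, 0, 0, 0), (0, 0, 0, 0), (3, 0, 0, 2), (0, 0, 0, 0), (0, 0, 0, 0), (4, 0, 0, 4), (0, 0, 0, 0), (0, 0, 0, 0), (2, 2, 1, 4), (0, 0, 0, 0), (0, 0, 0, 0), (4, 3, 4, 2), (0, 0, 0, 0), (0, 0, 0, 0), (2, 1, 2, 4), (0, 0, 0, 0), (2, 0, 0, 3), (0, 0, 0, 0), (1, 4, 3, 3), (0, 0, 0, 0), (0, 0, 0, 0), (0, 0, 0, 0), (0, 0, 0, 0), (4, 4, 3, 2), (1, 3, 4, 3), (0, 0, 0, 0), (0, 0, 0, 0), (0, 0, 0, 0), (0, 3, 3, 0), (0, 0, 0, 0)]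

def img (a b c d : ZMod 3) : ZMod 5 × ZMod 5 × ZMod 5 × ZMod 5 :=
  tab.getD (a.val * 27 + b.val * 9 + c.val * 3 + d.val) (0, 0, 0, 0)

theorem img_mul : ∀ a b c d : ZMod 3, a * d - b * c = 1 → ∀ a' b' c' d' : ZMod 3,
    a' * d' - b' * c' = 1 →
    img (a * a' + b * c') (a * b' + b * d') (c * a' + d * c') (c * b' + d * d') =
      ((img a b c d).1 * (img a' b' c' d').1 + (img a b c d).2.1 * (img a' b' c' d').2.2.1,
       (img a b c d).1 * (img a' b' c' d').2.1 + (img a b c d).2.1 * (img a' b' c' d').2.2.2,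
       (img a b c d).2.2.1 * (img a' b' c' d').1 + (img a b c d).2.2.2 * (img a' b' c' d').2.2.1,
       (img a b c d).2.2.1 * (img a' b' c' d').2.1 + (img a b c d).2.2.2 * (img a' b' c' d').2.2.2) := by
  decide +kernel

theorem img_fpf : ∀ a b c d : ZMod 3, a * d - b * c = 1 → ¬ (a = 1 ∧ b = 0 ∧ c = 0 ∧ d = 1) →
    ∀ v w : ZMod 5, (img a b c d).1 * v + (img a b c d).2.1 * w = v →
      (img a b c d).2.2.1 * v + (img a b c d).2.2.2 * w = w → v = 0 ∧ w = 0 := by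
  decide +kernel

theorem det_one (M : Matrix.SpecialLinearGroup (Fin 2) (ZMod 3)) :
    M.val 0 0 * M.val 1 1 - M.val 0 1 * M.val 1 0 = 1 := by
  have := M.2
  rwa [Matrix.det_fin_two] at this

theorem img_one : img 1 0 0 1 = (1, 0, 0, 1) := by decide +kernel

def lin (t : ZMod 5 × ZMod 5 × ZMod 5 × ZMod 5) : AddMonoid.End (ZMod 5 × ZMod 5) :=
  AddMonoidHom.mk' (fun x => (t.1 * x.1 + t.2.1 * x.2, t.2.2.1 * x.1 + t.2.2.2 * x.2))
    (fun x y => by ext <;> simp <;> ring)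


/-- The group SL(2,3) of order 24 (the binary tetrahedral group) occurs as a Frobenius complement of some finite Frobenius group. -/
theorem result :
    ∃ (L : Type) (_ : Group L) (_ : Finite L) (H : Subgroup L), Cfsg.IsFrobeniusComplement H ∧ Nonempty (H ≃* Matrix.SpecialLinearGroup (Fin 2) (ZMod 3)) := by

  haveI : Fact (Nat.Prime 5) := ⟨by norm_num⟩
  haveI : Nontrivial (Matrix.SpecialLinearGroup (Fin 2) (ZMod 3)) := by
    refine ⟨⟨1, ⟨!![1, 1; 0, 1], by simp [Matrix.det_fin_two]⟩, fun h => ?_⟩⟩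
    have := congrArg (fun M : Matrix.SpecialLinearGroup (Fin 2) (ZMod 3) => M.val 0 1) h
    simp at this
  let ρ : Matrix.SpecialLinearGroup (Fin 2) (ZMod 3) →* AddMonoid.End (ZMod 5 × ZMod 5) :=
    { toFun := fun M => lin (img (M.val 0 0) (M.val 0 1) (M.val 1 0) (M.val 1 1))
      map_one' := by
        refine AddMonoidHom.ext fun x => ?_
        show _ = x
        simp [lin, img_one]
      map_mul' := fun M N => by
          refine AddMonoidHom.ext fun x => ?_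
          have h := img_mul _ _ _ _ (det_one M) _ _ _ _ (det_one N)
          simp only [Matrix.SpecialLinearGroup.coe_mul, Matrix.mul_apply, Fin.sum_univ_two]
          rw [h]
          show Prod.mk _ _ = Prod.mk _ _
          refine Prod.ext ?_ ?_ <;> simp [lin] <;> ring }
  obtain ⟨L, iL, fL, C, hC, ⟨e⟩⟩ :=
    Cfsg.Agent.Lib.PGroups.exists_frobeniusComplement_of_addAction ρ (fun M hM x hx => by
      have h := img_fpf _ _ _ _ (det_one M) (fun h => hM (by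
        ext i j
        fin_cases i <;> fin_cases j <;> simp [h.1, h.2.1, h.2.2.1, h.2.2.2])) x.1 x.2
        (congrArg Prod.fst hx) (congrArg Prod.snd hx)
      exact Prod.ext h.1 h.2)
  exact ⟨L, iL, fL, C, hC, ⟨e.symm⟩⟩

end Cfsg.Agent.S4298
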