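import Cfsg.Statements.S4299
import Cfsg.Agent.Lib.PGroups.FrobExamples
import Mathlib

set_option autoImplicit false
open Cfsg

namespace Cfsg.Agent.S4299

/-- Every nontrivial finite cyclic group occurs as a Frobenius complement of some finite Frobenius group. -/
theorem result {C : Type*} [Group C] [Finite C] [IsCyclic C] [Nontrivial C] :
    ∃ (L : Type) (_ : Group L) (_ : Finite L) (H : Subgroup L), Cfsg.IsFrobeniusComplement H ∧ Nonempty (C ≃* H) := by

  classical
  obtain ⟨r, hr, -, hmod⟩ := Nat.exists_prime_gt_modEq_one (k := Nat.card C) 2 Nat.card_pos.ne'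
  haveI := Fact.mk hr
  have hdvd : Nat.card C ∣ Nat.card (ZMod r)ˣ := by
    rw [Nat.card_eq_fintype_card (α := (ZMod r)ˣ), ZMod.card_units r]
    exact (Nat.modEq_iff_dvd' hr.one_le).mp hmod.symm
  obtain ⟨g, hg⟩ := IsCyclic.exists_ofOrder_eq_natCard (α := (ZMod r)ˣ)
  have hg' : orderOf (g ^ (Nat.card (ZMod r)ˣ / Nat.card C)) = Nat.card C := by
    rw [← hg] at hdvd ⊢
    exact orderOf_pow_orderOf_div (orderOf_pos g).ne' hdvd
  let e : C ≃* Subgroup.zpowers (g ^ (Nat.card (ZMod r)ˣ / Nat.card C)) :=
    mulEquivOfCyclicCardEq (by rw [Nat.card_zpowers, hg'])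
  let u : C →* (ZMod r)ˣ := (Subgroup.subtype _).comp e.toMonoidHom
  have hu : Function.Injective u := Subtype.val_injective.comp e.injective
  let ρ : C →* AddMonoid.End (ZMod r) :=
    { toFun := fun c => AddMonoidHom.mulLeft ((u c : (ZMod r)ˣ) : ZMod r)
      map_one' := AddMonoidHom.ext fun v => by
        show ((u 1 : (ZMod r)ˣ) : ZMod r) * v = v
        rw [map_one, Units.val_one, one_mul]
      map_mul' := fun a b => by
          refine AddMonoidHom.ext fun v => ?_
          show ((u (a * b) : (ZMod r)ˣ) : ZMod r) * v = (u a : ZMod r) * ((u b : ZMod r) * v)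
          rw [map_mul, Units.val_mul, mul_assoc] }
  refine Cfsg.Agent.Lib.PGroups.exists_frobeniusComplement_of_addAction ρ fun c hc v hv => ?_
  have h1 : (u c : ZMod r) * v = v := hv
  by_contra hv0
  apply hc
  apply hu
  rw [map_one]
  exact Units.ext (by simpa using (mul_eq_right₀ hv0).mp h1)

end Cfsg.Agent.S4299
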