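import Cfsg.Statements.S4300

set_option autoImplicit false
open Cfsg

namespace Cfsg.Agent.S4300

/-- Let G act faithfully and primitively on a set X, and suppose the stabilizer of some point is a simple group. Then either G is simple, or G has a normal subgroup, neither trivial nor the whole group, that acts regularly on X (transitively with trivial point stabilizers). -/
theorem result {G : Type*} [Group G] {X : Type*} [MulAction G X] [FaithfulSMul G X]
    (hprim : MulAction.IsPreprimitive G X) (x : X) (hsimple : IsSimpleGroup (MulAction.stabilizer G x)) :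
    IsSimpleGroup G ∨ ∃ N : Subgroup G, N.Normal ∧ N ≠ ⊥ ∧ N ≠ ⊤ ∧
      MulAction.IsPretransitive N X ∧ ∀ y : X, MulAction.stabilizer N y = ⊥ := by
  classical
  haveI := hprim
  by_cases hsimp : IsSimpleGroup G
  · exact Or.inl hsimp
  right
  haveI := hsimple
  have hntG : Nontrivial G := by
    obtain ⟨a, b, hab⟩ := exists_pair_ne (MulAction.stabilizer G x)
    exact ⟨⟨a, b, fun h => hab (Subtype.ext h)⟩⟩
  obtain ⟨N, hNn, hN1, hN2⟩ : ∃ N : Subgroup G, N.Normal ∧ N ≠ ⊥ ∧ N ≠ ⊤ := by
    by_contra hc
    push Not at hc
    exact hsimp ⟨fun N hN => or_iff_not_imp_left.mpr (hc N hN)⟩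
  haveI := hNn
  have hfix : MulAction.fixedPoints N X ≠ Set.univ := by
    intro hall
    apply hN1
    rw [eq_bot_iff]
    intro n hn
    rw [Subgroup.mem_bot]
    refine eq_of_smul_eq_smul (α := X) fun y => ?_
    have : y ∈ MulAction.fixedPoints N X := hall ▸ Set.mem_univ y
    simpa using this ⟨n, hn⟩
  have htr : MulAction.IsPretransitive N X :=
    MulAction.IsQuasiPreprimitive.isPretransitive_of_normal hfix
  refine ⟨N, hNn, hN1, hN2, htr, fun y => ?_⟩
  have hx : MulAction.stabilizer N x = ⊥ := by
    rcases (inferInstance : (N.subgroupOf (MulAction.stabilizer G x)).Normal).eq_bot_or_eq_top with h | h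
    · rw [eq_bot_iff]
      intro n hn
      rw [Subgroup.mem_bot]
      have hmem : (⟨(n : G), hn⟩ : MulAction.stabilizer G x) ∈
          N.subgroupOf (MulAction.stabilizer G x) := n.2
      rw [h, Subgroup.mem_bot] at hmem
      exact Subtype.ext (congrArg (fun t : MulAction.stabilizer G x => (t : G)) hmem)
    · exfalso
      apply hN2
      rw [eq_top_iff]
      intro g _
      obtain ⟨n, hn⟩ := MulAction.exists_smul_eq N (g • x) x
      have hst : (n : G) * g ∈ MulAction.stabilizer G x := by
        rw [MulAction.mem_stabilizer_iff, mul_smul]; exact hn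
      have := Subgroup.subgroupOf_eq_top.mp h hst
      simpa using N.mul_mem (N.inv_mem n.2) this
  obtain ⟨m, hm⟩ := MulAction.exists_smul_eq N x y
  rw [← hm, MulAction.stabilizer_smul_eq_stabilizer_map_conj, hx, Subgroup.map_bot]

end Cfsg.Agent.S4300
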