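import Cfsg.Statements.S4301
import Mathlib

set_option autoImplicit false
open Cfsg

namespace Cfsg.Agent.S4301


theorem exists_pair {X : Type*} {k : ℕ} (hk : 2 ≤ k) (hkX : Nonempty (Fin k ↪ X))
    {a b : X} (hab : a ≠ b) : ∃ e : Fin k ↪ X, e ⟨0, by omega⟩ = a ∧ e ⟨1, by omega⟩ = b := by
  classical
  obtain ⟨e⟩ := hkX
  let e1 : Fin k ↪ X := e.trans (Equiv.swap (e ⟨0, by omega⟩) a).toEmbedding
  have h1 : e1 ⟨0, by omega⟩ = a := by simp [e1]
  have hne : e1 ⟨1, by omega⟩ ≠ a := fun h => by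
    have := e1.injective (h.trans h1.symm)
    simp at this
  refine ⟨e1.trans (Equiv.swap (e1 ⟨1, by omega⟩) b).toEmbedding, ?_, by simp⟩
  simp only [Function.Embedding.trans_apply, Equiv.coe_toEmbedding, h1]
  exact Equiv.swap_apply_of_ne_of_ne hne.symm hab


/-- One-point extension of a multiply transitive group. Let X be a set and G a group of permutations of Option X (the set X with one extra point ∗ = none) all of whose elements fix ∗, such that G is k-transitive on the points of X for some k ≥ 2, X having at least k points. Suppose a permutation h of Option X and an element g of G satisfy: h interchanges ∗ with a point x of X and fixes a point y of X; g interchanges x and y; (g h)³ and h² lie in G; and for every f in G fixing x, the product h f h lies in G and fixes x. Then an element of the group generated by G and h fixes ∗ exactly when it lies in G, and that group acts (k+1)-transitively on Option X. -/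
theorem result {X : Type*} (G : Subgroup (Equiv.Perm (Option X))) (hfix : ∀ f ∈ G, f none = none)
    (k : ℕ) (hk : 2 ≤ k) (hkX : Nonempty (Fin k ↪ X))
    (htrans : ∀ a b : Fin k ↪ X, ∃ f ∈ G, ∀ i, f (some (a i)) = some (b i))
    (h g : Equiv.Perm (Option X)) (hg : g ∈ G) (x y : X)
    (h1 : h none = some x) (h2 : h (some x) = none) (h3 : h (some y) = some y)
    (h4 : g (some x) = some y) (h5 : g (some y) = some x)
    (h6 : (g * h) ^ 3 ∈ G) (h7 : h ^ 2 ∈ G)
    (h8 : ∀ f ∈ G, f (some x) = some x → h * f * h ∈ G ∧ (h * f * h) (some x) = some x) :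
    (∀ f ∈ Subgroup.closure ((G : Set (Equiv.Perm (Option X))) ∪ {h}), f none = none ↔ f ∈ G) ∧
      MulAction.IsMultiplyPretransitive (Subgroup.closure ((G : Set (Equiv.Perm (Option X))) ∪ {h})) (Option X) (k + 1) := by

  classical
  have hxy : x ≠ y := fun e => by simp [e, h3] at h2
  have hpair : ∀ a b a' b' : X, a ≠ b → a' ≠ b' →
      ∃ f ∈ G, f (some a) = some a' ∧ f (some b) = some b' := by
    intro a b a' b' hab hab'
    obtain ⟨e, he1, he2⟩ := exists_pair hk hkX hab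
    obtain ⟨e', he1', he2'⟩ := exists_pair hk hkX hab'
    obtain ⟨f, hf, hfe⟩ := htrans e e'
    exact ⟨f, hf, by rw [← he1, ← he1']; exact hfe _, by rw [← he2, ← he2']; exact hfe _⟩
  have hsome : ∀ f ∈ G, ∀ z : X, ∃ w, f (some z) = some w := by
    intro f hf z
    rcases h' : f (some z) with _ | w
    · exact absurd (f.injective (h'.trans (hfix f hf).symm)) (by simp)
    · exact ⟨w, rfl⟩
  have hd : (h ^ 2)⁻¹ ∈ G := G.inv_mem h7
  have hdx : (h ^ 2)⁻¹ (some x) = some x := by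
    rw [Equiv.Perm.inv_eq_iff_eq, pow_two, Equiv.Perm.mul_apply, h2, h1]
  have hhgh : h * g * h = g⁻¹ * (g * h) ^ 3 * (h ^ 2)⁻¹ * h * g⁻¹ := by
    simp only [pow_succ, pow_zero, one_mul]; group
  -- key: h f h ∈ G ∪ G h G
  have hkey : ∀ f ∈ G, h * f * h ∈ G ∨ ∃ a ∈ G, ∃ b ∈ G, h * f * h = a * h * b := by
    intro f hf
    by_cases hfx : f (some x) = some x
    · exact Or.inl (h8 f hf hfx).1
    right
    obtain ⟨z, hz⟩ := hsome f hf x
    have hzx : x ≠ z := fun e => hfx (by rw [hz, e])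
    obtain ⟨u, hu, hux, huy⟩ := hpair x y x z hxy hzx
    have hv : (u * g)⁻¹ * f ∈ G := G.mul_mem (G.inv_mem (G.mul_mem hu hg)) hf
    have hvx : ((u * g)⁻¹ * f) (some x) = some x := by
      rw [Equiv.Perm.mul_apply, hz, Equiv.Perm.inv_eq_iff_eq, Equiv.Perm.mul_apply, h4, huy]
    obtain ⟨hA, -⟩ := h8 u hu hux
    obtain ⟨hB, -⟩ := h8 _ hv hvx
    refine ⟨(h * u * h) * (h ^ 2)⁻¹ * (g⁻¹ * (g * h) ^ 3 * (h ^ 2)⁻¹), ?_,
      g⁻¹ * (h ^ 2)⁻¹ * (h * ((u * g)⁻¹ * f) * h), ?_, ?_⟩
    · exact G.mul_mem (G.mul_mem hA hd) (G.mul_mem (G.mul_mem (G.inv_mem hg) h6) hd)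
    · exact G.mul_mem (G.mul_mem (G.inv_mem hg) hd) hB
    · calc h * f * h = (h * u * h) * (h ^ 2)⁻¹ * (h * g * h) * (h ^ 2)⁻¹ * (h * ((u * g)⁻¹ * f) * h) := by
            simp only [pow_two]; group
        _ = _ := by rw [hhgh]; group
  let T : Set (Equiv.Perm (Option X)) := {f | f ∈ G ∨ ∃ a ∈ G, ∃ b ∈ G, f = a * h * b}
  have hTl : ∀ c ∈ G, ∀ f ∈ T, c * f ∈ T := by
    rintro c hc f (hf | ⟨a, ha, b, hb, rfl⟩)
    · exact Or.inl (G.mul_mem hc hf)
    · exact Or.inr ⟨c * a, G.mul_mem hc ha, b, hb, by group⟩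
  have hTr : ∀ c ∈ G, ∀ f ∈ T, f * c ∈ T := by
    rintro c hc f (hf | ⟨a, ha, b, hb, rfl⟩)
    · exact Or.inl (G.mul_mem hf hc)
    · exact Or.inr ⟨a, ha, b * c, G.mul_mem hb hc, by group⟩
  have hTh : ∀ f ∈ T, h * f ∈ T := by
    rintro f (hf | ⟨a, ha, b, hb, rfl⟩)
    · exact Or.inr ⟨1, G.one_mem, f, hf, by group⟩
    · rw [show h * (a * h * b) = (h * a * h) * b by group]
      exact hTr b hb _ (hkey a ha)
  have hTh' : ∀ f ∈ T, h⁻¹ * f ∈ T := by
    intro f hf
    rw [show h⁻¹ = (h ^ 2)⁻¹ * h by simp only [pow_two]; group, mul_assoc]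
    exact hTl _ hd _ (hTh f hf)
  have hclo : ∀ f ∈ Subgroup.closure ((G : Set (Equiv.Perm (Option X))) ∪ {h}), f ∈ T := by
    intro f hf
    induction hf using Subgroup.closure_induction_left with
    | one => exact Or.inl G.one_mem
    | mul_left a ha b _ ih =>
      rcases ha with ha | ha
      · exact hTl a ha b ih
      · rw [Set.mem_singleton_iff] at ha; subst ha; exact hTh b ih
    | inv_mul_cancel a ha b _ ih =>
      rcases ha with ha | ha
      · exact hTl _ (G.inv_mem ha) b ih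
      · rw [Set.mem_singleton_iff] at ha; subst ha; exact hTh' b ih
  refine ⟨fun f hf => ⟨fun hfn => ?_, hfix f⟩, ?_⟩
  · rcases hclo f hf with h' | ⟨a, ha, b, hb, rfl⟩
    · exact h'
    · exfalso
      rw [Equiv.Perm.mul_apply, Equiv.Perm.mul_apply, hfix b hb, h1] at hfn
      obtain ⟨w, hw⟩ := hsome a ha x
      simp [hw] at hfn
  · set K := Subgroup.closure ((G : Set (Equiv.Perm (Option X))) ∪ {h})
    have hGK : ∀ f ∈ G, f ∈ K := fun f hf => Subgroup.subset_closure (Or.inl hf)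
    have hhK : h ∈ K := Subgroup.subset_closure (Or.inr rfl)
    have hto : ∀ o : Option X, ∃ f ∈ K, f o = none := by
      rintro (_ | z)
      · exact ⟨1, K.one_mem, rfl⟩
      · obtain ⟨z', hz'⟩ : ∃ z', z ≠ z' := by
          rcases eq_or_ne z x with rfl | h'
          · exact ⟨y, hxy⟩
          · exact ⟨x, h'⟩
        obtain ⟨f, hf, hfz, -⟩ := hpair z z' x y hz' hxy
        exact ⟨h * f, K.mul_mem hhK (hGK f hf), by rw [Equiv.Perm.mul_apply, hfz, h2]⟩
    refine ⟨fun a b => ?_⟩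
    have hred : ∀ a : Fin (k + 1) ↪ Option X, ∃ f ∈ K, ∃ e : Fin k ↪ X,
        f (a 0) = none ∧ ∀ i, f (a i.succ) = some (e i) := by
      intro a
      obtain ⟨f, hf, hf0⟩ := hto (a 0)
      have hne : ∀ i : Fin k, ∃ w, f (a i.succ) = some w := by
        intro i
        rcases h' : f (a i.succ) with _ | w
        · exact absurd (a.injective (f.injective (h'.trans hf0.symm))) (Fin.succ_ne_zero i)
        · exact ⟨w, rfl⟩
      choose e he using hne
      refine ⟨f, hf, ⟨e, fun i j hij => ?_⟩, hf0, he⟩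
      exact Fin.succ_injective _ (a.injective (f.injective (by rw [he, he, hij])))
    obtain ⟨fa, hfa, ea, ha0, has⟩ := hred a
    obtain ⟨fb, hfb, eb, hb0, hbs⟩ := hred b
    obtain ⟨f, hf, hfe⟩ := htrans ea eb
    refine ⟨⟨fb⁻¹ * f * fa, K.mul_mem (K.mul_mem (K.inv_mem hfb) (hGK f hf)) hfa⟩, ?_⟩
    ext1 i
    show (fb⁻¹ * f * fa) (a i) = b i
    rw [Equiv.Perm.mul_apply, Equiv.Perm.mul_apply, Equiv.Perm.inv_eq_iff_eq]
    refine Fin.cases ?_ (fun j => ?_) i
    · rw [ha0, hfix f hf, hb0]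
    · rw [has, hfe, hbs]

end Cfsg.Agent.S4301
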