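import Cfsg.Statements.S4302
import Cfsg.Agent.Lib.LocalEven2.TvAbelian
import Cfsg.Agent.Lib.MinNC8.Basic
import Cfsg.Agent.Lib.Fusion.ThompsonLocal
import Cfsg.Agent.Lib.PLocal.FusionNpcZJ
import Cfsg.Agent.Lib.PGroups.SylowNumber
import Cfsg.Agent.Lib.LocalEven.PCore
import Cfsg.Agent.Lib.Coprime.Basic

set_option autoImplicit false
open Cfsg

namespace Cfsg.Agent.S4302

open Lib

universe u

variable {X : Type u} [Group X] [Finite X]

/-- A normal subgroup which is a 2-extension of a normal subgroup centralising the closure of `Z(T)`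
centralises it too. -/
theorem absorb (T : Sylow 2 X) {K C : Subgroup X} [K.Normal] [C.Normal] (hCK : C ≤ K)
    (h2 : ∀ k ∈ K, ∃ m : ℕ, k ^ 2 ^ m ∈ C) {Z : Subgroup X}
    (hZ : (T : Subgroup X) ≤ Subgroup.centralizer (Z : Set X))
    (hC : C ≤ Subgroup.centralizer (Subgroup.normalClosure (Z : Set X) : Set X)) :
    K ≤ Subgroup.centralizer (Subgroup.normalClosure (Z : Set X) : Set X) := by
  haveI : Fact (Nat.Prime 2) := ⟨Nat.prime_two⟩
  set Zs := Subgroup.normalClosure (Z : Set X) with hZs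
  -- `K` centralises `Z`
  have hKZ : K ≤ Subgroup.centralizer (Z : Set X) := by
    set M := Subgroup.centralizer (Z : Set X) with hM
    have hCM : C ≤ M := hC.trans (Subgroup.centralizer_le Subgroup.subset_normalClosure)
    have h1 : (M ⊓ K).relIndex K ∣ ((T : Subgroup X) ⊓ K).relIndex K :=
      Subgroup.relIndex_dvd_of_le_left K (inf_le_inf_right K hZ)
    have h2' : (M ⊓ K).relIndex K ∣ C.relIndex K :=
      Subgroup.relIndex_dvd_of_le_left K (le_inf hCM hCK)
    have hpg : IsPGroup 2 (↥K ⧸ C.subgroupOf K) := by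
      intro x
      obtain ⟨k, rfl⟩ := QuotientGroup.mk'_surjective _ x
      obtain ⟨m, hm⟩ := h2 k k.2
      refine ⟨m, ?_⟩
      rw [← map_pow, QuotientGroup.mk'_apply, QuotientGroup.eq_one_iff]
      exact hm
    obtain ⟨e, he⟩ := IsPGroup.iff_card.mp hpg
    have hC2 : C.relIndex K = 2 ^ e := (Subgroup.index_eq_card _).trans he
    have hodd : ¬ 2 ∣ ((T : Subgroup X) ⊓ K).relIndex K :=
      PGroups.not_dvd_relIndex_inf T K
    rw [hC2] at h2'
    have h3 : (M ⊓ K).relIndex K = 1 := Nat.eq_one_of_dvd_coprimes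
      ((Nat.prime_two.coprime_iff_not_dvd.mpr hodd).pow_left e).symm h1 h2'
    exact (Subgroup.relIndex_eq_one.mp h3).trans inf_le_left
  obtain ⟨R, hR⟩ := PGroups.exists_sylow_eq_inf T K
  have hF := Sylow.normalizer_sup_eq_top R
  rw [hR, Subgroup.map_subgroupOf_eq_of_le inf_le_right] at hF
  have hTK : (T : Subgroup X) ⊓ K ≤ Subgroup.centralizer (Zs : Set X) := by
    rw [Subgroup.le_centralizer_iff]
    refine (Subgroup.closure_le _).mpr fun y hy => ?_
    obtain ⟨z, hz, x, rfl⟩ : ∃ z ∈ (Z : Set X), ∃ x : X, x * z * x⁻¹ = y := by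
      obtain ⟨z, hz, hc⟩ := Group.mem_conjugatesOfSet_iff.mp hy
      obtain ⟨x, hx⟩ := isConj_iff.mp hc
      exact ⟨z, hz, x, hx⟩
    have hx : x ∈ Subgroup.normalizer (((T : Subgroup X) ⊓ K : Subgroup X) : Set X) ⊔ K :=
      hF.symm ▸ Subgroup.mem_top x
    obtain ⟨n, hn, k, hk, rfl⟩ := Subgroup.mem_sup_of_normal_right.mp hx
    have hkz : z * k = k * z := Subgroup.mem_centralizer_iff.mp (hKZ hk) z hz
    rw [SetLike.mem_coe, Subgroup.mem_centralizer_iff]
    intro a ha
    have h := (Subgroup.mem_normalizer_iff''.mp hn a).mp ha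
    have h' : z * (n⁻¹ * a * n) = (n⁻¹ * a * n) * z :=
      Subgroup.mem_centralizer_iff.mp (hKZ h.2) z hz
    have e : n * k * z * (n * k)⁻¹ = n * z * n⁻¹ := by
      calc n * k * z * (n * k)⁻¹ = n * (k * z) * k⁻¹ * n⁻¹ := by group
        _ = n * z * n⁻¹ := by rw [← hkz]; group
    rw [e]
    calc a * (n * z * n⁻¹) = n * ((n⁻¹ * a * n) * z) * n⁻¹ := by group
      _ = n * z * n⁻¹ * a := by rw [← h']; group
  -- `K = C (T ⊓ K)` by indices
  set M := Subgroup.centralizer (Zs : Set X) ⊓ K with hM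
  have h1 : M.relIndex K ∣ ((T : Subgroup X) ⊓ K).relIndex K :=
    Subgroup.relIndex_dvd_of_le_left K (le_inf hTK inf_le_right)
  have h2' : M.relIndex K ∣ C.relIndex K := Subgroup.relIndex_dvd_of_le_left K (le_inf hC hCK)
  have hpg : IsPGroup 2 (↥K ⧸ C.subgroupOf K) := by
    intro x
    obtain ⟨k, rfl⟩ := QuotientGroup.mk'_surjective _ x
    obtain ⟨m, hm⟩ := h2 k k.2
    refine ⟨m, ?_⟩
    rw [← map_pow, QuotientGroup.mk'_apply, QuotientGroup.eq_one_iff]
    exact hm
  obtain ⟨e, he⟩ := IsPGroup.iff_card.mp hpg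
  have hC2 : C.relIndex K = 2 ^ e := (Subgroup.index_eq_card _).trans he
  rw [hC2] at h2'
  have h3 : M.relIndex K = 1 := Nat.eq_one_of_dvd_coprimes
    ((Nat.prime_two.coprime_iff_not_dvd.mpr (PGroups.not_dvd_relIndex_inf T K)).pow_left e).symm
    h1 h2'
  exact (Subgroup.relIndex_eq_one.mp h3).trans inf_le_left

/-- The factorisation `X = R N(J(T))` for a normal `R` containing `J(T)`. -/
theorem sup_normalizer_eq_top (T : Sylow 2 X) {R : Subgroup X} [R.Normal]
    (hJ : Cfsg.thompsonSubgroupAOf (T : Subgroup X) ≤ R) :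
    R ⊔ Subgroup.normalizer (Cfsg.thompsonSubgroupAOf (T : Subgroup X) : Set X) = ⊤ := by
  haveI : Fact (Nat.Prime 2) := ⟨Nat.prime_two⟩
  obtain ⟨Q, hQ⟩ := PGroups.exists_sylow_eq_inf T R
  have hF := Sylow.normalizer_sup_eq_top Q
  rw [hQ, Subgroup.map_subgroupOf_eq_of_le inf_le_right] at hF
  have hJT : Cfsg.thompsonSubgroupAOf (T : Subgroup X) ≤ (T : Subgroup X) := Subgroup.map_subtype_le _
  have heq := Lib.Fusion.thompsonSubgroupAOf_eq_of_le
    (inf_le_left : (T : Subgroup X) ⊓ R ≤ T) (le_inf hJT hJ)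
  rw [eq_top_iff, ← hF]
  refine sup_le (le_trans ?_ le_sup_right) le_sup_left
  rw [Subgroup.le_normalizer_iff]
  intro n hn a ha
  have hmap : ((T : Subgroup X) ⊓ R).map (MulAut.conj n).toMonoidHom = (T : Subgroup X) ⊓ R :=
    (Subgroup.mem_normalizer_iff_map_conj_eq.mp hn)
  rw [heq] at ha ⊢
  have := Lib.Fusion.map_thompsonSubgroupAOf (MulAut.conj n).toMonoidHom
    (MulAut.conj n).injective ((T : Subgroup X) ⊓ R)
  rw [hmap] at this
  exact this.le ⟨a, ha, rfl⟩

/-- Let `X` be a finite solvable group whose Fitting subgroup is a 2-group (equivalently `F(X) = O₂(X)`), `T` a Sylow 2-subgroup of `X`, `J(T)` the subgroup generated by the abelian subgroups of `T` of largest order, `C` the largest normal subgroup of `X` centralizing the centre `Z(T)`, and `Y` the normal closure of `J(T)` in `X`. Then `X = C · Y · N_X(J(T))`, and either `Y ≤ C`, or `CY/C` is isomorphic to a direct product of at least one copy of the symmetric group of degree 3. -/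
theorem result {X : Type*} [Group X] [Finite X]
    [Group.IsSolvable X] (hF : Cfsg.fittingSubgroup X = Cfsg.pCore 2 X) (T : Sylow 2 X) :
    ((Subgroup.centralizer (((T : Subgroup X) ⊓ Subgroup.centralizer ((T : Subgroup X) : Set X) : Subgroup X) : Set X)).normalCore
        ⊔ Subgroup.normalClosure (Cfsg.thompsonSubgroupAOf (T : Subgroup X) : Set X)
        ⊔ Subgroup.normalizer (Cfsg.thompsonSubgroupAOf (T : Subgroup X) : Set X) = ⊤) ∧
    (Subgroup.normalClosure (Cfsg.thompsonSubgroupAOf (T : Subgroup X) : Set X)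
        ≤ (Subgroup.centralizer (((T : Subgroup X) ⊓ Subgroup.centralizer ((T : Subgroup X) : Set X) : Subgroup X) : Set X)).normalCore
      ∨ ∃ n : ℕ, 1 ≤ n ∧
        Nonempty (↥(Subgroup.normalClosure (Cfsg.thompsonSubgroupAOf (T : Subgroup X) : Set X)) ⧸
            ((Subgroup.centralizer (((T : Subgroup X) ⊓ Subgroup.centralizer ((T : Subgroup X) : Set X) : Subgroup X) : Set X)).normalCore).subgroupOf
              (Subgroup.normalClosure (Cfsg.thompsonSubgroupAOf (T : Subgroup X) : Set X))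
          ≃* (Fin n → Equiv.Perm (Fin 3)))) := by
  haveI : Fact (Nat.Prime 2) := ⟨Nat.prime_two⟩
  set Z := (T : Subgroup X) ⊓ Subgroup.centralizer ((T : Subgroup X) : Set X) with hZ
  set J := Cfsg.thompsonSubgroupAOf (T : Subgroup X) with hJ
  set Y := Subgroup.normalClosure (J : Set X) with hY
  set Zs := Subgroup.normalClosure (Z : Set X) with hZs
  -- the core of `C(Z)` is `C(Zs)`
  have hC : (Subgroup.centralizer (Z : Set X)).normalCore = Subgroup.centralizer (Zs : Set X) := by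
    refine le_antisymm ?_ (Subgroup.normal_le_normalCore.mpr
      (Subgroup.centralizer_le Subgroup.subset_normalClosure))
    rw [Subgroup.le_centralizer_iff]
    exact Subgroup.normalClosure_le_normal
      (Subgroup.le_centralizer_iff.mp (Subgroup.normalCore_le _))
  set C := Subgroup.centralizer (Zs : Set X) with hCdef
  refine ⟨sup_normalizer_eq_top T (le_trans (show J ≤ Y from Subgroup.subset_normalClosure) le_sup_right), ?_⟩
  by_cases hYC : Y ≤ C
  · exact Or.inl (hC.symm ▸ hYC)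
  right
  -- `Zs` is an abelian 2-group
  set Q := Cfsg.pCore 2 X with hQdef
  have hQn : Q.Normal := LocalEven.pCore_normal 2 X
  have hQp : IsPGroup 2 ↥Q := LocalEven.pCore_isPGroup 2 X
  have hQT : Q ≤ (T : Subgroup X) := LocalEven.pCore_le_sylow T
  have hCQ : Subgroup.centralizer (Q : Set X) ≤ Q := by
    rw [← hF]
    exact Cores.centralizer_fittingSubgroup_le inferInstance
  have hZC : Z ≤ Subgroup.centralizer (Q : Set X) := inf_le_right.trans (Subgroup.centralizer_le hQT)
  have hZsC : Zs ≤ Subgroup.centralizer (Q : Set X) := Subgroup.normalClosure_le_normal hZC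
  have hZsQ : Zs ≤ Q := hZsC.trans hCQ
  have hZsT : Zs ≤ (T : Subgroup X) := hZsQ.trans hQT
  have hZsp : IsPGroup 2 ↥Zs := hQp.to_le hZsQ
  have hZsc : ∀ a ∈ Zs, ∀ b ∈ Zs, a * b = b * a := fun a ha b hb =>
    Subgroup.mem_centralizer_iff.mp (hZsC hb) a (hZsQ ha)
  have hTZ : (T : Subgroup X) ≤ Subgroup.centralizer (Z : Set X) :=
    Subgroup.le_centralizer_iff.mp inf_le_right
  -- `V = Ω₁(Zs)`
  let V : Subgroup X :=
    { carrier := {v | v ∈ Zs ∧ v * v = 1}
      one_mem' := ⟨one_mem _, one_mul 1⟩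
      mul_mem' := fun {a b} ha hb => ⟨mul_mem ha.1 hb.1, by
        have hc : Commute b a := hZsc b hb.1 a ha.1
        calc a * b * (a * b) = a * (b * a) * b := by group
          _ = a * a * (b * b) := by rw [hc.eq]; group
          _ = 1 := by rw [ha.2, hb.2, one_mul]⟩
      inv_mem' := fun {a} ha => ⟨inv_mem ha.1, by rw [← mul_inv_rev, ha.2, inv_one]⟩ }
  have hVn : V.Normal := ⟨fun v hv x => ⟨(Subgroup.normalClosure_normal).conj_mem v hv.1 x, by
    rw [show x * v * x⁻¹ * (x * v * x⁻¹) = x * (v * v) * x⁻¹ by group, hv.2, mul_one,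
      mul_inv_cancel]⟩⟩
  letI : CommGroup ↥V :=
    { (inferInstance : Group ↥V) with
      mul_comm := fun x y => Subtype.ext (hZsc x x.2.1 y y.2.1) }
  let ρ : X →* MulAut ↥V := MulAut.conjNormal (H := V)
  have hρ : ∀ (x : X) (v : ↥V), ((ρ x v : ↥V) : X) = x * v * x⁻¹ := fun x v =>
    MulAut.conjNormal_apply x v
  -- the kernel
  have hkerle : C ≤ ρ.ker := fun c hc => MulEquiv.ext fun v => Subtype.ext (by
    rw [hρ]
    change c * (v : X) * c⁻¹ = v
    rw [← Subgroup.mem_centralizer_iff.mp hc v v.2.1, mul_inv_cancel_right])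
  have hker2 : ∀ k ∈ ρ.ker, ∃ m : ℕ, k ^ 2 ^ m ∈ C := by
    intro k hk
    obtain ⟨m, l, hl, hkl⟩ := Nat.exists_eq_two_pow_mul_odd (orderOf_pos k).ne'
    refine ⟨m, ?_⟩
    set j := k ^ 2 ^ m with hj
    have hjk : j ∈ ρ.ker := pow_mem hk _
    have hjo : j ^ l = 1 := by rw [hj, ← pow_mul, ← hkl, pow_orderOf_eq_one]
    set γ : MulAut ↥Zs := MulAut.conjNormal j with hγ
    have hγo : Odd (orderOf γ) :=
      hl.of_dvd_nat (orderOf_dvd_of_pow_eq_one (by rw [hγ, ← map_pow, hjo, map_one]))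
    have hfix : ∀ n : ℕ, ∀ z : ↥Zs, z ^ 2 ^ n = 1 → γ z = z := by
      intro n
      induction n with
      | zero => intro z hz; rw [pow_zero, pow_one] at hz; rw [hz, map_one]
      | succ n ih =>
        intro z hz
        have h2 : γ (z ^ 2) = z ^ 2 := ih _ (by rw [← pow_mul, ← pow_succ', hz])
        set b := z⁻¹ * γ z with hb
        have hzc : Commute z⁻¹ (γ z) := Subtype.ext (hZsc _ (z⁻¹).2 _ (γ z).2)
        have hb2 : b ^ 2 = 1 := by
          rw [hb, hzc.mul_pow, inv_pow, ← map_pow, h2, inv_mul_cancel]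
        have hbV : (b : X) ∈ V := ⟨b.2, by
          rw [← Subgroup.coe_mul, ← pow_two, hb2, Subgroup.coe_one]⟩
        have hγb : γ b = b := Subtype.ext (by
          have h := congrArg (fun f : MulAut ↥V => ((f ⟨b, hbV⟩ : ↥V) : X)) (MonoidHom.mem_ker.mp hjk)
          rw [hρ] at h
          rw [hγ, MulAut.conjNormal_apply]
          exact h)
        exact Lib.MinNC8.fix_of_series hZsp hγo (mul_inv_cancel_left z (γ z)).symm hγb
    refine Subgroup.mem_centralizer_iff.mpr fun z hz => ?_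
    obtain ⟨n, hn⟩ := hZsp ⟨z, hz⟩
    have h := congrArg Subtype.val (hfix n ⟨z, hz⟩ hn)
    rw [hγ, MulAut.conjNormal_apply] at h
    exact (mul_inv_eq_iff_eq_mul.mp h).symm
  have hker : ρ.ker = C :=
    le_antisymm (absorb T hkerle hker2 hTZ le_rfl) hkerle
  have hcore : Cfsg.pCore 2 ↥ρ.range = ⊥ := by
    set P := Cfsg.pCore 2 ↥ρ.range with hP
    have hPn : P.Normal := LocalEven.pCore_normal 2 _
    have hK := absorb T (K := P.comap ρ.rangeRestrict) (C := C) (fun c hc => by
      rw [Subgroup.mem_comap, show ρ.rangeRestrict c = 1 from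
        Subtype.ext (MonoidHom.mem_ker.mp (hker.symm ▸ hc : c ∈ ρ.ker))]
      exact one_mem _) (fun k hk => ?_) hTZ le_rfl
    · rw [eq_bot_iff]
      intro y hy
      obtain ⟨x, rfl⟩ := ρ.rangeRestrict_surjective y
      rw [Subgroup.mem_bot]
      exact Subtype.ext (MonoidHom.mem_ker.mp (hker.symm ▸ hK hy : x ∈ ρ.ker))
    · obtain ⟨m, hm⟩ := LocalEven.pCore_isPGroup 2 _ ⟨_, hk⟩
      refine ⟨m, hker ▸ MonoidHom.mem_ker.mpr ?_⟩
      have h := congrArg (fun z : ↥P => ((z : ↥ρ.range) : MulAut ↥V)) hm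
      simpa using h
  have S : LocalEven2.Tv.Setting ↥ρ.range ↥V :=
    { finiteY := inferInstance
      finiteV := inferInstance
      exp2 := fun v => Subtype.ext v.2.2
      faithful := fun y h => Subtype.ext (MulEquiv.ext fun v => h v)
      solv := Group.isSolvable_of_surjective ρ.rangeRestrict_surjective
      core := hcore }
  -- maximal abelian subgroups of `T` act as offenders
  have hoff : ∀ A : Subgroup X, PLocal.MaxIn 0 (T : Subgroup X) A →
      A.map ρ.rangeRestrict ≤ Subgroup.closure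
        {t : ↥ρ.range | t ∈ A.map ρ.rangeRestrict ∧ LocalEven2.Tv.IsTv ↥V t} := by
    intro A hA
    have hAc : ∀ a ∈ A, ∀ b ∈ A, a * b = b * a := fun a ha b hb =>
      PLocal.commute_of_elemAb hA.2.1 ha hb
    set Ab := A.map ρ.rangeRestrict with hAb
    have hAbc : ∀ a ∈ Ab, ∀ b ∈ Ab, a * b = b * a := by
      rintro _ ⟨a, ha, rfl⟩ _ ⟨b, hb, rfl⟩
      rw [← map_mul, ← map_mul, hAc a ha b hb]
    refine (S.offender_abelian _ Ab rfl hAbc ((T.isPGroup'.to_le hA.1).map _)).2 ?_
    set F := LocalEven2.Tv.fixOf ↥V (Ab : Set ↥ρ.range) with hFdef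
    set A₀ := A ⊓ C with hA₀
    have hnorm : A₀ ≤ Subgroup.normalizer (Zs : Set X) :=
      le_top.trans (Subgroup.normalizer_eq_top_iff.mpr Subgroup.normalClosure_normal).ge
    have hsupc : Cfsg.IsElementaryAbelian 0 (Zs ⊔ A₀ : Subgroup X) := by
      refine ⟨?_, fun x _ => pow_zero x⟩
      rw [Subgroup.sup_eq_closure]
      refine Subgroup.isMulCommutative_closure ?_
      rintro x (hx | hx) y (hy | hy)
      · exact hZsc x hx y hy
      · exact Subgroup.mem_centralizer_iff.mp hy.2 x hx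
      · exact (Subgroup.mem_centralizer_iff.mp hx.2 y hy).symm
      · exact hAc x hx.1 y hy.1
    have hmax := hA.2.2 _ (sup_le hZsT (inf_le_left.trans hA.1)) hsupc
    have hcard := Coprime.card_sup_mul_card_inf hnorm
    have hkk : Nat.card ↥Ab * Nat.card ↥A₀ = Nat.card ↥A := by
      have h1 := Cores.card_map_mul_card_inf_ker ρ.rangeRestrict A
      rwa [MonoidHom.ker_rangeRestrict, hker] at h1
    have hrel : A.relIndex Zs ≤ Nat.card ↥Ab := by
      have hinf : A ⊓ Zs = Zs ⊓ A₀ := by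
        refine le_antisymm (fun x hx => ⟨hx.2, hx.1, Subgroup.mem_centralizer_iff.mpr fun z hz =>
          hZsc z hz x hx.2⟩) (fun x hx => ⟨hx.2.1, hx.1⟩)
      have h2 := ((A ⊓ Zs).subgroupOf Zs).card_mul_index
      rw [Nat.card_congr (Subgroup.subgroupOfEquivOfLe inf_le_right).toEquiv] at h2
      change Nat.card ↥(A ⊓ Zs) * (A ⊓ Zs).relIndex Zs = _ at h2
      rw [Subgroup.inf_relIndex_right, hinf] at h2
      have hpos : 0 < Nat.card ↥(Zs ⊓ A₀ : Subgroup X) * Nat.card ↥A₀ :=
        Nat.mul_pos Nat.card_pos Nat.card_pos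
      refine Nat.le_of_mul_le_mul_left ?_ hpos
      calc Nat.card ↥(Zs ⊓ A₀ : Subgroup X) * Nat.card ↥A₀ * A.relIndex Zs
          = Nat.card ↥Zs * Nat.card ↥A₀ := by rw [mul_right_comm, h2]
        _ = Nat.card ↥(Zs ⊔ A₀ : Subgroup X) * Nat.card ↥(Zs ⊓ A₀ : Subgroup X) := hcard.symm
        _ ≤ Nat.card ↥A * Nat.card ↥(Zs ⊓ A₀ : Subgroup X) := Nat.mul_le_mul_right _ hmax
        _ = Nat.card ↥(Zs ⊓ A₀ : Subgroup X) * Nat.card ↥A₀ * Nat.card ↥Ab := by
            rw [← hkk]; ring
    have hVle : A.relIndex V ≤ A.relIndex Zs :=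
      Subgroup.relIndex_le_of_le_right (fun v hv => hv.1) Subgroup.FiniteIndex.index_ne_zero
    have hFle : F.index ≤ A.relIndex V := by
      refine Nat.le_of_dvd (Nat.pos_of_ne_zero Subgroup.FiniteIndex.index_ne_zero)
        (Subgroup.index_dvd_of_le ?_)
      intro v hv
      rintro _ ⟨a, ha, rfl⟩
      refine Subtype.ext ?_
      show ((ρ a v : ↥V) : X) = v
      rw [hρ, hAc a ha v hv, mul_inv_cancel_right]
    omega
  -- the transvections
  set D : Set ↥ρ.range := {t | t ∈ Y.map ρ.rangeRestrict ∧ LocalEven2.Tv.IsTv ↥V t} with hD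
  have hYn : (Y.map ρ.rangeRestrict).Normal :=
    Subgroup.Normal.map Subgroup.normalClosure_normal _ ρ.rangeRestrict_surjective
  have hconj : ∀ t ∈ D, ∀ y : ↥ρ.range, y * t * y⁻¹ ∈ D := fun t ht y => by
    obtain ⟨d, hd⟩ := ht.2
    exact ⟨hYn.conj_mem t ht.1 y, _, S.cen_conj hd y⟩
  have hclD : Subgroup.closure D = Y.map ρ.rangeRestrict := by
    refine le_antisymm ((Subgroup.closure_le _).mpr fun t ht => ht.1) ?_
    haveI : (Subgroup.closure D).Normal := ⟨fun x hx y => by
      induction hx using Subgroup.closure_induction with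
      | mem t ht => exact Subgroup.subset_closure (hconj t ht y)
      | one => simp
      | mul a b _ _ ha hb => simpa [mul_assoc] using mul_mem ha hb
      | inv a _ ha => simpa [mul_assoc] using inv_mem ha⟩
    rw [Subgroup.map_le_iff_le_comap]
    refine Subgroup.normalClosure_le_normal ?_
    have hJle : J ≤ (Subgroup.closure D).comap ρ.rangeRestrict := by
      rw [hJ, PLocal.FusionNpc.thompsonSubgroupAOf_eq_sSup]
      refine sSup_le fun A hA => ?_
      rw [← Subgroup.map_le_iff_le_comap]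
      refine (hoff A hA).trans (Subgroup.closure_mono fun t ht => ⟨?_, ht.2⟩)
      refine Subgroup.map_mono ?_ ht.1
      intro a ha
      refine Subgroup.subset_normalClosure ?_
      rw [hJ, PLocal.FusionNpc.thompsonSubgroupAOf_eq_sSup]
      exact le_sSup hA ha
    exact hJle
  have hne : D.Nonempty := by
    by_contra h
    rw [Set.not_nonempty_iff_eq_empty] at h
    refine hYC fun y hy => hker ▸ ?_
    have hy' : ρ.rangeRestrict y ∈ Subgroup.closure D := hclD.symm ▸ ⟨y, hy, rfl⟩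
    rw [h, Subgroup.closure_empty, Subgroup.mem_bot] at hy'
    exact MonoidHom.mem_ker.mpr (congrArg Subtype.val hy' :)
  obtain ⟨n, hn, ⟨e⟩⟩ := S.closure_equiv (fun t ht => ht.2) hne hconj
  refine ⟨n, hn, ⟨?_⟩⟩
  let ψ : ↥Y →* ↥(Y.map ρ.rangeRestrict) := ρ.rangeRestrict.subgroupMap Y
  have hψk : ψ.ker = (Subgroup.centralizer (Z : Set X)).normalCore.subgroupOf Y := by
    rw [hC]
    ext y
    rw [MonoidHom.mem_ker, Subgroup.mem_subgroupOf, ← hker, MonoidHom.mem_ker]
    exact ⟨fun h => congrArg (fun z : ↥(Y.map ρ.rangeRestrict) => ((z : ↥ρ.range) : MulAut ↥V)) h,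
      fun h => Subtype.ext (Subtype.ext h)⟩
  exact ((QuotientGroup.quotientMulEquivOfEq hψk.symm).trans
    (QuotientGroup.quotientKerEquivOfSurjective ψ (ρ.rangeRestrict.subgroupMap_surjective Y))).trans
      ((MulEquiv.subgroupCongr hclD.symm).trans e)

end Cfsg.Agent.S4302
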