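import Cfsg.Statements.S4303
import Cfsg.Agent.Lib.PGroups.SylowInduction

set_option autoImplicit false
universe u
open Cfsg

namespace Cfsg.Agent.S4303

/-- For a finite group `G` and a prime `p`, the number of Sylow `p`-subgroups of `G` is a product of natural numbers each of which is either a prime power congruent to 1 modulo `p` or the number of Sylow `p`-subgroups of some finite simple group. -/
theorem result {G : Type u} [Group G] [Finite G]
    (p : ℕ) [Fact p.Prime] :
    ∃ l : List ℕ, l.prod = Nat.card (Sylow p G) ∧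
      ∀ m ∈ l, (IsPrimePow m ∧ m % p = 1) ∨
        ∃ (S : Type u) (_ : Group S) (_ : Finite S), IsSimpleGroup S ∧ m = Nat.card (Sylow p S) := by
  refine Cfsg.Agent.Lib.PGroups.sylow_number_induction p (fun _ _ => True) (fun _ _ _ _ _ => trivial)
    (fun _ _ _ _ _ _ => trivial)
    (fun n => ∃ l : List ℕ, l.prod = n ∧ ∀ m ∈ l, (IsPrimePow m ∧ m % p = 1) ∨
      ∃ (S : Type u) (_ : Group S) (_ : Finite S), IsSimpleGroup S ∧ m = Nat.card (Sylow p S))
    ⟨[], rfl, by simp⟩ ?_ ?_ ?_ G trivial
  · rintro a b ⟨la, ha, ha'⟩ ⟨lb, hb, hb'⟩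
    refine ⟨la ++ lb, by rw [List.prod_append, ha, hb], fun m hm => ?_⟩
    rcases List.mem_append.mp hm with h | h
    · exact ha' m h
    · exact hb' m h
  · intro S i1 i2 i3 _
    exact ⟨[Nat.card (Sylow p S)], by simp, fun m hm => Or.inr ⟨S, i1, i2, i3, by simpa using hm⟩⟩
  · intro n hn h
    refine ⟨n.primeFactors.toList.map (fun q => q ^ n.factorization q), ?_, fun m hm => Or.inl ?_⟩
    · rw [Finset.prod_map_toList]
      exact Nat.prod_factorization_pow_eq_self hn
    · obtain ⟨q, hq, rfl⟩ := List.mem_map.mp hm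
      rw [Finset.mem_toList] at hq
      have hqp := Nat.prime_of_mem_primeFactors hq
      refine ⟨hqp.isPrimePow.pow (Finsupp.mem_support_iff.mp (by rw [Nat.support_factorization]; exact hq)), ?_⟩
      have := h q hqp
      rwa [Nat.ModEq, Nat.mod_eq_of_lt (Fact.out : p.Prime).one_lt] at this

end Cfsg.Agent.S4303
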