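import Cfsg.Statements.S4304
import Cfsg.Agent.Lib.PGroups.SylowDegree

set_option autoImplicit false
open Cfsg

namespace Cfsg.Agent.S4304

/-- No finite group has exactly 15 Sylow 7-subgroups. -/
theorem result {G : Type*} [Group G] [Finite G] : Nat.card (Sylow 7 G) ≠ 15 := by
  haveI : Fact (Nat.Prime 7) := ⟨by norm_num⟩
  refine Cfsg.Agent.Lib.PGroups.card_sylow_ne_of_simple 7 15 (by norm_num) ?_ ?_ ?_ G
  · intro d hd h
    have : d ≤ 15 := Nat.le_of_dvd (by norm_num) hd
    interval_cases d <;> omega
  · refine ⟨3, by norm_num, ?_⟩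
    have h3 : Nat.factorization 15 3 = 1 := by
      rw [show (15 : ℕ) = 3 ^ 1 * 5 by norm_num, Nat.factorization_mul (by norm_num) (by norm_num),
        Finsupp.add_apply, Nat.factorization_eq_zero_of_not_dvd (by norm_num : ¬ 3 ∣ 5)]
      simp [show Nat.Prime 3 by norm_num]
    rw [h3]; norm_num
  · intro S _ _ _ hS hd hn
    obtain ⟨hodd, d, hcard, hdvd, hd1⟩ :=
      Cfsg.Agent.Lib.PGroups.isCyclic_sylow_two_and_index_of_card_sylow (p := 7) hS hd (by norm_num) hn
    rw [hcard] at hodd
    have : d ≤ 6 := Nat.le_of_dvd (by norm_num) hdvd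
    have hd3 : d = 3 := by
      interval_cases d <;> simp_all (config := { decide := true }) [Nat.odd_iff]
    subst hd3
    haveI : Fact (Nat.Prime 5) := ⟨by norm_num⟩
    have h5 : 5 ∣ Nat.card S := by rw [hcard]; norm_num
    obtain ⟨P⟩ : Nonempty (Sylow 5 S) := inferInstance
    set N := Subgroup.normalizer ((P : Subgroup S) : Set S) with hN
    have hPc : Nat.card (P : Subgroup S) = 5 := by
      rw [P.card_eq_multiplicity, hcard, show (2 * 7 + 1) * (7 * 3) = 5 ^ 1 * 63 by norm_num,
        Nat.factorization_mul (by norm_num) (by norm_num), Finsupp.add_apply,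
        Nat.factorization_eq_zero_of_not_dvd (by norm_num : ¬ 5 ∣ 63)]
      simp [show Nat.Prime 5 by norm_num]
    have hidx : (P : Subgroup S).index = 63 := by
      have := (P : Subgroup S).card_mul_index
      rw [hPc, hcard] at this
      omega
    have hn5 : Nat.card (Sylow 5 S) = 1 ∨ Nat.card (Sylow 5 S) = 21 := by
      have h1 := P.card_dvd_index
      rw [hidx] at h1
      have h2 := card_sylow_modEq_one 5 S
      rw [Nat.ModEq] at h2
      have h3 : Nat.card (Sylow 5 S) ≤ 63 := Nat.le_of_dvd (by norm_num) h1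
      interval_cases h4 : Nat.card (Sylow 5 S) <;> simp_all (config := { decide := true })
    have hNc : Nat.card N * Nat.card (Sylow 5 S) = 315 := by
      rw [Cfsg.Agent.Lib.PGroups.card_sylow_eq_index P, ← hN, N.card_mul_index, hcard]
    apply Cfsg.Agent.Lib.PGroups.not_normalizer_le_centralizer hS h5 P
    let ψ : N →* MulAut (P : Subgroup S) := Subgroup.normalizerMonoidHom (P : Subgroup S)
    haveI : IsCyclic (P : Subgroup S) := isCyclic_of_prime_card hPc
    have ha : Nat.card ψ.range ∣ 4 := by
      refine (Subgroup.card_subgroup_dvd_card _).trans ?_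
      rw [IsCyclic.card_mulAut, hPc, Nat.totient_prime (by norm_num)]
    have hb : Nat.card ψ.range ∣ 315 := by
      rw [← Subgroup.index_ker, ← hNc]
      exact (ψ.ker.index_dvd_card).trans (dvd_mul_right _ _)
    have h1 : Nat.card ψ.range = 1 := Nat.dvd_one.mp (by simpa using Nat.dvd_gcd ha hb)
    intro g hg
    have h2 : (⟨g, hg⟩ : N) ∈ ψ.ker := by
      rw [MonoidHom.range_eq_bot_iff.mp (Subgroup.card_eq_one.mp h1), MonoidHom.ker_one]
      exact Subgroup.mem_top _
    rw [Subgroup.normalizerMonoidHom_ker, Subgroup.mem_subgroupOf] at h2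
    exact h2

end Cfsg.Agent.S4304
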