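import Cfsg.Statements.S4305
import Cfsg.Agent.Lib.Solvable.FPF.SymThreeGroup

set_option autoImplicit false
open Cfsg

namespace Cfsg.Agent.S4305

/-- Let the symmetric group of degree 3 act by automorphisms on a finite solvable group `G` of order prime to 6, so that only the identity of `G` is fixed by all of it. Then the derived subgroup of `G` is nilpotent. -/
theorem result {G : Type*} [Group G] [Finite G] [Group.IsSolvable G]
    [MulDistribMulAction (Equiv.Perm (Fin 3)) G] (hcop : (Nat.card G).Coprime 6)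
    (hfpf : ∀ g : G, (∀ a : Equiv.Perm (Fin 3), a • g = g) → g = 1) :
    Group.IsNilpotent ↥(commutator G) := by
  have hA : Nat.card (Equiv.Perm (Fin 3)) = 6 := by
    rw [Nat.card_eq_fintype_card, Fintype.card_perm, Fintype.card_fin]; rfl
  let c : Equiv.Perm (Fin 3) := finRotate 3
  have hc3 : c ^ 3 = 1 := by decide
  have hc1 : c ≠ 1 := by decide
  have hord : orderOf c = 3 := haveI := Fact.mk Nat.prime_three; orderOf_eq_prime hc3 hc1
  have hmem : ∀ g : Equiv.Perm (Fin 3), g ∈ Subgroup.zpowers c ↔ g = 1 ∨ g = c ∨ g = c * c := by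
    intro g
    constructor
    · intro hg
      obtain ⟨m, rfl⟩ := (isOfFinOrder_of_finite c).mem_powers_iff_mem_zpowers.mpr hg
      dsimp only
      rw [← pow_mod_orderOf, hord]
      rcases (show m % 3 = 0 ∨ m % 3 = 1 ∨ m % 3 = 2 by omega) with h | h | h <;> rw [h]
      · exact Or.inl (pow_zero c)
      · exact Or.inr (Or.inl (pow_one c))
      · exact Or.inr (Or.inr (sq c))
    · rintro (rfl | rfl | rfl)
      · exact one_mem _
      · exact Subgroup.mem_zpowers c
      · exact mul_mem (Subgroup.mem_zpowers c) (Subgroup.mem_zpowers c)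
  have hkey : ∀ g : Equiv.Perm (Fin 3),
      (g = 1 ∨ g = c ∨ g = c * c) ∨ (g * g = 1 ∧ g * c * g⁻¹ = c⁻¹) := by decide
  have hsolA : Group.IsSolvable (Equiv.Perm (Fin 3)) := by
    haveI := Cfsg.Agent.Lib.Coprime.isSolvable_zpowers c
    haveI hn : (Subgroup.zpowers c).Normal := by
      refine Subgroup.normal_of_index_eq_two ?_
      have := (Subgroup.zpowers c).card_mul_index
      rw [Nat.card_zpowers, hord, hA] at this
      omega
    haveI : Group.IsSolvable (Equiv.Perm (Fin 3) ⧸ Subgroup.zpowers c) := by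
      haveI : Fact (Nat.Prime 2) := ⟨Nat.prime_two⟩
      have h2 : Nat.card (Equiv.Perm (Fin 3) ⧸ Subgroup.zpowers c) = 2 := by
        have := (Subgroup.zpowers c).card_mul_index
        rw [Nat.card_zpowers, hord, hA] at this
        rw [← Subgroup.index_eq_card]
        omega
      haveI := isCyclic_of_prime_card h2
      exact Group.isSolvable_of_comm fun a b => IsMulCommutative.is_comm.comm a b
    exact Group.isSolvable_of_ker_le_range (Subgroup.zpowers c).subtype
      (QuotientGroup.mk' (Subgroup.zpowers c)) (by rw [QuotientGroup.ker_mk', Subgroup.range_subtype])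
  have h := Cfsg.Agent.Lib.Solvable.FPF.symThree_aux _ G (Equiv.Perm (Fin 3))
    (MulDistribMulAction.toMulAut _ _) c rfl ‹_› hsolA hc3 hc1
    ⟨Equiv.swap 0 1, fun h => by
      have := (hmem _).mp h
      revert this
      decide⟩
    (fun g hg => by
      rcases hkey g with h | ⟨h1, h2⟩
      · exact absurd ((hmem g).mpr h) hg
      · refine ⟨h1, h2, Subgroup.eq_top_of_le_card _ ?_⟩
        have hg1 : g ≠ 1 := fun e => hg (e ▸ one_mem _)
        haveI : Fact (Nat.Prime 2) := ⟨Nat.prime_two⟩
        have ho : orderOf g = 2 := orderOf_eq_prime (by rw [sq]; exact h1) hg1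
        rw [hA]
        refine Nat.le_of_dvd Nat.card_pos ((show (6 : ℕ) = 3 * 2 from rfl) ▸
          Nat.Coprime.mul_dvd_of_dvd_of_dvd (by norm_num) ?_ ?_)
        · have h3 := Subgroup.card_dvd_of_le (le_sup_left : Subgroup.zpowers c ≤ Subgroup.zpowers c ⊔ Subgroup.zpowers g)
          rwa [Nat.card_zpowers, hord] at h3
        · rw [← ho, ← Nat.card_zpowers]; exact Subgroup.card_dvd_of_le le_sup_right)
    hcop (by rw [hA]; exact hcop.symm) hfpf
  haveI := Cfsg.Agent.Lib.Cores.fittingSubgroup_isNilpotent G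
  refine Subgroup.isNilpotent_of_ker_le_center (Subgroup.inclusion h) ?_
  rw [(MonoidHom.ker_eq_bot_iff _).mpr (Subgroup.inclusion_injective h)]
  exact bot_le

end Cfsg.Agent.S4305
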