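import Cfsg.Statements.S4306
import Cfsg.Agent.Lib.Solvable.FPF.FrobeniusGroup

set_option autoImplicit false
open Cfsg

namespace Cfsg.Agent.S4306

/-- Let `A` be a non-abelian group of order `pq` with `p, q` distinct primes, acting by automorphisms on a finite solvable group `G` of order prime to `pq`, so that only the identity of `G` is fixed by all of `A`. Then `G` has Fitting height at most 2: there is a normal nilpotent subgroup `F` of `G` with `G/F` nilpotent. -/
theorem result {G A : Type*} [Group G] [Finite G]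
    [Group.IsSolvable G] [Group A] [Finite A] [MulDistribMulAction A G] (p q : ℕ) (hp : p.Prime) (hq : q.Prime) (hpq : p ≠ q)
    (hA : Nat.card A = p * q) (hAna : ¬ IsMulCommutative A) (hcop : (Nat.card G).Coprime (p * q))
    (hfpf : ∀ g : G, (∀ a : A, a • g = g) → g = 1) :
    ∃ F : Subgroup G, ∃ hF : F.Normal, Group.IsNilpotent ↥F ∧ Group.IsNilpotent (G ⧸ F) := by
  classical
  -- order the primes
  obtain ⟨n, l, hn, hl, hln, hAc, hcop'⟩ : ∃ n l : ℕ, n.Prime ∧ l.Prime ∧ l < n ∧ Nat.card A = n * l ∧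
      (Nat.card A).Coprime (Nat.card G) := by
    have hc : (Nat.card A).Coprime (Nat.card G) := hA ▸ hcop.symm
    rcases lt_or_gt_of_ne hpq with h | h
    · exact ⟨q, p, hq, hp, h, by rw [hA, mul_comm], hc⟩
    · exact ⟨p, q, hp, hq, h, hA, hc⟩
  haveI := Fact.mk hn
  haveI := Fact.mk hl
  obtain ⟨c, hc⟩ := exists_prime_orderOf_dvd_card' (G := A) n (by rw [hAc]; exact dvd_mul_right n l)
  have hc1 : c ≠ 1 := fun e => by
    rw [e, orderOf_one] at hc
    exact hn.ne_one hc.symm
  have hcn : c ^ n = 1 := hc ▸ pow_orderOf_eq_one c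
  -- the subgroup of order `n` is unique
  have huniq : ∀ d : A, orderOf d = n → d ∈ Subgroup.zpowers c := by
    intro d hd
    by_contra hdc
    have hinj : Function.Injective fun z : Subgroup.zpowers c × Subgroup.zpowers d => (z.1 : A) * z.2 := by
      rintro ⟨a, b⟩ ⟨a', b'⟩ e
      have e' : (a' : A)⁻¹ * a = (b' : A) * (b : A)⁻¹ := by
        have e2 : (a : A) * b = a' * b' := e
        rw [eq_mul_inv_iff_mul_eq, mul_assoc, e2, inv_mul_cancel_left]
      have h1 : (a' : A)⁻¹ * a = 1 := by
        by_contra hne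
        have hmem : (a' : A)⁻¹ * a ∈ Subgroup.zpowers d := by
          rw [e']; exact mul_mem b'.2 (inv_mem b.2)
        have hsub : Subgroup.zpowers ((a' : A)⁻¹ * a) = Subgroup.zpowers d := by
          refine Cfsg.Agent.Lib.Coprime.eq_of_le_of_card_le (Subgroup.zpowers_le.mpr hmem) ?_
          have h2 : orderOf ((a' : A)⁻¹ * a) ∣ n := hc ▸ orderOf_dvd_of_pow_eq_one (by
            obtain ⟨i, hi⟩ := mul_mem (inv_mem a'.2) a.2
            dsimp only at hi
            rw [← hi, ← zpow_natCast, ← zpow_mul, mul_comm, zpow_mul, zpow_natCast, pow_orderOf_eq_one,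
              one_zpow])
          rw [Nat.card_zpowers, Nat.card_zpowers, hd,
            ((Nat.dvd_prime hn).mp h2).resolve_left (fun h => hne (orderOf_eq_one_iff.mp h))]
        exact hdc (Subgroup.zpowers_le.mpr (mul_mem (inv_mem a'.2) a.2)
          (hsub.symm ▸ Subgroup.mem_zpowers d))
      have ha : a = a' := Subtype.ext (inv_mul_eq_one.mp h1).symm
      rw [h1, eq_comm, mul_inv_eq_one] at e'
      exact Prod.ext ha (Subtype.ext e'.symm)
    have h := Nat.card_le_card_of_injective _ hinj
    rw [Nat.card_prod, Nat.card_zpowers, Nat.card_zpowers, hc, hd, hAc] at h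
    exact absurd (Nat.le_of_mul_le_mul_left h hn.pos) (not_le.mpr hln)
  have hnorm : ∀ g : A, g * c * g⁻¹ ∈ Subgroup.zpowers c := fun g => huniq _ (by
    rw [← hc]
    exact (orderOf_injective (MulAut.conj g).toMonoidHom (MulAut.conj g).injective c))
  have hne : ∃ b : A, b ∉ Subgroup.zpowers c := by
    by_contra h
    push Not at h
    have h2 : Nat.card A ≤ Nat.card (Subgroup.zpowers c) :=
      Nat.card_le_card_of_injective (fun a : A => (⟨a, h a⟩ : Subgroup.zpowers c))
        fun a b e => congrArg Subtype.val e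
    rw [Nat.card_zpowers, hc, hAc] at h2
    exact absurd h2 (not_le.mpr (lt_mul_of_one_lt_right hn.pos hl.one_lt))
  -- a commutative pair of generators would make `A` abelian
  have hsup : ∀ g : A, g ∉ Subgroup.zpowers c → Subgroup.zpowers c ⊔ Subgroup.zpowers g = ⊤ := by
    intro g hg
    refine Subgroup.eq_top_of_le_card _ ?_
    set S := Subgroup.zpowers c ⊔ Subgroup.zpowers g
    have h1 : n ∣ Nat.card S := hc ▸ (Nat.card_zpowers c) ▸ Subgroup.card_dvd_of_le le_sup_left
    have h2 : Nat.card S ∣ n * l := hAc ▸ S.card_subgroup_dvd_card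
    obtain ⟨t, ht⟩ := h1
    rw [ht] at h2
    rcases (Nat.dvd_prime hl).mp (Nat.dvd_of_mul_dvd_mul_left hn.pos h2) with rfl | rfl
    · exfalso
      have h3 : Subgroup.zpowers c = S :=
        Cfsg.Agent.Lib.Coprime.eq_of_le_of_card_le le_sup_left (by rw [ht, Nat.card_zpowers, hc, mul_one])
      exact hg (h3.symm ▸ (le_sup_right : Subgroup.zpowers g ≤ S) (Subgroup.mem_zpowers g))
    · rw [ht, hAc]
  have hncomm : ∀ g : A, g ∉ Subgroup.zpowers c → g * c ≠ c * g := by
    intro g hg e
    apply hAna
    have hle : (⊤ : Subgroup A) ≤ Subgroup.center A := by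
      rw [← hsup g hg]
      have hall : ∀ z : A, z * c = c * z → z * g = g * z → z ∈ Subgroup.center A := by
        intro z h1 h2
        refine Subgroup.mem_center_iff.mpr fun x => ?_
        have h3 : Subgroup.zpowers c ⊔ Subgroup.zpowers g ≤ Subgroup.centralizer {z} :=
          sup_le (Subgroup.zpowers_le.mpr (Subgroup.mem_centralizer_iff.mpr fun _ hw => by
            rw [Set.mem_singleton_iff.mp hw]; exact h1))
            (Subgroup.zpowers_le.mpr (Subgroup.mem_centralizer_iff.mpr fun _ hw => by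
              rw [Set.mem_singleton_iff.mp hw]; exact h2))
        rw [hsup g hg] at h3
        exact (Subgroup.mem_centralizer_iff.mp (h3 (Subgroup.mem_top x)) z rfl).symm
      exact sup_le (Subgroup.zpowers_le.mpr (hall c rfl e.symm)) (Subgroup.zpowers_le.mpr (hall g e rfl))
    exact ⟨⟨fun a b => Subgroup.mem_center_iff.mp (hle (Subgroup.mem_top b)) a⟩⟩
  have hgl : ∀ g : A, g ∉ Subgroup.zpowers c → g ^ l = 1 := by
    intro g hg
    have h : orderOf g ∣ n * l := hAc ▸ orderOf_dvd_natCard g
    obtain ⟨d₁, d₂, h1, h2, h12⟩ := exists_dvd_and_dvd_of_dvd_mul h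
    rcases (Nat.dvd_prime hn).mp h1 with rfl | rfl
    · rw [one_mul] at h12
      exact orderOf_dvd_iff_pow_eq_one.mp (h12 ▸ h2)
    · exfalso
      rcases (Nat.dvd_prime hl).mp h2 with rfl | rfl
      · exact hg (huniq g (by rw [h12, mul_one]))
      · have h3 : Subgroup.zpowers g = ⊤ :=
          Subgroup.eq_top_of_le_card _ (by rw [Nat.card_zpowers, h12, hAc])
        obtain ⟨i, hi⟩ : c ∈ Subgroup.zpowers g := h3 ▸ Subgroup.mem_top c
        exact hncomm g hg (hi ▸ ((Commute.refl g).zpow_right i).eq)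
  -- `l ∣ n - 1`
  have hdvd : l ∣ n - 1 := by
    obtain ⟨b, hb⟩ := hne
    haveI hTn : (Subgroup.zpowers c).Normal := ⟨fun t ht g => by
      obtain ⟨i, rfl⟩ := ht
      rw [← conj_zpow]
      exact zpow_mem (hnorm g) i⟩
    let σ : MulAut (Subgroup.zpowers c) := MulAut.conjNormal b
    have hσ1 : σ ≠ 1 := fun e => hncomm b hb (by
      have h := congrArg Subtype.val (DFunLike.congr_fun e ⟨c, Subgroup.mem_zpowers c⟩)
      simp only [σ, MulAut.conjNormal_apply, MulAut.one_apply] at h
      exact mul_inv_eq_iff_eq_mul.mp h)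
    have hσ : orderOf σ = l := orderOf_eq_prime (by
      show (MulAut.conjNormal b) ^ l = (1 : MulAut (Subgroup.zpowers c))
      rw [← map_pow, hgl b hb, map_one]) hσ1
    have h := orderOf_dvd_natCard σ
    rwa [hσ, IsCyclic.card_mulAut, Nat.card_zpowers, hc, Nat.totient_prime hn] at h
  have hAsolv : Group.IsSolvable A := by
    haveI hTn : (Subgroup.zpowers c).Normal := ⟨fun t ht g => by
      obtain ⟨i, rfl⟩ := ht
      rw [← conj_zpow]
      exact zpow_mem (hnorm g) i⟩
    haveI := Cfsg.Agent.Lib.Coprime.isSolvable_zpowers c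
    haveI : Group.IsSolvable (A ⧸ Subgroup.zpowers c) := by
      have h2 : Nat.card (A ⧸ Subgroup.zpowers c) = l := by
        have h := (Subgroup.zpowers c).card_mul_index
        rw [Nat.card_zpowers, hc, hAc] at h
        rw [← Subgroup.index_eq_card]
        exact Nat.eq_of_mul_eq_mul_left hn.pos h
      haveI := isCyclic_of_prime_card h2
      exact Group.isSolvable_of_comm fun a b => IsMulCommutative.is_comm.comm a b
    exact Group.isSolvable_of_ker_le_range (Subgroup.zpowers c).subtype
      (QuotientGroup.mk' (Subgroup.zpowers c)) (by rw [QuotientGroup.ker_mk', Subgroup.range_subtype])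
  have h := Cfsg.Agent.Lib.Solvable.FPF.frobenius_group_aux _ G A (MulDistribMulAction.toMulAut _ _) c l n
    rfl ‹_› hAsolv hl hn hdvd hcn hc1 hAc hnorm hne (fun g hg => ⟨hgl g hg, hncomm g hg, hsup g hg⟩) hcop'
    hfpf
  exact ⟨Cfsg.fittingSubgroup G, Cfsg.Agent.Lib.Cores.fittingSubgroup_normal G,
    Cfsg.Agent.Lib.Cores.fittingSubgroup_isNilpotent G, h⟩

end Cfsg.Agent.S4306
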