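import Cfsg.Statements.S4314
import Mathlib

set_option autoImplicit false
open Cfsg

namespace Cfsg.Agent.S4314

open scoped commutatorElement

universe u

variable {G : Type u} [Group G] [Finite G]

/-- The conjugacy class of `x` as a set. -/
def cls (x : G) : Set G := {y | ∃ g, g * x * g⁻¹ = y}

theorem ncard_cls (x : G) : (cls x).ncard = (Subgroup.centralizer ({x} : Set G)).index := by
  rw [Subgroup.index_eq_card, ← Nat.card_coe_set_eq]
  refine (Nat.card_congr (Equiv.ofBijective
    (Quotient.lift (fun g => (⟨g * x * g⁻¹, g, rfl⟩ : cls x)) ?_) ⟨?_, ?_⟩)).symm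
  · intro a b hab
    have h := QuotientGroup.leftRel_apply.mp hab
    rw [Subgroup.mem_centralizer_singleton_iff] at h
    refine Subtype.ext ?_
    show a * x * a⁻¹ = b * x * b⁻¹
    calc a * x * a⁻¹ = a * (x * (a⁻¹ * b)) * b⁻¹ := by group
      _ = a * (a⁻¹ * b * x) * b⁻¹ := by rw [h]
      _ = b * x * b⁻¹ := by group
  · intro a b
    induction a using Quotient.inductionOn
    induction b using Quotient.inductionOn
    rename_i a b
    intro h
    have h' : a * x * a⁻¹ = b * x * b⁻¹ := congrArg Subtype.val h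
    refine Quotient.sound (QuotientGroup.leftRel_apply.mpr ?_)
    rw [Subgroup.mem_centralizer_singleton_iff]
    calc a⁻¹ * b * x = a⁻¹ * (b * x * b⁻¹) * b := by group
      _ = a⁻¹ * (a * x * a⁻¹) * b := by rw [h']
      _ = x * (a⁻¹ * b) := by group
  · rintro ⟨y, g, hg⟩
    exact ⟨Quotient.mk'' g, Subtype.ext hg⟩

/-- The right stabilizer of a class. -/
def rstab (x : G) : Subgroup G where
  carrier := {t | ∀ z, z ∈ cls x ↔ z * t ∈ cls x}
  one_mem' := fun z => by rw [mul_one]
  mul_mem' := fun {a b} ha hb z => by rw [← mul_assoc]; exact (ha z).trans (hb _)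
  inv_mem' := fun {a} ha z => by
    have := ha (z * a⁻¹); rw [inv_mul_cancel_right] at this; exact this.symm

theorem mem_cls_conj {x z : G} (g : G) : g * z * g⁻¹ ∈ cls x ↔ z ∈ cls x := by
  constructor
  · rintro ⟨a, ha⟩
    refine ⟨g⁻¹ * a, ?_⟩
    calc g⁻¹ * a * x * (g⁻¹ * a)⁻¹ = g⁻¹ * (a * x * a⁻¹) * g := by group
      _ = g⁻¹ * (g * z * g⁻¹) * g := by rw [ha]
      _ = z := by group
  · rintro ⟨a, ha⟩
    refine ⟨g * a, ?_⟩
    rw [← ha]; group

theorem rstab_normal (x : G) : (rstab x).Normal := ⟨fun t ht g z => by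
  rw [← mem_cls_conj g⁻¹ (z := z), ← mem_cls_conj g⁻¹ (z := z * (g * t * g⁻¹))]
  have := ht (g⁻¹ * z * g⁻¹⁻¹)
  convert this using 2
  group⟩

theorem card_rstab_le (x : G) : Nat.card (rstab x) ≤ (cls x).ncard := by
  rw [← Nat.card_coe_set_eq]
  refine Nat.card_le_card_of_injective (fun t : rstab x => (⟨x * t, (t.2 x).mp ⟨1, by simp⟩⟩ : cls x)) ?_
  intro a b h
  exact Subtype.ext (mul_left_cancel (congrArg Subtype.val h))

/-- Two elements with coprime class sizes: the larger class is a coset of a normal subgroup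
containing the commutators of both elements. -/
theorem pair_step {x y : G} {p q : ℕ} (hp : p.Prime) (hq : q.Prime) (hqp : q < p)
    (hx : (Subgroup.centralizer ({x} : Set G)).index = p)
    (hy : (Subgroup.centralizer ({y} : Set G)).index = q)
    (hpr : ∀ z : G, (Subgroup.centralizer ({z} : Set G)).index = 1 ∨
      ((Subgroup.centralizer ({z} : Set G)).index).Prime) :
    Nat.card (rstab x) = p ∧ (∀ g, g * y * g⁻¹ * y⁻¹ ∈ rstab x) ∧ (∀ g, g * x * g⁻¹ * x⁻¹ ∈ rstab x) := by
  classical
  set Cx := Subgroup.centralizer ({x} : Set G) with hCx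
  set Cy := Subgroup.centralizer ({y} : Set G) with hCy
  -- the pair orbit is transitive
  set K := Cx ⊓ Cy with hK
  have hKidx : K.index = p * q := by
    refine le_antisymm ((Subgroup.index_inf_le (H := Cx) (K := Cy)).trans (le_of_eq (by rw [hx, hy]))) ?_
    refine Nat.le_of_dvd (Nat.pos_of_ne_zero Subgroup.index_ne_zero_of_finite) ?_
    exact (Nat.Coprime.mul_dvd_of_dvd_of_dvd ((Nat.coprime_primes hp hq).mpr hqp.ne')
      (hx ▸ Subgroup.index_dvd_of_le inf_le_left) (hy ▸ Subgroup.index_dvd_of_le inf_le_right))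
  have htrans : ∀ u ∈ cls x, ∀ v ∈ cls y, ∃ g, g * x * g⁻¹ = u ∧ g * y * g⁻¹ = v := by
    let φ : G ⧸ K → cls x × cls y := Quotient.lift
      (fun g => (⟨g * x * g⁻¹, g, rfl⟩, ⟨g * y * g⁻¹, g, rfl⟩)) (fun a b hab => by
        obtain ⟨h1, h2⟩ := Subgroup.mem_inf.mp (QuotientGroup.leftRel_apply.mp hab)
        rw [hCx, Subgroup.mem_centralizer_singleton_iff] at h1
        rw [hCy, Subgroup.mem_centralizer_singleton_iff] at h2
        refine Prod.ext (Subtype.ext ?_) (Subtype.ext ?_)
        · show a * x * a⁻¹ = b * x * b⁻¹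
          calc a * x * a⁻¹ = a * (x * (a⁻¹ * b)) * b⁻¹ := by group
            _ = a * (a⁻¹ * b * x) * b⁻¹ := by rw [h1]
            _ = b * x * b⁻¹ := by group
        · show a * y * a⁻¹ = b * y * b⁻¹
          calc a * y * a⁻¹ = a * (y * (a⁻¹ * b)) * b⁻¹ := by group
            _ = a * (a⁻¹ * b * y) * b⁻¹ := by rw [h2]
            _ = b * y * b⁻¹ := by group)
    have hinj : Function.Injective φ := by
      intro a b
      induction a using Quotient.inductionOn
      induction b using Quotient.inductionOn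
      rename_i a b
      intro h
      have h1 : a * x * a⁻¹ = b * x * b⁻¹ := congrArg Subtype.val (congrArg Prod.fst h)
      have h2 : a * y * a⁻¹ = b * y * b⁻¹ := congrArg Subtype.val (congrArg Prod.snd h)
      refine Quotient.sound (QuotientGroup.leftRel_apply.mpr (Subgroup.mem_inf.mpr ⟨?_, ?_⟩))
      · rw [hCx, Subgroup.mem_centralizer_singleton_iff]
        calc a⁻¹ * b * x = a⁻¹ * (b * x * b⁻¹) * b := by group
          _ = a⁻¹ * (a * x * a⁻¹) * b := by rw [h1]
          _ = x * (a⁻¹ * b) := by group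
      · rw [hCy, Subgroup.mem_centralizer_singleton_iff]
        calc a⁻¹ * b * y = a⁻¹ * (b * y * b⁻¹) * b := by group
          _ = a⁻¹ * (a * y * a⁻¹) * b := by rw [h2]
          _ = y * (a⁻¹ * b) := by group
    have hcard : Nat.card (cls x × cls y) ≤ Nat.card (G ⧸ K) := by
      rw [Nat.card_prod, Nat.card_coe_set_eq, Nat.card_coe_set_eq, ncard_cls, ncard_cls, ← Subgroup.index_eq_card,
        hKidx, hx, hy]
    intro u hu v hv
    obtain ⟨c, hc⟩ := (hinj.bijective_of_nat_card_le hcard).2 (⟨u, hu⟩, ⟨v, hv⟩)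
    induction c using Quotient.inductionOn
    rename_i g
    exact ⟨g, congrArg Subtype.val (congrArg Prod.fst hc), congrArg Subtype.val (congrArg Prod.snd hc)⟩
  -- the product class
  have hsub : ∀ v ∈ cls y, (fun u => u * v) '' cls x ⊆ cls (x * y) := by
    rintro v hv _ ⟨u, hu, rfl⟩
    obtain ⟨g, rfl, rfl⟩ := htrans u hu v hv
    exact ⟨g, by group⟩
  have hsz : ∀ v ∈ cls y, (fun u => u * v) '' cls x = cls (x * y) := by
    intro v hv
    refine Set.eq_of_subset_of_ncard_le (hsub v hv) ?_ (Set.toFinite _)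
    rw [Set.ncard_image_of_injective _ (mul_left_injective v), ncard_cls x, hx, ncard_cls]
    have hle : K ≤ Subgroup.centralizer ({x * y} : Set G) := fun k hk => by
      rw [Subgroup.mem_centralizer_singleton_iff]
      exact ((show Commute k x from Subgroup.mem_centralizer_singleton_iff.mp hk.1).mul_right
        (Subgroup.mem_centralizer_singleton_iff.mp hk.2)).eq
    have hd := Subgroup.index_dvd_of_le hle
    rw [hKidx] at hd
    rcases hpr (x * y) with h1 | h1
    · rw [h1]; exact hp.one_le
    · rcases (Nat.Prime.dvd_mul h1).mp hd with h2 | h2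
      · exact Nat.le_of_dvd hp.pos h2
      · exact (Nat.le_of_dvd hq.pos h2).trans hqp.le
  have hyt : ∀ g, g * y * g⁻¹ * y⁻¹ ∈ rstab x := by
    intro g z
    have h1 := hsz (g * y * g⁻¹) ⟨g, rfl⟩
    rw [← hsz y ⟨1, by simp⟩] at h1
    constructor
    · intro hz
      obtain ⟨u, hu, hue⟩ := h1.le ⟨z, hz, rfl⟩
      have : u = z * (g * y * g⁻¹ * y⁻¹) := by
        rw [← mul_assoc, eq_mul_inv_iff_mul_eq]; exact hue
      exact this ▸ hu
    · intro hz
      obtain ⟨u, hu, hue⟩ := h1.ge ⟨_, hz, rfl⟩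
      have : u = z := mul_right_cancel (hue.trans (show z * (g * y * g⁻¹ * y⁻¹) * y = z * (g * y * g⁻¹) by group))
      exact this ▸ hu
  obtain ⟨g0, hg0⟩ : ∃ g, g * y * g⁻¹ * y⁻¹ ≠ 1 := by
    by_contra h
    push Not at h
    have : Subgroup.centralizer ({y} : Set G) = ⊤ := eq_top_iff.mpr fun g _ =>
      Subgroup.mem_centralizer_singleton_iff.mpr (mul_inv_eq_iff_eq_mul.mp (mul_inv_eq_one.mp (h g)))
    rw [hCy, this, Subgroup.index_top] at hy
    exact hq.one_lt.ne hy
  -- the stabilizer has order p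
  have hdvd : p ∣ Nat.card (rstab x) ∨ Nat.card (rstab x) = 1 := by
    let ψ : rstab x → cls x → cls x := fun t u => ⟨u.1 * t.1, (t.2 u.1).mp u.2⟩
    letI : MulAction (rstab x)ᵐᵒᵖ (cls x) :=
      { smul := fun t u => ψ t.unop u
        one_smul := fun u => Subtype.ext (mul_one u.1)
        mul_smul := fun a b u => Subtype.ext (mul_assoc u.1 _ _).symm }
    have hfree : ∀ u : cls x, MulAction.stabilizer (rstab x)ᵐᵒᵖ u = ⊥ := fun u => by
      rw [Subgroup.eq_bot_iff_forall]
      intro t ht
      have h1 : u.1 * (t.unop : G) = u.1 := congrArg Subtype.val (MulAction.mem_stabilizer_iff.mp ht)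
      exact MulOpposite.unop_injective (Subtype.ext (mul_eq_left.mp h1))
    have h := Nat.card_congr (MulAction.selfEquivSigmaOrbits (rstab x)ᵐᵒᵖ (cls x))
    haveI := Fintype.ofFinite (MulAction.orbitRel.Quotient (rstab x)ᵐᵒᵖ (cls x))
    rw [Nat.card_sigma, Finset.sum_congr rfl (fun o _ => show _ = Nat.card (rstab x) by
      rw [Nat.card_congr (MulAction.orbitEquivQuotientStabilizer _ _), hfree, ← Subgroup.index_eq_card,
        Subgroup.index_bot]
      exact Nat.card_congr MulOpposite.opEquiv.symm), Finset.sum_const, smul_eq_mul,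
      Nat.card_coe_set_eq, ncard_cls, hx] at h
    rcases (Nat.dvd_prime hp).mp (Dvd.intro_left _ h.symm) with h' | h'
    · exact Or.inr h'
    · exact Or.inl h'.symm.dvd
  have hcard : Nat.card (rstab x) = p := by
    have hle := card_rstab_le x
    rw [ncard_cls, hx] at hle
    rcases hdvd with h | h
    · exact le_antisymm hle (Nat.le_of_dvd Nat.card_pos h)
    · rw [Subgroup.card_eq_one] at h
      have := hyt g0
      rw [h, Subgroup.mem_bot] at this
      exact absurd this hg0
  refine ⟨hcard, hyt, fun g => ?_⟩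
  have himg : (fun t => x * t) '' (rstab x : Set G) = cls x := by
    refine Set.eq_of_subset_of_ncard_le ?_ ?_ (Set.toFinite _)
    · rintro _ ⟨t, ht, rfl⟩; exact (ht x).mp ⟨1, by simp⟩
    · rw [Set.ncard_image_of_injective _ (mul_right_injective x), ← Nat.card_coe_set_eq (rstab x : Set G), ncard_cls, hx]
      exact hcard.ge
  obtain ⟨t, ht, hte⟩ := himg.ge (show g * x * g⁻¹ ∈ cls x from ⟨g, rfl⟩)
  rw [← hte]
  exact (rstab_normal x).conj_mem t ht x

theorem isCoatom_of_index_prime {H : Subgroup G} (hH : H.index.Prime) : IsCoatom H := by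
  refine ⟨fun h => hH.one_lt.ne' (by rw [h, Subgroup.index_top]), fun K hK => ?_⟩
  have h := Subgroup.relIndex_mul_index hK.le
  rcases (Nat.dvd_prime hH).mp (Dvd.intro_left _ h) with h1 | h1
  · exact Subgroup.index_eq_one.mp h1
  · rw [h1] at h
    exact absurd (Subgroup.relIndex_eq_one.mp ((mul_eq_right₀ hH.ne_zero).mp h)) hK.not_ge

theorem eq_top_of_conj_cover (D : Subgroup G) (hcov : ∀ x : G, ∃ g : G, g * x * g⁻¹ ∈ D) : D = ⊤ := by
  classical
  haveI := Fintype.ofFinite G
  haveI := Fintype.ofFinite (G ⧸ D)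
  have hB := MulAction.sum_card_fixedBy_eq_card_orbits_mul_card_group G (G ⧸ D)
  haveI : Subsingleton (Quotient (MulAction.orbitRel G (G ⧸ D))) :=
    MulAction.pretransitive_iff_subsingleton_quotient G (G ⧸ D) |>.mp inferInstance
  haveI : Nonempty (Quotient (MulAction.orbitRel G (G ⧸ D))) := ⟨Quotient.mk'' ((1 : G) : G ⧸ D)⟩
  rw [Fintype.card_eq_one_iff_nonempty_unique.mpr ⟨uniqueOfSubsingleton (Classical.arbitrary _)⟩, one_mul] at hB
  have hpos : ∀ x : G, 1 ≤ Fintype.card (MulAction.fixedBy (G ⧸ D) x) := fun x => by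
    obtain ⟨g, hg⟩ := hcov x
    refine Fintype.card_pos_iff.mpr ⟨⟨((g⁻¹ : G) : G ⧸ D), ?_⟩⟩
    show ((x * g⁻¹ : G) : G ⧸ D) = ((g⁻¹ : G) : G ⧸ D)
    refine (QuotientGroup.eq.mpr ?_).symm
    rw [inv_inv, ← mul_assoc]
    exact hg
  have h1 : Fintype.card (MulAction.fixedBy (G ⧸ D) (1 : G)) = 1 := by
    by_contra hne
    have : ∑ x : G, 1 < ∑ x : G, Fintype.card (MulAction.fixedBy (G ⧸ D) x) :=
      Finset.sum_lt_sum (fun x _ => hpos x) ⟨1, Finset.mem_univ _, lt_of_le_of_ne (hpos 1) (Ne.symm hne)⟩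
    rw [hB, Finset.sum_const, Finset.card_univ, smul_eq_mul, mul_one] at this
    exact lt_irrefl _ this
  have h2 : Fintype.card (G ⧸ D) = 1 := by
    rw [← h1]
    exact Fintype.card_congr (Equiv.subtypeUnivEquiv fun c => by simp).symm
  rw [← Subgroup.index_eq_one, Subgroup.index_eq_card, Nat.card_eq_fintype_card, h2]

/-- If all noncentral classes have the same prime size then `G' ≤ Z(G)`. -/
theorem one_prime (p : ℕ) [hp : Fact p.Prime]
    (h : ∀ x : G, (Subgroup.centralizer ({x} : Set G)).index = 1 ∨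
      (Subgroup.centralizer ({x} : Set G)).index = p) : commutator G ≤ Subgroup.center G := by
  classical
  have hidx : ∀ r : ℕ, r.Prime → r ∣ (Subgroup.center G).index → r = p := by
    intro r hr hrd
    by_contra hrp
    haveI := Fact.mk hr
    obtain ⟨R⟩ : Nonempty (Sylow r G) := inferInstance
    refine R.not_dvd_index (hrd.trans (Subgroup.index_dvd_of_le ?_))
    -- every element is conjugate into the centralizer of R
    set D := Subgroup.centralizer ((R : Subgroup G) : Set G)
    have hcov : ∀ x : G, ∃ g : G, g * x * g⁻¹ ∈ D := by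
      intro x
      obtain ⟨R'⟩ : Nonempty (Sylow r (Subgroup.centralizer ({x} : Set G))) := inferInstance
      obtain ⟨S, hS⟩ := (R'.2.map (Subgroup.centralizer ({x} : Set G)).subtype).exists_le_sylow
      obtain ⟨g, hg⟩ := MulAction.exists_smul_eq G S R
      have hSC : ((R' : Subgroup _).map (Subgroup.centralizer ({x} : Set G)).subtype) = (S : Subgroup G) := by
        refine Subgroup.eq_of_le_of_card_ge hS ?_
        rw [Subgroup.card_subtype, R'.card_eq_multiplicity, S.card_eq_multiplicity]
        refine Nat.pow_le_pow_right hr.pos (le_of_eq ?_)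
        rw [← (Subgroup.centralizer ({x} : Set G)).card_mul_index,
          Nat.factorization_mul Nat.card_pos.ne' Subgroup.index_ne_zero_of_finite]
        rcases h x with e | e <;> simp [e, hp.out.factorization, Ne.symm hrp]
      refine ⟨g, Subgroup.mem_centralizer_iff.mpr fun s hs => ?_⟩
      rw [← hg] at hs
      obtain ⟨s', hs', rfl⟩ := hs
      rw [← hSC] at hs'
      obtain ⟨s'', -, rfl⟩ := hs'
      have := Subgroup.mem_centralizer_singleton_iff.mp s''.2
      show g * (s'' : G) * g⁻¹ * (g * x * g⁻¹) = g * x * g⁻¹ * (g * (s'' : G) * g⁻¹)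
      calc g * (s'' : G) * g⁻¹ * (g * x * g⁻¹) = g * ((s'' : G) * x) * g⁻¹ := by group
        _ = g * (x * s'') * g⁻¹ := by rw [this]
        _ = _ := by group
    have hD : D = ⊤ := eq_top_of_conj_cover D hcov
    intro v hv
    rw [Subgroup.mem_center_iff]
    intro w
    exact ((Subgroup.mem_centralizer_iff.mp (hD.ge (Subgroup.mem_top w))) v hv).symm
  obtain ⟨n, hn⟩ : ∃ n, (Subgroup.center G).index = p ^ n :=
    ⟨_, Nat.eq_prime_pow_of_unique_prime_dvd Subgroup.index_ne_zero_of_finite fun {d} hd hdd => hidx d hd hdd⟩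
  have hQ : IsPGroup p (G ⧸ Subgroup.center G) := IsPGroup.of_card (by rw [← Subgroup.index_eq_card, hn])
  haveI : Group.IsNilpotent (G ⧸ Subgroup.center G) := hQ.isNilpotent
  haveI : Group.IsNilpotent G := Group.of_quotient_center_nilpotent inferInstance
  refine fun c hc => Subgroup.mem_center_iff.mpr fun x => ?_
  rcases h x with e | e
  · exact (Subgroup.mem_centralizer_singleton_iff.mp ((Subgroup.index_eq_one.mp e).ge (Subgroup.mem_top c))).symm
  · set C := Subgroup.centralizer ({x} : Set G)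
    haveI hCn : C.Normal := by
      refine (Subgroup.NormalizerCondition.normal_of_coatom C Group.normalizerCondition_of_isNilpotent ?_)
      exact isCoatom_of_index_prime (e ▸ hp.out)
    haveI : Fact (Nat.card (G ⧸ C)).Prime := ⟨by rw [← Subgroup.index_eq_card, e]; exact hp.out⟩
    haveI : IsCyclic (G ⧸ C) := isCyclic_of_prime_card rfl
    letI : CommGroup (G ⧸ C) := IsCyclic.commGroup
    have := Abelianization.commutator_subset_ker (QuotientGroup.mk' C) hc
    rw [QuotientGroup.ker_mk'] at this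
    exact (Subgroup.mem_centralizer_singleton_iff.mp this).symm

theorem main (h : ∀ x : G, (Subgroup.centralizer ({x} : Set G)).index = 1 ∨
      ((Subgroup.centralizer ({x} : Set G)).index).Prime) (hnc : ¬ commutator G ≤ Subgroup.center G) :
    ∃ p q : ℕ, p.Prime ∧ q.Prime ∧ p ≠ q ∧ Nat.card (G ⧸ Subgroup.center G) = p * q := by
  classical
  set Z := Subgroup.center G with hZ
  -- the largest class size
  obtain ⟨x0, -, hmax⟩ := Set.exists_max_image (Set.univ : Set G)
    (fun x => (Subgroup.centralizer ({x} : Set G)).index) (Set.toFinite _) ⟨1, trivial⟩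
  set p := (Subgroup.centralizer ({x0} : Set G)).index with hp'
  have hp : p.Prime := (h x0).resolve_left fun h1 => hnc fun c _ => Subgroup.mem_center_iff.mpr fun g => by
    have h2 : (Subgroup.centralizer ({g} : Set G)).index = 1 := le_antisymm (h1 ▸ hmax g trivial)
      (Nat.pos_of_ne_zero Subgroup.index_ne_zero_of_finite)
    exact (Subgroup.mem_centralizer_singleton_iff.mp ((Subgroup.index_eq_one.mp h2).ge (Subgroup.mem_top c))).symm
  haveI := Fact.mk hp
  obtain ⟨y0, hy0p, hy01⟩ : ∃ y, (Subgroup.centralizer ({y} : Set G)).index ≠ p ∧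
      (Subgroup.centralizer ({y} : Set G)).index ≠ 1 := by
    by_contra hc
    push Not at hc
    exact hnc (one_prime p fun x => (em _).symm.imp_left (hc x))
  have hq0 := (h y0).resolve_left hy01
  have hlt : ∀ y, (Subgroup.centralizer ({y} : Set G)).index ≠ p →
      (Subgroup.centralizer ({y} : Set G)).index < p := fun y hy => lt_of_le_of_ne (hmax y trivial) hy
  obtain ⟨hDc, hDy0, hDx0⟩ := pair_step hp hq0 (hlt y0 hy0p) rfl rfl h
  set D := rstab x0 with hD
  haveI hDn : D.Normal := rstab_normal x0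
  -- all commutators lie in D
  have hcomm : ∀ a g : G, g * a * g⁻¹ * a⁻¹ ∈ D := by
    intro a g
    rcases h a with e | e
    · have := Subgroup.mem_centralizer_singleton_iff.mp ((Subgroup.index_eq_one.mp e).ge (Subgroup.mem_top g))
      rw [this, mul_inv_cancel_right, mul_inv_cancel]; exact one_mem D
    · by_cases hap : (Subgroup.centralizer ({a} : Set G)).index = p
      · obtain ⟨hc, hy, hx⟩ := pair_step hp hq0 (hlt y0 hy0p) hap rfl h
        have : rstab a = D := by
          obtain ⟨g0, hg0⟩ : ∃ g, g * y0 * g⁻¹ * y0⁻¹ ≠ 1 := by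
            by_contra hh
            push Not at hh
            exact hy01 (Subgroup.index_eq_one.mpr (eq_top_iff.mpr fun g _ =>
              Subgroup.mem_centralizer_singleton_iff.mpr (mul_inv_eq_iff_eq_mul.mp (mul_inv_eq_one.mp (hh g)))))
          have key : ∀ T : Subgroup G, Nat.card T = p → g0 * y0 * g0⁻¹ * y0⁻¹ ∈ T →
              T = Subgroup.zpowers (g0 * y0 * g0⁻¹ * y0⁻¹) := by
            intro T hT hm
            refine (Subgroup.eq_of_le_of_card_ge (Subgroup.zpowers_le.mpr hm) (le_of_eq ?_)).symm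
            have hd := Subgroup.orderOf_dvd_natCard T hm
            rw [hT] at hd
            rw [hT, Nat.card_zpowers, ((Nat.dvd_prime hp).mp hd).resolve_left fun h1 => hg0 (orderOf_eq_one_iff.mp h1)]
          rw [key _ hc (hy g0), key D hDc (hDy0 g0)]
        exact this ▸ hx g
      · exact (pair_step hp e (hlt a hap) rfl rfl h).2.1 g
  have hG'D : commutator G ≤ D := by
    rw [commutator_def, Subgroup.commutator_le]
    intro a _ b _
    exact hcomm b a
  -- D is not central
  have hDZ : ¬ D ≤ Z := fun hle => hnc (hG'D.trans hle)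
  obtain ⟨d, hdD, hdZ⟩ := SetLike.not_le_iff_exists.mp hDZ
  have hDd : D = Subgroup.zpowers d := by
    refine (Subgroup.eq_of_le_of_card_ge (Subgroup.zpowers_le.mpr hdD) (le_of_eq ?_)).symm
    have hd := Subgroup.orderOf_dvd_natCard D hdD
    rw [hDc] at hd
    rw [hDc, Nat.card_zpowers, ((Nat.dvd_prime hp).mp hd).resolve_left
      fun h1 => hdZ (by rw [orderOf_eq_one_iff.mp h1]; exact one_mem _)]
  set C := Subgroup.centralizer ({d} : Set G) with hC
  have hk : C.index.Prime := (h d).resolve_left fun h1 => hdZ (Subgroup.mem_center_iff.mpr fun g =>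
    Subgroup.mem_centralizer_singleton_iff.mp ((Subgroup.index_eq_one.mp h1).ge (Subgroup.mem_top g)))
  have hkp : C.index < p := by
    rw [hC, ← ncard_cls]
    have h1 : cls d ⊆ (D : Set G) \ {1} := by
      rintro _ ⟨g, rfl⟩
      refine ⟨hDn.conj_mem d hdD g, fun h2 => hdZ ?_⟩
      rw [Set.mem_singleton_iff, mul_inv_eq_one, mul_eq_left] at h2
      rw [h2]; exact one_mem _
    refine (Set.ncard_le_ncard h1 (Set.toFinite _)).trans_lt ?_
    rw [Set.ncard_diff_singleton_of_mem (show (1 : G) ∈ (D : Set G) from D.one_mem),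
      ← Nat.card_coe_set_eq, show Nat.card (D : Set G) = p from hDc]
    exact Nat.sub_lt hp.pos one_pos
  have hDC : ∀ e ∈ D, ∀ c ∈ C, Commute c e := by
    intro e he c hc
    rw [hDd] at he
    obtain ⟨j, rfl⟩ := Subgroup.mem_zpowers_iff.mp he
    exact (show Commute c d from Subgroup.mem_centralizer_singleton_iff.mp hc).zpow_right j
  have hfree : ∀ g, g ∉ C → ∀ e ∈ D, Commute g e → e = 1 := by
    intro g hg e he hge
    by_contra he1
    refine hg (Subgroup.mem_centralizer_singleton_iff.mpr ?_)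
    have : d ∈ Subgroup.zpowers e := by
      have h1 : Subgroup.zpowers e = D := Subgroup.eq_of_le_of_card_ge (Subgroup.zpowers_le.mpr he) (le_of_eq (by
        have hd := Subgroup.orderOf_dvd_natCard D he
        rw [hDc] at hd
        rw [hDc, Nat.card_zpowers, ((Nat.dvd_prime hp).mp hd).resolve_left fun h1 => he1 (orderOf_eq_one_iff.mp h1)]))
      rw [h1]; exact hdD
    obtain ⟨j, rfl⟩ := Subgroup.mem_zpowers_iff.mp this
    exact (hge.zpow_right j).eq
  -- C is abelian
  have hCab : ∀ c ∈ C, ∀ c' ∈ C, Commute c c' := by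
    intro c hc c' hc'
    by_cases hle : Subgroup.centralizer ({c} : Set G) ≤ C
    · have h1 := Subgroup.relIndex_mul_index hle
      rcases h c with e | e
      · exact (Subgroup.mem_centralizer_singleton_iff.mp ((Subgroup.index_eq_one.mp e).ge (Subgroup.mem_top c'))).symm
      · have h2 : (Subgroup.centralizer ({c} : Set G)).relIndex C = 1 := by
          rcases (Nat.dvd_prime e).mp (Dvd.intro_left _ h1) with h2 | h2
          · exact absurd h2 hk.one_lt.ne'
          · rw [h2] at h1; exact (mul_eq_right₀ e.ne_zero).mp h1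
        exact (Subgroup.mem_centralizer_singleton_iff.mp (Subgroup.relIndex_eq_one.mp h2 hc')).symm
    · obtain ⟨g, hgc, hgC⟩ := SetLike.not_le_iff_exists.mp hle
      set z := c * c' * c⁻¹ * c'⁻¹ with hz
      have hzD : z ∈ D := hcomm c' c
      have he : g * c' * g⁻¹ * c'⁻¹ ∈ D := hcomm c' g
      have hgz : g * z * g⁻¹ = z := by
        set e := g * c' * g⁻¹ * c'⁻¹ with hee
        have hgc' : g * c * g⁻¹ = c := by
          rw [mul_inv_eq_iff_eq_mul]; exact Subgroup.mem_centralizer_singleton_iff.mp hgc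
        calc g * z * g⁻¹ = (g * c * g⁻¹) * (e * c') * (g * c * g⁻¹)⁻¹ * (e * c')⁻¹ := by rw [hz, hee]; group
          _ = c * e * c' * c⁻¹ * c'⁻¹ * e⁻¹ := by rw [hgc']; group
          _ = e * c * c' * c⁻¹ * c'⁻¹ * e⁻¹ := by rw [(hDC e he c hc).eq]
          _ = e * z * e⁻¹ := by rw [hz]; group
          _ = z := by
            rw [(hDC z hzD e (Subgroup.mem_centralizer_singleton_iff.mpr (hDC d hdD e ?_).eq)).eq, mul_inv_cancel_right]
            rw [hDd] at he
            obtain ⟨j, hj⟩ := Subgroup.mem_zpowers_iff.mp he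
            exact Subgroup.mem_centralizer_singleton_iff.mpr (hj ▸ ((Commute.refl d).zpow_left j).eq)
      have hz1 := hfree g hgC z hzD (mul_inv_eq_iff_eq_mul.mp hgz)
      rw [hz, mul_inv_eq_one, mul_inv_eq_iff_eq_mul] at hz1
      exact hz1
  obtain ⟨g, hg⟩ : ∃ g, g ∉ C := by
    by_contra hh
    push Not at hh
    exact hk.one_lt.ne' (Subgroup.index_eq_one.mpr (eq_top_iff.mpr fun v _ => hh v))
  let θ : C →* D :=
    { toFun := fun c => ⟨(c : G) * g * (c : G)⁻¹ * g⁻¹, hcomm g c⟩
      map_one' := Subtype.ext (by simp)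
      map_mul' := fun a b => Subtype.ext (by
        show (a : G) * b * g * ((a : G) * b)⁻¹ * g⁻¹ =
          (a : G) * g * (a : G)⁻¹ * g⁻¹ * ((b : G) * g * (b : G)⁻¹ * g⁻¹)
        set tb := (b : G) * g * (b : G)⁻¹ * g⁻¹ with htb
        have h1 : Commute (a : G) tb := hDC _ (hcomm g b) a a.2
        have hta : (a : G) * g * (a : G)⁻¹ * g⁻¹ ∈ C :=
          Subgroup.mem_centralizer_singleton_iff.mpr (hDC _ (hcomm g a) d
            (Subgroup.mem_centralizer_singleton_iff.mpr rfl)).eq.symm
        calc (a : G) * b * g * ((a : G) * b)⁻¹ * g⁻¹ = ((a : G) * tb) * g * (a : G)⁻¹ * g⁻¹ := by rw [htb]; group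
          _ = (tb * a) * g * (a : G)⁻¹ * g⁻¹ := by rw [h1.eq]
          _ = tb * ((a : G) * g * (a : G)⁻¹ * g⁻¹) := by group
          _ = _ := ((hDC tb (hcomm g b) _ hta).symm).eq) }
  have hker : θ.ker = Z.subgroupOf C := by
    ext c
    rw [MonoidHom.mem_ker, Subgroup.mem_subgroupOf]
    constructor
    · intro hc
      have h1 : (c : G) * g * (c : G)⁻¹ * g⁻¹ = 1 := congrArg Subtype.val hc
      rw [mul_inv_eq_one, mul_inv_eq_iff_eq_mul] at h1
      have htop : Subgroup.centralizer ({(c : G)} : Set G) = ⊤ := by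
        by_contra hne
        have hle : C ≤ Subgroup.centralizer ({(c : G)} : Set G) := fun v hv =>
          Subgroup.mem_centralizer_singleton_iff.mpr (hCab v hv c c.2).eq
        rcases (isCoatom_of_index_prime hk).le_iff.mp hle with h2 | h2
        · exact hne h2
        · exact hg (h2 ▸ Subgroup.mem_centralizer_singleton_iff.mpr h1.symm)
      exact Subgroup.mem_center_iff.mpr fun v =>
        Subgroup.mem_centralizer_singleton_iff.mp (htop.ge (Subgroup.mem_top v))
    · intro hc
      refine Subtype.ext ?_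
      show (c : G) * g * (c : G)⁻¹ * g⁻¹ = 1
      rw [← Subgroup.mem_center_iff.mp hc g, mul_inv_cancel_right, mul_inv_cancel]
  have hrange : θ.range = ⊤ := by
    haveI : Fact (Nat.card D).Prime := ⟨hDc ▸ hp⟩
    refine (θ.range.eq_bot_or_eq_top_of_prime_card).resolve_left fun hb => hdZ ?_
    have : (⟨d, Subgroup.mem_centralizer_singleton_iff.mpr rfl⟩ : C) ∈ θ.ker := by
      rw [MonoidHom.mem_ker, ← Subgroup.mem_bot, ← hb]; exact ⟨_, rfl⟩
    rw [hker] at this
    exact this
  have hCZ : Z.relIndex C = p := by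
    show (Z.subgroupOf C).index = p
    rw [← hker, Subgroup.index_ker, hrange, Subgroup.card_top, hDc]
  refine ⟨p, C.index, hp, hk, hkp.ne', ?_⟩
  rw [← Subgroup.index_eq_card, ← Subgroup.relIndex_mul_index (show Z ≤ C from Subgroup.center_le_centralizer _), hCZ]

/-- Let `G` be a finite group every conjugacy class of which has size 1 or a prime. Then either `G` is nilpotent of class at most 2, or `G/Z(G)` is a non-abelian group of order `pq` for distinct primes `p, q` (a Frobenius group of order `pq`). -/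
theorem result {G : Type*} [Group G] [Finite G]
    (h : ∀ x : G, (Subgroup.centralizer ({x} : Set G)).index = 1 ∨ ((Subgroup.centralizer ({x} : Set G)).index).Prime) :
    Subgroup.upperCentralSeries G 2 = ⊤ ∨
      ∃ p q : ℕ, p.Prime ∧ q.Prime ∧ p ≠ q ∧ Nat.card (G ⧸ Subgroup.center G) = p * q ∧ ¬ IsMulCommutative (G ⧸ Subgroup.center G) := by
  by_cases hnc : commutator G ≤ Subgroup.center G
  · left
    rw [eq_top_iff]
    intro x _
    rw [Subgroup.mem_upperCentralSeries_succ_iff]
    intro y
    rw [Subgroup.upperCentralSeries_one]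
    exact hnc (Subgroup.commutator_mem_commutator (Subgroup.mem_top x) (Subgroup.mem_top y))
  · right
    obtain ⟨p, q, hp, hq, hpq, hc⟩ := main h hnc
    refine ⟨p, q, hp, hq, hpq, hc, fun hcomm => hnc ?_⟩
    rw [commutator_def, Subgroup.commutator_le]
    intro a _ b _
    rw [← QuotientGroup.eq_one_iff]
    show QuotientGroup.mk' (Subgroup.center G) ⁅a, b⁆ = 1
    rw [map_commutatorElement, commutatorElement_eq_one_iff_mul_comm]
    exact hcomm.is_comm.comm _ _

end Cfsg.Agent.S4314
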