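import Cfsg.Statements.S4316
import Cfsg.Agent.Lib.Coprime.External
import Cfsg.Agent.Lib.CoprimeDerived.Bound

set_option autoImplicit false
universe u
open Cfsg
open SemidirectProduct Subgroup

namespace Cfsg.Agent.S4316

/-- There is a function `f` of two natural-number arguments with the following property. Let `q` be a prime and `A` an elementary abelian group of order `q³` acting by automorphisms on a finite group `G` of order prime to `q`, and suppose that for every non-identity `a ∈ A` the derived subgroup of the fixed-point subgroup `C_G(a)` has order at most `m`. Then the derived subgroup of `G` has order at most `f(q, m)`. -/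
theorem result :
    ∃ f : ℕ → ℕ → ℕ, ∀ (q m : ℕ) (A G : Type u) [Group A] [Finite A] [Group G] [Finite G] [MulDistribMulAction A G],
      q.Prime → Nat.card A = q ^ 3 → (∀ a b : A, a * b = b * a) → (∀ a : A, a ^ q = 1) → ¬ q ∣ Nat.card G →
      (∀ a : A, a ≠ 1 → Nat.card ↥(commutator ↥(FixedPoints.subgroup (Subgroup.zpowers a) G)) ≤ m) →
      Nat.card ↥(commutator G) ≤ f q m := by
  refine ⟨Cfsg.CoprimeDerived.finalBound, ?_⟩
  intro q m A G _ _ _ _ _ hq hA hAc hAe hqG hm
  set φ := MulDistribMulAction.toMulAut A G with hφ
  have := Cfsg.Agent.Lib.Coprime.finite_semidirect φ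
  set K := (inl : G →* G ⋊[φ] A).range with hK
  set A' := (inr : A →* G ⋊[φ] A).range with hA'
  have hA'card : Nat.card A' = q ^ 3 := by
    rw [← hA]
    exact (Nat.card_congr
      (MonoidHom.ofInjective (f := (inr : A →* G ⋊[φ] A)) inr_injective).toEquiv).symm
  have hKcard : Nat.card K = Nat.card G :=
    (Nat.card_congr
      (MonoidHom.ofInjective (f := (inl : G →* G ⋊[φ] A)) inl_injective).toEquiv).symm
  have h := Cfsg.CoprimeDerived.main (A := A') (K := K) (q := q) (m := m) hq
    (by rintro _ ⟨a, rfl⟩ _ ⟨b, rfl⟩; rw [← map_mul, ← map_mul, hAc a b])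
    (by rintro _ ⟨a, rfl⟩; rw [← map_pow, hAe a, map_one]) hA'card
    (Cfsg.Agent.Lib.Coprime.inr_range_le_normalizer φ)
    (by rw [hA'card, hKcard]; exact ((hq.coprime_iff_not_dvd).mpr hqG).pow_left 3)
    (by
      rintro _ ⟨a, rfl⟩ ha1
      have ha : a ≠ 1 := fun h => ha1 (by rw [h, map_one])
      have heq : K ⊓ centralizer {(inr a : G ⋊[φ] A)} =
          (FixedPoints.subgroup (Subgroup.zpowers a) G).map inl := by
        ext x
        constructor
        · rintro ⟨⟨g, rfl⟩, hg⟩
          refine ⟨g, ?_, rfl⟩
          have h1 : a • g = g := by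
            have h2 : (inl g : G ⋊[φ] A) * inr a = inr a * inl g :=
              mem_centralizer_singleton_iff.mp hg
            have h3 : (inl (φ a g) : G ⋊[φ] A) = inl g := by
              rw [inl_aut, ← h2, mul_assoc, ← map_mul, mul_inv_cancel, map_one, mul_one]
            exact inl_injective h3
          rintro ⟨c, hc⟩
          exact (Subgroup.zpowers_le.mpr (show a ∈ MulAction.stabilizer A g from h1) hc)
        · rintro ⟨g, hg, rfl⟩
          refine ⟨⟨g, rfl⟩, mem_centralizer_singleton_iff.mpr ?_⟩
          have h1 : φ a g = g := hg ⟨a, Subgroup.mem_zpowers a⟩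
          have h2 := inl_aut (φ := φ) a g
          rw [h1] at h2
          conv_lhs => rw [h2]
          rw [mul_assoc, ← map_mul, inv_mul_cancel, map_one, mul_one]
      rw [heq, ← Subgroup.map_commutator, Subgroup.card_map_of_injective inl_injective,
        ← Subgroup.map_subtype_commutator, Subgroup.card_subtype]
      exact hm a ha)
  refine le_of_eq_of_le ?_ h
  rw [← Subgroup.card_subtype K (commutator K), Subgroup.map_subtype_commutator, hK,
    MonoidHom.range_eq_map, ← Subgroup.map_commutator,
    Subgroup.card_map_of_injective inl_injective]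
  rfl

end Cfsg.Agent.S4316
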