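import Cfsg.Statements.S4320
import Mathlib

set_option autoImplicit false
open Cfsg

namespace Cfsg.Agent.S4320

universe u

open Finset MonoidAlgebra Subgroup
open scoped commutatorElement

variable {G : Type u} [Group G] [Finite G]

local notation "H'" => commutator G
local notation "Q" => G ⧸ commutator G
local notation "Ab" => Additive (Abelianization (commutator G))

noncomputable instance instCommQ : CommGroup (G ⧸ commutator G) :=
  { (inferInstance : Group (G ⧸ commutator G)) with
    mul_comm := fun a b => (Abelianization.commGroup G).mul_comm a b }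

noncomputable instance instFintypeQ : Fintype (G ⧸ commutator G) := Fintype.ofFinite _

open scoped Classical in
/-- The class of an element of `G'` in the abelianization of `G'`. -/
noncomputable def cl (x : G) : Ab :=
  if h : x ∈ H' then Additive.ofMul (Abelianization.of ⟨x, h⟩) else 0

theorem cl_mk {x : G} (h : x ∈ H') : cl x = Additive.ofMul (Abelianization.of (⟨x, h⟩ : commutator G)) :=
  dif_pos h

theorem cl_mul {x y : G} (hx : x ∈ H') (hy : y ∈ H') : cl (x * y) = cl x + cl y := by
  rw [cl_mk hx, cl_mk hy, cl_mk (mul_mem hx hy), ← ofMul_mul, ← map_mul]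
  rfl

theorem cl_one : cl (1 : G) = 0 := by
  rw [cl_mk (one_mem _)]
  exact ofMul_eq_zero.mpr (map_one Abelianization.of)

theorem exists_cl (a : Ab) : ∃ x ∈ H', cl x = a := by
  obtain ⟨y, hy⟩ := QuotientGroup.mk_surjective (Additive.toMul a)
  refine ⟨(y : G), y.2, ?_⟩
  rw [cl_mk y.2]
  exact congrArg Additive.ofMul hy

/-- The chosen representative. -/
noncomputable def sec (q : Q) : G := open scoped Classical in if q = 1 then 1 else q.out

theorem mk_sec (q : Q) : ((sec q : G) : Q) = q := by
  unfold sec; split_ifs with h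
  · rw [h]; rfl
  · exact QuotientGroup.out_eq' q

theorem sec_one : sec (1 : Q) = (1 : G) := by simp [sec]

theorem mem_of_mk_eq_one {x : G} (h : (x : Q) = 1) : x ∈ H' := (QuotientGroup.eq_one_iff x).mp h

theorem conj_mem' {x : G} (g : G) (hx : x ∈ H') : g * x * g⁻¹ ∈ H' :=
  (inferInstance : (commutator G).Normal).conj_mem x hx g

/-- Conjugation on the abelianization of `G'`. -/
noncomputable def act (g : G) : Ab →+ Ab :=
  MonoidHom.toAdditive (Abelianization.map (MulAut.conjNormal g : MulAut (commutator G)).toMonoidHom)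

theorem act_cl (g : G) {x : G} (hx : x ∈ H') : act g (cl x) = cl (g * x * g⁻¹) := by
  rw [cl_mk hx, cl_mk (conj_mem' g hx)]
  show Additive.ofMul (Abelianization.map _ (Abelianization.of _)) = _
  rw [Abelianization.map_of]
  rfl

theorem coc_mem (σ τ : Q) : sec σ * sec τ * (sec (σ * τ))⁻¹ ∈ H' := mem_of_mk_eq_one (by
  rw [QuotientGroup.mk_mul, QuotientGroup.mk_mul, QuotientGroup.mk_inv, mk_sec, mk_sec, mk_sec,
    mul_inv_cancel])

/-- The factor set. -/
noncomputable def coc (σ τ : Q) : Ab := cl (sec σ * sec τ * (sec (σ * τ))⁻¹)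

theorem coc_one_left (τ : Q) : coc 1 τ = 0 := by simp [coc, sec_one, cl_one]

theorem coc_one_right (σ : Q) : coc σ 1 = 0 := by simp [coc, sec_one, cl_one]

theorem cl_conj_of_mem {c y : G} (hc : c ∈ H') (hy : y ∈ H') : cl (c * y * c⁻¹) = cl y := by
  rw [cl_mul (mul_mem hc hy) (inv_mem hc), cl_mul hc hy, add_comm (cl c) (cl y), add_assoc,
    ← cl_mul hc (inv_mem hc), mul_inv_cancel, cl_one, add_zero]

theorem act_comp (σ τ : Q) (a : Ab) : act (sec σ) (act (sec τ) a) = act (sec (σ * τ)) a := by
  obtain ⟨x, hx, rfl⟩ := exists_cl a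
  rw [act_cl _ hx, act_cl _ (conj_mem' _ hx), act_cl _ hx,
    ← cl_conj_of_mem (coc_mem σ τ) (conj_mem' (sec (σ * τ)) hx)]
  congr 1
  group

theorem cocycle (σ τ q : Q) :
    act (sec σ) (coc τ q) + coc σ (τ * q) = coc σ τ + coc (σ * τ) q := by
  unfold coc
  rw [act_cl _ (coc_mem τ q), ← cl_mul (conj_mem' _ (coc_mem τ q)) (coc_mem σ (τ * q)),
    ← cl_mul (coc_mem σ τ) (coc_mem (σ * τ) q)]
  congr 1
  rw [mul_assoc σ τ q]
  group

variable (G) in
/-- The module: pairs whose function part has zero sum. -/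
def MS : AddSubgroup (Ab × (Q → ℤ)) where
  carrier := {x | ∑ q, x.2 q = 0}
  zero_mem' := by simp
  add_mem' := fun {a b} ha hb => by
    simp only [Set.mem_setOf_eq, Prod.snd_add, Pi.add_apply, Finset.sum_add_distrib] at *
    rw [ha, hb, add_zero]
  neg_mem' := fun {a} ha => by
    simp only [Set.mem_setOf_eq, Prod.snd_neg, Pi.neg_apply, Finset.sum_neg_distrib] at *
    rw [ha, neg_zero]

/-- Translation. -/
noncomputable def endo (σ : Q) : AddMonoid.End (MS G) where
  toFun x := ⟨(act (sec σ) x.1.1 + ∑ q, x.1.2 q • coc σ q, fun q => x.1.2 (σ⁻¹ * q)), by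
    show ∑ q, x.1.2 (σ⁻¹ * q) = 0
    exact (Equiv.sum_comp (Equiv.mulLeft σ⁻¹) x.1.2).trans x.2⟩
  map_zero' := Subtype.ext (Prod.ext (by simp) (by ext; simp))
  map_add' x y := Subtype.ext (Prod.ext (by
    simp [add_zsmul, Finset.sum_add_distrib]; abel) (by ext; simp))

theorem act_one (a : Ab) : act (sec (1 : Q)) a = a := by
  obtain ⟨x, hx, rfl⟩ := exists_cl a
  rw [act_cl _ hx, sec_one]; simp

/-- The representation. -/
noncomputable def rep : Q →* AddMonoid.End (MS G) where
  toFun := endo
  map_one' := by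
    refine AddMonoidHom.ext fun x => Subtype.ext (Prod.ext ?_ ?_)
    · show act (sec 1) x.1.1 + ∑ q, x.1.2 q • coc 1 q = x.1.1
      simp [act_one, coc_one_left]
    · show (fun q => x.1.2 ((1 : Q)⁻¹ * q)) = x.1.2
      simp
  map_mul' σ τ := by
    refine AddMonoidHom.ext fun x => Subtype.ext (Prod.ext ?_ ?_)
    · show act (sec (σ * τ)) x.1.1 + ∑ q, x.1.2 q • coc (σ * τ) q =
        act (sec σ) (act (sec τ) x.1.1 + ∑ q, x.1.2 q • coc τ q) + ∑ q, x.1.2 (τ⁻¹ * q) • coc σ q
      have h2 : ∑ q, x.1.2 (τ⁻¹ * q) • coc σ q = ∑ q, x.1.2 q • coc σ (τ * q) := by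
        rw [← Equiv.sum_comp (Equiv.mulLeft τ) fun q => x.1.2 (τ⁻¹ * q) • coc σ q]
        simp
      rw [h2, map_add, act_comp, map_sum, add_assoc, ← Finset.sum_add_distrib]
      congr 1
      have h3 : ∀ q, act (sec σ) (x.1.2 q • coc τ q) + x.1.2 q • coc σ (τ * q) =
          x.1.2 q • coc (σ * τ) q + x.1.2 q • coc σ τ := fun q => by
        rw [map_zsmul, ← zsmul_add, cocycle, zsmul_add, add_comm]
      simp only [h3]
      rw [Finset.sum_add_distrib, ← Finset.sum_smul, show (∑ q, x.1.2 q) = 0 from x.2, zero_smul, add_zero]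
    · show (fun q => x.1.2 ((σ * τ)⁻¹ * q)) = fun q => x.1.2 (τ⁻¹ * (σ⁻¹ * q))
      ext q
      rw [mul_inv_rev, mul_assoc]

noncomputable instance instMod : Module (MonoidAlgebra ℤ Q) (MS G) :=
  Module.compHom (MS G) (MonoidAlgebra.lift ℤ (AddMonoid.End (MS G)) Q rep).toRingHom

theorem single_smul (σ : Q) (c : ℤ) (m : MS G) : single σ c • m = c • rep σ m := by
  show (MonoidAlgebra.lift ℤ (AddMonoid.End (MS G)) Q rep (single σ c)) m = _
  rw [MonoidAlgebra.lift_single]
  rfl

/-- Delta function difference. -/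
noncomputable def dlt (σ : Q) : Q → ℤ := open scoped Classical in
  fun q => (if q = σ then 1 else 0) - (if q = 1 then 1 else 0)

/-- The crossed homomorphism. -/
noncomputable def der (g : G) : MS G := ⟨(cl (g * (sec (g : Q))⁻¹), dlt (g : Q)), by
  show ∑ q, dlt (g : Q) q = 0
  classical
  simp [dlt, Finset.sum_sub_distrib]⟩

theorem der_mul (g h : G) : der (g * h) = der g + rep (g : Q) (der h) := by
  classical
  refine Subtype.ext (Prod.ext ?_ ?_)
  · show cl (g * h * (sec ((g * h : G) : Q))⁻¹) = cl (g * (sec (g : Q))⁻¹) +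
      (act (sec (g : Q)) (cl (h * (sec (h : Q))⁻¹)) + ∑ q, dlt (h : Q) q • coc (g : Q) q)
    have hsum : ∑ q, dlt (h : Q) q • coc (g : Q) q = coc (g : Q) (h : Q) := by
      simp only [dlt, sub_smul, ite_smul, one_smul, zero_smul, Finset.sum_sub_distrib, Finset.sum_ite_eq',
        Finset.mem_univ, if_true, coc_one_right, sub_zero]
    have hm : ∀ y : G, y * (sec (y : Q))⁻¹ ∈ H' := fun y => mem_of_mk_eq_one (by
      rw [QuotientGroup.mk_mul, QuotientGroup.mk_inv, mk_sec, mul_inv_cancel])
    rw [hsum, coc, act_cl _ (hm h), QuotientGroup.mk_mul,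
      ← cl_mul (conj_mem' _ (hm h)) (coc_mem _ _),
      ← cl_mul (hm g) (mul_mem (conj_mem' _ (hm h)) (coc_mem _ _))]
    congr 1
    group
  · show dlt ((g * h : G) : Q) = dlt (g : Q) + fun q => dlt (h : Q) ((g : Q)⁻¹ * q)
    ext q
    simp only [dlt, Pi.add_apply, QuotientGroup.mk_mul, inv_mul_eq_iff_eq_mul, mul_one]
    by_cases e1 : q = (g : Q) * (h : Q) <;> by_cases e2 : q = 1 <;> by_cases e3 : q = (g : Q) <;> simp [*]

theorem der_mul' (g h : G) : der (g * h) = der g + single (g : Q) (1 : ℤ) • der h := by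
  rw [single_smul, one_zsmul, der_mul]

theorem der_one : der (1 : G) = 0 := by
  have h := der_mul' (1 : G) 1
  rw [mul_one, QuotientGroup.mk_one, ← MonoidAlgebra.one_def, one_smul, left_eq_add] at h
  exact h

theorem der_mul_mem {a : G} (ha : a ∈ H') (g : G) : der (a * g) = der a + der g := by
  rw [der_mul', (QuotientGroup.eq_one_iff a).mpr ha, ← MonoidAlgebra.one_def, one_smul]

theorem der_pow (g : G) : ∀ n : ℕ, der (g ^ n) = (∑ k ∈ Finset.range n, single (g : Q) (1 : ℤ) ^ k) • der g := by
  intro n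
  induction n with
  | zero => simp [der_one]
  | succ n ih =>
    rw [pow_succ', der_mul', ih, smul_smul, Finset.mul_sum]
    nth_rw 1 [← one_smul (MonoidAlgebra ℤ Q) (der g)]
    rw [← add_smul, Finset.sum_range_succ' _ n, add_comm, pow_zero]
    simp only [pow_succ']

variable (G) in
/-- Augmentation. -/
noncomputable def aug : MonoidAlgebra ℤ Q →+* ℤ := (MonoidAlgebra.lift ℤ ℤ Q 1).toRingHom

theorem aug_single (σ : Q) (c : ℤ) : aug G (single σ c) = c := by
  show MonoidAlgebra.lift ℤ ℤ Q 1 (single σ c) = c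
  rw [MonoidAlgebra.lift_single]; simp

theorem exists_annihilator : ∃ d : MonoidAlgebra ℤ Q, aug G d = Nat.card Q ∧ ∀ g : G, d • der g = 0 := by
  classical
  obtain ⟨ι, _, n, hn, ⟨e⟩⟩ := CommGroup.equiv_prod_multiplicative_zmod_of_finite Q
  set q : ι → Q := fun i => e.symm (Pi.mulSingle i (Multiplicative.ofAdd (1 : ZMod (n i)))) with hq
  haveI : ∀ i, NeZero (n i) := fun i => ⟨(zero_lt_one.trans (hn i)).ne'⟩
  have hqn : ∀ i, q i ^ n i = 1 := fun i => by
    rw [hq, ← map_pow, ← Pi.mulSingle_pow, ← ofAdd_nsmul, nsmul_one, ZMod.natCast_self, ofAdd_zero,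
      Pi.mulSingle_one, map_one]
  haveI := Fintype.ofFinite (commutator G)
  let gen : ι ⊕ commutator G → G := Sum.elim (fun i => sec (q i)) fun a => (a : G)
  set v : ι ⊕ commutator G → MS G := fun j => der (gen j) with hv
  set S := Submodule.span (MonoidAlgebra ℤ Q) (Set.range v) with hS
  -- every value lies in the span
  have hspan : ∀ g : G, der g ∈ S := by
    let P : Subgroup G :=
      { carrier := {g | der g ∈ S}
        one_mem' := by show der (1 : G) ∈ S; rw [der_one]; exact S.zero_mem
        mul_mem' := fun {a b} ha hb => by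
          show der (a * b) ∈ S
          rw [der_mul']; exact S.add_mem ha (S.smul_mem _ hb)
        inv_mem' := fun {a} ha => by
          show der a⁻¹ ∈ S
          have h := der_mul' a⁻¹ a
          rw [inv_mul_cancel, der_one, eq_comm, add_eq_zero_iff_eq_neg] at h
          rw [h]; exact S.neg_mem (S.smul_mem _ ha) }
    have hH : H' ≤ P := fun a ha => Submodule.subset_span ⟨Sum.inr ⟨a, ha⟩, rfl⟩
    have hmap : P.map (QuotientGroup.mk' H') = ⊤ := by
      rw [eq_top_iff]
      intro y _
      have key : ∀ x : (i : ι) → Multiplicative (ZMod (n i)), e.symm x ∈ P.map (QuotientGroup.mk' H') := by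
        intro x
        rw [← Finset.univ_prod_mulSingle x, map_prod]
        refine Subgroup.prod_mem _ fun i _ => ?_
        have : e.symm (Pi.mulSingle i (x i)) = q i ^ (Multiplicative.toAdd (x i)).val := by
          rw [hq, ← map_pow, ← Pi.mulSingle_pow, ← ofAdd_nsmul, nsmul_one, ZMod.natCast_zmod_val, ofAdd_toAdd]
        rw [this]
        have hqi : q i ∈ P.map (QuotientGroup.mk' H') :=
          ⟨sec (q i), Submodule.subset_span ⟨Sum.inl i, rfl⟩, mk_sec (q i)⟩
        exact pow_mem hqi _
      simpa using key (e y)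
    intro g
    have hg : g ∈ (P.map (QuotientGroup.mk' H')).comap (QuotientGroup.mk' H') := by
      rw [hmap]; exact Subgroup.mem_top _
    rwa [Subgroup.comap_map_eq_self (by rwa [QuotientGroup.ker_mk'])] at hg
  -- elements of the derived group have coefficients of augmentation zero
  have hzero : ∀ a ∈ H', ∃ b : ι ⊕ commutator G → MonoidAlgebra ℤ Q,
      (∀ j, aug G (b j) = 0) ∧ der a = ∑ j, b j • v j := by
    intro a ha
    suffices h : a ∈ H' ∧ ∃ b : ι ⊕ commutator G → MonoidAlgebra ℤ Q,
        (∀ j, aug G (b j) = 0) ∧ der a = ∑ j, b j • v j from h.2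
    rw [commutator_eq_closure] at ha
    induction ha using Subgroup.closure_induction with
    | mem x hx =>
      obtain ⟨g, h, rfl⟩ := mem_commutatorSet_iff.mp hx
      have hc : ⁅g, h⁆ ∈ H' := Subgroup.commutator_mem_commutator (Subgroup.mem_top g) (Subgroup.mem_top h)
      refine ⟨hc, ?_⟩
      obtain ⟨cg, hcg⟩ := (Submodule.mem_span_range_iff_exists_fun _).mp (hspan g)
      obtain ⟨ch, hch⟩ := (Submodule.mem_span_range_iff_exists_fun _).mp (hspan h)
      refine ⟨fun j => (1 - single (h : Q) 1) * cg j + (single (g : Q) 1 - 1) * ch j, fun j => ?_, ?_⟩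
      · simp [aug_single]
      · have h1 := der_mul_mem hc (h * g)
        rw [show ⁅g, h⁆ * (h * g) = g * h by rw [commutatorElement_def]; group, der_mul', der_mul'] at h1
        have h2 : der ⁅g, h⁆ = (1 - single (h : Q) (1 : ℤ)) • der g + (single (g : Q) (1 : ℤ) - 1) • der h := by
          rw [eq_sub_of_add_eq h1.symm, sub_smul, sub_smul, one_smul, one_smul]
          abel
        rw [h2, ← hcg, ← hch, Finset.smul_sum, Finset.smul_sum, ← Finset.sum_add_distrib]
        refine Finset.sum_congr rfl fun j _ => ?_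
        rw [smul_smul, smul_smul, add_smul]
    | one => exact ⟨one_mem _, 0, fun j => by simp, by simp [der_one]⟩
    | mul x y _ _ ihx ihy =>
      obtain ⟨hx, bx, hbx, ex⟩ := ihx
      obtain ⟨hy, by', hby, ey⟩ := ihy
      refine ⟨mul_mem hx hy, bx + by', fun j => by simp [hbx, hby], ?_⟩
      rw [der_mul_mem hx, ex, ey, ← Finset.sum_add_distrib]
      simp [add_smul]
    | inv x _ ihx =>
      obtain ⟨hx, bx, hbx, ex⟩ := ihx
      refine ⟨inv_mem hx, -bx, fun j => by simp [hbx], ?_⟩
      have h := der_mul_mem (inv_mem hx) x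
      rw [inv_mul_cancel, der_one, eq_comm, add_eq_zero_iff_eq_neg] at h
      simp [h, ex]
  choose b hb0 hb using hzero
  -- the relation matrix
  let rel : ι ⊕ commutator G → G := Sum.elim (fun i => sec (q i) ^ n i) fun a => (a : G)
  have hrel : ∀ j, rel j ∈ H' := by
    rintro (i | a)
    · exact mem_of_mk_eq_one (by rw [show rel (Sum.inl i) = sec (q i) ^ n i from rfl, QuotientGroup.mk_pow, mk_sec, hqn])
    · exact a.2
  let dg : ι ⊕ commutator G → MonoidAlgebra ℤ Q :=
    Sum.elim (fun i => ∑ k ∈ Finset.range (n i), single (q i) (1 : ℤ) ^ k) fun _ => 1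
  have hdg : ∀ j, dg j • v j = der (rel j) := by
    rintro (i | a)
    · show (∑ k ∈ Finset.range (n i), single (q i) (1 : ℤ) ^ k) • der (sec (q i)) = _
      have := der_pow (sec (q i)) (n i)
      rw [mk_sec] at this
      exact this.symm
    · exact one_smul _ _
  let Θ : Matrix (ι ⊕ commutator G) (ι ⊕ commutator G) (MonoidAlgebra ℤ Q) :=
    Matrix.diagonal dg - Matrix.of fun j k => b (rel j) (hrel j) k
  have hΘ : ∀ j, ∑ k, Θ j k • v k = 0 := by
    intro j
    simp only [Θ, Matrix.sub_apply, Matrix.of_apply, sub_smul, Finset.sum_sub_distrib, ← hb,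
      Matrix.diagonal_apply, ite_smul, zero_smul, Finset.sum_ite_eq, Finset.mem_univ, if_true, hdg, sub_self]
  refine ⟨Θ.det, ?_, ?_⟩
  · have hmap : (aug G).mapMatrix Θ = Matrix.diagonal (fun j => aug G (dg j)) := by
      ext j k
      simp only [Θ, RingHom.mapMatrix_apply, Matrix.map_apply, Matrix.sub_apply, Matrix.of_apply, map_sub, hb0,
        sub_zero, Matrix.diagonal_apply]
      split_ifs <;> simp
    rw [RingHom.map_det, hmap, Matrix.det_diagonal, Fintype.prod_sum_type, Nat.card_congr e.toEquiv, Nat.card_pi]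
    simp [dg, aug_single, single_pow]
  · intro g
    obtain ⟨c, hc⟩ := (Submodule.mem_span_range_iff_exists_fun _).mp (hspan g)
    rw [← hc, Finset.smul_sum]
    refine Finset.sum_eq_zero fun i _ => ?_
    rw [smul_comm]
    suffices h : Θ.det • v i = 0 by rw [h, smul_zero]
    calc Θ.det • v i = ∑ k, (Matrix.adjugate Θ * Θ) i k • v k := by
          rw [Matrix.adjugate_mul]
          simp [Matrix.one_apply, ite_smul]
      _ = ∑ j, Matrix.adjugate Θ i j • ∑ k, Θ j k • v k := by
          simp only [Matrix.mul_apply, Finset.sum_smul, Finset.smul_sum, smul_smul]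
          rw [Finset.sum_comm]
      _ = 0 := by simp [hΘ]

/-- The function part, as an element of the group algebra. -/
noncomputable def funPart : MS G →+ MonoidAlgebra ℤ Q where
  toFun x := ∑ q, single q (x.1.2 q)
  map_zero' := by simp
  map_add' x y := by simp [single_add, Finset.sum_add_distrib]

theorem funPart_smul (r : MonoidAlgebra ℤ Q) (x : MS G) : funPart (r • x) = r * funPart x := by
  induction r using MonoidAlgebra.induction_on with
  | of σ =>
    rw [MonoidAlgebra.of_apply, single_smul, one_zsmul]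
    show ∑ q, single q (x.1.2 (σ⁻¹ * q)) = single σ 1 * ∑ q, single q (x.1.2 q)
    rw [Finset.mul_sum, ← Equiv.sum_comp (Equiv.mulLeft σ)]
    simp [single_mul_single]
  | add a b ha hb => rw [add_smul, map_add, ha, hb, add_mul]
  | smul c a ha => rw [smul_assoc, map_zsmul, ha, smul_mul_assoc]

theorem norm_smul_der (g : G) : (∑ σ : Q, single σ (1 : ℤ)) • der g = 0 := by
  obtain ⟨d, hd, hann⟩ := exists_annihilator (G := G)
  suffices h : d = ∑ σ : Q, single σ (1 : ℤ) from h ▸ hann g
  set N := ∑ σ : Q, single σ (1 : ℤ) with hN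
  have hshift : ∀ σ : Q, d * single σ (1 : ℤ) = d := by
    intro σ
    obtain ⟨y, rfl⟩ := QuotientGroup.mk_surjective σ
    have h := congrArg funPart (hann y)
    rw [funPart_smul, map_zero] at h
    have h2 : funPart (der y) = single (y : Q) (1 : ℤ) - 1 := by
      classical
      show ∑ q, single q (dlt (y : Q) q) = _
      have hs : ∀ σ : Q, ∑ q, single q (if q = σ then (1 : ℤ) else 0) = single σ 1 := fun σ => by
        rw [Finset.sum_eq_single σ]
        · simp
        · intro b _ hb; simp [hb]
        · simp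
      simp only [dlt, single_sub, Finset.sum_sub_distrib, hs, MonoidAlgebra.one_def]
    rw [h2, mul_sub, mul_one, sub_eq_zero] at h
    exact h
  have h1 : d * N = (Nat.card Q) • d := by
    rw [hN, Finset.mul_sum]
    simp [hshift, Nat.card_eq_fintype_card]
  have h2 : d * N = aug G d • N := by
    have key : ∀ r : MonoidAlgebra ℤ Q, r * N = aug G r • N := by
      intro r
      induction r using MonoidAlgebra.induction_on with
      | of σ =>
        rw [MonoidAlgebra.of_apply, aug_single, one_zsmul, hN, Finset.mul_sum]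
        simp only [single_mul_single, mul_one]
        exact Equiv.sum_comp (Equiv.mulLeft σ) fun q => single q (1 : ℤ)
      | add a b ha hb => rw [add_mul, map_add, ha, hb, add_smul]
      | smul c a ha => rw [smul_mul_assoc, ha, map_zsmul, smul_smul, smul_eq_mul]
    exact key d
  rw [h1, hd, natCast_zsmul] at h2
  ext q
  have h3 := congrArg (fun r => MonoidAlgebra.coeff r q) h2
  simp only [MonoidAlgebra.coeff_smul, Finsupp.coe_smul, Pi.smul_apply] at h3
  rw [nsmul_eq_mul, nsmul_eq_mul] at h3
  exact mul_left_cancel₀ (Nat.cast_ne_zero.mpr Nat.card_pos.ne') h3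

theorem transfer_eq_one :
    MonoidHom.transfer (Abelianization.of : ↥(commutator G) →* Abelianization ↥(commutator G)) =
      (1 : G →* Abelianization ↥(commutator G)) := by
  ext g
  haveI : (commutator G).FiniteIndex := inferInstance
  have hf : ∀ q : Q, (((sec q⁻¹)⁻¹ : G) : Q) = q := fun q => by
    rw [QuotientGroup.mk_inv, mk_sec, inv_inv]
  let T : (commutator G).LeftTransversal := ⟨_, Subgroup.isComplement_range_left hf⟩
  have hT : ∀ q : Q, ((T.2.leftQuotientEquiv q : T.1) : G) = (sec q⁻¹)⁻¹ := fun q =>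
    Subgroup.IsComplement.leftQuotientEquiv_apply hf q
  rw [MonoidHom.transfer_def _ T, MonoidHom.one_apply]
  -- the norm of the crossed homomorphism
  have hN := congrArg (fun m : MS G => m.1.1) (norm_smul_der g)
  have hterm : ∀ σ : Q, (rep σ (der g)).1.1 = cl (sec σ * g * (sec (σ * (g : Q)))⁻¹) := by
    intro σ
    classical
    have hm : g * (sec (g : Q))⁻¹ ∈ H' := mem_of_mk_eq_one (by
      rw [QuotientGroup.mk_mul, QuotientGroup.mk_inv, mk_sec, mul_inv_cancel])
    show act (sec σ) (cl (g * (sec (g : Q))⁻¹)) + ∑ q, dlt (g : Q) q • coc σ q = _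
    have hsum : ∑ q, dlt (g : Q) q • coc σ q = coc σ (g : Q) := by
      simp only [dlt, sub_smul, ite_smul, one_smul, zero_smul, Finset.sum_sub_distrib, Finset.sum_ite_eq',
        Finset.mem_univ, if_true, coc_one_right, sub_zero]
    rw [hsum, coc, act_cl _ hm, ← cl_mul (conj_mem' _ hm) (coc_mem _ _)]
    congr 1
    group
  simp only [Finset.sum_smul, single_smul, one_zsmul, AddSubgroup.val_finsetSum, Prod.fst_sum, hterm,
    ZeroMemClass.coe_zero, Prod.fst_zero] at hN
  have key := congrArg Additive.toMul hN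
  rw [toMul_sum, toMul_zero] at key
  rw [← key]
  unfold Subgroup.leftTransversals.diff
  refine Fintype.prod_equiv (Equiv.inv Q) _ _ fun q => ?_
  have hm : sec q⁻¹ * g * (sec (q⁻¹ * (g : Q)))⁻¹ ∈ H' := mem_of_mk_eq_one (by
    rw [QuotientGroup.mk_mul, QuotientGroup.mk_mul, QuotientGroup.mk_inv, mk_sec, mk_sec, mul_inv_cancel])
  rw [Equiv.inv_apply, cl_mk hm, toMul_ofMul]
  congr 1
  refine Subtype.ext ?_
  show ((T.2.leftQuotientEquiv q : T.1) : G)⁻¹ * ((g • T).2.leftQuotientEquiv q : G) = _
  show _ = sec q⁻¹ * g * (sec (q⁻¹ * (g : Q)))⁻¹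
  rw [Subgroup.smul_apply_eq_smul_apply_inv_smul, hT, hT, inv_inv, smul_eq_mul, mul_assoc]
  congr 3
  show sec ((((g⁻¹ : G) : Q) * q)⁻¹) = _
  rw [QuotientGroup.mk_inv, mul_inv_rev, inv_inv]

/-- The Principal Ideal Theorem of class field theory in its group-theoretic form: for every finite group `G`, the transfer homomorphism from `G` into the abelianization `G'/G''` of its derived subgroup `G'` is the trivial homomorphism. -/
theorem result {G : Type*} [Group G] [Finite G] :
    MonoidHom.transfer (Abelianization.of : ↥(commutator G) →* Abelianization ↥(commutator G)) =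
      (1 : G →* Abelianization ↥(commutator G)) := by
  exact transfer_eq_one

end Cfsg.Agent.S4320
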