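import Cfsg.Statements.S4321
import Cfsg.Agent.Lib.PGroups.ClassGraph
import Cfsg.Agent.S4035
import Cfsg.Agent.Lib.Coprime.Action

set_option autoImplicit false
open Cfsg

namespace Cfsg.Agent.S4321


open Cfsg.Agent.Lib
open Cfsg.Agent.Lib.PGroups.ClassGraph
open Subgroup
open scoped commutatorElement

universe u

/-- A conjugate lies in a given Sylow subgroup. -/
theorem exists_conj_mem {G : Type u} [Group G] [Finite G] {p : ℕ} [Fact p.Prime] (P : Sylow p G) {y : G}
    {j : ℕ} (hy : orderOf y = p ^ j) : ∃ g : G, g⁻¹ * y * g ∈ (P : Subgroup G) := by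
  obtain ⟨R, hR⟩ := (IsPGroup.of_card (n := j) (by rw [Nat.card_zpowers, hy]) :
    IsPGroup p (zpowers y)).exists_le_sylow
  obtain ⟨g, hg⟩ := MulAction.exists_smul_eq G P R
  obtain ⟨w, hw, hwy⟩ : y ∈ ((g • P : Sylow p G) : Subgroup G) := hg ▸ hR (mem_zpowers y)
  refine ⟨g, ?_⟩
  rw [← show g * w * g⁻¹ = y from hwy, show g⁻¹ * (g * w * g⁻¹) * g = w by group]
  exact hw

/-- Any two elements of order `p` are linked through the class of some `p`-singular element. -/
theorem link {G : Type u} [Group G] [Finite G] {p : ℕ} [hp : Fact p.Prime]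
    (hZ : ¬ p ∣ Nat.card (center G)) (u v : G) (hu : orderOf u = p) (hv : orderOf v = p) :
    ∃ z : G, p ∣ orderOf z ∧ ¬ (cl u).Coprime (cl z) ∧ ¬ (cl v).Coprime (cl z) := by
  classical
  have hne1 : ∀ w : G, orderOf w = p → cl w ≠ 1 := fun w hw e => hZ (by
    have h := orderOf_dvd_natCard (⟨w, cl_eq_one.mp e⟩ : center G)
    rwa [Subgroup.orderOf_mk, hw] at h)
  by_contra H
  push Not at H
  have hnc : ∀ w : G, orderOf w = p → ¬ (cl w).Coprime (cl w) := fun w hw h => hne1 w hw ((Nat.coprime_self _).mp h)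
  have huv : (cl u).Coprime (cl v) := (H u (by rw [hu]) (hnc u hu)).symm
  wlog hpv : ¬ p ∣ cl v generalizing u v with key
  · refine key v u hv hu (fun z hz h1 => ?_) huv.symm (fun hd => hp.out.ne_one
      (Nat.eq_one_of_dvd_coprimes huv hd (not_not.mp hpv)))
    by_contra h2
    exact h1 (H z hz h2)
  -- a Sylow subgroup centralizing `v`
  set C := centralizer ({v} : Set G) with hC
  obtain ⟨T⟩ : Nonempty (Sylow p C) := inferInstance
  have hTi : ¬ p ∣ ((T : Subgroup C).map C.subtype).index := by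
    rw [index_map_subtype]
    exact fun hd => ((Nat.Prime.dvd_mul hp.out).mp hd).elim T.not_dvd_index hpv
  let P : Sylow p G := (T.2.map C.subtype).toSylow hTi
  have hPC : (P : Subgroup G) ≤ C := map_subtype_le _
  -- move `u` into it
  obtain ⟨a, ha⟩ := exists_conj_mem P (j := 1) (by rw [hu, pow_one])
  set u' := a⁻¹ * u * a with hu'
  have hcu : cl u' = cl u := by
    have h := cl_conj a⁻¹ u
    rwa [inv_inv] at h
  rw [← hcu] at huv
  simp only [← hcu] at H
  have hu'o : orderOf u' = p := by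
    rw [← hu, hu', show a⁻¹ * u * a = (MulAut.conj a⁻¹).toMonoidHom u by simp]
    exact orderOf_injective _ (MulAut.conj a⁻¹).injective u
  -- commuting `p`-elements whose classes have primes of `cl v` only
  have hinO : ∀ y : G, ∀ j, orderOf y = p ^ j → y * u' = u' * y → cl y ≠ 1 → cl y ∣ cl v →
      p ∣ cl u' ∧ y ∈ Cfsg.pCore p G := by
    intro y j hj hyu hy1 hdv
    have hcop : (cl u').Coprime (cl y) := huv.coprime_dvd_right hdv
    obtain ⟨hd, hle, -⟩ := product_class hcop
    have hd' := (product_class hcop.symm).2.1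
    rw [hyu] at hd'
    set z := u' * y with hz
    have hzp : p ∣ orderOf z := by
      have h1 : z ≠ 1 := fun e => by
        have e' : y = u'⁻¹ := eq_inv_of_mul_eq_one_right e
        have : cl y = cl u' := by
          rw [e', cl_inv]
        rw [this] at hcop
        exact hne1 u' hu'o ((Nat.coprime_self _).mp hcop)
      have h2 : orderOf z ∣ p * p ^ j := (Commute.orderOf_mul_dvd_mul_orderOf hyu.symm).trans (by rw [hu'o, hj])
      rw [← pow_succ'] at h2
      obtain ⟨i, -, hi⟩ := (Nat.dvd_prime_pow hp.out).mp h2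
      rcases i with _ | i
      · exact absurd (orderOf_eq_one_iff.mp (by simpa using hi)) h1
      · rw [hi]; exact dvd_pow_self p i.succ_ne_zero
    have hpH : ∀ w : G, ∀ i, orderOf w = p ^ i → cl w ≠ 1 → (Nat.card (commSub w)).Coprime (cl w) →
        p ∣ Nat.card (commSub w) := by
      intro w i hi hw hc
      obtain ⟨k, hk⟩ := (isPGroup_commSub hc hi).exists_card_eq
      rw [hk]
      refine dvd_pow_self p fun e => hw (cl_eq_one.mpr (mem_center_iff.mpr fun b => ?_))
      have := comm_mem_commSub w b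
      rw [e, pow_zero, card_eq_one] at hk
      rw [hk, mem_bot, inv_mul_eq_one] at this
      calc b * w = b * w * b⁻¹ * b := by group
        _ = w * b := by rw [← this]
    by_cases hc : (cl u').Coprime (cl z)
    · exfalso
      have h1 : cl z ∣ cl y := hc.symm.dvd_of_dvd_mul_left hd
      have heq : cl z = cl y := le_antisymm (Nat.le_of_dvd (cl_pos y) h1) hle
      have hH := card_commSub_dvd hcop heq
      have hc' := (hcop.symm.coprime_dvd_left hH)
      exact hp.out.ne_one (Nat.eq_one_of_dvd_coprimes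
        ((hp.out.coprime_iff_not_dvd.mpr (fun hd => hpv (hd.trans hdv))).symm)
        ((hpH u' 1 (by rw [hu'o, pow_one]) (hne1 u' hu'o) hc').trans hH) dvd_rfl)
    · have h1 : (cl y).Coprime (cl z) := (H z hzp hc).coprime_dvd_left hdv
      have h2 : cl z ∣ cl u' := h1.symm.dvd_of_dvd_mul_right hd
      have heq : cl (y * u') = cl u' := by
        rw [hyu]; exact le_antisymm (Nat.le_of_dvd (cl_pos _) h2) hd'
      have hH := card_commSub_dvd hcop.symm heq
      have hc' : (Nat.card (commSub y)).Coprime (cl y) := hcop.coprime_dvd_left hH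
      exact ⟨(hpH y j hj hy1 hc').trans hH, mem_pCore_of_commSub hc' hp.out hj⟩
  have hvu : v * u' = u' * v := (mem_cent.mp (hPC ha)).symm
  obtain ⟨hpu, -⟩ := hinO v 1 (by rw [hv, pow_one]) hvu (hne1 v hv) dvd_rfl
  -- no class size of a `p`-singular element meets both `p` and `cl v`
  have hsep : ∀ z : G, p ∣ orderOf z → p ∣ cl z → (cl v).Coprime (cl z) := fun z hz hpz =>
    H z hz fun h => hp.out.ne_one (Nat.eq_one_of_dvd_coprimes h hpu hpz)
  -- the centralizer of `v` is the product of `P` with a complement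
  obtain ⟨hTn, L0, hL0n, -, hTL, hTLtop⟩ := Cfsg.Agent.S4035.result (G := C) (p := p) (fun t ht hd => by
    rw [Cfsg.Agent.Lib.PGroups.ClassGraph.ncard_carrier] at hd
    by_cases ht1 : (t : G) = 1
    · have : cl t = 1 := cl_eq_one.mpr (by rw [show t = 1 from Subtype.ext ht1]; exact one_mem _)
      rw [this] at hd
      exact hp.out.not_dvd_one hd
    have hvt : v * (t : G) = t * v := (mem_cent.mp t.2).symm
    have hco : (orderOf v).Coprime (orderOf (t : G)) := by rw [hv, orderOf_coe]; exact ht.symm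
    have hdv := cl_dvd_mul hvt hco
    have hzp : p ∣ orderOf (v * (t : G)) := by
      rw [Commute.orderOf_mul_eq_mul_orderOf_of_coprime hvt hco, hv]; exact dvd_mul_right _ _
    refine hne1 v hv (Nat.eq_one_of_dvd_coprimes (hsep _ hzp ?_) dvd_rfl hdv)
    -- `p` divides the class size in `G`
    have hle : centralizer ({v * (t : G)} : Set G) ≤ C ⊓ centralizer ({(t : G)} : Set G) := by
      intro w hw
      obtain ⟨m, hm⟩ := exists_pow_eq_self_of_coprime (x := v) (n := orderOf (t : G)) hco.symm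
      obtain ⟨m', hm'⟩ := exists_pow_eq_self_of_coprime (x := (t : G)) (n := orderOf v) hco
      have hw' : Commute w (v * (t : G)) := mem_cent.mp hw
      refine ⟨mem_cent.mpr ?_, mem_cent.mpr ?_⟩
      · have := (hw'.pow_right (orderOf (t : G))).pow_right m
        rw [Commute.mul_pow hvt, pow_orderOf_eq_one, mul_one, hm] at this
        exact this.eq
      · have := (hw'.pow_right (orderOf v)).pow_right m'
        rw [Commute.mul_pow hvt, pow_orderOf_eq_one, one_mul, hm'] at this
        exact this.eq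
    refine hd.trans (dvd_trans ?_ (index_dvd_of_le hle))
    rw [← relIndex_mul_index (inf_le_left : C ⊓ centralizer ({(t : G)} : Set G) ≤ C)]
    refine Dvd.dvd.mul_right (dvd_of_eq ?_) _
    rw [inf_relIndex_left]
    unfold cl relIndex
    congr 1
    ext w
    rw [mem_subgroupOf, mem_cent, mem_cent]
    exact ⟨fun h => congrArg Subtype.val h, fun h => Subtype.ext h⟩) T
  set L := L0.map C.subtype with hL
  have hPL : ∀ x ∈ (P : Subgroup G), ∀ l ∈ L, x * l = l * x := by
    rintro _ ⟨x, hx, rfl⟩ _ ⟨l, hl, rfl⟩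
    rw [← map_mul, ← map_mul]
    exact congrArg _ (Subgroup.commute_of_normal_of_disjoint _ _ hTn hL0n (disjoint_iff.mpr hTL) x l hx hl).eq
  have hPLC : (P : Subgroup G) ⊔ L = C := by
    show (T : Subgroup C).map C.subtype ⊔ L0.map C.subtype = C
    rw [← Subgroup.map_sup, hTLtop, ← MonoidHom.range_eq_map, range_subtype]
  -- `p`-elements outside the core avoid the primes of `cl v`
  have hout : ∀ y : G, ∀ j, orderOf y = p ^ j → y ∉ Cfsg.pCore p G → (cl v).Coprime (cl y) := by
    intro y j hj hyO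
    by_contra hnc
    have hj0 : j ≠ 0 := fun e => hyO (by
      rw [e, pow_zero, orderOf_eq_one_iff] at hj
      rw [hj]; exact one_mem _)
    have hpy : ¬ p ∣ cl y := fun hd => hnc (hsep y (hj ▸ dvd_pow_self p hj0) hd)
    obtain ⟨T2⟩ : Nonempty (Sylow p (centralizer ({y} : Set G))) := inferInstance
    have hT2 : ¬ p ∣ ((T2 : Subgroup (centralizer ({y} : Set G))).map (centralizer ({y} : Set G)).subtype).index := by
      rw [index_map_subtype]
      exact fun hd => ((Nat.Prime.dvd_mul hp.out).mp hd).elim T2.not_dvd_index hpy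
    let P2 : Sylow p G := (T2.2.map (centralizer ({y} : Set G)).subtype).toSylow hT2
    obtain ⟨g, hg⟩ := MulAction.exists_smul_eq G P P2
    set y' := g⁻¹ * y * g with hy'
    have hyc : cl y' = cl y := by
      have h := cl_conj g⁻¹ y
      rwa [inv_inv] at h
    have hy'o : orderOf y' = p ^ j := by
      rw [← hj, hy', show g⁻¹ * y * g = (MulAut.conj g⁻¹).toMonoidHom y by simp]
      exact orderOf_injective _ (MulAut.conj g⁻¹).injective y
    have hy'P : ∀ x ∈ (P : Subgroup G), x * y' = y' * x := by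
      intro x hx
      obtain ⟨w, -, hw⟩ : g * x * g⁻¹ ∈ (P2 : Subgroup G) := hg ▸ ⟨x, hx, rfl⟩
      have h2 : w.1 * y = y * w.1 := mem_cent.mp w.2
      rw [show w.1 = g * x * g⁻¹ from hw] at h2
      calc x * y' = g⁻¹ * (g * x * g⁻¹ * y) * g := by rw [hy']; group
        _ = g⁻¹ * (y * (g * x * g⁻¹)) * g := by rw [h2]
        _ = y' * x := by rw [hy']; group
    have hy'mem : y' ∈ (P : Subgroup G) := by
      have hle : zpowers y' ≤ normalizer ((P : Subgroup G) : Set G) := zpowers_le.mpr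
        (centralizer_le_normalizer _ (mem_centralizer_iff.mpr hy'P))
      have hps : IsPGroup p ((P : Subgroup G) ⊔ zpowers y' : Subgroup G) := P.2.to_sup_of_normal_left'
        (IsPGroup.of_card (n := j) (by rw [Nat.card_zpowers, hy'o])) hle
      rw [← P.3 hps le_sup_left]
      exact mem_sup_right (mem_zpowers y')
    have hdv : cl y' ∣ cl v := by
      refine index_dvd_of_le ?_
      show C ≤ centralizer ({y'} : Set G)
      rw [← hPLC]
      exact sup_le (fun x hx => mem_cent.mpr (hy'P x hx)) fun l hl => mem_cent.mpr (hPL y' hy'mem l hl).symm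
    have hy1 : cl y' ≠ 1 := fun e => hnc (by rw [← hyc, e]; exact Nat.coprime_one_right _)
    have hy'O := (hinO y' j hy'o ((hy'P u' ha).symm) hy1 hdv).2
    refine hyO ?_
    have := (Cfsg.pCore_normal p G).conj_mem y' hy'O g
    simpa [hy', mul_assoc] using this
  set O := Cfsg.pCore p G with hO
  have hOp : IsPGroup p O := Cores.pCore_isPGroup p G
  haveI hOn : O.Normal := Cfsg.pCore_normal p G
  have hOP : O ≤ (P : Subgroup G) := Cores.pCore_le_sylow P
  -- every prime `r ≠ p` outside `cl v` has a Sylow subgroup inside `L`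
  have hPLi : ((P : Subgroup G) ⊔ L).index = cl v := by rw [hPLC]; rfl
  by_cases hPO : (P : Subgroup G) ≤ O
  swap
  · set π := QuotientGroup.mk' O with hπ
    have hne : (P : Subgroup G).map π ≠ ⊥ := fun e => hPO fun x hx =>
      (QuotientGroup.eq_one_iff x).mp (mem_bot.mp (e ▸ ⟨x, hx, rfl⟩ : π x ∈ (⊥ : Subgroup _)))
    haveI : Nontrivial ((P : Subgroup G).map π) := (nontrivial_iff_ne_bot _).mpr hne
    haveI := IsPGroup.center_nontrivial (P.2.map π)
    obtain ⟨⟨⟨yb, y, hyP, hyb⟩, hcen⟩, hne1'⟩ := exists_ne (1 : center ((P : Subgroup G).map π))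
    subst hyb
    have hyO : y ∉ O := fun h => hne1' (Subtype.ext (Subtype.ext ((QuotientGroup.eq_one_iff y).mpr h)))
    obtain ⟨j, hj⟩ := IsPGroup.iff_orderOf.mp P.2 ⟨y, hyP⟩
    rw [Subgroup.orderOf_mk] at hj
    have hyv := hout y j hj hyO
    have hPle : (P : Subgroup G).map π ≤ centralizer ({π y} : Set (G ⧸ O)) := fun x hx =>
      mem_cent.mpr (congrArg Subtype.val (mem_center_iff.mp hcen ⟨x, hx⟩))
    have htop : centralizer ({π y} : Set (G ⧸ O)) = ⊤ := by
      rw [← index_eq_one]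
      by_contra hne'
      obtain ⟨r, hr, hrd⟩ := Nat.exists_prime_and_dvd hne'
      by_cases hrp : r = p
      · subst hrp
        exact P.not_dvd_index ((hrd.trans (index_dvd_of_le hPle)).trans
          (index_map_dvd _ (QuotientGroup.mk'_surjective O)))
      have h1 : (centralizer ({π y} : Set (G ⧸ O))).index ∣ cl y := by
        refine (index_dvd_of_le (H := (centralizer ({y} : Set G)).map π) ?_).trans
          (index_map_dvd _ (QuotientGroup.mk'_surjective O))
        rintro _ ⟨x, hx, rfl⟩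
        exact mem_cent.mpr (by rw [← map_mul, ← map_mul, mem_cent.mp hx])
      have h2 : (centralizer ({π y} : Set (G ⧸ O))).index ∣ cl v := by
        rw [← hPLi]
        refine (index_dvd_of_le (H := ((P : Subgroup G) ⊔ L).map π) ?_).trans
          (index_map_dvd _ (QuotientGroup.mk'_surjective O))
        rw [Subgroup.map_sup]
        refine sup_le hPle ?_
        rintro _ ⟨l, hl, rfl⟩
        exact mem_cent.mpr (by rw [← map_mul, ← map_mul, hPL y hyP l hl])
      exact hr.ne_one (Nat.eq_one_of_dvd_coprimes hyv (hrd.trans h2) (hrd.trans h1))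
    have hzc : π y ∈ center (G ⧸ O) := mem_center_iff.mpr fun x => mem_cent.mp (htop ▸ mem_top x)
    haveI : (zpowers (π y)).Normal := ⟨fun n hn g => by
      have : n ∈ center (G ⧸ O) := zpowers_le.mpr hzc hn
      rwa [mem_center_iff.mp this g, mul_inv_cancel_right]⟩
    have hle : zpowers (π y) ≤ Cfsg.pCore p (G ⧸ O) := Cores.le_pCore inferInstance
      ((P.2.map π).to_le (zpowers_le.mpr ⟨y, hyP, rfl⟩))
    have hbot : Cfsg.pCore p (G ⧸ O) = ⊥ := Cores.pCore_quotient_pCore p G
    rw [hbot] at hle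
    exact hyO ((QuotientGroup.eq_one_iff y).mp (mem_bot.mp (hle (mem_zpowers _))))
  -- the Sylow subgroup is normal
  have hPn : (P : Subgroup G).Normal := le_antisymm hOP hPO ▸ hOn
  clear hOn
  have hOn : (P : Subgroup G).Normal := hPn
  haveI := hOn
  haveI : Group.IsNilpotent ↥(P : Subgroup G) := P.2.isNilpotent
  set F := frattini ↥(P : Subgroup G) with hF
  have hcong : ∀ o : (P : Subgroup G), o ∉ center ↥(P : Subgroup G) → ∀ g : G,
      (MulAut.conjNormal g o : (P : Subgroup G)) * o⁻¹ ∈ F := by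
    intro o ho g
    obtain ⟨j, hj⟩ := IsPGroup.iff_orderOf.mp P.2 o
    have hoj : orderOf (o : G) = p ^ j := by rw [orderOf_coe, hj]
    have hpo : p ∣ cl (o : G) := by
      by_contra hpo
      obtain ⟨T2⟩ : Nonempty (Sylow p (centralizer ({(o : G)} : Set G))) := inferInstance
      have hT2 : ¬ p ∣ ((T2 : Subgroup (centralizer ({(o : G)} : Set G))).map (centralizer ({(o : G)} : Set G)).subtype).index := by
        rw [index_map_subtype]
        exact fun hd => ((Nat.Prime.dvd_mul hp.out).mp hd).elim T2.not_dvd_index hpo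
      let P2 : Sylow p G := (T2.2.map (centralizer ({(o : G)} : Set G)).subtype).toSylow hT2
      haveI : Subsingleton (Sylow p G) := @Unique.instSubsingleton _ (_root_.Sylow.unique_of_normal P hOn)
      refine ho (mem_center_iff.mpr fun x => Subtype.ext ?_)
      obtain ⟨w, -, hw⟩ : (x : G) ∈ (P2 : Subgroup G) := by rw [Subsingleton.elim P2 P]; exact x.2
      have h2 : w.1 * (o : G) = o * w.1 := mem_cent.mp w.2
      rw [show w.1 = (x : G) from hw] at h2
      exact h2
    have hj0 : j ≠ 0 := fun e => ho (by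
      rw [e, pow_zero, orderOf_eq_one_iff] at hj
      rw [hj]; exact one_mem _)
    have hvo := hsep (o : G) (hoj ▸ dvd_pow_self p hj0) hpo
    have htop : centralizer ({(o : G)} : Set G) ⊔ (P : Subgroup G) = ⊤ := by
      rw [← index_eq_one]
      refine Nat.eq_one_of_dvd_coprimes hvo.symm (index_dvd_of_le le_sup_left) ?_
      rw [← hPLi]
      exact index_dvd_of_le (sup_le le_sup_right ((fun l hl => mem_sup_left (mem_cent.mpr (hPL o o.2 l hl).symm)) : L ≤ _))
    obtain ⟨c, hc, w, hw, rfl⟩ := mem_sup_of_normal_right.mp (htop ▸ mem_top g)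
    have e : (MulAut.conjNormal (c * w) o : (P : Subgroup G)) * o⁻¹ =
        ⟨c * (w * (o : G) * w⁻¹ * (o : G)⁻¹) * c⁻¹, hOn.conj_mem _
          (mul_mem (mul_mem (mul_mem hw o.2) (inv_mem hw)) (inv_mem o.2)) c⟩ := by
      apply Subtype.ext
      simp only [Subgroup.coe_mul, Subgroup.coe_inv, MulAut.conjNormal_apply]
      have h1 : c * (o : G) * c⁻¹ = o := by rw [mem_cent.mp hc, mul_inv_cancel_right]
      calc c * w * (o : G) * (c * w)⁻¹ * (o : G)⁻¹
          = c * (w * (o : G) * w⁻¹ * (o : G)⁻¹) * c⁻¹ * ((c * (o : G) * c⁻¹) * (o : G)⁻¹) := by group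
        _ = _ := by rw [h1, mul_inv_cancel, mul_one]
    rw [e]
    have hcom : ⁅(⟨w, hw⟩ : (P : Subgroup G)), o⁆ ∈ F :=
      Cores.commutator_le_frattini (commutator_mem_commutator (mem_top _) (mem_top _))
    have := (characteristic_iff_map_eq.mp (inferInstance : F.Characteristic) (MulAut.conjNormal c)).le
      ⟨_, hcom, rfl⟩
    exact this
  have hall : ∀ z : (P : Subgroup G), ∀ g : G, (MulAut.conjNormal g z : (P : Subgroup G)) * z⁻¹ ∈ F := by
    intro z g
    by_cases hzc : z ∈ center ↥(P : Subgroup G)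
    swap
    · exact hcong z hzc g
    have hunc : (⟨u', ha⟩ : (P : Subgroup G)) ∉ center ↥(P : Subgroup G) := fun h => by
      refine P.not_dvd_index (hpu.trans (index_dvd_of_le fun x hx => ?_))
      exact mem_cent.mpr (congrArg Subtype.val (mem_center_iff.mp h ⟨x, hx⟩))
    set o : (P : Subgroup G) := ⟨u', ha⟩
    have hzo : z * o ∉ center ↥(P : Subgroup G) := fun h => hunc (by
      simpa using mul_mem (inv_mem hzc) h)
    have h1 := hcong _ hzo g
    have h2 := hcong o hunc g
    rw [map_mul, mul_inv_rev] at h1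
    have h3 := mul_mem (inv_mem ((inferInstance : F.Normal).conj_mem _ h2 (MulAut.conjNormal g z))) h1
    simpa [mul_assoc] using h3
  refine hne1 v hv (cl_eq_one.mpr ?_)
  have hCtop : C = ⊤ := eq_top_iff.mpr fun g _ => mem_of_parts C g fun n q k hq hn => by
    by_cases hqp : q = p
    · subst hqp
      obtain ⟨R, hR⟩ := (IsPGroup.of_card (n := k) (by rw [Nat.card_zpowers, hn]) :
        IsPGroup q (zpowers (g ^ n))).exists_le_sylow
      haveI : Subsingleton (Sylow q G) := @Unique.instSubsingleton _ (_root_.Sylow.unique_of_normal P hOn)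
      exact hPC (Subsingleton.elim R P ▸ hR (mem_zpowers _))
    have hco : (Nat.card (zpowers (g ^ n))).Coprime (Nat.card F) := by
      obtain ⟨i, hi⟩ := (P.2.to_subgroup F).exists_card_eq
      rw [Nat.card_zpowers, hn, hi]
      exact Nat.Coprime.pow _ _ ((Nat.coprime_primes hq hp.out).mpr hqp)
    have hcen := Coprime.le_centralizer_of_frattini hco fun b _ x hx =>
      ⟨(MulAut.conjNormal b ⟨x, hx⟩ : (P : Subgroup G)) * ⟨x, hx⟩⁻¹, hall ⟨x, hx⟩ b, by simp⟩
    have hvP : v ∈ (P : Subgroup G) := by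
      obtain ⟨R, hR⟩ := (IsPGroup.of_card (n := 1) (by rw [Nat.card_zpowers, hv, pow_one]) :
        IsPGroup p (zpowers v)).exists_le_sylow
      haveI : Subsingleton (Sylow p G) := @Unique.instSubsingleton _ (_root_.Sylow.unique_of_normal P hOn)
      exact Subsingleton.elim R P ▸ hR (mem_zpowers _)
    exact mem_cent.mpr (mem_centralizer_iff.mp (hcen (mem_zpowers _)) v hvP).symm
  exact mem_center_iff.mpr fun x => mem_cent.mp (show x ∈ C by rw [hCtop]; exact mem_top x)


/-- Let `G` be a finite group and `p` a prime not dividing the order of the centre of `G`. Consider the primes dividing the size of some conjugacy class of a `p`-singular element (an element of order divisible by `p`), two of them adjacent when their product divides such a class size. Then any two distinct such primes are joined by a path with at most 3 edges (the graph is connected of diameter at most 3). -/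
theorem result {G : Type*} [Group G] [Finite G] (p : ℕ) [Fact p.Prime]
    (hZ : ¬ p ∣ Nat.card ↥(Subgroup.center G)) (r s : ℕ) (hr : (r.Prime ∧ ∃ x : G, p ∣ orderOf x ∧ r ∣ (Subgroup.centralizer ({x} : Set G)).index)) (hs : (s.Prime ∧ ∃ x : G, p ∣ orderOf x ∧ s ∣ (Subgroup.centralizer ({x} : Set G)).index)) (hrs : r ≠ s) :
    (∃ x : G, p ∣ orderOf x ∧ r * s ∣ (Subgroup.centralizer ({x} : Set G)).index) ∨ (∃ t : ℕ, (t.Prime ∧ ∃ x : G, p ∣ orderOf x ∧ t ∣ (Subgroup.centralizer ({x} : Set G)).index) ∧ t ≠ r ∧ t ≠ s ∧ (∃ x : G, p ∣ orderOf x ∧ r * t ∣ (Subgroup.centralizer ({x} : Set G)).index) ∧ (∃ x : G, p ∣ orderOf x ∧ t * s ∣ (Subgroup.centralizer ({x} : Set G)).index)) ∨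
      (∃ t u : ℕ, (t.Prime ∧ ∃ x : G, p ∣ orderOf x ∧ t ∣ (Subgroup.centralizer ({x} : Set G)).index) ∧ (u.Prime ∧ ∃ x : G, p ∣ orderOf x ∧ u ∣ (Subgroup.centralizer ({x} : Set G)).index) ∧ t ≠ r ∧ u ≠ s ∧ t ≠ u ∧ (∃ x : G, p ∣ orderOf x ∧ r * t ∣ (Subgroup.centralizer ({x} : Set G)).index) ∧ (∃ x : G, p ∣ orderOf x ∧ t * u ∣ (Subgroup.centralizer ({x} : Set G)).index) ∧ (∃ x : G, p ∣ orderOf x ∧ u * s ∣ (Subgroup.centralizer ({x} : Set G)).index)) := by
  obtain ⟨hrp, x, hpx, hrx⟩ := hr
  obtain ⟨hsp, y, hpy, hsy⟩ := hs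
  have hordp : ∀ x : G, p ∣ orderOf x → ∃ n, orderOf (x ^ n) = p ∧ cl (x ^ n) ∣ cl x := fun x hx =>
    ⟨orderOf x / p, orderOf_pow_orderOf_div (orderOf_pos x).ne' hx, cl_pow_dvd _ _⟩
  obtain ⟨m, hm, hmd⟩ := hordp x hpx
  obtain ⟨n, hn, hnd⟩ := hordp y hpy
  obtain ⟨z, hzp, hzu, hzv⟩ := link hZ _ _ hm hn
  obtain ⟨a, ha, hau, haz⟩ := Nat.Prime.not_coprime_iff_dvd.mp hzu
  obtain ⟨b, hb, hbv, hbz⟩ := Nat.Prime.not_coprime_iff_dvd.mp hzv
  set R : ℕ → ℕ → Prop := fun a b => a.Prime ∧ b.Prime ∧ ∃ x : G, p ∣ orderOf x ∧ a * b ∣ cl x with hR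
  have hsym : ∀ a b, R a b → R b a := fun a b ⟨ha, hb, g, hg, hd⟩ => ⟨hb, ha, g, hg, mul_comm a b ▸ hd⟩
  have hadj : ∀ a b : ℕ, a.Prime → b.Prime → ∀ g : G, p ∣ orderOf g → a ∣ cl g → b ∣ cl g → a = b ∨ R a b := by
    intro a b ha hb g hg h1 h2
    by_cases h : a = b
    · exact Or.inl h
    · exact Or.inr ⟨ha, hb, g, hg, ((Nat.coprime_primes ha hb).mpr h).mul_dvd_of_dvd_of_dvd h1 h2⟩
  rcases path_of_walk R hsym hrs (hadj r a hrp ha x hpx hrx (hau.trans hmd)) (hadj a b ha hb z hzp haz hbz)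
      (hadj b s hb hsp y hpy (hbv.trans hnd) hsy) with ⟨-, -, g, hg⟩ | ⟨t, h1, h2, ⟨-, ht, g, hg, hd⟩, ⟨-, -, g', hg'⟩⟩ |
      ⟨t, w, h1, h2, h3, h4, h5, ⟨-, ht, g, hg, hd⟩, ⟨-, hw, g', hg', hd'⟩, ⟨-, -, g'', hg''⟩⟩
  · exact Or.inl ⟨g, hg⟩
  · exact Or.inr (Or.inl ⟨t, ⟨ht, g, hg, (dvd_mul_left t r).trans hd⟩, h1, h2, ⟨g, hg, hd⟩, ⟨g', hg'⟩⟩)
  · exact Or.inr (Or.inr ⟨t, w, ⟨ht, g, hg, (dvd_mul_left t r).trans hd⟩, ⟨hw, g', hg', (dvd_mul_left w t).trans hd'⟩,
      h1, h2, h3, ⟨g, hg, hd⟩, ⟨g', hg', hd'⟩, ⟨g'', hg''⟩⟩)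

end Cfsg.Agent.S4321
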