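import Cfsg.Statements.S4325
import Mathlib

set_option autoImplicit false
open Cfsg

namespace Cfsg.Agent.S4325


theorem card_le_of_transitive {r m : ℕ} (t : Fin m → Equiv.Perm (Fin r)) (ht : ∀ i, (t i).IsSwap)
    (htr : ∀ a b : Fin r, ∃ h ∈ Subgroup.closure (Set.range t), h a = b) : r ≤ m + 1 := by
  classical
  rcases Nat.eq_zero_or_pos r with h0 | hrpos
  · omega
  choose u v huv hts using ht
  let E : Set (Sym2 (Fin r)) := Set.range (fun i => s(u i, v i))
  let Γ : SimpleGraph (Fin r) := SimpleGraph.fromEdgeSet E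
  have hadj : ∀ i x, Γ.Reachable x (t i x) := by
    intro i x
    rw [hts i]
    by_cases h : Equiv.swap (u i) (v i) x = x
    · rw [h]
    refine SimpleGraph.Adj.reachable ?_
    rw [SimpleGraph.fromEdgeSet_adj]
    refine ⟨⟨i, ?_⟩, Ne.symm h⟩
    rcases Equiv.swap_apply_ne_self_iff.mp h with ⟨-, rfl | rfl⟩
    · simp [Equiv.swap_apply_left]
    · simp [Equiv.swap_apply_right, Sym2.eq_swap]
  have hre : ∀ h ∈ Subgroup.closure (Set.range t), ∀ x, Γ.Reachable x (h x) := by
    intro h hh
    induction hh using Subgroup.closure_induction with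
    | mem w hw => obtain ⟨i, rfl⟩ := hw; exact hadj i
    | one => exact fun x => SimpleGraph.Reachable.refl _
    | mul a b _ _ iha ihb => exact fun x => (ihb x).trans (iha (b x))
    | inv a _ iha => intro x; simpa using (iha (a⁻¹ x)).symm
  haveI : Nonempty (Fin r) := ⟨⟨0, hrpos⟩⟩
  have hconn : Γ.Connected := ⟨fun a b => by
    obtain ⟨h, hh, hab⟩ := htr a b
    exact hab ▸ hre h hh a⟩
  have h1 := hconn.card_vert_le_card_edgeSet_add_one
  have h2 : Γ.edgeSet.ncard ≤ E.ncard := Set.ncard_le_ncard (by simp [Γ]) (Set.toFinite _)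
  have h3 : E.ncard ≤ m := by
    have : E = (fun i => s(u i, v i)) '' Set.univ := (Set.image_univ).symm
    rw [this]
    exact (Set.ncard_image_le Set.finite_univ).trans (by simp)
  rw [Nat.card_fin, Nat.card_coe_set_eq] at h1
  omega


/-- Let r be a prime and m a natural number with m + 1 < r, and let π be a set of primes containing every prime below r but not r itself. Then in the symmetric group of degree r any m transpositions generate a π-subgroup, while O_π of the symmetric group is trivial. (So no bound on the number of conjugates that works for all π exists in the π-radical analogue of the Baer–Suzuki Theorem.) -/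
theorem result (r m : ℕ) (hr : r.Prime)
    (hm : m + 1 < r) (π : Set ℕ) (hπ : ∀ q : ℕ, q.Prime → q < r → q ∈ π) (hrπ : r ∉ π)
    (t : Fin m → Equiv.Perm (Fin r)) (ht : ∀ i, (t i).IsSwap) :
    Cfsg.IsPiSubgroup π (Subgroup.closure (Set.range t)) ∧ Cfsg.piCore π (Equiv.Perm (Fin r)) = ⊥ := by

  classical
  haveI := Fact.mk hr
  constructor
  · intro q hq hqd
    have h1 : q ∣ r.factorial := by
      exact hqd.trans ((Subgroup.card_subgroup_dvd_card _).trans (by simp [Nat.card_eq_fintype_card, Fintype.card_perm]))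
    rcases lt_or_eq_of_le ((hq.dvd_factorial).mp h1) with h | rfl
    · exact hπ q hq h
    exfalso
    obtain ⟨g, hg⟩ := exists_prime_orderOf_dvd_card' q hqd
    have hg' : orderOf (g : Equiv.Perm (Fin q)) = q := by rwa [Subgroup.orderOf_coe]
    have hcyc : (g : Equiv.Perm (Fin q)).IsCycle := by
      apply Equiv.Perm.isCycle_of_prime_order
      · rw [hg']; exact hr
      · rw [hg']
        have := Finset.card_le_univ (g : Equiv.Perm (Fin q)).support
        rw [Fintype.card_fin] at this
        have := hr.pos
        omega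
    have hsupp : (g : Equiv.Perm (Fin q)).support = Finset.univ := by
      apply Finset.eq_univ_of_card
      rw [← hcyc.orderOf, hg', Fintype.card_fin]
    have hle := card_le_of_transitive t ht fun a b => by
      obtain ⟨i, hi⟩ := hcyc.exists_zpow_eq (x := a) (y := b)
        (Equiv.Perm.mem_support.mp (hsupp ▸ Finset.mem_univ a))
        (Equiv.Perm.mem_support.mp (hsupp ▸ Finset.mem_univ b))
      exact ⟨_, Subgroup.zpow_mem _ g.2 i, hi⟩
    omega
  · rw [eq_bot_iff]
    refine sSup_le fun N hN => ?_
    obtain ⟨hNn, hNπ⟩ := hN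
    intro n hn
    rw [Subgroup.mem_bot]
    by_contra hne
    obtain ⟨a, ha⟩ : ∃ a, n a ≠ a := by
      by_contra h
      push Not at h
      exact hne (Equiv.ext h)
    have htr : ∀ b : Fin r, ∃ x ∈ N, x a = b := by
      intro b
      by_cases hb : b = a
      · exact ⟨1, N.one_mem, by simp [hb]⟩
      refine ⟨Equiv.swap (n a) b * n * (Equiv.swap (n a) b)⁻¹, hNn.conj_mem n hn _, ?_⟩
      simp [Equiv.swap_apply_of_ne_of_ne (Ne.symm ha) (Ne.symm hb)]
    have hdvd : r ∣ Nat.card N := by
      haveI : MulAction.IsPretransitive N (Fin r) := ⟨fun x y => by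
        obtain ⟨g, hg, hgx⟩ := htr x
        obtain ⟨g', hg', hgy⟩ := htr y
        refine ⟨⟨g' * g⁻¹, N.mul_mem hg' (N.inv_mem hg)⟩, ?_⟩
        show (g' * g⁻¹) x = y
        simp [← hgx, hgy]⟩
      have h := MulAction.index_stabilizer_of_transitive N a
      rw [Nat.card_fin] at h
      exact (dvd_of_eq h.symm).trans (Subgroup.index_dvd_card _)
    exact hrπ (hNπ r hr hdvd)

end Cfsg.Agent.S4325
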