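import Cfsg.Statements.S4326

set_option autoImplicit false
open Pointwise
open Cfsg

namespace Cfsg.Agent.S4326

/-- Let G be a finite group, p a prime, x an automorphism of G of p-power order and M the subgroup of fixed points of x. Suppose that p divides the index of M and that either M is self-normalizing or M has trivial center. Then some conjugate of M is mapped onto itself by x but is not fixed elementwise by x. -/
theorem result {G : Type*} [Group G] [Finite G]
    (p : ℕ) [Fact p.Prime] (x : MulAut G) (hx : ∃ k : ℕ, orderOf x = p ^ k) (M : Subgroup G)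
    (hM : ∀ g : G, g ∈ M ↔ x g = g) (hp : p ∣ M.index)
    (hself : Subgroup.normalizer (M : Set G) = M ∨ Subgroup.center M = ⊥) :
    ∃ g : G, (∀ y ∈ MulAut.conj g • M, x y ∈ MulAut.conj g • M) ∧ ∃ y ∈ MulAut.conj g • M, x y ≠ y := by
  classical
  haveI : Fintype (G ⧸ M) := Fintype.ofFinite _
  -- the group generated by `x` acts on the cosets of `M`
  let X := Subgroup.zpowers x
  have hfixX : ∀ y : X, ∀ g : G, g ∈ M → (y : MulAut G) g = g := by
    intro y g hg
    have hx1 : x ∈ MulAction.stabilizer (MulAut G) g := (hM g).mp hg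
    exact Subgroup.zpowers_le.mpr hx1 y.2
  letI : MulAction X (G ⧸ M) :=
    { smul := fun y => Quotient.map' (fun g => (y : MulAut G) g) (fun a b hab => by
        rw [QuotientGroup.leftRel_apply] at hab ⊢
        rw [← map_inv, ← map_mul, hfixX y _ hab]
        exact hab)
      one_smul := fun q => Quotient.inductionOn' q fun g => rfl
      mul_smul := fun y z q => Quotient.inductionOn' q fun g => rfl }
  obtain ⟨k, hk⟩ := hx
  have hP : IsPGroup p X := IsPGroup.of_card (n := k) (by rw [Nat.card_zpowers, hk])
  have hpd : p ∣ Nat.card (G ⧸ M) := hp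
  have h1 : ((1 : G) : G ⧸ M) ∈ MulAction.fixedPoints X (G ⧸ M) := by
    intro y
    show ((( y : MulAut G) 1 : G) : G ⧸ M) = _
    rw [map_one]
  obtain ⟨q, hq, hq1⟩ := hP.exists_fixed_point_of_prime_dvd_card_of_fixed_point (G ⧸ M) hpd h1
  induction q using QuotientGroup.induction_on with
  | H g =>
    have hgM : g ∉ M := fun h => hq1 (by rw [QuotientGroup.eq]; simpa using h)
    have hxg : g⁻¹ * x g ∈ M := by
      have := hq ⟨x, Subgroup.mem_zpowers x⟩
      have e : ((x g : G) : G ⧸ M) = (g : G ⧸ M) := this
      rw [QuotientGroup.eq] at e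
      simpa using inv_mem e
    refine ⟨g, ?_, ?_⟩
    · intro y hy
      rw [Subgroup.mem_pointwise_smul_iff_inv_smul_mem] at hy ⊢
      have hy' : g⁻¹ * y * g ∈ M := by simpa [MulAut.smul_def] using hy
      have hfix := (hM _).mp hy'
      have : g⁻¹ * x y * g = (g⁻¹ * x g) * (g⁻¹ * y * g) * (g⁻¹ * x g)⁻¹ := by
        calc g⁻¹ * x y * g = (g⁻¹ * x g) * (x (g⁻¹ * y * g)) * (g⁻¹ * x g)⁻¹ := by
              simp [mul_assoc]
          _ = _ := by rw [hfix]
      simp only [MulAut.smul_def, MulAut.conj_symm_apply, MulAut.inv_def]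
      rw [this]
      exact mul_mem (mul_mem hxg hy') (inv_mem hxg)
    · by_contra hc
      push Not at hc
      have hle : ∀ m ∈ M, g * m * g⁻¹ ∈ M := fun m hm =>
        (hM _).mpr (hc _ ⟨m, hm, rfl⟩)
      rcases hself with h | h
      · refine hgM ?_
        rw [← h, Subgroup.mem_normalizer_iff]
        intro m
        refine ⟨hle m, fun hm => ?_⟩
        have heq : M.map (MulAut.conj g).toMonoidHom = M :=
          Subgroup.eq_of_le_of_card_ge (by rintro _ ⟨a, ha, rfl⟩; exact hle a ha)
            (by rw [Subgroup.card_map_of_injective (MulAut.conj g).injective])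
        rw [← heq] at hm
        obtain ⟨a, ha, hae⟩ := hm
        have : a = m := by simpa using hae
        exact this ▸ ha
      · refine hgM ((hM g).mpr ?_)
        have hc' : (⟨g⁻¹ * x g, hxg⟩ : M) ∈ Subgroup.center M := by
          rw [Subgroup.mem_center_iff]
          intro m
          apply Subtype.ext
          have h2 := hc (g * (m : G) * g⁻¹) ⟨m, m.2, rfl⟩
          rw [map_mul, map_mul, (hM _).mp m.2, map_inv] at h2
          show (m : G) * (g⁻¹ * x g) = g⁻¹ * x g * (m : G)
          calc (m : G) * (g⁻¹ * x g) = g⁻¹ * (g * (m : G) * g⁻¹) * x g := by group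
            _ = g⁻¹ * (x g * (m : G) * (x g)⁻¹) * x g := by rw [h2]
            _ = g⁻¹ * x g * (m : G) := by group
        rw [h, Subgroup.mem_bot] at hc'
        have := congrArg Subtype.val hc'
        exact (inv_mul_eq_one.mp this).symm

end Cfsg.Agent.S4326
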