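import Cfsg.Statements.S4330
import Cfsg.Agent.Lib.FreeClass.Main
import Cfsg.Agent.Lib.Solvable.Carter
import Cfsg.Agent.Lib.Components.PComponent
import Cfsg.Agent.Lib.Components.Fitting

set_option autoImplicit false
open Pointwise
open Cfsg

namespace Cfsg.Agent.S4330

universe u

open Subgroup in
theorem main_aux {p : ℕ} [hpf : Fact p.Prime] (hp : p ≠ 2) : ∀ n : ℕ, ∀ (G : Type u) [Group G] [Finite G],
    Nat.card G = n → Group.IsSolvable G → ∀ (A : Subgroup G), IsPGroup p A →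
    (∀ c : G, ∃ g : G, IsConj c g ∧ (A.subgroupOf (A ⊔ MulAut.conj g • A)).IsSubnormal) →
    A ≤ Cfsg.pCore p G := by
  intro n
  induction n using Nat.strong_induction_on with
  | _ n ih =>
  intro G _ _ hn hG A hA h
  haveI := hG
  haveI hOn : (Cfsg.pCore p G).Normal := Subgroup.sSup_normal _ (fun _ h => h.1)
  have hOp : IsPGroup p (Cfsg.pCore p G) := Cfsg.Agent.Lib.Components.pCore_isPGroup p
  -- reduction to a quotient
  have hquot : ∀ V : Subgroup G, ∀ [V.Normal], V ≠ ⊥ →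
      A.map (QuotientGroup.mk' V) ≤ Cfsg.pCore p (G ⧸ V) := by
    intro V _ hV
    refine ih (Nat.card (G ⧸ V)) ?_ (G ⧸ V) rfl inferInstance _ (hA.map _) ?_
    · rw [← hn, Subgroup.card_eq_card_quotient_mul_card_subgroup V]
      exact lt_mul_of_one_lt_right Nat.card_pos (V.one_lt_card_iff_ne_bot.mpr hV)
    · intro c
      obtain ⟨c, rfl⟩ := QuotientGroup.mk'_surjective V c
      obtain ⟨g, hcg, hsn⟩ := h c
      refine ⟨QuotientGroup.mk' V g, (QuotientGroup.mk' V).map_isConj hcg, ?_⟩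
      set π := QuotientGroup.mk' V with hπ
      set J := A ⊔ MulAut.conj g • A with hJ
      have hJmap : A.map π ⊔ MulAut.conj (π g) • A.map π = J.map π := by
        rw [hJ, Subgroup.map_sup]
        congr 1
        ext x
        simp only [Subgroup.mem_map, Subgroup.mem_pointwise_smul_iff_inv_smul_mem, MulAut.smul_def]
        constructor
        · rintro ⟨y, hy, hyx⟩
          refine ⟨g * y * g⁻¹, by simpa [mul_assoc] using hy, ?_⟩
          simp at hyx ⊢
          rw [hyx]; group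
        · rintro ⟨y, hy, rfl⟩
          exact ⟨_, hy, by simp⟩
      rw [hJmap]
      have h1 := hsn.map (π.subgroupMap_surjective J)
      convert h1 using 1
      ext ⟨x, hx⟩
      simp only [Subgroup.mem_subgroupOf, Subgroup.mem_map]
      constructor
      · rintro ⟨y, hy, hyx⟩
        exact ⟨⟨y, le_sup_left (b := MulAut.conj g • A) hy⟩, hy, Subtype.ext hyx⟩
      · rintro ⟨⟨y, hyJ⟩, hy, hyx⟩
        exact ⟨y, hy, congrArg Subtype.val hyx⟩
  have hcomap : ∀ V : Subgroup G, ∀ [V.Normal], V ≠ ⊥ → IsPGroup p V → A ≤ Cfsg.pCore p G := by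
    intro V _ hV hVp
    have hRn : ((Cfsg.pCore p (G ⧸ V)).comap (QuotientGroup.mk' V)).Normal :=
      (Subgroup.sSup_normal _ (fun _ h => h.1) : (Cfsg.pCore p (G ⧸ V)).Normal).comap _
    have hRp : IsPGroup p ((Cfsg.pCore p (G ⧸ V)).comap (QuotientGroup.mk' V)) :=
      (Cfsg.Agent.Lib.Components.pCore_isPGroup p).comap_of_ker_isPGroup _ (by rw [QuotientGroup.ker_mk']; exact hVp)
    exact (Subgroup.map_le_iff_le_comap.mp (hquot V hV)).trans (le_sSup ⟨hRn, hRp⟩)
  by_cases hA1 : A = ⊥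
  · rw [hA1]; exact bot_le
  by_cases hO : Cfsg.pCore p G ≠ ⊥
  · exact hcomap _ hO hOp
  push Not at hO
  exfalso
  haveI : Nontrivial G := by
    obtain ⟨a, -, ha⟩ := (A.bot_or_exists_ne_one).resolve_left hA1
    exact ⟨⟨a, 1, ha⟩⟩
  obtain ⟨q, V, hq, hVn, hV1, hVab, hVq, hmin⟩ := Cfsg.Agent.Lib.Solvable.Carter.exists_minimal_normal (G := G)
  haveI := hVn
  haveI := Fact.mk hq
  have hqp : q ≠ p := fun e => hV1 (le_bot_iff.mp (hO ▸ le_sSup ⟨hVn, e ▸ hVq⟩))
  have hVcomm : ∀ x ∈ V, ∀ y ∈ V, x * y = y * x := fun x hx y hy =>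
    congrArg Subtype.val (hVab.is_comm.comm ⟨x, hx⟩ ⟨y, hy⟩)
  have hcop : (Nat.card V).Coprime p := by
    obtain ⟨k, hk⟩ := IsPGroup.iff_card.mp hVq
    rw [hk]; exact Nat.Coprime.pow_left _ ((Nat.coprime_primes hq hpf.out).mpr hqp)
  -- the normal subgroup `R`
  set R := (Cfsg.pCore p (G ⧸ V)).comap (QuotientGroup.mk' V) with hR
  haveI hRn : R.Normal := (Subgroup.sSup_normal _ (fun _ h => h.1) : (Cfsg.pCore p (G ⧸ V)).Normal).comap _
  have hAR : A ≤ R := Subgroup.map_le_iff_le_comap.mp (hquot V hV1)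
  have hVR : V ≤ R := fun v hv => by
    rw [hR, Subgroup.mem_comap, QuotientGroup.mk'_apply, (QuotientGroup.eq_one_iff v).mpr hv]; exact one_mem _
  obtain ⟨P0, hP0⟩ := (hA.comap_subtype (K := R)).exists_le_sylow
  set P := (P0 : Subgroup R).map R.subtype with hP
  have hPp : IsPGroup p P := P0.isPGroup'.map _
  have hPR : P ≤ R := Subgroup.map_subtype_le _
  have hAP : A ≤ P := fun a ha => ⟨⟨a, hAR ha⟩, hP0 ha, rfl⟩
  have hRPV : R ≤ P ⊔ V := by
    rw [← Subgroup.relIndex_eq_one]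
    have h1 : (P ⊔ V).relIndex R ∣ P.relIndex R := Subgroup.relIndex_dvd_of_le_left _ le_sup_left
    have h2 : (P ⊔ V).relIndex R ∣ V.relIndex R := Subgroup.relIndex_dvd_of_le_left _ le_sup_right
    have h3 : ¬ p ∣ P.relIndex R := by
      rw [Subgroup.relIndex, hP, Subgroup.subgroupOf,
        Subgroup.comap_map_eq_self_of_injective R.subtype_injective]
      exact P0.not_dvd_index
    obtain ⟨k, hk⟩ : ∃ k, V.relIndex R = p ^ k := by
      have h4 : IsPGroup p (R.map (QuotientGroup.mk' V)) :=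
        (Cfsg.Agent.Lib.Components.pCore_isPGroup p).to_le (Subgroup.map_comap_le _ _)
      obtain ⟨k, hk⟩ := IsPGroup.iff_card.mp h4
      refine ⟨k, ?_⟩
      rw [← hk, ← Subgroup.relIndex_ker, QuotientGroup.ker_mk']
    obtain ⟨i, -, hi⟩ := (Nat.dvd_prime_pow hpf.out).mp (hk ▸ h2)
    rcases Nat.eq_zero_or_pos i with rfl | hi0
    · simpa using hi
    · exact absurd ((dvd_pow_self p hi0.ne').trans (hi ▸ h1)) h3
  set N := Subgroup.normalizer (P : Set G) with hNdef
  have hPN : P ≤ N := Subgroup.le_normalizer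
  have hNV : (⊤ : Subgroup G) ≤ N ⊔ V := by
    have h1 := Sylow.normalizer_sup_eq_top P0
    rw [← h1]
    exact sup_le le_sup_left (hRPV.trans (sup_le (hPN.trans le_sup_left) le_sup_right))
  have hgen : ∀ K : Subgroup G, (∀ x ∈ N, ∀ k ∈ K, x * k * x⁻¹ ∈ K) → (∀ x ∈ V, ∀ k ∈ K, x * k * x⁻¹ ∈ K) →
      K.Normal := by
    intro K h1 h2
    refine Subgroup.normalizer_eq_top_iff.mp (top_le_iff.mp (hNV.trans (sup_le ?_ ?_)))
    · intro x hx
      rw [Subgroup.mem_normalizer_iff]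
      exact fun k => ⟨fun hk => h1 x hx k hk, fun hk => by
        simpa [mul_assoc] using h1 x⁻¹ (inv_mem hx) _ hk⟩
    · intro x hx
      rw [Subgroup.mem_normalizer_iff]
      exact fun k => ⟨fun hk => h2 x hx k hk, fun hk => by
        simpa [mul_assoc] using h2 x⁻¹ (inv_mem hx) _ hk⟩
  have hPnorm : ∀ x ∈ N, ∀ y ∈ P, x * y * x⁻¹ ∈ P := fun x hx y hy =>
    (Subgroup.mem_normalizer_iff.mp hx y).mp hy
  -- no element of `V` other than `1` centralises `P`
  have hVCP : ∀ v ∈ V, (∀ y ∈ P, v * y = y * v) → v = 1 := by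
    have hK : (V ⊓ Subgroup.centralizer (P : Set G)).Normal := by
      refine hgen _ (fun x hx k hk => ⟨hVn.conj_mem k hk.1 x, ?_⟩) (fun x hx k hk => ?_)
      · refine Subgroup.mem_centralizer_iff.mpr fun y hy => ?_
        have h1 := Subgroup.mem_centralizer_iff.mp hk.2 (x⁻¹ * y * x) (by simpa using hPnorm x⁻¹ (inv_mem hx) y hy)
        calc y * (x * k * x⁻¹) = x * ((x⁻¹ * y * x) * k) * x⁻¹ := by group
          _ = x * (k * (x⁻¹ * y * x)) * x⁻¹ := by rw [h1]
          _ = _ := by group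
      · rw [hVcomm x hx k hk.1, mul_inv_cancel_right]; exact hk
    rcases hmin _ hK inf_le_left with h1 | h1
    · intro v hv hc
      exact Subgroup.mem_bot.mp (h1 ▸ (⟨hv, Subgroup.mem_centralizer_iff.mpr fun y hy => (hc y hy).symm⟩ :
        v ∈ V ⊓ Subgroup.centralizer (P : Set G)))
    · exfalso
      have hPn : P.Normal := by
        refine hgen _ hPnorm fun x hx k hk => ?_
        rw [← Subgroup.mem_centralizer_iff.mp ((h1.ge hx).2) k hk, mul_inv_cancel_right]; exact hk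
      exact hA1 (le_bot_iff.mp (hO ▸ hAP.trans (le_sSup ⟨hPn, hPp⟩)))
  -- no element of `P` other than `1` centralises `V`
  have hPCV : ∀ y ∈ P, (∀ v ∈ V, y * v = v * y) → y = 1 := by
    have hK : (P ⊓ Subgroup.centralizer (V : Set G)).Normal := by
      refine hgen _ (fun x hx k hk => ⟨hPnorm x hx k hk.1, ?_⟩) (fun x hx k hk => ?_)
      · refine Subgroup.mem_centralizer_iff.mpr fun y hy => ?_
        have h1 := Subgroup.mem_centralizer_iff.mp hk.2 (x⁻¹ * y * x) (by simpa using hVn.conj_mem y hy x⁻¹)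
        calc y * (x * k * x⁻¹) = x * ((x⁻¹ * y * x) * k) * x⁻¹ := by group
          _ = x * (k * (x⁻¹ * y * x)) * x⁻¹ := by rw [h1]
          _ = _ := by group
      · rw [Subgroup.mem_centralizer_iff.mp hk.2 x hx, mul_inv_cancel_right]; exact hk
    intro y hy hc
    have h1 : P ⊓ Subgroup.centralizer (V : Set G) ≤ ⊥ :=
      hO ▸ le_sSup ⟨hK, hPp.to_le inf_le_left⟩
    exact Subgroup.mem_bot.mp (h1 ⟨hy, Subgroup.mem_centralizer_iff.mpr fun v hv => (hc v hv).symm⟩)
  -- an element of order `p`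
  obtain ⟨a, haA, hap, ha1⟩ : ∃ a ∈ A, a ^ p = 1 ∧ a ≠ 1 := by
    have hdvd : p ∣ Nat.card A := by
      obtain ⟨k, hk⟩ := IsPGroup.iff_card.mp hA
      rcases Nat.eq_zero_or_pos k with rfl | hk0
      · exact absurd (A.card_eq_one.mp (by simpa using hk)) hA1
      · rw [hk]; exact dvd_pow_self p hk0.ne'
    obtain ⟨x, hx⟩ := exists_prime_orderOf_dvd_card' p hdvd
    refine ⟨x, x.2, ?_, fun e => ?_⟩
    · rw [← Subgroup.coe_pow, ← hx, pow_orderOf_eq_one, Subgroup.coe_one]
    · rw [OneMemClass.coe_eq_one] at e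
      rw [e, orderOf_one] at hx
      exact hpf.out.ne_one hx.symm
  letI : CommGroup V := { (inferInstance : Group V) with mul_comm := fun x y => hVab.is_comm.comm x y }
  letI : MulDistribMulAction N V :=
    { smul := fun g v => ⟨(g : G) * v * (g : G)⁻¹, hVn.conj_mem v v.2 g⟩
      one_smul := fun v => Subtype.ext (show (1 : G) * v * (1 : G)⁻¹ = v by simp)
      mul_smul := fun g h v => Subtype.ext (show ((g : G) * h) * v * ((g : G) * h)⁻¹ = g * (h * v * (h : G)⁻¹) * (g : G)⁻¹ by group)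
      smul_mul := fun g v w => Subtype.ext (show (g : G) * (v * w) * (g : G)⁻¹ = (g * v * (g : G)⁻¹) * (g * w * (g : G)⁻¹) by group)
      smul_one := fun g => Subtype.ext (show (g : G) * 1 * (g : G)⁻¹ = 1 by group) }
  obtain ⟨v, hv⟩ := Cfsg.Agent.Lib.FreeClass.exists_moved (p := p) hp (Nat.card V) N V (P.subgroupOf N)
    ⟨a, hPN (hAP haA)⟩ rfl
    ⟨fun y hy x => hPnorm x x.2 y hy⟩ hPp.comap_subtype hcop (hAP haA) (Subtype.ext hap) (by
      by_contra hno
      push Not at hno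
      exact ha1 (hPCV a (hAP haA) fun v hv =>
        mul_inv_eq_iff_eq_mul.mp (congrArg Subtype.val (hno ⟨v, hv⟩))))
  -- the representative of the class of `v`
  obtain ⟨g, hcg, hsn⟩ := h v
  obtain ⟨x, hx⟩ := isConj_iff.mp hcg
  obtain ⟨m, hm, w, hw, hmw⟩ := Subgroup.mem_sup_of_normal_right.mp (hNV (Subgroup.mem_top x))
  have hg : g = m * v * m⁻¹ := by
    rw [← hx, ← hmw]
    calc m * w * v * (m * w)⁻¹ = m * (w * v * w⁻¹) * m⁻¹ := by group
      _ = _ := by rw [hVcomm w hw v v.2, mul_inv_cancel_right]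
  have hgV : g ∈ V := hg ▸ hVn.conj_mem v v.2 m
  have hag : a * g * a⁻¹ ≠ g := by
    intro e
    refine hv ⟨m⁻¹, inv_mem hm⟩ (Subtype.ext ?_)
    show (m⁻¹ * a * m⁻¹⁻¹) * (v : G) * (m⁻¹ * a * m⁻¹⁻¹)⁻¹ = v
    calc (m⁻¹ * a * m⁻¹⁻¹) * (v : G) * (m⁻¹ * a * m⁻¹⁻¹)⁻¹ = m⁻¹ * (a * (m * v * m⁻¹) * a⁻¹) * m := by group
      _ = m⁻¹ * g * m := by rw [← hg, e]
      _ = v := by rw [hg]; group
  set J := A ⊔ MulAut.conj g • A with hJ
  set c := a⁻¹ * g * a * g⁻¹ with hc
  have haJ : a ∈ J := le_sup_left (b := MulAut.conj g • A) haA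
  have hcJ : c ∈ J := by
    have h1 : g * a * g⁻¹ ∈ J := le_sup_right (a := A) (by
      simpa using Subgroup.smul_mem_pointwise_smul a (MulAut.conj g) A haA)
    have : c = a⁻¹ * (g * a * g⁻¹) := by rw [hc]; group
    rw [this]; exact mul_mem (inv_mem haJ) h1
  have hcV : c ∈ V := mul_mem (by simpa using hVn.conj_mem g hgV a⁻¹) (inv_mem hgV)
  have hac : a⁻¹ * c * a = c := by
    have hle : A.subgroupOf J ≤ Cfsg.pCore p J :=
      Cfsg.Agent.Lib.Components.le_pCore_of_subnormal hsn hA.comap_subtype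
    haveI : (Cfsg.pCore p J).Normal := Subgroup.sSup_normal _ (fun _ h => h.1)
    set a' : J := ⟨a, haJ⟩
    set c' : J := ⟨c, hcJ⟩
    have h1 : a'⁻¹ * c' * a' * c'⁻¹ ∈ Cfsg.pCore p J := by
      have ha' : a' ∈ Cfsg.pCore p J := hle haA
      rw [show a'⁻¹ * c' * a' * c'⁻¹ = a'⁻¹ * (c' * a' * c'⁻¹) by group]
      exact mul_mem (inv_mem ha') (Subgroup.Normal.conj_mem inferInstance a' ha' c')
    have h2 : a⁻¹ * c * a * c⁻¹ ∈ V := mul_mem (by simpa using hVn.conj_mem c hcV a⁻¹) (inv_mem hcV)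
    obtain ⟨k, hk⟩ := Cfsg.Agent.Lib.Components.pCore_isPGroup p ⟨_, h1⟩
    have h3 : (⟨_, h2⟩ : V) ^ p ^ k = 1 := Subtype.ext (congrArg (fun z : Cfsg.pCore p J => ((z : J) : G)) hk)
    have h4 := (Nat.Coprime.pow_left_bijective (hcop.pow_right k)).1 (h3.trans (one_pow (M := V) (p ^ k)).symm)
    exact mul_inv_eq_one.mp (congrArg Subtype.val h4)
  have hit : ∀ i : ℕ, (a ^ i)⁻¹ * g * a ^ i = c ^ i * g := by
    intro i
    induction i with
    | zero => simp
    | succ i hi =>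
      calc (a ^ (i + 1))⁻¹ * g * a ^ (i + 1) = a⁻¹ * ((a ^ i)⁻¹ * g * a ^ i) * a := by rw [pow_succ]; group
        _ = a⁻¹ * (c ^ i * g) * a := by rw [hi]
        _ = (a⁻¹ * c ^ i * a) * (c * g) := by rw [hc]; group
        _ = _ := by
          have h5 : a⁻¹ * c ^ i * a = c ^ i := by
            have := (conj_pow (i := i) (a := a⁻¹) (b := c)).symm
            rw [inv_inv, hac] at this
            exact this
          rw [h5, ← mul_assoc, ← pow_succ]
  have hcp : c ^ p = 1 := by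
    have := hit p
    rw [hap] at this
    simpa using this
  have hc1 : c = 1 := by
    have := (Nat.Coprime.pow_left_bijective hcop).1 (a₁ := (⟨c, hcV⟩ : V)) (a₂ := 1) (Subtype.ext (by simpa using hcp))
    exact congrArg Subtype.val this
  apply hag
  have h1 : g * a = a * g := by
    rw [hc] at hc1
    calc g * a = a * (a⁻¹ * g * a * g⁻¹) * g := by group
      _ = a * g := by rw [hc1, mul_one]
  rw [← h1, mul_inv_cancel_right]

/-- Let G be a finite solvable group, p an odd prime and A a p-subgroup of G such that every conjugacy class of G contains an element g for which A is subnormal in the subgroup generated by A and its conjugate by g. Then A is contained in O_p(G). (The hypothesis that p is odd is needed.) -/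
theorem result {G : Type*} [Group G] [Finite G]
    (hG : Group.IsSolvable G) (p : ℕ) [Fact p.Prime] (hp : p ≠ 2) (A : Subgroup G) (hA : IsPGroup p A)
    (h : ∀ c : G, ∃ g : G, IsConj c g ∧ (A.subgroupOf (A ⊔ MulAut.conj g • A)).IsSubnormal) :
    A ≤ Cfsg.pCore p G := by
  exact main_aux hp _ G rfl hG A hA h

end Cfsg.Agent.S4330
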