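import Cfsg.Statements.S4331
import Cfsg.Agent.Lib.PGroups.Subnormal
import Cfsg.Agent.Lib.Cores.PCore
import Mathlib

set_option autoImplicit false
open Cfsg

namespace Cfsg.Agent.S4331


def htab : Fin 16 → Fin 9 → Fin 9 :=
  ![![0, 1, 2, 3, 4, 5, 6, 7, 8],
    ![0, 1, 2, 6, 7, 8, 3, 4, 5],
    ![0, 2, 1, 3, 5, 4, 6, 8, 7],
    ![0, 2, 1, 6, 8, 7, 3, 5, 4],
    ![0, 3, 6, 1, 4, 7, 2, 5, 8],
    ![0, 3, 6, 2, 5, 8, 1, 4, 7],
    ![0, 4, 8, 5, 6, 1, 7, 2, 3],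
    ![0, 4, 8, 7, 2, 3, 5, 6, 1],
    ![0, 5, 7, 4, 6, 2, 8, 1, 3],
    ![0, 5, 7, 8, 1, 3, 4, 6, 2],
    ![0, 6, 3, 1, 7, 4, 2, 8, 5],
    ![0, 6, 3, 2, 8, 5, 1, 7, 4],
    ![0, 7, 5, 4, 2, 6, 8, 3, 1],
    ![0, 7, 5, 8, 3, 1, 4, 2, 6],
    ![0, 8, 4, 5, 1, 6, 7, 3, 2],
    ![0, 8, 4, 7, 3, 2, 5, 1, 6]]

def htabInv : Fin 16 → Fin 9 → Fin 9 :=
  ![![0, 1, 2, 3, 4, 5, 6, 7, 8],
    ![0, 1, 2, 6, 7, 8, 3, 4, 5],
    ![0, 2, 1, 3, 5, 4, 6, 8, 7],
    ![0, 2, 1, 6, 8, 7, 3, 5, 4],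
    ![0, 3, 6, 1, 4, 7, 2, 5, 8],
    ![0, 6, 3, 1, 7, 4, 2, 8, 5],
    ![0, 5, 7, 8, 1, 3, 4, 6, 2],
    ![0, 8, 4, 5, 1, 6, 7, 3, 2],
    ![0, 7, 5, 8, 3, 1, 4, 2, 6],
    ![0, 4, 8, 5, 6, 1, 7, 2, 3],
    ![0, 3, 6, 2, 5, 8, 1, 4, 7],
    ![0, 6, 3, 2, 8, 5, 1, 7, 4],
    ![0, 8, 4, 7, 3, 2, 5, 1, 6],
    ![0, 5, 7, 4, 6, 2, 8, 1, 3],
    ![0, 4, 8, 7, 2, 3, 5, 6, 1],
    ![0, 7, 5, 4, 2, 6, 8, 3, 1]]

theorem htab_left : ∀ k x, htabInv k (htab k x) = x := by decide +kernel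
theorem htab_right : ∀ k x, htab k (htabInv k x) = x := by decide +kernel

/-- the sixteen elements of the point stabilizer -/
def hp (k : Fin 16) : Equiv.Perm (Fin 9) := ⟨htab k, htabInv k, htab_left k, htab_right k⟩

def addPt (i x : Fin 9) : Fin 9 :=
  ⟨3 * ((i.val / 3 + x.val / 3) % 3) + (i.val % 3 + x.val % 3) % 3, by omega⟩

def negPt (i : Fin 9) : Fin 9 :=
  ⟨3 * ((3 - i.val / 3) % 3) + (3 - i.val % 3) % 3, by omega⟩

theorem addPt_left : ∀ i x, addPt (negPt i) (addPt i x) = x := by decide +kernel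
theorem addPt_right : ∀ i x, addPt i (addPt (negPt i) x) = x := by decide +kernel

/-- translations -/
def tr (i : Fin 9) : Equiv.Perm (Fin 9) := ⟨addPt i, addPt (negPt i), addPt_left i, addPt_right i⟩

theorem tr_mul : ∀ i j, tr i * tr j = tr (tr i j) := by decide +kernel
theorem hp_tr : ∀ k j, hp k * tr j = tr (hp k j) * hp k := by decide +kernel
theorem hp_mul : ∀ k l, ∃ m, hp k * hp l = hp m := by decide +kernel
theorem hp_zero : ∀ k, hp k 0 = 0 := by decide +kernel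
theorem tr_zero : ∀ i, tr i 0 = i := by decide +kernel
theorem one_eq : tr 0 * hp 0 = 1 ∧ hp 0 = 1 := by decide +kernel

theorem conj_into : ∀ i : Fin 9, ∀ k : Fin 16, ∃ j : Fin 9, ∃ l : Fin 16,
    ((tr j * hp l) * (tr i * hp k) * (tr j * hp l)⁻¹) 0 = 0 ∨
      (tr j * hp l) * (tr i * hp k) * (tr j * hp l)⁻¹ * hp 1 =
        hp 1 * ((tr j * hp l) * (tr i * hp k) * (tr j * hp l)⁻¹) := by decide +kernel

theorem inv_mem_of {α : Type*} [Group α] [Finite α] (S : Submonoid α) {x : α} (hx : x ∈ S) : x⁻¹ ∈ S := by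
  have h : x * x ^ (orderOf x - 1) = 1 := by
    rw [← pow_succ', Nat.sub_add_cancel (orderOf_pos x)]; exact pow_orderOf_eq_one x
  rw [inv_eq_of_mul_eq_one_right h]
  exact S.pow_mem hx _

def GM : Submonoid (Equiv.Perm (Fin 9)) where
  carrier := {σ | ∃ i k, σ = tr i * hp k}
  one_mem' := ⟨0, 0, one_eq.1.symm⟩
  mul_mem' := by
    rintro _ _ ⟨i, k, rfl⟩ ⟨j, l, rfl⟩
    obtain ⟨m, hm⟩ := hp_mul k l
    refine ⟨tr i (hp k j), m, ?_⟩
    calc tr i * hp k * (tr j * hp l) = tr i * (hp k * tr j) * hp l := by group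
      _ = tr i * tr (hp k j) * (hp k * hp l) := by rw [hp_tr]; group
      _ = _ := by rw [tr_mul, hm]

def GG : Subgroup (Equiv.Perm (Fin 9)) := { GM with inv_mem' := fun hx => inv_mem_of GM hx }

def PM : Submonoid (Equiv.Perm (Fin 9)) where
  carrier := Set.range hp
  one_mem' := ⟨0, one_eq.2⟩
  mul_mem' := by
    rintro _ _ ⟨k, rfl⟩ ⟨l, rfl⟩
    obtain ⟨m, hm⟩ := hp_mul k l
    exact ⟨m, hm.symm⟩

def PP : Subgroup (Equiv.Perm (Fin 9)) := { PM with inv_mem' := fun hx => inv_mem_of PM hx }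

theorem mem_GG {σ : Equiv.Perm (Fin 9)} (h : σ ∈ GG) : ∃ k, σ = tr (σ 0) * hp k := by
  obtain ⟨i, k, rfl⟩ := h
  exact ⟨k, by rw [Equiv.Perm.mul_apply, hp_zero, tr_zero]⟩

theorem mem_PP {σ : Equiv.Perm (Fin 9)} (h : σ ∈ GG) (h0 : σ 0 = 0) : σ ∈ PP := by
  obtain ⟨k, hk⟩ := mem_GG h
  refine ⟨k, ?_⟩
  rw [hk, h0]
  calc hp k = tr 0 * hp 0 * hp k := by rw [one_eq.1, one_mul]
    _ = tr 0 * hp k := by rw [one_eq.2, mul_one]

theorem card_PP : IsPGroup 2 PP := by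
  have hinj : Function.Injective hp := by
    show ∀ a b, hp a = hp b → a = b
    decide +kernel
  have hc : Nat.card PP = 2 ^ 4 := by
    rw [show Nat.card PP = Nat.card (Set.range hp) from rfl, Nat.card_range_of_injective hinj]
    simp
  exact IsPGroup.of_card hc

/-- linear part -/
def lin : GG →* Equiv.Perm (Fin 9) where
  toFun σ := (tr ((σ : Equiv.Perm (Fin 9)) 0))⁻¹ * σ
  map_one' := by
    show (tr 0)⁻¹ * 1 = 1
    rw [mul_one, inv_eq_one]
    have := one_eq.1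
    rwa [one_eq.2, mul_one] at this
  map_mul' a b := by
    obtain ⟨k, hk⟩ := mem_GG a.2
    obtain ⟨l, hl⟩ := mem_GG b.2
    have hab : ((a * b : GG) : Equiv.Perm (Fin 9)) 0 = tr ((a : Equiv.Perm (Fin 9)) 0) (hp k ((b : Equiv.Perm (Fin 9)) 0)) := by
      show (a : Equiv.Perm (Fin 9)) ((b : Equiv.Perm (Fin 9)) 0) = _
      conv_lhs => rw [hk]
      rfl
    rw [hab]
    rw [Subgroup.coe_mul]
    have ha' : (tr ((a : Equiv.Perm (Fin 9)) 0))⁻¹ * a = hp k := inv_mul_eq_iff_eq_mul.mpr hk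
    have hb' : (tr ((b : Equiv.Perm (Fin 9)) 0))⁻¹ * b = hp l := inv_mul_eq_iff_eq_mul.mpr hl
    rw [ha', hb', inv_mul_eq_iff_eq_mul]
    generalize (a : Equiv.Perm (Fin 9)) 0 = i at hk
    generalize (b : Equiv.Perm (Fin 9)) 0 = j at hl
    rw [hk, hl, ← tr_mul]
    calc tr i * hp k * (tr j * hp l) = tr i * (hp k * tr j) * hp l := by group
      _ = _ := by rw [hp_tr]; group

theorem solvable_GG : Group.IsSolvable GG := by
  haveI : Group.IsSolvable lin.ker := Group.isSolvable_of_comm (fun a b => by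
    have h : ∀ c : lin.ker, ((c : GG) : Equiv.Perm (Fin 9)) = tr (((c : GG) : Equiv.Perm (Fin 9)) 0) := by
      intro c
      have h1 : (tr (((c : GG) : Equiv.Perm (Fin 9)) 0))⁻¹ * ((c : GG) : Equiv.Perm (Fin 9)) = 1 := c.2
      exact (inv_mul_eq_one.mp h1).symm
    refine Subtype.ext (Subtype.ext ?_)
    show ((a : GG) : Equiv.Perm (Fin 9)) * (b : GG) = ((b : GG) : Equiv.Perm (Fin 9)) * (a : GG)
    rw [h a, h b]
    have hcomm : ∀ i j, tr i * tr j = tr j * tr i := by decide +kernel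
    exact hcomm _ _)
  haveI : Group.IsSolvable lin.range := by
    have hle : lin.range ≤ PP := by
      rintro _ ⟨a, rfl⟩
      obtain ⟨k, hk⟩ := mem_GG a.2
      exact ⟨k, (inv_mul_eq_iff_eq_mul.mpr hk).symm⟩
    haveI := (card_PP.to_le hle).isNilpotent
    infer_instance
  exact Group.isSolvable_of_ker_le_range lin.ker.subtype lin.rangeRestrict (by
    rw [MonoidHom.ker_rangeRestrict, Subgroup.range_subtype])


/-- There is a finite solvable group G with a subgroup A of order 2 such that every conjugacy class of G contains an element g for which A is subnormal in the subgroup generated by A and g, and yet A is not contained in O_2(G). (So the corresponding criteria for odd primes fail at the prime 2, even for solvable groups.) -/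
theorem result :
    ∃ (G : Type) (_ : Group G) (_ : Finite G) (A : Subgroup G), Group.IsSolvable G ∧ Nat.card A = 2 ∧
      (∀ c : G, ∃ g : G, IsConj c g ∧ (A.subgroupOf (A ⊔ Subgroup.zpowers g)).IsSubnormal) ∧
      ¬ A ≤ Cfsg.pCore 2 G := by

  classical
  have hrG : hp 1 ∈ GG := ⟨0, 1, by
    calc hp 1 = tr 0 * hp 0 * hp 1 := by rw [one_eq.1, one_mul]
      _ = tr 0 * hp 1 := by rw [one_eq.2, mul_one]⟩
  have htG : tr 3 ∈ GG := ⟨3, 0, by rw [one_eq.2, mul_one]⟩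
  let r : GG := ⟨hp 1, hrG⟩
  have hr2 : orderOf r = 2 := by
    refine orderOf_eq_prime (Subtype.ext ?_) (fun h => ?_)
    · show hp 1 ^ 2 = 1
      decide +kernel
    · have h1 : hp 1 = 1 := congrArg Subtype.val h
      revert h1
      decide +kernel
  refine ⟨GG, inferInstance, inferInstance, Subgroup.zpowers r, solvable_GG,
    by rw [Nat.card_zpowers, hr2], ?_, ?_⟩
  · intro c
    obtain ⟨i, k, hck⟩ := c.2
    obtain ⟨j, l, hjl⟩ := conj_into i k
    have hx : tr j * hp l ∈ GG := ⟨j, l, rfl⟩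
    refine ⟨⟨_, hx⟩ * c * (⟨_, hx⟩ : GG)⁻¹, isConj_iff.mpr ⟨⟨_, hx⟩, rfl⟩, ?_⟩
    set g : GG := ⟨_, hx⟩ * c * (⟨_, hx⟩ : GG)⁻¹ with hg
    have hgv : (g : Equiv.Perm (Fin 9)) = (tr j * hp l) * (tr i * hp k) * (tr j * hp l)⁻¹ := by
      simp [hg, hck]
    rw [← hgv] at hjl
    rcases hjl with h0 | hcomm
    · have hle : Subgroup.zpowers r ⊔ Subgroup.zpowers g ≤ PP.subgroupOf GG := by
        rw [sup_le_iff, Subgroup.zpowers_le, Subgroup.zpowers_le]
        exact ⟨Subgroup.mem_subgroupOf.mpr ⟨1, rfl⟩, Subgroup.mem_subgroupOf.mpr (mem_PP g.2 h0)⟩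
      have hp2 : IsPGroup 2 (PP.subgroupOf GG) :=
        card_PP.comap_of_injective GG.subtype GG.subtype_injective
      haveI := (hp2.to_le hle).isNilpotent
      exact Cfsg.Agent.Lib.PGroups.isSubnormal_of_isNilpotent _
    · have hc : Commute g r := Subtype.ext hcomm
      apply Subgroup.Normal.isSubnormal
      refine (Subgroup.normal_subgroupOf_iff_le_normalizer le_sup_left).mpr (sup_le Subgroup.le_normalizer ?_)
      rw [Subgroup.zpowers_le]
      apply Subgroup.centralizer_le_normalizer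
      rw [Subgroup.mem_centralizer_iff]
      rintro _ ⟨n, rfl⟩
      exact (hc.zpow_right n).symm.eq
  · intro hle
    have hp2 : IsPGroup 2 (Cfsg.pCore 2 GG) := Cfsg.Agent.Lib.Cores.pCore_isPGroup 2 GG
    have hr : r ∈ Cfsg.pCore 2 GG := hle (Subgroup.mem_zpowers r)
    let t : GG := ⟨tr 3, htG⟩
    haveI : (Cfsg.pCore 2 GG).Normal := Cfsg.pCore_normal 2 GG
    have hm : t * r * t⁻¹ * r ∈ Cfsg.pCore 2 GG :=
      Subgroup.mul_mem _ ((inferInstance : (Cfsg.pCore 2 GG).Normal).conj_mem r hr t) hr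
    obtain ⟨a, ha⟩ := (IsPGroup.iff_orderOf.mp hp2) ⟨_, hm⟩
    rw [← Subgroup.orderOf_coe, ← Subgroup.orderOf_coe] at ha
    have h3 : orderOf ((t * r * t⁻¹ * r : GG) : Equiv.Perm (Fin 9)) = 3 := by
      haveI := Fact.mk Nat.prime_three
      refine orderOf_eq_prime ?_ ?_
      · show (tr 3 * hp 1 * (tr 3)⁻¹ * hp 1) ^ 3 = 1
        decide +kernel
      · show (tr 3 * hp 1 * (tr 3)⁻¹ * hp 1) ≠ 1
        decide +kernel
    rw [h3] at ha
    have h4 : (3 : ℕ) ∣ 2 ^ a := ha ▸ dvd_rfl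
    have := Nat.prime_three.dvd_of_dvd_pow h4
    norm_num at this

end Cfsg.Agent.S4331
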