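import Cfsg.Statements.S4332
import Cfsg.Agent.Lib.Cores.PCore

set_option autoImplicit false
open Pointwise
open Cfsg

namespace Cfsg.Agent.S4332

/-- One representative of each conjugacy class, commuting well with `(0 1 2)`. -/
def reps : List (Equiv.Perm (Fin 8)) :=
  [ (1 : Equiv.Perm (Fin 8)),
    ([3,4] : List (Fin 8)).formPerm,
    ([3,4,5] : List (Fin 8)).formPerm,
    ([3,4,5,6] : List (Fin 8)).formPerm,
    ([3,4,5,6,7] : List (Fin 8)).formPerm,
    ([3,4] : List (Fin 8)).formPerm * ([5,6] : List (Fin 8)).formPerm,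
    ([3,4,5] : List (Fin 8)).formPerm * ([6,7] : List (Fin 8)).formPerm,
    ([0,1] : List (Fin 8)).formPerm * ([3,4] : List (Fin 8)).formPerm * ([5,6] : List (Fin 8)).formPerm,
    ([0,1,2] : List (Fin 8)).formPerm * ([3,4,5] : List (Fin 8)).formPerm,
    ([0,1] : List (Fin 8)).formPerm * ([3,4,5] : List (Fin 8)).formPerm * ([6,7] : List (Fin 8)).formPerm,
    ([3,4,5,6] : List (Fin 8)).formPerm * ([0,1] : List (Fin 8)).formPerm,
    ([0,1,2] : List (Fin 8)).formPerm * ([3,4,5] : List (Fin 8)).formPerm * ([6,7] : List (Fin 8)).formPerm,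
    ([0,1,2] : List (Fin 8)).formPerm * ([3,4,5,6] : List (Fin 8)).formPerm,
    ([3,4,5,6,7] : List (Fin 8)).formPerm * ([0,1] : List (Fin 8)).formPerm,
    ([3,4,5,6,7] : List (Fin 8)).formPerm * ([0,1,2] : List (Fin 8)).formPerm,
    ([0,3,1,4,2,5] : List (Fin 8)).formPerm,
    ([0,3,1,4,2,5,6] : List (Fin 8)).formPerm,
    ([0,3,1,4,2,5,6,7] : List (Fin 8)).formPerm,
    ([0,3] : List (Fin 8)).formPerm * ([1,4] : List (Fin 8)).formPerm * ([2,5] : List (Fin 8)).formPerm * ([6,7] : List (Fin 8)).formPerm,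
    ([0,3,1,4] : List (Fin 8)).formPerm * ([2,5,6,7] : List (Fin 8)).formPerm,
    ([0,3,1,4,2,5] : List (Fin 8)).formPerm * ([6,7] : List (Fin 8)).formPerm,
    ([0,3,1,4] : List (Fin 8)).formPerm * ([2,5] : List (Fin 8)).formPerm * ([6,7] : List (Fin 8)).formPerm ]

def sigma0 : Equiv.Perm (Fin 8) := ([0,1,2] : List (Fin 8)).formPerm

theorem reps_commute : reps.all
    (fun g => decide (sigma0 * (g * sigma0 * g⁻¹) = (g * sigma0 * g⁻¹) * sigma0)) = true := by
  decide +kernel

/-- Multisets of numbers `≥ 2` with sum at most `n` and at most `k` members. -/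
def parts : ℕ → ℕ → List (Multiset ℕ)
  | 0, _ => [0]
  | k + 1, n => 0 :: (List.range (n + 1)).flatMap fun x =>
      if 2 ≤ x then (parts k (n - x)).map (fun t => x ::ₘ t) else []

theorem mem_parts : ∀ (k n : ℕ) (s : Multiset ℕ), (∀ x ∈ s, 2 ≤ x) → s.sum ≤ n →
    Multiset.card s ≤ k → s ∈ parts k n := by
  intro k
  induction k with
  | zero =>
    intro n s _ _ hc
    simp [parts, Multiset.card_eq_zero.mp (Nat.le_zero.mp hc)]
  | succ k ih =>
    intro n s h2 hs hc
    induction s using Multiset.induction with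
    | empty => simp [parts]
    | cons x t _ =>
      rw [Multiset.sum_cons] at hs
      rw [Multiset.card_cons] at hc
      refine List.mem_cons_of_mem _ (List.mem_flatMap.mpr ⟨x, List.mem_range.mpr (by omega), ?_⟩)
      rw [if_pos (h2 x (Multiset.mem_cons_self x t))]
      exact List.mem_map.mpr ⟨t, ih _ t (fun y hy => h2 y (Multiset.mem_cons_of_mem hy)) (by omega)
        (by omega), rfl⟩

theorem reps_partition : reps.map (fun g => g.cycleType) = [(0 : Multiset ℕ), ({2} : Multiset ℕ), ({3} : Multiset ℕ), ({4} : Multiset ℕ), ({5} : Multiset ℕ), ({2,2} : Multiset ℕ), ({3,2} : Multiset ℕ), ({2,2,2} : Multiset ℕ), ({3,3} : Multiset ℕ), ({2,3,2} : Multiset ℕ), ({4,2} : Multiset ℕ), ({3,3,2} : Multiset ℕ), ({3,4} : Multiset ℕ), ({5,2} : Multiset ℕ), ({5,3} : Multiset ℕ), ({6} : Multiset ℕ), ({7} : Multiset ℕ), ({8} : Multiset ℕ), ({2,2,2,2} : Multiset ℕ), ({4,4} : Multiset ℕ), ({6,2} : Multiset ℕ), ({4,2,2} : Multiset ℕ)] := by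
  decide +kernel

theorem exists_rep (c : Equiv.Perm (Fin 8)) : ∃ g ∈ reps, IsConj c g := by
  suffices h : c.cycleType ∈ reps.map (fun g => g.cycleType) by
    obtain ⟨g, hg, he⟩ := List.mem_map.mp h
    exact ⟨g, hg, Equiv.Perm.isConj_iff_cycleType_eq.mpr he.symm⟩
  have key : ∀ s ∈ parts 4 8, s ∈ reps.map (fun g => g.cycleType) := by
    rw [reps_partition]
    decide +kernel
  have hsum : c.cycleType.sum ≤ 8 := by
    rw [Equiv.Perm.sum_cycleType]
    exact c.support.card_le_univ.trans_eq (Fintype.card_fin 8)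
  refine key _ (mem_parts 4 8 _ (fun x hx => Equiv.Perm.two_le_of_mem_cycleType hx) hsum ?_)
  have h2 : 2 * Multiset.card c.cycleType ≤ c.cycleType.sum := by
    have := Multiset.card_nsmul_le_sum (fun x hx => Equiv.Perm.two_le_of_mem_cycleType hx)
      (s := c.cycleType) (a := 2)
    rwa [smul_eq_mul, mul_comm] at this
  omega


/-- In the symmetric group of degree 8, let A be the subgroup generated by a 3-cycle. Then every conjugacy class contains an element g for which A is subnormal in the subgroup generated by A and its conjugate by g, although O_3 of the symmetric group of degree 8 is trivial. -/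
theorem result
    (σ : Equiv.Perm (Fin 8)) (hσ : σ.IsThreeCycle) :
    (∀ c : Equiv.Perm (Fin 8), ∃ g : Equiv.Perm (Fin 8), IsConj c g ∧
      ((Subgroup.zpowers σ).subgroupOf (Subgroup.zpowers σ ⊔ MulAut.conj g • Subgroup.zpowers σ)).IsSubnormal) ∧
    Cfsg.pCore 3 (Equiv.Perm (Fin 8)) = ⊥ := by
  refine ⟨fun c => ?_, ?_⟩
  · have h0 : sigma0.IsThreeCycle := by
      show sigma0.cycleType = {3}
      decide +kernel
    obtain ⟨τ, hτ⟩ := isConj_iff.mp
      (Equiv.Perm.isConj_iff_cycleType_eq.mpr (h0.trans hσ.symm) : IsConj sigma0 σ)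
    obtain ⟨g, hg, hcg⟩ := exists_rep c
    refine ⟨τ * g * τ⁻¹, hcg.trans (isConj_iff.mpr ⟨τ, rfl⟩), ?_⟩
    set A := Subgroup.zpowers σ
    have hcomm : σ * (τ * g * τ⁻¹ * σ * (τ * g * τ⁻¹)⁻¹) =
        τ * g * τ⁻¹ * σ * (τ * g * τ⁻¹)⁻¹ * σ := by
      have h := of_decide_eq_true (List.all_eq_true.mp reps_commute g hg)
      rw [← hτ]
      calc τ * sigma0 * τ⁻¹ * (τ * g * τ⁻¹ * (τ * sigma0 * τ⁻¹) * (τ * g * τ⁻¹)⁻¹)
          = τ * (sigma0 * (g * sigma0 * g⁻¹)) * τ⁻¹ := by group
        _ = τ * ((g * sigma0 * g⁻¹) * sigma0) * τ⁻¹ := by rw [h]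
        _ = _ := by group
    have hle : A ⊔ MulAut.conj (τ * g * τ⁻¹) • A ≤ Subgroup.normalizer (A : Set (Equiv.Perm (Fin 8))) := by
      refine sup_le Subgroup.le_normalizer ?_
      intro x hx
      obtain ⟨y, hy, rfl⟩ := hx
      obtain ⟨k, rfl⟩ := Subgroup.mem_zpowers_iff.mp hy
      have hc : Commute σ (τ * g * τ⁻¹ * σ ^ k * (τ * g * τ⁻¹)⁻¹) := by
        rw [← conj_zpow]
        exact Commute.zpow_right hcomm k
      refine Subgroup.centralizer_le_normalizer _ ?_
      rw [Subgroup.mem_centralizer_iff]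
      intro z hz
      obtain ⟨l, rfl⟩ := Subgroup.mem_zpowers_iff.mp hz
      exact (hc.zpow_left l).eq
    exact Subgroup.Normal.isSubnormal (Subgroup.normal_subgroupOf_of_le_normalizer hle)
  · haveI : Fact (Nat.Prime 3) := ⟨Nat.prime_three⟩
    set N := Cfsg.pCore 3 (Equiv.Perm (Fin 8))
    have hp : IsPGroup 3 N := Cfsg.Agent.Lib.Cores.pCore_isPGroup 3 _
    have hNA : N ≤ alternatingGroup (Fin 8) := by
      intro x hx
      obtain ⟨k, hk⟩ := hp ⟨x, hx⟩
      have h1 := congrArg Equiv.Perm.sign (congrArg Subtype.val hk : x ^ 3 ^ k = 1)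
      rw [SubmonoidClass.coe_pow, OneMemClass.coe_one, map_pow, map_one] at h1
      rcases Int.units_eq_one_or (Equiv.Perm.sign x) with h | h
      · exact h
      · rw [h, (Odd.pow (by decide : Odd 3)).neg_one_pow] at h1
        exact absurd h1 (by decide)
    haveI : IsSimpleGroup (alternatingGroup (Fin 8)) :=
      alternatingGroup.isSimpleGroup (by simp)
    rcases (Subgroup.Normal.comap (inferInstance : N.Normal)
      (alternatingGroup (Fin 8)).subtype).eq_bot_or_eq_top with h | h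
    · rw [eq_bot_iff]
      intro x hx
      have : (⟨x, hNA hx⟩ : alternatingGroup (Fin 8)) ∈ N.comap (alternatingGroup (Fin 8)).subtype :=
        hx
      rw [h, Subgroup.mem_bot] at this
      exact congrArg Subtype.val this
    · exfalso
      have hle : alternatingGroup (Fin 8) ≤ N := fun x hx => by
        have : (⟨x, hx⟩ : alternatingGroup (Fin 8)) ∈ N.comap (alternatingGroup (Fin 8)).subtype :=
          h ▸ Subgroup.mem_top _
        exact this
      obtain ⟨k, hk⟩ := IsPGroup.iff_card.mp (hp.to_le hle)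
      rw [nat_card_alternatingGroup, Nat.card_eq_fintype_card, Fintype.card_fin] at hk
      have h2 : 2 ∣ 3 ^ k := hk ▸ (by decide)
      exact absurd ((Nat.prime_dvd_prime_iff_eq Nat.prime_two Nat.prime_three).mp
        (Nat.prime_two.dvd_of_dvd_pow h2)) (by norm_num)

end Cfsg.Agent.S4332
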