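import Cfsg.Statements.S4333
import Cfsg.Agent.Lib.Solvable.Zipper
import Mathlib

set_option autoImplicit false
open Pointwise
open Cfsg

namespace Cfsg.Agent.S4333

open Cfsg.Agent.Lib
open Cfsg.Agent.Lib.Solvable.Zipper
open Pointwise

universe u

theorem main : ∀ (n : ℕ) (G : Type u) [Group G] [Finite G], Nat.card G = n →
    ∀ A : Subgroup G, (∀ a ∈ A, ∀ g : G,
      (A.subgroupOf (A ⊔ MulAut.conj (g⁻¹ * a * g) • A)).IsSubnormal) →
    A.IsSubnormal := by
  intro n
  induction n using Nat.strongRecOn with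
  | ind n IH =>
  intro G _ _ hn A h
  by_contra hA
  have hAtop : A ≠ ⊤ := fun e => hA (e ▸ Subgroup.IsSubnormal.top)
  -- conjugates of `A` are subnormal in every proper subgroup containing them
  have hloc : ∀ (g : G) (V : Subgroup G), V ≠ ⊤ → MulAut.conj g • A ≤ V →
      ((MulAut.conj g • A).subgroupOf V).IsSubnormal := by
    intro g V hV hgV
    have hlt : Nat.card V < n := by
      rw [← hn]
      exact lt_of_le_of_ne (Subgroup.card_le_card_group V) fun e =>
        hV (Subgroup.eq_top_of_card_eq V e)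
    refine IH _ hlt V rfl _ fun b hb x0 => ?_
    have ha : g⁻¹ * (b : G) * g ∈ A := Coprime.mem_conj_smul.mp hb |> fun h => by simpa using h
    set x : V := x0⁻¹ * b * x0 with hx
    -- transport the hypothesis
    set B := MulAut.conj g • A with hB
    set D := (MulAut.conj (x : G) • B) with hD
    have hDV : D ≤ V := by
      intro y hy
      rw [hD, Coprime.mem_conj_smul] at hy
      have := mul_mem (mul_mem x.2 (hgV hy)) (inv_mem x.2)
      simpa [mul_assoc] using this
    have hsup : MulAut.conj g • (A ⊔ MulAut.conj (g⁻¹ * x * g) • A) = B ⊔ D := by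
      rw [Subgroup.smul_sup, ← Coprime.conj_mul_smul, hD, hB, ← Coprime.conj_mul_smul]
      congr 3
      group
    let e : ↥(A ⊔ MulAut.conj (g⁻¹ * x * g) • A) ≃* ↥(B ⊔ D) :=
      (Subgroup.equivSMul (MulAut.conj g) _).trans (MulEquiv.subgroupCongr hsup)
    have h1 : (B.subgroupOf (B ⊔ D)).IsSubnormal := by
      have hex : (g⁻¹ * (x0 : G) * g)⁻¹ * (g⁻¹ * (b : G) * g) * (g⁻¹ * (x0 : G) * g) = g⁻¹ * (x : G) * g := by
        rw [hx]; simp only [Subgroup.coe_mul, Subgroup.coe_inv]; group
      have h' := h _ ha (g⁻¹ * (x0 : G) * g)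
      rw [hex] at h'
      have h2 := h'.map (f := e.toMonoidHom) e.surjective
      convert h2 using 1
      ext y
      simp only [Subgroup.mem_subgroupOf, Subgroup.mem_map_equiv, hB, Coprime.mem_conj_smul]
      rfl
    have hBDV : B ⊔ D ≤ V := sup_le hgV hDV
    have h3 := h1.comap ((MulEquiv.subgroupCongr (show B.subgroupOf V ⊔
        MulAut.conj x • B.subgroupOf V = (B ⊔ D).subgroupOf V by
      rw [Subgroup.subgroupOf_sup hgV hDV]
      congr 1
      ext y
      simp only [Coprime.mem_conj_smul, Subgroup.mem_subgroupOf, hD]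
      simp)).trans (Subgroup.subgroupOfEquivOfLe hBDV)).toMonoidHom
    convert h3 using 1
    ext y
    rfl
  -- the zipper
  obtain ⟨M, ⟨hAM, hM⟩, hgreat⟩ := exists_greatest A {V : Subgroup G | A ≤ V ∧ V ≠ ⊤}
    ⟨A, le_rfl, hAtop⟩
    (fun V => {B | (∃ g : G, B = MulAut.conj g • A) ∧ B ≤ V ∧ (B.subgroupOf V).IsSubnormal})
    (fun V B => Iff.rfl)
    (fun V hV => ⟨⟨1, (Coprime.conj_one_smul A).symm⟩, hV.1, by
      simpa [Coprime.conj_one_smul] using hloc 1 V hV.2 (by rw [Coprime.conj_one_smul]; exact hV.1)⟩)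
    (fun V hV W _ B hB hBV => by
      obtain ⟨⟨g, rfl⟩, -, -⟩ := hB
      exact ⟨⟨g, rfl⟩, hBV, hloc g V hV.2 hBV⟩)
    (fun V hV W hW => by
      refine ⟨_, ⟨le_trans ?_ Subgroup.le_normalizer, fun htop => hA ?_⟩, le_rfl⟩
      · refine le_sSup ⟨⟨⟨1, (Coprime.conj_one_smul A).symm⟩, hV.1, ?_⟩,
          ⟨1, (Coprime.conj_one_smul A).symm⟩, hW.1, ?_⟩
        · simpa [Coprime.conj_one_smul] using
            hloc 1 V hV.2 (by rw [Coprime.conj_one_smul]; exact hV.1)
        · simpa [Coprime.conj_one_smul] using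
            hloc 1 W hW.2 (by rw [Coprime.conj_one_smul]; exact hW.1)
      · set J := sSup ({B : Subgroup G | (∃ g : G, B = MulAut.conj g • A) ∧ B ≤ V ∧
          (B.subgroupOf V).IsSubnormal} ∩ {B | (∃ g : G, B = MulAut.conj g • A) ∧ B ≤ W ∧
          (B.subgroupOf W).IsSubnormal}) with hJ
        have hJn : J.Normal := Subgroup.normalizer_eq_top_iff.mp htop
        have hAJ : A ≤ J := by
          refine le_sSup ⟨⟨⟨1, (Coprime.conj_one_smul A).symm⟩, hV.1, ?_⟩,
            ⟨1, (Coprime.conj_one_smul A).symm⟩, hW.1, ?_⟩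
          · simpa [Coprime.conj_one_smul] using
              hloc 1 V hV.2 (by rw [Coprime.conj_one_smul]; exact hV.1)
          · simpa [Coprime.conj_one_smul] using
              hloc 1 W hW.2 (by rw [Coprime.conj_one_smul]; exact hW.1)
        have hJtop : J ≠ ⊤ := fun e => hV.2 (top_le_iff.mp (e ▸ sSup_le fun B hB => hB.1.2.1))
        exact Subgroup.IsSubnormal.trans hAJ (by
          simpa [Coprime.conj_one_smul] using
            hloc 1 J hJtop (by rw [Coprime.conj_one_smul]; exact hAJ)) hJn.isSubnormal)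
  refine hA (isSubnormal_criterion A fun g => ?_)
  by_cases htop : A ⊔ MulAut.conj g • A = ⊤
  · exfalso
    set B := MulAut.conj g • A with hB
    have hall : ∀ x ∈ B, MulAut.conj x • A ≤ M := by
      intro x hx
      have hxa : g⁻¹ * x * g ∈ A := Coprime.mem_conj_smul.mp hx |> fun h => by simpa using h
      have hs := h _ hxa g⁻¹
      rw [show (g⁻¹)⁻¹ * (g⁻¹ * x * g) * g⁻¹ = x by group] at hs
      by_cases htop' : A ⊔ MulAut.conj x • A = ⊤
      · exact absurd (Subgroup.IsSubnormal.trans le_sup_left hs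
          (htop' ▸ Subgroup.IsSubnormal.top)) hA
      · exact le_sup_right.trans (hgreat _ ⟨le_sup_left, htop'⟩)
    set K := ⨆ x : B, MulAut.conj (x : G) • A with hK
    have hAK : A ≤ K := le_trans (by simp [Coprime.conj_one_smul]) (le_iSup (fun x : B => MulAut.conj (x : G) • A) 1)
    have hBn : B ≤ Subgroup.normalizer (K : Set G) := by
      intro b hb
      refine Coprime.mem_normalizer_of_conj_smul_eq
        (Coprime.eq_of_le_of_card_le ?_ (Coprime.card_conj_smul b _).ge)
      rw [Subgroup.pointwise_smul_subset_iff]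
      refine iSup_le fun x => ?_
      rw [← Subgroup.pointwise_smul_subset_iff, ← Coprime.conj_mul_smul]
      exact le_iSup (fun x : B => MulAut.conj (x : G) • A) ⟨b * x, mul_mem hb x.2⟩
    have hn : K.Normal := Subgroup.normalizer_eq_top_iff.mp (top_le_iff.mp
      (htop ▸ sup_le (hAK.trans Subgroup.le_normalizer) hBn))
    have hKM : K ≤ M := iSup_le fun x => hall x x.2
    have hKtop : K ≠ ⊤ := fun e => hM (top_le_iff.mp (e ▸ hKM))
    exact hA (Subgroup.IsSubnormal.trans hAK (by
      simpa [Coprime.conj_one_smul] using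
        hloc 1 K hKtop (by rw [Coprime.conj_one_smul]; exact hAK)) hn.isSubnormal)
  · simpa [Coprime.conj_one_smul] using
      hloc 1 _ htop (by rw [Coprime.conj_one_smul]; exact le_sup_left)


/-- Let A be a subgroup of a finite group G. If A is subnormal in the subgroup generated by A and its conjugate by g⁻¹ a g, for every a ∈ A and every g ∈ G, then A is subnormal in G. (A sharpening of Wielandt's subnormality criterion: only conjugates of A by conjugates of elements of A are needed.) -/
theorem result {G : Type*} [Group G] [Finite G]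
    (A : Subgroup G)
    (h : ∀ a ∈ A, ∀ g : G, (A.subgroupOf (A ⊔ MulAut.conj (g⁻¹ * a * g) • A)).IsSubnormal) :
    A.IsSubnormal := by
  exact main _ G rfl A h

end Cfsg.Agent.S4333
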