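import Cfsg.Statements.S4334
import Cfsg.Agent.Lib.Transfer.Frobenius
import Cfsg.Agent.Lib.Solvable.Schmidt
import Cfsg.Agent.Lib.Coprime.Basic
import Cfsg.Agent.Lib.PGroups.Subnormal
import Mathlib

set_option autoImplicit false
open Cfsg

namespace Cfsg.Agent.S4334

open Pointwise
open Cfsg.Agent.Lib

universe u

variable {G : Type u} [Group G] [Finite G]

theorem exists_sylowIn (r : ℕ) [Fact r.Prime] (S : Subgroup G) :
    ∃ Q : Subgroup G, Q ≤ S ∧ IsPGroup r Q ∧ ¬ r ∣ Q.relIndex S := by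
  obtain ⟨Q⟩ : Nonempty (Sylow r S) := inferInstance
  refine ⟨(Q : Subgroup S).map S.subtype, Subgroup.map_subtype_le _, Q.2.map _, ?_⟩
  rw [Subgroup.relIndex, Subgroup.subgroupOf, Subgroup.comap_map_eq_self_of_injective S.subtype_injective]
  exact Q.not_dvd_index

theorem conj_into {p : ℕ} [Fact p.Prime] {M P T : Subgroup G} (hP : IsPGroup p P) (hPM : P ≤ M)
    (hT : IsPGroup p T) (hTM : T ≤ M) (hi : ¬ p ∣ T.relIndex M) :
    ∃ m ∈ M, MulAut.conj m • P ≤ T := by
  obtain ⟨Q, hQ⟩ := (hP.of_equiv (Subgroup.subgroupOfEquivOfLe hPM).symm).exists_le_sylow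
  set TS : Sylow p M := (hT.of_equiv (Subgroup.subgroupOfEquivOfLe hTM).symm).toSylow hi
  obtain ⟨m, hm⟩ := MulAction.exists_smul_eq M Q TS
  refine ⟨m, m.2, fun x hx => ?_⟩
  rw [Coprime.mem_conj_smul] at hx
  have h1 : (m : G)⁻¹ * x * m ∈ M := hPM hx
  have hxM : x ∈ M := by
    have := mul_mem (mul_mem m.2 h1) (inv_mem m.2)
    simpa [mul_assoc] using this
  have h2 : m⁻¹ * (⟨x, hxM⟩ : M) * m ∈ (Q : Subgroup M) := hQ hx
  have h3 : (⟨x, hxM⟩ : M) ∈ MulAut.conj m • (Q : Subgroup M) := Coprime.mem_conj_smul.mpr h2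
  have h4 : ((m • Q : Sylow p M) : Subgroup M) = MulAut.conj m • (Q : Subgroup M) :=
    Sylow.coe_subgroup_smul
  rw [← h4, hm] at h3
  exact h3

theorem cent_of_nilpotent {p r : ℕ} [Fact p.Prime] [Fact r.Prime] (hpr : p ≠ r) {S A B : Subgroup G}
    (hS : Group.IsNilpotent S) (hAS : A ≤ S) (hBS : B ≤ S) (hA : IsPGroup p A) (hB : IsPGroup r B) :
    A ≤ Subgroup.centralizer (B : Set G) := by
  haveI := hS
  have h := Solvable.Schmidt.commute_of_coprime_orderOf (G := S) hpr
    (hA.of_equiv (Subgroup.subgroupOfEquivOfLe hAS).symm)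
    (hB.of_equiv (Subgroup.subgroupOfEquivOfLe hBS).symm)
  intro a ha
  refine Subgroup.mem_centralizer_iff.mpr fun b hb => ?_
  exact congrArg Subtype.val (Subgroup.mem_centralizer_iff.mp
    (h (show (⟨a, hAS ha⟩ : S) ∈ A.subgroupOf S from ha)) ⟨b, hBS hb⟩ hb)

theorem wielandt (σ : Set ℕ) : ∀ (n : ℕ) (M S K : Subgroup G), Nat.card K = n → S ≤ M →
    Group.IsNilpotent S → (∀ r : ℕ, r.Prime → r ∈ σ → ¬ r ∣ S.relIndex M) → K ≤ M →
    Group.IsNilpotent K → Cfsg.IsPiSubgroup σ K → ∃ m ∈ M, MulAut.conj m • K ≤ S := by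
  intro n
  induction n using Nat.strong_induction_on with
  | _ n ih =>
    intro M S K hn hSM hSn hSi hKM hKn hKσ
    classical
    by_cases hK1 : Nat.card K = 1
    · refine ⟨1, one_mem _, ?_⟩
      rw [Coprime.conj_one_smul, Subgroup.card_eq_one.mp hK1]
      exact bot_le
    obtain ⟨p, hp, hpK⟩ := Nat.exists_prime_and_dvd hK1
    haveI := Fact.mk hp
    haveI := hKn
    have hpσ := hKσ p hp hpK
    -- `K = P × R`
    obtain ⟨P0⟩ : Nonempty (Sylow p K) := inferInstance
    have hP0n : (P0 : Subgroup K).Normal :=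
      Sylow.normal_of_normalizerCondition Group.normalizerCondition_of_isNilpotent P0
    set R0 := Cfsg.pResidual p K with hR0
    have hR0c : Nat.Coprime (Nat.card R0) p := Transfer.hasNormalPComplement_iff_coprime.mp
      (Solvable.FixedPointFree.hasNormalPComplement_of_isNilpotent p)
    have hcomm0 : ∀ a ∈ (P0 : Subgroup K), ∀ b ∈ R0, Commute a b := by
      intro a ha b hb
      refine Subgroup.commute_of_normal_of_disjoint _ _ hP0n (Transfer.pResidual_normal (p := p)) ?_ a b ha hb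
      rw [disjoint_iff]
      refine Coprime.inf_eq_bot_of_coprime_card ?_
      obtain ⟨k, hk⟩ := IsPGroup.iff_card.mp P0.2
      rw [hk]
      exact (Nat.Coprime.pow_right k hR0c).symm
    have htop : (P0 : Subgroup K) ⊔ R0 = ⊤ := by
      refine Subgroup.index_eq_one.mp (Nat.eq_one_iff_not_exists_prime_dvd.mpr fun r hr hd => ?_)
      obtain ⟨k, hk⟩ := Transfer.exists_index_pResidual (G := K) (p := p)
      have h1 : r ∣ p ^ k := hk ▸ hd.trans (Subgroup.index_dvd_of_le le_sup_right)
      rw [(Nat.prime_dvd_prime_iff_eq hr hp).mp (hr.dvd_of_dvd_pow h1)] at hd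
      exact P0.not_dvd_index (hd.trans (Subgroup.index_dvd_of_le le_sup_left))
    set P := (P0 : Subgroup K).map K.subtype with hP
    set R := R0.map K.subtype with hR
    have hKPR : K = P ⊔ R := by
      rw [hP, hR, ← Subgroup.map_sup, htop, ← MonoidHom.range_eq_map, Subgroup.range_subtype]
    have hPp : IsPGroup p P := P0.2.map _
    have hPK : P ≤ K := Subgroup.map_subtype_le _
    have hRK : R ≤ K := Subgroup.map_subtype_le _
    have hRC : R ≤ Subgroup.centralizer (P : Set G) := by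
      rintro _ ⟨b, hb, rfl⟩
      refine Subgroup.mem_centralizer_iff.mpr ?_
      rintro _ ⟨a, ha, rfl⟩
      exact congrArg Subtype.val (hcomm0 a ha b hb).eq
    -- move `S` so that it contains a Sylow subgroup of `N_M(P)` that contains `P`
    set N := M ⊓ Subgroup.normalizer (P : Set G) with hN
    have hPN : P ≤ N := le_inf (hPK.trans hKM) Subgroup.le_normalizer
    obtain ⟨X0, hX0⟩ := (hPp.of_equiv (Subgroup.subgroupOfEquivOfLe hPN).symm).exists_le_sylow
    set X := (X0 : Subgroup N).map N.subtype with hX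
    have hPX : P ≤ X := fun x hx => ⟨⟨x, hPN hx⟩, hX0 hx, rfl⟩
    have hXN : X ≤ N := Subgroup.map_subtype_le _
    have hXi : ¬ p ∣ X.relIndex N := by
      rw [hX, Subgroup.relIndex, Subgroup.subgroupOf,
        Subgroup.comap_map_eq_self_of_injective N.subtype_injective]
      exact X0.not_dvd_index
    obtain ⟨T, hTS, hTp, hTi⟩ := exists_sylowIn p S
    obtain ⟨m, hm, hmX⟩ := conj_into (X0.2.map N.subtype) (hXN.trans inf_le_left) hTp (hTS.trans hSM) (by
      rw [← Subgroup.relIndex_mul_relIndex T S M hTS hSM]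
      exact fun h => (hp.dvd_mul.mp h).elim hTi (hSi p hp hpσ))
    set S' := MulAut.conj m⁻¹ • S with hS'
    have hS'M : S' ≤ M := by
      intro x hx
      rw [hS', Coprime.mem_conj_smul, inv_inv] at hx
      have := mul_mem (mul_mem (inv_mem hm) (hSM hx)) hm
      simpa [mul_assoc] using this
    have hXS' : X ≤ S' := by
      intro x hx
      rw [hS', Coprime.mem_conj_smul, inv_inv]
      have h1 : m * x * m⁻¹ ∈ MulAut.conj m • X := Coprime.mem_conj_smul.mpr (by simpa [mul_assoc] using hx)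
      exact hTS (hmX h1)
    haveI := hSn
    have hS'n : Group.IsNilpotent S' :=
      Cores.isNilpotent_of_injective (Subgroup.equivSMul (MulAut.conj m⁻¹) S).symm.toMonoidHom
        (MulEquiv.injective _)
    have hS'i : ∀ r : ℕ, r.Prime → r ∈ σ → ¬ r ∣ S'.relIndex M := by
      intro r hr hrσ h
      refine hSi r hr hrσ ?_
      have e1 := Coprime.relIndex_mul_card hS'M
      have e2 := Coprime.relIndex_mul_card hSM
      rw [hS', Coprime.card_conj_smul] at e1
      rw [← hS', ← e2] at e1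
      exact Nat.eq_of_mul_eq_mul_left Nat.card_pos e1 ▸ h
    set C := M ⊓ Subgroup.centralizer (P : Set G) with hC
    have hCi : ∀ r : ℕ, r.Prime → r ∈ σ → ¬ r ∣ (S' ⊓ C).relIndex C := by
      intro r hr hrσ
      haveI := Fact.mk hr
      by_cases hrp : r = p
      · subst hrp
        have hle : X ⊓ C ≤ S' ⊓ C := inf_le_inf_right C hXS'
        refine fun h => hXi (h.trans ((Subgroup.relIndex_dvd_of_le_left C hle).trans ?_))
        have hCn : (C.subgroupOf N).Normal := ⟨fun h hh g => by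
          rw [Subgroup.mem_subgroupOf] at hh ⊢
          obtain ⟨hgM, hgN⟩ := g.2
          obtain ⟨hhM, hhC⟩ := hh
          have hgM' : (g : G) ∈ M := hgM
          have hhM' : (h : G) ∈ M := hhM
          refine Subgroup.mem_inf.mpr ⟨mul_mem (mul_mem hgM' hhM') (inv_mem hgM'),
            Subgroup.mem_centralizer_iff.mpr fun x hx => ?_⟩
          have hx' : (g : G)⁻¹ * x * g ∈ P := (Subgroup.mem_set_normalizer_iff.mp hgN _).mpr
            (by simpa [mul_assoc] using hx)
          have h2 := Subgroup.mem_centralizer_iff.mp hhC _ hx'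
          show x * ((g : G) * h * (g : G)⁻¹) = (g : G) * h * (g : G)⁻¹ * x
          calc x * ((g : G) * h * (g : G)⁻¹) = g * ((g : G)⁻¹ * x * g * h) * (g : G)⁻¹ := by group
            _ = g * (h * ((g : G)⁻¹ * x * g)) * (g : G)⁻¹ := by rw [h2]
            _ = (g : G) * h * (g : G)⁻¹ * x := by group⟩
        haveI := hCn
        have hCN : C ≤ N := inf_le_inf_left M (Subgroup.centralizer_le_normalizer _)
        rw [Subgroup.inf_relIndex_right, ← Subgroup.relIndex_subgroupOf hCN]
        exact Cfsg.Agent.Lib.PGroups.relIndex_dvd_index_of_normal_right (C.subgroupOf N) (X.subgroupOf N)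
      · obtain ⟨Q, hQS, hQr, hQi⟩ := exists_sylowIn r S'
        have hQC : Q ≤ C := le_inf (hQS.trans hS'M)
          (cent_of_nilpotent hrp hS'n hQS (hPX.trans hXS') hQr hPp)
        intro h
        have h1 : r ∣ Q.relIndex M := by
          rw [← Subgroup.relIndex_mul_relIndex Q C M hQC inf_le_left]
          exact (h.trans (Subgroup.relIndex_dvd_of_le_left C (le_inf hQS hQC))).mul_right _
        rw [← Subgroup.relIndex_mul_relIndex Q S' M hQS hS'M] at h1
        exact (hr.dvd_mul.mp h1).elim hQi (hS'i r hr hrσ)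
    have hRlt : Nat.card R < n := by
      rw [← hn, hR, Subgroup.card_map_of_injective K.subtype_injective]
      refine lt_of_le_of_ne (Subgroup.card_le_card_group _) fun h => ?_
      rw [h, Transfer.coprime_iff_not_dvd] at hR0c
      exact hR0c hpK
    obtain ⟨c, hc, hcR⟩ := ih _ hRlt C (S' ⊓ C) R rfl inf_le_right
      (Cores.isNilpotent_of_injective (Subgroup.inclusion (inf_le_left : S' ⊓ C ≤ S'))
        (Subgroup.inclusion_injective _))
      hCi (le_inf (hRK.trans hKM) hRC)
      (Cores.isNilpotent_of_injective (Subgroup.inclusion hRK) (Subgroup.inclusion_injective _))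
      (fun q hq hd => hKσ q hq (hd.trans (Subgroup.card_dvd_of_le hRK)))
    refine ⟨m * c, mul_mem hm (hc : c ∈ C).1, ?_⟩
    rw [Coprime.conj_mul_smul, Subgroup.pointwise_smul_subset_iff, ← map_inv, ← hS', hKPR, Subgroup.smul_sup]
    refine sup_le ?_ (hcR.trans inf_le_left)
    intro x hx
    rw [Coprime.mem_conj_smul] at hx
    have h1 := Subgroup.mem_centralizer_iff.mp (hc : c ∈ C).2 _ hx
    have h4 : x = c⁻¹ * x * c := by
      calc x = c * (c⁻¹ * x * c) * c⁻¹ := by group
        _ = c⁻¹ * x * c := by rw [← h1, mul_inv_cancel_right]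
    exact hXS' (hPX (h4 ▸ hx))

theorem main (σ τ π : Set ℕ) (hπ : π = σ ∪ τ) (hd : Disjoint σ τ) (H Hs Ht : Subgroup G)
    (hH : Cfsg.IsPiHall π H) (hs : Cfsg.IsPiSubgroup σ Hs) (ht : Cfsg.IsPiSubgroup τ Ht)
    (hsn : Group.IsNilpotent Hs) (hjoin : Hs ⊔ Ht = H) (hcomm : ∀ a ∈ Hs, ∀ b ∈ Ht, a * b = b * a)
    (hD : Cfsg.IsDPiGroup τ G) (K : Subgroup G) (hK : Cfsg.IsPiSubgroup π K) :
    ∃ g : G, MulAut.conj g • K ≤ H := by
  classical
  have hnorm : Ht ≤ Subgroup.centralizer (Hs : Set G) := fun b hb =>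
    Subgroup.mem_centralizer_iff.mpr fun a ha => hcomm a ha b hb
  have hdisj : ∀ r : ℕ, r ∈ σ → r ∉ τ := fun r h1 h2 => Set.disjoint_left.mp hd h1 h2
  have hcop : (Nat.card Hs).Coprime (Nat.card Ht) :=
    Nat.coprime_of_dvd fun r hr h1 h2 => hdisj r (hs r hr h1) (ht r hr h2)
  have hcardH : Nat.card H = Nat.card Hs * Nat.card Ht := by
    rw [← hjoin]
    exact Coprime.card_sup_of_coprime (hnorm.trans (Subgroup.centralizer_le_normalizer _)) hcop
  have hHsH : Hs ≤ H := hjoin ▸ le_sup_left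
  have hHtH : Ht ≤ H := hjoin ▸ le_sup_right
  have hsi : ∀ r : ℕ, r.Prime → r ∈ σ → ¬ r ∣ Hs.index := by
    intro r hr hrσ h
    rw [← Subgroup.relIndex_mul_index hHsH] at h
    rcases hr.dvd_mul.mp h with h | h
    · have e := Coprime.relIndex_mul_card hHsH
      rw [hcardH] at e
      have e' : Hs.relIndex H = Nat.card Ht :=
        Nat.eq_of_mul_eq_mul_left (Nat.card_pos (α := Hs)) (by linarith)
      rw [e'] at h
      exact hdisj r hrσ (ht r hr h)
    · exact hH.2 r hr (hπ ▸ Or.inl hrσ) h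
  have hti : ∀ r : ℕ, r.Prime → r ∈ τ → ¬ r ∣ Ht.index := by
    intro r hr hrτ h
    rw [← Subgroup.relIndex_mul_index hHtH] at h
    rcases hr.dvd_mul.mp h with h | h
    · have e := Coprime.relIndex_mul_card hHtH
      rw [hcardH] at e
      have e' : Ht.relIndex H = Nat.card Hs :=
        Nat.eq_of_mul_eq_mul_left (Nat.card_pos (α := Ht)) (by linarith)
      rw [e'] at h
      exact hdisj r (hs r hr h) hrτ
    · exact hH.2 r hr (hπ ▸ Or.inr hrτ) h
  -- normal `p`-complements in `K` for `p ∈ σ`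
  have hpc : ∀ p : ℕ, p.Prime → p ∈ σ → Nat.Coprime (Nat.card (Cfsg.pResidual p K)) p := by
    intro p hp hpσ
    haveI := Fact.mk hp
    refine Transfer.hasNormalPComplement_iff_coprime.mp
      (Transfer.hasNormalPComplement_of_frobenius (default : Sylow p K) fun Q hQ y hy hyo => ?_)
    set Q' := Q.map K.subtype with hQ'
    have hQ'p : IsPGroup p Q' := ((default : Sylow p K).2.to_le hQ).map _
    obtain ⟨T, hTS, hTp, hTi⟩ := exists_sylowIn p Hs
    obtain ⟨m, -, hm⟩ := conj_into (M := (⊤ : Subgroup G)) hQ'p le_top hTp le_top (by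
      rw [Subgroup.relIndex_top_right, ← Subgroup.relIndex_mul_index hTS]
      exact fun h => (hp.dvd_mul.mp h).elim hTi (hsi p hp hpσ))
    have hCidx : ∀ r : ℕ, r.Prime → r ∈ π → r ≠ p →
        ¬ r ∣ (Subgroup.centralizer (Q' : Set G)).index := by
      intro r hr hrπ hrp
      haveI := Fact.mk hr
      have hkey : ∀ D : Subgroup G, ¬ r ∣ D.index →
          (∀ d ∈ D, ∀ x ∈ Hs, x ∈ MulAut.conj m • Q' → Commute d x) →
          ¬ r ∣ (Subgroup.centralizer (Q' : Set G)).index := by
        intro D hDi hDc h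
        refine hDi ?_
        have hle : MulAut.conj m⁻¹ • D ≤ Subgroup.centralizer (Q' : Set G) := by
          intro d hd
          rw [Coprime.mem_conj_smul, inv_inv] at hd
          refine Subgroup.mem_centralizer_iff.mpr fun x hx => ?_
          have hxc : m * x * m⁻¹ ∈ MulAut.conj m • Q' :=
            Coprime.mem_conj_smul.mpr (by simpa [mul_assoc] using hx)
          have h1 := hDc _ hd _ (hTS (hm hxc)) hxc
          calc x * d = m⁻¹ * ((m * x * m⁻¹) * (m * d * m⁻¹)) * m := by group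
            _ = m⁻¹ * ((m * d * m⁻¹) * (m * x * m⁻¹)) * m := by rw [h1.eq]
            _ = d * x := by group
        have h2 := h.trans (Subgroup.index_dvd_of_le hle)
        have e1 := (MulAut.conj m⁻¹ • D).index_mul_card
        rw [Coprime.card_conj_smul, ← D.index_mul_card] at e1
        exact Nat.eq_of_mul_eq_mul_right Nat.card_pos e1 ▸ h2
      rcases (hπ ▸ hrπ : r ∈ σ ∪ τ) with hrσ | hrτ
      · obtain ⟨D, hDS, hDr, hDi⟩ := exists_sylowIn r Hs
        refine hkey D (by
          rw [← Subgroup.relIndex_mul_index hDS]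
          exact fun h => (hr.dvd_mul.mp h).elim hDi (hsi r hr hrσ)) fun d hd x _ hxQ => ?_
        exact (Subgroup.mem_centralizer_iff.mp (cent_of_nilpotent hrp hsn hDS hTS hDr hTp hd) x (hm hxQ)).symm
      · exact hkey Ht (hti r hr hrτ) fun d hd x hx _ => (hcomm x hx d hd).symm
    have hyN : (y : G) ∈ Subgroup.normalizer (Q' : Set G) :=
      Subgroup.le_normalizer_map K.subtype (Subgroup.mem_map_of_mem _ hy)
    set CN := (Subgroup.centralizer (Q' : Set G)).subgroupOf (Subgroup.normalizer (Q' : Set G))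
    have hone : orderOf ((⟨(y : G), hyN⟩ : Subgroup.normalizer (Q' : Set G)) :
        Subgroup.normalizer (Q' : Set G) ⧸ CN) = 1 := by
      refine Nat.eq_one_iff_not_exists_prime_dvd.mpr fun r hr hd => ?_
      have h1 : r ∣ orderOf y := by
        have := hd.trans (orderOf_map_dvd (QuotientGroup.mk' CN) _)
        rwa [Subgroup.orderOf_mk, Subgroup.orderOf_coe] at this
      have hrp : r ≠ p := fun e => hr.ne_one (Nat.eq_one_of_dvd_coprimes hyo h1 (e ▸ dvd_rfl))
      refine hCidx r hr (hK r hr (h1.trans (orderOf_dvd_natCard y))) hrp ?_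
      exact hd.trans ((orderOf_dvd_natCard _).trans
        (Subgroup.relIndex_dvd_index_of_le (Subgroup.centralizer_le_normalizer _)))
    have hyC : (y : G) ∈ Subgroup.centralizer (Q' : Set G) :=
      Subgroup.mem_subgroupOf.mp ((QuotientGroup.eq_one_iff (⟨(y : G), hyN⟩ : Subgroup.normalizer (Q' : Set G))).mp (orderOf_eq_one_iff.mp hone))
    refine Subgroup.mem_centralizer_iff.mpr fun x hx => Subtype.ext ?_
    exact Subgroup.mem_centralizer_iff.mp hyC x ⟨x, hx, rfl⟩
  -- the normal Hall `τ`-subgroup of `K`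
  let I := {p // p ∈ (Nat.card K).primeFactors.filter (fun p => p ∈ σ)}
  have hI : ∀ i : I, i.1.Prime ∧ i.1 ∈ σ := fun i =>
    ⟨Nat.prime_of_mem_primeFactors (Finset.mem_filter.mp i.2).1, (Finset.mem_filter.mp i.2).2⟩
  haveI : ∀ i : I, Fact i.1.Prime := fun i => ⟨(hI i).1⟩
  haveI : ∀ i : I, (Cfsg.pResidual i.1 K).Normal := fun i => Transfer.pResidual_normal
  let f : K →* ∀ i : I, K ⧸ Cfsg.pResidual i.1 K :=
    Pi.monoidHom fun i => QuotientGroup.mk' (Cfsg.pResidual i.1 K)
  haveI hnil : Group.IsNilpotent (∀ i : I, K ⧸ Cfsg.pResidual i.1 K) := by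
    haveI : ∀ i : I, Group.IsNilpotent (K ⧸ Cfsg.pResidual i.1 K) := fun i => by
      obtain ⟨k, hk⟩ := Transfer.exists_index_pResidual (G := K) (p := i.1)
      exact (IsPGroup.of_card (p := i.1) (n := k) hk).isNilpotent
    infer_instance
  set Kt := f.ker with hKt
  have hKtτ : ∀ r : ℕ, r.Prime → r ∣ Nat.card Kt → r ∈ τ := by
    intro r hr hrd
    rcases (hπ ▸ hK r hr (hrd.trans Kt.card_subgroup_dvd_card) : r ∈ σ ∪ τ) with h | h
    · exfalso
      have hle : Kt ≤ Cfsg.pResidual r K := fun x hx => by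
        have := congrFun (MonoidHom.mem_ker.mp hx) ⟨r, Finset.mem_filter.mpr
          ⟨Nat.mem_primeFactors.mpr ⟨hr, hrd.trans Kt.card_subgroup_dvd_card, Nat.card_pos.ne'⟩, h⟩⟩
        exact (QuotientGroup.eq_one_iff _).mp this
      exact hr.not_dvd_one ((hpc r hr h).gcd_eq_one ▸
        Nat.dvd_gcd (hrd.trans (Subgroup.card_dvd_of_le hle)) dvd_rfl)
    · exact h
  have hKtidx : ∀ r : ℕ, r.Prime → r ∣ Kt.index → r ∈ σ := by
    intro r hr hrd
    rw [Subgroup.index_ker] at hrd
    have h := hrd.trans (Subgroup.card_subgroup_dvd_card _)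
    rw [Nat.card_pi] at h
    obtain ⟨i, -, hi⟩ := (Prime.dvd_finsetProd_iff hr.prime _).mp h
    obtain ⟨k, hk⟩ := Transfer.exists_index_pResidual (G := K) (p := i.1)
    rw [← Subgroup.index_eq_card, hk] at hi
    rw [(Nat.prime_dvd_prime_iff_eq hr (hI i).1).mp (hr.dvd_of_dvd_pow hi)]
    exact (hI i).2
  obtain ⟨Ks0, hKs0⟩ := Subgroup.exists_right_complement'_of_coprime (N := Kt)
    (Nat.coprime_of_dvd fun r hr h1 h2 => hdisj r (hKtidx r hr h2) (hKtτ r hr h1))
  have hKs0n : Group.IsNilpotent Ks0 := by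
    refine Cores.isNilpotent_of_injective (f.comp Ks0.subtype) ?_
    rw [injective_iff_map_eq_one]
    intro x hx
    exact Subtype.ext (Subgroup.disjoint_def.mp hKs0.disjoint (MonoidHom.mem_ker.mpr hx) x.2)
  set L := Kt.map K.subtype with hL
  set Ks := Ks0.map K.subtype with hKs
  have hKLs : K = L ⊔ Ks := by
    rw [hL, hKs, ← Subgroup.map_sup, hKs0.sup_eq_top, ← MonoidHom.range_eq_map, Subgroup.range_subtype]
  have hLτ : Cfsg.IsPiSubgroup τ L := fun r hr hrd =>
    hKtτ r hr (by rwa [hL, Subgroup.card_map_of_injective K.subtype_injective] at hrd)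
  have hHtmax : Maximal (Cfsg.IsPiSubgroup τ) Ht := by
    refine ⟨ht, fun X hX hle => ?_⟩
    refine (Coprime.eq_of_le_of_card_le hle ?_).ge
    have e := Coprime.relIndex_mul_card hle
    have h1 : Ht.relIndex X = 1 := by
      refine Nat.eq_one_iff_not_exists_prime_dvd.mpr fun r hr hrd => ?_
      exact hti r hr (hX r hr (hrd.trans (Dvd.intro_left _ e)))
        (hrd.trans (Subgroup.relIndex_dvd_index_of_le hle))
    rw [h1, mul_one] at e
    exact e.ge
  obtain ⟨X, hLX, hXmax⟩ := (Set.toFinite {X : Subgroup G | Cfsg.IsPiSubgroup τ X}).exists_le_maximal hLτ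
  obtain ⟨g, hg⟩ := hD X Ht hXmax hHtmax
  have hgL : MulAut.conj g • L ≤ Ht := by
    rw [hg]
    rintro x hx
    rw [Coprime.mem_conj_smul] at hx
    exact ⟨g⁻¹ * x * g, hLX hx, by simp [mul_assoc]⟩
  set L' := MulAut.conj g • L with hL'
  set M := Subgroup.normalizer (L' : Set G) with hM
  have hHsM : Hs ≤ M := fun a ha => Subgroup.centralizer_le_normalizer _
    (Subgroup.mem_centralizer_iff.mpr fun b hb => (hcomm a ha b (hgL hb)).symm)
  have hKsM : MulAut.conj g • Ks ≤ M := by
    intro x hx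
    rw [hKs, Coprime.mem_conj_smul] at hx
    have h1 : g⁻¹ * x * g ∈ Subgroup.normalizer (L : Set G) := by
      obtain ⟨k, -, hk⟩ := hx
      rw [← hk, hL]
      exact Subgroup.le_normalizer_map K.subtype ⟨k, by
        rw [Subgroup.normalizer_eq_top_iff.mpr (MonoidHom.normal_ker f)]; exact Subgroup.mem_top k, rfl⟩
    refine Coprime.mem_normalizer_of_conj_smul_eq ?_
    rw [hL', ← Coprime.conj_mul_smul, show x * g = g * (g⁻¹ * x * g) by group, Coprime.conj_mul_smul,
      Coprime.conj_smul_eq_of_mem_normalizer h1]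
  obtain ⟨c, hc, hcK⟩ := wielandt σ _ M Hs (MulAut.conj g • Ks) rfl hHsM hsn
    (fun r hr hrσ h => hsi r hr hrσ (h.trans (Subgroup.relIndex_dvd_index_of_le hHsM)))
    hKsM
    (by
      haveI := hKs0n
      haveI : Group.IsNilpotent Ks := Cores.isNilpotent_map _ _
      exact Cores.isNilpotent_of_injective (Subgroup.equivSMul (MulAut.conj g) Ks).symm.toMonoidHom
        (MulEquiv.injective _))
    (fun r hr hrd => hKtidx r hr (by
      rwa [Coprime.card_conj_smul, hKs, Subgroup.card_map_of_injective K.subtype_injective,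
        ← hKs0.symm.index_eq_card] at hrd))
  refine ⟨c * g, ?_⟩
  rw [Coprime.conj_mul_smul, hKLs, Subgroup.smul_sup, Subgroup.smul_sup, ← hL',
    Coprime.conj_smul_eq_of_mem_normalizer hc]
  exact sup_le (hgL.trans hHtH) (hcK.trans hHsH)


/-- Let σ and τ be disjoint sets of primes with union π. Suppose a finite group G has a Hall π-subgroup H which is the direct product of a nilpotent σ-subgroup and a τ-subgroup (two elementwise-commuting subgroups generating H), and that the maximal τ-subgroups of G are pairwise conjugate. Then the maximal π-subgroups of G are pairwise conjugate. -/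
theorem result {G : Type*} [Group G] [Finite G]
    (σ τ π : Set ℕ) (hπ : π = σ ∪ τ) (hd : Disjoint σ τ) (H Hs Ht : Subgroup G) (hH : Cfsg.IsPiHall π H)
    (hs : Cfsg.IsPiSubgroup σ Hs) (ht : Cfsg.IsPiSubgroup τ Ht) (hsn : Group.IsNilpotent Hs)
    (hjoin : Hs ⊔ Ht = H) (hcomm : ∀ a ∈ Hs, ∀ b ∈ Ht, a * b = b * a) (hD : Cfsg.IsDPiGroup τ G) :
    Cfsg.IsDPiGroup π G := by
  classical
  have hHπ : Cfsg.IsPiSubgroup π H := hH.1
  have key : ∀ K : Subgroup G, Maximal (Cfsg.IsPiSubgroup π) K → ∃ g : G, MulAut.conj g • K = H := by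
    intro K hK
    obtain ⟨g, hg⟩ := main σ τ π hπ hd H Hs Ht hH hs ht hsn hjoin hcomm hD K hK.1
    refine ⟨g, le_antisymm hg ?_⟩
    have h1 : K ≤ (MulAut.conj g)⁻¹ • H := Subgroup.pointwise_smul_subset_iff.mp hg
    have h2 : (MulAut.conj g)⁻¹ • H ≤ K := hK.2 (fun r hr hrd => hHπ r hr (by
      rwa [← map_inv, Coprime.card_conj_smul] at hrd)) h1
    exact Subgroup.subset_pointwise_smul_iff.mpr h2
  intro A B hA hB
  obtain ⟨a, ha⟩ := key A hA
  obtain ⟨b, hb⟩ := key B hB
  refine ⟨b⁻¹ * a, ?_⟩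
  have h : MulAut.conj (b⁻¹ * a) • A = B := by
    rw [Coprime.conj_mul_smul, ha, ← hb, ← Coprime.conj_mul_smul, inv_mul_cancel, Coprime.conj_one_smul]
  rw [← h]
  rfl

end Cfsg.Agent.S4334
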