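import Cfsg.Statements.S4337
import Cfsg.Agent.Lib.PGroups.SmallPerm
import Mathlib

set_option autoImplicit false
open Cfsg

namespace Cfsg.Agent.S4337


theorem solvable_of_central {n : ℕ} (z x y : Equiv.Perm (Fin n))
    (hx : Commute z x) (hy : Commute z y)
    (h : Group.IsSolvable (Subgroup.closure ({x, y} : Set (Equiv.Perm (Fin n))))) :
    Group.IsSolvable (Subgroup.closure ({z, x, y} : Set (Equiv.Perm (Fin n)))) := by
  set K := Subgroup.closure ({x, y} : Set (Equiv.Perm (Fin n)))
  set H := Subgroup.closure ({z, x, y} : Set (Equiv.Perm (Fin n)))
  have hcz : K ≤ Subgroup.centralizer ({z} : Set (Equiv.Perm (Fin n))) := by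
    rw [Subgroup.closure_le]
    rintro w (rfl | rfl)
    · exact Subgroup.mem_centralizer_singleton_iff.mpr hx.symm.eq
    · exact Subgroup.mem_centralizer_singleton_iff.mpr hy.symm.eq
  have hcomm : ∀ (a : Subgroup.zpowers z) (b : K), Commute ((Subgroup.zpowers z).subtype a) (K.subtype b) := by
    rintro ⟨a, i, rfl⟩ ⟨b, hb⟩
    exact (Commute.zpow_left (Subgroup.mem_centralizer_singleton_iff.mp (hcz hb) : Commute b z).symm i)
  let f := MonoidHom.noncommCoprod (Subgroup.zpowers z).subtype K.subtype hcomm
  haveI := h
  haveI : Group.IsSolvable (Subgroup.zpowers z) := Group.isSolvable_of_comm (fun a b => mul_comm' a b)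
  haveI : Group.IsSolvable f.range := Group.isSolvable_of_surjective f.rangeRestrict_surjective
  refine Group.isSolvable_of_isSolvable_injective (f := Subgroup.inclusion (?_ : H ≤ f.range)) (Subgroup.inclusion_injective _)
  rw [Subgroup.closure_le]
  rintro w (rfl | rfl | rfl)
  · exact ⟨(⟨w, Subgroup.mem_zpowers w⟩, 1), by simp [f]⟩
  · exact ⟨(1, ⟨w, Subgroup.subset_closure (Or.inl rfl)⟩), by simp [f]⟩
  · exact ⟨(1, ⟨w, Subgroup.subset_closure (Or.inr rfl)⟩), by simp [f]⟩

theorem support_closure {n : ℕ} (S : Set (Equiv.Perm (Fin n))) (s : Finset (Fin n))
    (hS : ∀ w ∈ S, w.support ⊆ s) : ∀ σ ∈ Subgroup.closure S, σ.support ⊆ s := by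
  intro σ hσ
  induction hσ using Subgroup.closure_induction with
  | mem w hw => exact hS w hw
  | one => simp
  | mul a b _ _ iha ihb => exact (Equiv.Perm.support_mul_le a b).trans (Finset.union_subset iha ihb)
  | inv a _ iha => simpa using iha

theorem two_swaps {n : ℕ} (x y : Equiv.Perm (Fin n)) (hx : x.IsSwap) (hy : y.IsSwap) :
    Group.IsSolvable (Subgroup.closure ({x, y} : Set (Equiv.Perm (Fin n)))) := by
  apply Cfsg.Agent.Lib.PGroups.isSolvable_of_support_le_four (x.support ∪ y.support)
  · have h1 := Equiv.Perm.card_support_eq_two.mpr hx
    have h2 := Equiv.Perm.card_support_eq_two.mpr hy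
    have := Finset.card_union_le x.support y.support
    omega
  · apply support_closure
    rintro w (rfl | rfl)
    · exact Finset.subset_union_left
    · exact Finset.subset_union_right


/-- In a finite symmetric group, any three transpositions generate a solvable subgroup. -/
theorem result (n : ℕ) (a b c : Equiv.Perm (Fin n))
    (ha : a.IsSwap) (hb : b.IsSwap) (hc : c.IsSwap) :
    Group.IsSolvable (Subgroup.closure ({a, b, c} : Set (Equiv.Perm (Fin n)))) := by

  classical
  by_cases hab : Disjoint a.support b.support
  · by_cases hac : Disjoint a.support c.support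
    · exact solvable_of_central a b c (Equiv.Perm.disjoint_iff_disjoint_support.mpr hab).commute
        (Equiv.Perm.disjoint_iff_disjoint_support.mpr hac).commute (two_swaps b c hb hc)
    · by_cases hbc : Disjoint b.support c.support
      · have h := solvable_of_central b a c (Equiv.Perm.disjoint_iff_disjoint_support.mpr hab.symm).commute
          (Equiv.Perm.disjoint_iff_disjoint_support.mpr hbc).commute (two_swaps a c ha hc)
        rwa [show ({a, b, c} : Set (Equiv.Perm (Fin n))) = {b, a, c} from Set.insert_comm _ _ _]
      · apply Cfsg.Agent.Lib.PGroups.isSolvable_of_support_le_four (a.support ∪ b.support ∪ c.support)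
        · have := Equiv.Perm.card_support_eq_two.mpr ha
          have := Equiv.Perm.card_support_eq_two.mpr hb
          have := Equiv.Perm.card_support_eq_two.mpr hc
          have h1 := Finset.card_union_add_card_inter (a.support ∪ b.support) c.support
          have h2 := Finset.card_union_of_disjoint hab
          have h3 : 2 ≤ ((a.support ∪ b.support) ∩ c.support).card := by
            rw [Finset.union_inter_distrib_right, Finset.card_union_of_disjoint
              (hab.mono Finset.inter_subset_left Finset.inter_subset_left)]
            have h4 := Finset.card_pos.mpr (Finset.not_disjoint_iff_nonempty_inter.mp hac)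
            have h5 := Finset.card_pos.mpr (Finset.not_disjoint_iff_nonempty_inter.mp hbc)
            omega
          omega
        · apply support_closure
          rintro w (rfl | rfl | rfl)
          · exact Finset.subset_union_left.trans Finset.subset_union_left
          · exact Finset.subset_union_right.trans Finset.subset_union_left
          · exact Finset.subset_union_right
  · by_cases hc' : Disjoint c.support (a.support ∪ b.support)
    · rw [Finset.disjoint_union_right] at hc'
      have h := solvable_of_central c a b (Equiv.Perm.disjoint_iff_disjoint_support.mpr hc'.1).commute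
        (Equiv.Perm.disjoint_iff_disjoint_support.mpr hc'.2).commute (two_swaps a b ha hb)
      rwa [show ({a, b, c} : Set (Equiv.Perm (Fin n))) = {c, a, b} by ext; simp; tauto]
    · apply Cfsg.Agent.Lib.PGroups.isSolvable_of_support_le_four (a.support ∪ b.support ∪ c.support)
      · have := Equiv.Perm.card_support_eq_two.mpr ha
        have := Equiv.Perm.card_support_eq_two.mpr hb
        have := Equiv.Perm.card_support_eq_two.mpr hc
        have h1 := Finset.card_union_add_card_inter (a.support ∪ b.support) c.support
        have h2 := Finset.card_union_add_card_inter a.support b.support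
        have h3 := Finset.card_pos.mpr (Finset.not_disjoint_iff_nonempty_inter.mp hab)
        have h4 := Finset.card_pos.mpr (Finset.not_disjoint_iff_nonempty_inter.mp (fun h => hc' (Disjoint.symm h)))
        omega
      · apply support_closure
        rintro w (rfl | rfl | rfl)
        · exact Finset.subset_union_left.trans Finset.subset_union_left
        · exact Finset.subset_union_right.trans Finset.subset_union_left
        · exact Finset.subset_union_right

end Cfsg.Agent.S4337
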