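import Cfsg.Statements.S4344

set_option autoImplicit false
open Cfsg

namespace Cfsg.Agent.S4344

/-- Let S be a finite non-abelian simple group, M a maximal subgroup of S and C a cyclic normal subgroup of M. If a Sylow p-subgroup P of S (for a prime p dividing the order of S) is contained in C, then the number of Sylow p-subgroups of S equals the index of M. -/
theorem result {S : Type*} [Group S] [Finite S]
    [IsSimpleGroup S] (hS : ¬ IsMulCommutative S) (p : ℕ) [Fact p.Prime] (hp : p ∣ Nat.card S)
    (M : Subgroup S) (hM : IsCoatom M) (C : Subgroup S) (hCM : C ≤ M) (hCn : (C.subgroupOf M).Normal)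
    (hC : IsCyclic C) (P : Sylow p S) (hP : (P : Subgroup S) ≤ C) :
    Nat.card (Sylow p S) = M.index := by
  haveI := hCn
  have hMne : M ≠ ⊤ := hM.1
  have hle : M ≤ Subgroup.normalizer ((P : Subgroup S) : Set S) := by
    haveI := hC
    have hchar : ((P : Subgroup S).subgroupOf C).Characteristic := by
      rw [Subgroup.characteristic_iff_map_eq]
      intro φ
      apply Subgroup.eq_of_le_of_card_ge
      · intro z hz
        obtain ⟨n, hn⟩ := MonoidHom.map_cyclic φ.toMonoidHom
        obtain ⟨w, hw, rfl⟩ := hz
        rw [hn]
        exact zpow_mem hw n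
      · rw [Subgroup.card_map_of_injective φ.injective]
    intro m hm
    rw [Subgroup.mem_normalizer_iff]
    have hC' : M ≤ Subgroup.normalizer (C : Set S) :=
      (Subgroup.normal_subgroupOf_iff_le_normalizer hCM).mp hCn
    have key : ∀ m ∈ M, ∀ h ∈ (P : Subgroup S), m * h * m⁻¹ ∈ (P : Subgroup S) := by
      intro m hm h hh
      have hmem : m ∈ Subgroup.normalizer (C : Set S) := hC' hm
      let φ : C ≃* C :=
        { toFun := fun c => ⟨m * c * m⁻¹, (Subgroup.mem_normalizer_iff.mp hmem c).mp c.2⟩
          invFun := fun c => ⟨m⁻¹ * c * m, by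
            have := (Subgroup.mem_normalizer_iff.mp (inv_mem hmem) c).mp c.2
            simpa using this⟩
          left_inv := fun c => by ext; simp [mul_assoc]
          right_inv := fun c => by ext; simp [mul_assoc]
          map_mul' := fun c d => by ext; simp [mul_assoc] }
      have := Subgroup.characteristic_iff_map_le.mp hchar φ ⟨⟨h, hP hh⟩, hh, rfl⟩
      exact this
    intro h
    refine ⟨key m hm h, fun hh => ?_⟩
    have := key m⁻¹ (inv_mem hm) _ hh
    simpa [mul_assoc] using this
  have hne : Subgroup.normalizer ((P : Subgroup S) : Set S) ≠ ⊤ := by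
    intro htop
    have hn : (P : Subgroup S).Normal := Subgroup.normalizer_eq_top_iff.mp htop
    rcases hn.eq_bot_or_eq_top with h | h
    · exact P.ne_bot_of_dvd_card hp h
    · exact hMne (top_le_iff.mp (h ▸ hP.trans hCM))
  rw [P.card_eq_index_normalizer]
  congr 1
  rcases lt_or_eq_of_le hle with h | h
  · exact absurd (hM.2 _ h) hne
  · exact h.symm

end Cfsg.Agent.S4344
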