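import Cfsg.Statements.S4345
import Cfsg.Agent.Lib.PGroups.SylowInduction

set_option autoImplicit false
open Cfsg

namespace Cfsg.Agent.S4345

/-- Let G be a finite solvable group and p, ℓ primes. Then the largest power of ℓ dividing the number of Sylow p-subgroups of G is congruent to 1 modulo p. -/
theorem result {G : Type*} [Group G] [Finite G]
    (hG : Group.IsSolvable G) (p ℓ : ℕ) [Fact p.Prime] (hℓ : ℓ.Prime) :
    ℓ ^ (Nat.card (Sylow p G)).factorization ℓ ≡ 1 [MOD p] := by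
  suffices h : Nat.card (Sylow p G) ≠ 0 ∧
      ∀ q : ℕ, q.Prime → q ^ (Nat.card (Sylow p G)).factorization q ≡ 1 [MOD p] from h.2 ℓ hℓ
  refine Cfsg.Agent.Lib.PGroups.sylow_number_induction p (fun G _ => Group.IsSolvable G)
    (fun G _ _ H h => by haveI := h; infer_instance)
    (fun G _ _ N _ h => by haveI := h; infer_instance)
    (fun n => n ≠ 0 ∧ ∀ q : ℕ, q.Prime → q ^ n.factorization q ≡ 1 [MOD p])
    ⟨one_ne_zero, fun q _ => by simp [Nat.ModEq]⟩ ?_ ?_ (fun n hn h => ⟨hn, h⟩) G hG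
  · rintro a b ⟨ha, ha'⟩ ⟨hb, hb'⟩
    refine ⟨Nat.mul_ne_zero ha hb, fun q hq => ?_⟩
    rw [Nat.factorization_mul ha hb, Finsupp.add_apply, pow_add]
    simpa using (ha' q hq).mul (hb' q hq)
  · intro S _ _ _ hS
    haveI := hS
    obtain ⟨P⟩ : Nonempty (Sylow p S) := inferInstance
    have hc : ∀ a b : S, a * b = b * a := IsSimpleGroup.comm_iff_isSolvable.mpr hS
    haveI : (P : Subgroup S).Normal := ⟨fun x hx g => by
      rw [hc g x, mul_inv_cancel_right]; exact hx⟩
    rw [Cfsg.Agent.Lib.PGroups.card_sylow_eq_index P, Subgroup.normalizer_eq_top, Subgroup.index_top]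
    exact ⟨one_ne_zero, fun q _ => by simp [Nat.ModEq]⟩

end Cfsg.Agent.S4345
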