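import Cfsg.Statements.S4347

set_option autoImplicit false
open Cfsg

namespace Cfsg.Agent.S4347

/-- Let G be a finite group and p a prime. Say a Sylow p-subgroup Q is redundant when every element of p-power order lies in some Sylow p-subgroup other than Q. Then G has no redundant Sylow p-subgroup if and only if some element of p-power order lies in exactly one Sylow p-subgroup. -/
theorem result {G : Type*} [Group G] [Finite G]
    (p : ℕ) [Fact p.Prime] :
    (¬ ∃ Q : Sylow p G, ∀ x : G, (∃ k : ℕ, orderOf x = p ^ k) → ∃ P : Sylow p G, P ≠ Q ∧ x ∈ P) ↔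
      ∃ x : G, (∃ k : ℕ, orderOf x = p ^ k) ∧ ∃! P : Sylow p G, x ∈ P := by
  constructor
  · intro h
    by_contra hc
    push Not at hc
    obtain ⟨Q⟩ : Nonempty (Sylow p G) := inferInstance
    refine h ⟨Q, fun x hx => ?_⟩
    by_contra hc2
    push Not at hc2
    obtain ⟨k, hk⟩ := hx
    have hP : IsPGroup p (Subgroup.zpowers x) := IsPGroup.of_card (n := k) (by rw [Nat.card_zpowers, hk])
    obtain ⟨R, hR⟩ := hP.exists_le_sylow
    have hxR : x ∈ R := hR (Subgroup.mem_zpowers x)
    exact hc x ⟨k, hk⟩ ⟨R, hxR, fun S hS => by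
      by_cases h1 : S = Q
      · by_cases h2 : R = Q
        · rw [h1, h2]
        · exact absurd hxR (hc2 R h2)
      · exact absurd hS (hc2 S h1)⟩
  · rintro ⟨x, hx, P, hP, huniq⟩ ⟨Q, hQ⟩
    obtain ⟨R, hR, hxR⟩ := hQ x hx
    by_cases h : P = Q
    · exact hR ((huniq R hxR).trans h)
    · obtain ⟨k, hk⟩ := hx
      -- every Sylow subgroup contains an element outside `P`, so use `Q`'s private element
      have : ∀ S : Sylow p G, ∃ g : G, g • P = S := fun S => MulAction.exists_smul_eq G P S
      obtain ⟨g, hg⟩ := this Q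
      have hgx : g * x * g⁻¹ ∈ Q := by
        rw [← hg, Sylow.smul_def]
        exact ⟨x, hP, rfl⟩
      obtain ⟨S, hSQ, hgS⟩ := hQ (g * x * g⁻¹) ⟨k, by
        rw [← MulAut.conj_apply, MulEquiv.orderOf_eq, hk]⟩
      have hxS : x ∈ g⁻¹ • S := by
        rw [Sylow.smul_def]
        exact ⟨g * x * g⁻¹, hgS, by simp [MulAut.conj_apply, mul_assoc]⟩
      have := huniq _ hxS
      exact hSQ (by rw [← hg, ← this, smul_inv_smul])

end Cfsg.Agent.S4347
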