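import Cfsg.Statements.S4348
import Cfsg.Agent.Lib.Cores.PCore
import Mathlib

set_option autoImplicit false
open Cfsg

namespace Cfsg.Agent.S4348

/-- Let G be a finite group, p a prime and P a Sylow p-subgroup of G, and let O_p(G) be the largest normal p-subgroup of G. If P/O_p(G) is cyclic, then some element of p-power order of G lies in exactly one Sylow p-subgroup. -/
theorem result {G : Type*} [Group G] [Finite G]
    (p : ℕ) [Fact p.Prime] (P : Sylow p G)
    [hn : ((Cfsg.pCore p G).subgroupOf (P : Subgroup G)).Normal]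
    (hc : IsCyclic ((P : Subgroup G) ⧸ (Cfsg.pCore p G).subgroupOf (P : Subgroup G))) :
    ∃ x : G, (∃ k : ℕ, orderOf x = p ^ k) ∧ ∃! Q : Sylow p G, x ∈ Q := by

  have hle : ∀ Q : Sylow p G, Cfsg.pCore p G ≤ (Q : Subgroup G) := by
    intro Q
    exact Cfsg.Agent.Lib.Cores.pCore_le_sylow Q
  obtain ⟨g, hg⟩ := hc.exists_generator
  obtain ⟨x, rfl⟩ := QuotientGroup.mk'_surjective _ g
  refine ⟨x, ?_, P, x.2, fun Q hQ => ?_⟩
  · obtain ⟨k, hk⟩ := (IsPGroup.iff_orderOf.mp P.2) x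
    exact ⟨k, by simpa using hk⟩
  have hPQ : (P : Subgroup G) ≤ Q := by
    intro y hy
    obtain ⟨n, hn'⟩ := hg (QuotientGroup.mk' _ ⟨y, hy⟩)
    simp only [← map_zpow] at hn'
    have h1 := (QuotientGroup.eq.mp hn')
    rw [Subgroup.mem_subgroupOf] at h1
    have h2 : (x : G) ^ n ∈ (Q : Subgroup G) := Subgroup.zpow_mem _ hQ n
    have h3 := Subgroup.mul_mem _ h2 (hle Q h1)
    simpa using h3
  exact (Sylow.ext (P.3 Q.2 hPQ)).symm ▸ rfl

end Cfsg.Agent.S4348
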