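import Cfsg.Statements.S4354
import Cfsg.Agent.Lib.PGroups.SylowNumber

set_option autoImplicit false
open Cfsg

namespace Cfsg.Agent.S4354

open Cfsg.Agent.Lib
open scoped Pointwise

/-- Every `p`-element has class size prime to `p`. -/
def PElemsCentralize (p : ℕ) (G : Type*) [Group G] : Prop :=
  ∀ x : G, (∃ k : ℕ, orderOf x = p ^ k) → ¬ p ∣ (Subgroup.centralizer ({x} : Set G)).index

variable {G : Type*} [Group G] [Finite G] {p : ℕ} [Fact p.Prime]

theorem exists_sylow_centralizing {x : G} (hx : ∃ k : ℕ, orderOf x = p ^ k) (h : PElemsCentralize p G) :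
    ∃ Q : Sylow p G, x ∈ (Q : Subgroup G) ∧ ∀ q ∈ (Q : Subgroup G), q * x = x * q := by
  set C := Subgroup.centralizer ({x} : Set G) with hC
  let Q₀ : Sylow p C := default
  obtain ⟨Q, hQ⟩ := (Q₀.2.map C.subtype).exists_le_sylow
  have hcard : Nat.card (Q : Subgroup G) = Nat.card ((Q₀ : Subgroup C).map C.subtype) := by
    rw [Subgroup.card_map_of_injective C.subtype_injective, Q.card_eq_multiplicity,
      Q₀.card_eq_multiplicity, ← C.card_mul_index, Nat.factorization_mul Nat.card_pos.ne'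
        C.index_ne_zero_of_finite, Finsupp.add_apply, Nat.factorization_eq_zero_of_not_dvd (h x hx),
      add_zero]
  have hQC : (Q : Subgroup G) ≤ C := by
    rw [← Subgroup.eq_of_le_of_card_ge hQ hcard.le]
    exact Subgroup.map_subtype_le _
  have hQx : ∀ q ∈ (Q : Subgroup G), q * x = x * q := fun q hq =>
    Subgroup.mem_centralizer_singleton_iff.mp (hQC hq)
  obtain ⟨k, hk⟩ := hx
  have hsup : IsPGroup p ((Subgroup.zpowers x ⊔ (Q : Subgroup G) : Subgroup G)) := by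
    refine IsPGroup.to_sup_of_normal_left' (IsPGroup.of_card (by rw [Nat.card_zpowers, hk])) Q.2 ?_
    refine le_trans ?_ (Subgroup.centralizer_le_normalizer _)
    intro q hq
    rw [Subgroup.mem_centralizer_iff]
    intro y hy
    obtain ⟨i, rfl⟩ := Subgroup.mem_zpowers_iff.mp hy
    exact ((show Commute q x from hQx q hq).zpow_right i).eq.symm
  refine ⟨Q, ?_, hQx⟩
  rw [← Q.3 hsup le_sup_right]
  exact Subgroup.mem_sup_left (Subgroup.mem_zpowers x)

theorem inherit_normal (h : PElemsCentralize p G) (N : Subgroup G) [N.Normal] : PElemsCentralize p N := by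
  intro x hx hdvd
  obtain ⟨k, hk⟩ := hx
  obtain ⟨Q, -, hQ⟩ := exists_sylow_centralizing (x := (x : G)) ⟨k, (Subgroup.orderOf_coe x).trans hk⟩ h
  obtain ⟨Qn, hQn⟩ := PGroups.exists_sylow_eq_inf Q N
  refine Qn.not_dvd_index (hdvd.trans (Subgroup.index_dvd_of_le fun q hq => ?_))
  rw [hQn] at hq
  exact Subgroup.mem_centralizer_singleton_iff.mpr (Subtype.ext (hQ q hq.1))

theorem inherit_quotient (h : PElemsCentralize p G) (N : Subgroup G) [N.Normal] :
    PElemsCentralize p (G ⧸ N) := by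
  intro x hx hdvd
  obtain ⟨k, hk⟩ := hx
  obtain ⟨P, hP⟩ := IsPGroup.exists_le_sylow (P := Subgroup.zpowers x)
    (IsPGroup.of_card (by rw [Nat.card_zpowers, hk]))
  obtain ⟨P₀, hP₀⟩ := Sylow.mapSurjective_surjective (QuotientGroup.mk'_surjective N) p P
  have hxP : x ∈ (P₀ : Subgroup G).map (QuotientGroup.mk' N) := by
    rw [← Sylow.coe_mapSurjective (QuotientGroup.mk'_surjective N) P₀, hP₀]
    exact hP (Subgroup.mem_zpowers x)
  obtain ⟨g, hg, rfl⟩ := hxP
  obtain ⟨j, hj⟩ := (IsPGroup.iff_orderOf.mp P₀.2) ⟨g, hg⟩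
  refine h g ⟨j, by rw [← hj, Subgroup.orderOf_mk]⟩ ?_
  refine hdvd.trans (Dvd.dvd.trans (Subgroup.index_dvd_of_le ?_)
    (Subgroup.index_map_dvd (H := Subgroup.centralizer ({g} : Set G)) (QuotientGroup.mk'_surjective N)))
  rintro _ ⟨c, hc, rfl⟩
  rw [Subgroup.mem_centralizer_singleton_iff, ← map_mul, ← map_mul,
    Subgroup.mem_centralizer_singleton_iff.mp hc]

theorem inf_central (h : PElemsCentralize p G) (P : Sylow p G) (N : Subgroup G) [N.Normal]
    (hab : ∀ S : Sylow p N, IsMulCommutative S) :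
    ∀ t ∈ (P : Subgroup G) ⊓ N, ∀ x ∈ (P : Subgroup G), t * x = x * t := by
  set T := (P : Subgroup G) ⊓ N with hT
  set π := QuotientGroup.mk' N with hπ
  set M := ((P : Subgroup G).map π).comap π with hM
  obtain ⟨Pn, hPn⟩ := PGroups.exists_sylow_eq_inf P N
  have hTc : ∀ s ∈ T, ∀ t ∈ T, s * t = t * s := by
    intro s hs t ht
    have hs' : (⟨s, hs.2⟩ : N) ∈ (Pn : Subgroup N) := by rw [hPn]; exact hs
    have ht' : (⟨t, ht.2⟩ : N) ∈ (Pn : Subgroup N) := by rw [hPn]; exact ht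
    have := (hab Pn).is_comm.comm ⟨_, hs'⟩ ⟨_, ht'⟩
    exact congrArg (fun z : (Pn : Subgroup N) => ((z : N) : G)) this
  set C := M ⊓ Subgroup.centralizer (T : Set G) with hC
  have hmapC : C.map π = (P : Subgroup G).map π := by
    refine le_antisymm ?_ ?_
    · exact (Subgroup.map_mono inf_le_left).trans (Subgroup.map_comap_le _ _)
    rintro _ ⟨x, hx, rfl⟩
    obtain ⟨k, hk⟩ := IsPGroup.iff_orderOf.mp P.2 ⟨x, hx⟩
    obtain ⟨Q, -, hQx⟩ := exists_sylow_centralizing (x := x) ⟨k, by rw [← hk, Subgroup.orderOf_mk]⟩ h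
    obtain ⟨Qn, hQn⟩ := PGroups.exists_sylow_eq_inf Q N
    obtain ⟨m, hm⟩ := MulAction.exists_smul_eq N Qn Pn
    refine ⟨(m : G) * x * (m : G)⁻¹, ⟨?_, ?_⟩, ?_⟩
    · show π _ ∈ (P : Subgroup G).map π
      refine ⟨x, hx, ?_⟩
      simp [hπ, (QuotientGroup.eq_one_iff (m : G)).mpr m.2]
    · refine Subgroup.mem_centralizer_iff.mpr fun t ht => ?_
      have ht' : (⟨t, ht.2⟩ : N) ∈ (Pn : Subgroup N) := by rw [hPn]; exact ht
      rw [← hm] at ht'
      obtain ⟨q, hq, hqe⟩ := ht'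
      rw [SetLike.mem_coe, hQn] at hq
      have hqx : Commute (q : G) x := hQx q hq.1
      have hte : t = (m : G) * q * (m : G)⁻¹ := (congrArg Subtype.val hqe).symm
      rw [hte]
      calc (m : G) * q * (m : G)⁻¹ * ((m : G) * x * (m : G)⁻¹) = m * ((q : G) * x) * (m : G)⁻¹ := by group
        _ = m * (x * (q : G)) * (m : G)⁻¹ := by rw [hqx.eq]
        _ = _ := by group
    · simp [hπ, (QuotientGroup.eq_one_iff (m : G)).mpr m.2]
  let R₀ : Sylow p C := default
  have hR₀ : ((R₀ : Subgroup C).map C.subtype).map π = (P : Subgroup G).map π := by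
    set f := π.subgroupMap C with hf
    have hfs : Function.Surjective f := π.subgroupMap_surjective C
    have hCp : IsPGroup p (C.map π) := hmapC ▸ P.2.map π
    have htop : (R₀ : Subgroup C).map f = ⊤ := by
      rw [← Sylow.coe_mapSurjective hfs R₀]
      exact (R₀.mapSurjective hfs).3 (IsPGroup.of_equiv hCp Subgroup.topEquiv.symm) le_top |>.symm
    rw [← hmapC]
    refine le_antisymm (Subgroup.map_mono (Subgroup.map_subtype_le _)) ?_
    intro y hy
    obtain ⟨r, hr, hre⟩ : (⟨y, hy⟩ : C.map π) ∈ (R₀ : Subgroup C).map f := htop ▸ Subgroup.mem_top _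
    exact ⟨r, ⟨r, hr, rfl⟩, congrArg Subtype.val hre⟩
  set R := T ⊔ (R₀ : Subgroup C).map C.subtype with hR
  have hcentT : R ≤ Subgroup.centralizer (T : Set G) := by
    refine sup_le (fun s hs => Subgroup.mem_centralizer_iff.mpr fun t ht => hTc t ht s hs) ?_
    exact (Subgroup.map_subtype_le _).trans inf_le_right
  have hTR : T ≤ Subgroup.centralizer (R : Set G) := Subgroup.le_centralizer_iff.mp hcentT
  have hRp : IsPGroup p R := IsPGroup.to_sup_of_normal_left' (P.2.to_le inf_le_left) (R₀.2.map _)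
    ((le_sup_right.trans hcentT).trans (Subgroup.centralizer_le_normalizer _))
  obtain ⟨Q, hQ⟩ := hRp.exists_le_sylow
  obtain ⟨Qn, hQn⟩ := PGroups.exists_sylow_eq_inf Q N
  have hTQ : (Q : Subgroup G) ⊓ N = T := by
    have h1 : (Qn : Subgroup N) = Pn := by
      refine Pn.3 Qn.2 ?_
      rw [hPn, hQn]
      exact Subgroup.comap_mono (le_inf (le_sup_left.trans hQ) inf_le_right)
    rw [hQn, hPn, Subgroup.subgroupOf_inj, inf_assoc, inf_idem, ← hT] at h1
    rw [h1, hT, inf_assoc, inf_idem]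
  have hQR : (Q : Subgroup G) ≤ R := by
    intro q hq
    have hqm : π q ∈ (Q : Subgroup G).map π := ⟨q, hq, rfl⟩
    have hle : (P : Subgroup G).map π ≤ (Q : Subgroup G).map π :=
      hR₀ ▸ Subgroup.map_mono (le_sup_right.trans hQ)
    rw [← Sylow.coe_mapSurjective (QuotientGroup.mk'_surjective N) P,
      ← Sylow.coe_mapSurjective (QuotientGroup.mk'_surjective N) Q] at hle
    have heq := (P.mapSurjective (QuotientGroup.mk'_surjective N)).3
      (Q.mapSurjective (QuotientGroup.mk'_surjective N)).2 hle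
    simp only [Sylow.coe_mapSurjective] at heq
    rw [heq, ← hR₀] at hqm
    obtain ⟨r, hr, hre⟩ := hqm
    have hrn : r⁻¹ * q ∈ N := (QuotientGroup.eq_one_iff _).mp (by
      rw [QuotientGroup.mk_mul, QuotientGroup.mk_inv]
      exact inv_mul_eq_one.mpr hre)
    have hrT : r⁻¹ * q ∈ T := hTQ ▸ ⟨(Q : Subgroup G).mul_mem ((Q : Subgroup G).inv_mem (hQ (Subgroup.mem_sup_right hr))) hq, hrn⟩
    have := mul_mem (Subgroup.mem_sup_right (S := T) hr) (Subgroup.mem_sup_left (T := (R₀ : Subgroup C).map C.subtype) hrT)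
    rwa [mul_inv_cancel_left] at this
  obtain ⟨g, hg⟩ := MulAction.exists_smul_eq G Q P
  intro t ht x hx
  obtain ⟨htP, htN⟩ := ht
  rw [← hg] at htP hx
  obtain ⟨t', ht', rfl⟩ := htP
  obtain ⟨x', hx', rfl⟩ := hx
  have ht'N : t' ∈ N := by
    have := (inferInstance : N.Normal).conj_mem _ htN g⁻¹
    simpa [MulAut.conj_apply, mul_assoc] using this
  have ht'T : t' ∈ T := hTQ ▸ ⟨ht', ht'N⟩
  have hc : x' * t' = t' * x' := Subgroup.mem_centralizer_iff.mp (hTR ht'T) x' (hQR hx')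
  simp only [MulDistribMulAction.toMonoidEnd_apply, MulDistribMulAction.toMonoidHom_apply]
  rw [← smul_mul', ← smul_mul', hc]

theorem sylow_abelian (h : PElemsCentralize p G) (N : Subgroup G) [N.Normal]
    (hab : ∀ S : Sylow p N, IsMulCommutative S) (hab' : ∀ S : Sylow p (G ⧸ N), IsMulCommutative S)
    (P : Sylow p G) : IsMulCommutative P := by
  have hT := inf_central h P N hab
  set π := QuotientGroup.mk' N with hπ
  have hπs : Function.Surjective π := QuotientGroup.mk'_surjective N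
  set Pb := P.mapSurjective hπs with hPb
  haveI := hab' Pb
  refine ⟨⟨fun ⟨x, hx⟩ ⟨y, hy⟩ => Subtype.ext ?_⟩⟩
  show x * y = y * x
  obtain ⟨k, hk⟩ := IsPGroup.iff_orderOf.mp P.2 ⟨x, hx⟩
  obtain ⟨Q, hxQ, hQx⟩ := exists_sylow_centralizing (x := x) ⟨k, by rw [← hk, Subgroup.orderOf_mk]⟩ h
  obtain ⟨g, hg⟩ := MulAction.exists_smul_eq G Q P
  set c := g * x * g⁻¹ with hc
  have hcP : c ∈ (P : Subgroup G) := by rw [← hg]; exact ⟨x, hxQ, rfl⟩
  have hcc : ∀ z ∈ (P : Subgroup G), z * c = c * z := by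
    intro z hz
    rw [← hg] at hz
    obtain ⟨q, hq, rfl⟩ := hz
    show g * q * g⁻¹ * (g * x * g⁻¹) = g * x * g⁻¹ * (g * q * g⁻¹)
    calc g * q * g⁻¹ * (g * x * g⁻¹) = g * (q * x) * g⁻¹ := by group
      _ = g * (x * q) * g⁻¹ := by rw [hQx q hq]
      _ = _ := by group
  have hxb : π x ∈ (Pb : Subgroup (G ⧸ N)) := ⟨x, hx, rfl⟩
  have hcb : π c ∈ (Pb : Subgroup (G ⧸ N)) := ⟨c, hcP, rfl⟩
  obtain ⟨nb, hnb, hne⟩ := Pb.conj_eq_normalizer_conj_of_mem (π x) (π g)⁻¹ hxb
    (show (π g)⁻¹⁻¹ * π x * (π g)⁻¹ ∈ (Pb : Subgroup (G ⧸ N)) by simpa [hc] using hcb)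
  obtain ⟨n, rfl⟩ := hπs nb
  set M := ((P : Subgroup G).map π).comap π with hM
  have hnP : ((n⁻¹ • P : Sylow p G) : Subgroup G) ≤ M := by
    rintro _ ⟨z, hz, rfl⟩
    show π _ ∈ (P : Subgroup G).map π
    have h1 := (Subgroup.mem_normalizer_iff.mp (inv_mem hnb) (π z)).mp ⟨z, hz, rfl⟩
    rw [hPb, Sylow.coe_mapSurjective] at h1
    simpa using h1
  obtain ⟨m, hm⟩ := MulAction.exists_smul_eq M ((n⁻¹ • P).subtype hnP) (P.subtype (Subgroup.le_comap_map π _))
  have hmn : ((m : G) * n⁻¹) • P = P := by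
    rw [Sylow.smul_subtype] at hm
    have := Sylow.subtype_injective hm
    rwa [Subgroup.smul_def, smul_smul] at this
  set u := (m : G) * n⁻¹ with hu
  have hzP : u * x * u⁻¹ ∈ (P : Subgroup G) := by
    have h0 : u * x * u⁻¹ ∈ ((u • P : Sylow p G) : Subgroup G) := ⟨x, hx, rfl⟩
    rwa [hmn] at h0
  have hzN : u * x * u⁻¹ * c⁻¹ ∈ N := by
    rw [← QuotientGroup.eq_one_iff]
    show π (u * x * u⁻¹ * c⁻¹) = 1
    have h1 : π (n⁻¹ * x * n) = π c := by
      rw [map_mul, map_mul, map_inv, ← hne, hc, map_mul, map_mul, map_inv, inv_inv]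
    have h2 : π m * π c * (π m)⁻¹ = π c := by
      rw [mul_inv_eq_iff_eq_mul]
      exact congrArg Subtype.val ((hab' Pb).is_comm.comm ⟨π m, m.2⟩ ⟨π c, hcb⟩)
    rw [hu, map_mul, map_inv, mul_inv_eq_one, ← h2, ← h1]
    simp [mul_assoc]
  have hzT : u * x * u⁻¹ * c⁻¹ ∈ (P : Subgroup G) ⊓ N := ⟨(P : Subgroup G).mul_mem hzP ((P : Subgroup G).inv_mem hcP), hzN⟩
  have hyu : u * y * u⁻¹ ∈ (P : Subgroup G) := by
    have h0 : u * y * u⁻¹ ∈ ((u • P : Sylow p G) : Subgroup G) := ⟨y, hy, rfl⟩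
    rwa [hmn] at h0
  have h3 : Commute (u * x * u⁻¹) (u * y * u⁻¹) := by
    have ha : Commute (u * x * u⁻¹ * c⁻¹) (u * y * u⁻¹) := hT _ hzT _ hyu
    have hb : Commute c (u * y * u⁻¹) := (hcc _ hyu).symm
    simpa using ha.mul_left hb
  exact ((Commute.conj_iff u).mp h3).eq


/-- Let G be a finite group and p a prime such that the Sylow p-subgroups of G are non-abelian while every element of p-power order has conjugacy class size prime to p, and suppose no nontrivial proper normal subgroup N of G has this property and no quotient G/N by such an N has it. Then G is simple. -/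
theorem result {G : Type*} [Group G] [Finite G]
    (p : ℕ) [Fact p.Prime] (h : ((∃ P : Sylow p G, ¬ IsMulCommutative P) ∧ ∀ x : G, (∃ k : ℕ, orderOf x = p ^ k) → ¬ p ∣ (Subgroup.centralizer ({x} : Set G)).index))
    (hmin : ∀ (N : Subgroup G) [N.Normal], N ≠ ⊥ → N ≠ ⊤ →
      ¬ ((∃ P : Sylow p N, ¬ IsMulCommutative P) ∧ ∀ x : N, (∃ k : ℕ, orderOf x = p ^ k) → ¬ p ∣ (Subgroup.centralizer ({x} : Set N)).index) ∧
      ¬ ((∃ P : Sylow p (G ⧸ N), ¬ IsMulCommutative P) ∧ ∀ x : (G ⧸ N), (∃ k : ℕ, orderOf x = p ^ k) → ¬ p ∣ (Subgroup.centralizer ({x} : Set (G ⧸ N))).index)) :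
    IsSimpleGroup G := by
  obtain ⟨⟨P, hP⟩, hc⟩ := h
  haveI : Nontrivial G := by
    by_contra htriv
    rw [not_nontrivial_iff_subsingleton] at htriv
    exact hP ⟨⟨fun a b => Subsingleton.elim _ _⟩⟩
  refine ⟨fun N hN => ?_⟩
  haveI := hN
  by_contra hne
  push Not at hne
  obtain ⟨h1, h2⟩ := hmin N hne.1 hne.2
  refine hP (sylow_abelian hc N (fun S => ?_) (fun S => ?_) P)
  · by_contra hS
    exact h1 ⟨⟨S, hS⟩, inherit_normal hc N⟩
  · by_contra hS
    exact h2 ⟨⟨S, hS⟩, inherit_quotient hc N⟩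

end Cfsg.Agent.S4354
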