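import Cfsg.Statements.S4355
import Cfsg.Statements.S4355
import Cfsg.Agent.Lib.PLocal.ConjCenterGroup

set_option autoImplicit false
open Cfsg

namespace Cfsg.Agent.S4355

/-- If every element of 2-power order of a finite group has a conjugacy class of odd size, then the Sylow 2-subgroups of the group are abelian. -/
theorem result {G : Type*} [Group G] [Finite G]
    (h : ∀ x : G, (∃ k : ℕ, orderOf x = 2 ^ k) → ¬ 2 ∣ (Subgroup.centralizer ({x} : Set G)).index) (P : Sylow 2 G) :
    IsMulCommutative P := by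
  refine Lib.PLocal.ConjCenter.sylow_abelian P fun x hx => ?_
  obtain ⟨k, hk⟩ := P.2 ⟨x, hx⟩
  have hk' : x ^ 2 ^ k = 1 := congrArg Subtype.val hk
  obtain ⟨j, -, hj⟩ := (Nat.dvd_prime_pow Nat.prime_two).1 (orderOf_dvd_of_pow_eq_one hk')
  have hodd := h x ⟨j, hj⟩
  set C := Subgroup.centralizer ({x} : Set G)
  obtain ⟨R⟩ : Nonempty (Sylow 2 C) := inferInstance
  obtain ⟨Q, hQ⟩ := (R.2.map C.subtype).exists_le_sylow
  refine ⟨Q, ?_⟩
  have hle : (R : Subgroup C).map C.subtype ≤ C := Subgroup.map_subtype_le _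
  suffices heq : (R : Subgroup C).map C.subtype = Q from heq ▸ hle
  refine Subgroup.eq_of_le_of_card_ge hQ ?_
  rw [Subgroup.card_map_of_injective C.subtype_injective, Q.card_eq_multiplicity, R.card_eq_multiplicity]
  refine le_of_eq ?_
  congr 1
  rw [← C.card_mul_index, Nat.factorization_mul Nat.card_pos.ne' C.index_ne_zero_of_finite,
    Finsupp.add_apply, Nat.factorization_eq_zero_of_not_dvd hodd, add_zero]

end Cfsg.Agent.S4355
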