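import Cfsg.Statements.S4359
import Cfsg.Agent.Lib.PGroups.ConjWindow

set_option autoImplicit false
open Pointwise
open Cfsg

namespace Cfsg.Agent.S4359

open Cfsg.Agent.Lib.PGroups.ConjWindow


/-- Let P be a subgroup of a finite group G and g an element such that P ∩ g⁻¹Pg is a normal subgroup of prime index p in g⁻¹Pg. Let n ≥ 1 and let K be the subgroup generated by P and its conjugates g⁻ⁱPgⁱ for i ≤ n. Suppose that g normalizes no non-identity normal subgroup of P and that P meets the center of K trivially. Then the order of P is pᵗ for some t with 1 ≤ t ≤ 3n and t ≠ 3n - 1. -/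
theorem result {G : Type*} [Group G] [Finite G]
    (P : Subgroup G) (g : G) (p : ℕ) (hp : p.Prime)
    (hN : ((P ⊓ MulAut.conj g⁻¹ • P).subgroupOf (MulAut.conj g⁻¹ • P)).Normal)
    (hidx : (P ⊓ MulAut.conj g⁻¹ • P).relIndex (MulAut.conj g⁻¹ • P) = p)
    (n : ℕ) (hn : 1 ≤ n) (K : Subgroup G) (hK : K = ⨆ i ∈ Finset.range (n + 1), MulAut.conj (g ^ i)⁻¹ • P)
    (h1 : ∀ Q : Subgroup G, Q ≤ P → (Q.subgroupOf P).Normal → MulAut.conj g • Q = Q → Q = ⊥)
    (h2 : P ⊓ (Subgroup.center K).map K.subtype = ⊥) :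
    ∃ t : ℕ, Nat.card P = p ^ t ∧ 1 ≤ t ∧ t ≤ 3 * n ∧ t ≠ 3 * n - 1 := by
  haveI : Fact p.Prime := ⟨hp⟩
  set φ : MulAut G := MulAut.conj g⁻¹ with hφ
  have hpow : ∀ i, φ ^ i = MulAut.conj (g ^ i)⁻¹ := fun i => by rw [hφ, ← map_pow, inv_pow]
  have hsm : ∀ (a : G) (S : Subgroup G), MulAut.conj a • S = S.map (MulAut.conj a).toMonoidHom := fun a S => rfl
  have hsh : ∀ i S, sh φ i S = MulAut.conj (g ^ i)⁻¹ • S := fun i S => by rw [hsm, ← hpow]
  have hP1 : MulAut.conj g⁻¹ • P = sh φ 1 P := by rw [hsh, pow_one]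
  rw [hP1] at hN hidx
  refine bound φ P hN hidx (fun Q hQ hQn hQφ => h1 Q hQ hQn ?_) n hn fun x hx hxc => ?_
  · have h := congrArg (fun S => MulAut.conj g • S) hQφ
    simp only [hsh, pow_one, smul_smul, ← map_mul, mul_inv_cancel, map_one, one_smul] at h
    exact h.symm
  · have hxK : x ∈ K := by
      rw [hK]
      refine Subgroup.mem_iSup_of_mem 0 (Subgroup.mem_iSup_of_mem (Finset.mem_range.2 (Nat.succ_pos n)) ?_)
      simpa using hx
    have hxc' : K ≤ Subgroup.centralizer ({x} : Set G) := by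
      rw [hK]
      refine iSup_le fun i => iSup_le fun hi z hz => ?_
      rw [← hsh] at hz
      exact Subgroup.mem_centralizer_singleton_iff.2 (hxc i (Nat.lt_succ_iff.1 (Finset.mem_range.1 hi)) z hz).symm
    have hxZ : x ∈ (Subgroup.center K).map K.subtype :=
      ⟨⟨x, hxK⟩, Subgroup.mem_center_iff.2 fun z => Subtype.ext
        (Subgroup.mem_centralizer_singleton_iff.1 (hxc' z.2)), rfl⟩
    have : x ∈ P ⊓ (Subgroup.center K).map K.subtype := ⟨hx, hxZ⟩
    rwa [h2, Subgroup.mem_bot] at this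

end Cfsg.Agent.S4359
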