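import Cfsg.Statements.S4364
import Cfsg.Agent.Lib.Characters.Kazarin
import Cfsg.Agent.Lib.Cores.PCore
import Cfsg.Agent.Lib.Cores.Fitting

set_option autoImplicit false
open Cfsg

namespace Cfsg.Agent.S4364

/-- A normal subgroup of order coprime to the index of a subgroup lies in it. -/
theorem le_of_normal_coprime_index {G : Type*} [Group G] [Finite G] (K C : Subgroup G) [K.Normal]
    (h : Nat.Coprime (Nat.card K) C.index) : K ≤ C := by
  have e2 : (K ⊓ C).relIndex K * K.relIndex (K ⊔ C) = (K ⊓ C).relIndex C * C.relIndex (K ⊔ C) := by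
    rw [Subgroup.relIndex_mul_relIndex _ _ _ inf_le_left le_sup_left,
      Subgroup.relIndex_mul_relIndex _ _ _ inf_le_right le_sup_right]
  have e3 : (K ⊓ C).relIndex C = K.relIndex (K ⊔ C) := by
    rw [Subgroup.inf_relIndex_right, sup_comm, Subgroup.relIndex_sup_right]
  rw [e3, mul_comm ((K ⊓ C).relIndex K)] at e2
  have e4 := Nat.eq_of_mul_eq_mul_left (Nat.pos_of_ne_zero (by
    rw [Subgroup.relIndex]; exact Subgroup.index_ne_zero_of_finite)) e2
  have hd : (K ⊓ C).relIndex K ∣ C.index := by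
    rw [e4]; exact Dvd.intro _ (Subgroup.relIndex_mul_index le_sup_right)
  have hd2 : (K ⊓ C).relIndex K ∣ Nat.card K := Subgroup.index_dvd_card _
  have h1 : (K ⊓ C).relIndex K = 1 := Nat.eq_one_of_dvd_one (h ▸ Nat.dvd_gcd hd2 hd)
  exact le_trans (Subgroup.relIndex_eq_one.mp h1) inf_le_right

/-- The case of trivial `p`-core. -/
theorem commute_conj_aux {G : Type*} [Group G] [Finite G] (p : ℕ) [Fact p.Prime]
    (hO : Cfsg.pCore p G = ⊥) (x : G) (R : Subgroup G) [R.Normal] (hR : Group.IsSolvable R)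
    (hxR : x ∈ R) {a : ℕ} (hx : (Subgroup.centralizer ({x} : Set G)).index ∣ p ^ a) (g h : G) :
    Commute (g * x * g⁻¹) (h * x * h⁻¹) := by
  set F := Cfsg.fittingSubgroup G with hF
  have hFcop : Nat.Coprime (Nat.card F) p := by
    have hle : F ≤ Cfsg.pPrimeCore p G := by
      have := Cfsg.Agent.Lib.Cores.fittingSubgroup_le_pCore_sup_pPrimeCore (G := G) p
      rwa [hO, bot_sup_eq] at this
    exact Nat.Coprime.coprime_dvd_left (Subgroup.card_dvd_of_le hle)
      (Cfsg.Agent.Lib.Cores.pPrimeCore_coprime p G)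
  have hcent : F ≤ Subgroup.centralizer ({x} : Set G) :=
    le_of_normal_coprime_index F _ (Nat.Coprime.coprime_dvd_right hx (hFcop.pow_right a))
  have hxF : x ∈ F := by
    have h1 : (⟨x, hxR⟩ : R) ∈ Subgroup.centralizer (Cfsg.fittingSubgroup R : Set R) := by
      rw [Subgroup.mem_centralizer_iff]
      intro f hf
      refine Subtype.ext ?_
      have hfF : (f : G) ∈ F :=
        Cfsg.Agent.Lib.Cores.map_subtype_fittingSubgroup_le R ⟨f, hf, rfl⟩
      exact Subgroup.mem_centralizer_singleton_iff.mp (hcent hfF)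
    exact Cfsg.Agent.Lib.Cores.map_subtype_fittingSubgroup_le R
      ⟨⟨x, hxR⟩, Cfsg.Agent.Lib.Cores.centralizer_fittingSubgroup_le hR h1, rfl⟩
  have hFn : F.Normal := inferInstance
  have h2 : Commute x (g⁻¹ * h * x * (g⁻¹ * h)⁻¹) :=
    (Subgroup.mem_centralizer_singleton_iff.mp (hcent (hFn.conj_mem x hxF (g⁻¹ * h)))).symm
  have h3 := h2.map (MulAut.conj g).toMonoidHom
  simp only [MulEquiv.coe_toMonoidHom, MulAut.conj_apply] at h3
  rwa [show g * (g⁻¹ * h * x * (g⁻¹ * h)⁻¹) * g⁻¹ = h * x * h⁻¹ by group] at h3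


/-- Let G be a finite group, p a prime and x an element whose conjugacy class has p-power size. Then for any two conjugates y and z of x, the commutator y z y⁻¹ z⁻¹ lies in O_p(G), the largest normal p-subgroup of G. -/
theorem result {G : Type*} [Group G] [Finite G] (p : ℕ) [Fact p.Prime]
    (x : G) (hx : ∃ a : ℕ, (Subgroup.centralizer ({x} : Set G)).index = p ^ a) (g h : G) :
    (g * x * g⁻¹) * (h * x * h⁻¹) * (g * x * g⁻¹)⁻¹ * (h * x * h⁻¹)⁻¹ ∈ Cfsg.pCore p G := by
  obtain ⟨a, ha⟩ := hx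
  set O := Cfsg.pCore p G
  haveI : O.Normal := inferInstance
  let π := QuotientGroup.mk' O
  have hsol := Cfsg.Agent.Lib.Characters.isSolvable_normalClosure_of_index_primePow x
    (Fact.out : p.Prime) ha
  haveI : ((Subgroup.normalClosure ({x} : Set G)).map π).Normal :=
    Subgroup.Normal.map inferInstance _ (QuotientGroup.mk'_surjective O)
  have hsol' : Group.IsSolvable ((Subgroup.normalClosure ({x} : Set G)).map π) :=
    Group.isSolvable_of_surjective (π.subgroupMap_surjective _)
  have hdvd : (Subgroup.centralizer ({π x} : Set (G ⧸ O))).index ∣ p ^ a := by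
    rw [← ha]
    refine (Subgroup.index_dvd_of_le ?_).trans
      (Subgroup.index_map_dvd (Subgroup.centralizer ({x} : Set G)) (f := π)
        (QuotientGroup.mk'_surjective O))
    rintro _ ⟨c, hc, rfl⟩
    rw [Subgroup.mem_centralizer_singleton_iff, ← map_mul, ← map_mul,
      Subgroup.mem_centralizer_singleton_iff.mp hc]
  have hc := commute_conj_aux p (Cfsg.Agent.Lib.Cores.pCore_quotient_pCore p G) (π x) _ hsol'
    ⟨x, Subgroup.subset_normalClosure rfl, rfl⟩ hdvd (π g) (π h)
  rw [← map_inv, ← map_inv, ← map_mul, ← map_mul, ← map_mul, ← map_mul] at hc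
  rw [← QuotientGroup.eq_one_iff (N := O)]
  show π _ = 1
  rw [map_mul, map_mul, map_mul, map_inv, map_inv, hc.eq]
  group

end Cfsg.Agent.S4364
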