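import Cfsg.Statements.S4365
import Mathlib

set_option autoImplicit false
open Cfsg

namespace Cfsg.Agent.S4365

universe u

open Finset
open scoped IsMulCommutative

/-- For commuting automorphisms `a`, `b` of order dividing `p`, the product of the norms of the
`p + 1` cyclic subgroups of `⟨a, b⟩`. -/
theorem norm_identity {X : Type u} [CommGroup X] (p : ℕ) [Fact p.Prime] (a b : MulAut X)
    (hab : Commute a b) (hb : b ^ p = 1) (v : X) :
    ∏ j : ZMod p, ∏ i : ZMod p, ((a * b ^ j.val) ^ i.val) v =
      v ^ p * ∏ i ∈ (Finset.univ.erase (0 : ZMod p)), (a ^ i.val) (∏ k : ZMod p, (b ^ k.val) v) := by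
  have key : ∀ i j : ZMod p, ((a * b ^ j.val) ^ i.val) v = (a ^ i.val) ((b ^ (i * j).val) v) := by
    intro i j
    rw [(hab.pow_right _).mul_pow, ← MulAut.mul_apply, ← pow_mul, ZMod.val_mul, mul_comm j.val,
      ← pow_eq_pow_mod _ hb]
  simp only [key]
  rw [Finset.prod_comm, ← Finset.mul_prod_erase _ _ (Finset.mem_univ (0 : ZMod p))]
  congr 1
  · simp [ZMod.val_zero, Finset.prod_const, Finset.card_univ]
  · refine Finset.prod_congr rfl fun i hi => ?_
    rw [map_prod]
    exact Fintype.prod_equiv (Equiv.mulLeft₀ i (Finset.mem_erase.mp hi).1) _ _ fun j => rfl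

variable {P : Type u} [Group P] [Finite P]

theorem pow_conj_formula (X : Subgroup P) [X.Normal] [IsMulCommutative X] (v : X) (y : P) :
    ∀ n : ℕ, ((v : P) * y) ^ n = ((∏ i ∈ Finset.range n, (MulAut.conjNormal y ^ i) v : X) : P) * y ^ n := by
  intro n
  induction n with
  | zero => simp
  | succ n ih =>
    rw [pow_succ, ih, Finset.prod_range_succ, Subgroup.coe_mul, ← map_pow, MulAut.conjNormal_apply,
      pow_succ]
    group

theorem main (p : ℕ) [hpf : Fact p.Prime] (hP : IsPGroup p P) (a : ℕ)
    (hcs : ∀ x : P, x ∉ Subgroup.center P → (Subgroup.centralizer ({x} : Set P)).index = p ^ a)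
    (x0 : P) : x0 ^ p ∈ Subgroup.center P := by
  classical
  by_contra hx0
  have hp : p.Prime := hpf.out
  set Z := Subgroup.center P with hZ
  have hself : ∀ x : P, x ∈ Subgroup.centralizer ({x} : Set P) := fun x =>
    Subgroup.mem_centralizer_singleton_iff.mpr rfl
  -- centralizers are maximal and minimal
  have heq : ∀ x y : P, x ∉ Z → y ∉ Z →
      Subgroup.centralizer ({x} : Set P) ≤ Subgroup.centralizer ({y} : Set P) →
      Subgroup.centralizer ({x} : Set P) = Subgroup.centralizer ({y} : Set P) := by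
    intro x y hx hy hle
    refine Subgroup.eq_of_le_of_card_ge hle (le_of_eq (Nat.eq_of_mul_eq_mul_right (pow_pos hp.pos a) ?_))
    have h1 := (Subgroup.centralizer ({x} : Set P)).card_mul_index
    have h2 := (Subgroup.centralizer ({y} : Set P)).card_mul_index
    rw [hcs x hx] at h1
    rw [hcs y hy] at h2
    omega
  have hpow : ∀ x : P, x ^ p ∉ Z →
      Subgroup.centralizer ({x} : Set P) = Subgroup.centralizer ({x ^ p} : Set P) := fun x hx =>
    heq x _ (fun h => hx (pow_mem h p)) hx fun c hc => Subgroup.mem_centralizer_singleton_iff.mpr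
      ((show Commute c x from Subgroup.mem_centralizer_singleton_iff.mp hc).pow_right p).eq
  -- an element central of order p modulo the centre
  haveI hQnt : Nontrivial (P ⧸ Z) := QuotientGroup.nontrivial_iff.mpr fun h => hx0 (h ▸ Subgroup.mem_top _)
  have hQ := hP.to_quotient Z
  haveI := hQ.center_nontrivial
  obtain ⟨wq, hwq⟩ := exists_prime_orderOf_dvd_card' (G := Subgroup.center (P ⧸ Z)) p (by
    obtain ⟨n, hn⟩ := (hQ.to_subgroup (Subgroup.center (P ⧸ Z))).exists_card_eq
    rcases Nat.eq_zero_or_pos n with h0 | h0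
    · rw [h0, pow_zero] at hn
      exact absurd hn Finite.one_lt_card.ne'
    · rw [hn]; exact dvd_pow_self p h0.ne')
  rw [← Subgroup.orderOf_coe] at hwq
  obtain ⟨w, hw⟩ := QuotientGroup.mk_surjective (wq : P ⧸ Z)
  rw [← hw] at hwq
  have hwc : ∀ g : P, Commute (g : P ⧸ Z) (w : P ⧸ Z) := fun g => by
    rw [hw]; exact Subgroup.mem_center_iff.mp wq.2 _
  have hwZ : w ∉ Z := fun h => by
    rw [(QuotientGroup.eq_one_iff w).mpr h, orderOf_one] at hwq; exact hp.one_lt.ne hwq
  have hwp : ((w : P ⧸ Z)) ^ p = 1 := by rw [← hwq, pow_orderOf_eq_one]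
  set C := Subgroup.centralizer ({w} : Set P) with hC
  have hCx : ∀ x : P, x ^ p ∉ Z → Subgroup.centralizer ({x} : Set P) = C := by
    intro x hx
    have h1 : (x * w) ^ p * (x ^ p)⁻¹ ∈ Z := by
      rw [← QuotientGroup.eq_one_iff, QuotientGroup.mk_mul, QuotientGroup.mk_inv, QuotientGroup.mk_pow,
        QuotientGroup.mk_pow, QuotientGroup.mk_mul, (hwc x).mul_pow, hwp, mul_one, mul_inv_cancel]
    have hxw : (x * w) ^ p ∉ Z := fun h => hx (by
      simpa using Z.mul_mem (Z.inv_mem h1) h)
    have h2 : Subgroup.centralizer ({(x * w) ^ p} : Set P) = Subgroup.centralizer ({x ^ p} : Set P) := by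
      ext c
      rw [Subgroup.mem_centralizer_singleton_iff, Subgroup.mem_centralizer_singleton_iff]
      have hcz : Commute c ((x * w) ^ p * (x ^ p)⁻¹) := Subgroup.mem_center_iff.mp h1 c
      constructor
      · intro h
        have := (hcz.inv_right.mul_right (show Commute c ((x * w) ^ p) from h)).eq
        simpa using this
      · intro h
        have := (hcz.mul_right (show Commute c (x ^ p) from h)).eq
        simpa using this
    have hxC : Subgroup.centralizer ({x * w} : Set P) = Subgroup.centralizer ({x} : Set P) := by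
      rw [hpow _ hxw, h2, ← hpow x hx]
    refine heq x w (fun h => hx (pow_mem h p)) hwZ fun c hc => Subgroup.mem_centralizer_singleton_iff.mpr ?_
    have hcx : Commute c x := Subgroup.mem_centralizer_singleton_iff.mp hc
    have hcxw : Commute c (x * w) := Subgroup.mem_centralizer_singleton_iff.mp (hxC.ge hc)
    have := (hcx.inv_right.mul_right hcxw).eq
    simpa using this
  have hcw : ∀ g : P, Subgroup.centralizer ({g * w * g⁻¹} : Set P) = C := by
    intro g
    have h1 : g * w * g⁻¹ * w⁻¹ ∈ Z := by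
      rw [← QuotientGroup.eq_one_iff, QuotientGroup.mk_mul, QuotientGroup.mk_mul, QuotientGroup.mk_mul,
        QuotientGroup.mk_inv, QuotientGroup.mk_inv, (hwc g).eq]
      group
    ext c
    rw [hC, Subgroup.mem_centralizer_singleton_iff, Subgroup.mem_centralizer_singleton_iff]
    have hcz : Commute c (g * w * g⁻¹ * w⁻¹) := Subgroup.mem_center_iff.mp h1 c
    constructor
    · intro h
      have := (hcz.inv_right.mul_right (show Commute c (g * w * g⁻¹) from h)).eq
      rwa [show (g * w * g⁻¹ * w⁻¹)⁻¹ * (g * w * g⁻¹) = w by group] at this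
    · intro h
      have := (hcz.mul_right (show Commute c w from h)).eq
      simpa using this
  haveI hCn : C.Normal := ⟨fun c hc g => by
    rw [← hcw g, Subgroup.mem_centralizer_singleton_iff]
    rw [hC, Subgroup.mem_centralizer_singleton_iff] at hc
    calc g * c * g⁻¹ * (g * w * g⁻¹) = g * (c * w) * g⁻¹ := by group
      _ = g * (w * c) * g⁻¹ := by rw [hc]
      _ = g * w * g⁻¹ * (g * c * g⁻¹) := by group⟩
  set X := Subgroup.centralizer (C : Set P) with hX
  haveI : X.Normal := Subgroup.normal_centralizer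
  have hXC : X ≤ C := fun v hv => Subgroup.mem_centralizer_singleton_iff.mpr
    ((Subgroup.mem_centralizer_iff.mp hv) w (hself w)).symm
  haveI : IsMulCommutative X := ⟨⟨fun u v => Subtype.ext
    (Subgroup.mem_centralizer_iff.mp v.2 (u : P) (hXC u.2))⟩⟩
  have hinX : ∀ x : P, x ^ p ∉ Z → x ∈ X := fun x hx => Subgroup.mem_centralizer_iff.mpr fun c hc =>
    Subgroup.mem_centralizer_singleton_iff.mp ((hCx x hx).ge hc)
  have hout : ∀ y : P, y ∉ X → y ^ p ∈ Z := fun y hy => by_contra fun h => hy (hinX y h)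
  have hZX : Z ≤ X := Subgroup.center_le_centralizer _
  have hx0X : x0 ∈ X := hinX x0 hx0
  -- the centralizer is abelian
  have hCX : C ≤ X := by
    intro y hy
    by_contra hyX
    have h1 : Commute x0 y := (Subgroup.mem_centralizer_iff.mp hx0X y hy).symm
    have h2 : (x0 * y) ^ p ∈ Z := hout _ fun h => hyX ((Subgroup.mul_mem_cancel_left X hx0X).mp h)
    rw [h1.mul_pow] at h2
    exact hx0 ((Subgroup.mul_mem_cancel_right Z (hout y hyX)).mp h2)
  have hXeq : C = X := le_antisymm hCX hXC
  have hidx : X.index = p ^ a := by rw [← hXeq, hC, hcs w hwZ]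
  -- norms land in the centre
  have hnorm : ∀ y : P, y ∉ X → ∀ v : X,
      ((∏ i ∈ Finset.range p, (MulAut.conjNormal y ^ i) v : X) : P) ∈ Z := by
    intro y hy v
    have h1 : ((v : P) * y) ^ p ∈ Z := hout _ fun h => hy ((Subgroup.mul_mem_cancel_left X v.2).mp h)
    rw [pow_conj_formula] at h1
    exact (Subgroup.mul_mem_cancel_right Z (hout y hy)).mp h1
  have hact : ∀ g h : P, (g : P ⧸ X) = h → (MulAut.conjNormal g : MulAut X) = MulAut.conjNormal h := by
    intro g h hgh
    have hmem := QuotientGroup.eq.mp hgh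
    ext v
    simp only [MulAut.conjNormal_apply]
    have : g⁻¹ * h * v = v * (g⁻¹ * h) := congrArg Subtype.val (mul_comm' (⟨_, hmem⟩ : X) v)
    calc g * v * g⁻¹ = g * (v * (g⁻¹ * h)) * h⁻¹ := by group
      _ = g * (g⁻¹ * h * v) * h⁻¹ := by rw [this]
      _ = h * v * h⁻¹ := by group
  -- the quotient by X has order p
  haveI hQXnt : Nontrivial (P ⧸ X) := QuotientGroup.nontrivial_iff.mpr fun h => hwZ (by
    rw [hZ, Subgroup.mem_center_iff]
    intro g
    exact Subgroup.mem_centralizer_singleton_iff.mp (hXC (h ▸ Subgroup.mem_top g)))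
  have hQX := hP.to_quotient X
  haveI := hQX.center_nontrivial
  obtain ⟨uq, huq⟩ := exists_ne (1 : Subgroup.center (P ⧸ X))
  obtain ⟨u, hu⟩ := QuotientGroup.mk_surjective (uq : P ⧸ X)
  have huX : u ∉ X := fun h => huq (Subtype.ext (by
    rw [Subgroup.coe_one, ← hu]; exact (QuotientGroup.eq_one_iff u).mpr h))
  have hupX : (u : P ⧸ X) ^ p = 1 := by
    rw [← QuotientGroup.mk_pow, QuotientGroup.eq_one_iff]; exact hZX (hout u huX)
  have hall : ∀ y : P, (y : P ⧸ X) ∈ Subgroup.zpowers (u : P ⧸ X) := by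
    intro y
    by_contra hy
    set A : MulAut X := MulAut.conjNormal y with hA
    set B : MulAut X := MulAut.conjNormal u with hB
    have hAB : Commute A B := by
      rw [hA, hB]
      show _ * _ = _ * _
      rw [← map_mul, ← map_mul]
      refine hact _ _ ?_
      rw [QuotientGroup.mk_mul, QuotientGroup.mk_mul, hu]
      exact Subgroup.mem_center_iff.mp uq.2 _
    have hBp : B ^ p = 1 := by
      rw [hB, ← map_pow, hact (u ^ p) 1 (by rw [QuotientGroup.mk_pow, hupX]; rfl), map_one]
    have hsum : ∀ (g : P) (t : X), ∏ i : ZMod p, ((MulAut.conjNormal g : MulAut X) ^ i.val) t =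
        ∏ i ∈ Finset.range p, ((MulAut.conjNormal g : MulAut X) ^ i) t := by
      intro g t
      refine Finset.prod_bij (fun i _ => i.val) (fun i _ => Finset.mem_range.mpr i.val_lt)
        (fun i _ j _ h => ZMod.val_injective p h)
        (fun i hi => ⟨(i : ZMod p), Finset.mem_univ _, ?_⟩) (fun i _ => rfl)
      rw [ZMod.val_natCast, Nat.mod_eq_of_lt (Finset.mem_range.mp hi)]
    have key : ((x0 : P) ^ p) ∈ Z := by
      have h := norm_identity p A B hAB hBp (⟨x0, hx0X⟩ : X)
      have hl : ((∏ j : ZMod p, ∏ i : ZMod p, ((A * B ^ j.val) ^ i.val) (⟨x0, hx0X⟩ : X) : X) : P) ∈ Z := by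
        refine Finset.prod_induction _ (fun t : X => (t : P) ∈ Z) (fun r s hr hs => Z.mul_mem hr hs)
          Z.one_mem fun j _ => ?_
        rw [hA, hB, ← map_pow, ← map_mul, hsum]
        refine hnorm _ (fun hm => hy ?_) _
        have h1 : (y : P ⧸ X) * (u : P ⧸ X) ^ j.val = 1 := by
          rw [← QuotientGroup.mk_pow, ← QuotientGroup.mk_mul]; exact (QuotientGroup.eq_one_iff _).mpr hm
        rw [eq_inv_of_mul_eq_one_left h1]
        exact inv_mem (pow_mem (Subgroup.mem_zpowers _) _)
      have hr : ∀ i : ZMod p, (((A ^ i.val) (∏ k : ZMod p, (B ^ k.val) (⟨x0, hx0X⟩ : X)) : X) : P) ∈ Z := by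
        intro i
        rw [hA, ← map_pow, MulAut.conjNormal_apply, hB, hsum]
        have hn := hnorm u huX ⟨x0, hx0X⟩
        rw [Subgroup.mem_center_iff.mp hn (y ^ i.val), mul_inv_cancel_right]
        exact hn
      rw [h, Subgroup.coe_mul] at hl
      exact (Subgroup.mul_mem_cancel_right Z (Finset.prod_induction _ (fun t : X => (t : P) ∈ Z)
        (fun r s hr hs => Z.mul_mem hr hs) Z.one_mem fun i _ => hr i)).mp hl
    exact hx0 key
  have hidxp : X.index = p := by
    have htop : Subgroup.zpowers (u : P ⧸ X) = ⊤ := by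
      rw [eq_top_iff]
      intro q _
      obtain ⟨y, rfl⟩ := QuotientGroup.mk_surjective q
      exact hall y
    rw [Subgroup.index_eq_card, ← Subgroup.card_top (G := P ⧸ X), ← htop, Nat.card_zpowers]
    exact orderOf_eq_prime hupX fun h => huX ((QuotientGroup.eq_one_iff u).mp h)
  -- final count
  set D := Subgroup.centralizer ({u} : Set P) with hD
  have hDX : X.subgroupOf D ≤ Z.subgroupOf D := by
    intro d hd
    rw [Subgroup.mem_subgroupOf] at hd ⊢
    by_contra hdZ
    have h1 : Subgroup.centralizer ({(d : P)} : Set P) = C :=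
      (heq w _ hwZ hdZ fun c hc => Subgroup.mem_centralizer_singleton_iff.mpr
        (Subgroup.mem_centralizer_iff.mp hd c hc)).symm
    refine huX (hXeq ▸ h1 ▸ Subgroup.mem_centralizer_singleton_iff.mpr ?_)
    exact (Subgroup.mem_centralizer_singleton_iff.mp d.2).symm
  have hrel : Z.relIndex D ≤ p := by
    refine (Nat.le_of_dvd (Nat.pos_of_ne_zero Subgroup.index_ne_zero_of_finite)
      (Subgroup.index_dvd_of_le hDX)).trans ?_
    show X.relIndex D ≤ p
    rw [← hidxp, ← Subgroup.relIndex_top_right]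
    exact Subgroup.relIndex_le_of_le_right le_top Subgroup.index_ne_zero_of_finite
  have hDc : Nat.card D = Nat.card X := by
    have h1 := D.card_mul_index
    have h2 := X.card_mul_index
    rw [hD, hcs u fun h => huX (hZX h)] at h1
    rw [hidx] at h2
    exact Nat.eq_of_mul_eq_mul_right (pow_pos hp.pos a) (h1.trans h2.symm)
  have hZD : Z ≤ D := Subgroup.center_le_centralizer _
  have hrel2 : Z.relIndex X ≤ p := by
    have h1 := (Z.subgroupOf X).card_mul_index
    have h2 := (Z.subgroupOf D).card_mul_index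
    rw [Nat.card_congr (Subgroup.subgroupOfEquivOfLe hZX).toEquiv] at h1
    rw [Nat.card_congr (Subgroup.subgroupOfEquivOfLe hZD).toEquiv, hDc] at h2
    have h3 := Nat.eq_of_mul_eq_mul_left Nat.card_pos (h1.trans h2.symm)
    show (Z.subgroupOf X).index ≤ p
    rw [h3]; exact hrel
  haveI : (Z.subgroupOf X).Normal := inferInstance
  obtain ⟨n, hn⟩ := (hP.to_subgroup X).index (Z.subgroupOf X)
  have hn1 : n ≤ 1 := (Nat.pow_le_pow_iff_right hp.one_lt).mp (by rw [pow_one, ← hn]; exact hrel2)
  refine hx0 ?_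
  have h := Subgroup.pow_index_mem (Z.subgroupOf X) (⟨x0, hx0X⟩ : X)
  rw [hn, Subgroup.mem_subgroupOf] at h
  interval_cases n
  · exact pow_mem (by simpa using h) p
  · simpa using h

/-- Let P be a finite p-group whose conjugacy class sizes are exactly 1 and pᵃ for some a ≥ 1. Then every element of P has its p-th power in the center of P (P/Z(P) has exponent p). -/
theorem result {P : Type*} [Group P] [Finite P] (p : ℕ) [Fact p.Prime]
    (hP : IsPGroup p P) (a : ℕ) (ha : 1 ≤ a)
    (hcs : {k : ℕ | ∃ x : P, (Subgroup.centralizer ({x} : Set P)).index = k} = {1, p ^ a}) (x : P) :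
    x ^ p ∈ Subgroup.center P := by
  refine main p hP a (fun y hy => ?_) x
  have h : (Subgroup.centralizer ({y} : Set P)).index ∈ ({1, p ^ a} : Set ℕ) := hcs ▸ ⟨y, rfl⟩
  rcases h with h | h
  · refine absurd (Subgroup.mem_center_iff.mpr fun g => ?_) hy
    exact Subgroup.mem_centralizer_singleton_iff.mp ((Subgroup.index_eq_one.mp h).ge (Subgroup.mem_top g))
  · exact h

end Cfsg.Agent.S4365
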