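import Cfsg.Statements.S4370
import Cfsg.Agent.Lib.Frobenius.UniqueSubgroup
import Cfsg.Agent.Lib.InvChar.QuaternionFactor
import Cfsg.Agent.Lib.Solvable.Schmidt
import Mathlib

set_option autoImplicit false
open Cfsg

namespace Cfsg.Agent.S4370

open Cfsg.Agent.Lib
open Cfsg.Agent.Lib.InvChar.QFactor

universe u

variable {G : Type u} [Group G] [Finite G]

theorem mem_zpowers_of_cyclic {C : Subgroup G} [IsCyclic C] {p : ℕ} (hp : p.Prime) {a b : G}
    (ha : a ∈ C) (hb : b ∈ C) (hao : orderOf a = p) (hbo : orderOf b = p) :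
    a ∈ Subgroup.zpowers b := by
  classical
  haveI := Fintype.ofFinite C
  set b' : C := ⟨b, hb⟩ with hb'
  have hb'o : orderOf b' = p := by rw [hb', Subgroup.orderOf_mk, hbo]
  have hsub : (Finset.univ.filter fun y : C => y ∈ Subgroup.zpowers b') ⊆
      Finset.univ.filter fun y : C => y ^ p = 1 := by
    intro y hy
    simp only [Finset.mem_filter, Finset.mem_univ, true_and] at hy ⊢
    obtain ⟨k, rfl⟩ := Subgroup.mem_zpowers_iff.mp hy
    rw [← zpow_natCast, ← zpow_mul, mul_comm, zpow_mul, zpow_natCast, ← hb'o,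
      pow_orderOf_eq_one, one_zpow]
  have hc : (Finset.univ.filter fun y : C => y ∈ Subgroup.zpowers b').card = p := by
    rw [← Fintype.card_subtype, ← Nat.card_eq_fintype_card]
    exact (Nat.card_zpowers b').trans hb'o
  have heq := Finset.eq_of_subset_of_card_le hsub
    ((IsCyclic.card_pow_eq_one_le (α := C) hp.pos).trans hc.ge)
  have : (⟨a, ha⟩ : C) ∈ Subgroup.zpowers b' := by
    have h1 : (⟨a, ha⟩ : C) ∈ Finset.univ.filter fun y : C => y ^ p = 1 := by
      simp only [Finset.mem_filter, Finset.mem_univ, true_and]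
      exact Subtype.ext (by rw [← hao]; exact pow_orderOf_eq_one a)
    rw [← heq] at h1
    exact (Finset.mem_filter.mp h1).2
  obtain ⟨k, hk⟩ := Subgroup.mem_zpowers_iff.mp this
  exact Subgroup.mem_zpowers_iff.mpr ⟨k, congrArg Subtype.val hk⟩

/-- Centralizers of non-central elements of a generalized quaternion group are cyclic. -/
theorem quat_centralizer_cyclic {k : ℕ} (hk : 1 ≤ k) {q : QuaternionGroup (2 ^ k)}
    (hq : ¬ ∀ u, Commute q u) :
    IsCyclic (Subgroup.centralizer ({q} : Set (QuaternionGroup (2 ^ k)))) := by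
  have hm : 0 < 2 ^ k := Nat.two_pow_pos k
  haveI : NeZero (2 ^ k) := ⟨hm.ne'⟩
  haveI := Fact.mk Nat.prime_two
  have hP : IsPGroup 2 (QuaternionGroup (2 ^ k)) := IsPGroup.of_card (n := k + 2) (by
    rw [Nat.card_eq_fintype_card, QuaternionGroup.card]; ring)
  have hcomm : ∀ u v : Subgroup.centralizer ({q} : Set (QuaternionGroup (2 ^ k))), Commute u v :=
    fun u v => Subtype.ext (commute_trans hm
      (Subgroup.mem_centralizer_singleton_iff.mp u.2).symm
      (Subgroup.mem_centralizer_singleton_iff.mp v.2).symm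
      (fun h => hq fun w => commute_center (Or.inl h) w)
      (fun h => hq fun w => commute_center (Or.inr h) w)).eq
  have huniq : ∀ u v : Subgroup.centralizer ({q} : Set (QuaternionGroup (2 ^ k))),
      orderOf u = 2 → orderOf v = 2 → u ∈ Subgroup.zpowers v := by
    intro u v hu hv
    have key : ∀ w : Subgroup.centralizer ({q} : Set (QuaternionGroup (2 ^ k))), orderOf w = 2 →
        (w : QuaternionGroup (2 ^ k)) = QuaternionGroup.a ((2 ^ k : ℕ) : ZMod (2 * 2 ^ k)) := by
      intro w hw
      rw [← Subgroup.orderOf_coe] at hw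
      refine (eq_of_mul_self hm ?_).resolve_left fun h => ?_
      · have h2 := pow_orderOf_eq_one (w : QuaternionGroup (2 ^ k))
        rw [← pow_two]
        rwa [hw] at h2
      · rw [h, orderOf_one] at hw; omega
    rw [Subtype.ext ((key u hu).trans (key v hv).symm)]
    exact Subgroup.mem_zpowers v
  rcases Frobenius.isCyclic_or_quaternion_of_unique (hP.to_subgroup _) huniq with h | ⟨-, m, ⟨e⟩⟩
  · exact h
  · refine absurd (fun u v => ?_) (not_central (n := m + 1) (Nat.le_add_left 1 m))
    simpa using (hcomm (e.symm u) (e.symm v)).map e.toMonoidHom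

theorem backward (k c : ℕ) (hk : 1 ≤ k) (hc : Odd c)
    (e : G ≃* QuaternionGroup (2 ^ k) × Multiplicative (ZMod c)) (x : G) (hx : x ∉ Subgroup.center G) :
    IsCyclic (Subgroup.centralizer ({x} : Set G)) := by
  haveI : NeZero c := ⟨fun h => by rw [h] at hc; exact Nat.not_odd_zero hc⟩
  haveI : NeZero (2 ^ k) := ⟨(Nat.two_pow_pos k).ne'⟩
  have hq : ¬ ∀ u, Commute (e x).1 u := fun h => hx (Subgroup.mem_center_iff.mpr fun g =>
    e.injective (by rw [map_mul, map_mul]; exact Prod.ext (h (e g).1).symm.eq (mul_comm _ _)))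
  haveI := quat_centralizer_cyclic hk hq
  set C1 := Subgroup.centralizer ({(e x).1} : Set (QuaternionGroup (2 ^ k))) with hC1
  have hcop : (Nat.card C1).Coprime (Nat.card (⊤ : Subgroup (Multiplicative (ZMod c)))) := by
    refine Nat.Coprime.coprime_dvd_left (Subgroup.card_subgroup_dvd_card C1) ?_
    rw [Subgroup.card_top, Nat.card_eq_fintype_card, QuaternionGroup.card, Nat.card_congr Multiplicative.toAdd,
      Nat.card_zmod, show 4 * 2 ^ k = 2 ^ (k + 2) by ring]
    exact (Nat.coprime_two_left.mpr hc).pow_left _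
  haveI : IsCyclic (⊤ : Subgroup (Multiplicative (ZMod c))) := inferInstance
  haveI : IsCyclic (C1.prod (⊤ : Subgroup (Multiplicative (ZMod c)))) :=
    (Subgroup.prodEquiv C1 ⊤).isCyclic.mpr (Group.isCyclic_prod_iff.mpr ⟨inferInstance, inferInstance, hcop⟩)
  have hmap : (Subgroup.centralizer ({x} : Set G)).map e.toMonoidHom = C1.prod ⊤ := by
    ext y
    obtain ⟨g, rfl⟩ := e.surjective y
    rw [Subgroup.mem_map_equiv, MulEquiv.symm_apply_apply, Subgroup.mem_prod, hC1,
      Subgroup.mem_centralizer_singleton_iff, Subgroup.mem_centralizer_singleton_iff]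
    refine ⟨fun h => ⟨?_, Subgroup.mem_top _⟩, fun h => e.injective ?_⟩
    · exact congrArg Prod.fst (show e g * e x = e x * e g by rw [← map_mul, ← map_mul, h])
    · rw [map_mul, map_mul]
      exact Prod.ext h.1 (mul_comm _ _)
  exact ((e.subgroupMap _).trans (MulEquiv.subgroupCongr hmap)).isCyclic.mpr inferInstance

theorem forward (hG : Group.IsNilpotent G) (hna : ¬ IsMulCommutative G)
    (h : ∀ x : G, x ∉ Subgroup.center G → IsCyclic (Subgroup.centralizer ({x} : Set G))) :
    ∃ (k m : ℕ), 1 ≤ k ∧ Odd m ∧ Nonempty (G ≃* QuaternionGroup (2 ^ k) × Multiplicative (ZMod m)) := by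
  classical
  haveI := hG
  have hnorm : ∀ (q : ℕ) [Fact q.Prime] (Q : Sylow q G), (Q : Subgroup G).Normal := fun q _ Q =>
    Sylow.normal_of_normalizerCondition Group.normalizerCondition_of_isNilpotent Q
  -- a Sylow subgroup containing a non-central element
  have hidx : (Subgroup.center G).index ≠ 1 := fun h1 => hna ⟨⟨fun a b => by
    have : b ∈ Subgroup.center G := (Subgroup.index_eq_one.mp h1) ▸ Subgroup.mem_top b
    exact (Subgroup.mem_center_iff.mp this a)⟩⟩
  obtain ⟨p, hp, hpd⟩ := Nat.exists_prime_and_dvd hidx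
  haveI := Fact.mk hp
  obtain ⟨P⟩ : Nonempty (Sylow p G) := inferInstance
  haveI := hnorm p P
  obtain ⟨x, hxP, hxZ⟩ := SetLike.not_le_iff_exists.mp fun hle : (P : Subgroup G) ≤ Subgroup.center G =>
    P.not_dvd_index (hpd.trans (Subgroup.index_dvd_of_le hle))
  haveI hCx := h x hxZ
  letI : CommGroup (Subgroup.centralizer ({x} : Set G)) := IsCyclic.commGroup
  -- the other Sylow subgroups are central
  have hcen : ∀ (q : ℕ) [Fact q.Prime] (Q : Sylow q G), q ≠ p → (Q : Subgroup G) ≤ Subgroup.center G := by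
    intro q _ Q hqp y hy
    have hQx : (Q : Subgroup G) ≤ Subgroup.centralizer ({x} : Set G) := fun v hv =>
      Subgroup.mem_centralizer_singleton_iff.mpr
        (Subgroup.mem_centralizer_iff.mp (Solvable.Schmidt.commute_of_coprime_orderOf hqp Q.2 P.2 hv) x hxP).symm
    rw [← Subgroup.centralizer_univ, Subgroup.mem_centralizer_iff]
    suffices (⊤ : Subgroup G) ≤ Subgroup.centralizer ({y} : Set G) from fun g _ =>
      Subgroup.mem_centralizer_singleton_iff.mp (this (Subgroup.mem_top g))
    rw [top_le_iff, ← Subgroup.index_eq_one]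
    refine Nat.eq_one_iff_not_exists_prime_dvd.mpr fun r hr hrd => ?_
    haveI := Fact.mk hr
    obtain ⟨R⟩ : Nonempty (Sylow r G) := inferInstance
    refine R.not_dvd_index (hrd.trans (Subgroup.index_dvd_of_le fun v hv => ?_))
    rw [Subgroup.mem_centralizer_singleton_iff]
    by_cases hrq : r = q
    · subst hrq
      haveI := hnorm r Q
      haveI := Sylow.unique_of_normal Q inferInstance
      have hvQ : v ∈ (Q : Subgroup G) := (Subsingleton.elim R Q) ▸ hv
      exact congrArg Subtype.val (mul_comm (⟨v, hQx hvQ⟩ : Subgroup.centralizer ({x} : Set G)) ⟨y, hQx hy⟩)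
    · exact (Subgroup.mem_centralizer_iff.mp
        (Solvable.Schmidt.commute_of_coprime_orderOf hrq R.2 Q.2 hv) y hy).symm
  -- the p-complement
  obtain ⟨H, hH⟩ := Subgroup.exists_left_complement'_of_coprime P.card_coprime_index
  have hHc : Nat.card H = (P : Subgroup G).index := hH.index_eq_card.symm
  have hHZ : H ≤ Subgroup.center G := by
    intro v hv
    have h1 : orderOf (v : G ⧸ Subgroup.center G) ∣ (P : Subgroup G).index :=
      (orderOf_map_dvd (QuotientGroup.mk' _) v).trans (hHc ▸ Subgroup.orderOf_dvd_natCard H hv)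
    have h2 : orderOf (v : G ⧸ Subgroup.center G) ∣ (Subgroup.center G).index :=
      (orderOf_dvd_natCard _).trans (dvd_of_eq (Subgroup.index_eq_card _).symm)
    refine (QuotientGroup.eq_one_iff v).mp (orderOf_eq_one_iff.mp (Nat.eq_one_iff_not_exists_prime_dvd.mpr fun r hr hrd => ?_))
    haveI := Fact.mk hr
    by_cases hrp : r = p
    · subst hrp; exact P.not_dvd_index (hrd.trans h1)
    · obtain ⟨R⟩ : Nonempty (Sylow r G) := inferInstance
      exact R.not_dvd_index ((hrd.trans h2).trans (Subgroup.index_dvd_of_le (hcen r R hrp)))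
  have hHx : H ≤ Subgroup.centralizer ({x} : Set G) := hHZ.trans (Subgroup.center_le_centralizer _)
  haveI hHcyc : IsCyclic H :=
    (Subgroup.subgroupOfEquivOfLe hHx).isCyclic.mp inferInstance
  have hcm : ∀ (a : (P : Subgroup G)) (b : H), Commute (a : G) b := fun a b =>
    Subgroup.mem_center_iff.mp (hHZ b.2) a
  let φ : ↥(P : Subgroup G) × ↥H →* G := MonoidHom.noncommCoprod (P : Subgroup G).subtype H.subtype hcm
  have hφ : Function.Bijective φ := hH.symm
  let e : ↥(P : Subgroup G) × ↥H ≃* G := MulEquiv.ofBijective φ hφ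
  -- a central element of order p
  have hPne : (P : Subgroup G) ≠ ⊥ := fun h0 => hxZ (by
    rw [h0, Subgroup.mem_bot] at hxP; rw [hxP]; exact one_mem _)
  haveI : Nontrivial (P : Subgroup G) := (Subgroup.nontrivial_iff_ne_bot _).mpr hPne
  haveI := P.2.center_nontrivial
  obtain ⟨z, hz⟩ := exists_prime_orderOf_dvd_card' (G := Subgroup.center (P : Subgroup G)) p (by
    obtain ⟨n, hn⟩ := (P.2.to_subgroup (Subgroup.center (P : Subgroup G))).exists_card_eq
    rcases Nat.eq_zero_or_pos n with h0 | h0
    · rw [h0, pow_zero] at hn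
      exact absurd hn Finite.one_lt_card.ne'
    · rw [hn]; exact dvd_pow_self p h0.ne')
  rw [← Subgroup.orderOf_coe, ← Subgroup.orderOf_coe] at hz
  have hzZ : ((z : (P : Subgroup G)) : G) ∈ Subgroup.center G := by
    rw [Subgroup.mem_center_iff]
    intro g
    obtain ⟨⟨a, b⟩, rfl⟩ := e.surjective g
    have h1 : Commute (a : G) ((z : (P : Subgroup G)) : G) :=
      congrArg Subtype.val (Subgroup.mem_center_iff.mp z.2 a)
    exact (h1.mul_left (hcm (z : (P : Subgroup G)) b).symm).eq
  have hall : ∀ a : (P : Subgroup G), orderOf a = p → (a : G) ∈ Subgroup.center G := by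
    intro a ha
    rw [← Subgroup.orderOf_coe] at ha
    by_contra haZ
    haveI := h a haZ
    exact haZ ((Subgroup.zpowers_le.mpr hzZ) (mem_zpowers_of_cyclic (C := Subgroup.centralizer ({(a : G)} : Set G))
      hp (Subgroup.mem_centralizer_singleton_iff.mpr rfl) (Subgroup.center_le_centralizer _ hzZ) ha hz))
  have huniq : ∀ a b : (P : Subgroup G), orderOf a = p → orderOf b = p → a ∈ Subgroup.zpowers b := by
    intro a b ha hb
    have hZx := Subgroup.center_le_centralizer ({x} : Set G)
    obtain ⟨k, hk⟩ := Subgroup.mem_zpowers_iff.mp (mem_zpowers_of_cyclic (C := Subgroup.centralizer ({x} : Set G)) hp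
      (hZx (hall a ha)) (hZx (hall b hb)) (by rw [Subgroup.orderOf_coe, ha]) (by rw [Subgroup.orderOf_coe, hb]))
    exact Subgroup.mem_zpowers_iff.mpr ⟨k, Subtype.ext hk⟩
  rcases Frobenius.isCyclic_or_quaternion_of_unique P.2 huniq with hcy | ⟨rfl, m, ⟨eP⟩⟩
  · refine absurd ?_ hna
    haveI := hcy
    letI : CommGroup (P : Subgroup G) := IsCyclic.commGroup
    letI : CommGroup H := IsCyclic.commGroup
    exact ⟨⟨fun a b => e.symm.injective (by rw [map_mul, map_mul, mul_comm])⟩⟩
  · have hodd : Odd (Nat.card H) := by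
      rw [hHc]; exact Nat.odd_iff.mpr (Nat.two_dvd_ne_zero.mp P.not_dvd_index)
    haveI : NeZero (Nat.card H) := ⟨Nat.card_pos.ne'⟩
    have eH : H ≃* Multiplicative (ZMod (Nat.card H)) :=
      mulEquivOfCyclicCardEq (by rw [Nat.card_congr Multiplicative.toAdd, Nat.card_zmod])
    exact ⟨m + 1, Nat.card H, Nat.le_add_left 1 m, hodd, ⟨e.symm.trans (eP.prodCongr eH)⟩⟩

/-- Let G be a finite non-abelian nilpotent group. Then the centralizer of every non-central element of G is cyclic if and only if G is isomorphic to the direct product of a generalized quaternion group and a cyclic group of odd order. -/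
theorem result {G : Type*} [Group G] [Finite G] (hG : Group.IsNilpotent G)
    (hna : ¬ IsMulCommutative G) :
    (∀ x : G, x ∉ Subgroup.center G → IsCyclic (Subgroup.centralizer ({x} : Set G))) ↔
      ∃ (k m : ℕ), 1 ≤ k ∧ Odd m ∧ Nonempty (G ≃* QuaternionGroup (2 ^ k) × Multiplicative (ZMod m)) := by
  refine ⟨forward hG hna, ?_⟩
  rintro ⟨k, c, hk, hc, ⟨e⟩⟩ x hx
  exact backward k c hk hc e x hx

end Cfsg.Agent.S4370
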