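import Cfsg.Statements.S4377

set_option autoImplicit false
open Cfsg

namespace Cfsg.Agent.S4377

/-- Two finite groups have the same number of elements of each order if and only if, for every n, they have the same number of elements g with gⁿ = 1. -/
theorem result {G H : Type*} [Group G] [Finite G] [Group H] [Finite H] :
    (∀ n : ℕ, Nat.card {g : G // orderOf g = n} = Nat.card {h : H // orderOf h = n}) ↔
      ∀ n : ℕ, Nat.card {g : G // g ^ n = 1} = Nat.card {h : H // h ^ n = 1} := by
  classical
  haveI := Fintype.ofFinite G
  haveI := Fintype.ofFinite H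
  have conv : ∀ (n : ℕ), 0 < n →
      (Nat.card {g : G // g ^ n = 1} = ∑ d ∈ n.divisors, Nat.card {g : G // orderOf g = d}) ∧
      (Nat.card {g : H // g ^ n = 1} = ∑ d ∈ n.divisors, Nat.card {g : H // orderOf g = d}) := by
    intro n hn
    simp only [Nat.card_eq_fintype_card, Fintype.card_subtype]
    exact ⟨(sum_card_orderOf_eq_card_pow_eq_one (G := G) hn.ne').symm,
      (sum_card_orderOf_eq_card_pow_eq_one (G := H) hn.ne').symm⟩
  constructor
  · intro h n
    rcases Nat.eq_zero_or_pos n with rfl | hn
    · rw [Nat.card_congr (Equiv.subtypeUnivEquiv fun x => pow_zero x),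
        Nat.card_congr (Equiv.subtypeUnivEquiv fun x => pow_zero x),
        Nat.card_eq_fintype_card, Nat.card_eq_fintype_card]
      have key : ∀ m : ℕ, Fintype.card G ∣ m → Fintype.card H ∣ m → 0 < m →
          Fintype.card G = Fintype.card H := by
        intro m hG hH hm
        have h1 := (conv m hm).1
        have h2 := (conv m hm).2
        rw [Finset.sum_congr rfl (fun d _ => h d), ← h2] at h1
        have a : Nat.card {g : G // g ^ m = 1} = Fintype.card G := by
          rw [← Nat.card_eq_fintype_card]
          exact Nat.card_congr (Equiv.subtypeUnivEquiv fun x => by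
            obtain ⟨c, rfl⟩ := hG; rw [pow_mul, pow_card_eq_one, one_pow])
        have b : Nat.card {g : H // g ^ m = 1} = Fintype.card H := by
          rw [← Nat.card_eq_fintype_card]
          exact Nat.card_congr (Equiv.subtypeUnivEquiv fun x => by
            obtain ⟨c, rfl⟩ := hH; rw [pow_mul, pow_card_eq_one, one_pow])
        omega
      exact key (Fintype.card G * Fintype.card H) (dvd_mul_right _ _) (dvd_mul_left _ _)
        (Nat.mul_pos Fintype.card_pos Fintype.card_pos)
    · rw [(conv n hn).1, (conv n hn).2]
      exact Finset.sum_congr rfl (fun d _ => h d)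
  · intro h n
    induction n using Nat.strong_induction_on with
    | _ n ih =>
      rcases Nat.eq_zero_or_pos n with rfl | hn
      · have z : ∀ (x : G), ¬ orderOf x = 0 := fun x => (orderOf_pos x).ne'
        have z' : ∀ (x : H), ¬ orderOf x = 0 := fun x => (orderOf_pos x).ne'
        simp [Nat.card_eq_fintype_card, Fintype.card_subtype, z, z']
      · have hs := h n
        rw [(conv n hn).1, (conv n hn).2, ← Finset.insert_erase (Nat.mem_divisors_self n hn.ne'),
          Finset.sum_insert (by simp), Finset.sum_insert (by simp)] at hs
        have hrest : ∑ d ∈ n.divisors.erase n, Nat.card {g : G // orderOf g = d} =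
            ∑ d ∈ n.divisors.erase n, Nat.card {g : H // orderOf g = d} := by
          refine Finset.sum_congr rfl fun d hd => ih d ?_
          rw [Finset.mem_erase, Nat.mem_divisors] at hd
          exact lt_of_le_of_ne (Nat.le_of_dvd hn hd.2.1) hd.1
        omega

end Cfsg.Agent.S4377
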