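import Cfsg.Statements.S4376
import Cfsg.Agent.Lib.PGroups.OrderType
import Cfsg.Agent.S4377
import Mathlib

set_option autoImplicit false
open Cfsg

namespace Cfsg.Agent.S4376

open scoped commutatorElement
open Cfsg.Agent.Lib.PGroups.OrderType

/-- lookup in a table indexed by the divisors of `84` -/
def tbl (l : List ℕ) (d : ℕ) : ℕ :=
  l.getD ([1, 2, 3, 4, 6, 7, 12, 14, 21, 28, 42, 84].idxOf d) 0

def d4char {m : ℕ} (a : ZMod m) : DihedralGroup 4 → ZMod m
  | .r i => a ^ i.val
  | .sr i => a ^ i.val

abbrev s7 {H : Type} [Group H] (c : H → ZMod 7) (h1 : c 1 = 1) (hm : ∀ g h, c (g * h) = c g * c h) :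
    Act H (ZMod 7) := scalar 7 c h1 hm

def rot (v : ZMod 7 × ZMod 7) : ZMod 7 × ZMod 7 := (-v.2, v.1)

def rotAct : Act (Multiplicative (ZMod 12)) (ZMod 7 × ZMod 7) where
  f h v := rot^[(3 * h.toAdd.val) % 4] v
  f_one := by decide +kernel
  f_mul := by decide +kernel
  f_add := by decide +kernel

def actC2 : Act (Multiplicative (ZMod 2)) (ZMod 1) := scalar 1 (fun _ => 1) (by decide) (by decide)

theorem hasFC2 : HasF actC2.G (tbl [1, 2, 1, 2, 2, 1, 2, 2, 1, 2, 2, 2]) := by
  refine hasF_of _ (fun d hd => ?_) ?_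
  · rw [Act.card_pow_eq_one]
    revert d
    decide +kernel
  · rw [Nat.card_congr SemidirectProduct.equivProd, Nat.card_prod, Nat.card_congr Multiplicative.toAdd]
    simp [Nat.card_eq_fintype_card]
    decide +kernel

def actS3 : Act (Multiplicative (ZMod 2)) (ZMod 3) := scalar 3 (fun h => 2 ^ h.toAdd.val) (by decide) (by decide)

theorem hasFS3 : HasF actS3.G (tbl [1, 4, 3, 4, 6, 1, 6, 4, 3, 4, 6, 6]) := by
  refine hasF_of _ (fun d hd => ?_) ?_
  · rw [Act.card_pow_eq_one]
    revert d
    decide +kernel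
  · rw [Nat.card_congr SemidirectProduct.equivProd, Nat.card_prod, Nat.card_congr Multiplicative.toAdd]
    simp [Nat.card_eq_fintype_card]
    decide +kernel

def actC7 : Act (Multiplicative (ZMod 7)) (ZMod 1) := scalar 1 (fun _ => 1) (by decide) (by decide)

theorem hasFC7 : HasF actC7.G (tbl [1, 1, 1, 1, 1, 7, 1, 7, 7, 7, 7, 7]) := by
  refine hasF_of _ (fun d hd => ?_) ?_
  · rw [Act.card_pow_eq_one]
    revert d
    decide +kernel
  · rw [Nat.card_congr SemidirectProduct.equivProd, Nat.card_prod, Nat.card_congr Multiplicative.toAdd]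
    simp [Nat.card_eq_fintype_card]
    decide +kernel

def actF21 : Act (Multiplicative (ZMod 3)) (ZMod 7) := scalar 7 (fun h => 2 ^ h.toAdd.val) (by decide) (by decide)

theorem hasFF21 : HasF actF21.G (tbl [1, 1, 15, 1, 15, 7, 15, 7, 21, 7, 21, 21]) := by
  refine hasF_of _ (fun d hd => ?_) ?_
  · rw [Act.card_pow_eq_one]
    revert d
    decide +kernel
  · rw [Nat.card_congr SemidirectProduct.equivProd, Nat.card_prod, Nat.card_congr Multiplicative.toAdd]
    simp [Nat.card_eq_fintype_card]
    decide +kernel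

def actT24 : Act (DihedralGroup 4) (ZMod 3) := scalar 3 (d4char (-1)) (by decide) (by decide +kernel)

theorem hasFT24 : HasF actT24.G (tbl [1, 10, 3, 16, 18, 1, 24, 10, 3, 16, 18, 24]) := by
  refine hasF_of _ (fun d hd => ?_) ?_
  · rw [Act.card_pow_eq_one]
    revert d
    decide +kernel
  · rw [Nat.card_congr SemidirectProduct.equivProd, Nat.card_prod, Nat.card_congr Multiplicative.toAdd]
    simp [Nat.card_eq_fintype_card]
    decide +kernel

def actG28 : Act (Multiplicative (ZMod 4)) (ZMod 7) := scalar 7 (fun h => (-1) ^ h.toAdd.val) (by decide) (by decide +kernel)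

theorem hasFG28 : HasF actG28.G (tbl [1, 2, 1, 16, 2, 7, 16, 14, 7, 28, 14, 28]) := by
  refine hasF_of _ (fun d hd => ?_) ?_
  · rw [Act.card_pow_eq_one]
    revert d
    decide +kernel
  · rw [Nat.card_congr SemidirectProduct.equivProd, Nat.card_prod, Nat.card_congr Multiplicative.toAdd]
    simp [Nat.card_eq_fintype_card]
    decide +kernel

def actG56 : Act (Multiplicative (ZMod 2) × Multiplicative (ZMod 4)) (ZMod 7) := scalar 7 (fun h => (-1) ^ h.1.toAdd.val) (by decide) (by decide +kernel)

theorem hasFG56 : HasF actG56.G (tbl [1, 16, 1, 32, 16, 7, 32, 28, 7, 56, 28, 56]) := by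
  refine hasF_of _ (fun d hd => ?_) ?_
  · rw [Act.card_pow_eq_one]
    revert d
    decide +kernel
  · rw [Nat.card_congr SemidirectProduct.equivProd, Nat.card_prod, Nat.card_congr Multiplicative.toAdd]
    simp [Nat.card_eq_fintype_card]
    decide +kernel

def actG84 : Act (Multiplicative (ZMod 12)) (ZMod 7) := scalar 7 (fun h => 3 ^ h.toAdd.val) (by decide) (by decide +kernel)

theorem hasFG84 : HasF actG84.G (tbl [1, 2, 15, 16, 30, 7, 72, 14, 21, 28, 42, 84]) := by
  refine hasF_of _ (fun d hd => ?_) ?_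
  · rw [Act.card_pow_eq_one]
    revert d
    decide +kernel
  · rw [Nat.card_congr SemidirectProduct.equivProd, Nat.card_prod, Nat.card_congr Multiplicative.toAdd]
    simp [Nat.card_eq_fintype_card]
    decide +kernel

def actG98a : Act (Multiplicative (ZMod 2)) (ZMod 7) := s7 (fun h => (-1) ^ h.toAdd.val) (by decide) (by decide +kernel)

def actG98b : Act (Multiplicative (ZMod 2)) (ZMod 7) := s7 (fun h => (-1) ^ h.toAdd.val) (by decide) (by decide +kernel)

theorem hasFG98 : HasF (actG98a.prod actG98b).G (tbl [1, 50, 1, 50, 50, 49, 50, 98, 49, 98, 98, 98]) := by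
  refine hasF_of _ (fun d hd => ?_) ?_
  · rw [Act.card_pow_eq_one]
    simp only [Act.ker_prod]
    revert d
    decide +kernel
  · rw [Nat.card_congr SemidirectProduct.equivProd, Nat.card_prod, Nat.card_congr Multiplicative.toAdd]
    simp [Nat.card_eq_fintype_card]
    decide +kernel

def actG126 : Act (Multiplicative (ZMod 6)) (ZMod 21) := scalar 21 (fun h => 5 ^ h.toAdd.val) (by decide) (by decide +kernel)

theorem hasFG126 : HasF actG126.G (tbl [1, 22, 45, 22, 108, 7, 108, 28, 63, 28, 126, 126]) := by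
  refine hasF_of _ (fun d hd => ?_) ?_
  · rw [Act.card_pow_eq_one]
    revert d
    decide +kernel
  · rw [Nat.card_congr SemidirectProduct.equivProd, Nat.card_prod, Nat.card_congr Multiplicative.toAdd]
    simp [Nat.card_eq_fintype_card]
    decide +kernel

def actD168 : Act (DihedralGroup 4) (ZMod 21) := scalar 21 (d4char (-1)) (by decide) (by decide +kernel)

theorem hasFD168 : HasF actD168.G (tbl [1, 46, 3, 88, 54, 7, 96, 70, 21, 112, 126, 168]) := by
  refine hasF_of _ (fun d hd => ?_) ?_
  · rw [Act.card_pow_eq_one]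
    revert d
    decide +kernel
  · rw [Nat.card_congr SemidirectProduct.equivProd, Nat.card_prod, Nat.card_congr Multiplicative.toAdd]
    simp [Nat.card_eq_fintype_card]
    decide +kernel

def actG196a : Act (Multiplicative (ZMod 4)) (ZMod 7) := s7 (fun h => (-1) ^ h.toAdd.val) (by decide) (by decide +kernel)

def actG196b : Act (Multiplicative (ZMod 4)) (ZMod 7) := s7 (fun h => (-1) ^ h.toAdd.val) (by decide) (by decide +kernel)

theorem hasFG196 : HasF (actG196a.prod actG196b).G (tbl [1, 2, 1, 100, 2, 49, 100, 98, 49, 196, 98, 196]) := by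
  refine hasF_of _ (fun d hd => ?_) ?_
  · rw [Act.card_pow_eq_one]
    simp only [Act.ker_prod]
    revert d
    decide +kernel
  · rw [Nat.card_congr SemidirectProduct.equivProd, Nat.card_prod, Nat.card_congr Multiplicative.toAdd]
    simp [Nat.card_eq_fintype_card]
    decide +kernel

def actG588a : Act (Multiplicative (ZMod 12)) (ZMod 7) := s7 (fun h => 3 ^ h.toAdd.val) (by decide) (by decide +kernel)

def actG588b : Act (Multiplicative (ZMod 12)) (ZMod 7) := s7 (fun h => (-1) ^ h.toAdd.val) (by decide) (by decide +kernel)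

theorem hasFG588 : HasF (actG588a.prod actG588b).G (tbl [1, 2, 15, 100, 30, 49, 324, 98, 147, 196, 294, 588]) := by
  refine hasF_of _ (fun d hd => ?_) ?_
  · rw [Act.card_pow_eq_one]
    simp only [Act.ker_prod]
    revert d
    decide +kernel
  · rw [Nat.card_congr SemidirectProduct.equivProd, Nat.card_prod, Nat.card_congr Multiplicative.toAdd]
    simp [Nat.card_eq_fintype_card]
    decide +kernel

def actG882a : Act (Multiplicative (ZMod 3) × Multiplicative (ZMod 6)) (ZMod 7) := s7 (fun h => (-1) ^ h.2.toAdd.val) (by decide +kernel) (by decide +kernel)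

def actG882b : Act (Multiplicative (ZMod 3) × Multiplicative (ZMod 6)) (ZMod 7) := s7 (fun h => 2 ^ h.1.toAdd.val * 5 ^ h.2.toAdd.val) (by decide +kernel) (by decide +kernel)

theorem hasFG882 : HasF (actG882a.prod actG882b).G (tbl [1, 50, 45, 50, 486, 49, 486, 98, 441, 98, 882, 882]) := by
  refine hasF_of _ (fun d hd => ?_) ?_
  · rw [Act.card_pow_eq_one]
    simp only [Act.ker_prod]
    revert d
    decide +kernel
  · rw [Nat.card_congr SemidirectProduct.equivProd, Nat.card_prod, Nat.card_congr Multiplicative.toAdd]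
    simp [Nat.card_eq_fintype_card]
    decide +kernel

def actG4116a : Act (Multiplicative (ZMod 12)) (ZMod 7) := s7 (fun h => 3 ^ h.toAdd.val) (by decide) (by decide +kernel)

def actG4116b : Act (Multiplicative (ZMod 12)) (ZMod 7 × ZMod 7) := rotAct

theorem hasFG4116 : HasF (actG4116a.prod actG4116b).G (tbl [1, 50, 15, 736, 750, 343, 2808, 686, 1029, 1372, 2058, 4116]) := by
  refine hasF_of _ (fun d hd => ?_) ?_
  · rw [Act.card_pow_eq_one]
    simp only [Act.ker_prod]
    revert d
    decide +kernel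
  · rw [Nat.card_congr SemidirectProduct.equivProd, Nat.card_prod, Nat.card_congr Multiplicative.toAdd]
    simp [Nat.card_eq_fintype_card]
    decide +kernel

abbrev H26 : Type := Multiplicative (ZMod 2) × Multiplicative (ZMod 6)

def c01 : Act H26 (ZMod 7) := s7 (fun h => 3 ^ h.2.toAdd.val) (by decide +kernel) (by decide +kernel)
def c03 : Act H26 (ZMod 7) := s7 (fun h => (-1) ^ h.2.toAdd.val) (by decide +kernel) (by decide +kernel)
def c10 : Act H26 (ZMod 7) := s7 (fun h => (-1) ^ h.1.toAdd.val) (by decide +kernel) (by decide +kernel)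
def c13 : Act H26 (ZMod 7) :=
  s7 (fun h => (-1) ^ h.1.toAdd.val * (-1) ^ h.2.toAdd.val) (by decide +kernel) (by decide +kernel)

def actG28812 : Act H26 ((ZMod 7 × ZMod 7) × (ZMod 7 × ZMod 7)) := (c01.prod c03).prod (c10.prod c13)

theorem hasFG28812 : HasF actG28812.G (tbl [1, 736, 15, 736, 2808, 2401, 2808, 9604, 7203, 9604, 28812, 28812]) := by
  refine hasF_of _ (fun d hd => ?_) ?_
  · rw [Act.card_pow_eq_one]
    simp only [actG28812, Act.ker_prod]
    revert d
    decide +kernel
  · rw [Nat.card_congr SemidirectProduct.equivProd, Nat.card_prod, Nat.card_congr Multiplicative.toAdd]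
    simp [Nat.card_eq_fintype_card]
    decide +kernel

/-- the Frobenius group of order 21 with decidable structure -/
abbrev H21 : Type := actF21.G

instance : DecidableEq H21 := fun a b =>
  decidable_of_iff (a.left = b.left ∧ a.right = b.right)
    ⟨fun h => SemidirectProduct.ext h.1 h.2, fun h => by subst h; exact ⟨rfl, rfl⟩⟩

instance : Fintype H21 := Fintype.ofEquiv _ SemidirectProduct.equivProd.symm

abbrev V8 : Type := ZMod 2 × ZMod 2 × ZMod 2

def mulX (v : V8) : V8 := (v.2.2, v.1 + v.2.2, v.2.1)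

def frob (v : V8) : V8 := (v.1, v.2.2, v.2.1 + v.2.2)

def actG168 : Act H21 V8 where
  f h v := mulX^[(h.left.toAdd : ZMod 7).val] (frob^[h.right.toAdd.val] v)
  f_one := by decide +kernel
  f_mul := by decide +kernel
  f_add := by decide +kernel

theorem hasFG168 : HasF actG168.G (tbl [1, 8, 57, 8, 120, 49, 120, 56, 105, 56, 168, 168]) := by
  refine hasF_of _ (fun d hd => ?_) ?_
  · rw [Act.card_pow_eq_one]
    revert d
    decide +kernel
  · rw [Nat.card_congr SemidirectProduct.equivProd, Nat.card_prod, Nat.card_congr Multiplicative.toAdd]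
    simp [Nat.card_eq_fintype_card]
    decide +kernel

/-! the group of linear permutations of `𝔽₂³` -/

def xr (x y : Fin 8) : Fin 8 := ⟨(x.val ^^^ y.val) % 8, Nat.mod_lt _ (by norm_num)⟩

def GL32 : Subgroup (Equiv.Perm (Fin 8)) where
  carrier := {σ | ∀ x y, σ (xr x y) = xr (σ x) (σ y)}
  one_mem' := fun _ _ => rfl
  mul_mem' := fun {a b} ha hb x y => by
    show a (b (xr x y)) = xr (a (b x)) (a (b y))
    rw [hb, ha]
  inv_mem' := fun {a} ha x y => by
    apply a.injective
    rw [ha]
    simp

def ext3 (t : Fin 8 × Fin 8 × Fin 8) (x : Fin 8) : Fin 8 :=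
  xr (xr (if x.val % 2 = 1 then t.1 else 0) (if x.val / 2 % 2 = 1 then t.2.1 else 0))
    (if x.val / 4 % 2 = 1 then t.2.2 else 0)

abbrev Bases : Type := {t : Fin 8 × Fin 8 × Fin 8 // ∀ x y, ext3 t x = ext3 t y → x = y}

theorem ext3_xr : ∀ t : Bases, ∀ x y, ext3 t.1 (xr x y) = xr (ext3 t.1 x) (ext3 t.1 y) := by
  decide +kernel

theorem ext3_basis : ∀ t : Fin 8 × Fin 8 × Fin 8, ext3 t 1 = t.1 ∧ ext3 t 2 = t.2.1 ∧ ext3 t 4 = t.2.2 := by
  decide +kernel

noncomputable def toGL (t : Bases) : GL32 :=
  ⟨Equiv.ofBijective (ext3 t.1) (Finite.injective_iff_bijective.mp t.2), ext3_xr t⟩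

theorem toGL_apply (t : Bases) (x : Fin 8) : (toGL t : Equiv.Perm (Fin 8)) x = ext3 t.1 x := rfl

theorem toGL_bijective : Function.Bijective toGL := by
  constructor
  · intro s t h
    have h' : ∀ x, ext3 s.1 x = ext3 t.1 x := fun x => by rw [← toGL_apply, h, toGL_apply]
    have e1 := h' 1
    have e2 := h' 2
    have e4 := h' 4
    simp only [ext3_basis] at e1 e2 e4
    exact Subtype.ext (Prod.ext e1 (Prod.ext e2 e4))
  · rintro ⟨σ, hσ⟩
    have h0 : σ 0 = 0 := by
      have h := hσ 0 0
      have hself : ∀ a, xr a a = 0 := by decide +kernel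
      rw [hself] at h
      exact h.trans (hself _)
    have hx : ∀ x, σ x = ext3 (σ 1, σ 2, σ 4) x := by
      intro x
      have he : x = ext3 (1, 2, 4) x := by revert x; decide +kernel
      conv_lhs => rw [he]
      simp only [ext3]
      rw [hσ, hσ]
      simp only [apply_ite σ, h0]
    refine ⟨⟨(σ 1, σ 2, σ 4), fun x y h => σ.injective ((hx x).trans (h.trans (hx y).symm))⟩, ?_⟩
    exact Subtype.ext (Equiv.ext fun x => (hx x).symm)

theorem toGL_pow (t : Bases) (d : ℕ) (x : Fin 8) :
    ((toGL t ^ d : GL32) : Equiv.Perm (Fin 8)) x = (ext3 t.1)^[d] x := by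
  induction d generalizing x with
  | zero => rfl
  | succ d ih =>
    rw [Function.iterate_succ_apply, pow_succ, Subgroup.coe_mul, Equiv.Perm.mul_apply, ih, toGL_apply]

theorem hasFL27 : HasF GL32 (tbl [1, 22, 57, 64, 78, 49, 120, 70, 105, 112, 126, 168]) := by
  refine hasF_of _ (fun d hd => ?_) ?_
  · have e : {x : GL32 // x ^ d = 1} ≃ {t : Bases // ∀ x, (ext3 t.1)^[d] x = x} :=
      ((Equiv.ofBijective toGL toGL_bijective).subtypeEquiv (fun t => by
        constructor
        · intro h
          exact Subtype.ext (Equiv.ext fun x => (toGL_pow t d x).trans (h x))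
        · intro h x
          rw [← toGL_pow]
          show ((toGL t ^ d : GL32) : Equiv.Perm (Fin 8)) x = x
          rw [show toGL t ^ d = 1 from h]; rfl)).symm
    rw [Nat.card_congr e, Nat.card_eq_fintype_card, Fintype.card_subtype]
    clear e
    revert d
    decide +kernel
  · rw [← Nat.card_congr (Equiv.ofBijective toGL toGL_bijective), Nat.card_eq_fintype_card]
    decide +kernel

theorem GL32_not_solvable : ¬ Group.IsSolvable GL32 := by
  intro hs
  obtain ⟨n, hn⟩ := hs.solvable
  let a : GL32 := toGL ⟨(1, 2, 5), by decide +kernel⟩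
  let g : GL32 := toGL ⟨(1, 4, 2), by decide +kernel⟩
  let h : GL32 := toGL ⟨(2, 1, 4), by decide +kernel⟩
  have hg : g * g = 1 := Subtype.ext (Equiv.ext fun x => by
    show ext3 (1, 4, 2) (ext3 (1, 4, 2) x) = x
    revert x; decide +kernel)
  have hh : h * h = 1 := Subtype.ext (Equiv.ext fun x => by
    show ext3 (2, 1, 4) (ext3 (2, 1, 4) x) = x
    revert x; decide +kernel)
  have key : (g * a * g) * (h * a * h) = a * ((h * a * h) * (g * a * g)) := Subtype.ext (Equiv.ext fun x => by
    show ext3 (1, 4, 2) (ext3 (1, 2, 5) (ext3 (1, 4, 2) (ext3 (2, 1, 4) (ext3 (1, 2, 5) (ext3 (2, 1, 4) x))))) =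
      ext3 (1, 2, 5) (ext3 (2, 1, 4) (ext3 (1, 2, 5) (ext3 (2, 1, 4) (ext3 (1, 4, 2) (ext3 (1, 2, 5) (ext3 (1, 4, 2) x))))))
    revert x; decide +kernel)
  have hmem : ∀ m, a ∈ derivedSeries GL32 m := by
    intro m
    induction m with
    | zero => trivial
    | succ m ih =>
      have hgm : g * a * g ∈ derivedSeries GL32 m := by
        have := (derivedSeries_normal GL32 m).conj_mem a ih g
        rwa [inv_eq_of_mul_eq_one_right hg] at this
      have hhm : h * a * h ∈ derivedSeries GL32 m := by
        have := (derivedSeries_normal GL32 m).conj_mem a ih h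
        rwa [inv_eq_of_mul_eq_one_right hh] at this
      have e : a = ⁅g * a * g, h * a * h⁆ := by
        rw [commutatorElement_def, key]; group
      rw [e, derivedSeries_succ]
      exact Subgroup.commutator_mem_commutator hgm hhm
  have h1 := hmem n
  rw [hn, Subgroup.mem_bot] at h1
  have h2 : ext3 (1, 2, 5) 4 = 4 := congrArg (fun z : GL32 => (z : Equiv.Perm (Fin 8)) 4) h1
  revert h2
  decide +kernel

abbrev GG : Type := (Fin 6 → actT24.G) × (Fin 3 → actG28.G) × (Fin 3 → actG84.G) × (Fin 3 → (actG98a.prod actG98b).G) × (Fin 3 → actG126.G) × (Fin 3 → actG168.G) × (Fin 1 → (actG588a.prod actG588b).G) × (Fin 3 → actG28812.G)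

abbrev HH : Type := (Fin 12 → actC2.G) × (Fin 3 → actS3.G) × (Fin 2 → actC7.G) × (Fin 4 → actF21.G) × (Fin 3 → actG56.G) × (Fin 3 → actD168.G) × (Fin 1 → (actG196a.prod actG196b).G) × (Fin 3 → (actG882a.prod actG882b).G) × (Fin 3 → (actG4116a.prod actG4116b).G) × (Fin 3 → GL32)

theorem d4Solvable : Group.IsSolvable (DihedralGroup 4) := by
  haveI : Fact (Nat.Prime 2) := ⟨Nat.prime_two⟩
  haveI := (IsPGroup.of_card (p := 2) (n := 3) (G := DihedralGroup 4)
    (by rw [DihedralGroup.nat_card]; norm_num)).isNilpotent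
  infer_instance

theorem GG_solvable : Group.IsSolvable GG := (isSolvable_prod (isSolvable_pi (actT24.isSolvable_G d4Solvable) 6) (isSolvable_prod (isSolvable_pi (actG28.isSolvable_G (Group.isSolvable_of_comm fun a b => mul_comm a b)) 3) (isSolvable_prod (isSolvable_pi (actG84.isSolvable_G (Group.isSolvable_of_comm fun a b => mul_comm a b)) 3) (isSolvable_prod (isSolvable_pi ((actG98a.prod actG98b).isSolvable_G (Group.isSolvable_of_comm fun a b => mul_comm a b)) 3) (isSolvable_prod (isSolvable_pi (actG126.isSolvable_G (Group.isSolvable_of_comm fun a b => mul_comm a b)) 3) (isSolvable_prod (isSolvable_pi (actG168.isSolvable_G (actF21.isSolvable_G (Group.isSolvable_of_comm fun a b => mul_comm a b))) 3) (isSolvable_prod (isSolvable_pi ((actG588a.prod actG588b).isSolvable_G (Group.isSolvable_of_comm fun a b => mul_comm a b)) 1) (isSolvable_pi (actG28812.isSolvable_G (Group.isSolvable_of_comm fun a b => mul_comm a b)) 3))))))))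

set_option synthInstance.maxSize 4096 in
set_option synthInstance.maxHeartbeats 400000 in
instance : Finite HH := by unfold HH; infer_instance

set_option synthInstance.maxSize 4096 in
set_option synthInstance.maxHeartbeats 400000 in
instance : Finite GG := by unfold GG; infer_instance



/-- There are finite groups G and H having the same number of elements of each order (the same order type) with G solvable and H not solvable. -/
theorem result :
    ∃ (G : Type) (_ : Group G) (_ : Finite G) (H : Type) (_ : Group H) (_ : Finite H),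
      Group.IsSolvable G ∧ ¬ Group.IsSolvable H ∧ ∀ n : ℕ, Nat.card {g : G // orderOf g = n} = Nat.card {h : H // orderOf h = n} := by

  refine ⟨GG, inferInstance, inferInstance, HH, inferInstance, inferInstance, GG_solvable, ?_, ?_⟩
  · intro hs
    let f : HH →* GL32 := (Pi.evalMonoidHom (fun _ : Fin 3 => GL32) 0).comp ((((((((((MonoidHom.snd _ _).comp (MonoidHom.snd _ _)).comp (MonoidHom.snd _ _)).comp (MonoidHom.snd _ _)).comp (MonoidHom.snd _ _)).comp (MonoidHom.snd _ _)).comp (MonoidHom.snd _ _)).comp (MonoidHom.snd _ _)).comp (MonoidHom.snd _ _)))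
    have hf : Function.Surjective f := fun z => ⟨(1, 1, 1, 1, 1, 1, 1, 1, 1, fun _ => z), rfl⟩
    haveI := hs
    exact GL32_not_solvable (Group.isSolvable_of_surjective hf)
  · rw [Cfsg.Agent.S4377.result]
    intro n
    have hG : HasF GG _ := ((hasFT24.pi 6).prod ((hasFG28.pi 3).prod ((hasFG84.pi 3).prod ((hasFG98.pi 3).prod ((hasFG126.pi 3).prod ((hasFG168.pi 3).prod ((hasFG588.pi 1).prod (hasFG28812.pi 3))))))))
    have hH : HasF HH _ := ((hasFC2.pi 12).prod ((hasFS3.pi 3).prod ((hasFC7.pi 2).prod ((hasFF21.pi 4).prod ((hasFG56.pi 3).prod ((hasFD168.pi 3).prod ((hasFG196.pi 1).prod ((hasFG882.pi 3).prod ((hasFG4116.pi 3).prod (hasFL27.pi 3))))))))))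
    rw [hG n, hH n]
    have hmem : Nat.gcd n 84 ∈ Nat.divisors 84 :=
      Nat.mem_divisors.mpr ⟨Nat.gcd_dvd_right _ _, by norm_num⟩
    generalize Nat.gcd n 84 = d at hmem ⊢
    clear hG hH n
    revert d
    decide +kernel

end Cfsg.Agent.S4376
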