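import Cfsg.Statements.S4378
import Cfsg.Agent.Lib.Coprime.Hall
import Cfsg.Agent.Lib.Cores.Basic
import Mathlib

set_option autoImplicit false
open Cfsg

namespace Cfsg.Agent.S4378

open Pointwise
open Cfsg.Agent.Lib

universe u

/-- The conclusion. -/
def Chain (G : Type u) [Group G] : Prop :=
  ∃ A B C : Subgroup G, A.Normal ∧ B.Normal ∧ C.Normal ∧ A ≤ B ∧ B ≤ C ∧ Odd (Nat.card A) ∧
    (∃ k : ℕ, A.relIndex B = 2 ^ k) ∧ Odd (B.relIndex C) ∧ ∃ k : ℕ, C.index = 2 ^ k

/-- The hypothesis. -/
def MaxHyp (G : Type u) [Group G] : Prop :=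
  ∀ M : Subgroup G, IsCoatom M →
    (∃ K : Subgroup ↥M, K.Normal ∧ ¬ 2 ∣ Nat.card K ∧ ∃ k : ℕ, K.index = 2 ^ k) ∨ (M.index).Prime

variable {G : Type u} [Group G] [Finite G]

theorem maxHyp_quotient (h : MaxHyp G) (N : Subgroup G) [N.Normal] : MaxHyp (G ⧸ N) := by
  intro M hM
  set f := QuotientGroup.mk' N
  have hf : Function.Surjective f := QuotientGroup.mk'_surjective N
  have hM' : IsCoatom (M.comap f) := by
    refine ⟨fun ht => hM.1 ?_, fun K hK => ?_⟩
    · rw [eq_top_iff]
      intro q _
      obtain ⟨g, rfl⟩ := hf q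
      exact (Subgroup.mem_comap.mp (ht ▸ Subgroup.mem_top g))
    · have hNK : N ≤ K := le_trans (by
        intro n hn
        rw [Subgroup.mem_comap, show f n = 1 from (QuotientGroup.eq_one_iff n).mpr hn]
        exact one_mem M) hK.le
      have hKe : (K.map f).comap f = K := Subgroup.comap_map_eq_self (by rwa [QuotientGroup.ker_mk'])
      have hlt : M < K.map f := by
        refine lt_of_le_of_ne ?_ fun e => hK.ne (by rw [e, hKe])
        rw [← Subgroup.map_comap_eq_self_of_surjective hf M]
        exact Subgroup.map_mono hK.le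
      rw [← hKe, hM.2 _ hlt, Subgroup.comap_top]
  rcases h _ hM' with ⟨K, hKn, hKodd, k, hKi⟩ | hp
  · left
    let g : M.comap f →* M := f.subgroupComap M
    have hg : Function.Surjective g := fun m => by
      obtain ⟨x, hx⟩ := hf m
      exact ⟨⟨x, by rw [Subgroup.mem_comap, hx]; exact m.2⟩, Subtype.ext hx⟩
    refine ⟨K.map g, hKn.map g hg, fun hd => hKodd (hd.trans (Subgroup.card_map_dvd K g)), ?_⟩
    obtain ⟨j, -, hj⟩ := (Nat.dvd_prime_pow Nat.prime_two).mp (hKi ▸ Subgroup.index_map_dvd K hg)
    exact ⟨j, hj⟩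
  · right
    rwa [Subgroup.index_comap_of_surjective _ hf] at hp

theorem lift_odd (N : Subgroup G) [N.Normal] (hN : Odd (Nat.card N)) (h : Chain (G ⧸ N)) : Chain G := by
  obtain ⟨A, B, C, hA, hB, hC, hAB, hBC, hAo, ⟨k, hk⟩, hBo, l, hl⟩ := h
  set f := QuotientGroup.mk' N
  have hf : Function.Surjective f := QuotientGroup.mk'_surjective N
  have hrel : ∀ X Y : Subgroup (G ⧸ N), (X.comap f).relIndex (Y.comap f) = X.relIndex Y := fun X Y => by
    rw [Subgroup.relIndex_comap, Subgroup.map_comap_eq_self_of_surjective hf]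
  refine ⟨A.comap f, B.comap f, C.comap f, hA.comap f, hB.comap f, hC.comap f, Subgroup.comap_mono hAB,
    Subgroup.comap_mono hBC, ?_, ⟨k, (hrel A B).trans hk⟩, (hrel B C).symm ▸ hBo,
    l, (C.index_comap_of_surjective hf).trans hl⟩
  rw [Cores.card_comap_mk']
  exact hN.mul hAo

theorem chain_of_solvable : ∀ (n : ℕ) (G : Type u) [Group G] [Finite G], Nat.card G = n →
    Group.IsSolvable G → MaxHyp G → Chain G := by
  intro n
  induction n using Nat.strongRecOn with
  | _ n ih =>
    intro G _ _ hcard hsol h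
    classical
    rcases subsingleton_or_nontrivial G with hs | hnt
    · exact ⟨⊥, ⊥, ⊥, inferInstance, inferInstance, inferInstance, le_rfl, le_rfl,
        by rw [Subgroup.card_bot]; exact odd_one, ⟨0, by simp⟩, by simp, ⟨0, by
        rw [Subgroup.index_bot, pow_zero]; exact Nat.card_eq_one_iff_unique.mpr ⟨hs, inferInstance⟩⟩⟩
    haveI := hsol
    obtain ⟨p, M0, hp, hM0n, hM0b, hM0c, hM0p, -⟩ := Coprime.exists_normal_isPGroup_isMulCommutative G
    obtain ⟨N, ⟨hNn, hNb, hNM0⟩, hNmin⟩ := Set.exists_min_image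
      {N : Subgroup G | N.Normal ∧ N ≠ ⊥ ∧ N ≤ M0} (fun N => Nat.card N) (Set.toFinite _) ⟨M0, hM0n, hM0b, le_rfl⟩
    haveI := hNn
    have hNcomm : ∀ a ∈ N, ∀ b ∈ N, a * b = b * a := fun a ha b hb =>
      congrArg Subtype.val (hM0c.is_comm.comm (⟨a, hNM0 ha⟩ : M0) ⟨b, hNM0 hb⟩)
    have hNp : IsPGroup p N := hM0p.to_le hNM0
    have hlt : Nat.card (G ⧸ N) < n := by
      rw [← Subgroup.index_eq_card, ← hcard, ← N.card_mul_index]
      exact lt_mul_left (Nat.pos_of_ne_zero Subgroup.index_ne_zero_of_finite) ((Subgroup.one_lt_card_iff_ne_bot N).mpr hNb)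
    have hq : Chain (G ⧸ N) := ih _ hlt (G ⧸ N) rfl inferInstance (maxHyp_quotient h N)
    haveI := Fact.mk hp
    obtain ⟨a, ha⟩ := hNp.exists_card_eq
    by_cases hp2 : p = 2
    swap
    · refine lift_odd N ?_ hq
      rw [ha]
      exact (hp.odd_of_ne_two hp2).pow
    subst hp2
    by_cases hfr : ∃ M : Subgroup G, IsCoatom M ∧ ¬ N ≤ M
    · obtain ⟨M, hM, hNM⟩ := hfr
      have htop : N ⊔ M = ⊤ := hM.2 _ (lt_of_le_of_ne le_sup_right fun e => hNM (e.ge.trans' le_sup_left))
      have hinf : N ⊓ M = ⊥ := by
        by_contra hne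
        refine hNM (inf_eq_left.mp (Subgroup.eq_of_le_of_card_ge inf_le_left (hNmin _ ⟨?_, hne, inf_le_left.trans hNM0⟩)))
        rw [← Subgroup.normalizer_eq_top_iff, eq_top_iff, ← htop, sup_le_iff]
        refine ⟨fun a ha => Subgroup.centralizer_le_normalizer _ (Subgroup.mem_centralizer_iff.mpr
          fun b hb => hNcomm b hb.1 a ha), fun m hm => Subgroup.mem_set_normalizer_iff.mpr fun x => ?_⟩
        show x ∈ N ⊓ M ↔ m * x * m⁻¹ ∈ N ⊓ M
        rw [Subgroup.mem_inf, Subgroup.mem_inf, ← Subgroup.mem_normalizer_iff.mp (Subgroup.le_normalizer_of_normal (K := ⊤) (Subgroup.mem_top m)) x,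
          ← Subgroup.mem_normalizer_iff.mp (Subgroup.le_normalizer hm) x]
      have hNc : Nat.card G = Nat.card N * Nat.card M := by
        have h1 := Coprime.card_sup_mul_card_inf (N := N) (H := M) Subgroup.le_normalizer_of_normal
        rwa [hinf, htop, Subgroup.card_bot, mul_one, Subgroup.card_top] at h1
      have hMi : M.index = Nat.card N := by
        have h1 := M.card_mul_index
        rw [hNc, mul_comm (Nat.card N)] at h1
        exact Nat.eq_of_mul_eq_mul_left Nat.card_pos h1
      rcases h M hM with ⟨K, hKn, hKodd, k, hKi⟩ | hpr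
      · set K' := K.map M.subtype with hK'
        have hK'M : K' ≤ M := Subgroup.map_subtype_le K
        have hMK : M ≤ Subgroup.normalizer (K' : Set G) := by
          intro m hm
          rw [Subgroup.mem_normalizer_iff]
          intro x
          constructor
          · rintro ⟨y, hy, rfl⟩
            exact ⟨⟨m, hm⟩ * y * ⟨m, hm⟩⁻¹, hKn.conj_mem y hy ⟨m, hm⟩, rfl⟩
          · rintro ⟨y, hy, hye⟩
            refine ⟨⟨m, hm⟩⁻¹ * y * ⟨m, hm⟩⁻¹⁻¹, hKn.conj_mem y hy ⟨m, hm⟩⁻¹, ?_⟩
            have hye' : (y : G) = m * x * m⁻¹ := hye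
            show m⁻¹ * (y : G) * m⁻¹⁻¹ = x
            rw [hye']; group
        have hCn : (N ⊔ K').Normal := by
          rw [← Subgroup.normalizer_eq_top_iff, eq_top_iff, ← htop, sup_le_iff]
          refine ⟨le_sup_left.trans Subgroup.le_normalizer, fun m hm => ?_⟩
          refine Coprime.mem_normalizer_of_conj_smul_eq ?_
          rw [Subgroup.smul_sup, Subgroup.Normal.conj_smul_eq_self, Coprime.conj_smul_eq_of_mem_normalizer (hMK hm)]
        have hinfK : N ⊓ K' = ⊥ := le_bot_iff.mp ((inf_le_inf_left N hK'M).trans hinf.le)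
        have hcC : Nat.card ↥(N ⊔ K') = Nat.card N * Nat.card K := by
          have h1 := Coprime.card_sup_mul_card_inf (N := N) (H := K') Subgroup.le_normalizer_of_normal
          rwa [hinfK, Subgroup.card_bot, mul_one, hK', Subgroup.card_subtype] at h1
        refine ⟨⊥, N, N ⊔ K', inferInstance, hNn, hCn, bot_le, le_sup_left, by rw [Subgroup.card_bot]; exact odd_one,
          ⟨a, by rw [Subgroup.relIndex_bot_left, ha]⟩, ?_, k, ?_⟩
        · have h1 := Subgroup.relIndex_mul_index (le_sup_left : N ≤ N ⊔ K')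
          have h2 := (N ⊔ K').card_mul_index
          have h3 := N.card_mul_index
          rw [← h1] at h3
          rw [hcC, ← h3, ← mul_assoc] at h2
          have h4 := Nat.eq_of_mul_eq_mul_right (Nat.pos_of_ne_zero Subgroup.index_ne_zero_of_finite) h2
          rw [← Nat.eq_of_mul_eq_mul_left Nat.card_pos h4]
          exact Nat.odd_iff.mpr (Nat.two_dvd_ne_zero.mp hKodd)
        · have h2 := (N ⊔ K').card_mul_index
          rw [hcC, hNc, mul_assoc, ← K.card_mul_index, hKi] at h2
          exact Nat.eq_of_mul_eq_mul_left Nat.card_pos (Nat.eq_of_mul_eq_mul_left Nat.card_pos h2)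
      · have hN2 : Nat.card N = 2 := by
          rw [hMi, ha] at hpr
          rw [ha, Nat.Prime.eq_one_of_pow hpr, pow_one]
        have hNz : N ≤ Subgroup.center G := by
          intro z hz
          rw [Subgroup.mem_center_iff]
          intro g
          have hgz : g * z * g⁻¹ ∈ N := hNn.conj_mem z hz g
          by_cases hz1 : z = 1
          · rw [hz1, mul_one, one_mul]
          refine mul_inv_eq_iff_eq_mul.mp ?_
          obtain ⟨u, v, huv, hun⟩ := Nat.card_eq_two_iff.mp hN2
          have key : ∀ w : N, w = 1 ∨ w = ⟨z, hz⟩ := by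
            intro w
            by_contra hw
            push Not at hw
            have h3 : ({1, ⟨z, hz⟩, w} : Finset N).card = 3 := by
              rw [Finset.card_insert_of_notMem, Finset.card_pair (Ne.symm hw.2)]
              simp [Ne.symm hw.1, Subtype.ext_iff, Ne.symm hz1]
            have : ({1, ⟨z, hz⟩, w} : Finset N).card ≤ Nat.card N := by
              haveI := Fintype.ofFinite N
              rw [Nat.card_eq_fintype_card]; exact Finset.card_le_univ _
            omega
          rcases key ⟨_, hgz⟩ with h1 | h1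
          · have h1' : g * z * g⁻¹ = 1 := congrArg Subtype.val h1
            rw [mul_inv_eq_one, mul_eq_left] at h1'
            exact absurd h1' hz1
          · exact congrArg Subtype.val h1
        haveI hMn : M.Normal := Subgroup.normal_of_index_eq_two (hMi.trans hN2)
        set f := QuotientGroup.mk' N
        have hf : Function.Surjective f := QuotientGroup.mk'_surjective N
        obtain ⟨A, B, C, hA, hB, hC, hAB, hBC, hAo, ⟨k, hk⟩, hBo, l, hl⟩ := hq
        have hrel : ∀ X Y : Subgroup (G ⧸ N), (X.comap f).relIndex (Y.comap f) = X.relIndex Y := fun X Y => by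
          rw [Subgroup.relIndex_comap, Subgroup.map_comap_eq_self_of_surjective hf]
        have hcA : Nat.card (A.comap f) = Nat.card A * 2 := by rw [Cores.card_comap_mk', hN2, mul_comm]
        have hAM : Nat.card ↥(A.comap f ⊓ M) = Nat.card A := by
          have hNA : N ≤ A.comap f := fun x hx => by
            rw [Subgroup.mem_comap, show f x = 1 from (QuotientGroup.eq_one_iff x).mpr hx]; exact one_mem A
          have htop' : A.comap f ⊔ M = ⊤ := top_le_iff.mp (htop.ge.trans (sup_le_sup_right hNA M))
          have h1 := Coprime.card_sup_mul_card_inf (N := M) (H := A.comap f) Subgroup.le_normalizer_of_normal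
          rw [sup_comm, htop', Subgroup.card_top, inf_comm, hcA, hNc, hN2] at h1
          have := Nat.card_pos (α := M)
          nlinarith
        refine ⟨A.comap f ⊓ M, B.comap f, C.comap f, inferInstance, hB.comap f, hC.comap f,
          inf_le_left.trans (Subgroup.comap_mono hAB), Subgroup.comap_mono hBC, hAM ▸ hAo, ⟨k + 1, ?_⟩,
          (hrel B C).symm ▸ hBo, l, (C.index_comap_of_surjective hf).trans hl⟩
        have h1 := (A.comap f).card_mul_index
        have h2 := (A.comap f ⊓ M).card_mul_index
        have h3 := Subgroup.relIndex_mul_index (Subgroup.comap_mono hAB : A.comap f ≤ B.comap f)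
        have h4 := Subgroup.relIndex_mul_index (inf_le_left.trans (Subgroup.comap_mono hAB) : A.comap f ⊓ M ≤ B.comap f)
        rw [hrel, hk] at h3
        rw [hcA, ← h3] at h1
        rw [hAM, ← h4, ← h1] at h2
        have hAp : 0 < Nat.card A := Nat.card_pos
        have hBp : 0 < (B.comap f).index := Nat.pos_of_ne_zero Subgroup.index_ne_zero_of_finite
        refine Nat.eq_of_mul_eq_mul_left (Nat.mul_pos hAp hBp) ?_
        rw [pow_succ]
        linarith
    · push Not at hfr
      obtain ⟨A, B, C, hA, hB, hC, hAB, hBC, hAo, ⟨k, hk⟩, hBo, l, hl⟩ := hq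
      set f := QuotientGroup.mk' N
      have hf : Function.Surjective f := QuotientGroup.mk'_surjective N
      have hrel : ∀ X Y : Subgroup (G ⧸ N), (X.comap f).relIndex (Y.comap f) = X.relIndex Y := fun X Y => by
        rw [Subgroup.relIndex_comap, Subgroup.map_comap_eq_self_of_surjective hf]
      set A' := A.comap f with hA'
      haveI : A'.Normal := hA.comap f
      have hNA : N ≤ A' := fun x hx => by
        rw [hA', Subgroup.mem_comap, show f x = 1 from (QuotientGroup.eq_one_iff x).mpr hx]; exact one_mem A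
      have hA'c : Nat.card A' = Nat.card N * Nat.card A := Cores.card_comap_mk' N A
      set N' := N.subgroupOf A' with hN'
      have hN'c : Nat.card N' = Nat.card N := Nat.card_congr (Subgroup.subgroupOfEquivOfLe hNA).toEquiv
      have hN'i : N'.index = Nat.card A := by
        have h1 := N'.card_mul_index
        rw [hN'c, hA'c] at h1
        exact Nat.eq_of_mul_eq_mul_left Nat.card_pos h1
      obtain ⟨A1, hA1⟩ := Subgroup.exists_right_complement'_of_coprime (N := N') (by
        rw [hN'c, hN'i, ha]; exact (Nat.coprime_two_left.mpr hAo).pow_left _)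
      set A0 := A1.map A'.subtype with hA0
      have hA1c : Nat.card A1 = Nat.card A := by rw [← hA1.symm.index_eq_card, hN'i]
      have hA0c : Nat.card A0 = Nat.card A := by rw [hA0, Subgroup.card_subtype, hA1c]
      have hA0A : A0 ≤ A' := Subgroup.map_subtype_le A1
      have hcopA : (Nat.card N).Coprime (Nat.card A0) := by
        rw [hA0c, ha]; exact (Nat.coprime_two_left.mpr hAo).pow_left _
      have hsupA : N ⊔ A0 = A' := by
        refine Subgroup.eq_of_le_of_card_ge (sup_le hNA hA0A) (le_of_eq ?_)
        rw [Coprime.card_sup_of_coprime Subgroup.le_normalizer_of_normal hcopA, hA0c, hA'c]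
      have hnorm : Subgroup.normalizer (A0 : Set G) = ⊤ := by
        by_contra hne
        obtain ⟨M, hM, hle⟩ := (eq_top_or_exists_le_coatom (Subgroup.normalizer (A0 : Set G))).resolve_left hne
        refine hM.1 (eq_top_iff.mpr fun g _ => ?_)
        obtain ⟨x, hx, he⟩ := Coprime.exists_conj_eq_of_le_sup (N := N) (H := A0) (K := MulAut.conj g • A0)
          Subgroup.le_normalizer_of_normal hcopA (Or.inl inferInstance) (Coprime.card_conj_smul _ _) (by
            rw [hsupA]
            intro y hy
            rw [Coprime.mem_conj_smul] at hy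
            have := (inferInstance : A'.Normal).conj_mem _ (hA0A hy) g
            simpa [mul_assoc] using this)
        have : x⁻¹ * g ∈ Subgroup.normalizer (A0 : Set G) := by
          refine Coprime.mem_normalizer_of_conj_smul_eq ?_
          rw [map_mul, map_inv, mul_smul, ← he, inv_smul_smul]
        have h1 := M.mul_mem (hfr M hM hx) (hle this)
        rwa [mul_inv_cancel_left] at h1
      haveI hA0n : A0.Normal := Subgroup.normalizer_eq_top_iff.mp hnorm
      refine ⟨A0, B.comap f, C.comap f, hA0n, hB.comap f, hC.comap f,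
        hA0A.trans (Subgroup.comap_mono hAB), Subgroup.comap_mono hBC, hA0c ▸ hAo, ⟨k + a, ?_⟩,
        (hrel B C).symm ▸ hBo, l, (C.index_comap_of_surjective hf).trans hl⟩
      have h1 := A'.card_mul_index
      have h2 := A0.card_mul_index
      have h3 := Subgroup.relIndex_mul_index (Subgroup.comap_mono hAB : A.comap f ≤ B.comap f)
      have h4 := Subgroup.relIndex_mul_index (hA0A.trans (Subgroup.comap_mono hAB) : A0 ≤ B.comap f)
      rw [hrel, hk] at h3
      rw [hA'c, ha, ← h3] at h1
      rw [hA0c, ← h4, ← h1] at h2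
      refine Nat.eq_of_mul_eq_mul_left (Nat.mul_pos (Nat.card_pos (α := A))
        (Nat.pos_of_ne_zero (Subgroup.index_ne_zero_of_finite (H := B.comap f)))) ?_
      rw [pow_add]
      linarith

/-- Let G be a finite solvable group in which every maximal subgroup either has a normal 2-complement or has prime index. Then G has a chain of normal subgroups 1 ≤ A ≤ B ≤ C ≤ G in which A and C/B have odd order and B/A and G/C are 2-groups (so the 2-length of G is at most 2). -/
theorem result {G : Type*} [Group G] [Finite G]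
    (hG : Group.IsSolvable G)
    (hmax : ∀ M : Subgroup G, IsCoatom M → (∃ K : Subgroup ↥M, K.Normal ∧ ¬ 2 ∣ Nat.card K ∧ ∃ k : ℕ, K.index = 2 ^ k) ∨ (M.index).Prime) :
    ∃ A B C : Subgroup G, A.Normal ∧ B.Normal ∧ C.Normal ∧ A ≤ B ∧ B ≤ C ∧ Odd (Nat.card A) ∧
      (∃ k : ℕ, A.relIndex B = 2 ^ k) ∧ Odd (B.relIndex C) ∧ ∃ k : ℕ, C.index = 2 ^ k := by
  exact chain_of_solvable (Nat.card G) G rfl hG hmax

end Cfsg.Agent.S4378
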