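import Cfsg.Statements.S4379
import Cfsg.Agent.Lib.Coprime.SchurZassenhaus
import Cfsg.Agent.Lib.Cores.Basic
import Mathlib

set_option autoImplicit false
open Cfsg

namespace Cfsg.Agent.S4379

open Pointwise
open Cfsg.Agent.Lib

universe u

variable {p : ℕ} [hpf : Fact p.Prime]

/-- The conclusion. -/
def Chain (p : ℕ) (G : Type u) [Group G] : Prop :=
  ∃ A B C D : Subgroup G, A.Normal ∧ B.Normal ∧ C.Normal ∧ D.Normal ∧ A ≤ B ∧ B ≤ C ∧ C ≤ D ∧ ¬ p ∣ Nat.card A ∧
    (∃ k : ℕ, A.relIndex B = p ^ k) ∧ ¬ p ∣ B.relIndex C ∧ (∃ k : ℕ, C.relIndex D = p ^ k) ∧ ¬ p ∣ D.index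

/-- The hypothesis. -/
def MaxHyp (p : ℕ) (G : Type u) [Group G] : Prop :=
  ∀ M : Subgroup G, IsCoatom M →
    (∃ K : Subgroup ↥M, K.Normal ∧ ¬ p ∣ Nat.card K ∧ ∃ k : ℕ, K.index = p ^ k) ∨ (M.index).Prime

variable {G : Type u} [Group G] [Finite G]

theorem maxHyp_quotient (h : MaxHyp p G) (N : Subgroup G) [N.Normal] : MaxHyp p (G ⧸ N) := by
  intro M hM
  set f := QuotientGroup.mk' N
  have hf : Function.Surjective f := QuotientGroup.mk'_surjective N
  have hM' : IsCoatom (M.comap f) := by
    refine ⟨fun ht => hM.1 ?_, fun K hK => ?_⟩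
    · rw [eq_top_iff]
      intro q _
      obtain ⟨g, rfl⟩ := hf q
      exact (Subgroup.mem_comap.mp (ht ▸ Subgroup.mem_top g))
    · have hNK : N ≤ K := le_trans (by
        intro n hn
        rw [Subgroup.mem_comap, show f n = 1 from (QuotientGroup.eq_one_iff n).mpr hn]
        exact one_mem M) hK.le
      have hKe : (K.map f).comap f = K := Subgroup.comap_map_eq_self (by rwa [QuotientGroup.ker_mk'])
      have hlt : M < K.map f := by
        refine lt_of_le_of_ne ?_ fun e => hK.ne (by rw [e, hKe])
        rw [← Subgroup.map_comap_eq_self_of_surjective hf M]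
        exact Subgroup.map_mono hK.le
      rw [← hKe, hM.2 _ hlt, Subgroup.comap_top]
  rcases h _ hM' with ⟨K, hKn, hKodd, k, hKi⟩ | hp
  · left
    let g : M.comap f →* M := f.subgroupComap M
    have hg : Function.Surjective g := fun m => by
      obtain ⟨x, hx⟩ := hf m
      exact ⟨⟨x, by rw [Subgroup.mem_comap, hx]; exact m.2⟩, Subtype.ext hx⟩
    refine ⟨K.map g, hKn.map g hg, fun hd => hKodd (hd.trans (Subgroup.card_map_dvd K g)), ?_⟩
    obtain ⟨j, -, hj⟩ := (Nat.dvd_prime_pow hpf.out).mp (hKi ▸ Subgroup.index_map_dvd K hg)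
    exact ⟨j, hj⟩
  · right
    rwa [Subgroup.index_comap_of_surjective _ hf] at hp

theorem pSolvable_quotient (N : Subgroup G) [N.Normal] (h : Cfsg.IsPSolvable p G) :
    Cfsg.IsPSolvable p (G ⧸ N) := by
  obtain ⟨n, H, h0, h1, hm, hn, hf⟩ := h
  refine ⟨n, fun i => (H i).map (QuotientGroup.mk' N), by simp only [h0, Subgroup.map_bot], by
    simp only [h1, Subgroup.map_top_of_surjective _ (QuotientGroup.mk'_surjective N)],
    fun i j hij => Subgroup.map_mono (hm hij),
    fun i => (hn i).map _ (QuotientGroup.mk'_surjective N), fun i => ?_⟩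
  have hd : ((H i.castSucc).map (QuotientGroup.mk' N)).relIndex
      ((H i.succ).map (QuotientGroup.mk' N)) ∣ (H i.castSucc).relIndex (H i.succ) := by
    rw [Subgroup.relIndex_map_map, QuotientGroup.ker_mk']
    have := hn i.castSucc
    have hsn : (H i.castSucc ⊔ N).Normal := Subgroup.sup_normal _ _
    have e : H i.succ ⊔ N = H i.succ ⊔ (H i.castSucc ⊔ N) := by
      rw [← sup_assoc, sup_eq_left.mpr (hm (Fin.castSucc_lt_succ).le : H i.castSucc ≤ H i.succ)]
    rw [e, Subgroup.relIndex_sup_right]
    exact Subgroup.relIndex_dvd_of_le_left _ le_sup_left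
  rcases hf i with ⟨m, hm'⟩ | hc
  · rw [hm'] at hd
    obtain ⟨j, -, hj⟩ := (Nat.dvd_prime_pow hpf.out).mp hd
    exact Or.inl ⟨j, hj⟩
  · exact Or.inr (Nat.Coprime.coprime_dvd_left hd hc)

theorem exists_minimal_normal [Nontrivial G] (h : Cfsg.IsPSolvable p G) :
    ∃ N : Subgroup G, N.Normal ∧ N ≠ ⊥ ∧ (∀ M : Subgroup G, M.Normal → M ≠ ⊥ → M ≤ N → M = N) ∧
      (¬ p ∣ Nat.card N ∨ IsPGroup p N) := by
  classical
  obtain ⟨n, H, h0, h1, hm, hn, hf⟩ := h
  have hex : ∃ i : ℕ, ∃ hi : i < n + 1, H ⟨i, hi⟩ ≠ ⊥ := ⟨n, Nat.lt_succ_self n, by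
    show H (Fin.last n) ≠ ⊥
    rw [h1]; exact top_ne_bot⟩
  obtain ⟨hi, hne⟩ := Nat.find_spec hex
  set i := Nat.find hex
  have hipos : 0 < i := Nat.pos_of_ne_zero fun e => hne (by
    have : (⟨i, hi⟩ : Fin (n + 1)) = 0 := Fin.ext e
    rw [this, h0])
  set j : Fin n := ⟨i - 1, by omega⟩
  have hjs : j.succ = ⟨i, hi⟩ := Fin.ext (by simp [j]; omega)
  have hjb : H j.castSucc = ⊥ := by
    by_contra hb
    exact Nat.find_min hex (show i - 1 < i by omega) ⟨by omega, hb⟩
  obtain ⟨N, ⟨hNn, hNb, hNle⟩, hmin⟩ := Set.exists_min_image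
    {N : Subgroup G | N.Normal ∧ N ≠ ⊥ ∧ N ≤ H ⟨i, hi⟩} (fun N => Nat.card N) (Set.toFinite _)
    ⟨_, hn _, hne, le_rfl⟩
  refine ⟨N, hNn, hNb, fun M hM hMb hMN => Subgroup.eq_of_le_of_card_ge hMN (hmin M ⟨hM, hMb, hMN.trans hNle⟩), ?_⟩
  have hf' := hf j
  rw [hjb, hjs, Subgroup.relIndex_bot_left] at hf'
  rcases hf' with ⟨m, hm'⟩ | hc
  · exact Or.inr ((IsPGroup.of_card hm').to_le hNle)
  · exact Or.inl fun hd => hpf.out.one_lt.ne' (Nat.eq_one_of_dvd_coprimes hc (hd.trans (Subgroup.card_dvd_of_le hNle)) dvd_rfl)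

theorem lift_pprime (N : Subgroup G) [N.Normal] (hN : ¬ p ∣ Nat.card N) (h : Chain p (G ⧸ N)) : Chain p G := by
  obtain ⟨A, B, C, D, hA, hB, hC, hD, hAB, hBC, hCD, hAo, ⟨k, hk⟩, hBo, ⟨l, hl⟩, hDi⟩ := h
  set f := QuotientGroup.mk' N
  have hf : Function.Surjective f := QuotientGroup.mk'_surjective N
  have hrel : ∀ X Y : Subgroup (G ⧸ N), (X.comap f).relIndex (Y.comap f) = X.relIndex Y := fun X Y => by
    rw [Subgroup.relIndex_comap, Subgroup.map_comap_eq_self_of_surjective hf]
  refine ⟨A.comap f, B.comap f, C.comap f, D.comap f, hA.comap f, hB.comap f, hC.comap f, hD.comap f,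
    Subgroup.comap_mono hAB, Subgroup.comap_mono hBC, Subgroup.comap_mono hCD, ?_, ⟨k, (hrel A B).trans hk⟩,
    (hrel B C).symm ▸ hBo, ⟨l, (hrel C D).trans hl⟩, ?_⟩
  · rw [Cores.card_comap_mk']
    exact fun hd => (hpf.out.dvd_mul.mp hd).elim hN hAo
  · rwa [Subgroup.index_comap_of_surjective _ hf]

theorem relIndex_dvd_normal {X Y Z : Subgroup G} [X.Normal] (hY : Y ≤ Z) (hX : X ≤ Z) :
    X.relIndex Y ∣ X.relIndex Z := by
  rw [← Subgroup.relIndex_sup_right Y X, ← Subgroup.relIndex_mul_relIndex X (Y ⊔ X) Z le_sup_right (sup_le hY hX)]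
  exact dvd_mul_right _ _

theorem chain_of_pSolvable : ∀ (n : ℕ) (G : Type u) [Group G] [Finite G], Nat.card G = n →
    Cfsg.IsPSolvable p G → MaxHyp p G → Chain p G := by
  intro n
  induction n using Nat.strongRecOn with
  | _ n ih =>
    intro G _ _ hcard hsol h
    classical
    have hp := hpf.out
    rcases subsingleton_or_nontrivial G with hs | hnt
    · exact ⟨⊥, ⊥, ⊥, ⊥, inferInstance, inferInstance, inferInstance, inferInstance, le_rfl, le_rfl, le_rfl,
        by rw [Subgroup.card_bot]; exact hp.not_dvd_one, ⟨0, by simp⟩, by simp [hp.one_lt.ne'], ⟨0, by simp⟩, by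
        rw [Subgroup.index_bot, Nat.card_eq_one_iff_unique.mpr ⟨hs, inferInstance⟩]; exact hp.not_dvd_one⟩
    obtain ⟨N, hNn, hNb, hNmin, hNor⟩ := exists_minimal_normal hsol
    haveI := hNn
    have hlt : Nat.card (G ⧸ N) < n := by
      rw [← Subgroup.index_eq_card, ← hcard, ← N.card_mul_index]
      exact lt_mul_left (Nat.pos_of_ne_zero Subgroup.index_ne_zero_of_finite) ((Subgroup.one_lt_card_iff_ne_bot N).mpr hNb)
    have hq : Chain p (G ⧸ N) := ih _ hlt (G ⧸ N) rfl (pSolvable_quotient N hsol) (maxHyp_quotient h N)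
    rcases hNor with hNp' | hNp
    · exact lift_pprime N hNp' hq
    obtain ⟨a, ha⟩ := hNp.exists_card_eq
    -- N is abelian
    haveI : Nontrivial N := (Subgroup.nontrivial_iff_ne_bot N).mpr hNb
    haveI := hNp.center_nontrivial
    haveI : Group.IsNilpotent N := hNp.isNilpotent
    have hNc : ∀ x ∈ N, ∀ y ∈ N, x * y = y * x := by
      have hc : (Subgroup.center N).map N.subtype = N :=
        hNmin _ inferInstance (fun e => (Subgroup.nontrivial_iff_ne_bot (Subgroup.center N)).mp inferInstance
          ((Subgroup.map_eq_bot_iff_of_injective _ N.subtype_injective).mp e)) (Subgroup.map_subtype_le _)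
      intro x hx y hy
      obtain ⟨z, hz, hze⟩ := hc.ge hx
      rw [← hze]
      exact congrArg Subtype.val ((Subgroup.mem_center_iff.mp hz) ⟨y, hy⟩).symm
    set f := QuotientGroup.mk' N with hf'
    have hf : Function.Surjective f := QuotientGroup.mk'_surjective N
    have hNle : ∀ X : Subgroup (G ⧸ N), N ≤ X.comap f := fun X x hx => by
      rw [Subgroup.mem_comap, show f x = 1 from (QuotientGroup.eq_one_iff x).mpr hx]; exact one_mem X
    by_cases hfr : ∃ M : Subgroup G, IsCoatom M ∧ ¬ N ≤ M
    · obtain ⟨M, hM, hNM⟩ := hfr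
      have htop : N ⊔ M = ⊤ := hM.2 _ (lt_of_le_of_ne le_sup_right fun e => hNM (e.ge.trans' le_sup_left))
      have hinf : N ⊓ M = ⊥ := by
        by_contra hne
        refine hNM (inf_eq_left.mp (hNmin _ ?_ hne inf_le_left))
        rw [← Subgroup.normalizer_eq_top_iff, eq_top_iff, ← htop, sup_le_iff]
        refine ⟨fun a ha => Subgroup.centralizer_le_normalizer _ (Subgroup.mem_centralizer_iff.mpr
          fun b hb => hNc b hb.1 a ha), fun m hm => Coprime.mem_normalizer_of_conj_smul_eq ?_⟩
        rw [Subgroup.smul_inf, Subgroup.Normal.conj_smul_eq_self,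
          Coprime.conj_smul_eq_of_mem_normalizer (Subgroup.le_normalizer hm)]
      have hNc' : Nat.card G = Nat.card N * Nat.card M := by
        have h1 := Coprime.card_sup_mul_card_inf (N := N) (H := M) Subgroup.le_normalizer_of_normal
        rwa [hinf, htop, Subgroup.card_bot, mul_one, Subgroup.card_top] at h1
      have hMi : M.index = Nat.card N := by
        have h1 := M.card_mul_index
        rw [hNc', mul_comm (Nat.card N)] at h1
        exact Nat.eq_of_mul_eq_mul_left Nat.card_pos h1
      rcases h M hM with ⟨K, hKn, hKodd, k, hKi⟩ | hpr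
      · set K' := K.map M.subtype with hK'
        have hK'M : K' ≤ M := Subgroup.map_subtype_le K
        have hMK : M ≤ Subgroup.normalizer (K' : Set G) := by
          intro m hm
          rw [Subgroup.mem_normalizer_iff]
          intro x
          constructor
          · rintro ⟨y, hy, rfl⟩
            exact ⟨⟨m, hm⟩ * y * ⟨m, hm⟩⁻¹, hKn.conj_mem y hy ⟨m, hm⟩, rfl⟩
          · rintro ⟨y, hy, hye⟩
            refine ⟨⟨m, hm⟩⁻¹ * y * ⟨m, hm⟩⁻¹⁻¹, hKn.conj_mem y hy ⟨m, hm⟩⁻¹, ?_⟩
            have hye' : (y : G) = m * x * m⁻¹ := hye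
            show m⁻¹ * (y : G) * m⁻¹⁻¹ = x
            rw [hye']; group
        have hCn : (N ⊔ K').Normal := by
          rw [← Subgroup.normalizer_eq_top_iff, eq_top_iff, ← htop, sup_le_iff]
          refine ⟨le_sup_left.trans Subgroup.le_normalizer, fun m hm => ?_⟩
          refine Coprime.mem_normalizer_of_conj_smul_eq ?_
          rw [Subgroup.smul_sup, Subgroup.Normal.conj_smul_eq_self, Coprime.conj_smul_eq_of_mem_normalizer (hMK hm)]
        have hinfK : N ⊓ K' = ⊥ := le_bot_iff.mp ((inf_le_inf_left N hK'M).trans hinf.le)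
        have hcC : Nat.card ↥(N ⊔ K') = Nat.card N * Nat.card K := by
          have h1 := Coprime.card_sup_mul_card_inf (N := N) (H := K') Subgroup.le_normalizer_of_normal
          rwa [hinfK, Subgroup.card_bot, mul_one, hK', Subgroup.card_subtype] at h1
        refine ⟨⊥, N, N ⊔ K', ⊤, inferInstance, hNn, hCn, inferInstance, bot_le, le_sup_left, le_top,
          by rw [Subgroup.card_bot]; exact hp.not_dvd_one,
          ⟨a, by rw [Subgroup.relIndex_bot_left, ha]⟩, ?_, ⟨k, ?_⟩, by rw [Subgroup.index_top]; exact hp.not_dvd_one⟩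
        · have h1 := Subgroup.relIndex_mul_index (le_sup_left : N ≤ N ⊔ K')
          have h2 := (N ⊔ K').card_mul_index
          have h3 := N.card_mul_index
          rw [← h1] at h3
          rw [hcC, ← h3, ← mul_assoc] at h2
          have h4 := Nat.eq_of_mul_eq_mul_right (Nat.pos_of_ne_zero Subgroup.index_ne_zero_of_finite) h2
          rw [← Nat.eq_of_mul_eq_mul_left Nat.card_pos h4]
          exact hKodd
        · have h2 := (N ⊔ K').card_mul_index
          rw [hcC, hNc', mul_assoc, ← K.card_mul_index, hKi] at h2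
          rw [Subgroup.relIndex_top_right]
          exact Nat.eq_of_mul_eq_mul_left Nat.card_pos (Nat.eq_of_mul_eq_mul_left Nat.card_pos h2)
      · -- N has order p
        have hNpr : Nat.card N = p := by
          rw [hMi, ha] at hpr
          rw [ha, Nat.Prime.eq_one_of_pow hpr, pow_one]
        set CN := Subgroup.centralizer (N : Set G) with hCN
        haveI : CN.Normal := Subgroup.normal_centralizer
        have hNCN : N ≤ CN := fun x hx => Subgroup.mem_centralizer_iff.mpr fun y hy => hNc y hy x hx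
        set M1 := M ⊓ CN with hM1
        haveI hM1n : M1.Normal := by
          rw [← Subgroup.normalizer_eq_top_iff, eq_top_iff, ← htop, sup_le_iff]
          refine ⟨fun a ha => Subgroup.centralizer_le_normalizer _ (Subgroup.mem_centralizer_iff.mpr fun b hb =>
            ((Subgroup.mem_centralizer_iff.mp hb.2) a ha).symm), fun m hm => Coprime.mem_normalizer_of_conj_smul_eq ?_⟩
          rw [hM1, Subgroup.smul_inf, Subgroup.Normal.conj_smul_eq_self (H := CN),
            Coprime.conj_smul_eq_of_mem_normalizer (Subgroup.le_normalizer hm)]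
        have hM1rel : M1.relIndex CN ∣ p := by
          have h1 : M1.relIndex CN = M.relIndex CN := by rw [hM1, Subgroup.inf_relIndex_right]
          rw [h1]
          have h2 := Coprime.card_sup_mul_card_inf (N := N) (H := M ⊓ CN) Subgroup.le_normalizer_of_normal
          have h3 : N ⊔ M ⊓ CN = CN := by
            refine le_antisymm (sup_le hNCN inf_le_right) fun x hx => ?_
            obtain ⟨u, hu, v, hv, rfl⟩ := Coprime.exists_mul_of_mem_sup (N := N) (H := M)
              Subgroup.le_normalizer_of_normal (htop ▸ Subgroup.mem_top x)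
            refine Subgroup.mul_mem_sup hu ⟨hv, ?_⟩
            have := CN.mul_mem (CN.inv_mem (hNCN hu)) hx
            rwa [inv_mul_cancel_left] at this
          have h4 : N ⊓ (M ⊓ CN) = ⊥ := le_bot_iff.mp ((inf_le_inf_left N inf_le_left).trans hinf.le)
          rw [h3, h4, Subgroup.card_bot, mul_one, hNpr, ← Subgroup.relIndex_bot_left, ← Subgroup.relIndex_bot_left,
            ← Subgroup.relIndex_mul_relIndex ⊥ (M ⊓ CN) CN bot_le inf_le_right, Subgroup.inf_relIndex_right,
            mul_comm p] at h2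
          exact dvd_of_eq (Nat.eq_of_mul_eq_mul_left (Nat.pos_of_ne_zero (by
            rw [Subgroup.relIndex_bot_left]; exact Nat.card_pos.ne')) h2)
        have hCNi : ¬ p ∣ CN.index := by
          intro hd
          haveI : Fact (Nat.card N).Prime := ⟨hNpr ▸ hp⟩
          obtain ⟨q, hq⟩ := exists_prime_orderOf_dvd_card' (G := G ⧸ CN) p (by rwa [← Subgroup.index_eq_card])
          obtain ⟨x, rfl⟩ := QuotientGroup.mk_surjective q
          -- an automorphism of order p of a group of order p is trivial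
          obtain ⟨w, hw⟩ := exists_ne (1 : N)
          haveI := Fact.mk hp
          have hcycN : IsCyclic N := isCyclic_of_prime_card rfl
          letI : CommGroup N := IsCyclic.commGroup
          have hNt : ∀ u : N, u ∈ Subgroup.zpowers w := fun u => mem_zpowers_of_prime_card hNpr hw
          obtain ⟨k, hk⟩ := Subgroup.mem_zpowers_iff.mp (hNt ⟨x * w * x⁻¹, hNn.conj_mem _ w.2 x⟩)
          have hk' : x * (w : G) * x⁻¹ = (w : G) ^ k := (congrArg Subtype.val hk).symm
          have hiter : ∀ i : ℕ, x ^ i * (w : G) * (x ^ i)⁻¹ = (w : G) ^ (k ^ i) := by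
            intro i
            induction i with
            | zero => simp
            | succ i ih =>
              rw [pow_succ' x, show x * x ^ i * (w : G) * (x * x ^ i)⁻¹ = x * (x ^ i * w * (x ^ i)⁻¹) * x⁻¹ by group,
                ih, ← conj_zpow, hk', ← zpow_mul, pow_succ']
          have hxp : x ^ p ∈ CN := by
            rw [← QuotientGroup.eq_one_iff, QuotientGroup.mk_pow, ← hq, pow_orderOf_eq_one]
          have hkp : (w : G) ^ (k ^ p) = w := by
            rw [← hiter p, ← (Subgroup.mem_centralizer_iff.mp hxp) w w.2, mul_inv_cancel_right]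
          have hwo : orderOf (w : G) = p := by
            rw [Subgroup.orderOf_coe]
            exact ((Nat.dvd_prime hp).mp (hNpr ▸ orderOf_dvd_natCard w)).resolve_left fun e => hw (orderOf_eq_one_iff.mp e)
          have hmod : ((k ^ p : ℤ) : ZMod p) = 1 := by
            have h1 : (w : G) ^ (k ^ p - 1) = 1 := by rw [zpow_sub_one, hkp, mul_inv_cancel]
            have h2 := (orderOf_dvd_iff_zpow_eq_one).mpr h1
            rw [hwo, ← ZMod.intCast_zmod_eq_zero_iff_dvd, Int.cast_sub, Int.cast_one, sub_eq_zero] at h2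
            exact h2
          rw [Int.cast_pow, ZMod.pow_card] at hmod
          have hxC : x ∈ CN := Subgroup.mem_centralizer_iff.mpr fun u hu => by
            obtain ⟨j, hj⟩ := Subgroup.mem_zpowers_iff.mp (hNt ⟨u, hu⟩)
            have hj' : (w : G) ^ j = u := congrArg Subtype.val hj
            have hwk : (w : G) ^ k = w := by
              have h2 : ((p : ℕ) : ℤ) ∣ k - 1 := by
                rw [← ZMod.intCast_zmod_eq_zero_iff_dvd, Int.cast_sub, Int.cast_one, hmod, sub_self]
              rw [← hwo, orderOf_dvd_iff_zpow_eq_one, zpow_sub_one, mul_inv_eq_one] at h2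
              exact h2
            rw [hwk] at hk'
            rw [← hj']
            exact ((show Commute x (w : G) from mul_inv_eq_iff_eq_mul.mp hk').zpow_right j).eq.symm
          rw [(QuotientGroup.eq_one_iff x).mpr hxC, orderOf_one] at hq
          exact hp.one_lt.ne hq
        obtain ⟨A, B, C, D, hA, hB, hC, hD, hAB, hBC, hCD, hAo, ⟨k, hk⟩, hBo, ⟨l, hl⟩, hDi⟩ := hq
        haveI := hA; haveI := hB; haveI := hC; haveI := hD
        have hrel : ∀ X Y : Subgroup (G ⧸ N), (X.comap f).relIndex (Y.comap f) = X.relIndex Y := fun X Y => by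
          rw [Subgroup.relIndex_comap, Subgroup.map_comap_eq_self_of_surjective hf]
        set A' := A.comap f
        set B' := B.comap f
        set C' := C.comap f
        set D' := D.comap f
        have hAB' : A' ≤ B' := Subgroup.comap_mono hAB
        have hBC' : B' ≤ C' := Subgroup.comap_mono hBC
        have hCD' : C' ≤ D' := Subgroup.comap_mono hCD
        refine ⟨M1 ⊓ A', CN ⊓ B', CN ⊓ C', CN ⊓ D', inferInstance, inferInstance, inferInstance, inferInstance,
          inf_le_inf inf_le_right hAB', inf_le_inf_left CN hBC', inf_le_inf_left CN hCD', ?_, ?_, ?_, ?_, ?_⟩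
        · intro hd
          have h1 := Cores.card_map_mul_card_inf_ker f (M1 ⊓ A')
          have h2 : (M1 ⊓ A') ⊓ f.ker = ⊥ := by
            rw [hf', QuotientGroup.ker_mk']
            exact le_bot_iff.mp ((le_inf inf_le_right ((inf_le_left.trans inf_le_left).trans inf_le_left)).trans hinf.le)
          rw [h2, Subgroup.card_bot, mul_one] at h1
          refine hAo (hd.trans (h1 ▸ Subgroup.card_dvd_of_le ?_))
          rintro _ ⟨x, hx, rfl⟩
          exact hx.2
        · have h1 : (M1 ⊓ A').relIndex (CN ⊓ A') ∣ p := by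
            refine dvd_trans ?_ hM1rel
            rw [show M1 ⊓ A' = M1 ⊓ (CN ⊓ A') by rw [← inf_assoc, inf_eq_left.mpr (inf_le_right : M1 ≤ CN)],
              Subgroup.inf_relIndex_right]
            exact relIndex_dvd_normal inf_le_left inf_le_right
          have h2 : (CN ⊓ A').relIndex (CN ⊓ B') ∣ p ^ k := by
            rw [show CN ⊓ A' = A' ⊓ (CN ⊓ B') by
              rw [inf_left_comm, inf_eq_left.mpr hAB'], Subgroup.inf_relIndex_right, ← hk, ← hrel A B]
            exact relIndex_dvd_normal inf_le_right hAB'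
          have h3 := Subgroup.relIndex_mul_relIndex (M1 ⊓ A') (CN ⊓ A') (CN ⊓ B') (inf_le_inf_right A' inf_le_right)
            (inf_le_inf_left CN hAB')
          have h4 : (M1 ⊓ A').relIndex (CN ⊓ B') ∣ p ^ (k + 1) := by
            rw [← h3, pow_succ']; exact mul_dvd_mul h1 h2
          obtain ⟨j, -, hj⟩ := (Nat.dvd_prime_pow hp).mp h4
          exact ⟨j, hj⟩
        · intro hd
          refine hBo (hd.trans ?_)
          rw [show CN ⊓ B' = B' ⊓ (CN ⊓ C') by rw [inf_left_comm, inf_eq_left.mpr hBC'],
            Subgroup.inf_relIndex_right, ← hrel B C]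
          exact relIndex_dvd_normal inf_le_right hBC'
        · have h2 : (CN ⊓ C').relIndex (CN ⊓ D') ∣ p ^ l := by
            rw [show CN ⊓ C' = C' ⊓ (CN ⊓ D') by rw [inf_left_comm, inf_eq_left.mpr hCD'],
              Subgroup.inf_relIndex_right, ← hl, ← hrel C D]
            exact relIndex_dvd_normal inf_le_right hCD'
          obtain ⟨j, -, hj⟩ := (Nat.dvd_prime_pow hp).mp h2
          exact ⟨j, hj⟩
        · intro hd
          have h1 : (CN ⊓ D').index ∣ CN.index * D'.index := by
            have := Subgroup.relIndex_mul_index (inf_le_right : CN ⊓ D' ≤ D')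
            rw [Subgroup.inf_relIndex_right] at this
            rw [← this]
            refine mul_dvd_mul ?_ dvd_rfl
            rw [← Subgroup.relIndex_top_right CN]
            exact relIndex_dvd_normal le_top le_top
          rcases hp.dvd_mul.mp (hd.trans h1) with h2 | h2
          · exact hCNi h2
          · rw [Subgroup.index_comap_of_surjective _ hf] at h2
            exact hDi h2
    · push Not at hfr
      obtain ⟨A, B, C, D, hA, hB, hC, hD, hAB, hBC, hCD, hAo, ⟨k, hk⟩, hBo, ⟨l, hl⟩, hDi⟩ := hq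
      have hrel : ∀ X Y : Subgroup (G ⧸ N), (X.comap f).relIndex (Y.comap f) = X.relIndex Y := fun X Y => by
        rw [Subgroup.relIndex_comap, Subgroup.map_comap_eq_self_of_surjective hf]
      set A' := A.comap f with hA'
      haveI : A'.Normal := hA.comap f
      have hNA : N ≤ A' := hNle A
      have hA'c : Nat.card A' = Nat.card N * Nat.card A := Cores.card_comap_mk' N A
      have hcopNA : (Nat.card N).Coprime (Nat.card A) := by
        rw [ha]; exact (hp.coprime_iff_not_dvd.mpr hAo).pow_left _
      set N' := N.subgroupOf A' with hN'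
      have hN'c : Nat.card N' = Nat.card N := Nat.card_congr (Subgroup.subgroupOfEquivOfLe hNA).toEquiv
      have hN'i : N'.index = Nat.card A := by
        have h1 := N'.card_mul_index
        rw [hN'c, hA'c] at h1
        exact Nat.eq_of_mul_eq_mul_left Nat.card_pos h1
      obtain ⟨A1, hA1⟩ := Subgroup.exists_right_complement'_of_coprime (N := N') (by rw [hN'c, hN'i]; exact hcopNA)
      set A0 := A1.map A'.subtype with hA0
      have hA1c : Nat.card A1 = Nat.card A := by rw [← hA1.symm.index_eq_card, hN'i]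
      have hA0c : Nat.card A0 = Nat.card A := by rw [hA0, Subgroup.card_subtype, hA1c]
      have hA0A : A0 ≤ A' := Subgroup.map_subtype_le A1
      have hcopA : (Nat.card N).Coprime (Nat.card A0) := by rw [hA0c]; exact hcopNA
      have hsupA : N ⊔ A0 = A' := by
        refine Subgroup.eq_of_le_of_card_ge (sup_le hNA hA0A) (le_of_eq ?_)
        rw [Coprime.card_sup_of_coprime Subgroup.le_normalizer_of_normal hcopA, hA0c, hA'c]
      have hnorm : Subgroup.normalizer (A0 : Set G) = ⊤ := by
        by_contra hne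
        obtain ⟨M, hM, hle⟩ := (eq_top_or_exists_le_coatom (Subgroup.normalizer (A0 : Set G))).resolve_left hne
        refine hM.1 (eq_top_iff.mpr fun g _ => ?_)
        obtain ⟨x, hx, he⟩ := Coprime.exists_conj_eq_of_le_sup (N := N) (H := A0) (K := MulAut.conj g • A0)
          Subgroup.le_normalizer_of_normal hcopA (Or.inl inferInstance) (Coprime.card_conj_smul _ _) (by
            rw [hsupA]
            intro y hy
            rw [Coprime.mem_conj_smul] at hy
            have := (inferInstance : A'.Normal).conj_mem _ (hA0A hy) g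
            simpa [mul_assoc] using this)
        have : x⁻¹ * g ∈ Subgroup.normalizer (A0 : Set G) := by
          refine Coprime.mem_normalizer_of_conj_smul_eq ?_
          rw [map_mul, map_inv, mul_smul, ← he, inv_smul_smul]
        have h1 := M.mul_mem (hfr M hM hx) (hle this)
        rwa [mul_inv_cancel_left] at h1
      haveI hA0n : A0.Normal := Subgroup.normalizer_eq_top_iff.mp hnorm
      refine ⟨A0, B.comap f, C.comap f, D.comap f, hA0n, hB.comap f, hC.comap f, hD.comap f,
        hA0A.trans (Subgroup.comap_mono hAB), Subgroup.comap_mono hBC, Subgroup.comap_mono hCD, hA0c ▸ hAo,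
        ⟨a + k, ?_⟩, (hrel B C).symm ▸ hBo, ⟨l, (hrel C D).trans hl⟩, by rwa [Subgroup.index_comap_of_surjective _ hf]⟩
      have h3 := Subgroup.relIndex_mul_relIndex A0 A' (B.comap f) hA0A (Subgroup.comap_mono hAB)
      rw [hA', hrel, hk] at h3
      rw [← h3, pow_add]
      congr 1
      have h4 := Subgroup.relIndex_mul_relIndex ⊥ A0 (A.comap f) bot_le hA0A
      rw [Subgroup.relIndex_bot_left, Subgroup.relIndex_bot_left, hA0c, Cores.card_comap_mk', ha, mul_comm (p ^ a)] at h4
      exact Nat.eq_of_mul_eq_mul_left Nat.card_pos h4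

/-- Let p be an odd prime and G a finite p-solvable group in which every maximal subgroup either has a normal p-complement or has prime index. Then G has a chain of normal subgroups 1 ≤ A ≤ B ≤ C ≤ D ≤ G in which A, C/B and G/D have order prime to p and B/A and D/C are p-groups (so the p-length of G is at most 2). -/
theorem result {G : Type*} [Group G] [Finite G]
    (p : ℕ) [Fact p.Prime] (hp : p ≠ 2) (hG : Cfsg.IsPSolvable p G)
    (hmax : ∀ M : Subgroup G, IsCoatom M → (∃ K : Subgroup ↥M, K.Normal ∧ ¬ p ∣ Nat.card K ∧ ∃ k : ℕ, K.index = p ^ k) ∨ (M.index).Prime) :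
    ∃ A B C D : Subgroup G, A.Normal ∧ B.Normal ∧ C.Normal ∧ D.Normal ∧ A ≤ B ∧ B ≤ C ∧ C ≤ D ∧ ¬ p ∣ Nat.card A ∧
      (∃ k : ℕ, A.relIndex B = p ^ k) ∧ ¬ p ∣ B.relIndex C ∧ (∃ k : ℕ, C.relIndex D = p ^ k) ∧ ¬ p ∣ D.index := by
  exact chain_of_pSolvable (Nat.card G) G rfl hG hmax

end Cfsg.Agent.S4379
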