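import Cfsg.Statements.S4381
import Cfsg.Agent.Lib.Coprime.External
import Cfsg.Agent.Lib.Coprime.Generation
import Cfsg.Agent.Lib.Cores.Frattini
import Cfsg.Agent.S3775
import Mathlib

set_option autoImplicit false
open Pointwise
open Cfsg

namespace Cfsg.Agent.S4381

open Pointwise

theorem exists_complement {V : Type*} [CommGroup V] [Finite V] {p : ℕ} (hp : p.Prime)
    (he : ∀ v : V, v ^ p = 1) (U : Subgroup V) : ∃ W : Subgroup V, U ⊓ W = ⊥ ∧ U ⊔ W = ⊤ := by
  classical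
  haveI := Fact.mk hp
  obtain ⟨W, hW⟩ := (Set.toFinite {W : Subgroup V | U ⊓ W = ⊥}).exists_maximal ⟨⊥, by simp⟩
  refine ⟨W, hW.1, eq_top_iff.mpr fun x _ => ?_⟩
  by_contra hx
  have hxW : x ∉ W := fun h => hx (Subgroup.mem_sup_right h)
  have hle : W ≤ W ⊔ Subgroup.zpowers x := le_sup_left
  have hne : U ⊓ (W ⊔ Subgroup.zpowers x) ≠ ⊥ := fun h =>
    hxW (hW.2 h hle (Subgroup.mem_sup_right (Subgroup.mem_zpowers x)))
  obtain ⟨⟨u, hu⟩, hu1⟩ := exists_ne_of_ne_bot hne
  obtain ⟨w, hw, y, hy, hwy⟩ := Subgroup.mem_sup.mp hu.2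
  obtain ⟨i, rfl⟩ := Subgroup.mem_zpowers_iff.mp hy
  by_cases hd : (p : ℤ) ∣ i
  · obtain ⟨k, rfl⟩ := hd
    rw [zpow_mul, zpow_natCast, he, one_zpow, mul_one] at hwy
    have huW : u ∈ U ⊓ W := ⟨hu.1, hwy ▸ hw⟩
    rw [show U ⊓ W = ⊥ from hW.1, Subgroup.mem_bot] at huW
    exact hu1 huW
  · obtain ⟨a, b, hab⟩ : IsCoprime i (p : ℤ) :=
      ((Nat.prime_iff_prime_int.mp hp).coprime_iff_not_dvd.mpr hd).symm
    refine hx ?_
    have hxi : x ^ i ∈ U ⊔ W := by
      have : x ^ i = w⁻¹ * u := by rw [← hwy, inv_mul_cancel_left]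
      rw [this]
      exact mul_mem (inv_mem (Subgroup.mem_sup_right hw)) (Subgroup.mem_sup_left hu.1)
    have hxe : x = (x ^ i) ^ a := by
      conv_lhs => rw [← zpow_one x, ← hab, zpow_add, mul_comm a, zpow_mul, mul_comm b, zpow_mul,
        zpow_natCast, he, one_zpow, mul_one]
    rw [hxe]
    exact zpow_mem hxi a
where
  exists_ne_of_ne_bot {K : Subgroup V} (h : K ≠ ⊥) : ∃ x : {x // x ∈ K}, (x : V) ≠ 1 := by
    obtain ⟨x, hx, hx1⟩ := K.bot_or_exists_ne_one.resolve_left h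
    exact ⟨⟨x, hx⟩, hx1⟩


/-- Let the finite group A act by automorphisms on the finite group G with the orders of A and G coprime, and assume that A or G is solvable. Call a proper A-invariant subgroup of G maximal A-invariant when no A-invariant subgroup lies strictly between it and G. Then all maximal A-invariant subgroups of G are conjugate under elements of the fixed-point subgroup C_G(A) if and only if G is a p-group for some prime p and A leaves invariant no subgroup strictly between the Frattini subgroup of G and G. In that case, if G is nontrivial, the Frattini subgroup is the only maximal A-invariant subgroup (a trivial G has none). -/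
theorem result {A G : Type*} [Group A] [Finite A]
    [Group G] [Finite G] [MulDistribMulAction A G] (hcop : (Nat.card A).Coprime (Nat.card G)) (hsol : Group.IsSolvable A ∨ Group.IsSolvable G) :
    ((∀ M N : Subgroup G, (M ≠ ⊤ ∧ (∀ a : A, ∀ x ∈ M, a • x ∈ M) ∧ ∀ L : Subgroup G, M < L → (∀ a : A, ∀ x ∈ L, a • x ∈ L) → L = ⊤) → (N ≠ ⊤ ∧ (∀ a : A, ∀ x ∈ N, a • x ∈ N) ∧ ∀ L : Subgroup G, N < L → (∀ a : A, ∀ x ∈ L, a • x ∈ L) → L = ⊤) →
        ∃ c : G, (∀ a : A, a • c = c) ∧ N = MulAut.conj c • M) ↔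
      ((∃ p : ℕ, p.Prime ∧ IsPGroup p G) ∧ ∀ L : Subgroup G, frattini G < L → (∀ a : A, ∀ x ∈ L, a • x ∈ L) → L = ⊤)) ∧
    (((∃ p : ℕ, p.Prime ∧ IsPGroup p G) ∧ ∀ L : Subgroup G, frattini G < L → (∀ a : A, ∀ x ∈ L, a • x ∈ L) → L = ⊤) →
      ∀ M : Subgroup G, (M ≠ ⊤ ∧ (∀ a : A, ∀ x ∈ M, a • x ∈ M) ∧ ∀ L : Subgroup G, M < L → (∀ a : A, ∀ x ∈ L, a • x ∈ L) → L = ⊤) ↔ (M = frattini G ∧ M ≠ ⊤)) := by
  classical
  haveI := Fintype.ofFinite A
  set φ := MulDistribMulAction.toMulAut A G with hφdef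
  have hφ : ∀ (a : A) (x : G), φ a x = a • x := fun a x => rfl
  let MI : Subgroup G → Prop := fun M =>
    M ≠ ⊤ ∧ (∀ a : A, ∀ x ∈ M, a • x ∈ M) ∧ ∀ L : Subgroup G, M < L → (∀ a : A, ∀ x ∈ L, a • x ∈ L) → L = ⊤
  have hex : ∀ U : Subgroup G, U ≠ ⊤ → (∀ a : A, ∀ x ∈ U, a • x ∈ U) → ∃ M, MI M ∧ U ≤ M := by
    intro U hU hUi
    obtain ⟨M, hUM, hM⟩ := (Set.toFinite {L : Subgroup G | L ≠ ⊤ ∧ ∀ a : A, ∀ x ∈ L, a • x ∈ L}).exists_le_maximal
      (a := U) ⟨hU, hUi⟩
    refine ⟨M, ⟨hM.1.1, hM.1.2, fun L hL hLi => ?_⟩, hUM⟩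
    by_contra hLt
    exact hL.not_ge (hM.2 ⟨hLt, hLi⟩ hL.le)
  have hΦi : ∀ a : A, ∀ x ∈ frattini G, a • x ∈ frattini G := fun a x hx => by
    have h := Subgroup.characteristic_iff_map_le.mp (inferInstance : (frattini G).Characteristic) (φ a)
    exact h (Subgroup.mem_map_of_mem _ hx)
  have hsup : ∀ U V : Subgroup G, (∀ a : A, ∀ x ∈ U, a • x ∈ U) → (∀ a : A, ∀ x ∈ V, a • x ∈ V) →
      ∀ a : A, ∀ x ∈ U ⊔ V, a • x ∈ U ⊔ V := by
    intro U V hU hV a x hx
    have h1 : (U ⊔ V).map (φ a).toMonoidHom ≤ U ⊔ V := by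
      rw [Subgroup.map_sup]
      refine sup_le ?_ ?_
      · rintro _ ⟨y, hy, rfl⟩; exact Subgroup.mem_sup_left (hU a y hy)
      · rintro _ ⟨y, hy, rfl⟩; exact Subgroup.mem_sup_right (hV a y hy)
    exact h1 (Subgroup.mem_map_of_mem _ hx)
  -- maximal invariant subgroups contain the Frattini subgroup
  have hΦle : ∀ M, MI M → frattini G ≤ M := by
    intro M hM
    by_contra hle
    have h1 := hM.2.2 (M ⊔ frattini G) (lt_of_le_of_ne le_sup_left fun e => hle (e ▸ le_sup_right))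
      (hsup _ _ hM.2.1 hΦi)
    exact hM.1 (frattini_nongenerating h1)
  have part2 : ((∃ p : ℕ, p.Prime ∧ IsPGroup p G) ∧
      ∀ L : Subgroup G, frattini G < L → (∀ a : A, ∀ x ∈ L, a • x ∈ L) → L = ⊤) →
      ∀ M, MI M ↔ (M = frattini G ∧ M ≠ ⊤) := by
    rintro ⟨-, hL⟩ M
    constructor
    · intro hM
      refine ⟨?_, hM.1⟩
      by_contra hne
      exact hM.1 (hL M (lt_of_le_of_ne (hΦle M hM) (Ne.symm hne)) hM.2.1)
    · rintro ⟨rfl, hne⟩
      exact ⟨hne, hΦi, hL⟩
  refine ⟨⟨fun h => ?_, ?_⟩, part2⟩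
  · -- all maximal invariant subgroups are conjugate
    by_cases hnone : ∀ M, ¬ MI M
    · have hall : ∀ U : Subgroup G, (∀ a : A, ∀ x ∈ U, a • x ∈ U) → U = ⊤ := fun U hUi => by
        by_contra hU
        obtain ⟨M, hM, -⟩ := hex U hU hUi
        exact hnone M hM
      have hbot : (⊥ : Subgroup G) = ⊤ := hall ⊥ fun a x hx => by
        rw [Subgroup.mem_bot] at hx ⊢; rw [hx, smul_one]
      refine ⟨⟨2, Nat.prime_two, fun g => ⟨0, ?_⟩⟩, fun L _ hLi => hall L hLi⟩
      have : g ∈ (⊥ : Subgroup G) := hbot ▸ Subgroup.mem_top g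
      rw [Subgroup.mem_bot.mp this, one_pow]
    push Not at hnone
    obtain ⟨M0, hM0⟩ := hnone
    obtain ⟨p, hp, hpG⟩ : ∃ p : ℕ, p.Prime ∧ IsPGroup p G := by
      by_contra hno
      push Not at hno
      refine hM0.1 (Subgroup.eq_top_of_card_eq _ (Nat.dvd_antisymm M0.card_subgroup_dvd_card ?_))
      refine (Nat.dvd_iff_prime_pow_dvd_dvd _ _).mpr fun q k hq hqk => ?_
      haveI := Fact.mk hq
      obtain ⟨P, -, hP⟩ := Cfsg.Agent.Lib.Coprime.exists_invariant_sylow_external φ hcop hsol q ⊥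
        IsPGroup.of_bot (fun a u hu => by rw [Subgroup.mem_bot] at hu ⊢; rw [hu, map_one])
      have hPt : (P : Subgroup G) ≠ ⊤ := fun e => hno q hq ((e ▸ P.2 : IsPGroup q (⊤ : Subgroup G)).of_equiv Subgroup.topEquiv)
      obtain ⟨M, hM, hPM⟩ := hex _ hPt hP
      obtain ⟨c, -, hc⟩ := h M0 M hM0 hM
      have h1 : q ^ k ∣ Nat.card (P : Subgroup G) := by
        rw [P.card_eq_multiplicity]
        exact Nat.pow_dvd_pow q ((hq.pow_dvd_iff_le_factorization Nat.card_pos.ne').mp hqk)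
      have h2 := h1.trans (Subgroup.card_dvd_of_le hPM)
      rwa [hc, Cfsg.Agent.Lib.Coprime.card_conj_smul] at h2
    haveI := Fact.mk hp
    refine ⟨⟨p, hp, hpG⟩, fun L hL hLi => ?_⟩
    by_contra hLt
    -- Maschke in the Frattini quotient
    have hnorm : ∀ N : Subgroup G, frattini G ≤ N → N.Normal := fun N hN => ⟨fun n hn g => by
      have h1 : g * n * g⁻¹ * n⁻¹ ∈ N := hN (Cfsg.Agent.Lib.Coprime.commutator_le_frattini_of_isPGroup hpG
        (by rw [commutator_def]; exact Subgroup.commutator_mem_commutator trivial trivial))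
      have := mul_mem h1 hn
      rwa [inv_mul_cancel_right] at this⟩
    obtain ⟨M, hM, hLM⟩ := hex L hLt hLi
    have hMuniq : ∀ N, MI N → N = M := by
      intro N hN
      obtain ⟨c, -, hc⟩ := h M N hM hN
      haveI := hnorm M (hΦle M hM)
      rw [hc, Cfsg.Agent.Lib.Coprime.conj_smul_eq_of_mem_normalizer
        (by rw [Subgroup.normalizer_eq_top_iff.mpr (hnorm M (hΦle M hM))]; exact Subgroup.mem_top c)]
    haveI hFn : (frattini G).Normal := inferInstance
    letI : CommGroup (G ⧸ frattini G) :=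
      { (inferInstance : Group (G ⧸ frattini G)) with
        mul_comm := fun x y => by
          obtain ⟨a, rfl⟩ := QuotientGroup.mk_surjective x
          obtain ⟨b, rfl⟩ := QuotientGroup.mk_surjective y
          rw [← QuotientGroup.mk_mul, ← QuotientGroup.mk_mul, QuotientGroup.eq]
          have h1 : (a * b)⁻¹ * (b * a) = b⁻¹ * a⁻¹ * b * a := by group
          rw [h1]
          refine Cfsg.Agent.Lib.Coprime.commutator_le_frattini_of_isPGroup hpG ?_
          rw [commutator_def]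
          have := Subgroup.commutator_mem_commutator (H₁ := (⊤ : Subgroup G)) (H₂ := ⊤)
            (g₁ := b⁻¹) (g₂ := a⁻¹) trivial trivial
          simpa [commutatorElement_def] using this }
    let act : A →* MulAut (G ⧸ frattini G) :=
      { toFun := fun a => QuotientGroup.congr _ _ (φ a)
          (Subgroup.characteristic_iff_map_eq.mp inferInstance (φ a))
        map_one' := MulEquiv.ext fun x => by
          obtain ⟨g, rfl⟩ := QuotientGroup.mk_surjective x
          show ((φ 1 g : G) : G ⧸ frattini G) = _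
          rw [map_one]; rfl
        map_mul' := fun a b => MulEquiv.ext fun x => by
          obtain ⟨g, rfl⟩ := QuotientGroup.mk_surjective x
          show ((φ (a * b) g : G) : G ⧸ frattini G) = _
          rw [map_mul]; rfl }
    set U := L.map (QuotientGroup.mk' (frattini G)) with hU
    obtain ⟨W, hW1, hW2⟩ := exists_complement hp (fun v : G ⧸ frattini G => by
      obtain ⟨g, rfl⟩ := QuotientGroup.mk_surjective v
      rw [← QuotientGroup.mk_pow, QuotientGroup.eq_one_iff]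
      exact Cfsg.Agent.Lib.Cores.pow_mem_frattini hpG g) U
    obtain ⟨W', hW'i, hW'd, hW's⟩ := Cfsg.Agent.S3775.exists_invariant_complement act
      (hcop.coprime_dvd_right (Subgroup.card_quotient_dvd_card _)) U W
      (by rintro a _ ⟨x, hx, rfl⟩; exact ⟨a • x, hLi a x hx, rfl⟩) hW1 hW2
    set L' := W'.comap (QuotientGroup.mk' (frattini G)) with hL'
    have hL'i : ∀ a : A, ∀ x ∈ L', a • x ∈ L' := fun a x hx => hW'i a _ hx
    have hL't : L' ≠ ⊤ := by
      intro e
      obtain ⟨x, hx, hxn⟩ := SetLike.exists_of_lt hL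
      have hxW : QuotientGroup.mk' (frattini G) x ∈ U ⊓ W' :=
        ⟨Subgroup.mem_map_of_mem _ hx, (show x ∈ L' by rw [e]; trivial)⟩
      rw [hW'd, Subgroup.mem_bot] at hxW
      exact hxn ((QuotientGroup.eq_one_iff x).mp hxW)
    obtain ⟨N, hN, hL'N⟩ := hex L' hL't hL'i
    rw [hMuniq N hN] at hL'N
    refine hM.1 (eq_top_iff.mpr fun x _ => ?_)
    haveI : U.Normal := inferInstance
    have hx : QuotientGroup.mk' (frattini G) x ∈ U ⊔ W' := by rw [hW's]; trivial
    obtain ⟨_, ⟨l, hl, rfl⟩, w, hw, hlw⟩ := Subgroup.mem_sup.mp hx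
    have h1 : l⁻¹ * x ∈ L' := by
      show QuotientGroup.mk' (frattini G) (l⁻¹ * x) ∈ W'
      rw [map_mul, map_inv, ← hlw, inv_mul_cancel_left]
      exact hw
    have := mul_mem (hLM hl) (hL'N h1)
    rwa [mul_inv_cancel_left] at this
  · rintro hc M N hM hN
    refine ⟨1, fun a => smul_one a, ?_⟩
    rw [Cfsg.Agent.Lib.Coprime.conj_one_smul, ((part2 hc M).mp hM).1, ((part2 hc N).mp hN).1]

end Cfsg.Agent.S4381
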