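import Cfsg.Statements.S4385
import Cfsg.Agent.Lib.DihedralPush.TopBig

set_option autoImplicit false
open Pointwise
open Cfsg

namespace Cfsg.Agent.S4385

/-- Let H be a subgroup of a finite group G whose largest normal 2-subgroup O_2(H) is nontrivial and such that H/O_2(H) is a dihedral group of order at least 4. Let P be a Sylow 2-subgroup of H and S a Sylow 2-subgroup of G containing P. Suppose y ∈ S lies outside P, normalizes P, has y² in the product of P with the centralizer of P in G, and normalizes no non-identity normal subgroup of H contained in P. Then P has order 4, 8 or 16, and H modulo its largest normal subgroup of odd order is isomorphic to the four-group, to the symmetric group of degree 4, or to the direct product of the symmetric group of degree 4 with a group of order 2. -/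
theorem result {G : Type*} [Group G] [Finite G]
    (H : Subgroup G) (hO : Cfsg.pCore 2 ↥H ≠ ⊥) (n : ℕ) (hn : 2 ≤ n) (hdih : Nonempty (↥H ⧸ Cfsg.pCore 2 ↥H ≃* DihedralGroup n))
    (P : Subgroup G) (hPH : P ≤ H) (hP : IsPGroup 2 P) (hPsyl : ¬ 2 ∣ P.relIndex H)
    (S : Sylow 2 G) (hPS : P ≤ (S : Subgroup G)) (y : G) (hyS : y ∈ (S : Subgroup G)) (hyP : y ∉ P)
    (hy2 : y ^ 2 ∈ P ⊔ Subgroup.centralizer (P : Set G)) (hyN : MulAut.conj y • P = P)
    (hyQ : ∀ Q : Subgroup G, Q ≤ P → (Q.subgroupOf H).Normal → MulAut.conj y • Q = Q → Q = ⊥) :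
    (Nat.card P = 4 ∨ Nat.card P = 8 ∨ Nat.card P = 16) ∧
    (Nonempty (↥H ⧸ Cfsg.oddCore ↥H ≃* Multiplicative (ZMod 2) × Multiplicative (ZMod 2)) ∨
     Nonempty (↥H ⧸ Cfsg.oddCore ↥H ≃* Equiv.Perm (Fin 4)) ∨
     Nonempty (↥H ⧸ Cfsg.oddCore ↥H ≃* Equiv.Perm (Fin 4) × Multiplicative (ZMod 2))) := by
  classical
  haveI h2 : Fact (Nat.Prime 2) := ⟨Nat.prime_two⟩
  set O2 := Cfsg.pCore 2 ↥H with hO2
  have hO2n : O2.Normal := inferInstance
  obtain ⟨e⟩ := hdih
  haveI : NeZero n := ⟨by omega⟩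
  -- `n` is odd
  have hD : Cfsg.pCore 2 (DihedralGroup n) = ⊥ := by
    rw [← Cfsg.Agent.Lib.Cores.map_pCore_equiv e, Cfsg.Agent.Lib.Cores.pCore_quotient_pCore,
      Subgroup.map_bot]
  have hnodd : Odd n := by
    rcases Nat.even_or_odd n with ⟨k, hk⟩ | h
    · exfalso
      set r : DihedralGroup n := DihedralGroup.r (k : ZMod n) with hr
      have hkk : (k : ZMod n) + k = 0 := by rw [← Nat.cast_add, ← hk, ZMod.natCast_self]
      have hrr : r * r = 1 := by rw [hr, DihedralGroup.r_mul_r, hkk]; exact DihedralGroup.r_zero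
      have hrc : ∀ g, g * r = r * g := by
        intro g
        cases g with
        | r i => rw [hr, DihedralGroup.r_mul_r, DihedralGroup.r_mul_r, add_comm]
        | sr i =>
          rw [hr, DihedralGroup.sr_mul_r, DihedralGroup.r_mul_sr]
          congr 1
          rw [eq_sub_iff_add_eq, add_assoc, hkk, add_zero]
      set N := Subgroup.zpowers r
      have hNn : N.Normal := ⟨fun a ha g => by
        obtain ⟨j, rfl⟩ := Subgroup.mem_zpowers_iff.1 ha
        have : g * r ^ j * g⁻¹ = r ^ j := by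
          rw [← conj_zpow, hrc g, mul_inv_cancel_right]
        rw [this]
        exact Subgroup.zpow_mem_zpowers r j⟩
      have hNp : IsPGroup 2 N := fun ⟨a, ha⟩ => ⟨1, by
        rcases Cfsg.Agent.DihPush.mem_zpowers_invol hrr ha with h | h
        · ext; simp [h]
        · ext; simp [h, pow_two, hrr]⟩
      have := Cfsg.Agent.Lib.Cores.le_pCore hNn hNp (Subgroup.mem_zpowers r)
      rw [hD, Subgroup.mem_bot, hr, DihedralGroup.one_def, DihedralGroup.r.injEq,
        ZMod.natCast_eq_zero_iff] at this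
      have := Nat.le_of_dvd (by omega) this
      omega
    · exact h
  let π : ↥H →* DihedralGroup n := e.toMonoidHom.comp (QuotientGroup.mk' O2)
  have hπ : ∀ h, π h = 1 ↔ h ∈ O2 := fun h => by simp [π]
  have hπs : Function.Surjective π := e.surjective.comp (QuotientGroup.mk'_surjective O2)
  set Q := O2.map H.subtype with hQdef
  have hQmem : ∀ h : ↥H, (h : G) ∈ Q ↔ π h = 1 := fun h => by
    rw [hπ, hQdef, Subgroup.mem_map]
    exact ⟨fun ⟨a, ha, hae⟩ => (Subtype.ext hae : a = h) ▸ ha, fun ha => ⟨h, ha, rfl⟩⟩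
  have hQH : Q ≤ H := Subgroup.map_subtype_le _
  have hQfix : ∀ h ∈ H, MulAut.conj h • Q = Q := by
    intro h hh
    refine (Subgroup.eq_of_le_of_card_ge (fun a ha => ?_) (by rw [Cfsg.Agent.DihPush.cj_card])).symm
    obtain ⟨b, hb, rfl⟩ := Subgroup.mem_map.1 ha
    rw [Cfsg.Agent.DihPush.mem_cj]
    exact ⟨(⟨h, hh⟩ : ↥H)⁻¹ * b * ⟨h, hh⟩, by simpa using hO2n.conj_mem b hb (⟨h, hh⟩ : ↥H)⁻¹, rfl⟩
  have hQP : Q ≤ P := by
    set P' := P.subgroupOf H
    have hP' : IsPGroup 2 P' := hP.comap_subtype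
    have hsup : IsPGroup 2 (P' ⊔ O2 : Subgroup ↥H) :=
      hP'.to_sup_of_normal_right (Cfsg.Agent.Lib.Cores.pCore_isPGroup 2 ↥H)
    obtain ⟨a, ha⟩ := hsup.exists_card_eq
    have hdvd : P'.relIndex (P' ⊔ O2) ∣ 2 ^ a := ha ▸ Subgroup.relIndex_dvd_card _ _
    have hdvd2 : P'.relIndex (P' ⊔ O2) ∣ P'.index := Subgroup.relIndex_dvd_index_of_le le_sup_left
    obtain ⟨b, -, hb⟩ := (Nat.dvd_prime_pow Nat.prime_two).1 hdvd
    have hb0 : b = 0 := by
      by_contra hb0
      exact hPsyl (((dvd_pow_self 2 hb0).trans (dvd_of_eq hb.symm)).trans hdvd2)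
    rw [hb0, pow_zero, Subgroup.relIndex_eq_one] at hb
    intro q hq
    obtain ⟨b, hb', rfl⟩ := Subgroup.mem_map.1 hq
    exact Subgroup.mem_subgroupOf.1 (hb (Subgroup.mem_sup_right hb'))
  have hrodd : ∀ k : ZMod n, Odd (orderOf (DihedralGroup.r k)) := fun k => by
    rw [DihedralGroup.orderOf_r]
    exact Odd.of_dvd_nat hnodd (Nat.div_dvd_of_dvd (Nat.gcd_dvd_left n k.val))
  have hPrk : ∀ (p : G) (hp : p ∈ P) (k : ZMod n), π ⟨p, hPH hp⟩ = DihedralGroup.r k → p ∈ Q := by
    intro p hp k hk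
    obtain ⟨j, hj⟩ := hP ⟨p, hp⟩
    have hj' : (⟨p, hPH hp⟩ : ↥H) ^ (2 ^ j) = 1 := by
      ext; simpa using congrArg Subtype.val hj
    have h1 := congrArg π hj'
    rw [map_pow, map_one, hk] at h1
    exact (hQmem ⟨p, hPH hp⟩).2 (hk.trans (Cfsg.Agent.DihPush.odd_two_eq_one (hrodd k) h1))
  -- a reflection in `P`
  obtain ⟨t, htP, htQ⟩ : ∃ t ∈ P, t ∉ Q := by
    by_contra hc
    push Not at hc
    have hPQ : P = Q := le_antisymm hc hQP
    apply hPsyl
    have he : Nat.card (↥H ⧸ O2) = 2 * n := by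
      rw [Nat.card_congr e.toEquiv, Nat.card_eq_fintype_card, DihedralGroup.card]
    have hPO : P.subgroupOf H = O2 := by
      rw [hPQ, hQdef]; exact Subgroup.comap_map_eq_self_of_injective H.subtype_injective O2
    show 2 ∣ (P.subgroupOf H).index
    rw [hPO]
    exact ⟨n, he⟩
  have hsr : ∀ (p : G) (hp : p ∈ P), p ∉ Q → ∃ j, π ⟨p, hPH hp⟩ = DihedralGroup.sr j := by
    intro p hp hpQ
    cases hc : π ⟨p, hPH hp⟩ with
    | r k => exact absurd (hPrk p hp k hc) hpQ
    | sr j => exact ⟨j, rfl⟩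
  have hcard2 : Nat.card P = 2 * Nat.card Q := by
    refine le_antisymm (Cfsg.Agent.DihPush.card_le_two t fun p hp => ?_) ?_
    · by_cases hpQ : p ∈ Q
      · exact Or.inl hpQ
      · obtain ⟨j, hj⟩ := hsr t htP htQ
        obtain ⟨i, hi⟩ := hsr p hp hpQ
        refine Or.inr (hPrk _ (P.mul_mem (P.inv_mem htP) hp) (i - j) ?_)
        calc π ⟨t⁻¹ * p, _⟩ = (π ⟨t, hPH htP⟩)⁻¹ * π ⟨p, hPH hp⟩ := by
              rw [← map_inv, ← map_mul]; rfl
          _ = _ := by rw [hj, hi]; rfl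
    · obtain ⟨k, hk⟩ : ∃ k, Nat.card P = Nat.card Q * k := Subgroup.card_dvd_of_le hQP
      have hnle : ¬ Nat.card P ≤ Nat.card Q := fun h =>
        htQ ((Subgroup.eq_of_le_of_card_ge hQP h).ge htP)
      rw [hk] at hnle ⊢
      have : 2 ≤ k := by
        rcases k with _ | _ | k
        · rw [mul_zero] at hnle; omega
        · rw [zero_add, mul_one] at hnle; omega
        · omega
      rw [mul_comm]; exact Nat.mul_le_mul_left _ this
  -- a rotation of odd order
  obtain ⟨g, hg⟩ := hπs (DihedralGroup.r 1)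
  obtain ⟨a, l, hl, hal⟩ := Nat.exists_eq_two_pow_mul_odd (orderOf_pos g).ne'
  set xH : ↥H := g ^ (2 ^ a) with hxH
  set cc : ZMod n := ((2 ^ a : ℕ) : ZMod n) with hcc
  have hxord : Odd (orderOf xH) := by
    rw [hxH, orderOf_pow' g (by positivity), hal, Nat.gcd_eq_right (Dvd.intro l rfl),
      Nat.mul_div_cancel_left _ (by positivity)]
    exact hl
  have hxπ : π xH = DihedralGroup.r cc := by rw [hxH, map_pow, hg, DihedralGroup.r_one_pow]
  have hgen : ∀ k : ZMod n, ∃ i : ℕ, DihedralGroup.r k = π xH ^ i := by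
    intro k
    let u : (ZMod n)ˣ := ZMod.unitOfCoprime (2 ^ a) ((Nat.coprime_two_left.2 hnodd).pow_left a)
    refine ⟨(k * (u⁻¹ : (ZMod n)ˣ)).val, ?_⟩
    rw [hxπ, hcc, ← DihedralGroup.r_one_pow, ← pow_mul, DihedralGroup.r_one_pow]
    congr 1
    rw [Nat.cast_mul, ZMod.natCast_zmod_val, mul_left_comm, ← ZMod.coe_unitOfCoprime (2 ^ a)
      ((Nat.coprime_two_left.2 hnodd).pow_left a)]
    rw [show (u : ZMod n) = u from rfl, Units.mul_inv, mul_one]
  obtain ⟨j₀, hj₀⟩ := hsr t htP htQ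
  have hdec : ∀ h ∈ H, ∃ i : ℕ, ∃ p ∈ P, h = (xH : G) ^ i * p := by
    intro h hh
    have key : ∀ h' : ↥H, (∃ k, π h' = DihedralGroup.r k) →
        ∃ i : ℕ, ∃ q ∈ Q, (h' : G) = (xH : G) ^ i * q := by
      rintro h' ⟨k, hk⟩
      obtain ⟨i, hi⟩ := hgen k
      refine ⟨i, ((xH ^ i)⁻¹ * h' : ↥H), (hQmem _).2 ?_, by simp⟩
      rw [map_mul, map_inv, map_pow, hk, hi, inv_mul_cancel]
    cases hc : π ⟨h, hh⟩ with
    | r k =>
      obtain ⟨i, q, hq, he⟩ := key ⟨h, hh⟩ ⟨k, hc⟩
      exact ⟨i, q, hQP hq, he⟩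
    | sr j =>
      obtain ⟨i, q, hq, he⟩ := key (⟨h, hh⟩ * ⟨t, hPH htP⟩) ⟨j₀ - j, by
        rw [map_mul, hc, hj₀, DihedralGroup.sr_mul_sr]⟩
      refine ⟨i, q * t⁻¹, P.mul_mem (hQP hq) (P.inv_mem htP), ?_⟩
      have he' : h * t = (xH : G) ^ i * q := he
      rw [← mul_assoc, ← he', mul_inv_cancel_right]
  have hflip : ∀ p ∈ P, p ∉ Q → (xH : G) * (p * (xH : G) * p⁻¹) ∈ Q := by
    intro p hp hpQ
    obtain ⟨j, hj⟩ := hsr p hp hpQ
    have h := (hQmem (xH * (⟨p, hPH hp⟩ * xH * (⟨p, hPH hp⟩ : ↥H)⁻¹))).2 (by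
      rw [map_mul, map_mul, map_mul, map_inv, hj, hxπ, DihedralGroup.sr_mul_r, DihedralGroup.inv_sr,
        DihedralGroup.sr_mul_sr, DihedralGroup.r_mul_r, DihedralGroup.one_def]
      congr 1
      abel)
    exact h
  let T : Cfsg.Agent.DihPush.Setup G :=
    { H := H, P := P, Q := Q, y := y, x := (xH : G)
      QP := hQP, PH := hPH, pP := hP, QH := hQfix, yP := hyN
      y2 := by
        intro K hK hKp
        have : P ⊔ Subgroup.centralizer (P : Set G) ≤ Cfsg.Agent.DihPush.nz K := by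
          refine sup_le hKp fun c hc => ?_
          show MulAut.conj c • K = K
          ext b
          rw [Cfsg.Agent.DihPush.mem_cj]
          constructor
          · intro hb
            have h2 := Subgroup.mem_centralizer_iff.1 hc _ (hK hb)
            have eb : b = c⁻¹ * b * c := by
              calc b = c * (c⁻¹ * b * c) * c⁻¹ := by group
                _ = c⁻¹ * b * c := by rw [← h2]; group
            rwa [eb]
          · intro hb
            rwa [show c⁻¹ * b * c = b by rw [mul_assoc, Subgroup.mem_centralizer_iff.1 hc b (hK hb)]; group]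
        exact this (by rwa [← pow_two])
      y2fix := by
        intro b hb hbc
        have : P ⊔ Subgroup.centralizer (P : Set G) ≤ Subgroup.centralizer ({b} : Set G) :=
          sup_le (fun p hp => Subgroup.mem_centralizer_singleton_iff.2 (hbc p hp))
            (fun c hc => Subgroup.mem_centralizer_singleton_iff.2 (Subgroup.mem_centralizer_iff.1 hc b hb).symm)
        rw [← pow_two, Subgroup.mem_centralizer_singleton_iff.1 (this hy2), mul_inv_cancel_right]
      hN := by
        intro K hK hKn hKy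
        refine hyQ K hK ⟨fun b hb g => ?_⟩ hKy
        rw [Subgroup.mem_subgroupOf] at hb ⊢
        simpa using Cfsg.Agent.DihPush.cj_mem_of (hKn g g.2) hb
      Qne := by
        intro h
        exact hO ((Subgroup.map_eq_bot_iff_of_injective _ H.subtype_injective).1 h)
      card2 := hcard2
      xH := xH.2
      xodd := by rw [Subgroup.orderOf_coe]; exact hxord
      dec := hdec
      flip := hflip }
  by_cases hmv : T.Moves
  · rcases T.top_big hmv with ⟨hc, he⟩ | ⟨hc, he⟩
    · exact ⟨Or.inr (Or.inl hc), Or.inr (Or.inl he)⟩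
    · exact ⟨Or.inr (Or.inr hc), Or.inr (Or.inr he)⟩
  · obtain ⟨hc, he⟩ := T.top_small hmv
    exact ⟨Or.inl hc, Or.inl he⟩

end Cfsg.Agent.S4385
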