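import Cfsg.Statements.S4387
import Cfsg.Agent.Lib.PGroups.Commutator

set_option autoImplicit false
open Pointwise
open Cfsg

namespace Cfsg.Agent.S4387

/-- Let G be a non-trivial finite group in which any two maximal subgroups are conjugate. Then G is cyclic of prime-power order. -/
theorem result {G : Type*} [Group G] [Finite G] [Nontrivial G]
    (h : ∀ M N : Subgroup G, IsCoatom M → IsCoatom N → ∃ g : G, N = MulAut.conj g • M) :
    IsCyclic G ∧ IsPrimePow (Nat.card G) := by
  classical
  obtain ⟨M, hM, -⟩ := ((eq_top_or_exists_le_coatom (⊥ : Subgroup G)).resolve_left bot_ne_top)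
  obtain ⟨g, hg⟩ : ∃ g : G, ∀ h : G, h * g * h⁻¹ ∉ M := by
    by_contra hc
    push Not at hc
    -- a proper subgroup does not cover the group by conjugates
    have hidx : 2 ≤ M.index := by
      have h1 : M.index ≠ 1 := fun h => hM.1 (Subgroup.index_eq_one.mp h)
      have h0 : M.index ≠ 0 := Subgroup.index_ne_zero_of_finite
      omega
    haveI : Finite (G ⧸ M) := inferInstance
    haveI : Fintype (G ⧸ M) := Fintype.ofFinite _
    haveI : MulAction.IsPretransitive G (G ⧸ M) := inferInstance
    haveI : Nontrivial (G ⧸ M) := by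
      rw [← Finite.one_lt_card_iff_nontrivial]; exact hidx
    obtain ⟨g, hg⟩ := Cfsg.Agent.Lib.PGroups.exists_conj_not_mem hM.1
    obtain ⟨k, hk⟩ := hc g
    exact hg k hk
  have hgen : Subgroup.zpowers g = ⊤ := by
    rcases eq_top_or_exists_le_coatom (Subgroup.zpowers g) with h0 | ⟨N, hN, hle⟩
    · exact h0
    · obtain ⟨k, hk⟩ := h M N hM hN
      have hgN := hle (Subgroup.mem_zpowers g)
      rw [hk, Subgroup.mem_pointwise_smul_iff_inv_smul_mem] at hgN
      exact absurd (by simpa [MulAut.smul_def] using hgN) (hg k⁻¹)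
  haveI hcyc : IsCyclic G := isCyclic_iff_exists_zpowers_eq_top.mpr ⟨g, hgen⟩
  refine ⟨hcyc, ?_⟩
  have hone : 1 < Nat.card G := Finite.one_lt_card
  rw [isPrimePow_iff_unique_prime_dvd]
  letI : CommGroup G := IsCyclic.commGroup
  have huniq : ∀ N : Subgroup G, IsCoatom N → N = M := fun N hN => by
    obtain ⟨k, hk⟩ := h M N hM hN
    rw [hk]
    ext y
    simp [Subgroup.mem_pointwise_smul_iff_inv_smul_mem, MulAut.smul_def]
  obtain ⟨q, hq, hqd⟩ := Nat.exists_prime_and_dvd (n := M.index) (fun h => hM.1 (Subgroup.index_eq_one.mp h))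
  refine ⟨q, ⟨hq, hqd.trans M.index_dvd_card⟩, ?_⟩
  rintro r ⟨hr, hrd⟩
  -- the subgroup of index `r`
  let R := (powMonoidHom r : G →* G).range
  have hR : R.index = r := by
    simp only [R, IsCyclic.index_powMonoidHom_range]
    exact Nat.gcd_eq_right hrd
  have hRne : R ≠ ⊤ := fun h => hr.ne_one (by rw [← hR, h, Subgroup.index_top])
  obtain ⟨N, hN, hle⟩ := (eq_top_or_exists_le_coatom R).resolve_left hRne
  have : M.index ∣ r := by
    rw [← hR, ← huniq N hN]; exact Subgroup.index_dvd_of_le hle
  exact ((Nat.prime_dvd_prime_iff_eq hq hr).mp (hqd.trans this)).symm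

end Cfsg.Agent.S4387
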