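import Cfsg.Statements.S4394
import Cfsg.Agent.Lib.PGroups.SchmidtPLength
import Cfsg.Agent.Lib.Solvable.Schmidt

set_option autoImplicit false
open Cfsg

namespace Cfsg.Agent.S4394


open Cfsg.Agent.Lib
open Subgroup

/-- The normal Sylow subgroup of a minimal non-nilpotent group is of Schmidt type. -/
theorem good_of_schmidt {X : Type*} [Group X] [Finite X] {p : ℕ} [Fact p.Prime]
    (hX : Cfsg.IsMinimalNonNilpotent X) (P : Sylow p X) (hPn : (P : Subgroup X).Normal)
    (hP1 : (P : Subgroup X) ≠ ⊥) : PGroups.SchmidtSylow.Good p ↥(P : Subgroup X) := by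
  obtain ⟨r, q, hr, hq, hrq, C, Q, hC, hQn, htop, hCn, hprimes⟩ :=
    Solvable.Schmidt.structure_of_minimal hX.1 hX.2
  haveI := Fact.mk hr
  haveI := Fact.mk hq
  have hp : p.Prime := Fact.out
  have hpd : p ∣ Nat.card X := by
    obtain ⟨k, hk⟩ := IsPGroup.iff_card.mp P.2
    refine Dvd.dvd.trans ?_ (card_subgroup_dvd_card (P : Subgroup X))
    rw [hk]
    refine dvd_pow_self p fun h => hP1 ?_
    rw [h, pow_zero, card_eq_one] at hk
    exact hk
  rcases hprimes p hp hpd with h | h
  · subst h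
    haveI : Subsingleton (Sylow p X) := @Unique.instSubsingleton _ (_root_.Sylow.unique_of_normal P hPn)
    exact absurd (Subsingleton.elim C P ▸ hPn) hCn
  subst h
  haveI : Subsingleton (Sylow p X) := @Unique.instSubsingleton _ (_root_.Sylow.unique_of_normal P hPn)
  obtain rfl : Q = P := Subsingleton.elim Q P
  haveI := hQn
  obtain ⟨y, hy⟩ := (Subgroup.isCyclic_iff_exists_zpowers_eq_top (C : Subgroup X)).mp hC
  have hyC : y ∈ (C : Subgroup X) := hy ▸ mem_zpowers y
  -- `y` does not centralize `Q`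
  have hync : ¬ ∀ v ∈ (Q : Subgroup X), Commute y v := fun hall => hCn (normalizer_eq_top_iff.mp (by
    rw [eq_top_iff, ← htop]
    refine sup_le le_normalizer ?_
    rw [← hy]
    exact le_trans (fun v hv => mem_centralizer_iff.mpr fun c hc => by
      obtain ⟨i, rfl⟩ := mem_zpowers_iff.mp hc
      exact ((hall v hv).zpow_left i).eq) (centralizer_le_normalizer _)))
  have hy1 : y ≠ 1 := fun e => hync fun v _ => e ▸ Commute.one_left v
  -- the power `y ^ r` centralizes `Q`
  have hyr : ∀ v ∈ (Q : Subgroup X), Commute (y ^ r) v := by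
    have hne : (Q : Subgroup X) ⊔ zpowers (y ^ r) ≠ ⊤ := by
      intro e
      have h : y ∈ (Q : Subgroup X) ⊔ zpowers (y ^ r) := e ▸ mem_top y
      obtain ⟨a, ha, b, hb, e'⟩ := mem_sup_of_normal_left.mp h
      have hbC : b ∈ (C : Subgroup X) := zpowers_le.mpr (pow_mem hyC r) hb
      have ha1 : a = 1 := Subgroup.disjoint_def.mp (IsPGroup.disjoint_of_ne r p hrq _ _ C.2 Q.2)
        (by have := mul_mem hyC (inv_mem hbC); rwa [← e', mul_inv_cancel_right] at this) ha
      rw [ha1, one_mul] at e'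
      rw [e'] at hb
      obtain ⟨i, hi⟩ := mem_zpowers_iff.mp hb
      have h1 : y ^ ((r : ℤ) * i - 1) = 1 := by
        rw [zpow_sub, zpow_one, zpow_mul, zpow_natCast, hi, mul_inv_cancel]
      have h2 := orderOf_dvd_iff_zpow_eq_one.mpr h1
      obtain ⟨k, hk⟩ := C.2 ⟨y, hyC⟩
      have h3 : orderOf y ∣ r ^ k := orderOf_dvd_of_pow_eq_one (by simpa using congrArg Subtype.val hk)
      obtain ⟨j, -, hj⟩ := (Nat.dvd_prime_pow hr).mp h3
      rcases j with _ | j
      · exact hy1 (orderOf_eq_one_iff.mp (by simpa using hj))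
      · have h4 : (r : ℤ) ∣ r * i - 1 := dvd_trans (by rw [hj, pow_succ]; push_cast; exact dvd_mul_left _ _) h2
        have h5 : (r : ℤ) ∣ 1 := by simpa using dvd_sub (dvd_mul_right (r : ℤ) i) h4
        exact hr.ne_one (by exact_mod_cast Int.eq_one_of_dvd_one (by positivity) h5)
    haveI := hX.2 _ hne
    set H := (Q : Subgroup X) ⊔ zpowers (y ^ r)
    have h := Solvable.Schmidt.commute_of_coprime_orderOf (G := ↥H) (p := r) (q := p) hrq
      (A := (zpowers (y ^ r)).subgroupOf H) (B := (Q : Subgroup X).subgroupOf H)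
      ((C.2.to_le (zpowers_le.mpr (pow_mem hyC r))).comap_of_injective _ H.subtype_injective)
      (Q.2.comap_of_injective _ H.subtype_injective)
    intro v hv
    exact (congrArg Subtype.val (mem_centralizer_iff.mp
      (h (mem_subgroupOf.mpr (mem_zpowers (y ^ r)) : (⟨y ^ r, mem_sup_right (mem_zpowers _)⟩ : H) ∈ _))
      ⟨v, mem_sup_left hv⟩ (mem_subgroupOf.mpr hv))).symm
  let α : MulAut ↥(Q : Subgroup X) := MulAut.conjNormal y
  have hα : ∀ v : ↥(Q : Subgroup X), (α v : X) = y * v * y⁻¹ := fun v => MulAut.conjNormal_apply _ _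
  refine PGroups.SchmidtSylow.good_of_aut (q := r) Q.2 hrq.symm α ?_ ?_ ?_
  · rw [← map_pow]
    refine MulEquiv.ext fun v => Subtype.ext ?_
    rw [MulAut.conjNormal_apply, (hyr v v.2).eq, mul_inv_cancel_right]
    rfl
  · intro e
    refine hync fun v hv => ?_
    have := hα ⟨v, hv⟩
    rw [e] at this
    exact mul_inv_eq_iff_eq_mul.mp this.symm
  · intro R hR hinv v hv
    -- `R` is normalized by `y`
    set RX := R.map (Q : Subgroup X).subtype
    have hn : y ∈ normalizer (RX : Set X) := by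
      rw [mem_normalizer_iff_map_conj_eq]
      refine Coprime.eq_of_le_of_card_le ?_
        (Nat.card_congr (RX.equivMapOfInjective _ (MulAut.conj y).injective).toEquiv).le
      rintro _ ⟨_, ⟨w, hw, rfl⟩, rfl⟩
      exact ⟨α w, hinv w hw, (hα w).trans rfl⟩
    have hne : RX ⊔ (C : Subgroup X) ≠ ⊤ := by
      intro e
      refine hR (eq_top_iff.mpr fun w _ => ?_)
      obtain ⟨a, ha, b, hb, e'⟩ := Coprime.exists_mul_of_mem_sup (N := RX) (H := (C : Subgroup X))
        (by rw [← hy]; exact zpowers_le.mpr hn) (e ▸ mem_top (w : X))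
      obtain ⟨a, haR, rfl⟩ := ha
      have hb1 : b = 1 := Subgroup.disjoint_def.mp (IsPGroup.disjoint_of_ne r p hrq _ _ C.2 Q.2) hb (by
        have := mul_mem (inv_mem a.2) w.2
        rwa [e', Subgroup.coe_subtype, inv_mul_cancel_left] at this)
      rw [hb1, mul_one] at e'
      have : w = a := Subtype.ext e'
      rw [this]; exact haR
    haveI := hX.2 _ hne
    set H := RX ⊔ (C : Subgroup X)
    have h := Solvable.Schmidt.commute_of_coprime_orderOf (G := ↥H) (p := r) (q := p) hrq
      (A := (C : Subgroup X).subgroupOf H) (B := RX.subgroupOf H)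
      (C.2.comap_of_injective _ H.subtype_injective)
      ((Q.2.to_le (map_subtype_le _)).comap_of_injective _ H.subtype_injective)
    have hvR : (v : X) ∈ RX := ⟨v, hv, rfl⟩
    have hc : (v : X) * y = y * v := congrArg Subtype.val (mem_centralizer_iff.mp
      (h (mem_subgroupOf.mpr hyC : (⟨y, mem_sup_right hyC⟩ : H) ∈ _))
      ⟨v, mem_sup_left hvR⟩ (mem_subgroupOf.mpr hvR))
    exact Subtype.ext (by rw [hα, ← hc, mul_inv_cancel_right])


/-- Let X be a finite minimal non-nilpotent group (not nilpotent, every proper subgroup nilpotent) with a nontrivial normal Sylow p-subgroup P. If G is a finite p-solvable group whose Sylow p-subgroups are isomorphic to P, then G has p-length at most 1. -/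
theorem result {G X : Type*} [Group G] [Finite G] [Group X] [Finite X] (p : ℕ) [Fact p.Prime]
    (hX : Cfsg.IsMinimalNonNilpotent X) (P : Sylow p X) (hPn : (P : Subgroup X).Normal) (hP1 : (P : Subgroup X) ≠ ⊥)
    (hG : Cfsg.IsPSolvable p G) (Q : Sylow p G) (hQ : Nonempty (↥(Q : Subgroup G) ≃* ↥(P : Subgroup X))) : Cfsg.PLengthLE p 1 G := by
  haveI : (Cfsg.pPrimeCore p G).Normal := inferInstance
  set N := Cfsg.pPrimeCore p G with hN
  refine PLength.of_quotient_coprime N (Cores.pPrimeCore_coprime p G) ?_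
  have hH : Cfsg.IsPSolvable p (G ⧸ N) := BlockHeights.isPSolvable_quot _ hG
  set T : Sylow p (G ⧸ N) := Q.mapSurjective (QuotientGroup.mk'_surjective N) with hT
  obtain ⟨e⟩ := hQ
  have hgoodQ : PGroups.SchmidtSylow.Good p ↥(Q : Subgroup G) := (good_of_schmidt hX P hPn hP1).of_equiv e
  let f := (QuotientGroup.mk' N).subgroupMap (Q : Subgroup G)
  have hf : Function.Bijective f := by
    refine ⟨?_, (QuotientGroup.mk' N).subgroupMap_surjective _⟩
    rw [← MonoidHom.ker_eq_bot_iff, eq_bot_iff]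
    intro v hv
    have h1 : (v : G) ∈ N := (QuotientGroup.eq_one_iff _).mp (congrArg Subtype.val (MonoidHom.mem_ker.mp hv))
    obtain ⟨k, hk⟩ := Q.2 v
    have h2 : orderOf (v : G) ∣ Nat.card N := by
      rw [← orderOf_mk (v : G) h1]; exact orderOf_dvd_natCard _
    have h3 : orderOf (v : G) ∣ p ^ k := orderOf_dvd_of_pow_eq_one (by simpa using congrArg Subtype.val hk)
    exact mem_bot.mpr (Subtype.ext (orderOf_eq_one_iff.mp (Nat.eq_one_of_dvd_coprimes
      ((Cores.pPrimeCore_coprime p G).pow_right k) h2 h3)))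
  have hgood : PGroups.SchmidtSylow.Good p ↥(T : Subgroup (G ⧸ N)) :=
    hgoodQ.of_equiv ((MulEquiv.subgroupCongr (by rw [hT, Sylow.coe_mapSurjective])).trans
      (MulEquiv.ofBijective f hf).symm)
  have hle := PGroups.SchmidtPLength.sylow_le_pCore hH (Cores.pPrimeCore_quotient_pPrimeCore p G) T hgood
  refine PLength.of_quotient_isPGroup (k := 0) (Cfsg.pCore p (G ⧸ N)) (Cores.pCore_isPGroup p _) ?_
  refine PLength.of_coprime ?_ 0
  refine ((Fact.out : p.Prime).coprime_iff_not_dvd.mpr fun hd => ?_).symm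
  rw [← index_eq_card] at hd
  exact T.not_dvd_index (hd.trans (index_dvd_of_le hle))

end Cfsg.Agent.S4394
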