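import Cfsg.Statements.S4395
import Cfsg.Agent.S0132
import Cfsg.Agent.Lib.MaxSchmidt.Main
import Cfsg.Agent.Lib.MaxSchmidt.Model

set_option autoImplicit false
set_option maxHeartbeats 400000
universe u
open Cfsg

namespace Cfsg.Agent.S4395

/-- Let p ≠ q be primes, r ≥ 1, a the multiplicative order of p modulo q, and a₀ = a when a is odd, a₀ = 3a/2 when a is even. Call a finite group minimal non-p-nilpotent when it has no normal p-complement but every proper subgroup has one. Then there is a minimal non-p-nilpotent group G₀ of order p^a₀ · q^r such that every minimal non-p-nilpotent group of order p^t · q^r (any t) is a quotient of G₀ by a central subgroup. -/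
theorem result (p q r : ℕ) [Fact p.Prime] [Fact q.Prime] (hpq : p ≠ q) (hr : 1 ≤ r) (a a₀ : ℕ)
    (ha : a = orderOf (p : ZMod q)) (ha₀ : a₀ = if a % 2 = 1 then a else 3 * a / 2) :
    ∃ (G₀ : Type u) (_ : Group G₀) (_ : Finite G₀),
      (¬ Cfsg.HasNormalPComplement p G₀ ∧ ∀ K : Subgroup G₀, K ≠ ⊤ → Cfsg.HasNormalPComplement p ↥K) ∧ Nat.card G₀ = p ^ a₀ * q ^ r ∧
      ∀ (X : Type u) [Group X] [Finite X], (¬ Cfsg.HasNormalPComplement p X ∧ ∀ K : Subgroup X, K ≠ ⊤ → Cfsg.HasNormalPComplement p ↥K) →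
        (∃ t : ℕ, Nat.card X = p ^ t * q ^ r) → ∃ φ : G₀ →* X, Function.Surjective φ ∧ φ.ker ≤ Subgroup.center G₀ := by
  subst ha
  obtain ⟨R⟩ := Lib.MaxSchmidt.exists_root (p := p) (q := q) hpq
  obtain ⟨K, β, hinv, hK, hKc⟩ := Lib.MaxSchmidt.exists_cocycle R rfl hpq
  haveI := R.finite
  haveI : Finite (Lib.MaxSchmidt.Heis β) := Finite.of_equiv _ (Lib.MaxSchmidt.Heis.equivProd β).symm
  have hNc : Nat.card (Lib.MaxSchmidt.Heis β) =
      p ^ (if orderOf (p : ZMod q) % 2 = 1 then 0 else orderOf (p : ZMod q) / 2) * p ^ orderOf (p : ZMod q) := by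
    rw [Nat.card_congr (Lib.MaxSchmidt.Heis.equivProd β), Nat.card_prod, R.card, hKc, mul_comm]
  have hN : IsPGroup p (Lib.MaxSchmidt.Heis β) := IsPGroup.of_card (n := _) (hNc.trans (pow_add p _ _).symm)
  set σ := Lib.MaxSchmidt.Heis.scale R β hinv
  have hσ : Lib.MaxSchmidt.SAct q σ := Lib.MaxSchmidt.Heis.sAct R β hinv hK
  haveI : NeZero (q ^ r) := ⟨pow_ne_zero _ (Fact.out : q.Prime).ne_zero⟩
  let H : Type u := ULift.{u} (Multiplicative (ZMod (q ^ r)))
  let g : H := ULift.up (Multiplicative.ofAdd 1)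
  have hg : orderOf g = q ^ r := by
    rw [← MulEquiv.orderOf_eq MulEquiv.ulift g]
    show orderOf (Multiplicative.ofAdd (1 : ZMod (q ^ r))) = _
    rw [orderOf_ofAdd_eq_addOrderOf, ZMod.addOrderOf_one]
  have hH : Nat.card H = q ^ r := by
    rw [Nat.card_congr (MulEquiv.ulift : H ≃* _).toEquiv, Nat.card_congr Multiplicative.toAdd, Nat.card_zmod]
  have hgen : ∀ x : H, x ∈ Subgroup.zpowers g := fun x => by
    obtain ⟨k, rfl⟩ := Lib.MaxSchmidt.exists_pow_of_gen hg hH x
    exact Subgroup.npow_mem_zpowers g k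
  let act : H →* MulAut (Lib.MaxSchmidt.Heis β) := monoidHomOfForallMemZpowers hgen (g' := σ)
    (by rw [hg]; exact (orderOf_dvd_of_pow_eq_one hσ.pow).trans (dvd_pow_self q (by omega)))
  have hact : act g = σ := monoidHomOfForallMemZpowers_apply_gen _ _
  have hker : ∀ w, Lib.MaxSchmidt.Heis.proj β w = 1 → σ w = w := fun w hw => by
    have h0 : w.x = 0 := hw
    exact Lib.MaxSchmidt.Heis.ext (show R.ζ * w.x = w.x by rw [h0, mul_zero]) rfl
  refine ⟨Lib.MaxSchmidt.Heis β ⋊[act] H, inferInstance,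
    Finite.of_equiv _ SemidirectProduct.equivProd.symm,
    Lib.MaxSchmidt.minimal R hpq hN hσ _ (fun _ => rfl) hker act hg hH hact, ?_, ?_⟩
  · rw [SemidirectProduct.card, hNc, hH, ← pow_add, ha₀]
    congr 2
    split_ifs <;> omega
  · rintro X _ _ hX ⟨t, ht⟩
    exact Lib.MaxSchmidt.universal R rfl hpq hN hσ _ (fun z => ⟨⟨Multiplicative.toAdd z, 0⟩, rfl⟩)
      (fun _ => rfl) hker hNc act hg hH hact hX.1 hX.2 (S0132.result hX.1 hX.2).2.2 ht

end Cfsg.Agent.S4395
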