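import Cfsg.Statements.S4397
import Cfsg.Agent.Lib.Solvable.Nilpotent
import Mathlib

set_option autoImplicit false
open Cfsg

namespace Cfsg.Agent.S4397

universe u

theorem sectional_quotient {G : Type u} [Group G] {p k : ℕ} (hr : Cfsg.SectionalPRankLE p k G)
    (Z : Subgroup G) [Z.Normal] : Cfsg.SectionalPRankLE p k (G ⧸ Z) := by
  intro H N _ A hA hAp
  haveI := hA
  let ψ : H.comap (QuotientGroup.mk' Z) →* H :=
    ((QuotientGroup.mk' Z).comp (H.comap (QuotientGroup.mk' Z)).subtype).codRestrict H fun g => g.2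
  have hψ : Function.Surjective ψ := fun h => by
    obtain ⟨g, hg⟩ := QuotientGroup.mk'_surjective Z h.1
    exact ⟨⟨g, show QuotientGroup.mk' Z g ∈ H by rw [hg]; exact h.2⟩, Subtype.ext hg⟩
  let φ := (QuotientGroup.mk' N).comp ψ
  have hφ : Function.Surjective φ := (QuotientGroup.mk'_surjective N).comp hψ
  let e := QuotientGroup.quotientKerEquivOfSurjective φ hφ
  rw [← Subgroup.card_map_of_injective (f := e.symm.toMonoidHom) e.symm.injective (K := A)]
  refine hr _ φ.ker (A.map e.symm.toMonoidHom) inferInstance ?_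
  rintro _ ⟨a, ha, rfl⟩
  rw [← map_pow, hAp a ha, map_one]

theorem relation {S : Type u} [Group S] (hr : Cfsg.SectionalPRankLE 2 2 S) (x y z : S)
    (hxy : Commute x y) (hxz : Commute x z) (hyz : Commute y z) :
    ∃ i j e : ℤ, x ^ i * y ^ j * z ^ e = 1 ∧ ¬ (Even i ∧ Even j ∧ Even e) := by
  classical
  let f : Multiplicative (ℤ × ℤ × ℤ) →* S := MonoidHom.mk'
    (fun v => x ^ (Multiplicative.toAdd v).1 * y ^ (Multiplicative.toAdd v).2.1 *
      z ^ (Multiplicative.toAdd v).2.2) (by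
    intro v w
    simp only [toAdd_mul, Prod.fst_add, Prod.snd_add, zpow_add]
    have h1 : Commute (z ^ (Multiplicative.toAdd v).2.2)
        (x ^ (Multiplicative.toAdd w).1 * y ^ (Multiplicative.toAdd w).2.1) :=
      (hxz.symm.zpow_zpow _ _).mul_right (hyz.symm.zpow_zpow _ _)
    rw [h1.mul_mul_mul_comm, (hxy.symm.zpow_zpow _ _).mul_mul_mul_comm])
  set H := f.range with hH
  set N := ((f.comp (powMonoidHom 2)).range).subgroupOf H with hN
  have hcomm : ∀ a b : H, a * b = b * a := by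
    rintro ⟨_, v, rfl⟩ ⟨_, w, rfl⟩
    exact Subtype.ext (show f v * f w = f w * f v by rw [← map_mul, mul_comm, map_mul])
  haveI : N.Normal := ⟨fun n hn g => by rwa [hcomm g n, mul_inv_cancel_right]⟩
  have hexp : ∀ a : H ⧸ N, a ^ 2 = 1 := by
    intro a
    obtain ⟨⟨t, ht⟩, rfl⟩ := QuotientGroup.mk_surjective a
    obtain ⟨v, rfl⟩ := ht
    rw [← QuotientGroup.mk_pow, QuotientGroup.eq_one_iff, Subgroup.mem_subgroupOf]
    exact ⟨v, by simp⟩
  haveI hA : IsMulCommutative (⊤ : Subgroup (H ⧸ N)) := ⟨⟨fun a b => Subtype.ext (by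
    obtain ⟨a', ha⟩ := QuotientGroup.mk_surjective a.1
    obtain ⟨b', hb⟩ := QuotientGroup.mk_surjective b.1
    show a.1 * b.1 = b.1 * a.1
    rw [← ha, ← hb, ← QuotientGroup.mk_mul, hcomm, QuotientGroup.mk_mul])⟩⟩
  let T := Fin 2 × Fin 2 × Fin 2
  let tup : T → Multiplicative (ℤ × ℤ × ℤ) := fun t =>
    Multiplicative.ofAdd (((t.1 : ℕ) : ℤ), ((t.2.1 : ℕ) : ℤ), ((t.2.2 : ℕ) : ℤ))
  let g : T → (⊤ : Subgroup (H ⧸ N)) := fun t => ⟨((⟨f (tup t), tup t, rfl⟩ : H) : H ⧸ N), trivial⟩
  have h4 : Nat.card (⊤ : Subgroup (H ⧸ N)) ≤ 2 ^ 2 := hr H N ⊤ hA fun a _ => hexp a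
  haveI : Finite (H ⧸ N) := by
    refine Finite.of_surjective (fun t : T => ((⟨f (tup t), tup t, rfl⟩ : H) : H ⧸ N)) fun a => ?_
    obtain ⟨⟨t, v, rfl⟩, rfl⟩ := QuotientGroup.mk_surjective a
    obtain ⟨⟨i, j, e⟩, rfl⟩ : ∃ u, Multiplicative.ofAdd u = v := ⟨_, rfl⟩
    refine ⟨(⟨(i % 2).toNat, by omega⟩, ⟨(j % 2).toNat, by omega⟩, ⟨(e % 2).toNat, by omega⟩),
      QuotientGroup.eq.mpr ?_⟩
    rw [hN, Subgroup.mem_subgroupOf]
    refine ⟨Multiplicative.ofAdd (i / 2, j / 2, e / 2), ?_⟩
    simp only [MonoidHom.comp_apply, powMonoidHom_apply, Subgroup.coe_mul, Subgroup.coe_inv,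
      ← map_inv, ← map_mul, tup]
    congr 1
    refine Multiplicative.toAdd.injective ?_
    simp only [toAdd_pow, toAdd_mul, toAdd_inv, toAdd_ofAdd, Prod.smul_mk, Prod.neg_mk,
      Prod.mk_add_mk, Prod.mk.injEq, nsmul_eq_mul, Nat.cast_ofNat]
    omega
  have hni : ¬ Function.Injective g := fun h => by
    have := Nat.card_le_card_of_injective g h
    have hT : Nat.card T = 8 := by simp [T]
    omega
  obtain ⟨s, t, hst, hne⟩ := Function.not_injective_iff.mp hni
  have hmem := QuotientGroup.eq.mp (congrArg Subtype.val hst)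
  rw [hN, Subgroup.mem_subgroupOf] at hmem
  obtain ⟨v, hv⟩ := hmem
  have hv' : f ((tup s)⁻¹ * tup t * (v ^ 2)⁻¹) = 1 := by
    rw [map_mul, map_mul, map_inv, map_inv]
    simp only [MonoidHom.comp_apply, powMonoidHom_apply, Subgroup.coe_mul, Subgroup.coe_inv] at hv
    rw [hv, mul_inv_cancel]
  refine ⟨_, _, _, hv', fun ⟨h1, h2, h3⟩ => hne ?_⟩
  simp only [toAdd_pow, toAdd_mul, toAdd_inv, toAdd_ofAdd, tup, Prod.fst_add, Prod.snd_add,
    Prod.fst_neg, Prod.snd_neg, Prod.smul_fst, Prod.smul_snd, Prod.fst_mul, Prod.snd_mul, Prod.fst_ofNat, Prod.snd_ofNat, nsmul_eq_mul, Nat.cast_ofNat,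
    Int.even_iff] at h1 h2 h3
  ext <;> omega

theorem comm_rel {S : Type u} [Group S] {a b z : S} (hza : Commute z a) (hzb : Commute z b)
    (hrel : b * a = z * (a * b)) (I J : ℤ) : b ^ J * a ^ I = z ^ (I * J) * (a ^ I * b ^ J) := by
  have h1 : b * a * b⁻¹ = z * a := by rw [hrel]; group
  have h2 : b * a ^ I * b⁻¹ = z ^ I * a ^ I := by rw [← conj_zpow, h1, hza.mul_zpow]
  have h3 : a ^ I * b * (a ^ I)⁻¹ = z ^ (-I) * b := by
    calc a ^ I * b * (a ^ I)⁻¹ = (z ^ I)⁻¹ * (z ^ I * a ^ I) * b * (a ^ I)⁻¹ := by group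
      _ = (z ^ I)⁻¹ * (b * a ^ I * b⁻¹) * b * (a ^ I)⁻¹ := by rw [h2]
      _ = z ^ (-I) * b := by group
  have h4 : a ^ I * b ^ J * (a ^ I)⁻¹ = z ^ (-(I * J)) * b ^ J := by
    rw [← conj_zpow, h3, (hzb.zpow_left _).mul_zpow, ← zpow_mul, neg_mul]
  calc b ^ J * a ^ I = z ^ (I * J) * (z ^ (-(I * J)) * b ^ J) * a ^ I := by group
    _ = z ^ (I * J) * (a ^ I * b ^ J * (a ^ I)⁻¹) * a ^ I := by rw [h4]
    _ = _ := by group

theorem sq_rel {S : Type u} [Group S] {a b z : S} (hza : Commute z a) (hzb : Commute z b)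
    (hrel : b * a = z * (a * b)) (I J : ℤ) :
    (a ^ I * b ^ J) ^ 2 = z ^ (I * J) * (a ^ (2 * I) * b ^ (2 * J)) := by
  rw [pow_two, mul_assoc, ← mul_assoc (b ^ J), comm_rel hza hzb hrel,
    mul_assoc (z ^ (I * J)), ← mul_assoc (a ^ I), ← (hza.zpow_zpow _ _).eq, two_mul, two_mul,
    zpow_add, zpow_add]
  simp only [mul_assoc]

theorem mem_of_inverse_odd {S : Type u} [Group S] (h2 : IsPGroup 2 S) (K : Subgroup S) (x : S)
    {i : ℤ} (hi : Odd i) (hx : x ^ i ∈ K) : x ∈ K := by
  obtain ⟨n, hn⟩ := h2 x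
  obtain ⟨u, v, huv⟩ : IsCoprime i ((2 : ℤ) ^ n) := by
    refine IsCoprime.pow_right ?_
    obtain ⟨k, rfl⟩ := hi
    exact ⟨1, -k, by ring⟩
  have e : x = (x ^ i) ^ u := by
    conv_lhs => rw [← zpow_one x, ← huv, zpow_add, mul_comm u, zpow_mul, mul_comm v, zpow_mul]
    rw [show ((2 : ℤ) ^ n) = ((2 ^ n : ℕ) : ℤ) by push_cast; rfl, zpow_natCast, hn, one_zpow, mul_one]
  rw [e]; exact zpow_mem hx u

theorem two_gen {S : Type u} [Group S] [Finite S] (h2 : IsPGroup 2 S)
    (hr : Cfsg.SectionalPRankLE 2 2 S) (a b z : S) (hza : Commute z a) (hzb : Commute z b)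
    (hz2 : z ^ 2 = 1) (hz1 : z ≠ 1) (hrel : b * a = z * (a * b))
    (hgen : ∀ g : S, ∃ i e j : ℤ, g = a ^ i * z ^ e * b ^ j) : Cfsg.IsMetacyclic S := by
  classical
  haveI : Fact (Nat.Prime 2) := ⟨Nat.prime_two⟩
  have hzc : ∀ g : S, Commute z g := fun g => by
    obtain ⟨i, e, j, rfl⟩ := hgen g
    exact ((hza.zpow_right i).mul_right ((Commute.refl z).zpow_right e)).mul_right (hzb.zpow_right j)
  have hzpow : ∀ k : ℤ, z ^ k = if Even k then 1 else z := by
    intro k
    have hord : orderOf z = 2 := orderOf_eq_prime hz2 hz1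
    rw [← zpow_mod_orderOf, hord]
    split_ifs with h
    · rw [show k % ((2 : ℕ) : ℤ) = 0 from Int.even_iff.mp h, zpow_zero]
    · rw [show k % ((2 : ℕ) : ℤ) = 1 from Int.not_even_iff.mp h, zpow_one]
  have hzodd : ∀ k : ℤ, Odd k → z ^ k = z := fun k hk => by
    rw [hzpow, if_neg (Int.not_even_iff_odd.mpr hk)]
  have hzev : ∀ k : ℤ, Even k → z ^ k = 1 := fun k hk => by rw [hzpow, if_pos hk]
  -- a cyclic subgroup containing `z` and not in the Frattini subgroup is enough
  have done : ∀ I J : ℤ, Odd I ∨ Odd J → z ∈ Subgroup.zpowers (a ^ I * b ^ J) →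
      Cfsg.IsMetacyclic S := by
    intro I J hIJ hz
    set w := a ^ I * b ^ J with hw
    set N := Subgroup.zpowers w with hN
    have hconj : ∀ g : S, g * w * g⁻¹ * w⁻¹ ∈ Subgroup.zpowers z := by
      intro g
      obtain ⟨i, e, j, rfl⟩ := hgen g
      have key : ∀ i j i' j' : ℤ, a ^ i * b ^ j * (a ^ i' * b ^ j') =
          z ^ (i' * j) * (a ^ (i + i') * b ^ (j + j')) := by
        intro i j i' j'
        rw [mul_assoc, ← mul_assoc (b ^ j), comm_rel hza hzb hrel, mul_assoc (z ^ (i' * j)),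
          ← mul_assoc (a ^ i), ← (hza.zpow_zpow _ _).eq, zpow_add, zpow_add]
        simp only [mul_assoc]
      have e1 : a ^ i * z ^ e * b ^ j = z ^ e * (a ^ i * b ^ j) := by
        rw [← (hza.zpow_zpow _ _).eq, mul_assoc]
      rw [e1]
      have e2 : z ^ e * (a ^ i * b ^ j) * w * (z ^ e * (a ^ i * b ^ j))⁻¹ =
          a ^ i * b ^ j * w * (a ^ i * b ^ j)⁻¹ := by
        rw [mul_inv_rev, ← mul_assoc]
        calc z ^ e * (a ^ i * b ^ j) * w * (a ^ i * b ^ j)⁻¹ * (z ^ e)⁻¹
            = z ^ e * ((a ^ i * b ^ j) * w * (a ^ i * b ^ j)⁻¹) * (z ^ e)⁻¹ := by group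
          _ = _ := by rw [((hzc _).zpow_left e).eq, mul_inv_cancel_right]
      rw [e2]
      have e3 := key i j I J
      have e4 := key I J i j
      rw [add_comm I, add_comm J] at e4
      have e5 : a ^ i * b ^ j * w = z ^ (I * j - i * J) * (w * (a ^ i * b ^ j)) := by
        rw [hw, e3, e4, ← mul_assoc (z ^ (I * j - i * J)), ← zpow_add, sub_add_cancel]
      rw [e5, show z ^ (I * j - i * J) * (w * (a ^ i * b ^ j)) * (a ^ i * b ^ j)⁻¹ * w⁻¹ =
        z ^ (I * j - i * J) by group]
      exact Subgroup.zpow_mem _ (Subgroup.mem_zpowers z) _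
    have hzN : Subgroup.zpowers z ≤ N := Subgroup.zpowers_le.mpr hz
    have hNn : N.Normal := ⟨fun x hx g => by
      obtain ⟨k, rfl⟩ := Subgroup.mem_zpowers_iff.mp hx
      rw [← conj_zpow]
      refine zpow_mem ?_ k
      have h := mul_mem (hzN (hconj g)) (Subgroup.mem_zpowers w)
      rwa [inv_mul_cancel_right] at h⟩
    haveI := hNn
    refine ⟨N, hNn, inferInstance, ?_⟩
    set π := QuotientGroup.mk' N
    have hπw : π w = 1 := (QuotientGroup.eq_one_iff _).mpr (Subgroup.mem_zpowers w)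
    have hπz : π z = 1 := (QuotientGroup.eq_one_iff _).mpr hz
    have hπab : π a ^ I * π b ^ J = 1 := by rw [← map_zpow, ← map_zpow, ← map_mul]; exact hπw
    have hq : IsPGroup 2 (S ⧸ N) := h2.to_quotient N
    have hcyc : ∀ c : S ⧸ N, π a ∈ Subgroup.zpowers c → π b ∈ Subgroup.zpowers c →
        IsCyclic (S ⧸ N) := by
      intro c hca hcb
      refine ⟨c, fun q => ?_⟩
      obtain ⟨g, rfl⟩ := QuotientGroup.mk'_surjective N q
      obtain ⟨i, e, j, rfl⟩ := hgen g
      rw [map_mul, map_mul, map_zpow, map_zpow, map_zpow, hπz, one_zpow, mul_one]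
      exact mul_mem (zpow_mem hca i) (zpow_mem hcb j)
    rcases hIJ with h | h
    · refine hcyc (π b) (mem_of_inverse_odd hq _ _ h ?_) (Subgroup.mem_zpowers _)
      rw [eq_inv_of_mul_eq_one_left hπab]
      exact inv_mem (zpow_mem (Subgroup.mem_zpowers _) J)
    · refine hcyc (π a) (Subgroup.mem_zpowers _) (mem_of_inverse_odd hq _ _ h ?_)
      rw [eq_inv_of_mul_eq_one_right hπab]
      exact inv_mem (zpow_mem (Subgroup.mem_zpowers _) I)
  -- an involution outside the Frattini subgroup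
  have hinvol : ∀ I J : ℤ, Odd I ∨ Odd J → (a ^ I * b ^ J) ^ 2 = 1 → Cfsg.IsMetacyclic S := by
    intro I J hIJ hw
    set w := a ^ I * b ^ J with hw'
    obtain ⟨u, U, V, hu, hwu, hwu'⟩ : ∃ u : S, ∃ U V : ℤ, u = a ^ U * b ^ V ∧ u * w = z * (w * u) ∧
        ((Odd U ∨ Odd V) ∧ ∃ U' V' : ℤ, (Odd U' ∨ Odd V') ∧ ∃ e : ℤ, w * u = z ^ e * (a ^ U' * b ^ V')) := by
      rcases Int.even_or_odd I with hI | hI
      · have hJ : Odd J := hIJ.resolve_left (Int.not_odd_iff_even.mpr hI)
        refine ⟨a, 1, 0, by simp, ?_, Or.inl odd_one, I + 1, J, Or.inr hJ, J, ?_⟩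
        · have h := comm_rel hza hzb hrel 1 J
          rw [one_mul, zpow_one, hzodd J hJ] at h
          rw [hw', mul_assoc (a ^ I), h, ← mul_assoc (a ^ I), ← (hza.zpow_right I).eq, mul_assoc z,
            ← mul_assoc z z, ← pow_two, hz2, one_mul, ← mul_assoc, ← mul_assoc,
            ((Commute.refl a).zpow_right I).eq]
        · have h := comm_rel hza hzb hrel 1 J
          rw [one_mul, zpow_one] at h
          rw [hw', mul_assoc (a ^ I), h, ← mul_assoc (a ^ I), ← (hza.zpow_zpow J I).eq, zpow_add_one]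
          simp only [mul_assoc]
      · refine ⟨b, 0, 1, by simp, ?_, Or.inr odd_one, I, J + 1, Or.inl hI, 0, ?_⟩
        · have h := comm_rel hza hzb hrel I 1
          rw [mul_one, zpow_one, hzodd I hI] at h
          rw [hw', ← mul_assoc, h, mul_assoc z, mul_assoc (a ^ I), mul_assoc (a ^ I),
            ((Commute.refl b).zpow_right J).eq]
        · rw [hw', zpow_zero, one_mul, zpow_add_one, mul_assoc]
    obtain ⟨hUV, U', V', hUV', e, he⟩ := hwu'
    by_cases hzu : z ∈ Subgroup.zpowers u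
    · exact done U V hUV (hu ▸ hzu)
    by_cases hu2 : u ^ 2 = 1
    · refine done U' V' hUV' ?_
      have hsq : (w * u) ^ 2 = z := by
        calc (w * u) ^ 2 = w * (u * w) * u := by rw [pow_two]; simp only [mul_assoc]
          _ = w * z * w * (u * u) := by rw [hwu]; simp only [mul_assoc]
          _ = z := by
            rw [← pow_two, hu2, mul_one, ← (hzc w).eq, mul_assoc, ← pow_two, hw, mul_one]
      have hsq' : (a ^ U' * b ^ V') ^ 2 = z := by
        rw [he, ((hzc _).zpow_left e).mul_pow, ← zpow_natCast (z ^ e), ← zpow_mul,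
          hzev _ (by push_cast; exact even_two.mul_left e), one_mul] at hsq
        exact hsq
      have hmem := Subgroup.pow_mem _ (Subgroup.mem_zpowers (a ^ U' * b ^ V')) 2
      rwa [hsq'] at hmem
    exfalso
    obtain ⟨m, hm⟩ := IsPGroup.iff_orderOf.mp h2 u
    obtain ⟨m', rfl⟩ : ∃ m', m = m' + 2 := by
      refine Nat.exists_eq_add_of_le' ?_
      by_contra hlt
      refine hu2 (orderOf_dvd_iff_pow_eq_one.mp ?_)
      rw [hm]
      exact (pow_dvd_pow 2 (by omega : m ≤ 1)).trans (pow_one 2).dvd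
    set u0 := u ^ 2 ^ (m' + 1) with hu0
    have hu02 : u0 ^ 2 = 1 := by rw [hu0, ← pow_mul, ← pow_succ, ← hm, pow_orderOf_eq_one]
    have hu01 : u0 ≠ 1 := fun h => by
      have h' := orderOf_dvd_of_pow_eq_one h
      rw [hm, Nat.pow_dvd_pow_iff_le_right (by norm_num)] at h'
      omega
    have hwu0 : Commute w u0 := by
      have h1 : w * u * w⁻¹ = z * u := by
        calc w * u * w⁻¹ = z * (z * (w * u)) * w⁻¹ := by rw [← mul_assoc z z, ← pow_two, hz2, one_mul]
          _ = z * (u * w) * w⁻¹ := by rw [hwu]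
          _ = z * u := by group
      have h3 : w * u0 * w⁻¹ = u0 := by
        rw [hu0, ← conj_pow, h1, (hzc u).mul_pow, pow_succ' 2 m', pow_mul, hz2, one_pow, one_mul]
      exact mul_inv_eq_iff_eq_mul.mp h3
    obtain ⟨i, j, e, hrel', hne⟩ := relation hr w u0 z hwu0 (hzc w).symm (hzc u0).symm
    have hwz : ∀ k : ℤ, u0 ^ k = if Even k then 1 else u0 := by
      intro k
      rw [← zpow_mod_orderOf, orderOf_eq_prime hu02 hu01]
      split_ifs with h
      · rw [show k % ((2 : ℕ) : ℤ) = 0 from Int.even_iff.mp h, zpow_zero]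
      · rw [show k % ((2 : ℕ) : ℤ) = 1 from Int.not_even_iff.mp h, zpow_one]
    have hzu0 : u0 ∈ Subgroup.zpowers u := Subgroup.pow_mem _ (Subgroup.mem_zpowers u) _
    rcases Int.even_or_odd i with hi | hi
    · have hwi : w ^ i = 1 := by
        obtain ⟨k, rfl⟩ := hi
        rw [← two_mul, zpow_mul, zpow_ofNat, hw, one_zpow]
      rw [hwi, one_mul, hwz, hzpow] at hrel'
      split_ifs at hrel' with hj he'
      · exact hne ⟨hi, hj, he'⟩
      · rw [one_mul] at hrel'; exact hz1 hrel'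
      · rw [mul_one] at hrel'; exact hu01 hrel'
      · refine hzu ?_
        rw [eq_inv_of_mul_eq_one_right hrel']
        exact inv_mem hzu0
    · -- `w` would commute with `u`
      have hwi : w ^ i = w := by
        obtain ⟨k, rfl⟩ := hi
        rw [zpow_add_one, zpow_mul, zpow_ofNat, hw, one_zpow, one_mul]
      have hcu : Commute w u := by
        rw [hwi, mul_assoc] at hrel'
        rw [eq_inv_of_mul_eq_one_left hrel']
        exact (((Commute.refl u).pow_left _).zpow_left j).mul_left ((hzc u).zpow_left e) |>.inv_left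
      rw [← hcu.eq] at hwu
      exact hz1 (mul_eq_right.mp hwu.symm)
  -- relations in the Frattini subgroup
  have hfin : ∀ (t : ℕ) (I J : ℤ), Odd I ∨ Odd J →
      z = (a ^ (2 * I) * b ^ (2 * J)) ^ 2 ^ t → Cfsg.IsMetacyclic S := by
    intro t I J hIJ hz
    cases t with
    | succ t =>
      refine done I J hIJ ?_
      rw [hz]
      have h : a ^ (2 * I) * b ^ (2 * J) = z ^ (I * J) * (a ^ I * b ^ J) ^ 2 := by
        rw [sq_rel hza hzb hrel, ← mul_assoc, ← zpow_add, ← two_mul, hzev _ (even_two_mul _), one_mul]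
      rw [h, ((hzc _).zpow_left _).mul_pow, ← zpow_natCast (z ^ (I * J)), ← zpow_mul,
        hzev _ (Even.mul_left (by push_cast; exact even_two.pow_of_ne_zero (Nat.succ_ne_zero t)) _),
        one_mul, ← pow_mul]
      exact Subgroup.pow_mem _ (Subgroup.mem_zpowers _) _
    | zero =>
      rw [pow_zero, pow_one] at hz
      rcases Int.even_or_odd (I * J) with hp | hp
      · refine done I J hIJ ?_
        have hsq := sq_rel hza hzb hrel I J
        rw [hzev _ hp, one_mul, ← hz] at hsq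
        have hmem := Subgroup.pow_mem _ (Subgroup.mem_zpowers (a ^ I * b ^ J)) 2
        rwa [hsq] at hmem
      · refine hinvol I J hIJ ?_
        rw [sq_rel hza hzb hrel, hzodd _ hp, ← hz, ← pow_two, hz2]
  have hcab : ∀ I J : ℤ, Commute (a ^ (2 * I)) (b ^ (2 * J)) := fun I J => by
    have h := comm_rel hza hzb hrel (2 * I) (2 * J)
    rw [hzev _ ((even_two_mul I).mul_right _), one_mul] at h
    exact h.symm
  obtain ⟨i, j, e, hr', hne⟩ := relation hr (a ^ (2 : ℤ)) (b ^ (2 : ℤ)) z
    (by simpa using hcab 1 1) (hza.zpow_right 2).symm (hzb.zpow_right 2).symm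
  rw [← zpow_mul, ← zpow_mul] at hr'
  rcases Int.even_or_odd e with he | he
  · rw [hzev _ he, mul_one] at hr'
    have hij : Odd i ∨ Odd j := by
      rcases Int.even_or_odd i with hi | hi
      · exact Or.inr ((Int.even_or_odd j).resolve_left fun hj => hne ⟨hi, hj, he⟩)
      · exact Or.inl hi
    rcases Int.even_or_odd (i * j) with hp | hp
    · refine hinvol i j hij ?_
      rw [sq_rel hza hzb hrel, hr', mul_one, hzev _ hp]
    · refine done i j hij ?_
      have hsq := sq_rel hza hzb hrel i j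
      rw [hr', mul_one, hzodd _ hp] at hsq
      have hmem := Subgroup.pow_mem _ (Subgroup.mem_zpowers (a ^ i * b ^ j)) 2
      rwa [hsq] at hmem
  · rw [hzodd _ he] at hr'
    -- extract the common power of two from the exponents
    have key : ∀ (N : ℕ) (I J : ℤ) (t : ℕ), I.natAbs + J.natAbs ≤ N →
        z = (a ^ (2 * I) * b ^ (2 * J)) ^ 2 ^ t → Cfsg.IsMetacyclic S := by
      intro N
      induction N using Nat.strong_induction_on with
      | _ N ih =>
        intro I J t hN hz
        rcases Int.even_or_odd I with hI | hI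
        · rcases Int.even_or_odd J with hJ | hJ
          · obtain ⟨I', rfl⟩ := hI
            obtain ⟨J', rfl⟩ := hJ
            rcases Nat.eq_zero_or_pos (I'.natAbs + J'.natAbs) with h0 | h0
            · exfalso
              refine hz1 ?_
              rw [hz, show I' = 0 by omega, show J' = 0 by omega]
              simp
            · refine ih _ (show I'.natAbs + J'.natAbs < N by omega) I' J' (t + 1) le_rfl ?_
              rw [hz, pow_succ', pow_mul]
              congr 1
              rw [(hcab I' J').mul_pow, ← zpow_natCast, ← zpow_natCast, ← zpow_mul, ← zpow_mul]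
              congr 2 <;> push_cast <;> ring
          · exact hfin t I J (Or.inr hJ) hz
        · exact hfin t I J (Or.inl hI) hz
    refine key _ (-i) (-j) 0 le_rfl ?_
    have hz' : z = (a ^ (2 * i) * b ^ (2 * j))⁻¹ := eq_inv_of_mul_eq_one_right hr'
    rw [pow_zero, pow_one, mul_neg, mul_neg, zpow_neg, zpow_neg]
    rw [hz', mul_inv_rev]
    exact (hcab i j).inv_inv.symm.eq

theorem of_gen_two {S : Type u} [Group S] [Finite S] (x y : S) (hxy : Commute x y)
    (hgen : ∀ g : S, ∃ i j : ℤ, g = x ^ i * y ^ j) : Cfsg.IsMetacyclic S := by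
  have hc : ∀ g : S, Commute g x := fun g => by
    obtain ⟨i, j, rfl⟩ := hgen g
    exact ((Commute.refl x).zpow_left i).mul_left (hxy.symm.zpow_left j)
  have hn : (Subgroup.zpowers x).Normal := ⟨fun n hn g => by
    obtain ⟨k, rfl⟩ := Subgroup.mem_zpowers_iff.mp hn
    rwa [((hc g).zpow_right k).eq, mul_inv_cancel_right]⟩
  haveI := hn
  refine ⟨_, hn, inferInstance, QuotientGroup.mk' _ y, fun q => ?_⟩
  obtain ⟨g, rfl⟩ := QuotientGroup.mk'_surjective _ q
  obtain ⟨i, j, rfl⟩ := hgen g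
  rw [map_mul, map_zpow, map_zpow,
    show QuotientGroup.mk' (Subgroup.zpowers x) x = 1 from
      (QuotientGroup.eq_one_iff _).mpr (Subgroup.mem_zpowers x), one_zpow, one_mul]
  exact Subgroup.zpow_mem _ (Subgroup.mem_zpowers _) j

open scoped commutatorElement in
theorem main : ∀ (c : ℕ) (S : Type u) [Group S] [Finite S], Nat.card S = c → IsPGroup 2 S →
    Cfsg.SectionalPRankLE 2 2 S → Cfsg.IsMetacyclic S := by
  intro c
  induction c using Nat.strong_induction_on with
  | _ c ih =>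
    intro S _ _ hc h2 hr
    classical
    haveI : Fact (Nat.Prime 2) := ⟨Nat.prime_two⟩
    rcases subsingleton_or_nontrivial S with hs | hs
    · exact ⟨⊤, inferInstance, inferInstance, inferInstance⟩
    -- a central involution, in the derived subgroup if that is not trivial
    obtain ⟨z, hz2, hz1, hzc, hzD⟩ : ∃ z : S, z ^ 2 = 1 ∧ z ≠ 1 ∧ (∀ g : S, Commute z g) ∧
        (commutator S ≠ ⊥ → z ∈ commutator S) := by
      set K := if commutator S = ⊥ then (⊤ : Subgroup S) else commutator S with hK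
      have hKn : K.Normal := by rw [hK]; split_ifs <;> infer_instance
      have hKb : K ≠ ⊥ := by
        rw [hK]; split_ifs with h
        · exact top_ne_bot
        · exact h
      haveI := hKn
      haveI := h2.isNilpotent
      have hnt : (K ⊓ Subgroup.center S) ≠ ⊥ := Cfsg.Agent.Lib.Solvable.inf_center_ne_bot hKb
      obtain ⟨x, hx⟩ := exists_prime_orderOf_dvd_card' (G := (K ⊓ Subgroup.center S : Subgroup S)) 2
        (((h2.to_subgroup _).card_eq_or_dvd).resolve_left fun h => hnt (Subgroup.card_eq_one.mp h))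
      refine ⟨x, ?_, fun h => ?_, fun g => (Subgroup.mem_center_iff.mp x.2.2 g).symm, fun h => ?_⟩
      · rw [← SubmonoidClass.coe_pow, ← hx, pow_orderOf_eq_one]; rfl
      · rw [show x = 1 from Subtype.ext h, orderOf_one] at hx; omega
      · have := x.2.1
        simpa [hK, h] using this
    set Z := Subgroup.zpowers z with hZ
    haveI : Z.Normal := ⟨fun n hn g => by
      obtain ⟨k, rfl⟩ := Subgroup.mem_zpowers_iff.mp hn
      rw [((hzc g).zpow_left k).symm.eq, mul_inv_cancel_right]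
      exact Subgroup.zpow_mem _ (Subgroup.mem_zpowers z) k⟩
    have hlt : Nat.card (S ⧸ Z) < c := by
      have h := Z.card_eq_card_quotient_mul_card_subgroup
      have hZ2 : Nat.card Z = 2 := by rw [hZ, Nat.card_zpowers, orderOf_eq_prime hz2 hz1]
      rw [hZ2] at h
      have := Nat.card_pos (α := S ⧸ Z)
      rw [← hc]
      omega
    obtain ⟨N, hN, hNc, hQc⟩ := ih _ hlt (S ⧸ Z) rfl (h2.to_quotient Z) (sectional_quotient hr Z)
    obtain ⟨a', ha'⟩ := isCyclic_iff_exists_zpowers_eq_top.mp hNc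
    obtain ⟨a, ha⟩ := QuotientGroup.mk'_surjective Z a'.1
    obtain ⟨b', hb'⟩ := isCyclic_iff_exists_zpowers_eq_top.mp hQc
    obtain ⟨b, hb⟩ := ((QuotientGroup.mk'_surjective N).comp (QuotientGroup.mk'_surjective Z)) b'
    set A := N.comap (QuotientGroup.mk' Z) with hA
    haveI hAn : A.Normal := hN.comap _
    have hAmem : ∀ g : S, g ∈ A → ∃ i e : ℤ, g = a ^ i * z ^ e := by
      intro g hg
      obtain ⟨i, hi⟩ := Subgroup.mem_zpowers_iff.mp (ha'.ge (Subgroup.mem_top (⟨_, hg⟩ : N)))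
      have hi' : (QuotientGroup.mk' Z a) ^ i = QuotientGroup.mk' Z g := by
        rw [ha]; simpa using congrArg Subtype.val hi
      rw [← map_zpow] at hi'
      have h1 : (a ^ i)⁻¹ * g ∈ Z := QuotientGroup.eq.mp hi'
      obtain ⟨e, he⟩ := Subgroup.mem_zpowers_iff.mp h1
      exact ⟨i, e, by rw [he, mul_inv_cancel_left]⟩
    have haA : a ∈ A := by show QuotientGroup.mk' Z a ∈ N; rw [ha]; exact a'.2
    have hgen : ∀ g : S, ∃ i e j : ℤ, g = a ^ i * z ^ e * b ^ j := by
      intro g
      obtain ⟨j, hj⟩ := Subgroup.mem_zpowers_iff.mp (hb'.ge (Subgroup.mem_top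
        (QuotientGroup.mk' N (QuotientGroup.mk' Z g))))
      have hgA : g * (b ^ j)⁻¹ ∈ A := by
        show QuotientGroup.mk' Z (g * (b ^ j)⁻¹) ∈ N
        rw [← QuotientGroup.eq_one_iff]
        show QuotientGroup.mk' N (QuotientGroup.mk' Z (g * (b ^ j)⁻¹)) = 1
        rw [map_mul, map_inv, map_zpow, map_mul, map_inv, map_zpow,
          show QuotientGroup.mk' N (QuotientGroup.mk' Z b) = b' from hb, hj, mul_inv_cancel]
      obtain ⟨i, e, hie⟩ := hAmem _ hgA
      exact ⟨i, e, j, by rw [← hie, inv_mul_cancel_right]⟩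
    by_cases hza : z ∈ Subgroup.zpowers a
    · have hAa : Subgroup.zpowers a = A := by
        refine le_antisymm (Subgroup.zpowers_le.mpr haA) fun g hg => ?_
        obtain ⟨i, e, rfl⟩ := hAmem g hg
        exact mul_mem (Subgroup.zpow_mem _ (Subgroup.mem_zpowers a) i) (zpow_mem hza e)
      have hn : (Subgroup.zpowers a).Normal := hAa ▸ hAn
      haveI := hn
      refine ⟨_, hn, inferInstance, QuotientGroup.mk' _ b, fun q => ?_⟩
      obtain ⟨g, rfl⟩ := QuotientGroup.mk'_surjective _ q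
      obtain ⟨i, e, j, rfl⟩ := hgen g
      rw [map_mul, show QuotientGroup.mk' (Subgroup.zpowers a) (a ^ i * z ^ e) = 1 from
        (QuotientGroup.eq_one_iff _).mpr
          (mul_mem (Subgroup.zpow_mem _ (Subgroup.mem_zpowers a) i) (zpow_mem hza e)),
        one_mul, map_zpow]
      exact Subgroup.zpow_mem _ (Subgroup.mem_zpowers _) j
    by_cases hab : Commute a b
    · have hcomm : ∀ g h : S, Commute g h := by
        have h1 : ∀ g : S, Commute g a ∧ Commute g b := fun g => by
          obtain ⟨i, e, j, rfl⟩ := hgen g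
          exact ⟨((((Commute.refl a).zpow_left i).mul_left ((hzc a).zpow_left e))).mul_left
            (hab.symm.zpow_left j), ((hab.zpow_left i).mul_left ((hzc b).zpow_left e)).mul_left
            ((Commute.refl b).zpow_left j)⟩
        intro g h
        obtain ⟨i, e, j, rfl⟩ := hgen h
        exact (((h1 g).1.zpow_right i).mul_right ((hzc g).symm.zpow_right e)).mul_right
          ((h1 g).2.zpow_right j)
      have hjoin : ∀ x y : S, a ∈ Subgroup.zpowers x ⊔ Subgroup.zpowers y →
          b ∈ Subgroup.zpowers x ⊔ Subgroup.zpowers y →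
          z ∈ Subgroup.zpowers x ⊔ Subgroup.zpowers y → Cfsg.IsMetacyclic S := by
        intro x y h1 h2' h3
        haveI : (Subgroup.zpowers y).Normal := ⟨fun n hn g => by
          rwa [(hcomm g n).eq, mul_inv_cancel_right]⟩
        refine of_gen_two x y (hcomm x y) fun g => ?_
        obtain ⟨i, e, j, rfl⟩ := hgen g
        obtain ⟨u, hu, v, hv, huv⟩ := Subgroup.mem_sup_of_normal_right.mp
          (mul_mem (mul_mem (zpow_mem h1 i) (zpow_mem h3 e)) (zpow_mem h2' j))
        obtain ⟨i', rfl⟩ := Subgroup.mem_zpowers_iff.mp hu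
        obtain ⟨j', rfl⟩ := Subgroup.mem_zpowers_iff.mp hv
        exact ⟨i', j', huv.symm⟩
      have hl : ∀ x y : S, x ∈ Subgroup.zpowers x ⊔ Subgroup.zpowers y ∧
          y ∈ Subgroup.zpowers x ⊔ Subgroup.zpowers y := fun x y =>
        ⟨Subgroup.mem_sup_left (Subgroup.mem_zpowers x), Subgroup.mem_sup_right (Subgroup.mem_zpowers y)⟩
      obtain ⟨i, j, e, hrel, hne⟩ := relation hr a b z hab (hzc a).symm (hzc b).symm
      rcases Int.even_or_odd e with he | he
      · rcases Int.even_or_odd i with hi | hi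
        · have hj : Odd j := (Int.even_or_odd j).resolve_left fun hj => hne ⟨hi, hj, he⟩
          refine hjoin a z (hl a z).1 (mem_of_inverse_odd h2 _ _ hj ?_) (hl a z).2
          rw [eq_inv_mul_iff_mul_eq.mpr (eq_inv_of_mul_eq_one_left hrel)]
          exact mul_mem (inv_mem (zpow_mem (hl a z).1 i)) (inv_mem (zpow_mem (hl a z).2 e))
        · refine hjoin b z (mem_of_inverse_odd h2 _ _ hi ?_) (hl b z).1 (hl b z).2
          rw [mul_assoc] at hrel
          rw [eq_inv_of_mul_eq_one_left hrel]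
          exact inv_mem (mul_mem (zpow_mem (hl b z).1 j) (zpow_mem (hl b z).2 e))
      · refine hjoin a b (hl a b).1 (hl a b).2 (mem_of_inverse_odd h2 _ _ he ?_)
        rw [eq_inv_of_mul_eq_one_right hrel]
        exact inv_mem (mul_mem (zpow_mem (hl a b).1 i) (zpow_mem (hl a b).2 j))
    -- the commutator of `a` and `b`
    set d := b * a * b⁻¹ * a⁻¹ with hd
    obtain ⟨k, e, hke⟩ := hAmem d (mul_mem (hAn.conj_mem a haA b) (inv_mem haA))
    have hda : Commute a d := by
      rw [hke]; exact ((Commute.refl a).zpow_right k).mul_right ((hzc a).symm.zpow_right e)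
    have hbd : b * d * b⁻¹ = d ^ (k + 1) := by
      have h1 : b * a * b⁻¹ = d * a := by rw [hd]; group
      calc b * d * b⁻¹ = b * (a ^ k * z ^ e) * b⁻¹ := by rw [hke]
        _ = b * a ^ k * b⁻¹ * (b * z ^ e * b⁻¹) := by group
        _ = (d * a) ^ k * z ^ e := by
          rw [← conj_zpow, h1, ← ((hzc b).zpow_left e).eq, mul_inv_cancel_right]
        _ = d ^ (k + 1) := by rw [hda.symm.mul_zpow, mul_assoc, ← hke, zpow_add_one]
    have hbn : ∀ n : ℕ, b ^ n * d * (b ^ n)⁻¹ ∈ Subgroup.zpowers d := by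
      intro n
      induction n with
      | zero => simp
      | succ n ihn =>
        obtain ⟨l, hl⟩ := Subgroup.mem_zpowers_iff.mp ihn
        rw [show b ^ (n + 1) * d * (b ^ (n + 1))⁻¹ = b * (b ^ n * d * (b ^ n)⁻¹) * b⁻¹ by
          rw [pow_succ']; group, ← hl, ← conj_zpow, hbd]
        exact Subgroup.zpow_mem _ (Subgroup.zpow_mem _ (Subgroup.mem_zpowers d) _) _
    have hRn : (Subgroup.zpowers d).Normal := ⟨fun x hx g => by
      obtain ⟨l, rfl⟩ := Subgroup.mem_zpowers_iff.mp hx
      rw [← conj_zpow]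
      refine zpow_mem ?_ l
      obtain ⟨i, e', j, rfl⟩ := hgen g
      obtain ⟨n, hn⟩ := Submonoid.mem_powers_iff _ _ |>.mp
        (mem_powers_iff_mem_zpowers.mpr (Subgroup.zpow_mem _ (Subgroup.mem_zpowers b) j))
      obtain ⟨l', hl'⟩ := Subgroup.mem_zpowers_iff.mp (hbn n)
      rw [hn] at hl'
      have hcm : Commute (a ^ i * z ^ e') (d ^ l') :=
        (hda.zpow_zpow i l').mul_left ((hzc d).zpow_zpow e' l')
      rw [show a ^ i * z ^ e' * b ^ j * d * (a ^ i * z ^ e' * b ^ j)⁻¹ =
        a ^ i * z ^ e' * (b ^ j * d * (b ^ j)⁻¹) * (a ^ i * z ^ e')⁻¹ by group, ← hl', hcm.eq,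
        mul_inv_cancel_right]
      exact Subgroup.zpow_mem _ (Subgroup.mem_zpowers d) l'⟩
    haveI := hRn
    set π := QuotientGroup.mk' (Subgroup.zpowers d)
    have hπab : Commute (π b) (π a) := by
      have h1 : π d = 1 := (QuotientGroup.eq_one_iff _).mpr (Subgroup.mem_zpowers d)
      have h3 : π (b * a * b⁻¹ * a⁻¹) = 1 := h1
      rw [map_mul, map_mul, map_mul, map_inv, map_inv, mul_inv_eq_one, mul_inv_eq_iff_eq_mul] at h3
      exact h3
    have hπ1 : ∀ g : S, Commute (π g) (π a) ∧ Commute (π g) (π b) := fun g => by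
      obtain ⟨i, e', j, rfl⟩ := hgen g
      rw [map_mul, map_mul, map_zpow, map_zpow, map_zpow]
      exact ⟨(((Commute.refl _).zpow_left i).mul_left (((hzc a).map π).zpow_left e')).mul_left
          (hπab.zpow_left j),
        ((hπab.symm.zpow_left i).mul_left (((hzc b).map π).zpow_left e')).mul_left
          ((Commute.refl _).zpow_left j)⟩
    have hab' : a * b ≠ b * a := hab
    have hD : commutator S ≠ ⊥ := fun h => by
      refine hab' ?_
      rw [← commutatorElement_eq_one_iff_mul_comm, ← Subgroup.mem_bot, ← h, commutator_def]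
      exact Subgroup.commutator_mem_commutator trivial trivial
    have hle : commutator S ≤ Subgroup.zpowers d := by
      rw [commutator_def, Subgroup.commutator_le]
      intro g _ h _
      rw [← QuotientGroup.eq_one_iff]
      show π ⁅g, h⁆ = 1
      rw [map_commutatorElement, commutatorElement_eq_one_iff_mul_comm]
      obtain ⟨i, e', j, rfl⟩ := hgen h
      rw [map_mul, map_mul, map_zpow, map_zpow, map_zpow]
      exact ((((hπ1 g).1.zpow_right i).mul_right (((hzc g).symm.map π).zpow_right e')).mul_right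
        ((hπ1 g).2.zpow_right j)).eq
    obtain ⟨l, hl⟩ := Subgroup.mem_zpowers_iff.mp (hle (hzD hD))
    rw [hke, (((hzc a).symm).zpow_zpow k e).mul_zpow, ← zpow_mul, ← zpow_mul] at hl
    have hzm : ∀ m : ℤ, Even m → z ^ m = 1 := by
      rintro m ⟨q, rfl⟩
      rw [← two_mul, zpow_mul, zpow_ofNat, hz2, one_zpow]
    rcases Int.even_or_odd (e * l) with hp | hp
    · rw [hzm _ hp, mul_one] at hl
      exact absurd (hl ▸ Subgroup.zpow_mem _ (Subgroup.mem_zpowers a) _) hza
    · obtain ⟨heo, hlo⟩ := Int.odd_mul.mp hp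
      have hzodd : ∀ m : ℤ, Odd m → z ^ m = z := by
        rintro m ⟨q, rfl⟩
        rw [zpow_add_one, hzm _ (even_two_mul q), one_mul]
      rw [hzodd _ hp, mul_eq_right, zpow_mul] at hl
      have hak : a ^ k = 1 := Subgroup.mem_bot.mp
        (mem_of_inverse_odd h2 ⊥ (a ^ k) hlo (Subgroup.mem_bot.mpr hl))
      rw [hak, one_mul, hzodd _ heo, hd] at hke
      refine two_gen h2 hr a b z (hzc a) (hzc b) hz2 hz1 ?_ hgen
      rw [← hke]; group


/-- A finite 2-group of sectional 2-rank at most 2 (every section has no elementary abelian subgroup of order 8) is metacyclic: it has a cyclic normal subgroup with cyclic quotient. -/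
theorem result {S : Type*} [Group S] [Finite S] (h2 : IsPGroup 2 S) (hr : Cfsg.SectionalPRankLE 2 2 S) : Cfsg.IsMetacyclic S := by
  exact main _ S rfl h2 hr

end Cfsg.Agent.S4397
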