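import Cfsg.Statements.S4398
import Cfsg.Agent.S4143
import Cfsg.Agent.Lib.PGroups.MaximalClass
import Cfsg.Agent.Lib.Coprime.Basic

set_option autoImplicit false
open Cfsg

namespace Cfsg.Agent.S4398

universe u

theorem centralizer_le_of_rank {S : Type u} [Group S] [Finite S] (h2 : IsPGroup 2 S)
    (hr : Cfsg.SectionalPRankLE 2 2 S) (H : Subgroup S) (hH : Nat.card H = 8)
    (hsq : ∀ a b : H, a * (b * b) = b * b * a) (hcen : Nat.card (Subgroup.center H) ≤ 2) :
    Subgroup.centralizer (H : Set S) ≤ H := by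
  classical
  haveI : Fact (Nat.Prime 2) := ⟨Nat.prime_two⟩
  by_contra hle
  obtain ⟨y, hy, hyH⟩ := SetLike.not_le_iff_exists.mp hle
  have hex : ∃ i : ℕ, y ^ 2 ^ i ∈ H := by
    obtain ⟨k, hk⟩ := h2 y
    exact ⟨k, hk ▸ one_mem H⟩
  obtain ⟨i, hi⟩ : ∃ i, Nat.find hex = i + 1 := by
    refine Nat.exists_eq_succ_of_ne_zero fun h0 => hyH ?_
    have h := Nat.find_spec hex
    rwa [h0, pow_zero, pow_one] at h
  set x := y ^ 2 ^ i
  have hxH : x ∉ H := Nat.find_min hex (by omega)
  have hx2 : x * x ∈ H := by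
    have h := Nat.find_spec hex
    rw [hi, pow_succ, pow_mul, pow_two] at h
    exact h
  have hxC : x ∈ Subgroup.centralizer (H : Set S) := Subgroup.pow_mem _ hy _
  set Z := (Subgroup.center H).map H.subtype with hZ
  have hxxZ : x * x ∈ Z := by
    refine ⟨⟨_, hx2⟩, Subgroup.mem_center_iff.mpr fun g => Subtype.ext ?_, rfl⟩
    exact Subgroup.mem_centralizer_iff.mp (mul_mem hxC hxC) g g.2
  have hxN : Subgroup.zpowers x ≤ Subgroup.normalizer (H : Set S) :=
    Subgroup.zpowers_le.mpr (Subgroup.centralizer_le_normalizer _ hxC)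
  set T := H ⊔ Subgroup.zpowers x with hT
  have hsqT : ∀ t ∈ T, t * t ∈ Z := by
    intro t ht
    obtain ⟨h, hh, w, hw, rfl⟩ := Cfsg.Agent.Lib.Coprime.exists_mul_of_mem_sup hxN ht
    obtain ⟨k, rfl⟩ := Subgroup.mem_zpowers_iff.mp hw
    have hcm : Commute h (x ^ k) := Subgroup.mem_centralizer_iff.mp (zpow_mem hxC k) h hh
    have e : h * x ^ k * (h * x ^ k) = h * h * (x * x) ^ k := by
      calc h * x ^ k * (h * x ^ k) = h * (x ^ k * h) * x ^ k := by group
        _ = h * (h * x ^ k) * x ^ k := by rw [hcm.eq]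
        _ = h * h * (x * x) ^ k := by
          rw [(Commute.refl x).mul_zpow]; group
    rw [e]
    refine mul_mem ⟨⟨h * h, mul_mem hh hh⟩, Subgroup.mem_center_iff.mpr fun g => ?_, rfl⟩
      (zpow_mem hxxZ k)
    exact hsq g ⟨h, hh⟩
  have hZc : ∀ z ∈ Z, ∀ t ∈ T, t * z = z * t := by
    rintro _ ⟨z, hz, rfl⟩ t ht
    have hle : T ≤ Subgroup.centralizer ({((z : H) : S)} : Set S) := by
      refine sup_le (fun g hg => ?_) (Subgroup.zpowers_le.mpr ?_)
      · rw [Subgroup.mem_centralizer_singleton_iff]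
        exact congrArg Subtype.val (Subgroup.mem_center_iff.mp hz ⟨g, hg⟩)
      · rw [Subgroup.mem_centralizer_singleton_iff]
        exact (Subgroup.mem_centralizer_iff.mp hxC z z.2).symm
    exact Subgroup.mem_centralizer_singleton_iff.mp (hle ht)
  haveI : (Z.subgroupOf T).Normal := ⟨fun z hz t => by
    have : t * z * t⁻¹ = z := by
      refine Subtype.ext ?_
      simp only [Subgroup.coe_mul, Subgroup.coe_inv]
      rw [hZc z hz t t.2, mul_inv_cancel_right]
    rw [this]; exact hz⟩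
  have hexp : ∀ a : T ⧸ Z.subgroupOf T, a ^ 2 = 1 := by
    intro a
    obtain ⟨t, rfl⟩ := QuotientGroup.mk_surjective a
    rw [← QuotientGroup.mk_pow, QuotientGroup.eq_one_iff, Subgroup.mem_subgroupOf, pow_two]
    exact hsqT t t.2
  have hinv : ∀ a : T ⧸ Z.subgroupOf T, a⁻¹ = a := fun a =>
    inv_eq_of_mul_eq_one_right (by rw [← pow_two]; exact hexp a)
  haveI hA : IsMulCommutative (⊤ : Subgroup (T ⧸ Z.subgroupOf T)) := ⟨⟨fun a b => Subtype.ext (by
    have := hinv (a.1 * b.1)
    rw [mul_inv_rev, hinv, hinv] at this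
    exact this.symm)⟩⟩
  have h4 : Nat.card (⊤ : Subgroup (T ⧸ Z.subgroupOf T)) ≤ 2 ^ 2 := hr T _ ⊤ hA fun a _ => hexp a
  rw [Subgroup.card_top] at h4
  have hZT : Z ≤ T := (Subgroup.map_subtype_le _).trans le_sup_left
  have hZcard : Nat.card (Z.subgroupOf T) ≤ 2 := by
    rw [Nat.card_congr (Subgroup.subgroupOfEquivOfLe hZT).toEquiv, hZ,
      Subgroup.card_map_of_injective H.subtype_injective]
    exact hcen
  have hTcard : 16 ≤ Nat.card T := by
    obtain ⟨c, hc⟩ := IsPGroup.iff_card.mp (h2.to_subgroup T)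
    have hlt : Nat.card H < Nat.card T := by
      refine lt_of_le_of_ne (Subgroup.card_le_of_le le_sup_left) fun he => hxH ?_
      have : H = T := Subgroup.eq_of_le_of_card_ge le_sup_left he.ge
      exact this ▸ Subgroup.mem_sup_right (Subgroup.mem_zpowers x)
    rw [hH, hc] at hlt
    rw [hc]
    calc 16 = 2 ^ 4 := by norm_num
      _ ≤ 2 ^ c := Nat.pow_le_pow_right (by norm_num)
          (Nat.pow_lt_pow_iff_right (by norm_num) |>.mp (show 2 ^ 3 < 2 ^ c by simpa using hlt))
  have hprod := Subgroup.card_eq_card_quotient_mul_card_subgroup (Z.subgroupOf T)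
  have := Nat.mul_le_mul h4 hZcard
  omega


/-- Let S be a finite 2-group of sectional 2-rank at most 2 that contains a subgroup isomorphic to the dihedral group of order 8 or to the quaternion group of order 8. Then S is dihedral of order at least 8, semidihedral of order at least 16 (order 2^(k+4) with an element a of order 2^(k+3) and an involution b with b a b⁻¹ = a^(2^(k+2)−1)), or generalized quaternion of order at least 8. -/
theorem result {S : Type*} [Group S] [Finite S] (h2 : IsPGroup 2 S) (hr : Cfsg.SectionalPRankLE 2 2 S)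
    (hsub : ∃ H : Subgroup S, Nonempty (↥H ≃* DihedralGroup 4) ∨ Nonempty (↥H ≃* QuaternionGroup 2)) :
    ((∃ k : ℕ, Nonempty (S ≃* DihedralGroup (2 ^ (k + 2)))) ∨
      (∃ k : ℕ, Nat.card S = 2 ^ (k + 4) ∧ ∃ a b : S, orderOf a = 2 ^ (k + 3) ∧ orderOf b = 2 ∧ b * a * b⁻¹ = a ^ (2 ^ (k + 2) - 1)) ∨
      (∃ k : ℕ, Nonempty (S ≃* QuaternionGroup (2 ^ (k + 1))))) := by
  haveI : Fact (Nat.Prime 2) := ⟨Nat.prime_two⟩
  obtain ⟨H, hH⟩ := hsub
  obtain ⟨n, hn⟩ := IsPGroup.iff_card.mp h2
  have hfacts : Nat.card H = 8 ∧ (∀ a b : H, a * (b * b) = b * b * a) ∧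
      Nat.card (Subgroup.center H) ≤ 2 ∧ ¬ IsMulCommutative H := by
    have key : ∀ {W : Type} [Group W] (e : ↥H ≃* W), Nat.card W = 8 →
        (∀ a b : W, a * (b * b) = b * b * a) → Nat.card (Subgroup.center W) ≤ 2 →
        (∃ a b : W, a * b ≠ b * a) → Nat.card H = 8 ∧ (∀ a b : H, a * (b * b) = b * b * a) ∧
          Nat.card (Subgroup.center H) ≤ 2 ∧ ¬ IsMulCommutative H := by
      intro W _ e h8 hsq hc hne
      refine ⟨(Nat.card_congr e.toEquiv).trans h8, fun a b => e.injective ?_, ?_, fun hcom => ?_⟩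
      · simp only [map_mul]; exact hsq _ _
      · rw [Nat.card_congr (Subgroup.centerCongr e).toEquiv]; exact hc
      · obtain ⟨a, b, hab⟩ := hne
        apply hab
        apply e.symm.injective
        rw [map_mul, map_mul]
        exact hcom.is_comm.comm _ _
    rcases hH with hD | hQ
    · exact key hD.some (by rw [DihedralGroup.nat_card]) (by decide)
        (by rw [Nat.card_eq_fintype_card]; decide) ⟨DihedralGroup.r 1, DihedralGroup.sr 0, by decide⟩
    · exact key hQ.some (by rw [Nat.card_eq_fintype_card, QuaternionGroup.card]) (by decide)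
        (by rw [Nat.card_eq_fintype_card]; decide) ⟨QuaternionGroup.a 1, QuaternionGroup.xa 0, by decide⟩
  obtain ⟨h8, hsq, hcen, hna⟩ := hfacts
  have hC := centralizer_le_of_rank h2 hr H h8 hsq hcen
  have hc := Cfsg.Agent.S4143.result (p := 2) n hn H (by rw [h8]; norm_num) hna hC
  have h3 : 3 ≤ n := by
    have h := Subgroup.card_subgroup_dvd_card H
    rw [h8, hn, show (8 : ℕ) = 2 ^ 3 by norm_num] at h
    exact (Nat.pow_dvd_pow_iff_le_right (by norm_num)).mp h
  exact Cfsg.Agent.Lib.PGroups.classify_maximal_class h2 n hn h3 hc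

end Cfsg.Agent.S4398
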