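import Cfsg.Statements.S4399
import Cfsg.Agent.Lib.PGroups.Taussky

set_option autoImplicit false
open Cfsg

namespace Cfsg.Agent.S4399

/-- Let S be a finite 2-group whose commutator quotient S/[S,S] is a Klein four-group (order 4 and exponent 2). Then S itself has order 4, or S is dihedral of order at least 8, semidihedral of order at least 16 (order 2^(k+4) with an element a of order 2^(k+3) and an involution b with b a b⁻¹ = a^(2^(k+2)−1)), or generalized quaternion of order at least 8. -/
theorem result {S : Type*} [Group S] [Finite S] (h2 : IsPGroup 2 S) (hab : Nat.card (Abelianization S) = 4)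
    (hexp : ∀ x : Abelianization S, x ^ 2 = 1) :
    Nat.card S = 4 ∨
    ((∃ k : ℕ, Nonempty (S ≃* DihedralGroup (2 ^ (k + 2)))) ∨
      (∃ k : ℕ, Nat.card S = 2 ^ (k + 4) ∧ ∃ a b : S, orderOf a = 2 ^ (k + 3) ∧ orderOf b = 2 ∧ b * a * b⁻¹ = a ^ (2 ^ (k + 2) - 1)) ∨
      (∃ k : ℕ, Nonempty (S ≃* QuaternionGroup (2 ^ (k + 1))))) := by
  by_cases h4 : Nat.card S = 4
  · exact Or.inl h4
  refine Or.inr ?_
  haveI : Fact (Nat.Prime 2) := ⟨Nat.prime_two⟩
  have hidx : (commutator S).index = 4 := (Subgroup.index_eq_card _).trans hab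
  obtain ⟨e, he⟩ := IsPGroup.iff_card.mp h2
  have h8 : 8 ≤ Nat.card S := by
    have h := (commutator S).index_dvd_card
    rw [hidx, he] at h
    have := Nat.le_of_dvd (Nat.two_pow_pos e) h
    rw [he] at h4 ⊢
    rcases Nat.lt_or_ge e 3 with he3 | he3
    · interval_cases e <;> simp_all
    · calc 8 = 2 ^ 3 := by norm_num
        _ ≤ 2 ^ e := Nat.pow_le_pow_right (by norm_num) he3
  refine Cfsg.Agent.Lib.PGroups.taussky h2 h8 hidx fun x => ?_
  have h := hexp (Abelianization.of x)
  rw [← map_pow] at h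
  exact (QuotientGroup.eq_one_iff _).mp h

end Cfsg.Agent.S4399
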