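import Cfsg.Statements.S4400
import Cfsg.Agent.Lib.PGroups.RankFourPair

set_option autoImplicit false
open Cfsg

namespace Cfsg.Agent.S4400

open Cfsg.Agent.Lib.PGroups.RankFourPair


/-- Let S be a finite 2-group of sectional 2-rank at most 4, and let P and Q be normal non-abelian subgroups of S whose centres have order 2 and are different. Then P and Q commute elementwise and intersect trivially, and PQ contains its own centralizer in S. -/
theorem result {S : Type*} [Group S] [Finite S] (h2 : IsPGroup 2 S) (hr : Cfsg.SectionalPRankLE 2 4 S)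
    (P Q : Subgroup S) [P.Normal] [Q.Normal] (hP : ¬ IsMulCommutative ↥P) (hQ : ¬ IsMulCommutative ↥Q)
    (hZP : Nat.card ↥(Subgroup.center ↥P) = 2) (hZQ : Nat.card ↥(Subgroup.center ↥Q) = 2)
    (hne : (Subgroup.center ↥P).map P.subtype ≠ (Subgroup.center ↥Q).map Q.subtype) :
    ⁅P, Q⁆ = ⊥ ∧ P ⊓ Q = ⊥ ∧ Subgroup.centralizer ((P ⊔ Q : Subgroup S) : Set S) ≤ P ⊔ Q := by
  have gP : Good ⊤ P := ⟨le_top, fun k _ x hx => (inferInstance : P.Normal).conj_mem x hx k, hP, hZP⟩
  have gQ : Good ⊤ Q := ⟨le_top, fun k _ x hx => (inferInstance : Q.Normal).conj_mem x hx k, hQ, hZQ⟩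
  obtain ⟨hinf, hc⟩ := gP.commute_inf h2 gQ hne
  refine ⟨?_, hinf, fun g hg => ?_⟩
  · rw [Subgroup.commutator_eq_bot_iff_le_centralizer]
    exact fun x hx y hy => (hc x hx y hy).symm
  · exact gP.centralizer_le h2 hr gQ hne g (Subgroup.mem_top g)
      (fun x hx => (hg x (Subgroup.mem_sup_left hx)).symm)
      (fun y hy => (hg y (Subgroup.mem_sup_right hy)).symm)

end Cfsg.Agent.S4400
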