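import Cfsg.Statements.S4401
import Cfsg.Agent.Lib.PGroups.RankFourPair

set_option autoImplicit false
open Cfsg

namespace Cfsg.Agent.S4401

open Cfsg.Agent.Lib.PGroups.RankFourPair
open Cfsg.Agent.Lib.PGroups.Pronormal (cj cj_mul cj_one cj_iff)


/-- Let S be a finite 2-group of sectional 2-rank at most 4 and P a proper non-abelian subgroup whose centre has order 2. Let S₀ be the centralizer in S of Z(P) and suppose P is normal in S₀. Then either S₀ = S, or P has sectional 2-rank at most 2 and S₀ has index 2 in S. -/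
theorem result {S : Type*} [Group S] [Finite S] (h2 : IsPGroup 2 S) (hr : Cfsg.SectionalPRankLE 2 4 S)
    (P : Subgroup S) (hPlt : P ≠ ⊤) (hP : ¬ IsMulCommutative ↥P) (hZP : Nat.card ↥(Subgroup.center ↥P) = 2)
    (S₀ : Subgroup S) (hS₀ : S₀ = Subgroup.centralizer (((Subgroup.center ↥P).map P.subtype : Subgroup S) : Set S))
    (hPn : ∀ s ∈ S₀, ∀ x ∈ P, s * x * s⁻¹ ∈ P) :
    S₀ = ⊤ ∨ (Cfsg.SectionalPRankLE 2 2 ↥P ∧ S₀.index = 2) := by
  classical
  by_cases htop : S₀ = ⊤
  · exact Or.inl htop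
  right
  haveI : Fact (Nat.Prime 2) := ⟨Nat.prime_two⟩
  -- the central involution of `P`
  obtain ⟨z, hzmem, hz1⟩ : ∃ z ∈ (Subgroup.center ↥P).map P.subtype, z ≠ 1 := by
    refine ((Subgroup.center ↥P).map P.subtype).bot_or_exists_ne_one.resolve_left fun h => ?_
    rw [← Nat.card_congr (Subgroup.equivMapOfInjective _ _ P.subtype_injective).symm.toEquiv, h,
      Subgroup.card_bot] at hZP
    omega
  have hzeq := center_map_eq_zpowers hZP hzmem hz1
  have hS₀' : ∀ s, s ∈ S₀ ↔ s * z = z * s := by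
    intro s
    rw [hS₀, hzeq, Subgroup.mem_centralizer_iff]
    refine ⟨fun h => (h z (Subgroup.mem_zpowers z)).symm, fun h x hx => ?_⟩
    obtain ⟨i, rfl⟩ := hx
    exact ((show Commute s z from h).zpow_right i).eq.symm
  have hPS₀ : P ≤ S₀ := by
    intro x hx
    obtain ⟨a, ha, rfl⟩ := hzmem
    exact (hS₀' x).mpr (congrArg Subtype.val (Subgroup.mem_center_iff.mp ha ⟨x, hx⟩))
  set N := Subgroup.normalizer (S₀ : Set S)
  haveI : Group.IsNilpotent S := h2.isNilpotent
  have hlt : S₀ < N := Group.normalizerCondition_of_isNilpotent S₀ (lt_top_iff_ne_top.mpr htop)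
  obtain ⟨g, hgN, hg⟩ := SetLike.exists_of_lt hlt
  -- conjugates by elements of the normalizer
  have gP : Good S₀ P := ⟨hPS₀, hPn, hP, hZP⟩
  have hnorm : ∀ n ∈ N, ∀ k ∈ S₀, n * k * n⁻¹ ∈ S₀ := fun n hn k hk =>
    (Subgroup.mem_normalizer_iff.mp hn k).mp hk
  have hnorm' : ∀ n ∈ N, ∀ k ∈ S₀, n⁻¹ * k * n ∈ S₀ := fun n hn k hk => by
    simpa using hnorm n⁻¹ (N.inv_mem hn) k hk
  have gcj : ∀ n ∈ N, Good S₀ (cj n P) := by
    intro n hn
    refine ⟨?_, ?_, ?_, ?_⟩
    · rintro _ ⟨x, hx, rfl⟩; exact hnorm n hn x (hPS₀ hx)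
    · rintro k hk _ ⟨x, hx, rfl⟩
      exact ⟨(n⁻¹ * k * n) * x * (n⁻¹ * k * n)⁻¹, hPn _ (hnorm' n hn k hk) x hx,
        by simp [MulAut.conj_apply, mul_assoc]⟩
    · intro h
      refine hP ⟨⟨fun a b => ?_⟩⟩
      let e := Subgroup.equivMapOfInjective P (MulAut.conj n).toMonoidHom (MulEquiv.injective _)
      exact e.injective (by rw [map_mul, map_mul]; exact h.is_comm.comm _ _)
    · rw [Nat.card_congr (Subgroup.centerCongr
        (Subgroup.equivMapOfInjective P (MulAut.conj n).toMonoidHom (MulEquiv.injective _)).symm).toEquiv]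
      exact hZP
  have hcz : ∀ n, n * z * n⁻¹ ∈ (Subgroup.center ↥(cj n P)).map (cj n P).subtype := fun n => by
    rw [center_map_cj]; exact ⟨z, hzmem, rfl⟩
  have hcz1 : ∀ n : S, n * z * n⁻¹ ≠ 1 := fun n h => hz1 (conj_eq_one_iff.mp h)
  have hsame : ∀ n m : S, n * z * n⁻¹ = m * z * m⁻¹ → m⁻¹ * n ∈ S₀ := fun n m h => by
    rw [hS₀']
    calc m⁻¹ * n * z = m⁻¹ * (n * z * n⁻¹) * n := by group
      _ = z * (m⁻¹ * n) := by rw [h]; group
  have hdiff : ∀ n ∈ N, ∀ m ∈ N, m⁻¹ * n ∉ S₀ →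
      (Subgroup.center ↥(cj n P)).map (cj n P).subtype ≠ (Subgroup.center ↥(cj m P)).map (cj m P).subtype :=
    fun n hn m hm hnm h => hnm (hsame n m (center_unique (gcj m hm).card_center (h ▸ hcz n) (hcz m)
      (hcz1 n) (hcz1 m)))
  set Q := cj g P
  have gQ : Good S₀ Q := gcj g hgN
  have hne : (Subgroup.center ↥P).map P.subtype ≠ (Subgroup.center ↥Q).map Q.subtype := by
    intro h
    have := center_unique gQ.card_center (h ▸ hzmem) (hcz g) hz1 (hcz1 g)
    exact hg ((hS₀' g).mpr (by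
      calc g * z = g * z * g⁻¹ * g := by group
        _ = z * g := by rw [← this]))
  refine ⟨gP.rank_le_two h2 hr gQ hne, ?_⟩
  obtain ⟨hinf, hc⟩ := gP.commute_inf h2 gQ hne
  have hsup : ∀ x, x ∈ P ⊔ Q → ∃ a ∈ P, ∃ b ∈ Q, x = a * b := fun x hx => by
    obtain ⟨v, hv⟩ := (mem_sup_iff hc).mp hx
    exact ⟨v.1, v.1.2, v.2, v.2.2, hv.symm⟩
  -- any element of the normalizer moves `z` to one of two places
  have two : ∀ n ∈ N, n ∈ S₀ ∨ g⁻¹ * n ∈ S₀ := by
    intro n hn
    by_contra! hcon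
    have gR := gcj n hn
    obtain ⟨-, hcP⟩ := gR.commute_inf h2 gP (by
      have := hdiff n hn 1 N.one_mem (by simpa using hcon.1)
      rwa [cj_one] at this)
    obtain ⟨-, hcQ⟩ := gR.commute_inf h2 gQ (hdiff n hn g hgN hcon.2)
    have hle : ∀ r ∈ cj n P, r ∈ P ⊔ Q := fun r hr' =>
      gP.centralizer_le h2 hr gQ hne r (gR.le hr') (hcP r hr') (hcQ r hr')
    refine gR.nonabelian ⟨⟨fun a b => Subtype.ext ?_⟩⟩
    obtain ⟨x, hx, y, hy, hxy⟩ := hsup b (hle b b.2)
    show (a : S) * b = b * a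
    rw [hxy, ← mul_assoc, hcP a a.2 x hx, mul_assoc, hcQ a a.2 y hy, ← mul_assoc]
  set z' := g * z * g⁻¹
  have hrel : S₀.relIndex N = 2 := by
    show (S₀.subgroupOf N).index = 2
    rw [Subgroup.index_eq_two_iff]
    refine ⟨⟨g⁻¹, N.inv_mem hgN⟩, fun b => ?_⟩
    simp only [Subgroup.mem_subgroupOf, Subgroup.coe_mul]
    rcases two b b.2 with h | h
    · refine Or.inr ⟨h, fun h' => hg ?_⟩
      simpa using S₀.inv_mem (S₀.mul_mem (S₀.inv_mem h) h')
    · refine Or.inl ⟨?_, fun h' => hg ?_⟩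
      · have h1 := hnorm g hgN _ h
        have e : g * (g⁻¹ * (b : S)) * g⁻¹ = b * g⁻¹ := by group
        rwa [e] at h1
      · simpa using S₀.mul_mem h' (S₀.inv_mem h)
  have hNtop : N = ⊤ := by
    by_contra hN
    have hlt' : N < Subgroup.normalizer (N : Set S) :=
      Group.normalizerCondition_of_isNilpotent N (lt_top_iff_ne_top.mpr hN)
    obtain ⟨h, hhN, hh⟩ := SetLike.exists_of_lt hlt'
    have hle : S₀ ≤ N := Subgroup.le_normalizer
    have hz0 : z ∈ S₀ := (hS₀' z).mpr rfl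
    have hz'0 : z' ∈ S₀ := hnorm g hgN z hz0
    have hmove : ∀ n ∈ N, n * z * n⁻¹ = z ∨ n * z * n⁻¹ = z' := by
      intro n hn
      rcases two n hn with h' | h'
      · exact Or.inl (by rw [(hS₀' n).mp h', mul_inv_cancel_right])
      · right
        show _ = g * z * g⁻¹
        calc n * z * n⁻¹ = g * ((g⁻¹ * n) * z) * (g⁻¹ * n)⁻¹ * g⁻¹ := by group
          _ = _ := by rw [(hS₀' _).mp h']; group
    have hg2 : g * g ∈ S₀ := by
      rcases two (g * g) (N.mul_mem hgN hgN) with h' | h'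
      · exact h'
      · rw [inv_mul_cancel_left] at h'; exact absurd h' hg
    have hgz' : g * z' * g⁻¹ = z := by
      show g * (g * z * g⁻¹) * g⁻¹ = z
      calc g * (g * z * g⁻¹) * g⁻¹ = (g * g * z) * (g * g)⁻¹ := by group
        _ = z := by rw [(hS₀' _).mp hg2, mul_inv_cancel_right]
    have hzz' : z * z' = z' * z := ((hS₀' z').mp hz'0).symm
    have hswap : ∀ n ∈ N, (n * z * n⁻¹ = z ∧ n * z' * n⁻¹ = z') ∨ (n * z * n⁻¹ = z' ∧ n * z' * n⁻¹ = z) := by
      intro n hn
      have key : n * z' * n⁻¹ = (n * g) * z * (n * g)⁻¹ := by show n * (g * z * g⁻¹) * n⁻¹ = _; group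
      have hne' : n * z * n⁻¹ ≠ n * z' * n⁻¹ := fun e => hg ((hS₀' g).mpr (by
        have e' : z = g * z * g⁻¹ := by
          calc z = n⁻¹ * (n * z * n⁻¹) * n := by group
            _ = n⁻¹ * (n * z' * n⁻¹) * n := by rw [e]
            _ = g * z * g⁻¹ := by show n⁻¹ * (n * (g * z * g⁻¹) * n⁻¹) * n = _; group
        calc g * z = g * z * g⁻¹ * g := by group
          _ = z * g := by rw [← e']))
      rcases hmove n hn with a | a <;> rcases hmove (n * g) (N.mul_mem hn hgN) with b | b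
      · exact absurd (a.trans (key.trans b).symm) hne'
      · exact Or.inl ⟨a, key.trans b⟩
      · exact Or.inr ⟨a, key.trans b⟩
      · exact absurd (a.trans (key.trans b).symm) hne'
    have hfixc : ∀ n ∈ N, n * (z * z') * n⁻¹ = z * z' := fun n hn => by
      have e : n * (z * z') * n⁻¹ = (n * z * n⁻¹) * (n * z' * n⁻¹) := by group
      rw [e]
      rcases hswap n hn with ⟨a, b⟩ | ⟨a, b⟩ <;> rw [a, b]
      exact hzz'.symm
    -- central elements of the normalizer
    have hcent : ∀ x ∈ N, (∀ n ∈ N, n * x * n⁻¹ = x) → x = 1 ∨ x = z * z' := by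
      intro x hxN hx
      have hxS : x ∈ S₀ := (hS₀' x).mpr (mul_inv_eq_iff_eq_mul.mp (hx z (hle hz0))).symm
      have hxP : ∀ a ∈ P, x * a = a * x := fun a ha => (mul_inv_eq_iff_eq_mul.mp (hx a (hle (hPS₀ ha)))).symm
      have hxQ : ∀ b ∈ Q, x * b = b * x := fun b hb => (mul_inv_eq_iff_eq_mul.mp (hx b (hle (gQ.le hb)))).symm
      obtain ⟨a, ha, b, hb, rfl⟩ := hsup x (gP.centralizer_le h2 hr gQ hne x hxS hxP hxQ)
      have haZ : a = 1 ∨ a = z := by
        have : a ∈ (Subgroup.center ↥P).map P.subtype := ⟨⟨a, ha⟩, Subgroup.mem_center_iff.mpr fun r =>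
          Subtype.ext (by
            show (r : S) * a = a * r
            have h1 := hxP r r.2
            rw [mul_assoc, ← hc r r.2 b hb, ← mul_assoc, ← mul_assoc] at h1
            exact (mul_right_cancel h1).symm), rfl⟩
        by_cases h1 : a = 1
        · exact Or.inl h1
        · exact Or.inr (center_unique hZP this hzmem h1 hz1)
      have hbZ : b = 1 ∨ b = z' := by
        have : b ∈ (Subgroup.center ↥Q).map Q.subtype := ⟨⟨b, hb⟩, Subgroup.mem_center_iff.mpr fun r =>
          Subtype.ext (by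
            show (r : S) * b = b * r
            have h1 := hxQ r r.2
            rw [← mul_assoc, ← hc a ha r r.2, mul_assoc, mul_assoc] at h1
            exact (mul_left_cancel h1).symm), rfl⟩
        by_cases h1 : b = 1
        · exact Or.inl h1
        · exact Or.inr (center_unique gQ.card_center this (hcz g) h1 (hcz1 g))
      have hzne : z ≠ z' := fun e => hg ((hS₀' g).mpr (by
        calc g * z = g * z * g⁻¹ * g := by group
          _ = z * g := by rw [show g * z * g⁻¹ = z from e.symm]))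
      rcases haZ with rfl | rfl <;> rcases hbZ with rfl | rfl
      · exact Or.inl (one_mul 1)
      · exfalso
        rw [one_mul] at hx
        exact hzne (hgz'.symm.trans (hx g hgN))
      · exfalso
        rw [mul_one] at hx
        exact hzne (hx g hgN).symm
      · exact Or.inr rfl
    set w := h * z * h⁻¹
    set w' := h * z' * h⁻¹
    have hhn : ∀ n ∈ N, h * n * h⁻¹ ∈ N := fun n hn => (Subgroup.mem_normalizer_iff.mp hhN n).mp hn
    have hhn' : ∀ n ∈ N, h⁻¹ * n * h ∈ N := fun n hn => by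
      simpa using (Subgroup.mem_normalizer_iff.mp (Subgroup.inv_mem _ hhN) n).mp hn
    have hwN : w ∈ N := hhn z (hle hz0)
    have hzz1 : z * z' ≠ 1 := fun e => by
      have hzP : z ∈ P ⊓ Q := ⟨by obtain ⟨a, -, rfl⟩ := hzmem; exact a.2, by
        rw [eq_inv_of_mul_eq_one_left e]
        exact Q.inv_mem ⟨z, by obtain ⟨a, -, rfl⟩ := hzmem; exact a.2, rfl⟩⟩
      rw [hinf, Subgroup.mem_bot] at hzP
      exact hz1 hzP
    have hww : w * w' = z * z' := by
      have e : w * w' = h * (z * z') * h⁻¹ := by show h * z * h⁻¹ * (h * z' * h⁻¹) = _; group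
      rw [e]
      rcases hcent (h * (z * z') * h⁻¹) (hhn _ (hle (mul_mem hz0 hz'0))) (fun n hn => by
        calc n * (h * (z * z') * h⁻¹) * n⁻¹ = h * ((h⁻¹ * n * h) * (z * z') * (h⁻¹ * n * h)⁻¹) * h⁻¹ := by group
          _ = _ := by rw [hfixc _ (hhn' n hn)]) with h1 | h1
      · exact absurd (conj_eq_one_iff.mp h1) hzz1
      · exact h1
    have hwmove : ∀ x ∈ N, x * w * x⁻¹ = w ∨ x * w * x⁻¹ = w' := by
      intro x hx
      have e : x * w * x⁻¹ = h * ((h⁻¹ * x * h) * z * (h⁻¹ * x * h)⁻¹) * h⁻¹ := by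
        show x * (h * z * h⁻¹) * x⁻¹ = _; group
      rw [e]
      rcases hmove _ (hhn' x hx) with a | a <;> rw [a]
      · exact Or.inl rfl
      · exact Or.inr rfl
    have hz2 : z * z = 1 := by
      obtain ⟨a, ha, rfl⟩ := hzmem
      have h1 : (⟨a, ha⟩ : Subgroup.center ↥P) ^ 2 = 1 := by rw [← hZP]; exact pow_card_eq_one'
      have h2' := congrArg (fun y : Subgroup.center ↥P => ((y : ↥P) : S)) h1
      simpa [pow_two] using h2'
    have hw2 : w * w = 1 := by
      show h * z * h⁻¹ * (h * z * h⁻¹) = 1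
      rw [show h * z * h⁻¹ * (h * z * h⁻¹) = h * (z * z) * h⁻¹ by group, hz2]; group
    have hcomm : ∀ x ∈ N, x * w * x⁻¹ * w⁻¹ = 1 ∨ x * w * x⁻¹ * w⁻¹ = z * z' := by
      intro x hx
      rcases hwmove x hx with a | a <;> rw [a]
      · exact Or.inl (mul_inv_cancel w)
      · right
        have hww' : w * w' = w' * w := by
          show h * z * h⁻¹ * (h * z' * h⁻¹) = h * z' * h⁻¹ * (h * z * h⁻¹)
          rw [show h * z * h⁻¹ * (h * z' * h⁻¹) = h * (z * z') * h⁻¹ by group, hzz']; group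
        rw [← hww, hww', inv_eq_of_mul_eq_one_right hw2]
    by_cases hw0 : w ∈ S₀
    · have hfree : ∀ R : Subgroup S, Good S₀ R → z * z' ∉ R → ∀ x ∈ R, w * x = x * w := by
        intro R gR hnR x hx
        rcases hcomm x (hle (gR.le hx)) with a | a
        · exact (mul_inv_eq_iff_eq_mul.mp (by
            calc x * w * x⁻¹ = x * w * x⁻¹ * w⁻¹ * w := by group
              _ = w := by rw [a, one_mul])).symm
        · exfalso
          apply hnR
          rw [← a, show x * w * x⁻¹ * w⁻¹ = x * (w * x⁻¹ * w⁻¹) by group]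
          exact R.mul_mem hx (gR.normal w hw0 _ (R.inv_mem hx))
      have hzP : z ∈ P := by obtain ⟨a, -, rfl⟩ := hzmem; exact a.2
      have hz'Q : z' ∈ Q := ⟨z, hzP, rfl⟩
      have hnP : z * z' ∉ P := fun hm => by
        have : z' ∈ P ⊓ Q := ⟨by simpa using P.mul_mem (P.inv_mem hzP) hm, hz'Q⟩
        rw [hinf, Subgroup.mem_bot] at this
        exact hcz1 g this
      have hnQ : z * z' ∉ Q := fun hm => by
        have : z ∈ P ⊓ Q := ⟨hzP, by simpa using Q.mul_mem hm (Q.inv_mem hz'Q)⟩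
        rw [hinf, Subgroup.mem_bot] at this
        exact hz1 this
      obtain ⟨a, ha, b, hb, hab⟩ := hsup w (gP.centralizer_le h2 hr gQ hne w hw0
        (hfree P gP hnP) (hfree Q gQ hnQ))
      have haZ : a ∈ (Subgroup.center ↥P).map P.subtype := ⟨⟨a, ha⟩, Subgroup.mem_center_iff.mpr fun r =>
        Subtype.ext (by
          show (r : S) * a = a * r
          have h1 := hfree P gP hnP r r.2
          rw [hab, mul_assoc, ← hc r r.2 b hb, ← mul_assoc, ← mul_assoc] at h1
          exact (mul_right_cancel h1).symm), rfl⟩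
      have hbZ : b ∈ (Subgroup.center ↥Q).map Q.subtype := ⟨⟨b, hb⟩, Subgroup.mem_center_iff.mpr fun r =>
        Subtype.ext (by
          show (r : S) * b = b * r
          have h1 := hfree Q gQ hnQ r r.2
          rw [hab, ← mul_assoc, ← hc a ha r r.2, mul_assoc, mul_assoc] at h1
          exact (mul_left_cancel h1).symm), rfl⟩
      have hw1 : w ≠ 1 := hcz1 h
      have hnot : ∀ n ∈ N, w = n * z * n⁻¹ → False := fun n hn e => hh (by
        have h1 := hle (hsame h n e)
        simpa using N.mul_mem hn h1)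
      by_cases ha1 : a = 1 <;> by_cases hb1 : b = 1
      · exact hw1 (by rw [hab, ha1, hb1, one_mul])
      · refine hnot g hgN ?_
        rw [hab, ha1, one_mul, center_unique gQ.card_center hbZ (hcz g) hb1 (hcz1 g)]
      · refine hnot 1 N.one_mem ?_
        rw [hab, hb1, mul_one, center_unique hZP haZ hzmem ha1 hz1]; group
      · have hwzz : w = z * z' := by
          rw [hab, center_unique hZP haZ hzmem ha1 hz1, center_unique gQ.card_center hbZ (hcz g) hb1 (hcz1 g)]
        refine hnot 1 N.one_mem ?_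
        have h2' := hfixc (h⁻¹ * g * h) (hhn' g hgN)
        have e1 : h⁻¹ * (z * z') * h = z := by
          rw [← hwzz]; show h⁻¹ * (h * z * h⁻¹) * h = z; group
        have e2 : g * z * g⁻¹ = z := by
          conv_lhs => rw [← e1]
          calc g * (h⁻¹ * (z * z') * h) * g⁻¹ = h⁻¹ * ((h * g * h⁻¹) * (z * z') * (h * g * h⁻¹)⁻¹) * h := by group
            _ = h⁻¹ * (z * z') * h := by rw [hfixc _ (hhn g hgN)]
            _ = z := e1
        exact absurd ((hS₀' g).mpr (mul_inv_eq_iff_eq_mul.mp e2)) hg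
    · have hsw : g⁻¹ * w ∈ S₀ := (two w hwN).resolve_left hw0
      refine hP ⟨⟨fun a b => Subtype.ext ?_⟩⟩
      have hall : ∀ x ∈ P, x = 1 ∨ x = z := by
        intro x hx
        have hq : w * x⁻¹ * w⁻¹ ∈ Q := by
          refine ⟨(g⁻¹ * w) * x⁻¹ * (g⁻¹ * w)⁻¹, hPn _ hsw _ (P.inv_mem hx), ?_⟩
          simp [MulAut.conj_apply, mul_assoc]
        rcases hcomm x (hle (hPS₀ hx)) with e | e
        · left
          have : x ∈ P ⊓ Q := ⟨hx, by
            rw [eq_inv_of_mul_eq_one_left (show x * (w * x⁻¹ * w⁻¹) = 1 by rw [← e]; group)]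
            exact Q.inv_mem hq⟩
          rwa [hinf, Subgroup.mem_bot] at this
        · right
          have hzP : z ∈ P := by obtain ⟨a, -, rfl⟩ := hzmem; exact a.2
          have hz'Q : z' ∈ Q := ⟨z, hzP, rfl⟩
          have h1 := prodHom_injective hc hinf (a₁ := (⟨x, hx⟩, ⟨_, hq⟩)) (a₂ := (⟨z, hzP⟩, ⟨z', hz'Q⟩))
            (by show x * (w * x⁻¹ * w⁻¹) = z * z'; rw [← e]; group)
          exact congrArg (fun v : ↥P × ↥Q => (v.1 : S)) h1
      show (a : S) * b = b * a
      rcases hall a a.2 with e | e <;> rcases hall b b.2 with e' | e' <;> simp [e, e']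
  have := Subgroup.relIndex_mul_index (H := S₀) (K := N) Subgroup.le_normalizer
  rw [hrel, hNtop, Subgroup.index_top, mul_one] at this
  exact this.symm

end Cfsg.Agent.S4401
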