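import Cfsg.Statements.S4403
import Cfsg.Agent.Lib.Cores.Fitting
import Cfsg.Agent.Lib.Components.GenFitting
import Cfsg.Agent.Lib.Components.Quasisimple
import Cfsg.Agent.Lib.Cores.PCore
import Cfsg.Agent.Lib.Transfer.Frobenius
import Cfsg.Agent.Lib.Coprime.Basic
import Cfsg.Agent.Lib.PGroups.Subnormal
import Mathlib

set_option autoImplicit false
open Cfsg

namespace Cfsg.Agent.S4403

open Pointwise
open Cfsg.Agent.Lib

universe u

variable {G : Type u} [Group G] [Finite G] {p : ℕ} [Fact p.Prime]

theorem conj_pow_nat (y g : G) {i : ℕ} (h : y * g * y⁻¹ = g ^ i) :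
    ∀ n : ℕ, y ^ n * g * (y ^ n)⁻¹ = g ^ i ^ n := by
  intro n
  induction n with
  | zero => simp
  | succ n ih =>
    calc y ^ (n + 1) * g * (y ^ (n + 1))⁻¹ = y * (y ^ n * g * (y ^ n)⁻¹) * y⁻¹ := by rw [pow_succ']; group
      _ = (y * g * y⁻¹) ^ i ^ n := by rw [ih, conj_pow]
      _ = g ^ i ^ (n + 1) := by rw [h, ← pow_mul, pow_succ']

/-- An element normalizing a cyclic Sylow subgroup and fixing one of its non-identity elements
centralizes it. -/
theorem centralizes (P : Sylow p G) (hP : IsCyclic (P : Subgroup G)) {y : G}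
    (hy : y ∈ Subgroup.normalizer ((P : Subgroup G) : Set G)) {z : G} (hz : z ∈ (P : Subgroup G))
    (hz1 : z ≠ 1) (hyz : Commute y z) : y ∈ Subgroup.centralizer ((P : Subgroup G) : Set G) := by
  have hp : p.Prime := Fact.out
  obtain ⟨g, hg⟩ := hP.exists_generator
  obtain ⟨i, hi⟩ : ∃ i : ℕ, (g : G) ^ i = y * g * y⁻¹ := by
    obtain ⟨i, hi⟩ := Submonoid.mem_powers_iff _ _ |>.mp (mem_powers_iff_mem_zpowers.mpr
      (hg ⟨y * g * y⁻¹, (Subgroup.mem_set_normalizer_iff.mp hy g).mp g.2⟩))
    exact ⟨i, by simpa using congrArg Subtype.val hi⟩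
  obtain ⟨k, hk⟩ : ∃ k : ℕ, (g : G) ^ k = z := by
    obtain ⟨k, hk⟩ := Submonoid.mem_powers_iff _ _ |>.mp (mem_powers_iff_mem_zpowers.mpr (hg ⟨z, hz⟩))
    exact ⟨k, by simpa using congrArg Subtype.val hk⟩
  obtain ⟨m, hm⟩ := IsPGroup.iff_orderOf.mp P.2 g
  rw [← Subgroup.orderOf_coe] at hm
  have hcong : i * k ≡ k [MOD p ^ m] := by
    rw [← hm, ← pow_eq_pow_iff_modEq, pow_mul, hi, conj_pow, hk, hyz.eq, mul_inv_cancel_right]
  have hd : (p : ℤ) ∣ (i : ℤ) - 1 := by
    have h1 : ((p : ℤ) ^ m) ∣ ((i : ℤ) - 1) * k := by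
      have h := (Nat.modEq_iff_dvd.mp hcong.symm)
      push_cast at h
      rwa [show ((i : ℤ) - 1) * k = i * k - k by ring]
    by_contra hd
    have h2 : ((p : ℤ) ^ m) ∣ (k : ℤ) :=
      (((Nat.prime_iff_prime_int.mp hp).coprime_iff_not_dvd.mpr hd).pow_left).dvd_of_dvd_mul_left h1
    have h3 : p ^ m ∣ k := by exact_mod_cast h2
    exact hz1 (by rw [← hk]; exact orderOf_dvd_iff_pow_eq_one.mp (hm ▸ h3))
  have h1 : Commute (y ^ p ^ m) (g : G) := by
    have hmod : i ^ p ^ m ≡ 1 [MOD p ^ m] := by
      refine (Nat.modEq_iff_dvd.mpr ?_).symm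
      push_cast
      have := dvd_sub_pow_of_dvd_sub (R := ℤ) hd m
      rw [one_pow] at this
      exact (pow_dvd_pow _ m.le_succ).trans this
    have := conj_pow_nat y g hi.symm (p ^ m)
    have e : (g : G) ^ i ^ p ^ m = g := by
      conv_rhs => rw [← pow_one (g : G)]
      exact pow_eq_pow_iff_modEq.mpr (by rw [hm]; exact hmod)
    rw [e] at this
    exact mul_inv_eq_iff_eq_mul.mp this
  have h2 : Commute (y ^ (P : Subgroup G).index) (g : G) := by
    set x := y ^ (P : Subgroup G).index with hx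
    have hxp : IsPGroup p (Subgroup.zpowers x) := by
      obtain ⟨a, ha⟩ := IsPGroup.iff_card.mp P.2
      have h1 : x ^ p ^ a = 1 := by
        rw [hx, ← pow_mul, ← ha, (P : Subgroup G).index_mul_card, pow_card_eq_one']
      obtain ⟨b, -, hb⟩ := (Nat.dvd_prime_pow hp).mp (orderOf_dvd_of_pow_eq_one h1)
      exact IsPGroup.of_card (n := b) (by rw [Nat.card_zpowers, hb])
    have h3 : x ∈ Subgroup.zpowers x ⊓ Subgroup.normalizer ((P : Subgroup G) : Set G) :=
      ⟨Subgroup.mem_zpowers x, Subgroup.pow_mem _ hy _⟩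
    replace h3 : x ∈ Subgroup.zpowers x ⊓ (P : Subgroup G) := (hxp.inf_normalizer_sylow P).le h3
    haveI := hP
    letI := IsCyclic.commGroup (α := (P : Subgroup G))
    exact congrArg Subtype.val (mul_comm (⟨x, h3.2⟩ : (P : Subgroup G)) g)
  have hcop : Nat.Coprime (p ^ m) (P : Subgroup G).index :=
    Nat.Coprime.pow_left m (hp.coprime_iff_not_dvd.mpr P.not_dvd_index)
  have hb := Nat.gcd_eq_gcd_ab (p ^ m) (P : Subgroup G).index
  rw [hcop.gcd_eq_one] at hb
  have e : y = (y ^ p ^ m) ^ Nat.gcdA (p ^ m) (P : Subgroup G).index *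
      (y ^ (P : Subgroup G).index) ^ Nat.gcdB (p ^ m) (P : Subgroup G).index := by
    rw [← zpow_natCast y (p ^ m), ← zpow_natCast y (P : Subgroup G).index, ← zpow_mul, ← zpow_mul,
      ← zpow_add, ← hb, Nat.cast_one, zpow_one]
  have hcy : Commute y (g : G) := by rw [e]; exact (h1.zpow_left _).mul_left (h2.zpow_left _)
  refine Subgroup.mem_centralizer_iff.mpr fun v hv => ?_
  obtain ⟨j, hj⟩ := Subgroup.mem_zpowers_iff.mp (hg ⟨v, hv⟩)
  have hv' : (g : G) ^ j = v := by simpa using congrArg Subtype.val hj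
  rw [← hv']
  exact ((hcy.zpow_right j).eq).symm

/-- If an element of a cyclic Sylow subgroup is central there is a normal complement. -/
theorem central_complement (P : Sylow p G) (hP : IsCyclic (P : Subgroup G)) {z : G}
    (hz : z ∈ (P : Subgroup G)) (hz1 : z ≠ 1) (hzc : ∀ g : G, Commute g z) :
    Cfsg.HasNormalPComplement p G :=
  Transfer.hasNormalPComplement_of_normalizer_le_centralizer P fun y hy =>
    centralizes P hP hy hz hz1 (hzc y)

theorem main {K : Type u} [Group K] [Finite K] (hp : p ∣ Nat.card K) (hO : Cfsg.pPrimeCore p K = ⊥)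
    (P : Sylow p K) (hP : IsCyclic ↥(P : Subgroup K)) :
    ((P : Subgroup K).Normal ∧ Subgroup.centralizer ((P : Subgroup K) : Set K) = (P : Subgroup K) ∧
      (∀ (_ : (P : Subgroup K).Normal), IsCyclic (K ⧸ (P : Subgroup K))) ∧ (P : Subgroup K).index ∣ p - 1) ∨
    (IsSimpleGroup ↥(Cfsg.generalizedFittingSubgroup K) ∧ ¬ IsMulCommutative ↥(Cfsg.generalizedFittingSubgroup K) ∧
      ¬ p ∣ (Cfsg.generalizedFittingSubgroup K).index) := by
  classical
  have hpp : p.Prime := Fact.out
  obtain ⟨z₀, hz₀⟩ := exists_prime_orderOf_dvd_card' (G := (P : Subgroup K)) p (P.dvd_card_of_dvd_card hp)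
  have hzP : (z₀ : K) ∈ (P : Subgroup K) := z₀.2
  have hz₀' : orderOf (z₀ : K) = p := (Subgroup.orderOf_coe z₀).trans hz₀
  have hzpow : z₀ ^ p = 1 := orderOf_dvd_iff_pow_eq_one.mp (dvd_of_eq hz₀)
  have hzpow' : (z₀ : K) ^ p = 1 := orderOf_dvd_iff_pow_eq_one.mp (dvd_of_eq hz₀')
  have hz1 : (z₀ : K) ≠ 1 := fun h => by
    rw [show z₀ = 1 from Subtype.ext h, orderOf_one] at hz₀; exact hpp.one_lt.ne hz₀
  -- every element of order `p` is conjugate into `⟨z₀⟩`
  have huniq : ∀ x ∈ (P : Subgroup K), x ^ p = 1 → x ∈ Subgroup.zpowers (z₀ : K) := by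
    intro x hx hxp
    haveI := Fintype.ofFinite (P : Subgroup K)
    set S := (Finset.univ.filter fun a : (P : Subgroup K) => a ^ p = 1) with hS
    have hsub : (Finset.univ.filter fun a : (P : Subgroup K) => a ∈ Subgroup.zpowers z₀) ⊆ S := by
      intro a ha
      simp only [hS, Finset.mem_filter, Finset.mem_univ, true_and] at ha ⊢
      obtain ⟨j, rfl⟩ := Subgroup.mem_zpowers_iff.mp ha
      rw [← zpow_natCast, zpow_comm, zpow_natCast, hzpow, one_zpow]
    have heq := Finset.eq_of_subset_of_card_le hsub (by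
      refine (IsCyclic.card_pow_eq_one_le hpp.pos).trans (le_of_eq ?_)
      refine hz₀.symm.trans ?_
      rw [← Nat.card_zpowers, Nat.card_eq_fintype_card, Fintype.card_subtype])
    have hxS : (⟨x, hx⟩ : (P : Subgroup K)) ∈ S := by
      simp only [hS, Finset.mem_filter, Finset.mem_univ, true_and]
      exact Subtype.ext hxp
    rw [← heq, Finset.mem_filter] at hxS
    obtain ⟨j, hj⟩ := Subgroup.mem_zpowers_iff.mp hxS.2
    exact Subgroup.mem_zpowers_iff.mpr ⟨j, by simpa using congrArg Subtype.val hj⟩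
  have hconj : ∀ x : K, orderOf x = p → ∃ g : K, g * x * g⁻¹ ∈ Subgroup.zpowers (z₀ : K) := by
    intro x hx
    obtain ⟨Q, hQ⟩ := (IsPGroup.of_card (n := 1) (by rw [Nat.card_zpowers, hx, pow_one]) :
      IsPGroup p (Subgroup.zpowers x)).exists_le_sylow
    obtain ⟨g, hg⟩ := MulAction.exists_smul_eq K Q P
    refine ⟨g, huniq _ ?_ ?_⟩
    · rw [← hg]
      show g * x * g⁻¹ ∈ ((g • Q : Sylow p K) : Subgroup K)
      rw [Sylow.coe_subgroup_smul]
      exact Coprime.mem_conj_smul.mpr (by simpa [mul_assoc] using hQ (Subgroup.mem_zpowers x))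
    · rw [conj_pow, ← hx, pow_orderOf_eq_one, mul_one, mul_inv_cancel]
  have hgen : ∀ v ∈ Subgroup.zpowers (z₀ : K), v ≠ 1 → (z₀ : K) ∈ Subgroup.zpowers v := by
    intro v hv hv1
    have hc : Nat.card (Subgroup.zpowers (z₀ : K)) = p := by
      rw [Nat.card_zpowers, Subgroup.orderOf_coe, hz₀]
    have hle : Subgroup.zpowers v ≤ Subgroup.zpowers (z₀ : K) := Subgroup.zpowers_le.mpr hv
    rcases (Nat.dvd_prime hpp).mp (hc ▸ Subgroup.card_dvd_of_le hle) with h | h
    · rw [Nat.card_zpowers, orderOf_eq_one_iff] at h; exact absurd h hv1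
    · rw [Subgroup.eq_of_le_of_card_ge hle (hc.trans h.symm).le]
      exact Subgroup.mem_zpowers _
  -- a normal subgroup of order divisible by `p` contains `z₀`
  have hzN : ∀ N : Subgroup K, N.Normal → p ∣ Nat.card N → (z₀ : K) ∈ N := by
    intro N hN hd
    obtain ⟨x, hx⟩ := exists_prime_orderOf_dvd_card' (G := N) p hd
    rw [← Subgroup.orderOf_coe] at hx
    obtain ⟨g, hg⟩ := hconj x hx
    have hv1 : g * (x : K) * g⁻¹ ≠ 1 := fun h => by
      rw [conj_eq_one_iff] at h
      rw [h, orderOf_one] at hx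
      exact hpp.one_lt.ne hx
    exact (Subgroup.zpowers_le.mpr (hN.conj_mem x x.2 g)) (hgen _ hg hv1)
  by_cases hQ : Cfsg.pCore p K = ⊥
  swap
  · -- the `p`-solvable case
    left
    set Q := Cfsg.pCore p K with hQdef
    haveI hQn : Q.Normal := Cfsg.pCore_normal p K
    obtain ⟨q, hq, hq1⟩ := Q.bot_or_exists_ne_one.resolve_left hQ
    have hQP : Q ≤ (P : Subgroup K) := Cores.pCore_le_sylow P
    set C := Subgroup.centralizer (Q : Set K) with hC
    have hPC : (P : Subgroup K) ≤ C := by
      haveI := hP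
      letI := IsCyclic.commGroup (α := (P : Subgroup K))
      intro x hx
      exact Subgroup.mem_centralizer_iff.mpr fun v hv =>
        congrArg Subtype.val (mul_comm (⟨v, hQP hv⟩ : (P : Subgroup K)) ⟨x, hx⟩)
    have hCP : C = (P : Subgroup K) := by
      have hpc := central_complement (P.subtype hPC) (by
        rw [Sylow.coe_subtype]
        haveI := hP
        exact isCyclic_of_surjective (Subgroup.subgroupOfEquivOfLe hPC).symm.toMonoidHom (MulEquiv.surjective _))
        (z := ⟨q, hPC (hQP hq)⟩) (by rw [Sylow.coe_subtype]; exact hQP hq)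
        (fun h => hq1 (congrArg Subtype.val h))
        (fun g => Subtype.ext (Subgroup.mem_centralizer_iff.mp g.2 q hq).symm)
      haveI : (Cfsg.pResidual p C).Characteristic :=
        Subgroup.characteristic_iff_map_eq.mpr fun e =>
          Transfer.pResidual_map_of_surjective e.toMonoidHom e.surjective
      have hW : (Cfsg.pResidual p C).map C.subtype ≤ Cfsg.pPrimeCore p K :=
        Cores.le_pPrimeCore (Cores.normal_map_subtype_of_char C _) (by
          rw [Subgroup.card_map_of_injective C.subtype_injective]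
          exact Transfer.hasNormalPComplement_iff_coprime.mp hpc)
      rw [hO, le_bot_iff, Subgroup.map_eq_bot_iff_of_injective _ C.subtype_injective] at hW
      obtain ⟨a, ha⟩ := Transfer.exists_index_pResidual (G := C) (p := p)
      rw [hW, Subgroup.index_bot] at ha
      exact P.3 (IsPGroup.of_card ha) hPC
    have hPn : (P : Subgroup K).Normal := by rw [← hCP]; infer_instance
    have hself : Subgroup.centralizer ((P : Subgroup K) : Set K) = (P : Subgroup K) := by
      refine le_antisymm ?_ ?_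
      · exact (Subgroup.centralizer_le hQP).trans hCP.le
      · haveI := hP
        letI := IsCyclic.commGroup (α := (P : Subgroup K))
        intro x hx
        exact Subgroup.mem_centralizer_iff.mpr fun v hv =>
          congrArg Subtype.val (mul_comm (⟨v, hv⟩ : (P : Subgroup K)) ⟨x, hx⟩)
    set Z := Subgroup.zpowers (z₀ : K) with hZ
    haveI hZn : Z.Normal := ⟨fun v hv g => huniq _ (hPn.conj_mem v (Subgroup.zpowers_le.mpr hzP hv) g) (by
      obtain ⟨j, rfl⟩ := Subgroup.mem_zpowers_iff.mp hv
      rw [conj_pow, ← zpow_natCast ((z₀ : K) ^ j), ← zpow_mul, mul_comm, zpow_mul, zpow_natCast,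
        hzpow', one_zpow, mul_one, mul_inv_cancel])⟩
    have hker : (MulAut.conjNormal : K →* MulAut Z).ker = (P : Subgroup K) := by
      ext y
      constructor
      · intro hy
        have h := congrArg (fun θ : MulAut Z => ((θ ⟨z₀, Subgroup.mem_zpowers _⟩ : Z) : K)) hy
        simp only [MulAut.conjNormal_apply, MulAut.one_apply] at h
        rw [← hself]
        exact centralizes P hP (by rw [Subgroup.normalizer_eq_top_iff.mpr hPn]; exact Subgroup.mem_top y)
          hzP hz1 (mul_inv_eq_iff_eq_mul.mp h)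
      · intro hy
        refine MulEquiv.ext fun v => Subtype.ext ?_
        show y * (v : K) * y⁻¹ = v
        rw [← hself] at hy
        rw [← Subgroup.mem_centralizer_iff.mp hy v (Subgroup.zpowers_le.mpr hzP v.2), mul_inv_cancel_right]
    have hZc : Nat.card Z = p := by rw [hZ, Nat.card_zpowers, Subgroup.orderOf_coe, hz₀]
    haveI : Fact (Nat.card Z).Prime := ⟨hZc.symm ▸ hpp⟩
    haveI : IsCyclic Z := Subgroup.isCyclic_zpowers _
    let f : K →* (ZMod (Nat.card Z))ˣ :=
      (IsCyclic.mulAutMulEquiv Z).toMonoidHom.comp MulAut.conjNormal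
    have hfker : f.ker = (P : Subgroup K) := by
      rw [← hker]; ext y; simp [f, MonoidHom.mem_ker]
    refine ⟨hPn, hself, fun h => ?_, ?_⟩
    · haveI := h
      exact isCyclic_of_injective ((QuotientGroup.kerLift f).comp
        (QuotientGroup.quotientMulEquivOfEq hfker.symm).toMonoidHom)
        ((QuotientGroup.kerLift_injective f).comp (MulEquiv.injective _))
    · rw [← hfker, Subgroup.index_ker]
      refine (Subgroup.card_subgroup_dvd_card _).trans (dvd_of_eq ?_)
      rw [Nat.card_eq_fintype_card, ZMod.card_units, hZc]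
  · -- the non-`p`-solvable case
    right
    haveI : Nontrivial K := ⟨⟨_, _, hz1⟩⟩
    set N := Subgroup.normalClosure ({(z₀ : K)} : Set K) with hN
    haveI hNn : N.Normal := Subgroup.normalClosure_normal
    have hz₀N : (z₀ : K) ∈ N := Subgroup.subset_normalClosure rfl
    have hmin : ∀ W : Subgroup K, W.Normal → W ≠ ⊥ → N ≤ W := by
      intro W hW hW1
      by_cases hd : p ∣ Nat.card W
      · haveI := hW
        exact Subgroup.normalClosure_le_normal fun v hv => by
          rw [Set.mem_singleton_iff.mp hv]; exact hzN W hW hd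
      · refine absurd ?_ hW1
        rw [← le_bot_iff, ← hO]
        exact Cores.le_pPrimeCore hW ((hpp.coprime_iff_not_dvd.mpr hd).symm)
    -- the Sylow subgroup of `N`
    set T := (P : Subgroup K) ⊓ N with hT
    have hTi : ¬ p ∣ (T.subgroupOf N).index := fun h => P.not_dvd_index (h.trans (by
      show T.relIndex N ∣ _
      rw [hT, Subgroup.inf_relIndex_right]
      exact PGroups.relIndex_dvd_index_of_normal_right N (P : Subgroup K)))
    set TN : Sylow p N := ((P.2.to_le inf_le_left : IsPGroup p T).of_equiv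
      (Subgroup.subgroupOfEquivOfLe inf_le_right).symm).toSylow hTi with hTN
    have hTNmem : ∀ v : N, v ∈ (TN : Subgroup N) ↔ (v : K) ∈ (P : Subgroup K) := fun v =>
      ⟨fun h => (h : (v : K) ∈ T).1, fun h => (⟨h, v.2⟩ : (v : K) ∈ T)⟩
    have hTcyc : IsCyclic (TN : Subgroup N) := by
      haveI := hP
      refine isCyclic_of_injective ((N.subtype.comp (TN : Subgroup N).subtype).codRestrict
        (P : Subgroup K) fun v => (hTNmem v).mp v.2) fun a b h => ?_
      exact Subtype.ext (Subtype.ext (congrArg Subtype.val h :))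
    have hNconj : ∀ x : N, orderOf (x : K) = p →
        ∃ n : N, ((n * x * n⁻¹ : N) : K) ∈ Subgroup.zpowers (z₀ : K) := by
      intro x hx
      obtain ⟨R, hR⟩ := (IsPGroup.of_card (n := 1) (by rw [Nat.card_zpowers, ← Subgroup.orderOf_coe, hx, pow_one]) :
        IsPGroup p (Subgroup.zpowers x)).exists_le_sylow
      obtain ⟨n, hn⟩ := MulAction.exists_smul_eq N R TN
      refine ⟨n, huniq _ ((hTNmem _).mp ?_) ?_⟩
      · rw [← hn]
        show n * x * n⁻¹ ∈ ((n • R : Sylow p N) : Subgroup N)
        rw [Sylow.coe_subgroup_smul]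
        exact Coprime.mem_conj_smul.mpr (by simpa [mul_assoc] using hR (Subgroup.mem_zpowers x))
      · simp only [Subgroup.coe_mul, Subgroup.coe_inv]
        rw [conj_pow, ← hx, pow_orderOf_eq_one, mul_one, mul_inv_cancel]
    have hnp : ¬ IsPGroup p N := fun h => by
      have h1 := Cores.le_pCore hNn h hz₀N
      rw [hQ, Subgroup.mem_bot] at h1
      exact hz1 h1
    have hNnc : ¬ IsMulCommutative N := fun hcm => by
      haveI := hcm
      haveI : (TN : Subgroup N).Normal := ⟨fun v hv g => by
        rwa [mul_comm' g v, mul_inv_cancel_right]⟩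
      haveI := (TN : Subgroup N).normal_in_normalizer
      haveI : Subsingleton (Sylow p N) := @Unique.instSubsingleton _ (Sylow.unique_of_normal TN ‹_›)
      haveI : (TN : Subgroup N).Characteristic := Sylow.characteristic_of_normal TN ‹_›
      have h1 := Cores.le_pCore (Cores.normal_map_subtype_of_char N (TN : Subgroup N)) (TN.2.map _)
        (⟨⟨z₀, hz₀N⟩, (hTNmem _).mpr hzP, rfl⟩ : (z₀ : K) ∈ (TN : Subgroup N).map N.subtype)
      rw [hQ, Subgroup.mem_bot] at h1
      exact hz1 h1
    haveI : Nontrivial N := ⟨⟨⟨z₀, hz₀N⟩, 1, fun h => hz1 (congrArg Subtype.val h)⟩⟩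
    have hsimple : IsSimpleGroup N := by
      refine ⟨fun W hW => Classical.or_iff_not_imp_left.mpr fun hW1 => ?_⟩
      have hWp : p ∣ Nat.card W := by
        by_contra hd
        refine hW1 ?_
        have h1 : W ≤ Cfsg.pPrimeCore p N :=
          Cores.le_pPrimeCore hW (hpp.coprime_iff_not_dvd.mpr hd).symm
        have h2 := Cores.map_subtype_pPrimeCore_le (p := p) N
        rw [hO, le_bot_iff, Subgroup.map_eq_bot_iff_of_injective _ N.subtype_injective] at h2
        rwa [h2, le_bot_iff] at h1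
      obtain ⟨x, hx⟩ := exists_prime_orderOf_dvd_card' (G := W) p hWp
      rw [← Subgroup.orderOf_coe, ← Subgroup.orderOf_coe] at hx
      obtain ⟨n, hn⟩ := hNconj x hx
      set v : N := n * x * n⁻¹ with hv
      have hv1 : (v : K) ≠ 1 := fun h => by
        have h' : v = 1 := Subtype.ext h
        rw [hv, conj_eq_one_iff] at h'
        rw [h', Subgroup.coe_one, orderOf_one] at hx
        exact hpp.one_lt.ne hx
      have hvW : v ∈ W := hW.conj_mem x x.2 n
      obtain ⟨j, hj⟩ := Subgroup.mem_zpowers_iff.mp (hgen _ hn hv1)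
      -- every element of order `p` of `N` lies in `W`
      have hall : ∀ u : N, orderOf (u : K) = p → u ∈ W := by
        intro u hu
        obtain ⟨m, hm⟩ := hNconj u hu
        obtain ⟨l, hl⟩ := Subgroup.mem_zpowers_iff.mp hm
        have e : m * u * m⁻¹ = (v ^ j) ^ l := Subtype.ext (by rw [← hl, ← hj]; simp)
        have h1 : m * u * m⁻¹ ∈ W := e ▸ zpow_mem (zpow_mem hvW j) l
        have h2 := hW.conj_mem _ h1 m⁻¹
        rwa [inv_inv, show m⁻¹ * (m * u * m⁻¹) * m = u by group] at h2
      refine eq_top_iff.mpr fun u _ => ?_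
      have hle : N ≤ W.map N.subtype := by
        refine (Subgroup.closure_le _).mpr fun w hw => ?_
        obtain ⟨a, ha, hb⟩ := Group.mem_conjugatesOfSet_iff.mp hw
        rw [Set.mem_singleton_iff.mp ha] at hb
        obtain ⟨c, rfl⟩ := isConj_iff.mp hb
        exact ⟨⟨_, hNn.conj_mem _ hz₀N c⟩, hall _
          ((orderOf_injective (MulAut.conj c).toMonoidHom (MulAut.conj c).injective _).trans hz₀'), rfl⟩
      obtain ⟨w, hw, hwu⟩ := hle u.2
      rwa [← Subtype.ext (a1 := w) (a2 := u) hwu]
    have hCN : Subgroup.centralizer (N : Set K) = ⊥ := by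
      by_contra hne
      have h1 := hmin _ inferInstance hne
      exact hNnc ⟨⟨fun a b => Subtype.ext (Subgroup.mem_centralizer_iff.mp (h1 b.2) a a.2)⟩⟩
    have hFstar : Cfsg.generalizedFittingSubgroup K = N := by
      have hcomp : Cfsg.IsComponent N := ⟨hNn.isSubnormal, by
        haveI := hsimple
        exact Components.isQuasisimple_of_simple hNnc⟩
      refine le_antisymm (sup_le ?_ (sSup_le fun F hF => ?_)) ((Components.IsComponent.le_layer hcomp).trans le_sup_left)
      · refine Components.layer_le_iff.mpr fun L hL => ?_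
        rcases Components.IsComponent.le_or_commutator_eq_bot hL hNn.isSubnormal with h | h
        · exact h
        · have := Components.le_centralizer_of_commutator_eq_bot h
          rw [hCN, le_bot_iff] at this
          exact absurd this (Components.IsComponent.ne_bot hL)
      · obtain ⟨hFn, hFnil⟩ := hF
        haveI := hFn
        haveI := hFnil
        haveI := hsimple
        rcases IsSimpleGroup.eq_bot_or_eq_top_of_normal (F.subgroupOf N) inferInstance with h | h
        · have hd : F ⊓ N = ⊥ := by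
            rw [eq_bot_iff]
            intro v hv
            have : (⟨v, hv.2⟩ : N) ∈ F.subgroupOf N := hv.1
            rw [h, Subgroup.mem_bot] at this
            exact congrArg Subtype.val this
          have h2 : F ≤ Subgroup.centralizer (N : Set K) := fun f hf =>
            Subgroup.mem_centralizer_iff.mpr fun n hn =>
              (Subgroup.commute_of_normal_of_disjoint _ _ hFn hNn (disjoint_iff.mpr hd) f n hf hn).eq.symm
          rw [hCN, le_bot_iff] at h2
          rw [h2]; exact bot_le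
        · exfalso
          have hle : N ≤ F := Subgroup.subgroupOf_eq_top.mp h
          haveI := Cores.isNilpotent_of_injective (Subgroup.inclusion hle) (Subgroup.inclusion_injective _)
          exact hNnc ⟨⟨fun a b => IsSimpleGroup.comm_iff_isSolvable.mpr inferInstance a b⟩⟩
    rw [hFstar]
    refine ⟨hsimple, hNnc, fun hd => ?_⟩
    haveI := hsimple
    -- the Sylow subgroup of `N` has a non-trivial automizer in `N`
    obtain ⟨y, hyN, hy⟩ : ∃ y : N, y ∈ Subgroup.normalizer ((TN : Subgroup N) : Set N) ∧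
        y ∉ Subgroup.centralizer ((TN : Subgroup N) : Set N) := by
      by_contra h
      push Not at h
      have hpc := Transfer.hasNormalPComplement_of_normalizer_le_centralizer TN h
      obtain ⟨a, ha⟩ := Transfer.exists_index_pResidual (G := N) (p := p)
      rcases IsSimpleGroup.eq_bot_or_eq_top_of_normal (Cfsg.pResidual p N) Transfer.pResidual_normal with h' | h'
      · rw [h', Subgroup.index_bot] at ha
        exact hnp (IsPGroup.of_card ha)
      · have := Transfer.hasNormalPComplement_iff_coprime.mp hpc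
        rw [h', Subgroup.card_top, Transfer.coprime_iff_not_dvd] at this
        exact this (dvd_trans (dvd_of_eq ((Subgroup.orderOf_mk _ _).trans hz₀').symm)
          (orderOf_dvd_natCard (⟨z₀, hz₀N⟩ : N)))
    set C := Subgroup.centralizer (T : Set K) with hC
    have hPC : (P : Subgroup K) ≤ C := by
      haveI := hP
      letI := IsCyclic.commGroup (α := (P : Subgroup K))
      intro x hx
      exact Subgroup.mem_centralizer_iff.mpr fun v hv =>
        congrArg Subtype.val (mul_comm (⟨v, (hv : v ∈ T).1⟩ : (P : Subgroup K)) ⟨x, hx⟩)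
    have hzT : (z₀ : K) ∈ T := ⟨hzP, hz₀N⟩
    have hyM : (y : K) ∈ Subgroup.normalizer (T : Set K) := by
      refine Coprime.mem_normalizer_of_conj_smul_eq (Coprime.eq_of_le_of_card_le (fun v hv => ?_) (Coprime.card_conj_smul _ _).ge)
      rw [Coprime.mem_conj_smul] at hv
      have hvN : (y : K) * ((y : K)⁻¹ * v * y) * (y : K)⁻¹ ∈ N := mul_mem (mul_mem y.2 hv.2) (inv_mem y.2)
      have h1 := (Subgroup.mem_set_normalizer_iff.mp hyN ⟨_, hv.2⟩).mp ((hTNmem _).mpr hv.1)
      refine ⟨?_, by simpa [mul_assoc] using hvN⟩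
      have h6 := (hTNmem _).mp h1
      simp [mul_assoc] at h6
      exact h6
    have hpc := central_complement (P.subtype hPC) (by
      rw [Sylow.coe_subtype]
      haveI := hP
      exact isCyclic_of_surjective (Subgroup.subgroupOfEquivOfLe hPC).symm.toMonoidHom (MulEquiv.surjective _))
      (z := ⟨z₀, hPC hzP⟩) (by rw [Sylow.coe_subtype]; exact hzP)
      (fun h => hz1 (congrArg Subtype.val h))
      (fun g => Subtype.ext (Subgroup.mem_centralizer_iff.mp g.2 z₀ hzT).symm)
    set W0 := Cfsg.pResidual p C with hW0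
    have hW0mem : ∀ x : C, x ∈ W0 ↔ Nat.Coprime (orderOf x) p := fun x =>
      ⟨Transfer.coprime_orderOf_of_mem (Transfer.hasNormalPComplement_iff_coprime.mp hpc),
        Transfer.mem_pResidual_of_coprime⟩
    haveI : W0.Normal := Transfer.pResidual_normal
    -- a Frattini argument
    have hyC : ∀ x, x ∈ C ↔ (y : K) * x * (y : K)⁻¹ ∈ C := fun x => by
      have key : ∀ u : K, u ∈ Subgroup.normalizer (T : Set K) → ∀ x ∈ C, u * x * u⁻¹ ∈ C := by
        intro u hu x hx
        refine Subgroup.mem_centralizer_iff.mpr fun v hv => ?_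
        have hv' : u⁻¹ * v * u ∈ T := (Subgroup.mem_set_normalizer_iff.mp hu _).mpr (by simpa [mul_assoc] using hv)
        have h2 := Subgroup.mem_centralizer_iff.mp hx _ hv'
        calc v * (u * x * u⁻¹) = u * (u⁻¹ * v * u * x) * u⁻¹ := by group
          _ = u * (x * (u⁻¹ * v * u)) * u⁻¹ := by rw [h2]
          _ = u * x * u⁻¹ * v := by group
      refine ⟨key _ hyM x, fun h => ?_⟩
      have := key _ (inv_mem hyM) _ h
      simpa [mul_assoc] using this
    have hyP : MulAut.conj (y : K) • (P : Subgroup K) ≤ C := by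
      intro x hx
      rw [Coprime.mem_conj_smul] at hx
      have := (hyC _).mp (hPC hx)
      simpa [mul_assoc] using this
    obtain ⟨Q', hQ'⟩ : ∃ Q' : Sylow p K, (Q' : Subgroup K) = MulAut.conj (y : K) • (P : Subgroup K) :=
      ⟨(y : K) • P, Sylow.coe_subgroup_smul⟩
    obtain ⟨c, hc⟩ := MulAction.exists_smul_eq C (Q'.subtype (hQ' ▸ hyP)) (P.subtype hPC)
    have hcy : MulAut.conj ((c : K) * y) • (P : Subgroup K) = (P : Subgroup K) := by
      refine (Coprime.eq_of_le_of_card_le (fun x hx => ?_) (Coprime.card_conj_smul _ _).le).symm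
      have hx' : (⟨x, hPC hx⟩ : C) ∈ (P.subtype hPC : Sylow p C) := by
        show _ ∈ ((P.subtype hPC : Sylow p C) : Subgroup C)
        rw [Sylow.coe_subtype]; exact hx
      rw [← hc] at hx'
      have h2 : (⟨x, hPC hx⟩ : C) ∈ ((c • (Q'.subtype (hQ' ▸ hyP)) : Sylow p C) : Subgroup C) := hx'
      rw [Sylow.coe_subgroup_smul, Coprime.mem_conj_smul, Sylow.coe_subtype, Subgroup.mem_subgroupOf, hQ'] at h2
      rw [Coprime.conj_mul_smul, Coprime.mem_conj_smul]
      simpa using h2
    set y' := (c : K) * y with hy'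
    have hy'P : y' ∈ Subgroup.normalizer ((P : Subgroup K) : Set K) := Coprime.mem_normalizer_of_conj_smul_eq hcy
    obtain ⟨a, ha, w, hw, haw⟩ : ∃ a : K, a ∈ (P : Subgroup K) ∧ ∃ w : C, w ∈ W0 ∧ (c : K) = a * w := by
      have htop : ((P.subtype hPC : Sylow p C) : Subgroup C) ⊔ W0 = ⊤ := by
        refine Subgroup.index_eq_one.mp (Nat.eq_one_iff_not_exists_prime_dvd.mpr fun r hr hrd => ?_)
        obtain ⟨k, hk⟩ := Transfer.exists_index_pResidual (G := C) (p := p)
        have h1 : r ∣ p ^ k := hk ▸ hrd.trans (Subgroup.index_dvd_of_le le_sup_right)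
        rw [(Nat.prime_dvd_prime_iff_eq hr hpp).mp (hr.dvd_of_dvd_pow h1)] at hrd
        exact (P.subtype hPC).not_dvd_index (hrd.trans (Subgroup.index_dvd_of_le le_sup_left))
      obtain ⟨a, ha, w, hw, haw⟩ := Subgroup.mem_sup_of_normal_right.mp (htop ▸ Subgroup.mem_top c)
      rw [Sylow.coe_subtype] at ha
      exact ⟨a, ha, w, hw, (congrArg Subtype.val haw).symm⟩
    set y₂ := (w : K) * y with hy₂
    have hy₂P : y₂ ∈ Subgroup.normalizer ((P : Subgroup K) : Set K) := by
      have := mul_mem (inv_mem (Subgroup.le_normalizer ha)) hy'P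
      rwa [hy', haw, ← mul_assoc, inv_mul_cancel_left] at this
    -- `y₂` fixes no non-identity element of `P`
    have hfix : ∀ v ∈ (P : Subgroup K), Commute y₂ v → v = 1 := by
      intro v hv hcv
      by_contra hv1
      refine hy (Subgroup.mem_centralizer_iff.mpr fun t ht => Subtype.ext ?_)
      have h1 := Subgroup.mem_centralizer_iff.mp (centralizes P hP hy₂P hv hv1 hcv) t ((hTNmem t).mp ht)
      have h2 := Subgroup.mem_centralizer_iff.mp w.2 t (⟨(hTNmem t).mp ht, t.2⟩ : (t : K) ∈ T)
      rw [hy₂] at h1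
      show (t : K) * y = y * t
      exact mul_left_cancel (a := (w : K)) (by rw [← mul_assoc, ← h2, mul_assoc, h1, mul_assoc])
    set π := QuotientGroup.mk' N with hπ
    have hmemN : ∀ u ∈ (P : Subgroup K), y₂ * u * y₂⁻¹ * u⁻¹ ∈ N := by
      intro u hu
      have hd2 : y₂ * u * y₂⁻¹ * u⁻¹ ∈ (P : Subgroup K) :=
        mul_mem ((Subgroup.mem_set_normalizer_iff.mp hy₂P u).mp hu) (inv_mem hu)
      have e1 : π (y₂ * u * y₂⁻¹ * u⁻¹) = π ((w : K) * u * (w : K)⁻¹ * u⁻¹) := by
        have : π (y : K) = 1 := (QuotientGroup.eq_one_iff _).mpr y.2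
        simp only [hy₂, map_mul, map_inv, this, mul_one]
      have e2 : (w : C) * ⟨u, hPC hu⟩ * w⁻¹ * ⟨u, hPC hu⟩⁻¹ ∈ W0 := by
        rw [mul_assoc, mul_assoc]
        refine mul_mem hw ?_
        rw [← mul_assoc]
        exact ‹W0.Normal›.conj_mem _ (inv_mem hw) _
      rw [← QuotientGroup.eq_one_iff]
      show π _ = 1
      refine orderOf_eq_one_iff.mp (Nat.eq_one_of_dvd_coprimes
        (a := orderOf (⟨_, hd2⟩ : (P : Subgroup K)))
        (b := orderOf ((w : C) * ⟨u, hPC hu⟩ * w⁻¹ * ⟨u, hPC hu⟩⁻¹)) ?_ ?_ ?_)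
      · obtain ⟨j, hj⟩ := IsPGroup.iff_orderOf.mp P.2 ⟨_, hd2⟩
        rw [hj]
        exact Nat.Coprime.pow_left j ((hW0mem _).mp e2).symm
      · rw [Subgroup.orderOf_mk]
        exact orderOf_map_dvd π _
      · rw [e1, ← Subgroup.orderOf_coe ((w : C) * (⟨u, hPC hu⟩ : C) * w⁻¹ * (⟨u, hPC hu⟩ : C)⁻¹)]
        exact orderOf_map_dvd π _
    have hPN : (P : Subgroup K) ≤ N := by
      haveI := hP
      letI := IsCyclic.commGroup (α := (P : Subgroup K))
      let φ : ↥(P : Subgroup K) → ↥(P : Subgroup K) := fun u => ⟨y₂ * u * y₂⁻¹ * (u : K)⁻¹,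
        mul_mem ((Subgroup.mem_set_normalizer_iff.mp hy₂P u).mp u.2) (inv_mem u.2)⟩
      have hφi : Function.Injective φ := by
        intro a b h
        have h' : y₂ * (a : K) * y₂⁻¹ * (a : K)⁻¹ = y₂ * b * y₂⁻¹ * (b : K)⁻¹ := congrArg Subtype.val h
        have hab : (a : K) * (b : K)⁻¹ = (b : K)⁻¹ * a := congrArg Subtype.val (mul_comm a b⁻¹)
        have hf := hfix ((b : K)⁻¹ * a) (mul_mem (inv_mem b.2) a.2) (by
          refine mul_inv_eq_iff_eq_mul.mp ?_
          calc y₂ * ((b : K)⁻¹ * a) * y₂⁻¹ = (y₂ * b * y₂⁻¹)⁻¹ * (y₂ * a * y₂⁻¹ * (a : K)⁻¹) * a := by group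
            _ = (b : K)⁻¹ * a := by rw [h']; group)
        exact (Subtype.ext (inv_mul_eq_one.mp hf)).symm
      intro v hv
      obtain ⟨u, hu⟩ := Finite.injective_iff_surjective.mp hφi ⟨v, hv⟩
      rw [show v = y₂ * (u : K) * y₂⁻¹ * (u : K)⁻¹ from (congrArg Subtype.val hu).symm]
      exact hmemN u u.2
    exact P.not_dvd_index (hd.trans (Subgroup.index_dvd_of_le hPN))


/-- Let K be a finite group, p a prime dividing its order with O_{p'}(K) = 1 (no nontrivial normal subgroup of order prime to p), and P a cyclic Sylow p-subgroup of K. Then either P is normal and self-centralizing in K with K/P cyclic of order dividing p − 1 (so K is the semidirect product of P by a group of automorphisms of P of order dividing p − 1), or the generalized Fitting subgroup F*(K) is a non-abelian simple group and p does not divide the index of F*(K) in K. -/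
theorem result {K : Type*} [Group K] [Finite K] (p : ℕ) [Fact p.Prime] (hp : p ∣ Nat.card K) (hO : Cfsg.pPrimeCore p K = ⊥)
    (P : Sylow p K) (hP : IsCyclic ↥(P : Subgroup K)) :
    ((P : Subgroup K).Normal ∧ Subgroup.centralizer ((P : Subgroup K) : Set K) = (P : Subgroup K) ∧
      (∀ (_ : (P : Subgroup K).Normal), IsCyclic (K ⧸ (P : Subgroup K))) ∧ (P : Subgroup K).index ∣ p - 1) ∨
    (IsSimpleGroup ↥(Cfsg.generalizedFittingSubgroup K) ∧ ¬ IsMulCommutative ↥(Cfsg.generalizedFittingSubgroup K) ∧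
      ¬ p ∣ (Cfsg.generalizedFittingSubgroup K).index) := by
  exact main hp hO P hP

end Cfsg.Agent.S4403
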