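import Cfsg.Statements.S4404
import Cfsg.Agent.Lib.SmallMover.Main
import Cfsg.Agent.Lib.Components.Signalizer
import Cfsg.Agent.Lib.Cores.Fitting
import Cfsg.Agent.S0100
import Cfsg.Agent.S0640
import Cfsg.Agent.S0005

set_option autoImplicit false
open Cfsg

namespace Cfsg.Agent.S4404

open Subgroup Cfsg.Agent.Lib Cfsg.Agent.Lib.SmallMover
open scoped commutatorElement

variable {S : Type*} [Group S] [Finite S]

omit [Finite S] in
theorem pRankLE_of_hom {K : Type*} [Group K] {p k : ℕ} (f : K →* S) (hf : Function.Injective f)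
    (h : Cfsg.PRankLE p k S) : Cfsg.PRankLE p k K := by
  intro A hAc hAp
  haveI := hAc
  have := h (A.map f) (Subgroup.map_isMulCommutative A f) (by
    rintro _ ⟨a, ha, rfl⟩
    rw [← map_pow, hAp a ha, map_one])
  rwa [Subgroup.card_map_of_injective hf] at this

section

variable {M : Subgroup S} [M.Normal] (hM : Cfsg.IsElementaryAbelian 2 M) {Q : Subgroup S} {x : S}
  (hQ : Q = zpowers x) (hx : x ^ 3 ∈ centralizer (M : Set S)) (hQM : Nat.card ↥⁅Q, M⁆ = 4)

include hM hQ hx hQM in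
/-- The centralizer of the four group inside a `p`-group normalized by `x`. -/
theorem exists_centralizing {p : ℕ} [Fact p.Prime] (hp2 : p ≠ 2) (P : Subgroup S) (hP : IsPGroup p P)
    (hxP : ∀ g ∈ P, x * g * x⁻¹ ∈ P)
    (hcase : p ≠ 3 ∨ (∀ a ∈ P, ∀ b ∈ P, a * b = b * a) ∧ ∀ a ∈ P, a ^ p = 1) :
    ∃ B : Subgroup S, B ≤ P ∧ B.relIndex P ≤ p ∧ B ≤ centralizer ((⁅Q, M⁆ : Subgroup S) : Set S) := by
  classical
  haveI := hM.1
  letI : CommGroup ↥M :=
    { (inferInstance : Group ↥M) with mul_comm := fun a b => hM.1.is_comm.comm a b }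
  have h2 : ∀ m : ↥M, m * m = 1 := fun m => Subtype.ext (by
    show (m : S) * m = 1
    rw [← pow_two]; exact hM.2 m m.2)
  let c : S →* MulAut ↥M := MulAut.conjNormal
  have hcval : ∀ (g : S) (m : ↥M), ((c g m : ↥M) : S) = g * m * g⁻¹ := fun g m => MulAut.conjNormal_apply g m
  set σ : MulAut ↥M := c x with hσd
  have hσ : σ ^ 3 = 1 := by
    rw [hσd, ← map_pow]
    refine MulEquiv.ext fun m => Subtype.ext ?_
    rw [hcval, MulAut.one_apply, ← mem_centralizer_iff.mp hx m m.2, mul_inv_cancel_right]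
  have hinv : ∀ m : ↥M, m⁻¹ = m := fun m => inv_eq_of_mul_eq_one_right (h2 m)
  have hcomm : ∀ (y : S) (m : ↥M), ⁅y, (m : S)⁆ = ((c y m * m : ↥M) : S) := by
    intro y m
    rw [commutatorElement_def, Subgroup.coe_mul, hcval]
    conv_lhs => rw [← Subgroup.coe_inv, hinv]
  have hV : (dd σ).range.map M.subtype = ⁅Q, M⁆ := by
    refine le_antisymm ?_ (commutator_le.mpr ?_)
    · rintro _ ⟨_, ⟨m, rfl⟩, rfl⟩
      show ((dd σ m : ↥M) : S) ∈ _
      rw [dd_apply, hσd, ← hcomm]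
      exact commutator_mem_commutator (hQ ▸ mem_zpowers x) m.2
    · intro y hy m hm
      rw [hQ] at hy
      have hkey : ∀ i : ℕ, ∀ m : ↥M, ((σ ^ i) m * m : ↥M) ∈ (dd σ).range := by
        intro i
        induction i with
        | zero => intro m; rw [pow_zero, MulAut.one_apply, h2]; exact one_mem _
        | succ i ih =>
          intro m
          rw [pow_succ', MulAut.mul_apply]
          have e : σ ((σ ^ i) m) * m = (σ ((σ ^ i) m) * (σ ^ i) m) * ((σ ^ i) m * m) := by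
            calc σ ((σ ^ i) m) * m = σ ((σ ^ i) m) * m * ((σ ^ i) m * (σ ^ i) m) := by rw [h2, mul_one]
              _ = _ := by ac_rfl
          rw [e]
          exact mul_mem ⟨_, rfl⟩ (ih m)
      obtain ⟨i, rfl⟩ := (isOfFinOrder_of_finite x).mem_powers_iff_mem_zpowers.mpr hy
      refine ⟨c (x ^ i) ⟨m, hm⟩ * ⟨m, hm⟩, ?_, (hcomm (x ^ i) ⟨m, hm⟩).symm⟩
      rw [map_pow]
      exact hkey i _
  have hV4 : Nat.card ↥(dd σ).range = 4 := by
    rw [← hQM, ← hV, card_map_of_injective M.subtype_injective]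
  -- conclusion from a group of automorphisms fixing the four group
  have hfin : ∀ B : Subgroup S, (∀ g ∈ B, ∀ m, c g (dd σ m) = dd σ m) →
      B ≤ centralizer ((⁅Q, M⁆ : Subgroup S) : Set S) := by
    intro B hB g hg
    rw [mem_centralizer_iff, ← hV]
    rintro _ ⟨_, ⟨m, rfl⟩, rfl⟩
    have e := congrArg (Subtype.val : ↥M → S) (hB g hg m)
    rw [hcval, mul_inv_eq_iff_eq_mul] at e
    exact e.symm
  rcases hcase with hp3 | ⟨hPc, hPe⟩
  · obtain ⟨B, hB, hBfix⟩ := exists_fix (Nat.card ↥M) ↥M rfl h2 σ hσ hV4 ↥P p hp2 hp3 hP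
      (c.comp P.subtype) fun g => ⟨⟨x * g * x⁻¹, hxP g g.2⟩, by simp [hσd]⟩
    refine ⟨B.map P.subtype, map_subtype_le B, ?_, hfin _ ?_⟩
    · rw [relIndex, subgroupOf, comap_map_eq_self_of_injective P.subtype_injective]
      exact hB
    · rintro _ ⟨g, hg, rfl⟩ m
      exact hBfix g hg m
  · set A := P.map c with hA
    have hAc : ∀ a ∈ A, ∀ b ∈ A, a * b = b * a := by
      rintro _ ⟨a, ha, rfl⟩ _ ⟨b, hb, rfl⟩
      rw [← map_mul, hPc a ha b hb, map_mul]
    have hAp : ∀ a ∈ A, a ^ p = 1 := by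
      rintro _ ⟨a, ha, rfl⟩
      rw [← map_pow, hPe a ha, map_one]
    have hσA : ∀ a ∈ A, σ * a * σ⁻¹ ∈ A := by
      rintro _ ⟨a, ha, rfl⟩
      exact ⟨x * a * x⁻¹, hxP a ha, by simp [hσd]⟩
    have hto : ∀ H : Subgroup (MulAut ↥M), H ≤ A → (dd σ).range ≤ fixA H →
        H.relIndex A ≤ p → ∃ B : Subgroup S, B ≤ P ∧ B.relIndex P ≤ p ∧
          B ≤ centralizer ((⁅Q, M⁆ : Subgroup S) : Set S) := by
      intro H hH hfix hidx
      refine ⟨P ⊓ H.comap c, inf_le_left, ?_, hfin _ fun g hg m => hfix ⟨m, rfl⟩ _ hg.2⟩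
      rw [inf_relIndex_left, relIndex_comap]
      exact hidx
    by_cases hfix : ∀ m ∈ fixA A, dd σ m = 1
    · obtain ⟨H, hHA, hidx, -, hHfix⟩ := exists_hyperplane h2 hp2 hσ hV4 hAc hAp hσA hfix
      exact hto H hHA hHfix hidx.le
    · push Not at hfix
      obtain ⟨m, hm, hm1⟩ := hfix
      refine hto A le_rfl (range_le h2 hσ hV4 (fun y hy => sigma_mem_fixA hσ hσA hy) hm hm1) ?_
      rw [relIndex_self]
      exact (Fact.out : p.Prime).one_lt.le

end

/-- A group of order `p ^ 3` with a subgroup of index at most `p`: the subgroup is not cyclic. -/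
theorem finish {p : ℕ} [Fact p.Prime] {F B P C : Subgroup S} (hF : Cfsg.IsElementaryAbelian p F)
    (hF3 : Nat.card ↥F = p ^ 3) (hFP : F ≤ P) (hB : B.relIndex P ≤ p) (hBC : B ≤ C) :
    ¬ IsCyclic ↥(F ⊓ C) := by
  have h1 : B.relIndex F ≤ p := le_trans
    (relIndex_le_of_le_right hFP (Subgroup.index_ne_zero_of_finite : (B.subgroupOf P).index ≠ 0)) hB
  have h2 : p ^ 2 ≤ Nat.card ↥(F ⊓ B) := by
    have e := Coprime.relIndex_mul_card (inf_le_left : F ⊓ B ≤ F)
    rw [inf_relIndex_left, hF3] at e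
    have hp := (Fact.out : p.Prime).pos
    nlinarith
  have h3 : p ^ 2 ≤ Nat.card ↥(F ⊓ C) :=
    h2.trans (Subgroup.card_le_of_le (inf_le_inf_left F hBC))
  exact Components.elemAb_not_isCyclic (Components.elemAb_mono hF inf_le_left) h3


/-- Let S be a finite solvable group and M a normal elementary abelian 2-subgroup of S. Suppose S contains an elementary abelian subgroup of order p³ for some odd prime p, and a cyclic 3-subgroup Q such that the cubes of the elements of Q centralize M and the commutator subgroup [Q, M] has order 4 (a four-group inside M). Then S contains an elementary abelian subgroup F of order r³, for some odd prime r, whose centralizer of [Q, M] in F — the subgroup C_F([Q, M]) — is not cyclic. -/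
theorem result {S : Type*} [Group S] [Finite S]
    [Group.IsSolvable S] (M : Subgroup S) [M.Normal] (hM : Cfsg.IsElementaryAbelian 2 M)
    (p : ℕ) (hp : p.Prime) (hp2 : p ≠ 2) (E : Subgroup S) (hE : Cfsg.IsElementaryAbelian p E) (hE3 : Nat.card ↥E = p ^ 3)
    (Q : Subgroup S) (hQc : IsCyclic ↥Q) (hQ3 : IsPGroup 3 ↥Q)
    (hQ1 : ∀ x ∈ Q, x ^ 3 ∈ Subgroup.centralizer (M : Set S)) (hQM : Nat.card ↥⁅Q, M⁆ = 4) :
    ∃ (r : ℕ) (F : Subgroup S), r.Prime ∧ r ≠ 2 ∧ Cfsg.IsElementaryAbelian r F ∧ Nat.card ↥F = r ^ 3 ∧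
      ¬ IsCyclic ↥(F ⊓ Subgroup.centralizer ((⁅Q, M⁆ : Subgroup S) : Set S)) := by
  classical
  haveI : Fact p.Prime := ⟨hp⟩
  haveI : Fact (Nat.Prime 3) := ⟨Nat.prime_three⟩
  obtain ⟨x, hQ⟩ : ∃ x : S, Q = zpowers x := by
    obtain ⟨g, hg⟩ := (Subgroup.isCyclic_iff_exists_zpowers_eq_top Q).mp hQc
    exact ⟨g, hg.symm⟩
  have hxQ : x ∈ Q := hQ ▸ mem_zpowers x
  by_cases hr : ∀ P : Sylow 3 S, Cfsg.PRankLE 3 2 ↥(P : Subgroup S)
  swap
  · -- three-rank at least three
    push Not at hr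
    obtain ⟨P0, hP0⟩ := hr
    obtain ⟨P, hQP⟩ := hQ3.exists_le_sylow
    have hP : ¬ Cfsg.PRankLE 3 2 ↥(P : Subgroup S) := fun h =>
      hP0 (pRankLE_of_hom (P0.equiv P).toMonoidHom (P0.equiv P).injective h)
    obtain ⟨A, hAn, hAc, hAp, hA3⟩ : ∃ A : Subgroup ↥(P : Subgroup S), A.Normal ∧ IsMulCommutative A ∧
        (∀ a ∈ A, a ^ 3 = 1) ∧ Nat.card A = 3 ^ 3 := by
      by_contra hcon
      simp only [not_exists, not_and] at hcon
      exact hP fun E hE1 hE2 => S0100.result (by norm_num) P.isPGroup' hcon E hE1 hE2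
    set F := A.map (P : Subgroup S).subtype with hFdef
    have hFp : ∀ a ∈ F, a ^ 3 = 1 := by
      rintro _ ⟨a, ha, rfl⟩
      rw [← map_pow, hAp a ha, map_one]
    have hFc : ∀ a ∈ F, ∀ b ∈ F, a * b = b * a := by
      rintro _ ⟨a, ha, rfl⟩ _ ⟨b, hb, rfl⟩
      exact congrArg (P : Subgroup S).subtype
        (congrArg Subtype.val (hAc.is_comm.comm ⟨a, ha⟩ ⟨b, hb⟩))
    have hFe : Cfsg.IsElementaryAbelian 3 F :=
      ⟨⟨⟨fun a b => Subtype.ext (hFc a a.2 b b.2)⟩⟩, hFp⟩
    have hF3 : Nat.card ↥F = 3 ^ 3 := by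
      rw [hFdef, card_map_of_injective (P : Subgroup S).subtype_injective, hA3]
    have hxF : ∀ g ∈ F, x * g * x⁻¹ ∈ F := by
      rintro _ ⟨a, ha, rfl⟩
      exact ⟨⟨x, hQP hxQ⟩ * a * ⟨x, hQP hxQ⟩⁻¹, hAn.conj_mem a ha _, rfl⟩
    obtain ⟨B, hBF, hB, hBC⟩ := exists_centralizing hM hQ (hQ1 x hxQ) hQM (p := 3) (by norm_num) F
      (fun a => ⟨1, Subtype.ext (by simpa using hFp a a.2)⟩) hxF (Or.inr ⟨hFc, hFp⟩)
    exact ⟨3, F, Nat.prime_three, by norm_num, hFe, hF3, finish hFe hF3 le_rfl hB hBC⟩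
  -- three-rank at most two
  have hr' : ∀ T : Subgroup S, IsPGroup 3 T → Cfsg.PRankLE 3 2 ↥T := fun T hT => by
    obtain ⟨P, hTP⟩ := hT.exists_le_sylow
    exact pRankLE_of_hom (Subgroup.inclusion hTP) (Subgroup.inclusion_injective hTP) (hr P)
  have hp3 : p ≠ 3 := by
    rintro rfl
    have h := hr' E (fun a => ⟨1, Subtype.ext (by simpa using hE.2 a a.2)⟩) ⊤
      ⟨⟨fun a b => Subtype.ext (hE.1.is_comm.comm a.1 b.1)⟩⟩
      (fun a _ => Subtype.ext (by simpa using hE.2 a a.2))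
    rw [Subgroup.card_top, hE3] at h
    norm_num at h
  -- a `{3,p}`-subgroup containing `x`
  set N := Nat.card S with hN
  have hN0 : N ≠ 0 := Nat.card_pos.ne'
  set a := N.factorization 3 with ha
  set b := N.factorization p with hb
  have hcop3p : Nat.Coprime (3 ^ a) (p ^ b) :=
    Nat.Coprime.pow _ _ ((Nat.coprime_primes Nat.prime_three hp).2 (Ne.symm hp3))
  obtain ⟨n0, hn0⟩ : 3 ^ a * p ^ b ∣ N :=
    hcop3p.mul_dvd_of_dvd_of_dvd (Nat.ordProj_dvd N 3) (Nat.ordProj_dvd N p)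
  have hn3 : ¬ 3 ∣ n0 := by
    intro h
    refine Nat.pow_succ_factorization_not_dvd hN0 Nat.prime_three ?_
    rw [← ha, hn0, pow_succ, mul_assoc (3 ^ a)]
    exact Nat.mul_dvd_mul_left _ (h.trans (dvd_mul_left _ _))
  have hnp : ¬ p ∣ n0 := by
    intro h
    refine Nat.pow_succ_factorization_not_dvd hN0 hp ?_
    rw [← hb, hn0, pow_succ, mul_comm (3 ^ a) (p ^ b), mul_assoc (p ^ b)]
    exact Nat.mul_dvd_mul_left _ (h.trans (dvd_mul_left _ _))
  have hc3 : Nat.Coprime 3 n0 := Nat.prime_three.coprime_iff_not_dvd.mpr hn3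
  have hcp : Nat.Coprime p n0 := hp.coprime_iff_not_dvd.mpr hnp
  obtain ⟨j, hj⟩ := IsPGroup.iff_card.mp hQ3
  obtain ⟨H, hH, hQH⟩ := S0005.result (3 ^ a * p ^ b) n0 hn0
    (Nat.Coprime.mul_left (hc3.pow_left a) (hcp.pow_left b)) Q (hj ▸ hc3.pow_left j)
  -- its Sylow `p`-subgroup is normal
  set O := Cfsg.pCore p ↥H with hO
  haveI : O.Normal := inferInstance
  let qh := QuotientGroup.mk' O
  have hsolH : Group.IsSolvable (↥H ⧸ O) := inferInstance
  have hOq : Cfsg.pCore p (↥H ⧸ O) = ⊥ := Cores.pCore_quotient_pCore p ↥H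
  set R := Cfsg.fittingSubgroup (↥H ⧸ O) with hR
  have hR3 : IsPGroup 3 ↥R := by
    have h1 : R ≤ Cfsg.pCore 3 (↥H ⧸ O) := by
      refine Cores.fittingSubgroup_le_of_pCore_le fun q hq => ?_
      rcases eq_or_ne q 3 with rfl | hq3
      · exact le_rfl
      rcases eq_or_ne q p with rfl | hqp
      · rw [hOq]; exact bot_le
      haveI : Fact q.Prime := ⟨hq⟩
      obtain ⟨i, hi⟩ := IsPGroup.iff_card.mp (Cores.pCore_isPGroup q (↥H ⧸ O))
      have hd : q ^ i ∣ 3 ^ a * p ^ b := by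
        rw [← hi, ← hH]
        exact (Subgroup.card_subgroup_dvd_card _).trans (Subgroup.card_quotient_dvd_card _)
      rcases i with _ | i
      · rw [pow_zero, Subgroup.card_eq_one] at hi
        rw [hi]; exact bot_le
      · exfalso
        have hq' : q ∣ 3 ^ a * p ^ b := (dvd_pow_self q (by omega)).trans hd
        rcases hq.dvd_mul.mp hq' with h | h
        · exact hq3 ((Nat.prime_dvd_prime_iff_eq hq Nat.prime_three).mp (hq.dvd_of_dvd_pow h))
        · exact hqp ((Nat.prime_dvd_prime_iff_eq hq hp).mp (hq.dvd_of_dvd_pow h))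
    exact (Cores.pCore_isPGroup 3 _).to_le h1
  haveI : R.Normal := inferInstance
  have hR2 : Cfsg.PRankLE 3 2 ↥R := by
    set K := R.comap qh with hK
    obtain ⟨T⟩ : Nonempty (Sylow 3 ↥K) := inferInstance
    let f : ↥(T : Subgroup ↥K) →* ↥R :=
      { toFun := fun t => ⟨qh ((t : ↥K) : ↥H), (t : ↥K).2⟩
        map_one' := Subtype.ext (map_one qh)
        map_mul' := fun u v => Subtype.ext (map_mul qh ((u : ↥K) : ↥H) ((v : ↥K) : ↥H)) }
    have hfinj : Function.Injective f := by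
      rw [← MonoidHom.ker_eq_bot_iff, eq_bot_iff]
      intro t ht
      have h1 : ((t : ↥K) : ↥H) ∈ O :=
        (QuotientGroup.eq_one_iff _).mp (congrArg Subtype.val (MonoidHom.mem_ker.mp ht))
      obtain ⟨k1, hk1⟩ := IsPGroup.iff_orderOf.mp (Cores.pCore_isPGroup p ↥H) ⟨_, h1⟩
      obtain ⟨k2, hk2⟩ := IsPGroup.iff_orderOf.mp T.isPGroup' t
      rw [Subgroup.orderOf_mk] at hk1
      have e : orderOf ((t : ↥K) : ↥H) = orderOf t := by
        rw [Subgroup.orderOf_coe, Subgroup.orderOf_coe]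
      rw [e, hk2] at hk1
      rw [Subgroup.mem_bot, ← orderOf_eq_one_iff, hk2]
      rcases k2 with _ | k2
      · rw [pow_zero]
      · exfalso
        exact hp3 ((Nat.prime_dvd_prime_iff_eq Nat.prime_three hp).mp
          (Nat.prime_three.dvd_of_dvd_pow (hk1 ▸ dvd_pow_self 3 (by omega)))).symm
    have hfsur : Function.Surjective f := by
      obtain ⟨i, hi⟩ := IsPGroup.iff_card.mp hR3
      have hKc : Nat.card ↥K = 3 ^ i * Nat.card ↥O := by
        have e : Nat.card ↥R = O.relIndex K := by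
          have e0 := relIndex_comap (⊥ : Subgroup (↥H ⧸ O)) qh K
          have e1 : (⊥ : Subgroup (↥H ⧸ O)).comap qh = O := QuotientGroup.ker_mk' O
          have e2 : K.map qh = R := map_comap_eq_self_of_surjective (QuotientGroup.mk'_surjective O) R
          simp only [e1, e2, relIndex_bot_left] at e0
          exact e0.symm
        have e2 := Coprime.relIndex_mul_card (show O ≤ K from fun y hy => by
          show qh y ∈ R
          rw [show qh y = 1 from (QuotientGroup.eq_one_iff y).mpr hy]; exact one_mem _)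
        rw [← e, hi] at e2
        rw [← e2]; ring
      obtain ⟨j', hj'⟩ := IsPGroup.iff_card.mp (Cores.pCore_isPGroup p ↥H)
      have hT : Nat.card ↥(T : Subgroup ↥K) = 3 ^ i := by
        rw [T.card_eq_multiplicity, hKc, hO, hj']
        congr 1
        rw [Nat.factorization_mul (pow_ne_zero _ (by norm_num)) (pow_ne_zero _ hp.ne_zero),
          Finsupp.add_apply, Nat.Prime.factorization_pow Nat.prime_three, Nat.Prime.factorization_pow hp,
          Finsupp.single_eq_same, Finsupp.single_eq_of_ne (Ne.symm hp3), add_zero]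
      exact ((Nat.bijective_iff_injective_and_card f).mpr ⟨hfinj, hT.trans hi.symm⟩).2
    let g : ↥(T : Subgroup ↥K) →* S := H.subtype.comp (K.subtype.comp (T : Subgroup ↥K).subtype)
    have hg : Function.Injective g :=
      H.subtype_injective.comp (K.subtype_injective.comp (T : Subgroup ↥K).subtype_injective)
    have hT2 : Cfsg.PRankLE 3 2 ↥(T : Subgroup ↥K) :=
      pRankLE_of_hom (MonoidHom.ofInjective hg).toMonoidHom (MonoidHom.ofInjective hg).injective
        (hr' g.range (T.isPGroup'.of_surjective g.rangeRestrict g.rangeRestrict_surjective))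
    exact pRankLE_of_hom (MulEquiv.ofBijective f ⟨hfinj, hfsur⟩).symm.toMonoidHom
      (MulEquiv.ofBijective f ⟨hfinj, hfsur⟩).symm.injective hT2
  obtain ⟨P⟩ : Nonempty (Sylow p ↥H) := inferInstance
  have hPO : (P : Subgroup ↥H) ≤ O := by
    intro y hy
    have hyR : qh y ∈ centralizer (R : Set (↥H ⧸ O)) := by
      haveI : Finite (MulAut ↥R) := Finite.of_injective (fun f : MulAut ↥R => (f : ↥R → ↥R)) DFunLike.coe_injective
      let θ : ↥H →* MulAut ↥R := (MulAut.conjNormal).comp qh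
      have hθ : θ y = 1 := by
        obtain ⟨k, hk⟩ := IsPGroup.iff_orderOf.mp P.isPGroup' ⟨y, hy⟩
        rw [Subgroup.orderOf_mk] at hk
        obtain ⟨l, -, hl⟩ := (Nat.dvd_prime_pow hp).mp (hk ▸ orderOf_map_dvd θ y)
        rcases l with _ | l
        · rw [pow_zero, orderOf_eq_one_iff] at hl
          exact hl
        · exfalso
          have hd : p ∣ Nat.card (MulAut ↥R) :=
            ((dvd_pow_self p (by omega)).trans hl.symm.dvd).trans (orderOf_dvd_natCard _)
          have := (S0640.result (p := 3) (by norm_num) hR3 hR2 p hp hp3 hd).2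
          have := hp.two_le
          omega
      rw [mem_centralizer_iff]
      intro r hr
      have e := congrArg Subtype.val (DFunLike.congr_fun hθ ⟨r, hr⟩)
      simp only [θ, MonoidHom.comp_apply, MulAut.conjNormal_apply, MulAut.one_apply,
        mul_inv_eq_iff_eq_mul] at e
      exact e.symm
    have hyF := Cores.centralizer_fittingSubgroup_le hsolH hyR
    obtain ⟨k1, hk1⟩ := IsPGroup.iff_orderOf.mp hR3 ⟨_, hyF⟩
    obtain ⟨k2, hk2⟩ := IsPGroup.iff_orderOf.mp P.isPGroup' ⟨y, hy⟩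
    rw [Subgroup.orderOf_mk] at hk1 hk2
    have hd : 3 ^ k1 ∣ p ^ k2 := hk1 ▸ hk2 ▸ orderOf_map_dvd qh y
    rcases k1 with _ | k1
    · rw [pow_zero, orderOf_eq_one_iff] at hk1
      exact (QuotientGroup.eq_one_iff y).mp hk1
    · exfalso
      exact hp3 ((Nat.prime_dvd_prime_iff_eq Nat.prime_three hp).mp
        (Nat.prime_three.dvd_of_dvd_pow ((dvd_pow_self 3 (by omega)).trans hd))).symm
  set P' : Subgroup S := O.map H.subtype with hP'
  have hP'p : IsPGroup p ↥P' := (Cores.pCore_isPGroup p ↥H).map _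
  have hxP' : ∀ g ∈ P', x * g * x⁻¹ ∈ P' := by
    rintro _ ⟨g, hg, rfl⟩
    exact ⟨⟨x, hQH hxQ⟩ * g * ⟨x, hQH hxQ⟩⁻¹, (inferInstance : O.Normal).conj_mem g hg _, rfl⟩
  obtain ⟨T, hET⟩ := IsPGroup.exists_le_sylow (p := p) (P := E)
    (fun e => ⟨1, Subtype.ext (by simpa using hE.2 e e.2)⟩)
  have hP'c : Nat.card ↥P' = p ^ b := by
    obtain ⟨j', hj'⟩ := IsPGroup.iff_card.mp hP'p
    have hPc : Nat.card ↥(P : Subgroup ↥H) = p ^ b := by
      rw [P.card_eq_multiplicity, hH]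
      congr 1
      rw [Nat.factorization_mul (pow_ne_zero _ (by norm_num)) (pow_ne_zero _ hp.ne_zero),
        Finsupp.add_apply, Nat.Prime.factorization_pow Nat.prime_three, Nat.Prime.factorization_pow hp,
        Finsupp.single_eq_same, Finsupp.single_eq_of_ne hp3, zero_add]
    have hlow : p ^ b ≤ Nat.card ↥P' := by
      rw [hP', card_map_of_injective H.subtype_injective, ← hPc]
      exact Subgroup.card_le_of_le hPO
    have hdd : Nat.card ↥P' ∣ N := Subgroup.card_subgroup_dvd_card P'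
    rw [hj'] at hdd hlow ⊢
    have hjb : j' ≤ b := (hp.pow_dvd_iff_le_factorization hN0).mp hdd
    exact le_antisymm (Nat.pow_le_pow_right hp.pos hjb) hlow
  obtain ⟨T', hT'⟩ : ∃ T' : Sylow p S, (T' : Subgroup S) = P' :=
    ⟨Sylow.ofCard P' (by rw [hP'c, hb, hN]), rfl⟩
  obtain ⟨g, hg⟩ := MulAction.exists_smul_eq S T T'
  set F := E.map (MulAut.conj g).toMonoidHom with hFdef
  have hFP : F ≤ P' := by
    rw [← hT', ← hg]
    rintro _ ⟨e, he, rfl⟩
    exact ⟨e, hET he, rfl⟩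
  have hFe : Cfsg.IsElementaryAbelian p F := by
    refine ⟨⟨⟨?_⟩⟩, ?_⟩
    · rintro ⟨_, a, ha, rfl⟩ ⟨_, b, hb, rfl⟩
      refine Subtype.ext ?_
      show (MulAut.conj g) a * (MulAut.conj g) b = (MulAut.conj g) b * (MulAut.conj g) a
      rw [← map_mul, ← map_mul, show a * b = b * a from
        congrArg Subtype.val (hE.1.is_comm.comm ⟨a, ha⟩ ⟨b, hb⟩)]
    · rintro _ ⟨a, ha, rfl⟩
      rw [← map_pow, hE.2 a ha, map_one]
  have hF3 : Nat.card ↥F = p ^ 3 := by
    rw [hFdef, card_map_of_injective (MulAut.conj g).injective, hE3]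
  obtain ⟨B, hBP, hB, hBC⟩ := exists_centralizing hM hQ (hQ1 x hxQ) hQM hp2 P' hP'p hxP' (Or.inl hp3)
  exact ⟨p, F, hp, hp2, hFe, hF3, finish hFe hF3 hFP hB hBC⟩

end Cfsg.Agent.S4404
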