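import Cfsg.Statements.S4405
import Cfsg.Agent.Lib.Coprime.Action
import Cfsg.Agent.Lib.Cores.Fitting
import Cfsg.Agent.Lib.Cores.PCore
import Cfsg.Agent.Lib.Cores.Frattini
import Mathlib

set_option autoImplicit false
open Cfsg

namespace Cfsg.Agent.S4405

open Cfsg.Agent.Lib
open scoped commutatorElement

universe u

variable {G : Type u} [Group G] [Finite G]

set_option maxHeartbeats 1000000 in
theorem main (hG : Nat.card G = 320) (H : Subgroup G) [H.Normal] (hHO : ∀ N : Subgroup G, N.Normal → IsPGroup 2 N → N ≤ H)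
    (hHF : ∀ N : Subgroup G, N.Normal → Group.IsNilpotent N → N ≤ H)
    (hex : Cfsg.IsExtraspecial 2 H) (h32 : Nat.card H = 32)
    (hminus : ∀ A : Subgroup G, A ≤ H → Cfsg.IsElementaryAbelian 2 A → Nat.card A ≤ 4)
    (T : G) (hT2 : T * T = 1) (hTH : T ∉ H)
    (V : Subgroup G) (hV : V ≤ H ⊓ Subgroup.centralizer ({T} : Set G)) (hV4 : Nat.card V = 4)
    (hVe : Cfsg.IsElementaryAbelian 2 V) :
    H ⊓ Subgroup.centralizer ({T} : Set G) = V := by
  classical
  haveI := Fact.mk Nat.prime_two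
  haveI := Fact.mk (show Nat.Prime 5 by norm_num)
  obtain ⟨⟨hp2, hfr, hder⟩, hZ2⟩ := hex
  set Z0 : Subgroup G := (Subgroup.center H).map H.subtype with hZ0
  have hZ0c : Nat.card Z0 = 2 := by rw [hZ0, Subgroup.card_subtype, hZ2]
  have hZ0H : Z0 ≤ H := Subgroup.map_subtype_le _
  have hmemZ0 : ∀ {x : G}, x ∈ H → (∀ y ∈ H, Commute x y) → x ∈ Z0 := fun {x} hx h =>
    ⟨⟨x, hx⟩, Subgroup.mem_center_iff.mpr fun y => Subtype.ext (h y y.2).eq.symm, rfl⟩
  have hZ0comm : ∀ e ∈ Z0, ∀ y ∈ H, Commute e y := by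
    rintro _ ⟨e, he, rfl⟩ y hy
    exact congrArg Subtype.val ((Subgroup.mem_center_iff.mp he) ⟨y, hy⟩).symm
  haveI hZ0n : Z0.Normal := ⟨by
    intro e he g
    refine hmemZ0 ((inferInstance : H.Normal).conj_mem e (hZ0H he) g) fun y hy => ?_
    have h1 := hZ0comm e he (g⁻¹ * y * g⁻¹⁻¹) ((inferInstance : H.Normal).conj_mem y hy g⁻¹)
    calc g * e * g⁻¹ * y = g * (e * (g⁻¹ * y * g⁻¹⁻¹)) * g⁻¹ := by group
      _ = g * ((g⁻¹ * y * g⁻¹⁻¹) * e) * g⁻¹ := by rw [h1.eq]
      _ = y * (g * e * g⁻¹) := by group⟩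
  obtain ⟨z, hzZ, hz1, hzonly⟩ : ∃ z ∈ Z0, z ≠ 1 ∧ ∀ e ∈ Z0, e = 1 ∨ e = z := by
    haveI : Nontrivial Z0 := Finite.one_lt_card_iff_nontrivial.mp (by omega)
    obtain ⟨z, hz⟩ := exists_ne (1 : Z0)
    refine ⟨z, z.2, fun h => hz (Subtype.ext h), fun e he => ?_⟩
    haveI := Fintype.ofFinite Z0
    by_contra hne
    push Not at hne
    have h3 : ({1, z, ⟨e, he⟩} : Finset Z0).card = 3 := Finset.card_eq_three.mpr
      ⟨_, _, _, hz.symm, fun h => hne.1 (congrArg Subtype.val h).symm, fun h => hne.2 (congrArg Subtype.val h).symm, rfl⟩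
    have := Finset.card_le_univ ({1, z, ⟨e, he⟩} : Finset Z0)
    rw [← Nat.card_eq_fintype_card, hZ0c] at this
    omega
  have hzc : ∀ g : G, g * z * g⁻¹ = z := fun g => by
    rcases hzonly _ (hZ0n.conj_mem z hzZ g) with h | h
    · rw [mul_inv_eq_one, mul_eq_left] at h; exact absurd h hz1
    · exact h
  have hzz : z * z = 1 := by
    have := pow_card_eq_one' (x := (⟨z, hzZ⟩ : Z0))
    rw [hZ0c, pow_two] at this
    exact congrArg Subtype.val this
  -- the quotient
  set f := QuotientGroup.mk' Z0 with hf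
  have hf1 : ∀ {x : G}, f x = 1 ↔ x ∈ Z0 := fun {x} => QuotientGroup.eq_one_iff x
  set Hb := H.map f with hHb
  haveI : Hb.Normal := (inferInstance : H.Normal).map f (QuotientGroup.mk'_surjective Z0)
  haveI : Group.IsNilpotent H := hp2.isNilpotent
  have hsq : ∀ x ∈ H, x * x ∈ Z0 := fun x hx => by
    refine ⟨⟨x, hx⟩ ^ 2, ?_, by simp [pow_two]⟩
    rw [← hfr]; exact Cores.pow_mem_frattini hp2 _
  have hcm : ∀ x ∈ Hb, ∀ y ∈ Hb, Commute x y := by
    rintro _ ⟨x, hx, rfl⟩ _ ⟨y, hy, rfl⟩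
    have : ⁅(⟨x, hx⟩ : H), (⟨y, hy⟩ : H)⁆ ∈ commutator H :=
      Subgroup.commutator_mem_commutator (Subgroup.mem_top _) (Subgroup.mem_top _)
    rw [hder] at this
    have h1 : f (x * y * x⁻¹ * y⁻¹) = 1 := hf1.mpr ⟨_, this, rfl⟩
    rw [map_mul, map_mul, map_mul, map_inv, map_inv, mul_inv_eq_one, mul_inv_eq_iff_eq_mul] at h1
    exact h1
  have hHbc : Nat.card Hb = 16 := by
    have h := Cores.card_map_mul_card_inf_ker f H
    rw [hf, QuotientGroup.ker_mk', inf_eq_right.mpr hZ0H, hZ0c, h32, ← hf, ← hHb] at h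
    omega
  have hHb2 : ∀ {W : Subgroup (G ⧸ Z0)}, W ≤ Hb → IsPGroup 2 W := fun {W} hW =>
    (IsPGroup.of_card (n := 4) (by rw [hHbc]; norm_num) : IsPGroup 2 Hb).to_le hW
  -- the element of order five
  obtain ⟨s, hs⟩ := exists_prime_orderOf_dvd_card' (G := G) 5 (by rw [hG]; norm_num)
  have hsH : s ∉ H := fun h => by
    have := Subgroup.orderOf_dvd_natCard H h
    rw [hs, h32] at this
    norm_num at this
  set M := H ⊔ Subgroup.zpowers s with hM
  have hMc : Nat.card M = 160 := by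
    rw [hM, Coprime.card_sup_of_coprime Subgroup.le_normalizer_of_normal (by
      rw [h32, Nat.card_zpowers, hs]; norm_num), h32, Nat.card_zpowers, hs]
  have hMi : M.index = 2 := by
    have := M.card_mul_index
    rw [hMc, hG] at this
    omega
  haveI hMn : M.Normal := Subgroup.normal_of_index_eq_two hMi
  -- a subgroup containing `H` and a further element of `M` contains `s`
  have hgenM : ∀ L : Subgroup G, H ≤ L → ∀ c ∈ M, c ∈ L → c ∉ H → s ∈ L := by
    intro L hHL c hcM hcL hcH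
    have hle : H ≤ L ⊓ M := le_inf hHL le_sup_left
    have h1 : Nat.card H ∣ Nat.card ↥(L ⊓ M) := Subgroup.card_dvd_of_le hle
    have h2 : Nat.card ↥(L ⊓ M) ∣ 160 := hMc ▸ Subgroup.card_dvd_of_le inf_le_right
    obtain ⟨k, hk⟩ := h1
    rw [h32] at hk
    rw [hk, show (160 : ℕ) = 32 * 5 by norm_num] at h2
    rcases (Nat.dvd_prime (show Nat.Prime 5 by norm_num)).mp (Nat.dvd_of_mul_dvd_mul_left (by norm_num) h2) with e | e
    · have : L ⊓ M = H := (Subgroup.eq_of_le_of_card_ge hle (by rw [hk, e, h32])).symm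
      exact absurd (this.le ⟨hcL, hcM⟩) hcH
    · have : L ⊓ M = M := Subgroup.eq_of_le_of_card_ge inf_le_right (by rw [hk, e, hMc])
      exact (this.ge (Subgroup.mem_sup_right (Subgroup.mem_zpowers s))).1
  -- no nontrivial centralizer outside the centre
  have hCH : Subgroup.centralizer (H : Set G) ≤ Z0 := by
    set C := Subgroup.centralizer (H : Set G) with hC
    haveI : C.Normal := Subgroup.normal_centralizer
    have hCinH : ∀ x ∈ C, x ∈ H → x ∈ Z0 := fun x hx hxH => hmemZ0 hxH fun y hy =>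
      (Subgroup.mem_centralizer_iff.mp hx y hy).symm
    by_cases hsC : s ∈ C
    · exfalso
      haveI : IsCyclic (Subgroup.zpowers s) := inferInstance
      letI : CommGroup (Subgroup.zpowers s) := IsCyclic.commGroup
      have hc : ∀ (a : H) (b : Subgroup.zpowers s), Commute (a : G) b := fun a b => by
        obtain ⟨k, hk⟩ := Subgroup.mem_zpowers_iff.mp b.2
        rw [← hk]
        exact (show Commute (a : G) s from Subgroup.mem_centralizer_iff.mp hsC a a.2).zpow_right k
      let φ : ↥H × ↥(Subgroup.zpowers s) →* G := MonoidHom.noncommCoprod H.subtype (Subgroup.zpowers s).subtype hc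
      have hr : φ.range = M := by
        rw [show φ.range = H.subtype.range ⊔ (Subgroup.zpowers s).subtype.range from MonoidHom.noncommCoprod_range _ _ _,
          H.range_subtype, Subgroup.range_subtype]
      haveI : Group.IsNilpotent M := hr ▸ Group.nilpotent_of_surjective φ.rangeRestrict φ.rangeRestrict_surjective
      exact hsH (hHF M hMn inferInstance (Subgroup.mem_sup_right (Subgroup.mem_zpowers s)))
    · have h5 : ¬ 5 ∣ Nat.card C := by
        intro h
        obtain ⟨c, hc⟩ := exists_prime_orderOf_dvd_card' (G := C) 5 h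
        rw [← Subgroup.orderOf_coe] at hc
        have hcH : (c : G) ∉ H := fun h => by
          have := Subgroup.orderOf_dvd_natCard H h
          rw [hc, h32] at this
          norm_num at this
        have hcM : (c : G) ∈ M := by
          refine (QuotientGroup.eq_one_iff (c : G)).mp (orderOf_eq_one_iff.mp ?_)
          refine Nat.eq_one_of_dvd_coprimes (show Nat.Coprime 5 2 by norm_num)
            (hc ▸ orderOf_map_dvd (QuotientGroup.mk' M) (c : G)) ?_
          exact (orderOf_dvd_natCard _).trans (dvd_of_eq ((Subgroup.index_eq_card M).symm.trans hMi))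
        obtain ⟨a, ha, b, hb, hab⟩ := Coprime.exists_mul_of_mem_sup (N := H) (H := C) Subgroup.le_normalizer_of_normal
          (hgenM (H ⊔ C) le_sup_left c hcM (Subgroup.mem_sup_right c.2) hcH)
        -- the fifth power of `b` shows that `a` is central
        have haC : a ^ 5 ∈ C := by
          have hcab : Commute a b := Subgroup.mem_centralizer_iff.mp hb a ha
          have h1 : a ^ 5 * b ^ 5 = 1 := by rw [← hcab.mul_pow, ← hab, ← hs, pow_orderOf_eq_one]
          rw [eq_inv_of_mul_eq_one_left h1]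
          exact C.inv_mem (C.pow_mem hb 5)
        have haC' : a ∈ C := by
          have h16 : a ^ 4 = 1 := by
            have h2 := hsq a ha
            rcases hzonly _ h2 with e | e
            · rw [show (4 : ℕ) = 2 * 2 from rfl, pow_mul, pow_two a, e, one_pow]
            · rw [show (4 : ℕ) = 2 * 2 from rfl, pow_mul, pow_two a, e, pow_two, hzz]
          rwa [pow_succ, h16, one_mul] at haC
        exact hsC (hab ▸ C.mul_mem haC' hb)
      have h2 : IsPGroup 2 C := by
        have hd : Nat.card C ∣ 2 ^ 6 * 5 := by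
          rw [show (2 : ℕ) ^ 6 * 5 = 320 by norm_num, ← hG]; exact Subgroup.card_subgroup_dvd_card C
        have hd' := (((Nat.Prime.coprime_iff_not_dvd (show Nat.Prime 5 by norm_num)).mpr h5).symm).dvd_of_dvd_mul_right hd
        obtain ⟨k, -, hk⟩ := (Nat.dvd_prime_pow Nat.prime_two).mp hd'
        exact IsPGroup.of_card hk
      exact fun x hx => hCinH x hx (hHO C inferInstance h2 hx)
  -- `s` fixes nothing in the quotient
  set sb := f s with hsb
  have hAs : IsPGroup 5 (Subgroup.zpowers s) := IsPGroup.of_card (n := 1) (by rw [Nat.card_zpowers, hs, pow_one])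
  have hfixs : ∀ u ∈ Hb, sb * u * sb⁻¹ = u → u = 1 := by
    set F := Hb ⊓ Subgroup.centralizer ({sb} : Set (G ⧸ Z0)) with hF
    suffices hF1 : Nat.card F = 1 by
      intro u hu h
      have : u ∈ F := ⟨hu, Subgroup.mem_centralizer_singleton_iff.mpr (mul_inv_eq_iff_eq_mul.mp h).symm⟩
      rwa [Subgroup.card_eq_one.mp hF1, Subgroup.mem_bot] at this
    letI : MulAction (Subgroup.zpowers s) Hb :=
      MulAction.compHom Hb (((MulAut.conjNormal : G ⧸ Z0 →* MulAut Hb).comp f).comp (Subgroup.zpowers s).subtype)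
    have hsmul : ∀ (a : Subgroup.zpowers s) (u : Hb), ((a • u : Hb) : G ⧸ Z0) = f a * u * (f a)⁻¹ := fun a u => rfl
    have hmod := hAs.card_modEq_card_fixedPoints Hb
    have hfp : Nat.card (MulAction.fixedPoints (Subgroup.zpowers s) Hb) = Nat.card F := by
      refine Nat.card_congr ((Equiv.subtypeEquivRight (fun u : Hb => ⟨fun h => ?_, fun h => ?_⟩)).trans
        (Subgroup.subgroupOfEquivOfLe (inf_le_left : F ≤ Hb)).toEquiv)
      · show (u : G ⧸ Z0) ∈ F
        refine ⟨u.2, Subgroup.mem_centralizer_singleton_iff.mpr ?_⟩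
        have := congrArg Subtype.val (h ⟨s, Subgroup.mem_zpowers s⟩)
        rw [hsmul] at this
        exact (mul_inv_eq_iff_eq_mul.mp this).symm
      · intro a
        refine Subtype.ext ?_
        rw [hsmul]
        obtain ⟨k, hk⟩ := Subgroup.mem_zpowers_iff.mp a.2
        rw [← hk, map_zpow]
        have hc : Commute (u : G ⧸ Z0) sb := Subgroup.mem_centralizer_singleton_iff.mp (show (u : G ⧸ Z0) ∈ F from h).2
        rw [(hc.zpow_right k).symm.eq, mul_inv_cancel_right]
    rw [hfp, hHbc] at hmod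
    obtain ⟨j, hj4, hj⟩ := (Nat.dvd_prime_pow Nat.prime_two).mp
      ((show (2 : ℕ) ^ 4 = 16 by norm_num) ▸ hHbc ▸ Subgroup.card_dvd_of_le (inf_le_left : F ≤ Hb))
    rw [hj] at hmod ⊢
    obtain rfl | rfl : j = 0 ∨ j = 4 := by
      interval_cases j <;> first | omega | norm_num [Nat.ModEq] at hmod
    · rfl
    exfalso
    -- `s` centralizes the Frattini quotient
    have hFH : F = Hb := Subgroup.eq_of_le_of_card_ge inf_le_left (by rw [hj, hHbc]; norm_num)
    have htriv : ∀ a ∈ Subgroup.zpowers s, ∀ k ∈ H, a * k * a⁻¹ * k⁻¹ ∈ (frattini H).map H.subtype := by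
      intro a ha k hk
      rw [hfr]
      refine hf1.mp ?_
      obtain ⟨i, rfl⟩ := Subgroup.mem_zpowers_iff.mp ha
      have hc : Commute (f k) sb := Subgroup.mem_centralizer_singleton_iff.mp (hFH.ge ⟨k, hk, rfl⟩).2
      rw [map_mul, map_mul, map_mul, map_inv, map_inv, map_zpow, (hc.zpow_right i).symm.eq,
        mul_inv_cancel_right, mul_inv_cancel]
    have hsC := Coprime.le_centralizer_of_frattini (A := Subgroup.zpowers s) (K := H) (by
      rw [Nat.card_zpowers, hs, hfr, hZ2]; norm_num) htriv (Subgroup.mem_zpowers s)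
    exact hsH (hZ0H (hCH hsC))
  have hinvW : ∀ W : Subgroup (G ⧸ Z0), W ≤ Hb → (∀ u ∈ W, sb * u * sb⁻¹ ∈ W) → W = ⊥ ∨ W = Hb := by
    intro W hW hinv
    have hpow : ∀ i : ℕ, ∀ u ∈ W, sb ^ i * u * (sb ^ i)⁻¹ ∈ W := by
      intro i
      induction i with
      | zero => intro u hu; simpa using hu
      | succ i ih =>
        intro u hu
        have := hinv _ (ih u hu)
        rw [pow_succ']
        convert this using 1
        group
    have hconj : ∀ a ∈ Subgroup.zpowers s, ∀ u ∈ W, f a * u * (f a)⁻¹ ∈ W := by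
      intro a ha u hu
      rw [mem_zpowers_iff_mem_range_orderOf, Finset.mem_image] at ha
      obtain ⟨i, -, rfl⟩ := ha
      rw [map_pow]; exact hpow i u hu
    letI : MulAction (Subgroup.zpowers s) W :=
      { smul := fun a u => ⟨f a * u * (f a)⁻¹, hconj a a.2 u u.2⟩
        one_smul := fun u => Subtype.ext (by show f 1 * u * (f 1)⁻¹ = (u : G ⧸ Z0); simp)
        mul_smul := fun a b u => Subtype.ext (by
          show f (a * b) * u * (f (a * b))⁻¹ = f a * (f b * u * (f b)⁻¹) * (f a)⁻¹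
          rw [map_mul]; group) }
    have hmod := hAs.card_modEq_card_fixedPoints W
    have hfp : Nat.card (MulAction.fixedPoints (Subgroup.zpowers s) W) = 1 := by
      refine Nat.card_eq_one_iff_unique.mpr ⟨⟨fun x y => ?_⟩, ⟨⟨1, fun a => Subtype.ext ?_⟩⟩⟩
      · have key : ∀ w : MulAction.fixedPoints (Subgroup.zpowers s) W, ((w.1 : W) : G ⧸ Z0) = 1 := fun w =>
          hfixs _ (hW w.1.2) (congrArg Subtype.val (w.2 ⟨s, Subgroup.mem_zpowers s⟩))
        exact Subtype.ext (Subtype.ext ((key x).trans (key y).symm))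
      · show f (a : G) * 1 * (f (a : G))⁻¹ = 1
        group
    rw [hfp] at hmod
    obtain ⟨j, hj4, hj⟩ := (Nat.dvd_prime_pow Nat.prime_two).mp
      ((show (2 : ℕ) ^ 4 = 16 by norm_num) ▸ hHbc ▸ Subgroup.card_dvd_of_le hW)
    rw [hj] at hmod
    obtain rfl | rfl : j = 0 ∨ j = 4 := by
      interval_cases j <;> first | omega | norm_num [Nat.ModEq] at hmod
    · exact Or.inl (Subgroup.card_eq_one.mp (by rw [hj, pow_zero]))
    · exact Or.inr (Subgroup.eq_of_le_of_card_ge hW (by rw [hj, hHbc]; norm_num))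
  -- V contains z and a further involution
  have hzV : z ∈ V := by
    by_contra hzV
    set A := V ⊔ Z0 with hA
    have hAH : A ≤ H := sup_le (hV.trans inf_le_left) hZ0H
    have hAc : Nat.card A = 8 := by
      have h1 := Coprime.card_sup_mul_card_inf (N := Z0) (H := V) Subgroup.le_normalizer_of_normal
      have h2 : Z0 ⊓ V = ⊥ := by
        rw [eq_bot_iff]
        rintro e ⟨he, heV⟩
        rcases hzonly e he with rfl | rfl
        · exact one_mem _
        · exact absurd heV hzV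
      rw [h2, Subgroup.card_bot, mul_one, hZ0c, hV4, sup_comm] at h1
      exact h1
    have hAe : Cfsg.IsElementaryAbelian 2 A := by
      have hmem : ∀ a ∈ A, ∃ v ∈ V, ∃ e ∈ Z0, a = v * e := fun a ha =>
        Coprime.exists_mul_of_mem_sup (N := V) (H := Z0)
          (fun e he => Subgroup.centralizer_le_normalizer _ (Subgroup.mem_centralizer_iff.mpr fun y hy =>
            (hZ0comm e he y (hV hy).1).eq.symm)) ha
      refine ⟨⟨⟨fun a b => Subtype.ext ?_⟩⟩, fun a ha => ?_⟩
      · obtain ⟨v, hv, e, he, hae⟩ := hmem a a.2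
        obtain ⟨w, hw, e', he', hbe⟩ := hmem b b.2
        show (a : G) * b = b * a
        rw [hae, hbe]
        have c1 : Commute v w := congrArg Subtype.val (hVe.1.is_comm.comm (⟨v, hv⟩ : V) ⟨w, hw⟩)
        exact ((c1.mul_right (hZ0comm e' he' v (hV hv).1).symm).mul_left
          ((hZ0comm e he w (hV hw).1).mul_right (hZ0comm e he e' (hZ0H he')))).eq
      · obtain ⟨v, hv, e, he, rfl⟩ := hmem a ha
        rw [(hZ0comm e he v (hV hv).1).symm.mul_pow, hVe.2 v hv, one_mul, pow_two]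
        rcases hzonly e he with rfl | rfl
        · rw [one_mul]
        · exact hzz
    have := hminus A hAH hAe
    omega
  have hZV : Z0 ≤ V := fun e he => by
    rcases hzonly e he with rfl | rfl
    · exact one_mem _
    · exact hzV
  obtain ⟨v, hvV, hvZ⟩ : ∃ v ∈ V, v ∉ Z0 := by
    by_contra h
    push Not at h
    have := Subgroup.card_le_of_le (show V ≤ Z0 from h)
    omega
  have hvH : v ∈ H := (hV hvV).1
  have hvb : f v ≠ 1 := fun h => hvZ (hf1.mp h)
  -- generators of the quotient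
  set W := Subgroup.closure (Set.range fun i : Fin 4 => sb ^ (i : ℕ) * f v * (sb ^ (i : ℕ))⁻¹) with hW
  have hsb5 : sb ^ 5 = 1 := by rw [hsb, ← map_pow, ← hs, pow_orderOf_eq_one, map_one]
  have hconjH : ∀ (x : G ⧸ Z0) (i : ℕ), x ∈ Hb → sb ^ i * x * (sb ^ i)⁻¹ ∈ Hb := fun x i hx =>
    (inferInstance : Hb.Normal).conj_mem x hx _
  have hWH : W = Hb := by
    have hWle : W ≤ Hb := by
      rw [hW, Subgroup.closure_le]
      rintro _ ⟨i, rfl⟩
      exact hconjH _ _ ⟨v, hvH, rfl⟩
    set w : ℕ → G ⧸ Z0 := fun i => sb ^ i * f v * (sb ^ i)⁻¹ with hw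
    have hwH : ∀ i, w i ∈ Hb := fun i => hconjH _ _ ⟨v, hvH, rfl⟩
    have hws : ∀ i, sb * w i * sb⁻¹ = w (i + 1) := fun i => by
      simp only [hw, pow_succ']; group
    have hwW : ∀ i, i < 4 → w i ∈ W := fun i hi => Subgroup.subset_closure ⟨⟨i, hi⟩, rfl⟩
    have hprod : w 0 * w 1 * w 2 * w 3 * w 4 = 1 := by
      refine hfixs _ (Hb.mul_mem (Hb.mul_mem (Hb.mul_mem (Hb.mul_mem (hwH 0) (hwH 1)) (hwH 2)) (hwH 3)) (hwH 4)) ?_
      have h5 : w 5 = w 0 := by simp [hw, hsb5]
      calc sb * (w 0 * w 1 * w 2 * w 3 * w 4) * sb⁻¹ = (sb * w 0 * sb⁻¹) * (sb * w 1 * sb⁻¹) * (sb * w 2 * sb⁻¹) *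
            (sb * w 3 * sb⁻¹) * (sb * w 4 * sb⁻¹) := by group
        _ = w 1 * w 2 * w 3 * w 4 * w 0 := by simp only [hws]; rw [h5]
        _ = w 0 * (w 1 * w 2 * w 3 * w 4) :=
          (hcm _ (Hb.mul_mem (Hb.mul_mem (Hb.mul_mem (hwH 1) (hwH 2)) (hwH 3)) (hwH 4)) _ (hwH 0)).eq
        _ = _ := by group
    have hw4 : w 4 ∈ W := by
      have : w 4 = (w 0 * w 1 * w 2 * w 3)⁻¹ := eq_inv_of_mul_eq_one_right hprod
      rw [this]
      exact W.inv_mem (W.mul_mem (W.mul_mem (W.mul_mem (hwW 0 (by omega)) (hwW 1 (by omega))) (hwW 2 (by omega))) (hwW 3 (by omega)))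
    have hcomap : W ≤ W.comap (MulAut.conj sb).toMonoidHom := by
      nth_rw 1 [hW]
      rw [Subgroup.closure_le]
      rintro _ ⟨i, rfl⟩
      show sb * w (i : ℕ) * sb⁻¹ ∈ W
      rw [hws]
      obtain h | h : (i : ℕ) + 1 < 4 ∨ (i : ℕ) + 1 = 4 := by omega
      · exact hwW _ h
      · rw [h]; exact hw4
    refine (hinvW W hWle fun u hu => hcomap hu).resolve_left fun hb => hvb ?_
    have := hwW 0 (by omega)
    rw [hb, Subgroup.mem_bot] at this
    simpa [hw] using this
  -- the kernel of the action on the quotient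
  set K := (Subgroup.centralizer (Hb : Set (G ⧸ Z0))).comap f with hK
  have hHK : H ≤ K := fun h hh => Subgroup.mem_centralizer_iff.mpr fun u hu => hcm u hu _ ⟨h, hh, rfl⟩
  have hKH : K = H := by
    refine (Subgroup.eq_of_le_of_card_ge hHK ?_).symm
    rw [h32]
    let g4 : Fin 4 → G := fun i => s ^ (i : ℕ) * v * (s ^ (i : ℕ))⁻¹
    have hg4 : ∀ i, g4 i ∈ H := fun i => (inferInstance : H.Normal).conj_mem v hvH _
    have hval : ∀ (k : K) (i : Fin 4), (k : G) * g4 i * (k : G)⁻¹ * (g4 i)⁻¹ ∈ Z0 := by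
      intro k i
      refine hf1.mp ?_
      have h := Subgroup.mem_centralizer_iff.mp k.2 _ ⟨g4 i, hg4 i, rfl⟩
      rw [map_mul, map_mul, map_mul, map_inv, map_inv, ← h, mul_inv_cancel_right, mul_inv_cancel]
    let Ψ : K → (Fin 4 → Z0) := fun k i => ⟨_, hval k i⟩
    have hfib : ∀ k k' : K, Ψ k = Ψ k' → (k : G)⁻¹ * k' ∈ Z0 := by
      intro k k' he
      refine hCH (Subgroup.mem_centralizer_iff.mpr fun y hy => ?_)
      set L := H ⊓ Subgroup.centralizer ({(k : G)⁻¹ * k'} : Set G) with hL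
      have hLH : L = H := by
        refine Subgroup.eq_of_le_of_card_ge inf_le_left ?_
        have hZL : Z0 ≤ L := fun e he' => ⟨hZ0H he', Subgroup.mem_centralizer_singleton_iff.mpr (by
          rcases hzonly e he' with rfl | rfl
          · rw [one_mul, mul_one]
          · exact (mul_inv_eq_iff_eq_mul.mp (hzc ((k : G)⁻¹ * k'))).symm)⟩
        have hgL : ∀ i, g4 i ∈ L := fun i => ⟨hg4 i, Subgroup.mem_centralizer_singleton_iff.mpr (by
          have h1 : (k : G) * g4 i * (k : G)⁻¹ * (g4 i)⁻¹ = (k' : G) * g4 i * (k' : G)⁻¹ * (g4 i)⁻¹ :=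
            congrArg Subtype.val (congrFun he i)
          have h2 := mul_right_cancel h1
          calc g4 i * ((k : G)⁻¹ * k') = (k : G)⁻¹ * ((k : G) * g4 i * (k : G)⁻¹) * k' := by group
            _ = (k : G)⁻¹ * ((k' : G) * g4 i * (k' : G)⁻¹) * k' := by rw [h2]
            _ = (k : G)⁻¹ * k' * g4 i := by group)⟩
        have hmapL : L.map f = Hb := by
          refine le_antisymm (Subgroup.map_mono inf_le_left) ?_
          rw [← hWH, hW, Subgroup.closure_le]
          rintro _ ⟨i, rfl⟩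
          exact ⟨g4 i, hgL i, by simp [g4, hsb]⟩
        have h := Cores.card_map_mul_card_inf_ker f L
        rw [hmapL, hHbc, hf, QuotientGroup.ker_mk', inf_eq_right.mpr hZL, hZ0c] at h
        omega
      exact Subgroup.mem_centralizer_singleton_iff.mp (hLH.ge hy).2
    haveI : Fintype K := Fintype.ofFinite K
    haveI : Fintype Z0 := Fintype.ofFinite Z0
    calc Nat.card K ≤ Nat.card ((Fin 4 → Z0) × Z0) := by
          let k0 : (Fin 4 → Z0) → K := fun y => if h : ∃ k, Ψ k = y then h.choose else 1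
          have hk0 : ∀ k : K, Ψ (k0 (Ψ k)) = Ψ k := fun k => by
            have h : ∃ k', Ψ k' = Ψ k := ⟨k, rfl⟩
            simp only [k0, dif_pos h]
            exact h.choose_spec
          refine Nat.card_le_card_of_injective (fun k => (Ψ k, ⟨_, hfib (k0 (Ψ k)) k (hk0 k)⟩)) ?_
          intro a b hab
          simp only [Prod.mk.injEq, Subtype.mk.injEq] at hab
          obtain ⟨h1, h2⟩ := hab
          rw [h1] at h2
          exact Subtype.ext (mul_left_cancel h2)
      _ = 32 := by rw [Nat.card_prod, Nat.card_fun, hZ0c, Nat.card_fin]; norm_num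
  -- fixed points of `T` in the quotient
  set tb := f T with htb
  have htb2 : tb⁻¹ = tb := inv_eq_of_mul_eq_one_right (by rw [htb, ← map_mul, hT2, map_one])
  set U := Hb ⊓ Subgroup.centralizer ({tb} : Set (G ⧸ Z0)) with hU
  have hvU : f v ∈ U := ⟨⟨v, hvH, rfl⟩, Subgroup.mem_centralizer_singleton_iff.mpr (by
    rw [htb, ← map_mul, ← map_mul]
    exact congrArg f (Subgroup.mem_centralizer_singleton_iff.mp (hV hvV).2))⟩
  have hUne : U ≠ Hb := fun e => hTH (hKH.le (Subgroup.mem_centralizer_iff.mpr fun u hu =>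
    Subgroup.mem_centralizer_singleton_iff.mp (e.ge hu).2))
  have hU' : ∀ u ∈ U, sb * u * sb⁻¹ ∈ U → u = 1 := by
    by_cases hcase : s * T * s⁻¹ * T⁻¹ ∈ H
    · -- `U` would be invariant
      exfalso
      refine hUne ((hinvW U inf_le_left fun u hu => ?_).resolve_left fun hb => hvb (by
        rwa [hb, Subgroup.mem_bot] at hvU))
      refine ⟨(inferInstance : Hb.Normal).conj_mem u hu.1 sb, Subgroup.mem_centralizer_singleton_iff.mpr ?_⟩
      have h1 : Commute (sb * u * sb⁻¹) (f (s * T * s⁻¹ * T⁻¹)) :=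
        hcm _ ((inferInstance : Hb.Normal).conj_mem u hu.1 sb) _ ⟨_, hcase, rfl⟩
      have h2 : Commute u tb := Subgroup.mem_centralizer_singleton_iff.mp hu.2
      have h3 : Commute (sb * u * sb⁻¹) (sb * tb * sb⁻¹) := by
        show _ * _ = _ * _
        calc sb * u * sb⁻¹ * (sb * tb * sb⁻¹) = sb * (u * tb) * sb⁻¹ := by group
          _ = sb * (tb * u) * sb⁻¹ := by rw [h2.eq]
          _ = _ := by group
      have h4 := h1.inv_right.mul_right h3
      rwa [show (f (s * T * s⁻¹ * T⁻¹))⁻¹ * (sb * tb * sb⁻¹) = tb by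
        simp only [map_mul, map_inv, hsb, htb]; group] at h4
    · intro u hu hsu
      set u' := sb * u * sb⁻¹ with hu'
      set L := (Subgroup.centralizer ({u'} : Set (G ⧸ Z0))).comap f with hL
      have hu'H : u' ∈ Hb := hsu.1
      have hmemL : ∀ {g : G}, Commute (f g) u' → g ∈ L := fun {g} h => Subgroup.mem_centralizer_singleton_iff.mpr h.eq
      have hHL : H ≤ L := fun h hh => hmemL (hcm _ ⟨h, hh, rfl⟩ _ hu'H)
      have hTL : T ∈ L := hmemL (show Commute u' tb from Subgroup.mem_centralizer_singleton_iff.mp hsu.2).symm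
      have hsTL : s * T * s⁻¹ ∈ L := hmemL (by
        have h2 : Commute u tb := Subgroup.mem_centralizer_singleton_iff.mp hu.2
        rw [hu', map_mul, map_mul, map_inv]
        show _ * _ = _ * _
        calc sb * tb * sb⁻¹ * (sb * u * sb⁻¹) = sb * (tb * u) * sb⁻¹ := by group
          _ = sb * (u * tb) * sb⁻¹ := by rw [h2.eq]
          _ = _ := by simp only [hsb, htb]; group)
      have hcM : s * T * s⁻¹ * T⁻¹ ∈ M := by
        rw [show s * T * s⁻¹ * T⁻¹ = s * (T * s⁻¹ * T⁻¹) by group]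
        exact M.mul_mem (Subgroup.mem_sup_right (Subgroup.mem_zpowers s))
          (hMn.conj_mem _ (M.inv_mem (Subgroup.mem_sup_right (Subgroup.mem_zpowers s))) T)
      have hsL := hgenM L hHL _ hcM (L.mul_mem hsTL (L.inv_mem hTL)) hcase
      have h1 : sb * u' = u' * sb := Subgroup.mem_centralizer_singleton_iff.mp hsL
      have h1' : u' = 1 := hfixs u' hu'H (by rw [h1, mul_inv_cancel_right])
      rwa [hu', mul_inv_eq_one, mul_eq_left] at h1'
  have hUc : Nat.card U ≤ 4 := by
    have hinj : Function.Injective (fun p : U × U => (⟨(p.1 : G ⧸ Z0) * (sb * p.2 * sb⁻¹),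
        Hb.mul_mem p.1.2.1 ((inferInstance : Hb.Normal).conj_mem _ p.2.2.1 sb)⟩ : Hb)) := by
      rintro ⟨a, b⟩ ⟨c, d⟩ h
      have h' : (a : G ⧸ Z0) * (sb * b * sb⁻¹) = c * (sb * d * sb⁻¹) := congrArg Subtype.val h
      have h1 : sb * ((b : G ⧸ Z0) * (d : G ⧸ Z0)⁻¹) * sb⁻¹ = (a : G ⧸ Z0)⁻¹ * c := by
        rw [show sb * ((b : G ⧸ Z0) * (d : G ⧸ Z0)⁻¹) * sb⁻¹ = (a : G ⧸ Z0)⁻¹ * ((a : G ⧸ Z0) * (sb * b * sb⁻¹)) * (sb * d * sb⁻¹)⁻¹ by group, h']
        group
      have h2 := hU' _ (U.mul_mem b.2 (U.inv_mem d.2)) (h1 ▸ U.mul_mem (U.inv_mem a.2) c.2)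
      rw [h2, mul_one, mul_inv_cancel, eq_comm, inv_mul_eq_one] at h1
      exact Prod.ext (Subtype.ext h1) (Subtype.ext (mul_inv_eq_one.mp h2))
    have h := Nat.card_le_card_of_injective _ hinj
    rw [Nat.card_prod, hHbc] at h
    nlinarith
  -- the centralizer
  set C := H ⊓ Subgroup.centralizer ({T} : Set G) with hC
  have hCmap : C.map f ≤ U := by
    rintro _ ⟨x, hx, rfl⟩
    refine ⟨⟨x, hx.1, rfl⟩, Subgroup.mem_centralizer_singleton_iff.mpr ?_⟩
    rw [htb, ← map_mul, ← map_mul]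
    exact congrArg f (Subgroup.mem_centralizer_singleton_iff.mp hx.2)
  refine (Subgroup.eq_of_le_of_card_ge hV ?_).symm
  by_contra hgt
  have hcard := Cores.card_map_mul_card_inf_ker f C
  rw [hf, QuotientGroup.ker_mk', inf_eq_right.mpr (hZV.trans hV), hZ0c, ← hf] at hcard
  have hCU : C.map f = U := Subgroup.eq_of_le_of_card_ge hCmap (by
    have := Subgroup.card_le_of_le hCmap
    obtain ⟨j, hj⟩ := (hHb2 (hCmap.trans inf_le_left)).exists_card_eq
    rcases lt_or_ge j 2 with h | h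
    · have : 2 ^ j ≤ 2 ^ 1 := Nat.pow_le_pow_right two_pos (by omega)
      omega
    · have : 2 ^ 2 ≤ 2 ^ j := Nat.pow_le_pow_right two_pos h
      omega)
  set a := s * v * s⁻¹ with ha
  have haH : a ∈ H := (inferInstance : H.Normal).conj_mem v hvH s
  have haU : f a ∉ U := fun h => hvb (hU' _ hvU (by
    rwa [ha, map_mul, map_mul, map_inv] at h))
  set a' := T * a * T⁻¹ with ha'
  have ha'H : a' ∈ H := (inferInstance : H.Normal).conj_mem a haH T
  have hTi : T⁻¹ = T := inv_eq_of_mul_eq_one_right hT2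
  have haa : a * a = 1 := by
    rw [ha, show s * v * s⁻¹ * (s * v * s⁻¹) = s * (v * v) * s⁻¹ by group, ← pow_two, hVe.2 v hvV]
    group
  have ha'a' : a' * a' = 1 := by
    rw [ha', show T * a * T⁻¹ * (T * a * T⁻¹) = T * (a * a) * T⁻¹ by group, haa]; group
  have hTa' : T * a' * T⁻¹ = a := by
    rw [ha', show T * (T * a * T⁻¹) * T⁻¹ = (T * T) * a * (T * T)⁻¹ by group, hT2, inv_one, one_mul, mul_one]
  have hww : f (a * a') ∈ U := by
    refine ⟨⟨_, H.mul_mem haH ha'H, rfl⟩, Subgroup.mem_centralizer_singleton_iff.mpr ?_⟩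
    have h1 : tb * f (a * a') * tb⁻¹ = f (a' * a) := by
      rw [htb, ← map_inv, ← map_mul, ← map_mul]
      congr 1
      rw [show T * (a * a') * T⁻¹ = (T * a * T⁻¹) * (T * a' * T⁻¹) by group, hTa']
    rw [map_mul f a' a, (hcm _ ⟨a', ha'H, rfl⟩ _ ⟨a, haH, rfl⟩).eq, ← map_mul] at h1
    exact (mul_inv_eq_iff_eq_mul.mp h1).symm
  obtain ⟨x, hx, hxe⟩ : f (a * a') ∈ C.map f := hCU.ge hww
  have hwC : a * a' ∈ C := by
    have h1 : x⁻¹ * (a * a') ∈ Z0 := hf1.mp (by rw [map_mul, map_inv, hxe, inv_mul_cancel])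
    have := C.mul_mem hx ((hZV.trans hV) h1)
    rwa [mul_inv_cancel_left] at this
  have hcaa : a * a' = a' * a := by
    have h1 := Subgroup.mem_centralizer_singleton_iff.mp hwC.2
    calc a * a' = (a * a') * T * T⁻¹ := by group
      _ = T * (a * a') * T⁻¹ := by rw [h1]
      _ = (T * a * T⁻¹) * (T * a' * T⁻¹) := by group
      _ = a' * a := by rw [hTa']
  -- an elementary abelian subgroup of order eight
  set A := Subgroup.closure ({z, a, a'} : Set G) with hA
  have hgensH : ∀ g ∈ ({z, a, a'} : Set G), g ∈ H := by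
    rintro g (rfl | rfl | rfl)
    exacts [hZ0H hzZ, haH, ha'H]
  have hcz : ∀ g : G, Commute z g := fun g => (mul_inv_eq_iff_eq_mul.mp (hzc g)).symm
  haveI hAc : IsMulCommutative A := Subgroup.isMulCommutative_closure (by
    rintro x (rfl | rfl | rfl) y (rfl | rfl | rfl)
    all_goals first
      | rfl
      | exact (hcz _).eq
      | exact (hcz _).eq.symm
      | exact hcaa
      | exact hcaa.symm)
  have hA2 : ∀ g ∈ A, g ^ 2 = 1 := by
    intro g hg
    induction hg using Subgroup.closure_induction with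
    | mem x hx => rcases hx with rfl | rfl | rfl <;> rw [pow_two] <;> assumption
    | one => exact one_pow 2
    | mul x y hx hy e1 e2 =>
      rw [(show Commute x y from congrArg Subtype.val (hAc.is_comm.comm (⟨x, hx⟩ : A) ⟨y, hy⟩)).mul_pow, e1, e2, one_mul]
    | inv x _ e => rw [inv_pow, e, inv_one]
  have hA4 := hminus A ((Subgroup.closure_le H).mpr hgensH) ⟨hAc, hA2⟩
  have hfz : f z = 1 := hf1.mpr hzZ
  have hfa : f a ≠ 1 := fun h => haU (by rw [h]; exact one_mem U)
  have hfaa : f a' ≠ f a := fun h => haU ⟨⟨a, haH, rfl⟩, Subgroup.mem_centralizer_singleton_iff.mpr (by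
    have h1 : tb * f a * tb⁻¹ = f a := by rw [htb, ← map_inv, ← map_mul, ← map_mul, ← h]
    exact (mul_inv_eq_iff_eq_mul.mp h1).symm)⟩
  have hfa' : f a' ≠ 1 := fun h => hfa (by
    rw [ha', map_mul, map_mul, map_inv, mul_inv_eq_one, mul_eq_left] at h
    exact h)
  have hzA : z ∈ A := Subgroup.subset_closure (by simp)
  have haA : a ∈ A := Subgroup.subset_closure (by simp)
  have ha'A : a' ∈ A := Subgroup.subset_closure (by simp)
  let pts : Fin 5 → A := ![1, ⟨z, hzA⟩, ⟨a, haA⟩, ⟨z * a, mul_mem hzA haA⟩, ⟨a', ha'A⟩]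
  have hpts : Function.Injective pts := by
    intro i j hij
    have h1 : ((pts i : A) : G) = (pts j : A) := congrArg Subtype.val hij
    have h2 := congrArg f h1
    fin_cases i <;> fin_cases j <;> simp [pts, hfz, hfa, hfa', hfaa, Ne.symm hfa, Ne.symm hfa', Ne.symm hfaa, hz1, Ne.symm hz1] at h1 h2 ⊢
  have := Nat.card_le_card_of_injective pts hpts
  rw [Nat.card_fin] at this
  omega

/-- Let G be a finite group of order 320 = 64·5 whose largest normal 2-subgroup H = O₂(G) equals the Fitting subgroup F(G) and is extraspecial of order 32 containing no elementary abelian subgroup of order 8 (so H is the central product of a quaternion group and a dihedral group of order 8). If T is an involution of G outside H whose centralizer in H contains an elementary abelian subgroup of order 4, then C_H(T) itself is elementary abelian of order 4. -/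
theorem result {G : Type*} [Group G] [Finite G]
    (hG : Nat.card G = 320) (hHF : Cfsg.pCore 2 G = Cfsg.fittingSubgroup G)
    (hex : Cfsg.IsExtraspecial 2 ↥(Cfsg.pCore 2 G)) (h32 : Nat.card ↥(Cfsg.pCore 2 G) = 32)
    (hminus : ∀ A : Subgroup G, A ≤ Cfsg.pCore 2 G → Cfsg.IsElementaryAbelian 2 A → Nat.card ↥A ≤ 4)
    (T : G) (hT : orderOf T = 2) (hTH : T ∉ Cfsg.pCore 2 G)
    (V : Subgroup G) (hV : V ≤ Cfsg.pCore 2 G ⊓ Subgroup.centralizer ({T} : Set G)) (hV4 : Nat.card ↥V = 4) (hVe : Cfsg.IsElementaryAbelian 2 V) :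
    Nat.card ↥(Cfsg.pCore 2 G ⊓ Subgroup.centralizer ({T} : Set G)) = 4 ∧
      Cfsg.IsElementaryAbelian 2 (Cfsg.pCore 2 G ⊓ Subgroup.centralizer ({T} : Set G)) := by
  haveI : Fact (Nat.Prime 2) := ⟨Nat.prime_two⟩
  haveI : (Cfsg.pCore 2 G).Normal := inferInstance
  have hC := main hG (Cfsg.pCore 2 G) (fun N hN hp => Cores.le_pCore hN hp)
    (fun N hN hn => hHF.symm ▸ Cores.le_fittingSubgroup hN hn) hex h32 hminus T
    (by rw [← pow_two, ← hT, pow_orderOf_eq_one]) hTH V hV hV4 hVe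
  rw [hC]
  exact ⟨hV4, hVe⟩

end Cfsg.Agent.S4405
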