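import Cfsg.Statements.S4406
import Mathlib

set_option autoImplicit false
open Cfsg

namespace Cfsg.Agent.S4406


set_option synthInstance.maxSize 1024 in
set_option synthInstance.maxHeartbeats 200000 in
theorem fact_inv : ∀ q a b : ↥(alternatingGroup (Fin 4)), q ^ 3 = 1 → q ≠ 1 → a ^ 2 = 1 → a ≠ 1 →
    b ^ 2 = 1 → b ≠ 1 → a ≠ b → q * a * q⁻¹ = b ∨ q⁻¹ * a * q = b := by decide +kernel

set_option synthInstance.maxSize 1024 in
set_option synthInstance.maxHeartbeats 200000 in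
theorem fact_rot : ∀ q v : ↥(alternatingGroup (Fin 4)), q ^ 3 = 1 → q ≠ 1 → v ^ 2 = 1 → v ≠ 1 →
    q * v * q⁻¹ ≠ v ∧ q * v * q⁻¹ ≠ 1 ∧ (q * v * q⁻¹) ^ 2 = 1 ∧
      v * (q * v * q⁻¹) = q * (q * v * q⁻¹) * q⁻¹ := by decide +kernel

theorem fact_four : ∀ a : ↥(alternatingGroup (Fin 4)), a ^ 4 = 1 → a ^ 2 = 1 := by decide +kernel

theorem fact_count :
    (Finset.univ.filter fun a : ↥(alternatingGroup (Fin 4)) => a ^ 2 = 1).card = 4 ∧
      (∃ v : ↥(alternatingGroup (Fin 4)), v ^ 2 = 1 ∧ v ≠ 1) ∧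
      Fintype.card ↥(alternatingGroup (Fin 4)) = 12 := by decide +kernel


/-- In the direct product P = A₄ × A₄, let X be the Sylow 2-subgroup, X₁ and X₂ its intersections with the two direct factors, Q a Sylow 3-subgroup and Q₁, Q₂ its intersections with the two factors. Then every subgroup B of X of order 4 either meets X₁ or X₂ nontrivially, or is normalized by one of the two subgroups of Q of order 3 other than Q₁ and Q₂. -/
theorem result
    (X : Sylow 2 (↥(alternatingGroup (Fin 4)) × ↥(alternatingGroup (Fin 4))))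
    (Q : Sylow 3 (↥(alternatingGroup (Fin 4)) × ↥(alternatingGroup (Fin 4))))
    (B : Subgroup (↥(alternatingGroup (Fin 4)) × ↥(alternatingGroup (Fin 4)))) (hBX : B ≤ (X : Subgroup _)) (hB4 : Nat.card ↥B = 4) :
    B ⊓ ((X : Subgroup _) ⊓ Subgroup.prod ⊤ ⊥) ≠ ⊥ ∨ B ⊓ ((X : Subgroup _) ⊓ Subgroup.prod ⊥ ⊤) ≠ ⊥ ∨
      ∃ R : Subgroup (↥(alternatingGroup (Fin 4)) × ↥(alternatingGroup (Fin 4))), R ≤ (Q : Subgroup _) ∧ Nat.card ↥R = 3 ∧
        R ≠ (Q : Subgroup _) ⊓ Subgroup.prod ⊤ ⊥ ∧ R ≠ (Q : Subgroup _) ⊓ Subgroup.prod ⊥ ⊤ ∧ R ≤ Subgroup.normalizer (B : Set _) := by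

  classical
  obtain ⟨hcount, ⟨v, hv2, hv1⟩, hc12⟩ := fact_count
  have hA : Nat.card ↥(alternatingGroup (Fin 4)) = 12 := by rw [Nat.card_eq_fintype_card]; exact hc12
  haveI := Fact.mk Nat.prime_three
  have hB2 : ∀ z ∈ B, z.1 ^ 2 = 1 ∧ z.2 ^ 2 = 1 := by
    intro z hz
    have h1 : (⟨z, hz⟩ : B) ^ Nat.card B = 1 := pow_card_eq_one'
    rw [hB4] at h1
    have h2 : z ^ 4 = 1 := by simpa using congrArg Subtype.val h1
    exact ⟨fact_four _ (congrArg Prod.fst h2), fact_four _ (congrArg Prod.snd h2)⟩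
  by_cases h1 : B ⊓ ((X : Subgroup (↥(alternatingGroup (Fin 4)) × ↥(alternatingGroup (Fin 4)))) ⊓ Subgroup.prod ⊤ ⊥) = ⊥
  swap
  · exact Or.inl h1
  by_cases h2 : B ⊓ ((X : Subgroup (↥(alternatingGroup (Fin 4)) × ↥(alternatingGroup (Fin 4)))) ⊓ Subgroup.prod ⊥ ⊤) = ⊥
  swap
  · exact Or.inr (Or.inl h2)
  right; right
  have hfst : ∀ z ∈ B, z.1 = 1 → z = 1 := by
    intro z hz hz1
    have : z ∈ B ⊓ ((X : Subgroup (↥(alternatingGroup (Fin 4)) × ↥(alternatingGroup (Fin 4)))) ⊓ Subgroup.prod ⊥ ⊤) :=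
      ⟨hz, hBX hz, Subgroup.mem_prod.mpr ⟨Subgroup.mem_bot.mpr hz1, Subgroup.mem_top _⟩⟩
    rwa [h2, Subgroup.mem_bot] at this
  have hsnd : ∀ z ∈ B, z.2 = 1 → z = 1 := by
    intro z hz hz1
    have : z ∈ B ⊓ ((X : Subgroup (↥(alternatingGroup (Fin 4)) × ↥(alternatingGroup (Fin 4)))) ⊓ Subgroup.prod ⊤ ⊥) :=
      ⟨hz, hBX hz, Subgroup.mem_prod.mpr ⟨Subgroup.mem_top _, Subgroup.mem_bot.mpr hz1⟩⟩
    rwa [h1, Subgroup.mem_bot] at this
  have hinj : ∀ z ∈ B, ∀ w ∈ B, z.1 = w.1 → z = w := by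
    intro z hz w hw he
    have := hfst (z * w⁻¹) (B.mul_mem hz (B.inv_mem hw)) (by simp [he])
    exact mul_inv_eq_one.mp this
  have hinj2 : ∀ z ∈ B, ∀ w ∈ B, z.2 = w.2 → z = w := by
    intro z hz w hw he
    have := hsnd (z * w⁻¹) (B.mul_mem hz (B.inv_mem hw)) (by simp [he])
    exact mul_inv_eq_one.mp this
  have hsurj : ∀ t : ↥(alternatingGroup (Fin 4)), t ^ 2 = 1 → ∃ z ∈ B, z.1 = t := by
    intro t ht
    let f : B → {a : ↥(alternatingGroup (Fin 4)) // a ^ 2 = 1} := fun z => ⟨z.1.1, (hB2 z.1 z.2).1⟩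
    have hf : Function.Injective f := fun z w e =>
      Subtype.ext (hinj z.1 z.2 w.1 w.2 (congrArg Subtype.val e))
    have hb : Function.Bijective f := (Nat.bijective_iff_injective_and_card f).mpr ⟨hf, by
      rw [hB4, Nat.card_eq_fintype_card, Fintype.card_subtype, hcount]⟩
    obtain ⟨z, hz⟩ := hb.2 ⟨t, ht⟩
    exact ⟨z.1, z.2, congrArg Subtype.val hz⟩
  -- structure of Q
  have hQ9 : Nat.card (Q : Subgroup (↥(alternatingGroup (Fin 4)) × ↥(alternatingGroup (Fin 4)))) = 9 := by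
    rw [Q.card_eq_multiplicity, Nat.card_prod, hA, show (12 * 12 : ℕ) = 3 ^ 2 * 16 by norm_num,
      Nat.factorization_mul (by norm_num) (by norm_num), Finsupp.add_apply,
      Nat.Prime.factorization_pow Nat.prime_three, Finsupp.single_eq_same,
      Nat.factorization_eq_zero_of_not_dvd (by norm_num)]
    norm_num
  have hproj : ∀ (f : ↥(alternatingGroup (Fin 4)) × ↥(alternatingGroup (Fin 4)) →* ↥(alternatingGroup (Fin 4))),
      Nat.card ((Q : Subgroup (↥(alternatingGroup (Fin 4)) × ↥(alternatingGroup (Fin 4)))).map f) ≤ 3 := by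
    intro f
    have hdA : Nat.card ((Q : Subgroup (↥(alternatingGroup (Fin 4)) × ↥(alternatingGroup (Fin 4)))).map f) ∣ 12 := hA ▸ Subgroup.card_subgroup_dvd_card _
    have hdQ : Nat.card ((Q : Subgroup (↥(alternatingGroup (Fin 4)) × ↥(alternatingGroup (Fin 4)))).map f) ∣ 9 := hQ9 ▸ Subgroup.card_map_dvd (H := (Q : Subgroup (↥(alternatingGroup (Fin 4)) × ↥(alternatingGroup (Fin 4))))) f
    exact Nat.le_of_dvd (by norm_num) (Nat.dvd_gcd hdA hdQ)
  set Q1 := (Q : Subgroup (↥(alternatingGroup (Fin 4)) × ↥(alternatingGroup (Fin 4)))).map (MonoidHom.fst (↥(alternatingGroup (Fin 4))) (↥(alternatingGroup (Fin 4)))) with hQ1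
  set Q2 := (Q : Subgroup (↥(alternatingGroup (Fin 4)) × ↥(alternatingGroup (Fin 4)))).map (MonoidHom.snd (↥(alternatingGroup (Fin 4))) (↥(alternatingGroup (Fin 4)))) with hQ2
  have hQle : (Q : Subgroup (↥(alternatingGroup (Fin 4)) × ↥(alternatingGroup (Fin 4)))) ≤ Q1.prod Q2 := fun z hz =>
    Subgroup.mem_prod.mpr ⟨⟨z, hz, rfl⟩, ⟨z, hz, rfl⟩⟩
  have hc : Nat.card ↥(Q1.prod Q2) = Nat.card Q1 * Nat.card Q2 := by
    rw [Nat.card_congr (Subgroup.prodEquiv Q1 Q2).toEquiv, Nat.card_prod]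
  have hc1 := hproj (MonoidHom.fst _ _)
  have hc2 := hproj (MonoidHom.snd _ _)
  rw [← hQ1] at hc1
  rw [← hQ2] at hc2
  have hge : 9 ≤ Nat.card Q1 * Nat.card Q2 := by
    rw [← hc, ← hQ9]; exact Subgroup.card_le_of_le hQle
  have hmul := Nat.mul_le_mul hc1 hc2
  have hQeq : (Q : Subgroup (↥(alternatingGroup (Fin 4)) × ↥(alternatingGroup (Fin 4)))) = Q1.prod Q2 := Subgroup.eq_of_le_of_card_ge hQle (by rw [hQ9, hc]; exact hmul)
  have hQ13 : Nat.card Q1 = 3 := by nlinarith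
  have hQ23 : Nat.card Q2 = 3 := by nlinarith
  have hgen : ∀ (K : Subgroup ↥(alternatingGroup (Fin 4))), Nat.card K = 3 → ∃ q ∈ K, q ^ 3 = 1 ∧ q ≠ 1 := by
    intro K hK
    obtain ⟨q, hq⟩ := exists_prime_orderOf_dvd_card' (G := K) 3 (by rw [hK])
    refine ⟨q, q.2, ?_, ?_⟩
    · have := pow_orderOf_eq_one (q : ↥(alternatingGroup (Fin 4)))
      rwa [Subgroup.orderOf_coe, hq] at this
    · intro h
      rw [← Subgroup.orderOf_coe, h, orderOf_one] at hq
      norm_num at hq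
  obtain ⟨q1, hq1, hq13, hq11⟩ := hgen Q1 hQ13
  obtain ⟨q2, hq2, hq23, hq21⟩ := hgen Q2 hQ23
  obtain ⟨hu1, hu2, hu3, hu4⟩ := fact_rot q1 v hq13 hq11 hv2 hv1
  obtain ⟨⟨v', a⟩, hzB, he⟩ := hsurj v hv2
  obtain ⟨⟨u', b⟩, hwB, he'⟩ := hsurj _ hu3
  simp only at he he'
  subst he he'
  have ha2 : a ^ 2 = 1 := (hB2 _ hzB).2
  have hb2 : b ^ 2 = 1 := (hB2 _ hwB).2
  have ha1 : a ≠ 1 := fun e => hv1 (congrArg Prod.fst (hsnd _ hzB e))
  have hb1 : b ≠ 1 := fun e => hu2 (congrArg Prod.fst (hsnd _ hwB e))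
  have hab : a ≠ b := fun e => hu1 (congrArg Prod.fst (hinj2 _ hwB _ hzB e.symm))
  obtain ⟨q', hq', hq'3, hq'1, hq'a⟩ : ∃ q' ∈ Q2, q' ^ 3 = 1 ∧ q' ≠ 1 ∧ q' * a * q'⁻¹ = b := by
    rcases fact_inv q2 a b hq23 hq21 ha2 ha1 hb2 hb1 hab with h | h
    · exact ⟨q2, hq2, hq23, hq21, h⟩
    · exact ⟨q2⁻¹, Q2.inv_mem hq2, by rw [inv_pow, hq23, inv_one], by simpa using hq21, by simpa using h⟩
  obtain ⟨-, -, -, hb4⟩ := fact_rot q' a hq'3 hq'1 ha2 ha1
  rw [hq'a] at hb4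
  set z : ↥(alternatingGroup (Fin 4)) × ↥(alternatingGroup (Fin 4)) := (q1, q') with hz
  set S : Set (↥(alternatingGroup (Fin 4)) × ↥(alternatingGroup (Fin 4))) := {(v', a), (q1 * v' * q1⁻¹, b)} with hS
  have hcl : Subgroup.closure S = B := by
    refine Subgroup.eq_of_le_of_card_ge ((Subgroup.closure_le B).mpr ?_) ?_
    · rintro w (rfl | rfl)
      · exact hzB
      · exact hwB
    · rw [hB4]
      have hm1 : (v', a) ∈ Subgroup.closure S := Subgroup.subset_closure (Or.inl rfl)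
      have hm2 : (q1 * v' * q1⁻¹, b) ∈ Subgroup.closure S := Subgroup.subset_closure (Or.inr rfl)
      have hdvd : Nat.card (Subgroup.closure S) ∣ 4 := by
        refine (Subgroup.card_dvd_of_le ((Subgroup.closure_le B).mpr ?_)).trans (dvd_of_eq hB4)
        rintro w (rfl | rfl)
        · exact hzB
        · exact hwB
      have h3 : 3 ≤ Nat.card (Subgroup.closure S) := by
        have hsub : ({1, (v', a), (q1 * v' * q1⁻¹, b)} : Set _) ⊆ (Subgroup.closure S : Set _) := by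
          rintro w (rfl | rfl | rfl)
          · exact Subgroup.one_mem _
          · exact hm1
          · exact hm2
        have h4 := Set.ncard_le_ncard hsub (Set.toFinite _)
        rw [Set.ncard_eq_three.mpr ⟨1, (v', a), (q1 * v' * q1⁻¹, b),
          fun e => hv1 (congrArg Prod.fst e).symm, fun e => hu2 (congrArg Prod.fst e).symm,
          fun e => hu1 (congrArg Prod.fst e).symm, rfl⟩] at h4
        rwa [← Nat.card_coe_set_eq] at h4
      have h5 := Nat.le_of_dvd (by norm_num) hdvd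
      by_contra hlt
      have h6 : Nat.card (Subgroup.closure S) = 3 := by omega
      rw [h6] at hdvd
      norm_num at hdvd
  refine ⟨Subgroup.zpowers z, ?_, ?_, ?_, ?_, ?_⟩
  · rw [Subgroup.zpowers_le, hQeq]; exact Subgroup.mem_prod.mpr ⟨hq1, hq'⟩
  · rw [Nat.card_zpowers]
    exact orderOf_eq_prime (Prod.ext hq13 hq'3) (fun e => hq11 (congrArg Prod.fst e))
  · intro e
    have := (e ▸ Subgroup.mem_zpowers z : z ∈ _)
    exact hq'1 (Subgroup.mem_bot.mp (Subgroup.mem_prod.mp this.2).2)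
  · intro e
    have := (e ▸ Subgroup.mem_zpowers z : z ∈ _)
    exact hq11 (Subgroup.mem_bot.mp (Subgroup.mem_prod.mp this.2).1)
  · rw [Subgroup.zpowers_le, Subgroup.mem_normalizer_iff_map_conj_eq]
    refine Subgroup.eq_of_le_of_card_ge ?_ (le_of_eq ?_)
    · conv_lhs => rw [← hcl]
      rw [MonoidHom.map_closure, Subgroup.closure_le]
      rintro _ ⟨w, hw, rfl⟩
      rcases hw with rfl | rfl
      · have : MulAut.conj z (v', a) = (q1 * v' * q1⁻¹, b) := by simp [hz, Prod.ext_iff, hq'a]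
        simpa [this] using hwB
      · have : MulAut.conj z (q1 * v' * q1⁻¹, b) = (v', a) * (q1 * v' * q1⁻¹, b) := by
          simp only [hz, MulAut.conj_apply, Prod.mk_mul_mk, Prod.inv_mk, Prod.ext_iff]
          exact ⟨hu4.symm, hb4.symm⟩
        simpa [this] using B.mul_mem hzB hwB
    · exact Nat.card_congr (Subgroup.equivMapOfInjective _ _ (MulEquiv.injective _)).toEquiv

end Cfsg.Agent.S4406
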