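import Cfsg.Statements.S4407

set_option autoImplicit false
open Cfsg

namespace Cfsg.Agent.S4407

open DihedralGroup

theorem d8_facts : ∀ i : ZMod 4,
    (r 1 : DihedralGroup 4) * sr i = sr (i + 2) * r 1 ∧ sr i * sr i = (1 : DihedralGroup 4) ∧
    (sr i : DihedralGroup 4) * r 2 = sr (i + 2) ∧ (r 2 : DihedralGroup 4) * sr i = sr (i + 2) ∧
    (sr i : DihedralGroup 4) * r 1 = sr (i + 1) ∧ (r 1 : DihedralGroup 4) * r 1 = r 2 ∧
    (r 2 : DihedralGroup 4) * r 2 = 1 := by decide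

theorem d8_sq_one : ∀ g : DihedralGroup 4, g ^ 2 = 1 → g = 1 ∨ g = r 2 ∨ ∃ j, g = sr j := by decide

theorem d8_sr_pair : ∀ i j : ZMod 4, ((sr i : DihedralGroup 4) * sr j) ^ 2 = 1 → j = i ∨ j = i + 2 := by
  decide

theorem d8_tr : ∀ i : ZMod 4, (sr i : DihedralGroup 4) * r 1 = r 1 * (sr i * r 2) := by decide

theorem d8_gen : ∀ (i : ZMod 4) (y : DihedralGroup 4),
    ∃ (n : Fin 2) (k : Fin 4), y = sr i ^ (n : ℕ) * r 1 ^ (k : ℕ) := by decide +kernel

theorem zmod4_shift : ∀ i j : ZMod 4, (j = i + 1 ∨ j = i + 1 + 2) → (j + 2 = i + 1 ∨ j + 2 = i + 1 + 2) := by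
  decide

theorem zmod4_cases : ∀ i j : ZMod 4, (j = i ∨ j = i + 2) ∨ j = i + 1 ∨ j = i + 1 + 2 := by decide

theorem count_swap : Fintype.card {c : Fin 4 → ZMod 2 //
    c = ![c 0 + c 1, c 1, c 2 + c 3, c 3] ∧ c = ![c 2, c 3, c 0, c 1]} = 2 := by decide +kernel

theorem count_fix : Fintype.card {c : Fin 4 → ZMod 2 //
    c = ![c 0 + c 1, c 1, c 2 + c 3, c 3] ∧ c = ![c 0 + c 1, c 1, c 2, c 3]} = 4 := by decide +kernel

theorem cube_cases {S : Type*} [Group S] {c : S} (h3 : c ^ 3 = 1) {x : S}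
    (hx : x ∈ Subgroup.zpowers c) : x = 1 ∨ x = c ∨ x = c⁻¹ := by
  obtain ⟨k, rfl⟩ := hx
  obtain ⟨q, e, he, hlt⟩ : ∃ q e : ℤ, k = 3 * q + e ∧ (e = 0 ∨ e = 1 ∨ e = 2) :=
    ⟨k / 3, k % 3, by omega, by omega⟩
  show c ^ k = 1 ∨ c ^ k = c ∨ c ^ k = c⁻¹
  have h3' : c ^ (3 : ℤ) = 1 := by exact_mod_cast h3
  rw [he, zpow_add, zpow_mul, h3', one_zpow, one_mul]
  rcases hlt with rfl | rfl | rfl
  · exact Or.inl (zpow_zero c)
  · exact Or.inr (Or.inl (zpow_one c))
  · refine Or.inr (Or.inr (eq_inv_of_mul_eq_one_left ?_))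
    rw [← h3', show (3 : ℤ) = 2 + 1 from rfl, zpow_add_one]

theorem core {S : Type*} [Group S] [Finite S]
    (A : Subgroup S) [A.Normal] (hA : Cfsg.IsElementaryAbelian 3 A) (hA9 : Nat.card ↥A = 9)
    (hAC : Subgroup.centralizer (A : Set S) = A) (X : Subgroup S) (e : ↥X ≃* DihedralGroup 4) (hAX : A ⊔ X = ⊤)
    {M : Type*} [AddCommGroup M] [Module (ZMod 2) M] [Finite M] (ρ : Representation (ZMod 2) S M)
    (hfaith : Function.Injective ρ)
    (hirr : ∀ N : Submodule (ZMod 2) M, (∀ s : S, ∀ m ∈ N, ρ s m ∈ N) → N = ⊥ ∨ N = ⊤) (hM : Nontrivial M) :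
    Nat.card M = 16 ∧
      ∃! B : Subgroup S, B ≤ X ∧ Nat.card ↥B = 4 ∧ (∀ b ∈ B, b ^ 2 = 1) ∧
        Nat.card {m : M // ∀ b ∈ B, ρ b m = m} = 2 := by
  classical
  let φ : DihedralGroup 4 →* S := X.subtype.comp e.symm.toMonoidHom
  have hφinj : Function.Injective φ := X.subtype_injective.comp e.symm.injective
  have hφr : ∀ g, φ g ∈ X := fun g => (e.symm g).2
  have hφX : ∀ x ∈ X, ∃ g, φ g = x := fun x hx => ⟨e ⟨x, hx⟩, by simp [φ]⟩
  have hcomm : ∀ x ∈ A, ∀ y ∈ A, x * y = y * x := fun x hx y hy =>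
    congrArg Subtype.val (hA.1.is_comm.comm (⟨x, hx⟩ : A) ⟨y, hy⟩)
  have hn : ∀ (x : S), ∀ a ∈ A, x * a * x⁻¹ ∈ A := fun x a ha => (inferInstance : A.Normal).conj_mem a ha x
  have hX8 : Nat.card X = 8 := by rw [Nat.card_congr e.toEquiv, DihedralGroup.nat_card]
  have hnotA : ∀ g, g ≠ 1 → φ g ∉ A := by
    intro g hg hmem
    have hdisj : A ⊓ X = ⊥ := Subgroup.inf_eq_bot_of_coprime (by rw [hA9, hX8]; norm_num)
    have : φ g ∈ (⊥ : Subgroup S) := hdisj ▸ ⟨hmem, hφr g⟩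
    exact hg (hφinj ((Subgroup.mem_bot.mp this).trans (map_one φ).symm))
  have hcent : ∀ g, g ≠ 1 → ¬ ∀ a ∈ A, φ g * a * (φ g)⁻¹ = a := fun g hg h => hnotA g hg (hAC ▸
    fun a ha => (mul_inv_eq_iff_eq_mul.mp (h a ha)).symm)
  set R := φ (r 1)
  set Z := φ (r 2)
  have hRR : R * R = Z := by rw [← map_mul, (d8_facts 0).2.2.2.2.2.1]
  have hZZ : Z * Z = 1 := by rw [← map_mul, (d8_facts 0).2.2.2.2.2.2, map_one]
  have hr2 : (r 2 : DihedralGroup 4) ≠ 1 := by decide
  have hsr : ∀ i : ZMod 4, (sr i : DihedralGroup 4) ≠ 1 := by decide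
  -- the central involution inverts `A`
  have hline : ∀ c ∈ A, c ≠ 1 → R * c * R⁻¹ ∈ Subgroup.zpowers c → Z * c * Z⁻¹ = c := by
    intro c hc hc1 hmem
    have key : Z * c * Z⁻¹ = R * (R * c * R⁻¹) * R⁻¹ := by rw [← hRR]; group
    rcases cube_cases (hA.2 c hc) hmem with h | h | h
    · exact absurd (conj_eq_one_iff.mp h) hc1
    · rw [key, h, h]
    · rw [key, h, show R * c⁻¹ * R⁻¹ = (R * c * R⁻¹)⁻¹ by group, h, inv_inv]
  have hZinv : ∀ a ∈ A, Z * a * Z⁻¹ = a⁻¹ := by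
    have hfree : ∀ c ∈ A, Z * c * Z⁻¹ = c → c = 1 := by
      by_contra! hcon
      obtain ⟨c, hc, hcz, hc1⟩ := hcon
      have hco : orderOf c = 3 := orderOf_eq_prime (hA.2 c hc) hc1
      let C : Subgroup S := A ⊓ Subgroup.centralizer {Z}
      have hC : ∀ x, x ∈ C ↔ x ∈ A ∧ Z * x * Z⁻¹ = x := fun x => by
        rw [Subgroup.mem_inf, Subgroup.mem_centralizer_singleton_iff, mul_inv_eq_iff_eq_mul]
        exact and_congr_right' eq_comm
      have hlt : ∀ D : Subgroup S, D ≤ A → D ≠ A → ∀ x ∈ D, x ≠ 1 → D = Subgroup.zpowers x := by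
        intro D hDA hne x hx hx1
        have h3 : Nat.card D ∣ 9 := hA9 ▸ Subgroup.card_dvd_of_le hDA
        have hne9 : Nat.card D ≠ 9 := fun h => hne (Subgroup.eq_of_le_of_card_ge hDA (by rw [h, hA9]))
        refine (Subgroup.eq_of_le_of_card_ge (Subgroup.zpowers_le.mpr hx) ?_).symm
        rw [Nat.card_zpowers, orderOf_eq_prime (hA.2 x (hDA hx)) hx1]
        have hmem : Nat.card D ∈ Nat.divisors 9 := Nat.mem_divisors.mpr ⟨h3, by norm_num⟩
        rw [show Nat.divisors 9 = {1, 3, 9} by decide] at hmem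
        simp only [Finset.mem_insert, Finset.mem_singleton] at hmem
        omega
      have hRc : ∀ x, Z * (R * x * R⁻¹) * Z⁻¹ = R * (Z * x * Z⁻¹) * R⁻¹ := fun x => by rw [← hRR]; group
      have hCne : C ≠ A := fun h => hcent (r 2) hr2 fun a ha => ((hC a).mp (h ▸ ha)).2
      have hCc : ∀ x ∈ C, x = 1 ∨ x ∈ Subgroup.zpowers c := fun x hx =>
        Or.inr (hlt C inf_le_left hCne c ((hC c).mpr ⟨hc, hcz⟩) hc1 ▸ hx)
      -- the inverted elements
      let I : Subgroup S :=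
        { carrier := {x | x ∈ A ∧ Z * x * Z⁻¹ = x⁻¹}
          one_mem' := ⟨one_mem _, by simp⟩
          mul_mem' := fun {x y} hx hy => ⟨mul_mem hx.1 hy.1, by
            rw [show Z * (x * y) * Z⁻¹ = (Z * x * Z⁻¹) * (Z * y * Z⁻¹) by group, hx.2, hy.2,
              hcomm x hx.1 y hy.1, _root_.mul_inv_rev]⟩
          inv_mem' := fun {x} hx => ⟨inv_mem hx.1, by
            rw [show Z * x⁻¹ * Z⁻¹ = (Z * x * Z⁻¹)⁻¹ by group, hx.2]⟩ }
      obtain ⟨a, ha, hane⟩ : ∃ a ∈ A, Z * a * Z⁻¹ ≠ a := by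
        by_contra! h; exact hcent (r 2) hr2 h
      set d := a * (Z * a * Z⁻¹)⁻¹
      have hdI : d ∈ I := by
        refine ⟨mul_mem ha (inv_mem (hn Z a ha)), ?_⟩
        show Z * (a * (Z * a * Z⁻¹)⁻¹) * Z⁻¹ = (a * (Z * a * Z⁻¹)⁻¹)⁻¹
        have hzi : Z⁻¹ = Z := inv_eq_of_mul_eq_one_right hZZ
        calc Z * (a * (Z * a * Z⁻¹)⁻¹) * Z⁻¹ = (Z * a * Z⁻¹) * ((Z * Z) * a⁻¹ * (Z * Z)⁻¹) := by group
          _ = _ := by rw [hZZ]; group
      have hd1 : d ≠ 1 := fun h => hane (mul_inv_eq_one.mp h).symm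
      have hIne : I ≠ A := fun h => by
        have h2 : Z * c * Z⁻¹ = c⁻¹ := (h ▸ hc : c ∈ I).2
        rw [hcz] at h2
        have : c ^ 2 = 1 := by rw [pow_two]; nth_rewrite 1 [h2]; exact inv_mul_cancel c
        have := orderOf_dvd_of_pow_eq_one this
        rw [hco] at this; omega
      have hIle : I ≤ A := fun x hx => hx.1
      have hRd : R * d * R⁻¹ ∈ Subgroup.zpowers d := by
        rw [← hlt I hIle hIne d hdI hd1]
        refine ⟨hn R d hdI.1, ?_⟩
        rw [hRc, hdI.2]; group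
      have hdz := hline d hdI.1 hd1 hRd
      rw [hdI.2] at hdz
      have : d ^ 2 = 1 := by rw [pow_two]; nth_rewrite 1 [← hdz]; exact inv_mul_cancel d
      have := orderOf_dvd_of_pow_eq_one this
      rw [orderOf_eq_prime (hA.2 d hdI.1) hd1] at this
      omega
    intro a ha
    have hzi : Z⁻¹ = Z := inv_eq_of_mul_eq_one_right hZZ
    refine eq_inv_of_mul_eq_one_left (hfree _ (mul_mem (hn Z a ha) ha) ?_)
    calc Z * (Z * a * Z⁻¹ * a) * Z⁻¹ = (Z * Z) * a * (Z * Z)⁻¹ * (Z * a * Z⁻¹) := by group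
      _ = a * (Z * a * Z⁻¹) := by rw [hZZ]; group
      _ = _ := hcomm _ ha _ (hn Z a ha)
  have hfixA : ∀ m : M, (∀ a ∈ A, ρ a m = m) → m = 0 := by
    let N : Submodule (ZMod 2) M :=
      { carrier := {m | ∀ a ∈ A, ρ a m = m}
        zero_mem' := fun a _ => map_zero _
        add_mem' := fun {x y} hx hy a ha => by rw [map_add, hx a ha, hy a ha]
        smul_mem' := fun c x hx a ha => by rw [map_smul, hx a ha] }
    rcases hirr N (fun s m hm a ha => by
      have h := hm (s⁻¹ * a * s) (by simpa using hn s⁻¹ a ha)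
      calc ρ a (ρ s m) = ρ (s * (s⁻¹ * a * s)) m := by
            rw [← Module.End.mul_apply, ← map_mul]; congr 2; group
        _ = _ := by rw [map_mul, Module.End.mul_apply, h]) with h | h
    · intro m hm; exact (Submodule.mem_bot (ZMod 2)).mp (h ▸ (hm : m ∈ N))
    · obtain ⟨a, ha, ha1⟩ := A.bot_or_exists_ne_one.resolve_left (fun hb => by
        rw [hb, Subgroup.card_bot] at hA9; omega)
      exact absurd (hfaith (show ρ a = ρ 1 by
        ext m
        rw [map_one, Module.End.one_apply]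
        exact (h ▸ Submodule.mem_top : m ∈ N) a ha)) ha1
  have hadd : ∀ m : M, m + m = 0 := fun m => by
    rw [← two_smul (ZMod 2), show (2 : ZMod 2) = 0 from rfl, zero_smul]
  have hmul : ∀ (x y : S) (m : M), ρ (x * y) m = ρ x (ρ y m) := fun x y m => by
    rw [map_mul, Module.End.mul_apply]
  have hone : ∀ m : M, ρ 1 m = m := fun m => by rw [map_one, Module.End.one_apply]
  -- relations attached to a reflection and an element fixed by it
  have hrel : ∀ (i : ZMod 4) (g : S), g ∈ A → g ≠ 1 → φ (sr i) * g * (φ (sr i))⁻¹ = g →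
      R * g * R⁻¹ ∈ A ∧ A = Subgroup.zpowers g ⊔ Subgroup.zpowers (R * g * R⁻¹) ∧
      φ (sr i) * (R * g * R⁻¹) * (φ (sr i))⁻¹ = (R * g * R⁻¹)⁻¹ := by
    intro i g hg hg1 ht
    set T := φ (sr i)
    set h := R * g * R⁻¹
    have hhA : h ∈ A := hn R g hg
    have hTR : T * R = R * (T * Z) := by
      rw [← map_mul, ← map_mul, ← map_mul]
      exact congrArg φ (d8_tr i)
    have h1 : T * h * T⁻¹ = R * (T * (Z * g * Z⁻¹) * T⁻¹) * R⁻¹ := by
      show T * (R * g * R⁻¹) * T⁻¹ = _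
      calc _ = (T * R) * g * (T * R)⁻¹ := by group
        _ = _ := by rw [hTR]; group
    have hTh : T * h * T⁻¹ = h⁻¹ := by
      rw [h1, hZinv g hg, show T * g⁻¹ * T⁻¹ = (T * g * T⁻¹)⁻¹ by group, ht]
      show _ = (R * g * R⁻¹)⁻¹
      group
    refine ⟨hhA, ?_, hTh⟩
    have hle : Subgroup.zpowers g ⊔ Subgroup.zpowers h ≤ A :=
      sup_le (Subgroup.zpowers_le.mpr hg) (Subgroup.zpowers_le.mpr hhA)
    refine (Subgroup.eq_of_le_of_card_ge hle ?_).symm
    set D := Subgroup.zpowers g ⊔ Subgroup.zpowers h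
    have hd : Nat.card D ∈ Nat.divisors 9 := Nat.mem_divisors.mpr ⟨hA9 ▸ Subgroup.card_dvd_of_le hle, by norm_num⟩
    rw [show Nat.divisors 9 = {1, 3, 9} by decide] at hd
    simp only [Finset.mem_insert, Finset.mem_singleton] at hd
    have hgc : Nat.card (Subgroup.zpowers g) = 3 := by
      rw [Nat.card_zpowers]; exact orderOf_eq_prime (hA.2 g hg) hg1
    have h3 : 3 ≤ Nat.card D := hgc ▸ Subgroup.card_le_of_le le_sup_left
    rcases hd with hd | hd | hd
    · omega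
    · exfalso
      have hmem : h ∈ Subgroup.zpowers g :=
        (Subgroup.eq_of_le_of_card_ge (le_sup_left : _ ≤ D) (by rw [hgc, hd])).symm ▸
          Subgroup.mem_sup_right (Subgroup.mem_zpowers h)
      obtain ⟨k, hk⟩ := hmem
      have hTh' : T * h * T⁻¹ = h := by
        rw [← hk]; show T * g ^ k * T⁻¹ = g ^ k
        rw [← conj_zpow, ht]
      rw [hTh] at hTh'
      have h2 : h ^ 2 = 1 := by rw [pow_two]; nth_rewrite 1 [← hTh']; exact inv_mul_cancel h
      have h3' : h ^ 3 = 1 := hA.2 h hhA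
      rw [pow_succ, h2, one_mul] at h3'
      exact hg1 (conj_eq_one_iff.mp h3')
    · rw [hd, hA9]
  -- find a reflection, a fixed element and a vector
  obtain ⟨i, g, hg, hg1, ht, v, hv0, hgv⟩ : ∃ (i : ZMod 4) (g : S), g ∈ A ∧ g ≠ 1 ∧
      φ (sr i) * g * (φ (sr i))⁻¹ = g ∧ ∃ v : M, v ≠ 0 ∧ ρ g v = v := by
    obtain ⟨a, ha, ha1, hta⟩ : ∃ a ∈ A, a ≠ 1 ∧ φ (sr 0) * a * (φ (sr 0))⁻¹ = a := by
      by_contra! hcon
      refine hcent (sr 0 * r 2) (by decide) fun a ha => ?_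
      set T := φ (sr 0)
      have hTT : T * T = 1 := by rw [← map_mul, (d8_facts 0).2.1, map_one]
      have h1 : T * a⁻¹ * T⁻¹ = a := by
        have hfx : T * (T * a * T⁻¹ * a) * T⁻¹ = T * a * T⁻¹ * a := by
          calc T * (T * a * T⁻¹ * a) * T⁻¹ = (T * T) * a * (T * T)⁻¹ * (T * a * T⁻¹) := by group
            _ = a * (T * a * T⁻¹) := by rw [hTT]; group
            _ = _ := hcomm _ ha _ (hn T a ha)
        have h0 : T * a * T⁻¹ * a = 1 := by
          by_contra h0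
          exact hcon _ (mul_mem (hn T a ha) ha) h0 hfx
        rw [show T * a⁻¹ * T⁻¹ = (T * a * T⁻¹)⁻¹ by group, eq_inv_of_mul_eq_one_left h0, inv_inv]
      rw [map_mul]
      show T * Z * a * (T * Z)⁻¹ = a
      calc T * Z * a * (T * Z)⁻¹ = T * (Z * a * Z⁻¹) * T⁻¹ := by group
        _ = a := by rw [hZinv a ha, h1]
    obtain ⟨hb, hAeq, htb⟩ := hrel 0 a ha ha1 hta
    generalize hbdef : R * a * R⁻¹ = b at hb hAeq htb
    have hRb : R * b * R⁻¹ = a⁻¹ := by
      rw [← hZinv a ha, ← hRR, ← hbdef]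
      group
    have hab := hcomm a ha b hb
    have hb1 : b ≠ 1 := fun h => ha1 (conj_eq_one_iff.mp (hbdef.trans h))
    set T := φ (sr 0)
    have hT2 : φ (sr 2) = T * Z := by rw [← map_mul]; exact congrArg φ (by decide)
    have hT1 : φ (sr 1) = T * R := by rw [← map_mul]; exact congrArg φ (by decide)
    have hT3 : φ (sr 3) = T * R * Z := by rw [← map_mul, ← map_mul]; exact congrArg φ (by decide)
    have c1 : φ (sr 1) * (a * b⁻¹) * (φ (sr 1))⁻¹ = a * b⁻¹ := by
      rw [hT1]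
      calc T * R * (a * b⁻¹) * (T * R)⁻¹ = T * ((R * a * R⁻¹) * (R * b * R⁻¹)⁻¹) * T⁻¹ := by group
        _ = T * (b * a) * T⁻¹ := by rw [hbdef, hRb, inv_inv]
        _ = (T * b * T⁻¹) * (T * a * T⁻¹) := by group
        _ = b⁻¹ * a := by rw [htb, hta]
        _ = _ := hcomm _ (inv_mem hb) _ ha
    have c3 : φ (sr 3) * (a * b) * (φ (sr 3))⁻¹ = a * b := by
      rw [hT3]
      calc T * R * Z * (a * b) * (T * R * Z)⁻¹ = T * R * (Z * (a * b) * Z⁻¹) * (T * R)⁻¹ := by group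
        _ = T * R * (b⁻¹ * a⁻¹) * (T * R)⁻¹ := by rw [hZinv _ (mul_mem ha hb), _root_.mul_inv_rev]
        _ = T * ((R * b * R⁻¹)⁻¹ * (R * a * R⁻¹)⁻¹) * T⁻¹ := by group
        _ = T * (a * b⁻¹) * T⁻¹ := by rw [hbdef, hRb, inv_inv]
        _ = (T * a * T⁻¹) * (T * b * T⁻¹)⁻¹ := by group
        _ = _ := by rw [htb, hta, inv_inv]
    have c2 : φ (sr 2) * b * (φ (sr 2))⁻¹ = b := by
      rw [hT2]
      calc T * Z * b * (T * Z)⁻¹ = T * (Z * b * Z⁻¹) * T⁻¹ := by group
        _ = (T * b * T⁻¹)⁻¹ := by rw [hZinv b hb]; group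
        _ = b := by rw [htb, inv_inv]
    have hne : ∀ x, T * x * T⁻¹ = x → x ≠ b := fun x hx h => by
      rw [h, htb] at hx
      have h2 : b ^ 2 = 1 := by rw [pow_two]; nth_rewrite 1 [← hx]; exact inv_mul_cancel b
      have h3 : b ^ 3 = 1 := hA.2 b hb
      rw [pow_succ, h2, one_mul] at h3
      exact hb1 h3
    by_contra! hcon
    have n1 : a * b⁻¹ ≠ 1 := fun h => hne a hta (mul_inv_eq_one.mp h)
    have n3 : a * b ≠ 1 := fun h => hne a⁻¹ (by rw [show T * a⁻¹ * T⁻¹ = (T * a * T⁻¹)⁻¹ by group, hta])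
      (inv_eq_of_mul_eq_one_right h)
    obtain ⟨m, hm⟩ := exists_ne (0 : M)
    have hsum : ∀ x ∈ A, x ≠ 1 → (∃ j : ZMod 4, φ (sr j) * x * (φ (sr j))⁻¹ = x) →
        ∀ m, m + ρ x m + ρ x (ρ x m) = 0 := by
      rintro x hx hx1 ⟨j, hj⟩ m
      by_contra h0
      refine hcon j x hx hx1 hj _ h0 ?_
      rw [map_add, map_add, ← hmul x x, ← hmul x (x * x),
        show x * (x * x) = 1 by rw [← pow_two, ← pow_succ']; exact hA.2 x hx, hone]
      abel
    have key : ∀ x ∈ A, ρ x (ρ x m) = ρ (x * x) m := fun x _ => (hmul x x m).symm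
    have s1 := hsum a ha ha1 ⟨0, hta⟩ m
    have s2 := hsum b hb hb1 ⟨2, c2⟩ m
    have s3 := hsum (a * b) (mul_mem ha hb) n3 ⟨3, c3⟩ m
    have s4 := hsum (a * b⁻¹) (mul_mem ha (inv_mem hb)) n1 ⟨1, c1⟩ m
    rw [← hmul] at s1 s2 s3 s4
    have ea : a * a = a⁻¹ := eq_inv_of_mul_eq_one_left (by rw [← pow_two, ← pow_succ]; exact hA.2 a ha)
    have eb : b * b = b⁻¹ := eq_inv_of_mul_eq_one_left (by rw [← pow_two, ← pow_succ]; exact hA.2 b hb)
    -- the sum over all of `A`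
    set F := m + ρ a m + ρ a⁻¹ m + (ρ b m + ρ (a * b) m + ρ (a⁻¹ * b) m) +
      (ρ b⁻¹ m + ρ (a * b⁻¹) m + ρ (a⁻¹ * b⁻¹) m)
    have e1 : ρ a F = F := by
      simp only [F, map_add, ← hmul, ← mul_assoc, ea, mul_inv_cancel, one_mul, hone]
      abel
    have e2 : ρ b F = F := by
      have p1 : b * (a * b) = a * b⁻¹ := by rw [← mul_assoc, ← hab, mul_assoc, eb]
      have p2 : b * (a⁻¹ * b) = a⁻¹ * b⁻¹ := by rw [← mul_assoc, hcomm b hb _ (inv_mem ha), mul_assoc, eb]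
      have p3 : b * (a * b⁻¹) = a := by rw [← mul_assoc, ← hab, mul_assoc, mul_inv_cancel, mul_one]
      have p4 : b * (a⁻¹ * b⁻¹) = a⁻¹ := by
        rw [← mul_assoc, hcomm b hb _ (inv_mem ha), mul_assoc, mul_inv_cancel, mul_one]
      simp only [F, map_add, ← hmul, eb, p1, p2, p3, p4, mul_inv_cancel, hone,
        show b * a = a * b from hab.symm, hcomm b hb a⁻¹ (inv_mem ha)]
      abel
    have hF : F = 0 := hfixA F fun x hx => by
      let St : Subgroup S :=
        { carrier := {x | ρ x F = F}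
          one_mem' := hone F
          mul_mem' := fun {x y} hx hy => by show ρ (x * y) F = F; rw [hmul, hy, hx]
          inv_mem' := fun {x} hx => by
            show ρ x⁻¹ F = F
            have hx' : ρ x F = F := hx
            nth_rewrite 1 [← hx']
            rw [← hmul, inv_mul_cancel, hone] }
      rw [hAeq] at hx
      exact sup_le (Subgroup.zpowers_le.mpr (show a ∈ St from e1)) (Subgroup.zpowers_le.mpr (show b ∈ St from e2)) hx
    have q3 : a * b * (a * b) = a⁻¹ * b⁻¹ := by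
      rw [show a * b * (a * b) = a * (b * a) * b by group, ← hab, ← mul_assoc, ea, mul_assoc, eb]
    have q4 : a * b⁻¹ * (a * b⁻¹) = a⁻¹ * b := by
      rw [show a * b⁻¹ * (a * b⁻¹) = a * (b⁻¹ * a) * b⁻¹ by group, hcomm _ (inv_mem hb) a ha, ← mul_assoc,
        ea, mul_assoc, ← _root_.mul_inv_rev, eb, inv_inv]
    rw [ea] at s1
    rw [eb] at s2
    rw [q3] at s3
    rw [q4] at s4
    have h4 : (m + m) + m + F = 0 := by
      calc (m + m) + m + F = (m + ρ a m + ρ a⁻¹ m) + (m + ρ b m + ρ b⁻¹ m) +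
            (m + ρ (a * b) m + ρ (a⁻¹ * b⁻¹) m) + (m + ρ (a * b⁻¹) m + ρ (a⁻¹ * b) m) := by
            simp only [F]; abel
        _ = 0 := by rw [s1, s2, s3, s4]; simp
    rw [hadd, hF, zero_add, add_zero] at h4
    exact hm h4
  obtain ⟨hhA, hAeq, hth⟩ := hrel i g hg hg1 ht
  set T := φ (sr i)
  generalize hh : R * g * R⁻¹ = h at hhA hAeq hth
  have hh2 : h * h = h⁻¹ := eq_inv_of_mul_eq_one_left (by rw [← pow_two, ← pow_succ]; exact hA.2 h hhA)
  have hTT : T * T = 1 := by rw [← map_mul, (d8_facts i).2.1, map_one]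
  have hTZ : T * Z = Z * T := by rw [← map_mul, ← map_mul, (d8_facts i).2.2.1, (d8_facts i).2.2.2.1]
  have hTR : T * R = R * (T * Z) := by
    rw [← map_mul, ← map_mul, ← map_mul]
    exact congrArg φ (d8_tr i)
  have hTg : T * g = g * T := mul_inv_eq_iff_eq_mul.mp ht
  have hZg : Z * g = g⁻¹ * Z := mul_inv_eq_iff_eq_mul.mp (hZinv g hg)
  have hZh : Z * h = h⁻¹ * Z := mul_inv_eq_iff_eq_mul.mp (hZinv h hhA)
  have hTh : T * h = h⁻¹ * T := mul_inv_eq_iff_eq_mul.mp hth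
  have hgh : g * h = h * g := hcomm g hg h hhA
  have hginv : ∀ x, ρ g x = x → ρ g⁻¹ x = x := fun x hx => by
    nth_rewrite 1 [← hx]; rw [← hmul, inv_mul_cancel, hone]
  -- the vector fixed by both involutions
  obtain ⟨u, hu0, hgu, hTZu⟩ : ∃ u : M, u ≠ 0 ∧ ρ g u = u ∧ ρ (T * Z) u = u := by
    have hsq : T * Z * (T * Z) = 1 := by
      rw [show T * Z * (T * Z) = T * (Z * T) * Z by group, ← hTZ, ← mul_assoc, hTT, one_mul, hZZ]
    by_cases h0 : v + ρ (T * Z) v = 0
    · refine ⟨v, hv0, hgv, ?_⟩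
      calc ρ (T * Z) v = (v + v) + ρ (T * Z) v := by rw [hadd, zero_add]
        _ = v + (v + ρ (T * Z) v) := add_assoc _ _ _
        _ = v := by rw [h0, add_zero]
    · refine ⟨_, h0, ?_, ?_⟩
      · rw [map_add, hgv, ← hmul, show g * (T * Z) = T * Z * g⁻¹ by
          rw [mul_assoc T, show Z * g⁻¹ = g * Z from mul_inv_eq_iff_eq_mul.mp (by rw [hZinv _ (inv_mem hg), inv_inv]), ← mul_assoc, ← mul_assoc, hTg],
          hmul _ g⁻¹, hginv v hgv]
      · rw [map_add, ← hmul, hsq, hone, add_comm]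
  obtain ⟨w, hw0, hgw, hTZw, hTw⟩ : ∃ w : M, w ≠ 0 ∧ ρ g w = w ∧ ρ (T * Z) w = w ∧ ρ T w = w := by
    by_cases h0 : u + ρ T u = 0
    · refine ⟨u, hu0, hgu, hTZu, ?_⟩
      calc ρ T u = (u + u) + ρ T u := by rw [hadd, zero_add]
        _ = u + (u + ρ T u) := add_assoc _ _ _
        _ = u := by rw [h0, add_zero]
    · refine ⟨_, h0, ?_, ?_, ?_⟩
      · rw [map_add, hgu, ← hmul, ← hTg, hmul, hgu]
      · rw [map_add, hTZu, ← hmul, show T * Z * T = T * (T * Z) by rw [mul_assoc, ← hTZ], hmul _ (T * Z), hTZu]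
      · rw [map_add, ← hmul, hTT, hone, add_comm]
  have hZw : ρ Z w = w := by
    rw [show Z = T * (T * Z) by rw [← mul_assoc, hTT, one_mul], hmul, hTZw, hTw]
  have hclo : ∀ (P : Subgroup S), g ∈ P → h ∈ P → A ≤ P := fun P h1 h2 =>
    hAeq ▸ sup_le (Subgroup.zpowers_le.mpr h1) (Subgroup.zpowers_le.mpr h2)
  have hfix2 : ∀ x : M, ρ g x = x → ρ h x = x → x = 0 := fun x h1 h2 => hfixA x fun a ha => by
    let St : Subgroup S :=
      { carrier := {s | ρ s x = x}
        one_mem' := hone x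
        mul_mem' := fun {s t} hs ht => by show ρ (s * t) x = x; rw [hmul, ht, hs]
        inv_mem' := fun {s} hs => by
          show ρ s⁻¹ x = x
          have hs' : ρ s x = x := hs
          nth_rewrite 1 [← hs']
          rw [← hmul, inv_mul_cancel, hone] }
    exact hclo St h1 h2 ha
  have hh2w : ρ h⁻¹ w = w + ρ h w := by
    have hz : w + ρ h w + ρ h⁻¹ w = 0 := by
      refine hfix2 _ ?_ ?_
      · rw [map_add, map_add, hgw, ← hmul, hgh, hmul, hgw, ← hmul,
          hcomm g hg _ (inv_mem hhA), hmul, hgw]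
      · rw [map_add, map_add, ← hmul, hh2, ← hmul, mul_inv_cancel, hone]
        abel
    calc ρ h⁻¹ w = ((w + ρ h w) + (w + ρ h w)) + ρ h⁻¹ w := by rw [hadd, zero_add]
      _ = (w + ρ h w) + (w + ρ h w + ρ h⁻¹ w) := add_assoc _ _ _
      _ = _ := by rw [hz, add_zero]
  -- the basis
  set e₁ := ρ h w
  set e₂ := ρ R w
  set e₃ := ρ R (ρ h w)
  let Ψ : (Fin 4 → ZMod 2) →ₗ[ZMod 2] M :=
    { toFun := fun c => c 0 • w + c 1 • e₁ + c 2 • e₂ + c 3 • e₃
      map_add' := fun c d => by simp only [Pi.add_apply, add_smul]; abel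
      map_smul' := fun c d => by simp only [Pi.smul_apply, smul_eq_mul, RingHom.id_apply, smul_add, mul_smul] }
  have hΨ : ∀ c, Ψ c = c 0 • w + c 1 • e₁ + c 2 • e₂ + c 3 • e₃ := fun _ => rfl
  have hgR : g * R = R * h⁻¹ := by
    have h1 : R * h * R⁻¹ = g⁻¹ := by
      rw [← hZinv g hg, ← hRR, ← hh]; group
    rw [← inv_inv g, ← h1]; group
  have hhR : h * R = R * g := by rw [← hh]; group
  have hRZ : R * Z = Z * R := by rw [← hRR]; group
  have g1 : ρ g e₁ = e₁ := by show ρ g (ρ h w) = _; rw [← hmul, hgh, hmul, hgw]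
  have g2 : ρ g e₂ = e₂ + e₃ := by show ρ g (ρ R w) = _; rw [← hmul, hgR, hmul, hh2w, map_add]
  have g3 : ρ g e₃ = e₂ := by
    show ρ g (ρ R (ρ h w)) = ρ R w
    rw [← hmul, hgR, hmul, ← hmul h⁻¹, inv_mul_cancel, hone]
  have h1' : ρ h e₁ = w + e₁ := by show ρ h (ρ h w) = _; rw [← hmul, hh2, hh2w]
  have h2' : ρ h e₂ = e₂ := by show ρ h (ρ R w) = _; rw [← hmul, hhR, hmul, hgw]
  have h3' : ρ h e₃ = e₃ := by show ρ h (ρ R (ρ h w)) = _; rw [← hmul, hhR, hmul, g1]
  have z1 : ρ Z e₁ = w + e₁ := by show ρ Z (ρ h w) = _; rw [← hmul, hZh, hmul, hZw, hh2w]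
  have z2 : ρ Z e₂ = e₂ := by show ρ Z (ρ R w) = _; rw [← hmul, ← hRZ, hmul, hZw]
  have z3 : ρ Z e₃ = e₂ + e₃ := by
    show ρ Z (ρ R (ρ h w)) = _
    rw [← hmul, ← hRZ, hmul, z1, map_add]
  have t1 : ρ T e₁ = w + e₁ := by show ρ T (ρ h w) = _; rw [← hmul, hTh, hmul, hTw, hh2w]
  have t2 : ρ T e₂ = e₂ := by show ρ T (ρ R w) = _; rw [← hmul, hTR, hmul, hTZw]
  have t3 : ρ T e₃ = e₃ := by
    show ρ T (ρ R (ρ h w)) = _
    rw [← hmul, hTR, hmul, hmul T Z, z1, map_add, hTw, t1, ← add_assoc, hadd, zero_add]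
  have r2' : ρ R e₂ = w := by show ρ R (ρ R w) = _; rw [← hmul, hRR, hZw]
  have r3' : ρ R e₃ = w + e₁ := by show ρ R (ρ R (ρ h w)) = _; rw [← hmul, hRR, z1]
  have actG : ∀ c, ρ g (Ψ c) = Ψ ![c 0, c 1, c 2 + c 3, c 2] := fun c => by
    simp only [hΨ, map_add, map_smul, hgw, g1, g2, g3, smul_add]
    simp [add_smul]; abel
  have actH : ∀ c, ρ h (Ψ c) = Ψ ![c 1, c 0 + c 1, c 2, c 3] := fun c => by
    simp only [hΨ, map_add, map_smul, show ρ h w = e₁ from rfl, h1', h2', h3', smul_add]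
    simp [add_smul]; abel
  have actZ : ∀ c, ρ Z (Ψ c) = Ψ ![c 0 + c 1, c 1, c 2 + c 3, c 3] := fun c => by
    simp only [hΨ, map_add, map_smul, hZw, z1, z2, z3, smul_add]
    simp [add_smul]; abel
  have actT : ∀ c, ρ T (Ψ c) = Ψ ![c 0 + c 1, c 1, c 2, c 3] := fun c => by
    simp only [hΨ, map_add, map_smul, hTw, t1, t2, t3, smul_add]
    simp [add_smul]; abel
  have actR : ∀ c, ρ R (Ψ c) = Ψ ![c 2 + c 3, c 3, c 0, c 1] := fun c => by
    simp only [hΨ, map_add, map_smul, show ρ R w = e₂ from rfl, show ρ R e₁ = e₃ from rfl, r2', r3', smul_add]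
    simp [add_smul]; abel
  have hinj : Function.Injective Ψ := by
    rw [← LinearMap.ker_eq_bot, Submodule.eq_bot_iff]
    intro c hc
    have hc' : Ψ c = 0 := hc
    have hp : Ψ ![c 0, c 1, 0, 0] = Ψ ![0, 0, c 2, c 3] := by
      have h := hc'
      rw [hΨ, add_assoc] at h
      have h' : c 2 • e₂ + c 3 • e₃ = c 0 • w + c 1 • e₁ := by
        calc c 2 • e₂ + c 3 • e₃
            = ((c 0 • w + c 1 • e₁) + (c 0 • w + c 1 • e₁)) + (c 2 • e₂ + c 3 • e₃) := by rw [hadd, zero_add]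
          _ = (c 0 • w + c 1 • e₁) + ((c 0 • w + c 1 • e₁) + (c 2 • e₂ + c 3 • e₃)) := add_assoc _ _ _
          _ = _ := by rw [h, add_zero]
      simp [hΨ, h']
    have hzero : Ψ ![c 0, c 1, 0, 0] = 0 := by
      refine hfix2 _ ?_ ?_
      · rw [actG]; simp
      · rw [hp, actH]; simp
    have hind : ∀ a b : ZMod 2, a • w + b • e₁ = 0 → a = 0 ∧ b = 0 := by
      intro a b hab
      rcases (by decide : ∀ x : ZMod 2, x = 0 ∨ x = 1) b with rfl | rfl
      · rw [zero_smul, add_zero] at hab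
        refine ⟨?_, rfl⟩
        rcases (by decide : ∀ x : ZMod 2, x = 0 ∨ x = 1) a with rfl | rfl
        · rfl
        · exact absurd ((one_smul (ZMod 2) w).symm.trans hab) hw0
      · exfalso
        rcases (by decide : ∀ x : ZMod 2, x = 0 ∨ x = 1) a with rfl | rfl
        · rw [zero_smul, zero_add, one_smul] at hab
          apply hw0
          have := congrArg (ρ h⁻¹) hab
          rwa [map_zero, ← hmul, inv_mul_cancel, hone] at this
        · rw [one_smul, one_smul] at hab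
          apply hw0
          refine hfix2 w hgw ?_
          show e₁ = w
          calc e₁ = (w + w) + e₁ := by rw [hadd, zero_add]
            _ = w + (w + e₁) := add_assoc _ _ _
            _ = w := by rw [hab, add_zero]
    obtain ⟨c0, c1⟩ := hind (c 0) (c 1) (by simpa [hΨ] using hzero)
    have hzero2 : c 2 • w + c 3 • e₁ = 0 := by
      have h2 := hp ▸ hzero
      have h3 := congrArg (ρ R⁻¹) h2
      rw [map_zero, hΨ] at h3
      simp only [map_add, map_smul, show e₂ = ρ R w from rfl, show e₃ = ρ R (ρ h w) from rfl,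
        ← hmul R⁻¹, inv_mul_cancel, hone] at h3
      simpa using h3
    obtain ⟨c2, c3⟩ := hind _ _ hzero2
    funext j; fin_cases j <;> assumption
  have hsurj : Function.Surjective Ψ := by
    let St : Subgroup S :=
      { carrier := {s | ∀ m, m ∈ LinearMap.range Ψ ↔ ρ s m ∈ LinearMap.range Ψ}
        one_mem' := fun m => by rw [hone]
        mul_mem' := fun {s t} hs ht m => by rw [hmul]; exact (ht m).trans (hs _)
        inv_mem' := fun {s} hs m => by
          have h1 := hs (ρ s⁻¹ m)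
          rw [← hmul, mul_inv_cancel, hone] at h1
          exact h1.symm }
    have hSt : ∀ s, (∀ c, ∃ d, ρ s (Ψ c) = Ψ d) → s ∈ St := by
      intro s hs m
      refine ⟨fun ⟨c, hc⟩ => ?_, fun ⟨d, hd⟩ => ?_⟩
      · obtain ⟨d, hd⟩ := hs c
        exact ⟨d, by rw [← hc, hd]⟩
      · choose f hf using hs
        have hfi : Function.Injective f := fun a b hab => hinj (by
          have := congrArg Ψ hab
          rw [← hf, ← hf] at this
          have := congrArg (ρ s⁻¹) this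
          rwa [← hmul, ← hmul, inv_mul_cancel, hone, hone] at this)
        obtain ⟨c, rfl⟩ := Finite.surjective_of_injective hfi d
        refine ⟨c, ?_⟩
        rw [← hf] at hd
        have := congrArg (ρ s⁻¹) hd
        rwa [← hmul, ← hmul, inv_mul_cancel, hone, hone] at this
    have hAle : A ≤ St := hclo St (hSt g fun c => ⟨_, actG c⟩) (hSt h fun c => ⟨_, actH c⟩)
    have hRSt : R ∈ St := hSt R fun c => ⟨_, actR c⟩
    have hTSt : T ∈ St := hSt T fun c => ⟨_, actT c⟩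
    have hXle : X ≤ St := by
      intro x hx
      obtain ⟨y, rfl⟩ := hφX x hx
      obtain ⟨n, k, rfl⟩ := d8_gen i y
      rw [map_mul, map_pow, map_pow]
      exact mul_mem (pow_mem hTSt _) (pow_mem hRSt _)
    have htop : ∀ s, s ∈ St := fun s => (sup_le hAle hXle) (hAX ▸ Subgroup.mem_top s)
    rcases hirr (LinearMap.range Ψ) (fun s m hm => (htop s m).mp hm) with hb | ht'
    · exfalso
      refine hw0 ((Submodule.mem_bot (ZMod 2)).mp (hb ▸ (⟨![1, 0, 0, 0], ?_⟩ : w ∈ LinearMap.range Ψ)))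
      simp [hΨ]
    · exact LinearMap.range_eq_top.mp ht'
  let E := Equiv.ofBijective Ψ ⟨hinj, hsurj⟩
  have hcard : Nat.card M = 16 := by
    rw [← Nat.card_congr E]; simp
  refine ⟨hcard, ?_⟩
  -- the four-groups
  have hcount : ∀ (B : Subgroup S) (s : S) (f : (Fin 4 → ZMod 2) → (Fin 4 → ZMod 2)),
      (∀ b ∈ B, b = 1 ∨ b = Z ∨ b = s ∨ b = s * Z) → Z ∈ B → s ∈ B →
      (∀ c, ρ s (Ψ c) = Ψ (f c)) →
      Nat.card {m : M // ∀ b ∈ B, ρ b m = m} =
        Fintype.card {c : Fin 4 → ZMod 2 // c = ![c 0 + c 1, c 1, c 2 + c 3, c 3] ∧ c = f c} := by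
    intro B s f hB hZB hsB hs
    rw [← Nat.card_eq_fintype_card]
    refine (Nat.card_congr (E.subtypeEquiv fun c => ?_)).symm
    show _ ↔ ∀ b ∈ B, ρ b (Ψ c) = Ψ c
    refine ⟨fun ⟨h1, h2⟩ b hb => ?_, fun hall => ⟨hinj ?_, hinj ?_⟩⟩
    · have hz : ρ Z (Ψ c) = Ψ c := by rw [actZ, ← h1]
      have hs' : ρ s (Ψ c) = Ψ c := by rw [hs, ← h2]
      rcases hB b hb with rfl | rfl | rfl | rfl
      · exact hone _
      · exact hz
      · exact hs'
      · rw [hmul, hz, hs']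
    · rw [← actZ]; exact (hall Z hZB).symm
    · rw [← hs]; exact (hall s hsB).symm
  let B₁ : Subgroup (DihedralGroup 4) :=
    { carrier := {x | x = 1 ∨ x = r 2 ∨ x = sr (i + 1) ∨ x = sr (i + 1 + 2)}
      one_mem' := Or.inl rfl
      mul_mem' := fun {a b} ha hb => by
        have key : ∀ (j : ZMod 4) (a b : DihedralGroup 4), (a = 1 ∨ a = r 2 ∨ a = sr j ∨ a = sr (j + 2)) →
            (b = 1 ∨ b = r 2 ∨ b = sr j ∨ b = sr (j + 2)) →
            a * b = 1 ∨ a * b = r 2 ∨ a * b = sr j ∨ a * b = sr (j + 2) := by decide +kernel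
        exact key _ a b ha hb
      inv_mem' := fun {a} ha => by
        have key : ∀ (j : ZMod 4) (a : DihedralGroup 4), (a = 1 ∨ a = r 2 ∨ a = sr j ∨ a = sr (j + 2)) →
            a⁻¹ = 1 ∨ a⁻¹ = r 2 ∨ a⁻¹ = sr j ∨ a⁻¹ = sr (j + 2) := by decide +kernel
        exact key _ a ha }
  have hB₁c : Nat.card (B₁.map φ) = 4 := by
    rw [Nat.card_congr (Subgroup.equivMapOfInjective B₁ φ hφinj).symm.toEquiv]
    have key : ∀ j : ZMod 4, Fintype.card {x : DihedralGroup 4 //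
        x = 1 ∨ x = r 2 ∨ x = sr j ∨ x = sr (j + 2)} = 4 := by decide +kernel
    exact (Nat.card_eq_fintype_card (α := {x : DihedralGroup 4 //
      x = 1 ∨ x = r 2 ∨ x = sr (i + 1) ∨ x = sr (i + 1 + 2)})).trans (key (i + 1))
  have hTR1 : φ (sr (i + 1)) = T * R := by rw [← map_mul, (d8_facts i).2.2.2.2.1]
  have hsrZ : ∀ j, φ (sr (j + 2)) = φ (sr j) * Z := fun j => by rw [← map_mul, (d8_facts j).2.2.1]
  have actTR : ∀ c, ρ (T * R) (Ψ c) = Ψ ![c 2, c 3, c 0, c 1] := fun c => by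
    rw [hmul, actR, actT]
    congr 1
    funext j
    fin_cases j <;> simp [add_assoc, CharTwo.add_self_eq_zero]
  refine ⟨B₁.map φ, ⟨?_, hB₁c, ?_, ?_⟩, ?_⟩
  · rintro _ ⟨y, -, rfl⟩; exact hφr y
  · rintro _ ⟨y, hy, rfl⟩
    rw [← map_pow]
    have key : ∀ (j : ZMod 4) (y : DihedralGroup 4), (y = 1 ∨ y = r 2 ∨ y = sr j ∨ y = sr (j + 2)) → y ^ 2 = 1 := by
      decide +kernel
    rw [key _ y hy, map_one]
  · rw [hcount (B₁.map φ) (T * R) (fun c => ![c 2, c 3, c 0, c 1]) ?_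
      (Subgroup.mem_map.mpr ⟨r 2, Or.inr (Or.inl rfl), rfl⟩)
      (Subgroup.mem_map.mpr ⟨sr (i + 1), Or.inr (Or.inr (Or.inl rfl)), hTR1⟩) actTR]
    · exact count_swap
    · rintro _ ⟨y, rfl | rfl | rfl | rfl, rfl⟩
      · exact Or.inl (map_one φ)
      · exact Or.inr (Or.inl rfl)
      · exact Or.inr (Or.inr (Or.inl hTR1))
      · exact Or.inr (Or.inr (Or.inr (by rw [hsrZ, hTR1])))
  · rintro B ⟨hBX, hB4, hB2, hBfix⟩
    have hel : ∀ b ∈ B, ∃ y, φ y = b ∧ (y = 1 ∨ y = r 2 ∨ ∃ j, y = sr j) := fun b hb => by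
      obtain ⟨y, rfl⟩ := hφX b (hBX hb)
      exact ⟨y, rfl, d8_sq_one y (hφinj (by rw [map_pow, hB2 _ hb, map_one]))⟩
    obtain ⟨j, hj⟩ : ∃ j, φ (sr j) ∈ B := by
      by_contra! hno
      have hle : B ≤ Subgroup.zpowers Z := fun b hb => by
        obtain ⟨y, rfl, rfl | rfl | ⟨j, rfl⟩⟩ := hel b hb
        · rw [map_one]; exact one_mem _
        · exact Subgroup.mem_zpowers Z
        · exact absurd hb (hno j)
      have h2 := Subgroup.card_le_of_le hle
      rw [hB4, Nat.card_zpowers] at h2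
      have := orderOf_le_of_pow_eq_one (x := Z) (n := 2) two_pos (by rw [pow_two]; exact hZZ)
      omega
    have hBform : ∀ b ∈ B, b = 1 ∨ b = Z ∨ b = φ (sr j) ∨ b = φ (sr j) * Z := by
      intro b hb
      obtain ⟨y, rfl, rfl | rfl | ⟨k, rfl⟩⟩ := hel b hb
      · exact Or.inl (map_one φ)
      · exact Or.inr (Or.inl rfl)
      · rcases d8_sr_pair j k (hφinj (by rw [map_pow, map_mul, hB2 _ (mul_mem hj hb), map_one])) with rfl | rfl
        · exact Or.inr (Or.inr (Or.inl rfl))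
        · exact Or.inr (Or.inr (Or.inr (hsrZ j)))
    have hZB : Z ∈ B := by
      by_contra hZn
      have hle : B ≤ Subgroup.zpowers (φ (sr j)) := fun b hb => by
        rcases hBform b hb with rfl | rfl | rfl | rfl
        · exact one_mem _
        · exact absurd hb hZn
        · exact Subgroup.mem_zpowers _
        · exact absurd (by
            have := mul_mem (inv_mem hj) hb
            rwa [inv_mul_cancel_left] at this) hZn
      have h2 := Subgroup.card_le_of_le hle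
      rw [hB4, Nat.card_zpowers] at h2
      have := orderOf_le_of_pow_eq_one (x := φ (sr j)) (n := 2) two_pos (by
        rw [pow_two, ← map_mul, (d8_facts j).2.1, map_one])
      omega
    rcases zmod4_cases i j with (rfl | rfl) | hj'
    · rw [hcount B T _ hBform hZB hj actT, count_fix] at hBfix
      omega
    · have hTB : T ∈ B := by
        have := mul_mem hj hZB
        rwa [hsrZ, mul_assoc, hZZ, mul_one] at this
      rw [hcount B T _ (fun b hb => ?_) hZB hTB actT, count_fix] at hBfix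
      · omega
      · rcases hBform b hb with h | h | h | h
        · exact Or.inl h
        · exact Or.inr (Or.inl h)
        · exact Or.inr (Or.inr (Or.inr (h.trans (hsrZ i))))
        · refine Or.inr (Or.inr (Or.inl ?_))
          rw [h, hsrZ, mul_assoc, hZZ, mul_one]
    · refine Subgroup.eq_of_le_of_card_ge ?_ (by rw [hB4, hB₁c])
      intro b hb
      have key : ∀ y : DihedralGroup 4, (y = 1 ∨ y = r 2 ∨ y = sr (i + 1) ∨ y = sr (i + 1 + 2)) →
          φ y ∈ B₁.map φ := fun y hy => ⟨y, hy, rfl⟩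
      have hj2 := zmod4_shift i j hj'
      rcases hBform b hb with rfl | rfl | rfl | rfl
      · exact one_mem _
      · exact key (r 2) (Or.inr (Or.inl rfl))
      · rcases hj' with rfl | rfl
        · exact key _ (Or.inr (Or.inr (Or.inl rfl)))
        · exact key _ (Or.inr (Or.inr (Or.inr rfl)))
      · rw [← hsrZ]
        rcases hj2 with e' | e' <;> rw [e']
        · exact key _ (Or.inr (Or.inr (Or.inl rfl)))
        · exact key _ (Or.inr (Or.inr (Or.inr rfl)))


/-- Let S be a finite group with a normal elementary abelian subgroup A of order 9 that is self-centralizing (C_S(A) = A), and a dihedral subgroup X of order 8 with S = AX. Let M be a finite-dimensional module for S over the field with two elements that is faithful and irreducible. Then M has 16 elements, and X contains exactly one subgroup B of order 4 and exponent 2 whose fixed points on M form a subspace with exactly 2 elements (equivalently, M is free of rank one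 over the group algebra of B). -/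
theorem result {S : Type*} [Group S] [Finite S]
    (A : Subgroup S) [A.Normal] (hA : Cfsg.IsElementaryAbelian 3 A) (hA9 : Nat.card ↥A = 9)
    (hAC : Subgroup.centralizer (A : Set S) = A) (X : Subgroup S) (hX : Nonempty (↥X ≃* DihedralGroup 4)) (hAX : A ⊔ X = ⊤)
    {M : Type*} [AddCommGroup M] [Module (ZMod 2) M] [Finite M] (ρ : Representation (ZMod 2) S M)
    (hfaith : Function.Injective ρ)
    (hirr : ∀ N : Submodule (ZMod 2) M, (∀ s : S, ∀ m ∈ N, ρ s m ∈ N) → N = ⊥ ∨ N = ⊤) (hM : Nontrivial M) :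
    Nat.card M = 16 ∧
      ∃! B : Subgroup S, B ≤ X ∧ Nat.card ↥B = 4 ∧ (∀ b ∈ B, b ^ 2 = 1) ∧
        Nat.card {m : M // ∀ b ∈ B, ρ b m = m} = 2 := by
  obtain ⟨e⟩ := hX
  exact core A hA hA9 hAC X e hAX ρ hfaith hirr hM

end Cfsg.Agent.S4407
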