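import Cfsg.Statements.S4408
import Cfsg.Agent.Lib.Coprime.Generation
import Cfsg.Agent.Lib.Coprime.PxQ
import Cfsg.Agent.Lib.Cores.Fitting
import Cfsg.Agent.Lib.PGroups.Subnormal
import Cfsg.Agent.Lib.Solvable.Schmidt
import Mathlib

set_option autoImplicit false
open Cfsg

namespace Cfsg.Agent.S4408

open Pointwise
open Cfsg.Agent.Lib

universe u

variable {S : Type u} [Group S] [Finite S]

/-- The key splitting step. -/
theorem exists_inverted (I J X : Subgroup S) (hIc : ∀ a ∈ I, ∀ b ∈ I, a * b = b * a)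
    (hI2 : ∀ a ∈ I, a ^ 2 = 1) (hJI : J ≤ I) (hXodd : Odd (Nat.card X))
    (hIX : I ≤ Subgroup.normalizer (X : Set S)) (hJX : ¬ J ≤ Subgroup.centralizer (X : Set S)) :
    ∃ (a : S) (p : ℕ), a ∈ X ∧ p.Prime ∧ p ≠ 2 ∧ orderOf a = p ∧
      (∀ i ∈ I, i * a * i⁻¹ = a ∨ i * a * i⁻¹ = a⁻¹) ∧ ∃ j ∈ J, j * a * j⁻¹ = a⁻¹ := by
  classical
  obtain ⟨Y, ⟨hYX, hIY, hJY⟩, hYmin⟩ := Set.exists_min_image
    {Y : Subgroup S | Y ≤ X ∧ I ≤ Subgroup.normalizer (Y : Set S) ∧
      ¬ J ≤ Subgroup.centralizer (Y : Set S)} (fun Y => Nat.card Y) (Set.toFinite _)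
    ⟨X, le_rfl, hIX, hJX⟩
  obtain ⟨j, hj, hjY⟩ := SetLike.not_le_iff_exists.mp hJY
  have hinv : ∀ i ∈ I, i⁻¹ = i := fun i hi =>
    inv_eq_of_mul_eq_one_right (by rw [← pow_two]; exact hI2 i hi)
  set W := I ⊓ Subgroup.centralizer (Y : Set S) with hW
  have hW2 : ∀ i ∈ I, i ∉ W → i * j ∈ W := by
    intro i hi hiW
    by_contra hij
    let A : Subgroup S :=
      { carrier := {x | x = 1 ∨ x = i ∨ x = j ∨ x = i * j}
        one_mem' := Or.inl rfl
        mul_mem' := fun {a b} ha hb => by
          have hii : i * i = 1 := by rw [← pow_two]; exact hI2 i hi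
          have hjj : j * j = 1 := by rw [← pow_two]; exact hI2 j (hJI hj)
          have hcm : j * i = i * j := hIc j (hJI hj) i hi
          have e1 : i * j * i = j := by rw [mul_assoc, hcm, ← mul_assoc, hii, one_mul]
          have e2 : i * j * j = i := by rw [mul_assoc, hjj, mul_one]
          have e3 : j * (i * j) = i := by rw [← mul_assoc, hcm, mul_assoc, hjj, mul_one]
          have e4 : i * (i * j) = j := by rw [← mul_assoc, hii, one_mul]
          have e5 : i * j * (i * j) = 1 := by rw [mul_assoc, e3, hii]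
          rcases ha with rfl | rfl | rfl | rfl <;> rcases hb with rfl | rfl | rfl | rfl <;>
            simp [hii, hjj, hcm, e1, e2, e3, e4, e5]
        inv_mem' := fun {a} ha => by
          have : a ∈ I := by
            rcases ha with rfl | rfl | rfl | rfl
            · exact one_mem _
            · exact hi
            · exact hJI hj
            · exact mul_mem hi (hJI hj)
          rw [Set.mem_setOf_eq, hinv a this]; exact ha }
    have hAI : A ≤ I := by
      rintro x (rfl | rfl | rfl | rfl)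
      · exact one_mem _
      · exact hi
      · exact hJI hj
      · exact mul_mem hi (hJI hj)
    haveI : IsMulCommutative A := ⟨⟨fun a b => Subtype.ext (hIc a (hAI a.2) b (hAI b.2))⟩⟩
    have hi1 : i ≠ 1 := fun h => hiW (h ▸ one_mem W)
    have hj1 : j ≠ 1 := fun h => hjY (h ▸ one_mem _)
    have hij1 : i ≠ j := fun h => hij (by
      rw [h, ← pow_two, hI2 j (hJI hj)]; exact one_mem _)
    have hAc : ¬ IsCyclic A := by
      intro hc
      obtain ⟨g, hg⟩ := hc.exists_generator
      have hg2 : g ^ 2 = 1 := Subtype.ext (hI2 g (hAI g.2))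
      have key : ∀ x : A, x = 1 ∨ x = g := by
        intro x
        obtain ⟨k, rfl⟩ := Subgroup.mem_zpowers_iff.mp (hg x)
        rcases Int.even_or_odd k with ⟨l, rfl⟩ | ⟨l, rfl⟩
        · left; rw [← two_mul, zpow_mul, zpow_ofNat, hg2, one_zpow]
        · right; rw [zpow_add_one, zpow_mul, zpow_ofNat, hg2, one_zpow, one_mul]
      have hi' := (key ⟨i, Or.inr (Or.inl rfl)⟩).resolve_left fun h => hi1 (congrArg Subtype.val h)
      have hj' := (key ⟨j, Or.inr (Or.inr (Or.inl rfl))⟩).resolve_left fun h => hj1 (congrArg Subtype.val h)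
      exact hij1 (congrArg Subtype.val (hi'.trans hj'.symm))
    have hcop : (Nat.card A).Coprime (Nat.card Y) := by
      refine Nat.coprime_of_dvd fun q hq hqA hqY => ?_
      haveI := Fact.mk hq
      obtain ⟨z, hz⟩ := exists_prime_orderOf_dvd_card' (G := A) q hqA
      have hd : orderOf z ∣ 2 := orderOf_dvd_of_pow_eq_one (Subtype.ext (hI2 z (hAI z.2)))
      rw [hz, Nat.prime_dvd_prime_iff_eq hq Nat.prime_two] at hd
      subst hd
      exact (Nat.not_even_iff_odd.mpr hXodd) (even_iff_two_dvd.mpr (hqY.trans (Subgroup.card_dvd_of_le hYX)))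
    refine hjY ?_
    refine Subgroup.mem_centralizer_iff.mpr fun y hy => ?_
    rw [← Coprime.iSup_centralizer_eq hAc (hAI.trans hIY) hcop] at hy
    have hle : (⨆ a ∈ {a : S | a ∈ A ∧ a ≠ 1}, Y ⊓ Subgroup.centralizer ({a} : Set S)) ≤
        Subgroup.centralizer ({j} : Set S) := by
      refine iSup₂_le fun c hc => ?_
      set Z := Y ⊓ Subgroup.centralizer ({c} : Set S) with hZ
      intro z hz
      rw [Subgroup.mem_centralizer_singleton_iff]
      by_contra hne
      have hcI : c ∈ I := hAI hc.1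
      have hIZ : I ≤ Subgroup.normalizer (Z : Set S) := by
        intro k hk
        rw [Subgroup.mem_set_normalizer_iff]
        intro h
        show h ∈ Z ↔ k * h * k⁻¹ ∈ Z
        rw [hZ, Subgroup.mem_inf, Subgroup.mem_inf, Subgroup.mem_centralizer_singleton_iff,
          Subgroup.mem_centralizer_singleton_iff]
        refine and_congr (Subgroup.mem_set_normalizer_iff.mp (hIY hk) h) ⟨fun h1 => ?_, fun h1 => ?_⟩
        · calc k * h * k⁻¹ * c = k * h * (k⁻¹ * c) := by group
            _ = k * h * (c * k⁻¹) := by rw [hIc k⁻¹ (inv_mem hk) c hcI]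
            _ = k * (h * c) * k⁻¹ := by group
            _ = k * (c * h) * k⁻¹ := by rw [h1]
            _ = (k * c) * h * k⁻¹ := by group
            _ = (c * k) * h * k⁻¹ := by rw [hIc k hk c hcI]
            _ = c * (k * h * k⁻¹) := by group
        · calc h * c = k⁻¹ * (k * h * k⁻¹) * (k * c) := by group
            _ = k⁻¹ * (k * h * k⁻¹) * (c * k) := by rw [hIc k hk c hcI]
            _ = k⁻¹ * ((k * h * k⁻¹) * c) * k := by group
            _ = k⁻¹ * (c * (k * h * k⁻¹)) * k := by rw [h1]
            _ = (k⁻¹ * c) * k * h := by group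
            _ = (c * k⁻¹) * k * h := by rw [hIc k⁻¹ (inv_mem hk) c hcI]
            _ = c * h := by group
      have hZY : Z = Y := Subgroup.eq_of_le_of_card_ge inf_le_left
        (hYmin Z ⟨inf_le_left.trans hYX, hIZ, fun h =>
          hne (Subgroup.mem_centralizer_iff.mp (h hj) z hz)⟩)
      have hcW : c ∈ W := ⟨hcI, Subgroup.mem_centralizer_iff.mpr fun y hy =>
        Subgroup.mem_centralizer_singleton_iff.mp ((hZY.ge hy).2)⟩
      rcases hc.1 with rfl | rfl | rfl | rfl
      · exact hc.2 rfl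
      · exact hiW hcW
      · exact hjY hcW.2
      · exact hij hcW
    exact (Subgroup.mem_centralizer_singleton_iff.mp (hle hy))
  -- an element inverted by `j`
  obtain ⟨y, hy, hyne⟩ : ∃ y ∈ Y, j * y * j⁻¹ ≠ y := by
    by_contra h
    push Not at h
    exact hjY (Subgroup.mem_centralizer_iff.mpr fun y hy => (mul_inv_eq_iff_eq_mul.mp (h y hy)).symm)
  set d := y⁻¹ * (j * y * j⁻¹) with hd
  have hdY : d ∈ Y := mul_mem (inv_mem hy) ((Subgroup.mem_set_normalizer_iff.mp (hIY (hJI hj)) y).mp hy)
  have hd1 : d ≠ 1 := fun h => hyne (inv_mul_eq_one.mp h).symm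
  have hdinv : j * d * j⁻¹ = d⁻¹ := by
    have hjj : j * j = 1 := by rw [← pow_two]; exact hI2 j (hJI hj)
    have hji := hinv j (hJI hj)
    rw [hd, hji]
    simp only [mul_inv_rev, inv_inv, hji, mul_assoc]
    rw [hjj, mul_one]
  obtain ⟨p, hp, hpd⟩ := Nat.exists_prime_and_dvd (fun h => hd1 (orderOf_eq_one_iff.mp h))
  set a := d ^ (orderOf d / p) with ha
  have hao : orderOf a = p := orderOf_pow_orderOf_div (orderOf_pos d).ne' hpd
  have haY : a ∈ Y := pow_mem hdY _
  have hja : j * a * j⁻¹ = a⁻¹ := by rw [ha, ← conj_pow, hdinv, inv_pow]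
  refine ⟨a, p, hYX haY, hp, fun h2 => ?_, hao, fun i hi => ?_, j, hj, hja⟩
  · subst h2
    exact (Nat.not_even_iff_odd.mpr hXodd) (even_iff_two_dvd.mpr
      (hao ▸ Subgroup.orderOf_dvd_natCard X (hYX haY)))
  · by_cases hiW : i ∈ W
    · exact Or.inl (mul_inv_eq_iff_eq_mul.mpr (Subgroup.mem_centralizer_iff.mp hiW.2 a haY).symm)
    · right
      have h1 := mul_inv_eq_iff_eq_mul.mpr (Subgroup.mem_centralizer_iff.mp (hW2 i hi hiW).2 a haY).symm
      calc i * a * i⁻¹ = (i * a⁻¹ * i⁻¹)⁻¹ := by group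
        _ = (i * (j * a * j⁻¹) * i⁻¹)⁻¹ := by rw [hja]
        _ = (i * j * a * (i * j)⁻¹)⁻¹ := by group
        _ = a⁻¹ := by rw [h1]

/-- A coprime operator centralizing the centralizer of an element of a nilpotent group
centralizes the group. -/
theorem centralizes_of_element (X : Subgroup S) (hX : Group.IsNilpotent X) (hXodd : Odd (Nat.card X))
    {a : S} {p : ℕ} (hp : p.Prime) (ha : a ∈ X) (hao : orderOf a = p) {j : S} (hj2 : j ^ 2 = 1)
    (hjX : j ∈ Subgroup.normalizer (X : Set S)) (hja : Commute j a) (hp2 : p ≠ 2)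
    (hjC : j ∈ Subgroup.centralizer ((X ⊓ Subgroup.centralizer ({a} : Set S) : Subgroup S) : Set S)) :
    j ∈ Subgroup.centralizer (X : Set S) := by
  classical
  haveI := hX
  set L := X ⊓ Subgroup.centralizer ({j} : Set S) with hL
  suffices hall : X ≤ L by
    exact Subgroup.mem_centralizer_iff.mpr fun x hx =>
      Subgroup.mem_centralizer_singleton_iff.mp (hall hx).2
  have hidx : L.relIndex X = 1 := by
    refine Nat.eq_one_iff_not_exists_prime_dvd.mpr fun r hr hrd => ?_
    haveI := Fact.mk hr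
    obtain ⟨R0⟩ : Nonempty (Sylow r X) := inferInstance
    have hR0 : (R0 : Subgroup X).Normal :=
      Sylow.normal_of_normalizerCondition Group.normalizerCondition_of_isNilpotent R0
    haveI : (R0 : Subgroup X).Characteristic := Sylow.characteristic_of_normal R0 hR0
    set R := (R0 : Subgroup X).map X.subtype with hR
    have hjR : j ∈ Subgroup.normalizer (R : Set S) :=
      Cores.normalizer_le_normalizer_map_subtype X (R0 : Subgroup X) hjX
    have haR : a ∈ Subgroup.normalizer (R : Set S) :=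
      Cores.normalizer_le_normalizer_map_subtype X (R0 : Subgroup X) (Subgroup.le_normalizer ha)
    have hRX : R ≤ X := Subgroup.map_subtype_le _
    have hRi : ¬ r ∣ R.relIndex X := by
      rw [hR, Subgroup.relIndex, Subgroup.subgroupOf,
        Subgroup.comap_map_eq_self_of_injective X.subtype_injective]
      exact R0.not_dvd_index
    refine hRi (hrd.trans (Subgroup.relIndex_dvd_of_le_left X (le_inf hRX ?_)))
    haveI := Fact.mk hp
    by_cases hrp : r = p
    · subst hrp
      have hjo : Nat.Coprime (Nat.card (Subgroup.zpowers j)) r := by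
        rw [Nat.card_zpowers]
        exact ((Nat.coprime_primes Nat.prime_two hr).mpr (Ne.symm hp2)).coprime_dvd_left
          (orderOf_dvd_of_pow_eq_one hj2)
      have h := Coprime.le_centralizer_of_PxQ (P := Subgroup.zpowers a) (Q := Subgroup.zpowers j)
        (IsPGroup.of_card (n := 1) (by rw [Nat.card_zpowers, hao, pow_one])) hjo (R0.2.map _)
        (Subgroup.zpowers_le.mpr (Subgroup.mem_centralizer_iff.mpr fun v hv => by
          obtain ⟨k, rfl⟩ := Subgroup.mem_zpowers_iff.mp hv
          exact (hja.zpow_left k).eq))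
        (Subgroup.zpowers_le.mpr haR) (Subgroup.zpowers_le.mpr hjR)
        (fun v hv => Subgroup.mem_centralizer_iff.mpr fun w hw => by
          obtain ⟨k, rfl⟩ := Subgroup.mem_zpowers_iff.mp hw
          have hva : v * a = a * v :=
            ((Subgroup.mem_centralizer_iff.mp hv.2) a (Subgroup.mem_zpowers a)).symm
          have : Commute v j := Subgroup.mem_centralizer_iff.mp hjC v
            ⟨hRX hv.1, Subgroup.mem_centralizer_singleton_iff.mpr hva⟩
          exact (this.zpow_right k).eq.symm)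
      exact fun v hv => Subgroup.mem_centralizer_singleton_iff.mpr
        (Subgroup.mem_centralizer_iff.mp (h (Subgroup.mem_zpowers j)) v hv)
    · intro v hv
      rw [Subgroup.mem_centralizer_singleton_iff]
      refine Subgroup.mem_centralizer_iff.mp hjC v ⟨hRX hv, ?_⟩
      show v ∈ Subgroup.centralizer ({a} : Set S)
      rw [Subgroup.mem_centralizer_singleton_iff]
      have h := Solvable.Schmidt.commute_of_coprime_orderOf (G := X) hrp R0.2
        (IsPGroup.of_card (n := 1) (by rw [Nat.card_zpowers, Subgroup.orderOf_mk, hao, pow_one]) :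
          IsPGroup p (Subgroup.zpowers (⟨a, ha⟩ : X)))
      obtain ⟨v0, hv0, rfl⟩ := hv
      exact (congrArg Subtype.val (Subgroup.mem_centralizer_iff.mp (h hv0) ⟨a, ha⟩ (Subgroup.mem_zpowers _))).symm
  exact fun x hx => (Subgroup.relIndex_eq_one.mp hidx) hx

theorem main (I : Subgroup S) (hIc : ∀ a ∈ I, ∀ b ∈ I, a * b = b * a) (hI2 : ∀ a ∈ I, a ^ 2 = 1) :
    ∀ (m : ℕ) (J X : Subgroup S), Nat.card J = 2 ^ m → J ≤ I → Group.IsNilpotent X →
      Odd (Nat.card X) → I ≤ Subgroup.normalizer (X : Set S) →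
      J ⊓ Subgroup.centralizer (X : Set S) = ⊥ →
      ∃ f : Fin m → Subgroup S, (∀ i, (Nat.card (f i)).Prime) ∧ (∀ i, f i ≤ X) ∧
        (∀ i, I ≤ Subgroup.normalizer ((f i) : Set S)) ∧
        (∀ i j, i ≠ j → ∀ a ∈ f i, ∀ b ∈ f j, a * b = b * a) ∧
        Nat.card (⨆ i, f i : Subgroup S) = ∏ i, Nat.card (f i) ∧
        (∀ x ∈ (⨆ i, f i : Subgroup S), (∀ j ∈ J, Commute j x) → x = 1) ∧
        J ⊓ Subgroup.centralizer ((⨆ i, f i : Subgroup S) : Set S) = ⊥ := by
  intro m
  induction m with
  | zero =>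
    intro J X hJ _ _ _ _ _
    have hJb : J = ⊥ := Subgroup.card_eq_one.mp (by simpa using hJ)
    refine ⟨Fin.elim0, fun i => i.elim0, fun i => i.elim0, fun i => i.elim0, fun i => i.elim0, ?_, ?_, ?_⟩
    · rw [iSup_of_empty, Subgroup.card_bot]; simp
    · intro x hx _
      rw [iSup_of_empty] at hx
      exact Subgroup.mem_bot.mp hx
    · rw [hJb, bot_inf_eq]
  | succ m ih =>
    intro J X hJc hJI hX hXodd hIX hfaith
    classical
    have hJne : ¬ J ≤ Subgroup.centralizer (X : Set S) := fun h => by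
      rw [inf_eq_left.mpr h] at hfaith
      rw [hfaith, Subgroup.card_bot] at hJc
      exact absurd hJc.symm (Nat.one_lt_pow (Nat.succ_ne_zero m) one_lt_two).ne'
    obtain ⟨a, p, haX, hp, hp2, hao, hIa, j0, hj0, hj0a⟩ :=
      exists_inverted I J X hIc hI2 hJI hXodd hIX hJne
    set J' := J ⊓ Subgroup.centralizer ({a} : Set S) with hJ'
    have hane : a ≠ a⁻¹ := fun h => by
      have h1 : a ^ 2 = 1 := by rw [pow_two]; exact mul_eq_one_iff_eq_inv.mpr h
      have h2 := orderOf_dvd_of_pow_eq_one h1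
      rw [hao, Nat.prime_dvd_prime_iff_eq hp Nat.prime_two] at h2
      exact hp2 h2
    have hJ'c : Nat.card J' = 2 ^ m := by
      have hidx : (J'.subgroupOf J).index = 2 := by
        rw [Subgroup.index_eq_two_iff]
        refine ⟨⟨j0, hj0⟩, fun b => ?_⟩
        have hmem : ∀ c : J, c ∈ J'.subgroupOf J ↔ (c : S) * a * (c : S)⁻¹ = a := fun c => by
          rw [Subgroup.mem_subgroupOf, hJ', Subgroup.mem_inf, Subgroup.mem_centralizer_singleton_iff,
            mul_inv_eq_iff_eq_mul]
          exact and_iff_right c.2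
        rw [hmem, hmem]
        have e : ((b * ⟨j0, hj0⟩ : J) : S) * a * ((b * ⟨j0, hj0⟩ : J) : S)⁻¹ =
            ((b : S) * a * (b : S)⁻¹)⁻¹ := by
          show ((b : S) * j0) * a * ((b : S) * j0)⁻¹ = _
          calc ((b : S) * j0) * a * ((b : S) * j0)⁻¹ = (b : S) * (j0 * a * j0⁻¹) * (b : S)⁻¹ := by group
            _ = _ := by rw [hj0a]; group
        rw [e]
        rcases hIa b (hJI b.2) with h | h <;> rw [h]
        · exact Or.inr ⟨rfl, fun h' => hane h'.symm⟩
        · exact Or.inl ⟨inv_inv a, fun h' => hane h'.symm⟩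
      have h1 := (J'.subgroupOf J).card_mul_index
      have hcJ : Nat.card (J'.subgroupOf J) = Nat.card J' :=
        Nat.card_congr (Subgroup.subgroupOfEquivOfLe (inf_le_left : J' ≤ J)).toEquiv
      rw [hidx, hcJ, hJc, pow_succ] at h1
      omega
    set Y := X ⊓ Subgroup.centralizer ({a} : Set S) with hY
    haveI := hX
    have hIza : I ≤ Subgroup.normalizer ((Subgroup.zpowers a : Subgroup S) : Set S) := by
      intro i hi
      refine Coprime.mem_normalizer_of_conj_smul_eq (Coprime.eq_of_le_of_card_le ?_ (Coprime.card_conj_smul _ _).ge)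
      intro x hx
      rw [Coprime.mem_conj_smul] at hx
      obtain ⟨k, hk⟩ := Subgroup.mem_zpowers_iff.mp hx
      have : x = (i * a * i⁻¹) ^ k := by rw [conj_zpow, hk]; group
      rcases hIa i hi with h | h <;> rw [this, h]
      · exact Subgroup.zpow_mem _ (Subgroup.mem_zpowers a) _
      · exact Subgroup.zpow_mem _ (inv_mem (Subgroup.mem_zpowers a)) _
    have hIY : I ≤ Subgroup.normalizer (Y : Set S) := by
      intro i hi
      rw [Subgroup.mem_set_normalizer_iff]
      intro h
      show h ∈ Y ↔ i * h * i⁻¹ ∈ Y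
      rw [hY, Subgroup.mem_inf, Subgroup.mem_inf, Subgroup.mem_centralizer_singleton_iff,
        Subgroup.mem_centralizer_singleton_iff]
      refine and_congr (Subgroup.mem_set_normalizer_iff.mp (hIX hi) h) ⟨fun h1 => ?_, fun h1 => ?_⟩
      · have h2 : Commute (i * h * i⁻¹) (i * a * i⁻¹) := by
          show _ * _ = _ * _
          calc i * h * i⁻¹ * (i * a * i⁻¹) = i * (h * a) * i⁻¹ := by group
            _ = i * (a * h) * i⁻¹ := by rw [h1]
            _ = _ := by group
        rcases hIa i hi with e | e <;> rw [e] at h2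
        · exact h2.eq
        · simpa using h2.inv_right.eq
      · have h3 : Commute (i * h * i⁻¹) (i * a * i⁻¹) := by
          rcases hIa i hi with e | e <;> rw [e]
          · exact h1
          · exact (show Commute (i * h * i⁻¹) a from h1).inv_right
        calc h * a = i⁻¹ * (i * h * i⁻¹ * (i * a * i⁻¹)) * i := by group
          _ = i⁻¹ * (i * a * i⁻¹ * (i * h * i⁻¹)) * i := by rw [h3.eq]
          _ = a * h := by group
    have hYn : Group.IsNilpotent Y :=
      Cores.isNilpotent_of_injective (Subgroup.inclusion (inf_le_left : Y ≤ X)) (Subgroup.inclusion_injective _)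
    have hYodd : Odd (Nat.card Y) := Odd.of_dvd_nat hXodd (Subgroup.card_dvd_of_le inf_le_left)
    have hfaith' : J' ⊓ Subgroup.centralizer (Y : Set S) = ⊥ := by
      rw [eq_bot_iff]
      rintro v ⟨⟨hvJ, hva⟩, hvC⟩
      rw [← hfaith]
      exact ⟨hvJ, centralizes_of_element X hX hXodd hp haX hao (hI2 v (hJI hvJ)) (hIX (hJI hvJ))
        (Subgroup.mem_centralizer_singleton_iff.mp hva) hp2 hvC⟩
    obtain ⟨f, hfp, hfY, hfI, hfc, hfcard, hffix, hffaith⟩ :=
      ih J' Y hJ'c (inf_le_left.trans hJI) hYn hYodd hIY hfaith'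
    set A := (⨆ i, f i : Subgroup S) with hA
    have hAY : A ≤ Y := iSup_le hfY
    have haA : ∀ x ∈ A, Commute x a := fun x hx => Subgroup.mem_centralizer_singleton_iff.mp (hAY hx).2
    set g : Fin (m + 1) → Subgroup S := Fin.cons (Subgroup.zpowers a) f with hg
    have hg0 : g 0 = Subgroup.zpowers a := rfl
    have hgs : ∀ i : Fin m, g i.succ = f i := fun i => by simp [hg]
    have hsup : (⨆ i, g i) = Subgroup.zpowers a ⊔ A := by
      refine le_antisymm (iSup_le fun i => ?_) (sup_le (hg0 ▸ le_iSup g 0) (iSup_le fun i => hgs i ▸ le_iSup g i.succ))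
      refine Fin.cases ?_ (fun i => ?_) i
      · exact hg0 ▸ le_sup_left
      · rw [hgs]; exact le_sup_of_le_right (le_iSup f i)
    have hnormA : A ≤ Subgroup.normalizer ((Subgroup.zpowers a : Subgroup S) : Set S) := by
      intro x hx
      refine Subgroup.centralizer_le_normalizer _ (Subgroup.mem_centralizer_iff.mpr fun v hv => ?_)
      obtain ⟨k, rfl⟩ := Subgroup.mem_zpowers_iff.mp hv
      exact ((haA x hx).zpow_right k).eq.symm
    have hfixa : ∀ (k : ℤ) (v : S), v ∈ J' → Commute v (a ^ k) := fun k v hv =>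
      (show Commute v a from Subgroup.mem_centralizer_singleton_iff.mp hv.2).zpow_right k
    have hdis : Subgroup.zpowers a ⊓ A = ⊥ := by
      rw [eq_bot_iff]
      rintro x ⟨hx1, hx2⟩
      obtain ⟨k, rfl⟩ := Subgroup.mem_zpowers_iff.mp hx1
      exact hffix _ hx2 fun v hv => hfixa k v hv
    refine ⟨g, ?_, ?_, ?_, ?_, ?_, ?_, ?_⟩
    · refine Fin.cases ?_ fun i => ?_
      · rw [hg0, Nat.card_zpowers, hao]; exact hp
      · rw [hgs]; exact hfp i
    · refine Fin.cases ?_ fun i => ?_
      · rw [hg0]; exact Subgroup.zpowers_le.mpr haX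
      · rw [hgs]; exact (hfY i).trans inf_le_left
    · refine Fin.cases ?_ fun i => ?_
      · rw [hg0]; exact hIza
      · rw [hgs]; exact hfI i
    · have h0 : ∀ i, ∀ x ∈ f i, ∀ y ∈ Subgroup.zpowers a, x * y = y * x := fun i x hx y hy => by
        obtain ⟨k, rfl⟩ := Subgroup.mem_zpowers_iff.mp hy
        exact ((haA x (le_iSup f i hx)).zpow_right k).eq
      intro i j hij
      induction i using Fin.cases with
      | zero =>
        induction j using Fin.cases with
        | zero => exact absurd rfl hij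
        | succ j => rw [hg0, hgs]; intro x hx y hy; exact (h0 j y hy x hx).symm
      | succ i =>
        induction j using Fin.cases with
        | zero => rw [hg0, hgs]; exact h0 i
        | succ j => rw [hgs, hgs]; exact hfc i j fun e => hij (congrArg Fin.succ e)
    · have h := Coprime.card_sup_mul_card_inf (N := Subgroup.zpowers a) (H := A) hnormA
      rw [hdis, Subgroup.card_bot, mul_one, hfcard] at h
      rw [hsup, h, Fin.prod_univ_succ, hg0]
      simp only [hgs]
    · rw [hsup]
      intro x hx hfix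
      obtain ⟨u, hu, v, hv, rfl⟩ := Coprime.exists_mul_of_mem_sup hnormA hx
      obtain ⟨k, rfl⟩ := Subgroup.mem_zpowers_iff.mp hu
      have hv1 : v = 1 := hffix v hv fun w hw => by
        have h := (hfixa k w hw).inv_right.mul_right (hfix w hw.1)
        rwa [inv_mul_cancel_left] at h
      rw [hv1, mul_one] at hfix ⊢
      have h := (hfix j0 hj0).eq
      rw [← mul_inv_eq_iff_eq_mul, ← conj_zpow, hj0a, inv_zpow] at h
      have h2 : (a ^ k) ^ 2 = 1 := by rw [pow_two]; nth_rw 1 [← h]; exact inv_mul_cancel _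
      have hd2 := orderOf_dvd_of_pow_eq_one h2
      rcases (Nat.dvd_prime hp).mp (hao ▸ (orderOf_dvd_of_pow_eq_one (by
          rw [← zpow_natCast, ← zpow_mul, mul_comm, zpow_mul, zpow_natCast, pow_orderOf_eq_one, one_zpow]) :
            orderOf (a ^ k) ∣ orderOf a)) with e | e
      · exact orderOf_eq_one_iff.mp e
      · rw [e, Nat.prime_dvd_prime_iff_eq hp Nat.prime_two] at hd2
        exact absurd hd2 hp2
    · rw [eq_bot_iff]
      rintro v ⟨hvJ, hvC⟩
      rw [hsup] at hvC
      have hva : v * a = a * v :=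
        (Subgroup.mem_centralizer_iff.mp hvC a (Subgroup.mem_sup_left (Subgroup.mem_zpowers a))).symm
      rw [← hffaith]
      exact ⟨⟨hvJ, Subgroup.mem_centralizer_singleton_iff.mpr hva⟩,
        Subgroup.centralizer_le (show (A : Set S) ⊆ _ from SetLike.coe_subset_coe.mpr le_sup_right) hvC⟩


/-- Let S be a finite solvable group whose Fitting subgroup F(S) has odd order, and let I be an elementary abelian 2-subgroup of S of order 2ⁿ with n ≥ 1. Then F(S) contains subgroups A₁, …, Aₙ of prime order, each normalized by I, pairwise commuting and generating a subgroup A of order |A₁|⋯|Aₙ| (their internal direct product), such that no non-identity element of I centralizes A. -/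
theorem result {S : Type*} [Group S] [Finite S]
    [Group.IsSolvable S] (hF : Odd (Nat.card ↥(Cfsg.fittingSubgroup S)))
    (I : Subgroup S) (hI : Cfsg.IsElementaryAbelian 2 I) (n : ℕ) (hn : 1 ≤ n) (hIn : Nat.card ↥I = 2 ^ n) :
    ∃ f : Fin n → Subgroup S, (∀ i, (Nat.card ↥(f i)).Prime) ∧ (∀ i, f i ≤ Cfsg.fittingSubgroup S) ∧
      (∀ i, I ≤ Subgroup.normalizer ((f i) : Set S)) ∧ (∀ i j, i ≠ j → ∀ a ∈ f i, ∀ b ∈ f j, a * b = b * a) ∧
      Nat.card ↥(⨆ i, f i) = ∏ i, Nat.card ↥(f i) ∧ I ⊓ Subgroup.centralizer ((⨆ i, f i : Subgroup S) : Set S) = ⊥ := by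
  set F := Cfsg.fittingSubgroup S with hFdef
  haveI hFn : F.Normal := PGroups.fitting_normal
  have hIc : ∀ a ∈ I, ∀ b ∈ I, a * b = b * a := fun a ha b hb =>
    congrArg Subtype.val (hI.1.is_comm.comm (⟨a, ha⟩ : I) ⟨b, hb⟩)
  obtain ⟨f, h1, h2, h3, h4, h5, -, h7⟩ := main I hIc hI.2 n I F hIn le_rfl PGroups.fitting_isNilpotent hF
    (by rw [Subgroup.normalizer_eq_top_iff.mpr hFn]; exact le_top) (by
    rw [eq_bot_iff]
    rintro v ⟨hv, hvC⟩
    have hvF := Cores.centralizer_fittingSubgroup_le inferInstance hvC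
    refine Subgroup.mem_bot.mpr (orderOf_eq_one_iff.mp (Nat.eq_one_of_dvd_coprimes hF.coprime_two_right
      (Subgroup.orderOf_dvd_natCard F hvF) (orderOf_dvd_of_pow_eq_one (hI.2 v hv)))))
  exact ⟨f, h1, h2, h3, h4, h5, h7⟩

end Cfsg.Agent.S4408
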