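-- Statement S4409: Sylow 2-structure of minimal solvable groups with a non-cyclic abelian 8-group.
import Cfsg.Statements.S4409
import Cfsg.Agent.S0003
import Cfsg.Agent.Lib.MinNC8.Quaternion
import Cfsg.Agent.Lib.Cores.Fitting
import Cfsg.Agent.Lib.Coprime.Action
import Cfsg.Agent.Lib.Coprime.Basic
import Cfsg.Agent.Lib.LocalEven.PCore

set_option autoImplicit false
open Cfsg

namespace Cfsg.Agent.S4409

open Lib.MinNC8
open scoped commutatorElement

universe u

variable {S : Type u} [Group S] [Finite S]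

theorem odd_of_index (X : Sylow 2 S) : Odd (X : Subgroup S).index :=
  Nat.not_even_iff_odd.mp fun h => X.not_dvd_index h.two_dvd

theorem key {K : Subgroup S} (X : Sylow 2 S) (hK : Nat.card ↥K = (X : Subgroup S).index)
    (hmin : ∀ R : Subgroup S, R ≠ ⊤ → (∃ k : ℕ, R.index = 2 ^ k) →
      ¬ ∃ A : Subgroup S, A ≤ R ∧ IsMulCommutative ↥A ∧ ¬ IsCyclic ↥A ∧ Nat.card ↥A = 8)
    {R : Subgroup S} (hR : IsPGroup 2 ↥R) (hRK : K ≤ Subgroup.normalizer (R : Set S))
    (hlt : Nat.card ↥R < Nat.card ↥(X : Subgroup S)) : NC8 R := by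
  obtain ⟨m, hm⟩ := IsPGroup.iff_card.mp hR
  obtain ⟨n, hn⟩ := IsPGroup.iff_card.mp X.isPGroup'
  have hcop : (Nat.card ↥R).Coprime (Nat.card ↥K) := by
    rw [hm, hK]
    exact (Nat.coprime_two_left.mpr (odd_of_index X)).pow_left m
  have hcard := Lib.Coprime.card_sup_of_coprime hRK hcop
  have hidx : (R ⊔ K).index = 2 ^ (n - m) := by
    have h1 := (R ⊔ K).card_mul_index
    rw [← (X : Subgroup S).card_mul_index, hcard, hK, hm, hn, mul_assoc] at h1
    rw [hm, hn] at hlt
    have hmn : m ≤ n := ((Nat.pow_lt_pow_iff_right (by norm_num)).mp hlt).le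
    have h2 : (X : Subgroup S).index * (R ⊔ K).index = 2 ^ (n - m) * (X : Subgroup S).index := by
      refine Nat.eq_of_mul_eq_mul_left (pow_pos (show 0 < 2 by norm_num) m) ?_
      rw [h1, ← mul_assoc, ← pow_add]
      congr 2
      omega
    rw [mul_comm] at h2
    exact Nat.eq_of_mul_eq_mul_right (Nat.pos_of_ne_zero (X : Subgroup S).index_ne_zero_of_finite) h2
  have hne : R ⊔ K ≠ ⊤ := by
    intro h
    rw [h, Subgroup.card_top, ← (X : Subgroup S).card_mul_index, hK] at hcard
    exact hlt.ne (Nat.eq_of_mul_eq_mul_right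
      (Nat.pos_of_ne_zero (X : Subgroup S).index_ne_zero_of_finite) hcard).symm
  rintro ⟨A, hA, h⟩
  exact hmin _ hne ⟨_, hidx⟩ ⟨A, hA.trans le_sup_left, h⟩

theorem centralizer_pCore_le [Group.IsSolvable S] (hO : Cfsg.pPrimeCore 2 S = ⊥) :
    Subgroup.centralizer (pCore 2 S : Set S) ≤ pCore 2 S := by
  have hF : fittingSubgroup S ≤ pCore 2 S := by
    simpa [hO] using Lib.Cores.fittingSubgroup_le_pCore_sup_pPrimeCore (G := S) 2
  exact ((Subgroup.centralizer_le hF).trans
    (Lib.Cores.centralizer_fittingSubgroup_le inferInstance)).trans hF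

/-- A Hall `2'`-subgroup centralising a self-centralising 2-group is trivial. -/
theorem commutator_ne_bot {K Q : Subgroup S} (hodd : Odd (Nat.card ↥K)) (hQ : IsPGroup 2 ↥Q)
    (hC : Subgroup.centralizer (Q : Set S) ≤ Q) (hK : K ≠ ⊥) : ⁅Q, K⁆ ≠ ⊥ := by
  intro h
  rw [Subgroup.commutator_comm, Subgroup.commutator_eq_bot_iff_le_centralizer] at h
  obtain ⟨k, hk⟩ := IsPGroup.iff_card.mp hQ
  have := Nat.eq_one_of_dvd_coprimes ((Nat.coprime_two_left.mpr hodd).pow_left k)
    (hk ▸ Subgroup.card_dvd_of_le (h.trans hC)) dvd_rfl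
  exact hK ((Subgroup.eq_bot_iff_card K).mpr this)

theorem exists_nca8_le (X : Sylow 2 S)
    (h8 : ∃ A : Subgroup S, IsMulCommutative ↥A ∧ ¬ IsCyclic ↥A ∧ Nat.card ↥A = 8) :
    ∃ A : Subgroup S, A ≤ (X : Subgroup S) ∧ IsMulCommutative ↥A ∧ ¬ IsCyclic ↥A ∧
      Nat.card ↥A = 8 := by
  obtain ⟨A, hc, hn, h8⟩ := h8
  have hA : IsPGroup 2 ↥A := IsPGroup.of_card (n := 3) (by rw [h8]; norm_num)
  obtain ⟨P, hP⟩ := hA.exists_le_sylow
  obtain ⟨g, hg⟩ := MulAction.exists_smul_eq S P X
  refine ⟨A.map (MulAut.conj g).toMonoidHom, ?_, Subgroup.map_isMulCommutative A _, ?_, ?_⟩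
  · rw [← hg]
    rintro _ ⟨a, ha, rfl⟩
    exact Subgroup.smul_mem_pointwise_smul a (MulAut.conj g) (P : Subgroup S) (hP ha)
  · exact fun h => hn (isCyclic_of_surjective _
      (A.equivMapOfInjective (MulAut.conj g).toMonoidHom (MulAut.conj g).injective).symm.surjective)
  · rw [← Nat.card_congr (A.equivMapOfInjective (MulAut.conj g).toMonoidHom (MulAut.conj g).injective).toEquiv, h8]

/-- The Sylow 2-subgroup is normal. -/
theorem sylow_normal [Group.IsSolvable S] (hO : Cfsg.pPrimeCore 2 S = ⊥)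
    (h8 : ∃ A : Subgroup S, IsMulCommutative ↥A ∧ ¬ IsCyclic ↥A ∧ Nat.card ↥A = 8)
    (hmin : ∀ R : Subgroup S, R ≠ ⊤ → (∃ k : ℕ, R.index = 2 ^ k) →
      ¬ ∃ A : Subgroup S, A ≤ R ∧ IsMulCommutative ↥A ∧ ¬ IsCyclic ↥A ∧ Nat.card ↥A = 8)
    (X : Sylow 2 S) {K : Subgroup S} (hK : Nat.card ↥K = (X : Subgroup S).index) :
    (X : Subgroup S).Normal := by
  have hodd : Odd (Nat.card ↥K) := hK ▸ odd_of_index X
  set Q := pCore 2 S with hQdef
  have hQn : Q.Normal := Lib.LocalEven.pCore_normal 2 S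
  have hQp : IsPGroup 2 ↥Q := Lib.LocalEven.pCore_isPGroup 2 S
  have hQX : Q ≤ (X : Subgroup S) := Lib.LocalEven.pCore_le_sylow X
  have hCQ := centralizer_pCore_le hO
  by_cases hle : (X : Subgroup S) ≤ Q
  · rwa [show (X : Subgroup S) = Q from le_antisymm hle hQX]
  by_cases hK1 : K = ⊥
  · have : (X : Subgroup S) = ⊤ := by
      rw [← Subgroup.index_eq_one, ← hK, hK1, Subgroup.card_bot]
    rw [this]; infer_instance
  exfalso
  have hlt : Nat.card ↥Q < Nat.card ↥(X : Subgroup S) := by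
    by_contra h
    exact hle (Subgroup.eq_of_le_of_card_ge hQX (not_lt.mp h)).ge
  have hnQ : ∀ H : Subgroup S, H ≤ Subgroup.normalizer (Q : Set S) := fun H =>
    le_top.trans (Subgroup.normalizer_eq_top_iff.mpr hQn).ge
  have hQnc := key X hK hmin hQp (hnQ K) hlt
  obtain ⟨k, hk⟩ := IsPGroup.iff_card.mp hQp
  have hcop : (Nat.card ↥K).Coprime (Nat.card ↥Q) :=
    hk ▸ (Nat.coprime_two_right.mpr hodd).pow_right k
  have hWQ : ⁅Q, K⁆ ≤ Q := Subgroup.le_normalizer_iff_commutator_le_left.mp (hnQ K)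
  have hKW := Subgroup.normalizer_commutator_ge_right Q K
  have hW := Lib.Coprime.commutator_commutator_eq (hnQ K) hcop (Or.inl inferInstance)
  have hWne := commutator_ne_bot hodd hQp hCQ hK1
  have hWnc : NC8 ⁅Q, K⁆ := fun ⟨A, hA, h⟩ => hQnc ⟨A, hA.trans hWQ, h⟩
  have hS := small_of_commutator (hQp.to_le hWQ) hKW hodd hW hWne hWnc
  have hCW : Q ⊓ Subgroup.centralizer (K : Set S) ≤ ⁅Q, K⁆ := by
    by_contra hnot
    obtain ⟨c, -, -, hsup, -, -, hbad⟩ := exists_extension hS hQp hWQ inf_le_left hKW hodd hW hWne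
      (inf_le_left.trans (Subgroup.normalizer_commutator_ge_left Q K)) inf_le_right hnot
    exact hbad fun ⟨A, hA, h⟩ => hQnc ⟨A, hA.trans hsup, h⟩
  have hQW : ⁅Q, K⁆ = Q := by
    have := Lib.Coprime.commutator_sup_centralizer_eq (hnQ K) hcop (Or.inl inferInstance)
    rwa [sup_eq_left.mpr hCW] at this
  rw [hQW] at hS
  obtain ⟨A, hAX, hAc, hAn, hA8⟩ := exists_nca8_le X h8
  exact small_absurd hS X.isPGroup' hQX hlt (hnQ _) (inf_le_right.trans hCQ) hAX hAc hAn hA8

/-- The centre of order 2 case. -/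
theorem thirty_two_le {P : Type u} [Group P] [Finite P] (hP : IsPGroup 2 P)
    (hsp : Cfsg.IsSpecial 2 P) (hZ : Nat.card ↥(Subgroup.center P) = 2)
    (A : Subgroup P) (hA : IsMulCommutative ↥A) (hA8 : Nat.card ↥A = 8) : 32 ≤ Nat.card P := by
  obtain ⟨n, hn⟩ := IsPGroup.iff_card.mp hP
  have hne : A ≠ ⊤ := by
    intro h
    have : Subgroup.center P = ⊤ := by
      rw [Subgroup.eq_top_iff']
      intro x
      rw [Subgroup.mem_center_iff]
      intro y
      exact congrArg Subtype.val (hA.is_comm.comm ⟨y, h ▸ Subgroup.mem_top y⟩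
        ⟨x, h ▸ Subgroup.mem_top x⟩)
    rw [this, Subgroup.card_top] at hZ
    rw [h, Subgroup.card_top] at hA8
    omega
  have hgt : 8 < Nat.card P := by
    by_contra h
    exact hne (Subgroup.eq_top_of_le_card A (by omega))
  have h16 : Nat.card P ≠ 16 := by
    intro h16
    obtain ⟨g, -, hg⟩ := SetLike.not_le_iff_exists.mp (fun h : (⊤ : Subgroup P) ≤ A =>
      hne (top_le_iff.mp h))
    have hcen : ∀ x y : P, ⁅x, y⁆ ∈ Subgroup.center P := fun x y =>
      hsp.2.2 ▸ Subgroup.commutator_mem_commutator (Subgroup.mem_top x) (Subgroup.mem_top y)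
    let f : ↥A →* ↥(Subgroup.center P) :=
      { toFun := fun x => ⟨⁅(x : P), g⁆, hcen _ _⟩
        map_one' := Subtype.ext (by simp [commutatorElement_def])
        map_mul' := fun x y => Subtype.ext (by
          change ⁅(x : P) * y, g⁆ = ⁅(x : P), g⁆ * ⁅(y : P), g⁆
          calc ⁅(x : P) * y, g⁆ = ((x : P) * ⁅(y : P), g⁆ * (x : P)⁻¹) * ⁅(x : P), g⁆ := by
                simp only [commutatorElement_def]; group
            _ = ⁅(x : P), g⁆ * ⁅(y : P), g⁆ := by
                rw [Subgroup.mem_center_iff.mp (hcen y g) x, mul_inv_cancel_right,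
                  ← Subgroup.mem_center_iff.mp (hcen y g)]) }
    have hsplit := f.ker.card_mul_index
    rw [Subgroup.index_ker, hA8] at hsplit
    have hr : Nat.card ↥f.range ≤ 2 := hZ ▸ Subgroup.card_le_card_group f.range
    obtain ⟨a, ha, haZ⟩ : ∃ a ∈ f.ker, (a : P) ∉ Subgroup.center P := by
      by_contra h
      push Not at h
      have hle : f.ker.map A.subtype ≤ Subgroup.center P := by
        rintro _ ⟨x, hx, rfl⟩
        exact h x hx
      have := Subgroup.card_le_of_le hle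
      rw [← Nat.card_congr (f.ker.equivMapOfInjective A.subtype A.subtype_injective).toEquiv,
        hZ] at this
      nlinarith
    refine haZ (Subgroup.mem_center_iff.mpr fun x => ?_)
    have hAC : A ≤ Subgroup.centralizer {(a : P)} := fun x hx =>
      Subgroup.mem_centralizer_singleton_iff.mpr
        (congrArg Subtype.val (hA.is_comm.comm ⟨x, hx⟩ a))
    have hgC : g ∈ Subgroup.centralizer {(a : P)} := Subgroup.mem_centralizer_singleton_iff.mpr
      (commutatorElement_eq_one_iff_mul_comm.mp (congrArg Subtype.val (MonoidHom.mem_ker.mp ha))).symm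
    have htop : Subgroup.centralizer {(a : P)} = ⊤ := by
      have hdvd := Subgroup.card_subgroup_dvd_card (Subgroup.centralizer {(a : P)})
      have hlt : 8 < Nat.card ↥(Subgroup.centralizer {(a : P)}) := by
        by_contra h
        exact hg (Subgroup.eq_of_le_of_card_ge hAC (by omega) ▸ hgC)
      rw [h16] at hdvd
      have := Nat.le_of_dvd (by norm_num) hdvd
      refine Subgroup.eq_top_of_le_card _ ?_
      rw [h16]
      interval_cases hc : Nat.card ↥(Subgroup.centralizer {(a : P)}) <;> omega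
    exact Subgroup.mem_centralizer_singleton_iff.mp (htop.ge (Subgroup.mem_top x))
  have hn5 : 5 ≤ n := by
    by_contra h
    interval_cases n <;> norm_num at hn <;> omega
  exact hn ▸ Nat.pow_le_pow_right (show 0 < 2 by norm_num) hn5

/-- Let S be a finite solvable group with O_{2'}(S) = 1 that contains a non-cyclic abelian subgroup of order 8, while no proper subgroup of S of 2-power index contains one. Then a Sylow 2-subgroup X of S is normal in S, and one of the following holds: X is abelian; X is extraspecial of order at least 32; X has a generalized quaternion subgroup X₀ of index 2 with X = X₀·C_X(X₀); or X is special with centre of order 4. -/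
theorem result {S : Type*} [Group S] [Finite S]
    [Group.IsSolvable S] (hO : Cfsg.pPrimeCore 2 S = ⊥)
    (h8 : ∃ A : Subgroup S, IsMulCommutative ↥A ∧ ¬ IsCyclic ↥A ∧ Nat.card ↥A = 8)
    (hmin : ∀ R : Subgroup S, R ≠ ⊤ → (∃ k : ℕ, R.index = 2 ^ k) →
      ¬ ∃ A : Subgroup S, A ≤ R ∧ IsMulCommutative ↥A ∧ ¬ IsCyclic ↥A ∧ Nat.card ↥A = 8)
    (X : Sylow 2 S) :
    (X : Subgroup S).Normal ∧
      (IsMulCommutative ↥X ∨
        (Cfsg.IsExtraspecial 2 ↥X ∧ 32 ≤ Nat.card ↥X) ∨
        (∃ (X₀ : Subgroup S) (k : ℕ), X₀ ≤ (X : Subgroup S) ∧ X₀.relIndex (X : Subgroup S) = 2 ∧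
          Nonempty (↥X₀ ≃* QuaternionGroup (2 ^ (k + 1))) ∧ X₀ ⊔ ((X : Subgroup S) ⊓ Subgroup.centralizer (X₀ : Set S)) = (X : Subgroup S)) ∨
        (Cfsg.IsSpecial 2 ↥X ∧ Nat.card ↥(Subgroup.center ↥X) = 4)) := by
  obtain ⟨K, hK⟩ := S0003.result (G := S) (X : Subgroup S).index (Nat.card ↥(X : Subgroup S))
    (X : Subgroup S).index_mul_card.symm (by
      obtain ⟨n, hn⟩ := IsPGroup.iff_card.mp X.isPGroup'
      rw [hn]
      exact (Nat.coprime_two_right.mpr (odd_of_index X)).pow_right n)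
  have hodd : Odd (Nat.card ↥K) := hK ▸ odd_of_index X
  have hXn := sylow_normal hO h8 hmin X hK
  refine ⟨hXn, ?_⟩
  by_cases hK1 : K = ⊥
  · have hXT : (X : Subgroup S) = ⊤ := by
      rw [← Subgroup.index_eq_one, ← hK, hK1, Subgroup.card_bot]
    obtain ⟨A, hc, hn, hA⟩ := h8
    have hAT : A = ⊤ := by
      by_contra h
      obtain ⟨n, hn'⟩ := IsPGroup.iff_card.mp X.isPGroup'
      rw [hXT, Subgroup.card_top] at hn'
      have hd : A.index ∣ 2 ^ n := hn' ▸ A.index_dvd_card
      obtain ⟨k, -, hk⟩ := (Nat.dvd_prime_pow Nat.prime_two).mp hd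
      exact hmin A h ⟨k, hk⟩ ⟨A, le_rfl, hc, hn, hA⟩
    exact Or.inl ⟨⟨fun x y => Subtype.ext (congrArg Subtype.val (hc.is_comm.comm
      ⟨x, hAT ▸ Subgroup.mem_top _⟩ ⟨y, hAT ▸ Subgroup.mem_top _⟩) :)⟩⟩
  have hXp : IsPGroup 2 ↥(X : Subgroup S) := X.isPGroup'
  have hnX : ∀ H : Subgroup S, H ≤ Subgroup.normalizer ((X : Subgroup S) : Set S) := fun H =>
    le_top.trans (Subgroup.normalizer_eq_top_iff.mpr hXn).ge
  have hCX : Subgroup.centralizer ((X : Subgroup S) : Set S) ≤ (X : Subgroup S) :=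
    ((Subgroup.centralizer_le (Lib.LocalEven.pCore_le_sylow X)).trans
      (centralizer_pCore_le hO)).trans (Lib.LocalEven.pCore_le_sylow X)
  obtain ⟨m, hm⟩ := IsPGroup.iff_card.mp hXp
  have hcop : (Nat.card ↥K).Coprime (Nat.card ↥(X : Subgroup S)) :=
    hm ▸ (Nat.coprime_two_right.mpr hodd).pow_right m
  have hWX : ⁅(X : Subgroup S), K⁆ ≤ X :=
    Subgroup.le_normalizer_iff_commutator_le_left.mp (hnX K)
  have hKW := Subgroup.normalizer_commutator_ge_right (X : Subgroup S) K
  have hW := Lib.Coprime.commutator_commutator_eq (hnX K) hcop (Or.inl inferInstance)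
  have hWne := commutator_ne_bot hodd hXp hCX hK1
  by_cases hfull : ⁅(X : Subgroup S), K⁆ = X
  · have hab : ∀ C : Subgroup ↥(X : Subgroup S), C.Characteristic → IsMulCommutative ↥C → C ≠ ⊤ →
        IsCyclic ↥C ∨ Nat.card ↥C ≤ 4 := by
      intro C hCc hC hCne
      by_contra h
      push Not at h
      have hN : (C.map (X : Subgroup S).subtype).Normal :=
        Lib.Cores.normal_map_subtype_of_char (X : Subgroup S) C
      have hcard : Nat.card ↥(C.map (X : Subgroup S).subtype) = Nat.card ↥C :=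
        (Nat.card_congr (C.equivMapOfInjective _ (X : Subgroup S).subtype_injective).toEquiv).symm
      have hnc : NC8 (C.map (X : Subgroup S).subtype) := by
        refine key X hK hmin ((hXp.to_subgroup C).map _)
          (le_top.trans (Subgroup.normalizer_eq_top_iff.mpr hN).ge) ?_
        rw [hcard]
        by_contra hge
        exact hCne (Subgroup.eq_top_of_le_card C (not_lt.mp hge))
      obtain ⟨j, hj⟩ := IsPGroup.iff_card.mp (hXp.to_subgroup C)
      have hj3 : 3 ≤ j := by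
        by_contra h'
        have := Nat.pow_le_pow_right (show 0 < 2 by norm_num) (show j ≤ 2 by omega)
        omega
      refine not_nc8_of_noncyclic le_rfl ((hXp.to_subgroup C).map _)
        (Subgroup.map_isMulCommutative C _) (fun hc => h.1 (isCyclic_of_surjective _
          (C.equivMapOfInjective _ (X : Subgroup S).subtype_injective).symm.surjective)) ?_ hnc
      rw [hcard, hj]
      exact Nat.pow_le_pow_right (show 0 < 2 by norm_num) hj3
    rcases comm_or_special hXp (odd_range (hnX K) hodd) (closure_eq_top (hnX K) hfull) hab with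
      h | ⟨hsp, -, -, hZ | hZ⟩
    · exact Or.inl h
    · obtain ⟨A, hAX, hAc, -, hA8⟩ := exists_nca8_le X h8
      refine Or.inr (Or.inl ⟨⟨hsp, hZ⟩, ?_⟩)
      refine thirty_two_le hXp hsp hZ (A.subgroupOf (X : Subgroup S)) ?_ ?_
      · exact ⟨⟨fun x y => Subtype.ext (Subtype.ext (congrArg Subtype.val
          (hAc.is_comm.comm ⟨_, x.2⟩ ⟨_, y.2⟩) :))⟩⟩
      · exact (Nat.card_congr (Subgroup.subgroupOfEquivOfLe hAX).toEquiv).trans hA8
    · exact Or.inr (Or.inr (Or.inr ⟨hsp, hZ⟩))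
  set W := ⁅(X : Subgroup S), K⁆ with hWdef
  have hlt : Nat.card ↥W < Nat.card ↥(X : Subgroup S) := by
    by_contra h
    exact hfull (Subgroup.eq_of_le_of_card_ge hWX (not_lt.mp h))
  have hS := small_of_commutator (hXp.to_le hWX) hKW hodd hW hWne
    (key X hK hmin (hXp.to_le hWX) hKW hlt)
  have hnot : ¬ (X : Subgroup S) ⊓ Subgroup.centralizer (K : Set S) ≤ W := by
    intro h
    have := Lib.Coprime.commutator_sup_centralizer_eq (hnX K) hcop (Or.inl inferInstance)
    rw [sup_eq_left.mpr h] at this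
    exact hfull this
  obtain ⟨c, hcX, hcc, hsup, hKR, hcard, hbad⟩ := exists_extension hS hXp hWX inf_le_left hKW hodd
    hW hWne (inf_le_left.trans (Subgroup.normalizer_commutator_ge_left _ K)) inf_le_right hnot
  have hR : W ⊔ Subgroup.zpowers c = X := by
    refine Subgroup.eq_of_le_of_card_ge hsup ?_
    by_contra h
    exact hbad (key X hK hmin (hXp.to_le hsup) hKR (not_le.mp h))
  rcases hS.iso with ⟨hWc, -⟩ | ⟨⟨e⟩⟩
  · left
    have hgen : ∀ a ∈ (W : Set S) ∪ {c}, ∀ b ∈ (W : Set S) ∪ {c}, a * b = b * a := by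
      rintro a (ha | rfl) b (hb | rfl)
      · exact congrArg Subtype.val (hWc.is_comm.comm ⟨a, ha⟩ ⟨b, hb⟩)
      · exact Subgroup.mem_centralizer_iff.mp hcc a ha
      · exact (Subgroup.mem_centralizer_iff.mp hcc b hb).symm
      · rfl
    have hcl := Subgroup.isMulCommutative_closure hgen
    have hle : (X : Subgroup S) ≤ Subgroup.closure ((W : Set S) ∪ {c}) := by
      rw [← hR]
      exact sup_le (fun w hw => Subgroup.subset_closure (Or.inl hw))
        (Subgroup.zpowers_le.mpr (Subgroup.subset_closure (Or.inr rfl)))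
    exact ⟨⟨fun x y => Subtype.ext (congrArg Subtype.val
      (hcl.is_comm.comm ⟨x, hle x.2⟩ ⟨y, hle y.2⟩) :)⟩⟩
  · refine Or.inr (Or.inr (Or.inl ⟨W, 0, hWX, ?_, ⟨e⟩, ?_⟩))
    · have h1 := (W.subgroupOf (X : Subgroup S)).card_mul_index
      rw [Nat.card_congr (Subgroup.subgroupOfEquivOfLe hWX).toEquiv] at h1
      rw [hR] at hcard
      rw [hcard, mul_comm 2 (Nat.card ↥W)] at h1
      exact Nat.eq_of_mul_eq_mul_left Nat.card_pos h1
    · refine le_antisymm (sup_le hWX inf_le_left) ?_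
      conv_lhs => rw [← hR]
      exact sup_le le_sup_left (Subgroup.zpowers_le.mpr (Subgroup.mem_sup_right ⟨hcX, hcc⟩))

end Cfsg.Agent.S4409
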