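import Cfsg.Statements.S4410
import Cfsg.Agent.Lib.Cores.Fitting
import Cfsg.Agent.Lib.Cores.PCore
import Mathlib

set_option autoImplicit false
open Cfsg

namespace Cfsg.Agent.S4410

open Cfsg.Agent.Lib

universe u

variable {V : Type u} [AddCommGroup V] [Module (ZMod 2) V] [Finite V]

local notation "GV" => (V ≃ₗ[ZMod 2] V)

omit [Finite V] in
theorem add_self' (v : V) : v + v = 0 := by
  rw [← two_smul (ZMod 2) v, show (2 : ZMod 2) = 0 from rfl, zero_smul]

omit [Finite V] in
theorem eq_of_add_eq_zero' {v w : V} (h : v + w = 0) : v = w := by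
  rw [← add_zero v, ← add_self' w, ← add_assoc, h, zero_add]

theorem zmod2_cases : ∀ i : ZMod 2, i = 0 ∨ i = 1 := by decide

/-- `g` moves every vector within `U`. -/
def MovesIn (U : Submodule (ZMod 2) V) (g : GV) : Prop := ∀ v, g v + v ∈ U

omit [Finite V] in
theorem movesIn_mul {U : Submodule (ZMod 2) V} {g h : GV} (hg : MovesIn U g) (hh : MovesIn U h) :
    MovesIn U (g * h) := fun v => by
  have h1 : g (h v) + v = (g (h v) + h v) + (h v + v) := by
    rw [add_assoc, ← add_assoc (h v), add_self', zero_add]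
  show g (h v) + v ∈ U
  rw [h1]
  exact U.add_mem (hg _) (hh _)

omit [Finite V] in
/-- An element of odd order that fixes `U` pointwise and moves vectors within `U` is trivial. -/
theorem eq_one_of_fix {U : Submodule (ZMod 2) V} {g : GV} (hm : MovesIn U g) (hf : ∀ u ∈ U, g u = u)
    {n : ℕ} (hn : Odd n) (hgn : g ^ n = 1) : g = 1 := by
  have h2 : g ^ 2 = 1 := LinearEquiv.ext fun v => by
    show (g ^ 2) v = v
    rw [pow_two]
    show g (g v) = v
    have h3 := hf _ (hm v)
    rw [map_add] at h3
    exact add_right_cancel (h3.trans (add_comm _ _))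
  obtain ⟨k, rfl⟩ := hn
  rwa [pow_succ, pow_mul, h2, one_pow, one_mul] at hgn

/-- The span of `c`, `d`, `e`. -/
def sp3 (c d e : V) : Submodule (ZMod 2) V := Submodule.span (ZMod 2) {c, d, e}

theorem card_sp3 (c d e : V) : Nat.card (sp3 c d e) ≤ 8 := by
  have hle : sp3 c d e ≤ LinearMap.range
      ((LinearMap.lsmul (ZMod 2) V).flip c ∘ₗ LinearMap.fst (ZMod 2) (ZMod 2) (ZMod 2 × ZMod 2) +
       (LinearMap.lsmul (ZMod 2) V).flip d ∘ₗ LinearMap.fst (ZMod 2) (ZMod 2) (ZMod 2) ∘ₗ LinearMap.snd (ZMod 2) (ZMod 2) (ZMod 2 × ZMod 2) +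
       (LinearMap.lsmul (ZMod 2) V).flip e ∘ₗ LinearMap.snd (ZMod 2) (ZMod 2) (ZMod 2) ∘ₗ LinearMap.snd (ZMod 2) (ZMod 2) (ZMod 2 × ZMod 2)) := by
    rw [sp3, Submodule.span_le]
    rintro v (rfl | rfl | rfl)
    · exact ⟨(1, 0, 0), by simp⟩
    · exact ⟨(0, 1, 0), by simp⟩
    · exact ⟨(0, 0, 1), by simp⟩
  refine (Nat.card_le_card_of_injective _ (Submodule.inclusion_injective hle)).trans ?_
  refine (Nat.card_le_card_of_surjective _ (LinearMap.surjective_rangeRestrict _)).trans (le_of_eq ?_)
  simp [Nat.card_eq_fintype_card, ZMod.card]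

theorem sp3_self (c d : V) : Nat.card (sp3 c d d) ≤ 4 := by
  have hle : sp3 c d d ≤ LinearMap.range
      ((LinearMap.lsmul (ZMod 2) V).flip c ∘ₗ LinearMap.fst (ZMod 2) (ZMod 2) (ZMod 2) +
       (LinearMap.lsmul (ZMod 2) V).flip d ∘ₗ LinearMap.snd (ZMod 2) (ZMod 2) (ZMod 2)) := by
    rw [sp3, Submodule.span_le]
    rintro v (rfl | rfl | rfl)
    · exact ⟨(1, 0), by simp⟩
    · exact ⟨(0, 1), by simp⟩
    · exact ⟨(0, 1), by simp⟩
  refine (Nat.card_le_card_of_injective _ (Submodule.inclusion_injective hle)).trans ?_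
  refine (Nat.card_le_card_of_surjective _ (LinearMap.surjective_rangeRestrict _)).trans (le_of_eq ?_)
  simp [Nat.card_eq_fintype_card, ZMod.card]

/-- A group preserving a subspace permutes its nonzero vectors. -/
noncomputable def permHom (H : Subgroup GV) (U : Submodule (ZMod 2) V) (hinv : ∀ h ∈ H, ∀ u ∈ U, h u ∈ U) :
    H →* Equiv.Perm {u : U // u ≠ 0} where
  toFun h :=
    { toFun := fun u => ⟨⟨(h : GV) u.1.1, hinv _ h.2 _ u.1.2⟩, fun e => u.2 (Subtype.ext
        ((h : GV).injective ((congrArg Subtype.val e).trans (map_zero _).symm)))⟩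
      invFun := fun u => ⟨⟨((h⁻¹ : H) : GV) u.1.1, hinv _ (h⁻¹).2 _ u.1.2⟩, fun e => u.2 (Subtype.ext
        (((h⁻¹ : H) : GV).injective ((congrArg Subtype.val e).trans (map_zero _).symm)))⟩
      left_inv := fun u => Subtype.ext (Subtype.ext ((h : GV).symm_apply_apply _))
      right_inv := fun u => Subtype.ext (Subtype.ext ((h : GV).apply_symm_apply _)) }
  map_one' := by ext; rfl
  map_mul' a b := by ext; rfl

theorem main (S : Subgroup GV) (hS : Group.IsSolvable S) (hO2 : Cfsg.pCore 2 S = ⊥)
    (P : GV) (hPS : P ∈ S) (hP4 : orderOf P = 4) (c : V) (hc : ∀ v, (P ^ 2) v + v = 0 ∨ (P ^ 2) v + v = c) :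
    False := by
  classical
  haveI := hS
  haveI : Finite GV := Finite.of_injective (fun g : GV => (g : V → V)) DFunLike.coe_injective
  haveI := Fact.mk Nat.prime_two
  haveI := Fact.mk (show Nat.Prime 3 by norm_num)
  set t := P ^ 2 with ht
  have ht2 : t * t = 1 := by rw [ht, ← pow_add, show 2 + 2 = orderOf P by omega, pow_orderOf_eq_one]
  have htinv : t⁻¹ = t := inv_eq_of_mul_eq_one_right ht2
  have htne : t ≠ 1 := fun h => by
    have := orderOf_dvd_of_pow_eq_one (ht ▸ h)
    rw [hP4] at this
    norm_num at this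
  obtain ⟨v0, hv0⟩ : ∃ v, t v + v = c := by
    by_contra hh
    push Not at hh
    exact htne (LinearEquiv.ext fun v => eq_of_add_eq_zero' ((hc v).resolve_right (hh v)))
  -- the Fitting subgroup
  set F := Cfsg.fittingSubgroup S with hF
  haveI hFnil : Group.IsNilpotent F := Cores.fittingSubgroup_isNilpotent S
  haveI : F.Characteristic := Cores.fittingSubgroup_characteristic S
  have hFodd : Odd (Nat.card F) := by
    rw [← Nat.not_even_iff_odd, even_iff_two_dvd]
    intro hd
    obtain ⟨R⟩ : Nonempty (Sylow 2 F) := inferInstance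
    haveI hRn : (R : Subgroup F).Normal := Sylow.normal_of_normalizerCondition Group.normalizerCondition_of_isNilpotent R
    haveI : (R : Subgroup F).Characteristic := Sylow.characteristic_of_normal R hRn
    have hle := Cores.le_pCore (p := 2) (N := (R : Subgroup F).map F.subtype) inferInstance (R.2.map _)
    rw [hO2, le_bot_iff, Subgroup.map_eq_bot_iff_of_injective _ F.subtype_injective] at hle
    have := R.dvd_card_of_dvd_card hd
    rw [hle, Subgroup.card_bot] at this
    norm_num at this
  have hodd : ∀ x ∈ F, Odd (orderOf (x : GV)) := fun x hx => by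
    rw [Subgroup.orderOf_coe]; exact hFodd.of_dvd_nat (Subgroup.orderOf_dvd_natCard F hx)
  set tS : S := ⟨t, pow_mem hPS 2⟩ with htS
  have htF : tS ∉ Subgroup.centralizer (F : Set S) := fun h => by
    have h1 := hodd tS (Cores.centralizer_fittingSubgroup_le inferInstance h)
    rw [show orderOf ((tS : S) : GV) = 2 from orderOf_eq_prime (by rw [pow_two]; exact ht2) htne] at h1
    exact absurd h1 (by decide)
  obtain ⟨x, hx, hxne⟩ : ∃ x ∈ F, tS * x * tS⁻¹ ≠ x := by
    by_contra hh
    push Not at hh
    exact htF (Subgroup.mem_centralizer_iff.mpr fun x hx => (mul_inv_eq_iff_eq_mul.mp (hh x hx)).symm)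
  set a0 : S := x⁻¹ * (tS * x * tS⁻¹) with ha0
  have ha0F : a0 ∈ F := F.mul_mem (F.inv_mem hx) ((inferInstance : F.Normal).conj_mem x hx tS)
  have ha01 : a0 ≠ 1 := fun h => hxne (inv_mul_eq_one.mp h).symm
  have htSinv : tS⁻¹ = tS := Subtype.ext htinv
  have htS2 : tS * tS = 1 := Subtype.ext ht2
  have ha0t : tS * a0 * tS⁻¹ = a0⁻¹ := by
    rw [ha0, mul_inv_rev, inv_inv]
    calc tS * (x⁻¹ * (tS * x * tS⁻¹)) * tS⁻¹ = tS * x⁻¹ * tS * x * (tS * tS)⁻¹ := by group
      _ = tS * x⁻¹ * tS⁻¹ * x := by rw [htS2, inv_one, mul_one, htSinv]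
      _ = (tS * x * tS⁻¹)⁻¹ * x := by group
  -- facts about inverted elements
  have key : ∀ w : S, w ∈ F → tS * w * tS⁻¹ = w⁻¹ →
      (w : GV) ^ 3 = 1 ∧ MovesIn (sp3 c ((w : GV) c) ((w : GV) c)) (w : GV) := by
    intro w hw hwt
    set a : GV := (w : GV) with ha
    have hat : t * a * t⁻¹ = a⁻¹ := congrArg Subtype.val hwt
    have h1 : a * a = (a * t * a⁻¹) * t := by
      calc a * a = a * (a⁻¹)⁻¹ := by rw [inv_inv]
        _ = a * (t * a * t⁻¹)⁻¹ := by rw [hat]
        _ = a * t * a⁻¹ * t⁻¹ := by group
        _ = (a * t * a⁻¹) * t := by rw [htinv]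
    set U := sp3 c (a c) (a c) with hU
    have hcU : c ∈ U := Submodule.subset_span (by simp)
    have hacU : a c ∈ U := Submodule.subset_span (by simp)
    have hm : MovesIn U (a * a) := by
      rw [h1]
      refine movesIn_mul (fun v => ?_) fun v => ?_
      · show a (t (a⁻¹ v)) + v ∈ U
        have h2 : a (t (a⁻¹ v)) + v = a (t (a⁻¹ v) + a⁻¹ v) := by
          rw [map_add]
          congr 1
          exact (a.apply_symm_apply v).symm
        rw [h2]
        rcases hc (a⁻¹ v) with e | e <;> rw [e]
        · rw [map_zero]; exact U.zero_mem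
        · exact hacU
      · rcases hc v with e | e <;> rw [e]
        · exact U.zero_mem
        · exact hcU
    have hinv : ∀ u ∈ U, (a * a) u ∈ U := fun u hu => by
      have := U.add_mem (hm u) hu
      rwa [add_assoc, add_self', add_zero] at this
    -- the sixth power fixes `U`
    obtain ⟨m, hm'⟩ : ∃ m, orderOf a = 2 * m + 1 := hodd w hw
    have h6 : (a * a) ^ 3 = 1 := by
      refine eq_one_of_fix (U := U) (fun v => ?_) ?_ (⟨m, rfl⟩ : Odd (2 * m + 1)) (by
        rw [← pow_two, ← pow_mul, ← pow_mul, ← hm']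
        exact orderOf_dvd_iff_pow_eq_one.mp (dvd_mul_of_dvd_right (dvd_mul_left _ _) _))
      · rw [pow_succ, pow_two]; exact movesIn_mul (movesIn_mul hm hm) hm v
      · intro u hu
        let H : Subgroup GV := Subgroup.zpowers (a * a)
        have hHinv : ∀ h ∈ H, ∀ u ∈ U, h u ∈ U := by
          intro h hh
          rw [mem_zpowers_iff_mem_range_orderOf, Finset.mem_image] at hh
          obtain ⟨i, -, rfl⟩ := hh
          induction i with
          | zero => intro u hu; simpa using hu
          | succ i ih => intro u hu; rw [pow_succ]; exact ih _ (hinv u hu)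
        set g : H := ⟨a * a, Subgroup.mem_zpowers _⟩
        have hord : orderOf (permHom H U hHinv g) ∣ 3 := by
          have hd1 : orderOf (permHom H U hHinv g) ∣ 2 * m + 1 := by
            refine (orderOf_map_dvd _ g).trans ?_
            rw [← hm', ← Subgroup.orderOf_coe]
            exact orderOf_dvd_of_pow_eq_one (by
              show (a * a) ^ orderOf a = 1
              rw [← pow_two, ← pow_mul, mul_comm, pow_mul, pow_orderOf_eq_one, one_pow])
          have hc3 : Nat.card {u : U // u ≠ 0} ≤ 3 := by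
            have h4 : Nat.card U ≤ 4 := sp3_self c (a c)
            haveI := Fintype.ofFinite U
            rw [Nat.card_eq_fintype_card] at h4
            rw [Nat.card_eq_fintype_card, Fintype.card_subtype_compl, Fintype.card_subtype_eq]
            omega
          have hd6 : orderOf (permHom H U hHinv g) ∣ 2 * 3 := by
            refine (orderOf_dvd_natCard _).trans ?_
            rw [Nat.card_perm]
            exact Nat.factorial_dvd_factorial hc3
          exact (Nat.Coprime.dvd_of_dvd_mul_left ((Nat.coprime_two_right.mpr ⟨m, rfl⟩).coprime_dvd_left hd1) hd6)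
        by_cases hu0 : u = 0
        · rw [hu0, map_zero]
        · have h5 := congrArg (fun s : Equiv.Perm {u : U // u ≠ 0} =>
            ((s ⟨⟨u, hu⟩, fun e => hu0 (congrArg Subtype.val e)⟩).1.1 : V))
            (orderOf_dvd_iff_pow_eq_one.mp hord)
          rw [← map_pow] at h5
          exact h5
    have h3 : a ^ 3 = 1 := by
      have h12 : a ^ (2 * 3) = 1 := by rw [pow_mul, pow_two]; exact h6
      refine orderOf_dvd_iff_pow_eq_one.mp ?_
      exact Nat.Coprime.dvd_of_dvd_mul_left (Nat.coprime_two_right.mpr (hodd w hw)) (orderOf_dvd_of_pow_eq_one h12)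
    refine ⟨h3, ?_⟩
    have h4 : (a * a) * (a * a) = a := by
      rw [show (a * a) * (a * a) = a ^ 3 * a by rw [pow_succ, pow_two]; group, h3, one_mul]
    exact h4 ▸ movesIn_mul hm hm
  have hmove : ∀ w : S, w ∈ F → tS * w * tS⁻¹ = w⁻¹ → w ≠ 1 → (w : GV) c ≠ c := by
    intro w hw hwt hw1 he
    have hk := key w hw hwt
    rw [he] at hk
    refine hw1 (Subtype.ext (eq_one_of_fix hk.2 (fun u hu => ?_) (n := 3) (by decide) hk.1))
    have : sp3 c c c ≤ LinearMap.ker ((w : GV).toLinearMap - LinearMap.id) := by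
      rw [sp3, Submodule.span_le]
      rintro v (rfl | rfl | rfl) <;> simp [he]
    simpa [sub_eq_zero] using this hu
  -- the two inverted elements
  set PS : S := ⟨P, hPS⟩ with hPSd
  set b0 : S := PS * a0 * PS⁻¹ with hb0
  have hPt : PS * tS = tS * PS := Subtype.ext (by
    show P * P ^ 2 = P ^ 2 * P
    rw [← pow_succ, ← pow_succ'])
  have hb0F : b0 ∈ F := (inferInstance : F.Normal).conj_mem a0 ha0F PS
  have hb0t : tS * b0 * tS⁻¹ = b0⁻¹ := by
    rw [hb0]
    calc tS * (PS * a0 * PS⁻¹) * tS⁻¹ = (tS * PS) * a0 * (tS * PS)⁻¹ := by group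
      _ = (PS * tS) * a0 * (PS * tS)⁻¹ := by rw [hPt]
      _ = PS * (tS * a0 * tS⁻¹) * PS⁻¹ := by group
      _ = (PS * a0 * PS⁻¹)⁻¹ := by rw [ha0t]; group
  have hb01 : b0 ≠ 1 := fun h => ha01 (by
    rw [hb0, mul_inv_eq_one, mul_eq_left] at h; exact h)
  set a : GV := (a0 : GV) with had
  set b : GV := (b0 : GV) with hbd
  obtain ⟨ha3, hma⟩ := key a0 ha0F ha0t
  obtain ⟨hb3, hmb⟩ := key b0 hb0F hb0t
  -- a and b generate a 3-group
  set H : Subgroup GV := Subgroup.closure {a, b} with hH
  have hHF : H ≤ F.map S.subtype := by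
    rw [hH, Subgroup.closure_le]
    rintro g (rfl | rfl)
    · exact ⟨a0, ha0F, rfl⟩
    · exact ⟨b0, hb0F, rfl⟩
  have hH3 : IsPGroup 3 H := by
    obtain ⟨R⟩ : Nonempty (Sylow 3 F) := inferInstance
    haveI hRn : (R : Subgroup F).Normal := Sylow.normal_of_normalizerCondition Group.normalizerCondition_of_isNilpotent R
    refine (R.2.map (S.subtype.comp F.subtype)).to_le ?_
    rw [hH, Subgroup.closure_le]
    have hin : ∀ w : S, ∀ hw : w ∈ F, (w : GV) ^ 3 = 1 → (⟨w, hw⟩ : F) ∈ (R : Subgroup F) := by
      intro w hw h3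
      haveI := Sylow.unique_of_normal R hRn
      have hp : IsPGroup 3 (Subgroup.zpowers (⟨w, hw⟩ : F)) := by
        rcases (Nat.dvd_prime (show Nat.Prime 3 by norm_num)).mp (orderOf_dvd_of_pow_eq_one (show (⟨w, hw⟩ : F) ^ 3 = 1 from
          Subtype.ext (Subtype.ext h3))) with e | e
        · exact IsPGroup.of_card (n := 0) (by rw [Nat.card_zpowers, e, pow_zero])
        · exact IsPGroup.of_card (n := 1) (by rw [Nat.card_zpowers, e, pow_one])
      obtain ⟨R', hR'⟩ := hp.exists_le_sylow
      exact (Subsingleton.elim R' R) ▸ hR' (Subgroup.mem_zpowers _)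
    rintro g (rfl | rfl)
    · exact ⟨⟨a0, ha0F⟩, hin a0 ha0F ha3, rfl⟩
    · exact ⟨⟨b0, hb0F⟩, hin b0 hb0F hb3, rfl⟩
  set U := sp3 c (a c) (b c) with hU
  have hle1 : sp3 c (a c) (a c) ≤ U := Submodule.span_mono (by intro v; simp; tauto)
  have hle2 : sp3 c (b c) (b c) ≤ U := Submodule.span_mono (by intro v; simp; tauto)
  have hHmoves : ∀ h ∈ H, MovesIn U h := by
    intro h hh
    induction hh using Subgroup.closure_induction with
    | mem g hg =>
      rcases hg with rfl | rfl
      · exact fun v => hle1 (hma v)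
      · exact fun v => hle2 (hmb v)
    | one => intro v; show v + v ∈ U; rw [add_self']; exact U.zero_mem
    | mul g g' _ _ hg hg' => exact movesIn_mul hg hg'
    | inv g _ hg =>
      intro v
      have := hg (g⁻¹ v)
      rwa [show g (g⁻¹ v) = v from g.apply_symm_apply v, add_comm] at this
  have hHinv : ∀ h ∈ H, ∀ u ∈ U, h u ∈ U := fun h hh u hu => by
    have := U.add_mem (hHmoves h hh u) hu
    rwa [add_assoc, add_self', add_zero] at this
  have hHodd : ∀ h ∈ H, Odd (orderOf h) := fun h hh => by
    obtain ⟨y, hy, rfl⟩ := hHF hh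
    exact hodd y hy
  have hinj : Function.Injective (permHom H U hHinv) := by
    rw [injective_iff_map_eq_one]
    intro h hh
    refine Subtype.ext (eq_one_of_fix (hHmoves h h.2) (fun u hu => ?_) (hHodd h h.2) (pow_orderOf_eq_one _))
    by_cases hu0 : u = 0
    · rw [hu0, map_zero]
    · exact congrArg (fun s : Equiv.Perm {u : U // u ≠ 0} =>
        ((s ⟨⟨u, hu⟩, fun e => hu0 (congrArg Subtype.val e)⟩).1.1 : V)) hh
  obtain ⟨n, hn⟩ := hH3.exists_card_eq
  have hn2 : n ≤ 2 := by
    have hc7 : Nat.card {u : U // u ≠ 0} ≤ 7 := by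
      have h8 : Nat.card U ≤ 8 := card_sp3 c (a c) (b c)
      haveI := Fintype.ofFinite U
      rw [Nat.card_eq_fintype_card] at h8
      rw [Nat.card_eq_fintype_card, Fintype.card_subtype_compl, Fintype.card_subtype_eq]
      omega
    have hd := Subgroup.card_dvd_of_injective _ hinj
    rw [hn, Nat.card_perm] at hd
    have hd7 : 3 ^ n ∣ Nat.factorial 7 := hd.trans (Nat.factorial_dvd_factorial hc7)
    by_contra hlt
    have : 3 ^ 3 ∣ Nat.factorial 7 := (pow_dvd_pow 3 (by omega)).trans hd7
    norm_num [Nat.factorial] at this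
  have hab : a * b = b * a := by
    have haH : a ∈ H := Subgroup.subset_closure (by simp)
    have hbH : b ∈ H := Subgroup.subset_closure (by simp)
    suffices hcm : ∀ x y : H, x * y = y * x from congrArg Subtype.val (hcm ⟨a, haH⟩ ⟨b, hbH⟩)
    rcases Nat.lt_or_ge n 2 with h | h
    · haveI : IsCyclic H := by
        interval_cases n
        · haveI : Subsingleton H := (Nat.card_eq_one_iff_unique.mp (by rw [hn, pow_zero])).1
          infer_instance
        · exact isCyclic_of_prime_card (p := 3) (by rw [hn, pow_one])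
      letI : CommGroup H := IsCyclic.commGroup
      exact mul_comm
    · exact (IsPGroup.isMulCommutative_of_card_eq_prime_sq (p := 3) (by rw [hn]; congr 1; omega)).is_comm.comm
  -- b preserves the plane of a
  set Ua := sp3 c (a c) (a c) with hUa
  have hcUa : c ∈ Ua := Submodule.subset_span (by simp)
  have hacUa : a c ∈ Ua := Submodule.subset_span (by simp)
  have hsub : ∀ u ∈ Ua, b u ∈ Ua := by
    -- `c = a x + x` for some `x`
    intro u hu
    have hgen : ∀ u ∈ Ua, ∃ y, a y + y = u := by
      intro u hu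
      have : Ua ≤ LinearMap.range (a.toLinearMap + LinearMap.id) := by
        rw [hUa, sp3, Submodule.span_le]
        have hr : a c + c ∈ LinearMap.range (a.toLinearMap + LinearMap.id) := ⟨c, rfl⟩
        have hr2 : a (a c) + a c ∈ LinearMap.range (a.toLinearMap + LinearMap.id) := ⟨a c, rfl⟩
        -- the image of the plane under `a + 1` is the whole plane
        have hsum : a (a c) + a c + c = 0 := by
          by_contra hne
          have hfix : a (a (a c) + a c + c) = a (a c) + a c + c := by
            have h3 : a (a (a c)) = c := by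
              have := congrArg (fun g : GV => g c) ha3
              simpa [pow_succ, pow_zero] using this
            rw [map_add, map_add, h3]; abel
          have hmem : a (a c) + a c + c ∈ Ua := by
            have h1 := hma c
            have h2 := hma (a c)
            exact Ua.add_mem h2 hcUa
          obtain ⟨i, j, hij⟩ : ∃ i j : ZMod 2, a (a c) + a c + c = i • c + j • a c := by
            have hmem' : a (a c) + a c + c ∈ Submodule.span (ZMod 2) ({c, a c} : Set V) := by
              rw [hUa, sp3] at hmem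
              simpa using hmem
            obtain ⟨i, j, h⟩ := Submodule.mem_span_pair.mp hmem'
            exact ⟨i, j, h.symm⟩
          have hac : a c ≠ c := hmove a0 ha0F ha0t ha01
          rw [hij, map_add, map_smul, map_smul] at hfix
          have h01 := zmod2_cases
          rcases h01 i with rfl | rfl <;> rcases h01 j with rfl | rfl <;>
            simp only [zero_smul, one_smul, zero_add, add_zero] at hfix hij
          · exact hne hij
          · exact hac (a.injective hfix)
          · exact hac hfix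
          · have : a (a c) = c := add_left_cancel (hfix.trans (add_comm c (a c)))
            have h3 : a (a (a c)) = c := by
              have := congrArg (fun g : GV => g c) ha3
              simpa [pow_succ, pow_zero] using this
            rw [this] at h3
            exact hac h3
        have hc1 : c ∈ LinearMap.range (a.toLinearMap + LinearMap.id) := by
          have he : a (a c) + a c = c := eq_of_add_eq_zero' hsum
          rw [he] at hr2; exact hr2
        rintro v (rfl | rfl | rfl)
        · exact hc1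
        · have := Submodule.add_mem _ hr hc1
          rwa [add_assoc, add_self', add_zero] at this
        · have := Submodule.add_mem _ hr hc1
          rwa [add_assoc, add_self', add_zero] at this
      exact this hu
    obtain ⟨y, rfl⟩ := hgen u hu
    have h1 : b (a y + y) = a (b y) + b y := by
      rw [map_add]
      congr 1
      exact (congrArg (fun g : GV => g y) hab).symm
    rw [h1]
    exact hma (b y)
  have hbc : b c ∈ Ua := hsub c hcUa
  have hUle : U ≤ Ua := by
    rw [hU, sp3, Submodule.span_le]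
    rintro v (rfl | rfl | rfl)
    · exact hcUa
    · exact hacUa
    · exact hbc
  -- b c = a^e c
  obtain ⟨e, he⟩ : ∃ e : ℕ, (a ^ e) c = b c := by
    have hac : a c ≠ c := hmove a0 ha0F ha0t ha01
    have hbc1 : b c ≠ c := hmove b0 hb0F hb0t hb01
    have hbc0 : b c ≠ 0 := fun h => by
      have hc0 : c = 0 := b.injective (h.trans (map_zero b).symm)
      exact hac (by rw [hc0, map_zero])
    have hmem' : b c ∈ Submodule.span (ZMod 2) ({c, a c} : Set V) := by
      rw [hUa, sp3] at hbc
      simpa using hbc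
    obtain ⟨i, j, hij⟩ := Submodule.mem_span_pair.mp hmem'
    have h01 := zmod2_cases
    rcases h01 i with rfl | rfl <;> rcases h01 j with rfl | rfl <;>
      simp only [zero_smul, one_smul, zero_add, add_zero] at hij
    · exact absurd hij.symm hbc0
    · exact ⟨1, by rw [pow_one]; exact hij⟩
    · exact absurd hij.symm hbc1
    · refine ⟨2, ?_⟩
      have hm2 : (a ^ 2) c ∈ Ua := by
        rw [pow_two]
        have := Ua.add_mem (hma (a c)) hacUa
        rwa [add_assoc, add_self', add_zero] at this
      have hm2' : (a ^ 2) c ∈ Submodule.span (ZMod 2) ({c, a c} : Set V) := by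
        rw [hUa, sp3] at hm2
        simpa using hm2
      obtain ⟨i, j, h2⟩ := Submodule.mem_span_pair.mp hm2'
      rcases h01 i with rfl | rfl <;> rcases h01 j with rfl | rfl <;>
        simp only [zero_smul, one_smul, zero_add, add_zero] at h2
      · exact absurd ((a ^ 2).injective (h2.symm.trans (map_zero _).symm)) (fun h => hac (by rw [h, map_zero]))
      · rw [pow_two] at h2
        exact absurd (a.injective h2.symm) hac
      · exfalso
        have h3 := congrArg (fun g : GV => g c) ha3
        rw [pow_succ'] at h3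
        exact hac ((congrArg a h2).trans h3)
      · rw [← h2]; exact hij
  have haH : a ∈ H := Subgroup.subset_closure (by simp)
  have hbH : b ∈ H := Subgroup.subset_closure (by simp)
  set g := (a ^ e)⁻¹ * b with hg
  have hgH : g ∈ H := H.mul_mem (H.inv_mem (H.pow_mem haH e)) hbH
  have hcomm : Commute a g := ((Commute.refl a).pow_right e).inv_right.mul_right hab
  have hg1 : g = 1 := by
    have hgc : g c = c := by
      show (a ^ e)⁻¹ (b c) = c
      rw [← he]
      exact (a ^ e).symm_apply_apply c
    refine eq_one_of_fix (U := Ua) (fun v => hUle (hHmoves g hgH v)) (fun u hu => ?_) (hHodd g hgH) (pow_orderOf_eq_one g)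
    have hker : Ua ≤ LinearMap.ker (g.toLinearMap - LinearMap.id) := by
      rw [hUa, sp3, Submodule.span_le]
      have hgac : g (a c) = a c := by
        show (g * a) c = a c
        rw [← hcomm.eq]
        show a (g c) = a c
        rw [hgc]
      rintro v (rfl | rfl | rfl) <;> simp [hgc, hgac, sub_eq_zero]
    simpa [sub_eq_zero] using hker hu
  have hbe : b0 = a0 ^ e := Subtype.ext (by
    rw [SubmonoidClass.coe_pow]
    exact (inv_mul_eq_one.mp hg1).symm)
  have hcontra : tS * a0 * tS⁻¹ = a0 ^ (e * e) := by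
    have h2 : tS = PS * PS := Subtype.ext (pow_two P)
    calc tS * a0 * tS⁻¹ = PS * (PS * a0 * PS⁻¹) * PS⁻¹ := by rw [h2]; group
      _ = PS * a0 ^ e * PS⁻¹ := by rw [← hb0, hbe]
      _ = a0 ^ (e * e) := by rw [← conj_pow, ← hb0, hbe, ← pow_mul]
  rw [ha0t] at hcontra
  have hord : orderOf a0 = 3 := orderOf_eq_prime (Subtype.ext (by rw [SubmonoidClass.coe_pow]; exact ha3)) ha01
  have hdvd : 3 ∣ e * e + 1 := by
    rw [← hord]
    refine orderOf_dvd_of_pow_eq_one ?_
    rw [pow_succ, ← hcontra, inv_mul_cancel]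
  have : e % 3 = 0 ∨ e % 3 = 1 ∨ e % 3 = 2 := by omega
  obtain ⟨q, hq⟩ : ∃ q, e = 3 * q + e % 3 := ⟨e / 3, (Nat.div_add_mod e 3).symm⟩
  rcases this with h | h | h <;> rw [h] at hq <;> subst hq <;>
    (ring_nf at hdvd; omega)

/-- Let V be a finite-dimensional vector space over the field with two elements and S a solvable group of linear automorphisms of V with O₂(S) = 1. If P ∈ S has order 4 and (P − 1)³ = 0 on V, then the image of (P − 1)² has at least 4 elements; equivalently, in the decomposition of V into indecomposable modules for the cyclic group generated by P, at least two summands have dimension 3. -/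
theorem result
    {V : Type*} [AddCommGroup V] [Module (ZMod 2) V] [Finite V]
    (S : Subgroup (V ≃ₗ[ZMod 2] V)) (hS : Group.IsSolvable ↥S) (hO2 : Cfsg.pCore 2 ↥S = ⊥)
    (P : V ≃ₗ[ZMod 2] V) (hPS : P ∈ S) (hP4 : orderOf P = 4)
    (hcub : ((P : V →ₗ[ZMod 2] V) - LinearMap.id) ^ 3 = 0) :
    4 ≤ Nat.card ↥(LinearMap.range (((P : V →ₗ[ZMod 2] V) - LinearMap.id) ^ 2)) := by
  by_contra hlt
  push Not at hlt
  set d := (((P : V →ₗ[ZMod 2] V) - LinearMap.id) ^ 2) with hd
  have hdv : ∀ v, d v = (P ^ 2) v + v := by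
    intro v
    rw [hd, pow_two, pow_two]
    show P (P v - v) - (P v - v) = P (P v) + v
    rw [map_sub]
    have h1 := add_self' (P v)
    calc P (P v) - P v - (P v - v) = P (P v) + v - (P v + P v) := by abel
      _ = P (P v) + v := by rw [h1, sub_zero]
  classical
  obtain ⟨c, hc⟩ : ∃ c : V, ∀ v, d v = 0 ∨ d v = c := by
    by_cases h0 : ∀ v, d v = 0
    · exact ⟨0, fun v => Or.inl (h0 v)⟩
    push Not at h0
    obtain ⟨v1, hv1⟩ := h0
    refine ⟨d v1, fun v => ?_⟩
    by_contra hne
    push Not at hne
    have hinj : Function.Injective (fun i : Fin 4 => (![0, ⟨d v1, v1, rfl⟩, ⟨d v, v, rfl⟩, ⟨d (v1 + v), v1 + v, rfl⟩] i :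
        LinearMap.range d)) := by
      have h3 : d (v1 + v) ≠ 0 := fun h => hne.2 (eq_of_add_eq_zero' (by rw [← map_add, add_comm v v1]; exact h))
      have h4 : d (v1 + v) ≠ d v1 := fun h => hne.1 (by rwa [map_add, add_eq_left] at h)
      have h5 : d (v1 + v) ≠ d v := fun h => hv1 (by rwa [map_add, add_eq_right] at h)
      intro i j hij
      have hij' := congrArg Subtype.val hij
      fin_cases i <;> fin_cases j <;>
        simp [hne.1, hne.2, hv1, h3, h4, h5, Ne.symm hne.1, Ne.symm hne.2, Ne.symm hv1, Ne.symm h3, Ne.symm h4, Ne.symm h5, -map_add] at hij' ⊢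
    have := Nat.card_le_card_of_injective _ hinj
    rw [Nat.card_fin] at this
    omega
  exact main S hS hO2 P hPS hP4 c fun v => by rw [← hdv]; exact hc v

end Cfsg.Agent.S4410
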