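import Cfsg.Statements.S4413
import Cfsg.Agent.Lib.ThreeTransp.ExtraOut

set_option autoImplicit false
open Cfsg

namespace Cfsg.Agent.S4413

open Cfsg.Agent.Lib.ThreeTransp
open Cfsg.Agent.Lib.LocalEven2.PlusModel (sig)
open Cfsg.Agent.Lib.Geometry (mem_isometryGroup_iff)
open Matrix

/-- The elliptic form in four variables. -/
def q4 (v : Fin 4 → ZMod 2) : ZMod 2 := v 0 * v 1 + (v 2 * v 2 + v 2 * v 3 + v 3 * v 3)

/-- The reflection in a vector. -/
def refl4 (a : Fin 4 → ZMod 2) : Matrix (Fin 4) (Fin 4) (ZMod 2) :=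
  Matrix.of fun i j => (if i = j then 1 else 0) + a i * ![a 1, a 0, a 3, a 2] j

theorem refl4_sq : ∀ a : Fin 4 → ZMod 2, q4 a = 1 → refl4 a * refl4 a = 1 := by decide +kernel

theorem refl4_isom : ∀ a : Fin 4 → ZMod 2, q4 a = 1 → ∀ v, q4 (refl4 a *ᵥ v) = q4 v := by
  decide +kernel

/-- The five nonzero singular vectors. -/
abbrev Sing := {u : Fin 4 → ZMod 2 // u ≠ 0 ∧ q4 u = 0}

theorem card_sing : Fintype.card Sing = 5 := by decide +kernel

theorem refl4_swap : ∀ s t : Sing, s ≠ t → q4 (s.1 + t.1) = 1 ∧ ∀ u : Sing,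
    refl4 (s.1 + t.1) *ᵥ u.1 = if u = s then t.1 else if u = t then s.1 else u.1 := by
  decide +kernel

theorem sing_span : ∀ v : Fin 4 → ZMod 2, ∃ c : Fin 5 → ZMod 2,
    v = c 0 • ![1, 0, 0, 0] + c 1 • ![0, 1, 0, 0] + c 2 • ![1, 1, 1, 0] + c 3 • ![1, 1, 0, 1] := by
  decide +kernel

theorem q4_iso : Nonempty (Cfsg.isometryGroup (ZMod 2) q4 ≃* Equiv.Perm (Fin 5)) := by
  classical
  have hz : ∀ (g : Cfsg.isometryGroup (ZMod 2) q4) (u : Fin 4 → ZMod 2), u ≠ 0 →
      ((g : GL (Fin 4) (ZMod 2)) : Matrix (Fin 4) (Fin 4) (ZMod 2)) *ᵥ u ≠ 0 := fun g u hu h =>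
    hu (Matrix.mulVec_injective_of_isUnit (g : GL (Fin 4) (ZMod 2)).isUnit
      (by rw [h, Matrix.mulVec_zero]))
  letI : MulAction (Cfsg.isometryGroup (ZMod 2) q4) Sing :=
    { smul := fun g u => ⟨((g : GL (Fin 4) (ZMod 2)) : Matrix (Fin 4) (Fin 4) (ZMod 2)) *ᵥ u.1,
        hz g _ u.2.1, ((mem_isometryGroup_iff.1 g.2) u.1).trans u.2.2⟩
      one_smul := fun u => Subtype.ext (Matrix.one_mulVec u.1)
      mul_smul := fun g h u => Subtype.ext (by
        show (((g * h : Cfsg.isometryGroup (ZMod 2) q4) : GL (Fin 4) (ZMod 2)) : Matrix (Fin 4) (Fin 4) (ZMod 2)) *ᵥ u.1 =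
          ((g : GL (Fin 4) (ZMod 2)) : Matrix (Fin 4) (Fin 4) (ZMod 2)) *ᵥ (((h : GL (Fin 4) (ZMod 2)) : Matrix (Fin 4) (Fin 4) (ZMod 2)) *ᵥ u.1)
        rw [Matrix.mulVec_mulVec]
        rfl) }
  have hsmul : ∀ (g : Cfsg.isometryGroup (ZMod 2) q4) (u : Sing), (g • u).1 =
      ((g : GL (Fin 4) (ZMod 2)) : Matrix (Fin 4) (Fin 4) (ZMod 2)) *ᵥ u.1 := fun _ _ => rfl
  let Φ := MulAction.toPermHom (Cfsg.isometryGroup (ZMod 2) q4) Sing
  have hinj : Function.Injective Φ := by
    rw [injective_iff_map_eq_one]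
    intro g hg
    have hfix : ∀ u : Sing, ((g : GL (Fin 4) (ZMod 2)) : Matrix (Fin 4) (Fin 4) (ZMod 2)) *ᵥ u.1 = u.1 :=
      fun u => by
        have h := Equiv.congr_fun hg u
        rw [← hsmul]
        exact congrArg Subtype.val h
    refine Subtype.ext (Units.ext (Matrix.toLin'.injective (LinearMap.ext fun v => ?_)))
    obtain ⟨c, rfl⟩ := sing_span v
    show Matrix.toLin' ((g : GL (Fin 4) (ZMod 2)) : Matrix (Fin 4) (Fin 4) (ZMod 2)) _ =
      Matrix.toLin' 1 _
    rw [Matrix.toLin'_one, LinearMap.id_apply]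
    simp only [map_add, map_smul, Matrix.toLin'_apply]
    rw [hfix ⟨![1, 0, 0, 0], by decide⟩, hfix ⟨![0, 1, 0, 0], by decide⟩,
      hfix ⟨![1, 1, 1, 0], by decide⟩, hfix ⟨![1, 1, 0, 1], by decide⟩]
  have hsurj : Function.Surjective Φ := by
    rw [← MonoidHom.range_eq_top, eq_top_iff, ← Equiv.Perm.closure_isSwap, Subgroup.closure_le]
    rintro σ ⟨s, t, hst, rfl⟩
    obtain ⟨hq, hm⟩ := refl4_swap s t hst
    let r : GL (Fin 4) (ZMod 2) := ⟨refl4 (s.1 + t.1), refl4 (s.1 + t.1), refl4_sq _ hq, refl4_sq _ hq⟩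
    refine ⟨⟨r, mem_isometryGroup_iff.2 (refl4_isom _ hq)⟩, Equiv.ext fun u => Subtype.ext ?_⟩
    show refl4 (s.1 + t.1) *ᵥ u.1 = _
    rw [hm u, Equiv.swap_apply_def]
    split_ifs <;> rfl
  exact ⟨(MulEquiv.ofBijective Φ ⟨hinj, hsurj⟩).trans (Fintype.equivFinOfCardEq card_sing).permCongrHom⟩


/-- Let P be an extraspecial 2-group of order 32 with no elementary abelian subgroup of order 8 (the central product of a dihedral and a quaternion group of order 8). Then the inner automorphism group of P has order 16 and the outer automorphism group Aut(P)/Inn(P) is isomorphic to the symmetric group of degree 5; in particular Aut(P) has order 1920. -/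
theorem result {P : Type*} [Group P] [Finite P]
    (hex : Cfsg.IsExtraspecial 2 P) (h32 : Nat.card P = 32)
    (hminus : ∀ A : Subgroup P, Cfsg.IsElementaryAbelian 2 A → Nat.card ↥A ≤ 4)
    [(MulAut.conj : P →* MulAut P).range.Normal] :
    Nat.card ↥(MulAut.conj : P →* MulAut P).range = 16 ∧ Nat.card (MulAut P) = 1920 ∧
      Nonempty ((MulAut P ⧸ (MulAut.conj : P →* MulAut P).range) ≃* Equiv.Perm (Fin 5)) := by
  classical
  have h16 : Nat.card ↥(MulAut.conj : P →* MulAut P).range = 16 := by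
    have h := Subgroup.card_eq_card_quotient_mul_card_subgroup (MulAut.conj : P →* MulAut P).ker
    have hk : (MulAut.conj : P →* MulAut P).ker = Subgroup.center P := by
      ext x
      rw [MonoidHom.mem_ker, Subgroup.mem_center_iff]
      constructor
      · intro h y
        have h' : x * y * x⁻¹ = y := by
          have := congrArg (fun φ : MulAut P => φ y) h
          simpa using this
        calc y * x = x * y * x⁻¹ * x := by rw [h']
          _ = x * y := by group
      · intro h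
        refine MulEquiv.ext fun y => ?_
        rw [MulAut.conj_apply, ← h y, mul_inv_cancel_right]
        rfl
    rw [Nat.card_congr (QuotientGroup.quotientKerEquivRange _).toEquiv, hk, hex.2, h32] at h
    omega
  have hout : Nonempty (Cfsg.Out P ≃* Equiv.Perm (Fin 5)) := by
    rcases ExtraOut.exists_coords hex (n := 2) (by omega) (by rw [h32]; norm_num) with
      ⟨π, hm, h0, hs, hf⟩ | ⟨π, hm, h0, hs, hf⟩
    · obtain ⟨A, hA, hA8⟩ := ExtraOut.exists_elem_plus hex π hm h0 hs hf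
      have := hminus A hA
      omega
    let π₄ : P → Fin 4 → ZMod 2 := fun a =>
      ![π a (Sum.inl (Sum.inl 0)), π a (Sum.inl (Sum.inr 0)), π a (Sum.inr 0), π a (Sum.inr 1)]
    have hm4 : ∀ a b, π₄ (a * b) = π₄ a + π₄ b := fun a b => by
      funext i; fin_cases i <;> simp [π₄, hm]
    have hinj : ∀ u v : (Fin 1 ⊕ Fin 1) ⊕ Fin 2 → ZMod 2, u (Sum.inl (Sum.inl 0)) = v (Sum.inl (Sum.inl 0)) →
        u (Sum.inl (Sum.inr 0)) = v (Sum.inl (Sum.inr 0)) → u (Sum.inr 0) = v (Sum.inr 0) →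
        u (Sum.inr 1) = v (Sum.inr 1) → u = v := by
      intro u v a b c d
      funext i
      rcases i with (i | i) | i <;> fin_cases i <;> assumption
    have h04 : ∀ a, π₄ a = 0 ↔ a ∈ Subgroup.center P := fun a => by
      rw [← h0]
      refine ⟨fun h => hinj _ _ (congrFun h 0) (congrFun h 1) (congrFun h 2) (congrFun h 3), fun h => ?_⟩
      funext i; fin_cases i <;> simp [π₄, h]
    have hs4 : Function.Surjective π₄ := fun v => by
      obtain ⟨a, ha⟩ := hs (Sum.elim (Sum.elim ![v 0] ![v 1]) ![v 2, v 3])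
      refine ⟨a, ?_⟩
      funext i; fin_cases i <;> simp [π₄, ha]
    have hf4 : ∀ a, q4 (π₄ a) = sig (a * a) := fun a => by
      rw [← hf]
      simp [q4, π₄, Cfsg.quadFormMinus]
      ring_nf
      generalize π a (Sum.inr 0) = c
      generalize π a (Sum.inr 1) = d
      revert c d
      decide
    obtain ⟨e⟩ := ExtraOut.out_iso π₄ hex q4 hm4 h04 hs4 hf4
    obtain ⟨e'⟩ := q4_iso
    exact ⟨e.trans e'⟩
  obtain ⟨e⟩ := hout
  refine ⟨h16, ?_, ⟨e⟩⟩
  rw [Subgroup.card_eq_card_quotient_mul_card_subgroup (MulAut.conj : P →* MulAut P).range, h16,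
    Nat.card_congr e.toEquiv, Nat.card_perm, Nat.card_eq_fintype_card, Fintype.card_fin]
  rfl

end Cfsg.Agent.S4413
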