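import Cfsg.Statements.S4414
import Mathlib

set_option autoImplicit false
open Cfsg

namespace Cfsg.Agent.S4414


open scoped TensorProduct Pointwise

set_option maxHeartbeats 1000000

theorem zmod_two : ∀ z : ZMod 2, z = 0 ∨ z = 1 := by decide

section Weights

variable {S : Type*} [Group S] [Finite S] {K : Type*} [Field K] {N : Subgroup S} [N.Normal]

/-- Conjugation action on the characters of a normal subgroup. -/
instance charAction : MulAction S (↥N →* K) where
  smul s μ := μ.comp (MulAut.conjNormal (H := N) s⁻¹).toMonoidHom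
  one_smul μ := by
    refine MonoidHom.ext fun a => congrArg μ (Subtype.ext ?_)
    simp
  mul_smul s t μ := by
    refine MonoidHom.ext fun a => congrArg μ (Subtype.ext ?_)
    simp [mul_assoc]

theorem smul_def (s : S) (μ : ↥N →* K) (a : ↥N) : (s • μ) a = μ (MulAut.conjNormal s⁻¹ a) := rfl

variable {W : Type*} [AddCommGroup W] [Module K W] (ρ : Representation K S W)

/-- Weight spaces. -/
def Ws (μ : ↥N →* K) : Submodule K W := ⨅ a : ↥N, LinearMap.ker (ρ (a : S) - μ a • (1 : Module.End K W))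

theorem mem_Ws {μ : ↥N →* K} {w : W} : w ∈ Ws ρ μ ↔ ∀ a : ↥N, ρ (a : S) w = μ a • w := by
  simp [Ws, Submodule.mem_iInf, sub_eq_zero]

/-- The projection attached to a character. -/
noncomputable def π [Fintype ↥N] (μ : ↥N →* K) : W →ₗ[K] W := ∑ a : ↥N, μ a⁻¹ • ρ (a : S)

theorem π_apply [Fintype ↥N] (μ : ↥N →* K) (w : W) : π ρ μ w = ∑ a : ↥N, μ a⁻¹ • ρ (a : S) w := by
  simp [π]

theorem π_same [Fintype ↥N] {μ : ↥N →* K} {w : W} (hw : w ∈ Ws ρ μ) :
    π ρ μ w = (Fintype.card ↥N : K) • w := by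
  rw [π_apply, ← Finset.card_univ, Nat.cast_smul_eq_nsmul, ← Finset.sum_const]
  refine Finset.sum_congr rfl fun a _ => ?_
  rw [(mem_Ws ρ).1 hw a, smul_smul, ← map_mul, inv_mul_cancel, map_one, one_smul]

theorem π_ne [Fintype ↥N] [IsMulCommutative ↥N] {μ ν : ↥N →* K} (hne : μ ≠ ν) {w : W} (hw : w ∈ Ws ρ ν) :
    π ρ μ w = 0 := by
  classical
  rw [π_apply, Finset.sum_congr rfl (fun a _ => by rw [(mem_Ws ρ).1 hw a, smul_smul]), ← Finset.sum_smul]
  have hmul : ∀ a b : ↥N, μ (a * b)⁻¹ * ν (a * b) = μ a⁻¹ * ν a * (μ b⁻¹ * ν b) := fun a b => by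
    rw [mul_inv_rev, map_mul, map_mul]; ring
  let f : ↥N →* K := { toFun := fun a => μ a⁻¹ * ν a, map_one' := by simp, map_mul' := hmul }
  have hf : f ≠ 1 := by
    intro h
    refine hne (MonoidHom.ext fun a => ?_)
    have h1 : μ a⁻¹ * ν a = 1 := DFunLike.congr_fun h a
    calc μ a = μ a * (μ a⁻¹ * ν a) := by rw [h1, mul_one]
      _ = μ (a * a⁻¹) * ν a := by rw [map_mul, mul_assoc]
      _ = ν a := by rw [mul_inv_cancel, map_one, one_mul]
  have h2 : ∑ a : ↥N, μ a⁻¹ * ν a = 0 := sum_hom_units_eq_zero f hf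
  rw [h2, zero_smul]

theorem π_equiv [Fintype ↥N] (μ : ↥N →* K) (s : S) (w : W) : ρ s (π ρ μ w) = π ρ (s • μ) (ρ s w) := by
  rw [π_apply, π_apply, map_sum]
  refine Fintype.sum_equiv (MulAut.conjNormal (H := N) s).toEquiv _ _ fun a => ?_
  have h1 : (MulAut.conjNormal s⁻¹ : MulAut ↥N) (MulAut.conjNormal s a)⁻¹ = a⁻¹ := by
    apply Subtype.ext
    simp [mul_assoc]
  show ρ s (μ a⁻¹ • ρ (a : S) w) = (s • μ) (MulAut.conjNormal s a)⁻¹ • ρ ((MulAut.conjNormal s a : ↥N) : S) (ρ s w)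
  rw [smul_def, h1, map_smul]
  congr 1
  rw [← Module.End.mul_apply, ← map_mul, ← Module.End.mul_apply, ← map_mul, MulAut.conjNormal_apply]
  congr 2
  group

theorem smul_mem_Ws {μ : ↥N →* K} {w : W} (hw : w ∈ Ws ρ μ) (s : S) : ρ s w ∈ Ws ρ (s • μ) := by
  rw [mem_Ws] at *
  intro a
  rw [smul_def, ← map_smul, ← hw (MulAut.conjNormal s⁻¹ a), ← Module.End.mul_apply, ← map_mul,
    ← Module.End.mul_apply, ← map_mul, MulAut.conjNormal_apply]
  congr 2
  group

theorem Ws_ne_bot {μ : ↥N →* K} (h : Ws ρ μ ≠ ⊥) (s : S) : Ws ρ (s • μ) ≠ ⊥ := by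
  obtain ⟨w, hw, hw0⟩ := Submodule.exists_mem_ne_zero_of_ne_bot h
  refine (Submodule.ne_bot_iff _).2 ⟨_, smul_mem_Ws ρ hw s, fun h0 => hw0 ?_⟩
  rw [← Module.End.one_apply (R := K) w, ← map_one ρ, ← inv_mul_cancel s, map_mul, Module.End.mul_apply, h0, map_zero]

/-- Simultaneous eigenvectors for a commutative normal subgroup. -/
theorem exists_weight [IsAlgClosed K] [FiniteDimensional K W] [Nontrivial W] [IsMulCommutative ↥N] :
    ∃ μ : ↥N →* K, Ws ρ μ ≠ ⊥ := by
  classical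
  haveI := Fintype.ofFinite ↥N
  have key : ∀ A : Finset ↥N, ∃ U : Submodule K W, U ≠ ⊥ ∧ (∀ a : ↥N, ∀ u ∈ U, ρ (a : S) u ∈ U) ∧
      ∀ a ∈ A, ∃ c : K, ∀ u ∈ U, ρ (a : S) u = c • u := by
    intro A
    induction A using Finset.induction_on with
    | empty => exact ⟨⊤, top_ne_bot, fun _ _ _ => trivial, by simp⟩
    | insert a A ha ih =>
      obtain ⟨U, hU, hinv, hsc⟩ := ih
      haveI : Nontrivial ↥U := Submodule.nontrivial_iff_ne_bot.2 hU
      let f : Module.End K ↥U := (ρ (a : S)).restrict (hinv a)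
      obtain ⟨c, hc⟩ := Module.End.exists_eigenvalue f
      obtain ⟨v, hv, hv0⟩ := hc.exists_hasEigenvector
      rw [Module.End.mem_eigenspace_iff] at hv
      have hv' : ρ (a : S) (v : W) = c • (v : W) := congrArg Subtype.val hv
      refine ⟨U ⊓ LinearMap.ker (ρ (a : S) - c • (1 : Module.End K W)),
        (Submodule.ne_bot_iff _).2 ⟨v, ⟨v.2, by simp [hv']⟩, fun h => hv0 (Subtype.ext h)⟩, ?_, ?_⟩
      · rintro b u ⟨hu, hu'⟩
        refine ⟨hinv b u hu, ?_⟩
        simp only [SetLike.mem_coe, LinearMap.mem_ker, LinearMap.sub_apply, LinearMap.smul_apply, Module.End.one_apply, sub_eq_zero] at hu' ⊢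
        rw [← Module.End.mul_apply, ← map_mul, ← Subgroup.coe_mul, (IsMulCommutative.is_comm.comm a b :), Subgroup.coe_mul,
          map_mul, Module.End.mul_apply, hu', map_smul]
      · intro b hb
        rcases Finset.mem_insert.1 hb with rfl | hb
        · refine ⟨c, fun u hu => ?_⟩
          simpa [sub_eq_zero] using hu.2
        · obtain ⟨c', hc'⟩ := hsc b hb
          exact ⟨c', fun u hu => hc' u hu.1⟩
  obtain ⟨U, hU, -, hsc⟩ := key Finset.univ
  obtain ⟨w, hw, hw0⟩ := Submodule.exists_mem_ne_zero_of_ne_bot hU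
  choose c hc using fun a => hsc a (Finset.mem_univ a)
  have hone : c 1 = 1 := smul_left_injective K hw0 (show c 1 • w = (1 : K) • w by rw [← hc 1 w hw]; simp)
  have hmul : ∀ a b, c (a * b) = c a * c b := fun a b => smul_left_injective K hw0
    (show c (a * b) • w = (c a * c b) • w by
      rw [← hc (a * b) w hw, Subgroup.coe_mul, map_mul, Module.End.mul_apply, hc b w hw, map_smul, hc a w hw,
        smul_smul, mul_comm])
  exact ⟨{ toFun := c, map_one' := hone, map_mul' := hmul },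
    (Submodule.ne_bot_iff _).2 ⟨w, (mem_Ws ρ).2 fun a => hc a w hw, hw0⟩⟩

/-- A fixed point of a 2-group in an invariant subspace. -/
theorem exists_fixed_two [CharP K 2] {T : Subgroup S} (hT : IsPGroup 2 T) (U : Submodule K W)
    (hU : ∀ t ∈ T, ∀ u ∈ U, ρ t u ∈ U) {w : W} (hw : w ∈ U) (hw0 : w ≠ 0) :
    ∃ u ∈ U, u ≠ 0 ∧ ∀ t ∈ T, ρ t u = u := by
  classical
  haveI : Fact (Nat.Prime 2) := ⟨Nat.prime_two⟩
  letI : Module (ZMod 2) W := AddCommGroup.zmodModule fun x => by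
    rw [← Nat.cast_smul_eq_nsmul K, CharP.cast_eq_zero, zero_smul]
  set gen : Set W := Set.range fun t : ↥T => ρ (t : S) w with hgen
  set A := Submodule.span (ZMod 2) gen with hA
  haveI : Module.Finite (ZMod 2) A := Module.Finite.span_of_finite (ZMod 2) (Set.finite_range _)
  haveI : Finite A := Module.finite_of_finite (ZMod 2)
  have hwA : w ∈ A := Submodule.subset_span ⟨1, by simp⟩
  have hAinv : ∀ t : ↥T, ∀ a ∈ A, ρ (t : S) a ∈ A := by
    intro t a ha
    induction ha using Submodule.span_induction with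
    | mem x hx =>
      obtain ⟨t', rfl⟩ := hx
      exact Submodule.subset_span ⟨t * t', by simp⟩
    | zero => simp
    | add x y _ _ hx hy => rw [map_add]; exact A.add_mem hx hy
    | smul c x _ hx =>
      rcases (zmod_two c) with rfl | rfl
      · simp
      · simpa using hx
  have hAU : ∀ a ∈ A, a ∈ U := by
    intro a ha
    induction ha using Submodule.span_induction with
    | mem x hx =>
      obtain ⟨t', rfl⟩ := hx
      exact hU _ t'.2 _ hw
    | zero => exact U.zero_mem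
    | add x y _ _ hx hy => exact U.add_mem hx hy
    | smul c x _ hx =>
      rcases (zmod_two c) with rfl | rfl
      · simp
      · simpa using hx
  letI : MulAction ↥T A :=
    { smul := fun t a => ⟨ρ (t : S) a, hAinv t a a.2⟩
      one_smul := fun a => Subtype.ext (show ρ ((1 : ↥T) : S) (a : W) = a by simp)
      mul_smul := fun t t' a => Subtype.ext (show ρ ((t * t' : ↥T) : S) (a : W) = ρ (t : S) (ρ (t' : S) a) by simp) }
  have h0 : (0 : A) ∈ MulAction.fixedPoints ↥T A := fun t => Subtype.ext (show ρ (t : S) (0 : W) = 0 by simp)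
  have h2 : 2 ∣ Nat.card A := by
    have h1 : addOrderOf (⟨w, hwA⟩ : A) = 2 := addOrderOf_eq_prime (ZModModule.char_nsmul_eq_zero 2 _)
      fun h => hw0 (congrArg Subtype.val h)
    have h3 := addOrderOf_dvd_natCard (⟨w, hwA⟩ : A)
    rwa [h1] at h3
  obtain ⟨b, hb, hne⟩ := hT.exists_fixed_point_of_prime_dvd_card_of_fixed_point A h2 h0
  exact ⟨b, hAU b b.2, fun h => hne (Subtype.ext h.symm), fun t ht => congrArg Subtype.val (hb ⟨t, ht⟩)⟩

/-- A fixed vector supported by one orbit. -/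
theorem orbit_vector [Fintype ↥N] [IsMulCommutative ↥N] [CharP K 2] (hN : (Fintype.card ↥N : K) ≠ 0) {T : Subgroup S}
    (hT : IsPGroup 2 T) {μ : ↥N →* K} (hμ : Ws ρ μ ≠ ⊥) :
    ∃ u : W, (∀ t ∈ T, ρ t u = u) ∧ ∀ ν, π ρ ν u ≠ 0 ↔ ν ∈ MulAction.orbit ↥T μ := by
  classical
  set O := MulAction.orbit ↥T μ with hO
  set U : Submodule K W := ⨆ ν ∈ O, Ws ρ ν with hUdef
  have hle : ∀ ν ∈ O, Ws ρ ν ≤ U := fun ν hν => le_iSup_of_le ν (le_iSup_of_le hν le_rfl)
  have hclosed : ∀ t ∈ T, ∀ ν ∈ O, (t • ν) ∈ O := by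
    intro t ht ν hν
    have h := MulAction.mem_orbit ν (⟨t, ht⟩ : ↥T)
    rw [MulAction.orbit_eq_iff.2 hν] at h
    exact h
  have hmaps : ∀ t ∈ T, U ≤ U.comap (ρ t) := fun t ht => iSup_le fun ν => iSup_le fun hν =>
    fun w hw => Submodule.mem_comap.2 (hle _ (hclosed t ht ν hν) (smul_mem_Ws ρ hw t))
  obtain ⟨w, hw, hw0⟩ := Submodule.exists_mem_ne_zero_of_ne_bot hμ
  obtain ⟨u, hu, hu0, hfix⟩ := exists_fixed_two ρ hT U (fun t ht u hu => hmaps t ht hu)
    (hle μ (MulAction.mem_orbit_self μ) hw) hw0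
  have hout : ∀ ν, ν ∉ O → π ρ ν u = 0 := fun ν hν =>
    LinearMap.mem_ker.1 ((iSup₂_le fun ν' hν' w hw => LinearMap.mem_ker.2
      (π_ne ρ (fun h => hν (by rw [h]; exact hν')) hw) : U ≤ LinearMap.ker (π ρ ν)) hu)
  have hfin : O.Finite := Set.finite_range _
  obtain ⟨ν₀, hν₀, hν₀u⟩ : ∃ ν₀ ∈ O, π ρ ν₀ u ≠ 0 := by
    by_contra hcon
    push Not at hcon
    have hsum : U ≤ LinearMap.ker ((Fintype.card ↥N : K) • (1 : Module.End K W) - ∑ ν ∈ hfin.toFinset, π ρ ν) := by
      refine iSup₂_le fun ν' hν' w hw => ?_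
      rw [LinearMap.mem_ker, LinearMap.sub_apply, LinearMap.smul_apply, Module.End.one_apply, LinearMap.sum_apply,
        Finset.sum_eq_single ν' (fun b _ hb => π_ne ρ hb hw) (fun h => absurd (hfin.mem_toFinset.2 hν') h),
        π_same ρ hw, sub_self]
    have h := LinearMap.mem_ker.1 (hsum hu)
    rw [LinearMap.sub_apply, LinearMap.smul_apply, Module.End.one_apply, LinearMap.sum_apply,
      Finset.sum_eq_zero (fun ν hν => hcon ν (hfin.mem_toFinset.1 hν)), sub_zero] at h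
    exact hu0 ((smul_eq_zero.1 h).resolve_left hN)
  refine ⟨u, hfix, fun ν => ⟨fun h => by_contra fun h' => h (hout ν h'), fun hν => ?_⟩⟩
  rw [hO, ← MulAction.orbit_eq_iff.2 hν₀] at hν
  obtain ⟨t, rfl⟩ := hν
  intro h
  apply hν₀u
  show π ρ ν₀ u = 0
  have h1 := π_equiv ρ ν₀ (t : S) u
  rw [hfix t t.2] at h1
  rw [← Module.End.one_apply (R := K) (π ρ ν₀ u), ← map_one ρ, ← inv_mul_cancel (t : S), map_mul,
    Module.End.mul_apply, h1]
  rw [show ((t : S) • ν₀) = t • ν₀ from rfl, h, map_zero]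

/-- Two independent fixed vectors that do not span an invariant subspace. -/
theorem two_vectors [IsMulCommutative ↥N] [CharP K 2] [Fintype ↥N] (hN : (Fintype.card ↥N : K) ≠ 0) {T : Subgroup S}
    (hT : IsPGroup 2 T) (x : S) {q : ℕ} (hq : q.Prime) (hq2 : q ≠ 2) (hx : x ^ q = 1)
    (hfree : ∀ ν : ↥N →* K, Ws ρ ν ≠ ⊥ → x • ν ≠ ν) {μ : ↥N →* K} (hμ : Ws ρ μ ≠ ⊥) :
    ∃ u₁ u₂ : W, (∀ t ∈ T, ρ t u₁ = u₁) ∧ (∀ t ∈ T, ρ t u₂ = u₂) ∧ LinearIndependent K ![u₁, u₂] ∧
      ¬ (ρ x u₁ ∈ Submodule.span K {u₁, u₂} ∧ ρ x u₂ ∈ Submodule.span K {u₁, u₂}) := by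
  classical
  haveI : Fact q.Prime := ⟨hq⟩
  haveI : Fact (Nat.Prime 2) := ⟨Nat.prime_two⟩
  have hWs : ∀ {μ' : ↥N →* K}, Ws ρ μ' ≠ ⊥ → ∀ ν ∈ MulAction.orbit ↥T μ', Ws ρ ν ≠ ⊥ := by
    rintro μ' h _ ⟨t, rfl⟩
    exact Ws_ne_bot ρ h (t : S)
  have hnotinv : ∀ {μ' : ↥N →* K}, Ws ρ μ' ≠ ⊥ →
      x • (MulAction.orbit ↥T μ') ≠ MulAction.orbit ↥T μ' := by
    intro μ' h heq
    have hmem : ∀ ν, ν ∈ MulAction.orbit ↥T μ' ↔ x • ν ∈ MulAction.orbit ↥T μ' := fun ν => by
      conv_rhs => rw [← heq]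
      exact Set.smul_mem_smul_set_iff.symm
    haveI : Finite (MulAction.orbit ↥T μ') := Set.finite_range _
    haveI := Fintype.ofFinite (MulAction.orbit ↥T μ')
    obtain ⟨k, hk⟩ := hT.card_orbit μ'
    let σ : Equiv.Perm (MulAction.orbit ↥T μ') :=
      Equiv.Perm.subtypePerm (MulAction.toPerm x) (fun ν => (hmem ν).symm)
    have hσ : σ ^ q ^ 1 = 1 := by
      rw [pow_one]
      refine Equiv.ext fun ν => Subtype.ext ?_
      have h1 : ∀ j : ℕ, (((σ ^ j) ν : MulAction.orbit ↥T μ') : ↥N →* K) = x ^ j • (ν : ↥N →* K) := by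
        intro j
        induction j with
        | zero => simp
        | succ j ih =>
          rw [pow_succ', Equiv.Perm.mul_apply, pow_succ', mul_smul, ← ih]
          rfl
      rw [h1, hx, one_smul]
      rfl
    obtain ⟨ν, hν⟩ := Equiv.Perm.exists_fixed_point_of_prime (p := q) (by
      rw [← Nat.card_eq_fintype_card, hk]
      exact fun hd => hq2 ((Nat.prime_dvd_prime_iff_eq hq Nat.prime_two).1 (hq.dvd_of_dvd_pow hd))) hσ
    exact hfree ν (hWs h _ ν.2) (congrArg Subtype.val hν)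
  set O₁ := MulAction.orbit ↥T μ with hO₁
  have hf₁ : O₁.Finite := Set.finite_range _
  obtain ⟨ν, hν, hνx⟩ : ∃ ν ∈ O₁, x • ν ∉ O₁ := by
    by_contra hcon
    push Not at hcon
    refine hnotinv hμ (Set.eq_of_subset_of_ncard_le ?_ ?_ hf₁)
    · rintro _ ⟨ν, hν, rfl⟩; exact hcon ν hν
    · exact (Set.ncard_image_of_injective O₁ (MulAction.injective x)).ge
  have hμ₂ : Ws ρ (x • ν) ≠ ⊥ := Ws_ne_bot ρ (hWs hμ ν hν) x
  set O₂ := MulAction.orbit ↥T (x • ν) with hO₂
  have hdisj : ∀ ν', ν' ∈ O₁ → ν' ∉ O₂ := by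
    intro ν' h1 h2
    apply hνx
    rw [hO₁, ← MulAction.orbit_eq_iff.2 h1, MulAction.orbit_eq_iff.2 h2]
    exact MulAction.mem_orbit_self _
  obtain ⟨u₁, hfix₁, hs₁⟩ := orbit_vector ρ hN hT hμ
  obtain ⟨u₂, hfix₂, hs₂⟩ := orbit_vector ρ hN hT hμ₂
  have hcomb : ∀ a b : K, ∀ ν', π ρ ν' (a • u₁ + b • u₂) ≠ 0 ↔ (a ≠ 0 ∧ ν' ∈ O₁) ∨ (b ≠ 0 ∧ ν' ∈ O₂) := by
    intro a b ν'
    rw [map_add, map_smul, map_smul]
    by_cases h1 : ν' ∈ O₁
    · have h2 : π ρ ν' u₂ = 0 := by_contra fun h => hdisj ν' h1 ((hs₂ ν').1 h)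
      simp [h2, h1, hdisj ν' h1, (hs₁ ν').2 h1]
    · have h2 : π ρ ν' u₁ = 0 := by_contra fun h => h1 ((hs₁ ν').1 h)
      by_cases h3 : ν' ∈ O₂
      · simp [h2, h1, h3, (hs₂ ν').2 h3]
      · have h4 : π ρ ν' u₂ = 0 := by_contra fun h => h3 ((hs₂ ν').1 h)
        simp [h2, h1, h3, h4]
  have hxs : ∀ (u : W) (O : Set (↥N →* K)), (∀ ν', π ρ ν' u ≠ 0 ↔ ν' ∈ O) →
      ∀ ν', π ρ ν' (ρ x u) ≠ 0 ↔ ν' ∈ x • O := by
    intro u O h ν'
    rw [Set.mem_smul_set_iff_inv_smul_mem, ← h]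
    have h1 := π_equiv ρ (x⁻¹ • ν') x u
    rw [smul_inv_smul] at h1
    rw [← h1]
    constructor
    · intro h2 h3; rw [h3, map_zero] at h2; exact h2 rfl
    · intro h2 h3
      apply h2
      rw [← Module.End.one_apply (R := K) (π ρ (x⁻¹ • ν') u), ← map_one ρ, ← inv_mul_cancel x, map_mul,
        Module.End.mul_apply, h3, map_zero]
  have hne₁ : O₁.Nonempty := ⟨μ, MulAction.mem_orbit_self μ⟩
  have hne₂ : O₂.Nonempty := ⟨x • ν, MulAction.mem_orbit_self _⟩
  have hf₂ : O₂.Finite := Set.finite_range _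
  refine ⟨u₁, u₂, hfix₁, hfix₂, LinearIndependent.pair_iff.2 fun a b hab => ?_, ?_⟩
  · constructor
    · by_contra ha
      have := (hcomb a b μ).2 (Or.inl ⟨ha, MulAction.mem_orbit_self μ⟩)
      rw [hab, map_zero] at this
      exact this rfl
    · by_contra hb
      have := (hcomb a b (x • ν)).2 (Or.inr ⟨hb, MulAction.mem_orbit_self _⟩)
      rw [hab, map_zero] at this
      exact this rfl
  rintro ⟨h1, h2⟩
  obtain ⟨a, b, hab⟩ := Submodule.mem_span_pair.1 h1
  obtain ⟨c, d, hcd⟩ := Submodule.mem_span_pair.1 h2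
  -- the image of each orbit is a union of orbits, hence one of them
  have himg : ∀ (u : W) (O : Set (↥N →* K)) (a b : K), (∀ ν', π ρ ν' u ≠ 0 ↔ ν' ∈ O) → O.Nonempty →
      a • u₁ + b • u₂ = ρ x u → (x • O = O₁ ∪ O₂ ∨ x • O = O₁ ∨ x • O = O₂) := by
    intro u O a b hs hne hab
    have hiff : ∀ ν', ν' ∈ x • O ↔ (a ≠ 0 ∧ ν' ∈ O₁) ∨ (b ≠ 0 ∧ ν' ∈ O₂) := fun ν' => by
      rw [← hxs u O hs, ← hcomb, hab]
    by_cases ha : a = 0
    · by_cases hb : b = 0
      · exfalso
        obtain ⟨ν', hν'⟩ := hne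
        have := (hiff (x • ν')).1 (Set.smul_mem_smul_set hν')
        simp [ha, hb] at this
      · exact Or.inr (Or.inr (Set.ext fun ν' => by rw [hiff]; simp [ha, hb]))
    · by_cases hb : b = 0
      · exact Or.inr (Or.inl (Set.ext fun ν' => by rw [hiff]; simp [ha, hb]))
      · exact Or.inl (Set.ext fun ν' => by rw [hiff]; simp [ha, hb])
  have hlt : ∀ A B : Set (↥N →* K), A.Finite → B.Finite → B.Nonempty → Disjoint A B →
      x • A ≠ A ∪ B := by
    intro A B hA hB hBne hd h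
    have h' : (x • A).ncard = A.ncard + B.ncard := by rw [h, Set.ncard_union_eq hd hA hB]
    rw [show (x • A).ncard = A.ncard from Set.ncard_image_of_injective _ (MulAction.injective x)] at h'
    have := (Set.ncard_pos hB).2 hBne
    omega
  have hd : Disjoint O₁ O₂ := Set.disjoint_left.2 hdisj
  rcases himg u₁ O₁ a b hs₁ hne₁ hab with e | e | e
  · exact hlt O₁ O₂ hf₁ hf₂ hne₂ hd e
  · exact hnotinv hμ e
  rcases himg u₂ O₂ c d hs₂ hne₂ hcd with e' | e' | e'
  · exact hlt O₂ O₁ hf₂ hf₁ hne₁ hd.symm (by rw [e', Set.union_comm])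
  · have h3 : x ^ 2 ∈ MulAction.stabilizer S O₁ := by
      rw [MulAction.mem_stabilizer_iff, pow_two, mul_smul, e, e']
    have h4 : x ∈ MulAction.stabilizer S O₁ := by
      obtain ⟨j, hj⟩ := hq.odd_of_ne_two hq2
      have := Subgroup.pow_mem _ h3 (j + 1)
      rwa [← pow_mul, show 2 * (j + 1) = q + 1 by omega, pow_succ, hx, one_mul] at this
    exact hnotinv hμ (MulAction.mem_stabilizer_iff.1 h4)
  · exact hnotinv hμ₂ e'

end Weights

/-- The base change of a representation. -/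
noncomputable def ext (K : Type*) [Field K] [Algebra (ZMod 2) K] {S : Type*} [Group S] {E : Type*} [AddCommGroup E]
    [Module (ZMod 2) E] (ρ : Representation (ZMod 2) S E) : Representation K S (K ⊗[ZMod 2] E) :=
  (Module.End.baseChangeHom (ZMod 2) K E).toMonoidHom.comp ρ

/-- Fixed vectors of the base change come from fixed vectors. -/
theorem fixed_mem_range {K : Type*} [Field K] [Algebra (ZMod 2) K] {S : Type*} [Group S] {E : Type*} [AddCommGroup E]
    [Module (ZMod 2) E] (ρ : Representation (ZMod 2) S E) (F : Submodule (ZMod 2) E) (T : Subgroup S)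
    (hF : ∀ v, (∀ t ∈ T, ρ t v = v) → v ∈ F) (z : K ⊗[ZMod 2] E) (hz : ∀ t ∈ T, ext K ρ t z = z) :
    z ∈ LinearMap.range (F.subtype.baseChange K) := by
  classical
  let b := Module.Basis.ofVectorSpace (ZMod 2) K
  let e := TensorProduct.equivFinsuppOfBasisLeft (N := E) b
  have hnat : ∀ (f : Module.End (ZMod 2) E) (y : K ⊗[ZMod 2] E) (i), e (f.baseChange K y) i = f (e y i) := by
    intro f y i
    induction y using TensorProduct.induction_on with
    | zero => simp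
    | tmul m n => simp [e]
    | add y y' hy hy' => simp [map_add, hy, hy']
  have hc : ∀ i, e z i ∈ F := fun i => hF _ fun t ht => by
    rw [← hnat (ρ t) z i]
    exact congrArg (fun y => e y i) (hz t ht)
  rw [← e.symm_apply_apply z, show e.symm (e z) = (e z).sum fun i n => b i ⊗ₜ n from TensorProduct.equivFinsuppOfBasisLeft_symm_apply b _]
  refine Submodule.sum_mem _ fun i _ => ⟨b i ⊗ₜ[ZMod 2] ⟨e z i, hc i⟩, ?_⟩
  simp


/-- Let S be a finite solvable group whose order is divisible only by the primes 2, p, q (p, q distinct odd primes), with a Sylow system S₂, S_p, S_q (pairwise permutable Sylow subgroups) such that: S_p is a minimal normal subgroup of S of order p or p²; S_q has order q and [S_p, S_q] = S_p; and O₂(S) = 1. Let E be an irreducible module for S over the field with two elements on which S_p acts faithfully, and E₀ the subspace of fixed points of S₂. Then either E₀ has at least 8 elements, or E₀ has exactly 4 elements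 and S_q does not leave E₀ invariant. -/
theorem result {S : Type*} [Group S] [Finite S]
    [Group.IsSolvable S] (p q : ℕ) (hp : p.Prime) (hq : q.Prime) (hp2 : p ≠ 2) (hq2 : q ≠ 2) (hpq : p ≠ q)
    (hπ : ∀ r : ℕ, r.Prime → r ∣ Nat.card S → r = 2 ∨ r = p ∨ r = q)
    (S₂ : Sylow 2 S) (Sp : Sylow p S) (Sq : Sylow q S)
    (h2q : Nat.card ↥((S₂ : Subgroup S) ⊔ (Sq : Subgroup S)) = Nat.card ↥S₂ * Nat.card ↥Sq)
    (h2p : Nat.card ↥((S₂ : Subgroup S) ⊔ (Sp : Subgroup S)) = Nat.card ↥S₂ * Nat.card ↥Sp)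
    (hpq' : Nat.card ↥((Sp : Subgroup S) ⊔ (Sq : Subgroup S)) = Nat.card ↥Sp * Nat.card ↥Sq)
    (hSpN : (Sp : Subgroup S).Normal) (hSpmin : ∀ N : Subgroup S, N.Normal → N ≤ (Sp : Subgroup S) → N = ⊥ ∨ N = (Sp : Subgroup S))
    (hSpcard : Nat.card ↥Sp = p ∨ Nat.card ↥Sp = p ^ 2)
    (hSq : Nat.card ↥Sq = q) (hcomm : ⁅(Sp : Subgroup S), (Sq : Subgroup S)⁆ = (Sp : Subgroup S))
    (hO2 : Cfsg.pCore 2 S = ⊥)
    {E : Type*} [AddCommGroup E] [Module (ZMod 2) E] [Finite E] (ρ : Representation (ZMod 2) S E) (hE : Nontrivial E)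
    (hirr : ∀ N : Submodule (ZMod 2) E, (∀ s : S, ∀ m ∈ N, ρ s m ∈ N) → N = ⊥ ∨ N = ⊤)
    (hfaith : ∀ x ∈ (Sp : Subgroup S), ρ x = 1 → x = 1) :
    8 ≤ Nat.card {v : E // ∀ s ∈ (S₂ : Subgroup S), ρ s v = v} ∨
      (Nat.card {v : E // ∀ s ∈ (S₂ : Subgroup S), ρ s v = v} = 4 ∧
        ∃ x ∈ (Sq : Subgroup S), ∃ v : E, (∀ s ∈ (S₂ : Subgroup S), ρ s v = v) ∧ ¬ ∀ s ∈ (S₂ : Subgroup S), ρ s (ρ x v) = ρ x v) := by

  classical
  haveI : Fact p.Prime := ⟨hp⟩
  haveI : Fact q.Prime := ⟨hq⟩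
  haveI : Fact (Nat.Prime 2) := ⟨Nat.prime_two⟩
  haveI := hSpN
  haveI : Fintype ↥(Sp : Subgroup S) := Fintype.ofFinite _
  haveI hcommu : IsMulCommutative ↥(Sp : Subgroup S) := by
    rcases hSpcard with h | h
    · haveI := isCyclic_of_prime_card (α := ↥(Sp : Subgroup S)) h
      exact IsCyclic.isMulCommutative
    · exact IsPGroup.isMulCommutative_of_card_eq_prime_sq h
  have hSpc : Nat.card ↥(Sp : Subgroup S) = p ∨ Nat.card ↥(Sp : Subgroup S) = p ^ 2 := hSpcard
  have hSqc : Nat.card ↥(Sq : Subgroup S) = q := hSq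
  let F : Submodule (ZMod 2) E :=
    { carrier := {v | ∀ s ∈ (S₂ : Subgroup S), ρ s v = v}
      add_mem' := fun hu hv s hs => by rw [map_add, hu s hs, hv s hs]
      zero_mem' := fun s _ => map_zero _
      smul_mem' := fun c v hv s hs => by rw [map_smul, hv s hs] }
  have hEF : Nat.card {v : E // ∀ s ∈ (S₂ : Subgroup S), ρ s v = v} = 2 ^ Module.finrank (ZMod 2) F := by
    show Nat.card F = _
    rw [Module.natCard_eq_pow_finrank (K := ZMod 2), Nat.card_zmod]
  let K := AlgebraicClosure (ZMod 2)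
  haveI : CharP K 2 := charP_of_injective_algebraMap (algebraMap (ZMod 2) K).injective 2
  let ρK := ext K ρ
  obtain ⟨a₀, ha₀, ha₁⟩ : ∃ a ∈ (Sp : Subgroup S), a ≠ 1 := by
    by_contra! hcon
    have h1 : (Sp : Subgroup S) = ⊥ := (Subgroup.eq_bot_iff_forall _).2 hcon
    rw [h1, Subgroup.card_bot] at hSpc
    rcases hSpc with h | h
    · exact hp.ne_one h.symm
    · have := Nat.one_lt_pow two_ne_zero hp.one_lt
      omega
  have hSpbot : ∀ v : E, (∀ a ∈ (Sp : Subgroup S), ρ a v = v) → v = 0 := by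
    let C : Submodule (ZMod 2) E :=
      { carrier := {v | ∀ a ∈ (Sp : Subgroup S), ρ a v = v}
        add_mem' := fun hu hv s hs => by rw [map_add, hu s hs, hv s hs]
        zero_mem' := fun s _ => map_zero _
        smul_mem' := fun c v hv s hs => by rw [map_smul, hv s hs] }
    have hCinv : ∀ s : S, ∀ m ∈ C, ρ s m ∈ C := fun s m hm a ha => by
      have h1 := hm (s⁻¹ * a * s) (by simpa using hSpN.conj_mem a ha s⁻¹)
      rw [← Module.End.mul_apply, ← map_mul, show a * s = s * (s⁻¹ * a * s) by group, map_mul, Module.End.mul_apply, h1]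
    rcases hirr C hCinv with h | h
    · intro v hv
      exact (Submodule.eq_bot_iff _).1 h v hv
    · exfalso
      refine ha₁ (hfaith a₀ ha₀ (LinearMap.ext fun v => ?_))
      have hv : v ∈ C := h ▸ Submodule.mem_top
      exact hv a₀ ha₀
  haveI : Nontrivial (K ⊗[ZMod 2] E) := by
    apply Module.nontrivial_of_finrank_pos (R := K)
    rw [Module.finrank_baseChange]
    exact Module.finrank_pos
  have hN : (Fintype.card ↥(Sp : Subgroup S) : K) ≠ 0 := by
    rw [Ne, CharP.cast_eq_zero_iff K 2, ← Nat.card_eq_fintype_card]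
    intro hd
    rcases hSpc with h | h <;> rw [h] at hd
    · exact hp2 ((Nat.prime_dvd_prime_iff_eq Nat.prime_two hp).1 hd).symm
    · exact hp2 ((Nat.prime_dvd_prime_iff_eq Nat.prime_two hp).1 (Nat.prime_two.dvd_of_dvd_pow hd)).symm
  obtain ⟨x, hxQ, hxne⟩ : ∃ x ∈ (Sq : Subgroup S), x ≠ 1 := by
    by_contra! hcon
    rw [show (Sq : Subgroup S) = ⊥ from (Subgroup.eq_bot_iff_forall _).2 hcon, Subgroup.card_bot] at hSqc
    exact hq.ne_one hSqc.symm
  have hxq : x ^ q = 1 := by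
    have := pow_card_eq_one' (x := (⟨x, hxQ⟩ : ↥(Sq : Subgroup S)))
    rw [hSqc] at this
    exact congrArg Subtype.val this
  have hgen : (Sq : Subgroup S) = Subgroup.zpowers x := by
    refine (Subgroup.eq_of_le_of_card_ge (Subgroup.zpowers_le.2 hxQ) ?_).symm
    rw [Nat.card_zpowers, hSqc, orderOf_eq_prime hxq hxne]
  have hfree : ∀ ν : ↥(Sp : Subgroup S) →* K, Ws ρK ν ≠ ⊥ → x • ν ≠ ν := by
    intro ν hν hfix
    have hone : ν = 1 := by
      have hker : (⁅(Sp : Subgroup S), (Sq : Subgroup S)⁆ : Subgroup S) ≤ ν.ker.map (Sp : Subgroup S).subtype := by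
        rw [Subgroup.commutator_le]
        intro a ha b hb
        have hb' : b ∈ MulAction.stabilizer S ν := by
          rw [hgen] at hb
          exact (Subgroup.zpowers_le.2 (MulAction.mem_stabilizer_iff.2 hfix)) hb
        have hb2 : b⁻¹ • ν = ν := MulAction.mem_stabilizer_iff.1 (inv_mem hb')
        let A : ↥(Sp : Subgroup S) := ⟨a, ha⟩
        refine ⟨A * MulAut.conjNormal b A⁻¹, ?_, ?_⟩
        · rw [SetLike.mem_coe, MonoidHom.mem_ker, map_mul]
          have h3 := DFunLike.congr_fun hb2 A⁻¹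
          rw [smul_def, inv_inv] at h3
          rw [h3, ← map_mul, mul_inv_cancel, map_one]
        · simp [A, commutatorElement_def, mul_assoc]
      rw [hcomm] at hker
      refine MonoidHom.ext fun a => ?_
      obtain ⟨a', ha', he⟩ := hker a.2
      rw [← Subtype.ext he]
      exact MonoidHom.mem_ker.1 ha'
    obtain ⟨w, hw, hw0⟩ := Submodule.exists_mem_ne_zero_of_ne_bot hν
    rw [mem_Ws, hone] at hw
    have hw' := fixed_mem_range ρ ⊥ (Sp : Subgroup S) (fun v hv => by rw [Submodule.mem_bot]; exact hSpbot v hv) w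
      (fun t ht => (hw ⟨t, ht⟩).trans (by simp))
    obtain ⟨y, hy⟩ := hw'
    refine hw0 (hy ▸ ?_)
    rw [show y = 0 from Subsingleton.elim _ _, map_zero]
  obtain ⟨μ, hμ⟩ := exists_weight (N := (Sp : Subgroup S)) ρK
  obtain ⟨u₁, u₂, hu₁, hu₂, hli, hno⟩ := two_vectors ρK hN S₂.isPGroup' x hq hq2 hxq hfree hμ
  set R := LinearMap.range (F.subtype.baseChange K) with hR
  have hR1 : u₁ ∈ R := fixed_mem_range ρ F S₂ (fun v hv => hv) u₁ hu₁
  have hR2 : u₂ ∈ R := fixed_mem_range ρ F S₂ (fun v hv => hv) u₂ hu₂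
  have hRle : Module.finrank K R ≤ Module.finrank (ZMod 2) F :=
    (LinearMap.finrank_range_le _).trans (Module.finrank_baseChange (R := K)).le
  have hspan : Submodule.span K {u₁, u₂} ≤ R := by
    rw [Submodule.span_le]
    rintro _ (rfl | rfl)
    exacts [hR1, hR2]
  have hdim : Module.finrank K (Submodule.span K {u₁, u₂}) = 2 := by
    have := finrank_span_eq_card hli
    rwa [Matrix.range_cons, Matrix.range_cons, Matrix.range_empty, Set.union_empty, Set.singleton_union,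
      Fintype.card_fin] at this
  have h2le := hdim ▸ Submodule.finrank_mono hspan
  rcases Nat.lt_or_ge (Module.finrank (ZMod 2) F) 3 with h3 | h3
  swap
  · left
    rw [hEF]
    calc (8 : ℕ) = 2 ^ 3 := by norm_num
      _ ≤ _ := Nat.pow_le_pow_right (by norm_num) h3
  right
  refine ⟨by rw [hEF, show Module.finrank (ZMod 2) F = 2 by omega]; norm_num, x, hxQ, ?_⟩
  by_contra hcon
  push Not at hcon
  apply hno
  have hReq : Submodule.span K {u₁, u₂} = R := Submodule.eq_of_le_of_finrank_le hspan (by omega)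
  rw [hReq]
  have hinv : ∀ u ∈ R, ρK x u ∈ R := by
    rintro _ ⟨y, rfl⟩
    induction y using TensorProduct.induction_on with
    | zero => simp
    | tmul c v =>
      exact ⟨c ⊗ₜ ⟨ρ x v, hcon v v.2⟩, rfl⟩
    | add y y' hy hy' => rw [map_add, map_add]; exact R.add_mem hy hy'
  exact ⟨hinv _ hR1, hinv _ hR2⟩

end Cfsg.Agent.S4414
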