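import Cfsg.Statements.S4415
import Cfsg.Agent.Lib.JordanThree.Main
import Cfsg.Agent.Lib.Coprime.Action
import Cfsg.Agent.Lib.OddLocal.PStable
import Cfsg.Agent.Lib.Classification.Extraspecial

set_option autoImplicit false
open Cfsg

namespace Cfsg.Agent.S4415

open scoped commutatorElement
open Cfsg.Agent.Lib

theorem three_smul_zero {A : Type*} [AddCommGroup A] [Module (ZMod 3) A] (x : A) : x + x + x = 0 := by
  have h : ((1 : ZMod 3) + 1 + 1) • x = x + x + x := by rw [add_smul, add_smul, one_smul]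
  rw [← h, show (1 : ZMod 3) + 1 + 1 = 0 from rfl, zero_smul]

section ops

variable {H : Type*} [Group H] {W : Type*} [AddCommGroup W] [Module (ZMod 3) W]

theorem one_map_apply (ρ : H →* Module.End (ZMod 3) W) (w : W) : ρ 1 w = w := by rw [map_one]; rfl

theorem ring_quad {R : Type*} [Ring R] (h3 : (3 : R) = 0) {B B' X C D : R} (hBB : B * B' = 1)
    (hN : (B - 1) * (B - 1) = 0) (hB'B : B' * B = 1) (hXX : X * X = 1) (hC : C = B * X * B')
    (hD : D = B * C * B') (hXC : X * C = D) (hCX : C * X = D) : X = 1 := by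
  have h2 : (2 : R) = -1 := by
    rw [eq_neg_iff_add_eq_zero, ← h3]; norm_num
  have hB' : B' = 1 - (B - 1) := by
    calc B' = B' * (B * (1 - (B - 1)) + (B - 1) * (B - 1)) := by
          rw [show B * (1 - (B - 1)) + (B - 1) * (B - 1) = 1 by noncomm_ring, mul_one]
      _ = B' * B * (1 - (B - 1)) := by rw [hN, add_zero, mul_assoc]
      _ = _ := by rw [hB'B, one_mul]
  obtain ⟨N, hNd⟩ : ∃ N, N = B - 1 := ⟨_, rfl⟩
  rw [← hNd] at hN hB'
  have hB : B = 1 + N := by rw [hNd]; abel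
  have hCC : C * C = 1 := by
    rw [hC, show B * X * B' * (B * X * B') = B * X * (B' * B) * X * B' by simp only [mul_assoc], hB'B, mul_one,
      mul_assoc B X X, hXX, mul_one, hBB]
  have hsum : X + C + D = N * X * N := by
    rw [hD, hC, hB, hB']
    calc X + (1 + N) * X * (1 - N) + (1 + N) * ((1 + N) * X * (1 - N)) * (1 - N)
        = (3 : R) * X + (3 : R) * (N * X - X * N) - (5 : R) * (N * X * N) + (N * N) * X + X * (N * N)
          - (2 : R) * ((N * N) * (X * N)) - 0 + (0 - (0 : R)) + ((2 : R) * (N * X * (N * N)) + (N * N) * X * (N * N)) := by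
            noncomm_ring
      _ = N * X * N := by
          rw [hN, h3, show (5 : R) = 3 + 3 - 1 by norm_num, h3]
          simp
  set M := N * X * N with hM
  have hMM : M * M = 0 := by
    rw [hM, show N * X * N * (N * X * N) = N * X * (N * N) * X * N by simp only [mul_assoc], hN]
    simp
  set T := 1 + (X + C + D) with hT
  have hTM : T = 1 + M := by rw [hT, hsum]
  have hTX : T * X = T := by
    have hDX : D * X = C := by rw [← hCX, mul_assoc, hXX, mul_one]
    rw [hT, add_mul, add_mul, add_mul, one_mul, hXX, hCX, hDX]; abel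
  have hTC : T * C = T := by
    have hDC : D * C = X := by rw [← hXC, mul_assoc, hCC, mul_one]
    rw [hT, add_mul, add_mul, add_mul, one_mul, hXC, hCC, hDC]; abel
  have hTD : T * D = T := by rw [← hXC, ← mul_assoc, hTX, hTC]
  have hTT : T * T = T := by
    calc T * T = T * (1 + (X + C + D)) := rfl
      _ = T + (T * X + T * C + T * D) := by rw [mul_add, mul_one, mul_add, mul_add]
      _ = T + (T + T + T) := by rw [hTX, hTC, hTD]
      _ = T + (3 : R) * T := by rw [show (3 : R) = 1 + 1 + 1 by norm_num, add_mul, add_mul, one_mul]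
      _ = T := by rw [h3, zero_mul, add_zero]
  have hM0 : M = 0 := by
    have e : (1 + M) * (1 + M) = 1 + M + M + M * M := by noncomm_ring
    rw [← hTM, hTT, hMM, add_zero, hTM] at e
    exact add_eq_left.1 e.symm
  have hT1 : T = 1 := by rw [hTM, hM0, add_zero]
  rw [hT1, one_mul] at hTX
  exact hTX

variable [Finite H]

/-- A square-zero `b - 1` cannot move a four-group. -/
theorem quad_trivial (ρ : H →* Module.End (ZMod 3) W) {b q : H} (hq : q * q = 1)
    (hprod : q * (b * q * b⁻¹) = b * (b * q * b⁻¹) * b⁻¹)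
    (hprod' : b * q * b⁻¹ * q = b * (b * q * b⁻¹) * b⁻¹)
    {M : Submodule (ZMod 3) W} (hb : ∀ w ∈ M, ρ b w ∈ M) (hbi : ∀ w ∈ M, ρ b⁻¹ w ∈ M)
    (hqM : ∀ w ∈ M, ρ q w ∈ M)
    (h : ∀ w ∈ M, ρ b (ρ b w - w) - (ρ b w - w) = 0) : ∀ w ∈ M, ρ q w = w := by
  have hm : ∀ g k : H, ∀ v : W, ρ (g * k) v = ρ g (ρ k v) := fun g k v => by rw [map_mul]; rfl
  let X : Module.End (ZMod 3) M := (ρ q).restrict hqM
  let B : Module.End (ZMod 3) M := (ρ b).restrict hb
  let B' : Module.End (ZMod 3) M := (ρ b⁻¹).restrict hbi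
  have h3 : (3 : Module.End (ZMod 3) M) = 0 := LinearMap.ext fun v => by
    show (3 : Module.End (ZMod 3) M) v = 0
    rw [show (3 : Module.End (ZMod 3) M) = 1 + 1 + 1 by norm_num]
    exact three_smul_zero v
  have := ring_quad h3 (B := B) (B' := B') (X := X) (C := B * X * B') (D := B * (B * X * B') * B')
    (LinearMap.ext fun v => Subtype.ext (by
      show ρ b (ρ b⁻¹ v) = v
      rw [← hm, mul_inv_cancel, map_one]; rfl))
    (LinearMap.ext fun v => Subtype.ext (h v v.2))
    (LinearMap.ext fun v => Subtype.ext (by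
      show ρ b⁻¹ (ρ b v) = v
      rw [← hm, inv_mul_cancel, map_one]; rfl))
    (LinearMap.ext fun v => Subtype.ext (by
      show ρ q (ρ q v) = v
      rw [← hm, hq, map_one]; rfl))
    rfl rfl
    (LinearMap.ext fun v => Subtype.ext (by
      show ρ q (ρ b (ρ q (ρ b⁻¹ v))) = ρ b (ρ b (ρ q (ρ b⁻¹ (ρ b⁻¹ v))))
      simp only [← hm]
      have e := congrArg (fun g => ρ g (v : W)) hprod
      simpa only [mul_assoc] using e))
    (LinearMap.ext fun v => Subtype.ext (by
      show ρ b (ρ q (ρ b⁻¹ (ρ q v))) = ρ b (ρ b (ρ q (ρ b⁻¹ (ρ b⁻¹ v))))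
      simp only [← hm]
      have e := congrArg (fun g => ρ g (v : W)) hprod'
      simpa only [mul_assoc] using e))
  intro w hw
  exact congrArg Subtype.val (LinearMap.congr_fun this ⟨w, hw⟩)

end ops

/-- Let S be a finite solvable group acting faithfully on a finite-dimensional space E over the field with three elements, with O₃(S) = 1. Let B ≤ S have order 3 and suppose: E = E₀ ⊕ E₁ with B fixing E₁ pointwise, E₀ B-invariant of order 27 and indecomposable under B (a generator of B has a single Jordan block on E₀); B normalizes but does not centralize some subgroup Q of S that is elementary abelian of order 4; and B is the centre of a Sylow 3-subgroup of S. Put R = [O_{3'}(S), B]. Then R is elementary abelian of order 4 or extraspecial of order 32 containing an elementary abelian subgroup of order 8 (a central product of two quaternion groups), and E is the direct sum of a subspace fixed pointwise by R and an RB-invariant subspace on which the subgroup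 RB acts faithfully and irreducibly. -/
theorem result {S : Type*} [Group S] [Finite S]
    [Group.IsSolvable S] {E : Type*} [AddCommGroup E] [Module (ZMod 3) E] [Finite E] (ρ : Representation (ZMod 3) S E)
    (hfaith : Function.Injective ρ) (hO3 : Cfsg.pCore 3 S = ⊥)
    (B : Subgroup S) (hB : Nat.card ↥B = 3) (b : S) (hb : Subgroup.zpowers b = B)
    (E₀ E₁ : Submodule (ZMod 3) E) (hE01 : E₀ ⊓ E₁ = ⊥) (hE01' : E₀ ⊔ E₁ = ⊤)
    (hE1 : ∀ v ∈ E₁, ρ b v = v) (hE0inv : ∀ v ∈ E₀, ρ b v ∈ E₀) (hE0 : Nat.card ↥E₀ = 27)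
    (hind : ∃ v ∈ E₀, ρ b (ρ b v - v) - (ρ b v - v) ≠ 0)
    (Q : Subgroup S) (hQ : Cfsg.IsElementaryAbelian 2 Q) (hQ4 : Nat.card ↥Q = 4)
    (hBQ : B ≤ Subgroup.normalizer (Q : Set S)) (hBQ' : ¬ B ≤ Subgroup.centralizer (Q : Set S))
    (P : Sylow 3 S) (hBZ : (Subgroup.center ↥(P : Subgroup S)).map (P : Subgroup S).subtype = B) :
    ((Cfsg.IsElementaryAbelian 2 ⁅Cfsg.pPrimeCore 3 S, B⁆ ∧ Nat.card ↥⁅Cfsg.pPrimeCore 3 S, B⁆ = 4) ∨
      (Cfsg.IsExtraspecial 2 ↥⁅Cfsg.pPrimeCore 3 S, B⁆ ∧ Nat.card ↥⁅Cfsg.pPrimeCore 3 S, B⁆ = 32 ∧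
        ∃ A : Subgroup S, A ≤ ⁅Cfsg.pPrimeCore 3 S, B⁆ ∧ Cfsg.IsElementaryAbelian 2 A ∧ Nat.card ↥A = 8)) ∧
    ∃ F₀ F₁ : Submodule (ZMod 3) E, F₀ ⊓ F₁ = ⊥ ∧ F₀ ⊔ F₁ = ⊤ ∧
      (∀ r ∈ ⁅Cfsg.pPrimeCore 3 S, B⁆, ∀ v ∈ F₁, ρ r v = v) ∧ (∀ r ∈ ⁅Cfsg.pPrimeCore 3 S, B⁆ ⊔ B, ∀ v ∈ F₀, ρ r v ∈ F₀) ∧
      (∀ r ∈ ⁅Cfsg.pPrimeCore 3 S, B⁆ ⊔ B, (∀ v ∈ F₀, ρ r v = v) → r = 1) ∧
      (∀ N : Submodule (ZMod 3) E, N ≤ F₀ → (∀ r ∈ ⁅Cfsg.pPrimeCore 3 S, B⁆ ⊔ B, ∀ v ∈ N, ρ r v ∈ N) → N = ⊥ ∨ N = F₀) := by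
  classical
  haveI : Fact (Nat.Prime 3) := ⟨Nat.prime_three⟩
  set N := Cfsg.pPrimeCore 3 S
  set R := ⁅N, B⁆ with hRd
  have hbB : b ∈ B := hb ▸ Subgroup.mem_zpowers b
  have hb3 : b ^ 3 = 1 := by
    have : orderOf b = 3 := by rw [← Nat.card_zpowers, hb, hB]
    rw [← this, pow_orderOf_eq_one]
  have hNcop : (Nat.card N).Coprime 3 := Cores.pPrimeCore_coprime 3 S
  haveI hNn : N.Normal := (Cores.pPrimeCore_mem 3 S).1
  have hBN : B ≤ Subgroup.normalizer (N : Set S) := by
    rw [Subgroup.normalizer_eq_top_iff.2 hNn]; exact le_top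
  have hRN : R ≤ N := Coprime.commutator_le_of_le_normalizer hBN
  -- the four-group
  have hqb : ∀ q ∈ Q, b * q * b⁻¹ ∈ Q := fun q hq => (Subgroup.mem_normalizer_iff.1 (hBQ hbB) q).1 hq
  have hqsq : ∀ q ∈ Q, q * q = 1 := fun q hq => by rw [← pow_two]; exact hQ.2 q hq
  have hqfix : ∀ q ∈ Q, b * q = q * b → q = 1 := by
    intro q hq hqc
    by_contra hq1
    apply hBQ'
    rw [← hb, Subgroup.zpowers_le, Subgroup.mem_centralizer_iff]
    intro q' hq'
    by_cases h1 : q' = 1
    · simp [h1]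
    by_cases h2 : q' = q
    · rw [h2, hqc]
    set q'' := b * q' * b⁻¹ with hq''
    have hfix : b * q * b⁻¹ = q := by rw [hqc]; group
    have h3 : q'' = q' ∨ q'' = q * q' := by
      by_contra hne
      push Not at hne
      have hn1 : q'' ≠ 1 := fun e => h1 (by
        calc q' = b⁻¹ * q'' * b := by rw [hq'']; group
          _ = 1 := by rw [e]; group)
      have hnq : q'' ≠ q := fun e => h2 (by
        calc q' = b⁻¹ * q'' * b := by rw [hq'']; group
          _ = b⁻¹ * (b * q * b⁻¹) * b := by rw [e, hfix]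
          _ = q := by group)
      have hp1 : q * q' ≠ 1 := fun e => h2 (by
        rw [← inv_eq_of_mul_eq_one_right e, inv_eq_of_mul_eq_one_right (hqsq q hq)])
      have hp2 : q * q' ≠ q := fun e => h1 (mul_left_cancel (e.trans (mul_one _).symm))
      have hp3 : q * q' ≠ q' := fun e => hq1 (mul_right_cancel (e.trans (one_mul _).symm))
      have hS : ({1, q, q', q * q', q''} : Finset S).card = 5 := by
        rw [Finset.card_insert_of_notMem (by simp [Ne.symm hq1, Ne.symm h1, Ne.symm hp1, Ne.symm hn1]),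
          Finset.card_insert_of_notMem (by simp [Ne.symm h2, Ne.symm hp2, Ne.symm hnq]),
          Finset.card_insert_of_notMem (by simp [Ne.symm hp3, Ne.symm hne.1]),
          Finset.card_insert_of_notMem (by simp [Ne.symm hne.2]), Finset.card_singleton]
      have hsub : (({1, q, q', q * q', q''} : Finset S) : Set S) ⊆ (Q : Set S) := by
        intro x hx
        simp only [Finset.coe_insert, Finset.coe_singleton, Set.mem_insert_iff, Set.mem_singleton_iff] at hx
        rcases hx with rfl | rfl | rfl | rfl | rfl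
        exacts [Q.one_mem, hq, hq', Q.mul_mem hq hq', hqb q' hq']
      have := Set.ncard_le_ncard hsub (Set.toFinite _)
      rw [Set.ncard_coe_finset, hS, ← Nat.card_coe_set_eq] at this
      simp only [SetLike.coe_sort_coe] at this
      omega
    rcases h3 with h3 | h3
    · calc q' * b = b * q' * b⁻¹ * b := by rw [← hq'', h3]
        _ = b * q' := by group
    · exfalso
      have e : q' = q * (q * (q * q')) := by
        calc q' = b ^ 3 * q' * (b ^ 3)⁻¹ := by rw [hb3]; simp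
          _ = b * (b * (b * q' * b⁻¹) * b⁻¹) * b⁻¹ := by
            simp only [pow_succ, pow_zero, one_mul, mul_inv_rev, mul_assoc]
          _ = _ := by
            rw [← hq'', h3, show b * (q * q') * b⁻¹ = (b * q * b⁻¹) * (b * q' * b⁻¹) by group, hfix, ← hq'', h3,
              show b * (q * (q * q')) * b⁻¹ = (b * q * b⁻¹) * ((b * q * b⁻¹) * (b * q' * b⁻¹)) by group,
              hfix, ← hq'', h3]
      rw [← mul_assoc q q (q'), hqsq q hq, one_mul] at e
      exact hq1 (mul_right_cancel ((one_mul q').trans e)).symm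
  -- the group is inside the kernel
  have hQN : ∀ q ∈ Q, q * b * q⁻¹ * b⁻¹ ∈ N := by
    intro q hq
    let π := QuotientGroup.mk' N
    haveI : Group.IsSolvable (S ⧸ N) := Group.isSolvable_of_surjective (QuotientGroup.mk'_surjective N)
    have hcore : Cfsg.pPrimeCore 3 (S ⧸ N) = ⊥ := Cores.pPrimeCore_quotient_pPrimeCore 3 S
    have hbC : π b ∈ Subgroup.centralizer (Cfsg.pCore 3 (S ⧸ N) : Set (S ⧸ N)) := by
      refine Subgroup.mem_centralizer_iff.2 fun y hy => ?_
      have hy' : y ∈ ((P : Subgroup S).map π) :=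
        Cores.pCore_le_sylow (P.mapSurjective (QuotientGroup.mk'_surjective N)) hy
      obtain ⟨x, hx, rfl⟩ := hy'
      obtain ⟨c, hc, hcb⟩ : b ∈ (Subgroup.center ↥(P : Subgroup S)).map (P : Subgroup S).subtype :=
        hBZ.symm ▸ hbB
      rw [← map_mul, ← map_mul]
      congr 1
      rw [← hcb]
      exact congrArg Subtype.val (Subgroup.mem_center_iff.1 hc ⟨x, hx⟩)
    have hb3c : π b ∈ Cfsg.pCore 3 (S ⧸ N) := Cfsg.Agent.Lib.OddLocal.centralizer_pCore_le hcore hbC
    have hm : π (q * b * q⁻¹ * b⁻¹) ∈ Cfsg.pCore 3 (S ⧸ N) := by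
      rw [map_mul, map_mul, map_mul, map_inv, map_inv]
      exact Subgroup.mul_mem _ (Subgroup.Normal.conj_mem inferInstance _ hb3c _) (Subgroup.inv_mem _ hb3c)
    have hQmem : q * b * q⁻¹ * b⁻¹ ∈ Q := by
      have := Q.mul_mem hq (hqb q⁻¹ (Q.inv_mem hq))
      rwa [← mul_assoc, ← mul_assoc] at this
    obtain ⟨k, hk⟩ := Cores.pCore_isPGroup 3 (S ⧸ N) ⟨_, hm⟩
    have h1 : orderOf (π (q * b * q⁻¹ * b⁻¹)) ∣ 3 ^ k :=
      orderOf_dvd_of_pow_eq_one (congrArg Subtype.val hk)
    have h2 : orderOf (π (q * b * q⁻¹ * b⁻¹)) ∣ 2 := orderOf_dvd_of_pow_eq_one (by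
      rw [← map_pow, hQ.2 _ hQmem, map_one])
    have := orderOf_eq_one_iff.1 (Nat.eq_one_of_dvd_coprimes
      (Nat.Coprime.pow_left k (show Nat.Coprime 3 2 by norm_num)) h1 h2)
    exact (QuotientGroup.eq_one_iff _).1 this
  have hsurj : ∀ q ∈ Q, ∃ q' ∈ Q, q' * b * q'⁻¹ * b⁻¹ = q := by
    intro q hq
    let f : Q → Q := fun x => ⟨(x : S) * b * (x : S)⁻¹ * b⁻¹, by
      have := Q.mul_mem x.2 (hqb _ (Q.inv_mem x.2))
      rwa [← mul_assoc, ← mul_assoc] at this⟩
    have hf : Function.Injective f := by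
      intro x y e
      have e' : (x : S) * b * (x : S)⁻¹ = (y : S) * b * (y : S)⁻¹ :=
        mul_right_cancel (congrArg Subtype.val e)
      have h := hqfix ((y : S)⁻¹ * x) (Q.mul_mem (Q.inv_mem y.2) x.2) (by
        calc b * ((y : S)⁻¹ * x) = (y : S)⁻¹ * ((y : S) * b * (y : S)⁻¹) * x := by group
          _ = (y : S)⁻¹ * ((x : S) * b * (x : S)⁻¹) * x := by rw [e']
          _ = (y : S)⁻¹ * x * b := by group)
      exact Subtype.ext (inv_mul_eq_one.1 h).symm
    obtain ⟨x, hx⟩ := (Finite.injective_iff_surjective.1 hf) ⟨q, hq⟩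
    exact ⟨x, x.2, congrArg Subtype.val hx⟩
  have hQN' : Q ≤ N := fun q hq => by
    obtain ⟨q', hq', rfl⟩ := hsurj q hq
    exact hQN q' hq'
  have hQR : Q ≤ R := fun q hq => by
    obtain ⟨q', hq', rfl⟩ := hsurj q hq
    exact Subgroup.commutator_mem_commutator (hQN' hq') hbB
  have hRB : B ≤ Subgroup.normalizer (R : Set S) := by
    intro c hc
    rw [Subgroup.mem_normalizer_iff_map_conj_eq, hRd, Subgroup.map_commutator,
      Subgroup.mem_normalizer_iff_map_conj_eq.1 (hBN hc),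
      Subgroup.mem_normalizer_iff_map_conj_eq.1 (Subgroup.le_normalizer hc)]
  have hRR : ⁅R, B⁆ = R := Coprime.commutator_commutator_eq hBN
    (by rw [hB]; exact hNcop.symm) (Or.inr inferInstance)
  have hRcop : (Nat.card R).Coprime 3 := hNcop.coprime_dvd_left (Subgroup.card_dvd_of_le hRN)
  -- the decomposition
  haveI : Module.Finite (ZMod 3) E := Module.Finite.of_finite
  have hcard : (Nat.card R : ZMod 3) ≠ 0 := fun h => by
    have h1 := (ZMod.natCast_eq_zero_iff _ 3).1 h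
    exact absurd (Nat.eq_one_of_dvd_coprimes hRcop h1 dvd_rfl) (by norm_num)
  letI : Fintype R := Fintype.ofFinite R
  let e : Module.End (ZMod 3) E := ∑ r : R, ρ (r : S)
  have he_apply : ∀ w, e w = ∑ r : R, ρ (r : S) w := fun w => LinearMap.sum_apply _ _ _
  have hre : ∀ r ∈ R, ∀ w, ρ r (e w) = e w := fun r hr w => by
    rw [he_apply, map_sum]
    exact Fintype.sum_equiv (Equiv.mulLeft (⟨r, hr⟩ : R)) _ _ fun a => (JordanThree.rho_mul_apply r a w).symm
  have her : ∀ r ∈ R, ∀ w, e (ρ r w) = e w := fun r hr w => by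
    rw [he_apply, he_apply]
    exact Fintype.sum_equiv (Equiv.mulRight (⟨r, hr⟩ : R)) _ _ fun a => (JordanThree.rho_mul_apply (a : S) r w).symm
  have hefix : ∀ w, (∀ r ∈ R, ρ r w = w) → e w = (Nat.card R : ZMod 3) • w := fun w hw => by
    rw [he_apply, Finset.sum_congr rfl fun (r : R) _ => hw r r.2]
    simp [Nat.cast_smul_eq_nsmul, Nat.card_eq_fintype_card]
  set F₀ := LinearMap.ker e with hF₀
  set F₁ := LinearMap.range e with hF₁
  have hF1fix : ∀ w ∈ F₁, ∀ r ∈ R, ρ r w = w := by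
    rintro _ ⟨v, rfl⟩ r hr; exact hre r hr v
  have hF1of : ∀ w, (∀ r ∈ R, ρ r w = w) → w ∈ F₁ := fun w hw =>
    ⟨(Nat.card R : ZMod 3)⁻¹ • w, by rw [map_smul, hefix w hw, smul_smul, inv_mul_cancel₀ hcard, one_smul]⟩
  have hinf : F₀ ⊓ F₁ = ⊥ := (Submodule.eq_bot_iff _).2 fun w hw => by
    have h := hefix w (hF1fix w hw.2)
    rw [LinearMap.mem_ker.1 hw.1] at h
    exact (smul_eq_zero.1 h.symm).resolve_left hcard
  have hsup : F₀ ⊔ F₁ = ⊤ := (Submodule.eq_top_iff').2 fun w => by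
    have h1 : w - (Nat.card R : ZMod 3)⁻¹ • e w ∈ F₀ := LinearMap.mem_ker.2 (by
      rw [map_sub, map_smul, hefix _ (fun r hr => hre r hr w), smul_smul, inv_mul_cancel₀ hcard, one_smul,
        sub_self])
    have h2 : (Nat.card R : ZMod 3)⁻¹ • e w ∈ F₁ := F₁.smul_mem _ (LinearMap.mem_range_self e w)
    exact Submodule.mem_sup.2 ⟨_, h1, _, h2, sub_add_cancel _ _⟩
  set H₀ := R ⊔ B with hH₀
  have hnormR : ∀ g ∈ H₀, ∀ r, r ∈ R ↔ g * r * g⁻¹ ∈ R := fun g hg r =>
    Subgroup.mem_normalizer_iff.1 ((sup_le Subgroup.le_normalizer hRB) hg) r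
  have hF0inv : ∀ g ∈ H₀, ∀ w ∈ F₀, ρ g w ∈ F₀ := by
    intro g hg w hw
    rw [hF₀, LinearMap.mem_ker] at hw ⊢
    rw [he_apply]
    let eq : R ≃ R :=
      { toFun := fun r => ⟨g⁻¹ * r * g, (hnormR g hg _).2 (by simp [mul_assoc])⟩
        invFun := fun r => ⟨g * r * g⁻¹, (hnormR g hg _).1 r.2⟩
        left_inv := fun r => Subtype.ext (by simp [mul_assoc])
        right_inv := fun r => Subtype.ext (by simp [mul_assoc]) }
    calc ∑ r : R, ρ (r : S) (ρ g w) = ∑ r : R, ρ g (ρ (eq r : S) w) := by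
          refine Finset.sum_congr rfl fun r _ => ?_
          rw [← JordanThree.rho_mul_apply, ← JordanThree.rho_mul_apply]
          congr 2
          show (r : S) * g = g * (g⁻¹ * r * g)
          group
      _ = ρ g (∑ r : R, ρ (r : S) w) := by rw [map_sum, Equiv.sum_comp eq (fun r : R => ρ g (ρ (r : S) w))]
      _ = 0 := by rw [← he_apply, hw, map_zero]
  have hRH : R ≤ H₀ := le_sup_left
  have hbH : b ∈ H₀ := Subgroup.mem_sup_right hbB
  let R' := R.subgroupOf H₀
  let Q' := Q.subgroupOf H₀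
  let b' : H₀ := ⟨b, hbH⟩
  let ρ' : H₀ →* Module.End (ZMod 3) F₀ :=
    { toFun := fun g => (ρ (g : S)).restrict (hF0inv g g.2)
      map_one' := LinearMap.ext fun w => Subtype.ext (one_map_apply ρ w.1)
      map_mul' := fun g h => LinearMap.ext fun w => Subtype.ext (JordanThree.rho_mul_apply (g : S) h w.1) }
  have hρ' : ∀ (g : H₀) (w : F₀), ((ρ' g w : F₀) : E) = ρ (g : S) w := fun g w => rfl
  haveI hR'n : R'.Normal := ⟨fun r hr g => (hnormR g g.2 r).1 hr⟩
  have hgen : R' ⊔ Subgroup.zpowers b' = ⊤ := by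
    rw [eq_top_iff]
    rintro ⟨g, hg⟩ -
    have hle : H₀ ≤ (R' ⊔ Subgroup.zpowers b').map H₀.subtype := by
      refine sup_le (fun r hr => ⟨⟨r, hRH hr⟩, Subgroup.mem_sup_left hr, rfl⟩) ?_
      rw [← hb, Subgroup.zpowers_le]
      exact ⟨b', Subgroup.mem_sup_right (Subgroup.mem_zpowers _), rfl⟩
    obtain ⟨g', hg', e⟩ := hle hg
    rwa [show g' = ⟨g, hg⟩ from Subtype.ext e] at hg'
  have hcomm' : ⁅R', Subgroup.zpowers b'⁆ = R' := by
    apply Subgroup.map_injective H₀.subtype_injective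
    rw [Subgroup.map_commutator, Subgroup.map_subgroupOf_eq_of_le hRH, MonoidHom.map_zpowers]
    show ⁅R, Subgroup.zpowers b⁆ = R
    rw [hb, hRR]
  have hkill : ∀ K : Subgroup H₀, K.Normal → b' ∈ K → R' ≤ K := by
    intro K hK hbK
    rw [← hcomm']
    refine Subgroup.commutator_le.2 fun r _ c hc => ?_
    have hcK : c ∈ K := Subgroup.zpowers_le.2 hbK hc
    rw [commutatorElement_def]
    exact K.mul_mem (hK.conj_mem c hcK r) (K.inv_mem hcK)
  have hker1 : ∀ g ∈ R, (∀ w ∈ F₀, ρ g w = w) → g = 1 := fun g hg h =>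
    (injective_iff_map_eq_one ρ).1 hfaith g (LinearMap.ext fun w => by
      obtain ⟨u, hu, v, hv, rfl⟩ := Submodule.mem_sup.1 (hsup ▸ Submodule.mem_top : w ∈ F₀ ⊔ F₁)
      rw [map_add, h u hu, hF1fix v hv g hg]; rfl)
  have hQne : ∃ q ∈ Q, q ≠ 1 := by
    haveI : Nontrivial Q := Finite.one_lt_card_iff_nontrivial.1 (by rw [hQ4]; norm_num)
    obtain ⟨q, hq⟩ := exists_ne (1 : Q)
    exact ⟨q, q.2, fun h => hq (Subtype.ext h)⟩
  have hinj : Function.Injective ρ' := by
    refine (injective_iff_map_eq_one ρ').2 fun g hg => ?_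
    by_contra hg1
    have hgR : g ∉ R' := fun h => hg1 (Subtype.ext (hker1 g h fun w hw =>
      congrArg Subtype.val (LinearMap.congr_fun hg ⟨w, hw⟩)))
    -- otherwise `b` is trivial on `F₀`
    have hbk : b' ∈ ρ'.ker := by
      obtain ⟨r, hr, c, hc, rfl⟩ : ∃ r ∈ R', ∃ c ∈ Subgroup.zpowers b', r * c = g :=
        Subgroup.mem_sup_of_normal_left.1 (hgen ▸ Subgroup.mem_top g)
      obtain ⟨n, rfl⟩ := (isOfFinOrder_of_finite b').mem_powers_iff_mem_zpowers.2 hc
      have hb'3 : b' ^ 3 = 1 := Subtype.ext hb3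
      have hn : ¬ (3 ∣ n) := fun ⟨m, hm⟩ => hgR (by
        show r * b' ^ n ∈ R'
        rw [hm, pow_mul, hb'3, one_pow, mul_one]; exact hr)
      have h1 : ρ' (b' ^ n) = ρ' r⁻¹ := by
        calc ρ' (b' ^ n) = ρ' r⁻¹ * ρ' (r * b' ^ n) := by rw [← map_mul, inv_mul_cancel_left]
          _ = ρ' r⁻¹ := by
            rw [show ρ' (r * b' ^ n) = 1 from hg, mul_one]
      have ho1 : orderOf (ρ' (b' ^ n)) ∣ 3 := orderOf_dvd_of_pow_eq_one (by
        rw [← map_pow, ← pow_mul, mul_comm, pow_mul, hb'3, one_pow, map_one])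
      have ho2 : orderOf (ρ' (b' ^ n)) ∣ Nat.card R := by
        rw [h1]
        exact (orderOf_map_dvd ρ' r⁻¹).trans ((Subgroup.orderOf_dvd_natCard R' (R'.inv_mem hr)).trans
          (Nat.card_congr (Subgroup.subgroupOfEquivOfLe hRH).toEquiv).dvd)
      have hone : ρ' (b' ^ n) = 1 := orderOf_eq_one_iff.1 (Nat.eq_one_of_dvd_coprimes hRcop ho2 ho1)
      have hcop : n.Coprime (orderOf b') := by
        refine Nat.Coprime.coprime_dvd_right (orderOf_dvd_of_pow_eq_one hb'3) ?_
        exact (Nat.prime_three.coprime_iff_not_dvd.2 hn).symm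
      obtain ⟨m, hm⟩ := exists_pow_eq_self_of_coprime hcop
      rw [MonoidHom.mem_ker, ← hm, map_pow, hone, one_pow]
    have hle := hkill _ inferInstance hbk
    obtain ⟨q, hq, hq1⟩ := hQne
    exact hq1 (hker1 q (hQR hq) fun w hw => congrArg Subtype.val
      (LinearMap.congr_fun (MonoidHom.mem_ker.1 (hle (show (⟨q, hRH (hQR hq)⟩ : H₀) ∈ R' from hQR hq))) ⟨w, hw⟩))
  -- rank of `b - 1`
  haveI : Module.Finite (ZMod 3) E₀ := Module.Finite.of_finite
  have hN3 : ∀ w, (ρ b - 1) ((ρ b - 1) ((ρ b - 1) w)) = 0 := fun w => by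
    have hc : (ρ b - 1) ^ 3 = 0 := by
      have e : (ρ b - 1) ^ 3 = ρ b ^ 3 - 1 - (3 : ZMod 3) • (ρ b * ρ b - ρ b) := by
        rw [show (3 : ZMod 3) = 1 + 1 + 1 by norm_num, add_smul, add_smul, one_smul]
        simp only [pow_succ, pow_zero, one_mul, mul_sub, sub_mul, mul_one]
        abel
      rw [e, show (3 : ZMod 3) = 0 from rfl, zero_smul, sub_zero, ← map_pow, hb3, map_one, sub_self]
    exact LinearMap.congr_fun hc w
  have hrange : Module.finrank (ZMod 3) (LinearMap.range (ρ b - 1)) ≤ 2 := by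
    have hle : LinearMap.range (ρ b - 1) ≤ E₀.map (ρ b - 1) := by
      rintro _ ⟨w, rfl⟩
      obtain ⟨u, hu, v, hv, rfl⟩ := Submodule.mem_sup.1 (hE01' ▸ Submodule.mem_top : w ∈ E₀ ⊔ E₁)
      refine ⟨u, hu, ?_⟩
      rw [map_add]
      have : (ρ b - 1) v = 0 := by rw [LinearMap.sub_apply, Module.End.one_apply, hE1 v hv, sub_self]
      rw [this, add_zero]
    have hmap : E₀.map (ρ b - 1) ≤ E₀ := by
      rintro _ ⟨u, hu, rfl⟩; exact E₀.sub_mem (hE0inv u hu) hu
    have h3 : Module.finrank (ZMod 3) E₀ = 3 := by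
      have h := Module.natCard_eq_pow_finrank (K := ZMod 3) (V := E₀)
      rw [hE0, Nat.card_zmod] at h
      exact (Nat.pow_right_injective (le_refl 2 |>.trans (by norm_num : 2 ≤ 3)) (h.symm.trans (by norm_num)))
    have hlt : E₀.map (ρ b - 1) < E₀ := lt_of_le_of_ne hmap fun h => by
      have hz : ∀ u ∈ E₀, u = 0 := fun u hu => by
        rw [← h] at hu
        obtain ⟨u₁, hu₁, rfl⟩ := hu
        rw [← h] at hu₁
        obtain ⟨u₂, hu₂, rfl⟩ := hu₁
        rw [← h] at hu₂
        obtain ⟨u₃, -, rfl⟩ := hu₂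
        exact hN3 u₃
      rw [(Submodule.eq_bot_iff _).2 hz, finrank_bot] at h3
      exact absurd h3 (by norm_num)
    have := Submodule.finrank_lt_finrank_of_lt hlt
    have := Submodule.finrank_mono hle
    omega
  have hrk' : Module.finrank (ZMod 3) (LinearMap.range (ρ' b' - 1)) ≤ 2 := by
    refine le_trans (LinearMap.finrank_le_finrank_of_injective (f := LinearMap.codRestrict
      (LinearMap.range (ρ b - 1)) (F₀.subtype.comp (LinearMap.range (ρ' b' - 1)).subtype) (fun w => by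
        obtain ⟨u, hu⟩ := w.2
        exact ⟨u.1, by
          show (ρ b - 1) (u : E) = ((w : F₀) : E)
          rw [← hu]; rfl⟩)) ?_) hrange
    intro u v e
    exact Subtype.ext (Subtype.ext (congrArg (fun x : LinearMap.range (ρ b - 1) => (x : E)) e))
  have hQ'card : Nat.card Q' = 4 :=
    (Nat.card_congr (Subgroup.subgroupOfEquivOfLe (hQR.trans hRH)).toEquiv).trans hQ4
  -- a quadratically moved invariant subspace is fixed by `Q`
  have hprod : ∀ q ∈ Q, q ≠ 1 → q * (b * q * b⁻¹) = b * (b * q * b⁻¹) * b⁻¹ := by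
    intro q hq hq1
    set c := b * q * b⁻¹ with hc
    set d := b * c * b⁻¹ with hd
    have hcQ : c ∈ Q := hqb q hq
    have hdQ : d ∈ Q := hqb c hcQ
    have hc1 : c ≠ 1 := fun e => hq1 (by calc q = b⁻¹ * c * b := by rw [hc]; group
      _ = 1 := by rw [e]; group)
    have hd1 : d ≠ 1 := fun e => hc1 (by calc c = b⁻¹ * d * b := by rw [hd]; group
      _ = 1 := by rw [e]; group)
    have hcq : c ≠ q := fun e => hq1 (hqfix q hq (by
      calc b * q = c * b := by rw [hc]; group
        _ = q * b := by rw [e]))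
    have hdc : d ≠ c := fun e => hc1 (hqfix c hcQ (by
      calc b * c = d * b := by rw [hd]; group
        _ = c * b := by rw [e]))
    have hdq : d ≠ q := fun e => hdc (by
      have : b * d * b⁻¹ = c := by rw [e, hc]
      calc d = (b ^ 3)⁻¹ * d * b ^ 3 := by rw [hb3]; simp
        _ = (b ^ 3)⁻¹ * (b * c * b⁻¹) * b ^ 3 := by rw [hd]
        _ = (b ^ 3)⁻¹ * (b * (b * q * b⁻¹) * b⁻¹) * b ^ 3 := by rw [hc]
        _ = b⁻¹ * q * b := by simp only [pow_succ, pow_zero, one_mul, mul_inv_rev, mul_assoc]; group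
        _ = b⁻¹ * d * b := by rw [e]
        _ = c := by rw [hd]; group)
    by_contra hne
    have hp1 : q * c ≠ 1 := fun e => hcq (by
      rw [← inv_eq_of_mul_eq_one_right e, inv_eq_of_mul_eq_one_right (hqsq q hq)])
    have hp2 : q * c ≠ q := fun e => hc1 (mul_left_cancel (e.trans (mul_one _).symm))
    have hp3 : q * c ≠ c := fun e => hq1 (mul_right_cancel (e.trans (one_mul _).symm))
    have hS : ({1, q, c, q * c, d} : Finset S).card = 5 := by
      rw [Finset.card_insert_of_notMem (by simp [Ne.symm hq1, Ne.symm hc1, Ne.symm hp1, Ne.symm hd1]),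
        Finset.card_insert_of_notMem (by simp [Ne.symm hcq, Ne.symm hp2, Ne.symm hdq]),
        Finset.card_insert_of_notMem (by simp [Ne.symm hp3, Ne.symm hdc]),
        Finset.card_insert_of_notMem (by simp [hne]), Finset.card_singleton]
    have hsub : (({1, q, c, q * c, d} : Finset S) : Set S) ⊆ (Q : Set S) := by
      intro x hx
      simp only [Finset.coe_insert, Finset.coe_singleton, Set.mem_insert_iff, Set.mem_singleton_iff] at hx
      rcases hx with rfl | rfl | rfl | rfl | rfl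
      exacts [Q.one_mem, hq, hcQ, Q.mul_mem hq hcQ, hdQ]
    have := Set.ncard_le_ncard hsub (Set.toFinite _)
    rw [Set.ncard_coe_finset, hS, ← Nat.card_coe_set_eq] at this
    simp only [SetLike.coe_sort_coe] at this
    omega
  have hrank2 : ∀ M : Submodule (ZMod 3) E, (∀ w ∈ M, ρ b w ∈ M) → (∀ q ∈ Q, ∀ w ∈ M, ρ q w ∈ M) →
      (∃ q ∈ Q, ∃ w ∈ M, ρ q w ≠ w) → (∃ w ∈ M, (ρ b - 1) ((ρ b - 1) w) ≠ 0) ∧
        M.map (ρ b - 1) = LinearMap.range (ρ b - 1) := by
    intro M hbM hqM hmov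
    have hex : ∃ w ∈ M, (ρ b - 1) ((ρ b - 1) w) ≠ 0 := by
      by_contra hall
      push Not at hall
      obtain ⟨q, hq, w, hw, hne⟩ := hmov
      have hq1 : q ≠ 1 := fun e => hne (by rw [e, one_map_apply])
      refine hne (quad_trivial ρ (hqsq q hq) (hprod q hq hq1) ((congrArg Subtype.val (hQ.1.is_comm.comm ⟨b * q * b⁻¹, hqb q hq⟩ ⟨q, hq⟩)).trans (hprod q hq hq1)) hbM (fun v hv => ?_) (hqM q hq)
        (fun v hv => hall v hv) w hw)
      have e : b⁻¹ = b * b := inv_eq_of_mul_eq_one_right (by rw [← hb3, pow_succ', pow_two])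
      rw [e, JordanThree.rho_mul_apply]
      exact hbM _ (hbM v hv)
    refine ⟨hex, Submodule.eq_of_le_of_finrank_le LinearMap.map_le_range (hrange.trans ?_)⟩
    obtain ⟨w, hw, hw2⟩ := hex
    have hli : LinearIndependent (ZMod 3) ![(⟨(ρ b - 1) w, Submodule.mem_map_of_mem hw⟩ : M.map (ρ b - 1)),
        ⟨(ρ b - 1) ((ρ b - 1) w), Submodule.mem_map_of_mem (M.sub_mem (hbM w hw) hw)⟩] := by
      rw [LinearIndependent.pair_iff]
      intro s t hst
      have hst' : s • (ρ b - 1) w + t • (ρ b - 1) ((ρ b - 1) w) = 0 := congrArg Subtype.val hst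
      have e := congrArg (fun x => (ρ b - 1 : Module.End (ZMod 3) E) x) hst'
      rw [map_add, map_smul, map_smul, hN3, smul_zero, add_zero, map_zero] at e
      have hs := (smul_eq_zero.1 e).resolve_right hw2
      rw [hs, zero_smul, zero_add] at hst'
      exact ⟨hs, (smul_eq_zero.1 hst').resolve_right hw2⟩
    have := hli.fintype_card_le_finrank
    rwa [Fintype.card_fin] at this
  have hQF0 : ∀ q ∈ Q, ∀ w ∈ F₀, ρ q w ∈ F₀ := fun q hq => hF0inv q (hRH (hQR hq))
  have hQmov : ∃ q ∈ Q, ∃ w ∈ F₀, ρ q w ≠ w := by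
    obtain ⟨q, hq, hq1⟩ := hQne
    by_contra hno
    push Not at hno
    exact hq1 (hker1 q (hQR hq) (hno q hq))
  have hsq' : (ρ' b' - 1) * (ρ' b' - 1) ≠ 0 := fun h => by
    obtain ⟨w, hw, hw2⟩ := (hrank2 F₀ (hF0inv b hbH) hQF0 hQmov).1
    exact hw2 (congrArg Subtype.val (LinearMap.congr_fun h ⟨w, hw⟩))
  -- irreducibility
  have hirr' : ∀ M : Submodule (ZMod 3) E, M ≤ F₀ → (∀ g ∈ H₀, ∀ w ∈ M, ρ g w ∈ M) → M = ⊥ ∨ M = F₀ := by
    intro M hMF hM
    by_cases hmv : ∃ q ∈ Q, ∃ w ∈ M, ρ q w ≠ w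
    · right
      have hmap := (hrank2 M (hM b hbH) (fun q hq => hM q (hRH (hQR hq))) hmv).2
      let K : Subgroup H₀ :=
        { carrier := {g | ∀ w ∈ F₀, ρ (g : S) w - w ∈ M}
          one_mem' := fun w _ => by
            show ρ (1 : S) w - w ∈ M
            rw [one_map_apply, sub_self]; exact M.zero_mem
          mul_mem' := fun {g h} hg hh w hw => by
            show ρ ((g : S) * h) w - w ∈ M
            rw [JordanThree.rho_mul_apply, ← sub_add_sub_cancel _ (ρ (h : S) w) w]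
            exact M.add_mem (hg _ (hF0inv h h.2 w hw)) (hh w hw)
          inv_mem' := fun {g} hg w hw => by
            have h := hg _ (hF0inv (g : S)⁻¹ (H₀.inv_mem g.2) w hw)
            rw [JordanThree.rho_apply_inv] at h
            rw [← neg_sub]
            exact M.neg_mem h }
      have hKn : K.Normal := ⟨fun k hk g w hw => by
        show ρ ((g : S) * k * (g : S)⁻¹) w - w ∈ M
        rw [JordanThree.rho_mul_apply, JordanThree.rho_mul_apply]
        have h := hM (g : S) g.2 _ (hk _ (hF0inv (g : S)⁻¹ (H₀.inv_mem g.2) w hw))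
        rwa [map_sub, JordanThree.rho_apply_inv] at h⟩
      have hbK : b' ∈ K := fun w hw => by
        have : (ρ b - 1) w ∈ M.map (ρ b - 1) := hmap ▸ LinearMap.mem_range_self _ w
        obtain ⟨u, hu, e'⟩ := this
        show ρ b w - w ∈ M
        rw [show ρ b w - w = (ρ b - 1) w from rfl, ← e']
        exact M.sub_mem (hM b hbH u hu) hu
      refine le_antisymm hMF fun w hw => ?_
      have h : ∑ r : R, (ρ (r : S) w - w) ∈ M := M.sum_mem fun r _ =>
        hkill K hKn hbK (show (⟨r, hRH r.2⟩ : H₀) ∈ R' from r.2) w hw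
      rw [Finset.sum_sub_distrib, ← he_apply, LinearMap.mem_ker.1 hw, zero_sub, Finset.sum_const,
        Finset.card_univ, ← Nat.card_eq_fintype_card, ← Nat.cast_smul_eq_nsmul (ZMod 3)] at h
      have := M.smul_mem (Nat.card R : ZMod 3)⁻¹ (M.neg_mem h)
      rwa [neg_neg, smul_smul, inv_mul_cancel₀ hcard, one_smul] at this
    · left
      push Not at hmv
      -- `b` is trivial on the vectors fixed by `Q`
      letI : Fintype Q := Fintype.ofFinite Q
      let f : Module.End (ZMod 3) E := ∑ q : Q, ρ (q : S)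
      have hf_apply : ∀ w, f w = ∑ q : Q, ρ (q : S) w := fun w => LinearMap.sum_apply _ _ _
      have hfb : ∀ w, f (ρ b w) = ρ b (f w) := by
        intro w
        rw [hf_apply, hf_apply, map_sum]
        let eq : Q ≃ Q := Equiv.ofBijective (fun q => ⟨b * q * b⁻¹, hqb q q.2⟩)
          ((Finite.injective_iff_bijective).1 fun x y e => Subtype.ext
            (mul_left_cancel (mul_right_cancel (congrArg Subtype.val e))))
        refine (Fintype.sum_equiv eq _ _ fun q => ?_).symm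
        show ρ b (ρ (q : S) w) = ρ (b * q * b⁻¹) (ρ b w)
        rw [← JordanThree.rho_mul_apply, ← JordanThree.rho_mul_apply, inv_mul_cancel_right]
      have hfq : ∀ q ∈ Q, ∀ w, f (ρ q w) = f w := fun q hq w => by
        rw [hf_apply, hf_apply]
        exact Fintype.sum_equiv (Equiv.mulRight (⟨q, hq⟩ : Q)) _ _ fun a =>
          (JordanThree.rho_mul_apply (a : S) q w).symm
      have hffix : ∀ w, (∀ q ∈ Q, ρ q w = w) → f w = w := fun w hw => by
        rw [hf_apply, Finset.sum_congr rfl fun (q : Q) _ => hw q q.2, Finset.sum_const, Finset.card_univ,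
          ← Nat.card_eq_fintype_card, hQ4, ← Nat.cast_smul_eq_nsmul (ZMod 3),
          show ((4 : ℕ) : ZMod 3) = 1 from rfl, one_smul]
      set U := F₀ ⊓ LinearMap.ker f
      have hUb : ∀ w ∈ U, ρ b w ∈ U := fun w hw => ⟨hF0inv b hbH w hw.1, LinearMap.mem_ker.2 (by
        rw [hfb, LinearMap.mem_ker.1 hw.2, map_zero])⟩
      have hUq : ∀ q ∈ Q, ∀ w ∈ U, ρ q w ∈ U := fun q hq w hw => ⟨hQF0 q hq w hw.1,
        LinearMap.mem_ker.2 (by rw [hfq q hq, LinearMap.mem_ker.1 hw.2])⟩
      have hUmov : ∃ q ∈ Q, ∃ w ∈ U, ρ q w ≠ w := by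
        obtain ⟨q, hq, w, hw, hne⟩ := hQmov
        refine ⟨q, hq, ρ q w - w, ⟨F₀.sub_mem (hQF0 q hq w hw) hw, LinearMap.mem_ker.2 (by
          rw [map_sub, hfq q hq, sub_self])⟩, fun e => hne ?_⟩
        rw [map_sub, ← JordanThree.rho_mul_apply, hqsq q hq, one_map_apply] at e
        have h2 : (2 : ZMod 3) • (ρ q w - w) = 0 := by
          rw [two_smul]; nth_rewrite 2 [← e]; abel
        exact sub_eq_zero.1 ((smul_eq_zero.1 h2).resolve_left JordanThree.two_ne)
      have hUmap := (hrank2 U hUb hUq hUmov).2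
      have hbM : ∀ w ∈ M, ρ b w = w := fun w hw => by
        obtain ⟨u, hu, e'⟩ : (ρ b - 1) w ∈ U.map (ρ b - 1) := hUmap ▸ LinearMap.mem_range_self _ w
        have hm : ρ b w - w ∈ M := M.sub_mem (hM b hbH w hw) hw
        have h1 : f (ρ b w - w) = ρ b w - w := hffix _ (fun q hq => hmv q hq _ hm)
        have h2 : f (ρ b w - w) = 0 := by
          rw [show ρ b w - w = (ρ b - 1) w from rfl, ← e', LinearMap.sub_apply, Module.End.one_apply, map_sub,
            hfb, LinearMap.mem_ker.1 hu.2, map_zero, sub_zero]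
        exact sub_eq_zero.1 (h1.symm.trans h2)
      let K : Subgroup H₀ :=
        { carrier := {g | ∀ w ∈ M, ρ (g : S) w = w}
          one_mem' := fun w _ => one_map_apply ρ w
          mul_mem' := fun {g h} hg hh w hw => by
            show ρ ((g : S) * h) w = w
            rw [JordanThree.rho_mul_apply, hh w hw, hg w hw]
          inv_mem' := fun {g} hg w hw => by
            show ρ (g : S)⁻¹ w = w
            conv_lhs => rw [← hg w hw]
            exact JordanThree.rho_inv_apply _ _ }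
      have hKn : K.Normal := ⟨fun k hk g w hw => by
        show ρ ((g : S) * k * (g : S)⁻¹) w = w
        rw [JordanThree.rho_mul_apply, JordanThree.rho_mul_apply,
          hk _ (hM (g : S)⁻¹ (H₀.inv_mem g.2) w hw), JordanThree.rho_apply_inv]⟩
      refine (Submodule.eq_bot_iff _).2 fun w hw => ?_
      have hfix : ∀ r ∈ R, ρ r w = w := fun r hr =>
        hkill K hKn (fun v hv => hbM v hv) (show (⟨r, hRH hr⟩ : H₀) ∈ R' from hr) w hw
      exact (Submodule.eq_bot_iff _).1 hinf w ⟨hMF hw, hF1of w hfix⟩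
  have hsetup : JordanThree.Setup ρ' R' b' Q' := by
    refine ⟨hinj, fun M hM => ?_, hR'n, Group.isSolvable_of_isSolvable_injective R'.subtype_injective,
      (Nat.card_congr (Subgroup.subgroupOfEquivOfLe hRH).toEquiv) ▸ hRcop, Subtype.ext hb3, hgen, hcomm',
      hrk', hsq', fun q hq => hQR hq, hQ'card, fun q hq => Subtype.ext (hqsq _ hq),
      fun q hq => hqb _ hq, fun q hq h => Subtype.ext (hqfix _ hq (congrArg Subtype.val h))⟩
    rcases hirr' (M.map F₀.subtype) (Submodule.map_subtype_le _ _) (by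
      rintro g hg _ ⟨w, hw, rfl⟩
      exact ⟨ρ' ⟨g, hg⟩ w, hM _ w hw, rfl⟩) with h | h
    · left
      exact Submodule.map_injective_of_injective F₀.subtype_injective (by rw [h, Submodule.map_bot])
    · right
      exact Submodule.map_injective_of_injective F₀.subtype_injective
        (by rw [h, Submodule.map_top, Submodule.range_subtype])
  let eR : ↥R' ≃* ↥R := Subgroup.subgroupOfEquivOfLe hRH
  refine ⟨?_, F₀, F₁, hinf, hsup, fun r hr v hv => hF1fix v hv r hr, hF0inv,
    fun g hg hfixg => ?_, hirr'⟩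
  · rcases JordanThree.core hsetup with ⟨he', hc⟩ | ⟨he', hc, A, hA, hAe, hA8⟩
    · refine Or.inl ⟨⟨⟨⟨fun x y => ?_⟩⟩, fun x hx => ?_⟩, (Nat.card_congr eR.toEquiv).symm.trans hc⟩
      · have := he'.1.is_comm.comm (eR.symm x) (eR.symm y)
        rw [← map_mul, ← map_mul] at this
        exact eR.symm.injective this
      · exact congrArg Subtype.val (he'.2 ⟨x, hRH hx⟩ hx)
    · refine Or.inr ⟨Classification.isExtraspecial_of_mulEquiv eR he',
        (Nat.card_congr eR.toEquiv).symm.trans hc, A.map H₀.subtype, ?_, ?_, ?_⟩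
      · rintro _ ⟨a, ha, rfl⟩; exact hA ha
      · refine ⟨⟨⟨?_⟩⟩, ?_⟩
        · rintro ⟨_, a, ha, rfl⟩ ⟨_, c, hc', rfl⟩
          exact Subtype.ext (congrArg (fun v : A => ((v : H₀) : S)) (hAe.1.is_comm.comm ⟨a, ha⟩ ⟨c, hc'⟩))
        · rintro _ ⟨a, ha, rfl⟩
          exact congrArg (fun v : H₀ => (v : S)) (hAe.2 a ha)
      · rw [Subgroup.card_map_of_injective H₀.subtype_injective, hA8]
  · exact congrArg Subtype.val (hinj (a₁ := ⟨g, hg⟩) (a₂ := 1) (by
      rw [map_one]; exact LinearMap.ext fun w => Subtype.ext (hfixg w w.2)))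

end Cfsg.Agent.S4415
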