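import Cfsg.Statements.S4416
import Cfsg.Agent.Lib.PGroups.ExtraTwoIso
import Cfsg.Agent.S0095

set_option autoImplicit false
open Cfsg

namespace Cfsg.Agent.S4416

open Cfsg.Agent.Lib.ThreeTransp
open Cfsg.Agent.Lib.QuadFin (zeroCount_plus_two zeroCount_minus_two)
open Cfsg.Agent.Lib.PGroups.ExtraTwoIso

theorem count_eq {E : Type*} [Group E] [Finite E] (hE : Cfsg.IsExtraspecial 2 E) {m : ℕ} (hm : 1 ≤ m)
    (hcard : Nat.card E = 2 ^ (2 * m + 1)) :
    (Nat.card {x : E // x ^ 2 = 1} = 2 ^ (2 * m) + 2 ^ m ∧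
      ∃ π : E → (Fin m ⊕ Fin m → ZMod 2), (∀ a b, π (a * b) = π a + π b) ∧
        (∀ a, π a = 0 ↔ a ∈ Subgroup.center E) ∧ Function.Surjective π ∧
        ∀ a, Cfsg.quadFormPlus m (ZMod 2) (π a) = Lib.LocalEven2.PlusModel.sig (a * a)) ∨
    (Nat.card {x : E // x ^ 2 = 1} = 2 ^ (2 * m) - 2 ^ m ∧
      ∃ π : E → ((Fin (m - 1) ⊕ Fin (m - 1)) ⊕ Fin 2 → ZMod 2), (∀ a b, π (a * b) = π a + π b) ∧
        (∀ a, π a = 0 ↔ a ∈ Subgroup.center E) ∧ Function.Surjective π ∧
        ∀ a, Cfsg.quadFormMinus (m - 1) (ZMod 2) 1 1 (π a) = Lib.LocalEven2.PlusModel.sig (a * a)) := by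
  obtain ⟨k, rfl⟩ : ∃ k, m = k + 1 := ⟨m - 1, by omega⟩
  rcases ExtraOut.exists_coords hE hm hcard with ⟨π, hπ, h0, hs, hf⟩ | ⟨π, hπ, h0, hs, hf⟩
  · refine Or.inl ⟨?_, π, hπ, h0, hs, hf⟩
    rw [card_sq_eq_one π hE _ hπ h0 hs hf, zeroCount_plus_two hm, show 2 * (k + 1) - 1 = 2 * k + 1 by omega,
      show k + 1 - 1 = k by omega]
    ring
  · refine Or.inr ⟨?_, π, hπ, h0, hs, hf⟩
    have h := zeroCount_minus_two k
    rw [card_sq_eq_one π hE _ hπ h0 hs hf, show k + 1 - 1 = k by omega]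
    have e1 : (2 : ℕ) ^ (2 * (k + 1)) = 2 * 2 ^ (2 * k + 1) := by ring
    have e2 : (2 : ℕ) ^ (k + 1) = 2 * 2 ^ k := by ring
    omega


/-- Classification of extraspecial 2-groups in intrinsic form. An extraspecial 2-group has order 2^(2m+1) for some m ≥ 1, and the number of its elements squaring to the identity is either 2^(2m) + 2^m or 2^(2m) − 2^m; two extraspecial 2-groups of the same order with the same number of such elements are isomorphic. (The two cases are the central products of m dihedral groups of order 8, and of m − 1 dihedral groups with one quaternion group.) -/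
theorem result (E : Type*) [Group E] [Finite E] (hE : Cfsg.IsExtraspecial 2 E) :
    (∃ m : ℕ, 1 ≤ m ∧ Nat.card E = 2 ^ (2 * m + 1) ∧
      (Nat.card {x : E // x ^ 2 = 1} = 2 ^ (2 * m) + 2 ^ m ∨ Nat.card {x : E // x ^ 2 = 1} = 2 ^ (2 * m) - 2 ^ m)) ∧
    ∀ (E' : Type*) [Group E'] [Finite E'], Cfsg.IsExtraspecial 2 E' → Nat.card E' = Nat.card E →
      Nat.card {x : E' // x ^ 2 = 1} = Nat.card {x : E // x ^ 2 = 1} → Nonempty (E ≃* E') := by
  obtain ⟨m, hm, hcard⟩ := Cfsg.Agent.S0095.result (p := 2) hE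
  refine ⟨⟨m, hm, hcard, ?_⟩, ?_⟩
  · rcases count_eq hE hm hcard with h | h
    · exact Or.inl h.1
    · exact Or.inr h.1
  · intro E' _ _ hE' hcE hcount
    have hne : (2 : ℕ) ^ (2 * m) + 2 ^ m ≠ 2 ^ (2 * m) - 2 ^ m := by
      have := Nat.two_pow_pos m
      omega
    rcases count_eq hE hm hcard with ⟨h, π, a, b, c, d⟩ | ⟨h, π, a, b, c, d⟩ <;>
      rcases count_eq hE' hm (hcE.trans hcard) with ⟨h', π', a', b', c', d'⟩ | ⟨h', π', a', b', c', d'⟩
    · exact exists_iso π π' hE hE' _ a b c d a' b' c' d'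
    · exact absurd (h.symm.trans (hcount.symm.trans h')) hne
    · exact absurd (h'.symm.trans (hcount.trans h)) hne
    · exact exists_iso π π' hE hE' _ a b c d a' b' c' d'

end Cfsg.Agent.S4416
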