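import Cfsg.Statements.S4417
import Cfsg.Agent.Lib.PGroups.DerivedLength

set_option autoImplicit false
open Cfsg

namespace Cfsg.Agent.S4417

/-- Let F be a field with q elements, p a prime not dividing q, and e the multiplicative order of q modulo p; assume e ≤ n. Then every p-subgroup of GL_n(F) has derived length at most ⌊log₂(n/e)⌋ + 1: that term of its derived series is trivial (n/e is the integer quotient). -/
theorem result {F : Type*} [Field F] [Fintype F] (q : ℕ) (hF : Fintype.card F = q) (p : ℕ) [Fact p.Prime] (hpq : ¬ p ∣ q) (n e : ℕ) (he : e = orderOf (q : ZMod p)) (hen : e ≤ n) (P : Subgroup (GL (Fin n) F)) (hP : IsPGroup p P) : derivedSeries ↥P (Nat.log 2 (n / e) + 1) = ⊥ := by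
  have hp : (p : F) ≠ 0 := by
    intro h
    haveI : CharP F p := (CharP.charP_iff_prime_eq_zero Fact.out).mpr h
    apply hpq
    rw [← hF, ← CharP.cast_eq_zero_iff F p, Nat.cast_card_eq_zero]
  let θ : P →* Module.End F (Fin n → F) :=
    (Matrix.toLinAlgEquiv' : Matrix (Fin n) (Fin n) F ≃ₐ[F] _).toMonoidHom.comp
      ((Units.coeHom _).comp P.subtype)
  have hθ : Function.Injective θ := fun a b h =>
    Subtype.ext (Units.ext (Matrix.toLinAlgEquiv'.injective h))
  refine eq_bot_iff.mpr (le_trans ?_ ((MonoidHom.ker_eq_bot_iff θ).mpr hθ).le)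
  exact Cfsg.Agent.Lib.PGroups.DerivedLength.bound_finite hp e
    (by rw [Nat.card_eq_fintype_card, hF, he]) n P hP (Fin n → F) θ (Module.finrank_fin_fun F)

end Cfsg.Agent.S4417
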