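import Cfsg.Statements.S4419
import Cfsg.Agent.Lib.Coprime.Action
import Cfsg.Agent.Lib.Cores.PCore
import Cfsg.Agent.Lib.Cores.Frattini
import Cfsg.Agent.Lib.Transfer.Frobenius
import Mathlib

set_option autoImplicit false
open Cfsg

namespace Cfsg.Agent.S4419

open Cfsg.Agent.Lib
open scoped commutatorElement

universe u

variable {G : Type u} [Group G] [Finite G] {p : ℕ} [hpf : Fact p.Prime]

theorem card_frattini_quotient_le {S : Subgroup G} (hS : Cfsg.IsMetacyclic S) {Q : Subgroup G}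
    (hQS : Q ≤ S) (hQ : IsPGroup p Q) : Nat.card (Q ⧸ frattini Q) ≤ p ^ 2 := by
  classical
  haveI : Group.IsNilpotent Q := hQ.isNilpotent
  obtain ⟨N, hNn, hNc, hNq⟩ := hS
  haveI := hNn
  haveI := hNc
  haveI := hNq
  set ι : Q →* S := Subgroup.inclusion hQS
  set M := N.comap ι with hM
  haveI : IsCyclic M := isCyclic_of_injective (ι.subgroupComap N)
    (fun a b h => Subtype.ext (Subgroup.inclusion_injective hQS (congrArg Subtype.val h)))
  obtain ⟨n0, hn0⟩ := IsCyclic.exists_generator (α := M)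
  obtain ⟨c0, hc0⟩ := IsCyclic.exists_generator (α := ((QuotientGroup.mk' N).comp ι).range)
  obtain ⟨q0, hq0⟩ := c0.2
  have key : ∀ x : Q, ∃ i j : ℤ, x = (n0 : Q) ^ i * q0 ^ j := by
    intro x
    obtain ⟨j, hj⟩ := Subgroup.mem_zpowers_iff.mp (hc0 ⟨_, x, rfl⟩)
    have hj' : (c0 : S ⧸ N) ^ j = ((ι x : S) : S ⧸ N) := congrArg Subtype.val hj
    have hm : x * (q0 ^ j)⁻¹ ∈ M := by
      show ι (x * (q0 ^ j)⁻¹) ∈ N
      rw [map_mul, map_inv, map_zpow, ← QuotientGroup.eq_one_iff, QuotientGroup.mk_mul,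
        QuotientGroup.mk_inv, QuotientGroup.mk_zpow,
        show ((ι q0 : S) : S ⧸ N) = (c0 : S ⧸ N) from hq0, hj', mul_inv_cancel]
    obtain ⟨i, hi⟩ := Subgroup.mem_zpowers_iff.mp (hn0 ⟨_, hm⟩)
    have hi' : (n0 : Q) ^ i = x * (q0 ^ j)⁻¹ := congrArg Subtype.val hi
    exact ⟨i, j, by rw [hi', inv_mul_cancel_right]⟩
  have hsurj : Function.Surjective fun u : Fin p × Fin p =>
      ((((n0 : Q) ^ (u.1 : ℕ) * q0 ^ (u.2 : ℕ)) : Q) : Q ⧸ frattini Q) := by
    intro v
    obtain ⟨x, rfl⟩ := QuotientGroup.mk_surjective v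
    obtain ⟨i, j, rfl⟩ := key x
    have hp0 : (p : ℤ) ≠ 0 := by exact_mod_cast hpf.out.ne_zero
    have hlt : ∀ i : ℤ, (i % p).toNat < p := fun i => by
      have := Int.emod_lt_of_pos i (show (0 : ℤ) < p by exact_mod_cast hpf.out.pos)
      have := Int.emod_nonneg i hp0
      omega
    refine ⟨(⟨_, hlt i⟩, ⟨_, hlt j⟩), ?_⟩
    have hpw : ∀ (y : Q) (i : ℤ), ((y ^ (i % p).toNat : Q) : Q ⧸ frattini Q) = ((y ^ i : Q) : Q ⧸ frattini Q) := by
      intro y i
      rw [QuotientGroup.mk_pow, QuotientGroup.mk_zpow, ← zpow_natCast, Int.toNat_of_nonneg (Int.emod_nonneg i hp0)]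
      refine (zpow_eq_zpow_emod' i ?_).symm
      rw [← QuotientGroup.mk_pow]
      exact (QuotientGroup.eq_one_iff _).mpr (Cores.pow_mem_frattini hQ y)
    simp only [QuotientGroup.mk_mul, hpw]
  refine (Nat.card_le_card_of_surjective _ hsurj).trans (le_of_eq ?_)
  simp [Nat.card_eq_fintype_card, pow_two]

/-- Elements of order prime to `p (p² - 1)` centralize the subgroup. -/
theorem centralize_small {Q : Subgroup G} (hQ : IsPGroup p Q) (hV : Nat.card (Q ⧸ frattini Q) ≤ p ^ 2)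
    {r : ℕ} [hr : Fact r.Prime] (hrp : r ≠ p) (hr2 : ¬ r ∣ p ^ 2 - 1)
    {g : G} (hg : g ∈ Subgroup.normalizer (Q : Set G)) {e : ℕ} (hge : orderOf g = r ^ e) :
    g ∈ Subgroup.centralizer (Q : Set G) := by
  classical
  set A := Subgroup.zpowers g with hA
  have hAQ : A ≤ Subgroup.normalizer (Q : Set G) := Subgroup.zpowers_le.mpr hg
  have hAr : IsPGroup r A := IsPGroup.of_card (n := e) (by rw [hA, Nat.card_zpowers, hge])
  let φ : A →* MulAut Q := (Subgroup.normalizerMonoidHom Q).comp (Subgroup.inclusion hAQ)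
  have hφ : ∀ (a : A) (k : Q), ((φ a k : Q) : G) = (a : G) * k * (a : G)⁻¹ := fun a k => rfl
  haveI : (frattini Q).Characteristic := inferInstance
  let ψ : A → (Q ⧸ frattini Q) → (Q ⧸ frattini Q) := fun a =>
    QuotientGroup.map (frattini Q) (frattini Q) (φ a).toMonoidHom
      (le_of_eq ((Subgroup.characteristic_iff_comap_eq.mp inferInstance (φ a)).symm))
  letI : MulAction A (Q ⧸ frattini Q) :=
    { smul := ψ
      one_smul := fun v => by
        obtain ⟨k, rfl⟩ := QuotientGroup.mk_surjective v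
        show ((φ 1 k : Q) : Q ⧸ frattini Q) = _
        rw [map_one]; rfl
      mul_smul := fun a b v => by
        obtain ⟨k, rfl⟩ := QuotientGroup.mk_surjective v
        show ((φ (a * b) k : Q) : Q ⧸ frattini Q) = ((φ a (φ b k) : Q) : Q ⧸ frattini Q)
        rw [map_mul]; rfl }
  let F : Subgroup (Q ⧸ frattini Q) :=
    { carrier := {v | ∀ a : A, a • v = v}
      one_mem' := fun a => map_one (QuotientGroup.map (frattini Q) (frattini Q) (φ a).toMonoidHom _)
      mul_mem' := fun {x y} hx hy a => by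
        show ψ a (x * y) = x * y
        simp only [ψ, map_mul]
        exact congrArg₂ (· * ·) (hx a) (hy a)
      inv_mem' := fun {x} hx a => by
        show ψ a x⁻¹ = x⁻¹
        simp only [ψ, map_inv]
        exact congrArg (·⁻¹) (hx a) }
  have hmod := hAr.card_modEq_card_fixedPoints (Q ⧸ frattini Q)
  have hFc : Nat.card F = Nat.card (MulAction.fixedPoints A (Q ⧸ frattini Q)) := rfl
  rw [← hFc] at hmod
  have hVp := hQ.to_quotient (frattini Q)
  obtain ⟨k, hk⟩ := hVp.exists_card_eq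
  obtain ⟨j, hjk, hj⟩ := (Nat.dvd_prime_pow hpf.out).mp (hk ▸ Subgroup.card_subgroup_dvd_card F)
  have hk2 : k ≤ 2 := (Nat.pow_le_pow_iff_right hpf.out.one_lt).mp (hk ▸ hV)
  have hkj : j = k := by
    by_contra hne
    have hd : r ∣ p ^ j * (p ^ (k - j) - 1) := by
      rw [Nat.mul_sub, mul_one, ← pow_add, Nat.add_sub_cancel' hjk]
      rw [hk, hj] at hmod
      exact (Nat.modEq_iff_dvd' (Nat.pow_le_pow_right hpf.out.pos hjk)).mp hmod.symm
    rcases (Nat.Prime.dvd_mul hr.out).mp hd with h | h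
    · exact hrp ((Nat.prime_dvd_prime_iff_eq hr.out hpf.out).mp (hr.out.dvd_of_dvd_pow h))
    · refine hr2 (h.trans ?_)
      have h12 : k - j = 1 ∨ k - j = 2 := by omega
      rcases h12 with h' | h' <;> rw [h']
      · rw [pow_one, show p ^ 2 - 1 = p ^ 2 - 1 ^ 2 by simp, Nat.sq_sub_sq]; exact dvd_mul_left _ _
  have hFtop : F = ⊤ := Subgroup.eq_top_of_card_eq F (by rw [hj, hkj, hk])
  have hcopA : (Nat.card A).Coprime (Nat.card (frattini Q)) := by
    obtain ⟨m, hm⟩ := (hQ.to_subgroup (frattini Q)).exists_card_eq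
    rw [hm, hA, Nat.card_zpowers, hge]
    exact ((Nat.coprime_primes hr.out hpf.out).mpr hrp).pow e m
  refine Coprime.le_centralizer_of_frattini hcopA (fun a ha x hx => ?_) (Subgroup.mem_zpowers g)
  have hfix : ((φ ⟨a, ha⟩ ⟨x, hx⟩ : Q) : Q ⧸ frattini Q) = ((⟨x, hx⟩ : Q) : Q ⧸ frattini Q) :=
    (hFtop.ge (Subgroup.mem_top ((⟨x, hx⟩ : Q) : Q ⧸ frattini Q))) ⟨a, ha⟩
  have hmem := QuotientGroup.eq.mp hfix.symm
  refine ⟨⟨x, hx⟩ * ((⟨x, hx⟩ : Q)⁻¹ * φ ⟨a, ha⟩ ⟨x, hx⟩) * (⟨x, hx⟩ : Q)⁻¹,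
    (inferInstance : (frattini Q).Normal).conj_mem _ hmem _, ?_⟩
  rw [Subgroup.subtype_apply, Subgroup.coe_mul, Subgroup.coe_mul, Subgroup.coe_mul, Subgroup.coe_inv, hφ]
  group

theorem backward (S : Sylow p G) (hS : Cfsg.IsMetacyclic ↥(S : Subgroup G))
    (hcop : Nat.Coprime (Nat.card (G ⧸ Cfsg.pPrimePCore p G)) (p ^ 2 - 1)) :
    Cfsg.HasNormalPComplement p G := by
  classical
  refine Transfer.hasNormalPComplement_of_frobenius S fun Q hQS g hg hgo => ?_
  have hQp : IsPGroup p Q := S.2.to_le hQS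
  have hprim : ∀ (r : ℕ) [Fact r.Prime], r ≠ p → ∀ (h : G) (e : ℕ), h ∈ Subgroup.normalizer (Q : Set G) →
      orderOf h = r ^ e → h ∈ Subgroup.centralizer (Q : Set G) := by
    intro r hr hrp h e hh he
    by_cases hr2 : r ∣ p ^ 2 - 1
    · -- h lies in the p'-core
      have hidx : ¬ r ∣ (Cfsg.pPrimePCore p G).index := by
        rw [Subgroup.index_eq_card]
        exact fun hd => hr.out.one_lt.ne' (Nat.eq_one_of_dvd_coprimes hcop hd hr2)
      haveI : (Cfsg.pPrimePCore p G).Normal :=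
        (inferInstanceAs ((Cfsg.pCore p (G ⧸ Cfsg.pPrimeCore p G)).comap (QuotientGroup.mk' (Cfsg.pPrimeCore p G))).Normal)
      have h1 : h ∈ Cfsg.pPrimePCore p G := by
        refine (QuotientGroup.eq_one_iff h).mp (orderOf_eq_one_iff.mp ?_)
        refine Nat.eq_one_of_dvd_coprimes (?_ : Nat.Coprime (r ^ e) (Cfsg.pPrimePCore p G).index)
          (he ▸ orderOf_map_dvd (QuotientGroup.mk' _) h)
          ((orderOf_dvd_natCard _).trans (dvd_of_eq (Subgroup.index_eq_card _).symm))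
        exact ((hr.out.coprime_iff_not_dvd).mpr hidx).pow_left e
      have h2 : h ∈ Cfsg.pPrimeCore p G := by
        refine (QuotientGroup.eq_one_iff h).mp (orderOf_eq_one_iff.mp ?_)
        obtain ⟨n, hn⟩ := IsPGroup.iff_orderOf.mp (Cores.pCore_isPGroup p (G ⧸ Cfsg.pPrimeCore p G)) ⟨_, h1⟩
        rw [← Subgroup.orderOf_coe] at hn
        exact Nat.eq_one_of_dvd_coprimes (((Nat.coprime_primes hr.out hpf.out).mpr hrp).pow e n)
          (he ▸ orderOf_map_dvd (QuotientGroup.mk' _) h) (dvd_of_eq hn)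
      rw [Subgroup.mem_centralizer_iff]
      intro x hx
      have hc1 : x * h * x⁻¹ * h⁻¹ ∈ Q := by
        rw [show x * h * x⁻¹ * h⁻¹ = x * (h * x⁻¹ * h⁻¹) by group]
        exact Q.mul_mem hx ((Subgroup.mem_normalizer_iff.mp hh _).mp (Q.inv_mem hx))
      have hc2 : x * h * x⁻¹ * h⁻¹ ∈ Cfsg.pPrimeCore p G :=
        Subgroup.mul_mem _ ((inferInstance : (Cfsg.pPrimeCore p G).Normal).conj_mem h h2 x) (inv_mem h2)
      obtain ⟨n, hn⟩ := IsPGroup.iff_orderOf.mp hQp ⟨_, hc1⟩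
      rw [Subgroup.orderOf_mk] at hn
      have : x * h * x⁻¹ * h⁻¹ = 1 := orderOf_eq_one_iff.mp (Nat.eq_one_of_dvd_coprimes
        ((Cores.pPrimeCore_coprime p G).pow_right n) (Subgroup.orderOf_dvd_natCard _ hc2) (dvd_of_eq hn))
      exact mul_inv_eq_iff_eq_mul.mp (mul_inv_eq_one.mp this)
    · exact centralize_small hQp (card_frattini_quotient_le hS hQS hQp) hrp hr2 hh he
  -- reduce to prime power parts
  have h1 : (Subgroup.centralizer (Q : Set G)).relIndex (Subgroup.zpowers g) = 1 := by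
    refine Nat.eq_one_iff_not_exists_prime_dvd.mpr fun r hr hrd => ?_
    haveI := Fact.mk hr
    have hdg : r ∣ orderOf g := by
      rw [← Nat.card_zpowers]; exact hrd.trans (Subgroup.index_dvd_card _)
    have hrp : r ≠ p := fun e => hr.one_lt.ne' (Nat.eq_one_of_dvd_coprimes hgo hdg (dvd_of_eq e))
    obtain ⟨R⟩ : Nonempty (Sylow r (Subgroup.zpowers g)) := inferInstance
    refine R.not_dvd_index (hrd.trans (Subgroup.index_dvd_of_le fun v hv => ?_))
    obtain ⟨e, he⟩ := IsPGroup.iff_orderOf.mp R.2 ⟨v, hv⟩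
    rw [Subgroup.orderOf_mk] at he
    exact hprim r hrp (v : G) e (Subgroup.zpowers_le.mpr hg v.2) (by rw [Subgroup.orderOf_coe]; exact he)
  exact Subgroup.relIndex_eq_one.mp h1 (Subgroup.mem_zpowers g)

theorem forward (h : Cfsg.HasNormalPComplement p G) :
    Nat.Coprime (Nat.card (G ⧸ Cfsg.pPrimePCore p G)) (p ^ 2 - 1) := by
  obtain ⟨P, N, hN, hc⟩ := h
  haveI := hN
  obtain ⟨n, hn⟩ := P.2.exists_card_eq
  have hidx : N.index = p ^ n := by rw [hc.symm.index_eq_card, hn]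
  have hcopN : (Nat.card N).Coprime p := by
    rw [← hc.index_eq_card]
    exact (hpf.out.coprime_iff_not_dvd.mpr P.not_dvd_index).symm
  have hle : N ≤ Cfsg.pPrimeCore p G := Cores.le_pPrimeCore hN hcopN
  have hp : IsPGroup p (G ⧸ Cfsg.pPrimeCore p G) := by
    obtain ⟨m, -, hm⟩ := (Nat.dvd_prime_pow hpf.out).mp (hidx ▸ Subgroup.index_dvd_of_le hle)
    exact IsPGroup.of_card (n := m) ((Subgroup.index_eq_card _).symm.trans hm)
  have htop : Cfsg.pPrimePCore p G = ⊤ := by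
    show (Cfsg.pCore p (G ⧸ Cfsg.pPrimeCore p G)).comap _ = ⊤
    rw [Cores.pCore_eq_top_iff.mpr hp, Subgroup.comap_top]
  rw [← Subgroup.index_eq_card, htop, Subgroup.index_top]
  exact Nat.coprime_one_left _

/-- Let p be a prime and G a finite group whose Sylow p-subgroups are metacyclic (a cyclic normal subgroup with cyclic quotient). Then G has a normal p-complement if and only if the order of G/O_{p′,p}(G) is coprime to p² − 1. -/
theorem result {G : Type*} [Group G] [Finite G] (p : ℕ) [Fact p.Prime] (S : Sylow p G) (hS : Cfsg.IsMetacyclic ↥(S : Subgroup G)) : Cfsg.HasNormalPComplement p G ↔ Nat.Coprime (Nat.card (G ⧸ Cfsg.pPrimePCore p G)) (p ^ 2 - 1) := by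
  exact ⟨fun h => forward h, backward S hS⟩

end Cfsg.Agent.S4419
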