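import Cfsg.Statements.S4420
import Mathlib

set_option autoImplicit false
open Cfsg

namespace Cfsg.Agent.S4420


theorem key {H : Type*} [Group H] {A : Subgroup H} (hA : A ≠ ⊤)
    (hD : ∀ x : H, x ∉ A → x ^ 2 = 1) :
    (∀ a b : A, a * b = b * a) ∧
      (∀ x : H, x ∉ A → ∀ a ∈ A, x * a * x⁻¹ = a⁻¹) ∧
      ((∀ x : H, x ^ 2 = 1) ∨ A.index = 2) := by
  have hinv : ∀ x : H, x ∉ A → ∀ a ∈ A, x * a * x⁻¹ = a⁻¹ := by
    intro x hx a ha
    have hxa : x * a ∉ A := fun h => hx (by simpa using A.mul_mem h (A.inv_mem ha))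
    have h1 := hD x hx
    have h2 := hD _ hxa
    rw [pow_two] at h1 h2
    have h3 : x⁻¹ = x := inv_eq_of_mul_eq_one_right h1
    rw [h3, eq_inv_iff_mul_eq_one]
    simpa [mul_assoc] using h2
  obtain ⟨x, hx⟩ : ∃ x, x ∉ A := by
    by_contra h
    push Not at h
    exact hA (eq_top_iff.mpr fun x _ => h x)
  refine ⟨fun a b => ?_, hinv, ?_⟩
  · have h1 := hinv x hx _ (A.mul_mem a.2 b.2)
    have h2 : x * ((a : H) * b) * x⁻¹ = (x * a * x⁻¹) * (x * b * x⁻¹) := by group
    rw [h2, hinv x hx _ a.2, hinv x hx _ b.2, ← mul_inv_rev, inv_inj] at h1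
    exact Subtype.ext h1.symm
  · rcases em (A.index = 2) with h | h
    · exact Or.inr h
    left
    rw [Subgroup.index_eq_two_iff] at h
    push Not at h
    obtain ⟨b, hb⟩ := h x
    have hb2 : b ∉ A := by
      intro hbA
      have : b * x ∉ A := fun h => hx (by simpa using A.mul_mem (A.inv_mem hbA) h)
      simp [hbA, this] at hb
    have hbx : b * x ∉ A := by
      intro h
      simp [h, hb2] at hb
    have hsq : ∀ a ∈ A, a ^ 2 = 1 := by
      intro a ha
      have h1 := hinv _ hbx a ha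
      have h2 : b * x * a * (b * x)⁻¹ = b * (x * a * x⁻¹) * b⁻¹ := by group
      rw [h2, hinv x hx a ha, hinv b hb2 _ (A.inv_mem ha), inv_inv] at h1
      rw [pow_two]
      exact mul_eq_one_iff_eq_inv.mpr h1
    intro z
    by_cases hz : z ∈ A
    · exact hsq z hz
    · exact hD z hz

theorem inv_eq_self {H : Type*} [Group H] (he : ∀ x : H, x ^ 2 = 1) (z : H) : z⁻¹ = z :=
  inv_eq_of_mul_eq_one_right (by rw [← pow_two]; exact he z)

theorem comm_of_sq {H : Type*} [Group H] (he : ∀ x : H, x ^ 2 = 1) (a b : H) : a * b = b * a := by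
  have := inv_eq_self he (a * b)
  rw [mul_inv_rev, inv_eq_self he, inv_eq_self he] at this
  exact this.symm

theorem exists_index_two {H : Type*} [Group H] [Finite H] {A : Subgroup H} (hA : A ≠ ⊤)
    (he : ∀ x : H, x ^ 2 = 1) : ∃ M : Subgroup H, M.index = 2 := by
  obtain ⟨M, hM, -⟩ := (eq_top_or_exists_le_coatom A).resolve_left hA
  refine ⟨M, ?_⟩
  obtain ⟨x, hx⟩ : ∃ x, x ∉ M := by
    by_contra h
    push Not at h
    exact hM.1 (eq_top_iff.mpr fun x _ => h x)
  let K : Subgroup H :=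
    { carrier := {b | b * x ∈ M ∨ b ∈ M}
      one_mem' := Or.inr M.one_mem
      inv_mem' := fun {b} hb => by
        show b⁻¹ * x ∈ M ∨ b⁻¹ ∈ M
        rw [inv_eq_self he b]
        exact hb
      mul_mem' := fun {a b} ha hb => by
        show a * b * x ∈ M ∨ a * b ∈ M
        rcases ha with ha | ha <;> rcases hb with hb | hb
        · right
          have h1 : a * b = (a * x) * (b * x) := by
            rw [mul_assoc a x, comm_of_sq he x, mul_assoc b x x, ← pow_two, he, mul_one]
          rw [h1]; exact M.mul_mem ha hb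
        · left
          rw [mul_assoc, comm_of_sq he b x, ← mul_assoc]; exact M.mul_mem ha hb
        · left
          rw [mul_assoc]; exact M.mul_mem ha hb
        · exact Or.inr (M.mul_mem ha hb) }
  have hK : K = ⊤ := by
    refine hM.2 K (lt_of_le_of_ne (fun m hm => Or.inr hm) fun h => hx ?_)
    have : x ∈ K := Or.inl (by rw [← pow_two, he]; exact M.one_mem)
    rwa [← h] at this
  rw [Subgroup.index_eq_two_iff]
  refine ⟨x, fun b => ?_⟩
  have hb : b * x ∈ M ∨ b ∈ M := (hK ▸ Subgroup.mem_top b : b ∈ K)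
  rcases hb with hb | hb
  · exact Or.inl ⟨hb, fun h => hx (by simpa using M.mul_mem (M.inv_mem h) hb)⟩
  · exact Or.inr ⟨hb, fun h => hx (by simpa using M.mul_mem (M.inv_mem hb) h)⟩


/-- Structure of groups in which every element outside some proper subgroup has square 1. Let H be a finite group with a proper subgroup A such that every element outside A has square 1. Then H has an abelian normal subgroup B of index 2 such that every element outside B is an involution inverting every element of B; and if H is not an elementary abelian 2-group, B is the only abelian normal subgroup of index 2 with this property. -/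
theorem result {H : Type*} [Group H] [Finite H] (A : Subgroup H) (hA : A ≠ ⊤) (hD : ∀ x : H, x ∉ A → x ^ 2 = 1) :
    ∃ B : Subgroup H, B.Normal ∧ IsMulCommutative ↥B ∧ B.index = 2 ∧
      (∀ x : H, x ∉ B → x ^ 2 = 1 ∧ ∀ b ∈ B, x * b * x⁻¹ = b⁻¹) ∧
      (¬ (IsMulCommutative H ∧ ∀ x : H, x ^ 2 = 1) →
        ∀ B' : Subgroup H, B'.Normal → IsMulCommutative ↥B' → B'.index = 2 →
          (∀ x : H, x ∉ B' → x ^ 2 = 1 ∧ ∀ b ∈ B', x * b * x⁻¹ = b⁻¹) → B' = B) := by

  obtain ⟨hcomm, hinv, hcase⟩ := key hA hD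
  by_cases he : ∀ x : H, x ^ 2 = 1
  · obtain ⟨M, hM⟩ := exists_index_two hA he
    refine ⟨M, Subgroup.normal_of_index_eq_two hM, ⟨⟨fun a b => Subtype.ext (comm_of_sq he _ _)⟩⟩,
      hM, fun x _ => ⟨he x, fun b _ => ?_⟩, fun h => absurd ⟨⟨⟨comm_of_sq he⟩⟩, he⟩ h⟩
    rw [comm_of_sq he x b, mul_inv_cancel_right, inv_eq_self he]
  have hidx : A.index = 2 := hcase.resolve_left he
  refine ⟨A, Subgroup.normal_of_index_eq_two hidx, ⟨⟨hcomm⟩⟩, hidx,
    fun x hx => ⟨hD x hx, hinv x hx⟩, fun _ B' _ hB'c hB'i hB' => ?_⟩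
  by_contra hne
  obtain ⟨y, hyB, hyA⟩ : ∃ y, y ∈ B' ∧ y ∉ A := by
    by_contra h
    push Not at h
    apply hne
    refine le_antisymm h fun a ha => ?_
    have h1 := Subgroup.relIndex_mul_index (H := B') (K := A) h
    rw [hidx, hB'i] at h1
    have h2 : B'.relIndex A = 1 := by omega
    exact Subgroup.relIndex_eq_one.mp h2 ha
  apply he
  intro z
  by_cases hz : z ∈ A
  · by_cases hzB : z ∈ B'
    · have h1 := hinv y hyA z hz
      have h2 : y * z = z * y := congrArg Subtype.val (hB'c.is_comm.comm (⟨y, hyB⟩ : B') ⟨z, hzB⟩)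
      rw [h2, mul_inv_cancel_right] at h1
      rw [pow_two]
      exact mul_eq_one_iff_eq_inv.mpr h1
    · exact (hB' z hzB).1
  · exact hD z hz

end Cfsg.Agent.S4420
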