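import Cfsg.Statements.S4421
import Mathlib

set_option autoImplicit false
open Cfsg

namespace Cfsg.Agent.S4421


theorem map_conj_mul {G : Type*} [Group G] (H : Subgroup G) (a b : G) :
    H.map (MulAut.conj (a * b)).toMonoidHom =
      (H.map (MulAut.conj b).toMonoidHom).map (MulAut.conj a).toMonoidHom := by
  rw [Subgroup.map_map, map_mul]; rfl

theorem map_conj_one {G : Type*} [Group G] (H : Subgroup G) :
    H.map (MulAut.conj (1 : G)).toMonoidHom = H := by
  rw [map_one]; exact Subgroup.map_id H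

theorem map_conj_iff {G : Type*} [Group G] [Finite G] {H : Subgroup G} {g : G} :
    H.map (MulAut.conj g).toMonoidHom = H ↔ g ∈ Subgroup.normalizer (H : Set G) := by
  constructor
  · intro h
    rw [Subgroup.mem_normalizer_iff]
    intro a
    have : a ∈ H ↔ MulAut.conj g a ∈ H.map (MulAut.conj g).toMonoidHom :=
      (Subgroup.mem_map_iff_mem (MulAut.conj g).injective).symm
    rw [h] at this
    simpa using this
  · intro h
    ext a
    rw [Subgroup.mem_map_equiv, MulAut.conj_symm_apply]
    exact ⟨fun ha => by simpa [mul_assoc] using (Subgroup.mem_normalizer_iff.mp h _).mp ha,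
      fun ha => (Subgroup.mem_normalizer_iff.mp h _).mpr (by simpa [mul_assoc] using ha)⟩


/-- A factorization of a normalizer from two-step control of fusion. Let `G` be a finite group and `A ≤ S ≤ H` subgroups of `G` such that: (i) `S` controls the `G`-fusion of `A` in the sense that every `G`-conjugate of `A` lying in `S` is an `S`-conjugate of `A`; (ii) `H` controls the `G`-fusion of `S` in the same sense; (iii) every conjugate of `S` by an element of the normalizer of `A` lies in `H`. Then `N_G(A) = N_H(A) · (N_G(S) ∩ N_G(A))`: every element of the normalizer of `A` is a product of an element of `H` normalizing `A` and an element normalizing both `S` and `A`. -/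
theorem result {G : Type*} [Group G] [Finite G] (A S H : Subgroup G)
    (hAS : A ≤ S) (hSH : S ≤ H)
    (h1 : ∀ g : G, A.map (MulAut.conj g).toMonoidHom ≤ S → ∃ s ∈ S, A.map (MulAut.conj g).toMonoidHom = A.map (MulAut.conj s).toMonoidHom)
    (h2 : ∀ g : G, S.map (MulAut.conj g).toMonoidHom ≤ H → ∃ y ∈ H, S.map (MulAut.conj g).toMonoidHom = S.map (MulAut.conj y).toMonoidHom)
    (h3 : ∀ x ∈ Subgroup.normalizer (A : Set G), S.map (MulAut.conj x).toMonoidHom ≤ H) :
    ∀ x ∈ Subgroup.normalizer (A : Set G), ∃ y ∈ H ⊓ Subgroup.normalizer (A : Set G),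
      ∃ z ∈ Subgroup.normalizer (S : Set G) ⊓ Subgroup.normalizer (A : Set G), x = y * z := by

  intro x hx
  obtain ⟨y, hy, hxy⟩ := h2 x (h3 x hx)
  have hw : S.map (MulAut.conj (y⁻¹ * x)).toMonoidHom = S := by
    rw [map_conj_mul, hxy, ← map_conj_mul, inv_mul_cancel, map_conj_one]
  have hA : A.map (MulAut.conj (y⁻¹ * x)).toMonoidHom ≤ S :=
    le_trans (Subgroup.map_mono hAS) hw.le
  obtain ⟨s, hs, hsA⟩ := h1 _ hA
  have hz1 : s⁻¹ * (y⁻¹ * x) ∈ Subgroup.normalizer (A : Set G) := by
    rw [← map_conj_iff, map_conj_mul, hsA, ← map_conj_mul, inv_mul_cancel, map_conj_one]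
  have hz2 : s⁻¹ * (y⁻¹ * x) ∈ Subgroup.normalizer (S : Set G) :=
    Subgroup.mul_mem _ (Subgroup.inv_mem _ (Subgroup.le_normalizer hs)) (map_conj_iff.mp hw)
  refine ⟨y * s, Subgroup.mem_inf.mpr ⟨H.mul_mem hy (hSH hs), ?_⟩, s⁻¹ * (y⁻¹ * x),
    Subgroup.mem_inf.mpr ⟨hz2, hz1⟩, by group⟩
  have : y * s = x * (s⁻¹ * (y⁻¹ * x))⁻¹ := by group
  rw [this]
  exact Subgroup.mul_mem _ hx (Subgroup.inv_mem _ hz1)

end Cfsg.Agent.S4421
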