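import Cfsg.Statements.S4422
import Mathlib

set_option autoImplicit false
open Cfsg

namespace Cfsg.Agent.S4422


theorem prime_modEq_one {q e r : ℕ} (hr : r.Prime) (hq : 2 ≤ q) (he : 1 ≤ e)
    (hd : r ∣ q ^ e - 1) (hcop : ∀ i : ℕ, 1 ≤ i → i < e → ¬ r ∣ q ^ i - 1) :
    r ≡ 1 [MOD e] := by
  haveI := Fact.mk hr
  have h1 : ∀ i, r ∣ q ^ i - 1 ↔ (q : ZMod r) ^ i = 1 := by
    intro i
    rw [← ZMod.natCast_eq_zero_iff, Nat.cast_sub (Nat.one_le_pow _ _ (by omega)), sub_eq_zero]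
    simp
  have h2 : orderOf (q : ZMod r) = e := by
    rw [orderOf_eq_iff (by omega)]
    exact ⟨(h1 e).mp hd, fun i hi hi0 h => hcop i hi0 hi ((h1 i).mpr h)⟩
  have hq0 : (q : ZMod r) ≠ 0 := by
    intro h
    have h3 := (h1 e).mp hd
    rw [h, zero_pow (by omega)] at h3
    exact zero_ne_one h3
  have h4 := ZMod.orderOf_dvd_card_sub_one hq0
  rw [h2] at h4
  exact ((Nat.modEq_iff_dvd' hr.one_le).mpr h4).symm

theorem modEq_one {q e : ℕ} (hq : 2 ≤ q) (he : 1 ≤ e) (m : ℕ) :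
    m ∣ q ^ e - 1 → (∀ i : ℕ, 1 ≤ i → i < e → Nat.Coprime m (q ^ i - 1)) → m ≡ 1 [MOD e] := by
  induction m using induction_on_primes with
  | zero =>
    intro hd
    have : 1 < q ^ e := Nat.one_lt_pow (by omega) (by omega)
    rw [zero_dvd_iff] at hd
    omega
  | one => intros; rfl
  | prime_mul r a hr ih =>
    intro hd hcop
    have h1 : r ≡ 1 [MOD e] := by
      refine prime_modEq_one hr hq he (dvd_trans (dvd_mul_right _ _) hd) fun i hi hie hdi => ?_
      exact hr.ne_one (Nat.eq_one_of_dvd_coprimes (hcop i hi hie) (dvd_mul_right _ _) hdi)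
    have h2 := ih (dvd_trans (dvd_mul_left _ _) hd)
      (fun i hi hie => (hcop i hi hie).coprime_dvd_left (dvd_mul_left _ _))
    simpa using h1.mul h2


/-- Primitive divisors of `q^e - 1` are congruent to 1 modulo `e`. Let `q ≥ 2` and `e ≥ 1` be natural numbers and let `m` be a divisor of `q^e - 1` that is coprime to `q^i - 1` for every `1 ≤ i < e` (so `m` divides the primitive part of `q^e - 1`, the largest such divisor). Then `m ≡ 1 (mod e)`. -/
theorem result (q e m : ℕ) (hq : 2 ≤ q) (he : 1 ≤ e)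
    (hm : m ∣ q ^ e - 1) (hcop : ∀ i : ℕ, 1 ≤ i → i < e → Nat.Coprime m (q ^ i - 1)) :
    m % e = 1 % e := by

  exact modEq_one hq he m hm hcop

end Cfsg.Agent.S4422
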