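import Cfsg.Statements.S4429
import Cfsg.Agent.Lib.Characters.Order7920.Table

set_option autoImplicit false
open Cfsg

namespace Cfsg.Agent.S4429

/-- Let G be a simple group of order 7920. Then G has exactly ten irreducible complex characters, and their degrees, listed with multiplicity, are 1, 10, 10, 10, 11, 16, 16, 44, 45, 55: for every natural number n, the number of irreducible characters of degree n is 1 if n ∈ {1, 11, 44, 45, 55}, 3 if n = 10, 2 if n = 16, and 0 otherwise. -/
theorem result {G : Type*} [Group G] [Finite G] [IsSimpleGroup G] (hG : Nat.card G = 7920) : Nat.card (Cfsg.IrrCharacter G) = 10 ∧ ∀ n : ℕ, Nat.card {χ : Cfsg.IrrCharacter G // Cfsg.charDegree (χ : G → ℂ) = n} = (if n = 1 ∨ n = 11 ∨ n = 44 ∨ n = 45 ∨ n = 55 then 1 else if n = 10 then 3 else if n = 16 then 2 else 0) := by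
  classical
  haveI : Fact (Nat.Prime 11) := ⟨by norm_num⟩
  haveI : Fact (Nat.Prime 5) := ⟨by norm_num⟩
  obtain ⟨x, hx⟩ := exists_prime_orderOf_dvd_card' 11 (G := G) (by rw [hG]; norm_num)
  obtain ⟨y, hy⟩ := exists_prime_orderOf_dvd_card' 5 (G := G) (by rw [hG]; norm_num)
  obtain ⟨f, hf, -, hd, -, -⟩ :=
    Cfsg.Agent.Lib.Characters.Order7920.exists_table hG hx hy
  let e := Equiv.ofBijective f hf
  have hdeg : ∀ i, Cfsg.charDegree (f i : G → ℂ) = Cfsg.Agent.Lib.Characters.Order7920.degs i := by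
    intro i
    rw [Cfsg.charDegree, Cfsg.Agent.Lib.Characters.Order7920.deg_eq, hd, Complex.natCast_re,
      Nat.floor_natCast]
  refine ⟨by rw [← Nat.card_congr e, Nat.card_fin], fun n => ?_⟩
  rw [← Nat.card_congr (e.subtypeEquiv (p := fun i => Cfsg.Agent.Lib.Characters.Order7920.degs i = n)
    (fun i => by show _ ↔ Cfsg.charDegree (f i : G → ℂ) = n; rw [hdeg])),
    Nat.card_eq_fintype_card, Fintype.card_subtype]
  by_cases h : n ∈ ({1, 10, 11, 16, 44, 45, 55} : Finset ℕ)
  · simp only [Finset.mem_insert, Finset.mem_singleton] at h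
    rcases h with rfl | rfl | rfl | rfl | rfl | rfl | rfl <;> decide
  · simp only [Finset.mem_insert, Finset.mem_singleton, not_or] at h
    rw [Finset.filter_false_of_mem fun i _ => ?_]
    · simp [h.1, h.2.1, h.2.2.1, h.2.2.2.1, h.2.2.2.2.1, h.2.2.2.2.2.1, h.2.2.2.2.2.2]
    · fin_cases i <;> simp [Cfsg.Agent.Lib.Characters.Order7920.degs] <;> omega

end Cfsg.Agent.S4429
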