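import Cfsg.Statements.S4435
import Cfsg.Agent.Lib.Blocks.Reynolds

set_option autoImplicit false
open Cfsg
open Cfsg.Agent.Lib.Blocks Cfsg.Agent.Lib.Characters
open scoped ComplexConjugate

namespace Cfsg.Agent.S4435

theorem hTiff {G : Type*} [Group G] {N : Subgroup G} [hN : N.Normal] {b : Set (IrrCharacter N)} (g : G) :
    (∀ θ ∈ b, ∀ θ' : IrrCharacter N, (∀ n : N, (θ' : N → ℂ) n =
      (θ : N → ℂ) ⟨g * n * g⁻¹, hN.conj_mem n n.2 g⟩) → θ' ∈ b) ↔ ∀ θ ∈ b, conjIrrN N g θ ∈ b :=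
  ⟨fun h θ hθ => h θ hθ _ fun _ => rfl, fun h θ hθ θ' he => by
    rw [show θ' = conjIrrN N g θ from Subtype.ext (funext he)]; exact h θ hθ⟩

/-- Let N be a normal subgroup of the finite group G, b a block of N (relative to a maximal ideal M of the algebraic integers containing p), and T the stabilizer of b in G (the elements g such that conjugating any member of b by g gives a member of b); N ≤ T. Say that a block of T (or of G) covers b when some member has a constituent in b on restriction to N. Then: (i) every block B′ of T covering b induces a block B of G, B covers b, every ψ ∈ B′ induces to an irreducible character of G, and B consists exactly of the characters induced from members of B′; (ii) distinct blocks of T covering b induce distinct blocks of G; (iii) every block of G covering b is induced by some block of T covering b. -/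
theorem result {G : Type*} [Group G] [Fintype G] (p : ℕ) [Fact p.Prime] (M : Ideal Cfsg.AlgInt) (hM : Cfsg.IsPModular p M) (N : Subgroup G) [hN : N.Normal] [Fintype N] (b : Set (Cfsg.IrrCharacter N)) (hb : Cfsg.IsPBlock M b) (T : Subgroup G) [Fintype T] (hT : ∀ g : G, g ∈ T ↔ ∀ θ ∈ b, ∀ θ' : Cfsg.IrrCharacter N, (∀ n : N, (θ' : N → ℂ) n = (θ : N → ℂ) ⟨g * n * g⁻¹, hN.conj_mem n n.2 g⟩) → θ' ∈ b) (hNT : N ≤ T) : (∀ B' : Set (Cfsg.IrrCharacter T), Cfsg.IsPBlock M B' → (∃ ψ ∈ B', ∃ θ ∈ b, Cfsg.classInner (fun n : N => (ψ : T → ℂ) ⟨(n : G), hNT n.2⟩) (θ : N → ℂ) ≠ 0) → ∃ B : Set (Cfsg.IrrCharacter G), Cfsg.IsInducedBlock M T B' B ∧ (∃ χ ∈ B, ∃ θ ∈ b, Cfsg.classInner (fun n : N => (χ : G → ℂ) n) (θ : N → ℂ) ≠ 0) ∧ (∀ ψ ∈ B', Cfsg.IsIrrCharacter G (Cfsg.indFun T (ψ : T → ℂ))) ∧ ∀ χ : Cfsg.IrrCharacter G, χ ∈ B ↔ ∃ ψ ∈ B', (χ : G → ℂ) = Cfsg.indFun T (ψ : T → ℂ)) ∧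 (∀ B'₁ B'₂ : Set (Cfsg.IrrCharacter T), Cfsg.IsPBlock M B'₁ → Cfsg.IsPBlock M B'₂ → (∃ ψ ∈ B'₁, ∃ θ ∈ b, Cfsg.classInner (fun n : N => (ψ : T → ℂ) ⟨(n : G), hNT n.2⟩) (θ : N → ℂ) ≠ 0) → (∃ ψ ∈ B'₂, ∃ θ ∈ b, Cfsg.classInner (fun n : N => (ψ : T → ℂ) ⟨(n : G), hNT n.2⟩) (θ : N → ℂ) ≠ 0) → ∀ B : Set (Cfsg.IrrCharacter G), Cfsg.IsInducedBlock M T B'₁ B → Cfsg.IsInducedBlock M T B'₂ B → B'₁ = B'₂) ∧ (∀ B : Set (Cfsg.IrrCharacter G), Cfsg.IsPBlock M B → (∃ χ ∈ B, ∃ θ ∈ b, Cfsg.classInner (fun n : N => (χ : G → ℂ) n) (θ : N → ℂ) ≠ 0) → ∃ B' : Set (Cfsg.IrrCharacter T), Cfsg.IsPBlock M B' ∧ (∃ ψ ∈ B', ∃ θ ∈ b, Cfsg.classInner (fun n : N => (ψ : T → ℂ) ⟨(n : G), hNT n.2⟩) (θ : N → ℂ) ≠ 0) ∧ Cfsg.IsInducedBlock M T B' B) := by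
  haveI := isPrime_of_isPModular hM
  refine ⟨fun B' hB' hcov => ?_, fun B₁ B₂ h₁ h₂ c₁ c₂ B i₁ i₂ =>
    indImage_injective hNT hb (fun g => (hT g).trans (hTiff g)) hM h₁ h₂ c₁ c₂ i₁ i₂,
    fun B hB hcov => ?_⟩
  · have hT' := fun g => (hT g).trans (hTiff g)
    refine ⟨indImage B', isInducedBlock_indImage hNT hb hT' hM hB' hcov, ?_, ?_, fun χ => Iff.rfl⟩
    · obtain ⟨ψ, hψ, θ, hθb, hθ⟩ := id hcov
      obtain ⟨χ, hχ, hχψ⟩ := isIrrCharacter_indFun hNT hb hT' hθb hθ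
      exact ⟨χ, ⟨ψ, hψ, hχ⟩, θ, hθb, over_of_constituent hNT hb hT' hθb hθ hχψ⟩
    · intro ψ hψ
      obtain ⟨θ, hθb, hθ⟩ := forall_over hNT hb hT' hM hB' hcov ψ hψ
      obtain ⟨χ, hχ, -⟩ := isIrrCharacter_indFun hNT hb hT' hθb hθ
      rw [← hχ]; exact χ.2
  · have hT' := fun g => (hT g).trans (hTiff g)
    obtain ⟨χ, hχB, θ, hθb, hθ⟩ := hcov
    obtain ⟨ψ, hψθ, -, hψe⟩ := exists_correspondent hNT hb hT' hθb hθ
    have hcov' : ∃ ψ' ∈ blockOf M (ψ : T → ℂ), ∃ θ ∈ b,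
        classInner (resN N hNT (ψ' : T → ℂ)) (θ : N → ℂ) ≠ 0 :=
      ⟨ψ, self_mem_blockOf ψ, θ, hθb, hψθ⟩
    refine ⟨_, isPBlock_blockOf ψ, hcov', ?_⟩
    have h := isInducedBlock_indImage hNT hb hT' hM (isPBlock_blockOf ψ) hcov'
    have hmem : χ ∈ indImage (blockOf M (ψ : T → ℂ)) := ⟨ψ, self_mem_blockOf ψ, hψe.symm⟩
    rwa [IsPBlock.eq_of_mem h.2.1 hB hmem hχB] at h

end Cfsg.Agent.S4435
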