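import Cfsg.Statements.S4437
import Cfsg.Agent.Lib.Blocks.InertialIndex

set_option autoImplicit false
open Cfsg
open Cfsg.Agent.Lib.Blocks Cfsg.Agent.Lib.Characters
open scoped ComplexConjugate

namespace Cfsg.Agent.S4437

/-- Let P be a p-subgroup of the finite group G, H = P·C_G(P), and b a block of H (relative to a maximal ideal M of the algebraic integers containing p) having P as a defect group; let B be the block of G induced by b. Let T be the stabilizer of b in N_G(P): the elements g of N_G(P) such that the g-conjugate of every member of b is again a member of b. Then B has defect group P if and only if p does not divide the index of H in T. -/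
theorem result {G : Type*} [Group G] [Fintype G] (p : ℕ) [Fact p.Prime] (M : Ideal Cfsg.AlgInt) (hM : Cfsg.IsPModular p M) (P : Subgroup G) (hP : IsPGroup p P) (H : Subgroup G) [Fintype H] (hH : H = P ⊔ Subgroup.centralizer (P : Set G)) (b : Set (Cfsg.IrrCharacter H)) (hb : Cfsg.IsPBlock M b) (hbP : Cfsg.IsDefectGroup p M b (P.subgroupOf H)) (B : Set (Cfsg.IrrCharacter G)) (hind : Cfsg.IsInducedBlock M H b B) (T : Subgroup G) (hT : ∀ g : G, g ∈ T ↔ (g ∈ Subgroup.normalizer (P : Set G) ∧ ∀ θ ∈ b, ∀ θ' : Cfsg.IrrCharacter H, (∀ h h' : H, (h' : G) = g * h * g⁻¹ → (θ' : H → ℂ) h' = (θ : H → ℂ) h) → θ' ∈ b)) : Cfsg.IsDefectGroup p M B P ↔ ¬ p ∣ H.relIndex T := by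
  classical
  haveI := isPrime_of_isPModular hM
  haveI : Fintype (Subgroup.normalizer (P : Set G)) := Fintype.ofFinite _
  have hPH : P ≤ H := hH ▸ le_sup_left
  have hCH : Subgroup.centralizer (P : Set G) ≤ H := hH ▸ le_sup_right
  have hHN : H ≤ Subgroup.normalizer (P : Set G) := by
    rw [hH]
    refine sup_le Subgroup.le_normalizer fun x hx => Subgroup.mem_normalizer_iff.2 fun a => ⟨fun ha => ?_, fun ha => ?_⟩
    · rwa [← mem_centralizer_subgroup_iff.1 hx a ha, mul_inv_cancel_right]
    · have h1 := mem_centralizer_subgroup_iff.1 hx _ ha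
      rw [inv_mul_cancel_right] at h1
      rwa [show a = x * a * x⁻¹ from mul_left_cancel h1]
  have hPN : P ≤ Subgroup.normalizer (P : Set G) := hPH.trans hHN
  have hCnorm : ∀ n ∈ Subgroup.normalizer (P : Set G), ∀ x ∈ Subgroup.centralizer (P : Set G),
      n * x * n⁻¹ ∈ Subgroup.centralizer (P : Set G) := by
    intro n hn x hx
    rw [mem_centralizer_subgroup_iff]
    intro a ha
    have h1 : n⁻¹ * a * n ∈ P := by
      have := (Subgroup.mem_normalizer_iff.1 (inv_mem hn) a).1 ha
      rwa [inv_inv] at this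
    have h2 := mem_centralizer_subgroup_iff.1 hx _ h1
    calc a * (n * x * n⁻¹) = n * (n⁻¹ * a * n * x) * n⁻¹ := by group
      _ = n * (x * (n⁻¹ * a * n)) * n⁻¹ := by rw [h2]
      _ = _ := by group
  haveI : (P.subgroupOf (Subgroup.normalizer (P : Set G))).Normal :=
    subgroupOf_normal_of_le_normalizer le_rfl
  have hHnorm : ∀ n ∈ Subgroup.normalizer (P : Set G), ∀ x ∈ H, n * x * n⁻¹ ∈ H := by
    intro n hn x hx
    have hmap : H.map (MulAut.conj n).toMonoidHom ≤ H := by
      rw [hH, Subgroup.map_sup]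
      refine sup_le_sup ?_ ?_
      · rintro _ ⟨a, ha, rfl⟩
        exact (Subgroup.mem_normalizer_iff.1 hn a).1 ha
      · rintro _ ⟨a, ha, rfl⟩
        exact hCnorm n hn a ha
    exact hmap ⟨x, hx, rfl⟩
  haveI : (H.subgroupOf (Subgroup.normalizer (P : Set G))).Normal := ⟨fun x hx g =>
    Subgroup.mem_subgroupOf.2 (hHnorm g g.2 x hx)⟩
  haveI := Fintype.ofFinite (H.subgroupOf (Subgroup.normalizer (P : Set G)))
  haveI := Fintype.ofFinite (T.subgroupOf (Subgroup.normalizer (P : Set G)))
  let e : ↥(H.subgroupOf (Subgroup.normalizer (P : Set G))) ≃* ↥H := Subgroup.subgroupOfEquivOfLe hHN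
  obtain ⟨θ₀, hθ₀⟩ := IsPBlock.nonempty hb
  have hc : IsPBlock M (compEquivIrr e '' b) := by
    refine ⟨compEquivIrr e θ₀, ?_⟩
    ext η
    constructor
    · rintro ⟨θ, hθ, rfl⟩
      exact sameBlock_compEquivIrr e (IsPBlock.sameBlock hb hθ₀ hθ)
    · intro hη
      refine ⟨compEquivIrr e.symm η, ?_, ?_⟩
      · have h := sameBlock_compEquivIrr e.symm (χ := compEquivIrr e θ₀) (ψ := η) hη
        rw [compEquivIrr_symm] at h
        exact (IsPBlock.mem_iff hb hθ₀).2 h
      · exact compEquivIrr_symm e.symm η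
  have hcard : Nat.card (P.subgroupOf (Subgroup.normalizer (P : Set G))) =
      p ^ blockDefect p (compEquivIrr e '' b) := by
    rw [Nat.card_congr (Subgroup.subgroupOfEquivOfLe hPN).toEquiv,
      ← Nat.card_congr (Subgroup.subgroupOfEquivOfLe hPH).toEquiv,
      IsDefectGroup.card_eq hM hb hbP]
    congr 1
    rw [blockDefect, blockDefect, Set.image_image, Nat.card_congr e.toEquiv]
    congr 3
  have hTN : T ≤ Subgroup.normalizer (P : Set G) := fun g hg => ((hT g).1 hg).1
  have hT' : ∀ g : ↥(Subgroup.normalizer (P : Set G)),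
      g ∈ T.subgroupOf (Subgroup.normalizer (P : Set G)) ↔
        ∀ η ∈ compEquivIrr e '' b,
          conjIrrN (H.subgroupOf (Subgroup.normalizer (P : Set G))) g η ∈ compEquivIrr e '' b := by
    intro g
    rw [Subgroup.mem_subgroupOf]
    constructor
    · rintro hg _ ⟨θ, hθ, rfl⟩
      refine ⟨compEquivIrr e.symm (conjIrrN _ g (compEquivIrr e θ)), ?_, compEquivIrr_symm e.symm _⟩
      refine ((hT _).1 (inv_mem hg)).2 θ hθ _ fun x y hxy => ?_
      show (θ : H → ℂ) _ = (θ : H → ℂ) x
      refine congrArg (θ : H → ℂ) (Subtype.ext ?_)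
      show (g : G) * y * (g : G)⁻¹ = x
      rw [hxy]; group
    · intro h
      rw [← inv_inv (g : G)]
      refine inv_mem ((hT _).2 ⟨inv_mem g.2, fun θ hθ θ' hθ' => ?_⟩)
      obtain ⟨φ, hφ, hφe⟩ := h _ (Set.mem_image_of_mem _ hθ)
      rw [show θ' = φ from ?_]
      · exact hφ
      apply Subtype.ext
      funext x
      have h1 := congrFun (congrArg Subtype.val hφe) (e.symm x)
      rw [show (compEquivIrr e φ : _ → ℂ) (e.symm x) = (φ : H → ℂ) (e (e.symm x)) from rfl,
        e.apply_symm_apply] at h1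
      rw [h1]
      refine hθ' ⟨(g : G) * x * (g : G)⁻¹, hHnorm g g.2 x x.2⟩ x ?_
      show (x : G) = (g : G)⁻¹ * ((g : G) * x * (g : G)⁻¹) * (g : G)⁻¹⁻¹
      group
  have hHT : H.subgroupOf (Subgroup.normalizer (P : Set G)) ≤
      T.subgroupOf (Subgroup.normalizer (P : Set G)) := by
    intro g hg
    rw [hT']
    intro η hη
    rwa [show conjIrrN (H.subgroupOf (Subgroup.normalizer (P : Set G))) g η = η from
      Subtype.ext (conjFun_of_mem _ (irr_isClassFunction η) hg)]
  have hPp : IsPGroup p (P.subgroupOf (Subgroup.normalizer (P : Set G))) :=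
    hP.of_equiv (Subgroup.subgroupOfEquivOfLe hPN).symm
  obtain ⟨b', hb', ⟨χ, hχ, η, hη, hne⟩, hiff⟩ := exists_covering_defect_iff hM
    (P.subgroupOf (Subgroup.normalizer (P : Set G))) hPp
    (H.subgroupOf (Subgroup.normalizer (P : Set G))) (fun x hx => hPH hx) hc hcard
    (T.subgroupOf (Subgroup.normalizer (P : Set G))) hT' hHT
  obtain ⟨θ, hθ, rfl⟩ := hη
  obtain ⟨χB, hχB⟩ := IsPBlock.nonempty hind.2.1
  have hind' : IsInducedBlock M (Subgroup.normalizer (P : Set G)) b' B := by
    refine isInducedBlock_of_pair hb' hind.2.1 hχ hχB fun g => ?_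
    have hf := isRCentral_classIndicator (M := M) g
    have h1 := omega_resFun_trunc_congr hM hP hPN le_rfl χ hf
    have h2 := omega_resFun_trunc_congr hM hP hPH hHN θ hf
    have h3 := IsInducedBlock.omega_congr hind hθ hχB hf
    rw [omega_classIndicator (irr_isClassFunction χB)] at h3
    have h4 : omega (χ : _ → ℂ) (resFun (Subgroup.normalizer (P : Set G)) (trunc P (classIndicator g))) =
        omega (θ : H → ℂ) (resFun H (trunc P (classIndicator g))) := by
      rw [omega_eq_of_constituent _ hne]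
      · show omega ((θ : H → ℂ) ∘ e) _ = _
        rw [omega_comp_equiv]
        rfl
      · intro x a
        show trunc P (classIndicator g) ((a : G) * x * (a : G)⁻¹) = trunc P (classIndicator g) x
        by_cases hx : (x : G) ∈ Subgroup.centralizer (P : Set G)
        · rw [trunc_of_mem hx, trunc_of_mem (hCnorm a a.2 x hx), hf.1]
        · rw [trunc_of_notMem hx, trunc_of_notMem fun hh => hx ?_]
          have := hCnorm (a : G)⁻¹ (inv_mem a.2) _ hh
          simpa [mul_assoc] using this
      · intro x hx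
        exact trunc_of_notMem fun hh => hx (hCH hh)
    rw [h4] at h1
    convert memLocalIdeal_add (memLocalIdeal_sub h1 h2) h3 using 1
    ring
  have hidx : (H.subgroupOf (Subgroup.normalizer (P : Set G))).relIndex
      (T.subgroupOf (Subgroup.normalizer (P : Set G))) = H.relIndex T :=
    Subgroup.relIndex_subgroupOf hTN
  rw [hidx] at hiff
  refine ⟨fun h => hiff.1 (isDefectGroup_of_isInducedBlock hM hPN le_rfl hind' h),
    fun h => isDefectGroup_induced hM hind' (hiff.2 h)⟩

end Cfsg.Agent.S4437
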