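import Cfsg.Statements.S4442
import Cfsg.Agent.Lib.Blocks.DefectOneInputs

open Cfsg Cfsg.Agent.Lib.Blocks Cfsg.Agent.Lib.Characters
-- import your own Cfsg.Agent.* helpers here

set_option autoImplicit false
open Cfsg

namespace Cfsg.Agent.S4442

/-- Blocks of defect one. Let p be an odd prime and G a finite group whose Sylow p-subgroup P has order p; let C = C_G(P) and N = N_G(P), and fix a maximal ideal M of the algebraic integers containing p. Let B be a block of G with defect group P, b a block of C inducing B, and θ the member of b having P in its kernel (there is exactly one). Let T be the stabilizer of θ in N (the elements g ∈ N with θ(g c g⁻¹) = θ(c) for all c ∈ C) and e the index of C in T. Then e divides p − 1 and B contains exactly e + (p − 1)/e irreducible characters. Moreover B is the disjoint union of a set X of e characters and a set Y of (p − 1)/e characters such that, with f the index of C in N: every χ ∈ X has χ(1) ≡ ±(f/e)·θ(1)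 (mod p), there is one sign ε with ψ(1) ≡ ε f θ(1) (mod p) for all ψ ∈ Y, and all members of Y agree on the p-regular elements of G. -/
theorem result {G : Type*} [Group G] [Finite G] (p : ℕ) [Fact p.Prime] (M : Ideal Cfsg.AlgInt) (hM : Cfsg.IsPModular p M) (hodd : p ≠ 2) (P : Sylow p G) (hP : Nat.card P = p) (B : Set (Cfsg.IrrCharacter G)) (hB : Cfsg.IsPBlock M B) (hBP : Cfsg.IsDefectGroup p M B P) (b : Set (Cfsg.IrrCharacter (Subgroup.centralizer ((P : Subgroup G) : Set G)))) (hind : Cfsg.IsInducedBlock M (Subgroup.centralizer ((P : Subgroup G) : Set G)) b B) (θ : Cfsg.IrrCharacter (Subgroup.centralizer ((P : Subgroup G) : Set G))) (hθ : θ ∈ b) (hθP : ∀ x : Subgroup.centralizer ((P : Subgroup G) : Set G), (x : G) ∈ (P : Subgroup G) → (θ : Subgroup.centralizer ((P : Subgroup G) : Set G) → ℂ) x = (θ : Subgroup.centralizer ((P : Subgroup G) : Set G) → ℂ) 1) (T : Subgroup G) (hT : ∀ g : G, g ∈ T ↔ (g ∈ Subgroup.normalizer ((P : Subgroup G) : Set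 G) ∧ ∀ c c' : Subgroup.centralizer ((P : Subgroup G) : Set G), (c' : G) = g * c * g⁻¹ → (θ : Subgroup.centralizer ((P : Subgroup G) : Set G) → ℂ) c' = (θ : Subgroup.centralizer ((P : Subgroup G) : Set G) → ℂ) c)) (e f : ℕ) (he : (Subgroup.centralizer ((P : Subgroup G) : Set G)).relIndex T = e) (hf : (Subgroup.centralizer ((P : Subgroup G) : Set G)).relIndex (Subgroup.normalizer ((P : Subgroup G) : Set G)) = f) : e ∣ p - 1 ∧ Nat.card B = e + (p - 1) / e ∧ ∃ X Y : Set (Cfsg.IrrCharacter G), B = X ∪ Y ∧ Disjoint X Y ∧ Nat.card X = e ∧ Nat.card Y = (p - 1) / e ∧ (∀ χ ∈ X, (Cfsg.charDegree (χ : G → ℂ) : ℤ) ≡ ((f / e * Cfsg.charDegree (θ : Subgroup.centralizer ((P : Subgroup G) : Set G) → ℂ) : ℕ) : ℤ) [ZMOD p] ∨ (Cfsg.charDegree (χ : G → ℂ) : ℤ) ≡ -((f / e * Cfsg.charDegree (θ : Subgroup.centralizer ((P : Subgroup G) : Set G) → ℂ) : ℕ) : ℤ) [ZMOD p]) ∧ (∃ ε : ℤ, (ε = 1 ∨ ε = -1) ∧ ∀ ψ ∈ Y, (Cfsg.charDegree (ψ : G → ℂ) : ℤ) ≡ ε * ((f * Cfsg.charDegree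 (θ : Subgroup.centralizer ((P : Subgroup G) : Set G) → ℂ) : ℕ) : ℤ) [ZMOD p]) ∧ ∀ ψ ∈ Y, ∀ ψ' ∈ Y, ∀ g : G, ¬ p ∣ orderOf g → (ψ : G → ℂ) g = (ψ' : G → ℂ) g := by
  classical
  haveI := isPrime_of_isPModular hM
  haveI := Fintype.ofFinite G
  haveI := Fintype.ofFinite (Subgroup.centralizer ((P : Subgroup G) : Set G))
  have hsq : ¬ p ^ 2 ∣ Nat.card G := by
    intro h
    have h1 := Sylow.card_eq_multiplicity P
    have h2 := ((Fact.out : p.Prime).pow_dvd_iff_le_factorization Nat.card_pos.ne').1 h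
    have h3 : (Nat.card G).factorization p = 1 :=
      Nat.pow_right_injective (Fact.out : p.Prime).two_le
        (show p ^ _ = p ^ 1 from h1.symm.trans (hP.trans (pow_one p).symm))
    omega
  obtain ⟨u, O, S⟩ := exists_primeSplit (P : Subgroup G) hP hsq
  haveI := Fintype.ofFinite O
  obtain ⟨hout, hin⟩ := S.defect_one_inputs hM hB hBP hind hθ
  obtain ⟨t, r, n, e', D⟩ := S.exists_stabData (S.resIrr θ)
  have hTe := S.eq_thetaStab θ hθP T hT
  obtain rfl : e' = e := by rw [← D.relIndex_T, ← hTe, he]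
  obtain rfl : n * e' = f := by rw [← D.relIndex_N, hf]
  obtain ⟨SX, SY, dX, ε, Y, hmem, hdisj, hX, hY, hYmem, hε, hYR, hXp, hYc, hYdeg, hrel, -⟩ :=
    D.defect_one hM hB hout hin
  have hB' : B = ↑SX ∪ ↑SY := Set.ext fun χ => by simp [hmem]
  refine ⟨D.e_dvd, ?_, ↑SX, ↑SY, hB', Finset.disjoint_coe.2 hdisj, ?_, ?_, ?_, ⟨ε, hε, ?_⟩, ?_⟩
  · rw [hB', ← Finset.coe_union, Nat.card_coe_set_eq, Set.ncard_coe_finset,
      Finset.card_union_of_disjoint hdisj, hX, hY]
  · rw [Nat.card_coe_set_eq, Set.ncard_coe_finset, hX]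
  · rw [Nat.card_coe_set_eq, Set.ncard_coe_finset, hY]
  · intro χ hχ
    obtain ⟨hs, -, hd⟩ := hXp χ hχ
    rw [Nat.mul_div_cancel n D.e_pos, ← S.charDegree_resIrr θ]
    rcases hs with h | h <;> rw [h] at hd
    · exact Or.inl (by rwa [one_mul] at hd)
    · exact Or.inr (by rwa [neg_one_mul] at hd)
  · intro ψ hψ
    obtain ⟨k, rfl⟩ := (hYmem ψ).1 hψ
    rw [← S.charDegree_resIrr θ]
    exact hYdeg k
  · intro ψ hψ ψ' hψ' g hg
    obtain ⟨k, rfl⟩ := (hYmem ψ).1 hψ
    obtain ⟨k', rfl⟩ := (hYmem ψ').1 hψ'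
    exact mul_left_cancel₀ (by rcases hε with rfl | rfl <;> norm_num)
      ((hrel k g hg).trans (hrel k' g hg).symm)

end Cfsg.Agent.S4442
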