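import Cfsg.Statements.S4444
import Cfsg.Agent.Lib.Glauberman.Conj
import Cfsg.Agent.Lib.Glauberman.PGroup
-- import your own Cfsg.Agent.* helpers here

set_option autoImplicit false
open Cfsg Cfsg.Agent.Lib.Glauberman Cfsg.Agent.Lib.Characters
open Cfsg.Agent.Lib.BrauerPairs (transIrr transIrr_symm transIrr_injective)

namespace Cfsg.Agent.S4444

/-- The Glauberman correspondence for a p-group of operators. Inside a finite group Γ let S normalise G with the orders of G and S coprime, S a p-group, and let C = G ⊓ C(S) be the fixed points. Call an irreducible character χ of G S-invariant when χ(s g s⁻¹) = χ(g) for s ∈ S, g ∈ G. Then: (i) for every S-invariant χ there is exactly one irreducible character β of C whose multiplicity [χ_C, β] in the restriction of χ is not divisible by p; (ii) that multiplicity is ≡ 1 or ≡ −1 (mod p); (iii) distinct S-invariant χ give distinct β;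 (iv) every irreducible character of C arises in this way. So χ ↦ β is a bijection from the S-invariant irreducible characters of G onto the irreducible characters of C. -/
theorem result {Γ : Type*} [Group Γ] [Fintype Γ] (G S : Subgroup Γ) [Fintype G] (hnorm : ∀ s ∈ S, ∀ g ∈ G, s * g * s⁻¹ ∈ G) (hcop : (Nat.card G).Coprime (Nat.card S)) (p : ℕ) (hp : p.Prime) (hS : IsPGroup p S) (C : Subgroup Γ) [Fintype C] (hC : C = G ⊓ Subgroup.centralizer (S : Set Γ)) (hCG : C ≤ G) : (∀ χ : Cfsg.IrrCharacter G, (∀ s ∈ S, ∀ g g' : G, (g' : Γ) = s * g * s⁻¹ → (χ : G → ℂ) g' = (χ : G → ℂ) g) → ∃! β : Cfsg.IrrCharacter C, ∃ m : ℕ, Cfsg.classInner (fun c : C => (χ : G → ℂ) ⟨c, hCG c.2⟩) (β : C → ℂ) = (m : ℂ) ∧ ¬ p ∣ m) ∧ (∀ χ : Cfsg.IrrCharacter G, (∀ s ∈ S, ∀ g g' : G, (g' : Γ) = s * g * s⁻¹ → (χ : G → ℂ) g' = (χ : G → ℂ) g) → ∀ β : Cfsg.IrrCharacter C, ∀ m : ℕ, Cfsg.classInner (fun c : C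 => (χ : G → ℂ) ⟨c, hCG c.2⟩) (β : C → ℂ) = (m : ℂ) → ¬ p ∣ m → ((m : ℤ) ≡ 1 [ZMOD p] ∨ (m : ℤ) ≡ -1 [ZMOD p])) ∧ (∀ χ χ' : Cfsg.IrrCharacter G, (∀ s ∈ S, ∀ g g' : G, (g' : Γ) = s * g * s⁻¹ → (χ : G → ℂ) g' = (χ : G → ℂ) g) → (∀ s ∈ S, ∀ g g' : G, (g' : Γ) = s * g * s⁻¹ → (χ' : G → ℂ) g' = (χ' : G → ℂ) g) → ∀ β : Cfsg.IrrCharacter C, ∀ m m' : ℕ, Cfsg.classInner (fun c : C => (χ : G → ℂ) ⟨c, hCG c.2⟩) (β : C → ℂ) = (m : ℂ) → ¬ p ∣ m → Cfsg.classInner (fun c : C => (χ' : G → ℂ) ⟨c, hCG c.2⟩) (β : C → ℂ) = (m' : ℂ) → ¬ p ∣ m' → χ = χ') ∧ (∀ β : Cfsg.IrrCharacter C, ∃ χ : Cfsg.IrrCharacter G, (∀ s ∈ S, ∀ g g' : G, (g' : Γ) = s * g * s⁻¹ → (χ : G → ℂ) g' = (χ : G → ℂ) g) ∧ ∃ m : ℕ, Cfsg.classInner (fun c : C => (χ : G → ℂ) ⟨c, hCG c.2⟩) (β : C → ℂ) = (m : ℂ) ∧ ¬ p ∣ m) := by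
  classical
  haveI := Fact.mk hp
  have hCspec : ∀ x, x ∈ C ↔ x ∈ G ∧ ∀ s ∈ S, s * x * s⁻¹ = x := fun x => by
    rw [hC]; exact inf_centralizer_spec x
  by_cases hpG : p ∣ Nat.card G
  · obtain ⟨k, hk⟩ := IsPGroup.iff_card.1 hS
    have hk0 : k = 0 := by
      by_contra h0
      exact hp.one_lt.ne' (Nat.eq_one_of_dvd_one
        (hcop ▸ Nat.dvd_gcd hpG (hk ▸ dvd_pow_self p h0)))
    have hSbot : S = ⊥ := Subgroup.eq_bot_of_card_eq S (by rw [hk, hk0, pow_zero])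
    obtain rfl : C = G := by
      rw [hC, inf_eq_left]
      intro g _
      rw [Subgroup.mem_centralizer_iff]
      intro s hs
      rw [hSbot, SetLike.mem_coe, Subgroup.mem_bot] at hs
      rw [hs, one_mul, mul_one]
    have hinv : ∀ χ : Cfsg.IrrCharacter C, ∀ s ∈ S, ∀ g g' : C, (g' : Γ) = s * g * s⁻¹ →
        (χ : C → ℂ) g' = (χ : C → ℂ) g := fun χ s hs g g' h => by
      rw [hSbot, Subgroup.mem_bot] at hs
      rw [Subtype.ext (show (g' : Γ) = g by rw [h, hs]; simp)]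
    have key : ∀ (χ β : Cfsg.IrrCharacter C) (m : ℕ),
        Cfsg.classInner (fun c : C => (χ : C → ℂ) ⟨c, hCG c.2⟩) (β : C → ℂ) = (m : ℂ) →
        ¬ p ∣ m → χ = β ∧ m = 1 := by
      intro χ β m h hm
      have h' : Cfsg.classInner (χ : C → ℂ) (β : C → ℂ) = (m : ℂ) := h
      rw [classInner_irr] at h'
      split_ifs at h' with hχβ
      · exact ⟨hχβ, by exact_mod_cast h'.symm⟩
      · exact absurd (show m = 0 by exact_mod_cast h'.symm) (fun h0 => hm (h0 ▸ dvd_zero p))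
    have hone : ∀ χ : Cfsg.IrrCharacter C, ∃ m : ℕ,
        Cfsg.classInner (fun c : C => (χ : C → ℂ) ⟨c, hCG c.2⟩) (χ : C → ℂ) = (m : ℂ) ∧
          ¬ p ∣ m := fun χ => ⟨1, by
      show Cfsg.classInner (χ : C → ℂ) (χ : C → ℂ) = _
      rw [classInner_irr, if_pos rfl, Nat.cast_one], hp.not_dvd_one⟩
    refine ⟨fun χ _ => ⟨χ, by convert hone χ, fun β hβ => ?_⟩, fun χ _ β m h hm => ?_,
      fun χ χ' _ _ β m m' h hm h' hm' => ?_, fun β => ⟨β, hinv β, by convert hone β⟩⟩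
    · obtain ⟨m, h, hm⟩ := hβ
      exact (key χ β m (by convert h) hm).1.symm
    · rw [(key χ β m (by convert h) hm).2]; exact Or.inl rfl
    · exact (key χ β m (by convert h) hm).1.trans (key χ' β m' (by convert h') hm').1.symm
  haveI : Fintype (fixedSub (conjHom G S hnorm)) := Fintype.ofFinite _
  obtain ⟨π, hπ, hπ'⟩ := exists_glauberman (conjHom G S hnorm) hS hpG
  let e := fixedEquiv hnorm hCspec
  have tr : ∀ (χ : Cfsg.IrrCharacter G) (β : Cfsg.IrrCharacter C) (m : ℕ),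
      Cfsg.classInner (fun c : C => (χ : G → ℂ) ⟨c, hCG c.2⟩) (β : C → ℂ) = (m : ℂ) ↔
        mult (conjHom G S hnorm) χ (transIrr e β) = m := fun χ β m => by
    rw [classInner_fixedEquiv hnorm hCspec hCG, classInner_eq_mult, Nat.cast_inj]
  have inv : ∀ χ : Cfsg.IrrCharacter G, (∀ s ∈ S, ∀ g g' : G, (g' : Γ) = s * g * s⁻¹ →
      (χ : G → ℂ) g' = (χ : G → ℂ) g) → IsInv (conjHom G S hnorm) (χ : G → ℂ) :=
    fun χ h => (isInv_conjHom_iff hnorm _).2 h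
  refine ⟨fun χ hχ => ?_, fun χ hχ β m h hm => ?_, fun χ χ' hχ hχ' β m m' h hm h' hm' => ?_,
    fun β => ?_⟩
  · refine ⟨transIrr e.symm (π ⟨χ, inv χ hχ⟩), ⟨_, (tr _ _ _).2 rfl, ?_⟩, fun β hβ => ?_⟩
    · rw [transIrr_symm]
      exact (hπ ⟨χ, inv χ hχ⟩ _).2 rfl
    · obtain ⟨m, h, hm⟩ := hβ
      rw [← (tr _ _ _).1 h] at hm
      exact transIrr_injective e (by rw [transIrr_symm, ← (hπ ⟨χ, inv χ hχ⟩ _).1 hm])
  · rw [← (tr _ _ _).1 h] at hm ⊢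
    obtain ⟨hs, -⟩ := hπ' ⟨χ, inv χ hχ⟩
    rw [(hπ ⟨χ, inv χ hχ⟩ _).1 hm] at hs
    refine hs.imp (fun h1 => ?_) fun h1 => ?_ <;> rw [← ZMod.intCast_eq_intCast_iff] <;> simpa using h1
  · rw [← (tr _ _ _).1 h] at hm
    rw [← (tr _ _ _).1 h'] at hm'
    exact congrArg Subtype.val (π.injective
      (((hπ ⟨χ, inv χ hχ⟩ _).1 hm).trans ((hπ ⟨χ', inv χ' hχ'⟩ _).1 hm').symm))
  · obtain ⟨⟨χ, hχ⟩, hχβ⟩ := π.surjective (transIrr e β)
    exact ⟨χ, (isInv_conjHom_iff hnorm _).1 hχ, _, (tr _ _ _).2 rfl,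
      (hπ ⟨χ, hχ⟩ _).2 hχβ⟩

end Cfsg.Agent.S4444
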