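import Cfsg.Statements.S4446
import Cfsg.Agent.Lib.Characters.CyclicGlauberman

set_option autoImplicit false
open Cfsg

namespace Cfsg.Agent.S4446

open Cfsg.Agent.Lib.Characters Cfsg.Agent.Lib.Glauberman
open scoped ComplexConjugate

/-- Let the finite group Γ be generated by a normal subgroup G and a cyclic subgroup S of coprime orders, C = G ⊓ C(S), and let χ be an S-invariant irreducible character of G with canonical extension χ̂ to Γ (the extension whose determinantal order is coprime to the order of S). Then there are exactly one irreducible character β of C and one sign ε such that χ̂(c s) = ε β(c) for every c ∈ C and every generator s of S; this β is a constituent of the restriction of χ to C; distinct S-invariant χ give distinct β; and every irreducible character of C arises in this way. -/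
theorem result {Γ : Type*} [Group Γ] [Fintype Γ] (G S : Subgroup Γ) [Fintype G] (hnorm : ∀ s ∈ S, ∀ g ∈ G, s * g * s⁻¹ ∈ G) (hcop : (Nat.card G).Coprime (Nat.card S)) (htop : G ⊔ S = ⊤) (hcyc : IsCyclic S) (C : Subgroup Γ) [Fintype C] (hC : C = G ⊓ Subgroup.centralizer (S : Set Γ)) (hCG : C ≤ G) : (∀ (χ : Cfsg.IrrCharacter G) (χh : Cfsg.IrrCharacter Γ), (∀ s ∈ S, ∀ g g' : G, (g' : Γ) = s * g * s⁻¹ → (χ : G → ℂ) g' = (χ : G → ℂ) g) → (∀ g : G, (χh : Γ → ℂ) g = (χ : G → ℂ) g) → (Cfsg.detOrder (χh : Γ → ℂ)).Coprime (Nat.card S) → (∃! βε : Cfsg.IrrCharacter C × ℤ, (βε.2 = 1 ∨ βε.2 = -1) ∧ ∀ c : C, ∀ s : Γ, Subgroup.zpowers s = S → (χh : Γ → ℂ) ((c : Γ) * s) = (βε.2 : ℂ) * (βε.1 : C → ℂ) c) ∧ ∀ β : Cfsg.IrrCharacter C, ∀ ε : ℤ, (ε = 1 ∨ ε = -1) → (∀ c : C, ∀ s : Γ, Subgroup.zpowers s = S → (χh : Γ → ℂ) ((c : Γ) * s) = (ε : ℂ) * (β : C → ℂ) c) → Cfsg.classInner (fun c : C => (χ : G → ℂ)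 ⟨c, hCG c.2⟩) (β : C → ℂ) ≠ 0) ∧ (∀ (χ χ' : Cfsg.IrrCharacter G) (χh χh' : Cfsg.IrrCharacter Γ), (∀ s ∈ S, ∀ g g' : G, (g' : Γ) = s * g * s⁻¹ → (χ : G → ℂ) g' = (χ : G → ℂ) g) → (∀ s ∈ S, ∀ g g' : G, (g' : Γ) = s * g * s⁻¹ → (χ' : G → ℂ) g' = (χ' : G → ℂ) g) → (∀ g : G, (χh : Γ → ℂ) g = (χ : G → ℂ) g) → (∀ g : G, (χh' : Γ → ℂ) g = (χ' : G → ℂ) g) → (Cfsg.detOrder (χh : Γ → ℂ)).Coprime (Nat.card S) → (Cfsg.detOrder (χh' : Γ → ℂ)).Coprime (Nat.card S) → ∀ β : Cfsg.IrrCharacter C, ∀ ε ε' : ℤ, (ε = 1 ∨ ε = -1) → (ε' = 1 ∨ ε' = -1) → (∀ c : C, ∀ s : Γ, Subgroup.zpowers s = S → (χh : Γ → ℂ) ((c : Γ) * s) = (ε : ℂ) * (β : C → ℂ) c) → (∀ c : C, ∀ s : Γ, Subgroup.zpowers s = S → (χh' : Γ → ℂ) ((c : Γ) * s) = (ε' : ℂ) * (β : C → ℂ) c) → χ = χ') ∧ (∀ β : Cfsg.IrrCharacter C, ∃ (χ : Cfsg.IrrCharacter G) (χh : Cfsg.IrrCharacter Γ) (ε : ℤ), (∀ s ∈ S, ∀ g g' : G, (g' : Γ) = s * g * s⁻¹ → (χ : G →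 ℂ) g' = (χ : G → ℂ) g) ∧ (∀ g : G, (χh : Γ → ℂ) g = (χ : G → ℂ) g) ∧ (Cfsg.detOrder (χh : Γ → ℂ)).Coprime (Nat.card S) ∧ (ε = 1 ∨ ε = -1) ∧ ∀ c : C, ∀ s : Γ, Subgroup.zpowers s = S → (χh : Γ → ℂ) ((c : Γ) * s) = (ε : ℂ) * (β : C → ℂ) c) := by
  classical
  have hC' : ∀ x, x ∈ C ↔ x ∈ G ∧ ∀ t ∈ S, t * x * t⁻¹ = x := fun x => hC ▸ inf_centralizer_spec x
  haveI hGn : G.Normal := by
    rw [← Subgroup.normalizer_eq_top_iff, eq_top_iff, ← htop]
    refine sup_le Subgroup.le_normalizer fun s hs => ?_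
    rw [Subgroup.mem_normalizer_iff]
    refine fun g => ⟨hnorm s hs g, fun h => ?_⟩
    have h1 := hnorm s⁻¹ (S.inv_mem hs) _ h
    simpa [mul_assoc] using h1
  obtain ⟨⟨s₀, hs₀'⟩, hgen⟩ := hcyc.exists_generator
  have hs₀ : Subgroup.zpowers s₀ = S := by
    refine le_antisymm ((Subgroup.zpowers_le).mpr hs₀') fun t ht => ?_
    obtain ⟨i, hi⟩ := hgen ⟨t, ht⟩
    exact ⟨i, by simpa using congrArg Subtype.val hi⟩
  have hInv : ∀ χ : Cfsg.IrrCharacter G,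
      (∀ s ∈ S, ∀ g g' : G, (g' : Γ) = s * g * s⁻¹ → (χ : G → ℂ) g' = (χ : G → ℂ) g) →
      ∀ (x : Γ) (g : G), (χ : G → ℂ) ⟨x * g * x⁻¹, hGn.conj_mem _ g.2 x⟩ = (χ : G → ℂ) g := by
    intro χ hχ
    have htopI : inertia G (χ : G → ℂ) = ⊤ := by
      rw [eq_top_iff, ← htop]
      exact sup_le (le_inertia G (irr_isClassFunction χ)) fun s hs =>
        funext fun g => hχ s hs g _ rfl
    intro x g
    exact congrFun ((mem_inertia_iff G).mp (htopI.symm ▸ Subgroup.mem_top x)) g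
  have hdetG : ∀ χ : Cfsg.IrrCharacter G, (Cfsg.detOrder (χ : G → ℂ)).Coprime (Nat.card S) := by
    intro χ
    obtain ⟨hl, hl1⟩ := isCharacter_detChar (irr_isCharacter χ)
    obtain ⟨lam, hlam⟩ := IsCharacter.exists_hom_of_apply_one hl hl1
    refine hcop.coprime_dvd_left (orderOf_dvd_of_pow_eq_one (funext fun g => ?_))
    rw [hlam, Pi.pow_apply, Pi.one_apply, ← Units.val_pow_eq_pow_val, ← map_pow, pow_card_eq_one',
      map_one, Units.val_one]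
  have hcore : ∀ (χ : Cfsg.IrrCharacter G) (χh : Cfsg.IrrCharacter Γ),
      (∀ s ∈ S, ∀ g g' : G, (g' : Γ) = s * g * s⁻¹ → (χ : G → ℂ) g' = (χ : G → ℂ) g) →
      (∀ g : G, (χh : Γ → ℂ) g = (χ : G → ℂ) g) →
      (Cfsg.detOrder (χh : Γ → ℂ)).Coprime (Nat.card S) →
      ∃ (β : Cfsg.IrrCharacter C) (ε : ℤ), (ε = 1 ∨ ε = -1) ∧
        ∀ c : C, ∀ s : Γ, Subgroup.zpowers s = S →
          (χh : Γ → ℂ) ((c : Γ) * s) = (ε : ℂ) * (β : C → ℂ) c := by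
    intro χ χh hi hr hd
    obtain ⟨h1, β, ε, hε, h2⟩ :=
      exists_signed_constituent hcop htop hC' (hInv χ hi) (hdetG χ) χh.2 hr hd hs₀
    exact ⟨β, ε, hε, fun c s hs => (h1 c s hs).trans (h2 c)⟩
  have hinj : ∀ (χ χ' : Cfsg.IrrCharacter G) (χh χh' : Cfsg.IrrCharacter Γ),
      (∀ g : G, (χh : Γ → ℂ) g = (χ : G → ℂ) g) → (∀ g : G, (χh' : Γ → ℂ) g = (χ' : G → ℂ) g) →
      ∀ (β : Cfsg.IrrCharacter C) (ε ε' : ℤ), (ε = 1 ∨ ε = -1) → (ε' = 1 ∨ ε' = -1) →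
        (∀ c : C, (χh : Γ → ℂ) ((c : Γ) * s₀) = (ε : ℂ) * (β : C → ℂ) c) →
        (∀ c : C, (χh' : Γ → ℂ) ((c : Γ) * s₀) = (ε' : ℂ) * (β : C → ℂ) c) → χ = χ' := by
    intro χ χ' χh χh' hr hr' β ε ε' hε hε' h h'
    by_contra hne
    have h1 := avgN_coset G S C hcop hC' hs₀
      (F := (χh : Γ → ℂ) * fun g => conj ((χh' : Γ → ℂ) g)) (fun g x => by
        simp only [Pi.mul_apply, IsCharacter.conj_apply (irr_isCharacter χh),
          IsCharacter.conj_apply (irr_isCharacter χh')])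
    rw [avgN_mul_conj_eq_zero χh.2 χh'.2 hr hr' hne] at h1
    have h2 : classInner ((ε : ℂ) • (β : C → ℂ)) ((ε' : ℂ) • (β : C → ℂ)) = 0 := by
      rw [Pi.zero_apply] at h1
      rw [h1]
      simp only [classInner, Pi.smul_apply, smul_eq_mul, Pi.mul_apply, h, h']
    rw [classInner_smul_left, classInner_smul_right, IsIrrCharacter.classInner_self β.2,
      map_intCast, mul_one] at h2
    rcases hε with rfl | rfl <;> rcases hε' with rfl | rfl <;> norm_num at h2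
  refine ⟨fun χ χh hi hr hd => ?_, ?_, ?_⟩
  · obtain ⟨β, ε, hε, hβ⟩ := hcore χ χh hi hr hd
    refine ⟨⟨(β, ε), ⟨hε, hβ⟩, ?_⟩, fun β' ε' hε' hβ' =>
      constituent_of_signed hC' hCG χh.2 hr hs₀ hε' fun c => hβ' c s₀ hs₀⟩
    rintro ⟨β', ε'⟩ ⟨hε', hβ'⟩
    have he : ∀ c : C, (ε' : ℂ) * (β' : C → ℂ) c = (ε : ℂ) * (β : C → ℂ) c := fun c =>
      (hβ' c s₀ hs₀).symm.trans (hβ c s₀ hs₀)
    have hfun : (ε' : ℂ) • (β' : C → ℂ) = (ε : ℂ) • (β : C → ℂ) := funext he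
    have hb : β' = β := by
      by_contra hne
      have h0 := congrArg (fun F : C → ℂ => classInner F (β : C → ℂ)) hfun
      simp only [classInner_smul_left, IsIrrCharacter.classInner_self β.2,
        IsIrrCharacter.classInner_ne β'.2 β.2 fun h => hne (Subtype.ext h), mul_one, mul_zero] at h0
      rcases hε with rfl | rfl <;> norm_num at h0
    subst hb
    have h1 := mul_right_cancel₀ (IsIrrCharacter.apply_one_ne_zero β'.2) (he 1)
    exact Prod.ext rfl (Int.cast_injective h1)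
  · intro χ χ' χh χh' _ _ hr hr' _ _ β ε ε' hε hε' h h'
    exact hinj χ χ' χh χh' hr hr' β ε ε' hε hε' (fun c => h c s₀ hs₀) (fun c => h' c s₀ hs₀)
  · haveI : Group.IsSolvable S := by
      haveI := hcyc
      exact Group.isSolvable_of_comm fun a b => (IsCyclic.commutative (α := S)).is_comm.comm a b
    haveI := Fintype.ofFinite (fixedSub (Cfsg.Agent.Lib.Glauberman.conjHom G S hnorm))
    have hidx := (coprime_complement G S hcop htop).1
    have hext : ∀ x : InvIrr (Cfsg.Agent.Lib.Glauberman.conjHom G S hnorm), ∃ (χh : Cfsg.IrrCharacter Γ)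
        (β : Cfsg.IrrCharacter C) (ε : ℤ),
        (∀ g : G, (χh : Γ → ℂ) g = (x.1 : G → ℂ) g) ∧
        (Cfsg.detOrder (χh : Γ → ℂ)).Coprime (Nat.card S) ∧ (ε = 1 ∨ ε = -1) ∧
        ∀ c : C, ∀ s : Γ, Subgroup.zpowers s = S →
          (χh : Γ → ℂ) ((c : Γ) * s) = (ε : ℂ) * (β : C → ℂ) c := by
      intro x
      have hi := (isInv_conjHom_iff hnorm _).mp x.2
      obtain ⟨d, -, hd, hdd⟩ := IsIrrCharacter.exists_degree_dvd x.1.2
      obtain ⟨χ₀, ⟨hirr, hres, hdo⟩, -⟩ := S0867.result G (x.1 : G → ℂ) x.1.2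
        (fun y g => hInv x.1 hi y g) d hd (by
          rw [hidx]
          exact ((hdetG x.1).mul_left (hcop.coprime_dvd_left hdd)).symm)
      have hd0 : (Cfsg.detOrder χ₀).Coprime (Nat.card S) := hdo ▸ hdetG x.1
      obtain ⟨β, ε, hε, hβ⟩ := hcore x.1 ⟨χ₀, hirr⟩ hi hres hd0
      exact ⟨⟨χ₀, hirr⟩, β, ε, hres, hd0, hε, hβ⟩
    choose χh β ε hres hdet hε hval using hext
    have hinjβ : Function.Injective β := fun x y h =>
      Subtype.ext (hinj x.1 y.1 (χh x) (χh y) (hres x) (hres y) (β x) (ε x) (ε y) (hε x) (hε y)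
        (fun c => hval x c s₀ hs₀) (fun c => (hval y c s₀ hs₀).trans (by rw [h])))
    have hcard : Nat.card (InvIrr (Cfsg.Agent.Lib.Glauberman.conjHom G S hnorm)) = Nat.card (Cfsg.IrrCharacter C) := by
      rw [card_invIrr_eq_card_classes_fixed _ hcop.symm, ← card_irrCharacter]
      exact (Nat.card_congr (irrEquiv (fixedEquiv hnorm hC'))).symm
    intro b
    obtain ⟨x, rfl⟩ := (hinjβ.bijective_of_nat_card_le hcard.ge).2 b
    exact ⟨x.1, χh x, ε x, (isInv_conjHom_iff hnorm _).mp x.2, hres x, hdet x, hε x, hval x⟩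

end Cfsg.Agent.S4446
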