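import Cfsg.Statements.S4448
import Cfsg.Agent.Lib.Glauberman.AboveSolvable
-- import your own Cfsg.Agent.* helpers here

set_option autoImplicit false
open Cfsg Cfsg.Agent.Lib.Glauberman

namespace Cfsg.Agent.S4448

/-- Inside a finite group Γ let S normalise G and also normalise a normal subgroup N of G, with the order of S coprime to the index of N in G and G/N solvable. Then for every S-invariant irreducible character ϑ of N, the induced character ϑ^G has an S-invariant irreducible constituent. -/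
theorem result {Γ : Type*} [Group Γ] [Fintype Γ] (G S N : Subgroup Γ) [Fintype G] [Fintype N] (hnorm : ∀ s ∈ S, ∀ g ∈ G, s * g * s⁻¹ ∈ G) (hNG : N ≤ G) [hNn : (N.subgroupOf G).Normal] (hNS : ∀ s ∈ S, ∀ n ∈ N, s * n * s⁻¹ ∈ N) (hcop : (N.relIndex G).Coprime (Nat.card S)) (hsolv : Group.IsSolvable (G ⧸ N.subgroupOf G)) (θ : Cfsg.IrrCharacter N) (hinv : (∀ s ∈ S, ∀ g g' : N, (g' : Γ) = s * g * s⁻¹ → (θ : N → ℂ) g' = (θ : N → ℂ) g)) : ∃ χ : Cfsg.IrrCharacter G, Cfsg.classInner (fun n : N => (χ : G → ℂ) ⟨n, hNG n.2⟩) (θ : N → ℂ) ≠ 0 ∧ (∀ s ∈ S, ∀ g g' : G, (g' : Γ) = s * g * s⁻¹ → (χ : G → ℂ) g' = (χ : G → ℂ) g) := by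
  have hTG : S ≤ Subgroup.normalizer (G : Set Γ) := fun s hs =>
    Subgroup.mem_normalizer_iff.2 fun x => ⟨fun hx => hnorm s hs x hx, fun hx => by
      simpa [mul_assoc] using hnorm s⁻¹ (S.inv_mem hs) _ hx⟩
  have hTN : S ≤ Subgroup.normalizer (N : Set Γ) := fun s hs =>
    Subgroup.mem_normalizer_iff.2 fun x => ⟨fun hx => hNS s hs x hx, fun hx => by
      simpa [mul_assoc] using hNS s⁻¹ (S.inv_mem hs) _ hx⟩
  have hcopT : (N.relIndex G).Coprime (N.relIndex S) :=
    hcop.coprime_dvd_right (Subgroup.index_dvd_card _)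
  have hSGN : S ⊓ G ≤ N := by
    intro x hx
    have h1 : orderOf x ∣ Nat.card S := Subgroup.orderOf_dvd_natCard S hx.1
    have h2 : (⟨x, hx.2⟩ : G) ^ N.relIndex G ∈ N.subgroupOf G :=
      Subgroup.pow_index_mem (N.subgroupOf G) _
    obtain ⟨m, hm⟩ := exists_pow_eq_self_of_coprime (x := x) (hcop.coprime_dvd_right h1)
    rw [← hm]
    exact N.pow_mem h2 m
  exact exists_invariant_above_solvable G N S hNG hTG hTN hSGN hcopT hsolv θ hinv

end Cfsg.Agent.S4448
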