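import Cfsg.Statements.S4449
import Cfsg.Agent.Lib.Glauberman.Conj
import Cfsg.Agent.Lib.Glauberman.Above
-- import your own Cfsg.Agent.* helpers here

set_option autoImplicit false
open Cfsg Cfsg.Agent.Lib.Glauberman
open Cfsg.Agent.Lib.BrauerPairs (transIrr)

namespace Cfsg.Agent.S4449

/-- Inside a finite group Γ let the solvable subgroup S normalise G with the orders of G and S coprime, and let N be a normal subgroup of G normalised by S. Then for every S-invariant irreducible character ϑ of N, the induced character ϑ^G has an S-invariant irreducible constituent. -/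
theorem result {Γ : Type*} [Group Γ] [Fintype Γ] (G S N : Subgroup Γ) [Fintype G] [Fintype N] (hnorm : ∀ s ∈ S, ∀ g ∈ G, s * g * s⁻¹ ∈ G) (hNG : N ≤ G) (hNnormal : ∀ g ∈ G, ∀ n ∈ N, g * n * g⁻¹ ∈ N) (hNS : ∀ s ∈ S, ∀ n ∈ N, s * n * s⁻¹ ∈ N) (hcop : (Nat.card G).Coprime (Nat.card S)) (hsolv : Group.IsSolvable S) (θ : Cfsg.IrrCharacter N) (hinv : (∀ s ∈ S, ∀ g g' : N, (g' : Γ) = s * g * s⁻¹ → (θ : N → ℂ) g' = (θ : N → ℂ) g)) : ∃ χ : Cfsg.IrrCharacter G, Cfsg.classInner (fun n : N => (χ : G → ℂ) ⟨n, hNG n.2⟩) (θ : N → ℂ) ≠ 0 ∧ (∀ s ∈ S, ∀ g g' : G, (g' : Γ) = s * g * s⁻¹ → (χ : G → ℂ) g' = (χ : G → ℂ) g) := by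
  haveI := hsolv
  haveI : (N.subgroupOf G).Normal := ⟨fun n hn g => by
    rw [Subgroup.mem_subgroupOf] at hn ⊢
    simpa using hNnormal g g.2 n hn⟩
  haveI : Fintype (N.subgroupOf G) := Fintype.ofFinite _
  let i : N.subgroupOf G ≃* N := Subgroup.subgroupOfEquivOfLe hNG
  let θ' := transIrr i.symm θ
  have hN' : ∀ (a : S), ∀ m ∈ N.subgroupOf G, conjHom G S hnorm a m ∈ N.subgroupOf G := fun a m hm => by
    rw [Subgroup.mem_subgroupOf] at hm ⊢
    exact hNS a a.2 m hm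
  have hθ' : IsInv (restrictAct (conjHom G S hnorm) _ hN') (θ' : N.subgroupOf G → ℂ) := fun a m =>
    hinv a a.2 (i m) (i (restrictAct (conjHom G S hnorm) _ hN' a m)) rfl
  obtain ⟨χ, hχ⟩ := exists_invariant_above (conjHom G S hnorm) _ hN' θ' hcop.symm hθ'
  refine ⟨χ.1, fun h => hχ ?_, (isInv_conjHom_iff hnorm _).1 χ.2⟩
  rw [← h, classInner, classInner, Nat.card_congr i.toEquiv]
  congr 1
  exact Fintype.sum_equiv i.toEquiv _ _ fun m => rfl

end Cfsg.Agent.S4449
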