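import Cfsg.Statements.S4450
import Cfsg.Agent.Lib.Glauberman.InvariantLayer
import Cfsg.Agent.Lib.Glauberman.AboveSolvable
-- import your own Cfsg.Agent.* helpers here

set_option autoImplicit false
open Cfsg Cfsg.Agent.Lib.Glauberman Cfsg.Agent.Lib.Characters

namespace Cfsg.Agent.S4450

/-- Let N ≤ G be normal subgroups of the finite group Γ with the index of G in Γ coprime to the index of N in G, and Γ/G or G/N solvable. Then for every irreducible character ϑ of N invariant under conjugation by Γ, the induced character ϑ^G has an irreducible constituent invariant under conjugation by Γ. -/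
theorem result {Γ : Type*} [Group Γ] [Fintype Γ] (G N : Subgroup Γ) [hG : G.Normal] [hN : N.Normal] [Fintype G] [Fintype N] (hNG : N ≤ G) (hcop : (G.index).Coprime (N.relIndex G)) (hsolv : Group.IsSolvable (Γ ⧸ G) ∨ Group.IsSolvable (G ⧸ N.subgroupOf G)) (θ : Cfsg.IrrCharacter N) (hinv : ∀ (x : Γ) (n : N), (θ : N → ℂ) ⟨x * n * x⁻¹, hN.conj_mem n n.2 x⟩ = (θ : N → ℂ) n) : ∃ χ : Cfsg.IrrCharacter G, Cfsg.classInner (fun n : N => (χ : G → ℂ) ⟨n, hNG n.2⟩) (θ : N → ℂ) ≠ 0 ∧ ∀ (x : Γ) (g : G), (χ : G → ℂ) ⟨x * g * x⁻¹, hG.conj_mem g g.2 x⟩ = (χ : G → ℂ) g := by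
  classical
  rcases hsolv with hs | hs
  · obtain ⟨χ, h1, h2⟩ := exists_invariant_layer_of_solvable_quotient G N hNG hcop hs θ hinv
    exact ⟨χ, h1, fun x g => h2 x g _ rfl⟩
  let mk : Γ →* Γ ⧸ N := QuotientGroup.mk' N
  let G' : Subgroup (Γ ⧸ N) := G.map mk
  haveI : G'.Normal := Subgroup.Normal.map hG _ (QuotientGroup.mk'_surjective _)
  have hidx : G'.index = G.index :=
    Subgroup.index_map_eq G (QuotientGroup.mk'_surjective _) (by
      rw [QuotientGroup.ker_mk']; exact hNG)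
  have hcard : Nat.card G' = N.relIndex G := by
    rw [← Subgroup.relIndex_bot_left G', ← Subgroup.map_bot mk, Subgroup.relIndex_map_map,
      bot_sup_eq, QuotientGroup.ker_mk', sup_eq_left.2 hNG]
  obtain ⟨A, hA⟩ := Subgroup.exists_right_complement'_of_coprime (N := G')
    (by rw [hcard, hidx]; exact hcop.symm)
  let T : Subgroup Γ := A.comap mk
  have hTGN : T ⊓ G ≤ N := fun x hx =>
    (QuotientGroup.eq_one_iff x).1 (Subgroup.mem_bot.1 (hA.disjoint.le_bot ⟨⟨x, hx.2, rfl⟩, hx.1⟩))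
  have hNT : N ≤ T := fun x hx => by
    show mk x ∈ A
    rw [show mk x = 1 from (QuotientGroup.eq_one_iff x).2 hx]
    exact A.one_mem
  have hrelT : N.relIndex T = G.index := by
    rw [← hidx, hA.symm.index_eq_card, ← Subgroup.relIndex_bot_left A,
      ← Subgroup.map_bot mk, ← Subgroup.map_comap_eq_self_of_surjective
        (QuotientGroup.mk'_surjective N) A, Subgroup.relIndex_map_map, bot_sup_eq,
      QuotientGroup.ker_mk', sup_eq_left.2 hNT]
  obtain ⟨χ, h1, h2⟩ := exists_invariant_above_solvable G N T hNG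
    (fun t _ => by rw [Subgroup.normalizer_eq_top]; exact Subgroup.mem_top t)
    (fun t _ => by rw [Subgroup.normalizer_eq_top]; exact Subgroup.mem_top t) hTGN
    (by rw [hrelT]; exact hcop.symm) hs θ (fun t _ g g' hg => by
      rw [show g' = ⟨t * g * t⁻¹, hN.conj_mem g g.2 t⟩ from Subtype.ext hg]
      exact hinv t g)
  refine ⟨χ, h1, fun x g => ?_⟩
  obtain ⟨⟨u, a⟩, hua⟩ := hA.2 (mk x)
  obtain ⟨y, hy, hyu⟩ := u.2
  have ht : y⁻¹ * x ∈ T := by
    show mk (y⁻¹ * x) ∈ A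
    rw [map_mul, map_inv, hyu, ← hua]
    simp
  refine Eq.trans (congrArg (χ : G → ℂ) (Subtype.ext ?_))
    ((irr_isClassFunction χ
      ⟨(y⁻¹ * x) * g * (y⁻¹ * x)⁻¹, hG.conj_mem g g.2 (y⁻¹ * x)⟩ ⟨y, hy⟩).trans (h2 _ ht g _ rfl))
  show x * (g : Γ) * x⁻¹ = y * (y⁻¹ * x * g * (y⁻¹ * x)⁻¹) * y⁻¹
  group

end Cfsg.Agent.S4450
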