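import Cfsg.Statements.S4451
import Cfsg.Agent.Lib.CharMisc.FreeCyclicAction
-- import your own Cfsg.Agent.* helpers here

set_option autoImplicit false
open Cfsg

namespace Cfsg.Agent.S4451

/-- Let the finite group Γ be generated by a normal subgroup G and a cyclic subgroup S of coprime orders such that every non-identity element of S has the same centraliser C = G ⊓ C(S) in G. Let χ be an S-invariant irreducible character of G, χ̂ its canonical extension to Γ (determinantal order coprime to the order of S), and β the irreducible character of C with χ̂(c s) = ε₀ β(c) for c ∈ C and generators s of S (ε₀ = ±1). Then there are a sign ε = ±1, which may differ from ε₀, and a linear character μ of S with μ² = 1, such that: (a) χ̂(c x) = ε β(c) μ(x) for all c ∈ C and all x ∈ S other than 1; (b) the restriction of χ to C equals |S|·ϑ + ε β for some character ϑ of C or ϑ = 0; (c)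 |S| divides χ(1) − ε β(1). -/
theorem result {Γ : Type*} [Group Γ] [Fintype Γ] (G S : Subgroup Γ) [Fintype G] (hnorm : ∀ s ∈ S, ∀ g ∈ G, s * g * s⁻¹ ∈ G) (hcop : (Nat.card G).Coprime (Nat.card S)) (htop : G ⊔ S = ⊤) (hcyc : IsCyclic S) (C : Subgroup Γ) [Fintype C] (hC : C = G ⊓ Subgroup.centralizer (S : Set Γ)) (hCG : C ≤ G) (hfpf : ∀ x ∈ S, x ≠ 1 → G ⊓ Subgroup.centralizer ({x} : Set Γ) = C) (χ : Cfsg.IrrCharacter G) (hinv : (∀ s ∈ S, ∀ g g' : G, (g' : Γ) = s * g * s⁻¹ → (χ : G → ℂ) g' = (χ : G → ℂ) g)) (χh : Cfsg.IrrCharacter Γ) (hext : (∀ g : G, (χh : Γ → ℂ) g = (χ : G → ℂ) g)) (hdet : (Cfsg.detOrder (χh : Γ → ℂ)).Coprime (Nat.card S)) (β : Cfsg.IrrCharacter C) (ε₀ : ℤ) (hε₀ : ε₀ = 1 ∨ ε₀ = -1) (hβ : ∀ c : C, ∀ s : Γ, Subgroup.zpowers s = S → (χh : Γ → ℂ) ((c : Γ) * s) = (ε₀ : ℂ) * (β : C → ℂ) c) : ∃ ε : ℤ, (ε = 1 ∨ ε = -1) ∧ (∃ μ : S → ℂ, Cfsg.IsCharacter S μ ∧ μ 1 = 1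 ∧ (∀ x : S, μ x * μ x = 1) ∧ ∀ c : C, ∀ x : S, x ≠ 1 → (χh : Γ → ℂ) ((c : Γ) * x) = (ε : ℂ) * (β : C → ℂ) c * μ x) ∧ (∃ ϑ : C → ℂ, Cfsg.IsCharacter C ϑ ∧ (fun c : C => (χ : G → ℂ) ⟨c, hCG c.2⟩) = fun c => (Nat.card S : ℂ) * ϑ c + (ε : ℂ) * (β : C → ℂ) c) ∧ (Nat.card S : ℤ) ∣ (Cfsg.charDegree (χ : G → ℂ) : ℤ) - ε * (Cfsg.charDegree (β : C → ℂ) : ℤ) := by
  classical
  haveI : Fintype S := Fintype.ofFinite S
  have hC' : ∀ x, x ∈ C ↔ x ∈ G ∧ ∀ t ∈ S, t * x * t⁻¹ = x := fun x =>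
    hC ▸ Cfsg.Agent.Lib.Glauberman.inf_centralizer_spec x
  haveI hGn : G.Normal := by
    rw [← Subgroup.normalizer_eq_top_iff, eq_top_iff, ← htop]
    refine sup_le Subgroup.le_normalizer fun s hs => ?_
    rw [Subgroup.mem_normalizer_iff]
    refine fun g => ⟨hnorm s hs g, fun h => ?_⟩
    have h1 := hnorm s⁻¹ (S.inv_mem hs) _ h
    simpa [mul_assoc] using h1
  obtain ⟨⟨s₀, hs₀'⟩, hgen⟩ := hcyc.exists_generator
  have hs₀ : Subgroup.zpowers s₀ = S := by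
    refine le_antisymm ((Subgroup.zpowers_le).mpr hs₀') fun t ht => ?_
    obtain ⟨i, hi⟩ := hgen ⟨t, ht⟩
    exact ⟨i, by simpa using congrArg Subtype.val hi⟩
  have hres : (fun g : G => (χh : Γ → ℂ) g) = (χ : G → ℂ) := funext hext
  have hres' : (fun c : C => (χ : G → ℂ) ⟨c, hCG c.2⟩) = fun c : C => (χh : Γ → ℂ) c :=
    funext fun c => (hext ⟨c, hCG c.2⟩).symm
  obtain ⟨dχ, hdχ⟩ : ∃ d : ℕ, (χ : G → ℂ) 1 = (d : ℂ) ∧ Cfsg.charDegree (χ : G → ℂ) = d :=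
    ⟨_, Cfsg.Agent.Lib.BlockHeights.irr_apply_one χ, rfl⟩
  have hdiv : ∀ (ε : ℤ) (ϑ : C → ℂ), Cfsg.IsCharacter C ϑ →
      (fun c : C => (χ : G → ℂ) ⟨c, hCG c.2⟩) =
        (fun c => (Nat.card S : ℂ) * ϑ c + (ε : ℂ) * (β : C → ℂ) c) →
      (Nat.card S : ℤ) ∣ (Cfsg.charDegree (χ : G → ℂ) : ℤ)
        - ε * (Cfsg.charDegree (β : C → ℂ) : ℤ) := by
    intro ε ϑ hϑ heq
    refine ⟨(Cfsg.charDegree ϑ : ℤ), ?_⟩
    have h := congrFun heq 1
    rw [Cfsg.Agent.Lib.BlockHeights.irr_apply_one β,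
      Cfsg.Agent.Lib.BlockHeights.apply_one_eq_charDegree hϑ,
      show (⟨((1 : C) : Γ), hCG (1 : C).2⟩ : G) = 1 from rfl,
      Cfsg.Agent.Lib.BlockHeights.irr_apply_one χ] at h
    have h2 : (Cfsg.charDegree (χ : G → ℂ) : ℤ) = (Nat.card S : ℤ) * Cfsg.charDegree ϑ
        + ε * Cfsg.charDegree (β : C → ℂ) := by exact_mod_cast h
    rw [h2]; ring
  by_cases hs₁ : s₀ = 1
  · have hS : S = ⊥ := by rw [← hs₀, hs₁, Subgroup.zpowers_one_eq_bot]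
    have hone : ∀ x : S, x = 1 := fun x => Subtype.ext (Subgroup.mem_bot.mp (hS ▸ x.2))
    have h1 : ∀ c : C, (χh : Γ → ℂ) c = (ε₀ : ℂ) * (β : C → ℂ) c := fun c => by
      have h := hβ c 1 (by rw [Subgroup.zpowers_one_eq_bot, hS])
      rwa [mul_one] at h
    have hε : ε₀ = 1 := by
      refine hε₀.resolve_right fun h => ?_
      have h2 := h1 1
      rw [Subgroup.coe_one, Cfsg.Agent.Lib.BlockHeights.irr_apply_one χh,
        Cfsg.Agent.Lib.BlockHeights.irr_apply_one β, h] at h2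
      have h3 : (Cfsg.charDegree (χh : Γ → ℂ) : ℤ) = -1 * Cfsg.charDegree (β : C → ℂ) := by
        exact_mod_cast h2
      have h4 := Cfsg.Agent.Lib.BlockHeights.charDegree_irr_pos χh
      omega
    have heq : (fun c : C => (χ : G → ℂ) ⟨c, hCG c.2⟩) =
        fun c => (Nat.card S : ℂ) * (0 : C → ℂ) c + ((1 : ℤ) : ℂ) * (β : C → ℂ) c := by
      rw [hres']
      funext c
      rw [h1, hε]; simp
    refine ⟨1, Or.inl rfl, ⟨fun _ => 1,
      Cfsg.Agent.Lib.Characters.IsIrrCharacter.isCharacter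
        Cfsg.Agent.Lib.Characters.isIrrCharacter_one,
      rfl, fun _ => one_mul 1, fun c x hx => absurd (hone x) hx⟩,
      ⟨0, Cfsg.Agent.Lib.Characters.isCharacter_zero, heq⟩,
      hdiv 1 0 Cfsg.Agent.Lib.Characters.isCharacter_zero heq⟩
  obtain ⟨δ, lam, hδ, hsq, hval, ϑ, hϑ, heq⟩ :=
    Cfsg.Agent.Lib.CharMisc.free_action_spec hcop hC' (fun x hx hx1 => (hfpf x hx hx1).le)
      χh.2 (hres ▸ χ.2) hs₀ hs₁ hε₀ (fun c => hβ c s₀ hs₀)
  have heq' : (fun c : C => (χ : G → ℂ) ⟨c, hCG c.2⟩) =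
      fun c => (Nat.card S : ℂ) * ϑ c + (δ : ℂ) * (β : C → ℂ) c := hres'.trans heq
  refine ⟨δ, hδ, ⟨fun x => (lam x : ℂ), Cfsg.Agent.Lib.Characters.IsIrrCharacter.isCharacter
    (Cfsg.Agent.Lib.Characters.isIrrCharacter_unitsHom lam), by simp,
    hsq, hval⟩, ⟨ϑ, hϑ, heq'⟩, hdiv δ ϑ hϑ heq'⟩

end Cfsg.Agent.S4451
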