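import Cfsg.Statements.S4452
import Cfsg.Agent.Lib.Glauberman.Conj
import Cfsg.Agent.Lib.Glauberman.CoprimeDegree
-- import your own Cfsg.Agent.* helpers here

set_option autoImplicit false
open Cfsg Cfsg.Agent.Lib.Glauberman Cfsg.Agent.Lib.Characters

namespace Cfsg.Agent.S4452

/-- Let the finite group G be the product of a normal subgroup K and a solvable subgroup H of coprime orders, and let N = N_G(H). Then the number of irreducible characters of G of degree coprime to the order of H equals the number of irreducible characters of N of degree coprime to the order of H. (The two sets are in fact in a canonical bijection; only the equality of their sizes is stated here.) -/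
theorem result {G : Type*} [Group G] [Finite G] (K H : Subgroup G) [K.Normal] (hKH : K ⊔ H = ⊤) (hcop : (Nat.card K).Coprime (Nat.card H)) (hsolv : Group.IsSolvable H) : Nat.card {χ : Cfsg.IrrCharacter G // (Cfsg.charDegree (χ : G → ℂ)).Coprime (Nat.card H)} = Nat.card {η : Cfsg.IrrCharacter (Subgroup.normalizer (H : Set G)) // (Cfsg.charDegree (η : Subgroup.normalizer (H : Set G) → ℂ)).Coprime (Nat.card H)} := by
  classical
  haveI := Fintype.ofFinite G
  haveI := Fintype.ofFinite K
  haveI := hsolv
  have hdis : K ⊓ H = ⊥ := Subgroup.inf_eq_bot_of_coprime hcop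
  have hidx : ∀ {X : Type _} [Group X] (K₀ H₀ : Subgroup X) [K₀.Normal], K₀ ⊔ H₀ = ⊤ →
      K₀ ⊓ H₀ = ⊥ → K₀.index = Nat.card H₀ := fun K₀ H₀ _ hs hd => by
    rw [← Subgroup.relIndex_top_right, ← hs, Subgroup.relIndex_sup_left,
      ← Subgroup.inf_relIndex_right, hd, Subgroup.relIndex_bot_left]
  let N := Subgroup.normalizer (H : Set G)
  have hHN : H ≤ N := Subgroup.le_normalizer
  have hcent : ∀ k ∈ K, k ∈ N → ∀ h ∈ H, h * k * h⁻¹ = k := fun k hk hkN h hh => by
    have h1 : h * k * h⁻¹ * k⁻¹ ∈ K ⊓ H := by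
      refine ⟨K.mul_mem (‹K.Normal›.conj_mem k hk h) (K.inv_mem hk), ?_⟩
      rw [show h * k * h⁻¹ * k⁻¹ = h * (k * h⁻¹ * k⁻¹) by group]
      exact H.mul_mem hh (((Subgroup.mem_normalizer_iff.1 hkN) h⁻¹).1 (H.inv_mem hh))
    rw [hdis, Subgroup.mem_bot, mul_inv_eq_one] at h1
    exact h1
  have hKH' : K.subgroupOf N ⊔ H.subgroupOf N = ⊤ := by
    refine top_unique fun x _ => ?_
    obtain ⟨k, hk, h, hh, hx⟩ := Subgroup.mem_sup_of_normal_left.1
      (show (x : G) ∈ K ⊔ H by rw [hKH]; trivial)
    have hkN : k ∈ N := by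
      rw [eq_mul_inv_of_mul_eq hx]
      exact N.mul_mem x.2 (N.inv_mem (hHN hh))
    rw [show x = (⟨k, hkN⟩ : N) * ⟨h, hHN hh⟩ from Subtype.ext hx.symm]
    exact Subgroup.mul_mem _ (Subgroup.mem_sup_left hk) (Subgroup.mem_sup_right hh)
  have hdis' : K.subgroupOf N ⊓ H.subgroupOf N = ⊥ := by
    rw [eq_bot_iff]
    intro x hx
    exact Subgroup.mem_bot.2 (Subtype.ext (Subgroup.mem_bot.1 (hdis ▸ ⟨hx.1, hx.2⟩)))
  have hcardH : Nat.card (H.subgroupOf N) = Nat.card H :=
    Nat.card_congr (Subgroup.subgroupOfEquivOfLe hHN).toEquiv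
  have hKi : K.index = Nat.card H := hidx K H hKH hdis
  have hKi' : (K.subgroupOf N).index = Nat.card H := by rw [hidx _ _ hKH' hdis', hcardH]
  have hcop' : (Nat.card (K.subgroupOf N)).Coprime (K.subgroupOf N).index := by
    rw [hKi']
    refine hcop.coprime_dvd_left ?_
    exact Subgroup.card_dvd_of_injective
      ({ toFun := fun x => ⟨((x : N) : G), x.2⟩, map_one' := rfl, map_mul' := fun _ _ => rfl } :
        K.subgroupOf N →* K) fun x y h => Subtype.ext (Subtype.ext
        (congrArg (fun z : K => (z : G)) h))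
  have hG := card_degree_coprime K (hKi.symm ▸ hcop)
  have hN := card_degree_coprime (K.subgroupOf N) hcop'
  rw [hKi] at hG
  rw [hKi'] at hN
  show _ = Nat.card {η : Cfsg.IrrCharacter N // (Cfsg.charDegree (η : N → ℂ)).Coprime (Nat.card H)}
  rw [hG, hN, card_linear_of_complement K H hKH hdis,
    card_linear_of_complement _ (H.subgroupOf N) hKH' hdis']
  congr 1
  · -- invariant characters and classes of the fixed points
    have hnorm : ∀ h ∈ H, ∀ k ∈ K, h * k * h⁻¹ ∈ K := fun h _ k hk =>
      ‹K.Normal›.conj_mem k hk h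
    haveI : Fintype (fixedSub (conjHom K H hnorm)) := Fintype.ofFinite _
    let i : K.subgroupOf N ≃* fixedSub (conjHom K H hnorm) :=
      { toFun := fun x => ⟨⟨((x : N) : G), x.2⟩,
          (mem_fixedSub_conjHom hnorm).2 fun h hh => hcent _ x.2 (x : N).2 h hh⟩
        invFun := fun y => ⟨⟨((y : K) : G), Subgroup.mem_normalizer_iff.2 fun h => by
          have hy := (mem_fixedSub_conjHom hnorm).1 y.2
          constructor
          · intro hh
            rw [show ((y : K) : G) * h * ((y : K) : G)⁻¹ = h by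
              rw [mul_inv_eq_iff_eq_mul]; nth_rw 1 [← hy h hh]; group]
            exact hh
          · intro hh
            have h2 := hy _ hh
            rw [show h = ((y : K) : G) * h * ((y : K) : G)⁻¹ from ?_]
            · exact hh
            · calc h = ((y : K) : G)⁻¹ * (((y : K) : G) * h * ((y : K) : G)⁻¹ * ((y : K) : G) *
                  (((y : K) : G) * h * ((y : K) : G)⁻¹)⁻¹) *
                  (((y : K) : G) * h * ((y : K) : G)⁻¹) := by group
                _ = ((y : K) : G) * h * ((y : K) : G)⁻¹ := by rw [h2]; group⟩, (y : K).2⟩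
        left_inv := fun _ => rfl
        right_inv := fun _ => rfl
        map_mul' := fun _ _ => rfl }
    have hL : Nat.card {θ : Cfsg.IrrCharacter K //
        ∀ g : G, conjFun K g (θ : K → ℂ) = (θ : K → ℂ)} =
        Nat.card (InvIrr (conjHom K H hnorm)) := by
      refine Nat.card_congr (Equiv.subtypeEquivRight fun θ => ⟨fun h a k => ?_, fun h g => ?_⟩)
      · exact congrFun (h (a : G)) k
      · funext n
        obtain ⟨k, hk, t, ht, rfl⟩ := Subgroup.mem_sup_of_normal_left.1
          (show g ∈ K ⊔ H by rw [hKH]; trivial)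
        refine Eq.trans ?_ ((irr_isClassFunction θ (conjHom K H hnorm ⟨t, ht⟩ n) ⟨k, hk⟩).trans
          (h ⟨t, ht⟩ n))
        refine congrArg (θ : K → ℂ) (Subtype.ext ?_)
        show k * t * n * (k * t)⁻¹ = k * (t * n * t⁻¹) * k⁻¹
        group
    have hR : Nat.card {θ : Cfsg.IrrCharacter (K.subgroupOf N) //
        ∀ g : N, conjFun (K.subgroupOf N) g (θ : K.subgroupOf N → ℂ) = (θ : K.subgroupOf N → ℂ)} =
        Nat.card (Cfsg.IrrCharacter (K.subgroupOf N)) := by
      refine Nat.card_congr (Equiv.subtypeUnivEquiv fun θ g => ?_)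
      funext n
      obtain ⟨k, hk, t, ht, rfl⟩ := Subgroup.mem_sup_of_normal_left.1
        (show g ∈ K.subgroupOf N ⊔ H.subgroupOf N by rw [hKH']; trivial)
      refine Eq.trans ?_ (irr_isClassFunction θ n ⟨k, hk⟩)
      refine congrArg (θ : K.subgroupOf N → ℂ) (Subtype.ext (Subtype.ext ?_))
      show (k : G) * t * ((n : N) : G) * ((k : G) * t)⁻¹ = (k : G) * ((n : N) : G) * (k : G)⁻¹
      calc (k : G) * t * ((n : N) : G) * ((k : G) * t)⁻¹ =
          (k : G) * ((t : G) * ((n : N) : G) * (t : G)⁻¹) * (k : G)⁻¹ := by group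
        _ = _ := by rw [hcent ((n : N) : G) n.2 (n : N).2 (t : G) ht]
    rw [hL, hR, card_invIrr_eq_card_classes_fixed _ hcop.symm, ← card_irrCharacter]
    exact (Nat.card_congr (irrEquiv i)).symm
  · let e := Subgroup.subgroupOfEquivOfLe hHN
    exact Nat.card_congr
      { toFun := fun m => m.comp e.toMonoidHom
        invFun := fun m => m.comp e.symm.toMonoidHom
        left_inv := fun m => MonoidHom.ext fun h => by simp
        right_inv := fun m => MonoidHom.ext fun h => by simp }

end Cfsg.Agent.S4452
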