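import Cfsg.Statements.S4453
import Cfsg.Agent.Lib.OddSection.Global
import Cfsg.Agent.Lib.Glauberman.Conj

set_option autoImplicit false
open Cfsg

namespace Cfsg.Agent.S4453

open Cfsg.Agent.Lib.Glauberman (conjHom isInv_conjHom_iff restrictAct IsInv)
open Cfsg.Agent.Lib.OddSection

/-- Inside a finite group Γ let S normalise the solvable subgroup G of odd order with the orders of G and S coprime, let C = G ⊓ C(S), and let L ≤ K be S-invariant normal subgroups of G with K/L abelian, G = KC and H = LC (so C ≤ H ≤ G). Then for each S-invariant irreducible character χ of G there is exactly one S-invariant irreducible character ψ of H whose multiplicity in the restriction of χ to H is odd, and χ ↦ ψ is a bijection from the S-invariant irreducible characters of G onto those of H (distinct χ give distinct ψ, and every S-invariant ψ arises). -/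
theorem result {Γ : Type*} [Group Γ] [Fintype Γ] (G S : Subgroup Γ) [Fintype G] (hnorm : ∀ s ∈ S, ∀ g ∈ G, s * g * s⁻¹ ∈ G) (hcop : (Nat.card G).Coprime (Nat.card S)) (hGsolv : Group.IsSolvable G) (hodd : Odd (Nat.card G)) (C : Subgroup Γ) [Fintype C] (hC : C = G ⊓ Subgroup.centralizer (S : Set Γ)) (hCG : C ≤ G) (K L H : Subgroup Γ) [Fintype H] (hLK : L ≤ K) (hKG : K ≤ G) (hKn : ∀ g ∈ G, ∀ k ∈ K, g * k * g⁻¹ ∈ K) (hLn : ∀ g ∈ G, ∀ l ∈ L, g * l * g⁻¹ ∈ L) (hKS : ∀ s ∈ S, ∀ k ∈ K, s * k * s⁻¹ ∈ K) (hLS : ∀ s ∈ S, ∀ l ∈ L, s * l * s⁻¹ ∈ L) (hab : ∀ a ∈ K, ∀ b ∈ K, a * b * a⁻¹ * b⁻¹ ∈ L) (hGKC : K ⊔ C = G) (hH : H = L ⊔ C) (hHG : H ≤ G) : (∀ χ : Cfsg.IrrCharacter G, (∀ s ∈ S, ∀ g g' : G, (g' : Γ) = s * g * s⁻¹ → (χ : G → ℂ) g' = (χ : G → ℂ) g) → ∃! ψ : Cfsg.IrrCharacter H, (∀ s ∈ S, ∀ g g' : H, (g' : Γ) = s * g * s⁻¹ → (ψ : H → ℂ) g' = (ψ : H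 → ℂ) g) ∧ ∃ m : ℕ, Cfsg.classInner (fun h : H => (χ : G → ℂ) ⟨h, hHG h.2⟩) (ψ : H → ℂ) = (m : ℂ) ∧ Odd m) ∧ (∀ χ χ' : Cfsg.IrrCharacter G, (∀ s ∈ S, ∀ g g' : G, (g' : Γ) = s * g * s⁻¹ → (χ : G → ℂ) g' = (χ : G → ℂ) g) → (∀ s ∈ S, ∀ g g' : G, (g' : Γ) = s * g * s⁻¹ → (χ' : G → ℂ) g' = (χ' : G → ℂ) g) → ∀ ψ : Cfsg.IrrCharacter H, (∀ s ∈ S, ∀ g g' : H, (g' : Γ) = s * g * s⁻¹ → (ψ : H → ℂ) g' = (ψ : H → ℂ) g) → ∀ m m' : ℕ, Cfsg.classInner (fun h : H => (χ : G → ℂ) ⟨h, hHG h.2⟩) (ψ : H → ℂ) = (m : ℂ) → Odd m → Cfsg.classInner (fun h : H => (χ' : G → ℂ) ⟨h, hHG h.2⟩) (ψ : H → ℂ) = (m' : ℂ) → Odd m' → χ = χ') ∧ (∀ ψ : Cfsg.IrrCharacter H, (∀ s ∈ S, ∀ g g' : H, (g' : Γ) = s * g * s⁻¹ → (ψ : H → ℂ) g' = (ψ : H → ℂ) g) → ∃ χ : Cfsg.IrrCharacter G, (∀ s ∈ S, ∀ g g' : G, (g' : Γ) = s * g * s⁻¹ → (χ : G → ℂ) g' = (χ : G → ℂ) g) ∧ ∃ m : ℕ, Cfsg.classInner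 (fun h : H => (χ : G → ℂ) ⟨h, hHG h.2⟩) (ψ : H → ℂ) = (m : ℂ) ∧ Odd m) := by
  classical
  let act := conjHom G S hnorm
  let H' := H.subgroupOf G
  haveI : Fintype H' := Fintype.ofFinite _
  haveI hKn' : (K.subgroupOf G).Normal := ⟨fun n hn g => hKn g g.2 n hn⟩
  haveI hLn' : (L.subgroupOf G).Normal := ⟨fun n hn g => hLn g g.2 n hn⟩
  have hLG : L ≤ G := hLK.trans hKG
  have hfixed : ∀ c : G, (∀ a, act a c = c) ↔ (c : Γ) ∈ C := by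
    intro c
    rw [hC, Subgroup.mem_inf, Subgroup.mem_centralizer_iff]
    constructor
    · refine fun h => ⟨c.2, fun s hs => ?_⟩
      have h1 : s * (c : Γ) * s⁻¹ = c := congrArg Subtype.val (h ⟨s, hs⟩)
      exact mul_inv_eq_iff_eq_mul.1 h1
    · intro h a
      refine Subtype.ext ?_
      show (a : Γ) * c * (a : Γ)⁻¹ = c
      rw [h.2 a a.2, mul_inv_cancel_right]
  have hsplit : ∀ N : Subgroup Γ, N ≤ G → (N.subgroupOf G).Normal → ∀ g : G, (g : Γ) ∈ N ⊔ C →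
      ∃ x ∈ N.subgroupOf G, ∃ c, (∀ a, act a c = c) ∧ g = x * c := by
    intro N hN hn g hg
    have h1 : g ∈ (N ⊔ C).subgroupOf G := hg
    rw [Subgroup.subgroupOf_sup hN hCG] at h1
    haveI := hn
    obtain ⟨x, hx, c, hc, he⟩ := Subgroup.mem_sup_of_normal_left.1 h1
    exact ⟨x, hx, c, (hfixed c).2 hc, he.symm⟩
  have hdec : ∀ h ∈ H', ∃ x ∈ L.subgroupOf G, ∃ c, (∀ a, act a c = c) ∧ h = x * c := fun h hh =>
    hsplit L hLG hLn' h (hH ▸ hh)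
  have hLH : L.subgroupOf G ≤ H' := fun x hx => by
    show (x : Γ) ∈ H
    rw [hH]
    exact Subgroup.mem_sup_left hx
  have hfH : ∀ c : G, (∀ a, act a c = c) → c ∈ H' := fun c hc => by
    show (c : Γ) ∈ H
    rw [hH]
    exact Subgroup.mem_sup_right ((hfixed c).1 hc)
  have hK' : ∀ a, ∀ k ∈ K.subgroupOf G, act a k ∈ K.subgroupOf G := fun a k hk => hKS a a.2 k hk
  have hL' : ∀ a, ∀ k ∈ L.subgroupOf G, act a k ∈ L.subgroupOf G := fun a k hk => hLS a a.2 k hk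
  obtain ⟨h1, h2, h3⟩ := odd_section_correspondence hGsolv hodd hcop act (K.subgroupOf G)
    (L.subgroupOf G) H' (fun x hx => hLK hx) hLH hK' hL' (fun a ha b hb => hab _ ha _ hb) hdec
    hfH
    (fun g => hsplit K hKG hKn' g (hGKC ▸ g.2))
  let e : H' ≃* H := Subgroup.subgroupOfEquivOfLe hHG
  let down : Cfsg.IrrCharacter H → Cfsg.IrrCharacter H' :=
    Cfsg.Agent.Lib.BrauerPairs.transIrr e.symm
  have hdinj : Function.Injective down := Cfsg.Agent.Lib.BrauerPairs.transIrr_injective e.symm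
  have hodd' : ∀ (χ : Cfsg.IrrCharacter G) (ψ : Cfsg.IrrCharacter H),
      OddMult H' (χ : G → ℂ) (down ψ : H' → ℂ) ↔
        ∃ m : ℕ, Cfsg.classInner (fun h : H => (χ : G → ℂ) ⟨h, hHG h.2⟩) (ψ : H → ℂ) = (m : ℂ) ∧ Odd m := by
    intro χ ψ
    unfold OddMult
    rw [← Cfsg.Agent.Lib.Glauberman.classInner_subgroupOf H G hHG (χ : G → ℂ) (ψ : H → ℂ)]
    rfl
  have hinv : ∀ ψ : Cfsg.IrrCharacter H,
      IsInv (restrictAct act H' (act_mem_of_decomp act hLH hL' hdec)) (down ψ : H' → ℂ) ↔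
        ∀ s ∈ S, ∀ g g' : H, (g' : Γ) = s * g * s⁻¹ → (ψ : H → ℂ) g' = (ψ : H → ℂ) g := by
    intro ψ
    constructor
    · intro h s hs g g' hg
      have h4 : (ψ : H → ℂ) (e (restrictAct act H' (act_mem_of_decomp act hLH hL' hdec) ⟨s, hs⟩ (e.symm g))) =
          (ψ : H → ℂ) (e (e.symm g)) := h ⟨s, hs⟩ (e.symm g)
      rw [e.apply_symm_apply] at h4
      rw [← h4]
      exact congrArg (ψ : H → ℂ) (Subtype.ext hg)
    · exact fun h a g => h a a.2 (e g) _ rfl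
  refine ⟨fun χ hχ => ?_, fun χ χ' hχ hχ' ψ hψ m m' hm hm1 hm' hm2 => ?_, fun ψ hψ => ?_⟩
  · obtain ⟨η, ⟨hηA, hηo⟩, hu⟩ := h1 χ ((isInv_conjHom_iff hnorm _).2 hχ)
    obtain ⟨ψ, rfl⟩ : ∃ ψ, down ψ = η :=
      ⟨Cfsg.Agent.Lib.BrauerPairs.transIrr e η, Cfsg.Agent.Lib.BrauerPairs.transIrr_symm e.symm η⟩
    exact ⟨ψ, ⟨(hinv ψ).1 hηA, (hodd' χ ψ).1 hηo⟩,
      fun ψ' hψ' => hdinj (hu _ ⟨(hinv ψ').2 hψ'.1, (hodd' χ ψ').2 hψ'.2⟩)⟩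
  · exact h2 χ χ' ((isInv_conjHom_iff hnorm _).2 hχ) ((isInv_conjHom_iff hnorm _).2 hχ') (down ψ)
      ((hinv ψ).2 hψ) ((hodd' χ ψ).2 ⟨m, hm, hm1⟩) ((hodd' χ' ψ).2 ⟨m', hm', hm2⟩)
  · obtain ⟨χ, hχA, hχo⟩ := h3 (down ψ) ((hinv ψ).2 hψ)
    exact ⟨χ, (isInv_conjHom_iff hnorm _).1 hχA, (hodd' χ ψ).1 hχo⟩

end Cfsg.Agent.S4453
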