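import Cfsg.Statements.S4459
import Cfsg.Agent.Lib.Characters.TwoDegreesPrime

set_option autoImplicit false
open Cfsg

namespace Cfsg.Agent.S4459

/-- Let G be a non-abelian finite group and p a prime. Then the irreducible character degrees of G are exactly 1 and p if and only if either G has an abelian normal subgroup of index p or the centre of G has index p³. -/
theorem result {G : Type*} [Group G] [Finite G] (hG : ∃ a b : G, a * b ≠ b * a) (p : ℕ) (hp : p.Prime) : ((∀ χ : Cfsg.IrrCharacter G, Cfsg.charDegree (χ : G → ℂ) = 1 ∨ Cfsg.charDegree (χ : G → ℂ) = p) ∧ ∃ χ : Cfsg.IrrCharacter G, Cfsg.charDegree (χ : G → ℂ) = p) ↔ ((∃ A : Subgroup G, A.Normal ∧ (∀ a ∈ A, ∀ b ∈ A, a * b = b * a) ∧ A.index = p) ∨ (Subgroup.center G).index = p ^ 3) := by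
  classical
  haveI : Fact p.Prime := ⟨hp⟩
  constructor
  · rintro ⟨hcd, hex⟩
    rcases Cfsg.Agent.Lib.Characters.TwoDegrees.structure_of_degLE hcd hex hp.ne_one with
      ⟨A, h1, h2, h3, -⟩ | ⟨q, e, hq, hqe, P, A, hPn, hAn, hPp, hAab, hinf, hsup, hcen, -⟩
    · exact Or.inl ⟨A, h1, h2, h3⟩
    haveI := hAn
    haveI := hPn
    obtain rfl : q = p := ((Nat.prime_dvd_prime_iff_eq hp hq).1
      (hp.dvd_of_dvd_pow (show p ∣ q ^ e from hqe ▸ dvd_refl p))).symm
    have hdec : ∀ g : G, ∃ x ∈ P, ∃ y ∈ A, g = x * y := fun g => by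
      obtain ⟨x, hx, y, hy, rfl⟩ := Subgroup.mem_sup_of_normal_right.1 (hsup ▸ Subgroup.mem_top g)
      exact ⟨x, hx, y, hy, rfl⟩
    -- the projection to `P`
    have hbij : Function.Bijective ((QuotientGroup.mk' A).comp P.subtype) := by
      constructor
      · rw [injective_iff_map_eq_one]
        intro x hx
        exact Subtype.ext (Subgroup.mem_bot.1 (hinf ▸ ⟨x.2, (QuotientGroup.eq_one_iff (x : G)).1 hx⟩))
      · intro c
        obtain ⟨g, rfl⟩ := QuotientGroup.mk'_surjective A c
        obtain ⟨x, hx, y, hy, rfl⟩ := hdec g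
        refine ⟨⟨x, hx⟩, ?_⟩
        show QuotientGroup.mk' A x = QuotientGroup.mk' A (x * y)
        rw [map_mul, show QuotientGroup.mk' A y = 1 from (QuotientGroup.eq_one_iff y).2 hy, mul_one]
    let E := MulEquiv.ofBijective _ hbij
    have hcdP : Cfsg.Agent.Lib.Characters.TwoDegrees.DegLE P q :=
      Cfsg.Agent.Lib.Characters.TwoDegrees.DegLE.map hcd
        (E.symm.toMonoidHom.comp (QuotientGroup.mk' A))
        (E.symm.surjective.comp (QuotientGroup.mk'_surjective A))
    have hcomm' : ∀ x ∈ P, ∀ y ∈ A, Commute x y := fun x hx y hy => hcen x hx y hy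
    have hPna : ¬ ∀ x y : P, x * y = y * x := by
      intro h
      obtain ⟨a, b, hab⟩ := hG
      obtain ⟨x, hx, y, hy, rfl⟩ := hdec a
      obtain ⟨x', hx', y', hy', rfl⟩ := hdec b
      refine hab ?_
      exact ((show Commute x x' from congrArg Subtype.val (h ⟨x, hx⟩ ⟨x', hx'⟩)).mul_right
        (hcomm' x hx y' hy')).mul_left
        ((hcomm' x' hx' y hy).symm.mul_right (show Commute y y' from hAab y hy y' hy'))
    rcases Cfsg.Agent.Lib.Characters.TwoDegrees.index_center_or hPp hcdP hPna with
      ⟨B, hBn, hBab, hBi⟩ | hz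
    · refine Or.inl ⟨B.comap (E.symm.toMonoidHom.comp (QuotientGroup.mk' A)), hBn.comap _, ?_, ?_⟩
      · have hval : ∀ g ∈ B.comap (E.symm.toMonoidHom.comp (QuotientGroup.mk' A)),
            ∃ x : P, x ∈ B ∧ ∃ y ∈ A, g = x * y := by
          intro g hg
          obtain ⟨x, hx, y, hy, rfl⟩ := hdec g
          refine ⟨⟨x, hx⟩, ?_, y, hy, rfl⟩
          have he : E.symm (QuotientGroup.mk' A (x * y)) = ⟨x, hx⟩ := by
            rw [MulEquiv.symm_apply_eq]
            show QuotientGroup.mk' A (x * y) = QuotientGroup.mk' A x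
            rw [map_mul, show QuotientGroup.mk' A y = 1 from (QuotientGroup.eq_one_iff y).2 hy, mul_one]
          rw [← he]
          exact hg
        intro g hg h hh
        obtain ⟨x, hx, y, hy, rfl⟩ := hval g hg
        obtain ⟨x', hx', y', hy', rfl⟩ := hval h hh
        exact ((show Commute (x : G) x' from congrArg Subtype.val (hBab x hx x' hx')).mul_right
          (hcomm' x x.2 y' hy')).mul_left
          ((hcomm' x' x'.2 y hy).symm.mul_right (show Commute y y' from hAab y hy y' hy'))
      · rw [Subgroup.index_comap_of_surjective _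
          (E.symm.surjective.comp (QuotientGroup.mk'_surjective A)), hBi]
    · refine Or.inr ?_
      rw [← hz, ← Subgroup.index_comap_of_surjective (Subgroup.center P)
        (f := E.symm.toMonoidHom.comp (QuotientGroup.mk' A))
        (E.symm.surjective.comp (QuotientGroup.mk'_surjective A))]
      congr 1
      ext g
      obtain ⟨x, hx, y, hy, rfl⟩ := hdec g
      have he : E.symm (QuotientGroup.mk' A (x * y)) = ⟨x, hx⟩ := by
        rw [MulEquiv.symm_apply_eq]
        show QuotientGroup.mk' A (x * y) = QuotientGroup.mk' A x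
        rw [map_mul, show QuotientGroup.mk' A y = 1 from (QuotientGroup.eq_one_iff y).2 hy, mul_one]
      show x * y ∈ Subgroup.center G ↔ E.symm (QuotientGroup.mk' A (x * y)) ∈ Subgroup.center P
      rw [he, Subgroup.mem_center_iff, Subgroup.mem_center_iff]
      constructor
      · intro h z
        refine Subtype.ext ?_
        show (z : G) * x = x * z
        have h1 := h z
        rw [← mul_assoc, mul_assoc x y, ← (hcomm' z z.2 y hy).eq, ← mul_assoc] at h1
        exact mul_right_cancel h1
      · intro h g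
        obtain ⟨x', hx', y', hy', rfl⟩ := hdec g
        exact ((show Commute x' x from congrArg Subtype.val (h ⟨x', hx'⟩)).mul_right
          (hcomm' x' hx' y hy)).mul_left
          ((hcomm' x hx y' hy').symm.mul_right (show Commute y' y from hAab y' hy' y hy))
  · intro h
    have hex : ∀ hcd : ∀ χ : Cfsg.IrrCharacter G,
        Cfsg.charDegree (χ : G → ℂ) = 1 ∨ Cfsg.charDegree (χ : G → ℂ) = p,
        ∃ χ : Cfsg.IrrCharacter G, Cfsg.charDegree (χ : G → ℂ) = p := by
      intro hcd
      by_contra hno
      push Not at hno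
      obtain ⟨a, b, hab⟩ := hG
      exact hab (Cfsg.Agent.Lib.Characters.TwoDegrees.comm_of_forall_linear
        (fun χ => (hcd χ).resolve_right (hno χ)) a b)
    have hcd : ∀ χ : Cfsg.IrrCharacter G,
        Cfsg.charDegree (χ : G → ℂ) = 1 ∨ Cfsg.charDegree (χ : G → ℂ) = p := by
      intro χ
      have hd := Cfsg.Agent.Lib.Characters.TwoDegrees.apply_one_eq χ
      rcases h with ⟨A, hAn, hAab, hAi⟩ | hz
      · haveI := hAn
        have := Cfsg.Agent.Lib.Characters.IsIrrCharacter.degree_dvd_index_of_abelian χ.2 A hAab hd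
        rw [hAi] at this
        exact (Nat.dvd_prime hp).1 this
      · obtain ⟨n, ρ, hρ, hρχ⟩ := χ.2
        haveI := hρ
        have h1 : Cfsg.charDegree (χ : G → ℂ) ∣ p ^ 3 := by
          rw [← hρχ, ρ.char_one, Nat.cast_inj] at hd
          rw [← hρχ, ← hd, ← hz]
          exact Cfsg.Agent.Lib.Characters.finrank_dvd_index_center ρ
        have h2 := Cfsg.Agent.Lib.Characters.TwoDegrees.sq_degree_mul_card_center_le χ
        rw [← (Subgroup.center G).card_mul_index, hz, mul_comm (Nat.card (Subgroup.center G))] at h2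
        have h3 := Nat.le_of_mul_le_mul_right h2 Nat.card_pos
        obtain ⟨i, -, hi⟩ := (Nat.dvd_prime_pow hp).1 h1
        rw [hi, ← pow_mul] at h3
        have h4 := (Nat.pow_le_pow_iff_right hp.one_lt).1 h3
        rw [hi]
        have : i ≤ 1 := by omega
        interval_cases i
        · exact Or.inl (pow_zero p)
        · exact Or.inr (pow_one p)
    exact ⟨hcd, hex hcd⟩

end Cfsg.Agent.S4459
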