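import Cfsg.Statements.S4460
import Cfsg.Agent.Lib.Characters.DegreeGraphBasic
import Cfsg.Agent.Lib.Solvable.Nilpotent
import Cfsg.Agent.S4456
import Cfsg.Agent.S4458
import Cfsg.Agent.Lib.Characters.Monomial
import Cfsg.Agent.Lib.Characters.InducedMore

set_option autoImplicit false
set_option linter.unusedSectionVars false
set_option linter.unusedVariables false
set_option linter.style.haveILetI false
open Cfsg

namespace Cfsg.Agent.S4460

open Cfsg.Agent.Lib.Characters
open Cfsg.Agent.Lib.BlockHeights (charDegree_of_apply_one apply_one_eq_charDegree irr_apply_one charDegree_irr_pos charDegree_dvd_card charDegree_trivIrr)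
open scoped ComplexConjugate commutatorElement

universe u

variable {G : Type u} [Group G]

/-- All degrees are among `1`, `m`, `n`. -/
def Three (G : Type u) [Group G] (m n : ℕ) : Prop :=
  ∀ χ : IrrCharacter G, charDegree (χ : G → ℂ) = 1 ∨ charDegree (χ : G → ℂ) = m ∨
    charDegree (χ : G → ℂ) = n

theorem derived_le_map (N : Subgroup G) {j i : ℕ}
    (h : derivedSeries G j ≤ (derivedSeries N i).map N.subtype) (k : ℕ) :
    derivedSeries G (j + k) ≤ (derivedSeries N (i + k)).map N.subtype := by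
  induction k with
  | zero => exact h
  | succ k ih =>
    rw [← add_assoc, ← add_assoc, derivedSeries_succ, derivedSeries_succ, Subgroup.map_commutator]
    exact Subgroup.commutator_mono ih ih

theorem derived_le_of_quotient (X : Subgroup G) [X.Normal] {k : ℕ}
    (h : derivedSeries (G ⧸ X) k = ⊥) : derivedSeries G k ≤ X := by
  have h1 := map_derivedSeries_eq (f := QuotientGroup.mk' X) (QuotientGroup.mk'_surjective X) k
  rw [h, Subgroup.map_eq_bot_iff, QuotientGroup.ker_mk'] at h1
  exact h1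

theorem derived_two_eq_bot [Finite G] {m : ℕ}
    (h : ∀ χ : IrrCharacter G, charDegree (χ : G → ℂ) = 1 ∨ charDegree (χ : G → ℂ) = m) :
    derivedSeries G 2 = ⊥ := by
  suffices hc : ∀ a ∈ commutator G, ∀ b ∈ commutator G, a * b = b * a by
    rw [derivedSeries_succ, derivedSeries_one, eq_bot_iff, Subgroup.commutator_le]
    intro a ha b hb
    exact Subgroup.mem_bot.mpr (commutatorElement_eq_one_iff_mul_comm.mpr (hc a ha b hb))
  by_cases hex : ∃ χ : IrrCharacter G, charDegree (χ : G → ℂ) ≠ 1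
  · obtain ⟨χ, hχ⟩ := hex
    have hm := (h χ).resolve_left hχ
    exact Cfsg.Agent.S4458.result m h ⟨χ, hm⟩ (hm ▸ hχ)
  · push Not at hex
    intro a _ b _
    exact comm_iff_forall_irr_one.mpr (fun χ => by
      rw [irr_apply_one χ, hex χ, Nat.cast_one]) a b

theorem exists_inflate [Finite G] (X : Subgroup G) [X.Normal] (φ : IrrCharacter (G ⧸ X)) :
    ∃ χ : IrrCharacter G, charDegree (χ : G → ℂ) = charDegree (φ : G ⧸ X → ℂ) ∧
      ∀ x ∈ X, (χ : G → ℂ) x = (χ : G → ℂ) 1 :=
  ⟨⟨_, IsIrrCharacter.comp_surjective φ.2 (QuotientGroup.mk' X) (QuotientGroup.mk'_surjective X)⟩,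
    rfl, fun x hx => by
      show (φ : G ⧸ X → ℂ) (QuotientGroup.mk' X x) = (φ : G ⧸ X → ℂ) (QuotientGroup.mk' X 1)
      rw [map_one]
      exact congrArg _ ((QuotientGroup.eq_one_iff x).mpr hx)⟩

theorem Three.quotient [Finite G] {m n : ℕ} (h : Three G m n) (X : Subgroup G) [X.Normal] :
    Three (G ⧸ X) m n := by
  intro φ
  obtain ⟨χ, hχ, -⟩ := exists_inflate X φ
  exact hχ ▸ h χ

/-- Kernels of constituents. -/
theorem constituent_apply [Fintype G] {φ : G → ℂ} (hφ : IsCharacter G φ) {θ : IrrCharacter G}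
    (hc : classInner φ (θ : G → ℂ) ≠ 0) {x : G} (hx : φ x = φ 1) :
    (θ : G → ℂ) x = (θ : G → ℂ) 1 := by
  obtain ⟨R, hR, heq⟩ := IsCharacter.exists_add_of_classInner_ne_zero hφ θ.2 hc
  rw [heq] at hx
  simp only [Pi.add_apply] at hx
  have h1 := IsCharacter.norm_le hR x
  have h2 := IsCharacter.norm_le (irr_isCharacter θ) x
  rw [apply_one_eq_charDegree hR] at hx h1
  rw [irr_apply_one θ] at hx h2 ⊢
  rw [Complex.re_add_im ((θ : G → ℂ) x) |>.symm] at hx
  have hre := congrArg Complex.re hx
  simp only [Complex.add_re, Complex.ofReal_re, Complex.mul_re, Complex.I_re, Complex.I_im,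
    Complex.ofReal_im, Complex.natCast_re, mul_zero, mul_one, sub_zero, add_zero] at hre
  rw [Complex.norm_natCast] at h1 h2
  have h3 := (Complex.re_le_norm (R x)).trans h1
  have h4 := (Complex.re_le_norm ((θ : G → ℂ) x)).trans h2
  have h5 : ((θ : G → ℂ) x).re = (charDegree (θ : G → ℂ) : ℝ) := by linarith
  apply Complex.ext
  · simpa using h5
  · have h6 : ‖(θ : G → ℂ) x‖ ^ 2 ≤ (charDegree (θ : G → ℂ) : ℝ) ^ 2 :=
      pow_le_pow_left₀ (norm_nonneg _) h2 2
    rw [Complex.sq_norm, Complex.normSq_apply, h5] at h6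
    have h7 : ((θ : G → ℂ) x).im * ((θ : G → ℂ) x).im ≤ 0 := by nlinarith
    simp only [Complex.natCast_im]
    exact mul_self_eq_zero.mp (le_antisymm h7 (mul_self_nonneg _))

theorem exists_over [Fintype G] (N : Subgroup G) [N.Normal] [Fintype N] (θ : IrrCharacter N) :
    ∃ (χ : IrrCharacter G) (e : ℕ), e ∣ N.index ∧
      charDegree (χ : G → ℂ) = e * charDegree (θ : N → ℂ) ∧
      classInner (fun x : N => (χ : G → ℂ) x) (θ : N → ℂ) ≠ 0 := by
  have hne : indFun N (θ : N → ℂ) ≠ 0 := by
    intro h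
    have h1 := congrFun h 1
    rw [indFun_one, irr_apply_one θ, Pi.zero_apply] at h1
    exact mul_ne_zero (Nat.cast_ne_zero.mpr Subgroup.index_ne_zero_of_finite)
      (Nat.cast_ne_zero.mpr (charDegree_irr_pos θ).ne') h1
  obtain ⟨χ, hχ⟩ := IsCharacter.exists_constituent (IsCharacter.indFun N (irr_isCharacter θ)) hne
  have hres : classInner (fun x : N => (χ : G → ℂ) x) (θ : N → ℂ) ≠ 0 := by
    intro h0
    apply hχ
    rw [classInner_indFun N _ (irr_isClassFunction χ), ← classInner_conj_symm, h0, map_zero]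
  obtain ⟨e, he, hdvd⟩ := degree_ratio_dvd_index N χ.2 θ.2 hres
  refine ⟨χ, e, hdvd, ?_, hres⟩
  rw [irr_apply_one χ, irr_apply_one θ] at he
  exact_mod_cast he

theorem exists_below [Fintype G] (N : Subgroup G) [N.Normal] [Fintype N] (χ : IrrCharacter G) :
    ∃ (θ : IrrCharacter N) (e : ℕ), e ∣ N.index ∧
      charDegree (χ : G → ℂ) = e * charDegree (θ : N → ℂ) ∧
      classInner (fun x : N => (χ : G → ℂ) x) (θ : N → ℂ) ≠ 0 := by
  obtain ⟨θ, hθ⟩ := IsCharacter.exists_constituent (IsCharacter.restrict (irr_isCharacter χ) N)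
    (fun h => IsIrrCharacter.apply_one_ne_zero χ.2 (by simpa using congrFun h 1))
  obtain ⟨e, he, hdvd⟩ := degree_ratio_dvd_index N χ.2 θ.2 hθ
  refine ⟨θ, e, hdvd, ?_, hθ⟩
  rw [irr_apply_one χ, irr_apply_one θ] at he
  exact_mod_cast he

/-- A normal step of index `q` in a `q`-section. -/
theorem exists_central_step [Finite G] {q : ℕ} [hq : Fact q.Prime] (H K L : Subgroup G)
    (hLK : L < K) (hKH : K ≤ H) (hKn : ∀ h ∈ H, ∀ k ∈ K, h * k * h⁻¹ ∈ K)
    (hLn : ∀ h ∈ H, ∀ l ∈ L, h * l * h⁻¹ ∈ L) (hpow : ∃ j, L.relIndex H = q ^ j) :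
    ∃ M : Subgroup G, L ≤ M ∧ M ≤ K ∧ L.relIndex M = q ∧
      (∀ h ∈ H, ∀ x ∈ M, h * x * h⁻¹ ∈ M) ∧ ∀ h ∈ H, ∀ x ∈ M, h * x * h⁻¹ * x⁻¹ ∈ L := by
  classical
  set L' := L.subgroupOf H with hL'
  haveI hL'n : L'.Normal := ⟨fun l hl h => by
    show ((h * l * h⁻¹ : H) : G) ∈ L
    simpa using hLn h h.2 l hl⟩
  set K' := K.subgroupOf H with hK'
  haveI hK'n : K'.Normal := ⟨fun l hl h => by
    show ((h * l * h⁻¹ : H) : G) ∈ K
    simpa using hKn h h.2 l hl⟩
  obtain ⟨j, hj⟩ := hpow
  have hQ : IsPGroup q (H ⧸ L') := IsPGroup.of_card (n := j) (by rw [← Subgroup.index_eq_card]; exact hj)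
  haveI : Group.IsNilpotent (H ⧸ L') := hQ.isNilpotent
  set π := QuotientGroup.mk' L' with hπ
  haveI : (K'.map π).Normal := hK'n.map π (QuotientGroup.mk'_surjective L')
  have hK0 : K'.map π ≠ ⊥ := by
    rw [Ne, Subgroup.map_eq_bot_iff, QuotientGroup.ker_mk']
    intro h
    exact hLK.not_ge fun x hx => h (x := (⟨x, hKH hx⟩ : H)) hx
  obtain ⟨⟨w, hw⟩, hw1'⟩ :=
    Subgroup.ne_bot_iff_exists_ne_one.1 (Cfsg.Agent.Lib.Solvable.inf_center_ne_bot hK0)
  have hw1 : w ≠ 1 := fun h => hw1' (Subtype.ext h)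
  obtain ⟨k, hk⟩ := IsPGroup.iff_orderOf.1 hQ w
  obtain ⟨k, rfl⟩ : ∃ i, k = i + 1 := Nat.exists_eq_succ_of_ne_zero fun h => hw1
    (orderOf_eq_one_iff.1 (by rw [hk, h, pow_zero]))
  set z := w ^ q ^ k with hz
  have hzo : orderOf z = q := by
    rw [hz, orderOf_pow' _ (pow_ne_zero _ hq.out.ne_zero), hk, pow_succ,
      Nat.gcd_eq_right (dvd_mul_right _ _), Nat.mul_div_cancel_left _ (pow_pos hq.out.pos k)]
  have hzK : z ∈ K'.map π := pow_mem hw.1 _
  have hzc : z ∈ Subgroup.center (H ⧸ L') := pow_mem hw.2 _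
  set M' := (Subgroup.zpowers z).comap π with hM'
  have hM'K : M' ≤ K' := by
    have h1 : Subgroup.zpowers z ≤ K'.map π := Subgroup.zpowers_le.mpr hzK
    refine (Subgroup.comap_mono h1).trans ?_
    rw [Subgroup.comap_map_eq, QuotientGroup.ker_mk', sup_le_iff]
    exact ⟨le_rfl, fun x hx => hLK.le hx⟩
  have hLM' : L' ≤ M' := fun x hx => by
    show π x ∈ Subgroup.zpowers z
    rw [show π x = 1 from (QuotientGroup.eq_one_iff x).mpr hx]
    exact one_mem _
  have hcomm : ∀ (h : H) (x : H), x ∈ M' → h * x * h⁻¹ * x⁻¹ ∈ L' := by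
    intro h x hx
    rw [← QuotientGroup.eq_one_iff]
    have hc : π x ∈ Subgroup.center (H ⧸ L') := (Subgroup.zpowers_le.mpr hzc) hx
    show π (h * x * h⁻¹ * x⁻¹) = 1
    rw [map_mul, map_mul, map_mul, map_inv, map_inv, Subgroup.mem_center_iff.mp hc (π h),
      mul_inv_cancel_right, mul_inv_cancel]
  refine ⟨M'.map H.subtype, fun x hx => ⟨⟨x, hKH (hLK.le hx)⟩, hLM' hx, rfl⟩, ?_, ?_, ?_, ?_⟩
  · rintro _ ⟨x, hx, rfl⟩
    exact hM'K hx
  · have h1 : L = L'.map H.subtype := (Subgroup.map_subgroupOf_eq_of_le (hLK.le.trans hKH)).symm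
    conv_lhs => rw [h1]
    rw [Subgroup.relIndex_map_map_of_injective _ _ H.subtype_injective]
    have h2 := Subgroup.relIndex_ker π (K := M')
    rw [QuotientGroup.ker_mk'] at h2
    rw [h2, hM', Subgroup.map_comap_eq_self_of_surjective (QuotientGroup.mk'_surjective L'),
      Nat.card_zpowers, hzo]
  · rintro h hh _ ⟨x, hx, rfl⟩
    refine ⟨⟨h, hh⟩ * x * ⟨h, hh⟩⁻¹, ?_, by simp⟩
    have := hcomm ⟨h, hh⟩ x hx
    have h2 := M'.mul_mem (hLM' this) hx
    simpa using h2
  · rintro h hh _ ⟨x, hx, rfl⟩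
    simpa [hL', Subgroup.mem_subgroupOf] using hcomm ⟨h, hh⟩ x hx

/-- A group with an abelian normal Hall subgroup and nilpotent quotient is an M-group. -/
theorem monomial_of_abelian [Fintype G] {p : ℕ} [hp : Fact p.Prime] (N : Subgroup G) [hNn : N.Normal]
    (hab : ∀ a b : N, a * b = b * a) (hcopN : (Nat.card N).Coprime p) {k : ℕ} (hk : N.index = p ^ k)
    (χ : IrrCharacter G) :
    ∃ (U : Subgroup G) (lam : U →* ℂˣ), (χ : G → ℂ) = indFun U (fun u => (lam u : ℂ)) := by
  classical
  haveI := Fintype.ofFinite N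
  obtain ⟨θ, e, -, -, hc⟩ := exists_below N χ
  have hθ1 : (θ : N → ℂ) 1 = 1 := IsIrrCharacter.apply_one_of_comm hab θ.2
  set T := inertia N (θ : N → ℂ) with hT
  haveI := Fintype.ofFinite T
  have hNT : N ≤ T := le_inertia N (irr_isClassFunction θ)
  obtain ⟨ψ, hψ, hind, hψc⟩ := exists_clifford_correspondent N χ.2 θ.2 hc T rfl hNT
  set N' := N.subgroupOf T with hN'
  haveI : N'.Normal := inferInstance
  haveI := Fintype.ofFinite N'
  set θ' : N' → ℂ := fun x => (θ : N → ℂ) ⟨((x : T) : G), Subgroup.mem_subgroupOf.mp x.2⟩ with hθ'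
  have hθ'c : IsCharacter N' θ' :=
    IsCharacter.comp (irr_isCharacter θ) (Subgroup.subgroupOfEquivOfLe hNT).toMonoidHom
  have hinv : ∀ (t : T) (x : N'), θ' ⟨t * x * t⁻¹, (inferInstance : N'.Normal).conj_mem (x : T) x.2 t⟩ = θ' x := by
    intro t x
    have h1 := congrFun (show Cfsg.Agent.Lib.Characters.conjFun N (t : G) (θ : N → ℂ) = _ from t.2) ⟨((x : T) : G), x.2⟩
    rw [conjFun_eq_comp, Function.comp_apply] at h1
    simp only [hθ']
    rw [← h1]
    exact congrArg _ (Subtype.ext (by simp [MulAut.conjNormal_apply]))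
  have hidx : N'.index ∣ p ^ k := hk ▸ Subgroup.relIndex_dvd_index_of_normal N T
  obtain ⟨μ, hμc, hμ1, hμN⟩ := exists_linear_extension (N := N') hθ'c hθ1 hinv (fun q hq hqd =>
    ⟨N', le_rfl, θ', fun hd => by
      obtain ⟨l, hl⟩ := IsCharacter.exists_hom_of_apply_one hθ'c hθ1
      have h1 : orderOf θ' ∣ Nat.card N' := orderOf_dvd_of_pow_eq_one (funext fun x => by
        rw [Pi.pow_apply, hl, Pi.one_apply, ← Units.val_pow_eq_pow_val, ← map_pow,
          pow_card_eq_one', map_one, Units.val_one])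
      have hqp : q = p := (Nat.prime_dvd_prime_iff_eq hq hp.out).mp (hq.dvd_of_dvd_pow (hd.trans hidx))
      rw [Nat.card_congr (Subgroup.subgroupOfEquivOfLe hNT).toEquiv] at h1
      exact hq.ne_one (Nat.eq_one_of_dvd_coprimes hcopN (hqd.trans h1) (hqp ▸ dvd_rfl)),
      hθ'c, fun x => rfl⟩)
  obtain ⟨m, hm⟩ := IsCharacter.exists_hom_of_apply_one hμc hμ1
  set φ : T → ℂ := fun t => ((m⁻¹ : T →* ℂˣ) t : ℂ) * ψ t with hφ
  have hφirr : IsIrrCharacter T φ := isIrrCharacter_twist m⁻¹ hψ
  -- `ψ` is a multiple of `θ` on `N`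
  have hψN : ∀ x : T, x ∈ N' → φ x = φ 1 := by
    intro x hx
    have hres : (fun y : N' => ψ y) = classInner (fun y : N' => ψ y) θ' • θ' := by
      refine restrict_eq_smul_of_invariant N' hψ (IsCharacter.isIrr_of_apply_one hθ'c hθ1)
        (fun t => ?_) ?_
      · funext y
        rw [conjFun_eq_comp, Function.comp_apply, ← hinv t y]
        exact congrArg θ' (Subtype.ext (MulAut.conjNormal_apply t y))
      · intro h0
        apply hc
        rw [← hψc, ← h0]
        exact (classInner_comp_equiv (Subgroup.subgroupOfEquivOfLe hNT) _ _).symm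
    have h1 := congrFun hres ⟨x, hx⟩
    have h2 := congrFun hres 1
    simp only [Pi.smul_apply, smul_eq_mul, OneMemClass.coe_one] at h1 h2
    have hμx := hμN ⟨x, hx⟩
    rw [hm] at hμx
    simp only [hφ]
    rw [h1, h2, ← hμx, show θ' 1 = 1 from hθ1, MonoidHom.inv_apply, MonoidHom.inv_apply, map_one,
      inv_one, Units.val_one, Units.val_inv_eq_inv_val, one_mul, mul_one, mul_comm (classInner _ _),
      ← mul_assoc, inv_mul_cancel₀ (Units.ne_zero _), one_mul]
  obtain ⟨β, hβ, hβeq⟩ := IsIrrCharacter.exists_quotient hφirr N' hψN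
  haveI := Fintype.ofFinite (T ⧸ N')
  haveI : Group.IsNilpotent (T ⧸ N') := by
    obtain ⟨i, -, hi⟩ := (Nat.dvd_prime_pow hp.out).mp hidx
    exact (IsPGroup.of_card (n := i) (by rw [← Subgroup.index_eq_card, hi]) : IsPGroup p (T ⧸ N')).isNilpotent
  obtain ⟨U, l, hl⟩ := exists_monomial hβ
  set π := QuotientGroup.mk' N' with hπ
  set U' := U.comap π with hU'
  set π' : U' →* U := (π.comp U'.subtype).codRestrict U fun x => x.2 with hπ'
  set lam : U' →* ℂˣ := (l.comp π') * m.comp U'.subtype with hlam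
  haveI := Fintype.ofFinite U'
  have hψeq : ψ = indFun U' (fun u => (lam u : ℂ)) := by
    have h1 : (fun u : U' => (lam u : ℂ)) =
        (fun u : U' => (l (π' u) : ℂ)) * fun u : U' => (m (u : T) : ℂ) := by
      funext u
      simp [hlam]
    rw [h1, indFun_mul_restrict U' _ (χ := fun t : T => (m t : ℂ))
      (irr_isClassFunction ⟨_, isIrrCharacter_unitsHom m⟩)]
    have h2 : indFun U' (fun u : U' => (l (π' u) : ℂ)) = indFun U (fun u => (l u : ℂ)) ∘ π :=
      indFun_comap π (QuotientGroup.mk'_surjective N') U (fun u => (l u : ℂ))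
    rw [h2, ← hl, ← hβeq]
    funext t
    simp only [hφ, Pi.mul_apply, MonoidHom.inv_apply, Units.val_inv_eq_inv_val]
    rw [mul_comm (_⁻¹ * _), ← mul_assoc, mul_inv_cancel₀ (Units.ne_zero _), one_mul]
  refine ⟨U'.map T.subtype,
    lam.comp (U'.equivMapOfInjective T.subtype T.subtype_injective).symm.toMonoidHom, ?_⟩
  rw [← hind, hψeq, indFun_indFun]
  rfl

/-- The step in Taketa's proof. -/
theorem taketa_step [Fintype G]
    (hM : ∀ χ : IrrCharacter G, ∃ (H : Subgroup G) (lam : H →* ℂˣ),
      (χ : G → ℂ) = indFun H (fun h => (lam h : ℂ)))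
    (k : ℕ) (χ : IrrCharacter G) (hχ1 : 1 < charDegree (χ : G → ℂ))
    (hsmall : ∀ ψ : IrrCharacter G, charDegree (ψ : G → ℂ) < charDegree (χ : G → ℂ) →
      ∀ g ∈ derivedSeries G k, (ψ : G → ℂ) g = (ψ : G → ℂ) 1) :
    ∀ g ∈ derivedSeries G (k + 1), (χ : G → ℂ) g = (χ : G → ℂ) 1 := by
  classical
  haveI := Fintype.ofFinite (IrrCharacter G)
  intro g hg
  obtain ⟨H, lam, hχ⟩ := hM χ
  haveI := Fintype.ofFinite H
  have hidx : charDegree (χ : G → ℂ) = H.index := by
    have := congrFun hχ 1
    rw [irr_apply_one χ, indFun_one] at this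
    simp only [map_one, Units.val_one, mul_one] at this
    exact_mod_cast this
  set π := Cfsg.indFun H (fun _ => (1 : ℂ)) with hπ
  have hπc : Cfsg.IsCharacter G π := IsCharacter.indFun H isCharacter_one
  obtain ⟨m, hm, hm'⟩ := IsCharacter.exists_nat_decomp hπc
  have hsum : H.index = ∑ ψ : IrrCharacter G, m ψ * charDegree (ψ : G → ℂ) := by
    have h := congrFun hm 1
    rw [hπ, indFun_one] at h
    simp only [mul_one, Finset.sum_apply, Pi.smul_apply, smul_eq_mul, irr_apply_one] at h
    exact_mod_cast h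
  have hm1 : m (trivIrr G) = 1 := by
    have h := hm' (trivIrr G)
    rw [show ((trivIrr G : Cfsg.IrrCharacter G) : G → ℂ) = fun _ => 1 from rfl,
      hπ, classInner_indFun H _ (fun _ _ => rfl),
      IsIrrCharacter.classInner_self isIrrCharacter_one] at h
    exact_mod_cast h.symm
  have hlt : ∀ ψ, m ψ ≠ 0 → charDegree (ψ : G → ℂ) < charDegree (χ : G → ℂ) := by
    intro ψ hψ
    by_cases h : ψ = trivIrr G
    · rw [h, charDegree_trivIrr]; exact hχ1
    have h2 := Finset.add_sum_erase Finset.univ (fun ψ => m ψ * charDegree (ψ : G → ℂ))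
      (Finset.mem_univ (trivIrr G))
    have h3 : m ψ * charDegree (ψ : G → ℂ) ≤
        ∑ x ∈ Finset.univ.erase (trivIrr G), m x * charDegree (x : G → ℂ) :=
      Finset.single_le_sum (f := fun ψ => m ψ * charDegree (ψ : G → ℂ)) (fun _ _ => Nat.zero_le _)
        (Finset.mem_erase.mpr ⟨h, Finset.mem_univ _⟩)
    have h4 : charDegree (ψ : G → ℂ) ≤ m ψ * charDegree (ψ : G → ℂ) :=
      Nat.le_mul_of_pos_left _ (Nat.pos_of_ne_zero hψ)
    simp only [hm1, charDegree_trivIrr] at h2
    omega
  have hDH : derivedSeries G k ≤ H := by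
    intro x hx
    by_contra hxH
    have hπx : π x = π 1 := by
      rw [hm]
      simp only [Finset.sum_apply, Pi.smul_apply, smul_eq_mul]
      refine Finset.sum_congr rfl fun ψ _ => ?_
      by_cases hψ : m ψ = 0
      · simp [hψ]
      · rw [hsmall ψ (hlt ψ hψ) x hx]
    rw [hπ, indFun_one, mul_one, indFun_apply] at hπx
    have hval : ∀ y : G, Cfsg.extendByZero H (fun _ => (1 : ℂ)) (y⁻¹ * x * y) =
        if y⁻¹ * x * y ∈ H then 1 else 0 := by
      intro y
      split_ifs with hy
      · rw [extendByZero_of_mem _ _ hy]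
      · rw [extendByZero_of_not_mem _ _ hy]
    rw [Finset.sum_congr rfl fun y _ => hval y, Finset.sum_boole,
      inv_mul_eq_iff_eq_mul₀ natCard_ne_zero_complex] at hπx
    have hlt : (Finset.univ.filter fun y : G => y⁻¹ * x * y ∈ H).card < Fintype.card G :=
      Finset.card_lt_univ_of_notMem (x := (1 : G)) (by simp [hxH])
    have heq : (Finset.univ.filter fun y : G => y⁻¹ * x * y ∈ H).card = Fintype.card G := by
      have := hπx
      rw [← Nat.cast_mul, Nat.cast_inj, mul_comm, H.index_mul_card, Nat.card_eq_fintype_card] at this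
      exact this
    omega
  have hmono : derivedSeries G (k + 1) ≤ derivedSeries G k := derivedSeries_antitone (G := G) (Nat.le_succ k)
  have hlam : ∀ y : G, ∀ hy : y ∈ H, y ∈ derivedSeries G (k + 1) → (lam ⟨y, hy⟩ : ℂ) = 1 := by
    intro y hy hyD
    have hsub : derivedSeries G (k + 1) ≤ lam.ker.map H.subtype := by
      rw [derivedSeries_succ, Subgroup.commutator_le]
      intro a ha b hb
      refine ⟨⁅(⟨a, hDH ha⟩ : H), (⟨b, hDH hb⟩ : H)⁆, ?_, ?_⟩
      · show lam _ = 1
        rw [map_commutatorElement, commutatorElement_eq_one_iff_mul_comm]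
        exact mul_comm _ _
      · simp [map_commutatorElement]
    obtain ⟨z, hz, hzy⟩ := hsub hyD
    rw [show (⟨y, hy⟩ : H) = z from Subtype.ext hzy.symm, show lam z = 1 from hz]
    simp
  have hall : ∀ y : G, Cfsg.extendByZero H (fun h => (lam h : ℂ)) (y⁻¹ * g * y) = 1 := by
    intro y
    have hy : y⁻¹ * g * y ∈ derivedSeries G (k + 1) := by
      simpa using (derivedSeries_normal G (k + 1)).conj_mem g hg y⁻¹
    rw [extendByZero_of_mem _ _ (hDH (hmono hy))]
    exact hlam _ _ hy
  rw [irr_apply_one χ, hidx, hχ, indFun_apply, Finset.sum_congr rfl fun y _ => hall y,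
    Finset.sum_const, Finset.card_univ, nsmul_eq_mul, mul_one, ← Nat.card_eq_fintype_card,
    ← H.index_mul_card, Nat.cast_mul]
  field_simp

theorem derived_three_of_monomial [Fintype G]
    (hM : ∀ χ : IrrCharacter G, ∃ (H : Subgroup G) (lam : H →* ℂˣ),
      (χ : G → ℂ) = indFun H (fun h => (lam h : ℂ)))
    {m n : ℕ} (h1m : 1 < m) (hmn : m < n) (h : Three G m n) : derivedSeries G 3 = ⊥ := by
  have hlin : ∀ χ : IrrCharacter G, charDegree (χ : G → ℂ) = 1 →
      ∀ g ∈ derivedSeries G 1, (χ : G → ℂ) g = (χ : G → ℂ) 1 := by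
    intro χ hχ g hg
    have h1 : (χ : G → ℂ) 1 = 1 := by rw [irr_apply_one χ, hχ, Nat.cast_one]
    rw [derivedSeries_one] at hg
    rw [h1, IsCharacter.apply_of_mem_commutator (irr_isCharacter χ) h1 hg]
  have hmdeg : ∀ χ : IrrCharacter G, charDegree (χ : G → ℂ) ≤ m →
      ∀ g ∈ derivedSeries G 2, (χ : G → ℂ) g = (χ : G → ℂ) 1 := by
    intro χ hχ g hg
    rcases h χ with h' | h' | h'
    · exact hlin χ h' g (derivedSeries_antitone (G := G) one_le_two hg)
    · refine taketa_step hM 1 χ (h' ▸ h1m) (fun ψ hψ => hlin ψ ?_) g hg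
      rcases h ψ with h'' | h'' | h'' <;> omega
    · omega
  refine (Subgroup.eq_bot_iff_forall _).mpr fun g hg => ?_
  by_contra hg1
  obtain ⟨χ, hχ⟩ := exists_irr_ne_apply_one hg1
  apply hχ
  rcases le_or_gt (charDegree (χ : G → ℂ)) m with h' | h'
  · exact hmdeg χ h' g (derivedSeries_antitone (G := G) (by norm_num : 2 ≤ 3) hg)
  · refine taketa_step hM 2 χ (by omega) (fun ψ hψ => hmdeg ψ ?_) g hg
    rcases h ψ with h'' | h'' | h'' <;> rcases h χ with h3 | h3 | h3 <;> omega

/-- A common prime of all nonlinear degrees. -/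
theorem derived_three_of_common [Finite G] {m n p : ℕ} (hp : p.Prime) (h1m : 1 < m) (hmn : m < n)
    (hm : ∃ χ : IrrCharacter G, charDegree (χ : G → ℂ) = m)
    (hpm : p ∣ m) (hpn : p ∣ n) (h : Three G m n)
    (ih : ∀ (N : Subgroup G), Nat.card N < Nat.card G → ∀ a b : ℕ, Three N a b →
      derivedSeries N 3 = ⊥) :
    derivedSeries G 3 = ⊥ := by
  classical
  haveI := Fact.mk hp
  haveI := Fintype.ofFinite G
  obtain ⟨N, hN, hcop, k, hk⟩ := Cfsg.Agent.S4456.result (G := G) p hp (fun χ hχ => by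
    rcases h χ with h' | h' | h'
    · exact absurd h' hχ
    · exact h' ▸ hpm
    · exact h' ▸ hpn)
  haveI := hN
  haveI := Fintype.ofFinite N
  have hlt : Nat.card N < Nat.card G := by
    obtain ⟨χ, hχ⟩ := hm
    have hpG : p ∣ Nat.card G := (hχ ▸ hpm).trans (charDegree_dvd_card χ)
    refine lt_of_le_of_ne (Subgroup.card_le_card_group N) fun he => ?_
    exact hp.ne_one (Nat.eq_one_of_dvd_coprimes hcop (he ▸ hpG) dvd_rfl)
  -- the part prime to `p` of a degree
  have hpp : ∀ (χ : IrrCharacter G) (θ : IrrCharacter N) (e : ℕ), e ∣ N.index →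
      charDegree (χ : G → ℂ) = e * charDegree (θ : N → ℂ) →
      charDegree (θ : N → ℂ) = ordCompl[p] (charDegree (χ : G → ℂ)) := by
    intro χ θ e he hd
    obtain ⟨i, -, rfl⟩ := (Nat.dvd_prime_pow hp).mp (hk ▸ he)
    have hnd : ¬ p ∣ charDegree (θ : N → ℂ) := fun hd' =>
      hp.ne_one (Nat.eq_one_of_dvd_coprimes hcop (hd'.trans (charDegree_dvd_card θ)) dvd_rfl)
    have hf : (p ^ i * charDegree (θ : N → ℂ)).factorization p = i := by
      rw [Nat.factorization_mul (pow_ne_zero _ hp.ne_zero) (charDegree_irr_pos θ).ne',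
        Finsupp.add_apply, Nat.factorization_eq_zero_of_not_dvd hnd, hp.factorization_pow,
        Finsupp.single_eq_same, add_zero]
    rw [hd, hf, Nat.mul_div_cancel_left _ (pow_pos hp.pos i)]
  set m' := ordCompl[p] m with hm'
  set n' := ordCompl[p] n with hn'
  have hone : ordCompl[p] 1 = 1 := by simp
  have hN3 : Three N m' n' := by
    intro θ
    obtain ⟨χ, e, he, hd, -⟩ := exists_over N θ
    rw [hpp χ θ e he hd]
    rcases h χ with h' | h' | h' <;> rw [h']
    · exact Or.inl hone
    · exact Or.inr (Or.inl rfl)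
    · exact Or.inr (Or.inr rfl)
  set X := (commutator N).map N.subtype with hX
  haveI : X.Normal := inferInstance
  -- degrees of the quotient by the derived subgroup of `N` are powers of `p`
  have hquot : ∀ φ : IrrCharacter (G ⧸ X), charDegree (φ : G ⧸ X → ℂ) = 1 ∨
      (charDegree (φ : G ⧸ X → ℂ) = m ∧ m' = 1) ∨ (charDegree (φ : G ⧸ X → ℂ) = n ∧ n' = 1) := by
    intro φ
    obtain ⟨χ, hχ, hker⟩ := exists_inflate X φ
    obtain ⟨θ, e, he, hd, hc⟩ := exists_below N χ
    have hθ1 : charDegree (θ : N → ℂ) = 1 := by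
      have hkill : ∀ x ∈ commutator N, (θ : N → ℂ) x = (θ : N → ℂ) 1 := fun x hx =>
        constituent_apply (IsCharacter.restrict (irr_isCharacter χ) N) hc
          (hker _ ⟨x, hx, rfl⟩)
      obtain ⟨ψ, hψ, heq⟩ := IsIrrCharacter.exists_quotient θ.2 (commutator N) hkill
      refine charDegree_of_apply_one ?_
      rw [heq, Function.comp_apply, map_one, Nat.cast_one]
      exact IsIrrCharacter.apply_one_of_comm (fun a b => by
        obtain ⟨a, rfl⟩ := QuotientGroup.mk_surjective a
        obtain ⟨b, rfl⟩ := QuotientGroup.mk_surjective b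
        refine QuotientGroup.eq.mpr ?_
        rw [show (a * b)⁻¹ * (b * a) = ⁅b⁻¹, a⁻¹⁆ by rw [commutatorElement_def]; group]
        exact Subgroup.commutator_mem_commutator (Subgroup.mem_top _) (Subgroup.mem_top _)) hψ
    have hord := hpp χ θ e he hd
    rw [hθ1] at hord
    rw [← hχ]
    rcases h χ with h' | h' | h' <;> rw [h'] at hord ⊢
    · exact Or.inl rfl
    · exact Or.inr (Or.inl ⟨rfl, hord.symm⟩)
    · exact Or.inr (Or.inr ⟨rfl, hord.symm⟩)
  have hXD : X = (derivedSeries N 1).map N.subtype := by rw [derivedSeries_one]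
  by_cases hm1 : m' = 1
  · by_cases hn1 : n' = 1
    · -- all degrees are powers of `p`
      have hab : ∀ a b : N, a * b = b * a := comm_iff_forall_irr_one.mpr fun θ => by
        rw [irr_apply_one θ]
        rcases hN3 θ with h' | h' | h' <;> rw [h'] <;> simp [hm1, hn1]
      exact derived_three_of_monomial (monomial_of_abelian N hab hcop hk) h1m hmn h
    · have hN2 : derivedSeries N 2 = ⊥ := derived_two_eq_bot (m := n') fun θ => by
        rcases hN3 θ with h' | h' | h'
        · exact Or.inl h'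
        · exact Or.inl (h'.trans hm1)
        · exact Or.inr h'
      have hQ : derivedSeries (G ⧸ X) 2 = ⊥ := derived_two_eq_bot (m := m) fun φ => by
        rcases hquot φ with h' | ⟨h', -⟩ | ⟨-, h'⟩
        · exact Or.inl h'
        · exact Or.inr h'
        · exact absurd h' hn1
      have := derived_le_map N (j := 2) (i := 1) (hXD ▸ derived_le_of_quotient X hQ) 1
      rwa [hN2, Subgroup.map_bot, le_bot_iff] at this
  · by_cases hn1 : n' = 1
    · have hN2 : derivedSeries N 2 = ⊥ := derived_two_eq_bot (m := m') fun θ => by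
        rcases hN3 θ with h' | h' | h'
        · exact Or.inl h'
        · exact Or.inr h'
        · exact Or.inl (h'.trans hn1)
      have hQ : derivedSeries (G ⧸ X) 2 = ⊥ := derived_two_eq_bot (m := n) fun φ => by
        rcases hquot φ with h' | ⟨-, h'⟩ | ⟨h', -⟩
        · exact Or.inl h'
        · exact absurd h' hm1
        · exact Or.inr h'
      have := derived_le_map N (j := 2) (i := 1) (hXD ▸ derived_le_of_quotient X hQ) 1
      rwa [hN2, Subgroup.map_bot, le_bot_iff] at this
    · have hQ : derivedSeries (G ⧸ X) 1 = ⊥ := by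
        rw [derivedSeries_one, commutator_def, eq_bot_iff, Subgroup.commutator_le]
        intro a _ b _
        refine Subgroup.mem_bot.mpr (commutatorElement_eq_one_iff_mul_comm.mpr ?_)
        exact comm_iff_forall_irr_one.mpr (fun φ => by
          rw [irr_apply_one φ]
          rcases hquot φ with h' | ⟨-, h'⟩ | ⟨-, h'⟩
          · rw [h', Nat.cast_one]
          · exact absurd h' hm1
          · exact absurd h' hn1) a b
      have := derived_le_map N (j := 1) (i := 1) (hXD ▸ derived_le_of_quotient X hQ) 2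
      rwa [show derivedSeries N (1 + 2) = ⊥ from ih N hlt m' n' hN3, Subgroup.map_bot, le_bot_iff]
        at this

/-- The solvable case with coprime degrees. -/
theorem derived_three_of_coprime [Finite G] [Group.IsSolvable G] {m n : ℕ} (h1m : 1 < m)
    (h1n : 1 < n) (hcop : m.Coprime n)
    (hm : ∃ χ : IrrCharacter G, charDegree (χ : G → ℂ) = m)
    (hn : ∃ χ : IrrCharacter G, charDegree (χ : G → ℂ) = n) (h : Three G m n) :
    derivedSeries G 3 = ⊥ := by
  classical
  haveI := Fintype.ofFinite G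
  have hne : m ≠ n := fun he => by
    rw [he, Nat.coprime_self] at hcop
    omega
  by_cases hna : ∀ a b : G, a * b = b * a
  · have h1 : derivedSeries G 1 = ⊥ := by
      rw [derivedSeries_one, commutator_def, eq_bot_iff, Subgroup.commutator_le]
      intro a _ b _
      exact Subgroup.mem_bot.mpr (commutatorElement_eq_one_iff_mul_comm.mpr (hna a b))
    exact le_bot_iff.mp (h1 ▸ derivedSeries_antitone (G := G) (by norm_num : 1 ≤ 3))
  rcases exists_degree_quotient hna with ⟨N, hNn, p, hp, hpG, hnab⟩ | ⟨N, K, q, hF⟩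
  · exfalso
    haveI := hNn
    haveI := Fact.mk hp
    obtain ⟨η, hη⟩ : ∃ η : IrrCharacter (G ⧸ N), charDegree (η : G ⧸ N → ℂ) ≠ 1 := by
      by_contra hc
      push Not at hc
      exact hnab (comm_iff_forall_irr_one.mpr fun φ => by rw [irr_apply_one φ, hc φ, Nat.cast_one])
    obtain ⟨k, hk⟩ := hpG.exists_card_eq
    obtain ⟨i, -, hi⟩ := (Nat.dvd_prime_pow hp).mp (hk ▸ charDegree_dvd_card η)
    have hpη : p ∣ charDegree (η : G ⧸ N → ℂ) := by
      rw [hi] at hη ⊢
      exact dvd_pow_self p fun h0 => hη (by rw [h0, pow_zero])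
    obtain ⟨χ₁, hχ₁, -⟩ := exists_inflate N η
    have key : ∀ a b : ℕ, 1 < a → 1 < b → a.Coprime b → charDegree (η : G ⧸ N → ℂ) = a →
        (∃ χ : IrrCharacter G, charDegree (χ : G → ℂ) = b) → (∀ d, d = 1 ∨ d = m ∨ d = n →
          d ≠ a * b) → False := by
      intro a b ha hb hab hηa hb' hnot
      obtain ⟨χ, hχ⟩ := hb'
      have hpb : ¬ p ∣ charDegree (χ : G → ℂ) := fun hd =>
        hp.ne_one (Nat.eq_one_of_dvd_coprimes hab (hηa ▸ hpη) (hχ ▸ hd))
      obtain ⟨ψ, hψ⟩ := exists_mul_degree_of_pQuotient N hp hpG η.2 χ hpb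
      rw [hηa, hχ] at hψ
      exact hnot _ (h ψ) hψ
    rcases h χ₁ with h' | h' | h' <;> rw [hχ₁] at h'
    · exact hη h'
    · exact key m n h1m h1n hcop h' hn (fun d hd he => by
        rcases hd with rfl | rfl | rfl <;> nlinarith)
    · exact key n m h1n h1m hcop.symm h' hm (fun d hd he => by
        rcases hd with rfl | rfl | rfl <;> nlinarith)
  · haveI := hF.normalN
    haveI := hF.normalK
    haveI := Fact.mk hF.prime
    haveI := Fintype.ofFinite K
    set f := K.index with hf
    have hf1 : f ≠ 1 := fun h => hF.neTop (Subgroup.index_eq_one.mp h)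
    have hqf : ¬ q ∣ f := by
      intro hd
      rw [hf, Subgroup.index_eq_card] at hd
      obtain ⟨t, ht⟩ := exists_prime_orderOf_dvd_card' q hd
      set π := QuotientGroup.mk' K
      set H := (Subgroup.zpowers t).comap π with hH
      have hKH : K ≤ H := fun x hx => by
        show π x ∈ Subgroup.zpowers t
        rw [show π x = 1 from (QuotientGroup.eq_one_iff x).mpr hx]
        exact one_mem _
      have hidx : K.relIndex H = q := by
        have h2 := Subgroup.relIndex_ker π (K := H)
        rw [QuotientGroup.ker_mk'] at h2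
        rw [h2, hH, Subgroup.map_comap_eq_self_of_surjective (QuotientGroup.mk'_surjective K),
          Nat.card_zpowers, ht]
      obtain ⟨j, hj⟩ := hF.qGroup
      have hpow : ∃ j, N.relIndex H = q ^ j :=
        ⟨j + 1, by rw [← Subgroup.relIndex_mul_relIndex N K H hF.le hKH, hj, hidx, pow_succ]⟩
      obtain ⟨M, hNM, hMK, hrel, -, hcen⟩ := exists_central_step H K N
        (lt_of_le_of_ne hF.le hF.neK) hKH (fun h _ k hk => hF.normalK.conj_mem k hk h)
        (fun h _ k hk => hF.normalN.conj_mem k hk h) hpow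
      obtain ⟨s, hs⟩ := QuotientGroup.mk'_surjective K t
      have hsK : s ∉ K := fun hsK => by
        rw [show π s = 1 from (QuotientGroup.eq_one_iff s).mpr hsK] at hs
        rw [← hs, orderOf_one] at ht
        exact hF.prime.ne_one ht.symm
      have hsH : s ∈ H := by
        show π s ∈ Subgroup.zpowers t
        rw [hs]; exact Subgroup.mem_zpowers t
      have hMN : M ≤ N := fun x hx => hF.fpf s hsK x (hMK hx) (hcen s hsH x hx)
      rw [le_antisymm hMN hNM, Subgroup.relIndex_self] at hrel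
      exact hF.prime.ne_one hrel.symm
    obtain ⟨χ₀, hχ₀⟩ := (hF.dvd_or_exists (trivIrr K)).resolve_left (by
      rw [charDegree_trivIrr]; exact fun h => hF.prime.one_lt.ne' (Nat.dvd_one.mp h))
    rw [charDegree_trivIrr, mul_one, ← hf] at hχ₀
    have key : ∀ g : ℕ, 1 < g → f.Coprime g → Three G f g → derivedSeries G 3 = ⊥ := by
      intro g h1g hfg h3
      have hK2 : derivedSeries K 2 = ⊥ := derived_two_eq_bot (m := g) fun ψ => by
        rcases hF.dvd_or_exists ψ with hq | ⟨χ, hχ⟩
        · right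
          obtain ⟨χ, e, he, hd, -⟩ := exists_over K ψ
          have hqd : q ∣ charDegree (χ : G → ℂ) := hd ▸ hq.mul_left e
          rcases h3 χ with h' | h' | h'
          · exact absurd (Nat.dvd_one.mp (h' ▸ hqd)) hF.prime.ne_one
          · exact absurd (h' ▸ hqd) hqf
          · rw [h'] at hd
            have he1 : e = 1 := Nat.eq_one_of_dvd_coprimes hfg he (Dvd.intro _ hd.symm)
            rw [hd, he1, one_mul]
        · rw [← hf] at hχ
          rcases h3 χ with h' | h' | h' <;> rw [hχ] at h'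
          · exact absurd (Nat.eq_one_of_mul_eq_one_right h') hf1
          · exact Or.inl (Nat.eq_of_mul_eq_mul_left (Nat.pos_of_ne_zero Subgroup.index_ne_zero_of_finite)
              (by rw [h', mul_one]))
          · exfalso
            have := Nat.eq_one_of_dvd_coprimes hfg dvd_rfl (Dvd.intro _ h')
            exact hf1 this
      have h1 : derivedSeries G 1 ≤ (derivedSeries K 0).map K.subtype := by
        rw [derivedSeries_one, derivedSeries_zero, ← MonoidHom.range_eq_map, Subgroup.range_subtype]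
        exact hF.commLeK
      have := derived_le_map K h1 2
      rwa [show derivedSeries K (0 + 2) = ⊥ from hK2, Subgroup.map_bot, le_bot_iff] at this
    rcases h χ₀ with h' | h' | h' <;> rw [hχ₀] at h'
    · exact absurd h' hf1
    · exact key n h1n (h' ▸ hcop) (fun χ => h' ▸ h χ)
    · exact key m h1m (h' ▸ hcop.symm) (fun χ => by
        rw [h']
        rcases h χ with h'' | h'' | h''
        · exact Or.inl h''
        · exact Or.inr (Or.inr h'')
        · exact Or.inr (Or.inl h''))

theorem classInner_mul_shift [Fintype G] (a b c : G → ℂ) :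
    classInner (a * b) c = classInner a (c * fun g => conj (b g)) := by
  simp only [classInner, Pi.mul_apply, map_mul, Complex.conj_conj]
  congr 1
  exact Finset.sum_congr rfl fun g _ => by ring

theorem conj_mul_self_of_linear [Finite G] (lam : G →* ℂˣ) (g : G) :
    conj ((lam g : ℂ)) * (lam g : ℂ) = 1 := by
  have h1 : ‖(lam g : ℂ)‖ = 1 := by
    refine (pow_eq_one_iff_of_nonneg (norm_nonneg _) (orderOf_pos g).ne').mp ?_
    rw [← norm_pow, ← Units.val_pow_eq_pow_val, ← map_pow, pow_orderOf_eq_one, map_one,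
      Units.val_one, norm_one]
  rw [Complex.conj_mul', h1]
  norm_num

theorem classInner_twist [Fintype G] (lam : G →* ℂˣ) (φ ψ : G → ℂ) :
    classInner (fun g => (lam g : ℂ) * φ g) (fun g => (lam g : ℂ) * ψ g) = classInner φ ψ := by
  simp only [classInner, map_mul]
  congr 1
  refine Finset.sum_congr rfl fun g _ => ?_
  have := conj_mul_self_of_linear lam g
  linear_combination (φ g * conj (ψ g)) * this

theorem twist_apply_of_commutator [Finite G] (lam : G →* ℂˣ) {g : G} (hg : g ∈ commutator G) :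
    (lam g : ℂ) = 1 := by
  rw [show lam g = 1 from MonoidHom.mem_ker.mp (Abelianization.commutator_subset_ker lam hg),
    Units.val_one]

/-- No two coprime degrees over the least normal subgroup. -/
theorem false_of_faithful [Fintype G] {m n : ℕ} (h1m : 1 < m) (hmn : m < n) (hcop : m.Coprime n)
    (h : Three G m n) (R : Subgroup G) [R.Normal] (hR : R ≠ ⊥)
    (hRmin : ∀ X : Subgroup G, X.Normal → X ≠ ⊥ → R ≤ X) (hRc : R ≤ commutator G)
    {χ : IrrCharacter G} (hχ : charDegree (χ : G → ℂ) = m)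
    (hχR : ∃ r ∈ R, (χ : G → ℂ) r ≠ (χ : G → ℂ) 1)
    {ψ : IrrCharacter G} (hψ : charDegree (ψ : G → ℂ) = n)
    (hψR : ∃ r ∈ R, (ψ : G → ℂ) r ≠ (ψ : G → ℂ) 1) : False := by
  classical
  haveI := Fintype.ofFinite (IrrCharacter G)
  have hfaith : ∀ φ : IrrCharacter G, (∃ r ∈ R, (φ : G → ℂ) r ≠ (φ : G → ℂ) 1) →
      ∀ g, (φ : G → ℂ) g = (φ : G → ℂ) 1 → g = 1 := by
    rintro φ ⟨r, hr, hrne⟩ g hg
    by_contra hg1
    have hne : charKernel (irr_isCharacter φ) ≠ ⊥ := fun hb => hg1 (by
      have : g ∈ charKernel (irr_isCharacter φ) := hg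
      rwa [hb, Subgroup.mem_bot] at this)
    exact hrne (hRmin _ inferInstance hne hr)
  set cχ : G → ℂ := fun g => conj ((χ : G → ℂ) g) with hcχ
  have hcχc : IsCharacter G cχ := IsCharacter.conjugate (irr_isCharacter χ)
  -- the degree equation
  have hsplit : ∀ (φ : G → ℂ), IsCharacter G φ → ∀ D : ℕ, φ 1 = (D : ℂ) →
      (∀ φ' : IrrCharacter G, classInner φ (φ' : G → ℂ) ≠ 0 → charDegree (φ' : G → ℂ) ≠ 1) →
      ∃ a b : ℕ, D = m * a + n * b ∧
        (∀ φ' : IrrCharacter G, classInner φ (φ' : G → ℂ) ≠ 0 →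
          charDegree (φ' : G → ℂ) = m → a ≠ 0) ∧
        ∀ φ' : IrrCharacter G, classInner φ (φ' : G → ℂ) ≠ 0 →
          charDegree (φ' : G → ℂ) = n → b ≠ 0 := by
    intro φ hφ D hD hno
    obtain ⟨c, hc, hc'⟩ := IsCharacter.exists_nat_decomp hφ
    refine ⟨∑ φ' ∈ Finset.univ.filter (fun φ' : IrrCharacter G => charDegree (φ' : G → ℂ) = m), c φ',
      ∑ φ' ∈ Finset.univ.filter (fun φ' : IrrCharacter G => charDegree (φ' : G → ℂ) = n), c φ',
      ?_, ?_, ?_⟩
    · have h1 : D = ∑ φ' : IrrCharacter G, c φ' * charDegree (φ' : G → ℂ) := by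
        have := congrFun hc 1
        rw [hD] at this
        simp only [Finset.sum_apply, Pi.smul_apply, smul_eq_mul, irr_apply_one] at this
        exact_mod_cast this
      rw [h1, Finset.mul_sum, Finset.mul_sum, Finset.sum_filter, Finset.sum_filter,
        ← Finset.sum_add_distrib]
      refine Finset.sum_congr rfl fun φ' _ => ?_
      rcases h φ' with h' | h' | h'
      · have : c φ' = 0 := by
          by_contra h0
          exact hno φ' (by rw [hc']; exact_mod_cast h0) h'
        simp [this]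
      · rw [if_pos h', if_neg (by omega), h', add_zero, mul_comm]
      · rw [if_neg (by omega), if_pos h', h', zero_add, mul_comm]
    · intro φ' hne hd h0
      rw [hc'] at hne
      have h2 : c φ' = 0 :=
        Finset.sum_eq_zero_iff.mp h0 φ' (Finset.mem_filter.mpr ⟨Finset.mem_univ _, hd⟩)
      exact hne (by rw [h2, Nat.cast_zero])
    · intro φ' hne hd h0
      rw [hc'] at hne
      have h2 : c φ' = 0 :=
        Finset.sum_eq_zero_iff.mp h0 φ' (Finset.mem_filter.mpr ⟨Finset.mem_univ _, hd⟩)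
      exact hne (by rw [h2, Nat.cast_zero])
  have hdeg1 : ∀ φ : IrrCharacter G, (φ : G → ℂ) 1 = (charDegree (φ : G → ℂ) : ℂ) := irr_apply_one
  -- two characters of degree `m` and a constituent of degree `n`
  have hcross : ∀ (φ₁ φ₂ φ' : IrrCharacter G), charDegree (φ₁ : G → ℂ) = m →
      charDegree (φ₂ : G → ℂ) = m → charDegree (φ' : G → ℂ) = n →
      classInner ((φ₁ : G → ℂ) * (φ₂ : G → ℂ)) (φ' : G → ℂ) ≠ 0 →
      ∃ lam : G →* ℂˣ, (φ₁ : G → ℂ) = fun g => (lam g : ℂ) * conj ((φ₂ : G → ℂ) g) := by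
    intro φ₁ φ₂ φ' h1 h2 h' hne
    by_contra hno
    push Not at hno
    obtain ⟨a, b, hab, -, hb⟩ := hsplit _
      (IsCharacter.mul (irr_isCharacter φ₁) (irr_isCharacter φ₂)) (m * m)
      (by simp [hdeg1, h1, h2]) (fun μ hμ hμ1 => by
        obtain ⟨lam, hlam⟩ := IsCharacter.exists_hom_of_apply_one (irr_isCharacter μ)
          (by rw [hdeg1, hμ1, Nat.cast_one])
        rw [classInner_mul_shift, hlam] at hμ
        apply hno lam
        by_contra hne'
        exact hμ (IsIrrCharacter.classInner_ne φ₁.2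
          (isIrrCharacter_twist lam (IsIrrCharacter.conjugate φ₂.2)) hne'))
    have hb0 := hb φ' hne h'
    have hmb : m ∣ b := by
      refine hcop.dvd_of_dvd_mul_left ?_
      exact (Nat.dvd_add_right (dvd_mul_right m a)).mp (hab ▸ dvd_mul_right m m)
    have := Nat.le_of_dvd (Nat.pos_of_ne_zero hb0) hmb
    nlinarith
  -- a product of degrees `n` and `m`
  have hmixed : ∀ (φ φ₁ φ' : IrrCharacter G), charDegree (φ : G → ℂ) = n →
      classInner ((φ : G → ℂ) * (χ : G → ℂ)) (φ₁ : G → ℂ) ≠ 0 → charDegree (φ₁ : G → ℂ) = m →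
      classInner ((φ : G → ℂ) * (χ : G → ℂ)) (φ' : G → ℂ) ≠ 0 →
      charDegree (φ' : G → ℂ) = m := by
    intro φ φ₁ φ' hφ hne₁ h₁ hne'
    have hno : ∀ μ : IrrCharacter G, classInner ((φ : G → ℂ) * (χ : G → ℂ)) (μ : G → ℂ) ≠ 0 →
        charDegree (μ : G → ℂ) ≠ 1 := by
      intro μ hμ hμ1
      obtain ⟨lam, hlam⟩ := IsCharacter.exists_hom_of_apply_one (irr_isCharacter μ)
        (by rw [hdeg1, hμ1, Nat.cast_one])
      rw [classInner_mul_shift, hlam] at hμ
      have : (φ : G → ℂ) ≠ fun g => (lam g : ℂ) * conj ((χ : G → ℂ) g) := fun he => by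
        have := congrFun he 1
        rw [hdeg1, hdeg1, hφ, hχ, map_one, Units.val_one, one_mul, map_natCast] at this
        have : n = m := by exact_mod_cast this
        omega
      exact hμ (IsIrrCharacter.classInner_ne φ.2
        (isIrrCharacter_twist lam (IsIrrCharacter.conjugate χ.2)) this)
    obtain ⟨a, b, hab, ha, hb⟩ := hsplit _
      (IsCharacter.mul (irr_isCharacter φ) (irr_isCharacter χ)) (n * m)
      (by simp [hdeg1, hφ, hχ]) hno
    rcases h φ' with h' | h' | h'
    · exact absurd h' (hno φ' hne')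
    · exact h'
    · exfalso
      have ha0 := ha φ₁ hne₁ h₁
      have hb0 := hb φ' hne' h'
      have hmb : m ∣ b := by
        refine hcop.dvd_of_dvd_mul_left ?_
        exact (Nat.dvd_add_right (dvd_mul_right m a)).mp (hab ▸ dvd_mul_left m n)
      have := Nat.le_of_dvd (Nat.pos_of_ne_zero hb0) hmb
      have := Nat.pos_of_ne_zero ha0
      nlinarith
  set Good : IrrCharacter G → Prop := fun φ => charDegree (φ : G → ℂ) = 1 ∨
    charDegree (φ : G → ℂ) = m ∨ ∃ lam : G →* ℂˣ,
      classInner ((χ : G → ℂ) * cχ) (fun g => (lam g : ℂ) * (φ : G → ℂ) g) ≠ 0 with hGood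
  have hstep : ∀ φ φ' : IrrCharacter G, Good φ →
      classInner ((φ : G → ℂ) * (χ : G → ℂ)) (φ' : G → ℂ) ≠ 0 → Good φ' := by
    intro φ φ' hg hne
    rcases h φ with hd | hd | hd
    · right; left
      obtain ⟨lam, hlam⟩ := IsCharacter.exists_hom_of_apply_one (irr_isCharacter φ)
        (by rw [hdeg1, hd, Nat.cast_one])
      have hirr : IsIrrCharacter G ((φ : G → ℂ) * (χ : G → ℂ)) := by
        rw [hlam]; exact isIrrCharacter_twist lam χ.2
      have he : (φ : G → ℂ) * (χ : G → ℂ) = (φ' : G → ℂ) := by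
        by_contra hne'
        exact hne (IsIrrCharacter.classInner_ne hirr φ'.2 hne')
      refine charDegree_of_apply_one ?_
      rw [← he, Pi.mul_apply, hdeg1, hdeg1, hd, hχ, Nat.cast_one, one_mul]
    · rcases h φ' with h' | h' | h'
      · exact Or.inl h'
      · exact Or.inr (Or.inl h')
      · obtain ⟨lam, hlam⟩ := hcross φ χ φ' hd hχ h' hne
        refine Or.inr (Or.inr ⟨lam⁻¹, ?_⟩)
        rw [← classInner_twist lam]
        convert hne using 2
        · funext g
          simp only [Pi.mul_apply, hlam, hcχ]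
          ring
        · funext g
          rw [MonoidHom.inv_apply, Units.val_inv_eq_inv_val, ← mul_assoc,
            mul_inv_cancel₀ (Units.ne_zero _), one_mul]
    · obtain ⟨lam, hlam⟩ := (hg.resolve_left (by omega)).resolve_left (by omega)
      have hφ₁ := isIrrCharacter_twist lam φ.2
      have hφ'₁ := isIrrCharacter_twist lam φ'.2
      have hd₁ : charDegree (fun g => (lam g : ℂ) * (φ : G → ℂ) g) = n :=
        charDegree_of_apply_one (by rw [map_one, Units.val_one, one_mul, hdeg1, hd])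
      have h1 : classInner ((fun g => (lam g : ℂ) * (φ : G → ℂ) g) * (χ : G → ℂ)) (χ : G → ℂ) ≠ 0 := by
        rw [classInner_mul_shift]
        intro h0
        apply hlam
        rw [show (χ : G → ℂ) * cχ = (χ : G → ℂ) * fun g => conj ((χ : G → ℂ) g) from rfl,
          ← classInner_conj_symm, h0, map_zero]
      have h2 : classInner ((fun g => (lam g : ℂ) * (φ : G → ℂ) g) * (χ : G → ℂ))
          (fun g => (lam g : ℂ) * (φ' : G → ℂ) g) ≠ 0 := by
        rw [show (fun g => (lam g : ℂ) * (φ : G → ℂ) g) * (χ : G → ℂ) =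
          fun g => (lam g : ℂ) * ((φ : G → ℂ) * (χ : G → ℂ)) g from by
            funext g; simp only [Pi.mul_apply]; ring, classInner_twist]
        exact hne
      have h3 : charDegree (fun g => (lam g : ℂ) * (φ' : G → ℂ) g) = m :=
        hmixed ⟨_, hφ₁⟩ χ ⟨_, hφ'₁⟩ hd₁ h1 hχ h2
      right; left
      refine charDegree_of_apply_one ?_
      have h4 := hdeg1 ⟨_, hφ'₁⟩
      change (lam 1 : ℂ) * (φ' : G → ℂ) 1 = _ at h4
      rw [map_one, Units.val_one, one_mul] at h4
      rw [h4]
      exact_mod_cast h3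
  have hpow : ∀ (j : ℕ) (φ : IrrCharacter G),
      classInner ((χ : G → ℂ) ^ j) (φ : G → ℂ) ≠ 0 → Good φ := by
    intro j
    induction j with
    | zero =>
      intro φ hne
      left
      have he : (φ : G → ℂ) = fun _ => 1 := by
        by_contra hne'
        exact hne (IsIrrCharacter.classInner_ne isIrrCharacter_one φ.2 (Ne.symm hne'))
      exact charDegree_of_apply_one (by rw [he, Nat.cast_one])
    | succ j ih =>
      intro φ' hne
      obtain ⟨c, hc, hc'⟩ := IsCharacter.exists_nat_decomp (IsCharacter.pow (irr_isCharacter χ) j)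
      rw [pow_succ, classInner_mul_shift, hc, classInner_sum_left] at hne
      obtain ⟨φ, -, hφ⟩ := Finset.exists_ne_zero_of_sum_ne_zero hne
      rw [classInner_smul_left] at hφ
      obtain ⟨h1, h2⟩ := ne_zero_and_ne_zero_of_mul hφ
      refine hstep φ φ' (ih φ (by rw [hc']; exact h1)) ?_
      rw [classInner_mul_shift]
      exact h2
  -- `ψ` occurs in a power of `χ`
  obtain ⟨j, hj⟩ : ∃ j : ℕ, classInner ((χ : G → ℂ) ^ j) (ψ : G → ℂ) ≠ 0 := by
    by_contra hno
    push Not at hno
    let S := (Finset.univ.image (χ : G → ℂ)).erase ((χ : G → ℂ) 1)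
    let P : Polynomial ℂ := ∏ v ∈ S, (Polynomial.X - Polynomial.C v)
    have h0 : ∑ g : G, P.eval ((χ : G → ℂ) g) * conj ((ψ : G → ℂ) g) = 0 := by
      simp only [Polynomial.eval_eq_sum_range, Finset.sum_mul]
      rw [Finset.sum_comm]
      refine Finset.sum_eq_zero fun i _ => ?_
      simp only [mul_assoc, ← Finset.mul_sum]
      have := hno i
      simp only [classInner, Pi.pow_apply] at this
      rw [(mul_eq_zero.mp this).resolve_left (inv_ne_zero natCard_ne_zero_complex), mul_zero]
    rw [Finset.sum_eq_single (1 : G)] at h0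
    · refine mul_ne_zero ?_ ?_ h0
      · simp only [P, Polynomial.eval_prod, Polynomial.eval_sub, Polynomial.eval_X, Polynomial.eval_C]
        exact Finset.prod_ne_zero_iff.mpr fun v hv => sub_ne_zero.mpr (Finset.mem_erase.mp hv).1.symm
      · rw [hdeg1, map_natCast, Nat.cast_ne_zero, hψ]
        omega
    · intro g _ hg1
      have hv : (χ : G → ℂ) g ∈ S := Finset.mem_erase.mpr
        ⟨fun he => hg1 (hfaith χ hχR g he), Finset.mem_image_of_mem _ (Finset.mem_univ g)⟩
      simp only [P, Polynomial.eval_prod]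
      rw [Finset.prod_eq_zero hv (by simp), zero_mul]
    · simp
  obtain ⟨lam, hlam⟩ := ((hpow j ψ hj).resolve_left (by omega)).resolve_left (by omega)
  set ψ₀ : IrrCharacter G := ⟨_, isIrrCharacter_twist lam ψ.2⟩ with hψ₀def
  have hψ₀ : charDegree (ψ₀ : G → ℂ) = n :=
    charDegree_of_apply_one (by
      show (lam 1 : ℂ) * (ψ : G → ℂ) 1 = _
      rw [map_one, Units.val_one, one_mul, hdeg1, hψ])
  have hψ₀R : ∀ r ∈ R, (ψ₀ : G → ℂ) r = (ψ : G → ℂ) r := fun r hr => by
    show (lam r : ℂ) * (ψ : G → ℂ) r = _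
    rw [twist_apply_of_commutator lam (hRc hr), one_mul]
  obtain ⟨c, hc, hc'⟩ := IsCharacter.exists_nat_decomp
    (IsCharacter.mul (irr_isCharacter ψ₀) (irr_isCharacter χ))
  have h1 : classInner ((ψ₀ : G → ℂ) * (χ : G → ℂ)) (χ : G → ℂ) ≠ 0 := by
    rw [classInner_mul_shift, ← classInner_conj_symm]
    intro h0
    exact hlam (by simpa using h0)
  have hterm : ∀ φ' : IrrCharacter G, c φ' ≠ 0 → ∀ r ∈ R,
      (φ' : G → ℂ) r = (χ : G → ℂ) r := by
    intro φ' hne r hr
    have hne' : classInner ((ψ₀ : G → ℂ) * (χ : G → ℂ)) (φ' : G → ℂ) ≠ 0 := by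
      rw [hc']; exact_mod_cast hne
    have hdm := hmixed ψ₀ χ φ' hψ₀ h1 hχ hne'
    rw [classInner_mul_shift, ← classInner_conj_symm] at hne'
    have hne'' : classInner ((φ' : G → ℂ) * cχ) (ψ₀ : G → ℂ) ≠ 0 := fun h0 => hne' (by
      rw [hcχ] at h0; rw [h0, map_zero])
    have hcd : charDegree cχ = m :=
      charDegree_of_apply_one (by rw [hcχ]; simp [hdeg1, hχ])
    obtain ⟨μ, hμ⟩ := hcross φ' ⟨cχ, IsIrrCharacter.conjugate χ.2⟩ ψ₀ hdm hcd hψ₀ hne''
    rw [hμ]
    show (μ r : ℂ) * conj (conj ((χ : G → ℂ) r)) = _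
    rw [twist_apply_of_commutator μ (hRc hr), one_mul, Complex.conj_conj]
  have hval : ∀ r ∈ R, (ψ₀ : G → ℂ) r * (χ : G → ℂ) r = (∑ φ', (c φ' : ℂ)) * (χ : G → ℂ) r := by
    intro r hr
    have := congrFun hc r
    rw [Pi.mul_apply] at this
    rw [this, Finset.sum_apply, Finset.sum_mul]
    refine Finset.sum_congr rfl fun φ' _ => ?_
    by_cases h0 : c φ' = 0
    · simp [h0]
    · rw [Pi.smul_apply, smul_eq_mul, hterm φ' h0 r hr]
  have hsum : (∑ φ', (c φ' : ℂ)) = (n : ℂ) := by
    have := hval 1 R.one_mem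
    rw [hdeg1, hdeg1, hψ₀, hχ] at this
    exact (mul_right_cancel₀ (Nat.cast_ne_zero.mpr (by omega)) this).symm
  have hvanish : ∀ r ∈ R, r ≠ 1 → (χ : G → ℂ) r = 0 := by
    intro r hr hr1
    by_contra h0
    have h2 := mul_right_cancel₀ h0 (hval r hr)
    rw [hsum, hψ₀R r hr] at h2
    refine hr1 (hfaith ψ hψR r ?_)
    rw [h2, hdeg1, hψ]
  haveI := Fintype.ofFinite R
  have havg : avgN R (χ : G → ℂ) 1 = (Nat.card R : ℂ)⁻¹ * m := by
    rw [avgN, Finset.sum_eq_single (1 : R)]
    · simp [hdeg1, hχ]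
    · intro x _ hx
      rw [mul_one, hvanish x x.2 fun he => hx (Subtype.ext he)]
    · simp
  rcases IsIrrCharacter.avgN_eq R χ.2 with he | he <;> rw [he] at havg
  · simp only [Pi.zero_apply] at havg
    exact mul_ne_zero (inv_ne_zero natCard_ne_zero_complex) (Nat.cast_ne_zero.mpr (by omega)) havg.symm
  · rw [hdeg1, hχ] at havg
    have h2 : (Nat.card R : ℂ)⁻¹ = 1 :=
      mul_right_cancel₀ (Nat.cast_ne_zero.mpr (by omega : m ≠ 0)) (by rw [← havg, one_mul])
    rw [inv_eq_one, Nat.cast_eq_one] at h2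
    exact hR (Subgroup.card_eq_one.mp h2)

/-- The main induction. -/
theorem derived_three : ∀ (N : ℕ) {G : Type u} [Group G] [Finite G], Nat.card G = N →
    ∀ m n : ℕ, Three G m n → derivedSeries G 3 = ⊥ := by
  intro N
  induction N using Nat.strong_induction_on with
  | _ N ih =>
    intro G _ _ hN m n h
    classical
    haveI := Fintype.ofFinite G
    have htwo : ∀ a : ℕ, (∀ χ : IrrCharacter G, charDegree (χ : G → ℂ) = 1 ∨
        charDegree (χ : G → ℂ) = a) → derivedSeries G 3 = ⊥ := fun a ha =>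
      le_bot_iff.mp (derived_two_eq_bot ha ▸ derivedSeries_antitone (G := G) (by norm_num : 2 ≤ 3))
    by_cases hm : ∃ χ : IrrCharacter G, charDegree (χ : G → ℂ) = m
    swap
    · exact htwo n fun χ => (h χ).imp_right fun h' => h'.resolve_left fun he => hm ⟨χ, he⟩
    by_cases hn : ∃ χ : IrrCharacter G, charDegree (χ : G → ℂ) = n
    swap
    · exact htwo m fun χ => (h χ).imp_right fun h' => h'.resolve_right fun he => hn ⟨χ, he⟩
    by_cases hm1 : m = 1
    · exact htwo n fun χ => by rcases h χ with h' | h' | h' <;> omega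
    by_cases hn1 : n = 1
    · exact htwo m fun χ => by rcases h χ with h' | h' | h' <;> omega
    by_cases hmn : m = n
    · exact htwo m fun χ => by rcases h χ with h' | h' | h' <;> omega
    wlog hlt : m < n generalizing m n
    · exact this n m (fun χ => by rcases h χ with h' | h' | h' <;> tauto) hn hm hn1 hm1 (Ne.symm hmn)
        (by omega)
    have hm0 : 0 < m := by
      obtain ⟨χ, rfl⟩ := hm
      exact charDegree_irr_pos χ
    have h1m : 1 < m := by omega
    have ihN : ∀ (X : Subgroup G), Nat.card X < Nat.card G → ∀ a b : ℕ, Three X a b →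
        derivedSeries X 3 = ⊥ := fun X hX a b hab => ih _ (hN ▸ hX) rfl a b hab
    by_cases hcop : m.Coprime n
    swap
    · obtain ⟨p, hp, hpm, hpn⟩ := Nat.Prime.not_coprime_iff_dvd.mp hcop
      exact derived_three_of_common hp h1m hlt hm hpm hpn h ihN
    by_cases hsolv : Group.IsSolvable G
    · exact derived_three_of_coprime h1m (by omega) hcop hm hn h
    exfalso
    -- the last term of the derived series
    have hex : ∃ v, ∃ i, Nat.card (derivedSeries G i) = v := ⟨_, 0, rfl⟩
    obtain ⟨i, hi⟩ := Nat.find_spec hex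
    have hle : ∀ j, derivedSeries G i ≤ derivedSeries G j := by
      intro j
      rcases le_total j i with hji | hij
      · exact derivedSeries_antitone (G := G) hji
      · have h1 : derivedSeries G j ≤ derivedSeries G i := derivedSeries_antitone (G := G) hij
        exact (Subgroup.eq_of_le_of_card_ge h1 (hi ▸ Nat.find_min' hex ⟨j, rfl⟩)).ge
    set R := derivedSeries G i with hRdef
    haveI : R.Normal := derivedSeries_normal G i
    haveI := Fintype.ofFinite R
    have hR : R ≠ ⊥ := fun h0 => hsolv ⟨i, h0⟩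
    have hRperf : ⁅R, R⁆ = R :=
      le_antisymm (Subgroup.commutator_le_left R R) (by
        conv_rhs => rw [hRdef, ← derivedSeries_succ]
        exact hle (i + 1))
    have hRc : R ≤ commutator G := by
      rw [← derivedSeries_one]
      exact hle 1
    have hRmin : ∀ X : Subgroup G, X.Normal → X ≠ ⊥ → R ≤ X := by
      intro X hX hX0
      haveI := hX
      have hcard : Nat.card (G ⧸ X) < N := by
        rw [← hN, Subgroup.card_eq_card_quotient_mul_card_subgroup X]
        exact lt_mul_of_one_lt_right Nat.card_pos ((Subgroup.one_lt_card_iff_ne_bot X).mpr hX0)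
      exact (hle 3).trans (derived_le_of_quotient X (ih _ hcard rfl m n (h.quotient X)))
    -- a character above a non-linear character of `R` is non-trivial on `R`
    have habove : ∀ (χ : IrrCharacter G) (θ : IrrCharacter R), charDegree (θ : R → ℂ) ≠ 1 →
        classInner (fun x : R => (χ : G → ℂ) x) (θ : R → ℂ) ≠ 0 →
        ∃ r ∈ R, (χ : G → ℂ) r ≠ (χ : G → ℂ) 1 := by
      intro χ θ hθ hc
      by_contra hall
      push Not at hall
      apply hθ
      have hone : (θ : R → ℂ) = fun _ => 1 := by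
        by_contra hne
        obtain ⟨g, hg⟩ := IsIrrCharacter.exists_ne_apply_one θ.2 hne
        exact hg (constituent_apply (IsCharacter.restrict (irr_isCharacter χ) R) hc (hall g g.2))
      exact charDegree_of_apply_one (by rw [hone, Nat.cast_one])
    obtain ⟨θ₀, hθ₀⟩ : ∃ θ : IrrCharacter R, charDegree (θ : R → ℂ) ≠ 1 := by
      by_contra hc
      push Not at hc
      have hcomm : ∀ a b : R, a * b = b * a := comm_iff_forall_irr_one.mpr fun θ => by
        rw [irr_apply_one θ, hc θ, Nat.cast_one]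
      refine hR (le_bot_iff.mp (hRperf ▸ ?_))
      rw [Subgroup.commutator_le]
      intro a ha b hb
      exact Subgroup.mem_bot.mpr (commutatorElement_eq_one_iff_mul_comm.mpr
        (congrArg Subtype.val (hcomm ⟨a, ha⟩ ⟨b, hb⟩)))
    -- not all degrees over `R` have a common prime
    have hkey : ∀ p : ℕ, p.Prime → p ∣ Nat.card R →
        ∃ χ : IrrCharacter G, (∃ r ∈ R, (χ : G → ℂ) r ≠ (χ : G → ℂ) 1) ∧
          ¬ p ∣ charDegree (χ : G → ℂ) := by
      intro p hp hpR
      haveI := Fact.mk hp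
      by_contra hno
      push Not at hno
      obtain ⟨P⟩ : Nonempty (Sylow p G) := inferInstance
      set H := (P : Subgroup G) ⊔ R with hH
      haveI := Fintype.ofFinite H
      have hdeg : ∀ η : IrrCharacter H, charDegree (η : H → ℂ) ≠ 1 → p ∣ charDegree (η : H → ℂ) := by
        intro η hη
        by_cases hker : ∀ x : H, (x : G) ∈ R → (η : H → ℂ) x = (η : H → ℂ) 1
        · haveI : (R.subgroupOf H).Normal := inferInstance
          obtain ⟨ψ, hψ, heq⟩ := IsIrrCharacter.exists_quotient η.2 (R.subgroupOf H) hker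
          have hd : charDegree (η : H → ℂ) = charDegree ψ := by
            rw [charDegree, charDegree, heq, Function.comp_apply, map_one]
          have hdvd := charDegree_dvd_card (⟨ψ, hψ⟩ : IrrCharacter (H ⧸ R.subgroupOf H))
          have hrel : R.relIndex H = R.relIndex (P : Subgroup G) := Subgroup.relIndex_sup_right _ _
          rw [← Subgroup.index_eq_card, ← Subgroup.relIndex, hrel] at hdvd
          obtain ⟨j, hj⟩ := IsPGroup.iff_card.mp P.isPGroup'
          obtain ⟨l, -, hl⟩ := (Nat.dvd_prime_pow hp).mp (hj ▸ hdvd.trans (Subgroup.relIndex_dvd_card R P))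
          change charDegree ψ = p ^ l at hl
          rw [hd, hl] at hη ⊢
          exact dvd_pow_self p fun h0 => hη (by rw [h0, pow_zero])
        · push Not at hker
          haveI := Fintype.ofFinite (IrrCharacter G)
          obtain ⟨x, hxR, hx⟩ := hker
          obtain ⟨c, hc, hc'⟩ := IsCharacter.exists_nat_decomp
            (IsCharacter.indFun H (irr_isCharacter η))
          have hall : ∀ χ : IrrCharacter G, c χ ≠ 0 → p ∣ charDegree (χ : G → ℂ) := by
            intro χ hχ
            refine hno χ ⟨x, hxR, fun he => hx ?_⟩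
            refine constituent_apply (φ := fun y : H => (χ : G → ℂ) y)
              (IsCharacter.restrict (irr_isCharacter χ) H) ?_ he
            intro h0
            apply hχ
            have := hc' χ
            rw [classInner_indFun H _ (irr_isClassFunction χ), ← classInner_conj_symm, h0,
              map_zero] at this
            exact_mod_cast this.symm
          have hsum : H.index * charDegree (η : H → ℂ) =
              ∑ χ : IrrCharacter G, c χ * charDegree (χ : G → ℂ) := by
            have := congrFun hc 1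
            rw [indFun_one, irr_apply_one η] at this
            simp only [Finset.sum_apply, Pi.smul_apply, smul_eq_mul, irr_apply_one] at this
            exact_mod_cast this
          have hdvd : p ∣ H.index * charDegree (η : H → ℂ) := by
            rw [hsum]
            refine Finset.dvd_sum fun χ _ => ?_
            by_cases h0 : c χ = 0
            · simp [h0]
            · exact (hall χ h0).mul_left _
          refine (hp.dvd_mul.mp hdvd).resolve_left fun hd => ?_
          exact P.not_dvd_index (hd.trans (Subgroup.index_dvd_of_le le_sup_left))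
      obtain ⟨M, hM, hMcop, e, hMe⟩ := Cfsg.Agent.S4456.result (G := H) p hp hdeg
      haveI := hM
      haveI : Group.IsSolvable (H ⧸ M) := by
        haveI : Group.IsNilpotent (H ⧸ M) :=
          (IsPGroup.of_card (n := e) (by rw [← Subgroup.index_eq_card]; exact hMe) :
            IsPGroup p (H ⧸ M)).isNilpotent
        infer_instance
      set R' := R.subgroupOf H with hR'
      have hR'perf : R' ≤ ⁅R', R'⁆ := by
        rw [← Subgroup.map_subtype_le_map_subtype, Subgroup.map_commutator,
          Subgroup.map_subgroupOf_eq_of_le le_sup_right, hRperf]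
      have hR'D : ∀ j, R' ≤ derivedSeries H j := by
        intro j
        induction j with
        | zero => rw [derivedSeries_zero]; exact le_top
        | succ j ihj => rw [derivedSeries_succ]; exact hR'perf.trans (Subgroup.commutator_mono ihj ihj)
      obtain ⟨s, hs⟩ : ∃ s, derivedSeries (H ⧸ M) s = ⊥ := Group.IsSolvable.solvable (G := H ⧸ M)
      have hRM : R' ≤ M := (hR'D s).trans (derived_le_of_quotient M hs)
      have hcardR : Nat.card R' = Nat.card R :=
        Nat.card_congr (Subgroup.subgroupOfEquivOfLe (le_sup_right : R ≤ H)).toEquiv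
      exact hp.ne_one (Nat.eq_one_of_dvd_coprimes hMcop
        (hpR.trans (hcardR ▸ Subgroup.card_dvd_of_le hRM)) dvd_rfl)
    have hex2 : ∀ d : ℕ, (d = m ∨ d = n) → ∃ χ : IrrCharacter G,
        charDegree (χ : G → ℂ) = d ∧ ∃ r ∈ R, (χ : G → ℂ) r ≠ (χ : G → ℂ) 1 := by
      intro d hd
      by_contra hno
      push Not at hno
      obtain ⟨χ, e, -, hχd, hc⟩ := exists_over R θ₀
      obtain ⟨p, hp, hpθ⟩ := Nat.exists_prime_and_dvd hθ₀
      obtain ⟨φ, ⟨r, hr, hrne⟩, hφ⟩ := hkey p hp (hpθ.trans (charDegree_dvd_card θ₀))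
      obtain ⟨r', hr', hrne'⟩ := habove χ θ₀ hθ₀ hc
      have hlin : ∀ μ : IrrCharacter G, charDegree (μ : G → ℂ) = 1 → ∀ s ∈ R,
          (μ : G → ℂ) s = (μ : G → ℂ) 1 := by
        intro μ hμ s hs
        have h1 : (μ : G → ℂ) 1 = 1 := by rw [irr_apply_one μ, hμ, Nat.cast_one]
        rw [h1, IsCharacter.apply_of_mem_commutator (irr_isCharacter μ) h1 (hRc hs)]
      apply hφ
      have hχ1 : charDegree (χ : G → ℂ) ≠ 1 := fun he => hrne' (hlin χ he r' hr')
      have hφ1 : charDegree (φ : G → ℂ) ≠ 1 := fun he => hrne (hlin φ he r hr)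
      have hχd' : charDegree (χ : G → ℂ) ≠ d := fun he => hrne' (hno χ he r' hr')
      have hφd' : charDegree (φ : G → ℂ) ≠ d := fun he => hrne (hno φ he r hr)
      have heq : charDegree (φ : G → ℂ) = charDegree (χ : G → ℂ) := by
        rcases hd with rfl | rfl <;> rcases h φ with a | a | a <;> rcases h χ with b | b | b <;>
          omega
      rw [heq, hχd]
      exact hpθ.mul_left e
    obtain ⟨χ, hχ, hχR⟩ := hex2 m (Or.inl rfl)
    obtain ⟨ψ, hψ, hψR⟩ := hex2 n (Or.inr rfl)
    exact false_of_faithful h1m hlt hcop h R hR hRmin hRc hχ hχR hψ hψR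

/-- A finite group with exactly three distinct irreducible character degrees is solvable of derived length at most 3: its third derived subgroup is trivial. -/
theorem result {G : Type*} [Group G] [Finite G] (hcd : Nat.card {n : ℕ // ∃ χ : Cfsg.IrrCharacter G, Cfsg.charDegree (χ : G → ℂ) = n} = 3) : derivedSeries G 3 = ⊥ := by
  classical
  haveI := Nat.finite_of_card_ne_zero (by omega : Nat.card {n : ℕ // ∃ χ : Cfsg.IrrCharacter G, Cfsg.charDegree (χ : G → ℂ) = n} ≠ 0)
  haveI := Fintype.ofFinite {n : ℕ // ∃ χ : Cfsg.IrrCharacter G, Cfsg.charDegree (χ : G → ℂ) = n}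
  let o : {n : ℕ // ∃ χ : Cfsg.IrrCharacter G, Cfsg.charDegree (χ : G → ℂ) = n} :=
    ⟨1, trivIrr G, charDegree_trivIrr⟩
  have hc : ((Finset.univ).erase o).card = 2 := by
    rw [Finset.card_erase_of_mem (Finset.mem_univ o), Finset.card_univ, ← Nat.card_eq_fintype_card,
      hcd]
  obtain ⟨a, b, -, hab⟩ := Finset.card_eq_two.mp hc
  refine derived_three _ rfl a.1 b.1 fun χ => ?_
  by_cases h1 : Cfsg.charDegree (χ : G → ℂ) = 1
  · exact Or.inl h1
  · have hmem : (⟨_, χ, rfl⟩ : {n : ℕ // ∃ χ : Cfsg.IrrCharacter G, Cfsg.charDegree (χ : G → ℂ) = n}) ∈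
        (Finset.univ).erase o :=
      Finset.mem_erase.mpr ⟨fun he => h1 (congrArg Subtype.val he), Finset.mem_univ _⟩
    rw [hab, Finset.mem_insert, Finset.mem_singleton] at hmem
    exact Or.inr (hmem.imp (congrArg Subtype.val) (congrArg Subtype.val))

end Cfsg.Agent.S4460
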