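import Cfsg.Statements.S4461
import Mathlib
import Cfsg.Agent.Lib.Characters
import Cfsg.Agent.Lib.Characters.Induced
import Cfsg.Agent.Lib.Characters.Kernel
import Cfsg.Agent.Lib.Cores.Fitting
import Cfsg.Agent.Lib.Coprime.Hall

set_option autoImplicit false
open Cfsg

namespace Cfsg.Agent.S4461

open Cfsg.Agent.Lib in
/-- Restriction to `H` stays irreducible when `G = L H` and the character is trivial on `L`. -/
theorem restrict_irr {G : Type*} [Group G] [Finite G] {χ : G → ℂ} (hχ : Cfsg.IsIrrCharacter G χ)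
    (L H : Subgroup G) [L.Normal] (hL : ∀ l ∈ L, χ l = χ 1) (hLH : L ⊔ H = ⊤) :
    Cfsg.IsIrrCharacter H (fun h : H => χ h) := by
  obtain ⟨n, ρ, hρ, rfl⟩ := hχ
  refine ⟨n, ρ.comp H.subtype, ?_, rfl⟩
  rw [Characters.isIrreducible_iff_forall] at hρ ⊢
  refine ⟨hρ.1, fun S hS => hρ.2 S fun g x hx => ?_⟩
  have hg : g ∈ ((L ⊔ H : Subgroup G) : Set G) := by rw [hLH]; trivial
  rw [Subgroup.normal_mul] at hg
  obtain ⟨l, hl, h, hh, rfl⟩ := hg
  have h1 := hL l hl
  rw [ρ.char_one, Characters.char_eq_finrank_iff] at h1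
  rw [map_mul, h1]
  exact hS ⟨h, hh⟩ x hx

open Cfsg.Agent.Lib in
/-- The character argument: `H` is a maximal subgroup with `K H = G`, and no other irreducible character
has the same restriction to `H`. -/
theorem exists_bigger {G : Type*} [Group G] [Finite G] (χ : Cfsg.IrrCharacter G) (K H : Subgroup G)
    [K.Normal] (hK : ∀ g : G, g ∈ K ↔ (χ : G → ℂ) g = (χ : G → ℂ) 1) (hH : IsCoatom H) (hKH : ¬ K ≤ H)
 :
    (∃ ψ : Cfsg.IrrCharacter G, Cfsg.charDegree (χ : G → ℂ) < Cfsg.charDegree (ψ : G → ℂ) ∧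
      ∃ L : Subgroup G, (∀ g : G, g ∈ L ↔ (ψ : G → ℂ) g = (ψ : G → ℂ) 1) ∧ L < K) ∨
    ∀ h ∈ H, (χ : G → ℂ) h ≠ 0 → h ∈ H.normalCore := by
  classical
  haveI := Fintype.ofFinite G
  haveI := Fintype.ofFinite H
  haveI := Fintype.ofFinite (Cfsg.IrrCharacter G)
  have hKH' : K ⊔ H = ⊤ := hH.2 _ (lt_of_le_not_ge le_sup_right fun h => hKH (le_sup_left.trans h))
  set θ : H → ℂ := fun x => (χ : G → ℂ) x with hθdef
  have hθ : Cfsg.IsIrrCharacter H θ := restrict_irr χ.2 K H (fun l hl => (hK l).mp hl) hKH'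
  set Φ := Cfsg.indFun H θ with hΦ
  refine or_iff_not_imp_left.mpr fun hno => ?_
  have hall : ∀ ψ : Cfsg.IrrCharacter G, Cfsg.classInner Φ (ψ : G → ℂ) ≠ 0 → ∀ x ∈ H, (ψ : G → ℂ) x = (χ : G → ℂ) x := by
    intro ψ hψ
    by_contra hbad
    apply hno
    set ψH : H → ℂ := fun x => (ψ : G → ℂ) x with hψHdef
    have hψH : Cfsg.IsCharacter H ψH := Characters.IsCharacter.restrict (Characters.irr_isCharacter ψ) H
    have hin : Cfsg.classInner θ ψH ≠ 0 := by
      rw [hψHdef, ← Characters.classInner_indFun H θ (Characters.irr_isClassFunction ψ)]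
      exact hψ
    set η : H → ℂ := ψH - θ with hη
    have hηc : Cfsg.IsCharacter H η := by
      refine Characters.isCharacter_iff_classInner_nat.mpr
        ⟨Characters.IsClassFunction.sub (Characters.IsCharacter.isClassFunction hψH)
          (Characters.IsCharacter.isClassFunction (Characters.IsIrrCharacter.isCharacter hθ)), fun φ => ?_⟩
      obtain ⟨m, hm⟩ := Characters.IsCharacter.exists_classInner_nat hψH (Characters.irr_isCharacter φ)
      rw [hη, Characters.classInner_sub_left, hm]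
      by_cases hφ : θ = (φ : H → ℂ)
      · rw [← hφ, Characters.IsIrrCharacter.classInner_self hθ]
        have hm0 : m ≠ 0 := by
          intro hm0
          rw [hm0, Nat.cast_zero, ← hφ] at hm
          apply hin
          rw [Characters.IsCharacter.classInner_comm (Characters.IsIrrCharacter.isCharacter hθ) hψH, hm]
        exact ⟨m - 1, by rw [Nat.cast_sub (Nat.one_le_iff_ne_zero.mpr hm0), Nat.cast_one]⟩
      · rw [Characters.IsIrrCharacter.classInner_ne hθ φ.2 hφ, sub_zero]
        exact ⟨m, rfl⟩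
    obtain ⟨e, he⟩ := Characters.IsCharacter.exists_apply_one hηc
    have he0 : e ≠ 0 := by
      intro he0
      rw [he0, Nat.cast_zero] at he
      refine hbad fun x hx => ?_
      have hb := Characters.IsCharacter.norm_le hηc ⟨x, hx⟩
      rw [he, norm_zero] at hb
      have hz : η ⟨x, hx⟩ = 0 := norm_le_zero_iff.mp hb
      exact sub_eq_zero.mp hz
    obtain ⟨a, ha0, ha⟩ := Characters.IsIrrCharacter.exists_apply_one χ.2
    have hψ1 : (ψ : G → ℂ) 1 = ((a + e : ℕ) : ℂ) := by
      have h1 : (ψ : G → ℂ) 1 - (χ : G → ℂ) 1 = (e : ℂ) := he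
      rw [Nat.cast_add, ← h1, ha]
      ring
    have hdeg : Cfsg.charDegree (χ : G → ℂ) < Cfsg.charDegree (ψ : G → ℂ) := by
      simp only [Cfsg.charDegree, hψ1, ha, Complex.natCast_re, Nat.floor_natCast]
      omega
    set L := Characters.charKernel (Characters.irr_isCharacter ψ) with hL
    have hLH : L ≤ H := by
      by_contra hLH
      have hLH' : L ⊔ H = ⊤ := hH.2 _ (lt_of_le_not_ge le_sup_right fun h => hLH (le_sup_left.trans h))
      have hirr : Cfsg.IsIrrCharacter H ψH := restrict_irr ψ.2 L H (fun l hl => hl) hLH'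
      have heq : θ = ψH := by
        by_contra hne
        exact hin (Characters.IsIrrCharacter.classInner_ne hθ hirr hne)
      refine he0 ?_
      have h0 : η 1 = 0 := by rw [hη, ← heq]; exact sub_self _
      rw [he] at h0
      exact_mod_cast h0
    refine ⟨ψ, hdeg, L, fun g => Iff.rfl, lt_of_le_of_ne ?_ fun h => hKH (h ▸ hLH)⟩
    intro l hl
    rw [hK]
    have hsum : θ ⟨l, hLH hl⟩ + η ⟨l, hLH hl⟩ = θ 1 + η 1 := by
      simp only [hη, Pi.sub_apply, add_sub_cancel]
      exact hl
    have hb1 := Characters.IsCharacter.norm_le_re (Characters.IsIrrCharacter.isCharacter hθ) ⟨l, hLH hl⟩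
    have hb2 := Characters.IsCharacter.norm_le_re hηc ⟨l, hLH hl⟩
    have hr1 := Complex.re_le_norm (θ ⟨l, hLH hl⟩)
    have hr2 := Complex.re_le_norm (η ⟨l, hLH hl⟩)
    have hre := congrArg Complex.re hsum
    simp only [Complex.add_re] at hre
    have hre1 : (θ ⟨l, hLH hl⟩).re = (θ 1).re := by linarith
    have hnorm : ‖θ ⟨l, hLH hl⟩‖ = (θ ⟨l, hLH hl⟩).re := by linarith
    have him : (θ ⟨l, hLH hl⟩).im = 0 := (Complex.re_eq_norm.mp hnorm.symm).2.symm
    refine Complex.ext hre1 ?_
    show (θ ⟨l, hLH hl⟩).im = ((χ : G → ℂ) 1).im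
    rw [him, ha, Complex.natCast_im]
  intro x hx hxne y
  set c : ℂ := ∑ ψ : Cfsg.IrrCharacter G, Cfsg.classInner Φ (ψ : G → ℂ) with hc
  have hval : ∀ z ∈ H, Φ z = c * (χ : G → ℂ) z := by
    intro z hz
    show Cfsg.indFun H θ z = _
    rw [congrFun (Characters.eq_sum_classInner (Characters.isClassFunction_indFun H θ)) z, hc, Finset.sum_mul, Finset.sum_apply]
    refine Finset.sum_congr rfl fun ψ _ => ?_
    by_cases h0 : Cfsg.classInner Φ (ψ : G → ℂ) = 0
    · rw [Pi.smul_apply, smul_eq_mul, ← hΦ, h0, zero_mul, zero_mul]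
    · rw [Pi.smul_apply, smul_eq_mul, ← hΦ, hall ψ h0 z hz]
  have hc1 : c = (H.index : ℂ) := by
    have h1 := hval 1 (one_mem H)
    rw [hΦ, Characters.indFun_one] at h1
    exact (mul_right_cancel₀ (Characters.IsIrrCharacter.apply_one_ne_zero χ.2) h1).symm
  have h2 := hval x hx
  rw [hΦ, Characters.indFun_apply, hc1] at h2
  have h3 : ∀ z : G, Cfsg.extendByZero H θ (z⁻¹ * x * z) = if z⁻¹ * x * z ∈ H then (χ : G → ℂ) x else 0 := by
    intro z
    split_ifs with hz
    · rw [Characters.extendByZero_of_mem H θ hz]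
      show (χ : G → ℂ) (z⁻¹ * x * z) = _
      have := Characters.irr_isClassFunction χ x z⁻¹
      rwa [inv_inv] at this
    · exact Characters.extendByZero_of_not_mem H θ hz
  rw [Finset.sum_congr rfl fun z _ => h3 z, ← Finset.sum_filter, Finset.sum_const, nsmul_eq_mul, ← mul_assoc] at h2
  have h4 := mul_right_cancel₀ hxne h2
  have hH0 : (Nat.card H : ℂ) ≠ 0 := by exact_mod_cast Nat.card_pos.ne'
  rw [inv_mul_eq_iff_eq_mul₀ hH0, ← Nat.cast_mul, Nat.cast_inj, Subgroup.card_mul_index, Nat.card_eq_fintype_card, ← Finset.card_univ] at h4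
  have h5 := Finset.eq_univ_iff_forall.mp (Finset.eq_univ_of_card _ (h4.trans Finset.card_univ)) y⁻¹
  rw [Finset.mem_filter, inv_inv] at h5
  exact h5.2

open Cfsg.Agent.Lib in
/-- An irreducible character with nonzero sum over a normal subgroup is trivial on it. -/
theorem trivial_of_sum {G : Type*} [Group G] [Finite G] {χ : G → ℂ} (hχ : Cfsg.IsIrrCharacter G χ)
    (A : Subgroup G) [A.Normal] [Fintype A] (hsum : ∑ a : A, χ a ≠ 0) : ∀ a ∈ A, χ a = χ 1 := by
  obtain ⟨n, ρ, hρ, rfl⟩ := hχ
  obtain ⟨-, hsub⟩ := (Characters.isIrreducible_iff_forall ρ).mp hρ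
  let W : Submodule ℂ (Fin n → ℂ) :=
    { carrier := {v | ∀ a ∈ A, ρ a v = v}
      add_mem' := fun {u v} hu hv a ha => by rw [map_add, hu a ha, hv a ha]
      zero_mem' := fun a _ => map_zero _
      smul_mem' := fun c v hv a ha => by rw [map_smul, hv a ha] }
  have hW : ∀ g : G, ∀ v ∈ W, ρ g v ∈ W := by
    intro g v hv a ha
    have h1 := hv (g⁻¹ * a * g) (by have := Subgroup.Normal.conj_mem inferInstance a ha g⁻¹; rwa [inv_inv] at this)
    calc ρ a (ρ g v) = ρ g (ρ (g⁻¹ * a * g) v) := by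
          rw [← Module.End.mul_apply, ← Module.End.mul_apply, ← map_mul, ← map_mul]
          congr 1
          rw [← mul_assoc, ← mul_assoc, mul_inv_cancel, one_mul]
      _ = ρ g v := by rw [h1]
  have hne : W ≠ ⊥ := by
    intro hbot
    apply hsum
    have hT : ∑ a : A, ρ (a : G) = 0 := by
      refine LinearMap.ext fun v => ?_
      have hmem : (∑ a : A, ρ (a : G)) v ∈ W := by
        intro b hb
        simp only [LinearMap.sum_apply, map_sum]
        refine Fintype.sum_equiv (Equiv.mulLeft ⟨b, hb⟩) _ _ fun a => ?_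
        rw [Equiv.coe_mulLeft, Subgroup.coe_mul, map_mul]
        rfl
      rw [hbot, Submodule.mem_bot] at hmem
      exact hmem
    simp only [Representation.character, ← map_sum, hT, map_zero]
  intro a ha
  have htop := (hsub W hW).resolve_left hne
  rw [ρ.char_one, Characters.char_eq_finrank_iff]
  refine LinearMap.ext fun v => ?_
  have hv : v ∈ W := htop ▸ Submodule.mem_top
  exact hv a ha

/-- Let χ be an irreducible character of the finite group G and K its kernel (the elements where χ takes the value χ(1)). Suppose either that K is not contained in the Fitting subgroup F(G), or that K = F(G) with G/K solvable and K ≠ G. Then there is an irreducible character ψ of G with ψ(1) > χ(1) whose kernel is properly contained in K. -/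
theorem result {G : Type*} [Group G] [Finite G] (χ : Cfsg.IrrCharacter G) (K : Subgroup G) [K.Normal] (hK : (∀ g : G, g ∈ K ↔ (χ : G → ℂ) g = (χ : G → ℂ) 1)) (h : ¬ K ≤ Cfsg.fittingSubgroup G ∨ (K = Cfsg.fittingSubgroup G ∧ Group.IsSolvable (G ⧸ K) ∧ K ≠ ⊤)) : ∃ ψ : Cfsg.IrrCharacter G, Cfsg.charDegree (χ : G → ℂ) < Cfsg.charDegree (ψ : G → ℂ) ∧ ∃ L : Subgroup G, (∀ g : G, g ∈ L ↔ (ψ : G → ℂ) g = (ψ : G → ℂ) 1) ∧ L < K := by
  classical
  obtain ⟨M, p, hM, hp, P, hPn, hKM, hcase⟩ : ∃ (M : Subgroup G) (p : ℕ) (_ : M.Normal) (_ : Fact p.Prime)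
      (P : Sylow p M), ¬ (P : Subgroup M).Normal ∧ M ≤ K ⊔ (P : Subgroup M).map M.subtype ∧ (M = K ∨
        (K < M ∧ (∀ N : Subgroup G, N.Normal → K ≤ N → N ≤ M → N = K ∨ N = M))) := by
    rcases h with h | ⟨hF, hsol, hKtop⟩
    · have hnil : ¬ Group.IsNilpotent K := fun hn => h (Lib.Cores.le_fittingSubgroup inferInstance hn)
      have hex : ∃ (p : ℕ) (_ : Fact p.Prime) (P : Sylow p K), ¬ (P : Subgroup K).Normal := by
        by_contra hc
        push Not at hc
        exact hnil ((Group.isNilpotent_of_finite_tfae.out 0 3).mpr hc)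
      obtain ⟨p, hp, P, hP⟩ := hex
      exact ⟨K, p, inferInstance, hp, P, hP, le_sup_left, Or.inl rfl⟩
    · haveI := hsol
      haveI : Nontrivial (G ⧸ K) := by
        by_contra hnt
        haveI := not_nontrivial_iff_subsingleton.mp hnt
        exact hKtop (eq_top_iff.mpr fun g _ => (QuotientGroup.eq_one_iff g).mp (Subsingleton.elim _ _))
      obtain ⟨p, Mb, hp, hMbn, hMb0, -, hMbp, -⟩ := Lib.Coprime.exists_normal_isPGroup_isMulCommutative (G ⧸ K)
      haveI := Fact.mk hp
      set M₀ := Mb.comap (QuotientGroup.mk' K) with hM₀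
      have hKM₀ : K < M₀ := by
        refine lt_of_le_not_ge (fun k hk => ?_) fun hle => hMb0 ?_
        · show QuotientGroup.mk' K k ∈ Mb
          rw [(QuotientGroup.eq_one_iff k).mpr hk |> fun e => (show QuotientGroup.mk' K k = 1 from e)]
          exact one_mem _
        · rw [eq_bot_iff]
          intro y hy
          obtain ⟨g, rfl⟩ := QuotientGroup.mk'_surjective K y
          exact (QuotientGroup.eq_one_iff g).mpr (hle hy)
      obtain ⟨M, ⟨hMn, hKM, hMle⟩, hmin⟩ := Set.Finite.exists_minimal (s := {N : Subgroup G | N.Normal ∧ K < N ∧ N ≤ M₀})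
        (Set.toFinite _) ⟨M₀, hMbn.comap _, hKM₀, le_rfl⟩
      haveI := hMn
      have hmin' : ∀ N : Subgroup G, N.Normal → K ≤ N → N ≤ M → N = K ∨ N = M := by
        intro N hN hKN hNM
        rcases eq_or_lt_of_le hKN with e | e
        · exact Or.inl e.symm
        · exact Or.inr (le_antisymm hNM (hmin ⟨hN, e, hNM.trans hMle⟩ hNM))
      have hnil : ¬ Group.IsNilpotent M := fun hn =>
        hKM.not_ge ((Lib.Cores.le_fittingSubgroup hMn hn).trans hF.ge)
      have hex : ∃ (q : ℕ) (_ : Fact q.Prime) (P : Sylow q M), ¬ (P : Subgroup M).Normal := by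
        by_contra hc
        push Not at hc
        exact hnil ((Group.isNilpotent_of_finite_tfae.out 0 3).mpr hc)
      obtain ⟨q, hq, P, hP⟩ := hex
      have hKnil : Group.IsNilpotent K := hF ▸ Lib.Cores.fittingSubgroup_isNilpotent G
      set f : M →* G ⧸ K := (QuotientGroup.mk' K).comp M.subtype with hf
      have hker : f.ker = K.subgroupOf M := by
        ext x
        rw [MonoidHom.mem_ker, Subgroup.mem_subgroupOf]
        exact QuotientGroup.eq_one_iff _
      have hfp : IsPGroup p f.range := hMbp.to_le (by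
        rintro _ ⟨x, rfl⟩
        exact hMle x.2)
      have hqp : q = p := by
        by_contra hne
        have hPker : (P : Subgroup M) ≤ K.subgroupOf M := by
          rw [← hker]
          intro x hx
          have h1 : IsPGroup q ((P : Subgroup M).map f) := P.isPGroup'.map f
          have h2 : IsPGroup p ((P : Subgroup M).map f) := hfp.to_le (Subgroup.map_le_range f _)
          have hbot : ((P : Subgroup M).map f) = ⊥ := disjoint_self.mp
            (IsPGroup.disjoint_of_ne q p hne _ _ h1 h2)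
          exact (Subgroup.map_eq_bot_iff _).mp hbot hx
        -- the Sylow subgroup of the nilpotent group `K` is normal in `M`
        haveI hKn : Group.IsNilpotent ↥(K.subgroupOf M) :=
          (Group.isNilpotent_congr (Subgroup.subgroupOfEquivOfLe hKM.le)).mpr hKnil
        have hchar := ((P.subtype hPker) : Subgroup ↥(K.subgroupOf M))
        haveI : ((P.subtype hPker : Sylow q ↥(K.subgroupOf M)) : Subgroup ↥(K.subgroupOf M)).Normal :=
          ((Group.isNilpotent_of_finite_tfae (G := ↥(K.subgroupOf M))).out 0 3 rfl rfl).mp hKn q hq _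
        haveI := Sylow.characteristic_of_normal (P.subtype hPker) inferInstance
        have hmap : ((P.subtype hPker : Sylow q ↥(K.subgroupOf M)) : Subgroup ↥(K.subgroupOf M)).map (K.subgroupOf M).subtype = P := by
          rw [Sylow.coe_subtype, Subgroup.map_subgroupOf_eq_of_le hPker]
        exact hP (hmap ▸ inferInstance)
      subst hqp
      refine ⟨M, q, hMn, hq, P, hP, ?_, Or.inr ⟨hKM, hmin'⟩⟩
      have hsup : K.subgroupOf M ⊔ (P : Subgroup M) = ⊤ := by
        rw [← Subgroup.index_eq_one]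
        have h1 : (K.subgroupOf M ⊔ (P : Subgroup M)).index ∣ f.ker.index := hker ▸ Subgroup.index_dvd_of_le le_sup_left
        have h2 : (K.subgroupOf M ⊔ (P : Subgroup M)).index ∣ (P : Subgroup M).index := Subgroup.index_dvd_of_le le_sup_right
        rw [Subgroup.index_ker] at h1
        obtain ⟨k, hk⟩ := hfp.exists_card_eq
        rw [hk] at h1
        exact Nat.eq_one_of_dvd_coprimes ((hq.out.coprime_iff_not_dvd.mpr P.not_dvd_index).pow_left k) h1 h2
      have h3 := congrArg (Subgroup.map M.subtype) hsup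
      rw [Subgroup.map_sup, Subgroup.map_subgroupOf_eq_of_le hKM.le, ← MonoidHom.range_eq_map, Subgroup.range_subtype] at h3
      exact h3.ge
  haveI := hp
  set Q : Subgroup G := (P : Subgroup M).map M.subtype with hQ
  have hfr : Subgroup.normalizer (Q : Set G) ⊔ M = ⊤ := Sylow.normalizer_sup_eq_top P
  have hQn : Subgroup.normalizer (Q : Set G) ≠ ⊤ := by
    intro htop
    refine hPn ⟨fun x hx g => ?_⟩
    have h1 : (g : G) * x * (g : G)⁻¹ ∈ Q := ((Subgroup.mem_normalizer_iff).mp (htop ▸ Subgroup.mem_top (g : G)) (x : G)).mp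
      (Subgroup.mem_map_of_mem _ hx)
    obtain ⟨y, hy, hyx⟩ := h1
    have : y = g * x * g⁻¹ := Subtype.ext hyx
    exact this ▸ hy
  obtain ⟨H, hH, hNH⟩ := (eq_top_or_exists_le_coatom (Subgroup.normalizer (Q : Set G))).resolve_left hQn
  have hQH : Q ≤ H := Subgroup.le_normalizer.trans hNH
  have hMH : M ⊔ H = ⊤ := top_le_iff.mp (hfr ▸ sup_le (hNH.trans le_sup_right) le_sup_left)
  have hKH : ¬ K ≤ H := fun hle => hH.1 (top_le_iff.mp (hMH ▸ sup_le (hKM.trans (sup_le hle hQH)) le_rfl))
  rcases exists_bigger χ K H hK hH hKH with h0 | hvan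
  · exact h0
  exfalso
  haveI := hM
  set C := H.normalCore with hC
  have hχ1 : (χ : G → ℂ) 1 ≠ 0 := Lib.Characters.IsIrrCharacter.apply_one_ne_zero χ.2
  have hKC : K ⊓ H ≤ C := fun x hx => hvan x hx.2 (by rw [(hK x).mp hx.1]; exact hχ1)
  have hQM : Q ≤ M := Subgroup.map_subtype_le _
  have hQC : Q ≤ C := by
    rcases hcase with rfl | ⟨hlt, hmin⟩
    · exact fun x hx => hKC ⟨hQM hx, hQH hx⟩
    rcases hmin (K ⊔ (M ⊓ C)) inferInstance le_sup_left (sup_le hlt.le inf_le_left) with h1 | h1
    · exfalso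
      haveI := Fintype.ofFinite ↥(M.subgroupOf H)
      have hirr : Cfsg.IsIrrCharacter H (fun x : H => (χ : G → ℂ) x) :=
        restrict_irr χ.2 K H (fun l hl => (hK l).mp hl)
          (hH.2 _ (lt_of_le_not_ge le_sup_right fun h => hKH (le_sup_left.trans h)))
      have hsum : ∑ a : ↥(M.subgroupOf H), (χ : G → ℂ) ((a : H) : G) ≠ 0 := by
        have hz : ∀ a : ↥(M.subgroupOf H), (χ : G → ℂ) ((a : H) : G) =
            if ((a : H) : G) ∈ K then (χ : G → ℂ) 1 else 0 := by
          intro a
          split_ifs with ha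
          · exact (hK _).mp ha
          · by_contra hne
            exact ha (h1.le (Subgroup.mem_sup_right ⟨a.2, hvan _ (a : H).2 hne⟩))
        rw [Finset.sum_congr rfl fun a _ => hz a, ← Finset.sum_filter, Finset.sum_const, nsmul_eq_mul]
        refine mul_ne_zero ?_ hχ1
        rw [Nat.cast_ne_zero, ← Nat.pos_iff_ne_zero, Finset.card_pos]
        exact ⟨1, Finset.mem_filter.mpr ⟨Finset.mem_univ _, one_mem K⟩⟩
      have htriv := trivial_of_sum hirr (M.subgroupOf H) hsum
      exact hlt.not_ge (hKM.trans (sup_le le_rfl fun x hx => (hK x).mpr (htriv ⟨x, hQH hx⟩ (hQM hx))))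
    · intro x hx
      have hx' : x ∈ ((K ⊔ (M ⊓ C) : Subgroup G) : Set G) := h1.ge (hQM hx)
      rw [Subgroup.normal_mul] at hx'
      obtain ⟨k, hk, c, hc, rfl⟩ := hx'
      have hkH : k ∈ H := by
        have := H.mul_mem (hQH hx) (H.inv_mem (Subgroup.normalCore_le H hc.2))
        rwa [mul_inv_cancel_right] at this
      exact mul_mem (hKC ⟨hk, hkH⟩) hc.2
  have hPC : (P : Subgroup M) ≤ C.subgroupOf M := fun x hx => hQC (Subgroup.mem_map_of_mem _ hx)
  have hfr2 : Subgroup.normalizer (((P : Subgroup M)) : Set M) ⊔ C.subgroupOf M = ⊤ := by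
    have h2 := Sylow.normalizer_sup_eq_top (P.subtype hPC)
    rwa [Sylow.coe_subtype, Subgroup.map_subgroupOf_eq_of_le hPC] at h2
  have hMleH : M ≤ H := by
    intro m hm
    have h3 : Subgroup.normalizer ((P : Subgroup M) : Set M) ⊔ C.subgroupOf M ≤ H.subgroupOf M := by
      refine sup_le (fun g hg => hNH ?_) (Subgroup.comap_mono (Subgroup.normalCore_le H))
      exact Subgroup.le_normalizer_map M.subtype (Subgroup.mem_map_of_mem _ hg)
    rw [hfr2] at h3
    exact h3 (Subgroup.mem_top (⟨m, hm⟩ : M))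
  rcases hcase with rfl | ⟨hlt, -⟩
  · exact hKH hMleH
  · exact hKH (hlt.le.trans hMleH)

end Cfsg.Agent.S4461
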