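import Cfsg.Statements.S4462
import Mathlib
import Cfsg.Agent.S4461
import Cfsg.Agent.Lib.Characters
import Cfsg.Agent.Lib.Cores.Fitting

set_option autoImplicit false
open Cfsg

namespace Cfsg.Agent.S4462

/-- `G` has a chain of length `m` with nilpotent factors. -/
def HasNilChain (G : Type*) [Group G] (m : ℕ) : Prop :=
  ∃ N : ℕ → Subgroup G, N 0 = ⊥ ∧ N m = ⊤ ∧ Monotone N ∧ (∀ i, (N i).Normal) ∧
    ∀ i, ∀ h : ((N i).subgroupOf (N (i + 1))).Normal, Group.IsNilpotent (↥(N (i + 1)) ⧸ (N i).subgroupOf (N (i + 1)))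

theorem hasNilChain_mono {G : Type*} [Group G] {m n : ℕ} (h : HasNilChain G m) (hmn : m ≤ n) : HasNilChain G n := by
  obtain ⟨N, h0, h1, hm, hn, hq⟩ := h
  exact ⟨N, h0, top_le_iff.mp (h1 ▸ hm hmn), hm, hn, hq⟩

open Cfsg.Agent.Lib in
theorem nilChain_of_degrees {G : Type*} [Group G] [Finite G] :
    Group.IsSolvable G → HasNilChain G (Nat.card {d : ℕ // ∃ χ : Cfsg.IrrCharacter G, Cfsg.charDegree (χ : G → ℂ) = d}) := by
  induction hcard : Nat.card G using Nat.strong_induction_on generalizing G with
  | _ m ih =>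
    intro hsol
    classical
    haveI := Fintype.ofFinite G
    set cd := {d : ℕ | ∃ χ : Cfsg.IrrCharacter G, Cfsg.charDegree (χ : G → ℂ) = d} with hcd
    have hfin : cd.Finite := (Set.finite_range (fun χ : Cfsg.IrrCharacter G => Cfsg.charDegree (χ : G → ℂ)))
    obtain ⟨χ₀, -⟩ : ∃ χ : Cfsg.IrrCharacter G, True :=
      ⟨Classical.choice ((Finite.card_pos_iff).mp (Characters.card_irrCharacter (G := G) ▸ Nat.card_pos)), trivial⟩
    have hpos : 0 < Nat.card cd := Nat.card_pos_iff.mpr ⟨⟨⟨_, χ₀, rfl⟩⟩, hfin.to_subtype⟩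
    by_cases hnil : Group.IsNilpotent G
    · refine hasNilChain_mono ⟨fun i => if i = 0 then ⊥ else ⊤, rfl, if_neg one_ne_zero, ?_, ?_, ?_⟩ hpos
      · intro i j hij
        dsimp only
        split_ifs with h1 h2 <;> first | exact le_rfl | exact bot_le | omega
      · intro i
        dsimp only
        split_ifs <;> infer_instance
      · intro i h
        haveI := hnil
        infer_instance
    haveI : Nontrivial G := by
      by_contra hnt
      haveI := not_nontrivial_iff_subsingleton.mp hnt
      exact hnil inferInstance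
    haveI := hsol
    set F := Cfsg.fittingSubgroup G with hF
    haveI : F.Normal := Cores.fittingSubgroup_normal G
    have hF1 : F ≠ ⊥ := Cores.fittingSubgroup_ne_bot_of_isSolvable hsol
    have hFtop : F ≠ ⊤ := fun htop => hnil (by
      have hn : Group.IsNilpotent F := Cores.fittingSubgroup_isNilpotent G
      exact (Group.isNilpotent_congr ((MulEquiv.subgroupCongr htop).trans Subgroup.topEquiv)).mp hn)
    have hlt : Nat.card (G ⧸ F) < m := by
      rw [← hcard, Subgroup.card_eq_card_quotient_mul_card_subgroup F]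
      exact lt_mul_of_one_lt_right Nat.card_pos ((Subgroup.one_lt_card_iff_ne_bot F).mpr hF1)
    obtain ⟨N, h0, h1, hm, hn, hq⟩ := ih _ hlt rfl inferInstance
    set π := QuotientGroup.mk' F with hπ
    -- the largest degree is not a degree of `G ⧸ F`
    have hdeg : Nat.card {d : ℕ // ∃ χ : Cfsg.IrrCharacter (G ⧸ F), Cfsg.charDegree (χ : G ⧸ F → ℂ) = d} + 1 ≤ Nat.card cd := by
      obtain ⟨D, hD, hDmax⟩ := hfin.toFinset.exists_maximal ⟨_, hfin.mem_toFinset.mpr ⟨χ₀, rfl⟩⟩
      rw [hfin.mem_toFinset] at hD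
      have hsub : {d : ℕ | ∃ χ : Cfsg.IrrCharacter (G ⧸ F), Cfsg.charDegree (χ : G ⧸ F → ℂ) = d} ⊆ cd \ {D} := by
        rintro d ⟨φ, rfl⟩
        set χ : Cfsg.IrrCharacter G :=
          ⟨(φ : G ⧸ F → ℂ) ∘ π, Characters.IsIrrCharacter.comp_surjective φ.2 π (QuotientGroup.mk'_surjective F)⟩ with hχ
        have hdeq : Cfsg.charDegree (χ : G → ℂ) = Cfsg.charDegree (φ : G ⧸ F → ℂ) := rfl
        refine ⟨⟨χ, hdeq⟩, fun hmax => ?_⟩
        set K := Characters.charKernel (Characters.irr_isCharacter χ) with hK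
        have hFK : F ≤ K := fun f hf => by
          show (φ : G ⧸ F → ℂ) (π f) = (φ : G ⧸ F → ℂ) (π 1)
          rw [map_one]
          exact congrArg _ ((QuotientGroup.eq_one_iff f).mpr hf)
        have hcase : ¬ K ≤ F ∨ (K = F ∧ Group.IsSolvable (G ⧸ K) ∧ K ≠ ⊤) := by
          by_cases hKF : K ≤ F
          · have he := le_antisymm hKF hFK
            exact Or.inr ⟨he, inferInstance, fun ht => hFtop (he ▸ ht)⟩
          · exact Or.inl hKF
        obtain ⟨ψ, hψ, -⟩ := Cfsg.Agent.S4461.result χ K (fun g => Iff.rfl) hcase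
        rw [Set.mem_singleton_iff] at hmax
        have := hDmax (hfin.mem_toFinset.mpr ⟨ψ, rfl⟩) (by rw [← hmax, ← hdeq]; exact hψ.le)
        rw [← hmax, ← hdeq] at this
        omega
      have h2 := Set.ncard_le_ncard hsub (hfin.subset Set.diff_subset)
      have h3 : (cd \ {D}).ncard + 1 = cd.ncard := Set.ncard_diff_singleton_add_one hD hfin
      rw [Nat.card_coe_set_eq]
      change Nat.card ↥{d : ℕ | ∃ χ : Cfsg.IrrCharacter (G ⧸ F), Cfsg.charDegree (χ : G ⧸ F → ℂ) = d} + 1 ≤ _
      rw [Nat.card_coe_set_eq]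
      omega
    refine hasNilChain_mono ⟨fun i => if i = 0 then ⊥ else (N (i - 1)).comap π, rfl, ?_, ?_, ?_, ?_⟩ hdeg
    · dsimp only
      rw [if_neg (Nat.succ_ne_zero _), Nat.add_sub_cancel, h1, Subgroup.comap_top]
    · intro i j hij
      dsimp only
      split_ifs with a b
      · exact le_rfl
      · exact bot_le
      · omega
      · exact Subgroup.comap_mono (hm (by omega))
    · intro i
      dsimp only
      split_ifs
      · infer_instance
      · exact (hn _).comap _
    · intro i h
      dsimp only at h ⊢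
      rcases i with _ | i
      · haveI : Group.IsNilpotent ↥((N 0).comap π) := by
          have he : (N 0).comap π = F := by rw [h0, MonoidHom.comap_bot, hπ, QuotientGroup.ker_mk']
          exact (Group.isNilpotent_congr (MulEquiv.subgroupCongr he)).mpr (Cores.fittingSubgroup_isNilpotent G)
        haveI : Group.IsNilpotent ↥(if 0 + 1 = 0 then ⊥ else Subgroup.comap π (N (0 + 1 - 1))) :=
          (Group.isNilpotent_congr (MulEquiv.subgroupCongr (if_neg one_ne_zero))).mpr this
        exact nilpotent_of_surjective (QuotientGroup.mk' _) (QuotientGroup.mk'_surjective _)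
      · simp only [Nat.succ_ne_zero, if_false, Nat.add_sub_cancel] at h ⊢
        haveI := hn i
        have hN' : ((N i).subgroupOf (N (i + 1))).Normal := inferInstance
        set f : ↥((N (i + 1)).comap π) →* ↥(N (i + 1)) ⧸ (N i).subgroupOf (N (i + 1)) :=
          (QuotientGroup.mk' _).comp (π.subgroupComap (N (i + 1))) with hf
        have hfs : Function.Surjective f := (QuotientGroup.mk'_surjective _).comp
          (MonoidHom.subgroupComap_surjective_of_surjective π _ (QuotientGroup.mk'_surjective F))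
        have hker : f.ker = ((N i).comap π).subgroupOf ((N (i + 1)).comap π) := by
          ext x
          rw [MonoidHom.mem_ker, hf, MonoidHom.comp_apply]
          exact QuotientGroup.eq_one_iff _
        haveI := hq i hN'
        exact (Group.isNilpotent_congr ((QuotientGroup.quotientMulEquivOfEq hker.symm).trans
          (QuotientGroup.quotientKerEquivOfSurjective f hfs))).mpr inferInstance

/-- Let G be a finite solvable group with exactly n distinct irreducible character degrees. Then G has normal subgroups 1 = N₀ ≤ N₁ ≤ ⋯ ≤ Nₙ = G with every quotient N_{i+1}/N_i nilpotent (the nilpotent length of G is at most n). -/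
theorem result {G : Type*} [Group G] [Finite G] (hsolv : Group.IsSolvable G) (n : ℕ) (hcd : Nat.card {d : ℕ // ∃ χ : Cfsg.IrrCharacter G, Cfsg.charDegree (χ : G → ℂ) = d} = n) : ∃ N : Fin (n + 1) → Subgroup G, N 0 = ⊥ ∧ N (Fin.last n) = ⊤ ∧ Monotone N ∧ (∀ i, (N i).Normal) ∧ ∀ i : Fin n, ∀ h : (N i.castSucc).subgroupOf (N i.succ) |>.Normal, Group.IsNilpotent (↥(N i.succ) ⧸ (N i.castSucc).subgroupOf (N i.succ)) := by
  obtain ⟨N, h0, h1, hm, hn, hq⟩ := hcd ▸ nilChain_of_degrees hsolv
  exact ⟨fun i => N i, h0, h1, fun i j hij => hm hij, fun i => hn i, fun i h => hq i h⟩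

end Cfsg.Agent.S4462
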