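import Cfsg.Statements.S4463
import Cfsg.Agent.S4460
import Cfsg.Agent.Lib.Characters.PrimeDegrees
import Cfsg.Agent.Lib.Characters.ChiefFactor
import Cfsg.Agent.Lib.Characters.AbelianTI
import Cfsg.Agent.Lib.Cores.Fitting

set_option autoImplicit false
set_option linter.unusedSectionVars false
set_option linter.unusedVariables false
set_option linter.style.haveILetI false
open Cfsg

namespace Cfsg.Agent.S4463

open Cfsg.Agent.Lib.Characters
open Cfsg.Agent.Lib.BlockHeights (charDegree_of_apply_one apply_one_eq_charDegree irr_apply_one charDegree_irr_pos charDegree_dvd_card charDegree_trivIrr)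
open Cfsg.Agent.S4460 (exists_over exists_below constituent_apply exists_inflate exists_central_step derived_three Three)
open scoped ComplexConjugate commutatorElement Nat

universe u

variable {G : Type u} [Group G]

/-- An abelian subgroup of index at most `B`. -/
def Has (G : Type u) [Group G] (B : ℕ) : Prop :=
  ∃ A : Subgroup G, (∀ x ∈ A, ∀ y ∈ A, x * y = y * x) ∧ A.index ≤ B

/-- All degrees are at most `b`. -/
def DegLe (G : Type u) [Group G] (b : ℕ) : Prop :=
  ∀ χ : IrrCharacter G, charDegree (χ : G → ℂ) ≤ b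

/-- The theorem for degree bound `b`. -/
def PBound (b : ℕ) : Prop :=
  ∀ (G : Type u) [Group G] [Finite G], DegLe G b → Has G (b ! ^ 2)

theorem Has.of_subgroup [Finite G] (H : Subgroup G) {B B' : ℕ} (h : Has H B)
    (hle : H.index * B ≤ B') : Has G B' := by
  obtain ⟨A, hA, hAi⟩ := h
  refine ⟨A.map H.subtype, ?_, ?_⟩
  · rintro _ ⟨a, ha, rfl⟩ _ ⟨c, hc, rfl⟩
    rw [← map_mul, hA a ha c hc, map_mul]
  · rw [Subgroup.index_map_subtype, mul_comm]
    exact le_trans (Nat.mul_le_mul le_rfl hAi) hle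

theorem charDegree_eq_one_of_comm [Finite G] (h : ∀ a c : G, a * c = c * a) (χ : IrrCharacter G) :
    charDegree (χ : G → ℂ) = 1 :=
  charDegree_of_apply_one (by rw [IsIrrCharacter.apply_one_of_comm h χ.2, Nat.cast_one])

theorem exists_over_sub [Fintype G] (H : Subgroup G) [Fintype H] (ψ : IrrCharacter H) :
    ∃ χ : IrrCharacter G, classInner (fun x : H => (χ : G → ℂ) x) (ψ : H → ℂ) ≠ 0 ∧
      charDegree (ψ : H → ℂ) ≤ charDegree (χ : G → ℂ) := by
  have hne : indFun H (ψ : H → ℂ) ≠ 0 := by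
    intro h
    have h1 := congrFun h 1
    rw [indFun_one, irr_apply_one ψ, Pi.zero_apply] at h1
    exact mul_ne_zero (Nat.cast_ne_zero.mpr Subgroup.index_ne_zero_of_finite)
      (Nat.cast_ne_zero.mpr (charDegree_irr_pos ψ).ne') h1
  obtain ⟨χ, hχ⟩ := IsCharacter.exists_constituent (IsCharacter.indFun H (irr_isCharacter ψ)) hne
  have hres : classInner (fun x : H => (χ : G → ℂ) x) (ψ : H → ℂ) ≠ 0 := by
    intro h0
    apply hχ
    rw [classInner_indFun H _ (irr_isClassFunction χ), ← classInner_conj_symm, h0, map_zero]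
  refine ⟨χ, hres, ?_⟩
  obtain ⟨R, hR, heq⟩ := IsCharacter.exists_add_of_classInner_ne_zero
    (IsCharacter.restrict (irr_isCharacter χ) H) ψ.2 hres
  have h1 := congrFun heq 1
  simp only [OneMemClass.coe_one, Pi.add_apply] at h1
  rw [irr_apply_one χ, irr_apply_one ψ, apply_one_eq_charDegree hR] at h1
  have : charDegree (χ : G → ℂ) = charDegree (ψ : H → ℂ) + charDegree R := by exact_mod_cast h1
  omega

theorem DegLe.subgroup [Finite G] {b : ℕ} (h : DegLe G b) (H : Subgroup G) : DegLe H b := by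
  haveI := Fintype.ofFinite G
  haveI := Fintype.ofFinite H
  intro ψ
  obtain ⟨χ, -, hle⟩ := exists_over_sub H ψ
  exact hle.trans (h χ)

theorem DegLe.quotient [Finite G] {b : ℕ} (h : DegLe G b) (X : Subgroup G) [X.Normal] :
    DegLe (G ⧸ X) b := by
  intro ξ
  obtain ⟨χ, hχ, -⟩ := exists_inflate X ξ
  exact hχ ▸ h χ

/-- Over a cyclic quotient there is no ramification. -/
theorem degree_of_cyclic [Fintype G] (K : Subgroup G) [K.Normal] [Fintype K]
    (hcyc : IsCyclic (G ⧸ K)) (ψ : IrrCharacter G) (θ : IrrCharacter K)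
    (hc : classInner (fun x : K => (ψ : G → ℂ) x) (θ : K → ℂ) ≠ 0) :
    charDegree (ψ : G → ℂ) = (inertia K (θ : K → ℂ)).index * charDegree (θ : K → ℂ) := by
  classical
  set T := inertia K (θ : K → ℂ) with hT
  haveI := Fintype.ofFinite T
  haveI := Fintype.ofFinite (IrrCharacter T)
  have hKT : K ≤ T := le_inertia K (irr_isClassFunction θ)
  obtain ⟨ξ₀, hξ₀, hind, hξ₀c⟩ := exists_clifford_correspondent K ψ.2 θ.2 hc T rfl hKT
  set K' := K.subgroupOf T with hK'
  haveI := Fintype.ofFinite K'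
  set θ' : K' → ℂ := fun x => (θ : K → ℂ) ⟨((x : T) : G), Subgroup.mem_subgroupOf.mp x.2⟩ with hθ'
  have hθ'irr : IsIrrCharacter K' θ' :=
    IsIrrCharacter.comp_equiv θ.2 (Subgroup.subgroupOfEquivOfLe hKT)
  have hinv : ∀ (t : T) (x : K'), θ' ⟨t * x * t⁻¹, (inferInstance : K'.Normal).conj_mem (x : T) x.2 t⟩ = θ' x := by
    intro t x
    have h1 := congrFun (show Cfsg.Agent.Lib.Characters.conjFun K (t : G) (θ : K → ℂ) = _ from t.2) ⟨((x : T) : G), x.2⟩
    rw [conjFun_eq_comp, Function.comp_apply] at h1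
    simp only [hθ']
    rw [← h1]
    exact congrArg _ (Subtype.ext (by simp [MulAut.conjNormal_apply]))
  have hcycT : IsCyclic (T ⧸ K') := by
    haveI := hcyc
    refine isCyclic_of_injective (QuotientGroup.lift K' ((QuotientGroup.mk' K).comp T.subtype)
      (fun x hx => (QuotientGroup.eq_one_iff ((x : T) : G)).mpr (Subgroup.mem_subgroupOf.mp hx))) ?_
    rw [injective_iff_map_eq_one]
    intro q hq
    obtain ⟨t, rfl⟩ := QuotientGroup.mk_surjective q
    exact (QuotientGroup.eq_one_iff t).mpr (Subgroup.mem_subgroupOf.mpr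
      ((QuotientGroup.eq_one_iff ((t : T) : G)).mp hq))
  obtain ⟨θh, hθh, hθhres⟩ := exists_irr_extension_of_cyclic hcycT hθ'irr hinv
  have hθhdeg : θh 1 = (θ : K → ℂ) 1 := by
    have h := hθhres 1
    simp only [OneMemClass.coe_one] at h
    rw [h]
    rfl
  -- the induced character from the kernel
  set π₁ := indFun K' (fun _ => (1 : ℂ)) with hπ₁
  have hπ₁c : IsCharacter T π₁ := IsCharacter.indFun K' isCharacter_one
  obtain ⟨m, hm, hm'⟩ := IsCharacter.exists_nat_decomp hπ₁c
  have hπθ : indFun K' θ' = π₁ * θh := by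
    rw [hπ₁, ← indFun_mul_restrict K' _ (irr_isClassFunction ⟨θh, hθh⟩)]
    refine congrArg (indFun K') (funext fun x => ?_)
    simp [hθhres x]
  have hne : classInner ξ₀ (indFun K' θ') ≠ 0 := by
    rw [classInner_indFun_right K' _ (IsCharacter.isClassFunction (IsIrrCharacter.isCharacter hξ₀))]
    intro h0
    apply hc
    rw [← hξ₀c, ← h0]
    exact (classInner_comp_equiv (Subgroup.subgroupOfEquivOfLe hKT) _ _).symm
  rw [hπθ, hm, Finset.sum_mul, classInner_sum_right] at hne
  obtain ⟨β, -, hβ⟩ := Finset.exists_ne_zero_of_sum_ne_zero hne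
  rw [smul_mul_assoc, classInner_natCast_smul_right] at hβ
  obtain ⟨hmβ, hβc⟩ := ne_zero_and_ne_zero_of_mul hβ
  have hβker : ∀ x ∈ K', (β : T → ℂ) x = (β : T → ℂ) 1 := fun x hx => by
    refine constituent_apply hπ₁c (by rw [hm']; exact hmβ) ?_
    rw [hπ₁, indFun_apply, indFun_apply]
    refine congrArg _ (Finset.sum_congr rfl fun y _ => ?_)
    rw [extendByZero_of_mem _ _ (by simpa using (inferInstance : K'.Normal).conj_mem x hx y⁻¹),
      extendByZero_of_mem _ _ (by simp)]
  obtain ⟨β', hβ', hβeq⟩ := IsIrrCharacter.exists_quotient β.2 K' hβker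
  have hβ1 : (β : T → ℂ) 1 = 1 := by
    rw [hβeq, Function.comp_apply, map_one]
    exact IsIrrCharacter.apply_one_of_comm (fun a c => by
      haveI := hcycT
      exact (IsCyclic.commGroup (α := T ⧸ K')).mul_comm a c) hβ'
  obtain ⟨lam, hlam⟩ := IsCharacter.exists_hom_of_apply_one (irr_isCharacter β) hβ1
  have hprod : IsIrrCharacter T ((β : T → ℂ) * θh) := by
    rw [hlam]; exact isIrrCharacter_twist lam hθh
  have heq : ξ₀ = (β : T → ℂ) * θh := by
    by_contra hne'
    exact hβc (IsIrrCharacter.classInner_ne hξ₀ hprod hne')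
  have hd := congrFun hind 1
  rw [indFun_one, heq, Pi.mul_apply, hβ1, one_mul, hθhdeg, irr_apply_one θ, irr_apply_one ψ] at hd
  exact_mod_cast hd.symm

/-- A minimal non-abelian `p`-quotient lowers the degrees at the cost of a square index. -/
theorem exists_pquot_step [Fintype G] {p : ℕ} [hp : Fact p.Prime] (N₀ : Subgroup G) [N₀.Normal]
    (hpG : IsPGroup p (G ⧸ N₀)) (hnab : ¬ ∀ a c : G ⧸ N₀, a * c = c * a) {b : ℕ} (hb : DegLe G b) :
    ∃ (H : Subgroup G) (a : ℕ), 1 ≤ a ∧ p ^ a ≤ b ∧ H.index = (p ^ a) ^ 2 ∧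
      ∀ ψ : IrrCharacter H, p * charDegree (ψ : H → ℂ) ≤ b := by
  classical
  haveI := Fintype.ofFinite (Subgroup G)
  obtain ⟨K, hK, hKmax⟩ := Finset.exists_max_image
    (Finset.univ.filter fun K : Subgroup G => K.Normal ∧ N₀ ≤ K ∧ ¬ commutator G ≤ K)
    (fun K => Nat.card K) ⟨N₀, Finset.mem_filter.mpr ⟨Finset.mem_univ _, inferInstance, le_rfl,
      fun h => hnab fun a c => by
        obtain ⟨a, rfl⟩ := QuotientGroup.mk_surjective a
        obtain ⟨c, rfl⟩ := QuotientGroup.mk_surjective c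
        refine QuotientGroup.eq.mpr (h ?_)
        rw [show (a * c)⁻¹ * (c * a) = ⁅c⁻¹, a⁻¹⁆ by rw [commutatorElement_def]; group, commutator_def]
        exact Subgroup.commutator_mem_commutator (Subgroup.mem_top _) (Subgroup.mem_top _)⟩⟩
  simp only [Finset.mem_filter, Finset.mem_univ, true_and] at hK hKmax
  obtain ⟨hKn, hN₀K, hKc⟩ := hK
  haveI := hKn
  haveI := Fintype.ofFinite K
  haveI := Fintype.ofFinite (G ⧸ K)
  set π := QuotientGroup.mk' K with hπ
  have hsurj : Function.Surjective π := QuotientGroup.mk'_surjective K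
  have hQp : IsPGroup p (G ⧸ K) :=
    hpG.of_surjective (QuotientGroup.map N₀ K (MonoidHom.id G) (fun x hx => hN₀K hx))
      (QuotientGroup.map_surjective_of_surjective N₀ K (MonoidHom.id G) (fun x => QuotientGroup.mk_surjective x) _)
  haveI : Group.IsNilpotent (G ⧸ K) := hQp.isNilpotent
  set W := commutator (G ⧸ K) with hW
  have hWmap : (commutator G).map π = W := by
    rw [hW, commutator_def, commutator_def, Subgroup.map_commutator,
      Subgroup.map_top_of_surjective _ hsurj]
  have hmin : ∀ A : Subgroup (G ⧸ K), A.Normal → A ≠ ⊥ → W ≤ A := by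
    intro A hA hA0
    by_contra hDA
    have hle : K ≤ A.comap π := fun x hx => by
      show π x ∈ A
      rw [show π x = 1 from (QuotientGroup.eq_one_iff x).mpr hx]
      exact A.one_mem
    have hn : (A.comap π).Normal ∧ N₀ ≤ A.comap π ∧ ¬ commutator G ≤ A.comap π :=
      ⟨hA.comap π, hN₀K.trans hle, fun h => hDA (hWmap ▸ Subgroup.map_le_iff_le_comap.mpr h)⟩
    have heq := Subgroup.eq_of_le_of_card_ge hle (hKmax _ hn)
    refine hA0 ((Subgroup.eq_bot_iff_forall _).mpr fun y hy => ?_)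
    obtain ⟨x, rfl⟩ := hsurj y
    exact (QuotientGroup.eq_one_iff x).mpr (heq.ge hy)
  have hW0 : W ≠ ⊥ := by
    rw [← hWmap, Ne, Subgroup.map_eq_bot_iff, QuotientGroup.ker_mk']
    exact hKc
  have hQnab : ¬ ∀ a c : G ⧸ K, a * c = c * a := fun h => hW0 (by
    rw [hW, commutator_def, eq_bot_iff, Subgroup.commutator_le]
    exact fun a _ c _ => Subgroup.mem_bot.mpr (commutatorElement_eq_one_iff_mul_comm.mpr (h a c)))
  haveI : Nontrivial (G ⧸ K) := by
    by_contra hnt
    rw [not_nontrivial_iff_subsingleton] at hnt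
    exact hQnab fun a c => Subsingleton.elim _ _
  set Z := Subgroup.center (G ⧸ K) with hZ
  haveI := Fintype.ofFinite Z
  have hWZ : W ≤ Z := hmin Z inferInstance (Group.IsNilpotent.center_ne_bot _)
  obtain ⟨η, hη⟩ : ∃ η : IrrCharacter (G ⧸ K), (η : G ⧸ K → ℂ) 1 ≠ 1 := by
    by_contra h
    push Not at h
    exact hQnab (comm_iff_forall_irr_one.mpr h)
  have hηfaith : ∀ g, (η : G ⧸ K → ℂ) g = (η : G ⧸ K → ℂ) 1 → g = 1 := by
    intro g hg
    by_contra hg1
    set Kη := charKernel (irr_isCharacter η) with hKη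
    have hne : Kη ≠ ⊥ := fun hb => hg1 (by
      have : g ∈ Kη := hg
      rwa [hb, Subgroup.mem_bot] at this)
    have hle := hmin Kη inferInstance hne
    obtain ⟨η', hη', heq⟩ := IsIrrCharacter.exists_quotient η.2 W fun x hx => hle hx
    apply hη
    rw [heq, Function.comp_apply, map_one]
    exact IsIrrCharacter.apply_one_of_comm (fun a c => by
      obtain ⟨a, rfl⟩ := QuotientGroup.mk_surjective a
      obtain ⟨c, rfl⟩ := QuotientGroup.mk_surjective c
      refine QuotientGroup.eq.mpr ?_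
      rw [show (a * c)⁻¹ * (c * a) = ⁅c⁻¹, a⁻¹⁆ by rw [commutatorElement_def]; group, hW, commutator_def]
      exact Subgroup.commutator_mem_commutator (Subgroup.mem_top _) (Subgroup.mem_top _)) hη'
  -- the central character
  have hη1 : (η : G ⧸ K → ℂ) 1 ≠ 0 := IsIrrCharacter.apply_one_ne_zero η.2
  choose ω hω using fun z : Z =>
    (Cfsg.Agent.Lib.Characters.IsIrrCharacter.exists_central_value η.2 (z := (z : G ⧸ K)) z.2).imp fun _ h => h.2
  let μ : Z →* ℂ :=
    { toFun := ω
      map_one' := by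
        have := hω 1 1
        simp only [OneMemClass.coe_one, mul_one] at this
        exact (mul_eq_right₀ hη1).mp this.symm
      map_mul' := fun x y => by
        have h1 := hω (x * y) 1
        rw [Subgroup.coe_mul, ← mul_assoc, hω y, hω x] at h1
        refine mul_right_cancel₀ hη1 ?_
        rw [← h1]; ring }
  have hμinj : Function.Injective μ := by
    rw [injective_iff_map_eq_one]
    intro z hz
    refine Subtype.ext (hηfaith z ?_)
    have h1 := hω z 1
    rw [one_mul] at h1
    rw [h1]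
    change μ z * _ = _
    rw [hz, one_mul]
  haveI hZcyc : IsCyclic Z := isCyclic_of_injective_ringHom μ hμinj
  have hoff : ∀ g : G ⧸ K, g ∉ Z → (η : G ⧸ K → ℂ) g = 0 := by
    intro g hg
    obtain ⟨h, hh⟩ : ∃ h, h * g ≠ g * h := by
      by_contra hc
      push Not at hc
      exact hg (Subgroup.mem_center_iff.mpr hc)
    set w := g⁻¹ * h * g * h⁻¹ with hw
    have hwW : w ∈ W := by
      rw [hW, commutator_def, show w = ⁅g⁻¹, h⁆ by rw [hw, commutatorElement_def]; group]
      exact Subgroup.commutator_mem_commutator (Subgroup.mem_top _) (Subgroup.mem_top _)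
    have h1 := hω ⟨w, hWZ hwW⟩ g
    have h2 : g * w = h * g * h⁻¹ := by rw [hw]; group
    simp only [h2, IsCharacter.conj_apply (irr_isCharacter η)] at h1
    by_contra h0
    have hω1 := (mul_eq_right₀ h0).mp h1.symm
    have hw1 : w = 1 := hηfaith w (by
      have h3 := hω ⟨w, hWZ hwW⟩ 1
      rw [one_mul] at h3
      rw [h3, hω1, one_mul])
    refine hh ?_
    rw [hw1, mul_one] at h2
    calc h * g = h * g * h⁻¹ * h := by group
      _ = g * h := by rw [← h2]
  set f := charDegree (η : G ⧸ K → ℂ) with hf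
  have hfidx : f ^ 2 = Z.index := by
    refine sq_eq_index_of_vanish Z η.2 (isIrrCharacter_monoidHom μ) ?_ hoff
    funext z
    have h1 := hω z 1
    rw [one_mul] at h1
    rw [Pi.smul_apply, smul_eq_mul, h1, irr_apply_one η, mul_comm]
    rfl
  obtain ⟨nQ, hnQ⟩ := hQp.exists_card_eq
  obtain ⟨a, -, ha⟩ := (Nat.dvd_prime_pow hp.out).mp (hnQ ▸ charDegree_dvd_card η)
  rw [← hf] at ha
  have ha1 : 1 ≤ a := by
    refine Nat.one_le_iff_ne_zero.mpr fun h0 => hη ?_
    rw [irr_apply_one η, ← hf, ha, h0, pow_zero, Nat.cast_one]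
  set H := Z.comap π with hH
  have hKH : K ≤ H := fun x hx => by
    show π x ∈ Z
    rw [show π x = 1 from (QuotientGroup.eq_one_iff x).mpr hx]
    exact Z.one_mem
  haveI : H.Normal := (inferInstance : Z.Normal).comap π
  haveI := Fintype.ofFinite H
  have hHidx : H.index = (p ^ a) ^ 2 := by
    rw [hH, Z.index_comap_of_surjective hsurj, ← hfidx, ha]
  refine ⟨H, a, ha1, ?_, hHidx, fun ψ => ?_⟩
  · obtain ⟨χ, hχ, -⟩ := exists_inflate K η
    have h1 := hb χ
    rw [hχ] at h1
    exact ha.ge.trans h1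
  by_contra hlt
  push Not at hlt
  have hψpos := charDegree_irr_pos ψ
  -- the character over `ψ` restricts to it
  obtain ⟨χ, r, hr, hrd, hrc⟩ := exists_over H ψ
  have hr1 : r = 1 := by
    rw [hHidx, ← pow_mul] at hr
    obtain ⟨i, -, rfl⟩ := (Nat.dvd_prime_pow hp.out).mp hr
    rcases Nat.eq_zero_or_pos i with rfl | hi
    · exact pow_zero p
    · exfalso
      have h1 : p ≤ p ^ i := Nat.le_self_pow hi.ne' p
      have h2 := hb χ
      rw [hrd] at h2
      have := Nat.mul_le_mul_right (charDegree (ψ : H → ℂ)) h1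
      omega
  rw [hr1, one_mul] at hrd
  have hres : (fun x : H => (χ : G → ℂ) x) = (ψ : H → ℂ) :=
    restrict_irr_of_degree H (irr_isCharacter χ) ψ.2 hrc
      (by rw [irr_apply_one χ, irr_apply_one ψ, hrd])
  set K' := K.subgroupOf H with hK'
  haveI := Fintype.ofFinite K'
  set e := Subgroup.subgroupOfEquivOfLe hKH with he
  obtain ⟨θ', -, -, -, hθ'c⟩ := exists_below K' ψ
  set θ : IrrCharacter K := ⟨(θ' : K' → ℂ) ∘ e.symm, IsIrrCharacter.comp_equiv θ'.2 e.symm⟩ with hθ
  have hθe : ∀ y : K', (θ : K → ℂ) (e y) = (θ' : K' → ℂ) y := fun y => by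
    show (θ' : K' → ℂ) (e.symm (e y)) = _
    rw [e.symm_apply_apply]
  have hθdeg : charDegree (θ : K → ℂ) = charDegree (θ' : K' → ℂ) := by
    refine charDegree_of_apply_one ?_
    show (θ' : K' → ℂ) (e.symm 1) = _
    rw [map_one, irr_apply_one θ']
  have hcycH : IsCyclic (H ⧸ K') := by
    let f₀ : H →* Z := (π.comp H.subtype).codRestrict Z fun x => x.2
    refine isCyclic_of_injective (QuotientGroup.lift K' f₀ (fun x hx => Subtype.ext
      ((QuotientGroup.eq_one_iff (x : G)).mpr hx))) ?_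
    rw [injective_iff_map_eq_one]
    intro q hq
    obtain ⟨x, rfl⟩ := QuotientGroup.mk_surjective q
    exact (QuotientGroup.eq_one_iff x).mpr ((QuotientGroup.eq_one_iff (x : G)).mp (congrArg Subtype.val hq))
  set T := inertia K (θ : K → ℂ) with hT
  haveI := Fintype.ofFinite T
  have hTH : inertia K' (θ' : K' → ℂ) = T.subgroupOf H := by
    ext x
    rw [mem_inertia_iff, Subgroup.mem_subgroupOf, hT, mem_inertia_iff]
    constructor
    · intro h
      funext z
      obtain ⟨y, rfl⟩ := e.surjective z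
      have := congrFun h y
      rw [conjFun_eq_comp, Function.comp_apply] at this ⊢
      rw [hθe, ← this, ← hθe]
      exact congrArg _ (Subtype.ext (by simp [he, MulAut.conjNormal_apply]))
    · intro h
      funext y
      have := congrFun h (e y)
      rw [conjFun_eq_comp, Function.comp_apply] at this ⊢
      rw [← hθe, ← hθe y, ← this]
      exact congrArg _ (Subtype.ext (by simp [he, MulAut.conjNormal_apply]))
  have hψdeg := degree_of_cyclic K' hcycH ψ θ' hθ'c
  rw [hTH, ← Subgroup.relIndex, ← hθdeg] at hψdeg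
  have hcθ : classInner (fun x : K => (χ : G → ℂ) x) (θ : K → ℂ) ≠ 0 := by
    intro h0
    apply hθ'c
    rw [← h0, ← classInner_comp_equiv e (fun x : K => (χ : G → ℂ) x) (θ : K → ℂ)]
    congr 1
    funext y
    rw [← congrFun hres (y : H)]
    simp [he]
  obtain ⟨e₁, he₁⟩ := IsCharacter.exists_classInner_nat
    (IsCharacter.restrict (irr_isCharacter χ) K) (irr_isCharacter θ)
  have he₁0 : e₁ ≠ 0 := fun h => hcθ (by rw [he₁, h, Nat.cast_zero])
  have hχdeg : charDegree (χ : G → ℂ) = e₁ * T.index * charDegree (θ : K → ℂ) := by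
    have h := degree_eq K χ.2 θ.2 hcθ
    rw [irr_apply_one χ, irr_apply_one θ, he₁] at h
    exact_mod_cast h
  have hrel_le : T.relIndex H ≤ T.relIndex (H ⊔ T) :=
    Subgroup.relIndex_le_of_le_right le_sup_left (Subgroup.index_ne_zero_of_finite)
  have hrel_mul : T.relIndex (H ⊔ T) * (H ⊔ T).index = T.index :=
    Subgroup.relIndex_mul_index le_sup_right
  have hsupidx : 0 < (H ⊔ T).index := Nat.pos_of_ne_zero Subgroup.index_ne_zero_of_finite
  have hTpos : 0 < T.index := Nat.pos_of_ne_zero Subgroup.index_ne_zero_of_finite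
  have hθpos := charDegree_irr_pos θ
  have hrel : T.relIndex H = e₁ * T.index :=
    Nat.eq_of_mul_eq_mul_right hθpos (by rw [← hψdeg, ← hrd, hχdeg])
  have hge : T.relIndex (H ⊔ T) ≤ T.index := Nat.le_of_dvd hTpos (Dvd.intro _ hrel_mul)
  have he₁1 : e₁ = 1 := by
    have : e₁ * T.index ≤ 1 * T.index := by omega
    have := Nat.le_of_mul_le_mul_right this hTpos
    omega
  rw [he₁1, one_mul] at hrel hχdeg
  have hsup : H ⊔ T = ⊤ := Subgroup.index_eq_one.mp (by
    have : T.relIndex (H ⊔ T) = T.index := by omega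
    rw [this] at hrel_mul
    exact Nat.eq_of_mul_eq_mul_left hTpos (by rw [hrel_mul, mul_one]))
  -- the Clifford correspondent extends `θ`
  have hKT : K ≤ T := le_inertia K (irr_isClassFunction θ)
  obtain ⟨ξ, hξ, hξind, hξc⟩ := exists_clifford_correspondent K χ.2 θ.2 hcθ T rfl hKT
  set KT := K.subgroupOf T with hKT'
  haveI := Fintype.ofFinite KT
  set eT := Subgroup.subgroupOfEquivOfLe hKT with heT
  have hξ1 : ξ 1 = (θ : K → ℂ) 1 := by
    have h := congrFun hξind 1
    rw [indFun_one, irr_apply_one χ, hχdeg, Nat.cast_mul] at h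
    rw [irr_apply_one θ]
    exact mul_left_cancel₀ (Nat.cast_ne_zero.mpr hTpos.ne') h
  set θT : KT → ℂ := (θ : K → ℂ) ∘ eT with hθT
  have hθTirr : IsIrrCharacter KT θT := IsIrrCharacter.comp_equiv θ.2 eT
  have hξres : (fun x : KT => ξ x) = θT := by
    refine restrict_irr_of_degree KT (IsIrrCharacter.isCharacter hξ) hθTirr ?_ ?_
    · intro h0
      apply hcθ
      rw [← hξc, ← h0, ← classInner_comp_equiv eT]
      rfl
    · rw [hξ1, hθT, Function.comp_apply, map_one]
  -- a non-linear character of `T / K`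
  have hTnab : ¬ ∀ a c : T ⧸ KT, a * c = c * a := by
    intro hab
    apply hQnab
    have hTc : ∀ x ∈ T, ∀ y ∈ T, π x * π y = π y * π x := by
      intro x hx y hy
      have h1 := hab (QuotientGroup.mk ⟨x, hx⟩) (QuotientGroup.mk ⟨y, hy⟩)
      rw [← QuotientGroup.mk_mul, ← QuotientGroup.mk_mul, QuotientGroup.eq] at h1
      rw [← map_mul, ← map_mul]
      exact QuotientGroup.eq.mpr h1
    intro u v
    obtain ⟨x, rfl⟩ := hsurj u
    obtain ⟨y, rfl⟩ := hsurj v
    obtain ⟨h1, hh1, t1, ht1, rfl⟩ := Subgroup.mem_sup_of_normal_left.mp (hsup ▸ Subgroup.mem_top x : x ∈ H ⊔ T)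
    obtain ⟨h2, hh2, t2, ht2, rfl⟩ := Subgroup.mem_sup_of_normal_left.mp (hsup ▸ Subgroup.mem_top y : y ∈ H ⊔ T)
    have c1 : ∀ w, Commute (π h1) w := fun w => (Subgroup.mem_center_iff.mp hh1 w).symm
    have c2 : ∀ w, Commute (π h2) w := fun w => (Subgroup.mem_center_iff.mp hh2 w).symm
    rw [map_mul, map_mul]
    exact Commute.mul_left (c1 _) (Commute.mul_right ((c2 _).symm) (hTc t1 ht1 t2 ht2))
  obtain ⟨β, hβ⟩ : ∃ β : IrrCharacter (T ⧸ KT), (β : T ⧸ KT → ℂ) 1 ≠ 1 := by
    by_contra h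
    push Not at h
    exact hTnab (comm_iff_forall_irr_one.mpr h)
  set dβ := charDegree (β : T ⧸ KT → ℂ) with hdβ
  have hpβ : p ≤ dβ := by
    have h1 : dβ ∣ K.index := by
      refine (charDegree_dvd_card β).trans ?_
      rw [← Subgroup.index_eq_card]
      exact Subgroup.relIndex_dvd_index_of_normal K T
    rw [Subgroup.index_eq_card, hnQ] at h1
    obtain ⟨i, -, hi⟩ := (Nat.dvd_prime_pow hp.out).mp h1
    rw [hi]
    refine Nat.le_self_pow (fun h0 => hβ ?_) p
    rw [irr_apply_one β, ← hdβ, hi, h0, pow_zero, Nat.cast_one]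
  set βT : T → ℂ := (β : T ⧸ KT → ℂ) ∘ QuotientGroup.mk' KT with hβT
  have hβTirr : IsIrrCharacter T βT :=
    IsIrrCharacter.comp_surjective β.2 _ (QuotientGroup.mk'_surjective KT)
  have hprod : IsIrrCharacter T (βT * ξ) :=
    isIrr_mul_of_restrict KT hξ (hξres ▸ hθTirr) hβTirr (fun x g => by
      simp only [hβT, Function.comp_apply, map_mul]
      rw [show QuotientGroup.mk' KT (x : T) = 1 from (QuotientGroup.eq_one_iff _).mpr x.2, one_mul])
  obtain ⟨χ', hχ'c, -⟩ := exists_over_sub T ⟨_, hprod⟩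
  obtain ⟨R, hR, hReq⟩ := IsCharacter.exists_add_of_classInner_ne_zero
    (IsCharacter.restrict (irr_isCharacter χ') T) hprod hχ'c
  obtain ⟨e₂, he₂⟩ := IsCharacter.exists_classInner_nat
    (IsCharacter.restrict (irr_isCharacter χ') K) (irr_isCharacter θ)
  obtain ⟨k₀, hk₀⟩ := IsCharacter.exists_classInner_nat
    (IsCharacter.restrict hR KT) (IsIrrCharacter.isCharacter hθTirr)
  have he₂β : e₂ = dβ + k₀ := by
    have h1 : classInner (fun y : KT => (χ' : G → ℂ) ((y : T) : G)) θT = (e₂ : ℂ) := by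
      rw [← he₂, ← classInner_comp_equiv eT]
      rfl
    have h2 : (fun y : KT => (χ' : G → ℂ) ((y : T) : G)) =
        (dβ : ℂ) • θT + fun y : KT => R y := by
      funext y
      have h3 := congrFun hReq (y : T)
      rw [h3, Pi.add_apply, Pi.add_apply, Pi.mul_apply, Pi.smul_apply, smul_eq_mul, ← congrFun hξres y]
      congr 2
      rw [hβT, Function.comp_apply, show QuotientGroup.mk' KT (y : T) = 1 from
        (QuotientGroup.eq_one_iff _).mpr y.2, irr_apply_one β]
    rw [h2, classInner_add_left, classInner_smul_left, IsIrrCharacter.classInner_self hθTirr,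
      mul_one, hk₀] at h1
    exact_mod_cast h1.symm
  have hc' : classInner (fun x : K => (χ' : G → ℂ) x) (θ : K → ℂ) ≠ 0 := by
    rw [he₂, Nat.cast_ne_zero, he₂β]
    have := hp.out.pos
    omega
  have h4 := degree_eq K χ'.2 θ.2 hc'
  rw [irr_apply_one χ', irr_apply_one θ, he₂] at h4
  have h5 : charDegree (χ' : G → ℂ) = e₂ * T.index * charDegree (θ : K → ℂ) := by exact_mod_cast h4
  have h6 := hb χ'
  rw [h5, mul_assoc, ← hχdeg, hrd] at h6
  have h7 := Nat.mul_le_mul_right (charDegree (ψ : H → ℂ)) (show p ≤ e₂ by omega)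
  omega

theorem FrobQuot.not_dvd_index [Finite G] {N K : Subgroup G} {q : ℕ} (hF : FrobQuot N K q) :
    ¬ q ∣ K.index := by
  classical
  haveI := hF.normalN
  haveI := hF.normalK
  haveI := Fact.mk hF.prime
  intro hd
  rw [Subgroup.index_eq_card] at hd
  obtain ⟨t, ht⟩ := exists_prime_orderOf_dvd_card' q hd
  set π := QuotientGroup.mk' K
  set H := (Subgroup.zpowers t).comap π with hH
  have hKH : K ≤ H := fun x hx => by
    show π x ∈ Subgroup.zpowers t
    rw [show π x = 1 from (QuotientGroup.eq_one_iff x).mpr hx]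
    exact one_mem _
  have hidx : K.relIndex H = q := by
    have h2 := Subgroup.relIndex_ker π (K := H)
    rw [QuotientGroup.ker_mk'] at h2
    rw [h2, hH, Subgroup.map_comap_eq_self_of_surjective (QuotientGroup.mk'_surjective K),
      Nat.card_zpowers, ht]
  obtain ⟨j, hj⟩ := hF.qGroup
  have hpow : ∃ j, N.relIndex H = q ^ j :=
    ⟨j + 1, by rw [← Subgroup.relIndex_mul_relIndex N K H hF.le hKH, hj, hidx, pow_succ]⟩
  obtain ⟨M, hNM, hMK, hrel, -, hcen⟩ := exists_central_step H K N
    (lt_of_le_of_ne hF.le hF.neK) hKH (fun h _ k hk => hF.normalK.conj_mem k hk h)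
    (fun h _ k hk => hF.normalN.conj_mem k hk h) hpow
  obtain ⟨s, hs⟩ := QuotientGroup.mk'_surjective K t
  have hsK : s ∉ K := fun hsK => by
    rw [show π s = 1 from (QuotientGroup.eq_one_iff s).mpr hsK] at hs
    rw [← hs, orderOf_one] at ht
    exact hF.prime.ne_one ht.symm
  have hsH : s ∈ H := by
    show π s ∈ Subgroup.zpowers t
    rw [hs]; exact Subgroup.mem_zpowers t
  have hMN : M ≤ N := fun x hx => hF.fpf s hsK x (hMK hx) (hcen s hsH x hx)
  rw [le_antisymm hMN hNM, Subgroup.relIndex_self] at hrel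
  exact hF.prime.ne_one hrel.symm

theorem nilpotent_step [Finite G] [Group.IsNilpotent G] (hna : ¬ ∀ a c : G, a * c = c * a) {b : ℕ}
    (hb : DegLe G b) :
    ∃ (p a : ℕ) (H : Subgroup G), p.Prime ∧ 1 ≤ a ∧ p ^ a ≤ b ∧ H.index = (p ^ a) ^ 2 ∧
      ∀ ψ : IrrCharacter H, p * charDegree (ψ : H → ℂ) ≤ b := by
  classical
  haveI := Fintype.ofFinite G
  rcases exists_degree_quotient hna with ⟨N, hN, p, hp, hpG, hnab⟩ | ⟨N, K, q, hF⟩
  · haveI := hN
    haveI := Fact.mk hp
    obtain ⟨H, a, h1, h2, h3, h4⟩ := exists_pquot_step N hpG hnab hb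
    exact ⟨p, a, H, hp, h1, h2, h3, h4⟩
  · exfalso
    haveI := hF.normalN
    haveI := hF.normalK
    set π := QuotientGroup.mk' N with hπ
    haveI : Group.IsNilpotent (G ⧸ N) := Group.nilpotent_of_surjective π (QuotientGroup.mk'_surjective N)
    haveI : (K.map π).Normal := hF.normalK.map π (QuotientGroup.mk'_surjective N)
    have hK0 : K.map π ≠ ⊥ := by
      rw [Ne, Subgroup.map_eq_bot_iff, QuotientGroup.ker_mk']
      exact fun h => hF.neK (le_antisymm hF.le h)
    obtain ⟨⟨w, hw⟩, hw1⟩ :=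
      Subgroup.ne_bot_iff_exists_ne_one.1 (Cfsg.Agent.Lib.Solvable.inf_center_ne_bot hK0)
    obtain ⟨k, hk, rfl⟩ := hw.1
    obtain ⟨t, -, ht⟩ := SetLike.exists_of_lt (lt_top_iff_ne_top.mpr hF.neTop)
    refine hw1 (Subtype.ext ((QuotientGroup.eq_one_iff k).mpr (hF.fpf t ht k hk ?_)))
    rw [← QuotientGroup.eq_one_iff]
    show π (t * k * t⁻¹ * k⁻¹) = 1
    rw [map_mul, map_mul, map_mul, map_inv, map_inv, Subgroup.mem_center_iff.mp hw.2 (π t),
      mul_inv_cancel_right, mul_inv_cancel]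

/-- The two alternatives for a non-abelian solvable group. -/
theorem solvable_step [Finite G] [Group.IsSolvable G] (hna : ¬ ∀ a c : G, a * c = c * a) {b : ℕ}
    (hb : DegLe G b) :
    (∃ H : Subgroup G, H.index ≤ b ^ 2 ∧ DegLe H (b / 2)) ∨
    ∃ (K : Subgroup G) (q : ℕ), q.Prime ∧ ¬ q ∣ K.index ∧ 1 < K.index ∧ K.index ≤ b ∧
      (∃ χ : IrrCharacter G, charDegree (χ : G → ℂ) = K.index) ∧
      ∀ ψ : IrrCharacter K, q ∣ charDegree (ψ : K → ℂ) ∨
        ∃ χ : IrrCharacter G, charDegree (χ : G → ℂ) = K.index * charDegree (ψ : K → ℂ) := by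
  classical
  haveI := Fintype.ofFinite G
  rcases exists_degree_quotient hna with ⟨N, hN, p, hp, hpG, hnab⟩ | ⟨N, K, q, hF⟩
  · haveI := hN
    haveI := Fact.mk hp
    obtain ⟨H, a, h1, h2, h3, h4⟩ := exists_pquot_step N hpG hnab hb
    refine Or.inl ⟨H, h3 ▸ Nat.pow_le_pow_left h2 2, fun ψ => ?_⟩
    rw [Nat.le_div_iff_mul_le two_pos]
    calc charDegree (ψ : H → ℂ) * 2 ≤ charDegree (ψ : H → ℂ) * p := Nat.mul_le_mul_left _ hp.two_le
      _ ≤ b := by rw [mul_comm]; exact h4 ψ
  · haveI := hF.normalK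
    haveI := Fintype.ofFinite K
    obtain ⟨χ, hχ⟩ := (hF.dvd_or_exists (trivIrr K)).resolve_left (by
      rw [charDegree_trivIrr]; exact fun h => hF.prime.one_lt.ne' (Nat.dvd_one.mp h))
    rw [charDegree_trivIrr, mul_one] at hχ
    refine Or.inr ⟨K, q, hF.prime, FrobQuot.not_dvd_index hF, ?_, hχ ▸ hb χ, ⟨χ, hχ⟩,
      fun ψ => hF.dvd_or_exists ψ⟩
    have h1 : K.index ≠ 1 := fun h => hF.neTop (Subgroup.index_eq_one.mp h)
    have := Nat.pos_of_ne_zero (Subgroup.index_ne_zero_of_finite (H := K))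
    omega

theorem isSolvable_of_degLe_four : ∀ (n : ℕ) (G : Type u) [Group G] [Finite G], Nat.card G = n →
    DegLe G 4 → Group.IsSolvable G := by
  intro n
  induction n using Nat.strong_induction_on with
  | _ n ih =>
    intro G _ _ hn h
    classical
    by_cases hN : ∃ N : Subgroup G, N.Normal ∧ N ≠ ⊥ ∧ N ≠ ⊤
    · obtain ⟨N, hNn, hN0, hN1⟩ := hN
      haveI := hNn
      have hcard := Subgroup.card_eq_card_quotient_mul_card_subgroup N
      haveI : Group.IsSolvable N := ih _ (by
        refine lt_of_le_of_ne (hn ▸ Subgroup.card_le_card_group N) fun he => hN1 ?_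
        exact Subgroup.eq_top_of_card_eq N (he.trans hn.symm)) N rfl (h.subgroup N)
      haveI : Group.IsSolvable (G ⧸ N) := ih _ (by
        rw [← hn, hcard]
        exact lt_mul_of_one_lt_right Nat.card_pos ((Subgroup.one_lt_card_iff_ne_bot N).mpr hN0))
        (G ⧸ N) rfl (h.quotient N)
      exact (Group.isSolvable_iff_subgroup_quotient N).mpr ⟨inferInstance, inferInstance⟩
    · by_cases hna : ∀ a c : G, a * c = c * a
      · exact isSolvable_of_comm hna
      haveI : Nontrivial G := by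
        by_contra hnt
        rw [not_nontrivial_iff_subsingleton] at hnt
        exact hna fun a c => Subsingleton.elim _ _
      haveI : IsSimpleGroup G := ⟨fun N hNn => by
        by_contra hc
        push Not at hc
        exact hN ⟨N, hNn, hc.1, hc.2⟩⟩
      have h3 : Three G 3 4 := fun χ => by
        have := h χ
        have := charDegree_irr_pos χ
        have : charDegree (χ : G → ℂ) ≠ 2 := fun he => PrimeDegrees.false_of_degree_two hna χ he
        omega
      exact ⟨3, derived_three _ rfl 3 4 h3⟩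

/-- A constituent of full degree below the centralizer forces commuting conjugates. -/
theorem commute_conj_of_bad [Fintype G] {b : ℕ} (hb : DegLe G b) (x : G) :
    ∀ ψ : IrrCharacter (Subgroup.centralizer ({x} : Set G)),
      charDegree (ψ : Subgroup.centralizer ({x} : Set G) → ℂ) = b → ∀ g : G,
    Commute x (g * x * g⁻¹) := by
  classical
  set C := Subgroup.centralizer ({x} : Set G) with hC
  intro ψ hψ g
  haveI := Fintype.ofFinite C
  haveI := Fintype.ofFinite (IrrCharacter G)
  have hxC : x ∈ C := Subgroup.mem_centralizer_singleton_iff.mpr rfl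
  set m := g * x * g⁻¹ * x⁻¹ with hm
  obtain ⟨c, hc, hc'⟩ := IsCharacter.exists_nat_decomp (IsCharacter.indFun C (irr_isCharacter ψ))
  have hkill : ∀ χ : IrrCharacter G, c χ ≠ 0 → (χ : G → ℂ) m = (χ : G → ℂ) 1 := by
    intro χ hχ
    have hcne : classInner (fun y : C => (χ : G → ℂ) y) (ψ : C → ℂ) ≠ 0 := by
      intro h0
      apply hχ
      have := hc' χ
      rw [classInner_indFun C _ (irr_isClassFunction χ), ← classInner_conj_symm, h0, map_zero] at this
      exact_mod_cast this.symm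
    have hdeg : (χ : G → ℂ) 1 = (ψ : C → ℂ) 1 := by
      obtain ⟨R, hR, heq⟩ := IsCharacter.exists_add_of_classInner_ne_zero
        (IsCharacter.restrict (irr_isCharacter χ) C) ψ.2 hcne
      have h1 := congrFun heq 1
      simp only [OneMemClass.coe_one, Pi.add_apply] at h1
      rw [irr_apply_one χ, irr_apply_one ψ, apply_one_eq_charDegree hR, hψ] at h1
      rw [irr_apply_one χ, irr_apply_one ψ, hψ]
      have h2 : charDegree (χ : G → ℂ) = b + charDegree R := by exact_mod_cast h1
      have := hb χ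
      exact_mod_cast (by omega : charDegree (χ : G → ℂ) = b)
    have hres := restrict_irr_of_degree C (irr_isCharacter χ) ψ.2 hcne hdeg
    obtain ⟨ω, hω, hωe⟩ := Cfsg.Agent.Lib.Characters.IsIrrCharacter.exists_central_value ψ.2 (z := (⟨x, hxC⟩ : C)) (by
      rw [Subgroup.mem_center_iff]
      intro y
      exact Subtype.ext (Subgroup.mem_centralizer_singleton_iff.mp y.2))
    have hx : ‖(χ : G → ℂ) x‖ = (charDegree (χ : G → ℂ) : ℝ) := by
      have h1 := hωe 1
      rw [one_mul, ← congrFun hres ⟨x, hxC⟩, ← congrFun hres 1] at h1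
      simp only [OneMemClass.coe_one] at h1
      rw [h1, irr_apply_one χ, norm_mul, Complex.norm_natCast,
        show ‖ω‖ = 1 by rw [← Real.sqrt_sq (norm_nonneg ω), ← Complex.normSq_eq_norm_sq, hω, Real.sqrt_one],
        one_mul]
    obtain ⟨n, ρ, hρ, hρχ⟩ := χ.2
    rw [← hρχ] at hx ⊢
    have hfin : (charDegree ρ.character : ℝ) = (Module.finrank ℂ (Fin n → ℂ) : ℝ) := by
      rw [charDegree_of_apply_one ρ.char_one]
    obtain ⟨ω', hω'⟩ := (norm_char_eq_iff ρ x).mp (hx.trans hfin)
    have hcomm : ρ (g * x * g⁻¹) = ρ x := by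
      rw [map_mul, map_mul, hω', ← Module.End.one_eq_id, mul_smul_comm, mul_one, smul_mul_assoc,
        ← map_mul, mul_inv_cancel, map_one]
    have hone : ρ m = 1 := by
      rw [hm, map_mul, hcomm, ← map_mul, mul_inv_cancel, map_one]
    show LinearMap.trace ℂ _ (ρ m) = LinearMap.trace ℂ _ (ρ 1)
    rw [hone, ρ.map_one]
  have hval : indFun C (ψ : C → ℂ) m = indFun C (ψ : C → ℂ) 1 := by
    rw [hc]
    simp only [Finset.sum_apply, Pi.smul_apply, smul_eq_mul]
    refine Finset.sum_congr rfl fun χ _ => ?_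
    by_cases h0 : c χ = 0
    · simp [h0]
    · rw [hkill χ h0]
  have hmC : m ∈ C := by
    by_contra hmC
    rw [indFun_apply, indFun_apply] at hval
    have h2 := congrArg Complex.re (mul_left_cancel₀ (inv_ne_zero natCard_ne_zero_complex) hval)
    rw [Complex.re_sum, Complex.re_sum] at h2
    refine absurd h2 (ne_of_lt (Finset.sum_lt_sum (fun y _ => ?_) ⟨1, Finset.mem_univ _, ?_⟩))
    · rw [extendByZero_of_mem C _ (show y⁻¹ * 1 * y ∈ C by simp)]
      have e1 : (⟨y⁻¹ * 1 * y, by simp⟩ : C) = 1 := Subtype.ext (by simp)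
      rw [e1, irr_apply_one ψ, Complex.natCast_re]
      by_cases hy : y⁻¹ * m * y ∈ C
      · rw [extendByZero_of_mem _ _ hy]
        have h3 := IsCharacter.norm_le (irr_isCharacter ψ) ⟨y⁻¹ * m * y, hy⟩
        rw [irr_apply_one ψ, Complex.norm_natCast] at h3
        exact (Complex.re_le_norm _).trans h3
      · rw [extendByZero_of_not_mem _ _ hy, Complex.zero_re]
        exact Nat.cast_nonneg _
    · rw [extendByZero_of_not_mem _ _ (show (1 : G)⁻¹ * m * 1 ∉ C by simpa using hmC),
        extendByZero_of_mem C _ (show (1 : G)⁻¹ * 1 * 1 ∈ C by simp), Complex.zero_re]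
      have e1 : (⟨(1 : G)⁻¹ * 1 * 1, by simp⟩ : C) = 1 := Subtype.ext (by simp)
      rw [e1, irr_apply_one ψ, Complex.natCast_re, Nat.cast_pos]
      exact charDegree_irr_pos ψ
  have h1 : Commute x m := (Subgroup.mem_centralizer_singleton_iff.mp hmC).symm
  have := h1.mul_right (Commute.refl x)
  rwa [hm, inv_mul_cancel_right] at this

theorem mem_fitting_of_commute_conj [Finite G] (x : G) (h : ∀ g : G, Commute x (g * x * g⁻¹)) :
    x ∈ Cfsg.fittingSubgroup G := by
  set A := Subgroup.normalClosure ({x} : Set G) with hA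
  set S := Group.conjugatesOfSet ({x} : Set G) with hS
  have hSS : S ⊆ Subgroup.centralizer S := by
    intro a ha c hc
    obtain ⟨x1, hx1, hconj⟩ := Group.mem_conjugatesOfSet_iff.mp ha
    obtain ⟨x2, hx2, hconj'⟩ := Group.mem_conjugatesOfSet_iff.mp hc
    rw [Set.mem_singleton_iff] at hx1 hx2
    rw [hx1] at hconj
    rw [hx2] at hconj'
    obtain ⟨g, rfl⟩ := isConj_iff.mp hconj
    obtain ⟨k, rfl⟩ := isConj_iff.mp hconj'
    have h1 := (h (g⁻¹ * k)).map (MulAut.conj g).toMonoidHom
    simp only [MulEquiv.coe_toMonoidHom, MulAut.conj_apply] at h1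
    rw [show g * (g⁻¹ * k * x * (g⁻¹ * k)⁻¹) * g⁻¹ = k * x * k⁻¹ by group] at h1
    exact h1.eq.symm
  have h1 : A ≤ Subgroup.centralizer S := (Subgroup.closure_le _).mpr hSS
  have h2 : S ⊆ Subgroup.centralizer (A : Set G) := fun a ha y hy =>
    ((Subgroup.mem_centralizer_iff.mp (h1 hy)) a ha).symm
  have h3 : A ≤ Subgroup.centralizer (A : Set G) := (Subgroup.closure_le _).mpr h2
  haveI : IsMulCommutative A := ⟨⟨fun a c => Subtype.ext (h3 c.2 a a.2)⟩⟩
  exact Cfsg.Agent.Lib.Cores.le_fittingSubgroup Subgroup.normalClosure_normal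
    (Cfsg.Agent.Lib.Cores.isNilpotent_of_isMulCommutative A)
    (Subgroup.subset_normalClosure (Set.mem_singleton x))

/-- Class counting: either a small class with smaller centralizer degrees, or the Fitting
subgroup has small index. -/
theorem count_step [Fintype G] {b : ℕ} (hb : DegLe G b) :
    (∃ H : Subgroup G, H.index ≤ b ^ 2 ∧ DegLe H (b - 1)) ∨
    (Cfsg.fittingSubgroup G).index ≤ b ^ 4 ∧
      ((¬ ∀ x ∈ Cfsg.fittingSubgroup G, ∀ y ∈ Cfsg.fittingSubgroup G, x * y = y * x) →
        8 * (Cfsg.fittingSubgroup G).index ≤ 5 * b ^ 4) := by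
  classical
  set N := Cfsg.fittingSubgroup G with hN
  haveI : N.Normal := Cfsg.Agent.Lib.Cores.fittingSubgroup_normal G
  by_cases hgood : ∃ H : Subgroup G, H.index ≤ b ^ 2 ∧ DegLe H (b - 1)
  · exact Or.inl hgood
  refine Or.inr ?_
  have hbig : ∀ x : G, x ∉ N → b ^ 2 + 1 ≤ (Subgroup.centralizer ({x} : Set G)).index := by
    intro x hx
    by_contra hlt
    push Not at hlt
    apply hx
    have hnd : ¬ DegLe (Subgroup.centralizer ({x} : Set G)) (b - 1) := fun h =>
      hgood ⟨_, by omega, h⟩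
    obtain ⟨ψ, hψ⟩ := not_forall.mp hnd
    have hψb := hb.subgroup _ ψ
    exact mem_fitting_of_commute_conj x (commute_conj_of_bad hb x ψ (by omega))
  haveI := Fintype.ofFinite (ConjClasses G)
  haveI := Fintype.ofFinite (IrrCharacter G)
  let sz : ConjClasses G → ℕ := fun C => (Finset.univ.filter fun g : G => ConjClasses.mk g = C).card
  have hsz : ∀ g : G, sz (ConjClasses.mk g) = (Subgroup.centralizer ({g} : Set G)).index := by
    intro g
    rw [← card_conj_eq_index, Nat.card_eq_fintype_card, Fintype.card_subtype]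
    simp only [sz]
    congr 1
    ext y
    simp only [Finset.mem_filter, Finset.mem_univ, true_and, ConjClasses.mk_eq_mk_iff_isConj]
    exact isConj_comm
  have hiff : ∀ g g' : G, IsConj g g' → (g ∈ N ↔ g' ∈ N) := by
    intro g g' hgg
    obtain ⟨c, rfl⟩ := isConj_iff.mp hgg
    refine ⟨fun h => (inferInstance : N.Normal).conj_mem g h c, fun h => ?_⟩
    have := (inferInstance : N.Normal).conj_mem _ h c⁻¹
    simpa [mul_assoc] using this
  set CN := (Finset.univ : Finset (ConjClasses G)).filter fun C => ∃ g ∈ N, ConjClasses.mk g = C with hCN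
  set CO := (Finset.univ : Finset (ConjClasses G)).filter fun C => ¬ ∃ g ∈ N, ConjClasses.mk g = C with hCO
  have htotal : Nat.card G = ∑ C ∈ CN, sz C + ∑ C ∈ CO, sz C := by
    rw [hCN, hCO, Finset.sum_filter_add_sum_filter_not, Nat.card_eq_fintype_card, ← Finset.card_univ]
    exact Finset.card_eq_sum_card_fiberwise fun g _ => Finset.mem_univ _
  have hN_sum : ∑ C ∈ CN, sz C = Nat.card N := by
    rw [Nat.card_eq_fintype_card, Fintype.card_subtype]
    refine Eq.trans ?_ (Finset.card_eq_sum_card_fiberwise (s := Finset.univ.filter (· ∈ N)) (t := CN)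
      (f := ConjClasses.mk) fun g hg => Finset.mem_filter.mpr ⟨Finset.mem_univ _, g, by simpa using hg, rfl⟩).symm
    refine Finset.sum_congr rfl fun C hC => ?_
    obtain ⟨g, hg, rfl⟩ := (Finset.mem_filter.mp hC).2
    simp only [sz]
    congr 1
    ext y
    simp only [Finset.mem_filter, Finset.mem_univ, true_and]
    exact ⟨fun h => ⟨(hiff y g (ConjClasses.mk_eq_mk_iff_isConj.mp h)).mpr hg, h⟩, fun h => h.2⟩
  have hO_sum : (b ^ 2 + 1) * CO.card ≤ ∑ C ∈ CO, sz C := by
    rw [mul_comm, ← smul_eq_mul, ← Finset.sum_const]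
    refine Finset.sum_le_sum fun C hC => ?_
    obtain ⟨g, rfl⟩ := ConjClasses.mk_surjective C
    rw [hsz]
    exact hbig g fun hg => (Finset.mem_filter.mp hC).2 ⟨g, hg, rfl⟩
  have hk : CN.card + CO.card = Nat.card (ConjClasses G) := by
    rw [hCN, hCO, Finset.card_filter_add_card_filter_not, Nat.card_eq_fintype_card, Finset.card_univ]
  have hsq : Nat.card G ≤ b ^ 2 * (CN.card + CO.card) := by
    have h1 : Nat.card G = ∑ χ : IrrCharacter G, charDegree (χ : G → ℂ) ^ 2 := by
      have := sum_degree_sq (G := G)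
      simp only [irr_apply_one] at this
      exact_mod_cast this.symm
    rw [h1, hk, ← card_irrCharacter, Nat.card_eq_fintype_card, mul_comm, ← smul_eq_mul,
      ← Finset.card_univ, ← Finset.sum_const]
    exact Finset.sum_le_sum fun χ _ => Nat.pow_le_pow_left (hb χ) 2
  have hkN : CN.card ≤ Nat.card N := by
    rw [← hN_sum, Finset.card_eq_sum_ones]
    refine Finset.sum_le_sum fun C hC => ?_
    obtain ⟨g, rfl⟩ := ConjClasses.mk_surjective C
    rw [hsz]
    exact Nat.pos_of_ne_zero Subgroup.index_ne_zero_of_finite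
  have hcardG : Nat.card G = N.index * Nat.card N := (N.index_mul_card).symm
  have hNpos : 0 < Nat.card N := Nat.card_pos
  have hmain : Nat.card G + b ^ 2 * Nat.card N ≤ b ^ 2 * ((b ^ 2 + 1) * CN.card) := by
    have h2 : (CN.card + CO.card) + Nat.card N ≤ (b ^ 2 + 1) * CN.card := by nlinarith
    nlinarith
  refine ⟨?_, fun hnab => ?_⟩
  · refine Nat.le_of_mul_le_mul_right (?_ : N.index * Nat.card N ≤ b ^ 4 * Nat.card N) hNpos
    have := Nat.mul_le_mul_left (b ^ 2 * (b ^ 2 + 1)) hkN
    rw [hcardG] at hmain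
    nlinarith
  · -- at most five eighths of `N` are classes
    set Z := Subgroup.center G ⊓ N with hZ
    have hz : 4 * Nat.card Z ≤ Nat.card N := by
      push Not at hnab
      obtain ⟨x, hx, y, hy, hxy⟩ := hnab
      set Cx := Subgroup.centralizer ({x} : Set G) ⊓ N with hCx
      have h1 : Z < Cx := by
        refine lt_of_le_of_ne (inf_le_inf_right N (fun z hz => Subgroup.mem_centralizer_singleton_iff.mpr
          (Subgroup.mem_center_iff.mp hz x).symm)) fun he => hxy ?_
        have hxZ : x ∈ Z := he ▸ ⟨Subgroup.mem_centralizer_singleton_iff.mpr rfl, hx⟩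
        exact (Subgroup.mem_center_iff.mp hxZ.1 y).symm
      have h2 : Cx < N := by
        refine lt_of_le_of_ne inf_le_right fun he => hxy ?_
        have hyC : y ∈ Cx := he.symm ▸ hy
        exact (Subgroup.mem_centralizer_singleton_iff.mp hyC.1).symm
      have key : ∀ A B : Subgroup G, A < B → 2 * Nat.card A ≤ Nat.card B := by
        intro A B hAB
        obtain ⟨r, hr⟩ := Subgroup.card_dvd_of_le hAB.le
        have hr1 : r ≠ 1 := fun h => hAB.ne (Subgroup.eq_of_le_of_card_ge hAB.le (by rw [hr, h, mul_one]))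
        have hr0 : r ≠ 0 := fun h => Nat.card_pos.ne' (by rw [hr, h, mul_zero] : Nat.card B = 0)
        rw [hr, mul_comm 2]
        exact Nat.mul_le_mul_left _ (by omega)
      have := key _ _ h1
      have := key _ _ h2
      omega
    have hkN2 : 2 * CN.card ≤ Nat.card N + Nat.card Z := by
      have h1 : ∀ C ∈ CN, 2 ≤ sz C + (if sz C = 1 then 1 else 0) := by
        intro C _
        obtain ⟨g, rfl⟩ := ConjClasses.mk_surjective C
        have h0 : sz (ConjClasses.mk g) ≠ 0 := hsz g ▸ Subgroup.index_ne_zero_of_finite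
        split_ifs <;> omega
      have h2 := Finset.sum_le_sum h1
      rw [Finset.sum_const, smul_eq_mul, Finset.sum_add_distrib, hN_sum, Finset.sum_boole, Nat.cast_id] at h2
      have h3 : (CN.filter fun C => sz C = 1).card ≤ Nat.card Z := by
        rw [Nat.card_eq_fintype_card, Fintype.card_subtype]
        refine Finset.card_le_card_of_surjOn ConjClasses.mk ?_
        intro C hC
        simp only [Finset.coe_filter, Set.mem_setOf_eq] at hC
        obtain ⟨hCN', hC1⟩ := hC
        obtain ⟨g, hg, rfl⟩ := (Finset.mem_filter.mp hCN').2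
        rw [hsz, Subgroup.index_eq_one] at hC1
        refine ⟨g, ?_, rfl⟩
        simp only [Finset.coe_filter, Finset.mem_univ, true_and, Set.mem_setOf_eq]
        exact ⟨Subgroup.mem_center_iff.mpr fun y =>
          Subgroup.mem_centralizer_singleton_iff.mp (hC1.symm ▸ Subgroup.mem_top y), hg⟩
      omega
    refine Nat.le_of_mul_le_mul_right (?_ : 8 * N.index * Nat.card N ≤ 5 * b ^ 4 * Nat.card N) hNpos
    have := Nat.mul_le_mul_left (b ^ 2 * (b ^ 2 + 1)) (show 8 * CN.card ≤ 5 * Nat.card N by omega)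
    rw [hcardG] at hmain
    nlinarith

theorem factorial_bound {b : ℕ} (hb : 7 ≤ b) : 5 * b ^ 6 * (b / 2)! ^ 2 ≤ 8 * b ! ^ 2 := by
  have key : b ^ 3 * (b / 2)! ≤ b ! := by
    rcases eq_or_lt_of_le hb with rfl | hb8
    · decide
    obtain ⟨c, rfl⟩ : ∃ c, b = c + 4 := ⟨b - 4, by omega⟩
    have h1 : ((c + 4) / 2)! ≤ c ! := Nat.factorial_le (by omega)
    have h2 : (c + 4) ^ 3 ≤ (c + 4) * (c + 3) * (c + 2) * (c + 1) := by
      have hc : 4 ≤ c := by omega
      have : (c + 4) ^ 2 ≤ (c + 3) * (c + 2) * (c + 1) := by nlinarith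
      nlinarith
    calc (c + 4) ^ 3 * ((c + 4) / 2)! ≤ (c + 4) * (c + 3) * (c + 2) * (c + 1) * c ! :=
          Nat.mul_le_mul h2 h1
      _ = (c + 4)! := by simp only [Nat.factorial_succ]; ring
  calc 5 * b ^ 6 * (b / 2)! ^ 2 = 5 * (b ^ 3 * (b / 2)!) ^ 2 := by ring
    _ ≤ 8 * (b ^ 3 * (b / 2)!) ^ 2 := Nat.mul_le_mul_right _ (by norm_num)
    _ ≤ 8 * b ! ^ 2 := Nat.mul_le_mul_left _ (Nat.pow_le_pow_left key 2)

/-- The solvable small cases. -/
theorem small_solvable [Finite G] [Group.IsSolvable G] {b : ℕ} (hb2 : 2 ≤ b) (hb5 : b ≤ 5)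
    (ih : ∀ c < b, PBound.{u} c) (hdeg : DegLe G b)
    (hex : ∃ χ : IrrCharacter G, charDegree (χ : G → ℂ) = b) : Has G (b ! ^ 2) := by
  classical
  haveI := Fintype.ofFinite G
  have hlow : ∀ (H : Subgroup G), DegLe H (b - 1) → H.index * (b - 1)! ^ 2 ≤ b ! ^ 2 → Has G (b ! ^ 2) :=
    fun H h hle => Has.of_subgroup H (ih (b - 1) (by omega) H h) hle
  have hfac : (b - 1)! * b = b ! := by rw [mul_comm, Nat.mul_factorial_pred (by omega)]
  have hnab : ∀ {L : Type u} [Group L] [Finite L] (ψ : IrrCharacter L), charDegree (ψ : L → ℂ) = b →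
      ¬ ∀ a c : L, a * c = c * a := fun ψ hψ h => by
    have := charDegree_eq_one_of_comm h ψ
    omega
  obtain ⟨χ₀, hχ₀⟩ := hex
  have hleft : ∀ (L : Subgroup G) (H : Subgroup L), H.index ≤ b ^ 2 → DegLe H (b / 2) →
      L.index * (b ^ 2 * (b / 2)! ^ 2) ≤ b ! ^ 2 → Has G (b ! ^ 2) := fun L H h1 h2 h3 =>
    Has.of_subgroup L (Has.of_subgroup H (ih (b / 2) (by omega) H h2) (Nat.mul_le_mul_right _ h1)) h3
  rcases solvable_step (hnab χ₀ hχ₀) hdeg with ⟨H, hH, hHd⟩ | ⟨K, q, hq, hqf, hf1, hfb, -, hψK⟩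
  · refine Has.of_subgroup H (ih (b / 2) (by omega) H hHd) ?_
    refine (Nat.mul_le_mul_right _ hH).trans ?_
    interval_cases b <;> decide
  by_cases hK : DegLe K (b - 1)
  · refine hlow K hK ?_
    calc K.index * (b - 1)! ^ 2 ≤ b ^ 2 * (b - 1)! ^ 2 := Nat.mul_le_mul_right _ (by nlinarith)
      _ = b ! ^ 2 := by rw [← hfac]; ring
  obtain ⟨ψ₀, hψ₀⟩ := not_forall.mp hK
  have hKdeg := hdeg.subgroup K
  have hψ₀b : charDegree (ψ₀ : K → ℂ) = b := by
    have := hKdeg ψ₀
    omega
  have hqb : q ∣ b := by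
    rcases hψK ψ₀ with h | ⟨χ, hχ⟩
    · rwa [hψ₀b] at h
    · exfalso
      have := hdeg χ
      rw [hψ₀b] at hχ
      nlinarith
  -- the degrees of `K`
  have hcdK : ∀ ψ : IrrCharacter K, q ∣ charDegree (ψ : K → ℂ) ∨
      K.index * charDegree (ψ : K → ℂ) ≤ b := fun ψ => (hψK ψ).imp_right fun ⟨χ, hχ⟩ => hχ ▸ hdeg χ
  have hqle : q ≤ b := Nat.le_of_dvd (by omega) hqb
  rcases solvable_step (hnab ψ₀ hψ₀b) hKdeg with ⟨H, hH, hHd⟩ | ⟨K₁, q₁, hq₁, hqf₁, hf₁1, hf₁b, ⟨ψ₁, hψ₁⟩, hψK₁⟩
  · refine hleft K H hH hHd ?_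
    have := hq.two_le
    interval_cases b <;> interval_cases q <;> first
      | omega
      | (norm_num at hq; done)
      | (interval_cases (K.index) <;> first | decide | omega)
  haveI : Group.IsSolvable K := inferInstance
  by_cases hK₁ : DegLe K₁ (b - 1)
  · refine hlow (K₁.map K.subtype) (fun ψ => ?_) ?_
    · haveI := Fintype.ofFinite K₁
      let e := K₁.equivMapOfInjective K.subtype K.subtype_injective
      have h1 := hK₁ ⟨(ψ : K₁.map K.subtype → ℂ) ∘ e, IsIrrCharacter.comp_equiv ψ.2 e⟩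
      have h2 : charDegree (ψ : K₁.map K.subtype → ℂ) =
          charDegree ((ψ : K₁.map K.subtype → ℂ) ∘ e) := by
        simp [charDegree]
      rw [h2]
      exact h1
    · rw [Subgroup.index_map_subtype]
      calc K₁.index * K.index * (b - 1)! ^ 2 ≤ b ^ 2 * (b - 1)! ^ 2 :=
            Nat.mul_le_mul_right _ (by nlinarith)
        _ = b ! ^ 2 := by rw [← hfac]; ring
  obtain ⟨ξ₀, hξ₀⟩ := not_forall.mp hK₁
  have hK₁deg := hKdeg.subgroup K₁
  have hξ₀b : charDegree (ξ₀ : K₁ → ℂ) = b := by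
    have := hK₁deg ξ₀
    omega
  have hq₁b : q₁ ∣ b := by
    rcases hψK₁ ξ₀ with h | ⟨χ, hχ⟩
    · rwa [hξ₀b] at h
    · exfalso
      have := hKdeg χ
      rw [hξ₀b] at hχ
      nlinarith
  have hq₁le : q₁ ≤ b := Nat.le_of_dvd (by omega) hq₁b
  have hf₁cd := hψ₁ ▸ hcdK ψ₁
  -- only the degree five remains
  have hb5' : b = 5 ∧ K.index = 2 ∧ K₁.index = 2 ∧ q = 5 := by
    have := hq.two_le
    have := hq₁.two_le
    interval_cases b <;> interval_cases q <;> interval_cases q₁ <;>
      first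
      | omega
      | (norm_num at hq; done)
      | (norm_num at hq₁; done)
      | (interval_cases (K.index) <;> interval_cases (K₁.index) <;> omega)
  obtain ⟨rfl, hfK, hfK₁, rfl⟩ := hb5'
  have hcdK₁ : ∀ ξ : IrrCharacter K₁, charDegree (ξ : K₁ → ℂ) = 1 ∨ charDegree (ξ : K₁ → ℂ) = 5 := by
    intro ξ
    have h5 := hK₁deg ξ
    have hpos := charDegree_irr_pos ξ
    have hq₁5 : q₁ = 5 := by
      have := hq₁.two_le
      interval_cases q₁ <;> omega
    rcases hψK₁ ξ with h | ⟨χ, hχ⟩
    · rw [hq₁5] at h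
      omega
    · have h6 := hcdK χ
      have h7 := hKdeg χ
      rw [hfK, hχ, hfK₁] at *
      omega
  rcases solvable_step (hnab ξ₀ hξ₀b) hK₁deg with ⟨H, hH, hHd⟩ | ⟨K₂, q₂, hq₂, hqf₂, hf₂1, hf₂b, ⟨ξ₁, hξ₁⟩, hψK₂⟩
  · refine Has.of_subgroup K (Has.of_subgroup K₁ (Has.of_subgroup H (ih (5 / 2) (by omega) H hHd)
      (Nat.mul_le_mul_right _ hH)) (B' := 2 * (5 ^ 2 * (5 / 2)! ^ 2)) (by rw [hfK₁])) ?_
    rw [hfK]
    decide
  have hf₂5 : K₂.index = 5 := by
    rcases hcdK₁ ξ₁ with h | h <;> omega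
  refine Has.of_subgroup K (Has.of_subgroup K₁ (Has.of_subgroup K₂ (ih 4 (by omega) K₂ (fun ξ => ?_))
    le_rfl) le_rfl) ?_
  · have h5 := hK₁deg.subgroup K₂ ξ
    by_contra h
    have hd : charDegree (ξ : K₂ → ℂ) = 5 := by omega
    rcases hψK₂ ξ with h' | ⟨χ, hχ⟩
    · rw [hd, ← hf₂5] at h'
      exact hqf₂ h'
    · have := hK₁deg χ
      rw [hd, hf₂5] at hχ
      omega
  · rw [hfK, hfK₁, hf₂5]
    decide

theorem pbound : ∀ b : ℕ, PBound.{u} b := by
  intro b
  induction b using Nat.strong_induction_on with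
  | _ b ih =>
    intro G _ _ hdeg
    classical
    haveI := Fintype.ofFinite G
    by_cases hex : ∃ χ : IrrCharacter G, charDegree (χ : G → ℂ) = b
    swap
    · rcases Nat.eq_zero_or_pos b with rfl | hb0
      · exact absurd (hdeg (trivIrr G)) (by rw [charDegree_trivIrr]; omega)
      · obtain ⟨A, hA, hAi⟩ := ih (b - 1) (by omega) G fun χ => by
          have := hdeg χ
          have : charDegree (χ : G → ℂ) ≠ b := fun h => hex ⟨χ, h⟩
          omega
        exact ⟨A, hA, hAi.trans (Nat.pow_le_pow_left (Nat.factorial_le (by omega)) 2)⟩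
    rcases Nat.lt_or_ge b 2 with hb2 | hb2
    · have hcomm : ∀ a c : G, a * c = c * a := comm_iff_forall_irr_one.mpr fun χ => by
        have := hdeg χ
        have := charDegree_irr_pos χ
        rw [irr_apply_one χ, show charDegree (χ : G → ℂ) = 1 by omega, Nat.cast_one]
      exact ⟨⊤, fun x _ y _ => hcomm x y, by
        rw [Subgroup.index_top]; exact Nat.one_le_pow _ _ (Nat.factorial_pos b)⟩
    rcases Nat.lt_or_ge b 5 with hb5 | hb5
    · haveI : Group.IsSolvable G := isSolvable_of_degLe_four _ G rfl fun χ => (hdeg χ).trans (by omega)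
      exact small_solvable hb2 (by omega) ih hdeg hex
    by_cases hs5 : b = 5 ∧ Group.IsSolvable G
    · obtain ⟨rfl, hs⟩ := hs5
      haveI := hs
      exact small_solvable hb2 le_rfl ih hdeg hex
    rcases count_step hdeg with ⟨H, hH, hHd⟩ | ⟨hN4, hN8⟩
    · refine Has.of_subgroup H (ih (b - 1) (by omega) H hHd) ((Nat.mul_le_mul_right _ hH).trans ?_)
      rw [← mul_pow, Nat.mul_factorial_pred (by omega)]
    set N := Cfsg.fittingSubgroup G with hN
    haveI : N.Normal := Cfsg.Agent.Lib.Cores.fittingSubgroup_normal G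
    haveI := Fintype.ofFinite N
    by_cases hab : ∀ x ∈ N, ∀ y ∈ N, x * y = y * x
    · refine ⟨N, hab, hN4.trans ?_⟩
      rw [show b ^ 4 = (b ^ 2) ^ 2 by ring]
      refine Nat.pow_le_pow_left ?_ 2
      obtain ⟨c, rfl⟩ : ∃ c, b = c + 3 := ⟨b - 3, by omega⟩
      simp only [Nat.factorial_succ]
      have := Nat.factorial_pos c
      calc (c + 3) ^ 2 = (c + 2 + 1) * (c + 3) := by ring
        _ ≤ (c + 2 + 1) * ((c + 1 + 1) * ((c + 1) * c !)) := Nat.mul_le_mul_left _
            (le_trans (by nlinarith : c + 3 ≤ (c + 1 + 1) * (c + 1))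
              (Nat.mul_le_mul_left _ (Nat.le_mul_of_pos_right _ this)))
    have h8 := hN8 hab
    by_cases hhalf : DegLe N (b / 2)
    · refine Has.of_subgroup N (ih (b / 2) (by omega) N hhalf) ?_
      rcases Nat.lt_or_ge b 7 with hb7 | hb7
      · interval_cases b <;> norm_num [Nat.factorial] <;> omega
      · have := factorial_bound hb7
        have h9 : 8 * (N.index * (b / 2)! ^ 2) ≤ 5 * b ^ 4 * (b / 2)! ^ 2 := by
          rw [← mul_assoc]
          exact Nat.mul_le_mul_right _ h8
        have h10 : 5 * b ^ 4 * (b / 2)! ^ 2 ≤ 5 * b ^ 6 * (b / 2)! ^ 2 :=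
          Nat.mul_le_mul_right _ (Nat.mul_le_mul_left _ (Nat.pow_le_pow_right (by omega) (by omega)))
        omega
    rcases eq_or_lt_of_le hb5 with hb5' | hb6
    · exfalso
      apply hs5
      refine ⟨hb5'.symm, ?_⟩
      obtain ⟨ψ, hψ⟩ := not_forall.mp hhalf
      obtain ⟨χ, e, -, hd, hc⟩ := exists_over N ψ
      have he : e = 1 := by
        have := hdeg χ
        rcases Nat.lt_or_ge e 2 with he2 | he2
        · have := charDegree_irr_pos χ
          interval_cases e <;> omega
        · have := Nat.mul_le_mul_right (charDegree (ψ : N → ℂ)) he2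
          omega
      have hres : (fun x : N => (χ : G → ℂ) x) = (ψ : N → ℂ) :=
        restrict_irr_of_degree N (irr_isCharacter χ) ψ.2 hc
          (by rw [irr_apply_one χ, irr_apply_one ψ, hd, he, one_mul])
      haveI : Group.IsNilpotent N := Cfsg.Agent.Lib.Cores.fittingSubgroup_isNilpotent G
      have hQ : ∀ a c : G ⧸ N, a * c = c * a := comm_iff_forall_irr_one.mpr fun β => by
        by_contra hβ
        haveI := Fintype.ofFinite (G ⧸ N)
        have hprod := isIrr_mul_of_restrict N χ.2 (hres ▸ ψ.2)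
          (IsIrrCharacter.comp_surjective β.2 (QuotientGroup.mk' N) (QuotientGroup.mk'_surjective N))
          (fun x g => by
            show (β : G ⧸ N → ℂ) (QuotientGroup.mk' N ((x : G) * g)) = (β : G ⧸ N → ℂ) (QuotientGroup.mk' N g)
            rw [map_mul, show QuotientGroup.mk' N (x : G) = 1 from (QuotientGroup.eq_one_iff _).mpr x.2,
              one_mul])
        have h1 := hdeg ⟨_, hprod⟩
        have h2 : charDegree (((β : G ⧸ N → ℂ) ∘ QuotientGroup.mk' N) * (χ : G → ℂ)) =
            charDegree (β : G ⧸ N → ℂ) * charDegree (χ : G → ℂ) := by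
          refine charDegree_of_apply_one ?_
          rw [Pi.mul_apply, Function.comp_apply, map_one, irr_apply_one β, irr_apply_one χ, Nat.cast_mul]
        change charDegree (((β : G ⧸ N → ℂ) ∘ QuotientGroup.mk' N) * (χ : G → ℂ)) ≤ b at h1
        rw [h2, hd, he, one_mul] at h1
        have h3 : 2 ≤ charDegree (β : G ⧸ N → ℂ) := by
          have := charDegree_irr_pos β
          by_contra h4
          apply hβ
          rw [irr_apply_one β, show charDegree (β : G ⧸ N → ℂ) = 1 by omega, Nat.cast_one]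
        have := Nat.mul_le_mul_right (charDegree (ψ : N → ℂ)) h3
        omega
      haveI : Group.IsSolvable N := inferInstance
      haveI : Group.IsSolvable (G ⧸ N) := isSolvable_of_comm hQ
      exact (Group.isSolvable_iff_subgroup_quotient N).mpr ⟨inferInstance, inferInstance⟩
    haveI : Group.IsNilpotent N := Cfsg.Agent.Lib.Cores.fittingSubgroup_isNilpotent G
    obtain ⟨p, a, H, hp, ha, hpa, hHidx, hHd⟩ :=
      nilpotent_step (fun h => hab fun x hx y hy => congrArg Subtype.val (h ⟨x, hx⟩ ⟨y, hy⟩))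
        (hdeg.subgroup N)
    have hHdeg : DegLe H (b / p) := fun ψ => by
      rw [Nat.le_div_iff_mul_le hp.pos, mul_comm]
      exact hHd ψ
    refine Has.of_subgroup N (Has.of_subgroup H (ih (b / p) (Nat.div_lt_self (by omega) hp.one_lt) H hHdeg)
      le_rfl) ?_
    rw [hHidx]
    rcases Nat.lt_or_ge b 7 with hb7 | hb7
    · obtain rfl : b = 6 := by omega
      have hp6 : p ≤ 6 := le_trans (Nat.le_self_pow (by omega) p) hpa
      have hbound : (p ^ a) ^ 2 * (6 / p)! ^ 2 ≤ 576 := by
        have := hp.two_le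
        interval_cases p
        · have h4 : (2 : ℕ) ^ a ≤ 4 := by
            rcases Nat.lt_or_ge a 3 with h | h
            · interval_cases a <;> norm_num
            · have := Nat.pow_le_pow_right (show 0 < 2 by norm_num) h
              omega
          calc _ ≤ 4 ^ 2 * (6 / 2)! ^ 2 := Nat.mul_le_mul_right _ (Nat.pow_le_pow_left h4 2)
            _ = 576 := by decide
        all_goals
          calc _ ≤ 6 ^ 2 * _ := Nat.mul_le_mul_right _ (Nat.pow_le_pow_left hpa 2)
            _ ≤ 576 := by decide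
      calc _ ≤ N.index * 576 := Nat.mul_le_mul_left _ hbound
        _ ≤ 6 ! ^ 2 := by
          have : 6 ! = 720 := rfl
          rw [this]
          omega
    · have hdiv : (b / p)! ≤ (b / 2)! := Nat.factorial_le (Nat.div_le_div_left hp.two_le two_pos)
      have h11 : (p ^ a) ^ 2 * (b / p)! ^ 2 ≤ b ^ 2 * (b / 2)! ^ 2 :=
        Nat.mul_le_mul (Nat.pow_le_pow_left hpa 2) (Nat.pow_le_pow_left hdiv 2)
      have h12 : 8 * (N.index * ((p ^ a) ^ 2 * (b / p)! ^ 2)) ≤ 8 * b ! ^ 2 :=
        calc 8 * (N.index * ((p ^ a) ^ 2 * (b / p)! ^ 2))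
            ≤ (5 * b ^ 4) * (b ^ 2 * (b / 2)! ^ 2) := by
              rw [← mul_assoc]
              exact Nat.mul_le_mul h8 h11
          _ = 5 * b ^ 6 * (b / 2)! ^ 2 := by ring
          _ ≤ 8 * b ! ^ 2 := factorial_bound hb7
      omega

/-- Let b be the largest irreducible character degree of the finite group G. Then G has an abelian subgroup of index at most (b!)². -/
theorem result {G : Type*} [Group G] [Finite G] (b : ℕ) (hb : IsGreatest {d : ℕ | ∃ χ : Cfsg.IrrCharacter G, Cfsg.charDegree (χ : G → ℂ) = d} b) : ∃ A : Subgroup G, (∀ x ∈ A, ∀ y ∈ A, x * y = y * x) ∧ A.index ≤ (Nat.factorial b) ^ 2 :=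
  pbound b G fun χ => hb.2 ⟨χ, rfl⟩

end Cfsg.Agent.S4463
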