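import Mathlib
import Cfsg.Statements.S4465
import Cfsg.Agent.Lib.InvChar.JordanUnitary
import Cfsg.Agent.Lib.InvChar.JordanHall

set_option autoImplicit false
open Cfsg

namespace Cfsg.Agent.S4465

/-- Let the finite group G have a faithful character χ of degree n (G is a linear group of degree n), and let π be the set of primes greater than n + 1. Then G has an abelian Hall π-subgroup: an abelian subgroup A whose order is divisible only by primes greater than n + 1 and whose index is divisible by no prime greater than n + 1. -/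
theorem result {G : Type*} [Group G] [Finite G] (χ : G → ℂ) (hχ : Cfsg.IsCharacter G χ) (hfaith : ∀ g : G, χ g = χ 1 → g = 1) (n : ℕ) (hn : Cfsg.charDegree χ = n) : ∃ A : Subgroup G, (∀ x ∈ A, ∀ y ∈ A, x * y = y * x) ∧ (∀ q : ℕ, q.Prime → q ∣ Nat.card A → n + 1 < q) ∧ ∀ q : ℕ, q.Prime → q ∣ A.index → q ≤ n + 1 := by
  classical
  obtain ⟨ρ, hρ, -⟩ := Lib.InvChar.JordanArcs.exists_injective_rep hχ hfaith n hn
  have hχ1 : χ 1 = (n : ℂ) := by
    rw [← hρ, Representation.char_one, Module.finrank_fin_fun]
  obtain ⟨H, hH, hHp⟩ := Lib.InvChar.JordanHall.exists_abelian_big hχ hfaith hχ1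
  have hN : Nat.card G ≠ 0 := Nat.card_pos.ne'
  set s := (Nat.card G).primeFactors.filter (fun p => p ≤ n + 1) with hs
  set m := ∏ p ∈ s, p ^ (Nat.card G).factorization p with hm
  -- the elements of `H` that are `m`-th powers
  let A : Subgroup G :=
    { carrier := {z | ∃ x ∈ H, x ^ m = z}
      one_mem' := ⟨1, H.one_mem, one_pow m⟩
      mul_mem' := by
        rintro _ _ ⟨x, hx, rfl⟩ ⟨y, hy, rfl⟩
        exact ⟨x * y, H.mul_mem hx hy, Commute.mul_pow (hH x hx y hy) m⟩
      inv_mem' := by
        rintro _ ⟨x, hx, rfl⟩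
        exact ⟨x⁻¹, H.inv_mem hx, inv_pow x m⟩ }
  refine ⟨A, ?_, fun q hq hqA => ?_, fun q hq hqA => ?_⟩
  · rintro _ ⟨x, hx, rfl⟩ _ ⟨y, hy, rfl⟩
    exact Commute.pow_pow (hH x hx y hy) m m
  · haveI := Fact.mk hq
    obtain ⟨z, hz⟩ := exists_prime_orderOf_dvd_card' q hqA
    obtain ⟨x, -, hx⟩ := z.2
    by_contra hle
    have hzo : orderOf (z : G) = q := by rw [Subgroup.orderOf_coe, hz]
    have hqG : q ∣ Nat.card G := hzo ▸ orderOf_dvd_natCard (z : G)
    have hqs : q ∈ s := Finset.mem_filter.2 ⟨Nat.mem_primeFactors.2 ⟨hq, hqG, hN⟩, by omega⟩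
    have hqm : q ^ (Nat.card G).factorization q ∣ m := Finset.dvd_prod_of_mem (fun p => p ^ (Nat.card G).factorization p) hqs
    -- `z` is killed by the part of the order prime to `q`
    obtain ⟨c, hc⟩ := hqm
    have h1 : (z : G) ^ (Nat.card G / q ^ (Nat.card G).factorization q) = 1 := by
      have := Nat.ordProj_mul_ordCompl_eq_self (Nat.card G) q
      calc (z : G) ^ (Nat.card G / q ^ (Nat.card G).factorization q)
          = x ^ (q ^ (Nat.card G).factorization q *
              (Nat.card G / q ^ (Nat.card G).factorization q) * c) := by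
            rw [← hx, hc, ← pow_mul]; congr 1; ring
        _ = 1 := by rw [this, pow_mul, pow_card_eq_one', one_pow]
    have h2 : q ∣ Nat.card G / q ^ (Nat.card G).factorization q :=
      (dvd_of_eq hzo.symm).trans (orderOf_dvd_of_pow_eq_one h1)
    exact Nat.not_dvd_ordCompl hq hN h2
  · by_contra hle
    haveI := Fact.mk hq
    have hcop : m.Coprime (q ^ (Nat.card G).factorization q) := by
      refine Nat.Coprime.prod_left fun p hp => ?_
      obtain ⟨hp1, hp2⟩ := Finset.mem_filter.1 hp
      exact Nat.coprime_pow_primes _ _ (Nat.prime_of_mem_primeFactors hp1) hq (by omega)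
    obtain ⟨K, hK⟩ := Sylow.exists_subgroup_card_pow_prime (G := H) q (hHp q hq (by omega))
    have hKA : K.map H.subtype ≤ A := by
      rintro _ ⟨k, hk, rfl⟩
      have hc : (Nat.card K).Coprime m := by rw [hK]; exact hcop.symm
      obtain ⟨k', hk'⟩ := (powCoprime hc).surjective ⟨k, hk⟩
      refine ⟨((k' : H) : G), (k' : H).2, ?_⟩
      have := congrArg (fun t : K => ((t : H) : G)) hk'
      simpa [powCoprime] using this
    have hdvd := Subgroup.card_dvd_of_le hKA
    rw [Subgroup.card_subtype, hK, hq.pow_dvd_iff_le_factorization Nat.card_pos.ne'] at hdvd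
    have hle' := congrArg (fun k => Nat.factorization k q) A.index_mul_card
    simp only [Nat.factorization_mul Subgroup.index_ne_zero_of_finite Nat.card_pos.ne',
      Finsupp.add_apply] at hle'
    have := hq.factorization_pos_of_dvd Subgroup.index_ne_zero_of_finite hqA
    omega

end Cfsg.Agent.S4465
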