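import Cfsg.Statements.S4467
import Cfsg.Agent.Lib.Characters.Clifford
import Cfsg.Agent.Lib.Characters.Kernel
import Cfsg.Agent.Lib.Characters.AbelianTI
import Cfsg.Agent.Lib.Cores.Fitting
import Cfsg.Agent.Lib.BlockHeights.CharTools
import Mathlib.GroupTheory.Perm.Cycle.Type

set_option autoImplicit false
set_option linter.style.haveILetI false
open Cfsg

namespace Cfsg.Agent.S4467

open Cfsg.Agent.Lib.Characters Cfsg.Agent.Lib.BlockHeights
open scoped ComplexConjugate

universe u

/-- No prime power divisor greater than one is congruent to `0` or `±1` modulo `p`. -/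
def Clean (p n : ℕ) : Prop :=
  ∀ r d : ℕ, r.Prime → 0 < d → r ^ d ∣ n →
    (r : ZMod p) ^ d ≠ 1 ∧ (r : ZMod p) ^ d ≠ -1 ∧ (r : ZMod p) ^ d ≠ 0

theorem Clean.of_dvd {p n m : ℕ} (h : Clean p n) (hm : m ∣ n) : Clean p m :=
  fun r d hr hd hrd => h r d hr hd (hrd.trans hm)

/-- Fixed points of an automorphism of `p`-power order, counted modulo `p`. -/
theorem card_fix_modEq {V : Type u} [Group V] [Finite V] (p : ℕ) [Fact p.Prime] (σ : MulAut V)
    (a : ℕ) (hσ : σ ^ p ^ a = 1) :
    (Nat.card {v : V // σ v = v} : ZMod p) = (Nat.card V : ZMod p) := by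
  classical
  haveI := Fintype.ofFinite V
  have h : (MulAut.toPerm V σ) ^ p ^ a = 1 := by rw [← map_pow, hσ, map_one]
  have hc := Equiv.Perm.card_compl_support_modEq (p := p) h
  rw [ZMod.natCast_eq_natCast_iff, Nat.card_eq_fintype_card, Nat.card_eq_fintype_card]
  refine Nat.ModEq.trans ?_ hc
  rw [Fintype.card_subtype]
  refine (congrArg Finset.card ?_).trans rfl |>.symm ▸ Nat.ModEq.refl _
  ext v
  simp only [Finset.mem_compl, Equiv.Perm.mem_support, Finset.mem_filter, Finset.mem_univ, true_and, not_not]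
  exact Iff.rfl

/-- A prime power quotient congruent to one. -/
theorem exists_pow_eq_one {p r i F : ℕ} [Fact p.Prime] (hr : r.Prime) (hpr : (r : ZMod p) ≠ 0)
    (hF : F ∣ r ^ i) (hne : F ≠ r ^ i) (h : (F : ZMod p) = ((r ^ i : ℕ) : ZMod p)) :
    ∃ d, 0 < d ∧ d ≤ i ∧ (r : ZMod p) ^ d = 1 := by
  obtain ⟨j, hj, rfl⟩ := (Nat.dvd_prime_pow hr).mp hF
  have hlt : j < i := lt_of_le_of_ne hj fun e => hne (by rw [e])
  obtain ⟨d, rfl⟩ := Nat.exists_eq_add_of_lt hlt
  refine ⟨d + 1, by omega, by omega, ?_⟩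
  push_cast at h
  rw [add_assoc, pow_add] at h
  exact mul_left_cancel₀ (pow_ne_zero j hpr) (by rw [← h, mul_one])

theorem conj_iterate {H : Type*} [Group H] (a b : H) (k : ℕ) :
    ((fun x : H => a * x * a⁻¹)^[k]) b = a ^ k * b * (a ^ k)⁻¹ := by
  induction k with
  | zero => simp
  | succ k ih =>
    rw [Function.iterate_succ_apply', ih, pow_succ']
    group

/-- In a solvable group a subgroup of clean index contains all `p`-elements. -/
theorem mem_of_clean_index {G : Type u} [Group G] [Finite G] (p : ℕ) [hp : Fact p.Prime]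
    (hs : Group.IsSolvable G) (H : Subgroup G) (hH : Clean p H.index) {x : G} {a : ℕ}
    (hx : x ^ p ^ a = 1) : x ∈ H := by
  suffices key : ∀ (m : ℕ) (G : Type u) [Group G] [Finite G], Group.IsSolvable G →
      ∀ H : Subgroup G, H.index = m → Clean p H.index → ∀ (x : G) (a : ℕ), x ^ p ^ a = 1 → x ∈ H from
    key _ G hs H rfl hH x a hx
  clear hx hH H x hs
  intro m
  induction m using Nat.strong_induction_on with
  | _ m ih =>
    intro G _ _ hs H hHm hH x a hx
    haveI := hs
    -- reduce to the quotient by the core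
    set C := H.normalCore with hC
    set π := QuotientGroup.mk' C with hπ
    have hπs : Function.Surjective π := QuotientGroup.mk'_surjective C
    have hCH : π.ker ≤ H := by rw [hπ, QuotientGroup.ker_mk']; exact H.normalCore_le
    set H₁ := H.map π with hH₁
    have hidx₁ : H₁.index = H.index := by
      rw [hH₁, Subgroup.index_map, sup_eq_left.mpr hCH, MonoidHom.range_eq_top.mpr hπs,
        Subgroup.index_top, mul_one]
    have hcore : ∀ N : Subgroup (G ⧸ C), N.Normal → N ≤ H₁ → N = ⊥ := by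
      intro N hN hNH
      have h1 : N.comap π ≤ H := (Subgroup.comap_mono hNH).trans
        (by rw [hH₁, Subgroup.comap_map_eq, sup_eq_left.mpr hCH])
      have h2 : N.comap π ≤ C := Subgroup.normal_le_normalCore.mpr h1
      rw [eq_bot_iff]
      intro y hy
      obtain ⟨g, rfl⟩ := hπs y
      exact Subgroup.mem_bot.mpr ((QuotientGroup.eq_one_iff g).mpr (h2 hy))
    suffices hall : ∀ y : G ⧸ C, y ^ p ^ a = 1 → y ∈ H₁ by
      have h1 := hall (π x) (by rw [← map_pow, hx, map_one])
      obtain ⟨h, hh, he⟩ := h1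
      have h2 : x⁻¹ * h ∈ H := hCH (by rw [MonoidHom.mem_ker, map_mul, map_inv, he, inv_mul_cancel])
      have h3 := H.mul_mem hh (H.inv_mem h2)
      rwa [show h * (x⁻¹ * h)⁻¹ = x by group] at h3
    clear hx x
    intro y hy
    rcases subsingleton_or_nontrivial (G ⧸ C) with hss | hnt
    · rw [Subsingleton.elim y 1]; exact H₁.one_mem
    haveI hs₁ : Group.IsSolvable (G ⧸ C) := Group.isSolvable_of_surjective hπs
    obtain ⟨r, hr⟩ : ∃ r, r.Prime ∧ ∃ A : Subgroup (G ⧸ C), A.Normal ∧ A ≠ ⊥ ∧ IsPGroup r A ∧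
        ∀ b ∈ A, ∀ c ∈ A, b * c = c * b := by
      have hF := Cfsg.Agent.Lib.Cores.fittingSubgroup_ne_bot_of_isSolvable (G := G ⧸ C) hs₁
      rw [Cfsg.Agent.Lib.Cores.fittingSubgroup_eq_iSup] at hF
      by_contra hcon
      push Not at hcon
      refine hF (iSup_eq_bot.mpr fun r => ?_)
      haveI := Fact.mk r.2
      by_contra hne
      set P := Cfsg.pCore (r : ℕ) (G ⧸ C)
      have hP : IsPGroup r P := Cfsg.Agent.Lib.Cores.pCore_isPGroup _ _
      haveI : Nontrivial P := (Subgroup.nontrivial_iff_ne_bot P).mpr hne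
      haveI hPn : P.Normal := Cfsg.pCore_normal _ _
      have hZ : Subgroup.center P ≠ ⊥ := fun e => by
        have := hP.center_nontrivial
        rw [Subgroup.nontrivial_iff_ne_bot] at this
        exact this e
      obtain ⟨b, hb, c, hc, hbc⟩ := hcon r r.2 ((Subgroup.center P).map P.subtype) inferInstance
        (by rwa [Ne, Subgroup.map_eq_bot_iff_of_injective _ P.subtype_injective])
        ((hP.to_subgroup _).map _)
      obtain ⟨b', hb', rfl⟩ := hb
      obtain ⟨c', -, rfl⟩ := hc
      exact hbc (congrArg P.subtype (Subgroup.mem_center_iff.mp hb' c').symm)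
    obtain ⟨hrp, A, hAn, hA, hAp, hAab⟩ := hr
    haveI := hAn
    haveI := Fact.mk hrp
    have hAH : ¬ A ≤ H₁ := fun h => hA (hcore A hAn h)
    set M := A ⊔ H₁ with hM
    have hMdvd : M.index ∣ H₁.index := Subgroup.index_dvd_of_le le_sup_right
    have hMlt : M.index < m := by
      rw [← hHm, ← hidx₁]
      refine Nat.lt_of_le_of_ne (Nat.le_of_dvd (Nat.pos_of_ne_zero Subgroup.index_ne_zero_of_finite) hMdvd) ?_
      intro e
      have h1 := Subgroup.relIndex_mul_index (le_sup_right : H₁ ≤ M)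
      rw [e] at h1
      have h2 : H₁.relIndex M = 1 :=
        Nat.eq_of_mul_eq_mul_right (Nat.pos_of_ne_zero Subgroup.index_ne_zero_of_finite) (h1.trans (one_mul _).symm)
      exact hAH (le_sup_left.trans (Subgroup.relIndex_eq_one.mp h2))
    have hyM : y ∈ M := ih _ hMlt _ hs₁ M rfl ((hidx₁ ▸ hH).of_dvd hMdvd) y a hy
    -- the regular abelian section
    set B := A ⊓ H₁
    have hrel : H₁.relIndex M = B.relIndex A := by
      have e1 : A.relIndex M = B.relIndex H₁ := by
        rw [hM, Subgroup.relIndex_sup_left, Subgroup.inf_relIndex_right]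
      have e2 := Subgroup.relIndex_mul_relIndex B A M inf_le_left le_sup_left
      have e3 := Subgroup.relIndex_mul_relIndex B H₁ M inf_le_right le_sup_right
      rw [e1, ← e3, mul_comm] at e2
      exact (Nat.eq_of_mul_eq_mul_left (Nat.pos_of_ne_zero (Nat.ne_of_gt
        (Nat.pos_of_ne_zero (Subgroup.index_ne_zero_of_finite)))) e2).symm
    obtain ⟨i, hi⟩ : ∃ i, B.relIndex A = r ^ i := by
      obtain ⟨k, hk⟩ := IsPGroup.iff_card.mp hAp
      have hd : B.relIndex A ∣ r ^ k := hk ▸ Subgroup.index_dvd_card _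
      obtain ⟨i, -, hi⟩ := (Nat.dvd_prime_pow hrp).mp hd
      exact ⟨i, hi⟩
    have hri : r ^ i ∣ H₁.index := by
      rw [← hi, ← hrel, ← Subgroup.relIndex_mul_index (le_sup_right : H₁ ≤ M)]
      exact dvd_mul_right _ _
    have hi0 : 0 < i := by
      rcases Nat.eq_zero_or_pos i with rfl | h
      · exfalso
        rw [pow_zero, Subgroup.relIndex_eq_one] at hi
        exact hAH (hi.trans inf_le_right)
      · exact h
    have hclean : Clean p H₁.index := hidx₁ ▸ hH
    have hpr : (r : ZMod p) ≠ 0 := fun e =>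
      (hclean r i hrp hi0 hri).2.2 (by rw [e, zero_pow hi0.ne'])
    -- a fixed coset
    have hyp : IsPGroup p (Subgroup.zpowers (⟨y, hyM⟩ : M)) := by
      refine IsPGroup.iff_orderOf.mpr fun g => ?_
      have h1 : orderOf (⟨y, hyM⟩ : M) ∣ p ^ a := orderOf_dvd_of_pow_eq_one (Subtype.ext hy)
      have h2 : orderOf g ∣ p ^ a := (orderOf_dvd_natCard g).trans ((Nat.card_zpowers (⟨y, hyM⟩ : M)) ▸ h1)
      obtain ⟨k, -, hk⟩ := (Nat.dvd_prime_pow hp.out).mp h2
      exact ⟨k, hk⟩
    obtain ⟨q, hq⟩ := hyp.nonempty_fixed_point_of_prime_not_dvd_card (↥M ⧸ H₁.subgroupOf M) (by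
      rw [show Nat.card (↥M ⧸ H₁.subgroupOf M) = r ^ i from hrel.trans hi,
        ← ZMod.natCast_eq_zero_iff, Nat.cast_pow]
      exact (hclean r i hrp hi0 hri).2.2)
    obtain ⟨⟨b, hb⟩, rfl⟩ := QuotientGroup.mk_surjective q
    have hfix : b⁻¹ * y * b ∈ H₁ := by
      have h1 := MulAction.mem_fixedPoints.mp hq ⟨⟨y, hyM⟩, Subgroup.mem_zpowers _⟩
      have h2 := Subgroup.mem_subgroupOf.mp (QuotientGroup.eq.mp h1.symm)
      simpa [mul_assoc] using h2
    obtain ⟨a₀, ha₀, h₀, hh₀, hab⟩ : ∃ a₀ ∈ A, ∃ h₀ ∈ H₁, a₀ * h₀ = b :=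
      Set.mem_mul.mp (by rw [← Subgroup.normal_mul]; exact hb)
    set z := a₀⁻¹ * y * a₀ with hzdef
    have hzH : z ∈ H₁ := by
      have h1 := H₁.mul_mem (H₁.mul_mem hh₀ hfix) (H₁.inv_mem hh₀)
      rw [← hab] at h1
      rwa [show h₀ * ((a₀ * h₀)⁻¹ * y * (a₀ * h₀)) * h₀⁻¹ = z by rw [hzdef]; group] at h1
    have hzpow : z ^ p ^ a = 1 := by
      have := conj_pow (a := a₀⁻¹) (b := y) (i := p ^ a)
      rw [hy, inv_inv, mul_one, inv_mul_cancel] at this
      exact this
    -- the automorphism of `A / B`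
    haveI hBn : (B.subgroupOf A).Normal := ⟨fun n hn g => by
      rw [show g * n * g⁻¹ = n from Subtype.ext (by
        show (g : G ⧸ C) * n * (g : G ⧸ C)⁻¹ = n
        rw [hAab _ g.2 _ n.2, mul_inv_cancel_right])]
      exact hn⟩
    let α : MulAut A := MulAut.conjNormal z
    have hα : (B.subgroupOf A).map (α : A →* A) = B.subgroupOf A := by
      refine Subgroup.eq_of_le_of_card_ge ?_
        (Subgroup.card_map_of_injective (K := B.subgroupOf A) α.injective).ge
      rintro _ ⟨n, hn, rfl⟩
      refine Subgroup.mem_subgroupOf.mpr ⟨(α n).2, ?_⟩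
      show (α n : G ⧸ C) ∈ H₁
      rw [MulAut.conjNormal_apply]
      exact H₁.mul_mem (H₁.mul_mem hzH (Subgroup.mem_subgroupOf.mp hn).2) (H₁.inv_mem hzH)
    let σ : MulAut (A ⧸ B.subgroupOf A) := QuotientGroup.congr _ _ α hα
    have hσ : ∀ (k : ℕ) (c : A), (σ ^ k) (QuotientGroup.mk c) =
        QuotientGroup.mk ((MulAut.conjNormal (z ^ k) : MulAut A) c) := by
      intro k
      induction k with
      | zero => intro c; simp
      | succ k ih =>
        intro c
        rw [pow_succ, MulAut.mul_apply,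
          show σ (QuotientGroup.mk c) = QuotientGroup.mk (α c) from rfl, ih, pow_succ z, map_mul,
          MulAut.mul_apply]
    have hσpow : σ ^ p ^ a = 1 := by
      ext v
      obtain ⟨c, rfl⟩ := QuotientGroup.mk_surjective v
      rw [hσ, hzpow, map_one, MulAut.one_apply, MulAut.one_apply]
    have hcong := card_fix_modEq p σ a hσpow
    let F : Subgroup (A ⧸ B.subgroupOf A) := MonoidHom.eqLocus (σ : _ →* _) (MonoidHom.id _)
    have hV : Nat.card (A ⧸ B.subgroupOf A) = r ^ i := hi
    by_cases hall : F = ⊤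
    · have h1 : σ (QuotientGroup.mk (⟨a₀, ha₀⟩⁻¹ : A)) = QuotientGroup.mk (⟨a₀, ha₀⟩⁻¹ : A) := by
        have : QuotientGroup.mk (⟨a₀, ha₀⟩⁻¹ : A) ∈ F := hall ▸ Subgroup.mem_top _
        exact this
      have h2 := (Subgroup.mem_subgroupOf.mp (QuotientGroup.eq.mp h1.symm)).2
      change ((⟨a₀, ha₀⟩⁻¹⁻¹ : A) : G ⧸ C) * ((α (⟨a₀, ha₀⟩⁻¹ : A) : A) : G ⧸ C) ∈ H₁ at h2
      rw [inv_inv, show (α (⟨a₀, ha₀⟩⁻¹ : A) : G ⧸ C) = z * a₀⁻¹ * z⁻¹ from
        MulAut.conjNormal_apply _ _] at h2
      have h3 := H₁.mul_mem h2 hzH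
      rwa [show a₀ * (z * a₀⁻¹ * z⁻¹) * z = y by rw [hzdef]; group] at h3
    · exfalso
      have hF : Nat.card F ∣ r ^ i := hV ▸ Subgroup.card_subgroup_dvd_card F
      have hne : Nat.card F ≠ r ^ i := fun e =>
        hall (Subgroup.eq_top_of_card_eq F (e.trans hV.symm))
      obtain ⟨d, hd0, hdi, hd⟩ := exists_pow_eq_one hrp hpr hF hne (by
        rw [show Nat.card F = Nat.card {v // σ v = v} from rfl, hcong, hV])
      exact (hclean r d hrp hd0 ((pow_dvd_pow r hdi).trans hri)).1 hd

/-- A character faithful on the centre of a group of class two vanishes outside the centre. -/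
theorem card_of_class_two {A : Type u} [Group A] [Fintype A] {ψ : A → ℂ} (hψ : IsIrrCharacter A ψ)
    (hA : ∀ g h : A, g⁻¹ * h⁻¹ * g * h ∈ Subgroup.center A)
    (hinj : ∀ z ∈ Subgroup.center A, ψ z = ψ 1 → z = 1) :
    Nat.card A = Nat.card (Subgroup.center A) * charDegree ψ ^ 2 := by
  classical
  have hd : ψ 1 = (charDegree ψ : ℂ) := apply_one_eq_charDegree (IsIrrCharacter.isCharacter hψ)
  have hz : ∀ g : A, g ∉ Subgroup.center A → ψ g = 0 := by
    intro g hg
    rw [Subgroup.mem_center_iff] at hg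
    push Not at hg
    obtain ⟨h, hh⟩ := hg
    set z := g⁻¹ * h⁻¹ * g * h with hzdef
    obtain ⟨ω, -, hω⟩ := IsIrrCharacter.exists_central_value hψ (hA g h)
    have e1 : ψ (g * z) = ψ g := by
      rw [show g * z = h⁻¹ * g * h⁻¹⁻¹ by rw [hzdef]; group]
      exact IsCharacter.conj_apply (IsIrrCharacter.isCharacter hψ) g h⁻¹
    have e2 : (ω - 1) * ψ g = 0 := by
      rw [sub_mul, ← hω g, e1, one_mul, sub_self]
    refine (mul_eq_zero.mp e2).resolve_left fun e => hh ?_
    have hz1 : z = 1 := hinj z (hA g h) (by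
      have := hω 1
      rwa [one_mul, sub_eq_zero.mp e, one_mul] at this)
    calc h * g = h * g * z := by rw [hz1, mul_one]
      _ = g * h := by rw [hzdef]; group
  have hnorm : ∀ z ∈ Subgroup.center A, ψ z * conj (ψ z) = (charDegree ψ : ℂ) ^ 2 := by
    intro z hzc
    obtain ⟨ω, hω1, hω⟩ := IsIrrCharacter.exists_central_value hψ hzc
    have h1 := hω 1
    rw [one_mul] at h1
    rw [h1, Complex.mul_conj, Complex.normSq_mul, hω1, one_mul, hd, Complex.normSq_natCast]
    push_cast
    ring
  have h1 := IsIrrCharacter.classInner_self hψ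
  rw [classInner, inv_mul_eq_one₀ natCard_ne_zero_complex] at h1
  rw [← Finset.sum_filter_add_sum_filter_not Finset.univ (fun g => g ∈ Subgroup.center A),
    Finset.sum_congr rfl (fun g hg => hnorm g (Finset.mem_filter.mp hg).2),
    Finset.sum_eq_zero (s := Finset.univ.filter fun g => g ∉ Subgroup.center A)
      (fun g hg => by rw [hz g (Finset.mem_filter.mp hg).2, zero_mul]),
    add_zero, Finset.sum_const, nsmul_eq_mul, ← Fintype.card_subtype, ← Nat.card_eq_fintype_card] at h1
  exact_mod_cast h1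

/-- An automorphism of `p`-power order fixing a faithful character of clean degree moves every
element inside its central coset. -/
theorem moves_centrally {A : Type u} [Group A] [Fintype A] (p a : ℕ) [hp : Fact p.Prime] {r : ℕ}
    (hr : r.Prime) {φ : A → ℂ} (hφ : IsIrrCharacter A φ) (hA : ∀ g h : A, g⁻¹ * h⁻¹ * g * h ∈ Subgroup.center A)
    (hinj : ∀ z ∈ Subgroup.center A, φ z = φ 1 → z = 1) (hAr : IsPGroup r A) (hrp : r ≠ p)
    (hclean : Clean p (charDegree φ)) (α : MulAut A) (hαp : α ^ p ^ a = 1) (hαφ : ∀ g, φ (α g) = φ g) :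
    ∀ g : A, g⁻¹ * α g ∈ Subgroup.center A := by
  classical
  haveI := Fact.mk hr
  set Z := Subgroup.center A with hZ
  have hαZ : ∀ z ∈ Z, α z = z := by
    intro z hz
    have hz' : α z ∈ Z := Subgroup.mem_center_iff.mpr fun g => by
      obtain ⟨g', rfl⟩ := α.surjective g
      rw [← map_mul, ← map_mul, Subgroup.mem_center_iff.mp hz g']
    obtain ⟨ω, -, hω⟩ := IsIrrCharacter.exists_central_value hφ hz'
    obtain ⟨ω', -, hω'⟩ := IsIrrCharacter.exists_central_value hφ hz
    have h1 : ω * φ 1 = ω' * φ 1 := by rw [← hω 1, ← hω' 1, one_mul, one_mul, hαφ]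
    have h2 := mul_right_cancel₀ (IsIrrCharacter.apply_one_ne_zero hφ) h1
    have h3 : α z * z⁻¹ = 1 := by
      refine hinj _ (Z.mul_mem hz' (Z.inv_mem hz)) ?_
      have e1 := hω z⁻¹
      have e2 := hω' z⁻¹
      rw [inv_mul_cancel] at e2
      rw [show α z * z⁻¹ = z⁻¹ * α z from (Subgroup.mem_center_iff.mp hz' _).symm, e1, h2, ← e2]
    exact mul_inv_eq_one.mp h3
  -- the quotient by the centre
  have hαmap : Z.map (α : A →* A) = Z := by
    refine Subgroup.eq_of_le_of_card_ge ?_ (Subgroup.card_map_of_injective (K := Z) α.injective).ge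
    rintro _ ⟨z, hz, rfl⟩
    show α z ∈ Z
    rw [hαZ z hz]; exact hz
  let σ : MulAut (A ⧸ Z) := QuotientGroup.congr _ _ α hαmap
  have hσ : ∀ (k : ℕ) (g : A), (σ ^ k) (QuotientGroup.mk g) = QuotientGroup.mk ((α ^ k) g) := by
    intro k
    induction k with
    | zero => intro g; simp
    | succ k ih =>
      intro g
      rw [pow_succ, MulAut.mul_apply, show σ (QuotientGroup.mk g) = QuotientGroup.mk (α g) from rfl,
        ih, pow_succ α, MulAut.mul_apply]
  have hσp : σ ^ p ^ a = 1 := by
    ext v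
    obtain ⟨g, rfl⟩ := QuotientGroup.mk_surjective v
    rw [hσ, hαp, MulAut.one_apply, MulAut.one_apply]
  have hcong := card_fix_modEq p σ a hσp
  let F : Subgroup (A ⧸ Z) := MonoidHom.eqLocus (σ : _ →* _) (MonoidHom.id _)
  have hF : ∀ g : A, QuotientGroup.mk g ∈ F ↔ g⁻¹ * α g ∈ Z := fun g => by
    show QuotientGroup.mk (α g) = QuotientGroup.mk g ↔ _
    rw [eq_comm, QuotientGroup.eq]
  let D : Subgroup A := F.comap (QuotientGroup.mk' Z)
  have hZD : Z ≤ D := fun z hz => (hF z).mpr (by rw [hαZ z hz, inv_mul_cancel]; exact one_mem _)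
  -- the centre of `D` is that of `A`
  have hcD : ∀ c ∈ D, (∀ e ∈ D, c * e = e * c) → c ∈ Z := by
    intro c hc hce
    obtain ⟨z, hz, hαc⟩ : ∃ z ∈ Z, α c = c * z := ⟨_, (hF c).mp hc, by group⟩
    let lam : A → A := fun g => c⁻¹ * g⁻¹ * c * g
    have hlamZ : ∀ g, lam g ∈ Z := fun g => hA c g
    have hlam : ∀ g h, lam (g * h) = lam g * lam h := by
      intro g h
      calc lam (g * h) = (c⁻¹ * h⁻¹ * c) * lam g * h := by simp only [lam]; group
        _ = lam g * (c⁻¹ * h⁻¹ * c) * h := by rw [Subgroup.mem_center_iff.mp (hlamZ g) (c⁻¹ * h⁻¹ * c)]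
        _ = lam g * lam h := by simp only [lam]; group
    let lamH : A →* A := MonoidHom.mk' lam hlam
    have hlamα : ∀ g, lamH (α g) = lamH g := by
      intro g
      show lam (α g) = lam g
      have e1 : α (lam g) = lam g := hαZ (lam g) (hlamZ g)
      conv_rhs => rw [← e1]
      simp only [lam, map_mul, map_inv, hαc]
      have hzc : ∀ t : A, t * z = z * t := Subgroup.mem_center_iff.mp hz
      calc c⁻¹ * (α g)⁻¹ * c * α g
          = c⁻¹ * ((α g)⁻¹ * z) * (z⁻¹ * c) * α g := by group
        _ = c⁻¹ * (z * (α g)⁻¹) * (z⁻¹ * c) * α g := by rw [hzc]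
        _ = c⁻¹ * z * (α g)⁻¹ * (z⁻¹ * c) * α g := by group
        _ = (c * z)⁻¹ * (α g)⁻¹ * (c * z) * α g := by
          have e2 : z⁻¹ * c = c * z⁻¹ := by
            rw [eq_mul_inv_iff_mul_eq, mul_assoc, hzc c]; group
          have e3 : c⁻¹ * z = z * c⁻¹ := hzc c⁻¹
          have e4 : z * c⁻¹ = (c * z⁻¹)⁻¹ := by group
          have key : ∀ t : A, t⁻¹ * z * t = z := fun t => by rw [mul_assoc, ← hzc t]; group
          calc c⁻¹ * z * (α g)⁻¹ * (z⁻¹ * c) * α g
              = c⁻¹ * ((α g)⁻¹ * z) * (z⁻¹ * c) * α g := by rw [mul_assoc c⁻¹ z, ← hzc]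
            _ = c⁻¹ * (α g)⁻¹ * c * α g := by group
            _ = (z⁻¹ * z) * (c⁻¹ * (α g)⁻¹ * c * α g) := by group
            _ = z⁻¹ * (z * (c⁻¹ * (α g)⁻¹ * c)) * α g := by group
            _ = z⁻¹ * ((c⁻¹ * (α g)⁻¹ * c) * z) * α g := by rw [hzc]
            _ = _ := by group
    rw [Subgroup.mem_center_iff]
    intro g
    let N : ℕ → A := fun k => k.rec 1 fun _ x => g * α x
    have hN1 : ∀ k, N (k + 1) = g * α (N k) := fun k => rfl
    have hN2 : ∀ k, N (k + 1) = N k * (α ^ k) g := by
      intro k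
      induction k with
      | zero => simp [N]
      | succ k ih =>
        rw [hN1 (k + 1)]
        conv_lhs => rw [ih, map_mul, ← mul_assoc, ← hN1 k]
        rw [pow_succ', MulAut.mul_apply]
    have hND : N (p ^ a) ∈ D := by
      refine (hF _).mpr ?_
      have h1 := hN2 (p ^ a)
      rw [hαp, MulAut.one_apply, hN1] at h1
      rw [show α (N (p ^ a)) = g⁻¹ * (N (p ^ a) * g) by rw [← h1]; group, ← mul_assoc, ← mul_assoc]
      exact hA (N (p ^ a)) g
    have hlamN : ∀ k, lamH (N k) = lamH g ^ k := by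
      intro k
      induction k with
      | zero => simp [N]
      | succ k ih => rw [hN1, map_mul, hlamα, ih, pow_succ']
    have h1 : lamH g ^ p ^ a = 1 := by
      rw [← hlamN]
      show c⁻¹ * (N (p ^ a))⁻¹ * c * N (p ^ a) = 1
      rw [mul_assoc _ c, hce _ hND]
      group
    have h2 : lamH g = 1 := by
      obtain ⟨k, hk⟩ := IsPGroup.iff_orderOf.mp hAr (lamH g)
      have h3 : orderOf (lamH g) = 1 := Nat.eq_one_of_dvd_coprimes
        (Nat.Coprime.pow k a ((Nat.coprime_primes hr hp.out).mpr hrp))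
        (dvd_of_eq hk) (orderOf_dvd_of_pow_eq_one h1)
      rwa [orderOf_eq_one_iff] at h3
    calc g * c = g * c * lamH g := by rw [h2, mul_one]
      _ = g * c * (c⁻¹ * g⁻¹ * c * g) := rfl
      _ = c * g := by group
  -- degrees
  haveI := Fintype.ofFinite D
  obtain ⟨ψ, hψ, hψ0⟩ : ∃ ψ : D → ℂ, IsIrrCharacter D ψ ∧ classInner (fun d : D => φ d) ψ ≠ 0 := by
    by_contra hcon
    push Not at hcon
    haveI := Fintype.ofFinite (IrrCharacter D)
    have hres : IsCharacter D (fun d : D => φ d) := IsCharacter.restrict (IsIrrCharacter.isCharacter hφ) D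
    have h0 := congrFun (eq_sum_classInner (IsCharacter.isClassFunction hres)) 1
    rw [Finset.sum_apply, Finset.sum_eq_zero fun χ _ => by
      simp [hcon (χ : D → ℂ) χ.2]] at h0
    exact IsIrrCharacter.apply_one_ne_zero hφ h0
  have hcenD : ∀ d : D, d ∈ Subgroup.center D ↔ (d : A) ∈ Z := by
    intro d
    constructor
    · exact fun h => hcD d d.2 fun e he =>
        (congrArg Subtype.val (Subgroup.mem_center_iff.mp h ⟨e, he⟩)).symm
    · exact fun h => Subgroup.mem_center_iff.mpr fun e => Subtype.ext (Subgroup.mem_center_iff.mp h (e : A))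
  have hAD : ∀ g h : D, g⁻¹ * h⁻¹ * g * h ∈ Subgroup.center D := fun g h =>
    (hcenD _).mpr (by push_cast; exact hA g h)
  have hinjD : ∀ z ∈ Subgroup.center D, ψ z = ψ 1 → z = 1 := by
    intro z hz hψz
    obtain ⟨ω, -, hω⟩ := IsIrrCharacter.exists_central_value hφ ((hcenD z).mp hz)
    obtain ⟨c, -, hc⟩ := IsIrrCharacter.exists_central_value hψ hz
    have hc' : c = 1 := by
      have h := hc 1
      rw [one_mul, hψz] at h
      exact mul_right_cancel₀ (IsIrrCharacter.apply_one_ne_zero hψ) (by rw [one_mul]; exact h.symm)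
    have hI : classInner (fun d : D => φ d) ψ = ω * classInner (fun d : D => φ d) ψ := by
      have hs : ∑ d : D, φ d * conj (ψ d) = ω * ∑ d : D, φ d * conj (ψ d) := by
        conv_lhs => rw [← Equiv.sum_comp (Equiv.mulRight z) (fun d : D => φ d * conj (ψ d))]
        rw [Finset.mul_sum]
        refine Finset.sum_congr rfl fun d _ => ?_
        show φ ((d * z : D) : A) * conj (ψ (d * z)) = _
        rw [hc, hc', one_mul, Subgroup.coe_mul, hω]
        ring
      unfold classInner
      rw [mul_left_comm ω, ← hs]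
    have hω' : ω = 1 := by
      have : (ω - 1) * classInner (fun d : D => φ d) ψ = 0 := by rw [sub_mul, ← hI, one_mul, sub_self]
      exact sub_eq_zero.mp ((mul_eq_zero.mp this).resolve_right hψ0)
    refine Subtype.ext (hinj _ ((hcenD z).mp hz) ?_)
    have := hω 1
    rwa [one_mul, hω', one_mul] at this
  have hsA := card_of_class_two hφ hA hinj
  have hsD := card_of_class_two hψ hAD hinjD
  have hcardZ : Nat.card (Subgroup.center D) = Nat.card Z := by
    rw [show Subgroup.center D = Z.subgroupOf D from Subgroup.ext hcenD]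
    exact Nat.card_congr (Subgroup.subgroupOfEquivOfLe hZD).toEquiv
  have hV : Nat.card (A ⧸ Z) = charDegree φ ^ 2 := by
    have h := Subgroup.card_eq_card_quotient_mul_card_subgroup Z
    rw [hsA, mul_comm] at h
    exact (Nat.eq_of_mul_eq_mul_right Nat.card_pos h).symm
  have hFc : Nat.card F = charDegree ψ ^ 2 := by
    have h1 : Nat.card D * Nat.card (A ⧸ Z) = Nat.card F * Nat.card A := by
      have hi : D.index = F.index := F.index_comap_of_surjective (QuotientGroup.mk'_surjective Z)
      have e1 := D.card_mul_index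
      have e2 := F.card_mul_index
      rw [hi] at e1
      calc Nat.card D * Nat.card (A ⧸ Z) = Nat.card D * (Nat.card F * F.index) := by rw [e2]
        _ = Nat.card F * (Nat.card D * F.index) := by ring
        _ = _ := by rw [e1]
    rw [hsD, hcardZ, hV, hsA] at h1
    have hpos : 0 < charDegree φ ^ 2 * Nat.card Z :=
      mul_pos (pow_pos (charDegree_irr_pos ⟨φ, hφ⟩) 2) Nat.card_pos
    refine (Nat.eq_of_mul_eq_mul_right hpos ?_).symm
    linarith [h1]
  obtain ⟨N, hN⟩ := IsPGroup.iff_card.mp hAr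
  obtain ⟨j, -, hj⟩ := (Nat.dvd_prime_pow hr).mp
    (hN ▸ charDegree_dvd_card (⟨φ, hφ⟩ : IrrCharacter A))
  obtain ⟨l, -, hl⟩ := (Nat.dvd_prime_pow hr).mp
    ((charDegree_dvd_card (⟨ψ, hψ⟩ : IrrCharacter D)).trans
      ((Subgroup.card_subgroup_dvd_card D).trans (dvd_of_eq hN)))
  have hle : l ≤ j := by
    have h := Subgroup.card_le_card_group F
    rw [hFc, hV, Nat.pow_le_pow_iff_left two_ne_zero, show charDegree ψ = r ^ l from hl,
      show charDegree φ = r ^ j from hj] at h
    exact (Nat.pow_le_pow_iff_right hr.one_lt).mp h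
  intro g
  rcases Nat.eq_or_lt_of_le hle with hlj | hlj
  · have hFtop : F = ⊤ := Subgroup.eq_top_of_card_eq F (by
      rw [hFc, hV, show charDegree ψ = r ^ l from hl, show charDegree φ = r ^ j from hj, hlj])
    exact (hF g).mp (hFtop ▸ Subgroup.mem_top _)
  · exfalso
    have h : ((r : ZMod p) ^ l) ^ 2 * 1 = ((r : ZMod p) ^ l) ^ 2 * ((r : ZMod p) ^ (j - l)) ^ 2 := by
      rw [mul_one, ← mul_pow, ← pow_add, show l + (j - l) = j by omega]
      have e : (Nat.card F : ZMod p) = (Nat.card (A ⧸ Z) : ZMod p) := hcong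
      rw [hFc, hV, show charDegree ψ = r ^ l from hl, show charDegree φ = r ^ j from hj] at e
      push_cast at e
      exact e
    have hr0 : (r : ZMod p) ≠ 0 := fun e => hrp <| by
      rw [ZMod.natCast_eq_zero_iff] at e
      exact ((Nat.prime_dvd_prime_iff_eq hp.out hr).mp e).symm
    have h2 := mul_left_cancel₀ (pow_ne_zero _ (pow_ne_zero _ hr0)) h
    have hdvd : r ^ (j - l) ∣ charDegree φ := by
      rw [show charDegree φ = r ^ j from hj]; exact pow_dvd_pow r (Nat.sub_le _ _)
    have hc := hclean r (j - l) hr (by omega) hdvd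
    rcases sq_eq_one_iff.mp h2.symm with h3 | h3
    · exact hc.1 h3
    · exact hc.2.1 h3

/-- Let the finite solvable group G have a faithful irreducible character of degree n, and suppose that for the prime p a Sylow p-subgroup of G is not normal. Then n is divisible by a prime power q > 1 with q congruent to −1, 0 or 1 modulo p. -/
theorem result {G : Type*} [Group G] [Finite G] (χ : Cfsg.IrrCharacter G) (hfaith : ∀ g : G, (χ : G → ℂ) g = (χ : G → ℂ) 1 → g = 1) (n : ℕ) (hn : Cfsg.charDegree (χ : G → ℂ) = n) (hsolv : Group.IsSolvable G) (p : ℕ) (hp : p.Prime) (P : Sylow p G) (hP : ¬ (P : Subgroup G).Normal) : ∃ q : ℕ, IsPrimePow q ∧ q ∣ n ∧ ((q : ℤ) ≡ -1 [ZMOD p] ∨ (q : ℤ) ≡ 0 [ZMOD p] ∨ (q : ℤ) ≡ 1 [ZMOD p]) := by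
  classical
  haveI := Fact.mk hp
  haveI := Fintype.ofFinite G
  by_contra hno
  have hclean : Clean p n := by
    intro r d hr hd hdvd
    have hq : IsPrimePow (r ^ d) := (isPrimePow_nat_iff _).mpr ⟨r, d, hr, hd, rfl⟩
    refine ⟨fun e => hno ⟨r ^ d, hq, hdvd, Or.inr (Or.inr ?_)⟩,
      fun e => hno ⟨r ^ d, hq, hdvd, Or.inl ?_⟩, fun e => hno ⟨r ^ d, hq, hdvd, Or.inr (Or.inl ?_)⟩⟩ <;>
    · rw [← ZMod.intCast_eq_intCast_iff]
      push_cast
      exact e
  -- invariance and kernels
  have hcons : ∀ (R : Subgroup G) [R.Normal] [Fintype R], ∃ θ : R → ℂ, IsIrrCharacter R θ ∧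
      charDegree θ ∣ n ∧ (∀ x : G, (∃ a : ℕ, x ^ p ^ a = 1) → conjFun R x θ = θ) ∧
      ∀ S : Subgroup G, S.Normal → S ≤ R → (∀ c : R, (c : G) ∈ S → θ c = θ 1) → S = ⊥ := by
    intro R _ _
    obtain ⟨θ, hθ, hθc⟩ : ∃ θ : R → ℂ, IsIrrCharacter R θ ∧ classInner (fun c : R => (χ : G → ℂ) c) θ ≠ 0 := by
      by_contra hcon
      push Not at hcon
      haveI := Fintype.ofFinite (IrrCharacter R)
      have hres : IsCharacter R (fun c : R => (χ : G → ℂ) c) := IsCharacter.restrict (irr_isCharacter χ) R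
      have h0 := congrFun (eq_sum_classInner (IsCharacter.isClassFunction hres)) 1
      rw [Finset.sum_apply, Finset.sum_eq_zero fun η _ => by simp [hcon (η : R → ℂ) η.2]] at h0
      exact irr_apply_one_ne χ h0
    obtain ⟨e, he⟩ := IsCharacter.exists_classInner_nat
      (IsCharacter.restrict (irr_isCharacter χ) R) (IsIrrCharacter.isCharacter hθ)
    have hdeg := degree_eq R χ.2 hθ hθc
    rw [he, irr_apply_one, hn, apply_one_eq_charDegree (IsIrrCharacter.isCharacter hθ)] at hdeg
    have hdeg' : n = e * (inertia R θ).index * charDegree θ := by exact_mod_cast hdeg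
    refine ⟨θ, hθ, Dvd.intro_left _ hdeg'.symm, fun x ⟨a, hx⟩ => ?_, fun S hS hSR hSθ => ?_⟩
    · exact mem_of_clean_index p hsolv (inertia R θ)
        (hclean.of_dvd ⟨e * charDegree θ, by rw [hdeg']; ring⟩) hx
    · rw [eq_bot_iff]
      intro s hs
      refine Subgroup.mem_bot.mpr (hfaith s ?_)
      have h := restrict_eq_smul_sum R χ.2 hθ hθc
      have h1 := congrFun h ⟨s, hSR hs⟩
      have h2 := congrFun h 1
      simp only [Pi.smul_apply, Finset.sum_apply, smul_eq_mul, OneMemClass.coe_one] at h1 h2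
      rw [h1, h2]
      congr 1
      refine Finset.sum_congr rfl fun φ hφ => ?_
      obtain ⟨g, rfl⟩ := (Set.Finite.mem_toFinset _).mp hφ
      show conjFun R g θ ⟨s, hSR hs⟩ = conjFun R g θ 1
      rw [conjFun_apply_one]
      obtain ⟨t, ht⟩ : ∃ t : R, conjFun R g θ ⟨s, hSR hs⟩ = θ t ∧ (t : G) ∈ S :=
        ⟨_, rfl, hS.conj_mem s hs _⟩
      rw [ht.1]
      exact hSθ t ht.2
  have hcl : ∀ (c : G) (T : Subgroup G), (∀ g : G, g * c * g⁻¹ ∈ T) → Subgroup.normalClosure {c} ≤ T := by
    intro c T hT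
    refine (Subgroup.closure_le _).mpr fun z hz => ?_
    obtain ⟨b, hb', hb⟩ := Group.mem_conjugatesOfSet_iff.mp hz
    rw [Set.mem_singleton_iff] at hb'
    subst hb'
    obtain ⟨g, rfl⟩ := isConj_iff.mp hb
    exact hT g
  -- abelian normal subgroups
  have habel : ∀ (R : Subgroup G) [R.Normal], (∀ b ∈ R, ∀ c ∈ R, b * c = c * b) →
      ∀ x : G, (∃ a : ℕ, x ^ p ^ a = 1) → ∀ c ∈ R, x * c = c * x := by
    intro R _ hR x hx c hc
    haveI := Fintype.ofFinite R
    obtain ⟨θ, hθ, -, hinv, hker⟩ := hcons R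
    have hmem : x * c * x⁻¹ * c⁻¹ ∈ R :=
      R.mul_mem (Subgroup.Normal.conj_mem inferInstance c hc x) (R.inv_mem hc)
    obtain ⟨l, hl⟩ := IsCharacter.exists_hom_of_apply_one (IsIrrCharacter.isCharacter hθ)
      (IsIrrCharacter.apply_one_of_comm (fun a b => Subtype.ext (hR a a.2 b b.2)) hθ)
    have key : ∀ g : G, g * (x * c * x⁻¹ * c⁻¹) * g⁻¹ ∈ l.ker.map R.subtype := by
      intro g
      have hgc : g * c * g⁻¹ ∈ R := Subgroup.Normal.conj_mem inferInstance c hc g
      obtain ⟨a, hxa⟩ := hx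
      have hinv' := hinv (g * x * g⁻¹) ⟨a, by rw [conj_pow, hxa]; simp⟩
      set u : R := ⟨g * c * g⁻¹, hgc⟩
      set v : R := ⟨(g * x * g⁻¹) * (g * c * g⁻¹) * (g * x * g⁻¹)⁻¹,
        Subgroup.Normal.conj_mem inferInstance _ hgc _⟩
      have huv : l v = l u := by
        refine Units.ext ?_
        have := congrFun hinv' u
        rw [hl] at this
        exact this
      refine ⟨v * u⁻¹, by rw [SetLike.mem_coe, MonoidHom.mem_ker, map_mul, map_inv, huv, mul_inv_cancel], ?_⟩
      show ((v * u⁻¹ : R) : G) = _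
      rw [Subgroup.coe_mul, Subgroup.coe_inv]
      simp only [u, v]
      group
    have hS := hker (Subgroup.normalClosure {x * c * x⁻¹ * c⁻¹}) inferInstance
      (Subgroup.normalClosure_le_normal (Set.singleton_subset_iff.mpr hmem)) fun t ht => by
      obtain ⟨t', ht', e⟩ := hcl _ _ key ht
      rw [← Subtype.ext e, hl]
      show ((l t' : ℂˣ) : ℂ) = ((l 1 : ℂˣ) : ℂ)
      rw [MonoidHom.mem_ker.mp ht', map_one]
    have : x * c * x⁻¹ * c⁻¹ ∈ Subgroup.normalClosure {x * c * x⁻¹ * c⁻¹} :=
      Subgroup.subset_normalClosure rfl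
    rw [hS, Subgroup.mem_bot] at this
    exact mul_inv_eq_iff_eq_mul.mp (mul_inv_eq_one.mp this)
  have hpn : ¬ p ∣ n := fun h => by
    have := (hclean p 1 hp one_pos (by rwa [pow_one])).2.2
    simp at this
  -- nilpotent normal subgroups of prime power order
  have hprimary : ∀ (k : ℕ) (r : ℕ) (R : Subgroup G), r.Prime → R.Normal → IsPGroup r R →
      Nat.card R = k → ∀ x : G, (∃ a : ℕ, x ^ p ^ a = 1) → ∀ c ∈ R, x * c = c * x := by
    intro k
    induction k using Nat.strong_induction_on with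
    | _ k ih =>
      intro r R hr hRn hR hk x hx c hc
      haveI := hRn
      haveI := Fact.mk hr
      haveI := Fintype.ofFinite R
      by_cases hab : ∀ b ∈ R, ∀ c ∈ R, b * c = c * b
      · exact habel R hab x hx c hc
      obtain ⟨θ, hθ, hθn, hinv, hker⟩ := hcons R
      by_cases hrp : r = p
      · exfalso
        obtain ⟨N, hN⟩ := IsPGroup.iff_card.mp hR
        obtain ⟨j, -, hj⟩ := (Nat.dvd_prime_pow hr).mp (hN ▸ charDegree_dvd_card (⟨θ, hθ⟩ : IrrCharacter R))
        have hj0 : j = 0 := by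
          by_contra hj0
          exact hpn ((dvd_pow_self p hj0).trans ((dvd_of_eq (by rw [← hrp]; exact hj.symm)).trans hθn))
        have hθ1 : θ 1 = 1 := by
          rw [apply_one_eq_charDegree (IsIrrCharacter.isCharacter hθ), show charDegree θ = r ^ j from hj, hj0]
          simp
        apply hab
        intro b hb d hd
        obtain ⟨l, hl⟩ := IsCharacter.exists_hom_of_apply_one (IsIrrCharacter.isCharacter hθ) hθ1
        have hbot : ⁅R, R⁆ = ⊥ := hker _ (Subgroup.commutator_normal R R)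
            (Subgroup.commutator_le_right R R) fun t ht => by
          have hle : ⁅R, R⁆ ≤ l.ker.map R.subtype := Subgroup.commutator_le.mpr fun g hg h hh =>
            ⟨⟨g, hg⟩ * ⟨h, hh⟩ * ⟨g, hg⟩⁻¹ * ⟨h, hh⟩⁻¹, by
              rw [SetLike.mem_coe, MonoidHom.mem_ker, map_mul, map_mul, map_mul, map_inv, map_inv,
                mul_comm (l ⟨g, hg⟩) (l ⟨h, hh⟩)]
              group, by
              simp [commutatorElement_def]⟩
          obtain ⟨t', ht', e⟩ := hle ht
          rw [← Subtype.ext e, hθ1, hl]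
          show ((l t' : ℂˣ) : ℂ) = 1
          rw [MonoidHom.mem_ker.mp ht', Units.val_one]
        have := Subgroup.commutator_mem_commutator hb hd
        rw [hbot, Subgroup.mem_bot, commutatorElement_eq_one_iff_mul_comm] at this
        exact this
      have hfix1 : ∀ S : Subgroup G, S.Normal → S < R → ∀ y : G, (∃ a : ℕ, y ^ p ^ a = 1) →
          ∀ d ∈ S, y * d = d * y := fun S hS hlt y hy d hd =>
        ih (Nat.card S) (hk ▸ lt_of_le_of_ne (Subgroup.card_le_of_le hlt.le) fun e =>
          hlt.ne (Subgroup.eq_of_le_of_card_ge hlt.le e.ge)) r S hr hS (hR.to_le hlt.le) rfl y hy d hd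
      have hstep : ∀ y : G, (∃ a : ℕ, y ^ p ^ a = 1) → ∀ d ∈ R,
          y * (d⁻¹ * (y * d * y⁻¹)) = (d⁻¹ * (y * d * y⁻¹)) * y → y * d = d * y := by
        intro y ⟨a, hya⟩ d hd hcy
        set w := d⁻¹ * (y * d * y⁻¹) with hw
        have hit : ∀ m : ℕ, y ^ m * d * (y ^ m)⁻¹ = d * w ^ m := by
          intro m
          induction m with
          | zero => simp
          | succ m ih =>
            calc y ^ (m + 1) * d * (y ^ (m + 1))⁻¹ = y * (y ^ m * d * (y ^ m)⁻¹) * y⁻¹ := by
                  rw [pow_succ']; group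
              _ = y * d * (w ^ m * y⁻¹) := by rw [ih]; group
              _ = y * d * (y⁻¹ * w ^ m) := by
                  rw [(((show Commute y w from hcy).pow_right m).inv_left).eq]
              _ = d * w * w ^ m := by rw [hw]; group
              _ = _ := by rw [pow_succ', mul_assoc]
        have h1 : w ^ p ^ a = 1 := by
          have := hit (p ^ a)
          rw [hya] at this
          simpa using this.symm
        have hwR : w ∈ R := R.mul_mem (R.inv_mem hd) (Subgroup.Normal.conj_mem inferInstance d hd y)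
        obtain ⟨m, hm⟩ := IsPGroup.iff_orderOf.mp hR ⟨w, hwR⟩
        have h2 : orderOf w = 1 := Nat.eq_one_of_dvd_coprimes
          (Nat.Coprime.pow m a ((Nat.coprime_primes hr hp).mpr hrp))
          (by rw [← hm, ← Subgroup.orderOf_coe]) (orderOf_dvd_of_pow_eq_one h1)
        rw [orderOf_eq_one_iff, hw, inv_mul_eq_one] at h2
        exact (eq_mul_inv_iff_mul_eq.mp h2).symm
      let K : Subgroup G := Subgroup.closure {y : G | ∃ a : ℕ, y ^ p ^ a = 1}
      haveI hKn : K.Normal := ⟨fun t ht g => by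
        have hle : K.map (MulAut.conj g).toMonoidHom ≤ K := by
          rw [Subgroup.map_le_iff_le_comap]
          refine (Subgroup.closure_le _).mpr fun y ⟨a, ha⟩ => ?_
          exact Subgroup.subset_closure ⟨a, by
            show (g * y * g⁻¹) ^ p ^ a = 1
            rw [conj_pow, ha]; simp⟩
        exact hle ⟨t, ht, rfl⟩⟩
      have hcomK : ∀ S : Subgroup G, (∀ y : G, (∃ a : ℕ, y ^ p ^ a = 1) → ∀ d ∈ S, y * d = d * y) →
          ⁅K, S⁆ = ⊥ := fun S hS => by
        rw [Subgroup.commutator_eq_bot_iff_le_centralizer]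
        exact (Subgroup.closure_le _).mpr fun y hy =>
          Subgroup.mem_centralizer_iff.mpr fun d hd => (hS y hy d hd).symm
      by_cases hRK : ⁅R, K⁆ = R
      swap
      · have hle : ⁅R, K⁆ < R := lt_of_le_of_ne (Subgroup.commutator_le_left R K) hRK
        refine hstep x hx c hc (hfix1 _ (Subgroup.commutator_normal R K) hle x hx _ ?_)
        have := Subgroup.commutator_mem_commutator (R.inv_mem hc)
          (Subgroup.subset_closure hx : x ∈ K)
        simpa [commutatorElement_def, mul_assoc] using this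
      haveI : Group.IsNilpotent R := hR.isNilpotent
      have hR' : ⁅R, R⁆ < R := by
        refine lt_of_le_of_ne (Subgroup.commutator_le_left R R) fun e => ?_
        haveI : Nontrivial R := (Subgroup.nontrivial_iff_ne_bot R).mpr fun eb => hab fun b hb d hd => by
          rw [eb, Subgroup.mem_bot] at hb hd; rw [hb, hd]
        have h1 : commutator R < ⊤ := Group.IsSolvable.commutator_lt_top_of_nontrivial R
        refine h1.ne (Subgroup.map_injective R.subtype_injective ?_)
        rw [commutator_def, Subgroup.map_commutator, ← MonoidHom.range_eq_map, Subgroup.range_subtype, e]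
      have hR'c : ∀ y : G, (∃ a : ℕ, y ^ p ^ a = 1) → ∀ d ∈ ⁅R, R⁆, y * d = d * y :=
        hfix1 _ (Subgroup.commutator_normal R R) hR'
      have hcentral : ⁅⁅R, K⁆, ⁅R, R⁆⁆ = ⊥ := by
        refine Subgroup.commutator_commutator_eq_bot_of_rotate ?_ ?_
        · rw [hcomK _ hR'c, Subgroup.commutator_bot_left]
        · rw [eq_bot_iff, ← hcomK _ hR'c]
          exact (Subgroup.commutator_mono (Subgroup.commutator_le_left _ R) le_rfl).trans
            (Subgroup.commutator_comm_le _ _)
      rw [hRK] at hcentral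
      -- the quotient by the kernel of `θ`
      set Kθ := charKernel (IsIrrCharacter.isCharacter hθ) with hKθ
      obtain ⟨φ, hφ, hθφ⟩ := IsIrrCharacter.exists_quotient hθ Kθ fun t ht => (mem_charKernel _).mp ht
      haveI := Fintype.ofFinite (R ⧸ Kθ)
      have hQA : ∀ g h : R ⧸ Kθ, g⁻¹ * h⁻¹ * g * h ∈ Subgroup.center (R ⧸ Kθ) := by
        intro g h
        obtain ⟨g, rfl⟩ := QuotientGroup.mk_surjective g
        obtain ⟨h, rfl⟩ := QuotientGroup.mk_surjective h
        rw [Subgroup.mem_center_iff]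
        intro t
        obtain ⟨t, rfl⟩ := QuotientGroup.mk_surjective t
        simp only [← QuotientGroup.mk_inv, ← QuotientGroup.mk_mul]
        congr 1
        refine Subtype.ext ?_
        have hcm : (g : G)⁻¹ * (h : G)⁻¹ * g * h ∈ ⁅R, R⁆ := by
          simpa [commutatorElement_def] using
            Subgroup.commutator_mem_commutator (R.inv_mem g.2) (R.inv_mem h.2)
        have := commutatorElement_eq_one_iff_mul_comm.mp (Subgroup.mem_bot.mp
          (hcentral ▸ Subgroup.commutator_mem_commutator t.2 hcm))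
        simpa using this
      have hφ1 : ∀ t : R, φ (QuotientGroup.mk t) = θ t := fun t => (congrFun hθφ t).symm
      have hQinj : ∀ z ∈ Subgroup.center (R ⧸ Kθ), φ z = φ 1 → z = 1 := by
        intro z _ hz
        obtain ⟨t, rfl⟩ := QuotientGroup.mk_surjective z
        rw [hφ1, ← QuotientGroup.mk_one, hφ1] at hz
        exact (QuotientGroup.eq_one_iff t).mpr ((mem_charKernel _).mpr hz)
      have hdegφ : charDegree φ = charDegree θ := by
        refine Nat.cast_injective (R := ℂ) ?_
        rw [← apply_one_eq_charDegree (IsIrrCharacter.isCharacter hφ),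
          ← apply_one_eq_charDegree (IsIrrCharacter.isCharacter hθ), ← QuotientGroup.mk_one, hφ1]
      have key : ∀ y : G, (∃ a : ℕ, y ^ p ^ a = 1) → ∀ d e : R, ∀ w : R,
          (w : G) = (d : G)⁻¹ * (y * (d : G) * y⁻¹) → w * e * w⁻¹ * e⁻¹ ∈ Kθ := by
        intro y ⟨a, hya⟩ d e w hw
        have hy' : ∀ t : R, θ ((MulAut.conjNormal y : MulAut R) t) = θ t := fun t => by
          exact congrFun (hinv y ⟨a, hya⟩) t
        have hmap : Kθ.map ((MulAut.conjNormal y : MulAut R) : R →* R) = Kθ := by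
          refine Subgroup.eq_of_le_of_card_ge ?_ (Subgroup.card_map_of_injective
            (K := Kθ) (MulAut.conjNormal y : MulAut R).injective).ge
          rintro _ ⟨t, ht, rfl⟩
          rw [hKθ, mem_charKernel]
          exact (hy' t).trans ((mem_charKernel _).mp ht)
        let α : MulAut (R ⧸ Kθ) := QuotientGroup.congr _ _ (MulAut.conjNormal y : MulAut R) hmap
        have hαk : ∀ (m : ℕ) (t : R), (α ^ m) (QuotientGroup.mk t) =
            QuotientGroup.mk ((MulAut.conjNormal (y ^ m) : MulAut R) t) := by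
          intro m
          induction m with
          | zero => intro t; simp
          | succ m ih =>
            intro t
            rw [pow_succ, MulAut.mul_apply, show α (QuotientGroup.mk t) =
              QuotientGroup.mk ((MulAut.conjNormal y : MulAut R) t) from rfl, ih, pow_succ y, map_mul,
              MulAut.mul_apply]
        have hmv := moves_centrally (A := R ⧸ Kθ) p a hr hφ hQA hQinj (hR.to_quotient _) hrp
          (hdegφ ▸ hclean.of_dvd hθn) α
          (by
            ext t
            obtain ⟨t, rfl⟩ := QuotientGroup.mk_surjective t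
            rw [hαk, hya, map_one, MulAut.one_apply, MulAut.one_apply])
          (fun t => by
            obtain ⟨t, rfl⟩ := QuotientGroup.mk_surjective t
            show φ (QuotientGroup.mk ((MulAut.conjNormal y : MulAut R) t)) = _
            rw [hφ1, hφ1, hy'])
          (QuotientGroup.mk d)
        have h2 := Subgroup.mem_center_iff.mp hmv (QuotientGroup.mk e)
        have hwd : (QuotientGroup.mk d : R ⧸ Kθ)⁻¹ * α (QuotientGroup.mk d) = QuotientGroup.mk w := by
          show QuotientGroup.mk (d⁻¹ * (MulAut.conjNormal y : MulAut R) d) = _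
          congr 1
          refine Subtype.ext ?_
          rw [hw, Subgroup.coe_mul, Subgroup.coe_inv, MulAut.conjNormal_apply]
        rw [hwd] at h2
        rw [← QuotientGroup.eq_one_iff]
        simp only [QuotientGroup.mk_mul, QuotientGroup.mk_inv]
        rw [← h2]; group
      obtain ⟨a, hxa⟩ := hx
      have hwR : c⁻¹ * (x * c * x⁻¹) ∈ R :=
        R.mul_mem (R.inv_mem hc) (Subgroup.Normal.conj_mem inferInstance c hc x)
      set w := c⁻¹ * (x * c * x⁻¹) with hw
      have hwc : ∀ e ∈ R, w * e = e * w := by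
        intro e he
        have hS := hker (Subgroup.normalClosure {w * e * w⁻¹ * e⁻¹}) inferInstance
          (Subgroup.normalClosure_le_normal (Set.singleton_subset_iff.mpr
            (R.mul_mem (R.mul_mem (R.mul_mem hwR he) (R.inv_mem hwR)) (R.inv_mem he)))) fun t ht => by
          have hle := hcl (w * e * w⁻¹ * e⁻¹) (Kθ.map R.subtype) fun g => by
            have hgR : ∀ t ∈ R, g * t * g⁻¹ ∈ R := fun t ht => Subgroup.Normal.conj_mem inferInstance t ht g
            have hk := key (g * x * g⁻¹) ⟨a, by rw [conj_pow, hxa]; simp⟩ ⟨_, hgR c hc⟩ ⟨_, hgR e he⟩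
              ⟨_, hgR w hwR⟩ (by simp only [hw]; group)
            refine ⟨_, hk, ?_⟩
            simp only [Subgroup.coe_subtype, Subgroup.coe_mul, Subgroup.coe_inv]
            group
          obtain ⟨t', ht', et⟩ := hle ht
          rw [← Subtype.ext et]
          exact (mem_charKernel _).mp ht'
        have : w * e * w⁻¹ * e⁻¹ ∈ Subgroup.normalClosure {w * e * w⁻¹ * e⁻¹} :=
          Subgroup.subset_normalClosure rfl
        rw [hS, Subgroup.mem_bot] at this
        exact mul_inv_eq_iff_eq_mul.mp (mul_inv_eq_one.mp this)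
      haveI : (R ⊓ Subgroup.centralizer (R : Set G)).Normal := by
        haveI : (Subgroup.centralizer (R : Set G)).Normal := Subgroup.normal_centralizer (H := R)
        infer_instance
      refine hstep x ⟨a, hxa⟩ c hc ?_
      exact habel (R ⊓ Subgroup.centralizer (R : Set G))
        (fun b hb d hd => (Subgroup.mem_centralizer_iff.mp hd.2 b hb.1)) x ⟨a, hxa⟩ w
        ⟨hwR, Subgroup.mem_centralizer_iff.mpr fun e he => (hwc e he).symm⟩
  -- conclusion
  apply hP
  set F := Cfsg.fittingSubgroup G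
  haveI hFn : F.Normal := Cfsg.Agent.Lib.Cores.fittingSubgroup_normal G
  haveI : Group.IsNilpotent F := Cfsg.Agent.Lib.Cores.fittingSubgroup_isNilpotent G
  have hFle : ∀ x : G, (∃ a : ℕ, x ^ p ^ a = 1) → x ∈ F := by
    intro x hx
    refine Cfsg.Agent.Lib.Cores.centralizer_fittingSubgroup_le hsolv (Subgroup.mem_centralizer_iff.mpr fun y hy => ?_)
    have hsub : F ≤ Subgroup.centralizer ({x} : Set G) := by
      rw [← Subgroup.subgroupOf_eq_top]
      refine Subgroup.eq_top_of_card_eq _ (Nat.dvd_antisymm (Subgroup.card_subgroup_dvd_card _) ?_)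
      rw [Nat.dvd_iff_prime_pow_dvd_dvd]
      intro r k hr hdvd
      haveI := Fact.mk hr
      obtain ⟨S⟩ := (inferInstance : Nonempty (Sylow r F))
      haveI : (S : Subgroup F).Normal :=
        (Group.isNilpotent_of_finite_tfae.out 0 3 rfl rfl).mp inferInstance r ⟨hr⟩ S
      haveI := Sylow.characteristic_of_normal S inferInstance
      have hS : (S : Subgroup F) ≤ (Subgroup.centralizer ({x} : Set G)).subgroupOf F := fun s hs => by
        refine Subgroup.mem_subgroupOf.mpr (Subgroup.mem_centralizer_singleton_iff.mpr ?_)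
        exact (hprimary _ r ((S : Subgroup F).map F.subtype) hr inferInstance (S.isPGroup'.map _) rfl
          x hx (s : G) ⟨s, hs, rfl⟩).symm
      refine dvd_trans ?_ (Subgroup.card_dvd_of_le hS)
      rw [S.card_eq_multiplicity]
      exact Nat.pow_dvd_pow r ((hr.pow_dvd_iff_le_factorization Nat.card_pos.ne').mp hdvd)
    exact Subgroup.mem_centralizer_singleton_iff.mp (hsub hy)
  have hPF : (P : Subgroup G) ≤ F := fun x hx => by
    obtain ⟨k, hk⟩ := P.isPGroup' ⟨x, hx⟩
    exact hFle x ⟨k, by simpa using congrArg Subtype.val hk⟩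
  haveI : ((P.subtype hPF : Sylow p F) : Subgroup F).Normal :=
    (Group.isNilpotent_of_finite_tfae.out 0 3 rfl rfl).mp inferInstance p ⟨hp⟩ _
  haveI := Sylow.characteristic_of_normal (P.subtype hPF : Sylow p F) inferInstance
  have hmap : ((P.subtype hPF : Sylow p F) : Subgroup F).map F.subtype = (P : Subgroup G) := by
    rw [Sylow.coe_subtype, Subgroup.subgroupOf_map_subtype, inf_eq_left.mpr hPF]
  rw [← hmap]
  infer_instance

end Cfsg.Agent.S4467
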