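import Mathlib
import Cfsg.Statements.S4469
import Cfsg.Agent.Lib.InvChar.JordanUnitary
import Cfsg.Agent.Lib.InvChar.JordanHall
import Cfsg.Agent.Lib.InvChar.JordanSmall

set_option autoImplicit false
open Cfsg

namespace Cfsg.Agent.S4469

/-- The classical bound for finite linear groups, in explicit form. Let the finite group G have a faithful character of degree n. Then G has an abelian normal subgroup whose index is at most n! · 12^(n·(π(n+1)+1)), π(k) denoting the number of primes not exceeding k. -/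
theorem result {G : Type*} [Group G] [Finite G] (χ : G → ℂ) (hχ : Cfsg.IsCharacter G χ) (hfaith : ∀ g : G, χ g = χ 1 → g = 1) (n : ℕ) (hn : Cfsg.charDegree χ = n) : ∃ A : Subgroup G, A.Normal ∧ (∀ x ∈ A, ∀ y ∈ A, x * y = y * x) ∧ A.index ≤ Nat.factorial n * 12 ^ (n * (Nat.primeCounting (n + 1) + 1)) := by
  classical
  obtain ⟨ρ, hρ, hinj⟩ := Lib.InvChar.JordanArcs.exists_injective_rep hχ hfaith n hn
  obtain ⟨A, hAn, hAc, hAH⟩ := Lib.InvChar.JordanArcs.exists_abelian_normal_of_rep ρ hinj
  refine ⟨A, hAn, hAc, ?_⟩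
  have hχ1 : χ 1 = (n : ℂ) := by
    rw [← hρ, Representation.char_one, Module.finrank_fin_fun]
  obtain ⟨H, hH, hHp⟩ := Lib.InvChar.JordanHall.exists_abelian_big hχ hfaith hχ1
  have hsmall : ∀ p : ℕ, p.Prime → ∃ K : Subgroup G, (∀ a ∈ K, ∀ b ∈ K, a * b = b * a) ∧
      p ^ (Nat.card G).factorization p ∣ n.factorial * Nat.card K := by
    intro p hp
    haveI := Fact.mk hp
    obtain ⟨S⟩ : Nonempty (Sylow p G) := inferInstance
    obtain ⟨K, hK, hKd⟩ := Lib.InvChar.JordanSmall.exists_abelian_sub hχ hfaith hχ1 hp S S.isPGroup'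
    exact ⟨K, hK, by rw [← S.card_eq_multiplicity]; exact hKd⟩
  choose! K hKc hKd using hsmall
  set s := (Finset.range (n + 2)).filter Nat.Prime with hs
  set J := n.factorial * ((∏ p ∈ s, (A.subgroupOf (K p)).index) * (A.subgroupOf H).index) with hJ
  -- a full part of an abelian subgroup controls the index
  have hcore : ∀ (L : Subgroup G) (c : ℕ), Nat.card G ∣ A.index * Nat.card A → ∀ P : ℕ,
      P ∣ c * Nat.card L → P ∣ c * (A.subgroupOf L).index * Nat.card A := by
    intro L c _ P hP
    refine hP.trans ?_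
    rw [mul_assoc]
    refine Nat.mul_dvd_mul_left c ?_
    rw [← (A.subgroupOf L).index_mul_card]
    refine Nat.mul_dvd_mul_left _ ?_
    rw [← Subgroup.card_subtype]
    exact Subgroup.card_dvd_of_le (by rintro _ ⟨w, hw, rfl⟩; exact hw)
  have hdvd : A.index ∣ J := by
    refine (Nat.dvd_iff_prime_pow_dvd_dvd _ _).2 fun p k hp hk => ?_
    have hfull : p ^ (Nat.card G).factorization p ∣ J * Nat.card A := by
      rw [hJ]
      by_cases hpn : n + 1 < p
      · refine (hcore H 1 (by rw [A.index_mul_card]) _ (by rw [one_mul]; exact hHp p hp hpn)).trans ?_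
        refine Nat.mul_dvd_mul_right ?_ _
        rw [one_mul]
        exact (dvd_mul_left _ _).trans (dvd_mul_left _ _)
      · refine (hcore (K p) _ (by rw [A.index_mul_card]) _ (hKd p hp)).trans ?_
        refine Nat.mul_dvd_mul_right (Nat.mul_dvd_mul_left _ ?_) _
        have hps : p ∈ s := Finset.mem_filter.2 ⟨Finset.mem_range.2 (by omega), hp⟩
        exact (Finset.dvd_prod_of_mem _ hps).trans (dvd_mul_right _ _)
    have hA0 : Nat.card A ≠ 0 := Nat.card_pos.ne'
    have hJ0 : J ≠ 0 := by
      refine Nat.mul_ne_zero (Nat.factorial_ne_zero n) (Nat.mul_ne_zero ?_ ?_)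
      · exact Finset.prod_ne_zero_iff.2 fun q _ => Subgroup.index_ne_zero_of_finite
      · exact Subgroup.index_ne_zero_of_finite
    have hI0 : A.index ≠ 0 := Subgroup.index_ne_zero_of_finite
    rw [hp.pow_dvd_iff_le_factorization hJ0]
    rw [hp.pow_dvd_iff_le_factorization hI0] at hk
    rw [hp.pow_dvd_iff_le_factorization (Nat.mul_ne_zero hJ0 hA0), ← A.index_mul_card,
      Nat.factorization_mul hI0 hA0, Nat.factorization_mul hJ0 hA0] at hfull
    simp only [Finsupp.add_apply] at hfull
    omega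
  have hJ0 : 0 < J := by
    rw [hJ]
    refine Nat.mul_pos (Nat.factorial_pos n) (Nat.mul_pos (Finset.prod_pos fun q _ => ?_) ?_)
    · exact Nat.pos_of_ne_zero Subgroup.index_ne_zero_of_finite
    · exact Nat.pos_of_ne_zero Subgroup.index_ne_zero_of_finite
  refine (Nat.le_of_dvd hJ0 hdvd).trans (Nat.mul_le_mul_left _ ?_)
  have hcard : s.card = Nat.primeCounting (n + 1) := by
    rw [hs, Nat.primeCounting, Nat.primeCounting', Nat.count_eq_card_filter_range]
  rw [mul_add, pow_add, mul_one, pow_mul, ← hcard]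
  refine Nat.mul_le_mul ?_ (hAH H hH)
  refine (Finset.prod_le_prod' fun q hq => hAH (K q) (hKc q (Finset.mem_filter.1 hq).2)).trans ?_
  rw [Finset.prod_const]

end Cfsg.Agent.S4469
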