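import Cfsg.Statements.S4471
import Cfsg.Agent.Lib.SmallLinear.LtTwoP
import Cfsg.Agent.Lib.Solvable.Nilpotent
-- import your own Cfsg.Agent.* helpers here

set_option autoImplicit false
set_option linter.style.haveILetI false
open Cfsg
open scoped commutatorElement

namespace Cfsg.Agent.S4471

/-- Let p ≥ 7 be a prime and let the finite group G have a faithful irreducible character of degree n with n < 2p and n ≠ p. If the Sylow p-subgroups of G are non-abelian then p² does not divide the index of O_p(G) in G; consequently, in every case G/O_p(G) has abelian Sylow p-subgroups. -/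
theorem result {G : Type*} [Group G] [Finite G] (χ : Cfsg.IrrCharacter G) (hfaith : ∀ g : G, (χ : G → ℂ) g = (χ : G → ℂ) 1 → g = 1) (n : ℕ) (hn : Cfsg.charDegree (χ : G → ℂ) = n) (p : ℕ) (hp : p.Prime) (h7 : 7 ≤ p) (hn2 : n < 2 * p) (hnp : n ≠ p) : ((∃ P : Sylow p G, ∃ x ∈ (P : Subgroup G), ∃ y ∈ (P : Subgroup G), x * y ≠ y * x) → ¬ p ^ 2 ∣ (Cfsg.pCore p G).index) ∧ ∀ Q : Sylow p (G ⧸ Cfsg.pCore p G), ∀ x ∈ (Q : Subgroup (G ⧸ Cfsg.pCore p G)), ∀ y ∈ (Q : Subgroup (G ⧸ Cfsg.pCore p G)), x * y = y * x := by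
  classical
  haveI : Fact p.Prime := ⟨hp⟩
  obtain ⟨d, ρ, hρ, hρχ⟩ := χ.2
  have hd : d = n := by
    rw [← hn]
    exact (Lib.CharMisc.charDegree_of_apply_one
      (by rw [← hρχ, ρ.char_one, Module.finrank_fin_fun])).symm
  subst hd
  have hinj : Function.Injective ρ := by
    intro a b hab
    have h : a * b⁻¹ = 1 := by
      refine hfaith _ ?_
      rw [← hρχ, ρ.char_one, Lib.Characters.char_eq_finrank_iff, map_mul, hab, ← map_mul,
        mul_inv_cancel, map_one]
      rfl
    exact mul_inv_eq_one.mp h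
  have hirr : ∀ U : Submodule ℂ (Fin d → ℂ), (∀ g, ∀ v ∈ U, ρ g v ∈ U) → U = ⊥ ∨ U = ⊤ := by
    intro U hU
    haveI := hρ
    rcases IsSimpleOrder.eq_bot_or_eq_top (⟨U, fun g _ hv => hU g _ hv⟩ : Subrepresentation ρ) with h | h
    · exact Or.inl (congrArg Subrepresentation.toSubmodule h)
    · exact Or.inr (congrArg Subrepresentation.toSubmodule h)
  have main : (∃ P : Sylow p G, ∃ x ∈ (P : Subgroup G), ∃ y ∈ (P : Subgroup G), x * y ≠ y * x) →
      ¬ p ^ 2 ∣ (Cfsg.pCore p G).index := by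
    rintro ⟨P, x, hx, y, hy, hxy⟩
    haveI : Group.IsNilpotent (P : Subgroup G) := P.2.isNilpotent
    have hne : commutator (P : Subgroup G) ≠ ⊥ := by
      intro h
      apply hxy
      have h1 : ⁅(⟨x, hx⟩ : (P : Subgroup G)), (⟨y, hy⟩ : (P : Subgroup G))⁆ ∈ commutator (P : Subgroup G) :=
        Subgroup.commutator_mem_commutator (Subgroup.mem_top _) (Subgroup.mem_top _)
      rw [h, Subgroup.mem_bot, commutatorElement_eq_one_iff_mul_comm] at h1
      exact congrArg Subtype.val h1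
    have hne' := Lib.Solvable.inf_center_ne_bot (N := commutator (P : Subgroup G)) hne
    set C := commutator (P : Subgroup G) ⊓ Subgroup.center (P : Subgroup G)
    obtain ⟨w, hw⟩ : ∃ w : C, orderOf w = p := by
      refine exists_prime_orderOf_dvd_card' p ?_
      obtain ⟨k, hk⟩ := IsPGroup.iff_card.mp (P.2.to_subgroup C)
      rcases Nat.eq_zero_or_pos k with rfl | hk0
      · exact absurd (Subgroup.card_eq_one.mp (by rw [hk, pow_zero])) hne'
      · rw [hk]; exact dvd_pow_self p hk0.ne'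
    exact Lib.SmallLinear.not_sq_dvd_index ρ hinj hirr h7 (by rwa [Module.finrank_fin_fun])
      (by rwa [Module.finrank_fin_fun]) P.2 (z := ((w : (P : Subgroup G)) : G)) (w : (P : Subgroup G)).2
      (fun h hh => congrArg Subtype.val (Subgroup.mem_center_iff.mp w.2.2 ⟨h, hh⟩))
      w.2.1 (by rw [Subgroup.orderOf_coe, Subgroup.orderOf_coe, hw])
  refine ⟨main, fun Q x hx y hy => ?_⟩
  by_cases hab : ∃ P : Sylow p G, ∃ x ∈ (P : Subgroup G), ∃ y ∈ (P : Subgroup G), x * y ≠ y * x
  · have h2 := main hab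
    obtain ⟨k, hk⟩ := IsPGroup.iff_card.mp Q.2
    have hk2 : k < 2 := by
      by_contra h
      refine h2 ((pow_dvd_pow p (by omega : 2 ≤ k)).trans ?_)
      rw [← hk, Subgroup.index_eq_card]
      exact Subgroup.card_subgroup_dvd_card _
    haveI : IsCyclic (Q : Subgroup (G ⧸ Cfsg.pCore p G)) := by
      rcases Nat.lt_or_ge k 1 with h | h
      · haveI : Subsingleton (Q : Subgroup (G ⧸ Cfsg.pCore p G)) :=
          (Nat.card_eq_one_iff_unique.mp (by rw [hk, show k = 0 by omega, pow_zero])).1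
        exact isCyclic_of_subsingleton
      · exact isCyclic_of_prime_card (p := p) (by rw [hk, show k = 1 by omega, pow_one])
    letI : CommGroup (Q : Subgroup (G ⧸ Cfsg.pCore p G)) := IsCyclic.commGroup
    exact congrArg Subtype.val (mul_comm (⟨x, hx⟩ : (Q : Subgroup (G ⧸ Cfsg.pCore p G))) ⟨y, hy⟩)
  · push Not at hab
    obtain ⟨P, hP⟩ := Sylow.mapSurjective_surjective
      (QuotientGroup.mk'_surjective (Cfsg.pCore p G)) p Q
    subst hP
    obtain ⟨a, ha, rfl⟩ := hx
    obtain ⟨b, hb, rfl⟩ := hy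
    rw [← map_mul, ← map_mul, hab P a ha b hb]

end Cfsg.Agent.S4471
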