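import Cfsg.Statements.S4473
import Cfsg.Agent.Lib.Characters.Berger
import Cfsg.Agent.Lib.Characters.Eigen
import Mathlib
-- import your own Cfsg.Agent.* helpers here

set_option autoImplicit false
open Cfsg

namespace Cfsg.Agent.S4473

open Module
open Cfsg.Agent.Lib.Characters

set_option linter.style.haveILetI false
set_option maxHeartbeats 1000000

/-- The counting behind Klein's classification. -/
theorem arith {N a b c A B C : ℕ} (hA : a * A = N) (hB : b * B = N) (hC : c * C = N)
    (ha : 3 ≤ a) (hb : 3 ≤ b) (hc : 3 ≤ c) (hA2 : 2 ≤ A) (hB2 : 2 ≤ B) (hC2 : 2 ≤ C)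
    (hsum : a + b + c = N + 2) : N = 12 ∨ N = 24 ∨ N = 60 := by
  -- one of the three indices is `2`
  have aux2 : ∀ {a b c A B C : ℕ}, a * A = N → b * B = N → c * C = N → 3 ≤ b → 3 ≤ c → 2 ≤ B → 2 ≤ C →
      A = 2 → B = 3 → a + b + c = N + 2 → N = 12 ∨ N = 24 ∨ N = 60 := by
    intro a b c A B C hA hB hC hb hc hB2 hC2 hA' hB' hsum
    subst hA' hB'
    have h6 : N * 6 = C * N + 12 * C := by
      have : 6 * c = N + 12 := by omega
      calc N * 6 = c * C * 6 := by rw [hC]
        _ = C * (6 * c) := by ring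
        _ = _ := by rw [this]; ring
    have hC5 : C ≤ 5 := by
      by_contra h
      have : 6 * N ≤ C * N := Nat.mul_le_mul_right N (by omega)
      omega
    interval_cases C <;> omega
  have aux3 : ∀ {a b c A B C : ℕ}, a * A = N → b * B = N → c * C = N → 3 ≤ a → 3 ≤ b → 3 ≤ c → 2 ≤ B → 2 ≤ C →
      A = 2 → a + b + c = N + 2 → N = 12 ∨ N = 24 ∨ N = 60 := by
    intro a b c A B C hA hB hC ha hb hc hB2 hC2 hA' hsum
    have hBne : B ≠ 2 := fun e => by subst e hA'; omega
    have hCne : C ≠ 2 := fun e => by subst e hA'; omega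
    by_cases hB3 : B = 3
    · exact aux2 hA hB hC hb hc hB2 hC2 hA' hB3 hsum
    by_cases hC3 : C = 3
    · exact aux2 hA hC hB hc hb hC2 hB2 hA' hC3 (by omega)
    have h1 : b * 4 ≤ b * B := Nat.mul_le_mul_left _ (by omega)
    have h2 : c * 4 ≤ c * C := Nat.mul_le_mul_left _ (by omega)
    subst hA'
    omega
  by_cases h : A = 2
  · exact aux3 hA hB hC ha hb hc hB2 hC2 h hsum
  by_cases h' : B = 2
  · exact aux3 hB hA hC hb ha hc hA2 hC2 h' (by omega)
  by_cases h'' : C = 2
  · exact aux3 hC hA hB hc ha hb hA2 hB2 h'' (by omega)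
  have h1 : a * 3 ≤ a * A := Nat.mul_le_mul_left _ (by omega)
  have h2 : b * 3 ≤ b * B := Nat.mul_le_mul_left _ (by omega)
  have h3 : c * 3 ≤ c * C := Nat.mul_le_mul_left _ (by omega)
  omega

/-- An operator of finite order on a plane that is not a scalar fixes exactly two lines. -/
theorem two_lines (f : End ℂ (Fin 2 → ℂ)) {n : ℕ} (hn : n ≠ 0) (hf : f ^ n = 1)
    (hsc : ∀ c : ℂ, f ≠ c • LinearMap.id) :
    ∃ v w : Fin 2 → ℂ, ℂ ∙ v ≠ ℂ ∙ w ∧ v ≠ 0 ∧ w ≠ 0 ∧ IsCompl (ℂ ∙ v) (ℂ ∙ w) ∧
      ∀ L : Submodule ℂ (Fin 2 → ℂ), finrank ℂ L = 1 → (L.map f = L ↔ L = ℂ ∙ v ∨ L = ℂ ∙ w) := by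
  obtain ⟨ι, _, b, μ, hb, hμ⟩ := exists_eigenbasis f hn hf
  have hcard : Fintype.card ι = 2 := by
    rw [← finrank_eq_card_basis b, Module.finrank_fin_fun]
  let e := Fintype.equivFinOfCardEq hcard
  let c := b.reindex e
  set l : Fin 2 → ℂ := fun i => μ (e.symm i) with hl
  have hc : ∀ i, f (c i) = l i • c i := fun i => by simp only [c, Basis.reindex_apply, hl, hb]
  have hμ0 : ∀ i, l i ≠ 0 := fun i h0 => by
    have := hμ (e.symm i)
    rw [show μ (e.symm i) = l i from rfl, h0, zero_pow hn] at this
    exact zero_ne_one this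
  have hne : l 0 ≠ l 1 := by
    intro h
    exact hsc (l 0) (c.ext fun i => by fin_cases i <;> simp [hc, h])
  have hrep : ∀ x : Fin 2 → ℂ, x = c.repr x 0 • c 0 + c.repr x 1 • c 1 := fun x => by
    conv_lhs => rw [← c.sum_repr x, Fin.sum_univ_two]
  have hline : ∀ i, (ℂ ∙ c i).map f = ℂ ∙ c i := fun i => by
    rw [Submodule.map_span, Set.image_singleton, hc, Submodule.span_singleton_smul_eq (IsUnit.mk0 _ (hμ0 i))]
  refine ⟨c 0, c 1, ?_, c.ne_zero 0, c.ne_zero 1, ?_, fun L hL => ⟨fun hfix => ?_, ?_⟩⟩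
  · intro h
    obtain ⟨a, ha⟩ := Submodule.mem_span_singleton.mp (h ▸ Submodule.mem_span_singleton_self (c 0))
    have := congrArg (fun x => c.repr x 0) ha
    simp at this
  · constructor
    · rw [Submodule.disjoint_def]
      intro x hx hy
      obtain ⟨a, rfl⟩ := Submodule.mem_span_singleton.mp hx
      obtain ⟨a', ha'⟩ := Submodule.mem_span_singleton.mp hy
      have := congrArg (fun x => c.repr x 0) ha'
      simp at this
      simp [← this]
    · rw [codisjoint_iff, eq_top_iff]
      intro x _
      rw [hrep x]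
      exact Submodule.add_mem_sup (Submodule.smul_mem _ _ (Submodule.mem_span_singleton_self _))
        (Submodule.smul_mem _ _ (Submodule.mem_span_singleton_self _))
  · obtain ⟨⟨x, hx⟩, hx0, hspan⟩ := finrank_eq_one_iff'.mp hL
    obtain ⟨a, ha⟩ := hspan ⟨f x, hfix ▸ Submodule.mem_map_of_mem hx⟩
    have ha' : a • x = f x := congrArg Subtype.val ha
    have hx0' : x ≠ 0 := fun h => hx0 (Subtype.ext h)
    have hLx : L = ℂ ∙ x := by
      refine le_antisymm (fun y hy => ?_) ((Submodule.span_singleton_le_iff_mem _ _).mpr hx)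
      obtain ⟨a', ha'⟩ := hspan ⟨y, hy⟩
      exact Submodule.mem_span_singleton.mpr ⟨a', congrArg Subtype.val ha'⟩
    have hco : ∀ i, (a - l i) * c.repr x i = 0 := by
      intro i
      have h1 : c.repr (f x) i = l i * c.repr x i := by
        conv_lhs => rw [hrep x]
        simp only [map_add, map_smul, hc, Finsupp.add_apply, Finsupp.smul_apply, smul_eq_mul, Basis.repr_self]
        fin_cases i <;> simp [mul_comm]
      rw [← ha', map_smul, Finsupp.smul_apply, smul_eq_mul] at h1
      rw [sub_mul, h1, sub_self]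
    by_cases h0 : c.repr x 0 = 0
    · right
      have h1 : c.repr x 1 ≠ 0 := fun h1 => hx0' (by rw [hrep x, h0, h1, zero_smul, zero_smul, add_zero])
      rw [hLx, hrep x, h0, zero_smul, zero_add, Submodule.span_singleton_smul_eq (IsUnit.mk0 _ h1)]
    · left
      have h1 : c.repr x 1 = 0 := by
        by_contra h1
        exact hne ((sub_eq_zero.mp ((mul_eq_zero.mp (hco 0)).resolve_right h0)).symm.trans
          (sub_eq_zero.mp ((mul_eq_zero.mp (hco 1)).resolve_right h1)))
      rw [hLx, hrep x, h1, zero_smul, add_zero, Submodule.span_singleton_smul_eq (IsUnit.mk0 _ h0)]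
  · rintro (rfl | rfl)
    · exact hline 0
    · exact hline 1


/-- Let the finite group G have a faithful irreducible character χ of degree 2 that is primitive: χ is not induced from a character of any proper subgroup. Then the centre of G has index 12, 24 or 60. -/
theorem result {G : Type*} [Group G] [Fintype G] (χ : Cfsg.IrrCharacter G) (hfaith : ∀ g : G, (χ : G → ℂ) g = (χ : G → ℂ) 1 → g = 1) (h2 : Cfsg.charDegree (χ : G → ℂ) = 2) (hprim : ∀ H : Subgroup G, H ≠ ⊤ → ∀ θ : H → ℂ, Cfsg.IsCharacter H θ → (χ : G → ℂ) ≠ Cfsg.indFun H θ) : (Subgroup.center G).index = 12 ∨ (Subgroup.center G).index = 24 ∨ (Subgroup.center G).index = 60 := by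
  classical
  obtain ⟨d, -, hd⟩ := IsIrrCharacter.exists_apply_one χ.2
  have hd2 : d = 2 := by
    have : Cfsg.charDegree (χ : G → ℂ) = d := by simp [Cfsg.charDegree, hd]
    omega
  obtain ⟨n, ρ, hρ, hρχ⟩ := χ.2
  haveI := hρ
  have hn2 : n = 2 := by
    have h1 := hd
    rw [← hρχ, ρ.char_one, Module.finrank_fin_fun, hd2] at h1
    exact_mod_cast h1
  subst hn2
  have hinj : ∀ g h : G, ρ g = ρ h → g = h := by
    intro g h hgh
    refine mul_inv_eq_one.mp (hfaith _ ?_)
    rw [← hρχ, ρ.char_one, char_eq_finrank_iff, map_mul, hgh, ← map_mul, mul_inv_cancel, map_one]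
    rfl
  set Z := Subgroup.center G with hZdef
  have hsc : ∀ g : G, g ∈ Z ↔ ∃ c : ℂ, ρ g = c • LinearMap.id := by
    intro g
    constructor
    · intro hg
      exact exists_smul_of_commute ρ (ρ g) fun x => by
        rw [← map_mul, ← map_mul, Subgroup.mem_center_iff.mp hg x]
    · rintro ⟨c, hc⟩
      exact Subgroup.mem_center_iff.mpr fun x => hinj _ _ (by
        rw [map_mul, map_mul, hc, ← Module.End.one_eq_id, mul_smul_comm, smul_mul_assoc, mul_one, one_mul])
  have hlines : ∀ g ∉ Z, ∃ v w : Fin 2 → ℂ, ℂ ∙ v ≠ ℂ ∙ w ∧ v ≠ 0 ∧ w ≠ 0 ∧ IsCompl (ℂ ∙ v) (ℂ ∙ w) ∧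
      ∀ L : Submodule ℂ (Fin 2 → ℂ), finrank ℂ L = 1 → (L.map (ρ g) = L ↔ L = ℂ ∙ v ∨ L = ℂ ∙ w) :=
    fun g hg => two_lines (ρ g) Nat.card_pos.ne' (rep_pow_card ρ g)
      fun c hc => hg ((hsc g).mpr ⟨c, hc⟩)
  have hmapmap : ∀ (g h : G) (L : Submodule ℂ (Fin 2 → ℂ)), (L.map (ρ h)).map (ρ g) = L.map (ρ (g * h)) := by
    intro g h L
    rw [← Submodule.map_comp, map_mul]; rfl
  have hmapone : ∀ L : Submodule ℂ (Fin 2 → ℂ), L.map (ρ 1) = L := fun L => by
    rw [map_one]; exact Submodule.map_id L
  let P : Submodule ℂ (Fin 2 → ℂ) → Prop := fun L => finrank ℂ L = 1 ∧ ∃ g ∉ Z, L.map (ρ g) = L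
  have hP : ∀ (g : G) L, P L → P (L.map (ρ g)) := by
    rintro g L ⟨h1, h, hh, hfix⟩
    refine ⟨?_, g * h * g⁻¹, fun hmem => hh ?_, ?_⟩
    · refine (LinearEquiv.finrank_eq (Submodule.equivMapOfInjective _ ?_ L).symm).trans h1
      intro a b hab
      have := congrArg (ρ g⁻¹) hab
      rwa [← Module.End.mul_apply, ← Module.End.mul_apply, ← map_mul, inv_mul_cancel, map_one,
        Module.End.one_apply, Module.End.one_apply] at this
    · have := (inferInstance : Z.Normal).conj_mem _ hmem g⁻¹
      simpa [mul_assoc] using this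
    · rw [hmapmap, inv_mul_cancel_right, ← hmapmap, hfix]
  let X := {L : Submodule ℂ (Fin 2 → ℂ) // P L}
  letI : MulAction G X :=
    { smul := fun g L => ⟨L.1.map (ρ g), hP g L.1 L.2⟩
      one_smul := fun L => Subtype.ext (hmapone L.1)
      mul_smul := fun g h L => Subtype.ext (hmapmap g h L.1).symm }
  have hsmul : ∀ (g : G) (L : X), ((g • L : X) : Submodule ℂ (Fin 2 → ℂ)) = L.1.map (ρ g) := fun g L => rfl
  -- fixed lines
  choose v w hvw hv0 hw0 hcompl hfix using hlines
  have hPv : ∀ g (hg : g ∉ Z), P (ℂ ∙ v g hg) := fun g hg =>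
    ⟨finrank_span_singleton (hv0 g hg), g, hg, (hfix g hg _ (finrank_span_singleton (hv0 g hg))).mpr (Or.inl rfl)⟩
  have hPw : ∀ g (hg : g ∉ Z), P (ℂ ∙ w g hg) := fun g hg =>
    ⟨finrank_span_singleton (hw0 g hg), g, hg, (hfix g hg _ (finrank_span_singleton (hw0 g hg))).mpr (Or.inr rfl)⟩
  haveI hXfin : Finite X := by
    have hs : {L : Submodule ℂ (Fin 2 → ℂ) | P L} ⊆
        ⋃ g : {g : G // g ∉ Z}, {ℂ ∙ v g.1 g.2, ℂ ∙ w g.1 g.2} := by
      rintro L ⟨h1, g, hg, hgL⟩
      refine Set.mem_iUnion.mpr ⟨⟨g, hg⟩, ?_⟩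
      exact (hfix g hg L h1).mp hgL
    exact ((Set.finite_iUnion fun g => Set.toFinite _).subset hs).to_subtype
  haveI : Fintype X := Fintype.ofFinite X
  have hcard2 : ∀ g ∉ Z, Fintype.card (MulAction.fixedBy X g) = 2 := by
    intro g hg
    rw [Fintype.card_eq_nat_card, Nat.card_eq_two_iff]
    refine ⟨⟨⟨_, hPv g hg⟩, Subtype.ext ((hfix g hg _ (hPv g hg).1).mpr (Or.inl rfl))⟩,
      ⟨⟨_, hPw g hg⟩, Subtype.ext ((hfix g hg _ (hPw g hg).1).mpr (Or.inr rfl))⟩, ?_, ?_⟩
    · intro h
      exact hvw g hg (congrArg (fun x : MulAction.fixedBy X g => x.1.1) h)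
    · refine Set.eq_univ_of_forall fun L => ?_
      rcases (hfix g hg L.1.1 L.1.2.1).mp (congrArg Subtype.val L.2) with h | h
      · exact Or.inl (Subtype.ext (Subtype.ext h))
      · exact Or.inr (Subtype.ext (Subtype.ext h))
  have hcardZ : ∀ g ∈ Z, Fintype.card (MulAction.fixedBy X g) = Fintype.card X := by
    intro g hg
    refine Fintype.card_congr (Equiv.subtypeUnivEquiv fun L => ?_)
    obtain ⟨c, hc⟩ := (hsc g).mp hg
    refine Subtype.ext ?_
    show L.1.map (ρ g) = L.1
    have hc0 : c ≠ 0 := fun h => by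
      have h1 : ρ g * ρ g⁻¹ = 1 := by rw [← map_mul, mul_inv_cancel, map_one]
      rw [hc, h, zero_smul, zero_mul] at h1
      exact zero_ne_one h1
    rw [hc, Submodule.map_smul _ _ c hc0]
    exact Submodule.map_id L.1
  haveI : Fintype (MulAction.orbitRel.Quotient G X) := Fintype.ofFinite _
  have hburn := MulAction.sum_card_fixedBy_eq_card_orbits_mul_card_group G X
  rw [← Finset.sum_filter_add_sum_filter_not Finset.univ (fun g => g ∈ Z),
    Finset.sum_congr rfl (fun g hg => hcardZ g (Finset.mem_filter.mp hg).2),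
    Finset.sum_congr rfl (fun g hg => hcard2 g (Finset.mem_filter.mp hg).2),
    Finset.sum_const, Finset.sum_const, smul_eq_mul, smul_eq_mul] at hburn
  have hGcard := Finset.card_filter_add_card_filter_not (s := (Finset.univ : Finset G)) (fun g => g ∈ Z)
  have hzc : (Finset.univ.filter fun g => g ∈ Z).card = Nat.card Z := by
    rw [← Fintype.card_subtype, Fintype.card_eq_nat_card]
  set z := Nat.card Z with hz
  set N := Z.index with hN
  have hG : Fintype.card G = z * N := by
    rw [Fintype.card_eq_nat_card, ← Z.card_mul_index]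
  rw [hzc] at hburn hGcard
  rw [Finset.card_univ, hG] at hGcard
  have hz0 : 0 < z := Nat.card_pos
  -- the orbits
  let Ω := MulAction.orbitRel.Quotient G X
  have horb : ∀ o : Ω, ∃ s e : ℕ, Nat.card o.orbit = s ∧ s * e = N ∧ 2 ≤ e ∧ 3 ≤ s := by
    intro o
    obtain ⟨L, rfl⟩ := Quotient.exists_rep o
    erw [MulAction.orbitRel.Quotient.orbit_mk L]
    set S := MulAction.stabilizer G L with hS
    have hZS : Z ≤ S := fun g hg => by
      obtain ⟨c, hc⟩ := (hsc g).mp hg
      have hc0 : c ≠ 0 := fun h => by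
        have h1 : ρ g * ρ g⁻¹ = 1 := by rw [← map_mul, mul_inv_cancel, map_one]
        rw [hc, h, zero_smul, zero_mul] at h1
        exact zero_ne_one h1
      refine MulAction.mem_stabilizer_iff.mpr (Subtype.ext ?_)
      show L.1.map (ρ g) = L.1
      rw [hc, Submodule.map_smul _ _ c hc0]
      exact Submodule.map_id L.1
    have horbit : Nat.card (MulAction.orbit G L) = S.index := (MulAction.index_stabilizer G L).symm
    have hmul : S.index * Z.relIndex S = N := by
      rw [mul_comm]; exact Subgroup.relIndex_mul_index hZS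
    refine ⟨_, Z.relIndex S, horbit, hmul, ?_, ?_⟩
    · by_contra hlt
      have h0 : Z.relIndex S ≠ 0 := Subgroup.index_ne_zero_of_finite
      obtain ⟨g, hg, hgfix⟩ := L.2.2
      have hle : S ≤ Z := Subgroup.relIndex_eq_one.mp (by omega)
      exact hg (hle (MulAction.mem_stabilizer_iff.mpr (Subtype.ext hgfix)))
    · by_contra hlt
      push Not at hlt
      have hpos : 0 < S.index := Nat.pos_of_ne_zero Subgroup.index_ne_zero_of_finite
      have hL1 : finrank ℂ L.1 = 1 := L.2.1
      rcases (show S.index = 1 ∨ S.index = 2 by omega) with h1 | h2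
      · have htop : S = ⊤ := Subgroup.index_eq_one.mp h1
        rcases (isIrreducible_iff_forall ρ).mp hρ |>.2 L.1 (fun g x hx => by
            have := MulAction.mem_stabilizer_iff.mp (htop ▸ Subgroup.mem_top g : g ∈ S)
            exact (congrArg Subtype.val this) ▸ Submodule.mem_map_of_mem hx) with hb | ht
        · rw [hb, finrank_bot] at hL1; omega
        · rw [ht, finrank_top, Module.finrank_fin_fun] at hL1; omega
      · obtain ⟨a, ha⟩ := Subgroup.index_eq_two_iff.mp h2
        have haS : a ∉ S := fun hh => by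
          have := ha a
          rcases this with ⟨h3, h4⟩ | ⟨h3, h4⟩
          · exact h4 hh
          · exact h4 (mul_mem hh hh)
        set M := (a • L : X) with hM
        have hne : L.1 ≠ M.1 := fun h => haS (MulAction.mem_stabilizer_iff.mpr (Subtype.ext h.symm))
        have horb2 : ∀ g : G, g • L = L ∨ g • L = M := by
          intro g
          have hset : ({L, M} : Set X) = MulAction.orbit G L := by
            refine Set.eq_of_subset_of_ncard_le ?_ ?_ (Set.toFinite _)
            · intro x hx
              rcases hx with rfl | rfl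
              · exact MulAction.mem_orbit_self _
              · exact MulAction.mem_orbit _ a
            · rw [Set.ncard_pair (fun h => hne (congrArg Subtype.val h)), ← Nat.card_coe_set_eq, horbit, h2]
          have := hset.ge (MulAction.mem_orbit L g)
          simpa using this
        have hcomp : IsCompl L.1 M.1 := by
          have hd : Disjoint L.1 M.1 := by
            rw [disjoint_iff]
            by_contra hb
            have h5 : finrank ℂ (L.1 ⊓ M.1 : Submodule ℂ (Fin 2 → ℂ)) ≠ 0 := fun h5 => hb (Submodule.finrank_eq_zero.mp h5)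
            have h6 := Submodule.finrank_mono (inf_le_left : L.1 ⊓ M.1 ≤ L.1)
            have h7 := Submodule.eq_of_le_of_finrank_le (inf_le_left : L.1 ⊓ M.1 ≤ L.1) (by rw [hL1]; omega)
            exact hne (Submodule.eq_of_le_of_finrank_le (inf_eq_left.mp h7) (by rw [hL1, M.2.1]))
          exact (Submodule.isCompl_iff_disjoint _ _ (by rw [hL1, M.2.1, Module.finrank_fin_fun])).mpr hd
        set e := Submodule.projection L.1 M.1 hcomp with he
        have heL : ∀ x ∈ L.1, e x = x := fun x hx => Submodule.projection_apply_left hcomp ⟨x, hx⟩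
        have heM : ∀ x ∈ M.1, e x = 0 := fun x hx => Submodule.projection_apply_right hcomp ⟨x, hx⟩
        have hdec : ∀ x, ∃ y ∈ L.1, ∃ y' ∈ M.1, x = y + y' := fun x => by
          obtain ⟨y, hy, y', hy', h⟩ := Submodule.mem_sup.mp (hcomp.sup_eq_top.ge (Submodule.mem_top : x ∈ ⊤))
          exact ⟨y, hy, y', hy', h.symm⟩
        obtain ⟨x0, hx0, hx00⟩ := Submodule.exists_mem_ne_zero_of_ne_bot (p := L.1) (fun h => by rw [h, finrank_bot] at hL1; omega)
        obtain ⟨y0, hy0, hy00⟩ := Submodule.exists_mem_ne_zero_of_ne_bot (p := M.1) (fun h => by have := M.2.1; rw [h, finrank_bot] at this; omega)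
        obtain ⟨J, ψ, hJ, -, hψ, hind⟩ := exists_indFun_of_idempotent ρ (e := e)
          (LinearMap.ext fun x => by
            obtain ⟨y, hy, y', hy', rfl⟩ := hdec x
            simp [Module.End.mul_apply, heL y hy, heM y' hy'])
          (fun h => hx00 (by rw [← heL x0 hx0, h]; rfl))
          (fun h => hy00 (by rw [← heM y0 hy0, h]; rfl))
          (fun g => by
            have hgM : ∀ x : X, (g • x : X).1 = x.1.map (ρ g) := fun x => rfl
            have hinvm : ∀ (A B : X), g • A = B → ∀ x ∈ B.1, ρ g⁻¹ x ∈ A.1 := by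
              intro A B hAB x hx
              have : g⁻¹ • B = A := by rw [← hAB, inv_smul_smul]
              rw [← this]
              exact Submodule.mem_map_of_mem hx
            have hgg : ∀ x, ρ g (ρ g⁻¹ x) = x := fun x => by
              rw [← Module.End.mul_apply, ← map_mul, mul_inv_cancel, map_one, Module.End.one_apply]
            rcases horb2 g with hgL | hgL
            · left
              have hgM' : g • M = M := by
                rcases horb2 (g * a) with h | h
                · exfalso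
                  rw [mul_smul, ← hM] at h
                  exact hne (congrArg Subtype.val (MulAction.injective g (hgL.trans h.symm)))
                · rwa [mul_smul, ← hM] at h
              refine LinearMap.ext fun x => ?_
              obtain ⟨y, hy, y', hy', rfl⟩ := hdec x
              simp only [Module.End.mul_apply, map_add, heL _ (hinvm L L hgL y hy),
                heM _ (hinvm M M hgM' y' hy'), heL y hy, heM y' hy', map_zero, hgg]
            · right
              have hgM' : g • M = L := by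
                rcases horb2 (g * a) with h | h
                · rwa [mul_smul, ← hM] at h
                · exfalso
                  rw [mul_smul, ← hM] at h
                  exact hne (congrArg Subtype.val (MulAction.injective g (hgL.trans h.symm)))
              refine LinearMap.ext fun x => ?_
              obtain ⟨y, hy, y', hy', rfl⟩ := hdec x
              simp only [Module.End.mul_apply, map_add, heL y hy, heM y' hy', map_zero, add_zero,
                heM _ (hinvm M L hgM' y hy), LinearMap.zero_apply])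
        exact hprim J hJ ψ hψ (by rw [hind, hρχ])
  choose s e hs hse he2 hs3 using horb
  have hXsum : Fintype.card X = ∑ o : Ω, s o := by
    rw [Fintype.card_congr (MulAction.selfEquivSigmaOrbits' G X), Fintype.card_sigma]
    refine Finset.sum_congr rfl fun o _ => ?_
    rw [← hs o, ← Fintype.card_eq_nat_card]
  have hxub : 2 * (∑ o : Ω, s o) ≤ Fintype.card Ω * N := by
    rw [Finset.mul_sum, ← smul_eq_mul, ← Finset.card_univ, ← Finset.sum_const]
    refine Finset.sum_le_sum fun o _ => ?_
    rw [← hse o, mul_comm 2]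
    exact Nat.mul_le_mul_left _ (he2 o)
  have hxlb : 3 * Fintype.card Ω ≤ ∑ o : Ω, s o := by
    rw [mul_comm, ← smul_eq_mul, ← Finset.card_univ, ← Finset.sum_const]
    exact Finset.sum_le_sum fun o _ => hs3 o
  rw [hXsum, hG] at hburn
  set x := ∑ o : Ω, s o with hx
  set r := Fintype.card Ω with hr
  have hkey : x + 2 * N = r * N + 2 := by
    apply Nat.eq_of_mul_eq_mul_left hz0
    nlinarith
  have hN2 : 2 ≤ N := by
    by_contra hlt
    have hN0 : N ≠ 0 := Subgroup.index_ne_zero_of_finite
    have htop : Z = ⊤ := Subgroup.index_eq_one.mp (by omega)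
    have hcomm : ∀ a b : G, a * b = b * a := fun a b =>
      Subgroup.mem_center_iff.mp (htop ▸ Subgroup.mem_top b : b ∈ Z) a
    have h1 := IsIrrCharacter.apply_one_of_comm hcomm χ.2
    rw [hd, hd2] at h1
    norm_num at h1
  have hr3 : r = 3 := by
    have h4 : r ≤ 3 := by
      by_contra hlt
      have : 4 * N ≤ r * N := Nat.mul_le_mul_right N (by omega)
      omega
    interval_cases r <;> omega
  let eq3 := Fintype.equivFinOfCardEq (α := Ω) hr3
  have hsum3 : s (eq3.symm 0) + s (eq3.symm 1) + s (eq3.symm 2) = N + 2 := by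
    have h5 : x = ∑ i : Fin 3, s (eq3.symm i) := (Equiv.sum_comp eq3.symm s).symm
    rw [Fin.sum_univ_three] at h5
    rw [hr3] at hkey
    omega
  exact arith (hse _) (hse _) (hse _) (hs3 _) (hs3 _) (hs3 _) (he2 _) (he2 _) (he2 _) hsum3

end Cfsg.Agent.S4473
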