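import Cfsg.Statements.S4474
import Mathlib
import Cfsg.Agent.S4475
import Cfsg.Agent.Lib.Characters.Equiv
import Cfsg.Agent.Lib.Characters.FrobeniusSchur

set_option autoImplicit false
open Cfsg

namespace Cfsg.Agent.S4474

open scoped ComplexOrder in
open Matrix in
open scoped ComplexConjugate in
/-- An absolutely irreducible matrix group with a symmetric invariant form has a real form. -/
theorem exists_real_form {G : Type*} [Group G] [Fintype G] {n : ℕ} (ρ : Representation ℂ G (Fin n → ℂ))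
    (hirr : ρ.IsIrreducible) (B : Matrix (Fin n) (Fin n) ℂ) (hB0 : B ≠ 0)
    (hBinv : ∀ g : G, (LinearMap.toMatrix' (ρ g))ᵀ * B * LinearMap.toMatrix' (ρ g) = B) (hBs : Bᵀ = B) :
    ∃ (m : ℕ) (σ : Representation ℝ G (Fin m → ℝ)),
      ∀ g : G, ((LinearMap.trace ℝ (Fin m → ℝ) (σ g) : ℝ) : ℂ) = ρ.character g := by
  classical
  haveI := hirr
  obtain ⟨hnt, hsub⟩ := (Lib.Characters.isIrreducible_iff_forall ρ).mp hirr
  let A : G →* Matrix (Fin n) (Fin n) ℂ :=
    { toFun := fun g => LinearMap.toMatrix' (ρ g)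
      map_one' := by rw [map_one]; exact LinearMap.toMatrix'_id
      map_mul' := fun g h => by rw [map_mul]; exact LinearMap.toMatrix'_comp _ _ }
  have hAρ : ∀ g x, ρ g x = A g *ᵥ x := fun g x => (LinearMap.toMatrix'_mulVec (ρ g) x).symm
  have hAi : ∀ g, A g⁻¹ * A g = 1 := fun g => by rw [← map_mul, inv_mul_cancel, map_one]
  -- invariant hermitian form
  set H : Matrix (Fin n) (Fin n) ℂ := ∑ g, (A g)ᴴ * A g with hH
  have hHinv : ∀ g, (A g)ᴴ * H * A g = H := by
    intro g
    rw [hH, Matrix.mul_sum, Matrix.sum_mul]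
    refine Fintype.sum_equiv (Equiv.mulRight g) _ _ fun h => ?_
    rw [Equiv.coe_mulRight, map_mul, Matrix.conjTranspose_mul]
    simp only [Matrix.mul_assoc]
  have hHp : H.PosDef := by
    refine Matrix.posDef_sum Finset.univ_nonempty fun g _ => Matrix.PosDef.conjTranspose_mul_self _ ?_
    refine Function.LeftInverse.injective (g := fun x => A g⁻¹ *ᵥ x) fun x => ?_
    simp only [Matrix.mulVec_mulVec, hAi, Matrix.one_mulVec]
  set H' := Hᵀ with hH'
  have hH'p : H'.PosDef := hHp.transpose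
  have hH'u : IsUnit H'.det := (Matrix.isUnit_iff_isUnit_det H').mp hH'p.isUnit
  have hH'inv : ∀ g, (A g)ᵀ * H' * (A g).map conj = H' := by
    intro g
    have h := congrArg Matrix.transpose (hHinv g)
    rw [Matrix.transpose_mul, Matrix.transpose_mul, ← Matrix.mul_assoc] at h
    exact h
  set C : Matrix (Fin n) (Fin n) ℂ := H'⁻¹ * B with hC
  have hCA : ∀ g, C * A g = (A g).map conj * C := by
    intro g
    have hAT : ∀ X Y : Matrix (Fin n) (Fin n) ℂ, (A g)ᵀ * X = (A g)ᵀ * Y → X = Y := fun X Y e => by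
      have hl : (A g⁻¹)ᵀ * (A g)ᵀ = 1 := by
        rw [← Matrix.transpose_mul, ← map_mul, mul_inv_cancel, map_one, Matrix.transpose_one]
      have := congrArg ((A g⁻¹)ᵀ * ·) e
      simpa only [← Matrix.mul_assoc, hl, Matrix.one_mul] using this
    have h1 : H' * (A g).map conj * C = B * A g := by
      refine hAT _ _ ?_
      rw [hC]
      simp only [← Matrix.mul_assoc]
      rw [hH'inv g, Matrix.mul_nonsing_inv _ hH'u, Matrix.one_mul]
      exact (hBinv g).symm
    rw [hC, Matrix.mul_assoc, ← h1, hC]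
    simp only [← Matrix.mul_assoc]
    rw [Matrix.nonsing_inv_mul _ hH'u, Matrix.one_mul]
  have hconjmap : ∀ M : Matrix (Fin n) (Fin n) ℂ, (M.map conj).map conj = M := fun M =>
    Matrix.ext fun i j => Complex.conj_conj _
  set D := C.map conj * C with hD
  have hDA : ∀ g, D * A g = A g * D := by
    intro g
    have h2 := congrArg (fun M : Matrix (Fin n) (Fin n) ℂ => M.map conj) (hCA g)
    simp only [Matrix.map_mul, hconjmap] at h2
    rw [hD, Matrix.mul_assoc, hCA g, ← Matrix.mul_assoc, h2, Matrix.mul_assoc]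
  obtain ⟨μ, hμ⟩ : ∃ μ : ℂ, D = μ • (1 : Matrix (Fin n) (Fin n) ℂ) := by
    obtain ⟨μ, hμ⟩ := Module.End.exists_eigenvalue (Matrix.toLin' D)
    refine ⟨μ, ?_⟩
    rcases hsub (Module.End.eigenspace (Matrix.toLin' D) μ) (fun g x hx => by
      rw [Module.End.mem_eigenspace_iff, Matrix.toLin'_apply] at hx ⊢
      rw [hAρ, Matrix.mulVec_mulVec, hDA, ← Matrix.mulVec_mulVec, hx, Matrix.mulVec_smul]) with h | h
    · exact absurd h hμ
    · refine Matrix.toLin'.injective (LinearMap.ext fun x => ?_)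
      have hx : x ∈ Module.End.eigenspace (Matrix.toLin' D) μ := h ▸ Submodule.mem_top
      rw [Module.End.mem_eigenspace_iff] at hx
      rw [hx, map_smul, Matrix.toLin'_one, LinearMap.smul_apply, LinearMap.id_apply]
  -- `μ` is a positive real
  obtain ⟨l, hl0, hlμ⟩ : ∃ l : ℝ, 0 < l ∧ (l : ℂ) = μ := by
    have h1 : (H'⁻¹).map conj = H⁻¹ := by
      have : H'⁻¹ = (H⁻¹)ᵀ := by rw [hH', Matrix.transpose_nonsing_inv]
      rw [this]
      exact hHp.inv.isHermitian
    have h2 : Bᴴ * H'⁻¹ * B = μ • H := by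
      have hBc : B.map conj = Bᴴ := by conv_lhs => rw [← hBs]
                                       rfl
      have h3 : D = H⁻¹ * (Bᴴ * H'⁻¹ * B) := by
        rw [hD, hC, Matrix.map_mul, h1, hBc]
        simp only [Matrix.mul_assoc]
      rw [hμ] at h3
      have h4 := congrArg (H * ·) h3
      change H * (μ • (1 : Matrix (Fin n) (Fin n) ℂ)) = H * (H⁻¹ * (Bᴴ * H'⁻¹ * B)) at h4
      rw [← Matrix.mul_assoc H H⁻¹, Matrix.mul_nonsing_inv _ ((Matrix.isUnit_iff_isUnit_det H).mp hHp.isUnit),
        Matrix.one_mul, Matrix.mul_smul, Matrix.mul_one] at h4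
      exact h4.symm
    obtain ⟨x, hx⟩ : ∃ x, B *ᵥ x ≠ 0 := by
      by_contra hc
      push Not at hc
      exact hB0 (Matrix.toLin'.injective (LinearMap.ext fun x => by simpa using hc x))
    have hx0 : x ≠ 0 := fun e => hx (by rw [e, Matrix.mulVec_zero])
    have hp1 := hH'p.inv.dotProduct_mulVec_pos hx
    have hp2 := hHp.dotProduct_mulVec_pos hx0
    have h5 : star (B *ᵥ x) ⬝ᵥ (H'⁻¹ *ᵥ (B *ᵥ x)) = μ * (star x ⬝ᵥ (H *ᵥ x)) := by
      rw [Matrix.star_mulVec, ← Matrix.dotProduct_mulVec, Matrix.mulVec_mulVec, Matrix.mulVec_mulVec, h2,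
        Matrix.smul_mulVec, dotProduct_smul, smul_eq_mul]
    rw [h5] at hp1
    obtain ⟨ha, ha'⟩ := Complex.pos_iff.mp hp2
    obtain ⟨hb, hb'⟩ := Complex.pos_iff.mp hp1
    rw [Complex.mul_re, ← ha', mul_zero, sub_zero] at hb
    rw [Complex.mul_im, ← ha', mul_zero, zero_add, eq_comm, mul_eq_zero] at hb'
    have him : μ.im = 0 := hb'.resolve_right ha.ne'
    exact ⟨μ.re, (mul_pos_iff_of_pos_right ha).mp hb, Complex.ext rfl him.symm⟩
  set r : ℝ := (Real.sqrt l)⁻¹ with hr
  set K : Matrix (Fin n) (Fin n) ℂ := (r : ℂ) • C with hK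
  let J : (Fin n → ℂ) → (Fin n → ℂ) := fun v => star (K *ᵥ v)
  have hstar : ∀ (M : Matrix (Fin n) (Fin n) ℂ) v, star (M *ᵥ v) = M.map conj *ᵥ star v := fun M v => by
    funext i
    simp [Matrix.mulVec, dotProduct, Pi.star_apply, map_sum]
  have hJJ : ∀ v, J (J v) = v := by
    intro v
    show star (K *ᵥ star (K *ᵥ v)) = v
    rw [hstar, star_star, Matrix.mulVec_mulVec]
    have hKc : K.map conj = (r : ℂ) • C.map conj := by
      ext i j
      simp [hK]
    rw [hKc, hK, Matrix.smul_mul, Matrix.mul_smul, smul_smul, ← hD, hμ, smul_smul, ← hlμ]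
    have : ((r : ℂ) * r * l) = 1 := by
      rw [← Complex.ofReal_mul, ← Complex.ofReal_mul, hr, ← Complex.ofReal_one, Complex.ofReal_inj, ← mul_inv,
        Real.mul_self_sqrt hl0.le, inv_mul_cancel₀ hl0.ne']
    rw [this, one_smul, Matrix.one_mulVec]
  have hJadd : ∀ u v, J (u + v) = J u + J v := fun u v => by
    show star (K *ᵥ (u + v)) = _
    rw [Matrix.mulVec_add, star_add]
  have hJsmul : ∀ (c : ℂ) v, J (c • v) = conj c • J v := fun c v => by
    show star (K *ᵥ (c • v)) = _
    rw [Matrix.mulVec_smul, star_smul]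
    rfl
  have hJA : ∀ g v, J (ρ g v) = ρ g (J v) := by
    intro g v
    show star (K *ᵥ ρ g v) = ρ g (star (K *ᵥ v))
    rw [hAρ, hAρ, Matrix.mulVec_mulVec, hK, Matrix.smul_mul, hCA, ← Matrix.mul_smul, ← Matrix.mulVec_mulVec, hstar,
      hconjmap]
  have hJr : ∀ (c : ℝ) v, J (c • v) = c • J v := fun c v => by
    rw [← algebraMap_smul ℂ c v, hJsmul, Complex.coe_algebraMap, Complex.conj_ofReal]
    exact algebraMap_smul ℂ c (J v)
  let W : Submodule ℝ (Fin n → ℂ) :=
    { carrier := {v | J v = v}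
      add_mem' := fun {u v} hu hv => by rw [Set.mem_setOf_eq, hJadd, hu, hv]
      zero_mem' := by
        show star (K *ᵥ (0 : Fin n → ℂ)) = 0
        rw [Matrix.mulVec_zero, star_zero]
      smul_mem' := fun c v hv => by rw [Set.mem_setOf_eq, hJr, hv] }
  have hW : ∀ v, v ∈ W ↔ J v = v := fun v => Iff.rfl
  -- `ℂ^n = W ⊕ i W`
  have hsplit : ∀ v, ∃ a ∈ W, ∃ b ∈ W, v = a + Complex.I • b := by
    intro v
    refine ⟨(1 / 2 : ℂ) • (v + J v), ?_, (-Complex.I / 2) • (v - J v), ?_, ?_⟩
    · rw [hW, hJsmul, hJadd, hJJ, add_comm (J v)]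
      congr 1
      simp [map_ofNat]
    · rw [hW, hJsmul]
      have hsub : J (v - J v) = -(v - J v) := by
        rw [sub_eq_add_neg v, hJadd, ← neg_one_smul ℂ (J v), hJsmul, hJJ]
        simp only [map_neg, map_one, neg_one_smul]
        abel
      rw [hsub, smul_neg, ← neg_smul]
      congr 1
      simp [map_ofNat, Complex.conj_I, neg_div]
    · rw [smul_smul, smul_add, smul_sub]
      have : Complex.I * (-Complex.I / 2) = 1 / 2 := by
        rw [← mul_div_assoc, mul_neg, Complex.I_mul_I, neg_neg]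
      rw [this]
      module
  have huniq : ∀ a ∈ W, ∀ b ∈ W, a + Complex.I • b = 0 → a = 0 ∧ b = 0 := by
    intro a ha b hb h
    have h' := congrArg J h
    rw [hJadd, hJsmul, ha, hb, Complex.conj_I, show J 0 = 0 from W.zero_mem, neg_smul] at h'
    have ha0 : a = 0 := by
      have : (2 : ℂ) • a = 0 := by
        have := congrArg₂ (· + ·) h h'
        simp only [add_zero] at this
        rw [two_smul, ← this]
        abel
      exact (smul_eq_zero.mp this).resolve_left two_ne_zero
    rw [ha0, zero_add] at h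
    exact ⟨ha0, (smul_eq_zero.mp h).resolve_left Complex.I_ne_zero⟩
  let Φ : (W × W) →ₗ[ℝ] (Fin n → ℂ) :=
    { toFun := fun w => (w.1 : Fin n → ℂ) + Complex.I • (w.2 : Fin n → ℂ)
      map_add' := fun u v => by
        simp only [Prod.fst_add, Prod.snd_add, Submodule.coe_add, smul_add]
        abel
      map_smul' := fun c u => by
        simp only [Prod.smul_fst, Prod.smul_snd, Submodule.coe_smul, RingHom.id_apply, smul_add]
        rw [smul_comm] }
  have hΦ : Function.Bijective Φ := by
    constructor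
    · rw [← LinearMap.ker_eq_bot, LinearMap.ker_eq_bot']
      intro w hw
      obtain ⟨h1, h2⟩ := huniq _ w.1.2 _ w.2.2 hw
      exact Prod.ext (Subtype.ext h1) (Subtype.ext h2)
    · intro v
      obtain ⟨a, ha, b, hb, rfl⟩ := hsplit v
      exact ⟨(⟨a, ha⟩, ⟨b, hb⟩), rfl⟩
  have hdim : Module.finrank ℝ W = n := by
    have h := (LinearEquiv.ofBijective Φ hΦ).finrank_eq
    rw [Module.finrank_prod, Module.finrank_pi_fintype] at h
    simp only [Complex.finrank_real_complex, Finset.sum_const, Finset.card_univ, Fintype.card_fin, smul_eq_mul] at h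
    omega
  let bW := Module.finBasisOfFinrankEq ℝ W hdim
  have hspan : ⊤ ≤ Submodule.span ℂ (Set.range fun i => ((bW i : W) : Fin n → ℂ)) := by
    intro v _
    have hmemW : ∀ w : W, (w : Fin n → ℂ) ∈ Submodule.span ℂ (Set.range fun i => ((bW i : W) : Fin n → ℂ)) := by
      intro w
      have hw := bW.sum_repr w
      rw [← hw, Submodule.coe_sum]
      refine Submodule.sum_mem _ fun i _ => ?_
      rw [Submodule.coe_smul, ← algebraMap_smul ℂ]
      exact Submodule.smul_mem _ _ (Submodule.subset_span ⟨i, rfl⟩)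
    obtain ⟨a, ha, b, hb, rfl⟩ := hsplit v
    exact add_mem (hmemW ⟨a, ha⟩) (Submodule.smul_mem _ _ (hmemW ⟨b, hb⟩))
  let bC := basisOfTopLeSpanOfCardEqFinrank (fun i => ((bW i : W) : Fin n → ℂ)) hspan
    (by rw [Module.finrank_fin_fun, Fintype.card_fin])
  have hbC : ∀ i, bC i = ((bW i : W) : Fin n → ℂ) := fun i =>
    congrFun (coe_basisOfTopLeSpanOfCardEqFinrank _ hspan _) i
  let σW : Representation ℝ G W :=
    { toFun := fun g => ((ρ g).restrictScalars ℝ).restrict (p := W) (q := W) fun x hx => by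
        rw [hW] at hx ⊢
        show J (ρ g x) = ρ g x
        rw [hJA, hx]
      map_one' := by
        ext x : 2
        show ρ 1 (x : Fin n → ℂ) = x
        rw [map_one]
        rfl
      map_mul' := fun g h => by
        ext x : 2
        show ρ (g * h) (x : Fin n → ℂ) = ρ g (ρ h x)
        rw [map_mul]
        rfl }
  refine ⟨n, (Matrix.toLinAlgEquiv' (R := ℝ) (n := Fin n)).toMonoidHom.comp
    ((LinearMap.toMatrixAlgEquiv bW).toMonoidHom.comp σW), fun g => ?_⟩
  show ((LinearMap.trace ℝ _ (Matrix.toLin' (LinearMap.toMatrix bW bW (σW g))) : ℝ) : ℂ) = LinearMap.trace ℂ _ (ρ g)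
  rw [Matrix.trace_toLin'_eq, LinearMap.trace_eq_matrix_trace ℂ bC, Matrix.trace, Matrix.trace, Complex.ofReal_sum]
  refine Finset.sum_congr rfl fun i _ => ?_
  simp only [Matrix.diag_apply, LinearMap.toMatrix_apply]
  have h6 : ρ g (bC i) = ∑ j, ((bW.repr (σW g (bW i)) j : ℝ) : ℂ) • bC j := by
    rw [hbC]
    have hs := congrArg Subtype.val (bW.sum_repr (σW g (bW i)))
    rw [Submodule.coe_sum] at hs
    refine Eq.trans hs.symm (Finset.sum_congr rfl fun j _ => ?_)
    rw [hbC, Submodule.coe_smul]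
    exact (algebraMap_smul ℂ (bW.repr (σW g (bW i)) j) ((bW j : W) : Fin n → ℂ)).symm
  rw [h6]
  exact (congrFun (bC.repr_sum_self fun j => ((bW.repr (σW g (bW i)) j : ℝ) : ℂ)) i).symm

/-- Let χ be an irreducible character of the finite group G. Then the Frobenius–Schur indicator of χ (the average over s ∈ G of χ(s²)) equals 1 if and only if χ is afforded by a real representation: there is a representation of G on a real coordinate space whose trace function, viewed in ℂ, is χ. -/
theorem result {G : Type*} [Group G] [Fintype G] (χ : Cfsg.IrrCharacter G) : ((Nat.card G : ℂ)⁻¹ * ∑ s : G, (χ : G → ℂ) (s * s)) = 1 ↔ ∃ (n : ℕ) (ρ : Representation ℝ G (Fin n → ℝ)), ∀ g : G, ((LinearMap.trace ℝ (Fin n → ℝ) (ρ g) : ℝ) : ℂ) = (χ : G → ℂ) g := by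
  classical
  constructor
  · intro hν
    have hreal : ∀ s : G, ((χ : G → ℂ) s).im = 0 := by
      by_contra hc
      push Not at hc
      have := (Lib.Characters.frobeniusSchur χ.2).1 hc
      rw [hν] at this
      exact one_ne_zero this
    obtain ⟨n, ρ, hirr, hρ⟩ := χ.2
    obtain ⟨⟨M, hM0, hM⟩, hsym⟩ := Cfsg.Agent.S4475.result n ρ hirr (fun g => by rw [hρ]; exact hreal g)
    obtain ⟨m, σ, hσ⟩ := exists_real_form ρ hirr M hM0 hM (by
      have := hsym M hM
      rw [hρ, hν, one_smul] at this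
      exact this)
    exact ⟨m, σ, fun g => (hσ g).trans (congrFun hρ g)⟩
  · rintro ⟨m, σ, hσ⟩
    obtain ⟨n, ρ, hirr, hρ⟩ := χ.2
    let R : G →* Matrix (Fin m) (Fin m) ℂ :=
      ((algebraMap ℝ ℂ).mapMatrix.toMonoidHom).comp
        ((LinearMap.toMatrixAlgEquiv' (R := ℝ) (n := Fin m)).toMonoidHom.comp σ)
    let τ : Representation ℂ G (Fin m → ℂ) := (Matrix.toLinAlgEquiv' (R := ℂ) (n := Fin m)).toMonoidHom.comp R
    have hτ : τ.character = (χ : G → ℂ) := by
      funext g
      rw [← hσ g]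
      show LinearMap.trace ℂ _ (Matrix.toLin' ((LinearMap.toMatrix' (σ g)).map (algebraMap ℝ ℂ))) = _
      rw [Matrix.trace_toLin'_eq, LinearMap.trace_eq_matrix_trace ℝ (Pi.basisFun ℝ (Fin m))]
      exact (map_sum (algebraMap ℝ ℂ) _ _).symm
    haveI := hirr
    have hmn : m = n := by
      have h1 := congrFun (hτ.trans hρ.symm) 1
      rw [Representation.char_one, Representation.char_one, Module.finrank_fin_fun, Module.finrank_fin_fun] at h1
      exact_mod_cast h1
    obtain ⟨f, hf⟩ := Lib.Characters.exists_injective_intertwining ρ (Fin m → ℂ) τ (by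
      rw [hτ, ← hρ, sub_self]; exact Lib.Characters.isCharacter_zero)
    have hbij : Function.Bijective f.toLinearMap :=
      ⟨hf, (LinearMap.injective_iff_surjective_of_finrank_eq_finrank (by rw [hmn])).mp hf⟩
    have hτirr : τ.IsIrreducible := Lib.Characters.isIrreducible_of_equiv (ρ := ρ)
      (Representation.Equiv.mk (LinearEquiv.ofBijective f.toLinearMap hbij) fun g => by
        refine LinearMap.ext fun x => ?_
        exact Representation.IntertwiningMap.isIntertwining _ _ f g x)
    have hreal : ∀ g, (τ.character g).im = 0 := fun g => by rw [hτ, ← hσ g]; exact Complex.ofReal_im _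
    obtain ⟨-, hsym⟩ := Cfsg.Agent.S4475.result m τ hτirr hreal
    set S : Matrix (Fin m) (Fin m) ℝ := ∑ g, (LinearMap.toMatrix' (σ g)).transpose * LinearMap.toMatrix' (σ g) with hS
    set M : Matrix (Fin m) (Fin m) ℂ := S.map (algebraMap ℝ ℂ) with hM
    have hMinv : ∀ h : G, (LinearMap.toMatrix' (τ h)).transpose * M * LinearMap.toMatrix' (τ h) = M := by
      intro h
      have e : LinearMap.toMatrix' (τ h) = (LinearMap.toMatrix' (σ h)).map (algebraMap ℝ ℂ) :=
        LinearMap.toMatrix'_toLin' _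
      rw [e, ← Matrix.transpose_map, hM, ← Matrix.map_mul, ← Matrix.map_mul]
      congr 1
      rw [hS, Matrix.mul_sum, Matrix.sum_mul]
      refine Fintype.sum_equiv (Equiv.mulRight h) _ _ fun g => ?_
      rw [Equiv.coe_mulRight, map_mul,
        show LinearMap.toMatrix' (σ g * σ h) = LinearMap.toMatrix' (σ g) * LinearMap.toMatrix' (σ h) from
          LinearMap.toMatrix'_comp _ _, Matrix.transpose_mul]
      simp only [Matrix.mul_assoc]
    have hν := hsym M hMinv
    have hMT : M.transpose = M := by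
      rw [hM, ← Matrix.transpose_map, hS, Matrix.transpose_sum]
      simp only [Matrix.transpose_mul, Matrix.transpose_transpose]
    have hM0 : M ≠ 0 := by
      intro e
      have hi : 0 < m := by
        have := Lib.Characters.finrank_pos_of_isIrreducible τ
        rwa [Module.finrank_fin_fun] at this
      have h0 : S ⟨0, hi⟩ ⟨0, hi⟩ = 0 := by
        have := congrFun (congrFun e ⟨0, hi⟩) ⟨0, hi⟩
        simpa [hM] using this
      rw [hS, Matrix.sum_apply] at h0
      simp only [Matrix.mul_apply, Matrix.transpose_apply] at h0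
      have h1 := (Finset.sum_eq_zero_iff_of_nonneg (fun g _ => Finset.sum_nonneg fun j _ => mul_self_nonneg _)).mp h0 1 (Finset.mem_univ _)
      have h2 := (Finset.sum_eq_zero_iff_of_nonneg (fun j _ => mul_self_nonneg _)).mp h1 ⟨0, hi⟩ (Finset.mem_univ _)
      simp at h2
    rw [hMT] at hν
    rw [hτ] at hν
    by_contra hne
    exact hM0 ((smul_eq_zero.mp (show ((Nat.card G : ℂ)⁻¹ * ∑ s : G, (χ : G → ℂ) (s * s) - 1) • M = 0 by
      rw [sub_smul, one_smul, ← hν, sub_self])).resolve_left (sub_ne_zero.mpr hne))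

end Cfsg.Agent.S4474
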