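import Cfsg.Statements.S4477
import Cfsg.Agent.Lib.PGroups.InvolutionCount
import Cfsg.Agent.Lib.Components.PRank

set_option autoImplicit false
open Cfsg

namespace Cfsg.Agent.S4477

/-- Let G be a finite 2-group whose number of involutions is congruent to 1 modulo 4. Then G is cyclic or its commutator subgroup has index 4. -/
theorem result {G : Type*} [Group G] [Finite G] (hG : IsPGroup 2 G) (ht : Nat.card {x : G // orderOf x = 2} % 4 = 1) : IsCyclic G ∨ (commutator G).index = 4 := by

  classical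
  open Lib.PGroups.InvolutionCount in
  haveI : Fact (Nat.Prime 2) := ⟨Nat.prime_two⟩
  open Lib.PGroups.InvolutionCount in
  by_contra hcon
  push Not at hcon
  obtain ⟨hnc, hidx⟩ := hcon
  by_cases hall : ∀ B : Subgroup G, B.Normal → IsMulCommutative B → IsCyclic B
  · obtain ⟨-, h⟩ := Lib.Classification.classification_of_cyclic_normal_abelian hG hall hnc
    refine hidx ?_
    rcases h with ⟨m, ⟨e⟩⟩ | ⟨m, hm, ⟨e⟩⟩ | ⟨n, hn, hcard, x, y, hx, hy, hxy⟩
    · have hm : m ≠ 0 := by
        rintro rfl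
        haveI : Finite (QuaternionGroup 0) := Finite.of_equiv G e.toEquiv
        haveI : Finite (ZMod 0) := Finite.of_injective (fun i => QuaternionGroup.a (n := 0) i) (fun i j h => by simpa using h)
        exact not_finite (ZMod 0)
      haveI : NeZero m := ⟨hm⟩
      refine index_four_of_cyclic hG hnc (e.symm (QuaternionGroup.a 1)) (e.symm (QuaternionGroup.xa 0))
        (-1) ?_ ?_ ⟨-1, by norm_num⟩ ⟨-1, by norm_num⟩
      · have h := (Subgroup.zpowers (e.symm (QuaternionGroup.a 1))).card_mul_index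
        rw [Nat.card_zpowers, MulEquiv.orderOf_eq, QuaternionGroup.orderOf_a_one, Nat.card_congr e.toEquiv,
          Nat.card_eq_fintype_card, QuaternionGroup.card] at h
        nlinarith [Nat.pos_of_ne_zero hm]
      · rw [zpow_neg_one, ← map_inv, ← map_mul, ← map_mul, ← map_inv]
        congr 1
        rw [mul_inv_eq_iff_eq_mul]
        first
          | (show QuaternionGroup.xa _ = QuaternionGroup.a (-1) * QuaternionGroup.xa 0; simp)
          | simp
    · haveI : NeZero m := ⟨by omega⟩
      refine index_four_of_cyclic hG hnc (e.symm (DihedralGroup.r 1)) (e.symm (DihedralGroup.sr 0))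
        (-1) ?_ ?_ ⟨-1, by norm_num⟩ ⟨-1, by norm_num⟩
      · have h := (Subgroup.zpowers (e.symm (DihedralGroup.r 1))).card_mul_index
        rw [Nat.card_zpowers, MulEquiv.orderOf_eq, DihedralGroup.orderOf_r_one, Nat.card_congr e.toEquiv,
          DihedralGroup.nat_card] at h
        nlinarith
      · rw [zpow_neg_one, ← map_inv, ← map_mul, ← map_mul, ← map_inv]
        congr 1
        rw [mul_inv_eq_iff_eq_mul]
        simp
    · refine index_four_of_cyclic hG hnc x y ((2 ^ (n - 1) - 1 : ℕ) : ℤ) ?_ ?_ ?_ ?_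
      · have h := (Subgroup.zpowers x).card_mul_index
        rw [Nat.card_zpowers, hx, hcard, pow_succ] at h
        exact Nat.eq_of_mul_eq_mul_left (Nat.two_pow_pos n) h
      · rw [zpow_natCast]; exact hxy
      · refine ⟨(2 : ℤ) ^ (n - 3) - 1, ?_⟩
        obtain ⟨k, rfl⟩ : ∃ k, n = k + 3 := ⟨n - 3, by omega⟩
        rw [Nat.cast_sub (Nat.one_le_two_pow), show k + 3 - 1 = k + 2 by omega, Nat.add_sub_cancel]
        push_cast
        rw [pow_add, show (2 : ℤ) ^ k * 2 ^ 2 - 1 - 1 = 2 * (2 * 2 ^ k - 1) by ring,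
          Int.mul_ediv_cancel_left _ (by norm_num)]
        ring
      · obtain ⟨k, rfl⟩ : ∃ k, n = k + 3 := ⟨n - 3, by omega⟩
        refine ⟨(2 : ℤ) ^ (k + 1) - 1, ?_⟩
        rw [Nat.cast_sub (Nat.one_le_two_pow), show k + 3 - 1 = k + 2 by omega]
        push_cast
        ring
  push Not at hall
  obtain ⟨B, hBn, hBc, hBnc⟩ := hall
  haveI := hBn
  -- the elements of order dividing two of `B`
  let E : Subgroup G :=
    { carrier := {x | x ∈ B ∧ x ^ 2 = 1}
      one_mem' := ⟨one_mem B, one_pow 2⟩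
      mul_mem' := fun {a b} ha hb => ⟨mul_mem ha.1 hb.1, by
        have hab : Commute a b := congrArg Subtype.val (IsMulCommutative.is_comm.comm (⟨a, ha.1⟩ : B) ⟨b, hb.1⟩)
        rw [hab.mul_pow, ha.2, hb.2, one_mul]⟩
      inv_mem' := fun {a} ha => ⟨inv_mem ha.1, by rw [inv_pow, ha.2, inv_one]⟩ }
  haveI hEn : E.Normal := ⟨fun a ha g => ⟨hBn.conj_mem a ha.1 g, by rw [conj_pow, ha.2, mul_one, mul_inv_cancel]⟩⟩
  have hE4 : 4 ≤ Nat.card E := by
    by_contra hlt
    refine hBnc ?_
    have huniq : ∀ a b : B, orderOf a = 2 → orderOf b = 2 → a ∈ Subgroup.zpowers b := fun a b ha hb => by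
      by_contra hab
      apply hlt
      have hmem : ∀ x : B, orderOf x = 2 → (x : G) ∈ E := fun x hx => ⟨x.2, by
        rw [← Subgroup.coe_pow, ← hx, pow_orderOf_eq_one, Subgroup.coe_one]⟩
      have h1 : Subgroup.zpowers (b : G) ≤ E := Subgroup.zpowers_le.mpr (hmem b hb)
      obtain ⟨k, hk⟩ := (hG.to_subgroup E).exists_card_eq
      have hb2 : Nat.card (Subgroup.zpowers (b : G)) = 2 := by
        rw [Nat.card_zpowers, Subgroup.orderOf_coe, hb]
      have hne : Nat.card E ≠ 2 := fun h => hab (by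
        have heq := Subgroup.eq_of_le_of_card_ge h1 (by rw [hb2, h])
        obtain ⟨i, hi⟩ := Subgroup.mem_zpowers_iff.mp (heq.ge (hmem a ha))
        exact Subgroup.mem_zpowers_iff.mpr ⟨i, Subtype.ext (by rw [Subgroup.coe_zpow]; exact hi)⟩)
      have hge := Subgroup.card_le_of_le h1
      rw [hb2, hk] at hge
      rw [hk] at hne
      rcases k with _ | _ | k
      · norm_num at hge
      · norm_num at hne
      · rw [hk, pow_succ, pow_succ]; nlinarith [Nat.two_pow_pos k]
    rcases Lib.Frobenius.isCyclic_or_quaternion_of_unique (hG.to_subgroup B) (p := 2) huniq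
      with h | ⟨-, m, ⟨f⟩⟩
    · exact h
    · exfalso
      have h := congrArg f (hBc.is_comm.comm (f.symm (QuaternionGroup.xa 0)) (f.symm (QuaternionGroup.a 1)))
      simp only [map_mul, MulEquiv.apply_symm_apply, QuaternionGroup.xa_mul_a, QuaternionGroup.a_mul_xa,
        QuaternionGroup.xa.injEq, zero_add, zero_sub] at h
      rw [← add_eq_zero_iff_eq_neg] at h
      have h2 : ((2 : ℕ) : ZMod (2 * 2 ^ (m + 1))) = 0 := by rw [Nat.cast_two, show (2 : ZMod (2 * 2 ^ (m + 1))) = 1 + 1 from one_add_one_eq_two.symm]; exact h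
      rw [ZMod.natCast_eq_zero_iff, pow_succ] at h2
      have := Nat.le_of_dvd (by norm_num) h2
      nlinarith [Nat.two_pow_pos m]
  have hEab : Cfsg.IsElementaryAbelian 2 E := Lib.Components.eab_of_commute
    (fun a ha b hb => congrArg Subtype.val (hBc.is_comm.comm (⟨a, ha.1⟩ : B) ⟨b, hb.1⟩)) (fun a ha => ha.2)
  obtain ⟨V, hVn, hVE, -, hVc⟩ := Lib.Components.exists_normal_sq_le hG hEab (show 2 < Nat.card E by omega)
  haveI := hVn
  have h4 := four_dvd hG V hVc (fun v hv => (hVE hv).2) hidx hnc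
  have e : Nat.card {x : G // x ^ 2 = 1} = Nat.card {x : G // orderOf x = 2} + 1 := by
    rw [← Finite.card_option]
    refine Nat.card_congr (Equiv.ofBijective (fun o : Option {x : G // orderOf x = 2} =>
      o.elim (⟨1, one_pow 2⟩ : {x : G // x ^ 2 = 1}) (fun x => ⟨x, orderOf_dvd_iff_pow_eq_one.mp (dvd_of_eq x.2)⟩)) ⟨?_, ?_⟩).symm
    · rintro (_ | a) (_ | b) h
      · rfl
      · exact absurd b.2 (by rw [show (b : G) = 1 from (congrArg Subtype.val h).symm, orderOf_one]; norm_num)
      · exact absurd a.2 (by rw [show (a : G) = 1 from congrArg Subtype.val h, orderOf_one]; norm_num)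
      · exact congrArg some (Subtype.ext (by simpa using congrArg Subtype.val h))
    · rintro ⟨x, hx⟩
      by_cases h1 : x = 1
      · exact ⟨none, Subtype.ext h1.symm⟩
      · exact ⟨some ⟨x, orderOf_eq_prime hx h1⟩, rfl⟩
  omega

end Cfsg.Agent.S4477
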