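import Mathlib
import Cfsg.Statements.S4478
import Cfsg.Agent.Lib.Characters
import Cfsg.Agent.Lib.Characters.FrobeniusSchur
import Cfsg.Agent.Lib.Characters.Values
import Cfsg.Agent.Lib.Involutions.Basic

set_option autoImplicit false
open Cfsg

namespace Cfsg.Agent.S4478

/-- Let G be a finite group of even order and χ an irreducible character of G whose degree x is divisible by the full power of 2 dividing the order of G and, for every odd prime p such that G has an element of order 2p, by the full power of p dividing the order of G. Then all involutions of G are conjugate, the centralizer of every involution has order exactly x with x coprime to its index, and the Frobenius–Schur indicator of χ equals 1. -/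
theorem result {G : Type*} [Group G] [Fintype G] (heven : Even (Nat.card G)) (χ : Cfsg.IrrCharacter G) (h2 : 2 ^ (Nat.card G).factorization 2 ∣ Cfsg.charDegree (χ : G → ℂ)) (hp : ∀ p : ℕ, p.Prime → p ≠ 2 → (∃ g : G, orderOf g = 2 * p) → p ^ (Nat.card G).factorization p ∣ Cfsg.charDegree (χ : G → ℂ)) : (∀ s t : G, orderOf s = 2 → orderOf t = 2 → IsConj s t) ∧ (∀ s : G, orderOf s = 2 → Nat.card (Subgroup.centralizer ({s} : Set G)) = Cfsg.charDegree (χ : G → ℂ) ∧ (Nat.card (Subgroup.centralizer ({s} : Set G))).Coprime (Subgroup.centralizer ({s} : Set G)).index) ∧ (Nat.card G : ℂ)⁻¹ * ∑ g : G, (χ : G → ℂ) (g * g) = 1 := by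
  classical
  have : Fact (Nat.Prime 2) := ⟨Nat.prime_two⟩
  obtain ⟨x, hx0, hx1⟩ := Lib.Characters.IsIrrCharacter.exists_apply_one χ.2
  have hdeg : Cfsg.charDegree (χ : G → ℂ) = x := by
    simp [Cfsg.charDegree, hx1]
  rw [hdeg] at h2 hp ⊢
  -- vanishing
  have hvan : ∀ (p : ℕ), p.Prime → (p = 2 ∨ ∃ g : G, orderOf g = 2 * p) → ∀ y : G,
      p ∣ orderOf y → (χ : G → ℂ) y = 0 := by
    intro p hpp hcase y hy
    refine Lib.Characters.vanish_of_defect_zero χ.2 hpp hx1 ?_ hy
    rcases eq_or_ne p 2 with rfl | hne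
    · exact h2
    · exact hp p hpp hne (hcase.resolve_left hne)
  have hkey : ∀ g : G, g * g ≠ 1 → (χ : G → ℂ) (g * g) ≠ 0 → Odd (orderOf g) := by
    intro g hg1 hne
    by_contra hev
    rw [Nat.not_odd_iff_even] at hev
    obtain ⟨m, hm⟩ := hev.two_dvd
    have hgg : orderOf (g * g) = m := by
      rw [← pow_two, orderOf_pow, hm, Nat.gcd_mul_right_left, Nat.mul_div_cancel_left _ two_pos]
    have hm1 : m ≠ 1 := fun h => hg1 (orderOf_eq_one_iff.1 (hgg.trans h))
    obtain ⟨p, hpp, hpm⟩ := Nat.exists_prime_and_dvd hm1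
    refine hne (hvan p hpp (Or.inr ?_) _ (hgg ▸ hpm))
    obtain ⟨c, rfl⟩ := hpm
    refine ⟨g ^ c, ?_⟩
    have hc0 : 0 < c := Nat.pos_of_ne_zero (by rintro rfl; have := orderOf_pos g; rw [hm, Nat.mul_zero, Nat.mul_zero] at this; omega)
    rw [orderOf_pow, hm, show 2 * (p * c) = c * (2 * p) by ring, Nat.gcd_mul_right_left,
      Nat.mul_div_cancel_left _ hc0]
  set I := Finset.univ.filter (fun g : G => orderOf g = 2) with hI
  have htriv : ∑ g : G, (χ : G → ℂ) g = 0 := by
    have hne : (χ : G → ℂ) ≠ fun _ => 1 := by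
      intro h
      have hval : (x : ℂ) = 1 := by rw [← hx1, h]
      have h1 : x = 1 := by exact_mod_cast hval
      rw [h1, Nat.dvd_one, Nat.pow_eq_one] at h2
      have := (Nat.prime_two.dvd_iff_one_le_factorization Nat.card_pos.ne').1 heven.two_dvd
      omega
    have h := Lib.Characters.classInner_irr χ (Lib.Characters.trivIrr G)
    rw [if_neg (fun e => hne (by rw [e]; rfl))] at h
    simp only [classInner, Lib.Characters.trivIrr] at h
    simpa [Nat.card_pos.ne'] using h
  have hsum : ∑ g : G, (χ : G → ℂ) (g * g) = (I.card : ℂ) * x := by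
    have hO : ∑ g ∈ Finset.univ.filter (fun g : G => Odd (orderOf g)), (χ : G → ℂ) (g * g) = 0 := by
      rw [← htriv]
      refine Finset.sum_bij_ne_zero (fun g _ _ => g * g) (fun g _ _ => Finset.mem_univ _) ?_ ?_ ?_
      · intro g hg _ g' hg' _ e
        rw [Finset.mem_filter] at hg hg'
        obtain ⟨k, hk⟩ := hg.2
        obtain ⟨k', hk'⟩ := hg'.2
        have e1 : ∀ (a : G) (j : ℕ), orderOf a = 2 * j + 1 → (a * a) ^ (j + 1) = a := by
          intro a j hj
          rw [← pow_two, ← pow_mul, show 2 * (j + 1) = orderOf a + 1 by omega, pow_succ,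
            pow_orderOf_eq_one, one_mul]
        have hoe : orderOf (g * g) = orderOf g := by
          rw [← pow_two, orderOf_pow, hk, Nat.Coprime.gcd_eq_one (by simp), Nat.div_one]
        have hoe' : orderOf (g' * g') = orderOf g' := by
          rw [← pow_two, orderOf_pow, hk', Nat.Coprime.gcd_eq_one (by simp), Nat.div_one]
        have : k = k' := by
          have := congrArg orderOf e
          rw [hoe, hoe', hk, hk'] at this
          omega
        subst this
        rw [← e1 g k hk, ← e1 g' k hk']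
        rw [e]
      · intro u _ hu
        have hodd : Odd (orderOf u) := by
          by_contra h
          exact hu (hvan 2 Nat.prime_two (Or.inl rfl) u (Nat.not_odd_iff_even.1 h).two_dvd)
        obtain ⟨k, hk⟩ := hodd
        refine ⟨u ^ (k + 1), ?_, ?_, ?_⟩
        · rw [Finset.mem_filter]
          refine ⟨Finset.mem_univ _, ?_⟩
          exact Odd.of_dvd_nat (⟨k, hk⟩ : Odd (orderOf u)) (orderOf_pow_dvd _)
        · rw [← pow_add, show k + 1 + (k + 1) = orderOf u + 1 by omega, pow_succ, pow_orderOf_eq_one,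
            one_mul]
          exact hu
        · rw [← pow_add, show k + 1 + (k + 1) = orderOf u + 1 by omega, pow_succ, pow_orderOf_eq_one,
            one_mul]
      · intro g _ _; rfl
    rw [← Finset.sum_filter_add_sum_filter_not Finset.univ (fun g : G => Odd (orderOf g)), hO,
      zero_add, ← nsmul_eq_mul, ← Finset.sum_const]
    refine (Finset.sum_subset ?_ ?_).symm.trans (Finset.sum_congr rfl ?_)
    · intro g hg
      rw [hI, Finset.mem_filter] at hg
      exact Finset.mem_filter.2 ⟨hg.1, by rw [hg.2]; decide⟩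
    · intro g hg hg2
      rw [Finset.mem_filter] at hg
      by_contra hne
      refine hg.2 (hkey g (fun e => hg2 ?_) hne)
      rw [hI, Finset.mem_filter]
      refine ⟨hg.1, orderOf_eq_prime (by rw [pow_two, e]) ?_⟩
      rintro rfl
      exact hg.2 (by rw [orderOf_one]; exact odd_one)
    · intro g hg
      rw [hI, Finset.mem_filter] at hg
      rw [← pow_two, ← hg.2, pow_orderOf_eq_one, hx1]
  obtain ⟨h0, h1⟩ := Lib.Characters.frobeniusSchur χ.2
  have hgpos : (0 : ℝ) < Nat.card G := Nat.cast_pos.2 Nat.card_pos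
  have hIpos : 0 < I.card := by
    obtain ⟨t, ht⟩ := exists_prime_orderOf_dvd_card' (G := G) 2 heven.two_dvd
    exact Finset.card_pos.2 ⟨t, Finset.mem_filter.2 ⟨Finset.mem_univ _, ht⟩⟩
  have hν : (Nat.card G : ℂ)⁻¹ * ∑ g : G, (χ : G → ℂ) (g * g) = 1 := by
    have hv : ((Nat.card G : ℂ)⁻¹ * ∑ g : G, (χ : G → ℂ) (g * g)) =
        (((Nat.card G : ℝ)⁻¹ * ((I.card : ℝ) * x) : ℝ) : ℂ) := by rw [hsum]; push_cast; ring
    have hpos : (0 : ℝ) < (Nat.card G : ℝ)⁻¹ * ((I.card : ℝ) * x) := by positivity
    by_cases hre : ∃ s : G, ((χ : G → ℂ) s).im ≠ 0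
    · have h := h0 hre
      rw [hv, Complex.ofReal_eq_zero] at h
      exact absurd h hpos.ne'
    · obtain ⟨n, B, ε, -, -, hε, -, he⟩ := h1 (by simpa using hre)
      rw [he]
      rcases hε with hε | hε
      · exact hε
      · exfalso
        rw [hv, hε] at he
        have := congrArg Complex.re he
        rw [Complex.ofReal_re, Complex.neg_re, Complex.one_re] at this
        linarith
  have hcount : I.card * x = Nat.card G := by
    rw [hsum, inv_mul_eq_iff_eq_mul₀ (Nat.cast_ne_zero.2 Nat.card_pos.ne'), mul_one] at hν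
    exact_mod_cast hν
  -- centralisers
  have hC : ∀ s : G, orderOf s = 2 → ∀ p : ℕ, p.Prime →
      p ∣ Nat.card (Subgroup.centralizer ({s} : Set G)) → p ^ (Nat.card G).factorization p ∣ x := by
    intro s hs p hpp hdvd
    rcases eq_or_ne p 2 with rfl | hne
    · exact h2
    · have := Fact.mk hpp
      obtain ⟨c, hc⟩ := exists_prime_orderOf_dvd_card' p hdvd
      refine hp p hpp hne ⟨s * c, ?_⟩
      have hcomm : Commute s c := (Subgroup.mem_centralizer_singleton_iff.1 c.2).symm
      rw [hcomm.orderOf_mul_eq_mul_orderOf_of_coprime (by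
        rw [hs, Subgroup.orderOf_coe, hc]
        exact (Nat.coprime_primes Nat.prime_two hpp).2 hne.symm), hs, Subgroup.orderOf_coe, hc]
  have hle : ∀ s : G, orderOf s = 2 → Nat.card (Subgroup.centralizer ({s} : Set G)) ∣ x := by
    intro s hs
    refine (Nat.factorization_prime_le_iff_dvd Nat.card_pos.ne' hx0.ne').1 fun p hpp => ?_
    by_cases hpd : p ∣ Nat.card (Subgroup.centralizer ({s} : Set G))
    · refine le_trans ((Nat.factorization_le_iff_dvd Nat.card_pos.ne' Nat.card_pos.ne').2
        (Subgroup.card_subgroup_dvd_card _) p) ?_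
      exact (hpp.pow_dvd_iff_le_factorization hx0.ne').1 (hC s hs p hpp hpd)
    · rw [Nat.factorization_eq_zero_of_not_dvd hpd]; exact Nat.zero_le _
  have hcls : ∀ s : G, orderOf s = 2 → (∀ t : G, orderOf t = 2 → IsConj s t) ∧
      Nat.card (Subgroup.centralizer ({s} : Set G)) = x := by
    intro s hs
    let T := Finset.univ.filter (fun g : G => IsConj s g)
    have hTI : T ⊆ I := by
      intro g hg
      obtain ⟨c, hc⟩ := isConj_iff.1 (Finset.mem_filter.1 hg).2
      exact Finset.mem_filter.2 ⟨Finset.mem_univ _, by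
        rw [← hc, Lib.Involutions.orderOf_conj_eq, hs]⟩
    have hT : T.card * Nat.card (Subgroup.centralizer ({s} : Set G)) = Nat.card G := by
      rw [← Lib.Characters.card_conj_mul_card_centralizer s, ← Fintype.card_subtype,
        ← Nat.card_eq_fintype_card]
    have hCx := Nat.le_of_dvd hx0 (hle s hs)
    have hTle := Finset.card_le_card hTI
    have hTpos : 0 < T.card := Finset.card_pos.2 ⟨s, Finset.mem_filter.2 ⟨Finset.mem_univ _, IsConj.refl s⟩⟩
    have hCeq : Nat.card (Subgroup.centralizer ({s} : Set G)) = x := by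
      refine le_antisymm hCx ?_
      by_contra hlt
      push Not at hlt
      have := Nat.mul_lt_mul_of_le_of_lt hTle hlt hIpos
      omega
    refine ⟨fun t ht => ?_, hCeq⟩
    rw [hCeq, ← hcount] at hT
    have hTeq : T = I := Finset.eq_of_subset_of_card_le hTI (Nat.eq_of_mul_eq_mul_right hx0 hT).ge
    have : t ∈ T := hTeq ▸ Finset.mem_filter.2 ⟨Finset.mem_univ _, ht⟩
    exact (Finset.mem_filter.1 this).2
  refine ⟨fun s t hs ht => (hcls s hs).1 t ht, fun s hs => ⟨(hcls s hs).2, ?_⟩, hν⟩
  refine Nat.coprime_of_dvd fun p hpp hp1 hp2 => ?_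
  have h3 := hC s hs p hpp hp1
  rw [← (hcls s hs).2] at h3
  have h5 := mul_dvd_mul h3 hp2
  rw [Subgroup.card_mul_index, ← pow_succ] at h5
  exact Nat.pow_succ_factorization_not_dvd Nat.card_pos.ne' hpp h5

end Cfsg.Agent.S4478
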