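import Mathlib
import Cfsg.Statements.S4480
import Cfsg.Agent.Lib.InvChar.KleinBlock

set_option autoImplicit false
open Cfsg

namespace Cfsg.Agent.S4480

/-- Same setting as the Klein-four order formula: G of order 4·g₀ (g₀ odd) with no normal 2-complement, P a Sylow 2-subgroup, J an involution of P, M over 2, principal 2-block {1, χ₁, χ₂, χ₃} with χ_i(J) = ε_i = ±1. Suppose ε₁ε₂ε₃ = −1 and ε₃ = −1, and put q = x₃ = χ₃(1). Then there is a natural number m with 4·c(J) = m·c(P)·(q + 1), and the order of G equals (m³·c(P)/4)·(q³ − q)/2, that is 8·#G = m³·c(P)·(q³ − q). -/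
theorem result {G : Type*} [Group G] [Finite G] (M : Ideal Cfsg.AlgInt) (hM : Cfsg.IsPModular 2 M) (g₀ : ℕ) (hg₀ : Odd g₀) (hG : Nat.card G = 4 * g₀) (hnc : ¬ ∃ N : Subgroup G, N.Normal ∧ Nat.card N = g₀) (P : Sylow 2 G) (J : G) (hJ : J ∈ (P : Subgroup G)) (hJ2 : orderOf J = 2) (χ₁ χ₂ χ₃ : Cfsg.IrrCharacter G) (ε₁ ε₂ ε₃ : ℤ) (hB : Cfsg.principalBlock M G = {χ : Cfsg.IrrCharacter G | (χ : G → ℂ) = (fun _ => 1) ∨ χ = χ₁ ∨ χ = χ₂ ∨ χ = χ₃}) (hdist : (χ₁ : G → ℂ) ≠ (fun _ => 1) ∧ (χ₂ : G → ℂ) ≠ (fun _ => 1) ∧ (χ₃ : G → ℂ) ≠ (fun _ => 1) ∧ χ₁ ≠ χ₂ ∧ χ₁ ≠ χ₃ ∧ χ₂ ≠ χ₃) (hε : (ε₁ = 1 ∨ ε₁ = -1) ∧ (ε₂ = 1 ∨ ε₂ = -1) ∧ (ε₃ = 1 ∨ ε₃ = -1)) (hval : (χ₁ : G → ℂ) J = ε₁ ∧ (χ₂ : G → ℂ) J = ε₂ ∧ (χ₃ : G → ℂ) J = ε₃) (hprod : ε₁ * ε₂ * ε₃ = -1) (hε₃ : ε₃ = -1) : ∃ m : ℕ, 4 * Nat.card (Subgroup.centralizer ({J} : Set G)) = m * Nat.card (Subgroup.centralizer ((P : Subgroup G) :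 Set G)) * (Cfsg.charDegree (χ₃ : G → ℂ) + 1) ∧ 8 * Nat.card G = m ^ 3 * Nat.card (Subgroup.centralizer ((P : Subgroup G) : Set G)) * (Cfsg.charDegree (χ₃ : G → ℂ) ^ 3 - Cfsg.charDegree (χ₃ : G → ℂ)) := by
  classical
  haveI := Fintype.ofFinite G
  obtain ⟨hd1, hd2, hd3, h12, h13, h23⟩ := hdist
  obtain ⟨he1, he2, he3⟩ := hε
  obtain ⟨hv1, hv2, hv3⟩ := hval
  have base := Cfsg.Agent.Lib.InvChar.kleinBase_of_no_complement g₀ hg₀ hG hnc P hJ hJ2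
  obtain ⟨x₁, c₁, hx01, hx1, hc1, h41⟩ := base.exists_value χ₁.2
  obtain ⟨x₂, c₂, hx02, hx2, hc2, h42⟩ := base.exists_value χ₂.2
  obtain ⟨x₃, c₃, hx03, hx3, hc3, h43⟩ := base.exists_value χ₃.2
  obtain rfl : c₁ = ε₁ := by exact_mod_cast hc1.symm.trans hv1
  obtain rfl : c₂ = ε₂ := by exact_mod_cast hc2.symm.trans hv2
  obtain rfl : c₃ = ε₃ := by exact_mod_cast hc3.symm.trans hv3
  have hdeg : ∀ (χ : Cfsg.IrrCharacter G) (x : ℕ), (χ : G → ℂ) 1 = x →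
      Cfsg.charDegree (χ : G → ℂ) = x := fun χ x hx => by simp [Cfsg.charDegree, hx]
  simp only [hdeg _ _ hx1, hdeg _ _ hx2, hdeg _ _ hx3]
  obtain ⟨hsum, hord⟩ :=
    base.order_formula M hM hB hd1 hd2 hd3 h12 h13 h23 he1 he2 he3 hv1 hv2 hv3 x₁ x₂ x₃ hx1 hx2 hx3
  set C := Nat.card (Subgroup.centralizer ({J} : Set G)) with hC
  set Q := Nat.card (Subgroup.centralizer ((P : Subgroup G) : Set G)) with hQ
  subst hε₃
  obtain ⟨rfl, rfl⟩ : c₁ = 1 ∧ c₂ = 1 := by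
    rcases he1 with rfl | rfl <;> rcases he2 with rfl | rfl <;> omega
  have ho : ∀ x : ℕ, (4 : ℤ) ∣ (x : ℤ) + 3 * 1 ∨ (4 : ℤ) ∣ (x : ℤ) + 3 * -1 → Odd x := fun x h => by
    rw [Nat.odd_iff]; omega
  have hrel := base.indicator_relation M hM hB hd1 hd2 hd3 h12 h13 h23 he1 he2 he3 hv1 hv2 hv3
  have h12x : x₁ = x₂ := by
    haveI := Fintype.ofFinite (Cfsg.IrrCharacter G)
    haveI := Fintype.ofFinite (Cfsg.centralizerPPrimeCore 2 J)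
    have havg := base.avg_values M hM hB hd1 hd2 hd3 h12 h13 h23 he1 he2 he3 hv1 hv2 hv3
    have hT : ∀ χ : Cfsg.IrrCharacter G, (χ : G → ℂ) ≠ (fun _ => 1) →
        χ ≠ Cfsg.Agent.Lib.Characters.trivIrr G := fun χ h e => h (by rw [e]; rfl)
    have hD0 : (Nat.card (Cfsg.centralizerPPrimeCore 2 J) : ℂ) ≠ 0 :=
      Nat.cast_ne_zero.2 Nat.card_pos.ne'
    have pair : ∀ (χ ψ : Cfsg.IrrCharacter G), χ ≠ ψ → χ ≠ χ₃ →
        (χ : G → ℂ) ≠ (fun _ => 1) →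
        ((χ = χ₁ ∧ ψ = χ₂) ∨ (χ = χ₂ ∧ ψ = χ₁)) → (χ : G → ℂ) J = 1 →
        (∃ s : G, ((χ : G → ℂ) s).im ≠ 0) → (χ : G → ℂ) 1 = (ψ : G → ℂ) 1 := by
      intro χ ψ hne hne3 hχt hcases hχJ ⟨s, hs⟩
      let χc : Cfsg.IrrCharacter G :=
        ⟨_, Cfsg.Agent.Lib.Characters.IsIrrCharacter.conjugate χ.2⟩
      have hval : ∀ g, (χc : G → ℂ) g = (starRingEnd ℂ) ((χ : G → ℂ) g) := fun g => rfl
      have h1 := havg (fun φ => if φ = χc then 1 else 0)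
      have h2 := havg (fun φ => if φ = χ then 1 else 0)
      simp only [ite_mul, one_mul, zero_mul, Finset.sum_ite_eq', Finset.mem_univ, if_true] at h1 h2
      simp only [hval] at h1
      rw [← map_sum, h2] at h1
      have hcne : χc ≠ χ := by
        intro e
        have := hval s
        rw [e] at this
        exact hs (Complex.conj_eq_iff_im.1 this.symm)
      have hc3 : χc ≠ χ₃ := by
        intro e
        have := hval J
        rw [e, hv3, hχJ, map_one] at this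
        norm_num at this
      have hct : χc ≠ Cfsg.Agent.Lib.Characters.trivIrr G := by
        intro e
        refine hχt (funext fun g => ?_)
        have := hval g
        rw [e, Cfsg.Agent.Lib.Characters.trivIrr_apply] at this
        rw [← Complex.conj_conj ((χ : G → ℂ) g), ← this, map_one]
      have hψ : χc = ψ := by
        by_contra hne2
        rcases hcases with ⟨e1, e2⟩ | ⟨e1, e2⟩
        · rw [e1] at hcne h1
          rw [e2] at hne2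
          simp [Ne.symm hct, Ne.symm hcne, Ne.symm hc3, Ne.symm hne2, Ne.symm (hT _ hd1), h12.symm,
            Ne.symm h13] at h1
        · rw [e1] at hcne h1
          rw [e2] at hne2
          simp [Ne.symm hct, Ne.symm hcne, Ne.symm hc3, Ne.symm hne2, Ne.symm (hT _ hd2), h12,
            Ne.symm h23] at h1
      obtain ⟨n, -, hn⟩ := Cfsg.Agent.Lib.Characters.IsIrrCharacter.exists_apply_one χ.2
      rw [← hψ, hval, hn, Complex.conj_natCast]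
    rcases Cfsg.Agent.Lib.InvChar.KleinBase.indicator_cases χ₁.2 hx1 (ho _ (Or.inl h41)) with ⟨hr, -⟩ | ⟨-, i1⟩
    · have := pair χ₁ χ₂ h12 h13 hd1 (Or.inl ⟨rfl, rfl⟩) (by simpa using hv1) hr
      rw [hx1, hx2] at this
      exact_mod_cast this
    rcases Cfsg.Agent.Lib.InvChar.KleinBase.indicator_cases χ₂.2 hx2 (ho _ (Or.inl h42)) with ⟨hr, -⟩ | ⟨-, i2⟩
    · have := pair χ₂ χ₁ h12.symm h23 hd2 (Or.inr ⟨rfl, rfl⟩) (by simpa using hv2) hr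
      rw [hx1, hx2] at this
      exact_mod_cast this.symm
    exfalso
    rcases Cfsg.Agent.Lib.InvChar.KleinBase.indicator_cases χ₃.2 hx3 (ho _ (Or.inr h43)) with ⟨-, i3⟩ | ⟨-, i3⟩ <;>
      rw [i1, i2, i3] at hrel <;> norm_num at hrel
  subst h12x
  obtain rfl : x₃ = 2 * x₁ + 1 := by omega
  have hQC : Q ∣ C := Subgroup.card_dvd_of_le base.centralizer_le
  obtain ⟨k, hk⟩ := hQC
  obtain ⟨N, hN⟩ : C ∣ Nat.card G := Subgroup.card_subgroup_dvd_card _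
  have hQpos : 0 < Q := Nat.card_pos
  have hCpos : 0 < C := Nat.card_pos
  have p1 : (x₁ : ℚ) ≠ 0 := Nat.cast_ne_zero.2 hx01.ne'
  have hnat : N * (x₁ + 1) ^ 2 = 4 * k ^ 2 * (x₁ * (2 * x₁ + 1)) := by
    have h' : ((Nat.card G * (x₁ + 1) ^ 2 * Q ^ 2 : ℕ) : ℚ)
        = ((4 * C ^ 3 * (x₁ * (2 * x₁ + 1)) : ℕ) : ℚ) := by
      push_cast at hord ⊢
      have p3 : (2 * (x₁ : ℚ) + 1) ≠ 0 := by positivity
      field_simp at hord
      linear_combination hord / 2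
    have h'' : Nat.card G * (x₁ + 1) ^ 2 * Q ^ 2 = 4 * C ^ 3 * (x₁ * (2 * x₁ + 1)) := by
      exact_mod_cast h'
    rw [hN] at h''
    refine Nat.eq_of_mul_eq_mul_left (Nat.mul_pos hCpos (pow_pos hQpos 2)) ?_
    calc C * Q ^ 2 * (N * (x₁ + 1) ^ 2) = C * N * (x₁ + 1) ^ 2 * Q ^ 2 := by ring
      _ = 4 * C ^ 3 * (x₁ * (2 * x₁ + 1)) := h''
      _ = _ := by rw [hk]; ring
  have hcop : Nat.Coprime ((x₁ + 1) ^ 2) (x₁ * (2 * x₁ + 1)) := by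
    refine Nat.Coprime.pow_left 2 (Nat.Coprime.mul_right ?_ ?_)
    · simp
    · rw [show 2 * x₁ + 1 = x₁ + (x₁ + 1) by ring, Nat.coprime_add_self_right]
      simp
  have hdvd : (x₁ + 1) ^ 2 ∣ (2 * k) ^ 2 := by
    rw [show (2 * k) ^ 2 = 4 * k ^ 2 by ring]
    exact hcop.dvd_of_dvd_mul_right ⟨N, by rw [← hnat]; ring⟩
  obtain ⟨m, hm⟩ := (Nat.pow_dvd_pow_iff two_ne_zero).1 hdvd
  refine ⟨m, ?_, ?_⟩
  · rw [hk, show 4 * (Q * k) = 2 * Q * (2 * k) by ring, hm]; ring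
  · have e : (2 * x₁ + 1) ^ 3 - (2 * x₁ + 1) = 4 * x₁ * (x₁ + 1) * (2 * x₁ + 1) := by
      rw [Nat.sub_eq_iff_eq_add (Nat.le_self_pow (by norm_num) _)]; ring
    rw [e, hN, hk]
    refine Nat.eq_of_mul_eq_mul_right (show 0 < (x₁ + 1) ^ 2 by positivity) ?_
    calc 8 * (Q * k * N) * (x₁ + 1) ^ 2 = 8 * Q * k * (N * (x₁ + 1) ^ 2) := by ring
      _ = 4 * Q * (2 * k) ^ 3 * (x₁ * (2 * x₁ + 1)) := by rw [hnat]; ring
      _ = _ := by rw [hm]; ring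

end Cfsg.Agent.S4480
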