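import Cfsg.Statements.S4481
import Cfsg.Agent.Lib.DihedralBlock.Glue
-- import your own Cfsg.Agent.* helpers here

set_option autoImplicit false
set_option linter.style.haveILetI false
open Cfsg

namespace Cfsg.Agent.S4481

/-- The principal 2-block of a group with dihedral Sylow 2-subgroups. Let G be a finite group whose Sylow 2-subgroup P is dihedral of order 2^n ≥ 8, let σ be an element of P of order 2^(n−1), ζ a primitive 2^(n−1)-th root of unity, and M a maximal ideal of the algebraic integers containing 2. Then the principal 2-block consists of exactly 3 + 2^(n−2) irreducible characters, which can be labelled 1, χ₁, χ₂, χ₃ and χ^(j) for 1 ≤ j ≤ 2^(n−2) − 1 (all distinct), with signs δ₁, δ₂, δ₃ such that for 0 < λ < 2^(n−1): χ₁(σ^λ) = δ₁, χ₂(σ^λ) = δ₂(−1)^(λ+1), χ₃(σ^λ) = δ₃(−1)^(λ+1) and χ^(j)(σ^λ) = δ₁(ζ^(jλ)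 + ζ^(−jλ)); and for every element ρ of odd order and every j: 1 + δ₁χ₁(ρ) = −δ₂χ₂(ρ) − δ₃χ₃(ρ) = δ₁χ^(j)(ρ). -/
theorem result {G : Type*} [Group G] [Finite G] (M : Ideal Cfsg.AlgInt) (hM : Cfsg.IsPModular 2 M) (n : ℕ) (hn : 3 ≤ n) (P : Sylow 2 G) (hP : Nonempty ((P : Subgroup G) ≃* DihedralGroup (2 ^ (n - 1)))) (σ : G) (hσ : σ ∈ (P : Subgroup G)) (hσo : orderOf σ = 2 ^ (n - 1)) (ζ : ℂ) (hζ : IsPrimitiveRoot ζ (2 ^ (n - 1))) : Nat.card (Cfsg.principalBlock M G) = 3 + 2 ^ (n - 2) ∧ ∃ (χ₁ χ₂ χ₃ : Cfsg.IrrCharacter G) (χ' : Fin (2 ^ (n - 2) - 1) → Cfsg.IrrCharacter G) (δ₁ δ₂ δ₃ : ℤ), (δ₁ = 1 ∨ δ₁ = -1) ∧ (δ₂ = 1 ∨ δ₂ = -1) ∧ (δ₃ = 1 ∨ δ₃ = -1) ∧ Function.Injective χ' ∧ (χ₁ : G → ℂ) ≠ (fun _ => 1) ∧ (χ₂ : G → ℂ) ≠ (fun _ => 1) ∧ (χ₃ : G → ℂ) ≠ (fun _ => 1) ∧ χ₁ ≠ χ₂ ∧ χ₁ ≠ χ₃ ∧ χ₂ ≠ χ₃ ∧ (∀ j, χ' j ≠ χ₁ ∧ χ' j ≠ χ₂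 ∧ χ' j ≠ χ₃ ∧ (χ' j : G → ℂ) ≠ (fun _ => 1)) ∧ Cfsg.principalBlock M G = {χ : Cfsg.IrrCharacter G | (χ : G → ℂ) = (fun _ => 1) ∨ χ = χ₁ ∨ χ = χ₂ ∨ χ = χ₃ ∨ ∃ j, χ = χ' j} ∧ (∀ l : ℕ, 0 < l → l < 2 ^ (n - 1) → (χ₁ : G → ℂ) (σ ^ l) = δ₁ ∧ (χ₂ : G → ℂ) (σ ^ l) = δ₂ * (-1) ^ (l + 1) ∧ (χ₃ : G → ℂ) (σ ^ l) = δ₃ * (-1) ^ (l + 1) ∧ ∀ j : Fin (2 ^ (n - 2) - 1), (χ' j : G → ℂ) (σ ^ l) = δ₁ * (ζ ^ (((j : ℕ) + 1) * l) + (ζ ^ (((j : ℕ) + 1) * l))⁻¹)) ∧ ∀ ρ : G, Odd (orderOf ρ) → ∀ j : Fin (2 ^ (n - 2) - 1), 1 + δ₁ * (χ₁ : G → ℂ) ρ = -δ₂ * (χ₂ : G → ℂ) ρ - δ₃ * (χ₃ : G → ℂ) ρ ∧ 1 + δ₁ * (χ₁ : G → ℂ) ρ = δ₁ * (χ' j : G → ℂ) ρ := by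
  classical
  haveI := Fintype.ofFinite G
  haveI := Fintype.ofFinite (IrrCharacter G)
  haveI := Cfsg.Agent.Lib.Blocks.isPrime_of_isPModular hM
  obtain ⟨e⟩ := hP
  have hN : 2 ^ (n - 1) / 2 = 2 ^ (n - 2) := by
    rw [show n - 1 = n - 2 + 1 by omega, pow_succ, Nat.mul_div_cancel _ two_pos]
  have hm4 : 4 ≤ 2 ^ (n - 1) := by
    calc (4 : ℕ) = 2 ^ 2 := rfl
      _ ≤ 2 ^ (n - 1) := Nat.pow_le_pow_right two_pos (by omega)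
  haveI : NeZero (2 ^ (n - 1)) := ⟨by positivity⟩
  obtain ⟨d, hd⟩ := Cfsg.Agent.Lib.DihedralBlock.exists_dihSylow P hm4 e hσ hσo
  obtain ⟨a, b, c, μ, δ₁, δ₂, δ₃, hδ₁, hδ₂, hδ₃, hμi, hoa, hob, hoc, hab, hac, hbc, hμne, hB, hval, hrho, -⟩ :=
    Cfsg.Agent.Lib.DihedralBlock.principal_structure (d := d) hM hζ hm4
  set o := Cfsg.Agent.Lib.Characters.trivIrr G with ho
  have hone : (o : G → ℂ) = fun _ => 1 := rfl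
  have hne : ∀ χ : IrrCharacter G, (χ : G → ℂ) = (fun _ => 1) ↔ χ = o := fun χ =>
    ⟨fun h => Subtype.ext (h.trans hone.symm), fun h => h ▸ hone⟩
  let μ' : Fin (2 ^ (n - 2) - 1) → IrrCharacter G := fun j => μ (Fin.cast (by rw [hN]) j)
  have hrange : ∀ χ, (∃ i, χ = μ i) ↔ ∃ j, χ = μ' j := fun χ =>
    ⟨fun ⟨i, hi⟩ => ⟨Fin.cast (by rw [hN]) i, hi⟩, fun ⟨j, hj⟩ => ⟨_, hj⟩⟩
  refine ⟨?_, a, b, c, μ', δ₁, δ₂, δ₃, hδ₁, hδ₂, hδ₃,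
    fun i j h => Fin.ext (congrArg Fin.val (hμi h) : _), fun h => hoa ((hne a).1 h).symm,
    fun h => hob ((hne b).1 h).symm, fun h => hoc ((hne c).1 h).symm, hab, hac, hbc,
    fun j => ⟨(hμne _).2.1, (hμne _).2.2.1, (hμne _).2.2.2, fun h => (hμne _).1 ((hne _).1 h)⟩, ?_,
    fun l hl hl' => ?_, fun ρ hρ j => hrho ρ hρ _⟩
  · have hset : Cfsg.principalBlock M G =
        ↑(({o, a, b, c} : Finset (IrrCharacter G)) ∪ Finset.univ.image μ) := by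
      rw [hB]
      ext χ
      simp [eq_comm, or_assoc]
    rw [hset, Nat.card_coe_set_eq, Set.ncard_coe_finset, Finset.card_union_of_disjoint,
      Finset.card_image_of_injective _ hμi, Finset.card_fin, hN]
    · have : 1 ≤ 2 ^ (n - 2) := Nat.one_le_two_pow
      simp [hoa, hob, hoc, hab, hac, hbc]
      omega
    · rw [Finset.disjoint_left]
      intro χ hχ hχ'
      obtain ⟨i, -, rfl⟩ := Finset.mem_image.1 hχ'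
      simpa [(hμne i).1, (hμne i).2.1, (hμne i).2.2.1, (hμne i).2.2.2] using hχ
  · rw [hB]
    simp only [hne, hrange]
  · have hl0 : (l : ZMod (2 ^ (n - 1))) ≠ 0 := by
      intro h
      have := congrArg ZMod.val h
      rw [ZMod.val_natCast, Nat.mod_eq_of_lt hl', ZMod.val_zero] at this
      omega
    obtain ⟨h1, h2, h3, h4⟩ := hval l hl0
    rw [hd] at h1 h2 h3
    refine ⟨h1, h2, h3, fun j => ?_⟩
    have := h4 (Fin.cast (by rw [hN]) j)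
    rw [hd, Cfsg.Agent.Lib.DihedralBlock.theta_expo_natCast hζ] at this
    exact this

end Cfsg.Agent.S4481
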