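import Cfsg.Statements.S4482
import Cfsg.Agent.Lib.DihedralBlock.Glue
import Cfsg.Agent.Lib.DihedralBlock.OrderFormula
-- import your own Cfsg.Agent.* helpers here

set_option autoImplicit false
open Cfsg

namespace Cfsg.Agent.S4482

/-- An order formula for groups with dihedral Sylow 2-subgroups and one class of involutions. Let G be a finite group whose Sylow 2-subgroup P = ⟨σ, τ⟩ is dihedral of order 2^n ≥ 8 (σ of order 2^(n−1), τ an involution inverting σ), let J be the central involution σ^(2^(n−2)), and suppose J, τ and στ are conjugate in G. Fix M over 2 and let χ₁ be an irreducible character in the principal 2-block taking one constant value δ₁ = ±1 at every non-identity power of σ, with χ₁ ≠ 1. Then, with x₁ = χ₁(1) and c(·) denoting orders of centralizers, x₁ ≠ δ₁ and #G · (x₁ − δ₁)² = 2·x₁(x₁ + δ₁)·c(J)³·(1/c(J, τ) + 1/c(J, στ))², where c(J, y) is the order of the joint centralizer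 of J and y. -/
theorem result {G : Type*} [Group G] [Finite G] (M : Ideal Cfsg.AlgInt) (hM : Cfsg.IsPModular 2 M) (n : ℕ) (hn : 3 ≤ n) (P : Sylow 2 G) (σ τ : G) (hσ : σ ∈ (P : Subgroup G)) (hτ : τ ∈ (P : Subgroup G)) (hσo : orderOf σ = 2 ^ (n - 1)) (hτo : orderOf τ = 2) (hrel : τ * σ * τ⁻¹ = σ⁻¹) (hgen : Subgroup.closure ({σ, τ} : Set G) = (P : Subgroup G)) (hconj : IsConj (σ ^ (2 ^ (n - 2))) τ ∧ IsConj (σ ^ (2 ^ (n - 2))) (σ * τ)) (χ₁ : Cfsg.IrrCharacter G) (hχ₁ : χ₁ ∈ Cfsg.principalBlock M G) (h1 : (χ₁ : G → ℂ) ≠ (fun _ => 1)) (δ₁ : ℤ) (hδ₁ : δ₁ = 1 ∨ δ₁ = -1) (hval : ∀ l : ℕ, 0 < l → l < 2 ^ (n - 1) → (χ₁ : G → ℂ) (σ ^ l) = δ₁) : (Cfsg.charDegree (χ₁ : G → ℂ) : ℤ) ≠ δ₁ ∧ (Nat.card G : ℚ) * ((Cfsg.charDegree (χ₁ : G → ℂ) : ℚ) - δ₁) ^ 2 = 2 * (Cfsg.charDegree (χ₁ : G → ℂ) : ℚ) * ((Cfsg.charDegree (χ₁ : G → ℂ) : ℚ) + δ₁) * (Nat.card (Subgroup.centralizer ({σ ^ (2 ^ (n - 2))} : Set G)) : ℚ) ^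 3 * (1 / (Nat.card (Subgroup.centralizer ({σ ^ (2 ^ (n - 2)), τ} : Set G)) : ℚ) + 1 / (Nat.card (Subgroup.centralizer ({σ ^ (2 ^ (n - 2)), σ * τ} : Set G)) : ℚ)) ^ 2 := by
  classical
  haveI := Fintype.ofFinite G
  haveI := Fintype.ofFinite (IrrCharacter G)
  haveI := Cfsg.Agent.Lib.Blocks.isPrime_of_isPModular hM
  have hm4 : 4 ≤ 2 ^ (n - 1) := by
    calc (4 : ℕ) = 2 ^ 2 := rfl
      _ ≤ 2 ^ (n - 1) := Nat.pow_le_pow_right two_pos (by omega)
  have hN : 2 ^ (n - 1) / 2 = 2 ^ (n - 2) := by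
    rw [show n - 1 = n - 2 + 1 by omega, pow_succ, Nat.mul_div_cancel _ two_pos]
  haveI : NeZero (2 ^ (n - 1)) := ⟨by positivity⟩
  obtain ⟨f, hf, hfr, hfs, hrange⟩ := Cfsg.Agent.Lib.DihedralBlock.exists_dihedralHom hσo hτo hrel
    (Cfsg.Agent.Lib.DihedralBlock.reflection_not_mem (hσo ▸ hm4) hrel)
  let d : Cfsg.Agent.Lib.Involutions.DihSylow G (2 ^ (n - 1)) := ⟨P, f, hf, hrange.trans hgen, by omega⟩
  have hJ : f (DihedralGroup.r (Cfsg.Agent.Lib.Involutions.DihSylow.half (2 ^ (n - 1)))) = σ ^ 2 ^ (n - 2) := by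
    rw [← hN]; exact hfr _
  have hst : f (DihedralGroup.sr (-1)) = σ * τ := by
    rw [show (DihedralGroup.sr (-1) : DihedralGroup (2 ^ (n - 1))) = DihedralGroup.r ((1 : ℕ) : ZMod _) * DihedralGroup.sr 0 by simp,
      map_mul, hfr, pow_one, hfs]
  have hall : ∀ z : G, orderOf z = 2 →
      IsConj (d.ι (DihedralGroup.r (Cfsg.Agent.Lib.Involutions.DihSylow.half (2 ^ (n - 1))))) z := by
    intro z hz
    obtain ⟨y, hy, hzy, -⟩ := Cfsg.Agent.Lib.DihedralBlock.exists_isConj_mem_sylow d (z := z) ⟨1, by rw [hz, pow_one]⟩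
    obtain ⟨g, rfl⟩ := d.exists_ι hy
    have hg2 : orderOf (d.ι g) = 2 := by
      obtain ⟨c, hc⟩ := isConj_iff.1 hzy
      rw [← hc, Cfsg.Agent.Lib.Involutions.orderOf_conj_eq, hz]
    refine IsConj.trans ?_ hzy.symm
    rcases d.invol_cases hg2 (d.ι_mem g) with h | ⟨i, h⟩
    · rw [h]
    · rw [h]
      show IsConj (f _) (f _)
      rw [hJ]
      rcases d.parity_cases i with ⟨j, hj⟩ | ⟨j, hj⟩
      · have e := d.conj_sr i j
        rw [hj, sub_self] at e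
        have : IsConj (f (DihedralGroup.sr i)) τ := hfs ▸ isConj_iff.2 ⟨f (DihedralGroup.r j), hj ▸ e⟩
        exact hconj.1.trans this.symm
      · have e := d.conj_sr i (j + 1)
        rw [hj, show (1 : ZMod (2 ^ (n - 1))) + (j + j) - (j + 1 + (j + 1)) = -1 by ring] at e
        have : IsConj (f (DihedralGroup.sr i)) (σ * τ) := hst ▸ isConj_iff.2 ⟨f (DihedralGroup.r (j + 1)), hj ▸ e⟩
        exact hconj.2.trans this.symm
  have hkey := Cfsg.Agent.Lib.DihedralBlock.order_formula (d := d) hM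
    (Complex.isPrimitiveRoot_exp (2 ^ (n - 1)) (NeZero.ne _)) hm4 hall χ₁ hχ₁
    (fun h => h1 (by rw [h]; rfl)) δ₁ hδ₁ (fun l hl => by
      show (χ₁ : G → ℂ) (f _) = _
      rw [hfr, ← pow_mod_orderOf, hσo]
      refine hval _ (Nat.pos_of_ne_zero fun h => hl ?_) (Nat.mod_lt _ (by positivity))
      exact (ZMod.natCast_eq_zero_iff _ _).2 (Nat.dvd_of_mod_eq_zero h))
  change _ ∧ _ at hkey
  simp only [show ∀ g, d.ι g = f g from fun g => rfl, hJ, hst, hfs] at hkey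
  exact hkey

end Cfsg.Agent.S4482
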