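import Cfsg.Statements.S4483
import Cfsg.Agent.Lib.BlockHeights.RealBlocks
-- import your own Cfsg.Agent.* helpers here

set_option autoImplicit false
open Cfsg Cfsg.Agent.Lib.BlockHeights
set_option linter.style.haveILetI false

namespace Cfsg.Agent.S4483

/-- Let G be a finite group of order 2^n·g₀ with g₀ odd, and M a maximal ideal of the algebraic integers containing 2. Every real-valued irreducible character of G of odd degree lies in the principal 2-block; consequently G has at most 2^(2n) real-valued irreducible characters of odd degree. -/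
theorem result {G : Type*} [Group G] [Finite G] (M : Ideal Cfsg.AlgInt) (hM : Cfsg.IsPModular 2 M) : (∀ χ : Cfsg.IrrCharacter G, (∀ g : G, ((χ : G → ℂ) g).im = 0) → Odd (Cfsg.charDegree (χ : G → ℂ)) → χ ∈ Cfsg.principalBlock M G) ∧ Nat.card {χ : Cfsg.IrrCharacter G // (∀ g : G, ((χ : G → ℂ) g).im = 0) ∧ Odd (Cfsg.charDegree (χ : G → ℂ))} ≤ 2 ^ (2 * (Nat.card G).factorization 2) := by
  classical
  haveI := Fintype.ofFinite G
  haveI := Fintype.ofFinite (Cfsg.IrrCharacter G)
  haveI := Cfsg.Agent.Lib.Blocks.isPrime_of_isPModular hM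
  haveI := Fact.mk hM.1
  refine ⟨fun χ => mem_principalBlock_of_real_odd hM χ, ?_⟩
  have hB := Cfsg.Agent.Lib.Blocks.isPBlock_principalBlock (G := G) (M := M)
  have hbf := four_mul_sum_height_le hM hB
  set B := Cfsg.principalBlock M G
  have hd := blockDefect_add_minExp (p := 2) hB
  have hle : Nat.card {χ : Cfsg.IrrCharacter G // (∀ g : G, ((χ : G → ℂ) g).im = 0) ∧
      Odd (Cfsg.charDegree (χ : G → ℂ))} ≤ Nat.card B :=
    Nat.card_le_card_of_injective
      (fun χ => (⟨χ.1, mem_principalBlock_of_real_odd hM χ.1 χ.2.1 χ.2.2⟩ : B))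
      fun a b h => Subtype.ext (congrArg (fun t : B => (t : Cfsg.IrrCharacter G)) h)
  have hcard : 4 * Nat.card B ≤ 2 ^ (2 * Cfsg.blockDefect 2 B) + 4 := by
    refine le_trans (Nat.mul_le_mul_left 4 ?_) hbf
    rw [finsum_mem_def, finsum_eq_sum_of_fintype]
    simp only [Set.indicator_apply]
    rw [← Finset.sum_filter, Nat.card_eq_fintype_card, Fintype.card_subtype,
      Finset.card_eq_sum_ones]
    exact Finset.sum_le_sum fun χ _ => Nat.one_le_pow _ _ two_pos
  have hmono : 2 ^ (2 * Cfsg.blockDefect 2 B) ≤ 2 ^ (2 * (Nat.card G).factorization 2) :=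
    Nat.pow_le_pow_right two_pos (by omega)
  have hpos : 1 ≤ 2 ^ (2 * (Nat.card G).factorization 2) := Nat.one_le_two_pow
  omega

end Cfsg.Agent.S4483
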