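import Cfsg.Statements.S4487
import Cfsg.Agent.Lib.BlockHeights.PConstrainedPrincipal
-- import your own Cfsg.Agent.* helpers here

set_option autoImplicit false
open Cfsg

namespace Cfsg.Agent.S4487

/-- Let G be a finite group and p a prime such that G has no non-trivial normal subgroup of order prime to p and C_G(O_p(G)) ≤ O_p(G). Then G has a single p-block: any two irreducible characters lie in the same block relative to every maximal ideal M of the algebraic integers containing p. -/
theorem result {G : Type*} [Group G] [Finite G] (p : ℕ) [Fact p.Prime] (M : Ideal Cfsg.AlgInt) (hM : Cfsg.IsPModular p M) (hcore : Cfsg.pPrimeCore p G = ⊥) (hconstr : Subgroup.centralizer ((Cfsg.pCore p G) : Set G) ≤ Cfsg.pCore p G) (χ ψ : Cfsg.IrrCharacter G) : Cfsg.SameBlock M (χ : G → ℂ) (ψ : G → ℂ) := by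
  classical
  haveI : M.IsPrime := hM.2.1.isPrime
  haveI := Fintype.ofFinite G
  haveI := Fintype.ofFinite (⊥ : Subgroup G)
  haveI : (Cfsg.pCore p G).Normal := inferInstance
  have hL : Cfsg.Agent.Lib.BlockHeights.Constrained p (⊥ : Subgroup G) (Cfsg.pCore p G)
      (Cfsg.pCore p G) := by
    refine ⟨inferInstance, inferInstance, bot_le, ?_, ?_, le_rfl,
      Cfsg.Agent.Lib.Cores.pCore_isPGroup p G, ?_, hconstr⟩
    · rw [Subgroup.card_bot]; exact (Fact.out : p.Prime).not_dvd_one
    · obtain ⟨k, hk⟩ := (Cfsg.Agent.Lib.Cores.pCore_isPGroup p G).exists_card_eq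
      exact ⟨k, by rw [← hk]; exact Subgroup.relIndex_bot_left _⟩
    · rw [Subgroup.relIndex_self]; exact (Fact.out : p.Prime).not_dvd_one
  have hB := (Cfsg.Agent.Lib.BlockHeights.block_over_spec hM hL
    (θ := Cfsg.Agent.Lib.Characters.trivIrr (⊥ : Subgroup G)) (fun g => rfl)
    (B := Set.univ) fun η => iff_of_true (Set.mem_univ η) ?_).1
  · exact Cfsg.Agent.Lib.Blocks.IsPBlock.sameBlock hB (Set.mem_univ χ) (Set.mem_univ ψ)
  · refine (Cfsg.Agent.Lib.Blocks.classInner_trivIrr_ne_zero_iff ⊥ η).2 fun n hn => ?_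
    rw [Subgroup.mem_bot.1 hn]

end Cfsg.Agent.S4487
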