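import Cfsg.Statements.S4489
import Cfsg.Agent.Lib.Characters
import Cfsg.Agent.Lib.OddChar.GaloisConj
import Cfsg.Agent.Lib.Characters.Monomial
import Cfsg.Agent.Lib.Characters.RelativeM

set_option autoImplicit false
open Cfsg

namespace Cfsg.Agent.S4489

open Cfsg Cfsg.Agent.Lib.Characters Cfsg.Agent.Lib.BlockHeights Cfsg.Agent.Lib.OddChar
open scoped ComplexConjugate

universe u

/-- Exponents prime to `p` below `N`. -/
def expSet (p N : ℕ) : Finset ℕ := (Finset.range N).filter fun k => ¬ p ∣ k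

open scoped Classical in
/-- The orbit of a function under the coprime power maps. -/
noncomputable def orb {G : Type u} [Group G] (p N : ℕ) (χ : G → ℂ) : Finset (G → ℂ) :=
  (expSet p N).image fun k => fun g => χ (g ^ k)

theorem mem_orb {G : Type u} [Group G] {p N : ℕ} {χ ψ : G → ℂ} :
    ψ ∈ orb p N χ ↔ ∃ k ∈ expSet p N, (fun g => χ (g ^ k)) = ψ := by
  simp [orb]

theorem pow_mod_eq {G : Type u} [Group G] {N : ℕ} (hN : Nat.card G ∣ N) (g : G) {a b : ℕ}
    (h : a ≡ b [MOD N]) : g ^ a = g ^ b :=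
  pow_eq_pow_iff_modEq.2 (h.of_dvd ((orderOf_dvd_natCard g).trans hN))

theorem exists_inv_exp {p A : ℕ} (hp : p.Prime) (hA : 0 < A) {k : ℕ} (hk : ¬ p ∣ k) :
    ∃ m ∈ expSet p (p ^ A), k * m ≡ 1 [MOD p ^ A] := by
  have hN : 1 < p ^ A := Nat.one_lt_pow hA.ne' hp.one_lt
  have hc : Nat.Coprime k (p ^ A) := ((hp.coprime_iff_not_dvd.2 hk).symm).pow_right A
  obtain ⟨m, hm⟩ := Nat.exists_mul_mod_eq_one_of_coprime hc hN
  refine ⟨m, ?_, ?_⟩
  · refine Finset.mem_filter.2 ⟨Finset.mem_range.2 hm.1, fun hd => ?_⟩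
    have h1 : p ∣ k * m % p ^ A := (Nat.dvd_mod_iff (dvd_pow_self p hA.ne')).2 (hd.mul_left k)
    rw [hm.2] at h1
    exact hp.one_lt.ne' (Nat.dvd_one.1 h1)
  · show k * m % p ^ A = 1 % p ^ A
    rw [hm.2, Nat.mod_eq_of_lt hN]

theorem isCharacter_linear {G : Type u} [Group G] (lam : G →* ℂˣ) :
    IsCharacter G (fun g => (lam g : ℂ)) := by
  refine ⟨1, ⟨⟨fun g => (lam g : ℂ) • (LinearMap.id : (Fin 1 → ℂ) →ₗ[ℂ] (Fin 1 → ℂ)), ?_⟩, ?_⟩, ?_⟩
  · refine LinearMap.ext fun v => ?_
    simp
  · intro a b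
    refine LinearMap.ext fun v => ?_
    simp [smul_smul, mul_comm]
  · funext g
    show LinearMap.trace ℂ _ ((lam g : ℂ) • (LinearMap.id : (Fin 1 → ℂ) →ₗ[ℂ] (Fin 1 → ℂ))) = _
    rw [map_smul, LinearMap.trace_id]
    simp

theorem indFun_pow {G : Type u} [Group G] [Fintype G] {N k : ℕ} (hN : Nat.card G ∣ N)
    {m : ℕ} (hm : k * m ≡ 1 [MOD N]) (H : Subgroup G) (θ : H → ℂ) (g : G) :
    Cfsg.indFun H θ (g ^ k) = Cfsg.indFun H (fun h => θ (h ^ k)) g := by
  rw [indFun_apply, indFun_apply]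
  refine congrArg _ (Finset.sum_congr rfl fun x _ => ?_)
  have h1 : x⁻¹ * g ^ k * x = (x⁻¹ * g * x) ^ k := by
    simpa using map_pow (MulAut.conj x⁻¹) g k
  rw [h1]
  by_cases h : x⁻¹ * g * x ∈ H
  · rw [extendByZero_of_mem H θ (H.pow_mem h k), extendByZero_of_mem H _ h]
    rfl
  · rw [extendByZero_of_not_mem H θ (fun h2 => h ?_), extendByZero_of_not_mem H _ h]
    have h3 : ((x⁻¹ * g * x) ^ k) ^ m = x⁻¹ * g * x := by
      rw [← pow_mul, pow_mod_eq hN _ hm, pow_one]
    exact h3 ▸ H.pow_mem h2 m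

theorem exists_normal_prime_index {G : Type u} [Group G] [Finite G] {p b : ℕ} [Fact p.Prime]
    (hb : Nat.card G = p ^ b) {U : Subgroup G} (hU : U ≠ ⊤) :
    ∃ H : Subgroup G, U ≤ H ∧ H.Normal ∧ H.index = p := by
  have hp : p.Prime := Fact.out
  obtain ⟨c, hc, hcard⟩ := (Nat.dvd_prime_pow hp).1 (hb ▸ U.card_subgroup_dvd_card)
  have hcb : c < b := lt_of_le_of_ne hc fun h => hU
    (Subgroup.eq_top_of_card_eq U (by rw [hcard, hb, h]))
  obtain ⟨H, hH, hUH⟩ := Sylow.exists_subgroup_card_pow_prime_le p (G := G) (m := b - 1)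
    (hb ▸ pow_dvd_pow p (Nat.sub_le b 1)) U hcard (Nat.le_sub_one_of_lt hcb)
  have hidx : H.index = p := by
    have h := H.card_mul_index
    rw [hH, hb, show b = b - 1 + 1 by omega, Nat.add_sub_cancel, pow_succ] at h
    exact Nat.eq_of_mul_eq_mul_left (pow_pos hp.pos _) h
  refine ⟨H, hUH, Subgroup.normal_of_index_eq_minFac_card ?_, hidx⟩
  rw [hidx, hb, Nat.pow_minFac (by omega), hp.minFac_eq]

/-- Base case of Schur's bound: linear characters. -/
theorem linear_bound {G : Type u} [Group G] [Finite G] {p A : ℕ} [Fact p.Prime]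
    (hG : Nat.card G ∣ p ^ A) {χ : G → ℂ} (hχ : IsCharacter G χ) (h1 : χ 1 = 1)
    {t : ℕ} (ht : (orb p (p ^ A) χ).card ≤ (p - 1) * p ^ t) {a : ℕ}
    (ha : (charKernel hχ).index = p ^ a) : a ≤ t + 1 := by
  classical
  have hp : p.Prime := Fact.out
  rcases Nat.eq_zero_or_pos a with rfl | ha0
  · omega
  obtain ⟨lam, hlam⟩ := IsCharacter.exists_hom_of_apply_one hχ h1
  have hker : charKernel hχ = lam.ker := by
    ext g
    rw [mem_charKernel, h1, MonoidHom.mem_ker]
    constructor
    · intro h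
      apply Units.ext
      rw [hlam] at h
      simpa using h
    · intro h
      rw [hlam]
      simp [h]
  have hrange : Nat.card lam.range = p ^ a := by
    rw [← ha, hker, Subgroup.index_ker]
  haveI : IsCyclic lam.range := by
    haveI : Finite lam.range := Nat.finite_of_card_ne_zero (by rw [hrange]; exact pow_ne_zero _ hp.ne_zero)
    infer_instance
  obtain ⟨z, hz⟩ := IsCyclic.exists_ofOrder_eq_natCard (α := lam.range)
  obtain ⟨g, hg⟩ := z.2
  have hord : orderOf (χ g) = p ^ a := by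
    have h2 : orderOf (lam g) = p ^ a := by rw [hg, Subgroup.orderOf_coe, hz, hrange]
    rw [hlam]
    show orderOf ((lam g : ℂˣ) : ℂ) = _
    rw [orderOf_units, h2]
  have haA : a ≤ A := (Nat.pow_dvd_pow_iff_le_right hp.one_lt).1
    (ha ▸ (Subgroup.index_dvd_card _).trans hG)
  have hcard : (expSet p (p ^ a)).card = (p - 1) * p ^ (a - 1) := by
    have h3 : expSet p (p ^ a) = (Finset.range (p ^ a)).filter (Nat.Coprime (p ^ a)) := by
      refine Finset.filter_congr fun k _ => ?_
      rw [Nat.coprime_pow_left_iff ha0, hp.coprime_iff_not_dvd]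
    rw [h3, ← Nat.totient_eq_card_coprime, Nat.totient_prime_pow hp ha0, mul_comm]
  have hle : (expSet p (p ^ a)).card ≤ (orb p (p ^ A) χ).card := by
    refine Finset.card_le_card_of_injOn (fun k => fun g => χ (g ^ k)) ?_ ?_
    · intro k hk
      rw [Finset.mem_coe, expSet, Finset.mem_filter, Finset.mem_range] at hk
      rw [Finset.mem_coe, mem_orb]
      exact ⟨k, Finset.mem_filter.2 ⟨Finset.mem_range.2
        (hk.1.trans_le (Nat.pow_le_pow_right hp.pos haA)), hk.2⟩, rfl⟩
    · intro k hk l hl hkl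
      rw [Finset.mem_coe, expSet, Finset.mem_filter, Finset.mem_range] at hk hl
      have h4 : χ (g ^ k) = χ (g ^ l) := congrFun hkl g
      have h5 : ∀ j, χ (g ^ j) = χ g ^ j := by
        intro j
        rw [hlam]
        simp
      rw [h5, h5] at h4
      exact pow_injOn_Iio_orderOf (by rw [Set.mem_Iio, hord]; exact hk.1)
        (by rw [Set.mem_Iio, hord]; exact hl.1) h4
  rw [hcard] at hle
  have h6 := Nat.le_of_mul_le_mul_left (hle.trans ht) (Nat.sub_pos_of_lt hp.one_lt)
  have := (Nat.pow_le_pow_iff_right hp.one_lt).1 h6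
  omega

theorem bound {p A : ℕ} [Fact p.Prime] (hA : 0 < A) :
    ∀ (n : ℕ) (G : Type u) [Group G] [Fintype G], Nat.card G = n → n ∣ p ^ A →
      ∀ {χ : G → ℂ} (hχ : IsIrrCharacter G χ) (f : ℕ), χ 1 = (f : ℂ) → ∀ t : ℕ,
        (orb p (p ^ A) χ).card ≤ (p - 1) * p ^ t →
        ∀ a : ℕ, (charKernel (IsIrrCharacter.isCharacter hχ)).index = p ^ a →
          (p - 1) * a ≤ (f - 1) + (p - 1) * (t + 1) * f := by
  classical
  have hp : p.Prime := Fact.out
  intro n
  induction n using Nat.strong_induction_on with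
  | _ n IH =>
  intro G _ _ hn hdvd χ hχ f hf t ht a ha
  have hχc := IsIrrCharacter.isCharacter hχ
  have hf0 : 0 < f := by
    rcases Nat.eq_zero_or_pos f with rfl | h
    · exact absurd (by rw [hf, Nat.cast_zero]) (IsIrrCharacter.apply_one_ne_zero hχ)
    · exact h
  obtain ⟨b, -, hb⟩ := (Nat.dvd_prime_pow hp).1 hdvd
  rw [← hn] at hdvd
  haveI : Group.IsNilpotent G := (IsPGroup.of_card (hn.trans hb)).isNilpotent
  obtain ⟨U, lam, hU⟩ := exists_monomial hχ
  by_cases hUtop : U = ⊤
  · subst hUtop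
    have h1 : χ 1 = 1 := by
      rw [hU, indFun_one]
      simp
    have hle := linear_bound hdvd hχc h1 ht ha
    have hf1 : f = 1 := by
      have : (f : ℂ) = 1 := hf ▸ h1
      exact_mod_cast this
    subst hf1
    simpa using Nat.mul_le_mul_left (p - 1) hle
  obtain ⟨H, hUH, hHn, hidx⟩ := exists_normal_prime_index (hn.trans hb) hUtop
  haveI := hHn
  have hHdvd : Nat.card H ∣ p ^ A := H.card_subgroup_dvd_card.trans hdvd
  have hHlt : Nat.card H < n := by
    rw [← hn, ← H.card_mul_index, hidx]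
    exact lt_mul_of_one_lt_right Nat.card_pos hp.one_lt
  -- the character of `H`
  obtain ⟨θ, hθ, hind⟩ : ∃ θ : H → ℂ, IsIrrCharacter H θ ∧ χ = Cfsg.indFun H θ := by
    set θ0 : H → ℂ := Cfsg.indFun (U.subgroupOf H)
      (fun x => (lam ⟨(x : H), Subgroup.mem_subgroupOf.mp x.2⟩ : ℂ)) with hθ0
    have hθ0c : IsCharacter H θ0 :=
      IsCharacter.indFun _ (isCharacter_linear (lam.comp
        (Subgroup.subgroupOfEquivOfLe hUH).toMonoidHom))
    have hχθ : χ = Cfsg.indFun H θ0 := by
      rw [hθ0, indFun_trans U H hUH (fun u => (lam u : ℂ)), ← hU]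
    have hne : θ0 ≠ 0 := fun h => IsIrrCharacter.apply_one_ne_zero hχ (by
      rw [hχθ, h, indFun_zero]; rfl)
    obtain ⟨φ, hφ⟩ := IsCharacter.exists_constituent hθ0c hne
    obtain ⟨r, hr, hreq⟩ := IsCharacter.exists_add_of_classInner_ne_zero hθ0c φ.2 hφ
    have hadd : χ = Cfsg.indFun H (φ : H → ℂ) + Cfsg.indFun H r := by
      rw [hχθ, hreq, indFun_add]
    have hAc := IsCharacter.indFun H (irr_isCharacter φ)
    have hne2 : Cfsg.indFun H (φ : H → ℂ) ≠ 0 := fun h => by
      have h1 := congrFun h 1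
      rw [indFun_one, hidx] at h1
      rcases mul_eq_zero.1 h1 with h2 | h2
      · exact hp.ne_zero (Nat.cast_eq_zero.1 h2)
      · exact IsIrrCharacter.apply_one_ne_zero φ.2 h2
    obtain ⟨η, hη⟩ := IsCharacter.exists_constituent hAc hne2
    have hηχ : χ = (η : G → ℂ) := by
      by_contra hne3
      have := IsCharacter.classInner_ne_zero_of_add hAc (IsCharacter.indFun H hr) (irr_isCharacter η) hη
      rw [← hadd] at this
      exact this (IsIrrCharacter.classInner_ne hχ η.2 hne3)
    rw [← hηχ] at hη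
    obtain ⟨s, hs, hseq⟩ := IsCharacter.exists_add_of_classInner_ne_zero hAc hχ hη
    obtain ⟨nr, hnr⟩ := IsCharacter.exists_apply_one hr
    obtain ⟨ns, hns⟩ := IsCharacter.exists_apply_one hs
    have h1 := congrFun hseq 1
    have h2 := congrFun hadd 1
    simp only [Pi.add_apply, indFun_one, hidx, hnr, hns] at h1 h2
    have h4 : ((p * nr + ns : ℕ) : ℂ) = 0 := by
      push_cast; linear_combination (-1 : ℂ) * h1 + (-1 : ℂ) * h2
    have h5 : p * nr + ns = 0 := by exact_mod_cast h4
    have h6 : nr = 0 := (Nat.mul_eq_zero.mp (Nat.add_eq_zero_iff.mp h5).1).resolve_left hp.ne_zero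
    have h7 : r = 0 := IsCharacter.eq_zero_of_apply_one_relM hr (by rw [hnr, h6, Nat.cast_zero])
    exact ⟨φ, φ.2, by rw [hadd, h7, indFun_zero, add_zero]⟩
  have hθc := IsIrrCharacter.isCharacter hθ
  obtain ⟨f', hf'⟩ := IsCharacter.exists_apply_one hθc
  have hff' : f = p * f' := by
    have : (f : ℂ) = ((p * f' : ℕ) : ℂ) := by
      rw [← hf, hind, indFun_one, hidx, hf', Nat.cast_mul]
    exact_mod_cast this
  have hf'0 : 0 < f' := Nat.pos_of_ne_zero fun h => by simp [hff', h] at hf0
  -- inertia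
  have hinert : inertia H θ = H := by
    have h1 := classInner_indFun_self H hθ
    rw [← hind, IsIrrCharacter.classInner_self hχ, mul_one] at h1
    exact (Subgroup.eq_of_le_of_card_ge (le_inertia H (IsCharacter.isClassFunction hθc))
      (le_of_eq (Nat.cast_injective (R := ℂ) h1).symm)).symm
  let C : Set (H → ℂ) := Set.range fun g : G => conjFun H g θ
  have hC : Nat.card C = p := by
    show Nat.card (Set.range fun g : G => conjFun H g θ) = p
    rw [card_conjugates, hinert, hidx]
  have hconstit : ∀ φ : H → ℂ, IsIrrCharacter H φ → Cfsg.indFun H φ = χ → φ ∈ C := by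
    intro φ hφ he
    have h1 : ∀ ψ : H → ℂ, Cfsg.indFun H ψ = χ → classInner ψ (fun h : H => χ h) = 1 := by
      intro ψ hψ
      rw [← classInner_indFun H ψ (IsCharacter.isClassFunction hχc), hψ,
        IsIrrCharacter.classInner_self hχ]
    have h2 : ∀ ψ : H → ℂ, Cfsg.indFun H ψ = χ → classInner (fun h : H => χ h) ψ ≠ 0 := by
      intro ψ hψ
      rw [← classInner_conj_symm, h1 ψ hψ]
      simp
    obtain ⟨g, hg⟩ := exists_conjFun_eq H hχ hθ hφ (h2 θ hind.symm) (h2 φ he)
    exact ⟨g, hg⟩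
  have hcop : ∀ k, ¬ p ∣ k → Nat.Coprime k (Nat.card H) := fun k hk =>
    Nat.Coprime.coprime_dvd_right hHdvd (((hp.coprime_iff_not_dvd.2 hk).symm).pow_right A)
  have hindpow : ∀ k, ¬ p ∣ k →
      Cfsg.indFun H (fun h => θ (h ^ k)) = fun g => χ (g ^ k) := by
    intro k hk
    obtain ⟨m, -, hm⟩ := exists_inv_exp hp hA hk
    funext g
    rw [hind, indFun_pow hdvd hm H θ g]
  have hmapsTo : ∀ ψ ∈ orb p (p ^ A) θ, Cfsg.indFun H ψ ∈ orb p (p ^ A) χ := by
    intro ψ hψ
    obtain ⟨k, hk, rfl⟩ := mem_orb.1 hψ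
    rw [hindpow k (Finset.mem_filter.1 hk).2]
    exact mem_orb.2 ⟨k, hk, rfl⟩
  have hIH := fun (t' b' : ℕ) (h1 : (orb p (p ^ A) θ).card ≤ (p - 1) * p ^ t')
      (h2 : (charKernel hθc).index = p ^ b') =>
    IH (Nat.card H) hHlt H rfl hHdvd hθ f' hf' t' h1 b' h2
  obtain ⟨b', -, hb'⟩ := (Nat.dvd_prime_pow hp).1 ((charKernel hθc).index_dvd_card.trans hHdvd)
  by_cases hcase : ∃ k, ¬ p ∣ k ∧ Cfsg.indFun H (fun h => θ (h ^ k)) = χ ∧
      (fun h : H => θ (h ^ k)) ≠ θ
  · -- a Galois conjugate is a conjugate: the kernel is normal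
    obtain ⟨k, hk, hkχ, hkne⟩ := hcase
    obtain ⟨m, hmE, hm⟩ := exists_inv_exp hp hA hk
    obtain ⟨x, hx : conjFun H x θ = fun h => θ (h ^ k)⟩ :=
      hconstit _ (isIrrCharacter_comp_pow (hcop k hk) hθ) hkχ
    have hxH : x ∉ H := fun hxH => hkne (by
      rw [← hx, conjFun_of_mem H (IsCharacter.isClassFunction hθc) hxH])
    set K := (charKernel hθc).map H.subtype with hKdef
    have hconjx : ∀ h : H, h ∈ charKernel hθc →
        ∀ hmem : x * (h : G) * x⁻¹ ∈ H, (⟨x * (h : G) * x⁻¹, hmem⟩ : H) ∈ charKernel hθc := by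
      intro h hh hmem
      rw [mem_charKernel]
      have h1 := congrFun hx h
      simp only [conjFun] at h1
      rw [h1]
      exact (charKernel hθc).pow_mem hh k
    have hHN : H ≤ Subgroup.normalizer (K : Set G) := by
      intro y hy
      rw [Subgroup.mem_normalizer_iff]
      have hfw : ∀ z ∈ H, ∀ w ∈ K, z * w * z⁻¹ ∈ K := by
        rintro z hz _ ⟨w, hw, rfl⟩
        exact ⟨⟨z, hz⟩ * w * ⟨z, hz⟩⁻¹, (charKernel_normal hθc).conj_mem w hw _, rfl⟩
      intro w
      refine ⟨fun hw => hfw y hy w hw, fun hw => ?_⟩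
      have := hfw y⁻¹ (H.inv_mem hy) _ hw
      simpa [mul_assoc] using this
    have hxN : x ∈ Subgroup.normalizer (K : Set G) := by
      have hmaps : K.map (MulAut.conj x : G ≃* G).toMonoidHom ≤ K := by
        rintro _ ⟨_, ⟨w, hw, rfl⟩, rfl⟩
        exact ⟨⟨x * (w : G) * x⁻¹, hHn.conj_mem _ w.2 x⟩, hconjx w hw _, rfl⟩
      have heq : K.map (MulAut.conj x : G ≃* G).toMonoidHom = K :=
        Subgroup.eq_of_le_of_card_ge hmaps (by
          rw [Subgroup.card_map_of_injective (f := (MulAut.conj x : G ≃* G).toMonoidHom) (MulAut.conj x : G ≃* G).injective])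
      rw [Subgroup.mem_normalizer_iff]
      intro w
      constructor
      · intro hw; exact hmaps ⟨w, hw, rfl⟩
      · intro hw
        have hw2 : x * w * x⁻¹ ∈ K.map (MulAut.conj x : G ≃* G).toMonoidHom := by
          rw [heq]; exact hw
        obtain ⟨w', hw', he⟩ := hw2
        have : w' = w := (MulAut.conj x).injective he
        exact this ▸ hw'
    have htop : Subgroup.normalizer (K : Set G) = ⊤ := by
      by_contra hne
      obtain ⟨c, hc⟩ := Subgroup.index_dvd_of_le hHN
      rw [hidx] at hc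
      rcases hp.eq_one_or_self_of_dvd _ ⟨c, hc⟩ with h1 | h1
      · exact hne (Subgroup.index_eq_one.1 h1)
      · exact hxH ((Subgroup.eq_of_le_of_card_ge hHN (by
          have e1 := H.card_mul_index
          have e2 := (Subgroup.normalizer (K : Set G)).card_mul_index
          rw [hidx] at e1; rw [h1] at e2
          exact le_of_eq (Nat.eq_of_mul_eq_mul_right hp.pos (e2.trans e1.symm)))) ▸ hxN)
    have hKn : ∀ g : G, ∀ w ∈ K, g * w * g⁻¹ ∈ K := fun g w hw =>
      (Subgroup.mem_normalizer_iff.1 (htop ▸ Subgroup.mem_top g) w).1 hw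
    have hKχ : K ≤ charKernel hχc := by
      intro w hw
      obtain ⟨w0, hw0, rfl⟩ := id hw
      rw [mem_charKernel, hind, indFun_one, indFun_apply]
      have h1 : ∀ y : G, extendByZero H θ (y⁻¹ * (w0 : G) * y) = θ 1 := by
        intro y
        obtain ⟨w1, hw1, hw1e⟩ : y⁻¹ * (w0 : G) * y ∈ K := by simpa using hKn y⁻¹ _ hw
        rw [← hw1e]
        show extendByZero H θ (w1 : G) = θ 1
        rw [extendByZero_coe]
        exact hw1
      show (Nat.card H : ℂ)⁻¹ * ∑ y : G, extendByZero H θ (y⁻¹ * (w0 : G) * y) = _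
      rw [Finset.sum_congr rfl fun y _ => h1 y, Finset.sum_const, Finset.card_univ, nsmul_eq_mul,
        ← Nat.card_eq_fintype_card, ← H.card_mul_index, Nat.cast_mul, mul_assoc,
        inv_mul_cancel_left₀ natCard_ne_zero_complex]
    have hab : a ≤ b' + 1 := by
      have h1 : (charKernel hχc).index ≤ K.index := Nat.le_of_dvd
        (Nat.pos_of_ne_zero Subgroup.index_ne_zero_of_finite) (Subgroup.index_dvd_of_le hKχ)
      rw [hKdef, Subgroup.index_map_subtype, hb', hidx, ha, ← pow_succ] at h1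
      exact (Nat.pow_le_pow_iff_right hp.one_lt).1 h1
    have ht' : (orb p (p ^ A) θ).card ≤ (p - 1) * p ^ (t + 1) := by
      refine (Finset.card_le_mul_card_image (f := fun ψ => Cfsg.indFun H ψ) _ p ?_).trans ?_
      · intro ζ hζ
        obtain ⟨ψ0, hψ0, rfl⟩ := Finset.mem_image.1 hζ
        obtain ⟨k0, hk0, rfl⟩ := mem_orb.1 hψ0
        have hk0' := (Finset.mem_filter.1 hk0).2
        obtain ⟨m0, hm0E, hm0⟩ := exists_inv_exp hp hA hk0'
        haveI := Fintype.ofFinite C
        refine le_trans ?_ (le_of_eq hC)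
        rw [Nat.card_eq_fintype_card, ← Finset.card_univ]
        refine Finset.card_le_card_of_injOn (t := (Finset.univ : Finset C))
          (fun ψ => if h : (fun y : H => ψ (y ^ m0)) ∈ C then ⟨_, h⟩
            else ⟨θ, ⟨1, conjFun_one H θ⟩⟩) (fun _ _ => Finset.mem_coe.2 (Finset.mem_univ _)) ?_
        intro ψ hψ ψ' hψ' he
        have hmem : ∀ φ : H → ℂ, φ ∈ (orb p (p ^ A) θ).filter
            (fun φ => Cfsg.indFun H φ = Cfsg.indFun H fun h => θ (h ^ k0)) →
            (fun y : H => φ (y ^ m0)) ∈ C ∧ ∀ y : H, φ ((y ^ k0) ^ m0) = φ y := by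
          intro φ hφ
          obtain ⟨hφo, hφi⟩ := Finset.mem_filter.1 hφ
          obtain ⟨l, hl, rfl⟩ := mem_orb.1 hφo
          have hl' := (Finset.mem_filter.1 hl).2
          have hlm : ¬ p ∣ m0 * l := fun hd => by
            rcases hp.dvd_mul.1 hd with h | h
            · exact (Finset.mem_filter.1 hm0E).2 h
            · exact hl' h
          refine ⟨?_, fun y => ?_⟩
          · have he2 : (fun y : H => θ ((y ^ m0) ^ l)) = fun y : H => θ (y ^ (m0 * l)) := by
              funext y; rw [pow_mul]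
            show (fun y : H => θ ((y ^ m0) ^ l)) ∈ C
            rw [he2]
            refine hconstit _ (isIrrCharacter_comp_pow (hcop _ hlm) hθ) ?_
            rw [hindpow _ hlm]
            funext g
            rw [hindpow l hl', hindpow k0 hk0'] at hφi
            have := congrFun hφi (g ^ m0)
            try simp only at this
            rw [← pow_mul, ← pow_mul] at this
            rw [this, pow_mod_eq hdvd g (show m0 * k0 ≡ 1 [MOD p ^ A] by rwa [mul_comm]), pow_one]
          · show θ (((y ^ k0) ^ m0) ^ l) = θ (y ^ l)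
            rw [← pow_mul y, pow_mod_eq hHdvd y hm0, pow_one]
        obtain ⟨h1, h1'⟩ := hmem ψ hψ
        obtain ⟨h2, h2'⟩ := hmem ψ' hψ'
        simp only [dif_pos h1, dif_pos h2, Subtype.mk.injEq] at he
        funext y
        rw [← h1' y, ← h2' y]
        exact congrFun he (y ^ k0)
      · calc p * ((orb p (p ^ A) θ).image fun ψ => Cfsg.indFun H ψ).card
            ≤ p * (orb p (p ^ A) χ).card :=
              Nat.mul_le_mul_left _ (Finset.card_le_card (Finset.image_subset_iff.2 hmapsTo))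
          _ ≤ p * ((p - 1) * p ^ t) := Nat.mul_le_mul_left _ ht
          _ = (p - 1) * p ^ (t + 1) := by rw [pow_succ]; ring
    have key := hIH (t + 1) b' ht' hb'
    subst hff'
    obtain ⟨q, rfl⟩ : ∃ q, p = q + 2 := ⟨p - 2, by have := hp.two_le; omega⟩
    obtain ⟨e, rfl⟩ : ∃ e, f' = e + 1 := ⟨f' - 1, by omega⟩
    have h1 : q + 2 - 1 = q + 1 := rfl
    have h2 : (q + 2) * (e + 1) - 1 = q * e + q + 2 * e + 1 := by
      have : (q + 2) * (e + 1) = q * e + q + 2 * e + 1 + 1 := by ring
      omega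
    rw [h1] at key ⊢
    rw [h2]
    rw [Nat.add_sub_cancel] at key
    have h3 : t + 2 ≤ (t + 1) * (q + 2) := by
      have : (t + 1) * (q + 2) = t * q + 2 * t + q + 2 := by ring
      omega
    have h4 := Nat.mul_le_mul_left ((q + 1) * (e + 1)) h3
    nlinarith [Nat.mul_le_mul_left (q + 1) hab, key, h4]
  · -- otherwise no new irrationalities
    push Not at hcase
    have ht' : (orb p (p ^ A) θ).card ≤ (p - 1) * p ^ t := by
      refine le_trans (Finset.card_le_card_of_injOn (fun ψ => Cfsg.indFun H ψ) hmapsTo ?_) ht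
      intro ψ hψ ψ' hψ' he
      obtain ⟨k, hk, rfl⟩ := mem_orb.1 hψ
      obtain ⟨l, hl, rfl⟩ := mem_orb.1 hψ'
      have hk' := (Finset.mem_filter.1 hk).2
      have hl' := (Finset.mem_filter.1 hl).2
      obtain ⟨m, hmE, hm⟩ := exists_inv_exp hp hA hl'
      have hkm : ¬ p ∣ m * k := fun hd => by
        rcases hp.dvd_mul.1 hd with h | h
        · exact (Finset.mem_filter.1 hmE).2 h
        · exact hk' h
      simp only [hindpow k hk', hindpow l hl'] at he
      have h1 := hcase (m * k) hkm (by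
        rw [hindpow _ hkm]
        funext g
        have := congrFun he (g ^ m)
        try simp only at this
        rw [← pow_mul, ← pow_mul] at this
        rw [this, pow_mod_eq hdvd g (show m * l ≡ 1 [MOD p ^ A] by rwa [mul_comm]), pow_one])
      funext y
      have h2 := congrFun h1 (y ^ l)
      try simp only at h2
      rw [← pow_mul, ← mul_assoc, pow_mul, pow_mod_eq hHdvd y hm, pow_one] at h2
      exact h2
    haveI := Fintype.ofFinite C
    choose x hx using fun c : C => c.2
    let S : C → Subgroup H := fun c =>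
      (charKernel hθc).comap (MulAut.conjNormal (H := H) (x c)).toMonoidHom
    have hS : ∀ c, (S c).index = p ^ b' := fun c => by
      show ((charKernel hθc).comap _).index = _
      rw [Subgroup.index_comap_of_surjective (f := (MulAut.conjNormal (H := H) (x c)).toMonoidHom) (charKernel hθc) (MulAut.conjNormal (H := H) (x c)).surjective, hb']
    have hSχ : (⨅ c, S c).map H.subtype ≤ charKernel hχc := by
      rintro _ ⟨w, hw, rfl⟩
      rw [mem_charKernel, hind, indFun_one]
      have h0 : ∀ y : G, conjFun H y θ w = θ 1 := by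
        intro y
        have hw' := Subgroup.mem_iInf.1 hw ⟨_, ⟨y, rfl⟩⟩
        have h1 := congrFun (hx ⟨_, ⟨y, rfl⟩⟩) w
        simp only at h1
        rw [← h1]
        exact hw'
      have := congrFun (indFun_restrict H θ) w
      show Cfsg.indFun H θ (w : G) = _
      rw [this, Pi.smul_apply, Finset.sum_apply, Finset.sum_congr rfl fun y _ => h0 y,
        Finset.sum_const, Finset.card_univ, nsmul_eq_mul, smul_eq_mul,
        ← Nat.card_eq_fintype_card, ← H.card_mul_index, Nat.cast_mul, mul_assoc,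
        inv_mul_cancel_left₀ natCard_ne_zero_complex]
    have hab : a ≤ p * b' + 1 := by
      have h1 : (charKernel hχc).index ≤ ((⨅ c, S c).map H.subtype).index := Nat.le_of_dvd
        (Nat.pos_of_ne_zero Subgroup.index_ne_zero_of_finite) (Subgroup.index_dvd_of_le hSχ)
      rw [Subgroup.index_map_subtype, hidx, ha] at h1
      have h2 : (⨅ c, S c).index ≤ p ^ (b' * p) := by
        refine (Subgroup.index_iInf_le S).trans ?_
        rw [Finset.prod_congr rfl fun c _ => hS c, Finset.prod_const, Finset.card_univ,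
          ← Nat.card_eq_fintype_card, hC, pow_mul]
      have h3 := h1.trans (Nat.mul_le_mul_right p h2)
      rw [← pow_succ] at h3
      have := (Nat.pow_le_pow_iff_right hp.one_lt).1 h3
      rw [mul_comm p b']; exact this
    have key := hIH t b' ht' hb'
    subst hff'
    obtain ⟨q, rfl⟩ : ∃ q, p = q + 2 := ⟨p - 2, by have := hp.two_le; omega⟩
    obtain ⟨e, rfl⟩ : ∃ e, f' = e + 1 := ⟨f' - 1, by omega⟩
    have h1 : q + 2 - 1 = q + 1 := rfl
    have h2 : (q + 2) * (e + 1) - 1 = q * e + q + 2 * e + 1 := by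
      have : (q + 2) * (e + 1) = q * e + q + 2 * e + 1 + 1 := by ring
      omega
    rw [h1] at key ⊢
    rw [h2]
    rw [Nat.add_sub_cancel] at key
    nlinarith [Nat.mul_le_mul_left (q + 1) hab, Nat.mul_le_mul_left (q + 2) key]

/-- The number of Galois conjugates is at most the degree of the field of values. -/
theorem card_orb_le {G : Type u} [Group G] [Finite G] {p A : ℕ} (hp : p.Prime)
    (hG : Nat.card G = p ^ A) {χ : G → ℂ} (hχ : IsCharacter G χ) :
    (orb p (p ^ A) χ).card ≤
      Module.finrank ℚ (IntermediateField.adjoin ℚ (Set.range χ)) := by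
  classical
  haveI : NeZero (Nat.card G) := ⟨Nat.card_pos.ne'⟩
  set L := IntermediateField.adjoin ℚ (Set.range χ) with hLdef
  haveI := isCyclotomic_cycField (Nat.card G)
  haveI : FiniteDimensional ℚ (cycField (Nat.card G)) :=
    IsCyclotomicExtension.finiteDimensional {Nat.card G} ℚ _
  have hle : L ≤ cycField (Nat.card G) := IntermediateField.adjoin_le_iff.2 (by
    rintro _ ⟨g, rfl⟩
    exact apply_mem_cycField hχ g)
  haveI : FiniteDimensional ℚ L :=
    Module.Finite.of_injective (IntermediateField.inclusion hle).toLinearMap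
      (IntermediateField.inclusion hle).injective
  have hex : ∀ k ∈ expSet p (p ^ A), ∃ φ : L →ₐ[ℚ] ℂ,
      ∀ g, φ ⟨χ g, IntermediateField.subset_adjoin ℚ _ ⟨g, rfl⟩⟩ = χ (g ^ k) := by
    intro k hk
    have hc : Nat.Coprime k (Nat.card G) := by
      rw [hG]
      exact ((hp.coprime_iff_not_dvd.2 (Finset.mem_filter.1 hk).2).symm).pow_right A
    obtain ⟨σ, hσ⟩ := exists_galAut hc
    refine ⟨((cycField (Nat.card G)).val.comp σ.toAlgHom).comp (IntermediateField.inclusion hle),
      fun g => ?_⟩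
    obtain ⟨ι, hι, μ, hμ, h⟩ := exists_eigen_sum hχ g
    obtain ⟨c, hc'⟩ := orderOf_dvd_natCard g
    have hμn : ∀ i, μ i ^ Nat.card G = 1 := fun i => by rw [hc', pow_mul, hμ i, one_pow]
    let ν : ι → cycField (Nat.card G) := fun i => ⟨μ i, mem_cycField_of_pow_eq_one (hμn i)⟩
    have h1 : (⟨χ g, apply_mem_cycField hχ g⟩ : cycField (Nat.card G)) = ∑ i, ν i := by
      apply Subtype.ext
      have := h 1
      simp only [pow_one] at this
      simpa [ν] using this
    show ((σ ⟨χ g, apply_mem_cycField hχ g⟩ : cycField (Nat.card G)) : ℂ) = _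
    rw [h1, map_sum, h k, AddSubmonoidClass.coe_finsetSum]
    refine Finset.sum_congr rfl fun i _ => ?_
    rw [hσ (ν i) (hμn i)]
    simp [ν]
  choose φ hφ using hex
  rw [← AlgHom.card ℚ L ℂ, ← Finset.card_univ]
  refine Finset.card_le_card_of_injOn (fun ψ => if h : ψ ∈ orb p (p ^ A) χ then
      φ _ (mem_orb.1 h).choose_spec.1
    else L.val) (fun _ _ => Finset.mem_coe.2 (Finset.mem_univ _)) ?_
  intro ψ hψ ψ' hψ' he
  rw [Finset.mem_coe] at hψ hψ'
  replace he := (dif_pos hψ).symm.trans (he.trans (dif_pos hψ'))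
  have h1 := (mem_orb.1 hψ).choose_spec
  have h2 := (mem_orb.1 hψ').choose_spec
  funext g
  rw [← h1.2, ← h2.2]
  show χ (g ^ _) = χ (g ^ _)
  exact (hφ _ h1.1 g).symm.trans ((DFunLike.congr_fun he _).trans (hφ _ h2.1 g))

/-- Let P be a finite p-group of order p^a with a > 0, and χ a faithful irreducible character of P of degree f whose field of values ℚ(χ) has degree (p − 1)·p^t over ℚ. Then a ≤ (f − 1)/(p − 1) + (t + 1)·f; in integer form, (p − 1)·a ≤ (f − 1) + (p − 1)(t + 1)·f. -/
theorem result {P : Type*} [Group P] [Finite P] (p a : ℕ) (hp : p.Prime) (ha : 0 < a) (hP : Nat.card P = p ^ a) (χ : Cfsg.IrrCharacter P) (hfaith : ∀ g : P, (χ : P → ℂ) g = (χ : P → ℂ) 1 → g = 1) (f t : ℕ) (hf : Cfsg.charDegree (χ : P → ℂ) = f) (hfield : Module.finrank ℚ (IntermediateField.adjoin ℚ (Set.range (χ : P → ℂ))) = (p - 1) * p ^ t) : (p - 1) * a ≤ (f - 1) + (p - 1) * (t + 1) * f := by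
  classical
  haveI : Fact p.Prime := ⟨hp⟩
  haveI := Fintype.ofFinite P
  have hχc := IsIrrCharacter.isCharacter χ.2
  obtain ⟨n, hn⟩ := IsCharacter.exists_apply_one hχc
  have hnf : n = f := by
    rw [← hf, Cfsg.charDegree, hn]
    simp
  have hker : charKernel hχc = ⊥ := (Subgroup.eq_bot_iff_forall _).2 fun g hg => hfaith g hg
  refine bound ha (Nat.card P) P rfl (by rw [hP]) χ.2 f (by rw [hn, hnf]) t ?_ a
    (by rw [hker, Subgroup.index_bot, hP])
  exact (card_orb_le hp hP hχc).trans hfield.le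

end Cfsg.Agent.S4489
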