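import Cfsg.Statements.S4490
import Cfsg.Agent.Lib.BlockHeights.RealBlocks
-- import your own Cfsg.Agent.* helpers here

set_option autoImplicit false
open Cfsg Cfsg.Agent.Lib.BlockHeights
set_option linter.style.haveILetI false

namespace Cfsg.Agent.S4490

/-- Let G be a finite group and M a maximal ideal of the algebraic integers containing 2. Every 2-block B of G whose defect groups are the Sylow 2-subgroups of G (a block of full defect) and which is not the principal block is different from its complex-conjugate block, the block formed by the complex conjugates of the members of B. -/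
theorem result {G : Type*} [Group G] [Finite G] (M : Ideal Cfsg.AlgInt) (hM : Cfsg.IsPModular 2 M) (B : Set (Cfsg.IrrCharacter G)) (hB : Cfsg.IsPBlock M B) (P : Sylow 2 G) (hfull : Cfsg.IsDefectGroup 2 M B (P : Subgroup G)) (hnp : B ≠ Cfsg.principalBlock M G) : {ψ : Cfsg.IrrCharacter G | ∃ χ ∈ B, (ψ : G → ℂ) = fun g => (starRingEnd ℂ) ((χ : G → ℂ) g)} ≠ B := by
  classical
  haveI := Fintype.ofFinite G
  haveI := Cfsg.Agent.Lib.Blocks.isPrime_of_isPModular hM
  haveI := Fact.mk hM.1
  intro heq
  apply hnp
  have hfull' : minExp 2 B = 0 := by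
    have h1 := card_isDefectGroup hM hB hfull
    rw [Sylow.card_eq_multiplicity] at h1
    have h2 := Nat.pow_right_injective (le_refl 2) h1
    have := blockDefect_add_minExp (p := 2) hB
    omega
  have hst : ∀ χ ∈ B, conjIrr χ ∈ B := by
    intro χ hχ
    rw [← heq]
    exact ⟨χ, hχ, rfl⟩
  exact eq_principalBlock_of_inv_stable hM hB hfull'
    (fun χ hχ => ⟨conjIrr χ, hst χ hχ, by rw [conjIrr_apply, inv_one], fun x _ => conjIrr_apply χ x⟩)
    (fun x _ => blockCoeff_apply_of_stable (fun g => g⁻¹) inv_surjective inv_one
      (fun χ hχ => ⟨conjIrr χ, hst χ hχ, fun g => conjIrr_apply χ g⟩) x)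

end Cfsg.Agent.S4490
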