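import Mathlib
import Cfsg.Statements.S4493
import Cfsg.Agent.Lib.InvChar.ItoMichler

set_option autoImplicit false
open Cfsg

namespace Cfsg.Agent.S4493

/-- Let G be a finite solvable group and p a prime. Then G has a normal abelian Sylow p-subgroup if and only if no irreducible character degree of G is divisible by p. -/
theorem result {G : Type*} [Group G] [Finite G] (hsolv : Group.IsSolvable G) (p : ℕ) (hp : p.Prime) : (∃ P : Subgroup G, P.Normal ∧ (∀ x ∈ P, ∀ y ∈ P, x * y = y * x) ∧ IsPGroup p P ∧ ¬ p ∣ P.index) ↔ ∀ χ : Cfsg.IrrCharacter G, ¬ p ∣ Cfsg.charDegree (χ : G → ℂ) := by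
  haveI := Fact.mk hp
  constructor
  · rintro ⟨P, hPn, hPc, -, hPi⟩ χ hdvd
    haveI := hPn
    obtain ⟨d, hd, hd'⟩ := Cfsg.Agent.Lib.Characters.IsIrrCharacter.exists_apply_one χ.2
    rw [Cfsg.Agent.Lib.InvChar.ItoMichler.charDegree_eq hd'] at hdvd
    exact hPi (hdvd.trans
      (Cfsg.Agent.Lib.Characters.IsIrrCharacter.degree_dvd_index_of_abelian χ.2 P hPc hd'))
  · intro hdeg
    let P : Sylow p G := default
    have hPn := Cfsg.Agent.Lib.InvChar.ItoMichler.normal_aux (p := p) (Nat.card G) G le_rfl hsolv hdeg P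
    haveI := hPn
    refine ⟨P, hPn, ?_, P.isPGroup', P.not_dvd_index⟩
    have h1 : ∀ θ : Cfsg.IrrCharacter (P : Subgroup G), (θ : ↥(P : Subgroup G) → ℂ) 1 = 1 := by
      intro θ
      obtain ⟨d, hd, hd'⟩ := Cfsg.Agent.Lib.Characters.IsIrrCharacter.exists_apply_one θ.2
      have h := (Cfsg.Agent.Lib.InvChar.ItoMichler.not_dvd_subgroup hdeg (P : Subgroup G) θ).1
      rw [Cfsg.Agent.Lib.InvChar.ItoMichler.charDegree_eq hd'] at h
      obtain ⟨e, -, he, he'⟩ := Cfsg.Agent.Lib.Characters.IsIrrCharacter.exists_degree_dvd θ.2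
      have hde : d = e := by exact_mod_cast hd'.symm.trans he
      obtain ⟨k, hk⟩ := IsPGroup.iff_card.1 P.isPGroup'
      rw [← hde, hk] at he'
      obtain ⟨i, -, hi⟩ := (Nat.dvd_prime_pow hp).1 he'
      rcases Nat.eq_zero_or_pos i with h0 | h0
      · rw [hd', hi, h0, pow_zero, Nat.cast_one]
      · exact absurd (hi ▸ dvd_pow_self p h0.ne') h
    intro x hx y hy
    exact congrArg Subtype.val (Cfsg.Agent.Lib.Characters.comm_iff_forall_irr_one.2 h1 ⟨x, hx⟩ ⟨y, hy⟩)

end Cfsg.Agent.S4493
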