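import Cfsg.Statements.S4496
import Mathlib.GroupTheory.Sylow
import Mathlib.GroupTheory.SpecificGroups.Cyclic
import Mathlib.Tactic.Group

set_option autoImplicit false
open Cfsg
open scoped commutatorElement Pointwise

namespace Cfsg.Agent.S4496

/-- Let the finite group G contain an element x of prime order p with C_G(x) = ⟨x⟩. Then: (a) every normal subgroup of order divisible by p contains the commutator subgroup; (b) every normal subgroup S of order prime to p has order dividing the number of subgroups of order p of G and congruent to 1 modulo p, and in G/S the image of x again has prime order p and commutes only with its own powers. -/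
theorem result {G : Type*} [Group G] [Finite G] (p : ℕ) (hp : p.Prime) (x : G) (hx : orderOf x = p) (hC : Subgroup.centralizer ({x} : Set G) = Subgroup.zpowers x) (S : Subgroup G) [S.Normal] : (p ∣ Nat.card S → commutator G ≤ S) ∧ (¬ p ∣ Nat.card S → Nat.card S ∣ Nat.card {H : Subgroup G // Nat.card H = p} ∧ Nat.card S % p = 1 ∧ orderOf (QuotientGroup.mk x : G ⧸ S) = p ∧ Subgroup.centralizer ({(QuotientGroup.mk x : G ⧸ S)} : Set (G ⧸ S)) = Subgroup.zpowers (QuotientGroup.mk x : G ⧸ S)) := by
  classical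
  haveI := Fact.mk hp
  set X := Subgroup.zpowers x with hX
  have hXc : Nat.card X = p := by rw [hX, Nat.card_zpowers, hx]
  have hXp : IsPGroup p X := IsPGroup.of_card (n := 1) (by rw [hXc, pow_one])
  have hCy : ∀ y : G, y * x = x * y → y ∈ X := fun y hy => by
    rw [← hC]; exact Subgroup.mem_centralizer_singleton_iff.mpr hy
  -- `X` is a Sylow subgroup
  obtain ⟨P, hP⟩ := hXp.exists_le_sylow
  have hPX : (P : Subgroup G) = X := by
    refine le_antisymm ?_ hP
    haveI : Nontrivial P := by
      rw [← Finite.one_lt_card_iff_nontrivial]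
      exact lt_of_lt_of_le (hXc ▸ hp.one_lt) (Subgroup.card_le_of_le hP)
    obtain ⟨⟨z, hz⟩, hz1⟩ := @exists_ne _ P.isPGroup'.center_nontrivial 1
    have hzz : ∀ y : P, (z : G) * y = y * z := fun y =>
      congrArg Subtype.val (Subgroup.mem_center_iff.mp hz y).symm
    have hzX : (z : G) ∈ X := hCy _ (hzz ⟨x, hP (Subgroup.mem_zpowers x)⟩)
    have hXz : X = Subgroup.zpowers (z : G) := by
      refine (Subgroup.eq_of_le_of_card_ge (Subgroup.zpowers_le.mpr hzX) ?_).symm
      obtain ⟨k, hk⟩ := IsPGroup.iff_card.mp (hXp.to_le (Subgroup.zpowers_le.mpr hzX))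
      rw [hXc, hk]
      refine Nat.le_self_pow (fun h => hz1 ?_) p
      rw [h, pow_zero, Nat.card_zpowers, orderOf_eq_one_iff] at hk
      exact Subtype.ext (Subtype.ext hk)
    intro y hy
    apply hCy
    obtain ⟨k, hk⟩ := Subgroup.mem_zpowers_iff.mp (show x ∈ Subgroup.zpowers (z : G) by rw [← hXz]; exact Subgroup.mem_zpowers x)
    rw [← hk]
    exact (Commute.zpow_right (hzz ⟨y, hy⟩).symm k)
  have hsyl : ∀ H : Subgroup G, Nat.card H = p → ∃ Q : Sylow p G, (Q : Subgroup G) = H := by
    intro H hH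
    obtain ⟨Q, hQ⟩ := (IsPGroup.of_card (p := p) (n := 1) (by rw [hH, pow_one] : Nat.card H = p ^ 1)).exists_le_sylow
    refine ⟨Q, (Subgroup.eq_of_le_of_card_ge hQ ?_).symm⟩
    rw [hH, Sylow.card_eq_multiplicity, ← Sylow.card_eq_multiplicity P, hPX, hXc]
  have hnum : Nat.card {H : Subgroup G // Nat.card H = p}
      = (Subgroup.normalizer (X : Set G)).index := by
    rw [← hPX]
    refine Eq.trans ?_ (Sylow.card_eq_index_normalizer P)
    apply Nat.card_congr
    refine (Equiv.ofBijective (fun Q : Sylow p G => (⟨Q, ?_⟩ : {H : Subgroup G // Nat.card H = p})) ⟨?_, ?_⟩).symm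
    · rw [Sylow.card_eq_multiplicity, ← Sylow.card_eq_multiplicity P, hPX, hXc]
    · intro Q R h; exact Sylow.ext (congrArg Subtype.val h)
    · rintro ⟨H, hH⟩
      obtain ⟨Q, hQ⟩ := hsyl H hH
      exact ⟨Q, Subtype.ext hQ⟩
  constructor
  · intro hpS
    obtain ⟨Y, hY⟩ : ∃ Y : Subgroup S, Nat.card Y = p ^ 1 :=
      Sylow.exists_subgroup_card_pow_prime p (by rw [pow_one]; exact hpS)
    obtain ⟨Q, hQ⟩ := hsyl (Y.map S.subtype) (by rw [Subgroup.card_subtype, hY, pow_one])
    obtain ⟨g, hg⟩ := MulAction.exists_smul_eq G Q P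
    have hxS : X ≤ S := by
      rw [← hPX, ← hg, Sylow.coe_subgroup_smul, hQ]
      rintro _ ⟨y, hy, rfl⟩
      simpa using (inferInstance : S.Normal).conj_mem _ (Subgroup.map_subtype_le Y hy) g
    -- Frattini
    have hgen : ∀ a : G, ∃ n ∈ Subgroup.normalizer (X : Set G), a⁻¹ * n ∈ S := by
      intro a
      haveI : (S : Subgroup G).Normal := inferInstance
      have hle : ∀ R : Sylow p G, (R : Subgroup G) ≤ S := by
        intro R
        obtain ⟨g, hg⟩ := MulAction.exists_smul_eq G P R
        rw [← hg, Sylow.coe_subgroup_smul, hPX]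
        rintro _ ⟨y, hy, rfl⟩
        simpa using (inferInstance : S.Normal).conj_mem _ (hxS hy) g
      obtain ⟨s, hs⟩ := MulAction.exists_smul_eq S ((a • P).subtype (hle _)) (P.subtype (hle _))
      have hs' : (s : G) • (a • P) = P := by
        rw [Sylow.smul_subtype] at hs
        exact Sylow.subtype_injective hs
      rw [← mul_smul, Sylow.smul_eq_iff_mem_normalizer] at hs'
      refine ⟨(s : G) * a, by rw [← hPX]; exact hs', ?_⟩
      have := (inferInstance : S.Normal).conj_mem _ s.2 a⁻¹
      simpa [mul_assoc] using this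
    rw [commutator_def, Subgroup.commutator_le]
    intro a _ b _
    obtain ⟨n, hn, han⟩ := hgen a
    obtain ⟨m, hm, hbm⟩ := hgen b
    rw [← QuotientGroup.eq_one_iff, ← QuotientGroup.mk'_apply, map_commutatorElement]
    rw [show QuotientGroup.mk' S a = QuotientGroup.mk' S n from QuotientGroup.eq.mpr han,
      show QuotientGroup.mk' S b = QuotientGroup.mk' S m from QuotientGroup.eq.mpr hbm,
      ← map_commutatorElement, QuotientGroup.mk'_apply, QuotientGroup.eq_one_iff]
    apply hxS
    apply hCy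
    have hpow : ∀ n ∈ Subgroup.normalizer (X : Set G), ∃ i : ℤ, n * x * n⁻¹ = x ^ i := fun n hn => by
      obtain ⟨i, hi⟩ := Subgroup.mem_zpowers_iff.mp
        ((Subgroup.mem_normalizer_iff.mp hn x).mp (Subgroup.mem_zpowers x))
      exact ⟨i, hi.symm⟩
    obtain ⟨i, hi⟩ := hpow n hn
    obtain ⟨j, hj⟩ := hpow m hm
    have hnm : (n * m) * x * (n * m)⁻¹ = (m * n) * x * (m * n)⁻¹ := by
      calc (n * m) * x * (n * m)⁻¹ = n * (m * x * m⁻¹) * n⁻¹ := by group
        _ = (n * x * n⁻¹) ^ j := by rw [hj, conj_zpow]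
        _ = (m * x * m⁻¹) ^ i := by rw [hi, hj, ← zpow_mul, ← zpow_mul, mul_comm]
        _ = m * (n * x * n⁻¹) * m⁻¹ := by rw [hi, conj_zpow]
        _ = (m * n) * x * (m * n)⁻¹ := by group
    have h2 : ((m * n)⁻¹ * (n * m)) * x = x * ((m * n)⁻¹ * (n * m)) := by
      calc ((m * n)⁻¹ * (n * m)) * x = (m * n)⁻¹ * ((n * m) * x * (n * m)⁻¹) * (n * m) := by group
        _ = _ := by rw [hnm]; group
    have e : ⁅n, m⁆ = (n * m) * (m * n)⁻¹ := by group
    rw [e]
    have h3 : (n * m) * ((m * n)⁻¹ * (n * m)) * (n * m)⁻¹ = (n * m) * (m * n)⁻¹ := by group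
    obtain ⟨u, hu⟩ : ∃ u, u = (n * m) * x * (n * m)⁻¹ := ⟨_, rfl⟩
    have hu' : u ∈ X := hu ▸ (Subgroup.mem_normalizer_iff.mp (mul_mem hn hm) x).mp (Subgroup.mem_zpowers x)
    have hcu : ((n * m) * (m * n)⁻¹) * u = u * ((n * m) * (m * n)⁻¹) := by
      rw [← h3, hu]
      calc (n * m) * ((m * n)⁻¹ * (n * m)) * (n * m)⁻¹ * ((n * m) * x * (n * m)⁻¹)
          = (n * m) * (((m * n)⁻¹ * (n * m)) * x) * (n * m)⁻¹ := by group
        _ = (n * m) * (x * ((m * n)⁻¹ * (n * m))) * (n * m)⁻¹ := by rw [h2]
        _ = _ := by group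
    have hXu : Subgroup.zpowers u = X := by
      apply Subgroup.eq_of_le_of_card_ge (Subgroup.zpowers_le.mpr hu')
      rw [hXc, Nat.card_zpowers, hu, ← MulAut.conj_apply, MulEquiv.orderOf_eq, hx]
    obtain ⟨k, hk⟩ := Subgroup.mem_zpowers_iff.mp (hXu.symm ▸ Subgroup.mem_zpowers x : x ∈ Subgroup.zpowers u)
    rw [← hk]
    exact Commute.zpow_right hcu k
  · intro hpS
    have hSX : ∀ s ∈ S, s ∈ X → s = 1 := by
      intro s hs hsX
      have h1 : Nat.card (S ⊓ X : Subgroup G) ∣ p := hXc ▸ Subgroup.card_dvd_of_le inf_le_right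
      rcases hp.eq_one_or_self_of_dvd _ h1 with h | h
      · have := Subgroup.card_eq_one.mp h
        have hm : s ∈ S ⊓ X := ⟨hs, hsX⟩
        rw [this] at hm; exact hm
      · exact absurd (h ▸ Subgroup.card_dvd_of_le (inf_le_left : S ⊓ X ≤ S)) hpS
    have hfpf : ∀ s ∈ S, s * x = x * s → s = 1 := fun s hs h => hSX s hs (hCy s h)
    have hxS : x ∉ S := fun h => by
      have := hSX x h (Subgroup.mem_zpowers x)
      rw [this, orderOf_one] at hx
      exact hp.one_lt.ne hx
    have hord : orderOf (QuotientGroup.mk x : G ⧸ S) = p := by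
      apply orderOf_eq_prime
      · rw [← QuotientGroup.mk_pow, ← hx, pow_orderOf_eq_one]; rfl
      · rwa [Ne, QuotientGroup.eq_one_iff]
    refine ⟨?_, ?_, hord, ?_⟩
    · rw [hnum]
      set N := Subgroup.normalizer (X : Set G)
      have hSN : ∀ s ∈ S, s ∈ N → s = 1 := by
        intro s hs hsN
        have h1 : s * x * s⁻¹ * x⁻¹ ∈ X :=
          mul_mem ((Subgroup.mem_normalizer_iff.mp hsN x).mp (Subgroup.mem_zpowers x))
            (inv_mem (Subgroup.mem_zpowers x))
        have h2 : s * x * s⁻¹ * x⁻¹ ∈ S := by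
          have := S.mul_mem hs ((inferInstance : S.Normal).conj_mem _ (S.inv_mem hs) x)
          simpa [mul_assoc] using this
        have h3 := hSX _ h2 h1
        apply hfpf s hs
        rwa [mul_inv_eq_one, mul_inv_eq_iff_eq_mul] at h3
      have h1 : S.relIndex (S ⊔ N) = Nat.card N := by
        rw [Subgroup.relIndex_sup_left, ← Subgroup.inf_relIndex_right,
          show S ⊓ N = ⊥ from (eq_bot_iff).mpr (fun s hs => hSN s hs.1 hs.2),
          Subgroup.relIndex_bot_left]
      have h2 : Nat.card S * Nat.card N ∣ Nat.card N * N.index := by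
        have h3 := Subgroup.relIndex_mul_relIndex ⊥ S (S ⊔ N) bot_le le_sup_left
        rw [Subgroup.relIndex_bot_left, Subgroup.relIndex_bot_left, h1] at h3
        rw [h3, Subgroup.card_mul_index]
        exact Subgroup.card_subgroup_dvd_card _
      rw [mul_comm (Nat.card S)] at h2
      exact Nat.dvd_of_mul_dvd_mul_left Nat.card_pos h2
    · haveI : Fintype S := Fintype.ofFinite S
      letI : MulAction X S :=
        MulAction.compHom S ((MulAut.conjNormal (H := S)).comp X.subtype)
      have h1 := hXp.card_modEq_card_fixedPoints S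
      have h2 : Nat.card (MulAction.fixedPoints X S) = 1 := by
        rw [Nat.card_eq_one_iff_unique]
        refine ⟨⟨fun a b => ?_⟩, ⟨⟨1, fun c => map_one ((MulAut.conjNormal (H := S)) (c : G))⟩⟩⟩
        have h : ∀ c : MulAction.fixedPoints X S, (c : S) = 1 := by
          intro c
          have hc := congrArg Subtype.val (c.2 ⟨x, Subgroup.mem_zpowers x⟩)
          apply Subtype.ext
          apply hfpf _ (c : S).2
          have hc' : x * ((c : S) : G) * x⁻¹ = ((c : S) : G) := hc
          rw [mul_inv_eq_iff_eq_mul] at hc'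
          exact hc'.symm
        exact Subtype.ext ((h a).trans (h b).symm)
      rw [h2] at h1
      rw [h1, Nat.one_mod_eq_one]; exact hp.one_lt.ne'
    · apply le_antisymm
      · intro y hy
        obtain ⟨y, rfl⟩ := QuotientGroup.mk_surjective y
        rw [Subgroup.mem_centralizer_singleton_iff, ← QuotientGroup.mk_mul, ← QuotientGroup.mk_mul] at hy
        have hmem : ∀ s : S, (s : G) * x * (s : G)⁻¹ * x⁻¹ ∈ S := fun s => by
          have := S.mul_mem s.2 ((inferInstance : S.Normal).conj_mem _ (S.inv_mem s.2) x)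
          simpa [mul_assoc] using this
        let f : S → S := fun s => ⟨(s : G) * x * (s : G)⁻¹ * x⁻¹, hmem s⟩
        have hinj : Function.Injective f := by
          intro s t hst
          have h : (s : G) * x * (s : G)⁻¹ * x⁻¹ = (t : G) * x * (t : G)⁻¹ * x⁻¹ :=
            congrArg Subtype.val hst
          have h' : (s : G) * x * (s : G)⁻¹ = (t : G) * x * (t : G)⁻¹ := mul_right_cancel h
          have h2 : ((t : G)⁻¹ * s) * x = x * ((t : G)⁻¹ * s) := by
            calc ((t : G)⁻¹ * s) * x = (t : G)⁻¹ * ((s : G) * x * (s : G)⁻¹) * s := by group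
              _ = _ := by rw [h']; group
          exact Subtype.ext (inv_mul_eq_one.mp (hfpf _ (mul_mem (inv_mem t.2) s.2) h2)).symm
        have hy' : y * x * y⁻¹ * x⁻¹ ∈ S := by
          rw [← QuotientGroup.eq_one_iff]
          simp only [QuotientGroup.mk_mul, QuotientGroup.mk_inv] at hy ⊢
          rw [hy, mul_inv_cancel_right, mul_inv_cancel]
        obtain ⟨s, hs⟩ := (Finite.injective_iff_surjective.mp hinj) ⟨_, hy'⟩
        have h : (s : G) * x * (s : G)⁻¹ = y * x * y⁻¹ :=
          mul_right_cancel (congrArg Subtype.val hs)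
        have h2 : (s : G)⁻¹ * y ∈ X := by
          apply hCy
          calc ((s : G)⁻¹ * y) * x = (s : G)⁻¹ * (y * x * y⁻¹) * y := by group
            _ = _ := by rw [← h]; group
        obtain ⟨k, hk⟩ := Subgroup.mem_zpowers_iff.mp h2
        refine Subgroup.mem_zpowers_iff.mpr ⟨k, ?_⟩
        rw [← QuotientGroup.mk_zpow, hk, QuotientGroup.mk_mul,
          show (((s : G)⁻¹ : G) : G ⧸ S) = 1 from (QuotientGroup.eq_one_iff _).mpr (inv_mem s.2), one_mul]
      · rw [Subgroup.zpowers_le]
        exact Subgroup.mem_centralizer_singleton_iff.mpr rfl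

end Cfsg.Agent.S4496
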