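import Cfsg.Statements.S4498
import Cfsg.Agent.Lib.Blocks.CharCongr
import Cfsg.Agent.Lib.Blocks.Sections

open Cfsg Cfsg.Agent.Lib.Blocks Cfsg.Agent.Lib.Characters
open scoped ComplexConjugate
-- import your own Cfsg.Agent.* helpers here

set_option autoImplicit false
open Cfsg

namespace Cfsg.Agent.S4498

/-- Let p and q be distinct primes dividing the order of the finite group G, and suppose G has no element of order p·q. Fix maximal ideals M_p over p and M_q over q of the algebraic integers. Then the principal p-block and the principal q-block of G have a non-principal irreducible character in common. -/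
theorem result {G : Type*} [Group G] [Finite G] (p q : ℕ) [Fact p.Prime] [Fact q.Prime] (hpq : p ≠ q) (hp : p ∣ Nat.card G) (hq : q ∣ Nat.card G) (hno : ∀ g : G, orderOf g ≠ p * q) (Mp Mq : Ideal Cfsg.AlgInt) (hMp : Cfsg.IsPModular p Mp) (hMq : Cfsg.IsPModular q Mq) : ∃ χ : Cfsg.IrrCharacter G, (χ : G → ℂ) ≠ (fun _ => 1) ∧ χ ∈ Cfsg.principalBlock Mp G ∧ χ ∈ Cfsg.principalBlock Mq G := by
  classical
  haveI := Fintype.ofFinite G
  haveI := Fintype.ofFinite (IrrCharacter G)
  haveI := isPrime_of_isPModular hMp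
  haveI := isPrime_of_isPModular hMq
  obtain ⟨x, hx⟩ := exists_prime_orderOf_dvd_card' p hp
  obtain ⟨y, hy⟩ := exists_prime_orderOf_dvd_card' q hq
  by_contra hcon
  push Not at hcon
  set Bp := Cfsg.principalBlock Mp G with hBp
  set Bq := Cfsg.principalBlock Mq G with hBq
  let φ : G → ℂ := fun g => ∑ χ : IrrCharacter G,
    if χ ∈ Bp then (χ : G → ℂ) g * conj ((χ : G → ℂ) x) else 0
  let ψ : G → ℂ := fun g => ∑ χ : IrrCharacter G,
    if χ ∈ Bq then (χ : G → ℂ) g * conj ((χ : G → ℂ) y) else 0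
  have hφ : ∀ g : G, ¬ p ∣ orderOf g → φ g = 0 := by
    intro g hg
    have h := finsum_regular_singular_eq_zero hMp (isPBlock_principalBlock (G := G) (M := Mp)) hg
      (h := x) (by rw [hx])
    rwa [finsum_irr_eq_sum_ite] at h
  have hψ : ∀ g : G, ¬ q ∣ orderOf g → ψ g = 0 := by
    intro g hg
    have h := finsum_regular_singular_eq_zero hMq (isPBlock_principalBlock (G := G) (M := Mq)) hg
      (h := y) (by rw [hy])
    rwa [finsum_irr_eq_sum_ite] at h
  have hzero : ∀ g : G, φ g * conj (ψ g) = 0 := by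
    intro g
    by_cases h1 : p ∣ orderOf g
    · by_cases h2 : q ∣ orderOf g
      · exfalso
        have hpq' : Nat.Coprime p q := (Nat.coprime_primes Fact.out Fact.out).2 hpq
        obtain ⟨c, hc⟩ := hpq'.mul_dvd_of_dvd_of_dvd h1 h2
        refine hno (g ^ c) ?_
        have hc0 : c ≠ 0 := fun h => (orderOf_pos g).ne' (by rw [hc, h, mul_zero])
        rw [orderOf_pow' g hc0, hc, Nat.gcd_mul_left_left, Nat.mul_div_cancel _ (Nat.pos_of_ne_zero hc0)]
      · rw [hψ g h2, map_zero, mul_zero]
    · rw [hφ g h1, zero_mul]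
  have hsum : ∑ χ : IrrCharacter G, ∑ χ' : IrrCharacter G, (if χ ∈ Bp then conj ((χ : G → ℂ) x) else 0) *
      (if χ' ∈ Bq then (χ' : G → ℂ) y else 0) *
        classInner (χ : G → ℂ) (χ' : G → ℂ) = 0 := by
    have e1 : ∑ g : G, φ g * conj (ψ g) = 0 := Finset.sum_eq_zero fun g _ => hzero g
    rw [← mul_eq_zero_iff_left (a := (Nat.card G : ℂ)⁻¹) (inv_ne_zero natCard_ne_zero_complex)] at e1
    refine Eq.trans ?_ e1
    simp only [φ, ψ, map_sum, Finset.sum_mul, Finset.mul_sum, classInner_eq_sum_inv (irr_isCharacter _)]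
    conv_lhs => rw [Finset.sum_comm]
    conv_rhs => rw [Finset.sum_comm]
    refine Finset.sum_congr rfl fun χ' _ => ?_
    conv_rhs => rw [Finset.sum_comm]
    refine Finset.sum_congr rfl fun χ _ => Finset.sum_congr rfl fun g _ => ?_
    rw [IsCharacter.apply_inv (irr_isCharacter χ'), apply_ite conj, map_mul, Complex.conj_conj, map_zero]
    split_ifs <;> ring
  simp only [classInner_irr, mul_ite, mul_one, mul_zero, Finset.sum_ite_eq, Finset.mem_univ, if_true]
    at hsum
  have h1p : trivIrr G ∈ Bp := self_mem_blockOf (trivIrr G)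
  have h1q : trivIrr G ∈ Bq := self_mem_blockOf (trivIrr G)
  rw [Finset.sum_eq_single (trivIrr G)] at hsum
  · simp [h1p, h1q] at hsum
  · intro χ _ hne
    by_cases h : χ ∈ Bp
    · simp [hcon χ (fun h' => hne (Subtype.ext (by rw [h']; rfl))) h]
    · simp [h]
  · simp

end Cfsg.Agent.S4498
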