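import Cfsg.Statements.S4499
import Cfsg.Agent.Lib.BlockHeights.PositiveHeight
-- import your own Cfsg.Agent.* helpers here

set_option autoImplicit false
open Cfsg Cfsg.Agent.Lib.BlockHeights
set_option linter.style.haveILetI false

namespace Cfsg.Agent.S4499

/-- Let G be a finite group whose order has p-part p^a (a ≥ 1), and fix a maximal ideal M of the algebraic integers containing p. If the degree of one irreducible character of a p-block B is divisible by p^(a−1), then the degree of every irreducible character in B is divisible by p^(a−1) (so B has defect at most 1). -/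
theorem result {G : Type*} [Group G] [Finite G] (p : ℕ) [Fact p.Prime] (M : Ideal Cfsg.AlgInt) (hM : Cfsg.IsPModular p M) (hpa : p ∣ Nat.card G) (B : Set (Cfsg.IrrCharacter G)) (hB : Cfsg.IsPBlock M B) (χ : Cfsg.IrrCharacter G) (hχ : χ ∈ B) (hdiv : p ^ ((Nat.card G).factorization p - 1) ∣ Cfsg.charDegree (χ : G → ℂ)) (ψ : Cfsg.IrrCharacter G) (hψ : ψ ∈ B) : p ^ ((Nat.card G).factorization p - 1) ∣ Cfsg.charDegree (ψ : G → ℂ) := by
  classical
  haveI := Fintype.ofFinite G
  haveI := Cfsg.Agent.Lib.Blocks.isPrime_of_isPModular hM
  have hp := hM.1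
  have key : ∀ η ∈ B, (Nat.card G).factorization p - 1 ≤ (Cfsg.charDegree (η : G → ℂ)).factorization p := by
    have hχ' := (hp.pow_dvd_iff_le_factorization (charDegree_irr_pos χ).ne').1 hdiv
    intro η hη
    by_contra hlt
    have h1 := minExp_le (p := p) hη
    have h2 := nu_add_two_le hM hB hχ (by simp only [nu, minExp] at *; omega)
    simp only [nu] at h2
    omega
  exact (hp.pow_dvd_iff_le_factorization (charDegree_irr_pos ψ).ne').2 (key ψ hψ)

end Cfsg.Agent.S4499
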