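import Cfsg.Statements.S4500
import Cfsg.Agent.S4499
import Cfsg.Agent.Lib.Blocks.Sections
import Cfsg.Agent.Lib.Blocks.Exists
import Cfsg.Agent.Lib.Blocks.DefectZero


set_option autoImplicit false
open Cfsg Cfsg.Agent.Lib.Characters Cfsg.Agent.Lib.Blocks Cfsg.Agent.Lib.BlockHeights
open scoped ComplexConjugate

namespace Cfsg.Agent.S4500

theorem exists_degree_pow {G : Type*} [Group G] [Finite G] [Nontrivial G] (p q r a b c : ℕ) (hp : p.Prime)
    (hq : q.Prime) (hr : r.Prime) (ha : a ≤ 2) (hpq : p ≠ q) (hpr : p ≠ r)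
    (hG : Nat.card G = p ^ a * q ^ b * r ^ c) :
    ∃ χ : Cfsg.IrrCharacter G, (χ : G → ℂ) ≠ (fun _ => 1) ∧ ∃ k : ℕ, Cfsg.charDegree (χ : G → ℂ) = q ^ k := by
  classical
  haveI := Fintype.ofFinite G
  haveI := Fintype.ofFinite (IrrCharacter G)
  haveI : Fact p.Prime := ⟨hp⟩
  haveI : Fact r.Prime := ⟨hr⟩
  obtain ⟨M, hM⟩ := exists_isPModular hp
  obtain ⟨M', hM'⟩ := exists_isPModular hr
  haveI : M.IsPrime := hM.2.1.isPrime
  haveI : M'.IsPrime := hM'.2.1.isPrime
  have htriv : ∀ χ : IrrCharacter G, (χ : G → ℂ) = (fun _ => 1) ↔ χ = trivIrr G := fun χ => by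
    constructor
    · exact fun h => Subtype.ext (h.trans (funext fun g => (trivIrr_apply g).symm))
    · rintro rfl
      exact funext fun g => trivIrr_apply g
  -- a relation between degrees prime to `p`
  obtain ⟨B, y, hB1, hBp, hrel⟩ : ∃ (B : Finset (IrrCharacter G)) (y : G), trivIrr G ∈ B ∧
      (∀ χ ∈ B, ¬ p ∣ charDegree (χ : G → ℂ)) ∧
      ∑ χ ∈ B, (χ : G → ℂ) 1 * conj ((χ : G → ℂ) y) = 0 := by
    by_cases hd : p ∣ Nat.card G
    · obtain ⟨y, hy⟩ := exists_prime_orderOf_dvd_card' p hd
      refine ⟨(principalBlock M G).toFinset, y, Set.mem_toFinset.2 (self_mem_blockOf (trivIrr G)), ?_, ?_⟩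
      · intro χ hχ hdd
        have hfac : (Nat.card G).factorization p ≤ 2 := by
          rcases Nat.eq_zero_or_pos ((Nat.card G).factorization p) with h | h
          · omega
          · have h1 : p ^ (Nat.card G).factorization p ∣ p ^ a * q ^ b * r ^ c := hG ▸ Nat.ordProj_dvd _ _
            have hcop : Nat.Coprime (p ^ (Nat.card G).factorization p) (q ^ b * r ^ c) :=
              Nat.Coprime.mul_right (((Nat.coprime_primes hp hq).2 hpq).pow _ _) (((Nat.coprime_primes hp hr).2 hpr).pow _ _)
            rw [mul_assoc] at h1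
            have h2 := (Nat.pow_dvd_pow_iff_le_right hp.one_lt).1 (hcop.dvd_of_dvd_mul_right h1)
            omega
        have h1 : p ^ ((Nat.card G).factorization p - 1) ∣ charDegree (χ : G → ℂ) :=
          (pow_dvd_pow p (by omega : (Nat.card G).factorization p - 1 ≤ 1)).trans (by rwa [pow_one])
        have h2 := S4499.result p M hM hd (principalBlock M G) isPBlock_principalBlock χ
          (Set.mem_toFinset.1 hχ) h1 (trivIrr G) (self_mem_blockOf (trivIrr G))
        have h3 : charDegree ((trivIrr G : IrrCharacter G) : G → ℂ) = 1 :=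
          charDegree_trivIrr
        rw [h3, Nat.dvd_one, Nat.pow_eq_one] at h2
        rcases h2 with h2 | h2
        · exact hp.ne_one h2
        · -- then the degree is divisible by the full `p`-part
          have hf : (Nat.card G).factorization p = 1 := by
            have := hp.factorization_pos_of_dvd Nat.card_pos.ne' hd
            omega
          have hv : ∀ x : G, p ∣ orderOf x → (χ : G → ℂ) x = 0 := fun x hx =>
            eq_zero_of_blockOf_eq_singleton hM χ (blockOf_eq_singleton hM χ fun hdiv => by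
              obtain ⟨n, hn⟩ := Lib.Blocks.charDegree_dvd_card χ
              rw [hn, Nat.mul_div_cancel_left n (charDegree_pos χ)] at hdiv
              have h4 : p ^ 2 ∣ Nat.card G := by rw [hn, pow_two]; exact Nat.mul_dvd_mul hdd hdiv
              have h5 := (hp.pow_dvd_iff_le_factorization Nat.card_pos.ne').1 h4
              omega) hx
          have hsing := blockOf_eq_singleton hM χ (not_dvd_card_div_of_vanish χ hv)
          have hmem : trivIrr G ∈ blockOf M (χ : G → ℂ) :=
            sameBlock_symm (Set.mem_toFinset.1 hχ)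
          rw [hsing, Set.mem_singleton_iff] at hmem
          rw [← hmem, h3, Nat.dvd_one] at hdd
          exact hp.ne_one hdd
      · have hy' : p ∣ orderOf (y : G) := hy ▸ dvd_rfl
        have h := blockCoeff_eq_zero_of_dvd hM (isPBlock_principalBlock (G := G)) hy'
        rw [blockCoeff, finsum_mem_eq_toFinset_sum, mul_eq_zero, inv_eq_zero] at h
        exact h.resolve_left natCard_ne_zero_complex
    · obtain ⟨y, hy⟩ := exists_ne (1 : G)
      refine ⟨Finset.univ, y, Finset.mem_univ _, fun χ _ h => hd (h.trans (Lib.Blocks.charDegree_dvd_card χ)), ?_⟩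
      have h := sum_irr_mul_conj (1 : G) y
      rw [if_neg fun h' => hy (isConj_one_right.1 h')] at h
      exact h
  -- some non-principal member has degree prime to `r`
  obtain ⟨χ, hχB, hχ1, hχr⟩ : ∃ χ ∈ B, χ ≠ trivIrr G ∧ ¬ r ∣ charDegree (χ : G → ℂ) := by
    by_contra hcon
    push Not at hcon
    refine not_memLocalIdeal_one (M := M') ?_
    rw [← Finset.add_sum_erase _ _ hB1, add_eq_zero_iff_eq_neg] at hrel
    rw [trivIrr_apply, trivIrr_apply, map_one, one_mul] at hrel
    rw [hrel]
    refine memLocalIdeal_neg (memLocalIdeal_sum _ fun χ hχ => ?_)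
    obtain ⟨hne, hmem⟩ := Finset.mem_erase.1 hχ
    rw [← charDegree_eq χ]
    exact memLocalIdeal_mul_right ((memLocalIdeal_natCast_iff hM' _).2 (hcon χ hmem hne))
      (memLocalRing_of_isIntegral' (isIntegral_conj_char χ y))
  refine ⟨χ, fun h => hχ1 ((htriv χ).1 h), ?_⟩
  have hdvd : charDegree (χ : G → ℂ) ∣ p ^ a * q ^ b * r ^ c := hG ▸ Lib.Blocks.charDegree_dvd_card χ
  have h1 : Nat.Coprime (charDegree (χ : G → ℂ)) (r ^ c) :=
    ((hr.coprime_iff_not_dvd.2 hχr).symm).pow_right c
  have h2 : Nat.Coprime (charDegree (χ : G → ℂ)) (p ^ a) :=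
    ((hp.coprime_iff_not_dvd.2 (hBp χ hχB)).symm).pow_right a
  obtain ⟨k, -, hk⟩ := (Nat.dvd_prime_pow hq).1 (h2.dvd_of_dvd_mul_left (h1.dvd_of_dvd_mul_right hdvd))
  exact ⟨k, hk⟩

/-- Let G be a non-trivial finite group of order p^a · q^b · r^c with p, q, r distinct primes and a ≤ 2. Then G has a non-principal irreducible character whose degree is a power of q, and a non-principal irreducible character whose degree is a power of r; the power may be the zeroth, so a non-principal linear character serves for both. -/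
theorem result {G : Type*} [Group G] [Finite G] [Nontrivial G] (p q r a b c : ℕ) (hp : p.Prime) (hq : q.Prime) (hr : r.Prime) (hpq : p ≠ q) (hpr : p ≠ r) (hqr : q ≠ r) (ha : a ≤ 2) (hG : Nat.card G = p ^ a * q ^ b * r ^ c) : (∃ χ : Cfsg.IrrCharacter G, (χ : G → ℂ) ≠ (fun _ => 1) ∧ ∃ k : ℕ, Cfsg.charDegree (χ : G → ℂ) = q ^ k) ∧ ∃ χ : Cfsg.IrrCharacter G, (χ : G → ℂ) ≠ (fun _ => 1) ∧ ∃ k : ℕ, Cfsg.charDegree (χ : G → ℂ) = r ^ k := by
  refine ⟨exists_degree_pow p q r a b c hp hq hr ha hpq hpr hG, ?_⟩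
  exact exists_degree_pow p r q a c b hp hr hq ha hpr hpq (by rw [hG]; ring)

end Cfsg.Agent.S4500
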