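import Cfsg.Statements.S4502
import Cfsg.Agent.Lib.Blocks.DefectOneCount
import Cfsg.Agent.Lib.Blocks.Exists
import Cfsg.Agent.Lib.Characters.Ito

open Cfsg Cfsg.Agent.Lib.Blocks Cfsg.Agent.Lib.Characters
-- import your own Cfsg.Agent.* helpers here

set_option autoImplicit false
open Cfsg

namespace Cfsg.Agent.S4502

/-- Let G be a finite group whose order is divisible by the prime p exactly once, and let P be a Sylow p-subgroup. Then the number of irreducible characters of G of degree not divisible by p equals the number of conjugacy classes of the normalizer of P. -/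
theorem result {G : Type*} [Group G] [Finite G] (p : ℕ) [Fact p.Prime] (hdiv : p ∣ Nat.card G) (hsq : ¬ p ^ 2 ∣ Nat.card G) (P : Sylow p G) : Nat.card {χ : Cfsg.IrrCharacter G // ¬ p ∣ Cfsg.charDegree (χ : G → ℂ)} = Nat.card (ConjClasses (Subgroup.normalizer ((P : Subgroup G) : Set G))) := by
  classical
  haveI := Fintype.ofFinite G
  have hp : p.Prime := Fact.out
  have hfac : (Nat.card G).factorization p = 1 := by
    refine le_antisymm ?_ (hp.factorization_pos_of_dvd Nat.card_pos.ne' hdiv)
    by_contra hlt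
    exact hsq ((pow_dvd_pow p (by omega : 2 ≤ (Nat.card G).factorization p)).trans (Nat.ordProj_dvd _ _))
  have hP : Nat.card (P : Subgroup G) = p := by
    rw [Sylow.card_eq_multiplicity, hfac, pow_one]
  obtain ⟨M, hM⟩ := exists_isPModular hp
  haveI := isPrime_of_isPModular hM
  obtain ⟨u, O, S⟩ := exists_primeSplit (P : Subgroup G) hP hsq
  haveI := Fintype.ofFinite O
  set Q : Subgroup G := (P : Subgroup G) with hQ
  set N := Subgroup.normalizer (Q : Set G) with hN
  have hCN : Subgroup.centralizer (Q : Set G) ≤ N := Subgroup.centralizer_le_normalizer _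
  have hQN : Q ≤ N := Subgroup.le_normalizer
  have hON : O ≤ N := S.le_centralizer.trans hCN
  haveI := Fintype.ofFinite N
  haveI := Fintype.ofFinite (O.subgroupOf N)
  haveI : (Q.subgroupOf N).Normal := Subgroup.normal_in_normalizer
  have hnorm' : Subgroup.normalizer ((Q.subgroupOf N : Subgroup N) : Set N) = ⊤ :=
    Subgroup.normalizer_eq_top _
  have hcen : Subgroup.centralizer ((Q.subgroupOf N : Subgroup N) : Set N) =
      (Subgroup.centralizer (Q : Set G)).subgroupOf N := by
    ext c
    rw [Subgroup.mem_centralizer_iff, Subgroup.mem_subgroupOf, Subgroup.mem_centralizer_iff]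
    constructor
    · intro h a ha
      exact congrArg Subtype.val (h ⟨a, hQN ha⟩ ha)
    · intro h a ha
      exact Subtype.ext (h a ha)
  have S' : PrimeSplit p (Q.subgroupOf N) (O.subgroupOf N) ⟨u, hQN S.mem⟩ := by
    refine ⟨?_, fun h => hsq (h.trans (Subgroup.card_subgroup_dvd_card N)), S.mem, ?_, ?_, ?_, ?_, ?_, ?_⟩
    · rw [Nat.card_congr (Subgroup.subgroupOfEquivOfLe hQN).toEquiv]; exact hP
    · exact fun h => S.ne_one (congrArg Subtype.val h)
    · rw [hcen]; exact fun c hc => S.le_centralizer hc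
    · rw [Nat.card_congr (Subgroup.subgroupOfEquivOfLe hON).toEquiv]; exact S.not_dvd
    · intro c
      rw [Subgroup.mem_subgroupOf, S.mem_iff, hcen, Subgroup.mem_subgroupOf, Subgroup.orderOf_coe]
    · intro c hc
      rw [hcen, Subgroup.mem_subgroupOf] at hc
      obtain ⟨j, y, hy, hj⟩ := S.dec _ hc
      exact ⟨j, ⟨y, hON hy⟩, hy, Subtype.ext (by simpa using hj)⟩
    · intro g _ y hy
      exact S.normal g g.2 y hy
  haveI := Fintype.ofFinite (IrrCharacter O)
  haveI := Fintype.ofFinite (IrrCharacter (O.subgroupOf N))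
  have h1 := S.card_not_dvd_eq_sum hM
  have h2 := S'.card_not_dvd_eq_sum hM
  let eO : O.subgroupOf N ≃* O := Subgroup.subgroupOfEquivOfLe hON
  have hsum : ∑ θ : IrrCharacter (O.subgroupOf N), thetaWeight p S' θ =
      ∑ θ : IrrCharacter O, thetaWeight p S θ := by
    refine Fintype.sum_equiv (show IrrCharacter (O.subgroupOf N) ≃ IrrCharacter O from
      { toFun := fun θ => (⟨(θ : O.subgroupOf N → ℂ) ∘ eO.symm, IsIrrCharacter.comp_equiv θ.2 eO.symm⟩ : IrrCharacter O)
        invFun := fun θ => (⟨(θ : O → ℂ) ∘ eO, IsIrrCharacter.comp_equiv θ.2 eO⟩ : IrrCharacter (O.subgroupOf N))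
        left_inv := fun θ => Subtype.ext (funext fun x =>
          congrArg (θ : O.subgroupOf N → ℂ) (eO.symm_apply_apply x))
        right_inv := fun θ => Subtype.ext (funext fun x =>
          congrArg (θ : O → ℂ) (eO.apply_symm_apply x)) }) _ _ fun θ => ?_
    set θ' : IrrCharacter O :=
      ⟨(θ : O.subgroupOf N → ℂ) ∘ eO.symm, IsIrrCharacter.comp_equiv θ.2 eO.symm⟩
    show thetaWeight p S' θ = thetaWeight p S θ'
    have hT : thetaStab (Q.subgroupOf N) (O.subgroupOf N) S'.normal (θ : O.subgroupOf N → ℂ) =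
        (thetaStab Q O S.normal (θ' : O → ℂ)).subgroupOf N := by
      ext g
      rw [Subgroup.mem_subgroupOf, mem_thetaStab, mem_thetaStab, hnorm']
      constructor
      · rintro ⟨-, h⟩
        exact ⟨g.2, fun y y' hy => h (eO.symm y) (eO.symm y') (Subtype.ext hy)⟩
      · rintro ⟨-, h⟩
        refine ⟨Subgroup.mem_top g, fun y y' hy => ?_⟩
        have := h (eO y) (eO y') (congrArg Subtype.val hy)
        simpa [θ'] using this
    have hTN : thetaStab Q O S.normal (θ' : O → ℂ) ≤ N := fun g hg => hg.1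
    have hnc : Nat.card (Subgroup.normalizer ((Q.subgroupOf N : Subgroup N) : Set N)) = Nat.card N := by
      rw [hnorm', Subgroup.card_top]
    rw [thetaWeight, thetaWeight, hT, hnc, hcen,
      Nat.card_congr (Subgroup.subgroupOfEquivOfLe hTN).toEquiv,
      Nat.card_congr (Subgroup.subgroupOfEquivOfLe hCN).toEquiv]
  rw [hsum, ← h1] at h2
  have hQab : ∀ a ∈ Q.subgroupOf N, ∀ b ∈ Q.subgroupOf N, a * b = b * a := by
    intro a ha b hb
    obtain ⟨i, hi⟩ := exists_upow_eq hP S.mem S.ne_one (show (a : G) ∈ Q from ha)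
    obtain ⟨j, hj⟩ := exists_upow_eq hP S.mem S.ne_one (show (b : G) ∈ Q from hb)
    apply Subtype.ext
    show (a : G) * b = b * a
    rw [← hi, ← hj, ← upow_add S.pow_u, ← upow_add S.pow_u, add_comm]
  have hall : ∀ χ : IrrCharacter N, ¬ p ∣ charDegree (χ : N → ℂ) := by
    intro χ hd
    have h := IsIrrCharacter.degree_dvd_index_of_abelian χ.2 (Q.subgroupOf N) hQab
      (charDegree_eq χ).symm
    have h3 := Subgroup.index_mul_card (Q.subgroupOf N)
    rw [S'.card_P] at h3
    exact S'.sq (by rw [← h3, pow_two]; exact Nat.mul_dvd_mul (hd.trans h) dvd_rfl)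
  have hcard : Nat.card {χ : IrrCharacter N // ¬ p ∣ charDegree (χ : N → ℂ)} = Nat.card (IrrCharacter N) :=
    Nat.card_congr (Equiv.subtypeUnivEquiv hall)
  rw [hcard, card_irrCharacter, Nat.cast_inj] at h2
  exact h2.symm

end Cfsg.Agent.S4502
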