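import Cfsg.Statements.S4506
import Cfsg.Agent.Lib.Blocks.PConjugate
import Cfsg.Agent.Lib.Blocks.Exists


set_option autoImplicit false
open Cfsg

namespace Cfsg.Agent.S4506

/-- Let G be a finite group, p a prime, p^a the p-part of the order of G and g′ its p′-part. Call two irreducible characters p-conjugate when one is obtained from the other by applying a field automorphism of ℂ that fixes the g′-th roots of unity, and let r be the number of characters p-conjugate to the irreducible character χ (χ included). Then the exponent of p in r·χ(1) is at most a; and if p^a divides r·χ(1) then p^a already divides χ(1). -/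
theorem result {G : Type*} [Group G] [Finite G] (p : ℕ) (hp : p.Prime) (χ : Cfsg.IrrCharacter G) (r : ℕ) (hr : Nat.card {ψ : Cfsg.IrrCharacter G // ∃ σ : ℂ ≃+* ℂ, σ (Complex.exp (2 * Real.pi * Complex.I / ((Nat.card G / p ^ (Nat.card G).factorization p) : ℕ))) = Complex.exp (2 * Real.pi * Complex.I / ((Nat.card G / p ^ (Nat.card G).factorization p) : ℕ)) ∧ (ψ : G → ℂ) = fun g => σ ((χ : G → ℂ) g)} = r) : (r * Cfsg.charDegree (χ : G → ℂ)).factorization p ≤ (Nat.card G).factorization p ∧ (p ^ (Nat.card G).factorization p ∣ r * Cfsg.charDegree (χ : G → ℂ) → p ^ (Nat.card G).factorization p ∣ Cfsg.charDegree (χ : G → ℂ)) := by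
  classical
  haveI := Fintype.ofFinite G
  haveI : Fact p.Prime := ⟨hp⟩
  obtain ⟨M, hM⟩ := Cfsg.Agent.Lib.Blocks.exists_isPModular hp
  haveI : M.IsPrime := hM.2.1.isPrime
  have hc : Nat.card G / p ^ (Nat.card G).factorization p ≠ 0 :=
    (Nat.ordCompl_pos p Nat.card_pos.ne').ne'
  have hz := Complex.isPrimitiveRoot_exp _ hc
  have hset : Nat.card (Cfsg.Agent.Lib.Blocks.pOrbit p χ) = r := by
    rw [← hr]
    refine Nat.card_congr (Equiv.subtypeEquivRight fun ψ => ?_)
    constructor
    · rintro ⟨σ, h1, h2⟩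
      exact ⟨σ, h1 _ hz.pow_eq_one, h2⟩
    · rintro ⟨σ, h1, h2⟩
      refine ⟨σ, fun z hz1 => ?_, h2⟩
      haveI : NeZero (Nat.card G / p ^ (Nat.card G).factorization p) := ⟨hc⟩
      obtain ⟨i, -, rfl⟩ := hz.eq_pow_of_pow_eq_one hz1
      rw [map_pow, h1]
  have h := Cfsg.Agent.Lib.Blocks.factorization_pOrbit hM χ
  rw [hset] at h
  exact h

end Cfsg.Agent.S4506
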