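import Cfsg.Statements.S4507
import Cfsg.Agent.Lib.Blocks.DefectOneGalois

open Cfsg Cfsg.Agent.Lib.Blocks Cfsg.Agent.Lib.Characters
-- import your own Cfsg.Agent.* helpers here

set_option autoImplicit false
open Cfsg

namespace Cfsg.Agent.S4507

/-- Let G be a finite group whose order g is divisible by the prime p exactly once, g′ = g/p, and fix a maximal ideal M of the algebraic integers containing p. Call two irreducible characters p-conjugate when a field automorphism of ℂ fixing the g′-th roots of unity carries one to the other. Let B be a p-block of positive defect (its defect group is a Sylow p-subgroup). Then B contains a subset Y (the exceptional family) such that: Y is a full p-conjugacy class (its members are pairwise p-conjugate and every p-conjugate of a member of Y lies in Y); every member of B outside Y is p-conjugate only to itself; the size t of Y divides p − 1 and B has exactly t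 + (p − 1)/t members; and there are signs δ_χ = ±1 (χ ∈ B) such that for every p-regular element x and every θ ∈ Y, Σ_{χ ∈ B ∖ Y} δ_χ χ(x) + δ_θ θ(x) = 0. -/
theorem result {G : Type*} [Group G] [Finite G] (p : ℕ) [Fact p.Prime] (M : Ideal Cfsg.AlgInt) (hM : Cfsg.IsPModular p M) (hdiv : p ∣ Nat.card G) (hsq : ¬ p ^ 2 ∣ Nat.card G) (B : Set (Cfsg.IrrCharacter G)) (hB : Cfsg.IsPBlock M B) (hd : 0 < Cfsg.blockDefect p B) : ∃ Y : Set (Cfsg.IrrCharacter G), Y ⊆ B ∧ Y.Nonempty ∧ (∀ θ ∈ Y, ∀ ψ : Cfsg.IrrCharacter G, (∃ σ : ℂ ≃+* ℂ, σ (Complex.exp (2 * Real.pi * Complex.I / ((Nat.card G / p ^ (Nat.card G).factorization p) : ℕ))) = Complex.exp (2 * Real.pi * Complex.I / ((Nat.card G / p ^ (Nat.card G).factorization p) : ℕ)) ∧ (ψ : G → ℂ) = fun g => σ ((θ : G → ℂ) g)) ↔ ψ ∈ Y) ∧ (∀ χ ∈ B, χ ∉ Y → ∀ ψ : Cfsg.IrrCharacter G, (∃ σ : ℂ ≃+* ℂ, σ (Complex.exp (2 * Real.pi * Complex.I / ((Nat.card G / p ^ (Nat.card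 G).factorization p) : ℕ))) = Complex.exp (2 * Real.pi * Complex.I / ((Nat.card G / p ^ (Nat.card G).factorization p) : ℕ)) ∧ (ψ : G → ℂ) = fun g => σ ((χ : G → ℂ) g)) → ψ = χ) ∧ Nat.card Y ∣ p - 1 ∧ Nat.card B = Nat.card Y + (p - 1) / Nat.card Y ∧ ∃ δ : Cfsg.IrrCharacter G → ℤ, (∀ χ ∈ B, δ χ = 1 ∨ δ χ = -1) ∧ ∀ x : G, ¬ p ∣ orderOf x → ∀ θ ∈ Y, (∑ᶠ χ ∈ B \ Y, (δ χ : ℂ) * (χ : G → ℂ) x) + (δ θ : ℂ) * (θ : G → ℂ) x = 0 := by
  classical
  haveI := isPrime_of_isPModular hM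
  haveI := Fintype.ofFinite G
  have hp : p.Prime := Fact.out
  obtain ⟨P, hP⟩ := exists_isDefectGroup hM hB
  have hfac : (Nat.card G).factorization p = 1 := by
    refine le_antisymm ?_ (hp.factorization_pos_of_dvd Nat.card_pos.ne' hdiv)
    by_contra hlt
    exact hsq ((pow_dvd_pow p (by omega : 2 ≤ (Nat.card G).factorization p)).trans (Nat.ordProj_dvd _ _))
  have hd1 : Cfsg.blockDefect p B = 1 :=
    le_antisymm (hfac ▸ Nat.sub_le _ _) hd
  have hPc : Nat.card P = p := by rw [IsDefectGroup.card_eq hM hB hP, hd1, pow_one]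
  obtain ⟨u, O, S⟩ := exists_primeSplit P hPc hsq
  haveI := Fintype.ofFinite O
  haveI := Fintype.ofFinite (Subgroup.centralizer (P : Set G))
  have hPC : P ⊔ Subgroup.centralizer (P : Set G) = Subgroup.centralizer (P : Set G) := by
    refine sup_eq_right.2 fun a ha => ?_
    obtain ⟨i, rfl⟩ := exists_upow_eq hPc S.mem S.ne_one ha
    simpa using S.upow_mul_mem i 1
  obtain ⟨b, hb⟩ := (extendedFirstMain_of_eq hM hB P _ hPC hP).1
  obtain ⟨ψ₀, hψ₀⟩ := IsPBlock.nonempty hb.1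
  obtain ⟨hout, hin⟩ := S.defect_one_inputs hM hB hP hb hψ₀
  set θ := S.resIrr ψ₀ with hθ
  obtain ⟨t, r, n, e, D⟩ := S.exists_stabData θ
  obtain ⟨SX, SY, dX, ε, Y, hmem, hdisj, hX, hY, hYmem, hε, hYR, hXp, hYc, hYdeg, hrel, hne⟩ :=
    D.defect_one hM hB hout hin
  -- the roots of unity of order prime to `p`
  set g' := Nat.card G / p ^ (Nat.card G).factorization p with hg'
  have hgp : Nat.card G = p * g' := by
    conv_lhs => rw [← Nat.ordProj_mul_ordCompl_eq_self (Nat.card G) p]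
    rw [hfac, pow_one, hg', hfac, pow_one]
  have hg'0 : g' ≠ 0 := fun h => Nat.card_pos.ne' (hgp.trans (by rw [h, mul_zero]))
  have hpg' : ¬ p ∣ g' := fun h => hsq (by rw [hgp, pow_two]; exact Nat.mul_dvd_mul_left p h)
  have hdvdg' : ∀ k : ℕ, k ∣ Nat.card G → ¬ p ∣ k → k ∣ g' := fun k hk hpk =>
    (Nat.Coprime.dvd_mul_left ((hp.coprime_iff_not_dvd.2 hpk).symm)).1 (hgp ▸ hk)
  set ω := Complex.exp (2 * Real.pi * Complex.I / (g' : ℕ)) with hω
  have hωprim : IsPrimitiveRoot ω g' := Complex.isPrimitiveRoot_exp g' hg'0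
  haveI : NeZero g' := ⟨hg'0⟩
  have hfix : ∀ σ : ℂ ≃+* ℂ, σ ω = ω → ∀ z : ℂ, z ^ g' = 1 → σ z = z := by
    intro σ hσ z hz
    obtain ⟨i, -, rfl⟩ := hωprim.eq_pow_of_pow_eq_one hz
    rw [map_pow, hσ]
  have hOg' : Nat.card O ∣ g' := hdvdg' _ (Subgroup.card_subgroup_dvd_card O) S.not_dvd
  have hfixO : ∀ σ : ℂ ≃+* ℂ, σ ω = ω → ∀ z : ℂ, z ^ Nat.card O = 1 → σ z = z := by
    intro σ hσ z hz
    obtain ⟨c, hc⟩ := hOg'
    exact hfix σ hσ z (by rw [hc, pow_mul, hz, one_pow])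
  -- the action on the sections
  have hinσ : ∀ σ : ℂ ≃+* ℂ, σ ω = ω → ∀ χ ∈ B, ∀ η : IrrCharacter O,
      (∀ (g : G) (hg : g ∈ Subgroup.normalizer (P : Set G)),
        ∃ y : O, (η : O → ℂ) y ≠ (θ : O → ℂ) ⟨g * (y : G) * g⁻¹, S.normal g hg y y.2⟩) →
      ∀ i : ZMod p, i ≠ 0 → secCoeff u (η : O → ℂ) (autIrr σ χ) i = 0 := by
    intro σ hσ χ hχ η hη i hi
    rw [S.secCoeff_autIrr (hfixO σ hσ) η χ i, hin χ hχ η hη i hi, map_zero]
  have hreg : ∀ σ : ℂ ≃+* ℂ, σ ω = ω → ∀ (χ : IrrCharacter G) (g : G), ¬ p ∣ orderOf g →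
      (autIrr σ χ : G → ℂ) g = (χ : G → ℂ) g := fun σ hσ χ g hg =>
    complexAut_apply_char (irr_isCharacter χ) (hfix σ hσ) (hdvdg' _ (orderOf_dvd_natCard g) hg)
  have hXfix : ∀ σ : ℂ ≃+* ℂ, σ ω = ω → ∀ χ ∈ SX, autIrr σ χ = χ := by
    intro σ hσ χ hχ
    have hχB : χ ∈ B := (hmem χ).2 (Or.inl hχ)
    refine D.eq_of_sections (hinσ σ hσ χ hχB) (hin χ hχB) (hreg σ hσ χ) fun i hi => ?_
    rw [S.secCoeff_autIrr (hfixO σ hσ), (hXp χ hχ).2.1 i hi, map_intCast]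
  have hψval : ∀ σ : ℂ ≃+* ℂ, ∃ a : ZMod p, a ≠ 0 ∧
      ∀ x, σ (ZMod.stdAddChar x) = ZMod.stdAddChar (a * x) := by
    intro σ
    have h1 : (ZMod.stdAddChar (1 : ZMod p)) ^ p = 1 := by
      rw [← AddChar.map_nsmul_eq_pow, nsmul_one, ZMod.natCast_self, AddChar.map_zero_eq_one]
    have hne1 : (ZMod.stdAddChar (1 : ZMod p)) ≠ 1 := fun h =>
      one_ne_zero (ZMod.injective_stdAddChar (h.trans (AddChar.map_zero_eq_one _).symm))
    have hprim : IsPrimitiveRoot (ZMod.stdAddChar (1 : ZMod p)) p :=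
      IsPrimitiveRoot.iff_orderOf.2 (orderOf_eq_prime h1 hne1)
    obtain ⟨k, -, hk⟩ := hprim.eq_pow_of_pow_eq_one
      (show (σ (ZMod.stdAddChar (1 : ZMod p))) ^ p = 1 by rw [← map_pow, h1, map_one])
    refine ⟨(k : ZMod p), fun h => hne1 ?_, fun x => ?_⟩
    · apply σ.injective
      rw [← hk, map_one σ, ← AddChar.map_nsmul_eq_pow, nsmul_one, h, AddChar.map_zero_eq_one]
    · conv_lhs => rw [← ZMod.natCast_zmod_val x, ← nsmul_one x.val, AddChar.map_nsmul_eq_pow, map_pow, ← hk,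
        ← pow_mul, ← AddChar.map_nsmul_eq_pow, nsmul_one, Nat.cast_mul, ZMod.natCast_zmod_val]
  have hYact : ∀ σ : ℂ ≃+* ℂ, σ ω = ω → ∀ (a : ZMod p), a ≠ 0 →
      (∀ x, σ (ZMod.stdAddChar x) = ZMod.stdAddChar (a * x)) → ∀ (k k' : {j : ZMod p // j ≠ 0}),
        (k' : ZMod p) = a * k → autIrr σ (Y k) = Y k' := by
    intro σ hσ a ha hσψ k k' hk'
    have hkB : ∀ k, Y k ∈ B := fun k => (hmem _).2 (Or.inr ((hYmem _).2 ⟨k, rfl⟩))
    refine D.eq_of_sections (hinσ σ hσ _ (hkB k)) (hin _ (hkB k')) (fun g hg => ?_) fun i hi => ?_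
    · rw [hreg σ hσ _ g hg]
      exact mul_left_cancel₀ (by rcases hε with rfl | rfl <;> norm_num)
        ((hrel k g hg).trans (hrel k' g hg).symm)
    · rw [S.secCoeff_autIrr (hfixO σ hσ), hYc k i hi, hYc k' i hi, map_mul, map_intCast, map_sum]
      refine congrArg _ (Finset.sum_equiv (Equiv.mulLeft₀ a ha) (fun j => ?_) fun j _ => ?_)
      · simp only [Finset.mem_filter, Finset.mem_univ, true_and]
        show _ ↔ (a * j * (k' : ZMod p)⁻¹) ^ e = 1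
        rw [hk', mul_inv, mul_assoc, mul_left_comm j a⁻¹, ← mul_assoc a, mul_inv_cancel₀ ha, one_mul]
      · rw [hσψ]
        show ZMod.stdAddChar (a * (i * j)) = ZMod.stdAddChar (i * (a * j))
        rw [mul_left_comm]
  have hsurj : ∀ a : ZMod p, a ≠ 0 → ∃ σ : ℂ ≃+* ℂ, σ ω = ω ∧
      ∀ x, σ (ZMod.stdAddChar x) = ZMod.stdAddChar (a * x) := by
    intro a ha
    have hcop : Nat.Coprime p g' := hp.coprime_iff_not_dvd.2 hpg'
    obtain ⟨k, hk1, hk2⟩ := Nat.chineseRemainder hcop a.val 1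
    have hka : (k : ZMod p) = a := by
      rw [(ZMod.natCast_eq_natCast_iff _ _ _).2 hk1, ZMod.natCast_zmod_val]
    have hkG : Nat.Coprime k (Nat.card G) := by
      rw [hgp]
      refine Nat.Coprime.mul_right ((hp.coprime_iff_not_dvd.2 fun h => ha ?_).symm) ?_
      · rw [← hka, ZMod.natCast_eq_zero_iff]; exact h
      · rw [Nat.coprime_iff_gcd_eq_one, hk2.gcd_eq, Nat.gcd_one_left]
    haveI : NeZero (Nat.card G) := ⟨Nat.card_pos.ne'⟩
    obtain ⟨σ, hσ⟩ := exists_complexAut_pow hkG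
    refine ⟨σ, ?_, fun x => ?_⟩
    · rw [hσ ω (by rw [hgp, mul_comm, pow_mul, hωprim.pow_eq_one, one_pow])]
      have h := pow_eq_pow_of_modEq hk2 hωprim.pow_eq_one
      rw [h, pow_one]
    · rw [hσ _ (by rw [hgp, pow_mul, ← AddChar.map_nsmul_eq_pow, nsmul_eq_mul, ZMod.natCast_self,
        zero_mul, AddChar.map_zero_eq_one, one_pow]), ← AddChar.map_nsmul_eq_pow, nsmul_eq_mul, hka]
  have hepos := D.e_pos
  have hele : e ≤ p - 1 := Nat.le_of_dvd (by have := hp.two_le; omega) D.e_dvd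
  have hSYB : ↑SY ⊆ B := fun χ hχ => (hmem χ).2 (Or.inr hχ)
  have hB' : B = ↑SX ∪ ↑SY := Set.ext fun χ => by simp [hmem]
  let one : {j : ZMod p // j ≠ 0} := ⟨1, one_ne_zero⟩
  refine ⟨↑SY, hSYB, ⟨Y one, (hYmem _).2 ⟨one, rfl⟩⟩, fun φ hφ χ => ⟨?_, ?_⟩, ?_, ?_, ?_,
    fun χ => if χ ∈ SX then dX χ else -ε, ?_, ?_⟩
  · rintro ⟨σ, hσ, hχ⟩
    obtain ⟨k, rfl⟩ := (hYmem φ).1 hφ
    obtain ⟨a, ha, hσψ⟩ := hψval σ
    rw [Finset.mem_coe, hYmem]
    refine ⟨⟨a * k, mul_ne_zero ha k.2⟩, ?_⟩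
    rw [← hYact σ hσ a ha hσψ k ⟨a * k, mul_ne_zero ha k.2⟩ rfl]
    exact Subtype.ext hχ.symm
  · intro hχ
    obtain ⟨k, rfl⟩ := (hYmem φ).1 hφ
    obtain ⟨k', rfl⟩ := (hYmem χ).1 hχ
    have ha : (k' : ZMod p) * (k : ZMod p)⁻¹ ≠ 0 := mul_ne_zero k'.2 (inv_ne_zero k.2)
    obtain ⟨σ, hσ, hσψ⟩ := hsurj _ ha
    refine ⟨σ, hσ, ?_⟩
    rw [← hYact σ hσ _ ha hσψ k k' (by rw [inv_mul_cancel_right₀ k.2])]
    rfl
  · intro χ hχ hχY ψ hψ
    obtain ⟨σ, hσ, hψ⟩ := hψ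
    rw [← hXfix σ hσ χ (((hmem χ).1 hχ).resolve_right hχY)]
    exact Subtype.ext hψ
  · rw [Nat.card_coe_set_eq, Set.ncard_coe_finset, hY]
    exact Nat.div_dvd_of_dvd D.e_dvd
  · rw [hB', ← Finset.coe_union, Nat.card_coe_set_eq, Set.ncard_coe_finset, Nat.card_coe_set_eq,
      Set.ncard_coe_finset, Finset.card_union_of_disjoint hdisj, hX, hY,
      Nat.div_div_self D.e_dvd (by have := hp.two_le; omega), add_comm]
  · intro χ hχ
    dsimp only
    split_ifs with h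
    · exact (hXp χ h).1
    · rcases hε with rfl | rfl <;> simp
  · intro g hg φ hφ
    obtain ⟨k, rfl⟩ := (hYmem φ).1 hφ
    dsimp only
    rw [show B \ (↑SY : Set (Cfsg.IrrCharacter G)) = ↑SX from Set.ext fun χ => by
      simp only [Set.mem_diff, Finset.mem_coe, hmem]
      exact ⟨fun h => h.1.resolve_right h.2, fun h => ⟨Or.inl h, Finset.disjoint_left.1 hdisj h⟩⟩,
      finsum_mem_coe_finset, if_neg (fun h => Finset.disjoint_left.1 hdisj h hφ),
      Finset.sum_congr rfl fun χ hχ => by rw [if_pos hχ], ← hrel k g hg]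
    push_cast
    ring

end Cfsg.Agent.S4507
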