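import Cfsg.Statements.S4508
import Cfsg.Agent.Lib.Blocks.SelfCentralDegree


set_option autoImplicit false
open Cfsg

namespace Cfsg.Agent.S4508

/-- Let the finite group G contain an element x of prime order p with C_G(x) = ⟨x⟩, and let t be the number of conjugacy classes of elements of order p. If G has an irreducible character of degree p − 1, then t is even or the commutator subgroup has even index. -/
theorem result {G : Type*} [Group G] [Finite G] (p : ℕ) (hp : p.Prime) (x : G) (hx : orderOf x = p) (hC : Subgroup.centralizer ({x} : Set G) = Subgroup.zpowers x) (t : ℕ) (ht : Nat.card {C : ConjClasses G // ∃ g ∈ C.carrier, orderOf g = p} = t) (χ : Cfsg.IrrCharacter G) (hχ : Cfsg.charDegree (χ : G → ℂ) + 1 = p) : Even t ∨ Even (commutator G).index := by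
  haveI : Fact p.Prime := ⟨hp⟩
  haveI := Fintype.ofFinite G
  have hχ1 : (χ : G → ℂ) 1 = (p : ℂ) - 1 := by
    have h : ((Cfsg.charDegree (χ : G → ℂ) + 1 : ℕ) : ℂ) = (p : ℂ) := by rw [hχ]
    rw [← Cfsg.Agent.Lib.Blocks.charDegree_eq χ, ← h]
    push_cast
    ring
  rcases Nat.even_or_odd t with ht' | ht'
  · exact Or.inl ht'
  · refine Or.inr ?_
    by_cases hp2 : p = 2
    · have h1 := Cfsg.Agent.Lib.Blocks.classCount_mul_card_normalizer hx hC
      rw [ht] at h1
      have h2 : t ∣ 2 := ⟨_, by rw [h1]; subst hp2; rfl⟩
      have h3 : t = p - 1 := by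
        rcases (Nat.dvd_prime Nat.prime_two).1 h2 with h | h
        · omega
        · rw [h] at ht'
          exact absurd ht' (by decide)
      rw [(Cfsg.Agent.Lib.Blocks.index_commutator_of_self_central hx hC t ht).2 h3, hp2]
      exact even_two
    · exact Cfsg.Agent.Lib.Blocks.even_index_of_degree hx hC hp2 t ht ht' χ hχ1

end Cfsg.Agent.S4508
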