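import Cfsg.Statements.S4512
import Cfsg.Agent.Lib.Blocks.RankSections
import Cfsg.Agent.Lib.Blocks.KleinFour
import Cfsg.Agent.S0948
-- import your own Cfsg.Agent.* helpers here

set_option autoImplicit false
open Cfsg Cfsg.Agent.Lib.Blocks Cfsg.Agent.Lib.Characters Cfsg.Agent.Lib.Cores

namespace Cfsg.Agent.S4512

/-- If G is a finite group with a Sylow 2-subgroup that is a Klein four-group and a single conjugacy class of involutions, then its principal 2-block (relative to a maximal ideal M of the algebraic integers containing 2) has 2-regular rank 3: the restrictions of its irreducible characters to the elements of odd order span a space of dimension 3 (it has three irreducible Brauer characters). -/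
theorem result {G : Type*} [Group G] [Finite G] (M : Ideal Cfsg.AlgInt) (hM : Cfsg.IsPModular 2 M) (P : Sylow 2 G)
    (hP : Nat.card P = 4) (hexp : ∀ x : P, x * x = 1)
    (hone : ∀ s t : G, orderOf s = 2 → orderOf t = 2 → IsConj s t) :
    Cfsg.blockRank 2 (Cfsg.principalBlock M G) = 3 := by
  classical
  haveI : Fact (Nat.Prime 2) := ⟨Nat.prime_two⟩
  haveI := Fintype.ofFinite G
  haveI := isPrime_of_isPModular hM
  haveI := Fintype.ofFinite (Cfsg.IrrCharacter G)
  haveI hK : IsKleinFour (P : Subgroup G) := ⟨hP, by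
    haveI : Nontrivial (P : Subgroup G) := Finite.one_lt_card_iff_nontrivial.1 (show 1 < Nat.card P by omega)
    exact Monoid.exponent_eq_prime_iff Nat.prime_two |>.2 fun x hx =>
      orderOf_eq_prime (by rw [sq]; exact hexp x) hx⟩
  obtain ⟨ζ₂, ζ₃, ζ₄, ε, hε, h2, h3, h23, h24, h34, hB, hval, -, -, d4, hrel⟩ :=
    Cfsg.Agent.S0948.result M hM P hK hone
  set B := Finset.univ.filter (fun χ : Cfsg.IrrCharacter G => χ ∈ Cfsg.principalBlock M G) with hBdef
  have hBc : (↑B : Set (Cfsg.IrrCharacter G)) = Cfsg.principalBlock M G := by ext; simp [hBdef]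
  have hn4 : trivIrr G ≠ ζ₄ := by
    intro h
    obtain ⟨w, hw⟩ := exists_prime_orderOf_dvd_card' (G := (P : Subgroup G)) 2
      (show 2 ∣ Nat.card P by omega)
    have := (hval (w : G) (by rw [Subgroup.orderOf_coe, hw])).2.2
    rw [← h, trivIrr_apply] at this
    norm_num at this
  have hn2 : trivIrr G ≠ ζ₂ := fun h => h2 (by rw [← h]; rfl)
  have hn3 : trivIrr G ≠ ζ₃ := fun h => h3 (by rw [← h]; rfl)
  have hB4 : B = {trivIrr G, ζ₂, ζ₃, ζ₄} := by
    ext χ
    simp only [hBdef, Finset.mem_filter, Finset.mem_univ, true_and, hB, Set.mem_setOf_eq,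
      Finset.mem_insert, Finset.mem_singleton]
    exact or_congr_left ⟨fun h => Subtype.ext h, fun h => by rw [h]; rfl⟩
  have hcard : B.card = 4 := by
    rw [hB4, Finset.card_insert_of_notMem (by simp [hn2, hn3, hn4]),
      Finset.card_insert_of_notMem (by simp [h23, h24]), Finset.card_pair h34]
  obtain ⟨w, hw⟩ := exists_prime_orderOf_dvd_card' (G := (P : Subgroup G)) 2
    (show 2 ∣ Nat.card P by omega)
  have hz2 : orderOf (w : G) = 2 := by rw [Subgroup.orderOf_coe, hw]
  have hP2 : ∀ z : G, 2 ∣ orderOf z → ∃ g : G, Cfsg.IsPPart 2 (g * z * g⁻¹) (w : G) := by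
    intro z hz
    obtain ⟨y, hy⟩ := exists_isPPart Nat.prime_two z
    obtain ⟨S, hS⟩ := (show IsPGroup 2 (Subgroup.zpowers y) from
      isPGroup_zpowers_of_orderOf (by obtain ⟨v, -, -, hk, -⟩ := hy; exact hk)).exists_le_sylow
    obtain ⟨g, hg⟩ := MulAction.exists_smul_eq G S P
    have hmem : g * y * g⁻¹ ∈ (P : Subgroup G) := by
      rw [← hg, Sylow.coe_subgroup_smul]
      exact Subgroup.smul_mem_pointwise_smul y (MulAut.conj g) _ (hS (Subgroup.mem_zpowers y))
    have hy' := IsPPart.conjugate hy g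
    have hne : g * y * g⁻¹ ≠ 1 := isPPart_ne_one hy' (by
      rw [show g * z * g⁻¹ = MulAut.conj g z by simp, MulEquiv.orderOf_eq]; exact hz)
    have hord : orderOf (g * y * g⁻¹) = 2 := by
      refine orderOf_eq_prime ?_ hne
      rw [sq]
      exact congrArg Subtype.val (hexp ⟨_, hmem⟩)
    obtain ⟨c, hc⟩ := isConj_iff.1 (hone _ _ hord hz2)
    refine ⟨c * g, ?_⟩
    have := IsPPart.conjugate hy' c
    rw [hc] at this
    simpa [mul_assoc] using this
  have hPC : (P : Subgroup G) ≤ Subgroup.centralizer ({(w : G)} : Set G) := fun a ha =>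
    Subgroup.mem_centralizer_singleton_iff.2
      (congrArg Subtype.val (IsKleinFour.isMulCommutative.is_comm.comm ⟨a, ha⟩ w))
  obtain ⟨k, hk⟩ : ∃ k : ℕ, (Cfsg.pPrimeCore 2 (Subgroup.centralizer ({(w : G)} : Set G))).index = 2 ^ k := by
    let e := Subgroup.subgroupOfEquivOfLe hPC
    refine exists_pow_index_pPrimeCore_of_klein (P.subtype hPC)
      (z := ⟨(w : G), Subgroup.mem_centralizer_singleton_iff.2 rfl⟩)
      (show IsKleinFour ((P : Subgroup G).subgroupOf (Subgroup.centralizer ({(w : G)} : Set G))) from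
        ⟨by rw [Nat.card_congr e.toEquiv, IsKleinFour.card_four],
         by rw [Monoid.exponent_eq_of_mulEquiv e, IsKleinFour.exponent_two]⟩)
      (show (⟨(w : G), _⟩ : Subgroup.centralizer ({(w : G)} : Set G)) ∈
        (P : Subgroup G).subgroupOf (Subgroup.centralizer ({(w : G)} : Set G)) from w.2)
      (fun h => by
        have h1 : (w : G) = 1 := congrArg Subtype.val h
        rw [h1, orderOf_one] at hz2
        norm_num at hz2) fun g => Subtype.ext ?_
    exact Subgroup.mem_centralizer_singleton_iff.1 g.2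
  have hsec : ∀ χ ∈ B, ∀ (_ : Unit) (z : G), Cfsg.IsPPart 2 z (w : G) →
      (χ : G → ℂ) z = (χ : G → ℂ) (w : G) := by
    rintro χ hχ - z ⟨v, rfl, hcomm, hyk, hv⟩
    refine Cfsg.Agent.S0942.result 2 M hM (w : G) hyk v ?_ χ (by rw [← hBc]; exact hχ)
    have hvD : v ∈ Subgroup.centralizer ({(w : G)} : Set G) :=
      Subgroup.mem_centralizer_singleton_iff.2 hcomm.symm.eq
    haveI : (Cfsg.pPrimeCore 2 (Subgroup.centralizer ({(w : G)} : Set G))).Normal :=
      (pPrimeCore_mem 2 _).1
    have hv' : ¬ 2 ∣ orderOf (⟨v, hvD⟩ : Subgroup.centralizer ({(w : G)} : Set G)) := by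
      rwa [Subgroup.orderOf_mk]
    refine ⟨⟨v, hvD⟩, ?_, rfl⟩
    rw [SetLike.mem_coe, ← QuotientGroup.eq_one_iff, ← orderOf_eq_one_iff]
    refine Nat.eq_one_of_dvd_coprimes (a := 2 ^ k) ?_ ?_ (orderOf_map_dvd (QuotientGroup.mk' _) _)
    · exact (Nat.prime_two.coprime_iff_not_dvd.2 hv').pow_left k
    · refine (orderOf_dvd_natCard _).trans (dvd_of_eq ?_)
      rw [← Subgroup.index, hk]
  have hle := finrank_ker_le Nat.prime_two B (fun _ : Unit => (w : G))
    (fun z hz => ⟨(), hP2 z hz⟩) hsec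
  rw [Fintype.card_unit] at hle
  have hge := one_le_finrank_ker (p := 2) B
    (fun χ => if χ = ζ₃ then (ε : ℂ) else if χ = ζ₄ then -1 else 1) (fun z hz => by
      rw [hB4, Finset.sum_insert (by simp [hn2, hn3, hn4]), Finset.sum_insert (by simp [h23, h24]),
        Finset.sum_pair h34]
      simp only [hn3, hn4, h23, h24, Ne.symm h34, ↓reduceIte, trivIrr_apply]
      have := hrel z (Nat.odd_iff.2 (by have : ¬ 2 ∣ orderOf z := hz; omega))
      linear_combination this)
    (trivIrr G) (by rw [hB4]; simp) (by simp [hn3, hn4])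
  have h := blockRank_add_finrank_ker (p := 2) B
  rw [hBc, hcard] at h
  omega

end Cfsg.Agent.S4512
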