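import Cfsg.Statements.S4520
import Cfsg.Agent.S4517
import Cfsg.Agent.Lib.Blocks.PrincipalRestrict
import Cfsg.Agent.Lib.InvChar.GaloisChar
-- import your own Cfsg.Agent.* helpers here

set_option autoImplicit false
open Cfsg Cfsg.Agent.Lib.Characters Cfsg.Agent.Lib.Blocks Cfsg.Agent.Lib.BlockHeights
set_option linter.style.haveILetI false

namespace Cfsg.Agent.S4520

/-- Let N be a normal subgroup of odd index in the finite group G, M a maximal ideal of the algebraic integers containing 2, and k coprime to the order of G with k ^ (2 ^ e) ≡ 1 modulo the order of G for some e and g ^ k = g⁻¹ for every element g of odd order. Let θ be an irreducible character of N and χ an irreducible character of G over θ, both unchanged by composing with g ↦ g ^ k. Then χ lies in the principal 2-block of G if and only if θ lies in the principal 2-block of N. -/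
theorem result {G : Type*} [Group G] [Fintype G] (M : Ideal Cfsg.AlgInt) (hM : Cfsg.IsPModular 2 M) (N : Subgroup G) [N.Normal] [Fintype N] (hidx : Odd N.index) (k e : ℕ) (hk : Nat.Coprime k (Nat.card G)) (hke : k ^ (2 ^ e) ≡ 1 [MOD Nat.card G]) (hk₂ : ∀ g : G, Odd (orderOf g) → g ^ k = g⁻¹) (θ : Cfsg.IrrCharacter N) (hθ : ∀ n : N, (θ : N → ℂ) (n ^ k) = (θ : N → ℂ) n) (χ : Cfsg.IrrCharacter G) (hχ : ∀ g : G, (χ : G → ℂ) (g ^ k) = (χ : G → ℂ) g) (hover : Cfsg.classInner (fun n : N => (χ : G → ℂ) n) (θ : N → ℂ) ≠ 0) : χ ∈ Cfsg.principalBlock M G ↔ θ ∈ Cfsg.principalBlock M N := by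
  classical
  haveI := isPrime_of_isPModular hM
  haveI := Fact.mk hM.1
  refine ⟨fun h => constituent_mem_principal N hM h hover, fun h => ?_⟩
  have hB := isPBlock_blockOf (M := M) χ
  obtain ⟨ψ, hψ, hψd⟩ := full_of_over N hM
    (fun h2 => Nat.not_even_iff_odd.2 hidx (even_iff_two_dvd.2 h2)) h hover
  have hdef : blockDefect 2 (blockOf M (χ : G → ℂ)) = (Nat.card G).factorization 2 := by
    have h1 := minExp_le (p := 2) hψ
    have h2 := blockDefect_add_minExp (p := 2) hB
    have h3 : nu 2 (ψ : G → ℂ) = 0 := Nat.factorization_eq_zero_of_not_dvd hψd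
    omega
  have hcc : ∀ g : G, Subgroup.centralizer ({g ^ k} : Set G) = Subgroup.centralizer ({g} : Set G) := by
    intro g
    obtain ⟨m, hm⟩ := exists_pow_eq_self_of_coprime (hk.coprime_dvd_right (orderOf_dvd_natCard g))
    ext y
    simp only [Subgroup.mem_centralizer_singleton_iff]
    exact ⟨fun h => hm ▸ (show Commute y (g ^ k) from h).pow_right m,
      fun h => (show Commute y g from h).pow_right k⟩
  have hstab : ∀ χ' ∈ blockOf M (χ : G → ℂ), ∃ ψ' ∈ blockOf M (χ : G → ℂ),
      ∀ g : G, (ψ' : G → ℂ) g = (χ' : G → ℂ) (g ^ k) := by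
    intro χ' hχ'
    refine ⟨⟨fun g => (χ' : G → ℂ) (g ^ k), Cfsg.Agent.Lib.InvChar.isIrr_comp_pow χ'.2 hk⟩, fun g => ?_, fun _ => rfl⟩
    have h1 := hχ' (g ^ k)
    simpa only [centralChar, hcc g, hχ g, one_pow] using h1
  have hp := Cfsg.Agent.S4517.result M hM k hk hk₂ _ hB hdef hstab
  rw [← hp]
  exact self_mem_blockOf χ

end Cfsg.Agent.S4520
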