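import Cfsg.Statements.S4521
import Cfsg.Agent.Lib.Blocks.PrincipalRestrict
import Cfsg.Agent.Lib.BlockHeights.WeakOrth
-- import your own Cfsg.Agent.* helpers here

set_option autoImplicit false
open Cfsg Cfsg.Agent.Lib.Characters Cfsg.Agent.Lib.Blocks
open scoped ComplexConjugate
set_option linter.style.haveILetI false

namespace Cfsg.Agent.S4521

universe u

section

variable {G : Type u} [Group G] [Fintype G]

/-- Central characters agreeing on the regular elements give the same block. -/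
theorem sameBlock_of_regular {M : Ideal AlgInt} [M.IsPrime] {p : ℕ} (hM : IsPModular p M)
    (χ ψ : IrrCharacter G)
    (h : ∀ g : G, IsPRegular p g →
      MemLocalIdeal M (centralChar (χ : G → ℂ) g - centralChar (ψ : G → ℂ) g)) :
    ψ ∈ blockOf M (χ : G → ℂ) := by
  classical
  have hB := isPBlock_blockOf (M := M) χ
  by_contra hne
  haveI : Finite (ConjClasses G) := Finite.of_surjective _ ConjClasses.mk_surjective
  haveI := Fintype.ofFinite (ConjClasses G)
  have he := isRCentral_blockCoeff hM hB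
  have h1 := omega_blockCoeff (blockOf M (χ : G → ℂ)) χ
  have h2 := omega_blockCoeff (blockOf M (χ : G → ℂ)) ψ
  rw [if_pos (self_mem_blockOf χ)] at h1
  rw [if_neg hne] at h2
  rw [omega_eq_sum_classes (irr_isClassFunction _) he.1] at h1 h2
  apply not_memLocalIdeal_one (M := M)
  rw [← sub_zero (1 : ℂ), ← h1, ← h2, ← Finset.sum_sub_distrib]
  refine memLocalIdeal_sum _ fun C _ => ?_
  rw [← mul_sub]
  by_cases hC : IsPRegular p (Quotient.out C)
  · exact memLocalIdeal_mul_left (he.2 _) (h _ hC)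
  · rw [Cfsg.Agent.Lib.BlockHeights.blockCoeff_eq_zero_of_singular hM hB hC, zero_mul]
    exact memLocalIdeal_zero

/-- A product of commuting normal factors multiplies the normalised values. -/
theorem apply_mul_eq {U V : Subgroup G} (hcomm : ∀ u ∈ U, ∀ v ∈ V, u * v = v * u)
    (hUn : U.Normal) (hgen : U ⊔ V = ⊤) (χ : IrrCharacter G) {a b : G} (ha : a ∈ U) (hb : b ∈ V) :
    (χ : G → ℂ) (a * b) * (χ : G → ℂ) 1 = (χ : G → ℂ) a * (χ : G → ℂ) b := by
  have h := sum_char_mul_conj χ.2 a b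
  have hc : ∀ g : G, (χ : G → ℂ) (a * (g * b * g⁻¹)) = (χ : G → ℂ) (a * b) := by
    intro g
    haveI := hUn
    obtain ⟨u, hu, v, hv, rfl⟩ := Subgroup.mem_sup_of_normal_left.1
      (show g ∈ U ⊔ V by rw [hgen]; trivial)
    have h1 : u * v * b * (u * v)⁻¹ = v * b * v⁻¹ := by
      have h2 : v * b * v⁻¹ ∈ V := V.mul_mem (V.mul_mem hv hb) (V.inv_mem hv)
      calc u * v * b * (u * v)⁻¹ = u * (v * b * v⁻¹) * u⁻¹ := by group
        _ = v * b * v⁻¹ := by rw [hcomm u hu _ h2, mul_inv_cancel_right]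
    rw [h1, show a * (v * b * v⁻¹) = v * (a * b) * v⁻¹ by
      rw [← mul_assoc, ← mul_assoc, hcomm a ha v hv]; group]
    exact irr_isClassFunction χ _ _
  simp only [hc, Finset.sum_const, Finset.card_univ, nsmul_eq_mul] at h
  have h1 : (χ : G → ℂ) 1 ≠ 0 := IsIrrCharacter.apply_one_ne_zero χ.2
  have h0 : (Fintype.card G : ℂ) ≠ 0 := Nat.cast_ne_zero.2 Fintype.card_ne_zero
  simp only [Nat.card_eq_fintype_card] at h
  field_simp at h
  linear_combination h

theorem normal_of_commute {U V : Subgroup G} (hcomm : ∀ u ∈ U, ∀ v ∈ V, u * v = v * u)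
    (hgen : U ⊔ V = ⊤) : U.Normal := by
  refine ⟨fun a ha g => ?_⟩
  have hle : U ⊔ V ≤ Subgroup.normalizer (U : Set G) := by
    refine sup_le Subgroup.le_normalizer fun v hv => ?_
    rw [Subgroup.mem_normalizer_iff]
    intro x
    constructor
    · intro hx
      rwa [← hcomm x hx v hv, mul_inv_cancel_right]
    · intro hx
      have h := hcomm _ hx v hv
      have h2 : v * x * v⁻¹ = x := by
        have h3 : v⁻¹ * (v * x * v⁻¹ * v) = v⁻¹ * (v * (v * x * v⁻¹)) := by rw [h]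
        simp only [mul_assoc, inv_mul_cancel, mul_one, inv_mul_cancel_left] at h3
        rw [mul_assoc]
        exact h3.symm
      rwa [h2] at hx
  exact ((Subgroup.mem_normalizer_iff).1 (hle (hgen ▸ Subgroup.mem_top g)) a).1 ha

/-- Restriction to a factor is a multiple of the constituent. -/
theorem restrict_eq {U V : Subgroup G} [Fintype U] (hcomm : ∀ u ∈ U, ∀ v ∈ V, u * v = v * u)
    [U.Normal] (hgen : U ⊔ V = ⊤) (χ : IrrCharacter G) (ψ : IrrCharacter U)
    (h : classInner (fun u : U => (χ : G → ℂ) u) (ψ : U → ℂ) ≠ 0) (u : U) :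
    (χ : G → ℂ) u / (χ : G → ℂ) 1 = (ψ : U → ℂ) u / (ψ : U → ℂ) 1 := by
  have hinv : ∀ g : G, conjFun U g (ψ : U → ℂ) = (ψ : U → ℂ) := by
    intro g
    obtain ⟨a, ha, v, hv, rfl⟩ := Subgroup.mem_sup_of_normal_left.1
      (show g ∈ U ⊔ V by rw [hgen]; trivial)
    funext n
    have h1 : a * v * (n : G) * (a * v)⁻¹ = ((⟨a, ha⟩ * n * (⟨a, ha⟩)⁻¹ : U) : G) := by
      show a * v * (n : G) * (a * v)⁻¹ = a * n * a⁻¹
      calc a * v * (n : G) * (a * v)⁻¹ = a * (v * n * v⁻¹) * a⁻¹ := by group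
        _ = a * n * a⁻¹ := by rw [← hcomm n n.2 v hv, mul_inv_cancel_right]
    show (ψ : U → ℂ) ⟨a * v * n * (a * v)⁻¹, _⟩ = _
    rw [show (⟨a * v * n * (a * v)⁻¹, _⟩ : U) = ⟨a, ha⟩ * n * (⟨a, ha⟩)⁻¹ from Subtype.ext h1]
    exact irr_isClassFunction ψ n ⟨a, ha⟩
  have he := restrict_eq_smul_of_invariant U χ.2 ψ.2 hinv h
  have h2 : (χ : G → ℂ) u = _ := congrFun he u
  have h3 : (χ : G → ℂ) 1 = _ := congrFun he 1
  rw [h2, h3]
  simp only [Pi.smul_apply, smul_eq_mul]
  rw [mul_div_mul_left _ _ h]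

theorem index_inf_of_mul {A B : Subgroup G} (h : ∀ g : G, ∃ a ∈ A, ∃ b ∈ B, g = a * b) :
    (A ⊓ B).index = A.index * B.index := by
  rw [Subgroup.index_eq_card, Subgroup.index_eq_card, Subgroup.index_eq_card, ← Nat.card_prod]
  refine Nat.card_congr (Equiv.ofBijective
    (Quotient.lift (fun g : G => ((g : G ⧸ A), (g : G ⧸ B))) ?_) ⟨?_, ?_⟩)
  · intro a b hab
    replace hab := QuotientGroup.leftRel_apply.1 hab
    exact Prod.ext (QuotientGroup.eq.2 hab.1) (QuotientGroup.eq.2 hab.2)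
  · intro x y
    obtain ⟨a, rfl⟩ := QuotientGroup.mk_surjective x
    obtain ⟨b, rfl⟩ := QuotientGroup.mk_surjective y
    intro hab
    have h1 : ((a : G ⧸ A), (a : G ⧸ B)) = ((b : G ⧸ A), (b : G ⧸ B)) := hab
    exact QuotientGroup.eq.2 ⟨QuotientGroup.eq.1 (congrArg Prod.fst h1),
      QuotientGroup.eq.1 (congrArg Prod.snd h1)⟩
  · rintro ⟨x, y⟩
    obtain ⟨a, rfl⟩ := QuotientGroup.mk_surjective x
    obtain ⟨b, rfl⟩ := QuotientGroup.mk_surjective y
    obtain ⟨a', ha', b', hb', he⟩ := h (a⁻¹ * b)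
    refine ⟨QuotientGroup.mk (a * a'), Prod.ext (QuotientGroup.eq.2 ?_) (QuotientGroup.eq.2 ?_)⟩
    · simpa using A.inv_mem ha'
    · rw [show (a * a')⁻¹ * b = b' by rw [mul_inv_rev, mul_assoc, he, inv_mul_cancel_left]]
      exact hb'

theorem index_centralizer_factor {U V : Subgroup G} (hcomm : ∀ u ∈ U, ∀ v ∈ V, u * v = v * u)
    [U.Normal] (hgen : U ⊔ V = ⊤) (u : U) :
    (Subgroup.centralizer ({(u : G)} : Set G)).index =
      (Subgroup.centralizer ({u} : Set U)).index := by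
  have hV : V ≤ Subgroup.centralizer ({(u : G)} : Set G) := fun v hv => by
    rw [Subgroup.mem_centralizer_singleton_iff]; exact (hcomm u u.2 v hv).symm
  have h1 : U ⊔ Subgroup.centralizer ({(u : G)} : Set G) = ⊤ :=
    top_le_iff.1 (hgen ▸ sup_le_sup_left hV U)
  have h2 : Subgroup.centralizer ({u} : Set U) =
      (Subgroup.centralizer ({(u : G)} : Set G)).subgroupOf U := by
    ext x
    simp only [Subgroup.mem_subgroupOf, Subgroup.mem_centralizer_singleton_iff]
    exact ⟨fun h => congrArg Subtype.val h, fun h => Subtype.ext h⟩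
  rw [h2]
  show _ = (Subgroup.centralizer ({(u : G)} : Set G)).relIndex U
  have h3 := index_inf_of_mul (A := U) (B := Subgroup.centralizer ({(u : G)} : Set G)) fun g => by
    obtain ⟨a, ha, b, hb, hab⟩ := Subgroup.mem_sup_of_normal_left.1
      (show g ∈ U ⊔ Subgroup.centralizer ({(u : G)} : Set G) by rw [h1]; trivial)
    exact ⟨a, ha, b, hb, hab.symm⟩
  rw [← Subgroup.relIndex_mul_index (inf_le_left : U ⊓ Subgroup.centralizer ({(u : G)} : Set G) ≤ U),
    inf_comm, Subgroup.inf_relIndex_right, mul_comm] at h3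
  exact (Nat.eq_of_mul_eq_mul_left (Nat.pos_of_ne_zero Subgroup.index_ne_zero_of_finite) h3).symm

end

/-- Let the finite group G be generated by subgroups U₁ and U₂ that commute elementwise and whose intersection is a p-group, and let M be a maximal ideal of the algebraic integers containing the prime p. If the irreducible character χ of G has the irreducible constituents ψ₁ on U₁ and ψ₂ on U₂, then χ lies in the principal block of G if and only if ψ₁ and ψ₂ lie in the principal blocks of U₁ and U₂. -/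
theorem result {G : Type*} [Group G] [Fintype G] (p : ℕ) [Fact p.Prime] (M : Ideal Cfsg.AlgInt) (hM : Cfsg.IsPModular p M) (U₁ U₂ : Subgroup G) [Fintype U₁] [Fintype U₂] (hcomm : ∀ u ∈ U₁, ∀ v ∈ U₂, u * v = v * u) (hgen : U₁ ⊔ U₂ = ⊤) (hZ : IsPGroup p ↥(U₁ ⊓ U₂)) (χ : Cfsg.IrrCharacter G) (ψ₁ : Cfsg.IrrCharacter U₁) (ψ₂ : Cfsg.IrrCharacter U₂) (h₁ : Cfsg.classInner (fun u : U₁ => (χ : G → ℂ) u) (ψ₁ : U₁ → ℂ) ≠ 0) (h₂ : Cfsg.classInner (fun u : U₂ => (χ : G → ℂ) u) (ψ₂ : U₂ → ℂ) ≠ 0) : χ ∈ Cfsg.principalBlock M G ↔ (ψ₁ ∈ Cfsg.principalBlock M U₁ ∧ ψ₂ ∈ Cfsg.principalBlock M U₂) := by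
  classical
  haveI := isPrime_of_isPModular hM
  haveI := Fact.mk hM.1
  have hcomm' : ∀ u ∈ U₂, ∀ v ∈ U₁, u * v = v * u := fun u hu v hv => (hcomm v hv u hu).symm
  have hgen' : U₂ ⊔ U₁ = ⊤ := sup_comm U₂ U₁ ▸ hgen
  have hn₁ := normal_of_commute hcomm hgen
  have hn₂ := normal_of_commute hcomm' hgen'
  haveI := hn₁
  haveI := hn₂
  refine ⟨fun h => ⟨constituent_mem_principal U₁ hM h h₁, constituent_mem_principal U₂ hM h h₂⟩,
    fun h => ?_⟩
  have hmem : χ ∈ blockOf M (trivIrr G : G → ℂ) := by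
    refine sameBlock_of_regular hM (trivIrr G) χ fun g hg => ?_
    obtain ⟨u₀, hu₀, v₀, hv₀, rfl⟩ := Subgroup.mem_sup_of_normal_left.1
      (show g ∈ U₁ ⊔ U₂ by rw [hgen]; trivial)
    obtain ⟨k, hk0, hk1⟩ := Nat.chineseRemainder
      (((hM.1.coprime_iff_not_dvd).2 hg).pow_left ((Nat.card G).factorization p)) 0 1
    have hreg : ∀ x : G, IsPRegular p (x ^ k) := by
      intro x hd
      obtain ⟨w, hw⟩ := Nat.modEq_zero_iff_dvd.1 hk0
      have h2 : (x ^ k) ^ (Nat.card G / p ^ (Nat.card G).factorization p) = 1 := by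
        rw [← pow_mul, hw, mul_comm (p ^ (Nat.card G).factorization p) w, mul_assoc,
          Nat.ordProj_mul_ordCompl_eq_self, mul_comm, pow_mul, pow_card_eq_one', one_pow]
      exact Nat.not_dvd_ordCompl hM.1 Nat.card_pos.ne' (hd.trans (orderOf_dvd_of_pow_eq_one h2))
    have hpow : (u₀ * v₀) ^ k = u₀ * v₀ := by
      conv_rhs => rw [← pow_one (u₀ * v₀)]
      exact pow_eq_pow_iff_modEq.2 hk1
    obtain ⟨u, hu, hur, v, hv, hvr, huv⟩ : ∃ u ∈ U₁, IsPRegular p u ∧ ∃ v ∈ U₂, IsPRegular p v ∧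
        u * v = u₀ * v₀ :=
      ⟨u₀ ^ k, U₁.pow_mem hu₀ k, hreg _, v₀ ^ k, U₂.pow_mem hv₀ k, hreg _, by
        rw [← (show Commute u₀ v₀ from hcomm u₀ hu₀ v₀ hv₀).mul_pow, hpow]⟩
    rw [← huv]
    have hprod : ∀ x : G, ∃ a ∈ U₁, ∃ b ∈ U₂, x = a * b := fun x => by
      obtain ⟨a, ha, b, hb, hab⟩ := Subgroup.mem_sup_of_normal_left.1
        (show x ∈ U₁ ⊔ U₂ by rw [hgen]; trivial)
      exact ⟨a, ha, b, hb, hab.symm⟩
    have hC : Subgroup.centralizer ({u * v} : Set G) =
        Subgroup.centralizer ({u} : Set G) ⊓ Subgroup.centralizer ({v} : Set G) := by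
      ext x
      simp only [Subgroup.mem_inf, Subgroup.mem_centralizer_singleton_iff]
      refine ⟨fun hx => ?_, fun hx => ((show Commute x u from hx.1).mul_right hx.2)⟩
      obtain ⟨a, ha, b, hb, rfl⟩ := hprod x
      have hu' : a * b * u * (a * b)⁻¹ = a * u * a⁻¹ := by
        calc a * b * u * (a * b)⁻¹ = a * (b * u * b⁻¹) * a⁻¹ := by group
          _ = a * u * a⁻¹ := by rw [← hcomm u hu b hb, mul_inv_cancel_right]
      have hv' : a * b * v * (a * b)⁻¹ = b * v * b⁻¹ := by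
        calc a * b * v * (a * b)⁻¹ = a * (b * v * b⁻¹) * a⁻¹ := by group
          _ = b * v * b⁻¹ := by
            rw [hcomm a ha _ (U₂.mul_mem (U₂.mul_mem hb hv) (U₂.inv_mem hb)), mul_inv_cancel_right]
      have hz : u⁻¹ * (a * u * a⁻¹) = v * (b * v * b⁻¹)⁻¹ := by
        have e1 : a * u * a⁻¹ * (b * v * b⁻¹) = u * v := by
          rw [← hu', ← hv']
          calc a * b * u * (a * b)⁻¹ * (a * b * v * (a * b)⁻¹) = a * b * (u * v) * (a * b)⁻¹ := by group
            _ = u * v := by rw [hx, mul_inv_cancel_right]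
        rw [eq_mul_inv_iff_mul_eq, mul_assoc, e1, inv_mul_cancel_left]
      set z := u⁻¹ * (a * u * a⁻¹) with hzdef
      have hzU : z ∈ U₁ ⊓ U₂ := by
        refine ⟨U₁.mul_mem (U₁.inv_mem hu) (U₁.mul_mem (U₁.mul_mem ha hu) (U₁.inv_mem ha)), ?_⟩
        rw [hz]
        exact U₂.mul_mem hv (U₂.inv_mem (U₂.mul_mem (U₂.mul_mem hb hv) (U₂.inv_mem hb)))
      have hz1 : z = 1 := by
        obtain ⟨j, hj⟩ := IsPGroup.iff_orderOf.1 hZ ⟨z, hzU⟩
        rw [Subgroup.orderOf_mk] at hj
        have hzu : Commute u z := hcomm u hu z hzU.2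
        have h3 : z ^ orderOf u = 1 := by
          have h4 : (u * z) ^ orderOf u = 1 := by
            rw [hzdef, mul_inv_cancel_left, show a * u * a⁻¹ = MulAut.conj a u from rfl,
              ← map_pow, pow_orderOf_eq_one, map_one]
          rwa [hzu.mul_pow, pow_orderOf_eq_one, one_mul] at h4
        refine orderOf_eq_one_iff.1 (Nat.eq_one_of_dvd_coprimes
          ((hM.1.coprime_iff_not_dvd.2 hur).pow_left j) (hj ▸ dvd_rfl) (orderOf_dvd_of_pow_eq_one h3))
      have e3 : a * u * a⁻¹ = u := by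
        calc a * u * a⁻¹ = u * z := by rw [hzdef, mul_inv_cancel_left]
          _ = u := by rw [hz1, mul_one]
      have e4 : b * v * b⁻¹ = v := by
        rw [hz1, eq_comm, mul_inv_eq_one] at hz
        exact hz.symm
      rw [← hu'] at e3
      rw [← hv'] at e4
      exact ⟨mul_inv_eq_iff_eq_mul.1 e3, mul_inv_eq_iff_eq_mul.1 e4⟩
    have hidx : (Subgroup.centralizer ({u * v} : Set G)).index =
        (Subgroup.centralizer ({u} : Set G)).index * (Subgroup.centralizer ({v} : Set G)).index := by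
      rw [hC]
      refine index_inf_of_mul fun x => ?_
      obtain ⟨a, ha, b, hb, rfl⟩ := hprod x
      refine ⟨b, ?_, a, ?_, hcomm a ha b hb⟩
      · rw [Subgroup.mem_centralizer_singleton_iff]; exact (hcomm u hu b hb).symm
      · rw [Subgroup.mem_centralizer_singleton_iff]; exact hcomm a ha v hv
    have hval := apply_mul_eq hcomm hn₁ hgen χ hu hv
    have h10 : (χ : G → ℂ) 1 ≠ 0 := IsIrrCharacter.apply_one_ne_zero χ.2
    have hfac : ∀ {U V : Subgroup G} [Fintype U] [U.Normal]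
        (hc : ∀ u ∈ U, ∀ v ∈ V, u * v = v * u) (hg : U ⊔ V = ⊤) (ψ : IrrCharacter U),
        classInner (fun u : U => (χ : G → ℂ) u) (ψ : U → ℂ) ≠ 0 → ψ ∈ principalBlock M U →
        ∀ w : U, MemLocalIdeal M (((Subgroup.centralizer ({(w : G)} : Set G)).index : ℂ) -
          centralChar (χ : G → ℂ) (w : G)) := by
      intro U V _ _ hc hg ψ hne hψ w
      have h5 := hψ w
      rw [centralChar, centralChar, div_one, mul_one, mul_div_assoc] at h5
      rw [centralChar, mul_div_assoc, restrict_eq hc hg χ ψ hne w, index_centralizer_factor hc hg]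
      exact h5
    have e5 := hfac hcomm hgen ψ₁ h₁ h.1 ⟨u, hu⟩
    have e6 := hfac hcomm' hgen' ψ₂ h₂ h.2 ⟨v, hv⟩
    set a := ((Subgroup.centralizer ({u} : Set G)).index : ℂ)
    set b := ((Subgroup.centralizer ({v} : Set G)).index : ℂ)
    have hw : centralChar (χ : G → ℂ) (u * v) =
        centralChar (χ : G → ℂ) u * centralChar (χ : G → ℂ) v := by
      rw [centralChar, centralChar, centralChar, hidx, Nat.cast_mul]
      field_simp
      linear_combination ((Subgroup.centralizer ({u} : Set G)).index : ℂ) *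
        ((Subgroup.centralizer ({v} : Set G)).index : ℂ) * hval
    have ht : centralChar ((trivIrr G : IrrCharacter G) : G → ℂ) (u * v) = a * b := by
      simp [centralChar, hidx, a, b]
    rw [hw, ht]
    have := memLocalIdeal_add (memLocalIdeal_mul_left (memLocalRing_natCast _ : MemLocalRing M a) e6)
      (memLocalIdeal_mul_right e5 (memLocalRing_centralChar χ v))
    convert this using 1
    simp only [a, b]
    ring
  exact hmem

end Cfsg.Agent.S4521
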