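import Cfsg.Statements.S4549
import Cfsg.Agent.Lib.CharMisc.PairingClosed
import Cfsg.Agent.Lib.CharMisc.PrincipalCoreSums
import Cfsg.Agent.Lib.Transfer.PFrattini
import Cfsg.Agent.Lib.Cores.Residual
import Cfsg.Agent.Lib.Blocks.Sections
-- import your own Cfsg.Agent.* helpers here

set_option autoImplicit false
open Cfsg

namespace Cfsg.Agent.S4549

open Cfsg.Agent.Lib.Characters Cfsg.Agent.Lib.Blocks
open scoped ComplexConjugate

set_option maxHeartbeats 400000

universe u

/-- A map of two-power order has a fixed point carrying an odd value of an invariant function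
with odd total. -/
theorem exists_fixed_odd {α : Type*} [DecidableEq α] (a : α → ℕ) :
    ∀ (n : ℕ) (π : α → α) (S : Finset α), (∀ x ∈ S, π x ∈ S) → (∀ x ∈ S, a (π x) = a x) →
      (∀ x ∈ S, π^[2 ^ n] x = x) → Odd (∑ x ∈ S, a x) → ∃ x ∈ S, π x = x ∧ Odd (a x) := by
  intro n
  induction n with
  | zero =>
    intro π S _ _ hfix hodd
    by_contra hne
    push_neg at hne
    refine (Nat.not_even_iff_odd.2 hodd) (Finset.even_sum _ fun x hx => ?_)
    exact Nat.not_odd_iff_even.1 (hne x hx (by simpa using hfix x hx))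
  | succ n ih =>
    intro π S hπS ha hfix hodd
    have hS2 : ∀ x ∈ S, π^[2] x ∈ S := fun x hx => hπS _ (hπS x hx)
    obtain ⟨x₀, hx₀, hf₀, ho₀⟩ := ih (π^[2]) S hS2
      (fun x hx => (ha _ (hπS x hx)).trans (ha x hx))
      (fun x hx => by rw [← Function.iterate_mul, ← pow_succ']; exact hfix x hx) hodd
    by_contra hne
    push_neg at hne
    -- every odd point has period two; count them
    set T := S.filter fun x => π^[2] x = x with hT
    have hrest : Even (∑ x ∈ S.filter (fun x => ¬ π^[2] x = x), a x) := by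
      by_contra hc
      rw [Nat.not_even_iff_odd] at hc
      have hstab : ∀ x ∈ S.filter (fun x => ¬ π^[2] x = x),
          π^[2] x ∈ S.filter (fun x => ¬ π^[2] x = x) := by
        intro x hx
        obtain ⟨hxS, hxn⟩ := Finset.mem_filter.1 hx
        refine Finset.mem_filter.2 ⟨hS2 x hxS, fun h => hxn ?_⟩
        have hper : π^[2 ^ (n + 1)] x = π^[2] x := by
          obtain ⟨m, hm⟩ : ∃ m, 2 ^ (n + 1) = 2 * (m + 1) := ⟨2 ^ n - 1, by
            have := Nat.one_le_two_pow (n := n); omega⟩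
          rw [hm, Function.iterate_mul]
          clear hm
          induction m with
          | zero => rfl
          | succ m ihm => rw [Function.iterate_succ_apply', ihm, h]
        exact hper.symm.trans (hfix x hxS)
      obtain ⟨x, hx, hfx, -⟩ := ih (π^[2]) _ hstab
        (fun x hx => (ha _ (hπS x (Finset.mem_filter.1 hx).1)).trans (ha x (Finset.mem_filter.1 hx).1))
        (fun x hx => by
          rw [← Function.iterate_mul, ← pow_succ']; exact hfix x (Finset.mem_filter.1 hx).1) hc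
      exact (Finset.mem_filter.1 hx).2 hfx
    have hzero : ((∑ x ∈ T, a x : ℕ) : ZMod 2) = 0 := by
      rw [Nat.cast_sum]
      refine Finset.sum_involution (fun x _ => π x) (fun x hx => ?_) (fun x hx hne0 he => ?_)
        (fun x hx => ?_) (fun x hx => ?_)
      · rw [ha x (Finset.mem_filter.1 hx).1, CharTwo.add_self_eq_zero]
      · refine hne0 ?_
        obtain ⟨m, hm⟩ := Nat.not_odd_iff_even.1 (hne x (Finset.mem_filter.1 hx).1 he)
        rw [hm, Nat.cast_add, CharTwo.add_self_eq_zero]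
      · obtain ⟨hxS, hx2⟩ := Finset.mem_filter.1 hx
        exact Finset.mem_filter.2 ⟨hπS x hxS, congrArg π hx2⟩
      · exact (Finset.mem_filter.1 hx).2
    have hTeven : Even (∑ x ∈ T, a x) := (ZMod.natCast_eq_zero_iff_even).1 hzero
    rw [← Finset.sum_filter_add_sum_filter_not S (fun x => π^[2] x = x)] at hodd
    exact Nat.not_even_iff_odd.2 hodd (hTeven.add hrest)

variable {G : Type u} [Group G] [Fintype G]

theorem pow_iterate_two_eq {k : ℕ} (hk₁ : ∀ g : G, (∃ j : ℕ, orderOf g = 2 ^ j) → g ^ k = g ^ 3)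
    (hk₂ : ∀ g : G, Odd (orderOf g) → g ^ k = g) (g : G) :
    g ^ (k ^ 2 ^ (Nat.card G).factorization 2) = g := by
  set e := (Nat.card G).factorization 2 with he
  set m := Nat.card G / 2 ^ e with hm
  set N := 2 ^ e with hN
  have hmul : 2 ^ e * m = Nat.card G := Nat.ordProj_mul_ordCompl_eq_self _ _
  have h2 : (g ^ m) ^ (2 ^ e) = 1 := by rw [← pow_mul, mul_comm, hmul, pow_card_eq_one']
  have h3 : (g ^ 2 ^ e) ^ m = 1 := by rw [← pow_mul, hmul, pow_card_eq_one']
  have hodd : Odd m := by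
    rw [← Nat.not_even_iff_odd, even_iff_two_dvd]
    exact Nat.not_dvd_ordCompl Nat.prime_two Nat.card_pos.ne'
  have hA : ∀ x : G, x ^ 2 ^ e = 1 → ∀ j, x ^ (k ^ j) = x ^ (3 ^ j) := by
    intro x hx j
    induction j with
    | zero => simp
    | succ j ih =>
      obtain ⟨i, -, hi⟩ := (Nat.dvd_prime_pow Nat.prime_two).1
        (orderOf_dvd_of_pow_eq_one (show (x ^ 3 ^ j) ^ 2 ^ e = 1 by rw [pow_right_comm, hx, one_pow]))
      rw [pow_succ, pow_mul, ih, hk₁ _ ⟨i, hi⟩, ← pow_mul, pow_succ]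
  have hB : ∀ x : G, x ^ m = 1 → ∀ j, x ^ (k ^ j) = x := by
    intro x hx j
    induction j with
    | zero => simp
    | succ j ih =>
      rw [pow_succ, pow_mul, ih, hk₂ x (hodd.of_dvd_nat (orderOf_dvd_of_pow_eq_one hx))]
  have hA' : (g ^ m) ^ (k ^ N) = g ^ m := by
    rw [hA _ h2]
    have h : 3 ^ N ≡ 1 [MOD 2 ^ e] := by
      rcases Nat.eq_zero_or_pos e with h0 | h0
      · rw [h0, pow_zero]; exact Nat.modEq_one
      · have ht : 3 ^ Nat.totient (2 ^ e) ≡ 1 [MOD 2 ^ e] :=
          Nat.ModEq.pow_totient (Nat.Coprime.pow_right _ (by decide))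
        have hd : N = Nat.totient (2 ^ e) * 2 := by
          rw [Nat.totient_prime_pow Nat.prime_two h0, hN]
          conv_lhs => rw [show e = e - 1 + 1 by omega, pow_succ]
          norm_num
        rw [hd, pow_mul]
        simpa using ht.pow 2
    rw [pow_eq_pow_mod _ h2, h, ← pow_eq_pow_mod _ h2, pow_one]
  have hB' : (g ^ 2 ^ e) ^ (k ^ N) = g ^ 2 ^ e := hB _ h3 N
  set z := g ^ (k ^ N) * g⁻¹ with hz
  have hc : Commute (g ^ (k ^ N)) g⁻¹ := (Commute.pow_self g _).inv_right
  have hzm : z ^ m = 1 := by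
    rw [hz, hc.mul_pow, pow_right_comm, hA', inv_pow, mul_inv_cancel]
  have hze : z ^ 2 ^ e = 1 := by
    rw [hz, hc.mul_pow, pow_right_comm, hB', inv_pow, mul_inv_cancel]
  have hcop : Nat.gcd m (2 ^ e) = 1 := Nat.Coprime.pow_right _ (Nat.coprime_two_right.2 hodd)
  have hz1 : z = 1 := by
    have := pow_gcd_eq_one.2 ⟨hzm, hze⟩
    rwa [hcop, pow_one] at this
  exact mul_inv_eq_one.1 hz1

theorem coprime_of_pow_eq {k : ℕ} (hk₁ : ∀ g : G, (∃ j : ℕ, orderOf g = 2 ^ j) → g ^ k = g ^ 3)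
    (hk₂ : ∀ g : G, Odd (orderOf g) → g ^ k = g) : Nat.Coprime k (Nat.card G) := by
  refine Nat.coprime_of_dvd fun q hq hqk hqG => ?_
  haveI := Fact.mk hq
  obtain ⟨g, hg⟩ := exists_prime_orderOf_dvd_card' (G := G) q hqG
  have h1 : g ^ k = 1 := orderOf_dvd_iff_pow_eq_one.1 (hg ▸ hqk)
  have hgne : g ≠ 1 := fun h => hq.ne_one (by rw [← hg, h, orderOf_one])
  rcases hq.eq_two_or_odd' with rfl | ho
  · have h2 : g ^ 2 = 1 := hg ▸ pow_orderOf_eq_one g
    have := hk₁ g ⟨1, by rw [hg, pow_one]⟩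
    rw [h1, pow_succ, h2, one_mul] at this
    exact hgne this.symm
  · exact hgne (((hk₂ g (hg ▸ ho)).symm.trans h1))

/-- Every homomorphism `P →* {±1}` extends to a linear character fixed by the Galois map. -/
theorem exists_fixed_linear {M : Ideal AlgInt} (hM : IsPModular 2 M) {k : ℕ}
    (hk₁ : ∀ g : G, (∃ j : ℕ, orderOf g = 2 ^ j) → g ^ k = g ^ 3)
    (hk₂ : ∀ g : G, Odd (orderOf g) → g ^ k = g) [Fact (Nat.Prime 2)] (P : Sylow 2 G)
    (h : ∀ χ ∈ principalBlock M G, Odd (charDegree (χ : G → ℂ)) →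
      (∀ g : G, (χ : G → ℂ) (g ^ k) = (χ : G → ℂ) g) → charDegree (χ : G → ℂ) = 1)
    (lam : ↥(P : Subgroup G) →* ℂ) (hlam : ∀ x, lam x = 1 ∨ lam x = -1) :
    ∃ mu : G →* ℂˣ, ∀ x : ↥(P : Subgroup G), (mu (x : G) : ℂ) = lam x := by
  classical
  haveI : M.IsPrime := hM.2.1.isPrime
  haveI := Fintype.ofFinite (IrrCharacter G)
  haveI := Fintype.ofFinite (IrrCharacter ↥(P : Subgroup G))
  have hk := coprime_of_pow_eq hk₁ hk₂
  set L : IrrCharacter ↥(P : Subgroup G) := ⟨lam, isIrrCharacter_monoidHom lam⟩ with hL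
  have hLconj : ∀ x, conj (lam x) = lam x := fun x => by
    rcases hlam x with h | h <;> simp [h]
  set res : IrrCharacter G → ↥(P : Subgroup G) → ℂ := fun χ x => (χ : G → ℂ) (x : G) with hres
  have hnat : ∀ χ : IrrCharacter G, ∃ n : ℕ, classInner (res χ) lam = (n : ℂ) := fun χ =>
    IsCharacter.exists_classInner_nat (IsCharacter.restrict (irr_isCharacter χ) _)
      (irr_isCharacter L)
  choose n hn using hnat
  set a : IrrCharacter G → ℕ := fun χ => charDegree (χ : G → ℂ) * n χ with ha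
  set S := Finset.univ.filter (· ∈ principalBlock M G) with hS
  have hB : IsPBlock M (principalBlock M G) := isPBlock_principalBlock
  -- the total is odd
  set D := ∑ᶠ χ ∈ principalBlock M G, charDegree (χ : G → ℂ) ^ 2 with hD
  have hfac : D.factorization 2 = (Nat.card G).factorization 2 := by
    rw [hD, Cfsg.Agent.Lib.BlockHeights.factorization_sum_degree_sq hM hB]
    have h0 : Cfsg.Agent.Lib.BlockHeights.minExp 2 (principalBlock M G) ≤
        Cfsg.Agent.Lib.BlockHeights.nu 2 (trivIrr G : G → ℂ) :=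
      Cfsg.Agent.Lib.BlockHeights.minExp_le (show trivIrr G ∈ principalBlock M G from sameBlock_refl _)
    have h1 : charDegree (trivIrr G : G → ℂ) = 1 :=
      Cfsg.Agent.Lib.BlockHeights.charDegree_of_apply_one (by rw [trivIrr_apply, Nat.cast_one])
    simp only [Cfsg.Agent.Lib.BlockHeights.nu, h1, Nat.factorization_one, Finsupp.coe_zero,
      Pi.zero_apply, Nat.le_zero] at h0
    omega
  have hDsum : D = ∑ χ ∈ S, charDegree (χ : G → ℂ) ^ 2 := by
    rw [hD, finsum_mem_def, finsum_eq_sum_of_fintype]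
    simp only [Set.indicator_apply, hS, Finset.sum_filter]
  have hD0 : D ≠ 0 := by
    rw [hDsum]
    refine fun h0 => (Cfsg.Agent.Lib.BlockHeights.charDegree_irr_pos (trivIrr G)).ne' ?_
    have := Finset.sum_eq_zero_iff.1 h0 (trivIrr G)
      (Finset.mem_filter.2 ⟨Finset.mem_univ _, sameBlock_refl _⟩)
    simpa using this
  have hcP : Nat.card ↥(P : Subgroup G) = 2 ^ (Nat.card G).factorization 2 :=
    P.card_eq_multiplicity
  have hrow : ∀ x : ↥(P : Subgroup G), (∑ χ ∈ S, (χ : G → ℂ) 1 * (χ : G → ℂ) (x : G)) =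
      if x = 1 then (D : ℂ) else 0 := by
    intro x
    split_ifs with hx
    · subst hx
      rw [hDsum, Nat.cast_sum]
      refine Finset.sum_congr rfl fun χ _ => ?_
      rw [OneMemClass.coe_one, Cfsg.Agent.Lib.BlockHeights.irr_apply_one, Nat.cast_pow, pow_two]
    · have hd : 2 ∣ orderOf ((x : G)⁻¹) := by
        obtain ⟨j, hj⟩ := (IsPGroup.iff_orderOf.1 P.isPGroup') x
        rw [orderOf_inv, Subgroup.orderOf_coe, hj]
        refine dvd_pow_self 2 fun h0 => hx ?_
        rw [h0, pow_zero] at hj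
        exact orderOf_eq_one_iff.1 hj
      have := finsum_regular_singular_eq_zero hM hB (g := (1 : G))
        (by simp [orderOf_one]) hd
      rw [finsum_irr_eq_sum_ite, ← Finset.sum_filter] at this
      rw [← this]
      refine Finset.sum_congr rfl fun χ _ => ?_
      rw [← IsCharacter.apply_inv (irr_isCharacter χ), inv_inv]
  have htot : ((∑ χ ∈ S, a χ : ℕ) : ℂ) * (Nat.card ↥(P : Subgroup G) : ℂ) = (D : ℂ) := by
    have hP0 : (Nat.card ↥(P : Subgroup G) : ℂ) ≠ 0 := Nat.cast_ne_zero.2 Nat.card_pos.ne'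
    calc ((∑ χ ∈ S, a χ : ℕ) : ℂ) * (Nat.card ↥(P : Subgroup G) : ℂ)
        = ∑ χ ∈ S, ∑ x : ↥(P : Subgroup G), lam x * ((χ : G → ℂ) 1 * (χ : G → ℂ) (x : G)) := by
          rw [Nat.cast_sum, Finset.sum_mul]
          refine Finset.sum_congr rfl fun χ _ => ?_
          rw [ha, Nat.cast_mul, ← hn χ, classInner, ← Cfsg.Agent.Lib.BlockHeights.irr_apply_one,
            mul_assoc, mul_comm _ (Nat.card ↥(P : Subgroup G) : ℂ), mul_inv_cancel_left₀ hP0,
            Finset.mul_sum]
          refine Finset.sum_congr rfl fun x _ => ?_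
          rw [hLconj, hres]
          ring
      _ = (D : ℂ) := by
          rw [Finset.sum_comm]
          simp only [← Finset.mul_sum, hrow, mul_ite, mul_zero, Finset.sum_ite_eq',
            Finset.mem_univ, if_true, map_one, one_mul]
  have hodd : Odd (∑ χ ∈ S, a χ) := by
    rw [← Nat.not_even_iff_odd, even_iff_two_dvd]
    rintro ⟨c, hc⟩
    have h1 : (∑ χ ∈ S, a χ) * Nat.card ↥(P : Subgroup G) = D := by exact_mod_cast htot
    rw [hc, hcP] at h1
    have h2 : 2 ^ ((Nat.card G).factorization 2 + 1) ∣ D := ⟨c, by rw [← h1]; ring⟩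
    have := (Nat.prime_two.pow_dvd_iff_le_factorization hD0).1 h2
    omega
  -- the Galois map
  set π : IrrCharacter G → IrrCharacter G := Cfsg.Agent.Lib.CharMisc.powIrr hk with hπ
  have hiter : ∀ (j : ℕ) (χ : IrrCharacter G) (g : G),
      (π^[j] χ : G → ℂ) g = (χ : G → ℂ) (g ^ (k ^ j)) := by
    intro j
    induction j with
    | zero => intro χ g; simp
    | succ j ih =>
      intro χ g
      rw [Function.iterate_succ_apply', hπ, Cfsg.Agent.Lib.CharMisc.powIrr_apply, ← hπ, ih,
        ← pow_mul, pow_succ']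
  have hcopP : (Nat.card ↥(P : Subgroup G)).Coprime k :=
    (hk.coprime_dvd_right (Subgroup.card_subgroup_dvd_card _)).symm
  have hainv : ∀ χ : IrrCharacter G, a (π χ) = a χ := by
    intro χ
    have hdeg : charDegree (π χ : G → ℂ) = charDegree (χ : G → ℂ) := by
      simp [charDegree, hπ, Cfsg.Agent.Lib.CharMisc.powIrr_apply]
    have hnn : (n (π χ) : ℂ) = n χ := by
      rw [← hn, ← hn, classInner, classInner]
      congr 1
      refine Fintype.sum_equiv (powCoprime hcopP) _ _ fun x => ?_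
      have hl : lam (x ^ k) = lam x := by
        have hx := hk₁ (x : G) ((IsPGroup.iff_orderOf.1 P.isPGroup' x).imp fun j hj => by
          rw [Subgroup.orderOf_coe, hj])
        have hx' : x ^ k = x ^ 3 := Subtype.ext (by simpa using hx)
        rcases hlam x with h | h <;> norm_num [hx', map_pow, h]
      simp only [powCoprime_apply, hl, hres, hπ, Cfsg.Agent.Lib.CharMisc.powIrr_apply,
        SubmonoidClass.coe_pow]
    simp only [ha, hdeg, Nat.cast_inj.1 hnn]
  obtain ⟨χ, hχS, hfix, hao⟩ := exists_fixed_odd a ((Nat.card G).factorization 2) π S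
    (fun χ hχ => Finset.mem_filter.2 ⟨Finset.mem_univ _,
      (Cfsg.Agent.Lib.CharMisc.powIrr_mem_principalBlock_iff hM hk χ).2 (Finset.mem_filter.1 hχ).2⟩)
    (fun χ _ => hainv χ)
    (fun χ _ => Subtype.ext (funext fun g => by rw [hiter, pow_iterate_two_eq hk₁ hk₂]))
    hodd
  simp only [ha, Nat.odd_mul] at hao
  have h1 := h χ (Finset.mem_filter.1 hχS).2 hao.1 fun g => congrFun (congrArg Subtype.val hfix) g
  have hχ1 : (χ : G → ℂ) 1 = 1 := by
    rw [Cfsg.Agent.Lib.BlockHeights.irr_apply_one, h1, Nat.cast_one]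
  obtain ⟨mu, hmu⟩ := IsCharacter.exists_hom_of_apply_one (irr_isCharacter χ) hχ1
  refine ⟨mu, fun x => ?_⟩
  let R : IrrCharacter ↥(P : Subgroup G) :=
    ⟨res χ, IsCharacter.isIrr_of_apply_one (IsCharacter.restrict (irr_isCharacter χ) _)
      (by simpa [hres] using hχ1)⟩
  have hRL : R = L := by
    by_contra hne
    have h0 : classInner (res χ) lam = 0 := by
      have := classInner_irr R L
      rwa [if_neg hne] at this
    rw [hn χ, Nat.cast_eq_zero] at h0
    exact (Nat.not_even_iff_odd.2 hao.2) (h0 ▸ Even.zero)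
  have := congrFun (congrArg Subtype.val hRL) x
  rw [← congrFun hmu (x : G)]
  exact this

/-- The Galois-fixed linear characters force a normal two-complement. -/
theorem hasNormalPComplement_of {M : Ideal AlgInt} (hM : IsPModular 2 M) {k : ℕ}
    (hk₁ : ∀ g : G, (∃ j : ℕ, orderOf g = 2 ^ j) → g ^ k = g ^ 3)
    (hk₂ : ∀ g : G, Odd (orderOf g) → g ^ k = g)
    (h : ∀ χ ∈ principalBlock M G, Odd (charDegree (χ : G → ℂ)) →
      (∀ g : G, (χ : G → ℂ) (g ^ k) = (χ : G → ℂ) g) → charDegree (χ : G → ℂ) = 1) :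
    HasNormalPComplement 2 G := by
  classical
  haveI : Fact (Nat.Prime 2) := ⟨Nat.prime_two⟩
  obtain ⟨P⟩ := (Sylow.nonempty : Nonempty (Sylow 2 G))
  rw [Cfsg.Agent.Lib.Transfer.hasNormalPComplement_iff_inf_eq_bot P,
    Cfsg.Agent.Lib.Transfer.inf_pResidual_eq P le_rfl (le_trans ?_ (le_trans le_sup_left le_sup_left)),
    Cfsg.Agent.Lib.Transfer.pResidual_eq_bot P.isPGroup', Subgroup.map_bot, inf_bot_eq]
  rintro y ⟨hyP, hyR⟩
  refine ⟨⟨y, hyP⟩, Cfsg.Agent.Lib.Transfer.mem_frattini_of_forall_hom P.isPGroup' ?_, rfl⟩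
  intro A _ hA δ
  by_contra hy1
  have hA' : Nat.card A = 2 := hA.out
  obtain ⟨t, ht, hu⟩ := (Nat.card_eq_two_iff' (1 : A)).1 hA'
  have hsq : ∀ b : A, b * b = 1 := fun b => by
    have h2 : b ^ Nat.card A = 1 := pow_card_eq_one'
    rwa [hA', pow_two] at h2
  let lam : ↥(P : Subgroup G) →* ℂ :=
    { toFun := fun x => if δ x = 1 then 1 else -1
      map_one' := by simp
      map_mul' := fun x z => by
        by_cases hx : δ x = 1 <;> by_cases hz : δ z = 1
        · simp [hx, hz]
        · simp [hx, hz]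
        · simp [hx, hz]
        · rw [map_mul, hu _ hx, hu _ hz, hsq]
          simp [ht] }
  obtain ⟨mu, hmu⟩ := exists_fixed_linear hM hk₁ hk₂ P h lam
    (fun x => by by_cases hx : δ x = 1 <;> simp [lam, hx])
  set m := Nat.card G / 2 ^ (Nat.card G).factorization 2 with hm
  have hodd : Odd m := by
    rw [← Nat.not_even_iff_odd, even_iff_two_dvd]
    exact Nat.not_dvd_ordCompl Nat.prime_two Nat.card_pos.ne'
  have hle : pResidual 2 G ≤ ((powMonoidHom m).comp mu).ker := by
    rw [pResidual, Subgroup.closure_le]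
    intro g hg
    show (mu g) ^ m = 1
    rw [← map_pow]
    have hd : orderOf g ∣ 2 ^ (Nat.card G).factorization 2 * m := by
      rw [hm, Nat.ordProj_mul_ordCompl_eq_self]; exact orderOf_dvd_natCard g
    rw [orderOf_dvd_iff_pow_eq_one.1 ((Nat.Coprime.pow_right _ hg).dvd_of_dvd_mul_left hd), map_one]
  have h1 : (mu y) ^ m = 1 := hle hyR
  have h2 := congrArg Units.val h1
  rw [Units.val_pow_eq_pow_val, hmu ⟨y, hyP⟩, Units.val_one] at h2
  rw [show lam ⟨y, hyP⟩ = -1 from if_neg hy1, hodd.neg_one_pow] at h2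
  norm_num at h2

/-- Let G be a finite group and M a maximal ideal of the algebraic integers containing 2. Let k be a natural number with g ^ k = g ^ 3 for every 2-element g and g ^ k = g for every element g of odd order (such k exist); an irreducible character χ is unchanged by g ↦ g ^ k exactly when it is fixed by the field automorphism that cubes the 2-power roots of unity and fixes the roots of unity of odd order. Then G has a normal 2-complement if and only if every member χ of the principal 2-block of odd degree with χ (g ^ k) = χ g for all g has degree one. -/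
theorem result {G : Type*} [Group G] [Finite G] (M : Ideal Cfsg.AlgInt) (hM : Cfsg.IsPModular 2 M) (k : ℕ) (hk₁ : ∀ g : G, (∃ j : ℕ, orderOf g = 2 ^ j) → g ^ k = g ^ 3) (hk₂ : ∀ g : G, Odd (orderOf g) → g ^ k = g) : Cfsg.HasNormalPComplement 2 G ↔ ∀ χ ∈ Cfsg.principalBlock M G, Odd (Cfsg.charDegree (χ : G → ℂ)) → (∀ g : G, (χ : G → ℂ) (g ^ k) = (χ : G → ℂ) g) → Cfsg.charDegree (χ : G → ℂ) = 1 := by
  haveI := Fintype.ofFinite G
  haveI : Fact (Nat.Prime 2) := ⟨Nat.prime_two⟩
  haveI : M.IsPrime := hM.2.1.isPrime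
  refine ⟨fun hc χ hχ hodd _ => ?_, hasNormalPComplement_of hM hk₁ hk₂⟩
  obtain ⟨e, he⟩ := IsPGroup.iff_card.1
    (Cfsg.Agent.Lib.Cores.hasNormalPComplement_iff_pPrimeCore.1 hc)
  haveI := Fintype.ofFinite (G ⧸ pPrimeCore 2 G)
  rw [Cfsg.Agent.Lib.CharMisc.principalBlock_eq_image (pPrimeCore 2 G) hM
    Cfsg.Agent.Lib.Cores.not_dvd_card_pPrimeCore] at hχ
  obtain ⟨η, -, rfl⟩ := hχ
  have hd : charDegree (inflIrr (pPrimeCore 2 G) η : G → ℂ) =
      charDegree (η : G ⧸ pPrimeCore 2 G → ℂ) :=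
    Cfsg.Agent.Lib.BlockHeights.charDegree_of_apply_one (by
      show (η : G ⧸ pPrimeCore 2 G → ℂ) (QuotientGroup.mk' _ 1) = _
      rw [map_one, Cfsg.Agent.Lib.BlockHeights.irr_apply_one])
  rw [hd] at hodd ⊢
  exact Nat.Coprime.eq_one_of_dvd (Nat.Coprime.pow_right e (Nat.coprime_two_right.2 hodd))
    (he ▸ Cfsg.Agent.Lib.BlockHeights.charDegree_dvd_card η)

end Cfsg.Agent.S4549
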