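import Cfsg.Statements.S4550
import Cfsg.Agent.Lib.CharMisc.PairingClosed
import Cfsg.Agent.Lib.Blocks.Sections
import Mathlib.Algebra.BigOperators.Ring.Nat
-- import your own Cfsg.Agent.* helpers here

set_option autoImplicit false
open Cfsg

namespace Cfsg.Agent.S4550

/-- Let G be a finite group of even order and M a maximal ideal of the algebraic integers containing 2. Let k be a natural number with g ^ k = g ^ 3 for every 2-element g and g ^ k = g for every element g of odd order (such k exist); an irreducible character χ is unchanged by g ↦ g ^ k exactly when it is fixed by the field automorphism that cubes the 2-power roots of unity and fixes the roots of unity of odd order. Then the number of members χ of the principal 2-block of odd degree with χ (g ^ k) = χ g for all g is even. -/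
theorem result {G : Type*} [Group G] [Finite G] (M : Ideal Cfsg.AlgInt) (hM : Cfsg.IsPModular 2 M) (hev : Even (Nat.card G)) (k : ℕ) (hk₁ : ∀ g : G, (∃ j : ℕ, orderOf g = 2 ^ j) → g ^ k = g ^ 3) (hk₂ : ∀ g : G, Odd (orderOf g) → g ^ k = g) : Even (Nat.card {χ : Cfsg.IrrCharacter G // χ ∈ Cfsg.principalBlock M G ∧ Odd (Cfsg.charDegree (χ : G → ℂ)) ∧ ∀ g : G, (χ : G → ℂ) (g ^ k) = (χ : G → ℂ) g}) := by
  classical
  haveI := Fintype.ofFinite G
  haveI := Fintype.ofFinite (Cfsg.IrrCharacter G)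
  haveI := hM.2.1.isPrime
  haveI : Fact (Nat.Prime 2) := ⟨Nat.prime_two⟩
  open Cfsg.Agent.Lib in
  have hcop : Nat.Coprime k (Nat.card G) := by
    refine Nat.coprime_of_dvd fun q hq hqk hqG => ?_
    haveI := Fact.mk hq
    obtain ⟨g, hg⟩ := exists_prime_orderOf_dvd_card' q hqG
    have hk' : g ^ k = 1 := orderOf_dvd_iff_pow_eq_one.1 (hg ▸ hqk)
    rcases hq.eq_two_or_odd' with rfl | hodd
    · have h3 := hk₁ g ⟨1, by rw [hg, pow_one]⟩
      rw [hk'] at h3
      have hd := orderOf_dvd_iff_pow_eq_one.2 h3.symm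
      rw [hg] at hd
      norm_num at hd
    · have h1 := hk₂ g (hg ▸ hodd)
      rw [hk'] at h1
      rw [← h1, orderOf_one] at hg
      exact hq.ne_one hg.symm
  set a := (Nat.card G).factorization 2 with ha
  have ha1 : 1 ≤ a := Nat.prime_two.factorization_pos_of_dvd Nat.card_pos.ne' (even_iff_two_dvd.1 hev)
  set N := Nat.totient (2 ^ a) with hN
  have h3N : 3 ^ N ≡ 1 [MOD 2 ^ a] :=
    Nat.ModEq.pow_totient (Nat.Coprime.pow_right _ (by norm_num))
  have hpow : ∀ g : G, g ^ (k ^ N) = g := by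
    intro g
    obtain ⟨x, y, hxy, hcomm, ⟨j, hj⟩, hy⟩ :=
      Cfsg.Agent.Lib.Blocks.exists_isPPart Nat.prime_two g
    rw [← hxy, hcomm.mul_pow]
    congr 1
    · have hx : ∀ n : ℕ, x ^ (k ^ n) = x ^ (3 ^ n) := by
        intro n
        induction n with
        | zero => simp
        | succ n ih =>
          rw [pow_succ, pow_mul, ih]
          obtain ⟨i, -, hi⟩ := (Nat.dvd_prime_pow Nat.prime_two).1
            ((hj ▸ orderOf_pow_dvd (n := 3 ^ n)) : orderOf (x ^ 3 ^ n) ∣ 2 ^ j)
          rw [hk₁ _ ⟨i, hi⟩, ← pow_mul, ← pow_succ]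
      rw [hx]
      conv_rhs => rw [← pow_one x]
      rw [pow_eq_pow_iff_modEq]
      refine h3N.of_dvd ?_
      rw [hj]
      exact pow_dvd_pow 2 ((Nat.prime_two.pow_dvd_iff_le_factorization Nat.card_pos.ne').1
        (hj ▸ orderOf_dvd_natCard x))
    · have hyo : Odd (orderOf y) := Nat.odd_iff.2 (Nat.two_dvd_ne_zero.1 hy)
      have hy' : ∀ n : ℕ, y ^ (k ^ n) = y := by
        intro n
        induction n with
        | zero => simp
        | succ n ih => rw [pow_succ, pow_mul, ih, hk₂ _ hyo]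
      exact hy' N
  obtain ⟨m, hm⟩ : ∃ m, N = 2 ^ m := ⟨a - 1, by rw [hN, Nat.totient_prime_pow Nat.prime_two ha1]; simp⟩
  let S := {χ : Cfsg.IrrCharacter G // χ ∈ Cfsg.principalBlock M G ∧ Odd (Cfsg.charDegree (χ : G → ℂ))}
  let f : Function.End S := fun χ => ⟨Cfsg.Agent.Lib.CharMisc.powIrr hcop χ.1,
    (Cfsg.Agent.Lib.CharMisc.powIrr_mem_principalBlock_iff hM hcop χ.1).2 χ.2.1, by
      have h1 : ((Cfsg.Agent.Lib.CharMisc.powIrr hcop χ.1 : Cfsg.IrrCharacter G) : G → ℂ) 1 =
          (χ.1 : G → ℂ) 1 := by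
        rw [Cfsg.Agent.Lib.CharMisc.powIrr_apply, one_pow]
      rw [Cfsg.Agent.Lib.BlockHeights.irr_apply_one,
        Cfsg.Agent.Lib.BlockHeights.irr_apply_one] at h1
      rw [show Cfsg.charDegree _ = Cfsg.charDegree _ from Nat.cast_injective h1]
      exact χ.2.2⟩
  have hf : f ^ 2 ^ m = 1 := by
    have hit : ∀ n : ℕ, ∀ χ : S, ∀ g : G,
        (((f ^ n) χ).1 : G → ℂ) g = (χ.1 : G → ℂ) (g ^ (k ^ n)) := by
      intro n
      induction n with
      | zero => intro χ g; simp; rfl
      | succ n ih =>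
        intro χ g
        rw [pow_succ]
        show (((f ^ n) (f χ)).1 : G → ℂ) g = _
        rw [ih (f χ) g]
        show (χ.1 : G → ℂ) ((g ^ k ^ n) ^ k) = _
        rw [← pow_mul, ← pow_succ]
    funext χ
    refine Subtype.ext (Subtype.ext (funext fun g => ?_))
    rw [hit, ← hm, hpow]
    rfl
  have hfix := Equiv.Perm.card_fixedPoints_modEq hf
  have hS : 2 ∣ Fintype.card S := by
    have hfac := Cfsg.Agent.Lib.BlockHeights.factorization_sum_degree_sq hM
      (Cfsg.Agent.Lib.Blocks.isPBlock_principalBlock (M := M) (G := G))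
    have h2 : 2 ∣ ∑ᶠ χ ∈ Cfsg.principalBlock M G, Cfsg.charDegree (χ : G → ℂ) ^ 2 :=
      Nat.dvd_of_factorization_pos (by omega)
    rw [finsum_mem_eq_toFinset_sum] at h2
    have h3 := (Finset.even_sum_iff_even_card_odd _).1 (even_iff_two_dvd.2 h2)
    rw [Fintype.card_subtype]
    rw [← even_iff_two_dvd]
    refine (Eq.subst (motive := fun s : Finset _ => Even s.card) ?_ h3)
    ext χ
    simp [Nat.odd_pow_iff]
  rw [even_iff_two_dvd, Nat.card_eq_fintype_card]
  have hfix2 : 2 ∣ Fintype.card ↥(Function.fixedPoints f) := (hfix.dvd_iff dvd_rfl).1 hS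
  let e : {χ : Cfsg.IrrCharacter G // χ ∈ Cfsg.principalBlock M G ∧
      Odd (Cfsg.charDegree (χ : G → ℂ)) ∧ ∀ g : G, (χ : G → ℂ) (g ^ k) = (χ : G → ℂ) g} ≃
      ↥(Function.fixedPoints f) :=
    { toFun := fun χ => ⟨⟨χ.1, χ.2.1, χ.2.2.1⟩, Subtype.ext (Subtype.ext (funext χ.2.2.2))⟩
      invFun := fun χ => ⟨χ.1.1, χ.1.2.1, χ.1.2.2, fun g =>
        congrFun (congrArg Subtype.val (congrArg Subtype.val χ.2)) g⟩
      left_inv := fun χ => rfl
      right_inv := fun χ => rfl }
  rw [Fintype.card_congr e]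
  exact hfix2

end Cfsg.Agent.S4550
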