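import Cfsg.Statements.S4552
import Cfsg.Agent.Lib.FreeQuot.Main
open Cfsg.Agent.Lib.FreeQuot Cfsg.Agent.Lib.Blocks Cfsg.Agent.Lib.BlockHeights Cfsg.Agent.Lib.BrauerPairs
-- import your own Cfsg.Agent.* helpers here

set_option autoImplicit false
open Cfsg

namespace Cfsg.Agent.S4552

theorem card_two_torsion_le (n : ℕ) [NeZero n] :
    (Finset.univ.filter fun x : ZMod n => x + x = 0).card ≤ 2 := by
  have h := IsAddCyclic.card_nsmul_eq_zero_le (α := ZMod n) (n := 2) two_pos
  simp only [two_nsmul] at h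
  exact h

theorem card_pair_torsion_le (n : ℕ) [NeZero n] :
    (Finset.univ.filter fun x : ZMod n × ZMod n => x + x = 0).card ≤ 4 := by
  refine le_trans (Finset.card_le_card (t := (Finset.univ.filter fun x : ZMod n => x + x = 0) ×ˢ
    (Finset.univ.filter fun x : ZMod n => x + x = 0)) fun x hx => ?_) ?_
  · have h := (Finset.mem_filter.1 hx).2
    simp only [Finset.mem_product, Finset.mem_filter, Finset.mem_univ, true_and]
    exact ⟨congrArg Prod.fst h, congrArg Prod.snd h⟩
  · rw [Finset.card_product]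
    exact Nat.mul_le_mul (card_two_torsion_le n) (card_two_torsion_le n)

/-- An endomorphism of an abelian `2`-group fixing all elements of order two has `2`-power order. -/
theorem iterate_fix {A : Type*} [CommGroup A] (φ : A →* A)
    (h : ∀ x : A, x ^ 2 = 1 → φ x = x) (j : ℕ) :
    ∀ x : A, x ^ 2 ^ j = 1 → (⇑φ)^[2 ^ j] x = x := by
  induction j with
  | zero =>
    intro x hx
    simp only [pow_zero, pow_one] at hx
    simp [hx]
  | succ j ih =>
    intro x hx
    set ψ := (⇑φ)^[2 ^ j] with hψ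
    have hmul : ∀ a b : A, ψ (a * b) = ψ a * ψ b := iterate_map_mul φ _
    have hΩ : ∀ a : A, a ^ 2 = 1 → ψ a = a := fun a ha =>
      Function.iterate_fixed (h a ha) _
    have h1 : ψ (x ^ 2) = x ^ 2 := ih _ (by rw [← pow_mul, ← pow_succ']; exact hx)
    rw [pow_two, hmul, ← pow_two, ← pow_two] at h1
    have h2 : (ψ x * x⁻¹) ^ 2 = 1 := by rw [mul_pow, h1, inv_pow, mul_inv_cancel]
    have h3 : ψ (ψ x) = ψ x * (ψ x * x⁻¹) := by
      conv_lhs => rw [show ψ x = (ψ x * x⁻¹) * x by rw [inv_mul_cancel_right]]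
      rw [hmul, hΩ _ h2, mul_comm]
    show (⇑φ)^[2 ^ (j + 1)] x = x
    rw [pow_succ, mul_two, Function.iterate_add_apply, ← hψ, h3]
    calc ψ x * (ψ x * x⁻¹) = (ψ x * x⁻¹) ^ 2 * x := by
          rw [pow_two, mul_assoc (ψ x * x⁻¹), inv_mul_cancel_right, mul_comm]
      _ = x := by rw [h2, one_mul]

/-- Let B be a 2-block of the finite group G (relative to a maximal ideal M of the algebraic integers containing 2) whose defect group D is the direct product of two cyclic groups of the same order 2 ^ m, m ≥ 2. Then either B has 2-regular rank one and exactly 4 ^ m irreducible characters, or B has 2-regular rank three and exactly (4 ^ m + 8) / 3 irreducible characters. -/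
theorem result {G : Type*} [Group G] [Finite G] (M : Ideal Cfsg.AlgInt) (hM : Cfsg.IsPModular 2 M) (B : Set (Cfsg.IrrCharacter G)) (hB : Cfsg.IsPBlock M B) (D : Subgroup G) (hD : Cfsg.IsDefectGroup 2 M B D) (m : ℕ) (hm : 2 ≤ m) (hiso : Nonempty (D ≃* Multiplicative (ZMod (2 ^ m) × ZMod (2 ^ m)))) : (Cfsg.blockRank 2 B = 1 ∧ Nat.card B = 4 ^ m) ∨ (Cfsg.blockRank 2 B = 3 ∧ 3 * Nat.card B = 4 ^ m + 8) := by
  classical
  haveI := Fintype.ofFinite G
  haveI : M.IsPrime := hM.2.1.isPrime
  haveI := Fact.mk hM.1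
  haveI : NeZero (2 ^ m) := ⟨pow_ne_zero _ two_ne_zero⟩
  obtain ⟨c, hmax⟩ := exists_maximal_defect hM hB hD
  obtain ⟨e'⟩ := hiso
  have hq : Nat.card D = 4 ^ m := by
    rw [Nat.card_congr e'.toEquiv, Nat.card_congr Multiplicative.toAdd, Nat.card_prod, Nat.card_zmod,
      ← mul_pow]
    norm_num
  have hab : ∀ x ∈ D, ∀ y ∈ D, x * y = y * x := fun x hx y hy =>
    congrArg Subtype.val (e'.injective (a₁ := ⟨x, hx⟩ * ⟨y, hy⟩) (a₂ := ⟨y, hy⟩ * ⟨x, hx⟩)
      (by rw [map_mul, map_mul, mul_comm]))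
  letI : CommGroup D := { (inferInstance : Group D) with mul_comm := fun a b => Subtype.ext (hab _ a.2 _ b.2) }
  have hD1 : D ≠ ⊥ := fun h => by
    have h1 : 1 < 4 ^ m := Nat.one_lt_pow (by omega) (by norm_num)
    rw [← hq, h, Subgroup.card_bot] at h1
    omega
  have hexp : ∀ x : D, x ^ 2 ^ m = 1 := fun x => by
    apply e'.injective
    rw [map_pow, map_one]
    refine Multiplicative.toAdd.injective ?_
    rw [toAdd_pow, toAdd_one]
    exact Prod.ext (ZModModule.char_nsmul_eq_zero (2 ^ m) _) (ZModModule.char_nsmul_eq_zero (2 ^ m) _)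
  set S : Finset D := Finset.univ.filter fun x : D => x ^ 2 = 1 ∧ x ≠ 1 with hS
  have hScard : S.card ≤ 3 := by
    have h4 : (insert (1 : D) S).card ≤ 4 := by
      refine le_trans (Finset.card_le_card_of_injOn (fun x => Multiplicative.toAdd (e' x)) (fun x hx => ?_)
        (fun x _ y _ h => e'.injective (Multiplicative.toAdd.injective h))) (card_pair_torsion_le (2 ^ m))
      have hx2 : x ^ 2 = 1 := by
        rcases Finset.mem_insert.1 hx with rfl | h
        · simp
        · exact (Finset.mem_filter.1 h).2.1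
      refine Finset.mem_filter.2 ⟨Finset.mem_univ _, ?_⟩
      show Multiplicative.toAdd (e' x) + Multiplicative.toAdd (e' x) = 0
      rw [← toAdd_mul, ← map_mul, ← pow_two, hx2, map_one, toAdd_one]
    rw [Finset.card_insert_of_notMem (by simp [hS])] at h4
    omega
  have hSmem : ∀ x : D, x ∈ S ↔ x ^ 2 = 1 ∧ x ≠ 1 := fun x => by simp [hS]
  have hinv : ∀ v : D, v ≠ 1 → ∃ j : ℕ, v ^ j ∈ S := by
    intro v hv
    obtain ⟨k, -, hk⟩ := (Nat.dvd_prime_pow Nat.prime_two).1 (orderOf_dvd_of_pow_eq_one (hexp v))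
    obtain ⟨k', rfl⟩ : ∃ k', k = k' + 1 := ⟨k - 1, by
      rcases Nat.eq_zero_or_pos k with rfl | h
      · exact absurd (orderOf_eq_one_iff.1 (by simpa using hk)) hv
      · omega⟩
    refine ⟨2 ^ k', (hSmem _).2 ⟨by rw [← pow_mul, ← pow_succ, ← hk, pow_orderOf_eq_one], fun h => ?_⟩⟩
    have h1 := orderOf_dvd_of_pow_eq_one h
    rw [hk] at h1
    have h2 := Nat.le_of_dvd (pow_pos two_pos k') h1
    rw [pow_succ] at h2
    have := pow_pos (show 0 < 2 by norm_num) k'
    omega
  have hfree : IsFree D c := by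
    intro t ht v hv hv1 hfix
    have htN := (mem_pairStab_iff.1 ht).1
    set φ : MulAut D := D.normalizerMonoidHom ⟨t, htN⟩ with hφ
    have hφv : ∀ x : D, ((φ x : D) : G) = t * x * t⁻¹ := fun x => rfl
    have hv1' : (⟨v, hv⟩ : D) ≠ 1 := fun h => hv1 (congrArg Subtype.val h)
    obtain ⟨j, hj⟩ := hinv ⟨v, hv⟩ hv1'
    set z : D := ⟨v, hv⟩ ^ j
    have hz : φ z = z := by
      rw [map_pow, show φ ⟨v, hv⟩ = ⟨v, hv⟩ from Subtype.ext ((hφv _).trans hfix)]
    have hstable : ∀ x ∈ S.erase z, φ x ∈ S.erase z := fun x hx => by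
      obtain ⟨hxz, hxS⟩ := Finset.mem_erase.1 hx
      obtain ⟨h2, h1⟩ := (hSmem x).1 hxS
      refine Finset.mem_erase.2 ⟨fun h => hxz (φ.injective (h.trans hz.symm)), (hSmem _).2 ⟨?_, ?_⟩⟩
      · rw [← map_pow, h2, map_one]
      · exact fun h => h1 (φ.injective (h.trans (map_one φ).symm))
    have hφ2 : ∀ x : D, x ^ 2 = 1 → φ (φ x) = x := by
      intro x hx
      by_cases hx1 : x = 1
      · simp [hx1]
      by_cases hxz : x = z
      · rw [hxz, hz, hz]
      have hxE : x ∈ S.erase z := Finset.mem_erase.2 ⟨hxz, (hSmem x).2 ⟨hx, hx1⟩⟩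
      by_cases hfx : φ x = x
      · rw [hfx, hfx]
      by_contra hne
      have hsub : ({x, φ x, φ (φ x)} : Finset D) ⊆ S.erase z := by
        intro y hy
        simp only [Finset.mem_insert, Finset.mem_singleton] at hy
        rcases hy with rfl | rfl | rfl
        exacts [hxE, hstable x hxE, hstable _ (hstable x hxE)]
      have h3 : ({x, φ x, φ (φ x)} : Finset D).card = 3 := Finset.card_eq_three.2
        ⟨x, φ x, φ (φ x), Ne.symm hfx, Ne.symm hne, fun h => hfx (φ.injective h.symm), rfl⟩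
      have h4 := Finset.card_le_card hsub
      rw [h3, Finset.card_erase_of_mem hj] at h4
      omega
    have hiter := fun x : D => iterate_fix ((φ * φ : MulAut D).toMonoidHom) hφ2 m x (hexp x)
    have hpow : ∀ (n : ℕ) (x : D), ((((⇑((φ * φ : MulAut D).toMonoidHom))^[n]) x : D) : G) =
        t ^ (2 * n) * x * (t ^ (2 * n))⁻¹ := by
      intro n
      induction n with
      | zero => intro x; simp
      | succ n ih =>
        intro x
        rw [Function.iterate_succ_apply']
        show ((φ (φ _) : D) : G) = _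
        rw [hφv, hφv, ih, show 2 * (n + 1) = 1 + (1 + 2 * n) by ring, pow_add t 1, pow_add t 1, pow_one]
        group
    refine mem_centralizer_of_pow hM hmax hab ht (k := m + 1) ?_
    rw [Subgroup.mem_centralizer_iff]
    intro x hx
    have h1 := hpow (2 ^ m) ⟨x, hx⟩
    rw [hiter ⟨x, hx⟩, ← pow_succ'] at h1
    exact (mul_inv_eq_iff_eq_mul.1 h1.symm).symm
  obtain ⟨t, htq, hk, hl, hl3⟩ := free_counts hM hmax hD1 hab hfree
  set e := (Subgroup.centralizer (D : Set G)).relIndex (pairStab D c) with he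
  rw [hq] at htq
  have he3 : e ≤ 3 := by
    obtain ⟨⟨w, hw⟩, hw1⟩ := Subgroup.ne_bot_iff_exists_ne_one.1 hD1
    obtain ⟨j, hj⟩ := hinv ⟨w, hw⟩ hw1
    obtain ⟨hz2, hz1⟩ := (hSmem _).1 hj
    set z : D := ⟨w, hw⟩ ^ j
    rw [he, ← card_inertialOrbit_of_free hfree z.2 (fun h => hz1 (Subtype.ext h))]
    refine le_trans (le_trans (Finset.card_le_card (t := S.image fun x : D => (x : G)) fun y hy => ?_)
      Finset.card_image_le) hScard
    obtain ⟨g, hg, rfl⟩ := mem_inertialOrbit.1 hy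
    set φ : MulAut D := D.normalizerMonoidHom ⟨g, (mem_pairStab_iff.1 hg).1⟩
    refine Finset.mem_image.2 ⟨φ z, (hSmem _).2 ⟨?_, ?_⟩, rfl⟩
    · rw [← map_pow, hz2, map_one]
    · exact fun h => hz1 (φ.injective (h.trans (map_one φ).symm))
  have hl' := hl3 he3
  have hlpos := blockRank_pos hM hB
  have hodd : e ≠ 2 := fun h => by
    rw [h] at htq
    obtain ⟨m', rfl⟩ : ∃ m', m = m' + 1 := ⟨m - 1, by omega⟩
    rw [pow_succ] at htq
    omega
  rcases (show e = 1 ∨ e = 3 by omega) with h | h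
  · left; rw [h] at htq hl'; omega
  · right; rw [h] at htq hl'; omega

end Cfsg.Agent.S4552
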