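import Cfsg.Statements.S4553
import Cfsg.Agent.Lib.CharMisc.ResidualCount
import Cfsg.Agent.Lib.OddChar.GaloisConj
import Cfsg.Agent.Lib.Characters.ExtensionCoprime
import Cfsg.Agent.Lib.Characters.DegreeGraphBasic
import Cfsg.Agent.Lib.Blocks.Covering
import Cfsg.Agent.Lib.Blocks.PrincipalRestrict
-- import your own Cfsg.Agent.* helpers here

set_option autoImplicit false
open Cfsg

namespace Cfsg.Agent.S4553

open Cfsg.Agent.Lib.Characters Cfsg.Agent.Lib.Blocks
open scoped Classical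

universe u

/-- The determinant commutes with a coprime power map. -/
theorem detChar_comp_pow {G : Type u} [Group G] [Finite G] {k : ℕ} (hk : Nat.Coprime k (Nat.card G))
    {χ : G → ℂ} (hχ : IsCharacter G χ) (g : G) :
    detChar (fun x => χ (x ^ k)) g = detChar χ (g ^ k) := by
  classical
  haveI := Fintype.ofFinite G
  letI : CommGroup (Subgroup.zpowers g) := IsCyclic.commGroup
  let f : Subgroup.zpowers g →* Subgroup.zpowers g := powMonoidHom k
  have h1 := detChar_comp (Subgroup.zpowers g).subtype (Cfsg.Agent.Lib.OddChar.isCharacter_comp_pow hk hχ)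
  have h2 := detChar_comp (Subgroup.zpowers g).subtype hχ
  have h3 := detChar_comp f (IsCharacter.comp hχ (Subgroup.zpowers g).subtype)
  have he : ((χ ∘ (Subgroup.zpowers g).subtype) ∘ f) = ((fun x => χ (x ^ k)) ∘ (Subgroup.zpowers g).subtype) :=
    funext fun x => by simp [f]
  rw [he, h1, h2] at h3
  simpa [f] using congrFun h3 ⟨g, Subgroup.mem_zpowers g⟩

/-- Let G be a finite group, p a prime, P a Sylow p-subgroup, N the p-residual of G (the subgroup generated by the elements of order prime to p, the smallest normal subgroup with G/N a p-group), and M a maximal ideal of the algebraic integers containing p; suppose G/N is cyclic and nontrivial. Let k be a natural number with g ^ k = g ^ (1 + p) for every p-element g and g ^ k = g for every element g of order prime to p (so that χ (g ^ k) is the image of χ g under the field automorphism that raises p-power roots of unity to the power 1 + p and fixes the roots of unity of order prime to p). Then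 the number of members χ of the principal block of G of degree prime to p with χ (g ^ k) = χ g for all g equals p times the number of members θ of the principal block of N of degree prime to p that are invariant under conjugation by P and satisfy θ (n ^ k) = θ n for all n. -/
theorem result {G : Type*} [Group G] [Finite G] (p : ℕ) [Fact p.Prime] (M : Ideal Cfsg.AlgInt) (hM : Cfsg.IsPModular p M) (P : Sylow p G) (N : Subgroup G) [hN : N.Normal] (hNres : N = Cfsg.pResidual p G) (hcyc : IsCyclic (G ⧸ N)) (hnt : N ≠ ⊤) (k : ℕ) (hk₁ : ∀ g : G, (∃ j : ℕ, orderOf g = p ^ j) → g ^ k = g ^ (1 + p)) (hk₂ : ∀ g : G, Nat.Coprime (orderOf g) p → g ^ k = g) : Nat.card {χ : Cfsg.IrrCharacter G // χ ∈ Cfsg.principalBlock M G ∧ ¬ p ∣ Cfsg.charDegree (χ : G → ℂ) ∧ ∀ g : G, (χ : G → ℂ) (g ^ k) = (χ : G → ℂ) g} = p * Nat.card {θ : Cfsg.IrrCharacter ↥N // θ ∈ Cfsg.principalBlock M ↥N ∧ ¬ p ∣ Cfsg.charDegree (θ : ↥N → ℂ) ∧ (∀ x ∈ (P : Subgroup G), ∀ n : ↥N, (θ : ↥N → ℂ) ⟨x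 * n * x⁻¹, hN.conj_mem n n.2 x⟩ = (θ : ↥N → ℂ) n) ∧ ∀ n : ↥N, (θ : ↥N → ℂ) (n ^ k) = (θ : ↥N → ℂ) n} := by
  classical
  haveI := Fintype.ofFinite G
  haveI := Fintype.ofFinite ↥N
  haveI : M.IsPrime := hM.2.1.isPrime
  have hp : p.Prime := hM.1
  have hkc : Nat.Coprime k (Nat.card G) := by
    refine Nat.coprime_of_dvd fun r hr hrk hrG => ?_
    haveI := Fact.mk hr
    obtain ⟨g, hg⟩ := exists_prime_orderOf_dvd_card' r hrG
    have h1 : g ^ k = 1 := by rw [← orderOf_dvd_iff_pow_eq_one, hg]; exact hrk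
    have hg1 : g ≠ 1 := fun h => by rw [h, orderOf_one] at hg; exact hr.ne_one hg.symm
    by_cases hrp : r = p
    · subst hrp
      rw [hk₁ g ⟨1, by rw [hg, pow_one]⟩, pow_add, pow_one, ← hg, pow_orderOf_eq_one, mul_one] at h1
      exact hg1 h1
    · rw [hk₂ g (hg ▸ (Nat.coprime_primes hr hp).2 hrp)] at h1
      exact hg1 h1
  have hQ : IsPGroup p (G ⧸ N) :=
    Cfsg.Agent.Lib.LocalEven.quotient_pResidual_isPGroup N hNres.ge
  obtain ⟨e₀, he₀⟩ := hQ.exists_card_eq
  have hidx : N.index = p ^ e₀ := by rw [Subgroup.index_eq_card, he₀]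
  have hNP : N ⊔ (P : Subgroup G) = ⊤ := Cfsg.Agent.Lib.LocalEven.sup_sylow_of_pResidual_le P N hNres.ge
  have hdet : ∀ {θ : N → ℂ}, IsCharacter N θ → ¬ p ∣ detOrder θ := by
    subst hNres
    intro θ hθ
    exact Cfsg.Agent.Lib.CharMisc.not_dvd_detOrder_pResidual hp hθ
  -- powers
  set t := (Nat.card G).factorization p with ht
  have hz : ∀ g : G, (g ^ k * g⁻¹) ^ p ^ t = 1 := by
    intro g
    have hreg : Nat.Coprime (orderOf (g ^ p ^ t)) p := by
      refine ((hp.coprime_iff_not_dvd).2 fun hd => ?_).symm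
      have h1 : orderOf (g ^ p ^ t) ∣ Nat.card G / p ^ t := by
        rw [orderOf_dvd_iff_pow_eq_one, ← pow_mul, Nat.mul_div_cancel' (Nat.ordProj_dvd _ _), pow_card_eq_one']
      exact Nat.not_dvd_ordCompl hp Nat.card_pos.ne' (hd.trans h1)
    have hc : Commute (g ^ k) g⁻¹ := ((Commute.refl g).pow_left k).inv_right
    rw [hc.mul_pow, inv_pow, ← pow_mul, mul_comm k, pow_mul, hk₂ _ hreg, mul_inv_cancel]
  -- a fixed extension
  have hext : ∀ θ : IrrCharacter N, ¬ p ∣ charDegree (θ : N → ℂ) →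
      (∀ g : G, ∀ n : N, (θ : N → ℂ) ⟨g * n * g⁻¹, hN.conj_mem n n.2 g⟩ = (θ : N → ℂ) n) →
      (∀ n : N, (θ : N → ℂ) (n ^ k) = (θ : N → ℂ) n) →
      ∃ η : IrrCharacter G, (∀ n : N, (η : G → ℂ) n = (θ : N → ℂ) n) ∧ ∀ g, (η : G → ℂ) (g ^ k) = (η : G → ℂ) g := by
    intro θ hd hinv hfix
    obtain ⟨η, hη, hres⟩ := exists_irr_extension_of_cyclic hcyc θ.2 hinv
    set d := charDegree (θ : N → ℂ) with hd'
    have hθ1 : (θ : N → ℂ) 1 = (d : ℂ) := Cfsg.Agent.Lib.CharMisc.charDegree_coe θ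
    have hη1 : η 1 = (d : ℂ) := by rw [← hθ1, ← hres]; rfl
    have hηc := IsIrrCharacter.isCharacter hη
    obtain ⟨δ, hδ⟩ := IsCharacter.exists_hom_of_apply_one (isCharacter_detChar hηc).1 (isCharacter_detChar hηc).2
    have hσres : ∀ n : N, η ((n : G) ^ k) = η n := fun n => by
      rw [← SubmonoidClass.coe_pow, hres, hres, hfix]
    obtain ⟨l0, hl0, hσ⟩ := exists_linear_mul_of_restrict_eq (N := N) hηc
      (Cfsg.Agent.Lib.OddChar.isCharacter_comp_pow hkc hηc)
      (by rw [show (fun n : N => η n) = (θ : N → ℂ) from funext hres]; exact θ.2) hσres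
    have hl0d : ∀ g, l0 g ^ d = δ (g ^ k * g⁻¹) := fun g => by
      have h1 := detChar_comp_pow hkc hηc g
      rw [hσ, detChar_twist l0 hηc hη1, hδ] at h1
      refine Units.ext ?_
      simp only at h1
      rw [map_mul, map_inv, Units.val_mul, ← h1, Units.val_pow_eq_pow_val, mul_assoc, Units.mul_inv, mul_one]
    have hcop : Nat.Coprime d N.index := by
      rw [hidx]; exact ((hp.coprime_iff_not_dvd.2 hd).symm).pow_right e₀
    obtain ⟨a, ha1, -⟩ := Nat.chineseRemainder hcop.symm 1 0 |> fun ⟨x, hx1, hx0⟩ =>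
      (⟨x / d, by rw [Nat.mul_div_cancel' (Nat.modEq_zero_iff_dvd.1 hx0)]; exact hx1, trivial⟩ :
        ∃ a, d * a ≡ 1 [MOD N.index] ∧ True)
    have hl0a : ∀ g, l0 g = δ (g ^ k * g⁻¹) ^ a := fun g => by
      rw [← hl0d, ← pow_mul]
      conv_lhs => rw [← pow_one (l0 g)]
      exact (pow_eq_pow_of_modEq ha1 (pow_index_eq_one_of_trivial l0 hl0 g)).symm
    have ho : ¬ p ∣ detOrder (θ : N → ℂ) := hdet (irr_isCharacter θ)
    obtain ⟨j, hj1, hj0⟩ := Nat.chineseRemainder ((hp.coprime_iff_not_dvd.2 ho).pow_left t) 1 0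
    obtain ⟨c, rfl⟩ := Nat.modEq_zero_iff_dvd.1 hj0
    have hδN : ∀ n : N, δ (n : G) ^ detOrder (θ : N → ℂ) = 1 := fun n => by
      refine Units.ext ?_
      have h1 := congrFun (pow_orderOf_eq_one (detChar (θ : N → ℂ))) n
      have h2 : detChar (θ : N → ℂ) n = (δ (n : G) : ℂ) := by
        rw [show (θ : N → ℂ) = η ∘ N.subtype from (funext hres).symm, detChar_comp N.subtype hηc, hδ]
        rfl
      rw [Pi.pow_apply, h2] at h1
      rw [Units.val_pow_eq_pow_val, detOrder]
      exact h1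
    let l : G →* ℂˣ := (δ ^ (a * (detOrder (θ : N → ℂ) * c)))⁻¹
    have hlN : ∀ n : N, l n = 1 := fun n => by
      show (δ (n : G) ^ (a * (detOrder (θ : N → ℂ) * c)))⁻¹ = 1
      rw [show a * (detOrder (θ : N → ℂ) * c) = detOrder (θ : N → ℂ) * (a * c) by ring, pow_mul, hδN,
        one_pow, inv_one]
    refine ⟨⟨_, isIrrCharacter_twist l hη⟩, fun n => ?_, fun g => ?_⟩
    · show (l (n : G) : ℂ) * η n = _
      rw [hlN, Units.val_one, one_mul, hres]
    · show (l (g ^ k) : ℂ) * η (g ^ k) = (l g : ℂ) * η g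
      rw [congrFun hσ g, ← mul_assoc, ← Units.val_mul]
      congr 2
      rw [hl0a]
      have hzj : δ (g ^ k * g⁻¹) ^ (detOrder (θ : N → ℂ) * c) = δ (g ^ k * g⁻¹) := by
        conv_rhs => rw [← pow_one (δ (g ^ k * g⁻¹))]
        exact pow_eq_pow_of_modEq hj1 (by rw [← map_pow, hz, map_one])
      calc l (g ^ k) * δ (g ^ k * g⁻¹) ^ a
          = l (g ^ k) * (δ (g ^ k * g⁻¹) ^ (detOrder (θ : N → ℂ) * c)) ^ a := by rw [hzj]
        _ = l g := by
          show (δ (g ^ k) ^ (a * (detOrder (θ : N → ℂ) * c)))⁻¹ * _ = (δ g ^ (a * (detOrder (θ : N → ℂ) * c)))⁻¹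
          rw [← pow_mul, mul_comm (detOrder (θ : N → ℂ) * c) a, map_mul, mul_pow, ← mul_assoc, inv_mul_cancel,
            one_mul, map_inv, inv_pow]
  -- linear characters fixed
  obtain ⟨g₀, hg₀⟩ := IsCyclic.exists_generator (α := G ⧸ N)
  let Lam := {l : G →* ℂˣ // (∀ n : N, l n = 1) ∧ ∀ g, l g ^ p = 1}
  have hLam : Nat.card Lam = p := by
    haveI : NeZero p := ⟨hp.ne_zero⟩
    obtain ⟨g₁, hg₁⟩ := QuotientGroup.mk_surjective g₀
    have hpg : p ∣ orderOf g₀ := by
      rw [orderOf_eq_card_of_forall_mem_zpowers hg₀, he₀]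
      refine dvd_pow_self p fun h => hnt (Subgroup.index_eq_one.1 ?_)
      rw [hidx, h, pow_zero]
    let f : Lam → rootsOfUnity p ℂ := fun l => ⟨l.1 g₁, l.2.2 g₁⟩
    have hf : Function.Bijective f := by
      constructor
      · intro l l' h
        have h' : l.1 g₁ = l'.1 g₁ := congrArg Subtype.val h
        refine Subtype.ext (MonoidHom.ext fun g => ?_)
        obtain ⟨i, hi⟩ := hg₀ (g : G ⧸ N)
        have hi' : (g₁ ^ i)⁻¹ * g ∈ N := by
          rw [← QuotientGroup.eq, QuotientGroup.mk_zpow, hg₁]; exact hi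
        have h1 := l.2.1 ⟨_, hi'⟩
        have h2 := l'.2.1 ⟨_, hi'⟩
        simp only [map_mul, map_inv, map_zpow] at h1 h2
        rw [inv_mul_eq_one] at h1 h2
        rw [← h1, ← h2, h']
      · rintro ⟨z, hz⟩
        have hz' : orderOf z ∣ orderOf g₀ := (orderOf_dvd_of_pow_eq_one hz).trans hpg
        let φ := monoidHomOfForallMemZpowers hg₀ hz'
        refine ⟨⟨φ.comp (QuotientGroup.mk' N), fun n => ?_, fun g => ?_⟩, Subtype.ext ?_⟩
        · rw [MonoidHom.comp_apply, show QuotientGroup.mk' N (n : G) = 1 from (QuotientGroup.eq_one_iff _).2 n.2, map_one]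
        · rw [MonoidHom.comp_apply, ← map_pow]
          obtain ⟨i, hi⟩ := hg₀ (QuotientGroup.mk' N g)
          rw [← hi, map_pow, map_zpow, monoidHomOfForallMemZpowers_apply_gen, ← zpow_natCast, ← zpow_mul,
            mul_comm, zpow_mul, zpow_natCast]
          rw [show z ^ p = 1 from hz, one_zpow]
        · show φ (QuotientGroup.mk' N g₁) = z
          rw [QuotientGroup.mk'_apply, hg₁]
          exact monoidHomOfForallMemZpowers_apply_gen hg₀ hz'
    rw [Nat.card_eq_of_bijective f hf]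
    exact Complex.card_rootsOfUnity p
  have hlamfix : ∀ l : G →* ℂˣ, (∀ n : N, l n = 1) → ((∀ g, l g ^ p = 1) ↔ ∀ g, l (g ^ k) = l g) := by
    intro l hl
    have hred : ∀ g : G, ∃ x ∈ (P : Subgroup G), l g = l x := fun g => by
      obtain ⟨n, hn, x, hx, rfl⟩ := Subgroup.mem_sup_of_normal_left.1 (hNP ▸ Subgroup.mem_top g)
      exact ⟨x, hx, by rw [map_mul, hl ⟨n, hn⟩, one_mul]⟩
    have hk' : ∀ x ∈ (P : Subgroup G), l (x ^ k) = l x * l x ^ p := fun x hx => by
      obtain ⟨i, hi⟩ := P.2 ⟨x, hx⟩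
      obtain ⟨i', -, hi'⟩ := (Nat.dvd_prime_pow hp).1 (orderOf_dvd_of_pow_eq_one (show x ^ p ^ i = 1 from congrArg Subtype.val hi))
      rw [hk₁ x ⟨i', hi'⟩, map_pow, pow_add, pow_one]
    constructor
    · intro h g
      obtain ⟨x, hx, e⟩ := hred g
      rw [map_pow, e, ← map_pow, hk' x hx, h x, mul_one]
    · intro h g
      obtain ⟨x, hx, e⟩ := hred g
      have h1 := h x
      rw [hk' x hx, mul_eq_left] at h1
      rw [e, h1]
  let A := {θ : IrrCharacter N // θ ∈ Cfsg.principalBlock M ↥N ∧ ¬ p ∣ Cfsg.charDegree (θ : ↥N → ℂ) ∧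
    (∀ x ∈ (P : Subgroup G), ∀ n : ↥N, (θ : ↥N → ℂ) ⟨x * n * x⁻¹, hN.conj_mem n n.2 x⟩ = (θ : ↥N → ℂ) n) ∧
    ∀ n : ↥N, (θ : ↥N → ℂ) (n ^ k) = (θ : ↥N → ℂ) n}
  have hinvG : ∀ θ : A, ∀ g : G, ∀ n : N,
      (θ.1 : N → ℂ) ⟨g * n * g⁻¹, hN.conj_mem n n.2 g⟩ = (θ.1 : N → ℂ) n := by
    intro θ g n
    obtain ⟨m, hm, x, hx, rfl⟩ := Subgroup.mem_sup_of_normal_left.1 (hNP ▸ Subgroup.mem_top g)
    have h1 := irr_isClassFunction θ.1 ⟨x * n * x⁻¹, hN.conj_mem n n.2 x⟩ ⟨m, hm⟩
    rw [θ.2.2.2.1 x hx n] at h1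
    rw [← h1]
    exact congrArg _ (Subtype.ext (by simp [mul_assoc]))
  choose η hηres hηfix using fun θ : A => hext θ.1 θ.2.2.1 (hinvG θ) θ.2.2.2.2
  have hcard : ∀ (θ : A) (l : Lam), Cfsg.charDegree (fun g => (l.1 g : ℂ) * (η θ : G → ℂ) g) = Cfsg.charDegree (θ.1 : N → ℂ) := by
    intro θ l
    refine Cfsg.Agent.Lib.CharMisc.charDegree_of_apply_one ?_
    rw [map_one, Units.val_one, one_mul, ← Cfsg.Agent.Lib.CharMisc.charDegree_coe θ.1, ← hηres θ]
    rfl
  let Φ : A × Lam → {χ : Cfsg.IrrCharacter G // χ ∈ Cfsg.principalBlock M G ∧ ¬ p ∣ Cfsg.charDegree (χ : G → ℂ) ∧ ∀ g : G, (χ : G → ℂ) (g ^ k) = (χ : G → ℂ) g} :=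
    fun z => ⟨⟨_, isIrrCharacter_twist z.2.1 (η z.1).2⟩, by
      have hres : (fun n : N => (z.2.1 (n : G) : ℂ) * (η z.1 : G → ℂ) n) = (z.1.1 : N → ℂ) := funext fun n => by
        rw [z.2.2.1, Units.val_one, one_mul, hηres]
      refine sameBlock_of_constituents N hM hidx (χ := trivIrr G) (θ := trivIrr N) (θ' := z.1.1) z.1.2.1
        ((classInner_trivIrr_ne_zero_iff N (trivIrr G)).2 fun n _ => by simp) ?_
      show classInner (fun n : N => (z.2.1 (n : G) : ℂ) * (η z.1 : G → ℂ) n) _ ≠ 0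
      rw [hres, IsIrrCharacter.classInner_self z.1.1.2]
      exact one_ne_zero, by
      show ¬ p ∣ Cfsg.charDegree (fun g => (z.2.1 g : ℂ) * (η z.1 : G → ℂ) g)
      rw [hcard]; exact z.1.2.2.1, fun g => by
      show (z.2.1 (g ^ k) : ℂ) * (η z.1 : G → ℂ) (g ^ k) = _
      rw [(hlamfix z.2.1 z.2.2.1).1 z.2.2.2 g, hηfix]⟩
  have hΦ : Function.Bijective Φ := by
    constructor
    · rintro ⟨θ, l⟩ ⟨θ', l'⟩ h
      have h' : (fun g => (l.1 g : ℂ) * (η θ : G → ℂ) g) = fun g => (l'.1 g : ℂ) * (η θ' : G → ℂ) g :=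
        congrArg (fun z => ((z.1 : IrrCharacter G) : G → ℂ)) h
      obtain rfl : θ = θ' := by
        refine Subtype.ext (Subtype.ext (funext fun n => ?_))
        have h1 := congrFun h' (n : G)
        simp only [l.2.1, l'.2.1, Units.val_one, one_mul, hηres] at h1
        exact h1
      have hd1 : (η θ : G → ℂ) 1 = (Cfsg.charDegree (θ.1 : N → ℂ) : ℂ) := by
        rw [← Cfsg.Agent.Lib.CharMisc.charDegree_coe θ.1, ← hηres θ]
        rfl
      refine Prod.ext rfl (Subtype.ext (MonoidHom.ext fun g => ?_))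
      have h1 := congrArg detChar h'
      rw [detChar_twist l.1 (irr_isCharacter _) hd1, detChar_twist l'.1 (irr_isCharacter _) hd1] at h1
      have h2 := congrFun h1 g
      have hne : detChar (η θ : G → ℂ) g ≠ 0 := by
        obtain ⟨δ, hδ⟩ := IsCharacter.exists_hom_of_apply_one (isCharacter_detChar (irr_isCharacter (η θ))).1
          (isCharacter_detChar (irr_isCharacter (η θ))).2
        rw [hδ]; exact Units.ne_zero _
      have h3 : l.1 g ^ Cfsg.charDegree (θ.1 : N → ℂ) = l'.1 g ^ Cfsg.charDegree (θ.1 : N → ℂ) := by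
        refine Units.ext ?_
        simp only [Units.val_pow_eq_pow_val]
        exact mul_right_cancel₀ hne h2
      have hcop : (Cfsg.charDegree (θ.1 : N → ℂ)).Coprime p := (hp.coprime_iff_not_dvd.2 θ.2.2.1).symm
      have h4 := pow_gcd_eq_one.mpr ⟨(show (l.1 g * (l'.1 g)⁻¹) ^ Cfsg.charDegree (θ.1 : N → ℂ) = 1 by
        rw [mul_pow, inv_pow, h3, mul_inv_cancel]), (show (l.1 g * (l'.1 g)⁻¹) ^ p = 1 by
        rw [mul_pow, inv_pow, l.2.2, l'.2.2, inv_one, mul_one])⟩
      rw [hcop.gcd_eq_one, pow_one] at h4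
      exact mul_inv_eq_one.1 h4
    · rintro ⟨χ, hχB, hχd, hχfix⟩
      obtain ⟨θ, hθc⟩ := exists_constituent_restrict N χ
      obtain ⟨e, he, hed⟩ := degree_ratio_dvd_index N χ.2 θ.2 hθc
      rw [Cfsg.Agent.Lib.CharMisc.charDegree_coe χ, Cfsg.Agent.Lib.CharMisc.charDegree_coe θ, ← Nat.cast_mul, Nat.cast_inj] at he
      have he1 : e = 1 := by
        rw [hidx] at hed
        obtain ⟨i, -, hi⟩ := (Nat.dvd_prime_pow hp).1 hed
        rcases Nat.eq_zero_or_pos i with h0 | h0
        · rw [hi, h0, pow_zero]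
        · exact absurd (he ▸ Dvd.dvd.mul_right (hi ▸ dvd_pow_self p h0.ne') _) hχd
      rw [he1, one_mul] at he
      have hres : (fun n : N => (χ : G → ℂ) n) = (θ : N → ℂ) :=
        restrict_irr_of_degree N (irr_isCharacter χ) θ.2 hθc
          (by rw [Cfsg.Agent.Lib.CharMisc.charDegree_coe χ, Cfsg.Agent.Lib.CharMisc.charDegree_coe θ, he])
      let θA : A := ⟨θ, constituent_mem_principal N hM hχB hθc, he ▸ hχd, fun x hx n => by
        rw [← congrFun hres, ← congrFun hres]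
        exact irr_isClassFunction χ (n : G) x, fun n => by
        rw [← congrFun hres, ← congrFun hres, SubmonoidClass.coe_pow]
        exact hχfix _⟩
      obtain ⟨l, hl, hχl⟩ := exists_linear_mul_of_restrict_eq (N := N) (irr_isCharacter (η θA)) (irr_isCharacter χ)
        (by rw [show (fun n : N => (η θA : G → ℂ) n) = (θ : N → ℂ) from funext (hηres θA)]; exact θ.2)
        (fun n => by rw [hηres, congrFun hres n])
      have hlk : ∀ g, l (g ^ k) = l g := by
        let μ : G →* ℂˣ := MonoidHom.mk' (fun g => l (g ^ k) * (l g)⁻¹) fun a b => by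
          simp only [map_pow, map_mul, mul_pow, mul_inv]
          exact mul_mul_mul_comm _ _ _ _
        have hμ : (fun g => (μ g : ℂ) * (η θA : G → ℂ) g) = (η θA : G → ℂ) := funext fun g => by
          have h1 := hχfix g
          rw [congrFun hχl, congrFun hχl, hηfix] at h1
          show ((l (g ^ k) * (l g)⁻¹ : ℂˣ) : ℂ) * _ = _
          rw [Units.val_mul, mul_right_comm, h1, mul_right_comm, Units.mul_inv, one_mul]
        have hd1 : (η θA : G → ℂ) 1 = (Cfsg.charDegree (θ : N → ℂ) : ℂ) := by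
          rw [← Cfsg.Agent.Lib.CharMisc.charDegree_coe θ, ← hηres θA]
          rfl
        have h1 := congrArg detChar hμ
        rw [detChar_twist μ (irr_isCharacter _) hd1] at h1
        intro g
        have h2 := congrFun h1 g
        obtain ⟨δ, hδ⟩ := IsCharacter.exists_hom_of_apply_one (isCharacter_detChar (irr_isCharacter (η θA))).1
          (isCharacter_detChar (irr_isCharacter (η θA))).2
        rw [hδ] at h2
        have h3 : μ g ^ Cfsg.charDegree (θ : N → ℂ) = 1 := Units.ext (by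
          rw [Units.val_pow_eq_pow_val, Units.val_one]
          exact (mul_eq_right₀ (Units.ne_zero _)).1 h2)
        have h4 : μ g ^ N.index = 1 := pow_index_eq_one_of_trivial μ (fun n => by
          show l ((n : G) ^ k) * (l n)⁻¹ = 1
          rw [map_pow, hl, one_pow, inv_one, one_mul]) g
        have h5 := pow_gcd_eq_one.mpr ⟨h3, h4⟩
        have hcop : (Cfsg.charDegree (θ : N → ℂ)).Coprime N.index := by
          rw [hidx]; exact ((hp.coprime_iff_not_dvd.2 (he ▸ hχd)).symm).pow_right e₀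
        rw [hcop.gcd_eq_one, pow_one] at h5
        exact mul_inv_eq_one.1 h5
      exact ⟨(θA, ⟨l, hl, (hlamfix l hl).2 hlk⟩), Subtype.ext (Subtype.ext hχl.symm)⟩
  rw [← Nat.card_eq_of_bijective Φ hΦ, Nat.card_prod, hLam, mul_comm]

end Cfsg.Agent.S4553
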