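import Cfsg.Statements.S4558
import Cfsg.Agent.Lib.BlockHeights.CharTools
import Mathlib.Tactic.Group
import Mathlib.Tactic.LinearCombination

set_option autoImplicit false
open Cfsg

namespace Cfsg.Agent.S4558

/-- Let χ be a character of the finite group G and g an element of p-power order for the prime p. If χ g = 0, then p divides the degree of χ. -/
theorem result {G : Type*} [Group G] [Finite G] (p : ℕ) [Fact p.Prime] (χ : G → ℂ) (hχ : Cfsg.IsCharacter G χ) (g : G) (hg : ∃ j : ℕ, orderOf g = p ^ j) (h0 : χ g = 0) : p ∣ Cfsg.charDegree χ := by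
  classical
  obtain ⟨j, hj⟩ := hg
  have hp : p.Prime := Fact.out
  obtain ⟨ι, hι, μ, hμ, hχg⟩ := Lib.BlockHeights.exists_eigen_sum hχ g
  obtain ⟨n, hn⟩ := Lib.Characters.IsCharacter.exists_apply_one hχ
  rw [Lib.BlockHeights.charDegree_of_apply_one hn]
  have hmem : ∀ i, μ i ∈ AlgInt := fun i =>
    (Lib.Characters.isIntegral_of_pow_eq_one (orderOf_pos g).ne' (hμ i))
  let ν : ι → AlgInt := fun i => ⟨μ i, hmem i⟩
  have hν : ∀ i, ν i ^ p ^ j = 1 := fun i => Subtype.ext (by simpa [ν, ← hj] using hμ i)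
  have hsum : (∑ i, ν i : AlgInt) = 0 := by
    apply Subtype.ext
    have := hχg 1
    simp only [pow_one, h0] at this
    simpa [ν] using this.symm
  obtain ⟨r, hr⟩ := Lib.BlockHeights.exists_sum_pow_prime_pow hp Finset.univ ν j
  rw [hsum, zero_pow (pow_pos hp.pos j).ne'] at hr
  simp only [hν] at hr
  have hcard : (n : ℂ) = Fintype.card ι := by
    rw [← hn]
    have := hχg 0
    simpa using this
  have hcard' : n = Fintype.card ι := by exact_mod_cast hcard
  apply Lib.Characters.dvd_of_isIntegral_div hp.ne_zero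
  have h2 : (0 : ℂ) = (n : ℂ) + (p : ℂ) * (r : ℂ) := by
    have := congrArg (Subtype.val) hr
    rw [hcard']
    simpa using this
  have h3 : (n : ℂ) / p = -(r : ℂ) := by
    have hp0 : (p : ℂ) ≠ 0 := Nat.cast_ne_zero.mpr hp.ne_zero
    field_simp
    linear_combination -h2
  rw [h3]
  exact (show IsIntegral ℤ (r : ℂ) from r.2).neg

end Cfsg.Agent.S4558
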