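import Cfsg.Statements.S4560
import Cfsg.Agent.Lib.Perm.TwoRowChars
-- import your own Cfsg.Agent.* helpers here

set_option autoImplicit false
open Cfsg

namespace Cfsg.Agent.S4560

open Cfsg.Agent.Lib.Perm.TwoRowChars Cfsg.Agent.Lib.Characters

theorem exists_elem (n a p b q r N : ℕ) (hp : 2 ≤ p) (hq : 2 ≤ q) (hn : n = a * p + b * q + r)
    (hpN : p ∣ N) (hqN : q ∣ N)
    (hs : ∀ (i : NeZero p) (j : NeZero q),
      (Equiv.Perm.sign (Equiv.addRight (1 : ZMod p))) ^ a * (Equiv.Perm.sign (Equiv.addRight (1 : ZMod q))) ^ b = 1) :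
    ∃ σ : Equiv.Perm (Fin n), Equiv.Perm.sign σ = 1 ∧ σ ^ N = 1 ∧
      Nat.card {x // σ x = x} = r ∧ (3 ≤ p → 3 ≤ q → ∀ x, σ (σ x) = x → σ x = x) := by
  classical
  haveI hP : NeZero p := ⟨by omega⟩
  haveI hQ : NeZero q := ⟨by omega⟩
  let A : Equiv.Perm ((Fin a × ZMod p) ⊕ (Fin b × ZMod q) ⊕ Fin r) :=
    Equiv.Perm.sumCongr (Equiv.prodCongrRight fun _ => Equiv.addRight (1 : ZMod p))
      (Equiv.Perm.sumCongr (Equiv.prodCongrRight fun _ => Equiv.addRight (1 : ZMod q)) 1)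
  let e : Fin n ≃ (Fin a × ZMod p) ⊕ (Fin b × ZMod q) ⊕ Fin r :=
    (Fintype.equivFinOfCardEq (by simp [ZMod.card, hn, add_assoc])).symm
  have hval : ∀ z, (e.symm.permCongr A) (e.symm z) = e.symm (A z) := fun z => by simp
  have hpow : ∀ k : ℕ, ∀ z, (A ^ k) z = match z with
      | Sum.inl (i, t) => Sum.inl (i, t + k)
      | Sum.inr (Sum.inl (i, t)) => Sum.inr (Sum.inl (i, t + k))
      | Sum.inr (Sum.inr i) => Sum.inr (Sum.inr i) := by
    intro k
    induction k with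
    | zero => intro z; rcases z with ⟨i, t⟩ | ⟨i, t⟩ | i <;> simp
    | succ k ih =>
      intro z
      rw [pow_succ', Equiv.Perm.mul_apply, ih]
      rcases z with ⟨i, t⟩ | ⟨i, t⟩ | i <;> simp [A, add_assoc]
  have hone : ∀ {d : ℕ}, 2 ≤ d → ((1 : ℕ) : ZMod d) ≠ 0 := fun {d} hd h => by
    rw [ZMod.natCast_eq_zero_iff] at h; exact absurd (Nat.le_of_dvd one_pos h) (by omega)
  have htwo : ∀ {d : ℕ}, 3 ≤ d → ((2 : ℕ) : ZMod d) ≠ 0 := fun {d} hd h => by
    rw [ZMod.natCast_eq_zero_iff] at h; exact absurd (Nat.le_of_dvd two_pos h) (by omega)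
  refine ⟨e.symm.permCongr A, ?_, ?_, ?_, fun hp3 hq3 x hx => ?_⟩
  · rw [Equiv.Perm.sign_permCongr, Equiv.Perm.sign_sumCongr, Equiv.Perm.sign_sumCongr,
      Equiv.Perm.sign_prodCongrRight, Equiv.Perm.sign_prodCongrRight]
    simp only [Finset.prod_const, Finset.card_univ, Fintype.card_fin, map_one, mul_one]
    exact hs hP hQ
  · have hA : A ^ N = 1 := by
      refine Equiv.ext fun z => ?_
      rw [hpow]
      have h1 : (N : ZMod p) = 0 := (ZMod.natCast_eq_zero_iff _ _).2 hpN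
      have h2 : (N : ZMod q) = 0 := (ZMod.natCast_eq_zero_iff _ _).2 hqN
      rcases z with ⟨i, t⟩ | ⟨i, t⟩ | i <;> simp [h1, h2]
    rw [← Equiv.permCongrHom_coe, ← map_pow, hA, map_one]
  · refine Eq.trans ?_ (Nat.card_fin r)
    have hfix : ∀ z, A z = z ↔ ∃ i, z = Sum.inr (Sum.inr i) := by
      intro z
      rw [← pow_one A, hpow]
      rcases z with ⟨i, t⟩ | ⟨i, t⟩ | i
      · simpa using hone hp
      · simpa using hone hq
      · simp
    refine Nat.card_congr ((Equiv.subtypeEquiv e fun x => ?_).trans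
      (Equiv.ofBijective (fun i => (⟨Sum.inr (Sum.inr i), ⟨i, rfl⟩⟩ :
        {z : (Fin a × ZMod p) ⊕ (Fin b × ZMod q) ⊕ Fin r // ∃ i, z = Sum.inr (Sum.inr i)})) ⟨?_, ?_⟩).symm)
    · rw [← hfix]
      simp [Equiv.permCongr_apply, Equiv.symm_apply_eq]
    · intro i j h
      simpa using h
    · rintro ⟨z, i, rfl⟩
      exact ⟨i, rfl⟩
  · obtain ⟨z, rfl⟩ : ∃ z, x = e.symm z := ⟨e x, by simp⟩
    rw [hval] at hx ⊢
    rw [hval] at hx
    have hx' : (A ^ 2) z = z := by
      rw [sq, Equiv.Perm.mul_apply]; exact e.symm.injective hx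
    rw [hpow] at hx'
    congr 1
    rw [← pow_one A, hpow]
    rcases z with ⟨i, t⟩ | ⟨i, t⟩ | i
    · exact absurd (by simpa using hx') (htwo hp3)
    · exact absurd (by simpa using hx') (htwo hq3)
    · rfl

variable {n : ℕ}

theorem pack (hn : 7 ≤ n) (f : (G : Type) → [Group G] → [MulAction G (Fin n)] → G → ℂ)
    (hgen : ∀ (G : Type) [Group G] [Fintype G] [MulAction G (Fin n)], IsGeneralizedCharacter G (f G))
    (hnorm : ∀ (G : Type) [Group G] [Fintype G] [MulAction G (Fin n)], TupleTrans G (Fin n) →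
      classInner (f G) (f G) = 1)
    (hres : ∀ x : alternatingGroup (Fin n), f (Equiv.Perm (Fin n)) x = f (alternatingGroup (Fin n)) x)
    {k : ℕ} (hk : 0 < k) (h1 : f (Equiv.Perm (Fin n)) 1 = k)
    (σ : Equiv.Perm (Fin n)) (hσ : Equiv.Perm.sign σ = 1) (hzero : f (Equiv.Perm (Fin n)) σ = 0) :
    ∃ χ : IrrCharacter (alternatingGroup (Fin n)),
      (χ : alternatingGroup (Fin n) → ℂ) ⟨σ, Equiv.Perm.mem_alternatingGroup.2 hσ⟩ = 0 ∧
      ∃ ψ : IrrCharacter (Equiv.Perm (Fin n)), ∀ x : alternatingGroup (Fin n),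
        (ψ : Equiv.Perm (Fin n) → ℂ) x = (χ : alternatingGroup (Fin n) → ℂ) x := by
  have h1' : f (alternatingGroup (Fin n)) 1 = k := by rw [← hres]; exact h1
  exact ⟨⟨_, isIrr_of_norm (hgen _) (hnorm _ (tupleTrans_alt (by omega))) hk h1'⟩,
    (hres ⟨σ, _⟩).symm.trans hzero,
    ⟨_, isIrr_of_norm (hgen _) (hnorm _ (tupleTrans_perm (by omega))) hk h1⟩, hres⟩

theorem value_one (G : Type) [Group G] [MulAction G (Fin n)] :
    fix1 G (Fin n) 1 = n ∧ fix2 G (Fin n) 1 = (n.choose 2 : ℕ) := by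
  constructor
  · simp [fix1, MulAction.fixedBy_one_eq_univ, Nat.card_eq_fintype_card]
  · show (Nat.card (MulAction.fixedBy (TwoSet (Fin n)) (1 : G)) : ℂ) = _
    rw [card_fixed_pairs (fun a _ => one_smul G a)]
    simp [MulAction.fixedBy_one_eq_univ, Nat.card_eq_fintype_card]

theorem fix1_apply (σ : Equiv.Perm (Fin n)) :
    fix1 (Equiv.Perm (Fin n)) (Fin n) σ = (Nat.card {x // σ x = x} : ℂ) := rfl

/-- An element with few fixed points and no two-cycles, or exactly one fixed point. -/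
theorem exists_char (hn : 7 ≤ n) (σ : Equiv.Perm (Fin n)) (hσ : Equiv.Perm.sign σ = 1)
    (h : Nat.card {x // σ x = x} = 1 ∨
      ((Nat.card {x // σ x = x} = 0 ∨ Nat.card {x // σ x = x} = 2) ∧ ∀ x, σ (σ x) = x → σ x = x)) :
    ∃ χ : IrrCharacter (alternatingGroup (Fin n)),
      (χ : alternatingGroup (Fin n) → ℂ) ⟨σ, Equiv.Perm.mem_alternatingGroup.2 hσ⟩ = 0 ∧
      ∃ ψ : IrrCharacter (Equiv.Perm (Fin n)), ∀ x : alternatingGroup (Fin n),
        (ψ : Equiv.Perm (Fin n) → ℂ) x = (χ : alternatingGroup (Fin n) → ℂ) x := by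
  obtain ⟨v1, v2⟩ := value_one (n := n) (Equiv.Perm (Fin n))
  have hn2 : (n.choose 2 : ℕ) = n * (n - 1) / 2 := Nat.choose_two_right n
  have heven : 2 ∣ n * (n - 1) := by
    rcases Nat.even_or_odd n with h | h
    · exact (even_iff_two_dvd.1 h).mul_right _
    · exact (even_iff_two_dvd.1 (Nat.Odd.sub_odd h odd_one)).mul_left _
  obtain ⟨c, hc⟩ := heven
  have hchoose : (n.choose 2 : ℕ) = c := by rw [hn2, hc]; omega
  have hbig : n * 6 ≤ n * (n - 1) := Nat.mul_le_mul_left _ (by omega)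
  rcases h with h | ⟨h | h, hno⟩
  · refine pack hn (fun G => chi1 G (Fin n)) (fun G _ _ _ => (isGeneralized G).1)
      (fun G _ _ _ hT => (norms hT (by omega)).1) (fun x => rfl) (k := n - 1) (by omega) ?_ σ hσ ?_
    · simp [chi1, v1, Nat.cast_sub (show 1 ≤ n by omega)]
    · show fix1 (Equiv.Perm (Fin n)) (Fin n) σ - 1 = 0
      rw [fix1_apply, h]; simp
  · refine pack hn (fun G => chi22 G (Fin n)) (fun G _ _ _ => (isGeneralized G).2.1)
      (fun G _ _ _ hT => (norms hT (by omega)).2.1) (fun x => rfl) (k := n.choose 2 - n) (by omega) ?_ σ hσ ?_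
    · simp [chi22, v1, v2, Nat.cast_sub (show n ≤ n.choose 2 by omega)]
    · have e : fix2 (Equiv.Perm (Fin n)) (Fin n) σ = 0 := by
        show (Nat.card (MulAction.fixedBy (TwoSet (Fin n)) σ) : ℂ) = _
        rw [card_fixed_pairs (g := σ) hno]
        rw [show Nat.card (MulAction.fixedBy (Fin n) σ) = 0 from h]
        simp
      show fix2 (Equiv.Perm (Fin n)) (Fin n) σ - fix1 (Equiv.Perm (Fin n)) (Fin n) σ = 0
      rw [e, fix1_apply, h]; simp
  · refine pack hn (fun G => chi211 G (Fin n)) (fun G _ _ _ => (isGeneralized G).2.2)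
      (fun G _ _ _ hT => (norms hT (by omega)).2.2) (fun x => rfl) (k := c + 1 - n) (by omega) ?_ σ hσ ?_
    · simp only [chi211, Pi.add_apply, Pi.sub_apply, Pi.mul_apply, Pi.one_apply, v1, v2, hchoose,
        Nat.cast_sub (show n ≤ c + 1 by omega)]
      have : ((n : ℂ)) * ((n : ℂ) - 1) = 2 * c := by
        have := congrArg (Nat.cast : ℕ → ℂ) hc
        push_cast [Nat.cast_sub (show 1 ≤ n by omega)] at this
        exact this
      push_cast
      linear_combination this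
    · have e : fix2 (Equiv.Perm (Fin n)) (Fin n) σ = 1 := by
        show (Nat.card (MulAction.fixedBy (TwoSet (Fin n)) σ) : ℂ) = _
        rw [card_fixed_pairs (g := σ) hno]
        rw [show Nat.card (MulAction.fixedBy (Fin n) σ) = 2 from h]
        simp
      simp only [chi211, Pi.add_apply, Pi.sub_apply, Pi.mul_apply, Pi.one_apply, fix1_apply, h, e]
      norm_num

theorem sign_four : Equiv.Perm.sign (Equiv.addRight (1 : ZMod 4)) = -1 := by decide
theorem sign_eight : Equiv.Perm.sign (Equiv.addRight (1 : ZMod 8)) = -1 := by decide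
theorem sign_two : Equiv.Perm.sign (Equiv.addRight (1 : ZMod 2)) = -1 := by decide
theorem sign_three : Equiv.Perm.sign (Equiv.addRight (1 : ZMod 3)) = 1 := by decide

/-- For n ≥ 7 the alternating group on n letters has an irreducible character that vanishes at some 2-element and is the restriction of an irreducible character of the symmetric group, and an irreducible character that vanishes at some element of order 3 and is the restriction of an irreducible character of the symmetric group. -/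
theorem result (n : ℕ) (hn : 7 ≤ n) : (∃ χ : Cfsg.IrrCharacter (alternatingGroup (Fin n)), (∃ x : alternatingGroup (Fin n), (∃ j : ℕ, orderOf x = 2 ^ j) ∧ (χ : alternatingGroup (Fin n) → ℂ) x = 0) ∧ ∃ ψ : Cfsg.IrrCharacter (Equiv.Perm (Fin n)), ∀ x : alternatingGroup (Fin n), (ψ : Equiv.Perm (Fin n) → ℂ) x = (χ : alternatingGroup (Fin n) → ℂ) x) ∧ (∃ χ : Cfsg.IrrCharacter (alternatingGroup (Fin n)), (∃ y : alternatingGroup (Fin n), orderOf y = 3 ∧ (χ : alternatingGroup (Fin n) → ℂ) y = 0) ∧ ∃ ψ : Cfsg.IrrCharacter (Equiv.Perm (Fin n)), ∀ x : alternatingGroup (Fin n), (ψ : Equiv.Perm (Fin n) → ℂ) x = (χ : alternatingGroup (Fin n) → ℂ) x) := by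
  refine ⟨?_, ?_⟩
  · obtain ⟨σ, hs, hN, hσ⟩ : ∃ σ : Equiv.Perm (Fin n), Equiv.Perm.sign σ = 1 ∧ σ ^ 8 = 1 ∧
        (Nat.card {x // σ x = x} = 1 ∨
          ((Nat.card {x // σ x = x} = 0 ∨ Nat.card {x // σ x = x} = 2) ∧ ∀ x, σ (σ x) = x → σ x = x)) := by
      by_cases hodd : n % 2 = 1
      · obtain ⟨a, b, hab, hpar⟩ : ∃ a b, n = a * 4 + b * 2 + 1 ∧ Even (a + b) := by
          rcases Nat.even_or_odd ((n - 1) / 4) with h | h <;> rcases (show n % 4 = 1 ∨ n % 4 = 3 by omega) with h4 | h4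
          · exact ⟨(n - 1) / 4, 0, by omega, by simpa using h⟩
          · exact ⟨(n - 1) / 4 - 1, 3, by omega, by rw [Nat.even_iff] at *; omega⟩
          · exact ⟨(n - 1) / 4 - 1, 2, by omega, by rw [Nat.odd_iff] at h; rw [Nat.even_iff]; omega⟩
          · exact ⟨(n - 1) / 4, 1, by omega, by rw [Nat.odd_iff] at h; rw [Nat.even_iff]; omega⟩
        obtain ⟨σ, h1, h2, h3, -⟩ := exists_elem n a 4 b 2 1 8 (by norm_num) le_rfl hab (by norm_num) (by norm_num)
          (fun _ _ => by rw [sign_four, sign_two, ← pow_add, Even.neg_one_pow hpar])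
        exact ⟨σ, h1, h2, Or.inl h3⟩
      · obtain ⟨a, b, r, hr, hab, hpar⟩ : ∃ a b r, (r = 0 ∨ r = 2) ∧ n = a * 4 + b * 8 + r ∧ Even (a + b) := by
          rcases Nat.even_or_odd (n / 4) with h | h
          · exact ⟨n / 4, 0, n % 4, by omega, by omega, by simpa using h⟩
          · rw [Nat.odd_iff] at h
            exact ⟨n / 4 - 2, 1, n % 4, by omega, by omega, by rw [Nat.even_iff]; omega⟩
        obtain ⟨σ, h1, h2, h3, h4⟩ := exists_elem n a 4 b 8 r 8 (by norm_num) (by norm_num) hab (by norm_num) (by norm_num)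
          (fun _ _ => by rw [sign_four, sign_eight, ← pow_add, Even.neg_one_pow hpar])
        exact ⟨σ, h1, h2, Or.inr ⟨h3 ▸ hr, h4 (by norm_num) (by norm_num)⟩⟩
    obtain ⟨χ, h0, hψ⟩ := exists_char hn σ hs hσ
    refine ⟨χ, ⟨_, ?_, h0⟩, hψ⟩
    obtain ⟨j, -, hj⟩ := (Nat.dvd_prime_pow Nat.prime_two).1
      (show orderOf σ ∣ 2 ^ 3 from orderOf_dvd_of_pow_eq_one hN)
    exact ⟨j, by rw [Subgroup.orderOf_mk]; exact hj⟩
  · obtain ⟨σ, hs, hN, hr, hno⟩ := exists_elem n (n / 3) 3 0 3 (n % 3) 3 (by norm_num) (by norm_num) (by omega)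
      dvd_rfl dvd_rfl (fun _ _ => by simp [sign_three])
    have hσ : Nat.card {x // σ x = x} = 1 ∨
        ((Nat.card {x // σ x = x} = 0 ∨ Nat.card {x // σ x = x} = 2) ∧ ∀ x, σ (σ x) = x → σ x = x) := by
      rcases (show n % 3 = 0 ∨ n % 3 = 1 ∨ n % 3 = 2 by omega) with h | h | h
      · exact Or.inr ⟨Or.inl (hr.trans h), hno le_rfl le_rfl⟩
      · exact Or.inl (hr.trans h)
      · exact Or.inr ⟨Or.inr (hr.trans h), hno le_rfl le_rfl⟩
    obtain ⟨χ, h0, hψ⟩ := exists_char hn σ hs hσ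
    refine ⟨χ, ⟨_, ?_, h0⟩, hψ⟩
    rw [Subgroup.orderOf_mk]
    refine orderOf_eq_prime hN fun h => ?_
    subst h
    have : Nat.card {x : Fin n // (1 : Equiv.Perm (Fin n)) x = x} = n := by simp
    omega

end Cfsg.Agent.S4560
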