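import Cfsg.Statements.S4561
import Cfsg.Agent.Lib.Characters.CentralTypeModel
import Cfsg.Agent.Lib.Characters.PPrimeDegree
import Cfsg.Agent.Lib.Characters.AbelianTI
import Cfsg.Agent.Lib.Coprime.SchurZassenhaus
-- import your own Cfsg.Agent.* helpers here

set_option autoImplicit false
universe u
open Cfsg Cfsg.Agent.Lib.Characters
open scoped ComplexConjugate

namespace Cfsg.Agent.S4561

/-- For every finite solvable group G there is a finite group H with a faithful irreducible character χ whose degree squared equals the index of the centre Z(H) (so χ is fully ramified over the centre), such that G is isomorphic to a subgroup of H/Z(H), the primes dividing the orders of H, of Z(H) and of G are the same, and the order of Z(H) is squarefree. -/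
theorem result {G : Type u} [Group G] [Finite G] (hsolv : Group.IsSolvable G) : ∃ (H : Type u) (_ : Group H) (_ : Finite H) (χ : Cfsg.IrrCharacter H), (∀ h : H, (χ : H → ℂ) h = (χ : H → ℂ) 1 → h = 1) ∧ (Cfsg.charDegree (χ : H → ℂ)) ^ 2 = (Subgroup.center H).index ∧ (∃ f : G →* H ⧸ Subgroup.center H, Function.Injective f) ∧ (∀ p : ℕ, p.Prime → ((p ∣ Nat.card H ↔ p ∣ Nat.card G) ∧ (p ∣ Nat.card (Subgroup.center H) ↔ p ∣ Nat.card G))) ∧ Squarefree (Nat.card (Subgroup.center H)) := by
  classical
  obtain ⟨ι, _, _, _, S, m, s, hsq, hfin, hscal, htr, hcard, hprimes, hsS, hsmul, hsker⟩ :=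
    hasCTModel_of_isSolvable hsolv fun K _ _ hK hK' =>
      haveI := hK; haveI := hK'; Cfsg.Agent.Lib.Coprime.exists_normal_prime_index (H := K)
  haveI := hfin
  haveI := Fintype.ofFinite S
  haveI : NeZero m := ⟨hsq.ne_zero⟩
  let d := Fintype.card ι
  have hd : (d : ℂ) ≠ 0 := Nat.cast_ne_zero.2 Fintype.card_ne_zero
  let ρ : Representation ℂ S (ι → ℂ) :=
    (Matrix.toLinAlgEquiv' (R := ℂ) (n := ι)).toMonoidHom.comp
      ((Units.coeHom _).comp S.subtype)
  have hchar : ∀ u : S, ρ.character u = ((u : (Matrix ι ι ℂ)ˣ) : Matrix ι ι ℂ).trace := fun u => by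
    show LinearMap.trace ℂ (ι → ℂ) (Matrix.toLinAlgEquiv' _) = _
    exact Matrix.trace_toLin'_eq _
  let Zc : rootsOfUnity m ℂ → S := fun c => ⟨scalUnit ι c, (hscal _).2 ((mem_rootsOfUnity _ _).1 c.2)⟩
  have hZinj : Function.Injective Zc := fun a b h =>
    Subtype.ext (scalUnit_injective (congrArg Subtype.val h))
  haveI := Fintype.ofFinite (rootsOfUnity m ℂ)
  have hZtr : ∀ c, ρ.character (Zc c) = ((c : ℂˣ) : ℂ) * d := fun c => by
    rw [hchar]
    simp [Zc, scalUnit_val, d]
  have hoff : ∀ u : S, ρ.character u ≠ 0 → ∃ c, Zc c = u := fun u hu => by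
    obtain ⟨z, hz⟩ := htr u u.2 (hchar u ▸ hu)
    exact ⟨⟨z, (mem_rootsOfUnity _ _).2 ((hscal z).1 (hz ▸ u.2))⟩, Subtype.ext hz.symm⟩
  have hirr : IsIrrCharacter S ρ.character := by
    rw [IsCharacter.isIrr_iff (isCharacter_of_rep ρ), classInner,
      ← Finset.sum_subset (Finset.subset_univ (Finset.univ.image Zc)) fun u _ hu => by
        rw [show ρ.character u = 0 from by_contra fun h => hu (by
          obtain ⟨c, hc⟩ := hoff u h
          exact Finset.mem_image.2 ⟨c, Finset.mem_univ _, hc⟩), zero_mul],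
      Finset.sum_image fun a _ b _ h => hZinj h]
    have hterm : ∀ c : rootsOfUnity m ℂ,
        ρ.character (Zc c) * conj (ρ.character (Zc c)) = (d : ℂ) * d := fun c => by
      have hn : ‖((c : ℂˣ) : ℂ)‖ = 1 := Complex.norm_eq_one_of_pow_eq_one
        (by rw [← Units.val_pow_eq_pow_val, (mem_rootsOfUnity _ _).1 c.2, Units.val_one])
        (NeZero.ne m)
      rw [hZtr, map_mul, map_natCast, mul_mul_mul_comm, Complex.mul_conj,
        Complex.normSq_eq_norm_sq, hn, one_pow, Complex.ofReal_one, one_mul]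
    rw [Finset.sum_congr rfl fun c _ => hterm c, Finset.sum_const, Finset.card_univ,
      ← Nat.card_eq_fintype_card, Complex.card_rootsOfUnity, hcard, nsmul_eq_mul]
    push_cast
    have hm : (m : ℂ) ≠ 0 := Nat.cast_ne_zero.2 (NeZero.ne m)
    field_simp
    ring
  -- the centre
  have hcenter : ∀ u : S, u ∈ Subgroup.center S ↔ ∃ c, Zc c = u := fun u => by
    refine ⟨fun hu => ?_, ?_⟩
    · obtain ⟨k, hk, hmul⟩ := IsIrrCharacter.exists_central_value hirr hu
      refine hoff u ?_
      have := hmul 1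
      rw [one_mul] at this
      rw [this]
      exact mul_ne_zero (fun h => by simp [h] at hk) (IsIrrCharacter.apply_one_ne_zero hirr)
    · rintro ⟨c, rfl⟩
      exact Subgroup.mem_center_iff.2 fun v => Subtype.ext (scalUnit_comm _ _).symm
  have hcenc : Nat.card (Subgroup.center S) = m := by
    rw [← Complex.card_rootsOfUnity m]
    exact (Nat.card_congr (Equiv.ofBijective (fun c => (⟨Zc c, (hcenter _).2 ⟨c, rfl⟩⟩ : Subgroup.center S))
      ⟨fun a b h => hZinj (congrArg Subtype.val h),
        fun ⟨u, hu⟩ => ((hcenter u).1 hu).imp fun c hc => Subtype.ext hc⟩)).symm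
  have hidx : (Subgroup.center S).index = d ^ 2 := by
    have h := (Subgroup.center S).card_mul_index
    rw [hcenc, hcard] at h
    exact Nat.eq_of_mul_eq_mul_left (Nat.pos_of_ne_zero (NeZero.ne m)) h
  have hone : ρ.character 1 = (d : ℂ) := by
    rw [hchar]; simp [d]
  -- the embedding
  let q : G → S ⧸ Subgroup.center S := fun g => QuotientGroup.mk ⟨s g, hsS g⟩
  have hq : ∀ a b, q (a * b) = q a * q b := fun a b => by
    obtain ⟨z, hz⟩ := hsmul a b
    rw [← QuotientGroup.mk_mul, eq_comm, QuotientGroup.eq]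
    have hzm : z ^ m = 1 := (hscal z).1 (by
      have := mul_mem (hsS (a * b)) (inv_mem (mul_mem (hsS a) (hsS b)))
      rwa [hz, mul_inv_cancel_right] at this)
    refine (hcenter _).2 ⟨⟨z, (mem_rootsOfUnity _ _).2 hzm⟩, Subtype.ext ?_⟩
    show scalUnit ι z = (s a * s b)⁻¹ * s (a * b)
    rw [hz, scalUnit_comm, inv_mul_cancel_left]
  let e : ULift.{u} S ≃* S := MulEquiv.ulift
  have hcenU : (Subgroup.center (ULift.{u} S)) = (Subgroup.center S).comap e.toMonoidHom := by
    ext x
    simp only [Subgroup.mem_comap, Subgroup.mem_center_iff]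
    exact ⟨fun h v => by simpa using congrArg e (h (e.symm v)),
      fun h v => e.injective (by simpa using h (e v))⟩
  haveI : Fintype (ULift.{u} S) := Fintype.ofFinite _
  refine ⟨ULift.{u} S, inferInstance, inferInstance, ⟨_, IsIrrCharacter.comp_equiv hirr e⟩,
    fun x hx => ?_, ?_, ?_, fun r hr => ?_, ?_⟩
  · obtain ⟨c, hc⟩ := hoff (e x) (by
      rw [show ρ.character (e x) = ρ.character 1 from hx.trans (congrArg ρ.character (map_one e))]
      exact IsIrrCharacter.apply_one_ne_zero hirr)
    have h1 : ρ.character (e x) = ρ.character 1 := hx.trans (congrArg ρ.character (map_one e))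
    rw [← hc, hZtr, hone] at h1
    have h2 : (c : ℂˣ) = 1 := Units.ext (mul_right_cancel₀ hd (h1.trans (one_mul _).symm))
    refine e.injective ?_
    rw [← hc, map_one]
    exact Subtype.ext (by show scalUnit ι (c : ℂˣ) = 1; rw [h2, map_one])
  · rw [hcenU, Subgroup.index_comap_of_surjective _ e.surjective, hidx,
      charDegree_eq_of_apply_one (n := d) (show (ρ.character ∘ e) 1 = (d : ℂ) by simp [hone])]
  · let π := (Subgroup.center S).comap e.toMonoidHom
    have hπ : (Subgroup.center (ULift.{u} S)).map e.toMonoidHom = Subgroup.center S := by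
      rw [hcenU, Subgroup.map_comap_eq_self_of_surjective e.surjective]
    let E := QuotientGroup.congr _ _ e hπ
    refine ⟨E.symm.toMonoidHom.comp (MonoidHom.mk' q hq), fun a b h => ?_⟩
    have h1 : q a = q b := E.symm.injective h
    have h2 : q (b⁻¹ * a) = 1 := by
      have h3 := hq b (b⁻¹ * a)
      rw [mul_inv_cancel_left, h1] at h3
      exact mul_left_cancel (h3.symm.trans (mul_one (q b)).symm)
    obtain ⟨c, hc⟩ := (hcenter _).1 ((QuotientGroup.eq_one_iff _).1 h2)
    exact (inv_mul_eq_one.1 (hsker _ ⟨c, (congrArg Subtype.val hc).symm⟩)).symm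
  · rw [hcenU, Nat.card_congr (Equiv.ulift (α := S))]
    have hc : Nat.card ((Subgroup.center S).comap e.toMonoidHom) = m := by
      rw [← hcenc]
      exact Nat.card_congr (e.toEquiv.subtypeEquiv fun x => Iff.rfl)
    rw [hc, hcard]
    refine ⟨?_, (hprimes r hr).1⟩
    rw [hr.dvd_mul, ← (hprimes r hr).1]
    exact ⟨fun h => h.elim id fun h' => (hprimes r hr).2 (hr.dvd_of_dvd_pow h'), Or.inl⟩
  · rw [hcenU, show Nat.card ((Subgroup.center S).comap e.toMonoidHom) = m from
      (Nat.card_congr (e.toEquiv.subtypeEquiv fun x => Iff.rfl)).trans hcenc]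
    exact hsq

end Cfsg.Agent.S4561
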