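import Cfsg.Statements.S4564
import Cfsg.Agent.Lib.Characters.FullyRamifiedQuotient
-- import your own Cfsg.Agent.* helpers here

set_option autoImplicit false
open Cfsg

namespace Cfsg.Agent.S4564

/-- Let χ be an irreducible character of the finite group H that is fully ramified over the normal subgroup Z: the restriction of χ to Z is e times an irreducible character of Z with e ^ 2 equal to the index of Z. Let K be a normal subgroup of H containing Z and P a cyclic Sylow p-subgroup of H/K. Then P has a complement in H/K: a subgroup meeting P trivially whose product with P is the whole group. -/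
theorem result {H : Type*} [Group H] [Finite H] (Z : Subgroup H) [Z.Normal] (χ : Cfsg.IrrCharacter H) (hfr : ∃ (θ : Cfsg.IrrCharacter ↥Z) (e : ℕ), e ^ 2 = Z.index ∧ ∀ z : ↥Z, (χ : H → ℂ) z = (e : ℂ) * (θ : ↥Z → ℂ) z) (K : Subgroup H) [K.Normal] (hZK : Z ≤ K) (p : ℕ) [Fact p.Prime] (P : Sylow p (H ⧸ K)) (hcyc : IsCyclic P) : ∃ M : Subgroup (H ⧸ K), M.IsComplement' (P : Subgroup (H ⧸ K)) := by
  classical
  haveI := Fintype.ofFinite H
  haveI := Fintype.ofFinite Z
  haveI := Fintype.ofFinite K
  obtain ⟨θ, e, he, hres⟩ := hfr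
  obtain ⟨M, hM⟩ := Lib.Characters.exists_index_of_fullyRamified Z χ.2 θ.2 he hres K hZK p
    (Or.inl fun R => by
      haveI := hcyc
      exact isCyclic_of_surjective _ (Sylow.equiv P R).surjective)
  refine ⟨M, Subgroup.isComplement'_of_card_mul_and_disjoint ?_ ?_⟩
  · rw [P.card_eq_multiplicity, ← hM, Subgroup.card_mul_index]
  · rw [disjoint_iff, ← Subgroup.card_eq_one]
    have h1 := Subgroup.card_mul_index M
    have hp : p.Prime := Fact.out
    refine Nat.eq_one_of_dvd_coprimes (k := Nat.card (M ⊓ (P : Subgroup (H ⧸ K)) :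
      Subgroup (H ⧸ K))) ?_ (Subgroup.card_dvd_of_le inf_le_left)
      (Subgroup.card_dvd_of_le inf_le_right)
    rw [P.card_eq_multiplicity]
    refine Nat.Coprime.pow_right _ (hp.coprime_iff_not_dvd.mpr fun hd => ?_).symm
    have h2 : p ^ ((Nat.card (H ⧸ K)).factorization p + 1) ∣ Nat.card (H ⧸ K) := by
      conv_rhs => rw [← h1, hM]
      rw [pow_succ']
      exact Nat.mul_dvd_mul hd dvd_rfl
    exact Nat.pow_succ_factorization_not_dvd Nat.card_pos.ne' hp h2

end Cfsg.Agent.S4564
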