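import Mathlib
import Cfsg.Statements.S4565
import Cfsg.Agent.Lib.Characters
import Cfsg.Agent.Lib.Characters.ExtensionCoprime

set_option autoImplicit false
open Cfsg

namespace Cfsg.Agent.S4565

open Cfsg.Agent.Lib.Characters

/-- Let χ be an irreducible character of the finite group H that is fully ramified over the normal subgroup Z: the restriction of χ to Z is e times an irreducible character of Z with e ^ 2 equal to the index of Z. If Z ≠ H, then H/Z has no cyclic subgroup that is its own centralizer. -/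
theorem result {H : Type*} [Group H] [Finite H] (Z : Subgroup H) [Z.Normal] (χ : Cfsg.IrrCharacter H) (hfr : ∃ (θ : Cfsg.IrrCharacter ↥Z) (e : ℕ), e ^ 2 = Z.index ∧ ∀ z : ↥Z, (χ : H → ℂ) z = (e : ℂ) * (θ : ↥Z → ℂ) z) (hZ : Z ≠ ⊤) (C : Subgroup (H ⧸ Z)) (hC : IsCyclic C) : Subgroup.centralizer (C : Set (H ⧸ Z)) ≠ C := by
  classical
  haveI := Fintype.ofFinite H
  haveI := Fintype.ofFinite Z
  obtain ⟨θ, e, he, hres⟩ := hfr
  intro hcent
  obtain ⟨c₀, hc₀⟩ := (Subgroup.isCyclic_iff_exists_zpowers_eq_top C).1 hC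
  obtain ⟨c, rfl⟩ := QuotientGroup.mk_surjective c₀
  have he0 : (e : ℂ) ≠ 0 := by
    intro h
    rw [Nat.cast_eq_zero.1 h] at he
    exact Subgroup.index_ne_zero_of_finite he.symm
  have hmemC : ∀ q : H ⧸ Z, q ∈ C ↔ q ∈ Subgroup.zpowers (c : H ⧸ Z) := fun q => by rw [hc₀]
  have hcZ : c ∉ Z := by
    intro h
    have hbot : C = ⊥ := by
      rw [← hc₀, (QuotientGroup.eq_one_iff c).2 h, Subgroup.zpowers_one_eq_bot]
    rw [hbot] at hcent
    have htop : Subgroup.centralizer ((⊥ : Subgroup (H ⧸ Z)) : Set (H ⧸ Z)) = ⊤ := by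
      rw [eq_top_iff]
      intro a _
      rw [Subgroup.mem_centralizer_iff]
      intro b hb
      rw [SetLike.mem_coe, Subgroup.mem_bot] at hb
      rw [hb, one_mul, mul_one]
    rw [htop] at hcent
    refine hZ (eq_top_iff.2 fun a _ => (QuotientGroup.eq_one_iff a).1 ?_)
    have : (a : H ⧸ Z) ∈ (⊤ : Subgroup (H ⧸ Z)) := trivial
    rw [hcent, Subgroup.mem_bot] at this
    exact this
  set K : Subgroup H := C.comap (QuotientGroup.mk' Z) with hK
  haveI := Fintype.ofFinite K
  have hcK : c ∈ K := (hmemC _).2 (Subgroup.mem_zpowers _)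
  have hZK : Z ≤ K := fun z hz => by
    show (z : H ⧸ Z) ∈ C
    rw [(QuotientGroup.eq_one_iff z).2 hz]
    exact one_mem _
  have hinvθ : ∀ (g : H) (n n' : Z), (n' : H) = g * n * g⁻¹ →
      (θ : Z → ℂ) n' = (θ : Z → ℂ) n := by
    intro g n n' h
    have h1 := hres n'
    rw [h, irr_isClassFunction χ (n : H) g, hres n] at h1
    exact (mul_left_cancel₀ he0 h1).symm
  set ZK := Z.subgroupOf K with hZK'
  haveI : ZK.Normal := inferInstance
  haveI := Fintype.ofFinite ZK
  let eZ : ZK ≃* Z := Subgroup.subgroupOfEquivOfLe hZK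
  have hcycK : IsCyclic (K ⧸ ZK) := by
    refine ⟨⟨QuotientGroup.mk (⟨c, hcK⟩ : K), fun q => ?_⟩⟩
    obtain ⟨k, rfl⟩ := QuotientGroup.mk_surjective q
    obtain ⟨i, hi⟩ := Subgroup.mem_zpowers_iff.1 ((hmemC _).1 k.2)
    refine Subgroup.mem_zpowers_iff.2 ⟨i, ?_⟩
    rw [← QuotientGroup.mk_zpow, QuotientGroup.eq, Subgroup.mem_subgroupOf]
    rw [← QuotientGroup.mk_zpow] at hi
    exact QuotientGroup.eq.1 hi
  obtain ⟨ψ, hψ, hψθ⟩ := exists_irr_extension_of_cyclic hcycK
    (IsIrrCharacter.comp_equiv θ.2 eZ)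
    (fun g n => hinvθ (g : H) (eZ n) (eZ _) rfl)
  have hψcl := IsCharacter.isClassFunction (IsIrrCharacter.isCharacter hψ)
  set φ : K → ℂ := fun k => if (k⁻¹ * ⟨c, hcK⟩ : K) ∈ ZK then ψ k else 0 with hφ
  -- the centralizer of the coset is `K`
  have hfix : ∀ (g : H) (k k' : K), (k⁻¹ * ⟨c, hcK⟩ : K) ∈ ZK → (k' : H) = g⁻¹ * k * g →
      ((k'⁻¹ * ⟨c, hcK⟩ : K) ∈ ZK ↔ g ∈ K) := by
    intro g k k' hk hk'
    have hkq : ((k : H) : H ⧸ Z) = (c : H ⧸ Z) := QuotientGroup.eq.2 (Subgroup.mem_subgroupOf.1 hk)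
    have hk'q : ((k' : H) : H ⧸ Z) = (g : H ⧸ Z)⁻¹ * (c : H ⧸ Z) * (g : H ⧸ Z) := by
      rw [hk', QuotientGroup.mk_mul, QuotientGroup.mk_mul, QuotientGroup.mk_inv, hkq]
    have hiff : (k'⁻¹ * ⟨c, hcK⟩ : K) ∈ ZK ↔ ((k' : H) : H ⧸ Z) = (c : H ⧸ Z) := by
      rw [Subgroup.mem_subgroupOf, QuotientGroup.eq]
      rfl
    rw [hiff, hk'q]
    constructor
    · intro h
      show (g : H ⧸ Z) ∈ C
      rw [← hcent, Subgroup.mem_centralizer_iff]
      intro q hq
      obtain ⟨i, rfl⟩ := Subgroup.mem_zpowers_iff.1 ((hmemC q).1 hq)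
      refine (Commute.zpow_left ?_ i)
      calc (c : H ⧸ Z) * (g : H ⧸ Z) = (g : H ⧸ Z) * ((g : H ⧸ Z)⁻¹ * (c : H ⧸ Z) * (g : H ⧸ Z)) := by group
        _ = _ := by rw [h]
    · intro hg
      have h1 : (g : H ⧸ Z) ∈ Subgroup.centralizer (C : Set (H ⧸ Z)) := hcent.symm ▸ hg
      rw [mul_assoc, Subgroup.mem_centralizer_iff.1 h1 _ ((hmemC _).2 (Subgroup.mem_zpowers _)),
        inv_mul_cancel_left]
  have hind : ∀ k : K, (k⁻¹ * ⟨c, hcK⟩ : K) ∈ ZK → indFun K φ (k : H) = ψ k := by
    intro k hk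
    rw [indFun_apply, ← Finset.sum_subset (Finset.subset_univ (Finset.univ.filter fun g : H => g ∈ K))]
    · rw [Finset.sum_congr rfl (g := fun _ => ψ k) fun g hg => ?_, Finset.sum_const, nsmul_eq_mul,
        ← mul_assoc]
      · rw [show ((Finset.univ.filter fun g : H => g ∈ K).card : ℂ) = (Nat.card K : ℂ) by
          rw [Nat.card_eq_fintype_card, Fintype.card_subtype]]
        rw [inv_mul_cancel₀ natCard_ne_zero_complex, one_mul]
      · have hg' := (Finset.mem_filter.1 hg).2
        have hm : g⁻¹ * (k : H) * g ∈ K := K.mul_mem (K.mul_mem (K.inv_mem hg') k.2) hg'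
        rw [extendByZero_of_mem _ _ hm, hφ]
        simp only
        rw [if_pos ((hfix g k ⟨_, hm⟩ hk rfl).2 hg')]
        refine Eq.trans ?_ (hψcl k (⟨g, hg'⟩ : K)⁻¹)
        congr 1
        exact Subtype.ext (by simp)
    · intro g _ hg
      by_cases hm : g⁻¹ * (k : H) * g ∈ K
      · rw [extendByZero_of_mem _ _ hm, hφ]
        simp only
        rw [if_neg]
        exact fun h => hg (Finset.mem_filter.2 ⟨Finset.mem_univ _, (hfix g k ⟨_, hm⟩ hk rfl).1 h⟩)
      · rw [extendByZero_of_not_mem _ _ hm]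
  haveI := Fintype.ofFinite (IrrCharacter H)
  -- vanishing of `χ` outside `Z`
  have hvan : ∀ h : H, h ∉ Z → (χ : H → ℂ) h = 0 := by
    have h1 := IsIrrCharacter.classInner_self χ.2
    rw [classInner, inv_mul_eq_iff_eq_mul₀ natCard_ne_zero_complex, mul_one,
      ← Finset.sum_filter_add_sum_filter_not Finset.univ (fun h : H => h ∈ Z),
      Finset.sum_subtype (p := fun h : H => h ∈ Z) _ (by simp)
        (fun h => (χ : H → ℂ) h * (starRingEnd ℂ) ((χ : H → ℂ) h))] at h1
    have h2 := IsIrrCharacter.classInner_self θ.2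
    rw [classInner, inv_mul_eq_iff_eq_mul₀ natCard_ne_zero_complex, mul_one] at h2
    simp only [hres, map_mul, map_natCast] at h1
    rw [Finset.sum_congr rfl (g := fun z : Z => (e : ℂ) ^ 2 * ((θ : Z → ℂ) z * (starRingEnd ℂ) ((θ : Z → ℂ) z)))
      (fun z _ => by ring), ← Finset.mul_sum, h2] at h1
    have h3 : (e : ℂ) ^ 2 * (Nat.card Z : ℂ) = (Nat.card H : ℂ) := by
      rw [← Nat.cast_pow, he, ← Nat.cast_mul, mul_comm, Subgroup.card_mul_index]
    rw [h3, add_eq_left] at h1
    simp only [Complex.mul_conj] at h1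
    rw [← Complex.ofReal_sum, Complex.ofReal_eq_zero,
      Finset.sum_eq_zero_iff_of_nonneg (fun i _ => Complex.normSq_nonneg _)] at h1
    intro h hh
    exact Complex.normSq_eq_zero.1 (h1 h (Finset.mem_filter.2 ⟨Finset.mem_univ _, hh⟩))
  -- only `χ` lies over `θ`
  have honly : ∀ η : IrrCharacter H, η ≠ χ →
      classInner (fun z : Z => (η : H → ℂ) z) (θ : Z → ℂ) = 0 := by
    intro η hη
    have h := IsIrrCharacter.classInner_ne η.2 χ.2 (fun h => hη (Subtype.ext h))
    rw [classInner, ← Finset.sum_filter_add_sum_filter_not Finset.univ (fun h : H => h ∈ Z),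
      Finset.sum_eq_zero (s := Finset.univ.filter fun h : H => ¬ h ∈ Z) (fun g hg => by
        rw [hvan g (Finset.mem_filter.1 hg).2, map_zero, mul_zero]), add_zero,
      Finset.sum_subtype (p := fun h : H => h ∈ Z) _ (by simp)
        (fun h => (η : H → ℂ) h * (starRingEnd ℂ) ((χ : H → ℂ) h))] at h
    simp only [hres, map_mul, map_natCast] at h
    rw [Finset.sum_congr rfl (g := fun z : Z => (e : ℂ) * ((η : H → ℂ) z * (starRingEnd ℂ) ((θ : Z → ℂ) z)))
      (fun z _ => by ring), ← Finset.mul_sum] at h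
    rw [classInner]
    have h' := (mul_eq_zero.1 ((mul_eq_zero.1 h).resolve_left
      (inv_ne_zero natCard_ne_zero_complex))).resolve_left he0
    rw [h', mul_zero]
  set q₀ : K ⧸ ZK := QuotientGroup.mk (⟨c, hcK⟩ : K) with hq₀
  haveI : IsMulCommutative (K ⧸ ZK) := hcycK.isMulCommutative
  letI : CommGroup (K ⧸ ZK) :=
    { (inferInstance : Group (K ⧸ ZK)) with mul_comm := fun a b => mul_comm' a b }
  haveI : Finite ((K ⧸ ZK) →* ℂˣ) := Nat.finite_of_card_ne_zero (by
    haveI : NeZero (Monoid.exponent (K ⧸ ZK)) := ⟨Monoid.exponent_ne_zero_of_finite⟩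
    rw [CommGroup.card_monoidHom_of_hasEnoughRootsOfUnity (K ⧸ ZK) ℂ]; exact Nat.card_pos.ne')
  haveI := Fintype.ofFinite ((K ⧸ ZK) →* ℂˣ)
  have horth : ∀ q : K ⧸ ZK, ∑ l : (K ⧸ ZK) →* ℂˣ, ((l q : ℂˣ) : ℂ)
      = if q = 1 then (Fintype.card ((K ⧸ ZK) →* ℂˣ) : ℂ) else 0 := by
    intro q
    split_ifs with hq
    · simp [hq]
    · haveI : NeZero (Monoid.exponent (K ⧸ ZK)) := ⟨Monoid.exponent_ne_zero_of_finite⟩
      obtain ⟨l₀, hl₀⟩ := CommGroup.exists_apply_ne_one_of_hasEnoughRootsOfUnity (K ⧸ ZK) ℂ hq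
      have hsum : ((l₀ q : ℂˣ) : ℂ) * ∑ l : (K ⧸ ZK) →* ℂˣ, ((l q : ℂˣ) : ℂ)
          = ∑ l : (K ⧸ ZK) →* ℂˣ, ((l q : ℂˣ) : ℂ) := by
        rw [Finset.mul_sum]
        exact Fintype.sum_equiv (Equiv.mulLeft l₀) _ _ fun l => by simp
      by_contra hne
      exact hl₀ (Units.ext (mul_right_cancel₀ hne (hsum.trans (one_mul _).symm)))
  set M := (Fintype.card ((K ⧸ ZK) →* ℂˣ) : ℂ) with hM
  have hM0 : M ≠ 0 := Nat.cast_ne_zero.2 Fintype.card_ne_zero
  have hfun : M • φ = ∑ l : (K ⧸ ZK) →* ℂˣ, ((l q₀⁻¹ : ℂˣ) : ℂ) •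
      (fun k : K => ((l (QuotientGroup.mk k) : ℂˣ) : ℂ) * ψ k) := by
    funext k
    simp only [Pi.smul_apply, Finset.sum_apply, smul_eq_mul, hφ]
    rw [Finset.sum_congr rfl (g := fun l : (K ⧸ ZK) →* ℂˣ =>
      ((l (q₀⁻¹ * QuotientGroup.mk k) : ℂˣ) : ℂ) * ψ k)
      (fun l _ => by rw [map_mul, Units.val_mul]; ring), ← Finset.sum_mul, horth]
    have hiff : q₀⁻¹ * QuotientGroup.mk k = 1 ↔ (k⁻¹ * ⟨c, hcK⟩ : K) ∈ ZK := by
      rw [inv_mul_eq_one, hq₀, eq_comm, QuotientGroup.eq]
    by_cases hk : (k⁻¹ * ⟨c, hcK⟩ : K) ∈ ZK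
    · rw [if_pos hk, if_pos (hiff.2 hk)]
    · rw [if_neg hk, if_neg (fun h => hk (hiff.1 h)), mul_zero, zero_mul]
  have hzero : ∀ η : IrrCharacter H, classInner (indFun K φ) (η : H → ℂ) = 0 := by
    intro η
    rw [classInner_indFun _ _ (irr_isClassFunction η)]
    by_cases hη : η = χ
    · subst hη
      rw [classInner, Finset.sum_eq_zero, mul_zero]
      intro k _
      rw [hφ]
      simp only
      split_ifs with hk
      · rw [hvan (k : H) (fun hkZ => hcZ ?_), map_zero, mul_zero]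
        have := Subgroup.mem_subgroupOf.1 hk
        simpa using Z.mul_mem hkZ this
      · rw [zero_mul]
    · have hterm : ∀ l : (K ⧸ ZK) →* ℂˣ, classInner (fun k : K =>
          ((l (QuotientGroup.mk k) : ℂˣ) : ℂ) * ψ k) (fun k : K => (η : H → ℂ) k) = 0 := by
        intro l
        have hirr := isIrrCharacter_twist (l.comp (QuotientGroup.mk' ZK)) hψ
        by_contra hne
        set ω : K → ℂ := fun k => ((l (QuotientGroup.mk k) : ℂˣ) : ℂ) * ψ k with hω
        obtain ⟨α, hα, hα'⟩ := IsCharacter.exists_add_of_classInner_ne_zero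
          (χ := ω) (IsCharacter.restrict (irr_isCharacter η) K) hirr (by
            intro h0
            exact hne (by rw [← classInner_conj_symm, h0, map_zero]))
        refine honly η hη |> fun h0 => ?_
        have heq : (fun z : Z => (η : H → ℂ) z)
            = (θ : Z → ℂ) + fun z : Z => α ⟨(z : H), hZK z.2⟩ := by
          funext z
          have h5 := congrFun hα' ⟨(z : H), hZK z.2⟩
          simp only [Pi.add_apply, hω] at h5
          have hm : (⟨(z : H), hZK z.2⟩ : K) ∈ ZK := z.2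
          rw [(QuotientGroup.eq_one_iff _).2 hm, map_one, Units.val_one, one_mul] at h5
          simp only [Pi.add_apply]
          rw [h5]
          congr 1
          refine (hψθ ⟨_, hm⟩).trans ?_
          rfl
        rw [heq, classInner_add_left, IsIrrCharacter.classInner_self θ.2] at h0
        obtain ⟨m, hm⟩ := IsCharacter.exists_classInner_nat
          (IsCharacter.comp hα (Subgroup.inclusion hZK)) (irr_isCharacter θ)
        rw [show (fun z : Z => α ⟨(z : H), hZK z.2⟩) = α ∘ Subgroup.inclusion hZK from rfl, hm] at h0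
        have : ((1 + m : ℕ) : ℂ) = 0 := by push_cast; exact h0
        rw [Nat.cast_eq_zero] at this
        omega
      have h7 : M * classInner φ (fun k : K => (η : H → ℂ) k) = 0 := by
        rw [← classInner_smul_left, hfun, classInner_sum_left]
        exact Finset.sum_eq_zero fun l _ => by rw [classInner_smul_left, hterm l, mul_zero]
      exact (mul_eq_zero.1 h7).resolve_left hM0
  have hf0 : indFun K φ = 0 := by
    rw [eq_sum_classInner (isClassFunction_indFun K φ)]
    simp [hzero]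
  have hφ0 : φ = 0 := by
    funext k
    rw [hφ]
    simp only [Pi.zero_apply]
    split_ifs with hk
    · rw [← hind k hk, hf0]
      rfl
    · rfl
  have hl : ∀ l : (K ⧸ ZK) →* ℂˣ, classInner (fun k : K =>
      ((l (QuotientGroup.mk k) : ℂˣ) : ℂ) * ψ k) ψ = if l = 1 then 1 else 0 := by
    intro l
    split_ifs with hl1
    · subst hl1
      simp only [MonoidHom.one_apply, Units.val_one, one_mul]
      exact IsIrrCharacter.classInner_self hψ
    · refine IsIrrCharacter.classInner_ne (isIrrCharacter_twist (l.comp (QuotientGroup.mk' ZK)) hψ) hψ ?_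
      intro heq
      set L : Subgroup K := (l.comp (QuotientGroup.mk' ZK)).ker with hL
      haveI := Fintype.ofFinite L
      have hLtop : L ≠ ⊤ := by
        intro h
        refine hl1 (MonoidHom.ext fun q => ?_)
        obtain ⟨k, rfl⟩ := QuotientGroup.mk_surjective q
        have : k ∈ L := h ▸ Subgroup.mem_top k
        exact MonoidHom.mem_ker.1 this
      have hZL : ZK ≤ L := fun z hz => by
        rw [hL, MonoidHom.mem_ker, MonoidHom.comp_apply]
        rw [show QuotientGroup.mk' ZK z = 1 from (QuotientGroup.eq_one_iff z).2 hz, map_one]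
      have hoff : ∀ k : K, k ∉ L → ψ k = 0 := by
        intro k hk
        have h : ((l (QuotientGroup.mk k) : ℂˣ) : ℂ) * ψ k = ψ k := congrFun heq k
        by_contra hne
        refine hk (MonoidHom.mem_ker.2 (Units.ext ?_))
        exact mul_right_cancel₀ hne (h.trans (one_mul _).symm)
      obtain ⟨n, σ, hσ, hσψ⟩ := id hψ
      let σZ : Representation ℂ ZK (Fin n → ℂ) := σ.comp ZK.subtype
      have hσZ : σZ.character = (θ : Z → ℂ) ∘ eZ := by
        funext z
        show σ.character (z : K) = _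
        rw [hσψ]
        exact hψθ z
      have hirrZ : σZ.IsIrreducible := isIrreducible_of_isIrrCharacter σZ (by
        rw [hσZ]; exact IsIrrCharacter.comp_equiv θ.2 eZ)
      let σL : Representation ℂ L (Fin n → ℂ) := σ.comp L.subtype
      have hirrL : σL.IsIrreducible := by
        rw [isIrreducible_iff_forall] at hirrZ ⊢
        exact ⟨hirrZ.1, fun U hU => hirrZ.2 U fun z x hx => hU ⟨(z : K), hZL z.2⟩ x hx⟩
      have hL1 : IsIrrCharacter L (fun x : L => ψ x) := by
        refine ⟨n, σL, hirrL, ?_⟩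
        funext x
        show σ.character (x : K) = _
        rw [hσψ]
      have h1 := IsIrrCharacter.classInner_self hL1
      have h2 := IsIrrCharacter.classInner_self hψ
      rw [classInner, inv_mul_eq_iff_eq_mul₀ natCard_ne_zero_complex, mul_one] at h1 h2
      rw [← Finset.sum_subset (Finset.subset_univ (Finset.univ.filter fun k : K => k ∈ L))
        (fun k _ hk => by rw [hoff k (by simpa using hk), zero_mul]),
        Finset.sum_subtype (p := fun k : K => k ∈ L) _ (by simp)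
          (fun k => ψ k * (starRingEnd ℂ) (ψ k)), h1, Nat.cast_inj] at h2
      exact hLtop ((Subgroup.card_eq_iff_eq_top L).1 h2)
  have h8 : M * classInner φ ψ = 1 := by
    rw [← classInner_smul_left, hfun, classInner_sum_left, Finset.sum_eq_single (1 : (K ⧸ ZK) →* ℂˣ)]
    · rw [classInner_smul_left, hl, if_pos rfl, MonoidHom.one_apply, Units.val_one, one_mul]
    · intro l _ hl1
      rw [classInner_smul_left, hl, if_neg hl1, mul_zero]
    · exact fun h => absurd (Finset.mem_univ _) h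
  rw [hφ0, classInner, Finset.sum_eq_zero (fun k _ => by rw [Pi.zero_apply, zero_mul]), mul_zero,
    mul_zero] at h8
  exact zero_ne_one h8

end Cfsg.Agent.S4565
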