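import Cfsg.Statements.S4566
import Cfsg.Agent.Lib.BlockHeights.CharTools
import Mathlib.Tactic.Group
import Mathlib.Tactic.LinearCombination

set_option autoImplicit false
open Cfsg

namespace Cfsg.Agent.S4566

/-- Let N be a central subgroup of the finite group G, ψ a faithful irreducible (hence degree-one) character of N, and χ an irreducible character of G whose restriction to N contains ψ. If g ∈ G and some x ∈ G has commutator x⁻¹ g⁻¹ x g in N but different from 1, then χ g = 0. -/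
theorem result {G : Type*} [Group G] [Fintype G] (N : Subgroup G) [Fintype N] (hN : N ≤ Subgroup.center G) (ψ : Cfsg.IrrCharacter ↥N) (hfaith : ∀ n : ↥N, (ψ : ↥N → ℂ) n = (ψ : ↥N → ℂ) 1 → n = 1) (χ : Cfsg.IrrCharacter G) (hover : Cfsg.classInner (fun n : ↥N => (χ : G → ℂ) n) (ψ : ↥N → ℂ) ≠ 0) (g x : G) (hcomm : x⁻¹ * g⁻¹ * x * g ∈ N) (hne : x⁻¹ * g⁻¹ * x * g ≠ 1) : (χ : G → ℂ) g = 0 := by
  have hgen : ∀ (K : Type _) [Group K] [Fintype K] (φ : IrrCharacter K) (n : K),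
      n ∈ Subgroup.center K → ∃ c : ℂ, ∀ y, (φ : K → ℂ) (n * y) = c * (φ : K → ℂ) y := by
    intro K _ _ φ n hn
    obtain ⟨φ, m, ρ, hρ, rfl⟩ := φ
    haveI := hρ
    obtain ⟨c, hc⟩ := Lib.Characters.exists_smul_of_commute ρ (ρ n) (fun y => by
      rw [← map_mul, ← map_mul, Subgroup.mem_center_iff.mp hn y])
    refine ⟨c, fun y => ?_⟩
    show LinearMap.trace ℂ _ (ρ (n * y)) = c * LinearMap.trace ℂ _ (ρ y)
    rw [map_mul, hc, smul_mul_assoc, map_smul, smul_eq_mul]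
    rfl
  set n := x⁻¹ * g⁻¹ * x * g with hn
  obtain ⟨c, hc⟩ := hgen G χ n (hN hcomm)
  by_contra hχ
  have hconj : (χ : G → ℂ) g⁻¹ = (χ : G → ℂ) (x⁻¹ * g⁻¹ * x) := by
    have := Lib.Characters.irr_isClassFunction χ g⁻¹ x⁻¹
    simpa [mul_assoc] using this.symm
  -- `x⁻¹ g⁻¹ x = n g⁻¹`
  have h1 : (χ : G → ℂ) g⁻¹ = c * (χ : G → ℂ) g⁻¹ := by
    rw [← hc g⁻¹]
    conv_lhs => rw [hconj]
    rw [hn]
    group
  have hginv : (χ : G → ℂ) g⁻¹ ≠ 0 := by
    rw [Lib.Characters.IsCharacter.apply_inv (Lib.Characters.irr_isCharacter χ)]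
    simpa using hχ
  have hc1 : c = 1 := by
    have h2 : (c - 1) * (χ : G → ℂ) g⁻¹ = 0 := by rw [sub_mul, one_mul, ← h1, sub_self]
    exact sub_eq_zero.mp ((mul_eq_zero.mp h2).resolve_right hginv)
  let n₀ : N := ⟨n, hcomm⟩
  obtain ⟨d, hd⟩ := hgen N ψ n₀ (Subgroup.mem_center_iff.mpr fun y =>
    Subtype.ext ((Subgroup.mem_center_iff.mp (hN n₀.2)) y))
  set S := ∑ k : N, (χ : G → ℂ) k * (starRingEnd ℂ) ((ψ : N → ℂ) k) with hS
  have hS0 : S ≠ 0 := by
    intro h; apply hover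
    simp only [classInner]
    rw [← hS, h, mul_zero]
  have hS1 : S = (starRingEnd ℂ) d * S := by
    conv_lhs => rw [hS, ← Equiv.sum_comp (Equiv.mulLeft n₀)]
    rw [hS, Finset.mul_sum]
    refine Finset.sum_congr rfl fun k _ => ?_
    simp only [Equiv.coe_mulLeft, Subgroup.coe_mul, hd, map_mul]
    rw [show (n₀ : G) = n from rfl, hc, hc1]
    ring
  have hd1 : d = 1 := by
    have h2 : ((starRingEnd ℂ) d - 1) * S = 0 := by rw [sub_mul, one_mul, ← hS1, sub_self]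
    have := sub_eq_zero.mp ((mul_eq_zero.mp h2).resolve_right hS0)
    simpa using congrArg (starRingEnd ℂ) this
  apply hne
  have := hfaith n₀ (by simpa [hd1] using hd 1)
  exact congrArg Subtype.val this

end Cfsg.Agent.S4566
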