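import Mathlib
import Cfsg.Statements.S4567
import Cfsg.Agent.Lib.Characters

set_option autoImplicit false
open Cfsg

namespace Cfsg.Agent.S4567

open Cfsg.Agent.Lib.Characters

/-- Let N be a central subgroup of the finite group G and ψ a faithful irreducible (hence degree-one) character of N. Call a coset g N special when every x ∈ G whose commutator x⁻¹ g⁻¹ x g lies in N actually commutes with g (this depends only on the coset). Then the number of irreducible characters of G whose restriction to N contains ψ equals the number of conjugacy classes of G/N consisting of special cosets. -/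
theorem result {G : Type*} [Group G] [Fintype G] (N : Subgroup G) [N.Normal] [Fintype N] (hN : N ≤ Subgroup.center G) (ψ : Cfsg.IrrCharacter ↥N) (hfaith : ∀ n : ↥N, (ψ : ↥N → ℂ) n = (ψ : ↥N → ℂ) 1 → n = 1) : Nat.card {χ : Cfsg.IrrCharacter G // Cfsg.classInner (fun n : ↥N => (χ : G → ℂ) n) (ψ : ↥N → ℂ) ≠ 0} = Nat.card {C : ConjClasses (G ⧸ N) // ∃ g : G, ConjClasses.mk (g : G ⧸ N) = C ∧ ∀ x : G, x⁻¹ * g⁻¹ * x * g ∈ N → x * g = g * x} := by
  classical
  haveI := Fintype.ofFinite (IrrCharacter G)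
  haveI := Fintype.ofFinite (G ⧸ N)
  have hNc : ∀ a b : N, a * b = b * a := fun a b =>
    Subtype.ext ((Subgroup.mem_center_iff.1 (hN b.2)) a)
  have hψ1 : (ψ : N → ℂ) 1 = 1 := IsIrrCharacter.apply_one_of_comm hNc ψ.2
  obtain ⟨lam, hlam⟩ := IsCharacter.exists_hom_of_apply_one (irr_isCharacter ψ) hψ1
  -- central elements act through the constituent
  have hmulN : ∀ (χ : IrrCharacter G) (θ : IrrCharacter N),
      classInner (fun n : N => (χ : G → ℂ) n) (θ : N → ℂ) ≠ 0 →
      ∀ (g : G) (n : N), (χ : G → ℂ) (g * n) = (θ : N → ℂ) n * (χ : G → ℂ) g := by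
    intro χ θ hθ g n
    have hθ1 : (θ : N → ℂ) 1 = 1 := IsIrrCharacter.apply_one_of_comm hNc θ.2
    have hres := restrict_eq_smul_of_invariant N χ.2 θ.2 (fun a => funext fun m => by
      show (θ : N → ℂ) _ = (θ : N → ℂ) m
      refine congrArg (θ : N → ℂ) (Subtype.ext ?_)
      show a * (m : G) * a⁻¹ = m
      rw [Subgroup.mem_center_iff.1 (hN m.2) a, mul_inv_cancel_right]) hθ
    obtain ⟨d, σ, hσ, hσχ⟩ := χ.2
    haveI := hσ
    obtain ⟨c, hc⟩ := exists_smul_of_commute σ (σ (n : G)) fun a => by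
      rw [← map_mul, ← map_mul, Subgroup.mem_center_iff.1 (hN n.2) a]
    have hmul : ∀ a : G, (χ : G → ℂ) (a * n) = c * (χ : G → ℂ) a := by
      intro a
      rw [← hσχ]
      show LinearMap.trace ℂ _ (σ (a * n)) = c * LinearMap.trace ℂ _ (σ a)
      rw [map_mul, hc, ← Module.End.one_eq_id, mul_smul_comm, mul_one, map_smul, smul_eq_mul]
    have h1 := hmul 1
    rw [one_mul] at h1
    have h2 := congrFun hres n
    have h3 := congrFun hres 1
    simp only [OneMemClass.coe_one, Pi.smul_apply, smul_eq_mul, hθ1, mul_one] at h2 h3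
    rw [← h3, h1] at h2
    rw [hmul g, mul_right_cancel₀ (IsIrrCharacter.apply_one_ne_zero χ.2) (h2.trans (mul_comm _ _))]
  have key : ∀ (χ : IrrCharacter G) (g : G),
      ∑ n : N, (starRingEnd ℂ) ((ψ : N → ℂ) n) *
        ((χ : G → ℂ) (g * n) * (starRingEnd ℂ) ((χ : G → ℂ) g))
        = if classInner (fun n : N => (χ : G → ℂ) n) (ψ : N → ℂ) ≠ 0 then
          (Nat.card N : ℂ) * ((χ : G → ℂ) g * (starRingEnd ℂ) ((χ : G → ℂ) g)) else 0 := by
    intro χ g
    have hcalc : ∀ θ : IrrCharacter N, classInner (fun n : N => (χ : G → ℂ) n) (θ : N → ℂ) ≠ 0 →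
        ∑ n : N, (starRingEnd ℂ) ((ψ : N → ℂ) n) *
          ((χ : G → ℂ) (g * n) * (starRingEnd ℂ) ((χ : G → ℂ) g))
          = ((Nat.card N : ℂ) * classInner (θ : N → ℂ) (ψ : N → ℂ)) *
            ((χ : G → ℂ) g * (starRingEnd ℂ) ((χ : G → ℂ) g)) := by
      intro θ hθ
      rw [classInner, ← mul_assoc (Nat.card N : ℂ), mul_inv_cancel₀ natCard_ne_zero_complex, one_mul,
        Finset.sum_mul]
      refine Finset.sum_congr rfl fun n _ => ?_
      rw [hmulN χ θ hθ g n]
      ring
    split_ifs with hψχ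
    · rw [hcalc ψ hψχ, IsIrrCharacter.classInner_self ψ.2, mul_one]
    · obtain ⟨θ, hθ⟩ := IsCharacter.exists_constituent (IsCharacter.restrict (irr_isCharacter χ) N)
        (fun h => IsIrrCharacter.apply_one_ne_zero χ.2 (congrFun h 1))
      rw [hcalc θ hθ, IsIrrCharacter.classInner_ne θ.2 ψ.2 (fun e => hψχ ?_), mul_zero, zero_mul]
      rw [← e]
      exact hθ
  let sp : G → Prop := fun g => ∀ x : G, x⁻¹ * g⁻¹ * x * g ∈ N → x * g = g * x
  -- conjugates in the coset
  have hcol : ∀ g : G, ∑ n : N, (starRingEnd ℂ) ((ψ : N → ℂ) n) *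
      (if IsConj (g * n) g then (Nat.card (Subgroup.centralizer ({g * (n : G)} : Set G)) : ℂ) else 0)
      = if sp g then (Nat.card (Subgroup.centralizer ({g} : Set G)) : ℂ) else 0 := by
    intro g
    have hcent : ∀ n : N, Nat.card (Subgroup.centralizer ({g * (n : G)} : Set G))
        = Nat.card (Subgroup.centralizer ({g} : Set G)) := fun n => by
      congr 1
      have : Subgroup.centralizer ({g * (n : G)} : Set G) = Subgroup.centralizer ({g} : Set G) := by
        ext x
        rw [Subgroup.mem_centralizer_singleton_iff, Subgroup.mem_centralizer_singleton_iff,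
          ← mul_assoc, mul_assoc g (n : G) x, ← Subgroup.mem_center_iff.1 (hN n.2) x, ← mul_assoc]
        exact mul_left_inj _
      rw [this]
    let D : Subgroup N :=
      { carrier := {n | IsConj (g * n) g}
        one_mem' := by
          show IsConj (g * ((1 : N) : G)) g
          rw [OneMemClass.coe_one, mul_one]
        mul_mem' := fun {a b} ha hb => by
          obtain ⟨c, hc⟩ := isConj_iff.1 ha
          obtain ⟨d, hd⟩ := isConj_iff.1 hb
          refine isConj_iff.2 ⟨c * d, ?_⟩
          have hz : d * (a : G) * d⁻¹ = a := by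
            rw [Subgroup.mem_center_iff.1 (hN a.2) d, mul_inv_cancel_right]
          calc c * d * (g * ((a * b : N) : G)) * (c * d)⁻¹
              = c * ((d * (g * (b : G)) * d⁻¹) * (d * (a : G) * d⁻¹)) * c⁻¹ := by
                rw [Subgroup.coe_mul, ← Subgroup.mem_center_iff.1 (hN a.2) (b : G)]
                group
            _ = c * (g * (a : G)) * c⁻¹ := by rw [hd, hz]
            _ = g := hc
        inv_mem' := fun {a} ha => by
          obtain ⟨c, hc⟩ := isConj_iff.1 ha
          refine isConj_iff.2 ⟨c⁻¹, ?_⟩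
          have hz : c⁻¹ * (a : G)⁻¹ * c = (a : G)⁻¹ := by
            rw [Subgroup.mem_center_iff.1 (inv_mem (hN a.2)) c⁻¹, inv_mul_cancel_right]
          calc c⁻¹ * (g * ((a⁻¹ : N) : G)) * c⁻¹⁻¹ = (c⁻¹ * g * c) * (c⁻¹ * (a : G)⁻¹ * c) := by
                rw [Subgroup.coe_inv]; group
            _ = (c⁻¹ * (c * (g * (a : G)) * c⁻¹) * c) * (a : G)⁻¹ := by rw [hz, hc]
            _ = g := by group }
    have hmem : ∀ n : N, n ∈ D ↔ IsConj (g * n) g := fun n => Iff.rfl
    have hDbot : sp g ↔ D = ⊥ := by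
      constructor
      · intro h
        rw [Subgroup.eq_bot_iff_forall]
        intro n hn
        obtain ⟨c, hc⟩ := isConj_iff.1 hn
        have h' : c⁻¹ * g⁻¹ * c * g ∈ N := by
          have e : g * (n : G) = c⁻¹ * g * c := by
            conv_rhs => rw [← hc]
            group
          have e2 : c⁻¹ * g⁻¹ * c * g = (g * (n : G))⁻¹ * g := by rw [e]; group
          rw [e2, mul_inv_rev, mul_assoc, inv_mul_cancel, mul_one]
          exact N.inv_mem n.2
        have hcg := h c h'
        apply Subtype.ext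
        have e3 : c * (g * (n : G)) * c⁻¹ = g * (n : G) := by
          have hz : c * (n : G) = (n : G) * c := Subgroup.mem_center_iff.1 (hN n.2) c
          calc c * (g * (n : G)) * c⁻¹ = (c * g) * (n : G) * c⁻¹ := by group
            _ = g * (c * (n : G)) * c⁻¹ := by rw [hcg]; group
            _ = g * ((n : G) * c) * c⁻¹ := by rw [hz]
            _ = _ := by group
        rw [e3] at hc
        exact mul_eq_left.1 hc
      · intro h x hx
        set n : N := ⟨_, hx⟩
        have hnD : n⁻¹ ∈ D := by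
          refine (hmem _).2 (isConj_iff.2 ⟨x, ?_⟩)
          show x * (g * (x⁻¹ * g⁻¹ * x * g)⁻¹) * x⁻¹ = g
          group
        rw [h, Subgroup.mem_bot, inv_eq_one] at hnD
        have hn : x⁻¹ * g⁻¹ * x * g = 1 := congrArg Subtype.val hnD
        calc x * g = g * x * (x⁻¹ * g⁻¹ * x * g) := by group
          _ = g * x := by rw [hn, mul_one]
    simp only [hcent, mul_ite, mul_zero, ← hmem]
    rw [← Finset.sum_filter, ← Finset.sum_mul]
    split_ifs with hsp
    · rw [Finset.sum_eq_single (1 : N) (fun n hn hne => absurd (by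
        have := (Finset.mem_filter.1 hn).2
        rwa [hDbot.1 hsp, Subgroup.mem_bot] at this) hne)
        (fun h => absurd (Finset.mem_filter.2 ⟨Finset.mem_univ _, D.one_mem⟩) h), hψ1, map_one, one_mul]
    · obtain ⟨d, hd, hd1⟩ := D.bot_or_exists_ne_one.resolve_left fun h => hsp (hDbot.2 h)
      have hld : (lam d : ℂ) ≠ 1 := fun h => hd1 (hfaith d (by rw [hψ1, hlam]; exact h))
      have hsum : ∑ n ∈ Finset.univ.filter (fun n : N => n ∈ D), (starRingEnd ℂ) ((ψ : N → ℂ) n) = 0 := by
        set T := ∑ n ∈ Finset.univ.filter (fun n : N => n ∈ D), (starRingEnd ℂ) ((ψ : N → ℂ) n)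
        have he : (starRingEnd ℂ) (lam d : ℂ) * T = T := by
          rw [Finset.mul_sum]
          refine Finset.sum_equiv (Equiv.mulLeft d) (fun n => ?_) fun n _ => ?_
          · simp [D.mul_mem_cancel_left hd]
          · rw [hlam]
            simp
        by_contra hne
        exact hld ((starRingEnd ℂ).injective
          ((mul_right_cancel₀ hne (he.trans (one_mul T).symm)).trans (map_one _).symm))
      rw [hsum, zero_mul]
  have hcount : ((Nat.card {χ : IrrCharacter G // classInner (fun n : N => (χ : G → ℂ) n) (ψ : N → ℂ) ≠ 0} : ℕ) : ℂ)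
      * ((Nat.card N : ℂ) * (Nat.card G : ℂ))
      = ∑ g : G, if sp g then (Nat.card (Subgroup.centralizer ({g} : Set G)) : ℂ) else 0 := by
    have e : ∀ (g : G) (n : N),
        (if IsConj (g * n) g then (Nat.card (Subgroup.centralizer ({g * (n : G)} : Set G)) : ℂ) else 0)
          = ∑ χ : IrrCharacter G, (χ : G → ℂ) (g * n) * (starRingEnd ℂ) ((χ : G → ℂ) g) := fun g n => by
      rw [sum_irr_mul_conj (g * (n : G)) g]
      congr
    simp only [← hcol, e, Finset.mul_sum]
    rw [Finset.sum_congr rfl (s₁ := (Finset.univ : Finset G)) fun g _ => Finset.sum_comm, Finset.sum_comm]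
    simp only [key]
    rw [Nat.card_eq_fintype_card (α := Subtype _), Fintype.card_subtype, ← Finset.sum_boole,
      Finset.sum_mul]
    refine Finset.sum_congr rfl fun χ _ => ?_
    split_ifs with h
    · rw [one_mul, ← Finset.mul_sum]
      congr 1
      have h1 := IsIrrCharacter.classInner_self χ.2
      rw [classInner, inv_mul_eq_iff_eq_mul₀ natCard_ne_zero_complex, mul_one] at h1
      exact h1.symm
    · simp
  have hsp_conj : ∀ g h : G, sp g → sp (h * g * h⁻¹) := by
    intro g h hg x hx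
    have hx' : (h⁻¹ * x * h)⁻¹ * g⁻¹ * (h⁻¹ * x * h) * g ∈ N := by
      have := Subgroup.Normal.conj_mem (inferInstance : N.Normal) _ hx h⁻¹
      convert this using 1
      group
    have := congrArg (fun t => h * t * h⁻¹) (hg _ hx')
    simpa [mul_assoc] using this
  have hsp_mul : ∀ (g : G) (n : N), sp g → sp (g * n) := by
    intro g n hg x hx
    have hz : (n : G) * x = x * (n : G) := (Subgroup.mem_center_iff.1 (hN n.2) x).symm
    have e : x⁻¹ * (g * n)⁻¹ * x * (g * n) = x⁻¹ * g⁻¹ * x * g := by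
      have hz' : ∀ a : G, (n : G)⁻¹ * a = a * (n : G)⁻¹ := fun a =>
        (Subgroup.mem_center_iff.1 (inv_mem (hN n.2)) a).symm
      rw [mul_inv_rev, hz' g⁻¹]
      calc x⁻¹ * (g⁻¹ * (n : G)⁻¹) * x * (g * n) = x⁻¹ * g⁻¹ * ((n : G)⁻¹ * (x * g)) * n := by group
        _ = x⁻¹ * g⁻¹ * ((x * g) * (n : G)⁻¹) * n := by rw [hz']
        _ = _ := by group
    rw [e] at hx
    rw [← mul_assoc, hg x hx, mul_assoc, ← hz, ← mul_assoc]
  let sq : G ⧸ N → Prop := fun q => ∀ g : G, (g : G ⧸ N) = q → sp g
  have hsq : ∀ g : G, sq (g : G ⧸ N) ↔ sp g := fun g => ⟨fun h => h g rfl, fun h a ha => by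
    have : g⁻¹ * a ∈ N := QuotientGroup.eq.1 ha.symm
    have := hsp_mul g ⟨_, this⟩ h
    simpa using this⟩
  have hinv : ∀ a b : G ⧸ N, IsConj a b → (sq a ↔ sq b) := by
    intro a b hab
    obtain ⟨c, rfl⟩ := isConj_iff.1 hab
    obtain ⟨g, rfl⟩ := QuotientGroup.mk_surjective a
    obtain ⟨h, rfl⟩ := QuotientGroup.mk_surjective c
    rw [← QuotientGroup.mk_inv, ← QuotientGroup.mk_mul, ← QuotientGroup.mk_mul, hsq, hsq]
    refine ⟨hsp_conj g h, fun hh => ?_⟩
    have := hsp_conj _ h⁻¹ hh
    simpa [mul_assoc] using this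
  have hquot : ∑ g : G, (if sp g then (Nat.card (Subgroup.centralizer ({g} : Set G)) : ℂ) else 0)
      = (Nat.card N : ℂ) * (Nat.card N : ℂ) * ∑ q : G ⧸ N,
          (if sq q then (Nat.card (Subgroup.centralizer ({q} : Set (G ⧸ N))) : ℂ) else 0) := by
    rw [Finset.mul_sum, ← Finset.sum_fiberwise (Finset.univ : Finset G) (fun g : G => (g : G ⧸ N))]
    refine Finset.sum_congr rfl fun q _ => ?_
    obtain ⟨g₀, rfl⟩ := QuotientGroup.mk_surjective q
    rw [Finset.sum_congr rfl (g := fun _ => (Nat.card N : ℂ) *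
      (if sq (g₀ : G ⧸ N) then (Nat.card (Subgroup.centralizer ({(g₀ : G ⧸ N)} : Set (G ⧸ N))) : ℂ) else 0))
      fun g hg => ?_, Finset.sum_const, nsmul_eq_mul, ← mul_assoc]
    · congr 2
      rw [Nat.card_eq_fintype_card]
      norm_cast
      rw [← Finset.card_univ]
      refine Finset.card_bij (fun g hg => ⟨g₀⁻¹ * g, QuotientGroup.eq.1 (Finset.mem_filter.1 hg).2.symm⟩)
        (fun _ _ => Finset.mem_univ _) (fun a _ b _ h => mul_left_cancel (congrArg Subtype.val h))
        (fun n _ => ⟨g₀ * n, Finset.mem_filter.2 ⟨Finset.mem_univ _, QuotientGroup.mk_mul_of_mem g₀ n.2⟩,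
          Subtype.ext (inv_mul_cancel_left _ _)⟩)
    · have hgq := (Finset.mem_filter.1 hg).2
      rw [← hgq]
      by_cases hg' : sp g
      · rw [if_pos hg', if_pos ((hsq g).2 hg'), ← Nat.cast_mul]
        congr 1
        have hmap : Subgroup.centralizer ({g} : Set G)
            = (Subgroup.centralizer ({(g : G ⧸ N)} : Set (G ⧸ N))).comap (QuotientGroup.mk' N) := by
          ext x
          rw [Subgroup.mem_comap, Subgroup.mem_centralizer_singleton_iff,
            Subgroup.mem_centralizer_singleton_iff]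
          refine ⟨fun h => congrArg (QuotientGroup.mk' N) h |> fun e => by simpa using e, fun h => hg' x ?_⟩
          rw [← QuotientGroup.eq_one_iff]
          simp only [QuotientGroup.mk_mul, QuotientGroup.mk_inv]
          rw [mul_assoc, show (x : G ⧸ N) * (g : G ⧸ N) = (g : G ⧸ N) * (x : G ⧸ N) from h]
          group
        rw [hmap]
        set Cq := Subgroup.centralizer ({(g : G ⧸ N)} : Set (G ⧸ N))
        have h5 := (Cq.comap (QuotientGroup.mk' N)).card_mul_index
        rw [Subgroup.index_comap_of_surjective _ (QuotientGroup.mk'_surjective N),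
          Subgroup.card_eq_card_quotient_mul_card_subgroup N, ← Cq.card_mul_index] at h5
        refine Nat.eq_of_mul_eq_mul_right (Nat.pos_of_ne_zero Subgroup.index_ne_zero_of_finite) (h5.trans ?_)
        ring
      · rw [if_neg hg', if_neg fun h => hg' ((hsq g).1 h), mul_zero]
  rw [hquot, sum_card_centralizer_eq sq hinv] at hcount
  have hG' : (Nat.card G : ℂ) = (Nat.card (G ⧸ N) : ℂ) * (Nat.card N : ℂ) := by
    exact_mod_cast Subgroup.card_eq_card_quotient_mul_card_subgroup N
  rw [hG'] at hcount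
  have hN0 : (Nat.card N : ℂ) ≠ 0 := natCard_ne_zero_complex
  have hq0 : (Nat.card (G ⧸ N) : ℂ) ≠ 0 := natCard_ne_zero_complex
  refine Eq.trans (b := Nat.card {C : ConjClasses (G ⧸ N) // ∀ q, ConjClasses.mk q = C → sq q}) ?_ ?_
  · refine Nat.cast_injective (R := ℂ) (mul_right_cancel₀ (mul_ne_zero hN0 (mul_ne_zero hq0 hN0)) ?_)
    rw [hcount]
    ring
  refine Nat.card_congr (Equiv.subtypeEquivRight fun C => ⟨fun h => ?_, ?_⟩)
  · obtain ⟨q, rfl⟩ := ConjClasses.exists_rep C
    obtain ⟨g, rfl⟩ := QuotientGroup.mk_surjective q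
    exact ⟨g, rfl, (hsq g).1 (h _ rfl)⟩
  · rintro ⟨g, hgC, hg⟩ q hq
    exact (hinv _ _ (ConjClasses.mk_eq_mk_iff_isConj.1 (hgC.trans hq.symm))).1 ((hsq g).2 hg)

end Cfsg.Agent.S4567
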