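import Cfsg.Statements.S4571
import Cfsg.Agent.Lib.Blocks.CentralQuotientBlock
import Cfsg.Agent.Lib.BlockHeights.RankUnion
import Cfsg.Agent.Lib.Characters.Brauer
-- import your own Cfsg.Agent.* helpers here

set_option autoImplicit false
open Cfsg

namespace Cfsg.Agent.S4571

open Cfsg.Agent.Lib.Blocks Cfsg.Agent.Lib.Characters Cfsg.Agent.Lib.BlockHeights Cfsg.Agent.Lib.BrauerPairs

/-- Let Q be a normal p-subgroup of the finite group G with G = Q·C_G(Q), and M a maximal ideal of the algebraic integers containing p. Then the principal p-blocks of G and of G/Q have the same p-regular rank (the same number of irreducible Brauer characters). -/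
theorem result {G : Type*} [Group G] [Finite G] (p : ℕ) [Fact p.Prime] (M : Ideal Cfsg.AlgInt) (hM : Cfsg.IsPModular p M) (Q : Subgroup G) [Q.Normal] (hQ : IsPGroup p Q) (hsup : Q ⊔ Subgroup.centralizer (Q : Set G) = ⊤) : Cfsg.blockRank p (Cfsg.principalBlock M G) = Cfsg.blockRank p (Cfsg.principalBlock M (G ⧸ Q)) := by
  classical
  haveI := Fintype.ofFinite G
  haveI := Fintype.ofFinite (G ⧸ Q)
  haveI := Fintype.ofFinite (IrrCharacter G)
  haveI := Fintype.ofFinite (IrrCharacter (G ⧸ Q))
  haveI := Cfsg.Agent.Lib.Blocks.isPrime_of_isPModular hM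
  have hp : p.Prime := hM.1
  have hnC : (Subgroup.centralizer (Q : Set G)).Normal := inferInstance
  -- regular elements centralize `Q`
  have hC : ∀ x : G, ¬ p ∣ orderOf x → x ∈ Subgroup.centralizer (Q : Set G) := by
    intro x hx
    obtain ⟨q, hq, c, hc, hqc⟩ := Subgroup.mem_sup_of_normal_left.1 (hsup.ge (Subgroup.mem_top x))
    set f := QuotientGroup.mk' (Subgroup.centralizer (Q : Set G))
    have hfx : f x = f q := by
      rw [← hqc, map_mul, show f c = 1 from (QuotientGroup.eq_one_iff c).2 hc, mul_one]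
    obtain ⟨k, hk⟩ := IsPGroup.iff_orderOf.1 hQ ⟨q, hq⟩
    rw [Subgroup.orderOf_mk] at hk
    obtain ⟨j, -, hj⟩ := (Nat.dvd_prime_pow hp).1 (hk ▸ hfx ▸ orderOf_map_dvd f q : orderOf (f x) ∣ p ^ k)
    have hj0 : j = 0 := by
      by_contra hj0
      exact hx ((dvd_pow_self p hj0).trans (hj ▸ orderOf_map_dvd f x))
    rw [hj0, pow_zero, orderOf_eq_one_iff] at hj
    exact (QuotientGroup.eq_one_iff x).1 hj
  set B := Cfsg.principalBlock M G with hBdef
  set Bb := Cfsg.principalBlock M (G ⧸ Q) with hBbdef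
  have hB : IsPBlock M B := isPBlock_blockOf (M := M) (trivIrr G)
  have htriv : inflIrr Q (trivIrr (G ⧸ Q)) = trivIrr G := Subtype.ext (funext fun _ => rfl)
  have hBb : IsPBlock M Bb := isPBlock_blockOf (M := M) (trivIrr (G ⧸ Q))
  have hmem : ∀ η : IrrCharacter (G ⧸ Q), inflIrr Q η ∈ B ↔ η ∈ Bb := by
    intro η
    rw [IsPBlock.mem_iff hB (trivIrr_mem_principalBlock (M := M)), IsPBlock.mem_iff hBb (trivIrr_mem_principalBlock (M := M)),
      sameBlock_comp_mk_iff Q hM hQ hC]
    rfl
  -- each regular coset has exactly one regular member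
  have hlift : ∀ c : G ⧸ Q, IsPRegular p c → ∃ y : G, IsPRegular p y ∧ QuotientGroup.mk' Q y = c := by
    intro c hc
    obtain ⟨g, rfl⟩ := QuotientGroup.mk'_surjective Q c
    obtain ⟨a, y, rfl, -, ⟨k, hk⟩, hy, ha, -⟩ := exists_pPart_decomp hp g
    refine ⟨y, fun hd => hp.ne_one (Nat.eq_one_of_dvd_coprimes hy hd dvd_rfl), ?_⟩
    suffices h : QuotientGroup.mk' Q a = 1 by rw [map_mul, h, one_mul]
    have h1 : orderOf (QuotientGroup.mk' Q a) ∣ p ^ k := hk ▸ orderOf_map_dvd _ a
    obtain ⟨i, hi⟩ := Subgroup.mem_zpowers_iff.1 ha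
    have h2 : orderOf (QuotientGroup.mk' Q a) ∣ orderOf (QuotientGroup.mk' Q (a * y)) := by
      refine orderOf_dvd_of_pow_eq_one ?_
      have e : QuotientGroup.mk' Q a = QuotientGroup.mk' Q (a * y) ^ i := by rw [← map_zpow, hi]
      rw [e, ← zpow_natCast, ← zpow_mul, mul_comm, zpow_mul, zpow_natCast, pow_orderOf_eq_one, one_zpow]
    exact orderOf_eq_one_iff.1 (Nat.eq_one_of_dvd_coprimes
      (Nat.Coprime.pow_left k (hp.coprime_iff_not_dvd.2 hc)) h1 h2)
  have huniq : ∀ x y : G, IsPRegular p x → IsPRegular p y → QuotientGroup.mk' Q x = QuotientGroup.mk' Q y →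
      x = y := fun x y hx hy he => eq_of_regular_of_commute Q hp hQ hy (hC y hy) hx he
  let L : (G ⧸ Q → ℂ) →ₗ[ℂ] (G → ℂ) :=
    { toFun := fun w x => regInd p x * w (QuotientGroup.mk' Q x)
      map_add' := fun v w => funext fun x => by simp [mul_add]
      map_smul' := fun c v => funext fun x => by simp [mul_left_comm] }
  have hL : ∀ η : IrrCharacter (G ⧸ Q), L (pRegularPart p (η : G ⧸ Q → ℂ)) =
      pRegularPart p (inflIrr Q η : G → ℂ) := fun η => (pRegularPart_inflIrr hp Q η).symm
  set Sb := Submodule.span ℂ ((fun η : IrrCharacter (G ⧸ Q) => pRegularPart p (η : G ⧸ Q → ℂ)) '' Bb) with hSb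
  have hspan : Submodule.span ℂ ((fun χ : IrrCharacter G => pRegularPart p (χ : G → ℂ)) '' B) = Sb.map L := by
    refine le_antisymm (Submodule.span_le.2 ?_) ?_
    · rintro _ ⟨χ, hχ, rfl⟩
      let w : G ⧸ Q → ℂ := fun c => if h : IsPRegular p c then (χ : G → ℂ) (hlift c h).choose else 0
      have hw : ∀ y : G, IsPRegular p y → w (QuotientGroup.mk' Q y) = (χ : G → ℂ) y := fun y hy => by
        have hc : IsPRegular p (QuotientGroup.mk' Q y) := fun hd => hy (hd.trans (orderOf_map_dvd _ y))
        simp only [w, dif_pos hc]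
        rw [huniq _ y (hlift _ hc).choose_spec.1 hy (hlift _ hc).choose_spec.2]
      have hwc : IsClassFunction (G ⧸ Q) w := by
        intro c d
        obtain ⟨g, rfl⟩ := QuotientGroup.mk'_surjective Q d
        by_cases hc : IsPRegular p c
        · obtain ⟨y, hy, rfl⟩ := hlift c hc
          rw [← map_inv, ← map_mul, ← map_mul, hw y hy, hw _ (fun hd => hy (by
            rwa [← MulAut.conj_apply, MulEquiv.orderOf_eq] at hd)), irr_isClassFunction χ]
        · have hc' : ¬ IsPRegular p (QuotientGroup.mk' Q g * c * (QuotientGroup.mk' Q g)⁻¹) := fun h => hc (by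
            intro hd; apply h; rwa [← MulAut.conj_apply, MulEquiv.orderOf_eq])
          simp only [w, dif_neg hc, dif_neg hc']
      have hexp : pRegularPart p (χ : G → ℂ) =
          ∑ η : IrrCharacter (G ⧸ Q), classInner w (η : G ⧸ Q → ℂ) • pRegularPart p (inflIrr Q η : G → ℂ) := by
        funext x
        simp only [pRegularPart_eq, Finset.sum_apply, Pi.smul_apply, smul_eq_mul]
        by_cases hx : IsPRegular p x
        · simp only [regInd_of_regular hx, one_mul]
          rw [← hw x hx, congrFun (eq_sum_classInner hwc) (QuotientGroup.mk' Q x)]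
          simp only [Finset.sum_apply, Pi.smul_apply, smul_eq_mul]
          rfl
        · simp [regInd_of_singular hx]
      set S := Finset.univ.filter (fun η : IrrCharacter (G ⧸ Q) => η ∈ Bb) with hS
      have hin : pRegularPart p (χ : G → ℂ) -
          ∑ η ∈ S, classInner w (η : G ⧸ Q → ℂ) • pRegularPart p (inflIrr Q η : G → ℂ) ∈
          Submodule.span ℂ ((fun ψ : IrrCharacter G => pRegularPart p (ψ : G → ℂ)) '' B) :=
        Submodule.sub_mem _ (Submodule.subset_span ⟨χ, hχ, rfl⟩) (Submodule.sum_mem _ fun η hη =>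
          Submodule.smul_mem _ _ (Submodule.subset_span ⟨_, (hmem η).2 (Finset.mem_filter.1 hη).2, rfl⟩))
      have heq : pRegularPart p (χ : G → ℂ) -
          ∑ η ∈ S, classInner w (η : G ⧸ Q → ℂ) • pRegularPart p (inflIrr Q η : G → ℂ) =
          ∑ η ∈ Sᶜ, classInner w (η : G ⧸ Q → ℂ) • pRegularPart p (inflIrr Q η : G → ℂ) := by
        rw [hexp, ← Finset.sum_add_sum_compl S, add_sub_cancel_left]
      have hout : ∑ η ∈ Sᶜ, classInner w (η : G ⧸ Q → ℂ) • pRegularPart p (inflIrr Q η : G → ℂ) ∈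
          Submodule.span ℂ ((fun ψ : IrrCharacter G => pRegularPart p (ψ : G → ℂ)) '' {ψ | ψ ∉ B}) :=
        Submodule.sum_mem _ fun η hη => Submodule.smul_mem _ _
          (Submodule.subset_span ⟨_, fun h => by simp [hS, (hmem η).1 h] at hη, rfl⟩)
      have h0 := sub_eq_zero.1 (Submodule.disjoint_def.1 (disjoint_span_of_notMem (p := p) hM hB
        (S := {ψ | ψ ∉ B}) fun ψ hψ => hψ) _ hin (heq ▸ hout))
      refine ⟨∑ η ∈ S, classInner w (η : G ⧸ Q → ℂ) • pRegularPart p (η : G ⧸ Q → ℂ),
        Submodule.sum_mem _ fun η hη => Submodule.smul_mem _ _ (Submodule.subset_span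
          ⟨η, (Finset.mem_filter.1 hη).2, rfl⟩), ?_⟩
      rw [map_sum]
      simp only [map_smul, hL]
      exact h0.symm
    · rw [hSb, Submodule.map_span, Submodule.span_le]
      rintro _ ⟨_, ⟨η, hη, rfl⟩, rfl⟩
      exact Submodule.subset_span ⟨inflIrr Q η, (hmem η).2 hη, (hL η).symm⟩
  have hsupp : ∀ w ∈ Sb, ∀ c, ¬ IsPRegular p c → w c = 0 := by
    intro w hw c hc
    induction hw using Submodule.span_induction with
    | mem w hw => obtain ⟨η, -, rfl⟩ := hw; simp [pRegularPart, if_neg hc]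
    | zero => rfl
    | add v w _ _ h1 h2 => simp [h1, h2]
    | smul a v _ h => simp [h]
  have hinj : Function.Injective (L.domRestrict Sb) := by
    refine (injective_iff_map_eq_zero _).2 fun w hw => Subtype.ext (funext fun c => ?_)
    by_cases hc : IsPRegular p c
    · obtain ⟨y, hy, rfl⟩ := hlift c hc
      have := congrFun hw y
      simpa [L, regInd_of_regular hy] using this
    · exact hsupp w.1 w.2 c hc
  rw [blockRank, blockRank, hspan, ← LinearMap.range_domRestrict, LinearMap.finrank_range_of_inj hinj]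

end Cfsg.Agent.S4571
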