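import Cfsg.Statements.S4573
import Cfsg.Agent.Lib.Characters.WreathMonomial
import Cfsg.Agent.Lib.Coprime.SchurZassenhaus
-- import your own Cfsg.Agent.* helpers here

set_option autoImplicit false
universe u
open Cfsg Cfsg.Agent.Lib.Characters

namespace Cfsg.Agent.S4573

/-- Every finite solvable group is isomorphic to a subgroup of a finite M-group, a group each of whose irreducible characters is induced from a homomorphism of some subgroup into ℂˣ. -/
theorem result {G : Type u} [Group G] [Finite G] (hsolv : Group.IsSolvable G) : ∃ (M : Type u) (_ : Group M) (_ : Fintype M), (∀ χ : M → ℂ, Cfsg.IsIrrCharacter M χ → (∃ (H : Subgroup M) (lam : ↥H →* ℂˣ), χ = Cfsg.indFun H (fun h => (lam h : ℂ)))) ∧ ∃ f : G →* M, Function.Injective f := by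
  classical
  suffices key : ∀ (n : ℕ) (K : Type u) [Group K] [Finite K], Group.IsSolvable K → Nat.card K = n →
      ∃ (M : Type u) (_ : Group M) (_ : Fintype M), IsMonomialGrp M ∧
        ∃ f : K →* M, Function.Injective f from key _ G hsolv rfl
  intro n
  induction n using Nat.strong_induction_on with
  | _ n IH =>
  intro K _ _ hK hn
  haveI := hK
  haveI := Fintype.ofFinite K
  rcases subsingleton_or_nontrivial K with hs | hs
  · exact ⟨K, inferInstance, inferInstance, isMonomialGrp_of_subsingleton K,
      MonoidHom.id K, fun a b h => h⟩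
  obtain ⟨N, hN, hidx⟩ := Cfsg.Agent.Lib.Coprime.exists_normal_prime_index (H := K)
  haveI := hN
  haveI := Fintype.ofFinite N
  have hlt : Nat.card N < n := by
    rw [← hn, ← N.card_mul_index]
    exact lt_mul_of_one_lt_right Nat.card_pos hidx.one_lt
  obtain ⟨M, _, _, hM, f, hf⟩ := IH _ hlt N inferInstance rfl
  obtain ⟨g, hg⟩ := exists_wreath_embedding N
  haveI := Fintype.ofFinite (K ⧸ N)
  haveI := Fintype.ofFinite (M ≀ᵣ (K ⧸ N))
  exact ⟨M ≀ᵣ (K ⧸ N), inferInstance, inferInstance, IsMonomialGrp.wreath hM hidx,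
    (wrMap f).comp g, (wrMap_injective hf).comp hg⟩

end Cfsg.Agent.S4573
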