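import Cfsg.Statements.S4574
import Cfsg.Agent.Lib.BlockHeights.GaloisZero
import Mathlib.Tactic.Linarith

set_option autoImplicit false
open Cfsg

namespace Cfsg.Agent.S4574

/-- Let χ be an irreducible character of the finite group G, of degree d, and let Z(χ) be the set of elements g with |χ g| = d (the centre of χ). Then χ vanishes on at least (d ^ 2 - 1) · |Z(χ)| elements of G, with equality when every value |χ g| is 0, 1 or d. -/
theorem result {G : Type*} [Group G] [Fintype G] [DecidableEq G] (χ : G → ℂ) (hχ : Cfsg.IsIrrCharacter G χ) : (Cfsg.charDegree χ ^ 2 - 1) * (Finset.univ.filter (fun g : G => ‖χ g‖ = (Cfsg.charDegree χ : ℝ))).card ≤ (Finset.univ.filter (fun g : G => χ g = 0)).card ∧ ((∀ g : G, ‖χ g‖ = 0 ∨ ‖χ g‖ = 1 ∨ ‖χ g‖ = (Cfsg.charDegree χ : ℝ)) → (Cfsg.charDegree χ ^ 2 - 1) * (Finset.univ.filter (fun g : G => ‖χ g‖ = (Cfsg.charDegree χ : ℝ))).card = (Finset.univ.filter (fun g : G => χ g = 0)).card) := by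
  classical
  obtain ⟨n, hn⟩ := Lib.Characters.IsCharacter.exists_apply_one
    (Lib.Characters.IsIrrCharacter.isCharacter hχ)
  have hch := Lib.Characters.IsIrrCharacter.isCharacter hχ
  rw [Lib.BlockHeights.charDegree_of_apply_one hn]
  have hn0 : n ≠ 0 := fun h => Lib.Characters.IsIrrCharacter.apply_one_ne_zero hχ (by simp [hn, h])
  set Z := Finset.univ.filter fun g : G => ‖χ g‖ = (n : ℝ) with hZ
  set O := Finset.univ.filter fun g : G => χ g = 0 with hO
  set S := Finset.univ.filter fun g : G => ¬ ‖χ g‖ = (n : ℝ) ∧ ¬ χ g = 0 with hS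
  have hsc : ∀ (g : G) (k : ℕ), ‖χ g‖ = (n : ℝ) → ‖χ (g ^ k)‖ = (n : ℝ) := by
    intro g k hg
    obtain ⟨m, ρ, hρ, rfl⟩ := hχ
    haveI := hρ
    have hm : (Module.finrank ℂ (Fin m → ℂ) : ℂ) = (n : ℂ) := by rw [← ρ.char_one, hn]
    have hm' : Module.finrank ℂ (Fin m → ℂ) = n := by exact_mod_cast hm
    rw [← hm'] at hg ⊢
    obtain ⟨ω, hω⟩ := (Lib.Characters.norm_char_eq_iff ρ g).mp hg
    refine (Lib.Characters.norm_char_eq_iff ρ (g ^ k)).mpr ⟨ω ^ k, ?_⟩
    rw [map_pow, hω, smul_pow]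
    congr 1
    exact one_pow k
  have hpow : Lib.BlockHeights.PowClosed S := by
    intro x hx k hk
    simp only [hS, Finset.mem_filter, Finset.mem_univ, true_and] at hx ⊢
    obtain ⟨m, hm⟩ := Lib.BlockHeights.exists_pow_inverse hk x
    exact ⟨fun h => hx.1 (hm ▸ hsc _ m h),
      fun h => hx.2 ((Lib.BlockHeights.eq_zero_of_pow_coprime hch hk).mp h)⟩
  have h1 := Lib.BlockHeights.card_le_sum_normSq hch S hpow
    (fun x hx => by simp only [hS, Finset.mem_filter] at hx; exact hx.2.2)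
  have htot : ∑ x : G, ‖χ x‖ ^ 2 = (Nat.card G : ℝ) := by
    have h := Lib.Characters.IsIrrCharacter.classInner_self hχ
    unfold classInner at h
    rw [inv_mul_eq_one₀ Lib.Characters.natCard_ne_zero_complex] at h
    have h' := congrArg Complex.re h
    simp only [Complex.mul_conj, Complex.re_sum, Complex.ofReal_re, Complex.natCast_re,
      Complex.normSq_eq_norm_sq] at h'
    exact h'.symm
  have hpart : ∀ f : G → ℝ, ∑ x : G, f x = ∑ x ∈ Z, f x + (∑ x ∈ O, f x + ∑ x ∈ S, f x) := by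
    intro f
    rw [← Finset.sum_filter_add_sum_filter_not Finset.univ (fun g : G => ‖χ g‖ = (n : ℝ)) f,
      ← Finset.sum_filter_add_sum_filter_not
        (Finset.univ.filter fun g : G => ¬ ‖χ g‖ = (n : ℝ)) (fun g => χ g = 0) f]
    simp only [Finset.filter_filter, hZ, hO, hS]
    congr 2
    refine Finset.sum_congr (Finset.filter_congr fun x _ => ?_) fun _ _ => rfl
    refine ⟨fun h => h.2, fun h => ⟨fun h' => ?_, h⟩⟩
    rw [h, norm_zero] at h'
    exact hn0 (by exact_mod_cast h'.symm)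
  have hcard : (Nat.card G : ℝ) = Z.card + (O.card + S.card) := by
    have := hpart fun _ => (1 : ℝ)
    simpa using this
  have hsum : (Nat.card G : ℝ) = (n : ℝ) ^ 2 * Z.card + ∑ x ∈ S, ‖χ x‖ ^ 2 := by
    rw [← htot, hpart]
    have eZ : ∑ x ∈ Z, ‖χ x‖ ^ 2 = (n : ℝ) ^ 2 * Z.card := by
      rw [Finset.sum_congr rfl (fun x hx => by
        rw [show ‖χ x‖ = (n : ℝ) from (Finset.mem_filter.mp hx).2])]
      simp [mul_comm]
    have eO : ∑ x ∈ O, ‖χ x‖ ^ 2 = 0 :=
      Finset.sum_eq_zero fun x hx => by simp [show χ x = 0 from (Finset.mem_filter.mp hx).2]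
    rw [eZ, eO, zero_add]
  have hn2 : (((n ^ 2 - 1 : ℕ)) : ℝ) = (n : ℝ) ^ 2 - 1 := by
    rw [Nat.cast_sub (Nat.one_le_pow _ _ (Nat.pos_of_ne_zero hn0))]; push_cast; rfl
  refine ⟨?_, fun hall => ?_⟩
  · rw [← Nat.cast_le (α := ℝ), Nat.cast_mul, hn2, sub_mul]
    linarith
  · rw [← Nat.cast_inj (R := ℝ), Nat.cast_mul, hn2, sub_mul]
    have : ∑ x ∈ S, ‖χ x‖ ^ 2 = S.card := by
      rw [Finset.sum_congr rfl (g := fun _ => (1 : ℝ)) (fun x hx => ?_)]
      · simp
      · obtain ⟨-, ha, hb⟩ := Finset.mem_filter.mp hx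
        rcases hall x with h | h | h
        · exact absurd (norm_eq_zero.mp h) hb
        · show ‖χ x‖ ^ 2 = (1 : ℝ)
          rw [h, one_pow]
        · exact absurd h ha
    linarith

end Cfsg.Agent.S4574
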