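import Cfsg.Statements.S4580
import Cfsg.Agent.Lib.BlockHeights.RealBlocks
import Cfsg.Agent.Lib.BlockHeights.Extension
-- import your own Cfsg.Agent.* helpers here

set_option autoImplicit false
open Cfsg Cfsg.Agent.Lib.BlockHeights
set_option linter.style.haveILetI false

namespace Cfsg.Agent.S4580

/-- Let N be a normal subgroup of the finite group G, M a maximal ideal of the algebraic integers containing 2, and θ a real-valued irreducible character of N of odd degree that extends to G (some irreducible character of G restricts to θ). Then θ has an extension to G lying in the principal 2-block of G. -/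
theorem result {G : Type*} [Group G] [Finite G] (N : Subgroup G) [N.Normal] (M : Ideal Cfsg.AlgInt) (hM : Cfsg.IsPModular 2 M) (θ : Cfsg.IrrCharacter N) (hreal : ∀ n : N, ((θ : N → ℂ) n).im = 0) (hodd : Odd (Cfsg.charDegree (θ : N → ℂ))) (hext : ∃ η : Cfsg.IrrCharacter G, ∀ n : N, (η : G → ℂ) n = (θ : N → ℂ) n) :
    ∃ η : Cfsg.IrrCharacter G, (∀ n : N, (η : G → ℂ) n = (θ : N → ℂ) n) ∧ η ∈ Cfsg.principalBlock M G := by
  classical
  haveI := Fintype.ofFinite G
  haveI := Cfsg.Agent.Lib.Blocks.isPrime_of_isPModular hM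
  haveI := Fact.mk hM.1
  haveI := Cfsg.Agent.Lib.Blocks.resField_charP (M := M) hM
  obtain ⟨η, hη⟩ := hext
  have hη' : ∀ n : N, (conjIrr η : G → ℂ) n = (θ : N → ℂ) n := fun n => by
    show (starRingEnd ℂ) ((η : G → ℂ) n) = _
    rw [hη, Complex.conj_eq_iff_im.2 (hreal n)]
  obtain ⟨lam, hlamN, hlam⟩ := exists_twist_of_restrict_eq N θ.2 hη hη'
  -- split off the odd part of `lam`
  set s := (Nat.card G).factorization 2 with hs
  set t := Nat.card G / 2 ^ s with ht
  have htodd : Odd t := Nat.not_even_iff_odd.1 fun h =>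
    Nat.not_dvd_ordCompl Nat.prime_two Nat.card_pos.ne' (even_iff_two_dvd.1 h)
  obtain ⟨c, hc⟩ : ∃ c, t + 1 = 2 * c := by
    obtain ⟨j, hj⟩ := htodd; exact ⟨j + 1, by omega⟩
  set μ : G →* ℂˣ := lam ^ c with hμ
  set ε : G →* ℂˣ := lam * (μ * μ)⁻¹ with hε
  have hεpow : ∀ g, ((ε g : ℂˣ) : ℂ) ^ 2 ^ s = 1 := by
    intro g
    have hlamcard : (lam g) ^ (2 ^ s * t) = 1 := by
      rw [Nat.ordProj_mul_ordCompl_eq_self, ← map_pow, pow_card_eq_one', map_one]
    have h1 : ε g = ((lam g) ^ t)⁻¹ := by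
      rw [hε, hμ, MonoidHom.mul_apply, MonoidHom.inv_apply, MonoidHom.mul_apply,
        MonoidHom.pow_apply, ← pow_add, show c + c = t + 1 by omega, pow_succ, mul_inv_rev,
        mul_inv_cancel_left]
    rw [← Units.val_pow_eq_pow_val, h1, inv_pow, ← pow_mul, mul_comm t, hlamcard, inv_one,
      Units.val_one]
  set η₂ := twistIrr η μ with hη₂
  have hμN : ∀ n : N, (η₂ : G → ℂ) n = (θ : N → ℂ) n := fun n => by
    rw [hη₂, twistIrr_apply, hη, hμ, MonoidHom.pow_apply, hlamN n n.2, one_pow, Units.val_one,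
      mul_one]
  have hconj : ∀ g, (conjIrr η₂ : G → ℂ) g = (η₂ : G → ℂ) g * (ε g : ℂ) := by
    intro g
    have e1 : (η : G → ℂ) g * (lam g : ℂ) = (starRingEnd ℂ) ((η : G → ℂ) g) :=
      congrFun (congrArg Subtype.val hlam) g
    show (starRingEnd ℂ) ((η : G → ℂ) g * (μ g : ℂ)) = (η : G → ℂ) g * (μ g : ℂ) * (ε g : ℂ)
    have e2 : (starRingEnd ℂ) (μ g : ℂ) = ((μ g : ℂ))⁻¹ :=
      eq_inv_of_mul_eq_one_left (conj_unitsHom_mul μ g)
    rw [map_mul, ← e1, e2, hε, MonoidHom.mul_apply, MonoidHom.inv_apply, MonoidHom.mul_apply,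
      Units.val_mul, Units.val_inv_eq_inv_val, Units.val_mul]
    have hne : (μ g : ℂ) ≠ 0 := Units.ne_zero _
    field_simp
  have hεone : ∀ g, Cfsg.MemLocalIdeal M ((ε g : ℂ) - 1) := by
    intro g
    let e : Cfsg.Agent.Lib.Blocks.locSubring M := ⟨(ε g : ℂ),
      Cfsg.Agent.Lib.Blocks.memLocalRing_of_isIntegral'
        (Cfsg.Agent.Lib.Characters.isIntegral_of_pow_eq_one (pow_ne_zero _ two_ne_zero) (hεpow g))⟩
    have he : e ^ 2 ^ s = 1 := Subtype.ext (hεpow g)
    have h1 : (Cfsg.Agent.Lib.Blocks.red M (e - 1)) ^ 2 ^ s = 0 := by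
      rw [map_sub, map_one, sub_pow_char_pow, ← map_pow, he, map_one, one_pow, sub_self]
    exact Cfsg.Agent.Lib.Blocks.red_eq_zero_iff.1 (eq_zero_of_pow_eq_zero h1)
  have hself : Cfsg.SameBlock M (η₂ : G → ℂ) (conjIrr η₂ : G → ℂ) := by
    intro g
    have e : Cfsg.centralChar (conjIrr η₂ : G → ℂ) g =
        Cfsg.centralChar (η₂ : G → ℂ) g * (ε g : ℂ) := by
      rw [Cfsg.centralChar, Cfsg.centralChar, hconj, hconj, map_one, Units.val_one, mul_one]
      ring
    rw [e, show Cfsg.centralChar (η₂ : G → ℂ) g - Cfsg.centralChar (η₂ : G → ℂ) g * (ε g : ℂ) =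
      Cfsg.centralChar (η₂ : G → ℂ) g * -((ε g : ℂ) - 1) by ring]
    exact Cfsg.Agent.Lib.Blocks.memLocalIdeal_mul_left
      (Cfsg.Agent.Lib.Blocks.memLocalRing_centralChar η₂ g)
      (Cfsg.Agent.Lib.Blocks.memLocalIdeal_neg (hεone g))
  refine ⟨η₂, hμN, ?_⟩
  have hB := Cfsg.Agent.Lib.Blocks.isPBlock_blockOf (M := M) η₂
  have hst : ∀ χ ∈ Cfsg.blockOf M (η₂ : G → ℂ), conjIrr χ ∈ Cfsg.blockOf M (η₂ : G → ℂ) := by
    intro χ hχ
    refine Cfsg.Agent.Lib.Blocks.sameBlock_trans hself fun g => ?_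
    rw [centralChar_conjIrr, centralChar_conjIrr]
    exact hχ g⁻¹
  have hfull : minExp 2 (Cfsg.blockOf M (η₂ : G → ℂ)) = 0 := by
    have h1 := minExp_le (p := 2) (Cfsg.Agent.Lib.Blocks.self_mem_blockOf (M := M) η₂)
    have hdeg : Cfsg.charDegree (η₂ : G → ℂ) = Cfsg.charDegree (θ : N → ℂ) := by
      unfold Cfsg.charDegree
      have := hμN 1
      rw [OneMemClass.coe_one] at this
      rw [this]
    have h0 : (Cfsg.charDegree (η₂ : G → ℂ)).factorization 2 = 0 :=
      Nat.factorization_eq_zero_of_not_dvd fun h =>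
        Nat.not_even_iff_odd.2 hodd (even_iff_two_dvd.2 (hdeg ▸ h))
    simp only [nu] at h1
    omega
  rw [← eq_principalBlock_of_inv_stable hM hB hfull
    (fun χ hχ => ⟨conjIrr χ, hst χ hχ, by rw [conjIrr_apply, inv_one],
      fun x _ => conjIrr_apply χ x⟩)
    (fun x _ => blockCoeff_apply_of_stable (fun g => g⁻¹) inv_surjective inv_one
      (fun χ hχ => ⟨conjIrr χ, hst χ hχ, fun g => conjIrr_apply χ g⟩) x)]
  exact Cfsg.Agent.Lib.Blocks.self_mem_blockOf η₂

end Cfsg.Agent.S4580
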