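import Cfsg.Statements.S4581
import Cfsg.Agent.Lib.OddRealCount.Real
import Cfsg.Agent.Lib.RegularTop.Series
import Cfsg.Agent.Lib.LocalEven.Subnormal

set_option autoImplicit false
open Cfsg

namespace Cfsg.Agent.S4581

open Cfsg.Agent.Lib in
theorem sq1_iff {X : Type*} [Group X] [Finite X] (P : Sylow 2 X) :
    OddRealCount.Sq1 (P : Subgroup X) ↔ commutator (P : Subgroup X) = frattini (P : Subgroup X) := by
  haveI := Fact.mk Nat.prime_two
  constructor
  · intro h
    refine le_antisymm ?_ ?_
    · rw [commutator_def, Subgroup.commutator_le]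
      exact fun a _ b _ => RegularTop.comm_mem_frattini P.isPGroup' a b
    · refine LocalEven.frattini_le_of_quotient_elementary (p := 2) le_rfl fun x => ?_
      by_contra hx
      obtain ⟨φ, hφ⟩ := CommGroup.exists_apply_ne_one_of_hasEnoughRootsOfUnity (Abelianization (P : Subgroup X)) ℂ
        (a := Abelianization.of (x ^ 2)) (fun e => hx (by rw [← Abelianization.ker_of]; exact e))
      apply hφ
      rw [pow_two, map_mul, map_mul]
      exact h (φ.comp Abelianization.of) x
  · intro h μ x
    rw [← map_mul]
    refine MonoidHom.mem_ker.1 (Abelianization.commutator_subset_ker μ ?_)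
    rw [h]
    exact RegularTop.sq_mem_frattini P.isPGroup' x

/-- Let G be a finite solvable group, P a Sylow 2-subgroup and N its normalizer. Then G and N have the same number of real-valued irreducible characters of odd degree; and every odd-degree irreducible character of G is real-valued exactly when the derived subgroup of P equals the Frattini subgroup of P and P is its own normalizer in G. -/
theorem result {G : Type*} [Group G] [Finite G] [Group.IsSolvable G] (P : Sylow 2 G) :
    Nat.card {χ : Cfsg.IrrCharacter G // (∀ g : G, ((χ : G → ℂ) g).im = 0) ∧ Odd (Cfsg.charDegree (χ : G → ℂ))} =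
      Nat.card {ψ : Cfsg.IrrCharacter (Subgroup.normalizer ((P : Subgroup G) : Set G)) // (∀ g, ((ψ : Subgroup.normalizer ((P : Subgroup G) : Set G) → ℂ) g).im = 0) ∧ Odd (Cfsg.charDegree (ψ : Subgroup.normalizer ((P : Subgroup G) : Set G) → ℂ))} ∧
    ((∀ χ : Cfsg.IrrCharacter G, Odd (Cfsg.charDegree (χ : G → ℂ)) → ∀ g : G, ((χ : G → ℂ) g).im = 0) ↔
      (commutator (P : Subgroup G) = frattini (P : Subgroup G) ∧ Subgroup.normalizer ((P : Subgroup G) : Set G) = (P : Subgroup G))) := by
  refine ⟨Lib.OddRealCount.R_eq P, (Lib.OddRealCount.allReal_iff P).trans ?_⟩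
  rw [Lib.OddRealCount.Good, sq1_iff, and_comm]
  exact and_congr_right fun _ => ⟨fun h => le_antisymm h Subgroup.le_normalizer, le_of_eq⟩

end Cfsg.Agent.S4581
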