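import Cfsg.Statements.S4582
import Mathlib

set_option autoImplicit false
open Cfsg
open scoped commutatorElement

namespace Cfsg.Agent.S4582

/-- Let N be a normal subgroup of the finite group G, P a Sylow 2-subgroup of G and Q = P ∩ N. Suppose that P/QP' and Q/Q' are elementary abelian (every square of an element of P lies in the subgroup generated by Q and the derived subgroup of P, and every square of an element of Q lies in the derived subgroup of Q), and that the commutator factor group N/N' has odd order. Then P/P' is elementary abelian. -/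
theorem result {G : Type*} [Group G] [Finite G] (N : Subgroup G) [N.Normal] (P : Sylow 2 G)
    (hP : ∀ x ∈ (P : Subgroup G), x ^ 2 ∈ ((P : Subgroup G) ⊓ N) ⊔ ⁅(P : Subgroup G), (P : Subgroup G)⁆)
    (hQ : ∀ x ∈ (P : Subgroup G) ⊓ N, x ^ 2 ∈ ⁅(P : Subgroup G) ⊓ N, (P : Subgroup G) ⊓ N⁆)
    (hodd : Odd (Nat.card (Abelianization N))) :
    ∀ x ∈ (P : Subgroup G), x ^ 2 ∈ ⁅(P : Subgroup G), (P : Subgroup G)⁆ := by
  classical
  set M : Subgroup G := N ⊔ (P : Subgroup G) with hM
  have hPM : (P : Subgroup G) ≤ M := le_sup_right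
  have hNM : N ≤ M := le_sup_left
  set P' : Subgroup G := ⁅(P : Subgroup G), (P : Subgroup G)⁆ with hP'
  set Hs := (P : Subgroup G).subgroupOf M with hHs
  have hmodd : ¬ 2 ∣ Hs.index := fun h => P.not_dvd_index
    (h.trans (Subgroup.relIndex_dvd_index_of_le hPM))
  set ϕ : ↥Hs →* Abelianization ↥(P : Subgroup G) :=
    Abelianization.of.comp (Subgroup.subgroupOfEquivOfLe hPM).toMonoidHom with hϕ
  set V : ↥M →* Abelianization ↥(P : Subgroup G) := MonoidHom.transfer ϕ with hV
  set π : Abelianization ↥(P : Subgroup G) →* Abelianization ↥M :=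
    Abelianization.map (Subgroup.inclusion hPM) with hπ
  -- a commutator of `M` lies in `N P'`
  have hPc : (commutator ↥(P : Subgroup G)).map (P : Subgroup G).subtype = P' := by
    rw [commutator_def, Subgroup.map_commutator, ← MonoidHom.range_eq_map, Subgroup.range_subtype]
  have hcomm : ∀ w : ↥M, w ∈ commutator ↥M → (w : G) ∈ N ⊔ P' := by
    have hmem : ∀ a : ↥M, ∃ x ∈ (P : Subgroup G), (QuotientGroup.mk' N) x = QuotientGroup.mk' N a := by
      intro a
      have h1 : QuotientGroup.mk' N (a : G) ∈ M.map (QuotientGroup.mk' N) := Subgroup.mem_map_of_mem _ a.2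
      have h1' : M.map (QuotientGroup.mk' N) = (P : Subgroup G).map (QuotientGroup.mk' N) := by
        rw [hM, Subgroup.map_sup, QuotientGroup.map_mk'_self, bot_sup_eq]
      rw [h1'] at h1
      exact h1
    intro w hw
    have h2 : commutator ↥M ≤ (N ⊔ P').subgroupOf M := by
      rw [commutator_def, Subgroup.commutator_le]
      intro a _ b _
      obtain ⟨x, hx, hxa⟩ := hmem a
      obtain ⟨y, hy, hyb⟩ := hmem b
      rw [Subgroup.mem_subgroupOf, ← Subgroup.subtype_apply, map_commutatorElement,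
        Subgroup.subtype_apply, Subgroup.subtype_apply]
      have h3 : QuotientGroup.mk' N ⁅(a : G), (b : G)⁆ = QuotientGroup.mk' N ⁅x, y⁆ := by
        rw [map_commutatorElement, map_commutatorElement, hxa, hyb]
      have h4 : ⁅(a : G), (b : G)⁆⁻¹ * ⁅x, y⁆ ∈ N := QuotientGroup.eq.mp h3
      have h5 : ⁅x, y⁆ ∈ N ⊔ P' := Subgroup.mem_sup_right (Subgroup.commutator_mem_commutator hx hy)
      have h6 := (N ⊔ P').mul_mem h5 ((N ⊔ P').inv_mem (Subgroup.mem_sup_left h4))
      rw [mul_inv_rev, inv_inv, mul_inv_cancel_left] at h6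
      exact h6
    exact h2 hw
  -- the transfer kills `N`
  have hVN : ∀ n : ↥M, (n : G) ∈ N → V n = 1 := by
    intro n hn
    set L : Abelianization ↥N →* Abelianization ↥(P : Subgroup G) :=
      Abelianization.lift (V.comp (Subgroup.inclusion hNM)) with hL
    obtain ⟨k, hk⟩ := P.isPGroup'.exists_card_eq
    have h1 : Nat.card L.range ∣ 2 ^ k := (Subgroup.card_subgroup_dvd_card _).trans
      (hk ▸ Subgroup.card_quotient_dvd_card _)
    have h2 : Nat.card L.range ∣ Nat.card (Abelianization ↥N) := Subgroup.card_range_dvd L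
    have h3 : Nat.card L.range = 1 := Nat.eq_one_of_dvd_coprimes
      ((Nat.coprime_two_left.mpr hodd).pow_left k) h1 h2
    have h4 := Subgroup.eq_bot_of_card_eq _ h3
    have h5 : L (Abelianization.of ⟨n, hn⟩) ∈ L.range := ⟨_, rfl⟩
    rw [h4, Subgroup.mem_bot, hL, Abelianization.lift_apply_of] at h5
    exact h5
  -- composed with `M → M/M'` it is the `index`-th power
  have hπV : ∀ g : ↥M, π (V g) = Abelianization.of g ^ Hs.index := by
    intro g
    let T : Hs.LeftTransversal := default
    let _ := Hs.fintypeQuotientOfFiniteIndex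
    rw [hV, MonoidHom.transfer_def ϕ T g]
    unfold Subgroup.leftTransversals.diff
    rw [map_prod]
    simp only [hϕ, hπ, MonoidHom.coe_comp, Function.comp_apply, Abelianization.map_of]
    rw [Subgroup.index, Nat.card_eq_fintype_card]
    set α := fun q => (Abelianization.of (G := ↥M)) ((T.2.leftQuotientEquiv q : ↥M)) with hα
    calc _ = ∏ q : ↥M ⧸ Hs, (α q)⁻¹ * (Abelianization.of g * α (g⁻¹ • q)) := by
          refine Finset.prod_congr rfl fun q _ => ?_
          rw [hα]
          simp only [← map_inv, ← map_mul]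
          refine congrArg Abelianization.of (Subtype.ext ?_)
          simp [Subgroup.smul_apply_eq_smul_apply_inv_smul]
          rfl
      _ = Abelianization.of g ^ Fintype.card (↥M ⧸ Hs) := by
          rw [Finset.prod_mul_distrib, Finset.prod_mul_distrib, Finset.prod_const, Finset.card_univ,
            Finset.prod_inv_distrib, Fintype.prod_equiv (MulAction.toPerm g⁻¹) (fun q => α (g⁻¹ • q)) α (fun q => rfl)]
          rw [mul_comm, mul_assoc, mul_inv_cancel, mul_one]
  have hker : ∀ z : ↥(P : Subgroup G), (z : G) ∈ P' → Abelianization.of z = 1 := by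
    intro z hz
    rw [← hPc] at hz
    obtain ⟨z', hz', hzz⟩ := hz
    obtain rfl := Subtype.ext hzz
    exact (QuotientGroup.eq_one_iff z').mpr hz'
  have hQ' : ∀ q : ↥(P : Subgroup G), (q : G) ∈ N → Abelianization.of q ^ 2 = 1 := by
    intro q hq
    rw [← map_pow]
    exact hker _ (Subgroup.commutator_mono inf_le_left inf_le_left (hQ q ⟨q.2, hq⟩))
  have hsplit : ∀ w : G, w ∈ (P : Subgroup G) → w ∈ N ⊔ P' → ∃ q ∈ (P : Subgroup G) ⊓ N, ∃ c ∈ P', w = q * c := by
    intro w hw hw'
    rw [← SetLike.mem_coe, Subgroup.normal_mul] at hw'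
    obtain ⟨n, hn, c, hc, rfl⟩ := hw'
    have h := (P : Subgroup G).mul_mem hw ((P : Subgroup G).inv_mem (Subgroup.commutator_le_self (P : Subgroup G) hc))
    simp only [mul_inv_cancel_right] at h
    exact ⟨n, ⟨h, hn⟩, c, hc, rfl⟩
  intro x hx
  set xM : ↥M := ⟨x, hPM hx⟩ with hxM
  -- the transfer of `x` squares to `1`
  have hVx : V xM ^ 2 = 1 := by
    obtain ⟨q, hq, c, hc, hqc⟩ : ∃ q ∈ (P : Subgroup G) ⊓ N, ∃ c ∈ P', x ^ 2 = q * c := by
      have h := hP x hx
      have hnn : P' ≤ Subgroup.normalizer (((P : Subgroup G) ⊓ N : Subgroup G) : Set G) := by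
        refine (Subgroup.commutator_le_self _).trans fun g hg => ?_
        refine Subgroup.mem_normalizer_fintype fun t ht => ⟨?_, Subgroup.Normal.conj_mem inferInstance t ht.2 g⟩
        exact (P : Subgroup G).mul_mem ((P : Subgroup G).mul_mem hg ht.1) ((P : Subgroup G).inv_mem hg)
      rw [← SetLike.mem_coe, Subgroup.coe_mul_of_right_le_normalizer_left _ _ hnn] at h
      obtain ⟨q, hq, c, hc, h⟩ := h
      exact ⟨q, hq, c, hc, h.symm⟩
    rw [← map_pow, show xM ^ 2 = (⟨q, hNM hq.2⟩ : ↥M) * ⟨c, hPM (Subgroup.commutator_le_self _ hc)⟩ from Subtype.ext hqc,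
      map_mul, hVN _ hq.2, one_mul]
    obtain ⟨c', hc', hcc⟩ : ∃ c' ∈ commutator ↥(P : Subgroup G), (c' : G) = c := by
      rw [← hPc] at hc
      exact hc
    have : (⟨c, hPM (Subgroup.commutator_le_self _ hc)⟩ : ↥M) = Subgroup.inclusion hPM c' := Subtype.ext hcc.symm
    rw [this]
    exact (Abelianization.commutator_subset_ker (V.comp (Subgroup.inclusion hPM)) hc' : _)
  obtain ⟨v, hv⟩ := QuotientGroup.mk_surjective (V xM)
  have hv' : Abelianization.of v = V xM := hv
  have h1 : Abelianization.of (Subgroup.inclusion hPM v) = Abelianization.of xM ^ Hs.index := by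
    rw [← hπV, ← hv', hπ, Abelianization.map_of]
  rw [← map_pow] at h1
  have h2 := hcomm _ (QuotientGroup.eq.mp h1)
  obtain ⟨q, hq, c, hc, hqc⟩ := hsplit _ (mul_mem (inv_mem v.2) (pow_mem hx _)) (by simpa using h2)
  set xP : ↥(P : Subgroup G) := ⟨x, hx⟩ with hxP
  have h3 : xP ^ Hs.index = v * (⟨q, hq.1⟩ * ⟨c, Subgroup.commutator_le_self _ hc⟩) := Subtype.ext (by
    simp only [SubgroupClass.coe_pow, Subgroup.coe_mul, hxP, ← hqc]
    group)
  have h4 : (Abelianization.of xP ^ 2) ^ Hs.index = 1 := by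
    rw [pow_right_comm, ← map_pow _ xP, h3, map_mul, map_mul, hker ⟨c, Subgroup.commutator_le_self _ hc⟩ hc, mul_one, mul_pow,
      hv', hVx, hQ' ⟨q, hq.1⟩ hq.2, mul_one]
  have h5 : Abelianization.of (xP ^ 2) = 1 := by
    rw [map_pow]
    obtain ⟨k, hk⟩ := P.isPGroup'.exists_card_eq
    have hd : orderOf (Abelianization.of xP ^ 2) ∣ 2 ^ k := by
      rw [← hk]; exact (orderOf_dvd_natCard _).trans (Subgroup.card_quotient_dvd_card _)
    exact orderOf_eq_one_iff.mp (Nat.eq_one_of_dvd_coprimes
      ((Nat.prime_two.coprime_iff_not_dvd.mpr hmodd).pow_left k) hd (orderOf_dvd_of_pow_eq_one h4))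
  have h6 : xP ^ 2 ∈ commutator ↥(P : Subgroup G) := (QuotientGroup.eq_one_iff _).mp h5
  have h7 := Subgroup.mem_map_of_mem (P : Subgroup G).subtype h6
  rw [commutator_def, Subgroup.map_commutator, ← MonoidHom.range_eq_map, Subgroup.range_subtype] at h7
  exact h7

end Cfsg.Agent.S4582
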