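import Cfsg.Statements.S4583
import Cfsg.Agent.S0940
import Cfsg.Agent.Lib.Blocks.Induced
import Cfsg.Agent.Lib.Characters.Clifford

set_option autoImplicit false
open Cfsg
open Cfsg.Agent.Lib.Blocks Cfsg.Agent.Lib.Characters
open scoped ComplexConjugate

namespace Cfsg.Agent.S4583

/-- Let N be a normal subgroup of the finite group G, p a prime, M a maximal ideal of the algebraic integers containing p, and P a Sylow p-subgroup of G. Let θ be an irreducible character of N of degree prime to p lying in the principal p-block of N, and suppose θ extends to the subgroup NP (some irreducible character of NP restricts to θ). Then some irreducible character χ of G of degree prime to p in the principal p-block of G lies over θ (θ is a constituent of the restriction of χ to N). -/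
theorem result {G : Type*} [Group G] [Finite G] (N : Subgroup G) [N.Normal] (p : ℕ) [Fact p.Prime] (M : Ideal Cfsg.AlgInt) (hM : Cfsg.IsPModular p M) (P : Sylow p G)
    (θ : Cfsg.IrrCharacter N) (hθ : θ ∈ Cfsg.principalBlock M N) (hdeg : ¬ p ∣ Cfsg.charDegree (θ : N → ℂ))
    (hext : ∃ η : Cfsg.IrrCharacter ↥(N ⊔ (P : Subgroup G)), ∀ n : N, (η : ↥(N ⊔ (P : Subgroup G)) → ℂ) (Subgroup.inclusion le_sup_left n) = (θ : N → ℂ) n) :
    ∃ χ : Cfsg.IrrCharacter G, χ ∈ Cfsg.principalBlock M G ∧ ¬ p ∣ Cfsg.charDegree (χ : G → ℂ) ∧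
      haveI := Fintype.ofFinite N; Cfsg.classInner (fun n : N => (χ : G → ℂ) n) (θ : N → ℂ) ≠ 0 := by
  classical
  haveI := Fintype.ofFinite G
  haveI := Fintype.ofFinite N
  haveI := isPrime_of_isPModular hM
  set H : Subgroup G := N ⊔ (P : Subgroup G) with hH
  haveI := Fintype.ofFinite H
  haveI := Fintype.ofFinite (IrrCharacter H)
  haveI := Fintype.ofFinite (IrrCharacter G)
  obtain ⟨η, hη⟩ := hext
  have hNH : N ≤ H := le_sup_left
  have hB := isPBlock_principalBlock (G := G) (M := M)
  have hb := isPBlock_principalBlock (G := N) (M := M)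
  have he := isRCentral_blockCoeff hM hB
  set e := Cfsg.blockCoeff (Cfsg.principalBlock M G) with hedef
  -- the regular elements of `H` lie in `N`
  have hsupp : ∀ h : H, (h : G) ∉ N → e h = 0 := by
    intro h hh
    refine blockCoeff_eq_zero_of_dvd hM hB (by_contra fun hreg => hh ?_)
    obtain ⟨a, ha, u, hu, hau⟩ := Subgroup.mem_sup_of_normal_left.1 h.2
    rw [← QuotientGroup.eq_one_iff]
    have h2 : ((h : G) : G ⧸ N) = (u : G ⧸ N) := by
      rw [← hau, QuotientGroup.mk_mul, (QuotientGroup.eq_one_iff a).2 ha, one_mul]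
    obtain ⟨j, hj⟩ := P.2 ⟨u, hu⟩
    have hd1 : orderOf ((h : G) : G ⧸ N) ∣ p ^ j := by
      rw [h2]
      exact (orderOf_map_dvd (QuotientGroup.mk' N) u).trans
        (orderOf_dvd_of_pow_eq_one (congrArg Subtype.val hj))
    have hd2 : orderOf ((h : G) : G ⧸ N) ∣ orderOf (h : G) := orderOf_map_dvd (QuotientGroup.mk' N) _
    obtain ⟨i, -, hi⟩ := (Nat.dvd_prime_pow hM.1).1 hd1
    rw [← orderOf_eq_one_iff, hi]
    rcases i with _ | i
    · rw [pow_zero]
    · exact absurd ((dvd_pow_self p (Nat.succ_ne_zero i)).trans (hi ▸ hd2)) hreg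
  -- the sum of `e` over `N` is a local unit
  have hsum : ¬ MemLocalIdeal M (∑ n : N, e n) := by
    have hreg : ∀ (K : Type _) [Group K] [Fintype K],
        ¬ MemLocalIdeal M ((Nat.card {y : K // ¬ p ∣ orderOf y} : ℕ) : ℂ) := by
      intro K _ _
      have htriv : trivIrr K ∈ Cfsg.principalBlock M K := self_mem_blockOf (trivIrr K)
      have h := not_memLocalIdeal_omega_regFun hM (isPBlock_principalBlock (G := K)) htriv
        (blockHeight_trivIrr _) htriv
      rwa [show omega (trivIrr K : K → ℂ) (regFun p (trivIrr K : K → ℂ)) =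
        ((Nat.card {y : K // ¬ p ∣ orderOf y} : ℕ) : ℂ) by
          simp [omega, regFun, trivIrr_apply, Finset.sum_ite, Nat.card_eq_fintype_card,
            Fintype.card_subtype]] at h
    set RG := Nat.card {y : G // ¬ p ∣ orderOf y}
    set RN := Nat.card {y : N // ¬ p ∣ orderOf y}
    have key : ∀ n : N, MemLocalIdeal M
        ((RG : ℂ) * e n - (RN : ℂ) * Cfsg.blockCoeff (Cfsg.principalBlock M N) n) := by
      intro n
      by_cases hn : p ∣ orderOf n
      · rw [hedef, blockCoeff_eq_zero_of_dvd hM hB (show p ∣ orderOf (n : G) by rwa [Subgroup.orderOf_coe]),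
          blockCoeff_eq_zero_of_dvd hM hb hn, mul_zero, mul_zero, sub_zero]
        exact memLocalIdeal_zero
      have hG' := Cfsg.Agent.S0940.result p M hM (n : G) (by rwa [Subgroup.orderOf_coe])
      have hN' := Cfsg.Agent.S0940.result p M hM n hn
      have hc : Nat.card {xy : G × G // (∃ k : ℕ, orderOf xy.1 = p ^ k) ∧ ¬ p ∣ orderOf xy.2 ∧
          xy.1 * xy.2 = (n : G)} = Nat.card {xy : N × N // (∃ k : ℕ, orderOf xy.1 = p ^ k) ∧
          ¬ p ∣ orderOf xy.2 ∧ xy.1 * xy.2 = n} := by
        refine (Nat.card_congr (Equiv.ofBijective (fun q => ⟨((q.1.1 : G), (q.1.2 : G)),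
          by rw [Subgroup.orderOf_coe]; exact q.2.1, by rw [Subgroup.orderOf_coe]; exact q.2.2.1,
          congrArg Subtype.val q.2.2.2⟩) ⟨?_, ?_⟩)).symm
        · intro a b hab
          have := congrArg Subtype.val hab
          simp only [Prod.mk.injEq] at this
          exact Subtype.ext (Prod.ext (Subtype.ext this.1) (Subtype.ext this.2))
        · rintro ⟨⟨x, y⟩, ⟨k, hk⟩, hy, hxy⟩
          have h1 : (x : G ⧸ N) * (y : G ⧸ N) = 1 := by
            rw [← QuotientGroup.mk_mul]
            exact (QuotientGroup.eq_one_iff _).2 (hxy ▸ n.2)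
          have h2 : orderOf (x : G ⧸ N) = 1 := by
            have hx : orderOf (x : G ⧸ N) ∣ p ^ k := hk ▸ orderOf_map_dvd (QuotientGroup.mk' N) x
            have hy' : orderOf (x : G ⧸ N) ∣ orderOf y := by
              rw [eq_inv_of_mul_eq_one_left h1, orderOf_inv]
              exact orderOf_map_dvd (QuotientGroup.mk' N) y
            exact Nat.eq_one_of_dvd_one
              (((hM.1.coprime_iff_not_dvd.2 hy).pow_left k).symm ▸ Nat.dvd_gcd hy' hx :)
          have hxN : x ∈ N := (QuotientGroup.eq_one_iff x).1 (orderOf_eq_one_iff.1 h2)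
          have hyN : y ∈ N := by
            have := mul_mem (inv_mem hxN) (hxy ▸ n.2 : x * y ∈ N)
            rwa [inv_mul_cancel_left] at this
          exact ⟨⟨(⟨x, hxN⟩, ⟨y, hyN⟩), ⟨k, by rw [← hk]; exact (Subgroup.orderOf_coe _).symm⟩,
            by rw [← Subgroup.orderOf_coe]; exact hy, Subtype.ext hxy⟩, rfl⟩
      rw [hc] at hG'
      set c := Nat.card {xy : N × N // (∃ k : ℕ, orderOf xy.1 = p ^ k) ∧
          ¬ p ∣ orderOf xy.2 ∧ xy.1 * xy.2 = n}
      have h1 := memLocalIdeal_mul_left (memLocalRing_natCast RG) hG'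
      have h2 := memLocalIdeal_mul_left (memLocalRing_natCast RN) hN'
      have hRG : (RG : ℂ) ≠ 0 := ne_zero_of_not_memLocalIdeal (hreg G)
      have hRN : (RN : ℂ) ≠ 0 := ne_zero_of_not_memLocalIdeal (hreg N)
      rw [mul_sub, mul_div_cancel₀ _ hRG] at h1
      rw [mul_sub, mul_div_cancel₀ _ hRN] at h2
      simpa using memLocalIdeal_sub h1 h2
    have hone : ∑ n : N, Cfsg.blockCoeff (Cfsg.principalBlock M N) n = 1 := by
      have h := omega_blockCoeff (Cfsg.principalBlock M N) (trivIrr N)
      rw [if_pos (show trivIrr N ∈ Cfsg.principalBlock M N from self_mem_blockOf (trivIrr N))] at h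
      simpa [omega] using h
    intro hmem
    have h := memLocalIdeal_sum Finset.univ fun n (_ : n ∈ Finset.univ) => key n
    rw [Finset.sum_sub_distrib, ← Finset.mul_sum, ← Finset.mul_sum, hone, mul_one] at h
    refine hreg N ?_
    convert memLocalIdeal_sub (memLocalIdeal_mul_left (memLocalRing_natCast RG) hmem) h using 1
    ring
  -- `η` sees the principal block
  have hθ1 : (η : H → ℂ) 1 = (θ : N → ℂ) 1 := by
    have := hη 1
    rwa [map_one] at this
  have hω : ¬ MemLocalIdeal M ((∑ h : H, (η : H → ℂ) h * e h) / (η : H → ℂ) 1) := by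
    have h1 : ∑ h : H, (η : H → ℂ) h * e h = ∑ n : N, (θ : N → ℂ) n * e n := by
      rw [← Finset.sum_filter_of_ne (p := fun h : H => (h : G) ∈ N) (fun h _ hne => by
        by_contra hh; exact hne (by rw [hsupp h hh, mul_zero]))]
      refine Finset.sum_bij (fun h hh => (⟨(h : G), (Finset.mem_filter.1 hh).2⟩ : N))
        (fun _ _ => Finset.mem_univ _) (fun a _ b _ hab => Subtype.ext (congrArg Subtype.val hab :))
        (fun n _ => ⟨⟨n, hNH n.2⟩, Finset.mem_filter.2 ⟨Finset.mem_univ _, n.2⟩, rfl⟩) fun h hh => ?_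
      rw [← hη]
      rfl
    rw [h1, hθ1]
    intro hmem
    apply hsum
    have hc := omega_congr_of_sameBlock (χ := θ) (ψ := trivIrr N)
      (IsPBlock.sameBlock hb hθ (self_mem_blockOf (trivIrr N))) (isRCentral_resFun N he)
    have e1 : omega (trivIrr N : N → ℂ) (resFun N e) = ∑ n : N, e n := by simp [omega, resFun]
    have e2 : omega (θ : N → ℂ) (resFun N e) = (∑ n : N, (θ : N → ℂ) n * e n) / (θ : N → ℂ) 1 := by
      simp [omega, resFun, mul_comm]
    rw [e1, e2] at hc
    simpa using memLocalIdeal_sub hmem hc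
  have hidx : ¬ p ∣ H.index := fun hd =>
    P.not_dvd_index (hd.trans (Subgroup.index_dvd_of_le le_sup_right))
  choose r hr using fun χ : IrrCharacter G => IsCharacter.exists_classInner_nat
    (IsCharacter.restrict (irr_isCharacter χ) H) (irr_isCharacter η)
  have hmain : ∑ h : H, (η : H → ℂ) h * e h =
      (Nat.card H : ℂ) / (Nat.card G : ℂ) *
        ∑ χ : IrrCharacter G, if χ ∈ Cfsg.principalBlock M G then
          ((charDegree (χ : G → ℂ) * r χ : ℕ) : ℂ) else 0 := by
    have hterm : ∀ χ : IrrCharacter G, ∑ h : H, (η : H → ℂ) h * conj ((χ : G → ℂ) h) =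
        (Nat.card H : ℂ) * (r χ : ℂ) := by
      intro χ
      have h1 : classInner (η : H → ℂ) (fun h : H => (χ : G → ℂ) h) = (r χ : ℂ) := by
        rw [← classInner_conj_symm, hr, map_natCast]
      rw [← h1, classInner, ← mul_assoc, mul_inv_cancel₀ natCard_ne_zero_complex, one_mul]
    simp only [hedef, blockCoeff, finsum_irr_eq_sum_ite, Finset.mul_sum]
    rw [Finset.sum_comm]
    refine Finset.sum_congr rfl fun χ _ => ?_
    split_ifs with hχ
    · rw [Nat.cast_mul, charDegree_eq, show (Nat.card H : ℂ) / (Nat.card G : ℂ) * ((χ : G → ℂ) 1 * (r χ : ℂ)) =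
        (Nat.card G : ℂ)⁻¹ * (χ : G → ℂ) 1 * ((Nat.card H : ℂ) * (r χ : ℂ)) by ring, ← hterm χ,
        Finset.mul_sum]
      exact Finset.sum_congr rfl fun h _ => by ring
    · simp
  by_contra hcon
  push Not at hcon
  apply hω
  obtain ⟨d, hd, hd'⟩ := IsIrrCharacter.exists_apply_one θ.2
  have hdp : ¬ p ∣ d := by
    have hdd : charDegree (θ : N → ℂ) = d := by exact_mod_cast (charDegree_eq θ).trans hd'
    rwa [← hdd]
  have hHG : (Nat.card G : ℂ) = (H.index : ℂ) * (Nat.card H : ℂ) := by
    rw [← Nat.cast_mul, Subgroup.index_mul_card]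
  have hH0 : (Nat.card H : ℂ) ≠ 0 := natCard_ne_zero_complex
  rw [hmain, hHG, hθ1, hd', show (Nat.card H : ℂ) / ((H.index : ℂ) * (Nat.card H : ℂ)) = (H.index : ℂ)⁻¹ by
    field_simp, div_eq_mul_inv]
  refine memLocalIdeal_mul_right (memLocalIdeal_mul_left (memLocalRing_inv_natCast hM hidx)
    (memLocalIdeal_sum _ fun χ _ => ?_)) (memLocalRing_inv_natCast hM hdp)
  split_ifs with hχ
  · rw [memLocalIdeal_natCast_iff hM]
    by_contra hnd
    have hnd1 : ¬ p ∣ charDegree (χ : G → ℂ) := fun h => hnd (h.mul_right _)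
    have hr0 : r χ ≠ 0 := fun h => hnd (by rw [h, mul_zero]; exact dvd_zero p)
    apply hr0
    have h0 := hcon χ hχ hnd1
    haveI hN' : Fintype ↥(N.subgroupOf H) := Fintype.ofFinite _
    -- the constituent `η` forces `θ`
    have hd := eq_sum_classInner (IsCharacter.isClassFunction (IsCharacter.restrict (irr_isCharacter χ) H))
    have hexp : (fun n : N => (χ : G → ℂ) n) = ∑ φ : IrrCharacter H, (classInner (fun h : H => (χ : G → ℂ) h) (φ : H → ℂ)) •
        ((φ : H → ℂ) ∘ Subgroup.inclusion hNH) := funext fun n => by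
      simpa [Finset.sum_apply] using congrFun hd (Subgroup.inclusion hNH n)
    by_contra hr1
    choose f hf using fun φ : IrrCharacter H => IsCharacter.exists_classInner_nat
      (IsCharacter.comp (irr_isCharacter φ) (Subgroup.inclusion hNH)) (irr_isCharacter θ)
    choose m hm using fun φ : IrrCharacter H => IsCharacter.exists_classInner_nat
      (IsCharacter.restrict (irr_isCharacter χ) H) (irr_isCharacter φ)
    have hfη : f η = 1 := by
      have := hf η
      rw [show ((η : H → ℂ) ∘ Subgroup.inclusion hNH) = (θ : N → ℂ) from funext hη,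
        IsIrrCharacter.classInner_self θ.2] at this
      exact_mod_cast this.symm
    have hmη : m η = r χ := by exact_mod_cast (hm η).symm.trans (hr χ)
    have hcast : classInner (fun n : N => (χ : G → ℂ) n) (θ : N → ℂ) =
        ((∑ φ : IrrCharacter H, m φ * f φ : ℕ) : ℂ) := by
      rw [hexp, classInner_sum_left]
      push_cast
      exact Finset.sum_congr rfl fun φ _ => by rw [classInner_smul_left, hm, hf]
    have h0' : ((∑ φ : IrrCharacter H, m φ * f φ : ℕ) : ℂ) = 0 := by
      rw [← hcast]; convert h0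
    rw [Nat.cast_eq_zero, Finset.sum_eq_zero_iff] at h0'
    have := h0' η (Finset.mem_univ η)
    rw [hfη, mul_one, hmη] at this
    exact hr1 this
  · exact memLocalIdeal_zero

end Cfsg.Agent.S4583
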