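import Cfsg.Statements.S4584
import Cfsg.Agent.Lib.BlockAux.OrderPFour

set_option autoImplicit false
open Cfsg

namespace Cfsg.Agent.S4584

/-- Let p be a prime and P a group of order p^4. Then the derived subgroup P' has order p if and only if the centre Z(P) has index p^2 in P. -/
theorem result {P : Type*} [Group P] [Finite P] (p : ℕ) [Fact p.Prime] (hP : Nat.card P = p ^ 4) :
    Nat.card (commutator P) = p ↔ (Subgroup.center P).index = p ^ 2 := by
  have hp : p.Prime := Fact.out
  constructor
  · intro h
    have hne : commutator P ≠ ⊥ := fun e => by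
      rw [e, Subgroup.card_bot] at h; exact hp.one_lt.ne h
    have h1 := Lib.BlockAux.card_center_mul_commutator_of_card_pow_four hP hne
    rw [h, pow_succ] at h1
    have h2 : Nat.card (Subgroup.center P) = p ^ 2 := Nat.eq_of_mul_eq_mul_right hp.pos h1
    have h3 := Subgroup.card_mul_index (Subgroup.center P)
    rw [hP, h2, show 4 = 2 + 2 from rfl, pow_add] at h3
    exact Nat.eq_of_mul_eq_mul_left (pow_pos hp.pos 2) h3
  · intro h
    have h3 := Subgroup.card_mul_index (Subgroup.center P)
    rw [hP, h, show 4 = 2 + 2 from rfl, pow_add] at h3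
    have h2 : Nat.card (Subgroup.center P) = p ^ 2 :=
      Nat.eq_of_mul_eq_mul_right (pow_pos hp.pos 2) h3
    have hne : commutator P ≠ ⊥ := by
      intro e
      have : Subgroup.center P = ⊤ := (_root_.commutator_eq_bot_iff_center_eq_top (G := P)).mp e
      rw [this, Subgroup.index_top] at h
      exact (Nat.one_lt_pow (by norm_num) hp.one_lt).ne h
    have h1 := Lib.BlockAux.card_center_mul_commutator_of_card_pow_four hP hne
    rw [h2, pow_succ] at h1
    exact Nat.eq_of_mul_eq_mul_left (pow_pos hp.pos 2) h1

end Cfsg.Agent.S4584
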