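import Cfsg.Statements.S4585
import Cfsg.Agent.Lib.BlockAux.OrderPFour

set_option autoImplicit false
open Cfsg
open scoped commutatorElement

namespace Cfsg.Agent.S4585

/-- Let p be a prime and P a group of order p^4. Then P' has index p^2 in P if and only if P has maximal nilpotency class, that is, nilpotency class exactly 3. -/
theorem result {P : Type*} [Group P] [Finite P] (p : ℕ) [Fact p.Prime] (hP : Nat.card P = p ^ 4) :
    (commutator P).index = p ^ 2 ↔ Group.nilpotencyClass P = 3 := by
  have hp : p.Prime := Fact.out
  have hPg : IsPGroup p P := IsPGroup.of_card hP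
  haveI : Group.IsNilpotent P := hPg.isNilpotent
  haveI : Nontrivial P := Finite.one_lt_card_iff_nontrivial.mp (by
    rw [hP]; exact Nat.one_lt_pow (by norm_num) hp.one_lt)
  have hcen : p ≤ Nat.card (Subgroup.center P) := by
    obtain ⟨i, hi⟩ := IsPGroup.iff_card.mp (hPg.to_subgroup (Subgroup.center P))
    have : Nontrivial (Subgroup.center P) := hPg.center_nontrivial
    have h1 := Finite.one_lt_card_iff_nontrivial.mpr this
    rw [hi] at h1 ⊢
    exact Nat.le_self_pow (fun h => by simp [h] at h1) p
  have hcm := Subgroup.card_mul_index (commutator P)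
  rw [hP] at hcm
  have hl1 : Subgroup.lowerCentralSeries (⊤ : Subgroup P) 1 = commutator P := by
    rw [Subgroup.lowerCentralSeries_succ, Subgroup.lowerCentralSeries_zero, commutator_def]
  have hcls : ∀ n, Group.nilpotencyClass P ≤ n ↔ Subgroup.lowerCentralSeries (⊤ : Subgroup P) n = ⊥ := fun n =>
    (Subgroup.lowerCentralSeries_eq_bot_iff_nilpotencyClass_le (G := P)).symm
  constructor
  · intro h
    rw [h, show 4 = 2 + 2 from rfl, pow_add] at hcm
    have hc : Nat.card (commutator P) = p ^ 2 :=
      Nat.eq_of_mul_eq_mul_right (pow_pos hp.pos 2) hcm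
    have hne : commutator P ≠ ⊥ := fun e => by
      rw [e, Subgroup.card_bot] at hc; exact (Nat.one_lt_pow (by norm_num) hp.one_lt).ne hc
    have h1 := Lib.BlockAux.card_center_mul_commutator_of_card_pow_four hP hne
    rw [hc, pow_succ' p 2, Nat.mul_left_inj (pow_pos hp.pos 2).ne'] at h1
    have h2 : ¬ Group.nilpotencyClass P ≤ 2 := by
      intro hc2
      have h3 := (hcls 2).mp hc2
      rw [Subgroup.lowerCentralSeries_succ, hl1] at h3
      have : commutator P ≤ Subgroup.center P := by
        intro a ha
        rw [Subgroup.mem_center_iff]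
        intro g
        have h4 : ⁅a, g⁆ ∈ (⊥ : Subgroup P) := by
          rw [← h3]; exact Subgroup.commutator_mem_commutator ha (Subgroup.mem_top g)
        exact (commutatorElement_eq_one_iff_mul_comm.mp (Subgroup.mem_bot.mp h4)).symm
      have h5 := Subgroup.card_le_of_le this
      rw [h1, hc] at h5
      exact absurd h5 (not_le.mpr (by rw [sq]; exact lt_mul_of_one_lt_left hp.pos hp.one_lt))
    have h3 : Group.nilpotencyClass P ≤ 3 := by
      rw [hcls]
      have e2 : Nat.card ↥(Subgroup.lowerCentralSeries (⊤ : Subgroup P) 2) ≤ p := by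
        have hlt : Subgroup.lowerCentralSeries (⊤ : Subgroup P) 2 < commutator P := by
          refine lt_of_le_of_ne (hl1 ▸ Subgroup.lowerCentralSeries_antitone (⊤ : Subgroup P) (show 1 ≤ 2 by norm_num)) ?_
          intro e
          have hall : ∀ n, 1 ≤ n → Subgroup.lowerCentralSeries (⊤ : Subgroup P) n = commutator P := by
            intro n hn
            induction n, hn using Nat.le_induction with
            | base => exact hl1
            | succ n hn ih => rw [Subgroup.lowerCentralSeries_succ, ih, ← hl1,
                ← Subgroup.lowerCentralSeries_succ, hl1]; exact e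
          obtain ⟨n, hn⟩ := nilpotent_iff_lowerCentralSeries.mp (inferInstance : Group.IsNilpotent P)
          have := Subgroup.lowerCentralSeries_antitone (⊤ : Subgroup P) (Nat.le_succ n)
          rw [hn, hall _ (Nat.succ_pos n), le_bot_iff] at this
          exact hne this
        obtain ⟨i, hi⟩ := IsPGroup.iff_card.mp (hPg.to_subgroup (Subgroup.lowerCentralSeries (⊤ : Subgroup P) 2))
        have hle := Subgroup.card_le_of_le hlt.le
        have hlt' : Nat.card ↥(Subgroup.lowerCentralSeries (⊤ : Subgroup P) 2) < p ^ 2 := by
          refine lt_of_le_of_ne (hle.trans hc.le) (fun e => hlt.ne ?_)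
          exact Subgroup.eq_of_le_of_card_ge hlt.le (by rw [e, hc])
        rw [hi] at hlt' ⊢
        have : i < 2 := (Nat.pow_lt_pow_iff_right hp.one_lt).mp hlt'
        calc p ^ i ≤ p ^ 1 := Nat.pow_le_pow_right hp.pos (by omega)
          _ = p := pow_one p
      have hle := Lib.BlockAux.le_center_of_card_le_prime hPg _ e2
      rw [Subgroup.lowerCentralSeries_succ, eq_bot_iff, Subgroup.commutator_le]
      intro a ha b _
      rw [Subgroup.mem_bot, commutatorElement_eq_one_iff_mul_comm]
      exact (Subgroup.mem_center_iff.mp (hle ha) b).symm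
    omega
  · intro h
    have hne : commutator P ≠ ⊥ := by
      intro e
      have := (hcls 1).mpr (hl1.trans e)
      omega
    have h1 := Lib.BlockAux.card_center_mul_commutator_of_card_pow_four hP hne
    obtain ⟨j, hj⟩ := IsPGroup.iff_card.mp (hPg.to_subgroup (commutator P))
    have hj2 : j ≤ 2 := by
      by_contra hc
      have : p ^ 3 * p ≤ p ^ 3 := by
        calc p ^ 3 * p ≤ p ^ j * Nat.card (Subgroup.center P) :=
              Nat.mul_le_mul (Nat.pow_le_pow_right hp.pos (by omega)) hcen
          _ = p ^ 3 := by rw [← hj, mul_comm, h1]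
      exact absurd this (not_le.mpr (lt_mul_of_one_lt_right (pow_pos hp.pos 3) hp.one_lt))
    have hj0 : j ≠ 0 := fun e => hne (Subgroup.card_eq_one.mp (by rw [hj, e, pow_zero]))
    have hj1 : j ≠ 1 := by
      intro e
      rw [e, pow_one] at hj
      have := Lib.BlockAux.le_center_of_card_le_prime hPg (commutator P) hj.le
      have h2 : Subgroup.lowerCentralSeries (⊤ : Subgroup P) 2 = ⊥ := by
        rw [Subgroup.lowerCentralSeries_succ, hl1, eq_bot_iff, Subgroup.commutator_le]
        intro a ha b _
        rw [Subgroup.mem_bot, commutatorElement_eq_one_iff_mul_comm]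
        exact (Subgroup.mem_center_iff.mp (this ha) b).symm
      have := (hcls 2).mpr h2
      omega
    rw [hj, show j = 2 by omega, show 4 = 2 + 2 from rfl, pow_add] at hcm
    exact Nat.eq_of_mul_eq_mul_left (pow_pos hp.pos 2) hcm

end Cfsg.Agent.S4585
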