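import Cfsg.Statements.S4586
import Cfsg.Agent.Lib.BlockAux.AbelianMax
import Mathlib.Tactic.Ring

set_option autoImplicit false
open Cfsg
open scoped commutatorElement

namespace Cfsg.Agent.S4586

/-- Let p be a prime, P a finite p-group and N a normal subgroup of P of index p. For x ∈ P write c(x) for the number of elements n of N whose commutator x n x⁻¹ n⁻¹ lies in the derived subgroup N' (so c(x)/#N' is the order of the centralizer of x acting on N/N'). Then [P : P'] = p² if and only if c(x) = p·#N' for every x ∈ P outside N, and also if and only if c(x) = p·#N' for some x ∈ P outside N. -/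
theorem result {P : Type*} [Group P] [Finite P] (p : ℕ) [Fact p.Prime] (hP : IsPGroup p P) (N : Subgroup P) [N.Normal] (hN : N.index = p) :
    ((commutator P).index = p ^ 2 ↔ ∀ x : P, x ∉ N →
        Nat.card {n : N // x * n * x⁻¹ * (n : P)⁻¹ ∈ (commutator N).map N.subtype} = p * Nat.card (commutator N)) ∧
    ((commutator P).index = p ^ 2 ↔ ∃ x : P, x ∉ N ∧
        Nat.card {n : N // x * n * x⁻¹ * (n : P)⁻¹ ∈ (commutator N).map N.subtype} = p * Nat.card (commutator N)) := by
  classical
  have hp : p.Prime := Fact.out
  set N' : Subgroup P := (commutator N).map N.subtype with hN'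
  haveI : N'.Normal := by
    rw [hN', Subgroup.map_subtype_commutator]; infer_instance
  have hN'N : N' ≤ N := Subgroup.map_subtype_le _
  have hN'P : N' ≤ commutator P := by
    rw [hN', Subgroup.map_subtype_commutator, commutator_def]
    exact Subgroup.commutator_mono le_top le_top
  have hcN : Nat.card N' = Nat.card (commutator N) := Subgroup.card_subtype N (commutator N)
  let q := QuotientGroup.mk' N'
  set A : Subgroup (P ⧸ N') := N.map q with hA
  haveI : A.Normal := Subgroup.Normal.map inferInstance q (QuotientGroup.mk'_surjective N')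
  have hab : ∀ a ∈ A, ∀ b ∈ A, a * b = b * a := by
    rintro _ ⟨a, ha, rfl⟩ _ ⟨b, hb, rfl⟩
    rw [← map_mul, ← map_mul]
    refine QuotientGroup.eq.mpr ?_
    rw [hN', Subgroup.map_subtype_commutator]
    have h := Subgroup.commutator_mem_commutator (inv_mem hb) (inv_mem ha)
    simp only [commutatorElement_def, inv_inv] at h
    simpa [mul_assoc] using h
  have hAi : A.index = p := by
    rw [hA, Subgroup.index_map_eq _ (QuotientGroup.mk'_surjective N')
      (by rw [QuotientGroup.ker_mk']; exact hN'N), hN]
  have hAP : Nat.card A * p * Nat.card N' = Nat.card P := by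
    rw [← hAi, Subgroup.card_mul_index, Subgroup.card_eq_card_quotient_mul_card_subgroup N']
  have hcomm : Nat.card (commutator (P ⧸ N')) * (commutator P).index = Nat.card (P ⧸ N') := by
    have h1 : (commutator P).map q = commutator (P ⧸ N') := by
      rw [commutator_def, Subgroup.map_commutator, ← MonoidHom.range_eq_map,
        MonoidHom.range_eq_top.mpr (QuotientGroup.mk'_surjective N'), commutator_def]
    have h2 : (commutator (P ⧸ N')).index = (commutator P).index := by
      rw [← h1, Subgroup.index_map_eq _ (QuotientGroup.mk'_surjective N')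
        (by rw [QuotientGroup.ker_mk']; exact hN'P)]
    rw [← h2, Subgroup.card_mul_index]
  have key : ∀ x : P, x ∉ N →
      Nat.card {n : N // x * n * x⁻¹ * (n : P)⁻¹ ∈ N'} * p
        = Nat.card N' * (commutator P).index := by
    intro x hx
    have hxA : q x ∉ A := by
      rintro ⟨n, hn, he⟩
      apply hx
      have h := QuotientGroup.eq.mp he
      simpa using N.mul_mem hn (hN'N h)
    have h1 := Lib.BlockAux.card_eq_ker_mul_commutator A hab (hAi ▸ hp) (q x) hxA
    set K := (Lib.BlockAux.commHom A hab (q x)).ker
    let S : Subgroup N := K.comap ((q.comp N.subtype).codRestrict A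
      (fun n => ⟨n, n.2, rfl⟩))
    have hS : Nat.card {n : N // x * n * x⁻¹ * (n : P)⁻¹ ∈ N'} = Nat.card S := by
      apply Nat.card_congr (Equiv.subtypeEquivRight _)
      intro n
      rw [← QuotientGroup.eq_one_iff]
      show _ ↔ Lib.BlockAux.commHom A hab (q x) _ = 1
      rw [Lib.BlockAux.commHom_apply]
      simp [q]
      rfl
    have hsurj : Function.Surjective ((q.comp N.subtype).codRestrict A
        (fun n => ⟨n, n.2, rfl⟩) : N →* A) := by
      rintro ⟨_, n, hn, rfl⟩; exact ⟨⟨n, hn⟩, rfl⟩
    have hkerS : S.index = K.index := Subgroup.index_comap_of_surjective K hsurj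
    have hNc : Nat.card N = Nat.card A * Nat.card N' := by
      have := Subgroup.card_mul_index N
      rw [hN, ← hAP, mul_right_comm (Nat.card A) p] at this
      exact Nat.eq_of_mul_eq_mul_right hp.pos this
    have h3 := Subgroup.card_mul_index S
    rw [hkerS, hNc] at h3
    have h4 := Subgroup.card_mul_index K
    have h5 : Nat.card S = Nat.card K * Nat.card N' := by
      have hi : 0 < K.index := Nat.pos_of_ne_zero K.index_ne_zero_of_finite
      apply Nat.eq_of_mul_eq_mul_right hi
      rw [h3, ← h4]; ring
    have h6 : Nat.card K * p = (commutator P).index := by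
      have hpos : 0 < Nat.card (commutator (P ⧸ N')) := Nat.card_pos
      apply Nat.eq_of_mul_eq_mul_left hpos
      rw [hcomm, ← A.card_mul_index, hAi, h1]; ring
    rw [hS, h5, ← h6]; ring
  have hiff : ∀ x : P, x ∉ N → ((commutator P).index = p ^ 2 ↔
      Nat.card {n : N // x * n * x⁻¹ * (n : P)⁻¹ ∈ N'} = p * Nat.card (commutator N)) := by
    intro x hx
    have h := key x hx
    rw [hcN] at h
    constructor
    · intro he
      rw [he] at h
      apply Nat.eq_of_mul_eq_mul_right hp.pos
      rw [h]; ring
    · intro he
      rw [he] at h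
      apply Nat.eq_of_mul_eq_mul_left (Nat.card_pos : 0 < Nat.card (commutator N))
      rw [← h]; ring
  obtain ⟨x₀, hx₀⟩ : ∃ x, x ∉ N := by
    by_contra h
    push Not at h
    have hT : N = ⊤ := eq_top_iff.mpr fun x _ => h x
    rw [hT, Subgroup.index_top] at hN
    exact hp.one_lt.ne hN
  exact ⟨⟨fun h x hx => (hiff x hx).mp h, fun h => (hiff x₀ hx₀).mpr (h x₀ hx₀)⟩,
    ⟨fun h => ⟨x₀, hx₀, (hiff x₀ hx₀).mp h⟩, fun ⟨x, hx, h⟩ => (hiff x hx).mpr h⟩⟩

end Cfsg.Agent.S4586
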