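import Cfsg.Statements.S4591
import Cfsg.Agent.Lib.Characters.PPrimeDegree
import Cfsg.Agent.Lib.Cores.Basic

set_option autoImplicit false
open Cfsg

open scoped commutatorElement

namespace Cfsg.Agent.S4591

variable {G : Type*} [Group G] [Finite G] {p : ℕ} [Fact p.Prime]

/-- A normal subgroup meeting the centralizer of a Sylow subgroup trivially has order prime to `p`. -/
theorem not_dvd_card_of_inf_centralizer_eq_bot (P : Sylow p G) (N : Subgroup G) [hn : N.Normal]
    (hN : N ⊓ Subgroup.centralizer ((P : Subgroup G) : Set G) = ⊥) : ¬ p ∣ Nat.card N := by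
  intro hd
  obtain ⟨x, hx⟩ := exists_prime_orderOf_dvd_card' (G := N) p hd
  obtain ⟨S, hS⟩ := (IsPGroup.of_card (n := 1) (by
    rw [Nat.card_zpowers, Subgroup.orderOf_coe, hx, pow_one]) :
      IsPGroup p (Subgroup.zpowers (x : G))).exists_le_sylow
  obtain ⟨g, rfl⟩ := MulAction.exists_smul_eq G P S
  obtain ⟨y, hy, hyx'⟩ := hS (Subgroup.mem_zpowers _)
  have hyx : g * y * g⁻¹ = (x : G) := hyx'
  have hyN : y ∈ N := by
    have h := hn.conj_mem _ x.2 g⁻¹
    rw [← hyx] at h
    simpa [mul_assoc] using h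
  have hy1 : y ≠ 1 := by
    rintro rfl
    rw [mul_one, mul_inv_cancel] at hyx
    rw [← Subgroup.orderOf_coe, ← hyx, orderOf_one] at hx
    exact (Fact.out : p.Prime).ne_one hx.symm
  haveI : (N.subgroupOf (P : Subgroup G)).Normal := hn.subgroupOf _
  obtain ⟨z, hz, hzc, hzp⟩ := Lib.Transfer.exists_central_orderOf_eq P.isPGroup'
    (N.subgroupOf (P : Subgroup G)) (fun h => hy1 (congrArg Subtype.val
      ((Subgroup.eq_bot_iff_forall _).mp h ⟨y, hy⟩ hyN)))
  have : (z : G) ∈ N ⊓ Subgroup.centralizer ((P : Subgroup G) : Set G) :=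
    ⟨hz, Subgroup.mem_centralizer_iff.mpr fun a ha =>
      congrArg Subtype.val (Subgroup.mem_center_iff.mp hzc ⟨a, ha⟩)⟩
  rw [hN, Subgroup.mem_bot] at this
  rw [← Subgroup.orderOf_coe, this, orderOf_one] at hzp
  exact (Fact.out : p.Prime).ne_one hzp.symm

/-- The normal core of `N P'` lies in the kernel of every character of degree prime to `p`. -/
theorem core_le_kernel (P : Sylow p G) (N : Subgroup G) [N.Normal]
    (hN : N ⊓ Subgroup.centralizer ((P : Subgroup G) : Set G) = ⊥) (χ : Cfsg.IrrCharacter G)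
    (hχ : ¬ p ∣ Cfsg.charDegree (χ : G → ℂ)) :
    ∀ g ∈ (N ⊔ ⁅(P : Subgroup G), (P : Subgroup G)⁆).normalCore, (χ : G → ℂ) g = (χ : G → ℂ) 1 := by
  classical
  haveI := Fintype.ofFinite G
  haveI := Fintype.ofFinite N
  obtain ⟨n, -, hn⟩ := Lib.Characters.IsIrrCharacter.exists_apply_one χ.2
  rw [Lib.Characters.charDegree_eq_of_apply_one hn] at hχ
  have hχc := Lib.Characters.irr_isCharacter χ
  have hNp := not_dvd_card_of_inf_centralizer_eq_bot P N hN
  have hNcop : (Nat.card N).Coprime p := ((Fact.out : p.Prime).coprime_iff_not_dvd.mpr hNp).symm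
  -- `N` is in the kernel
  have hker : ∀ a ∈ N, (χ : G → ℂ) a = (χ : G → ℂ) 1 := by
    have hχN := Lib.Characters.IsCharacter.restrict hχc N
    haveI := Fintype.ofFinite (Cfsg.IrrCharacter N)
    obtain ⟨m, hm, hmi⟩ := Lib.Characters.IsCharacter.exists_nat_decomp hχN
    letI : MulAction (P : Subgroup G) (Cfsg.IrrCharacter N) :=
      { smul := fun g θ => ⟨Lib.Characters.conjFun N (g : G)⁻¹ (θ : N → ℂ),
          Lib.Characters.IsIrrCharacter.conjFun N θ.2 _⟩
        one_smul := fun θ => Subtype.ext (by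
          show Lib.Characters.conjFun N ((1 : (P : Subgroup G)) : G)⁻¹ (θ : N → ℂ) = θ
          rw [Subgroup.coe_one, inv_one, Lib.Characters.conjFun_one])
        mul_smul := fun g h θ => Subtype.ext (by
          show Lib.Characters.conjFun N ((g * h : (P : Subgroup G)) : G)⁻¹ (θ : N → ℂ) =
            Lib.Characters.conjFun N (g : G)⁻¹ (Lib.Characters.conjFun N (h : G)⁻¹ (θ : N → ℂ))
          rw [Subgroup.coe_mul, mul_inv_rev, Lib.Characters.conjFun_mul]) }
    have hsmul : ∀ (g : (P : Subgroup G)) (θ : Cfsg.IrrCharacter N),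
        ((g • θ : Cfsg.IrrCharacter N) : N → ℂ) = Lib.Characters.conjFun N (g : G)⁻¹ (θ : N → ℂ) :=
      fun _ _ => rfl
    have hone : classInner (fun a : N => (χ : G → ℂ) a) (fun _ => 1) ≠ 0 := by
      intro h0
      obtain ⟨z, hz, hsum⟩ := Lib.Characters.exists_sum_eq_prime_mul P.isPGroup'
        (fun θ : Cfsg.IrrCharacter N => (m θ : ℂ) * (θ : N → ℂ) 1)
        (fun g θ => by
          rw [← hmi, ← hmi, hsmul, Lib.Characters.classInner_restrict_conjFun N
            (Lib.Characters.IsCharacter.isClassFunction hχc), Lib.Characters.conjFun_apply_one])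
        (fun θ => (Lib.Characters.isIntegral_natCast_complex _).mul
          (Lib.Characters.IsCharacter.isIntegral (Lib.Characters.irr_isCharacter θ) _))
        (fun θ hθ => by
          have h1 : (θ : N → ℂ) = fun _ => 1 :=
            Lib.Characters.eq_one_of_invariant_of_centralizer_eq_bot N P.isPGroup' hNcop hN θ.2
              fun g hg => by
                have := congrArg Subtype.val (hθ ⟨g⁻¹, inv_mem hg⟩)
                rwa [hsmul, inv_inv] at this
          rw [← hmi, h1, h0, zero_mul])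
      refine hχ (Lib.Characters.dvd_of_eq_prime_mul hz ?_)
      rw [← hn, ← hsum]
      have := congrFun hm 1
      simpa using this
    have := Lib.Characters.restrict_eq_smul_of_invariant N χ.2 Lib.Characters.isIrrCharacter_one
      (fun g => rfl) hone
    intro a ha
    have h1 := congrFun this ⟨a, ha⟩
    have h2 := congrFun this 1
    simp only [Pi.smul_apply, OneMemClass.coe_one] at h1 h2
    rw [h1, h2]
  set L := (N ⊔ ⁅(P : Subgroup G), (P : Subgroup G)⁆).normalCore with hL
  haveI := Fintype.ofFinite L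
  haveI := Fintype.ofFinite (P : Subgroup G)
  have hNL : N ≤ L := Subgroup.normal_le_normalCore.mpr le_sup_left
  set D := L ⊓ (P : Subgroup G) with hD
  haveI := Fintype.ofFinite D
  have hNP : ∀ a ∈ N, a ∈ (P : Subgroup G) → a = 1 := fun a ha haP =>
    Lib.Transfer.eq_one_of_isPGroup_of_coprime P.isPGroup' haP
      (Lib.Transfer.coprime_orderOf_of_mem hNcop ha)
  let φ : N × D → L := fun x => ⟨(x.1 : G) * x.2, mul_mem (hNL x.1.2) x.2.2.1⟩
  have hφ : Function.Bijective φ := by
    refine ⟨fun x y hxy => ?_, fun l => ?_⟩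
    · have h : (x.1 : G) * x.2 = y.1 * y.2 := congrArg Subtype.val hxy
      have h1 : (y.1 : G)⁻¹ * x.1 = y.2 * (x.2 : G)⁻¹ := by
        rw [eq_mul_inv_iff_mul_eq, mul_assoc, h, inv_mul_cancel_left]
      have h2 := hNP _ (mul_mem (inv_mem y.1.2) x.1.2) (h1 ▸ mul_mem y.2.2.2 (inv_mem x.2.2.2))
      have h3 : (x.1 : G) = y.1 := (inv_mul_eq_one.mp h2).symm
      refine Prod.ext (Subtype.ext h3) (Subtype.ext ?_)
      rw [h3] at h
      exact mul_left_cancel h
    · obtain ⟨a, ha, c, hc, hac⟩ := Subgroup.mem_sup_of_normal_left.mp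
        (Subgroup.normalCore_le _ l.2)
      refine ⟨(⟨a, ha⟩, ⟨c, ?_, Subgroup.commutator_le_self _ hc⟩), Subtype.ext hac⟩
      show c ∈ L
      rw [show c = a⁻¹ * l by rw [← hac, inv_mul_cancel_left]]
      exact mul_mem (inv_mem (hNL ha)) l.2
  -- a linear constituent on `P`
  have hχP := Lib.Characters.IsCharacter.restrict hχc (P : Subgroup G)
  obtain ⟨lam, hlam, hlamp⟩ := Lib.Characters.exists_constituent_not_dvd hχP
    (d := n) (by simpa using hn) hχ
  obtain ⟨e, he0, he, hed⟩ := Lib.Characters.IsIrrCharacter.exists_degree_dvd lam.2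
  rw [Lib.Characters.charDegree_eq_of_apply_one he] at hlamp
  have he1 : e = 1 := by
    obtain ⟨k, hk⟩ := IsPGroup.iff_card.mp P.isPGroup'
    obtain ⟨j, -, hj⟩ := (Nat.dvd_prime_pow Fact.out).mp (hk ▸ hed)
    rcases j with _ | j
    · simpa using hj
    · exact absurd (hj ▸ dvd_pow_self p j.succ_ne_zero) hlamp
  rw [he1, Nat.cast_one] at he
  obtain ⟨ψ, hψ, hdec⟩ := Lib.Characters.IsCharacter.exists_add_of_classInner_ne_zero hχP lam.2 hlam
  have hDone : classInner (fun c : D => (χ : G → ℂ) c) (fun _ => 1) ≠ 0 := by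
    have hl : ∀ c : D, (lam : ↥(P : Subgroup G) → ℂ) ⟨c, c.2.2⟩ = 1 := by
      intro c
      obtain ⟨a, ha, b, hb, hab⟩ := Subgroup.mem_sup_of_normal_left.mp
        (Subgroup.normalCore_le _ c.2.1)
      have ha1 : a = 1 := hNP a ha (by
        rw [show a = c * b⁻¹ by rw [← hab, mul_inv_cancel_right]]
        exact mul_mem c.2.2 (inv_mem (Subgroup.commutator_le_self _ hb)))
      rw [ha1, one_mul] at hab
      refine Lib.Characters.IsCharacter.apply_of_mem_commutator (Lib.Characters.irr_isCharacter lam) he ?_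
      rw [← Subgroup.map_subtype_commutator] at hb
      obtain ⟨b', hb', rfl⟩ := hb
      rwa [show (⟨(c : G), c.2.2⟩ : (P : Subgroup G)) = b' from Subtype.ext hab.symm]
    have h1 : (fun c : D => (χ : G → ℂ) c) =
        (fun _ => 1) + fun c : D => ψ ⟨c, c.2.2⟩ := funext fun c => by
      have h := congrFun hdec ⟨c, c.2.2⟩
      rw [Pi.add_apply, hl c] at h
      exact h
    rw [h1]
    exact Lib.Characters.IsCharacter.classInner_ne_zero_of_add Lib.Characters.isCharacter_one
      (Lib.Characters.IsCharacter.comp hψ (Subgroup.inclusion inf_le_right))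
      Lib.Characters.isCharacter_one
      (by rw [Lib.Characters.IsIrrCharacter.classInner_self Lib.Characters.isIrrCharacter_one]; exact one_ne_zero)
  have hLone : classInner (fun l : L => (χ : G → ℂ) l) (fun _ => 1) ≠ 0 := by
    intro h0
    apply hDone
    simp only [classInner, map_one, mul_one, mul_eq_zero, inv_eq_zero] at h0 ⊢
    rcases h0 with h0 | h0
    · exact absurd h0 (Nat.cast_ne_zero.mpr Nat.card_pos.ne')
    refine Or.inr ?_
    have hcalc : ∑ l : L, (χ : G → ℂ) l = (Fintype.card N : ℂ) * ∑ c : D, (χ : G → ℂ) c := by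
      rw [← (Equiv.ofBijective φ hφ).sum_comp (fun l : L => (χ : G → ℂ) l), Fintype.sum_prod_type,
        Finset.sum_congr rfl fun a _ => Finset.sum_congr rfl fun c _ =>
          show (χ : G → ℂ) ((Equiv.ofBijective φ hφ (a, c) : L) : G) = (χ : G → ℂ) c from ?_,
        Finset.sum_const, Finset.card_univ, nsmul_eq_mul]
      show (χ : G → ℂ) ((a : G) * c) = (χ : G → ℂ) c
      rw [← Lib.Characters.IsCharacter.conj_apply hχc ((a : G) * c) (c : G),
        show (c : G) * (a * c) * (c : G)⁻¹ = c * a by group,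
        Lib.Characters.IsCharacter.apply_mul_of_mem_kernel hχc (hker a a.2)]
    rw [hcalc, mul_eq_zero] at h0
    exact h0.resolve_left (Nat.cast_ne_zero.mpr Fintype.card_ne_zero)
  have := Lib.Characters.restrict_eq_smul_of_invariant L χ.2 Lib.Characters.isIrrCharacter_one
    (fun g => rfl) hLone
  intro a ha
  have h1 := congrFun this ⟨a, ha⟩
  have h2 := congrFun this 1
  simp only [Pi.smul_apply, OneMemClass.coe_one] at h1 h2
  rw [h1, h2]

/-- A subgroup killed by every character of degree prime to `p` lies in `N P'`. -/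
theorem kernel_le (P : Sylow p G) (N : Subgroup G)
    (hmax : ∀ L : Subgroup G, L.Normal → L ⊓ Subgroup.centralizer ((P : Subgroup G) : Set G) = ⊥ → L ≤ N)
    (K : Subgroup G) [hKn : K.Normal]
    (hK : ∀ g ∈ K, ∀ χ : Cfsg.IrrCharacter G, ¬ p ∣ Cfsg.charDegree (χ : G → ℂ) →
      (χ : G → ℂ) g = (χ : G → ℂ) 1) :
    K ≤ N ⊔ ⁅(P : Subgroup G), (P : Subgroup G)⁆ := by
  classical
  haveI := Fintype.ofFinite G
  haveI := Fintype.ofFinite (P : Subgroup G)
  have hKP : ∀ x ∈ K, x ∈ (P : Subgroup G) → x ∈ ⁅(P : Subgroup G), (P : Subgroup G)⁆ := by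
    intro x hxK hxP
    by_contra hx
    have hq : (QuotientGroup.mk' (commutator (P : Subgroup G)) ⟨x, hxP⟩) ≠ 1 := fun h => hx (by
      rw [← Subgroup.map_subtype_commutator]
      exact ⟨_, (QuotientGroup.eq_one_iff _).mp h, rfl⟩)
    obtain ⟨ψ, hψ⟩ := Lib.Characters.exists_irr_ne_apply_one hq
    have hψ1 : (ψ : ((P : Subgroup G) ⧸ commutator (P : Subgroup G)) → ℂ) 1 = 1 := Lib.Characters.IsIrrCharacter.apply_one_of_comm
      (fun a b => by
        induction a using QuotientGroup.induction_on with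
        | H a =>
          induction b using QuotientGroup.induction_on with
          | H b =>
            exact QuotientGroup.eq.mpr (by
              rw [show (a * b)⁻¹ * (b * a) = ⁅b⁻¹, a⁻¹⁆ by rw [commutatorElement_def]; group]
              exact Subgroup.commutator_mem_commutator (Subgroup.mem_top _) (Subgroup.mem_top _))) ψ.2
    set lam : ↥(P : Subgroup G) → ℂ := (ψ : ((P : Subgroup G) ⧸ commutator (P : Subgroup G)) → ℂ) ∘ QuotientGroup.mk' (commutator (P : Subgroup G))
      with hlamdef
    have hlamc : Cfsg.IsCharacter (P : Subgroup G) lam :=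
      Lib.Characters.IsCharacter.comp (Lib.Characters.irr_isCharacter ψ) _
    have hlam1 : lam 1 = 1 := by simpa [hlamdef] using hψ1
    obtain ⟨χ, hc, hχ⟩ := Lib.Characters.exists_constituent_not_dvd
      (Lib.Characters.IsCharacter.indFun (P : Subgroup G) hlamc) (d := (P : Subgroup G).index)
      (by rw [Lib.Characters.indFun_one, hlam1, mul_one]) P.not_dvd_index
    rw [Lib.Characters.classInner_indFun _ _ (Lib.Characters.irr_isClassFunction χ)] at hc
    have h := Lib.Characters.apply_eq_of_classInner_ne_zero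
      (χ := fun y : (P : Subgroup G) => (χ : G → ℂ) y)
      (Lib.Characters.IsCharacter.restrict (Lib.Characters.irr_isCharacter χ) _)
      (Lib.Characters.IsCharacter.isIrr_of_apply_one hlamc hlam1)
      (g := ⟨x, hxP⟩) (fun h0 => hc (by rw [← Lib.Characters.classInner_conj_symm, h0, map_zero]))
      (by simpa using hK x hxK χ hχ)
    exact hψ (by simpa [hlamdef] using h)
  set X := K ⊔ (P : Subgroup G) with hX
  have hPX : (P : Subgroup G) ≤ X := le_sup_right
  set PX := P.subtype hPX with hPXdef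
  obtain ⟨k, hk⟩ := IsPGroup.iff_card.mp P.isPGroup'
  have hidx : ∃ j, (K.subgroupOf X).index = p ^ j := by
    have h1 : K.relIndex X ∣ p ^ k := by
      rw [hX, sup_comm, Subgroup.relIndex_sup_right, ← hk]
      exact Subgroup.relIndex_dvd_card _ _
    obtain ⟨j, -, hj⟩ := (Nat.dvd_prime_pow Fact.out).mp h1
    exact ⟨j, hj⟩
  obtain ⟨j, hj⟩ := hidx
  have hres : Cfsg.pResidual p X ≤ K.subgroupOf X := Lib.Transfer.pResidual_le_of_index hj
  have hXc : Cfsg.HasNormalPComplement p X := by
    rw [Lib.Transfer.hasNormalPComplement_iff_inf_eq_bot PX,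
      Lib.Transfer.inf_pResidual_eq PX (le_refl (PX : Subgroup X)) ?_,
      Lib.Transfer.pResidual_eq_bot PX.isPGroup', Subgroup.map_bot, inf_bot_eq]
    refine le_trans (fun x hx => ?_) (le_sup_of_le_left le_sup_right)
    have h1 := hKP x (hres hx.2) hx.1
    have h2 : (⁅(PX : Subgroup X), (PX : Subgroup X)⁆).map X.subtype =
        ⁅(P : Subgroup G), (P : Subgroup G)⁆ := by
      rw [Subgroup.map_commutator, hPXdef, Sylow.coe_subtype, Subgroup.map_subgroupOf_eq_of_le hPX]
    rw [← h2] at h1
    obtain ⟨y, hy, hyx⟩ := h1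
    rwa [← Subtype.ext hyx]
  have hKc : Cfsg.HasNormalPComplement p K := Lib.Transfer.hasNormalPComplement_of_le le_sup_left hXc
  set R := (Cfsg.pResidual p K).map K.subtype with hR
  haveI hRn : R.Normal := Lib.Cores.normal_map_subtype_of_char K _
  have hRcop : (Nat.card R).Coprime p := by
    rw [hR, Subgroup.card_map_of_injective K.subtype_injective]
    exact Lib.Transfer.hasNormalPComplement_iff_coprime.mp hKc
  have hRC : R ⊓ Subgroup.centralizer ((P : Subgroup G) : Set G) = ⊥ := by
    by_contra hne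
    obtain ⟨θ, hθ, hθ1, hinv⟩ := Lib.Characters.exists_invariant_ne_one R P.isPGroup' hne
    obtain ⟨η, hη, hres'⟩ := Lib.Characters.exists_extension_sup R P.isPGroup' hRcop hθ hinv
    obtain ⟨d, -, hd, hdvd⟩ := Lib.Characters.IsIrrCharacter.exists_degree_dvd hθ
    have hη1 : η 1 = d := by
      rw [← hd, ← hres' 1]
      rfl
    haveI := Fintype.ofFinite ↥(R ⊔ (P : Subgroup G))
    obtain ⟨χ, hc, hχ⟩ := Lib.Characters.exists_constituent_not_dvd
      (Lib.Characters.IsCharacter.indFun (R ⊔ (P : Subgroup G))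
        (Lib.Characters.IsIrrCharacter.isCharacter hη)) (d := (R ⊔ (P : Subgroup G)).index * d)
      (by rw [Lib.Characters.indFun_one, hη1, Nat.cast_mul]) (by
        intro h
        rcases (Fact.out : p.Prime).dvd_mul.mp h with h | h
        · exact P.not_dvd_index (h.trans (Subgroup.index_dvd_of_le le_sup_right))
        · exact (Fact.out : p.Prime).not_dvd_one (hRcop ▸ Nat.dvd_gcd (h.trans hdvd) dvd_rfl))
    rw [Lib.Characters.classInner_indFun _ _ (Lib.Characters.irr_isClassFunction χ)] at hc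
    obtain ⟨g, hg⟩ := Lib.Characters.IsIrrCharacter.exists_ne_apply_one hθ hθ1
    apply hg
    rw [← hres' g, hd, ← hη1]
    exact Lib.Characters.apply_eq_of_classInner_ne_zero
      (χ := fun y : ↥(R ⊔ (P : Subgroup G)) => (χ : G → ℂ) y)
      (Lib.Characters.IsCharacter.restrict (Lib.Characters.irr_isCharacter χ) _) hη
      (fun h0 => hc (by rw [← Lib.Characters.classInner_conj_symm, h0, map_zero]))
      (by simpa using hK g (Subgroup.map_subtype_le _ g.2) χ hχ)
  have hRN : R ≤ N := hmax R hRn hRC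
  intro g hg
  have hgX : (⟨g, Subgroup.mem_sup_left hg⟩ : X) ∈ (PX : Subgroup X) ⊔ Cfsg.pResidual p X := by
    rw [Lib.Transfer.sylow_sup_pResidual]
    trivial
  obtain ⟨y, hy, r, hr, hyr⟩ := Subgroup.mem_sup_of_normal_right.mp hgX
  have hg' : (y : G) * (r : G) = g := congrArg Subtype.val hyr
  have hyK : (y : G) ∈ K := by
    rw [show (y : G) = g * (r : G)⁻¹ by rw [← hg', mul_inv_cancel_right]]
    exact mul_mem hg (inv_mem (hres hr))
  rw [← hg']
  refine mul_mem (Subgroup.mem_sup_right (hKP _ hyK hy)) (Subgroup.mem_sup_left (hRN ?_))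
  refine ⟨⟨(r : G), hres hr⟩, Lib.Transfer.mem_pResidual_of_coprime ?_, rfl⟩
  rw [← Subgroup.orderOf_coe]
  show (orderOf (r : G)).Coprime p
  rw [Subgroup.orderOf_coe]
  exact Lib.Transfer.coprime_orderOf_of_mem (Lib.Transfer.hasNormalPComplement_iff_coprime.mp hXc) hr


/-- Let G be a finite group, p a prime and P a Sylow p-subgroup, and let N be the largest normal subgroup of G in which P has trivial centralizer (N is normal with C_N(P) = 1 and contains every normal subgroup with that property). Then the intersection of the kernels of the irreducible characters of G of degree prime to p is the normal core in G of the subgroup N·P' (P' the derived subgroup of P). In particular, when G has no nontrivial normal subgroup of order prime to p, that intersection is the normal core of P'. -/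
theorem result {G : Type*} [Group G] [Finite G] (p : ℕ) [Fact p.Prime] (P : Sylow p G) (N : Subgroup G) [N.Normal]
    (hN : N ⊓ Subgroup.centralizer ((P : Subgroup G) : Set G) = ⊥)
    (hmax : ∀ L : Subgroup G, L.Normal → L ⊓ Subgroup.centralizer ((P : Subgroup G) : Set G) = ⊥ → L ≤ N) :
    {g : G | ∀ χ : Cfsg.IrrCharacter G, ¬ p ∣ Cfsg.charDegree (χ : G → ℂ) → (χ : G → ℂ) g = (χ : G → ℂ) 1} =
      ((N ⊔ ⁅(P : Subgroup G), (P : Subgroup G)⁆).normalCore : Set G) := by
  classical
  set K : Subgroup G := ⨅ χ : {χ : Cfsg.IrrCharacter G // ¬ p ∣ Cfsg.charDegree (χ : G → ℂ)},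
    Lib.Characters.charKernel (Lib.Characters.irr_isCharacter χ.1) with hKdef
  have hmem : ∀ g, g ∈ K ↔ ∀ χ : Cfsg.IrrCharacter G, ¬ p ∣ Cfsg.charDegree (χ : G → ℂ) →
      (χ : G → ℂ) g = (χ : G → ℂ) 1 := fun g => by
    simp [hKdef, Subgroup.mem_iInf, Lib.Characters.mem_charKernel]
  have hKn : K.Normal := Subgroup.normal_iInf_normal fun χ => inferInstance
  have heq : K = (N ⊔ ⁅(P : Subgroup G), (P : Subgroup G)⁆).normalCore :=
    le_antisymm (Subgroup.normal_le_normalCore.mpr
      (kernel_le P N hmax K fun g hg => (hmem g).mp hg))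
      (fun g hg => (hmem g).mpr fun χ hχ => core_le_kernel P N hN χ hχ g hg)
  rw [← heq]
  ext g
  exact (hmem g).symm

end Cfsg.Agent.S4591
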