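import Cfsg.Statements.S4593
import Cfsg.Agent.Lib.InvChar.ZStarTheorem
import Cfsg.Agent.Lib.Cores.PCore

set_option autoImplicit false
open Cfsg

namespace Cfsg.Agent.S4593

open scoped Pointwise

variable {X : Type*} [Group X] [Finite X]

/-- An element of an abelian Sylow subgroup centralised by its normaliser is isolated. -/
theorem isIsolated_of_central {q : ℕ} [Fact q.Prime] (T : Sylow q X)
    (hab : IsMulCommutative (T : Subgroup X)) {c : X} (hc : c ∈ (T : Subgroup X))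
    (hN : ∀ n ∈ Subgroup.normalizer ((T : Subgroup X) : Set X), n * c = c * n) :
    IsIsolated c := by
  haveI := hab
  intro g hcomm
  set d := g * c * g⁻¹ with hd
  obtain ⟨k, hk⟩ := IsPGroup.iff_orderOf.1 T.isPGroup' ⟨c, hc⟩
  rw [Subgroup.orderOf_mk] at hk
  have hdo : orderOf d = q ^ k := by
    rw [← hk]; exact orderOf_injective (MulAut.conj g).toMonoidHom (MulAut.conj g).injective c
  have hle : Subgroup.zpowers d ≤ Subgroup.normalizer (Subgroup.zpowers c : Set X) := by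
    refine le_trans (fun z hz => ?_) (Subgroup.centralizer_le_normalizer (s := (Subgroup.zpowers c : Set X)))
    rw [Subgroup.mem_centralizer_iff]
    intro y hy
    obtain ⟨i, rfl⟩ := hy
    obtain ⟨l, rfl⟩ := hz
    exact (hcomm.zpow_zpow i l).eq
  have hp2 : IsPGroup q (Subgroup.zpowers d ⊔ Subgroup.zpowers c : Subgroup X) :=
    IsPGroup.to_sup_of_normal_right'
      (IsPGroup.of_card (n := k) (by rw [Nat.card_zpowers, hdo]))
      (IsPGroup.of_card (n := k) (by rw [Nat.card_zpowers, hk])) hle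
  obtain ⟨T', hT'⟩ := hp2.exists_le_sylow
  obtain ⟨w, hw⟩ := MulAction.exists_smul_eq X T T'
  have key : ∀ z : X, (∃ u, z = u * c * u⁻¹) → z ∈ (T' : Subgroup X) → z = w * c * w⁻¹ := by
    intro z hu hz
    have hz' : w⁻¹ * z * w ∈ (T : Subgroup X) := by
      rw [← hw, Sylow.coe_subgroup_smul, Subgroup.mem_pointwise_smul_iff_inv_smul_mem] at hz
      simpa using hz
    obtain ⟨u, rfl⟩ := hu
    have e0 : w⁻¹ * (u * c * u⁻¹) * w = (u⁻¹ * w)⁻¹ * c * (u⁻¹ * w) := by group
    rw [e0] at hz'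
    obtain ⟨n, hn, he⟩ := T.conj_eq_normalizer_conj_of_mem c (u⁻¹ * w) hc hz'
    rw [mul_assoc n⁻¹, ← hN n hn, inv_mul_cancel_left] at he
    calc u * c * u⁻¹ = w * (w⁻¹ * (u * c * u⁻¹) * w) * w⁻¹ := by group
      _ = w * c * w⁻¹ := by rw [e0, he]
  have hc' : c = w * c * w⁻¹ :=
    key c ⟨1, by simp⟩ (hT' (Subgroup.mem_sup_right (Subgroup.mem_zpowers c)))
  have hd' : d = w * c * w⁻¹ :=
    key d ⟨g, rfl⟩ (hT' (Subgroup.mem_sup_left (Subgroup.mem_zpowers d)))
  exact hd'.trans hc'.symm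

theorem exists_fixed_translate (T : Sylow 2 X) (hab : IsMulCommutative (T : Subgroup X))
    (C : Subgroup X) [C.Normal] (hcom : ∀ n a : X, n * a * n⁻¹ * a⁻¹ ∈ C)
    {a : X} (ha : a ∈ (T : Subgroup X)) :
    ∃ y ∈ (T : Subgroup X), y ∈ C ∧
      ∀ n ∈ Subgroup.normalizer ((T : Subgroup X) : Set X), n * (a * y) = a * y * n := by
  classical
  letI : CommGroup (T : Subgroup X) :=
    { (inferInstance : Group (T : Subgroup X)) with mul_comm := hab.is_comm.comm }
  set N := Subgroup.normalizer ((T : Subgroup X) : Set X) with hNdef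
  let Q := N ⧸ (T : Subgroup X).subgroupOf N
  haveI : Fintype Q := Fintype.ofFinite _
  have hmem : ∀ n : N, (n : X) * a * (n : X)⁻¹ ∈ (T : Subgroup X) := fun n =>
    (Subgroup.mem_normalizer_iff.1 n.2 a).1 ha
  let f : N → (T : Subgroup X) := fun n => ⟨(n : X) * a * (n : X)⁻¹, hmem n⟩
  have hf : ∀ n m : N, (QuotientGroup.mk n : Q) = QuotientGroup.mk m → f n = f m := by
    intro n m h
    rw [QuotientGroup.eq, Subgroup.mem_subgroupOf] at h
    refine Subtype.ext ?_
    let u : (T : Subgroup X) := ⟨_, h⟩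
    have h0 : u * ⟨a, ha⟩ = ⟨a, ha⟩ * u := mul_comm _ _
    have h1 : (n : X)⁻¹ * m * a = a * ((n : X)⁻¹ * m) := congrArg Subtype.val h0
    show (n : X) * a * (n : X)⁻¹ = (m : X) * a * (m : X)⁻¹
    rw [eq_comm, mul_inv_eq_iff_eq_mul]
    calc (m : X) * a = n * ((n : X)⁻¹ * m * a) := by group
      _ = n * (a * ((n : X)⁻¹ * m)) := by rw [h1]
      _ = (n : X) * a * (n : X)⁻¹ * m := by group
  let F : Q → (T : Subgroup X) := fun q => f q.out
  set π := ∏ q : Q, F q with hπ
  have hπN : ∀ n : N, (n : X) * (π : X) * (n : X)⁻¹ = π := by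
    intro n
    let c : (T : Subgroup X) →* (T : Subgroup X) :=
      MonoidHom.mk' (fun t => ⟨(n : X) * t * (n : X)⁻¹,
        (Subgroup.mem_normalizer_iff.1 n.2 t).1 t.2⟩) fun s t => Subtype.ext (by simp [mul_assoc])
    have h1 : c π = π := by
      rw [hπ, map_prod]
      refine Fintype.prod_equiv (MulAction.toPerm n) _ _ fun q => ?_
      have h2 : (QuotientGroup.mk (n * q.out) : Q) = QuotientGroup.mk ((n • q).out) := by
        refine Eq.trans ?_ (QuotientGroup.out_eq' (n • q)).symm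
        exact congrArg (fun r : Q => n • r) (QuotientGroup.out_eq' q)
      show c (f q.out) = f ((n • q).out)
      rw [← hf _ _ h2]
      exact Subtype.ext (by simp [c, f, mul_assoc])
    exact congrArg Subtype.val h1
  have hprod : ∀ s : Finset Q, ∃ y : (T : Subgroup X), (y : X) ∈ C ∧
      ∏ q ∈ s, F q = (⟨a, ha⟩ : (T : Subgroup X)) ^ s.card * y := by
    intro s
    induction s using Finset.induction with
    | empty => exact ⟨1, C.one_mem, by simp⟩
    | insert q s hq ih =>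
      obtain ⟨y, hy, he⟩ := ih
      refine ⟨⟨a, ha⟩⁻¹ * F q * y, C.mul_mem ?_ hy, ?_⟩
      · have h1 := hcom (q.out : X) a
        have h2 := (inferInstance : C.Normal).conj_mem _ h1 a⁻¹
        have e : a⁻¹ * ((q.out : X) * a * (q.out : X)⁻¹) =
            a⁻¹ * ((q.out : X) * a * (q.out : X)⁻¹ * a⁻¹) * a⁻¹⁻¹ := by group
        show a⁻¹ * ((q.out : X) * a * (q.out : X)⁻¹) ∈ C
        rwa [e]
      · rw [Finset.prod_insert hq, he, Finset.card_insert_of_notMem hq, pow_succ]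
        rw [mul_assoc (_ ^ s.card) _ (_ * _), mul_assoc (_⁻¹) (F q), mul_inv_cancel_left,
          mul_left_comm]
  obtain ⟨y, hy, he⟩ := hprod Finset.univ
  rw [← hπ, Finset.card_univ, ← Nat.card_eq_fintype_card] at he
  have hodd : Nat.Coprime (Nat.card Q) (orderOf (⟨a, ha⟩ : (T : Subgroup X))) := by
    obtain ⟨j, hj⟩ := IsPGroup.iff_orderOf.1 T.isPGroup' ⟨a, ha⟩
    rw [hj]
    refine Nat.Coprime.pow_right j ((Nat.prime_two.coprime_iff_not_dvd.2 ?_).symm)
    intro h2
    exact T.not_dvd_index (h2.trans (Subgroup.relIndex_dvd_index_of_le Subgroup.le_normalizer))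
  obtain ⟨k, hk⟩ := exists_pow_eq_self_of_coprime hodd
  refine ⟨((y ^ k : (T : Subgroup X)) : X), (y ^ k).2, ?_, fun n hn => ?_⟩
  · rw [Subgroup.coe_pow]; exact C.pow_mem hy k
  · have hb : a * ((y ^ k : (T : Subgroup X)) : X) = (π : X) ^ k := by
      rw [he, ← Subgroup.coe_pow, mul_pow, hk, Subgroup.coe_mul]
    rw [hb]
    have := (mul_inv_eq_iff_eq_mul.1 (hπN ⟨n, hn⟩) : n * (π : X) = π * n)
    exact (Commute.pow_right this k).eq

/-- Let G be a finite group with trivial centre and no nontrivial normal subgroup of odd order, whose Sylow 2-subgroups are abelian, and let P be a Sylow 2-subgroup. Every automorphism of G of 2-power order that fixes P elementwise is inner. -/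
theorem result {G : Type*} [Group G] [Finite G] (hZ : Subgroup.center G = ⊥) (hcore : Cfsg.pPrimeCore 2 G = ⊥) (P : Sylow 2 G) (hab : IsMulCommutative (P : Subgroup G))
    (α : MulAut G) (h2 : ∃ j : ℕ, orderOf α = 2 ^ j) (hfix : ∀ x ∈ (P : Subgroup G), α x = x) :
    ∃ g : G, ∀ x : G, α x = g * x * g⁻¹ := by
  classical
  haveI : Fact (Nat.Prime 2) := ⟨Nat.prime_two⟩
  haveI : Finite (MulAut G) := Finite.of_injective (fun e : MulAut G => (e : G → G))
    fun a b h => MulEquiv.ext fun x => congrFun h x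
  have hconj : ∀ (β : MulAut G) (g : G), β * MulAut.conj g * β⁻¹ = MulAut.conj (β g) := fun β g =>
    MulEquiv.ext fun x => by simp
  set A := (MulAut.conj : G →* MulAut G) with hA
  have hinj : Function.Injective A := by
    rw [← MonoidHom.ker_eq_bot_iff, eq_bot_iff]
    intro g hg
    rw [← hZ, Subgroup.mem_center_iff]
    intro x
    have h := congrArg (fun e : MulAut G => e x) (MonoidHom.mem_ker.1 hg)
    simp only [hA, MulAut.conj_apply, MulAut.one_apply] at h
    exact (mul_inv_eq_iff_eq_mul.1 h).symm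
  set X₀ : Subgroup (MulAut G) := A.range ⊔ Subgroup.zpowers α with hX₀
  let ι : G →* X₀ := A.codRestrict X₀ fun g => Subgroup.mem_sup_left ⟨g, rfl⟩
  have hι : Function.Injective ι := fun g h e => hinj (congrArg Subtype.val e)
  set C := ι.range with hC
  haveI hCn : C.Normal := ⟨by
    rintro _ ⟨g, rfl⟩ x
    exact ⟨(x : MulAut G) g, Subtype.ext (hconj x g).symm⟩⟩
  let a : X₀ := ⟨α, Subgroup.mem_sup_right (Subgroup.mem_zpowers α)⟩
  have hacomm : ∀ x ∈ (P : Subgroup G), Commute a (ι x) := fun x hx => Subtype.ext (by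
    show α * MulAut.conj x = MulAut.conj x * α
    rw [← mul_inv_eq_iff_eq_mul, hconj, hfix x hx])
  set P' : Subgroup X₀ := (P : Subgroup G).map ι with hP'
  have hle : Subgroup.zpowers a ≤ Subgroup.normalizer (P' : Set X₀) := by
    refine le_trans (fun z hz => ?_) (Subgroup.centralizer_le_normalizer (s := (P' : Set X₀)))
    rw [Subgroup.mem_centralizer_iff]
    rintro _ ⟨x, hx, rfl⟩
    obtain ⟨i, rfl⟩ := hz
    exact ((hacomm x hx).zpow_left i).eq.symm
  obtain ⟨j, hj⟩ := h2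
  have hp : IsPGroup 2 (Subgroup.zpowers a ⊔ P' : Subgroup X₀) :=
    IsPGroup.to_sup_of_normal_right'
      (IsPGroup.of_card (n := j) (by rw [Nat.card_zpowers, Subgroup.orderOf_mk, hj]))
      (P.isPGroup'.map ι) hle
  obtain ⟨T, hT⟩ := hp.exists_le_sylow
  -- the Sylow subgroup is the product
  have hTC : ∀ t ∈ (T : Subgroup X₀), t ∈ C → t ∈ P' := by
    intro t ht htC
    obtain ⟨g, rfl⟩ := htC
    have hmax := P.is_maximal' (T.isPGroup'.comap_of_injective ι hι)
      (fun x hx => hT (Subgroup.mem_sup_right ⟨x, hx, rfl⟩))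
    exact ⟨g, by rw [← hmax]; exact ht, rfl⟩
  have hdec : ∀ x : X₀, ∃ c ∈ C, ∃ i : ℤ, x = c * a ^ i := by
    intro x
    obtain ⟨u, hu, v, ⟨i, rfl⟩, he⟩ : ∃ u ∈ A.range, ∃ v ∈ Subgroup.zpowers α,
        u * v = (x : MulAut G) := by
      haveI : A.range.Normal := ⟨by rintro _ ⟨g, rfl⟩ β; exact ⟨β g, (hconj β g).symm⟩⟩
      exact Subgroup.mem_sup_of_normal_left.1 x.2
    obtain ⟨g, rfl⟩ := hu
    exact ⟨ι g, ⟨g, rfl⟩, i, Subtype.ext (by simpa [ι] using he.symm)⟩
  have hTab : IsMulCommutative (T : Subgroup X₀) := by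
    have hgen : ∀ t ∈ (T : Subgroup X₀), ∃ p ∈ (P : Subgroup G), ∃ i : ℤ, t = ι p * a ^ i := by
      intro t ht
      obtain ⟨c, hc, i, rfl⟩ := hdec t
      have hcT : c ∈ (T : Subgroup X₀) := by
        have := (T : Subgroup X₀).mul_mem ht ((T : Subgroup X₀).inv_mem
          ((T : Subgroup X₀).zpow_mem (hT (Subgroup.mem_sup_left (Subgroup.mem_zpowers a))) i))
        rwa [mul_inv_cancel_right] at this
      obtain ⟨p, hp', rfl⟩ := hTC c hcT hc
      exact ⟨p, hp', i, rfl⟩
    refine ⟨⟨fun s t => Subtype.ext ?_⟩⟩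
    obtain ⟨p, hp', i, hs⟩ := hgen s s.2
    obtain ⟨q, hq', l, ht⟩ := hgen t t.2
    haveI := hab
    have hpq : Commute (ι p) (ι q) := by
      refine Commute.map ?_ ι
      exact congrArg Subtype.val (hab.is_comm.comm (⟨p, hp'⟩ : (P : Subgroup G)) ⟨q, hq'⟩)
    show (s : X₀) * t = t * s
    rw [hs, ht]
    have e1 : Commute (a ^ i) (ι q) := (hacomm q hq').zpow_left i
    have e2 : Commute (a ^ l) (ι p) := (hacomm p hp').zpow_left l
    exact ((hpq.mul_right e2.symm).mul_left (e1.mul_right (Commute.zpow_zpow_self a i l))).eq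
  have hcom : ∀ n x : X₀, n * x * n⁻¹ * x⁻¹ ∈ C := by
    intro n x
    rw [← QuotientGroup.eq_one_iff]
    obtain ⟨c, hc, i, rfl⟩ := hdec n
    obtain ⟨c', hc', l, rfl⟩ := hdec x
    simp only [QuotientGroup.mk_mul, QuotientGroup.mk_inv, (QuotientGroup.eq_one_iff c).2 hc,
      (QuotientGroup.eq_one_iff c').2 hc', one_mul, QuotientGroup.mk_zpow]
    group
  have haT : a ∈ (T : Subgroup X₀) := hT (Subgroup.mem_sup_left (Subgroup.mem_zpowers a))
  obtain ⟨y, hyT, hyC, hN⟩ := exists_fixed_translate T hTab C hcom haT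
  obtain ⟨g, rfl⟩ := hTC y hyT hyC |> fun h => (⟨h.choose, h.choose_spec.2⟩ : ∃ g, ι g = y)
  set b := a * ι g with hb
  have hbT : b ∈ (T : Subgroup X₀) := (T : Subgroup X₀).mul_mem haT hyT
  suffices hb1 : b = 1 by
    refine ⟨g⁻¹, fun x => ?_⟩
    have h : α = MulAut.conj g⁻¹ := by
      rw [map_inv]
      exact mul_eq_one_iff_eq_inv.1 (congrArg Subtype.val hb1)
    rw [h, MulAut.conj_apply]
  by_contra hbne
  obtain ⟨i, hi⟩ := IsPGroup.iff_orderOf.1 T.isPGroup' ⟨b, hbT⟩
  rw [Subgroup.orderOf_mk] at hi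
  have hi0 : i ≠ 0 := fun h => hbne (orderOf_eq_one_iff.1 (by rw [hi, h, pow_zero]))
  obtain ⟨i, rfl⟩ := Nat.exists_eq_succ_of_ne_zero hi0
  set c := b ^ 2 ^ i with hc
  have hco : orderOf c = 2 := by
    rw [hc, orderOf_pow, hi, Nat.gcd_eq_right (pow_dvd_pow 2 i.le_succ),
      Nat.pow_div i.le_succ two_pos]
    simp
  have hcN : ∀ n ∈ Subgroup.normalizer ((T : Subgroup X₀) : Set X₀), n * c = c * n := fun n hn =>
    (Commute.pow_right (hN n hn : Commute n b) _).eq
  have hz := Cfsg.Agent.Lib.InvChar.inZStar_of_isIsolated hco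
    (isIsolated_of_central T hTab ((T : Subgroup X₀).pow_mem hbT _) hcN)
  have hfix' : ∀ z : X₀, (∀ g : G, Commute z (ι g)) → z = 1 := by
    intro z hz
    refine Subtype.ext (MulEquiv.ext fun x => ?_)
    have h1 : (z : MulAut G) * MulAut.conj x * (z : MulAut G)⁻¹ = MulAut.conj x :=
      mul_inv_eq_iff_eq_mul.2 (congrArg Subtype.val (hz x).eq)
    rw [hconj] at h1
    exact hinj h1
  have hO : pPrimeCore 2 X₀ = ⊥ := by
    have hcopX := Cfsg.Agent.Lib.Cores.pPrimeCore_coprime 2 X₀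
    have hbot : (pPrimeCore 2 X₀).comap ι = ⊥ := by
      rw [eq_bot_iff, ← hcore]
      refine Cfsg.Agent.Lib.Cores.le_pPrimeCore (Subgroup.Normal.comap inferInstance ι) ?_
      exact Nat.Coprime.coprime_dvd_left
        (Subgroup.card_comap_dvd_of_injective (pPrimeCore 2 X₀) ι hι) hcopX
    rw [eq_bot_iff]
    intro z hz
    rw [Subgroup.mem_bot]
    refine hfix' z fun g => ?_
    have h1 : z * ι g * z⁻¹ * (ι g)⁻¹ ∈ pPrimeCore 2 X₀ := by
      rw [mul_assoc, mul_assoc, ← mul_assoc (ι g)]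
      exact mul_mem hz ((inferInstance : (pPrimeCore 2 X₀).Normal).conj_mem _ (inv_mem hz) _)
    have h2 : z * ι g * z⁻¹ * (ι g)⁻¹ ∈ C :=
      C.mul_mem (hCn.conj_mem _ ⟨g, rfl⟩ z) (C.inv_mem ⟨g, rfl⟩)
    obtain ⟨u, hu⟩ := h2
    have h3 : u ∈ (pPrimeCore 2 X₀).comap ι := by rw [Subgroup.mem_comap, hu]; exact h1
    rw [hbot, Subgroup.mem_bot] at h3
    rw [h3, map_one] at hu
    exact mul_inv_eq_iff_eq_mul.1 (mul_inv_eq_one.1 hu.symm)
  have hcentral : c = 1 := hfix' c fun g => by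
    have h := hz (ι g)
    rw [hO, Subgroup.mem_bot, mul_inv_eq_one, mul_inv_eq_iff_eq_mul] at h
    exact h.symm
  rw [hcentral, orderOf_one] at hco
  exact absurd hco (by norm_num)

end Cfsg.Agent.S4593
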