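import Mathlib
import Cfsg.Statements.S4602
import Cfsg.Agent.Lib.Coprime.SylowNormalizes
import Cfsg.Agent.Lib.BlockHeights.PConstrainedCores

set_option autoImplicit false
open Cfsg

namespace Cfsg.Agent.S4602

open Cfsg.Agent.Lib
open Cfsg.Agent.Lib.Coprime

/-- Let G be a finite p-solvable group and q a prime different from p. Some Sylow p-subgroup of G normalizes some Sylow q-subgroup of G if and only if q does not divide the order of G/O_{p'}(G), the quotient by the largest normal subgroup of order prime to p. -/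
theorem result {G : Type*} [Group G] [Finite G] (p q : ℕ) [Fact p.Prime] [Fact q.Prime] (hpq : p ≠ q) (hsolv : Cfsg.IsPSolvable p G) :
    (∃ (P : Sylow p G) (Q : Sylow q G), (P : Subgroup G) ≤ Subgroup.normalizer ((Q : Subgroup G) : Set G)) ↔ ¬ q ∣ (Cfsg.pPrimeCore p G).index := by
  have := hsolv
  set K := Cfsg.pPrimeCore p G with hK
  have hKn : K.Normal := (Cores.pPrimeCore_mem p G).1
  constructor
  · rintro ⟨P, Q, hPQ⟩
    set π := QuotientGroup.mk' K with hπd
    have hπ : Function.Surjective π := QuotientGroup.mk'_surjective K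
    set C := Cfsg.pCore p (G ⧸ K) with hC
    have hQK : (Q : Subgroup G).map π = ⊥ := by
      set Qb := Q.mapSurjective hπ with hQb
      set Pb := P.mapSurjective hπ with hPb
      have hn : (Pb : Subgroup (G ⧸ K)) ≤ Subgroup.normalizer ((Qb : Subgroup (G ⧸ K)) : Set (G ⧸ K)) := by
        rw [hPb, hQb, Sylow.coe_mapSurjective, Sylow.coe_mapSurjective]
        exact (Subgroup.map_mono hPQ).trans (Subgroup.le_normalizer_map π)
      have hdis : Disjoint C (Qb : Subgroup (G ⧸ K)) :=
        IsPGroup.disjoint_of_ne p q hpq _ _ (Cores.pCore_isPGroup p _) Qb.isPGroup'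
      have hle : (Qb : Subgroup (G ⧸ K)) ≤ Subgroup.centralizer (C : Set (G ⧸ K)) := by
        intro y hy
        rw [Subgroup.mem_centralizer_iff]
        intro c hc
        have h1 : c * y * c⁻¹ * y⁻¹ ∈ (Qb : Subgroup (G ⧸ K)) :=
          mul_mem ((Subgroup.mem_normalizer_iff.mp (hn (Cores.pCore_le_sylow Pb hc)) y).mp hy) (inv_mem hy)
        have h2 : c * (y * c⁻¹ * y⁻¹) ∈ C :=
          mul_mem hc ((Cfsg.pCore_normal p _).conj_mem _ (inv_mem hc) y)
        have h3 : c * y * c⁻¹ * y⁻¹ = 1 :=
          Subgroup.disjoint_def.mp hdis (by simpa [mul_assoc] using h2) h1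
        calc c * y = (c * y * c⁻¹ * y⁻¹) * (y * c) := by group
          _ = y * c := by rw [h3, one_mul]
      have hle2 := hle.trans (Blocks.centralizer_pCore_le_of_isPSolvable p
        (BlockHeights.isPSolvable_quot K hsolv) (Cores.pPrimeCore_quotient_pPrimeCore p G))
      have : (Qb : Subgroup (G ⧸ K)) = ⊥ := disjoint_self.mp (hdis.mono_left hle2)
      rwa [hQb, Sylow.coe_mapSurjective] at this
    rw [Subgroup.map_eq_bot_iff, QuotientGroup.ker_mk'] at hQK
    exact fun hd => Q.not_dvd_index (hd.trans (Subgroup.index_dvd_of_le hQK))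
  · intro hq
    obtain ⟨P⟩ : Nonempty (Sylow p G) := inferInstance
    obtain ⟨Q, hQ⟩ := SylowNormalizes.exists_sylow_normalizes_of_pPrime (q := q) P K
      (fun x _ => by rw [Subgroup.normalizer_eq_top]; trivial)
      (Cores.not_dvd_card_pPrimeCore) hq
    exact ⟨P, Q, hQ⟩

end Cfsg.Agent.S4602
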