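import Cfsg.Statements.S4607
import Cfsg.Agent.Lib.Blocks.TwoCharBlock
import Cfsg.Agent.Lib.BlockHeights.CentralQuotientRank

set_option autoImplicit false
open Cfsg Cfsg.Agent.Lib.Blocks Cfsg.Agent.Lib.BlockHeights Cfsg.Agent.Lib.BrauerPairs

namespace Cfsg.Agent.S4607

/-- Let G be a finite group, p a prime, M a maximal ideal of the algebraic integers containing p, and B a p-block of G with defect group D. Then B contains exactly two irreducible characters if and only if D has order 2. -/
theorem result {G : Type*} [Group G] [Finite G] (p : ℕ) [Fact p.Prime] (M : Ideal Cfsg.AlgInt) (hM : Cfsg.IsPModular p M) (B : Set (Cfsg.IrrCharacter G)) (hB : Cfsg.IsPBlock M B) (D : Subgroup G) (hD : Cfsg.IsDefectGroup p M B D) : Nat.card B = 2 ↔ Nat.card D = 2 := by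
  classical
  haveI := Fintype.ofFinite G
  haveI := isPrime_of_isPModular hM
  refine ⟨card_defectGroup_of_card_eq_two hM hB hD, fun hD2 => ?_⟩
  have hc := IsDefectGroup.card_eq hM hB hD
  have hp2 : p = 2 := by
    have hd : blockDefect p B ≠ 0 := fun h => by rw [hD2, h, pow_zero] at hc; omega
    exact (Nat.prime_dvd_prime_iff_eq hM.1 Nat.prime_two).1 (hD2 ▸ hc ▸ dvd_pow_self p hd)
  subst hp2
  obtain ⟨⟨x, hxD⟩, hx⟩ := exists_prime_orderOf_dvd_card' 2 (G := D) (hD2 ▸ dvd_rfl)
  have hxo : orderOf x = 2 := by rwa [Subgroup.orderOf_mk] at hx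
  have hDx : D = Subgroup.zpowers x := (Subgroup.eq_of_le_of_card_ge
    (Subgroup.zpowers_le.2 hxD) (by rw [Nat.card_zpowers, hxo, hD2])).symm
  subst hDx
  obtain ⟨e, he⟩ := exists_maximal_defect hM hB hD
  have hind := isInducedBlock_of_isBrauerPairOf_zpowers hM he.1
  obtain ⟨b, hb⟩ : ∃ b : Set (IrrCharacter (Subgroup.centralizer ({x} : Set G))),
      IsInducedBlock M (Subgroup.centralizer ({x} : Set G)) b B := by
    rw [centralizer_singleton_eq_zpowers]
    exact ⟨e, hind⟩
  haveI := Fintype.ofFinite (Subgroup.centralizer ({x} : Set G))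
  obtain ⟨θ, hθ⟩ := IsPBlock.nonempty hb.1
  exact (defect_one_two hM hB hxo hD hb hθ).1

end Cfsg.Agent.S4607
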