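import Cfsg.Statements.S4610
import Cfsg.Agent.Lib.Blocks.Principal
import Cfsg.Agent.Lib.CharMisc.PrincipalCoreSums
import Cfsg.Agent.Lib.Cores.PCore
-- import your own Cfsg.Agent.* helpers here

set_option autoImplicit false
open Cfsg

namespace Cfsg.Agent.S4610

open Cfsg Cfsg.Agent.Lib.Characters Cfsg.Agent.Lib.Blocks
open scoped ComplexConjugate

set_option maxHeartbeats 400000

universe u

variable {G : Type u} [Group G]

/-- If only the trivial character lies in both principal blocks, the centraliser of a `p`-element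
contains a Sylow `q`-subgroup. -/
theorem not_dvd_index_centralizer [Fintype G] {p q : ℕ} {M M' : Ideal AlgInt}
    (hM : IsPModular p M) (hM' : IsPModular q M') {x : G} (hx : ∃ k : ℕ, orderOf x = p ^ k)
    (hsep : ∀ χ : IrrCharacter G, χ ∈ principalBlock M G → χ ∈ principalBlock M' G →
      (χ : G → ℂ) = fun _ => 1) :
    ¬ q ∣ (Subgroup.centralizer ({x} : Set G)).index := by
  classical
  haveI : M.IsPrime := hM.2.1.isPrime
  haveI : M'.IsPrime := hM'.2.1.isPrime
  haveI := Fintype.ofFinite (IrrCharacter G)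
  set C := Subgroup.centralizer ({x} : Set G) with hC
  haveI := Fintype.ofFinite ↥C
  haveI := Fintype.ofFinite (IrrCharacter ↥C)
  set a : ↥C → ℂ := blockCoeff (principalBlock M ↥C) with ha
  have h1 : ¬ p ∣ orderOf (1 : ↥C) := by rw [orderOf_one]; exact hM.1.not_dvd_one
  -- the row of `x` on the principal `p`-block is spanned by the columns of the section of `x`
  have hv : ∀ χ : IrrCharacter G, (if χ ∈ principalBlock M G then (χ : G → ℂ) x else 0) =
      ∑ k : ↥C, a k * (χ : G → ℂ) (x * (k : G)) := by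
    intro χ
    have h := sum_blockCoeff_mul_eq_blockPart (principalBlock M ↥C)
      (isClassFunction_sectionFun (x := x) (irr_isClassFunction χ)) 1
    simp only [mul_one, sectionFun] at h
    rw [ha, h]
    by_cases hχ : χ ∈ principalBlock M G
    · rw [if_pos hχ]
      have h' := blockPart_principal_eq hM hx hχ h1
      simpa [sectionFun] using h'.symm
    · rw [if_neg hχ]
      exact (blockPart_principal_eq_zero hM hx hχ h1).symm
  have hm : trivIrr G ∈ principalBlock M G := by
    simp only [principalBlock, blockOf, Set.mem_setOf_eq]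
    exact sameBlock_refl (M := M) (fun _ : G => (1 : ℂ))
  have hm' : trivIrr G ∈ principalBlock M' G := by
    simp only [principalBlock, blockOf, Set.mem_setOf_eq]
    exact sameBlock_refl (M := M') (fun _ : G => (1 : ℂ))
  have key : (∑ χ : IrrCharacter G, if χ ∈ principalBlock M' G then
      (χ : G → ℂ) 1 * (if χ ∈ principalBlock M G then (χ : G → ℂ) x else 0) else 0) = 1 := by
    rw [Finset.sum_eq_single (trivIrr G)]
    · rw [if_pos hm', if_pos hm]
      simp only [trivIrr_apply, one_mul]
    · intro χ _ hne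
      split_ifs with h h'
      · exact absurd (Subtype.ext ((hsep χ h' h).trans (funext fun g => (trivIrr_apply g).symm))) hne
      · rw [mul_zero]
      · rfl
    · exact fun h => absurd (Finset.mem_univ _) h
  set e : G → ℂ := blockCoeff (principalBlock M' G) with he
  have heR := isRCentral_blockCoeff hM' (isPBlock_principalBlock (M := M') (G := G))
  have hid : ∀ g : G, (∑ χ : IrrCharacter G, if χ ∈ principalBlock M' G then
      (χ : G → ℂ) 1 * (χ : G → ℂ) g else 0) = (Nat.card G : ℂ) * e g⁻¹ := by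
    intro g
    rw [he, blockCoeff_eq_finsum_inv, finsum_irr_eq_sum_ite, inv_inv, ← mul_assoc,
      mul_inv_cancel₀ (Nat.cast_ne_zero.2 Nat.card_pos.ne'), one_mul]
  have hsum : (1 : ℂ) = (Nat.card G : ℂ) * ∑ k : ↥C, a k * e (x * (k : G))⁻¹ := by
    rw [Finset.mul_sum, ← key]
    simp only [hv, Finset.mul_sum]
    calc (∑ χ : IrrCharacter G, if χ ∈ principalBlock M' G then
          ∑ k : ↥C, (χ : G → ℂ) 1 * (a k * (χ : G → ℂ) (x * (k : G))) else 0)
        = ∑ χ : IrrCharacter G, ∑ k : ↥C, a k * (if χ ∈ principalBlock M' G then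
            (χ : G → ℂ) 1 * (χ : G → ℂ) (x * (k : G)) else 0) := by
          refine Finset.sum_congr rfl fun χ _ => ?_
          split_ifs with h
          · exact Finset.sum_congr rfl fun k _ => by ring
          · simp
      _ = ∑ k : ↥C, a k * ∑ χ : IrrCharacter G, (if χ ∈ principalBlock M' G then
            (χ : G → ℂ) 1 * (χ : G → ℂ) (x * (k : G)) else 0) := by
          rw [Finset.sum_comm]
          simp only [Finset.mul_sum]
      _ = _ := Finset.sum_congr rfl fun k _ => by rw [hid]; ring
  have hloc : MemLocalRing M' (((C.index : ℕ) : ℂ))⁻¹ := by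
    have hCG : (Nat.card ↥C : ℂ) * (C.index : ℂ) = (Nat.card G : ℂ) := by
      exact_mod_cast C.card_mul_index
    have hC0 : (Nat.card ↥C : ℂ) ≠ 0 := Nat.cast_ne_zero.2 Nat.card_pos.ne'
    have hI0 : (C.index : ℂ) ≠ 0 := Nat.cast_ne_zero.2 C.index_ne_zero_of_finite
    have heq : ((C.index : ℕ) : ℂ)⁻¹ =
        ∑ k : ↥C, ((Nat.card ↥C : ℂ) * a k) * e (x * (k : G))⁻¹ := by
      rw [inv_eq_iff_eq_inv]
      refine (eq_inv_of_mul_eq_one_left ?_)
      rw [hsum, ← hCG, Finset.mul_sum, Finset.mul_sum]
      exact Finset.sum_congr rfl fun k _ => by ring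
    rw [heq]
    refine memLocalRing_sum _ fun k _ => memLocalRing_mul (memLocalRing_of_isIntegral' ?_) (heR.2 _)
    rw [ha, blockCoeff_eq_finsum_inv, finsum_irr_eq_sum_ite, ← mul_assoc, mul_inv_cancel₀ hC0,
      one_mul]
    refine IsIntegral.sum _ fun η _ => ?_
    split_ifs
    · exact (IsCharacter.isIntegral (irr_isCharacter η) 1).mul (IsCharacter.isIntegral (irr_isCharacter η) _)
    · exact isIntegral_zero
  intro hd
  have hI := (memLocalIdeal_natCast_iff hM' C.index).2 hd
  have h := memLocalIdeal_mul_left hloc hI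
  rw [inv_mul_cancel₀ (Nat.cast_ne_zero.2 C.index_ne_zero_of_finite)] at h
  exact not_memLocalIdeal_one h

variable [Finite G]

/-- If all centraliser indices of the `p`-elements are powers of `p` then `P` is a normal direct
factor. -/
theorem normal_and_sup_eq_top {p : ℕ} [Fact p.Prime] (P : Sylow p G)
    (h : ∀ x ∈ (P : Subgroup G), ∀ q : ℕ, q.Prime → q ≠ p →
      ¬ q ∣ (Subgroup.centralizer ({x} : Set G)).index) :
    (P : Subgroup G).Normal ∧ (P : Subgroup G) ⊔ pPrimeCore p G = ⊤ := by
  classical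
  have hp : p.Prime := Fact.out
  have hPi : ¬ p ∣ (P : Subgroup G).index := P.not_dvd_index
  -- `G = P C(x)`
  have hconj : ∀ x ∈ (P : Subgroup G), ∀ g : G, ∃ b ∈ (P : Subgroup G),
      g * x * g⁻¹ = b * x * b⁻¹ := by
    intro x hx g
    set C := Subgroup.centralizer ({x} : Set G)
    have hcop : (C.index).Coprime (P : Subgroup G).index := by
      refine Nat.coprime_of_dvd fun q hq hqC hqP => ?_
      by_cases hqp : q = p
      · exact hPi (hqp ▸ hqP)
      · exact h x hx q hq hqp hqC
    let f : (↥(P : Subgroup G) ⧸ C.subgroupOf (P : Subgroup G)) → G ⧸ C :=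
      Quotient.lift (fun b => ((b : G) : G ⧸ C)) fun b b' hb => by
        rw [QuotientGroup.eq]
        simpa [Subgroup.mem_subgroupOf] using QuotientGroup.leftRel_apply.1 hb
    have hf : Function.Injective f := by
      intro b b' hb
      induction b using QuotientGroup.induction_on with
      | H b =>
        induction b' using QuotientGroup.induction_on with
        | H b' =>
          have hb' : ((b : G) : G ⧸ C) = ((b' : G) : G ⧸ C) := hb
          rw [QuotientGroup.eq] at hb' ⊢
          simpa [Subgroup.mem_subgroupOf] using hb'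
    have hle : Nat.card (↥(P : Subgroup G) ⧸ C.subgroupOf (P : Subgroup G)) ≤ Nat.card (G ⧸ C) :=
      Nat.card_le_card_of_injective f hf
    have hdvd : C.index ∣ (C.subgroupOf (P : Subgroup G)).index := by
      have h1 : C.index ∣ (C ⊓ (P : Subgroup G)).index := Subgroup.index_dvd_of_le inf_le_left
      have h2 : (C.subgroupOf (P : Subgroup G)).index * (P : Subgroup G).index =
          (C ⊓ (P : Subgroup G)).index := by
        rw [← Subgroup.relIndex_mul_index (inf_le_right : C ⊓ (P : Subgroup G) ≤ P),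
          Subgroup.inf_relIndex_right]
        rfl
      rw [← h2] at h1
      exact hcop.dvd_of_dvd_mul_right h1
    have hge : Nat.card (G ⧸ C) ≤ Nat.card (↥(P : Subgroup G) ⧸ C.subgroupOf (P : Subgroup G)) := by
      rw [← Subgroup.index_eq_card, ← Subgroup.index_eq_card]
      exact Nat.le_of_dvd (Nat.pos_of_ne_zero Subgroup.index_ne_zero_of_finite) hdvd
    obtain ⟨b, hb⟩ :=
      ((Nat.bijective_iff_injective_and_card f).2 ⟨hf, le_antisymm hle hge⟩).2 (g : G ⧸ C)
    induction b using QuotientGroup.induction_on with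
    | H b =>
      have hb' : ((b : G) : G ⧸ C) = (g : G ⧸ C) := hb
      rw [QuotientGroup.eq, Subgroup.mem_centralizer_singleton_iff] at hb'
      refine ⟨b, b.2, ?_⟩
      calc g * x * g⁻¹ = (b : G) * ((((b : G)⁻¹ * g) * x)) * g⁻¹ := by group
        _ = (b : G) * (x * ((b : G)⁻¹ * g)) * g⁻¹ := by rw [hb']
        _ = (b : G) * x * (b : G)⁻¹ := by group
  have hPn : (P : Subgroup G).Normal := ⟨fun x hx g => by
    obtain ⟨b, hb, hbx⟩ := hconj x hx g
    rw [hbx]
    exact mul_mem (mul_mem hb hx) (inv_mem hb)⟩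
  refine ⟨hPn, ?_⟩
  -- elements of prime power order prime to `p` centralise `P`
  have hcent : ∀ y : G, ∀ q : ℕ, q.Prime → q ≠ p → (∃ k : ℕ, orderOf y = q ^ k) →
      ∀ x ∈ (P : Subgroup G), x * y = y * x := by
    intro y q hq hqp hy
    haveI := Fact.mk hq
    obtain ⟨k, hk⟩ := hy
    have hY : IsPGroup q ↥(Subgroup.zpowers y) :=
      IsPGroup.of_card (n := k) (by rw [Nat.card_zpowers, hk])
    have hfix : ∀ x ∈ (P : Subgroup G), ∃ b ∈ (P : Subgroup G),
        y * (b * x * b⁻¹) = b * x * b⁻¹ * y := by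
      intro x hx
      obtain ⟨c, hc⟩ := hY.nonempty_fixed_point_of_prime_not_dvd_card
        (G ⧸ Subgroup.centralizer ({x} : Set G))
        (by rw [← Subgroup.index_eq_card]; exact h x hx q hq hqp)
      induction c using QuotientGroup.induction_on with
      | H g =>
        have h1 := hc ⟨y, Subgroup.mem_zpowers y⟩
        have h2 : ((y * g : G) : G ⧸ Subgroup.centralizer ({x} : Set G)) = (g : G ⧸ _) := h1
        rw [eq_comm, QuotientGroup.eq, Subgroup.mem_centralizer_singleton_iff] at h2
        obtain ⟨b, hb, hbx⟩ := hconj x hx g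
        refine ⟨b, hb, ?_⟩
        rw [← hbx]
        calc y * (g * x * g⁻¹) = g * ((g⁻¹ * (y * g)) * x) * g⁻¹ := by group
          _ = g * (x * (g⁻¹ * (y * g))) * g⁻¹ := by rw [h2]
          _ = g * x * g⁻¹ * y := by group
    by_contra hne
    push_neg at hne
    obtain ⟨x₀, hx₀, hx₀y⟩ := hne
    have hK : (Subgroup.centralizer ({y} : Set G)).subgroupOf (P : Subgroup G) ≠ ⊤ := fun htop => by
      have hm : (⟨x₀, hx₀⟩ : ↥(P : Subgroup G)) ∈ (Subgroup.centralizer ({y} : Set G)).subgroupOf (P : Subgroup G) := htop ▸ Subgroup.mem_top _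
      rw [Subgroup.mem_subgroupOf, Subgroup.mem_centralizer_singleton_iff] at hm
      exact hx₀y hm
    obtain ⟨K, hKc, hKle⟩ := (eq_top_or_exists_le_coatom _).resolve_left hK
    haveI := P.isPGroup'.isNilpotent
    haveI : K.Normal :=
      Subgroup.NormalizerCondition.normal_of_coatom _ normalizerCondition_of_isNilpotent hKc
    refine hKc.1 ((Subgroup.eq_top_iff' K).2 fun x => ?_)
    obtain ⟨b, hb, hbx⟩ := hfix x x.2
    have hm : (⟨b, hb⟩ : ↥(P : Subgroup G)) * x * (⟨b, hb⟩ : ↥(P : Subgroup G))⁻¹ ∈ K := by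
      refine hKle ?_
      rw [Subgroup.mem_subgroupOf, Subgroup.mem_centralizer_singleton_iff]
      exact hbx.symm
    have := (inferInstance : K.Normal).conj_mem _ hm (⟨b, hb⟩ : ↥(P : Subgroup G))⁻¹
    simpa [mul_assoc] using this
  haveI := hPn
  obtain ⟨H, hH⟩ := Subgroup.exists_right_complement'_of_coprime
    (P.card_coprime_index : (Nat.card ↥(P : Subgroup G)).Coprime (P : Subgroup G).index)
  have hHc : Nat.card H = (P : Subgroup G).index := hH.symm.index_eq_card.symm
  have hHC : H ≤ Subgroup.centralizer ((P : Subgroup G) : Set G) := by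
    rw [← Subgroup.relIndex_eq_one]
    by_contra hne
    obtain ⟨q, hq, hqd⟩ := Nat.exists_prime_and_dvd hne
    haveI := Fact.mk hq
    have hqp : q ≠ p := by
      rintro rfl
      refine hPi (hHc ▸ hqd.trans ?_)
      exact Subgroup.index_dvd_card _
    let Q : Sylow q ↥H := default
    have hQ : (Q : Subgroup ↥H) ≤ (Subgroup.centralizer ((P : Subgroup G) : Set G)).subgroupOf H := by
      intro z hz
      rw [Subgroup.mem_subgroupOf, Subgroup.mem_centralizer_iff]
      obtain ⟨k, hk⟩ := (IsPGroup.iff_orderOf.1 Q.isPGroup') ⟨z, hz⟩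
      rw [Subgroup.orderOf_mk] at hk
      exact fun x hx => hcent (z : G) q hq hqp ⟨k, by rw [Subgroup.orderOf_coe, hk]⟩ x hx
    exact Q.not_dvd_index (hqd.trans (Subgroup.index_dvd_of_le hQ))
  have hHn : H.Normal := by
    constructor
    intro z hz g
    obtain ⟨⟨b, k⟩, hbk⟩ := hH.2 g
    simp only at hbk
    subst hbk
    have h1 : ((k : G) * z * (k : G)⁻¹) ∈ H := mul_mem (mul_mem k.2 hz) (inv_mem k.2)
    have h2 := Subgroup.mem_centralizer_iff.1 (hHC h1) (b : G) b.2
    have : (b : G) * (k : G) * z * ((b : G) * (k : G))⁻¹ =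
        ((b : G) * ((k : G) * z * (k : G)⁻¹)) * (b : G)⁻¹ := by group
    rw [this, h2, mul_inv_cancel_right]
    exact h1
  have hHle : H ≤ pPrimeCore p G :=
    Cfsg.Agent.Lib.Cores.le_pPrimeCore hHn
      (hHc ▸ (hp.coprime_iff_not_dvd.2 hPi).symm)
  exact top_le_iff.1 (hH.sup_eq_top ▸ sup_le_sup_left hHle _)

/-- The principal block is trivial on a normal subgroup of order prime to `p`. -/
theorem apply_eq_one_of_mem [Fintype G] {p : ℕ} {M : Ideal AlgInt} (hM : IsPModular p M)
    (K : Subgroup G) [K.Normal] (hK : ¬ p ∣ Nat.card K) {χ : IrrCharacter G}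
    (hχ : χ ∈ principalBlock M G) (g : G) {n : G} (hn : n ∈ K) :
    (χ : G → ℂ) (g * n) = (χ : G → ℂ) g := by
  haveI : M.IsPrime := hM.2.1.isPrime
  haveI := Fintype.ofFinite (G ⧸ K)
  rw [Cfsg.Agent.Lib.CharMisc.principalBlock_eq_image K hM hK] at hχ
  obtain ⟨η, -, rfl⟩ := hχ
  show (η : G ⧸ K → ℂ) (QuotientGroup.mk' K (g * n)) = (η : G ⧸ K → ℂ) (QuotientGroup.mk' K g)
  rw [map_mul, show QuotientGroup.mk' K n = 1 from (QuotientGroup.eq_one_iff n).2 hn, mul_one]


/-- Let G be a finite group and p a prime dividing its order; fix for every prime r a maximal ideal M r of the algebraic integers containing r. Then, for every prime q ≠ p dividing the order of G, the principal p-block and the principal q-block of G have only the principal character in common, if and only if a Sylow p-subgroup P of G is normal and G is generated by P and its largest normal subgroup of order prime to p (that is, G is the direct product of P and that subgroup). -/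
theorem result {G : Type*} [Group G] [Finite G] (p : ℕ) [Fact p.Prime] (hp : p ∣ Nat.card G) (M : ℕ → Ideal Cfsg.AlgInt) (hM : ∀ r : ℕ, r.Prime → Cfsg.IsPModular r (M r)) (P : Sylow p G) :
    (∀ q : ℕ, q.Prime → q ≠ p → q ∣ Nat.card G →
        ∀ χ : Cfsg.IrrCharacter G, χ ∈ Cfsg.principalBlock (M p) G → χ ∈ Cfsg.principalBlock (M q) G → (χ : G → ℂ) = fun _ => 1) ↔
      ((P : Subgroup G).Normal ∧ (P : Subgroup G) ⊔ Cfsg.pPrimeCore p G = ⊤) := by
  classical
  have hpp : p.Prime := Fact.out
  haveI := Fintype.ofFinite G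
  constructor
  · intro h
    refine normal_and_sup_eq_top P fun x hx q hq hqp hd => ?_
    have hqG : q ∣ Nat.card G := hd.trans (Subgroup.index_dvd_card _)
    obtain ⟨k, hk⟩ := (IsPGroup.iff_orderOf.1 P.isPGroup') ⟨x, hx⟩
    rw [Subgroup.orderOf_mk] at hk
    exact not_dvd_index_centralizer (hM p hpp) (hM q hq) ⟨k, hk⟩ (h q hq hqp hqG) hd
  · rintro ⟨hPn, hsup⟩ q hq hqp _ χ hχp hχq
    haveI := hPn
    have hqP : ¬ q ∣ Nat.card (P : Subgroup G) := by
      obtain ⟨n, hn⟩ := IsPGroup.iff_card.1 P.isPGroup'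
      rw [hn]
      exact fun hd => hqp ((Nat.prime_dvd_prime_iff_eq hq hpp).1 (hq.dvd_of_dvd_pow hd))
    have hall : ∀ g : G, (χ : G → ℂ) g = (χ : G → ℂ) 1 := by
      intro g
      obtain ⟨a, ha, b, hb, rfl⟩ := Subgroup.mem_sup_of_normal_left.1
        (hsup ▸ Subgroup.mem_top g : g ∈ (P : Subgroup G) ⊔ Cfsg.pPrimeCore p G)
      rw [apply_eq_one_of_mem (hM p hpp) (Cfsg.pPrimeCore p G)
        Cfsg.Agent.Lib.Cores.not_dvd_card_pPrimeCore hχp a hb]
      have := apply_eq_one_of_mem (hM q hq) (P : Subgroup G) hqP hχq 1 ha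
      rwa [one_mul] at this
    have h1 : (χ : G → ℂ) 1 = 1 := by
      have h := IsIrrCharacter.classInner_self χ.2
      simp only [classInner, hall, Finset.sum_const, Finset.card_univ, nsmul_eq_mul,
        Nat.card_eq_fintype_card] at h
      rw [← charDegree_eq χ, map_natCast, inv_mul_cancel_left₀
        (Nat.cast_ne_zero.2 Fintype.card_ne_zero)] at h
      rw [← charDegree_eq χ]
      norm_cast at h ⊢
      exact (mul_eq_one.1 h).1
    exact funext fun g => (hall g).trans h1

end Cfsg.Agent.S4610
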