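import Cfsg.Statements.S4611
import Cfsg.Agent.Lib.Characters.PrincipalPSolvable
import Cfsg.Agent.Lib.Characters.SolvablePSolvable
-- import your own Cfsg.Agent.* helpers here

set_option autoImplicit false
open Cfsg Cfsg.Agent.Lib.Characters
set_option linter.style.haveILetI false

namespace Cfsg.Agent.S4611

/-- Let G be a finite solvable group and π a nonempty set of primes, each dividing the order of G; fix for each p in π a maximal ideal M p of the algebraic integers containing p. Then the only irreducible character lying in the principal p-block for every p in π is the principal character if and only if G is generated by the subgroups O_{p'}(G), p in π (the largest normal subgroups of order prime to p). -/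
theorem result {G : Type*} [Group G] [Finite G] [Group.IsSolvable G] (π : Set ℕ) (hπ : ∀ p ∈ π, p.Prime ∧ p ∣ Nat.card G) (hne : π.Nonempty) (M : ℕ → Ideal Cfsg.AlgInt) (hM : ∀ p ∈ π, Cfsg.IsPModular p (M p)) :
    (∀ χ : Cfsg.IrrCharacter G, (∀ p ∈ π, χ ∈ Cfsg.principalBlock (M p) G) → (χ : G → ℂ) = fun _ => 1) ↔
      ⨆ p ∈ π, Cfsg.pPrimeCore p G = ⊤ := by
  classical
  constructor
  · intro h
    by_contra hne
    haveI hn : ∀ p : ℕ, (Cfsg.pPrimeCore p G).Normal := fun p => inferInstance
    haveI : (⨆ p ∈ π, Cfsg.pPrimeCore p G).Normal :=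
      @Subgroup.iSup_normal G _ _ _ (fun p => @Subgroup.iSup_normal G _ _ _ (fun _ => hn p))
    obtain ⟨χ, hne1, hχ⟩ := exists_irr_ne_one_trivial_on _ hne
    refine hne1 (h χ fun p hp => ?_)
    haveI := Fact.mk (hπ p hp).1
    exact (mem_principalBlock_iff_of_isPSolvable (hM p hp) (isPSolvable_of_isSolvable p) χ).2
      fun n hn => hχ n (le_iSup₂ (f := fun q (_ : q ∈ π) => Cfsg.pPrimeCore q G) p hp hn)
  · intro htop χ hχ
    have hc := Cfsg.Agent.Lib.Characters.IsIrrCharacter.isCharacter χ.2
    have hk : ∀ p ∈ π, Cfsg.pPrimeCore p G ≤ charKernel hc := by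
      intro p hp n hn
      haveI := Fact.mk (hπ p hp).1
      exact (mem_charKernel hc).2
        ((mem_principalBlock_iff_of_isPSolvable (hM p hp) (isPSolvable_of_isSolvable p) χ).1
          (hχ p hp) n hn)
    have ht : charKernel hc = ⊤ := top_le_iff.1 (htop ▸ iSup₂_le hk)
    have hall : ∀ g : G, (χ : G → ℂ) g = (χ : G → ℂ) 1 := fun g =>
      (mem_charKernel hc).1 (ht ▸ Subgroup.mem_top g)
    have h1 : (χ : G → ℂ) 1 = 1 := by
      haveI := Fintype.ofFinite G
      have h := Cfsg.Agent.Lib.Characters.IsIrrCharacter.classInner_self χ.2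
      simp only [classInner, hall, Finset.sum_const, Finset.card_univ, nsmul_eq_mul,
        Nat.card_eq_fintype_card] at h
      rw [← Cfsg.Agent.Lib.Blocks.charDegree_eq χ, map_natCast, inv_mul_cancel_left₀
        (Nat.cast_ne_zero.2 Fintype.card_ne_zero)] at h
      rw [← Cfsg.Agent.Lib.Blocks.charDegree_eq χ]
      norm_cast at h ⊢
      exact (mul_eq_one.1 h).1
    exact funext fun g => (hall g).trans h1

end Cfsg.Agent.S4611
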