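import Mathlib
import Cfsg.Statements.S4620
import Cfsg.Agent.Lib.Coprime.Action
import Cfsg.Agent.Lib.Cores.PCore
import Cfsg.Agent.Lib.Components.PComponent

set_option autoImplicit false
open scoped Pointwise
open Cfsg

namespace Cfsg.Agent.S4620

open Pointwise
open Cfsg.Agent.Lib

/-- Let H be a finite group with no nontrivial normal p-subgroup and no nontrivial normal subgroup of order prime to p, whose Sylow p-subgroup P is nontrivial and a trivial-intersection set (P meets its conjugates by elements outside N_H(P) trivially). Then H has a unique minimal normal subgroup N; N is non-abelian simple with trivial centralizer in H (so H embeds in Aut(N)), and a Sylow p-subgroup of N is again a nontrivial trivial-intersection set in N. -/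
theorem result {H : Type*} [Group H] [Finite H] (p : ℕ) [Fact p.Prime] (hOp : Cfsg.pCore p H = ⊥) (hOp' : Cfsg.pPrimeCore p H = ⊥) (P : Sylow p H) (hP1 : (P : Subgroup H) ≠ ⊥)
    (hTI : ∀ g : H, g ∉ Subgroup.normalizer ((P : Subgroup H) : Set H) → (P : Subgroup H) ⊓ (MulAut.conj g • (P : Subgroup H)) = ⊥) :
    ∃ N : Subgroup H, N.Normal ∧ N ≠ ⊥ ∧ (∀ K : Subgroup H, K.Normal → K ≠ ⊥ → N ≤ K) ∧
      IsSimpleGroup N ∧ ¬ IsMulCommutative N ∧ Subgroup.centralizer (N : Set H) = ⊥ ∧
      ∀ Q : Sylow p N, (Q : Subgroup N) ≠ ⊥ ∧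
        ∀ n : N, n ∉ Subgroup.normalizer ((Q : Subgroup N) : Set N) → (Q : Subgroup N) ⊓ (MulAut.conj n • (Q : Subgroup N)) = ⊥ := by
  classical
  have hOp1 := fun (K : Subgroup H) (hK : K.Normal) (hKp : IsPGroup p K) =>
    Cores.pCore_eq_bot_iff.mp hOp K hK hKp
  -- a nontrivial normal subgroup meets every Sylow subgroup
  have meets : ∀ K : Subgroup H, K.Normal → K ≠ ⊥ → (P : Subgroup H) ⊓ K ≠ ⊥ := by
    intro K hK hK1 hb
    have hd : ¬ p ∣ Nat.card K := by
      intro hd
      obtain ⟨x, hx⟩ := exists_prime_orderOf_dvd_card' p hd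
      have hp' : IsPGroup p (Subgroup.zpowers (x : H)) := by
        refine IsPGroup.of_card (n := 1) ?_
        rw [Nat.card_zpowers, Subgroup.orderOf_coe, hx, pow_one]
      obtain ⟨R, hR⟩ := hp'.exists_le_sylow
      obtain ⟨g, hg⟩ := MulAction.exists_smul_eq H R P
      have h1 : g * (x : H) * g⁻¹ ∈ (P : Subgroup H) ⊓ K := by
        refine Subgroup.mem_inf.mpr ⟨?_, hK.conj_mem _ x.2 g⟩
        rw [← hg, Sylow.coe_subgroup_smul, Coprime.mem_conj_smul]
        simpa [mul_assoc] using hR (Subgroup.mem_zpowers (x : H))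
      rw [hb, Subgroup.mem_bot] at h1
      have hx1 : (x : H) = 1 := conj_eq_one_iff.mp h1
      have hx2 : orderOf x = 1 := by rw [orderOf_eq_one_iff]; exact Subtype.ext hx1
      exact (Fact.out : p.Prime).ne_one (hx.symm.trans hx2)
    exact hK1 (le_bot_iff.mp (hOp' ▸ Cores.le_pPrimeCore hK
      ((Fact.out : p.Prime).coprime_iff_not_dvd.mpr hd).symm))
  -- what centralizes a nontrivial element of a Sylow subgroup normalizes it
  have norm : ∀ R : Sylow p H, ∀ y ∈ (R : Subgroup H), y ≠ 1 → ∀ g : H, g * y = y * g →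
      g ∈ Subgroup.normalizer ((R : Subgroup H) : Set H) := by
    intro R y hy hy1 g hg
    obtain ⟨c, hc⟩ := MulAction.exists_smul_eq H P R
    rw [← hc, Sylow.coe_subgroup_smul] at hy ⊢
    rw [Coprime.mem_conj_smul] at hy
    have hg' : c⁻¹ * g * c * (c⁻¹ * y * c) = c⁻¹ * y * c * (c⁻¹ * g * c) := by
      calc _ = c⁻¹ * (g * y) * c := by group
        _ = _ := by rw [hg]; group
    have h1 : c⁻¹ * g * c ∈ Subgroup.normalizer ((P : Subgroup H) : Set H) := by
      by_contra hn
      have hm : c⁻¹ * y * c ∈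
          (P : Subgroup H) ⊓ (MulAut.conj (c⁻¹ * g * c) • (P : Subgroup H)) := by
        refine Subgroup.mem_inf.mpr ⟨hy, ?_⟩
        rw [Coprime.mem_conj_smul, mul_assoc _ (c⁻¹ * y * c), ← hg',
          inv_mul_cancel_left]
        exact hy
      rw [hTI _ hn, Subgroup.mem_bot] at hm
      exact hy1 (by simpa [mul_assoc] using congrArg (fun w => c * w * c⁻¹) hm)
    rw [Subgroup.mem_normalizer_iff] at h1 ⊢
    intro x
    rw [Coprime.mem_conj_smul, Coprime.mem_conj_smul]
    refine (h1 _).trans ?_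
    simp [mul_assoc]
  -- two commuting subgroups, the first subnormal, cannot both meet a Sylow subgroup
  have comm : ∀ R : Sylow p H, ∀ A : Subgroup H, A.IsSubnormal → ∀ B : Subgroup H,
      (∀ a ∈ A, ∀ b ∈ B, a * b = b * a) →
      ∀ x ∈ (R : Subgroup H) ⊓ A, x ≠ 1 → ∀ y ∈ (R : Subgroup H) ⊓ B, y ≠ 1 → False := by
    intro R A hA B hAB x hx hx1 y hy hy1
    have hAN : A ≤ Subgroup.normalizer ((R : Subgroup H) : Set H) := fun a ha =>
      norm R y hy.1 hy1 a (hAB a ha y hy.2)
    have hn : (((R : Subgroup H) ⊓ A).subgroupOf A).Normal := by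
      rw [Subgroup.inf_subgroupOf_right]
      exact Subgroup.normal_subgroupOf_of_le_normalizer hAN
    have hsn : ((R : Subgroup H) ⊓ A).IsSubnormal := Subgroup.IsSubnormal.step _ _ inf_le_right hA hn
    have h1 := Cores.le_pCore_of_isSubnormal hsn (R.isPGroup'.to_le inf_le_left) hx
    rw [hOp, Subgroup.mem_bot] at h1
    exact hx1 h1
  have hHnt : Nontrivial H := by
    haveI := (Subgroup.nontrivial_iff_ne_bot _).mpr hP1
    obtain ⟨x, hx⟩ := exists_ne (1 : ↥(P : Subgroup H))
    exact ⟨x, 1, fun e => hx (Subtype.ext e)⟩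
  obtain ⟨N, ⟨hN, hN1⟩, hmin⟩ := Set.Finite.exists_minimal
    (s := {K : Subgroup H | K.Normal ∧ K ≠ ⊥}) (Set.toFinite _) ⟨⊤, inferInstance, top_ne_bot⟩
  have := hN
  have hcent : Subgroup.centralizer (N : Set H) = ⊥ := by
    by_contra hc
    obtain ⟨x, hx, hx1⟩ := (Subgroup.bot_or_exists_ne_one _).resolve_left (meets N hN hN1)
    obtain ⟨y, hy, hy1⟩ := (Subgroup.bot_or_exists_ne_one _).resolve_left (meets _ inferInstance hc)
    exact comm P N hN.isSubnormal (Subgroup.centralizer (N : Set H))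
      (fun a ha b hb => Subgroup.mem_centralizer_iff.mp hb a ha) x hx hx1 y hy hy1
  have huniq : ∀ K : Subgroup H, K.Normal → K ≠ ⊥ → N ≤ K := by
    intro K hK hK1
    have := hK
    by_contra hle
    have hb : N ⊓ K = ⊥ := by
      by_contra hne
      exact hle ((hmin ⟨inferInstance, hne⟩ inf_le_left).trans inf_le_right)
    refine hK1 (le_bot_iff.mp (hcent ▸ fun k hk => Subgroup.mem_centralizer_iff.mpr fun n hn' => ?_))
    exact Subgroup.commute_of_normal_of_disjoint N K hN hK (disjoint_iff.mpr hb) n k hn' hk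
  have hNnt : Nontrivial N := (Subgroup.nontrivial_iff_ne_bot N).mpr hN1
  have hnc : ¬ IsMulCommutative N := by
    intro hc
    refine hN1 (le_bot_iff.mp (hcent ▸ fun a ha => Subgroup.mem_centralizer_iff.mpr fun b hb => ?_))
    exact congrArg Subtype.val (hc.is_comm.comm ⟨b, hb⟩ ⟨a, ha⟩)
  have hsimple : IsSimpleGroup N := by
    constructor
    intro L hL
    rw [or_iff_not_imp_left]
    intro hL1
    obtain ⟨M, ⟨hMn, hM1, hML⟩, hMmin⟩ := Set.Finite.exists_minimal
      (s := {K : Subgroup N | K.Normal ∧ K ≠ ⊥ ∧ K ≤ L}) (Set.toFinite _) ⟨L, hL, hL1, le_rfl⟩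
    suffices hM : M = ⊤ by exact top_le_iff.mp (hM ▸ hML)
    by_contra hMt
    set A := M.map N.subtype with hA
    have hAN : A ≤ N := Subgroup.map_subtype_le _
    have hA1 : A ≠ ⊥ := fun e => hM1 (by
      rwa [hA, Subgroup.map_eq_bot_iff_of_injective _ N.subtype_injective] at e)
    have hAsn : A.IsSubnormal := Subgroup.IsSubnormal.step _ _ hAN hN.isSubnormal (by
      rwa [hA, Subgroup.subgroupOf, Subgroup.comap_map_eq_self_of_injective N.subtype_injective])
    -- some conjugate of `A` differs from it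
    obtain ⟨g, hg⟩ : ∃ g : H, MulAut.conj g • A ≠ A := by
      by_contra hall
      push Not at hall
      have hAn : A.Normal := ⟨fun x hx g => by
        have h1 : g * x * g⁻¹ ∈ MulAut.conj g • A := by
          rw [Coprime.mem_conj_smul]; simpa [mul_assoc] using hx
        rwa [hall g] at h1⟩
      refine hMt (top_le_iff.mp fun x _ => ?_)
      obtain ⟨z, hz, hzx⟩ := huniq A hAn hA1 x.2
      rwa [← N.subtype_injective hzx]
    set B := MulAut.conj g • A with hB
    have hBN : B ≤ N := by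
      intro x hx
      rw [hB, Coprime.mem_conj_smul] at hx
      simpa [mul_assoc] using hN.conj_mem _ (hAN hx) g
    have hMB : (B.subgroupOf N).Normal := ⟨fun x hx n => by
      rw [Subgroup.mem_subgroupOf, hB, Coprime.mem_conj_smul] at hx ⊢
      obtain ⟨z, hz, hze⟩ := hx
      refine ⟨⟨g⁻¹ * n * g, by simpa using hN.conj_mem _ n.2 g⁻¹⟩ * z *
        (⟨g⁻¹ * n * g, by simpa using hN.conj_mem _ n.2 g⁻¹⟩ : N)⁻¹, hMn.conj_mem z hz _, ?_⟩
      have hze' : (z : H) = g⁻¹ * (x : H) * g := hze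
      simp [hze', mul_assoc]⟩
    have hdis : Disjoint M (B.subgroupOf N) := by
      rw [disjoint_iff]
      by_contra hne
      have hle : M ≤ B.subgroupOf N :=
        (hMmin ⟨inferInstance, hne, inf_le_left.trans hML⟩ inf_le_left).trans inf_le_right
      have hAB : A ≤ B := by
        rintro _ ⟨z, hz, rfl⟩
        exact hle hz
      refine hg (Subgroup.eq_of_le_of_card_ge hAB (le_of_eq ?_)).symm
      exact Coprime.card_conj_smul _ _
    have hc : ∀ a ∈ A, ∀ b ∈ B, a * b = b * a := by
      rintro _ ⟨z, hz, rfl⟩ b hb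
      exact congrArg Subtype.val (Subgroup.commute_of_normal_of_disjoint M _ hMn hMB hdis z
        ⟨b, hBN hb⟩ hz hb)
    -- both meet some Sylow subgroup
    have hpA : p ∣ Nat.card A := by
      by_contra hd
      exact hA1 (le_bot_iff.mp (hOp' ▸ Components.le_pPrimeCore_of_subnormal hAsn
        ((Fact.out : p.Prime).coprime_iff_not_dvd.mpr hd).symm))
    have hpB : p ∣ Nat.card B := by rwa [hB, Coprime.card_conj_smul]
    obtain ⟨x, hx⟩ := exists_prime_orderOf_dvd_card' p hpA
    obtain ⟨y, hy⟩ := exists_prime_orderOf_dvd_card' p hpB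
    have hcard : ∀ z : H, orderOf z = p → IsPGroup p (Subgroup.zpowers z) := fun z hz =>
      IsPGroup.of_card (n := 1) (by rw [Nat.card_zpowers, hz, pow_one])
    have hxy : Subgroup.zpowers (x : H) ≤ Subgroup.normalizer (Subgroup.zpowers (y : H) : Set H) := by
      rw [Subgroup.zpowers_le]
      refine Subgroup.centralizer_le_normalizer _ ?_
      rw [Subgroup.mem_centralizer_iff]
      rintro _ ⟨k, rfl⟩
      exact ((show Commute (x : H) y from hc _ x.2 _ y.2).zpow_right k).symm.eq
    obtain ⟨R, hR⟩ := ((hcard _ (by rwa [Subgroup.orderOf_coe])).to_sup_of_normal_right'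
      (hcard _ (by rwa [Subgroup.orderOf_coe])) hxy).exists_le_sylow
    have hne : ∀ z : H, orderOf z = p → z ≠ 1 := by
      intro z hz e
      rw [e, orderOf_one] at hz
      exact (Fact.out : p.Prime).ne_one hz.symm
    exact comm R A hAsn B hc x ⟨hR (Subgroup.mem_sup_left (Subgroup.mem_zpowers _)), x.2⟩
      (hne _ (by rwa [Subgroup.orderOf_coe]))
      y ⟨hR (Subgroup.mem_sup_right (Subgroup.mem_zpowers _)), y.2⟩
      (hne _ (by rwa [Subgroup.orderOf_coe]))
  refine ⟨N, hN, hN1, huniq, hsimple, hnc, hcent, fun Q => ?_⟩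
  obtain ⟨R, hR⟩ := Q.exists_comap_subtype_eq
  obtain ⟨g, hg⟩ := MulAction.exists_smul_eq H P R
  constructor
  · intro hQ
    apply meets N hN hN1
    refine le_bot_iff.mp fun x hx => ?_
    have h1 : (⟨g * x * g⁻¹, hN.conj_mem x hx.2 g⟩ : N) ∈ (Q : Subgroup N) := by
      rw [← hR, Subgroup.mem_comap, ← hg, Sylow.coe_subgroup_smul, Coprime.mem_conj_smul]
      show g⁻¹ * (g * x * g⁻¹) * g ∈ (P : Subgroup H)
      rw [show g⁻¹ * (g * x * g⁻¹) * g = x by group]
      exact (Subgroup.mem_inf.mp hx).1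
    rw [hQ, Subgroup.mem_bot] at h1
    exact conj_eq_one_iff.mp (congrArg Subtype.val h1)
  · intro n hn
    have hgn : g⁻¹ * n * g ∉ Subgroup.normalizer ((P : Subgroup H) : Set H) := by
      intro hh
      apply hn
      rw [Subgroup.mem_normalizer_iff] at hh ⊢
      intro x
      rw [← hR, Subgroup.mem_comap, Subgroup.mem_comap, ← hg, Sylow.coe_subgroup_smul,
        Coprime.mem_conj_smul, Coprime.mem_conj_smul]
      refine (hh _).trans ?_
      simp [mul_assoc]
    refine le_bot_iff.mp fun x hx => ?_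
    obtain ⟨hx1, hx2⟩ := Subgroup.mem_inf.mp hx
    rw [Coprime.mem_conj_smul, ← hR, Subgroup.mem_comap, ← hg,
      Sylow.coe_subgroup_smul, Coprime.mem_conj_smul] at hx2
    rw [← hR, Subgroup.mem_comap, ← hg, Sylow.coe_subgroup_smul,
      Coprime.mem_conj_smul] at hx1
    have hm : g⁻¹ * (x : H) * g ∈ (P : Subgroup H) ⊓ (MulAut.conj (g⁻¹ * (n : H) * g) • (P : Subgroup H)) := by
      refine Subgroup.mem_inf.mpr ⟨hx1, ?_⟩
      rw [Coprime.mem_conj_smul]
      simpa [mul_assoc] using hx2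
    rw [hTI _ hgn, Subgroup.mem_bot] at hm
    refine Subtype.ext ?_
    simpa [mul_assoc, inv_mul_eq_one, mul_eq_left] using congrArg (fun w => g * w * g⁻¹) hm

end Cfsg.Agent.S4620
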