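import Cfsg.Statements.S4623
import Cfsg.Agent.Lib.Perm.SymSylow

set_option autoImplicit false
open Cfsg
open scoped Pointwise

namespace Cfsg.Agent.S4623

/-- For every prime p and every n, a Sylow p-subgroup P of the symmetric group on n letters has P/P' elementary abelian (the p-th power of every element of P lies in the derived subgroup of P), and the same holds for a Sylow p-subgroup of the alternating group on n letters. -/
theorem result (p : ℕ) [Fact p.Prime] (n : ℕ) (P : Sylow p (Equiv.Perm (Fin n))) (Q : Sylow p (alternatingGroup (Fin n))) :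
    (∀ x : (P : Subgroup (Equiv.Perm (Fin n))), x ^ p ∈ commutator (P : Subgroup (Equiv.Perm (Fin n)))) ∧
    (∀ x : (Q : Subgroup (alternatingGroup (Fin n))), x ^ p ∈ commutator (Q : Subgroup (alternatingGroup (Fin n)))) := by
  classical
  obtain ⟨P₀, S, T, hS, hT, hP₀, hT₀⟩ := Lib.Perm.SymSylow.exists_sylow_gen (p := p) n
  constructor
  · obtain ⟨g, hg⟩ := MulAction.exists_smul_eq (Equiv.Perm (Fin n)) P₀ P
    refine fun x => Lib.Perm.SymSylow.pow_mem_commutator (P : Subgroup (Equiv.Perm (Fin n))) ((MulAut.conj g) '' S) ?_ ?_ x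
    · rw [← hg, Sylow.coe_subgroup_smul, hP₀]
      exact MonoidHom.map_closure (MulAut.conj g).toMonoidHom S
    · rintro s ⟨t, ht, rfl⟩
      rw [← map_pow, hS t ht, map_one]
  · let A := alternatingGroup (Fin n)
    let f := A.subtype
    obtain ⟨P₁, hP₁⟩ := (Q.isPGroup'.map f).exists_le_sylow
    have hQ : (Q : Subgroup A) = (P₁ : Subgroup (Equiv.Perm (Fin n))).comap f := by
      refine (Q.is_maximal' (P₁.isPGroup'.comap_subtype) ?_).symm
      exact fun q hq => hP₁ (Subgroup.mem_map_of_mem f hq)
    obtain ⟨g, hg⟩ := MulAction.exists_smul_eq (Equiv.Perm (Fin n)) P₀ P₁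
    have hQ' : (Q : Subgroup A).map f = Subgroup.closure ((MulAut.conj g) '' T) := by
      rw [hQ, Subgroup.map_comap_eq, show f.range = A from Subgroup.range_subtype _, ← hg, Sylow.coe_subgroup_smul,
        inf_comm]
      have h1 : MulAut.conj g • A = A := Subgroup.Normal.conjAct (alternatingGroup.normal) (ConjAct.toConjAct g)
      conv_lhs => rw [← h1]
      rw [← Subgroup.smul_inf, hT₀]
      exact MonoidHom.map_closure (MulAut.conj g).toMonoidHom T
    have hsub : ∀ s ∈ (MulAut.conj g) '' T, s ∈ A := fun s hs =>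
      Subgroup.map_subtype_le _ (hQ' ▸ Subgroup.subset_closure hs)
    refine fun x => Lib.Perm.SymSylow.pow_mem_commutator (Q : Subgroup A) (f ⁻¹' ((MulAut.conj g) '' T)) ?_ ?_ x
    · apply Subgroup.map_injective (f := f) A.subtype_injective
      rw [hQ', MonoidHom.map_closure, Set.image_preimage_eq_of_subset]
      intro s hs
      exact ⟨⟨s, hsub s hs⟩, rfl⟩
    · rintro s ⟨t, ht, hts⟩
      apply A.subtype_injective
      rw [map_pow, map_one]
      show (f s) ^ p = 1
      rw [← hts, ← map_pow, hT t ht, map_one]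

end Cfsg.Agent.S4623
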