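import Cfsg.Statements.S4626
import Cfsg.Agent.Lib.Blocks.PrincipalFull
import Cfsg.Agent.Lib.Characters.DegreeRatio

open Cfsg Cfsg.Agent.Lib.Blocks Cfsg.Agent.Lib.Characters
-- import your own Cfsg.Agent.* helpers here

set_option autoImplicit false
open Cfsg

namespace Cfsg.Agent.S4626

/-- Let G be a finite group, p a prime, M a maximal ideal of the algebraic integers containing p, P a Sylow p-subgroup of G and N a normal subgroup of index prime to p containing the centralizer C_G(P). Then every irreducible character of G whose kernel contains N lies in the principal p-block of G. -/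
theorem result {G : Type*} [Group G] [Finite G] (p : ℕ) [Fact p.Prime] (M : Ideal Cfsg.AlgInt) (hM : Cfsg.IsPModular p M) (P : Sylow p G) (N : Subgroup G) [N.Normal] (hidx : ¬ p ∣ N.index)
    (hC : Subgroup.centralizer ((P : Subgroup G) : Set G) ≤ N) (χ : Cfsg.IrrCharacter G) (hker : ∀ n ∈ N, (χ : G → ℂ) n = (χ : G → ℂ) 1) :
    χ ∈ Cfsg.principalBlock M G := by
  classical
  haveI := isPrime_of_isPModular hM
  haveI := Fintype.ofFinite G
  haveI := Fintype.ofFinite N
  have hd : ¬ p ∣ Cfsg.charDegree (χ : G → ℂ) := by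
    have hne : classInner (fun n : N => (χ : G → ℂ) n) ((trivIrr N : IrrCharacter N) : N → ℂ) ≠ 0 := by
      rw [classInner_eq_sum_inv (irr_isCharacter _)]
      simp only [trivIrr_apply, mul_one, hker _ (SetLike.coe_mem _), Finset.sum_const, Finset.card_univ,
        nsmul_eq_mul, ← Nat.card_eq_fintype_card]
      rw [inv_mul_cancel_left₀ (Nat.cast_ne_zero.2 Nat.card_pos.ne')]
      exact IsIrrCharacter.apply_one_ne_zero χ.2
    obtain ⟨e, he, hdvd⟩ := degree_ratio_dvd_index N χ.2 (trivIrr N).2 hne
    rw [trivIrr_apply, mul_one, ← charDegree_eq, Nat.cast_inj] at he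
    exact fun h => hidx ((he ▸ h).trans hdvd)
  rw [mem_principalBlock_iff_congr hM P χ hd]
  intro x hx _
  rw [hker x (hC hx), sub_self]
  exact memLocalIdeal_zero

end Cfsg.Agent.S4626
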