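import Cfsg.Statements.S4627
import Cfsg.Agent.Lib.FusionControl.SquaresSL

set_option autoImplicit false
open Cfsg

namespace Cfsg.Agent.S4627

open Matrix
open Cfsg.Agent.Lib.FusionControl
open Cfsg.Agent.Lib.FusionControl.WreathSquares
open Cfsg.Agent.Lib.FusionControl.BlockDiag

theorem zmod_two_add_sub : ∀ x y : ZMod 2, x + (x - y) = y := by decide

/-- Let F be a finite field of odd order q and m ≥ 1. If 4 divides q + 1, or if 4 divides q − 1 and m is a power of 2, then a Sylow 2-subgroup P of SL_{2m}(F) has P/P' elementary abelian: the square of every element of P lies in the derived subgroup of P. -/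
theorem result {F : Type*} [Field F] [Fintype F] (hF : Odd (Fintype.card F)) (m : ℕ) (hm : 1 ≤ m)
    (hq : 4 ∣ Fintype.card F + 1 ∨ (4 ∣ Fintype.card F - 1 ∧ ∃ j : ℕ, m = 2 ^ j)) (P : Sylow 2 (Matrix.SpecialLinearGroup (Fin (2 * m)) F)) :
    ∀ x : (P : Subgroup (Matrix.SpecialLinearGroup (Fin (2 * m)) F)), x ^ 2 ∈ commutator (P : Subgroup (Matrix.SpecialLinearGroup (Fin (2 * m)) F)) := by
  classical
  have : Fact (Nat.Prime 2) := ⟨Nat.prime_two⟩
  obtain ⟨W₁, S₁, hW₁, hS₁⟩ := exists_sylow_perm m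
  obtain ⟨R, hR⟩ := exists_sylow_refl (F := F)
  let i₀ : Fin m := ⟨0, hm⟩
  obtain ⟨W, S, hWS, hS, hpair⟩ : ∃ (W : Sylow 2 (Equiv.Perm (Fin m))) (S : Set (Equiv.Perm (Fin m))),
      (W : Subgroup (Equiv.Perm (Fin m))) = Subgroup.closure S ∧ (∀ s ∈ S, s ^ 2 = 1) ∧
      ((4 ∣ Fintype.card F + 1 ∧ refl2 F ∈ (R : Subgroup (GL (Fin 2) F))) ∨
        ∀ i : Fin m, i ≠ i₀ → ∃ σ ∈ (W : Subgroup (Equiv.Perm (Fin m))), σ i = i₀ ∧ σ i₀ = i) := by
    rcases hq with hq | ⟨-, j, rfl⟩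
    · exact ⟨W₁, S₁, hW₁, hS₁, Or.inl ⟨hq, hR⟩⟩
    obtain ⟨e⟩ : Nonempty ((Fin j → ZMod 2) ≃ Fin (2 ^ j)) := ⟨Fintype.equivOfCardEq (by simp [ZMod.card])⟩
    let τ : Multiplicative (Fin j → ZMod 2) →* Equiv.Perm (Fin (2 ^ j)) :=
      { toFun := fun a => e.permCongr (Equiv.addRight a.toAdd)
        map_one' := by ext; simp
        map_mul' := fun a b => by
          refine Equiv.ext fun y => ?_
          simp [Equiv.Perm.mul_apply, Equiv.permCongr_apply, add_assoc, add_comm b.toAdd] }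
    have hp : IsPGroup 2 τ.range := by
      have h1 : IsPGroup 2 (Multiplicative (Fin j → ZMod 2)) := IsPGroup.of_card (n := j) (by
        rw [Nat.card_congr Multiplicative.toAdd, Nat.card_fun, Nat.card_zmod, Nat.card_eq_fintype_card, Fintype.card_fin])
      exact IsPGroup.of_surjective h1 τ.rangeRestrict τ.rangeRestrict_surjective
    obtain ⟨W₀, hW₀⟩ := hp.exists_le_sylow
    obtain ⟨g, hg⟩ := MulAction.exists_smul_eq (Equiv.Perm (Fin (2 ^ j))) W₁ W₀
    refine ⟨W₀, (MulAut.conj g).toMonoidHom '' S₁, ?_, ?_, Or.inr fun i _ => ?_⟩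
    · rw [← MonoidHom.map_closure, ← hW₁, ← hg, Sylow.coe_subgroup_smul, Subgroup.pointwise_smul_def]
      rfl
    · rintro _ ⟨s, hs, rfl⟩
      rw [← map_pow, hS₁ s hs, map_one]
    · refine ⟨τ (Multiplicative.ofAdd (e.symm i₀ - e.symm i)), hW₀ ⟨_, rfl⟩, ?_, ?_⟩
      · show e (e.symm i + (e.symm i₀ - e.symm i)) = i₀
        simp
      · show e (e.symm i₀ + (e.symm i₀ - e.symm i)) = i
        have h2 : ∀ a b : Fin j → ZMod 2, a + (a - b) = b := fun a b => funext fun k => by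
          simp only [Pi.add_apply, Pi.sub_apply]
          exact zmod_two_add_sub (a k) (b k)
        rw [h2]
        simp
  obtain ⟨PG, hPG⟩ := exists_sylow_GL hF R W
  let e : Fin m ⊕ Fin m ≃ Fin (2 * m) := finSumFinEquiv.trans (finCongr (two_mul m).symm)
  have hv : padicValNat 2 (Nat.card (GL (Fin m ⊕ Fin m) F)) = padicValNat 2 (Nat.card Fˣ) +
      padicValNat 2 (Nat.card (Matrix.SpecialLinearGroup (Fin m ⊕ Fin m) F)) := by
    rw [Nat.card_congr (glReindex (F := F) e).toEquiv, Nat.card_congr (slReindex (F := F) e).toEquiv]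
    exact val_GL_SL hF (by omega)
  obtain ⟨Q, hQ⟩ := exists_sylow_comap
    (Matrix.SpecialLinearGroup.toGL : Matrix.SpecialLinearGroup (Fin m ⊕ Fin m) F →* GL (Fin m ⊕ Fin m) F)
    Matrix.SpecialLinearGroup.toGL_injective GeneralLinearGroup.det range_toGL_ker hv PG
  have hsq := sqInDerived_det_one hF i₀ R _ S hWS hS hpair
  rw [← hPG, inf_comm, ← range_toGL_ker, ← Subgroup.map_comap_eq, ← hQ] at hsq
  have hsq' : SqInDerived (Q : Subgroup (Matrix.SpecialLinearGroup (Fin m ⊕ Fin m) F)) :=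
    sqInDerived_of_equiv ((Q : Subgroup (Matrix.SpecialLinearGroup (Fin m ⊕ Fin m) F)).equivMapOfInjective
      Matrix.SpecialLinearGroup.toGL Matrix.SpecialLinearGroup.toGL_injective).symm hsq
  let Q' : Sylow 2 (Matrix.SpecialLinearGroup (Fin (2 * m)) F) :=
    Sylow.ofCard ((Q : Subgroup (Matrix.SpecialLinearGroup (Fin m ⊕ Fin m) F)).map (slReindex (F := F) e).toMonoidHom)
      (by rw [Subgroup.card_map_of_injective (slReindex (F := F) e).injective, Q.card_eq_multiplicity,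
        Nat.card_congr (slReindex (F := F) e).toEquiv])
  exact sqInDerived_of_sylow Q' P (sqInDerived_of_equiv
    ((Q : Subgroup (Matrix.SpecialLinearGroup (Fin m ⊕ Fin m) F)).equivMapOfInjective _ (slReindex (F := F) e).injective) hsq')

end Cfsg.Agent.S4627
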