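import Cfsg.Statements.S4628
import Cfsg.Agent.Lib.FusionControl.SquaresSL

set_option autoImplicit false
open Cfsg

namespace Cfsg.Agent.S4628

open Matrix
open Cfsg.Agent.Lib.FusionControl
open Cfsg.Agent.Lib.FusionControl.WreathSquares
open Cfsg.Agent.Lib.FusionControl.BlockDiag

variable {F : Type*} [Field F]

/-- The embedding of the general linear group in the special one of one more dimension. -/
def psi {m : ℕ} : GL (Fin m ⊕ Fin m) F →* Matrix.SpecialLinearGroup ((Fin m ⊕ Fin m) ⊕ Unit) F where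
  toFun g := ⟨fromBlocks (g : Matrix (Fin m ⊕ Fin m) (Fin m ⊕ Fin m) F) 0 0
      (diagonal fun _ : Unit => (((GeneralLinearGroup.det g)⁻¹ : Fˣ) : F)), by
    rw [det_fromBlocks_zero₂₁, det_diagonal, Fintype.prod_unique, ← GeneralLinearGroup.val_det_apply,
      Units.mul_inv]⟩
  map_one' := Subtype.ext (by simp)
  map_mul' g h := Subtype.ext (by
    show _ = fromBlocks _ _ _ _ * fromBlocks _ _ _ _
    rw [fromBlocks_multiply, diagonal_mul_diagonal]
    simp [mul_comm])

theorem psi_injective {m : ℕ} : Function.Injective (psi : GL (Fin m ⊕ Fin m) F → _) := fun g h e =>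
  Units.ext (fromBlocks_inj.mp (congrArg Subtype.val e)).1

/-- Let F be a finite field of odd order q with 4 dividing q + 1, and m ≥ 1. Then a Sylow 2-subgroup P of SL_{2m+1}(F) has P/P' elementary abelian: the square of every element of P lies in the derived subgroup of P. -/
theorem result {F : Type*} [Field F] [Fintype F] (hF : Odd (Fintype.card F)) (hq : 4 ∣ Fintype.card F + 1) (m : ℕ) (hm : 1 ≤ m) (P : Sylow 2 (Matrix.SpecialLinearGroup (Fin (2 * m + 1)) F)) :
    ∀ x : (P : Subgroup (Matrix.SpecialLinearGroup (Fin (2 * m + 1)) F)), x ^ 2 ∈ commutator (P : Subgroup (Matrix.SpecialLinearGroup (Fin (2 * m + 1)) F)) := by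
  classical
  have : Fact (Nat.Prime 2) := ⟨Nat.prime_two⟩
  have hq1 : 1 < Fintype.card F := Fintype.one_lt_card
  obtain ⟨R, hR⟩ := exists_sylow_refl (F := F)
  obtain ⟨W, S, hWS, hS⟩ := exists_sylow_perm m
  have hconj : ∀ (σ : Equiv.Perm (Fin m)) (v : Fin m → GL (Fin 2) F),
      psi.comp pm σ * psi.comp bd v * (psi.comp pm σ)⁻¹ = psi.comp bd (fun i => v (σ⁻¹ i)) := fun σ v => by
    show psi (pm σ) * psi (bd v) * (psi (pm σ))⁻¹ = psi (bd fun i => v (σ⁻¹ i))
    rw [← pm_conj σ v, map_mul, map_mul, map_inv]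
  have hinj : ∀ (v : Fin m → GL (Fin 2) F) (σ : Equiv.Perm (Fin m)),
      psi.comp bd v * psi.comp pm σ = 1 → v = 1 ∧ σ = 1 := fun v σ h => by
    refine bd_pm_eq_one v σ (psi_injective ?_)
    rw [map_mul, map_one]
    exact h
  let e : (Fin m ⊕ Fin m) ⊕ Unit ≃ Fin (2 * m + 1) :=
    (Equiv.sumCongr (finSumFinEquiv.trans (finCongr (two_mul m).symm)) ((Equiv.ofUnique Unit (Fin 1)))).trans
      finSumFinEquiv
  have hval : padicValNat 2 (Nat.card (Matrix.SpecialLinearGroup ((Fin m ⊕ Fin m) ⊕ Unit) F)) =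
      m * TwoPart.valGL (Fintype.card F) 2 + padicValNat 2 m.factorial := by
    rw [Nat.card_congr (slReindex (F := F) e).toEquiv]
    have h1 := TwoPart.val_card_SL (F := F) hF (n := 2 * m + 1) (by omega)
    rw [TwoPart.valGL_two_mul_add_one hq1 hF, TwoPart.valGL_two_mul hq1 hF] at h1
    omega
  obtain ⟨Q, hQ⟩ := exists_sylow (psi.comp bd) (psi.comp pm) hconj hinj (R : Subgroup (GL (Fin 2) F))
    (W : Subgroup (Equiv.Perm (Fin m))) (a := TwoPart.valGL (Fintype.card F) 2)
    (by rw [R.card_eq_multiplicity, Nat.factorization_def _ Nat.prime_two, TwoPart.val_card_GL hF])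
    (b := padicValNat 2 m.factorial)
    (by rw [W.card_eq_multiplicity, Nat.factorization_def _ Nat.prime_two, Nat.card_perm, Nat.card_eq_fintype_card,
      Fintype.card_fin]) hval
  have hsq : SqInDerived (Q : Subgroup (Matrix.SpecialLinearGroup ((Fin m ⊕ Fin m) ⊕ Unit) F)) := by
    rw [hQ]
    exact sqInDerived_wreath _ _ _ (sqInDerived_GL2 hF hq R hR) _ S hWS hS
  let Q' : Sylow 2 (Matrix.SpecialLinearGroup (Fin (2 * m + 1)) F) :=
    Sylow.ofCard ((Q : Subgroup (Matrix.SpecialLinearGroup ((Fin m ⊕ Fin m) ⊕ Unit) F)).map (slReindex (F := F) e).toMonoidHom)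
      (by rw [Subgroup.card_map_of_injective (slReindex (F := F) e).injective, Q.card_eq_multiplicity,
        Nat.card_congr (slReindex (F := F) e).toEquiv])
  exact sqInDerived_of_sylow Q' P (sqInDerived_of_equiv
    ((Q : Subgroup (Matrix.SpecialLinearGroup ((Fin m ⊕ Fin m) ⊕ Unit) F)).equivMapOfInjective _ (slReindex (F := F) e).injective) hsq)

end Cfsg.Agent.S4628
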