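import Cfsg.Statements.S4634
import Cfsg.Agent.Lib.FreeQuot.Frobenius

set_option autoImplicit false
set_option linter.style.haveILetI false
open Cfsg

namespace Cfsg.Agent.S4634

open Cfsg.Agent.Lib.FreeQuot Cfsg.Agent.Lib.Blocks Cfsg.Agent.Lib.BrauerPairs Cfsg.Agent.Lib.BlockHeights

theorem result {G : Type*} [Group G] [Finite G] (p : ℕ) [Fact p.Prime] (M : Ideal Cfsg.AlgInt) (hM : Cfsg.IsPModular p M) (B : Set (Cfsg.IrrCharacter G)) (hB : Cfsg.IsPBlock M B) (P : Subgroup G) (hPD : Cfsg.IsDefectGroup p M B P) (hP1 : P ≠ ⊥) (hcyc : IsCyclic P) (c : Set (Cfsg.IrrCharacter (Subgroup.centralizer (P : Set G)))) (hc : Cfsg.IsInducedBlock M (Subgroup.centralizer (P : Set G)) c B) (T : Subgroup G) (hT : ∀ g : G, g ∈ T ↔ (g ∈ Subgroup.normalizer (P : Set G) ∧ Cfsg.StabilizesBlock (Subgroup.centralizer (P : Set G)) c g)) (e : ℕ) (he : (Subgroup.centralizer (P : Set G)).relIndex T = e) (F : Type*) [Group F] [Finite F] (hF : Nat.card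 F = Nat.card P * e) (Q : Subgroup F) (hQ : IsCyclic Q) (hQcard : Nat.card Q = Nat.card P) (hQC : Subgroup.centralizer (Q : Set F) = Q) : ∃ (I : Cfsg.IrrCharacter F → Cfsg.IrrCharacter G) (ε : Cfsg.IrrCharacter F → ℤ), Cfsg.IsPerfectIsometry p M (Set.univ : Set (Cfsg.IrrCharacter F)) B I ε ∧ ∀ η η' : Cfsg.IrrCharacter F, (∃ x ∈ Q, (η : F → ℂ) x ≠ (η : F → ℂ) 1) → (∃ x ∈ Q, (η' : F → ℂ) x ≠ (η' : F → ℂ) 1) → ε η = ε η' := by
  haveI : M.IsPrime := hM.2.1.isPrime
  haveI := Fintype.ofFinite G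
  haveI := Fintype.ofFinite F
  haveI := hcyc
  haveI := hQ
  haveI := Fintype.ofFinite (Subgroup.centralizer (P : Set G))
  have hmax := isMaximal_of_induced hM hPD hc
  obtain rfl : T = pairStab P c := SetLike.ext fun g => (hT g).trans mem_pairStab_iff.symm
  haveI := (Subgroup.nontrivial_iff_ne_bot P).2 hP1
  obtain ⟨a, ha⟩ := IsPGroup.iff_card.1 hmax.1.1.1
  obtain ⟨z, H₁, N, hH₁, f, PH, t', L, hcard⟩ :=
    Cfsg.Agent.Lib.CyclicTree.exists_localData hM hmax Finite.one_lt_card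
  have hdvd := (L.cyclicShape (a := a) (hcard.trans ha)).dvd
  rw [he] at hdvd
  have he0 : 0 < e := by
    rw [← he, ← cyclic_rank hM hmax hP1]; exact blockRank_pos hM hB
  have ha' : Nat.card Q = p ^ a := hQcard.trans ha
  obtain ⟨hN, hBF, cF, hmaxF, hstab⟩ := frobenius_pair hM ha' hQC (by rw [hQcard]; exact hF) hdvd he0
  haveI := hN
  have hQ1 : Q ≠ ⊥ := fun h => by
    rw [h, Subgroup.card_bot] at hQcard
    exact (Finite.one_lt_card (α := P)).ne hQcard
  have hidx : Q.index = e := by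
    have h1 := Q.card_mul_index
    rw [hF, hQcard] at h1
    exact Nat.eq_of_mul_eq_mul_left Nat.card_pos h1
  have heF : (Subgroup.centralizer (Q : Set F)).relIndex (pairStab Q cF) =
      (Subgroup.centralizer (P : Set G)).relIndex (pairStab P c) := by
    rw [hstab, hQC, Subgroup.relIndex_top_right, hidx, he]
  obtain ⟨I, ε, Γ, t, y, σ, lam, hI, hTd, hΓ, hconst, hone⟩ :=
    exists_isometry_cyclic hM hmax hP1 hmaxF hQcard heF
  refine ⟨I, ε, hI, fun η η' hη hη' => ?_⟩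
  by_cases he1 : Nat.card Γ = 1
  · obtain ⟨h1, -⟩ := hTd
    have ht : 0 < t := by
      rcases Nat.eq_zero_or_pos t with h | h
      · exfalso
        rw [h, zero_mul, zero_add, Nat.card_congr Multiplicative.toAdd, Nat.card_zmod] at h1
        exact (Finite.one_lt_card (α := P)).ne h1
      · exact h
    rw [hone he1 η (Set.mem_univ _) ⟨0, ht⟩, hone he1 η' (Set.mem_univ _) ⟨0, ht⟩]
  haveI : NeZero (Nat.card P) := ⟨Nat.card_pos.ne'⟩
  haveI := Fintype.ofFinite (Multiplicative (ZMod (Nat.card P)) →* ℂˣ)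
  have hfree : ∀ g : F, ∀ v ∈ Q, v ≠ 1 → g * v * g⁻¹ = v → g ∈ Q := fun g v hv hv1 h =>
    hQC.le (free_of_isCyclic hM hmaxF g (by rw [hstab]; exact Subgroup.mem_top g) v hv hv1 h)
  rcases nontrivial_labels hM hQC (IsPGroup.of_card ha') (by simpa using hQcard) hfree hTd
    (by rw [hidx, hΓ, he]) he1 hη hη' with h | ⟨⟨i, rfl⟩, ⟨j, rfl⟩⟩
  · rw [h]
  · exact hconst i j

end Cfsg.Agent.S4634
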