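import Cfsg.Statements.S4635
import Cfsg.Agent.Lib.FreeQuot.Cyclic

set_option autoImplicit false
set_option linter.style.haveILetI false
open Cfsg

namespace Cfsg.Agent.S4635

open Cfsg.Agent.Lib.FreeQuot Cfsg.Agent.Lib.Blocks Cfsg.Agent.Lib.BrauerPairs

theorem result {G : Type*} [Group G] [Finite G] (p : ℕ) [Fact p.Prime] (M : Ideal Cfsg.AlgInt) (hM : Cfsg.IsPModular p M) (B : Set (Cfsg.IrrCharacter G)) (hB : Cfsg.IsPBlock M B) (P : Subgroup G) (hPD : Cfsg.IsDefectGroup p M B P) (hP1 : P ≠ ⊥) (hcyc : IsCyclic P) (Z : Subgroup G) (hZ : Z ≤ P) (hZcard : Nat.card Z = p) (H : Subgroup G) (hH : H = Subgroup.normalizer (Z : Set G)) (c : Set (Cfsg.IrrCharacter H)) (hcD : Cfsg.IsDefectGroup p M c (P.subgroupOf H)) (hc : Cfsg.IsInducedBlock M H c B) : Nat.card c = Nat.card B ∧ Cfsg.blockRank p c = Cfsg.blockRank p B ∧ ∃ (I : Cfsg.IrrCharacter H → Cfsg.IrrCharacter G) (ε : Cfsg.IrrCharacter H → ℤ), Cfsg.IsPerfectIsometry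 p M c B I ε := by
  haveI : M.IsPrime := hM.2.1.isPrime
  haveI := Fintype.ofFinite G
  haveI := Fintype.ofFinite H
  haveI := hcyc
  have hNH : Subgroup.normalizer (P : Set G) ≤ H := fun g hg => by
    rw [hH]
    exact normalizer_le_of_cyclic hZ hg
  have hPH : P ≤ H := Subgroup.le_normalizer.trans hNH
  obtain ⟨b, b', hmax, hmax', he⟩ := exists_compatible hM hPD hPH hNH hcD hc
  have e : P.subgroupOf H ≃* P := Subgroup.subgroupOfEquivOfLe hPH
  haveI : IsCyclic (P.subgroupOf H) := e.isCyclic.2 hcyc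
  have hV : Nat.card (P.subgroupOf H) = Nat.card P := Nat.card_congr e.toEquiv
  have hV1 : P.subgroupOf H ≠ ⊥ := fun h => hP1 (by
    rw [← Subgroup.map_subgroupOf_eq_of_le hPH, h, Subgroup.map_bot])
  obtain ⟨I, ε, Γ, t, y, σ, lam, hI, -⟩ := exists_isometry_cyclic hM hmax hP1 hmax' hV he.symm
  refine ⟨Nat.card_congr (hI.1.equiv I), ?_, I, ε, hI⟩
  rw [cyclic_rank hM hmax hP1, cyclic_rank hM hmax' hV1, he]

end Cfsg.Agent.S4635
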