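import Cfsg.Statements.S4636
-- import your own Cfsg.Agent.* helpers here

set_option autoImplicit false
open scoped Pointwise
open Cfsg

namespace Cfsg.Agent.S4636

/-- Let P be a nontrivial cyclic p-subgroup of the finite group G and Z its subgroup of order p. For every x outside N_G(Z), P meets its conjugate xPx⁻¹ trivially; consequently N_G(Q) ≤ N_G(Z) for every nontrivial subgroup Q of P. -/
theorem result {G : Type*} [Group G] [Finite G] (p : ℕ) [Fact p.Prime] (P : Subgroup G) (hP : IsPGroup p P) (hP1 : P ≠ ⊥) (hcyc : IsCyclic P) (Z : Subgroup G) (hZ : Z ≤ P) (hZcard : Nat.card Z = p) : (∀ x : G, x ∉ Subgroup.normalizer (Z : Set G) → P ⊓ MulAut.conj x • P = ⊥) ∧ ∀ Q : Subgroup G, Q ≤ P → Q ≠ ⊥ → Subgroup.normalizer (Q : Set G) ≤ Subgroup.normalizer (Z : Set G) := by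
  have hpc : Nat.Prime p := Fact.out
  have key : ∀ H : Subgroup G, H ≤ P → H ≠ ⊥ → Z ≤ H := by
    intro H hH hH1
    obtain ⟨k, hk⟩ := IsPGroup.iff_card.mp (hP.to_le hH)
    have hk0 : k ≠ 0 := by
      intro h0; apply hH1; rw [← Subgroup.card_eq_one, hk, h0, pow_zero]
    obtain ⟨Y, hY⟩ : ∃ Y : Subgroup H, Nat.card Y = p ^ 1 :=
      Sylow.exists_subgroup_card_pow_prime p (by rw [hk, pow_one]; exact dvd_pow_self p hk0)
    have hYc : Nat.card (Y.map H.subtype) = p := by
      rw [Subgroup.card_subtype, hY, pow_one]
    have hYP : Y.map H.subtype ≤ P := (Subgroup.map_subtype_le Y).trans hH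
    have heq : Y.map H.subtype = Z := by
      have e1 : (Y.map H.subtype).subgroupOf P = Z.subgroupOf P := by
        classical
        haveI := hcyc
        haveI := Fintype.ofFinite P
        have hall : ∀ W : Subgroup G, W ≤ P → Nat.card W = p →
            ((W.subgroupOf P : Subgroup P) : Set P) = {a : P | a ^ p = 1} := by
          intro W hW hWc
          have hcard : Nat.card (W.subgroupOf P) = p := by
            rw [Nat.card_congr (Subgroup.subgroupOfEquivOfLe hW).toEquiv, hWc]
          refine Set.eq_of_subset_of_ncard_le ?_ ?_ (Set.toFinite _)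
          · intro a ha
            have h := pow_card_eq_one' (G := W.subgroupOf P) (x := ⟨a, ha⟩)
            rw [hcard] at h
            simpa [Subtype.ext_iff] using h
          · calc Set.ncard {a : P | a ^ p = 1}
                = (Finset.univ.filter fun a : P => a ^ p = 1).card := by
                  rw [← Set.ncard_coe_finset]; simp
              _ ≤ p := IsCyclic.card_pow_eq_one_le hpc.pos
              _ = Set.ncard ((W.subgroupOf P : Subgroup P) : Set P) := by
                  rw [← Nat.card_coe_set_eq]; exact hcard.symm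
        exact SetLike.coe_injective ((hall _ hYP hYc).trans (hall _ hZ hZcard).symm)
      have := congrArg (Subgroup.map P.subtype) e1
      rwa [Subgroup.map_subgroupOf_eq_of_le hYP, Subgroup.map_subgroupOf_eq_of_le hZ] at this
    rw [← heq]; exact Subgroup.map_subtype_le Y
  have keyN : ∀ x : G, Z ≤ MulAut.conj x • P → x ∈ Subgroup.normalizer (Z : Set G) := by
    intro x hx
    have h1 : MulAut.conj x⁻¹ • Z ≤ P := by
      rw [map_inv, Subgroup.pointwise_smul_subset_iff]
      simpa using hx
    have hc : Nat.card ↥(MulAut.conj x⁻¹ • Z : Subgroup G) = p := by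
      rw [← hZcard]
      exact (Nat.card_congr (Subgroup.equivSMul (MulAut.conj x⁻¹) Z).toEquiv).symm
    have h2 : Z ≤ MulAut.conj x⁻¹ • Z := by
      apply key _ h1
      intro hb; rw [hb, Subgroup.card_bot] at hc; exact hpc.one_lt.ne hc
    have h3 : Z = MulAut.conj x⁻¹ • Z := Subgroup.eq_of_le_of_card_ge h2 (by rw [hc, hZcard])
    rw [Subgroup.mem_normalizer_iff]
    intro z
    constructor
    · intro hz
      have : z ∈ MulAut.conj x⁻¹ • Z := h3 ▸ hz
      rw [Subgroup.mem_pointwise_smul_iff_inv_smul_mem] at this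
      simpa [mul_assoc] using this
    · intro hz
      rw [h3, Subgroup.mem_pointwise_smul_iff_inv_smul_mem]
      simpa [mul_assoc] using hz
  refine ⟨fun x hx => ?_, fun Q hQ hQ1 g hg => ?_⟩
  · by_contra hne
    exact hx (keyN x ((key _ inf_le_left hne).trans inf_le_right))
  · refine keyN g ((key Q hQ hQ1).trans ?_)
    intro q hq
    rw [Subgroup.mem_pointwise_smul_iff_inv_smul_mem]
    apply hQ
    have := (Subgroup.mem_normalizer_iff.mp (inv_mem hg) _).mp hq
    simpa [mul_assoc] using this

end Cfsg.Agent.S4636
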