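import Cfsg.Statements.S4641
import Cfsg.Agent.Lib.BlockDegreeSum.Functional

set_option autoImplicit false
open Cfsg

namespace Cfsg.Agent.S4641

/-- Let B be a block of the finite group G relative to a maximal ideal M of the algebraic integers containing the prime p, let p^a be the p-part of the order of G and p^d the order of a defect group D of B, and let g be the greatest common divisor of the degrees of the members of B. Then the p-part of g is exactly p^(a−d), and writing g = p^(a−d)·u there is a positive integer v, prime to p and at least the p-regular rank of B (its number of irreducible Brauer characters), with Σ_{χ ∈ B} χ(1)² = p^(2a−d)·u²·v. -/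
theorem result {G : Type*} [Group G] [Finite G] (p : ℕ) [Fact p.Prime] (M : Ideal Cfsg.AlgInt) (hM : Cfsg.IsPModular p M) (B : Set (Cfsg.IrrCharacter G)) (hB : Cfsg.IsPBlock M B) (D : Subgroup G) (hD : Cfsg.IsDefectGroup p M B D) (a d : ℕ) (ha : (Nat.card G).factorization p = a) (hd : Nat.card D = p ^ d) (g : ℕ) (hg1 : ∀ χ ∈ B, g ∣ Cfsg.charDegree (χ : G → ℂ)) (hg2 : ∀ g' : ℕ, (∀ χ ∈ B, g' ∣ Cfsg.charDegree (χ : G → ℂ)) → g' ∣ g) : g.factorization p = a - d ∧ ∃ v : ℕ, 0 < v ∧ ¬ p ∣ v ∧ Cfsg.blockRank p B ≤ v ∧ ∑ᶠ χ ∈ B, Cfsg.charDegree (χ : G → ℂ) ^ 2 = p ^ (2 * a - d) * (g / p ^ (a - d)) ^ 2 * v := by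
  classical
  haveI := Fintype.ofFinite G
  haveI : M.IsPrime := hM.2.1.isPrime
  haveI := Fintype.ofFinite (IrrCharacter G)
  obtain ⟨χ₀, hχ₀, hmin⟩ := Lib.BlockHeights.exists_nu_eq_minExp (p := p)
    (Lib.Blocks.IsPBlock.nonempty hB)
  have hadd := Lib.BlockHeights.blockDefect_add_minExp (p := p) hB
  have hcard := Lib.BlockHeights.card_isDefectGroup hM hB hD
  rw [hd] at hcard
  have hdd : d = blockDefect p B := Nat.pow_right_injective hM.1.two_le hcard
  rw [ha] at hadd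
  have hd0 : charDegree (χ₀ : G → ℂ) ≠ 0 := (Lib.BlockHeights.charDegree_irr_pos χ₀).ne'
  have hg0 : g ≠ 0 := fun h => hd0 (Nat.eq_zero_of_zero_dvd (h ▸ hg1 χ₀ hχ₀))
  have hge : g.factorization p = a - d := by
    have h1 : Lib.BlockHeights.minExp p B ≤ g.factorization p := by
      rw [← hM.1.pow_dvd_iff_le_factorization hg0]
      refine hg2 _ fun χ hχ => ?_
      rw [hM.1.pow_dvd_iff_le_factorization (Lib.BlockHeights.charDegree_irr_pos χ).ne']
      exact Lib.BlockHeights.minExp_le hχ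
    have h2 : g.factorization p ≤ Lib.BlockHeights.minExp p B :=
      hmin ▸ (Nat.factorization_le_iff_dvd hg0 hd0).2 (hg1 χ₀ hχ₀) p
    omega
  refine ⟨hge, ?_⟩
  obtain ⟨w, hw, hw0, hsum⟩ := Lib.BlockDegreeSum.sum_degree_sq_bound hM hB hg0 hg1
  have hfac := Lib.BlockHeights.factorization_sum_degree_sq hM hB
  rw [ha] at hfac hsum
  have hu : g = p ^ (a - d) * (g / p ^ (a - d)) := by
    rw [← hge]; exact (Nat.ordProj_mul_ordCompl_eq_self g p).symm
  have hnd : ¬ p ∣ g / p ^ (a - d) := hge ▸ Nat.not_dvd_ordCompl hM.1 hg0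
  generalize g / p ^ (a - d) = u at hu hnd ⊢
  subst hu
  have hlcm : Nat.lcm (p ^ a) (p ^ (a - d) * u) = p ^ a * u :=
    Nat.dvd_antisymm
      (Nat.lcm_dvd (dvd_mul_right _ _) (mul_dvd_mul_right (pow_dvd_pow p (Nat.sub_le a d)) u))
      (Nat.Coprime.mul_dvd_of_dvd_of_dvd ((hM.1.coprime_iff_not_dvd.2 hnd).pow_left a)
        (Nat.dvd_lcm_left _ _) ((dvd_mul_left u _).trans (Nat.dvd_lcm_right _ _)))
  have hval : ∑ᶠ χ ∈ B, charDegree (χ : G → ℂ) ^ 2 = p ^ (2 * a - d) * u ^ 2 * w := by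
    rw [hsum, hlcm, show 2 * a - d = (a - d) + a by omega, pow_add]
    ring
  refine ⟨w, hw0, fun hpw => ?_, hw, hval⟩
  have hne : ∑ᶠ χ ∈ B, charDegree (χ : G → ℂ) ^ 2 ≠ 0 := by
    rw [hval]
    exact mul_ne_zero (mul_ne_zero (pow_ne_zero _ hM.1.ne_zero)
      (pow_ne_zero _ (fun h => hnd (h ▸ dvd_zero p)))) hw0.ne'
  have h3 : p ^ (2 * a - d + 1) ∣ ∑ᶠ χ ∈ B, charDegree (χ : G → ℂ) ^ 2 := by
    rw [hval, pow_succ]
    exact mul_dvd_mul (dvd_mul_right _ _) hpw
  rw [hM.1.pow_dvd_iff_le_factorization hne, hfac] at h3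
  omega

end Cfsg.Agent.S4641
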