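import Cfsg.Statements.S4645
import Cfsg.Agent.Lib.Blocks.CyclicDefect
-- import your own Cfsg.Agent.* helpers here

set_option autoImplicit false
open Cfsg Cfsg.Agent.Lib.Blocks Cfsg.Agent.Lib.Characters Cfsg.Agent.Lib.BrauerPairs
  Cfsg.Agent.Lib.BlockHeights

namespace Cfsg.Agent.S4645

/-- Let B be a block of the finite group G relative to a maximal ideal M of the algebraic integers containing the prime p, with a nontrivial cyclic defect group P; let c be a block of C_G(P) inducing B and T the stabilizer of c in N_G(P). Let Q be a nontrivial subgroup of P (so C_G(P) ≤ C_G(Q)), f the block of C_G(Q) induced by c inside C_G(Q), and T' the stabilizer of f in N_G(Q). Then T' = T·C_G(Q), the index of C_G(Q) in T' equals the index of C_G(P) in T, f has p-regular rank 1, and f is a nilpotent block of C_G(Q). -/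
theorem result {G : Type*} [Group G] [Finite G] (p : ℕ) [Fact p.Prime] (M : Ideal Cfsg.AlgInt) (hM : Cfsg.IsPModular p M) (B : Set (Cfsg.IrrCharacter G)) (hB : Cfsg.IsPBlock M B) (P : Subgroup G) (hPD : Cfsg.IsDefectGroup p M B P) (hP1 : P ≠ ⊥) (hcyc : IsCyclic P) (c : Set (Cfsg.IrrCharacter (Subgroup.centralizer (P : Set G)))) (hc : Cfsg.IsInducedBlock M (Subgroup.centralizer (P : Set G)) c B) (T : Subgroup G) (hT : ∀ g : G, g ∈ T ↔ (g ∈ Subgroup.normalizer (P : Set G) ∧ Cfsg.StabilizesBlock (Subgroup.centralizer (P : Set G)) c g)) (Q : Subgroup G) (hQP : Q ≤ P) (hQ1 : Q ≠ ⊥) (f : Set (Cfsg.IrrCharacter (Subgroup.centralizer (Q : Set G)))) (hf : Cfsg.IsInducedBlockIn M (Subgroup.centralizer (Q : Set G)) (Subgroup.centralizer (P : Set G)) c f) (T' : Subgroup G) (hT' : ∀ g : G, g ∈ T' ↔ (g ∈ Subgroup.normalizer (Q : Set G) ∧ Cfsg.StabilizesBlock (Subgroup.centralizer (Q : Set G)) f g)) : T' = T ⊔ Subgroup.centralizer (Q : Set G) ∧ (Subgroup.centralizer (Q : Set G)).relIndex T' = (Subgroup.centralizer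 (P : Set G)).relIndex T ∧ Cfsg.blockRank p f = 1 ∧ Cfsg.IsNilpotentBlock p M f := by
  classical
  haveI := Fintype.ofFinite G
  haveI : M.IsPrime := hM.2.1.isPrime
  haveI := hcyc
  haveI := Fintype.ofFinite (Subgroup.centralizer (Q : Set G))
  have hmax := isMaximal_of_induced hM hPD hc
  have hab := comm_of_isCyclic P
  obtain ⟨hle, c', hmax'⟩ := inducedIn_local hM hmax hab hQP hf
  obtain ⟨x, hxQ, hx1⟩ := (Subgroup.bot_or_exists_ne_one Q).resolve_left hQ1
  have hfix : ∀ g ∈ Subgroup.centralizer (Q : Set G), g ∈ pairStab P c →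
      g ∈ Subgroup.centralizer (P : Set G) := fun g hgQ hg =>
    mem_centralizer_of_fix hM hmax hg (hQP hxQ) hx1
      (by rw [← Subgroup.mem_centralizer_iff.1 hgQ x hxQ, mul_inv_cancel_right])
  have hnil : IsNilpotentBlock p M f := (isNilpotent_inducedIn_iff hM hmax hab hQP hf).2 hfix
  haveI : IsCyclic (P.subgroupOf (Subgroup.centralizer (Q : Set G))) :=
    isCyclic_of_surjective (Subgroup.subgroupOfEquivOfLe
      (le_normalizer_of_comm hab hQP)).symm.toMonoidHom
      (Subgroup.subgroupOfEquivOfLe (le_normalizer_of_comm hab hQP)).symm.surjective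
  have hl : blockRank p f = 1 := by
    refine blockRank_eq_one_of_cyclic hM hmax' fun g hg => ?_
    exact (isNilpotentBlock_iff_of_abelian hM hmax' (comm_of_isCyclic _)).1 hnil g
      (mem_pairStab_iff.1 hg).1 (mem_pairStab_iff.1 hg).2
  obtain rfl : T = pairStab P c := Subgroup.ext fun y => (hT y).trans mem_pairStab_iff.symm
  obtain rfl : T' = pairStab Q f := Subgroup.ext fun y => (hT' y).trans mem_pairStab_iff.symm
  obtain ⟨hdec, hidx⟩ := stab_decomposition hM hmax hab hle
  have hsub : pairStab P c ≤ pairStab Q f := by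
    intro y hy
    have h1 : conjPair y (⟨P, c⟩ : BrauerPairIdx G) = ⟨P, c⟩ :=
      pair_ext (map_conj_of_mem_normalizer hy.1) ((pairCoeff_conjPair y ⟨P, c⟩).trans hy.2)
    have h2 : Relation.ReflTransGen (NormalSubpairRel p M) (conjPair y ⟨Q, f⟩)
        (conjPair y ⟨P, c⟩) := subpairLE_conj hle y
    rw [h1] at h2
    have hyQ := normalizer_le_of_cyclic hQP hy.1
    have h3 : conjPair y (⟨Q, f⟩ : BrauerPairIdx G) = ⟨Q, f⟩ :=
      pair_unique hM hmax.1.1 h2 hle (map_conj_of_mem_normalizer hyQ)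
    have h4 := pairCoeff_conjPair y (⟨Q, f⟩ : BrauerPairIdx G)
    rw [h3] at h4
    exact ⟨hyQ, h4.symm⟩
  refine ⟨le_antisymm (fun g hg => ?_) (sup_le hsub centralizer_le_pairStab), ?_, hl, hnil⟩
  · obtain ⟨y, hy, z, hz, rfl⟩ := hdec g hg
    exact Subgroup.mul_mem_sup hy hz
  · have h1 : pairStab P c ⊓ Subgroup.normalizer (Q : Set G) = pairStab P c :=
      inf_eq_left.2 fun y hy => normalizer_le_of_cyclic hQP hy.1
    have h2 : pairStab P c ⊓ Subgroup.centralizer (Q : Set G) = Subgroup.centralizer (P : Set G) :=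
      le_antisymm (fun y hy => hfix y hy.2 hy.1)
        (le_inf centralizer_le_pairStab (Subgroup.centralizer_le hQP))
    rw [Subgroup.relIndex, hidx, h1, h2]
    rfl

end Cfsg.Agent.S4645
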