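import Cfsg.Statements.S4648
import Cfsg.Agent.Lib.SmallBlocks.Final
import Cfsg.Agent.Lib.BlockHeights.KleinFourCount
import Cfsg.Agent.S4649
open Cfsg.Agent.Lib.Blocks Cfsg.Agent.Lib.BrauerPairs Cfsg.Agent.Lib.BlockHeights
-- import your own Cfsg.Agent.* helpers here

set_option autoImplicit false
open Cfsg

namespace Cfsg.Agent.S4648

/-- Let B be a block of the finite group G relative to a maximal ideal M of the algebraic integers containing the prime p, with a nontrivial defect group D. If B has p-regular rank 1 and at most four irreducible characters, then B is nilpotent, D has exactly as many elements as B has irreducible characters, and p is 2 or 3. -/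
theorem result {G : Type*} [Group G] [Finite G] (p : ℕ) [Fact p.Prime] (M : Ideal Cfsg.AlgInt) (hM : Cfsg.IsPModular p M) (B : Set (Cfsg.IrrCharacter G)) (hB : Cfsg.IsPBlock M B) (D : Subgroup G) (hD : Cfsg.IsDefectGroup p M B D) (hD1 : D ≠ ⊥) (hl : Cfsg.blockRank p B = 1) (hk : Nat.card B ≤ 4) : Cfsg.IsNilpotentBlock p M B ∧ Nat.card D = Nat.card B ∧ (p = 2 ∨ p = 3) := by
  classical
  haveI := Fintype.ofFinite G
  haveI : M.IsPrime := hM.2.1.isPrime
  obtain ⟨i, hi, hiB, hcomm⟩ :=
    Cfsg.Agent.Lib.SmallBlocks.exists_commutative_corner hM hB hD hl hk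
  have hcard := Cfsg.Agent.Lib.SmallBlocks.card_eq_of_commutative_corner hM hB hD hl hi hiB hcomm
  obtain ⟨a, ha⟩ := IsPGroup.iff_card.1 (IsDefectGroup.isPGroup hD)
  have hp := (Fact.out : p.Prime)
  have ha0 : a ≠ 0 := fun h => hD1 (Subgroup.eq_bot_of_card_eq D (by rw [ha, h, pow_zero]))
  have hle : p ^ a ≤ 4 := by omega
  have hp4 : p ≤ 4 := le_trans (by simpa using Nat.pow_le_pow_right hp.pos (Nat.pos_of_ne_zero ha0)) hle
  have hp23 : p = 2 ∨ p = 3 := by
    interval_cases p <;> first | omega | (exact absurd hp (by norm_num))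
  refine ⟨?_, hcard.symm, hp23⟩
  by_cases hcyc : IsCyclic D
  · exact (Cfsg.Agent.S4649.result p M hM B hB D hD hcyc).2 hl
  have ha2 : 2 ≤ a := by
    by_contra hlt
    have : a = 1 := by omega
    subst this
    exact hcyc (isCyclic_of_prime_card (p := p) (by rw [ha, pow_one]))
  have hpa : p = 2 ∧ a = 2 := by
    rcases hp23 with rfl | rfl
    · refine ⟨rfl, ?_⟩
      by_contra hne
      have := Nat.pow_le_pow_right (show 0 < 2 by norm_num) (show 3 ≤ a by omega)
      omega
    · have := Nat.pow_le_pow_right (show 0 < 3 by norm_num) ha2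
      omega
  obtain ⟨rfl, rfl⟩ := hpa
  have hV : IsKleinFour D :=
    ⟨by rw [ha]; norm_num, (not_isCyclic_iff_exponent_eq_prime hp ha).1 hcyc⟩
  obtain ⟨c, hmax⟩ := exists_maximal_defect hM hB hD
  obtain ⟨-, -, hrank⟩ := klein_main hM hmax hV
  haveI := hV
  have hab : ∀ x ∈ D, ∀ y ∈ D, x * y = y * x := fun x hx y hy =>
    congrArg Subtype.val (IsPGroup.commutative_of_card_eq_prime_sq ha ⟨x, hx⟩ ⟨y, hy⟩)
  rw [isNilpotentBlock_iff_of_abelian hM hmax hab]
  intro x hxN hxS
  rw [hl] at hrank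
  exact Subgroup.relIndex_eq_one.1 hrank.symm (mem_pairStab_iff.2 ⟨hxN, hxS⟩)

end Cfsg.Agent.S4648
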