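import Cfsg.Statements.S4651
import Cfsg.Agent.Lib.BlockHeights.ChainCount
-- import your own Cfsg.Agent.* helpers here

set_option autoImplicit false
open Cfsg

namespace Cfsg.Agent.S4651

/-- An alternating-sum identity over chains of p-subgroups (the character-count form behind the chain reformulation of Alperin's weight conjecture, which holds unconditionally for the difference k − l). Let b be a block of the finite group G relative to a maximal ideal M of the algebraic integers containing the prime p. Consider the nonempty chains s = {Q_0 < Q_1 < ⋯ < Q_m} of nontrivial p-subgroups of G in which every member is normal in the largest member; let N_G(s) be the intersection of the normalizers of the members (the stabilizer of the chain), and let b_s be the set of irreducible characters of N_G(s) lying in blocks of N_G(s) that induce b. Then #G · (k(b) − l(b)) equals the sum over all such chains s of (−1)^m · #N_G(s) · (k(b_s) − l(b_s)), where k counts irreducible characters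 and l is the p-regular rank; equivalently, k(b) − l(b) is the alternating sum of k(b_s) − l(b_s) over representatives of the conjugacy classes of such chains. -/
theorem result {G : Type*} [Group G] [Finite G] (p : ℕ) [Fact p.Prime] (M : Ideal Cfsg.AlgInt) (hM : Cfsg.IsPModular p M) (b : Set (Cfsg.IrrCharacter G)) (hb : Cfsg.IsPBlock M b) : (Nat.card G : ℤ) * ((Nat.card b : ℤ) - (Cfsg.blockRank p b : ℤ)) = ∑ᶠ s ∈ {s : Finset (Subgroup G) | s.Nonempty ∧ (∀ Q ∈ s, ∀ R ∈ s, Q ≤ R ∨ R ≤ Q) ∧ (∀ Q ∈ s, Q ≠ ⊥ ∧ IsPGroup p Q) ∧ ∃ T ∈ s, ∀ Q ∈ s, Q ≤ T ∧ T ≤ Subgroup.normalizer ((Q : Subgroup G) : Set G)}, (-1 : ℤ) ^ (s.card - 1) * (Nat.card (((⨅ Q ∈ s, Subgroup.normalizer ((Q : Subgroup G) : Set G) : Subgroup G))) : ℤ) * ((Nat.card {ψ : Cfsg.IrrCharacter (((⨅ Q ∈ s, Subgroup.normalizer ((Q : Subgroup G) : Set G) : Subgroup G))) | ∃ β : Set (Cfsg.IrrCharacter (((⨅ Q ∈ s, Subgroup.normalizer ((Q : Subgroup G) : Set G) : Subgroup G)))), ψ ∈ β ∧ Cfsg.IsInducedBlock M (((⨅ Q ∈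 s, Subgroup.normalizer ((Q : Subgroup G) : Set G) : Subgroup G))) β b} : ℤ) - (Cfsg.blockRank p {ψ : Cfsg.IrrCharacter (((⨅ Q ∈ s, Subgroup.normalizer ((Q : Subgroup G) : Set G) : Subgroup G))) | ∃ β : Set (Cfsg.IrrCharacter (((⨅ Q ∈ s, Subgroup.normalizer ((Q : Subgroup G) : Set G) : Subgroup G)))), ψ ∈ β ∧ Cfsg.IsInducedBlock M (((⨅ Q ∈ s, Subgroup.normalizer ((Q : Subgroup G) : Set G) : Subgroup G))) β b} : ℤ)) := by
  classical
  haveI := hM.2.1.isPrime
  haveI := Fintype.ofFinite G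
  haveI := Fintype.ofFinite (Subgroup G)
  have key := Cfsg.Agent.Lib.BlockHeights.chain_alternating hM hb
  rw [key, finsum_mem_eq_finite_toFinset_sum _ (Set.toFinite _)]
  refine Finset.sum_congr ?_ fun s hs => ?_
  · ext s
    rw [Set.Finite.mem_toFinset]
    constructor
    · intro h
      obtain ⟨⟨hne, hch, hp⟩, hn⟩ := (Finset.mem_filter.1 h).2
      exact ⟨hne, hch, hp,
        (Cfsg.Agent.Lib.BlockHeights.isNormalPairwise_iff hne hch).2 hn⟩
    · rintro ⟨hne, hch, hp, hT⟩
      exact Finset.mem_filter.2 ⟨Finset.mem_univ _, ⟨hne, hch, hp⟩,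
        (Cfsg.Agent.Lib.BlockHeights.isNormalPairwise_iff hne hch).1 hT⟩
  · haveI := Fintype.ofFinite ↥(Cfsg.Agent.Lib.BlockHeights.chainStab s)
    obtain ⟨χ₀, hχ₀⟩ := Cfsg.Agent.Lib.Blocks.IsPBlock.nonempty hb
    have hset : {ψ : Cfsg.IrrCharacter ↥(Cfsg.Agent.Lib.BlockHeights.chainStab s) |
        ∃ β : Set (Cfsg.IrrCharacter ↥(Cfsg.Agent.Lib.BlockHeights.chainStab s)),
          ψ ∈ β ∧ Cfsg.IsInducedBlock M (Cfsg.Agent.Lib.BlockHeights.chainStab s) β b} =
        Cfsg.Agent.Lib.BlockHeights.liesOver M b (Cfsg.Agent.Lib.BlockHeights.chainStab s) := by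
      ext ψ
      constructor
      · rintro ⟨β, hψ, hβ⟩
        exact fun χ hχ g => hβ.2.2 ψ hψ χ hχ g
      · intro hψ
        refine ⟨_, Cfsg.Agent.Lib.Blocks.self_mem_blockOf ψ,
          Cfsg.Agent.Lib.Blocks.isPBlock_blockOf ψ, hb, fun ξ hξ => ?_⟩
        rw [Cfsg.Agent.Lib.BlockHeights.liesOver_iff hb hχ₀] at hψ
        refine (Cfsg.Agent.Lib.BlockHeights.liesOver_iff hb hχ₀ _ ξ).2 fun f hf => ?_
        simpa using Cfsg.Agent.Lib.Blocks.memLocalIdeal_sub (hψ f hf)
          (Cfsg.Agent.Lib.Blocks.omega_congr_of_sameBlock hξ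
            (Cfsg.Agent.Lib.Blocks.isRCentral_resFun _ hf))
    rw [← hset, mul_assoc]
    rfl

end Cfsg.Agent.S4651
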