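import Cfsg.Statements.S4665
import Cfsg.Agent.Lib.BlockHeights.RegularPart
-- import your own Cfsg.Agent.* helpers here

set_option autoImplicit false
open Cfsg Cfsg.Agent.Lib.BlockHeights Cfsg.Agent.Lib.Characters

namespace Cfsg.Agent.S4665

/-- Fix a prime p, a maximal ideal M of the algebraic integers containing p, and a p-block B of the finite group G, and let p^a be the p-part of the order of G. Let χ be an integer combination of the irreducible characters in B. If the function that agrees with χ on p-regular elements and vanishes on p-singular elements is again an integer combination of the irreducible characters in B, then p^a divides χ(1). -/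
theorem result {G : Type*} [Group G] [Fintype G] (p : ℕ) [Fact p.Prime] (M : Ideal Cfsg.AlgInt) (hM : Cfsg.IsPModular p M) (B : Set (Cfsg.IrrCharacter G)) (hB : Cfsg.IsPBlock M B) (χ : G → ℂ) (hχ : (∃ n : Cfsg.IrrCharacter G → ℤ, ∀ g : G, χ g = ∑ᶠ ψ ∈ B, (n ψ : ℂ) * (ψ : G → ℂ) g)) (h0 : (∃ n : Cfsg.IrrCharacter G → ℤ, ∀ g : G, Cfsg.pRegularPart p χ g = ∑ᶠ ψ ∈ B, (n ψ : ℂ) * (ψ : G → ℂ) g)) : ∃ k : ℤ, χ 1 = (p ^ (Nat.card G).factorization p : ℂ) * k := by
  classical
  haveI := Fintype.ofFinite (Cfsg.IrrCharacter G)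
  obtain ⟨n, hn⟩ := h0
  have hgen : Cfsg.IsGeneralizedCharacter G (Cfsg.pRegularPart p χ) := by
    rw [show Cfsg.pRegularPart p χ = ∑ ψ : Cfsg.IrrCharacter G,
        (((if ψ ∈ B then n ψ else 0 : ℤ)) : ℂ) • (ψ : G → ℂ) from funext fun g => by
      rw [hn g, finsum_mem_def, finsum_eq_sum_of_fintype, Finset.sum_apply]
      refine Finset.sum_congr rfl fun ψ _ => ?_
      by_cases h : ψ ∈ B <;> simp [h]]
    exact isGeneralizedCharacter_int_sum _
  obtain ⟨k, hk⟩ := pow_dvd_of_vanish (Fact.out : p.Prime) hgen fun g hg => by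
    simp [pRegularPart_eq, regInd_of_singular hg]
  exact ⟨k, by
    rw [← hk, pRegularPart_eq]
    simp [regInd_of_regular (isPRegular_one (Fact.out : p.Prime))]⟩

end Cfsg.Agent.S4665
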