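import Cfsg.Statements.S4668
import Cfsg.Agent.Lib.BlockHeights.Support
import Cfsg.Agent.Lib.Blocks.Sections
import Cfsg.Agent.Lib.LocalEven2.Basic
import Cfsg.Agent.Lib.BrauerPairs.Maximal
-- import your own Cfsg.Agent.* helpers here

set_option autoImplicit false
open Cfsg

namespace Cfsg.Agent.S4668

/-- Fix a prime p and a maximal ideal M of the algebraic integers containing p. Let Q₀ < Q₁ < ⋯ < Q_m be a strictly increasing chain of p-subgroups of the finite group G and N the intersection of their normalizers. Then every block idempotent of N is supported on C_G(Q_m): for every p-block E of N, the idempotent coefficient of E vanishes at every element of N outside C_G(Q_m). -/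
theorem result {G : Type*} [Group G] [Fintype G] (p : ℕ) [Fact p.Prime] (M : Ideal Cfsg.AlgInt) (hM : Cfsg.IsPModular p M) (m : ℕ) (Q : Fin (m + 1) → Subgroup G) (hQ : StrictMono Q) (hQp : ∀ i, IsPGroup p (Q i)) (N : Subgroup G) (hN : ∀ g : G, g ∈ N ↔ ∀ i, g ∈ Subgroup.normalizer (Q i : Set G)) (E : Set (Cfsg.IrrCharacter N)) (hE : Cfsg.IsPBlock M E) (n : N) (hn : (n : G) ∉ Subgroup.centralizer (Q (Fin.last m) : Set G)) : Cfsg.blockCoeff E n = 0 := by
  classical
  haveI := hM.2.1.isPrime
  haveI := Fintype.ofFinite N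
  by_contra hne
  have hreg : (orderOf (n : G)).Coprime p := by
    rw [Subgroup.orderOf_coe, Nat.coprime_comm, hM.1.coprime_iff_not_dvd]
    exact fun hd => hne (Cfsg.Agent.Lib.Blocks.blockCoeff_eq_zero_of_dvd hM hE hd)
  set P := Q (Fin.last m) with hP
  have hNP : ∀ x ∈ N, x ∈ Subgroup.normalizer (P : Set G) := fun x hx => (hN x).1 hx _
  haveI : (P.subgroupOf N).Normal := ⟨fun a ha b => by
    show (b : G) * (a : G) * (b : G)⁻¹ ∈ P
    exact (Subgroup.mem_normalizer_iff.1 (hNP _ b.2) _).1 ha⟩
  have hR : IsPGroup p (P.subgroupOf N) :=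
    (hQp (Fin.last m)).comap_of_injective N.subtype N.subtype_injective
  have hnR : ∀ c ∈ P, c ∈ N → (n : G) * c = c * (n : G) := fun c hc hcN => by
    have h : n ∈ Subgroup.centralizer ((P.subgroupOf N : Subgroup N) : Set N) := by
      by_contra h
      exact hne (Cfsg.Agent.Lib.BlockHeights.blockCoeff_eq_zero_of_notMem_centralizer hM hR hE h)
    exact (congrArg Subtype.val (Subgroup.mem_centralizer_iff.1 h ⟨c, hcN⟩ hc)).symm
  have hmono := hQ.monotone
  have hle : ∀ i, Q i ≤ P := fun i => hmono (Fin.le_last i)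
  have key : ∀ i : Fin (m + 1), ∀ w ∈ Q i, (n : G) * w = w * (n : G) := by
    intro i
    induction i using Fin.induction with
    | zero =>
      intro w hw
      exact hnR w (hle 0 hw) ((hN w).2 fun j => Subgroup.le_normalizer (hmono (Fin.zero_le j) hw))
    | succ i ih =>
      refine Cfsg.Agent.Lib.LocalEven2.axb_centralizes (hQp i.succ)
        (hmono (Fin.castSucc_lt_succ (i := i)).le) hreg
        (fun w hw => (Subgroup.mem_normalizer_iff.1 ((hN _).1 n.2 i.succ) w).1 hw) ih ?_
      intro c hc hcA
      refine hnR c (hle _ hc) ((hN c).2 fun j => ?_)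
      rcases le_or_gt j i.castSucc with hj | hj
      · refine Cfsg.Agent.Lib.BrauerPairs.centralizer_le_normalizer' (Q j) ?_
        rw [Subgroup.mem_centralizer_iff]
        exact fun a ha => hcA a (hmono hj ha)
      · exact Subgroup.le_normalizer (hmono (Fin.castSucc_lt_iff_succ_le.1 hj) hc)
  exact hn (Subgroup.mem_centralizer_iff.2 fun w hw => (key (Fin.last m) w hw).symm)

end Cfsg.Agent.S4668
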