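import Cfsg.Statements.S4697
import Cfsg.Agent.Lib.Blocks.TwoGenDefect
import Mathlib.GroupTheory.Schreier
-- import your own Cfsg.Agent.* helpers here

set_option autoImplicit false
open Cfsg Cfsg.Agent.Lib.Blocks Cfsg.Agent.Lib.BlockHeights

namespace Cfsg.Agent.S4697

/-- Let p be a prime, M a maximal ideal of the algebraic integers containing p, and B a p-block of the finite group G with an abelian defect group D of order p^d. If D has rank 2 (its least number of generators is 2) then B contains at most p^d irreducible characters; if D has rank 3 then the number k of irreducible characters in B satisfies k^3 ≤ p^(5d). -/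
theorem result {G : Type*} [Group G] [Finite G] (p : ℕ) [Fact p.Prime] (M : Ideal Cfsg.AlgInt) (hM : Cfsg.IsPModular p M) (B : Set (Cfsg.IrrCharacter G)) (hB : Cfsg.IsPBlock M B) (D : Subgroup G) (hBD : Cfsg.IsDefectGroup p M B D) (hab : IsMulCommutative D) (d : ℕ) (hDd : Nat.card D = p ^ d) : (Group.rank D = 2 → Nat.card B ≤ p ^ d) ∧ (Group.rank D = 3 → Nat.card B ^ 3 ≤ p ^ (5 * d)) := by
  classical
  haveI := Fintype.ofFinite G
  haveI : M.IsPrime := hM.2.1.isPrime
  have hcomm : ∀ x ∈ D, ∀ y ∈ D, x * y = y * x := fun x hx y hy =>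
    congrArg Subtype.val (hab.is_comm.comm (⟨x, hx⟩ : D) ⟨y, hy⟩)
  letI : CommGroup D := { D.toGroup with mul_comm := hab.is_comm.comm }
  have hd : blockDefect p B = d := Nat.pow_right_injective (Fact.out : p.Prime).two_le
    ((card_isDefectGroup hM hB hBD).symm.trans hDd)
  obtain ⟨S, hS, hSgen⟩ := Group.rank_spec (G := D)
  have hgen : D = Subgroup.closure (D.subtype '' (S : Set D)) := by
    rw [← MonoidHom.map_closure, hSgen, ← MonoidHom.range_eq_map, Subgroup.range_subtype]
  refine ⟨fun h2 => ?_, fun h3 => ?_⟩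
  · rw [h2] at hS
    obtain ⟨a, b, -, rfl⟩ := Finset.card_eq_two.1 hS
    rw [Finset.coe_pair, Set.image_pair] at hgen
    exact hd ▸ card_block_le_of_two_gen hM hB hBD hgen hcomm
  · rw [h3] at hS
    obtain ⟨a, b, c, -, -, -, rfl⟩ := Finset.card_eq_three.1 hS
    rw [Finset.coe_insert, Finset.coe_pair, Set.image_insert_eq, Set.image_pair] at hgen
    -- move a generator of largest order to the front
    obtain ⟨x, y, z, hgen', hy, hz⟩ : ∃ x y z : G, D = Subgroup.closure {x, y, z} ∧
        orderOf y ∣ orderOf x ∧ orderOf z ∣ orderOf x := by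
      have hord : ∀ w : D, ∃ k, orderOf (w : G) = p ^ k := fun w => by
        obtain ⟨k, hk⟩ := IsPGroup.iff_orderOf.1 (IsDefectGroup.isPGroup hBD) w
        exact ⟨k, by rw [Subgroup.orderOf_coe, hk]⟩
      obtain ⟨i, hi⟩ := hord a
      obtain ⟨j, hj⟩ := hord b
      obtain ⟨k, hk⟩ := hord c
      simp only [Subgroup.coe_subtype] at hgen
      rcases le_total j i with h1 | h1 <;> rcases le_total k i with h4 | h4 <;>
        rcases le_total k j with h5 | h5
      all_goals first
        | exact ⟨a, b, c, hgen, hi ▸ hj ▸ pow_dvd_pow p (by omega),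
            hi ▸ hk ▸ pow_dvd_pow p (by omega)⟩
        | exact ⟨b, a, c, by rw [Set.insert_comm]; exact hgen, hi ▸ hj ▸ pow_dvd_pow p (by omega),
            hj ▸ hk ▸ pow_dvd_pow p (by omega)⟩
        | exact ⟨c, a, b, by rw [Set.insert_comm, Set.pair_comm]; exact hgen,
            hi ▸ hk ▸ pow_dvd_pow p (by omega), hj ▸ hk ▸ pow_dvd_pow p (by omega)⟩
    refine hd ▸ card_block_cube_le_of_three_gen hM hB hBD hgen' hcomm ?_
    have hexp : ∀ g : D, g ^ orderOf x = 1 := by
      rintro ⟨g, hg⟩
      have hle : D ≤ (powMonoidHom (α := D) (orderOf x)).ker.map D.subtype := by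
        conv_lhs => rw [hgen']
        rw [Subgroup.closure_le]
        intro w hw
        have hwD : w ∈ D := hgen' ▸ Subgroup.subset_closure hw
        refine ⟨⟨w, hwD⟩, Subtype.ext ?_, rfl⟩
        show w ^ orderOf x = 1
        rw [← orderOf_dvd_iff_pow_eq_one]
        rcases hw with rfl | rfl | rfl
        exacts [dvd_rfl, hy, hz]
      obtain ⟨g', hg', hgg⟩ := hle hg
      obtain rfl : g' = ⟨g, hg⟩ := Subtype.ext hgg
      exact hg'
    have hdvd : Nat.card D ∣ orderOf x ^ Group.rank D := card_dvd_exponent_pow_rank' D hexp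
    rw [h3] at hdvd
    exact Nat.le_of_dvd (pow_pos (orderOf_pos x) 3) hdvd

end Cfsg.Agent.S4697
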