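import Cfsg.Statements.S4699
import Mathlib

set_option autoImplicit false
set_option linter.all false
open Cfsg

namespace Cfsg.Agent.S4699

set_option maxHeartbeats 1000000
open scoped Pointwise

theorem range_of_le {F V : Type*} [Field F] [AddCommGroup V] [Module F V] (d : Module.End F V)
    {e m : ℕ} (hem : e < m) (hnil : IsNilpotent d)
    (h : LinearMap.range (d ^ e) ≤ LinearMap.range (d ^ m)) : d ^ e = 0 := by
  have key : ∀ j : ℕ, LinearMap.range (d ^ e) ≤ LinearMap.range (d ^ (e + j * (m - e))) := by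
    intro j
    induction j with
    | zero => simp
    | succ j ih =>
      refine h.trans ?_
      rintro _ ⟨v, rfl⟩
      have h1 : d ^ m = d ^ (m - e) * d ^ e := by rw [← pow_add, Nat.sub_add_cancel hem.le]
      obtain ⟨w, hw⟩ := ih ⟨v, rfl⟩
      refine ⟨w, ?_⟩
      rw [show e + (j + 1) * (m - e) = (m - e) + (e + j * (m - e)) by ring, pow_add,
        Module.End.mul_apply, hw, h1, Module.End.mul_apply]
  obtain ⟨N, hN⟩ := hnil
  refine LinearMap.range_eq_bot.mp (le_bot_iff.mp ((key N).trans ?_))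
  have h0 : N ≤ e + N * (m - e) :=
    le_add_left (Nat.le_mul_of_pos_right N (Nat.sub_pos_of_lt hem))
  rw [pow_eq_zero_of_le h0 hN, LinearMap.range_zero]

/-- In characteristic `p` the sum of the powers of an element up to `p ^ n - 1`. -/
theorem sum_pow_eq {R : Type*} [Ring R] (p n : ℕ) [Fact p.Prime] [Algebra (ZMod p) R] (L : R) :
    ∑ i ∈ Finset.range (p ^ n), L ^ i = (L - 1) ^ (p ^ n - 1) := by
  have h : (Polynomial.X - 1 : Polynomial (ZMod p)) ^ (p ^ n - 1) =
      ∑ i ∈ Finset.range (p ^ n), Polynomial.X ^ i := by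
    have hne : (Polynomial.X - 1 : Polynomial (ZMod p)) ≠ 0 := by
      simpa using Polynomial.X_sub_C_ne_zero (1 : ZMod p)
    refine mul_right_cancel₀ hne ?_
    rw [geom_sum_mul, ← pow_succ, Nat.sub_add_cancel (Nat.one_le_pow _ _ (Fact.out : p.Prime).pos),
      sub_pow_char_pow, one_pow]
  have := congrArg (Polynomial.aeval L) h
  simpa using this.symm

/-- The relative trace of an endomorphism lands in the image of a power of `U - 1`. -/
theorem trace_range {F V : Type*} [Field F] [AddCommGroup V] [Module F V] (p n : ℕ) [Fact p.Prime]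
    [CharP F p] (U U' : Module.End F V) (h1 : U * U' = 1) (h2 : U' * U = 1) (l : ℕ)
    (hl : (U - 1) ^ l = 0) (X : Module.End F V) :
    LinearMap.range (∑ i ∈ Finset.range (p ^ n), U ^ i * X * U' ^ i) ≤
      LinearMap.range ((U - 1) ^ (p ^ n - l)) := by
  letI : Algebra (ZMod p) F := ZMod.algebra F p
  letI : Algebra (ZMod p) (Module.End F V) := Algebra.compHom _ (ZMod.castHom (dvd_refl p) F)
  letI : Algebra (ZMod p) (Module.End F (Module.End F V)) :=
    Algebra.compHom _ (ZMod.castHom (dvd_refl p) F)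
  set d := U - 1 with hd
  let L : Module.End F (Module.End F V) := LinearMap.mulLeft F U * LinearMap.mulRight F U'
  have hLi : ∀ i : ℕ, (L ^ i) X = U ^ i * X * U' ^ i := by
    intro i
    induction i with
    | zero => simp
    | succ i ih =>
      rw [pow_succ' L, Module.End.mul_apply, ih]
      show U * (U ^ i * X * U' ^ i * U') = _
      rw [pow_succ' U, pow_succ U']
      simp only [mul_assoc]
  set a : Module.End F (Module.End F V) := LinearMap.mulLeft F d with ha
  set b : Module.End F (Module.End F V) := LinearMap.mulRight F d with hb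
  set r : Module.End F (Module.End F V) := LinearMap.mulRight F U' with hr
  have hab : Commute a (-b) :=
    Commute.neg_right (show a * b = b * a from LinearMap.ext fun Y => by simp [a, b, Module.End.mul_apply, mul_assoc])
  have hdU : U' * d = d * U' := by rw [hd, mul_sub, sub_mul, h1, h2, mul_one, one_mul]
  have hcr : Commute (a + -b) r := by
    refine LinearMap.ext fun Y => ?_
    show d * (Y * U') + -(Y * U' * d) = (d * Y + -(Y * d)) * U'
    rw [add_mul, neg_mul, mul_assoc, mul_assoc, mul_assoc, hdU]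
  have hL1 : L - 1 = (a + -b) * r := by
    refine LinearMap.ext fun Y => ?_
    show U * (Y * U') - Y = d * (Y * U') + -(Y * U' * d)
    rw [hd, sub_mul, mul_sub, one_mul, mul_one, mul_assoc Y U' U, h2, mul_one]
    abel
  have hsum : ∑ i ∈ Finset.range (p ^ n), U ^ i * X * U' ^ i =
      ((a + -b) ^ (p ^ n - 1)) ((r ^ (p ^ n - 1)) X) := by
    rw [← Module.End.mul_apply, ← hcr.mul_pow, ← hL1, ← sum_pow_eq p n L, LinearMap.sum_apply]
    exact Finset.sum_congr rfl fun i _ => (hLi i).symm
  rw [hsum, hab.add_pow, LinearMap.sum_apply]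
  rintro _ ⟨v, rfl⟩
  rw [LinearMap.sum_apply]
  refine Submodule.sum_mem _ fun i hi => ?_
  set k := p ^ n - 1 - i with hk
  set Y := ((((p ^ n - 1).choose i : ℕ) : Module.End F (Module.End F V)) ((r ^ (p ^ n - 1)) X))
  show ((a ^ i) (((-b) ^ k) Y)) v ∈ _
  have hai : ∀ (i : ℕ) (Z : Module.End F V), (a ^ i) Z = d ^ i * Z := by
    intro i Z
    rw [ha, LinearMap.pow_mulLeft]
    rfl
  have hbk : ∀ (i : ℕ) (Z : Module.End F V), (b ^ i) Z = Z * d ^ i := by
    intro i Z
    rw [hb, LinearMap.pow_mulRight]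
    rfl
  rw [hai]
  by_cases hil : p ^ n - l ≤ i
  · refine ⟨(d ^ (i - (p ^ n - l))) ((((-b) ^ k) Y) v), ?_⟩
    rw [← Module.End.mul_apply, ← pow_add, Nat.add_sub_cancel' hil]
    rfl
  · have hkl : l ≤ k := by
      have := Finset.mem_range.mp hi
      omega
    have e0 : ((-b) ^ k) Y = 0 := by
      rw [show -b = (-1 : Module.End F (Module.End F V)) * b from (neg_one_mul b).symm,
        (Commute.neg_one_left b).mul_pow, Module.End.mul_apply, hbk, pow_eq_zero_of_le hkl hl,
        mul_zero, map_zero]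
    rw [e0, mul_zero, LinearMap.zero_apply]
    exact zero_mem _

theorem sum_orbits {G F V : Type*} [Group G] [Field F] [AddCommGroup V] [Module F V] {H : Subgroup G}
    [Fintype (G ⧸ H)] [DecidableEq (G ⧸ H)] (p n : ℕ) [Fact p.Prime] [CharP F p]
    (U U' : Module.End F V) (h1 : U * U' = 1) (h2 : U' * U = 1) (l : ℕ) (hl : (U - 1) ^ l = 0)
    (u : G) (hu : u ^ p ^ n = 1) (f : G ⧸ H → Module.End F V)
    (hf : ∀ x, f (u • x) = U * f x * U') :
    ∀ s : Finset (G ⧸ H), (∀ x ∈ s, u • x ∈ s) →
      (∀ x ∈ s, ∀ i : ℕ, 0 < i → i < p ^ n → u ^ i • x ≠ x) →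
      LinearMap.range (∑ x ∈ s, f x) ≤ LinearMap.range ((U - 1) ^ (p ^ n - l)) := by
  intro s
  induction s using Finset.strongInduction with
  | _ s ih =>
    intro hcl hfree
    rcases s.eq_empty_or_nonempty with rfl | ⟨x, hx⟩
    · simp
    have hpos : 0 < p ^ n := pow_pos (Fact.out : p.Prime).pos n
    have hfi : ∀ i : ℕ, f (u ^ i • x) = U ^ i * f x * U' ^ i := by
      intro i
      induction i with
      | zero => simp
      | succ i ihi =>
        rw [pow_succ' u, mul_smul, hf, ihi, pow_succ' U, pow_succ U']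
        simp only [mul_assoc]
    have hmem : ∀ i : ℕ, u ^ i • x ∈ s := by
      intro i
      induction i with
      | zero => simpa using hx
      | succ i ihi => rw [pow_succ' u, mul_smul]; exact hcl _ ihi
    set O := (Finset.range (p ^ n)).image fun i => u ^ i • x with hO
    have hinj : Set.InjOn (fun i => u ^ i • x) (Finset.range (p ^ n) : Set ℕ) := by
      intro i hi j hj hij
      simp only [Finset.coe_range, Set.mem_Iio] at hi hj
      dsimp only at hij
      rcases lt_trichotomy i j with h | h | h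
      · refine absurd ?_ (hfree _ (hmem i) (j - i) (Nat.sub_pos_of_lt h) (by omega))
        rw [smul_smul, ← pow_add, Nat.sub_add_cancel h.le]
        exact hij.symm
      · exact h
      · refine absurd ?_ (hfree _ (hmem j) (i - j) (Nat.sub_pos_of_lt h) (by omega))
        rw [smul_smul, ← pow_add, Nat.sub_add_cancel h.le]
        exact hij
    have hOs : O ⊆ s := fun y hy => by
      obtain ⟨i, -, rfl⟩ := Finset.mem_image.mp hy
      exact hmem i
    have hssub : s \ O ⊂ s := Finset.sdiff_ssubset hOs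
      ⟨x, Finset.mem_image.mpr ⟨0, Finset.mem_range.mpr hpos, by simp⟩⟩
    rw [← Finset.sum_sdiff hOs]
    refine (LinearMap.range_add_le _ _).trans (sup_le ?_ ?_)
    · refine ih _ hssub (fun y hy => ?_) fun y hy => hfree y (Finset.mem_sdiff.mp hy).1
      obtain ⟨hys, hyO⟩ := Finset.mem_sdiff.mp hy
      refine Finset.mem_sdiff.mpr ⟨hcl y hys, fun hm => hyO ?_⟩
      obtain ⟨i, hi, he⟩ := Finset.mem_image.mp hm
      refine Finset.mem_image.mpr ⟨(i + (p ^ n - 1)) % p ^ n, Finset.mem_range.mpr (Nat.mod_lt _ hpos), ?_⟩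
      rw [pow_eq_pow_mod (i + (p ^ n - 1)) hu |>.symm, add_comm i, pow_add, mul_smul, he, smul_smul,
        ← pow_succ, Nat.sub_add_cancel hpos, hu, one_smul]
    · rw [hO, Finset.sum_image hinj, Finset.sum_congr rfl fun i _ => hfi i]
      exact trace_range p n U U' h1 h2 l hl (f x)

/-- Let p be a prime and G a finite group whose Sylow p-subgroup P is cyclic of order p^n with n ≥ 2 and meets every other Sylow p-subgroup trivially. Then every faithful irreducible representation of G on a finite-dimensional space over a finite field of characteristic p has dimension at least p^n − (p − 1). -/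
theorem result {G : Type*} [Group G] [Finite G] (p : ℕ) [Fact p.Prime] (P : Sylow p G) (hcyc : IsCyclic P) (n : ℕ) (hn : 2 ≤ n) (hPn : Nat.card P = p ^ n) (hTI : ∀ Q : Sylow p G, Q ≠ P → (P : Subgroup G) ⊓ (Q : Subgroup G) = ⊥) (F : Type*) [Field F] [Finite F] [CharP F p] (V : Type*) [AddCommGroup V] [Module F V] [FiniteDimensional F V] (ρ : Representation F G V) (hfaith : Function.Injective ρ) (hirr : ρ.IsIrreducible) : p ^ n - (p - 1) ≤ Module.finrank F V := by
  classical
  haveI := Fintype.ofFinite G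
  set q := p ^ n with hq
  have hp : p.Prime := Fact.out
  obtain ⟨g₀, hg₀⟩ := hcyc
  set u : G := (g₀ : G) with hu
  have hPu : (P : Subgroup G) = Subgroup.zpowers u := by
    ext x
    refine ⟨fun hx => ?_, fun hx => (Subgroup.zpowers_le.mpr g₀.2) hx⟩
    obtain ⟨k, hk⟩ := hg₀ ⟨x, hx⟩
    exact ⟨k, congrArg Subtype.val hk⟩
  have hord : orderOf u = q := by
    rw [← Nat.card_zpowers, ← hPu]
    exact hPn
  have hPc : ∀ x ∈ (P : Subgroup G), ∀ y ∈ (P : Subgroup G), x * y = y * x := by
    intro x hx y hy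
    rw [hPu] at hx hy
    obtain ⟨i, rfl⟩ := hx
    obtain ⟨j, rfl⟩ := hy
    exact zpow_mul_comm u i j
  -- the space is nontrivial
  haveI hV : Nontrivial V := by
    by_contra h
    rw [not_nontrivial_iff_subsingleton] at h
    haveI := h
    exact (bot_ne_top (α := Subrepresentation ρ))
      (Subrepresentation.toSubmodule_injective (Subsingleton.elim _ _))
  haveI : CharP (Module.End F V) p :=
    charP_of_injective_algebraMap (algebraMap F (Module.End F V)).injective p
  set U := ρ u with hU
  set U' := ρ u⁻¹ with hU'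
  have h1 : U * U' = 1 := by rw [hU, hU', ← map_mul, mul_inv_cancel, map_one]
  have h2 : U' * U = 1 := by rw [hU, hU', ← map_mul, inv_mul_cancel, map_one]
  set d := U - 1 with hd
  have hdq : d ^ q = 0 := by
    rw [hd, hq, sub_pow_char_pow_of_commute _ _ (Commute.one_right U), one_pow, hU, ← map_pow,
      ← hq, ← hord, pow_orderOf_eq_one, map_one, sub_self]
  have hnil : IsNilpotent d := ⟨q, hdq⟩
  have hex : ∃ m, d ^ m = 0 := ⟨q, hdq⟩
  set l := Nat.find hex with hl
  have hdl : d ^ l = 0 := Nat.find_spec hex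
  have hlow : d ^ p ^ (n - 1) ≠ 0 := by
    intro h0
    rw [hd, sub_pow_char_pow_of_commute _ _ (Commute.one_right U), one_pow, sub_eq_zero, hU,
      ← map_pow, ← map_one ρ] at h0
    have h3 := Nat.le_of_dvd (pow_pos hp.pos _) (orderOf_dvd_of_pow_eq_one (hfaith h0))
    rw [hord, hq] at h3
    exact absurd h3 (not_le.mpr (Nat.pow_lt_pow_right hp.one_lt (by omega)))
  have hll : p ^ (n - 1) < l := by
    by_contra h
    exact hlow (pow_eq_zero_of_le (not_lt.mp h) hdl)
  have hlr : l ≤ Module.finrank F V := by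
    refine Nat.find_le ?_
    obtain ⟨h1'⟩ : Nonempty (IsNilpotent d) := ⟨hnil⟩
    have := LinearMap.charpoly_nilpotent_tfae d |>.out 0 1
    have h3 := LinearMap.aeval_self_charpoly d
    rwa [this.mp hnil, map_pow, Polynomial.aeval_X] at h3
  refine le_trans ?_ hlr
  by_contra hlt
  push Not at hlt
  have hlq : l ≤ q := Nat.find_le hdq
  -- the normalizer and its action on `P`
  set N := Subgroup.normalizer ((P : Subgroup G) : Set G) with hN
  have hPN : (P : Subgroup G) ≤ N := Subgroup.le_normalizer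
  have hconj : ∀ g ∈ N, g * u * g⁻¹ ∈ (P : Subgroup G) := fun g hg =>
    (Subgroup.mem_normalizer_iff.mp hg u).mp g₀.2
  let α : ↥N →* MulAut ↥(P : Subgroup G) :=
    { toFun := fun g =>
        { toFun := fun x => ⟨g * x * (g : G)⁻¹, (Subgroup.mem_normalizer_iff.mp g.2 x).mp x.2⟩
          invFun := fun x => ⟨(g : G)⁻¹ * x * g, by
            simpa using (Subgroup.mem_normalizer_iff.mp (inv_mem g.2) x).mp x.2⟩
          left_inv := fun x => Subtype.ext (by simp [mul_assoc])
          right_inv := fun x => Subtype.ext (by simp [mul_assoc])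
          map_mul' := fun x y => Subtype.ext (by simp [mul_assoc]) }
      map_one' := by ext x; simp
      map_mul' := fun g h => by ext x; simp [mul_assoc] }
  set S : Finset ↥(P : Subgroup G) := (Finset.univ : Finset ↥N).image fun g => α g g₀ with hS
  have hScard : S.card ≤ p - 1 := by
    have hR : S ⊆ (Finset.univ : Finset ↥α.range).image (fun a : ↥α.range => (a : MulAut ↥(P : Subgroup G)) g₀) := by
      intro x hx
      obtain ⟨g, -, rfl⟩ := Finset.mem_image.mp hx
      exact Finset.mem_image.mpr ⟨⟨α g, g, rfl⟩, Finset.mem_univ _, rfl⟩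
    refine ((Finset.card_le_card hR).trans Finset.card_image_le).trans ?_
    rw [Finset.card_univ, ← Nat.card_eq_fintype_card]
    haveI : IsCyclic ↥(P : Subgroup G) := ⟨⟨g₀, hg₀⟩⟩
    have hdvd : Nat.card α.range ∣ p ^ (n - 1) * (p - 1) := by
      refine (Subgroup.card_subgroup_dvd_card α.range).trans (dvd_of_eq ?_)
      rw [Nat.card_congr (IsCyclic.mulAutMulEquiv ↥(P : Subgroup G)).toEquiv,
        Nat.card_eq_fintype_card, ZMod.card_units_eq_totient, hPn, Nat.totient_prime_pow hp (by omega)]
    have hco : ¬ p ∣ Nat.card α.range := by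
      intro h
      have hker : (P : Subgroup G).subgroupOf N ≤ α.ker := fun g hg => by
        refine MonoidHom.mem_ker.mpr (MulEquiv.ext fun x => Subtype.ext ?_)
        show (g : G) * x * (g : G)⁻¹ = x
        rw [hPc _ (Subgroup.mem_subgroupOf.mp hg) _ x.2, mul_inv_cancel_right]
      rw [← Subgroup.index_ker] at h
      have h2 := h.trans (Subgroup.index_dvd_of_le hker)
      exact P.not_dvd_index (h2.trans (Dvd.intro _ (Subgroup.relIndex_mul_index hPN)))
    exact Nat.le_of_dvd (Nat.sub_pos_of_lt hp.one_lt)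
      (((Nat.Coprime.pow_right _ ((hp.coprime_iff_not_dvd).mpr hco).symm).dvd_mul_left).mp hdvd)
  have hSpos : 0 < S.card :=
    Finset.card_pos.mpr ⟨α 1 g₀, Finset.mem_image.mpr ⟨1, Finset.mem_univ _, rfl⟩⟩
  -- the invariant element of the group algebra
  letI : CommGroup ↥(P : Subgroup G) :=
    { (inferInstance : Group ↥(P : Subgroup G)) with
      mul_comm := fun x y => Subtype.ext (hPc _ x.2 _ y.2) }
  let Φ : MonoidAlgebra F ↥(P : Subgroup G) →ₐ[F] Module.End F V :=
    MonoidAlgebra.lift F (Module.End F V) ↥(P : Subgroup G) (ρ.comp (P : Subgroup G).subtype)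
  have hΦ : ∀ x : ↥(P : Subgroup G), Φ (MonoidAlgebra.of F _ x) = ρ x := fun x => by
    simp [Φ]
  set δ : MonoidAlgebra F ↥(P : Subgroup G) := MonoidAlgebra.of F _ g₀ - 1 with hδ
  have hΦδ : Φ δ = d := by rw [hδ, map_sub, map_one, hΦ]
  set c₀ : MonoidAlgebra F ↥(P : Subgroup G) := ∏ x ∈ S, (MonoidAlgebra.of F _ x - 1) with hc₀
  set c := Φ c₀ with hc
  haveI : CharP (MonoidAlgebra F ↥(P : Subgroup G)) p :=
    charP_of_injective_algebraMap (algebraMap F (MonoidAlgebra F ↥(P : Subgroup G))).injective p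
  have hg₀q : g₀ ^ q = 1 := Subtype.ext (by rw [Subgroup.coe_pow, ← hord, ← hu, pow_orderOf_eq_one]; rfl)
  have hδnil : IsNilpotent δ := ⟨q, by
    rw [hδ, hq, sub_pow_char_pow, one_pow, ← map_pow, ← hq, hg₀q, map_one, sub_self]⟩
  obtain ⟨w, hw⟩ : ∃ w, c₀ * w = δ ^ S.card := by
    have hfac : ∀ x ∈ S, ∃ w, (MonoidAlgebra.of F _ x - 1) * w = δ := by
      intro x hx
      obtain ⟨g, -, rfl⟩ := Finset.mem_image.mp hx
      obtain ⟨m, hm⟩ : ∃ m : ℕ, g₀ ^ m = α g g₀ :=
        mem_powers_iff_mem_zpowers.mpr (hg₀ (α g g₀))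
      have hmp : ¬ p ∣ m := by
        rintro ⟨m', rfl⟩
        have h3 : (α g g₀) ^ p ^ (n - 1) = 1 := by
          rw [← hm, ← pow_mul, mul_right_comm, ← pow_succ', Nat.sub_add_cancel (by omega), pow_mul,
            ← hq, hg₀q, one_pow]
        rw [← map_pow, map_eq_one_iff _ (α g).injective] at h3
        have h4 := Nat.le_of_dvd (pow_pos hp.pos _)
          (orderOf_dvd_of_pow_eq_one (congrArg Subtype.val h3))
        rw [← hu, hord, hq] at h4
        exact absurd h4 (not_le.mpr (Nat.pow_lt_pow_right hp.one_lt (by omega)))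
      set y := MonoidAlgebra.of F _ g₀ with hy
      have hsum : IsUnit (∑ i ∈ Finset.range m, y ^ i) := by
        have hdv : δ ∣ (∑ i ∈ Finset.range m, y ^ i) - (m : MonoidAlgebra F ↥(P : Subgroup G)) := by
          rw [show (m : MonoidAlgebra F ↥(P : Subgroup G)) = ∑ _i ∈ Finset.range m, 1 by simp,
            ← Finset.sum_sub_distrib]
          refine Finset.dvd_sum fun i _ => ?_
          simpa using sub_dvd_pow_sub_pow y 1 i
        obtain ⟨t, ht⟩ := hdv
        have hm0 : IsUnit (m : MonoidAlgebra F ↥(P : Subgroup G)) := by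
          rw [← map_natCast (algebraMap F (MonoidAlgebra F ↥(P : Subgroup G)))]
          refine (isUnit_iff_ne_zero.mpr ?_).map _
          rwa [ne_eq, CharP.cast_eq_zero_iff F p]
        rw [sub_eq_iff_eq_add] at ht
        rw [ht]
        exact IsNilpotent.isUnit_add_right_of_commute ((Commute.all δ t).isNilpotent_mul_right hδnil) hm0 (Commute.all _ _)
      obtain ⟨W, hW⟩ := hsum
      refine ⟨↑W⁻¹, ?_⟩
      rw [← hm, map_pow, ← hy, ← geom_sum_mul, ← hW, mul_comm (W : MonoidAlgebra F ↥(P : Subgroup G)) (y - 1), mul_assoc,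
        Units.mul_inv, mul_one]
    choose! wf hwf using hfac
    refine ⟨∏ x ∈ S, wf x, ?_⟩
    rw [hc₀, ← Finset.prod_mul_distrib, Finset.prod_congr rfl hwf, Finset.prod_const]
  -- invariance under the normalizer
  have hcN : ∀ g ∈ N, ρ g * c * ρ g⁻¹ = c := by
    intro g hg
    set σ := α ⟨g, hg⟩ with hσ
    let cj : Module.End F V →ₐ[F] Module.End F V :=
      AlgHom.ofLinearMap ((LinearMap.mulLeft F (ρ g)) ∘ₗ (LinearMap.mulRight F (ρ g⁻¹)))
        (by show ρ g * (1 * ρ g⁻¹) = 1; rw [one_mul, ← map_mul, mul_inv_cancel, map_one])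
        (fun X Y => by
          show ρ g * (X * Y * ρ g⁻¹) = ρ g * (X * ρ g⁻¹) * (ρ g * (Y * ρ g⁻¹))
          have : ρ g⁻¹ * ρ g = 1 := by rw [← map_mul, inv_mul_cancel, map_one]
          simp only [mul_assoc]
          rw [← mul_assoc (ρ g⁻¹) (ρ g), this, one_mul])
    have hcomp : cj.comp Φ = Φ.comp (MonoidAlgebra.mapDomainAlgHom F F σ.toMonoidHom) := by
      refine MonoidAlgebra.algHom_ext (fun x => ?_) (Subsingleton.elim _ _)
      show ρ g * (Φ (MonoidAlgebra.of F ↥(P : Subgroup G) x) * ρ g⁻¹) =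
        Φ (MonoidAlgebra.mapDomainAlgHom F F σ.toMonoidHom (MonoidAlgebra.of F ↥(P : Subgroup G) x))
      rw [show MonoidAlgebra.mapDomainAlgHom F F σ.toMonoidHom (MonoidAlgebra.of F ↥(P : Subgroup G) x) =
        MonoidAlgebra.of F ↥(P : Subgroup G) (σ x) by simp, hΦ, hΦ, ← map_mul, ← map_mul, ← mul_assoc]
      rfl
    have himg : MonoidAlgebra.mapDomainAlgHom F F σ.toMonoidHom c₀ = c₀ := by
      rw [hc₀, map_prod]
      have hSimg : S.image σ = S := by
        refine Finset.eq_of_subset_of_card_le (fun x hx => ?_)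
          (Finset.card_image_of_injective _ σ.injective).ge
        obtain ⟨y, hy, rfl⟩ := Finset.mem_image.mp hx
        obtain ⟨h, -, rfl⟩ := Finset.mem_image.mp hy
        exact Finset.mem_image.mpr ⟨⟨g, hg⟩ * h, Finset.mem_univ _, by rw [map_mul]; rfl⟩
      conv_rhs => rw [← hSimg, Finset.prod_image σ.injective.injOn]
      refine Finset.prod_congr rfl fun x _ => ?_
      rw [map_sub, map_one]
      simp
    have := congrArg (fun φ : MonoidAlgebra F ↥(P : Subgroup G) →ₐ[F] Module.End F V => φ c₀) hcomp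
    simp only [AlgHom.comp_apply, himg] at this
    calc ρ g * c * ρ g⁻¹ = ρ g * (c * ρ g⁻¹) := mul_assoc _ _ _
      _ = c := this
  -- the trace
  let f : G ⧸ N → Module.End F V :=
    Quotient.lift (fun g => ρ g * c * ρ g⁻¹) fun a b hab => by
      have hab' : a⁻¹ * b ∈ N := QuotientGroup.leftRel_apply.mp hab
      show ρ a * c * ρ a⁻¹ = ρ b * c * ρ b⁻¹
      conv_lhs => rw [← hcN _ hab']
      have e1 : ρ a * ρ (a⁻¹ * b) = ρ b := by rw [← map_mul, mul_inv_cancel_left]
      have e2 : ρ (a⁻¹ * b)⁻¹ * ρ a⁻¹ = ρ b⁻¹ := by rw [← map_mul]; congr 1; group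
      rw [← e1, ← e2]
      simp only [mul_assoc]
  have hf : ∀ (h : G) (x : G ⧸ N), f (h • x) = ρ h * f x * ρ h⁻¹ := by
    intro h x
    induction x using QuotientGroup.induction_on with
    | H a =>
      show ρ (h * a) * c * ρ (h * a)⁻¹ = ρ h * (ρ a * c * ρ a⁻¹) * ρ h⁻¹
      rw [map_mul, mul_inv_rev, map_mul]
      simp only [mul_assoc]
  haveI : Fintype (G ⧸ N) := Fintype.ofFinite _
  set Tr := ∑ x : G ⧸ N, f x with hTr
  have hTcomm : ∀ h, Tr * ρ h = ρ h * Tr := by
    intro h
    have h3 : ρ h * Tr * ρ h⁻¹ = Tr := by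
      rw [hTr, Finset.mul_sum, Finset.sum_mul, ← Finset.sum_congr rfl fun x _ => hf h x]
      exact Equiv.sum_comp (MulAction.toPerm h) f
    conv_lhs => rw [← h3]
    rw [mul_assoc, ← map_mul, inv_mul_cancel, map_one, mul_one]
  set x₀ : G ⧸ N := QuotientGroup.mk 1 with hx₀
  set I := LinearMap.range (d ^ (q - l)) with hI
  have hrest : LinearMap.range (∑ x ∈ Finset.univ.erase x₀, f x) ≤ I := by
    refine sum_orbits p n U U' h1 h2 l hdl u (by rw [← hq, ← hord, pow_orderOf_eq_one]) f (hf u) _
      (fun x hx => ?_) fun x hx i hi0 hiq => ?_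
    · refine Finset.mem_erase.mpr ⟨fun h => (Finset.mem_erase.mp hx).1 ?_, Finset.mem_univ _⟩
      rw [← inv_smul_smul u x, h, hx₀]
      show QuotientGroup.mk (u⁻¹ * 1) = _
      rw [QuotientGroup.eq]
      simpa using hPN g₀.2
    · induction x using QuotientGroup.induction_on with
      | H g =>
        intro hfix
        have hgN : g ∉ N := fun h => (Finset.mem_erase.mp hx).1 (by
          rw [hx₀, QuotientGroup.eq]; simpa using inv_mem h)
        have hin : g⁻¹ * u ^ i * g ∈ N := by
          have h3 : (QuotientGroup.mk (u ^ i * g) : G ⧸ N) = QuotientGroup.mk g := hfix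
          rw [QuotientGroup.eq] at h3
          simpa [mul_assoc] using inv_mem h3
        -- a `p`-element of the normalizer lies in `P`
        have hinP : g⁻¹ * u ^ i * g ∈ (P : Subgroup G) := by
          have hpg : IsPGroup p ↥(Subgroup.zpowers (g⁻¹ * u ^ i * g)) := by
            rintro ⟨y, j, rfl⟩
            refine ⟨n, Subtype.ext ?_⟩
            show ((g⁻¹ * u ^ i * g) ^ j) ^ p ^ n = 1
            have h0 : (g⁻¹ * u ^ i * g) ^ p ^ n = 1 := by
              rw [show g⁻¹ * u ^ i * g = g⁻¹ * u ^ i * g⁻¹⁻¹ by rw [inv_inv], conj_pow, ← pow_mul,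
                mul_comm, pow_mul, ← hq, ← hord, pow_orderOf_eq_one]
              group
            rw [← zpow_natCast, ← zpow_mul, mul_comm, zpow_mul, zpow_natCast, h0, one_zpow]
          have hsup := P.3 (IsPGroup.to_sup_of_normal_right' hpg P.isPGroup'
            (Subgroup.zpowers_le.mpr hin)) le_sup_right
          exact hsup.le (Subgroup.mem_sup_left (Subgroup.mem_zpowers _))
        have hne : g • P ≠ P := fun h => hgN (Sylow.smul_eq_iff_mem_normalizer.mp h)
        have hmem : u ^ i ∈ (P : Subgroup G) ⊓ ((g • P : Sylow p G) : Subgroup G) := by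
          refine ⟨pow_mem g₀.2 i, ?_⟩
          show u ^ i ∈ MulAut.conj g • (P : Subgroup G)
          rw [Subgroup.mem_pointwise_smul_iff_inv_smul_mem]
          show (MulAut.conj g)⁻¹ (u ^ i) ∈ (P : Subgroup G)
          rw [MulAut.inv_apply, MulAut.conj_symm_apply]
          exact hinP
        rw [hTI _ hne, Subgroup.mem_bot] at hmem
        have := orderOf_dvd_of_pow_eq_one hmem
        rw [hord] at this
        exact absurd (Nat.le_of_dvd hi0 this) (not_le.mpr hiq)
  have hsplit : f x₀ + ∑ x ∈ Finset.univ.erase x₀, f x = Tr :=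
    Finset.add_sum_erase _ _ (Finset.mem_univ x₀)
  have hfx₀ : f x₀ = c := by
    show ρ 1 * c * ρ 1⁻¹ = c
    rw [inv_one, map_one, one_mul, mul_one]
  have hcd : LinearMap.range c ≤ LinearMap.range d := by
    obtain ⟨x, hx⟩ := Finset.card_pos.mp hSpos
    have hdv : δ ∣ c₀ := by
      refine dvd_trans ?_ (Finset.dvd_prod_of_mem _ hx)
      obtain ⟨m, hm⟩ : ∃ m : ℕ, g₀ ^ m = x := mem_powers_iff_mem_zpowers.mpr (hg₀ x)
      rw [← hm, map_pow]
      simpa [hδ] using sub_dvd_pow_sub_pow (MonoidAlgebra.of F ↥(P : Subgroup G) g₀) 1 m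
    obtain ⟨t, ht⟩ := hdv
    rw [hc, ht, map_mul, hΦδ, Module.End.mul_eq_comp]
    exact LinearMap.range_comp_le_range _ _
  have hql : 0 < q - l := by omega
  have hId : I ≤ LinearMap.range d := by
    rw [hI, ← Nat.sub_add_cancel hql, pow_succ', Module.End.mul_eq_comp]
    exact LinearMap.range_comp_le_range _ _
  have hT0 : Tr = 0 := by
    let φ : Representation.IntertwiningMap ρ ρ :=
      LinearMap.intertwiningMap_of_isIntertwiningMap ρ ρ Tr fun h v => by
        exact congrArg (fun L : Module.End F V => L v) (hTcomm h)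
    haveI := hirr
    rcases Representation.IsIrreducible.bijective_or_eq_zero φ with hb | h0
    · exfalso
      have htop : LinearMap.range d = ⊤ := by
        refine top_le_iff.mp ((LinearMap.range_eq_top.mpr hb.2).ge.trans ?_)
        show LinearMap.range Tr ≤ _
        rw [← hsplit, hfx₀]
        exact (LinearMap.range_add_le _ _).trans (sup_le hcd (hrest.trans hId))
      have hle : LinearMap.range (d ^ 0) ≤ LinearMap.range (d ^ 1) := by
        rw [pow_one, htop]; exact le_top
      have := range_of_le d (e := 0) (m := 1) one_pos hnil hle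
      exact one_ne_zero this
    · exact congrArg Representation.IntertwiningMap.toLinearMap h0
  have hcI : LinearMap.range c ≤ I := by
    have : c = -∑ x ∈ Finset.univ.erase x₀, f x := by
      rw [eq_neg_iff_add_eq_zero, ← hfx₀, hsplit, hT0]
    rw [this, LinearMap.range_neg]
    exact hrest
  have hde : d ^ S.card = 0 := by
    refine range_of_le d (m := q - l) (by omega) hnil ?_
    rw [← hΦδ, ← map_pow, ← hw, map_mul, ← hc, hΦδ, Module.End.mul_eq_comp]
    exact (LinearMap.range_comp_le_range _ _).trans hcI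
  have h5 : p ≤ p ^ (n - 1) := Nat.le_self_pow (by omega) p
  exact hlow (pow_eq_zero_of_le (by omega) hde)

end Cfsg.Agent.S4699
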