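import Cfsg.Statements.S4702
import Cfsg.Agent.Lib.OddLocal.SharpEven

set_option autoImplicit false
open Cfsg

namespace Cfsg.Agent.S4702

/-- Let G be a triply transitive permutation group on a finite set of odd size m ≥ 3 in which only the identity fixes three or more points. Then m = 2^a + 1 for some a ≥ 1 and G is isomorphic to SL(2, 2^a). -/
theorem result {α : Type*} [Fintype α] [DecidableEq α] (hm : 3 ≤ Fintype.card α) (hodd : Odd (Fintype.card α)) (G : Subgroup (Equiv.Perm α)) (h3 : MulAction.IsMultiplyPretransitive G α 3) (hfix : ∀ g : G, 3 ≤ Nat.card (MulAction.fixedBy α g) → g = 1) : ∃ a : ℕ, 1 ≤ a ∧ Fintype.card α = 2 ^ a + 1 ∧ ∃ (F : Type) (_ : Field F) (_ : Fintype F), Fintype.card F = 2 ^ a ∧ Nonempty (G ≃* Matrix.SpecialLinearGroup (Fin 2) F) := by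
  classical
  have hthree : ∀ g : G, ∀ x y z : α, x ≠ y → y ≠ z → x ≠ z → g • x = x → g • y = y → g • z = z → g = 1 := by
    intro g x y z hxy hyz hxz hx hy hz
    refine hfix g ?_
    have h1 : ({x, y, z} : Finset α) ⊆ (MulAction.fixedBy α g).toFinset := by
      intro w hw
      simp only [Finset.mem_insert, Finset.mem_singleton] at hw
      rw [Set.mem_toFinset]
      rcases hw with rfl | rfl | rfl <;> assumption
    rw [Nat.card_eq_fintype_card, ← Set.toFinset_card]
    refine le_trans ?_ (Finset.card_le_card h1)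
    rw [Finset.card_insert_of_notMem (by simp [hxy, hxz]), Finset.card_pair hyz]
  obtain ⟨a, K, i1, i2, ha, hα, hK, ⟨e⟩⟩ := Lib.OddLocal.sharp_odd_degree (G := G) (Ω := α) h3 hthree hm hodd
  refine ⟨a, ha, hα, K, i1, i2, hK, ?_⟩
  exact ⟨e.trans (Lib.OddLocal.sl2_equiv_pgl2 (K := K) (by
    rw [hK]; exact (Nat.even_pow' (by omega)).mpr even_two)).symm⟩

end Cfsg.Agent.S4702
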