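import Cfsg.Statements.S4705
import Cfsg.Agent.Lib.DegreePSubTwo.Main
import Cfsg.Agent.Lib.Glauberman.CoprimeDegree
import Cfsg.Agent.Lib.BrauerPairs.AbelianPIndex
-- import your own Cfsg.Agent.* helpers here

set_option autoImplicit false
open Cfsg Cfsg.Agent.Lib.Blocks Cfsg.Agent.Lib.Characters
open scoped commutatorElement

namespace Cfsg.Agent.S4705

/-- Let G be a finite group with centre Z and p > 5 a prime such that a Sylow p-subgroup of G has order p and is not normal. If G has a faithful irreducible character of degree p − 2, then p = 2^a + 1 for some a and G is isomorphic to the direct product of SL(2, 2^a) with Z. -/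
theorem result {G : Type*} [Group G] [Finite G] (p : ℕ) [Fact p.Prime] (hp : 5 < p) (P : Sylow p G) (hP : Nat.card P = p) (hnn : ¬ (P : Subgroup G).Normal) (ζ : G → ℂ) (hζ : Cfsg.IsIrrCharacter G ζ) (hfaith : ∀ g : G, ζ g = ζ 1 → g = 1) (hdeg : Cfsg.charDegree ζ = p - 2) : ∃ (a : ℕ) (F : Type) (_ : Field F) (_ : Fintype F), p = 2 ^ a + 1 ∧ Fintype.card F = 2 ^ a ∧ Nonempty (G ≃* Matrix.SpecialLinearGroup (Fin 2) F × Subgroup.center G) := by
  classical
  haveI := Fintype.ofFinite G
  have hp' : p.Prime := Fact.out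
  have hd : Cfsg.charDegree ζ + 2 = p := by omega
  have hPZ : ¬ (P : Subgroup G) ≤ Subgroup.center G := by
    intro h
    refine hnn ⟨fun x hx g => ?_⟩
    rw [Subgroup.mem_center_iff.1 (h hx) g, mul_inv_cancel_right]
    exact hx
  have hsq := Lib.BrauerPrime.sq_not_dvd P hP
  let χ : IrrCharacter G := ⟨ζ, hζ⟩
  have H : Lib.DegreePSubTwo.Setting p χ (P : Subgroup G) := ⟨hp, hd, hfaith, hP, hsq, hPZ⟩
  obtain ⟨u, t, k, D⟩ := H.exists_data
  haveI : NeZero p := ⟨hp'.ne_zero⟩
  -- characters restricted to normal subgroups containing `P`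
  have hsub : ∀ (N : Subgroup G) (_ : N.Normal) (hPN : (P : Subgroup G) ≤ N) (θ : IrrCharacter N),
      (∀ x : N, ζ x = (θ : N → ℂ) x) →
      Lib.DegreePSubTwo.Setting p θ ((P : Subgroup G).subgroupOf N) := by
    intro N hN hPN θ hθ
    haveI := Fintype.ofFinite N
    have hθ1 : charDegree (θ : N → ℂ) = charDegree ζ := by
      refine Nat.cast_injective (R := ℂ) ?_
      rw [Lib.Blocks.charDegree_eq, ← hθ 1, OneMemClass.coe_one]
      exact (Lib.Blocks.charDegree_eq χ).symm
    refine ⟨hp, by rw [hθ1]; exact hd, fun x hx => ?_, ?_, ?_, ?_⟩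
    · exact Subtype.ext (hfaith _ (by rw [hθ, hx, ← hθ 1, OneMemClass.coe_one]))
    · rw [Nat.card_congr (Subgroup.subgroupOfEquivOfLe hPN).toEquiv]; exact hP
    · exact fun h => hsq (h.trans (Subgroup.card_subgroup_dvd_card N))
    · intro h
      refine hnn ⟨fun x hx g => ?_⟩
      have hc : g * x * g⁻¹ ∈ Subgroup.centralizer ((P : Subgroup G) : Set G) := by
        refine Subgroup.mem_centralizer_iff.2 fun a ha => ?_
        have h1 := Subgroup.mem_center_iff.1 (h (x := ⟨a, hPN ha⟩) (Subgroup.mem_subgroupOf.2 ha))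
          ⟨g * x * g⁻¹, hN.conj_mem _ (hPN hx) g⟩
        exact (congrArg Subtype.val h1).symm
      obtain ⟨j, w, hw, hj⟩ := D.cent _ hc
      have hx1 : x ^ p = 1 := orderOf_dvd_iff_pow_eq_one.1
        ((Subgroup.orderOf_dvd_natCard _ hx).trans hP.dvd)
      have hup : u ^ p = 1 := by rw [← D.order_u]; exact pow_orderOf_eq_one u
      have h2 : (g * x * g⁻¹) ^ p = 1 := by
        rw [show g * x * g⁻¹ = MulAut.conj g x from rfl, ← map_pow, hx1, map_one]
      rw [hj, (show Commute (Lib.Blocks.upow u j) w from Subgroup.mem_center_iff.1 hw _).mul_pow,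
        Lib.Blocks.upow, ← pow_mul, mul_comm, pow_mul, hup, one_pow, one_mul] at h2
      have hw1 : w = 1 := by
        rcases (Nat.dvd_prime hp').1 (orderOf_dvd_of_pow_eq_one h2) with h3 | h3
        · exact orderOf_eq_one_iff.1 h3
        · exact absurd h3.symm.dvd (D.central_regular w hw)
      rw [hj, hw1, mul_one]
      exact Lib.Blocks.upow_mem D.mem j
  -- `u` is a commutator
  have huK : u ∈ commutator G := by
    have h1 : ⁅t, u⁆ ∈ commutator G := Subgroup.commutator_mem_commutator (Subgroup.mem_top _) (Subgroup.mem_top _)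
    rw [commutatorElement_def, D.conj_u] at h1
    obtain ⟨q, hq⟩ := hp'.odd_of_ne_two (by omega)
    have h2 : (u⁻¹ * u⁻¹) ^ q = u := by
      rw [← pow_two, ← pow_mul, inv_pow, inv_eq_iff_mul_eq_one, ← pow_succ]
      rw [← hq, ← D.order_u, pow_orderOf_eq_one]
    exact h2 ▸ pow_mem h1 q
  have hPK : (P : Subgroup G) ≤ commutator G := by
    intro x hx
    obtain ⟨i, rfl⟩ := Lib.Blocks.exists_upow_eq hP D.mem D.ne_one hx
    exact pow_mem huK _
  set L := commutator G ⊔ Subgroup.center G with hLdef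
  have hPL : (P : Subgroup G) ≤ L := hPK.trans le_sup_left
  have hCL : Subgroup.centralizer ((P : Subgroup G) : Set G) ≤ L := by
    intro c hc
    obtain ⟨j, w, hw, rfl⟩ := D.cent c hc
    exact mul_mem (hPL (Lib.Blocks.upow_mem D.mem j)) (Subgroup.mem_sup_right hw)
  have hcases : ∀ g : G, g ∈ L ∨ t⁻¹ * g ∈ L := by
    intro g
    have hg : g ∈ Subgroup.normalizer ((P : Subgroup G) : Set G) ⊔ L :=
      (Sylow.normalizer_sup_eq_top' P hPL).symm ▸ Subgroup.mem_top g
    obtain ⟨a, ha, c, hc, rfl⟩ := Subgroup.mem_sup_of_normal_right.1 hg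
    rcases D.norm_cases a ha with h | h
    · exact Or.inl (mul_mem (hCL h) hc)
    · exact Or.inr (by rw [← mul_assoc]; exact mul_mem (hCL h) hc)
  have htL : t ∈ L := by
    by_contra htL
    have hidx : L.index = 2 := by
      rw [Subgroup.index_eq_two_iff]
      refine ⟨t⁻¹, fun g => ?_⟩
      have hconj : ∀ g : G, t⁻¹ * g ∈ L → g * t⁻¹ ∈ L := fun g hg => by
        simpa [mul_assoc] using (inferInstance : L.Normal).conj_mem _ hg t
      rcases hcases g with h | h
      · refine Or.inr ⟨h, fun h' => htL ?_⟩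
        have := mul_mem (inv_mem h) h'
        rw [inv_mul_cancel_left] at this
        simpa using inv_mem this
      · refine Or.inl ⟨hconj g h, fun h' => htL ?_⟩
        simpa using inv_mem (mul_mem h (inv_mem h'))
    obtain ⟨θ, -, hθ⟩ := Lib.Glauberman.exists_restrict_eq_of_degree_coprime L χ (by
      rw [hidx, Nat.coprime_comm, Nat.prime_two.coprime_iff_not_dvd]
      show ¬ 2 ∣ Cfsg.charDegree ζ
      obtain ⟨q, hq⟩ := hp'.odd_of_ne_two (by omega)
      omega)
    haveI := Fintype.ofFinite L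
    obtain ⟨u', t', k', D'⟩ := (hsub L inferInstance hPL θ hθ).exists_data
    have hN : (t' : G) ∈ Subgroup.normalizer ((P : Subgroup G) : Set G) := by
      refine Subgroup.mem_normalizer_iff.2 fun a => ⟨fun ha => ?_, fun ha => ?_⟩
      · exact Subgroup.mem_subgroupOf.1
          ((Subgroup.mem_normalizer_iff.1 D'.t_mem ⟨a, hPL ha⟩).1 (Subgroup.mem_subgroupOf.2 ha))
      · have haL : a ∈ L := by
          simpa [mul_assoc] using mul_mem (mul_mem (inv_mem t'.2) (hPL ha)) t'.2
        exact Subgroup.mem_subgroupOf.1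
          ((Subgroup.mem_normalizer_iff.1 D'.t_mem ⟨a, haL⟩).2 (Subgroup.mem_subgroupOf.2 ha))
    rcases D.norm_cases _ hN with h | h
    · have h1 : Commute (t' : G) (u' : G) :=
        (Subgroup.mem_centralizer_iff.1 h _ (Subgroup.mem_subgroupOf.1 D'.mem)).symm
      have h2 : u' = u'⁻¹ := by
        refine Eq.trans ?_ D'.conj_u
        exact (mul_inv_eq_iff_eq_mul.2 (Subtype.ext h1.eq)).symm
      have h3 : u' ^ 2 = 1 := by rw [pow_two]; exact mul_eq_one_iff_eq_inv.2 h2
      have h4 := Nat.le_of_dvd (by norm_num) (D'.order_u ▸ orderOf_dvd_of_pow_eq_one h3)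
      omega
    · refine htL ?_
      simpa using inv_mem (mul_mem (hCL h) (inv_mem t'.2))
  have hLtop : ∀ g : G, ∃ a ∈ commutator G, ∃ w ∈ Subgroup.center G, a * w = g := by
    intro g
    refine Subgroup.mem_sup_of_normal_right.1 ?_
    rcases hcases g with h | h
    · exact h
    · simpa using mul_mem htL h
  -- the derived subgroup
  set K := commutator G with hKdef
  have hperf : commutator K = ⊤ := by
    have h1 : K ≤ (commutator K).map K.subtype := by
      refine (le_of_eq (hKdef.trans (commutator_def G))).trans (Subgroup.commutator_le.2 fun a _ c _ => ?_)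
      obtain ⟨a', ha', w, hw, rfl⟩ := hLtop a
      obtain ⟨c', hc', w', hw', rfl⟩ := hLtop c
      refine Subgroup.mem_map.2 ⟨⁅(⟨a', ha'⟩ : K), (⟨c', hc'⟩ : K)⁆,
        Subgroup.commutator_mem_commutator (Subgroup.mem_top _) (Subgroup.mem_top _), ?_⟩
      have e1 : ∀ x y : G, ∀ z ∈ Subgroup.center G, ⁅x * z, y⁆ = ⁅x, y⁆ := fun x y z hz => by
        simp only [commutatorElement_def, _root_.mul_inv_rev, mul_assoc]
        rw [← mul_assoc z y, ← Subgroup.mem_center_iff.1 hz y, mul_assoc y z, mul_inv_cancel_left]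
      have e2 : ⁅a' * w, c' * w'⁆ = ⁅a', c'⁆ := by
        rw [e1 _ _ w hw, ← commutatorElement_inv, e1 _ _ w' hw', commutatorElement_inv]
      rw [e2]
      exact map_commutatorElement K.subtype _ _
    refine (Subgroup.eq_top_iff' _).2 fun x => ?_
    obtain ⟨y, hy, hyx⟩ := Subgroup.mem_map.1 (h1 x.2)
    rwa [← K.subtype_injective hyx]
  haveI := Fintype.ofFinite K
  have hirr : IsIrrCharacter K (fun x : K => (χ : G → ℂ) x) := by
    refine Lib.BrauerPairs.isIrr_restrict_of_free K (fun a c => ?_) χ fun lam hlam => ?_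
    · obtain ⟨a, rfl⟩ := QuotientGroup.mk_surjective a
      obtain ⟨c, rfl⟩ := QuotientGroup.mk_surjective c
      rw [← QuotientGroup.mk_mul, ← QuotientGroup.mk_mul, QuotientGroup.eq]
      rw [show (a * c)⁻¹ * (c * a) = ⁅c⁻¹, a⁻¹⁆ by rw [commutatorElement_def]; group]
      exact Subgroup.commutator_mem_commutator (Subgroup.mem_top _) (Subgroup.mem_top _)
    · refine MonoidHom.ext fun g => ?_
      obtain ⟨a, ha, w, hw, rfl⟩ := hLtop g
      rw [map_mul, lam.2 a ha, one_mul, MonoidHom.one_apply]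
      have h1 := congrFun (congrArg (fun f : IrrCharacter G => (f : G → ℂ)) hlam) w
      have hw0 : (χ : G → ℂ) w ≠ 0 := by
        intro h0
        have h2 := Lib.DegreePSubTwo.cval_norm (χ := (χ : G → ℂ)) hζ hw
        rw [Lib.DegreePSubTwo.cval, h0, zero_div, norm_zero] at h2
        exact zero_ne_one h2
      refine Units.ext ?_
      exact (mul_eq_left₀ hw0).1 h1
  obtain ⟨hZK, a, F, i1, i2, hpa, hF, ⟨e⟩⟩ :=
    Lib.DegreePSubTwo.iso_sl hperf (hsub K inferInstance hPK ⟨_, hirr⟩ fun x => rfl)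
  refine ⟨a, F, i1, i2, hpa, hF, ?_⟩
  let f : K × Subgroup.center G →* G :=
    { toFun := fun x => (x.1 : G) * x.2
      map_one' := by simp
      map_mul' := fun x y => by
        show ((x.1 : G) * y.1) * ((x.2 : G) * y.2) = (x.1 : G) * x.2 * ((y.1 : G) * y.2)
        rw [mul_assoc, mul_assoc, ← mul_assoc (y.1 : G) (x.2 : G),
          Subgroup.mem_center_iff.1 x.2.2 (y.1 : G), mul_assoc] }
  have hf : Function.Bijective f := by
    refine ⟨(injective_iff_map_eq_one f).2 fun x hx => ?_, fun g => ?_⟩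
    · have hx1 : x.1 = 1 := by
        rw [← Subgroup.mem_bot, ← hZK]
        refine Subgroup.mem_center_iff.2 fun y => Subtype.ext ?_
        have h1 : (x.1 : G) = (x.2 : G)⁻¹ := mul_eq_one_iff_eq_inv.1 hx
        show (y : G) * x.1 = x.1 * y
        rw [h1]
        exact Subgroup.mem_center_iff.1 (inv_mem x.2.2) y
      have hx2 : x.2 = 1 := Subtype.ext (by
        have h : (x.1 : G) * x.2 = 1 := hx
        rw [hx1, OneMemClass.coe_one, one_mul] at h
        exact h)
      exact Prod.ext hx1 hx2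
    · obtain ⟨c, hc, w, hw, rfl⟩ := hLtop g
      exact ⟨(⟨c, hc⟩, ⟨w, hw⟩), rfl⟩
  exact ⟨(MulEquiv.ofBijective f hf).symm.trans (MulEquiv.prodCongr e (MulEquiv.refl _))⟩

end Cfsg.Agent.S4705
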