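import Cfsg.Statements.S4709
import Cfsg.Agent.Lib.Blocks.FrobeniusNormalizer

set_option autoImplicit false
open Cfsg Cfsg.Agent.Lib.Blocks Cfsg.Agent.Lib.Characters

namespace Cfsg.Agent.S4709

theorem result {G : Type*} [Group G] [Finite G] (p : ℕ) [Fact p.Prime] (M : Ideal Cfsg.AlgInt) (hM : Cfsg.IsPModular p M) (P : Sylow p G) (hab : IsMulCommutative P) (hP1 : Nat.card P ≠ 1) (m : ℕ) (hm1 : 1 < m) (hm2 : m + 1 < Nat.card P) (hCN : (Subgroup.centralizer ((P : Subgroup G) : Set G)).relIndex (Subgroup.normalizer ((P : Subgroup G) : Set G)) = m) (hcyc : ∃ g : G, g ∈ Subgroup.normalizer ((P : Subgroup G) : Set G) ∧ Subgroup.centralizer ((P : Subgroup G) : Set G) ⊔ Subgroup.zpowers g = Subgroup.normalizer ((P : Subgroup G) : Set G)) (hfrob : ∀ y : G, y ∈ (P : Subgroup G) → y ≠ 1 → Subgroup.centralizer ({y} : Set G)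 ⊓ Subgroup.normalizer ((P : Subgroup G) : Set G) = Subgroup.centralizer ((P : Subgroup G) : Set G)) : ∃ (s : ℕ) (X Y : Set (Cfsg.IrrCharacter G)), s ≤ m ∧ Cfsg.principalBlock M G = X ∪ Y ∧ Disjoint X Y ∧ Nat.card X = s ∧ Nat.card Y = (Nat.card P - 1) / m ∧ (∃ χ₁ ∈ X, (χ₁ : G → ℂ) = fun _ => 1) ∧ ∃ (a : Cfsg.IrrCharacter G → ℤ) (d δ : ℤ) (ζ : (↥(P : Subgroup G) →* ℂˣ) → Cfsg.IrrCharacter G), (δ = 1 ∨ δ = -1) ∧ (∀ χ ∈ X, a χ ≠ 0 ∧ ∀ z y : G, Cfsg.IsPPart p z y → y ∈ (P : Subgroup G) → y ≠ 1 → (χ : G → ℂ) z = (a χ : ℂ)) ∧ (∀ ψ : ↥(P : Subgroup G) →* ℂˣ, ψ ≠ 1 → ζ ψ ∈ Y) ∧ (∀ η ∈ Y, ∃ ψ : ↥(P : Subgroup G) →* ℂˣ, ψ ≠ 1 ∧ ζ ψ = η) ∧ (∀ ψ ψ' : ↥(P : Subgroup G) →* ℂˣ, ψ ≠ 1 → (∃ n : G, n ∈ Subgroup.normalizer ((P : Subgroup G) : Set G) ∧ ∀ w w' : ↥(P : Subgroup G), (w' : G) = n * w * n⁻¹ → ψ' w' = ψ w) → ζ ψ' = ζ ψ) ∧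 (∀ ψ : ↥(P : Subgroup G) →* ℂˣ, ψ ≠ 1 → ∀ (z : G) (y : ↥(P : Subgroup G)), Cfsg.IsPPart p z (y : G) → (y : G) ≠ 1 → (ζ ψ : G → ℂ) z = (d : ℂ) + (δ : ℂ) * ∑ᶠ ψ' ∈ {ψ' : ↥(P : Subgroup G) →* ℂˣ | ∃ n : G, n ∈ Subgroup.normalizer ((P : Subgroup G) : Set G) ∧ ∀ w w' : ↥(P : Subgroup G), (w' : G) = n * w * n⁻¹ → ψ' w' = ψ w}, ((ψ' y : ℂˣ) : ℂ)) ∧ ((d - δ) ^ 2 + ((Nat.card P - 1) / m - 1 : ℤ) * d ^ 2 + ∑ᶠ χ ∈ X, a χ ^ 2 = (m : ℤ) + 1) ∧ (∀ η ∈ Y, ∀ η' ∈ Y, ∀ g : G, ¬ p ∣ orderOf g → (η : G → ℂ) g = (η' : G → ℂ) g) ∧ (∀ η ∈ Y, ∀ g : G, ¬ p ∣ orderOf g → ((((Nat.card P - 1) / m : ℕ) : ℂ) * d - δ) * (η : G → ℂ) g + ∑ᶠ χ ∈ X, (a χ : ℂ) * (χ : G → ℂ) g = 0) := by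
  haveI := Fintype.ofFinite G
  haveI : M.IsPrime := hM.2.1.isPrime
  haveI := hab
  obtain ⟨X, Y, ζ, a, d, δ, hB, hXY, htX, -, hY, hδ, hX, hζ, hsurj, hcl, hval, hnorm, hagree, hrel, -⟩ :=
    frobenius_normalizer_block hM P m (by omega) hm2 hCN hfrob
  have hr : (Nat.card P - 1) / m = Y.card := by
    rw [← hY, Nat.mul_div_cancel _ (by omega)]
  have hr2 : 2 ≤ Y.card := by
    by_contra h
    have : Y.card * m ≤ 1 * m := Nat.mul_le_mul_right m (by omega)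
    omega
  refine ⟨X.card, ↑X, ↑Y, ?_, hB, Finset.disjoint_coe.2 hXY, ?_, ?_, ⟨_, htX, funext trivIrr_apply⟩,
    a, d, δ, ζ, hδ, hX, hζ, hsurj, hcl, hval, ?_, hagree, ?_⟩
  · have h1 : (X.card : ℤ) ≤ ∑ χ ∈ X, a χ ^ 2 := by
      rw [Finset.cast_card]
      refine Finset.sum_le_sum fun χ hχ => ?_
      exact Int.add_one_le_of_lt (lt_of_le_of_ne (sq_nonneg _) (Ne.symm (pow_ne_zero 2 (hX χ hχ).1)))
    have h2 : 1 ≤ (d - δ) ^ 2 + ((Y.card : ℤ) - 1) * d ^ 2 := by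
      by_cases hd : d = 0
      · subst hd
        rcases hδ with rfl | rfl <;> norm_num
      · have : 1 ≤ d ^ 2 := Int.add_one_le_of_lt (lt_of_le_of_ne (sq_nonneg _) (Ne.symm (pow_ne_zero 2 hd)))
        have hY2 : (1 : ℤ) ≤ (Y.card : ℤ) - 1 := by
          have : (2 : ℤ) ≤ Y.card := by exact_mod_cast hr2
          linarith
        nlinarith [sq_nonneg (d - δ)]
    omega
  · rw [Nat.card_coe_set_eq, Set.ncard_coe_finset]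
  · rw [Nat.card_coe_set_eq, Set.ncard_coe_finset, hr]
  · rw [finsum_mem_coe_finset, ← hnorm]
    have : ((Nat.card P : ℤ) - 1) / (m : ℤ) = (Y.card : ℤ) := by
      have hp0 : 0 < Nat.card P := Nat.card_pos
      rw [← hr]; push_cast [Nat.cast_sub hp0]; norm_num
    rw [this]
  · intro η hη g hg
    rw [finsum_mem_coe_finset, hr]
    exact hrel η hη g hg

end Cfsg.Agent.S4709
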