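import Cfsg.Statements.S4711
import Cfsg.Agent.Lib.Blocks.PrincipalMinimal
import Cfsg.Agent.Lib.Blocks.Covering2
import Cfsg.Agent.Lib.Characters.Kernel
import Cfsg.Agent.Lib.PLength.Basic
import Cfsg.Agent.Lib.OddLocal.PCore

set_option autoImplicit false
open Cfsg

namespace Cfsg.Agent.S4711

open Cfsg.Agent.Lib Cfsg.Agent.Lib.Blocks Cfsg.Agent.Lib.Characters Cfsg.Agent.Lib.BrauerPairs
open scoped ComplexConjugate

universe u

variable {G : Type u} [Group G] [Fintype G] {p : ℕ} [hp : Fact p.Prime] {M : Ideal AlgInt} [M.IsPrime]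

theorem restrict_irr_of_sup_eq_top {χ : G → ℂ} (hχ : IsIrrCharacter G χ) {K N : Subgroup G}
    [K.Normal] (hKN : K ⊔ N = ⊤) (hK : ∀ k ∈ K, χ k = χ 1) :
    IsIrrCharacter N (fun n : N => χ n) := by
  obtain ⟨n, ρ, hirr, rfl⟩ := hχ
  refine ⟨n, ρ.comp N.subtype, ?_, rfl⟩
  rw [isIrreducible_iff_forall] at hirr ⊢
  refine ⟨hirr.1, fun S hS => hirr.2 S fun g x hx => ?_⟩
  have hg : g ∈ ((K ⊔ N : Subgroup G) : Set G) := by rw [hKN]; trivial
  rw [Subgroup.normal_mul] at hg
  obtain ⟨k, hk, a, ha, rfl⟩ := hg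
  have h1 : ρ k = LinearMap.id := by
    rw [← char_eq_finrank_iff, hK k hk, Representation.char_one]
  rw [map_mul, h1]
  exact hS ⟨a, ha⟩ x hx

theorem sum_subgroup_eq_nat {χ : G → ℂ} (hχ : IsCharacter G χ) (P : Subgroup G) [Fintype P] :
    ∃ a : ℕ, ∑ x : P, χ x = (Nat.card P : ℂ) * a := by
  obtain ⟨a, ha⟩ := IsCharacter.exists_classInner_nat (IsCharacter.restrict hχ P)
    (irr_isCharacter (trivIrr P))
  refine ⟨a, ?_⟩
  rw [← ha, classInner, ← mul_assoc, mul_inv_cancel₀ (Nat.cast_ne_zero.2 Nat.card_pos.ne'), one_mul]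
  simp

theorem sum_ne_zero_of_constituent {L : Subgroup G} [Fintype L] {χ : IrrCharacter G}
    {θ : IrrCharacter L} (h : classInner (fun n : L => (χ : G → ℂ) n) (θ : L → ℂ) ≠ 0)
    (P : Subgroup L) [Fintype P] (hθ : ∑ x : P, (θ : L → ℂ) x ≠ 0) :
    ∑ x : P, (χ : G → ℂ) ((x : L) : G) ≠ 0 := by
  obtain ⟨ρ, hρ, hsum⟩ := IsCharacter.exists_add_of_classInner_ne_zero
    (IsCharacter.restrict (irr_isCharacter χ) L) θ.2 h
  obtain ⟨a, ha⟩ := sum_subgroup_eq_nat (irr_isCharacter θ) P
  obtain ⟨b, hb⟩ := sum_subgroup_eq_nat hρ P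
  have e : ∀ x : P, (χ : G → ℂ) ((x : L) : G) = (θ : L → ℂ) x + ρ x := fun x => congrFun hsum x
  rw [Finset.sum_congr rfl fun x _ => e x, Finset.sum_add_distrib, ha, hb, ← mul_add]
  have ha0 : a ≠ 0 := fun h0 => hθ (by rw [ha, h0, Nat.cast_zero, mul_zero])
  exact mul_ne_zero (Nat.cast_ne_zero.2 Nat.card_pos.ne') (by exact_mod_cast (by omega : a + b ≠ 0))

theorem trivial_on_sylow (P : Sylow p G) [Fintype (P : Subgroup G)] {χ : IrrCharacter G}
    (hirr : IsIrrCharacter ↥(Subgroup.normalizer ((P : Subgroup G) : Set G))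
      (fun n : ↥(Subgroup.normalizer ((P : Subgroup G) : Set G)) => (χ : G → ℂ) n))
    (h : ∑ x : (P : Subgroup G), (χ : G → ℂ) x ≠ 0) :
    ∀ x ∈ (P : Subgroup G), (χ : G → ℂ) x = (χ : G → ℂ) 1 := by
  classical
  set N := Subgroup.normalizer ((P : Subgroup G) : Set G)
  set Q := (P : Subgroup G).subgroupOf N
  haveI : Q.Normal := Subgroup.normal_in_normalizer
  have hle : (P : Subgroup G) ≤ N := Subgroup.le_normalizer
  have h1 := (classInner_trivIrr_ne_zero_iff Q (⟨_, hirr⟩ : IrrCharacter N)).1 ?_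
  · intro x hx
    exact h1 ⟨x, hle hx⟩ hx
  · rw [classInner]
    refine mul_ne_zero (inv_ne_zero (Nat.cast_ne_zero.2 Nat.card_pos.ne')) fun h0 => h ?_
    rw [← h0]
    exact Fintype.sum_equiv (Subgroup.subgroupOfEquivOfLe hle).symm.toEquiv _ _ fun x => by simp

theorem iff_restrict (hM : IsPModular p M) (P : Sylow p G) :
    Cfsg.PLengthLE p 1 G ↔ ∀ χ ∈ Cfsg.principalBlock M G,
      Cfsg.IsIrrCharacter ↥(Subgroup.normalizer ((P : Subgroup G) : Set G))
        (fun n : ↥(Subgroup.normalizer ((P : Subgroup G) : Set G)) => (χ : G → ℂ) n) := by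
  classical
  constructor
  · intro h χ hχ
    obtain ⟨K, hKn, hKc, -, hKN, -⟩ := OddLocal.exists_of_pLengthLE_one h P
    haveI := hKn
    refine restrict_irr_of_sup_eq_top χ.2 hKN ?_
    exact trivial_on_of_sameBlock K hM ((hM.1.coprime_iff_not_dvd).1 hKc.symm)
      (χ := trivIrr G) hχ fun n _ => rfl
  · intro h
    set L := Subgroup.normalClosure ((P : Subgroup G) : Set G) with hL
    have hPL : (P : Subgroup G) ≤ L := Subgroup.le_normalClosure
    set P' : Sylow p L := P.subtype hPL
    have hcond : ∀ θ ∈ principalBlock M L,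
        ∑ x : (P' : Subgroup L), (θ : L → ℂ) x ≠ 0 → θ = trivIrr L := by
      intro θ hθ hsum
      obtain ⟨χ, hχ, hover⟩ := exists_over_in_block (N := L) hM
        (isPBlock_principalBlock (M := M) (G := G)) (isPBlock_principalBlock (M := M) (G := L))
        ⟨trivIrr G, trivIrr_mem_principalBlock, trivIrr L, trivIrr_mem_principalBlock,
          (classInner_trivIrr_ne_zero_iff L (trivIrr G)).2 fun n _ => rfl⟩ hθ
      have h1 := sum_ne_zero_of_constituent hover (P' : Subgroup L) hsum
      have h2 : ∑ x : (P : Subgroup G), (χ : G → ℂ) x ≠ 0 := by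
        intro h0
        apply h1
        rw [← h0]
        exact Fintype.sum_equiv (Subgroup.subgroupOfEquivOfLe hPL).toEquiv _ _ fun x => rfl
      have h3 := trivial_on_sylow P (h χ hχ) h2
      have h4 : L ≤ charKernel (irr_isCharacter χ) :=
        Subgroup.normalClosure_le_normal fun x hx => h3 x hx
      by_contra hne
      apply hover
      rw [show (fun n : L => (χ : G → ℂ) n) = (χ : G → ℂ) 1 • (trivIrr L : L → ℂ) from
        funext fun n => by simp [show (χ : G → ℂ) n = (χ : G → ℂ) 1 from h4 n.2],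
        classInner_smul_left,
        IsIrrCharacter.classInner_ne (trivIrr L).2 θ.2 fun e => hne (Subtype.ext e.symm), mul_zero]
    obtain ⟨K, hKn, hKp, hKreg⟩ := exists_complement_of_minimal hM P' hcond
    haveI := hKn
    have hKiff : ∀ g : L, g ∈ K ↔ ¬ p ∣ orderOf g := fun g => ⟨fun hg hd => hKp (hd.trans (by
      have := orderOf_dvd_natCard (⟨g, hg⟩ : K)
      rwa [Subgroup.orderOf_mk] at this)), hKreg g⟩
    set K' := K.map L.subtype with hK'
    have hK'n : K'.Normal := ⟨by
      rintro _ ⟨z, hz, rfl⟩ a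
      refine ⟨⟨a * z * a⁻¹, Subgroup.normalClosure_normal.conj_mem _ z.2 a⟩, ?_, rfl⟩
      rw [SetLike.mem_coe, hKiff, ← Subgroup.orderOf_coe] at hz ⊢
      show ¬ p ∣ orderOf (a * (z : G) * a⁻¹)
      rwa [show a * (z : G) * a⁻¹ = MulAut.conj a z from rfl,
        (MulAut.conj a).orderOf_eq]⟩
    have hq : IsPGroup p (L ⧸ K) := fun x => by
      obtain ⟨g, rfl⟩ := QuotientGroup.mk_surjective x
      refine ⟨(orderOf g).factorization p, ?_⟩
      rw [← QuotientGroup.mk_pow, QuotientGroup.eq_one_iff]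
      refine hKreg _ ?_
      rw [orderOf_pow_of_dvd (pow_ne_zero _ hM.1.ne_zero) (Nat.ordProj_dvd _ p)]
      exact Nat.not_dvd_ordCompl hM.1 (orderOf_pos g).ne'
    let A : ℕ → Subgroup G := fun j => if j = 0 then ⊥ else if j = 1 then K' else if j = 2 then L else ⊤
    refine PLength.pLengthLE_of_series (k := 1) (A := A) ⟨rfl, rfl, fun j hj => ?_, fun j hj => ?_, fun j hj => ?_⟩
    · interval_cases j
      · exact bot_le
      · exact Subgroup.map_subtype_le K
      · exact le_top
    · interval_cases j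
      · exact (inferInstance : (⊥ : Subgroup G).Normal)
      · exact hK'n
      · exact (Subgroup.normalClosure_normal : L.Normal)
      · exact (inferInstance : (⊤ : Subgroup G).Normal)
    · interval_cases j
      · refine ⟨fun _ => ?_, fun h0 => absurd Even.zero h0⟩
        show ((⊥ : Subgroup G).relIndex K').Coprime p
        rw [Subgroup.relIndex_bot_left, hK', Subgroup.card_map_of_injective L.subtype_injective]
        exact ((hM.1.coprime_iff_not_dvd).2 hKp).symm
      · refine ⟨fun h0 => absurd h0 (by decide), fun _ => ?_⟩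
        show ∃ k, K'.relIndex L = p ^ k
        obtain ⟨k, hk⟩ := IsPGroup.iff_card.1 hq
        refine ⟨k, ?_⟩
        rw [Subgroup.relIndex, hK', Subgroup.subgroupOf, Subgroup.comap_map_eq_self_of_injective L.subtype_injective, Subgroup.index_eq_card, hk]
      · refine ⟨fun _ => ?_, fun h0 => absurd (by decide) h0⟩
        show (L.relIndex ⊤).Coprime p
        rw [Subgroup.relIndex_top_right]
        exact ((hM.1.coprime_iff_not_dvd).2 fun hd =>
          P.not_dvd_index (hd.trans (Subgroup.index_dvd_of_le hPL))).symm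


/-- Let p be a prime, M a maximal ideal of the algebraic integers containing p, G a finite group, P a Sylow p-subgroup and N = N_G(P). Then G has p-length 1 (G = O_{p',p,p'}(G)) if and only if every irreducible character in the principal p-block of G restricts to an irreducible character of N. -/
theorem result {G : Type*} [Group G] [Finite G] (p : ℕ) [Fact p.Prime] (M : Ideal Cfsg.AlgInt) (hM : Cfsg.IsPModular p M) (P : Sylow p G) : Cfsg.PLengthLE p 1 G ↔ ∀ χ ∈ Cfsg.principalBlock M G, Cfsg.IsIrrCharacter ↥(Subgroup.normalizer ((P : Subgroup G) : Set G)) (fun n : ↥(Subgroup.normalizer ((P : Subgroup G) : Set G)) => (χ : G → ℂ) n) := by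
  haveI := Fintype.ofFinite G
  haveI := isPrime_of_isPModular hM
  exact iff_restrict hM P

end Cfsg.Agent.S4711
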