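import Cfsg.Statements.S4713
import Cfsg.Agent.Lib.Characters.PSolvableDegrees
-- import your own Cfsg.Agent.* helpers here

set_option autoImplicit false
open Cfsg

namespace Cfsg.Agent.S4713

/-- Let p be a prime and G a finite p-solvable group. Then G has a normal abelian Sylow p-subgroup if and only if the degree of every irreducible character of G is prime to p. -/
theorem result {G : Type*} [Group G] [Finite G] (p : ℕ) [Fact p.Prime] (hsolv : Cfsg.IsPSolvable p G) (P : Sylow p G) : ((P : Subgroup G).Normal ∧ IsMulCommutative P) ↔ ∀ χ : Cfsg.IrrCharacter G, ¬ p ∣ Cfsg.charDegree (χ : G → ℂ) := by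
  refine ⟨fun ⟨hn, hc⟩ χ hdvd => ?_, fun h => ?_⟩
  · obtain ⟨d, -, hd, -⟩ := Cfsg.Agent.Lib.Characters.IsIrrCharacter.exists_degree_dvd χ.2
    rw [Cfsg.Agent.Lib.Characters.charDegree_eq_of_apply_one_psd hd] at hdvd
    haveI := hn
    exact P.not_dvd_index (hdvd.trans
      (Cfsg.Agent.Lib.Characters.IsIrrCharacter.degree_dvd_index_of_abelian χ.2 (P : Subgroup G)
        (fun a ha b hb => congrArg Subtype.val (hc.is_comm.comm ⟨a, ha⟩ ⟨b, hb⟩)) hd))
  · obtain ⟨hn, hc⟩ :=
      Cfsg.Agent.Lib.Characters.normal_abelian_sylow_of_degrees rfl hsolv h P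
    exact ⟨hn, ⟨⟨fun a b => Subtype.ext (hc _ a.2 _ b.2)⟩⟩⟩

end Cfsg.Agent.S4713
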