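import Cfsg.Statements.S4715
import Cfsg.Agent.Lib.HeightCenter.CenterSubsections
-- import your own Cfsg.Agent.* helpers here

set_option autoImplicit false
open Cfsg Cfsg.Agent.Lib Cfsg.Agent.Lib.Blocks Cfsg.Agent.Lib.Characters

namespace Cfsg.Agent.S4715

/-- Let p be a prime, M a maximal ideal of the algebraic integers containing p, B a p-block of the finite group G with defect group D of order p^d, H = D·C_G(D), b a block of H inducing B, T the stabilizer of b in N_G(D) and e = [T : H] the inertial index of B; let n be the integer with p^n ≤ e < p^(n+1) and p^c the order of the centre of D. Then every irreducible character in B has height h with h + c ≤ n + d. -/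
theorem result {G : Type*} [Group G] [Finite G] (p : ℕ) [Fact p.Prime] (M : Ideal Cfsg.AlgInt) (hM : Cfsg.IsPModular p M) (B : Set (Cfsg.IrrCharacter G)) (hB : Cfsg.IsPBlock M B) (D : Subgroup G) (hBD : Cfsg.IsDefectGroup p M B D) (d : ℕ) (hDd : Nat.card D = p ^ d) (H : Subgroup G) (hH : H = D ⊔ Subgroup.centralizer (D : Set G)) (b : Set (Cfsg.IrrCharacter H)) (hind : Cfsg.IsInducedBlock M H b B) (T : Subgroup G) (hT : ∀ g : G, g ∈ T ↔ (g ∈ Subgroup.normalizer (D : Set G) ∧ ∀ θ ∈ b, ∀ θ' : Cfsg.IrrCharacter H, (∀ h h' : H, (h' : G) = g * h * g⁻¹ → (θ' : H → ℂ) h' = (θ : H → ℂ) h) → θ' ∈ b)) (e : ℕ) (he : H.relIndex T = e) (n : ℕ) (hn : p ^ n ≤ e ∧ e < p ^ (n + 1)) (c : ℕ) (hc : Nat.card (Subgroup.center D) = p ^ c) : ∀ χ ∈ B, Cfsg.blockHeight p B (χ : G → ℂ) + c ≤ n + d := by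
  intro χ hχ
  haveI := Fintype.ofFinite G
  haveI := Fintype.ofFinite H
  haveI := isPrime_of_isPModular hM
  obtain ⟨f, hf, rfl⟩ := HeightCenter.exists_pair_of_root hM (IsDefectGroup.isPGroup hBD) hH hind
  have hmax := HeightCenter.isMaximal_of_pair hM hBD hf
  have hle : BrauerPairs.pairStab D f ≤ T := fun g hg => (hT g).2 ⟨hg.1, fun θ hθ θ' h =>
    HeightCenter.pairStab_le_root_stab hH hg θ hθ θ' h⟩
  have key := HeightCenter.pow_height_mul_card_center_le hM hBD hmax hH hχ
  have hd : p ^ blockDefect p B = p ^ d := by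
    rw [← IsDefectGroup.card_eq hM hB hBD, hDd]
  have hrel : H.relIndex (BrauerPairs.pairStab D f) < p ^ (n + 1) := by
    refine lt_of_le_of_lt (Subgroup.relIndex_le_of_le_right hle ?_) (he ▸ hn.2)
    have h0 : 0 < p ^ n := Nat.pow_pos (Fact.out : p.Prime).pos
    omega
  rw [hc, hd, ← pow_add] at key
  have h2 : p ^ (blockHeight p B (χ : G → ℂ) + c) < p ^ (d + (n + 1)) := by
    rw [pow_add p d]
    exact lt_of_le_of_lt key (Nat.mul_lt_mul_of_pos_left hrel (Nat.pow_pos (Fact.out : p.Prime).pos))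
  have h3 := (Nat.pow_lt_pow_iff_right (Fact.out : p.Prime).one_lt).1 h2
  omega

end Cfsg.Agent.S4715
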