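import Mathlib
import Cfsg.Statements.S4718
import Cfsg.Agent.S4494
import Cfsg.Agent.Lib.Blocks.Osima
import Cfsg.Agent.Lib.InvChar.Landau

set_option autoImplicit false
universe u
open Cfsg

namespace Cfsg.Agent.S4718

open Cfsg.Agent.Lib.InvChar.Landau

/-- Let p be a prime and a a natural number. There is a bound N such that every finite group whose Sylow p-subgroups have order p^a and whose only p-block (relative to a maximal ideal of the algebraic integers containing p) is the principal block has order at most N. -/
theorem result (p : ℕ) [Fact p.Prime] (a : ℕ) : ∃ N : ℕ, ∀ (G : Type u) [Group G] [Finite G] (M : Ideal Cfsg.AlgInt), Cfsg.IsPModular p M → (Nat.card G).factorization p = a → (∀ B : Set (Cfsg.IrrCharacter G), Cfsg.IsPBlock M B → B = Cfsg.principalBlock M G) → Nat.card G ≤ N := by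
  obtain ⟨N, hN⟩ : ∃ N, ∀ k ∈ Finset.range (p ^ (2 * a) + 5), bound k ≤ N :=
    ⟨_, fun k hk => Finset.le_sup hk⟩
  refine ⟨N, fun G _ _ M hM ha hone => ?_⟩
  classical
  haveI := Lib.Blocks.isPrime_of_isPModular hM
  haveI := Fintype.ofFinite G
  set B := Cfsg.principalBlock M G with hB
  have hBb : Cfsg.IsPBlock M B := Lib.Blocks.isPBlock_principalBlock
  have hall : ∀ χ : Cfsg.IrrCharacter G, χ ∈ B := by
    intro χ
    have h := hone _ (Lib.Blocks.isPBlock_blockOf χ)
    rw [← h]
    exact Lib.Blocks.sameBlock_refl _
  have hd : Cfsg.blockDefect p B ≤ a := by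
    have := Lib.BlockHeights.blockDefect_add_minExp (p := p) hBb
    omega
  have hcard : Nat.card B = Nat.card (ConjClasses G) := by
    rw [← Lib.Characters.card_irrCharacter]
    exact Nat.card_congr (Equiv.subtypeUnivEquiv hall)
  have hk : Nat.card (ConjClasses G) < p ^ (2 * a) + 5 := by
    have h1 := S4494.result p M hM B hBb
    have h2 : p ^ (2 * Cfsg.blockDefect p B) ≤ p ^ (2 * a) :=
      Nat.pow_le_pow_right (Fact.out (p := p.Prime)).pos (by omega)
    rw [hcard] at h1
    omega
  exact (card_le_bound G).trans (hN _ (Finset.mem_range.2 hk))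

end Cfsg.Agent.S4718
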