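import Cfsg.Statements.S4720
import Cfsg.Agent.Lib.Blocks.Principal
import Cfsg.Agent.Lib.Characters.Induced
-- import your own Cfsg.Agent.* helpers here

set_option autoImplicit false
set_option linter.style.haveILetI false
set_option linter.unusedVariables false
open Cfsg Cfsg.Agent.Lib.Blocks Cfsg.Agent.Lib Cfsg.Agent.Lib.Characters
open scoped ComplexConjugate

namespace Cfsg.Agent.S4720

/-- Let p be a prime, M a maximal ideal of the algebraic integers containing p, P a p-subgroup of the finite group G, N a subgroup with P ≤ N ≤ N_G(P), and U a nonempty subset of P normalized by N such that an element of U and an element of P that are conjugate in G are already conjugate in N, and such that λ(C_G(y)) = w·#C_N(y) for every y ∈ U with one rational number w, where λ(X) denotes the sum of the squares of the degrees of the irreducible characters in the principal p-block of X. For a complex function θ on P and χ in the principal block of G put a_χ(θ) = #P⁻¹ Σ_{y ∈ P}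 χ(y) θ(y⁻¹). Then for generalized characters θ, η of P with θ vanishing outside U, Σ_χ a_χ(θ)·conj(a_χ(η)) = (w/#P²)·Σ_{y ∈ P} θ(y)·conj(Σ_{x ∈ N} η(x y x⁻¹)) (η extended by zero off P; the conjugates lie in P), the first sum over the principal p-block of G. -/
theorem result {G : Type*} [Group G] [Finite G] (p : ℕ) [Fact p.Prime] (M : Ideal Cfsg.AlgInt) (hM : Cfsg.IsPModular p M) (P : Subgroup G) (hP : IsPGroup p P) (N : Subgroup G) (hPN : P ≤ N) (hNN : N ≤ Subgroup.normalizer (P : Set G)) (U : Set G) (hUne : U.Nonempty) (hUP : U ⊆ (P : Set G)) (hUN : ∀ n ∈ N, ∀ u ∈ U, n * u * n⁻¹ ∈ U) (hfus : ∀ u ∈ U, ∀ g : G, g * u * g⁻¹ ∈ (P : Set G) → ∃ n ∈ N, n * u * n⁻¹ = g * u * g⁻¹) (w : ℚ) (hw : ∀ y ∈ U, ((∑ᶠ ψ ∈ Cfsg.principalBlock M ↥(Subgroup.centralizer ({y} : Set G)), Cfsg.charDegree (ψ : ↥(Subgroup.centralizer ({y} : Set G)) → ℂ) ^ 2) : ℚ) = w * Nat.card ↥(N ⊓ Subgroup.centralizer ({y} : Set G))) (θ η : ↥P → ℂ) (hθ : Cfsg.IsGeneralizedCharacter ↥P θ) (hη : Cfsg.IsGeneralizedCharacter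 ↥P η) (hθU : ∀ y : ↥P, (y : G) ∉ U → θ y = 0) : ∑ᶠ χ ∈ Cfsg.principalBlock M G, ((Nat.card ↥P : ℂ)⁻¹ * ∑ᶠ y : ↥P, (χ : G → ℂ) (y : G) * θ y⁻¹) * (starRingEnd ℂ) ((Nat.card ↥P : ℂ)⁻¹ * ∑ᶠ y : ↥P, (χ : G → ℂ) (y : G) * η y⁻¹) = ((w : ℂ) / ((Nat.card ↥P : ℂ) ^ 2)) * ∑ᶠ y : ↥P, θ y * (starRingEnd ℂ) (∑ᶠ x : ↥N, Cfsg.extendByZero P η ((x : G) * (y : G) * (x : G)⁻¹)) := by
  classical
  haveI := Fintype.ofFinite G
  haveI : M.IsPrime := hM.2.1.isPrime
  haveI := Fintype.ofFinite (IrrCharacter G)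
  haveI := Fintype.ofFinite (↥P)
  haveI := Fintype.ofFinite (↥N)
  have hpk : ∀ y : ↥P, ∃ k : ℕ, orderOf (y : G) = p ^ k := fun y => by
    obtain ⟨k, hk⟩ := IsPGroup.iff_orderOf.1 hP y
    exact ⟨k, by rw [Subgroup.orderOf_coe]; exact hk⟩
  -- the column inner products
  have hcol : ∀ y y' : ↥P, (y : G) ∈ U →
      ∑ χ : IrrCharacter G, (if χ ∈ principalBlock M G then
        (χ : G → ℂ) (y' : G) * conj ((χ : G → ℂ) (y : G)) else 0) =
      if IsConj (y : G) (y' : G) then
        (w : ℂ) * (Nat.card ↥(N ⊓ Subgroup.centralizer ({(y : G)} : Set G)) : ℂ) else 0 := by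
    intro y y' hy
    split_ifs with hc
    · haveI := Fintype.ofFinite (Subgroup.centralizer ({(y : G)} : Set G))
      haveI := Fintype.ofFinite (IrrCharacter (Subgroup.centralizer ({(y : G)} : Set G)))
      have h1 : (1 : Subgroup.centralizer ({(y : G)} : Set G)) = 1 := rfl
      have h := sum_principal_section (M := M) hM (hpk y)
        (y := (1 : Subgroup.centralizer ({(y : G)} : Set G))) (by simp [(Fact.out : p.Prime).ne_one])
      have hy' : ∀ χ : IrrCharacter G, (χ : G → ℂ) (y' : G) = (χ : G → ℂ) (y : G) := fun χ => by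
        obtain ⟨g, hg⟩ := isConj_iff.1 hc
        rw [← hg, irr_isClassFunction χ]
      simp only [hy']
      calc _ = _ := Finset.sum_congr rfl fun χ _ => by
            rw [Subgroup.coe_one, mul_one, mul_comm (conj _)]
        _ = _ := h
        _ = _ := ?_
      have hw' := congrArg (fun q : ℚ => (q : ℂ)) (hw (y : G) hy)
      rw [finsum_mem_def, finsum_eq_sum_of_fintype, Rat.cast_sum, Rat.cast_mul, Rat.cast_natCast] at hw'
      rw [← hw']
      refine Finset.sum_congr rfl fun η _ => ?_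
      rw [Set.indicator_apply]
      split_ifs with hη
      · rw [Rat.cast_pow, Rat.cast_natCast, charDegree_eq, ← IsCharacter.apply_inv (irr_isCharacter η), inv_one]
        ring
      · simp
    · have h := finsum_mul_conj_eq_zero (M := M) hM (isPBlock_principalBlock : IsPBlock M _)
        (g := (y' : G)) (h := (y : G)) (x := (y' : G)) (y := (y : G))
        ⟨1, by simp, Commute.one_right _, hpk y', by simp [(Fact.out : p.Prime).ne_one]⟩
        ⟨1, by simp, Commute.one_right _, hpk y, by simp [(Fact.out : p.Prime).ne_one]⟩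
        (Or.inl fun h => hc h.symm)
      rwa [finsum_irr_eq_sum_ite] at h
  -- orbits of `N`
  have horb : ∀ y : ↥P, (y : G) ∈ U →
      ∑ x : ↥N, extendByZero P η ((x : G) * (y : G) * (x : G)⁻¹) =
      ∑ y' : ↥P, if IsConj (y : G) (y' : G) then
        (Nat.card ↥(N ⊓ Subgroup.centralizer ({(y : G)} : Set G)) : ℂ) * η y' else 0 := by
    intro y hy
    have hmem : ∀ x : ↥N, (x : G) * (y : G) * (x : G)⁻¹ ∈ P := fun x =>
      (Subgroup.mem_normalizer_iff.1 (hNN x.2) _).1 y.2
    rw [← Finset.sum_fiberwise Finset.univ (fun x : ↥N => (⟨_, hmem x⟩ : ↥P))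
      (fun x : ↥N => extendByZero P η ((x : G) * (y : G) * (x : G)⁻¹))]
    refine Finset.sum_congr rfl fun y' _ => ?_
    have heq : ∀ x ∈ Finset.univ.filter (fun x : ↥N => (⟨_, hmem x⟩ : ↥P) = y'),
        extendByZero P η ((x : G) * (y : G) * (x : G)⁻¹) = η y' := fun x hx => by
      rw [← (Finset.mem_filter.1 hx).2, Lib.Characters.extendByZero_of_mem _ _ (hmem x)]
    rw [Finset.sum_congr rfl heq, Finset.sum_const, nsmul_eq_mul]
    split_ifs with hc
    · congr 2
      obtain ⟨g, hg⟩ := isConj_iff.1 hc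
      obtain ⟨n, hn, hn'⟩ := hfus _ hy g (by rw [hg]; exact y'.2)
      rw [hg] at hn'
      rw [← Fintype.card_subtype, ← Nat.card_eq_fintype_card]
      refine Nat.card_congr
        { toFun := fun x => ⟨n⁻¹ * (x.1 : G), Subgroup.mem_inf.2
            ⟨N.mul_mem (N.inv_mem hn) x.1.2, ?_⟩⟩
          invFun := fun c => ⟨⟨n * (c : G), N.mul_mem hn (Subgroup.mem_inf.1 c.2).1⟩, ?_⟩
          left_inv := fun x => by simp
          right_inv := fun c => by simp }
      · have hx : (x.1 : G) * (y : G) * (x.1 : G)⁻¹ = (y' : G) := congrArg Subtype.val x.2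
        rw [Subgroup.mem_centralizer_singleton_iff]
        rw [← hn'] at hx
        calc n⁻¹ * (x.1 : G) * (y : G) = n⁻¹ * ((x.1 : G) * (y : G) * (x.1 : G)⁻¹) * x.1 := by group
          _ = n⁻¹ * (n * (y : G) * n⁻¹) * x.1 := by rw [hx]
          _ = _ := by group
      · refine Subtype.ext ?_
        have hc' := Subgroup.mem_centralizer_singleton_iff.1 (Subgroup.mem_inf.1 c.2).2
        show n * (c : G) * (y : G) * (n * (c : G))⁻¹ = (y' : G)
        rw [← hn', mul_assoc n, hc']
        group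
    · rw [Finset.filter_eq_empty_iff.2, Finset.card_empty, Nat.cast_zero, zero_mul]
      intro x _ hx
      exact hc (isConj_iff.2 ⟨(x : G), congrArg Subtype.val hx⟩)
  -- expansion
  rw [finsum_irr_eq_sum_ite]
  simp only [finsum_eq_sum_of_fintype]
  have hexp : ∀ χ : IrrCharacter G,
      (if χ ∈ principalBlock M G then
        ((Nat.card ↥P : ℂ)⁻¹ * ∑ y : ↥P, (χ : G → ℂ) (y : G) * θ y⁻¹) *
          conj ((Nat.card ↥P : ℂ)⁻¹ * ∑ y : ↥P, (χ : G → ℂ) (y : G) * η y⁻¹) else 0) =
      ((Nat.card ↥P : ℂ) ^ 2)⁻¹ * ∑ y : ↥P, ∑ y' : ↥P, θ y * conj (η y') *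
        (if χ ∈ principalBlock M G then
          (χ : G → ℂ) (y' : G) * conj ((χ : G → ℂ) (y : G)) else 0) := by
    intro χ
    split_ifs
    · rw [← Equiv.sum_comp (Equiv.inv ↥P) (fun y : ↥P => (χ : G → ℂ) (y : G) * θ y⁻¹),
        ← Equiv.sum_comp (Equiv.inv ↥P) (fun y : ↥P => (χ : G → ℂ) (y : G) * η y⁻¹)]
      simp only [Equiv.inv_apply, inv_inv, map_mul, map_inv₀, map_natCast, map_sum,
        Finset.sum_mul, Finset.mul_sum, Subgroup.coe_inv,
        IsCharacter.apply_inv (irr_isCharacter χ), Complex.conj_conj]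
      rw [Finset.sum_comm]
      refine Finset.sum_congr rfl fun y _ => Finset.sum_congr rfl fun y' _ => ?_
      rw [pow_two, mul_inv]
      ring
    · simp
  simp only [hexp]
  rw [← Finset.mul_sum, Finset.sum_comm, div_eq_mul_inv, mul_comm (w : ℂ), mul_assoc]
  congr 1
  rw [Finset.mul_sum]
  refine Finset.sum_congr rfl fun y _ => ?_
  by_cases hy : (y : G) ∈ U
  · rw [horb y hy, map_sum, Finset.mul_sum, Finset.mul_sum, Finset.sum_comm]
    refine Finset.sum_congr rfl fun y' _ => ?_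
    rw [← Finset.mul_sum, hcol y y' hy]
    split_ifs
    · rw [map_mul, map_natCast]; ring
    · simp
  · simp [hθU y hy]

end Cfsg.Agent.S4720
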