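import Cfsg.Statements.S4721
import Cfsg.Agent.Lib.Blocks.IndexThree
-- import your own Cfsg.Agent.* helpers here

set_option autoImplicit false
open Cfsg Cfsg.Agent.Lib.Blocks Cfsg.Agent.Lib.Characters

namespace Cfsg.Agent.S4721

/-- Let p be a prime, M a maximal ideal of the algebraic integers containing p, and G a finite group with a nontrivial abelian Sylow p-subgroup P, N = N_G(P), C = C_G(P), such that N/C is cyclic of order 3, #P > 4, and C_G(y) ∩ N = C for every non-identity y ∈ P. Then the principal p-block is the disjoint union of a set X of exactly 3 characters containing the principal character and a set Y of (#P − 1)/3 characters, with signs a_χ = ±1 (χ ∈ X, a = 1 at the principal character) and δ = ±1 such that every χ ∈ X takes the value a_χ at every element whose p-part is a non-identity element of P, and there is a map ζ from the non-principal linear characters of P onto Y, constant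 on N-conjugacy classes, with ζ_ψ(z) = δ·Σ ψ'(y) over the N-orbit of ψ, for z with p-part y ≠ 1 in P. If moreover G has an involution lying in no proper normal subgroup of G, then exactly two of the three numbers −δ and a_χ (χ ∈ X non-principal) equal −1, and the product of the degrees of the two non-principal members of X and of any member of Y is a perfect square. -/
theorem result {G : Type*} [Group G] [Finite G] (p : ℕ) [Fact p.Prime] (M : Ideal Cfsg.AlgInt) (hM : Cfsg.IsPModular p M) (P : Sylow p G) (hab : IsMulCommutative P) (hP1 : Nat.card P ≠ 1) (hCN : (Subgroup.centralizer ((P : Subgroup G) : Set G)).relIndex (Subgroup.normalizer ((P : Subgroup G) : Set G)) = 3) (hcyc : ∃ g : G, g ∈ Subgroup.normalizer ((P : Subgroup G) : Set G) ∧ Subgroup.centralizer ((P : Subgroup G) : Set G) ⊔ Subgroup.zpowers g = Subgroup.normalizer ((P : Subgroup G) : Set G)) (hm2 : 3 + 1 < Nat.card P) (hfrob : ∀ y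 : G, y ∈ (P : Subgroup G) → y ≠ 1 → Subgroup.centralizer ({y} : Set G) ⊓ Subgroup.normalizer ((P : Subgroup G) : Set G) = Subgroup.centralizer ((P : Subgroup G) : Set G)) : ∃ (X Y : Set (Cfsg.IrrCharacter G)), Cfsg.principalBlock M G = X ∪ Y ∧ Disjoint X Y ∧ Nat.card X = 3 ∧ Nat.card Y = (Nat.card P - 1) / 3 ∧ (∃ χ₁ ∈ X, (χ₁ : G → ℂ) = fun _ => 1) ∧ ∃ (a : Cfsg.IrrCharacter G → ℤ) (δ : ℤ) (ζ : (↥(P : Subgroup G) →* ℂˣ) → Cfsg.IrrCharacter G), (δ = 1 ∨ δ = -1) ∧ (∀ χ ∈ X, (a χ = 1 ∨ a χ = -1) ∧ ∀ z y : G, Cfsg.IsPPart p z y → y ∈ (P : Subgroup G) → y ≠ 1 → (χ : G → ℂ) z = (a χ : ℂ)) ∧ (∀ ψ : ↥(P : Subgroup G) →* ℂˣ, ψ ≠ 1 → ζ ψ ∈ Y) ∧ (∀ η ∈ Y, ∃ ψ : ↥(P : Subgroup G) →* ℂˣ, ψ ≠ 1 ∧ ζ ψ = η) ∧ (∀ ψ ψ' : ↥(P : Subgroup G) →* ℂˣ, ψ ≠ 1 → (∃ n : G, n ∈ Subgroup.normalizer ((P : Subgroup G) : Set G) ∧ ∀ w w' : ↥(P : Subgroup G), (w' : G) = n * w * n⁻¹ → ψ' w' = ψ w) → ζ ψ' = ζ ψ) ∧ (∀ ψ : ↥(P : Subgroup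 G) →* ℂˣ, ψ ≠ 1 → ∀ (z : G) (y : ↥(P : Subgroup G)), Cfsg.IsPPart p z (y : G) → (y : G) ≠ 1 → (ζ ψ : G → ℂ) z = (δ : ℂ) * ∑ᶠ ψ' ∈ {ψ' : ↥(P : Subgroup G) →* ℂˣ | ∃ n : G, n ∈ Subgroup.normalizer ((P : Subgroup G) : Set G) ∧ ∀ w w' : ↥(P : Subgroup G), (w' : G) = n * w * n⁻¹ → ψ' w' = ψ w}, ((ψ' y : ℂˣ) : ℂ)) ∧ ((∃ t : G, orderOf t = 2 ∧ ∀ K : Subgroup G, K.Normal → t ∈ K → K = ⊤) → Nat.card {χ : Cfsg.IrrCharacter G // χ ∈ X ∧ (χ : G → ℂ) ≠ (fun _ => 1) ∧ a χ = -1} + (if δ = 1 then 1 else 0) = 2 ∧ ∀ η ∈ Y, IsSquare (Cfsg.charDegree (η : G → ℂ) * ∏ᶠ χ ∈ {χ : Cfsg.IrrCharacter G | χ ∈ X ∧ (χ : G → ℂ) ≠ fun _ => 1}, Cfsg.charDegree (χ : G → ℂ))) := by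
  classical
  haveI := Fintype.ofFinite G
  haveI := Fintype.ofFinite (Cfsg.IrrCharacter G)
  haveI : M.IsPrime := hM.2.1.isPrime
  haveI := hab
  obtain ⟨χ₂, χ₃, Y, ζ, a, δ, h23, h2, h3, hB, htY, h2Y, h3Y, hY, hδ, hat, hX, hζ, hsurj, hcl, hval, hinv⟩ :=
    index_three_block hM P (by omega) hCN hfrob
  refine ⟨{trivIrr G, χ₂, χ₃}, ↑Y, hB, ?_, ?_, ?_, ⟨trivIrr G, Or.inl rfl, funext trivIrr_apply⟩,
    a, δ, ζ, hδ, hX, hζ, hsurj, hcl, hval, ?_⟩
  · rw [Set.disjoint_left]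
    rintro x (rfl | rfl | rfl) <;> simpa
  · rw [Nat.card_coe_set_eq, Set.ncard_insert_of_notMem (by simp [Ne.symm h2, Ne.symm h3]),
      Set.ncard_pair h23]
  · rw [Nat.card_coe_set_eq, Set.ncard_coe_finset, ← hY, Nat.mul_div_cancel _ (by norm_num)]
  intro ht
  have hne : ∀ χ : Cfsg.IrrCharacter G, ((χ : G → ℂ) ≠ fun _ => 1) ↔ χ ≠ trivIrr G := fun χ =>
    not_congr ⟨fun h => Subtype.ext h, fun h => by rw [h]; rfl⟩
  have hset : {χ : Cfsg.IrrCharacter G | χ ∈ ({trivIrr G, χ₂, χ₃} : Set (Cfsg.IrrCharacter G)) ∧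
      (χ : G → ℂ) ≠ fun _ => 1} = ({χ₂, χ₃} : Set (Cfsg.IrrCharacter G)) := by
    ext χ
    simp only [Set.mem_setOf_eq, Set.mem_insert_iff, Set.mem_singleton_iff, hne]
    constructor
    · rintro ⟨h | h | h, hn⟩
      exacts [absurd h hn, Or.inl h, Or.inr h]
    · rintro (rfl | rfl) <;> simp [h2, h3]
  have hcard : Nat.card {χ : Cfsg.IrrCharacter G // χ ∈ ({trivIrr G, χ₂, χ₃} : Set (Cfsg.IrrCharacter G)) ∧
      (χ : G → ℂ) ≠ (fun _ => 1) ∧ a χ = -1} =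
      (({χ₂, χ₃} : Finset (Cfsg.IrrCharacter G)).filter fun χ => a χ = -1).card := by
    refine Nat.subtype_card _ fun χ => ?_
    rw [Finset.mem_filter, ← and_assoc]
    refine and_congr_left' ?_
    have := Set.ext_iff.1 hset χ
    simp only [Set.mem_setOf_eq] at this
    rw [this]
    simp
  rw [hset, hcard, finprod_mem_pair h23]
  obtain ⟨η₀, hη₀⟩ := Finset.card_pos.1 (show 0 < Y.card by omega)
  have hpos : ∀ χ : Cfsg.IrrCharacter G, 0 < (Cfsg.charDegree (χ : G → ℂ) : ℤ) := fun χ => by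
    exact_mod_cast charDegree_pos χ
  have key : (((({χ₂, χ₃} : Finset (Cfsg.IrrCharacter G)).filter fun χ => a χ = -1).card +
      if δ = 1 then 1 else 0) = 2) ∧ a χ₂ * a χ₃ * -δ = 1 := by
    obtain ⟨hsq, hsum⟩ := hinv ht η₀ hη₀
    have hnn := hsq.nonneg
    have p2 := hpos χ₂
    have p3 := hpos χ₃
    have p4 := hpos η₀
    have hP := mul_pos (mul_pos p2 p3) p4
    rw [Finset.filter_insert, Finset.filter_singleton]
    rcases (hX χ₂ (by simp)).1 with e2 | e2 <;> rcases (hX χ₃ (by simp)).1 with e3 | e3 <;>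
      rcases hδ with rfl | rfl <;> rw [e2, e3] at hnn hsum ⊢ <;>
      first
        | (constructor <;> simp [h23] <;> done)
        | (exfalso; nlinarith)
  refine ⟨key.1, fun η hη => ?_⟩
  obtain ⟨⟨c, hc⟩, -⟩ := hinv ht η hη
  refine ⟨c.natAbs, ?_⟩
  have : ((Cfsg.charDegree (η : G → ℂ) * (Cfsg.charDegree (χ₂ : G → ℂ) * Cfsg.charDegree (χ₃ : G → ℂ)) : ℕ) : ℤ)
      = c * c := by
    push_cast
    rw [← hc]
    linear_combination (-(Cfsg.charDegree (η : G → ℂ) : ℤ) * Cfsg.charDegree (χ₂ : G → ℂ) * Cfsg.charDegree (χ₃ : G → ℂ)) * key.2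
  rw [← Int.natAbs_mul, ← this, Int.natAbs_natCast]

end Cfsg.Agent.S4721
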