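import Cfsg.Statements.S4722
import Cfsg.Agent.Lib.Blocks.IndexThree
import Cfsg.Agent.S0925
import Cfsg.Agent.S0938
-- import your own Cfsg.Agent.* helpers here

set_option autoImplicit false
set_option maxHeartbeats 1000000
open Cfsg Cfsg.Agent.Lib.Blocks Cfsg.Agent.Lib.Characters Cfsg.Agent.Lib.Cores
open scoped ComplexConjugate

namespace Cfsg.Agent.S4722

theorem eq_of_one_sign {ι : Type*} [Fintype ι] (c u x : ι → ℝ) (hx : ∀ i, 0 < x i)
    (h1 : ∑ i, c i * x i = 0) (h2 : ∑ i, c i * u i = 0) (h3 : ∑ i, c i * (u i ^ 2 / x i) = 0)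
    (hone : ∀ i j, 0 < c i → 0 < c j → i = j) (i₀ : ι) (hi₀ : c i₀ ≠ 0) (hu : u i₀ = x i₀) :
    ∀ i, c i ≠ 0 → u i = x i := by
  classical
  by_cases hp : ∃ j, 0 < c j
  · obtain ⟨j, hj⟩ := hp
    set r := u j / x j with hr
    have hterm : ∀ i, c i * ((u i - r * x i) ^ 2 / x i) ≤ 0 := by
      intro i
      by_cases hij : i = j
      · subst hij
        have : u i - r * x i = 0 := by rw [hr, div_mul_cancel₀ _ (hx i).ne', sub_self]
        rw [this]; simp
      · exact mul_nonpos_of_nonpos_of_nonneg (not_lt.1 fun h => hij (hone i j h hj))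
          (div_nonneg (sq_nonneg _) (hx i).le)
    have hsum : ∑ i, c i * ((u i - r * x i) ^ 2 / x i) = 0 := by
      have : ∀ i, c i * ((u i - r * x i) ^ 2 / x i) =
          c i * (u i ^ 2 / x i) - 2 * r * (c i * u i) + r ^ 2 * (c i * x i) := by
        intro i
        have := (hx i).ne'
        field_simp
        ring
      rw [Finset.sum_congr rfl fun i _ => this i, Finset.sum_add_distrib, Finset.sum_sub_distrib,
        ← Finset.mul_sum, ← Finset.mul_sum, h1, h2, h3]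
      ring
    have hall : ∀ i, c i ≠ 0 → u i = r * x i := by
      intro i hi
      have h := (Finset.sum_eq_zero_iff_of_nonpos fun k _ => hterm k).1 hsum i (Finset.mem_univ i)
      rcases mul_eq_zero.1 h with h | h
      · exact absurd h hi
      · rcases div_eq_zero_iff.1 h with h | h
        · exact sub_eq_zero.1 (pow_eq_zero_iff two_ne_zero |>.1 h)
        · exact absurd h (hx i).ne'
    have hr1 : r = 1 := by
      have h := hall i₀ hi₀
      rw [hu] at h
      exact mul_right_cancel₀ (hx i₀).ne' (h.symm.trans (one_mul _).symm)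
    intro i hi
    rw [hall i hi, hr1, one_mul]
  · exfalso
    push Not at hp
    have h := (Finset.sum_eq_zero_iff_of_nonpos fun i _ =>
      mul_nonpos_of_nonpos_of_nonneg (hp i) (hx i).le).1 h1 i₀ (Finset.mem_univ _)
    exact hi₀ ((mul_eq_zero.1 h).resolve_right (hx i₀).ne')

/-- Let M be a maximal ideal of the algebraic integers containing 2, P a 2-subgroup of the finite group G, U a subset of P, and t an involution of G such that no element of U is inverted by any conjugate of t. Let θ be a generalized character of P vanishing outside U, and for χ in the principal 2-block B₀ put a_χ = #P⁻¹ Σ_{y ∈ P} χ(y) θ(y⁻¹). Then Σ_{χ ∈ B₀} a_χ χ(t)^2/χ(1) = 0, Σ_{χ ∈ B₀} a_χ χ(1) = 0 and Σ_{χ ∈ B₀} a_χ χ(t) = 0. If moreover #P⁻¹ Σ_{y ∈ P} θ(y) ≠ 0, then either at least two of the a_χ have positive real part and at least two have negative real part, or G has a proper normal subgroup containing O_2'(G) and t. -/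
theorem result {G : Type*} [Group G] [Finite G] (M : Ideal Cfsg.AlgInt) (hM : Cfsg.IsPModular 2 M) (P : Subgroup G) (hP : IsPGroup 2 P) (U : Set G) (hUP : U ⊆ (P : Set G)) (t : G) (ht : orderOf t = 2) (hinv : ∀ u ∈ U, ∀ g : G, (g * t * g⁻¹) * u * (g * t * g⁻¹)⁻¹ ≠ u⁻¹) (θ : ↥P → ℂ) (hθ : Cfsg.IsGeneralizedCharacter ↥P θ) (hθU : ∀ y : ↥P, (y : G) ∉ U → θ y = 0) : (∑ᶠ χ ∈ Cfsg.principalBlock M G, ((Nat.card ↥P : ℂ)⁻¹ * ∑ᶠ y : ↥P, (χ : G → ℂ) (y : G) * θ y⁻¹) * (χ : G → ℂ) t ^ 2 / (χ : G → ℂ) 1 = 0) ∧ (∑ᶠ χ ∈ Cfsg.principalBlock M G, ((Nat.card ↥P : ℂ)⁻¹ * ∑ᶠ y : ↥P, (χ : G → ℂ) (y : G) * θ y⁻¹) * (χ : G → ℂ) 1 = 0) ∧ (∑ᶠ χ ∈ Cfsg.principalBlock M G, ((Nat.card ↥P : ℂ)⁻¹ * ∑ᶠ y : ↥P, (χ : G → ℂ) (y : G) * θ y⁻¹) * (χ : G → ℂ) t = 0) ∧ ((Nat.card ↥P : ℂ)⁻¹ * ∑ᶠ y : ↥P, θ y ≠ 0 → (2 ≤ Nat.card {χ : Cfsg.IrrCharacter G // χ ∈ Cfsg.principalBlock M G ∧ 0 < (((Nat.card ↥P : ℂ)⁻¹ * ∑ᶠ y : ↥P, (χ : G → ℂ) (y : G) * θ y⁻¹)).re} ∧ 2 ≤ Nat.card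 {χ : Cfsg.IrrCharacter G // χ ∈ Cfsg.principalBlock M G ∧ (((Nat.card ↥P : ℂ)⁻¹ * ∑ᶠ y : ↥P, (χ : G → ℂ) (y : G) * θ y⁻¹)).re < 0}) ∨ ∃ K : Subgroup G, K.Normal ∧ K ≠ ⊤ ∧ Cfsg.pPrimeCore 2 G ≤ K ∧ t ∈ K) := by
  classical
  haveI : Fact (Nat.Prime 2) := ⟨Nat.prime_two⟩
  haveI := Fintype.ofFinite G
  haveI := isPrime_of_isPModular hM
  haveI := Fintype.ofFinite (Cfsg.IrrCharacter G)
  haveI := Fintype.ofFinite ↥P
  haveI := Fintype.ofFinite (Cfsg.IrrCharacter ↥P)
  have htt : t * t = 1 := by rw [← sq]; exact ht ▸ pow_orderOf_eq_one t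
  choose u hu using fun χ : Cfsg.IrrCharacter G => exists_int_apply_involution htt χ
  have hinvol : ∀ s, IsConj t s → s * s = 1 := by
    intro s hs
    obtain ⟨c, rfl⟩ := isConj_iff.1 hs
    rw [show c * t * c⁻¹ * (c * t * c⁻¹) = c * (t * t) * c⁻¹ by group, htt, mul_one, mul_inv_cancel]
  have hone : ¬ 2 ∣ orderOf (1 : G) := by rw [orderOf_one]; norm_num
  have h1U : ∀ y : ↥P, (y : G) ∈ U → (y : G) ≠ 1 := fun y hy h => hinv y hy 1 (by rw [h]; group)
  have hppow : ∀ y : ↥P, ∃ k : ℕ, orderOf (y : G) = 2 ^ k := fun y => by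
    obtain ⟨k, hk⟩ := IsPGroup.iff_orderOf.1 hP y
    exact ⟨k, by rw [Subgroup.orderOf_coe]; exact hk⟩
  set B := Finset.univ.filter (fun χ : Cfsg.IrrCharacter G => χ ∈ Cfsg.principalBlock M G) with hBdef
  have hBc : (↑B : Set (Cfsg.IrrCharacter G)) = Cfsg.principalBlock M G := by ext; simp [hBdef]
  have hPB : Cfsg.IsPBlock M (Cfsg.principalBlock M G) := isPBlock_principalBlock
  -- the three vanishing sums at the elements with inverse in `U`
  have hA : ∀ y : ↥P, ((y⁻¹ : ↥P) : G) ∈ U →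
      ∑ χ ∈ B, (χ : G → ℂ) y * (χ : G → ℂ) 1 = 0 ∧
      ∑ χ ∈ B, (χ : G → ℂ) y * (χ : G → ℂ) t = 0 ∧
      ∑ χ ∈ B, (χ : G → ℂ) y * ((χ : G → ℂ) t ^ 2 / (χ : G → ℂ) 1) = 0 := by
    intro y hy
    have hy1 : (y : G) ≠ 1 := fun h => h1U _ hy (by rw [Subgroup.coe_inv, h, inv_one])
    have hnoinv : ∀ s, IsConj t s → s * (y : G) * s⁻¹ ≠ (y : G)⁻¹ := by
      intro s hs he
      obtain ⟨c, rfl⟩ := isConj_iff.1 hs
      refine hinv _ hy c ?_
      rw [Subgroup.coe_inv, inv_inv, show c * t * c⁻¹ * (y : G)⁻¹ * (c * t * c⁻¹)⁻¹ =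
        (c * t * c⁻¹ * (y : G) * (c * t * c⁻¹)⁻¹)⁻¹ by group, he, inv_inv]
    refine ⟨?_, ?_, ?_⟩
    · obtain ⟨k, hk⟩ := hppow y⁻¹
      have hd : 2 ∣ orderOf ((y⁻¹ : ↥P) : G) := by
        rw [hk]
        refine dvd_pow_self 2 fun h0 => h1U _ hy ?_
        rw [h0, pow_zero, orderOf_eq_one_iff] at hk
        exact hk
      have h := finsum_regular_singular_eq_zero hM hPB hone hd
      rw [← hBc, finsum_mem_coe_finset] at h
      rw [← h]
      refine Finset.sum_congr rfl fun χ _ => ?_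
      rw [Subgroup.coe_inv, IsCharacter.apply_inv (irr_isCharacter χ), Complex.conj_conj, mul_comm]
    · have h := (Cfsg.Agent.S0925.result 2 M hM).2 (y : G) t (y : G) t
        ⟨1, mul_one _, Commute.one_right _, hppow y, hone⟩
        ⟨1, mul_one _, Commute.one_right _, ⟨1, by rw [ht, pow_one]⟩, hone⟩ (fun hc => ?_) _ hPB
      · rw [← hBc, finsum_mem_coe_finset, inv_eq_of_mul_eq_one_right htt] at h
        exact h
      · have h2 : (y : G) * y = 1 := hinvol _ hc.symm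
        exact hnoinv _ hc.symm (by rw [mul_inv_cancel_right]; exact eq_inv_of_mul_eq_one_left h2)
    · have hG0 : (Nat.card G : ℂ) ≠ 0 := natCard_ne_zero_complex
      have hidx : ((Subgroup.centralizer ({t} : Set G)).index : ℂ) ≠ 0 :=
        Nat.cast_ne_zero.2 Subgroup.index_ne_zero_of_finite
      let c : Cfsg.IrrCharacter G → ℂ := fun χ => (χ : G → ℂ) t ^ 2 / (χ : G → ℂ) 1
      have hc : ∀ χ, conj (c χ) = c χ := by
        intro χ
        simp only [c, ← hu, ← charDegree_eq, map_div₀, map_pow, map_intCast, map_natCast]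
      have hϑ : ∀ g z : G, Cfsg.IsPPart 2 g z → IsConj (y : G) z →
          (∑ χ : Cfsg.IrrCharacter G, c χ • (χ : G → ℂ)) g = 0 := by
        intro g z hgz hzy
        have hcl : Cfsg.IsClassFunction G (classIndicator t) := isClassFunction_classIndicator t
        have h := eq_sum_omega (isClassFunction_conv hcl hcl) g
        have h0 : conv (classIndicator t) (classIndicator t) g = 0 := by
          refine Finset.sum_eq_zero fun s _ => ?_
          unfold classIndicator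
          split_ifs with e1 e2
          · exfalso
            obtain ⟨v, hv1, hv2, hv3, hv4⟩ := hgz
            have hzi : s * g * s⁻¹ = g⁻¹ := by
              rw [inv_eq_of_mul_eq_one_right (hinvol s e1)]
              refine eq_inv_of_mul_eq_one_left ?_
              have h2 := hinvol _ e2
              rw [inv_eq_of_mul_eq_one_right (hinvol s e1)] at h2
              rw [← h2]; group
            have hz' : Cfsg.IsPPart 2 g⁻¹ z⁻¹ := by
              refine ⟨v⁻¹, ?_, hv2.inv_inv, ?_, ?_⟩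
              · rw [← _root_.mul_inv_rev, ← hv2.eq, hv1]
              · obtain ⟨k, hk⟩ := hv3
                exact ⟨k, by rw [orderOf_inv]; exact hk⟩
              · rw [orderOf_inv]; exact hv4
            have h1 := IsPPart.conjugate (⟨v, hv1, hv2, hv3, hv4⟩ : Cfsg.IsPPart 2 g z) s
            rw [hzi] at h1
            have hsz := isPPart_unique Nat.prime_two h1 hz'
            obtain ⟨e, rfl⟩ := isConj_iff.1 hzy
            refine hnoinv (e⁻¹ * s * e) (e1.trans (isConj_iff.2 ⟨e⁻¹, by group⟩)) ?_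
            rw [show e⁻¹ * s * e * (y : G) * (e⁻¹ * s * e)⁻¹ = e⁻¹ * (s * (e * y * e⁻¹) * s⁻¹) * e by group,
              hsz]
            group
          all_goals simp
        rw [h0, eq_comm, mul_eq_zero] at h
        have h' := h.resolve_left (inv_ne_zero hG0)
        have hterm : ∀ χ : Cfsg.IrrCharacter G, omega (χ : G → ℂ) (conv (classIndicator t) (classIndicator t)) *
            (χ : G → ℂ) 1 * conj ((χ : G → ℂ) g) =
            ((Subgroup.centralizer ({t} : Set G)).index : ℂ) ^ 2 * (c χ * conj ((χ : G → ℂ) g)) := by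
          intro χ
          rw [omega_conv χ.2 hcl, omega_classIndicator (irr_isClassFunction χ), centralChar]
          have := IsIrrCharacter.apply_one_ne_zero χ.2
          simp only [c]
          field_simp
        rw [Finset.sum_congr rfl fun χ _ => hterm χ, ← Finset.mul_sum, mul_eq_zero] at h'
        have h'' := congrArg conj (h'.resolve_left (pow_ne_zero _ hidx))
        rw [map_sum, map_zero] at h''
        simp only [map_mul, hc, Complex.conj_conj] at h''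
        simpa [Finset.sum_apply] using h''
      have h := (Cfsg.Agent.S0925.result 2 M hM).1 _ (isClassFunction_irr_sum c) (y : G) (hppow y)
        hϑ _ hPB (y : G) (y : G) ⟨1, mul_one _, Commute.one_right _, hppow y, hone⟩ (IsConj.refl _)
      unfold Cfsg.blockPart at h
      rw [← hBc, finsum_mem_coe_finset] at h
      rw [← h]
      refine Finset.sum_congr rfl fun χ _ => ?_
      rw [mul_comm]
      congr 1
      convert (classInner_irr_sum c χ).symm using 2
  set a : Cfsg.IrrCharacter G → ℂ := fun χ =>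
    (Nat.card ↥P : ℂ)⁻¹ * ∑ᶠ y : ↥P, (χ : G → ℂ) (y : G) * θ y⁻¹ with hadef
  have hzero : ∀ f : Cfsg.IrrCharacter G → ℂ,
      (∀ y : ↥P, ((y⁻¹ : ↥P) : G) ∈ U → ∑ χ ∈ B, (χ : G → ℂ) y * f χ = 0) →
      ∑ χ ∈ B, a χ * f χ = 0 := by
    intro f hf
    simp only [hadef, finsum_eq_sum_of_fintype, Finset.mul_sum, Finset.sum_mul]
    rw [Finset.sum_comm]
    refine Finset.sum_eq_zero fun y _ => ?_
    by_cases hy : ((y⁻¹ : ↥P) : G) ∈ U
    · rw [show ∑ χ ∈ B, (Nat.card ↥P : ℂ)⁻¹ * ((χ : G → ℂ) (y : G) * θ y⁻¹) * f χ =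
        (Nat.card ↥P : ℂ)⁻¹ * θ y⁻¹ * ∑ χ ∈ B, (χ : G → ℂ) y * f χ by
          rw [Finset.mul_sum]; exact Finset.sum_congr rfl fun χ _ => by ring, hf y hy, mul_zero]
    · simp [hθU _ hy]
  have e1 := hzero _ fun y hy => (hA y hy).1
  have e2 := hzero _ fun y hy => (hA y hy).2.1
  have e3 := hzero _ fun y hy => (hA y hy).2.2
  refine ⟨?_, ?_, ?_, fun hθ0 => ?_⟩
  · show ∑ᶠ χ ∈ Cfsg.principalBlock M G, a χ * (χ : G → ℂ) t ^ 2 / (χ : G → ℂ) 1 = 0
    rw [← hBc, finsum_mem_coe_finset, ← e3]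
    exact Finset.sum_congr rfl fun χ _ => mul_div_assoc _ _ _
  · show ∑ᶠ χ ∈ Cfsg.principalBlock M G, a χ * (χ : G → ℂ) 1 = 0
    rw [← hBc, finsum_mem_coe_finset, e1]
  · show ∑ᶠ χ ∈ Cfsg.principalBlock M G, a χ * (χ : G → ℂ) t = 0
    rw [← hBc, finsum_mem_coe_finset, e2]
  -- signs
  show (2 ≤ Nat.card {χ : Cfsg.IrrCharacter G // χ ∈ Cfsg.principalBlock M G ∧ 0 < (a χ).re} ∧
    2 ≤ Nat.card {χ : Cfsg.IrrCharacter G // χ ∈ Cfsg.principalBlock M G ∧ (a χ).re < 0}) ∨ _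
  by_contra hcon
  rw [not_or, not_and_or, not_le, not_le] at hcon
  obtain ⟨hcards, hnoK⟩ := hcon
  let c : ↥B → ℝ := fun χ => (a χ).re
  let x : ↥B → ℝ := fun χ => (Cfsg.charDegree ((χ : Cfsg.IrrCharacter G) : G → ℂ) : ℝ)
  let v : ↥B → ℝ := fun χ => (u χ : ℝ)
  have hx : ∀ i, 0 < x i := fun i => by
    show (0 : ℝ) < (Cfsg.charDegree ((i : Cfsg.IrrCharacter G) : G → ℂ) : ℝ)
    exact_mod_cast charDegree_pos (i : Cfsg.IrrCharacter G)
  have hre : ∀ f : Cfsg.IrrCharacter G → ℝ, ∑ χ ∈ B, a χ * (f χ : ℂ) = 0 →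
      ∑ i : ↥B, c i * f i = 0 := by
    intro f hf
    have h := congrArg Complex.re hf
    rw [Complex.re_sum, Complex.zero_re] at h
    simp only [Complex.re_mul_ofReal] at h
    rw [← h]
    exact Finset.sum_coe_sort B (fun χ => (a χ).re * f χ)
  have h1 : ∑ i, c i * x i = 0 := hre (fun χ => (Cfsg.charDegree (χ : G → ℂ) : ℝ)) (by
    rw [← e1]; refine Finset.sum_congr rfl fun χ _ => ?_
    rw [← charDegree_eq]; push_cast; ring)
  have h2 : ∑ i, c i * v i = 0 := hre (fun χ => (u χ : ℝ)) (by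
    rw [← e2]; refine Finset.sum_congr rfl fun χ _ => ?_
    rw [← hu]; push_cast; ring)
  have h3 : ∑ i, c i * (v i ^ 2 / x i) = 0 :=
    hre (fun χ => (u χ : ℝ) ^ 2 / (Cfsg.charDegree (χ : G → ℂ) : ℝ)) (by
    rw [← e3]; refine Finset.sum_congr rfl fun χ _ => ?_
    rw [← hu, ← charDegree_eq]; push_cast; ring)
  have ht1 : trivIrr G ∈ B := by
    rw [← Finset.mem_coe, hBc]; exact self_mem_blockOf (trivIrr G)
  set i₀ : ↥B := ⟨trivIrr G, ht1⟩ with hi₀def
  have hsumθ : ∑ᶠ y : ↥P, θ y⁻¹ = ∑ᶠ y : ↥P, θ y := by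
    rw [finsum_eq_sum_of_fintype, finsum_eq_sum_of_fintype]
    exact Fintype.sum_equiv (Equiv.inv ↥P) _ _ fun y => rfl
  have ha0 : a (trivIrr G) = (Nat.card ↥P : ℂ)⁻¹ * ∑ᶠ y : ↥P, θ y := by
    simp only [hadef, trivIrr_apply, one_mul, hsumθ]
  obtain ⟨cθ, -, hcθ⟩ := IsGeneralizedCharacter.exists_int_decomp hθ
  have haInt : a (trivIrr G) = (cθ (trivIrr ↥P) : ℂ) := by
    rw [ha0, ← hcθ (trivIrr ↥P), finsum_eq_sum_of_fintype]
    simp [Cfsg.classInner, Nat.card_eq_fintype_card, div_eq_inv_mul]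
  have hc₀ : c i₀ ≠ 0 := by
    show (a (trivIrr G)).re ≠ 0
    intro h
    apply hθ0
    rw [← ha0, haInt]
    rw [haInt, Complex.intCast_re] at h
    exact_mod_cast h
  have hu₀ : v i₀ = x i₀ := by
    show ((u (trivIrr G) : ℝ)) = (Cfsg.charDegree ((trivIrr G : Cfsg.IrrCharacter G) : G → ℂ) : ℝ)
    have e : ((u (trivIrr G) : ℝ) : ℂ) =
        ((Cfsg.charDegree ((trivIrr G : Cfsg.IrrCharacter G) : G → ℂ) : ℝ) : ℂ) := by
      push_cast
      rw [hu, charDegree_eq, trivIrr_apply, trivIrr_apply]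
    exact_mod_cast e
  have hcount : ∀ (Q : ℝ → Prop) (i j : ↥B), Q (c i) → Q (c j) →
      Nat.card {χ : Cfsg.IrrCharacter G // χ ∈ Cfsg.principalBlock M G ∧ Q (a χ).re} < 2 → i = j := by
    intro Q i j hi hj hlt
    haveI : Subsingleton {χ : Cfsg.IrrCharacter G // χ ∈ Cfsg.principalBlock M G ∧ Q (a χ).re} :=
      Finite.card_le_one_iff_subsingleton.1 (by omega)
    have hmem : ∀ i : ↥B, (i : Cfsg.IrrCharacter G) ∈ Cfsg.principalBlock M G := fun i => by
      rw [← hBc]; exact i.2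
    have := Subsingleton.elim (⟨i, hmem i, hi⟩ : {χ : Cfsg.IrrCharacter G //
      χ ∈ Cfsg.principalBlock M G ∧ Q (a χ).re}) ⟨j, hmem j, hj⟩
    exact Subtype.ext (congrArg Subtype.val this :)
  have hall : ∀ i, c i ≠ 0 → v i = x i := by
    rcases hcards with hlt | hlt
    · exact eq_of_one_sign c v x hx h1 h2 h3 (fun i j hi hj => hcount (fun r => 0 < r) i j hi hj hlt)
        i₀ hc₀ hu₀
    · intro i hi
      refine eq_of_one_sign (fun i => -c i) v x hx ?_ ?_ ?_ (fun i j hi' hj' =>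
        hcount (fun r => r < 0) i j (neg_pos.1 hi') (neg_pos.1 hj') hlt) i₀ (neg_ne_zero.2 hc₀) hu₀ i
        (neg_ne_zero.2 hi) <;> simp only [neg_mul, Finset.sum_neg_distrib, h1, h2, h3, neg_zero]
  obtain ⟨j, hj0, hji⟩ : ∃ j, c j ≠ 0 ∧ j ≠ i₀ := by
    by_contra hall'
    push Not at hall'
    rw [Finset.sum_eq_single i₀ (fun b _ hb => by
      by_cases hb0 : c b = 0
      · rw [hb0, zero_mul]
      · exact absurd (hall' b hb0) hb) (fun h => absurd (Finset.mem_univ _) h)] at h1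
    exact hc₀ ((mul_eq_zero.1 h1).resolve_right (hx i₀).ne')
  refine hnoK ⟨charKernel (irr_isCharacter (j : Cfsg.IrrCharacter G)), inferInstance, ?_, ?_, ?_⟩
  · intro htop
    obtain ⟨g, hg⟩ := IsIrrCharacter.exists_ne_apply_one (j : Cfsg.IrrCharacter G).2
      fun h => hji (Subtype.ext (Subtype.ext h))
    exact hg (show g ∈ charKernel (irr_isCharacter (j : Cfsg.IrrCharacter G)) by
      rw [htop]; exact Subgroup.mem_top g)
  · intro g hg
    obtain ⟨K, -, hK, -, -, hmax⟩ := Cfsg.Agent.S0938.result 2 M hM _ hPB (trivIrr G)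
      (by rw [← hBc]; exact ht1)
    have hgK : g ∈ (K : Set G) := hmax (Cfsg.pPrimeCore 2 G) (pPrimeCore_mem 2 G).1
      (not_dvd_card_pPrimeCore (p := 2)) (fun h _ => by rw [trivIrr_apply, trivIrr_apply]) hg
    rw [hK] at hgK
    exact hgK _ (by rw [← hBc]; exact j.2)
  · show ((j : Cfsg.IrrCharacter G) : G → ℂ) t = ((j : Cfsg.IrrCharacter G) : G → ℂ) 1
    rw [← hu, ← charDegree_eq]
    have e : (u (j : Cfsg.IrrCharacter G) : ℝ) =
        (Cfsg.charDegree ((j : Cfsg.IrrCharacter G) : G → ℂ) : ℝ) := hall j hj0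
    exact_mod_cast e

end Cfsg.Agent.S4722
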