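import Cfsg.Statements.S4726
import Cfsg.Agent.Lib.BrauerPairs.MaximalCriterion
import Cfsg.Agent.Lib.BlockHeights.AbelianInertial
import Cfsg.Agent.Lib.BrauerPairs.DefectPairs
import Cfsg.Agent.Lib.BrauerPairs.FirstMain
-- import your own Cfsg.Agent.* helpers here

set_option autoImplicit false
open Cfsg Cfsg.Agent.Lib.Blocks Cfsg.Agent.Lib.Characters Cfsg.Agent.Lib.BrauerPairs
  Cfsg.Agent.Lib.BlockHeights

namespace Cfsg.Agent.S4726

/-- Let p be a prime, M a maximal ideal of the algebraic integers containing p, H a subgroup of the finite group G and b a p-block of H with defect group D₀ such that C_G(D₀) ≤ H. Then b induces a block of G, and for every block B of G induced by b there is a defect group D of B with Z(D) ≤ Z(D₀) ≤ D₀ ≤ D (as subgroups of G). In particular, if the defect groups of B are abelian then D₀ is a defect group of B. -/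
theorem result {G : Type*} [Group G] [Finite G] (p : ℕ) [Fact p.Prime] (M : Ideal Cfsg.AlgInt) (hM : Cfsg.IsPModular p M) (H : Subgroup G) (b : Set (Cfsg.IrrCharacter ↥H)) (hb : Cfsg.IsPBlock M b) (D₀ : Subgroup ↥H) (hD₀ : Cfsg.IsDefectGroup p M b D₀) (hC : Subgroup.centralizer ((D₀.map H.subtype : Subgroup G) : Set G) ≤ H) : Cfsg.InducedBlockDefined M H b ∧ ∀ B : Set (Cfsg.IrrCharacter G), Cfsg.IsInducedBlock M H b B → (∃ D : Subgroup G, Cfsg.IsDefectGroup p M B D ∧ (Subgroup.center ↥D).map D.subtype ≤ ((Subgroup.center ↥D₀).map D₀.subtype).map H.subtype ∧ ((Subgroup.center ↥D₀).map D₀.subtype).map H.subtype ≤ D₀.map H.subtype ∧ D₀.map H.subtype ≤ D) ∧ (∀ D : Subgroup G, Cfsg.IsDefectGroup p M B D → IsMulCommutative ↥D → Cfsg.IsDefectGroup p M B (D₀.map H.subtype)) := by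
  classical
  haveI := Fintype.ofFinite G
  haveI := Fintype.ofFinite H
  haveI : M.IsPrime := hM.2.1.isPrime
  obtain ⟨c, hc⟩ := exists_maximal_defect hM hb hD₀
  set V : Subgroup G := D₀.map H.subtype with hV
  haveI := Fintype.ofFinite (Subgroup.centralizer (D₀ : Set H))
  haveI := Fintype.ofFinite (Subgroup.centralizer (V : Set G))
  let ε := relEquiv hV.symm hC
  set c' := transBlock ε c with hc'def
  have hVp : IsPGroup p V := hc.1.1.1.map H.subtype
  have hpair : IsBrauerPair p M V c' := ⟨hVp, isPBlock_transBlock _ hc.1.1.2⟩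
  obtain ⟨B₀, hB₀⟩ := (existsUnique_isBrauerPairOf hM hpair).exists
  obtain ⟨ξ, hξ⟩ := IsPBlock.nonempty hc.1.1.2
  obtain ⟨θ, hθ⟩ := IsPBlock.nonempty hb
  obtain ⟨χ, hχ⟩ := IsPBlock.nonempty hB₀.2.1
  have hind : IsInducedBlock M H b B₀ := by
    refine isInducedBlock_of_pair hb hB₀.2.1 hθ hχ fun g => ?_
    have hf := isRCentral_classIndicator (M := M) g
    have h1 := brauerOmega_congr_omega hM hc.1 hξ hθ (isRCentral_resFun H hf)
    have h2 := brauerOmega_congr_omega hM hB₀ (⟨ξ, hξ, rfl⟩ : transIrr ε ξ ∈ c') hχ hf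
    rw [brauerOmega_relEquiv hV.symm hC] at h2
    rw [← omega_classIndicator (irr_isClassFunction χ) g]
    simpa using memLocalIdeal_sub h2 h1
  refine ⟨⟨B₀, hind⟩, fun B hindB => ?_⟩
  obtain rfl := IsInducedBlock.unique hind hindB
  obtain ⟨R, e, hmax, hle⟩ := exists_maximal_above hB₀
  have hR : IsDefectGroup p M B₀ R := isDefectGroup_of_isMaximal hM hmax
  have hVR : V ≤ R := subpairLE_le hle
  -- the defect group of the pair at `D₀`
  have hZ := isDefectGroup_transBlock ε (isDefectGroup_center_of_isMaximal hM hc)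
  set Z := (D₀.subgroupOf (Subgroup.centralizer (D₀ : Set H))).map ε.toMonoidHom with hZdef
  have hZV : ∀ y : Subgroup.centralizer (V : Set G), y ∈ Z → (y : G) ∈ V := by
    rintro _ ⟨y, hy, rfl⟩
    exact ⟨(y : H), hy, rfl⟩
  obtain ⟨E, hE, hEge⟩ := exists_defectGroup_ge_centralizer hM hmax.1.1 hle
  obtain ⟨a, ha⟩ := IsDefectGroup.exists_map_conj_eq hM hpair.2 hZ hE
  have hkey : ∀ z ∈ R, z ∈ Subgroup.centralizer (V : Set G) → z ∈ V := by
    intro z hz hzC
    have h1 : (⟨z, hzC⟩ : Subgroup.centralizer (V : Set G)) ∈ E :=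
      hEge (Subgroup.mem_subgroupOf.2 ⟨hz, hzC⟩)
    rw [← ha] at h1
    obtain ⟨w, hw, hwz⟩ := h1
    have hwV := hZV w hw
    have h2 : (a : G) * (w : G) * (a : G)⁻¹ = z := congrArg Subtype.val hwz
    rw [← (Subgroup.mem_centralizer_iff.1 a.2 _ hwV), mul_inv_cancel_right] at h2
    exact h2 ▸ hwV
  refine ⟨⟨R, hR, ?_, Subgroup.map_mono (Subgroup.map_subtype_le _), hVR⟩, fun D hD hDab => ?_⟩
  · rintro _ ⟨z, hz, rfl⟩
    have hzC : (z : G) ∈ Subgroup.centralizer (V : Set G) :=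
      Subgroup.mem_centralizer_iff.2 fun v hv =>
        congrArg Subtype.val (Subgroup.mem_center_iff.1 hz ⟨v, hVR hv⟩)
    obtain ⟨y, hy, hyz⟩ := hkey _ z.2 hzC
    refine ⟨y, ⟨⟨y, hy⟩, Subgroup.mem_center_iff.2 fun w => Subtype.ext (Subtype.ext ?_), rfl⟩, hyz⟩
    have := Subgroup.mem_centralizer_iff.1 hzC _ (⟨(w : H), w.2, rfl⟩ : ((w : H) : G) ∈ V)
    rw [← hyz] at this
    exact this
  · obtain ⟨g, rfl⟩ := IsDefectGroup.exists_map_conj_eq hM hB₀.2.1 hD hR
    have hab : ∀ x ∈ D.map (MulAut.conj g).toMonoidHom, ∀ y ∈ D.map (MulAut.conj g).toMonoidHom,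
        x * y = y * x := by
      rintro _ ⟨x, hx, rfl⟩ _ ⟨y, hy, rfl⟩
      rw [← map_mul, ← map_mul]
      exact congrArg _ (congrArg Subtype.val (hDab.is_comm.comm (⟨x, hx⟩ : D) ⟨y, hy⟩))
    rw [show V = D.map (MulAut.conj g).toMonoidHom from le_antisymm hVR fun z hz =>
      hkey z hz (Subgroup.mem_centralizer_iff.2 fun v hv => hab v (hVR hv) z hz)]
    exact hR

end Cfsg.Agent.S4726
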