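import Cfsg.Statements.S4729
import Cfsg.Agent.Lib.Characters.ExtensionChar
import Cfsg.Agent.Lib.Characters.Eigen
import Cfsg.Agent.Lib.Blocks.LocalRing
import Cfsg.Agent.Lib.Blocks.Central
-- import your own Cfsg.Agent.* helpers here

set_option autoImplicit false
open Cfsg Cfsg.Agent.Lib

namespace Cfsg.Agent.S4729

/-- Let p be a prime, M a maximal ideal of the algebraic integers containing p, G a finite perfect group and P a Sylow p-subgroup. If the principal p-block of G contains a faithful irreducible character of degree less than 2p, then the centralizer of P is a p-group. -/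
theorem result {G : Type*} [Group G] [Finite G] (p : ℕ) [Fact p.Prime] (M : Ideal Cfsg.AlgInt) (hM : Cfsg.IsPModular p M) (hperf : commutator G = ⊤) (P : Sylow p G) (χ : Cfsg.IrrCharacter G) (hχ : χ ∈ Cfsg.principalBlock M G) (hfaith : ∀ g : G, (χ : G → ℂ) g = (χ : G → ℂ) 1 → g = 1) (hdeg : Cfsg.charDegree (χ : G → ℂ) < 2 * p) : IsPGroup p ↥(Subgroup.centralizer ((P : Subgroup G) : Set G)) := by
  classical
  haveI := Blocks.isPrime_of_isPModular hM
  haveI := Fintype.ofFinite G
  obtain ⟨χ, n, ρ, hρ, rfl⟩ := χ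
  simp only at hfaith hdeg hχ
  have hp : p.Prime := Fact.out
  have hchar : IsCharacter G ρ.character := ⟨n, ρ, rfl⟩
  have hone : ρ.character 1 = (n : ℂ) := by rw [ρ.char_one, Module.finrank_fin_fun]
  have hn : n < 2 * p := by
    rwa [charDegree, hone, Complex.natCast_re, Nat.floor_natCast] at hdeg
  have hn0 : n ≠ 0 := by
    intro h0
    exact Characters.IsIrrCharacter.apply_one_ne_zero (χ := ρ.character) ⟨n, ρ, hρ, rfl⟩ (by rw [hone, h0, Nat.cast_zero])
  have hdet : ∀ g : G, LinearMap.det (ρ g) = 1 := by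
    intro g
    have h1 : commutator G ≤ (Characters.detHom ρ).ker := Abelianization.commutator_subset_ker _
    have h2 := MonoidHom.mem_ker.1 (h1 (hperf ▸ Subgroup.mem_top g : g ∈ commutator G))
    rw [← Characters.detHom_coe, h2, Units.val_one]
  have hcongr : ∀ x : G, x ∈ Subgroup.centralizer ((P : Subgroup G) : Set G) →
      MemLocalIdeal M (ρ.character x - n) := by
    intro x hx
    have h := hχ x
    have hle : (P : Subgroup G) ≤ Subgroup.centralizer ({x} : Set G) := fun y hy =>
      Subgroup.mem_centralizer_singleton_iff.2 (Subgroup.mem_centralizer_iff.1 hx y hy)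
    set i := (Subgroup.centralizer ({x} : Set G)).index with hi
    have hpi : ¬ p ∣ i := fun hd => P.not_dvd_index (hd.trans (Subgroup.index_dvd_of_le hle))
    simp only [centralChar, one_mul, div_one, mul_one, ← hi, hone] at h
    have hne : (n : ℂ) ≠ 0 := Nat.cast_ne_zero.2 hn0
    have h2 : MemLocalIdeal M ((i : ℂ) * ((ρ.character x - n) : ℂ)) := by
      have h3 := Blocks.memLocalIdeal_neg (Blocks.memLocalIdeal_mul_right h
        (Blocks.memLocalRing_natCast n))
      convert h3 using 1
      field_simp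
      ring
    rcases (Blocks.memLocalIdeal_mul_iff (Blocks.memLocalRing_natCast i)
      (Blocks.memLocalRing_sub (Blocks.memLocalRing_of_isIntegral' (Blocks.isIntegral_char
        ⟨ρ.character, n, ρ, hρ, rfl⟩ x)) (Blocks.memLocalRing_natCast n))).1 h2 with h4 | h4
    · exact absurd ((Blocks.memLocalIdeal_natCast_iff hM i).1 h4) hpi
    · exact h4
  have key : ∀ k ∈ Subgroup.centralizer ((P : Subgroup G) : Set G), ¬ p ∣ orderOf k → k = 1 := by
    intro k hk hpk
    set m := orderOf k with hm
    have hm0 : m ≠ 0 := (orderOf_pos k).ne'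
    obtain ⟨ι, hι, b, μ, hμ, hμm⟩ := Characters.exists_eigenbasis (ρ k) hm0
      (by rw [← map_pow, hm, pow_orderOf_eq_one, map_one])
    have hval : ∀ j : ℕ, ρ.character (k ^ j) = ∑ i, μ i ^ j := fun j => by
      rw [Representation.character, map_pow]
      exact Characters.trace_pow_eq_sum_eigen b _ μ hμ j
    have hcard : Fintype.card ι = n := by
      have := Module.finrank_eq_card_basis b
      rwa [Module.finrank_fin_fun, eq_comm] at this
    have hdvd : ∀ i₀, μ i₀ ≠ 1 → p ∣ (Finset.univ.filter fun i => μ i = μ i₀).card := by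
      intro i₀ hne
      set l := μ i₀ with hl
      have hl0 : l ≠ 0 := fun h0 => by
        have := hμm i₀
        rw [← hl, h0, zero_pow hm0] at this
        exact zero_ne_one this
      have hgeom : ∀ z : ℂ, z ^ m = 1 → z ≠ 1 → ∑ j ∈ Finset.range m, z ^ j = 0 := fun z hz hz1 => by
        rw [geom_sum_eq hz1, hz, sub_self, zero_div]
      have hlm : (l⁻¹) ^ m = 1 := by rw [inv_pow, hμm i₀, inv_one]
      have h1 : ∑ j ∈ Finset.range m, (l⁻¹) ^ j * (ρ.character (k ^ j) - n) =
          ((m * (Finset.univ.filter fun i => μ i = l).card : ℕ) : ℂ) := by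
        simp only [mul_sub, Finset.sum_sub_distrib, ← Finset.sum_mul,
          hgeom _ hlm (by simpa using hne), zero_mul, sub_zero, hval, Finset.mul_sum, ← mul_pow]
        rw [Finset.sum_comm, Nat.cast_mul, Finset.natCast_card_filter, Finset.mul_sum]
        refine Finset.sum_congr rfl fun i _ => ?_
        split_ifs with hi
        · rw [hi, inv_mul_cancel₀ hl0]; simp
        · rw [mul_zero, hgeom _ (by rw [mul_pow, hlm, hμm i, mul_one])]
          intro he
          exact hi ((inv_mul_eq_one₀ hl0).1 he).symm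
      have h2 : MemLocalIdeal M ((m * (Finset.univ.filter fun i => μ i = l).card : ℕ) : ℂ) := by
        rw [← h1]
        refine Blocks.memLocalIdeal_sum _ fun j _ => ?_
        refine Blocks.memLocalIdeal_mul_left (Blocks.memLocalRing_of_isIntegral' ?_) (hcongr _ (pow_mem hk j))
        exact (IsIntegral.of_pow (Nat.pos_of_ne_zero hm0) (by rw [hlm]; exact isIntegral_one)).pow j
      exact (hp.dvd_mul.1 ((Blocks.memLocalIdeal_natCast_iff hM _).1 h2)).resolve_left hpk
    by_cases hall : ∀ i, μ i = 1
    · refine hfaith k ?_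
      have := hval 1
      simp only [pow_one, hall, Finset.sum_const, Finset.card_univ, hcard, nsmul_eq_mul, mul_one] at this
      rw [this, hone]
    exfalso
    push Not at hall
    obtain ⟨i₀, hi₀⟩ := hall
    set S := Finset.univ.filter fun i => μ i = μ i₀ with hS
    have hSne : i₀ ∈ S := by simp [hS]
    have hSp : p ≤ S.card := Nat.le_of_dvd (Finset.card_pos.2 ⟨_, hSne⟩) (hdvd i₀ hi₀)
    have hrest : ∀ i, i ∉ S → μ i = 1 := by
      intro i hi
      by_contra hne
      set T := Finset.univ.filter fun j => μ j = μ i with hT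
      have hTp : p ≤ T.card := Nat.le_of_dvd (Finset.card_pos.2 ⟨i, by simp [hT]⟩) (hdvd i hne)
      have hdis : Disjoint S T := Finset.disjoint_filter.2 fun j _ h1 h2 =>
        hi (by simp [hS, ← h1, h2])
      have h5 := Finset.card_union_of_disjoint hdis
      have h6 : (S ∪ T).card ≤ n := hcard ▸ Finset.card_le_univ _
      omega
    have hSeq : S.card = p := by
      obtain ⟨c, hc⟩ := hdvd i₀ hi₀
      rw [← hS] at hc
      have h6 : S.card ≤ n := hcard ▸ Finset.card_le_univ _
      have : c < 2 := Nat.lt_of_mul_lt_mul_left (a := p) (by omega)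
      have : 1 ≤ c := Nat.one_le_iff_ne_zero.2 fun h0 => by rw [h0, mul_zero] at hc; have := hp.pos; omega
      rw [hc, show c = 1 by omega, mul_one]
    have hd := hdet k
    rw [← LinearMap.det_toMatrix b] at hd
    rw [show LinearMap.toMatrix b b (ρ k) = Matrix.diagonal μ by
      ext i j
      rw [LinearMap.toMatrix_apply, hμ j, map_smul, Module.Basis.repr_self, Finsupp.smul_single,
        smul_eq_mul, mul_one, Finsupp.single_apply, Matrix.diagonal_apply]
      split_ifs with h1 h2 h2
      · rw [h1]
      · exact absurd h1.symm h2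
      · exact absurd h2.symm h1
      · rfl, Matrix.det_diagonal] at hd
    have hd2 : ∏ i, μ i = μ i₀ ^ p := by
      rw [← Finset.prod_subset (Finset.subset_univ S) fun i _ hi => hrest i hi,
        Finset.prod_congr rfl (g := fun _ => μ i₀) fun i hi => (Finset.mem_filter.1 hi).2,
        Finset.prod_const, hSeq]
    rw [hd2] at hd
    have h7 := pow_gcd_eq_one.2 ⟨hd, hμm i₀⟩
    rw [(hp.coprime_iff_not_dvd.2 hpk).gcd_eq_one, pow_one] at h7
    exact hi₀ h7
  rintro ⟨g, hg⟩
  obtain ⟨v, m, hpm, hvm⟩ := Nat.exists_eq_pow_mul_and_not_dvd (orderOf_pos g).ne' p hp.ne_one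
  refine ⟨v, Subtype.ext ?_⟩
  rw [Subgroup.coe_pow, Subgroup.coe_one]
  refine key _ (pow_mem hg _) ?_
  rw [orderOf_pow_of_dvd (pow_ne_zero _ hp.ne_zero) ⟨m, hvm⟩, hvm,
    Nat.mul_div_cancel_left _ (pow_pos hp.pos v)]
  exact hpm

end Cfsg.Agent.S4729
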