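import Cfsg.Statements.S4731
import Cfsg.Agent.Lib.BlockHeights.Subsection
import Cfsg.Agent.Lib.Blocks.Sections
import Cfsg.Agent.Lib.BlockHeights.CharTools
-- import your own Cfsg.Agent.* helpers here

set_option autoImplicit false
open Cfsg

namespace Cfsg.Agent.S4731

/-- Let p ≠ q be primes, M_p and M_q maximal ideals of the algebraic integers containing p and q respectively, and G a finite group with no element of order pq; let q^b be the q-part of the order of G. For a p-block B_p (relative to M_p), a q-block B_q (relative to M_q) and a p-singular element y, the sum of χ(1)χ(y) over the irreducible characters χ lying in both B_p and B_q is q^b times an algebraic integer. -/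
theorem result {G : Type*} [Group G] [Finite G] (p q : ℕ) [Fact p.Prime] [Fact q.Prime] (hpq : p ≠ q) (Mp Mq : Ideal Cfsg.AlgInt) (hMp : Cfsg.IsPModular p Mp) (hMq : Cfsg.IsPModular q Mq) (hno : ∀ g : G, orderOf g ≠ p * q) (b : ℕ) (hb : (Nat.card G).factorization q = b) (Bp : Set (Cfsg.IrrCharacter G)) (hBp : Cfsg.IsPBlock Mp Bp) (Bq : Set (Cfsg.IrrCharacter G)) (hBq : Cfsg.IsPBlock Mq Bq) (y : G) (hy : p ∣ orderOf y) : ∃ ω : Cfsg.AlgInt, ∑ᶠ χ ∈ Bp ∩ Bq, (Cfsg.charDegree (χ : G → ℂ) : ℂ) * (χ : G → ℂ) y = (q : ℂ) ^ b * (ω : ℂ) := by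
  classical
  open Cfsg.Agent.Lib.Blocks Cfsg.Agent.Lib.BlockHeights Cfsg.Agent.Lib.Characters in
  haveI := Fintype.ofFinite G
  haveI := Fintype.ofFinite (Cfsg.IrrCharacter G)
  have hp := (Fact.out : p.Prime)
  have hq := (Fact.out : q.Prime)
  have hnot : ∀ g : G, p ∣ orderOf g → ¬ q ∣ orderOf g := by
    intro g h1 h2
    obtain ⟨c, hc⟩ := ((Nat.coprime_primes hp hq).2 hpq).mul_dvd_of_dvd_of_dvd h1 h2
    have hc0 : c ≠ 0 := by rintro rfl; simp at hc; exact (orderOf_pos g).ne' (by simpa using hc)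
    exact hno (g ^ c) (by
      rw [orderOf_pow' g hc0, Nat.gcd_eq_right (Dvd.intro_left _ hc.symm), hc,
        Nat.mul_div_cancel _ (Nat.pos_of_ne_zero hc0)])
  haveI := hMp.2.1.isPrime
  haveI := hMq.2.1.isPrime
  set φ : G → ℂ := fun g => ∑ᶠ χ ∈ Bp, (χ : G → ℂ) g * (χ : G → ℂ) y with hφ
  have hφcl : Cfsg.IsClassFunction G φ := fun a c => by
    simp only [hφ, irr_isClassFunction _ a c]
  have hφsing : ∀ g : G, q ∣ orderOf g → φ g = 0 := by
    intro g hg
    have hy' : p ∣ orderOf y⁻¹ := by rwa [orderOf_inv]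
    have h := finsum_regular_singular_eq_zero hMp hBp (g := g)
      (fun h => hnot g h hg) hy'
    rw [← h]
    refine finsum_mem_congr rfl fun χ _ => ?_
    rw [IsCharacter.apply_inv (irr_isCharacter χ), Complex.conj_conj]
  have hφreg : Cfsg.pRegularPart q φ = φ := by
    rw [pRegularPart_eq]
    funext g
    by_cases hg : Cfsg.IsPRegular q g
    · rw [regInd_of_regular hg, one_mul]
    · rw [regInd_of_singular hg, zero_mul, hφsing g (not_not.1 hg)]
  set ψ : G → ℂ := Cfsg.blockPart Bq φ with hψ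
  have hψreg : Cfsg.pRegularPart q ψ = ψ := by
    rw [hψ, ← blockPart_pRegularPart hMq hBq hφcl, hφreg]
  have hinner : ∀ χ : Cfsg.IrrCharacter G,
      Cfsg.classInner φ (χ : G → ℂ) = if χ ∈ Bp then (χ : G → ℂ) y else 0 := by
    intro χ
    have hsum : φ = ∑ η : Cfsg.IrrCharacter G,
        (if η ∈ Bp then (η : G → ℂ) y else 0) • (η : G → ℂ) := by
      funext g
      rw [hφ, Finset.sum_apply]
      simp only [finsum_irr_eq_sum_ite, Pi.smul_apply, smul_eq_mul]
      exact Finset.sum_congr rfl fun η _ => by split_ifs <;> ring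
    rw [hsum, classInner_sum_left, Finset.sum_eq_single χ]
    · rw [classInner_smul_left, IsIrrCharacter.classInner_self χ.2, mul_one]
    · intro η _ hne
      rw [classInner_smul_left, IsIrrCharacter.classInner_ne η.2 χ.2
        (fun h => hne (Subtype.ext h)), mul_zero]
    · simp
  have hval : ∀ g : G, ψ g = ∑ χ : Cfsg.IrrCharacter G,
      if χ ∈ Bp ∩ Bq then (χ : G → ℂ) y * (χ : G → ℂ) g else 0 := by
    intro g
    rw [hψ, Cfsg.Agent.Lib.BlockHeights.blockPart_eq_sum, Finset.sum_apply]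
    refine Finset.sum_congr rfl fun χ _ => ?_
    rw [Pi.smul_apply, smul_eq_mul, hinner]
    by_cases h1 : χ ∈ Bp <;> by_cases h2 : χ ∈ Bq <;> simp [h1, h2]
  obtain ⟨Q⟩ : Nonempty (Sylow q G) := inferInstance
  haveI : Fintype (Q : Subgroup G) := Fintype.ofFinite _
  choose w hw using fun χ : Cfsg.IrrCharacter G =>
    IsCharacter.exists_classInner_nat (IsCharacter.restrict (irr_isCharacter χ) (Q : Subgroup G))
      (irr_isCharacter (trivIrr (Q : Subgroup G)))
  have hw' : ∀ χ : Cfsg.IrrCharacter G,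
      ∑ u : (Q : Subgroup G), (χ : G → ℂ) u = (q : ℂ) ^ b * (w χ : ℂ) := by
    intro χ
    rw [← hw χ, Cfsg.classInner, Sylow.card_eq_multiplicity, hb, Nat.cast_pow, ← mul_assoc,
      mul_inv_cancel₀ (pow_ne_zero _ (Nat.cast_ne_zero.2 hq.ne_zero)), one_mul]
    simp [trivIrr_apply]
  have hone : ∑ u : (Q : Subgroup G), ψ u = ψ 1 := by
    rw [Finset.sum_eq_single (1 : (Q : Subgroup G))]
    · rfl
    · intro u _ hu
      rw [← hψreg, pRegularPart_eq]
      refine mul_eq_zero_of_left (regInd_of_singular ?_) _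
      intro hreg
      obtain ⟨j, hj⟩ := IsPGroup.iff_orderOf.1 Q.isPGroup' u
      rcases Nat.eq_zero_or_pos j with rfl | hj0
      · rw [pow_zero, orderOf_eq_one_iff] at hj; exact hu hj
      · exact hreg (by rw [Subgroup.orderOf_coe, hj]; exact dvd_pow_self q hj0.ne')
    · simp
  refine ⟨⟨∑ χ : Cfsg.IrrCharacter G, if χ ∈ Bp ∩ Bq then (χ : G → ℂ) y * (w χ : ℂ) else 0,
    IsIntegral.sum _ fun χ _ => by
      split_ifs
      · exact (isIntegral_char χ y).mul (isIntegral_algebraMap (R := ℤ) (x := (w χ : ℤ)) |> fun h =>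
          by simpa using h)
      · exact isIntegral_zero⟩, ?_⟩
  rw [finsum_irr_eq_sum_ite]
  calc ∑ χ : Cfsg.IrrCharacter G, (if χ ∈ Bp ∩ Bq then
        (Cfsg.charDegree (χ : G → ℂ) : ℂ) * (χ : G → ℂ) y else 0) = ψ 1 := by
        rw [hval]
        exact Finset.sum_congr rfl fun χ _ => by rw [← irr_apply_one]; split_ifs <;> ring
    _ = _ := by
        rw [← hone]
        simp only [hval]
        rw [Finset.sum_comm, Finset.mul_sum]
        refine Finset.sum_congr rfl fun χ _ => ?_
        split_ifs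
        · rw [← Finset.mul_sum, hw']; ring
        · simp

end Cfsg.Agent.S4731
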