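import Cfsg.Statements.S4732
import Cfsg.Agent.Lib.BrauerFeit.Rep

set_option autoImplicit false
universe u v
open Cfsg

namespace Cfsg.Agent.S4732

/-- Let p be a prime. There is a function f of two natural-number arguments such that every finite group G admitting a faithful representation of degree n over a field of characteristic p, with Sylow p-subgroups of order p^m, has a normal abelian subgroup A with [G : A] < f(m, n). -/
theorem result (p : ℕ) [Fact p.Prime] : ∃ f : ℕ → ℕ → ℕ, ∀ (G : Type u) [Group G] [Finite G] (F : Type v) [Field F] [CharP F p] (n : ℕ) (ρ : Representation F G (Fin n → F)), Function.Injective ρ → ∀ m : ℕ, (Nat.card G).factorization p = m → ∃ A : Subgroup G, A.Normal ∧ IsMulCommutative A ∧ A.index < f m n := by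
  choose b hb using fun m n => Cfsg.BrauerFeit.exists_holds.{u, v} p m n
  refine ⟨fun m n => (b m n).factorial + 1, ?_⟩
  intro G _ _ F _ _ n ρ hρ m hm
  have : CharP (AlgebraicClosure F) p :=
    charP_of_injective_algebraMap (algebraMap F (AlgebraicClosure F)).injective p
  let toMat : G →* Matrix (Fin n) (Fin n) F :=
    (LinearMap.toMatrixAlgEquiv' (R := F) (n := Fin n)).toAlgHom.toRingHom.toMonoidHom.comp ρ
  let σ : Representation (AlgebraicClosure F) G (Fin n → AlgebraicClosure F) :=
    (Matrix.toLinAlgEquiv' (R := AlgebraicClosure F) (n := Fin n)).toAlgHom.toRingHom.toMonoidHom.comp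
      ((algebraMap F (AlgebraicClosure F)).mapMatrix.toMonoidHom.comp toMat)
  have hσ : Function.Injective σ := by
    intro a a' h
    refine hρ (LinearMap.toMatrixAlgEquiv'.injective ?_)
    exact Matrix.map_injective (algebraMap F (AlgebraicClosure F)).injective
      (Matrix.toLinAlgEquiv'.injective h)
  obtain ⟨A, hA, hAc⟩ := hb m n (AlgebraicClosure F) G (Fin n → AlgebraicClosure F) σ hσ
    (by simp) hm.le
  refine ⟨A.normalCore, inferInstance, ⟨⟨fun a a' => ?_⟩⟩, ?_⟩
  · exact Subtype.ext (hA a (A.normalCore_le a.2) a' (A.normalCore_le a'.2)).eq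
  · have h1 : A.index ≤ b m n := by
      rw [← Subgroup.card_mul_index A, mul_comm (b m n)] at hAc
      exact Nat.le_of_mul_le_mul_left hAc Nat.card_pos
    rw [Nat.lt_succ_iff, Subgroup.normalCore_eq_ker, Subgroup.index_ker]
    refine (Subgroup.card_le_card_group _).trans ?_
    rw [Nat.card_perm]
    exact Nat.factorial_le h1

end Cfsg.Agent.S4732
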