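import Cfsg.Statements.S4736
import Cfsg.Agent.Lib.Characters.PrincipalPSolvable
import Cfsg.Agent.Lib.Characters.PSolvableDegrees
import Cfsg.Agent.Lib.Characters.Ito
import Cfsg.Agent.Lib.CharMisc.PrincipalOneDegree
import Cfsg.Agent.Lib.Blocks.PSolvable
import Cfsg.Agent.Lib.Cores.PCore
-- import your own Cfsg.Agent.* helpers here

set_option autoImplicit false
open Cfsg Cfsg.Agent.Lib

namespace Cfsg.Agent.S4736

/-- Let p be a prime, M a maximal ideal of the algebraic integers containing p, and G a finite p-solvable group with Sylow p-subgroup P. Then P is abelian if and only if every irreducible character in the principal p-block of G has height zero. -/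
theorem result {G : Type*} [Group G] [Finite G] (p : ℕ) [Fact p.Prime] (M : Ideal Cfsg.AlgInt) (hM : Cfsg.IsPModular p M) (hsolv : Cfsg.IsPSolvable p G) (P : Sylow p G) : IsMulCommutative P ↔ ∀ χ ∈ Cfsg.principalBlock M G, Cfsg.blockHeight p (Cfsg.principalBlock M G) (χ : G → ℂ) = 0 := by
  classical
  haveI := Cfsg.Agent.Lib.Blocks.isPrime_of_isPModular hM
  haveI := Fintype.ofFinite G
  set K := pPrimeCore p G with hK
  haveI : K.Normal := (Cores.pPrimeCore_mem p G).1
  haveI := Fintype.ofFinite (G ⧸ K)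
  set f := QuotientGroup.mk' K with hf
  have hfs : Function.Surjective f := QuotientGroup.mk'_surjective K
  have hcore : pPrimeCore p (G ⧸ K) = ⊥ := Cores.pPrimeCore_quotient_pPrimeCore p G
  have hsolv' : IsPSolvable p (G ⧸ K) := Characters.isPSolvable_quotient_of K hsolv
  set Q : Sylow p (G ⧸ K) := P.mapSurjective hfs with hQ
  have hQc : (Q : Subgroup (G ⧸ K)) = (P : Subgroup G).map f := Sylow.coe_mapSurjective hfs P
  have hinj : ∀ x ∈ (P : Subgroup G), f x = 1 → x = 1 := by
    intro x hx h1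
    have hxK : x ∈ K := (QuotientGroup.eq_one_iff x).1 h1
    obtain ⟨k, hk⟩ := P.isPGroup' ⟨x, hx⟩
    have hk' : x ^ p ^ k = 1 := by simpa using congrArg Subtype.val hk
    have ho : orderOf x ∣ p ^ k := orderOf_dvd_of_pow_eq_one hk'
    have ho' : orderOf x ∣ Nat.card K := by
      have := orderOf_dvd_natCard (⟨x, hxK⟩ : K)
      rwa [← Subgroup.orderOf_coe] at this
    exact orderOf_eq_one_iff.1 (Nat.eq_one_of_dvd_coprimes
      (((Cores.pPrimeCore_coprime p G).symm).pow_left k) ho ho')
  have hdeg : (∀ χ ∈ principalBlock M G, blockHeight p (principalBlock M G) (χ : G → ℂ) = 0) ↔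
      ∀ η : IrrCharacter (G ⧸ K), ¬ p ∣ charDegree (η : G ⧸ K → ℂ) := by
    constructor
    · intro h η
      let χ : IrrCharacter G := ⟨_, Characters.IsIrrCharacter.comp_surjective η.2 f hfs⟩
      have hχ : χ ∈ principalBlock M G :=
        (Characters.mem_principalBlock_iff_of_isPSolvable hM hsolv χ).2 fun n hn => by
          show (η : G ⧸ K → ℂ) (f n) = (η : G ⧸ K → ℂ) (f 1)
          rw [show f n = 1 from (QuotientGroup.eq_one_iff n).2 hn, map_one]
      have h1 := (CharMisc.blockHeight_principal_eq_zero_iff (Fact.out) hχ).1 (h χ hχ)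
      simpa [charDegree, χ] using h1
    · intro h χ hχ
      obtain ⟨η, hη, hχη⟩ := Characters.IsIrrCharacter.exists_quotient χ.2 K
        ((Characters.mem_principalBlock_iff_of_isPSolvable hM hsolv χ).1 hχ)
      refine (CharMisc.blockHeight_principal_eq_zero_iff (Fact.out) hχ).2 ?_
      have h1 := h ⟨η, hη⟩
      rw [hχη]
      simpa [charDegree] using h1
  rw [hdeg]
  constructor
  · intro hab η
    have hQab : ∀ a ∈ (Q : Subgroup (G ⧸ K)), ∀ b ∈ (Q : Subgroup (G ⧸ K)), a * b = b * a := by
      rw [hQc]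
      rintro _ ⟨a, ha, rfl⟩ _ ⟨b, hb, rfl⟩
      have := congrArg Subtype.val (hab.is_comm.comm ⟨a, ha⟩ ⟨b, hb⟩)
      simp only [Subgroup.coe_mul] at this
      rw [← map_mul, this, map_mul]
    have hle : (Q : Subgroup (G ⧸ K)) ≤ pCore p (G ⧸ K) := fun a ha =>
      Blocks.centralizer_pCore_le_of_isPSolvable p hsolv' hcore (Subgroup.mem_centralizer_iff.2
        fun b hb => hQab b (Cores.pCore_le_sylow Q hb) a ha)
    have hQe : pCore p (G ⧸ K) = (Q : Subgroup (G ⧸ K)) := le_antisymm (Cores.pCore_le_sylow Q) hle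
    haveI : (Q : Subgroup (G ⧸ K)).Normal := hQe ▸ (inferInstance : (pCore p (G ⧸ K)).Normal)
    obtain ⟨d, -, hd⟩ := Characters.IsIrrCharacter.exists_apply_one η.2
    rw [show charDegree (η : G ⧸ K → ℂ) = d by rw [charDegree, hd, Complex.natCast_re, Nat.floor_natCast]]
    intro hp'
    exact Q.not_dvd_index (hp'.trans
      (Characters.IsIrrCharacter.degree_dvd_index_of_abelian η.2 _ hQab hd))
  · intro h
    obtain ⟨-, hc⟩ := Characters.normal_abelian_sylow_of_degrees rfl hsolv' h Q
    refine ⟨⟨fun a b => Subtype.ext ?_⟩⟩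
    have h1 : f ((a : G) * b * (a : G)⁻¹ * (b : G)⁻¹) = 1 := by
      have := hc (f a) (hQc ▸ Subgroup.mem_map_of_mem f a.2) (f b) (hQc ▸ Subgroup.mem_map_of_mem f b.2)
      simp only [map_mul, map_inv, this]
      group
    have h2 := hinj _ (mul_mem (mul_mem (mul_mem a.2 b.2) (inv_mem a.2)) (inv_mem b.2)) h1
    rw [mul_inv_eq_one, mul_inv_eq_iff_eq_mul] at h2
    simpa using h2

end Cfsg.Agent.S4736
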