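import Cfsg.Statements.S4737
import Cfsg.Agent.Lib.Characters.Convolution
import Cfsg.Agent.Lib.Characters.Integrality
import Cfsg.Agent.Lib.Blocks.Exists

set_option autoImplicit false
open Cfsg

namespace Cfsg.Agent.S4737

open Cfsg.Agent.Lib.Characters Cfsg.Agent.Lib.Blocks
open scoped ComplexConjugate

variable {G : Type*} [Group G] [Finite G]

/-- Order three and no nontrivial normalised `2`-subgroup. -/
def IsFree3 (g : G) : Prop :=
  orderOf g = 3 ∧ ∀ Q : Subgroup G, IsPGroup 2 ↥Q → g ∈ Subgroup.normalizer (Q : Set G) → Q = ⊥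

theorem IsFree3.isConj {g h : G} (hg : IsFree3 g) (hc : IsConj g h) : IsFree3 h := by
  obtain ⟨u, rfl⟩ := isConj_iff.1 hc
  refine ⟨(orderOf_injective (MulAut.conj u).toMonoidHom (MulAut.conj u).injective g).trans hg.1,
    fun Q hQ hN => ?_⟩
  have h1 := hg.2 (Q.map (MulAut.conj u⁻¹).toMonoidHom) (hQ.map _) ?_
  · exact (Subgroup.map_eq_bot_iff_of_injective Q (MulAut.conj u⁻¹).injective).1 h1
  · rw [← Subgroup.map_equiv_normalizer_eq]
    exact ⟨_, hN, by simp [mul_assoc]⟩

theorem IsFree3.eq_one_of_commute {g t : G} (hg : IsFree3 g) (hc : Commute t g)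
    (ht : ∃ k, orderOf t = 2 ^ k) : t = 1 := by
  obtain ⟨k, hk⟩ := ht
  have h1 := hg.2 (Subgroup.zpowers t) (IsPGroup.of_card (n := k) (by rw [Nat.card_zpowers, hk])) ?_
  · exact Subgroup.zpowers_eq_bot.1 h1
  · refine Subgroup.centralizer_le_normalizer (s := (Subgroup.zpowers t : Set G)) ?_
    rintro _ ⟨i, rfl⟩
    exact (hc.zpow_left i).eq

theorem IsFree3.odd_centralizer {g : G} (hg : IsFree3 g) :
    ¬ 2 ∣ Nat.card (Subgroup.centralizer ({g} : Set G)) := by
  intro hd
  haveI : Fact (Nat.Prime 2) := ⟨Nat.prime_two⟩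
  obtain ⟨⟨t, ht⟩, hto⟩ := exists_prime_orderOf_dvd_card' 2 hd
  rw [Subgroup.orderOf_mk] at hto
  have h1 := hg.eq_one_of_commute (Subgroup.mem_centralizer_singleton_iff.1 ht) ⟨1, by rw [hto, pow_one]⟩
  rw [h1, orderOf_one] at hto
  exact absurd hto (by norm_num)

theorem IsFree3.inv {g : G} (hg : IsFree3 g) : IsFree3 g⁻¹ :=
  ⟨(orderOf_inv g).trans hg.1, fun Q hQ hN => hg.2 Q hQ (by simpa using inv_mem hN)⟩

/-- A swap of a pair by a `2`-element is trivial. -/
theorem eq_one_of_swap {a b t : G} (ha : IsFree3 a) (hab : IsFree3 (a * b))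
    (ht : ∃ k, orderOf t = 2 ^ k) (h1 : t * a * t⁻¹ = b) (h2 : t * b * t⁻¹ = a) : t = 1 := by
  obtain ⟨k, hk⟩ := ht
  haveI : Fact (Nat.Prime 2) := ⟨Nat.prime_two⟩
  have htt : t * t = 1 := by
    refine ha.eq_one_of_commute ?_ ?_
    · show t * t * a = a * (t * t)
      conv_rhs => rw [← h2, ← h1]
      group
    · obtain ⟨i, -, hi⟩ := (Nat.dvd_prime_pow Nat.prime_two).1
        (hk ▸ (pow_two t) ▸ orderOf_pow_dvd 2 : orderOf (t * t) ∣ 2 ^ k)
      exact ⟨i, hi⟩
  have hinv : t⁻¹ = t := inv_eq_of_mul_eq_one_left htt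
  have hb : b = t * a * t := by rw [← h1, hinv]
  subst hb
  set u := a * t with hu
  have hu2 : a * (t * a * t) = u * u := by rw [hu]; group
  rw [hu2] at hab
  have hu3 : u * u * u = 1 := by
    refine hab.eq_one_of_commute ?_ ?_
    · show u * u * u * (u * u) = u * u * (u * u * u)
      group
    · have h6 : (u * u * u) ^ 2 = 1 := by
        have h := pow_orderOf_eq_one (u * u)
        rw [hab.1] at h
        rw [show (u * u * u) ^ 2 = (u * u) ^ 3 by simp [pow_two, pow_three, mul_assoc], h]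
      obtain ⟨i, -, hi⟩ := (Nat.dvd_prime_pow Nat.prime_two).1
        (show orderOf (u * u * u) ∣ 2 ^ 1 from orderOf_dvd_of_pow_eq_one h6)
      exact ⟨i, hi⟩
  have ha3 : a * a * a = 1 := by
    have h := pow_orderOf_eq_one a
    rwa [ha.1, pow_three, ← mul_assoc] at h
  set q := a * t * a⁻¹ with hq
  set r := a * a * t * (a * a)⁻¹ with hr
  have hqrp : q * r * t = 1 := by
    rw [← hu3, hu, hq, hr]
    calc a * t * a⁻¹ * (a * a * t * (a * a)⁻¹) * t
        = a * t * a * t * (a * a)⁻¹ * (1 * t) := by group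
      _ = a * t * a * t * (a * a)⁻¹ * ((a * a * a) * t) := by rw [ha3]
      _ = a * t * (a * t) * (a * t) := by group
  have hq2 : q * q = 1 := by
    rw [hq, show a * t * a⁻¹ * (a * t * a⁻¹) = a * (t * t) * a⁻¹ by group, htt]; group
  have hr2 : r * r = 1 := by
    rw [hr, show a * a * t * (a * a)⁻¹ * (a * a * t * (a * a)⁻¹) = a * a * (t * t) * (a * a)⁻¹ by
      group, htt]; group
  have hrq : r = q * t := by
    calc r = q⁻¹ * (q * r * t) * t⁻¹ := by group
      _ = q * t := by rw [hqrp, mul_one, hinv, inv_eq_of_mul_eq_one_left hq2]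
  have hcomm : Commute q t := by
    show q * t = t * q
    calc q * t = (q * t)⁻¹ := (inv_eq_of_mul_eq_one_left (by rw [← hrq, hr2])).symm
      _ = t * q := by rw [mul_inv_rev, hinv, inv_eq_of_mul_eq_one_left hq2]
  set V : Subgroup G := Subgroup.zpowers q ⊔ Subgroup.zpowers t with hV
  have hVp : IsPGroup 2 V := by
    have hp : ∀ z : G, z * z = 1 → IsPGroup 2 (Subgroup.zpowers z) := by
      intro z hz
      obtain ⟨i, -, hi⟩ := (Nat.dvd_prime_pow Nat.prime_two).1
        (show orderOf z ∣ 2 ^ 1 from orderOf_dvd_of_pow_eq_one (by rw [pow_one, pow_two, hz]))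
      exact IsPGroup.of_card (n := i) (by rw [Nat.card_zpowers, hi])
    refine IsPGroup.to_sup_of_normal_right' (hp q hq2) (hp t htt) ?_
    refine le_trans (fun z hz => ?_) (Subgroup.centralizer_le_normalizer (s := (Subgroup.zpowers t : Set G)))
    rw [Subgroup.mem_centralizer_iff]
    intro y hy
    obtain ⟨i, rfl⟩ := hy
    obtain ⟨l, rfl⟩ := hz
    exact (hcomm.zpow_zpow l i).eq.symm
  have hmap : ∀ z ∈ V, a * z * a⁻¹ ∈ V := by
    intro z hz
    have hle : V ≤ V.comap (MulAut.conj a).toMonoidHom := by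
      refine sup_le (Subgroup.zpowers_le.2 ?_) (Subgroup.zpowers_le.2 ?_)
      · show a * q * a⁻¹ ∈ V
        rw [show a * q * a⁻¹ = r by rw [hq, hr]; group, hrq]
        exact mul_mem (Subgroup.mem_sup_left (Subgroup.mem_zpowers q))
          (Subgroup.mem_sup_right (Subgroup.mem_zpowers t))
      · show a * t * a⁻¹ ∈ V
        exact Subgroup.mem_sup_left (Subgroup.mem_zpowers q)
    exact hle hz
  have hN : a ∈ Subgroup.normalizer (V : Set G) := by
    rw [Subgroup.mem_normalizer_iff]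
    refine fun z => ⟨hmap z, fun hz => ?_⟩
    have h := hmap _ (hmap _ hz)
    rwa [show a * (a * (a * z * a⁻¹) * a⁻¹) * a⁻¹ = (a * a * a) * z * (a * a * a)⁻¹ by group,
      ha3, one_mul, inv_one, mul_one] at h
  have := ha.2 V hVp hN
  exact Subgroup.mem_bot.1 (this ▸ Subgroup.mem_sup_right (Subgroup.mem_zpowers t))

variable (M : Ideal Cfsg.AlgInt)

theorem count_eq_classes [Fintype G] [DecidableEq G] [Fintype (IrrCharacter G)] (a b g : G) :
    (Nat.card {p : G × G // IsConj a p.1 ∧ IsConj b p.2 ∧ IsConj g (p.1 * p.2)} : ℂ) =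
      (Nat.card {z : G // IsConj g z} : ℂ) *
        Nat.card {p : G × G // IsConj a p.1 ∧ IsConj b p.2 ∧ p.1 * p.2 = g} := by
  classical
  have e : {p : G × G // IsConj a p.1 ∧ IsConj b p.2 ∧ IsConj g (p.1 * p.2)} ≃
      Σ z : {z : G // IsConj g z}, {p : G × G // IsConj a p.1 ∧ IsConj b p.2 ∧ p.1 * p.2 = z} :=
    { toFun := fun p => ⟨⟨p.1.1 * p.1.2, p.2.2.2⟩, ⟨p.1, p.2.1, p.2.2.1, rfl⟩⟩
      invFun := fun s => ⟨s.2.1, s.2.2.1, s.2.2.2.1, by rw [s.2.2.2.2]; exact s.1.2⟩
      left_inv := fun p => rfl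
      right_inv := by
        rintro ⟨⟨z, hz⟩, ⟨p, h1, h2, h3⟩⟩
        obtain rfl : p.1 * p.2 = z := h3
        rfl }
  rw [Nat.card_congr e, Nat.card_sigma, Nat.cast_sum]
  have h : ∀ z : {z : G // IsConj g z},
      (Nat.card {p : G × G // IsConj a p.1 ∧ IsConj b p.2 ∧ p.1 * p.2 = (z : G)} : ℂ) =
        Nat.card {p : G × G // IsConj a p.1 ∧ IsConj b p.2 ∧ p.1 * p.2 = g} := by
    intro z
    rw [card_class_mul, card_class_mul]
    congr 1
    refine Finset.sum_congr rfl fun χ _ => ?_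
    rw [IsClassFunction.eq_of_isConj (irr_isClassFunction χ) z.2]
  rw [Finset.sum_congr rfl fun z _ => h z, Finset.sum_const, Finset.card_univ, nsmul_eq_mul,
    ← Nat.card_eq_fintype_card]

theorem two_pow_dvd_class {x : G} (hx : IsFree3 x) :
    2 ^ (Nat.card G).factorization 2 ∣ Nat.card {y : G // IsConj x y} := by
  haveI := Fintype.ofFinite G
  refine (Nat.Coprime.pow_left _ (Nat.prime_two.coprime_iff_not_dvd.2 hx.odd_centralizer)).dvd_of_dvd_mul_right ?_
  rw [card_conj_mul_card_centralizer x]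
  exact Nat.ordProj_dvd _ 2

/-- The quadratic coefficient of a combination killed by the defect zero characters lies in `M`. -/
theorem coeff_memLocalIdeal [Fintype G] [Fintype (IrrCharacter G)] (hM : IsPModular 2 M)
    {U : Type*} [Fintype U] (x : U → G) (hx : ∀ i, IsFree3 (x i)) (c : U → ℂ)
    (hc : ∀ i, MemLocalRing M (c i))
    (hD : ∀ χ : IrrCharacter G, (charDegree (χ : G → ℂ)).factorization 2 = (Nat.card G).factorization 2 →
      MemLocalIdeal M (∑ i, c i *
        ((Nat.card {y : G // IsConj (x i) y} : ℂ) * (χ : G → ℂ) (x i) / (χ : G → ℂ) 1))) (g : G) :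
    MemLocalIdeal M (∑ i, ∑ l, c i * c l *
      (Nat.card {p : G × G // IsConj (x i) p.1 ∧ IsConj (x l) p.2 ∧ p.1 * p.2 = g} : ℂ)) := by
  classical
  haveI := isPrime_of_isPModular hM
  set a := (Nat.card G).factorization 2 with ha
  set m := Nat.card G / 2 ^ a with hm
  have hGm : Nat.card G = 2 ^ a * m := (Nat.ordProj_mul_ordCompl_eq_self _ 2).symm
  have hm2 : ¬ 2 ∣ m := Nat.not_dvd_ordCompl Nat.prime_two Nat.card_pos.ne'
  let W : IrrCharacter G → ℂ := fun χ => ∑ i, c i *
        ((Nat.card {y : G // IsConj (x i) y} : ℂ) * (χ : G → ℂ) (x i) / (χ : G → ℂ) 1)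
  have key : (m : ℂ) * (∑ i, ∑ l, c i * c l *
      (Nat.card {p : G × G // IsConj (x i) p.1 ∧ IsConj (x l) p.2 ∧ p.1 * p.2 = g} : ℂ)) =
      ∑ χ : IrrCharacter G, conj ((χ : G → ℂ) g) * ((χ : G → ℂ) 1 * W χ * W χ / (2 : ℂ) ^ a) := by
    simp only [card_class_mul, W, Finset.mul_sum, Finset.sum_mul, Finset.sum_div]
    rw [Finset.sum_comm]
    conv_rhs => rw [Finset.sum_comm]
    refine Finset.sum_congr rfl fun i _ => ?_
    rw [Finset.sum_comm]
    refine Finset.sum_congr rfl fun χ _ => ?_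
    refine Finset.sum_congr rfl fun l _ => ?_
    obtain ⟨d, hd0, hd, -⟩ := IsIrrCharacter.exists_degree_dvd χ.2
    have h1 : (d : ℂ) ≠ 0 := Nat.cast_ne_zero.2 hd0.ne'
    rw [hGm, hd]
    push_cast
    have h2 : (m : ℂ) ≠ 0 := Nat.cast_ne_zero.2 fun h => hm2 (by rw [h]; exact dvd_zero 2)
    field_simp
  have hterm : ∀ χ : IrrCharacter G,
      MemLocalIdeal M (conj ((χ : G → ℂ) g) * ((χ : G → ℂ) 1 * W χ * W χ / (2 : ℂ) ^ a)) := by
    intro χ
    refine memLocalIdeal_mul_left (memLocalRing_of_isIntegral' ?_) ?_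
    · rw [← IsCharacter.apply_inv (irr_isCharacter χ)]
      exact IsCharacter.isIntegral (irr_isCharacter χ) _
    have hWR : MemLocalRing M (W χ) := memLocalRing_sum _ fun i _ =>
      memLocalRing_mul (hc i) (memLocalRing_of_isIntegral' (IsIrrCharacter.isIntegral_centralChar χ.2 (x i)))
    obtain ⟨d, hd0, hd, hdG⟩ := IsIrrCharacter.exists_degree_dvd χ.2
    have hcd : charDegree (χ : G → ℂ) = d := by
      rw [charDegree, hd, Complex.natCast_re, Nat.floor_natCast]
    set e := d.factorization 2 with he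
    set d' := d / 2 ^ e with hd'
    have hdd : d = 2 ^ e * d' := (Nat.ordProj_mul_ordCompl_eq_self _ 2).symm
    have hd2 : ¬ 2 ∣ d' := Nat.not_dvd_ordCompl Nat.prime_two hd0.ne'
    have hd'0 : (d' : ℂ) ≠ 0 := Nat.cast_ne_zero.2 fun h => hd2 (h ▸ dvd_zero 2)
    by_cases hea : e = a
    · rw [hd, hdd, Nat.cast_mul, Nat.cast_pow, hea, Nat.cast_ofNat,
        show (2 : ℂ) ^ a * (d' : ℂ) * W χ * W χ / (2 : ℂ) ^ a = (d' : ℂ) * W χ * W χ by field_simp]
      exact memLocalIdeal_mul_left (memLocalRing_mul (memLocalRing_natCast _) hWR)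
        (hD χ (by rw [hcd]; exact hea))
    · have hlt : e < a := lt_of_le_of_ne
        ((Nat.factorization_le_iff_dvd hd0.ne' Nat.card_pos.ne').2 hdG 2) hea
      obtain ⟨s, hs⟩ : ∃ s, a = e + (s + 1) := ⟨a - e - 1, by omega⟩
      choose k hk using fun i => two_pow_dvd_class (hx i)
      set Y := ∑ i, c i * ((k i : ℂ) * (χ : G → ℂ) (x i) * (d' : ℂ)⁻¹) with hY
      have hWY : W χ = (2 : ℂ) ^ (s + 1) * Y := by
        simp only [W, hY, Finset.mul_sum]
        refine Finset.sum_congr rfl fun i _ => ?_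
        rw [hk i, hd, hdd, ← ha, hs]
        push_cast
        rw [pow_add]
        field_simp
      have hYR : MemLocalRing M Y := memLocalRing_sum _ fun i _ => memLocalRing_mul (hc i)
        (memLocalRing_mul (memLocalRing_mul (memLocalRing_natCast _)
          (memLocalRing_of_isIntegral' (IsCharacter.isIntegral (irr_isCharacter χ) _)))
          (memLocalRing_inv_natCast hM hd2))
      have hWI : MemLocalIdeal M (W χ) := by
        rw [hWY, pow_succ', mul_assoc]
        simpa using memLocalIdeal_of_p_mul hM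
          (memLocalRing_mul (memLocalRing_pow (memLocalRing_natCast 2) s) hYR)
      rw [hd, hdd, Nat.cast_mul, Nat.cast_pow, hs, Nat.cast_ofNat]
      rw [show (2 : ℂ) ^ e * (d' : ℂ) * W χ * W χ / (2 : ℂ) ^ (e + (s + 1)) =
        (d' : ℂ) * Y * W χ by rw [pow_add]; nth_rewrite 2 [hWY]; field_simp]
      exact memLocalIdeal_mul_left (memLocalRing_mul (memLocalRing_natCast _) hYR) hWI
  have h := memLocalIdeal_mul_left (memLocalRing_inv_natCast hM hm2)
    (key ▸ memLocalIdeal_sum Finset.univ fun χ _ => hterm χ)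
  rwa [inv_mul_cancel_left₀ (Nat.cast_ne_zero.2 fun h => hm2 (by rw [h]; exact dvd_zero 2))] at h

theorem isConj_conj_right {g z : G} (h : IsConj g z) (u : G) : IsConj g (u * z * u⁻¹) :=
  h.trans (isConj_iff.2 ⟨u, rfl⟩)

theorem coeff_diag [M.IsPrime] [Fintype G] [Fintype (IrrCharacter G)] (hM : IsPModular 2 M)
    {U : Type*} [Fintype U] (x : U → G) (hx : ∀ i, IsFree3 (x i))
    (hinj : ∀ i l, IsConj (x i) (x l) → i = l) (c : U → locSubring M)
    (hS : ∀ g : G, MemLocalIdeal M (∑ i, ∑ l, (c i : ℂ) * (c l : ℂ) *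
      (Nat.card {p : G × G // IsConj (x i) p.1 ∧ IsConj (x l) p.2 ∧ p.1 * p.2 = g} : ℂ))) (j : U) :
    red M (c j) = 0 := by
  classical
  haveI := isPrime_of_isPModular hM
  haveI : Fact (Nat.Prime 2) := ⟨Nat.prime_two⟩
  haveI := resField_charP hM
  have P : Sylow 2 G := default
  set g := (x j)⁻¹ with hg
  let E := {e : (U × U) × G × G // IsConj (x e.1.1) e.2.1 ∧ IsConj (x e.1.2) e.2.2 ∧
    IsConj g (e.2.1 * e.2.2)}
  letI : MulAction (P : Subgroup G) E :=
    { smul := fun p e => ⟨(e.1.1, ((p : G) * e.1.2.1 * (p : G)⁻¹, (p : G) * e.1.2.2 * (p : G)⁻¹)),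
        isConj_conj_right e.2.1 _, isConj_conj_right e.2.2.1 _, by
          simpa [mul_assoc] using isConj_conj_right e.2.2.2 (p : G)⟩
      one_smul := fun e => Subtype.ext (by
        show (e.1.1, ((1 : G) * e.1.2.1 * (1 : G)⁻¹, (1 : G) * e.1.2.2 * (1 : G)⁻¹)) = e.1
        simp)
      mul_smul := fun p q e => Subtype.ext (by
        show (e.1.1, ((p : G) * q * e.1.2.1 * ((p : G) * q)⁻¹, (p : G) * q * e.1.2.2 * ((p : G) * q)⁻¹))
          = (e.1.1, ((p : G) * ((q : G) * e.1.2.1 * (q : G)⁻¹) * (p : G)⁻¹,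
              (p : G) * ((q : G) * e.1.2.2 * (q : G)⁻¹) * (p : G)⁻¹))
        simp [mul_assoc]) }
  have hsmul : ∀ (p : (P : Subgroup G)) (e : E), ((p • e : E) : (U × U) × G × G) =
      (e.1.1, ((p : G) * e.1.2.1 * (p : G)⁻¹, (p : G) * e.1.2.2 * (p : G)⁻¹)) := fun _ _ => rfl
  have hpow : ∀ p : (P : Subgroup G), ∃ k, orderOf (p : G) = 2 ^ k := fun p => by
    obtain ⟨k, hk⟩ := IsPGroup.iff_orderOf.1 P.isPGroup' p
    exact ⟨k, by rw [← hk, Subgroup.orderOf_coe]⟩
  have hfree : ∀ (p : (P : Subgroup G)) (e : E), p • e = e → p = 1 := by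
    intro p e h
    have h1 := congrArg (fun t : (U × U) × G × G => t.2.1) ((hsmul p e).symm.trans (congrArg Subtype.val h))
    exact Subtype.ext (((hx _).isConj e.2.1).eq_one_of_commute (mul_inv_eq_iff_eq_mul.1 h1) (hpow p))
  let Q := Quotient (MulAction.orbitRel (P : Subgroup G) E)
  haveI : Fintype Q := Fintype.ofFinite _
  let wE : E → locSubring M := fun e => c e.1.1.1 * c e.1.1.2
  have horb : ∀ (f : E → ℂ), (∀ (p : (P : Subgroup G)) (e : E), f (p • e) = f e) →
      ∑ e : E, f e = (Nat.card (P : Subgroup G) : ℂ) * ∑ q : Q, f q.out := by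
    intro f hf
    rw [Fintype.sum_equiv (MulAction.selfEquivSigmaOrbits (P : Subgroup G) E) f
      (fun s => f s.2.1) (fun e => rfl), Fintype.sum_sigma, Finset.mul_sum]
    refine Finset.sum_congr rfl fun q _ => ?_
    have hconst : ∀ y : MulAction.orbit (P : Subgroup G) q.out, f y.1 = f q.out := by
      rintro ⟨_, p, rfl⟩
      exact hf p _
    rw [Finset.sum_congr rfl fun y _ => hconst y, Finset.sum_const, Finset.card_univ, nsmul_eq_mul,
      ← Nat.card_eq_fintype_card]
    congr 2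
    refine (Nat.card_congr (Equiv.ofBijective (fun p : (P : Subgroup G) =>
      (⟨p • q.out, p, rfl⟩ : MulAction.orbit (P : Subgroup G) q.out)) ⟨fun p p' h => ?_, ?_⟩)).symm
    · have h' : p • q.out = p' • q.out := congrArg Subtype.val h
      exact (inv_mul_eq_one.1 (hfree (p⁻¹ * p') q.out (by rw [mul_smul, ← h', inv_smul_smul])))
    · rintro ⟨_, p, rfl⟩
      exact ⟨p, rfl⟩
  obtain ⟨k, hk⟩ := two_pow_dvd_class (hx j)
  have hkodd : ¬ 2 ∣ k := by
    intro h2
    have hd : 2 ^ ((Nat.card G).factorization 2 + 1) ∣ Nat.card G := by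
      refine dvd_trans ?_ (Dvd.intro _ (card_conj_mul_card_centralizer (x j)))
      rw [hk, pow_succ]
      exact Nat.mul_dvd_mul_left _ h2
    exact Nat.pow_succ_factorization_not_dvd Nat.card_pos.ne' Nat.prime_two hd
  have hcardg : Nat.card {z : G // IsConj g z} = Nat.card {y : G // IsConj (x j) y} := by
    refine Nat.card_congr ((Equiv.inv G).subtypeEquiv fun z => ?_)
    show IsConj g z ↔ IsConj (x j) z⁻¹
    constructor
    · intro h
      obtain ⟨u, hu⟩ := isConj_iff.1 h
      exact isConj_iff.2 ⟨u, by rw [← hu, hg]; group⟩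
    · intro h
      obtain ⟨u, hu⟩ := isConj_iff.1 h
      exact isConj_iff.2 ⟨u, by rw [hg, ← conj_inv, hu, inv_inv]⟩
  have hP : Nat.card (P : Subgroup G) = 2 ^ (Nat.card G).factorization 2 := P.card_eq_multiplicity
  have hsum : ∑ e : E, (wE e : ℂ) = (Nat.card {z : G // IsConj g z} : ℂ) *
      ∑ i, ∑ l, (c i : ℂ) * (c l : ℂ) *
        (Nat.card {p : G × G // IsConj (x i) p.1 ∧ IsConj (x l) p.2 ∧ p.1 * p.2 = g} : ℂ) := by
    rw [Fintype.sum_equiv (Equiv.subtypeProdEquivSigmaSubtype (fun (u : U × U) (p : G × G) =>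
      IsConj (x u.1) p.1 ∧ IsConj (x u.2) p.2 ∧ IsConj g (p.1 * p.2))) (fun e => (wE e : ℂ))
      (fun s => (c s.1.1 : ℂ) * (c s.1.2 : ℂ)) (fun e => rfl), Fintype.sum_sigma,
      Fintype.sum_prod_type, Finset.mul_sum]
    refine Finset.sum_congr rfl fun i _ => ?_
    rw [Finset.mul_sum]
    refine Finset.sum_congr rfl fun l _ => ?_
    dsimp only
    rw [Finset.sum_const, Finset.card_univ, nsmul_eq_mul, ← Nat.card_eq_fintype_card,
      count_eq_classes]
    ring
  rw [hcardg, hk, horb _ (fun p e => rfl), hP, Nat.cast_mul, mul_assoc] at hsum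
  have hpne : ((2 ^ (Nat.card G).factorization 2 : ℕ) : ℂ) ≠ 0 := Nat.cast_ne_zero.2 (by positivity)
  have hQI : MemLocalIdeal M (∑ q : Q, (wE q.out : ℂ)) := by
    rw [mul_left_cancel₀ hpne hsum]
    exact memLocalIdeal_mul_left (memLocalRing_natCast _) (hS g)
  have hred : red M (∑ q : Q, wE q.out) = 0 := by
    rw [red_eq_zero_iff]
    push_cast
    exact hQI
  -- the involution on orbits
  have hswap : ∀ e : E, IsConj g (e.1.2.2 * e.1.2.1) := fun e =>
    e.2.2.2.trans (isConj_iff.2 ⟨e.1.2.1⁻¹, by group⟩)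
  let sw : E → E := fun e => ⟨((e.1.1.2, e.1.1.1), (e.1.2.2, e.1.2.1)), e.2.2.1, e.2.1, hswap e⟩
  have hsw : ∀ (p : (P : Subgroup G)) (e : E), sw (p • e) = p • sw e := fun p e => rfl
  let σ : Q → Q := Quotient.map sw fun e e' ⟨p, hp⟩ => ⟨p, by rw [← hp]; exact (hsw p e').symm⟩
  have hσσ : ∀ q, σ (σ q) = q := fun q => Quotient.inductionOn q fun e => rfl
  let diag : E → Prop := fun e => e.1.1.1 = e.1.1.2 ∧ e.1.2.1 = e.1.2.2
  have hdiag_smul : ∀ (p : (P : Subgroup G)) (e : E), diag (p • e) ↔ diag e := fun p e => by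
    simp only [diag, hsmul, mul_left_inj, mul_right_inj]
  have hfix : ∀ q : Q, σ q = q ↔ diag q.out := by
    intro q
    constructor
    · intro h
      rw [← Quotient.out_eq q] at h
      obtain ⟨p, hp⟩ := Quotient.exact h
      have hp' := congrArg Subtype.val hp
      rw [hsmul] at hp'
      simp only [sw, Prod.ext_iff] at hp'
      obtain ⟨⟨hi, -⟩, h1, h2⟩ := hp'
      have hp1 : (p : G) = 1 := eq_one_of_swap ((hx _).isConj q.out.2.1)
        ((hx j).inv.isConj q.out.2.2.2) (hpow p) h1 h2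
      rw [hp1] at h1
      exact ⟨hi, by simpa using h1⟩
    · intro h
      conv_lhs => rw [← Quotient.out_eq q]
      conv_rhs => rw [← Quotient.out_eq q]
      exact congrArg (Quotient.mk _) (Subtype.ext (Prod.ext (Prod.ext h.1.symm h.1)
        (Prod.ext h.2.symm h.2)))
  have hdiag_val : ∀ e : E, diag e → e.1.1.1 = j := by
    intro e he
    refine hinj _ _ ?_
    have h3 : e.1.2.1 * e.1.2.1 = e.1.2.1⁻¹ := by
      have h := pow_orderOf_eq_one e.1.2.1
      rw [((hx _).isConj e.2.1).1, pow_three, ← mul_assoc] at h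
      exact eq_inv_of_mul_eq_one_left h
    have h4 := e.2.2.2
    rw [← he.2, h3] at h4
    obtain ⟨u, hu⟩ := isConj_iff.1 h4
    refine e.2.1.trans (IsConj.symm (isConj_iff.2 ⟨u, ?_⟩))
    rw [← inv_inj, conj_inv, ← hg]
    exact hu
  have hdiag_card : ∑ e : E, (if diag e then (1 : ℂ) else 0) =
      (Nat.card {y : G // IsConj (x j) y} : ℂ) := by
    rw [Finset.sum_boole, ← Fintype.card_subtype, ← Nat.card_eq_fintype_card]
    congr 1
    have hsq : ∀ y : G, IsConj (x j) y → IsConj g (y * y) := by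
      intro y hy
      have h := pow_orderOf_eq_one y
      rw [((hx j).isConj hy).1, pow_three, ← mul_assoc] at h
      rw [eq_inv_of_mul_eq_one_left h, hg]
      obtain ⟨u, hu⟩ := isConj_iff.1 hy
      exact isConj_iff.2 ⟨u, by rw [← conj_inv, hu]⟩
    exact Nat.card_congr
      { toFun := fun e => ⟨e.1.1.2.1, hdiag_val e.1 e.2 ▸ e.1.2.1⟩
        invFun := fun y => ⟨⟨((j, j), (y.1, y.1)), y.2, y.2, hsq y.1 y.2⟩, rfl, rfl⟩
        left_inv := by
          rintro ⟨⟨⟨⟨i, l⟩, a, b⟩, he⟩, h1, h2⟩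
          obtain rfl : i = l := h1
          obtain rfl : a = b := h2
          obtain rfl : i = j := hdiag_val ⟨((i, i), (a, a)), he⟩ ⟨rfl, rfl⟩
          rfl
        right_inv := fun y => rfl }
  rw [horb _ (fun p e => by simp only [hdiag_smul]), hk, hP, Nat.cast_mul] at hdiag_card
  have hnum := mul_left_cancel₀ hpne hdiag_card
  rw [Finset.sum_boole] at hnum
  have hnum' : (Finset.univ.filter fun q : Q => diag q.out).card = k := by exact_mod_cast hnum
  rw [map_sum, ← Finset.sum_filter_add_sum_filter_not Finset.univ (fun q : Q => diag q.out)] at hred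
  have hrest : ∑ q ∈ Finset.univ.filter (fun q : Q => ¬ diag q.out), red M (wE q.out) = 0 := by
    refine Finset.sum_involution (fun q _ => σ q) (fun q _ => ?_) (fun q hq _ => ?_)
      (fun q hq => ?_) (fun q _ => hσσ q)
    · obtain ⟨p, hp⟩ : ∃ p : (P : Subgroup G), p • sw q.out = (σ q).out := by
        have h : σ q = Quotient.mk _ (sw q.out) := by
          conv_lhs => rw [← Quotient.out_eq q]
          rfl
        exact Quotient.exact ((Quotient.out_eq (σ q)).trans h)
      rw [← hp]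
      show red M (c q.out.1.1.1 * c q.out.1.1.2) + red M (c q.out.1.1.2 * c q.out.1.1.1) = 0
      rw [mul_comm (c q.out.1.1.2)]
      exact CharTwo.add_self_eq_zero _
    · exact fun h => (Finset.mem_filter.1 hq).2 ((hfix q).1 h)
    · refine Finset.mem_filter.2 ⟨Finset.mem_univ _, fun h => (Finset.mem_filter.1 hq).2 ?_⟩
      have h' := (hfix (σ q)).2 h
      rw [hσσ] at h'
      exact (hfix q).1 h'.symm
  rw [hrest, add_zero, Finset.sum_congr rfl (g := fun _ => red M (c j) * red M (c j)) fun q hq => by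
    have hd := (Finset.mem_filter.1 hq).2
    show red M (c q.out.1.1.1 * c q.out.1.1.2) = _
    rw [← hd.1, hdiag_val _ hd, map_mul], Finset.sum_const, hnum', nsmul_eq_mul] at hred
  have hk1 : (k : ResField M) ≠ 0 := fun h => hkodd ((CharP.cast_eq_zero_iff _ 2 k).1 h)
  exact mul_self_eq_zero.1 ((mul_eq_zero.1 hred).resolve_left hk1)

/-- Let G be a finite group of order divisible by 6. Then the number of irreducible characters of G whose degree has the same 2-part as the order of G (the characters of 2-defect zero, each forming a 2-block of defect zero on its own) is at least the number of conjugacy classes of elements of order 3 that normalize no nontrivial 2-subgroup of G. In particular G has a 2-block of defect zero as soon as some element of order 3 normalizes no nontrivial 2-subgroup. -/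
theorem result {G : Type*} [Group G] [Finite G] (h6 : 6 ∣ Nat.card G) : Nat.card {C : ConjClasses G // ∃ g ∈ C.carrier, orderOf g = 3 ∧ ∀ Q : Subgroup G, IsPGroup 2 ↥Q → g ∈ Subgroup.normalizer (Q : Set G) → Q = ⊥} ≤ Nat.card {χ : Cfsg.IrrCharacter G // (Cfsg.charDegree (χ : G → ℂ)).factorization 2 = (Nat.card G).factorization 2} := by
  classical
  haveI := Fintype.ofFinite G
  haveI := Fintype.ofFinite (IrrCharacter G)
  obtain ⟨M, hM⟩ := exists_isPModular Nat.prime_two
  haveI := isPrime_of_isPModular hM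
  set T := {C : ConjClasses G // ∃ g ∈ C.carrier, orderOf g = 3 ∧ ∀ Q : Subgroup G, IsPGroup 2 ↥Q → g ∈ Subgroup.normalizer (Q : Set G) → Q = ⊥}
  set D := {χ : Cfsg.IrrCharacter G // (Cfsg.charDegree (χ : G → ℂ)).factorization 2 = (Nat.card G).factorization 2}
  haveI : Finite (ConjClasses G) := Finite.of_surjective ConjClasses.mk ConjClasses.mk_surjective
  haveI : Finite T := Subtype.finite
  haveI : Fintype T := Fintype.ofFinite _
  haveI : Fintype D := Fintype.ofFinite _
  choose x hxmem hx using fun i : T => (i.2 : ∃ g ∈ i.1.carrier, IsFree3 g)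
  have hinj : ∀ i l, IsConj (x i) (x l) → i = l := by
    intro i l h
    refine Subtype.ext ?_
    rw [← ConjClasses.mem_carrier_iff_mk_eq.1 (hxmem i), ← ConjClasses.mem_carrier_iff_mk_eq.1 (hxmem l)]
    exact ConjClasses.mk_eq_mk_iff_isConj.2 h
  let A : T → D → ResField M := fun i χ => red M
    ⟨(Nat.card {y : G // IsConj (x i) y} : ℂ) * (χ.1 : G → ℂ) (x i) / (χ.1 : G → ℂ) 1,
      memLocalRing_of_isIntegral' (IsIrrCharacter.isIntegral_centralChar χ.1.2 (x i))⟩
  have hA : LinearIndependent (ResField M) A := by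
    rw [Fintype.linearIndependent_iff]
    intro γ hγ j
    choose c hc using fun i => red_surjective (M := M) (γ i)
    rw [← hc j]
    refine coeff_diag M hM x hx hinj c (fun g => ?_) j
    refine coeff_memLocalIdeal M hM x hx (fun i => (c i : ℂ)) (fun i => (c i).2) (fun χ hχ => ?_) g
    have h := congrFun hγ ⟨χ, hχ⟩
    simp only [Finset.sum_apply, Pi.smul_apply, Pi.zero_apply, smul_eq_mul, A, ← hc, ← map_mul,
      ← map_sum, red_eq_zero_iff] at h
    push_cast at h
    exact h
  have := hA.fintype_card_le_finrank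
  rwa [Module.finrank_fintype_fun_eq_card, ← Nat.card_eq_fintype_card, ← Nat.card_eq_fintype_card] at this

end Cfsg.Agent.S4737
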