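import Cfsg.Statements.S4738
import Cfsg.Agent.Lib.CharMisc.InvolutionDefect
import Cfsg.Agent.Lib.Involutions.Basic

set_option autoImplicit false
open Cfsg

namespace Cfsg.Agent.S4738

open Cfsg.Agent.Lib.Characters Cfsg.Agent.Lib.CharMisc Cfsg.Agent.Lib.Involutions

/-- Let p be an odd prime and G a finite group of even order containing no element of order 2p. Then either G has an irreducible character of p-defect zero (its degree has the same p-part as the order of G), or every Sylow p-subgroup of G is abelian and all involutions of G are conjugate. -/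
theorem result {G : Type*} [Group G] [Finite G] (p : ℕ) [Fact p.Prime] (hp2 : p ≠ 2) (hG : Even (Nat.card G)) (h2p : ∀ g : G, orderOf g ≠ 2 * p) : (∃ χ : Cfsg.IrrCharacter G, (Cfsg.charDegree (χ : G → ℂ)).factorization p = (Nat.card G).factorization p) ∨ ((∀ P : Sylow p G, IsMulCommutative ↥(P : Subgroup G)) ∧ ∀ s t : G, orderOf s = 2 → orderOf t = 2 → IsConj s t) := by
  classical
  have hC : ∀ g : G, g ≠ 1 → (∃ k : ℕ, orderOf g = p ^ k) →
      Odd (Nat.card (Subgroup.centralizer ({g} : Set G))) := by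
    rintro g hg ⟨k, hk⟩
    rw [← Nat.not_even_iff_odd, even_iff_two_dvd]
    intro hd
    haveI : Fact (Nat.Prime 2) := ⟨Nat.prime_two⟩
    obtain ⟨⟨t, htC⟩, ht⟩ := exists_prime_orderOf_dvd_card' 2 hd
    rw [← Subgroup.orderOf_coe] at ht
    have hk0 : k ≠ 0 := fun h => hg (orderOf_eq_one_iff.1 (by rw [hk, h, pow_zero]))
    obtain ⟨j, rfl⟩ := Nat.exists_eq_succ_of_ne_zero hk0
    have hy : orderOf (g ^ p ^ j) = p := by
      rw [orderOf_pow, hk, Nat.gcd_eq_right (pow_dvd_pow p j.le_succ),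
        Nat.pow_div j.le_succ (Fact.out (p := p.Prime)).pos]
      simp
    have hcm : Commute t (g ^ p ^ j) :=
      Commute.pow_right (Subgroup.mem_centralizer_singleton_iff.1 htC) _
    refine h2p (t * g ^ p ^ j) ?_
    rw [hcm.orderOf_mul_eq_mul_orderOf_of_coprime, ht, hy]
    rw [ht, hy]
    exact (Nat.coprime_primes Nat.prime_two (Fact.out)).2 (Ne.symm hp2)
  refine or_iff_not_imp_left.2 fun hno => ?_
  have h1 := (defect_zero_or_normalizer_even (even_iff_two_dvd.1 hG) hC).resolve_left hno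
  refine ⟨fun P => (h1 P).2, ?_⟩
  have P₀ : Sylow p G := default
  have hpG : p ∣ Nat.card G := by
    by_contra h
    refine hno ⟨⟨fun _ => 1, isIrrCharacter_one⟩, ?_⟩
    rw [Nat.factorization_eq_zero_of_not_dvd h]
    simp [charDegree]
  obtain ⟨⟨z₀, hz₀⟩, hz₀o⟩ := exists_prime_orderOf_dvd_card' p (P₀.dvd_card_of_dvd_card hpG)
  rw [← Subgroup.orderOf_coe] at hz₀o
  have hfree : ∀ g : G, orderOf g = 2 → ¬ p ∣ Nat.card (Subgroup.centralizer ({g} : Set G)) := by
    intro g hg hd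
    obtain ⟨⟨y, hyC⟩, hy⟩ := exists_prime_orderOf_dvd_card' p hd
    rw [← Subgroup.orderOf_coe] at hy
    have hcm : Commute g y := (Subgroup.mem_centralizer_singleton_iff.1 hyC).symm
    refine h2p (g * y) ?_
    rw [hcm.orderOf_mul_eq_mul_orderOf_of_coprime, hg, hy]
    rw [hg, hy]
    exact (Nat.coprime_primes Nat.prime_two (Fact.out)).2 (Ne.symm hp2)
  have key : ∀ x : G, orderOf x = 2 → ∃ g : G, IsConj x g ∧ orderOf g = 2 ∧
      ∀ u ∈ (P₀ : Subgroup G), g * u * g⁻¹ = u⁻¹ := by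
    intro x hx
    have hx2 : x * x = 1 := by rw [← pow_two, ← hx, pow_orderOf_eq_one]
    have hinv : ∃ g : G, IsConj x g ∧ ∃ z ∈ (P₀ : Subgroup G), z ≠ 1 ∧ g * z * g⁻¹ = z⁻¹ := by
      by_contra hh
      push Not at hh
      obtain ⟨χ, hχ⟩ := exists_pow_dvd_degree (p := p) hx2 (P₀ : Subgroup G)
        P₀.card_eq_multiplicity hh
      obtain ⟨d, hd0, hd, hdG⟩ := IsIrrCharacter.exists_degree_dvd χ.2
      rw [Nat.factorization_eq_zero_of_not_dvd (hfree x hx), Nat.sub_zero,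
        charDegree, hd, Complex.natCast_re, Nat.floor_natCast] at hχ
      refine hno ⟨χ, ?_⟩
      rw [charDegree, hd, Complex.natCast_re, Nat.floor_natCast]
      exact le_antisymm ((Nat.factorization_le_iff_dvd hd0.ne' Nat.card_pos.ne').2 hdG p)
        ((Nat.Prime.pow_dvd_iff_le_factorization (Fact.out) hd0.ne').1 hχ)
    obtain ⟨g, hxg, z, hz, hz1, hgz⟩ := hinv
    have hgo : orderOf g = 2 := by
      obtain ⟨i, rfl⟩ := isConj_iff.1 hxg
      rw [← hx]; exact orderOf_injective (MulAut.conj i).toMonoidHom (MulAut.conj i).injective x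
    have hzp : ∃ k, orderOf z = p ^ k := by
      obtain ⟨k, hk⟩ := IsPGroup.iff_orderOf.1 P₀.isPGroup' ⟨z, hz⟩
      exact ⟨k, by rw [← hk, ← Subgroup.orderOf_coe]⟩
    obtain ⟨Q, hQ, -⟩ := exists_abelian_sylow_inverted (p := p)
      (by rw [← pow_two, ← hgo, pow_orderOf_eq_one]) hgz hzp (hC z hz1 hzp) (hfree g hgo)
    obtain ⟨w, hw⟩ := MulAction.exists_smul_eq G Q P₀
    refine ⟨w * g * w⁻¹, hxg.trans (isConj_iff.2 ⟨w, rfl⟩), ?_, fun u hu => ?_⟩
    · rw [← hgo]; exact orderOf_injective (MulAut.conj w).toMonoidHom (MulAut.conj w).injective g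
    · have hm : w⁻¹ * u * w ∈ (Q : Subgroup G) := by
        rw [← hw, Sylow.coe_subgroup_smul, Subgroup.mem_pointwise_smul_iff_inv_smul_mem] at hu
        simpa using hu
      rw [show w * g * w⁻¹ * u * (w * g * w⁻¹)⁻¹ = w * (g * (w⁻¹ * u * w) * g⁻¹) * w⁻¹ by group,
        hQ _ hm]
      group
  intro s t hs ht
  obtain ⟨g, hsg, hg, hgP⟩ := key s hs
  obtain ⟨h, hth, hh, hhP⟩ := key t ht
  refine hsg.trans ((isConj_of_odd hg hh ?_).trans hth.symm)
  have hmem : g * h ∈ Subgroup.centralizer ({z₀} : Set G) := by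
    refine Subgroup.mem_centralizer_singleton_iff.2 ?_
    have e1 : g * (h * z₀ * h⁻¹) * g⁻¹ = z₀ := by
      rw [hhP z₀ hz₀, hgP _ (inv_mem hz₀), inv_inv]
    calc g * h * z₀ = g * (h * z₀ * h⁻¹) * g⁻¹ * (g * h) := by group
      _ = z₀ * (g * h) := by rw [e1]
  exact (hC z₀ (fun h => (Fact.out (p := p.Prime)).ne_one (hz₀o.symm.trans (orderOf_eq_one_iff.2 h)))
    ⟨1, by rw [pow_one, hz₀o]⟩).of_dvd_nat (Subgroup.orderOf_dvd_natCard _ hmem)

end Cfsg.Agent.S4738
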