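import Cfsg.Statements.S4742
import Cfsg.Agent.Lib.CharMisc.QuotientDefect
-- import your own Cfsg.Agent.* helpers here

set_option autoImplicit false
open Cfsg

namespace Cfsg.Agent.S4742

/-- Let p ≠ q be primes dividing the order of the finite group G, and suppose the centralizer of every non-identity p-element of G has order prime to q. Then either G has an irreducible character of p-defect zero, or for every non-identity q-element z of G there are conjugates g, h of z such that g h⁻¹ is a non-identity p-element. -/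
theorem result {G : Type*} [Group G] [Finite G] (p q : ℕ) [Fact p.Prime] [Fact q.Prime] (hppq : p ≠ q) (hpG : p ∣ Nat.card G) (hqG : q ∣ Nat.card G) (hC : ∀ g : G, g ≠ 1 → (∃ k : ℕ, orderOf g = p ^ k) → ¬ q ∣ Nat.card ↥(Subgroup.centralizer ({g} : Set G))) : (∃ χ : Cfsg.IrrCharacter G, (Cfsg.charDegree (χ : G → ℂ)).factorization p = (Nat.card G).factorization p) ∨ ∀ z : G, z ≠ 1 → (∃ k : ℕ, orderOf z = q ^ k) → ∃ g h : G, IsConj z g ∧ IsConj z h ∧ g * h⁻¹ ≠ 1 ∧ ∃ k : ℕ, orderOf (g * h⁻¹) = p ^ k := by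
  classical
  have P : Sylow p G := default
  rcases _root_.em (∃ χ : Cfsg.IrrCharacter G,
    (Cfsg.charDegree (χ : G → ℂ)).factorization p = (Nat.card G).factorization p) with h | hd0
  · exact Or.inl h
  refine Or.inr fun z hz ⟨k, hk⟩ => ?_
  by_contra hne
  push Not at hne
  apply hd0
  have hfree : ¬ p ∣ Nat.card (Subgroup.centralizer ({z} : Set G)) := by
    intro hdvd
    obtain ⟨⟨y, hyC⟩, hy⟩ := exists_prime_orderOf_dvd_card' p hdvd
    have hy' : orderOf y = p := by rw [← hy, ← Subgroup.orderOf_coe]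
    have hzC : z ∈ Subgroup.centralizer ({y} : Set G) := by
      rw [Subgroup.mem_centralizer_singleton_iff] at hyC ⊢
      exact hyC.symm
    refine hC y (fun h1 => (Fact.out : p.Prime).ne_one (by rw [← hy', h1, orderOf_one]))
      ⟨1, by rw [pow_one, hy']⟩ (dvd_trans ?_ (Subgroup.orderOf_dvd_natCard _ hzC))
    rw [hk]
    refine dvd_pow_self q fun h0 => hz ?_
    rw [h0, pow_zero, orderOf_eq_one_iff] at hk
    exact hk
  obtain ⟨χ, hχ⟩ := Cfsg.Agent.Lib.CharMisc.exists_pow_dvd_degree_quot (p := p) (x := z)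
    (P : Subgroup G) P.card_eq_multiplicity (by
      intro g h hg hh hmem
      by_contra h1
      obtain ⟨m, hm⟩ := P.isPGroup' ⟨_, hmem⟩
      obtain ⟨i, -, hi⟩ := (Nat.dvd_prime_pow (Fact.out : p.Prime)).1 (orderOf_dvd_of_pow_eq_one hm)
      exact hne g h hg hh h1 i (by rw [← hi, ← Subgroup.orderOf_coe]))
  obtain ⟨d, hd1, hd, hdG⟩ := Cfsg.Agent.Lib.Characters.IsIrrCharacter.exists_degree_dvd χ.2
  have hdeg : Cfsg.charDegree (χ : G → ℂ) = d := by
    rw [Cfsg.charDegree, hd, Complex.natCast_re, Nat.floor_natCast]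
  rw [Nat.factorization_eq_zero_of_not_dvd hfree, Nat.sub_zero, hdeg] at hχ
  exact ⟨χ, le_antisymm (hdeg ▸ (Nat.factorization_le_iff_dvd hd1.ne' Nat.card_pos.ne').2 hdG p)
    (hdeg ▸ (Nat.Prime.pow_dvd_iff_le_factorization (Fact.out : p.Prime) hd1.ne').1 hχ)⟩

end Cfsg.Agent.S4742
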