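import Cfsg.Statements.S4743
import Mathlib
import Cfsg.Agent.S4742
import Cfsg.Agent.Lib.Coprime.SylowNormalizes
import Cfsg.Agent.Lib.BlockHeights.PConstrainedCores
import Cfsg.Agent.Lib.Characters
-- import your own Cfsg.Agent.* helpers here

set_option autoImplicit false
open Cfsg

namespace Cfsg.Agent.S4743

open Cfsg.Agent.Lib

/-- A normal subgroup containing `q`-elements but no `p`-element forces a `p`-defect zero character. -/
theorem of_normal {G : Type*} [Group G] [Finite G] (p q : ℕ) [Fact p.Prime] [Fact q.Prime] (hpq : p ≠ q)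
    (hpG : p ∣ Nat.card G) (hqG : q ∣ Nat.card G)
    (hC : ∀ g : G, g ≠ 1 → (∃ k : ℕ, orderOf g = p ^ k) → ¬ q ∣ Nat.card ↥(Subgroup.centralizer ({g} : Set G)))
    (N : Subgroup G) [hN : N.Normal] (hpN : ¬ p ∣ Nat.card N) (hqN : q ∣ Nat.card N) :
    ∃ χ : Cfsg.IrrCharacter G,
      (Cfsg.charDegree (χ : G → ℂ)).factorization p = (Nat.card G).factorization p := by
  refine (S4742.result p q hpq hpG hqG hC).resolve_right fun h => ?_
  obtain ⟨⟨z, hzN⟩, hz⟩ := exists_prime_orderOf_dvd_card' q hqN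
  rw [Subgroup.orderOf_mk] at hz
  have hz1 : z ≠ 1 := fun e => (Fact.out : q.Prime).ne_one (by rw [← hz, e, orderOf_one])
  obtain ⟨a, b, ha, hb, hne, k, hk⟩ := h z hz1 ⟨1, by rw [pow_one, hz]⟩
  obtain ⟨c, rfl⟩ := isConj_iff.1 ha
  obtain ⟨d, rfl⟩ := isConj_iff.1 hb
  have hmem := mul_mem (hN.conj_mem z hzN c) (inv_mem (hN.conj_mem z hzN d))
  refine hne (orderOf_eq_one_iff.1 ?_)
  have hd := Subgroup.orderOf_dvd_natCard N hmem
  rw [hk] at hd ⊢
  rcases Nat.eq_zero_or_pos k with h0 | h0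
  · rw [h0, pow_zero]
  · exact absurd ((dvd_pow_self p h0.ne').trans hd) hpN

theorem centralizer_symm {G : Type*} [Group G] [Finite G] (p q : ℕ) [Fact p.Prime] [Fact q.Prime]
    (hC : ∀ g : G, g ≠ 1 → (∃ k : ℕ, orderOf g = p ^ k) → ¬ q ∣ Nat.card ↥(Subgroup.centralizer ({g} : Set G))) :
    ∀ g : G, g ≠ 1 → (∃ k : ℕ, orderOf g = q ^ k) → ¬ p ∣ Nat.card ↥(Subgroup.centralizer ({g} : Set G)) := by
  rintro g hg ⟨k, hk⟩ hdvd
  obtain ⟨⟨y, hyC⟩, hy⟩ := exists_prime_orderOf_dvd_card' p hdvd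
  rw [Subgroup.orderOf_mk] at hy
  refine hC y (fun e => (Fact.out : p.Prime).ne_one (by rw [← hy, e, orderOf_one]))
    ⟨1, by rw [pow_one, hy]⟩ (dvd_trans ?_ (Subgroup.orderOf_dvd_natCard _ (x := g) ?_))
  · rw [hk]
    refine dvd_pow_self q fun h0 => hg ?_
    rw [h0, pow_zero, orderOf_eq_one_iff] at hk
    exact hk
  · rw [Subgroup.mem_centralizer_singleton_iff] at hyC ⊢
    exact hyC.symm

theorem no_pq {G : Type*} [Group G] [Finite G] (p q : ℕ) [Fact p.Prime] [Fact q.Prime] (hpq : p ≠ q)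
    (hC : ∀ g : G, g ≠ 1 → (∃ k : ℕ, orderOf g = p ^ k) → ¬ q ∣ Nat.card ↥(Subgroup.centralizer ({g} : Set G)))
    (y : G) : ¬ p * q ∣ orderOf y := by
  intro hd
  set n := orderOf y
  have hn : n ≠ 0 := (orderOf_pos y).ne'
  have hp : p ∣ n := (dvd_mul_right p q).trans hd
  have hq : q ∣ n := (dvd_mul_left q p).trans hd
  have hop : orderOf (y ^ (n / p)) = p := orderOf_pow_orderOf_div hn hp
  have hoq : orderOf (y ^ (n / q)) = q := orderOf_pow_orderOf_div hn hq
  refine hC (y ^ (n / p)) (fun e => (Fact.out : p.Prime).ne_one (by rw [← hop, e, orderOf_one]))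
    ⟨1, by rw [pow_one, hop]⟩ ?_
  rw [← hoq]
  exact Subgroup.orderOf_dvd_natCard _
    (Subgroup.mem_centralizer_singleton_iff.2 (Commute.pow_pow_self y _ _).eq)

theorem centralizer_quot {G : Type*} [Group G] [Finite G] (p q : ℕ) [Fact p.Prime] [Fact q.Prime] (hpq : p ≠ q)
    (hC : ∀ g : G, g ≠ 1 → (∃ k : ℕ, orderOf g = p ^ k) → ¬ q ∣ Nat.card ↥(Subgroup.centralizer ({g} : Set G)))
    (N : Subgroup G) [N.Normal] :
    ∀ g : G ⧸ N, g ≠ 1 → (∃ k : ℕ, orderOf g = p ^ k) →
      ¬ q ∣ Nat.card ↥(Subgroup.centralizer ({g} : Set (G ⧸ N))) := by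
  rintro g hg ⟨k, hk⟩ hdvd
  obtain ⟨⟨h, hhC⟩, hh⟩ := exists_prime_orderOf_dvd_card' q hdvd
  rw [Subgroup.orderOf_mk] at hh
  have hcomm : Commute g h := ((Subgroup.mem_centralizer_singleton_iff.1 hhC).symm : g * h = h * g)
  have hcop : Nat.Coprime (orderOf g) (orderOf h) := by
    rw [hk, hh]
    exact Nat.Coprime.pow_left _ ((Nat.coprime_primes Fact.out Fact.out).2 hpq)
  obtain ⟨y, hy⟩ := QuotientGroup.mk'_surjective N (g * h)
  refine no_pq p q hpq hC y (dvd_trans ?_ (orderOf_map_dvd (QuotientGroup.mk' N) y))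
  rw [hy, hcomm.orderOf_mul_eq_mul_orderOf_of_coprime hcop, hk, hh]
  refine Nat.mul_dvd_mul_right (dvd_pow_self p fun h0 => hg ?_) q
  rw [h0, pow_zero, orderOf_eq_one_iff] at hk
  exact hk

theorem lift_char {G : Type*} [Group G] [Finite G] (N : Subgroup G) [N.Normal] (r : ℕ) [hr : Fact r.Prime]
    (hrN : ¬ r ∣ Nat.card N)
    (h : ∃ χ : Cfsg.IrrCharacter (G ⧸ N),
      (Cfsg.charDegree (χ : G ⧸ N → ℂ)).factorization r = (Nat.card (G ⧸ N)).factorization r) :
    ∃ χ : Cfsg.IrrCharacter G,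
      (Cfsg.charDegree (χ : G → ℂ)).factorization r = (Nat.card G).factorization r := by
  obtain ⟨χ, hχ⟩ := h
  refine ⟨⟨_, Characters.IsIrrCharacter.comp_surjective χ.2 (QuotientGroup.mk' N)
    (QuotientGroup.mk'_surjective N)⟩, ?_⟩
  have hdeg : ∀ f : G ⧸ N → ℂ, Cfsg.charDegree (f ∘ (QuotientGroup.mk' N)) = Cfsg.charDegree f := by
    intro f; simp [Cfsg.charDegree]
  refine Eq.trans ?_ (hχ.trans ?_)
  · exact congrArg (fun n => Nat.factorization n r) (hdeg _)
  · rw [Subgroup.card_eq_card_quotient_mul_card_subgroup N,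
      Nat.factorization_mul Nat.card_pos.ne' Nat.card_pos.ne', Finsupp.add_apply,
      Nat.factorization_eq_zero_of_not_dvd hrN, add_zero]

theorem main : ∀ (n : ℕ) (G : Type*) [Group G] [Finite G], Nat.card G = n →
    ∀ (p q : ℕ) [Fact p.Prime] [Fact q.Prime], p ≠ q → p ∣ Nat.card G → q ∣ Nat.card G →
    (∀ g : G, g ≠ 1 → (∃ k : ℕ, orderOf g = p ^ k) → ¬ q ∣ Nat.card ↥(Subgroup.centralizer ({g} : Set G))) →
    Cfsg.IsPSolvable p G →
    (∃ χ : Cfsg.IrrCharacter G, (Cfsg.charDegree (χ : G → ℂ)).factorization p = (Nat.card G).factorization p) ∨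
    (∃ χ : Cfsg.IrrCharacter G, (Cfsg.charDegree (χ : G → ℂ)).factorization q = (Nat.card G).factorization q) := by
  intro n
  induction n using Nat.strong_induction_on with
  | _ n ih =>
    intro G _ _ hn p q _ _ hpq hpG hqG hC hsol
    haveI : Nontrivial G := Finite.one_lt_card_iff_nontrivial.1
      ((Fact.out : p.Prime).one_lt.trans_le (Nat.le_of_dvd Nat.card_pos hpG))
    obtain ⟨N, hNn, hNb, hN⟩ := Coprime.SylowNormalizes.exists_normal_chain_factor hsol
    haveI := hNn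
    have hN1 : 1 < Nat.card N := (Subgroup.one_lt_card_iff_ne_bot N).2 hNb
    by_cases hpN : p ∣ Nat.card N
    · obtain ⟨m, hm⟩ := hN.resolve_right fun hc => (Fact.out : p.Prime).ne_one
        (Nat.eq_one_of_dvd_coprimes hc hpN dvd_rfl)
      refine Or.inr (of_normal q p (Ne.symm hpq) hqG hpG (centralizer_symm p q hC) N ?_ hpN)
      rw [hm]
      exact fun hd => hpq ((Nat.prime_dvd_prime_iff_eq Fact.out Fact.out).1
        ((Fact.out : q.Prime).dvd_of_dvd_pow hd)).symm
    by_cases hqN : q ∣ Nat.card N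
    · exact Or.inl (of_normal p q hpq hpG hqG hC N hpN hqN)
    have hc : Nat.card G = Nat.card (G ⧸ N) * Nat.card N :=
      Subgroup.card_eq_card_quotient_mul_card_subgroup N
    have hlt : Nat.card (G ⧸ N) < n := by
      rw [← hn, hc]
      exact lt_mul_of_one_lt_right Nat.card_pos hN1
    rcases ih _ hlt (G ⧸ N) rfl p q hpq
      (((Fact.out : p.Prime).dvd_mul.1 (hc ▸ hpG)).resolve_right hpN)
      (((Fact.out : q.Prime).dvd_mul.1 (hc ▸ hqG)).resolve_right hqN)
      (centralizer_quot p q hpq hC N) (BlockHeights.isPSolvable_quot N hsol) with h | h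
    · exact Or.inl (lift_char N p hpN h)
    · exact Or.inr (lift_char N q hqN h)


/-- Let p ≠ q be primes dividing the order of the finite group G, suppose the centralizer of every non-identity p-element has order prime to q, and suppose G is p-solvable or q-solvable. Then G has an irreducible character of p-defect zero or an irreducible character of q-defect zero. -/
theorem result {G : Type*} [Group G] [Finite G] (p q : ℕ) [Fact p.Prime] [Fact q.Prime] (hppq : p ≠ q) (hpG : p ∣ Nat.card G) (hqG : q ∣ Nat.card G) (hC : ∀ g : G, g ≠ 1 → (∃ k : ℕ, orderOf g = p ^ k) → ¬ q ∣ Nat.card ↥(Subgroup.centralizer ({g} : Set G))) (hsolv : Cfsg.IsPSolvable p G ∨ Cfsg.IsPSolvable q G) : (∃ χ : Cfsg.IrrCharacter G, (Cfsg.charDegree (χ : G → ℂ)).factorization p = (Nat.card G).factorization p) ∨ (∃ χ : Cfsg.IrrCharacter G, (Cfsg.charDegree (χ : G → ℂ)).factorization q = (Nat.card G).factorization q) := by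
  rcases hsolv with h | h
  · exact main _ G rfl p q hppq hpG hqG hC h
  · exact (main _ G rfl q p (Ne.symm hppq) hqG hpG (centralizer_symm p q hC) h).symm

end Cfsg.Agent.S4743
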