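import Cfsg.Statements.S4746
import Cfsg.Agent.Lib.CharMisc.InvolutionDefect
import Cfsg.Agent.Lib.Characters.Ortho
import Cfsg.Agent.Lib.Blocks.Central
import Cfsg.Agent.Lib.Blocks.Defect
import Cfsg.Agent.Lib.Characters.PPrimeDegree
-- import your own Cfsg.Agent.* helpers here

set_option autoImplicit false
open Cfsg Cfsg.Agent.Lib
open scoped ComplexConjugate

namespace Cfsg.Agent.S4746

/-- Let p be an odd prime and G a finite group of even order divisible by p in which the centralizer of every non-identity p-element has odd order. Then G has an irreducible character of p-defect zero or an irreducible character of even degree. -/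
theorem result {G : Type*} [Group G] [Finite G] (p : ℕ) [Fact p.Prime] (hp2 : p ≠ 2) (hpG : p ∣ Nat.card G) (h2G : 2 ∣ Nat.card G) (hC : ∀ g : G, g ≠ 1 → (∃ k : ℕ, orderOf g = p ^ k) → Odd (Nat.card ↥(Subgroup.centralizer ({g} : Set G)))) : (∃ χ : Cfsg.IrrCharacter G, (Cfsg.charDegree (χ : G → ℂ)).factorization p = (Nat.card G).factorization p) ∨ ∃ χ : Cfsg.IrrCharacter G, Even (Cfsg.charDegree (χ : G → ℂ)) := by
  classical
  haveI := Fintype.ofFinite G
  haveI := Fintype.ofFinite (IrrCharacter G)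
  by_cases heven : ∃ χ : IrrCharacter G, Even (charDegree (χ : G → ℂ))
  · exact Or.inr heven
  left
  push Not at heven
  have hlem : ∀ (s : Finset (IrrCharacter G)) (a : IrrCharacter G → ℂ),
      (∀ i, IsIntegral ℤ (a i)) →
      ∃ w : ℂ, IsIntegral ℤ w ∧ ∑ i ∈ s, a i * a i = (∑ i ∈ s, a i) * (∑ i ∈ s, a i) + 2 * w := by
    intro s a ha
    induction s using Finset.induction with
    | empty => exact ⟨0, isIntegral_zero, by simp⟩
    | @insert j s hj ih =>
      obtain ⟨w, hw, hsum⟩ := ih
      refine ⟨w - a j * ∑ i ∈ s, a i, hw.sub ((ha j).mul (IsIntegral.sum _ fun i _ => ha i)), ?_⟩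
      rw [Finset.sum_insert hj, Finset.sum_insert hj, hsum]
      ring
  have hreal : ∀ z : G, z ≠ 1 → Odd (Nat.card (Subgroup.centralizer ({z} : Set G))) →
      ¬ IsConj z z⁻¹ := by
    intro z hz hodd hconj
    have h1 := Characters.sum_irr_mul_conj z z
    rw [if_pos (IsConj.refl z)] at h1
    have h2 := Characters.sum_degree_mul (G := G) z
    rw [if_neg hz] at h2
    have hval : ∀ χ : IrrCharacter G, conj ((χ : G → ℂ) z) = (χ : G → ℂ) z := fun χ => by
      rw [← Characters.IsCharacter.apply_inv (Characters.irr_isCharacter χ)]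
      exact (Characters.IsClassFunction.eq_of_isConj (Characters.irr_isClassFunction χ) hconj).symm
    simp only [hval] at h1
    have hodd' : ∀ χ : IrrCharacter G, ∃ m : ℕ, charDegree (χ : G → ℂ) = 2 * m + 1 := fun χ =>
      Nat.not_even_iff_odd.1 (heven χ)
    choose m hm using hodd'
    set T := ∑ χ : IrrCharacter G, (m χ : ℂ) * (χ : G → ℂ) z with hT
    have h3 : ∑ χ : IrrCharacter G, (χ : G → ℂ) z = -(2 * T) := by
      rw [eq_neg_iff_add_eq_zero, hT, Finset.mul_sum, ← Finset.sum_add_distrib]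
      refine (Finset.sum_congr rfl fun χ _ => ?_).trans h2
      rw [← Blocks.charDegree_eq χ, hm χ]
      push_cast
      ring
    obtain ⟨w, hw, hsq⟩ := hlem Finset.univ (fun χ => (χ : G → ℂ) z) (fun χ => Blocks.isIntegral_char χ z)
    rw [h3, h1] at hsq
    have h4 : (Nat.card (Subgroup.centralizer ({z} : Set G)) : ℂ) / 2 = 2 * (T * T) + w := by
      rw [hsq]; ring
    have hTi : IsIntegral ℤ T :=
      IsIntegral.sum _ fun χ _ => (Characters.isIntegral_natCast_complex (m χ)).mul (Blocks.isIntegral_char χ z)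
    have h5 := Characters.dvd_of_isIntegral_div (a := Nat.card (Subgroup.centralizer ({z} : Set G)))
      (b := 2) two_ne_zero (by
        rw [Nat.cast_ofNat, h4]
        exact ((Characters.isIntegral_natCast_complex 2).mul (hTi.mul hTi)).add hw)
    exact Nat.not_even_iff_odd.2 hodd (even_iff_two_dvd.2 h5)
  obtain ⟨x, hx⟩ := exists_prime_orderOf_dvd_card' 2 h2G
  have hx2 : x * x = 1 := by rw [← sq, ← hx, pow_orderOf_eq_one]
  obtain ⟨P⟩ : Nonempty (Sylow p G) := inferInstance
  obtain ⟨χ, hχ⟩ := CharMisc.exists_pow_dvd_degree hx2 (P : Subgroup G) P.card_eq_multiplicity (by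
    intro g _ z hz hz1 hgz
    obtain ⟨k, hk⟩ := P.isPGroup' ⟨z, hz⟩
    have hk' : z ^ p ^ k = 1 := by simpa using congrArg Subtype.val hk
    obtain ⟨i, -, hi⟩ := (Nat.dvd_prime_pow (Fact.out : p.Prime)).1 (orderOf_dvd_of_pow_eq_one hk')
    exact hreal z hz1 (hC z hz1 ⟨i, hi⟩) (isConj_iff.2 ⟨g, hgz⟩))
  refine ⟨χ, le_antisymm ?_ ?_⟩
  · exact (Nat.factorization_le_iff_dvd (Blocks.charDegree_pos χ).ne' Nat.card_pos.ne').2
      (Blocks.charDegree_dvd_card χ) p
  · have hax : (Nat.card (Subgroup.centralizer ({x} : Set G))).factorization p = 0 := by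
      refine Nat.factorization_eq_zero_of_not_dvd fun hd => ?_
      obtain ⟨⟨y, hy⟩, hyo⟩ := exists_prime_orderOf_dvd_card' p hd
      rw [← Subgroup.orderOf_coe] at hyo
      have hy1 : y ≠ 1 := fun h => by
        subst h
        rw [orderOf_one] at hyo
        exact (Fact.out : p.Prime).ne_one hyo.symm
      have h6 := hC y hy1 ⟨1, by rw [pow_one]; exact hyo⟩
      have h7 : x ∈ Subgroup.centralizer ({y} : Set G) :=
        Subgroup.mem_centralizer_singleton_iff.2 (Subgroup.mem_centralizer_singleton_iff.1 hy).symm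
      have h8 := orderOf_dvd_natCard (⟨x, h7⟩ : Subgroup.centralizer ({y} : Set G))
      rw [← Subgroup.orderOf_coe, hx] at h8
      exact Nat.not_even_iff_odd.2 h6 (even_iff_two_dvd.2 h8)
    rw [hax, Nat.sub_zero] at hχ
    exact ((Fact.out : p.Prime).pow_dvd_iff_le_factorization (Blocks.charDegree_pos χ).ne').1 hχ

end Cfsg.Agent.S4746
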