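import Cfsg.Statements.S4748
import Cfsg.Agent.Lib.Characters.PSolvableTI
import Cfsg.Agent.Lib.Characters.BlichfeldtReduce
-- import your own Cfsg.Agent.* helpers here

set_option autoImplicit false
open scoped Pointwise
open Cfsg

namespace Cfsg.Agent.S4748

/-- Let G be a finite p-solvable group whose Sylow p-subgroup P meets each conjugate g P g⁻¹ with g outside N_G(P) trivially, and let χ be a faithful character of G (χ g = χ 1 only for g = 1) whose degree d satisfies d² ≤ |P|. Then P is normal in G. -/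
theorem result {G : Type*} [Group G] [Finite G] (p : ℕ) [Fact p.Prime] (hsolv : Cfsg.IsPSolvable p G) (P : Sylow p G) (hTI : ∀ g : G, g ∉ Subgroup.normalizer ((P : Subgroup G) : Set G) → (P : Subgroup G) ⊓ (MulAut.conj g • (P : Subgroup G)) = ⊥) (χ : G → ℂ) (hχ : Cfsg.IsCharacter G χ) (hfaith : ∀ g : G, χ g = χ 1 → g = 1) (hdeg : Cfsg.charDegree χ ^ 2 ≤ Nat.card ↥(P : Subgroup G)) : (P : Subgroup G).Normal := by
  classical
  have hnorm_of_all : (∀ g : G, g ∈ Subgroup.normalizer ((P : Subgroup G) : Set G)) →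
      (P : Subgroup G).Normal := fun h =>
    Subgroup.normalizer_eq_top_iff.mp (eq_top_iff.mpr fun g _ => h g)
  by_cases hcore : Cfsg.pCore p G = ⊥
  swap
  · refine hnorm_of_all fun g => ?_
    by_contra hg
    apply hcore
    rw [eq_bot_iff, ← hTI g hg]
    refine le_inf (Cfsg.Agent.Lib.Cores.pCore_le_sylow P) ?_
    exact Cfsg.Agent.Lib.Cores.pCore_le_sylow (g • P)
  have hp : p.Prime := Fact.out
  obtain ⟨n, ρ, rfl⟩ := hχ
  have hn : Cfsg.charDegree ρ.character = n := by
    rw [Cfsg.charDegree, ρ.char_one, Module.finrank_fin_fun, Complex.natCast_re, Nat.floor_natCast]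
  rw [hn] at hdeg
  set K := Cfsg.pPrimeCore p G with hKdef
  haveI : K.Normal := by rw [hKdef]; infer_instance
  have hKp : (Nat.card K).Coprime p := Cfsg.Agent.Lib.Cores.pPrimeCore_coprime p G
  set G1 : Subgroup G := (P : Subgroup G) ⊔ K with hG1
  set P1 := (P : Subgroup G).subgroupOf G1 with hP1
  set K1 := K.subgroupOf G1 with hK1
  have hP1card : Nat.card P1 = Nat.card (P : Subgroup G) :=
    Nat.card_congr (Subgroup.subgroupOfEquivOfLe le_sup_left).toEquiv
  have hP1p : IsPGroup p P1 := P.2.comap_subtype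
  have hK1p : (Nat.card K1).Coprime p := by
    rw [Nat.card_congr (Subgroup.subgroupOfEquivOfLe le_sup_right).toEquiv]; exact hKp
  have hK1n : K1.Normal := Subgroup.Normal.subgroupOf ‹K.Normal› G1
  have hgen : ∀ g : G1, ∃ y ∈ P1, ∃ k ∈ K1, g = y * k := by
    intro g
    obtain ⟨y, hy, k, hk, hyk⟩ := Subgroup.mem_sup_of_normal_right.mp g.2
    exact ⟨⟨y, Subgroup.mem_sup_left hy⟩, hy, ⟨k, Subgroup.mem_sup_right hk⟩, hk,
      Subtype.ext hyk.symm⟩
  have hPK : ∀ x : G, x ∈ (P : Subgroup G) → x ∈ K → x = 1 := by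
    intro x hx hxK
    obtain ⟨j, hj⟩ := IsPGroup.iff_orderOf.mp P.2 ⟨x, hx⟩
    rw [← Subgroup.orderOf_coe] at hj
    exact orderOf_eq_one_iff.mp (Nat.eq_one_of_dvd_coprimes (Nat.Coprime.pow_right j hKp)
      (Subgroup.orderOf_dvd_natCard K hxK) (dvd_of_eq (by exact hj)))
  have hC : ∀ y ∈ P1, y ≠ 1 → ∀ k ∈ K1, k * y = y * k → ∀ z ∈ P1, k * z = z * k := by
    intro y hy hy1 k hk hky z hz
    have hkN : (k : G) ∈ Subgroup.normalizer ((P : Subgroup G) : Set G) := by
      by_contra hkN
      refine hy1 (Subtype.ext ((Subgroup.eq_bot_iff_forall _).mp (hTI _ hkN) _ ⟨hy, ?_⟩))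
      refine Subgroup.mem_pointwise_smul_iff_inv_smul_mem.mpr ?_
      have : ((k : G))⁻¹ * (y : G) * (k : G) = y := by
        rw [mul_assoc, ← show (k : G) * y = y * k from congrArg Subtype.val hky, inv_mul_cancel_left]
      show (MulAut.conj (k : G))⁻¹ • (y : G) ∈ (P : Subgroup G)
      simpa [MulAut.smul_def, this] using (show (y : G) ∈ (P : Subgroup G) from hy)
    refine Subtype.ext ?_
    have h1 : (k : G) * z * (k : G)⁻¹ * (z : G)⁻¹ = 1 := by
      refine hPK _ ((P : Subgroup G).mul_mem ((Subgroup.mem_normalizer_iff.mp hkN z).mp hz)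
        ((P : Subgroup G).inv_mem hz)) ?_
      have := K.mul_mem hk (Subgroup.Normal.conj_mem ‹K.Normal› _ (K.inv_mem hk) (z : G))
      simpa [mul_assoc] using this
    show (k : G) * z = z * k
    exact mul_inv_eq_iff_eq_mul.mp (mul_inv_eq_one.mp h1)
  have hZ : ∀ z : G, z ∈ (P : Subgroup G) → (∀ y ∈ (P : Subgroup G), y * z = z * y) → z = 1 := by
    intro z hz hzc
    refine hPK z hz (Cfsg.Agent.Lib.Characters.centralizer_pPrimeCore_le_of_pCore_eq_bot p hsolv
      hcore (Subgroup.mem_centralizer_iff.mpr fun k hk => ?_))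
    let σ : Representation ℂ G1 (Fin n → ℂ) := ρ.comp G1.subtype
    have hρinj : Function.Injective σ := by
      intro a b hab
      have h1 : ρ ((a : G) * (b : G)⁻¹) = 1 := by
        rw [map_mul, show ρ (a : G) = ρ (b : G) from hab, ← map_mul, mul_inv_cancel, map_one]
      have h2 := hfaith ((a : G) * (b : G)⁻¹) (by
        simp only [Representation.character, h1, map_one])
      exact Subtype.ext (mul_inv_eq_one.mp h2)
    haveI := Fintype.ofFinite G1
    haveI := Fintype.ofFinite (Cfsg.IrrCharacter G1)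
    obtain ⟨m, hm, -⟩ := Cfsg.Agent.Lib.Characters.IsCharacter.exists_nat_decomp
      (Cfsg.Agent.Lib.Characters.isCharacter_of_rep σ)
    let z1 : G1 := ⟨z, Subgroup.mem_sup_left hz⟩
    let k1 : G1 := ⟨k, Subgroup.mem_sup_right hk⟩
    have h1 : k1 * z1 * k1⁻¹ * z1⁻¹ = 1 := by
      refine Cfsg.Agent.Lib.Characters.eq_one_of_constituents σ hρinj m hm fun θ hθ => ?_
      obtain ⟨d, τ, hτ, hτθ⟩ := θ.2
      haveI := hτ
      have hdn : d ≤ n := Cfsg.Agent.Lib.Characters.constituent_degree_le σ m hm hθ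
        (by rw [← hτθ, τ.char_one, Module.finrank_fin_fun])
      have hcomm := Cfsg.Agent.Lib.Characters.commute_center_of_small P1 K1 hP1p hK1p hgen hC τ
        (le_trans (Nat.pow_le_pow_left hdn 2) (hP1card.symm ▸ hdeg)) (z := z1) hz
        (fun y hy => Subtype.ext (hzc y hy)) k1
      rw [← hτθ]
      simp only [Representation.character]
      congr 1
      rw [map_mul, map_mul, map_mul, ← hcomm, mul_assoc (τ z1), ← map_mul τ k1, mul_inv_cancel,
        map_one, mul_one, ← map_mul, mul_inv_cancel, map_one]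
    exact mul_inv_eq_iff_eq_mul.mp (mul_inv_eq_one.mp (congrArg Subtype.val h1))
  have hbot : (P : Subgroup G) = ⊥ := by
    by_contra hne
    haveI : Nontrivial (P : Subgroup G) := (Subgroup.nontrivial_iff_ne_bot _).mpr hne
    haveI := IsPGroup.center_nontrivial P.2
    obtain ⟨⟨z, hz⟩, hz1⟩ := exists_ne (1 : Subgroup.center (P : Subgroup G))
    exact hz1 (Subtype.ext (Subtype.ext (hZ (z : G) z.2 fun y hy =>
      congrArg Subtype.val (Subgroup.mem_center_iff.mp hz ⟨y, hy⟩))))
  rw [hbot]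
  infer_instance

end Cfsg.Agent.S4748
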