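import Cfsg.Statements.S4750
import Cfsg.Agent.Lib.Characters.Rep
import Mathlib

set_option autoImplicit false
open scoped Pointwise
open Cfsg

namespace Cfsg.Agent.S4750

open Module

section modular

variable {G : Type*} [Group G] [Fintype G]
variable {k W : Type*} [Field k] [AddCommGroup W] [Module k W] [FiniteDimensional k W]

/-- In characteristic `p` the relative trace from the trivial subgroup of a `p`-group vanishes
on a module of dimension smaller than the group order. -/
theorem trace_sum_eq_zero (p : ℕ) [Fact p.Prime] [CharP k p] {P : Type*} [Group P] [Fintype P]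
    (hP : IsPGroup p P) (ρ : Representation k P W) (hdim : finrank k W < Fintype.card P) (u : W) :
    ∑ y : P, ρ y u = 0 := by
  classical
  let φ : (P → k) →ₗ[k] W :=
    { toFun := fun c => ∑ y : P, c y • ρ y u
      map_add' := fun a b => by simp [add_smul, Finset.sum_add_distrib]
      map_smul' := fun a b => by simp [Finset.smul_sum, smul_smul] }
  have hker : φ.ker ≠ ⊥ := fun h => by
    have := LinearMap.finrank_le_finrank_of_injective (LinearMap.ker_eq_bot.1 h)
    rw [finrank_pi] at this
    omega
  obtain ⟨c, hc, hc0⟩ := Submodule.exists_mem_ne_zero_of_ne_bot hker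
  letI : Algebra (ZMod p) k := ZMod.algebra k p
  let sh : P → (P → k) → (P → k) := fun y d x => d (y⁻¹ * x)
  have sh_ker : ∀ y d, d ∈ φ.ker → sh y d ∈ φ.ker := by
    intro y d hd
    rw [LinearMap.mem_ker] at hd ⊢
    show ∑ x : P, d (y⁻¹ * x) • ρ x u = 0
    rw [← Equiv.sum_comp (Equiv.mulLeft y)]
    have h1 : ∀ x, d (y⁻¹ * (Equiv.mulLeft y x)) • ρ (Equiv.mulLeft y x) u =
        ρ y (d x • ρ x u) := by
      intro x; simp [map_mul]
    simp only [h1, ← map_sum]
    rw [show ∑ x : P, d x • ρ x u = 0 from hd, map_zero]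
  let S : Submodule (ZMod p) (P → k) := Submodule.span (ZMod p) (Set.range fun y => sh y c)
  have hS_ker : S ≤ φ.ker.restrictScalars (ZMod p) := Submodule.span_le.2 (by
    rintro _ ⟨y, rfl⟩
    exact sh_ker y c hc)
  have hS_sh : ∀ y d, d ∈ S → sh y d ∈ S := by
    intro y d hd
    induction hd using Submodule.span_induction with
    | mem d hd =>
      obtain ⟨z, rfl⟩ := hd
      refine Submodule.subset_span ⟨y * z, ?_⟩
      funext x; simp [sh, mul_assoc]
    | zero => exact S.zero_mem
    | add a b _ _ ha hb => exact S.add_mem ha hb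
    | smul r a _ ha => exact S.smul_mem r ha
  haveI : Module.Finite (ZMod p) S := Module.Finite.span_of_finite _ (Set.finite_range _)
  haveI : Finite S := Module.finite_of_finite (ZMod p)
  letI : MulAction P S :=
    { smul := fun y d => ⟨sh y d, hS_sh y d d.2⟩
      one_smul := fun d => Subtype.ext (funext fun x => by
        show (d : P → k) (1⁻¹ * x) = (d : P → k) x
        simp)
      mul_smul := fun y z d => Subtype.ext (funext fun x => by
        show (d : P → k) ((y * z)⁻¹ * x) = (d : P → k) (z⁻¹ * (y⁻¹ * x))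
        rw [mul_inv_rev, mul_assoc]) }
  have hcS : c ∈ S := Submodule.subset_span ⟨1, by funext x; simp [sh]⟩
  have hpS : p ∣ Nat.card S := by
    haveI : Nontrivial S := ⟨⟨c, hcS⟩, 0, fun h => hc0 congr(($h).1)⟩
    rw [Module.natCard_eq_pow_finrank (K := ZMod p) (V := S), Nat.card_zmod]
    exact dvd_pow_self p Module.finrank_pos.ne'
  have h0 : (0 : S) ∈ MulAction.fixedPoints P S := fun y => Subtype.ext rfl
  obtain ⟨d, hd, hd0⟩ := hP.exists_fixed_point_of_prime_dvd_card_of_fixed_point S hpS h0
  have hconst : ∀ x, (d : P → k) x = (d : P → k) 1 := by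
    intro x
    have := congrFun (congrArg Subtype.val (hd x)) x
    have h2 : (d : P → k) (x⁻¹ * x) = (d : P → k) x := this
    simpa using h2.symm
  have hne : (d : P → k) 1 ≠ 0 := fun h => hd0 (Subtype.ext (funext fun x => by
    simp [hconst x, h]))
  have h3 : φ (d : P → k) = 0 := hS_ker d.2
  have h4 : (d : P → k) 1 • ∑ y : P, ρ y u = 0 := by
    rw [Finset.smul_sum]
    rw [← h3]
    exact Finset.sum_congr rfl fun y _ => by rw [hconst y]
  exact (smul_eq_zero.1 h4).resolve_left hne

/-- The transfer from `H` to `G` fixes `H`-fixed vectors in small modules. -/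
theorem sum_coset_eq (p : ℕ) [Fact p.Prime] [CharP k p] (ρ : Representation k G W)
    (P : Sylow p G) (H : Subgroup G) [Fintype (G ⧸ H)] (hPH : (P : Subgroup G) ≤ H)
    (hfree : ∀ g : G, g ∉ H → ∀ y ∈ (P : Subgroup G), g⁻¹ * y * g ∈ H → y = 1)
    (hdim : finrank k W < Nat.card ↥(P : Subgroup G)) (v : W) (hv : ∀ h ∈ H, ρ h v = v) :
    ∑ x : G ⧸ H, ρ x.out v = v := by
  classical
  have hout : ∀ g : G, ρ (QuotientGroup.mk g : G ⧸ H).out v = ρ g v := by
    intro g
    obtain ⟨h, hh⟩ := QuotientGroup.mk_out_eq_mul H g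
    rw [hh, map_mul, Module.End.mul_apply, hv h h.2]
  let q : G ⧸ H → MulAction.orbitRel.Quotient (P : Subgroup G) (G ⧸ H) := fun x => Quotient.mk'' x
  rw [← Finset.sum_fiberwise Finset.univ q, Finset.sum_eq_single (q (QuotientGroup.mk 1))]
  · rw [Finset.sum_eq_single (QuotientGroup.mk 1 : G ⧸ H)]
    · rw [hout, map_one, Module.End.one_apply]
    · intro x hx hne
      refine absurd ?_ hne
      obtain ⟨y, hy⟩ := Quotient.eq''.1 (Finset.mem_filter.1 hx).2
      rw [← hy]
      show QuotientGroup.mk ((y : G) * 1) = QuotientGroup.mk 1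
      rw [mul_one]
      exact QuotientGroup.eq.2 (by simpa using hPH y.2)
    · intro h; simp at h
  · intro ω _ hω
    induction ω using Quotient.inductionOn' with
    | h x0 =>
      induction x0 using QuotientGroup.induction_on with
      | H g =>
        have hg : g ∉ H := by
          intro hg
          refine hω ?_
          show q (QuotientGroup.mk g) = q (QuotientGroup.mk 1)
          rw [show (QuotientGroup.mk g : G ⧸ H) = QuotientGroup.mk 1 from
            QuotientGroup.eq.2 (by simpa using hg)]
        have hinj : Function.Injective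
            (fun y : (P : Subgroup G) => y • (QuotientGroup.mk g : G ⧸ H)) := by
          intro y z hyz
          have h1 : (QuotientGroup.mk ((y : G) * g) : G ⧸ H) = QuotientGroup.mk ((z : G) * g) := hyz
          have h2 := QuotientGroup.eq.1 h1
          have h3 := hfree g hg ((y : G)⁻¹ * z) ((P : Subgroup G).mul_mem
            ((P : Subgroup G).inv_mem y.2) z.2) (by simpa [mul_assoc] using h2)
          exact Subtype.ext (inv_mul_eq_one.1 h3)
        have hset : Finset.univ.filter (fun x => q x = q (QuotientGroup.mk g)) =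
            Finset.univ.image (fun y : (P : Subgroup G) => y • (QuotientGroup.mk g : G ⧸ H)) := by
          ext x
          simp only [Finset.mem_filter, Finset.mem_univ, true_and, Finset.mem_image]
          exact ⟨fun h => Quotient.eq''.1 h, fun h => Quotient.eq''.2 h⟩
        show ∑ x ∈ Finset.univ.filter (fun x => q x = q (QuotientGroup.mk g)), ρ x.out v = 0
        rw [hset, Finset.sum_image fun a _ b _ h => hinj h]
        have h4 : ∀ y : (P : Subgroup G),
            ρ (y • (QuotientGroup.mk g : G ⧸ H)).out v =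
              (ρ.comp (P : Subgroup G).subtype) y (ρ g v) := by
          intro y
          show ρ (QuotientGroup.mk ((y : G) * g) : G ⧸ H).out v = ρ (y : G) (ρ g v)
          rw [hout, map_mul, Module.End.mul_apply]
        simp only [h4]
        exact trace_sum_eq_zero p P.isPGroup' _ (by rwa [← Nat.card_eq_fintype_card]) _
  · intro h; simp at h

end modular

section lattice

variable {G : Type*} [Group G] [Fintype G]
variable {M : Type*} [AddCommGroup M] [Module ℂ M] [FiniteDimensional ℂ M]

theorem fixed_eq_zero (p : ℕ) [Fact p.Prime] (σ : Representation ℂ G M)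
    (P : Sylow p G) (H : Subgroup G) (hPH : (P : Subgroup G) ≤ H)
    (hfree : ∀ g : G, g ∉ H → ∀ y ∈ (P : Subgroup G), g⁻¹ * y * g ∈ H → y = 1)
    (hdim : finrank ℂ M < Nat.card ↥(P : Subgroup G))
    (hnofix : ∀ v : M, (∀ g, σ g v = v) → v = 0) (v : M) (hv : ∀ h ∈ H, σ h v = v) : v = 0 := by
  classical
  haveI : Fintype (G ⧸ H) := Fintype.ofFinite _
  by_contra hv0
  let A : Subring ℂ := (Int.castRingHom ℂ).range
  let pA : A := ⟨(p : ℤ), ⟨p, by simp⟩⟩
  have hI : Ideal.span {pA} ≠ ⊤ := by
    rw [Ne, Ideal.span_singleton_eq_top]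
    rintro hu
    obtain ⟨⟨_, n, rfl⟩, hb⟩ := isUnit_iff_exists_inv.1 hu
    have h1 : ((p : ℤ) : ℂ) * (n : ℂ) = 1 := congrArg Subtype.val hb
    have h2 : (p : ℤ) * n = 1 := by exact_mod_cast h1
    have h3 := Int.eq_one_of_mul_eq_one_right (by positivity) h2
    have := (Fact.out : p.Prime).one_lt
    omega
  obtain ⟨O, -, hO⟩ := Ideal.image_subset_nonunits_valuationSubring (Ideal.span {pA}) hI
  have hpO : ((p : O)) ∈ IsLocalRing.maximalIdeal O := by
    have h1 : ((p : ℤ) : ℂ) ∈ O.nonunits := hO ⟨pA, Ideal.mem_span_singleton_self _, rfl⟩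
    rw [← SetLike.mem_coe, ← O.image_maximalIdeal] at h1
    obtain ⟨a, ha, haeq⟩ := h1
    have : a = (p : O) := Subtype.ext (by
      show (a : ℂ) = ((p : O) : ℂ)
      push_cast
      simpa using haeq)
    rwa [← this]
  haveI : CharP (IsLocalRing.ResidueField O) p := by
    refine (CharP.charP_iff_prime_eq_zero (Fact.out)).2 ?_
    have := IsLocalRing.residue_eq_zero_iff (R := O) (p : O) |>.2 hpO
    simpa using this
  let L : Submodule O M := Submodule.span O (Set.range fun g => σ g v)
  have hL : ∀ g, ∀ x ∈ L, σ g x ∈ L := by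
    intro g x hx
    induction hx using Submodule.span_induction with
    | mem x hx =>
      obtain ⟨h, rfl⟩ := hx
      refine Submodule.subset_span ⟨g * h, ?_⟩
      show σ (g * h) v = σ g (σ h v)
      rw [map_mul, Module.End.mul_apply]
    | zero => rw [map_zero]; exact L.zero_mem
    | add a b _ _ ha hb => rw [map_add]; exact L.add_mem ha hb
    | smul r a _ ha =>
      have : σ g (r • a) = r • σ g a := map_smul (σ g) (r : ℂ) a
      rw [this]; exact L.smul_mem r ha
  have hvL : v ∈ L := Submodule.subset_span ⟨1, by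
    show σ 1 v = v
    rw [map_one, Module.End.one_apply]⟩
  haveI : Module.Finite O L := Module.Finite.span_of_finite _ (Set.finite_range _)
  haveI : Module.IsTorsionFree O L := by
    haveI : Module.IsTorsionFree O M := Module.IsTorsionFree.mk fun r hr => by
      intro a b hab
      have hr0 : (r : ℂ) ≠ 0 := fun h => hr.ne_zero (Subtype.ext h)
      exact smul_right_injective M hr0 hab
    infer_instance
  haveI : Module.Flat O L := Module.Flat.flat_iff_torsion_eq_bot_of_isBezout.2
    (Submodule.isTorsionFree_iff_torsion_eq_bot.1 inferInstance)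
  haveI : Module.Free O L := Module.free_of_flat_of_isLocalRing
  let e := Module.finBasis O L
  let σL : Representation O G L :=
    { toFun := fun g =>
        { toFun := fun x => ⟨σ g x, hL g x x.2⟩
          map_add' := fun a b => Subtype.ext (map_add (σ g) _ _)
          map_smul' := fun r a => Subtype.ext (map_smul (σ g) (r : ℂ) (a : M)) }
      map_one' := LinearMap.ext fun x => Subtype.ext (by
        show σ 1 (x : M) = x
        rw [map_one, Module.End.one_apply])
      map_mul' := fun g h => LinearMap.ext fun x => Subtype.ext (by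
        show σ (g * h) (x : M) = σ g (σ h x)
        rw [map_mul, Module.End.mul_apply]) }
  have hind : LinearIndependent ℂ (fun i => (e i : M)) := by
    rw [← LinearIndependent.iff_fractionRing (R := O)]
    exact e.linearIndependent.map' L.subtype (Submodule.ker_subtype L)
  have hrank : finrank O L ≤ finrank ℂ M := by
    simpa using hind.fintype_card_le_finrank
  -- scale `v` to a primitive vector
  set c : Fin (finrank O L) → ℂ := fun i => ((e.repr ⟨v, hvL⟩ i : O) : ℂ) with hcdef
  have hvsum : ∑ i, c i • (e i : M) = v := by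
    have h := congrArg Subtype.val (e.sum_repr ⟨v, hvL⟩)
    rw [Submodule.coe_sum] at h
    exact h
  have hne : ∃ i, c i ≠ 0 := by
    by_contra h
    push Not at h
    exact hv0 (by rw [← hvsum]; simp [h])
  obtain ⟨i0, hi0⟩ := hne
  obtain ⟨j, -, hj⟩ := Finset.exists_max_image Finset.univ (fun i => O.valuation (c i))
    ⟨i0, Finset.mem_univ _⟩
  have hcj : c j ≠ 0 := by
    intro h
    have := hj i0 (Finset.mem_univ _)
    rw [h, map_zero] at this
    exact hi0 ((map_eq_zero O.valuation).1 (le_antisymm this zero_le'))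
  have ha : ∀ i, c i / c j ∈ O := fun i => (O.valuation_le_one_iff _).1 (by
    rw [map_div₀]
    exact div_le_one_of_le₀ (hj i (Finset.mem_univ _)) zero_le')
  let w : L := ∑ i, (⟨c i / c j, ha i⟩ : O) • e i
  have hw : c j • (w : M) = v := by
    simp only [w, Submodule.coe_sum, Finset.smul_sum]
    conv_rhs => rw [← hvsum]
    refine Finset.sum_congr rfl fun i _ => ?_
    show c j • ((c i / c j) • (e i : M)) = _
    rw [smul_smul, mul_div_cancel₀ _ hcj]
  have hwH : ∀ h ∈ H, σL h w = w := fun h hh => Subtype.ext (by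
    apply smul_right_injective M hcj
    show c j • σ h (w : M) = c j • (w : M)
    rw [← map_smul, hw, hv h hh])
  have hsum0 : ∑ x : G ⧸ H, σL x.out w = 0 := by
    apply Subtype.ext
    rw [Submodule.coe_sum]
    apply hnofix
    intro g
    rw [map_sum]
    refine Fintype.sum_equiv (MulAction.toPerm g : Equiv.Perm (G ⧸ H)) _ _ fun x => ?_
    symm
    induction x using QuotientGroup.induction_on with
    | H a =>
      show (σL (QuotientGroup.mk (g * a) : G ⧸ H).out w : M) =
        σ g (σ (QuotientGroup.mk a : G ⧸ H).out (w : M))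
      obtain ⟨h1, e1⟩ := QuotientGroup.mk_out_eq_mul H (g * a)
      obtain ⟨h2, e2⟩ := QuotientGroup.mk_out_eq_mul H a
      have f1 : σ (h1 : G) (w : M) = w := congrArg Subtype.val (hwH h1 h1.2)
      have f2 : σ (h2 : G) (w : M) = w := congrArg Subtype.val (hwH h2 h2.2)
      show σ (QuotientGroup.mk (g * a) : G ⧸ H).out (w : M) = _
      rw [e1, e2]
      simp only [map_mul, Module.End.mul_apply, f1, f2]
  -- reduce
  let k := IsLocalRing.ResidueField O
  let ρk : Representation k G (TensorProduct O k L) :=
    { toFun := fun g => (σL g).baseChange k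
      map_one' := by rw [map_one]; exact LinearMap.baseChange_one O L
      map_mul' := fun g h => by rw [map_mul]; exact LinearMap.baseChange_mul _ _ }
  have hdimk : finrank k (TensorProduct O k L) < Nat.card ↥(P : Subgroup G) := by
    rw [Module.finrank_baseChange]
    omega
  have hwk : ∀ h ∈ H, ρk h ((1 : k) ⊗ₜ[O] w) = (1 : k) ⊗ₜ[O] w := by
    intro h hh
    show (σL h).baseChange k _ = _
    rw [LinearMap.baseChange_tmul, hwH h hh]
  have key := sum_coset_eq p ρk P H hPH hfree hdimk _ hwk
  have hzero : ((1 : k) ⊗ₜ[O] w) = 0 := by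
    rw [← key]
    show ∑ x : G ⧸ H, (σL x.out).baseChange k ((1 : k) ⊗ₜ[O] w) = 0
    simp only [LinearMap.baseChange_tmul, ← TensorProduct.tmul_sum, hsum0, TensorProduct.tmul_zero]
  have hrep : (e.baseChange k).repr ((1 : k) ⊗ₜ[O] w) j = 1 := by
    rw [Module.Basis.baseChange_repr_tmul]
    have : e.repr w j = 1 := by
      simp only [w, Module.Basis.repr_sum_self]
      exact Subtype.ext (div_self hcj)
    rw [this, one_smul]
  rw [hzero] at hrep
  simp at hrep

end lattice

theorem mem_of_conj_mem {G : Type*} [Group G] [Finite G] {p : ℕ} [Fact p.Prime] (P : Sylow p G)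
    (hTI : ∀ g : G, g ∉ Subgroup.normalizer ((P : Subgroup G) : Set G) →
      (P : Subgroup G) ⊓ (MulAut.conj g • (P : Subgroup G)) = ⊥) (H : Subgroup G)
    (hH : Subgroup.normalizer ((P : Subgroup G) : Set G) ≤ H) (g : G) (hg : g ∉ H) :
    ∀ y ∈ (P : Subgroup G), g⁻¹ * y * g ∈ H → y = 1 := by
  intro y hy hz
  have hPH : (P : Subgroup G) ≤ H := le_trans Subgroup.le_normalizer hH
  set z : H := ⟨g⁻¹ * y * g, hz⟩ with hzdef
  have hzp : IsPGroup p (Subgroup.zpowers z) := by
    rintro ⟨w, hw⟩
    obtain ⟨n, rfl⟩ := hw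
    obtain ⟨m, hm⟩ := P.isPGroup' ⟨y ^ n, zpow_mem hy n⟩
    refine ⟨m, Subtype.ext (Subtype.ext ?_)⟩
    have h1 : (y ^ n) ^ p ^ m = 1 := congrArg Subtype.val hm
    show ((g⁻¹ * y * g) ^ n) ^ p ^ m = 1
    rw [show g⁻¹ * y * g = MulAut.conj g⁻¹ y from by simp, ← map_zpow, ← map_pow, h1, map_one]
  obtain ⟨S, hS⟩ := hzp.exists_le_sylow
  obtain ⟨h, hh⟩ := MulAction.exists_smul_eq H (P.subtype hPH) S
  have hzS : z ∈ (S : Subgroup H) := hS (Subgroup.mem_zpowers z)
  rw [← hh] at hzS
  rw [Sylow.coe_subgroup_smul, Subgroup.mem_pointwise_smul_iff_inv_smul_mem] at hzS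
  have hzP : (h : G)⁻¹ * (g⁻¹ * y * g) * (h : G) ∈ (P : Subgroup G) := by
    simpa [Subgroup.mem_subgroupOf, Sylow.coe_subtype, MulAut.smul_def, mul_assoc, hzdef] using hzS
  by_contra hy1
  have hgh : g * (h : G) ∉ Subgroup.normalizer ((P : Subgroup G) : Set G) := fun hn =>
    hg (by simpa [mul_assoc] using H.mul_mem (hH hn) (H.inv_mem h.2))
  have hmem : y ∈ (P : Subgroup G) ⊓ (MulAut.conj (g * (h : G)) • (P : Subgroup G)) := by
    refine Subgroup.mem_inf.2 ⟨hy, ?_⟩
    rw [Subgroup.mem_pointwise_smul_iff_inv_smul_mem]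
    simpa [MulAut.smul_def, mul_assoc] using hzP
  rw [hTI _ hgh, Subgroup.mem_bot] at hmem
  exact hy1 hmem

theorem classInner_eq_finrank {G : Type*} [Group G] [Fintype G] {n : ℕ}
    (ρ : Representation ℂ G (Fin n → ℂ)) :
    Cfsg.classInner ρ.character ρ.character =
      (finrank ℂ (Representation.linHom ρ ρ).invariants : ℂ) := by
  haveI : Invertible (Nat.card G : ℂ) := invertibleOfNonzero (Nat.cast_ne_zero.2 Nat.card_pos.ne')
  rw [← Representation.card_inv_mul_sum_char_eq_finrank]
  unfold Cfsg.classInner
  refine congrArg _ (Finset.sum_congr rfl fun g _ => ?_)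
  rw [Representation.char_linHom, Cfsg.Agent.Lib.Characters.char_inv, mul_comm]

/-- Let P be a Sylow p-subgroup of the finite group G that meets each conjugate g P g⁻¹ with g outside N_G(P) trivially, χ a character of G with χ(1)² ≤ |P|, and H a subgroup of G containing N_G(P). Then the inner product of χ with itself over G equals the inner product over H of the restriction of χ to H. -/
theorem result {G : Type*} [Group G] [Fintype G] [DecidableEq G] (p : ℕ) [Fact p.Prime] (P : Sylow p G) (hTI : ∀ g : G, g ∉ Subgroup.normalizer ((P : Subgroup G) : Set G) → (P : Subgroup G) ⊓ (MulAut.conj g • (P : Subgroup G)) = ⊥) (χ : G → ℂ) (hχ : Cfsg.IsCharacter G χ) (hdeg : Cfsg.charDegree χ ^ 2 ≤ Nat.card ↥(P : Subgroup G)) (H : Subgroup G) [Fintype ↥H] (hH : Subgroup.normalizer ((P : Subgroup G) : Set G) ≤ H) : Cfsg.classInner χ χ = Cfsg.classInner (fun h : ↥H => χ h) (fun h : ↥H => χ h) := by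
  classical
  obtain ⟨n, ρ, rfl⟩ := hχ
  have hn : Cfsg.charDegree ρ.character = n := by
    rw [Cfsg.charDegree, Representation.char_one]
    simp
  rw [hn] at hdeg
  have hres : (fun h : ↥H => ρ.character h) = Representation.character (ρ.comp H.subtype) := rfl
  rw [hres, classInner_eq_finrank, classInner_eq_finrank]
  let π := Representation.linHom ρ ρ
  let E := (Fin n → ℂ) →ₗ[ℂ] (Fin n → ℂ)
  let A : E →ₗ[ℂ] E := ∑ g : G, π g
  have hA : ∀ T, A T = ∑ g : G, π g T := fun T => LinearMap.sum_apply _ _ _
  have hA1 : ∀ g T, π g (A T) = A T := by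
    intro g T
    rw [hA, map_sum]
    exact Fintype.sum_equiv (Equiv.mulLeft g) _ _ fun x => by simp [map_mul]
  have hA2 : ∀ g T, A (π g T) = A T := by
    intro g T
    rw [hA, hA]
    exact Fintype.sum_equiv (Equiv.mulRight g) _ _ fun x => by simp [map_mul]
  have hA3 : ∀ T, (∀ g, π g T = T) → A T = (Nat.card G : ℂ) • T := by
    intro T hT
    rw [hA, Finset.sum_congr rfl fun g _ => hT g, Finset.sum_const, Finset.card_univ,
      Nat.card_eq_fintype_card, Nat.cast_smul_eq_nsmul]
  have hN : (Nat.card G : ℂ) ≠ 0 := Nat.cast_ne_zero.2 Nat.card_pos.ne'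
  have hmap : ∀ g, ∀ T ∈ A.ker, π g T ∈ A.ker := fun g T hT => by
    rw [LinearMap.mem_ker, hA2]; exact hT
  let σ : Representation ℂ G A.ker :=
    { toFun := fun g => (π g).restrict (hmap g)
      map_one' := LinearMap.ext fun x => Subtype.ext (by
        show π 1 (x : E) = x
        rw [map_one, Module.End.one_apply])
      map_mul' := fun g h => LinearMap.ext fun x => Subtype.ext (by
        show π (g * h) (x : E) = π g (π h x)
        rw [map_mul, Module.End.mul_apply]) }
  have hdim : finrank ℂ A.ker < Nat.card ↥(P : Subgroup G) := by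
    have hEn : finrank ℂ E = n ^ 2 := by
      rw [Module.finrank_linearMap, finrank_pi, Fintype.card_fin, sq]
    have hrn := A.finrank_range_add_finrank_ker
    rw [hEn] at hrn
    rcases Nat.eq_zero_or_pos n with rfl | hn0
    · have := Nat.card_pos (α := ↥(P : Subgroup G))
      have : finrank ℂ A.ker = 0 := by
        have := hrn
        norm_num at this
        first | omega | exact this.2 | simp [this.2]
      omega
    · have hid : ∀ g, π g (LinearMap.id : E) = LinearMap.id := by
        intro g
        refine LinearMap.ext fun x => ?_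
        show ρ g (ρ g⁻¹ x) = x
        rw [← Module.End.mul_apply, ← map_mul, mul_inv_cancel, map_one, Module.End.one_apply]
      have hne : A.range ≠ ⊥ := by
        intro h
        have h1 : A (LinearMap.id : E) = 0 := LinearMap.range_eq_bot.1 h ▸ rfl
        rw [hA3 _ hid, smul_eq_zero] at h1
        have h2 := h1.resolve_left hN
        have h3 := congrFun (LinearMap.congr_fun h2 (fun _ => (1 : ℂ))) ⟨0, hn0⟩
        exact one_ne_zero h3
      have : 0 < finrank ℂ A.range := by
        rw [Nat.pos_iff_ne_zero]
        exact fun h => hne (Submodule.finrank_eq_zero.1 h)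
      omega
  have hPH : (P : Subgroup G) ≤ H := le_trans Subgroup.le_normalizer hH
  have hfix : ∀ T : E, (∀ h ∈ H, π h T = T) → ∀ g, π g T = T := by
    intro T hT
    let v : E := (Nat.card G : ℂ) • T - A T
    have hv : v ∈ A.ker := by
      rw [LinearMap.mem_ker, map_sub, map_smul, hA3 (A T) fun g => hA1 g T, sub_self]
    have hv0 : (⟨v, hv⟩ : A.ker) = 0 := by
      refine fixed_eq_zero (M := ↥A.ker) (σ := σ) (p := p) P H hPH (mem_of_conj_mem P hTI H hH) ?_ ?_ _ ?_
      · exact hdim
      · intro w hw
        have h1 : A (w : E) = (Nat.card G : ℂ) • (w : E) :=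
          hA3 _ fun g => congrArg Subtype.val (hw g)
        rw [LinearMap.mem_ker.1 w.2] at h1
        exact Subtype.ext ((smul_eq_zero.1 h1.symm).resolve_left hN)
      · intro h hh
        refine Subtype.ext ?_
        show π h v = v
        rw [map_sub, map_smul, hT h hh, hA1]
    have h2 : (Nat.card G : ℂ) • T = A T := sub_eq_zero.1 (congrArg Subtype.val hv0)
    intro g
    apply smul_right_injective E hN
    show (Nat.card G : ℂ) • π g T = (Nat.card G : ℂ) • T
    rw [← map_smul, h2, hA1]
  have hinv : π.invariants = (Representation.linHom (ρ.comp H.subtype) (ρ.comp H.subtype)).invariants := by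
    ext T
    exact ⟨fun h x => h (x : G), fun h => hfix T fun x hx => h ⟨x, hx⟩⟩
  rw [← hinv]

end Cfsg.Agent.S4750
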