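import Cfsg.Statements.S4751
import Cfsg.Agent.Lib.CharMisc.RootValuedTwo
import Cfsg.Agent.Lib.CharMisc.RootValuedGroup
import Cfsg.Agent.Lib.PGroups.Subnormal

set_option autoImplicit false
open Cfsg Cfsg.Agent.Lib.CharMisc.RootValued

namespace Cfsg.Agent.S4751

/-- Let χ be a faithful, non-linear irreducible character of the finite group G (χ g = χ 1 only for g = 1, χ 1 ≠ 1) whose value at every element of order divisible by p is a root of unity, and suppose P = O_p(G) ≠ 1. Then either P is an elementary abelian Sylow p-subgroup of G, C_G(P) is the internal direct product of P and Z(G), G acts transitively by conjugation on the non-principal linear characters of P, and χ 1 = |P| − 1; or p = 2 and G is the internal direct product of a subgroup isomorphic to the symmetric group S₄ and the centre Z(G), which has odd order. -/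
theorem result {G : Type*} [Group G] [Finite G] (p : ℕ) [Fact p.Prime] (χ : Cfsg.IrrCharacter G) (hfaith : ∀ g : G, (χ : G → ℂ) g = (χ : G → ℂ) 1 → g = 1) (hnl : (χ : G → ℂ) 1 ≠ 1) (hroot : ∀ g : G, p ∣ orderOf g → ∃ n : ℕ, 0 < n ∧ ((χ : G → ℂ) g) ^ n = 1) (hP : Cfsg.pCore p G ≠ ⊥) : ((Nat.card ↥(Cfsg.pCore p G)).factorization p = (Nat.card G).factorization p ∧ Cfsg.IsElementaryAbelian p (Cfsg.pCore p G) ∧ Subgroup.centralizer ((Cfsg.pCore p G : Subgroup G) : Set G) = Cfsg.pCore p G ⊔ Subgroup.center G ∧ Cfsg.pCore p G ⊓ Subgroup.center G = ⊥ ∧ (∀ lam mu : ↥(Cfsg.pCore p G) → ℂ, Cfsg.IsCharacter ↥(Cfsg.pCore p G) lam → lam 1 = 1 → lam ≠ (fun _ => (1 : ℂ)) → Cfsg.IsCharacter ↥(Cfsg.pCore p G) mu → mu 1 = 1 → mu ≠ (fun _ => (1 : ℂ)) → ∃ g : G, ∀ (x : G) (hx : x ∈ Cfsg.pCore p G) (hgx : g * x * g⁻¹ ∈ Cfsg.pCore p G), mu ⟨x, hx⟩ = lam ⟨g * x * g⁻¹, hgx⟩) ∧ (χ : G → ℂ) 1 = (Nat.card ↥(Cfsg.pCore p G) : ℂ) - 1) ∨ (p = 2 ∧ Odd (Nat.card ↥(Subgroup.center G)) ∧ ∃ H : Subgroup G, Nonempty (↥H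 ≃* Equiv.Perm (Fin 4)) ∧ H ⊓ Subgroup.center G = ⊥ ∧ H ⊔ Subgroup.center G = ⊤) := by
  classical
  have hp : p.Prime := Fact.out
  have hχ : Cfsg.IsIrrCharacter G (χ : G → ℂ) := χ.2
  have hroot' : ∀ g : G, p ∣ orderOf g → ‖(χ : G → ℂ) g‖ = 1 := fun g hg => by
    obtain ⟨n, hn, h⟩ := hroot g hg
    exact Cfsg.Agent.Lib.Characters.norm_eq_one_of_pow_eq_one' hn.ne' h
  set P := Cfsg.pCore p G with hPdef
  haveI : P.Normal := Cfsg.Agent.Lib.PGroups.pCore_normal_inst p
  haveI := Fintype.ofFinite P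
  have hPp : IsPGroup p P := Cfsg.Agent.Lib.PGroups.isPGroup_pCore_base p
  obtain ⟨hdP, h3, hab, hexp, hPZ, θ, hθ, hθne, htP, -, hcover⟩ :=
    restrict_structure hχ hfaith hnl hroot' P hPp hP
  obtain ⟨hC, hCp⟩ := centralizer_eq hχ hfaith hnl hroot' P hPp hP
  have hPZ' : P ⊓ Subgroup.center G = ⊥ := (Subgroup.eq_bot_iff_forall _).2 fun a ha =>
    hPZ a (Subgroup.mem_inf.1 ha).1 (Subgroup.mem_inf.1 ha).2
  obtain ⟨S, hPS⟩ := hPp.exists_le_sylow
  by_cases hSP : (S : Subgroup G) ≤ P
  · left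
    refine ⟨?_, ⟨⟨⟨fun a b => Subtype.ext (hab a a.2 b b.2)⟩⟩, hexp⟩, hC, hPZ', ?_, hdP⟩
    · have h : P = (S : Subgroup G) := le_antisymm hPS hSP
      rw [h, S.card_eq_multiplicity, hp.factorization_pow, Finsupp.single_eq_same]
    · intro lam mu hl hl1 hlne hm hm1 hmne
      obtain ⟨g₁, hg₁⟩ := hcover lam (Cfsg.Agent.Lib.Characters.IsCharacter.isIrr_of_apply_one hl hl1) hlne
      obtain ⟨g₂, hg₂⟩ := hcover mu (Cfsg.Agent.Lib.Characters.IsCharacter.isIrr_of_apply_one hm hm1) hmne
      refine ⟨g₁⁻¹ * g₂, fun x hx hgx => ?_⟩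
      have h : Cfsg.Agent.Lib.Characters.conjFun P (g₁⁻¹ * g₂) lam = mu := by
        rw [Cfsg.Agent.Lib.Characters.conjFun_mul, ← hg₁,
          Cfsg.Agent.Lib.Characters.conjFun_inv_cancel, hg₂]
      exact (congrFun h ⟨x, hx⟩).symm
  · -- a `p`-element `x` outside `P` with `x ^ p ∈ P`
    obtain ⟨y, hyS, hyP⟩ := SetLike.not_le_iff_exists.1 hSP
    have hex : ∃ j, y ^ p ^ j ∈ P := by
      obtain ⟨k, hk⟩ := S.2 ⟨y, hyS⟩
      exact ⟨k, by rw [show y ^ p ^ k = 1 from congrArg Subtype.val hk]; exact P.one_mem⟩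
    obtain ⟨j, hj⟩ : ∃ j, Nat.find hex = j + 1 := Nat.exists_eq_succ_of_ne_zero fun h0 => hyP (by
      have := Nat.find_spec hex
      rwa [h0, pow_zero, pow_one] at this)
    set x := y ^ p ^ j with hx
    have hxP : x ∉ P := Nat.find_min hex (m := j) (by omega)
    have hxp : x ^ p ∈ P := by
      have := Nat.find_spec hex
      rwa [hj, pow_succ, pow_mul] at this
    have hxS : x ∈ (S : Subgroup G) := Subgroup.pow_mem _ hyS _
    let xb : G ⧸ P := QuotientGroup.mk x
    have hxb : orderOf xb = p := orderOf_eq_prime ((QuotientGroup.eq_one_iff _).2 hxp)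
      fun h => hxP ((QuotientGroup.eq_one_iff _).1 h)
    set T : Subgroup G := (Subgroup.zpowers xb).comap (QuotientGroup.mk' P) with hT
    have hPT : P ≤ T := fun a ha => by
      rw [hT, Subgroup.mem_comap, show QuotientGroup.mk' P a = 1 from (QuotientGroup.eq_one_iff _).2 ha]
      exact Subgroup.one_mem _
    have hxT : x ∈ T := Subgroup.mem_zpowers xb
    have hTle : T ≤ (S : Subgroup G) := fun t ht => by
      obtain ⟨k, hk⟩ := Subgroup.mem_zpowers_iff.1 ht
      have h2 : (x ^ k)⁻¹ * t ∈ P := by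
        rw [← QuotientGroup.eq_one_iff]
        show QuotientGroup.mk' P ((x ^ k)⁻¹ * t) = 1
        rw [map_mul, map_inv, map_zpow, ← hk]
        exact inv_mul_cancel _
      have h3 := Subgroup.mul_mem _ (Subgroup.zpow_mem _ hxS k) (hPS h2)
      rwa [mul_inv_cancel_left] at h3
    have hTp : IsPGroup p T := S.2.to_le hTle
    haveI := Fintype.ofFinite T
    have hTcard : Nat.card T = p * Nat.card P := by
      let f : T →* G ⧸ P := (QuotientGroup.mk' P).comp T.subtype
      have hr : f.range = Subgroup.zpowers xb := by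
        rw [MonoidHom.range_comp, Subgroup.range_subtype, hT,
          Subgroup.map_comap_eq_self_of_surjective (QuotientGroup.mk'_surjective P)]
      have hk : f.ker = P.subgroupOf T := by
        ext t
        exact QuotientGroup.eq_one_iff (t : G)
      have := Subgroup.card_mul_index f.ker
      rw [Subgroup.index_ker, hr, Nat.card_zpowers, hxb, hk,
        Nat.card_congr (Subgroup.subgroupOfEquivOfLe hPT).toEquiv] at this
      rw [← this, mul_comm]
    obtain ⟨hp2, -⟩ := eq_two_of_extension hχ hfaith hnl hroot' P hPp hP T hTp hTcard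
    subst hp2
    right
    have hP4 : Nat.card P = 4 :=
      card_eq_four hχ hfaith hnl hroot' P hPp hP T hTp hTcard hPT x hxT hxP hxp
    have hodd : Odd (Nat.card (Subgroup.center G)) := by
      rw [← Nat.not_even_iff_odd, even_iff_two_dvd]
      intro h
      obtain ⟨z, hz⟩ := exists_prime_orderOf_dvd_card' 2 h
      rw [← Subgroup.orderOf_coe] at hz
      have hzN : (Subgroup.zpowers (z : G)).Normal := ⟨fun n hn g => by
        obtain ⟨k, rfl⟩ := Subgroup.mem_zpowers_iff.1 hn
        rw [Subgroup.mem_center_iff.1 (Subgroup.zpow_mem _ z.2 k) g, mul_inv_cancel_right]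
        exact Subgroup.zpow_mem _ (Subgroup.mem_zpowers _) _⟩
      have hle := Cfsg.Agent.Lib.PGroups.le_pCore_of_normal (p := 2) hzN
        (IsPGroup.of_card (n := 1) (by rw [Nat.card_zpowers, hz, pow_one]))
      have := hPZ _ (hle (Subgroup.mem_zpowers _)) z.2
      rw [this, orderOf_one] at hz
      norm_num at hz
    refine ⟨rfl, hodd, exists_sym_four_complement P hP4 hC hPZ' hodd ?_⟩
    set C := Subgroup.centralizer (P : Set G) with hCdef
    haveI : C.Normal := by rw [hCdef]; infer_instance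
    -- divides six
    have hd6 : C.index ∣ 6 := by
      let P' := {a : P // a ≠ 1}
      have hcard3 : Fintype.card P' = 3 := by
        rw [Fintype.card_subtype_compl, Fintype.card_subtype_eq, ← Nat.card_eq_fintype_card, hP4]
      let σ₀ : G →* Equiv.Perm P' :=
        { toFun := fun g => (MulAut.conjNormal g : MulAut P).toEquiv.subtypeEquiv fun a => by
            simp
          map_one' := by ext a; simp
          map_mul' := fun g h => by ext a; simp }
      have hker : σ₀.ker = C := by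
        ext g
        rw [MonoidHom.mem_ker, hCdef, Subgroup.mem_centralizer_iff]
        constructor
        · intro h a ha
          by_cases ha1 : (⟨a, ha⟩ : P) = 1
          · have : a = 1 := congrArg Subtype.val ha1
            subst this; simp
          · have h2 : g * a * g⁻¹ = a := congrArg (fun π : Equiv.Perm P' => ((π ⟨⟨a, ha⟩, ha1⟩ : P) : G)) h
            calc a * g = g * a * g⁻¹ * g := by rw [h2]
              _ = g * a := by group
        · intro h
          refine Equiv.ext fun a => Subtype.ext (Subtype.ext ?_)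
          show g * ((a : P) : G) * g⁻¹ = ((a : P) : G)
          rw [← h _ (a : P).2, mul_inv_cancel_right]
      have h := Subgroup.card_subgroup_dvd_card σ₀.range
      rwa [← Subgroup.index_ker, hker, Nat.card_eq_fintype_card, Fintype.card_perm, hcard3] at h
    have h2dvd : 2 ∣ C.index := by
      have hxC : x ∉ C := fun h => hxP (hCp x h (by
        obtain ⟨k, hk⟩ := S.2 ⟨x, hxS⟩
        exact ⟨k, congrArg Subtype.val hk⟩))
      have hne : (QuotientGroup.mk x : G ⧸ C) ≠ 1 := fun h => hxC ((QuotientGroup.eq_one_iff _).1 h)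
      have hpow : (QuotientGroup.mk x : G ⧸ C) ^ 2 = 1 := (QuotientGroup.eq_one_iff _).2
        (show x ^ 2 ∈ C by rw [hC]; exact Subgroup.mem_sup_left hxp)
      rw [Subgroup.index_eq_card, ← orderOf_eq_prime hpow hne]
      exact orderOf_dvd_natCard _
    have h3dvd : 3 ∣ C.index := by
      have hle : C ≤ Cfsg.Agent.Lib.Characters.inertia P θ := by
        intro c hc
        rw [Cfsg.Agent.Lib.Characters.mem_inertia_iff]
        funext n
        refine congrArg θ (Subtype.ext ?_)
        show c * (n : G) * c⁻¹ = n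
        rw [← Subgroup.mem_centralizer_iff.1 hc n n.2, mul_inv_cancel_right]
      have h : (Cfsg.Agent.Lib.Characters.inertia P θ).index = 3 := by omega
      exact h ▸ Subgroup.index_dvd_of_le hle
    exact Nat.dvd_antisymm hd6 (Nat.Coprime.mul_dvd_of_dvd_of_dvd (by norm_num : Nat.Coprime 2 3) h2dvd h3dvd)

end Cfsg.Agent.S4751
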