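import Cfsg.Statements.S4754
import Cfsg.Agent.Lib.CharMisc.ClassProduct
-- import your own Cfsg.Agent.* helpers here

set_option autoImplicit false
open Cfsg

namespace Cfsg.Agent.S4754

/-- For elements x, y of a finite group G, the conjugacy class of x y equals the set of all products of a conjugate of x with a conjugate of y if and only if χ(1) χ(a x a⁻¹ b y b⁻¹) = χ(x) χ(y) for all a, b ∈ G and every irreducible character χ. -/
theorem result {G : Type*} [Group G] [Finite G] (x y : G) : (∀ z : G, IsConj (x * y) z ↔ ∃ a b : G, z = a * x * a⁻¹ * (b * y * b⁻¹)) ↔ ∀ (a b : G) (χ : Cfsg.IrrCharacter G), (χ : G → ℂ) 1 * (χ : G → ℂ) (a * x * a⁻¹ * (b * y * b⁻¹)) = (χ : G → ℂ) x * (χ : G → ℂ) y := by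
  constructor
  · intro h a b χ
    have hc := fun a b : G => (h (a * x * a⁻¹ * (b * y * b⁻¹))).2 ⟨a, b, rfl⟩
    rw [← Cfsg.Agent.Lib.Characters.IsClassFunction.eq_of_isConj
      (Cfsg.Agent.Lib.Characters.irr_isClassFunction χ) (hc a b)]
    exact Cfsg.Agent.Lib.CharMisc.mul_apply_of_forall_isConj χ.2 hc
  · intro h z
    refine ⟨Cfsg.Agent.Lib.CharMisc.isConj_mul_conj, ?_⟩
    rintro ⟨a, b, rfl⟩
    refine (Cfsg.Agent.Lib.Characters.isConj_iff_forall_irr _ _).2 fun χ => ?_
    refine mul_left_cancel₀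
      (Cfsg.Agent.Lib.Characters.IsIrrCharacter.apply_one_ne_zero χ.2) ?_
    have h1 := h 1 1 χ
    simp only [one_mul, inv_one, mul_one] at h1
    rw [h1, h a b χ]

end Cfsg.Agent.S4754
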