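import Cfsg.Statements.S4756
import Cfsg.Statements.S4756
import Cfsg.Agent.Lib.PLocal.MulChar

set_option autoImplicit false
open Cfsg

namespace Cfsg.Agent.S4756

/-- For a finite group G the following are equivalent. (1) χ(x y) = χ(x) χ(y) for every irreducible character χ and all non-identity elements x, y of prime power orders for two different primes. (2) G is a p-group for some prime p, or G is abelian, or for some prime p: G = A P with P a normal Sylow p-subgroup and A a nontrivial cyclic subgroup of order prime to p such that, with C = C_P(A) and D = [A, P], one has P = C D, C abelian, D normal in G, C ∩ D = 1, and A acts fixed-point-freely on D (no non-identity element of A centralizes a non-identity element of D). -/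
theorem result {G : Type*} [Group G] [Finite G] : (∀ (x y : G) (χ : Cfsg.IrrCharacter G), x ≠ 1 → y ≠ 1 → (∃ p q a b : ℕ, p.Prime ∧ q.Prime ∧ p ≠ q ∧ orderOf x = p ^ a ∧ orderOf y = q ^ b) → (χ : G → ℂ) (x * y) = (χ : G → ℂ) x * (χ : G → ℂ) y) ↔ ((∃ p : ℕ, p.Prime ∧ IsPGroup p G) ∨ IsMulCommutative G ∨ ∃ (p : ℕ) (_ : Fact p.Prime) (P : Sylow p G) (A : Subgroup G), (P : Subgroup G).Normal ∧ IsCyclic ↥A ∧ A ≠ ⊥ ∧ (Nat.card ↥A).Coprime p ∧ A ⊔ (P : Subgroup G) = ⊤ ∧ IsMulCommutative ↥((P : Subgroup G) ⊓ Subgroup.centralizer (A : Set G)) ∧ (⁅A, (P : Subgroup G)⁆).Normal ∧ ((P : Subgroup G) ⊓ Subgroup.centralizer (A : Set G)) ⊔ ⁅A, (P : Subgroup G)⁆ = (P : Subgroup G) ∧ ((P : Subgroup G) ⊓ Subgroup.centralizer (A : Set G)) ⊓ ⁅A, (P : Subgroup G)⁆ = ⊥ ∧ ∀ a ∈ A, a ≠ 1 → ∀ d ∈ ⁅A, (P : Subgroup G)⁆, a * d = d * a → d = 1) := by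
  constructor
  · intro h
    by_cases h1 : ∃ p : ℕ, p.Prime ∧ IsPGroup p G
    · exact Or.inl h1
    by_cases h2 : IsMulCommutative G
    · exact Or.inr (Or.inl h2)
    exact Or.inr (Or.inr (Cfsg.Agent.Lib.PLocal.MulChar.str_of_mulProp h h1 h2))
  · rintro (⟨p, hp, hG⟩ | hab | hs) x y χ hx hy hord
    · exfalso
      obtain ⟨q, r, a, b, hq, hr, hqr, hxo, hyo⟩ := hord
      haveI := Fact.mk hp
      have key : ∀ {s : G} {l e : ℕ}, l.Prime → s ≠ 1 → orderOf s = l ^ e → l = p := by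
        intro s l e hl hs1 hs
        obtain ⟨k, hk⟩ := IsPGroup.iff_orderOf.mp hG s
        have he : e ≠ 0 := fun h0 => hs1 (orderOf_eq_one_iff.mp (by rw [hs, h0, pow_zero]))
        exact (Nat.prime_dvd_prime_iff_eq hl hp).mp
          (hl.dvd_of_dvd_pow ((hs ▸ dvd_pow_self l he : l ∣ orderOf s).trans hk.dvd))
      exact hqr ((key hq hx hxo).trans (key hr hy hyo).symm)
    · have hc : ∀ a b : G, a * b = b * a := hab.is_comm.comm
      obtain ⟨lam, hlam⟩ := Cfsg.Agent.Lib.Characters.IsCharacter.exists_hom_of_apply_one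
        (Cfsg.Agent.Lib.Characters.irr_isCharacter χ)
        (Cfsg.Agent.Lib.Characters.IsIrrCharacter.apply_one_of_comm hc χ.2)
      simp [hlam]
    · exact Cfsg.Agent.Lib.PLocal.MulChar.mulProp_of_str hs x y χ hx hy hord

end Cfsg.Agent.S4756
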