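import Cfsg.Statements.S4757
import Cfsg.Agent.Lib.Blocks.Defect
import Cfsg.Agent.Lib.Transfer.Frobenius
import Cfsg.Agent.Lib.Cores.PCore
import Cfsg.Agent.Lib.BlockHeights.Extension

open Cfsg.Agent.Lib.Characters Cfsg.Agent.Lib
open scoped ComplexConjugate commutatorElement

set_option autoImplicit false
open Cfsg

namespace Cfsg.Agent.S4757

/-- Let u ≠ 1 be an element of the finite group G and c a complex number such that every non-principal irreducible character χ satisfies χ(1) − χ(u) = c or χ(u) = 0. Then the following are equivalent: (a) u has order 2, G is generated by u together with O(G), the largest normal subgroup of G of odd order, and the centralizer of u is {1, u}; (b) G is not perfect; (c) c = 2. -/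
theorem result {G : Type*} [Group G] [Finite G] (u : G) (hu : u ≠ 1) (c : ℂ) (hyp : ∀ χ : Cfsg.IrrCharacter G, (χ : G → ℂ) ≠ (fun _ => (1 : ℂ)) → ((χ : G → ℂ) 1 - (χ : G → ℂ) u = c ∨ (χ : G → ℂ) u = 0)) : ((orderOf u = 2 ∧ Subgroup.zpowers u ⊔ Cfsg.oddCore G = ⊤ ∧ Subgroup.centralizer ({u} : Set G) = Subgroup.zpowers u) ↔ commutator G ≠ ⊤) ∧ (commutator G ≠ ⊤ ↔ c = 2) := by
  classical
  haveI := Fintype.ofFinite G
  haveI := Fintype.ofFinite (IrrCharacter G)
  haveI : Fact (Nat.Prime 2) := ⟨Nat.prime_two⟩
  have hyp' : ∀ χ : IrrCharacter G, χ ≠ trivIrr G →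
      ((χ : G → ℂ) 1 - (χ : G → ℂ) u = c ∨ (χ : G → ℂ) u = 0) := fun χ hχ =>
    hyp χ (fun h => hχ (Subtype.ext h))
  -- column orthogonality of `u` and `1`
  have horth : ∑ χ : IrrCharacter G, (χ : G → ℂ) u * conj ((χ : G → ℂ) 1) = 0 := by
    rw [sum_irr_mul_conj u 1, if_neg (fun h => hu (isConj_one_left.1 h))]
  have hdeg : ∀ χ : IrrCharacter G, ∃ d : ℕ, 0 < d ∧ (χ : G → ℂ) 1 = (d : ℂ) := fun χ =>
    IsIrrCharacter.exists_apply_one χ.2
  choose d hd0 hd using hdeg
  simp only [hd, map_natCast] at horth
  have hd1 : d (trivIrr G) = 1 := Nat.cast_injective (R := ℂ) (by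
    rw [← hd, trivIrr_apply, Nat.cast_one])
  -- `c = 2` forces an imperfect group
  have h2 : c = 2 → commutator G ≠ ⊤ := by
    intro hc htop
    have hlin : ∀ χ : IrrCharacter G, χ ≠ trivIrr G → 2 ≤ d χ := by
      intro χ hne
      by_contra hlt
      have h1 : (χ : G → ℂ) 1 = 1 := by
        rw [hd, show d χ = 1 by have := hd0 χ; omega, Nat.cast_one]
      refine hne (Subtype.ext (funext fun g => ?_))
      rw [trivIrr_apply, IsCharacter.apply_of_mem_commutator (irr_isCharacter χ) h1
        (g := g) (htop ▸ Subgroup.mem_top g)]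
    rw [← Finset.add_sum_erase _ _ (Finset.mem_univ (trivIrr G)), trivIrr_apply, hd1,
      Nat.cast_one, one_mul] at horth
    have hnn : ∀ χ ∈ (Finset.univ : Finset (IrrCharacter G)).erase (trivIrr G),
        0 ≤ ((χ : G → ℂ) u * (d χ : ℂ)).re := by
      intro χ hχ
      have h2 := hlin χ (Finset.ne_of_mem_erase hχ)
      rcases hyp' χ (Finset.ne_of_mem_erase hχ) with h | h
      · have he : (χ : G → ℂ) u = (d χ : ℂ) - 2 := by
          rw [← hd, ← hc, ← h]; ring
        rw [he]
        have hd' : (2 : ℝ) ≤ (d χ : ℝ) := by exact_mod_cast h2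
        simp only [Complex.mul_re, Complex.sub_re, Complex.natCast_re, Complex.sub_im,
          Complex.natCast_im, Complex.re_ofNat, Complex.im_ofNat, sub_zero, mul_zero]
        nlinarith
      · simp [h]
    have h := congrArg Complex.re horth
    rw [Complex.add_re, Complex.re_sum] at h
    have := Finset.sum_nonneg hnn
    rw [Complex.one_re, Complex.zero_re] at h
    linarith
  -- an imperfect group has the stated structure and `c = 2`
  have h3 : commutator G ≠ ⊤ → (orderOf u = 2 ∧ Subgroup.zpowers u ⊔ oddCore G = ⊤ ∧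
      Subgroup.centralizer ({u} : Set G) = Subgroup.zpowers u) ∧ c = 2 := by
    intro hne
    have hidx : 2 ≤ (commutator G).index := by
      have h1 : (commutator G).index ≠ 1 := fun h => hne (Subgroup.index_eq_one.1 h)
      have h0 : (commutator G).index ≠ 0 := Subgroup.index_ne_zero_of_finite
      omega
    rw [← card_linear_irr, Nat.card_eq_fintype_card] at hidx
    set t : {χ : IrrCharacter G // (χ : G → ℂ) 1 = 1} := ⟨trivIrr G, trivIrr_apply 1⟩ with ht
    obtain ⟨⟨s, hs1⟩, hs⟩ := Fintype.exists_ne_of_one_lt_card (by omega) t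
    have hs0 : s ≠ trivIrr G := fun h => hs (Subtype.ext h)
    obtain ⟨l, hl⟩ := IsCharacter.exists_hom_of_apply_one (irr_isCharacter s) hs1
    -- the values of the nontrivial linear characters at `u`
    have hlin : ∀ χ : IrrCharacter G, χ ≠ trivIrr G → (χ : G → ℂ) 1 = 1 →
        (χ : G → ℂ) u = 1 - c := by
      intro χ hχ h1
      rcases hyp' χ hχ with h | h
      · rw [← h, h1]; ring
      · obtain ⟨m, hm⟩ := IsCharacter.exists_hom_of_apply_one (irr_isCharacter χ) h1
        rw [hm] at h; exact absurd h (Units.ne_zero _)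
    have hc0 : c ≠ 0 := by
      intro hc
      have hnn : ∀ χ ∈ (Finset.univ : Finset (IrrCharacter G)).erase (trivIrr G),
          0 ≤ ((χ : G → ℂ) u * (d χ : ℂ)).re := by
        intro χ hχ
        rcases hyp' χ (Finset.ne_of_mem_erase hχ) with h | h
        · rw [hc, sub_eq_zero] at h
          rw [← h, hd, ← Nat.cast_mul, Complex.natCast_re]
          positivity
        · simp [h]
      rw [← Finset.add_sum_erase _ _ (Finset.mem_univ (trivIrr G)), trivIrr_apply, hd1,
        Nat.cast_one, one_mul] at horth
      have h := congrArg Complex.re horth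
      rw [Complex.add_re, Complex.re_sum] at h
      have := Finset.sum_nonneg hnn
      rw [Complex.one_re, Complex.zero_re] at h
      linarith
    -- the square of `s` is trivial
    let sq : IrrCharacter G := ⟨_, isIrrCharacter_unitsHom (l ^ 2)⟩
    have hsq : sq = trivIrr G := by
      by_contra h
      have h1 := hlin sq h (by simp [sq])
      have h2 := hlin s hs0 hs1
      have h3 : (sq : G → ℂ) u = (s : G → ℂ) u ^ 2 := by simp [sq, hl]
      rw [h1, h2] at h3
      have h4 : (1 - c) = 1 := by
        have hne' : (1 - c) ≠ 0 := by rw [← h2, hl]; exact Units.ne_zero _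
        exact mul_left_cancel₀ hne' (by rw [mul_one]; linear_combination -h3)
      exact hc0 (by linear_combination -h4)
    have hl2 : ∀ g, (s : G → ℂ) g ^ 2 = 1 := fun g => by
      have h := congrArg (fun χ : IrrCharacter G => (χ : G → ℂ) g) hsq
      simpa [sq, hl] using h
    have hsu : (s : G → ℂ) u = -1 := by
      rcases (sq_eq_one_iff.1 (hl2 u)) with h | h
      · have h' := hlin s hs0 hs1
        rw [h] at h'
        exact absurd (by linear_combination h' : c = 0) hc0
      · exact h
    have hc : c = 2 := by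
      have := hlin s hs0 hs1
      rw [hsu] at this
      linear_combination this
    -- all other characters vanish at `u`
    have hvan : ∀ χ : IrrCharacter G, χ ≠ trivIrr G → χ ≠ s → (χ : G → ℂ) u = 0 := by
      intro χ h1 h2'
      by_contra hne'
      have hval : (χ : G → ℂ) u = (d χ : ℂ) - 2 := by
        have := (hyp' χ h1).resolve_right hne'
        rw [hd, hc] at this
        linear_combination -this
      let χs : IrrCharacter G := ⟨_, BlockHeights.isIrrCharacter_mul_unitsHom χ l⟩
      have hχs : ∀ g, (χs : G → ℂ) g = (χ : G → ℂ) g * (s : G → ℂ) g := fun g => by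
        simp [χs, hl]
      have hne1 : χs ≠ trivIrr G := by
        intro h
        refine h2' (Subtype.ext (funext fun g => ?_))
        have hg := congrArg (fun ψ : IrrCharacter G => (ψ : G → ℂ) g) h
        simp only [trivIrr_apply, hχs] at hg
        calc (χ : G → ℂ) g = (χ : G → ℂ) g * (s : G → ℂ) g ^ 2 := by rw [hl2, mul_one]
          _ = (s : G → ℂ) g := by rw [pow_two, ← mul_assoc, hg, one_mul]
      have hzero : (d χ : ℂ) = 2 := by
        rcases hyp' χs hne1 with h | h
        · rw [hχs, hχs, hs1, hsu, hval, hd, hc] at h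
          linear_combination h / 2
        · rw [hχs, hsu] at h
          exact absurd (by linear_combination -h : (χ : G → ℂ) u = 0) hne'
      exact hne' (by rw [hval, hzero, sub_self])
    -- the centralizer of `u` has order two
    have hC : Nat.card (Subgroup.centralizer ({u} : Set G)) = 2 := by
      have h := sum_irr_mul_conj u u
      rw [if_pos (IsConj.refl u), ← Finset.sum_subset (Finset.subset_univ {trivIrr G, s})
        (fun χ _ hχ => by
          simp only [Finset.mem_insert, Finset.mem_singleton, not_or] at hχ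
          rw [hvan χ hχ.1 hχ.2, zero_mul]),
        Finset.sum_pair hs0.symm, trivIrr_apply, hsu] at h
      simp at h
      exact_mod_cast (show (Nat.card (Subgroup.centralizer ({u} : Set G)) : ℂ) = ((2 : ℕ) : ℂ) by
        rw [Nat.card_eq_fintype_card, ← h]; norm_num)
    have huC : u ∈ Subgroup.centralizer ({u} : Set G) := Subgroup.mem_centralizer_singleton_iff.2 rfl
    have hord : orderOf u = 2 := ((Nat.dvd_prime Nat.prime_two).1
      (hC ▸ Subgroup.orderOf_dvd_natCard _ huC)).resolve_left fun h => hu (orderOf_eq_one_iff.1 h)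
    have hCu : Subgroup.centralizer ({u} : Set G) = Subgroup.zpowers u :=
      (Subgroup.eq_of_le_of_card_ge ((Subgroup.zpowers_le).2 huC)
        (by rw [Nat.card_zpowers, hord, hC])).symm
    refine ⟨⟨hord, ?_, hCu⟩, hc⟩
    -- a Sylow 2-subgroup has order two
    have hQ : IsPGroup 2 (Subgroup.zpowers u) :=
      IsPGroup.of_card (n := 1) (by rw [Nat.card_zpowers, hord, pow_one])
    obtain ⟨P, hP⟩ := hQ.exists_le_sylow
    haveI : Nontrivial (P : Subgroup G) :=
      ⟨⟨u, hP (Subgroup.mem_zpowers u)⟩, 1, fun h => hu (congrArg Subtype.val h)⟩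
    obtain ⟨⟨z, hz⟩, hzne⟩ : ∃ z : Subgroup.center (P : Subgroup G), z ≠ 1 :=
      haveI := P.2.center_nontrivial
      exists_ne 1
    have hzu : (z : G) = u := by
      have hmem : (z : G) ∈ Subgroup.centralizer ({u} : Set G) :=
        Subgroup.mem_centralizer_singleton_iff.2
          (congrArg Subtype.val (Subgroup.mem_center_iff.1 hz ⟨u, hP (Subgroup.mem_zpowers u)⟩)).symm
      rw [hCu] at hmem
      obtain ⟨k, hk⟩ := Subgroup.mem_zpowers_iff.1 hmem
      rcases Int.emod_two_eq_zero_or_one k with h | h
      · exfalso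
        refine hzne (Subtype.ext (Subtype.ext ?_))
        rw [← zpow_mod_orderOf, hord, Nat.cast_two, h, zpow_zero] at hk
        exact hk.symm
      · rw [← zpow_mod_orderOf, hord, Nat.cast_two, h, zpow_one] at hk
        exact hk.symm
    have hPu : (P : Subgroup G) = Subgroup.zpowers u := by
      refine le_antisymm (fun x hx => ?_) hP
      rw [← hCu, Subgroup.mem_centralizer_singleton_iff, ← hzu]
      exact congrArg Subtype.val (Subgroup.mem_center_iff.1 hz ⟨x, hx⟩)
    have hburn : Subgroup.normalizer ((P : Subgroup G) : Set G) ≤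
        Subgroup.centralizer ((P : Subgroup G) : Set G) := by
      intro g hg
      rw [hPu] at hg ⊢
      have hgu : g * u * g⁻¹ = u := by
        have := (Subgroup.mem_normalizer_iff.1 hg u).1 (Subgroup.mem_zpowers u)
        obtain ⟨k, hk⟩ := Subgroup.mem_zpowers_iff.1 this
        rcases Int.emod_two_eq_zero_or_one k with h | h
        · exfalso
          rw [← zpow_mod_orderOf, hord, Nat.cast_two, h, zpow_zero] at hk
          exact hu (conj_eq_one_iff.1 hk.symm)
        · rw [← zpow_mod_orderOf, hord, Nat.cast_two, h, zpow_one] at hk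
          exact hk.symm
      have hcomm : Commute g u := by
        calc g * u = g * u * g⁻¹ * g := by group
          _ = u * g := by rw [hgu]
      refine Subgroup.mem_centralizer_iff.2 fun x hx => ?_
      obtain ⟨k, rfl⟩ := Subgroup.mem_zpowers_iff.1 hx
      exact (hcomm.zpow_right k).eq.symm
    obtain ⟨P', N, hN, hcompl⟩ := Transfer.hasNormalPComplement_of_normalizer_le_centralizer P hburn
    have hP'c : Nat.card (P' : Subgroup G) = 2 := by
      rw [P'.card_eq_multiplicity, ← P.card_eq_multiplicity, hPu, Nat.card_zpowers, hord]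
    have hNodd : Odd (Nat.card N) := by
      have h1 : (P' : Subgroup G).index = Nat.card N := hcompl.index_eq_card
      have h2 := P'.not_dvd_index
      rw [h1] at h2
      exact Nat.odd_iff.2 (by omega)
    have hcard := hcompl.card_mul_card
    rw [hP'c] at hcard
    refine Subgroup.eq_top_of_card_eq _ (le_antisymm (Subgroup.card_le_card_group _) ?_)
    rw [← hcard]
    have hNle : N ≤ Subgroup.zpowers u ⊔ oddCore G :=
      (Cores.le_oddCore hN hNodd).trans le_sup_right
    refine Nat.le_of_dvd Nat.card_pos ((Nat.Coprime.mul_dvd_of_dvd_of_dvd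
      (Nat.coprime_two_right.2 hNodd) (Subgroup.card_dvd_of_le hNle) ?_))
    rw [← hord, ← Nat.card_zpowers]
    exact Subgroup.card_dvd_of_le le_sup_left
  -- the structure forces an imperfect group
  have h1 : (orderOf u = 2 ∧ Subgroup.zpowers u ⊔ oddCore G = ⊤ ∧
      Subgroup.centralizer ({u} : Set G) = Subgroup.zpowers u) → commutator G ≠ ⊤ := by
    rintro ⟨hord, htop, -⟩ hperf
    have hle : commutator G ≤ oddCore G := by
      rw [commutator_def, Subgroup.commutator_le]
      intro a _ b _
      have hgen : ∀ x : G, ∃ k : ℤ,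
          QuotientGroup.mk' (oddCore G) x = QuotientGroup.mk' (oddCore G) u ^ k := by
        intro x
        obtain ⟨y, hy, z, hz, rfl⟩ := (Subgroup.mem_sup_of_normal_right).1
          (htop ▸ Subgroup.mem_top x : x ∈ Subgroup.zpowers u ⊔ oddCore G)
        obtain ⟨k, rfl⟩ := Subgroup.mem_zpowers_iff.1 hy
        refine ⟨k, ?_⟩
        rw [map_mul, map_zpow,
          show QuotientGroup.mk' (oddCore G) z = 1 from (QuotientGroup.eq_one_iff z).2 hz, mul_one]
      obtain ⟨i, hi⟩ := hgen a
      obtain ⟨j, hj⟩ := hgen b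
      rw [← QuotientGroup.eq_one_iff]
      show QuotientGroup.mk' (oddCore G) ⁅a, b⁆ = 1
      rw [map_commutatorElement, hi, hj, commutatorElement_eq_one_iff_commute]
      exact (Commute.refl _).zpow_zpow i j
    rw [hperf, top_le_iff] at hle
    have hodd := Cores.odd_card_oddCore G
    rw [hle, Subgroup.card_top] at hodd
    have h2 : 2 ∣ Nat.card G := hord ▸ orderOf_dvd_natCard u
    rcases hodd with ⟨k, hk⟩
    omega
  exact ⟨⟨h1, fun h => (h3 h).1⟩, fun h => (h3 h).2, h2⟩

end Cfsg.Agent.S4757
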