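import Mathlib
import Cfsg.Statements.S4762
import Cfsg.Agent.Lib.Characters.Extraspecial
import Cfsg.Agent.Lib.Characters.Ito
import Cfsg.Agent.Lib.BlockHeights.Extension
import Cfsg.Agent.Lib.BlockHeights.CharTools
import Cfsg.Agent.Lib.Cores.PCore
import Cfsg.Agent.Lib.Cores.Frattini
import Cfsg.Agent.Lib.LocalEven.Subnormal

set_option autoImplicit false
open Cfsg

namespace Cfsg.Agent.S4762

open Cfsg.Agent.Lib
open Cfsg.Agent.Lib.Characters

/-- Let p be a prime and G a finite nilpotent group. Then G has exactly one irreducible complex character of degree divisible by p if and only if p = 2 and G is an extraspecial 2-group. -/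
theorem result {G : Type*} [Group G] [Finite G] [Group.IsNilpotent G] (p : ℕ) [Fact p.Prime] : Nat.card {χ : Cfsg.IrrCharacter G // p ∣ Cfsg.charDegree (χ : G → ℂ)} = 1 ↔ (p = 2 ∧ Cfsg.IsExtraspecial 2 G) := by
  classical
  haveI := Fintype.ofFinite G
  haveI := Fintype.ofFinite (Cfsg.IrrCharacter G)
  have hp : p.Prime := Fact.out
  have hdeg : ∀ χ : Cfsg.IrrCharacter G, ∃ d : ℕ, 0 < d ∧ (χ : G → ℂ) 1 = (d : ℂ) ∧
      Cfsg.charDegree (χ : G → ℂ) = d ∧ d ∣ Nat.card G := fun χ => by
    obtain ⟨d, hd0, hd⟩ := IsIrrCharacter.exists_apply_one χ.2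
    have h := BlockHeights.charDegree_of_apply_one hd
    exact ⟨d, hd0, hd, h, h ▸ BlockHeights.charDegree_dvd_card χ⟩
  set L := Finset.univ.filter fun χ : Cfsg.IrrCharacter G => (χ : G → ℂ) 1 = 1 with hL
  have hLcard : L.card = (commutator G).index := by
    rw [← card_linear_irr (G := G), Nat.card_eq_fintype_card, Fintype.card_subtype]
  have hsum := sum_degree_sq (G := G)
  rw [← Finset.sum_compl_add_sum L] at hsum
  have hLsum : ∑ χ ∈ L, (χ : G → ℂ) 1 ^ 2 = ((commutator G).index : ℂ) := by
    rw [Finset.sum_congr rfl fun χ hχ => by rw [(Finset.mem_filter.mp hχ).2, one_pow],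
      Finset.sum_const, nsmul_eq_mul, mul_one, hLcard]
  rw [hLsum] at hsum
  have hidx : Nat.card (commutator G) * (commutator G).index = Nat.card G :=
    Subgroup.card_mul_index _
  constructor
  · intro h1
    obtain ⟨⟨χ, hχd⟩, huniq⟩ := (Nat.card_eq_one_iff_exists).mp h1
    obtain ⟨d, hd0, hd1, hdd, hddvd⟩ := hdeg χ
    have huniq' : ∀ ψ : Cfsg.IrrCharacter G, p ∣ Cfsg.charDegree (ψ : G → ℂ) → ψ = χ :=
      fun ψ h => congrArg Subtype.val (huniq ⟨ψ, h⟩)
    have hχ1 : (χ : G → ℂ) 1 ≠ 0 := IsIrrCharacter.apply_one_ne_zero χ.2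
    -- `χ` vanishes outside the derived group
    have hvan : ∀ g, g ∉ commutator G → (χ : G → ℂ) g = 0 := by
      intro g hg
      haveI : Finite (Abelianization G) :=
        Finite.of_surjective _ (QuotientGroup.mk_surjective (s := commutator G))
      have hg' : Abelianization.of g ≠ 1 := fun e => hg ((QuotientGroup.eq_one_iff g).mp e)
      obtain ⟨ξ, hξ⟩ := exists_irr_ne_apply_one hg'
      have hξ1 : (ξ : Abelianization G → ℂ) 1 = 1 := IsIrrCharacter.apply_one_of_comm mul_comm ξ.2
      obtain ⟨lam, hlam⟩ := IsCharacter.exists_hom_of_apply_one (irr_isCharacter ξ) hξ1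
      set mu := lam.comp Abelianization.of with hmu
      have h2 : BlockHeights.twistIrr χ mu = χ := by
        apply huniq'
        rw [BlockHeights.charDegree_of_apply_one (n := d) (by
          rw [BlockHeights.twistIrr_apply, map_one, Units.val_one, mul_one, hd1]), ← hdd]
        exact hχd
      have h3 := congrFun (congrArg Subtype.val h2) g
      have h4 : (χ : G → ℂ) g * (mu g : ℂ) = (χ : G → ℂ) g := h3
      by_contra h0
      have h5 : (mu g : ℂ) = 1 := mul_left_cancel₀ h0 (h4.trans (mul_one _).symm)
      apply hξ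
      rw [hξ1, hlam]
      exact h5
    -- the Sylow `p`-subgroup
    obtain ⟨P⟩ : Nonempty (Sylow p G) := inferInstance
    have hPn : (P : Subgroup G).Normal :=
      P.normal_of_normalizerCondition Group.normalizerCondition_of_isNilpotent
    set K := Cfsg.pPrimeCore p G with hK
    have hKn : K.Normal := (Cores.pPrimeCore_mem p G).1
    have hKp : ¬ p ∣ Nat.card K := Cores.not_dvd_card_pPrimeCore
    obtain ⟨a, ha⟩ : ∃ a, K.index = p ^ a := by
      refine ⟨_, Nat.eq_prime_pow_of_unique_prime_dvd Subgroup.index_ne_zero_of_finite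
        fun {q} hq hqd => ?_⟩
      by_contra hqp
      haveI : Fact q.Prime := ⟨hq⟩
      obtain ⟨Q⟩ : Nonempty (Sylow q G) := inferInstance
      have hQn : (Q : Subgroup G).Normal :=
        Q.normal_of_normalizerCondition Group.normalizerCondition_of_isNilpotent
      obtain ⟨j, hj⟩ := Q.isPGroup'.exists_card_eq
      have hle : (Q : Subgroup G) ≤ K := Cores.le_pPrimeCore hQn (by
        rw [hj]; exact Nat.Coprime.pow_left _ ((Nat.coprime_primes hq hp).mpr hqp))
      exact Q.not_dvd_index (hqd.trans (Subgroup.index_dvd_of_le hle))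
    -- `G / K` is non-abelian
    obtain ⟨ψ₀, hψ₀⟩ : ∃ ψ₀ : Cfsg.IrrCharacter (G ⧸ K), (ψ₀ : G ⧸ K → ℂ) 1 ≠ 1 := by
      by_contra hall
      push Not at hall
      have hcomm := comm_iff_forall_irr_one.mpr hall
      have hab : ∀ x ∈ (P : Subgroup G), ∀ y ∈ (P : Subgroup G), x * y = y * x := by
        intro x hx y hy
        have hm : x * y * x⁻¹ * y⁻¹ ∈ K := by
          rw [← QuotientGroup.eq_one_iff]
          simp only [QuotientGroup.mk_mul, QuotientGroup.mk_inv]
          rw [hcomm (x : G ⧸ K) y]
          group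
        have hb : (P : Subgroup G) ⊓ K = ⊥ := by
          obtain ⟨j, hj⟩ := P.isPGroup'.exists_card_eq
          exact Subgroup.inf_eq_bot_of_coprime (by
            rw [hj]; exact Nat.Coprime.pow_left _ (hp.coprime_iff_not_dvd.mpr hKp))
        have h2 : x * y * x⁻¹ * y⁻¹ ∈ (P : Subgroup G) ⊓ K :=
          Subgroup.mem_inf.mpr ⟨mul_mem (mul_mem (mul_mem hx hy) (inv_mem hx)) (inv_mem hy), hm⟩
        rw [hb, Subgroup.mem_bot] at h2
        calc x * y = (x * y * x⁻¹ * y⁻¹) * (y * x) := by group
          _ = y * x := by rw [h2, one_mul]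
      exact P.not_dvd_index ((hdd ▸ hχd).trans
        (IsIrrCharacter.degree_dvd_index_of_abelian χ.2 (P : Subgroup G) hab hd1))
    -- the corresponding character of `G` is `χ`
    obtain ⟨e, he0, he1⟩ := IsIrrCharacter.exists_apply_one ψ₀.2
    have hpe : p ∣ e := by
      have h2 : e ∣ p ^ a := by
        rw [← ha, Subgroup.index_eq_card, ← BlockHeights.charDegree_of_apply_one he1]
        exact BlockHeights.charDegree_dvd_card ψ₀
      obtain ⟨j, -, hj⟩ := (Nat.dvd_prime_pow hp).mp h2
      rcases j with _ | j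
      · exact absurd (by rw [he1, hj, pow_zero, Nat.cast_one]) hψ₀
      · exact hj ▸ dvd_pow_self p (Nat.succ_ne_zero j)
    have hinf : ∀ g, (χ : G → ℂ) g = (ψ₀ : G ⧸ K → ℂ) (QuotientGroup.mk' K g) := by
      have hirr := IsIrrCharacter.comp_surjective ψ₀.2 (QuotientGroup.mk' K) (QuotientGroup.mk'_surjective K)
      have h2 := huniq' ⟨_, hirr⟩ (by
        rw [BlockHeights.charDegree_of_apply_one (n := e) (by
          show (ψ₀ : G ⧸ K → ℂ) (QuotientGroup.mk' K 1) = _
          rw [map_one, he1])]
        exact hpe)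
      exact fun g => (congrFun (congrArg Subtype.val h2) g).symm
    have hKG' : K ≤ commutator G := by
      intro k hk
      by_contra hk'
      have h2 := hvan k hk'
      rw [hinf, show QuotientGroup.mk' K k = 1 from (QuotientGroup.eq_one_iff k).mpr hk, he1] at h2
      exact he0.ne' (Nat.cast_eq_zero.mp h2)
    -- `G` is a `p`-group
    have hPtop : (P : Subgroup G) = ⊤ := by
      set π := QuotientGroup.mk' (P : Subgroup G) with hπ
      have hmap : K.map π = ⊤ := by
        suffices h : K ⊔ (P : Subgroup G) = ⊤ by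
          rw [← Subgroup.map_top_of_surjective π (QuotientGroup.mk'_surjective _), ← h,
            Subgroup.map_sup, hπ, QuotientGroup.map_mk'_self, sup_bot_eq]
        rw [← Subgroup.index_eq_one]
        refine Nat.eq_one_of_dvd_coprimes ?_ (Subgroup.index_dvd_of_le (H := K) le_sup_left)
          (Subgroup.index_dvd_of_le (H := (P : Subgroup G)) le_sup_right)
        rw [ha]
        exact Nat.Coprime.pow_left _ (hp.coprime_iff_not_dvd.mpr P.not_dvd_index)
      have hperf : commutator (G ⧸ (P : Subgroup G)) = ⊤ := by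
        rw [eq_top_iff, ← hmap, commutator_def]
        refine (Subgroup.map_mono hKG').trans ?_
        rw [commutator_def, Subgroup.map_commutator,
          Subgroup.map_top_of_surjective _ (QuotientGroup.mk'_surjective _)]
      have hsolv : Group.IsSolvable (G ⧸ (P : Subgroup G)) := inferInstance
      by_contra hne
      have : Nontrivial (G ⧸ (P : Subgroup G)) := QuotientGroup.nontrivial_iff.mpr hne
      exact (Group.IsSolvable.commutator_lt_top_of_nontrivial (G ⧸ (P : Subgroup G))).ne hperf
    have hGp : IsPGroup p G := by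
      have h2 := P.isPGroup'
      rw [hPtop] at h2
      exact h2.of_equiv Subgroup.topEquiv
    obtain ⟨n, hn⟩ := hGp.exists_card_eq
    -- the only nonlinear character
    have hcompl : Lᶜ = {χ} := by
      ext ψ
      rw [Finset.mem_compl, Finset.mem_filter, Finset.mem_singleton]
      constructor
      · intro hψ
        apply huniq'
        obtain ⟨c, -, hc1, hcd, hc⟩ := hdeg ψ
        rw [hn] at hc
        obtain ⟨j, -, hj⟩ := (Nat.dvd_prime_pow hp).mp hc
        rcases j with _ | j
        · exact absurd ⟨Finset.mem_univ _, by rw [hc1, hj, pow_zero, Nat.cast_one]⟩ hψ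
        · rw [hcd, hj]; exact dvd_pow_self p (Nat.succ_ne_zero j)
      · rintro rfl ⟨-, h⟩
        rw [hdd] at hχd
        rw [hd1] at h
        exact hp.ne_one (Nat.dvd_one.mp (Nat.cast_eq_one.mp h ▸ hχd))
    rw [hcompl, Finset.sum_singleton, hd1] at hsum
    have hsum' : d ^ 2 + (commutator G).index = Nat.card G := by exact_mod_cast hsum
    obtain ⟨c, hc⟩ := (hGp.to_subgroup (commutator G)).exists_card_eq
    obtain ⟨hp2, hc1⟩ : p = 2 ∧ c = 1 := by
      obtain ⟨b, -, hb⟩ := (Nat.dvd_prime_pow hp).mp (hn ▸ (commutator G).index_dvd_card)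
      obtain ⟨a', -, ha'⟩ := (Nat.dvd_prime_pow hp).mp (hn ▸ hddvd)
      rw [← hidx, hc, hb, ha'] at hsum'
      have h2 : p ^ b * (p ^ c - 1) = (p ^ a') ^ 2 := by
        rw [Nat.mul_sub, mul_one, mul_comm (p ^ b)]
        omega
      have hc0 : c ≠ 0 := by
        rintro rfl
        simp only [pow_zero, Nat.sub_self, mul_zero] at h2
        exact pow_ne_zero _ (pow_ne_zero _ hp.ne_zero) h2.symm
      have h3 : p ^ c - 1 ∣ p ^ (a' * 2) := by rw [pow_mul, ← h2]; exact dvd_mul_left _ _
      obtain ⟨j, -, hj⟩ := (Nat.dvd_prime_pow hp).mp h3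
      have hge : p ≤ p ^ c := Nat.le_self_pow hc0 p
      have hp2le := hp.two_le
      rcases j with _ | j
      · rw [pow_zero] at hj
        have hpc : p ^ c = 2 := by omega
        have hpp : p = 2 := by omega
        subst hpp
        exact ⟨rfl, Nat.pow_right_injective le_rfl (hpc.trans (pow_one 2).symm)⟩
      · exfalso
        have h4 : p ∣ p ^ c - 1 := hj ▸ dvd_pow_self p (Nat.succ_ne_zero j)
        have h5 : p ∣ p ^ c := dvd_pow_self p hc0
        have h6 := Nat.dvd_sub h5 h4
        rw [Nat.sub_sub_self (by omega)] at h6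
        exact hp.ne_one (Nat.dvd_one.mp h6)
    subst hp2
    rw [hc1, pow_one] at hc
    refine ⟨rfl, ?_⟩
    have hG1 : Nontrivial G := by
      rw [← Finite.one_lt_card_iff_nontrivial, ← hidx, hc]
      have := Nat.pos_of_ne_zero (Subgroup.index_ne_zero_of_finite (H := commutator G))
      omega
    have hcen : Subgroup.center G ≤ commutator G := by
      intro z hz
      by_contra hz'
      have h2 := sum_irr_mul_conj z z
      have hcz : Subgroup.centralizer ({z} : Set G) = ⊤ := by
        ext x
        simp only [Subgroup.mem_centralizer_singleton_iff, Subgroup.mem_top, iff_true]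
        exact (Subgroup.mem_center_iff.mp hz x)
      rw [if_pos (IsConj.refl z), hcz, Subgroup.card_top, ← Finset.sum_compl_add_sum L, hcompl,
        Finset.sum_singleton, hvan z hz', zero_mul, zero_add,
        Finset.sum_congr rfl (g := fun _ => (1 : ℂ)) fun ψ hψ => by
          obtain ⟨lam, hlam⟩ := IsCharacter.exists_hom_of_apply_one (irr_isCharacter ψ)
            (Finset.mem_filter.mp hψ).2
          rw [hlam, mul_comm]
          exact BlockHeights.conj_unitsHom_mul lam z,
        Finset.sum_const, nsmul_eq_mul, mul_one, hLcard] at h2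
      have h3 : (commutator G).index = Nat.card G := by exact_mod_cast h2
      have : d ^ 2 = 0 := by omega
      exact hd0.ne' (pow_eq_zero_iff (by norm_num) |>.mp this)
    haveI := hGp.center_nontrivial
    have hZ : Subgroup.center G = commutator G := by
      refine Subgroup.eq_of_le_of_card_ge hcen ?_
      rw [hc]
      exact Finite.one_lt_card
    refine ⟨⟨hGp, le_antisymm ?_ ?_, hZ.symm⟩, hZ ▸ hc⟩
    · refine LocalEven.frattini_le_of_quotient_elementary (p := 2) hZ.ge fun x => ?_
      rw [Subgroup.mem_center_iff]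
      intro y
      set c := x * y * x⁻¹ * y⁻¹ with hcdef
      have hcm : c ∈ commutator G := by
        rw [commutator_def]
        exact Subgroup.commutator_mem_commutator (Subgroup.mem_top x) (Subgroup.mem_top y)
      have hcc : c ∈ Subgroup.center G := hZ ▸ hcm
      have hc2 : c * c = 1 := by
        have h := pow_card_eq_one' (x := (⟨c, hcm⟩ : commutator G))
        rw [hc] at h
        rw [← sq]
        exact congrArg Subtype.val h
      calc y * x ^ 2 = (c * c) * (y * x ^ 2) := by rw [hc2, one_mul]
        _ = c * (x * y * x⁻¹) * x ^ 2 := by rw [hcdef]; group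
        _ = c * x * (y * x) := by rw [sq]; group
        _ = x * c * (y * x) := by rw [Subgroup.mem_center_iff.mp hcc x]
        _ = x ^ 2 * y := by rw [hcdef, sq]; group
    · exact hZ ▸ Cores.commutator_le_frattini
  · rintro ⟨rfl, hE⟩
    have hE' := hE
    obtain ⟨⟨hGp, -, hcomm⟩, hcard⟩ := hE'
    have hidx2 : 2 * (commutator G).index = Nat.card G := by rw [← hidx, hcomm, hcard]
    obtain ⟨n, hn⟩ := hGp.exists_card_eq
    have hnl : ∀ ψ : Cfsg.IrrCharacter G, ψ ∈ Lᶜ → (ψ : G → ℂ) 1 ^ 2 = ((commutator G).index : ℂ) := by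
      intro ψ hψ
      rcases IsIrrCharacter.degree_sq_of_extraspecial hE ψ.2 with h | h
      · exact (Finset.mem_compl.mp hψ (by rw [hL]; exact Finset.mem_filter.mpr ⟨Finset.mem_univ _, h⟩)).elim
      · rw [← hidx2, Nat.cast_mul, mul_comm ((2 : ℕ) : ℂ)] at h
        exact mul_right_cancel₀ (by norm_num) h
    rw [Finset.sum_congr rfl hnl, Finset.sum_const, nsmul_eq_mul, ← hidx2] at hsum
    have hone : Lᶜ.card = 1 := by
      have h2 : Lᶜ.card * (commutator G).index + (commutator G).index = 2 * (commutator G).index := by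
        exact_mod_cast hsum
      have := Nat.pos_of_ne_zero (Subgroup.index_ne_zero_of_finite (H := commutator G))
      nlinarith
    rw [Nat.card_eq_fintype_card, Fintype.card_subtype, ← hone]
    congr 1
    ext ψ
    obtain ⟨c, -, hc1, hcd, hc⟩ := hdeg ψ
    rw [Finset.mem_filter, Finset.mem_compl, Finset.mem_filter, hcd, hc1]
    simp only [Finset.mem_univ, true_and, Nat.cast_eq_one]
    rw [hn] at hc
    obtain ⟨j, -, rfl⟩ := (Nat.dvd_prime_pow Nat.prime_two).mp hc
    rcases j with _ | j
    · simp
    · exact iff_of_true (dvd_pow_self 2 (Nat.succ_ne_zero j))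
        (Nat.one_lt_pow (Nat.succ_ne_zero j) (by norm_num)).ne'

end Cfsg.Agent.S4762
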