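import Cfsg.Statements.S4763
import Cfsg.Agent.Lib.OneBadDegree.Basic
-- import your own Cfsg.Agent.* helpers here

set_option autoImplicit false
open Cfsg Cfsg.Agent.Lib

namespace Cfsg.Agent.S4763

/-- Let p be a prime and G a finite group that is not nilpotent and has a normal p-complement (a normal subgroup of order prime to p and index a power of p). If G has exactly one irreducible complex character of degree divisible by p, then G has exactly one conjugacy class whose size is divisible by p. -/
theorem result {G : Type*} [Group G] [Finite G] (p : ℕ) [Fact p.Prime] (hnil : ¬ Group.IsNilpotent G) (N : Subgroup G) [N.Normal] (hN : (Nat.card N).Coprime p) (hidx : ∃ k : ℕ, N.index = p ^ k) (hone : Nat.card {χ : Cfsg.IrrCharacter G // p ∣ Cfsg.charDegree (χ : G → ℂ)} = 1) : Nat.card {C : ConjClasses G // p ∣ Nat.card C.carrier} = 1 := by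
  classical
  haveI := Fintype.ofFinite G
  obtain ⟨k, hk⟩ := hidx
  have hpN : ¬ p ∣ Nat.card N := fun h => (Fact.out : p.Prime).ne_one (Nat.eq_one_of_dvd_coprimes hN h dvd_rfl)
  have hcop : (Nat.card N).Coprime N.index := hk ▸ Nat.Coprime.pow_right k hN
  obtain ⟨P⟩ : Nonempty (Sylow p G) := inferInstance
  have hPc : N.index = Nat.card (P : Subgroup G) := by
    rw [P.card_eq_multiplicity, ← Subgroup.card_mul_index N, hk,
      Nat.factorization_mul Nat.card_pos.ne' (pow_ne_zero _ (Fact.out : p.Prime).ne_zero)]
    simp only [Finsupp.coe_add, Pi.add_apply, Nat.factorization_eq_zero_of_not_dvd hpN, (Fact.out : p.Prime).factorization_pow, Finsupp.single_eq_same, zero_add]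
  have hcompl : Subgroup.IsComplement' N (P : Subgroup G) := by
    refine Subgroup.isComplement'_of_coprime ?_ (hPc ▸ hcop)
    rw [← hPc, Subgroup.card_mul_index]
  have hsup : N ⊔ (P : Subgroup G) = ⊤ := hcompl.sup_eq_top
  have hdis : N ⊓ (P : Subgroup G) = ⊥ := hcompl.disjoint.eq_bot
  by_cases hab : ∀ a b : (P : Subgroup G), a * b = b * a
  · have hA := OneBadDegree.card_classes_not_dvd N (P : Subgroup G) P.isPGroup' hpN hPc hsup hdis hab
    have hB : Nat.card {χ : IrrCharacter G // ¬ p ∣ charDegree (χ : G → ℂ)} =
        Nat.card {θ : IrrCharacter N // ∀ g : G, Characters.conjFun N g (θ : N → ℂ) = (θ : N → ℂ)} *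
          Nat.card (P : Subgroup G) := by
      have hL : Nat.card {l : G →* ℂˣ // ∀ k : N, l k = 1} = Nat.card (P : Subgroup G) := by
        rw [Glauberman.card_linear_of_complement N _ hsup hdis]
        letI : CommGroup (P : Subgroup G) := { (inferInstance : Group (P : Subgroup G)) with mul_comm := hab }
        haveI : NeZero (Monoid.exponent (P : Subgroup G)) := ⟨Monoid.exponent_ne_zero_of_finite⟩
        exact CommGroup.card_monoidHom_of_hasEnoughRootsOfUnity _ _
      rw [← hL, ← Glauberman.card_degree_coprime N hcop]
      refine Nat.card_congr (Equiv.subtypeEquivRight fun χ => ?_)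
      rw [hk]
      rcases Nat.eq_zero_or_pos k with rfl | hk0
      · refine ⟨fun _ => by simp, fun _ hd => hpN ?_⟩
        have := hd.trans (Blocks.charDegree_dvd_card χ)
        rwa [← Subgroup.card_mul_index N, hk, pow_zero, mul_one] at this
      · rw [Nat.coprime_pow_right_iff hk0, Nat.coprime_comm, (Fact.out : p.Prime).coprime_iff_not_dvd]
    haveI := Fintype.ofFinite (IrrCharacter G)
    haveI : Finite (ConjClasses G) := Finite.of_surjective _ ConjClasses.mk_surjective
    have h1 := Nat.card_congr (Equiv.sumCompl (fun χ : IrrCharacter G => p ∣ charDegree (χ : G → ℂ)))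
    have h2 := Nat.card_congr (Equiv.sumCompl (fun C : ConjClasses G => p ∣ Nat.card C.carrier))
    rw [Nat.card_sum] at h1 h2
    rw [← Characters.card_irrCharacter] at h2
    omega
  · exfalso
    have hbot := OneBadDegree.eq_bot_of_nonabelian N (P : Subgroup G) P.isPGroup' hcop hPc hsup hdis hab hone
    refine hnil (IsPGroup.isNilpotent (p := p) (IsPGroup.of_card (n := k) ?_))
    rw [← hk, hbot, Subgroup.index_bot]

end Cfsg.Agent.S4763
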