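import Cfsg.Statements.S4765
import Cfsg.Agent.Lib.OddChar.SL2.Degrees

set_option autoImplicit false
open Cfsg

namespace Cfsg.Agent.S4765

open Cfsg.Agent.Lib.OddChar.SL2 Cfsg.Agent.Lib.KnownA Cfsg.Agent.Lib.Characters
open scoped Classical

/-- Let F be a finite field of characteristic p with at least 4 elements. Then PSL(2,F) has exactly one irreducible complex character of degree divisible by p, and its degree is the order of F. -/
theorem result (p : ℕ) [Fact p.Prime] (F : Type*) [Field F] [Fintype F] [CharP F p] (hF : 4 ≤ Fintype.card F) : Nat.card {χ : Cfsg.IrrCharacter (Matrix.ProjectiveSpecialLinearGroup (Fin 2) F) // p ∣ Cfsg.charDegree (χ : Matrix.ProjectiveSpecialLinearGroup (Fin 2) F → ℂ)} = 1 ∧ ∀ χ : Cfsg.IrrCharacter (Matrix.ProjectiveSpecialLinearGroup (Fin 2) F), p ∣ Cfsg.charDegree (χ : Matrix.ProjectiveSpecialLinearGroup (Fin 2) F → ℂ) → Cfsg.charDegree (χ : Matrix.ProjectiveSpecialLinearGroup (Fin 2) F → ℂ) = Fintype.card F := by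
  classical
  have hp : p.Prime := Fact.out
  obtain ⟨n, -, hn⟩ := FiniteField.card F p
  have hpq : p ∣ Fintype.card F := hn ▸ dvd_pow_self p n.ne_zero
  obtain ⟨ψ₀, hψ₀⟩ := exists_psl (isIrr_steinSL (F := F)) steinSL_negOne
  have h0 : Cfsg.charDegree (ψ₀ : Matrix.ProjectiveSpecialLinearGroup (Fin 2) F → ℂ) = Fintype.card F := by
    refine charDegree_natCast ?_
    have h := congrFun hψ₀ 1
    rw [steinSL_one] at h
    rw [h]; simp
  have key : ∀ χ : Cfsg.IrrCharacter (Matrix.ProjectiveSpecialLinearGroup (Fin 2) F),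
      p ∣ Cfsg.charDegree (χ : Matrix.ProjectiveSpecialLinearGroup (Fin 2) F → ℂ) → χ = ψ₀ := by
    intro χ hχ
    obtain ⟨hi, h1⟩ := inflate χ
    have hndvd : ∀ m, p ∣ m → m = Fintype.card F + 1 ∨ m = Fintype.card F - 1 → False := by
      intro m hm h
      have h1' : p ∣ 1 := by
        rcases h with rfl | rfl
        · exact (Nat.dvd_add_right hpq).mp hm
        · have := Nat.dvd_sub hpq hm
          rwa [Nat.sub_sub_self (by omega)] at this
      exact hp.not_dvd_one h1'
    rcases kinds_all hi with ⟨-, ⟨-, e⟩ | ⟨e, -⟩ | ⟨-, e⟩ | ⟨ho, e⟩⟩ | ⟨-, ⟨ho, e⟩ | e⟩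
    · rw [h1] at e
      rw [charDegree_natCast e] at hχ
      exact absurd hχ hp.not_dvd_one
    · refine Subtype.ext (funext fun x => ?_)
      obtain ⟨g, rfl⟩ := QuotientGroup.mk'_surjective _ x
      exact congrFun (e.trans hψ₀) g
    · rw [h1] at e
      rw [charDegree_natCast e] at hχ
      exact (hndvd _ hχ (Or.inl rfl)).elim
    · rw [h1] at e
      rw [charDegree_natCast e] at hχ
      have := Nat.odd_iff.mp ho
      exact (hndvd _ (hχ.mul_left 2) (Or.inl (by omega))).elim
    · rw [h1] at e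
      rw [charDegree_natCast e] at hχ
      have := Nat.odd_iff.mp ho
      exact (hndvd _ (hχ.mul_left 2) (Or.inr (by omega))).elim
    · rw [h1] at e
      rw [charDegree_natCast e] at hχ
      exact (hndvd _ hχ (Or.inr rfl)).elim
  refine ⟨Nat.card_eq_one_iff_exists.mpr ⟨⟨ψ₀, h0 ▸ hpq⟩, fun y => Subtype.ext (key y.1 y.2)⟩, fun χ hχ => ?_⟩
  rw [key χ hχ, h0]

end Cfsg.Agent.S4765
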