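import Cfsg.Statements.S4768
import Cfsg.Agent.Lib.Characters.PSolvableDegrees
import Cfsg.Agent.Lib.Characters.PPrimeDegree
import Cfsg.Agent.Lib.Characters.ExtensionChar
import Cfsg.Agent.Lib.Harada.Hall
import Cfsg.Agent.S1489

set_option autoImplicit false
open Cfsg

namespace Cfsg.Agent.S4768

open Cfsg.Agent.Lib.Characters
open scoped Pointwise

universe u

theorem derived_bound {m : ℕ} : ∀ {G : Type u} [Group G] [Finite G], Nat.card G = m →
    ∀ {p : ℕ} [Fact p.Prime], Cfsg.IsPSolvable p G → ∀ P : Sylow p G,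
    derivedSeries ↥(P : Subgroup G)
      (Nat.card {χ : Cfsg.IrrCharacter G // p ∣ Cfsg.charDegree (χ : G → ℂ)} + 1) = ⊥ := by
  induction m using Nat.strong_induction_on with
  | _ m ih =>
  intro G _ _ hm p _ hsolv P
  classical
  haveI := Fintype.ofFinite G
  have hp : p.Prime := Fact.out
  set n := Nat.card {χ : Cfsg.IrrCharacter G // p ∣ Cfsg.charDegree (χ : G → ℂ)} with hn
  -- the quotient step
  have hquot : ∀ (N : Subgroup G) [N.Normal], N ≠ ⊥ → ∃ n' ≤ n,
      (∀ x ∈ derivedSeries ↥(P : Subgroup G) (n' + 1), (x : G) ∈ N) ∧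
      (n' = n → ∀ χ : Cfsg.IrrCharacter G, p ∣ Cfsg.charDegree (χ : G → ℂ) →
        ∀ x ∈ N, (χ : G → ℂ) x = (χ : G → ℂ) 1) := by
    intro N _ hN
    have hlt : Nat.card (G ⧸ N) < m := by
      rw [← hm, Subgroup.card_eq_card_quotient_mul_card_subgroup N]
      exact lt_mul_of_one_lt_right Nat.card_pos (N.one_lt_card_iff_ne_bot.mpr hN)
    let π := QuotientGroup.mk' N
    let infl : {χ : Cfsg.IrrCharacter (G ⧸ N) // p ∣ Cfsg.charDegree (χ : G ⧸ N → ℂ)} →
        {χ : Cfsg.IrrCharacter G // p ∣ Cfsg.charDegree (χ : G → ℂ)} := fun χ =>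
      ⟨⟨_, IsIrrCharacter.comp_surjective χ.1.2 π (QuotientGroup.mk'_surjective N)⟩, by
        have h := χ.2
        simpa [Cfsg.charDegree] using h⟩
    have hinj : Function.Injective infl := by
      intro a b h
      apply Subtype.ext; apply Subtype.ext
      funext x
      obtain ⟨g, rfl⟩ := QuotientGroup.mk'_surjective N x
      exact congrFun (congrArg (fun c => (c.1 : G → ℂ)) h) g
    refine ⟨_, Nat.card_le_card_of_injective infl hinj, ?_, ?_⟩
    · have h1 := ih _ hlt rfl (isPSolvable_quotient_of N hsolv)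
        (P.mapSurjective (QuotientGroup.mk'_surjective N))
      let f : ↥(P : Subgroup G) →* ↥((P.mapSurjective (QuotientGroup.mk'_surjective N) :
          Sylow p (G ⧸ N)) : Subgroup (G ⧸ N)) :=
        (π.comp (P : Subgroup G).subtype).codRestrict _ fun x => by
          rw [Sylow.coe_mapSurjective]; exact Subgroup.mem_map_of_mem π x.2
      have hf : Function.Surjective f := by
        rintro ⟨y, hy⟩
        rw [Sylow.coe_mapSurjective] at hy
        obtain ⟨x, hx, rfl⟩ := hy
        exact ⟨⟨x, hx⟩, rfl⟩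
      intro x hx
      have h2 := map_derivedSeries_eq hf
        (Nat.card {χ : Cfsg.IrrCharacter (G ⧸ N) // p ∣ Cfsg.charDegree (χ : G ⧸ N → ℂ)} + 1)
      rw [h1] at h2
      have h3 : f x ∈ (⊥ : Subgroup _) := h2 ▸ Subgroup.mem_map_of_mem f hx
      exact (QuotientGroup.eq_one_iff (x : G)).mp (congrArg Subtype.val (Subgroup.mem_bot.mp h3))
    · intro heq χ hχ x hx
      have hbij := (Nat.bijective_iff_injective_and_card infl).mpr ⟨hinj, heq⟩
      obtain ⟨ψ, hψ⟩ := hbij.2 ⟨χ, hχ⟩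
      have h1 : ∀ g : G, (ψ.1 : G ⧸ N → ℂ) (π g) = (χ : G → ℂ) g := fun g =>
        congrFun (congrArg (fun c => (c.1 : G → ℂ)) hψ) g
      rw [← h1, ← h1, map_one]
      exact congrArg (ψ.1 : G ⧸ N → ℂ) ((QuotientGroup.eq_one_iff x).mpr hx)
  set K := Cfsg.pPrimeCore p G with hKdef
  by_cases hK : K = ⊥
  swap
  · obtain ⟨n', hn', hmem, -⟩ := hquot K hK
    have hKp : (Nat.card K).Coprime p := Cfsg.Agent.Lib.Cores.pPrimeCore_coprime p G
    rw [eq_bot_iff]
    intro x hx
    have hxK : (x : G) ∈ K := hmem x (derivedSeries_antitone _ (Nat.add_le_add_right hn' 1) hx)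
    obtain ⟨j, hj⟩ := IsPGroup.iff_orderOf.mp P.2 x
    rw [← Subgroup.orderOf_coe] at hj
    exact Subgroup.mem_bot.mpr (Subtype.ext (orderOf_eq_one_iff.mp (Nat.eq_one_of_dvd_coprimes
      (Nat.Coprime.pow_right j hKp) (Subgroup.orderOf_dvd_natCard K hxK) (dvd_of_eq hj))))
  have hCD := Cfsg.Agent.Lib.Blocks.centralizer_pCore_le_of_isPSolvable p hsolv hK
  set D := Cfsg.pCore p G with hDdef
  have hDP : D ≤ (P : Subgroup G) := Cfsg.Agent.Lib.Cores.pCore_le_sylow P
  by_cases hD : D = ⊥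
  · have htriv : ∀ g : G, g = 1 := fun g => by
      have : g ∈ D := hCD (by
        rw [Subgroup.mem_centralizer_iff]
        intro y hy
        rw [hD] at hy
        rw [show y = 1 from hy, one_mul, mul_one])
      rwa [hD, Subgroup.mem_bot] at this
    exact eq_bot_iff.mpr fun x _ => Subgroup.mem_bot.mpr (Subtype.ext (htriv _))
  -- the abelian normal `p`-subgroup
  have hDn : D.Normal := by rw [hDdef]; infer_instance
  let N : Subgroup G := (Subgroup.center D).map D.subtype
  haveI : N.Normal := inferInstanceAs ((Subgroup.center D).map D.subtype).Normal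
  have hND : N ≤ D := Subgroup.map_subtype_le _
  have hNp : IsPGroup p N := P.2.to_le (hND.trans hDP)
  have hNc : ∀ a ∈ N, ∀ b ∈ N, a * b = b * a := by
    rintro _ ⟨a, ha, rfl⟩ _ ⟨b, -, rfl⟩
    exact congrArg Subtype.val (Subgroup.mem_center_iff.mp ha b).symm
  have hN : N ≠ ⊥ := by
    haveI : Nontrivial D := (Subgroup.nontrivial_iff_ne_bot D).mpr hD
    haveI := (P.2.to_le hDP).center_nontrivial
    intro h
    exact (Subgroup.nontrivial_iff_ne_bot _).mp inferInstance
      ((Subgroup.map_eq_bot_iff_of_injective _ D.subtype_injective).mp h)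
  obtain ⟨n', hn', hmem, hker⟩ := hquot N hN
  -- the derived series of `P` stops one step after entering `N`
  have hstep : ∀ k, (∀ x ∈ derivedSeries ↥(P : Subgroup G) k, (x : G) ∈ N) →
      derivedSeries ↥(P : Subgroup G) (k + 1) = ⊥ := by
    intro k hk
    rw [derivedSeries_succ, Subgroup.commutator_eq_bot_iff_le_centralizer]
    intro x hx
    rw [Subgroup.mem_centralizer_iff]
    exact fun y hy => Subtype.ext (hNc _ (hk y hy) _ (hk x hx))
  rcases lt_or_eq_of_le hn' with hlt | rfl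
  · exact eq_bot_iff.mpr ((derivedSeries_antitone _ (by omega : n' + 1 + 1 ≤ n + 1)).trans
      (hstep _ hmem).le)
  rcases Nat.eq_zero_or_pos n with h0 | hpos
  · have hall : ∀ χ : Cfsg.IrrCharacter G, ¬ p ∣ Cfsg.charDegree (χ : G → ℂ) := by
      intro χ hχ
      haveI : IsEmpty {χ : Cfsg.IrrCharacter G // p ∣ Cfsg.charDegree (χ : G → ℂ)} :=
        (Nat.card_eq_zero.mp h0).resolve_right (not_infinite_iff_finite.mpr inferInstance)
      exact IsEmpty.false (⟨χ, hχ⟩ : {χ : Cfsg.IrrCharacter G // p ∣ Cfsg.charDegree (χ : G → ℂ)})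
    obtain ⟨-, hc⟩ := normal_abelian_sylow_of_degrees rfl hsolv hall P
    rw [h0, derivedSeries_succ, derivedSeries_zero, Subgroup.commutator_eq_bot_iff_le_centralizer]
    intro x _
    rw [Subgroup.mem_centralizer_iff]
    exact fun y _ => Subtype.ext (hc _ y.2 _ x.2)
  -- from here all characters nontrivial on `N` have degree prime to `p`
  have hgood : ∀ (χ : Cfsg.IrrCharacter G) (x : G), x ∈ N → (χ : G → ℂ) x ≠ (χ : G → ℂ) 1 →
      ¬ p ∣ Cfsg.charDegree (χ : G → ℂ) := fun χ x hx h hd => h (hker rfl χ hd x hx)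
  suffices hPN : ∀ x ∈ derivedSeries ↥(P : Subgroup G) 1, (x : G) ∈ N from
    eq_bot_iff.mpr ((derivedSeries_antitone _ (by omega : 1 + 1 ≤ n + 1)).trans (hstep _ hPN).le)
  -- a nontrivial linear character of `N`
  haveI := Fintype.ofFinite N
  obtain ⟨z, hz⟩ : ∃ z : N, z ≠ 1 := by
    haveI : Nontrivial N := (Subgroup.nontrivial_iff_ne_bot N).mpr hN
    exact exists_ne 1
  obtain ⟨θ, hθz⟩ := exists_irr_ne_apply_one hz
  have hθ1 : (θ : N → ℂ) 1 = 1 :=
    IsIrrCharacter.apply_one_of_comm (fun a b => Subtype.ext (hNc _ a.2 _ b.2)) θ.2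
  -- a constituent of the induced character
  have hind : indFun N (θ : N → ℂ) ≠ 0 := fun h0 => by
    have h1 := congrFun h0 1
    rw [indFun_one, hθ1] at h1
    simp [Subgroup.index_ne_zero_of_finite] at h1
  obtain ⟨χ, hχ⟩ := IsCharacter.exists_constituent (IsCharacter.indFun N (irr_isCharacter θ)) hind
  rw [classInner_indFun N _ (irr_isClassFunction χ)] at hχ
  have hχθ : classInner (fun x : N => (χ : G → ℂ) x) (θ : N → ℂ) ≠ 0 := fun h0 => hχ (by
    rw [← classInner_conj_symm, h0, map_zero])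
  have hpχ : ¬ p ∣ Cfsg.charDegree (χ : G → ℂ) := hgood χ z z.2 fun h => hθz
    (apply_eq_of_classInner_ne_zero (IsCharacter.restrict (irr_isCharacter χ) N) θ.2 hχθ (g := z) h)
  let T := inertia N (θ : N → ℂ)
  haveI := Fintype.ofFinite T
  have hNT : N ≤ T := le_inertia N (irr_isClassFunction θ)
  obtain ⟨ψ, hψ, hψχ, hψθ⟩ := exists_clifford_correspondent N χ.2 θ.2 hχθ T rfl hNT
  obtain ⟨e, -, he⟩ := IsIrrCharacter.exists_apply_one hψ
  have hχd : Cfsg.charDegree (χ : G → ℂ) = T.index * e := charDegree_eq_of_apply_one (by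
    rw [← hψχ, indFun_one, he]; push_cast; ring)
  rw [hχd] at hpχ
  have hTidx : ¬ p ∣ T.index := fun h => hpχ (h.mul_right _)
  have hpe : ¬ p ∣ e := fun h => hpχ (h.mul_left _)
  -- a conjugate of `P` inside `T`
  obtain ⟨a, ha⟩ := (P.2 : IsPGroup p ↥(P : Subgroup G)).nonempty_fixed_point_of_prime_not_dvd_card
    (G ⧸ T) (by rwa [← Subgroup.index_eq_card])
  obtain ⟨g, rfl⟩ := QuotientGroup.mk_surjective a
  have hgP : ∀ x ∈ (P : Subgroup G), g⁻¹ * x * g ∈ T := fun x hx => by
    have h1 : ((x * g : G) : G ⧸ T) = (g : G ⧸ T) := ha ⟨x, hx⟩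
    have h2 := QuotientGroup.eq.mp h1.symm
    rwa [← mul_assoc] at h2
  let Q : Sylow p G := g⁻¹ • P
  have hQ : ∀ x : G, x ∈ (Q : Subgroup G) ↔ g * x * g⁻¹ ∈ (P : Subgroup G) := by
    intro x
    rw [show ((Q : Sylow p G) : Subgroup G) = MulAut.conj g⁻¹ • (P : Subgroup G) from rfl,
      Subgroup.mem_pointwise_smul_iff_inv_smul_mem]
    simp [MulAut.smul_def]
  have hQT : (Q : Subgroup G) ≤ T := fun x hx => by
    have := hgP _ ((hQ x).mp hx)
    simpa [mul_assoc] using this
  have hNQ : N ≤ (Q : Subgroup G) := fun x hx =>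
    (hND.trans (Cfsg.Agent.Lib.Cores.pCore_le_sylow Q)) hx
  -- the extension of `θ` to `Q`
  let N' : Subgroup T := N.subgroupOf T
  haveI : N'.Normal := Subgroup.Normal.subgroupOf inferInstance T
  let Q' : Sylow p T := Q.subtype hQT
  have hQ'mem : ∀ t : T, t ∈ (Q' : Subgroup T) ↔ (t : G) ∈ (Q : Subgroup G) := fun t => Iff.rfl
  haveI := Fintype.ofFinite (Q' : Subgroup T)
  obtain ⟨μ, hμ, hμd⟩ := exists_constituent_not_dvd (p := p)
    (IsCharacter.restrict (IsIrrCharacter.isCharacter hψ) (Q' : Subgroup T)) (d := e) he hpe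
  obtain ⟨d, -, hd, hdd⟩ := IsIrrCharacter.exists_degree_dvd μ.2
  rw [charDegree_eq_of_apply_one hd] at hμd
  have hd1 : d = 1 := by
    obtain ⟨j, hj⟩ := IsPGroup.iff_card.mp Q'.2
    rw [hj] at hdd
    obtain ⟨i, -, hi⟩ := (Nat.dvd_prime_pow hp).mp hdd
    rcases Nat.eq_zero_or_pos i with rfl | hpos
    · simpa using hi
    · exact absurd (hi ▸ dvd_pow_self p hpos.ne') hμd
  subst hd1
  rw [Nat.cast_one] at hd
  haveI := Fintype.ofFinite N'
  let inc : N →* ↥(Q' : Subgroup T) := (Subgroup.inclusion hNT).codRestrict _ fun x =>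
    (hQ'mem _).mpr (hNQ x.2)
  have hμN : ∀ x : N, (μ : ↥(Q' : Subgroup T) → ℂ) (inc x) = (θ : N → ℂ) x := by
    obtain ⟨ζ, hζ, hdec⟩ := IsCharacter.exists_add_of_classInner_ne_zero
      (IsCharacter.restrict (IsIrrCharacter.isCharacter hψ) (Q' : Subgroup T)) μ.2 hμ
    have hinv : ∀ t : T, Cfsg.Agent.Lib.Characters.conjFun N' t (fun x : N' => (θ : N → ℂ) ⟨x.1.1, x.2⟩) =
        fun x : N' => (θ : N → ℂ) ⟨x.1.1, x.2⟩ := fun t => funext fun x =>
      congrFun ((mem_inertia_iff N).mp t.2) ⟨x.1.1, x.2⟩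
    have hμirr : IsIrrCharacter N ((μ : ↥(Q' : Subgroup T) → ℂ) ∘ inc) :=
      IsCharacter.isIrr_of_apply_one (IsCharacter.comp (irr_isCharacter μ) inc) (by simp [hd])
    have hne : classInner (fun x : N => ψ ⟨x, hNT x.2⟩) ((μ : ↥(Q' : Subgroup T) → ℂ) ∘ inc) ≠ 0 := by
      have heq : (fun x : N => ψ ⟨x, hNT x.2⟩) =
          (μ : ↥(Q' : Subgroup T) → ℂ) ∘ inc + ζ ∘ inc := funext fun x =>
        congrFun hdec (inc x)
      rw [heq]
      exact IsCharacter.classInner_ne_zero_of_add (IsIrrCharacter.isCharacter hμirr)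
        (IsCharacter.comp hζ inc) (IsIrrCharacter.isCharacter hμirr)
        (by rw [IsIrrCharacter.classInner_self hμirr]; exact one_ne_zero)
    have hrestr : (fun x : N => ψ ⟨x, hNT x.2⟩) =
        classInner (fun x : N => ψ ⟨x, hNT x.2⟩) (θ : N → ℂ) • (θ : N → ℂ) := by
      let eN : N' ≃* N := Subgroup.subgroupOfEquivOfLe hNT
      have h1 : classInner (fun x : N' => ψ x) ((θ : N → ℂ) ∘ eN) =
          classInner (fun x : N => ψ ⟨x, hNT x.2⟩) (θ : N → ℂ) := by
        rw [← classInner_comp_equiv eN]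
        rfl
      have h2 := restrict_eq_smul_of_invariant N' hψ (IsIrrCharacter.comp_equiv θ.2 eN) hinv
        (by rw [h1, hψθ]; exact hχθ)
      rw [h1] at h2
      funext x
      exact congrFun h2 ⟨⟨x, hNT x.2⟩, x.2⟩
    rw [hrestr, classInner_smul_left] at hne
    have h3 := (mul_ne_zero_iff.mp hne).2
    intro x
    by_contra hx
    refine h3 (IsIrrCharacter.classInner_ne θ.2 hμirr ?_)
    intro h4
    exact hx (congrFun h4 x).symm
  -- the extension of `θ` to `T`
  let lam : N' → ℂ := fun x => (θ : N → ℂ) ⟨x.1.1, x.2⟩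
  have hlam : IsCharacter N' lam :=
    IsCharacter.comp (irr_isCharacter θ) (Subgroup.subgroupOfEquivOfLe hNT).toMonoidHom
  obtain ⟨ν, hν, hν1, hνN⟩ := exists_linear_extension (N := N') hlam hθ1
    (fun t x => congrFun ((mem_inertia_iff N).mp t.2) ⟨x.1.1, x.2⟩) (fun q hq hdvd => by
      have hqp : q = p := by
        obtain ⟨l, hl⟩ := IsCharacter.exists_hom_of_apply_one hlam hθ1
        obtain ⟨j, hj⟩ := IsPGroup.iff_card.mp (hNp.comap_subtype : IsPGroup p N')
        have : lam ^ Nat.card N' = 1 := by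
          rw [hl]
          funext x
          have h5 : l x ^ Nat.card N' = 1 := by rw [← map_pow, pow_card_eq_one', map_one]
          simp only [Pi.pow_apply, Pi.one_apply, ← Units.val_pow_eq_pow_val, h5, Units.val_one]
        have h6 := hdvd.trans (orderOf_dvd_of_pow_eq_one this)
        replace h6 : q ∣ p ^ j := hj ▸ h6
        exact (Nat.prime_dvd_prime_iff_eq hq hp).mp (hq.dvd_of_dvd_pow h6)
      subst hqp
      exact ⟨(Q' : Subgroup T), fun x hx => (hQ'mem x).mpr (hNQ hx), μ, Q'.not_dvd_index,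
        irr_isCharacter μ, fun x => hμN ⟨x.1.1, x.2⟩⟩)
  obtain ⟨l, rfl⟩ := IsCharacter.exists_hom_of_apply_one hν hν1
  -- all degrees of `T ⧸ N` are prime to `p`
  have hdeg : ∀ β : Cfsg.IrrCharacter (T ⧸ N'), ¬ p ∣ Cfsg.charDegree (β : T ⧸ N' → ℂ) := by
    intro β
    obtain ⟨b, hb, hb'⟩ := IsIrrCharacter.exists_apply_one β.2
    let φ : T → ℂ := fun t => (l t : ℂ) * (β : T ⧸ N' → ℂ) (QuotientGroup.mk' N' t)
    have hφ : IsIrrCharacter T φ := isIrrCharacter_twist l
      (IsIrrCharacter.comp_surjective β.2 (QuotientGroup.mk' N') (QuotientGroup.mk'_surjective N'))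
    have hφN : ∀ x : N', φ x = (b : ℂ) * lam x := fun x => by
      show (l x : ℂ) * _ = _
      rw [show QuotientGroup.mk' N' (x : T) = 1 from (QuotientGroup.eq_one_iff _).mpr x.2, hb',
        ← hνN x, mul_comm]
    have hc : Cfsg.classInner (Cfsg.indFun (N.subgroupOf T)
        (fun x => (θ : N → ℂ) ⟨(x : T), Subgroup.mem_subgroupOf.mp x.2⟩)) φ ≠ 0 := by
      rw [classInner_indFun _ _ (IsCharacter.isClassFunction (IsIrrCharacter.isCharacter hφ))]
      rw [show (fun x : N.subgroupOf T => φ x) = ((b : ℂ) • lam) from funext hφN,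
        classInner_natCast_smul_right,
        IsIrrCharacter.classInner_self (IsCharacter.isIrr_of_apply_one hlam hθ1)]
      simpa using hb.ne'
    obtain ⟨hirr, -⟩ := Cfsg.Agent.S1489.result N T (θ : N → ℂ) θ.2
      (fun y => (mem_inertia_iff N).trans funext_iff) hNT φ φ hφ hφ hc hc
    have hinner : classInner (fun t : T => indFun T φ t) φ ≠ 0 := by
      have h7 := classInner_indFun T φ
        (IsCharacter.isClassFunction (IsIrrCharacter.isCharacter hirr))
      rw [IsIrrCharacter.classInner_self hirr] at h7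
      intro h8
      rw [← classInner_conj_symm, h8, map_zero] at h7
      exact one_ne_zero h7
    have hnd := hgood ⟨_, hirr⟩ z z.2 fun h => by
      have h9 := apply_eq_of_classInner_ne_zero
        (IsCharacter.restrict (IsIrrCharacter.isCharacter hirr) T) hφ hinner
        (g := ⟨z, hNT z.2⟩) h
      have h10 := hφN ⟨⟨z, hNT z.2⟩, z.2⟩
      have h11 : φ 1 = (b : ℂ) * 1 := (hφN 1).trans (congrArg _ hθ1)
      rw [h11] at h9
      exact hθz (((mul_left_cancel₀ (Nat.cast_ne_zero.mpr hb.ne') (h10.symm.trans h9))).trans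
        hθ1.symm)
    rw [charDegree_eq_of_apply_one (show indFun T φ 1 = ((T.index * b : ℕ) : ℂ) by
      rw [indFun_one, show φ 1 = (b : ℂ) by simp [φ, hb']]; push_cast; ring)] at hnd
    rw [charDegree_eq_of_apply_one hb']
    exact fun h => hnd (h.mul_left _)
  obtain ⟨-, hab⟩ := normal_abelian_sylow_of_degrees rfl
    (isPSolvable_quotient_of N' (Cfsg.Agent.Lib.Harada.isPSolvable_subgroup hsolv T)) hdeg
    (Q'.mapSurjective (QuotientGroup.mk'_surjective N'))
  -- back to `P`
  have hPN : ∀ x ∈ (P : Subgroup G), ∀ y ∈ (P : Subgroup G), x * y * x⁻¹ * y⁻¹ ∈ N := by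
    intro x hx y hy
    have hmem : ∀ w ∈ (P : Subgroup G), (g⁻¹ * w * g) ∈ (Q : Subgroup G) := fun w hw =>
      (hQ _).mpr (by simpa [mul_assoc] using hw)
    let x' : T := ⟨_, hQT (hmem x hx)⟩
    let y' : T := ⟨_, hQT (hmem y hy)⟩
    have h1 := hab (QuotientGroup.mk' N' x')
      (Subgroup.mem_map_of_mem _ ((hQ'mem x').mpr (hmem x hx)))
      (QuotientGroup.mk' N' y')
      (Subgroup.mem_map_of_mem _ ((hQ'mem y').mpr (hmem y hy)))
    have h2 : QuotientGroup.mk' N' (x' * y' * x'⁻¹ * y'⁻¹) = 1 := by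
      rw [map_mul, map_mul, map_mul, map_inv, map_inv, h1]
      group
    have h3 : ((x' * y' * x'⁻¹ * y'⁻¹ : T) : G) ∈ N :=
      Subgroup.mem_subgroupOf.mp ((QuotientGroup.eq_one_iff (N := N') (x' * y' * x'⁻¹ * y'⁻¹)).mp h2)
    have h4 := Subgroup.Normal.conj_mem (inferInstance : N.Normal) _ h3 g
    simpa [x', y', mul_assoc] using h4
  intro x hx
  have hle : derivedSeries ↥(P : Subgroup G) 1 ≤ N.subgroupOf (P : Subgroup G) := by
    rw [derivedSeries_succ, derivedSeries_zero, Subgroup.commutator_le]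
    intro a _ b _
    exact Subgroup.mem_subgroupOf.mpr (hPN _ a.2 _ b.2)
  exact hle hx

/-- Let p be a prime, G a finite p-solvable group and P a Sylow p-subgroup of G. If n is the number of irreducible complex characters of G whose degree is divisible by p, then the (n+1)-st term of the derived series of P is trivial. (The p-solvable case has a direct inductive proof.) -/
theorem result {G : Type*} [Group G] [Finite G] (p : ℕ) [Fact p.Prime] (hG : Cfsg.IsPSolvable p G) (P : Sylow p G) : derivedSeries ↥(P : Subgroup G) (Nat.card {χ : Cfsg.IrrCharacter G // p ∣ Cfsg.charDegree (χ : G → ℂ)} + 1) = ⊥ := by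
  exact derived_bound rfl hG P

end Cfsg.Agent.S4768
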