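import Cfsg.Statements.S4774
import Cfsg.Agent.Lib.OddChar.SL2.Degrees

set_option autoImplicit false
open Cfsg

namespace Cfsg.Agent.S4774

open Cfsg.Agent.Lib.OddChar.SL2

/-- Let F be a finite field of odd characteristic t with q > 5 elements and let S be isomorphic to PSL(2,F) or to SL(2,F). Then the vertices of the character degree graph of S are the primes dividing q(q²−1); the prime t is adjacent to no vertex; two distinct primes dividing q² − 1 are adjacent exactly when one of them is 2, or both divide q + 1, or both divide q − 1. -/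
theorem result (F : Type*) [Field F] [Fintype F] (t : ℕ) [Fact t.Prime] [CharP F t] (ht : t ≠ 2) (q : ℕ) (hq : Fintype.card F = q) (h5 : 5 < q) {S : Type*} [Group S] [Finite S] (hS : Nonempty (S ≃* Matrix.ProjectiveSpecialLinearGroup (Fin 2) F) ∨ Nonempty (S ≃* Matrix.SpecialLinearGroup (Fin 2) F)) : Cfsg.degreePrimes S = {r : ℕ | r.Prime ∧ r ∣ q * (q ^ 2 - 1)} ∧ ∀ r s : ℕ, (Cfsg.degreeGraph S).Adj r s ↔ (r ≠ s ∧ r.Prime ∧ s.Prime ∧ r ∣ q ^ 2 - 1 ∧ s ∣ q ^ 2 - 1 ∧ (r = 2 ∨ s = 2 ∨ (r ∣ q + 1 ∧ s ∣ q + 1) ∨ (r ∣ q - 1 ∧ s ∣ q - 1))) := by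
  classical
  subst hq
  have h4 : 4 ≤ Fintype.card F := by omega
  have h55 : Fintype.card F ≠ 5 := by omega
  refine ⟨degreePrimes_eq h4 h55 hS, fun r s => ?_⟩
  rw [degreeGraph_adj h4 h55 Fact.out hS r s]
  refine and_congr_right fun hne => and_congr_right fun hr => and_congr_right fun hs => ?_
  have hodd : Odd (Fintype.card F) := by
    obtain ⟨n, hp, hn⟩ := FiniteField.card F t
    rw [hn]
    exact (hp.odd_of_ne_two ht).pow
  have h2 : 2 ∣ Fintype.card F + 1 ∧ 2 ∣ Fintype.card F - 1 := by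
    have := Nat.odd_iff.mp hodd
    omega
  rw [sq_sub_one]
  constructor
  · rintro (⟨a, b⟩ | ⟨a, b⟩)
    · exact ⟨a.mul_right _, b.mul_right _, Or.inr (Or.inr (Or.inl ⟨a, b⟩))⟩
    · exact ⟨a.mul_left _, b.mul_left _, Or.inr (Or.inr (Or.inr ⟨a, b⟩))⟩
  · rintro ⟨ha, hb, rfl | rfl | h⟩
    · rcases hs.dvd_mul.mp hb with b | b
      · exact Or.inl ⟨h2.1, b⟩
      · exact Or.inr ⟨h2.2, b⟩
    · rcases hr.dvd_mul.mp ha with a | a
      · exact Or.inl ⟨a, h2.1⟩
      · exact Or.inr ⟨a, h2.2⟩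
    · exact h

end Cfsg.Agent.S4774
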