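import Cfsg.Statements.S4775
import Cfsg.Agent.Lib.KnownA.SuzukiDegrees

set_option autoImplicit false
open Cfsg Cfsg.Agent.Lib.KnownA Cfsg.Agent.Lib.Characters

namespace Cfsg.Agent.S4775

/-- Let F be a finite field with q = 2^(2m+1) ≥ 8 elements and let S be isomorphic to the Suzuki group over F. Then the vertices of the character degree graph of S are 2 and the primes dividing (q − 1)(q² + 1); the primes dividing (q − 1)(q² + 1) are pairwise adjacent, and 2 is adjacent exactly to the primes dividing q − 1. -/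
theorem result (F : Type*) [Field F] [Fintype F] (m : ℕ) (hm : 1 ≤ m) (q : ℕ) (hq : Fintype.card F = q) (hqm : q = 2 ^ (2 * m + 1)) {S : Type*} [Group S] [Finite S] (hS : Nonempty (S ≃* ↥(Cfsg.Lie.Sz F (2 ^ (m + 1))))) : Cfsg.degreePrimes S = {r : ℕ | r.Prime ∧ (r = 2 ∨ r ∣ (q - 1) * (q ^ 2 + 1))} ∧ ∀ r s : ℕ, (Cfsg.degreeGraph S).Adj r s ↔ (r ≠ s ∧ r.Prime ∧ s.Prime ∧ ((r ∣ (q - 1) * (q ^ 2 + 1) ∧ s ∣ (q - 1) * (q ^ 2 + 1)) ∨ (r = 2 ∧ s ∣ q - 1) ∨ (s = 2 ∧ r ∣ q - 1))) := by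
  have hF : Fintype.card F = 2 ^ (2 * m + 1) := hq.trans hqm
  haveI := Suz.charP_two (F := F) hF
  have hθ := Suz.th_sq (F := F) (m := m) hF
  obtain ⟨iso⟩ := hS
  have htr : Cfsg.charDegrees S = Cfsg.charDegrees ↥(Cfsg.Lie.Sz F (2 ^ (m + 1))) := by
    ext d
    constructor
    · rintro ⟨χ, rfl⟩
      refine ⟨⟨(χ : S → ℂ) ∘ iso.symm, IsIrrCharacter.comp_equiv χ.2 iso.symm⟩, ?_⟩
      simp [Cfsg.charDegree]
    · rintro ⟨χ, rfl⟩
      refine ⟨⟨(χ : _ → ℂ) ∘ iso, IsIrrCharacter.comp_equiv χ.2 iso⟩, ?_⟩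
      simp [Cfsg.charDegree]
  rw [Suz.degrees hθ hm hF, hq] at htr
  set A := 2 ^ (2 * m + 1) + 2 ^ (m + 1) + 1 with hA
  set B := 2 ^ (2 * m + 1) - 2 ^ (m + 1) + 1 with hB
  have hle : 2 ^ (m + 1) ≤ 2 ^ (2 * m + 1) := Nat.pow_le_pow_right (by norm_num) (by omega)
  have hAB : A * B = q ^ 2 + 1 := by
    obtain ⟨d, hd⟩ : ∃ d, 2 ^ (2 * m + 1) = 2 ^ (m + 1) + d := ⟨_, (Nat.add_sub_cancel' hle).symm⟩
    have h2 : 2 ^ (m + 1) * 2 ^ (m + 1) = 2 * 2 ^ (2 * m + 1) := by ring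
    rw [hA, hB, hqm, hd, Nat.add_sub_cancel_left]
    rw [hd] at h2
    nlinarith
  have h2m : 2 ∣ 2 ^ m := dvd_pow_self 2 (by omega)
  have hpk : ∀ {p k : ℕ}, p.Prime → p ∣ 2 ^ k → p = 2 := fun hp h =>
    (Nat.prime_dvd_prime_iff_eq hp Nat.prime_two).mp (hp.dvd_of_dvd_pow h)
  have hqq : q * q = 2 ^ (2 * (2 * m + 1)) := by rw [hqm]; ring
  have hq2 : q * q + 1 = q ^ 2 + 1 := by ring
  constructor
  · ext p
    simp only [Cfsg.degreePrimes, Set.mem_setOf_eq, htr, Set.mem_insert_iff, Set.mem_singleton_iff]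
    constructor
    · rintro ⟨hp, d, hd, hpd⟩
      refine ⟨hp, ?_⟩
      rcases hd with rfl | rfl | rfl | rfl | rfl | rfl
      · exact absurd (Nat.dvd_one.mp hpd) hp.ne_one
      · rw [hqq] at hpd; exact Or.inl (hpk hp hpd)
      · rw [hq2] at hpd; exact Or.inr (hpd.mul_left _)
      · exact Or.inr (hpd.trans (Nat.mul_dvd_mul_left _ (Dvd.intro B hAB)))
      · exact Or.inr (hpd.trans (Nat.mul_dvd_mul_left _ (Dvd.intro_left A hAB)))
      · rcases hp.dvd_mul.mp hpd with h | h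
        · exact Or.inr (h.mul_right _)
        · exact Or.inl (hpk hp h)
    · rintro ⟨hp, rfl | h⟩
      · exact ⟨hp, (q - 1) * 2 ^ m, by tauto, h2m.mul_left _⟩
      · rcases hp.dvd_mul.mp h with h | h
        · exact ⟨hp, (q - 1) * 2 ^ m, by tauto, h.mul_right _⟩
        · exact ⟨hp, q * q + 1, by tauto, hq2 ▸ h⟩
  · intro r s
    simp only [Cfsg.degreeGraph, htr, Set.mem_insert_iff, Set.mem_singleton_iff]
    refine and_congr_right fun hne => and_congr_right fun hr => and_congr_right fun hs => ?_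
    constructor
    · rintro ⟨d, hd, hpd⟩
      have hrd : r ∣ d := (dvd_mul_right r s).trans hpd
      have hsd : s ∣ d := (dvd_mul_left s r).trans hpd
      rcases hd with rfl | rfl | rfl | rfl | rfl | rfl
      · exact absurd (Nat.dvd_one.mp hrd) hr.ne_one
      · rw [hqq] at hrd hsd; exact absurd ((hpk hr hrd).trans (hpk hs hsd).symm) hne
      · rw [hq2] at hrd hsd; exact Or.inl ⟨hrd.mul_left _, hsd.mul_left _⟩
      · exact Or.inl ⟨hrd.trans (Nat.mul_dvd_mul_left _ (Dvd.intro B hAB)),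
          hsd.trans (Nat.mul_dvd_mul_left _ (Dvd.intro B hAB))⟩
      · exact Or.inl ⟨hrd.trans (Nat.mul_dvd_mul_left _ (Dvd.intro_left A hAB)),
          hsd.trans (Nat.mul_dvd_mul_left _ (Dvd.intro_left A hAB))⟩
      · rcases hr.dvd_mul.mp hrd with h1 | h1 <;> rcases hs.dvd_mul.mp hsd with h2 | h2
        · exact Or.inl ⟨h1.mul_right _, h2.mul_right _⟩
        · exact Or.inr (Or.inr ⟨hpk hs h2, h1⟩)
        · exact Or.inr (Or.inl ⟨hpk hr h1, h2⟩)
        · exact absurd ((hpk hr h1).trans (hpk hs h2).symm) hne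
    · have hco : Nat.Coprime r s := (Nat.coprime_primes hr hs).mpr hne
      have mixed : ∀ x y : ℕ, y.Prime → x ∣ q - 1 → y ∣ q ^ 2 + 1 →
          ∃ d, (d = (q - 1) * A ∨ d = (q - 1) * B) ∧ x * y ∣ d := by
        intro x y hy hx hyd
        rw [← hAB] at hyd
        rcases hy.dvd_mul.mp hyd with h | h
        · exact ⟨_, Or.inl rfl, Nat.mul_dvd_mul hx h⟩
        · exact ⟨_, Or.inr rfl, Nat.mul_dvd_mul hx h⟩
      rintro (⟨h1, h2⟩ | ⟨rfl, h⟩ | ⟨rfl, h⟩)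
      · rcases hr.dvd_mul.mp h1 with a | a <;> rcases hs.dvd_mul.mp h2 with b | b
        · exact ⟨(q - 1) * 2 ^ m, by tauto, (hco.mul_dvd_of_dvd_of_dvd a b).mul_right _⟩
        · obtain ⟨d, hd, hdd⟩ := mixed r s hs a b
          exact ⟨d, by tauto, hdd⟩
        · obtain ⟨d, hd, hdd⟩ := mixed s r hr b a
          exact ⟨d, by tauto, by rwa [mul_comm]⟩
        · exact ⟨q * q + 1, by tauto, hq2 ▸ hco.mul_dvd_of_dvd_of_dvd a b⟩
      · exact ⟨(q - 1) * 2 ^ m, by tauto, by rw [mul_comm (q - 1)]; exact Nat.mul_dvd_mul h2m h⟩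
      · exact ⟨(q - 1) * 2 ^ m, by tauto, Nat.mul_dvd_mul h h2m⟩

end Cfsg.Agent.S4775
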