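import Cfsg.Statements.S4776
import Cfsg.Agent.Lib.RelDegree.Graph

set_option autoImplicit false
open Cfsg

namespace Cfsg.Agent.S4776

/-- Let N be a normal subgroup of the finite group G that is not perfect and is contained in the derived subgroup of G. Consider the common-divisor graph on the relative degree set cd(G|N) (the degrees of the irreducible complex characters of G whose kernel does not contain N; two distinct degrees adjacent when they have a common divisor greater than one). Then this graph has at most two connected components; and if a, b ∈ cd(G|N) lie in different components, then one of a, b is coprime to the index m of the derived subgroup of N in N while the other is divisible by every prime divisor of m. -/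
theorem result {G : Type*} [Group G] [Finite G] (N : Subgroup G) [N.Normal] (hN : ⁅N, N⁆ < N) (hNG : N ≤ commutator G) : Nat.card (Cfsg.commonDivisorGraph.induce (Cfsg.relCharDegrees N)).ConnectedComponent ≤ 2 ∧ ∀ (a b : ℕ) (ha : a ∈ Cfsg.relCharDegrees N) (hb : b ∈ Cfsg.relCharDegrees N), ¬ (Cfsg.commonDivisorGraph.induce (Cfsg.relCharDegrees N)).Reachable ⟨a, ha⟩ ⟨b, hb⟩ → (Nat.Coprime a (⁅N, N⁆.relIndex N) ∧ ∀ r : ℕ, r.Prime → r ∣ ⁅N, N⁆.relIndex N → r ∣ b) ∨ (Nat.Coprime b (⁅N, N⁆.relIndex N) ∧ ∀ r : ℕ, r.Prime → r ∣ ⁅N, N⁆.relIndex N → r ∣ a) := by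
  classical
  set m := ⁅N, N⁆.relIndex N with hm
  obtain ⟨r₀, hr₀, hr₀d⟩ : ∃ r, r.Prime ∧ r ∣ m := Nat.exists_prime_and_dvd fun h =>
    hN.not_ge (Subgroup.relIndex_eq_one.mp h)
  let Full : ↥(Cfsg.relCharDegrees N) → Prop := fun u => ∀ r : ℕ, r.Prime → r ∣ m → r ∣ (u : ℕ)
  have hjoin : ∀ u v, (Full u ↔ Full v) →
      (Cfsg.commonDivisorGraph.induce (Cfsg.relCharDegrees N)).Reachable u v := by
    intro u v h
    by_cases hu : Full u
    · exact Cfsg.Agent.Lib.RelDegree.reach_of_dvd u v hr₀.one_lt (hu r₀ hr₀ hr₀d)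
        (h.mp hu r₀ hr₀ hr₀d) (Cfsg.Agent.Lib.RelDegree.pos_of_mem u)
    · have hv : ¬ Full v := fun hv => hu (h.mpr hv)
      simp only [Full, not_forall] at hu hv
      obtain ⟨r, hr, hd, hu⟩ := hu
      obtain ⟨r', hr', hd', hv⟩ := hv
      exact Cfsg.Agent.Lib.RelDegree.reachable_of_not_full hNG u v hr hr' hd hd' hu hv
  refine ⟨?_, fun a b ha hb hab => ?_⟩
  · have hsurj := fun c : (Cfsg.commonDivisorGraph.induce (Cfsg.relCharDegrees N)).ConnectedComponent =>
      c.exists_rep
    choose rep hrep using hsurj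
    refine (Nat.card_le_card_of_injective (fun c => decide (Full (rep c))) fun c c' h => ?_).trans
      (by simp)
    rw [← hrep c, ← hrep c']
    exact SimpleGraph.ConnectedComponent.sound (hjoin _ _ (by simpa using h))
  · have key : ∀ x y : ↥(Cfsg.relCharDegrees N), Full x →
        ¬ (Cfsg.commonDivisorGraph.induce (Cfsg.relCharDegrees N)).Reachable y x →
        Nat.Coprime (y : ℕ) m := fun x y hx hxy => Nat.coprime_of_dvd fun r hr hry hrm =>
      hxy (Cfsg.Agent.Lib.RelDegree.reach_of_dvd y x hr.one_lt hry (hx r hr hrm)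
        (Cfsg.Agent.Lib.RelDegree.pos_of_mem y))
    by_cases hA : Full ⟨a, ha⟩
    · exact Or.inr ⟨key ⟨a, ha⟩ ⟨b, hb⟩ hA (fun h => hab h.symm), hA⟩
    · have hB : Full ⟨b, hb⟩ := by
        by_contra hB
        exact hab (hjoin _ _ (iff_of_false hA hB))
      exact Or.inl ⟨key ⟨b, hb⟩ ⟨a, ha⟩ hB hab, hB⟩

end Cfsg.Agent.S4776
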