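import Cfsg.Statements.S4779
import Cfsg.Agent.S4776
import Cfsg.Agent.Lib.RelDegree.Disconnected
-- import your own Cfsg.Agent.* helpers here

set_option autoImplicit false
open Cfsg

namespace Cfsg.Agent.S4779

/-- Let N be a solvable normal subgroup of the finite group G contained in the derived subgroup of G, and consider the common-divisor graph on the relative degree set cd(G|N) (degrees of irreducible complex characters of G whose kernel does not contain N, two distinct degrees adjacent when not coprime). If this graph has two vertices that are not joined by any path, then there is a vertex a₀ such that any two distinct vertices in the component of a₀ are adjacent, and any two distinct vertices outside that component are adjacent or have a common neighbour (one component is complete, the other has diameter at most 2). -/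
theorem result {G : Type*} [Group G] [Finite G] (N : Subgroup G) [N.Normal] [Group.IsSolvable N] (hNG : N ≤ commutator G) (hdisc : ¬ (Cfsg.commonDivisorGraph.induce (Cfsg.relCharDegrees N)).Preconnected) : ∃ a₀ : ↥(Cfsg.relCharDegrees N), (∀ b c : ↥(Cfsg.relCharDegrees N), (Cfsg.commonDivisorGraph.induce (Cfsg.relCharDegrees N)).Reachable a₀ b → (Cfsg.commonDivisorGraph.induce (Cfsg.relCharDegrees N)).Reachable a₀ c → b ≠ c → (Cfsg.commonDivisorGraph.induce (Cfsg.relCharDegrees N)).Adj b c) ∧ (∀ b c : ↥(Cfsg.relCharDegrees N), ¬ (Cfsg.commonDivisorGraph.induce (Cfsg.relCharDegrees N)).Reachable a₀ b → ¬ (Cfsg.commonDivisorGraph.induce (Cfsg.relCharDegrees N)).Reachable a₀ c → b ≠ c → (Cfsg.commonDivisorGraph.induce (Cfsg.relCharDegrees N)).Adj b c ∨ ∃ d : ↥(Cfsg.relCharDegrees N), (Cfsg.commonDivisorGraph.induce (Cfsg.relCharDegrees N)).Adj b d ∧ (Cfsg.commonDivisorGraph.induce (Cfsg.relCharDegrees N)).Adj d c) := by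
  classical
  have hne : N ≠ ⊥ := fun h => hdisc fun a _ => by
    obtain ⟨χ, ⟨x, hx, hx'⟩, -⟩ := a.2
    rw [h, Subgroup.mem_bot] at hx
    exact absurd (hx ▸ rfl) hx'
  have : Nontrivial N := (Subgroup.nontrivial_iff_ne_bot _).mpr hne
  have hlt : ⁅N, N⁆ < N := by
    refine lt_of_le_of_ne ?_ fun h => ?_
    · rw [← Subgroup.map_subtype_commutator]
      exact Subgroup.map_subtype_le _
    · refine (Group.IsSolvable.commutator_lt_top_of_nontrivial ↥N).ne (Subgroup.index_eq_one.mp ?_)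
      rw [← Cfsg.Agent.Lib.RelDegree.relIndex_derived, Subgroup.relIndex_eq_one]
      exact h.ge
  obtain ⟨r₀, hr₀, hr₀d⟩ : ∃ r, r.Prime ∧ r ∣ ⁅N, N⁆.relIndex N := Nat.exists_prime_and_dvd fun h =>
    hlt.not_ge (Subgroup.relIndex_eq_one.mp h)
  have h2 := (Cfsg.Agent.S4776.result N hlt hNG).2
  obtain ⟨a₀, b₀, hab, hb₀, ha₀⟩ : ∃ a₀ b₀ : ↥(Cfsg.relCharDegrees N),
      ¬ (Cfsg.commonDivisorGraph.induce (Cfsg.relCharDegrees N)).Reachable a₀ b₀ ∧
      Nat.Coprime (b₀ : ℕ) (⁅N, N⁆.relIndex N) ∧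
      ∀ r : ℕ, r.Prime → r ∣ ⁅N, N⁆.relIndex N → r ∣ (a₀ : ℕ) := by
    unfold SimpleGraph.Preconnected at hdisc
    push Not at hdisc
    obtain ⟨a, b, hab⟩ := hdisc
    rcases h2 a b a.2 b.2 hab with ⟨hc, hf⟩ | ⟨hc, hf⟩
    · exact ⟨b, a, fun h => hab h.symm, hc, hf⟩
    · exact ⟨a, b, hab, hc, hf⟩
  refine ⟨a₀, fun b c hb hc hne' => ?_, fun b c hb hc hne' => ?_⟩
  · have full : ∀ x : ↥(Cfsg.relCharDegrees N),
        (Cfsg.commonDivisorGraph.induce (Cfsg.relCharDegrees N)).Reachable a₀ x →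
        r₀ ∣ (x : ℕ) := by
      intro x hx
      rcases h2 x b₀ x.2 b₀.2 (fun h => hab (hx.trans h)) with ⟨-, hf⟩ | ⟨-, hf⟩
      · exact absurd (Nat.eq_one_of_dvd_coprimes hb₀ (hf r₀ hr₀ hr₀d) hr₀d) hr₀.ne_one
      · exact hf r₀ hr₀ hr₀d
    exact ⟨fun e => hne' (Subtype.ext e), hr₀.one_lt.trans_le (Nat.le_of_dvd
      (Nat.gcd_pos_of_pos_left _ (Cfsg.Agent.Lib.RelDegree.pos_of_mem b))
      (Nat.dvd_gcd (full b hb) (full c hc)))⟩
  · exact Cfsg.Agent.Lib.RelDegree.adj_or_common hNG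
      (fun x r hr hrm hrx => Cfsg.Agent.Lib.RelDegree.reach_of_dvd a₀ x hr.one_lt (ha₀ r hr hrm) hrx
        (Cfsg.Agent.Lib.RelDegree.pos_of_mem a₀)) b c hb hc hne'

end Cfsg.Agent.S4779
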