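import Cfsg.Statements.S4784
import Cfsg.Agent.Lib.Characters

set_option autoImplicit false
open Cfsg

namespace Cfsg.Agent.S4784

open Cfsg.Agent.Lib.Characters
open scoped ComplexConjugate

variable {G : Type*} [Group G] [Fintype G] (H : Subgroup G)

/-- The Frobenius-Schur average. -/
noncomputable def fsAvg (f : G → ℂ) : ℂ := (Nat.card G : ℂ)⁻¹ * ∑ g : G, f (g * g)

theorem fsAvg_indFun :
    fsAvg (indFun H (fun _ : H => (1 : ℂ))) =
      (Nat.card {g : G // g * g ∈ H} : ℂ) / (Nat.card H : ℂ) := by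
  classical
  have h1 : ∀ x g : G, extendByZero H (fun _ : H => (1 : ℂ)) (x⁻¹ * (g * g) * x) =
      if (x⁻¹ * g * x) * (x⁻¹ * g * x) ∈ H then 1 else 0 := by
    intro x g
    rw [show (x⁻¹ * g * x) * (x⁻¹ * g * x) = x⁻¹ * (g * g) * x by group]
    by_cases hm : x⁻¹ * (g * g) * x ∈ H
    · rw [extendByZero_of_mem _ _ hm, if_pos hm]
    · rw [extendByZero_of_not_mem _ _ hm, if_neg hm]
  have h2 : ∀ x : G, (∑ g : G, extendByZero H (fun _ : H => (1 : ℂ)) (x⁻¹ * (g * g) * x)) =
      (Nat.card {g : G // g * g ∈ H} : ℂ) := by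
    intro x
    rw [Nat.card_eq_fintype_card, Fintype.card_subtype, Finset.sum_congr rfl fun g _ => h1 x g,
      ← Finset.sum_boole]
    refine Fintype.sum_equiv (MulAut.conj x⁻¹).toEquiv _ _ fun g => ?_
    simp
  simp only [fsAvg, indFun_apply, ← Finset.mul_sum]
  rw [Finset.sum_comm, Finset.sum_congr rfl fun x _ => h2 x, Finset.sum_const, Finset.card_univ,
    nsmul_eq_mul, ← Nat.card_eq_fintype_card]
  have := natCard_ne_zero_complex (G := G)
  field_simp

theorem fsAvg_mul (c : ℂ) (f : G → ℂ) : fsAvg (fun g => c * f g) = c * fsAvg f := by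
  simp only [fsAvg, ← Finset.mul_sum]
  ring

theorem fsAvg_value {χ : G → ℂ} (hχ : IsIrrCharacter G χ) :
    fsAvg χ = 0 ∨ fsAvg χ = -1 ∨ (fsAvg χ = 1 ∧ ∀ g, conj (χ g) = χ g) := by
  obtain ⟨hn, hr⟩ := frobeniusSchur hχ
  by_cases h : ∃ s : G, (χ s).im ≠ 0
  · exact Or.inl (hn h)
  push Not at h
  obtain ⟨n, B, ε, -, -, hε, -, hv⟩ := hr h
  rcases hε with rfl | rfl
  · exact Or.inr (Or.inr ⟨hv, fun g => Complex.conj_eq_iff_im.mpr (h g)⟩)
  · exact Or.inr (Or.inl hv)

theorem sq_mem_imp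
    (h1 : ∀ χ : IrrCharacter G, classInner (indFun H (fun _ : H => (1 : ℂ))) (χ : G → ℂ) ≠ 0 →
      fsAvg (χ : G → ℂ) = 1 → χ = trivIrr G) :
    ∀ g : G, g * g ∈ H → g ∈ H := by
  classical
  haveI := Fintype.ofFinite (IrrCharacter G)
  set π := indFun H (fun _ : H => (1 : ℂ)) with hπdef
  have hπ : IsCharacter G π := IsCharacter.indFun H isCharacter_one
  have htriv : classInner π (trivIrr G : G → ℂ) = 1 := by
    rw [hπdef, classInner_indFun H _ (irr_isClassFunction _)]
    exact IsIrrCharacter.classInner_self isIrrCharacter_one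
  have hdec : fsAvg π = ∑ χ : IrrCharacter G, classInner π (χ : G → ℂ) * fsAvg (χ : G → ℂ) := by
    conv_lhs => rw [eq_sum_classInner (IsCharacter.isClassFunction hπ)]
    simp only [fsAvg, Finset.sum_apply, Pi.smul_apply, smul_eq_mul, Finset.mul_sum]
    rw [Finset.sum_comm]
    exact Finset.sum_congr rfl fun χ _ => Finset.sum_congr rfl fun g _ => by ring
  have hle : (fsAvg π).re ≤ 1 := by
    rw [hdec, ← Finset.add_sum_erase _ _ (Finset.mem_univ (trivIrr G)), Complex.add_re,
      Complex.re_sum]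
    have h0 : (classInner π (trivIrr G : G → ℂ) * fsAvg (trivIrr G : G → ℂ)).re = 1 := by
      rw [htriv, one_mul]
      simp [fsAvg, Nat.card_eq_fintype_card]
    rw [h0]
    refine add_le_of_nonpos_right (Finset.sum_nonpos fun χ hχ => ?_)
    obtain ⟨m, hm⟩ := IsCharacter.exists_classInner_nat hπ (irr_isCharacter χ)
    rw [hm]
    rcases fsAvg_value χ.2 with h | h | ⟨h, -⟩
    · simp [h]
    · simp [h]
    · rcases Nat.eq_zero_or_pos m with hm0 | hm0
      · simp [hm0]
      · exact absurd (h1 χ (by rw [hm]; exact_mod_cast hm0.ne') h) (Finset.ne_of_mem_erase hχ)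
  rw [hπdef, fsAvg_indFun, ← Complex.ofReal_natCast, ← Complex.ofReal_natCast, ← Complex.ofReal_div,
    Complex.ofReal_re, div_le_one (by exact_mod_cast Nat.card_pos)] at hle
  have hcard : Nat.card {g : G // g * g ∈ H} ≤ Nat.card H := by exact_mod_cast hle
  intro g hg
  let ι : H → {g : G // g * g ∈ H} := fun h => ⟨h.1, H.mul_mem h.2 h.2⟩
  have hinj : Function.Injective ι := fun a b h =>
    Subtype.ext (congrArg (fun s : {g : G // g * g ∈ H} => s.1) h)
  have hb : Function.Bijective ι :=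
    hinj.bijective_of_nat_card_le hcard
  obtain ⟨⟨a, ha⟩, hag⟩ := hb.2 ⟨g, hg⟩
  have hag' : a = g := congrArg Subtype.val hag
  exact hag' ▸ ha

theorem odd_index_of_sq_mem (h : ∀ g : G, g * g ∈ H → g ∈ H) : Odd H.normalCore.index := by
  haveI : Fact (Nat.Prime 2) := ⟨Nat.prime_two⟩
  rw [← Nat.not_even_iff_odd, even_iff_two_dvd]
  intro hd
  obtain ⟨q, hq⟩ := exists_prime_orderOf_dvd_card' (G := G ⧸ H.normalCore) 2
    (by rwa [← Subgroup.index_eq_card])
  obtain ⟨g, rfl⟩ := QuotientGroup.mk_surjective q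
  have hsq : g * g ∈ H.normalCore := by
    rw [← QuotientGroup.eq_one_iff, QuotientGroup.mk_mul, ← pow_two, ← hq]
    exact pow_orderOf_eq_one _
  have hmem : g ∈ H.normalCore := fun x => h _ (by
    rw [show x * g * x⁻¹ * (x * g * x⁻¹) = x * (g * g) * x⁻¹ by group]
    exact hsq x)
  rw [(QuotientGroup.eq_one_iff g).mpr hmem, orderOf_one] at hq
  omega

theorem fsAvg_eq_zero_of_odd (hodd : Odd H.normalCore.index) (χ : IrrCharacter G)
    (hm : classInner (indFun H (fun _ : H => (1 : ℂ))) (χ : G → ℂ) ≠ 0) (hne : χ ≠ trivIrr G) :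
    fsAvg (χ : G → ℂ) = 0 := by
  classical
  set N := H.normalCore
  obtain ⟨ψ, hψ, hadd⟩ := IsCharacter.exists_add_of_classInner_ne_zero
    (IsCharacter.indFun H isCharacter_one) χ.2 hm
  have hker : ∀ n ∈ N, (χ : G → ℂ) n = (χ : G → ℂ) 1 := by
    intro n hn
    have hπn : indFun H (fun _ : H => (1 : ℂ)) n = indFun H (fun _ : H => (1 : ℂ)) 1 := by
      simp only [indFun_apply]
      refine congrArg _ (Finset.sum_congr rfl fun x _ => ?_)
      have hx : x⁻¹ * n * x ∈ H := by simpa using hn x⁻¹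
      rw [extendByZero_of_mem _ _ hx, extendByZero_of_mem _ _ (show x⁻¹ * 1 * x ∈ H by simp)]
    rw [hadd, Pi.add_apply, Pi.add_apply] at hπn
    have hχ' := irr_isCharacter χ
    have a1 := IsCharacter.norm_le_re hχ' n
    have a2 := IsCharacter.norm_le_re hψ n
    have a3 := Complex.re_le_norm ((χ : G → ℂ) n)
    have a4 := Complex.re_le_norm (ψ n)
    have a5 : ((χ : G → ℂ) n).re + (ψ n).re = ((χ : G → ℂ) 1).re + (ψ 1).re := by
      rw [← Complex.add_re, hπn, Complex.add_re]
    obtain ⟨d, hd⟩ := IsCharacter.exists_apply_one hχ'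
    have a7 : ‖(χ : G → ℂ) n‖ = ((χ : G → ℂ) n).re := by linarith
    have a8 : 0 ≤ ((χ : G → ℂ) n).re ∧ ((χ : G → ℂ) n).im = 0 :=
      Complex.nonneg_iff.mp (Complex.re_eq_norm.mp a7.symm) |>.imp id Eq.symm
    apply Complex.ext
    · linarith
    · rw [a8.2, hd, Complex.natCast_im]
  obtain ⟨φ, hφ, hχφ⟩ := IsIrrCharacter.exists_quotient χ.2 N hker
  have hφne : φ ≠ fun _ => 1 := fun h => hne (Subtype.ext (by rw [hχφ, h]; rfl))
  have hsum0 : ∑ x : G ⧸ N, φ x = 0 := by
    have h0 := IsIrrCharacter.classInner_ne hφ isIrrCharacter_one hφne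
    simp only [classInner, map_one, mul_one, mul_eq_zero] at h0
    exact h0.resolve_left (inv_ne_zero natCard_ne_zero_complex)
  have hco : (Nat.card (G ⧸ N)).Coprime 2 := by
    rw [Nat.coprime_two_right, ← Subgroup.index_eq_card]
    exact hodd
  have hsq : ∑ x : G ⧸ N, φ (x * x) = 0 := by
    rw [← hsum0]
    exact Fintype.sum_equiv (powCoprime hco) _ _ fun x => by simp [pow_two]
  have hlift : ∀ f : G ⧸ N → ℂ,
      ∑ g : G, f (QuotientGroup.mk g) = (Nat.card N : ℂ) * ∑ x : G ⧸ N, f x := by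
    intro f
    rw [Fintype.sum_equiv (Subgroup.groupEquivQuotientProdSubgroup (s := N))
      (fun g => f (QuotientGroup.mk g)) (fun p => f p.1) (fun g => rfl), Fintype.sum_prod_type,
      Finset.mul_sum]
    exact Finset.sum_congr rfl fun x _ => by
      simp [Nat.card_eq_fintype_card]
  have hgoal : ∑ g : G, (χ : G → ℂ) (g * g) = 0 := by
    rw [hχφ]
    exact (hlift fun x => φ (x * x)).trans (by rw [hsq, mul_zero])
  rw [fsAvg, hgoal, mul_zero]

/-- Let H be a subgroup of the finite group G and consider the permutation character of G on the cosets of H (the function induced from the principal character of H). Then exactly one irreducible constituent of it is real-valued with Frobenius–Schur indicator +1 (namely the principal character) if and only if the normal core of H has odd index in G. -/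
theorem result {G : Type*} [Group G] [Fintype G] (H : Subgroup G) : Nat.card {χ : Cfsg.IrrCharacter G // Cfsg.classInner (Cfsg.indFun H (fun _ : H => (1 : ℂ))) (χ : G → ℂ) ≠ 0 ∧ (∀ g : G, (starRingEnd ℂ) ((χ : G → ℂ) g) = (χ : G → ℂ) g) ∧ (Nat.card G : ℂ)⁻¹ * ∑ g : G, (χ : G → ℂ) (g * g) = 1} = 1 ↔ Odd H.normalCore.index := by
  classical
  have htriv : classInner (indFun H (fun _ : H => (1 : ℂ))) (trivIrr G : G → ℂ) ≠ 0 ∧
      (∀ g : G, conj ((trivIrr G : G → ℂ) g) = (trivIrr G : G → ℂ) g) ∧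
      (Nat.card G : ℂ)⁻¹ * ∑ g : G, (trivIrr G : G → ℂ) (g * g) = 1 := by
    refine ⟨?_, fun g => by simp, by simp [Nat.card_eq_fintype_card]⟩
    rw [classInner_indFun H _ (irr_isClassFunction _)]
    exact (IsIrrCharacter.classInner_self (isIrrCharacter_one (G := H))).trans_ne one_ne_zero
  constructor
  · intro h
    refine odd_index_of_sq_mem H (sq_mem_imp H fun χ hm hν => ?_)
    rcases fsAvg_value χ.2 with h0 | h0 | ⟨-, hreal⟩
    · rw [h0] at hν; exact absurd hν zero_ne_one
    · rw [h0] at hν; norm_num at hν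
    obtain ⟨x, hx⟩ := Nat.card_eq_one_iff_exists.mp h
    exact (congrArg Subtype.val (hx ⟨χ, hm, hreal, hν⟩)).trans
      (congrArg Subtype.val (hx ⟨trivIrr G, htriv⟩)).symm
  · intro hodd
    refine Nat.card_eq_one_iff_exists.mpr ⟨⟨trivIrr G, htriv⟩, ?_⟩
    rintro ⟨χ, hm, -, hν⟩
    refine Subtype.ext ?_
    by_contra hne
    have h0 := fsAvg_eq_zero_of_odd H hodd χ hm hne
    exact zero_ne_one (h0.symm.trans hν)

end Cfsg.Agent.S4784
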