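import Cfsg.Statements.S4813
import Cfsg.Agent.Lib.Characters.PrimeDegrees

set_option autoImplicit false
open Cfsg

namespace Cfsg.Agent.S4813

/-- If every irreducible complex character of the finite group G of degree greater than one has prime degree, then G has at most three distinct irreducible character degrees. -/
theorem result {G : Type*} [Group G] [Finite G] (hprime : ∀ d ∈ Cfsg.charDegrees G, d = 1 ∨ d.Prime) : Nat.card ↥(Cfsg.charDegrees G) ≤ 3 := by
  classical
  obtain ⟨a, b, hab⟩ := Cfsg.Agent.Lib.Characters.PrimeDegrees.exists_two_degrees (G := G) rfl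
    fun χ => hprime _ ⟨χ, rfl⟩
  have hsub : Cfsg.charDegrees G ⊆ (({1, a, b} : Finset ℕ) : Set ℕ) := by
    rintro d ⟨χ, rfl⟩
    rcases hab χ with h | h | h <;> simp [h]
  refine le_trans (Nat.card_mono (Finset.finite_toSet _) hsub) ?_
  rw [Nat.card_coe_set_eq, Set.ncard_coe_finset]
  exact Finset.card_le_three

end Cfsg.Agent.S4813
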