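import Cfsg.Statements.S4814
import Cfsg.Agent.Lib.BlockHeights.Commutators
import Mathlib.Algebra.Order.Chebyshev
import Mathlib.Tactic.Linarith
import Mathlib.Analysis.SpecialFunctions.Pow.Real

set_option autoImplicit false
open Cfsg

namespace Cfsg.Agent.S4814

/-- Let G be a finite group such that the sum, over the irreducible complex characters χ of G, of 1/χ(1)² is less than 2. Then every element of G is a product of two commutators. -/
theorem result {G : Type*} [Group G] [Finite G]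
    (h : ∑ᶠ χ : Cfsg.IrrCharacter G, 1 / ‖(χ : G → ℂ) 1‖ ^ 2 < (2 : ℝ)) (g : G) :
    ∃ a b c d : G, (a * b * a⁻¹ * b⁻¹) * (c * d * c⁻¹ * d⁻¹) = g := by
  classical
  haveI := Fintype.ofFinite G
  haveI := Fintype.ofFinite (IrrCharacter G)
  rw [finsum_eq_sum_of_fintype] at h
  by_contra hg
  push Not at hg
  have h0 := Lib.BlockHeights.sum_card_commutator_mul g
  have hzero : ∀ z : G, (Nat.card {xy : G × G // xy.1 * xy.2 * xy.1⁻¹ * xy.2⁻¹ = z} : ℂ) *
      (Nat.card {xy : G × G // xy.1 * xy.2 * xy.1⁻¹ * xy.2⁻¹ = z⁻¹ * g} : ℂ) = 0 := by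
    intro z
    by_cases hz : Nonempty {xy : G × G // xy.1 * xy.2 * xy.1⁻¹ * xy.2⁻¹ = z}
    · obtain ⟨⟨⟨a, b⟩, hab⟩⟩ := hz
      have : Nat.card {xy : G × G // xy.1 * xy.2 * xy.1⁻¹ * xy.2⁻¹ = z⁻¹ * g} = 0 := by
        rw [Nat.card_eq_zero]
        refine Or.inl ⟨fun w => hg a b w.1.1 w.1.2 ?_⟩
        rw [w.2, show a * b * a⁻¹ * b⁻¹ = z from hab, mul_inv_cancel_left]
      rw [this, Nat.cast_zero, mul_zero]
    · haveI := not_nonempty_iff.mp hz
      rw [Nat.card_of_isEmpty, Nat.cast_zero, zero_mul]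
  rw [Finset.sum_eq_zero (fun z _ => hzero z)] at h0
  rcases mul_eq_zero.mp h0.symm with h1 | h1
  · exact Nat.card_pos.ne' (Nat.cast_eq_zero.mp (eq_zero_of_pow_eq_zero h1))
  · set t := Lib.Characters.trivIrr G
    have ht : ((t : G → ℂ) g / (t : G → ℂ) 1 ^ 3) = 1 := by simp [t, Lib.Characters.trivIrr]
    rw [← Finset.add_sum_erase _ _ (Finset.mem_univ t), ht] at h1
    have ht2 : (1 : ℝ) / ‖(t : G → ℂ) 1‖ ^ 2 = 1 := by simp [t, Lib.Characters.trivIrr]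
    rw [← Finset.add_sum_erase _ _ (Finset.mem_univ t), ht2] at h
    have hbound : ‖∑ χ ∈ Finset.univ.erase t, (χ : G → ℂ) g / (χ : G → ℂ) 1 ^ 3‖ ≤
        ∑ χ ∈ Finset.univ.erase t, 1 / ‖(χ : G → ℂ) 1‖ ^ 2 := by
      refine (norm_sum_le _ _).trans (Finset.sum_le_sum fun χ _ => ?_)
      have h2 := Lib.Characters.IsCharacter.norm_le_re (Lib.Characters.irr_isCharacter χ) g
      have hpos : 0 < ‖(χ : G → ℂ) 1‖ := norm_pos_iff.mpr (Lib.BlockHeights.irr_apply_one_ne χ)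
      have h3 : ‖(χ : G → ℂ) g‖ ≤ ‖(χ : G → ℂ) 1‖ := h2.trans (Complex.re_le_norm _)
      rw [norm_div, norm_pow, div_le_div_iff₀ (by positivity) (by positivity)]
      calc ‖(χ : G → ℂ) g‖ * ‖(χ : G → ℂ) 1‖ ^ 2 ≤ ‖(χ : G → ℂ) 1‖ * ‖(χ : G → ℂ) 1‖ ^ 2 :=
            mul_le_mul_of_nonneg_right h3 (by positivity)
        _ = 1 * ‖(χ : G → ℂ) 1‖ ^ 3 := by ring
    rw [add_eq_zero_iff_neg_eq] at h1
    rw [← h1, norm_neg, norm_one] at hbound
    linarith

end Cfsg.Agent.S4814
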