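import Cfsg.Statements.S4839
import Cfsg.Agent.Lib.Characters
import Cfsg.Agent.Lib.Cores.PCore
import Cfsg.Agent.Lib.InvChar.OddInverted

set_option autoImplicit false
open Cfsg

namespace Cfsg.Agent.S4839

open Cfsg.Agent.Lib.Characters
open scoped ComplexConjugate

section Char

universe u

variable {G : Type u} [Group G] [Finite G]

/-- Class facts from a character nonzero on exactly two classes, supported on a subgroup. -/
theorem class_facts (hG : 2 < Nat.card G) (χ : Cfsg.IrrCharacter G)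
    (hχ : Nat.card {C : ConjClasses G // ∃ g ∈ C.carrier, (χ : G → ℂ) g ≠ 0} = 2)
    (p : ℕ) [Fact p.Prime] (N : Subgroup G) [N.Normal]
    (hN : ∀ g : G, g ∈ N ↔ (χ : G → ℂ) g ≠ 0) (hNp : IsPGroup p N) (hN1 : N ≠ ⊥) :
    (∀ a ∈ N, a ≠ 1 → ∀ b ∈ N, b ≠ 1 → IsConj a b) ∧
      (∀ g : G, g ∉ N → ∀ n ∈ N, IsConj g (g * n)) := by
  classical
  haveI := Fintype.ofFinite G
  haveI : Fintype N := Fintype.ofFinite _
  have htr : ∀ a ∈ N, a ≠ 1 → ∀ b ∈ N, b ≠ 1 → IsConj a b := by
    intro a ha ha1 b hb hb1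
    by_contra hab
    have h1 : (χ : G → ℂ) 1 ≠ 0 := IsIrrCharacter.apply_one_ne_zero χ.2
    let f : Fin 3 → {C : ConjClasses G // ∃ g ∈ C.carrier, (χ : G → ℂ) g ≠ 0} :=
      ![⟨ConjClasses.mk 1, 1, ConjClasses.mem_carrier_mk, h1⟩,
        ⟨ConjClasses.mk a, a, ConjClasses.mem_carrier_mk, (hN a).1 ha⟩,
        ⟨ConjClasses.mk b, b, ConjClasses.mem_carrier_mk, (hN b).1 hb⟩]
    have hf : Function.Injective f := by
      intro i j h
      have h' := congrArg Subtype.val h
      fin_cases i <;> fin_cases j <;>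
        simp [f, ConjClasses.mk_eq_mk_iff_isConj] at h' ⊢ <;>
        first
          | exact ha1 h'
          | exact hb1 h'
          | exact hab (isConj_iff.2 h')
          | exact hab (isConj_iff.2 h').symm
          | exact absurd h'.symm ha1
          | exact absurd h'.symm hb1
    have := Nat.card_le_card_of_injective f hf
    rw [hχ, Nat.card_eq_fintype_card, Fintype.card_fin] at this
    omega
  refine ⟨htr, ?_⟩
  obtain ⟨n0, hn0, hn01⟩ := (Subgroup.bot_or_exists_ne_one N).resolve_left hN1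
  set c := (χ : G → ℂ) n0 with hc
  have hconst : ∀ n ∈ N, n ≠ 1 → (χ : G → ℂ) n = c := fun n hn hn1 =>
    (IsClassFunction.eq_of_isConj (irr_isClassFunction χ) (htr n0 hn0 hn01 n hn hn1)).symm
  have hout : ∀ g : G, g ∉ N → (χ : G → ℂ) g = 0 := fun g hg => by
    by_contra h; exact hg ((hN g).2 h)
  set d := (χ : G → ℂ) 1 with hd
  have hinner : ∀ ψ : Cfsg.IrrCharacter G, ψ ≠ χ →
      conj c * (∑ n : N, (ψ : G → ℂ) n) + (ψ : G → ℂ) 1 * (conj d - conj c) = 0 := by
    intro ψ hne
    have h := classInner_irr ψ χ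
    rw [if_neg hne, classInner, mul_eq_zero, or_iff_right (inv_ne_zero natCard_ne_zero_complex)] at h
    have h2 : ∑ g : G, (ψ : G → ℂ) g * conj ((χ : G → ℂ) g) =
        ∑ n : N, (ψ : G → ℂ) n * conj ((χ : G → ℂ) n) := by
      rw [← Finset.sum_subset (s₁ := Finset.univ.filter (fun g => g ∈ N)) (Finset.subset_univ _)
        (fun g _ hg => by rw [hout g (by simpa using hg), map_zero, mul_zero])]
      refine (Finset.sum_subtype _ (fun g => by simp) _)
    rw [h2] at h
    have h3 : ∀ n : N, (ψ : G → ℂ) n * conj ((χ : G → ℂ) n) =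
        conj c * (ψ : G → ℂ) n + (if n = 1 then (ψ : G → ℂ) 1 * (conj d - conj c) else 0) := by
      intro n
      split_ifs with hn
      · subst hn
        rw [OneMemClass.coe_one, ← hd]; ring
      · rw [hconst n n.2 (by simpa using hn), add_zero, mul_comm]
    rw [Finset.sum_congr rfl fun n _ => h3 n, Finset.sum_add_distrib, ← Finset.mul_sum] at h
    simpa using h
  have hcd : c ≠ d := by
    intro hcd
    have hone : χ = trivIrr G := by
      by_contra hne
      have h := hinner (trivIrr G) (Ne.symm hne)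
      simp only [trivIrr, Finset.sum_const, Finset.card_univ, nsmul_eq_mul, mul_one, ← hcd,
        sub_self, mul_zero, one_mul, add_zero, mul_eq_zero, map_eq_zero, Nat.cast_eq_zero] at h
      rcases h with h | h
      · exact (hN n0).1 hn0 h
      · exact Fintype.card_ne_zero h
    have hall : ∀ g : G, g ∈ N := fun g => (hN g).2 (by rw [hone]; simp [trivIrr])
    have hpG : IsPGroup p G := by
      intro g
      obtain ⟨k, hk⟩ := hNp ⟨g, hall g⟩
      exact ⟨k, by simpa using congrArg Subtype.val hk⟩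
    have : Nontrivial G := ⟨⟨n0, 1, hn01⟩⟩
    have := hpG.center_nontrivial
    obtain ⟨z, hz⟩ := exists_ne (1 : Subgroup.center G)
    have hz1 : (z : G) ≠ 1 := fun h => hz (Subtype.ext h)
    have h2 : ∀ g : G, g = 1 ∨ g = (z : G) := by
      intro g
      by_cases hg : g = 1
      · exact Or.inl hg
      · obtain ⟨x, hx⟩ := isConj_iff.1 (htr _ (hall z) hz1 g (hall g) hg)
        right
        rw [← hx, Subgroup.mem_center_iff.1 z.2 x, mul_inv_cancel_right]
    have : Nat.card G ≤ 2 := by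
      refine le_trans (Nat.card_le_card_of_surjective (fun b : Bool => if b then (1 : G) else z) fun g => ?_)
        (by simp)
      rcases h2 g with h | h
      · exact ⟨true, by simp [h]⟩
      · exact ⟨false, by simp [h]⟩
    omega
  intro g hg n hn
  rw [isConj_iff_forall_irr]
  intro ψ
  by_cases hker : ∀ x ∈ N, (ψ : G → ℂ) x = (ψ : G → ℂ) 1
  · exact (IsCharacter.apply_mul_of_mem_kernel (irr_isCharacter ψ) (hker n hn) g).symm
  · by_cases hψ : ψ = χ
    · subst hψ
      rw [hout g hg, hout (g * n) (fun h => hg ((mul_mem_cancel_right hn).1 h))]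
    · exfalso
      push Not at hker
      obtain ⟨x, hx, hx1⟩ := hker
      have hav : avgN N (ψ : G → ℂ) = 0 := by
        refine (IsIrrCharacter.avgN_eq N ψ.2).resolve_right fun h => hx1 ?_
        calc (ψ : G → ℂ) x = avgN N (ψ : G → ℂ) x := (congrFun h x).symm
          _ = avgN N (ψ : G → ℂ) 1 := avgN_apply_coe N _ ⟨x, hx⟩
          _ = (ψ : G → ℂ) 1 := congrFun h 1
      have hs : (∑ m : N, (ψ : G → ℂ) m) = 0 := by
        have h := congrFun hav 1
        simp only [avgN, mul_one, Pi.zero_apply, mul_eq_zero,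
          inv_eq_zero] at h
        exact h.resolve_left natCard_ne_zero_complex
      have h := hinner ψ hψ
      rw [hs, mul_zero, zero_add, mul_eq_zero, sub_eq_zero] at h
      exact hcd ((starRingEnd ℂ).injective (h.resolve_left (IsIrrCharacter.apply_one_ne_zero ψ.2))).symm

end Char

section Group

variable {G : Type*} [Group G] [Finite G]

theorem frobenius_of_core (hG : 2 < Nat.card G) (p : ℕ) [hp : Fact p.Prime] (N : Subgroup G) [N.Normal]
    (hNp : IsPGroup p N) (hN1 : N ≠ ⊥)
    (htr : ∀ a ∈ N, a ≠ 1 → ∀ b ∈ N, b ≠ 1 → IsConj a b)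
    (hsingle : ∀ g : G, g ∉ N → ∀ n ∈ N, IsConj g (g * n))
    (hcore : N = Cfsg.pCore p G) :
    ∃ H : Subgroup G, Cfsg.IsFrobeniusComplement H ∧ Cfsg.frobeniusKernel H = (N : Set G) ∧
      Nat.card H + 1 = Nat.card N := by
  classical
  obtain ⟨n0, hn0, hn01⟩ := (Subgroup.bot_or_exists_ne_one N).resolve_left hN1
  have hnc : ∀ (g : G) (n : G), n ∈ N → g * n * g⁻¹ ∈ N := fun g n hn =>
    Subgroup.Normal.conj_mem inferInstance n hn g
  haveI : Nontrivial N := ⟨⟨⟨n0, hn0⟩, 1, fun h => hn01 (congrArg Subtype.val h)⟩⟩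
  -- abelian
  have hab : ∀ a ∈ N, ∀ b ∈ N, a * b = b * a := by
    have := hNp.center_nontrivial
    obtain ⟨z, hz⟩ := exists_ne (1 : Subgroup.center N)
    have hz1 : ((z : N) : G) ≠ 1 := fun h => hz (Subtype.ext (Subtype.ext h))
    intro a ha b hb
    by_cases ha1 : a = 1
    · simp [ha1]
    obtain ⟨x, hx⟩ := isConj_iff.1 (htr _ (z : N).2 hz1 a ha ha1)
    have h := congrArg Subtype.val (Subgroup.mem_center_iff.1 z.2 ⟨x⁻¹ * b * x, by simpa using hnc x⁻¹ b hb⟩)
    simp only [Subgroup.coe_mul] at h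
    calc a * b = x * ((z : N) * (x⁻¹ * b * x)) * x⁻¹ := by rw [← hx]; group
      _ = x * (x⁻¹ * b * x * (z : N)) * x⁻¹ := by rw [h]
      _ = b * a := by rw [← hx]; group
  -- exponent p
  have hexp : ∀ n ∈ N, n ^ p = 1 := by
    obtain ⟨m, hm0, hm⟩ := hNp.nontrivial_iff_card.1 inferInstance
    obtain ⟨e, he⟩ := exists_prime_orderOf_dvd_card' (G := N) p (hm ▸ dvd_pow_self p hm0.ne')
    intro n hn
    by_cases hn1 : n = 1
    · simp [hn1]
    have he1 : (e : G) ≠ 1 := fun h => hp.out.ne_one (by rw [← he, orderOf_eq_one_iff]; exact Subtype.ext h)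
    obtain ⟨x, hx⟩ := isConj_iff.1 (htr _ e.2 he1 n hn hn1)
    rw [← hx, conj_pow]
    have : (e : G) ^ p = 1 := by rw [← Subgroup.coe_pow, ← he, pow_orderOf_eq_one, Subgroup.coe_one]
    simp [this]
  have hord : ∀ n ∈ N, n ≠ 1 → orderOf n = p := fun n hn hn1 => orderOf_eq_prime (hexp n hn) hn1
  -- p-regular elements are fixed point free
  have hfix : ∀ g : G, ¬ p ∣ orderOf g → g ∉ N → ∀ n ∈ N, g * n = n * g → n = 1 := by
    intro g hg hgN n hn hcomm
    by_contra hn1
    obtain ⟨x, hx⟩ := isConj_iff.1 (hsingle g hgN n hn)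
    have h1 : orderOf (g * n) = orderOf g := by
      rw [← hx]; exact Cfsg.Agent.Lib.Involutions.orderOf_conj_eq x g
    have h2 := (show Commute g n from hcomm).orderOf_mul_eq_mul_orderOf_of_coprime
      (by rw [hord n hn hn1]; exact (hp.out.coprime_iff_not_dvd.2 hg).symm)
    rw [h1, hord n hn hn1] at h2
    have hpos := orderOf_pos g
    have h3 := hp.out.two_le
    nlinarith
  have horbit : ∀ g : G, (∀ n ∈ N, g * n = n * g → n = 1) →
      ∀ n ∈ N, ∃ m ∈ N, m * g * m⁻¹ = n * g := by
    intro g hg n hn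
    let e : N → N := fun m => ⟨(m : G) * (g * (m : G)⁻¹ * g⁻¹), mul_mem m.2 (hnc g _ (inv_mem m.2))⟩
    have he : Function.Injective e := by
      intro a b hab'
      have h : (a : G) * g * (a : G)⁻¹ = (b : G) * g * (b : G)⁻¹ := by
        have := congrArg (fun t : N => (t : G) * g) hab'
        simpa [e, mul_assoc] using this
      have := hg ((b : G)⁻¹ * a) (mul_mem (inv_mem b.2) a.2) (by
        calc g * ((b : G)⁻¹ * a) = (b : G)⁻¹ * ((b : G) * g * (b : G)⁻¹) * a := by group
          _ = (b : G)⁻¹ * ((a : G) * g * (a : G)⁻¹) * a := by rw [h]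
          _ = (b : G)⁻¹ * a * g := by group)
      exact Subtype.ext (inv_mul_eq_one.1 this).symm
    obtain ⟨m, hm⟩ := (Finite.injective_iff_surjective.1 he) ⟨n, hn⟩
    refine ⟨m, m.2, ?_⟩
    have := congrArg (fun t : N => (t : G) * g) hm
    simpa [e, mul_assoc] using this
  -- N is self-centralizing
  have hC : ∀ g : G, (∀ n ∈ N, g * n = n * g) → g ∈ N := by
    intro g hg
    rw [hcore]
    have hCp : IsPGroup p (Subgroup.centralizer (N : Set G)) := by
      intro x
      obtain ⟨k, m, hm, hkm⟩ := Nat.exists_eq_pow_mul_and_not_dvd (orderOf_pos x).ne' p hp.out.ne_one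
      refine ⟨k, ?_⟩
      have ho : orderOf (x ^ p ^ k) = m := by
        rw [orderOf_pow' _ (pow_ne_zero _ hp.out.ne_zero), hkm, Nat.gcd_mul_right_left,
          Nat.mul_div_cancel_left _ (pow_pos hp.out.pos k)]
      set y := x ^ p ^ k with hy
      have hyN : ((y : Subgroup.centralizer (N : Set G)) : G) ∈ N := by
        by_contra hyN
        refine hn01 (hfix _ (by rw [Subgroup.orderOf_coe, ho]; exact hm) hyN n0 hn0 ?_)
        exact (Subgroup.mem_centralizer_iff.1 y.2 n0 hn0).symm
      have h1 : (y : G) ^ p = 1 := hexp _ hyN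
      have : orderOf y ∣ p := by rw [← Subgroup.orderOf_coe]; exact orderOf_dvd_of_pow_eq_one h1
      rw [ho] at this
      rcases (Nat.dvd_prime hp.out).1 this with h | h
      · exact orderOf_eq_one_iff.1 (ho.trans h)
      · exact absurd (h ▸ dvd_rfl) hm
    exact Cfsg.Agent.Lib.Cores.le_pCore inferInstance hCp
      (Subgroup.mem_centralizer_iff.2 fun n hn => (hg n hn).symm)
  -- the class of n0
  have hclass : (Nat.card N - 1) * Nat.card (Subgroup.centralizer ({n0} : Set G)) = Nat.card G := by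
    rw [← card_conj_mul_card_centralizer n0]
    congr 1
    have hset : {x : G | IsConj n0 x} = (N : Set G) \ {1} := by
      ext x
      constructor
      · intro hx
        obtain ⟨c, rfl⟩ := isConj_iff.1 (hx : IsConj n0 x)
        exact ⟨hnc c n0 hn0, fun h => hn01 (conj_eq_one_iff.1 h)⟩
      · exact fun ⟨h1, h2⟩ => htr n0 hn0 hn01 x h1 h2
    have hcard : Set.ncard {x : G | IsConj n0 x} = Nat.card N - 1 := by
      rw [hset, Set.ncard_diff_singleton_of_mem (one_mem N), ← Nat.card_coe_set_eq]; rfl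
    rw [← hcard, ← Nat.card_coe_set_eq]; rfl
  -- index coprime to p
  have hidx : ¬ p ∣ N.index := by
    intro hdvd
    rcases hp.out.eq_two_or_odd' with rfl | hodd
    · rw [Subgroup.index_eq_card] at hdvd
      obtain ⟨a, ha⟩ := exists_prime_orderOf_dvd_card' (G := G ⧸ N) 2 hdvd
      have haO : a ∉ Cfsg.pCore 2 (G ⧸ N) := by
        obtain ⟨t, rfl⟩ := QuotientGroup.mk'_surjective N a
        intro hmem
        have : t ∈ N := by
          rw [hcore, ← Cfsg.Agent.Lib.Cores.comap_pCore_quotient (p := 2) hNp]; exact hmem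
        rw [QuotientGroup.mk'_apply, (QuotientGroup.eq_one_iff t).2 this, orderOf_one] at ha
        omega
      obtain ⟨yb, hy1, hyodd, hinv⟩ := Cfsg.Agent.Lib.InvChar.exists_odd_inverted ha haO
      obtain ⟨t, rfl⟩ := QuotientGroup.mk'_surjective N a
      obtain ⟨h, rfl⟩ := QuotientGroup.mk'_surjective N yb
      obtain ⟨k, m, hm, hkm⟩ := Nat.exists_eq_two_pow_mul_odd (orderOf_pos h).ne'
      set y := h ^ 2 ^ k with hy
      have ho : orderOf y = m := by
        rw [hy, orderOf_pow' _ (by positivity), hkm, Nat.gcd_mul_right_left,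
          Nat.mul_div_cancel_left _ (Nat.two_pow_pos k)]
      have hyN : y ∉ N := by
        intro hmem
        have h1 : (QuotientGroup.mk' N h) ^ 2 ^ k = 1 := by
          rw [← map_pow, QuotientGroup.mk'_apply, QuotientGroup.eq_one_iff]; exact hmem
        have h2 : orderOf (QuotientGroup.mk' N h) ∣ 2 ^ k := orderOf_dvd_of_pow_eq_one h1
        exact hy1 (orderOf_eq_one_iff.1
          (Nat.eq_one_of_dvd_coprimes (Nat.Coprime.pow_left k hyodd.coprime_two_left) h2 dvd_rfl))
      have hyreg : ¬ 2 ∣ orderOf y⁻¹ := by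
        rw [orderOf_inv, ho]; exact Nat.two_dvd_ne_zero.2 (Nat.odd_iff.1 hm)
      have hyfix := hfix y⁻¹ hyreg (fun h' => hyN (inv_mem_iff.1 h'))
      have hn : t * y * t⁻¹ * y ∈ N := by
        rw [← QuotientGroup.eq_one_iff, ← QuotientGroup.mk'_apply, map_mul, map_mul, map_mul, map_inv,
          hy, map_pow, ← conj_pow, hinv, inv_pow, inv_mul_cancel]
      obtain ⟨m', hm', hconj⟩ := horbit y⁻¹ hyfix _ hn
      rw [mul_inv_cancel_right] at hconj
      set s := m'⁻¹ * t with hs
      have hsinv : s * y * s⁻¹ = y⁻¹ := by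
        rw [hs, show m'⁻¹ * t * y * (m'⁻¹ * t)⁻¹ = m'⁻¹ * (t * y * t⁻¹) * m' by group, ← hconj]
        group
      have hst : QuotientGroup.mk' N s = QuotientGroup.mk' N t := by
        rw [hs, map_mul, map_inv, QuotientGroup.mk'_apply N m', (QuotientGroup.eq_one_iff m').2 hm']
        simp
      have hsN : s ∉ N := by
        intro hmem
        rw [← hst, QuotientGroup.mk'_apply, (QuotientGroup.eq_one_iff s).2 hmem, orderOf_one] at ha
        omega
      have hs2N : s * s ∈ N := by
        rw [← QuotientGroup.eq_one_iff, ← QuotientGroup.mk'_apply, map_mul, hst, ← pow_two, ← ha,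
          pow_orderOf_eq_one]
      have hsinv' : s * y⁻¹ * s⁻¹ = y := by
        have := congrArg (·⁻¹) hsinv
        simpa [mul_assoc] using this
      have hs1 : s * s = 1 := hyfix _ hs2N (by
        calc y⁻¹ * (s * s) = (s * y * s⁻¹) * (s * s) := by rw [hsinv]
          _ = s * (s * y⁻¹ * s⁻¹) * s := by rw [hsinv']; group
          _ = (s * s) * y⁻¹ := by group)
      refine hsN (hC s fun n hn => ?_)
      obtain ⟨x, hx⟩ := isConj_iff.1 (hsingle s hsN n hn)
      have h4 : (s * n) * (s * n) = 1 := by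
        rw [← hx, show x * s * x⁻¹ * (x * s * x⁻¹) = x * (s * s) * x⁻¹ by group, hs1]; group
      have h5 : n * n = 1 := by simpa [pow_two] using hexp n hn
      calc s * n = (s * n)⁻¹ := eq_inv_of_mul_eq_one_left h4
        _ = n * s := by rw [mul_inv_rev, inv_eq_of_mul_eq_one_left h5, inv_eq_of_mul_eq_one_left hs1]
    · obtain ⟨q, hq⟩ := hNp.exists_card_eq
      have hq1 : Even (Nat.card N - 1) := by
        have : Odd (Nat.card N) := hq ▸ hodd.pow
        exact Nat.Odd.sub_odd this odd_one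
      obtain ⟨z, hz⟩ := exists_prime_orderOf_dvd_card' (G := G) 2
        (hclass ▸ (even_iff_two_dvd.1 hq1).mul_right _)
      have hzN : z ∉ N := by
        intro hmem
        by_cases hz1 : z = 1
        · simp [hz1] at hz
        · rw [hord z hmem hz1] at hz
          exact absurd (hz ▸ hodd) (by decide)
      have hzreg : ¬ p ∣ orderOf z := by
        rw [hz]; intro h
        exact absurd ((Nat.prime_dvd_prime_iff_eq hp.out Nat.prime_two).1 h ▸ hodd) (by decide)
      have hzfix := hfix z hzreg hzN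
      have hz2 : z * z = 1 := by rw [← pow_two, ← hz, pow_orderOf_eq_one]
      have hzi : z⁻¹ = z := inv_eq_of_mul_eq_one_left hz2
      have hzinv : ∀ n ∈ N, z * n * z⁻¹ = n⁻¹ := by
        intro n hn
        have hm := mul_mem hn (hnc z n hn)
        have h := hzfix _ hm (by
          calc z * (n * (z * n * z⁻¹)) = (z * n * z⁻¹) * (z * z) * n * z⁻¹ := by group
            _ = (z * n * z⁻¹) * n * z⁻¹ := by rw [hz2, mul_one]
            _ = (n * (z * n * z⁻¹)) * z⁻¹ := by rw [hab _ (hnc z n hn) n hn]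
            _ = (n * (z * n * z⁻¹)) * z := by rw [hzi])
        exact eq_inv_of_mul_eq_one_right h
      have hfact : ∀ g : G, ∃ m ∈ N, (m⁻¹ * g) * z = z * (m⁻¹ * g) := by
        intro g
        have hin : g * z * g⁻¹ * z⁻¹ ∈ N := by
          refine hC _ fun n hn => ?_
          have hu := hnc g⁻¹ n hn
          rw [inv_inv] at hu
          have h1 : z⁻¹ * n * z = n⁻¹ := by
            have h := hzinv n hn
            rwa [hzi] at h ⊢
          have h2 : z * (g⁻¹ * n⁻¹ * g) * z⁻¹ = g⁻¹ * n * g := by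
            rw [hzinv _ (by simpa [mul_assoc] using inv_mem hu)]; group
          calc g * z * g⁻¹ * z⁻¹ * n = g * z * g⁻¹ * (z⁻¹ * n * z) * z⁻¹ := by group
            _ = g * (z * (g⁻¹ * n⁻¹ * g) * z⁻¹) * (z * g⁻¹ * z⁻¹) := by rw [h1]; group
            _ = n * (g * z * g⁻¹ * z⁻¹) := by rw [h2]; group
        obtain ⟨m, hm, hmz⟩ := horbit z hzfix _ hin
        rw [inv_mul_cancel_right] at hmz
        refine ⟨m, hm, ?_⟩
        calc m⁻¹ * g * z = m⁻¹ * (g * z * g⁻¹) * g := by group
          _ = z * (m⁻¹ * g) := by rw [← hmz]; group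
      set K := Subgroup.centralizer ({z} : Set G) with hK
      have hsup : Function.Surjective ((QuotientGroup.mk' N).comp K.subtype) := by
        intro a
        obtain ⟨g, rfl⟩ := QuotientGroup.mk'_surjective N a
        obtain ⟨m, hm, hmg⟩ := hfact g
        refine ⟨⟨m⁻¹ * g, Subgroup.mem_centralizer_singleton_iff.2 hmg⟩, ?_⟩
        show QuotientGroup.mk' N (m⁻¹ * g) = QuotientGroup.mk' N g
        rw [map_mul, map_inv, QuotientGroup.mk'_apply N m, (QuotientGroup.eq_one_iff m).2 hm]
        simp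
      rw [Subgroup.index_eq_card] at hdvd
      obtain ⟨x, hx⟩ := exists_prime_orderOf_dvd_card' (G := K) p
        (hdvd.trans (Subgroup.card_dvd_of_surjective _ hsup))
      have hxo : orderOf (x : G) = p := by rwa [Subgroup.orderOf_coe]
      have hx1 : (x : G) ≠ 1 := fun h => hp.out.ne_one (by rw [← hxo, h, orderOf_one])
      have hxz : (x : G) * z = z * x := Subgroup.mem_centralizer_singleton_iff.1 x.2
      have hxN : (x : G) ∉ N := fun hmem => hx1 (hzfix _ hmem hxz.symm)
      let f : N → N := fun m => ⟨(m : G) * ((x : G) * (m : G)⁻¹ * (x : G)⁻¹), mul_mem m.2 (hnc _ _ (inv_mem m.2))⟩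
      have hnotinj : ¬ Function.Injective f := by
        intro hinj
        letI : MulAction (Subgroup.zpowers (x : G)) N :=
          { smul := fun a n => ⟨(a : G) * n * (a : G)⁻¹, hnc _ _ n.2⟩
            one_smul := fun n => Subtype.ext (by show (1 : G) * n * (1 : G)⁻¹ = n; group)
            mul_smul := fun a b n => Subtype.ext (by
              show ((a : G) * b) * n * ((a : G) * b)⁻¹ = (a : G) * ((b : G) * n * (b : G)⁻¹) * (a : G)⁻¹
              group) }
        have hP : IsPGroup p (Subgroup.zpowers (x : G)) :=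
          IsPGroup.of_card (n := 1) (by rw [Nat.card_zpowers, hxo, pow_one])
        obtain ⟨r, hr0, hr⟩ := hNp.nontrivial_iff_card.1 inferInstance
        have hone : (1 : N) ∈ MulAction.fixedPoints (Subgroup.zpowers (x : G)) N :=
          fun a => Subtype.ext (by show (a : G) * 1 * (a : G)⁻¹ = 1; group)
        obtain ⟨b, hb, hb1⟩ := hP.exists_fixed_point_of_prime_dvd_card_of_fixed_point N
          (hr ▸ dvd_pow_self p hr0.ne') hone
        refine hb1 (hinj (a₁ := 1) (a₂ := b) (Subtype.ext ?_))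
        have h := congrArg Subtype.val (hb ⟨x, Subgroup.mem_zpowers _⟩)
        change (x : G) * b * (x : G)⁻¹ = b at h
        have h' : (x : G) * (b : G)⁻¹ * (x : G)⁻¹ = (b : G)⁻¹ := by
          have := congrArg (·⁻¹) h
          simpa [mul_assoc] using this
        simp [f, h']
      obtain ⟨n, hn⟩ : ∃ n, ∀ m, f m ≠ n := by
        by_contra hcon
        push Not at hcon
        exact hnotinj (Finite.injective_iff_surjective.2 hcon)
      have hn' : (x : G)⁻¹ * n * x ∈ N := by simpa using hnc (x : G)⁻¹ n n.2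
      obtain ⟨y, hy⟩ := isConj_iff.1 (hsingle x hxN _ hn')
      rw [show (x : G) * ((x : G)⁻¹ * n * x) = n * x by group] at hy
      obtain ⟨m, hm, hmy⟩ := hfact y
      set k := m⁻¹ * y with hk
      have hym : y = m * k := by rw [hk]; group
      have hkxk : k * x * k⁻¹ * (x : G)⁻¹ ∈ N := by
        have h1 : k * x * k⁻¹ = m⁻¹ * ((n : G) * x) * m := by rw [← hy, hym]; group
        rw [h1, show m⁻¹ * ((n : G) * x) * m * (x : G)⁻¹ = m⁻¹ * n * ((x : G) * m * (x : G)⁻¹) by group]
        exact mul_mem (mul_mem (inv_mem hm) n.2) (hnc _ _ hm)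
      have hkK : k ∈ K := Subgroup.mem_centralizer_singleton_iff.2 hmy
      have hcK : k * x * k⁻¹ * (x : G)⁻¹ ∈ K :=
        mul_mem (mul_mem (mul_mem hkK x.2) (inv_mem hkK)) (inv_mem x.2)
      have h1 := hzfix _ hkxk (Subgroup.mem_centralizer_singleton_iff.1 hcK).symm
      refine hn ⟨m, hm⟩ (Subtype.ext ?_)
      show m * ((x : G) * m⁻¹ * (x : G)⁻¹) = n
      have h2 : k * x * k⁻¹ = x := mul_inv_eq_one.1 h1
      calc m * ((x : G) * m⁻¹ * (x : G)⁻¹) = m * (k * x * k⁻¹) * m⁻¹ * (x : G)⁻¹ := by rw [h2]; group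
        _ = (y * x * y⁻¹) * (x : G)⁻¹ := by rw [hym]; group
        _ = n := by rw [hy]; group
  -- complement
  obtain ⟨q, hq⟩ := hNp.exists_card_eq
  have hcop : (Nat.card N).Coprime N.index := by
    rw [hq]; exact (hp.out.coprime_iff_not_dvd.2 hidx).pow_left q
  obtain ⟨H, hH⟩ := Subgroup.exists_right_complement'_of_coprime hcop
  have hHidx : N.index = Nat.card H := by
    have h1 := hH.card_mul
    have h2 := Subgroup.card_mul_index N
    exact Nat.eq_of_mul_eq_mul_left Nat.card_pos (h2.trans h1.symm)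
  have hinf : ∀ x, x ∈ H → x ∈ N → x = 1 := fun x h1 h2 =>
    Subgroup.mem_bot.1 (hH.disjoint.eq_bot ▸ ⟨h2, h1⟩)
  have hfact : ∀ g : G, ∃ m ∈ N, ∃ h ∈ H, g = m * h := fun g => by
    obtain ⟨⟨⟨m, hm⟩, ⟨h, hh⟩⟩, he⟩ := hH.2 g
    exact ⟨m, hm, h, hh, he.symm⟩
  have hHfix : ∀ h ∈ H, h ≠ 1 → ∀ n ∈ N, h * n = n * h → n = 1 := by
    intro h hh h1
    refine hfix h (fun hd => hidx ?_) (fun h' => h1 (hinf h hh h'))
    rw [hHidx]
    exact hd.trans (by simpa using orderOf_dvd_natCard (⟨h, hh⟩ : H))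
  have hCn0 : Subgroup.centralizer ({n0} : Set G) = N := by
    ext g
    rw [Subgroup.mem_centralizer_singleton_iff]
    refine ⟨fun hg => ?_, fun hg => hab g hg n0 hn0⟩
    obtain ⟨m, hm, h, hh, rfl⟩ := hfact g
    by_cases h1 : h = 1
    · simpa [h1] using hm
    · refine absurd (hHfix h hh h1 n0 hn0 (mul_left_cancel (a := m) ?_)) hn01
      rw [← mul_assoc, hg, ← mul_assoc, ← mul_assoc, hab m hm n0 hn0]
  have hNcard : 1 < Nat.card N := Finite.one_lt_card
  have hHcard : Nat.card H + 1 = Nat.card N := by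
    rw [hCn0] at hclass
    have h1 := hH.card_mul
    have : Nat.card N - 1 = Nat.card H :=
      Nat.eq_of_mul_eq_mul_right Nat.card_pos (hclass.trans (h1.symm.trans (mul_comm _ _)))
    omega
  refine ⟨H, ⟨?_, ?_, ?_⟩, ?_, hHcard⟩
  · intro hb
    have h1 := hH.card_mul
    rw [hb, Subgroup.card_bot] at h1 hHcard
    omega
  · intro ht
    exact hn01 (hinf n0 (ht ▸ Subgroup.mem_top _) hn0)
  · intro g hg
    rw [eq_bot_iff]
    rintro x ⟨hx1, hx2⟩
    rw [Subgroup.mem_bot]
    obtain ⟨m, hm, h, hh, rfl⟩ := hfact g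
    obtain ⟨u, hu, hux⟩ := Subgroup.mem_map.1 (show x ∈ H.map (MulAut.conj (m * h)).toMonoidHom from hx2)
    simp only [MulEquiv.coe_toMonoidHom, MulAut.conj_apply] at hux
    have hx : m⁻¹ * x * m = h * u * h⁻¹ := by rw [← hux]; group
    have hxH : m⁻¹ * x * m ∈ H := hx ▸ mul_mem (mul_mem hh hu) (inv_mem hh)
    have hc : x⁻¹ * (m⁻¹ * x * m) ∈ N := by
      rw [show x⁻¹ * (m⁻¹ * x * m) = (x⁻¹ * m⁻¹ * x) * m by group]
      exact mul_mem (by simpa using hnc x⁻¹ _ (inv_mem hm)) hm
    have hone := hinf _ (mul_mem (inv_mem hx1) hxH) hc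
    by_contra hxne
    have hm1 := hHfix x hx1 hxne m hm (by
      calc x * m = m * (x * (x⁻¹ * (m⁻¹ * x * m))) := by group
        _ = m * x := by rw [hone, mul_one])
    exact hg (by rw [hm1, one_mul]; exact hh)
  · ext x
    simp only [Cfsg.frobeniusKernel, Set.mem_ofPred_eq, SetLike.mem_coe]
    constructor
    · rintro (rfl | hx)
      · exact one_mem N
      obtain ⟨m, hm, h, hh, rfl⟩ := hfact x
      by_cases h1 : h = 1
      · simpa [h1] using hm
      obtain ⟨m', -, hm'⟩ := horbit h (hHfix h hh h1) m hm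
      exact absurd (Subgroup.mem_map.2 ⟨h, hh, hm'⟩) (hx m')
    · intro hx
      by_cases hx1 : x = 1
      · exact Or.inl hx1
      right
      intro g hmem
      obtain ⟨u, hu, hux⟩ := Subgroup.mem_map.1 (show x ∈ H.map (MulAut.conj g).toMonoidHom from hmem)
      simp only [MulEquiv.coe_toMonoidHom, MulAut.conj_apply] at hux
      have : u ∈ N := by
        have := hnc g⁻¹ x hx
        rwa [← hux, show g⁻¹ * (g * u * g⁻¹) * g⁻¹⁻¹ = u by group] at this
      rw [hinf u hu this] at hux
      exact hx1 (by rw [← hux]; group)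

end Group

/-- Let G be a finite group of order greater than 2 with an irreducible character χ nonzero on exactly two conjugacy classes, and let N be the normal p-subgroup of elements where χ is nonzero. Then N is the whole p-core O_p(G) if and only if G is a doubly transitive Frobenius group with kernel N: G has a Frobenius complement H whose Frobenius kernel is N and whose order is one less than that of N. -/
theorem result {G : Type*} [Group G] [Finite G] (hG : 2 < Nat.card G) (χ : Cfsg.IrrCharacter G) (hχ : Nat.card {C : ConjClasses G // ∃ g ∈ C.carrier, (χ : G → ℂ) g ≠ 0} = 2) (p : ℕ) [Fact p.Prime] (N : Subgroup G) [N.Normal] (hN : ∀ g : G, g ∈ N ↔ (χ : G → ℂ) g ≠ 0) (hNp : IsPGroup p N) (hN1 : N ≠ ⊥) :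
    N = Cfsg.pCore p G ↔ ∃ H : Subgroup G, Cfsg.IsFrobeniusComplement H ∧ Cfsg.frobeniusKernel H = (N : Set G) ∧ Nat.card H + 1 = Nat.card N := by
  obtain ⟨htr, hsingle⟩ := class_facts hG χ hχ p N hN hNp hN1
  refine ⟨frobenius_of_core hG p N hNp hN1 htr hsingle, ?_⟩
  rintro ⟨H, -, hker, hcard⟩
  refine le_antisymm (Cfsg.Agent.Lib.Cores.le_pCore inferInstance hNp) fun x hx => ?_
  rw [← SetLike.mem_coe, ← hker]
  by_cases hx1 : x = 1
  · exact Or.inl hx1
  right
  intro g hmem
  obtain ⟨u, hu, hux⟩ := Subgroup.mem_map.1 (show x ∈ H.map (MulAut.conj g).toMonoidHom from hmem)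
  simp only [MulEquiv.coe_toMonoidHom, MulAut.conj_apply] at hux
  obtain ⟨k, hk⟩ := (Cfsg.Agent.Lib.Cores.pCore_isPGroup p G) ⟨x, hx⟩
  have hxk : x ^ p ^ k = 1 := by simpa using congrArg Subtype.val hk
  have hu1 : orderOf u ∣ p ^ k := by
    refine orderOf_dvd_of_pow_eq_one ?_
    rw [← hux, conj_pow, conj_eq_one_iff] at hxk
    exact hxk
  have hu2 : orderOf u ∣ Nat.card H := by simpa using orderOf_dvd_natCard (⟨u, hu⟩ : H)
  haveI : Nontrivial N := (Subgroup.nontrivial_iff_ne_bot N).2 hN1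
  obtain ⟨r, hr0, hr⟩ := hNp.nontrivial_iff_card.1 inferInstance
  have hcop : (p ^ k).Coprime (Nat.card H) := by
    refine Nat.Coprime.pow_left k ((Nat.Prime.coprime_iff_not_dvd Fact.out).2 fun hd => ?_)
    have : p ∣ Nat.card H + 1 := hcard ▸ hr ▸ dvd_pow_self p hr0.ne'
    exact (Fact.out : p.Prime).ne_one (Nat.dvd_one.1 ((Nat.dvd_add_right hd).1 this))
  have := Nat.eq_one_of_dvd_coprimes hcop hu1 hu2
  rw [orderOf_eq_one_iff] at this
  exact hx1 (by rw [← hux, this]; group)

end Cfsg.Agent.S4839
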