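import Cfsg.Statements.S4840
import Cfsg.Agent.Lib.TwoClassQuot.Cases
import Cfsg.Agent.Lib.InvChar.TwoClassSylow

set_option autoImplicit false
open Cfsg

namespace Cfsg.Agent.S4840

theorem good_of_mulAut_module {X A : Type*} [Group X] [Finite X] [Group.IsSolvable X] [CommGroup A] [Finite A]
    [Nontrivial A] {p : ℕ} [Fact p.Prime] [Module (ZMod p) (Additive A)] (ψ : X →* MulAut A)
    (hinj : Function.Injective ψ) (htr : ∀ v w : A, v ≠ 1 → w ≠ 1 → ∃ g, ψ g v = w)
    (hst : ∀ v : A, v ≠ 1 → ∀ g, ψ g v = v → ∃ k, g ^ p ^ k = 1) : Cfsg.Agent.Lib.TwoClassQuot.Good p X := by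
  let L : X → (Additive A ≃ₗ[ZMod p] Additive A) := fun g =>
    (MulEquiv.toAdditive (ψ g)).toLinearEquiv fun c x =>
      ZMod.map_smul (MulEquiv.toAdditive (ψ g)).toAddMonoidHom c x
  have hL : ∀ g (x : Additive A), L g x = Additive.ofMul (ψ g x.toMul) := fun g x => rfl
  let ρ : X →* (Additive A ≃ₗ[ZMod p] Additive A) := MonoidHom.mk' L fun g h => by
    refine LinearEquiv.ext fun x => ?_
    rw [LinearEquiv.mul_apply, hL, hL, hL, map_mul, MulAut.mul_apply, toMul_ofMul]
  have hρ : ∀ g (x : Additive A), ρ g x = Additive.ofMul (ψ g x.toMul) := fun g x => rfl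
  have T : Cfsg.Agent.Lib.TwoClassQuot.Trans ρ := by
    refine ⟨fun g h e => hinj (MulEquiv.ext fun a => ?_), fun v w hv hw => ?_, fun v hv g hg => ?_⟩
    · have := LinearEquiv.congr_fun e (Additive.ofMul a)
      rw [hρ, hρ, toMul_ofMul] at this
      exact Additive.ofMul.injective this
    · obtain ⟨g, hg⟩ := htr v.toMul w.toMul (fun e => hv (Additive.toMul.injective e)) (fun e => hw (Additive.toMul.injective e))
      exact ⟨g, by rw [hρ, hg, ofMul_toMul]⟩
    · rw [hρ] at hg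
      exact hst v.toMul (fun e => hv (Additive.toMul.injective e)) g (Additive.ofMul.injective hg)
  exact T.good

theorem good_of_mulAut {X A : Type*} [Group X] [Finite X] [Group.IsSolvable X] [CommGroup A] [Finite A]
    [Nontrivial A] {p : ℕ} [Fact p.Prime] (hpow : ∀ a : A, a ^ p = 1) (ψ : X →* MulAut A)
    (hinj : Function.Injective ψ) (htr : ∀ v w : A, v ≠ 1 → w ≠ 1 → ∃ g, ψ g v = w)
    (hst : ∀ v : A, v ≠ 1 → ∀ g, ψ g v = v → ∃ k, g ^ p ^ k = 1) : Cfsg.Agent.Lib.TwoClassQuot.Good p X :=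
  @good_of_mulAut_module X A _ _ _ _ _ _ p _
    (AddCommGroup.zmodModule fun a => Additive.toMul.injective (hpow a.toMul)) ψ hinj htr hst

/-- Let G be a finite solvable group of order greater than 2 with an irreducible character nonzero on exactly two conjugacy classes. Then there is exactly one prime p with O_p(G) ≠ 1, and the quotient G/O_p(G) has a normal p-complement and commutative Sylow p-subgroups. -/
theorem result {G : Type*} [Group G] [Finite G] [hs : Group.IsSolvable G] (hG : 2 < Nat.card G) (χ : Cfsg.IrrCharacter G) (hχ : Nat.card {C : ConjClasses G // ∃ g ∈ C.carrier, (χ : G → ℂ) g ≠ 0} = 2) :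
    ∃ p : ℕ, p.Prime ∧ (∀ q : ℕ, q.Prime → (Cfsg.pCore q G ≠ ⊥ ↔ q = p)) ∧
      Cfsg.HasNormalPComplement p (G ⧸ Cfsg.pCore p G) ∧ ∀ Q : Sylow p (G ⧸ Cfsg.pCore p G), IsMulCommutative (Q : Subgroup (G ⧸ Cfsg.pCore p G)) := by
  classical
  obtain ⟨-, -, N, hNn, hNb, hmin, ⟨p, hp, hcomm, hpow⟩, hN, htr⟩ :=
    Cfsg.Agent.Lib.InvChar.TwoClassChar.structure_thm hG (χ := χ) hχ
  haveI := Fact.mk hp
  haveI := hNn
  have hNp : IsPGroup p N := fun a => ⟨1, Subtype.ext (by rw [SubgroupClass.coe_pow, pow_one]; exact hpow _ a.2)⟩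
  have hS : Cfsg.Agent.Lib.InvChar.TwoClassChar.Setup χ p N := ⟨hG, hχ, fun g => (hN g).symm, hNp, hNb⟩
  set O := Cfsg.pCore p G with hO
  have hNO : N ≤ O := Cfsg.Agent.Lib.Cores.le_pCore hNn hNp
  have hOb : O ≠ ⊥ := fun e => hNb (le_bot_iff.mp (e ▸ hNO))
  have hONc : ∀ o ∈ O, ∀ n ∈ N, o * n = n * o := by
    haveI : Nontrivial O := (Subgroup.nontrivial_iff_ne_bot O).mpr hOb
    haveI := (Cfsg.Agent.Lib.Cores.pCore_isPGroup p G).center_nontrivial
    obtain ⟨z, hz⟩ := exists_ne (1 : Subgroup.center O)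
    set Z := (Subgroup.center O).map O.subtype with hZ
    have hZn : Z.Normal := ⟨by
      rintro _ ⟨y, hy, rfl⟩ g
      refine ⟨⟨g * y * g⁻¹, (inferInstance : O.Normal).conj_mem _ y.2 g⟩, Subgroup.mem_center_iff.mpr fun w => ?_, rfl⟩
      have h := congrArg Subtype.val
        (Subgroup.mem_center_iff.mp hy ⟨g⁻¹ * w * g, by simpa using (inferInstance : O.Normal).conj_mem _ w.2 g⁻¹⟩)
      apply Subtype.ext
      change (w : G) * (g * y * g⁻¹) = g * y * g⁻¹ * w
      change g⁻¹ * (w : G) * g * y = (y : G) * (g⁻¹ * w * g) at h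
      calc (w : G) * (g * y * g⁻¹) = g * (g⁻¹ * w * g * y) * g⁻¹ := by group
        _ = g * ((y : G) * (g⁻¹ * w * g)) * g⁻¹ := by rw [h]
        _ = _ := by group⟩
    have hZb : Z ≠ ⊥ := by
      intro e
      have hmem : ((z : O) : G) ∈ Z := ⟨z, z.2, rfl⟩
      rw [e, Subgroup.mem_bot] at hmem
      exact hz (Subtype.ext (Subtype.ext hmem))
    intro o ho n hn
    obtain ⟨y, hy, rfl⟩ := hmin Z hZn hZb hn
    exact congrArg Subtype.val (Subgroup.mem_center_iff.mp hy ⟨o, ho⟩)
  letI cN : CommGroup N :=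
    { (inferInstance : Group N) with mul_comm := hcomm.is_comm.comm }
  haveI : Nontrivial N := (Subgroup.nontrivial_iff_ne_bot N).mpr hNb
  let ψ₀ : G →* MulAut N := MulAut.conjNormal
  have hψ : ∀ (g : G) (n : N), ((ψ₀ g n : N) : G) = g * n * g⁻¹ := fun g n => MulAut.conjNormal_apply g n
  have hker : ψ₀.ker = O := by
    refine le_antisymm (Cfsg.Agent.Lib.Cores.le_pCore (MonoidHom.normal_ker ψ₀) fun g => ?_) fun o ho => ?_
    · obtain ⟨n0, hn0⟩ := exists_ne (1 : N)
      have hx1 : (n0 : G) ≠ 1 := fun e => hn0 (Subtype.ext e)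
      have hc : (g : G) ∈ Subgroup.centralizer ({(n0 : G)} : Set G) :=
        Subgroup.mem_centralizer_singleton_iff.mpr (by
          have := hψ (g : G) n0
          rw [MonoidHom.mem_ker.mp g.2, MulAut.one_apply, eq_comm, mul_inv_eq_iff_eq_mul] at this
          exact this)
      obtain ⟨k, hk⟩ := hS.isPGroup_centralizer n0.2 hx1 ⟨g, hc⟩
      exact ⟨k, Subtype.ext (by simpa using congrArg Subtype.val hk)⟩
    · refine MonoidHom.mem_ker.mpr (MulEquiv.ext fun x => Subtype.ext ?_)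
      rw [hψ, MulAut.one_apply, hONc o ho _ x.2, mul_inv_cancel_right]
  let ψ : G ⧸ O →* MulAut N := QuotientGroup.lift O ψ₀ hker.ge
  have hgood : Cfsg.Agent.Lib.TwoClassQuot.Good p (G ⧸ O) := by
    refine @good_of_mulAut (G ⧸ O) N _ _ inferInstance cN _ _ p _
      (fun a => Subtype.ext (by rw [SubgroupClass.coe_pow]; exact hpow _ a.2)) ψ ?_ ?_ ?_
    · rw [← MonoidHom.ker_eq_bot_iff]
      refine (Subgroup.eq_bot_iff_forall _).mpr fun q hq => ?_
      induction q using QuotientGroup.induction_on with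
      | H g => exact (QuotientGroup.eq_one_iff g).mpr (hker.le hq)
    · intro v w hv hw
      obtain ⟨g, hg⟩ := htr (v : G) v.2 (w : G) w.2 (fun e => hv (Subtype.ext e)) (fun e => hw (Subtype.ext e))
      exact ⟨(g : G ⧸ O), Subtype.ext ((hψ g v).trans hg)⟩
    · intro v hv q hq
      induction q using QuotientGroup.induction_on with
      | H g =>
        have hv1 : (v : G) ≠ 1 := fun e => hv (Subtype.ext e)
        have h : g * (v : G) * g⁻¹ = v := (hψ g v).symm.trans (congrArg Subtype.val hq)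
        rw [mul_inv_eq_iff_eq_mul] at h
        obtain ⟨k, hk⟩ := hS.isPGroup_centralizer v.2 hv1
          ⟨g, Subgroup.mem_centralizer_singleton_iff.mpr h⟩
        refine ⟨k, ?_⟩
        rw [← QuotientGroup.mk_pow, show g ^ p ^ k = 1 by simpa using congrArg Subtype.val hk, QuotientGroup.mk_one]
  obtain ⟨⟨K, hKn, hKp, k, hk⟩, hab⟩ := hgood
  refine ⟨p, hp, fun q hq => ⟨fun hne => ?_, fun e => e ▸ hOb⟩, ?_, hab⟩
  · haveI := Fact.mk hq
    by_contra hqp
    obtain ⟨n, hn⟩ := exists_ne (1 : N)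
    have hmem : (n : G) ∈ Cfsg.pCore q G := hmin _ inferInstance hne n.2
    obtain ⟨i, hi⟩ := Cfsg.Agent.Lib.Cores.pCore_isPGroup q G ⟨n, hmem⟩
    have h1 : orderOf (n : G) ∣ q ^ i := orderOf_dvd_of_pow_eq_one (by simpa using congrArg Subtype.val hi)
    have h2 : orderOf (n : G) ∣ p := orderOf_dvd_of_pow_eq_one (hpow _ n.2)
    have h3 := Nat.eq_one_of_dvd_coprimes (Nat.Coprime.pow_left i ((Nat.coprime_primes hq hp).mpr hqp)) h1 h2
    exact hn (Subtype.ext (orderOf_eq_one_iff.mp h3))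
  · obtain ⟨P⟩ : Nonempty (Sylow p (G ⧸ O)) := inferInstance
    refine ⟨P, K, hKn, ?_⟩
    have hX := K.card_mul_index
    rw [hk] at hX
    have hP : Nat.card (P : Subgroup (G ⧸ O)) = p ^ k := by
      rw [P.card_eq_multiplicity, ← hX, Nat.factorization_mul Nat.card_pos.ne' (pow_ne_zero k hp.ne_zero),
        Finsupp.add_apply, Nat.factorization_eq_zero_of_not_dvd hKp, hp.factorization_pow, Finsupp.single_eq_same,
        zero_add]
    refine Subgroup.isComplement'_of_coprime ?_ ?_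
    · rw [hP, hX]
    · rw [hP]
      exact Nat.Coprime.pow_right k (hp.coprime_iff_not_dvd.mpr hKp).symm

end Cfsg.Agent.S4840
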