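import Cfsg.Statements.S4845
import Cfsg.Agent.Lib.Characters.GaloisDegree
-- import your own Cfsg.Agent.* helpers here

set_option autoImplicit false
open Cfsg

namespace Cfsg.Agent.S4845

/-- Let p be a prime and P a finite non-commutative p-group. Then every two irreducible characters of P of the same degree greater than 1 are Galois conjugate (one is obtained from the other by composing with g ↦ g^k for some k prime to the order of P) if and only if the centre of P is cyclic and the derived subgroup of P has order p. -/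
theorem result {P : Type*} [Group P] [Finite P] (p : ℕ) [Fact p.Prime] (hP : IsPGroup p P) (hna : ¬ IsMulCommutative P) :
    (∀ χ ψ : Cfsg.IrrCharacter P, Cfsg.charDegree (χ : P → ℂ) ≠ 1 → Cfsg.charDegree (χ : P → ℂ) = Cfsg.charDegree (ψ : P → ℂ) → ∃ k : ℕ, Nat.Coprime k (Nat.card P) ∧ ∀ g : P, (ψ : P → ℂ) g = (χ : P → ℂ) (g ^ k)) ↔
      (IsCyclic (Subgroup.center P) ∧ Nat.card (commutator P) = p) := by
  classical
  have hdeg : ∀ χ : Cfsg.IrrCharacter P, ∃ n : ℕ, (χ : P → ℂ) 1 = n ∧ Cfsg.charDegree (χ : P → ℂ) = n := by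
    intro χ
    obtain ⟨n, -, hn⟩ := Lib.Characters.IsIrrCharacter.exists_apply_one χ.2
    exact ⟨n, hn, by simp [Cfsg.charDegree, hn]⟩
  have hC : (∀ χ ψ : Cfsg.IrrCharacter P, Cfsg.charDegree (χ : P → ℂ) ≠ 1 → Cfsg.charDegree (χ : P → ℂ) = Cfsg.charDegree (ψ : P → ℂ) → ∃ k : ℕ, Nat.Coprime k (Nat.card P) ∧ ∀ g : P, (ψ : P → ℂ) g = (χ : P → ℂ) (g ^ k)) ↔
      Lib.Characters.GaloisDegree.Conjp P := by
    constructor
    · intro h χ ψ h1 h2
      obtain ⟨a, ha, ha'⟩ := hdeg χ
      obtain ⟨b, hb, hb'⟩ := hdeg ψ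
      refine h χ ψ (fun e => h1 ?_) ?_
      · rw [ha, ← ha', e, Nat.cast_one]
      · rw [ha', hb']; exact Nat.cast_injective (ha.symm.trans (h2.trans hb))
    · intro h χ ψ h1 h2
      obtain ⟨a, ha, ha'⟩ := hdeg χ
      obtain ⟨b, hb, hb'⟩ := hdeg ψ
      refine h χ ψ (fun e => h1 ?_) ?_
      · rw [ha'] ; exact Nat.cast_injective (ha.symm.trans (e.trans Nat.cast_one.symm))
      · rw [ha, hb, ← ha', ← hb', h2]
  rw [hC]
  have hne : commutator P ≠ ⊥ := by
    intro hb
    apply hna
    rw [commutator_def, Subgroup.commutator_eq_bot_iff_le_centralizer] at hb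
    exact ⟨⟨fun a b => (Subgroup.mem_centralizer_iff.mp (hb (Subgroup.mem_top a)) b (Subgroup.mem_top b)).symm⟩⟩
  constructor
  · intro h
    have hc := Lib.Characters.GaloisDegree.card_commutator hP h hne
    exact ⟨(Lib.Characters.GaloisDegree.derived_prime hP hc h).1, hc⟩
  · rintro ⟨hcyc, hc⟩
    exact Lib.Characters.GaloisDegree.conjp_of_derived_prime hP hc hcyc

end Cfsg.Agent.S4845
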