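import Cfsg.Statements.S4850
import Cfsg.Agent.Lib.VanishingOrders.Bound
import Cfsg.Agent.S0064

set_option autoImplicit false
open Cfsg

namespace Cfsg.Agent.S4850

/-- Let p be a prime and G a finite solvable group whose vanishing elements (elements at which some irreducible character is zero) of order divisible by p all have the same order, with at least one such element. Let P be a Sylow p-subgroup of G. Then the derived subgroup of P is subnormal in G and the image of P in G/O_p(G) is cyclic. -/
theorem result {G : Type*} [Group G] [Finite G] [hs : Group.IsSolvable G] (p : ℕ) [Fact p.Prime] (b : ℕ) (hvo : {n : ℕ | p ∣ n ∧ ∃ (g : G) (χ : Cfsg.IrrCharacter G), orderOf g = n ∧ (χ : G → ℂ) g = 0} = {b}) (P : Sylow p G) :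
    ((commutator ↥(P : Subgroup G)).map (P : Subgroup G).subtype).IsSubnormal ∧ IsCyclic ↥((P : Subgroup G).map (QuotientGroup.mk' (Cfsg.pCore p G))) := by
  open Cfsg.Agent.Lib.VanishingOrders Cfsg.Agent.Lib.Cores in
  classical
  have hsame : ∀ x y : G, VS p x → VS p y → orderOf x = orderOf y := by
    intro x y hx hy
    have key : ∀ z : G, VS p z → orderOf z = b := fun z hz => by
      have : orderOf z ∈ ({b} : Set ℕ) := hvo ▸ ⟨hz.1, z, hz.2.choose, rfl, hz.2.choose_spec⟩
      exact this
    rw [key x hx, key y hy]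
  have hd := card_map_dvd (p := p) hs hsame P
  set Q := (P : Subgroup G).map (QuotientGroup.mk' (Cfsg.pCore p G)) with hQ
  haveI hcyc : IsCyclic ↥Q := by
    rcases (Nat.dvd_prime (Fact.out : p.Prime)).1 hd with h | h
    · haveI := (Nat.card_eq_one_iff_unique.1 h).1
      infer_instance
    · exact isCyclic_of_prime_card h
  refine ⟨?_, hcyc⟩
  have hle : (commutator ↥(P : Subgroup G)).map (P : Subgroup G).subtype ≤ Cfsg.pCore p G := by
    rw [Subgroup.map_subtype_commutator, Subgroup.commutator_le]
    intro x hx y hy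
    refine (QuotientGroup.eq_one_iff _).1
      (show QuotientGroup.mk' (Cfsg.pCore p G) (x * y * x⁻¹ * y⁻¹) = 1 from ?_)
    rw [map_mul, map_mul, map_mul, map_inv, map_inv, mul_inv_eq_one, mul_inv_eq_iff_eq_mul]
    letI : CommGroup ↥Q := IsCyclic.commGroup
    exact congrArg Subtype.val (mul_comm (⟨_, Subgroup.mem_map_of_mem _ hx⟩ : ↥Q)
      ⟨_, Subgroup.mem_map_of_mem _ hy⟩)
  haveI : Group.IsNilpotent ↥(Cfsg.pCore p G) :=
    (pCore_isPGroup p G).isNilpotent
  have hsub : (((commutator ↥(P : Subgroup G)).map (P : Subgroup G).subtype).subgroupOf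
      (Cfsg.pCore p G)).IsSubnormal := Cfsg.Agent.S0064.result.1 ‹_› _
  exact Subgroup.IsSubnormal.trans hle hsub (Cfsg.pCore_normal p G).isSubnormal

end Cfsg.Agent.S4850
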