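import Cfsg.Statements.S4859
import Cfsg.Agent.Lib.CharMisc.SquareRoots
-- import your own Cfsg.Agent.* helpers here

set_option autoImplicit false
open Cfsg

namespace Cfsg.Agent.S4859

/-- Let p be an odd prime, G a finite group and x an element of G whose order is a power of p (possibly 1) and whose centralizer has even order. Let y be a 2-element of the centralizer of x whose order is largest among the 2-elements of that centralizer. Then x * y is not a square in G, and some non-principal real-valued irreducible character of G does not vanish at x * y. -/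
theorem result {G : Type*} [Group G] [Finite G] (p : ℕ) [Fact p.Prime] (hp : p ≠ 2) (x : G) (hx : ∃ k : ℕ, orderOf x = p ^ k) (heven : Even (Nat.card (Subgroup.centralizer ({x} : Set G)))) (y : G) (hy : y ∈ Subgroup.centralizer ({x} : Set G)) (hy2 : ∃ k : ℕ, orderOf y = 2 ^ k) (hmax : ∀ z ∈ Subgroup.centralizer ({x} : Set G), (∃ k : ℕ, orderOf z = 2 ^ k) → orderOf z ≤ orderOf y) : (¬ ∃ u : G, u * u = x * y) ∧ ∃ χ : Cfsg.IrrCharacter G, ¬ ((χ : G → ℂ) = fun _ => (1 : ℂ)) ∧ (∀ g : G, ((χ : G → ℂ) g).im = 0) ∧ (χ : G → ℂ) (x * y) ≠ 0 := by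
  haveI := Fintype.ofFinite G
  haveI := Fintype.ofFinite (Cfsg.IrrCharacter G)
  have hcomm : ∀ z : G, z ∈ Subgroup.centralizer ({x} : Set G) ↔ Commute x z := fun z => by
    rw [Subgroup.mem_centralizer_singleton_iff]; exact ⟨fun h => h.symm, fun h => h.symm⟩
  obtain ⟨a, ha⟩ := hx
  obtain ⟨k, hk⟩ := hy2
  have hsq : ¬ ∃ u : G, u * u = x * y := by
    haveI : Fact (Nat.Prime 2) := ⟨Nat.prime_two⟩
    obtain ⟨z, hz⟩ := exists_prime_orderOf_dvd_card' (G := Subgroup.centralizer ({x} : Set G)) 2
      heven.two_dvd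
    refine Lib.CharMisc.not_square_of_max ((hcomm y).mp hy)
      (by rw [ha]; exact ((Fact.out : p.Prime).odd_of_ne_two hp).pow) hk
      (Or.inr ⟨z, (hcomm z).mp z.2, by rwa [Subgroup.orderOf_coe]⟩)
      (fun w hw hw2 => hmax w ((hcomm w).mpr hw) hw2)
  exact ⟨hsq, Lib.CharMisc.exists_real_ne_zero_of_not_square hsq⟩

end Cfsg.Agent.S4859
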