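import Cfsg.Statements.S4872
import Cfsg.Agent.Lib.Characters.Gallagher
import Cfsg.Agent.Lib.Characters.DegreeRatio
import Cfsg.Agent.Lib.Characters.Values
import Cfsg.Agent.Lib.Characters.FrobeniusSchur
import Cfsg.Agent.Lib.BlockHeights.CharTools
import Cfsg.Agent.S4475
-- import your own Cfsg.Agent.* helpers here

set_option autoImplicit false
open Cfsg

namespace Cfsg.Agent.S4872

open Cfsg.Agent.Lib.Characters
open scoped ComplexConjugate

/-- A real character with odd multiplicity of the trivial character on a subgroup has indicator one. -/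
theorem indicator_one_of_odd_fixed {G : Type*} [Group G] [Fintype G] (P : Subgroup G) [Fintype P]
    (χ : IrrCharacter G) (hreal : ∀ g, conj ((χ : G → ℂ) g) = (χ : G → ℂ) g) {k : ℕ} (hk : Odd k)
    (hkc : classInner (fun x : P => (χ : G → ℂ) x) (fun _ => 1) = (k : ℂ)) :
    (Nat.card G : ℂ)⁻¹ * ∑ s : G, (χ : G → ℂ) (s * s) = 1 := by
  classical
  have hreal' : ∀ g, ((χ : G → ℂ) g).im = 0 := fun g => Complex.conj_eq_iff_im.1 (hreal g)
  obtain ⟨_, _, ε, -, -, hε, -, hν⟩ := (frobeniusSchur χ.2).2 hreal'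
  rcases hε with rfl | rfl
  · exact hν
  exfalso
  obtain ⟨n, ρ, hρ, hχ⟩ := χ.2
  have hchar : ∀ g, (χ : G → ℂ) g = ρ.character g := fun g => by
    first | exact congrFun hχ g | exact (congrFun hχ g).symm
  obtain ⟨⟨M, hM0, hMinv⟩, hMsym⟩ := Cfsg.Agent.S4475.result n ρ hρ (fun g => by rw [← hchar]; exact hreal' g)
  have hskew : M.transpose = -M := by
    rw [hMsym M hMinv]
    simp only [← hchar, hν, neg_smul, one_smul]
  let A : G →* Matrix (Fin n) (Fin n) ℂ :=
    { toFun := fun g => LinearMap.toMatrix' (ρ g)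
      map_one' := by rw [map_one]; exact LinearMap.toMatrix'_id
      map_mul' := fun g h => by rw [map_mul]; exact LinearMap.toMatrix'_comp _ _ }
  have hMA : ∀ g, M * A g = (A g⁻¹).transpose * M := by
    intro g
    have h := hMinv g
    have hl : (A g⁻¹).transpose * (A g).transpose = 1 := by
      rw [← Matrix.transpose_mul, ← map_mul, mul_inv_cancel, map_one, Matrix.transpose_one]
    calc M * A g = (A g⁻¹).transpose * (A g).transpose * M * A g := by rw [hl, Matrix.one_mul]
      _ = (A g⁻¹).transpose * M := by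
        rw [Matrix.mul_assoc, Matrix.mul_assoc, ← Matrix.mul_assoc (A g).transpose]
        exact congrArg _ h
  -- the form has no kernel
  have hker : ∀ v, M.mulVec v = 0 → v = 0 := by
    obtain ⟨-, hsub⟩ := (isIrreducible_iff_forall ρ).mp hρ
    rcases hsub (LinearMap.ker (Matrix.toLin' M)) (fun g x hx => by
      rw [LinearMap.mem_ker, Matrix.toLin'_apply] at hx ⊢
      rw [← LinearMap.toMatrix'_mulVec (ρ g) x, Matrix.mulVec_mulVec]
      show (M * A g).mulVec x = 0
      rw [hMA, ← Matrix.mulVec_mulVec, hx, Matrix.mulVec_zero]) with h | h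
    · intro v hv
      exact (Submodule.eq_bot_iff _).1 h v (by rw [LinearMap.mem_ker, Matrix.toLin'_apply]; exact hv)
    · exact absurd (by rw [← LinearEquiv.map_eq_zero_iff Matrix.toLin']; exact LinearMap.ker_eq_top.1 h) hM0
  -- the projection onto the fixed space
  set E : Matrix (Fin n) (Fin n) ℂ := (Nat.card P : ℂ)⁻¹ • ∑ x : P, A x with hE
  have hEM : M * E = E.transpose * M := by
    rw [hE, Matrix.mul_smul, Matrix.transpose_smul, Matrix.smul_mul, Matrix.mul_sum, Matrix.transpose_sum,
      Matrix.sum_mul]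
    congr 1
    exact Fintype.sum_equiv (Equiv.inv P) _ _ fun x => by
      rw [hMA, Equiv.inv_apply, Subgroup.coe_inv]
  have hxE : ∀ x : P, A x * E = E := fun x => by
    rw [hE, Matrix.mul_smul, Matrix.mul_sum]
    congr 1
    exact Fintype.sum_equiv (Equiv.mulLeft x) _ _ fun y => by
      rw [Equiv.coe_mulLeft, Subgroup.coe_mul, map_mul]
  have hEE : E * E = E := by
    nth_rewrite 1 [hE]
    rw [Matrix.smul_mul, Matrix.sum_mul, Finset.sum_congr rfl fun x _ => hxE x, Finset.sum_const,
      Finset.card_univ, ← Nat.card_eq_fintype_card, ← Nat.cast_smul_eq_nsmul ℂ, smul_smul,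
      inv_mul_cancel₀ natCard_ne_zero_complex, one_smul]
  set f := Matrix.toLin' E with hf
  set W := LinearMap.range f
  have hproj : LinearMap.IsProj W f := by
    refine ⟨fun x => LinearMap.mem_range_self f x, fun x hx => ?_⟩
    obtain ⟨y, rfl⟩ := hx
    rw [← LinearMap.comp_apply, hf, ← Matrix.toLin'_mul, hEE]
  have hd : Module.finrank ℂ W = k := by
    have h := hproj.trace
    rw [hf, Matrix.trace_toLin'_eq, hE, Matrix.trace_smul, Matrix.trace_sum, smul_eq_mul] at h
    have h' : (k : ℂ) = (Module.finrank ℂ W : ℂ) := by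
      rw [← h, ← hkc, classInner]
      congr 1
      refine Finset.sum_congr rfl fun x _ => ?_
      rw [map_one, mul_one, hchar]
      exact LinearMap.trace_eq_matrix_trace ℂ (Pi.basisFun ℂ (Fin n)) (ρ x)
    exact_mod_cast h'.symm
  let b := (Module.finBasis ℂ W).equivFun
  set V := LinearMap.toMatrix' (W.subtype ∘ₗ b.symm.toLinearMap) with hV
  set R := LinearMap.toMatrix' (b.toLinearMap ∘ₗ f.codRestrict W hproj.map_mem) with hR
  have hVR : V * R = E := by
    refine Matrix.toLin'.injective ?_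
    rw [Matrix.toLin'_mul, hV, hR, Matrix.toLin'_toMatrix', Matrix.toLin'_toMatrix']
    exact LinearMap.ext fun x => by simp [hf]
  have hRV : R * V = 1 := by
    refine Matrix.toLin'.injective ?_
    rw [Matrix.toLin'_mul, hV, hR, Matrix.toLin'_toMatrix', Matrix.toLin'_toMatrix', Matrix.toLin'_one]
    refine LinearMap.ext fun x => ?_
    simp only [LinearMap.comp_apply, LinearEquiv.coe_coe, Submodule.coe_subtype, LinearMap.id_apply]
    rw [show f.codRestrict W hproj.map_mem ((b.symm x : W) : Fin n → ℂ) = b.symm x from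
      Subtype.ext (hproj.map_id _ (b.symm x).2), b.apply_symm_apply]
  set K := V.transpose * M * V with hK
  have hKskew : K.transpose = -K := by
    simp only [hK, Matrix.transpose_mul, Matrix.transpose_transpose, hskew, Matrix.neg_mul, Matrix.mul_neg,
      Matrix.mul_assoc]
  have hdet : K.det = 0 := by
    have h := congrArg Matrix.det hKskew
    rw [Matrix.det_transpose, Matrix.det_neg, Fintype.card_fin, (hd ▸ hk : Odd (Module.finrank ℂ W)).neg_one_pow, neg_one_mul] at h
    exact self_eq_neg.1 h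
  obtain ⟨x, hx0, hx⟩ := Matrix.exists_mulVec_eq_zero_iff.mpr hdet
  have hEV : E * V = V := by rw [← hVR, Matrix.mul_assoc, hRV, Matrix.mul_one]
  have hw : M.mulVec (V.mulVec x) = 0 := by
    rw [Matrix.mulVec_mulVec]
    have : M * V = R.transpose * K := by
      rw [hK, ← Matrix.mul_assoc, ← Matrix.mul_assoc, ← Matrix.transpose_mul, hVR, ← hEM, Matrix.mul_assoc, hEV]
    rw [this, ← Matrix.mulVec_mulVec, hx, Matrix.mulVec_zero]
  apply hx0
  have := congrArg R.mulVec (hker _ hw)
  rwa [Matrix.mulVec_mulVec, hRV, Matrix.one_mulVec, Matrix.mulVec_zero] at this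

/-- Let N be a normal subgroup of the finite group G with G/N a 2-group, and let φ be an irreducible complex character of N of 2-defect zero (the 2-part of #N divides φ(1)) whose complex conjugate is G-conjugate to φ. Then some irreducible character of G with Frobenius–Schur indicator +1 contains φ with multiplicity exactly one on restriction to N. -/
theorem result {G : Type*} [Group G] [Finite G] (N : Subgroup G) [N.Normal] (h2 : IsPGroup 2 (G ⧸ N)) (φ : Cfsg.IrrCharacter ↥N) (hdef : 2 ^ (Nat.card ↥N).factorization 2 ∣ Cfsg.charDegree (φ : ↥N → ℂ)) (hconj : ∃ g : G, ∀ n n' : ↥N, (n' : G) = g * (n : G) * g⁻¹ → (φ : ↥N → ℂ) n' = (starRingEnd ℂ) ((φ : ↥N → ℂ) n)) : ∃ χ : Cfsg.IrrCharacter G, (Nat.card G : ℂ)⁻¹ * ∑ᶠ g : G, (χ : G → ℂ) (g * g) = 1 ∧ (Nat.card ↥N : ℂ)⁻¹ * ∑ᶠ n : ↥N, (χ : G → ℂ) n * (starRingEnd ℂ) ((φ : ↥N → ℂ) n) = 1 := by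
  classical
  haveI : Fact (Nat.Prime 2) := ⟨Nat.prime_two⟩
  haveI := Fintype.ofFinite G
  haveI := Fintype.ofFinite N
  haveI := Fintype.ofFinite (IrrCharacter G)
  set d := charDegree (φ : N → ℂ)
  have hφ1 : (φ : N → ℂ) 1 = (d : ℂ) := Cfsg.Agent.Lib.BlockHeights.irr_apply_one φ
  set Φ := indFun N (φ : N → ℂ) with hΦ
  have hφc := irr_isCharacter φ
  have hΦc : IsCharacter G Φ := IsCharacter.indFun N hφc
  have hres : ∀ n : N, Φ n = (Nat.card N : ℂ)⁻¹ * ∑ x : G, conjFun N x (φ : N → ℂ) n := fun n => by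
    have h := congrFun (indFun_restrict N (φ : N → ℂ)) n
    simpa using h
  obtain ⟨g₀, hg₀⟩ := hconj
  have hΦreal : ∀ g, conj (Φ g) = Φ g := by
    intro g
    by_cases hg : g ∈ N
    · rw [hres ⟨g, hg⟩, map_mul, map_inv₀, map_natCast, map_sum]
      congr 1
      refine Fintype.sum_equiv (Equiv.mulLeft g₀) _ _ fun x => ?_
      refine (hg₀ ⟨x * g * x⁻¹, ‹N.Normal›.conj_mem g hg x⟩ ⟨(g₀ * x) * g * (g₀ * x)⁻¹, ‹N.Normal›.conj_mem g hg _⟩ ?_).symm
      show g₀ * x * g * (g₀ * x)⁻¹ = g₀ * (x * g * x⁻¹) * g₀⁻¹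
      group
    · rw [hΦ, indFun_vanish N _ hg, map_zero]
  obtain ⟨P⟩ : Nonempty (Sylow 2 G) := inferInstance
  haveI := Fintype.ofFinite (P : Subgroup G)
  choose m hm using fun χ : IrrCharacter G => IsCharacter.exists_classInner_nat hΦc (irr_isCharacter χ)
  choose k hk using fun χ : IrrCharacter G =>
    IsCharacter.exists_classInner_nat (IsCharacter.restrict (irr_isCharacter χ) (P : Subgroup G))
      (irr_isCharacter (trivIrr (P : Subgroup G)))
  -- the weighted multiplicity of the trivial character is odd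
  set Q := N.subgroupOf (P : Subgroup G)
  have hsum : ((∑ χ : IrrCharacter G, m χ * k χ : ℕ) : ℂ) * (Nat.card (P : Subgroup G) : ℂ) =
      (N.index : ℂ) * d := by
    have h1 : ((∑ χ : IrrCharacter G, m χ * k χ : ℕ) : ℂ) =
        classInner (fun x : (P : Subgroup G) => Φ x) (trivIrr (P : Subgroup G) : ↥(P : Subgroup G) → ℂ) := by
      rw [show (fun x : (P : Subgroup G) => Φ x) =
          ∑ χ : IrrCharacter G, (m χ : ℂ) • (fun x : (P : Subgroup G) => (χ : G → ℂ) x) from by
        funext x
        have := congrFun (eq_sum_classInner (IsCharacter.isClassFunction hΦc)) (x : G)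
        simpa [hm] using this, classInner_sum_left]
      push_cast
      exact Finset.sum_congr rfl fun χ _ => by rw [classInner_smul_left, hk]
    rw [h1, classInner, mul_comm, ← mul_assoc, mul_inv_cancel₀ natCard_ne_zero_complex, one_mul,
      Finset.sum_eq_single (1 : (P : Subgroup G))]
    · show Φ ((1 : (P : Subgroup G)) : G) * conj (1 : ℂ) = _
      rw [map_one, mul_one, OneMemClass.coe_one, hΦ, indFun_one, hφ1]
    · intro x _ hx
      show Φ (x : G) * conj (1 : ℂ) = 0
      rw [map_one, mul_one]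
      by_cases hxN : (x : G) ∈ N
      · rw [hres ⟨_, hxN⟩, Finset.sum_eq_zero, mul_zero]
        intro y _
        refine vanish_of_defect_zero φ.2 Nat.prime_two hφ1 hdef ?_
        rw [← Subgroup.orderOf_coe, show ((⟨y * (x : G) * y⁻¹, _⟩ : N) : G) = MulAut.conj y (x : G) from rfl,
          MulEquiv.orderOf_eq, Subgroup.orderOf_coe]
        obtain ⟨j, hj⟩ := IsPGroup.iff_orderOf.1 P.2 x
        rw [hj]
        refine dvd_pow_self 2 ?_
        rintro rfl
        rw [pow_zero, orderOf_eq_one_iff] at hj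
        exact hx hj
      · rw [hΦ, indFun_vanish N _ hxN]
    · simp
  have hodd : Odd (∑ χ : IrrCharacter G, m χ * k χ) := by
    have hn : (∑ χ : IrrCharacter G, m χ * k χ) * Nat.card (P : Subgroup G) = N.index * d := by
      exact_mod_cast hsum
    have hd0 : d ≠ 0 := fun h => IsIrrCharacter.apply_one_ne_zero φ.2 (by rw [hφ1, h, Nat.cast_zero])
    obtain ⟨dd, hdd, hdN⟩ : ∃ dd : ℕ, (φ : N → ℂ) 1 = dd ∧ dd ∣ Nat.card N := by
      obtain ⟨j, -, hj, hdvd⟩ := IsIrrCharacter.exists_degree_dvd φ.2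
      exact ⟨j, hj, hdvd⟩
    obtain rfl : dd = d := by exact_mod_cast hdd.symm.trans hφ1
    have hfd : d.factorization 2 = (Nat.card N).factorization 2 :=
      le_antisymm ((Nat.factorization_le_iff_dvd hd0 Nat.card_pos.ne').2 hdN 2)
        ((Nat.prime_two.pow_dvd_iff_le_factorization hd0).1 hdef)
    rw [Nat.odd_iff, ← Nat.two_dvd_ne_zero]
    intro h2s
    have hs0 : (∑ χ : IrrCharacter G, m χ * k χ) ≠ 0 := fun h => by
      rw [h, zero_mul] at hn
      exact mul_ne_zero Subgroup.index_ne_zero_of_finite hd0 hn.symm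
    have h := congrArg (fun x => x.factorization 2) hn
    simp only [Nat.factorization_mul hs0 Nat.card_pos.ne', Nat.factorization_mul Subgroup.index_ne_zero_of_finite hd0,
      Finsupp.coe_add, Pi.add_apply] at h
    rw [P.card_eq_multiplicity, Nat.prime_two.factorization_pow, Finsupp.single_eq_same, hfd,
      ← N.card_mul_index, Nat.factorization_mul Nat.card_pos.ne' Subgroup.index_ne_zero_of_finite,
      Finsupp.coe_add, Pi.add_apply] at h
    have := Nat.prime_two.factorization_pos_of_dvd hs0 h2s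
    omega
  -- pair off conjugate characters
  obtain ⟨χ, hχreal, hmo, hko⟩ : ∃ χ : IrrCharacter G, (∀ g, conj ((χ : G → ℂ) g) = (χ : G → ℂ) g) ∧
      Odd (m χ) ∧ Odd (k χ) := by
    by_contra hnone
    let bar : IrrCharacter G → IrrCharacter G := fun χ => ⟨_, IsIrrCharacter.conjugate χ.2⟩
    have hbm : ∀ χ, m (bar χ) = m χ := fun χ => by
      have e : ((m (bar χ) : ℕ) : ℂ) = (m χ : ℂ) := by
        rw [← hm, ← Complex.conj_natCast (m χ), ← hm χ, classInner, classInner, map_mul, map_inv₀, map_natCast,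
          map_sum]
        congr 1
        refine Finset.sum_congr rfl fun g _ => ?_
        rw [map_mul, hΦreal]
      exact_mod_cast e
    have hbk : ∀ χ, k (bar χ) = k χ := fun χ => by
      have e : ((k (bar χ) : ℕ) : ℂ) = (k χ : ℂ) := by
        rw [← hk, ← Complex.conj_natCast (k χ), ← hk χ, classInner, classInner, map_mul, map_inv₀, map_natCast,
          map_sum]
        congr 1
        refine Finset.sum_congr rfl fun g _ => ?_
        rw [map_mul, Complex.conj_conj]
        show conj _ * conj (1 : ℂ) = conj _ * (1 : ℂ)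
        rw [map_one]
      exact_mod_cast e
    have h0 : ((∑ χ : IrrCharacter G, m χ * k χ : ℕ) : ZMod 2) = 0 := by
      push_cast
      refine Finset.sum_involution (fun χ _ => bar χ) (fun χ _ => ?_) (fun χ _ hne heq => ?_)
        (fun χ _ => Finset.mem_univ _) fun χ _ => Subtype.ext (funext fun g => Complex.conj_conj _)
      · rw [hbm, hbk]; exact CharTwo.add_self_eq_zero _
      · refine hnone ⟨χ, fun g => congrFun (congrArg Subtype.val heq) g, ?_, ?_⟩ <;>
          rw [← Nat.not_even_iff_odd] <;> intro he <;> refine hne ?_ <;>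
          obtain ⟨c, hc⟩ := he <;> rw [hc] <;> push_cast <;> simp [CharTwo.add_self_eq_zero]
    rw [ZMod.natCast_eq_zero_iff] at h0
    exact Nat.not_even_iff_odd.2 hodd (even_iff_two_dvd.2 h0)
  have hmres : classInner (fun n : N => (χ : G → ℂ) n) (φ : N → ℂ) = (m χ : ℂ) := by
    have h := hm χ
    rw [hΦ, classInner_indFun N _ (irr_isClassFunction χ)] at h
    rw [← classInner_conj_symm, h, map_natCast]
  have hm0 : m χ ≠ 0 := fun h => by rw [h] at hmo; exact absurd hmo (by decide)
  have hne : classInner (fun n : N => (χ : G → ℂ) n) (φ : N → ℂ) ≠ 0 := by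
    rw [hmres]; exact_mod_cast hm0
  obtain ⟨e, he, hedvd⟩ := degree_ratio_dvd_index N χ.2 φ.2 hne
  have hdeg := degree_eq N χ.2 φ.2 hne
  rw [hmres, he] at hdeg
  have he' : e = m χ * (inertia N (φ : N → ℂ)).index := by
    have := mul_right_cancel₀ (IsIrrCharacter.apply_one_ne_zero φ.2) hdeg
    exact_mod_cast this
  have hm1 : m χ = 1 := by
    obtain ⟨j, hj⟩ := IsPGroup.iff_card.1 h2
    rw [← Subgroup.index_eq_card] at hj
    have hd2 : m χ ∣ 2 ^ j := hj ▸ ((he' ▸ dvd_mul_right _ _ : m χ ∣ e).trans hedvd)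
    exact Nat.Coprime.eq_one_of_dvd ((Nat.coprime_two_right.2 hmo).pow_right j) hd2
  refine ⟨χ, ?_, ?_⟩
  · rw [finsum_eq_sum_of_fintype]
    exact indicator_one_of_odd_fixed (P : Subgroup G) χ hχreal hko (hk χ)
  · rw [finsum_eq_sum_of_fintype]
    rw [hm1, Nat.cast_one] at hmres
    exact hmres

end Cfsg.Agent.S4872
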