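import Cfsg.Statements.S4873
import Cfsg.Agent.Lib.CharMisc.RealOverOdd
-- import your own Cfsg.Agent.* helpers here

set_option autoImplicit false
open Cfsg

namespace Cfsg.Agent.S4873

/-- Let N be a normal subgroup of odd index in the finite group G. Then every irreducible complex character of N with Frobenius–Schur indicator +1 lies under exactly one irreducible character of G with Frobenius–Schur indicator +1. -/
theorem result {G : Type*} [Group G] [Finite G] (N : Subgroup G) [N.Normal] (hodd : Odd N.index) (φ : Cfsg.IrrCharacter ↥N) (hφ : (Nat.card ↥N : ℂ)⁻¹ * ∑ᶠ g : ↥N, (φ : ↥N → ℂ) (g * g) = 1) : ∃! χ : Cfsg.IrrCharacter G, (Nat.card G : ℂ)⁻¹ * ∑ᶠ g : G, (χ : G → ℂ) (g * g) = 1 ∧ (∑ᶠ n : ↥N, (χ : G → ℂ) n * (starRingEnd ℂ) ((φ : ↥N → ℂ) n)) ≠ 0 := by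
  classical
  haveI := Fintype.ofFinite G
  haveI : Fintype N := Fintype.ofFinite _
  rw [finsum_eq_sum_of_fintype] at hφ
  obtain ⟨χ, ⟨h1, h2⟩, hu⟩ := Cfsg.Agent.Lib.CharMisc.existsUnique_real_over N hodd φ hφ
  refine ⟨χ, ⟨by rw [finsum_eq_sum_of_fintype]; exact h1, fun h => h2 ?_⟩, fun χ' hχ' => hu χ' ⟨?_, fun h => hχ'.2 ?_⟩⟩
  · rw [finsum_eq_sum_of_fintype] at h
    rw [Cfsg.classInner, h, mul_zero]
  · have := hχ'.1
    rwa [finsum_eq_sum_of_fintype] at this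
  · rw [finsum_eq_sum_of_fintype]
    exact (mul_eq_zero.1 h).resolve_left (inv_ne_zero (Nat.cast_ne_zero.2 Nat.card_pos.ne'))

end Cfsg.Agent.S4873
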