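import Cfsg.Statements.S4885
import Cfsg.Agent.Lib.PrincipalTwoPrimes.Kernel
-- import your own Cfsg.Agent.* helpers here

set_option autoImplicit false
open Cfsg Cfsg.Agent.Lib

namespace Cfsg.Agent.S4885

/-- Let p and q be primes dividing the order of the finite group G, and suppose G is p-solvable and q-solvable. Fix maximal ideals of the algebraic integers containing p and q, defining the principal p-block and the principal q-block. If the irreducible characters of degree prime to p in the principal p-block are exactly the irreducible characters of degree prime to q in the principal q-block, then p = q. -/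
theorem result {G : Type*} [Group G] [Finite G] (p q : ℕ) [Fact p.Prime] [Fact q.Prime] (hp : p ∣ Nat.card G) (hq : q ∣ Nat.card G) (hps : Cfsg.IsPSolvable p G) (hqs : Cfsg.IsPSolvable q G) (Mp Mq : Ideal Cfsg.AlgInt) (hMp : Cfsg.IsPModular p Mp) (hMq : Cfsg.IsPModular q Mq) (h : ∀ χ : Cfsg.IrrCharacter G, (χ ∈ Cfsg.principalBlock Mp G ∧ ¬ p ∣ Cfsg.charDegree (χ : G → ℂ)) ↔ (χ ∈ Cfsg.principalBlock Mq G ∧ ¬ q ∣ Cfsg.charDegree (χ : G → ℂ))) : p = q := by
  classical
  haveI := Blocks.isPrime_of_isPModular hMp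
  haveI := Blocks.isPrime_of_isPModular hMq
  by_contra hne
  have hpp : p.Prime := Fact.out
  have hqp : q.Prime := Fact.out
  haveI := Fintype.ofFinite G
  haveI : (pPrimeCore p G).Normal := (Cores.pPrimeCore_mem p G).1
  haveI : (pPrimeCore q G).Normal := (Cores.pPrimeCore_mem q G).1
  set T := pPrimeCore p G ⊔ pPrimeCore q G with hT
  have hker : ∀ χ : IrrCharacter G, χ ∈ principalBlock Mp G → χ ∈ principalBlock Mq G →
      ∀ n ∈ T, (χ : G → ℂ) n = (χ : G → ℂ) 1 := fun χ h1 h2 n hn =>
    (Characters.mem_charKernel (Characters.irr_isCharacter χ)).1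
      (sup_le (a := pPrimeCore p G) (b := pPrimeCore q G)
        (c := Characters.charKernel (Characters.irr_isCharacter χ))
        ((Characters.mem_principalBlock_iff_of_isPSolvable hMp hps χ).1 h1)
        ((Characters.mem_principalBlock_iff_of_isPSolvable hMq hqs χ).1 h2) hn)
  obtain ⟨hcp, hTp⟩ := PrincipalTwoPrimes.quotient_core_eq_bot hps T le_sup_left fun χ hχ hd => by
    have h1 := (Characters.mem_principalBlock_iff_of_isPSolvable hMp hps χ).2 hχ
    exact hker χ h1 ((h χ).1 ⟨h1, hd⟩).1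
  obtain ⟨hcq, -⟩ := PrincipalTwoPrimes.quotient_core_eq_bot hqs T le_sup_right fun χ hχ hd => by
    have h1 := (Characters.mem_principalBlock_iff_of_isPSolvable hMq hqs χ).2 hχ
    exact hker χ ((h χ).2 ⟨h1, hd⟩).1 h1
  -- the quotient by `T` is trivial
  have hTtop : T = ⊤ := by
    by_contra hTne
    have h1 := Blocks.centralizer_pCore_le_of_isPSolvable p
      (Characters.isPSolvable_quotient_of T hps) hcp
    have h2 : pCore p (G ⧸ T) ≤ pPrimeCore q (G ⧸ T) := by
      obtain ⟨i, hi⟩ := (Cores.pCore_isPGroup p (G ⧸ T)).exists_card_eq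
      exact Cores.le_pPrimeCore inferInstance (hi ▸ Nat.Coprime.pow_left i ((Nat.coprime_primes hpp hqp).2 hne))
    rw [hcq, le_bot_iff] at h2
    rw [h2] at h1
    obtain ⟨g, hg⟩ : ∃ g : G, g ∉ T := not_forall.1 fun h => hTne ((Subgroup.eq_top_iff' T).2 h)
    refine hg ((QuotientGroup.eq_one_iff g).1 (Subgroup.mem_bot.1 (h1 (Subgroup.mem_centralizer_iff.2 fun x hx => ?_))))
    rw [Subgroup.mem_bot.1 hx, one_mul, mul_one]
  set K := pPrimeCore p G with hK
  set f := QuotientGroup.mk' K with hf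
  rw [hTtop, Subgroup.map_top_of_surjective f (QuotientGroup.mk'_surjective K)] at hTp
  have hQ : IsPGroup p (G ⧸ K) := hTp.of_equiv Subgroup.topEquiv
  haveI : Nontrivial (G ⧸ K) := QuotientGroup.nontrivial_iff.2 fun hKtop => by
    have h1 := Cores.pPrimeCore_coprime p G
    rw [← hK, hKtop, Subgroup.card_top] at h1
    exact hpp.ne_one (Nat.eq_one_of_dvd_coprimes h1 hp dvd_rfl)
  haveI : Group.IsNilpotent (G ⧸ K) := hQ.isNilpotent
  obtain ⟨η, hη1, hηker⟩ := Characters.exists_irr_ne_one_trivial_on (commutator (G ⧸ K))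
    (Group.IsSolvable.commutator_lt_top_of_nontrivial (G := G ⧸ K)).ne
  have hηdeg : (η : G ⧸ K → ℂ) 1 = 1 := by
    obtain ⟨ζ, hζ, hηζ⟩ := Characters.IsIrrCharacter.exists_quotient η.2 _ hηker
    rw [congrFun hηζ 1, Function.comp_apply, map_one]
    exact Characters.IsIrrCharacter.apply_one_of_comm (fun a b => mul_comm (a := (a : Abelianization (G ⧸ K))) b) hζ
  refine hη1 (funext fun x => ?_)
  obtain ⟨g, rfl⟩ := QuotientGroup.mk_surjective x
  let χ : IrrCharacter G :=
    ⟨_, Characters.IsIrrCharacter.comp_surjective η.2 f (QuotientGroup.mk'_surjective K)⟩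
  have hχB : χ ∈ principalBlock Mp G :=
    (Characters.mem_principalBlock_iff_of_isPSolvable hMp hps χ).2 fun n hn => by
      show (η : G ⧸ K → ℂ) (f n) = (η : G ⧸ K → ℂ) (f 1)
      rw [show f n = 1 from (QuotientGroup.eq_one_iff n).2 hn, map_one]
  have hχd : ¬ p ∣ charDegree (χ : G → ℂ) := by
    have : charDegree (χ : G → ℂ) = 1 := by simp [charDegree, χ, hηdeg]
    rw [this]; exact hpp.not_dvd_one
  have h1 := hker χ hχB ((h χ).1 ⟨hχB, hχd⟩).1 g (hTtop ▸ Subgroup.mem_top g)
  simpa [χ, hf, hηdeg] using h1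

end Cfsg.Agent.S4885
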