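import Cfsg.Statements.S4937
import Cfsg.Agent.Lib.Blocks.NOrbitSums
import Cfsg.Agent.Lib.Blocks.PrincipalRestrict
-- import your own Cfsg.Agent.* helpers here

set_option autoImplicit false
open Cfsg

namespace Cfsg.Agent.S4937

open Cfsg.Agent.Lib.Characters Cfsg.Agent.Lib.Blocks Cfsg.Agent.Lib.Blocks.NOrbit
open scoped Classical

universe u

variable {M : Ideal AlgInt} [M.IsPrime]

/-- Congruence of two algebraic integers. -/
theorem mk_eq_iff {a b : AlgInt} :
    Ideal.Quotient.mk M a = Ideal.Quotient.mk M b ↔ MemLocalIdeal M ((a : ℂ) - b) := by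
  rw [Ideal.Quotient.eq, ← memLocalIdeal_coe_iff (M := M), AddSubgroupClass.coe_sub]

theorem algIntCast_natCast (n : ℕ) : (((n : AlgInt)) : ℂ) = (n : ℂ) := map_natCast (AlgInt.val) n

/-- The class sum of a character of a subgroup, in terms of orbits. -/
theorem sum_orb_eq {G : Type u} [Group G] [Fintype G] (J : Subgroup G) (f : G → ℂ)
    (hf : ∀ j ∈ J, ∀ y, f (j * y * j⁻¹) = f y) (x : J) :
    ∑ y ∈ orb J (x : G), (f y / f 1 - 1) =
      centralChar (fun j : J => f j) x - centralChar (fun _ : J => (1 : ℂ)) x := by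
  have hconst : ∀ y ∈ orb J (x : G), f y = f x := fun y hy => by
    obtain ⟨n, hn, rfl⟩ := (mem_orb J).1 hy
    exact hf n hn _
  rw [Finset.sum_congr rfl fun y hy => by rw [hconst y hy], Finset.sum_const, nsmul_eq_mul, card_orb]
  have he : (Subgroup.centralizer ({(x : G)} : Set G)).subgroupOf J =
      Subgroup.centralizer ({x} : Set J) := by
    ext j
    simp [Subgroup.mem_subgroupOf, Subgroup.mem_centralizer_singleton_iff, Subtype.ext_iff]
  rw [he]
  simp only [centralChar, OneMemClass.coe_one]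
  ring

end Cfsg.Agent.S4937

namespace Cfsg.Agent.S4937

open Cfsg.Agent.Lib.Characters Cfsg.Agent.Lib.Blocks Cfsg.Agent.Lib.Blocks.NOrbit
open scoped Classical

/-- Roots of unity of order prime to `p` lift uniquely. -/
theorem exists_lift {M : Ideal AlgInt} [M.IsPrime] {p : ℕ} [Fact p.Prime] (hM : IsPModular p M) {Q : Type*} [Group Q] [Finite Q]
    (u : Q →* AlgInt ⧸ M) :
    ∃ l : Q →* AlgInt, ∀ q, u q * Ideal.Quotient.mk M (l q) = 1 := by
  classical
  haveI : M.IsMaximal := hM.2.1
  haveI : CharP (AlgInt ⧸ M) p := by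
    refine (CharP.charP_iff_prime_eq_zero hM.1).2 ?_
    rw [← map_natCast (Ideal.Quotient.mk M), Ideal.Quotient.eq_zero_iff_mem]
    exact hM.2.2
  set c := Nat.card Q with hc
  set m := c / p ^ c.factorization p with hm
  have hc0 : c ≠ 0 := Nat.card_pos.ne'
  have hmp : ¬ p ∣ m := Nat.not_dvd_ordCompl hM.1 hc0
  have hm0 : m ≠ 0 := fun h => hmp (h ▸ dvd_zero p)
  have hroot : ∀ q, u q ^ m = 1 := by
    intro q
    have h1 : (u q ^ m) ^ p ^ c.factorization p = 1 := by
      rw [← pow_mul, hm, mul_comm, Nat.ordProj_mul_ordCompl_eq_self, ← map_pow, hc, pow_card_eq_one',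
        map_one]
    have h2 : (u q ^ m - 1) ^ p ^ c.factorization p = 0 := by
      rw [sub_pow_char_pow, one_pow, h1, sub_self]
    exact sub_eq_zero.1 ((pow_eq_zero_iff (pow_pos hM.1.pos _).ne').1 h2)
  have hζ := Complex.isPrimitiveRoot_exp m hm0
  set ζ : AlgInt := ⟨_, (hζ.pow_eq_one ▸ isIntegral_one : IsIntegral ℤ
      (Complex.exp (2 * Real.pi * Complex.I / m) ^ m)).of_pow (Nat.pos_of_ne_zero hm0)⟩ with hζdef
  have hζ' : IsPrimitiveRoot ζ m := IsPrimitiveRoot.of_map_of_injective (f := AlgInt.val)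
    hζ Subtype.val_injective
  have hex : ∀ q, ∃ z : AlgInt, z ^ m = 1 ∧ Ideal.Quotient.mk M z = u q := by
    intro q
    have h := congrArg (fun f => (Polynomial.map (Ideal.Quotient.mk M) f).eval (u q))
      (Polynomial.X_pow_sub_one_eq_prod (Nat.pos_of_ne_zero hm0) hζ')
    simp only [Polynomial.map_sub, Polynomial.map_pow, Polynomial.map_X, Polynomial.map_one,
      Polynomial.eval_sub, Polynomial.eval_pow, Polynomial.eval_X, Polynomial.eval_one, hroot q, sub_self,
      Polynomial.map_prod, Polynomial.eval_prod, Polynomial.map_C, Polynomial.eval_C] at h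
    obtain ⟨z, hz, hz'⟩ := Finset.prod_eq_zero_iff.1 h.symm
    exact ⟨z, (Polynomial.mem_nthRootsFinset (Nat.pos_of_ne_zero hm0) 1).1 hz, (sub_eq_zero.1 hz').symm⟩
  have huniq : ∀ z : AlgInt, z ^ m = 1 → Ideal.Quotient.mk M z = 1 → z = 1 := by
    intro z hz hz1
    by_contra hne
    have h := congrArg (Ideal.Quotient.mk M) (mul_geom_sum z m)
    have h0 : (∑ i ∈ Finset.range m, z ^ i) = 0 := by
      have := mul_geom_sum z m
      rw [hz, sub_self] at this
      exact (mul_eq_zero.1 this).resolve_left (sub_ne_zero.2 hne)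
    have h2 := congrArg (Ideal.Quotient.mk M) h0
    simp only [map_sum, map_pow, hz1, one_pow, Finset.sum_const, Finset.card_range, nsmul_eq_mul,
      mul_one, map_zero] at h2
    exact hmp ((CharP.cast_eq_zero_iff (AlgInt ⧸ M) p m).1 h2)
  choose z hz hz' using hex
  have heq : ∀ a b : AlgInt, a ^ m = 1 → b ^ m = 1 → Ideal.Quotient.mk M a = Ideal.Quotient.mk M b →
      a = b := by
    intro a b ha hb hab
    have h1 : b * b ^ (m - 1) = 1 := by rw [← pow_succ', Nat.sub_add_cancel (Nat.pos_of_ne_zero hm0), hb]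
    have h2 : a * b ^ (m - 1) = 1 := by
      refine huniq _ ?_ ?_
      · rw [mul_pow, ha, one_mul, ← pow_mul, mul_comm, pow_mul, hb, one_pow]
      · rw [map_mul, hab, ← map_mul, h1, map_one]
    calc a = a * (b * b ^ (m - 1)) := by rw [h1, mul_one]
      _ = b * (a * b ^ (m - 1)) := by ring
      _ = b := by rw [h2, mul_one]
  have hz1 : z 1 = 1 := heq _ _ (hz 1) (one_pow m) (by rw [hz', map_one, map_one])
  refine ⟨MonoidHom.mk ⟨fun q => z q ^ (m - 1), by rw [hz1, one_pow]⟩ (fun q r => ?_), fun q => ?_⟩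
  · show z (q * r) ^ (m - 1) = z q ^ (m - 1) * z r ^ (m - 1)
    rw [← mul_pow]
    congr 1
    exact heq _ _ (hz _) (by rw [mul_pow, hz, hz, one_mul]) (by rw [map_mul, hz', hz', hz', map_mul])
  · show u q * Ideal.Quotient.mk M (z q ^ (m - 1)) = 1
    rw [map_pow, hz', ← pow_succ', Nat.sub_add_cancel (Nat.pos_of_ne_zero hm0), hroot]

/-- Let G be a finite group, p a prime, M a maximal ideal of the algebraic integers containing p, N a normal subgroup of G and P a Sylow p-subgroup of N such that G = N·C_G(P). Let θ be an irreducible character in the principal p-block of N that is the restriction of some irreducible character of G. Then θ is the restriction of an irreducible character χ of G lying in the principal p-block of G such that, for every subgroup J of G containing N, the restriction of χ to J is an irreducible character of J lying in the principal p-block of J. -/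
theorem result {G : Type*} [Group G] [Finite G] (p : ℕ) [Fact p.Prime] (M : Ideal Cfsg.AlgInt) (hM : Cfsg.IsPModular p M) (N : Subgroup G) [N.Normal] (P : Sylow p ↥N)
    (hcov : N ⊔ Subgroup.centralizer (((P : Subgroup ↥N).map N.subtype : Subgroup G) : Set G) = ⊤)
    (θ : Cfsg.IrrCharacter ↥N) (hθ : θ ∈ Cfsg.principalBlock M ↥N)
    (hext : ∃ ψ : Cfsg.IrrCharacter G, ∀ x : ↥N, (ψ : G → ℂ) x = (θ : ↥N → ℂ) x) :
    ∃ χ : Cfsg.IrrCharacter G, χ ∈ Cfsg.principalBlock M G ∧ (∀ x : ↥N, (χ : G → ℂ) x = (θ : ↥N → ℂ) x) ∧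
      ∀ J : Subgroup G, N ≤ J → ∃ ξ : Cfsg.IrrCharacter ↥J, ξ ∈ Cfsg.principalBlock M ↥J ∧ ∀ y : ↥J, (ξ : ↥J → ℂ) y = (χ : G → ℂ) y := by
  classical
  haveI := Fintype.ofFinite G
  haveI := Fintype.ofFinite ↥N
  haveI : M.IsMaximal := hM.2.1
  letI := Ideal.Quotient.field M
  obtain ⟨ψ, hψ⟩ := hext
  obtain ⟨n, ρ, hρirr, hρψ⟩ := ψ.2
  have hirr : IsIrrCharacter N (fun x : N => ρ.character x) := by
    rw [hρψ, show (fun x : N => (ψ : G → ℂ) x) = (θ : N → ℂ) from funext hψ]
    exact θ.2
  -- residues of the scalars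
  let r : MonoidAlgebra ℤ G → AlgInt ⧸ M := fun a => if h : Inv N a then
    Ideal.Quotient.mk M ⟨val ρ.character a, isIntegral_val ρ hirr h⟩ else 0
  have hr : ∀ a (h : Inv N a), r a = Ideal.Quotient.mk M ⟨val ρ.character a, isIntegral_val ρ hirr h⟩ :=
    fun a h => dif_pos h
  let ε : MonoidAlgebra ℤ G → AlgInt ⧸ M := fun a => ((aug G a : ℤ) : AlgInt ⧸ M)
  have hrmul : ∀ a b, Inv N a → Inv N b → r (a * b) = r a * r b := by
    intro a b ha hb
    rw [hr a ha, hr b hb, hr _ (Inv.mul N ha hb), ← map_mul]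
    exact congrArg _ (Subtype.ext (val_mul ρ hirr ha hb))
  have hεmul : ∀ a b, ε (a * b) = ε a * ε b := fun a b => by
    simp only [ε, map_mul, Int.cast_mul]
  -- on the coset of the identity
  have hA : ∀ a, Inv N a → a ∈ coset N 1 → r a = ε a := by
    intro a ha hc
    have h1 : MemLocalIdeal M (∑ y ∈ (Finset.univ.filter fun y : G => y ∈ N),
        (a.coeff y : ℂ) * (ρ.character y / ρ.character 1 - 1)) := by
      refine sum_invariant_mem N _ (fun x hx y hy => ?_) _ (fun x y hy => ha.coeff_eq N hy) _ (fun x hx => ?_)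
      · obtain ⟨m, hm, rfl⟩ := (mem_orb N).1 hy
        simp only [Finset.mem_filter, Finset.mem_univ, true_and] at hx ⊢
        exact N.mul_mem (N.mul_mem hm hx) (N.inv_mem hm)
      · simp only [Finset.mem_filter, Finset.mem_univ, true_and] at hx
        rw [sum_orb_eq N ρ.character (fun j _ y => ρ.char_conj y j) ⟨x, hx⟩,
          show (fun j : N => ρ.character j) = (θ : N → ℂ) from by rw [hρψ]; exact funext hψ, ← neg_sub]
        exact memLocalIdeal_neg (hθ ⟨x, hx⟩)
    have h2 : val ρ.character a - ((aug G a : ℤ) : ℂ) = ∑ y ∈ (Finset.univ.filter fun y : G => y ∈ N),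
        (a.coeff y : ℂ) * (ρ.character y / ρ.character 1 - 1) := by
      rw [Finset.sum_filter_of_ne (fun y _ hy => by
        by_contra hyN
        exact hy (by rw [coeff_eq_zero_of_mem_coset N hc y fun h => hyN ((QuotientGroup.eq_one_iff y).1 h),
          Int.cast_zero, zero_mul]))]
      rw [val, aug_eq_sum, Finset.sum_div, Int.cast_sum, ← Finset.sum_sub_distrib]
      exact Finset.sum_congr rfl fun y _ => by ring
    rw [hr a ha, show ε a = Ideal.Quotient.mk M ((aug G a : ℤ) : AlgInt) from (map_intCast _ _).symm, mk_eq_iff]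
    rw [← h2] at h1
    simpa using h1
  -- representatives centralizing the Sylow subgroup
  have hrep : ∀ q : G ⧸ N, ∃ c ∈ Subgroup.centralizer (((P : Subgroup ↥N).map N.subtype : Subgroup G) : Set G),
      (QuotientGroup.mk c : G ⧸ N) = q := by
    intro q
    obtain ⟨g, rfl⟩ := QuotientGroup.mk_surjective q
    obtain ⟨m, hm, c, hc, rfl⟩ := Subgroup.mem_sup_of_normal_left.1 (hcov ▸ Subgroup.mem_top g)
    exact ⟨c, hc, by rw [QuotientGroup.mk_mul, (QuotientGroup.eq_one_iff m).2 hm, one_mul]⟩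
  choose c hc hcq using hrep
  haveI : CharP (AlgInt ⧸ M) p := by
    refine (CharP.charP_iff_prime_eq_zero hM.1).2 ?_
    rw [← map_natCast (Ideal.Quotient.mk M), Ideal.Quotient.eq_zero_iff_mem]
    exact hM.2.2
  have hS : ∀ q, orbSum N (c q) ∈ coset N q := fun q => by
    have h := orbSum_mem_coset N (c q)
    rwa [hcq q] at h
  have hεS : ∀ x : G, ε (orbSum N x) = ((orb N x).card : AlgInt ⧸ M) := fun x => by
    simp only [ε, aug_orbSum, Int.cast_natCast]
  have hεne : ∀ q, ε (orbSum N (c q)) ≠ 0 := fun q h => by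
    rw [hεS, CharP.cast_eq_zero_iff (AlgInt ⧸ M) p] at h
    exact card_orb_dvd N P (hc q) h
  let u₀ : G ⧸ N → AlgInt ⧸ M := fun q => r (orbSum N (c q)) / ε (orbSum N (c q))
  have hpair : ∀ q a, Inv N a → a ∈ coset N q → r a * r (orbSum N (c q⁻¹)) = ε a * ε (orbSum N (c q⁻¹)) := by
    intro q a ha hac
    rw [← hrmul _ _ ha (inv_orbSum N _), ← hεmul]
    refine hA _ (Inv.mul N ha (inv_orbSum N _)) ?_
    have h := mul_mem_coset N hac (hS q⁻¹)
    rwa [mul_inv_cancel] at h
  have hu : ∀ q a, Inv N a → a ∈ coset N q → r a = ε a * u₀ q := by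
    intro q a ha hac
    have h1 := hpair q a ha hac
    have h2 := hpair q _ (inv_orbSum N (c q)) (hS q)
    have h3 : r (orbSum N (c q⁻¹)) ≠ 0 := fun h => by
      rw [h, mul_zero] at h2
      exact mul_ne_zero (hεne q) (hεne q⁻¹) h2.symm
    refine mul_right_cancel₀ h3 ?_
    rw [h1, mul_assoc]
    congr 1
    show _ = r (orbSum N (c q)) / ε (orbSum N (c q)) * _
    rw [div_mul_eq_mul_div, h2, eq_div_iff (hεne q), mul_comm]
  let u : G ⧸ N →* AlgInt ⧸ M :=
    { toFun := u₀
      map_one' := by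
        show r _ / ε _ = 1
        rw [hA _ (inv_orbSum N _) (hS 1), div_self (hεne 1)]
      map_mul' := fun q q' => by
        have h1 := hu (q * q') _ (Inv.mul N (inv_orbSum N (c q)) (inv_orbSum N (c q')))
          (mul_mem_coset N (hS q) (hS q'))
        rw [hrmul _ _ (inv_orbSum N _) (inv_orbSum N _), hεmul, hu q _ (inv_orbSum N _) (hS q),
          hu q' _ (inv_orbSum N _) (hS q'), mul_mul_mul_comm] at h1
        exact (mul_left_cancel₀ (mul_ne_zero (hεne q) (hεne q')) h1).symm }
  obtain ⟨l, hl⟩ := exists_lift hM u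
  let lam : G →* ℂ := ((AlgInt.val : AlgInt →ₐ[ℤ] ℂ).toRingHom.toMonoidHom.comp l).comp (QuotientGroup.mk' N)
  have hlam1 : lam 1 = 1 := map_one lam
  have hlamN : ∀ x : N, lam (x : G) = 1 := fun x => by
    show ((l (QuotientGroup.mk' N (x : G)) : AlgInt) : ℂ) = 1
    rw [show QuotientGroup.mk' N (x : G) = 1 from (QuotientGroup.eq_one_iff _).2 x.2, map_one]
    rfl
  set χ : IrrCharacter G := ⟨fun g => lam g * (ψ : G → ℂ) g,
    isIrr_linear_mul (isCharacter_of_rep (linRep lam) |> fun h => by rwa [linRep_character] at h) hlam1 ψ.2⟩ with hχdef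
  have hχN : ∀ x : N, (χ : G → ℂ) x = (θ : N → ℂ) x := fun x => by
    show lam _ * _ = _
    rw [hlamN, one_mul, hψ]
  -- every orbit sum of the twisted character is congruent to its size
  have horb : ∀ x : G, MemLocalIdeal M (∑ y ∈ orb N x, ((χ : G → ℂ) y / (χ : G → ℂ) 1 - 1)) := by
    intro x
    set q : G ⧸ N := QuotientGroup.mk x with hq
    have h1 := hu q _ (inv_orbSum N x) (orbSum_mem_coset N x)
    have h2 : Ideal.Quotient.mk M (l q * ⟨val ρ.character (orbSum N x), isIntegral_val ρ hirr (inv_orbSum N x)⟩) =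
        Ideal.Quotient.mk M ((orb N x).card : AlgInt) := by
      rw [map_mul, ← hr _ (inv_orbSum N x), h1, map_natCast, mul_left_comm, mul_comm (Ideal.Quotient.mk M (l q))]
      rw [show u₀ q * Ideal.Quotient.mk M (l q) = 1 from hl q, mul_one, hεS]
    rw [mk_eq_iff] at h2
    simp only [MulMemClass.coe_mul, algIntCast_natCast, val_orbSum] at h2
    convert h2 using 1
    rw [Finset.sum_sub_distrib, Finset.sum_const, nsmul_one, Finset.sum_div, Finset.mul_sum]
    congr 1
    refine Finset.sum_congr rfl fun y hy => ?_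
    show lam y * _ / (lam 1 * _) = _
    rw [hlam1, one_mul, hρψ, mul_div_assoc]
    congr 1
    show ((l (QuotientGroup.mk' N y) : AlgInt) : ℂ) = _
    rw [QuotientGroup.mk'_apply, mk_eq_of_mem_orb N hy]
  have key : ∀ J : Subgroup G, N ≤ J → ∀ g : J, MemLocalIdeal M
      (centralChar (fun j : J => (χ : G → ℂ) j) g - centralChar (fun _ : J => (1 : ℂ)) g) := by
    intro J hNJ g
    rw [← sum_orb_eq J (χ : G → ℂ) (fun j _ y => irr_isClassFunction χ y j) g]
    have h := sum_invariant_mem N (M := M) (orb J (g : G)) (fun x hx y hy => by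
      rw [← orb_eq J hx]
      obtain ⟨m, hm, rfl⟩ := (mem_orb N).1 hy
      exact (mem_orb J).2 ⟨m, hNJ hm, rfl⟩) (fun _ => 1) (fun _ _ _ => rfl) _ (fun x _ => horb x)
    simpa using h
  have hneg : ∀ {H : Type _} [Group H] (f : H → ℂ) (h : H), MemLocalIdeal M
      (centralChar f h - centralChar (fun _ : H => (1 : ℂ)) h) →
      MemLocalIdeal M (centralChar (fun _ : H => (1 : ℂ)) h - centralChar f h) := fun f h hh => by
    have := memLocalIdeal_neg hh
    rwa [neg_sub] at this
  refine ⟨χ, fun g => ?_, hχN, fun J hNJ => ?_⟩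
  · haveI := Fintype.ofFinite (⊤ : Subgroup G)
    have h := hneg _ _ (key ⊤ le_top ⟨g, Subgroup.mem_top g⟩)
    have hcc : ∀ f : G → ℂ, centralChar (fun j : (⊤ : Subgroup G) => f j) ⟨g, Subgroup.mem_top g⟩ = centralChar f g := by
      intro f
      simp only [centralChar, OneMemClass.coe_one]
      have he : (Subgroup.centralizer ({(⟨g, Subgroup.mem_top g⟩ : (⊤ : Subgroup G))} : Set (⊤ : Subgroup G))) =
          (Subgroup.centralizer ({g} : Set G)).subgroupOf ⊤ := by
        ext j
        simp [Subgroup.mem_subgroupOf, Subgroup.mem_centralizer_singleton_iff, Subtype.ext_iff]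
      rw [he, show ((Subgroup.centralizer ({g} : Set G)).subgroupOf ⊤).index = (Subgroup.centralizer ({g} : Set G)).index from Subgroup.relIndex_top_right _]
    rwa [hcc (fun _ => 1), hcc] at h
  · haveI := Fintype.ofFinite J
    haveI : (N.subgroupOf J).Normal := inferInstance
    haveI := Fintype.ofFinite (N.subgroupOf J)
    let e := Subgroup.subgroupOfEquivOfLe hNJ
    have hJirr : IsIrrCharacter J (fun j : J => (χ : G → ℂ) j) := by
      refine isIrr_of_restrict (N.subgroupOf J) (IsCharacter.restrict (irr_isCharacter χ) J) ?_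
      rw [show (fun x : N.subgroupOf J => (χ : G → ℂ) ((x : J) : G)) = (θ : N → ℂ) ∘ e from funext fun x => hχN (e x)]
      exact IsIrrCharacter.comp_equiv θ.2 e
    exact ⟨⟨_, hJirr⟩, fun g => hneg _ _ (key J hNJ g), fun y => rfl⟩

end Cfsg.Agent.S4937
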