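import Cfsg.Statements.S4892
import Cfsg.Agent.Lib.Blocks.PRational
import Cfsg.Agent.Lib.Blocks.PrincipalExtend
import Cfsg.Agent.Lib.Blocks.Covering
import Cfsg.Agent.Lib.CharMisc.ResidualCount
import Cfsg.Agent.S4937
import Cfsg.Agent.S4553
-- import your own Cfsg.Agent.* helpers here

set_option autoImplicit false
set_option maxHeartbeats 1600000
set_option linter.unusedVariables false
open Cfsg

namespace Cfsg.Agent.S4892

open Cfsg.Agent.Lib.Characters Cfsg.Agent.Lib.Blocks Cfsg.Agent.Lib.Blocks.NOrbit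
open Cfsg.Agent.Lib.Blocks.PRational
open scoped Classical

universe u

theorem sameBlock_trans {G : Type u} [Group G] {M : Ideal AlgInt} [M.IsPrime] {a b c : G → ℂ}
    (h : SameBlock M a b) (h' : SameBlock M b c) : SameBlock M a c := fun g => by
  simpa using memLocalIdeal_add (h g) (h' g)

/-- The `p'`-part of the order of a subgroup. -/
theorem pc_subgroup_dvd {G : Type u} [Group G] [Finite G] {p : ℕ} (hp : p.Prime) (K : Subgroup G) :
    pc p K ∣ pc p G := by
  refine Nat.Coprime.dvd_of_dvd_mul_left ?_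
    ((pc_dvd_card p).trans ((Subgroup.card_subgroup_dvd_card K).trans (pow_mul_pc (G := G) p).symm.dvd))
  exact ((hp.coprime_iff_not_dvd.2 (not_dvd_pc hp)).pow_left _).symm

/-- The index in a product with a `p`-group. -/
theorem exists_index_sup {G : Type u} [Group G] [Finite G] {r : ℕ} [Fact r.Prime] (N : Subgroup G)
    [N.Normal] (R : Subgroup G) (hR : IsPGroup r R) :
    ∃ j, (N.subgroupOf (N ⊔ R)).index = r ^ j := by
  have h : IsPGroup r ((N ⊔ R : Subgroup G) ⧸ N.subgroupOf (N ⊔ R)) := by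
    refine hR.of_surjective ((QuotientGroup.mk' _).comp (Subgroup.inclusion (le_sup_right : R ≤ N ⊔ R))) ?_
    intro q
    obtain ⟨⟨x, hx⟩, rfl⟩ := QuotientGroup.mk_surjective q
    obtain ⟨m, hm, c, hc, rfl⟩ := Subgroup.mem_sup_of_normal_left.1 hx
    refine ⟨⟨c, hc⟩, ?_⟩
    show ((⟨c, _⟩ : (N ⊔ R : Subgroup G)) : _ ⧸ N.subgroupOf (N ⊔ R)) = _
    rw [QuotientGroup.eq]
    show c⁻¹ * (m * c) ∈ N
    simpa [mul_assoc] using (inferInstance : N.Normal).conj_mem m hm c⁻¹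
  obtain ⟨j, hj⟩ := h.exists_card_eq
  exact ⟨j, by rw [Subgroup.index_eq_card, hj]⟩

/-- Orbits of conjugate elements. -/
theorem sum_orb_conj {G : Type u} [Group G] [Fintype G] (N : Subgroup G) [hN : N.Normal] (g x : G)
    (F : G → ℂ) : ∑ y ∈ orb N (g * x * g⁻¹), F y = ∑ y ∈ orb N x, F (g * y * g⁻¹) := by
  refine Finset.sum_nbij' (fun y => g⁻¹ * y * g) (fun y => g * y * g⁻¹) (fun y hy => ?_) (fun y hy => ?_)
    (fun y _ => by group) (fun y _ => by group) (fun y _ => by congr 1; group)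
  · obtain ⟨n, hn, rfl⟩ := (mem_orb N).1 hy
    exact (mem_orb N).2 ⟨g⁻¹ * n * g, by simpa using hN.conj_mem n hn g⁻¹, by group⟩
  · obtain ⟨n, hn, rfl⟩ := (mem_orb N).1 hy
    exact (mem_orb N).2 ⟨g * n * g⁻¹, hN.conj_mem n hn g, by group⟩

/-- Let p be an odd prime, M a maximal ideal of the algebraic integers containing p, N a normal subgroup of the finite group G, and θ an irreducible character of N that is G-invariant, of degree prime to p, p-rational (values in the field generated over ℚ by a root of unity of order prime to p) and lies in the principal p-block of N. Let Q be a Sylow p-subgroup of N and suppose the index of N·C_G(Q) in G is a power of p. Then θ extends to a p-rational irreducible character of G lying in the principal p-block of G. -/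
theorem result {G : Type*} [Group G] [Finite G] (p : ℕ) [Fact p.Prime] (hp : p ≠ 2) (M : Ideal Cfsg.AlgInt) (hM : Cfsg.IsPModular p M) (N : Subgroup G) [N.Normal] (θ : Cfsg.IrrCharacter ↥N) (hinv : ∀ g : G, ∀ n n' : ↥N, (n' : G) = g * (n : G) * g⁻¹ → (θ : ↥N → ℂ) n' = (θ : ↥N → ℂ) n) (hdeg : ¬ p ∣ Cfsg.charDegree (θ : ↥N → ℂ)) (hrat : ∃ m : ℕ, ¬ p ∣ m ∧ ∀ n : ↥N, (θ : ↥N → ℂ) n ∈ IntermediateField.adjoin ℚ ({Complex.exp (2 * Real.pi * Complex.I / m)} : Set ℂ)) (hB : θ ∈ Cfsg.principalBlock M ↥N) (Q : Sylow p ↥N) (hidx : ∃ a : ℕ, (N ⊔ Subgroup.centralizer (((Q : Subgroup ↥N).map N.subtype : Subgroup G) : Set G)).index = p ^ a) : ∃ χ : Cfsg.IrrCharacter G, χ ∈ (Cfsg.principalBlock M G) ∧ (∃ n : ℕ, ¬ p ∣ n ∧ ∀ g : G, (χ : G → ℂ) g ∈ IntermediateField.adjoin ℚ ({Complex.exp (2 * Real.pi * Complex.I / n)} : Set ℂ)) ∧ ∀ n : ↥N, (χ : G → ℂ) n = (θ : ↥N → ℂ) n := by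
  classical
  haveI := Fintype.ofFinite G
  haveI := Fintype.ofFinite ↥N
  haveI : M.IsPrime := hM.2.1.isPrime
  have hp' : p.Prime := hM.1
  obtain ⟨a, ha⟩ := hidx
  obtain ⟨m, hm, hval⟩ := hrat
  set Q' : Subgroup G := (Q : Subgroup ↥N).map N.subtype with hQ'
  set H : Subgroup G := N ⊔ Subgroup.centralizer (Q' : Set G) with hH
  set t := (Nat.card G).factorization p with ht
  set c₀ := pc p G with hc₀
  have hcard : p ^ t * c₀ = Nat.card G := pow_mul_pc p
  have hcp : Nat.Coprime (p ^ t) c₀ := (hp'.coprime_iff_not_dvd.2 (not_dvd_pc hp')).pow_left t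
  set d := charDegree (θ : ↥N → ℂ) with hd'
  have hθ1 : (θ : ↥N → ℂ) 1 = (d : ℂ) := Cfsg.Agent.Lib.CharMisc.charDegree_coe θ
  have hdR : MemLocalRing M (d : ℂ)⁻¹ := memLocalRing_inv_natCast hM hdeg
  have hinv' : ∀ (g : G) (n : N),
      (θ : ↥N → ℂ) ⟨g * n * g⁻¹, (inferInstance : N.Normal).conj_mem (n : G) n.2 g⟩ = (θ : ↥N → ℂ) n :=
    fun g n => hinv g n _ rfl
  have hθR : ∀ k, Nat.Coprime k (Nat.card G) → k ≡ 1 [MOD c₀] → ∀ n : N, (θ : ↥N → ℂ) (n ^ k) = (θ : ↥N → ℂ) n :=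
    fun k hk hk1 n => rat_of_mem_adjoin hp' (irr_isCharacter θ) hm hval k
      (hk.coprime_dvd_right (Subgroup.card_subgroup_dvd_card N)) (hk1.of_dvd (pc_subgroup_dvd hp' N)) n
  have hroot : ∀ (f : G →* ℂˣ) (g : G), (f g : ℂ) ^ Nat.card G = 1 := fun f g => by
    rw [← Units.val_pow_eq_pow_val, ← map_pow, pow_card_eq_one', map_one, Units.val_one]
  -- the determinantal order
  have hdetθ : ∀ n : N, detChar (θ : ↥N → ℂ) n ^ c₀ = 1 := by
    obtain ⟨δθ, hδθ⟩ := IsCharacter.exists_hom_of_apply_one (isCharacter_detChar (irr_isCharacter θ)).1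
      (isCharacter_detChar (irr_isCharacter θ)).2
    obtain ⟨k0, hk0p, hk0c⟩ := Nat.chineseRemainder hcp 2 1
    set k := k0 + Nat.card G with hk
    have hkp : k ≡ 2 [MOD p ^ t] := by
      have h := hk0p.add (Nat.modEq_zero_iff_dvd.2 ⟨c₀, hcard.symm⟩)
      simpa [hk] using h
    have hkc : k ≡ 1 [MOD c₀] := by
      have h := hk0c.add (Nat.modEq_zero_iff_dvd.2 (pc_dvd_card (G := G) p))
      simpa [hk] using h
    have hcop : Nat.Coprime k (Nat.card G) := by
      rw [← hcard]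
      refine Nat.Coprime.mul_right ?_ ?_
      · unfold Nat.Coprime
        rw [Nat.ModEq.gcd_eq hkp]
        exact ((Nat.coprime_primes Nat.prime_two hp').2 (Ne.symm hp)).pow_right t
      · unfold Nat.Coprime
        rw [Nat.ModEq.gcd_eq hkc]
        exact Nat.gcd_one_left _
    have hk1 : 1 ≤ k := Nat.one_le_iff_ne_zero.2 fun h => by
      have := Nat.card_pos (α := G)
      omega
    have he : Nat.gcd (k - 1) (Nat.card G) ∣ c₀ := by
      refine Nat.Coprime.dvd_of_dvd_mul_left ?_ ((Nat.gcd_dvd_right _ _).trans hcard.symm.dvd)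
      refine Nat.Coprime.coprime_dvd_left (Nat.gcd_dvd_left _ _) ?_
      unfold Nat.Coprime
      have h1 : k - 1 ≡ 1 [MOD p ^ t] := Nat.ModEq.add_right_cancel' 1 (by rw [Nat.sub_add_cancel hk1]; exact hkp)
      rw [Nat.ModEq.gcd_eq h1]
      exact Nat.gcd_one_left _
    intro n
    have h1 := Cfsg.Agent.S4553.detChar_comp_pow (hcop.coprime_dvd_right (Subgroup.card_subgroup_dvd_card N))
      (irr_isCharacter θ) n
    rw [show (fun x : N => (θ : ↥N → ℂ) (x ^ k)) = (θ : ↥N → ℂ) from funext (hθR k hcop hkc), hδθ] at h1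
    have h2 : δθ n ^ (k - 1) = 1 := by
      have h3 : δθ n = δθ n ^ k := by rw [← map_pow]; exact Units.ext h1
      refine mul_right_cancel (b := δθ n) ?_
      rw [← pow_succ, Nat.sub_add_cancel hk1, ← h3, one_mul]
    have h4 : δθ n ^ Nat.card G = 1 := by
      rw [← map_pow, show n ^ Nat.card G = 1 from Subtype.ext (by simp), map_one]
    obtain ⟨c, hc⟩ := he
    rw [hδθ]
    simp only
    rw [← Units.val_pow_eq_pow_val, hc, pow_mul, pow_gcd_eq_one.mpr ⟨h2, h4⟩, one_pow, Units.val_one]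
  -- the normal subgroup of p-power index
  haveI hHn : H.Normal := ⟨fun x hx g => by
    have hfr := Sylow.normalizer_sup_eq_top Q
    rw [← hQ', sup_comm] at hfr
    have hg : g ∈ (⊤ : Subgroup G) := Subgroup.mem_top g
    rw [← hfr, Subgroup.mem_sup_of_normal_left] at hg
    obtain ⟨n₁, hn₁, y, hy, rfl⟩ := hg
    obtain ⟨n, hn, c, hc, rfl⟩ := Subgroup.mem_sup_of_normal_left.1 hx
    have hc' : y * c * y⁻¹ ∈ Subgroup.centralizer (Q' : Set G) := by
      refine Subgroup.mem_centralizer_iff.2 fun q hq => ?_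
      have hq' : y⁻¹ * q * y ∈ Q' := (Subgroup.mem_normalizer_iff''.1 hy q).1 hq
      have h1 := Subgroup.mem_centralizer_iff.1 hc _ hq'
      calc q * (y * c * y⁻¹) = y * ((y⁻¹ * q * y) * c) * y⁻¹ := by group
        _ = y * (c * (y⁻¹ * q * y)) * y⁻¹ := by rw [h1]
        _ = y * c * y⁻¹ * q := by group
    have h2 : n₁ * y * (n * c) * (n₁ * y)⁻¹ = n₁ * (y * n * y⁻¹) * (y * c * y⁻¹) * n₁⁻¹ := by group
    rw [h2]
    exact H.mul_mem (H.mul_mem (H.mul_mem (Subgroup.mem_sup_left hn₁)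
      (Subgroup.mem_sup_left ((inferInstance : N.Normal).conj_mem n hn y))) (Subgroup.mem_sup_right hc'))
      (Subgroup.mem_sup_left (N.inv_mem hn₁))⟩
  haveI := Fintype.ofFinite H
  have hNH : N ≤ H := le_sup_left
  have hCH : Subgroup.centralizer (Q' : Set G) ≤ H := le_sup_right
  -- an extension
  have hext : ∃ ψ : G → ℂ, IsIrrCharacter G ψ ∧ ∀ n : N, ψ n = (θ : ↥N → ℂ) n := by
    refine exists_irr_extension_of_sylow θ.2 hinv' fun r hr => ?_
    haveI := Fact.mk hr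
    obtain ⟨R⟩ : Nonempty (Sylow r G) := inferInstance
    have hTi : ¬ r ∣ (N ⊔ (R : Subgroup G)).index := fun h =>
      R.not_dvd_index (h.trans (Subgroup.index_dvd_of_le le_sup_right))
    obtain ⟨j, hj⟩ := exists_index_sup N (R : Subgroup G) R.2
    set T : Subgroup G := N ⊔ (R : Subgroup G) with hT
    have hNT : N ≤ T := le_sup_left
    haveI := Fintype.ofFinite T
    haveI := Fintype.ofFinite (N.subgroupOf T)
    let e := Subgroup.subgroupOfEquivOfLe hNT
    rcases eq_or_ne r p with rfl | hrp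
    · have hinvT : ∀ (g : T) (n : N.subgroupOf T), ((compEquivIrr e θ : IrrCharacter (N.subgroupOf T)) : N.subgroupOf T → ℂ)
          ⟨g * n * g⁻¹, (inferInstance : (N.subgroupOf T).Normal).conj_mem (n : T) n.2 g⟩ =
          ((compEquivIrr e θ : IrrCharacter (N.subgroupOf T)) : N.subgroupOf T → ℂ) n := fun g n => hinv (g : G) (e n) _ rfl
      have h1 : ((compEquivIrr e θ : IrrCharacter (N.subgroupOf T)) : N.subgroupOf T → ℂ) 1 = (d : ℂ) := by
        rw [← hθ1]; exact congrArg (θ : ↥N → ℂ) (map_one e)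
      have hdo : detOrder ((compEquivIrr e θ : IrrCharacter (N.subgroupOf T)) : N.subgroupOf T → ℂ) ∣ c₀ := by
        refine orderOf_dvd_of_pow_eq_one (funext fun n => ?_)
        show detChar ((θ : ↥N → ℂ) ∘ e.toMonoidHom) n ^ c₀ = 1
        rw [detChar_comp e.toMonoidHom (irr_isCharacter θ)]
        exact hdetθ (e n)
      obtain ⟨χ, hχ, hres⟩ := exists_extension_coprime (N.subgroupOf T) (compEquivIrr e θ).2 hinvT h1
        (by rw [hj]; exact (hr.coprime_iff_not_dvd.2 hdeg).pow_left j)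
        (by rw [hj]; exact ((hr.coprime_iff_not_dvd.2 (not_dvd_pc hr)).pow_left j).coprime_dvd_right hdo)
      exact ⟨T, hNT, χ, hTi, IsIrrCharacter.isCharacter hχ, fun n => hres ⟨⟨n, hNT n.2⟩, n.2⟩⟩
    · have hTH : T ≤ H := by
        refine sup_le hNH fun x hx => mem_of_index_eq_pow hp' H ha fun hd => ?_
        obtain ⟨i, hi⟩ := (IsPGroup.iff_orderOf.1 R.2) ⟨x, hx⟩
        rw [Subgroup.orderOf_mk] at hi
        rw [hi] at hd
        exact hrp ((Nat.prime_dvd_prime_iff_eq hp' hr).1 (hp'.dvd_of_dvd_pow hd)).symm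
      have hNi : ¬ p ∣ (N.subgroupOf T).index := by
        rw [hj]
        exact fun hd => hrp ((Nat.prime_dvd_prime_iff_eq hp' hr).1 (hp'.dvd_of_dvd_pow hd)).symm
      have hQT : Q' ≤ T := (Subgroup.map_subtype_le _).trans hNT
      have hQp : IsPGroup p (Q'.subgroupOf T) :=
        (Q.2.map N.subtype).of_equiv (Subgroup.subgroupOfEquivOfLe hQT).symm
      have hQi : ¬ p ∣ (Q'.subgroupOf T).index := by
        show ¬ p ∣ Q'.relIndex T
        rw [← Subgroup.relIndex_mul_relIndex Q' N T (Subgroup.map_subtype_le _) hNT]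
        refine hp'.not_dvd_mul ?_ hNi
        show ¬ p ∣ (Q'.comap N.subtype).index
        rw [hQ', Subgroup.comap_map_eq_self_of_injective N.subtype_injective]
        exact Q.not_dvd_index
      obtain ⟨χ, -, hres⟩ := extendsPrincipal_of_sup (N.subgroupOf T) hM hNi (hQp.toSylow hQi) (by
          rw [eq_top_iff]
          rintro ⟨x, hx⟩ -
          obtain ⟨n, hn, c, hc, rfl⟩ := Subgroup.mem_sup_of_normal_left.1 (hTH hx)
          have hcT : c ∈ T := (Subgroup.mul_mem_cancel_left T (hNT hn)).1 hx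
          rw [show (⟨n * c, hx⟩ : T) = ⟨n, hNT hn⟩ * ⟨c, hcT⟩ from rfl]
          refine Subgroup.mul_mem_sup hn (Subgroup.mem_centralizer_iff.2 fun q hq => ?_)
          exact Subtype.ext (Subgroup.mem_centralizer_iff.1 hc (q : G) hq))
        _ (compEquivIrr_mem_principalBlock e hB)
      exact ⟨T, hNT, (χ : T → ℂ), hTi, irr_isCharacter χ, fun n => hres ⟨⟨n, hNT n.2⟩, n.2⟩⟩
  obtain ⟨ψ, hψ, hψN⟩ := hext
  have hψc : IsCharacter G ψ := IsIrrCharacter.isCharacter hψ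
  -- the principal extension to the normal subgroup
  haveI := Fintype.ofFinite (N.subgroupOf H)
  let eH := Subgroup.subgroupOfEquivOfLe hNH
  let QH : Sylow p (N.subgroupOf H) := Q.comapOfInjective eH.toMonoidHom eH.injective
    (fun x _ => ⟨eH.symm x, eH.apply_symm_apply x⟩)
  have hcov : N.subgroupOf H ⊔
      Subgroup.centralizer (((QH : Subgroup (N.subgroupOf H)).map (N.subgroupOf H).subtype : Subgroup H) : Set H) = ⊤ := by
    rw [eq_top_iff]
    rintro ⟨x, hx⟩ -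
    obtain ⟨n, hn, c, hc, rfl⟩ := Subgroup.mem_sup_of_normal_left.1 hx
    rw [show (⟨n * c, hx⟩ : H) = ⟨n, hNH hn⟩ * ⟨c, hCH hc⟩ from rfl]
    refine Subgroup.mul_mem_sup hn (Subgroup.mem_centralizer_iff.2 fun q hq => ?_)
    obtain ⟨y, hy, rfl⟩ := hq
    exact Subtype.ext (Subgroup.mem_centralizer_iff.1 hc _ ⟨eH y, hy, rfl⟩)
  have hψH : IsCharacter H (fun x : H => ψ x) := IsCharacter.restrict hψc H
  have hψN' : (fun n : N.subgroupOf H => ψ ((n : H) : G)) = (θ : ↥N → ℂ) ∘ eH := funext fun n => hψN (eH n)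
  have hψirr : IsIrrCharacter (N.subgroupOf H) (fun n : N.subgroupOf H => ψ ((n : H) : G)) := by
    rw [hψN']; exact IsIrrCharacter.comp_equiv θ.2 eH
  obtain ⟨η, hηB, hηN, hηJ⟩ := Cfsg.Agent.S4937.result p M hM (N.subgroupOf H) QH hcov (compEquivIrr eH θ)
    (compEquivIrr_mem_principalBlock eH hB)
    ⟨⟨_, isIrr_of_restrict (N.subgroupOf H) hψH hψirr⟩, fun n => hψN (eH n)⟩
  have hη1 : (η : H → ℂ) 1 = (d : ℂ) := by
    rw [← hθ1, ← map_one eH]
    exact hηN 1
  set f : G → ℂ := extendByZero H (η : H → ℂ) with hf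
  have hfH : ∀ (y : G) (hy : y ∈ H), f y = (η : H → ℂ) ⟨y, hy⟩ := fun y hy => extendByZero_of_mem _ _ hy
  have hf1 : f 1 = (d : ℂ) := by rw [hfH 1 H.one_mem]; exact hη1
  have hfcl : ∀ j ∈ H, ∀ y, f (j * y * j⁻¹) = f y := by
    intro j hj y
    by_cases hy : y ∈ H
    · rw [hfH _ hy, hfH _ (H.mul_mem (H.mul_mem hj hy) (H.inv_mem hj))]
      exact irr_isClassFunction η ⟨y, hy⟩ ⟨j, hj⟩
    · rw [hf, extendByZero_of_not_mem _ _ hy, extendByZero_of_not_mem]
      exact fun h => hy (by simpa [mul_assoc] using H.mul_mem (H.mul_mem (H.inv_mem hj) h) hj)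
  have horb : ∀ x ∈ H, MemLocalIdeal M (∑ y ∈ orb N x, (f y / d - 1)) := by
    intro x hx
    set J₀ : Subgroup G := N ⊔ Subgroup.zpowers x with hJ₀
    have hJH : J₀ ≤ H := sup_le hNH (Subgroup.zpowers_le.2 hx)
    haveI := Fintype.ofFinite J₀
    haveI := Fintype.ofFinite (J₀.subgroupOf H)
    obtain ⟨ξ, hξB, hξv⟩ := hηJ (J₀.subgroupOf H) (fun y hy => le_sup_left (a := N) hy)
    let e2 := Subgroup.subgroupOfEquivOfLe hJH
    have h1 := compEquivIrr_mem_principalBlock e2.symm hξB ⟨x, Subgroup.mem_sup_right (Subgroup.mem_zpowers x)⟩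
    have hv : ((compEquivIrr e2.symm ξ : IrrCharacter J₀) : J₀ → ℂ) = fun j : J₀ => f j := funext fun j => by
      show (ξ : _ → ℂ) (e2.symm j) = _
      rw [hξv, hfH (j : G) (hJH j.2)]
      rfl
    rw [hv] at h1
    have h2 := Cfsg.Agent.S4937.sum_orb_eq J₀ f (fun j hj y => hfcl j (hJH hj) y)
      ⟨x, Subgroup.mem_sup_right (Subgroup.mem_zpowers x)⟩
    have heq : orb J₀ x = orb N x := by
      ext y
      rw [mem_orb, mem_orb]
      constructor
      · rintro ⟨j, hj, rfl⟩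
        obtain ⟨n, hn, z, hz, rfl⟩ := Subgroup.mem_sup_of_normal_left.1 hj
        obtain ⟨i, rfl⟩ := Subgroup.mem_zpowers_iff.1 hz
        exact ⟨n, hn, by group⟩
      · rintro ⟨n, hn, rfl⟩
        exact ⟨n, le_sup_left (a := N) hn, rfl⟩
    simp only [heq, hf1] at h2
    rw [h2, ← neg_sub]
    exact memLocalIdeal_neg h1
  -- the linear ratio
  obtain ⟨l, hlN, hl⟩ := exists_linear_mul_of_restrict_eq (N := N.subgroupOf H) hψH (irr_isCharacter η) hψirr
    (fun n => (hηN n).trans (hψN (eH n)).symm)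
  have hlf : ∀ (x : G) (hx : x ∈ H), ∀ y ∈ orb N x, f y = (l ⟨x, hx⟩ : ℂ) * ψ y := by
    intro x hx y hy
    obtain ⟨n, hn, rfl⟩ := (mem_orb N).1 hy
    have hy' : n * x * n⁻¹ ∈ H := H.mul_mem (H.mul_mem (hNH hn) hx) (H.inv_mem (hNH hn))
    rw [hfH _ hy', congrFun hl]
    congr 2
    rw [show (⟨n * x * n⁻¹, hy'⟩ : H) = ⟨n, hNH hn⟩ * ⟨x, hx⟩ * (⟨n, hNH hn⟩ : H)⁻¹ from rfl, map_mul, map_mul,
      map_inv, mul_inv_cancel_comm]
  have hA : ∀ (x : G) (hx : x ∈ H),
      MemLocalIdeal M ((l ⟨x, hx⟩ : ℂ) * ((∑ y ∈ orb N x, ψ y) / d) - ((orb N x).card : ℂ)) := by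
    intro x hx
    have h := horb x hx
    rw [Finset.sum_sub_distrib, Finset.sum_const, nsmul_one, ← Finset.sum_div,
      Finset.sum_congr rfl (hlf x hx), ← Finset.mul_sum, mul_div_assoc] at h
    exact h
  have hlroot : ∀ x : H, (l x : ℂ) ^ Nat.card G = 1 := fun x => by
    rw [← Units.val_pow_eq_pow_val, ← map_pow, show x ^ Nat.card G = 1 from Subtype.ext (by simp), map_one,
      Units.val_one]
  have hlR : ∀ x : H, MemLocalRing M (l x : ℂ) := fun x => memLocalRing_of_isIntegral'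
    (IsIntegral.of_pow (Nat.card_pos (α := G)) (by rw [hlroot]; exact isIntegral_one))
  have hlinvC : ∀ (g c : G) (hc : c ∈ Subgroup.centralizer (Q' : Set G)),
      MemLocalIdeal M ((l ⟨g * c * g⁻¹, hHn.conj_mem c (hCH hc) g⟩ : ℂ) - (l ⟨c, hCH hc⟩ : ℂ)) := by
    intro g c hc
    have h1 := hA c (hCH hc)
    have h2 := hA (g * c * g⁻¹) (hHn.conj_mem c (hCH hc) g)
    have hcl : (orb N (g * c * g⁻¹)).card = (orb N c).card := by
      have := sum_orb_conj N g c (fun _ => (1 : ℂ))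
      simpa using this
    rw [sum_orb_conj, hcl, Finset.sum_congr rfl fun y _ => irr_isClassFunction ⟨ψ, hψ⟩ y g] at h2
    simp only at h2
    set L := (l ⟨c, hCH hc⟩ : ℂ)
    set L' := (l ⟨g * c * g⁻¹, hHn.conj_mem c (hCH hc) g⟩ : ℂ)
    set S := (∑ y ∈ orb N c, ψ y) / (d : ℂ)
    set C := ((orb N c).card : ℂ) with hC
    have hC' : MemLocalRing M C⁻¹ := memLocalRing_inv_natCast hM (card_orb_dvd N Q hc)
    have hC0 : C ≠ 0 := by
      rw [hC, Nat.cast_ne_zero]
      exact fun h => card_orb_dvd N Q hc (h ▸ dvd_zero p)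
    have h3 := memLocalIdeal_mul_left hC'
      (memLocalIdeal_sub (memLocalIdeal_mul_left (hlR ⟨c, hCH hc⟩) h2)
        (memLocalIdeal_mul_left (hlR ⟨g * c * g⁻¹, hHn.conj_mem c (hCH hc) g⟩) h1))
    convert h3 using 1
    show L' - L = C⁻¹ * (L * (L' * S - C) - L' * (L * S - C))
    field_simp
    ring
  obtain ⟨e, hep, hec⟩ := Nat.chineseRemainder hcp 0 1
  have hlinv : ∀ (g : G) (x : H), (l ⟨g * x * g⁻¹, hHn.conj_mem x x.2 g⟩ : ℂ) ^ e = (l x : ℂ) ^ e := by
    rintro g ⟨x, hx⟩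
    obtain ⟨n, hn, c, hc, rfl⟩ := Subgroup.mem_sup_of_normal_left.1 hx
    have e1 : l ⟨n * c, hx⟩ = l ⟨c, hCH hc⟩ := by
      rw [show (⟨n * c, hx⟩ : H) = (⟨⟨n, hNH hn⟩, hn⟩ : N.subgroupOf H).1 * ⟨c, hCH hc⟩ from rfl, map_mul,
        hlN, one_mul]
    have e2 : l ⟨g * (n * c) * g⁻¹, hHn.conj_mem _ hx g⟩ = l ⟨g * c * g⁻¹, hHn.conj_mem c (hCH hc) g⟩ := by
      rw [show (⟨g * (n * c) * g⁻¹, hHn.conj_mem _ hx g⟩ : H) =
        (⟨⟨g * n * g⁻¹, hNH ((inferInstance : N.Normal).conj_mem n hn g)⟩,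
          (inferInstance : N.Normal).conj_mem n hn g⟩ : N.subgroupOf H).1 *
          ⟨g * c * g⁻¹, hHn.conj_mem c (hCH hc) g⟩ from Subtype.ext (by simp [mul_assoc]), map_mul,
        hlN, one_mul]
    simp only [e1, e2]
    set A := l ⟨g * c * g⁻¹, hHn.conj_mem c (hCH hc) g⟩
    set B := l ⟨c, hCH hc⟩
    have hw : ((A * B⁻¹ : ℂˣ) : ℂ) ^ Nat.card G = 1 := by
      rw [← Units.val_pow_eq_pow_val, mul_pow, inv_pow,
        show A ^ Nat.card G = 1 from Units.ext (by rw [Units.val_pow_eq_pow_val, hlroot, Units.val_one]),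
        show B ^ Nat.card G = 1 from Units.ext (by rw [Units.val_pow_eq_pow_val, hlroot, Units.val_one]),
        _root_.inv_one, one_mul, Units.val_one]
    have hw1 : MemLocalIdeal M (((A * B⁻¹ : ℂˣ) : ℂ) - 1) := by
      have h := memLocalIdeal_mul_right (hlinvC g c hc) (hlR (⟨c, hCH hc⟩⁻¹ : H))
      rwa [map_inv, sub_mul, ← Units.val_mul, ← Units.val_mul, mul_inv_cancel, Units.val_one] at h
    obtain ⟨i, hi⟩ := Nat.modEq_zero_iff_dvd.1 hep
    have h5 : (A * B⁻¹) ^ e = 1 := Units.ext (by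
      rw [Units.val_pow_eq_pow_val, hi, pow_mul, pow_eq_one_of_congr hM hw hw1, one_pow, Units.val_one])
    rw [← Units.val_pow_eq_pow_val, ← Units.val_pow_eq_pow_val]
    congr 1
    rwa [mul_pow, inv_pow, mul_inv_eq_one] at h5
  obtain ⟨μ₀, ⟨hμ₀, hμ₀1, hμ₀H, -⟩, -⟩ := exists_linear_extension_coprime (N := H)
    (lam := fun x : H => (((l ^ e) x : ℂˣ) : ℂ)) (IsIrrCharacter.isCharacter (isIrrCharacter_unitsHom _))
    (by simp) (fun g x => by
      simp only [MonoidHom.pow_apply, Units.val_pow_eq_pow_val]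
      exact hlinv g x)
    (by
      rw [ha]
      refine ((hp'.coprime_iff_not_dvd.2 (not_dvd_pc (G := G) hp')).pow_left a).coprime_dvd_right
        (orderOf_dvd_of_pow_eq_one (funext fun x => ?_))
      obtain ⟨i, hi⟩ := Nat.modEq_zero_iff_dvd.1 hep
      simp only [Pi.pow_apply, Pi.one_apply, MonoidHom.pow_apply, Units.val_pow_eq_pow_val]
      rw [← pow_mul, hi, show p ^ t * i * pc p G = p ^ t * pc p G * i by ring, pow_mul_pc, pow_mul, hlroot,
        one_pow])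
  obtain ⟨μ, rfl⟩ := IsCharacter.exists_hom_of_apply_one hμ₀ hμ₀1
  have hμH : ∀ x : H, (μ (x : G) : ℂ) = (l x : ℂ) ^ e := fun x => by
    exact (hμ₀H x).trans (by rw [MonoidHom.pow_apply, Units.val_pow_eq_pow_val])
  have hμN : ∀ n : N, (μ (n : G) : ℂ) = 1 := fun n => by
    rw [hμH ⟨n, hNH n.2⟩, hlN ⟨⟨n, hNH n.2⟩, n.2⟩, Units.val_one, one_pow]
  set ψ₁ : G → ℂ := fun g => (μ g : ℂ) * ψ g with hψ₁
  have hψ₁i : IsIrrCharacter G ψ₁ := isIrrCharacter_twist μ hψ
  have hψ₁c : IsCharacter G ψ₁ := IsIrrCharacter.isCharacter hψ₁i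
  have hψ₁N : ∀ n : N, ψ₁ n = (θ : ↥N → ℂ) n := fun n => by
    show (μ (n : G) : ℂ) * ψ n = _
    rw [hμN, one_mul, hψN]
  have hψ₁1 : ψ₁ 1 = (d : ℂ) := (hψ₁N 1).trans hθ1
  have hψ₁η : ∀ x : H, MemLocalIdeal M (ψ₁ (x : G) - (η : H → ℂ) x) := by
    intro x
    rw [congrFun hl x]
    show MemLocalIdeal M ((μ (x : G) : ℂ) * ψ x - _)
    rw [hμH, ← sub_mul]
    exact memLocalIdeal_mul_right (memLocalIdeal_pow_sub hM (hlroot x) hec)
      (memLocalRing_of_isIntegral' (isIntegral_char (⟨ψ, hψ⟩ : IrrCharacter G) x))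
  have hψ₁Hi : IsIrrCharacter H (fun x : H => ψ₁ x) := by
    refine isIrr_of_restrict (N.subgroupOf H) (IsCharacter.restrict hψ₁c H) ?_
    rw [show (fun n : N.subgroupOf H => ψ₁ ((n : H) : G)) = (θ : ↥N → ℂ) ∘ eH from funext fun n => hψ₁N (eH n)]
    exact IsIrrCharacter.comp_equiv θ.2 eH
  have htriv : ∀ (K : Type _) [Group K] [Fintype K], ((trivIrr K : IrrCharacter K) : K → ℂ) = fun _ => 1 :=
    fun K _ _ => funext fun x => trivIrr_apply x
  have hψ₁B : SameBlock M (fun _ : G => (1 : ℂ)) ψ₁ := by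
    have hs : SameBlock M ((trivIrr H : IrrCharacter H) : H → ℂ)
        ((⟨_, hψ₁Hi⟩ : IrrCharacter H) : H → ℂ) := by
      rw [htriv]
      refine sameBlock_trans hηB (sameBlock_of_congr hM hdeg hη1 hψ₁1 fun x => ?_)
      rw [← neg_sub]
      exact memLocalIdeal_neg (hψ₁η x)
    have h := sameBlock_of_constituents H hM ha (χ := trivIrr G) (χ' := ⟨ψ₁, hψ₁i⟩) hs
      (by
        rw [show (fun n : H => ((trivIrr G : IrrCharacter G) : G → ℂ) n) = ((trivIrr H : IrrCharacter H) : H → ℂ) by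
          rw [htriv, htriv], IsIrrCharacter.classInner_self (trivIrr H).2]
        exact one_ne_zero)
      (by rw [IsIrrCharacter.classInner_self hψ₁Hi]; exact one_ne_zero)
    rwa [htriv] at h
  -- normalizing the determinant
  obtain ⟨δ, hδ⟩ :=
    IsCharacter.exists_hom_of_apply_one (isCharacter_detChar hψ₁c).1 (isCharacter_detChar hψ₁c).2
  have hδN : ∀ n : N, (δ (n : G) : ℂ) ^ c₀ = 1 := fun n => by
    have h := congrFun (detChar_comp N.subtype hψ₁c) n
    rw [show ψ₁ ∘ N.subtype = (θ : ↥N → ℂ) from funext hψ₁N, hδ] at h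
    rw [show (δ (n : G) : ℂ) = detChar (θ : ↥N → ℂ) n from h.symm]
    exact hdetθ n
  obtain ⟨e₀, he₀p, he₀c⟩ := Nat.chineseRemainder hcp 1 0
  have hcopd : Nat.Coprime (p ^ t) d := (hp'.coprime_iff_not_dvd.2 hdeg).pow_left t
  obtain ⟨q, hq1, hq0⟩ := Nat.chineseRemainder hcopd 1 0
  obtain ⟨a', rfl⟩ := Nat.modEq_zero_iff_dvd.1 hq0
  set ν : G →* ℂˣ := δ ^ e₀ with hν
  have hνN : ∀ n : N, ν (n : G) = 1 := fun n => by
    obtain ⟨i, hi⟩ := Nat.modEq_zero_iff_dvd.1 he₀c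
    refine Units.ext ?_
    rw [hν, MonoidHom.pow_apply, Units.val_pow_eq_pow_val, hi, pow_mul, hδN, one_pow, Units.val_one]
  have hνt : ∀ g, ν g ^ p ^ t = 1 := fun g => by
    obtain ⟨i, hi⟩ := Nat.modEq_zero_iff_dvd.1 he₀c
    rw [hν, MonoidHom.pow_apply, ← pow_mul, hi, show c₀ * i * p ^ t = p ^ t * c₀ * i by ring, hcard,
      pow_mul, ← map_pow, pow_card_eq_one', map_one, one_pow]
  set L : G →* ℂˣ := (ν ^ a')⁻¹ with hL
  set χ : G → ℂ := fun g => (L g : ℂ) * ψ₁ g with hχ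
  have hχi : IsIrrCharacter G χ := isIrrCharacter_twist L hψ₁i
  have hχc : IsCharacter G χ := IsIrrCharacter.isCharacter hχi
  have hLN : ∀ n : N, L (n : G) = 1 := fun n => by
    rw [hL, MonoidHom.inv_apply, MonoidHom.pow_apply, hνN, one_pow, _root_.inv_one]
  have hχN : ∀ n : N, χ n = (θ : ↥N → ℂ) n := fun n => by
    show (L (n : G) : ℂ) * ψ₁ n = _
    rw [hLN, Units.val_one, one_mul, hψ₁N]
  have hχ1 : χ 1 = (d : ℂ) := (hχN 1).trans hθ1
  have hχψ : ∀ g, MemLocalIdeal M (χ g - ψ₁ g) := fun g => by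
    show MemLocalIdeal M ((L g : ℂ) * ψ₁ g - ψ₁ g)
    rw [← sub_one_mul]
    refine memLocalIdeal_mul_right (memLocalIdeal_root_sub_one hM (k := t) ?_)
      (memLocalRing_of_isIntegral' (isIntegral_char (⟨ψ₁, hψ₁i⟩ : IrrCharacter G) g))
    rw [← Units.val_pow_eq_pow_val, hL, MonoidHom.inv_apply, MonoidHom.pow_apply, inv_pow, ← pow_mul,
      mul_comm a', pow_mul, hνt, one_pow, _root_.inv_one, Units.val_one]
  have hdetχ : detChar χ = fun g => (((ν g)⁻¹ * δ g : ℂˣ) : ℂ) := by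
    rw [hχ, detChar_twist L hψ₁c hψ₁1, hδ]
    funext g
    rw [← Units.val_pow_eq_pow_val, ← Units.val_mul]
    congr 2
    rw [hL, MonoidHom.inv_apply, MonoidHom.pow_apply, inv_pow, ← pow_mul, mul_comm a', inv_inj]
    conv_rhs => rw [← pow_one (ν g)]
    exact pow_eq_pow_of_modEq hq1 (hνt g)
  have hdetc : ∀ g, ((ν g)⁻¹ * δ g) ^ c₀ = 1 := fun g => by
    rw [mul_pow, inv_pow, hν, MonoidHom.pow_apply, ← pow_mul, inv_mul_eq_one]
    conv_rhs => rw [← one_mul c₀]
    refine pow_eq_pow_of_modEq (n := Nat.card G) ?_ (by rw [← map_pow, pow_card_eq_one', map_one])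
    rw [← hcard]
    exact he₀p.mul_right' c₀
  -- rationality
  have hrat : Rat p χ := by
    intro k hk hk1 g₀
    obtain ⟨l₂, hl₂N, hl₂⟩ := exists_linear_mul_of_restrict_eq (N := N) hχc
      (Cfsg.Agent.Lib.OddChar.isCharacter_comp_pow hk hχc)
      (by rw [show (fun n : N => χ n) = (θ : ↥N → ℂ) from funext hχN]; exact θ.2)
      (fun n => by rw [← SubmonoidClass.coe_pow, hχN, hχN, hθR k hk hk1])
    have hl₂d : ∀ g, l₂ g ^ d = 1 := fun g => by
      have h1 := Cfsg.Agent.S4553.detChar_comp_pow hk hχc g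
      rw [hl₂, detChar_twist l₂ hχc hχ1, hdetχ] at h1
      simp only at h1
      have h2 : ((ν (g ^ k))⁻¹ * δ (g ^ k)) = (ν g)⁻¹ * δ g := by
        rw [map_pow, map_pow, ← inv_pow, ← mul_pow]
        conv_rhs => rw [← pow_one ((ν g)⁻¹ * δ g)]
        exact pow_eq_pow_of_modEq hk1 (hdetc g)
      rw [h2, ← Units.val_pow_eq_pow_val, ← Units.val_mul] at h1
      exact mul_eq_right.1 (Units.ext h1)
    have hl₂C : ∀ c ∈ Subgroup.centralizer (Q' : Set G), l₂ c ^ p ^ t = 1 := by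
      intro c hc
      have hR : MemLocalRing M (l₂ c : ℂ) := memLocalRing_of_isIntegral'
        (IsIntegral.of_pow (Nat.card_pos (α := G)) (by rw [hroot]; exact isIntegral_one))
      have h1 : MemLocalIdeal M (((l₂ c : ℂ) - 1) * ((∑ y ∈ orb N c, χ y) / d)) := by
        rw [← mul_div_assoc, Finset.mul_sum, div_eq_mul_inv]
        refine memLocalIdeal_mul_right (memLocalIdeal_sum _ fun y hy => ?_) hdR
        obtain ⟨n, hn, rfl⟩ := (mem_orb N).1 hy
        rw [sub_one_mul, show l₂ c = l₂ (n * c * n⁻¹) by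
          rw [map_mul, map_mul, map_inv, mul_inv_cancel_comm], ← congrFun hl₂]
        exact memLocalIdeal_char_pow_sub hM hχc hk1 _
      have h2 : MemLocalIdeal M ((∑ y ∈ orb N c, χ y) / d - ((orb N c).card : ℂ)) := by
        have h3 : MemLocalIdeal M (∑ y ∈ orb N c, (χ y - f y) / (d : ℂ)) := memLocalIdeal_sum _ fun y hy => by
          obtain ⟨n, hn, rfl⟩ := (mem_orb N).1 hy
          have hy' : n * c * n⁻¹ ∈ H := H.mul_mem (H.mul_mem (hNH hn) (hCH hc)) (H.inv_mem (hNH hn))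
          rw [hfH _ hy', div_eq_mul_inv]
          refine memLocalIdeal_mul_right ?_ hdR
          simpa using memLocalIdeal_add (hχψ (n * c * n⁻¹)) (hψ₁η ⟨_, hy'⟩)
        have h4 := memLocalIdeal_add h3 (horb c (hCH hc))
        rw [← Finset.sum_add_distrib] at h4
        convert h4 using 1
        rw [Finset.sum_div, ← nsmul_one (orb N c).card, ← Finset.sum_const, ← Finset.sum_sub_distrib]
        exact Finset.sum_congr rfl fun y _ => by ring
      have h3 := memLocalIdeal_sub h1 (memLocalIdeal_mul_left (memLocalRing_sub hR memLocalRing_one) h2)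
      rw [← mul_sub, sub_sub_cancel] at h3
      have h5 : MemLocalIdeal M ((l₂ c : ℂ) - 1) := by
        have hnd : ¬ p ∣ (orb N c).card := card_orb_dvd N Q hc
        have h6 := memLocalIdeal_mul_right h3 (memLocalRing_inv_natCast hM hnd)
        rwa [mul_assoc, mul_inv_cancel₀ (Nat.cast_ne_zero.2 fun (h : (orb N c).card = 0) => hnd (by rw [h]; exact dvd_zero p)), mul_one] at h6
      exact Units.ext (by rw [Units.val_pow_eq_pow_val, pow_eq_one_of_congr hM (hroot l₂ c) h5, Units.val_one])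
    have h6 : l₂ g₀ ^ (p ^ a * p ^ t) = 1 := by
      obtain ⟨n, hn, c, hc, hnc⟩ := Subgroup.mem_sup_of_normal_left.1 (Subgroup.pow_index_mem H g₀)
      rw [ha] at hnc
      rw [pow_mul, ← map_pow, ← hnc, map_mul, hl₂N ⟨n, hn⟩, one_mul, hl₂C c hc]
    have h7 := pow_gcd_eq_one.mpr ⟨hl₂d g₀, h6⟩
    have hcop2 : Nat.Coprime d (p ^ a * p ^ t) :=
      Nat.Coprime.mul_right ((hp'.coprime_iff_not_dvd.2 hdeg).symm.pow_right a)
        ((hp'.coprime_iff_not_dvd.2 hdeg).symm.pow_right t)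
    rw [hcop2.gcd_eq_one, pow_one] at h7
    have h8 : χ (g₀ ^ k) = (l₂ g₀ : ℂ) * χ g₀ := congrFun hl₂ g₀
    rw [h8, h7, Units.val_one, one_mul]
  refine ⟨⟨χ, hχi⟩, sameBlock_trans hψ₁B (sameBlock_of_congr hM hdeg hψ₁1 hχ1 fun g => ?_),
    ⟨pc p G, not_dvd_pc hp', mem_adjoin_of_rat p hχc hrat⟩, hχN⟩
  rw [← neg_sub]
  exact memLocalIdeal_neg (hχψ g)

end Cfsg.Agent.S4892
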