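import Cfsg.Statements.S4911
import Cfsg.Agent.Lib.Glauberman.Conj
import Cfsg.Agent.Lib.Glauberman.Equivariance
-- import your own Cfsg.Agent.* helpers here

set_option autoImplicit false
open Cfsg Cfsg.Agent.Lib.Glauberman Cfsg.Agent.Lib.Characters

namespace Cfsg.Agent.S4911

/-- Let P and K be subgroups of a finite group with P a p-group normalizing K and K of order prime to p. Then the number of P-invariant real-valued irreducible complex characters of K equals the number of conjugacy classes of K that are real (closed under inversion) and P-invariant. Moreover, if every real-valued irreducible character of K is P-invariant, then every real element of K (one conjugate in K to its inverse) is conjugate in K to an element centralized by P. -/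
theorem result {G : Type*} [Group G] [Finite G] (p : ℕ) [Fact p.Prime] (P K : Subgroup G) (hP : IsPGroup p ↥P) (hK : ¬ p ∣ Nat.card ↥K) (hPK : P ≤ Subgroup.normalizer (K : Set G)) : Nat.card {θ : Cfsg.IrrCharacter ↥K // (∀ k : ↥K, ((θ : ↥K → ℂ) k).im = 0) ∧ (∀ x ∈ P, ∀ k k' : ↥K, (k' : G) = x * (k : G) * x⁻¹ → (θ : ↥K → ℂ) k' = (θ : ↥K → ℂ) k)} = Nat.card {c : ConjClasses ↥K // (∀ k : ↥K, ConjClasses.mk k = c → IsConj k k⁻¹) ∧ ∀ k : ↥K, ConjClasses.mk k = c → ∀ x ∈ P, ∀ k' : ↥K, (k' : G) = x * (k : G) * x⁻¹ → ConjClasses.mk k' = c} ∧ ((∀ θ : Cfsg.IrrCharacter ↥K, (∀ k : ↥K, ((θ : ↥K → ℂ) k).im = 0) → (∀ x ∈ P, ∀ k k' : ↥K, (k' : G) = x * (k : G) * x⁻¹ → (θ : ↥K → ℂ) k' = (θ : ↥K → ℂ) k)) → ∀ k : ↥K, IsConj k k⁻¹ → ∃ k' : ↥K, IsConj k k' ∧ ∀ x ∈ P, x * (k' : G) * x⁻¹ = (k' : G)) := by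
  classical
  haveI := Fintype.ofFinite ↥K
  have hnorm : ∀ x ∈ P, ∀ k ∈ K, x * k * x⁻¹ ∈ K := fun x hx k hk =>
    ((Subgroup.mem_normalizer_iff.1 (hPK hx)) k).1 hk
  let φ := conjHom K P hnorm
  haveI : Fintype (fixedSub φ) := Fintype.ofFinite _
  obtain ⟨π, hπ, -⟩ := exists_glauberman φ hP hK
  obtain ⟨e, he⟩ := nonempty_classEquiv φ hP hK
  have hreal : ∀ D : ConjClasses (fixedSub φ),
      (∀ c, ConjClasses.mk c = D → IsConj c c⁻¹) ↔
        ∀ k, ConjClasses.mk k = (e D).1 → IsConj k k⁻¹ := fun D => by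
    obtain ⟨c, rfl⟩ := ConjClasses.mk_surjective D
    rw [he c]
    constructor
    · intro h k hk
      have hk' : IsConj k (c : ↥K) := ConjClasses.mk_eq_mk_iff_isConj.1 hk
      obtain ⟨t, ht⟩ := isConj_iff.1 hk'
      have h2 : IsConj (k⁻¹) ((c : ↥K)⁻¹) := isConj_iff.2 ⟨t, by rw [← ht]; group⟩
      have h3 : IsConj (c : ↥K) ((c⁻¹ : fixedSub φ) : ↥K) :=
        (fixedSub φ).subtype.map_isConj (h c rfl)
      exact hk'.trans (h3.trans h2.symm)
    · intro h d hd
      have hd' : IsConj (d : ↥K) (c : ↥K) :=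
        (fixedSub φ).subtype.map_isConj (ConjClasses.mk_eq_mk_iff_isConj.1 hd)
      exact isConj_of_isConj φ hP hK (h d (ConjClasses.mk_eq_mk_iff_isConj.2 hd'))
  have step1 : Nat.card {θ : Cfsg.IrrCharacter ↥K // (∀ k : ↥K, ((θ : ↥K → ℂ) k).im = 0) ∧
      IsInv φ (θ : ↥K → ℂ)} =
      Nat.card {c : ConjClasses ↥K // (∀ k : ↥K, ConjClasses.mk k = c → IsConj k k⁻¹) ∧
        ∀ (a : P) (k : ↥K), ConjClasses.mk k = c → ConjClasses.mk (φ a k) = c} := by
    rw [← Nat.card_congr (Equiv.subtypeEquivRight fun θ => and_comm),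
      ← Nat.card_congr (Equiv.subtypeSubtypeEquivSubtypeInter (fun θ : Cfsg.IrrCharacter ↥K =>
        IsInv φ (θ : ↥K → ℂ)) fun θ => ∀ k, ((θ : ↥K → ℂ) k).im = 0),
      Nat.card_congr (π.subtypeEquiv (q := fun β : Cfsg.IrrCharacter (fixedSub φ) =>
        ∀ c, ((β : fixedSub φ → ℂ) c).im = 0) fun χ => real_iff φ π hπ χ), card_real_irr,
      Nat.card_congr (e.subtypeEquiv (q := fun c => ∀ k, ConjClasses.mk k = c.1 → IsConj k k⁻¹)
        hreal),
      Nat.card_congr ((Equiv.subtypeSubtypeEquivSubtypeInter _ fun c : ConjClasses ↥K =>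
        ∀ k, ConjClasses.mk k = c → IsConj k k⁻¹).trans
          (Equiv.subtypeEquivRight fun c => and_comm))]
  constructor
  · refine Eq.trans ?_ (step1.trans ?_)
    · exact Nat.card_congr (Equiv.subtypeEquivRight fun θ =>
        and_congr_right fun _ => (isInv_conjHom_iff hnorm _).symm)
    · refine Nat.card_congr (Equiv.subtypeEquivRight fun c => and_congr_right fun _ => ?_)
      exact ⟨fun h k hk x hx k' hk' => (invClass_conjHom_iff hnorm c).1 h x hx k k' hk' hk,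
        fun h => (invClass_conjHom_iff hnorm c).2 fun x hx k k' hk' hk => h k hk x hx k' hk'⟩
  intro hall k hk
  haveI : Finite (ConjClasses ↥K) := Finite.of_surjective _ ConjClasses.mk_surjective
  have hcard : Nat.card {c : ConjClasses ↥K // (∀ k : ↥K, ConjClasses.mk k = c → IsConj k k⁻¹) ∧
        ∀ (a : P) (k : ↥K), ConjClasses.mk k = c → ConjClasses.mk (φ a k) = c} =
      Nat.card {c : ConjClasses ↥K // ∀ k : ↥K, ConjClasses.mk k = c → IsConj k k⁻¹} := by
    rw [← step1, ← card_real_irr]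
    exact Nat.card_congr (Equiv.subtypeEquivRight fun θ =>
      ⟨And.left, fun h => ⟨h, (isInv_conjHom_iff hnorm _).2 (hall θ h)⟩⟩)
  have hkr : ∀ k' : ↥K, ConjClasses.mk k' = ConjClasses.mk k → IsConj k' k'⁻¹ := fun k' hk' => by
    have h1 := ConjClasses.mk_eq_mk_iff_isConj.1 hk'
    obtain ⟨t, ht⟩ := isConj_iff.1 h1
    exact h1.trans (hk.trans (IsConj.symm (isConj_iff.2 ⟨t, by rw [← ht]; group⟩)))
  obtain ⟨⟨c, hc⟩, hcK⟩ := ((Nat.bijective_iff_injective_and_card (fun c : {c : ConjClasses ↥K //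
      (∀ k : ↥K, ConjClasses.mk k = c → IsConj k k⁻¹) ∧
        ∀ (a : P) (k : ↥K), ConjClasses.mk k = c → ConjClasses.mk (φ a k) = c} =>
      (⟨c.1, c.2.1⟩ : {c : ConjClasses ↥K // ∀ k : ↥K, ConjClasses.mk k = c → IsConj k k⁻¹}))).2
    ⟨fun c d h => Subtype.ext (Subtype.mk.injEq _ _ _ _ ▸ h), hcard⟩).2 ⟨ConjClasses.mk k, hkr⟩
  obtain rfl : c = ConjClasses.mk k := congrArg Subtype.val hcK
  obtain ⟨k', hk', hconj⟩ := exists_fixed_of_invClass φ hP hK fun a =>
    (ConjClasses.mk_eq_mk_iff_isConj.1 (hc.2 a k rfl)).symm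
  exact ⟨k', hconj, (mem_fixedSub_conjHom hnorm).1 hk'⟩

end Cfsg.Agent.S4911
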