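import Cfsg.Statements.S4912
import Cfsg.Agent.Lib.Characters.InducedReal
import Cfsg.Agent.Lib.BlockHeights.CharTools
-- import your own Cfsg.Agent.* helpers here

set_option autoImplicit false
open Cfsg

namespace Cfsg.Agent.S4912

open Cfsg.Agent.Lib.Characters

theorem perfect_triv {G : Type*} [Group G] (N : Subgroup G) (hN : N.Normal)
    (hmin : ∀ M : Subgroup G, M.Normal → M ≤ N → M = ⊥ ∨ M = N) (hna : ¬ IsMulCommutative ↥N) :
    ∀ lam : G →* ℂˣ, ∀ n ∈ N, lam n = 1 := by
  haveI := hN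
  intro lam n hn
  rcases hmin ⁅N, N⁆ inferInstance (Subgroup.commutator_le_left N N) with h | h
  · exfalso
    refine hna ⟨⟨fun a b => Subtype.ext ?_⟩⟩
    have := (Subgroup.commutator_eq_bot_iff_le_centralizer.1 h) a.2
    exact ((Subgroup.mem_centralizer_iff.1 this) b b.2).symm
  · have hn' : n ∈ commutator G := by
      rw [← h] at hn
      exact Subgroup.commutator_mono le_top le_top hn
    exact Abelianization.commutator_subset_ker lam hn'

/-- Let G be a finite group with a non-abelian minimal normal subgroup N, and let φ be an irreducible complex character of N with stabilizer I in G such that φ extends to an irreducible character of I with Frobenius–Schur indicator +1. Put d = φ(1)·[G : I]. Then the number of linear characters of G with Frobenius–Schur indicator +1 is at most [G : I] times the number of irreducible characters of G of degree d with Frobenius–Schur indicator +1. -/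
theorem result {G : Type*} [Group G] [Finite G] (N : Subgroup G) (hN : N.Normal) (hN1 : N ≠ ⊥) (hmin : ∀ M : Subgroup G, M.Normal → M ≤ N → M = ⊥ ∨ M = N) (hna : ¬ IsMulCommutative ↥N) (φ : Cfsg.IrrCharacter ↥N) (I : Subgroup G) (hI : ∀ g : G, g ∈ I ↔ ∀ n n' : ↥N, (n' : G) = g * (n : G) * g⁻¹ → (φ : ↥N → ℂ) n' = (φ : ↥N → ℂ) n) (hNI : N ≤ I) (hext : ∃ ψ : Cfsg.IrrCharacter ↥I, (Nat.card ↥I : ℂ)⁻¹ * ∑ᶠ g : ↥I, (ψ : ↥I → ℂ) (g * g) = 1 ∧ ∀ n : ↥N, (ψ : ↥I → ℂ) (Subgroup.inclusion hNI n) = (φ : ↥N → ℂ) n) : Nat.card {χ : Cfsg.IrrCharacter G // Cfsg.charDegree (χ : G → ℂ) = 1 ∧ (Nat.card G : ℂ)⁻¹ * ∑ᶠ g : G, (χ : G → ℂ) (g * g) = 1} ≤ I.index * Nat.card {χ : Cfsg.IrrCharacter G // Cfsg.charDegree (χ : G → ℂ) = Cfsg.charDegree (φ : ↥N → ℂ) * I.index ∧ (Nat.card G : ℂ)⁻¹ * ∑ᶠ g : G, (χ : G → ℂ) (g * g) = 1} := by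
  classical
  haveI := hN
  haveI := Fintype.ofFinite G
  haveI := Fintype.ofFinite N
  haveI := Fintype.ofFinite I
  obtain ⟨ψ, hν, hψ⟩ := hext
  rw [finsum_eq_sum_of_fintype] at hν
  have hI' : ∀ g : G, conjFun N g (φ : N → ℂ) = φ → g ∈ I := fun g h => (hI g).2 fun n n' he => by
    have := congrFun h n
    rw [← this]
    exact congrArg (φ : N → ℂ) (Subtype.ext he)
  obtain ⟨hirr, -⟩ := clifford_extend N I hNI φ.2 hI' ψ.2 hψ
  have hd : ∀ χ : IrrCharacter G, (χ : G → ℂ) 1 = (charDegree (χ : G → ℂ) : ℂ) := fun χ =>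
    Cfsg.Agent.Lib.BlockHeights.irr_apply_one χ
  have hdeg : ∀ (lam : G →* ℂˣ) (η : IrrCharacter G), (η : G → ℂ) = indFun I (ψ : I → ℂ) * (fun g => (lam g : ℂ)) →
      charDegree (η : G → ℂ) = charDegree (φ : N → ℂ) * I.index := fun lam η he => by
    have e := congrFun he 1
    rw [Pi.mul_apply, map_one, Units.val_one, mul_one, indFun_one, hd, show (ψ : I → ℂ) 1 = (φ : N → ℂ) 1 by
        rw [← hψ 1, map_one], Cfsg.Agent.Lib.BlockHeights.irr_apply_one φ, mul_comm] at e
    exact_mod_cast e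
  refine card_linear_le N I hNI (perfect_triv N hN hmin hna) φ.2 hI' ψ.2 hψ _ _
    (fun χ h => by rw [hd, h.1, Nat.cast_one]) fun χ lam h hl η he => ⟨hdeg lam η he, ?_⟩
  have hh : ∀ g, (lam (g * g) : ℂ) = 1 := by
    have hsum := h.2
    rw [finsum_eq_sum_of_fintype, hl] at hsum
    let μ : G →* ℂˣ := lam * lam
    have hμ : (fun g => (μ g : ℂ)) = fun _ => 1 := by
      by_contra hne
      have h0 := IsIrrCharacter.classInner_ne (isIrrCharacter_unitsHom μ) isIrrCharacter_one hne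
      simp only [classInner, map_one, mul_one] at h0
      have e : ∑ g, ((lam (g * g) : ℂˣ) : ℂ) = ∑ g, (μ g : ℂ) := Finset.sum_congr rfl fun g _ => by
        rw [map_mul]; rfl
      rw [e, h0] at hsum
      exact zero_ne_one hsum
    intro g
    rw [map_mul]
    exact congrFun hμ g
  rw [finsum_eq_sum_of_fintype, he]
  simp only [Pi.mul_apply, hh, mul_one]
  exact indicator_indFun I ψ.2 hν hirr

end Cfsg.Agent.S4912
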