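import Cfsg.Statements.S4914
import Cfsg.Agent.Lib.Glauberman.Conj
import Cfsg.Agent.Lib.Glauberman.RelativeGlobal
-- import your own Cfsg.Agent.* helpers here

set_option autoImplicit false
open Cfsg Cfsg.Agent.Lib.Glauberman Cfsg.Agent.Lib.Characters
open Cfsg.Agent.Lib.BrauerPairs (transIrr transIrr_apply)

namespace Cfsg.Agent.S4914

/-- Let P and K be subgroups of a finite group G with P a p-group normalizing K, and suppose K has a normal Sylow p-subgroup Q. Let C be the subgroup of those k ∈ K whose commutator with every element of P lies in Q (so that C/Q is the fixed-point subgroup of P on K/Q). Then there is a bijection f from the P-invariant irreducible complex characters of K onto the P-invariant irreducible complex characters of C such that, for every P-invariant irreducible character χ of K, the multiplicity of f(χ) in the restriction of χ to C is a natural number congruent to 1 or to −1 modulo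 p, every other P-invariant irreducible character of C occurs in that restriction with multiplicity divisible by p, and the degrees of χ and f(χ) are congruent modulo p up to sign. -/
theorem result {G : Type*} [Group G] [Finite G] (p : ℕ) [Fact p.Prime] (P K Q C : Subgroup G) (hP : IsPGroup p ↥P) (hPK : P ≤ Subgroup.normalizer (K : Set G)) (hQK : Q ≤ K) (hQn : ∀ k ∈ K, ∀ q ∈ Q, k * q * k⁻¹ ∈ Q) (hQp : ∃ a : ℕ, Nat.card ↥Q = p ^ a) (hQsyl : ¬ p ∣ Q.relIndex K) (hCK : C ≤ K) (hC : ∀ k : G, k ∈ C ↔ (k ∈ K ∧ ∀ x ∈ P, x * k * x⁻¹ * k⁻¹ ∈ Q)) : ∃ f : {χ : Cfsg.IrrCharacter ↥K // (∀ x ∈ P, ∀ k k' : ↥K, (k' : G) = x * (k : G) * x⁻¹ → (χ : ↥K → ℂ) k' = (χ : ↥K → ℂ) k)} → {ξ : Cfsg.IrrCharacter ↥C // (∀ x ∈ P, ∀ k k' : ↥C, (k' : G) = x * (k : G) * x⁻¹ → (ξ : ↥C → ℂ) k' = (ξ : ↥C → ℂ) k)}, Function.Bijective f ∧ ∀ χ, (∀ ξ : {ξ : Cfsg.IrrCharacter ↥C // (∀ x ∈ P, ∀ k k' : ↥C, (k' : G) = x * (k : G) * x⁻¹ → (ξ : ↥C →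 ℂ) k' = (ξ : ↥C → ℂ) k)}, ∃ m : ℕ, (Nat.card ↥C : ℂ)⁻¹ * ∑ᶠ c : ↥C, (χ.1 : ↥K → ℂ) (Subgroup.inclusion hCK c) * (starRingEnd ℂ) ((ξ.1 : ↥C → ℂ) c) = (m : ℂ) ∧ (ξ = f χ → ((m : ZMod p) = 1 ∨ (m : ZMod p) = -1)) ∧ (ξ ≠ f χ → p ∣ m)) ∧ ((Cfsg.charDegree ((f χ).1 : ↥C → ℂ) : ZMod p) = (Cfsg.charDegree (χ.1 : ↥K → ℂ) : ZMod p) ∨ (Cfsg.charDegree ((f χ).1 : ↥C → ℂ) : ZMod p) = -(Cfsg.charDegree (χ.1 : ↥K → ℂ) : ZMod p)) := by
  classical
  haveI := Fintype.ofFinite G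
  haveI := Fintype.ofFinite ↥K
  have hnorm : ∀ x ∈ P, ∀ k ∈ K, x * k * x⁻¹ ∈ K := fun x hx k hk =>
    ((Subgroup.mem_normalizer_iff.1 (hPK hx)) k).1 hk
  let φ := conjHom K P hnorm
  let Q' : Subgroup ↥K := Q.subgroupOf K
  haveI hQ'n : Q'.Normal := ⟨fun n hn g => hQn g g.2 n hn⟩
  obtain ⟨a, ha⟩ := hQp
  have hQ'p : IsPGroup p Q' := by
    refine IsPGroup.of_equiv (IsPGroup.of_card (p := p) (n := a) ha) ?_
    exact (Subgroup.subgroupOfEquivOfLe hQK).symm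
  have hQinv : ∀ (s : P), ∀ q ∈ Q', φ s q ∈ Q' := by
    intro s q hq
    obtain ⟨k, hk⟩ := IsPGroup.iff_orderOf.1 hQ'p ⟨q, hq⟩
    rw [Subgroup.orderOf_mk] at hk
    obtain ⟨m, hm⟩ := exists_pow_eq_self_of_coprime (x := φ s q) (n := Q'.index) (by
      rw [MulEquiv.orderOf_eq, hk]
      exact (((Fact.out : p.Prime).coprime_iff_not_dvd).2 hQsyl).symm.pow_right k)
    rw [← hm]
    exact Q'.pow_mem (Subgroup.pow_index_mem Q' _) m
  haveI := Fintype.ofFinite Q'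
  haveI := Fintype.ofFinite (preFixed φ Q' hQinv)
  haveI := Fintype.ofFinite ↥C
  obtain ⟨f, hf, hprop⟩ := exists_relative_glauberman φ Q' hQinv hP hQ'p hQsyl
  have hmem : ∀ (c : ↥K), c ∈ preFixed φ Q' hQinv ↔ (c : G) ∈ C := fun c => by
    rw [mem_preFixed, hC]
    exact ⟨fun h => ⟨c.2, fun x hx => h ⟨x, hx⟩⟩, fun h s => h.2 s s.2⟩
  let e : ↥C ≃* preFixed φ Q' hQinv :=
    { toFun := fun c => ⟨⟨c, hCK c.2⟩, (hmem _).2 c.2⟩
      invFun := fun d => ⟨((d : ↥K) : G), (hmem _).1 d.2⟩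
      left_inv := fun _ => rfl
      right_inv := fun _ => rfl
      map_mul' := fun _ _ => rfl }
  let eX : {χ : Cfsg.IrrCharacter ↥K // (∀ x ∈ P, ∀ k k' : ↥K, (k' : G) = x * (k : G) * x⁻¹ →
      (χ : ↥K → ℂ) k' = (χ : ↥K → ℂ) k)} ≃ InvIrr φ :=
    Equiv.subtypeEquivRight fun χ => (isInv_conjHom_iff hnorm _).symm
  let eY : {ξ : Cfsg.IrrCharacter ↥C // (∀ x ∈ P, ∀ k k' : ↥C, (k' : G) = x * (k : G) * x⁻¹ →
      (ξ : ↥C → ℂ) k' = (ξ : ↥C → ℂ) k)} ≃
      InvIrr (restrictAct φ (preFixed φ Q' hQinv) (map_preFixed_mem φ Q' hQinv)) :=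
    (irrEquiv e).subtypeEquiv fun ξ => by
      constructor
      · intro h s d
        obtain ⟨c, rfl⟩ := e.surjective d
        obtain ⟨c', hc'⟩ := e.surjective
          (restrictAct φ (preFixed φ Q' hQinv) (map_preFixed_mem φ Q' hQinv) s (e c))
        show (transIrr e ξ).1 _ = (transIrr e ξ).1 (e c)
        rw [← hc', transIrr_apply, transIrr_apply]
        exact h s s.2 c c' (congrArg (fun z : preFixed φ Q' hQinv => ((z : ↥K) : G)) hc')
      · intro h x hx c c' hcc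
        have h1 := h ⟨x, hx⟩ (e c)
        rw [show restrictAct φ (preFixed φ Q' hQinv) (map_preFixed_mem φ Q' hQinv) ⟨x, hx⟩ (e c) =
            e c' from Subtype.ext (Subtype.ext hcc.symm)] at h1
        exact (transIrr_apply e ξ c').symm.trans (h1.trans (transIrr_apply e ξ c))
  refine ⟨fun χ => eY.symm (f (eX χ)), eY.symm.bijective.comp (hf.comp eX.bijective),
    fun χ => ⟨fun ξ => ?_, ?_⟩⟩
  · obtain ⟨m, hm, h1, h2⟩ := (hprop (eX χ)).1 (eY ξ)
    refine ⟨m, ?_, fun he => h1 ?_, fun he => h2 fun h => he ?_⟩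
    · rw [← hm, classInner, finsum_eq_sum_of_fintype, Nat.card_congr e.toEquiv]
      congr 1
      refine Fintype.sum_equiv e.toEquiv _ _ fun c => ?_
      show _ = (χ.1 : ↥K → ℂ) ((e c : preFixed φ Q' hQinv) : ↥K) *
        (starRingEnd ℂ) ((transIrr e ξ.1 : preFixed φ Q' hQinv → ℂ) (e c))
      rw [transIrr_apply]
      rfl
    · rw [he, Equiv.apply_symm_apply]
    · show ξ = eY.symm (f (eX χ))
      rw [← h, Equiv.symm_apply_apply]
  · have hd : ∀ η : InvIrr (restrictAct φ (preFixed φ Q' hQinv) (map_preFixed_mem φ Q' hQinv)),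
        charDegree ((eY.symm η).1 : ↥C → ℂ) = charDegree (η.1 : preFixed φ Q' hQinv → ℂ) := by
      intro η
      obtain ⟨ξ, rfl⟩ := eY.surjective η
      rw [Equiv.symm_apply_apply]
      have h1 : (transIrr e ξ.1 : preFixed φ Q' hQinv → ℂ) 1 = (ξ.1 : ↥C → ℂ) 1 := by
        simpa using transIrr_apply e ξ.1 1
      exact congrArg (fun z : ℂ => ⌊z.re⌋₊) h1.symm
    rw [hd]
    exact (hprop (eX χ)).2

end Cfsg.Agent.S4914
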