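import Cfsg.Statements.S4916
import Cfsg.Agent.Lib.Blocks.CharCongr
import Cfsg.Agent.Lib.Blocks.Sections
import Cfsg.Agent.Lib.Blocks.Covering

open Cfsg Cfsg.Agent.Lib.Blocks Cfsg.Agent.Lib.Characters
open scoped ComplexConjugate
-- import your own Cfsg.Agent.* helpers here

set_option autoImplicit false
open Cfsg

namespace Cfsg.Agent.S4916

/-- Let G be a finite group, p a prime and M a maximal ideal of the algebraic integers containing p. Then the principal character is the only irreducible character of degree prime to p in the principal p-block of G if and only if p does not divide the order of G. -/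
theorem result {G : Type*} [Group G] [Finite G] (p : ℕ) [Fact p.Prime] (M : Ideal Cfsg.AlgInt) (hM : Cfsg.IsPModular p M) : (∀ χ : Cfsg.IrrCharacter G, χ ∈ Cfsg.principalBlock M G → ¬ p ∣ Cfsg.charDegree (χ : G → ℂ) → (χ : G → ℂ) = fun _ => (1 : ℂ)) ↔ ¬ p ∣ Nat.card G := by
  classical
  haveI := Fintype.ofFinite G
  haveI := Fintype.ofFinite (IrrCharacter G)
  haveI := isPrime_of_isPModular hM
  constructor
  · intro h hp
    obtain ⟨x, hx⟩ := exists_prime_orderOf_dvd_card' p hp
    have hreg : ¬ p ∣ orderOf (1 : G) := by
      rw [orderOf_one, Nat.dvd_one]; exact (Fact.out : p.Prime).ne_one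
    have hsum := finsum_regular_singular_eq_zero hM (isPBlock_principalBlock (G := G) (M := M)) hreg
      (h := x) (by rw [hx])
    rw [finsum_irr_eq_sum_ite, ← Finset.add_sum_erase _ _ (Finset.mem_univ (trivIrr G)),
      if_pos (show trivIrr G ∈ Cfsg.principalBlock M G from self_mem_blockOf (trivIrr G))] at hsum
    refine not_memLocalIdeal_one (M := M) ?_
    have h1 : (1 : ℂ) = -∑ χ ∈ (Finset.univ : Finset (IrrCharacter G)).erase (trivIrr G),
        if χ ∈ Cfsg.principalBlock M G then (χ : G → ℂ) 1 * conj ((χ : G → ℂ) x) else 0 := by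
      simp only [trivIrr_apply, map_one, mul_one] at hsum
      linear_combination hsum
    rw [h1]
    refine memLocalIdeal_neg (memLocalIdeal_sum _ fun χ hχ => ?_)
    split_ifs with hB
    · have hd : p ∣ Cfsg.charDegree (χ : G → ℂ) := by
        by_contra hd
        exact (Finset.mem_erase.1 hχ).1 (Subtype.ext (by rw [h χ hB hd]; rfl))
      rw [← charDegree_eq]
      refine memLocalIdeal_mul_right ((memLocalIdeal_natCast_iff hM _).2 hd) ?_
      rw [← IsCharacter.apply_inv (irr_isCharacter χ)]
      exact memLocalRing_of_isIntegral' (isIntegral_char χ _)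
    · exact memLocalIdeal_zero
  · intro hp χ hχ _
    have h := blockOf_eq_singleton_of_not_dvd hM hp (trivIrr G)
    have h' : χ ∈ ({trivIrr G} : Set (IrrCharacter G)) := h ▸ hχ
    rw [Set.mem_singleton_iff] at h'
    rw [h']; rfl

end Cfsg.Agent.S4916
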