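import Cfsg.Statements.S4923
import Cfsg.Agent.Lib.InvChar.GaloisChar
import Cfsg.Agent.Lib.Characters.Ortho
import Cfsg.Agent.Lib.PGroups.Taussky
import Cfsg.Agent.Lib.Coprime.Generation
-- import your own Cfsg.Agent.* helpers here

set_option autoImplicit false
open Cfsg

namespace Cfsg.Agent.S4923

open Cfsg.Agent.Lib.BlockHeights Cfsg.Agent.Lib.InvChar Cfsg.Agent.Lib.Characters
open scoped commutatorElement

universe u

variable {G : Type u} [Group G] [Finite G]

/-- Two subfields of the cyclotomic field agree exactly when the same automorphisms fix them. -/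
theorem adjoin_eq_iff {N : ℕ} [NeZero N] (S T : Set (cycField N)) :
    IntermediateField.adjoin ℚ (Subtype.val '' S) = IntermediateField.adjoin ℚ (Subtype.val '' T) ↔
      ∀ σ : cycField N ≃ₐ[ℚ] cycField N, (∀ x ∈ S, σ x = x) ↔ (∀ x ∈ T, σ x = x) := by
  haveI := isCyclotomic_cycField N
  haveI : FiniteDimensional ℚ (cycField N) := IsCyclotomicExtension.finiteDimensional {N} ℚ _
  haveI : IsGalois ℚ (cycField N) := IsCyclotomicExtension.isGalois {N} ℚ _
  have hmap : ∀ U : Set (cycField N), IntermediateField.adjoin ℚ (Subtype.val '' U) =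
      (IntermediateField.adjoin ℚ U).map (cycField N).val := fun U =>
    (IntermediateField.adjoin_map ℚ U (cycField N).val).symm
  have hfix : ∀ (U : Set (cycField N)) (σ : cycField N ≃ₐ[ℚ] cycField N),
      σ ∈ (IntermediateField.adjoin ℚ U).fixingSubgroup ↔ ∀ x ∈ U, σ x = x := fun U σ => by
    rw [IntermediateField.mem_fixingSubgroup_iff]
    refine ⟨fun h x hx => h x (IntermediateField.subset_adjoin ℚ U hx), fun h x hx => ?_⟩
    induction hx using IntermediateField.adjoin_induction with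
    | mem x hx => exact h x hx
    | algebraMap q => exact σ.commutes q
    | add x y _ _ h1 h2 => rw [map_add, h1, h2]
    | inv x _ h1 => rw [map_inv₀, h1]
    | mul x y _ _ h1 h2 => rw [map_mul, h1, h2]
  rw [hmap, hmap]
  refine (IntermediateField.map_injective (cycField N).val).eq_iff.trans ?_
  constructor
  · intro h σ
    rw [← hfix, ← hfix, h]
  · intro h
    rw [← IsGalois.fixedField_fixingSubgroup (IntermediateField.adjoin ℚ S),
      ← IsGalois.fixedField_fixingSubgroup (IntermediateField.adjoin ℚ T)]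
    congr 1
    ext σ
    rw [hfix, hfix]
    exact h σ

/-- The field criterion in terms of conjugate powers. -/
theorem field_iff {n i : ℕ} {ζ : ℂ} (hζ : IsPrimitiveRoot ζ (2 ^ (n - 1)))
    (hn1 : 2 ^ n ∣ Nat.card G) (hn : 2 ≤ n) {c : ℂ} (hc : c = 1 ∨ c = -1) (hi : ζ ^ i = c * ζ⁻¹)
    (g : G) :
    IntermediateField.adjoin ℚ {z : ℂ | ∃ χ : IrrCharacter G, (χ : G → ℂ) g = z} =
        IntermediateField.adjoin ℚ ({ζ + c * ζ⁻¹} : Set ℂ) ↔
      ∀ k : ℕ, k.Coprime (Nat.card G) →
        (IsConj (g ^ k) g ↔ k ≡ 1 [MOD 2 ^ (n - 1)] ∨ k ≡ i [MOD 2 ^ (n - 1)]) := by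
  haveI : NeZero (Nat.card G) := ⟨Nat.card_pos.ne'⟩
  have hζN : ζ ^ Nat.card G = 1 := by
    rw [hζ.pow_eq_one_iff_dvd]
    exact (pow_dvd_pow 2 (Nat.sub_le n 1)).trans hn1
  have h2N : 2 ∣ Nat.card G := (dvd_pow_self 2 (by omega)).trans hn1
  let z : cycField (Nat.card G) := ⟨ζ, mem_cycField_of_pow_eq_one hζN⟩
  let S : Set (cycField (Nat.card G)) :=
    {w | ∃ χ : IrrCharacter G, (χ : G → ℂ) g = (w : ℂ)}
  have hzn : z ^ Nat.card G = 1 := Subtype.ext hζN
  have hzi : ((z + z ^ i : cycField (Nat.card G)) : ℂ) = ζ + c * ζ⁻¹ := by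
    show ζ + ζ ^ i = _
    rw [hi]
  have hS : {w : ℂ | ∃ χ : IrrCharacter G, (χ : G → ℂ) g = w} = Subtype.val '' S := by
    ext w
    constructor
    · rintro ⟨χ, rfl⟩
      exact ⟨⟨_, apply_mem_cycField (IsIrrCharacter.isCharacter χ.2) g⟩, ⟨χ, rfl⟩, rfl⟩
    · rintro ⟨x, ⟨χ, hχ⟩, rfl⟩
      exact ⟨χ, hχ⟩
  have hT : ({ζ + c * ζ⁻¹} : Set ℂ) = Subtype.val '' ({z + z ^ i} : Set (cycField (Nat.card G))) := by
    rw [Set.image_singleton, hzi]
  rw [hS, hT, adjoin_eq_iff]
  have key : ∀ k : ℕ, k.Coprime (Nat.card G) →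
      (z ^ k + (z ^ i) ^ k = z + z ^ i ↔ k ≡ 1 [MOD 2 ^ (n - 1)] ∨ k ≡ i [MOD 2 ^ (n - 1)]) := by
    intro k hk
    have hodd : Odd k := Nat.Coprime.odd_of_right <| by
      exact (Nat.Coprime.coprime_dvd_right h2N hk).symm.symm
    have hζ0 : ζ ≠ 0 := hζ.ne_zero (by positivity)
    have hck : c ^ k = c := by
      rcases hc with rfl | rfl
      · exact one_pow k
      · exact hodd.neg_one_pow
    have hcc : c * c = 1 := by rcases hc with rfl | rfl <;> norm_num
    rw [Subtype.ext_iff]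
    show ζ ^ k + (ζ ^ i) ^ k = ζ + ζ ^ i ↔ _
    have hmod : ∀ a b : ℕ, ζ ^ a = ζ ^ b ↔ a ≡ b [MOD 2 ^ (n - 1)] := fun a b => by
      constructor
      · intro h
        rw [← Nat.div_add_mod a (2 ^ (n - 1)), ← Nat.div_add_mod b (2 ^ (n - 1))] at h
        simp only [pow_add, pow_mul, hζ.pow_eq_one, one_pow, one_mul] at h
        exact hζ.pow_inj (Nat.mod_lt _ (by positivity)) (Nat.mod_lt _ (by positivity)) h
      · exact fun h => pow_eq_pow_of_modEq h hζ.pow_eq_one
    rw [← hmod, ← hmod, pow_one]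
    have hprod : ζ ^ k * (ζ ^ i) ^ k = c := by
      rw [hi, mul_pow, hck, inv_pow, mul_left_comm, mul_inv_cancel₀ (pow_ne_zero k hζ0), mul_one]
    have hprod' : ζ * ζ ^ i = c := by
      rw [hi, mul_left_comm, mul_inv_cancel₀ hζ0, mul_one]
    constructor
    · intro h
      have : (ζ ^ k - ζ) * (ζ ^ k - ζ ^ i) = 0 := by
        linear_combination (ζ ^ k) * h - hprod + hprod'
      rcases mul_eq_zero.1 this with h1 | h1
      · exact Or.inl (sub_eq_zero.1 h1)
      · exact Or.inr (sub_eq_zero.1 h1)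
    · rintro (h | h)
      · rw [h] at hprod
        have : (ζ ^ i) ^ k = ζ ^ i := mul_left_cancel₀ hζ0 (hprod.trans hprod'.symm)
        rw [h, this]
      · rw [h] at hprod
        have hzi0 : ζ ^ i ≠ 0 := pow_ne_zero i hζ0
        have : (ζ ^ i) ^ k = ζ := mul_left_cancel₀ hzi0 (hprod.trans (by rw [← hprod', mul_comm]))
        rw [h, this, add_comm]
  have fix : ∀ (σ : cycField (Nat.card G) ≃ₐ[ℚ] cycField (Nat.card G)) (k : ℕ),
      (∀ w : cycField (Nat.card G), w ^ Nat.card G = 1 → σ w = w ^ k) →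
      ((∀ x ∈ S, σ x = x) ↔ IsConj (g ^ k) g) ∧
        ((∀ x ∈ ({z + z ^ i} : Set (cycField (Nat.card G))), σ x = x) ↔
          z ^ k + (z ^ i) ^ k = z + z ^ i) := by
    intro σ k hσ
    refine ⟨?_, by simp [map_add, hσ z hzn, ← pow_mul, mul_comm i k]⟩
    have hval : ∀ χ : IrrCharacter G, σ ⟨(χ : G → ℂ) g, apply_mem_cycField (IsIrrCharacter.isCharacter χ.2) g⟩
        = ⟨(χ : G → ℂ) (g ^ k), apply_mem_cycField (IsIrrCharacter.isCharacter χ.2) (g ^ k)⟩ := by
      intro χ
      obtain ⟨ι, hι, μ, hμ, h⟩ := exists_eigen_sum (IsIrrCharacter.isCharacter χ.2) g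
      obtain ⟨d, hd⟩ := orderOf_dvd_natCard g
      have hμn : ∀ j, μ j ^ Nat.card G = 1 := fun j => by rw [hd, pow_mul, hμ j, one_pow]
      let ν : ι → cycField (Nat.card G) := fun j => ⟨μ j, mem_cycField_of_pow_eq_one (hμn j)⟩
      have h1 : (⟨(χ : G → ℂ) g, apply_mem_cycField (IsIrrCharacter.isCharacter χ.2) g⟩ :
          cycField (Nat.card G)) = ∑ j, ν j := by
        apply Subtype.ext
        have := h 1
        simp only [pow_one] at this
        simpa [ν] using this
      rw [h1, map_sum]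
      apply Subtype.ext
      simp only [h k]
      rw [AddSubmonoidClass.coe_finsetSum]
      refine Finset.sum_congr rfl fun j _ => ?_
      rw [hσ (ν j) (Subtype.ext (hμn j))]
      simp [ν]
    rw [isConj_iff_forall_irr]
    constructor
    · intro h χ
      have := h ⟨_, apply_mem_cycField (IsIrrCharacter.isCharacter χ.2) g⟩ ⟨χ, rfl⟩
      rw [hval χ] at this
      exact congrArg Subtype.val this
    · rintro h x ⟨χ, hχ⟩
      rw [show x = ⟨_, apply_mem_cycField (IsIrrCharacter.isCharacter χ.2) g⟩ from Subtype.ext hχ.symm,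
        hval χ]
      exact Subtype.ext (h χ)
  constructor
  · intro h k hk
    obtain ⟨σ, hσ⟩ := exists_aut_pow (n := Nat.card G) hk
    rw [← (fix σ k hσ).1, h σ, (fix σ k hσ).2, key k hk]
  · intro h σ
    obtain ⟨k, hk, hσ⟩ := exists_galExp σ
    have hσ' : ∀ w : cycField (Nat.card G), w ^ Nat.card G = 1 → σ w = w ^ k := fun w hw =>
      hσ w (by rw [← SubmonoidClass.coe_pow, hw]; rfl)
    rw [(fix σ k hσ').1, h k hk, (fix σ k hσ').2, key k hk]

theorem pow_conj_iter {c g : G} {k : ℕ} (h : c * g * c⁻¹ = g ^ k) :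
    ∀ j : ℕ, c ^ j * g * (c ^ j)⁻¹ = g ^ (k ^ j) := by
  intro j
  induction j with
  | zero => simp
  | succ j ih =>
    calc c ^ (j + 1) * g * (c ^ (j + 1))⁻¹ = c * (c ^ j * g * (c ^ j)⁻¹) * c⁻¹ := by
          rw [pow_succ']; group
      _ = (c * g * c⁻¹) ^ (k ^ j) := by rw [ih, conj_pow]
      _ = g ^ (k ^ (j + 1)) := by rw [h, ← pow_mul, pow_succ']

/-- A power automorphism of a cyclic subgroup induced in the group is induced by the Sylow subgroup. -/
theorem exists_mem_sylow_conj (P : Sylow 2 G) {g : G} {a : ℕ} (hgo : orderOf g = 2 ^ (a + 1))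
    (hnorm : (P : Subgroup G) ≤ Subgroup.normalizer ((Subgroup.zpowers g : Subgroup G) : Set G))
    {c : G} {k : ℕ} (hk : k.Coprime 2) (h : c * g * c⁻¹ = g ^ k) :
    ∃ y ∈ (P : Subgroup G), y * g * y⁻¹ = g ^ k := by
  classical
  haveI : Fact (Nat.Prime 2) := ⟨Nat.prime_two⟩
  set N := Subgroup.normalizer ((Subgroup.zpowers g : Subgroup G) : Set G) with hN
  obtain ⟨s, t, ht, hst⟩ := Nat.exists_eq_two_pow_mul_odd (orderOf_pos c).ne'
  obtain ⟨u, hu⟩ : ∃ u : ℕ, t * u ≡ 1 [MOD 2 ^ (a + 1)] := by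
    obtain ⟨u, -, hu⟩ := Nat.exists_mul_mod_eq_one_of_coprime
      (Nat.Coprime.pow_right (a + 1) (Nat.coprime_two_right.2 ht))
      (one_lt_pow₀ one_lt_two (by omega))
    exact ⟨u, by rw [Nat.ModEq, hu, Nat.one_mod_eq_one.2 (one_lt_pow₀ one_lt_two (by omega)).ne']⟩
  set y := c ^ (t * u) with hy
  have hyk : y * g * y⁻¹ = g ^ k := by
    rw [hy, pow_conj_iter h, pow_eq_pow_iff_modEq, hgo]
    have htot := Nat.ModEq.pow_totient (Nat.Coprime.pow_right (a + 1) hk)
    rw [Nat.totient_prime_pow_succ Nat.prime_two, show 2 - 1 = 1 from rfl, mul_one] at htot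
    have hle : 1 ≤ t * u := Nat.pos_of_ne_zero fun h0 => by
      rw [h0, Nat.ModEq, Nat.zero_mod, Nat.one_mod_eq_one.2 (one_lt_pow₀ one_lt_two (by omega)).ne'] at hu
      exact zero_ne_one hu
    obtain ⟨w, hw⟩ := (Nat.modEq_iff_dvd' hle).1 (hu.symm)
    rw [show t * u = 1 + 2 ^ a * (2 * w) by rw [pow_succ, mul_assoc] at hw; omega, pow_add k 1, pow_one, pow_mul]
    calc k * (k ^ 2 ^ a) ^ (2 * w) ≡ k * 1 ^ (2 * w) [MOD 2 ^ (a + 1)] := (htot.pow _).mul_left k
      _ = k := by simp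
  have hy2 : ∀ x : Subgroup.zpowers y, ∃ r : ℕ, x ^ 2 ^ r = 1 := fun x => ⟨s, by
    obtain ⟨j, hj⟩ := Subgroup.mem_zpowers_iff.1 x.2
    apply Subtype.ext
    rw [Subgroup.coe_pow, ← hj, ← zpow_natCast, ← zpow_mul, mul_comm, zpow_mul, zpow_natCast, hy, ← pow_mul,
      show t * u * 2 ^ s = 2 ^ s * t * u by ring, ← hst, pow_mul, pow_orderOf_eq_one, one_pow, one_zpow]
    rfl⟩
  have hgk : Subgroup.zpowers (g ^ k) = Subgroup.zpowers g := by
    refine le_antisymm (Subgroup.zpowers_le.2 (Subgroup.npow_mem_zpowers g k)) (Subgroup.zpowers_le.2 ?_)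
    obtain ⟨m, -, hm⟩ := Nat.exists_mul_mod_eq_one_of_coprime
      (Nat.Coprime.pow_right (a + 1) hk) (one_lt_pow₀ one_lt_two (by omega))
    have e : (g ^ k) ^ m = g := by
      rw [← pow_mul, ← pow_mod_orderOf, hgo, hm, pow_one]
    have h' := Subgroup.npow_mem_zpowers (g ^ k) m
    rwa [e] at h'
  have hyN : y ∈ N := by
    rw [hN, Subgroup.mem_normalizer_iff_map_conj_eq, MonoidHom.map_zpowers]
    show Subgroup.zpowers (y * g * y⁻¹) = _
    rw [hyk, hgk]
  have hYN : Subgroup.zpowers y ≤ N := Subgroup.zpowers_le.2 hyN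
  have hp : IsPGroup 2 ((Subgroup.zpowers y).subgroupOf N) :=
    (IsPGroup.of_equiv hy2 (Subgroup.subgroupOfEquivOfLe hYN).symm)
  obtain ⟨Q, hQ⟩ := hp.exists_le_sylow
  obtain ⟨d, hd⟩ := MulAction.exists_smul_eq N Q (P.subtype hnorm)
  have hmem : ((d : G) * y * (d : G)⁻¹) ∈ (P : Subgroup G) := by
    have h1 : d * ⟨y, hyN⟩ * d⁻¹ ∈ ((P.subtype hnorm : Sylow 2 N) : Subgroup N) := by
      rw [← hd, Sylow.coe_subgroup_smul, Subgroup.mem_pointwise_smul_iff_inv_smul_mem]
      simp only [MulAut.smul_def, MulAut.inv_def, MulAut.conj_symm_apply]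
      rw [show d⁻¹ * (d * ⟨y, hyN⟩ * d⁻¹) * d = (⟨y, hyN⟩ : N) by group]
      exact hQ (Subgroup.mem_subgroupOf.2 (Subgroup.mem_zpowers y))
    exact h1
  refine ⟨_, hmem, ?_⟩
  obtain ⟨e, he⟩ := Subgroup.mem_zpowers_iff.1
    ((Subgroup.mem_normalizer_iff.1 (inv_mem d.2) g).1 (Subgroup.mem_zpowers g))
  simp only [inv_inv] at he
  calc (d : G) * y * (d : G)⁻¹ * g * ((d : G) * y * (d : G)⁻¹)⁻¹
      = (d : G) * (y * ((d : G)⁻¹ * g * (d : G)) * y⁻¹) * (d : G)⁻¹ := by group
    _ = (d : G) * ((d : G)⁻¹ * g * (d : G)) ^ k * (d : G)⁻¹ := by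
        rw [← he, ← conj_zpow, hyk, ← zpow_natCast g k, ← zpow_mul, ← zpow_natCast (g ^ e), ← zpow_mul, mul_comm]
    _ = g ^ k := by rw [← conj_pow]; group

theorem exists_coprime_lift {n : ℕ} (P : Sylow 2 G) (hP : Nat.card P = 2 ^ n) (r : ℕ) (hr : Odd r) :
    ∃ k : ℕ, k.Coprime (Nat.card G) ∧ k ≡ r [MOD 2 ^ (n - 1)] := by
  haveI : Fact (Nat.Prime 2) := ⟨Nat.prime_two⟩
  have hm : Odd (P : Subgroup G).index := Nat.not_even_iff_odd.1 fun he => P.not_dvd_index he.two_dvd
  have hcop : Nat.Coprime (2 ^ n) (P : Subgroup G).index := (Nat.coprime_two_left.2 hm).pow_left n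
  obtain ⟨k, h1, h2⟩ := Nat.chineseRemainder hcop r 1
  refine ⟨k, ?_, h1.of_dvd (pow_dvd_pow 2 (Nat.sub_le n 1))⟩
  rw [← (P : Subgroup G).card_mul_index, hP]
  refine Nat.Coprime.mul_right ?_ ?_
  · show Nat.gcd k (2 ^ n) = 1
    rw [Nat.ModEq.gcd_eq h1]
    exact (Nat.coprime_two_right.2 hr).pow_right n
  · show Nat.gcd k _ = 1
    rw [Nat.ModEq.gcd_eq h2, Nat.gcd_one_left]

theorem comm_of_central_index_two {Q : Type*} [Group Q] {g : Q} (hidx : (Subgroup.zpowers g).index = 2)
    (hc : ∀ x, x * g = g * x) : ∀ x y : Q, x * y = y * x := by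
  intro x y
  have hz : ∀ z ∈ Subgroup.zpowers g, ∀ x, Commute x z := fun z hz x => by
    obtain ⟨j, rfl⟩ := Subgroup.mem_zpowers_iff.1 hz
    exact Commute.zpow_right (hc x) j
  by_cases hx : x ∈ Subgroup.zpowers g
  · exact (hz x hx y).symm.eq
  by_cases hy : y ∈ Subgroup.zpowers g
  · exact (hz y hy x).eq
  have h : x⁻¹ * y ∈ Subgroup.zpowers g :=
    (Subgroup.mul_mem_iff_of_index_two hidx).2 (iff_of_false (fun h => hx (inv_mem_iff.1 h)) hy)
  have := ((hz _ h x).eq)
  calc x * y = x * (x * (x⁻¹ * y)) := by group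
    _ = x * ((x⁻¹ * y) * x) := by rw [this]
    _ = y * x := by group

theorem comm_of_odd_index (P : Sylow 2 G) {g : G} (hgP : g ∈ (P : Subgroup G))
    (hidx : 2 * orderOf g = Nat.card P)
    (hodd : ¬ 2 ∣ (Subgroup.centralizer ({g} : Set G)).index) :
    ∀ x y : (P : Subgroup G), x * y = y * x := by
  haveI : Fact (Nat.Prime 2) := ⟨Nat.prime_two⟩
  set C := Subgroup.centralizer ({g} : Set G) with hC
  obtain ⟨Q⟩ : Nonempty (Sylow 2 C) := inferInstance
  set H : Subgroup G := (Q : Subgroup C).map C.subtype with hH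
  have hHC : H ≤ C := Subgroup.map_subtype_le _
  have hHp : IsPGroup 2 H := Q.2.map _
  have hHidx : ¬ 2 ∣ H.index := by
    rw [hH, Subgroup.index_map_subtype]
    exact Nat.Prime.not_dvd_mul Nat.prime_two Q.not_dvd_index hodd
  set S : Sylow 2 G := hHp.toSylow hHidx with hS
  have hgS : g ∈ (S : Subgroup G) := by
    have hgp : IsPGroup 2 (Subgroup.zpowers g) := P.2.to_le (Subgroup.zpowers_le.2 hgP)
    have hcomm : H ≤ Subgroup.normalizer ((Subgroup.zpowers g : Subgroup G) : Set G) := fun x hx => by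
      refine Subgroup.centralizer_le_normalizer _ ?_
      rw [Subgroup.mem_centralizer_iff]
      intro z hz
      obtain ⟨j, rfl⟩ := Subgroup.mem_zpowers_iff.1 hz
      exact (Commute.zpow_left (Subgroup.mem_centralizer_singleton_iff.1 (hHC hx)).symm j).eq
    have hsup : IsPGroup 2 (H ⊔ Subgroup.zpowers g : Subgroup G) :=
      hHp.to_sup_of_normal_right' hgp hcomm
    have := S.3 hsup (show (S : Subgroup G) ≤ _ from le_sup_left)
    exact (SetLike.ext_iff.1 this g).1 (Subgroup.mem_sup_right (Subgroup.mem_zpowers g))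
  have hcard : Nat.card S = Nat.card P := S.card_eq_multiplicity.trans P.card_eq_multiplicity.symm
  have hidx' : (Subgroup.zpowers (⟨g, hgS⟩ : (S : Subgroup G))).index = 2 := by
    refine Nat.eq_of_mul_eq_mul_left (orderOf_pos g) ?_
    rw [← Subgroup.orderOf_mk g hgS, ← Nat.card_zpowers, Subgroup.card_mul_index, Nat.card_zpowers,
      Subgroup.orderOf_mk, mul_comm _ 2, hidx, ← hcard]
  have hS' := comm_of_central_index_two hidx' fun x =>
    Subtype.ext (Subgroup.mem_centralizer_singleton_iff.1 (hHC x.2))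
  intro x y
  exact (Sylow.equiv P S).injective (by rw [map_mul, map_mul, hS'])

theorem two_dvd_index_of_not_comm (P : Sylow 2 G) {g : G}
    (hdvd : 2 ∣ (Subgroup.centralizer ({g} : Set G)).index) (hgP : g ∈ (P : Subgroup G))
    (hP : ∀ x y : (P : Subgroup G), x * y = y * x) : False := by
  haveI : Fact (Nat.Prime 2) := ⟨Nat.prime_two⟩
  refine P.not_dvd_index (hdvd.trans (Subgroup.index_dvd_of_le fun x hx => ?_))
  exact Subgroup.mem_centralizer_singleton_iff.2 (congrArg Subtype.val (hP ⟨x, hx⟩ ⟨g, hgP⟩))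

theorem commutator_eq_bot {Q : Type*} [Group Q] (h : ∀ x y : Q, x * y = y * x) : commutator Q = ⊥ := by
  rw [eq_bot_iff, commutator_def, Subgroup.commutator_le]
  intro a _ b _
  rw [Subgroup.mem_bot, commutatorElement_eq_one_iff_mul_comm]
  exact h a b

theorem sq_mem_commutator {Q : Type*} [Group Q] [Finite Q] (hQ : IsPGroup 2 Q) (h8 : 8 ≤ Nat.card Q)
    (hidx : (commutator Q).index = 4) : ∀ x : Q, x ^ 2 ∈ commutator Q := by
  haveI : Fact (Nat.Prime 2) := ⟨Nat.prime_two⟩
  intro x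
  rw [← QuotientGroup.eq_one_iff, QuotientGroup.mk_pow]
  have hd : orderOf (x : Q ⧸ commutator Q) ∣ 2 ^ 2 := by
    rw [show (2 : ℕ) ^ 2 = (commutator Q).index by rw [hidx]; rfl, Subgroup.index]
    exact orderOf_dvd_natCard _
  obtain ⟨j, hj, hjo⟩ := (Nat.dvd_prime_pow Nat.prime_two).1 hd
  by_cases h2 : j = 2
  · exfalso
    subst h2
    have htop : Subgroup.zpowers (x : Q ⧸ commutator Q) = ⊤ :=
      Subgroup.eq_top_of_card_eq _ (by rw [Nat.card_zpowers, hjo, ← Subgroup.index, hidx]; rfl)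
    have hgen : commutator Q ⊔ Subgroup.zpowers x = ⊤ := by
      refine eq_top_iff.2 fun y _ => ?_
      obtain ⟨i, hi⟩ := Subgroup.mem_zpowers_iff.1 (htop.ge (Subgroup.mem_top (y : Q ⧸ commutator Q)))
      have h := Subgroup.mul_mem_sup ((inferInstance : (commutator Q).Normal).conj_mem _
        (QuotientGroup.eq.mp (hi : ((x ^ i : Q) : Q ⧸ commutator Q) = y)) (x ^ i))
        (Subgroup.zpow_mem _ (Subgroup.mem_zpowers x) i)
      have e : x ^ i * ((x ^ i)⁻¹ * y) * (x ^ i)⁻¹ * x ^ i = y := by group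
      rwa [e] at h
    have hKt : Subgroup.zpowers x = ⊤ := frattini_nongenerating (top_le_iff.mp (hgen ▸ sup_le
      (le_sup_of_le_right (Cfsg.Agent.Lib.Coprime.commutator_le_frattini_of_isPGroup hQ)) le_sup_left))
    have hc : commutator Q = ⊥ := commutator_eq_bot fun a b => by
      obtain ⟨i, rfl⟩ := Subgroup.mem_zpowers_iff.1 (hKt.ge (Subgroup.mem_top a))
      obtain ⟨l, rfl⟩ := Subgroup.mem_zpowers_iff.1 (hKt.ge (Subgroup.mem_top b))
      exact (Commute.zpow_zpow (Commute.refl x) i l).eq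
    rw [hc, Subgroup.index_bot] at hidx
    omega
  · refine orderOf_dvd_iff_pow_eq_one.1 ?_
    rw [hjo]
    exact pow_dvd_pow 2 (show j ≤ 1 by omega)

/-- The action of a maximal cyclic subgroup's normaliser inside the Sylow subgroup. -/
theorem act_cases {Q : Type*} [Group Q] {a b : Q} {i : ℕ} (hidx : (Subgroup.zpowers a).index = 2)
    (hb : b ∉ Subgroup.zpowers a) (hab : b * a * b⁻¹ = a ^ i) (x : Q) :
    x * a * x⁻¹ = a ∨ x * a * x⁻¹ = a ^ i := by
  by_cases hx : x ∈ Subgroup.zpowers a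
  · left
    obtain ⟨j, rfl⟩ := Subgroup.mem_zpowers_iff.1 hx
    rw [(Commute.zpow_left (Commute.refl a) j).eq, mul_inv_cancel_right]
  · right
    have h : b⁻¹ * x ∈ Subgroup.zpowers a :=
      (Subgroup.mul_mem_iff_of_index_two hidx).2 (iff_of_false (fun h => hb (inv_mem_iff.1 h)) hx)
    obtain ⟨j, hj⟩ := Subgroup.mem_zpowers_iff.1 h
    calc x * a * x⁻¹ = b * ((b⁻¹ * x) * a * (b⁻¹ * x)⁻¹) * b⁻¹ := by group
      _ = a ^ i := by rw [← hj, (Commute.zpow_left (Commute.refl a) j).eq, mul_inv_cancel_right, hab]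

/-- The structure forced by commutator index four. -/
theorem exists_rot_refl {Q : Type*} [Group Q] [Finite Q] (n : ℕ) (hn : 3 ≤ n) (hcard : Nat.card Q = 2 ^ n)
    (hidx : (commutator Q).index = 4) :
    ∃ a b : Q, orderOf a = 2 ^ (n - 1) ∧ b ∉ Subgroup.zpowers a ∧
      (b * a * b⁻¹ = a ^ (2 ^ (n - 1) - 1) ∨ b * a * b⁻¹ = a ^ (2 ^ (n - 2) - 1)) := by
  have h8 : 8 ≤ Nat.card Q := by
    rw [hcard]; calc 8 = 2 ^ 3 := by norm_num
      _ ≤ _ := Nat.pow_le_pow_right (by norm_num) hn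
  have hQ : IsPGroup 2 Q := IsPGroup.of_card hcard
  have hinv : ∀ (a b : Q), orderOf a = 2 ^ (n - 1) → b * a * b⁻¹ = a⁻¹ →
      b * a * b⁻¹ = a ^ (2 ^ (n - 1) - 1) := fun a b ha h => by
    rw [h]
    refine inv_eq_of_mul_eq_one_right ?_
    rw [← pow_succ', Nat.sub_add_cancel Nat.one_le_two_pow, ← ha, pow_orderOf_eq_one]
  rcases Cfsg.Agent.Lib.PGroups.taussky hQ h8 hidx (sq_mem_commutator hQ h8 hidx) with
    ⟨k, ⟨e⟩⟩ | ⟨k, hk, a, b, ha, hb, hab⟩ | ⟨k, ⟨e⟩⟩
  · have hk : k + 3 = n := by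
      have := hcard
      rw [Nat.card_congr e.toEquiv, DihedralGroup.nat_card, ← pow_succ'] at this
      exact Nat.pow_right_injective le_rfl this
    have hn1 : k + 2 = n - 1 := by omega
    have ha : orderOf (e.symm (DihedralGroup.r 1)) = 2 ^ (n - 1) := by
      rw [MulEquiv.orderOf_eq, DihedralGroup.orderOf_r_one, hn1]
    refine ⟨_, e.symm (DihedralGroup.sr 0), ha, fun h => ?_, Or.inl (hinv _ _ ha ?_)⟩
    · obtain ⟨j, hj⟩ := Subgroup.mem_zpowers_iff.1 h
      have := congrArg e hj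
      rw [map_zpow, e.apply_symm_apply, e.apply_symm_apply, DihedralGroup.r_one_zpow] at this
      exact nomatch this
    · apply e.injective
      simp
  · have hk' : k + 4 = n := Nat.pow_right_injective le_rfl (hk.symm.trans hcard)
    refine ⟨a, b, by rw [ha]; congr 1; omega, fun h => ?_, Or.inr (by rw [hab]; congr 3; omega)⟩
    obtain ⟨j, rfl⟩ := Subgroup.mem_zpowers_iff.1 h
    rw [(Commute.zpow_left (Commute.refl a) j).eq, mul_inv_cancel_right] at hab
    have h1 : a ^ 1 = a ^ (2 ^ (k + 2) - 1) := by rw [pow_one]; exact hab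
    have h4 : 4 ≤ 2 ^ (k + 2) := by
      calc 4 = 2 ^ 2 := rfl
        _ ≤ _ := Nat.pow_le_pow_right (by norm_num) (by omega)
    rw [pow_eq_pow_iff_modEq, ha, Nat.ModEq, Nat.mod_eq_of_lt (Nat.one_lt_two_pow (by omega)),
      Nat.mod_eq_of_lt (lt_of_le_of_lt (Nat.sub_le _ _) (Nat.pow_lt_pow_right (by norm_num) (by omega)))] at h1
    omega
  · have hk : k + 3 = n := by
      have := hcard
      rw [Nat.card_congr e.toEquiv, Nat.card_eq_fintype_card, QuaternionGroup.card,
        show 4 * 2 ^ (k + 1) = 2 ^ (k + 3) by ring] at this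
      exact Nat.pow_right_injective le_rfl this
    have ha : orderOf (e.symm (QuaternionGroup.a 1)) = 2 ^ (n - 1) := by
      rw [MulEquiv.orderOf_eq, QuaternionGroup.orderOf_a_one, show n - 1 = k + 1 + 1 by omega, pow_succ' 2 (k + 1)]
    refine ⟨_, e.symm (QuaternionGroup.xa 0), ha, fun h => ?_, Or.inl (hinv _ _ ha ?_)⟩
    · obtain ⟨j, hj⟩ := mem_powers_iff_mem_zpowers.2 h
      have := congrArg e hj
      simp only [map_pow, e.apply_symm_apply, QuaternionGroup.a_one_pow] at this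
      exact nomatch this
    · rw [mul_inv_eq_iff_eq_mul]
      apply e.injective
      rw [map_mul, map_mul, map_inv, e.apply_symm_apply, e.apply_symm_apply]
      show _ = QuaternionGroup.a (-1) * _
      simp

theorem le_normalizer_zpowers {H : Subgroup G} {A : Subgroup H} [A.Normal] {g : G}
    (e : Subgroup.zpowers g = A.map H.subtype) :
    H ≤ Subgroup.normalizer ((Subgroup.zpowers g : Subgroup G) : Set G) := by
  rw [e]
  refine le_trans ?_ (Subgroup.le_normalizer_map H.subtype)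
  rw [Subgroup.normalizer_eq_top, ← MonoidHom.range_eq_map, Subgroup.range_subtype]

/-- Let G be a finite group with Sylow 2-subgroup P of order 2^n ≥ 8, and let ζ be a primitive 2^(n−1)-th root of unity in ℂ. Then the commutator subgroup of P has index 4 in P if and only if there is an element g of P whose conjugacy class in G has even size and such that the field generated over ℚ by the values at g of all irreducible complex characters of G equals ℚ(ζ + ζ⁻¹) or ℚ(ζ − ζ⁻¹). -/
theorem result {G : Type*} [Group G] [Finite G] (P : Sylow 2 G) (n : ℕ) (hn : 3 ≤ n) (hP : Nat.card P = 2 ^ n) (ζ : ℂ) (hζ : IsPrimitiveRoot ζ (2 ^ (n - 1))) :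
    (commutator ↥P).index = 4 ↔
      ∃ g : G, g ∈ (P : Subgroup G) ∧ 2 ∣ (Subgroup.centralizer ({g} : Set G)).index ∧
        (IntermediateField.adjoin ℚ {z : ℂ | ∃ χ : Cfsg.IrrCharacter G, (χ : G → ℂ) g = z} = IntermediateField.adjoin ℚ ({ζ + ζ⁻¹} : Set ℂ) ∨
          IntermediateField.adjoin ℚ {z : ℂ | ∃ χ : Cfsg.IrrCharacter G, (χ : G → ℂ) g = z} = IntermediateField.adjoin ℚ ({ζ - ζ⁻¹} : Set ℂ)) := by
  haveI : Fact (Nat.Prime 2) := ⟨Nat.prime_two⟩
  have hn1 : 2 ^ n ∣ Nat.card G := hP ▸ (P : Subgroup G).card_subgroup_dvd_card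
  have h4 : 4 ≤ 2 ^ (n - 1) := by
    calc 4 = 2 ^ 2 := rfl
      _ ≤ _ := Nat.pow_le_pow_right (by norm_num) (by omega)
  have h2 : 2 ≤ 2 ^ (n - 2) := le_self_pow (by norm_num) (by omega)
  have hdbl : 2 ^ (n - 1) = 2 * 2 ^ (n - 2) := by rw [← pow_succ']; congr 1; omega
  have hζ0 : ζ ≠ 0 := hζ.ne_zero (by positivity)
  have hinvz : ζ ^ (2 ^ (n - 1) - 1) = 1 * ζ⁻¹ := by
    rw [one_mul]
    refine eq_inv_of_mul_eq_one_left ?_
    rw [← pow_succ, Nat.sub_add_cancel (by omega), hζ.pow_eq_one]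
  have hnegz : ζ ^ (2 ^ (n - 2) - 1) = -1 * ζ⁻¹ := by
    have hh : ζ ^ 2 ^ (n - 2) = -1 :=
      (hζ.pow (by positivity) (show 2 ^ (n - 1) = 2 ^ (n - 2) * 2 by omega)).eq_neg_one_of_two_right
    rw [eq_mul_inv_iff_mul_eq₀ hζ0, ← pow_succ, Nat.sub_add_cancel (by omega), hh]
  have hpos := field_iff hζ hn1 (by omega) (Or.inl rfl) hinvz
  have hneg := field_iff hζ hn1 (by omega) (Or.inr rfl) hnegz
  have hfield : ∀ g : G,
      ((IntermediateField.adjoin ℚ {z : ℂ | ∃ χ : Cfsg.IrrCharacter G, (χ : G → ℂ) g = z} = IntermediateField.adjoin ℚ ({ζ + ζ⁻¹} : Set ℂ) ∨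
        IntermediateField.adjoin ℚ {z : ℂ | ∃ χ : Cfsg.IrrCharacter G, (χ : G → ℂ) g = z} = IntermediateField.adjoin ℚ ({ζ - ζ⁻¹} : Set ℂ)) ↔
      ∃ i : ℕ, (i = 2 ^ (n - 1) - 1 ∨ i = 2 ^ (n - 2) - 1) ∧ ∀ k : ℕ, k.Coprime (Nat.card G) →
        (IsConj (g ^ k) g ↔ k ≡ 1 [MOD 2 ^ (n - 1)] ∨ k ≡ i [MOD 2 ^ (n - 1)])) := by
    intro g
    have e1 : ζ + 1 * ζ⁻¹ = ζ + ζ⁻¹ := by rw [one_mul]
    have e2 : ζ + -1 * ζ⁻¹ = ζ - ζ⁻¹ := by ring
    constructor
    · rintro (h | h)
      · exact ⟨_, Or.inl rfl, (hpos g).1 (by rw [e1]; exact h)⟩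
      · exact ⟨_, Or.inr rfl, (hneg g).1 (by rw [e2]; exact h)⟩
    · rintro ⟨i, rfl | rfl, h⟩
      · exact Or.inl (by rw [← e1]; exact (hpos g).2 h)
      · exact Or.inr (by rw [← e2]; exact (hneg g).2 h)
  have hiodd : ∀ i, i = 2 ^ (n - 1) - 1 ∨ i = 2 ^ (n - 2) - 1 → Odd i := by
    have e2 : 2 ∣ 2 ^ (n - 2) := dvd_pow_self 2 (by omega)
    rintro i (rfl | rfl) <;> rw [Nat.odd_iff] <;> omega
  have hcardP : Nat.card (P : Subgroup G) = 2 ^ n := hP
  constructor
  · intro hidx
    change (commutator (P : Subgroup G)).index = 4 at hidx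
    obtain ⟨a, b, ha, hb, hab⟩ := exists_rot_refl n hn hcardP hidx
    obtain ⟨i, hi, hab⟩ : ∃ i, (i = 2 ^ (n - 1) - 1 ∨ i = 2 ^ (n - 2) - 1) ∧ b * a * b⁻¹ = a ^ i := by
      rcases hab with h | h
      · exact ⟨_, Or.inl rfl, h⟩
      · exact ⟨_, Or.inr rfl, h⟩
    have hao : orderOf (a : G) = 2 ^ (n - 1) := by rw [Subgroup.orderOf_coe, ha]
    have h2a : 2 * orderOf (a : G) = Nat.card P := by
      rw [hao, hP, ← pow_succ']; congr 1; omega
    have hidxA : (Subgroup.zpowers a).index = 2 := by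
      refine Nat.eq_of_mul_eq_mul_left (orderOf_pos a) ?_
      rw [← Nat.card_zpowers, Subgroup.card_mul_index, Nat.card_zpowers, ← Subgroup.orderOf_coe, mul_comm _ 2]
      exact h2a.symm
    refine ⟨a, a.2, ?_, (hfield _).2 ⟨i, hi, fun k hk => ?_⟩⟩
    · by_contra h
      have := commutator_eq_bot (comm_of_odd_index P a.2 h2a h)
      rw [this, Subgroup.index_bot, hcardP] at hidx
      have : 8 ≤ 2 ^ n := le_trans (by norm_num) (Nat.pow_le_pow_right (by norm_num) hn)
      omega
    · constructor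
      · intro hc
        obtain ⟨c, hc⟩ := isConj_iff.1 hc.symm
        have hk2 : k.Coprime 2 := Nat.Coprime.coprime_dvd_right
          ((dvd_pow_self 2 (by omega)).trans hn1) hk
        have hnorm : (P : Subgroup G) ≤ Subgroup.normalizer ((Subgroup.zpowers (a : G) : Subgroup G) : Set G) := by
          haveI := Subgroup.normal_of_index_eq_two hidxA
          have e : Subgroup.zpowers (a : G) = (Subgroup.zpowers a).map (P : Subgroup G).subtype := by
            rw [MonoidHom.map_zpowers]; rfl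
          exact le_normalizer_zpowers e
        obtain ⟨y, hy, hya⟩ := exists_mem_sylow_conj P (a := n - 2)
          (by rw [hao]; congr 1; omega) hnorm hk2 hc
        rcases act_cases hidxA hb hab ⟨y, hy⟩ with h | h
        · have h' : y * (a : G) * y⁻¹ = (a : G) ^ 1 := by rw [pow_one]; exact congrArg Subtype.val h
          rw [hya, pow_eq_pow_iff_modEq, hao] at h'
          exact Or.inl h'
        · have h' : y * (a : G) * y⁻¹ = (a : G) ^ i := congrArg Subtype.val h
          rw [hya, pow_eq_pow_iff_modEq, hao] at h'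
          exact Or.inr h'
      · rintro (h | h)
        · rw [← hao, ← pow_eq_pow_iff_modEq, pow_one] at h
          rw [h]
        · rw [← hao, ← pow_eq_pow_iff_modEq] at h
          rw [h]
          exact (isConj_iff.2 ⟨(b : G), by simpa using congrArg Subtype.val hab⟩).symm
  · rintro ⟨g, hgP, hdvd, hf⟩
    obtain ⟨i, hi, hC⟩ := (hfield g).1 hf
    have hnc : ¬ ∀ x y : (P : Subgroup G), x * y = y * x := two_dvd_index_of_not_comm P hdvd hgP
    have hP2 : IsPGroup 2 (P : Subgroup G) := P.2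
    by_cases hn3 : n = 3
    · subst hn3
      obtain ⟨k, hk⟩ := IsPGroup.iff_card.1 (hP2.to_subgroup (Subgroup.center (P : Subgroup G)))
      have hz : Subgroup.center (P : Subgroup G) ≠ ⊤ := fun h => hnc fun x y =>
        (Subgroup.mem_center_iff.1 (h ▸ Subgroup.mem_top y) x)
      haveI : Nontrivial (P : Subgroup G) := Finite.one_lt_card_iff_nontrivial.1 (by rw [hcardP]; norm_num)
      have hzb : Nat.card (Subgroup.center (P : Subgroup G)) ≠ 1 := fun h => by
        haveI := hP2.center_nontrivial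
        exact absurd h Finite.one_lt_card.ne'
      have hmul := (Subgroup.center (P : Subgroup G)).card_mul_index
      rw [hk, hcardP] at hmul
      have hk1 : k = 1 := by
        have hkle : k ≤ 3 := (Nat.pow_dvd_pow_iff_le_right (by norm_num)).1 (hmul ▸ dvd_mul_right _ _)
        interval_cases k
        · exact absurd hk hzb
        · rfl
        · exfalso
          have hidx2 : (Subgroup.center (P : Subgroup G)).index = 2 := by omega
          haveI : IsCyclic ((P : Subgroup G) ⧸ Subgroup.center (P : Subgroup G)) :=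
            isCyclic_of_prime_card (p := 2) (by rw [← Subgroup.index]; exact hidx2)
          exact hnc (commutative_of_cyclic_center_quotient (QuotientGroup.mk' _)
            (le_of_eq (QuotientGroup.ker_mk' _)))
        · exact absurd (Subgroup.eq_top_of_card_eq _ (hk.trans hcardP.symm)) hz
      subst hk1
      have hQcomm : ∀ x y : (P : Subgroup G) ⧸ Subgroup.center (P : Subgroup G), x * y = y * x :=
        IsPGroup.commutative_of_card_eq_prime_sq (p := 2) (by rw [← Subgroup.index]; omega)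
      have hle : commutator (P : Subgroup G) ≤ Subgroup.center (P : Subgroup G) := by
        rw [commutator_def, Subgroup.commutator_le]
        intro x _ y _
        rw [← QuotientGroup.eq_one_iff, ← QuotientGroup.mk'_apply, map_commutatorElement,
          commutatorElement_eq_one_iff_mul_comm]
        exact hQcomm _ _
      have hd := Subgroup.card_dvd_of_le hle
      rw [hk, pow_one] at hd
      have hm := (commutator (P : Subgroup G)).card_mul_index
      rw [hcardP] at hm
      rcases (Nat.dvd_prime Nat.prime_two).1 hd with h1 | h1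
      · exfalso
        refine hnc fun x y => ?_
        have := Subgroup.card_eq_one.1 h1
        rw [eq_bot_iff, commutator_def, Subgroup.commutator_le] at this
        exact commutatorElement_eq_one_iff_mul_comm.1 (Subgroup.mem_bot.1 (this x trivial y trivial))
      · rw [h1] at hm
        show (commutator (P : Subgroup G)).index = 4
        omega
    · have hn4 : 4 ≤ n := by omega
      obtain ⟨e, he⟩ := (IsPGroup.iff_orderOf.1 hP2) ⟨g, hgP⟩
      rw [Subgroup.orderOf_mk] at he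
      have hle : e ≤ n - 1 := by
        by_contra h
        have hd : orderOf g ∣ Nat.card (P : Subgroup G) := by
          rw [← Subgroup.orderOf_mk g hgP]; exact orderOf_dvd_natCard _
        rw [he, hcardP] at hd
        have := (Nat.pow_dvd_pow_iff_le_right (by norm_num)).1 hd
        refine hnc fun x y => ?_
        have htop : Subgroup.zpowers (⟨g, hgP⟩ : (P : Subgroup G)) = ⊤ := Subgroup.eq_top_of_card_eq _ (by
          rw [Nat.card_zpowers, Subgroup.orderOf_mk, he, hcardP]; congr 1; omega)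
        obtain ⟨i, rfl⟩ := Subgroup.mem_zpowers_iff.1 (htop.ge (Subgroup.mem_top x))
        obtain ⟨l, rfl⟩ := Subgroup.mem_zpowers_iff.1 (htop.ge (Subgroup.mem_top y))
        exact (Commute.zpow_zpow (Commute.refl _) i l).eq
      have h4d : 4 ∣ 2 ^ (n - 2) := pow_dvd_pow 2 (show 2 ≤ n - 2 by omega)
      have he1 : e = n - 1 := by
        by_contra hne
        obtain ⟨k, hk, hkmod⟩ := exists_coprime_lift P hP (1 + 2 ^ (n - 2)) (Nat.odd_iff.2 (by omega))
        have hkg : g ^ k = g := by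
          conv_rhs => rw [← pow_one g]
          rw [pow_eq_pow_iff_modEq, he]
          refine (hkmod.of_dvd (pow_dvd_pow 2 (by omega))).trans ?_
          exact (Nat.modEq_of_dvd' (by omega) (by simp; exact pow_dvd_pow 2 (by omega))).symm
        rcases (hC k hk).1 (by rw [hkg]) with h | h
        · have h' := hkmod.symm.trans h
          rw [Nat.ModEq, Nat.mod_eq_of_lt (by omega), Nat.mod_eq_of_lt (by omega)] at h'
          omega
        · have h' := hkmod.symm.trans h
          rw [Nat.ModEq, Nat.mod_eq_of_lt (by omega), Nat.mod_eq_of_lt (by rcases hi with rfl | rfl <;> omega)] at h'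
          rcases hi with rfl | rfl <;> omega
      subst he1
      obtain ⟨k, hk, hkmod⟩ := exists_coprime_lift P hP i (hiodd i hi)
      obtain ⟨c, hc⟩ := isConj_iff.1 ((hC k hk).2 (Or.inr hkmod)).symm
      have h2g : 2 * orderOf g = Nat.card P := by rw [he, hP, ← pow_succ']; congr 1; omega
      set a : (P : Subgroup G) := ⟨g, hgP⟩ with hadef
      have hao : orderOf a = 2 ^ (n - 1) := by rw [hadef, Subgroup.orderOf_mk, he]
      have hidxA : (Subgroup.zpowers a).index = 2 := by
        refine Nat.eq_of_mul_eq_mul_left (orderOf_pos a) ?_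
        rw [← Nat.card_zpowers, Subgroup.card_mul_index, Nat.card_zpowers, hadef, Subgroup.orderOf_mk, mul_comm _ 2]
        exact h2g.symm
      have hk2 : k.Coprime 2 := Nat.Coprime.coprime_dvd_right ((dvd_pow_self 2 (by omega)).trans hn1) hk
      have hnorm : (P : Subgroup G) ≤ Subgroup.normalizer ((Subgroup.zpowers g : Subgroup G) : Set G) := by
        haveI := Subgroup.normal_of_index_eq_two hidxA
        have e : Subgroup.zpowers g = (Subgroup.zpowers a).map (P : Subgroup G).subtype := by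
          rw [MonoidHom.map_zpowers]; rfl
        exact le_normalizer_zpowers e
      obtain ⟨y, hy, hya⟩ := exists_mem_sylow_conj P (a := n - 2)
        (by rw [he]; congr 1; omega) hnorm hk2 hc
      set b : (P : Subgroup G) := ⟨y, hy⟩ with hbdef
      have hab : b * a * b⁻¹ = a ^ i := by
        refine Subtype.ext ?_
        show y * g * y⁻¹ = g ^ i
        rw [hya, pow_eq_pow_iff_modEq, he]
        exact hkmod
      have hipos : 1 ≤ i := (hiodd i hi).pos
      have hb : b ∉ Subgroup.zpowers a := fun h => by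
        obtain ⟨j, hj⟩ := Subgroup.mem_zpowers_iff.1 h
        rw [← hj, (Commute.zpow_left (Commute.refl a) j).eq, mul_inv_cancel_right] at hab
        have h1 : a ^ 1 = a ^ i := by rw [pow_one]; exact hab
        rw [pow_eq_pow_iff_modEq, hao, Nat.ModEq, Nat.mod_eq_of_lt (by omega),
          Nat.mod_eq_of_lt (by rcases hi with rfl | rfl <;> omega)] at h1
        rcases hi with rfl | rfl <;> omega
      have hcomm : b * a * b⁻¹ * a⁻¹ = a ^ (i - 1) := by
        rw [hab, mul_inv_eq_iff_eq_mul, ← pow_succ, Nat.sub_add_cancel hipos]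
      have hle2 := Cfsg.Agent.Lib.PGroups.commutator_le_zpowers_of_index_two hidxA (Subgroup.mem_zpowers a)
        le_sup_left hb
      rw [hcomm] at hle2
      have hge : Subgroup.zpowers (a ^ (i - 1)) ≤ commutator (P : Subgroup G) := by
        rw [Subgroup.zpowers_le, ← hcomm, ← commutatorElement_def]
        exact Subgroup.commutator_mem_commutator trivial trivial
      obtain ⟨u, hu, huodd⟩ : ∃ u, i - 1 = 2 * u ∧ Odd u := by
        refine ⟨(i - 1) / 2, ?_, Nat.odd_iff.2 ?_⟩ <;> rcases hi with rfl | rfl <;> omega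
      have hord : orderOf (a ^ (i - 1)) = 2 ^ (n - 2) := by
        have hg2 : Nat.gcd (2 ^ (n - 1)) (2 * u) = 2 := by
          rw [hdbl, Nat.gcd_mul_left, (Nat.coprime_two_left.2 huodd).pow_left _, mul_one]
        rw [orderOf_pow, hao, hu, hg2, hdbl, Nat.mul_div_cancel_left _ two_pos]
      have heq := le_antisymm hle2 hge
      have hm := (commutator (P : Subgroup G)).card_mul_index
      rw [heq, Nat.card_zpowers, hord, hcardP, show n = n - 2 + 2 by omega, pow_add] at hm
      show (commutator (P : Subgroup G)).index = 4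
      rw [heq]
      refine Nat.eq_of_mul_eq_mul_left (Nat.two_pow_pos (n - 2)) ?_
      simpa using hm

end Cfsg.Agent.S4923
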