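import Cfsg.Statements.S4931
import Cfsg.Agent.Lib.Characters.PPrimeDegree
import Cfsg.Agent.Lib.Characters.Induced
import Cfsg.Agent.Lib.Transfer.Tate
import Cfsg.Agent.Lib.Transfer.PFrattini
import Cfsg.Agent.Lib.Transfer.Focal

set_option autoImplicit false
open Cfsg

namespace Cfsg.Agent.S4931

open scoped IsMulCommutative
open Cfsg.Agent.Lib.Characters Cfsg.Agent.Lib.Transfer

variable {G : Type*} [Group G] [Finite G] {p : ℕ} [hp : Fact p.Prime]

/-- A Sylow subgroup that is self-normalising in a normal subgroup `M` and has abelian image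
modulo `K`, with `K ∩ P ≤ P'`, yields a normal complement of its normaliser. -/
theorem exists_normal_complement (P : Sylow p G) (M K : Subgroup G) [M.Normal] [K.Normal]
    (hPM : (P : Subgroup G) ≤ M)
    (hMN : M ⊓ Subgroup.normalizer ((P : Subgroup G) : Set G) ≤ (P : Subgroup G))
    (hKP : K ⊓ (P : Subgroup G) ≤ ⁅(P : Subgroup G), (P : Subgroup G)⁆)
    (hPK : ⁅(P : Subgroup G), (P : Subgroup G)⁆ ≤ K) :
    ∃ L : Subgroup G, L.Normal ∧ L ⊔ Subgroup.normalizer ((P : Subgroup G) : Set G) = ⊤ ∧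
      L ⊓ Subgroup.normalizer ((P : Subgroup G) : Set G) = ⊥ := by
  classical
  set Q : Sylow p M := P.subtype hPM with hQ
  have hQmem : ∀ x : M, x ∈ (Q : Subgroup M) ↔ (x : G) ∈ (P : Subgroup G) := fun x => Iff.rfl
  set K' : Subgroup M := K.subgroupOf M with hK'
  set π : M →* M ⧸ K' := QuotientGroup.mk' K' with hπ
  set Qb : Sylow p (M ⧸ K') := Q.mapSurjective (QuotientGroup.mk'_surjective K') with hQb
  have hQbc : ((Qb : Subgroup (M ⧸ K'))) = (Q : Subgroup M).map π := rfl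
  have hQbab : IsMulCommutative (Qb : Subgroup (M ⧸ K')) := by
    refine ⟨⟨fun a b => Subtype.ext ?_⟩⟩
    obtain ⟨x, hx, hxa⟩ := Subgroup.mem_map.mp (show (a : M ⧸ K') ∈ (Q : Subgroup M).map π from a.2)
    obtain ⟨y, hy, hyb⟩ := Subgroup.mem_map.mp (show (b : M ⧸ K') ∈ (Q : Subgroup M).map π from b.2)
    show (a : M ⧸ K') * b = b * a
    rw [← hxa, ← hyb, ← map_mul, ← map_mul]
    show (QuotientGroup.mk (x * y) : M ⧸ K') = QuotientGroup.mk (y * x)
    refine (QuotientGroup.eq.mpr ?_)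
    show (x * y)⁻¹ * (y * x) ∈ K'
    rw [hK', Subgroup.mem_subgroupOf]
    have h1 := hPK (Subgroup.commutator_mem_commutator (inv_mem ((hQmem y).mp hy))
      (inv_mem ((hQmem x).mp hx)))
    rw [commutatorElement_def] at h1
    convert h1 using 1
    push_cast
    group
  have hQbN : ∀ g ∈ Subgroup.normalizer ((Qb : Subgroup (M ⧸ K')) : Set (M ⧸ K')),
      g ∈ (Qb : Subgroup (M ⧸ K')) := by
    intro g hg
    obtain ⟨g, rfl⟩ := QuotientGroup.mk'_surjective K' g
    set X : Subgroup M := ((Qb : Subgroup (M ⧸ K'))).comap π with hX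
    have hQX : (Q : Subgroup M) ≤ X := fun x hx => ⟨x, hx, rfl⟩
    have hgQX : ((g • Q : Sylow p M) : Subgroup M) ≤ X := by
      intro x hx
      rw [Sylow.smul_def, Sylow.pointwise_smul_def,
        Subgroup.mem_pointwise_smul_iff_inv_smul_mem] at hx
      have hx' : g⁻¹ * x * g ∈ (Q : Subgroup M) := by
        simpa [MulAut.smul_def] using hx
      have h1 : π (g⁻¹ * x * g) ∈ (Qb : Subgroup (M ⧸ K')) := ⟨_, hx', rfl⟩
      show π x ∈ (Qb : Subgroup (M ⧸ K'))
      have h2 := (Subgroup.mem_normalizer_iff.mp hg (π (g⁻¹ * x * g))).mp h1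
      change π g * π (g⁻¹ * x * g) * (π g)⁻¹ ∈ _ at h2
      rw [← map_inv, ← map_mul, ← map_mul] at h2
      rwa [show g * (g⁻¹ * x * g) * g⁻¹ = x by group] at h2
    obtain ⟨x, hx⟩ := MulAction.exists_smul_eq X ((g • Q).subtype hgQX) (Q.subtype hQX)
    rw [Sylow.smul_subtype] at hx
    have h3 := Sylow.subtype_injective hx
    rw [Subgroup.smul_def, smul_smul] at h3
    have h4 : (x : M) * g ∈ Subgroup.normalizer ((Q : Subgroup M) : Set M) :=
      Sylow.smul_eq_iff_mem_normalizer.mp h3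
    have h5 : (((x : M) * g : M) : G) ∈ (P : Subgroup G) := by
      refine hMN ⟨((x : M) * g).2, Subgroup.mem_normalizer_iff.mpr fun z => ?_⟩
      constructor
      · intro hz
        exact ((Subgroup.mem_normalizer_iff.mp h4) ⟨z, hPM hz⟩).mp hz
      · intro hz
        have hzM : z ∈ M := by
          have h6 := hPM hz
          have h7 := mul_mem (mul_mem (inv_mem ((x : M) * g).2) h6) ((x : M) * g).2
          simpa [mul_assoc] using h7
        exact ((Subgroup.mem_normalizer_iff.mp h4) ⟨z, hzM⟩).mpr hz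
    have h6 : (x : M) * g ∈ X := hQX h5
    exact (Subgroup.mul_mem_cancel_left X x.2).mp h6
  have hfoc : (Q : Subgroup M) ⊓ Cfsg.pResidual p M ≤ ⁅(Q : Subgroup M), (Q : Subgroup M)⁆ := by
    have hc : ControlsFusion (Qb : Subgroup (M ⧸ K')) (Qb : Subgroup (M ⧸ K')) := by
      intro a ha g hg
      obtain ⟨h, hh, e⟩ := controlsFusion_normalizer_of_abelian Qb hQbab a ha g hg
      exact ⟨h, hQbN h hh, e⟩
    have hcomp := hasNormalPComplement_of_controlsFusion Qb hc
    rw [hasNormalPComplement_iff_inf_eq_bot Qb] at hcomp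
    intro x hx
    have h1 : π x ∈ (Qb : Subgroup (M ⧸ K')) ⊓ Cfsg.pResidual p (M ⧸ K') :=
      ⟨⟨x, hx.1, rfl⟩, map_pResidual_le π ⟨x, hx.2, rfl⟩⟩
    rw [hcomp, Subgroup.mem_bot] at h1
    have h2 : (x : G) ∈ ⁅(P : Subgroup G), (P : Subgroup G)⁆ :=
      hKP ⟨(QuotientGroup.eq_one_iff x).mp h1, hx.1⟩
    have h3 : (Q : Subgroup M).map M.subtype = (P : Subgroup G) := by
      rw [hQ, Sylow.coe_subtype, Subgroup.subgroupOf_map_subtype, inf_eq_left.mpr hPM]
    rw [← h3, ← Subgroup.map_commutator] at h2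
    obtain ⟨y, hy, hyx⟩ := h2
    rwa [Subtype.ext hyx] at hy
  have hT := inf_pResidual_eq Q (H := (Q : Subgroup M)) le_rfl
    (hfoc.trans (le_trans le_sup_right le_sup_left))
  rw [pResidual_eq_bot Q.2, Subgroup.map_bot, inf_bot_eq] at hT
  refine ⟨(Cfsg.pResidual p M).map M.subtype, inferInstance, ?_, ?_⟩
  · rw [eq_top_iff, ← Sylow.normalizer_sup_eq_top' P hPM]
    refine sup_le le_sup_right ?_
    intro m hm
    have h1 : (⟨m, hm⟩ : M) ∈ (Q : Subgroup M) ⊔ Cfsg.pResidual p M := by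
      rw [sylow_sup_pResidual]; trivial
    obtain ⟨y, hy, k, hk, hyk⟩ := Subgroup.mem_sup_of_normal_right.mp h1
    have h2 := congrArg Subtype.val hyk
    rw [Subgroup.coe_mul] at h2
    rw [show m = (y : G) * (k : G) from h2.symm]
    exact mul_mem (Subgroup.mem_sup_right (Subgroup.le_normalizer hy))
      (Subgroup.mem_sup_left (Subgroup.mem_map_of_mem _ hk))
  · rw [eq_bot_iff]
    rintro x ⟨⟨y, hy, rfl⟩, hxN⟩
    have h1 : y ∈ (Q : Subgroup M) ⊓ Cfsg.pResidual p M := ⟨hMN ⟨y.2, hxN⟩, hy⟩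
    rw [hT, Subgroup.mem_bot] at h1
    simp [h1]

/-- The hard direction. -/
theorem exists_complement_of_extends (P : Sylow p G)
    (h : ∀ θ : Cfsg.IrrCharacter ↥(Subgroup.normalizer ((P : Subgroup G) : Set G)),
      ¬ p ∣ Cfsg.charDegree (θ : ↥(Subgroup.normalizer ((P : Subgroup G) : Set G)) → ℂ) →
        ∃ χ : Cfsg.IrrCharacter G, ∀ x : ↥(Subgroup.normalizer ((P : Subgroup G) : Set G)),
          (χ : G → ℂ) x = (θ : ↥(Subgroup.normalizer ((P : Subgroup G) : Set G)) → ℂ) x) :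
    ∃ L : Subgroup G, L.Normal ∧ L ⊔ Subgroup.normalizer ((P : Subgroup G) : Set G) = ⊤ ∧
      L ⊓ Subgroup.normalizer ((P : Subgroup G) : Set G) = ⊥ := by
  classical
  haveI := Fintype.ofFinite G
  set N := Subgroup.normalizer ((P : Subgroup G) : Set G) with hN
  haveI := Fintype.ofFinite N
  set R : Subgroup N := (P : Subgroup G).subgroupOf N with hR
  haveI hRn : R.Normal := Subgroup.normal_in_normalizer
  haveI := Fintype.ofFinite R
  have hPN : (P : Subgroup G) ≤ N := Subgroup.le_normalizer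
  have hidx : ¬ p ∣ R.index := (P.subtype hPN).not_dvd_index
  choose χ hχ using h
  let ker' : {θ : Cfsg.IrrCharacter N // ¬ p ∣ Cfsg.charDegree (θ : N → ℂ)} → Subgroup G :=
    fun θ => charKernel (irr_isCharacter (χ θ.1 θ.2))
  have hker : ∀ (θ : {θ : Cfsg.IrrCharacter N // ¬ p ∣ Cfsg.charDegree (θ : N → ℂ)}) (x : N),
      (x : G) ∈ ker' θ ↔ (θ.1 : N → ℂ) x = (θ.1 : N → ℂ) 1 := by
    intro θ x
    rw [mem_charKernel, hχ, ← hχ θ.1 θ.2 1]
    rfl
  let M : Subgroup G := ⨅ (θ : {θ : Cfsg.IrrCharacter N // ¬ p ∣ Cfsg.charDegree (θ : N → ℂ)})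
    (_ : ∀ x ∈ R, (θ.1 : N → ℂ) x = (θ.1 : N → ℂ) 1), ker' θ
  let K : Subgroup G := ⨅ (θ : {θ : Cfsg.IrrCharacter N // ¬ p ∣ Cfsg.charDegree (θ : N → ℂ)})
    (_ : ∀ x ∈ ⁅R, R⁆, (θ.1 : N → ℂ) x = (θ.1 : N → ℂ) 1), ker' θ
  haveI : M.Normal := Subgroup.normal_iInf_normal fun θ =>
    Subgroup.normal_iInf_normal fun _ => charKernel_normal _
  haveI : K.Normal := Subgroup.normal_iInf_normal fun θ =>
    Subgroup.normal_iInf_normal fun _ => charKernel_normal _
  have hMmem : ∀ x : N, (x : G) ∈ M ↔ ∀ θ : {θ : Cfsg.IrrCharacter N //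
      ¬ p ∣ Cfsg.charDegree (θ : N → ℂ)}, (∀ y ∈ R, (θ.1 : N → ℂ) y = (θ.1 : N → ℂ) 1) →
      (θ.1 : N → ℂ) x = (θ.1 : N → ℂ) 1 := by
    intro x
    simp only [M, Subgroup.mem_iInf, hker]
  have hKmem : ∀ x : N, (x : G) ∈ K ↔ ∀ θ : {θ : Cfsg.IrrCharacter N //
      ¬ p ∣ Cfsg.charDegree (θ : N → ℂ)}, (∀ y ∈ ⁅R, R⁆, (θ.1 : N → ℂ) y = (θ.1 : N → ℂ) 1) →
      (θ.1 : N → ℂ) x = (θ.1 : N → ℂ) 1 := by
    intro x
    simp only [K, Subgroup.mem_iInf, hker]
  have hRmap : R.map N.subtype = (P : Subgroup G) := by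
    rw [hR, Subgroup.subgroupOf_map_subtype, inf_eq_left.mpr hPN]
  refine exists_normal_complement P M K
    (fun x hx => (hMmem ⟨x, hPN hx⟩).mpr fun θ hθ => hθ ⟨x, hPN hx⟩ hx) ?_ ?_ ?_
  · rintro x ⟨hxM, hxN⟩
    by_contra hxP
    have h1 : QuotientGroup.mk' R ⟨x, hxN⟩ ≠ 1 := fun e =>
      hxP ((QuotientGroup.eq_one_iff (N := R) ⟨x, hxN⟩).mp e)
    obtain ⟨ψ, hψ⟩ := exists_irr_ne_apply_one h1
    obtain ⟨d, -, hd, hdvd⟩ := IsIrrCharacter.exists_degree_dvd ψ.2
    set θ : Cfsg.IrrCharacter N := ⟨_, IsIrrCharacter.comp_surjective ψ.2 (QuotientGroup.mk' R)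
      (QuotientGroup.mk'_surjective R)⟩ with hθ
    have hθd : Cfsg.charDegree (θ : N → ℂ) = d := charDegree_eq_of_apply_one
      (by show (ψ : N ⧸ R → ℂ) (QuotientGroup.mk' R 1) = d; rw [map_one]; exact hd)
    have hnd : ¬ p ∣ Cfsg.charDegree (θ : N → ℂ) := by
      rw [hθd]; exact fun hp' => hidx (hp'.trans (hdvd.trans (Subgroup.index_eq_card R).symm.dvd))
    have h2 := (hMmem ⟨x, hxN⟩).mp hxM ⟨θ, hnd⟩ fun y hy => by
      show (ψ : N ⧸ R → ℂ) (QuotientGroup.mk' R y) = (ψ : N ⧸ R → ℂ) (QuotientGroup.mk' R 1)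
      rw [show QuotientGroup.mk' R y = 1 from (QuotientGroup.eq_one_iff y).mpr hy, map_one]
    apply hψ
    change (ψ : N ⧸ R → ℂ) _ = (ψ : N ⧸ R → ℂ) (QuotientGroup.mk' R 1) at h2
    rw [map_one] at h2
    exact h2
  · rintro x ⟨hxK, hxP⟩
    by_contra hxc
    set r : R := ⟨⟨x, hPN hxP⟩, hxP⟩ with hr
    have hr' : r ∉ commutator R := by
      intro hrc
      apply hxc
      have h1 : (r : N) ∈ ⁅R, R⁆ := by
        rw [← Subgroup.map_subtype_commutator]; exact Subgroup.mem_map_of_mem _ hrc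
      have h2 : (((r : N)) : G) ∈ (⁅R, R⁆).map N.subtype := Subgroup.mem_map_of_mem _ h1
      rwa [Subgroup.map_commutator, hRmap] at h2
    have h1 : Abelianization.of r ≠ 1 := fun e => hr' ((QuotientGroup.eq_one_iff r).mp e)
    haveI : Finite (Abelianization R) := Finite.of_surjective _ (QuotientGroup.mk_surjective (s := commutator R))
    obtain ⟨μ, hμ⟩ := exists_irr_ne_apply_one h1
    have hμ1 : (μ : Abelianization R → ℂ) 1 = 1 :=
      IsIrrCharacter.apply_one_of_comm (fun a b => mul_comm a b) μ.2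
    set lam : R → ℂ := (μ : Abelianization R → ℂ) ∘ Abelianization.of with hlam
    have hlami : Cfsg.IsIrrCharacter R lam :=
      IsIrrCharacter.comp_surjective μ.2 Abelianization.of QuotientGroup.mk_surjective
    have hlam1 : lam 1 = 1 := by simp [hlam, hμ1]
    set φ : N → ℂ := Cfsg.indFun R lam with hφ
    have hφc : Cfsg.IsCharacter N φ := IsCharacter.indFun R (IsIrrCharacter.isCharacter hlami)
    have hφ1 : φ 1 = (R.index : ℂ) := by rw [hφ, indFun_one, hlam1, mul_one]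
    obtain ⟨θ, hθ, hθp⟩ := exists_constituent_not_dvd hφc hφ1 hidx
    have hcomm : ∀ y ∈ ⁅R, R⁆, φ y = φ 1 := by
      intro y hy
      haveI : (⁅R, R⁆).Normal := inferInstance
      rw [hφ, indFun_apply, indFun_apply]
      congr 1
      refine Finset.sum_congr rfl fun z _ => ?_
      have h3 : z⁻¹ * y * z ∈ ⁅R, R⁆ := by
        simpa using (inferInstance : (⁅R, R⁆).Normal).conj_mem y hy z⁻¹
      have h4 : z⁻¹ * y * z ∈ R := Subgroup.commutator_le_self R h3
      have h5 : (⟨z⁻¹ * y * z, h4⟩ : R) ∈ commutator R := by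
        rw [← Subgroup.map_subtype_commutator] at h3
        obtain ⟨w, hw, hwe⟩ := h3
        rwa [show (⟨z⁻¹ * y * z, h4⟩ : R) = w from Subtype.ext hwe.symm]
      rw [extendByZero_of_mem R lam h4,
        extendByZero_of_mem R lam (show z⁻¹ * 1 * z ∈ R by simp)]
      have h6 : Abelianization.of (⟨z⁻¹ * y * z, h4⟩ : R) = 1 := (QuotientGroup.eq_one_iff _).mpr h5
      have h7 : (⟨z⁻¹ * 1 * z, by simp⟩ : R) = 1 := Subtype.ext (by simp)
      show (μ : Abelianization R → ℂ) (Abelianization.of _) = lam ⟨z⁻¹ * 1 * z, _⟩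
      rw [h6, h7, hμ1, hlam1]
    have hθker : ∀ y ∈ ⁅R, R⁆, (θ : N → ℂ) y = (θ : N → ℂ) 1 :=
      fun y hy => apply_eq_of_classInner_ne_zero hφc θ.2 hθ (hcomm y hy)
    have hθr := (hKmem (r : N)).mp hxK ⟨θ, hθp⟩ hθker
    have hθR : Cfsg.classInner (fun y : R => (θ : N → ℂ) y) lam ≠ 0 := by
      rw [← classInner_indFun_right R lam (irr_isClassFunction θ), ← classInner_conj_symm]
      simpa [hφ] using hθ
    have h8 := apply_eq_of_classInner_ne_zero
      (IsCharacter.restrict (irr_isCharacter θ) R) hlami hθR (g := r) hθr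
    apply hμ
    rw [hμ1]
    exact h8.trans hlam1
  · rw [← hRmap, ← Subgroup.map_commutator]
    rintro _ ⟨y, hy, rfl⟩
    exact (hKmem y).mpr fun θ hθ => hθ y hy

omit hp in
/-- The easy direction. -/
theorem extends_of_complement (P : Sylow p G) (K : Subgroup G) (hK : K.Normal)
    (h1 : K ⊔ Subgroup.normalizer ((P : Subgroup G) : Set G) = ⊤)
    (h2 : K ⊓ Subgroup.normalizer ((P : Subgroup G) : Set G) = ⊥)
    (θ : Cfsg.IrrCharacter ↥(Subgroup.normalizer ((P : Subgroup G) : Set G))) :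
    ∃ χ : Cfsg.IrrCharacter G, ∀ x : ↥(Subgroup.normalizer ((P : Subgroup G) : Set G)),
      (χ : G → ℂ) x = (θ : ↥(Subgroup.normalizer ((P : Subgroup G) : Set G)) → ℂ) x := by
  revert θ h1 h2
  generalize Subgroup.normalizer ((P : Subgroup G) : Set G) = N
  intro h1 h2 θ
  haveI := hK
  set f : N →* G ⧸ K := (QuotientGroup.mk' K).comp N.subtype with hf
  have hbij : Function.Bijective f := by
    constructor
    · rw [← MonoidHom.ker_eq_bot_iff, eq_bot_iff]
      intro x hx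
      have h3 : (x : G) ∈ K ⊓ N := ⟨(QuotientGroup.eq_one_iff _).mp hx, x.2⟩
      rw [h2, Subgroup.mem_bot] at h3
      exact Subtype.ext h3
    · intro q
      obtain ⟨g, rfl⟩ := QuotientGroup.mk'_surjective K q
      obtain ⟨k, hk, n, hn, rfl⟩ := Subgroup.mem_sup_of_normal_left.mp
        (h1 ▸ Subgroup.mem_top g : g ∈ K ⊔ N)
      refine ⟨⟨n, hn⟩, ?_⟩
      show QuotientGroup.mk' K n = QuotientGroup.mk' K (k * n)
      rw [map_mul, show QuotientGroup.mk' K k = 1 from (QuotientGroup.eq_one_iff k).mpr hk, one_mul]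
  set e : N ≃* G ⧸ K := MulEquiv.ofBijective f hbij with he
  refine ⟨⟨_, IsIrrCharacter.comp_surjective θ.2 (e.symm.toMonoidHom.comp (QuotientGroup.mk' K))
    (e.symm.surjective.comp (QuotientGroup.mk'_surjective K))⟩, fun x => ?_⟩
  show (θ : N → ℂ) (e.symm (QuotientGroup.mk' K (x : G))) = _
  rw [show QuotientGroup.mk' K (x : G) = e x from rfl, MulEquiv.symm_apply_apply]

/-- Let G be a finite group, p a prime and P a Sylow p-subgroup of G with normalizer N. Then every irreducible complex character of N of degree not divisible by p is the restriction of an irreducible character of G if and only if there is a normal subgroup K of G with KN = G and K ∩ N = 1. -/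
theorem result {G : Type*} [Group G] [Finite G] (p : ℕ) [Fact p.Prime] (P : Sylow p G) :
    (∀ θ : Cfsg.IrrCharacter ↥(Subgroup.normalizer ((P : Subgroup G) : Set G)), ¬ p ∣ Cfsg.charDegree (θ : ↥(Subgroup.normalizer ((P : Subgroup G) : Set G)) → ℂ) →
        ∃ χ : Cfsg.IrrCharacter G, ∀ x : ↥(Subgroup.normalizer ((P : Subgroup G) : Set G)), (χ : G → ℂ) x = (θ : ↥(Subgroup.normalizer ((P : Subgroup G) : Set G)) → ℂ) x) ↔
      ∃ K : Subgroup G, K.Normal ∧ K ⊔ Subgroup.normalizer ((P : Subgroup G) : Set G) = ⊤ ∧ K ⊓ Subgroup.normalizer ((P : Subgroup G) : Set G) = ⊥ := by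
  exact ⟨exists_complement_of_extends P, fun ⟨K, hK, h1, h2⟩ θ _ => extends_of_complement P K hK h1 h2 θ⟩

end Cfsg.Agent.S4931
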