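import Mathlib
import Cfsg.Statements.S4955
import Cfsg.Agent.Lib.Characters.Values
import Cfsg.Agent.Lib.BlockHeights.Galois
import Cfsg.Agent.Lib.Cores.Basic

set_option autoImplicit false
open Cfsg

namespace Cfsg.Agent.S4955

open Cfsg.Agent.Lib
open Cfsg.Agent.Lib.Characters

/-- Let X be a finite group with an abelian normal Sylow p-subgroup V (a normal p-subgroup of index prime to p in which any two elements commute), and let G be a complement to V in X. Then for every v in V, writing C for the centralizer of v in G, the number k(X) of conjugacy classes of X satisfies k(X) ≤ (order of C)·(order of V) − ((order of G) − k(G)); the statement is written with the subtracted term moved to the left. In particular, if some v in V is centralized by no nonidentity element of G, then k(X) is at most the order of V. -/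
theorem result {X : Type*} [Group X] [Finite X] (p : ℕ) [Fact p.Prime] (V : Subgroup X) [V.Normal] (hVp : IsPGroup p V) (hidx : ¬ p ∣ V.index) (hab : ∀ a ∈ V, ∀ b ∈ V, a * b = b * a) (G : Subgroup X) (hGV : Subgroup.IsComplement' V G) (v : X) (hv : v ∈ V) : Nat.card (ConjClasses X) + Nat.card G ≤ Nat.card ↥(G ⊓ Subgroup.centralizer ({v} : Set X)) * Nat.card V + Nat.card (ConjClasses G) := by
  classical
  have hp : p.Prime := Fact.out
  haveI := Fintype.ofFinite X
  haveI : Finite (Cfsg.IrrCharacter X) := Characters.finite_irrCharacter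
  haveI : Finite (Cfsg.IrrCharacter (X ⧸ V)) := Characters.finite_irrCharacter
  haveI := Fintype.ofFinite (Cfsg.IrrCharacter X)
  haveI := Fintype.ofFinite (Cfsg.IrrCharacter (X ⧸ V))
  set π := QuotientGroup.mk' V with hπ
  have hπs : Function.Surjective π := QuotientGroup.mk'_surjective V
  -- degrees are prime to `p`
  have hdeg : ∀ χ : Cfsg.IrrCharacter X, ∀ g ∈ V, (χ : X → ℂ) g ≠ 0 := by
    intro χ g hg
    obtain ⟨d, -, hd⟩ := IsIrrCharacter.exists_apply_one χ.2
    obtain ⟨j, hj⟩ := hVp ⟨g, hg⟩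
    exact IsCharacter.ne_zero_of_pPower (irr_isCharacter χ) hp hd
      (fun h => hidx (h.trans (IsIrrCharacter.degree_dvd_index_of_abelian χ.2 V hab hd)))
      (g := g) (k := j) (by simpa using congrArg Subtype.val hj)
  -- the powers of `v` prime to the order
  set S : Finset X := Finset.univ.filter fun g => ∃ k : ℕ, Nat.Coprime k (Nat.card X) ∧ g = v ^ k
    with hS
  have hSmem : ∀ g, g ∈ S ↔ ∃ k : ℕ, Nat.Coprime k (Nat.card X) ∧ g = v ^ k := fun g => by
    simp [hS]
  have hSne : S.Nonempty := ⟨v, (hSmem v).mpr ⟨1, Nat.coprime_one_left _, (pow_one v).symm⟩⟩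
  have hSpow : BlockHeights.PowClosed S := by
    intro g hg m hm
    obtain ⟨k, hk, rfl⟩ := (hSmem g).mp hg
    exact (hSmem _).mpr ⟨k * m, Nat.Coprime.mul_left hk hm, (pow_mul v k m).symm⟩
  have hSV : ∀ g ∈ S, g ∈ V := fun g hg => by
    obtain ⟨k, -, rfl⟩ := (hSmem g).mp hg
    exact pow_mem hv k
  set C := G ⊓ Subgroup.centralizer ({v} : Set X) with hC
  -- the centralizer of `v`
  have hcentv : Nat.card (Subgroup.centralizer ({v} : Set X)) = Nat.card C * Nat.card V := by
    set D := Subgroup.centralizer ({v} : Set X) with hD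
    have hVD : V ≤ D := fun a ha => Subgroup.mem_centralizer_singleton_iff.mpr (hab a ha v hv)
    have hCV : C ⊔ V = D := by
      refine le_antisymm (sup_le inf_le_right hVD) fun x hx => ?_
      obtain ⟨⟨g, w⟩, hgw⟩ := hGV.symm.2 x
      simp only at hgw
      have hg : (g : X) ∈ D := by
        have h1 : (g : X) = x * (w : X)⁻¹ := by rw [← hgw]; group
        rw [h1]
        exact mul_mem hx (inv_mem (hVD w.2))
      rw [← hgw]
      exact Subgroup.mul_mem_sup ⟨g.2, hg⟩ w.2
    have hCb : C ⊓ V = ⊥ := le_bot_iff.mp ((inf_le_inf_right V inf_le_left).trans hGV.symm.disjoint.le_bot)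
    have h1 := Cores.card_sup_mul_card_inf C V
    rw [hCV, hCb, Subgroup.card_bot, mul_one] at h1
    exact h1
  have hcent : ∀ g ∈ S,
      ∑ χ : Cfsg.IrrCharacter X, ‖(χ : X → ℂ) g‖ ^ 2 = (Nat.card C * Nat.card V : ℕ) := by
    intro g hg
    obtain ⟨k, hk, rfl⟩ := (hSmem g).mp hg
    have he : Subgroup.centralizer ({v ^ k} : Set X) = Subgroup.centralizer ({v} : Set X) := by
      ext x
      rw [Subgroup.mem_centralizer_singleton_iff, Subgroup.mem_centralizer_singleton_iff]
      refine ⟨fun h => ?_, fun h => (Commute.pow_right (h : Commute x v) k).eq⟩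
      have hc : Commute x (v ^ k) := h
      obtain ⟨m, hm⟩ := exists_pow_eq_self_of_coprime
        (Nat.Coprime.coprime_dvd_right (orderOf_dvd_natCard v) hk)
      rw [← hm]
      exact (hc.pow_right m).eq
    have h := sum_irr_mul_conj (v ^ k) (v ^ k)
    rw [if_pos (IsConj.refl _), he, hcentv] at h
    have h2 : ∀ χ : Cfsg.IrrCharacter X, (χ : X → ℂ) (v ^ k) *
        (starRingEnd ℂ) ((χ : X → ℂ) (v ^ k)) = ((‖(χ : X → ℂ) (v ^ k)‖ ^ 2 : ℝ) : ℂ) := fun χ => by
      rw [Complex.mul_conj, Complex.normSq_eq_norm_sq]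
    rw [Finset.sum_congr rfl fun χ _ => h2 χ, ← Complex.ofReal_sum] at h
    exact_mod_cast h
  -- the inflated characters
  let inf' : Cfsg.IrrCharacter (X ⧸ V) → Cfsg.IrrCharacter X := fun ψ =>
    ⟨(ψ : X ⧸ V → ℂ) ∘ π, IsIrrCharacter.comp_surjective ψ.2 π hπs⟩
  have hinj : Function.Injective inf' := fun a b h => Subtype.ext (funext fun q => by
    obtain ⟨x, rfl⟩ := hπs q
    exact congrFun (congrArg Subtype.val h) x)
  set I := Finset.univ.image inf' with hI
  have hIcard : I.card = Nat.card (ConjClasses G) := by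
    rw [hI, Finset.card_image_of_injective _ hinj, Finset.card_univ, ← Nat.card_eq_fintype_card,
      card_irrCharacter]
    have hs : Function.Bijective (π.comp G.subtype) := by
      refine ⟨(injective_iff_map_eq_one _).mpr fun g hg => ?_, fun q => ?_⟩
      · exact Subtype.ext (Subgroup.disjoint_def.mp hGV.symm.disjoint g.2 ((QuotientGroup.eq_one_iff _).mp hg))
      · obtain ⟨x, rfl⟩ := hπs q
        obtain ⟨⟨g, w⟩, hgw⟩ := hGV.symm.2 x
        simp only at hgw
        refine ⟨g, ?_⟩
        show π g = π x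
        rw [← hgw, map_mul, show π w = 1 from (QuotientGroup.eq_one_iff _).mpr w.2, mul_one]
    refine (Nat.card_congr (Equiv.ofBijective (ConjClasses.map (π.comp G.subtype))
      ⟨fun a b h => ?_, ConjClasses.map_surjective hs.2⟩)).symm
    obtain ⟨a, rfl⟩ := ConjClasses.mk_surjective a
    obtain ⟨b, rfl⟩ := ConjClasses.mk_surjective b
    exact ConjClasses.mk_eq_mk_iff_isConj.mpr (by
      have h' := MonoidHom.map_isConj (MulEquiv.ofBijective _ hs).symm.toMonoidHom
        (ConjClasses.mk_eq_mk_iff_isConj.mp h)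
      simp only [MulEquiv.coe_toMonoidHom] at h'
      rwa [← MulEquiv.ofBijective_apply _ hs a, ← MulEquiv.ofBijective_apply _ hs b,
        MulEquiv.symm_apply_apply, MulEquiv.symm_apply_apply] at h')
  have hcardG : Nat.card (X ⧸ V) = Nat.card G := by
    rw [← Subgroup.index_eq_card]
    exact hGV.symm.index_eq_card
  have hIsum : ∀ g ∈ V, ∑ χ ∈ I, ‖(χ : X → ℂ) g‖ ^ 2 = (Nat.card G : ℝ) := by
    intro g hg
    rw [hI, Finset.sum_image fun a _ b _ h => hinj h]
    have h := sum_degree_sq (G := X ⧸ V)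
    rw [hcardG] at h
    have h2 : ∀ ψ : Cfsg.IrrCharacter (X ⧸ V), (ψ : X ⧸ V → ℂ) 1 ^ 2 =
        ((‖(inf' ψ : X → ℂ) g‖ ^ 2 : ℝ) : ℂ) := fun ψ => by
      obtain ⟨d, -, hd⟩ := IsIrrCharacter.exists_apply_one ψ.2
      show _ = ((‖(ψ : X ⧸ V → ℂ) (π g)‖ ^ 2 : ℝ) : ℂ)
      rw [show π g = 1 from (QuotientGroup.eq_one_iff _).mpr hg, hd, Complex.norm_natCast]
      push_cast
      rfl
    rw [Finset.sum_congr rfl fun ψ _ => h2 ψ, ← Complex.ofReal_sum] at h
    exact_mod_cast h
  have key : ((Iᶜ.card : ℕ) : ℝ) + Nat.card G ≤ (Nat.card C * Nat.card V : ℕ) := by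
    have h1 : ∀ χ ∈ Iᶜ, (S.card : ℝ) ≤ ∑ g ∈ S, ‖(χ : X → ℂ) g‖ ^ 2 := fun χ _ =>
      BlockHeights.card_le_sum_normSq (irr_isCharacter χ) S hSpow fun g hg => hdeg χ g (hSV g hg)
    have h2 := Finset.sum_le_sum h1
    rw [Finset.sum_const, nsmul_eq_mul, Finset.sum_comm] at h2
    have h3 : ∀ g ∈ S, ∑ χ ∈ Iᶜ, ‖(χ : X → ℂ) g‖ ^ 2 =
        (Nat.card C * Nat.card V : ℕ) - (Nat.card G : ℝ) := fun g hg => by
      rw [← hcent g hg, ← hIsum g (hSV g hg), ← Finset.sum_compl_add_sum I]
      ring
    rw [Finset.sum_congr rfl h3, Finset.sum_const, nsmul_eq_mul, mul_comm] at h2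
    have h4 := le_of_mul_le_mul_left h2 (by exact_mod_cast hSne.card_pos)
    linarith
  have key' : Iᶜ.card + Nat.card G ≤ Nat.card C * Nat.card V := by exact_mod_cast key
  have htot : Nat.card (ConjClasses X) = Iᶜ.card + Nat.card (ConjClasses G) := by
    rw [← hIcard, Finset.card_compl, Nat.sub_add_cancel (Finset.card_le_univ I),
      ← Nat.card_eq_fintype_card, card_irrCharacter]
  omega

end Cfsg.Agent.S4955
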