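import Mathlib
import Cfsg.Statements.S4956
import Cfsg.Agent.Lib.Coprime

set_option autoImplicit false
open Cfsg

namespace Cfsg.Agent.S4956

/-- Let X be a finite group, V an abelian normal subgroup of X (any two elements of V commute) and G a complement to V in X whose order is coprime to that of V. Let S be a set of representatives of the orbits of G on V under conjugation: S lies in V and every element of V is conjugate under G to exactly one member of S. Then the number of conjugacy classes of X equals the sum, over s in S, of the number of conjugacy classes of the centralizer of s in G. -/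
theorem result {X : Type*} [Group X] [Finite X] (V : Subgroup X) [V.Normal] (hab : ∀ a ∈ V, ∀ b ∈ V, a * b = b * a) (G : Subgroup X) (hGV : Subgroup.IsComplement' V G) (hcop : (Nat.card V).Coprime (Nat.card G)) (S : Finset X) (hSV : ∀ s ∈ S, s ∈ V) (hrep : ∀ v ∈ V, ∃! s, s ∈ S ∧ ∃ g ∈ G, g * v * g⁻¹ = s) : Nat.card (ConjClasses X) = ∑ s ∈ S, Nat.card (ConjClasses ↥(G ⊓ Subgroup.centralizer ({s} : Set X))) := by
  classical
  let C : X → Subgroup X := fun s => G ⊓ Subgroup.centralizer ({s} : Set X)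
  have hGn : G ≤ Subgroup.normalizer (V : Set X) := by
    rw [Subgroup.normalizer_eq_top]; exact le_top
  have hsup : V ⊔ G = ⊤ := hGV.sup_eq_top
  have hinf : ∀ x, x ∈ V → x ∈ G → x = 1 := fun x hx hx' =>
    Subgroup.disjoint_def.1 hGV.disjoint hx hx'
  have hzc : ∀ (s : X) (c : C s), (c : X) * s = s * (c : X) := fun s c =>
    Subgroup.mem_centralizer_singleton_iff.1 c.2.2
  let F : (Σ s : S, ConjClasses (C (s : X))) → ConjClasses X := fun a =>
    Quotient.liftOn a.2 (fun g : C (a.1 : X) => ConjClasses.mk ((a.1 : X) * (g : X))) (by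
      intro g g' hgg'
      obtain ⟨c, rfl⟩ := isConj_iff.1 hgg'
      refine ConjClasses.mk_eq_mk_iff_isConj.2 (isConj_iff.2 ⟨(c : X), ?_⟩)
      have := hzc _ c
      push_cast
      rw [show (c : X) * ((a.1 : X) * (g : X)) * (c : X)⁻¹ = ((c : X) * (a.1 : X)) * (g : X) * (c : X)⁻¹ by group,
        this]
      group)
  obtain ⟨u, v, huv⟩ : ∃ u v : ℤ, (Nat.card V : ℤ) * u + (Nat.card G : ℤ) * v = 1 := by
    refine ⟨Nat.gcdA (Nat.card V) (Nat.card G), Nat.gcdB (Nat.card V) (Nat.card G), ?_⟩
    rw [← Nat.gcd_eq_gcd_ab, hcop]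
    rfl
  have hsplit : ∀ a ∈ V, ∀ b ∈ G, a * b = b * a →
      (a * b) ^ ((Nat.card G : ℤ) * v) = a ∧ (a * b) ^ ((Nat.card V : ℤ) * u) = b := by
    intro a ha b hb hab'
    have h1 : a ^ ((Nat.card V : ℤ) * u) = 1 := by
      rw [zpow_mul, zpow_natCast]
      have : (⟨a, ha⟩ : V) ^ Nat.card V = 1 := pow_card_eq_one'
      rw [show a ^ Nat.card V = 1 from congrArg Subtype.val this, one_zpow]
    have h2 : b ^ ((Nat.card G : ℤ) * v) = 1 := by
      rw [zpow_mul, zpow_natCast]
      have : (⟨b, hb⟩ : G) ^ Nat.card G = 1 := pow_card_eq_one'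
      rw [show b ^ Nat.card G = 1 from congrArg Subtype.val this, one_zpow]
    have hc : Commute a b := hab'
    refine ⟨?_, ?_⟩
    · rw [hc.mul_zpow, h2, mul_one]
      conv_rhs => rw [← zpow_one a, ← huv, zpow_add, h1, one_mul]
    · rw [hc.mul_zpow, h1, one_mul]
      conv_rhs => rw [← zpow_one b, ← huv, zpow_add, h2, mul_one]
  have hbij : Function.Bijective F := by
    constructor
    · rintro ⟨⟨s, hs⟩, c⟩ ⟨⟨t, ht⟩, d⟩ h
      induction c using Quotient.inductionOn with | _ g => ?_
      induction d using Quotient.inductionOn with | _ g' => ?_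
      obtain ⟨x, hx⟩ := isConj_iff.1 (ConjClasses.mk_eq_mk_iff_isConj.1 h)
      simp only at hx
      have hgs : s * (g : X) = (g : X) * s := (hzc s g).symm
      have hgt : t * (g' : X) = (g' : X) * t := (hzc t g').symm
      obtain ⟨e1, e2⟩ := hsplit s (hSV s hs) g g.2.1 hgs
      obtain ⟨e3, e4⟩ := hsplit t (hSV t ht) g' g'.2.1 hgt
      have hx1 : x * s * x⁻¹ = t := by rw [← e1, ← conj_zpow, hx, e3]
      have hx2 : x * (g : X) * x⁻¹ = (g' : X) := by rw [← e2, ← conj_zpow, hx, e4]
      obtain ⟨w, hw, k, hk, rfl⟩ := Subgroup.mem_sup_of_normal_left.1 (hsup ▸ Subgroup.mem_top x)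
      have hks : k * s * k⁻¹ ∈ V := Subgroup.Normal.conj_mem inferInstance s (hSV s hs) k
      have hkst : k * s * k⁻¹ = t := by
        rw [← hx1, show w * k * s * (w * k)⁻¹ = w * (k * s * k⁻¹) * w⁻¹ by group,
          hab w hw _ hks, mul_inv_cancel_right]
      have hst : s = t := by
        obtain ⟨r, -, huniq⟩ := hrep s (hSV s hs)
        rw [huniq s ⟨hs, 1, one_mem _, by group⟩, huniq t ⟨ht, k, hk, hkst⟩]
      subst hst
      have hkC : k ∈ C s := ⟨hk, Subgroup.mem_centralizer_singleton_iff.2 (mul_inv_eq_iff_eq_mul.1 hkst)⟩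
      have hkg : k * (g : X) * k⁻¹ = (g' : X) := by
        set z := k * (g : X) * k⁻¹ with hz
        have hzG : z ∈ G := G.mul_mem (G.mul_mem hk g.2.1) (G.inv_mem hk)
        have h5 : w * z * w⁻¹ = (g' : X) := by rw [← hx2, hz]; group
        have h6 : (g' : X) * z⁻¹ ∈ V := by
          rw [← h5, show w * z * w⁻¹ * z⁻¹ = w * (z * w⁻¹ * z⁻¹) by group]
          exact V.mul_mem hw (Subgroup.Normal.conj_mem inferInstance _ (V.inv_mem hw) z)
        exact (mul_inv_eq_one.1 (hinf _ h6 (G.mul_mem g'.2.1 (G.inv_mem hzG)))).symm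
      refine Sigma.ext rfl (heq_of_eq ?_)
      exact ConjClasses.mk_eq_mk_iff_isConj.2 (isConj_iff.2 ⟨⟨k, hkC⟩, Subtype.ext hkg⟩)
    · intro Cl
      obtain ⟨x, rfl⟩ := ConjClasses.exists_rep Cl
      set a := x ^ ((Nat.card G : ℤ) * v) with ha
      set b := x ^ ((Nat.card V : ℤ) * u) with hb
      have hab' : a * b = x := by
        rw [ha, hb, ← zpow_add, add_comm, huv, zpow_one]
      have hcomm : a * b = b * a := by rw [ha, hb, ← zpow_add, ← zpow_add, add_comm]
      have hidx : V.index = Nat.card G := hGV.symm.index_eq_card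
      have haV : a ∈ V := by
        rw [ha, zpow_mul, zpow_natCast, ← hidx]
        exact V.zpow_mem (Subgroup.pow_index_mem V x) _
      have hbord : b ^ Nat.card G = 1 := by
        have hx1 : x ^ Nat.card X = 1 := pow_card_eq_one'
        rw [hb, ← zpow_natCast, ← zpow_mul, show (Nat.card V : ℤ) * u * (Nat.card G : ℤ)
          = ((Nat.card V * Nat.card G : ℕ) : ℤ) * u by push_cast; ring, zpow_mul, zpow_natCast,
          hGV.card_mul, hx1, one_zpow]
      obtain ⟨w, hw, hwle⟩ := Cfsg.Agent.Lib.Coprime.exists_le_conj_of_le_sup (N := V) (H := G)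
        (K := Subgroup.zpowers b) hGn hcop (Or.inl (by
          haveI : IsMulCommutative V := ⟨⟨fun p q => Subtype.ext (hab p p.2 q q.2)⟩⟩
          exact isSolvable_of_comm fun p q : V => mul_comm' p q))
        (by
          rw [Nat.card_zpowers]
          exact hcop.coprime_dvd_right (orderOf_dvd_of_pow_eq_one hbord))
        (by rw [hsup]; exact le_top)
      have hbG : w⁻¹ * b * w ∈ G := by
        have := Subgroup.mem_pointwise_smul_iff_inv_smul_mem.1 (hwle (Subgroup.mem_zpowers b))
        simpa [mul_assoc] using this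
      set b' := w⁻¹ * b * w with hb'
      have haw : w⁻¹ * a * w = a := by rw [mul_assoc, hab a haV w hw, inv_mul_cancel_left]
      have hcb : b' * a = a * b' := by
        calc b' * a = w⁻¹ * (b * a) * w := by conv_lhs => rw [hb', ← haw]
                                              group
          _ = w⁻¹ * (a * b) * w := by rw [hcomm]
          _ = (w⁻¹ * a * w) * b' := by rw [hb']; group
          _ = a * b' := by rw [haw]
      obtain ⟨s, ⟨hs, g, hg, hgs⟩, -⟩ := hrep a haV
      have hcs : g * b' * g⁻¹ ∈ C s := ⟨G.mul_mem (G.mul_mem hg hbG) (G.inv_mem hg),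
        Subgroup.mem_centralizer_singleton_iff.2 (by
          rw [← hgs, show g * b' * g⁻¹ * (g * a * g⁻¹) = g * (b' * a) * g⁻¹ by group, hcb]
          group)⟩
      refine ⟨⟨⟨s, hs⟩, ConjClasses.mk ⟨_, hcs⟩⟩, ?_⟩
      show ConjClasses.mk (s * (g * b' * g⁻¹)) = ConjClasses.mk x
      refine ConjClasses.mk_eq_mk_iff_isConj.2 (IsConj.symm (isConj_iff.2 ⟨g * w⁻¹, ?_⟩))
      rw [← hgs, ← hab', hb']
      calc g * w⁻¹ * (a * b) * (g * w⁻¹)⁻¹ = g * (w⁻¹ * a * w) * (w⁻¹ * b * w) * g⁻¹ := by group
        _ = g * a * (w⁻¹ * b * w) * g⁻¹ := by rw [haw]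
        _ = _ := by group
  rw [← Nat.card_eq_of_bijective F hbij, Nat.card_sigma, ← Finset.sum_coe_sort S]

end Cfsg.Agent.S4956
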