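import Cfsg.Statements.S4965
import Mathlib.GroupTheory.SemidirectProduct
import Mathlib.GroupTheory.CommutingProbability
import Mathlib.Tactic.Group

set_option autoImplicit false
open Cfsg

namespace Cfsg.Agent.S4965

/-- Let X be a finite group with an abelian normal subgroup V (any two elements of V commute), and let φ be the action of X ⧸ V on V induced by conjugation (well defined because V is abelian; the hypothesis hφ says that the class of x acts as conjugation by x). Then X has at most as many conjugacy classes as the semidirect product of V by X ⧸ V formed with this action: the split extension has the largest class number among extensions with the given action. -/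
theorem result {X : Type*} [Group X] [Finite X] (V : Subgroup X) [V.Normal] (hab : ∀ a ∈ V, ∀ b ∈ V, a * b = b * a) (φ : X ⧸ V →* MulAut ↥V) (hφ : ∀ (x : X) (v : ↥V), ((φ (QuotientGroup.mk x) v : ↥V) : X) = x * v * x⁻¹) : Nat.card (ConjClasses X) ≤ Nat.card (ConjClasses (SemidirectProduct ↥V (X ⧸ V) φ)) := by
  classical
  let π := QuotientGroup.mk' V
  let Pr : (X ⧸ V) × (X ⧸ V) → X × X → Prop := fun q w =>
    Commute w.1 w.2 ∧ π w.1 = q.1 ∧ π w.2 = q.2
  let base : {w : X × X // Commute w.1 w.2} → X × X := fun w =>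
    Classical.choose (p := Pr (π w.1.1, π w.1.2)) ⟨w.1, w.2, rfl, rfl⟩
  have hbase : ∀ w, Pr (π w.1.1, π w.1.2) (base w) := fun w =>
    Classical.choose_spec (p := Pr (π w.1.1, π w.1.2)) ⟨w.1, w.2, rfl, rfl⟩
  have hmem1 : ∀ w : {w : X × X // Commute w.1 w.2}, w.1.1 * (base w).1⁻¹ ∈ V := fun w => by
    rw [← QuotientGroup.eq_one_iff, QuotientGroup.mk_mul, QuotientGroup.mk_inv, mul_inv_eq_one]
    exact (hbase w).2.1.symm
  have hmem2 : ∀ w : {w : X × X // Commute w.1 w.2}, w.1.2 * (base w).2⁻¹ ∈ V := fun w => by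
    rw [← QuotientGroup.eq_one_iff, QuotientGroup.mk_mul, QuotientGroup.mk_inv, mul_inv_eq_one]
    exact (hbase w).2.2.symm
  let F : {w : X × X // Commute w.1 w.2} →
      SemidirectProduct ↥V (X ⧸ V) φ × SemidirectProduct ↥V (X ⧸ V) φ := fun w =>
    (⟨⟨_, hmem1 w⟩, π w.1.1⟩, ⟨⟨_, hmem2 w⟩, π w.1.2⟩)
  have hF : ∀ w, Commute (F w).1 (F w).2 := by
    intro w
    obtain ⟨hc, h1, h2⟩ := hbase w
    refine SemidirectProduct.ext ?_ ?_
    · apply Subtype.ext
      show ((⟨_, hmem1 w⟩ * φ (π w.1.1) ⟨_, hmem2 w⟩ : ↥V) : X)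
        = ((⟨_, hmem2 w⟩ * φ (π w.1.2) ⟨_, hmem1 w⟩ : ↥V) : X)
      dsimp only at h1 h2
      rw [← h1, ← h2]
      simp only [Subgroup.coe_mul, π, QuotientGroup.mk'_apply, hφ]
      calc w.1.1 * (base w).1⁻¹ * ((base w).1 * (w.1.2 * (base w).2⁻¹) * (base w).1⁻¹)
          = (w.1.1 * w.1.2) * ((base w).1 * (base w).2)⁻¹ := by group
        _ = (w.1.2 * w.1.1) * ((base w).2 * (base w).1)⁻¹ := by rw [w.2.eq, hc.eq]
        _ = _ := by group
    · show π w.1.1 * π w.1.2 = π w.1.2 * π w.1.1
      rw [← map_mul, ← map_mul, w.2.eq]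
  have hinj : Function.Injective (fun w => (⟨F w, hF w⟩ :
      {u : SemidirectProduct ↥V (X ⧸ V) φ × SemidirectProduct ↥V (X ⧸ V) φ // Commute u.1 u.2})) := by
    intro w w' h
    have h' : F w = F w' := congrArg Subtype.val h
    have r1 : π w.1.1 = π w'.1.1 := congrArg (fun u => u.1.right) h'
    have r2 : π w.1.2 = π w'.1.2 := congrArg (fun u => u.2.right) h'
    have eb : base w = base w' := by simp only [base, r1, r2]
    have l1 : w.1.1 * (base w).1⁻¹ = w'.1.1 * (base w').1⁻¹ :=
      congrArg (fun u => ((u.1.left : ↥V) : X)) h'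
    have l2 : w.1.2 * (base w).2⁻¹ = w'.1.2 * (base w').2⁻¹ :=
      congrArg (fun u => ((u.2.left : ↥V) : X)) h'
    rw [eb] at l1 l2
    exact Subtype.ext (Prod.ext (mul_right_cancel l1) (mul_right_cancel l2))
  haveI : Finite (SemidirectProduct ↥V (X ⧸ V) φ) :=
    Finite.of_equiv _ SemidirectProduct.equivProd.symm
  have h1 := Nat.card_le_card_of_injective _ hinj
  rw [card_comm_eq_card_conjClasses_mul_card, card_comm_eq_card_conjClasses_mul_card,
    Nat.card_congr (SemidirectProduct.equivProd (φ := φ)), Nat.card_prod,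
    mul_comm (Nat.card ↥V) (Nat.card (X ⧸ V)),
    ← Subgroup.card_eq_card_quotient_mul_card_subgroup] at h1
  exact Nat.le_of_mul_le_mul_right h1 Nat.card_pos

end Cfsg.Agent.S4965
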