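import Cfsg.Statements.S4967
import Mathlib

set_option autoImplicit false
open Cfsg

namespace Cfsg.Agent.S4967

/-- The algebra generated by the image of an abelian group. -/
noncomputable abbrev algOf {F : Type*} [Field F] {H : Type*} [CommGroup H] {V : Type*} [AddCommGroup V]
    [Module F V] (ρ : Representation F H V) : Subalgebra F (Module.End F V) :=
  Algebra.adjoin F (Set.range ρ)

theorem self_dual_core {F : Type*} [Field F] [Fintype F] {H : Type*} [CommGroup H] [Finite H]
    {V : Type*} [AddCommGroup V] [Module F V] [FiniteDimensional F V] [Nontrivial V]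
    (ρ : Representation F H V) (hfaith : Function.Injective ρ)
    (hirr : ∀ U : Submodule F V, (∀ h : H, ∀ u ∈ U, ρ h u ∈ U) → U = ⊥ ∨ U = ⊤) :
    ((∃ B : LinearMap.BilinForm F V, B.Nondegenerate ∧ ∀ h : H, ∀ x y : V, B (ρ h x) (ρ h y) = B x y) →
      (Module.finrank F V = 1 → Nat.card H ≤ 2) ∧ (2 ≤ Module.finrank F V →
        Even (Module.finrank F V) ∧ Nat.card H ∣ Fintype.card F ^ (Module.finrank F V / 2) + 1)) ∧
    (Even (Module.finrank F V) → Nat.card H ∣ Fintype.card F ^ (Module.finrank F V / 2) + 1 →
      ∃ B : LinearMap.BilinForm F V, B.Nondegenerate ∧ ∀ h : H, ∀ x y : V, B (ρ h x) (ρ h y) = B x y) := by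
  classical
  haveI : Finite V := Module.finite_of_finite F
  have hcomm : ∀ a ∈ Set.range ρ, ∀ b ∈ Set.range ρ, a * b = b * a := by
    rintro _ ⟨a, rfl⟩ _ ⟨b, rfl⟩
    rw [← map_mul, mul_comm, map_mul]
  set A := algOf ρ with hA
  haveI : IsMulCommutative A := Algebra.isMulCommutative_adjoin F hcomm
  letI : CommRing A := { (inferInstance : Ring A) with mul_comm := fun a b => mul_comm' a b }
  haveI : Finite A := Finite.of_injective (fun a : A => ((a : Module.End F V) : V → V))
    (fun a b h => Subtype.ext (DFunLike.coe_injective h))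
  have hρA : ∀ h, ρ h ∈ A := fun h => Algebra.subset_adjoin ⟨h, rfl⟩
  -- every nonzero element is injective
  have hinj : ∀ a : A, a ≠ 0 → Function.Injective (a : Module.End F V) := by
    intro a ha
    rw [← LinearMap.ker_eq_bot]
    refine (hirr _ fun h u hu => ?_).resolve_right fun htop => ha ?_
    · rw [LinearMap.mem_ker] at hu ⊢
      have hc : (a : Module.End F V) * ρ h = ρ h * a :=
        congrArg Subtype.val (mul_comm a ⟨ρ h, hρA h⟩)
      rw [← Module.End.mul_apply, hc, Module.End.mul_apply, hu, map_zero]
    · exact Subtype.ext (LinearMap.ker_eq_top.mp htop)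
  haveI : Nontrivial A := ⟨0, 1, fun h => zero_ne_one (α := Module.End F V) (congrArg Subtype.val h)⟩
  haveI : NoZeroDivisors A := ⟨fun {a b} hab => by
    by_contra hne
    push Not at hne
    refine hne.2 (Subtype.ext (LinearMap.ext fun x => ?_))
    refine hinj a hne.1 ?_
    rw [← Module.End.mul_apply, ← Subalgebra.coe_mul, hab]
    simp⟩
  haveI : IsDomain A := NoZeroDivisors.to_isDomain _
  letI : Fintype A := Fintype.ofFinite A
  letI : Field A := Fintype.fieldOfDomain A
  obtain ⟨v, hv⟩ := exists_ne (0 : V)
  let ev : A →ₗ[F] V := (LinearMap.applyₗ v).comp A.val.toLinearMap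
  have hev : ∀ a : A, ev a = (a : Module.End F V) v := fun a => rfl
  have hevb : Function.Bijective ev := by
    constructor
    · rw [← LinearMap.ker_eq_bot, LinearMap.ker_eq_bot']
      intro a ha
      by_contra hne
      exact hv (hinj a hne (by rw [map_zero]; exact ha))
    · rw [← LinearMap.range_eq_top]
      refine (hirr _ ?_).resolve_left ?_
      · rintro h _ ⟨a, rfl⟩
        exact ⟨⟨ρ h, hρA h⟩ * a, rfl⟩
      · intro h
        apply hv
        have : v ∈ LinearMap.range ev := ⟨1, rfl⟩
        rwa [h, Submodule.mem_bot] at this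
  let e : A ≃ₗ[F] V := LinearEquiv.ofBijective ev hevb
  have hn : Module.finrank F A = Module.finrank F V := e.finrank_eq
  set n := Module.finrank F V with hn'
  set r := Fintype.card F with hr
  let φ : A ≃ₐ[F] A := FiniteField.frobeniusAlgEquivOfAlgebraic F A
  have hφ : ∀ (j : ℕ) (a : A), (φ ^ j) a = a ^ r ^ j := fun j a => by
    rw [AlgEquiv.coe_pow, FiniteField.coe_frobeniusAlgEquivOfAlgebraic_iterate]
  have hφn : orderOf φ = n := by
    rw [FiniteField.orderOf_frobeniusAlgEquivOfAlgebraic, hn]
  let ι : H →* A :=
    { toFun := fun h => ⟨ρ h, hρA h⟩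
      map_one' := Subtype.ext (map_one ρ)
      map_mul' := fun a b => Subtype.ext (map_mul ρ a b) }
  have hι : Function.Injective ι := fun a b h => hfaith (congrArg Subtype.val h)
  have hgen : ∀ f g : A ≃ₐ[F] A, (∀ h, f (ι h) = g (ι h)) → f = g := by
    intro f g hfg
    refine AlgEquiv.ext fun ⟨a, ha⟩ => ?_
    induction ha using Algebra.adjoin_induction with
    | mem x hx =>
      obtain ⟨h, rfl⟩ := hx
      exact hfg h
    | algebraMap c => exact (f.commutes c).trans (g.commutes c).symm
    | add x y hx hy ihx ihy =>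
      show f (⟨x, hx⟩ + ⟨y, hy⟩) = g (⟨x, hx⟩ + ⟨y, hy⟩)
      rw [map_add, map_add, ihx, ihy]
    | mul x y hx hy ihx ihy =>
      show f (⟨x, hx⟩ * ⟨y, hy⟩) = g (⟨x, hx⟩ * ⟨y, hy⟩)
      rw [map_mul, map_mul, ihx, ihy]
  haveI : IsCyclic H := isCyclic_of_injective_ringHom ι hι
  constructor
  · rintro ⟨B, hB, hinv⟩
    -- adjoints
    have hadj : ∀ a : A, ∃ a' : A, ∀ x y,
        B ((a : Module.End F V) x) y = B x ((a' : Module.End F V) y) := by
      rintro ⟨a, ha⟩
      induction ha using Algebra.adjoin_induction with
      | mem z hz =>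
        obtain ⟨h, rfl⟩ := hz
        refine ⟨ι h⁻¹, fun x y => ?_⟩
        show B (ρ h x) y = B x (ρ h⁻¹ y)
        rw [← hinv h⁻¹ (ρ h x) y, ← Module.End.mul_apply, ← map_mul, inv_mul_cancel, map_one,
          Module.End.one_apply]
      | algebraMap c =>
        refine ⟨algebraMap F A c, fun x y => ?_⟩
        simp [Module.algebraMap_end_apply]
      | add x y hx hy ihx ihy =>
        obtain ⟨x', hx'⟩ := ihx
        obtain ⟨y', hy'⟩ := ihy
        refine ⟨x' + y', fun u w => ?_⟩
        have h1 := hx' u w
        have h2 := hy' u w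
        simp only at h1 h2
        simp [h1, h2]
      | mul x y hx hy ihx ihy =>
        obtain ⟨x', hx'⟩ := ihx
        obtain ⟨y', hy'⟩ := ihy
        refine ⟨y' * x', fun u w => ?_⟩
        exact (hx' _ w).trans (hy' u _)
    choose adj hadj' using hadj
    have huniq : ∀ a b : A, (∀ x y, B ((a : Module.End F V) x) y = B x ((b : Module.End F V) y)) →
        adj a = b := fun a b hab => by
      refine Subtype.ext (LinearMap.ext fun y => ?_)
      rw [← sub_eq_zero]
      refine hB.2 _ fun x => ?_
      rw [map_sub, ← hadj' a x y, hab x y, sub_self]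
    let τ : A →ₐ[F] A :=
      { toFun := adj
        map_one' := huniq _ _ fun x y => rfl
        map_mul' := fun a b => huniq _ _ fun x y => by
          rw [mul_comm (adj a)]
          exact (hadj' a _ y).trans (hadj' b x _)
        map_zero' := huniq _ _ fun x y => by simp
        map_add' := fun a b => huniq _ _ fun x y => by simp [hadj' a x y, hadj' b x y]
        commutes' := fun c => huniq _ _ fun x y => by simp [Module.algebraMap_end_apply] }
    let τ' : A ≃ₐ[F] A := Algebra.IsAlgebraic.algEquivEquivAlgHom F A |>.symm τ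
    have hτ : ∀ h, τ' (ι h) = ι h⁻¹ := fun h => by
      show adj (ι h) = ι h⁻¹
      refine huniq _ _ fun x y => ?_
      show B (ρ h x) y = B x (ρ h⁻¹ y)
      rw [← hinv h⁻¹ (ρ h x) y, ← Module.End.mul_apply, ← map_mul, inv_mul_cancel, map_one,
        Module.End.one_apply]
    obtain ⟨⟨j, hj⟩, hjτ⟩ := (FiniteField.bijective_frobeniusAlgEquivOfAlgebraic_pow F A).2 τ'
    simp only at hjτ
    rw [hn] at hj
    have hττ : φ ^ (2 * j) = 1 := by
      refine hgen _ _ fun h => ?_
      rw [two_mul, pow_add, show φ ^ j = τ' from hjτ, AlgEquiv.mul_apply, hτ, hτ, inv_inv]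
      rfl
    have hdvd : n ∣ 2 * j := hφn ▸ orderOf_dvd_of_pow_eq_one hττ
    have hpow : ∀ h : H, h ^ (r ^ j + 1) = 1 := fun h => hι (by
      rw [pow_succ, map_mul, map_pow, ← hφ, show φ ^ j = τ' from hjτ, hτ, ← map_mul,
        inv_mul_cancel])
    constructor
    · intro h1
      obtain ⟨g, hg⟩ := IsCyclic.exists_ofOrder_eq_natCard (α := H)
      rw [← hg]
      apply Nat.le_of_dvd (by norm_num)
      have h := hpow g
      have hj0 : j = 0 := by omega
      rw [hj0, pow_zero] at h
      exact orderOf_dvd_of_pow_eq_one h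
    · intro h2
      rcases Nat.eq_zero_or_pos j with rfl | hjpos
      · exfalso
        -- all elements are scalars
        have hfix : φ = 1 := by
          refine hgen _ _ fun h => ?_
          have h' := hpow h
          rw [pow_zero] at h'
          have hsq : ι h * ι h = 1 := by rw [← map_mul, ← pow_two, h', map_one]
          rw [show φ (ι h) = (φ ^ 1) (ι h) by rw [pow_one], hφ, pow_one]
          show (ι h) ^ r = ι h
          rcases mul_self_eq_one_iff.mp hsq with e' | e'
          · rw [e', one_pow]
          · rw [e', show (-1 : A) = algebraMap F A (-1) by rw [map_neg, map_one], ← map_pow,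
              FiniteField.pow_card]
        rw [hfix, orderOf_one] at hφn
        omega
      · obtain ⟨k, hk⟩ := hdvd
        have hk1 : k = 1 := by
          rcases k with _ | _ | k
          · omega
          · rfl
          · exfalso; nlinarith
        subst hk1
        have hn2 : n = 2 * j := by omega
        refine ⟨⟨j, by omega⟩, ?_⟩
        rw [show n / 2 = j by omega]
        obtain ⟨g, hg⟩ := IsCyclic.exists_ofOrder_eq_natCard (α := H)
        rw [← hg]
        exact orderOf_dvd_of_pow_eq_one (hpow g)
  · intro he hdvd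
    let σ : A ≃ₐ[F] A := φ ^ (n / 2)
    have hσ : ∀ h, ι h * σ (ι h) = 1 := fun h => by
      rw [show σ (ι h) = ι h ^ r ^ (n / 2) from hφ _ _, ← map_pow, ← map_mul, ← pow_succ',
        orderOf_dvd_iff_pow_eq_one.mp ((orderOf_dvd_natCard h).trans hdvd), map_one]
    refine ⟨(Algebra.traceForm F A).compl₁₂ e.symm.toLinearMap
      (σ.toLinearEquiv.toLinearMap.comp e.symm.toLinearMap), ⟨fun x hx => ?_, fun y hy => ?_⟩, ?_⟩
    · apply e.symm.injective
      rw [map_zero]
      refine (traceForm_nondegenerate F A).1 _ fun z => ?_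
      have h := hx (e (σ.symm z))
      simpa using h
    · apply e.symm.injective
      rw [map_zero]
      apply σ.injective
      rw [map_zero]
      refine (traceForm_nondegenerate F A).2 _ fun z => ?_
      have h := hy (e z)
      simpa using h
    · intro h x y
      have hmul : ∀ w, e.symm (ρ h w) = ι h * e.symm w := fun w => by
        rw [LinearEquiv.symm_apply_eq]
        show ρ h w = (ρ h) (((e.symm w : A) : Module.End F V) v)
        congr 1
        exact (e.apply_symm_apply w).symm
      simp only [LinearMap.compl₁₂_apply, LinearMap.comp_apply, LinearEquiv.coe_coe,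
        AlgEquiv.toLinearEquiv_apply, Algebra.traceForm_apply, hmul, map_mul]
      congr 1
      rw [mul_mul_mul_comm, hσ, one_mul]


/-- Let F be a finite field with r elements and of characteristic p, H a finite abelian group of order prime to p, and V a faithful irreducible representation of H over F of dimension n (faithful: distinct elements act differently; irreducible: the only H-invariant subspaces are 0 and V). Call V self-dual when it carries a nondegenerate H-invariant bilinear form. If n = 1 and V is self-dual then H has order at most 2. If n ≥ 2 then V is self-dual if and only if n is even and the order of H divides r^(n/2) + 1. -/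
theorem result {F : Type*} [Field F] [Fintype F] (p : ℕ) [Fact p.Prime] [CharP F p] {H : Type*} [CommGroup H] [Finite H] (hcop : ¬ p ∣ Nat.card H) {V : Type*} [AddCommGroup V] [Module F V] [FiniteDimensional F V] (ρ : Representation F H V) (hfaith : Function.Injective ρ) (hirr : ∀ U : Submodule F V, (∀ h : H, ∀ u ∈ U, ρ h u ∈ U) → U = ⊥ ∨ U = ⊤) : (Module.finrank F V = 1 → (∃ B : LinearMap.BilinForm F V, B.Nondegenerate ∧ ∀ h : H, ∀ x y : V, B (ρ h x) (ρ h y) = B x y) → Nat.card H ≤ 2) ∧ (2 ≤ Module.finrank F V → ((∃ B : LinearMap.BilinForm F V, B.Nondegenerate ∧ ∀ h : H, ∀ x y : V, B (ρ h x) (ρ h y) = B x y) ↔ (Even (Module.finrank F V) ∧ Nat.card H ∣ Fintype.card F ^ (Module.finrank F V / 2) + 1))) := by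
  constructor
  · intro h1 hB
    haveI : Nontrivial V := Module.nontrivial_of_finrank_eq_succ h1
    exact ((self_dual_core ρ hfaith hirr).1 hB).1 h1
  · intro h2
    haveI : Nontrivial V := Module.nontrivial_of_finrank_pos (R := F) (by omega)
    exact ⟨fun hB => ((self_dual_core ρ hfaith hirr).1 hB).2 h2,
      fun h => (self_dual_core ρ hfaith hirr).2 h.1 h.2⟩

end Cfsg.Agent.S4967
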