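import Cfsg.Statements.S4969
import Cfsg.Agent.Lib.BlockHeights.Commutators
import Mathlib.Algebra.Order.Chebyshev
import Mathlib.Tactic.Linarith
import Mathlib.Analysis.SpecialFunctions.Pow.Real

set_option autoImplicit false
open Cfsg

namespace Cfsg.Agent.S4969

/-- Let G be a finite group with k conjugacy classes, g ∈ G, and N > 0. Then the sum over the irreducible complex characters χ of G with χ(1) ≥ N of |χ(g)|/χ(1) is at most √(k · #C_G(g)) / N. -/
theorem result {G : Type*} [Group G] [Finite G] (g : G) (N : ℝ) (hN : 0 < N) :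
    ∑ᶠ χ : Cfsg.IrrCharacter G, (if N ≤ ‖(χ : G → ℂ) 1‖ then ‖(χ : G → ℂ) g‖ / ‖(χ : G → ℂ) 1‖ else 0) ≤
      Real.sqrt ((Nat.card (ConjClasses G) : ℝ) * (Nat.card ↥(Subgroup.centralizer ({g} : Set G)) : ℝ)) / N := by
  classical
  haveI := Fintype.ofFinite G
  haveI := Fintype.ofFinite (IrrCharacter G)
  rw [finsum_eq_sum_of_fintype, ← Lib.Characters.card_irrCharacter]
  have h2 : ∑ χ : IrrCharacter G, ‖(χ : G → ℂ) g‖ ^ 2 =
      (Nat.card ↥(Subgroup.centralizer ({g} : Set G)) : ℝ) := by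
    have h := Lib.Characters.sum_irr_mul_conj g g
    rw [if_pos (IsConj.refl g)] at h
    have h' := congrArg Complex.re h
    simp only [Complex.mul_conj, Complex.re_sum, Complex.ofReal_re, Complex.natCast_re,
      Complex.normSq_eq_norm_sq] at h'
    exact h'
  calc ∑ χ : IrrCharacter G, (if N ≤ ‖(χ : G → ℂ) 1‖ then ‖(χ : G → ℂ) g‖ / ‖(χ : G → ℂ) 1‖ else 0)
      ≤ ∑ χ : IrrCharacter G, ‖(χ : G → ℂ) g‖ / N := by
        refine Finset.sum_le_sum fun χ _ => ?_
        split_ifs with hc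
        · exact div_le_div_of_nonneg_left (norm_nonneg _) hN hc
        · positivity
    _ = (∑ χ : IrrCharacter G, ‖(χ : G → ℂ) g‖) / N := (Finset.sum_div _ _ _).symm
    _ ≤ _ := by
        refine div_le_div_of_nonneg_right ?_ hN.le
        apply Real.le_sqrt_of_sq_le
        rw [← h2, Nat.card_eq_fintype_card]
        exact sq_sum_le_card_mul_sum_sq

end Cfsg.Agent.S4969
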