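import Cfsg.Statements.S4978
import Cfsg.Agent.Lib.BrauerStar.OrbitCount
import Cfsg.Agent.Lib.BrauerStar.NonVanish
import Cfsg.Agent.Lib.BrauerStar.Integral
import Cfsg.Agent.Lib.BrauerPairs.DefectPairs
import Cfsg.Agent.Lib.BrauerPairs.Saturation
import Cfsg.Agent.Lib.BlockHeights.PositiveHeight
import Cfsg.Agent.Lib.PLocal.FocalProper
import Mathlib.NumberTheory.LegendreSymbol.Basic
import Mathlib.RingTheory.ZMod

set_option autoImplicit false
set_option linter.style.haveILetI false
open Cfsg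

namespace Cfsg.Agent.S4978

open Cfsg.Agent.Lib.Blocks Cfsg.Agent.Lib.Characters Cfsg.Agent.Lib.BrauerPairs
  Cfsg.Agent.Lib.BlockHeights Cfsg.Agent.Lib.BrauerStar

/-- An invariant function summed over a free action. -/
theorem sum_free_action {Γ S R : Type*} [Group Γ] [Finite Γ] [Fintype S] [MulAction Γ S]
    [Fintype (MulAction.orbitRel.Quotient Γ S)] [CommSemiring R]
    (hfree : ∀ x : S, MulAction.stabilizer Γ x = ⊥) (f : S → R)
    (hinv : ∀ (γ : Γ) (x : S), f (γ • x) = f x) :
    ∑ x, f x = (Nat.card Γ : R) * ∑ ω : MulAction.orbitRel.Quotient Γ S, f ω.out := by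
  classical
  rw [← Finset.sum_fiberwise Finset.univ
    (fun x : S => (Quotient.mk'' x : MulAction.orbitRel.Quotient Γ S)) f, Finset.mul_sum]
  refine Finset.sum_congr rfl fun ω _ => ?_
  have hconst : ∀ x ∈ Finset.univ.filter
      (fun x : S => (Quotient.mk'' x : MulAction.orbitRel.Quotient Γ S) = ω), f x = f ω.out := by
    intro x hx
    have h1 : x ∈ MulAction.orbit Γ ω.out := by
      rw [← MulAction.orbitRel_apply]
      refine Quotient.exact' ?_
      rw [(Finset.mem_filter.1 hx).2, Quotient.out_eq']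
    obtain ⟨γ, hγ⟩ := h1
    rw [← hγ]
    exact hinv γ _
  rw [Finset.sum_congr rfl hconst, Finset.sum_const, nsmul_eq_mul]
  congr 2
  have h2 : (Finset.univ.filter
      (fun x : S => (Quotient.mk'' x : MulAction.orbitRel.Quotient Γ S) = ω) : Set S) =
      MulAction.orbit Γ ω.out := by
    ext x
    rw [Finset.coe_filter, Set.mem_ofPred_eq, ← MulAction.orbitRel_apply]
    simp only [Finset.mem_univ, true_and]
    constructor
    · intro hx
      refine Quotient.exact' ?_
      rw [hx, Quotient.out_eq']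
    · intro hx
      rw [← Quotient.out_eq' ω]
      exact Quotient.sound' hx
  rw [← Set.ncard_coe_finset, h2, ← Nat.card_coe_set_eq,
    Nat.card_congr (MulAction.orbitEquivQuotientStabilizer Γ ω.out), hfree,
    ← Subgroup.index_eq_card, Subgroup.index_bot]

section

variable {G : Type*} [Group G] [Fintype G] {p : ℕ} {M : Ideal AlgInt} [M.IsPrime]
  {B : Set (IrrCharacter G)}

/-- The reduced integers of a character of height zero. -/
theorem exists_reduced (hM : IsPModular p M) (hB : IsPBlock M B)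
    {χ : IrrCharacter G} (hχ : χ ∈ B) (hmin : nu p (χ : G → ℂ) = minExp p B) :
    ∃ n : IrrCharacter G → ℤ, (∀ ψ ∈ B, pairing p χ ψ = (p : ℤ) ^ minExp p B * n ψ) ∧
      (∀ ψ ∈ B, blockHeight p B (ψ : G → ℂ) = 0 → ¬ (p : ℤ) ∣ n ψ) ∧
      ∀ m ≤ 2, m ≤ blockDefect p B → ∀ [Fintype (HeightSet p B 0)],
        (p : ℤ) ^ m ∣ ∑ ψ : HeightSet p B 0, n ψ.1 ^ 2 := by
  classical
  haveI := Fintype.ofFinite (IrrCharacter G)
  set d := blockDefect p B with hd
  set k := minExp p B with hk
  have hdk : d + k = (Nat.card G).factorization p := blockDefect_add_minExp hB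
  have hp0 : (p : ℤ) ≠ 0 := by exact_mod_cast hM.1.ne_zero
  have hdvd : ∀ ψ ∈ B, ∃ n : ℤ, pairing p χ ψ = (p : ℤ) ^ k * n := fun ψ hψ =>
    dvd_trans (pow_dvd_pow _ (minExp_le hψ)) (pow_nu_dvd_pairing hM χ ψ)
  choose! n hn using hdvd
  refine ⟨n, hn, fun ψ hψ h0 hdiv => ?_, fun m hm2 hmd => ?_⟩
  · apply pairing_unit_of_minimal hM hB hχ hmin hψ
    rw [memLocalIdeal_pairing_div_iff hM, ← minExp_add_blockHeight (p := p) hψ, h0, add_zero,
      hn ψ hψ, pow_succ]
    exact mul_dvd_mul_left _ hdiv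
  · intro _
    have hpos : ∀ ψ ∈ B, blockHeight p B (ψ : G → ℂ) ≠ 0 → (p : ℤ) ^ m ∣ n ψ ^ 2 := by
      intro ψ hψ hne
      have h1 := pow_nu_dvd_pairing hM χ ψ
      rw [hn ψ hψ, ← minExp_add_blockHeight hψ, pow_add,
        mul_dvd_mul_iff_left (pow_ne_zero _ hp0)] at h1
      exact (pow_dvd_pow _ hm2).trans (pow_dvd_pow_of_dvd ((dvd_pow_self _ hne).trans h1) 2)
    have htot : ∑ ψ ∈ Finset.univ.filter (· ∈ B), n ψ ^ 2 = (p : ℤ) ^ d * n χ := by
      have h1 := sum_pairing_sq hM.1 χ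
      rw [← Finset.sum_filter_add_sum_filter_not Finset.univ (· ∈ B),
        Finset.sum_eq_zero (s := Finset.univ.filter (¬ · ∈ B)) fun ψ hψ => by
          rw [pairing_eq_zero hM hB hχ (Finset.mem_filter.1 hψ).2]; ring,
        add_zero, Finset.sum_congr rfl (fun ψ hψ => by rw [hn ψ (Finset.mem_filter.1 hψ).2]),
        hn χ hχ, ← hdk] at h1
      simp only [mul_pow, ← Finset.mul_sum] at h1
      rw [show (p : ℤ) ^ (d + k) * ((p : ℤ) ^ k * n χ) =
        ((p : ℤ) ^ k) ^ 2 * ((p : ℤ) ^ d * n χ) by ring] at h1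
      exact mul_left_cancel₀ (by positivity) h1
    have hsplit := Finset.sum_filter_add_sum_filter_not (Finset.univ.filter (· ∈ B))
      (fun ψ : IrrCharacter G => blockHeight p B (ψ : G → ℂ) = 0) (fun ψ => n ψ ^ 2)
    rw [htot, Finset.filter_filter] at hsplit
    have hsub : ∑ ψ ∈ Finset.univ.filter (fun ψ : IrrCharacter G => ψ ∈ B ∧
        blockHeight p B (ψ : G → ℂ) = 0), n ψ ^ 2 = ∑ ψ : HeightSet p B 0, n ψ.1 ^ 2 :=
      Finset.sum_subtype _ (fun ψ => by simp) _
    rw [hsub] at hsplit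
    refine (dvd_add_left (Finset.dvd_sum fun ψ hψ => ?_)).1
      (hsplit ▸ (pow_dvd_pow _ hmd).mul_right _)
    simp only [Finset.mem_filter, Finset.mem_univ, true_and] at hψ
    exact hpos ψ hψ.1 hψ.2

variable {P : Subgroup G} {e : Set (IrrCharacter (Subgroup.centralizer (P : Set G)))}
  {F : FusionSystem P}

/-- The star product does not change the pairing. -/
theorem pairing_eq_of_star (hM : IsPModular p M) (hmax : IsMaximalBrauerPair p M B P e)
    (hF : IsBlockFusionSystemOn p M B P e F) {lam : P →* ℂˣ} (hlam : IsFocTrivial F lam)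
    (χ : IrrCharacter G) {ψ ψ' : IrrCharacter G} (hψ : ψ ∈ B)
    (h : (ψ' : G → ℂ) = starFun p M (linWeight p M e lam) (ψ : G → ℂ)) :
    pairing p χ ψ' = pairing p χ ψ := by
  have h1 : (pairing p χ ψ' : ℂ) = (pairing p χ ψ : ℂ) := by
    rw [pairing_spec hM.1, pairing_spec hM.1]
    congr 1
    refine Finset.sum_congr rfl fun y _ => ?_
    by_cases hy : IsPRegular p y
    · have h2 : (ψ' : G → ℂ) y = (ψ : G → ℂ) y := by
        rw [h]
        refine starFun_apply_eq_self hM hmax.1.2.1 _ hψ y ?_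
        rw [pElt_eq hM.1 (isPPart_one_of_not_dvd hy)]
        exact fun f hf => linWeight_id hM hmax hF hlam hf
      rw [h2]
    · rw [regInd_of_singular hy, zero_mul, zero_mul]
  exact_mod_cast h1

/-- The conclusion when the focal subgroup has index `p`. -/
theorem count_of_index_eq [Fact p.Prime] (hM : IsPModular p M)
    (hmax : IsMaximalBrauerPair p M B P e) (hF : IsBlockFusionSystemOn p M B P e F)
    (hidx : (F.focalSubgroup.subgroupOf P).index = p) (hd : 2 ≤ blockDefect p B) :
    2 * p ≤ Nat.card (HeightSet p B 0) ∧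
      (p % 4 = 3 → 3 * p ≤ Nat.card (HeightSet p B 0)) := by
  classical
  have hB : IsPBlock M B := hmax.1.2.1
  haveI := focal_subgroupOf_normal (F := F)
  letI : CommGroup (P ⧸ F.focalSubgroup.subgroupOf P) :=
    { (inferInstance : Group (P ⧸ F.focalSubgroup.subgroupOf P)) with
      mul_comm := focal_quotient_comm }
  have hint : StarIntegral p M e F := fun lam hlam χ θ =>
    classInner_starFun_mem hM hmax hF lam hlam χ θ
  have hzero : HeightZeroNonvanishing p M B P := fun χ hχ h0 =>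
    exists_pair_pieceVal_ne_zero hM hmax hχ h0
  letI := starAction hM hmax hF hint 0
  set Γ := P ⧸ F.focalSubgroup.subgroupOf P →* ℂˣ with hΓ
  haveI : Fintype (HeightSet p B 0) := Fintype.ofFinite _
  haveI : Fintype (MulAction.orbitRel.Quotient Γ (HeightSet p B 0)) := Fintype.ofFinite _
  have hcard : Nat.card Γ = p := by
    rw [hΓ, CommGroup.card_monoidHom_of_hasEnoughRootsOfUnity, ← Subgroup.index_eq_card, hidx]
  have hstar : ∀ (γ : Γ) (x : HeightSet p B 0),
      ((γ • x).1 : G → ℂ) = starFun p M (linWeight p M e (liftChar γ)) (x.1 : G → ℂ) := fun γ x =>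
    (exists_star_height hM hmax hF hint (isFocTrivial_liftChar γ) x).choose_spec
  have hfree : ∀ x : HeightSet p B 0, MulAction.stabilizer Γ x = ⊥ := by
    intro x
    rw [eq_bot_iff]
    intro γ hγ
    rw [Subgroup.mem_bot]
    have h2 := eq_one_of_fixed_height_zero hM hmax hF hzero (isFocTrivial_liftChar γ) x.2.1 x.2.2
      ((hstar γ x).symm.trans (congrArg (fun y : HeightSet p B 0 => (y.1 : G → ℂ))
        (MulAction.mem_stabilizer_iff.1 hγ)))
    refine MonoidHom.ext fun q => ?_
    obtain ⟨y, rfl⟩ := QuotientGroup.mk_surjective q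
    exact DFunLike.congr_fun h2 y
  obtain ⟨χ, hχ, hmin⟩ := exists_nu_eq_minExp (p := p) (IsPBlock.nonempty hB)
  obtain ⟨n, hn, hunit, hsum⟩ := exists_reduced hM hB hχ hmin
  have hp0 : (p : ℤ) ≠ 0 := by exact_mod_cast hM.1.ne_zero
  have hinv : ∀ (γ : Γ) (x : HeightSet p B 0), n (γ • x).1 ^ 2 = n x.1 ^ 2 := by
    intro γ x
    have h1 := pairing_eq_of_star hM hmax hF (isFocTrivial_liftChar γ) χ x.2.1 (hstar γ x)
    rw [hn _ (γ • x).2.1, hn _ x.2.1] at h1
    rw [mul_left_cancel₀ (pow_ne_zero _ hp0) h1]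
  have hS := sum_free_action (Γ := Γ) hfree (fun x : HeightSet p B 0 => n x.1 ^ 2) hinv
  have hN := sum_free_action (Γ := Γ) (R := ℕ) hfree (fun _ : HeightSet p B 0 => 1) (fun _ _ => rfl)
  simp only [Finset.sum_const, Finset.card_univ, smul_eq_mul, mul_one, Nat.cast_id, hcard] at hN
  rw [Nat.card_eq_fintype_card, hN]
  have h2 := hsum 2 le_rfl hd
  rw [hS, hcard, pow_two, mul_dvd_mul_iff_left hp0] at h2
  set t := Fintype.card (MulAction.orbitRel.Quotient Γ (HeightSet p B 0)) with ht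
  have hu : ∀ ω : MulAction.orbitRel.Quotient Γ (HeightSet p B 0),
      ((n ω.out.1 : ℤ) : ZMod p) ≠ 0 := fun ω h =>
    hunit _ ω.out.2.1 ω.out.2.2 ((ZMod.intCast_zmod_eq_zero_iff_dvd _ _).1 h)
  have h3 := (ZMod.intCast_zmod_eq_zero_iff_dvd _ _).2 h2
  push_cast at h3
  have ht0 : t ≠ 0 := by
    intro h0
    rw [h0, mul_zero] at hN
    have : IsEmpty (HeightSet p B 0) := Fintype.card_eq_zero_iff.1 hN
    exact this.false ⟨χ, hχ, by have := minExp_add_blockHeight (p := p) hχ; omega⟩
  have ht1 : t ≠ 1 := by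
    intro h1
    obtain ⟨ω, hω⟩ := Fintype.card_eq_one_iff.1 h1
    rw [Fintype.sum_eq_single ω fun x hx => absurd (hω x) hx] at h3
    exact hu ω (pow_eq_zero_iff two_ne_zero |>.1 h3)
  refine ⟨by rw [mul_comm 2]; exact Nat.mul_le_mul_left p (by omega), fun h4 => ?_⟩
  rw [mul_comm 3]
  refine Nat.mul_le_mul_left p ?_
  by_contra hlt
  have ht2 : t = 2 := by omega
  obtain ⟨a, b, hab, huniv⟩ := Finset.card_eq_two.1 (Finset.card_univ.trans ht2)
  rw [huniv, Finset.sum_pair hab] at h3
  have hb := hu b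
  refine ZMod.mod_four_ne_three_of_sq_eq_neg_one
    (y := (n a.out.1 : ZMod p) / (n b.out.1 : ZMod p)) ?_ h4
  rw [div_pow, div_eq_iff (pow_ne_zero 2 hb), neg_one_mul]
  linear_combination h3

end

/-- Let p be a prime and B a p-block of the finite group G (relative to a maximal ideal M of the algebraic integers containing p) with a nontrivial defect group D whose automorphism group is a p-group (for a p-group D this is the same as its outer automorphism group being a p-group). Then the number of irreducible characters of height zero in B is divisible by p; if p > 3 this number is at least 2p, and if moreover p ≡ 3 (mod 4) it is at least 3p. -/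
theorem result {G : Type*} [Group G] [Finite G] (p : ℕ) [Fact p.Prime] (M : Ideal Cfsg.AlgInt) (hM : Cfsg.IsPModular p M) (B : Set (Cfsg.IrrCharacter G)) (hB : Cfsg.IsPBlock M B) (D : Subgroup G) (hD : Cfsg.IsDefectGroup p M B D) (hD1 : D ≠ ⊥) (hAut : IsPGroup p (MulAut ↥D)) : p ∣ Nat.card {χ : Cfsg.IrrCharacter G // χ ∈ B ∧ Cfsg.blockHeight p B (χ : G → ℂ) = 0} ∧ (3 < p → 2 * p ≤ Nat.card {χ : Cfsg.IrrCharacter G // χ ∈ B ∧ Cfsg.blockHeight p B (χ : G → ℂ) = 0}) ∧ (3 < p → p % 4 = 3 → 3 * p ≤ Nat.card {χ : Cfsg.IrrCharacter G // χ ∈ B ∧ Cfsg.blockHeight p B (χ : G → ℂ) = 0}) := by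
  classical
  haveI := Fintype.ofFinite G
  haveI := hM.2.1.isPrime
  have hp : p.Prime := hM.1
  change p ∣ Nat.card (HeightSet p B 0) ∧ (3 < p → 2 * p ≤ Nat.card (HeightSet p B 0)) ∧
    (3 < p → p % 4 = 3 → 3 * p ≤ Nat.card (HeightSet p B 0))
  haveI : Fintype (HeightSet p B 0) := Fintype.ofFinite _
  have hcD := card_isDefectGroup hM hB hD
  have hd1 : 1 ≤ blockDefect p B := by
    by_contra h
    rw [show blockDefect p B = 0 by omega, pow_zero] at hcD
    exact hD1 (Subgroup.eq_bot_of_card_eq D hcD)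
  obtain ⟨χ, hχ, hmin⟩ := exists_nu_eq_minExp (p := p) (IsPBlock.nonempty hB)
  have hne : Nonempty (HeightSet p B 0) :=
    ⟨⟨χ, hχ, by have := minExp_add_blockHeight (p := p) hχ; omega⟩⟩
  by_cases hp3 : p ≤ 3
  · obtain ⟨n, -, hunit, hsum⟩ := exists_reduced hM hB hχ hmin
    refine ⟨?_, fun h => absurd h (by omega), fun h => absurd h (by omega)⟩
    have h1 := hsum 1 (by omega) hd1
    rw [pow_one] at h1
    have h2 := (ZMod.intCast_zmod_eq_zero_iff_dvd _ _).2 h1
    push_cast at h2
    have hone : ∀ x : HeightSet p B 0, ((n x.1 : ℤ) : ZMod p) ^ 2 = 1 := by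
      intro x
      have hx : ((n x.1 : ℤ) : ZMod p) ≠ 0 := fun h =>
        hunit _ x.2.1 x.2.2 ((ZMod.intCast_zmod_eq_zero_iff_dvd _ _).1 h)
      have hp2 := hp.two_le
      have h3 := ZMod.pow_card_sub_one_eq_one hx
      rcases (by omega : p - 1 = 1 ∨ p - 1 = 2) with h | h
      · rw [h, pow_one] at h3
        rw [h3, one_pow]
      · rwa [h] at h3
    rw [Finset.sum_congr rfl fun x _ => hone x, Finset.sum_const, nsmul_one, Finset.card_univ] at h2
    rw [Nat.card_eq_fintype_card]
    exact (ZMod.natCast_eq_zero_iff _ _).1 h2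
  have hp5 : 5 ≤ p := by
    rcases (by omega : p = 4 ∨ 5 ≤ p) with h | h
    · subst h; norm_num at hp
    · exact h
  obtain ⟨e, hmax⟩ := exists_maximal_defect hM hB hD
  set F := blockFusion hM hmax with hFdef
  have hF : IsBlockFusionSystemOn p M B D e F := isBlockFusionSystemOn_blockFusion hM hmax
  have hDp : IsPGroup p D := hmax.1.1.1
  have hlt : F.focalSubgroup < D :=
    Cfsg.Agent.Lib.PLocal.FocalProper.focal_lt hp5 hDp F (isSaturated_blockFusionSystem hM hF)
      hD1 (hAut.to_subgroup _)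
  obtain ⟨j, hj⟩ := hDp.index (F.focalSubgroup.subgroupOf D)
  have hj0 : j ≠ 0 := by
    rintro rfl
    rw [pow_zero, Subgroup.index_eq_one, Subgroup.subgroupOf_eq_top] at hj
    exact hlt.not_ge hj
  have hdvd : p ^ j ∣ Nat.card (HeightSet p B 0) := hj ▸ index_dvd_card_height_zero hM hmax hF
    (fun lam hlam χ θ => classInner_starFun_mem hM hmax hF lam hlam χ θ)
    (fun χ hχ h0 => exists_pair_pieceVal_ne_zero hM hmax hχ h0)
  have hpd : p ∣ Nat.card (HeightSet p B 0) := (dvd_pow_self p hj0).trans hdvd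
  by_cases hj1 : j = 1
  · rw [hj1, pow_one] at hj
    have hd2 : 2 ≤ blockDefect p B := by
      by_contra h
      rw [show blockDefect p B = 1 by omega, pow_one] at hcD
      haveI : IsCyclic D := isCyclic_of_prime_card hcD
      haveI : Finite (MulAut D) := Finite.of_injective (fun α => α.toEquiv)
        MulEquiv.toEquiv_injective
      obtain ⟨i, hi⟩ := IsPGroup.iff_card.1 hAut
      rw [IsCyclic.card_mulAut, hcD, Nat.totient_prime hp] at hi
      rcases Nat.eq_zero_or_pos i with rfl | hi0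
      · (rw [pow_zero] at hi; omega)
      · have h1 : p ≤ p ^ i := Nat.le_self_pow hi0.ne' p
        omega
    obtain ⟨h2, h3⟩ := count_of_index_eq hM hmax hF hj hd2
    exact ⟨hpd, fun _ => h2, fun _ => h3⟩
  · have h1 : p * p ≤ Nat.card (HeightSet p B 0) := by
      refine le_trans ?_ (Nat.le_of_dvd Nat.card_pos hdvd)
      rw [← pow_two]
      exact Nat.pow_le_pow_right hp.pos (by omega)
    have h5 : 5 * p ≤ p * p := Nat.mul_le_mul_right p hp5
    exact ⟨hpd, fun _ => by omega, fun _ _ => by omega⟩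

end Cfsg.Agent.S4978
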