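import Cfsg.Statements.S4989
import Cfsg.Agent.Lib.BlockHeights.GaloisZero
import Mathlib.Tactic.Linarith

set_option autoImplicit false
open Cfsg

namespace Cfsg.Agent.S4989

/-- Let H be a subgroup of the finite group G and χ an irreducible complex character of G. Then the inner product of the restriction of χ to H with itself, (1/#H)·Σ_{h ∈ H} |χ(h)|², is at most 1 + #(Z ∖ H)/#H, where Z is the set of zeros of χ in G. -/
theorem result {G : Type*} [Group G] [Finite G] (H : Subgroup G) (χ : Cfsg.IrrCharacter G) : (Nat.card ↥H : ℝ)⁻¹ * ∑ᶠ h : ↥H, ‖(χ : G → ℂ) h‖ ^ 2 ≤ 1 + (Set.ncard ({x : G | (χ : G → ℂ) x = 0} \ (H : Set G)) : ℝ) / (Nat.card ↥H : ℝ) := by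
  classical
  haveI := Fintype.ofFinite G
  rw [finsum_eq_sum_of_fintype]
  have hch := Lib.Characters.irr_isCharacter χ
  set S : Finset G := Finset.univ.filter fun x => x ∉ H ∧ (χ : G → ℂ) x ≠ 0 with hS
  have hpow : Lib.BlockHeights.PowClosed S := by
    intro x hx k hk
    simp only [hS, Finset.mem_filter, Finset.mem_univ, true_and] at hx ⊢
    obtain ⟨m, hm⟩ := Lib.BlockHeights.exists_pow_inverse hk x
    exact ⟨fun hk' => hx.1 (hm ▸ H.pow_mem hk' m),
      fun h0 => hx.2 ((Lib.BlockHeights.eq_zero_of_pow_coprime hch hk).mp h0)⟩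
  have h1 := Lib.BlockHeights.card_le_sum_normSq hch S hpow
    (fun x hx => by simp only [hS, Finset.mem_filter] at hx; exact hx.2.2)
  have htot : ∑ x : G, ‖(χ : G → ℂ) x‖ ^ 2 = (Nat.card G : ℝ) := by
    have h := Lib.Characters.IsIrrCharacter.classInner_self χ.2
    unfold classInner at h
    rw [inv_mul_eq_one₀ Lib.Characters.natCard_ne_zero_complex] at h
    have h' := congrArg Complex.re h
    simp only [Complex.mul_conj, Complex.re_sum, Complex.ofReal_re, Complex.natCast_re,
      Complex.normSq_eq_norm_sq] at h'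
    exact h'.symm
  have hsplit : ∑ h : H, ‖(χ : G → ℂ) h‖ ^ 2 + ∑ x ∈ S, ‖(χ : G → ℂ) x‖ ^ 2 ≤
      ∑ x : G, ‖(χ : G → ℂ) x‖ ^ 2 := by
    rw [← Finset.sum_subtype (Finset.univ.filter fun x : G => x ∈ H) (fun x => by simp)
      (fun x => ‖(χ : G → ℂ) x‖ ^ 2), ← Finset.sum_union]
    · exact Finset.sum_le_sum_of_subset_of_nonneg (Finset.subset_univ _) (fun x _ _ => by positivity)
    · rw [Finset.disjoint_left]
      intro x hx hx'
      simp only [hS, Finset.mem_filter] at hx hx'
      exact hx'.2.1 hx.2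
  have hcount : (Nat.card G : ℝ) = Nat.card H + S.card +
      (Set.ncard ({x : G | (χ : G → ℂ) x = 0} \ (H : Set G)) : ℝ) := by
    have e1 : Nat.card H = (Finset.univ.filter fun x : G => x ∈ H).card := by
      rw [Nat.card_eq_fintype_card, Fintype.card_subtype]
    have e2 : Set.ncard ({x : G | (χ : G → ℂ) x = 0} \ (H : Set G)) =
        ((Finset.univ.filter fun x : G => ¬ x ∈ H).filter fun x => (χ : G → ℂ) x = 0).card := by
      rw [← Set.ncard_coe_finset]; congr 1; ext x; simp [and_comm]
    have e3 : S.card =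
        ((Finset.univ.filter fun x : G => ¬ x ∈ H).filter fun x => ¬ (χ : G → ℂ) x = 0).card := by
      rw [hS, Finset.filter_filter]
    rw [e1, e2, e3, Nat.card_eq_fintype_card, ← Finset.card_univ,
      ← Finset.card_filter_add_card_filter_not (s := Finset.univ) (fun x : G => x ∈ H),
      ← Finset.card_filter_add_card_filter_not
        (s := Finset.univ.filter fun x : G => ¬ x ∈ H) (fun x => (χ : G → ℂ) x = 0)]
    push_cast
    ring
  have hH : (0 : ℝ) < Nat.card H := by exact_mod_cast Nat.card_pos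
  rw [← div_eq_inv_mul, div_le_iff₀ hH, add_mul, one_mul, div_mul_cancel₀ _ hH.ne']
  linarith

end Cfsg.Agent.S4989
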