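import Cfsg.Statements.S4993
import Cfsg.Agent.Lib.PrimitiveNilpotent.Structure

set_option autoImplicit false
set_option linter.all false
open Cfsg

namespace Cfsg.Agent.S4993

open Cfsg.Agent.Lib Cfsg.Agent.Lib.Characters

universe u

variable {G : Type u} [Group G] [Fintype G]

/-- An irreducible character not induced from a proper subgroup is quasi-primitive. -/
theorem quasiPrimitive_of_primitive {χ : G → ℂ} (hχ : IsIrrCharacter G χ)
    (hprim : ∀ (H : Subgroup G), H ≠ ⊤ → ∀ θ : H → ℂ, IsCharacter H θ → indFun H θ ≠ χ) :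
    PrimitiveNilpotent.IsQuasiPrimitive χ := by
  classical
  intro A hA
  haveI := hA
  haveI := Fintype.ofFinite A
  obtain ⟨θ, hθ⟩ := Characters.IsCharacter.exists_constituent
    (Characters.IsCharacter.restrict (Characters.IsIrrCharacter.isCharacter hχ) A)
    (fun h => Characters.IsIrrCharacter.apply_one_ne_zero hχ (congrFun h 1))
  let T := inertia A (θ : A → ℂ)
  haveI := Fintype.ofFinite T
  have hT : T = ⊤ := by
    by_contra hne
    obtain ⟨ψ, hψ, hind, -⟩ := exists_clifford_correspondent A hχ θ.2 hθ T rfl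
      (le_inertia A (irr_isClassFunction θ))
    exact hprim T hne ψ (Characters.IsIrrCharacter.isCharacter hψ) hind
  have hres := restrict_eq_smul_of_invariant A hχ θ.2
    (fun g => (mem_inertia_iff A).1 (show g ∈ T by rw [hT]; exact Subgroup.mem_top g)) hθ
  obtain ⟨e, he⟩ := Characters.IsCharacter.exists_classInner_nat
    (Characters.IsCharacter.restrict (Characters.IsIrrCharacter.isCharacter hχ) A)
    (Characters.IsIrrCharacter.isCharacter θ.2)
  exact ⟨θ, e, θ.2, by rw [hres, he]⟩

/-- Induction commutes with inflation. -/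
theorem indFun_comap (K : Subgroup G) [K.Normal] [Fintype (G ⧸ K)] (H : Subgroup (G ⧸ K))
    (θ : H → ℂ) (g : G) :
    indFun (H.comap (QuotientGroup.mk' K)) (fun x => θ ⟨QuotientGroup.mk' K x, x.2⟩) g =
      indFun H θ (QuotientGroup.mk' K g) := by
  classical
  haveI := Fintype.ofFinite K
  set π := QuotientGroup.mk' K
  have hext : ∀ y : G, extendByZero (H.comap π) (fun x => θ ⟨π x, x.2⟩) y = extendByZero H θ (π y) := by
    intro y
    by_cases hy : π y ∈ H
    · rw [extendByZero_of_mem _ _ (show y ∈ H.comap π from hy), extendByZero_of_mem _ _ hy]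
    · rw [extendByZero_of_not_mem _ _ (show y ∉ H.comap π from hy), extendByZero_of_not_mem _ _ hy]
  have hcard : Nat.card (H.comap π) = Nat.card H * Nat.card K := by
    have h1 := (H.comap π).card_mul_index
    rw [H.index_comap_of_surjective (QuotientGroup.mk'_surjective K),
      Subgroup.card_eq_card_quotient_mul_card_subgroup K, ← H.card_mul_index] at h1
    exact Nat.mul_right_cancel (Nat.pos_of_ne_zero Subgroup.index_ne_zero_of_finite)
      (h1.trans (mul_right_comm _ _ _))
  simp only [indFun_apply, hext, map_mul, map_inv]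
  rw [Fintype.sum_equiv Subgroup.groupEquivQuotientProdSubgroup
    (fun x : G => extendByZero H θ ((π x)⁻¹ * π g * π x))
    (fun y : (G ⧸ K) × K => extendByZero H θ (y.1⁻¹ * π g * y.1)) (fun x => rfl),
    Fintype.sum_prod_type]
  simp only [Finset.sum_const, Finset.card_univ, ← Nat.card_eq_fintype_card, nsmul_eq_mul]
  rw [← Finset.mul_sum, hcard, Nat.cast_mul, mul_inv, mul_assoc,
    inv_mul_cancel_left₀ (Nat.cast_ne_zero.2 (Nat.card_pos (α := K)).ne')]

theorem main_faithful {χ : G → ℂ} (hχ : IsIrrCharacter G χ) (hf : ∀ g, χ g = χ 1 → g = 1)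
    (hqp : PrimitiveNilpotent.IsQuasiPrimitive χ)
    (hmeta : Group.IsNilpotent (G ⧸ fittingSubgroup G)) {p q : ℕ} [Fact p.Prime] [Fact q.Prime]
    (hpq : p ≠ q) (hprimes : ∀ r : ℕ, r.Prime → r ∣ Nat.card G → r = p ∨ r = q) {n : ℕ}
    (hn : χ 1 = n) : ∃ g : G, n ∣ (Subgroup.centralizer ({g} : Set G)).index := by
  let P : Sylow p G := default
  let Q : Sylow q G := default
  obtain ⟨V, _, φ, hφ, x, hx, hdx⟩ :=
    PrimitiveNilpotent.exists_element_for_prime hχ hf hqp hmeta hpq hprimes P Q
  obtain ⟨W, _, ψ, hψ, y, hy, hdy⟩ :=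
    PrimitiveNilpotent.exists_element_for_prime hχ hf hqp hmeta hpq.symm
      (fun r hr hrd => (hprimes r hr hrd).symm) Q P
  have hcard : n ∣ Nat.card G := by
    rw [← Subgroup.index_bot]
    exact Characters.IsIrrCharacter.degree_dvd_index_of_abelian hχ ⊥
      (fun a ha b hb => by rw [Subgroup.mem_bot.1 ha, Subgroup.mem_bot.1 hb]) hn
  refine ⟨x * y, (Nat.dvd_iff_prime_pow_dvd_dvd _ _).2 fun r k hr hk => ?_⟩
  rcases Nat.eq_zero_or_pos k with rfl | hk0
  · exact one_dvd _
  rcases hprimes r hr (((dvd_pow_self r hk0.ne').trans hk).trans hcard) with rfl | rfl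
  · exact hdx _ (by rw [map_mul, hφ y hy, mul_one]) n hn k hk
  · exact hdy _ (by rw [map_mul, hψ x hx, one_mul]) n hn k hk

/-- Let G be a group of odd order whose order has exactly two prime divisors and whose quotient by its Fitting subgroup is nilpotent (G is metanilpotent), and let χ be a primitive irreducible complex character of G (not induced from a character of any proper subgroup). Then χ(1) divides the size of some conjugacy class of G. -/
theorem result {G : Type*} [Group G] [Fintype G] (hodd : Odd (Nat.card G)) (h2 : (Nat.card G).primeFactors.card = 2) [hF : (Cfsg.fittingSubgroup G).Normal] (hmeta : Group.IsNilpotent (G ⧸ Cfsg.fittingSubgroup G)) (χ : Cfsg.IrrCharacter G) (hprim : ¬ ∃ (H : Subgroup G), H ≠ ⊤ ∧ ∃ θ : ↥H → ℂ, Cfsg.IsCharacter ↥H θ ∧ Cfsg.indFun H θ = (χ : G → ℂ)) : ∃ g : G, Cfsg.charDegree (χ : G → ℂ) ∣ (Subgroup.centralizer ({g} : Set G)).index := by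
  classical
  obtain ⟨p, q, hpq, hpf⟩ := Finset.card_eq_two.1 h2
  haveI : Fact p.Prime := ⟨Nat.prime_of_mem_primeFactors (n := Nat.card G) (by rw [hpf]; simp)⟩
  haveI : Fact q.Prime := ⟨Nat.prime_of_mem_primeFactors (n := Nat.card G) (by rw [hpf]; simp)⟩
  set K := charKernel (Characters.IsIrrCharacter.isCharacter χ.2)
  haveI := Fintype.ofFinite (G ⧸ K)
  obtain ⟨ψ, hψ, hχψ⟩ := Characters.IsIrrCharacter.exists_quotient χ.2 K fun k hk => hk
  set π := QuotientGroup.mk' K
  have hπ : Function.Surjective π := QuotientGroup.mk'_surjective K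
  have hv : ∀ g, (χ : G → ℂ) g = ψ (π g) := fun g => congrFun hχψ g
  have hf : ∀ g, ψ g = ψ 1 → g = 1 := by
    intro g hg
    obtain ⟨g, rfl⟩ := hπ g
    refine (QuotientGroup.eq_one_iff g).2 ?_
    show (χ : G → ℂ) g = (χ : G → ℂ) 1
    rw [hv, hv, hg, map_one]
  have hqp : PrimitiveNilpotent.IsQuasiPrimitive ψ := by
    refine quasiPrimitive_of_primitive hψ fun H hH θ hθ he => hprim ⟨H.comap π, fun e => hH ?_,
      fun x => θ ⟨π x, x.2⟩, Characters.IsCharacter.comp hθ (π.subgroupComap H), funext fun g => ?_⟩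
    · rw [← Subgroup.map_comap_eq_self_of_surjective hπ H, e, Subgroup.map_top_of_surjective π hπ]
    · rw [hv, ← he]
      exact indFun_comap K H θ g
  have hmeta' : Group.IsNilpotent ((G ⧸ K) ⧸ fittingSubgroup (G ⧸ K)) := by
    haveI := hmeta
    refine Group.nilpotent_of_surjective (QuotientGroup.map (fittingSubgroup G) (fittingSubgroup (G ⧸ K)) π
      (Subgroup.map_le_iff_le_comap.1 (Cores.map_fittingSubgroup_le π hπ))) fun y => ?_
    obtain ⟨y, rfl⟩ := QuotientGroup.mk_surjective y
    obtain ⟨y, rfl⟩ := hπ y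
    exact ⟨QuotientGroup.mk y, rfl⟩
  obtain ⟨n, -, hn⟩ := Characters.IsIrrCharacter.exists_apply_one hψ
  obtain ⟨g, hg⟩ := main_faithful hψ hf hqp hmeta' hpq (fun r hr hrd => by
    have h : r ∈ (Nat.card G).primeFactors := Nat.mem_primeFactors.2
      ⟨hr, hrd.trans (Subgroup.card_dvd_of_surjective π hπ), Nat.card_pos.ne'⟩
    rw [hpf, Finset.mem_insert, Finset.mem_singleton] at h
    exact h) hn
  obtain ⟨g, rfl⟩ := hπ g
  refine ⟨g, ?_⟩
  have hd : charDegree (χ : G → ℂ) = n := by
    rw [charDegree, hv, map_one, hn, Complex.natCast_re, Nat.floor_natCast]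
  rw [hd]
  refine hg.trans ((Subgroup.index_dvd_of_le ?_).trans
    (Subgroup.index_map_dvd (Subgroup.centralizer ({g} : Set G)) hπ))
  rintro _ ⟨c, hc, rfl⟩
  rw [SetLike.mem_coe, Subgroup.mem_centralizer_singleton_iff] at hc
  rw [Subgroup.mem_centralizer_singleton_iff, ← map_mul, ← map_mul, hc]

end Cfsg.Agent.S4993
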