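import Cfsg.Statements.S4997
import Cfsg.Agent.Lib.VanishingOrders.Bound

set_option autoImplicit false
open Cfsg

namespace Cfsg.Agent.S4997

/-- Let p be an odd prime and G a finite solvable group with exactly one conjugacy class consisting of vanishing elements (elements at which some irreducible complex character is zero) of order divisible by p. Let P be a Sylow p-subgroup of G. Then the order of P is at most p times the order of the largest normal p-subgroup of G. -/
theorem result {G : Type*} [Group G] [Finite G] (hsolv : Group.IsSolvable G) (p : ℕ) [Fact p.Prime] (hp : p ≠ 2) (h1 : Set.ncard {C : ConjClasses G | (∀ g ∈ C.carrier, ∃ χ : Cfsg.IrrCharacter G, (χ : G → ℂ) g = 0) ∧ ∃ g ∈ C.carrier, p ∣ orderOf g} = 1) (P : Sylow p G) : Nat.card ↥(P : Subgroup G) ≤ p * Nat.card ↥(Cfsg.pCore p G) := by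
  open Cfsg.Agent.Lib.VanishingOrders Cfsg.Agent.Lib.Cores in
  classical
  obtain ⟨C₀, hC₀⟩ := Set.ncard_eq_one.1 h1
  have hclass : ∀ x : G, VS p x → ConjClasses.mk x = C₀ := by
    intro x hx
    have : ConjClasses.mk x ∈ ({C₀} : Set (ConjClasses G)) := hC₀ ▸ (by
      refine ⟨fun g hg => ?_, x, ConjClasses.mem_carrier_mk, hx.1⟩
      obtain ⟨χ, hχ⟩ := hx.2
      rw [ConjClasses.mem_carrier_iff_mk_eq, ConjClasses.mk_eq_mk_iff_isConj, isConj_iff] at hg
      obtain ⟨c, rfl⟩ := hg
      refine ⟨χ, ?_⟩
      rw [← Cfsg.Agent.Lib.Characters.irr_isClassFunction χ g c]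
      exact hχ)
    exact this
  have hsame : ∀ x y : G, VS p x → VS p y → orderOf x = orderOf y := by
    intro x y hx hy
    obtain ⟨c, rfl⟩ := isConj_iff.1 (ConjClasses.mk_eq_mk_iff_isConj.1
      ((hclass x hx).trans (hclass y hy).symm))
    exact (MulEquiv.orderOf_eq (MulAut.conj c) x).symm
  have hd := card_map_dvd (p := p) hsolv hsame P
  have hO : Cfsg.pCore p G ≤ (P : Subgroup G) := pCore_le_sylow P
  have h2 := Subgroup.card_eq_card_quotient_mul_card_subgroup
    ((Cfsg.pCore p G).subgroupOf (P : Subgroup G))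
  rw [Nat.card_congr (Subgroup.subgroupOfEquivOfLe hO).toEquiv] at h2
  rw [h2]
  refine Nat.mul_le_mul_right _ (Nat.le_of_dvd (Fact.out : p.Prime).pos (dvd_trans (dvd_of_eq ?_) hd))
  rw [← MonoidHom.restrict_range]
  refine Nat.card_congr ((QuotientGroup.quotientMulEquivOfEq ?_).trans
    (QuotientGroup.quotientKerEquivRange _)).toEquiv
  rw [MonoidHom.ker_restrict, QuotientGroup.ker_mk']

end Cfsg.Agent.S4997
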