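import Cfsg.Statements.S5001
import Cfsg.Agent.Lib.BlockHeights.ExtendLinear
-- import your own Cfsg.Agent.* helpers here

set_option autoImplicit false
open Cfsg Cfsg.Agent.Lib.BlockHeights
set_option linter.style.haveILetI false

namespace Cfsg.Agent.S5001

/-- Let p be a prime, G a finite group and B a p-block of G (relative to a maximal ideal M of the algebraic integers containing p) with defect group D. Let Z be a central p-subgroup of G contained in D and λ a linear character of Z (a homomorphism to the nonzero complex numbers). Say an irreducible character χ of G lies over λ when χ(z) = χ(1)λ(z) for all z ∈ Z. If some irreducible character in B lying over λ has height zero, then λ extends to a linear character of D. -/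
theorem result {G : Type*} [Group G] [Finite G] (p : ℕ) [Fact p.Prime] (M : Ideal Cfsg.AlgInt) (hM : Cfsg.IsPModular p M) (B : Set (Cfsg.IrrCharacter G)) (hB : Cfsg.IsPBlock M B) (D : Subgroup G) (hD : Cfsg.IsDefectGroup p M B D) (Z : Subgroup G) (hZc : Z ≤ Subgroup.center G) (hZp : IsPGroup p ↥Z) (hZD : Z ≤ D) (lam : ↥Z →* ℂˣ) (χ : Cfsg.IrrCharacter G) (hχ : χ ∈ B) (hover : (∀ z : ↥Z, (χ : G → ℂ) z = (χ : G → ℂ) 1 * (lam z : ℂ))) (h0 : Cfsg.blockHeight p B (χ : G → ℂ) = 0) : (∃ μ : ↥D →* ℂˣ, ∀ z : ↥Z, μ ⟨(z : G), hZD z.2⟩ = lam z) := by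
  classical
  haveI := Fintype.ofFinite G
  haveI := Cfsg.Agent.Lib.Blocks.isPrime_of_isPModular hM
  refine exists_linear_extension hM hB hD hZD lam hχ (fun z x => ?_) h0
  have hcl := Cfsg.Agent.Lib.Characters.irr_isClassFunction χ
  obtain ⟨n, ρ, hρ, hχρ⟩ := χ.2
  haveI := hρ
  have hcomm : ∀ y : G, ρ (z : G) * ρ y = ρ y * ρ (z : G) := fun y => by
    rw [← map_mul, ← map_mul, Subgroup.mem_center_iff.1 (hZc z.2) y]
  obtain ⟨c, hc⟩ := Cfsg.Agent.Lib.Characters.exists_smul_of_commute ρ (ρ (z : G)) hcomm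
  have hval : ∀ y : G, (χ : G → ℂ) ((z : G) * y) = c * (χ : G → ℂ) y := by
    intro y
    rw [← hχρ]
    show LinearMap.trace ℂ _ (ρ ((z : G) * y)) = _
    rw [map_mul, hc, smul_mul_assoc, map_smul, smul_eq_mul]
    rfl
  have h1 := hval 1
  rw [mul_one, hover z, mul_comm c] at h1
  rw [hval x, mul_left_cancel₀
    (Cfsg.Agent.Lib.Characters.IsIrrCharacter.apply_one_ne_zero χ.2) h1]

end Cfsg.Agent.S5001
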