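import Cfsg.Statements.S5005
import Cfsg.Agent.Lib.Compute.SporEquiv
import Cfsg.Agent.Lib.Compute.M22Syl2
import Cfsg.Agent.Lib.Compute.M22BlockData

set_option autoImplicit false
open Cfsg

namespace Cfsg.Agent.S5005
open Cfsg.Agent.Lib.Compute

/-- All irreducible complex characters of the Mathieu group `M₂₂` lie in a single 2-block: any two of them lie in the same block relative to every maximal ideal of the algebraic integers containing 2. -/
theorem result (M : Ideal Cfsg.AlgInt) (hM : Cfsg.IsPModular 2 M)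
    (χ ψ : Cfsg.IrrCharacter ↥Cfsg.Spor.M22) : Cfsg.SameBlock M (χ : ↥Cfsg.Spor.M22 → ℂ) (ψ : ↥Cfsg.Spor.M22 → ℂ) := by
  obtain ⟨e⟩ := spor_M22_equiv
  haveI : Fact (Nat.Prime 2) := ⟨Nat.prime_two⟩
  haveI := Cfsg.Agent.Lib.Blocks.isPrime_of_isPModular hM
  haveI : Fintype ↥Cfsg.Spor.M22 := Fintype.ofFinite _
  have hord : certOrder cert2 = 2 ^ 7 * 3465 := by decide +kernel
  have hfull : (certOrder cert2).factorization 2 = 7 := by
    rw [hord, Nat.factorization_mul (by decide) (by decide), Finsupp.add_apply,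
      Nat.factorization_eq_zero_of_not_dvd (n := 3465) (by decide), Nat.prime_two.factorization_pow,
      Finsupp.single_eq_same, add_zero]
  obtain ⟨D11, hq11, hk11, hn11⟩ := exists_primeData (p := 2) e chk_cert2 m22Cyc11
    (by norm_num [m22Cyc11]) (by decide +kernel)
  obtain ⟨D7, hq7, hk7, hn7⟩ := exists_primeData (p := 2) e chk_cert2 m22Cyc7
    (by norm_num [m22Cyc7]) (by decide +kernel)
  obtain ⟨D5, hq5, hk5, hn5⟩ := exists_primeData (p := 2) e chk_cert2 m22Cyc5
    (by norm_num [m22Cyc5]) (by decide +kernel)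
  refine sameBlock_of_constrained hM (hcon_of_cert e chk_cert2 (cS := m22Syl2) (witS := m22Syl2Wit)
    (by decide +kernel) (by decide +kernel) (a := 7) (by decide +kernel) hfull
    [m22Rep0] (by decide +kernel) (wit := m22SylRepWit) (by decide +kernel))
    (fun χ => ?_) χ ψ
  refine factorization_charDegree_lt (a := 7) (r := 3465) Nat.prime_two ?_ (by decide)
    ![D11, D7, D5] ![(11, 0, 8064), (7, 0, 21120), (5, 0, 22176)] ?_ (by decide +kernel) (by decide) (B := 8) (by norm_num) (by decide +kernel) χ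
  · rw [← Nat.card_congr e.toEquiv, card_grp chk_cert2, hord]
  · intro i
    fin_cases i
    · exact ⟨hq11, hk11, hn11⟩
    · exact ⟨hq7, hk7, hn7⟩
    · exact ⟨hq5, hk5, hn5⟩

end Cfsg.Agent.S5005
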