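import Cfsg.Statements.S5006
import Cfsg.Agent.Lib.Compute.M24
import Cfsg.Agent.Lib.Compute.M24Syl2
import Cfsg.Agent.Lib.Compute.M24BlockChecks

set_option autoImplicit false
open Cfsg

namespace Cfsg.Agent.S5006
open Cfsg.Agent.Lib.Compute

/-- All irreducible complex characters of the Mathieu group `M₂₄` lie in a single 2-block: any two of them lie in the same block relative to every maximal ideal of the algebraic integers containing 2. -/
theorem result (M : Ideal Cfsg.AlgInt) (hM : Cfsg.IsPModular 2 M)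
    (χ ψ : Cfsg.IrrCharacter ↥Cfsg.M24) : Cfsg.SameBlock M (χ : ↥Cfsg.M24 → ℂ) (ψ : ↥Cfsg.M24 → ℂ) := by
  have e := equivM24
  haveI : Fact (Nat.Prime 2) := ⟨Nat.prime_two⟩
  haveI := Cfsg.Agent.Lib.Blocks.isPrime_of_isPModular hM
  haveI : Fintype ↥Cfsg.M24 := Fintype.ofFinite _
  have hord : certOrder m24Cert = 2 ^ 10 * 239085 := by decide +kernel
  have hfull : (certOrder m24Cert).factorization 2 = 10 := by
    rw [hord, Nat.factorization_mul (by decide) (by decide), Finsupp.add_apply,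
      Nat.factorization_eq_zero_of_not_dvd (n := 239085) (by decide), Nat.prime_two.factorization_pow,
      Finsupp.single_eq_same, add_zero]
  obtain ⟨D23, hq23, hk23, hn23⟩ := exists_primeData (p := 2) e m24Cert_ok m24Cyc23
    (by norm_num [m24Cyc23]) cycOk_m24Cyc23
  obtain ⟨D11, hq11, hk11, hn11⟩ := exists_primeData (p := 2) e m24Cert_ok m24Cyc11
    (by norm_num [m24Cyc11]) cycOk_m24Cyc11
  obtain ⟨D7, hq7, hk7, hn7⟩ := exists_primeData (p := 2) e m24Cert_ok m24Cyc7
    (by norm_num [m24Cyc7]) cycOk_m24Cyc7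
  obtain ⟨D5, hq5, hk5, hn5⟩ := exists_primeData (p := 2) e m24Cert_ok m24Cyc5
    (by norm_num [m24Cyc5]) cycOk_m24Cyc5
  obtain ⟨D3, hq3, hk3, hn3⟩ := exists_primeData (p := 2) e m24Cert_ok m24Cyc3
    (by norm_num [m24Cyc3]) cycOk_m24Cyc3
  refine sameBlock_of_constrained hM (hcon_of_cert e m24Cert_ok (cS := m24Syl2) (witS := m24Syl2WitA)
    (by decide +kernel) (by decide +kernel) (a := 10) (by decide +kernel) hfull
    [m24Rep0, m24Rep1] (by decide +kernel) (wit := m24SylRepWit) (by decide +kernel))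
    (fun χ => ?_) χ ψ
  refine factorization_charDegree_lt (a := 10) (r := 239085) Nat.prime_two ?_ (by decide)
    ![D23, D11, D7, D5, D3] ![(23, 0, 967680), (11, 0, 2225664), (7, 1, 1943040), (5, 2, 1020096), (3, 3, 242880)] ?_ (by decide +kernel) (by decide) (B := 16) (by norm_num) (by decide +kernel) χ
  · rw [← Nat.card_congr e.toEquiv, card_grp m24Cert_ok, hord]
  · intro i
    fin_cases i
    · exact ⟨hq23, hk23, hn23⟩
    · exact ⟨hq11, hk11, hn11⟩
    · exact ⟨hq7, hk7, hn7⟩
    · exact ⟨hq5, hk5, hn5⟩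
    · exact ⟨hq3, hk3, hn3⟩

end Cfsg.Agent.S5006
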