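import Cfsg.Statements.S5011
-- import your own Cfsg.Agent.* helpers here

set_option autoImplicit false
open Cfsg

namespace Cfsg.Agent.S5011

/-- Let G be a finite non-abelian simple group and ρ an irreducible complex representation of G on a space of dimension greater than one (irreducible in the sense that the only subspaces invariant under every ρ(x) are 0 and the whole space). Then for every non-identity element g of G, the centralizer of g does not act irreducibly: there is a non-zero proper subspace invariant under ρ(c) for every c commuting with g. -/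
theorem result {G : Type*} [Group G] [Finite G] [IsSimpleGroup G]
    (hG : ¬ IsMulCommutative G) {V : Type*} [AddCommGroup V] [Module ℂ V] [FiniteDimensional ℂ V]
    (ρ : Representation ℂ G V)
    (hirr : ∀ W : Submodule ℂ V, (∀ x : G, ∀ v ∈ W, ρ x v ∈ W) → W = ⊥ ∨ W = ⊤)
    (hdim : 1 < Module.finrank ℂ V) (g : G) (hg : g ≠ 1) :
    ∃ W : Submodule ℂ V, W ≠ ⊥ ∧ W ≠ ⊤ ∧ ∀ c ∈ Subgroup.centralizer ({g} : Set G), ∀ v ∈ W, ρ c v ∈ W := by
  obtain ⟨μ, hμ⟩ : ∃ μ : ℂ, Module.End.HasEigenvalue (ρ g) μ := by
    haveI : Nontrivial V := Module.nontrivial_of_finrank_pos (by omega : 0 < Module.finrank ℂ V)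
    exact Module.End.exists_eigenvalue (ρ g)
  refine ⟨Module.End.eigenspace (ρ g) μ, hμ, ?_, ?_⟩
  · intro htop
    have hsc : ∀ v : V, ρ g v = μ • v := fun v =>
      Module.End.mem_eigenspace_iff.mp (htop ▸ Submodule.mem_top)
    let K : Subgroup G := (ρ : G →* Module.End ℂ V).ker
    rcases (inferInstance : K.Normal).eq_bot_or_eq_top with hK | hK
    · have hcen : g ∈ Subgroup.center G := by
        rw [Subgroup.mem_center_iff]
        intro x
        apply (MonoidHom.ker_eq_bot_iff _).mp hK
        rw [map_mul, map_mul]
        ext v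
        simp [Module.End.mul_apply, hsc]
      rcases (inferInstance : (Subgroup.center G).Normal).eq_bot_or_eq_top with h | h
      · rw [h, Subgroup.mem_bot] at hcen; exact hg hcen
      · exact hG ⟨⟨fun a b => (Subgroup.mem_center_iff.mp (h ▸ Subgroup.mem_top b) a)⟩⟩
    · haveI : Nontrivial V := Module.nontrivial_of_finrank_pos (by omega : 0 < Module.finrank ℂ V)
      obtain ⟨v, hv⟩ := exists_ne (0 : V)
      rcases hirr (Submodule.span ℂ {v}) (fun x w hw => by
        have : ρ x = 1 := by
          have : x ∈ K := hK ▸ Subgroup.mem_top x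
          exact this
        rw [this]; exact hw) with h | h
      · exact hv (Submodule.span_singleton_eq_bot.mp h)
      · have h1 := finrank_span_singleton (K := ℂ) hv
        rw [h, finrank_top] at h1
        omega
  · intro c hc v hv
    rw [Module.End.mem_eigenspace_iff] at hv ⊢
    have hcomm : g * c = c * g := Subgroup.mem_centralizer_singleton_iff.mp hc |>.symm
    calc ρ g (ρ c v) = ρ (g * c) v := by rw [map_mul]; rfl
      _ = ρ (c * g) v := by rw [hcomm]
      _ = ρ c (ρ g v) := by rw [map_mul]; rfl
      _ = μ • ρ c v := by rw [hv, map_smul]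

end Cfsg.Agent.S5011
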