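import Cfsg.Statements.S5013


set_option autoImplicit false
open Cfsg

namespace Cfsg.Agent.S5013


/-- In a rank one group with unipotent subgroups A and B (conjugation written g H g⁻¹), for every non-identity a in A the non-identity b in B with b⁻¹ A b = a⁻¹ B a is unique, every non-identity b in B arises in this way from exactly one such a (so a ↦ b(a) is a bijection between the non-identity elements of A and of B), and no non-identity element of A normalizes B (and vice versa). -/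
theorem result {G : Type*} [Group G] {A B : Subgroup G} (h : Cfsg.IsRankOnePair A B) :
    (∀ a ∈ A, a ≠ 1 → ∃! b : G, b ∈ B ∧ b ≠ 1 ∧ Cfsg.conjBy A b⁻¹ = Cfsg.conjBy B a⁻¹) ∧
    (∀ b ∈ B, b ≠ 1 → ∃! a : G, a ∈ A ∧ a ≠ 1 ∧ Cfsg.conjBy A b⁻¹ = Cfsg.conjBy B a⁻¹) ∧
    A ⊓ Subgroup.normalizer (B : Set G) = ⊥ ∧ B ⊓ Subgroup.normalizer (A : Set G) = ⊥ := by
  have key : ∀ (A B : Subgroup G), Cfsg.IsRankOnePair A B → B ⊓ Subgroup.normalizer (A : Set G) = ⊥ := by
    intro A B h
    rw [Subgroup.eq_bot_iff_forall]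
    rintro b ⟨hb, hbn⟩
    by_contra hb1
    obtain ⟨a, ha, ha1, he⟩ := h.cond_right b hb hb1
    apply h.ne
    have hA : Cfsg.conjBy A b⁻¹ = A := by
      ext x
      have := Subgroup.mem_normalizer_iff.mp hbn
      simp only [Cfsg.conjBy, Subgroup.mem_map_equiv, MulAut.conj_symm_apply, inv_inv]
      exact (this x).symm
    rw [hA] at he
    ext x
    have h' := SetLike.ext_iff.mp he (a⁻¹ * x * a)
    simp only [Cfsg.conjBy, Subgroup.mem_map_equiv, MulAut.conj_symm_apply, inv_inv] at h'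
    have e : a * (a⁻¹ * x * a) * a⁻¹ = x := by group
    rw [e] at h'
    rw [h']
    constructor
    · intro hx
      exact A.mul_mem (A.mul_mem (A.inv_mem ha) hx) ha
    · intro hx
      have := A.mul_mem (A.mul_mem ha hx) (A.inv_mem ha)
      rwa [e] at this
  have uniq : ∀ (A B : Subgroup G), Cfsg.IsRankOnePair A B → ∀ b ∈ B, ∀ b' ∈ B,
      Cfsg.conjBy A b⁻¹ = Cfsg.conjBy A b'⁻¹ → b = b' := by
    intro A B h b hb b' hb' he
    have : b' * b⁻¹ ∈ B ⊓ Subgroup.normalizer (A : Set G) := by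
      refine ⟨B.mul_mem hb' (B.inv_mem hb), ?_⟩
      change b' * b⁻¹ ∈ Subgroup.normalizer (A : Set G)
      rw [Subgroup.mem_normalizer_iff]
      intro x
      have h' := SetLike.ext_iff.mp he (b⁻¹ * x * b)
      simp only [Cfsg.conjBy, Subgroup.mem_map_equiv, MulAut.conj_symm_apply, inv_inv] at h'
      have e : b * (b⁻¹ * x * b) * b⁻¹ = x := by group
      rw [e] at h'
      rw [h']
      constructor <;> intro h'' <;> convert h'' using 1 <;> group
    rw [key A B h, Subgroup.mem_bot, mul_inv_eq_one] at this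
    exact this.symm
  refine ⟨?_, ?_, key B A (Cfsg.RankOnePair_symm h), key A B h⟩
  · intro a ha ha1
    obtain ⟨b, hb, hb1, he⟩ := h.cond_left a ha ha1
    exact ⟨b, ⟨hb, hb1, he⟩, fun b' ⟨hb', _, he'⟩ => uniq A B h b' hb' b hb (he'.trans he.symm)⟩
  · intro b hb hb1
    obtain ⟨a, ha, ha1, he⟩ := h.cond_right b hb hb1
    exact ⟨a, ⟨ha, ha1, he.symm⟩, fun a' ⟨ha', _, he'⟩ =>
      uniq B A (Cfsg.RankOnePair_symm h) a' ha' a ha (he'.symm.trans he.symm)⟩

end Cfsg.Agent.S5013
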