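import Cfsg.Statements.S5014
import Cfsg.Agent.Lib.RootSub.RankOne

set_option autoImplicit false
open Cfsg

namespace Cfsg.Agent.S5014


/-- Let X = ⟨A, B⟩ be a rank one group with unipotent subgroups A and B and let Ω be the set of conjugates of A under X. Then Ω has at least three members, X acts doubly transitively on Ω by conjugation (any two ordered pairs of distinct members are carried to one another by a single element of X), and A acts regularly on Ω with A removed: for C, D in Ω different from A there is exactly one element of A conjugating C to D. -/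
theorem result {G : Type*} [Group G] {A B : Subgroup G} (h : Cfsg.IsRankOnePair A B) :
    (∃ C₁ ∈ Cfsg.unipotentSubgroups A B, ∃ C₂ ∈ Cfsg.unipotentSubgroups A B, ∃ C₃ ∈ Cfsg.unipotentSubgroups A B,
      C₁ ≠ C₂ ∧ C₁ ≠ C₃ ∧ C₂ ≠ C₃) ∧
    (∀ C₁ ∈ Cfsg.unipotentSubgroups A B, ∀ C₂ ∈ Cfsg.unipotentSubgroups A B, ∀ D₁ ∈ Cfsg.unipotentSubgroups A B,
      ∀ D₂ ∈ Cfsg.unipotentSubgroups A B, C₁ ≠ C₂ → D₁ ≠ D₂ →
        ∃ x ∈ A ⊔ B, Cfsg.conjBy C₁ x = D₁ ∧ Cfsg.conjBy C₂ x = D₂) ∧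
    (∀ C ∈ Cfsg.unipotentSubgroups A B, ∀ D ∈ Cfsg.unipotentSubgroups A B, C ≠ A → D ≠ A →
      ∃! a : G, a ∈ A ∧ Cfsg.conjBy C a = D) := by
  open Lib.RootSub in
  obtain ⟨a, ha, ha1⟩ := exists_ne_one_left h
  open Lib.RootSub in
  refine ⟨⟨A, left_mem_unipotents, B, right_mem_unipotents h, Cfsg.conjBy B a,
      conj_mem_unipotents (right_mem_unipotents h) (Subgroup.mem_sup_left ha), h.ne,
      (conjBy_right_ne_left h ha).symm, fun e => ha1 (eq_one_of_fix h ha e.symm)⟩,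
    fun C₁ h1 C₂ h2 D₁ h3 D₂ h4 hC hD => two_transitive h h1 h2 h3 h4 hC hD, ?_⟩
  intro C hC D hD hCA hDA
  obtain ⟨c, hc, rfl⟩ := (Lib.RootSub.unipotent_cases h hC).resolve_left hCA
  obtain ⟨d, hd, rfl⟩ := (Lib.RootSub.unipotent_cases h hD).resolve_left hDA
  refine ⟨d * c⁻¹, ⟨A.mul_mem hd (A.inv_mem hc), by simp [Lib.RootSub.conjBy_conjBy]⟩, ?_⟩
  rintro y ⟨hy, he⟩
  rw [Lib.RootSub.conjBy_conjBy] at he
  have h1 := Lib.RootSub.eq_one_of_fix h (A.mul_mem (A.inv_mem hd) (A.mul_mem hy hc)) (by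
    rw [← Lib.RootSub.conjBy_conjBy, he, Lib.RootSub.conjBy_conjBy, inv_mul_cancel,
      Lib.RootSub.conjBy_one])
  rw [inv_mul_eq_one] at h1
  rw [h1, mul_inv_cancel_right]

end Cfsg.Agent.S5014
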