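import Cfsg.Statements.S5015
import Cfsg.Agent.Lib.RootSub.RankOne

set_option autoImplicit false
open Cfsg

namespace Cfsg.Agent.S5015


/-- Let a group Y act doubly transitively on a set Ω with at least three points, and suppose that the stabilizer of a point α contains a nilpotent subgroup A, normalized by that stabilizer, which acts regularly on the points other than α. Then for any y in Y moving α, the subgroups A and y A y⁻¹ are the unipotent subgroups of a rank one group, and the normal closure of A in Y (the subgroup generated by all conjugates of A) is generated by A and y A y⁻¹ alone. -/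
theorem result {Y Ω : Type*} [Group Y] [MulAction Y Ω]
    (h2 : MulAction.IsMultiplyPretransitive Y Ω 2) (hΩ : 3 ≤ ENat.card Ω) (α : Ω) (A : Subgroup Y)
    (hA : A ≤ MulAction.stabilizer Y α) (hAn : ∀ y ∈ MulAction.stabilizer Y α, Cfsg.conjBy A y = A)
    (hnil : Group.IsNilpotent A) (hreg : ∀ β γ : Ω, β ≠ α → γ ≠ α → ∃! a : Y, a ∈ A ∧ a • β = γ)
    (y : Y) (hy : y ∉ MulAction.stabilizer Y α) :
    Cfsg.IsRankOnePair A (Cfsg.conjBy A y) ∧ Subgroup.normalClosure (A : Set Y) = A ⊔ Cfsg.conjBy A y := by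
  classical
  haveI := h2
  haveI : MulAction.IsPretransitive Y Ω := by
    rw [← MulAction.is_one_pretransitive_iff]
    exact MulAction.isMultiplyPretransitive_of_le' (n := 2) one_le_two
      (le_trans (by norm_num) hΩ)
  rw [MulAction.mem_stabilizer_iff] at hy
  set β := y • α with hβ
  set B := Cfsg.conjBy A y with hB
  have heq : ∀ z w : Y, z • α = w • α → Cfsg.conjBy A z = Cfsg.conjBy A w := by
    intro z w h
    have hs : w⁻¹ * z ∈ MulAction.stabilizer Y α := by
      rw [MulAction.mem_stabilizer_iff, mul_smul, h, inv_smul_smul]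
    conv_lhs => rw [show z = w * (w⁻¹ * z) by group, ← Lib.RootSub.conjBy_conjBy, hAn _ hs]
  have hfixB : ∀ b ∈ B, b • β = β := by
    intro b hb
    have := MulAction.mem_stabilizer_iff.mp (hA (Lib.RootSub.mem_conjBy.mp hb))
    rwa [mul_smul, mul_smul, inv_smul_eq_iff] at this
  have hregB : ∀ γ δ : Ω, γ ≠ β → δ ≠ β → ∃! b : Y, b ∈ B ∧ b • γ = δ := by
    intro γ δ hγ hδ
    obtain ⟨a, ⟨ha, haγ⟩, huniq⟩ := hreg (y⁻¹ • γ) (y⁻¹ • δ)
      (fun e => hγ (by rw [hβ, ← e, smul_inv_smul])) (fun e => hδ (by rw [hβ, ← e, smul_inv_smul]))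
    refine ⟨y * a * y⁻¹, ⟨Lib.RootSub.conj_mem_conjBy ha, ?_⟩, ?_⟩
    · rw [mul_smul, mul_smul, haγ, smul_inv_smul]
    · rintro b ⟨hb, hbγ⟩
      have := huniq (y⁻¹ * b * y) ⟨Lib.RootSub.mem_conjBy.mp hb, by
        rw [mul_smul, mul_smul, smul_inv_smul, hbγ]⟩
      rw [← this]; group
  have hfixA : ∀ a ∈ A, a • α = α := fun a ha => MulAction.mem_stabilizer_iff.mp (hA ha)
  have cond : ∀ (P Q : Subgroup Y) (u v : Y), P = Cfsg.conjBy A u → Q = Cfsg.conjBy A v →
      u • α ≠ v • α → (∀ a ∈ P, a • u • α = u • α) →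
      (∀ γ δ : Ω, γ ≠ u • α → δ ≠ u • α → ∃! b : Y, b ∈ P ∧ b • γ = δ) →
      (∀ γ δ : Ω, γ ≠ v • α → δ ≠ v • α → ∃! b : Y, b ∈ Q ∧ b • γ = δ) → Cfsg.RankOneCondition P Q := by
    intro P Q u v hP hQ huv hfix hP' hQ' a ha ha1
    have hne : a⁻¹ • v • α ≠ v • α := by
      intro e
      obtain ⟨w, -, hw⟩ := hP' (v • α) (v • α) huv.symm huv.symm
      exact inv_ne_one.mpr ha1 ((hw _ ⟨P.inv_mem ha, e⟩).trans (hw 1 ⟨P.one_mem, one_smul _ _⟩).symm)
    obtain ⟨b, ⟨hb, hbv⟩, -⟩ := hQ' (u • α) (a⁻¹ • v • α) huv hne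
    refine ⟨b⁻¹, Q.inv_mem hb, ?_, ?_⟩
    · intro e
      rw [inv_eq_one] at e
      rw [e, one_smul, eq_inv_smul_iff, hfix a ha] at hbv
      exact huv hbv
    · rw [inv_inv, hP, hQ, Lib.RootSub.conjBy_conjBy, Lib.RootSub.conjBy_conjBy]
      apply heq
      rw [mul_smul, mul_smul, hbv]
  have hAeq : A = Cfsg.conjBy A 1 := Lib.RootSub.conjBy_one.symm
  have hαβ : α ≠ β := fun e => hy e.symm
  have h1 : Cfsg.RankOneCondition A B := cond A B 1 y hAeq hB (by rwa [one_smul])
    (by simpa using hfixA) (by simpa using hreg) hregB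
  have h2' : Cfsg.RankOneCondition B A := cond B A y 1 hB hAeq (by rw [one_smul]; exact hαβ.symm)
    hfixB hregB (by simpa using hreg)
  have hne : A ≠ B := by
    intro e
    obtain ⟨γ, hγα, hγβ⟩ : ∃ γ : Ω, γ ≠ α ∧ γ ≠ β := by
      by_contra hh
      push Not at hh
      have : (Set.univ : Set Ω) ⊆ {α, β} := fun γ _ => by
        by_cases h : γ = α
        · exact Or.inl h
        · exact Or.inr (hh γ h)
      have h3 := Set.encard_le_encard this
      rw [Set.encard_univ, Set.encard_pair hαβ] at h3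
      exact absurd (hΩ.trans h3) (by norm_num)
    obtain ⟨a, ⟨ha, haβ⟩, -⟩ := hreg β γ hαβ.symm hγα
    exact hγβ (haβ.symm.trans (hfixB a (e ▸ ha)))
  refine ⟨⟨hne, hnil, ?_, h1, h2'⟩, le_antisymm ?_ ?_⟩
  · exact Group.nilpotent_of_mulEquiv (Subgroup.equivMapOfInjective A _ (MulAut.conj y).injective)
  · have hall : ∀ z : Y, Cfsg.conjBy A z ≤ A ⊔ B := by
      intro z
      by_cases hz : z • α = α
      · rw [hAn z hz]; exact le_sup_left
      · obtain ⟨a, ⟨ha, haβ⟩, -⟩ := hreg β (z • α) hαβ.symm hz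
        rw [← heq (a * y) z (by rw [mul_smul, ← hβ, haβ]), ← Lib.RootSub.conjBy_conjBy, ← hB]
        exact Lib.RootSub.conjBy_le_of_le le_sup_right (Subgroup.mem_sup_left ha)
    rw [Subgroup.normalClosure, Subgroup.closure_le]
    intro x hx
    obtain ⟨a, ha, hc⟩ := Group.mem_conjugatesOfSet_iff.mp hx
    obtain ⟨z, rfl⟩ := isConj_iff.mp hc
    exact hall z (Lib.RootSub.conj_mem_conjBy ha)
  · refine sup_le Subgroup.le_normalClosure ?_
    intro x hx
    have := Subgroup.normalClosure_normal.conj_mem _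
      (Subgroup.le_normalClosure (Lib.RootSub.mem_conjBy.mp hx) : y⁻¹ * x * y ∈ Subgroup.normalClosure (A : Set Y)) y
    simpa [mul_assoc] using this

end Cfsg.Agent.S5015
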