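import Cfsg.Statements.S5016
import Cfsg.Agent.Lib.RootSub.RankOne

set_option autoImplicit false
open Cfsg

namespace Cfsg.Agent.S5016

open Matrix

variable {k : Type*} [Field k]

/-- The lower transvection. -/
def lo (t : k) : SpecialLinearGroup (Fin 2) k := ⟨!![1, 0; t, 1], by simp [Matrix.det_fin_two]⟩

/-- The upper transvection. -/
def up (t : k) : SpecialLinearGroup (Fin 2) k := ⟨!![1, t; 0, 1], by simp [Matrix.det_fin_two]⟩

theorem lo_coe (t : k) : (lo t : Matrix (Fin 2) (Fin 2) k) = !![1, 0; t, 1] := rfl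

theorem up_coe (t : k) : (up t : Matrix (Fin 2) (Fin 2) k) = !![1, t; 0, 1] := rfl

theorem lo_mul (s t : k) : lo s * lo t = lo (s + t) := by
  ext i j; fin_cases i <;> fin_cases j <;> simp [lo_coe, SpecialLinearGroup.coe_mul]

theorem up_mul (s t : k) : up s * up t = up (s + t) := by
  ext i j; fin_cases i <;> fin_cases j <;> simp [up_coe, SpecialLinearGroup.coe_mul, add_comm]

theorem lo_zero : lo (0 : k) = 1 := by
  ext i j; fin_cases i <;> fin_cases j <;> simp [lo_coe, SpecialLinearGroup.coe_mul]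

theorem up_zero : up (0 : k) = 1 := by
  ext i j; fin_cases i <;> fin_cases j <;> simp [up_coe]

theorem lo_inv (t : k) : (lo t)⁻¹ = lo (-t) :=
  inv_eq_of_mul_eq_one_right (by rw [lo_mul, add_neg_cancel, lo_zero])

theorem up_inv (t : k) : (up t)⁻¹ = up (-t) :=
  inv_eq_of_mul_eq_one_right (by rw [up_mul, add_neg_cancel, up_zero])

theorem mem_lower {g : SpecialLinearGroup (Fin 2) k} : g ∈ Cfsg.lowerUnipotentSL2 k ↔ ∃ t, g = lo t := by
  constructor
  · intro h
    induction h using Subgroup.closure_induction with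
    | mem x hx =>
      refine ⟨(x : Matrix (Fin 2) (Fin 2) k) 1 0, ?_⟩
      obtain ⟨h1, h2, h3⟩ := hx
      ext i j; fin_cases i <;> fin_cases j <;> simp [lo_coe, h1, h2, h3]
    | one => exact ⟨0, lo_zero.symm⟩
    | mul x y _ _ hx hy =>
      obtain ⟨s, rfl⟩ := hx; obtain ⟨t, rfl⟩ := hy
      exact ⟨_, lo_mul s t⟩
    | inv x _ hx => obtain ⟨s, rfl⟩ := hx; exact ⟨_, lo_inv s⟩
  · rintro ⟨t, rfl⟩
    exact Subgroup.subset_closure ⟨by simp [lo_coe], by simp [lo_coe], by simp [lo_coe]⟩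

theorem mem_upper {g : SpecialLinearGroup (Fin 2) k} : g ∈ Cfsg.upperUnipotentSL2 k ↔ ∃ t, g = up t := by
  constructor
  · intro h
    induction h using Subgroup.closure_induction with
    | mem x hx =>
      refine ⟨(x : Matrix (Fin 2) (Fin 2) k) 0 1, ?_⟩
      obtain ⟨h1, h2, h3⟩ := hx
      ext i j; fin_cases i <;> fin_cases j <;> simp [up_coe, h1, h2, h3]
    | one => exact ⟨0, up_zero.symm⟩
    | mul x y _ _ hx hy =>
      obtain ⟨s, rfl⟩ := hx; obtain ⟨t, rfl⟩ := hy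
      exact ⟨_, up_mul s t⟩
    | inv x _ hx => obtain ⟨s, rfl⟩ := hx; exact ⟨_, up_inv s⟩
  · rintro ⟨t, rfl⟩
    exact Subgroup.subset_closure ⟨by simp [up_coe], by simp [up_coe], by simp [up_coe]⟩

theorem swap_eq (s t u : k) (h : s * t = 1) :
    (up s)⁻¹ * lo u * up s = (lo t)⁻¹ * up (-(s * s * u)) * lo t := by
  rw [up_inv, lo_inv]
  ext i j; fin_cases i <;> fin_cases j <;> simp [lo_coe, up_coe, Matrix.SpecialLinearGroup.coe_mul, Matrix.mul_apply, Fin.sum_univ_two] <;> grind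

theorem conj_eq (s t : k) (h : s * t = 1) :
    Cfsg.conjBy (Cfsg.lowerUnipotentSL2 k) (up s)⁻¹ = Cfsg.conjBy (Cfsg.upperUnipotentSL2 k) (lo t)⁻¹ := by
  ext x
  rw [Lib.RootSub.mem_conjBy, Lib.RootSub.mem_conjBy, inv_inv, inv_inv, mem_lower, mem_upper]
  constructor
  · rintro ⟨u, hu⟩
    refine ⟨-(s * s * u), ?_⟩
    have hx : x = (up s)⁻¹ * lo u * up s := by rw [← hu]; group
    rw [hx, swap_eq s t u h]
    group
  · rintro ⟨v, hv⟩
    refine ⟨-(t * t * v), ?_⟩
    have hx : x = (lo t)⁻¹ * up v * lo t := by rw [← hv]; group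
    have e : -(s * s * -(t * t * v)) = v := by
      calc -(s * s * -(t * t * v)) = (s * t) * (s * t) * v := by ring
        _ = v := by rw [h]; ring
    have := swap_eq s t (-(t * t * v)) h
    rw [e] at this
    rw [hx, ← this]
    group


/-- For any field k, the special linear group SL₂(k) is a special rank one group with abelian unipotent subgroups, the unipotent subgroups being the group of lower unitriangular matrices and the group of upper unitriangular matrices. -/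
theorem result (k : Type*) [Field k] :
    Cfsg.IsRankOneGroup (Matrix.SpecialLinearGroup (Fin 2) k) (Cfsg.lowerUnipotentSL2 k) (Cfsg.upperUnipotentSL2 k) ∧
    Cfsg.IsSpecialRankOnePair (Cfsg.lowerUnipotentSL2 k) (Cfsg.upperUnipotentSL2 k) ∧
    Cfsg.HasAbelianUnipotents (Cfsg.lowerUnipotentSL2 k) (Cfsg.upperUnipotentSL2 k) := by
  have hU : Cfsg.HasAbelianUnipotents (Cfsg.lowerUnipotentSL2 k) (Cfsg.upperUnipotentSL2 k) := by
    refine ⟨⟨⟨?_⟩⟩, ⟨⟨?_⟩⟩⟩ <;> rintro ⟨x, hx⟩ ⟨y, hy⟩ <;> apply Subtype.ext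
    · obtain ⟨s, rfl⟩ := mem_lower.mp hx; obtain ⟨t, rfl⟩ := mem_lower.mp hy
      change lo s * lo t = lo t * lo s
      rw [lo_mul, lo_mul, add_comm]
    · obtain ⟨s, rfl⟩ := mem_upper.mp hx; obtain ⟨t, rfl⟩ := mem_upper.mp hy
      change up s * up t = up t * up s
      rw [up_mul, up_mul, add_comm]
  have hne : Cfsg.lowerUnipotentSL2 k ≠ Cfsg.upperUnipotentSL2 k := by
    intro e
    obtain ⟨t, ht⟩ := mem_upper.mp (e ▸ mem_lower.mpr ⟨(1 : k), rfl⟩)
    have := congrArg (fun g : Matrix.SpecialLinearGroup (Fin 2) k => (g : Matrix (Fin 2) (Fin 2) k) 1 0) ht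
    simp [lo_coe, up] at this
  have h : Cfsg.IsRankOnePair (Cfsg.lowerUnipotentSL2 k) (Cfsg.upperUnipotentSL2 k) := by
    refine ⟨hne, ?_, ?_, ?_, ?_⟩
    · haveI := hU.1; open scoped IsMulCommutative in infer_instance
    · haveI := hU.2; open scoped IsMulCommutative in infer_instance
    · intro a ha ha1
      obtain ⟨t, rfl⟩ := mem_lower.mp ha
      have ht : t ≠ 0 := fun e => ha1 (by rw [e, lo_zero])
      refine ⟨up t⁻¹, mem_upper.mpr ⟨_, rfl⟩, fun e => ?_, conj_eq _ _ (inv_mul_cancel₀ ht)⟩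
      have := congrArg (fun g : Matrix.SpecialLinearGroup (Fin 2) k => (g : Matrix (Fin 2) (Fin 2) k) 0 1) e
      simp [up_coe, ht] at this
    · intro b hb hb1
      obtain ⟨s, rfl⟩ := mem_upper.mp hb
      have hs : s ≠ 0 := fun e => hb1 (by rw [e, up_zero])
      refine ⟨lo s⁻¹, mem_lower.mpr ⟨_, rfl⟩, fun e => ?_, (conj_eq _ _ (mul_inv_cancel₀ hs)).symm⟩
      have := congrArg (fun g : Matrix.SpecialLinearGroup (Fin 2) k => (g : Matrix (Fin 2) (Fin 2) k) 1 0) e
      simp [lo_coe, hs] at this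
  refine ⟨⟨?_, h⟩, ⟨h, ?_⟩, hU⟩
  · rw [eq_top_iff]
    have hc : ∀ g : Matrix.SpecialLinearGroup (Fin 2) k, (g : Matrix (Fin 2) (Fin 2) k) 1 0 ≠ 0 →
        g ∈ Cfsg.lowerUnipotentSL2 k ⊔ Cfsg.upperUnipotentSL2 k := by
      intro g hg
      have hdet : (g : Matrix (Fin 2) (Fin 2) k).det = 1 := g.2
      rw [Matrix.det_fin_two] at hdet
      have e : g = up (((g : Matrix (Fin 2) (Fin 2) k) 0 0 - 1) / (g : Matrix (Fin 2) (Fin 2) k) 1 0) *
          lo ((g : Matrix (Fin 2) (Fin 2) k) 1 0) *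
          up (((g : Matrix (Fin 2) (Fin 2) k) 1 1 - 1) / (g : Matrix (Fin 2) (Fin 2) k) 1 0) := by
        ext i j; fin_cases i <;> fin_cases j <;> simp [lo_coe, up_coe, Matrix.SpecialLinearGroup.coe_mul, Matrix.mul_apply, Fin.sum_univ_two] <;>
          field_simp <;> grind
      rw [e]
      exact mul_mem (mul_mem (Subgroup.mem_sup_right (mem_upper.mpr ⟨_, rfl⟩))
        (Subgroup.mem_sup_left (mem_lower.mpr ⟨_, rfl⟩))) (Subgroup.mem_sup_right (mem_upper.mpr ⟨_, rfl⟩))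
    intro g _
    by_cases hg : (g : Matrix (Fin 2) (Fin 2) k) 1 0 = 0
    · have hdet : (g : Matrix (Fin 2) (Fin 2) k).det = 1 := g.2
      rw [Matrix.det_fin_two, hg, mul_zero, sub_zero] at hdet
      have h1 := hc (lo 1 * g) (by
        simp [lo_coe, Matrix.SpecialLinearGroup.coe_mul, Matrix.mul_apply, Fin.sum_univ_two, hg]
        intro e; simp [e] at hdet)
      have := mul_mem (inv_mem (Subgroup.mem_sup_left (T := Cfsg.upperUnipotentSL2 k) (mem_lower.mpr ⟨(1 : k), rfl⟩))) h1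
      rwa [inv_mul_cancel_left] at this
    · exact hc g hg
  · intro a ha ha1 b hb _ he
    obtain ⟨t, rfl⟩ := mem_lower.mp ha
    obtain ⟨s, rfl⟩ := mem_upper.mp hb
    have ht : t ≠ 0 := fun e => ha1 (by rw [e, lo_zero])
    have he' := he.trans (conj_eq _ _ (inv_mul_cancel₀ ht)).symm
    have hs : up s * (up t⁻¹)⁻¹ = 1 := by
      refine Lib.RootSub.eq_one_of_fix (Cfsg.RankOnePair_symm h)
        (mul_mem (mem_upper.mpr ⟨_, rfl⟩) (inv_mem (mem_upper.mpr ⟨_, rfl⟩))) ?_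
      rw [← Lib.RootSub.conjBy_conjBy, ← he', Lib.RootSub.conjBy_conjBy, mul_inv_cancel, Lib.RootSub.conjBy_one]
    rw [mul_inv_eq_one] at hs
    rw [hs, swap_eq t⁻¹ t t (inv_mul_cancel₀ ht), up_inv t⁻¹]
    have e : -(t⁻¹ * t⁻¹ * t) = -t⁻¹ := by rw [mul_assoc, inv_mul_cancel₀ ht, mul_one]
    rw [e]

end Cfsg.Agent.S5016
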