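import Cfsg.Statements.S5020
import Cfsg.Agent.Lib.RootSub.SpecialSL2
import Cfsg.Agent.Lib.RootSub.SpecialDiagonal
import Cfsg.Agent.Lib.RootSub.Quasisimple
import Cfsg.Agent.Lib.Classification.Basic

set_option autoImplicit false
open Cfsg

namespace Cfsg.Agent.S5020

theorem eq_one_of_sq (s : ZMod 2) (h : s ^ 2 = 1) : s = 1 := by revert s; decide

open Cfsg.Agent.Lib.RootSub in
theorem small {X : Type*} [Group X] {A B : Subgroup X} (h : Cfsg.IsRankOneGroup X A B)
    (hb : IsBraided A B) (h3 : ENat.card A ≤ 3) :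
    Nonempty (X ≃* Matrix.SpecialLinearGroup (Fin 2) (ZMod 2)) ∨
      Nonempty (X ≃* Matrix.SpecialLinearGroup (Fin 2) (ZMod 3)) ∨
      Nonempty (X ≃* Matrix.ProjectiveSpecialLinearGroup (Fin 2) (ZMod 3)) := by
  haveI : Finite A := by
    by_contra hinf
    rw [not_finite_iff_infinite] at hinf
    rw [ENat.card_eq_top_of_infinite] at h3
    exact absurd h3 (by simp)
  have h3' : Nat.card A ≤ 3 := by
    have := h3
    rw [ENat.card_eq_coe_natCard] at this
    exact_mod_cast this
  obtain ⟨a, ha, ha1⟩ := exists_ne_one_left h.2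
  obtain ⟨p, hp, hA⟩ : ∃ p : ℕ, p.Prime ∧ ∀ x ∈ A, x ^ p = 1 := by
    rcases hb.exponent_or_divisible with h' | ⟨h', -⟩
    · exact h'
    · exact absurd (Submonoid.isOfFinOrder_coe.mpr (isOfFinOrder_of_finite (⟨a, ha⟩ : A))) (h' a ha ha1)
  haveI : Fact p.Prime := ⟨hp⟩
  have hord : orderOf a = p := orderOf_eq_prime (hA a ha) ha1
  have hdvd : p ∣ Nat.card A := by rw [← hord]; exact Subgroup.orderOf_dvd_natCard A ha
  have hpA : p = Nat.card A := by
    have h1 := hp.two_le
    have h2 := Nat.le_of_dvd Nat.card_pos hdvd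
    rcases hdvd with ⟨k, hk⟩
    have : k = 1 := by
      rcases Nat.eq_zero_or_pos k with e | e
      · rw [e, mul_zero] at hk
        exact absurd hk Nat.card_pos.ne'
      · by_contra hne
        have : p * 2 ≤ p * k := Nat.mul_le_mul_left p (by omega)
        omega
    rw [hk, this, mul_one]
  have hAz : Subgroup.zpowers a = A :=
    Subgroup.eq_of_le_of_card_ge (Subgroup.zpowers_le.mpr ha) (by rw [Nat.card_zpowers, hord, hpA])
  obtain ⟨c, hac⟩ := hb.exists_right a ha ha1
  have htop : Subgroup.closure ({a, c⁻¹} : Set X) = ⊤ := by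
    rw [eq_top_iff, ← h.1]
    have haK : a ∈ Subgroup.closure ({a, c⁻¹} : Set X) := Subgroup.subset_closure (by simp)
    have hcK : c ∈ Subgroup.closure ({a, c⁻¹} : Set X) := by
      simpa using inv_mem (Subgroup.subset_closure (by simp : c⁻¹ ∈ ({a, c⁻¹} : Set X)))
    have hAK : A ≤ Subgroup.closure ({a, c⁻¹} : Set X) := hAz ▸ Subgroup.zpowers_le.mpr haK
    refine sup_le hAK ?_
    rw [← hac.swap_left hb.pair hb.comm_left]
    exact conjBy_le_of_le hAK (mul_mem (mul_mem haK hcK) haK)
  have e : ↥(Subgroup.closure ({a, c⁻¹} : Set X)) ≃* X :=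
    (MulEquiv.subgroupCongr htop).trans Subgroup.topEquiv
  have hp23 : p = 2 ∨ p = 3 := by have := hp.two_le; omega
  rcases hp23 with rfl | rfl
  · left
    rcases IsBraidPair.closure_iso hb hA hac with hf | hf <;> obtain ⟨f⟩ := hf
    · exact ⟨e.symm.trans f⟩
    · have hc : Subgroup.center (Matrix.SpecialLinearGroup (Fin 2) (ZMod 2)) = ⊥ := by
        rw [eq_bot_iff]
        intro z hz
        obtain ⟨r, hr, hz'⟩ := Matrix.SpecialLinearGroup.mem_center_iff.mp hz
        have : r = 1 := eq_one_of_sq r (by rwa [Fintype.card_fin] at hr)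
        subst this
        rw [Subgroup.mem_bot]
        exact Subtype.ext (by rw [← hz', map_one]; rfl)
      exact ⟨e.symm.trans (f.trans ((QuotientGroup.quotientMulEquivOfEq hc).trans QuotientGroup.quotientBot))⟩
  · right
    rcases IsBraidPair.closure_iso hb hA hac with hf | hf <;> obtain ⟨f⟩ := hf
    · exact Or.inl ⟨e.symm.trans f⟩
    · exact Or.inr ⟨e.symm.trans f⟩


/-- Let X be a special rank one group with abelian unipotent subgroups A and B, and H = N(A) ∩ N(B) its diagonal subgroup. Then either A has at most three elements and X is isomorphic to SL₂(2), SL₂(3) or PSL₂(3); or X = X' A with the commutator subgroup X' quasisimple and the commutator subgroup ⁅A, H⁆ having more than three elements. -/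
theorem result {X : Type*} [Group X] {A B : Subgroup X} (h : Cfsg.IsRankOneGroup X A B)
    (hs : Cfsg.IsSpecialRankOnePair A B) (hab : Cfsg.HasAbelianUnipotents A B) :
    (ENat.card A ≤ 3 ∧ (Nonempty (X ≃* Matrix.SpecialLinearGroup (Fin 2) (ZMod 2)) ∨
        Nonempty (X ≃* Matrix.SpecialLinearGroup (Fin 2) (ZMod 3)) ∨
        Nonempty (X ≃* Matrix.ProjectiveSpecialLinearGroup (Fin 2) (ZMod 3)))) ∨
    (commutator X ⊔ A = ⊤ ∧ Cfsg.IsQuasisimple (commutator X) ∧
      3 < ENat.card ↥(⁅A, Cfsg.rankOneDiagonal A B⁆ : Subgroup X)) := by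
  have hb := Cfsg.Agent.Lib.RootSub.isBraided_of_special hs hab
  rcases le_or_gt (ENat.card A) 3 with h3 | h3
  · exact Or.inl ⟨h3, small h hb h3⟩
  right
  have h3B : 3 < ENat.card B := by
    obtain ⟨x, -, hx⟩ := Cfsg.Agent.Lib.RootSub.exists_conj h.2
    rw [← hx, ← ENat.card_congr (Subgroup.equivMapOfInjective A _ (MulAut.conj x).injective).toEquiv]
    exact h3
  have hA := hb.left_le_commutator h3
  have hB := hb.symm.left_le_commutator h3B
  have htop : commutator X = ⊤ := by
    rw [eq_top_iff, ← h.1, commutator_def]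
    rw [h.1] at hA
    rw [sup_comm B A, h.1] at hB
    exact sup_le hA hB
  refine ⟨by rw [htop, top_sup_eq], ?_, ?_⟩
  · refine Cfsg.Agent.Lib.Classification.isQuasisimple_of_mulEquiv
      ((MulEquiv.subgroupCongr htop).trans Subgroup.topEquiv).symm ?_
    exact Cfsg.Agent.Lib.RootSub.isQuasisimple_of_perfect h
      ⟨htop⟩
  · refine lt_of_lt_of_le h3 ?_
    have hle : A ≤ ⁅A, Cfsg.rankOneDiagonal A B⁆ :=
      hb.left_le_of_diagonal h3 _ fun g hg z hz => Subgroup.commutator_mem_commutator hz hg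
    exact Set.encard_mono (SetLike.coe_subset_coe.mpr hle)

end Cfsg.Agent.S5020
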