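import Cfsg.Statements.S5024
import Cfsg.Agent.Lib.RootSub.RootSet

set_option autoImplicit false
open Cfsg

namespace Cfsg.Agent.S5024


/-- Let S be a set of abstract root subgroups of G, A and C members of S, B a rank one partner of A in S and D a rank one partner of C in S. If the rank one group ⟨A, B⟩ is contained in ⟨C, D⟩ then the two coincide, and C and D are conjugates of A inside ⟨A, B⟩. -/
theorem result {G : Type*} [Group G] {S : Set (Subgroup G)} (hS : Cfsg.IsRootSubgroupSet S)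
    {A B C D : Subgroup G} (hA : A ∈ S) (hC : C ∈ S) (hB : B ∈ Cfsg.rankOnePartners S A) (hD : D ∈ Cfsg.rankOnePartners S C)
    (hle : A ⊔ B ≤ C ⊔ D) : A ⊔ B = C ⊔ D ∧ C ∈ Cfsg.unipotentSubgroups A B ∧ D ∈ Cfsg.unipotentSubgroups A B := by
  obtain ⟨hBS, hAB⟩ := hB
  obtain ⟨hDS, hCD⟩ := hD
  have hAle : A ≤ C ⊔ D := le_sup_left.trans hle
  have hBle : B ≤ C ⊔ D := le_sup_right.trans hle
  have hAm := Lib.RootSub.mem_unipotents_of_le hS hA hBS hAB hC hDS hCD hAle hBle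
  have hBm := Lib.RootSub.mem_unipotents_of_le hS hBS hA (Cfsg.RankOnePair_symm hAB) hC hDS hCD hBle hAle
  have heq := Lib.RootSub.sup_eq_of_mem hCD hAm hBm hAB.ne
  refine ⟨heq, ?_, ?_⟩
  · obtain ⟨x, hx, hxA⟩ := hAm
    exact ⟨x⁻¹, heq ▸ inv_mem hx, by rw [hxA, Lib.RootSub.conjBy_conjBy, inv_mul_cancel, Lib.RootSub.conjBy_one]⟩
  · obtain ⟨x, hx, hxA⟩ := hAm
    obtain ⟨y, hy, hyD⟩ := Lib.RootSub.exists_conj hCD
    refine ⟨y * x⁻¹, heq ▸ mul_mem hy (inv_mem hx), ?_⟩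
    rw [hxA, Lib.RootSub.conjBy_conjBy, inv_mul_cancel_right, hyD]

end Cfsg.Agent.S5024
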