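import Cfsg.Statements.S5026
import Cfsg.Agent.Lib.RootSub.Lines

set_option autoImplicit false
open Cfsg

namespace Cfsg.Agent.S5026


/-- Let S be a degenerate set of abstract root subgroups of G (a set of abstract transvection groups) and let a, b be commuting non-identity elements of members of S with a b ≠ 1. Then the members of S centralizing a b are exactly those centralizing both a and b. -/
theorem result {G : Type*} [Group G] {S : Set (Subgroup G)} (hS : Cfsg.IsRootSubgroupSet S) (hdeg : Cfsg.IsDegenerateRootSet S)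
    {a b : G} (ha : a ∈ Cfsg.rootElements S) (hb : b ∈ Cfsg.rootElements S) (hab : a * b = b * a) (hab1 : a * b ≠ 1) :
    Cfsg.centralizingMembers S (Subgroup.zpowers (a * b)) =
      Cfsg.centralizingMembers S (Subgroup.zpowers a) ∩ Cfsg.centralizingMembers S (Subgroup.zpowers b) := by
  obtain ⟨ha1, A, hA, haA⟩ := ha
  obtain ⟨hb1, B, hB, hbB⟩ := hb
  have hz : ∀ (D : Subgroup G) (x : G),
      D ≤ Subgroup.centralizer (Subgroup.zpowers x : Set G) ↔ ∀ d ∈ D, x * d = d * x := by
    intro D x
    constructor
    · intro h d hd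
      exact Subgroup.mem_centralizer_iff.mp (h hd) x (Subgroup.mem_zpowers x)
    · intro h d hd
      rw [Subgroup.mem_centralizer_iff]
      rintro y hy
      obtain ⟨n, rfl⟩ := Subgroup.mem_zpowers_iff.mp hy
      exact (Commute.zpow_left (h d hd) n).eq
  ext D
  simp only [Cfsg.centralizingMembers, Set.mem_inter_iff, Set.mem_ofPred_eq, hz]
  constructor
  · rintro ⟨hD, h⟩
    have h1 := Lib.RootSub.degenerate_centralizer hS hdeg hA hB hD haA ha1 hbB hb1 hab hab1 h
    refine ⟨⟨hD, h1⟩, hD, fun d hd => ?_⟩
    have h2 := h d hd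
    calc b * d = a⁻¹ * (a * b * d) := by group
      _ = a⁻¹ * (d * a) * b := by rw [h2]; group
      _ = d * b := by rw [← h1 d hd]; group
  · rintro ⟨⟨hD, h1⟩, -, h2⟩
    exact ⟨hD, fun d hd => by rw [mul_assoc, h2 d hd, ← mul_assoc, h1 d hd, mul_assoc]⟩

end Cfsg.Agent.S5026
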