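import Cfsg.Statements.S5033
import Cfsg.Agent.Lib.RootSub.Quasisimple
import Cfsg.Agent.Lib.Classification.Basic

set_option autoImplicit false
open Cfsg

namespace Cfsg.Agent.S5033

open Cfsg.Agent.Lib.RootSub in
private theorem perfect_aux {G : Type*} [Group G] {S : Set (Subgroup G)} (hS : Cfsg.IsRootSubgroupSet S)
    (hcl : Cfsg.IsConjClassOfSubgroups S) (hiso : ∀ A ∈ S, ∃ B ∈ S, Cfsg.IsRankOnePair A B)
    (h3 : Cfsg.IsDegenerateRootSet S → ∀ A ∈ S, 3 < ENat.card A)
    (h4 : ∀ A ∈ S, ∀ B ∈ Cfsg.rankOnePartners S A, Cfsg.IsSpecialRankOnePair A B) :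
    _root_.commutator G = ⊤ := by
  obtain ⟨A, hA⟩ := hcl.1
  obtain ⟨B, hB, h⟩ := hiso A hA
  obtain ⟨C, hC, hle⟩ := member_le_of_commutator_le hS hcl h3 h4 (N := _root_.commutator G) hA hB h
    (Subgroup.commutator_mono le_top le_top)
  exact eq_top_of_member_le hS hcl inferInstance hC hle


/-- Quasisimplicity criterion for groups generated by abstract root subgroups. Let S be a set of abstract root subgroups of G with more than one member such that: the graph of rank one pairs on S is connected; no two different members of S have the same set of commuting members of S; if S is degenerate then every member of S has more than three elements; and every rank one pair in S is special. Then for every A ∈ S one has G = G' A with A ∩ G' ≠ 1, and the commutator subgroup G' is quasisimple. Moreover G is perfect if S is non-degenerate, or if some rank one pair A, B in S generates a perfect group. -/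
theorem result {G : Type*} [Group G] {S : Set (Subgroup G)} (hS : Cfsg.IsRootSubgroupSet S) (h2 : ∃ A ∈ S, ∃ B ∈ S, A ≠ B)
    (h1 : Cfsg.IsConnectedFamily (Cfsg.FAdj S) S)
    (h2' : ∀ A ∈ S, ∀ C ∈ S, A ≠ C → Cfsg.centralizingMembers S A ≠ Cfsg.centralizingMembers S C)
    (h3 : Cfsg.IsDegenerateRootSet S → ∀ A ∈ S, 3 < ENat.card A)
    (h4 : ∀ A ∈ S, ∀ B ∈ Cfsg.rankOnePartners S A, Cfsg.IsSpecialRankOnePair A B) :
    (∀ A ∈ S, commutator G ⊔ A = ⊤ ∧ A ⊓ commutator G ≠ ⊥) ∧ Cfsg.IsQuasisimple ↥(commutator G) ∧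
    (Cfsg.IsNondegenerateRootSet S → commutator G = ⊤) ∧
    ((∃ A ∈ S, ∃ B ∈ Cfsg.rankOnePartners S A, Group.IsPerfect ↥(A ⊔ B)) → commutator G = ⊤) := by
  obtain ⟨hcl, -⟩ := (Cfsg.Agent.Lib.RootSub.connected_iff hS h2).mp h1
  have hiso : ∀ A ∈ S, ∃ B ∈ S, Cfsg.IsRankOnePair A B := by
    intro A hA
    obtain ⟨A₀, hA₀, B₀, hB₀, hne⟩ := h2
    have hfirst : ∀ B ∈ S, A ≠ B → ∃ P ∈ S, Cfsg.IsRankOnePair A P := by
      intro B hB hAB
      rcases (h1 A hA B hB).cases_head with e | ⟨C, hC, -⟩
      · exact absurd e hAB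
      · exact ⟨C, hC.2.1, hC.2.2⟩
    by_cases e : A = A₀
    · exact hfirst B₀ hB₀ (e ▸ hne)
    · exact hfirst A₀ hA₀ e
  have htop := perfect_aux hS hcl hiso h3 h4
  refine ⟨fun A hA => ⟨by rw [htop, top_sup_eq], by rw [htop, inf_top_eq]; exact hS.ne_bot A hA⟩, ?_,
    fun _ => htop, fun _ => htop⟩
  have hnorm := fun (N : Subgroup G) [N.Normal] =>
    Cfsg.Agent.Lib.RootSub.eq_top_or_central hS hcl hiso h2' h3 h4 N
  have hG : Cfsg.IsQuasisimple G := by
    refine ⟨Group.isPerfect_def.mpr htop, ?_⟩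
    obtain ⟨A, hA⟩ := hcl.1
    obtain ⟨B, -, h⟩ := hiso A hA
    haveI : Nontrivial (G ⧸ Subgroup.center G) :=
      QuotientGroup.nontrivial_iff.mpr (Cfsg.Agent.Lib.RootSub.not_commutative h)
    refine ⟨fun H hH => ?_⟩
    haveI := hH
    have hmap := Subgroup.map_comap_eq_self_of_surjective (QuotientGroup.mk'_surjective (Subgroup.center G)) H
    haveI : (H.comap (QuotientGroup.mk' (Subgroup.center G))).Normal := hH.comap _
    rcases hnorm (H.comap (QuotientGroup.mk' (Subgroup.center G))) with e | e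
    · right
      rw [← hmap, e, ← MonoidHom.range_eq_map, MonoidHom.range_eq_top]
      exact QuotientGroup.mk'_surjective _
    · left
      rw [← hmap, eq_bot_iff, ← QuotientGroup.map_mk'_self (Subgroup.center G)]
      exact Subgroup.map_mono e
  rw [htop]
  exact Cfsg.Agent.Lib.Classification.isQuasisimple_of_mulEquiv Subgroup.topEquiv.symm hG

end Cfsg.Agent.S5033
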