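import Cfsg.Statements.S5035
import Cfsg.Agent.Lib.RootSub.RootSet

set_option autoImplicit false
open Cfsg

namespace Cfsg.Agent.S5035

open Lib.RootSub

theorem map_conjBy {G H : Type*} [Group G] [Group H] (f : G →* H) (A : Subgroup G) (g : G) :
    (Cfsg.conjBy A g).map f = Cfsg.conjBy (A.map f) (f g) := by
  simp only [Cfsg.conjBy, Subgroup.map_map]
  congr 1
  ext x
  simp


/-- Let S be a set of abstract root subgroups of G whose graph of rank one pairs is connected, and f a homomorphism from G onto a group H. Then either the images of the members of S form a set of abstract root subgroups of H whose graph of rank one pairs is again connected, or H equals the image of a member of S. -/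
theorem result {G H : Type*} [Group G] [Group H] {S : Set (Subgroup G)} (hS : Cfsg.IsRootSubgroupSet S)
    (hc : Cfsg.IsConnectedFamily (Cfsg.FAdj S) S) (f : G →* H) (hf : Function.Surjective f) :
    (Cfsg.IsRootSubgroupSet ((fun A : Subgroup G => A.map f) '' S) ∧
      Cfsg.IsConnectedFamily (Cfsg.FAdj ((fun A : Subgroup G => A.map f) '' S)) ((fun A : Subgroup G => A.map f) '' S)) ∨
    ∃ A ∈ S, A.map f = ⊤ := by
  by_cases hbot : ∃ A ∈ S, A.map f = ⊥
  · right
    obtain ⟨A, hA, hAb⟩ := hbot
    refine ⟨A, hA, ?_⟩
    have hall : ∀ B, Relation.ReflTransGen (Cfsg.FAdj S) A B → B.map f = ⊥ := by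
      intro B h
      induction h with
      | refl => exact hAb
      | tail _ h ih =>
        obtain ⟨x, -, hx⟩ := exists_conj h.2.2
        rw [← hx, map_conjBy, ih]
        exact Subgroup.map_bot _
    have hbt : (⊤ : Subgroup H) = ⊥ := by
      rw [← Subgroup.map_top_of_surjective f hf, ← hS.generates, eq_bot_iff, Subgroup.map_iSup]
      refine iSup_le fun B => ?_
      rw [Subgroup.map_iSup]
      exact iSup_le fun hB => (hall B (hc A hA B hB)).le
    rw [hAb, hbt]
  · left
    push Not at hbot
    have hpair : ∀ A ∈ S, ∀ B ∈ S, A.map f ≠ B.map f → Cfsg.IsRankOnePair A B →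
        Cfsg.IsRankOnePair (A.map f) (B.map f) := by
      have hcond : ∀ A B : Subgroup G, A.map f ≠ B.map f → Cfsg.RankOneCondition A B →
          Cfsg.RankOneCondition (A.map f) (B.map f) := by
        rintro A B hne h _ ⟨a, ha, rfl⟩ ha1
        obtain ⟨b, hb, -, he⟩ := h a ha (fun e => ha1 (by rw [e, map_one]))
        have he' := congrArg (Subgroup.map f) he
        rw [map_conjBy, map_conjBy, map_inv, map_inv] at he'
        refine ⟨f b, Subgroup.mem_map_of_mem f hb, fun e => hne ?_, he'⟩
        rw [e, inv_one, conjBy_one] at he'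
        have h2 := conjBy_eq_iff.mp he'.symm
        rw [inv_inv, conjBy_of_mem (Subgroup.mem_map_of_mem f ha)] at h2
        exact h2.symm
      intro A hA B hB hne h
      refine ⟨hne, ?_, ?_, hcond A B hne h.cond_left, hcond B A hne.symm h.cond_right⟩
      · haveI := h.nilpotent_left
        exact Group.nilpotent_of_surjective (f.subgroupMap A) (f.subgroupMap_surjective A)
      · haveI := h.nilpotent_right
        exact Group.nilpotent_of_surjective (f.subgroupMap B) (f.subgroupMap_surjective B)
    have hcomm : ∀ A ∈ S, IsMulCommutative (A.map f) := by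
      intro A hA
      refine ⟨⟨?_⟩⟩
      rintro ⟨_, a, ha, rfl⟩ ⟨_, b, hb, rfl⟩
      exact Subtype.ext (by
        change f a * f b = f b * f a
        rw [← map_mul, ← map_mul, comm_of_mem hS hA ha hb])
    refine ⟨⟨?_, ?_, ?_, ?_, ?_⟩, ?_⟩
    · rintro _ ⟨A, hA, rfl⟩; exact hcomm A hA
    · rintro _ ⟨A, hA, rfl⟩; exact hbot A hA
    · rw [iSup_image, ← Subgroup.map_top_of_surjective f hf, ← hS.generates, Subgroup.map_iSup]
      simp only [Subgroup.map_iSup]
    · rintro _ ⟨A, hA, rfl⟩ h
      obtain ⟨g, rfl⟩ := hf h
      exact ⟨_, hS.conj_mem A hA g, map_conjBy f A g⟩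
    · rintro _ ⟨A, hA, rfl⟩ _ ⟨B, hB, rfl⟩
      rcases hS.pair A hA B hB with h | h | ⟨h1, h2, h3, h4⟩
      · left; rw [← Subgroup.map_commutator, h]; exact Subgroup.map_bot f
      · by_cases he : A.map f = B.map f
        · left
          simp only [he]
          rw [Subgroup.commutator_eq_bot_iff_le_centralizer]
          intro x hx
          rw [Subgroup.mem_centralizer_iff]
          intro y hy
          exact congrArg Subtype.val ((hcomm B hB).is_comm.comm ⟨y, hy⟩ ⟨x, hx⟩)
        · exact Or.inr (Or.inl (hpair A hA B hB he h))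
      · right; right
        refine ⟨⟨_, h1, Subgroup.map_commutator A B f⟩, ?_, ?_, ?_⟩
        · intro c hc x hx
          rw [← Subgroup.map_commutator] at hc
          obtain ⟨c, hc, rfl⟩ := hc
          rw [← Subgroup.map_sup] at hx
          obtain ⟨x, hx, rfl⟩ := hx
          rw [← map_mul, ← map_mul, h2 c hc x hx]
        · rintro _ ⟨a, ha, rfl⟩ ha1
          rw [← Subgroup.map_commutator, ← h3 a ha (fun e => ha1 (by rw [e, map_one])),
            MonoidHom.map_closure, ← Set.image_comp, Subgroup.coe_map, ← Set.image_comp]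
          congr 1
          refine Set.image_congr fun b _ => ?_
          simp
        · rintro _ ⟨b, hb, rfl⟩ hb1
          rw [← Subgroup.map_commutator, ← h4 b hb (fun e => hb1 (by rw [e, map_one])),
            MonoidHom.map_closure, ← Set.image_comp, Subgroup.coe_map, ← Set.image_comp]
          congr 1
          refine Set.image_congr fun a _ => ?_
          simp
    · rintro _ ⟨A, hA, rfl⟩ _ ⟨B, hB, rfl⟩
      have h := hc A hA B hB
      clear hB
      induction h with
      | refl => exact Relation.ReflTransGen.refl
      | @tail B C _ h ih =>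
        simp only at ih ⊢
        by_cases he : B.map f = C.map f
        · rwa [← he]
        · exact ih.tail ⟨⟨B, h.1, rfl⟩, ⟨C, h.2.1, rfl⟩, hpair B h.1 C h.2.1 he h.2.2⟩

end Cfsg.Agent.S5035
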