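import Cfsg.Statements.S5038
import Cfsg.Agent.Lib.RootSub.TriLineClass

set_option autoImplicit false
open Cfsg Cfsg.Agent.Lib.RootSub

namespace Cfsg.Agent.S5038


/-- Let S be a set of abstract root subgroups of G in which every member has a rank one partner, A ∈ S and B a line partner of A. Then the subgroup generated by the members of S normalizing AB permutes the members of S inside AB doubly transitively by conjugation. -/
theorem result {G : Type*} [Group G] {S : Set (Subgroup G)} (hS : Cfsg.IsRootSubgroupSet S)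
    (hF : ∀ A ∈ S, ¬ Cfsg.IsIsolatedIn (Cfsg.FAdj S) S A) {A B : Subgroup G} (hA : A ∈ S) (hB : B ∈ Cfsg.linePartners S A) :
    ∀ C₁ ∈ Cfsg.membersIn S (A ⊔ B), ∀ C₂ ∈ Cfsg.membersIn S (A ⊔ B), ∀ D₁ ∈ Cfsg.membersIn S (A ⊔ B),
      ∀ D₂ ∈ Cfsg.membersIn S (A ⊔ B), C₁ ≠ C₂ → D₁ ≠ D₂ →
        ∃ x ∈ ⨆ E ∈ Cfsg.normalizingMembers S (A ⊔ B), E, Cfsg.conjBy C₁ x = D₁ ∧ Cfsg.conjBy C₂ x = D₂ := by
  have hF' := hasPartners_of_not_isolated hF
  obtain ⟨P, hP, hAP⟩ := hF' A hA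
  obtain ⟨M, T, hM, hE, hT, hTeq, heq, h1, h2⟩ := line_data hS hF' hA hB hP hAP
  intro C₁ hC₁ C₂ hC₂ D₁ hD₁ D₂ hD₂ hC hD
  have hnorm : ∀ E ∈ S, (∀ x ∈ E, ∀ D ∈ Cfsg.membersIn S (A ⊔ B), Cfsg.conjBy D x ∈ Cfsg.membersIn S (A ⊔ B)) →
      E ≤ ⨆ F ∈ Cfsg.normalizingMembers S (A ⊔ B), F := by
    intro E hE hinv
    refine le_iSup₂ (f := fun F _ => F) E ⟨hE, fun x hx => ?_⟩
    have hle : ∀ y ∈ E, Cfsg.conjBy (A ⊔ B) y ≤ A ⊔ B := fun y hy => by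
      rw [conjBy_sup]
      exact sup_le (hinv y hy A ⟨hA, le_sup_left⟩).2 (hinv y hy B ⟨hB.1.1, le_sup_right⟩).2
    refine conjBy_eq_self_iff.mp (le_antisymm (hle x hx) ?_)
    have := conjBy_mono (hle x⁻¹ (inv_mem hx)) x
    rwa [conjBy_conjBy, mul_inv_cancel, conjBy_of_mem (one_mem _)] at this
  have hEK : ⁅P, M⁆ ≤ ⨆ F ∈ Cfsg.normalizingMembers S (A ⊔ B), F := by
    refine hnorm _ hE fun e he D hD => ?_
    rcases h1.le hD with ⟨e', he', rfl⟩ | e2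
    · exact h1.ge (Or.inl ⟨e * e', mul_mem he he', (conjBy_conjBy e' e).symm⟩)
    · rw [Set.mem_singleton_iff.mp e2, conjBy_of_commute fun y hy => commute_of_commutator_eq_bot (by
        have := case_commute_right (rootCase_of_commutator_mem hS hA hE (heq.symm ▸ hM.1.1))
        rwa [heq] at this) he hy]
      exact h1.ge (Or.inr rfl)
  have hTK : T ≤ ⨆ F ∈ Cfsg.normalizingMembers S (A ⊔ B), F := by
    refine hnorm _ hT.1.1 fun t ht D hD => ?_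
    rcases h2.le hD with ⟨t', ht', rfl⟩ | e2
    · exact h2.ge (Or.inl ⟨t * t', mul_mem ht ht', (conjBy_conjBy t' t).symm⟩)
    · rw [Set.mem_singleton_iff.mp e2,
        conjBy_of_commute fun y hy => (commute_of_commutator_eq_bot hT.1.2.2 hy ht).symm]
      exact h2.ge (Or.inr rfl)
  obtain ⟨x, hx, hx1, hx2⟩ :=
    two_transitive_line hS hF' hA hM.1.1 hM.1.2.1 hT.1.2.2 hE heq h1 h2 hEK hTK hC₁ hC₂ hC
  obtain ⟨y, hy, hy1, hy2⟩ :=
    two_transitive_line hS hF' hA hM.1.1 hM.1.2.1 hT.1.2.2 hE heq h1 h2 hEK hTK hD₁ hD₂ hD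
  refine ⟨y⁻¹ * x, mul_mem (inv_mem hy) hx, ?_, ?_⟩
  · rw [← conjBy_conjBy, hx1, conjBy_eq_iff, inv_inv, hy1]
  · rw [← conjBy_conjBy, hx2, conjBy_eq_iff, inv_inv, hy2]

end Cfsg.Agent.S5038
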