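import Cfsg.Statements.S5045
import Cfsg.Agent.Lib.RootSub.RootInvolutions
import Cfsg.Agent.Lib.Involutions.BaerSuzuki
import Cfsg.Agent.Lib.Involutions.Isolated
import Cfsg.Agent.Lib.Cores.PCore

set_option autoImplicit false
open Cfsg

namespace Cfsg.Agent.S5045

open Cfsg.Agent.Lib.RootSub in
theorem isolated_mem_pCore {G : Type*} [Group G] [Finite G] {D : Set G} (hD : Cfsg.IsRootInvolutionSet D)
    {w : G} (hw : Cfsg.IsIsolatedElem (Cfsg.OddAdj D) D w) : w ∈ Cfsg.pCore 2 G := by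
  haveI : Fact (Nat.Prime 2) := ⟨Nat.prime_two⟩
  have hX : IsPGroup 2 (Subgroup.zpowers w) := by
    refine IsPGroup.of_card (n := 1) ?_
    rw [Nat.card_zpowers, hD.orderOf_eq w hw.1, pow_one]
  obtain ⟨N, hN, hNp, hle⟩ := Cfsg.Agent.Lib.Involutions.baer_suzuki (Subgroup.zpowers w) hX fun g => by
    set v := g * w * g⁻¹ with hv
    have hvD : v ∈ D := hD.conj_mem w hw.1 g
    have h4 : (w * v) ^ (2 ^ 2) = 1 := by
      rcases hD.pair w hw.1 v hvD with e | e | e
      · rw [show (2 ^ 2 : ℕ) = 2 * 2 from rfl, pow_mul, pow_two (w * v)]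
        nth_rewrite 2 [e]
        rw [mul_assoc, rinv_cancel hD hvD, rinv_sq hD hw.1, one_pow]
      · have : w = v := by
          by_contra hne
          exact (hw.2 v).1 ⟨hw.1, hvD, hne, e⟩
        rw [← this, rinv_sq hD hw.1, one_pow]
      · rw [show (2 ^ 2 : ℕ) = 4 from rfl, ← e.1]; exact pow_orderOf_eq_one _
    refine (Cfsg.Agent.Lib.Involutions.isPGroup_two_closure_pair (hD.orderOf_eq w hw.1)
      (hD.orderOf_eq v hvD) h4).to_le (sup_le ?_ ?_)
    · exact Subgroup.zpowers_le.mpr (Subgroup.subset_closure (by simp))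
    · rw [MonoidHom.map_zpowers]
      exact Subgroup.zpowers_le.mpr (Subgroup.subset_closure (by simp [hv]))
  exact Cfsg.Agent.Lib.Cores.le_pCore hN hNp (hle (Subgroup.mem_zpowers w))


/-- Let G be a finite group generated by a set D of root involutions, and W the set of members of D whose product with every other member of D has even order or is trivial (the isolated vertices of the odd-order-product graph on D). Then W is conjugation-invariant and generates a normal 2-subgroup of G meeting D in exactly W; the commutator of two members of D lying in different connected components of that graph, each with more than one member, lies in the subgroup generated by W; and for a in such a component, every member of D commuting with a, different from a and with product with a in D, lies in that component or in W. -/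
theorem result {G : Type*} [Group G] [Finite G] {D : Set G} (hD : Cfsg.IsRootInvolutionSet D) :
    (∀ w ∈ {w | Cfsg.IsIsolatedElem (Cfsg.OddAdj D) D w}, ∀ g : G, g * w * g⁻¹ ∈ {w | Cfsg.IsIsolatedElem (Cfsg.OddAdj D) D w}) ∧
    (Subgroup.closure {w | Cfsg.IsIsolatedElem (Cfsg.OddAdj D) D w}).Normal ∧
    IsPGroup 2 ↥(Subgroup.closure {w | Cfsg.IsIsolatedElem (Cfsg.OddAdj D) D w}) ∧
    (Subgroup.closure {w | Cfsg.IsIsolatedElem (Cfsg.OddAdj D) D w} : Set G) ∩ D = {w | Cfsg.IsIsolatedElem (Cfsg.OddAdj D) D w} ∧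
    (∀ a ∈ D, ∀ b ∈ D, (∃ a' ∈ Cfsg.elemComponentOf (Cfsg.OddAdj D) D a, a' ≠ a) →
      (∃ b' ∈ Cfsg.elemComponentOf (Cfsg.OddAdj D) D b, b' ≠ b) →
      Cfsg.elemComponentOf (Cfsg.OddAdj D) D a ≠ Cfsg.elemComponentOf (Cfsg.OddAdj D) D b →
        a * b * a⁻¹ * b⁻¹ ∈ Subgroup.closure {w | Cfsg.IsIsolatedElem (Cfsg.OddAdj D) D w}) ∧
    (∀ a ∈ D, (∃ a' ∈ Cfsg.elemComponentOf (Cfsg.OddAdj D) D a, a' ≠ a) →
      Cfsg.productPartners D a ⊆ Cfsg.elemComponentOf (Cfsg.OddAdj D) D a ∪ {w | Cfsg.IsIsolatedElem (Cfsg.OddAdj D) D w}) := by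
  set W := {w | Cfsg.IsIsolatedElem (Cfsg.OddAdj D) D w} with hW
  set P := Subgroup.closure W with hP
  have hconj : ∀ w ∈ W, ∀ g : G, g * w * g⁻¹ ∈ W := by
    intro w hw g
    refine ⟨hD.conj_mem w hw.1 g, fun u => ?_⟩
    have key : ∀ u, ¬ Cfsg.OddAdj D (g * w * g⁻¹) u := by
      intro u h
      have := Cfsg.Agent.Lib.RootSub.oddAdj_conj hD g⁻¹ h
      rw [inv_inv, show g⁻¹ * (g * w * g⁻¹) * g = w by group] at this
      exact (hw.2 _).1 this
    exact ⟨key u, fun h => key u (Cfsg.Agent.Lib.RootSub.oddAdj_symm h)⟩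
  have hnormal : P.Normal := by
    refine ⟨fun x hx g => ?_⟩
    induction hx using Subgroup.closure_induction with
    | mem y hy => exact Subgroup.subset_closure (hconj y hy g)
    | one => simp
    | mul u v _ _ hu hv =>
      rw [show g * (u * v) * g⁻¹ = (g * u * g⁻¹) * (g * v * g⁻¹) by group]
      exact mul_mem hu hv
    | inv u _ hu =>
      rw [show g * u⁻¹ * g⁻¹ = (g * u * g⁻¹)⁻¹ by group]
      exact inv_mem hu
  have h2 : IsPGroup 2 P :=
    (Cfsg.Agent.Lib.Cores.pCore_isPGroup 2 G).to_le ((Subgroup.closure_le _).mpr fun w hw =>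
      isolated_mem_pCore hD hw)
  refine ⟨hconj, hnormal, h2, ?_, ?_, ?_⟩
  · refine Set.Subset.antisymm ?_ fun w hw => ⟨Subgroup.subset_closure hw, hw.1⟩
    rintro d ⟨hd, hdD⟩
    refine ⟨hdD, ?_⟩
    have key : ∀ u, ¬ Cfsg.OddAdj D d u := by
      intro u hu
      have hmem : (d * u) ^ 2 ∈ P := by
        have h1 := hnormal.conj_mem d hd u
        rw [Cfsg.Agent.Lib.RootSub.rinv_inv hD hu.2.1] at h1
        rw [pow_two, show d * u * (d * u) = d * (u * d * u) by group]
        exact mul_mem hd h1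
      obtain ⟨k, hk⟩ := h2 ⟨_, hmem⟩
      have hk' : (d * u) ^ (2 ^ (k + 1)) = 1 := by
        rw [pow_succ', pow_mul]
        exact congrArg Subtype.val hk
      have := Cfsg.Agent.Lib.RootSub.eq_one_of_odd hu.2.2.2 hk'
      rw [mul_eq_one_iff_eq_inv, Cfsg.Agent.Lib.RootSub.rinv_inv hD hu.2.1] at this
      exact hu.2.2.1 this
    exact fun u => ⟨key u, fun h => key u (Cfsg.Agent.Lib.RootSub.oddAdj_symm h)⟩
  · intro a ha b hb _ _ hne
    have hab : ¬ Relation.ReflTransGen (Cfsg.OddAdj D) a b := fun h => hne (Set.ext fun c =>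
      ⟨fun hc => ⟨hc.1, (Cfsg.Agent.Lib.RootSub.oddReach_symm h).trans hc.2⟩, fun hc => ⟨hc.1, h.trans hc.2⟩⟩)
    have e : a * b * a⁻¹ * b⁻¹ = (a * b) ^ 2 := by
      rw [Cfsg.Agent.Lib.RootSub.rinv_inv hD ha, Cfsg.Agent.Lib.RootSub.rinv_inv hD hb, pow_two]
      group
    rw [e]
    rcases hD.pair a ha b hb with h | h | h
    · have : (a * b) ^ 2 = 1 := by
        rw [pow_two]
        nth_rewrite 2 [h]
        rw [mul_assoc, Cfsg.Agent.Lib.RootSub.rinv_cancel hD hb, Cfsg.Agent.Lib.RootSub.rinv_sq hD ha]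
      rw [this]; exact one_mem _
    · exact absurd (Relation.ReflTransGen.single ⟨ha, hb, fun h' => hab (h' ▸ Relation.ReflTransGen.refl), h⟩) hab
    · exact Subgroup.subset_closure (Cfsg.Agent.Lib.RootSub.isolated_of_four hD ha hb h.1 hab)
  · rintro a ha ⟨a', ha', hne⟩ b ⟨⟨hb, hba, hba'⟩, habD⟩
    by_cases hbW : b ∈ W
    · exact Or.inr hbW
    left
    refine ⟨hb, ?_⟩
    obtain ⟨x, hx⟩ : ∃ x, Cfsg.OddAdj D a x := by
      rcases Relation.ReflTransGen.cases_head ha'.2 with h | ⟨x, hx, -⟩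
      · exact absurd h.symm hne
      · exact ⟨x, hx⟩
    obtain ⟨u, hu⟩ : ∃ u, Cfsg.OddAdj D b u := by
      by_contra hno
      push Not at hno
      exact hbW ⟨hb, fun u => ⟨hno u, fun h => hno u (Cfsg.Agent.Lib.RootSub.oddAdj_symm h)⟩⟩
    have hab : a * b = b * a := hba.symm
    rcases Cfsg.Agent.Lib.RootSub.rinv_split hD ha hba habD hu with h | h
    · exact (Relation.ReflTransGen.single h).tail (Cfsg.Agent.Lib.RootSub.oddAdj_symm hu)
    · rcases Cfsg.Agent.Lib.RootSub.rinv_split hD hb hab (hab ▸ habD) hx with h' | h'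
      · exact (Relation.ReflTransGen.single hx).tail (Cfsg.Agent.Lib.RootSub.oddAdj_symm h')
      · rw [hab] at h'
        exact (((Relation.ReflTransGen.single hx).tail (Cfsg.Agent.Lib.RootSub.oddAdj_symm h')).tail h).tail
          (Cfsg.Agent.Lib.RootSub.oddAdj_symm hu)

end Cfsg.Agent.S5045
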