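import Cfsg.Statements.S5046
import Mathlib
import Cfsg.Agent.Lib.RootSub.SameOddCore

set_option autoImplicit false
open Cfsg

namespace Cfsg.Agent.S5046


/-- Let G be a finite group generated by a set D of root involutions whose odd-order-product graph is connected, and d ∈ D. Then the members e of D with the same commuting members as d are exactly those for which the union of the commuting members of d and the members whose product with d has order 4 equals the corresponding union for e. -/
theorem result {G : Type*} [Group G] [Finite G] {D : Set G} (hD : Cfsg.IsRootInvolutionSet D)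
    (hc : Cfsg.IsConnectedSet (Cfsg.OddAdj D) D) {d : G} (hd : d ∈ D) :
    Cfsg.sameCommutingClass D d =
      {e | e ∈ D ∧ Cfsg.commutingMembers D d ∪ Cfsg.fourPartners D d = Cfsg.commutingMembers D e ∪ Cfsg.fourPartners D e} := by
  classical
  have comp : ∀ a ∈ D, ∀ u, (u ∈ Cfsg.commutingMembers D a ∪ Cfsg.fourPartners D a) ↔
      (u ∈ D ∧ u ∉ Cfsg.oddPartners D a) := by
    intro a ha u
    constructor
    · rintro (⟨hu, hc'⟩ | ⟨hu, h4⟩)
      · exact ⟨hu, fun ho => Lib.RootSub.so_not_comm_of_odd hD ha ho hc'.symm⟩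
      · exact ⟨hu, fun ho => absurd (h4 ▸ ho.2.2) (by decide)⟩
    · rintro ⟨hu, hno⟩
      rcases Lib.RootSub.so_trichotomy hD ha hu hno with e | e
      · exact Or.inl ⟨hu, e.symm⟩
      · exact Or.inr ⟨hu, e⟩
  ext e
  constructor
  · rintro ⟨he, h⟩
    have hO : Cfsg.oddPartners D d = Cfsg.oddPartners D e :=
      Set.Subset.antisymm (Lib.RootSub.so_odd_subset hD hd he h) (Lib.RootSub.so_odd_subset hD he hd h.symm)
    refine ⟨he, Set.ext fun u => ?_⟩
    rw [comp d hd u, comp e he u, hO]
  · rintro ⟨he, h⟩
    refine ⟨he, Lib.RootSub.so_same_commuting_of_same_odd hD hc hd he (Set.ext fun u => ?_)⟩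
    constructor <;> intro hu <;> by_contra hno
    · have := ((Set.ext_iff.mp h u).mpr ((comp e he u).mpr ⟨hu.1, hno⟩))
      exact ((comp d hd u).mp this).2 hu
    · have := ((Set.ext_iff.mp h u).mp ((comp d hd u).mpr ⟨hu.1, hno⟩))
      exact ((comp e he u).mp this).2 hu

end Cfsg.Agent.S5046
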