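import Cfsg.Statements.S5047
import Cfsg.Agent.Lib.RootSub.ExactCommutator
import Cfsg.Agent.Lib.RootSub.SameOddCore

set_option autoImplicit false
open Cfsg

namespace Cfsg.Agent.S5047

open Cfsg.Agent.Lib.RootSub

/-- A commutator representation in both directions yields a partner of order three. -/
theorem order_three_of_cycle {G : Type*} [Group G] [Finite G] {D : Set G}
    (hD : Cfsg.IsRootInvolutionSet D) {a b z v : G} (ha : a ∈ D) (hb : b ∈ D) (hz : z ∈ D)
    (hv : v ∈ D) (hab : a * b = b * a) (habD : a * b ∈ D)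
    (haz : orderOf (a * z) = 4) (hbeq : (a * z) ^ 2 = b)
    (hbv : orderOf (b * v) = 4) (hzeq : (b * v) ^ 2 = z) :
    ∃ x ∈ D, orderOf (b * x) = 4 ∧ orderOf (a * x) = 3 := by
  have ha2 := rinv_sq hD ha
  have hb2 := rinv_sq hD hb
  have hz2 := rinv_sq hD hz
  have hv2 := rinv_sq hD hv
  obtain ⟨-, -, hab', hzb, -⟩ := rinv_four hD ha hz haz
  rw [hbeq] at hab' hzb
  have hbz : b * z = z * b := hzb.symm
  obtain ⟨-, -, -, hvz, -⟩ := rinv_four hD hb hv hbv
  rw [hzeq] at hvz
  have haza : a * z * a = b * z := by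
    rw [← hbeq, pow_two]; simp [mul_assoc, hz2]
  have hvbv : v * b * v = b * z := by
    rw [← hzeq, pow_two]; simp [mul_assoc, rinv_cancel hD hb]
  have hvzv : v * z * v = z := by rw [hvz, rinv_cancel' hD hv]
  have haba : a * b * a = b := by rw [hab, rinv_cancel' hD ha]
  set g := a * v with hg
  have hginv : g⁻¹ = v * a := by rw [hg, mul_inv_rev, rinv_inv hD ha, rinv_inv hD hv]
  let ψ := (MulAut.conj g).toMonoidHom
  have hgb : g * b * g⁻¹ = z := by
    calc g * b * g⁻¹ = a * (v * b * v) * a := by rw [hginv, hg]; simp [mul_assoc]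
      _ = (a * b * a) * (a * z * a) := by rw [hvbv]; simp [mul_assoc, rinv_cancel hD ha]
      _ = z := by rw [haba, haza, rinv_cancel hD hb]
  have hgz : g * z * g⁻¹ = b * z := by
    calc g * z * g⁻¹ = a * (v * z * v) * a := by rw [hginv, hg]; simp [mul_assoc]
      _ = b * z := by rw [hvzv, haza]
  have hgbz : g * (b * z) * g⁻¹ = b := by
    calc g * (b * z) * g⁻¹ = (g * b * g⁻¹) * (g * z * g⁻¹) := by simp [mul_assoc]
      _ = b := by rw [hgb, hgz, hbz, rinv_cancel hD hz]
  have hbnez : b ≠ z := fun e => by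
    rw [← e] at hgb
    have : b * z = b := by
      rw [← hgz, ← e]
      exact hgb
    rw [mul_eq_left] at this
    have h1 := hD.orderOf_eq z hz
    rw [this, orderOf_one] at h1
    omega
  have hbnebz : b ≠ b * z := fun e => by
    have h1 := hD.orderOf_eq z hz
    rw [left_eq_mul.mp e, orderOf_one] at h1
    omega
  have hstep : ∀ w (n : ℕ), g ^ (n + 1) * w * (g ^ (n + 1))⁻¹ = g * (g ^ n * w * (g ^ n)⁻¹) * g⁻¹ := by
    intro w n; rw [pow_succ']; simp [mul_assoc]
  have hcyc : ∀ n : ℕ, g ^ n * b * (g ^ n)⁻¹ =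
      if n % 3 = 0 then b else if n % 3 = 1 then z else b * z := by
    intro n
    induction n with
    | zero => simp
    | succ n ih =>
      rw [hstep, ih]
      have : n % 3 = 0 ∨ n % 3 = 1 ∨ n % 3 = 2 := by omega
      rcases this with h | h | h
      · simp [h, Nat.add_mod, hgb]
      · simp [h, Nat.add_mod, hgz]
      · simp [h, Nat.add_mod, hgbz]
  set n := orderOf g with hn
  have h3 : 3 ∣ n := by
    have h := hcyc n
    rw [hn, pow_orderOf_eq_one, one_mul, inv_one, mul_one, ← hn] at h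
    split_ifs at h with h0 h1
    · omega
    · exact absurd h hbnez
    · exact absurd h hbnebz
  have hodd : Odd n := by
    rcases hD.pair a ha v hv with e | e | e
    · exfalso
      have : g ^ 2 = 1 := by
        rw [hg, pow_two]
        nth_rewrite 2 [e]
        rw [mul_assoc, rinv_cancel hD hv, ha2]
      have h2 := (hn ▸ orderOf_dvd_of_pow_eq_one this : n ∣ 2)
      have := Nat.le_of_dvd (by norm_num) (h3.trans h2)
      omega
    · exact e
    · exfalso
      rw [← hg, ← hn] at e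
      omega
  obtain ⟨m, hm⟩ := h3
  have hm0 : 0 < m := by
    have : 0 < n := orderOf_pos g
    omega
  have hgm : orderOf (g ^ m) = 3 := by
    rw [orderOf_pow' g hm0.ne', ← hn, hm, Nat.gcd_mul_left_left, Nat.mul_div_cancel _ hm0]
  obtain ⟨k, hk⟩ : ∃ k, k + k = m + n := by
    obtain ⟨q, hq⟩ := hodd
    rcases Nat.even_or_odd m with ⟨r, hr⟩ | ⟨r, hr⟩
    · omega
    · exact ⟨r + q + 1, by omega⟩
  have hinv : ∀ j : ℕ, a * g ^ j = (g ^ j)⁻¹ * a := by
    intro j
    induction j with
    | zero => simp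
    | succ j ih =>
      calc a * g ^ (j + 1) = (a * g ^ j) * g := by rw [pow_succ, mul_assoc]
        _ = (g ^ j)⁻¹ * v := by rw [ih, hg]; simp [mul_assoc, rinv_cancel hD ha]
        _ = (g ^ j)⁻¹ * (g⁻¹ * a) := by rw [hginv, rinv_cancel' hD ha]
        _ = (g ^ (j + 1))⁻¹ * a := by rw [pow_succ' g j, mul_inv_rev g (g ^ j), mul_assoc]
  have hgn : g ^ n = 1 := hn ▸ pow_orderOf_eq_one g
  have hx : a * g ^ m = (g ^ k)⁻¹ * a * g ^ k := by
    rw [← hinv, mul_assoc, ← pow_add, hk, pow_add, hgn, mul_one]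
  have hxD : a * g ^ m ∈ D := by
    rw [hx]
    have := hD.conj_mem a ha (g ^ k)⁻¹
    rwa [inv_inv] at this
  have hax : a * (a * g ^ m) = g ^ m := rinv_cancel hD ha _
  have hord : orderOf (a * (a * g ^ m)) = 3 := by rw [hax, hgm]
  refine ⟨a * g ^ m, hxD, ?_, hord⟩
  set x := a * g ^ m with hxdef
  have hxa : x ≠ a := fun e => by rw [e, ha2, orderOf_one] at hord; omega
  have hnc : b * x ≠ x * b := fun e => hxa
    (rinv_commute_odd hD hb ha hab.symm (hab ▸ habD) hxD e.symm
      (by rw [rinv_order_comm, hord]; decide))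
  -- `x b x` commutes with `b`
  have hxbx : x * b * x = a * (g ^ m * b * (g ^ m)⁻¹) * a := by
    conv_lhs => arg 2; rw [hxdef, hinv]
    rw [hxdef]
    simp [mul_assoc]
  have hcomm : x * b * x * b = b * (x * b * x) := by
    rw [hxbx, hcyc]
    split_ifs
    · rw [haba]
    · rw [haza, mul_assoc, hzb]
    · rw [show a * (b * z) * a = (a * b * a) * (a * z * a) by simp [mul_assoc, rinv_cancel hD ha],
        haba, haza, rinv_cancel hD hb, hbz]
  refine rinv_four_of hD hb hxD hnc fun ho => ?_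
  apply hnc
  have h4 : (b * x) ^ (2 ^ 2) = 1 := by
    have hsq : (b * x) ^ 2 = b * (x * b * x) := by rw [pow_two]; simp [mul_assoc]
    rw [show (2 : ℕ) ^ 2 = 2 * 2 from rfl, pow_mul, hsq, pow_two]
    nth_rewrite 2 [← hcomm]
    simp [mul_assoc, rinv_cancel hD hxD, rinv_cancel hD hb, hb2, rinv_sq hD hxD]
  have := eq_one_of_odd ho h4
  rw [mul_eq_one_iff_eq_inv, rinv_inv hD hxD] at this
  rw [this]

/-- Let G be a finite group generated by a set D of root involutions whose odd-order-product graph is connected, a ∈ D, and b a member of D different from a, commuting with a, with ab ∈ D, but not having the same commuting members as a. Then some member x of D with bx of order 4 has ax of order 3. -/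
theorem result {G : Type*} [Group G] [Finite G] {D : Set G} (hD : Cfsg.IsRootInvolutionSet D)
    (hc : Cfsg.IsConnectedSet (Cfsg.OddAdj D) D) {a b : G} (ha : a ∈ D) (hb : b ∈ Cfsg.productPartners D a)
    (hbE : b ∉ Cfsg.sameCommutingClass D a) : ∃ x ∈ Cfsg.fourPartners D b, orderOf (a * x) = 3 := by

  classical
  obtain ⟨⟨hbD, hba, hne⟩, hbaD⟩ := hb
  have hsub : ∀ p q : G, p ∈ D → q ∈ D → Cfsg.commutingMembers D p ≠ Cfsg.commutingMembers D q →
      ∃ x ∈ Cfsg.oddPartners D p, x ∉ Cfsg.oddPartners D q := by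
    intro p q hp hq hpq
    by_contra hno
    push Not at hno
    exact hpq (so_same_commuting_of_same_odd hD hc hp hq (so_eq_of_subset hD hc hp hq hno))
  have habD : a * b ∈ D := hba ▸ hbaD
  obtain ⟨x, hxa, hxb⟩ := hsub a b ha hbD fun e => hbE ⟨hbD, e⟩
  have hxb4 : orderOf (x * b) = 4 := by
    rcases so_trichotomy hD hbD hxa.1 hxb with e | e
    · exact absurd (rinv_commute_odd hD hbD ha hba hbaD hxa.1 e.symm
        (by rw [rinv_order_comm]; exact hxa.2.2)) hxa.2.1
    · rwa [rinv_order_comm]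
  obtain ⟨z, hzD, haz, hbeq⟩ := exact_commutator hD ha hbD hba hbaD hxa hxb4
  obtain ⟨-, hconj, hab', hzb, hanc⟩ := rinv_four hD ha hzD haz
  rw [hbeq] at hconj hab' hzb
  have hzbD : z * b ∈ D := by
    have e : a * z * a = b * z := by rw [← hbeq, pow_two]; simp [mul_assoc, rinv_sq hD hzD]
    rw [hzb, ← e]
    exact rinv_conj hD hzD ha
  obtain ⟨x₂, hx₂b, hx₂z⟩ := hsub b z hbD hzD fun e => by
    have h : a ∈ Cfsg.commutingMembers D z := e ▸ ⟨ha, hba.symm⟩
    have h2 : (a * z) ^ 2 = 1 := by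
      rw [pow_two]
      nth_rewrite 2 [h.2]
      rw [mul_assoc, rinv_cancel hD hzD, rinv_sq hD ha]
    have := orderOf_dvd_of_pow_eq_one h2
    rw [haz] at this
    exact absurd (Nat.le_of_dvd (by norm_num) this) (by norm_num)
  have hx₂z4 : orderOf (x₂ * z) = 4 := by
    rcases so_trichotomy hD hzD hx₂b.1 hx₂z with e | e
    · exact absurd (rinv_commute_odd hD hzD hbD hzb hzbD hx₂b.1 e.symm
        (by rw [rinv_order_comm]; exact hx₂b.2.2)) hx₂b.2.1
    · rwa [rinv_order_comm]
  obtain ⟨v, hvD, hbv, hzeq⟩ := exact_commutator hD hbD hzD hzb hzbD hx₂b hx₂z4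
  obtain ⟨w, hwD, hw4, hw3⟩ :=
    order_three_of_cycle hD ha hbD hzD hvD hba.symm habD haz hbeq hbv hzeq
  exact ⟨w, ⟨hwD, hw4⟩, hw3⟩

end Cfsg.Agent.S5047
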