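import Cfsg.Statements.S5048
import Cfsg.Agent.Lib.RootSub.RootInvolutions
import Cfsg.Agent.Lib.Cores.PCore

set_option autoImplicit false
open Cfsg

namespace Cfsg.Agent.S5048

open Cfsg.Agent.Lib.RootSub in
theorem normal_dichotomy {G : Type*} [Group G] [Finite G] {D : Set G} (hD : Cfsg.IsRootInvolutionSet D)
    (hc : Cfsg.IsConnectedSet (Cfsg.OddAdj D) D) (hDD : (D ∩ Cfsg.commutingProducts D).Nonempty)
    (N : Subgroup G) (hN : N.Normal) : N = ⊤ ∨ N ≤ Cfsg.twoZCore G := by
  have hconj : ∀ a ∈ D, ∀ b ∈ D, ∃ g : G, g * a * g⁻¹ = b := by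
    intro a ha b hb
    induction hc a ha b hb with
    | refl => exact ⟨1, by simp⟩
    | @tail x y _ e ih =>
      obtain ⟨g, rfl⟩ := ih e.1
      obtain ⟨k, rfl⟩ := exists_conj_of_odd hD e.1 e.2.1 e.2.2.2
      exact ⟨k * g, by group⟩
  by_cases hND : ∃ x ∈ D, x ∈ N
  · left
    obtain ⟨x, hx, hxN⟩ := hND
    rw [eq_top_iff, ← hD.generates, Subgroup.closure_le]
    intro y hy
    obtain ⟨g, rfl⟩ := hconj x hx y hy
    exact hN.conj_mem x hxN g
  push Not at hND
  right
  have htri : ∀ d ∈ D, ∃ y ∈ D, d * y = y * d ∧ d * y ∈ D ∧ d ≠ y := by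
    obtain ⟨x, hx, p, hp, q, hq, hpq, hne, rfl⟩ := hDD
    intro d hd
    obtain ⟨g, rfl⟩ := hconj p hp d hd
    refine ⟨g * q * g⁻¹, hD.conj_mem q hq g, ?_, ?_, fun e => hne ?_⟩
    · calc g * p * g⁻¹ * (g * q * g⁻¹) = g * (p * q) * g⁻¹ := by group
        _ = g * (q * p) * g⁻¹ := by rw [hpq]
        _ = _ := by group
    · have := hD.conj_mem _ hx g
      rwa [show g * (p * q) * g⁻¹ = g * p * g⁻¹ * (g * q * g⁻¹) by group] at this
    · rw [mul_left_cancel (mul_right_cancel e), rinv_sq hD hq]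
  -- a member commutes with its conjugates under `N`
  have hcom : ∀ n ∈ N, ∀ d ∈ D, d * (n * d * n⁻¹) = (n * d * n⁻¹) * d := by
    intro n hn d hd
    set d' := n * d * n⁻¹ with hd'
    have hd'D : d' ∈ D := hD.conj_mem d hd n
    have hdd : d * d' ∈ N := by
      have := hN.conj_mem n hn d
      rw [rinv_inv hD hd] at this
      rw [hd', show d * (n * d * n⁻¹) = d * n * d * n⁻¹ by group]
      exact mul_mem this (inv_mem hn)
    rcases hD.pair d hd d' hd'D with h | h | h
    · exact h
    · by_contra hne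
      have hne' : d ≠ d' := fun e => hne (by rw [← e])
      obtain ⟨y, hy, hdy, hdyD, hdy'⟩ := htri d hd
      have key : ∀ q ∈ D, d * q = q * d → d * q ∈ D → Cfsg.OddAdj D q d' → False := by
        intro q hq hdq hdqD hadj
        obtain ⟨-, -, -, ho⟩ := hadj
        -- modulo `N`, `q` agrees with `d'`, hence with `d`
        set f := QuotientGroup.mk' N
        have e1 : f d = f d' := by
          have h0 : f (d * d') = 1 := (QuotientGroup.eq_one_iff _).mpr hdd
          rw [map_mul, mul_eq_one_iff_eq_inv, ← map_inv, rinv_inv hD hd'D] at h0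
          exact h0
        have e3 : (f q * f d') ^ (2 ^ 1) = 1 := by
          rw [← e1, ← map_mul, ← map_pow, pow_one, pow_two]
          nth_rewrite 2 [← hdq]
          rw [mul_assoc, rinv_cancel hD hd, rinv_sq hD hq, map_one]
        have ho' : Odd (orderOf (f q * f d')) := by
          rw [← map_mul]
          exact ho.of_dvd_nat (orderOf_map_dvd f (q * d'))
        have e4 := eq_one_of_odd ho' e3
        rw [← e1, ← map_mul] at e4
        have := (QuotientGroup.eq_one_iff _).mp e4
        rw [← hdq] at this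
        exact hND _ hdqD this
      rcases rinv_split hD hy hdy hdyD ⟨hd, hd'D, hne', h⟩ with hh | hh
      · exact key y hy hdy hdyD hh
      · refine key (d * y) hdyD ?_ ?_ hh
        · rw [mul_assoc d y d, ← hdy]
        · rw [rinv_cancel hD hd]; exact hy
    · exact absurd (by rw [pow_two]; exact mul_mem hdd hdd) (hND _ h.2)
  have hO : ∀ n ∈ N, ∀ d ∈ D, n * d * n⁻¹ * d ∈ Cfsg.pCore 2 G := by
    intro n hn d hd
    set s := {x : G | ∃ m ∈ N, x = m * d * m⁻¹} with hs
    set E := Subgroup.closure s with hE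
    have hgen : ∀ x ∈ s, ∀ y ∈ s, x * y = y * x := by
      rintro _ ⟨m, hm, rfl⟩ _ ⟨k, hk, rfl⟩
      have := hcom (m⁻¹ * k) (mul_mem (inv_mem hm) hk) d hd
      calc m * d * m⁻¹ * (k * d * k⁻¹) = m * (d * (m⁻¹ * k * d * (m⁻¹ * k)⁻¹)) * m⁻¹ := by group
        _ = m * ((m⁻¹ * k * d * (m⁻¹ * k)⁻¹) * d) * m⁻¹ := by rw [this]
        _ = _ := by group
    have hsq : ∀ x ∈ E, x * x = 1 ∧ ∀ y ∈ s, x * y = y * x := by
      intro x hx
      induction hx using Subgroup.closure_induction with
      | mem x hx =>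
        refine ⟨?_, hgen x hx⟩
        obtain ⟨m, -, rfl⟩ := hx
        exact rinv_sq hD (hD.conj_mem d hd m)
      | one => simp
      | mul u v hu hv hu' hv' =>
        have huv : u * v = v * u := by
          have hle : E ≤ Subgroup.centralizer ({u} : Set G) := by
            rw [hE, Subgroup.closure_le]
            exact fun y hy => Subgroup.mem_centralizer_singleton_iff.mpr (hu'.2 y hy).symm
          exact (Subgroup.mem_centralizer_singleton_iff.mp (hle hv)).symm
        refine ⟨?_, fun y hy => by rw [mul_assoc, hv'.2 y hy, ← mul_assoc, hu'.2 y hy, mul_assoc]⟩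
        calc u * v * (u * v) = u * (v * u) * v := by group
          _ = u * (u * v) * v := by rw [huv]
          _ = (u * u) * (v * v) := by group
          _ = 1 := by rw [hu'.1, hv'.1, one_mul]
      | inv u _ hu' =>
        rw [inv_eq_of_mul_eq_one_right hu'.1]
        exact hu'
    have hEN : IsPGroup 2 ↥(E ⊓ N) := by
      rintro ⟨x, hx⟩
      exact ⟨1, Subtype.ext (by simpa [pow_two] using (hsq x hx.1).1)⟩
    have hsub : (E ⊓ N).IsSubnormal := by
      refine Subgroup.IsSubnormal.step _ N inf_le_right hN.isSubnormal ⟨fun x hx g => ?_⟩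
      rw [Subgroup.mem_subgroupOf] at hx ⊢
      simp only [Subgroup.coe_mul, Subgroup.coe_inv]
      refine ⟨?_, hN.conj_mem _ hx.2 _⟩
      suffices hz : ∀ z ∈ E, (g : G) * z * (g : G)⁻¹ ∈ E from hz _ hx.1
      intro z hz
      induction hz using Subgroup.closure_induction with
      | mem y hy =>
        obtain ⟨m, hm, rfl⟩ := hy
        exact Subgroup.subset_closure ⟨(g : G) * m, mul_mem g.2 hm, by group⟩
      | one => simp
      | mul u v _ _ hu hv =>
        rw [show (g : G) * (u * v) * (g : G)⁻¹ = ((g : G) * u * (g : G)⁻¹) * ((g : G) * v * (g : G)⁻¹) by group]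
        exact mul_mem hu hv
      | inv u _ hu =>
        rw [show (g : G) * u⁻¹ * (g : G)⁻¹ = ((g : G) * u * (g : G)⁻¹)⁻¹ by group]
        exact inv_mem hu
    refine Cfsg.Agent.Lib.Cores.le_pCore_of_isSubnormal hsub hEN ⟨?_, ?_⟩
    · exact mul_mem (Subgroup.subset_closure ⟨n, hn, rfl⟩) (Subgroup.subset_closure ⟨1, one_mem _, by simp⟩)
    · have := hN.conj_mem n⁻¹ (inv_mem hn) d
      rw [rinv_inv hD hd] at this
      rw [show n * d * n⁻¹ * d = n * (d * n⁻¹ * d) by group]
      exact mul_mem hn this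
  intro n hn
  rw [Cfsg.twoZCore, Subgroup.mem_comap, Subgroup.mem_center_iff]
  intro g
  obtain ⟨g, rfl⟩ := QuotientGroup.mk'_surjective _ g
  have hle : Subgroup.closure D ≤ (Subgroup.centralizer {QuotientGroup.mk' (Cfsg.pCore 2 G) n}).comap
      (QuotientGroup.mk' (Cfsg.pCore 2 G)) := by
    rw [Subgroup.closure_le]
    intro d hd
    rw [SetLike.mem_coe, Subgroup.mem_comap, Subgroup.mem_centralizer_singleton_iff]
    have h0 : QuotientGroup.mk' (Cfsg.pCore 2 G) (n * d * n⁻¹ * d) = 1 :=
      (QuotientGroup.eq_one_iff _).mpr (hO n hn d hd)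
    rw [map_mul, mul_eq_one_iff_eq_inv, ← map_inv, rinv_inv hD hd, map_mul, map_mul, map_inv,
      mul_inv_eq_iff_eq_mul] at h0
    exact h0.symm
  rw [hD.generates] at hle
  exact Subgroup.mem_centralizer_singleton_iff.mp (hle (Subgroup.mem_top g))


/-- Let G be a finite group generated by a set D of root involutions whose odd-order-product graph is connected, with some product of two different commuting members of D again in D. Then the largest solvable normal subgroup of G is the preimage of the centre of G/O₂(G), and the quotient of G by it is a simple group. -/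
theorem result {G : Type*} [Group G] [Finite G] {D : Set G} (hD : Cfsg.IsRootInvolutionSet D)
    (hc : Cfsg.IsConnectedSet (Cfsg.OddAdj D) D) (hDD : (D ∩ Cfsg.commutingProducts D).Nonempty) :
    Cfsg.solvableRadical G = Cfsg.twoZCore G ∧ IsSimpleGroup (G ⧸ Cfsg.twoZCore G) := by
  haveI hfact : Fact (Nat.Prime 2) := ⟨Nat.prime_two⟩
  have hdich := normal_dichotomy hD hc hDD
  have hnot2 : ¬ IsPGroup 2 G := by
    intro hG
    obtain ⟨x, hx, p, hp, q, hq, -, hne, -⟩ := hDD
    have hpq : p ≠ q := fun e => hne (by rw [e, Cfsg.Agent.Lib.RootSub.rinv_sq hD hq])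
    rcases Relation.ReflTransGen.cases_head (hc p hp q hq) with h | ⟨u, hu, -⟩
    · exact hpq h
    · obtain ⟨k, hk⟩ := hG (p * u)
      have h1 := Cfsg.Agent.Lib.RootSub.eq_one_of_odd hu.2.2.2 hk
      rw [mul_eq_one_iff_eq_inv, Cfsg.Agent.Lib.RootSub.rinv_inv hD hu.2.1] at h1
      exact hu.2.2.1 h1
  have hZne : Cfsg.twoZCore G ≠ ⊤ := by
    intro htop
    have hcen : ∀ g h : G ⧸ Cfsg.pCore 2 G, g * h = h * g := by
      intro g h
      obtain ⟨g, rfl⟩ := QuotientGroup.mk'_surjective _ g
      have : g ∈ Cfsg.twoZCore G := htop ▸ Subgroup.mem_top g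
      exact ((Subgroup.mem_center_iff.mp (Subgroup.mem_comap.mp this)) h).symm
    have hsq : ∀ g ∈ Subgroup.closure D,
        (QuotientGroup.mk' (Cfsg.pCore 2 G) g) ^ 2 = 1 := by
      intro g hg
      induction hg using Subgroup.closure_induction with
      | mem d hd => rw [← map_pow, pow_two, Cfsg.Agent.Lib.RootSub.rinv_sq hD hd, map_one]
      | one => simp
      | mul u v _ _ hu hv => rw [map_mul, Commute.mul_pow (hcen _ _), hu, hv, one_mul]
      | inv u _ hu => rw [map_inv, inv_pow, hu, inv_one]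
    apply hnot2
    intro g
    have h1 : g ^ 2 ∈ Cfsg.pCore 2 G := by
      have := hsq g (hD.generates ▸ Subgroup.mem_top g)
      rw [← map_pow] at this
      exact (QuotientGroup.eq_one_iff _).mp this
    obtain ⟨k, hk⟩ := Cfsg.Agent.Lib.Cores.pCore_isPGroup 2 G ⟨g ^ 2, h1⟩
    exact ⟨k + 1, by rw [pow_succ', pow_mul]; exact congrArg Subtype.val hk⟩
  haveI : Nontrivial (G ⧸ Cfsg.twoZCore G) := QuotientGroup.nontrivial_iff.mpr hZne
  have hsimple : IsSimpleGroup (G ⧸ Cfsg.twoZCore G) := by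
    refine ⟨fun H hH => ?_⟩
    rw [← Subgroup.map_comap_eq_self_of_surjective (QuotientGroup.mk'_surjective (Cfsg.twoZCore G)) H]
    rcases hdich _ (hH.comap (QuotientGroup.mk' (Cfsg.twoZCore G))) with h | h
    · right; rw [h]; exact Subgroup.map_top_of_surjective _ (QuotientGroup.mk'_surjective _)
    · left
      rw [eq_bot_iff, ← QuotientGroup.map_mk'_self (Cfsg.twoZCore G)]
      exact Subgroup.map_mono h
  have hsolvZ : Group.IsSolvable ↥(Cfsg.twoZCore G) := by
    haveI : Group.IsNilpotent ↥(Cfsg.pCore 2 G) := (Cfsg.Agent.Lib.Cores.pCore_isPGroup 2 G).isNilpotent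
    let f : ↥(Cfsg.twoZCore G) →* ↥(Subgroup.center (G ⧸ Cfsg.pCore 2 G)) :=
      (QuotientGroup.mk' (Cfsg.pCore 2 G)).subgroupComap _
    haveI : Group.IsSolvable ↥(Subgroup.center (G ⧸ Cfsg.pCore 2 G)) :=
      Group.isSolvable_of_comm fun a b => Subtype.ext (Subgroup.mem_center_iff.mp b.2 a.1)
    have hle : Cfsg.pCore 2 G ≤ Cfsg.twoZCore G := fun x hx => by
      rw [Cfsg.twoZCore, Subgroup.mem_comap, show QuotientGroup.mk' (Cfsg.pCore 2 G) x = 1 from
        (QuotientGroup.eq_one_iff x).mpr hx]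
      exact one_mem _
    refine Group.isSolvable_of_ker_le_range (Subgroup.inclusion hle) f ?_
    rintro ⟨x, hx⟩ hxk
    have : QuotientGroup.mk' (Cfsg.pCore 2 G) x = 1 := congrArg Subtype.val hxk
    exact ⟨⟨x, (QuotientGroup.eq_one_iff x).mp this⟩, rfl⟩
  refine ⟨le_antisymm (sSup_le fun N hN => ?_) (le_sSup ⟨inferInstance, hsolvZ⟩), hsimple⟩
  rcases hdich N hN.1 with h | h
  · exfalso
    subst h
    haveI := hN.2
    haveI : Group.IsSolvable G := Group.isSolvable_of_surjective (f := (⊤ : Subgroup G).subtype) (fun g => ⟨⟨g, Subgroup.mem_top g⟩, rfl⟩)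
    -- a solvable simple group is abelian, and here of exponent two
    haveI := hsimple
    have hcomm : ∀ g h : G ⧸ Cfsg.twoZCore G, g * h = h * g := by
      haveI : Group.IsSolvable (G ⧸ Cfsg.twoZCore G) :=
        Group.isSolvable_of_surjective (f := QuotientGroup.mk' _) (QuotientGroup.mk'_surjective _)
      exact IsSimpleGroup.comm_iff_isSolvable.mpr inferInstance
    have hsq : ∀ g ∈ Subgroup.closure D, (QuotientGroup.mk' (Cfsg.twoZCore G) g) ^ 2 = 1 := by
      intro g hg
      induction hg using Subgroup.closure_induction with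
      | mem d hd => rw [← map_pow, pow_two, Cfsg.Agent.Lib.RootSub.rinv_sq hD hd, map_one]
      | one => simp
      | mul u v _ _ hu hv => rw [map_mul, Commute.mul_pow (hcomm _ _), hu, hv, one_mul]
      | inv u _ hu => rw [map_inv, inv_pow, hu, inv_one]
    -- odd products are central modulo the core
    obtain ⟨x, hx, p, hp, q, hq, -, hne, -⟩ := hDD
    have hpq : p ≠ q := fun e => hne (by rw [e, Cfsg.Agent.Lib.RootSub.rinv_sq hD hq])
    rcases Relation.ReflTransGen.cases_head (hc p hp q hq) with h | ⟨u, hu, -⟩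
    · exact hpq h
    set g := p * u with hg
    have hg2 : g ∈ Cfsg.twoZCore G := by
      have h1 : g ^ 2 ∈ Cfsg.twoZCore G := by
        have := hsq g (hD.generates ▸ Subgroup.mem_top g)
        rw [← map_pow] at this
        exact (QuotientGroup.eq_one_iff _).mp this
      obtain ⟨k, hk⟩ := hu.2.2.2
      have := pow_mem h1 (k + 1)
      rwa [← pow_mul, show 2 * (k + 1) = orderOf g + 1 by rw [hg]; omega, pow_succ, pow_orderOf_eq_one, one_mul] at this
    have hcz : (QuotientGroup.mk' (Cfsg.pCore 2 G) g) * QuotientGroup.mk' (Cfsg.pCore 2 G) p =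
        QuotientGroup.mk' (Cfsg.pCore 2 G) p * QuotientGroup.mk' (Cfsg.pCore 2 G) g :=
      ((Subgroup.mem_center_iff.mp (Subgroup.mem_comap.mp hg2)) _).symm
    rw [← map_mul, ← map_mul] at hcz
    have hg4 : g * g ∈ Cfsg.pCore 2 G := by
      have := QuotientGroup.eq.mp hcz.symm
      have e : (p * g)⁻¹ * (g * p) = g⁻¹ * (p * g * p) := by
        rw [mul_inv_rev, Cfsg.Agent.Lib.RootSub.rinv_inv hD hp]; group
      have e2 : p * g * p = g⁻¹ := by
        rw [hg, Cfsg.Agent.Lib.RootSub.rinv_cancel hD hp, mul_inv_rev,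
          Cfsg.Agent.Lib.RootSub.rinv_inv hD hp, Cfsg.Agent.Lib.RootSub.rinv_inv hD hu.2.1]
      rw [e, e2] at this
      simpa using inv_mem this
    obtain ⟨k, hk⟩ := Cfsg.Agent.Lib.Cores.pCore_isPGroup 2 G ⟨g * g, hg4⟩
    have h1 : g = 1 := Cfsg.Agent.Lib.RootSub.eq_one_of_odd hu.2.2.2 (k := k + 1) (by
      rw [pow_succ', pow_mul, pow_two]; exact congrArg Subtype.val hk)
    rw [hg, mul_eq_one_iff_eq_inv, Cfsg.Agent.Lib.RootSub.rinv_inv hD hu.2.1] at h1
    exact hu.2.2.1 h1
  · exact h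

end Cfsg.Agent.S5048
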