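import Cfsg.Statements.S5049
import Cfsg.Agent.Lib.Cores.PCore

set_option autoImplicit false
open Cfsg

namespace Cfsg.Agent.S5049

open Lib in
theorem mem_imp_eq_one {G : Type*} [Group G] {Q : Subgroup G} (hQ : IsPGroup 2 Q) {x : G} (hx : x ∈ Q)
    (ho : Odd (orderOf x)) : x = 1 := by
  obtain ⟨k, hk⟩ := hQ ⟨x, hx⟩
  have h1 : orderOf x ∣ 2 ^ k := orderOf_dvd_of_pow_eq_one (congrArg Subtype.val hk)
  rw [← orderOf_eq_one_iff]
  exact Nat.eq_one_of_dvd_coprimes (Nat.Coprime.pow_right k ((Nat.coprime_two_right).mpr ho)) dvd_rfl h1


/-- Let G be a finite group generated by a set D of odd transpositions (root involutions with no product of order 4), Q = O₂(G), and for a ∈ D let Q_a be the commutator subgroup of Q with a. Then every member of D commuting with a centralizes Q_a; and for b ∈ D with ab of odd order greater than 1, the centralizer of ab in Q is the intersection of the centralizers of a and b in Q. -/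
theorem result {G : Type*} [Group G] [Finite G] {D : Set G} (hD : Cfsg.IsOddTranspositionSet D) {a : G} (ha : a ∈ D) :
    (∀ e ∈ Cfsg.commutingMembers D a, ∀ q ∈ ⁅Cfsg.pCore 2 G, Subgroup.zpowers a⁆, e * q = q * e) ∧
    (∀ b ∈ Cfsg.oddPartners D a,
      Cfsg.pCore 2 G ⊓ Subgroup.centralizer {a * b} = Cfsg.pCore 2 G ⊓ Subgroup.centralizer {a} ⊓ Subgroup.centralizer {b}) := by
  obtain ⟨hR, hdeg⟩ := hD
  set Q := Cfsg.pCore 2 G with hQ
  have hQn : Q.Normal := inferInstance
  have hQp : IsPGroup 2 Q := Lib.Cores.pCore_isPGroup 2 G
  have hsq : ∀ d ∈ D, d * d = 1 := fun d hd => by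
    rw [← pow_two, ← hR.orderOf_eq d hd]; exact pow_orderOf_eq_one d
  have hinv : ∀ d ∈ D, d⁻¹ = d := fun d hd => inv_eq_of_mul_eq_one_right (hsq d hd)
  have hpair : ∀ c ∈ D, ∀ d ∈ D, c * d = d * c ∨ Odd (orderOf (c * d)) := by
    intro c hc d hd
    rcases hR.pair c hc d hd with h | h | h
    · exact Or.inl h
    · exact Or.inr h
    · exact absurd h.1 (hdeg c hc d hd)
  have hx : ∀ q ∈ Q, ∀ a ∈ D, (q * a * q⁻¹) * a ∈ Q := by
    intro q hq a ha
    have h1 := hQn.conj_mem q⁻¹ (inv_mem hq) a
    rw [hinv a ha] at h1
    rw [show q * a * q⁻¹ * a = q * (a * q⁻¹ * a) by group]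
    exact mul_mem hq h1
  have hxc : ∀ q ∈ Q, ∀ a ∈ D, (q * a * q⁻¹) * a = a * (q * a * q⁻¹) := by
    intro q hq a ha
    rcases hpair _ (hR.conj_mem a ha q) a ha with h | h
    · exact h
    · have := mem_imp_eq_one hQp (hx q hq a ha) h
      rw [mul_eq_one_iff_eq_inv, hinv a ha] at this
      rw [this]
  constructor
  · rintro e ⟨he, hea⟩ x hx'
    have hle : ⁅Q, Subgroup.zpowers a⁆ ≤ Subgroup.centralizer ({e} : Set G) := by
      rw [Subgroup.commutator_le]
      intro q hq y hy
      rw [Subgroup.mem_centralizer_singleton_iff]
      have hea' : e * (q * a * q⁻¹) = (q * a * q⁻¹) * e := by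
        rcases hpair e he _ (hR.conj_mem a ha q) with h | h
        · exact h
        · set a' := q * a * q⁻¹ with ha'
          have h2 : (a' * e) ^ 2 ∈ Q := by
            have h3 : e * (a' * a) * e = (e * a' * e) * a := by
              rw [mul_assoc e (a' * a) e, mul_assoc a' a e, ← hea]; group
            have h4 := hQn.conj_mem _ (hx q hq a ha) e
            rw [hinv e he, ← ha', h3] at h4
            have h5 := mul_mem (hx q hq a ha) h4
            rw [← ha'] at h5
            have h6 : a' * a * (e * a' * e * a) = (a' * e) ^ 2 := by
              have hc : a * (e * a' * e) = (e * a' * e) * a := by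
                have := congrArg (fun x => e * x * e) (hxc q hq a ha).symm
                simp only [← ha'] at this
                calc a * (e * a' * e) = (a * e) * (a' * e) := by group
                  _ = (e * a) * (a' * e) := by rw [← hea]
                  _ = e * (a * a') * e := by group
                  _ = e * (a' * a) * e := by rw [this]
                  _ = e * a' * (a * e) := by group
                  _ = _ := by rw [← hea]; group
              calc a' * a * (e * a' * e * a) = a' * (a * (e * a' * e)) * a := by group
                _ = a' * (e * a' * e) * (a * a) := by rw [hc]; group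
                _ = _ := by rw [hsq a ha, mul_one, pow_two]; group
            rwa [h6] at h5
          have ho : orderOf (a' * e) = orderOf (e * a') := by
            have := (MulAut.conj a').orderOf_eq (e * a')
            rw [← this]
            congr 1
            simp [mul_assoc]
          have h7 := mem_imp_eq_one hQp h2 (by
            rw [Nat.Coprime.orderOf_pow (by rw [ho]; exact (Nat.coprime_two_right).mpr h), ho]; exact h)
          have h8 : orderOf (a' * e) ∣ 2 := orderOf_dvd_of_pow_eq_one h7
          have h9 : orderOf (a' * e) = 1 := by
            rcases (Nat.dvd_prime Nat.prime_two).mp h8 with h9 | h9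
            · exact h9
            · rw [← ho, h9] at h; exact absurd h (by decide)
          have h10 : a' = e := by
            have := orderOf_eq_one_iff.mp h9
            rwa [mul_eq_one_iff_eq_inv, hinv e he] at this
          rw [h10]
      obtain ⟨n, rfl⟩ := Subgroup.mem_zpowers_iff.mp hy
      have h11 : Commute e (q * a ^ n * q⁻¹) := by
        rw [← conj_zpow]; exact Commute.zpow_right (show Commute e _ from hea') n
      rw [commutatorElement_def]
      exact (h11.mul_right ((Commute.zpow_right (show Commute e a from hea) n).inv_right)).eq.symm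
    exact (Subgroup.mem_centralizer_singleton_iff.mp (hle hx')).symm
  · rintro b ⟨hb, hba, hodd⟩
    ext q
    simp only [Subgroup.mem_inf, Subgroup.mem_centralizer_singleton_iff]
    constructor
    · rintro ⟨hq, hc⟩
      have hqa : q * a * q⁻¹ = a := by
        set a' := q * a * q⁻¹ with ha'
        set b' := q * b * q⁻¹ with hb'
        obtain ⟨x, hxdef⟩ : ∃ x, a' * a = x := ⟨_, rfl⟩
        have hab : a' * b' = a * b := by
          calc a' * b' = q * (a * b) * q⁻¹ := by rw [ha', hb']; group
            _ = _ := by rw [hc]; group
        have hx2 : b' * b = a' * a := by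
          calc b' * b = a'⁻¹ * (a' * b') * b := by group
            _ = a' * a * (b * b) := by rw [hab, hinv a' (hR.conj_mem a ha q)]; group
            _ = a' * a := by rw [hsq b hb, mul_one]
        have hca : Commute x a := by
          rw [← hxdef]
          exact ((show Commute a' a from hxc q hq a ha).mul_left (Commute.refl a))
        have hcb : Commute x b := by
          rw [← hxdef, ← hx2]
          exact ((show Commute b' b from hxc q hq b hb).mul_left (Commute.refl b))
        have hxx : x * x = 1 := by
          rw [← hxdef]
          calc a' * a * (a' * a) = a' * (a * a') * a := by group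
            _ = (a' * a') * (a * a) := by rw [← (show Commute a' a from hxc q hq a ha).eq]; group
            _ = 1 := by rw [hsq a ha, hsq a' (hR.conj_mem a ha q), one_mul]
        have hx1 : x = 1 := by
          by_contra hx1
          have hcab : Commute x (a * b) := hca.mul_right hcb
          have hxo : orderOf x = 2 := orderOf_eq_prime (by rw [pow_two, hxx]) hx1
          have ha'b : a' * b = x * (a * b) := by
            rw [← hxdef]
            calc a' * b = a' * (a * a) * b := by rw [hsq a ha, mul_one]
              _ = _ := by group
          have ho : orderOf (a' * b) = 2 * orderOf (a * b) := by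
            rw [ha'b, hcab.orderOf_mul_eq_mul_orderOf_of_coprime (by rw [hxo]; exact (Nat.coprime_two_left).mpr hodd), hxo]
          rcases hpair a' (hR.conj_mem a ha q) b hb with h | h
          · have h2 : (a' * b) ^ 2 = 1 := by
              rw [pow_two]
              calc a' * b * (a' * b) = a' * (b * a') * b := by group
                _ = (a' * a') * (b * b) := by rw [← h]; group
                _ = 1 := by rw [hsq b hb, hsq a' (hR.conj_mem a ha q), one_mul]
            have h3 := orderOf_dvd_of_pow_eq_one h2
            rw [ho] at h3
            have h4 : orderOf (a * b) = 1 := by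
              have := Nat.le_of_dvd (by norm_num) h3
              have := orderOf_pos (a * b)
              omega
            rw [orderOf_eq_one_iff, mul_eq_one_iff_eq_inv, hinv b hb] at h4
            exact hba h4.symm
          · rw [ho] at h
            exact (Nat.not_odd_iff_even.mpr (even_two_mul _)) h
        rw [hx1, mul_eq_one_iff_eq_inv, hinv a ha] at hxdef
        exact hxdef
      have hqa' : q * a = a * q := mul_inv_eq_iff_eq_mul.mp hqa
      refine ⟨⟨hq, hqa'⟩, ?_⟩
      calc q * b = q * ((a * a) * b) := by rw [hsq a ha, one_mul]
        _ = (q * a) * (a * b) := by group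
        _ = a * (q * (a * b)) := by rw [hqa', mul_assoc]
        _ = a * (a * b * q) := by rw [hc]
        _ = (a * a) * (b * q) := by group
        _ = b * q := by rw [hsq a ha, one_mul]
    · rintro ⟨⟨hq, hqa⟩, hqb⟩
      exact ⟨hq, by rw [← mul_assoc, hqa, mul_assoc, hqb, mul_assoc]⟩

end Cfsg.Agent.S5049
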