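import Cfsg.Statements.S5057


set_option autoImplicit false
open Cfsg

namespace Cfsg.Agent.S5057

open Equiv Equiv.Perm

set_option maxRecDepth 100000 in
theorem even_pow : ∀ g : Perm (Fin 6), sign g = 1 → g ^ 3 = 1 ∨ g ^ 4 = 1 ∨ g ^ 5 = 1 := by
  decide +kernel

set_option maxRecDepth 100000 in
theorem even_involution : ∀ g : Perm (Fin 6), sign g = 1 → g ^ 2 = 1 → g ≠ 1 → g.support.card = 4 := by
  decide +kernel

theorem order_le (g : ↥(alternatingGroup (Fin 6))) :
    orderOf g = 1 ∨ orderOf g = 2 ∨ orderOf g = 3 ∨ orderOf g = 4 ∨ orderOf g = 5 := by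
  have h := even_pow g.1 g.2
  have hd : orderOf g ∣ 3 ∨ orderOf g ∣ 4 ∨ orderOf g ∣ 5 := by
    rcases h with h | h | h
    · exact Or.inl (orderOf_dvd_of_pow_eq_one (Subtype.ext h))
    · exact Or.inr (Or.inl (orderOf_dvd_of_pow_eq_one (Subtype.ext h)))
    · exact Or.inr (Or.inr (orderOf_dvd_of_pow_eq_one (Subtype.ext h)))
  have hpos : 0 < orderOf g := orderOf_pos g
  rcases hd with h | h | h
  · have := Nat.le_of_dvd (by norm_num) h
    omega
  · have := Nat.le_of_dvd (by norm_num) h
    omega
  · have := Nat.le_of_dvd (by norm_num) h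
    omega

theorem cycleType_eq (g : ↥(alternatingGroup (Fin 6))) (h : orderOf g = 2) :
    (g : Perm (Fin 6)).cycleType = {2, 2} := by
  have h' : orderOf (g : Perm (Fin 6)) = 2 := by rw [Subgroup.orderOf_coe]; exact h
  obtain ⟨n, hn⟩ := cycleType_prime_order (σ := (g : Perm (Fin 6))) (by rw [h']; exact Nat.prime_two)
  rw [h'] at hn
  have hs := sum_cycleType (g : Perm (Fin 6))
  rw [hn, Multiset.sum_replicate, even_involution g.1 g.2 (by rw [← h']; exact pow_orderOf_eq_one _)
    (fun e => by rw [e, orderOf_one] at h'; exact absurd h' (by norm_num)), smul_eq_mul] at hs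
  have : n = 1 := by omega
  rw [hn, this]; rfl

theorem conj_involutions (a b : ↥(alternatingGroup (Fin 6))) (ha : orderOf a = 2) (hb : orderOf b = 2) :
    ∃ g : ↥(alternatingGroup (Fin 6)), b = g * a * g⁻¹ := by
  have hd : ∀ x : ↥(alternatingGroup (Fin 6)), orderOf x = 2 →
      IsConj (swap (0 : Fin 6) 1 * swap 2 3) (x : Perm (Fin 6)) := by
    intro x hx
    rw [isConj_iff_cycleType_eq, cycleType_eq x hx]
    decide +kernel
  obtain ⟨u, hu⟩ := isConj_iff.mp (hd a ha)
  obtain ⟨v, hv⟩ := isConj_iff.mp (hd b hb)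
  rcases Int.units_eq_one_or (sign (v * u⁻¹)) with h | h
  · exact ⟨⟨v * u⁻¹, h⟩, Subtype.ext (by
      change (b : Perm (Fin 6)) = v * u⁻¹ * (a : Perm (Fin 6)) * (v * u⁻¹)⁻¹
      rw [← hu, ← hv]; group)⟩
  · refine ⟨⟨v * swap (0 : Fin 6) 1 * u⁻¹, ?_⟩, Subtype.ext ?_⟩
    · rw [mem_alternatingGroup]
      rw [map_mul, map_inv] at h
      rw [map_mul, map_mul, sign_swap (by decide), map_inv, mul_comm (sign v), mul_assoc, h]
      rfl
    · change (b : Perm (Fin 6)) = v * swap (0 : Fin 6) 1 * u⁻¹ * (a : Perm (Fin 6)) * (v * swap (0 : Fin 6) 1 * u⁻¹)⁻¹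
      rw [← hu, ← hv]
      have : swap (0 : Fin 6) 1 * (swap 0 1 * swap 2 3) * (swap (0 : Fin 6) 1)⁻¹ = swap 0 1 * swap 2 3 := by
        decide +kernel
      conv_lhs => rw [← this]
      group


/-- The involutions of the alternating group of degree 6 form a class of root involutions (a single conjugacy class of involutions generating the group, any two of which commute, have product of odd order, or have product of order 4 whose square is again an involution of the class), and the product of any two of them has order at most 5. -/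
theorem result :
    Cfsg.IsRootInvolutionClass {g : ↥(alternatingGroup (Fin 6)) | orderOf g = 2} ∧
    ∀ d ∈ {g : ↥(alternatingGroup (Fin 6)) | orderOf g = 2}, ∀ e ∈ {g : ↥(alternatingGroup (Fin 6)) | orderOf g = 2},
      orderOf (d * e) ≤ 5 := by
  set D := {g : ↥(alternatingGroup (Fin 6)) | orderOf g = 2} with hD
  have hd₀ : (⟨swap (0 : Fin 6) 1 * swap 2 3, by rw [mem_alternatingGroup]; decide +kernel⟩ : ↥(alternatingGroup (Fin 6))) ∈ D :=
    orderOf_eq_prime (Subtype.ext (by decide +kernel)) (fun e => by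
      have := congrArg Subtype.val e
      revert this
      decide +kernel)
  have hconj : ∀ d ∈ D, ∀ g, g * d * g⁻¹ ∈ D := fun d (hd : orderOf d = 2) g => by
    change orderOf (g * d * g⁻¹) = 2
    rw [← hd]; exact ((MulAut.conj g).orderOf_eq d)
  refine ⟨⟨⟨fun d hd => hd, ?_, hconj, ?_⟩, ⟨_, hd₀⟩, fun a ha b hb => conj_involutions a b ha hb⟩, ?_⟩
  · haveI : IsSimpleGroup ↥(alternatingGroup (Fin 6)) := alternatingGroup.isSimpleGroup (by simp)
    have hn : (Subgroup.closure D).Normal := by
      constructor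
      intro x hx g
      induction hx using Subgroup.closure_induction with
      | mem y hy => exact Subgroup.subset_closure (hconj y hy g)
      | one => simp
      | mul u v _ _ hu hv => simpa [mul_assoc] using mul_mem hu hv
      | inv u _ hu => simpa [mul_assoc] using inv_mem hu
    refine (hn.eq_bot_or_eq_top).resolve_left fun e => ?_
    have h2 : orderOf (⟨swap (0 : Fin 6) 1 * swap 2 3, by rw [mem_alternatingGroup]; decide +kernel⟩ : ↥(alternatingGroup (Fin 6))) = 2 := hd₀
    rw [orderOf_eq_one_iff.mpr (Subgroup.mem_bot.mp (e ▸ Subgroup.subset_closure hd₀))] at h2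
    exact absurd h2 (by norm_num)
  · intro a (ha : orderOf a = 2) b (hb : orderOf b = 2)
    have ha2 : a * a = 1 := by rw [← pow_two, ← ha]; exact pow_orderOf_eq_one a
    have hb2 : b * b = 1 := by rw [← pow_two, ← hb]; exact pow_orderOf_eq_one b
    rcases order_le (a * b) with h | h | h | h | h
    · exact Or.inr (Or.inl (by rw [h]; exact odd_one))
    · left
      have h1 : (a * b) * (a * b) = 1 := by rw [← pow_two, ← h]; exact pow_orderOf_eq_one _
      calc a * b = (a * b) * ((a * b) * (a * b))⁻¹ := by rw [h1, inv_one, mul_one]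
        _ = b⁻¹ * a⁻¹ := by group
        _ = b * a := by rw [inv_eq_of_mul_eq_one_right hb2, inv_eq_of_mul_eq_one_right ha2]
    · exact Or.inr (Or.inl (by rw [h]; decide))
    · right; right
      exact ⟨h, by change orderOf ((a * b) ^ 2) = 2; rw [orderOf_pow, h]; rfl⟩
    · exact Or.inr (Or.inl (by rw [h]; decide))
  · intro d _ e _
    rcases order_le (d * e) with h | h | h | h | h <;> omega

end Cfsg.Agent.S5057
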