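import Cfsg.Statements.S5059
import Cfsg.Agent.Lib.QuadPair.Basic

set_option autoImplicit false
universe u
open Cfsg

namespace Cfsg.Agent.S5059


/-- Let k be a field of characteristic not 2 with k not of order 3, M a finite-dimensional k-vector space and G ≤ GL(M) such that (G, M) is a quadratic pair (M irreducible for G, and G generated by its quadratically acting elements σ whose scalar family 1 + c(σ − 1), c ∈ k, lies in G). Write 𝒬_d for the quadratic elements of G of minimal commutator rank, E(σ) for the subgroup generated by the members of 𝒬_d with the same fixed space and commutator space as σ, and Σ for the set of these subgroups. Then for σ ∈ 𝒬_d the subgroup E(σ) consists exactly of those members together with the identity, it is abelian, and if k has prime characteristic p every element of E(σ) has order dividing p. -/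
theorem result {k : Type u} [Field k] (hk2 : ringChar k ≠ 2) (hk3 : Nat.card k ≠ 3)
    {M : Type u} [AddCommGroup M] [Module k M] [FiniteDimensional k M]
    {G : Subgroup (LinearMap.GeneralLinearGroup k M)} (hG : Cfsg.IsQuadraticPair G)
    {σ : LinearMap.GeneralLinearGroup k M} (hσ : σ ∈ Cfsg.minimalQuadraticElements G) :
    (Cfsg.sameActionSubgroup G σ : Set (LinearMap.GeneralLinearGroup k M)) = Cfsg.sameActionClass G σ ∪ {1} ∧
    IsMulCommutative ↥(Cfsg.sameActionSubgroup G σ) ∧
    (∀ p : ℕ, p.Prime → ringChar k = p → ∀ x ∈ Cfsg.sameActionSubgroup G σ, x ^ p = 1) := by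
  have ha := Cfsg.Agent.Lib.QuadPair.mem_minimal_iff.mp hσ
  have hle := Cfsg.Agent.Lib.QuadPair.range_le_ker ha.1.1
  rw [Cfsg.Agent.Lib.QuadPair.sameActionSubgroup_eq ha]
  refine ⟨?_, Cfsg.Agent.Lib.QuadPair.isMulCommutative_grp hle, fun p hp hkp x hx => ?_⟩
  · rw [Cfsg.Agent.Lib.QuadPair.sameActionClass_eq ha]
    ext g
    rw [SetLike.mem_coe, Cfsg.Agent.Lib.QuadPair.mem_grp_iff hle]
    constructor
    · rintro ⟨b, hb, rfl⟩
      by_cases h0 : b = 0
      · exact Or.inr (by simp [h0, Cfsg.Agent.Lib.QuadPair.uni_zero])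
      · exact Or.inl ⟨b, ⟨hb, h0⟩, rfl⟩
    · rintro (⟨b, ⟨hb, -⟩, rfl⟩ | h)
      · exact ⟨b, hb, rfl⟩
      · rw [Set.mem_singleton_iff] at h
        exact ⟨0, Cfsg.Agent.Lib.QuadPair.fam_zero, h.trans Cfsg.Agent.Lib.QuadPair.uni_zero.symm⟩
  · obtain ⟨b, hb, rfl⟩ := (Cfsg.Agent.Lib.QuadPair.mem_grp_iff hle).mp hx
    have hpow : ∀ n : ℕ, Cfsg.Agent.Lib.QuadPair.uni b ^ n = Cfsg.Agent.Lib.QuadPair.uni ((n : k) • b) := by
      intro n
      induction n with
      | zero => simp [Cfsg.Agent.Lib.QuadPair.uni_zero]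
      | succ n ih =>
        rw [pow_succ, ih, Cfsg.Agent.Lib.QuadPair.uni_mul (Cfsg.Agent.Lib.QuadPair.smul_sq hb.1.1 _) hb.1.1
          (by simp [hb.1.1]) (by simp [hb.1.1]), Nat.cast_succ, add_smul, one_smul]
    have hp0 : (p : k) = 0 := (ringChar.spec k p).mpr (hkp ▸ dvd_rfl)
    rw [hpow, hp0, zero_smul, Cfsg.Agent.Lib.QuadPair.uni_zero]

end Cfsg.Agent.S5059
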