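import Cfsg.Statements.S5060
import Cfsg.Agent.Lib.QuadPair.FieldGen

set_option autoImplicit false
open Cfsg

namespace Cfsg.Agent.S5060

open Matrix Cfsg.Agent.Lib.QuadPair in
private theorem aux {k L : Type*} [Field k] [Field L] [Algebra k L] (h2 : (2 : L) ≠ 0) (hk3 : Nat.card k ≠ 3)
    {α : L} (hα : IsAlgebraic k α) (hα0 : α ≠ 0) (htop : Algebra.adjoin k ({α} : Set L) = ⊤) :
    Subgroup.closure ({g : SpecialLinearGroup (Fin 2) L | ∃ c : k, (g : Matrix (Fin 2) (Fin 2) L) = !![1, algebraMap k L c; 0, 1]} ∪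
      {g : SpecialLinearGroup (Fin 2) L | ∃ c : k, (g : Matrix (Fin 2) (Fin 2) L) = !![1, 0; algebraMap k L c * α, 1]}) = ⊤ := by
  rw [eq_top_iff]
  intro g _
  set T : Subgroup (SpecialLinearGroup (Fin 2) L) := Subgroup.closure
    ({g : SpecialLinearGroup (Fin 2) L | ∃ c : k, (g : Matrix (Fin 2) (Fin 2) L) = !![1, algebraMap k L c; 0, 1]} ∪
      {g : SpecialLinearGroup (Fin 2) L | ∃ c : k, (g : Matrix (Fin 2) (Fin 2) L) = !![1, 0; algebraMap k L c * α, 1]})
  have hle : genGrp k α ≤ T.comap (MulAut.conj (swapW (K := L))).toMonoidHom := by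
    rw [genGrp, Subgroup.closure_le]
    rintro _ (⟨t, rfl⟩ | ⟨d, rfl⟩) <;> rw [SetLike.mem_coe, Subgroup.mem_comap, MulEquiv.coe_toMonoidHom, MulAut.conj_apply]
    · refine Subgroup.subset_closure (Or.inr ⟨-t, ?_⟩)
      rw [show swapW * xU (algebraMap k L t * α) * swapW⁻¹ = yL (algebraMap k L (-t) * α) from ?_]
      · rfl
      rw [mul_inv_eq_iff_eq_mul]
      ext i j
      fin_cases i <;> fin_cases j <;> simp [coe_swapW, coe_xU, coe_yL, Matrix.mul_apply, Fin.sum_univ_two]
    · refine Subgroup.subset_closure (Or.inl ⟨-d, ?_⟩)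
      rw [show swapW * yL (algebraMap k L d) * swapW⁻¹ = xU (algebraMap k L (-d)) from ?_]
      · rfl
      rw [mul_inv_eq_iff_eq_mul]
      ext i j
      fin_cases i <;> fin_cases j <;> simp [coe_swapW, coe_xU, coe_yL, Matrix.mul_apply, Fin.sum_univ_two]
  rw [genGrp_eq_top h2 hk3 hα hα0 htop] at hle
  have := hle (Subgroup.mem_top ((MulAut.conj swapW).symm g))
  simpa [mul_assoc] using this


/-- Let k ⊆ K be fields with the characteristic of k not 2 and k not of order 3, and let α ∈ K be a non-zero element algebraic over k. Then the subgroup of SL₂(K) generated by the upper unitriangular matrices with entry c and the lower unitriangular matrices with entry cα, c ranging over k, is exactly the group of matrices of SL₂(K) with all entries in k(α). -/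
theorem result {k K : Type*} [Field k] [Field K] [Algebra k K] (hk2 : ringChar k ≠ 2) (hk3 : Nat.card k ≠ 3)
    (α : K) (hα : IsAlgebraic k α) (hα0 : α ≠ 0) :
    (Subgroup.closure ({g : Matrix.SpecialLinearGroup (Fin 2) K | ∃ c : k, (g : Matrix (Fin 2) (Fin 2) K) = !![1, algebraMap k K c; 0, 1]} ∪
        {g : Matrix.SpecialLinearGroup (Fin 2) K | ∃ c : k, (g : Matrix (Fin 2) (Fin 2) K) = !![1, 0; algebraMap k K c * α, 1]}) :
      Set (Matrix.SpecialLinearGroup (Fin 2) K)) =
    {g : Matrix.SpecialLinearGroup (Fin 2) K | ∀ i j : Fin 2, (g : Matrix (Fin 2) (Fin 2) K) i j ∈ IntermediateField.adjoin k ({α} : Set K)} := by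
  set K₀ := IntermediateField.adjoin k ({α} : Set K) with hK₀
  let α₀ : K₀ := ⟨α, IntermediateField.mem_adjoin_simple_self k α⟩
  have h20 : (2 : K₀) ≠ 0 := by
    intro e
    refine (Ring.two_ne_zero hk2 : (2 : k) ≠ 0) ((algebraMap k K₀).injective ?_)
    rw [map_ofNat, e, map_zero]
  have htop : Algebra.adjoin k ({α₀} : Set K₀) = ⊤ := by
    apply Subalgebra.map_injective (f := K₀.val) Subtype.val_injective
    rw [AlgHom.map_adjoin, Set.image_singleton, Algebra.map_top, IntermediateField.range_val]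
    exact (IntermediateField.adjoin_simple_toSubalgebra_of_isAlgebraic hα).symm
  have hα' : IsAlgebraic k α₀ := (isAlgebraic_algebraMap_iff (A := K) Subtype.val_injective).mp hα
  have h := aux h20 hk3 hα' (fun e => hα0 (congrArg Subtype.val e)) htop
  have h' := congrArg (Subgroup.map (Matrix.SpecialLinearGroup.map (K₀.val : K₀ →+* K))) h
  rw [MonoidHom.map_closure, Set.image_union] at h'
  have e1 : ∀ F : k → K₀ → Matrix (Fin 2) (Fin 2) K₀, ∀ F' : k → K → Matrix (Fin 2) (Fin 2) K,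
      (∀ c, (F c α₀).map (K₀.val : K₀ →+* K) = F' c α) → (∀ c, (F c α₀).det = 1) →
      (Matrix.SpecialLinearGroup.map (K₀.val : K₀ →+* K)) '' {g : Matrix.SpecialLinearGroup (Fin 2) K₀ | ∃ c : k, (g : Matrix (Fin 2) (Fin 2) K₀) = F c α₀} =
        {g : Matrix.SpecialLinearGroup (Fin 2) K | ∃ c : k, (g : Matrix (Fin 2) (Fin 2) K) = F' c α} := by
    intro F F' hF hd
    ext g
    constructor
    · rintro ⟨g₀, ⟨c, hc⟩, rfl⟩
      exact ⟨c, by rw [← hF, ← hc]; rfl⟩
    · rintro ⟨c, hc⟩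
      exact ⟨⟨F c α₀, hd c⟩, ⟨c, rfl⟩, Subtype.ext ((hF c).trans hc.symm)⟩
  rw [e1 (fun c _ => !![1, algebraMap k K₀ c; 0, 1]) (fun c _ => !![1, algebraMap k K c; 0, 1])
      (fun c => by ext i j; fin_cases i <;> fin_cases j <;> simp) (fun c => by simp [Matrix.det_fin_two]),
    e1 (fun c a => !![1, 0; algebraMap k K₀ c * a, 1]) (fun c a => !![1, 0; algebraMap k K c * a, 1])
      (fun c => by ext i j; fin_cases i <;> fin_cases j <;> simp [α₀]) (fun c => by simp [Matrix.det_fin_two])] at h'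
  rw [h']
  ext g
  constructor
  · rintro ⟨g₀, -, rfl⟩ i j
    exact ((g₀ : Matrix (Fin 2) (Fin 2) K₀) i j).2
  · intro hg
    let F : Matrix (Fin 2) (Fin 2) K₀ := fun i j => ⟨_, hg i j⟩
    have hmap : F.map (K₀.val : K₀ →+* K) = (g : Matrix (Fin 2) (Fin 2) K) := rfl
    refine ⟨⟨F, Subtype.val_injective ?_⟩, Subgroup.mem_top _, Subtype.ext hmap⟩
    have := RingHom.map_det (K₀.val : K₀ →+* K) F
    rw [RingHom.mapMatrix_apply, hmap, g.2] at this
    simpa using this

end Cfsg.Agent.S5060
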