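import Cfsg.Statements.S5063
import Cfsg.Agent.Lib.QuadPair.Split

set_option autoImplicit false
universe u
open Cfsg

namespace Cfsg.Agent.S5063


/-- Let k be a field of characteristic not 2 with k not of order 3, M a finite-dimensional k-vector space and G ≤ GL(M) such that (G, M) is a quadratic pair (M irreducible for G, and G generated by its quadratically acting elements σ whose scalar family 1 + c(σ − 1), c ∈ k, lies in G). Write 𝒬_d for the quadratic elements of G of minimal commutator rank, E(σ) for the subgroup generated by the members of 𝒬_d with the same fixed space and commutator space as σ, and Σ for the set of these subgroups. Then G is a central product of finitely many quasisimple normal subgroups G₁, …, G_s (pairwise commuting and together generating G), each generated by the quadratic elements of G it contains, and every quadratic element of G lies in one of them. -/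
theorem result {k : Type u} [Field k] (hk2 : ringChar k ≠ 2) (hk3 : Nat.card k ≠ 3)
    {M : Type u} [AddCommGroup M] [Module k M] [FiniteDimensional k M]
    {G : Subgroup (LinearMap.GeneralLinearGroup k M)} (hG : Cfsg.IsQuadraticPair G) :
    ∃ (s : ℕ) (Gi : Fin s → Subgroup (LinearMap.GeneralLinearGroup k M)),
      (∀ i, Gi i ≤ G ∧ ∀ g ∈ G, Cfsg.conjBy (Gi i) g = Gi i) ∧ (∀ i j, i ≠ j → ⁅Gi i, Gi j⁆ = ⊥) ∧ (⨆ i, Gi i) = G ∧
      (∀ i, Cfsg.IsQuasisimple ↥(Gi i) ∧ Subgroup.closure (Cfsg.quadraticElements G ∩ (Gi i : Set (LinearMap.GeneralLinearGroup k M))) = Gi i) ∧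
      Cfsg.quadraticElements G ⊆ ⋃ i, (Gi i : Set (LinearMap.GeneralLinearGroup k M)) := by
  open Cfsg.Agent.Lib.QuadPair Cfsg.Agent.Lib.RootSub in
  have h2 : (2 : k) ≠ 0 := Ring.two_ne_zero hk2
  obtain ⟨𝒢, hfin, hX, hXY, hcov⟩ := split h2 hk3 (Module.finrank k M + 1) G (amb_of_irreducible hG.1) hG.2
    (fun _ _ _ => Nat.le_add_left _ _)
  haveI := hfin.to_subtype
  obtain ⟨s, ⟨e⟩⟩ : ∃ s, Nonempty (↥𝒢 ≃ Fin s) := ⟨_, ⟨Finite.equivFin _⟩⟩
  refine ⟨s, fun i => (e.symm i).1, fun i => ?_, fun i j hij => ?_, ?_, fun i => ⟨(hX _ (e.symm i).2).2.2.1, (hX _ (e.symm i).2).2.2.2⟩, ?_⟩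
  · obtain ⟨x1, x2, -⟩ := hX _ (e.symm i).2
    refine ⟨x1, fun g hg => le_antisymm (x2 g hg) ?_⟩
    have := conjBy_mono (x2 _ (inv_mem hg)) g
    rwa [conjBy_conjBy, mul_inv_cancel, conjBy_one] at this
  · exact hXY _ (e.symm i).2 _ (e.symm j).2 fun h => hij (e.symm.injective (Subtype.ext h))
  · refine le_antisymm (iSup_le fun i => (hX _ (e.symm i).2).1) ?_
    conv_lhs => rw [← hG.2]
    rw [Subgroup.closure_le]
    intro σ hσ
    obtain ⟨X, hXm, hσX⟩ := hcov σ hσ
    refine Subgroup.mem_iSup_of_mem (e ⟨X, hXm⟩) ?_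
    beta_reduce
    rwa [Equiv.symm_apply_apply]
  · intro σ hσ
    obtain ⟨X, hXm, hσX⟩ := hcov σ hσ
    refine Set.mem_iUnion.mpr ⟨e ⟨X, hXm⟩, ?_⟩
    beta_reduce
    rwa [Equiv.symm_apply_apply]

end Cfsg.Agent.S5063
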