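import Cfsg.Statements.S5064
import Cfsg.Agent.Lib.QuadPair.Hom
import Cfsg.Agent.Lib.QuadPair.Flag

set_option autoImplicit false
universe u
open Cfsg

namespace Cfsg.Agent.S5064


/-- Let k be a field of characteristic not 2 with k not of order 3, M a finite-dimensional k-vector space and G ≤ GL(M) such that (G, M) is a quadratic pair (M irreducible for G, and G generated by its quadratically acting elements σ whose scalar family 1 + c(σ − 1), c ∈ k, lies in G). Write 𝒬_d for the quadratic elements of G of minimal commutator rank, E(σ) for the subgroup generated by the members of 𝒬_d with the same fixed space and commutator space as σ, and Σ for the set of these subgroups. If σ, τ ∈ 𝒬_d and the subgroup H generated by their two scalar families does not act unipotently on M, then H is isomorphic to SL₂ over a simple algebraic extension k(λ) of k. -/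
theorem result {k : Type u} [Field k] (hk2 : ringChar k ≠ 2) (hk3 : Nat.card k ≠ 3)
    {M : Type u} [AddCommGroup M] [Module k M] [FiniteDimensional k M]
    {G : Subgroup (LinearMap.GeneralLinearGroup k M)} (hG : Cfsg.IsQuadraticPair G)
    {σ τ : LinearMap.GeneralLinearGroup k M} (hσ : σ ∈ Cfsg.minimalQuadraticElements G) (hτ : τ ∈ Cfsg.minimalQuadraticElements G)
    (hH : ¬ Cfsg.IsUnipotentOn (Subgroup.closure (Cfsg.scalarFamily σ ∪ Cfsg.scalarFamily τ))) :
    ∃ (K : Type u) (_ : Field K) (_ : Algebra k K) (lam : K), IsAlgebraic k lam ∧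
      IntermediateField.adjoin k ({lam} : Set K) = ⊤ ∧
      Nonempty (↥(Subgroup.closure (Cfsg.scalarFamily σ ∪ Cfsg.scalarFamily τ)) ≃* Matrix.SpecialLinearGroup (Fin 2) K) := by
  have ha := Cfsg.Agent.Lib.QuadPair.mem_minimal_iff.mp hσ
  have hb := Cfsg.Agent.Lib.QuadPair.mem_minimal_iff.mp hτ
  set a := (σ : M →ₗ[k] M) - 1 with hadef
  set b := (τ : M →ₗ[k] M) - 1 with hbdef
  have e : Subgroup.closure (Cfsg.scalarFamily σ ∪ Cfsg.scalarFamily τ) = Cfsg.Agent.Lib.QuadPair.pairGrp a b := by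
    rw [Cfsg.Agent.Lib.QuadPair.scalarFamily_eq ha.1.1, Cfsg.Agent.Lib.QuadPair.scalarFamily_eq hb.1.1]
    rfl
  rw [e] at hH ⊢
  have h2 : (2 : k) ≠ 0 := Ring.two_ne_zero hk2
  have hopp : Cfsg.Agent.Lib.QuadPair.Opp a b := by
    by_contra hno
    refine hH (Cfsg.Agent.Lib.RootSub.Kolchin.unipotent_mono
      (Cfsg.Agent.Lib.QuadPair.unipotent_of_not_opp h2 hk3 ha hb hno) ?_)
    rw [Cfsg.Agent.Lib.QuadPair.pairGrp, Subgroup.closure_le]
    rintro _ (⟨c, rfl⟩ | ⟨c, rfl⟩)
    · exact Subgroup.mem_sup_left (Cfsg.Agent.Lib.QuadPair.uni_mem_root ha.1 c)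
    · exact Subgroup.mem_sup_right (Cfsg.Agent.Lib.QuadPair.uni_mem_root hb.1 c)
  obtain ⟨p, hp, φ, -, -, hinj, hrange, -, -⟩ := Cfsg.Agent.Lib.QuadPair.exists_hom h2 hk3 ha hb hopp
  haveI := hp
  refine ⟨AdjoinRoot p, inferInstance, inferInstance, AdjoinRoot.root p, ?_, ?_, ?_⟩
  · exact ⟨p, hp.out.ne_zero, by rw [AdjoinRoot.aeval_eq, AdjoinRoot.mk_self]⟩
  · rw [eq_top_iff]
    intro x _
    have hx : x ∈ Algebra.adjoin k ({AdjoinRoot.root p} : Set (AdjoinRoot p)) := by
      rw [AdjoinRoot.adjoinRoot_eq_top]; exact Algebra.mem_top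
    exact IntermediateField.algebra_adjoin_le_adjoin k _ hx
  · exact ⟨(MulEquiv.subgroupCongr hrange.symm).trans (MonoidHom.ofInjective hinj).symm⟩

end Cfsg.Agent.S5064
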