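import Cfsg.Statements.S5065
import Cfsg.Agent.Lib.QuadPair.Cases

set_option autoImplicit false
universe u
open Cfsg

namespace Cfsg.Agent.S5065

open Cfsg.Agent.Lib.QuadPair Cfsg.Agent.Lib.RootSub in
private theorem involution {k : Type*} [Field k] {M : Type*} [AddCommGroup M] [Module k M]
    [FiniteDimensional k M] {G : Subgroup (LinearMap.GeneralLinearGroup k M)} {a b : M →ₗ[k] M}
    (h2 : (2 : k) ≠ 0) (h3 : Nat.card k ≠ 3) (ha : IsMin G a) (hb : IsMin G b) (h : Opp a b) :
    (∃! i : LinearMap.GeneralLinearGroup k M, i ∈ root G a ⊔ root G b ∧ i ≠ 1 ∧ i * i = 1 ∧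
        (∀ x ∈ root G a ⊔ root G b, i * x = x * i) ∧
        (∀ m ∈ Cfsg.commutatorSubmodule (root G a ⊔ root G b), (i : M →ₗ[k] M) m = -m) ∧
        (∀ m ∈ Cfsg.fixedSubmodule (root G a ⊔ root G b), (i : M →ₗ[k] M) m = m)) ∧
      IsCompl (Cfsg.fixedSubmodule (root G a ⊔ root G b))
        (Cfsg.commutatorSubmodule (root G a ⊔ root G b)) := by
  obtain ⟨c, hc, hc0, t1, t2⟩ := h.exists_partner h2 h3 ha hb
  obtain ⟨hmc, hr, hk⟩ := hb.spaces hc hc0
  have haa := ha.1.1
  have hcc := hc.1.1
  set X := root G a ⊔ root G b with hX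
  have hgen : ∀ g ∈ X, ∀ m, ((g : M →ₗ[k] M) - 1) m ∈ LinearMap.range a ⊔ LinearMap.range c ∧
      (a m = 0 → c m = 0 → ((g : M →ₗ[k] M) - 1) m = 0) := by
    intro g hg
    rw [hX, Subgroup.sup_eq_closure] at hg
    induction hg using Subgroup.closure_induction'' with
    | mem g hg =>
      intro m
      rcases hg with hg | hg
      · obtain ⟨d, hd, rfl⟩ := (mem_root_iff ha).mp hg
        rw [coe_uni hd.1.1, add_sub_cancel_left]
        exact ⟨Submodule.mem_sup_left (hd.2.1 ⟨m, rfl⟩), fun h1 _ => hd.2.2 h1⟩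
      · obtain ⟨d, hd, rfl⟩ := (mem_root_iff hb).mp hg
        rw [coe_uni hd.1.1, add_sub_cancel_left, hr]
        exact ⟨Submodule.mem_sup_right (hd.2.1 ⟨m, rfl⟩), fun _ h1 => hd.2.2 (hk ▸ h1 : m ∈ LinearMap.ker b)⟩
    | inv_mem g hg =>
      intro m
      rcases hg with hg | hg
      · obtain ⟨d, hd, he⟩ := (mem_root_iff ha).mp (inv_mem hg)
        rw [he, coe_uni hd.1.1, add_sub_cancel_left]
        exact ⟨Submodule.mem_sup_left (hd.2.1 ⟨m, rfl⟩), fun h1 _ => hd.2.2 h1⟩
      · obtain ⟨d, hd, he⟩ := (mem_root_iff hb).mp (inv_mem hg)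
        rw [he, coe_uni hd.1.1, add_sub_cancel_left, hr]
        exact ⟨Submodule.mem_sup_right (hd.2.1 ⟨m, rfl⟩), fun _ h1 => hd.2.2 (hk ▸ h1 : m ∈ LinearMap.ker b)⟩
    | one => intro m; simp
    | mul g g' _ _ h1 h2 =>
      intro m
      have e : ((g * g' : LinearMap.GeneralLinearGroup k M) : M →ₗ[k] M) - 1 =
          ((g : M →ₗ[k] M) - 1) + ((g' : M →ₗ[k] M) - 1) + ((g : M →ₗ[k] M) - 1) * ((g' : M →ₗ[k] M) - 1) := by
        rw [Units.val_mul]; noncomm_ring
      rw [e, LinearMap.add_apply, LinearMap.add_apply, Module.End.mul_apply]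
      exact ⟨add_mem (add_mem (h1 m).1 (h2 m).1) (h1 _).1,
        fun x y => by rw [(h1 m).2 x y, (h2 m).2 x y, map_zero, add_zero, add_zero]⟩
  have hua : uni a ∈ X := Subgroup.mem_sup_left (uni_self_mem_root ha.1)
  have huc : uni c ∈ X := Subgroup.mem_sup_right (uni_mem_grp hc)
  have hCM : ∀ m, m ∈ Cfsg.fixedSubmodule X ↔ a m = 0 ∧ c m = 0 := by
    intro m
    simp only [Cfsg.fixedSubmodule, Submodule.mem_iInf, LinearMap.mem_ker]
    refine ⟨fun hm => ⟨?_, ?_⟩, fun hm g hg => (hgen g hg m).2 hm.1 hm.2⟩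
    · simpa [coe_uni haa] using hm _ hua
    · simpa [coe_uni hcc] using hm _ huc
  have hMX : Cfsg.commutatorSubmodule X = LinearMap.range a ⊔ LinearMap.range c := by
    refine le_antisymm (iSup₂_le fun g hg => ?_) (sup_le ?_ ?_)
    · rintro _ ⟨m, rfl⟩; exact (hgen g hg m).1
    · refine le_trans ?_ (le_iSup₂ (uni a) hua)
      rw [coe_uni haa, add_sub_cancel_left]
    · refine le_trans ?_ (le_iSup₂ (uni c) huc)
      rw [coe_uni hcc, add_sub_cancel_left]
  set e := a * c + c * a with he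
  have ea : e * a = -a := by rw [he, add_mul, t1, mul_assoc c, haa, mul_zero, add_zero]
  have ec : e * c = -c := by rw [he, add_mul, t2, mul_assoc a, hcc, mul_zero, zero_add]
  have ae : a * e = -a := by rw [he, mul_add, ← mul_assoc, haa, zero_mul, zero_add, ← mul_assoc, t1]
  have ce : c * e = -c := by rw [he, mul_add, ← mul_assoc, t2, ← mul_assoc, hcc, zero_mul, add_zero]
  have ee : e * e = -e := by
    calc e * e = e * a * c + e * c * a := by rw [mul_assoc, mul_assoc e c a, ← mul_add, ← he]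
      _ = -e := by rw [ea, ec, he]; noncomm_ring
  have heR : ∀ m, e m ∈ LinearMap.range a ⊔ LinearMap.range c := fun m =>
    add_mem (Submodule.mem_sup_left ⟨c m, rfl⟩) (Submodule.mem_sup_right ⟨a m, rfl⟩)
  have heneg : ∀ m ∈ LinearMap.range a ⊔ LinearMap.range c, e m = -m := by
    intro m hm
    obtain ⟨_, ⟨u, rfl⟩, _, ⟨w, rfl⟩, rfl⟩ := Submodule.mem_sup.mp hm
    rw [map_add, neg_add]
    exact congrArg₂ (· + ·) (DFunLike.congr_fun ea u) (DFunLike.congr_fun ec w)
  set n : LinearMap.GeneralLinearGroup k M := uni a * uni c * uni a with hn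
  have hnv : (n : M →ₗ[k] M) = 1 + (a + c) + e := by
    rw [hn, Units.val_mul, Units.val_mul, coe_uni haa, coe_uni hcc, he]
    calc (1 + a) * (1 + c) * (1 + a) = 1 + a + a + c + a * a + a * c + c * a + a * c * a := by noncomm_ring
      _ = _ := by rw [haa, t1]; abel
  have hiv : ((n * n : LinearMap.GeneralLinearGroup k M) : M →ₗ[k] M) = 1 + e + e := by
    rw [Units.val_mul, hnv]
    calc (1 + (a + c) + e) * (1 + (a + c) + e) = 1 + (a * a + c * c) + (a * c + c * a) + e * e +
          (a + a + c + c + e + e) + (a * e + c * e + e * a + e * c) := by noncomm_ring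
      _ = _ := by rw [haa, hcc, ← he, ee, ea, ec, ae, ce]; abel
  have hfixi : ∀ m ∈ Cfsg.fixedSubmodule X, ((n * n : LinearMap.GeneralLinearGroup k M) : M →ₗ[k] M) m = m := by
    intro m hm
    obtain ⟨h1, h1'⟩ := (hCM m).mp hm
    rw [hiv]
    simp [he, Module.End.mul_apply, h1, h1']
  have hnegi : ∀ m ∈ Cfsg.commutatorSubmodule X, ((n * n : LinearMap.GeneralLinearGroup k M) : M →ₗ[k] M) m = -m := by
    intro m hm
    rw [hiv, LinearMap.add_apply, LinearMap.add_apply, Module.End.one_apply, heneg m (hMX ▸ hm)]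
    abel
  have hdec : ∀ m, m + e m ∈ Cfsg.fixedSubmodule X := by
    intro m
    rw [hCM, map_add, map_add]
    constructor
    · have := DFunLike.congr_fun ae m
      rw [Module.End.mul_apply, LinearMap.neg_apply] at this
      rw [this, add_neg_cancel]
    · have := DFunLike.congr_fun ce m
      rw [Module.End.mul_apply, LinearMap.neg_apply] at this
      rw [this, add_neg_cancel]
  have hcompl : IsCompl (Cfsg.fixedSubmodule X) (Cfsg.commutatorSubmodule X) := by
    refine ⟨Submodule.disjoint_def.mpr fun m h1 h2' => ?_, codisjoint_iff.mpr (eq_top_iff.mpr fun m _ => ?_)⟩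
    · obtain ⟨x, y⟩ := (hCM m).mp h1
      have := heneg m (hMX ▸ h2')
      rw [he, LinearMap.add_apply, Module.End.mul_apply, Module.End.mul_apply, x, y, map_zero, map_zero,
        add_zero] at this
      exact neg_eq_zero.mp this.symm
    · have : m = (m + e m) + -(e m) := by abel
      rw [this]
      exact Submodule.add_mem_sup (hdec m) (neg_mem (hMX ▸ heR m))
  refine ⟨⟨n * n, ⟨?_, ?_, ?_, ?_, hnegi, hfixi⟩, ?_⟩, hcompl⟩
  · exact mul_mem (mul_mem (mul_mem hua huc) hua) (mul_mem (mul_mem hua huc) hua)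
  · intro h1
    rw [h1, Units.val_one, add_assoc, left_eq_add, ← two_smul k, smul_eq_zero, or_iff_right h2] at hiv
    rw [hiv, mul_zero] at ae
    exact ha.2.1 (neg_eq_zero.mp ae.symm)
  · ext1
    rw [Units.val_mul, hiv, Units.val_one]
    calc (1 + e + e) * (1 + e + e) = 1 + (e + e + e + e) + (e * e + e * e + e * e + e * e) := by noncomm_ring
      _ = _ := by rw [ee]; abel
  · have key : ∀ d, LinearMap.range d ≤ LinearMap.range a ⊔ LinearMap.range c →
        (∀ m, a m = 0 → c m = 0 → d m = 0) → (1 + e + e) * (1 + d) = (1 + d) * (1 + e + e) := by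
      intro d hd hd'
      have e1 : e * d = -d := LinearMap.ext fun m => heneg _ (hd ⟨m, rfl⟩)
      have e2 : d * e = -d := LinearMap.ext fun m => by
        have := hd' _ ((hCM _).mp (hdec m)).1 ((hCM _).mp (hdec m)).2
        rw [map_add, add_eq_zero_iff_eq_neg] at this
        rw [Module.End.mul_apply, LinearMap.neg_apply, this, neg_neg]
      calc (1 + e + e) * (1 + d) = 1 + e + e + d + e * d + e * d := by noncomm_ring
        _ = 1 + e + e + d + d * e + d * e := by rw [e1, e2]
        _ = _ := by noncomm_ring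
    intro x hx
    ext1
    rw [Units.val_mul _ x, Units.val_mul x, hiv, show (x : M →ₗ[k] M) = 1 + ((x : M →ₗ[k] M) - 1) by abel]
    exact key _ (by rintro _ ⟨m, rfl⟩; exact (hgen x hx m).1) fun m => (hgen x hx m).2
  · rintro j ⟨-, -, -, -, hj1, hj2⟩
    ext1
    refine LinearMap.ext fun m => ?_
    have : m = (m + e m) + -(e m) := by abel
    rw [this, map_add _ (m + e m), map_add _ (m + e m), hj2 _ (hdec m), hfixi _ (hdec m), hj1 _ (neg_mem (hMX ▸ heR m)),
      hnegi _ (neg_mem (hMX ▸ heR m))]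


/-- Let k be a field of characteristic not 2 with k not of order 3, M a finite-dimensional k-vector space and G ≤ GL(M) such that (G, M) is a quadratic pair (M irreducible for G, and G generated by its quadratically acting elements σ whose scalar family 1 + c(σ − 1), c ∈ k, lies in G). Write 𝒬_d for the quadratic elements of G of minimal commutator rank, E(σ) for the subgroup generated by the members of 𝒬_d with the same fixed space and commutator space as σ, and Σ for the set of these subgroups. For σ, τ ∈ 𝒬_d put A = E(σ), B = E(τ) and X = ⟨A, B⟩. Then either X acts unipotently on M, or A and B are the unipotent subgroups of a special rank one group X; in the latter case X contains exactly one central involution acting as −1 on the commutator space [M, X] and trivially on the fixed space C_M(X), and M is the direct sum of C_M(X) and [M, X]. -/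
theorem result {k : Type u} [Field k] (hk2 : ringChar k ≠ 2) (hk3 : Nat.card k ≠ 3)
    {M : Type u} [AddCommGroup M] [Module k M] [FiniteDimensional k M]
    {G : Subgroup (LinearMap.GeneralLinearGroup k M)} (hG : Cfsg.IsQuadraticPair G)
    {σ τ : LinearMap.GeneralLinearGroup k M} (hσ : σ ∈ Cfsg.minimalQuadraticElements G) (hτ : τ ∈ Cfsg.minimalQuadraticElements G) :
    Cfsg.IsUnipotentOn (Cfsg.sameActionSubgroup G σ ⊔ Cfsg.sameActionSubgroup G τ) ∨
    (Cfsg.IsSpecialRankOnePair (Cfsg.sameActionSubgroup G σ) (Cfsg.sameActionSubgroup G τ) ∧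
      (∃! i : LinearMap.GeneralLinearGroup k M, i ∈ Cfsg.sameActionSubgroup G σ ⊔ Cfsg.sameActionSubgroup G τ ∧ i ≠ 1 ∧ i * i = 1 ∧
        (∀ x ∈ Cfsg.sameActionSubgroup G σ ⊔ Cfsg.sameActionSubgroup G τ, i * x = x * i) ∧
        (∀ m ∈ Cfsg.commutatorSubmodule (Cfsg.sameActionSubgroup G σ ⊔ Cfsg.sameActionSubgroup G τ), (i : M →ₗ[k] M) m = -m) ∧
        (∀ m ∈ Cfsg.fixedSubmodule (Cfsg.sameActionSubgroup G σ ⊔ Cfsg.sameActionSubgroup G τ), (i : M →ₗ[k] M) m = m)) ∧
      IsCompl (Cfsg.fixedSubmodule (Cfsg.sameActionSubgroup G σ ⊔ Cfsg.sameActionSubgroup G τ))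
        (Cfsg.commutatorSubmodule (Cfsg.sameActionSubgroup G σ ⊔ Cfsg.sameActionSubgroup G τ))) := by
  open Cfsg.Agent.Lib.QuadPair in
  have ha := mem_minimal_iff.mp hσ
  have hb := mem_minimal_iff.mp hτ
  rw [sameActionSubgroup_eq ha, sameActionSubgroup_eq hb]
  have h2 : (2 : k) ≠ 0 := Ring.two_ne_zero hk2
  by_cases h : Opp ((σ : M →ₗ[k] M) - 1) ((τ : M →ₗ[k] M) - 1)
  · exact Or.inr ⟨isSpecial_of_opp h2 hk3 ha hb h, involution h2 hk3 ha hb h⟩
  · exact Or.inl (unipotent_of_not_opp h2 hk3 ha hb h)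

end Cfsg.Agent.S5065
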