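import Cfsg.Statements.S5067


set_option autoImplicit false
open Cfsg

namespace Cfsg.Agent.S5067

open scoped commutatorElement

open Subgroup in
theorem class_normalClosure_lt {P : Type*} [Group P] [Group.IsNilpotent P]
    (hna : ¬ IsMulCommutative P) {E : Subgroup P} (hE : IsMulCommutative ↥E) :
    Group.nilpotencyClass ↥(normalClosure (E : Set P)) < Group.nilpotencyClass P := by
  set K := normalClosure (E : Set P)
  set c := Group.nilpotencyClass P with hc
  set L := fun n => (⊤ : Subgroup P).lowerCentralSeries n with hL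
  have hLn : ∀ n, (L n).Normal := fun n => inferInstanceAs ((⊤ : Subgroup P).lowerCentralSeries n).Normal
  haveI := hLn 2
  have hc2 : 2 ≤ c := by
    by_contra hlt
    apply hna
    have h1 : L 1 = ⊥ := by
      apply Subgroup.lowerCentralSeries_eq_bot_iff_nilpotencyClass_le.mpr
      omega
    refine ⟨⟨fun x y => ?_⟩⟩
    have : ⁅x, y⁆ ∈ L 1 := commutator_mem_commutator (mem_top x) (mem_top y)
    rw [h1, mem_bot] at this
    exact commutatorElement_eq_one_iff_mul_comm.mp this
  set M := E ⊔ L 1 with hM
  have hKM : K ≤ M := by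
    haveI : M.Normal := by
      constructor
      intro x hx g
      have : g * x * g⁻¹ * x⁻¹ ∈ M := mem_sup_right (by
        simpa [commutatorElement_def, hL] using commutator_mem_commutator (mem_top g) (mem_top x))
      simpa using mul_mem this hx
    exact normalClosure_le_normal (le_sup_left : E ≤ M)
  have hMM : ⁅M, M⁆ ≤ L 2 := by
    have hcomm : ∀ u ∈ E, ∀ v ∈ L 1, ⁅u, v⁆ ∈ L 2 := fun u _ v hv => by
      rw [← commutatorElement_inv v u]
      exact inv_mem (commutator_mem_commutator hv (mem_top u))
    have hbot : ⁅M.map (QuotientGroup.mk' (L 2)), M.map (QuotientGroup.mk' (L 2))⁆ = ⊥ := by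
      rw [commutator_eq_bot_iff_le_centralizer, hM, Subgroup.map_sup]
      have key : ∀ u v : P, ⁅u, v⁆ ∈ L 2 →
          QuotientGroup.mk' (L 2) u * QuotientGroup.mk' (L 2) v =
            QuotientGroup.mk' (L 2) v * QuotientGroup.mk' (L 2) u := fun u v h => by
        rw [← commutatorElement_eq_one_iff_mul_comm, ← map_commutatorElement, QuotientGroup.mk'_apply,
          QuotientGroup.eq_one_iff]
        exact h
      have hEE : ∀ u ∈ E, ∀ v ∈ E, ⁅u, v⁆ ∈ L 2 := fun u hu v hv => by
        rw [commutatorElement_eq_one_iff_mul_comm.mpr (congrArg Subtype.val (hE.is_comm.comm ⟨u, hu⟩ ⟨v, hv⟩))]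
        exact one_mem _
      refine sup_le ?_ ?_ <;> rintro _ ⟨u, hu, rfl⟩ <;> rw [mem_centralizer_iff] <;> intro y hy
      · have : y ∈ centralizer ({QuotientGroup.mk' (L 2) u} : Set (P ⧸ L 2)) := by
          refine (sup_le ?_ ?_ : E.map (QuotientGroup.mk' (L 2)) ⊔ (L 1).map (QuotientGroup.mk' (L 2)) ≤ _) hy <;>
            rintro _ ⟨v, hv, rfl⟩ <;> rw [mem_centralizer_singleton_iff]
          · exact key v u (hEE v hv u hu)
          · exact (key u v (hcomm u hu v hv)).symm
        exact mem_centralizer_singleton_iff.mp this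
      · have : y ∈ centralizer ({QuotientGroup.mk' (L 2) u} : Set (P ⧸ L 2)) := by
          refine (sup_le ?_ ?_ : E.map (QuotientGroup.mk' (L 2)) ⊔ (L 1).map (QuotientGroup.mk' (L 2)) ≤ _) hy <;>
            rintro _ ⟨v, hv, rfl⟩ <;> rw [mem_centralizer_singleton_iff]
          · exact key v u (hcomm v hv u hu)
          · exact key v u (commutator_mem_commutator hv (mem_top u))
        exact mem_centralizer_singleton_iff.mp this
    rw [← Subgroup.map_commutator, Subgroup.map_eq_bot_iff, QuotientGroup.ker_mk'] at hbot
    exact hbot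
  have hstep : ∀ n, K.lowerCentralSeries (n + 1) ≤ L (n + 2) := by
    intro n
    induction n with
    | zero => exact (commutator_mono hKM hKM).trans hMM
    | succ n ih => exact commutator_mono ih le_top
  obtain ⟨j, hj⟩ : ∃ j, c = j + 2 := ⟨c - 2, by omega⟩
  have h0 : K.lowerCentralSeries (j + 1) = ⊥ := by
    rw [eq_bot_iff]
    refine (hstep j).trans ?_
    rw [← hj, hc, hL]
    exact (Subgroup.lowerCentralSeries_nilpotencyClass (G := P)).le
  haveI : Group.IsNilpotent K := inferInstance
  have h1 : (⊤ : Subgroup K).lowerCentralSeries (j + 1) = ⊥ := by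
    rw [← map_subtype_inj, Subgroup.map_bot, top_subtype_lowerCentralSeries, h0]
  have := Subgroup.lowerCentralSeries_eq_bot_iff_nilpotencyClass_le.mp h1
  omega


/-- Let P be a non-abelian nilpotent p-group (every element of p-power order; P possibly infinite) generated by two abelian subgroups E and F. Then the normal closure of E in P, and likewise that of F, has nilpotency class strictly smaller than that of P. -/
theorem result {P : Type*} [Group P] {p : ℕ} [Fact p.Prime] (hP : IsPGroup p P) [Group.IsNilpotent P]
    (hna : ¬ IsMulCommutative P) {E F : Subgroup P} (hE : IsMulCommutative ↥E) (hF : IsMulCommutative ↥F) (hgen : E ⊔ F = ⊤) :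
    Group.nilpotencyClass ↥(Subgroup.normalClosure (E : Set P)) < Group.nilpotencyClass P ∧
    Group.nilpotencyClass ↥(Subgroup.normalClosure (F : Set P)) < Group.nilpotencyClass P := by
  exact ⟨class_normalClosure_lt hna hE, class_normalClosure_lt hna hF⟩

end Cfsg.Agent.S5067
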