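import Cfsg.Statements.S5069
import Cfsg.Agent.Lib.QuadPair.Components

set_option autoImplicit false
universe u
open Cfsg

namespace Cfsg.Agent.S5069


/-- Let k be a field of characteristic not 2 with k not of order 3, M a finite-dimensional k-vector space and G ≤ GL(M) such that (G, M) is a quadratic pair (M irreducible for G, and G generated by its quadratically acting elements σ whose scalar family 1 + c(σ − 1), c ∈ k, lies in G). Write 𝒬_d for the quadratic elements of G of minimal commutator rank, E(σ) for the subgroup generated by the members of 𝒬_d with the same fixed space and commutator space as σ, and Σ for the set of these subgroups. Then Σ is a disjoint union of finitely many parts Σ₁, …, Σ_r such that the subgroups G_i generated by the Σ_i commute pairwise, each G_i is quasisimple, and inside G_i the members of Σ_i form a class of abstract root subgroups in which every rank one pair A, B contains subgroups A₀ ≤ A, B₀ ≤ B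 generating an image of SL₂(k₁) with central kernel on unitriangular subgroups for some field k₁ with at least four elements. -/
theorem result {k : Type u} [Field k] (hk2 : ringChar k ≠ 2) (hk3 : Nat.card k ≠ 3)
    {M : Type u} [AddCommGroup M] [Module k M] [FiniteDimensional k M]
    {G : Subgroup (LinearMap.GeneralLinearGroup k M)} (hG : Cfsg.IsQuadraticPair G) :
    ∃ (r : ℕ) (part : Fin r → Set (Subgroup (LinearMap.GeneralLinearGroup k M))),
      (⋃ i, part i) = Cfsg.quadraticRootSubgroups G ∧ (∀ i j, i ≠ j → Disjoint (part i) (part j)) ∧ (∀ i, (part i).Nonempty) ∧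
      (∀ i j, i ≠ j → ⁅(⨆ A ∈ part i, A), (⨆ A ∈ part j, A)⁆ = ⊥) ∧
      (∀ i, Cfsg.IsQuasisimple ↥(⨆ A ∈ part i, A) ∧
        Cfsg.IsRootSubgroupClass ((fun A : Subgroup (LinearMap.GeneralLinearGroup k M) => A.subgroupOf (⨆ B ∈ part i, B)) '' (part i)) ∧
        ∀ A ∈ part i, ∀ B ∈ Cfsg.rankOnePartners (part i) A, ∃ A₀ B₀ : Subgroup (LinearMap.GeneralLinearGroup k M), A₀ ≤ A ∧ B₀ ≤ B ∧
          ∃ (k₁ : Type u) (_ : Field k₁), 3 < ENat.card k₁ ∧ Cfsg.IsPSL2PairOver k₁ A₀ B₀) := by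
  open Cfsg.Agent.Lib.QuadPair Cfsg.Agent.Lib.RootSub in
  have h2 : (2 : k) ≠ 0 := Ring.two_ne_zero hk2
  obtain ⟨r, ⟨e⟩⟩ : ∃ r, Nonempty (↥(comp G '' Cfsg.quadraticRootSubgroups G) ≃ Fin r) := by
    haveI := (comp_finite h2 hk3 (amb_of_irreducible hG.1)).to_subtype
    exact ⟨_, ⟨Finite.equivFin _⟩⟩
  refine ⟨r, fun i => (e.symm i).1, ?_, ?_, ?_, ?_, ?_⟩
  · ext A
    simp only [Set.mem_iUnion]
    constructor
    · rintro ⟨i, hi⟩
      obtain ⟨B, -, hB⟩ := (e.symm i).2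
      rw [← hB] at hi
      exact hi.1
    · intro hA
      exact ⟨e ⟨_, A, hA, rfl⟩, by rw [Equiv.symm_apply_apply]; exact self_mem_comp hA⟩
  · intro i j hij
    obtain ⟨A, -, hA⟩ := (e.symm i).2
    obtain ⟨B, -, hB⟩ := (e.symm j).2
    beta_reduce
    rw [← hA, ← hB, Set.disjoint_left]
    intro C h1 h1'
    refine hij (e.symm.injective (Subtype.ext ?_))
    rw [← hA, ← hB, ← comp_eq h1, ← comp_eq h1']
  · intro i
    obtain ⟨A, hAm, hA⟩ := (e.symm i).2
    exact ⟨A, show A ∈ (e.symm i).1 from hA ▸ self_mem_comp hAm⟩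
  · intro i j hij
    obtain ⟨A, -, hA⟩ := (e.symm i).2
    obtain ⟨B, -, hB⟩ := (e.symm j).2
    beta_reduce
    rw [← hA, ← hB]
    refine comp_commute h2 hk3 (amb_of_irreducible hG.1) fun h => hij (e.symm.injective (Subtype.ext ?_))
    rw [← hA, ← hB, h]
  intro i
  obtain ⟨A₀, hA₀, hA⟩ := (e.symm i).2
  beta_reduce
  rw [← hA]
  set S' := (fun A : Subgroup (LinearMap.GeneralLinearGroup k M) => A.subgroupOf (compGrp G A₀)) '' comp G A₀ with hS'
  have hm : ∀ A ∈ comp G A₀, (A.subgroupOf (compGrp G A₀)).map (compGrp G A₀).subtype = A := fun A hA => by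
    rw [Subgroup.subgroupOf_map_subtype, inf_eq_left.mpr (le_compGrp hA)]
  have hpair : ∀ A ∈ comp G A₀, ∀ B ∈ comp G A₀,
      ⁅A, B⁆ = ⊥ ∨ Cfsg.IsRankOnePair A B ∨ Cfsg.RootCommutatorCase (comp G A₀) A B := by
    intro A hA B hB
    by_cases hb : ⁅A, B⁆ = ⊥
    · exact Or.inl hb
    by_cases hp : Cfsg.IsRankOnePair A B
    · exact Or.inr (Or.inl hp)
    obtain ⟨-, h⟩ := ((sigma_pair h2 hk3 (amb_of_irreducible hG.1) hA.1 hB.1).resolve_left hb).resolve_left hp
    exact Or.inr (Or.inr ⟨comp_eq hA ▸ (comp_ne_commute h2 hk3 (amb_of_irreducible hG.1) hA.1 hB.1 hb).2 hp, h⟩)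
  have hS := isRootSubgroupSet_subgroupOf (S := comp G A₀) (K := compGrp G A₀) rfl
    (fun A hA => sigma_commutative hA.1) (fun A hA => sigma_ne_bot hA.1)
    (fun A hA g hg => comp_stable hg A hA) hpair
  have hcl : Cfsg.IsConjClassOfSubgroups S' := by
    refine ⟨⟨_, A₀, self_mem_comp hA₀, rfl⟩, ?_⟩
    rintro _ ⟨A, hA, rfl⟩ _ ⟨B, hB, rfl⟩
    obtain ⟨g, hg, e⟩ := comp_conjugate (G := G) (A := A) (B := B) (comp_eq hA ▸ hB)
    refine ⟨⟨g, by have := hg; rwa [show compGrp G A = compGrp G A₀ by rw [compGrp, compGrp, comp_eq hA]] at this⟩, ?_⟩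
    refine Subgroup.map_injective (compGrp G A₀).subtype_injective ?_
    rw [map_conjBy, hm A hA, hm B hB, ← e]
    rfl
  refine ⟨isQuasisimple_of_fix hS hcl ?_ ?_ ?_ (fun N _ _ hkill => fix_of_normal h2 hk3 (amb_of_irreducible hG.1) rfl N hkill),
    ⟨hS, hcl⟩, ?_⟩
  · rintro _ ⟨A, hA, rfl⟩
    obtain ⟨B, hB, h⟩ := exists_partner h2 hk3 (amb_of_irreducible hG.1) hA.1
    have hB' : B ∈ comp G A₀ := ⟨hB, hA.2.tail ⟨hA.1, hB, h⟩⟩
    refine ⟨_, ⟨B, hB', rfl⟩, (isRankOnePair_map_iff (compGrp G A₀).subtype_injective).mp ?_⟩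
    rwa [hm A hA, hm B hB']
  · rintro _ ⟨A, hA, rfl⟩
    exact (card_root h2 hk3 hA.1).trans_le
      (ENat.card_congr (Subgroup.subgroupOfEquivOfLe (le_compGrp hA)).toEquiv).ge
  · rintro _ ⟨A, hA, rfl⟩ _ ⟨⟨B, hB, rfl⟩, hp⟩
    refine isSpecialRankOnePair_of_map (compGrp G A₀).subtype_injective ?_
    rw [← isRankOnePair_map_iff (compGrp G A₀).subtype_injective, hm A hA, hm B hB] at hp
    rw [hm A hA, hm B hB]
    obtain ⟨a, ha, rfl⟩ := mem_sigma.mp hA.1
    obtain ⟨b, hb, rfl⟩ := mem_sigma.mp hB.1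
    exact isSpecial_of_opp h2 hk3 ha hb (opp_of_pair h2 hk3 (amb_of_irreducible hG.1) ha hb hp)
  · intro A hA B hB
    obtain ⟨a, ha, rfl⟩ := mem_sigma.mp hA.1
    obtain ⟨b, hb, rfl⟩ := mem_sigma.mp hB.1.1
    obtain ⟨p, hp, A₁, B₁, hA₁, hB₁, hc, hP⟩ := exists_sl2 h2 hk3 ha hb (opp_of_pair h2 hk3 (amb_of_irreducible hG.1) ha hb hB.2)
    exact ⟨A₁, B₁, hA₁, hB₁, AdjoinRoot p, inferInstance, hc, hP⟩

end Cfsg.Agent.S5069
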