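import Cfsg.Statements.S5073
import Cfsg.Agent.Lib.QuadPair.Cases

set_option autoImplicit false
universe u
open Cfsg

namespace Cfsg.Agent.S5073

open Cfsg.Agent.Lib.QuadPair Cfsg.Agent.Lib.RootSub in
private theorem not_opp_skew {k : Type*} [Field k] {M : Type*} [AddCommGroup M] [Module k M]
    [FiniteDimensional k M] {G : Subgroup (LinearMap.GeneralLinearGroup k M)} {a b : M →ₗ[k] M}
    (ha : IsMin G a) (hb : IsMin G b) (hn : uni a ∈ Subgroup.normalizer (root G b : Set (LinearMap.GeneralLinearGroup k M))) :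
    ¬ Opp a b ∧ ¬ Skew a b := by
  have hm := hb.conj ha.1.uni_mem
  have hroot := conjBy_root ha.1.uni_mem b
  rw [conjBy_eq_self_iff.mpr hn] at hroot
  obtain ⟨c, hc, hce⟩ := (mem_root_iff hb).mp (hroot.symm ▸ uni_self_mem_root hm.1)
  obtain ⟨-, hR, hK⟩ := hb.spaces hc (fun e => hm.2.1 ((uni_inj hm.1.1 hc.1.1 hce).trans e))
  rw [← uni_inj hm.1.1 hc.1.1 hce, range_conj] at hR
  rw [← uni_inj hm.1.1 hc.1.1 hce, ker_conj] at hK
  have inv : ∀ (S : Submodule k M), S.map ((uni a : LinearMap.GeneralLinearGroup k M) : M →ₗ[k] M) = S →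
      ∀ v ∈ S, a v ∈ S := by
    intro S hS v hv
    have := hS ▸ Submodule.mem_map_of_mem (f := ((uni a : LinearMap.GeneralLinearGroup k M) : M →ₗ[k] M)) hv
    rw [coe_uni ha.1.1, LinearMap.add_apply, Module.End.one_apply] at this
    exact (Submodule.add_mem_iff_right _ hv).mp this
  refine ⟨fun h => ?_, fun h => ?_⟩
  · obtain ⟨v, hv, hv0⟩ := Submodule.exists_mem_ne_zero_of_ne_bot hb.range_ne_bot
    have hm' : a v ∈ LinearMap.range a ⊓ LinearMap.range b := ⟨⟨v, rfl⟩, inv _ hR v hv⟩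
    rw [h.inf_range hb.1.1, Submodule.mem_bot] at hm'
    exact hv0 (h.symm.eq_zero_left hv hm')
  · have h1 : LinearMap.range b ≤ LinearMap.ker a := fun v hv => by
      have hm' : a v ∈ LinearMap.range a ⊓ LinearMap.range b := ⟨⟨v, rfl⟩, inv _ hR v hv⟩
      rw [h.1, Submodule.mem_bot] at hm'
      exact hm'
    have hd := h.2
    rw [inf_eq_left.mpr h1, ha.finrank_eq hb, add_eq_right, Submodule.finrank_eq_zero] at hd
    have h2 : LinearMap.ker b ≤ LinearMap.ker a := fun v hv => by
      have hm' : a v ∈ LinearMap.range a ⊓ LinearMap.ker b := ⟨⟨v, rfl⟩, inv _ hK v hv⟩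
      rw [hd, Submodule.mem_bot] at hm'
      exact hm'
    have r1 := LinearMap.finrank_range_add_finrank_ker a
    have r2 := LinearMap.finrank_range_add_finrank_ker b
    rw [ha.finrank_eq hb] at r1
    have h3 : LinearMap.ker b = LinearMap.ker a := Submodule.eq_of_le_of_finrank_le h2 (by omega)
    rw [h3, inf_eq_left.mpr (range_le_ker ha.1.1)] at hd
    exact ha.range_ne_bot hd


/-- Let k be a field of characteristic not 2 with k not of order 3, M a finite-dimensional k-vector space and G ≤ GL(M) such that (G, M) is a quadratic pair (M irreducible for G, and G generated by its quadratically acting elements σ whose scalar family 1 + c(σ − 1), c ∈ k, lies in G). Write 𝒬_d for the quadratic elements of G of minimal commutator rank, E(σ) for the subgroup generated by the members of 𝒬_d with the same fixed space and commutator space as σ, and Σ for the set of these subgroups. Let E, F ∈ Σ. If some non-identity element of E commutes with some non-identity element of F,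 or some non-identity element of E normalizes F, then E and F commute elementwise. -/
theorem result {k : Type u} [Field k] (hk2 : ringChar k ≠ 2) (hk3 : Nat.card k ≠ 3)
    {M : Type u} [AddCommGroup M] [Module k M] [FiniteDimensional k M]
    {G : Subgroup (LinearMap.GeneralLinearGroup k M)} (hG : Cfsg.IsQuadraticPair G)
    {E F : Subgroup (LinearMap.GeneralLinearGroup k M)} (hE : E ∈ Cfsg.quadraticRootSubgroups G) (hF : F ∈ Cfsg.quadraticRootSubgroups G)
    (h : (∃ e ∈ E, e ≠ 1 ∧ ∃ f ∈ F, f ≠ 1 ∧ e * f = f * e) ∨ E ⊓ Subgroup.normalizer (F : Set (LinearMap.GeneralLinearGroup k M)) ≠ ⊥) :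
    ⁅E, F⁆ = ⊥ := by
  open Cfsg.Agent.Lib.QuadPair in
  rw [quadraticRootSubgroups_eq] at hE hF
  obtain ⟨a, ha, rfl⟩ := hE
  obtain ⟨b, hb, rfl⟩ := hF
  have h2 : (2 : k) ≠ 0 := Ring.two_ne_zero hk2
  suffices ¬ Opp a b ∧ ¬ Skew a b from commute_case h2 hk3 ha hb this.1 this.2
  rcases h with ⟨e, he, he1, f, hf, hf1, hef⟩ | hn
  · obtain ⟨a', ha', rfl⟩ := (mem_root_iff ha).mp he
    obtain ⟨b', hb', rfl⟩ := (mem_root_iff hb).mp hf
    have ha0 : a' ≠ 0 := fun e => he1 (by rw [e, uni_zero])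
    have hb0 : b' ≠ 0 := fun e => hf1 (by rw [e, uni_zero])
    rw [commute_uni_iff ha'.1.1 hb'.1.1] at hef
    have hma := (ha.spaces ha' ha0).1
    have hmb := (hb.spaces hb' hb0).1
    refine ⟨fun h => ?_, fun h => ?_⟩
    · refine (opp_iff h2 hk3 hma hmb).mp ((ha.opp_of_mem hb ha' ha0 hb' hb0).mpr h) ⟨?_, ?_⟩
      · rw [hef, mul_assoc, hma.1.1, mul_zero]
      · rw [mul_assoc, hef, ← mul_assoc, hmb.1.1, zero_mul]
    · exact ne_of_skew hma hmb ((ha.skew_of_mem hb ha' ha0 hb' hb0).1.mpr h) hef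
  · obtain ⟨e, he, he1⟩ := (Subgroup.bot_or_exists_ne_one _).resolve_left hn
    obtain ⟨heE, heN⟩ := Subgroup.mem_inf.mp he
    obtain ⟨a', ha', rfl⟩ := (mem_root_iff ha).mp heE
    have ha0 : a' ≠ 0 := fun e => he1 (by rw [e, uni_zero])
    obtain ⟨r1, r2⟩ := not_opp_skew (ha.spaces ha' ha0).1 hb heN
    rw [ha.opp_of_mem hb ha' ha0 (self_mem_fam hb.1) hb.2.1] at r1
    rw [(ha.skew_of_mem hb ha' ha0 (self_mem_fam hb.1) hb.2.1).1] at r2
    exact ⟨r1, r2⟩

end Cfsg.Agent.S5073
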