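import Cfsg.Statements.S5074
import Cfsg.Agent.Lib.QuadPair.Decomp

set_option autoImplicit false
universe u
open Cfsg

namespace Cfsg.Agent.S5074


/-- Let k be a field of characteristic not 2 with k not of order 3, M a finite-dimensional k-vector space and G ≤ GL(M) such that (G, M) is a quadratic pair (M irreducible for G, and G generated by its quadratically acting elements σ whose scalar family 1 + c(σ − 1), c ∈ k, lies in G). Write 𝒬_d for the quadratic elements of G of minimal commutator rank, E(σ) for the subgroup generated by the members of 𝒬_d with the same fixed space and commutator space as σ, and Σ for the set of these subgroups. Then G is the product of the subgroup G₀ generated by Σ with the centralizer of G₀ in G. -/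
theorem result {k : Type u} [Field k] (hk2 : ringChar k ≠ 2) (hk3 : Nat.card k ≠ 3)
    {M : Type u} [AddCommGroup M] [Module k M] [FiniteDimensional k M]
    {G : Subgroup (LinearMap.GeneralLinearGroup k M)} (hG : Cfsg.IsQuadraticPair G) :
    (⨆ A ∈ Cfsg.quadraticRootSubgroups G, A) ⊔
      (G ⊓ Subgroup.centralizer ((⨆ A ∈ Cfsg.quadraticRootSubgroups G, A : Subgroup (LinearMap.GeneralLinearGroup k M)) : Set (LinearMap.GeneralLinearGroup k M))) = G := by
  open Cfsg.Agent.Lib.QuadPair in
  have h2 : (2 : k) ≠ 0 := Ring.two_ne_zero hk2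
  refine le_antisymm (sup_le (iSup₂_le fun A hA => sigma_le hA) inf_le_left) ?_
  conv_lhs => rw [← hG.2]
  rw [Subgroup.closure_le]
  intro σ hσ
  obtain ⟨hL, -⟩ := mem_quadraticElements_iff.mp hσ
  have hσe : σ = uni ((σ : M →ₗ[k] M) - 1) := (eq_uni_iff hL.1).mpr rfl
  rcases decomp h2 hk3 (amb_of_irreducible hG.1) hG.2 hL with h | ⟨A, hA, h⟩
  · refine Subgroup.mem_sup_right ⟨hσ.1, ?_⟩
    have hle : (⨆ A ∈ Cfsg.quadraticRootSubgroups G, A) ≤ Subgroup.centralizer {σ} := iSup₂_le fun A hA x hx => by
      rw [Subgroup.mem_centralizer_singleton_iff, hσe]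
      exact (h.mem_root hL hA hx).symm
    change σ ∈ Subgroup.centralizer _
    rw [Subgroup.mem_centralizer_iff]
    exact fun x hx => Subgroup.mem_centralizer_singleton_iff.mp (hle hx)
  · refine Subgroup.mem_sup_left ?_
    have := h 1
    rw [one_smul, ← hσe] at this
    exact (iSup₂_le fun B hB => le_iSup₂ (f := fun B _ => B) B hB.1 : compGrp G A ≤ ⨆ B ∈ Cfsg.quadraticRootSubgroups G, B) this

end Cfsg.Agent.S5074
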