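import Cfsg.Statements.S5075
import Cfsg.Agent.Lib.RootSub.McLaughlin.Decomp

set_option autoImplicit false
open Cfsg

namespace Cfsg.Agent.S5075


/-- Let p be an odd prime, V a finite-dimensional vector space over the field with p elements, and H a group of linear automorphisms of V generated by transvections (elements of order p fixing a hyperplane pointwise) and having no nontrivial normal p-subgroup. Then for some n ≥ 1 there are a decomposition V = V₀ ⊕ V₁ ⊕ ⋯ ⊕ Vₙ into H-invariant subspaces and a decomposition of H as the internal direct product of normal subgroups H₁, …, Hₙ such that Hⱼ acts trivially on every Vᵢ with i ≠ j, and Hⱼ induces on Vⱼ exactly the special linear group of Vⱼ or exactly the isometry group of a non-degenerate alternating form on Vⱼ. -/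
theorem result {p : ℕ} [Fact p.Prime] (hp : Odd p) {V : Type*} [AddCommGroup V] [Module (ZMod p) V] [Finite V]
    (H : Subgroup (V ≃ₗ[ZMod p] V)) (T : Set (V ≃ₗ[ZMod p] V)) (hHT : H = Subgroup.closure T)
    (hT : ∀ t ∈ T, orderOf t = p ∧
      Module.finrank (ZMod p) ↥(LinearMap.ker ((t : V →ₗ[ZMod p] V) - LinearMap.id)) + 1 =
        Module.finrank (ZMod p) V)
    (hOp : Cfsg.pCore p ↥H = ⊥) :
    ∃ (n : ℕ) (W : Fin (n + 1) → Submodule (ZMod p) V) (K : Fin n → Subgroup (V ≃ₗ[ZMod p] V)),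
      1 ≤ n ∧ DirectSum.IsInternal W ∧
      (∀ h ∈ H, ∀ i, (W i).map (h : V →ₗ[ZMod p] V) = W i) ∧
      (∀ j, K j ≤ H ∧ ((K j).subgroupOf H).Normal) ∧ ⨆ j, K j = H ∧
      (∀ j, K j ⊓ (⨆ j' ∈ {j' : Fin n | j' ≠ j}, K j') = ⊥) ∧
      (∀ j j', j ≠ j' → ∀ a ∈ K j, ∀ b ∈ K j', a * b = b * a) ∧
      (∀ j, ∀ h ∈ K j, ∀ i : Fin (n + 1), i ≠ j.succ → ∀ v ∈ W i, h v = v) ∧
      (∀ j, ∃ ρ : ↥(K j) →* (↥(W j.succ) ≃ₗ[ZMod p] ↥(W j.succ)),
        (∀ (h : ↥(K j)) (v : ↥(W j.succ)), ((ρ h v : ↥(W j.succ)) : V) = (h : V ≃ₗ[ZMod p] V) (v : V)) ∧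
        ((ρ.range : Set (↥(W j.succ) ≃ₗ[ZMod p] ↥(W j.succ))) =
            {f : ↥(W j.succ) ≃ₗ[ZMod p] ↥(W j.succ) | LinearMap.det (f : ↥(W j.succ) →ₗ[ZMod p] ↥(W j.succ)) = 1} ∨
          ∃ B : LinearMap.BilinForm (ZMod p) ↥(W j.succ), B.IsAlt ∧ B.Nondegenerate ∧
            (ρ.range : Set (↥(W j.succ) ≃ₗ[ZMod p] ↥(W j.succ))) = {f : ↥(W j.succ) ≃ₗ[ZMod p] ↥(W j.succ) | ∀ x y, B (f x) (f y) = B x y})) := by
  refine Lib.RootSub.McLaughlin.exists_decomposition hp H T hHT (fun t ht => ?_) hOp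
  obtain ⟨hord, hrank⟩ := hT t ht
  set N : V →ₗ[ZMod p] V := (t : V →ₗ[ZMod p] V) - LinearMap.id with hN
  have hr1 : Module.finrank (ZMod p) ↥(LinearMap.range N) = 1 := by
    have := LinearMap.finrank_range_add_finrank_ker N
    omega
  obtain ⟨⟨v, hvN⟩, hv0, hall⟩ := finrank_eq_one_iff'.1 hr1
  have hv : v ≠ 0 := fun e => hv0 (Subtype.ext e)
  obtain ⟨f, hf⟩ := Module.Projective.exists_dual_eq_one (ZMod p) hv
  set φ : Module.Dual (ZMod p) V := f ∘ₗ N with hφ
  have happ : ∀ x, t x = x + φ x • v := by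
    intro x
    obtain ⟨c, hc⟩ := hall ⟨N x, LinearMap.mem_range_self N x⟩
    have hc' : c • v = N x := congrArg Subtype.val hc
    have hφx : φ x = c := by
      rw [hφ, LinearMap.comp_apply, ← hc', map_smul, hf, smul_eq_mul, mul_one]
    rw [hφx, hc']
    simp [hN]
  have hφ0 : φ ≠ 0 := by
    intro e
    have h1 : t = 1 := LinearEquiv.ext fun x => by simpa [e] using happ x
    rw [h1, orderOf_one] at hord
    exact (Fact.out : p.Prime).one_lt.ne hord
  have hφv : φ v = 0 := by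
    have key : ∀ n : ℕ, (t ^ n) v = (1 + φ v) ^ n • v := by
      intro n
      induction n with
      | zero => simp
      | succ n ih =>
        rw [pow_succ', LinearEquiv.mul_apply, ih, map_smul, happ, pow_succ, mul_smul, add_smul, one_smul]
    have h1 := key p
    rw [orderOf_dvd_iff_pow_eq_one.1 (dvd_of_eq hord), ZMod.pow_card] at h1
    have h2 : φ v • v = 0 := by simpa [add_smul] using h1.symm
    exact (smul_eq_zero.1 h2).resolve_right hv
  exact ⟨v, φ, hv, hφ0, ⟨hφv, t, hHT ▸ Subgroup.subset_closure ht, happ⟩, happ⟩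

end Cfsg.Agent.S5075
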