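import Mathlib
import Cfsg.Statements.S5094
import Cfsg.Agent.Lib.InvChar.ZStarCentral

set_option autoImplicit false
open Cfsg

namespace Cfsg.Agent.S5094

/-- Glauberman's Z*-Theorem in fusion language: for a finite group G with Sylow 2-subgroup S, the centre of the fusion system of G on S is the set of elements of S whose image in G/O(G) is central, O(G) being the largest normal subgroup of odd order. -/
theorem result {G : Type*} [Group G] [Finite G] (S : Sylow 2 G) : (Cfsg.groupFusionSystem (S : Subgroup G)).center = (S : Subgroup G) ⊓ (Subgroup.center (G ⧸ Cfsg.oddCore G)).comap (QuotientGroup.mk' (Cfsg.oddCore G)) := by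
  classical
  have : Fact (Nat.Prime 2) := ⟨Nat.prime_two⟩
  haveI hOn : (Cfsg.oddCore G).Normal := (Lib.Cores.pPrimeCore_mem 2 G).1
  set π := QuotientGroup.mk' (Cfsg.oddCore G) with hπ
  set Z := (S : Subgroup G) ⊓ (Subgroup.center (G ⧸ Cfsg.oddCore G)).comap π with hZdef
  have hcenmod : ∀ q : G, q ∈ (Subgroup.center (G ⧸ Cfsg.oddCore G)).comap π ↔
      ∀ g : G, g * q * g⁻¹ * q⁻¹ ∈ Cfsg.oddCore G := by
    intro q
    rw [Subgroup.mem_comap, Subgroup.mem_center_iff]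
    constructor
    · intro h g
      rw [← QuotientGroup.eq_one_iff]
      show π (g * q * g⁻¹ * q⁻¹) = 1
      rw [map_mul, map_mul, map_mul, map_inv, map_inv, h (π g)]
      group
    · intro h x
      obtain ⟨g, rfl⟩ := QuotientGroup.mk'_surjective (Cfsg.oddCore G) x
      have h1 : π (g * q * g⁻¹ * q⁻¹) = 1 := (QuotientGroup.eq_one_iff _).2 (h g)
      rw [map_mul, map_mul, map_mul, map_inv, map_inv, mul_inv_eq_one,
        mul_inv_eq_iff_eq_mul] at h1
      exact h1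
  refine le_antisymm (sSup_le ?_) (le_sSup ?_)
  · rintro Q ⟨hQS, hQ⟩ q hq
    have hqS : q ∈ (S : Subgroup G) := hQS hq
    have huniq : ∀ g : G, g * q * g⁻¹ ∈ S → g * q * g⁻¹ = q := by
      intro g hg
      have hPS : Subgroup.zpowers q ≤ (S : Subgroup G) := Subgroup.zpowers_le.2 hqS
      set φ : ↥(Subgroup.zpowers q) →* G := Cfsg.conjHom (Subgroup.zpowers q) g
      have hφ : φ ∈ (Cfsg.groupFusionSystem (S : Subgroup G)).Hom (Subgroup.zpowers q) := by
        refine ⟨hPS, fun x => ?_, g, fun x => rfl⟩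
        obtain ⟨i, hi⟩ := Subgroup.mem_zpowers_iff.1 x.2
        show g * (x : G) * g⁻¹ ∈ (S : Subgroup G)
        rw [← hi, ← conj_zpow]
        exact zpow_mem hg i
      obtain ⟨ψ, -, h1, h2⟩ := hQ _ φ hφ
      have e1 := h1 ⟨q, Subgroup.mem_zpowers q⟩
      have e2 := h2 ⟨q, hq⟩
      exact e1.symm.trans e2
    exact ⟨hqS, (hcenmod q).2 (Lib.InvChar.inZStar_of_unique_conj S q hqS huniq)⟩
  · refine ⟨inf_le_left, fun P φ hφ => ?_⟩
    obtain ⟨hPS, hφS, g, hg⟩ := hφ
    have hZ2 : IsPGroup 2 ↥Z := S.2.to_le inf_le_left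
    obtain ⟨n, hn, hng⟩ := Lib.InvChar.exists_mul_mem_centralizer Z hZ2
      (fun g z hz => (hcenmod z).1 hz.2 g) g
    -- elements of `S` commute with `Z`
    have hSZ : ∀ s ∈ (S : Subgroup G), ∀ z ∈ Z, s * z = z * s := by
      intro s hs z hz
      have h1 : s * z * s⁻¹ = z :=
        Lib.InvChar.eq_of_mod_oddCore S.2 (mul_mem (mul_mem hs hz.1) (inv_mem hs)) hz.1
          ((hcenmod z).1 hz.2 s)
      exact mul_inv_eq_iff_eq_mul.1 h1
    set R := P.map (MulAut.conj g).toMonoidHom with hR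
    set c := n * g with hc
    set R' := P.map (MulAut.conj c).toMonoidHom with hR'
    have hRS : R ≤ (S : Subgroup G) := by
      rintro _ ⟨x, hx, rfl⟩
      show g * x * g⁻¹ ∈ (S : Subgroup G)
      rw [← hg ⟨x, hx⟩]
      exact hφS _
    set C := Subgroup.centralizer (Z : Set G) with hC
    have hRC : R ≤ C := fun r hr => Subgroup.mem_centralizer_iff.2 fun z hz =>
      (hSZ r (hRS hr) z hz).symm
    have hPC : P ≤ C := fun r hr => Subgroup.mem_centralizer_iff.2 fun z hz =>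
      (hSZ r (hPS hr) z hz).symm
    have hR'C : R' ≤ C := by
      rintro _ ⟨x, hx, rfl⟩
      exact mul_mem (mul_mem hng (hPC hx)) (inv_mem hng)
    set K := (Cfsg.oddCore G).subgroupOf C with hK
    haveI : K.Normal := Subgroup.normal_subgroupOf
    have hKodd : Odd (Nat.card K) :=
      (Lib.Cores.odd_card_oddCore G).of_dvd_nat (Subgroup.card_comap_dvd_of_injective _ _
        C.subtype_injective)
    have hR2 : IsPGroup 2 ↥R := S.2.to_le hRS
    have hR'2 : IsPGroup 2 ↥R' := (S.2.to_le hPS).map _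
    have hmod : ∀ x : G, (c * x * c⁻¹) * (g * x * g⁻¹)⁻¹ ∈ Cfsg.oddCore G := by
      intro x
      have e : (c * x * c⁻¹) * (g * x * g⁻¹)⁻¹ = n * ((g * x * g⁻¹) * n⁻¹ * (g * x * g⁻¹)⁻¹) := by
        rw [hc]; group
      rw [e]
      exact mul_mem hn (hOn.conj_mem _ (inv_mem hn) _)
    obtain ⟨m, hm, hmap⟩ := Lib.InvChar.exists_conj_map_of_mod K hKodd (R.subgroupOf C)
      (R'.subgroupOf C) (hR2.comap_subtype) (hR'2.comap_subtype)
      (by
        rintro y ⟨x, hx, hxy⟩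
        have hxy' : c * x * c⁻¹ = (y : G) := hxy
        have hgx : g * x * g⁻¹ ∈ R := ⟨x, hx, rfl⟩
        have hk : y * (⟨g * x * g⁻¹, hRC hgx⟩ : C)⁻¹ ∈ K := by
          show (y : G) * (g * x * g⁻¹)⁻¹ ∈ Cfsg.oddCore G
          rw [← hxy']; exact hmod x
        have := (R.subgroupOf C ⊔ K).mul_mem (Subgroup.mem_sup_right hk)
          (Subgroup.mem_sup_left (show (⟨g * x * g⁻¹, hRC hgx⟩ : C) ∈ R.subgroupOf C from hgx))
        rwa [inv_mul_cancel_right] at this)
      (by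
        rintro y ⟨x, hx, hxy⟩
        have hxy' : g * x * g⁻¹ = (y : G) := hxy
        have hcx : c * x * c⁻¹ ∈ R' := ⟨x, hx, rfl⟩
        have hk : (⟨c * x * c⁻¹, hR'C hcx⟩ : C) * y⁻¹ ∈ K := by
          show (c * x * c⁻¹) * (y : G)⁻¹ ∈ Cfsg.oddCore G
          rw [← hxy']; exact hmod x
        have := (R'.subgroupOf C ⊔ K).mul_mem ((R'.subgroupOf C ⊔ K).inv_mem
          (Subgroup.mem_sup_right hk))
          (Subgroup.mem_sup_left (show (⟨c * x * c⁻¹, hR'C hcx⟩ : C) ∈ R'.subgroupOf C from hcx))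
        simpa [mul_assoc] using this)
    set d := (m : G) * c with hd
    have hdC : d ∈ C := mul_mem m.2 hng
    have hdP : ∀ x (hx : x ∈ P), d * x * d⁻¹ = φ ⟨x, hx⟩ := by
      intro x hx
      rw [hg]
      have hcx : c * x * c⁻¹ ∈ R' := ⟨x, hx, rfl⟩
      have h1 : m * ⟨c * x * c⁻¹, hR'C hcx⟩ * m⁻¹ ∈ R.subgroupOf C :=
        hmap ▸ ⟨⟨c * x * c⁻¹, hR'C hcx⟩, hcx, rfl⟩
      have h1' : d * x * d⁻¹ ∈ R := by
        have h := h1
        rw [Subgroup.mem_subgroupOf] at h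
        simpa [hd, mul_assoc] using h
      refine Lib.InvChar.eq_of_mod_oddCore hR2 h1' ⟨x, hx, rfl⟩ ?_
      have hmO : (m : G) ∈ Cfsg.oddCore G := hm
      have e : d * x * d⁻¹ * (g * x * g⁻¹)⁻¹
          = (m : G) * ((c * x * c⁻¹) * (m : G)⁻¹ * (c * x * c⁻¹)⁻¹) *
            ((c * x * c⁻¹) * (g * x * g⁻¹)⁻¹) := by rw [hd]; group
      show d * x * d⁻¹ * (g * x * g⁻¹)⁻¹ ∈ Cfsg.oddCore G
      rw [e]
      exact mul_mem (mul_mem hmO (hOn.conj_mem _ (inv_mem hmO) _)) (hmod x)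
    have hdZ : ∀ z ∈ Z, d * z * d⁻¹ = z := fun z hz => by
      rw [← Subgroup.mem_centralizer_iff.1 hdC z hz, mul_inv_cancel_right]
    refine ⟨Cfsg.conjHom (P ⊔ Z) d, ⟨sup_le hPS inf_le_left, ?_, d, fun x => rfl⟩,
      fun x => hdP x x.2, fun x => hdZ x x.2⟩
    have hle : (P ⊔ Z).map (MulAut.conj d).toMonoidHom ≤ (S : Subgroup G) := by
      rw [Subgroup.map_sup, sup_le_iff]
      constructor
      · rintro _ ⟨x, hx, rfl⟩
        show d * x * d⁻¹ ∈ (S : Subgroup G)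
        rw [hdP x hx]; exact hφS _
      · rintro _ ⟨x, hx, rfl⟩
        show d * x * d⁻¹ ∈ (S : Subgroup G)
        rw [hdZ x hx]; exact hx.1
    exact fun x => hle ⟨x, x.2, rfl⟩

end Cfsg.Agent.S5094
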