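import Cfsg.Statements.S5100
import Cfsg.Agent.Lib.Fusion.GroupSystem

set_option autoImplicit false
open Cfsg Cfsg.FusionSystem Cfsg.Agent.Lib.Fusion

namespace Cfsg.Agent.S5100

/-- In the fusion system of a finite group G on a Sylow p-subgroup S, a subgroup P ≤ S is fully normalized if and only if N_S(P) is a Sylow p-subgroup of N_G(P). -/
theorem result {G : Type*} [Group G] [Finite G] (p : ℕ) [Fact p.Prime] (S : Sylow p G) (P : Subgroup G) (hP : P ≤ S) : (Cfsg.groupFusionSystem (S : Subgroup G)).IsFullyNormalized P ↔ ∃ R : Sylow p ↥(Subgroup.normalizer (P : Set G)), (R : Subgroup ↥(Subgroup.normalizer (P : Set G))) = (Cfsg.FusionSystem.normalizerIn (S : Subgroup G) P).subgroupOf (Subgroup.normalizer (P : Set G)) := by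
  constructor
  · intro hn
    obtain ⟨g, hg, hN⟩ := exists_conj_hasSylowNormalizer S hP
    obtain ⟨R, hR⟩ := hN
    have hc := hn.2 _ (isConj_group_iff.2 ⟨hP, hg, g, rfl⟩)
    have e : (Subgroup.normalizer (P : Set G)).map (MulAut.conj g).toMonoidHom =
        Subgroup.normalizer ((P.map (MulAut.conj g).toMonoidHom : Subgroup G) : Set G) := by
      rw [Subgroup.map_equiv_normalizer_eq]
    have hp : IsPGroup p ((normalizerIn (S : Subgroup G) P).subgroupOf
        (Subgroup.normalizer (P : Set G))) :=
      (S.2.to_le (normalizerIn_le _ _)).comap_of_injective _ (Subgroup.subtype_injective _)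
    obtain ⟨T, hT⟩ := hp.exists_le_sylow
    refine ⟨T, (Subgroup.eq_of_le_of_card_ge hT ?_).symm⟩
    rw [Nat.card_congr (Subgroup.subgroupOfEquivOfLe (H := normalizerIn (S : Subgroup G) P)
      (K := Subgroup.normalizer (P : Set G)) inf_le_right).toEquiv]
    refine le_trans (le_of_eq ?_) hc
    rw [T.card_eq_multiplicity, ← Nat.card_congr (Subgroup.subgroupOfEquivOfLe
      (H := normalizerIn (S : Subgroup G) (P.map (MulAut.conj g).toMonoidHom))
      (K := Subgroup.normalizer ((P.map (MulAut.conj g).toMonoidHom : Subgroup G) : Set G))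
      inf_le_right).toEquiv, ← hR, R.card_eq_multiplicity, ← e,
      Subgroup.card_map_of_injective (f := (MulAut.conj g).toMonoidHom) (MulAut.conj g).injective]
  · intro hN
    exact fullyNormalized_of_automized_receptive S.2 (HasSylowNormalizer.fullyAutomized S hP hN)
      (HasSylowNormalizer.receptive S hP hN)

end Cfsg.Agent.S5100
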