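import Cfsg.Statements.S5101
import Cfsg.Agent.Lib.Fusion.GroupSystem

set_option autoImplicit false
open Cfsg Cfsg.FusionSystem Cfsg.Agent.Lib.Fusion

namespace Cfsg.Agent.S5101

theorem map_centralizer {G : Type*} [Group G] (P : Subgroup G) (g : G) :
    (Subgroup.centralizer (P : Set G)).map (MulAut.conj g).toMonoidHom =
      Subgroup.centralizer ((P.map (MulAut.conj g).toMonoidHom : Subgroup G) : Set G) := by
  ext x
  rw [mem_map_conj, Subgroup.mem_centralizer_iff, Subgroup.mem_centralizer_iff]
  constructor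
  · intro h y hy
    have h1 := h _ (mem_map_conj.1 hy)
    calc y * x = g * (g⁻¹ * y * g * (g⁻¹ * x * g)) * g⁻¹ := by group
      _ = g * (g⁻¹ * x * g * (g⁻¹ * y * g)) * g⁻¹ := by rw [h1]
      _ = x * y := by group
  · intro h y hy
    have h1 := h (g * y * g⁻¹) ⟨y, hy, rfl⟩
    calc y * (g⁻¹ * x * g) = g⁻¹ * (g * y * g⁻¹ * x) * g := by group
      _ = g⁻¹ * (x * (g * y * g⁻¹)) * g := by rw [h1]
      _ = g⁻¹ * x * g * y := by group

/-- In the fusion system of a finite group G on a Sylow p-subgroup S, a subgroup P ≤ S is fully centralized if and only if C_S(P) is a Sylow p-subgroup of C_G(P). -/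
theorem result {G : Type*} [Group G] [Finite G] (p : ℕ) [Fact p.Prime] (S : Sylow p G) (P : Subgroup G) (hP : P ≤ S) : (Cfsg.groupFusionSystem (S : Subgroup G)).IsFullyCentralized P ↔ ∃ R : Sylow p ↥(Subgroup.centralizer (P : Set G)), (R : Subgroup ↥(Subgroup.centralizer (P : Set G))) = (Cfsg.FusionSystem.centralizerIn (S : Subgroup G) P).subgroupOf (Subgroup.centralizer (P : Set G)) := by
  constructor
  · intro hn
    obtain ⟨g, hg, hN⟩ := exists_conj_hasSylowNormalizer S hP
    obtain ⟨R, hR⟩ := HasSylowNormalizer.centralizer S hN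
    have hc := hn.2 _ (isConj_group_iff.2 ⟨hP, hg, g, rfl⟩)
    have e := map_centralizer P g
    have hp : IsPGroup p ((centralizerIn (S : Subgroup G) P).subgroupOf
        (Subgroup.centralizer (P : Set G))) :=
      (S.2.to_le (centralizerIn_le _ _)).comap_of_injective _ (Subgroup.subtype_injective _)
    obtain ⟨T, hT⟩ := hp.exists_le_sylow
    refine ⟨T, (Subgroup.eq_of_le_of_card_ge hT ?_).symm⟩
    rw [Nat.card_congr (Subgroup.subgroupOfEquivOfLe (H := centralizerIn (S : Subgroup G) P)
      (K := Subgroup.centralizer (P : Set G)) inf_le_right).toEquiv]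
    refine le_trans (le_of_eq ?_) hc
    rw [T.card_eq_multiplicity, ← Nat.card_congr (Subgroup.subgroupOfEquivOfLe
      (H := centralizerIn (S : Subgroup G) (P.map (MulAut.conj g).toMonoidHom))
      (K := Subgroup.centralizer ((P.map (MulAut.conj g).toMonoidHom : Subgroup G) : Set G))
      inf_le_right).toEquiv, ← hR, R.card_eq_multiplicity, ← e,
      Subgroup.card_map_of_injective (f := (MulAut.conj g).toMonoidHom) (MulAut.conj g).injective]
  · rintro ⟨T, hT⟩
    refine ⟨hP, fun Q hQ => ?_⟩
    obtain ⟨-, -, g, rfl⟩ := isConj_group_iff.1 hQ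
    have e := map_centralizer P g
    have hp : IsPGroup p ((centralizerIn (S : Subgroup G) (P.map (MulAut.conj g).toMonoidHom)).subgroupOf
        (Subgroup.centralizer ((P.map (MulAut.conj g).toMonoidHom : Subgroup G) : Set G))) :=
      (S.2.to_le (centralizerIn_le _ _)).comap_of_injective _ (Subgroup.subtype_injective _)
    obtain ⟨R, hR⟩ := hp.exists_le_sylow
    rw [← Nat.card_congr (Subgroup.subgroupOfEquivOfLe
      (H := centralizerIn (S : Subgroup G) (P.map (MulAut.conj g).toMonoidHom))
      (K := Subgroup.centralizer ((P.map (MulAut.conj g).toMonoidHom : Subgroup G) : Set G))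
      inf_le_right).toEquiv, ← Nat.card_congr (Subgroup.subgroupOfEquivOfLe
      (H := centralizerIn (S : Subgroup G) P) (K := Subgroup.centralizer (P : Set G))
      inf_le_right).toEquiv, ← hT]
    refine (Subgroup.card_le_of_le hR).trans (le_of_eq ?_)
    rw [R.card_eq_multiplicity, T.card_eq_multiplicity, ← e,
      Subgroup.card_map_of_injective (f := (MulAut.conj g).toMonoidHom) (MulAut.conj g).injective]

end Cfsg.Agent.S5101
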