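import Cfsg.Statements.S5102
import Cfsg.Agent.Lib.Fusion.GroupSystem

set_option autoImplicit false
open Cfsg Cfsg.FusionSystem Cfsg.Agent.Lib.Fusion

namespace Cfsg.Agent.S5102

/-- A normal p-subgroup of a finite group G is normal in the fusion system of G on a Sylow p-subgroup. -/
theorem result {G : Type*} [Group G] [Finite G] (p : ℕ) [Fact p.Prime] (S : Sylow p G) (R : Subgroup G) [R.Normal] (hR : IsPGroup p R) : (Cfsg.groupFusionSystem (S : Subgroup G)).IsNormal R := by
  have hRS : R ≤ (S : Subgroup G) := hR.le_sylow_of_normal S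
  refine ⟨hRS, fun P φ hφ => ?_⟩
  obtain ⟨hP, hφS, g, hg⟩ := hφ
  refine ⟨conjHom (P ⊔ R) g, ⟨sup_le hP hRS, fun x => ?_, g, fun _ => rfl⟩,
    fun x => (hg x).symm, ?_⟩
  · have hle : P ⊔ R ≤ Subgroup.comap (MulAut.conj g).toMonoidHom (S : Subgroup G) := by
      refine sup_le (fun y hy => ?_) fun y hy => hRS (Subgroup.Normal.conj_mem inferInstance y hy g)
      have h1 := hφS ⟨y, hy⟩
      rw [hg] at h1
      exact h1
    exact hle x.2
  · ext y
    rw [Subgroup.mem_map]
    constructor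
    · rintro ⟨x, hx, rfl⟩
      exact Subgroup.Normal.conj_mem (inferInstance : R.Normal) (x : G) hx g
    · intro hy
      have h1 := Subgroup.Normal.conj_mem (inferInstance : R.Normal) y hy g⁻¹
      rw [inv_inv] at h1
      refine ⟨⟨g⁻¹ * y * g, Subgroup.mem_sup_right h1⟩, h1, ?_⟩
      show g * (g⁻¹ * y * g) * g⁻¹ = y
      simp [mul_assoc]

end Cfsg.Agent.S5102
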