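import Cfsg.Statements.S5107
import Cfsg.Agent.Lib.Fusion.NormalCriteria
import Cfsg.Agent.Lib.Fusion.GroupSystem
import Cfsg.Agent.Lib.Fusion.Normal

set_option autoImplicit false
open Cfsg Cfsg.FusionSystem Cfsg.Agent.Lib.Fusion

namespace Cfsg.Agent.S5107

/-- If a Sylow p-subgroup S of a finite group G has nilpotency class at most two and its centre is strongly closed in S with respect to G, then every map of the fusion system of G on S is conjugation by an element of N_G(S), and S is the largest subgroup normal in that fusion system. -/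
theorem result {G : Type*} [Group G] [Finite G] (p : ℕ) [Fact p.Prime] (S : Sylow p G) (hcl : ⁅(S : Subgroup G), (S : Subgroup G)⁆ ≤ (S : Subgroup G) ⊓ Subgroup.centralizer ((S : Subgroup G) : Set G)) (hZ : Cfsg.IsStronglyClosed ((S : Subgroup G) ⊓ Subgroup.centralizer ((S : Subgroup G) : Set G)) (S : Subgroup G)) : (∀ (P : Subgroup G) (φ : P →* G), φ ∈ (Cfsg.groupFusionSystem (S : Subgroup G)).Hom P → ∃ g ∈ Subgroup.normalizer ((S : Subgroup G) : Set G), ∀ x : P, φ x = g * (x : G) * g⁻¹) ∧ (Cfsg.groupFusionSystem (S : Subgroup G)).core = S := by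
  set Z := (S : Subgroup G) ⊓ Subgroup.centralizer ((S : Subgroup G) : Set G)
  set F := Cfsg.groupFusionSystem (S : Subgroup G)
  have hF : F.IsSaturated p := group_isSaturated S
  have hZsc : F.StronglyClosed Z := by
    refine ⟨inf_le_left, ?_⟩
    rintro R hR φ ⟨-, hv, g, hg⟩ x
    have h := hv x
    rw [hg] at h ⊢
    exact hZ.2 x (hR x.2) g h
  have hN : F.IsNormal (S : Subgroup G) := by
    refine normal_of_series S.2 hF (n := 2) ⟨le_rfl, fun R _ φ hφ x => apply_mem hφ x⟩
      ![⊥, Z, (S : Subgroup G)] rfl rfl ?_ ?_ ?_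
    · intro a b hab
      fin_cases a <;> fin_cases b <;> simp_all [Z]
    · intro i
      fin_cases i
      · show ⁅Z, (S : Subgroup G)⁆ ≤ ⊥
        exact le_of_eq (Subgroup.commutator_eq_bot_iff_le_centralizer.2 inf_le_right)
      · exact hcl
    · intro i
      fin_cases i
      · exact StronglyClosed.weaklyClosed (IsNormal.stronglyClosed (isNormal_bot F))
      · exact StronglyClosed.weaklyClosed hZsc
  refine ⟨fun P φ hφ => ?_, le_antisymm (sSup_le fun Q hQ => hQ.1) (le_core hN)⟩
  obtain ⟨ψ, ⟨-, -, g, hg⟩, hext, himg⟩ := hN.2 P φ hφ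
  refine ⟨g, mem_normalizer_of_finite fun y hy => ?_, fun x => ?_⟩
  · rw [← hg ⟨y, Subgroup.mem_sup_right hy⟩]
    exact himg.le ⟨⟨y, Subgroup.mem_sup_right hy⟩, hy, rfl⟩
  · rw [← hext x]
    exact hg _

end Cfsg.Agent.S5107
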