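import Cfsg.Statements.S5115
import Cfsg.Agent.Lib.Fusion.NormalCriteria
import Cfsg.Agent.Lib.Fusion.Series
import Cfsg.Agent.Lib.Fusion.Normal
import Cfsg.Agent.Lib.Fusion.GroupSystem

set_option autoImplicit false
open Cfsg Cfsg.FusionSystem Cfsg.Agent.Lib.Fusion

namespace Cfsg.Agent.S5115

open scoped commutatorElement

/-- A normal subgroup of a group with constrained system has a constrained system. -/
theorem constrained_of_normal {G K : Type*} [Group G] [Group K] [Finite G] [Finite K] {p : ℕ}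
    [Fact p.Prime] (T : Sylow p G) (f : K →* G) (hf : Function.Injective f) (hn : f.range.Normal)
    (hc : (Cfsg.groupFusionSystem (T : Subgroup G)).IsConstrained p) :
    ∃ R : Sylow p K, (R : Subgroup K) = (T : Subgroup G).comap f ∧
      (Cfsg.groupFusionSystem (R : Subgroup K)).IsConstrained p := by
  classical
  set N := f.range with hN
  have hSp : IsPGroup p ((T : Subgroup G).comap f) := T.2.comap_of_injective f hf
  obtain ⟨R₀, hR₀⟩ := exists_sylow_subgroupOf_normal T N
  have hidx : ¬ p ∣ ((T : Subgroup G).comap f).index := by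
    rw [Subgroup.index_comap]
    show ¬ p ∣ ((T : Subgroup G).subgroupOf N).index
    rw [← hR₀]
    exact R₀.not_dvd_index
  refine ⟨hSp.toSylow hidx, rfl, ?_⟩
  set SK := (T : Subgroup G).comap f with hSK
  show (Cfsg.groupFusionSystem SK).IsConstrained p
  have hEsat : (Cfsg.groupFusionSystem SK).IsSaturated p := group_isSaturated (hSp.toSylow hidx)
  obtain ⟨hFsat, Q, hQn, hQc⟩ := hc
  have hQS := hQn.1
  have hQT : (T : Subgroup G) ≤ Subgroup.normalizer (Q : Set G) :=
    WeaklyClosed.le_normalizer (StronglyClosed.weaklyClosed (IsNormal.stronglyClosed hQn))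
  -- subgroups of `T ∩ N` pulled back
  have hext : ∀ (P : Subgroup K) (φ : P →* K), φ ∈ (Cfsg.groupFusionSystem SK).Hom P →
      ∃ g : G, (∀ x : P, f (φ x) = g * f x * g⁻¹) ∧ g ∈ Subgroup.normalizer (Q : Set G) := by
    rintro P φ ⟨hP, hφ, k, hk⟩
    set P' : Subgroup G := P.map f with hP'
    have hP'S : P' ≤ (T : Subgroup G) := by
      rintro _ ⟨x, hx, rfl⟩; exact hP hx
    have hmem : conjHom P' (f k) ∈ (Cfsg.groupFusionSystem (T : Subgroup G)).Hom P' := by
      refine ⟨hP'S, ?_, f k, fun _ => rfl⟩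
      rintro ⟨_, x, hx, rfl⟩
      show f k * f x * (f k)⁻¹ ∈ (T : Subgroup G)
      rw [← map_inv, ← map_mul, ← map_mul, ← hk ⟨x, hx⟩]
      exact hφ _
    obtain ⟨ψ, ⟨-, -, g, hg⟩, hagree, himg⟩ := hQn.2 P' _ hmem
    refine ⟨g, fun x => ?_, mem_normalizer_of_finite fun y hy => ?_⟩
    · have h1 := hagree ⟨f x, x, x.2, rfl⟩
      rw [hg] at h1
      rw [hk, map_mul, map_mul, map_inv]
      exact h1.symm
    · have h2 := himg.le ⟨Subgroup.inclusion le_sup_right ⟨y, hy⟩, hy, rfl⟩
      rwa [hg] at h2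
  -- pull-backs of invariant subgroups are strongly closed
  have hclosed : ∀ W : Subgroup G, W ≤ (T : Subgroup G) →
      (∀ g ∈ Subgroup.normalizer (Q : Set G), ∀ w ∈ W, g * w * g⁻¹ ∈ (T : Subgroup G) →
        g * w * g⁻¹ ∈ N → g * w * g⁻¹ ∈ W) →
      (Cfsg.groupFusionSystem SK).StronglyClosed (W.comap f) := by
    intro W hW hWinv
    refine ⟨Subgroup.comap_mono hW, fun P hP φ hφ x => ?_⟩
    obtain ⟨g, hg, hgQ⟩ := hext P φ hφ
    show f (φ x) ∈ W
    rw [hg x]
    exact hWinv g hgQ _ (hP x.2) ((hg x) ▸ hφ.2.1 x) ((hg x) ▸ ⟨φ x, rfl⟩)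
  set Z := centralizerIn (T : Subgroup G) Q with hZ
  have hZQ : Z ≤ Q := hQc.2 Q (isConj_refl _ hQS)
  set W := (T : Subgroup G) ⊓ Subgroup.centralizer ((Q ⊓ N : Subgroup G) : Set G) with hW
  set D := W.comap f with hD
  have hDsc : (Cfsg.groupFusionSystem SK).StronglyClosed D := by
    refine hclosed W inf_le_left fun g hg w hw h1 _ => ⟨h1, ?_⟩
    refine Subgroup.mem_centralizer_iff.2 fun y hy => ?_
    have hy' : g⁻¹ * y * g ∈ Q ⊓ N := by
      refine ⟨?_, ?_⟩
      · have := conj_mem_of_mem_normalizer (inv_mem hg) hy.1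
        rwa [inv_inv] at this
      · have := hn.conj_mem y hy.2 g⁻¹
        rwa [inv_inv] at this
    have h2 := Subgroup.mem_centralizer_iff.1 hw.2 _ hy'
    calc y * (g * w * g⁻¹) = g * ((g⁻¹ * y * g) * w) * g⁻¹ := by group
      _ = g * (w * (g⁻¹ * y * g)) * g⁻¹ := by rw [h2]
      _ = g * w * g⁻¹ * y := by group
  set C := Z.comap f with hC
  have hCsc : (Cfsg.groupFusionSystem SK).StronglyClosed C := by
    refine hclosed Z (centralizerIn_le _ _) fun g hg w hw h1 _ => ⟨h1, ?_⟩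
    refine Subgroup.mem_centralizer_iff.2 fun y hy => ?_
    have hy' : g⁻¹ * y * g ∈ Q := by
      have := conj_mem_of_mem_normalizer (inv_mem hg) hy
      rwa [inv_inv] at this
    have h2 := Subgroup.mem_centralizer_iff.1 hw.2 _ hy'
    calc y * (g * w * g⁻¹) = g * ((g⁻¹ * y * g) * w) * g⁻¹ := by group
      _ = g * (w * (g⁻¹ * y * g)) * g⁻¹ := by rw [h2]
      _ = g * w * g⁻¹ * y := by group
  have hCD : C ≤ D := fun k hk => ⟨hk.1, fun y hy => hk.2 y hy.1⟩
  -- `D` acts on `Q` as an abelian group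
  have hfix : ∀ v ∈ W, v ∈ N → ∀ x ∈ Q, x⁻¹ * (v * x * v⁻¹) ∈ Q ⊓ N ∧
      ∀ y ∈ Q ⊓ N, Commute (x⁻¹ * (v * x * v⁻¹)) y := by
    intro v hv hvN x hx
    have hvx : v * x * v⁻¹ ∈ Q := conj_mem_of_mem_normalizer (hQT hv.1) hx
    refine ⟨⟨Q.mul_mem (Q.inv_mem hx) hvx, ?_⟩, fun y hy => ?_⟩
    · rw [show x⁻¹ * (v * x * v⁻¹) = (x⁻¹ * v * (x⁻¹)⁻¹) * v⁻¹ by group]
      exact N.mul_mem (hn.conj_mem v hvN x⁻¹) (N.inv_mem hvN)
    · have hxy : x * y * x⁻¹ ∈ Q ⊓ N :=
        ⟨Q.mul_mem (Q.mul_mem hx hy.1) (Q.inv_mem hx), hn.conj_mem y hy.2 x⟩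
      have h1 := Subgroup.mem_centralizer_iff.1 hv.2 _ hxy
      have h2 := Subgroup.mem_centralizer_iff.1 hv.2 _ hy
      show x⁻¹ * (v * x * v⁻¹) * y = y * (x⁻¹ * (v * x * v⁻¹))
      calc x⁻¹ * (v * x * v⁻¹) * y = x⁻¹ * v * x * (v⁻¹ * (y * v)) * v⁻¹ := by group
        _ = x⁻¹ * v * x * (v⁻¹ * (v * y)) * v⁻¹ := by rw [h2]
        _ = x⁻¹ * (v * (x * y * x⁻¹)) * x * v⁻¹ := by group
        _ = x⁻¹ * ((x * y * x⁻¹) * v) * x * v⁻¹ := by rw [h1]
        _ = y * (x⁻¹ * (v * x * v⁻¹)) := by group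
  have hDn : (Cfsg.groupFusionSystem SK).IsNormal D := by
    refine normal_of_series hSp hEsat hDsc (n := 2) ![⊥, C, D] rfl rfl ?_ ?_ ?_
    · intro a b hab
      fin_cases a <;> fin_cases b <;> simp_all
    · intro i
      fin_cases i
      · show ⁅C, D⁆ ≤ ⊥
        rw [Subgroup.commutator_le]
        intro c hc d hd
        rw [Subgroup.mem_bot, commutatorElement_eq_one_iff_mul_comm]
        apply hf
        rw [map_mul, map_mul]
        exact Subgroup.mem_centralizer_iff.1 hd.2 (f c) ⟨hZQ hc, c, rfl⟩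
      · show ⁅D, D⁆ ≤ C
        rw [Subgroup.commutator_le]
        intro v hv w hw
        refine ⟨(Subgroup.comap f (T : Subgroup G)).mul_mem (Subgroup.mul_mem _
          (Subgroup.mul_mem _ hv.1 hw.1) (Subgroup.inv_mem _ hv.1)) (Subgroup.inv_mem _ hw.1), ?_⟩
        show f ⁅v, w⁆ ∈ Subgroup.centralizer (Q : Set G)
        rw [map_commutatorElement, Subgroup.mem_centralizer_iff]
        have key : ∀ x ∈ Q, (f w * f v) * x * (f w * f v)⁻¹ = (f v * f w) * x * (f v * f w)⁻¹ := by
          intro x hx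
          obtain ⟨⟨hav, -⟩, hav'⟩ := hfix (f v) hv ⟨v, rfl⟩ x hx
          obtain ⟨hawm, hawc⟩ := hfix (f w) hw ⟨w, rfl⟩ x hx
          set a := x⁻¹ * (f v * x * (f v)⁻¹) with ha
          set b := x⁻¹ * (f w * x * (f w)⁻¹) with hb
          have ham : a ∈ Q ⊓ N := (hfix (f v) hv ⟨v, rfl⟩ x hx).1
          have hab : Commute a b := hav' b hawm
          have hvb : f v * b * (f v)⁻¹ = b := by
            rw [← Subgroup.mem_centralizer_iff.1 hv.2 b hawm, mul_inv_cancel_right]
          have hwa : f w * a * (f w)⁻¹ = a := by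
            rw [← Subgroup.mem_centralizer_iff.1 hw.2 a ham, mul_inv_cancel_right]
          have e1 : f v * (f w * x * (f w)⁻¹) * (f v)⁻¹ = x * a * b := by
            rw [show f w * x * (f w)⁻¹ = x * b by rw [hb, mul_inv_cancel_left],
              show f v * (x * b) * (f v)⁻¹ = f v * x * (f v)⁻¹ * (f v * b * (f v)⁻¹) by group, hvb,
              ha, mul_inv_cancel_left]
          have e2 : f w * (f v * x * (f v)⁻¹) * (f w)⁻¹ = x * a * b := by
            rw [show f v * x * (f v)⁻¹ = x * a by rw [ha, mul_inv_cancel_left],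
              show f w * (x * a) * (f w)⁻¹ = f w * x * (f w)⁻¹ * (f w * a * (f w)⁻¹) by group, hwa,
              mul_assoc x a b, hab.eq, hb]
            group
          show (f w * f v) * x * (f w * f v)⁻¹ = (f v * f w) * x * (f v * f w)⁻¹
          rw [show (f w * f v) * x * (f w * f v)⁻¹ = f w * (f v * x * (f v)⁻¹) * (f w)⁻¹ by group,
            e2, ← e1]
          group
        intro x hx
        have hwv : f w * f v ∈ Subgroup.normalizer (Q : Set G) :=
          Subgroup.mul_mem _ (hQT hw.1) (hQT hv.1)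
        have hx' : (f w * f v)⁻¹ * x * (f w * f v) ∈ Q := by
          have := conj_mem_of_mem_normalizer (inv_mem hwv) hx
          rwa [inv_inv] at this
        have h := key _ hx'
        rw [show (f w * f v) * ((f w * f v)⁻¹ * x * (f w * f v)) * (f w * f v)⁻¹ = x by group] at h
        rw [commutatorElement_def]
        conv_lhs => rw [h]
        group
    · intro i
      fin_cases i
      · exact ⟨bot_le, fun φ hφ => by
          refine le_bot_iff.1 ?_
          rintro _ ⟨⟨x, hx⟩, rfl⟩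
          obtain rfl := Subgroup.mem_bot.1 hx
          exact Subgroup.mem_bot.2 (map_one φ)⟩
      · exact StronglyClosed.weaklyClosed hCsc
  -- `Q ∩ N` pulled back is normal
  set A := Q.comap f with hA
  have hsc : ∀ U : Subgroup G, (Cfsg.groupFusionSystem (T : Subgroup G)).IsNormal U →
      (Cfsg.groupFusionSystem SK).StronglyClosed (U.comap f) := by
    intro U hU
    refine ⟨Subgroup.comap_mono hU.1, fun P hP φ hφ x => ?_⟩
    obtain ⟨hPS, hφS, k, hk⟩ := hφ
    have hx1 : f x ∈ U := hP x.2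
    have hsc := (IsNormal.stronglyClosed hU).2 (Subgroup.zpowers (f x)) (Subgroup.zpowers_le.2 hx1)
      (conjHom (Subgroup.zpowers (f x)) (f k)) ⟨(Subgroup.zpowers_le.2 (hPS x.2)), ?_, f k, fun _ => rfl⟩
      ⟨f x, Subgroup.mem_zpowers _⟩
    · show f (φ x) ∈ U
      rw [hk, map_mul, map_mul, map_inv]
      exact hsc
    · rintro ⟨_, n, rfl⟩
      show f k * f x ^ n * (f k)⁻¹ ∈ (T : Subgroup G)
      rw [← conj_zpow, ← map_inv, ← map_mul, ← map_mul, ← hk]
      exact zpow_mem (show f (φ x) ∈ (T : Subgroup G) from hφS x) n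
  have hAn : (Cfsg.groupFusionSystem SK).IsNormal A := by
    obtain ⟨n, L, hL0, hLn, hmono, hcomm, hk⟩ := exists_lcs_series T.2 hQS
    refine normal_of_series hSp hEsat (hsc Q hQn) (fun j => (L j).comap f) ?_ (by simp only [hLn]; rfl)
      (fun a b hab => Subgroup.comap_mono (hmono hab)) (fun i => ?_) fun i => ?_
    · show (L 0).comap f = ⊥
      rw [hL0, eq_bot_iff]
      intro x hx
      exact Subgroup.mem_bot.2 (hf (by rw [map_one]; exact Subgroup.mem_bot.1 hx))
    · show ⁅(L i.succ).comap f, A⁆ ≤ (L i.castSucc).comap f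
      rw [Subgroup.commutator_le]
      intro a ha b hb
      show f ⁅a, b⁆ ∈ L i.castSucc
      rw [map_commutatorElement]
      exact hcomm i (Subgroup.commutator_mem_commutator ha hb)
    · obtain ⟨k, hk⟩ := hk i.castSucc
      exact StronglyClosed.weaklyClosed (hsc _ (hk ▸ IsNormal.lcs hQn k))
  refine ⟨hEsat, A ⊔ D, isNormal_sup hAn hDn, (isNormal_sup hAn hDn).1, fun P hP => ?_⟩
  obtain ⟨φ, hφ, hr⟩ := hP
  have hPeq : P = A ⊔ D := by
    rw [← hr]
    exact (StronglyClosed.weaklyClosed (IsNormal.stronglyClosed (isNormal_sup hAn hDn))).2 φ hφ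
  subst hPeq
  intro c hc
  refine Subgroup.mem_sup_right ⟨hc.1, Subgroup.mem_centralizer_iff.2 fun y hy => ?_⟩
  obtain ⟨z, rfl⟩ := hy.2
  have := Subgroup.mem_centralizer_iff.1 hc.2 z (Subgroup.mem_sup_left hy.1)
  rw [← map_mul, ← map_mul, this]

/-- If the 2-fusion system of a finite group G on a Sylow 2-subgroup S is constrained, then for every subnormal subgroup H of G the 2-fusion system of H on S ∩ H is constrained. -/
theorem result {G : Type*} [Group G] [Finite G] (S : Sylow 2 G) (hF : (Cfsg.groupFusionSystem (S : Subgroup G)).IsConstrained 2) (H : Subgroup G) (hH : H.IsSubnormal) : (Cfsg.groupFusionSystem ((S : Subgroup G).subgroupOf H)).IsConstrained 2 := by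
  classical
  suffices h : ∃ R : Sylow 2 H, (R : Subgroup H) = (S : Subgroup G).subgroupOf H ∧
      (Cfsg.groupFusionSystem (R : Subgroup H)).IsConstrained 2 by
    obtain ⟨R, hR, hc⟩ := h
    rwa [hR] at hc
  induction hH with
  | top =>
    obtain ⟨R, hR, hc⟩ := constrained_of_normal S (⊤ : Subgroup G).subtype
      (Subgroup.subtype_injective _) (by rw [Subgroup.range_subtype]; infer_instance) hF
    exact ⟨R, hR, hc⟩
  | step H K hHK _ hn ih =>
    obtain ⟨R, hR, hc⟩ := ih
    obtain ⟨R', hR', hc'⟩ := constrained_of_normal R (Subgroup.inclusion hHK)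
      (Subgroup.inclusion_injective hHK) (by
        have e : (Subgroup.inclusion hHK).range = H.subgroupOf K := by
          ext x
          exact ⟨fun ⟨y, hy⟩ => hy ▸ y.2, fun hx => ⟨⟨x, hx⟩, Subtype.ext rfl⟩⟩
        rw [e]
        exact hn) hc
    refine ⟨R', ?_, hc'⟩
    rw [hR', hR]
    rfl

end Cfsg.Agent.S5115
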