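import Cfsg.Statements.S5118
import Cfsg.Agent.Lib.Fusion.Realized
import Cfsg.Agent.Lib.Fusion.Subsystem

set_option autoImplicit false
open Cfsg Cfsg.FusionSystem Cfsg.Agent.Lib.Fusion

namespace Cfsg.Agent.S5118

/-- For a finite group G with Sylow p-subgroup S and a normal subgroup H, the fusion system of H on S ∩ H is a normal subsystem of the fusion system of G on S. -/
theorem result {G : Type*} [Group G] [Finite G] (p : ℕ) [Fact p.Prime] (S : Sylow p G) (H : Subgroup G) [H.Normal] : (Cfsg.fusionSystemOfSubgroup H ((S : Subgroup G) ⊓ H) inf_le_right).IsNormalIn (Cfsg.groupFusionSystem (S : Subgroup G)) p := by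
  classical
  let T := (S : Subgroup G) ⊓ H
  have hTS : T ≤ (S : Subgroup G) := inf_le_left
  have hTH : T ≤ H := inf_le_right
  obtain ⟨R, hR⟩ := exists_sylow_subgroupOf_normal S H
  have hRT : (R : Subgroup H) = T.subgroupOf H := by
    rw [hR]
    exact (Subgroup.inf_subgroupOf_right (S : Subgroup G) H).symm
  have hTN : ∀ s ∈ (S : Subgroup G), s ∈ Subgroup.normalizer (T : Set G) := fun s hs =>
    mem_normalizer_of_finite fun x hx => ⟨(S : Subgroup G).mul_mem ((S : Subgroup G).mul_mem hs hx.1)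
      ((S : Subgroup G).inv_mem hs), Subgroup.Normal.conj_mem inferInstance x hx.2 s⟩
  have hsc : (Cfsg.groupFusionSystem (S : Subgroup G)).StronglyClosed T := by
    refine ⟨hTS, fun P hP φ hφ x => ⟨hφ.2.1 x, ?_⟩⟩
    obtain ⟨g, hg⟩ := hφ.2.2
    rw [hg x]
    exact Subgroup.Normal.conj_mem inferInstance _ (hP x.2).2 g
  refine ⟨⟨fusionSystemOfSubgroup_isSaturated hTH R hRT, group_isSaturated S, ?_, hsc, ?_, ?_⟩, ?_⟩
  · rintro P φ ⟨hP, hφT, g, -, hg⟩
    exact ⟨hP.trans hTS, fun x => hTS (hφT x), g, hg⟩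
  · intro P hPT φ hφ α hα
    obtain ⟨-, hφT, h, hh, he⟩ := hφ
    rw [autGroup_group hTS] at hα
    obtain ⟨g, -, hg⟩ := mem_autInducedBy.1 hα
    refine ⟨conjHom _ (g * h * g⁻¹), ⟨?_, ?_, g * h * g⁻¹,
      Subgroup.Normal.conj_mem inferInstance h hh g, fun _ => rfl⟩, ?_⟩
    · rintro _ ⟨x, -, rfl⟩
      exact (α x).2
    · rintro ⟨_, ⟨⟨x, hxT⟩, hx, rfl⟩⟩
      show g * h * g⁻¹ * ((α ⟨x, hxT⟩ : T) : G) * (g * h * g⁻¹)⁻¹ ∈ T
      rw [hg ⟨x, hxT⟩]
      have h1 := hg ⟨φ ⟨x, hx⟩, hφT _⟩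
      rw [show g * h * g⁻¹ * (g * x * g⁻¹) * (g * h * g⁻¹)⁻¹ = g * (h * x * h⁻¹) * g⁻¹ by group,
        ← he ⟨x, hx⟩]
      exact h1 ▸ SetLike.coe_mem _
    · intro x hx hαx
      show g * h * g⁻¹ * ((α ⟨x, hPT x.2⟩ : T) : G) * (g * h * g⁻¹)⁻¹ = _
      rw [hg, hg]
      show g * h * g⁻¹ * (g * (x : G) * g⁻¹) * (g * h * g⁻¹)⁻¹ = g * φ x * g⁻¹
      rw [he x]
      group
  · intro P hP φ hφ
    obtain ⟨hPS, hφS, g, hg⟩ := hφ
    have htop := Sylow.normalizer_sup_eq_top R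
    have hgmem : g ∈ Subgroup.normalizer (T : Set G) ⊔ H := by
      have hmap : ((R : Subgroup H).map H.subtype) = T := by
        rw [hRT, Subgroup.map_subgroupOf_eq_of_le hTH]
      rw [hmap] at htop
      rw [htop]
      trivial
    rw [← SetLike.mem_coe, Subgroup.mul_normal] at hgmem
    obtain ⟨n, hn, h, hh, hnh⟩ := hgmem
    have hnh' : n * h = g := hnh
    have hmem : ∀ x : P, h * (x : G) * h⁻¹ ∈ T := by
      intro x
      have h1 : φ x ∈ T := hsc.2 P hP φ ⟨hPS, hφS, g, hg⟩ x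
      have h2 := (mem_normalizer_iff'.1 hn).2 _ h1
      rw [hg x, ← hnh'] at h2
      have e : n⁻¹ * (n * h * (x : G) * (n * h)⁻¹) * n = h * (x : G) * h⁻¹ := by group
      rwa [e] at h2
    refine ⟨conjAut hn, ?_, conjHom P h, ⟨hP, hmem, h, hh, fun _ => rfl⟩, fun x hx => ?_⟩
    · rw [autGroup_group hTS]
      exact conjAut_mem_autInducedBy (K := ⊤) trivial hn
    · rw [hg x, ← hnh', conjAut_coe]
      show n * h * (x : G) * (n * h)⁻¹ = n * (h * (x : G) * h⁻¹) * n⁻¹
      group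
  · intro α hα
    obtain ⟨-, -, h, hh, he⟩ := autHom_mem _ le_rfl hα
    let C := centralizerIn (S : Subgroup G) T
    let D := Subgroup.centralizer (T : Set G)
    have hhT : h ∈ Subgroup.normalizer (T : Set G) := mem_normalizer_of_finite fun x hx => by
      have h1 := he ⟨x, hx⟩
      rw [← show _ = h * x * h⁻¹ from h1]
      exact (α ⟨x, hx⟩).2
    have hDh : ∀ d ∈ D, ∀ m ∈ Subgroup.normalizer (T : Set G), m * d * m⁻¹ ∈ D := by
      intro d hd m hm
      rw [Subgroup.mem_centralizer_iff] at hd ⊢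
      intro t ht
      have h1 := hd _ ((mem_normalizer_iff'.1 hm).2 t ht)
      calc t * (m * d * m⁻¹) = m * (m⁻¹ * t * m * d) * m⁻¹ := by group
        _ = m * (d * (m⁻¹ * t * m)) * m⁻¹ := by rw [h1]
        _ = m * d * m⁻¹ * t := by group
    let K := H ⊓ D
    have hCK : C ≤ Subgroup.normalizer (K : Set G) := fun c hc => mem_normalizer_of_finite fun k hk =>
      ⟨Subgroup.Normal.conj_mem inferInstance k hk.1 c, hDh k hk.2 c (hTN c hc.1)⟩
    let M := C ⊔ K
    have hMD : M ≤ D := sup_le inf_le_right inf_le_right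
    have hn0 : HasSylowNormalizer p (S : Subgroup G) T := by
      have hp : IsPGroup p ((normalizerIn (S : Subgroup G) T).subgroupOf
          (Subgroup.normalizer (T : Set G))) :=
        (S.2.to_le (normalizerIn_le _ _)).comap_of_injective _ (Subgroup.subtype_injective _)
      obtain ⟨U, hU⟩ := hp.exists_le_sylow
      refine ⟨U, le_antisymm ?_ hU⟩
      obtain ⟨U', hU'⟩ := (U.2.map (Subgroup.normalizer (T : Set G)).subtype).exists_le_sylow
      have hSU : (S : Subgroup G) ≤ U' := fun s hs =>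
        hU' ⟨⟨s, hTN s hs⟩, hU ⟨hs, hTN s hs⟩, rfl⟩
      have hU'S := S.3 U'.2 hSU
      intro x hx
      exact ⟨hU'S.le (hU' ⟨x, hx, rfl⟩), x.2⟩
    obtain ⟨V, hV⟩ := HasSylowNormalizer.centralizer S hn0
    have hVM : (V : Subgroup D) ≤ M.subgroupOf D := by
      rw [hV]
      exact fun x hx => Subgroup.mem_sup_left hx
    let V₁ : Sylow p (M.subgroupOf D) := V.subtype hVM
    have hconj : ∀ c ∈ C, h * c * h⁻¹ ∈ M := by
      intro c hc
      have h1 : c⁻¹ * (h * c * h⁻¹) ∈ K := by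
        refine ⟨?_, D.mul_mem (D.inv_mem hc.2) (hDh c hc.2 h hhT)⟩
        rw [show c⁻¹ * (h * c * h⁻¹) = c⁻¹ * h * c * h⁻¹ by group]
        exact H.mul_mem (by simpa using Subgroup.Normal.conj_mem (inferInstance : H.Normal) h hh c⁻¹)
          (H.inv_mem hh)
      have := M.mul_mem (Subgroup.mem_sup_left hc) (Subgroup.mem_sup_right h1)
      rwa [mul_inv_cancel_left] at this
    let Y : Subgroup (M.subgroupOf D) :=
      ((C.map (MulAut.conj h).toMonoidHom).subgroupOf D).subgroupOf (M.subgroupOf D)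
    have hYp : IsPGroup p Y :=
      (((S.2.to_le (centralizerIn_le _ _)).map _).comap_of_injective D.subtype
        D.subtype_injective).comap_of_injective _ (Subgroup.subtype_injective _)
    obtain ⟨V₂, hV₂⟩ := hYp.exists_le_sylow
    obtain ⟨m, hm⟩ := MulAction.exists_smul_eq (M.subgroupOf D) V₂ V₁
    have hmM : ((m : D) : G) ∈ ((C ⊔ K : Subgroup G) : Set G) := m.2
    rw [Subgroup.coe_mul_of_left_le_normalizer_right C K hCK] at hmM
    obtain ⟨c₀, hc₀, k, hk, hmk⟩ := hmM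
    let h' := k * h
    have hC' : ∀ c ∈ C, h' * c * h'⁻¹ ∈ C := by
      intro c hc
      have h1 : (⟨⟨h * c * h⁻¹, hMD (hconj c hc)⟩, hconj c hc⟩ : M.subgroupOf D) ∈
          (V₂ : Subgroup (M.subgroupOf D)) := hV₂ ⟨c, hc, rfl⟩
      have h2 : m * ⟨⟨h * c * h⁻¹, hMD (hconj c hc)⟩, hconj c hc⟩ * m⁻¹ ∈
          (V₁ : Subgroup (M.subgroupOf D)) := by
        rw [← hm, Sylow.coe_subgroup_smul]
        exact ⟨_, h1, rfl⟩
      rw [Sylow.coe_subtype, Subgroup.mem_subgroupOf, hV, Subgroup.mem_subgroupOf] at h2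
      have h3 : ((m : D) : G) * (h * c * h⁻¹) * ((m : D) : G)⁻¹ ∈ C := h2
      rw [← show c₀ * k = ((m : D) : G) from hmk] at h3
      have h4 := C.mul_mem (C.mul_mem (C.inv_mem hc₀) h3) hc₀
      have e : c₀⁻¹ * (c₀ * k * (h * c * h⁻¹) * (c₀ * k)⁻¹) * c₀ = h' * c * h'⁻¹ := by
        simp only [h']
        group
      rwa [e] at h4
    have hT' : ∀ t ∈ T, h' * t * h'⁻¹ = h * t * h⁻¹ := by
      intro t ht
      have h1 := Subgroup.mem_centralizer_iff.1 hk.2 _ ((hhT t).1 ht)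
      calc h' * t * h'⁻¹ = k * (h * t * h⁻¹) * k⁻¹ := by simp only [h']; group
        _ = h * t * h⁻¹ * k * k⁻¹ := by rw [← h1]
        _ = h * t * h⁻¹ := by group
    have hN : h' ∈ Subgroup.normalizer ((T ⊔ C : Subgroup G) : Set G) := by
      refine mem_normalizer_of_finite fun x hx => ?_
      have hle : T ⊔ C ≤ (T ⊔ C).comap (MulAut.conj h').toMonoidHom :=
        sup_le (fun t ht => Subgroup.mem_sup_left (show h' * t * h'⁻¹ ∈ T by
          rw [hT' t ht]; exact (hhT t).1 ht)) fun c hc => Subgroup.mem_sup_right (hC' c hc)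
      exact hle hx
    refine ⟨conjAut hN, ?_, fun x => ?_, fun c hc => ?_⟩
    · rw [autGroup_group (sup_le hTS (centralizerIn_le _ _))]
      exact conjAut_mem_autInducedBy (K := ⊤) trivial hN
    · rw [conjAut_coe]
      exact (hT' x x.2).trans (he x).symm
    · rw [conjAut_coe]
      have h1 : (c : G)⁻¹ * (h' * (c : G) * h'⁻¹) ∈ C := C.mul_mem (C.inv_mem hc) (hC' _ hc)
      refine ⟨⟨h1.1, ?_⟩, h1.2⟩
      have hh' : h' ∈ H := H.mul_mem hk.1 hh
      rw [show (c : G)⁻¹ * (h' * (c : G) * h'⁻¹) = (c : G)⁻¹ * h' * (c : G) * h'⁻¹ by group]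
      exact H.mul_mem (by simpa using Subgroup.Normal.conj_mem (inferInstance : H.Normal) h' hh' (c : G)⁻¹) (H.inv_mem hh')

end Cfsg.Agent.S5118
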