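import Cfsg.Statements.S5119
import Cfsg.Agent.Lib.Fusion.Subsystem
import Cfsg.Agent.Lib.Fusion.GroupSystem

set_option autoImplicit false
open Cfsg Cfsg.FusionSystem Cfsg.Agent.Lib.Fusion

namespace Cfsg.Agent.S5119

open Cfsg.Agent.Lib.Fusion Cfsg.FusionSystem in
/-- A map factoring as a map of `E` followed by an automorphism of `T` in `F`. -/
def Good {Ω : Type*} [Group Ω] {S T : Subgroup Ω} (F : Cfsg.FusionSystem S) (E : Cfsg.FusionSystem T)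
    (P : Subgroup Ω) (φ : P →* Ω) : Prop :=
  ∃ α ∈ F.autGroup T, ∃ φ₀ ∈ E.Hom P, ∀ (x : P) (hx : φ₀ x ∈ T), φ x = ((α ⟨φ₀ x, hx⟩ : T) : Ω)

open Cfsg.Agent.Lib.Fusion Cfsg.FusionSystem in
theorem transport {Ω : Type*} [Group Ω] {S T : Subgroup Ω}
    (F : Cfsg.FusionSystem S) (E : Cfsg.FusionSystem T)
    (h3 : ∀ (P : Subgroup Ω) (hPT : P ≤ T) (φ : P →* Ω), φ ∈ E.Hom P → ∀ α ∈ F.autGroup T,
      ∃ χ ∈ E.Hom ((P.subgroupOf T).map (T.subtype.comp α.toMonoidHom)),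
        ∀ (x : P) (hφx : φ x ∈ T)
          (hαx : ((α ⟨x, hPT x.2⟩ : T) : Ω) ∈ (P.subgroupOf T).map (T.subtype.comp α.toMonoidHom)),
          χ ⟨(α ⟨x, hPT x.2⟩ : T), hαx⟩ = ((α ⟨φ x, hφx⟩ : T) : Ω))
    {P : Subgroup Ω} (e : P →* Ω) (he : e ∈ E.Hom P) {α : MulAut T} (hα : α ∈ F.autGroup T)
    {R : Subgroup Ω} {e' : R →* Ω} (he' : e' ∈ E.Hom R)
    (hR : ∀ x : P, ((α ⟨e x, apply_mem he x⟩ : T) : Ω) ∈ R) :
    ∃ e'' ∈ E.Hom P, ∀ (x : P) (hx : e'' x ∈ T),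
      e' ⟨_, hR x⟩ = ((α ⟨e'' x, hx⟩ : T) : Ω) := by
  obtain ⟨χ, hχ, hχe⟩ := h3 R (source_le he') e' he' α⁻¹ ((F.autGroup T).inv_mem hα)
  have hval : ∀ x : P, e x ∈ (R.subgroupOf T).map (T.subtype.comp (α⁻¹ : MulAut T).toMonoidHom) :=
    fun x => ⟨α ⟨e x, apply_mem he x⟩, hR x, by simp [MulAut.inv_apply]⟩
  refine ⟨compose e χ hval, compose_mem E he hχ hval, fun x hx => ?_⟩
  have h1 := hχe ⟨_, hR x⟩ (apply_mem he' _)
    (by simpa [MulAut.inv_apply] using hval x)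
  simp only [Subtype.coe_eta, MulAut.inv_apply, MulEquiv.symm_apply_apply] at h1
  have h2 : (⟨compose e χ hval x, hx⟩ : T) = α.symm ⟨e' ⟨_, hR x⟩, apply_mem he' _⟩ :=
    Subtype.ext h1
  rw [h2, MulEquiv.apply_symm_apply]

open Cfsg.Agent.Lib.Fusion Cfsg.FusionSystem in
theorem forward {Ω : Type*} [Group Ω] {S T : Subgroup Ω}
    (F : Cfsg.FusionSystem S) (E : Cfsg.FusionSystem T) (hinv : E.IsInvariantIn F)
    {P Q : Subgroup Ω} (hPQ : P ≤ Q) (hQT : Q ≤ T) {φ : P →* Ω} (hφ : φ ∈ E.Hom P)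
    (hφQ : ∀ x : P, φ x ∈ Q) {ψ : Q →* Ω} (hψ : ψ ∈ F.Hom Q) :
    ∃ χ ∈ E.Hom ((P.subgroupOf Q).map ψ), ∀ (x : P)
      (hx : ψ (Subgroup.inclusion hPQ x) ∈ (P.subgroupOf Q).map ψ),
      χ ⟨ψ (Subgroup.inclusion hPQ x), hx⟩ = ψ ⟨φ x, hφQ x⟩ := by
  obtain ⟨hsub, hsc, h3, hfr⟩ := hinv
  obtain ⟨α, hα, ψ₀, hψ₀, he⟩ := hfr Q hQT ψ hψ
  set π := restr hPQ ψ₀
  have hπ : π ∈ E.Hom P := restr_mem E hψ₀ hPQ
  obtain ⟨ι, hι, hιr, hι1, -⟩ := exists_inv E hπ rfl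
  have hι' : ∀ y, ι y ∈ P := fun y => hιr.le ⟨y, rfl⟩
  let φ₁ := compose ι φ hι'
  have hφ₁ : φ₁ ∈ E.Hom π.range := compose_mem E hι hφ hι'
  have hφ₁Q : ∀ y, φ₁ y ∈ Q := fun y => hφQ _
  let φ' := compose φ₁ ψ₀ hφ₁Q
  have hφ' : φ' ∈ E.Hom π.range := compose_mem E hφ₁ hψ₀ hφ₁Q
  obtain ⟨χ, hχ, hχe⟩ := h3 π.range (source_le hφ') φ' hφ' α hα
  have himg : ∀ x : P, ψ (Subgroup.inclusion hPQ x) =
      ((α ⟨π x, apply_mem hπ x⟩ : T) : Ω) := fun x => he _ _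
  have hle : (P.subgroupOf Q).map ψ ≤ (π.range.subgroupOf T).map (T.subtype.comp α.toMonoidHom) := by
    rintro _ ⟨x, hx, rfl⟩
    refine ⟨⟨π ⟨x, hx⟩, apply_mem hπ _⟩, ⟨_, rfl⟩, ?_⟩
    exact (himg ⟨x, hx⟩).symm
  refine ⟨restr hle χ, restr_mem E hχ hle, fun x hx => ?_⟩
  have h1 := hχe ⟨π x, x, rfl⟩ (apply_mem hφ' _) (himg x ▸ hle hx)
  rw [he ⟨φ x, hφQ x⟩ (apply_mem hψ₀ _)]
  show χ ⟨_, _⟩ = _
  rw [show (⟨ψ (Subgroup.inclusion hPQ x), hle hx⟩ :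
      ↥((π.range.subgroupOf T).map (T.subtype.comp α.toMonoidHom))) =
      ⟨((α ⟨π x, apply_mem hπ x⟩ : T) : Ω), himg x ▸ hle hx⟩ from Subtype.ext (himg x)]
  refine h1.trans ?_
  have h4 : φ' ⟨π x, x, rfl⟩ = ψ₀ ⟨φ x, hφQ x⟩ := by
    show ψ₀ ⟨φ ⟨ι ⟨π x, _⟩, _⟩, _⟩ = _
    exact congrArg ψ₀ (Subtype.ext (congrArg φ (Subtype.ext (hι1 x ⟨x, rfl⟩))))
  simp only [h4]

open Cfsg.Agent.Lib.Fusion Cfsg.FusionSystem in
theorem backward {Ω : Type*} [Group Ω] {S T : Subgroup Ω} [Finite S] (p : ℕ) [Fact p.Prime]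
    (hS : IsPGroup p S) (F : Cfsg.FusionSystem S) (hF : F.IsSaturated p) (E : Cfsg.FusionSystem T)
    (hE : E.IsSubsystemOf F) (hT : F.StronglyClosed T)
    (hstr : ∀ (P Q : Subgroup Ω) (hPQ : P ≤ Q) (_ : Q ≤ T) (φ : P →* Ω) (_ : φ ∈ E.Hom P)
      (hφQ : ∀ x : P, φ x ∈ Q) (ψ : Q →* Ω) (_ : ψ ∈ F.Hom Q), ∃ χ ∈ E.Hom ((P.subgroupOf Q).map ψ),
      ∀ (x : P) (hx : ψ (Subgroup.inclusion hPQ x) ∈ (P.subgroupOf Q).map ψ),
        χ ⟨ψ (Subgroup.inclusion hPQ x), hx⟩ = ψ ⟨φ x, hφQ x⟩) : E.IsInvariantIn F := by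
  classical
  have hTS := hT.1
  have := finite_of_le hTS
  have hTp : IsPGroup p T := isPGroup_of_le hS hTS
  have h3 : ∀ (P : Subgroup Ω) (hPT : P ≤ T) (φ : P →* Ω), φ ∈ E.Hom P → ∀ α ∈ F.autGroup T,
      ∃ χ ∈ E.Hom ((P.subgroupOf T).map (T.subtype.comp α.toMonoidHom)),
        ∀ (x : P) (hφx : φ x ∈ T)
          (hαx : ((α ⟨x, hPT x.2⟩ : T) : Ω) ∈ (P.subgroupOf T).map (T.subtype.comp α.toMonoidHom)),
          χ ⟨(α ⟨x, hPT x.2⟩ : T), hαx⟩ = ((α ⟨φ x, hφx⟩ : T) : Ω) := by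
    intro P hPT φ hφ α hα
    obtain ⟨χ, hχ, hχe⟩ := hstr P T hPT le_rfl φ hφ (apply_mem hφ) (autHom α) (autHom_mem F hTS hα)
    exact ⟨χ, hχ, fun x hφx hαx => hχe x hαx⟩
  refine ⟨hE, hT, h3, ?_⟩
  have hcomp : ∀ {P R : Subgroup Ω} {φ : P →* Ω} {ψ : R →* Ω} (h : ∀ x, φ x ∈ R),
      Good F E P φ → Good F E R ψ → Good F E P (compose φ ψ h) := by
    rintro P R φ ψ h ⟨α, hα, e, he, hφe⟩ ⟨β, hβ, e', he', hψe⟩
    have hR : ∀ x : P, ((α ⟨e x, apply_mem he x⟩ : T) : Ω) ∈ R := fun x => hφe x _ ▸ h x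
    obtain ⟨e'', he'', hee⟩ := transport F E h3 e he hα he' hR
    refine ⟨β * α, Subgroup.mul_mem _ hβ hα, e'', he'', fun x hx => ?_⟩
    rw [compose_apply, hψe _ (apply_mem he' _), MulAut.mul_apply]
    congr 2
    refine Subtype.ext ?_
    rw [← hee x hx]
    exact congrArg e' (Subtype.ext (hφe x _))
  have hE' : ∀ {P : Subgroup Ω} {φ : P →* Ω}, φ ∈ E.Hom P → Good F E P φ := fun {P φ} hφ =>
    ⟨1, Subgroup.one_mem _, φ, hφ, fun x hx => rfl⟩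
  have hinvg : ∀ {P : Subgroup Ω} {φ : P →* Ω}, Good F E P φ →
      ∃ ψ : φ.range →* Ω, Good F E φ.range ψ ∧ ∀ (x : P) (hx : φ x ∈ φ.range), ψ ⟨φ x, hx⟩ = x := by
    rintro P φ ⟨α, hα, e, he, hφe⟩
    have hφT : φ.range ≤ T := by
      rintro _ ⟨x, rfl⟩
      rw [hφe x (apply_mem he x)]
      exact (α _).2
    obtain ⟨d, hd, -, hd1, -⟩ := exists_inv E he rfl
    let a : φ.range →* Ω := restr hφT (autHom α⁻¹)
    have ha : Good F E φ.range a :=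
      ⟨α⁻¹, Subgroup.inv_mem _ hα, φ.range.subtype, subtype_mem E hφT, fun x hx => rfl⟩
    have haR : ∀ y, a y ∈ e.range := by
      rintro ⟨_, x, rfl⟩
      refine ⟨x, ?_⟩
      show e x = ((α⁻¹ ⟨φ x, _⟩ : T) : Ω)
      simp [hφe x (apply_mem he x), MulAut.inv_apply]
    refine ⟨compose a d haR, hcomp haR ha (hE' hd), fun x hx => ?_⟩
    rw [compose_apply]
    have h5 : a ⟨φ x, hx⟩ = e x := by
      show ((α⁻¹ ⟨φ x, _⟩ : T) : Ω) = e x
      simp [hφe x (apply_mem he x), MulAut.inv_apply]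
    simp only [h5]
    exact hd1 x ⟨x, rfl⟩
  suffices key : ∀ (m : ℕ) (P : Subgroup Ω), P ≤ T → Nat.card T ≤ Nat.card P + m →
      ∀ φ ∈ F.Hom P, Good F E P φ from
    fun P hP φ hφ => key (Nat.card T) P hP (Nat.le_add_left _ _) φ hφ
  intro m
  induction m using Nat.strong_induction_on with | _ m ih => ?_
  intro P hP hm φ hφ
  have hφT : ∀ x, φ x ∈ T := hT.2 P hP φ hφ
  rcases hP.eq_or_lt with rfl | hlt
  · have hr : φ.range = P := eq_of_le_of_card (by rintro _ ⟨x, rfl⟩; exact hφT x)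
      (card_range_eq (F.injective_of_mem hφ)).ge
    refine ⟨isoOf φ (F.injective_of_mem hφ) hr, mem_autGroup_of_hom F ?_, P.subtype,
      subtype_mem E le_rfl, fun x hx => rfl⟩
    convert hφ using 1
    ext x
    rfl
  -- larger sources
  have hbig : ∀ (R : Subgroup Ω), R ≤ T → Nat.card P < Nat.card R → ∀ ψ ∈ F.Hom R, Good F E R ψ :=
    fun R hR hc ψ hψ => ih (Nat.card T - Nat.card R) (by have := Subgroup.card_le_of_le hR; omega) R hR
      (by omega) ψ hψ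
  have hN : ∀ R : Subgroup Ω, R ≤ T → R ≠ T → Nat.card R = Nat.card P →
      Nat.card P < Nat.card (normalizerIn T R) := fun R hR hRT hc => by
    have hlt' := lt_normalizerIn hTp (lt_of_le_of_ne hR hRT)
    have := finite_of_le (normalizerIn_le T R)
    rw [← hc]
    exact lt_of_le_of_ne (Subgroup.card_le_of_le hlt'.le)
      fun e => hlt'.ne (Subgroup.eq_of_le_of_card_ge hlt'.le e.ge)
  have hneT : ∀ R : Subgroup Ω, Nat.card R = Nat.card P → R ≠ T := fun R hc he => by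
    subst he
    exact hlt.ne (Subgroup.eq_of_le_of_card_ge hP hc.le)
  obtain ⟨Q, hPQ, hQn⟩ := exists_fullyNormalized F (hP.trans hTS)
  have hQT : Q ≤ T := by
    obtain ⟨χ, hχ, rfl⟩ := hPQ
    rintro _ ⟨x, rfl⟩
    exact hT.2 P hP χ hχ x
  have hQc : Nat.card Q = Nat.card P := (isConj_card hPQ).symm
  have hpi : ∀ R : Subgroup Ω, R ≤ T → F.IsConj R Q →
      ∃ π : R →* Ω, π ∈ F.Hom R ∧ π.range = Q ∧ Good F E R π := by
    intro R hR hRQ
    obtain ⟨ψ, hψ, -, himg⟩ := IsSaturated.exists_normalizer_map hS hF hQn hRQ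
    have hRc : Nat.card R = Nat.card P := (isConj_card hRQ).trans hQc
    have hle : normalizerIn T R ≤ normalizerIn S R := fun g hg => ⟨hTS hg.1, hg.2⟩
    have hg1 : Good F E (normalizerIn T R) (restr hle ψ) :=
      hbig _ (normalizerIn_le T R) (hN R hR (hneT R hRc) hRc) _ (restr_mem F hψ hle)
    obtain ⟨α, hα, e, he, hee⟩ := hg1
    refine ⟨restr (le_normalizerIn (hR.trans hTS)) ψ, restr_mem F hψ _,
      (range_restr _ ψ).trans himg, α, hα, restr (le_normalizerIn hR) e, restr_mem E he _,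
      fun x hx => hee ⟨x, le_normalizerIn hR x.2⟩ hx⟩
  obtain ⟨π, hπ, hπr, hπg⟩ := hpi P hP hPQ
  have hP'T : φ.range ≤ T := by
    rintro _ ⟨x, rfl⟩
    exact hφT x
  obtain ⟨π', hπ', hπ'r, hπ'g⟩ := hpi φ.range hP'T (isConj_trans (isConj_symm ⟨φ, hφ, rfl⟩) hPQ)
  obtain ⟨ι, hι, hιr, hι1, -⟩ := exists_inv F hπ hπr
  have hιP : ∀ y, ι y ∈ P := fun y => hιr.le ⟨y, rfl⟩
  let γ₀ := compose ι φ hιP
  let γ₁ := compose γ₀ π' fun y => ⟨_, rfl⟩
  have hγ₁ : γ₁ ∈ F.Hom Q := compose_mem F (compose_mem F hι hφ hιP) hπ' _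
  have := finite_of_le (hQT.trans hTS)
  have hγ₁r : γ₁.range = Q := by
    refine eq_of_le_of_card ?_ (card_range_eq (F.injective_of_mem hγ₁)).ge
    rintro _ ⟨y, rfl⟩
    exact hπ'r.le ⟨_, rfl⟩
  let γ : MulAut Q := isoOf γ₁ (F.injective_of_mem hγ₁) hγ₁r
  have hQS := hQT.trans hTS
  have hγ : γ ∈ F.autGroup Q := mem_autGroup_of_hom F (by
    convert hγ₁ using 1
    ext x
    rfl)
  -- the automorphisms of `Q` are good
  have := finite_mulAut hQS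
  let M : Subgroup (F.autGroup Q) := (E.autGroup Q).subgroupOf (F.autGroup Q)
  have hMn : M.Normal := by
    refine ⟨fun a ha c => ?_⟩
    obtain ⟨χ, hχ, hχe⟩ := hstr Q Q le_rfl hQT (autHom (a : MulAut Q)) (autHom_mem E hQT ha)
      (fun x => ((a : MulAut Q) x).2) (autHom (c : MulAut Q)) (autHom_mem F hQS c.2)
    have hle : Q ≤ (Q.subgroupOf Q).map (autHom (c : MulAut Q)) := fun y hy =>
      ⟨(c : MulAut Q).symm ⟨y, hy⟩, ((c : MulAut Q).symm ⟨y, hy⟩).2, by simp⟩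
    refine mem_autGroup_of_hom E ?_
    convert restr_mem E hχ hle using 1
    ext x
    have h1 := hχe ((c : MulAut Q).symm x) (by simpa using hle x.2)
    rw [restr_apply]
    refine Eq.trans h1.symm ?_
    congr 1
    exact Subtype.ext (congrArg (fun z : Q => (z : Ω)) ((c : MulAut Q).apply_symm_apply x))
  obtain ⟨hQa, hQr⟩ := IsSaturated.automized_receptive hS hF hQn
  obtain ⟨-, U, hU⟩ := hQa
  obtain ⟨V, hV⟩ := exists_sylow_subgroupOf_normal U M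
  have htop := Sylow.normalizer_sup_eq_top V
  have hmem : (⟨γ, hγ⟩ : F.autGroup Q) ∈
      ((Subgroup.normalizer (((V : Subgroup M).map M.subtype : Subgroup _) : Set (F.autGroup Q))) ⊔ M :
        Subgroup (F.autGroup Q)) := by
    rw [htop]; trivial
  rw [← SetLike.mem_coe, Subgroup.mul_normal] at hmem
  obtain ⟨n, hn, k, hk, hnk⟩ := hmem
  have hngood : Good F E Q (autHom (n : MulAut Q)) := by
    have hnF := autHom_mem F hQS n.2
    obtain ⟨ψ, hψ, hext, -⟩ := IsReceptive.extend hQr hnF (range_autHom _)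
    have hNT : normalizerIn T Q ≤ extender S Q (autHom (n : MulAut Q)) := by
      intro g hg
      have hgS : g ∈ S := hTS hg.1
      have hgM : (⟨conjAut hg.2, conjAut_mem_autGroup F hQS hgS hg.2⟩ : F.autGroup Q) ∈
          (V : Subgroup M).map M.subtype := by
        refine ⟨⟨_, show (⟨conjAut hg.2, conjAut_mem_autGroup F hQS hgS hg.2⟩ : F.autGroup Q) ∈ M
          from conjAut_mem_autGroup E hQT hg.1 hg.2⟩, ?_, rfl⟩
        rw [hV]
        show _ ∈ (U : Subgroup (F.autGroup Q))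
        rw [hU]
        exact mem_autInducedBy.2 ⟨g, hgS, fun _ => rfl⟩
      have h1 := (hn _).1 hgM
      obtain ⟨v, hv, hve⟩ := h1
      rw [hV] at hv
      have hv' : (v : F.autGroup Q) ∈ (U : Subgroup (F.autGroup Q)) := hv
      rw [hU] at hv'
      obtain ⟨h, hh, hhe⟩ := mem_autInducedBy.1 hv'
      refine mem_extender.2 ⟨hgS, hg.2, h, hh, fun x hx => ?_⟩
      have h2 := hhe ((n : MulAut Q) x)
      have e : (F.autGroup Q).subtype (v : F.autGroup Q) =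
        (n : MulAut Q) * conjAut hg.2 * (n : MulAut Q)⁻¹ := congrArg Subtype.val hve
      rw [e] at h2
      simp only [MulAut.mul_apply, MulAut.inv_apply, MulEquiv.symm_apply_apply] at h2
      exact h2
    obtain ⟨α, hα, e, he, hee⟩ := hbig _ (normalizerIn_le T Q) (hN Q hQT (hneT Q hQc) hQc) _
      (restr_mem F hψ hNT)
    refine ⟨α, hα, restr (le_normalizerIn hQT) e, restr_mem E he _, fun x hx => ?_⟩
    rw [← hext x x.2 (hNT (le_normalizerIn hQT x.2))]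
    exact hee ⟨x, le_normalizerIn hQT x.2⟩ hx
  have hγgood : Good F E Q γ₁ := by
    have h1 := hcomp (fun x => ((k : MulAut Q) x).2) (hE' (autHom_mem E hQT hk)) hngood
    convert h1 using 1
    ext x
    show ((γ x : Q) : Ω) = _
    rw [← show (n : MulAut Q) * (k : MulAut Q) = γ from congrArg Subtype.val hnk]
    rfl
  -- assemble
  obtain ⟨ψ', hψ'g, hψ'1⟩ := hinvg hπ'g
  have hγP : ∀ x : P, π x ∈ Q := fun x => hπr.le ⟨x, rfl⟩
  have h2 := hcomp hγP hπg hγgood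
  have hQ' : ∀ x : P, compose π γ₁ hγP x ∈ π'.range := fun x => ⟨_, rfl⟩
  have h3' := hcomp hQ' h2 hψ'g
  convert h3' using 1
  ext x
  rw [compose_apply]
  have e1 : compose π γ₁ hγP x = π' ⟨φ x, ⟨x, rfl⟩⟩ := by
    rw [compose_apply]
    show π' ⟨φ ⟨ι ⟨π x, _⟩, _⟩, _⟩ = _
    exact congrArg π' (Subtype.ext (congrArg φ (Subtype.ext (hι1 x _))))
  simp only [e1]
  exact (hψ'1 ⟨φ x, ⟨x, rfl⟩⟩ ⟨_, rfl⟩).symm

/-- Let F be a saturated fusion system over a finite p-group S and E a subsystem of F over a subgroup T that is strongly closed in F. Then E is invariant in F (invariance under Aut_F(T) plus the Frattini condition) if and only if the strong invariance condition holds: for P ≤ Q ≤ T, every map φ of E from P into Q and every map ψ of F with source Q, the transported map ψ φ ψ⁻¹ on ψ(P) is a map of E. -/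
theorem result {Ω : Type*} [Group Ω] {S : Subgroup Ω} [Finite S] (p : ℕ) [Fact p.Prime] (hS : IsPGroup p S) (F : Cfsg.FusionSystem S) (hF : F.IsSaturated p) {T : Subgroup Ω} (E : Cfsg.FusionSystem T) (hE : E.IsSubsystemOf F) (hT : F.StronglyClosed T) : E.IsInvariantIn F ↔ ∀ (P Q : Subgroup Ω) (hPQ : P ≤ Q) (_ : Q ≤ T) (φ : P →* Ω) (_ : φ ∈ E.Hom P) (hφQ : ∀ x : P, φ x ∈ Q) (ψ : Q →* Ω) (_ : ψ ∈ F.Hom Q), ∃ χ ∈ E.Hom ((P.subgroupOf Q).map ψ), ∀ (x : P) (hx : ψ (Subgroup.inclusion hPQ x) ∈ (P.subgroupOf Q).map ψ), χ ⟨ψ (Subgroup.inclusion hPQ x), hx⟩ = ψ ⟨φ x, hφQ x⟩ := by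
  exact ⟨fun h P Q hPQ hQT φ hφ hφQ ψ hψ => forward F E h hPQ hQT hφ hφQ hψ, fun h => backward p hS F hF E hE hT h⟩

end Cfsg.Agent.S5119
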