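import Cfsg.Statements.S5121
import Cfsg.Agent.Lib.Fusion.ModelNormalSub

set_option autoImplicit false
open Cfsg Cfsg.FusionSystem Cfsg.Agent.Lib.Fusion

namespace Cfsg.Agent.S5121

/-- Let G be a finite group with Sylow p-subgroup S and C_G(O_p(G)) ≤ O_p(G). For every subgroup T ≤ S and every normal subsystem E over T of the fusion system of G on S there is exactly one normal subgroup H of G containing T as a Sylow p-subgroup whose fusion system on T is E. -/
theorem result {G : Type*} [Group G] [Finite G] (p : ℕ) [Fact p.Prime] (S : Sylow p G) (hG : Subgroup.centralizer ((Cfsg.pCore p G : Subgroup G) : Set G) ≤ Cfsg.pCore p G) (T : Subgroup G) (hTS : T ≤ S) (E : Cfsg.FusionSystem T) (hE : E.IsNormalIn (Cfsg.groupFusionSystem (S : Subgroup G)) p) : ∃ H : Subgroup G, (∃ hTH : T ≤ H, H.Normal ∧ (∃ R : Sylow p H, (R : Subgroup H) = T.subgroupOf H) ∧ ∀ P : Subgroup G, E.Hom P = (Cfsg.fusionSystemOfSubgroup H T hTH).Hom P) ∧ ∀ H' : Subgroup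 G, (∃ hTH' : T ≤ H', H'.Normal ∧ (∃ R : Sylow p H', (R : Subgroup H') = T.subgroupOf H') ∧ ∀ P : Subgroup G, E.Hom P = (Cfsg.fusionSystemOfSubgroup H' T hTH').Hom P) → H' = H := by
  classical
  have d : NormalSubData p S T E := ⟨hG, hTS, hE⟩
  have hinv := hE.1.2.2
  have hEs := hE.1.1
  obtain ⟨H, hHn, hTH, hHK, hTi, hHY, hco, hmax⟩ := d.exists_kernel
  haveI := hHn
  have hRp : IsPGroup p (T.subgroupOf H) :=
    d.Tp.comap_of_injective H.subtype H.subtype_injective
  set R : Sylow p H := hRp.toSylow hTi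
  set D := fusionSystemOfSubgroup H T hTH with hD
  have hDs : D.IsSaturated p := fusionSystemOfSubgroup_isSaturated hTH R rfl
  have hDaut : ∀ P : Subgroup G, P ≤ T → ∀ α : MulAut P,
      α ∈ D.autGroup P ↔ α ∈ autInducedBy H P := by
    intro P hP α
    rw [mem_autGroup_iff D hP, mem_autInducedBy]
    exact ⟨fun ⟨_, _, g, hg, he⟩ => ⟨g, hg, he⟩,
      fun ⟨g, hg, he⟩ => ⟨hP, fun x => hP (α x).2, g, hg, he⟩⟩
  have htopE : E.autGroup T ≤ D.autGroup T := fun α hα =>
    (hDaut T le_rfl α).2 (d.autTop_le hTH hco hα)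
  have htopD : D.autGroup T ≤ E.autGroup T := by
    intro δ hδ
    obtain ⟨h, hh, hhe⟩ := mem_autInducedBy.1 ((hDaut T le_rfl δ).1 hδ)
    have hnc : ∀ β ∈ autInducedBy T d.U,
        (MulAut.conjNormal h : MulAut d.U) * β * (MulAut.conjNormal h : MulAut d.U)⁻¹ ∈
          autInducedBy T d.U := by
      intro β hβ
      obtain ⟨t, ht, he⟩ := mem_autInducedBy.1 hβ
      refine mem_autInducedBy.2 ⟨h * t * h⁻¹, hhe ⟨t, ht⟩ ▸ (δ ⟨t, ht⟩).2, fun x => ?_⟩
      rw [MulAut.mul_apply, MulAut.mul_apply, MulAut.conjNormal_apply, he,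
        MulAut.conjNormal_inv_apply]
      group
    obtain ⟨ψ, hψ, hext⟩ :=
      exists_extension_of_normalizes d.Tp hEs d.U_fullyNormalized (hHK hh).2 hnc
    have hN : T ≤ normalizerIn T d.U := fun t ht =>
      ⟨ht, mem_normalizer_of_finite fun u hu => d.U_conj t hu⟩
    have hψT : restr hN ψ ∈ E.Hom T := restr_mem E hψ hN
    have hr : (restr hN ψ).range = T := Subgroup.eq_of_le_of_card_ge (range_le hψT)
      (card_range_eq (E.injective_of_mem hψT)).ge
    have hγ : isoOf (restr hN ψ) (E.injective_of_mem hψT) hr ∈ E.autGroup T :=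
      mem_autGroup_of_hom E hψT
    obtain ⟨h', hh', hh'e⟩ := mem_autInducedBy.1 (d.autTop_le hTH hco hγ)
    have hz : h'⁻¹ * h ∈ H ⊓ d.Y := by
      refine ⟨H.mul_mem (H.inv_mem hh') hh,
        d.L.mul_mem (d.L.inv_mem (hHK hh').1) (hHK hh).1, fun u hu => ?_⟩
      have h1 : h' * u * h'⁻¹ = h * u * h⁻¹ := by
        rw [← show _ = h' * u * h'⁻¹ from hh'e ⟨u, d.U_le hu⟩, isoOf_coe]
        refine (hext u hu (hN (d.U_le hu))).trans ?_
        exact MulAut.conjNormal_apply h ⟨u, hu⟩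
      calc u * (h'⁻¹ * h) = h'⁻¹ * (h' * u * h'⁻¹) * h := by group
        _ = h'⁻¹ * h * u := by rw [h1]; group
    have hzT := hHY hz
    have e : δ = isoOf (restr hN ψ) (E.injective_of_mem hψT) hr *
        conjAut (Subgroup.le_normalizer hzT) := by
      refine MulEquiv.ext fun x => Subtype.ext ?_
      rw [MulAut.mul_apply, hh'e, conjAut_coe, hhe]
      group
    rw [e]
    exact mul_mem hγ (conjAut_mem_autGroup E le_rfl hzT _)
  have hDF : D.IsSubsystemOf (groupFusionSystem (S : Subgroup G)) :=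
    fun P φ ⟨hP, hφ, g, _, hg⟩ => ⟨hP.trans hTS, fun x => hTS (hφ x), g, hg⟩
  have hED : E ≤ D := le_of_normalized d.Tp hEs htopE fun P hP α hα β hβ => by
    obtain ⟨-, -, g, hg⟩ := hinv.1 _ (autHom_mem E hP hα)
    obtain ⟨h, hh, hhe⟩ := mem_autInducedBy.1 ((hDaut P hP β).1 hβ)
    refine (hDaut P hP _).2 (mem_autInducedBy.2 ⟨g * h * g⁻¹, hHn.conj_mem h hh g, fun x => ?_⟩)
    obtain ⟨y, rfl⟩ := α.surjective x
    have hy : ((α y : P) : G) = g * (y : G) * g⁻¹ := hg y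
    have hβy : ((α (β y) : P) : G) = g * ((β y : P) : G) * g⁻¹ := hg (β y)
    rw [MulAut.mul_apply, MulAut.mul_apply, MulAut.inv_apply, MulEquiv.symm_apply_apply, hβy, hy,
      hhe]
    group
  have hDE : D ≤ E := le_of_normalized d.Tp hDs htopD fun P hP α hα β hβ =>
    conj_mem_autGroup_of_invariant hinv hTS hP
      (mem_autGroup_of_hom _ (hDF _ (autHom_mem D hP hα))) hβ
  refine ⟨H, ⟨hTH, hHn, ⟨R, rfl⟩, fun P => Set.Subset.antisymm (hED P) (hDE P)⟩, ?_⟩
  rintro H' ⟨hTH', hHn', ⟨R', hR'⟩, hHom'⟩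
  haveI := hHn'
  have hH'K : H' ≤ d.K := by
    refine fun h hh => ⟨fun q hq => ⟨?_, (pCore p G).mul_mem (d.core_conj h hq)
      ((pCore p G).inv_mem hq)⟩, ?_⟩
    · obtain ⟨R'', hR''⟩ := exists_sylow_subgroupOf_normal S H'
      have hmem : h * q * h⁻¹ * q⁻¹ ∈ H' := by
        rw [show h * q * h⁻¹ * q⁻¹ = h * (q * h⁻¹ * q⁻¹) by group]
        exact H'.mul_mem hh (hHn'.conj_mem _ (H'.inv_mem hh) q)
      have hS : h * q * h⁻¹ * q⁻¹ ∈ (S : Subgroup G) :=
        (S : Subgroup G).mul_mem (d.core_le (d.core_conj h hq))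
          ((S : Subgroup G).inv_mem (d.core_le hq))
      have hle : T.subgroupOf H' ≤ (R'' : Subgroup H') := by
        rw [hR'']
        exact fun x hx => hTS hx
      have heq : (R'' : Subgroup H') = (R' : Subgroup H') :=
        R'.3 R''.2 (hR'.le.trans hle)
      have h1 : (⟨_, hmem⟩ : H') ∈ (R'' : Subgroup H') := by rw [hR'']; exact hS
      rw [heq, hR'] at h1
      exact h1
    · refine mem_autGroup_of_hom E ?_
      rw [hHom']
      exact ⟨d.U_le, fun x => d.U_le (MulAut.conjNormal h x : d.U).2, h, hh,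
        fun x => MulAut.conjNormal_apply h x⟩
  have hle : H' ≤ H := hmax H' hTH' hH'K (by rw [← hR']; exact R'.not_dvd_index)
  refine le_antisymm hle fun k hk => ?_
  obtain ⟨-, -, g, hg, hge⟩ :=
    (hHom' d.U).le (autHom_mem E d.U_le (hHK hk).2)
  have hz : g⁻¹ * k ∈ H ⊓ d.Y := by
    refine ⟨H.mul_mem (H.inv_mem (hle hg)) hk,
      d.L.mul_mem (d.L.inv_mem (hHK (hle hg)).1) (hHK hk).1, fun u hu => ?_⟩
    have h1 : k * u * k⁻¹ = g * u * g⁻¹ :=
      (MulAut.conjNormal_apply k ⟨u, hu⟩).symm.trans (hge ⟨u, hu⟩)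
    calc u * (g⁻¹ * k) = g⁻¹ * (g * u * g⁻¹) * k := by group
      _ = g⁻¹ * k * u := by rw [← h1]; group
  have := H'.mul_mem hg (hTH' (hHY hz))
  rwa [mul_inv_cancel_left] at this

end Cfsg.Agent.S5121
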