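import Cfsg.Statements.S5130
import Cfsg.Agent.Lib.Fusion.DirectFactors

set_option autoImplicit false
open Cfsg Cfsg.FusionSystem Cfsg.Agent.Lib.Fusion

namespace Cfsg.Agent.S5130

/-- Let F be a saturated fusion system over a finite p-group S that is the direct product of two subgroups S₁ and S₂, each strongly closed in F. Let R be the full subsystem of F over S₁ (all maps of F between subgroups of S₁) and R′ the subsystem over S₁ of those maps that extend to the subgroup generated with S₂ fixing S₂ elementwise. Then R and R′ are saturated, R′ is normal in F and in R, and R is weakly normal in F. -/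
theorem result {Ω : Type*} [Group Ω] {S : Subgroup Ω} [Finite S] (p : ℕ) [Fact p.Prime] (hS : IsPGroup p S) (F : Cfsg.FusionSystem S) (hF : F.IsSaturated p) (S₁ S₂ : Subgroup Ω) (hprod : Cfsg.IsInternalDirectProduct S₁ S₂ S) (h₁ : F.StronglyClosed S₁) (h₂ : F.StronglyClosed S₂) (R R' : Cfsg.FusionSystem S₁) (hR : ∀ P : Subgroup Ω, P ≤ S₁ → R.Hom P = F.Hom P) (hR' : ∀ P : Subgroup Ω, P ≤ S₁ → R'.Hom P = F.centralizerHom S₂ P) : R.IsSaturated p ∧ R'.IsSaturated p ∧ R'.IsNormalIn F p ∧ R'.IsNormalIn R p ∧ R.IsWeaklyNormalIn F p := by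
  obtain ⟨hS₁, hS₂, hcomm, -, hsup⟩ := hprod
  have hcomm' : ∀ a ∈ S₂, ∀ b ∈ S₁, a * b = b * a := fun a ha b hb => (hcomm b hb a ha).symm
  have hsup' : S₂ ⊔ S₁ = S := by rw [sup_comm, hsup]
  have := finite_of_le hS₁
  have := finite_of_le hS₂
  have hn₁ : S ≤ Subgroup.normalizer (S₁ : Set Ω) := by
    rw [← hsup]
    refine sup_le Subgroup.le_normalizer fun b hb => mem_normalizer_of_finite fun a ha => ?_
    rw [← hcomm a ha b hb, mul_inv_cancel_right]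
    exact ha
  have hn₂ : S ≤ Subgroup.normalizer (S₂ : Set Ω) := by
    rw [← hsup]
    refine sup_le (fun a ha => mem_normalizer_of_finite fun b hb => ?_) Subgroup.le_normalizer
    rw [hcomm a ha b hb, mul_inv_cancel_right]
    exact hb
  have hdec : ∀ g ∈ S, ∃ a ∈ S₁, ∃ b ∈ S₂, g = a * b := by
    intro g hg
    rw [← hsup] at hg
    have hg' : g ∈ ((S₁ ⊔ S₂ : Subgroup Ω) : Set Ω) := hg
    rw [Subgroup.coe_mul_of_left_le_normalizer_right _ _ (hS₁.trans hn₂)] at hg'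
    obtain ⟨a, ha, b, hb, rfl⟩ := hg'
    exact ⟨a, ha, b, hb, rfl⟩
  have hK : ∀ g ∈ S, ∃ a ∈ S₁, ∀ x ∈ S₁, g * x * g⁻¹ = a * x * a⁻¹ := by
    intro g hg
    obtain ⟨a, ha, b, hb, rfl⟩ := hdec g hg
    refine ⟨a, ha, fun x hx => ?_⟩
    rw [mul_inv_rev, mul_assoc a b x, ← hcomm x hx b hb]
    group
  have hRsat : R.IsSaturated p := DirectFactors.restrict_isSaturated hF hS₁ hK h₁ hR
  have hfc : F.IsFullyCentralized S₂ := by
    refine IsSaturated.fullyCentralized hS hF ⟨hS₂, fun Q _ => ?_⟩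
    rw [show normalizerIn S S₂ = S from inf_eq_left.2 hn₂]
    exact Subgroup.card_le_of_le (normalizerIn_le S Q)
  have hC₁ : S₁ ≤ centralizerIn S S₂ := fun a ha =>
    mem_centralizerIn.2 ⟨hS₁ ha, fun b hb => hcomm' b hb a ha⟩
  have := finite_of_le (centralizerIn_le S S₂)
  have hR'sat : R'.IsSaturated p := by
    refine DirectFactors.restrict_isSaturated
      (centralizerSystem_isSaturated hS hF hfc (centralizerSystem_spec F S₂ hS₂)) hC₁
      (fun g hg => hK g hg.1) ⟨hC₁, fun P hP φ hφ v => h₁.2 P hP φ hφ.1 v⟩ fun P hP => hR' P hP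
  -- equal automizers
  have hmem₁ : ∀ (P : Subgroup Ω) (φ : P →* Ω), φ ∈ R.Hom P → φ ∈ F.Hom P := fun P φ h => by
    rwa [hR P (source_le h)] at h
  have hmem' : ∀ (P : Subgroup Ω) (φ : P →* Ω), φ ∈ R'.Hom P → φ ∈ F.centralizerHom S₂ P :=
    fun P φ h => by rwa [hR' P (source_le h)] at h
  have hautR : R.autGroup S₁ = F.autGroup S₁ := by
    unfold FusionSystem.autGroup
    rw [hR S₁ le_rfl]
  -- invariance of `R'` under automorphisms of `S₁`
  have hconjR' : ∀ (P : Subgroup Ω) (hPT : P ≤ S₁) (φ : P →* Ω), φ ∈ R'.Hom P →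
      ∀ α ∈ F.autGroup S₁,
      ∃ χ ∈ R'.Hom ((P.subgroupOf S₁).map (S₁.subtype.comp α.toMonoidHom)),
        ∀ (x : P) (hφx : φ x ∈ S₁)
          (hαx : ((α ⟨x, hPT x.2⟩ : S₁) : Ω) ∈ (P.subgroupOf S₁).map (S₁.subtype.comp α.toMonoidHom)),
          χ ⟨(α ⟨x, hPT x.2⟩ : S₁), hαx⟩ = ((α ⟨φ x, hφx⟩ : S₁) : Ω) := by
    intro P hPT φ hφ α hα
    obtain ⟨hφF, hPC, hφC, Φ, hΦ, hΦe, hΦ2⟩ := hmem' P φ hφ
    obtain ⟨ψ, hψ, ψ', hψ', hψe, hr, hl⟩ :=
      DirectFactors.exists_extend_top hS hF h₁ h₂ hcomm hsup (autHom_mem F hS₁ hα)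
    set P' := (P.subgroupOf S₁).map (S₁.subtype.comp α.toMonoidHom) with hP'
    have hP'le : P' ≤ S₁ := by rintro _ ⟨v, -, rfl⟩; exact (α v).2
    have hsrc : P' ⊔ S₂ ≤ S := sup_le (hP'le.trans hS₁) hS₂
    have hψ'2 : ∀ v (hv : v ∈ S₂), ψ' ⟨v, hS₂ hv⟩ ∈ S₂ := fun v hv =>
      h₂.2 S₂ le_rfl (restr hS₂ ψ') (restr_mem F hψ' hS₂) ⟨v, hv⟩
    have hback : ∀ (x : P) (hαx : ((α ⟨x, hPT x.2⟩ : S₁) : Ω) ∈ S),
        ψ' ⟨(α ⟨x, hPT x.2⟩ : S₁), hαx⟩ = (x : Ω) := by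
      intro x hαx
      have e : ψ ⟨x, hS₁ (hPT x.2)⟩ = ((α ⟨x, hPT x.2⟩ : S₁) : Ω) := hψe _ (hPT x.2)
      simp only [← e]
      exact hl ⟨x, hS₁ (hPT x.2)⟩ _
    have hin : ∀ v, restr hsrc ψ' v ∈ P ⊔ S₂ := by
      refine DirectFactors.range_sup_le _ (fun v hv => ?_)
        (fun v hv => Subgroup.mem_sup_right (hψ'2 v hv))
      obtain ⟨⟨u, hu₁⟩, hu, rfl⟩ := hv
      refine Subgroup.mem_sup_left ?_
      show ψ' ⟨((α ⟨u, hu₁⟩ : S₁) : Ω), _⟩ ∈ P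
      exact (congrArg (· ∈ P) (hback ⟨u, hu⟩ (hS₁ (α ⟨u, hu₁⟩).2))).mpr hu
    have hin' : ∀ v, compose (restr hsrc ψ') Φ hin v ∈ S :=
      fun v => apply_mem hΦ _
    set X := compose (compose (restr hsrc ψ') Φ hin) ψ hin' with hX
    have hXm : X ∈ F.Hom (P' ⊔ S₂) :=
      compose_mem F (compose_mem F (restr_mem F hψ' hsrc) hΦ hin) hψ hin'
    have hXfix : ∀ v (hv : v ∈ S₂), X ⟨v, Subgroup.mem_sup_right hv⟩ = v := by
      intro v hv
      simp only [hX, compose_apply, restr_apply]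
      have e : Φ ⟨ψ' ⟨v, hS₂ hv⟩, Subgroup.mem_sup_right (hψ'2 v hv)⟩ = ψ' ⟨v, hS₂ hv⟩ :=
        hΦ2 ⟨_, hψ'2 v hv⟩
      simp only [e]
      exact hr ⟨v, hS₂ hv⟩ _
    have hχm : restr le_sup_left X ∈ F.Hom P' := restr_mem F hXm le_sup_left
    refine ⟨restr le_sup_left X, ?_, fun x hφx hαx => ?_⟩
    · rw [hR' P' hP'le]
      exact ⟨hχm, hP'le.trans hC₁, fun v => hC₁ (h₁.2 P' hP'le _ hχm v), X, hXm, fun v => rfl,
        fun v => hXfix v.1 v.2⟩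
    · simp only [hX, compose_apply, restr_apply, hback x]
      have e : Φ ⟨(x : Ω), Subgroup.mem_sup_left x.2⟩ = φ x := hΦe x
      simp only [e]
      exact hψe _ hφx
  have hfrat : ∀ (P : Subgroup Ω), P ≤ S₁ → ∀ (φ : P →* Ω), φ ∈ F.Hom P →
      ∃ α ∈ F.autGroup S₁, ∃ φ₀ ∈ R'.Hom P, ∀ (x : P) (hx : φ₀ x ∈ S₁),
        φ x = ((α ⟨φ₀ x, hx⟩ : S₁) : Ω) := by
    intro P hP φ hφ
    obtain ⟨Φ, hΦ, hΦe, hΦ2⟩ := DirectFactors.exists_extend_sup hS hF h₁ h₂ hcomm hP hφ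
    obtain ⟨γ, hγ, γ', hγ', hγe, hr, hl⟩ := DirectFactors.exists_extend_top hS hF h₂ h₁ hcomm' hsup'
      (restr_mem F hΦ (le_sup_right : S₂ ≤ P ⊔ S₂))
    have hαm : restr hS₁ γ ∈ F.Hom S₁ := restr_mem F hγ hS₁
    have hαr : (restr hS₁ γ).range = S₁ := by
      refine eq_of_le_of_card ?_ (card_range_eq (F.injective_of_mem hαm)).ge
      rintro _ ⟨v, rfl⟩
      exact h₁.2 S₁ le_rfl _ hαm v
    let α : MulAut S₁ := isoOf (restr hS₁ γ) (F.injective_of_mem hαm) hαr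
    refine ⟨α, mem_autGroup_of_hom F hαm, ?_⟩
    have hin : ∀ v, Φ v ∈ S := apply_mem hΦ
    have hXm : compose Φ γ' hin ∈ F.Hom (P ⊔ S₂) := compose_mem F hΦ hγ' hin
    have hχm : restr le_sup_left (compose Φ γ' hin) ∈ F.Hom P := restr_mem F hXm le_sup_left
    refine ⟨restr le_sup_left (compose Φ γ' hin), ?_, fun x hx => ?_⟩
    · rw [hR' P hP]
      refine ⟨hχm, hP.trans hC₁, fun v => hC₁ (h₁.2 P hP _ hχm v), _, hXm, fun v => rfl, fun v => ?_⟩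
      show γ' ⟨Φ ⟨(v : Ω), _⟩, _⟩ = (v : Ω)
      have e : γ ⟨(v : Ω), hS₂ v.2⟩ = Φ ⟨(v : Ω), Subgroup.mem_sup_right v.2⟩ := hγe v.1 v.2
      simp only [← e]
      exact hl ⟨(v : Ω), hS₂ v.2⟩ _
    · show φ x = γ ⟨γ' ⟨Φ ⟨(x : Ω), _⟩, _⟩, _⟩
      exact (hΦe x.1 x.2).symm.trans (hr ⟨_, hin _⟩ _).symm
  -- the extension condition
  have hz : ∀ (α : MulAut S₁) (c : S₁), (∀ t ∈ S₁, Commute (c : Ω) t) →
      (c : Ω)⁻¹ * ((α c : S₁) : Ω) ∈ S₁ ⊓ Subgroup.centralizer (S₁ : Set Ω) := by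
    intro α c hc
    refine ⟨mul_mem (S₁.inv_mem c.2) (α c).2, Subgroup.mem_centralizer_iff.2 fun t ht => ?_⟩
    have hc' : Commute ((α c : S₁) : Ω) t := by
      have e : c * α.symm ⟨t, ht⟩ = α.symm ⟨t, ht⟩ * c := Subtype.ext (hc _ (α.symm ⟨t, ht⟩).2).eq
      have := congrArg α e
      rw [map_mul, map_mul, MulEquiv.apply_symm_apply] at this
      exact congrArg Subtype.val this
    exact (((hc t ht).inv_left).mul_left hc').eq.symm
  have hR'F : R'.IsNormalIn F p := by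
    refine ⟨⟨hR'sat, hF, fun P φ h => (hmem' P φ h).1, h₁, hconjR', hfrat⟩, fun α hα => ?_⟩
    obtain ⟨hαF, -, -, Φ, hΦ, hΦe, hΦ2⟩ := hmem' S₁ _ (autHom_mem R' le_rfl hα)
    have htop : S₁ ⊔ centralizerIn S S₁ = S₁ ⊔ S₂ := by
      refine le_antisymm (sup_le le_sup_left ((centralizerIn_le S S₁).trans hsup.ge))
        (sup_le le_sup_left fun b hb => ?_)
      exact Subgroup.mem_sup_right (mem_centralizerIn.2 ⟨hS₂ hb, fun a ha => hcomm a ha b hb⟩)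
    have hm : restr htop.le Φ ∈ F.Hom (S₁ ⊔ centralizerIn S S₁) := restr_mem F hΦ htop.le
    have := finite_of_le (source_le hm)
    have hrng : (restr htop.le Φ).range = S₁ ⊔ centralizerIn S S₁ := by
      refine eq_of_le_of_card ((range_le hm).trans (htop.trans hsup).ge)
        (card_range_eq (F.injective_of_mem hm)).ge
    refine ⟨isoOf _ (F.injective_of_mem hm) hrng, mem_autGroup_of_hom F hm, fun x => hΦe x,
      fun c hc => ?_⟩
    obtain ⟨a, ha, b, hb, hab⟩ := hdec (c : Ω) hc.1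
    have hca : ∀ t ∈ S₁, Commute a t := fun t ht => by
      have h1 : Commute (c : Ω) t := ((mem_centralizerIn.1 hc).2 t ht).symm
      rw [hab] at h1
      have := h1.mul_left (show Commute b t from (hcomm t ht b hb).symm).inv_left
      rwa [mul_inv_cancel_right] at this
    have e : ((isoOf _ (F.injective_of_mem hm) hrng c : ↥(S₁ ⊔ centralizerIn S S₁)) : Ω) =
        ((α ⟨a, ha⟩ : S₁) : Ω) * b := by
      rw [isoOf_coe, restr_apply]
      have ec : (⟨(c : Ω), htop.le c.2⟩ : ↥(S₁ ⊔ S₂)) =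
          ⟨a, Subgroup.mem_sup_left ha⟩ * ⟨b, Subgroup.mem_sup_right hb⟩ := Subtype.ext hab
      rw [ec, map_mul]
      exact congrArg₂ (· * ·) (hΦe ⟨a, ha⟩) (hΦ2 ⟨b, hb⟩)
    rw [e, hab, mul_inv_rev, mul_assoc, ← mul_assoc a⁻¹,
      ← mul_assoc b⁻¹, ← hcomm _ (mul_mem (S₁.inv_mem ha) (α ⟨a, ha⟩).2) b⁻¹ (S₂.inv_mem hb),
      inv_mul_cancel_right]
    exact hz α ⟨a, ha⟩ hca
  refine ⟨hRsat, hR'sat, hR'F, ?_, ?_⟩
  · refine ⟨⟨hR'sat, hRsat, fun P φ h => ?_, ⟨le_rfl, fun P _ φ hφ v => apply_mem hφ v⟩, ?_, ?_⟩,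
      fun α hα => ?_⟩
    · rw [hR P (source_le h)]; exact (hmem' P φ h).1
    · rw [hautR]; exact hconjR'
    · intro P hP φ hφ
      rw [hautR]
      exact hfrat P hP φ (hmem₁ P φ hφ)
    · have htop : S₁ ⊔ centralizerIn S₁ S₁ = S₁ := sup_eq_left.2 (centralizerIn_le S₁ S₁)
      have hαR : autHom α ∈ R.Hom S₁ := by
        rw [hR S₁ le_rfl]; exact (hmem' S₁ _ (autHom_mem R' le_rfl hα)).1
      have hm : restr htop.le (autHom α) ∈ R.Hom (S₁ ⊔ centralizerIn S₁ S₁) := restr_mem R hαR htop.le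
      have := finite_of_le ((source_le hm).trans hS₁)
      have hrng : (restr htop.le (autHom α)).range = S₁ ⊔ centralizerIn S₁ S₁ :=
        eq_of_le_of_card ((range_le hm).trans htop.ge) (card_range_eq (R.injective_of_mem hm)).ge
      refine ⟨isoOf _ (R.injective_of_mem hm) hrng, mem_autGroup_of_hom R hm, fun x => rfl, fun c hc => ?_⟩
      exact hz α ⟨c, hc.1⟩ fun t ht => ((mem_centralizerIn.1 hc).2 t ht).symm
  · refine ⟨hRsat, hF, hmem₁, h₁, fun P hPT φ hφ α hα => ?_, fun P hP φ hφ => ?_⟩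
    · have hαm := autHom_mem F hS₁ hα
      have hαi : autHom α⁻¹ ∈ F.Hom S₁ := autHom_mem F hS₁ ((F.autGroup S₁).inv_mem hα)
      set P' := (P.subgroupOf S₁).map (S₁.subtype.comp α.toMonoidHom) with hP'
      have hP'le : P' ≤ S₁ := by rintro _ ⟨v, -, rfl⟩; exact (α v).2
      have hin : ∀ v, restr hP'le (autHom α⁻¹) v ∈ P := by
        rintro ⟨_, ⟨u, hu⟩, hu', rfl⟩
        show ((α⁻¹ ⟨((α ⟨u, hu⟩ : S₁) : Ω), _⟩ : S₁) : Ω) ∈ P
        exact (congrArg (· ∈ P) (congrArg Subtype.val (α.symm_apply_apply ⟨u, hu⟩))).mpr hu'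
      have hin' : ∀ v, compose (restr hP'le (autHom α⁻¹)) φ hin v ∈ S₁ := fun v => apply_mem hφ _
      refine ⟨compose (compose (restr hP'le (autHom α⁻¹)) φ hin) (autHom α) hin', ?_,
        fun x hφx hαx => ?_⟩
      · rw [hR P' hP'le]
        exact compose_mem F (compose_mem F (restr_mem F hαi hP'le) (hmem₁ P φ hφ) hin) hαm hin'
      · simp only [compose_apply, restr_apply, autHom_apply, Subtype.coe_eta, MulAut.inv_apply,
          MulEquiv.symm_apply_apply]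
    · refine ⟨1, one_mem _, φ, ?_, fun x hx => rfl⟩
      rw [hR P hP]
      exact hφ

end Cfsg.Agent.S5130
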