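import Cfsg.Statements.S5135
import Cfsg.Agent.Lib.Fusion.Factor
import Cfsg.Agent.Lib.Fusion.GroupSystem

set_option autoImplicit false
open Cfsg Cfsg.FusionSystem Cfsg.Agent.Lib.Fusion

namespace Cfsg.Agent.S5135

theorem exists_conj_into {G : Type*} [Group G] [Finite G] {p : ℕ} [Fact p.Prime] (S : Sylow p G)
    (H : Subgroup G) [H.Normal] {X : Subgroup G} (hX : X ≤ (S : Subgroup G) ⊔ H)
    (hp : IsPGroup p X) : ∃ h ∈ H, ∀ x ∈ X, h * x * h⁻¹ ∈ (S : Subgroup G) := by
  obtain ⟨T, hT⟩ := (hp.of_equiv (Subgroup.subgroupOfEquivOfLe hX).symm).exists_le_sylow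
  obtain ⟨⟨k, hk⟩, hkT⟩ := MulAction.exists_smul_eq ↥((S : Subgroup G) ⊔ H) T
    (S.subtype (le_sup_left : (S : Subgroup G) ≤ (S : Subgroup G) ⊔ H))
  obtain ⟨s, hs, n, hn, rfl⟩ := Subgroup.mem_sup_of_normal_right.1 hk
  refine ⟨n, hn, fun x hx => ?_⟩
  have h2 : (⟨s * n, hk⟩ : ↥((S : Subgroup G) ⊔ H)) * ⟨x, hX hx⟩ * (⟨s * n, hk⟩ : _)⁻¹ ∈
      (S.subtype (le_sup_left : (S : Subgroup G) ≤ (S : Subgroup G) ⊔ H) : Subgroup _) := by
    rw [← hkT, Sylow.coe_subgroup_smul]
    exact ⟨_, hT (show (⟨x, hX hx⟩ : ↥((S : Subgroup G) ⊔ H)) ∈ X.subgroupOf _ from hx), rfl⟩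
  have h3 : s * n * x * (s * n)⁻¹ ∈ (S : Subgroup G) := h2
  have h4 := (S : Subgroup G).mul_mem ((S : Subgroup G).mul_mem ((S : Subgroup G).inv_mem hs) h3) hs
  simpa [mul_assoc] using h4

/-- Let G be a finite group, S a Sylow p-subgroup and H a normal subgroup of G. Then the fusion system of G/H on the image SH/H of S is the factor system of the fusion system of G on S modulo S ∩ H, read through the quotient map restricted to S: for each subgroup P' of SH/H, the conjugation maps by elements of G/H defined on P' with values in SH/H are exactly the homomorphisms induced by the conjugation maps by elements of G defined on the full preimage of P' in S with values in S. -/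
theorem result {G : Type*} [Group G] [Finite G] (p : ℕ) [Fact p.Prime] (S : Sylow p G) (H : Subgroup G) [H.Normal] : (Cfsg.groupFusionSystem (S : Subgroup G)).IsFactorSystem ((S : Subgroup G) ⊓ H) ((QuotientGroup.mk' H).comp (S : Subgroup G).subtype) (Cfsg.groupFusionSystem ((S : Subgroup G).map (QuotientGroup.mk' H))) := by
  set θ := (QuotientGroup.mk' H).comp (S : Subgroup G).subtype
  have hker : ∀ s : (S : Subgroup G), θ s = 1 ↔ (s : G) ∈ (S : Subgroup G) ⊓ H := fun s =>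
    (QuotientGroup.eq_one_iff (s : G)).trans ⟨fun h => ⟨s.2, h⟩, fun h => h.2⟩
  have hr : θ.range = (S : Subgroup G).map (QuotientGroup.mk' H) := by
    rw [MonoidHom.range_comp, Subgroup.range_subtype]
  refine ⟨inf_le_left, hker, hr, fun P' φ' => ⟨?_, ?_⟩⟩
  · rintro ⟨hP', hv, γ, hγ⟩
    obtain ⟨g, rfl⟩ := QuotientGroup.mk_surjective γ
    set P := preimageAlong θ P'
    have hPS : P ≤ (S : Subgroup G) := preimage_le θ P'
    have hX : P.map (MulAut.conj g).toMonoidHom ≤ (S : Subgroup G) ⊔ H := by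
      rintro _ ⟨_, ⟨s, hs, rfl⟩, rfl⟩
      obtain ⟨t, ht, hte⟩ := hv ⟨θ s, hs⟩
      have h1 : (QuotientGroup.mk t : G ⧸ H) = QuotientGroup.mk (g * (s : G) * g⁻¹) :=
        hte.trans (hγ ⟨θ s, hs⟩)
      have := ((S : Subgroup G) ⊔ H).mul_mem (Subgroup.mem_sup_left ht)
        (Subgroup.mem_sup_right (QuotientGroup.eq.1 h1))
      rwa [mul_inv_cancel_left] at this
    obtain ⟨h, hh, hhS⟩ := exists_conj_into S H hX ((S.2.to_le hPS).map _)
    refine ⟨hP', conjHom P (h * g), ⟨hPS, fun x => ?_, h * g, fun x => rfl⟩, hPS, fun x => ?_,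
      fun x => (mem_preimage_iff (θ := θ) ⟨x, hPS x.2⟩).1 x.2, fun x => ?_⟩
    · have := hhS _ ⟨x, x.2, rfl⟩
      simpa [conjHom, mul_assoc] using this
    · have := hhS _ ⟨x, x.2, rfl⟩
      simpa [conjHom, mul_assoc] using this
    · rw [hγ]
      show QuotientGroup.mk' H g * QuotientGroup.mk' H (x : G) * (QuotientGroup.mk' H g)⁻¹ =
        QuotientGroup.mk' H ((h * g) * (x : G) * (h * g)⁻¹)
      have e : QuotientGroup.mk' H h = 1 := (QuotientGroup.eq_one_iff h).2 hh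
      simp only [map_mul, map_inv, e, one_mul]
  · rintro ⟨hP', φ, ⟨-, hv, g, hg⟩, hP, hφS, hm, h⟩
    have hval : ∀ y : P', ∃ x : preimageAlong θ P', θ ⟨x, hP x.2⟩ = y := by
      intro y
      obtain ⟨x, hx⟩ := hr.ge (hP' y.2)
      exact ⟨⟨x, (mem_preimage_iff x).2 (hx ▸ y.2)⟩, hx⟩
    refine ⟨hP', fun y => ?_, QuotientGroup.mk g, fun y => ?_⟩
    · obtain ⟨x, hx⟩ := hval y
      rw [show y = ⟨_, hm x⟩ from Subtype.ext hx.symm, h x, ← hr]
      exact ⟨_, rfl⟩
    · obtain ⟨x, hx⟩ := hval y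
      rw [show y = ⟨_, hm x⟩ from Subtype.ext hx.symm, h x]
      show QuotientGroup.mk' H (φ x) = QuotientGroup.mk' H g * QuotientGroup.mk' H (x : G) * (QuotientGroup.mk' H g)⁻¹
      rw [hg x, map_mul, map_mul, map_inv]

end Cfsg.Agent.S5135
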