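import Cfsg.Statements.S5139
import Cfsg.Agent.Lib.Fusion.PPowerIndex
import Cfsg.Agent.Lib.Fusion.Hyperfocal
import Cfsg.Agent.Lib.Fusion.Realized

set_option autoImplicit false
open Cfsg Cfsg.FusionSystem Cfsg.Agent.Lib.Fusion

namespace Cfsg.Agent.S5139

/-- Let G be a finite group with Sylow p-subgroup S and O^p(G) the subgroup generated by the elements of order prime to p. Then the p-residual subsystem of the fusion system of G on S — the saturated subsystem of p-power index over the hyperfocal subgroup — is the fusion system of O^p(G) on S ∩ O^p(G): its maps are exactly the conjugation maps by elements of O^p(G) between subgroups of S ∩ O^p(G). -/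
theorem result {G : Type*} [Group G] [Finite G] (p : ℕ) [Fact p.Prime] (S : Sylow p G) (E : Cfsg.FusionSystem ((Cfsg.groupFusionSystem (S : Subgroup G)).hyperfocalSubgroup p)) (hE : (Cfsg.groupFusionSystem (S : Subgroup G)).IsPResidual p E) : ∃ h : (S : Subgroup G) ⊓ Cfsg.pResidual p G ≤ Cfsg.pResidual p G, ∀ P : Subgroup G, E.Hom P = (Cfsg.fusionSystemOfSubgroup (Cfsg.pResidual p G) ((S : Subgroup G) ⊓ Cfsg.pResidual p G) h).Hom P := by
  classical
  refine ⟨inf_le_right, ?_⟩
  set F := Cfsg.groupFusionSystem (S : Subgroup G) with hFdef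
  set K := Cfsg.pResidual p G with hKdef
  set T := (S : Subgroup G) ⊓ K with hTdef
  have hh : F.hyperfocalSubgroup p = T := hyperfocal_group S
  have hKn : K.Normal := Cfsg.Agent.Lib.Transfer.pResidual_normal (G := G) (p := p)
  obtain ⟨R, hR⟩ := exists_sylow_subgroupOf_normal S K
  have hR' : (R : Subgroup K) = T.subgroupOf K := by rw [hR, hTdef, Subgroup.inf_subgroupOf_right]
  have hsat : (Cfsg.fusionSystemOfSubgroup K T inf_le_right).IsSaturated p :=
    fusionSystemOfSubgroup_isSaturated inf_le_right R hR'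
  have hTS : T ≤ (S : Subgroup G) := inf_le_left
  refine hom_eq_of_coprime (S.2.to_le (hh.le.trans hTS)) hh hE.1 hsat ?_ ?_
  · intro P hP α hα hc
    have hPT : P ≤ T := hP.trans hh.le
    have hPS : P ≤ (S : Subgroup G) := hPT.trans hTS
    have hαF : α ∈ F.autGroup P := autGroup_le_of_isSubsystemOf hE.2.1 P hα
    have hsurj : ∀ β : F.autGroup P, ∃ g : Subgroup.normalizer (P : Set G),
        P.normalizerMonoidHom g = (β : MulAut P) := by
      intro β
      obtain ⟨-, -, g, hg⟩ := autHom_mem F hPS β.2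
      refine ⟨⟨g, mem_normalizer_of_finite fun y hy => ?_⟩,
        MulEquiv.ext fun y => Subtype.ext (hg y).symm⟩
      rw [← hg ⟨y, hy⟩]
      exact ((β : MulAut P) ⟨y, hy⟩).2
    let f : Subgroup.normalizer (P : Set G) →* F.autGroup P :=
      P.normalizerMonoidHom.codRestrict _ fun g => mem_autGroup_of_hom F
        ⟨hPS, fun y => hPS (P.normalizerMonoidHom g y).2, g, fun _ => rfl⟩
    have hf : Function.Surjective f := fun β => by
      obtain ⟨g, hg⟩ := hsurj β
      exact ⟨g, Subtype.ext hg⟩
    have hmem : (⟨α, hαF⟩ : F.autGroup P) ∈ Cfsg.pResidual p (F.autGroup P) :=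
      Cfsg.Agent.Lib.Cores.mem_pResidual_of_coprime (by rwa [Subgroup.orderOf_mk])
    rw [← Cfsg.Agent.Lib.Transfer.pResidual_map_of_surjective f hf] at hmem
    obtain ⟨g, hg, hge⟩ := hmem
    have h1 : (g : G) ∈ K :=
      Cfsg.Agent.Lib.Transfer.map_pResidual_le (Subgroup.normalizer (P : Set G)).subtype ⟨g, hg, rfl⟩
    refine mem_autGroup_of_hom _ ⟨hPT, fun y => hPT (SetLike.coe_mem (α y)), g, h1, fun y => ?_⟩
    show ((α y : P) : G) = _
    have he : P.normalizerMonoidHom g = α := congrArg Subtype.val hge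
    rw [← he]
    rfl
  · intro P hP α hα hc
    refine hE.2.2.2 P hP (mem_map_pResidual_of_coprime _ ?_ hc)
    refine mem_autGroup_of_hom F ?_
    obtain ⟨hPT, hv, g, -, hg⟩ := autHom_mem _ (hP.trans hh.le) hα
    exact ⟨hPT.trans hTS, fun y => (hv y).1, g, hg⟩

end Cfsg.Agent.S5139
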