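import Cfsg.Statements.S5148
import Cfsg.Agent.Lib.Fusion.CenterFactor
import Cfsg.Agent.Lib.Fusion.Quotient
import Cfsg.Agent.Lib.Fusion.QuotientHyperfocal
import Cfsg.Agent.Lib.Fusion.Inner
import Cfsg.Agent.Lib.Fusion.Normal

set_option autoImplicit false
open Cfsg Cfsg.FusionSystem Cfsg.Agent.Lib.Fusion

namespace Cfsg.Agent.S5148

/-- A quasisimple fusion system over a finite p-group S (saturated, equal to its p-residual subsystem, with simple — in particular nontrivial — factor system modulo its centre) has S nonabelian. -/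
theorem result {Ω : Type*} [Group Ω] {S : Subgroup Ω} [Finite S] (p : ℕ) [Fact p.Prime] (hS : IsPGroup p S) (F : Cfsg.FusionSystem S) (hq : F.Quasisimple p) : ¬ IsMulCommutative S := by
  classical
  intro hab
  obtain ⟨hsat, hhyp, hfac⟩ := hq
  have hcentral := isCentral_center F
  set Z := F.center with hZdef
  have hZc := center_le_centralizer F
  have hZsc : F.StronglyClosed Z := by
    refine ⟨hcentral.1, fun R hR φ hφ x => ?_⟩
    obtain ⟨ψ, -, hψ, hψZ⟩ := hcentral.2 R φ hφ
    rw [← hψ x, show Subgroup.inclusion le_sup_left x =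
      Subgroup.inclusion (le_sup_right : Z ≤ R ⊔ Z) ⟨x, hR x.2⟩ from Subtype.ext rfl, hψZ]
    exact hR x.2
  set θ := QuotientGroup.mk' (Z.subgroupOf S) with hθ
  have hker : ∀ s : S, θ s = 1 ↔ (s : Ω) ∈ Z := fun s =>
    (QuotientGroup.eq_one_iff s).trans Subgroup.mem_subgroupOf
  have hr : θ.range = ⊤ := MonoidHom.range_eq_top.2 (QuotientGroup.mk'_surjective _)
  let E := factorSystem F hZsc θ hker hr
  have hE : F.IsFactorSystem Z θ E := factorSystem_spec hZsc hker hr
  have hsimple := hfac E hE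
  have hEp : IsPGroup p (⊤ : Subgroup (↥S ⧸ Z.subgroupOf S)) :=
    (hS.to_quotient _).to_subgroup ⊤
  have hEab : ∀ x ∈ (⊤ : Subgroup (↥S ⧸ Z.subgroupOf S)), ∀ y ∈ (⊤ : Subgroup (↥S ⧸ Z.subgroupOf S)),
      x * y = y * x := by
    intro x _ y _
    obtain ⟨a, rfl⟩ := QuotientGroup.mk'_surjective _ x
    obtain ⟨b, rfl⟩ := QuotientGroup.mk'_surjective _ y
    rw [← map_mul, ← map_mul, hab.is_comm.comm a b]
  obtain ⟨-, hinner⟩ := (isSimple_abelian_iff hEp hsimple.1 hEab).1 hsimple
  have hbot : E.hyperfocalSubgroup p = ⊥ := by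
    rw [eq_bot_iff]
    refine (Subgroup.closure_le _).2 ?_
    rintro _ ⟨P, α, x, hP, -, rfl⟩
    have h := autHom_mem E hP α.2
    rw [hinner P] at h
    obtain ⟨-, g, hg, hge⟩ := h
    have h2 := hge x
    simp only [autHom_apply] at h2
    rw [SetLike.mem_coe, Subgroup.mem_bot, h2, hEab g hg x (Subgroup.mem_top _), mul_inv_cancel_right,
      inv_mul_cancel]
  have h := hyperfocal_factor hS hsat hZsc hE
  rw [hbot, hhyp, Subgroup.subgroupOf_self, Subgroup.map_top_of_surjective _
    (QuotientGroup.mk'_surjective _)] at h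
  exact hsimple.2.1 h.symm

end Cfsg.Agent.S5148
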