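import Cfsg.Statements.S5156
import Cfsg.Agent.Lib.Fusion.ResidualSeries

set_option autoImplicit false
universe u
open Cfsg

namespace Cfsg.Agent.S5156

/-- A saturated fusion system over a finite p-group has a terminating alternating chain of p'-residual and p-residual subsystems (the chain reaches the trivial system — the notion of solvability adapted to fusion systems of p-solvable groups) if and only if it is constrained and its models are p-solvable (a model is a finite group realizing the system on a Sylow p-subgroup with self-centralizing largest normal p-subgroup; it exists and is unique up to isomorphism for constrained systems). -/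
theorem result {Ω : Type u} [Group Ω] {S : Subgroup Ω} [Finite S] (p : ℕ) [Fact p.Prime] (hS : IsPGroup p S) (F : Cfsg.FusionSystem S) (hF : F.IsSaturated p) : F.HasTerminatingResidualSeries p ↔ (F.IsConstrained p ∧ ∀ (G : Type u) [Group G] (ι : S →* G), F.IsModel p G ι → Cfsg.IsPSolvable p G) := by
  open Cfsg.Agent.Lib.Fusion Cfsg.Agent.Lib.Fusion.ResidualSeries in
  constructor
  · intro h
    have hg := good_of_series h inferInstance hS hF
    refine ⟨isConstrained_of_solvable hS hF (solvable_of_chain hS hF hg.1.hasSolvChain), ?_⟩
    intro G _ ι hm
    haveI : Finite G := hm.1
    exact model_psolv hm hg.2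
  · rintro ⟨hC, hM⟩
    obtain ⟨G, _, ι, hm⟩ := exists_model hS hC
    haveI : Finite G := hm.1
    have hG := hM G ι hm
    exact series_of_good hS F hF
      ⟨chain_of_realized hS hm.2.1 hG, fun P hP => aut_of_realized hm.2.1 hG hP⟩

end Cfsg.Agent.S5156
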