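import Cfsg.Statements.S5160
import Cfsg.Agent.Lib.Fusion.Subsystem
import Cfsg.Agent.Lib.Fusion.GroupSystem

set_option autoImplicit false
open Cfsg Cfsg.FusionSystem Cfsg.Agent.Lib.Fusion

namespace Cfsg.Agent.S5160

/-- Let G be a finite group with nontrivial Sylow p-subgroup S and F its fusion system on S. Suppose (a) no nontrivial proper subgroup of S is strongly closed in F, and (b) the automorphisms of S induced by G are generated by those induced, for R running over the fully normalized radical centric subgroups of F, by the subgroup of N_G(R) generated by its elements of p-power order. Then F is simple. -/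
theorem result {G : Type*} [Group G] [Finite G] (p : ℕ) [Fact p.Prime] (S : Sylow p G) (hS1 : (S : Subgroup G) ≠ ⊥) (ha : ∀ T : Subgroup G, (Cfsg.groupFusionSystem (S : Subgroup G)).StronglyClosed T → T = ⊥ ∨ T = (S : Subgroup G)) (hb : Cfsg.autInducedBy ⊤ (S : Subgroup G) = ⨆ (R : Subgroup G) (_ : (Cfsg.groupFusionSystem (S : Subgroup G)).IsFullyNormalized R ∧ (Cfsg.groupFusionSystem (S : Subgroup G)).IsRadical p R ∧ (Cfsg.groupFusionSystem (S : Subgroup G)).IsCentric R), Cfsg.autInducedBy (Subgroup.closure {g : G | g ∈ Subgroup.normalizer (R : Set G) ∧ ∃ k : ℕ, orderOf g = p ^ k}) (S : Subgroup G)) : (Cfsg.groupFusionSystem (S : Subgroup G)).IsSimple p := by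
  refine ⟨group_isSaturated S, hS1, fun T E hE => ?_⟩
  rcases ha T hE.1.2.2.2.1 with h | h
  · exact Or.inl h
  subst h
  obtain ⟨hEs, hFs, hinv⟩ := hE.1
  refine Or.inr ⟨rfl, fun P => Set.Subset.antisymm (hinv.1 P) (le_of_frattini hinv ?_ P)⟩
  rw [autGroup_group le_rfl, hb]
  refine iSup₂_le fun R hR => (Subgroup.closure_le _).2 ?_
  rintro α ⟨g, hg, hgα⟩
  obtain ⟨hRn, hRr, hRc⟩ := hR
  have hpow : ∀ h : G, ∀ hN : h ∈ Subgroup.normalizer (R : Set G), (∃ k : ℕ, orderOf h = p ^ k) →
      conjAut hN ∈ E.autGroup R := by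
    rintro h hN ⟨k, hk⟩
    obtain ⟨j, -, hj⟩ := (Nat.dvd_prime_pow (Fact.out : p.Prime)).1
      ((orderOf_map_dvd R.normalizerMonoidHom (⟨h, hN⟩ : Subgroup.normalizer (R : Set G))).trans
        ((Subgroup.orderOf_mk h hN).trans hk).dvd)
    refine IsInvariantIn.mem_of_pow S.2 hFs hinv hRn ?_ hj
    rw [autGroup_group hRn.1]
    exact conjAut_mem_autInducedBy (K := ⊤) trivial hN
  have hgR : ∃ hN : g ∈ Subgroup.normalizer (R : Set G), conjAut hN ∈ E.autGroup R := by
    clear hgα
    induction hg using Subgroup.closure_induction with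
    | mem x hx => exact ⟨hx.1, hpow x hx.1 hx.2⟩
    | one => exact ⟨one_mem _, by
        convert Subgroup.one_mem _
        ext x
        simp⟩
    | mul a b _ _ ha hb =>
      obtain ⟨ha1, ha2⟩ := ha
      obtain ⟨hb1, hb2⟩ := hb
      exact ⟨mul_mem ha1 hb1, by
        convert Subgroup.mul_mem _ ha2 hb2 using 1
        ext x
        simp [mul_assoc]⟩
    | inv a _ ha =>
      obtain ⟨ha1, ha2⟩ := ha
      refine ⟨inv_mem ha1, ?_⟩
      convert Subgroup.inv_mem _ ha2 using 1
      exact map_inv R.normalizerMonoidHom ⟨a, ha1⟩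
  obtain ⟨hgN, hgE⟩ := hgR
  have hαF : autHom α ∈ (Cfsg.groupFusionSystem (S : Subgroup G)).Hom (S : Subgroup G) :=
    ⟨le_rfl, fun x => (α x).2, g, hgα⟩
  refine mem_autGroup_of_hom E (mem_of_restr_mem S.2 hFs hEs hinv.1 hRn.1 hRc hαF ?_)
  have e : restr hRn.1 (autHom α) = autHom (conjAut hgN) := MonoidHom.ext fun x => hgα ⟨x, hRn.1 x.2⟩
  rw [e]
  exact autHom_mem E hRn.1 hgE

end Cfsg.Agent.S5160
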