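import Cfsg.Statements.S5163
import Cfsg.Agent.Lib.Solvable.Nilpotent
import Cfsg.Agent.Lib.Fusion.SimpleCriterion
import Cfsg.Agent.Lib.Fusion.PSLBorel

set_option autoImplicit false
open Cfsg Cfsg.FusionSystem Cfsg.Agent.Lib.Fusion

namespace Cfsg.Agent.S5163

open Matrix Cfsg.Agent.Lib.Classical Cfsg.Agent.Lib.Classical.AutPSL Cfsg.Agent.Lib.Fusion.PSLBorel

theorem result' {K : Type*} [Field K] [Fintype K] (p : ℕ) [Fact p.Prime] [CharP K p] (n : ℕ)
    (hn : 3 ≤ n) (S : Sylow p (Matrix.ProjectiveSpecialLinearGroup (Fin n) K)) :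
    (Cfsg.groupFusionSystem (S : Subgroup (Matrix.ProjectiveSpecialLinearGroup (Fin n) K))).IsSimple p := by
  classical
  have hn1 : 1 ≤ n := by omega
  have hn2 : 2 ≤ n := by omega
  set P := Matrix.ProjectiveSpecialLinearGroup (Fin n) K
  set f := fstIdx hn2 with hf
  set l := lastIdx hn2 with hl
  have hfl : f < l := Fin.lt_def.2 (show 0 < n - 1 by omega)
  obtain ⟨k₀, hk₀⟩ := IsPGroup.iff_card.mp (isPGroup_upperUni (n := n) (F := K) p)
  have hthird : ∀ a b : Fin n, ∃ c : Fin n, c ≠ a ∧ c ≠ b := by
    intro a b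
    by_contra hcon
    push Not at hcon
    have h1 : (Finset.univ : Finset (Fin n)) ⊆ {a, b} := fun c _ => by
      rcases eq_or_ne c a with h | h
      · simp [h]
      · simp [hcon c h]
    have h2 := Finset.card_le_card h1
    have h3 := Finset.card_le_two (a := a) (b := b)
    simp only [Finset.card_univ, Fintype.card_fin] at h2
    omega
  refine isSimple_of_criterion' (uniSylow (n := n) (F := K) p hn1) ?_ ?_ ?_ S <;> rw [coe_uniSylow]
  · intro h0
    have h1 : proj (et f l hfl.ne (1 : K)) ∈ U' n K :=
      Subgroup.mem_map_of_mem proj (et_mem_upperUni hfl 1)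
    rw [show U' n K = ⊥ from h0, Subgroup.mem_bot, proj_eq_one] at h1
    have h2 := eq_one_of_uni_center (et_mem_upperUni hfl 1) h1
    exact one_ne_zero (et_injective hfl.ne (h2.trans (tvs_zero _).symm) : (1 : K) = 0)
  · -- no closed subgroups
    intro T hTU hT0 hc
    haveI : Finite (U' n K) := inferInstance
    have hUp : IsPGroup p (U' n K) := (isPGroup_upperUni (n := n) (F := K) p).map proj
    haveI := hUp.isNilpotent
    haveI : (T.subgroupOf (U' n K)).Normal := ⟨fun x hx g => hc _ hx _ (g * x * g⁻¹).2⟩
    have hne : T.subgroupOf (U' n K) ≠ ⊥ := fun e => hT0 (by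
      rw [Subgroup.eq_bot_iff_forall] at e ⊢
      exact fun x hx => congrArg Subtype.val (e ⟨x, hTU hx⟩ hx))
    obtain ⟨⟨⟨_, u, hu, rfl⟩, hmem⟩, hne1⟩ : ∃ z : ↥(T.subgroupOf (U' n K) ⊓ Subgroup.center _), z ≠ 1 := by
      by_contra hcon
      push Not at hcon
      exact Cfsg.Agent.Lib.Solvable.inf_center_ne_bot hne
        ((Subgroup.eq_bot_iff_forall _).2 fun z hz => congrArg Subtype.val (hcon ⟨z, hz⟩))
    obtain ⟨huT, huc⟩ := hmem
    have hucomm : ∀ t ∈ upperUni n K, u * t = t * u := by
      intro t ht
      have h1 := Subgroup.mem_center_iff.1 huc ⟨proj t, Subgroup.mem_map_of_mem proj ht⟩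
      have h2 : proj (u * t) = proj (t * u) := by
        rw [map_mul, map_mul]
        exact (congrArg Subtype.val h1).symm
      exact inv_mul_eq_one.mp (eq_one_of_uni_center
        (mul_mem (inv_mem (mul_mem hu ht)) (mul_mem ht hu)) (QuotientGroup.eq.mp h2))
    have hue := center_upperUni hn2 hu hucomm
    set c₀ := (u : Matrix (Fin n) (Fin n) K) f l with hc₀
    have hc₀0 : c₀ ≠ 0 := by
      intro h0
      rw [h0] at hue
      exact hne1 (Subtype.ext (Subtype.ext (by
        show proj u = 1
        rw [hue, et, tvs_zero, map_one])))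
    have hmove : ∀ (i j : Fin n) (hij : i < j) (d : K), proj (et i j hij.ne d) ∈ T := by
      intro i j hij d
      rcases eq_or_ne d 0 with rfl | hd
      · rw [et, tvs_zero, map_one]
        exact T.one_mem
      obtain ⟨g, hg⟩ := exists_gl_conj_et (F := K) hn2 hij.ne
      obtain ⟨k, hki, hkj⟩ := hthird i j
      set D : K := (g : Matrix (Fin n) (Fin n) K).det with hD
      have hD0 : D ≠ 0 := ((Matrix.isUnit_iff_isUnit_det _).1 g.isUnit).ne_zero
      let δ : Fin n → K := Pi.mulSingle k D⁻¹
      let s : Matrix.SpecialLinearGroup (Fin n) K :=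
        ⟨Matrix.diagonal δ * (g : Matrix (Fin n) (Fin n) K), by
          rw [Matrix.det_mul, Matrix.det_diagonal, ← hD]
          simp [δ, Finset.prod_pi_mulSingle', hD0]⟩
      have hse : s * et f l hfl.ne c₀ * s⁻¹ = et i j hij.ne c₀ := by
        rw [mul_inv_eq_iff_eq_mul]
        refine sl_ext ?_
        have h1 := congrArg (fun M : Matrix.SpecialLinearGroup (Fin n) K =>
          (M : Matrix (Fin n) (Fin n) K)) (hg c₀)
        simp only [conjSL_coe] at h1
        have h2 : (g : Matrix (Fin n) (Fin n) K) * (et f l hfl.ne c₀ : Matrix (Fin n) (Fin n) K) =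
            (et i j hij.ne c₀ : Matrix (Fin n) (Fin n) K) * (g : Matrix (Fin n) (Fin n) K) := by
          rw [← h1, mul_assoc, mul_assoc, ← Units.val_mul, inv_mul_cancel, Units.val_one, mul_one]
        rw [Matrix.SpecialLinearGroup.coe_mul, Matrix.SpecialLinearGroup.coe_mul]
        show Matrix.diagonal δ * _ * _ = _ * (Matrix.diagonal δ * _)
        rw [mul_assoc, h2, ← mul_assoc, ← mul_assoc]
        congr 1
        rw [et_coe, mul_add, add_mul, one_mul, mul_one, add_right_inj]
        ext a b
        rw [Matrix.diagonal_mul, Matrix.mul_diagonal, Matrix.single_apply]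
        split_ifs with hab
        · obtain ⟨rfl, rfl⟩ := hab
          simp [δ, hki.symm, hkj.symm]
        · simp
      have h1 : proj (et i j hij.ne c₀) ∈ T := by
        have h2 := hc (proj u) huT (proj s) (by
          rw [← map_inv, ← map_mul, ← map_mul, hue, hse]
          exact Subgroup.mem_map_of_mem proj (et_mem_upperUni hij c₀))
        rwa [← map_inv, ← map_mul, ← map_mul, hue, hse] at h2
      let a : Kˣ := Units.mk0 (d / c₀) (div_ne_zero hd hc₀0)
      let e : Fin n → Kˣ := Pi.mulSingle i a * Pi.mulSingle k a⁻¹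
      have he : ∏ x, e x = 1 := by
        simp [e, Finset.prod_mul_distrib, Finset.prod_pi_mulSingle']
      have hcd : dgSL e he * et i j hij.ne c₀ * (dgSL e he)⁻¹ = et i j hij.ne d := by
        rw [conj_dgSL]
        congr 1
        simp [e, a, hki.symm, hkj.symm, hij.ne']
        field_simp
      have h2 := hc _ h1 (proj (dgSL e he)) (by
        rw [← map_inv, ← map_mul, ← map_mul, hcd]
        exact Subgroup.mem_map_of_mem proj (et_mem_upperUni hij d))
      rwa [← map_inv, ← map_mul, ← map_mul, hcd] at h2
    refine le_antisymm hTU ?_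
    rintro _ ⟨v, hv, rfl⟩
    exact upperUni_le (H := T.comap proj) hmove hv
  · -- the normalizer
    let e₁ : Fin n → K := Pi.single f 1
    let e₂ : Fin n → K := Pi.single l 1
    have hetp : ∀ (i j : Fin n) (hij : i ≠ j) (c : K) , proj (et i j hij c) ^ p ^ 1 = 1 := by
      intro i j hij c
      rw [pow_one, ← map_pow, et, tvs_pow_char, map_one]
    -- normalizer membership
    have hnorm : ∀ (Q : Subgroup (Matrix.SpecialLinearGroup (Fin n) K)) (s : Matrix.SpecialLinearGroup (Fin n) K),
        (∀ q ∈ Q, s * q * s⁻¹ ∈ Q) → proj s ∈ Subgroup.normalizer ((Q.map proj : Subgroup P) : Set P) :=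
      fun Q s h => mem_normalizer_of_finite fun x ⟨q, hq, e⟩ => by
        subst e
        rw [← map_inv, ← map_mul, ← map_mul]
        exact Subgroup.mem_map_of_mem proj (h q hq)
    have hUrow : ∀ s ∈ upperUni n K, (s : Matrix (Fin n) (Fin n) K) *ᵥ e₁ = (1 : K) • e₁ := by
      intro s hs
      funext a
      simp only [e₁, Matrix.mulVec_single_one, one_smul, Matrix.col_apply]
      rw [hs a f (Fin.le_def.2 (Nat.zero_le _))]
      simp [Pi.single_apply]
    have hUcol : ∀ s ∈ upperUni n K, e₂ ᵥ* ((s⁻¹ : Matrix.SpecialLinearGroup (Fin n) K) : Matrix (Fin n) (Fin n) K) = (1 : K) • e₂ := by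
      intro s hs
      funext a
      simp only [e₂, Matrix.single_one_vecMul, one_smul, Matrix.row_apply]
      rw [inv_mem hs l a (Fin.le_def.2 (show (a : ℕ) ≤ n - 1 by omega))]
      simp [Pi.single_apply, eq_comm]
    have hrow : ∀ (b : Fin n) (c : K) (hb : f ≠ b), et f b hb c ∈ rowSub e₁ := fun b c hb =>
      ⟨c • Pi.single b 1, by simp [e₁, hb, hb.symm], by
        rw [et]
        refine tvs_congr ?_
        rw [one_smul, vecMulVec_smul]⟩
    have hcol : ∀ (a : Fin n) (c : K) (ha : a ≠ l), et a l ha c ∈ colSub e₂ := fun a c ha =>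
      ⟨c • Pi.single a 1, by simp [e₂, ha, ha.symm], by
        rw [et]
        refine tvs_congr ?_
        rw [one_smul, smul_vecMulVec]⟩
    have hrowU : rowSub e₁ ≤ upperUni n K := by
      rintro _ ⟨a, ha, rfl⟩ x y hyx
      rw [tvs_coe, one_smul, Matrix.add_apply, Matrix.one_apply, vecMulVec_apply]
      rcases eq_or_ne x f with rfl | hxf
      · have : y = f := le_antisymm hyx (Fin.le_def.2 (Nat.zero_le _))
        subst this
        have : a f = 0 := by simpa [e₁] using ha
        simp [this]
      · simp [e₁, hxf]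
    have hcolU : colSub e₂ ≤ upperUni n K := by
      rintro _ ⟨v, hv, rfl⟩ x y hyx
      rw [tvs_coe, one_smul, Matrix.add_apply, Matrix.one_apply, vecMulVec_apply]
      rcases eq_or_ne y l with rfl | hyl
      · have : x = l := le_antisymm (Fin.le_def.2 (show (x : ℕ) ≤ n - 1 by omega)) hyx
        subst this
        have : v l = 0 := by simpa [e₂] using hv
        simp [this]
      · simp [e₂, hyl]
    have hcentQ : ∀ (Q : Subgroup (Matrix.SpecialLinearGroup (Fin n) K)) (x : P) (i j : Fin n) (hij : i ≠ j),
        et i j hij (1 : K) ∈ Q → x ∈ Subgroup.centralizer ((Q.map proj : Subgroup P) : Set P) →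
        ∀ s, proj s = x → ∀ a b : Fin n,
          ((s : Matrix (Fin n) (Fin n) K) * Matrix.single i j (1 : K)) a b = (Matrix.single i j (1 : K) * (s : Matrix (Fin n) (Fin n) K)) a b := by
      intro Q x i j hij hQ hx s hs a b
      subst hs
      have h1 := commute_of_proj p (q := et i j hij 1) (by rw [et]; exact tvs_pow_char p _ _)
        (hx (proj (et i j hij 1)) (Subgroup.mem_map_of_mem proj hQ)).symm
      have h2 := congrArg (fun M : Matrix.SpecialLinearGroup (Fin n) K => (M : Matrix (Fin n) (Fin n) K)) h1
      simp only [Matrix.SpecialLinearGroup.coe_mul, et_coe, mul_add, add_mul, mul_one, one_mul] at h2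
      exact congrFun (congrFun (add_left_cancel (G := Matrix (Fin n) (Fin n) K) h2) a) b
    have hC1 : Subgroup.centralizer (((rowSub e₁).map proj : Subgroup P) : Set P) ≤ U' n K := by
      intro x hx
      obtain ⟨s, rfl⟩ := proj_surjective x
      have hh := fun (j : Fin n) (hj : f ≠ j) => hcentQ (rowSub e₁) _ f j hj (hrow j 1 hj) hx s rfl
      have hdiag : ∀ i, (s : Matrix (Fin n) (Fin n) K) i i = (s : Matrix (Fin n) (Fin n) K) f f := by
        intro i
        rcases eq_or_ne f i with rfl | hi
        · rfl
        · have := hh i hi f i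
          rw [Matrix.mul_single_apply_same, Matrix.single_mul_apply_same, mul_one, one_mul] at this
          exact this.symm
      refine proj_mem_of_const_diag (r := (s : Matrix (Fin n) (Fin n) K) f f) (fun a b hba => ?_) hdiag
      rcases eq_or_ne b f with rfl | hb
      · have := hh l hfl.ne a l
        rw [Matrix.mul_single_apply_same, mul_one, Matrix.single_mul_apply_of_ne _ _ _ _ _ hba.ne'] at this
        exact this
      · have hfa : f ≠ a := (lt_of_le_of_lt (Fin.le_def.2 (Nat.zero_le _)) hba).ne
        have := hh a hfa f b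
        rw [Matrix.single_mul_apply_same, one_mul, Matrix.mul_single_apply_of_ne _ _ _ _ _ hba.ne] at this
        exact this.symm
    have hC2 : Subgroup.centralizer (((colSub e₂).map proj : Subgroup P) : Set P) ≤ U' n K := by
      intro x hx
      obtain ⟨s, rfl⟩ := proj_surjective x
      have hh := fun (i : Fin n) (hi : i ≠ l) => hcentQ (colSub e₂) _ i l hi (hcol i 1 hi) hx s rfl
      have hdiag : ∀ i, (s : Matrix (Fin n) (Fin n) K) i i = (s : Matrix (Fin n) (Fin n) K) l l := by
        intro i
        rcases eq_or_ne i l with rfl | hi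
        · rfl
        · have := hh i hi i l
          rw [Matrix.mul_single_apply_same, Matrix.single_mul_apply_same, mul_one, one_mul] at this
          exact this
      refine proj_mem_of_const_diag (r := (s : Matrix (Fin n) (Fin n) K) l l) (fun a b hba => ?_) hdiag
      rcases eq_or_ne a l with rfl | ha
      · have := hh f hfl.ne f b
        rw [Matrix.single_mul_apply_same, one_mul, Matrix.mul_single_apply_of_ne _ _ _ _ _ hba.ne] at this
        exact this.symm
      · have hbl : b ≠ l := (lt_of_lt_of_le hba (Fin.le_def.2 (show (a : ℕ) ≤ n - 1 by omega))).ne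
        have := hh b hbl a l
        rw [Matrix.mul_single_apply_same, mul_one, Matrix.single_mul_apply_of_ne _ _ _ _ _ hba.ne'] at this
        exact this
    intro x hx
    obtain ⟨s, rfl⟩ := proj_surjective x
    have hup := upper_of_normalizes p hx
    have hdet : ∏ i, (s : Matrix (Fin n) (Fin n) K) i i = 1 := by
      have := Matrix.det_of_upperTriangular (M := (s : Matrix (Fin n) (Fin n) K))
        (fun i j (h : j < i) => hup j i h)
      rw [s.2] at this
      exact this.symm
    have hne : ∀ i, (s : Matrix (Fin n) (Fin n) K) i i ≠ 0 := fun i h0 => by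
      exact zero_ne_one ((Finset.prod_eq_zero (f := fun i => (s : Matrix (Fin n) (Fin n) K) i i)
        (Finset.mem_univ i) h0).symm.trans hdet)
    let d : Fin n → Kˣ := fun i => Units.mk0 _ (hne i)
    have hd : ∏ i, d i = 1 := Units.ext (by rw [Units.coe_prod]; exact hdet)
    have hu : (dgSL d hd)⁻¹ * s ∈ upperUni n K := by
      intro a b hba
      have h1 : ((dgSL d hd : Matrix.SpecialLinearGroup (Fin n) K) : Matrix (Fin n) (Fin n) K) *
          (((dgSL d hd)⁻¹ * s : Matrix.SpecialLinearGroup (Fin n) K) : Matrix (Fin n) (Fin n) K) =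
          (s : Matrix (Fin n) (Fin n) K) := by
        rw [← Matrix.SpecialLinearGroup.coe_mul, mul_inv_cancel_left]
      have h2 := congrFun (congrFun h1 a) b
      rw [dgSL_coe, Matrix.diagonal_mul] at h2
      split_ifs with hab
      · subst hab
        exact mul_left_cancel₀ (Units.ne_zero (d a)) (h2.trans (mul_one _).symm)
      · rw [hup b a (lt_of_le_of_ne hba (Ne.symm hab))] at h2
        exact (mul_eq_zero.1 h2).resolve_left (Units.ne_zero (d a))
    set H : Subgroup P := Subgroup.closure (((U' n K : Subgroup P) : Set P) ∪ GoodElts p (U' n K))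
    rw [show proj s = proj (dgSL d hd) * proj ((dgSL d hd)⁻¹ * s) by rw [← map_mul, mul_inv_cancel_left]]
    refine H.mul_mem ?_ (Subgroup.subset_closure (Or.inl (Subgroup.mem_map_of_mem proj hu)))
    have hdgN : ∀ (d : Fin n → Kˣ) (h : ∏ k, d k = 1),
        proj (dgSL d h) ∈ Subgroup.normalizer ((U' n K : Subgroup P) : Set P) := by
      intro d h
      refine hnorm _ _ fun q hq => ?_
      refine upperUni_le (H := (upperUni n K).comap (MulAut.conj (dgSL d h)).toMonoidHom) (fun i j hij c => ?_) hq
      show dgSL d h * et i j hij.ne c * (dgSL d h)⁻¹ ∈ upperUni n K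
      rw [conj_dgSL]
      exact et_mem_upperUni hij _
    -- torus elements fixing one of the two end points
    have hgood1 : ∀ (d : Fin n → Kˣ) (h : ∏ k, d k = 1), d f = 1 → proj (dgSL d h) ∈ H := by
      intro d h hdf
      refine Subgroup.subset_closure (Or.inr ⟨hdgN d h, (rowSub e₁).map proj,
        Subgroup.map_mono hrowU, ?_, hC1, ?_⟩)
      · rintro _ ⟨s, hs, rfl⟩
        exact hnorm _ _ fun q hq => conj_rowSub (hUrow s hs) hq
      obtain ⟨m, hmf, -⟩ := hthird f f
      have het : ∀ (i j : Fin n) (hij : i ≠ j), j ≠ f → ∀ c : K,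
          proj (et i j hij c) ∈ Subgroup.closure (pElts p ((rowSub e₁).map proj)) := by
        intro i j hij hjf c
        refine Subgroup.subset_closure ⟨hnorm _ _ fun q hq => conj_rowSub (r := 1) ?_ hq, 1, hetp i j hij c⟩
        rw [et, tvs_coe, Matrix.add_mulVec, Matrix.one_mulVec, Matrix.smul_mulVec, vecMulVec_mulVec]
        simp [e₁, hjf.symm]
      refine (dgSL_mem (H := (Subgroup.closure (pElts p ((rowSub e₁).map proj))).comap proj) (m := m)
        (Finset.univ.filter fun i => i ≠ m ∧ i ≠ f) (by simp) (fun i hi him a ha => ?_) d h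
        (fun i hi him => ?_) :)
      · simp only [Finset.mem_filter, Finset.mem_univ, true_and] at hi
        rw [Subgroup.mem_comap]
        rw [diag2n_eq_transvections him a ha, ← et_eq_transvection, ← et_eq_transvection,
          ← et_eq_transvection, ← et_eq_transvection]
        simp only [map_mul]
        have h1 := het i m him hmf
        have h2 := het m i him.symm hi.2
        exact mul_mem (mul_mem (mul_mem (mul_mem (mul_mem (h1 _) (h2 _)) (h1 _)) (h1 _)) (h2 _)) (h1 _)
      · simp only [Finset.mem_filter, Finset.mem_univ, true_and, not_and, not_not] at hi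
        rw [hi him]
        exact hdf
    have hgood2 : ∀ (d : Fin n → Kˣ) (h : ∏ k, d k = 1), d l = 1 → proj (dgSL d h) ∈ H := by
      intro d h hdl
      refine Subgroup.subset_closure (Or.inr ⟨hdgN d h, (colSub e₂).map proj,
        Subgroup.map_mono hcolU, ?_, hC2, ?_⟩)
      · rintro _ ⟨s, hs, rfl⟩
        exact hnorm _ _ fun q hq => conj_colSub (hUcol s hs) hq
      obtain ⟨m, hml, -⟩ := hthird l l
      have het : ∀ (i j : Fin n) (hij : i ≠ j), i ≠ l → ∀ c : K,
          proj (et i j hij c) ∈ Subgroup.closure (pElts p ((colSub e₂).map proj)) := by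
        intro i j hij hil c
        refine Subgroup.subset_closure ⟨hnorm _ _ fun q hq => conj_colSub (r := 1) ?_ hq, 1, hetp i j hij c⟩
        rw [inv_eq_of_mul_eq_one_right (b := et i j hij (-c))
          (by rw [← et_add, add_neg_cancel, et, tvs_zero]), et, tvs_coe, Matrix.vecMul_add,
          Matrix.vecMul_one, Matrix.vecMul_smul, vecMul_vecMulVec]
        simp [e₂, hil]
      refine (dgSL_mem (H := (Subgroup.closure (pElts p ((colSub e₂).map proj))).comap proj) (m := m)
        (Finset.univ.filter fun i => i ≠ m ∧ i ≠ l) (by simp) (fun i hi him a ha => ?_) d h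
        (fun i hi him => ?_) :)
      · simp only [Finset.mem_filter, Finset.mem_univ, true_and] at hi
        rw [Subgroup.mem_comap]
        rw [diag2n_eq_transvections him a ha, ← et_eq_transvection, ← et_eq_transvection,
          ← et_eq_transvection, ← et_eq_transvection]
        simp only [map_mul]
        have h1 := het i m him hi.2
        have h2 := het m i him.symm hml
        exact mul_mem (mul_mem (mul_mem (mul_mem (mul_mem (h1 _) (h2 _)) (h1 _)) (h1 _)) (h2 _)) (h1 _)
      · simp only [Finset.mem_filter, Finset.mem_univ, true_and, not_and, not_not] at hi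
        rw [hi him]
        exact hdl
    obtain ⟨m, hmf, hml⟩ := hthird f l
    let d₁ : Fin n → Kˣ := d * Pi.mulSingle f (d f)⁻¹ * Pi.mulSingle m (d f)
    let d₂ : Fin n → Kˣ := Pi.mulSingle f (d f) * Pi.mulSingle m (d f)⁻¹
    have h₁ : ∏ i, d₁ i = 1 := by
      simp [d₁, Finset.prod_mul_distrib, Finset.prod_pi_mulSingle', hd]
    have h₂ : ∏ i, d₂ i = 1 := by
      simp [d₂, Finset.prod_mul_distrib, Finset.prod_pi_mulSingle']
    have e : dgSL d hd = dgSL d₁ h₁ * dgSL d₂ h₂ := by
      refine sl_ext ?_
      rw [Matrix.SpecialLinearGroup.coe_mul, dgSL_coe, dgSL_coe, dgSL_coe, Matrix.diagonal_mul_diagonal]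
      congr 1
      funext i
      rw [← Units.val_mul]
      congr 1
      rcases eq_or_ne i f with rfl | hif
      · simp [d₁, d₂, hmf.symm]
      · rcases eq_or_ne i m with rfl | him
        · simp [d₁, d₂, hmf]
        · simp [d₁, d₂, hif, him]
    rw [e, map_mul]
    refine H.mul_mem (hgood1 d₁ h₁ (by simp [d₁, hmf.symm]))
      (hgood2 d₂ h₂ (by simp [d₂, hfl.ne', hml.symm]))

/-- For a finite field K of characteristic p and n ≥ 3, the p-fusion system of the projective special linear group PSL_n(K) on a Sylow p-subgroup is simple. -/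
theorem result {K : Type*} [Field K] [Fintype K] (p : ℕ) [Fact p.Prime] [CharP K p] (n : ℕ) (hn : 3 ≤ n) (S : Sylow p (Matrix.ProjectiveSpecialLinearGroup (Fin n) K)) : (Cfsg.groupFusionSystem (S : Subgroup (Matrix.ProjectiveSpecialLinearGroup (Fin n) K))).IsSimple p := by
  exact result' p n hn S

end Cfsg.Agent.S5163
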