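import Cfsg.Statements.S5164
import Cfsg.Agent.Lib.Fusion.Basic

set_option autoImplicit false
open Cfsg Cfsg.FusionSystem Cfsg.Agent.Lib.Fusion

namespace Cfsg.Agent.S5164

open Equiv in
theorem isComm_of_le_sylow {G : Type*} [Group G] [Finite G] {p : ℕ} [Fact p.Prime] (A : Subgroup G)
    (hA : IsPGroup p A) (hcard : Nat.card A = p ^ (Nat.card G).factorization p)
    (hab : ∀ x ∈ A, ∀ y ∈ A, x * y = y * x) {Q : Subgroup G} (hQ : IsPGroup p Q) :
    ∀ x ∈ Q, ∀ y ∈ Q, x * y = y * x := by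
  obtain ⟨T, hT⟩ := hA.exists_le_sylow
  have hTA : A = (T : Subgroup G) :=
    Subgroup.eq_of_le_of_card_ge hT (by rw [Sylow.card_eq_multiplicity, hcard])
  obtain ⟨U, hU⟩ := hQ.exists_le_sylow
  obtain ⟨g, hg⟩ := MulAction.exists_smul_eq G T U
  intro x hx y hy
  have h1 := hU hx
  have h2 := hU hy
  rw [← hg, Sylow.coe_subgroup_smul, ← hTA] at h1 h2
  obtain ⟨a, ha, rfl⟩ := h1
  obtain ⟨b, hb, rfl⟩ := h2
  show g * a * g⁻¹ * (g * b * g⁻¹) = g * b * g⁻¹ * (g * a * g⁻¹)
  calc g * a * g⁻¹ * (g * b * g⁻¹) = g * (a * b) * g⁻¹ := by group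
    _ = g * (b * a) * g⁻¹ := by rw [hab a ha b hb]
    _ = _ := by group

/-- Translations of each of the `k` blocks of size `p`. -/
def blockHom (p k : ℕ) : (Fin k → Multiplicative (ZMod p)) →* Equiv.Perm (Fin k × ZMod p) where
  toFun v :=
    { toFun := fun z => (z.1, z.2 + (v z.1).toAdd)
      invFun := fun z => (z.1, z.2 - (v z.1).toAdd)
      left_inv := fun z => by simp
      right_inv := fun z => by simp }
  map_one' := Equiv.ext fun z => by simp
  map_mul' v w := Equiv.ext fun z => by simp [add_assoc, add_comm, add_left_comm]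

theorem exists_abelian {n p : ℕ} [Fact p.Prime] (hnp : n < p ^ 2) :
    ∃ A : Subgroup (Equiv.Perm (Fin n)), IsPGroup p A ∧
      Nat.card A = p ^ (Nat.card (Equiv.Perm (Fin n))).factorization p ∧
      ∀ x ∈ A, ∀ y ∈ A, x * y = y * x := by
  have hp : p.Prime := Fact.out
  set k := n / p with hk
  have hkp : k < p := by
    rw [hk, Nat.div_lt_iff_lt_mul hp.pos]
    linarith [sq p, hnp]
  have hv : (Nat.card (Equiv.Perm (Fin n))).factorization p = k := by
    rw [Nat.card_perm, Nat.card_fin, Nat.factorization_def _ hp]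
    conv_lhs => rw [← Nat.div_add_mod n p]
    rw [padicValNat_factorial_mul_add _ (Nat.mod_lt _ hp.pos), padicValNat_factorial_mul,
      padicValNat.eq_zero_of_not_dvd (fun h => (hp.dvd_factorial.1 h).not_gt hkp), zero_add]
  have hle : Fintype.card (Fin k × ZMod p) ≤ Fintype.card (Fin n) := by
    rw [Fintype.card_prod, Fintype.card_fin, ZMod.card, Fintype.card_fin]
    exact Nat.div_mul_le_self n p
  obtain ⟨e⟩ := Function.Embedding.nonempty_of_card_le hle
  let f := (Equiv.Perm.viaEmbeddingHom e).comp (blockHom p k)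
  have hf : Function.Injective f := by
    refine (Equiv.Perm.viaEmbeddingHom_injective e).comp fun v w h => funext fun i => ?_
    have := congrArg (fun σ : Equiv.Perm (Fin k × ZMod p) => (σ (i, 0)).2) h
    simpa [blockHom] using this
  have hc : Nat.card f.range = p ^ k := by
    rw [← Nat.card_congr (MonoidHom.ofInjective hf).toEquiv, Nat.card_fun, Nat.card_fin]
    show Nat.card (ZMod p) ^ k = p ^ k
    rw [Nat.card_zmod]
  refine ⟨f.range, IsPGroup.of_card hc, by rw [hc, hv], ?_⟩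
  rintro _ ⟨v, rfl⟩ _ ⟨w, rfl⟩
  rw [← map_mul, ← map_mul, mul_comm]

/-- The permutations `(x, y) ↦ (x + f y, y + c)`. -/
def wreath (p : ℕ) : Subgroup (Equiv.Perm (ZMod p × ZMod p)) where
  carrier := {σ | ∃ (c : ZMod p) (f : ZMod p → ZMod p), ∀ z, σ z = (z.1 + f z.2, z.2 + c)}
  one_mem' := ⟨0, fun _ => 0, fun z => by simp⟩
  mul_mem' := by
    rintro σ τ ⟨c, f, hσ⟩ ⟨d, g, hτ⟩
    exact ⟨d + c, fun y => g y + f (y + d), fun z => by simp [hσ, hτ, add_assoc]⟩
  inv_mem' := by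
    rintro σ ⟨c, f, hσ⟩
    refine ⟨-c, fun y => -f (y - c), fun z => σ.injective ?_⟩
    rw [← Equiv.Perm.mul_apply, mul_inv_cancel, Equiv.Perm.one_apply, hσ]
    simp [sub_eq_add_neg, add_assoc]

theorem exists_nonabelian_odd {n p : ℕ} [Fact p.Prime] (hodd : p ≠ 2) (hnp : p ^ 2 ≤ n) :
    ∃ Q : Subgroup (alternatingGroup (Fin n)), IsPGroup p Q ∧ ∃ x ∈ Q, ∃ y ∈ Q, x * y ≠ y * x := by
  classical
  have hp : p.Prime := Fact.out
  have hW : IsPGroup p (wreath p) := by
    rintro ⟨σ, c, f, hσ⟩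
    refine ⟨2, Subtype.ext ?_⟩
    have h1 : ∀ j : ℕ, ∃ g : ZMod p → ZMod p, ∀ z, (σ ^ j) z = (z.1 + g z.2, z.2 + j * c) := by
      intro j
      induction j with
      | zero => exact ⟨fun _ => 0, fun z => by simp⟩
      | succ j ih =>
        obtain ⟨g, hg⟩ := ih
        refine ⟨fun y => g y + f (y + j * c), fun z => ?_⟩
        rw [pow_succ', Equiv.Perm.mul_apply, hg, hσ]
        simp [add_assoc, add_mul]
    obtain ⟨g, hg⟩ := h1 p
    have h2 : ∀ (j : ℕ) z, ((σ ^ p) ^ j) z = (z.1 + j * g z.2, z.2) := by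
      intro j
      induction j with
      | zero => intro z; simp
      | succ j ih =>
        intro z
        rw [pow_succ', Equiv.Perm.mul_apply, ih, hg]
        simp [add_assoc, add_mul]
    show σ ^ p ^ 2 = 1
    rw [pow_two, pow_mul]
    ext z <;> simp [h2]
  have hle : Fintype.card (ZMod p × ZMod p) ≤ Fintype.card (Fin n) := by
    rw [Fintype.card_prod, ZMod.card, Fintype.card_fin]
    linarith [sq p]
  obtain ⟨e⟩ := Function.Embedding.nonempty_of_card_le hle
  let f := (Equiv.Perm.viaEmbeddingHom e).comp (wreath p).subtype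
  have hf : Function.Injective f :=
    (Equiv.Perm.viaEmbeddingHom_injective e).comp Subtype.val_injective
  have halt : f.range ≤ alternatingGroup (Fin n) := by
    rintro _ ⟨w, rfl⟩
    rw [Equiv.Perm.mem_alternatingGroup]
    obtain ⟨k, hk⟩ := hW w
    have h1 : (Equiv.Perm.sign (f w)) ^ p ^ k = 1 := by rw [← map_pow, ← map_pow, hk, map_one, map_one]
    rcases Int.units_eq_one_or (Equiv.Perm.sign (f w)) with h | h
    · exact h
    · rw [h, Odd.neg_one_pow (hp.odd_of_ne_two hodd).pow] at h1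
      exact absurd h1 (by decide)
  refine ⟨f.range.subgroupOf _, (hW.of_surjective _ f.rangeRestrict_surjective).of_equiv
    (Subgroup.subgroupOfEquivOfLe halt).symm, ?_⟩
  let a : Equiv.Perm (ZMod p × ZMod p) :=
    { toFun := fun z => (z.1 + if z.2 = 0 then 1 else 0, z.2)
      invFun := fun z => (z.1 - if z.2 = 0 then 1 else 0, z.2)
      left_inv := fun z => by simp
      right_inv := fun z => by simp }
  let b : Equiv.Perm (ZMod p × ZMod p) :=
    { toFun := fun z => (z.1, z.2 + 1)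
      invFun := fun z => (z.1, z.2 - 1)
      left_inv := fun z => by simp
      right_inv := fun z => by simp }
  have ha : a ∈ wreath p := ⟨0, fun y => if y = 0 then 1 else 0, fun z => by simp [a]⟩
  have hb : b ∈ wreath p := ⟨1, fun _ => 0, fun z => by simp [b]⟩
  refine ⟨⟨f ⟨a, ha⟩, halt ⟨_, rfl⟩⟩, ⟨_, rfl⟩, ⟨f ⟨b, hb⟩, halt ⟨_, rfl⟩⟩, ⟨_, rfl⟩, fun h => ?_⟩
  have h1 : f (⟨a, ha⟩ * ⟨b, hb⟩) = f (⟨b, hb⟩ * ⟨a, ha⟩) := by
    rw [map_mul, map_mul]
    exact congrArg Subtype.val h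
  have h2 : a * b = b * a := congrArg Subtype.val (hf h1)
  have h3 := congrArg (fun σ : Equiv.Perm (ZMod p × ZMod p) => (σ (0, 0)).1) h2
  simp [a, b, Equiv.Perm.mul_apply] at h3

theorem exists_nonabelian_two {n : ℕ} (hn : 6 ≤ n) :
    ∃ Q : Subgroup (alternatingGroup (Fin n)), IsPGroup 2 Q ∧ ∃ x ∈ Q, ∃ y ∈ Q, x * y ≠ y * x := by
  classical
  let z : Equiv.Perm (Fin 4) := Equiv.swap 0 1 * Equiv.swap 2 3
  let D : Subgroup (Equiv.Perm (Fin 4)) := Subgroup.centralizer {z}
  have hcard : Nat.card D = 2 ^ 3 := by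
    rw [show Nat.card D = Nat.card {σ : Equiv.Perm (Fin 4) // σ * z = z * σ} from
      Nat.card_congr (Equiv.subtypeEquivRight fun σ => Subgroup.mem_centralizer_singleton_iff),
      Nat.card_eq_fintype_card]
    decide
  let t : Equiv.Perm (Fin 4) →* Equiv.Perm (Fin 2) :=
    { toFun := fun σ => if Equiv.Perm.sign σ = 1 then 1 else Equiv.swap 0 1
      map_one' := by simp
      map_mul' := by
        intro σ τ
        rw [map_mul]
        rcases Int.units_eq_one_or (Equiv.Perm.sign σ) with h | h <;>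
          rcases Int.units_eq_one_or (Equiv.Perm.sign τ) with h' | h' <;> simp [h, h'] }
  let Ψ : Equiv.Perm (Fin 4) →* Equiv.Perm (Fin 4 ⊕ Fin 2) :=
    (Equiv.Perm.sumCongrHom (Fin 4) (Fin 2)).comp ((MonoidHom.id _).prod t)
  have hsign : ∀ σ, Equiv.Perm.sign (Ψ σ) = 1 := by
    intro σ
    show Equiv.Perm.sign (Equiv.Perm.sumCongr σ (t σ)) = 1
    rw [Equiv.Perm.sign_sumCongr]
    rcases Int.units_eq_one_or (Equiv.Perm.sign σ) with h | h <;>
      simp [t, h, Equiv.Perm.sign_swap (show (0 : Fin 2) ≠ 1 by decide)]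
  have hle : Fintype.card (Fin 4 ⊕ Fin 2) ≤ Fintype.card (Fin n) := by simpa using hn
  obtain ⟨e⟩ := Function.Embedding.nonempty_of_card_le hle
  let f := ((Equiv.Perm.viaEmbeddingHom e).comp Ψ).comp D.subtype
  have hf : Function.Injective f := by
    refine ((Equiv.Perm.viaEmbeddingHom_injective e).comp ?_).comp Subtype.val_injective
    intro σ τ h
    ext x
    have := congrArg (fun ρ : Equiv.Perm (Fin 4 ⊕ Fin 2) => ρ (Sum.inl x)) h
    simpa [Ψ, Equiv.Perm.sumCongrHom] using congrArg (Sum.elim (fun y : Fin 4 => (y : ℕ)) fun _ => 9) this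
  have halt : f.range ≤ alternatingGroup (Fin n) := by
    rintro _ ⟨w, rfl⟩
    rw [Equiv.Perm.mem_alternatingGroup]
    show Equiv.Perm.sign (Equiv.Perm.viaEmbedding (Ψ w) e) = 1
    rw [Equiv.Perm.viaEmbedding, Equiv.Perm.sign_extendDomain, hsign]
  refine ⟨f.range.subgroupOf _, ((IsPGroup.of_card hcard).of_surjective _
    f.rangeRestrict_surjective).of_equiv (Subgroup.subgroupOfEquivOfLe halt).symm, ?_⟩
  have ha : Equiv.swap 0 1 ∈ D := Subgroup.mem_centralizer_singleton_iff.2 (by decide)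
  have hb : Equiv.swap 0 2 * Equiv.swap 1 3 ∈ D := Subgroup.mem_centralizer_singleton_iff.2 (by decide)
  refine ⟨⟨f ⟨_, ha⟩, halt ⟨_, rfl⟩⟩, ⟨_, rfl⟩, ⟨f ⟨_, hb⟩, halt ⟨_, rfl⟩⟩, ⟨_, rfl⟩, fun h => ?_⟩
  have h1 : f (⟨_, ha⟩ * ⟨_, hb⟩) = f (⟨_, hb⟩ * ⟨_, ha⟩) := by
    rw [map_mul, map_mul]
    exact congrArg Subtype.val h
  have h2 : (Equiv.swap (0 : Fin 4) 1) * (Equiv.swap 0 2 * Equiv.swap 1 3) =
      (Equiv.swap 0 2 * Equiv.swap 1 3) * Equiv.swap 0 1 := congrArg Subtype.val (hf h1)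
  exact absurd h2 (by decide)

/-- For n ≥ 6 and a prime p, a nontrivial Sylow p-subgroup of the alternating group of degree n is abelian if and only if n < p². -/
theorem result (n p : ℕ) (hn : 6 ≤ n) [Fact p.Prime] (S : Sylow p (alternatingGroup (Fin n))) (hS : (S : Subgroup (alternatingGroup (Fin n))) ≠ ⊥) : IsMulCommutative S ↔ n < p ^ 2 := by
  classical
  constructor
  · intro hab
    by_contra hge
    push Not at hge
    obtain ⟨Q, hQ, x, hx, y, hy, hxy⟩ :
        ∃ Q : Subgroup (alternatingGroup (Fin n)), IsPGroup p Q ∧ ∃ x ∈ Q, ∃ y ∈ Q, x * y ≠ y * x := by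
      by_cases hp2 : p = 2
      · subst hp2
        exact exists_nonabelian_two hn
      · exact exists_nonabelian_odd hp2 hge
    obtain ⟨U, hU⟩ := hQ.exists_le_sylow
    obtain ⟨g, hg⟩ := MulAction.exists_smul_eq (alternatingGroup (Fin n)) S U
    have h1 := hU hx
    have h2 := hU hy
    rw [← hg, Sylow.coe_subgroup_smul] at h1 h2
    obtain ⟨a, ha, rfl⟩ := h1
    obtain ⟨b, hb, rfl⟩ := h2
    refine hxy ?_
    show g * a * g⁻¹ * (g * b * g⁻¹) = g * b * g⁻¹ * (g * a * g⁻¹)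
    have h3 : a * b = b * a := congrArg Subtype.val (hab.is_comm.comm ⟨a, ha⟩ ⟨b, hb⟩)
    calc g * a * g⁻¹ * (g * b * g⁻¹) = g * (a * b) * g⁻¹ := by group
      _ = g * (b * a) * g⁻¹ := by rw [h3]
      _ = _ := by group
  · intro hlt
    obtain ⟨A, hA, hc, hcomm⟩ := exists_abelian (p := p) hlt
    refine ⟨⟨fun a b => ?_⟩⟩
    have h := isComm_of_le_sylow A hA hc hcomm (S.2.map (alternatingGroup (Fin n)).subtype) _
      (Subgroup.mem_map_of_mem _ a.2) _ (Subgroup.mem_map_of_mem _ b.2)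
    exact Subtype.ext (Subtype.ext h)

end Cfsg.Agent.S5164
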