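import Cfsg.Statements.S5166
import Cfsg.Agent.Lib.Compute.FusionSimple
import Cfsg.Agent.Lib.Compute.SporEquiv
import Cfsg.Agent.Lib.Compute.M11Syl2

set_option autoImplicit false
open Cfsg

namespace Cfsg.Agent.S5166

open Cfsg.Agent.Lib.Compute

/-- The 2-fusion system of the Mathieu group M₁₁ (as the explicit permutation group carved out of the automorphism group of the binary Golay code) on a Sylow 2-subgroup is simple: saturated, over a nontrivial 2-group, with no normal subsystem other than the trivial one and itself. -/
theorem result (S : Sylow 2 Cfsg.Spor.M11) : (Cfsg.groupFusionSystem (S : Subgroup Cfsg.Spor.M11)).IsSimple 2 := by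
  obtain ⟨e⟩ := spor_M11_equiv
  haveI : Fact (Nat.Prime 2) := ⟨Nat.prime_two⟩
  refine isSimple_of_cert e chk_cert11 (cS := m11Syl2) (by decide +kernel) (a := 4) (r := 495)
    (by decide) (by decide +kernel) (by decide +kernel) (by decide) (wit := m11Syl2Wit) (by decide +kernel)
    (zjs := m11Syl2Z) (steps := m11Syl2Steps) (by decide +kernel) (by decide +kernel)
    (Ms := m11Syl2Rel) (ks := [1, 2, 4]) (by decide +kernel) (by decide +kernel) S

end Cfsg.Agent.S5166
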