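import Cfsg.Statements.S5169
import Cfsg.Agent.Lib.Compute.FusionSimple
import Cfsg.Agent.Lib.Compute.SporEquiv
import Cfsg.Agent.Lib.Compute.M23Syl2

set_option autoImplicit false
open Cfsg

namespace Cfsg.Agent.S5169

open Cfsg.Agent.Lib.Compute

/-- The 2-fusion system of the Mathieu group M₂₃ (as the explicit permutation group carved out of the automorphism group of the binary Golay code) on a Sylow 2-subgroup is simple: saturated, over a nontrivial 2-group, with no normal subsystem other than the trivial one and itself. -/
theorem result (S : Sylow 2 Cfsg.Spor.M23) : (Cfsg.groupFusionSystem (S : Subgroup Cfsg.Spor.M23)).IsSimple 2 := by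
  obtain ⟨e⟩ := spor_M23_equiv
  haveI : Fact (Nat.Prime 2) := ⟨Nat.prime_two⟩
  refine isSimple_of_cert e chk_cert1 (cS := m23Syl2) (by decide +kernel) (a := 7) (r := 79695)
    (by decide) (by decide +kernel) (by decide +kernel) (by decide) (wit := m23Syl2Wit) (by decide +kernel)
    (zjs := m23Syl2Z) (steps := m23Syl2Steps) (by decide +kernel) (by decide +kernel)
    (Ms := m23Syl2Rel) (ks := [1, 2, 4]) (by decide +kernel) (by decide +kernel) S

end Cfsg.Agent.S5169
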