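import Cfsg.Statements.S5170
import Cfsg.Agent.Lib.Compute.NormBound
import Cfsg.Agent.Lib.Compute.M24
import Cfsg.Agent.Lib.Compute.M24Syl2

set_option autoImplicit false
open Cfsg

namespace Cfsg.Agent.S5170

open Cfsg.Agent.Lib.Compute

/-- The 2-fusion system of the Mathieu group M₂₄ (as the explicit permutation group of the 24 points preserving the binary Golay code) on a Sylow 2-subgroup is simple: saturated, over a nontrivial 2-group, with no normal subsystem other than the trivial one and itself. -/
theorem result (S : Sylow 2 Cfsg.M24) : (Cfsg.groupFusionSystem (S : Subgroup Cfsg.M24)).IsSimple 2 := by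
  haveI : Fact (Nat.Prime 2) := ⟨Nat.prime_two⟩
  have hc : chk 24 m24BCert = true := by decide +kernel
  have heq : grp 24 m24BCert = grp 24 m24Cert :=
    le_antisymm (grp_le_of_subOk m24Cert_ok (wit := m24BWit) (by decide +kernel))
      (grp_le_of_subOk hc (wit := m24BWit') (by decide +kernel))
  refine isSimple_of_bound ((MulEquiv.subgroupCongr heq).trans equivM24) hc (cS := m24Syl2)
    (by decide +kernel) (a := 10) (r := 239085) (by decide) (by decide +kernel) (by decide +kernel)
    (by decide) (wit := m24Syl2Wit) (by decide +kernel)
    (zjs := m24Syl2Z) (steps := m24Syl2Steps) (by decide +kernel) (by decide +kernel)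
    (fun N hN hconj => (card_normalizer_le_orbitBound hc (by decide +kernel) (Ms := m24Syl2Rel)
    (ks := [1, 2, 4]) (by decide +kernel) hN hconj).trans (by decide +kernel)) S

end Cfsg.Agent.S5170
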