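import Cfsg.Statements.S5178
import Cfsg.Agent.Lib.FusionControl.AbelianEssential
import Cfsg.Agent.Lib.Fusion.Series
import Cfsg.Agent.Lib.Solvable.Nilpotent

set_option autoImplicit false
universe u
open Cfsg

namespace Cfsg.Agent.S5178

open Cfsg.FusionSystem Cfsg.Agent.Lib.Fusion
open Cfsg.Agent.Lib.FusionControl


section Setup

variable {Ω : Type*} [Group Ω] {S : Subgroup Ω} [Finite S] {p : ℕ} [Fact p.Prime]

/-- The centre of `S`. -/
def zS (S : Subgroup Ω) : Subgroup Ω := S ⊓ Subgroup.centralizer (S : Set Ω)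

/-- An automorphism of `S` in `F` inverting `z` and splitting `zS`. -/
def Inverting (F : FusionSystem S) (z : Subgroup Ω) (α : MulAut S) : Prop :=
  α ∈ F.autGroup S ∧ (∀ c : S, (c : Ω) ∈ z → α c = c⁻¹) ∧
    ∀ c : S, (c : Ω) ∈ zS S → ∃ k : S, (k : Ω) ∈ zS S ∧ α k = k ∧ ((c * k⁻¹ : S) : Ω) ∈ z

omit [Finite S] in
theorem zS_invariant (α : MulAut S) {c : S} (hc : (c : Ω) ∈ zS S) : ((α c : S) : Ω) ∈ zS S := by
  refine ⟨(α c).2, fun g hg => ?_⟩
  obtain ⟨g', hg'⟩ := α.surjective ⟨g, hg⟩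
  have h : g' * c = c * g' := Subtype.ext (hc.2 _ g'.2)
  have h2 := congrArg Subtype.val (congrArg α h)
  rw [map_mul, map_mul, hg', Subgroup.coe_mul, Subgroup.coe_mul] at h2
  exact h2

theorem agree {F : FusionSystem S} (hS : IsPGroup p S) (hF : F.IsSaturated p) {z : Subgroup Ω}
    (hz : Nat.card z = p) (hzle : z ≤ zS S) {α₁ α₂ : MulAut S} (h₁ : Inverting F z α₁) (h₂ : Inverting F z α₂)
    {c : S} (hc : (c : Ω) ∈ zS S) : α₁ c = α₂ c := by
  have hd : ∀ {α : MulAut S}, Inverting F z α → ∀ {c : S}, (c : Ω) ∈ zS S →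
      ((c⁻¹ * α c : S) : Ω) ∈ z ∧ α (α c) = c := by
    intro α hα c hc
    obtain ⟨k, -, hk, hck⟩ := hα.2.2 c hc
    have e1 : α c = (c * k⁻¹)⁻¹ * k := by
      conv_lhs => rw [← inv_mul_cancel_right c k, map_mul, hα.2.1 _ hck, hk]
    refine ⟨?_, ?_⟩
    · have hh : c⁻¹ * k = k * c⁻¹ := (Commute.inv_right (show Commute k c from Subtype.ext (hc.2 _ k.2))).eq.symm
      have e : c⁻¹ * α c = (c * k⁻¹)⁻¹ * (c * k⁻¹)⁻¹ := by
        rw [e1, mul_inv_rev, inv_inv, ← mul_assoc, ← mul_assoc, hh]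
        rw [mul_assoc (k * c⁻¹) c⁻¹ k, hh]
      rw [e, Subgroup.coe_mul, Subgroup.coe_inv]
      exact z.mul_mem (z.inv_mem hck) (z.inv_mem hck)
    · rw [e1, map_mul, hk, hα.2.1 ((c * k⁻¹)⁻¹) (by rw [Subgroup.coe_inv]; exact z.inv_mem hck), inv_inv,
        inv_mul_cancel_right]
  set σ := α₂ * α₁ with hσ
  have hfix : ∀ x : S, (x : Ω) ∈ z → σ x = x := fun x hx => by
    rw [hσ, MulAut.mul_apply, h₁.2.1 x hx, map_inv, h₂.2.1 x hx, inv_inv]
  have he : ((c⁻¹ * σ c : S) : Ω) ∈ z := by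
    have h3 := (hd h₁ hc).1
    have h4 := (hd h₂ hc).1
    have : c⁻¹ * σ c = (c⁻¹ * α₂ c) * α₂ (c⁻¹ * α₁ c) := by
      rw [hσ, MulAut.mul_apply, map_mul, map_inv, mul_assoc, mul_inv_cancel_left]
    rw [this, h₂.2.1 _ h3, Subgroup.coe_mul, Subgroup.coe_inv]
    exact z.mul_mem h4 (z.inv_mem h3)
  have hk : ∀ j : ℕ, (σ ^ j) c = c * (c⁻¹ * σ c) ^ j := by
    intro j
    induction j with
    | zero => simp
    | succ j ih => rw [pow_succ', MulAut.mul_apply, ih, map_mul, map_pow, hfix _ he, pow_succ',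
        ← mul_assoc c, mul_inv_cancel_left]
  have hσA : σ ∈ F.autGroup S := (F.autGroup S).mul_mem h₂.1 h₁.1
  have := finite_mulAut (S := S) le_rfl
  obtain ⟨a, r, hr, hn⟩ := Nat.exists_eq_pow_mul_and_not_dvd (orderOf_pos σ).ne' p (Fact.out : p.Prime).ne_one
  have hX : IsPGroup p (Subgroup.zpowers (σ ^ r)) := by
    rintro ⟨x, i, rfl⟩
    refine ⟨a, Subtype.ext ?_⟩
    show ((σ ^ r) ^ i) ^ p ^ a = 1
    rw [← zpow_natCast, ← zpow_mul, mul_comm i, zpow_mul, zpow_natCast, ← pow_mul, mul_comm r, ← hn,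
      pow_orderOf_eq_one, one_zpow]
  obtain ⟨β, -, hβ⟩ := IsFullyAutomized.exists_conj
    (IsSaturated.automized_receptive hS hF (isFullyNormalized_top F)).1 (X := Subgroup.zpowers (σ ^ r))
    (Subgroup.zpowers_le.mpr ((F.autGroup S).pow_mem hσA r)) hX
  have htriv : (σ ^ r) c = c := by
    obtain ⟨g, hg, hgx⟩ := mem_autInducedBy.1 (hβ (σ ^ r) (Subgroup.mem_zpowers _))
    have hβc := zS_invariant β hc
    have h5 : (β * σ ^ r * β⁻¹) (β c) = β c := Subtype.ext (by
      rw [hgx]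
      exact mul_inv_eq_iff_eq_mul.mpr (hβc.2 g hg))
    rw [MulAut.mul_apply, MulAut.mul_apply, MulAut.inv_apply_self] at h5
    exact β.injective h5
  have e1 : (c⁻¹ * σ c) ^ r = 1 := by
    rw [hk r] at htriv
    exact mul_eq_left.mp htriv
  have e2 : (c⁻¹ * σ c) ^ p = 1 := by
    have h6 := congrArg Subtype.val (pow_card_eq_one' (x := (⟨_, he⟩ : z)))
    rw [hz] at h6
    exact Subtype.ext (by rw [SubmonoidClass.coe_pow]; exact h6)
  have e3 : c⁻¹ * σ c = 1 := by
    have := pow_gcd_eq_one.mpr ⟨e1, e2⟩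
    rwa [Nat.Coprime.gcd_eq_one (((Fact.out : p.Prime).coprime_iff_not_dvd.mpr hr).symm), pow_one] at this
  have e4 : α₂ (α₁ c) = c := (inv_mul_eq_one.mp e3).symm
  exact α₂.injective (e4.trans (hd h₂ hc).2.symm)

end Setup

/-- Let p be an odd prime, S a finite p-group containing an extraspecial subgroup Q of index p, and F a saturated fusion system over S whose largest subgroup normal in F is trivial. Then the centre of S equals the centre of Q. -/
theorem result {Ω : Type u} [Group Ω] {S : Subgroup Ω} [Finite S] (p : ℕ) [Fact p.Prime] (hp : Odd p) (hS : IsPGroup p S)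
    (Q : Subgroup Ω) (hQS : Q ≤ S) (hQ : Cfsg.IsExtraspecial p ↥Q) (hQi : (Q.subgroupOf S).index = p)
    (F : Cfsg.FusionSystem S) (hF : F.IsSaturated p) (hO : F.core = ⊥) :
    S ⊓ Subgroup.centralizer (S : Set Ω) = Q ⊓ Subgroup.centralizer (Q : Set Ω) := by
  classical
  have hpp : p.Prime := Fact.out
  have hp2 : p ≠ 2 := fun h => by subst h; exact absurd hp (by decide)
  set Zq := Q ⊓ Subgroup.centralizer (Q : Set Ω) with hZq
  change zS S = Zq
  have hQfin : Finite Q := finite_of_le hQS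
  have hZqmap : Zq = (Subgroup.center Q).map Q.subtype := by
    ext x
    constructor
    · rintro ⟨hxQ, hxc⟩
      exact ⟨⟨x, hxQ⟩, Subgroup.mem_center_iff.mpr fun g => Subtype.ext (hxc g g.2), rfl⟩
    · rintro ⟨y, hy, rfl⟩
      exact ⟨y.2, fun g hg => congrArg Subtype.val (Subgroup.mem_center_iff.mp hy ⟨g, hg⟩)⟩
  have hzcard : Nat.card Zq = p := by
    rw [hZqmap, Subgroup.card_map_of_injective Q.subtype_injective]
    exact hQ.2
  obtain ⟨n, hn⟩ := IsPGroup.iff_card.mp hS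
  have hQn : (Q.subgroupOf S).Normal := by
    refine Subgroup.normal_of_index_eq_minFac_card ?_
    have hdvd : p ∣ p ^ n := by rw [← hn]; exact hQi ▸ Subgroup.index_dvd_card _
    have hn0 : n ≠ 0 := fun h => by rw [h, pow_zero] at hdvd; exact hpp.not_dvd_one hdvd
    rw [hQi, hn, hpp.pow_minFac hn0]
  have hQconj : ∀ g ∈ S, ∀ x ∈ Q, g * x * g⁻¹ ∈ Q := fun g hg x hx => by
    have := hQn.conj_mem ⟨x, hQS hx⟩ hx ⟨g, hg⟩
    exact this
  have hZqS : Zq ≤ S := inf_le_left.trans hQS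
  have hZqn : (Zq.subgroupOf S).Normal := ⟨fun x hx g => by
    refine ⟨hQconj g g.2 _ hx.1, fun y hy => ?_⟩
    have h1 := hQconj (g : Ω)⁻¹ (S.inv_mem g.2) y hy
    rw [inv_inv] at h1
    have h2 := hx.2 _ h1
    show y * ((g : Ω) * x * (g : Ω)⁻¹) = (g : Ω) * x * (g : Ω)⁻¹ * y
    calc y * ((g : Ω) * x * (g : Ω)⁻¹) = (g : Ω) * ((g : Ω)⁻¹ * y * g * x) * (g : Ω)⁻¹ := by group
      _ = (g : Ω) * (x * ((g : Ω)⁻¹ * y * g)) * (g : Ω)⁻¹ := congrArg (fun w => (g : Ω) * w * (g : Ω)⁻¹) h2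
      _ = _ := by group⟩
  have hZqZs : Zq ≤ zS S := by
    have := hS.isNilpotent
    have hne : Zq.subgroupOf S ≠ ⊥ := fun h => by
      have := Nat.card_congr (Subgroup.subgroupOfEquivOfLe hZqS).toEquiv
      rw [h, Subgroup.card_bot, hzcard] at this
      exact hpp.ne_one this.symm
    obtain ⟨x, hx, hx1⟩ := (Subgroup.bot_or_exists_ne_one _).resolve_left
      (Cfsg.Agent.Lib.Solvable.inf_center_ne_bot hne)
    intro y hy
    have : Finite Zq := finite_of_le hZqS
    have hpw : (⟨y, hy⟩ : Zq) ∈ Submonoid.powers (⟨(x : Ω), hx.1⟩ : Zq) :=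
      mem_powers_of_prime_card hzcard fun h => hx1 (Subtype.ext (congrArg Subtype.val h :))
    obtain ⟨i, hi⟩ := (Submonoid.mem_powers_iff _ _).mp hpw
    have hyx : y = (x : Ω) ^ i := (congrArg Subtype.val hi).symm
    refine ⟨hZqS hy, fun g hg => ?_⟩
    have hcm : Commute g (x : Ω) := congrArg Subtype.val (Subgroup.mem_center_iff.mp hx.2 ⟨g, hg⟩)
    rw [hyx]
    exact (hcm.pow_right i).eq
  by_contra hne
  have hnle : ¬ zS S ≤ Q := fun h => hne (le_antisymm
    (fun x hx => ⟨h hx, fun y hy => hx.2 y (hQS hy)⟩) hZqZs)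
  obtain ⟨c0, hc0, hc0Q⟩ := SetLike.not_le_iff_exists.mp hnle
  have hdecS : ∀ s ∈ S, ∃ i : ℕ, ∃ q ∈ Q, s = c0 ^ i * q := by
    intro s hs
    have hcard : Nat.card (S ⧸ Q.subgroupOf S) = p := by rw [← Subgroup.index_eq_card]; exact hQi
    have hg : QuotientGroup.mk' (Q.subgroupOf S) ⟨c0, hc0.1⟩ ≠ 1 := fun h =>
      hc0Q ((QuotientGroup.eq_one_iff (⟨c0, hc0.1⟩ : S)).mp h)
    obtain ⟨i, hi⟩ := (Submonoid.mem_powers_iff _ _).mp
      (mem_powers_of_prime_card hcard hg (g' := QuotientGroup.mk' (Q.subgroupOf S) ⟨s, hs⟩))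
    rw [← map_pow, QuotientGroup.mk'_apply, QuotientGroup.mk'_apply, QuotientGroup.eq] at hi
    exact ⟨i, _, hi, (mul_inv_cancel_left (c0 ^ i) s).symm⟩
  have hcommQ : ∀ a ∈ Q, ∀ b ∈ Q, a * b * a⁻¹ * b⁻¹ ∈ Zq := by
    intro a ha b hb
    rw [hZqmap]
    refine ⟨⟨a, ha⟩ * ⟨b, hb⟩ * ⟨a, ha⟩⁻¹ * ⟨b, hb⟩⁻¹, ?_, rfl⟩
    rw [← hQ.1.2.2, commutator_def]
    exact Subgroup.commutator_mem_commutator (Subgroup.mem_top _) (Subgroup.mem_top _)
  have hcommS : ∀ a ∈ S, ∀ b ∈ S, a * b * a⁻¹ * b⁻¹ ∈ Zq := by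
    intro a ha b hb
    obtain ⟨i, x, hx, rfl⟩ := hdecS a ha
    obtain ⟨j, y, hy, rfl⟩ := hdecS b hb
    have hci : ∀ (i : ℕ) (g : Ω), g ∈ S → Commute g (c0 ^ i) := fun i g hg => (show Commute g c0 from hc0.2 g hg).pow_right i
    have e : c0 ^ i * x * (c0 ^ j * y) * (c0 ^ i * x)⁻¹ * (c0 ^ j * y)⁻¹ = x * y * x⁻¹ * y⁻¹ := by
      have h1 := hci i y (hQS hy)
      have h2 := hci j x (hQS hx)
      have h3 : Commute (c0 ^ i) (c0 ^ j) := (Commute.refl c0).pow_pow i j
      calc c0 ^ i * x * (c0 ^ j * y) * (c0 ^ i * x)⁻¹ * (c0 ^ j * y)⁻¹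
          = c0 ^ i * (x * c0 ^ j) * y * x⁻¹ * (c0 ^ i)⁻¹ * y⁻¹ * (c0 ^ j)⁻¹ := by group
        _ = c0 ^ i * (c0 ^ j * x) * y * x⁻¹ * ((c0 ^ i)⁻¹ * y⁻¹) * (c0 ^ j)⁻¹ := by rw [h2.eq]; group
        _ = c0 ^ i * c0 ^ j * (x * y * x⁻¹ * y⁻¹) * ((c0 ^ i)⁻¹ * (c0 ^ j)⁻¹) := by
            rw [(h1.inv_inv).symm.eq]; group
        _ = (c0 ^ i * c0 ^ j) * ((x * y * x⁻¹ * y⁻¹) * (c0 ^ i * c0 ^ j)⁻¹) := by
            rw [← mul_inv_rev, ← h3.eq]; group
        _ = x * y * x⁻¹ * y⁻¹ := by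
            have h4 : Commute (x * y * x⁻¹ * y⁻¹) (c0 ^ i * c0 ^ j) := by
              have := hcommQ x hx y hy
              exact (hci i _ (hZqS this)).mul_right (hci j _ (hZqS this))
            rw [← (h4.inv_right).symm.eq, ← mul_assoc, mul_inv_cancel, one_mul]
    rw [e]
    exact hcommQ x hx y hy
  -- invariance of `Zq` under automorphisms of a nonabelian subgroup
  have hinvZ : ∀ {P : Subgroup Ω}, P ≤ S → (∃ a b : P, a * b ≠ b * a) → ∀ α : MulAut P, ∀ x : P,
      (x : Ω) ∈ Zq → ((α x : P) : Ω) ∈ Zq := by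
    intro P hPS ⟨a, b, hab⟩ α x hx
    have hmem : ∀ a b : P, ((a * b * a⁻¹ * b⁻¹ : P) : Ω) ∈ Zq := fun a b => hcommS _ (hPS a.2) _ (hPS b.2)
    set d := a * b * a⁻¹ * b⁻¹ with hd
    have hd1 : (⟨(d : Ω), hmem a b⟩ : Zq) ≠ 1 := fun h => hab (by
      have h1 : d = 1 := Subtype.ext (congrArg Subtype.val h :)
      rw [hd, mul_inv_eq_one, mul_inv_eq_iff_eq_mul] at h1
      exact h1)
    obtain ⟨i, hi⟩ := (Submonoid.mem_powers_iff _ _).mp
      (mem_powers_of_prime_card hzcard hd1 (g' := (⟨(x : Ω), hx⟩ : Zq)))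
    have hxd : x = d ^ i := Subtype.ext (congrArg Subtype.val hi :).symm
    rw [hxd, map_pow, SubmonoidClass.coe_pow, hd, map_mul, map_mul, map_mul, map_inv, map_inv]
    exact Zq.pow_mem (hmem _ _) i
  have hzsP : ∀ {P : Subgroup Ω}, F.IsCentric P → zS S ≤ P := fun {P} hc x hx =>
    hc.2 P (isConj_refl F hc.1) ⟨hx.1, fun y hy => hx.2 y (hc.1 hy)⟩
  -- data of an essential subgroup
  have pack : ∀ P : Subgroup Ω, F.IsEssential p P →
      ∃ (hPc : ∀ a b : P, a * b = b * a),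
        (∀ x : P, (∀ t ∈ autInducedBy S P, t x = x) → (x : Ω) ∈ zS S) ∧
        (∀ t ∈ autInducedBy S P, ∀ x : P, (x : Ω) ∈ zS S → t x = x) ∧
        (∃ γ ∈ F.autGroup P, ∃ x : P, (x : Ω) ∈ Zq ∧ ((γ x : P) : Ω) ∉ Zq) ∧
        (∃ t ∈ autInducedBy S P, t ≠ 1) ∧
        ∀ γ ∈ F.autGroup P, ∀ t ∈ autInducedBy S P, t ≠ 1 → (∃ x : P, (x : Ω) ∈ Zq ∧ ((γ x : P) : Ω) ∉ Zq) →
          ∃ α : MulAut S, Inverting F Zq α ∧ ∀ (k : Ω) (hk : k ∈ zS S) (hkP : k ∈ P),
            (α ⟨k, hk.1⟩ = ⟨k, hk.1⟩ ↔ (γ * t * γ⁻¹) ⟨k, hkP⟩ = ⟨k, hkP⟩) := by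
    intro P hess
    have hlt := IsEssential.lt hF hS hess
    have hc := hess.1
    have hfn := hess.2.1
    have hPS : P ≤ S := hc.1
    have : Finite P := finite_of_le hPS
    have := finite_mulAut hPS
    have hPp : IsPGroup p P := hS.to_le hPS
    have hZP : Zq ≤ P := hZqZs.trans (hzsP hc)
    have hN : ∀ g ∈ S, g ∈ Subgroup.normalizer (P : Set Ω) := fun g hg => mem_normalizer_of_finite fun x hx => by
      rw [← inv_mul_cancel_right (g * x * g⁻¹) x]
      exact P.mul_mem (hZP (hcommS g hg x (hPS hx))) hx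
    have hdisp : ∀ t ∈ autInducedBy S P, ∀ x : P, ((x⁻¹ * t x : P) : Ω) ∈ Zq := by
      intro t ht x
      obtain ⟨g, hg, hgx⟩ := mem_autInducedBy.1 ht
      rw [Subgroup.coe_mul, Subgroup.coe_inv, hgx]
      have := hcommS (x : Ω)⁻¹ (S.inv_mem (hPS x.2)) g hg
      rw [inv_inv] at this
      simpa [mul_assoc] using this
    have hfix : ∀ t ∈ autInducedBy S P, ∀ x : P, (x : Ω) ∈ zS S → t x = x := by
      intro t ht x hx
      obtain ⟨g, hg, hgx⟩ := mem_autInducedBy.1 ht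
      exact Subtype.ext (by rw [hgx, hx.2 g hg, mul_inv_cancel_right])
    have hmove : ∃ γ ∈ F.autGroup P, ∃ x : P, (x : Ω) ∈ Zq ∧ ((γ x : P) : Ω) ∉ Zq := by
      by_contra hinv
      push Not at hinv
      obtain ⟨g, hg, hgP⟩ := SetLike.exists_of_lt hlt
      let W : ℕ → Subgroup P := fun i => if i = 0 then ⊥ else if i = 1 then Zq.subgroupOf P else ⊤
      have h := stab_mem_pCore hPp (F.autGroup P) W 2 rfl rfl (fun α hα i x hx => by
          match i with
          | 0 => simp only [W, if_true, Subgroup.mem_bot] at hx ⊢; rw [hx, map_one]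
          | 1 => exact hinv α hα x hx
          | j + 2 => trivial)
        (β := conjAut (hN g hg)) (conjAut_mem_autGroup F hPS hg (hN g hg)) (fun i hi x hx => by
          have ht : conjAut (hN g hg) ∈ autInducedBy S P := conjAut_mem_autInducedBy hg _
          match i, hi with
          | 0, _ => show _ ∈ (⊥ : Subgroup P); rw [Subgroup.mem_bot, hfix _ ht x (hZqZs hx), inv_mul_cancel]
          | 1, _ => exact hdisp _ ht x)
      rw [(IsEssential.radical hS hF hess).2] at h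
      exact hgP (mem_of_conjAut_inn hc ⟨hg, hN g hg⟩ h)
    have hPc : ∀ a b : P, a * b = b * a := by
      by_contra hab
      push Not at hab
      obtain ⟨γ, -, x, hx, hγx⟩ := hmove
      exact hγx (hinvZ hPS hab γ x hx)
    have hall : ∀ x : P, (∀ t ∈ autInducedBy S P, t x = x) → (x : Ω) ∈ zS S := by
      intro x hx
      refine ⟨hPS x.2, fun g hg => ?_⟩
      have h := congrArg Subtype.val (hx _ (conjAut_mem_autInducedBy hg (hN g hg)))
      rw [conjAut_coe] at h
      exact mul_inv_eq_iff_eq_mul.mp h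
    have hTne : ∃ t ∈ autInducedBy S P, t ≠ 1 := by
      obtain ⟨g, hg, hgP⟩ := SetLike.exists_of_lt hlt
      refine ⟨_, conjAut_mem_autInducedBy hg (hN g hg), fun h => hgP (hc.2 P (isConj_refl F hPS)
        (mem_centralizerIn_iff_conj.2 ⟨hg, fun x hx => ?_⟩))⟩
      exact congrArg (fun α : MulAut P => ((α ⟨x, hx⟩ : P) : Ω)) h
    refine ⟨hPc, hall, hfix, hmove, hTne, fun γ hγ t ht ht1 ⟨x, hx, hγx⟩ => ?_⟩
    letI : CommGroup P := { (inferInstance : Group P) with mul_comm := hPc }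
    obtain ⟨hfa, hrec⟩ := IsSaturated.automized_receptive hS hF hfn
    set T := autInducedBy S P
    have hsyl : ∀ H : Subgroup (MulAut P), H ≤ F.autGroup P → IsPGroup p H →
        ∃ γ ∈ F.autGroup P, ∀ h ∈ H, γ⁻¹ * h * γ ∈ T := by
      intro H hH hHp
      obtain ⟨β, hβ, hX⟩ := IsFullyAutomized.exists_conj hfa (X := H) hH hHp
      exact ⟨β⁻¹, (F.autGroup P).inv_mem hβ, fun h hh => by rw [inv_inv]; exact hX h hh⟩
    have hZc : Nat.card (Zq.subgroupOf P) = p := by
      rw [Nat.card_congr (Subgroup.subgroupOfEquivOfLe hZP).toEquiv, hzcard]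
    obtain ⟨τ, hτ, hτT, hτz, hτd, hτu⟩ := AbelianEssential.exists_inverting (P := P) (p := p) (F.autGroup P) T hsyl
      (Zq.subgroupOf P) hZc hdisp ((zS S).subgroupOf P) hfix hPp (autInducedBy_le_autGroup F hPS) hp2
      (fun y hy => hZqZs hy) hγ ht ht1 (fun e => hγx (by
        have : γ x ∈ (Zq.subgroupOf P).map (γ : P →* P) := ⟨x, hx, rfl⟩
        rw [e] at this
        exact this))
    have hτh := autHom_mem F hPS hτ
    obtain ⟨ψ, hψ, hext, -⟩ := IsReceptive.extend hrec hτh (range_autHom _)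
    have hext' : extender S P (autHom τ) = S := by
      refine le_antisymm (extender_le _ _ _) fun g hg => ?_
      rw [mem_extender_iff_congr (F.injective_of_mem hτh) (range_autHom _) ⟨hg, hN g hg⟩]
      have e : isoOf (autHom τ) (F.injective_of_mem hτh) (range_autHom _) = τ :=
        MulEquiv.ext fun x => Subtype.ext rfl
      rw [e]
      exact hτT _ (conjAut_mem_autInducedBy hg (hN g hg))
    have hψS := restr_mem F hψ hext'.ge
    set φ := restr hext'.ge ψ with hφ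
    have hr : φ.range = S := Subgroup.eq_of_le_of_card_ge (range_le hψS) (card_range_eq (F.injective_of_mem hψS)).ge
    set α := isoOf φ (F.injective_of_mem hψS) hr with hα
    have hαA : α ∈ F.autGroup S := mem_autGroup_of_hom F (α := α) hψS
    have hαP : ∀ (y : Ω) (hy : y ∈ P), ((α ⟨y, hPS hy⟩ : S) : Ω) = ((τ ⟨y, hy⟩ : P) : Ω) := fun y hy =>
      hext y hy _
    refine ⟨α, ⟨hαA, fun c hc' => ?_, fun c hc' => ?_⟩, fun k hk hkP => ?_⟩
    · refine Subtype.ext ?_
      rw [show c = ⟨(c : Ω), hPS (hZP hc')⟩ from rfl, hαP _ (hZP hc'), hτz ⟨(c : Ω), hZP hc'⟩ hc']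
      rfl
    · obtain ⟨k, hk, hτk, hck⟩ := hτd ⟨(c : Ω), hzsP hc hc'⟩ hc'
      refine ⟨⟨(k : Ω), hPS k.2⟩, hk, Subtype.ext ?_, hck⟩
      rw [hαP _ k.2]
      exact congrArg Subtype.val hτk
    · rw [← hτu ⟨k, hkP⟩ hk, Subtype.ext_iff, Subtype.ext_iff, hαP k hkP]
  by_cases hex : ∃ P, F.IsEssential p P
  · obtain ⟨P₀, hP₀⟩ := hex
    obtain ⟨-, -, -, ⟨γ₀, hγ₀, hx₀⟩, ⟨t₀, ht₀, ht₀1⟩, hmk⟩ := pack P₀ hP₀
    obtain ⟨α₀, hα₀, -⟩ := hmk γ₀ hγ₀ t₀ ht₀ ht₀1 hx₀
    set Y : Subgroup Ω := ((zS S).subgroupOf S ⊓ MonoidHom.eqLocus α₀.toMonoidHom (MonoidHom.id S)).map S.subtype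
    have memY : ∀ {y : Ω}, y ∈ Y ↔ ∃ hy : y ∈ zS S, α₀ ⟨y, hy.1⟩ = ⟨y, hy.1⟩ := fun {y} => by
      constructor
      · rintro ⟨w, ⟨hw, hw'⟩, rfl⟩
        exact ⟨hw, hw'⟩
      · rintro ⟨hy, hy'⟩
        exact ⟨⟨y, hy.1⟩, ⟨hy, hy'⟩, rfl⟩
    have hYne : Y ≠ ⊥ := by
      obtain ⟨k, hk, hk', hck⟩ := hα₀.2.2 ⟨c0, hc0.1⟩ hc0
      intro h
      have : (k : Ω) ∈ Y := memY.2 ⟨hk, hk'⟩
      rw [h, Subgroup.mem_bot] at this
      have hk1 : k = 1 := Subtype.ext this
      rw [hk1, inv_one, mul_one] at hck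
      exact hc0Q hck.1
    have hnorm : F.IsNormal Y := by
      refine (normal_iff_invariant hS hF Y).2 fun P hP => ?_
      have hYS : Y ≤ zS S := fun y hy => (memY.1 hy).1
      have hYP : Y ≤ P := by
        rcases hP with rfl | hP
        · exact hYS.trans inf_le_left
        · exact hYS.trans (hzsP hP.1)
      refine ⟨hYP, fun β hβ => ?_⟩
      have hPS : P ≤ S := by
        rcases hP with rfl | hP
        · exact le_rfl
        · exact hP.1.1
      have : Finite P := finite_of_le hPS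
      refine Subgroup.eq_of_le_of_card_ge ?_ (Subgroup.card_map_of_injective β.injective).ge
      rintro _ ⟨y, hy, rfl⟩
      obtain ⟨hy1, hy2⟩ := memY.1 hy
      rcases hP with rfl | hP
      · have hnc : ∃ a b : P, a * b ≠ b * a := by
          by_contra h
          push Not at h
          exact hc0Q (by
            have hall : ∀ a : Q, a ∈ Subgroup.center Q := fun a => Subgroup.mem_center_iff.mpr fun b =>
              Subtype.ext (congrArg Subtype.val (h ⟨b, hQS b.2⟩ ⟨a, hQS a.2⟩) :)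
            have hbot : commutator Q = ⊥ := by
              rw [commutator_def, eq_bot_iff, Subgroup.commutator_le]
              intro a _ b _
              rw [Subgroup.mem_bot, commutatorElement_eq_one_iff_mul_comm]
              exact (Subgroup.mem_center_iff.mp (hall a) b).symm
            have h1 := hQ.2
            rw [← hQ.1.2.2, hbot, Subgroup.card_bot] at h1
            exact absurd h1.symm hpp.ne_one)
        have hconj : Inverting F Zq (β * α₀ * β⁻¹) := by
          refine ⟨(F.autGroup P).mul_mem ((F.autGroup P).mul_mem hβ hα₀.1) ((F.autGroup P).inv_mem hβ),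
            fun c hc => ?_, fun c hc => ?_⟩
          · rw [MulAut.mul_apply, MulAut.mul_apply, hα₀.2.1 _ (hinvZ le_rfl hnc β⁻¹ c hc), map_inv,
              MulAut.apply_inv_self]
          · obtain ⟨k, hk, hk', hck⟩ := hα₀.2.2 (β⁻¹ c) (zS_invariant β⁻¹ hc)
            refine ⟨β k, zS_invariant β hk, ?_, ?_⟩
            · rw [MulAut.mul_apply, MulAut.mul_apply, MulAut.inv_apply_self, hk']
            · have := hinvZ le_rfl hnc β _ hck
              rw [map_mul, map_inv, MulAut.apply_inv_self] at this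
              exact this
        refine memY.2 ⟨zS_invariant β (c := y) hy1, ?_⟩
        have h := agree hS hF hzcard hZqZs hα₀ hconj (c := β y) (zS_invariant β hy1)
        rw [MulAut.mul_apply, MulAut.mul_apply, MulAut.inv_apply_self, show α₀ y = y from hy2] at h
        exact h
      · obtain ⟨-, hall, hfix, ⟨γ, hγ, hx⟩, ⟨t, ht, ht1⟩, hmk⟩ := pack P hP
        have hfixall : ∀ δ ∈ F.autGroup P, ∀ s ∈ autInducedBy S P, (δ * s * δ⁻¹) y = y := by
          intro δ hδ s hs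
          by_cases hs1 : s = 1
          · subst hs1; simp
          by_cases hδZ : ∃ x : P, (x : Ω) ∈ Zq ∧ ((δ x : P) : Ω) ∉ Zq
          · obtain ⟨α, hα, hiff⟩ := hmk δ hδ s hs hs1 hδZ
            refine (hiff y hy1 y.2).1 ?_
            rw [← agree hS hF hzcard hZqZs hα₀ hα hy1]
            exact hy2
          · push Not at hδZ
            have hsT : δ * s * δ⁻¹ ∈ autInducedBy S P := by
              letI : CommGroup P := { (inferInstance : Group P) with mul_comm := (pack P hP).choose }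
              have hfa := (IsSaturated.automized_receptive hS hF hP.2.1).1
              have hTA := autInducedBy_le_autGroup F hPS
              have hdisp : ∀ t ∈ autInducedBy S P, ∀ x : P, x⁻¹ * t x ∈ Zq.subgroupOf P := by
                intro t ht x
                obtain ⟨g, hg, hgx⟩ := mem_autInducedBy.1 ht
                rw [Subgroup.mem_subgroupOf, Subgroup.coe_mul, Subgroup.coe_inv, hgx]
                have h5 := hcommS (x : Ω)⁻¹ (S.inv_mem (hPS x.2)) g hg
                rw [inv_inv] at h5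
                simpa [mul_assoc] using h5
              refine AbelianEssential.mem_T_of_stab (p := p) (F.autGroup P) _ (fun H hH hHp => ?_) (Zq.subgroupOf P)
                hdisp (fun t ht z hz => hfix t ht z (hZqZs hz)) (hS.to_le hPS) hTA
                ((F.autGroup P).mul_mem ((F.autGroup P).mul_mem hδ (hTA hs)) ((F.autGroup P).inv_mem hδ)) ?_
              · obtain ⟨β', hβ', hX⟩ := IsFullyAutomized.exists_conj hfa (X := H) hH hHp
                exact ⟨β'⁻¹, (F.autGroup P).inv_mem hβ', fun h hh => by rw [inv_inv]; exact hX h hh⟩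
              · have hd : ∀ x : P, x⁻¹ * (δ * s * δ⁻¹) x ∈ Zq.subgroupOf P := fun x => by
                  have e : x⁻¹ * (δ * s * δ⁻¹) x = δ ((δ⁻¹ x)⁻¹ * s (δ⁻¹ x)) := by simp [MulAut.mul_apply]
                  rw [e]
                  exact hδZ _ (hdisp s hs _)
                refine ⟨fun z hz => ?_, fun v _ => hd v, hd⟩
                have hδ' : δ⁻¹ z ∈ Zq.subgroupOf P := by
                  have hmap : (Zq.subgroupOf P).map (δ : P →* P) = Zq.subgroupOf P :=
                    Subgroup.eq_of_le_of_card_ge (by rintro _ ⟨w, hw, rfl⟩; exact hδZ w hw)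
                      (Subgroup.card_map_of_injective δ.injective).ge
                  rw [← hmap] at hz
                  obtain ⟨w, hw, rfl⟩ := hz
                  show δ⁻¹ (δ w) ∈ _
                  rw [MulAut.inv_apply_self]
                  exact hw
                rw [MulAut.mul_apply, MulAut.mul_apply, hfix s hs _ (hZqZs hδ'), MulAut.apply_inv_self]
            exact hfix _ hsT y hy1
        have hβall : ∀ δ ∈ F.autGroup P, ∀ s ∈ autInducedBy S P, (δ * s * δ⁻¹) (β y) = β y := by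
          intro δ hδ s hs
          have h := hfixall (β⁻¹ * δ) ((F.autGroup P).mul_mem ((F.autGroup P).inv_mem hβ) hδ) s hs
          have h2 := congrArg β h
          simpa [MulAut.mul_apply] using h2
        have hmem : ((β y : P) : Ω) ∈ zS S := hall _ fun s hs => by
          simpa using hβall 1 (one_mem _) s hs
        refine memY.2 ⟨hmem, ?_⟩
        obtain ⟨α, hα, hiff⟩ := hmk γ hγ t ht ht1 hx
        rw [agree hS hF hzcard hZqZs hα₀ hα hmem]
        exact (hiff _ hmem (β y).2).2 (hβall γ hγ t ht)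
    exact hYne (le_bot_iff.mp (hO ▸ le_core hnorm))
  · have hnorm : F.IsNormal S := by
      refine (normal_iff_invariant hS hF S).2 fun P hP => ?_
      obtain rfl := hP.resolve_right fun h => hex ⟨P, h⟩
      refine ⟨le_rfl, fun α _ => ?_⟩
      rw [Subgroup.subgroupOf_self, Subgroup.map_top_of_surjective _ α.surjective]
    have hS1 := le_bot_iff.mp (hO ▸ le_core hnorm)
    exact hc0Q (by
      have : c0 ∈ (⊥ : Subgroup Ω) := hS1 ▸ hc0.1
      rw [Subgroup.mem_bot] at this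
      rw [this]
      exact one_mem _)

end Cfsg.Agent.S5178
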