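import Cfsg.Statements.S5185
import Cfsg.Agent.Lib.Fusion.EssentialSeries

set_option autoImplicit false
universe u
open Cfsg Cfsg.FusionSystem Cfsg.Agent.Lib.Fusion
open scoped Matrix

namespace Cfsg.Agent.S5185

open Matrix in
/-- The upper unitriangular element. -/
def upU {p : ℕ} (x : ZMod p) : Matrix.SpecialLinearGroup (Fin 2) (ZMod p) :=
  ⟨!![1, x; 0, 1], by simp [Matrix.det_fin_two]⟩

/-- The lower unitriangular element. -/
def loU {p : ℕ} (x : ZMod p) : Matrix.SpecialLinearGroup (Fin 2) (ZMod p) :=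
  ⟨!![1, 0; x, 1], by simp [Matrix.det_fin_two]⟩

theorem coe_upU {p : ℕ} (x : ZMod p) :
    ((upU x : Matrix.SpecialLinearGroup (Fin 2) (ZMod p)) : Matrix (Fin 2) (Fin 2) (ZMod p)) =
      !![1, x; 0, 1] := rfl

theorem coe_loU {p : ℕ} (x : ZMod p) :
    ((loU x : Matrix.SpecialLinearGroup (Fin 2) (ZMod p)) : Matrix (Fin 2) (Fin 2) (ZMod p)) =
      !![1, 0; x, 1] := rfl

theorem pow_upU {p : ℕ} (x : ZMod p) (n : ℕ) : upU x ^ n = upU ((n : ZMod p) * x) := by
  induction n with
  | zero =>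
    apply Subtype.ext
    ext i j
    simp only [pow_zero, Matrix.SpecialLinearGroup.coe_one, coe_upU]
    fin_cases i <;> fin_cases j <;> simp
  | succ n ih =>
    rw [pow_succ, ih]
    apply Subtype.ext
    ext i j
    simp only [Matrix.SpecialLinearGroup.coe_mul, coe_upU]
    fin_cases i <;> fin_cases j <;> simp [Matrix.mul_apply, Fin.sum_univ_two]
    ring

theorem pow_loU {p : ℕ} (x : ZMod p) (n : ℕ) : loU x ^ n = loU ((n : ZMod p) * x) := by
  induction n with
  | zero =>
    apply Subtype.ext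
    ext i j
    simp only [pow_zero, Matrix.SpecialLinearGroup.coe_one, coe_loU]
    fin_cases i <;> fin_cases j <;> simp
  | succ n ih =>
    rw [pow_succ, ih]
    apply Subtype.ext
    ext i j
    simp only [Matrix.SpecialLinearGroup.coe_mul, coe_loU]
    fin_cases i <;> fin_cases j <;> simp [Matrix.mul_apply, Fin.sum_univ_two]
    ring

theorem eq_top_of_unipotent {p : ℕ} [Fact p.Prime]
    (M : Subgroup (Matrix.SpecialLinearGroup (Fin 2) (ZMod p))) {a b : ZMod p} (ha : a ≠ 0)
    (hb : b ≠ 0) (hU : upU a ∈ M) (hL : loU b ∈ M) : M = ⊤ := by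
  have hU' : ∀ x, upU x ∈ M := fun x => by
    have h := M.pow_mem hU (x * a⁻¹).val
    rwa [pow_upU, ZMod.natCast_zmod_val, inv_mul_cancel_right₀ ha] at h
  have hL' : ∀ x, loU x ∈ M := fun x => by
    have h := M.pow_mem hL (x * b⁻¹).val
    rwa [pow_loU, ZMod.natCast_zmod_val, inv_mul_cancel_right₀ hb] at h
  have big : ∀ g : Matrix.SpecialLinearGroup (Fin 2) (ZMod p), g 1 0 ≠ 0 → g ∈ M := by
    intro g hc
    have hd : g 0 0 * g 1 1 - g 0 1 * g 1 0 = 1 := by
      rw [← Matrix.det_fin_two]; exact g.2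
    have e : g = upU ((g 0 0 - 1) / g 1 0) * loU (g 1 0) * upU ((g 1 1 - 1) / g 1 0) := by
      apply Subtype.ext
      ext i j
      simp only [Matrix.SpecialLinearGroup.coe_mul, coe_upU, coe_loU]
      fin_cases i <;> fin_cases j <;> simp [Matrix.mul_apply, Fin.sum_univ_two] <;>
        field_simp <;> first | ring1 | linear_combination hd | linear_combination -hd
    rw [e]
    exact M.mul_mem (M.mul_mem (hU' _) (hL' _)) (hU' _)
  rw [eq_top_iff]
  intro g _
  by_cases hc : g 1 0 = 0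
  · have h : loU 1 * g ∈ M := by
      refine big _ ?_
      have hd : g 0 0 * g 1 1 - g 0 1 * g 1 0 = 1 := by
        rw [← Matrix.det_fin_two]; exact g.2
      rw [hc, mul_zero, sub_zero] at hd
      simp only [Matrix.SpecialLinearGroup.coe_mul, coe_loU]
      simp [Matrix.mul_apply, Fin.sum_univ_two, hc]
      exact fun h => by simp [h] at hd
    exact (M.mul_mem_cancel_left (hL' 1)).1 h
  · exact big g hc

/-- Let F be a saturated fusion system over a finite p-group S and H an essential subgroup of order p². Then H is elementary abelian (isomorphic to C_p × C_p) and its F-automorphism group contains a subgroup isomorphic to SL(2,p). -/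
theorem result {Ω : Type u} [Group Ω] {S : Subgroup Ω} [Finite S] (p : ℕ) [Fact p.Prime] (hS : IsPGroup p S)
    (F : Cfsg.FusionSystem S) (hF : F.IsSaturated p) (H : Subgroup Ω) (hH : F.IsEssential p H) (hcard : Nat.card H = p ^ 2) :
    Cfsg.IsElementaryAbelian p H ∧
      ∃ K : Subgroup ↥(F.autGroup H), Nonempty (↥K ≃* Matrix.SpecialLinearGroup (Fin 2) (ZMod p)) := by
  classical
  have hp : p.Prime := Fact.out
  have hHS := hH.1.1
  have := finite_of_le hHS
  haveI hcm : IsMulCommutative ↥H := ⟨⟨IsPGroup.commutative_of_card_eq_prime_sq hcard⟩⟩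
  have hexp : ∀ x : H, x ^ p = 1 := by
    intro x
    by_contra hx
    have hxo : orderOf x = p ^ (1 + 1) := by
      refine orderOf_eq_prime_pow (by rwa [pow_one]) ?_
      rw [← hcard]
      exact pow_card_eq_one'
    have htop : Subgroup.zpowers x = ⊤ :=
      Subgroup.eq_top_of_card_eq _ (by rw [Nat.card_zpowers, hxo, hcard])
    have hA : Nat.card (Subgroup.zpowers (x ^ p)) = p := by
      rw [Nat.card_zpowers, orderOf_pow, hxo, pow_succ, pow_one, Nat.gcd_eq_right (Dvd.intro _ rfl),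
        Nat.mul_div_cancel _ hp.pos]
    have hinv : ∀ α ∈ F.autGroup H, ∀ y ∈ Subgroup.zpowers (x ^ p), α y ∈ Subgroup.zpowers (x ^ p) := by
      intro α _ y hy
      obtain ⟨n, rfl⟩ := Subgroup.mem_zpowers_iff.1 hy
      obtain ⟨m, hm⟩ := Subgroup.mem_zpowers_iff.1 (htop.ge (Subgroup.mem_top (α x)))
      have e : (x ^ m) ^ p = (x ^ p) ^ m := by
        rw [← zpow_natCast, ← zpow_mul, mul_comm, zpow_mul, zpow_natCast]
      rw [map_zpow, map_pow, ← hm, e]
      exact zpow_mem (zpow_mem (Subgroup.mem_zpowers _) _) _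
    refine IsEssential.not_chain hS hF hH (le_refl (Subgroup.zpowers (x ^ p))) (by rw [hA])
      (by rw [Subgroup.relIndex_self]; exact one_dvd p) ?_ hinv hinv
    have := Subgroup.card_mul_index (Subgroup.zpowers (x ^ p))
    rw [hA, hcard, pow_two] at this
    rw [Nat.eq_of_mul_eq_mul_left hp.pos this]
  refine ⟨⟨hcm, fun x hx => congrArg Subtype.val (hexp ⟨x, hx⟩)⟩, ?_⟩
  obtain ⟨g, hg, hgH⟩ := SetLike.exists_of_lt (lt_normalizerIn hS (IsEssential.lt hF hS hH))
  set α : MulAut H := conjAut hg.2 with hαdef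
  have hαA : α ∈ F.autGroup H := conjAut_mem_autGroup F hHS hg.1 hg.2
  have hα1 : α ≠ 1 := fun h => hgH (mem_of_conjAut_inn hH.1 hg (by rw [← hαdef, h]; exact one_mem _))
  obtain ⟨k, hk⟩ := isPGroup_autInducedBy hS H ⟨α, conjAut_mem_autInducedBy hg.1 hg.2⟩
  have hk' : α ^ p ^ k = 1 := congrArg Subtype.val hk
  let L : Subgroup H := α.toMonoidHom.eqLocus (MonoidHom.id H)
  have hLtop : L ≠ ⊤ := fun h => hα1 (MulEquiv.ext fun y => h.ge (Subgroup.mem_top y))
  have hLbot : L ≠ ⊥ := by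
    intro h
    have hpG : IsPGroup p (Subgroup.zpowers α) :=
      (isPGroup_autInducedBy hS H).to_le
        (Subgroup.zpowers_le.2 (conjAut_mem_autInducedBy hg.1 hg.2))
    have h1 : (1 : H) ∈ MulAction.fixedPoints (Subgroup.zpowers α) H := fun b => map_one (b : MulAut H)
    obtain ⟨b, hb, hb1⟩ := hpG.exists_fixed_point_of_prime_dvd_card_of_fixed_point H
      (by rw [hcard]; exact dvd_pow_self p two_ne_zero) h1
    exact hb1 ((Subgroup.mem_bot).1 (h.le (hb ⟨α, Subgroup.mem_zpowers α⟩))).symm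
  have hLcard : Nat.card L = p := by
    obtain ⟨i, hi, hi'⟩ := (Nat.dvd_prime_pow hp).1 (hcard ▸ L.card_subgroup_dvd_card)
    interval_cases i
    · exact absurd (Subgroup.eq_bot_of_card_eq _ (by rw [hi', pow_zero])) hLbot
    · rw [hi', pow_one]
    · exact absurd (Subgroup.eq_top_of_card_eq _ (by rw [hi', hcard])) hLtop
  have hidx : ∀ U : Subgroup H, Nat.card U = p → U.index = p := fun U hU => by
    have := Subgroup.card_mul_index U
    rw [hU, hcard, pow_two] at this
    exact Nat.eq_of_mul_eq_mul_left hp.pos this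
  obtain ⟨γ, hγ, e₁, hxL, hγx⟩ : ∃ γ ∈ F.autGroup H, ∃ x ∈ L, γ x ∉ L := by
    by_contra! h
    exact IsEssential.not_chain hS hF hH (le_refl L) (by rw [hLcard])
      (by rw [Subgroup.relIndex_self]; exact one_dvd p) (by rw [hidx L hLcard]) h h
  set e₂ : H := γ e₁ with he₂
  have hx1 : e₁ ≠ 1 := fun h => hγx (by rw [he₂, h, map_one]; exact L.one_mem)
  have hzp : ∀ (e : H) (a b : ZMod p), e ^ (a + b).val = e ^ a.val * e ^ b.val := fun e a b => by
    rw [← pow_add, ZMod.val_add, ← pow_eq_pow_mod _ (hexp e)]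
  have hmp : ∀ (e : H) (a : ZMod p), a ≠ 0 → e = (e ^ a.val) ^ (a⁻¹).val := fun e a ha => by
    rw [← pow_mul, pow_eq_pow_mod (a.val * (a⁻¹).val) (hexp e), ← ZMod.val_mul, mul_inv_cancel₀ ha,
      ZMod.val_one, pow_one]
  let f : Multiplicative (Fin 2 → ZMod p) →* H :=
    MonoidHom.mk' (fun v => e₁ ^ (v.toAdd 0).val * e₂ ^ (v.toAdd 1).val) fun v w => by
      show e₁ ^ (v.toAdd 0 + w.toAdd 0).val * e₂ ^ (v.toAdd 1 + w.toAdd 1).val = _
      rw [hzp, hzp, mul_assoc, mul_assoc, ← mul_assoc (e₁ ^ (w.toAdd 0).val), mul_comm' (e₁ ^ (w.toAdd 0).val), mul_assoc]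
  have hf1 : ∀ v : Multiplicative (Fin 2 → ZMod p), f v ∈ L → v.toAdd 1 = 0 := by
    intro v hv
    by_contra h
    have h2 : e₂ ^ (v.toAdd 1).val ∈ L :=
      (L.mul_mem_cancel_left (L.pow_mem hxL _)).1 hv
    exact hγx (by rw [hmp e₂ _ h]; exact L.pow_mem h2 _)
  have hfi : Function.Injective f := by
    rw [injective_iff_map_eq_one]
    intro v hv
    have h1 := hf1 v (hv ▸ L.one_mem)
    have h0 : v.toAdd 0 = 0 := by
      by_contra h
      have h2 : e₁ ^ (v.toAdd 0).val = 1 := by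
        have : e₁ ^ (v.toAdd 0).val * e₂ ^ (v.toAdd 1).val = 1 := hv
        rwa [h1, ZMod.val_zero, pow_zero, mul_one] at this
      exact hx1 (by rw [hmp e₁ _ h, h2, one_pow])
    refine Multiplicative.toAdd.injective (funext fun i => ?_)
    fin_cases i
    · exact h0
    · exact h1
  let E : Multiplicative (Fin 2 → ZMod p) ≃* H := MulEquiv.ofBijective f
    ((Nat.bijective_iff_injective_and_card f).2 ⟨hfi, by simp [hcard]⟩)
  have hE : ∀ v, E v = f v := fun v => rfl
  let Φ : Matrix.SpecialLinearGroup (Fin 2) (ZMod p) →* MulAut H :=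
    MonoidHom.mk' (fun u => E.symm.trans
        ((AddEquiv.toMultiplicative (Matrix.SpecialLinearGroup.toLin' u).toAddEquiv).trans E))
      fun u w => by
        ext y
        simp [map_mul]
  have hΦ : ∀ u v, Φ u (E v) = E (Multiplicative.ofAdd (u.1 *ᵥ v.toAdd)) := fun u v => by
    simp [Φ, Matrix.SpecialLinearGroup.toLin'_apply]
  set s₀ : Multiplicative (Fin 2 → ZMod p) := Multiplicative.ofAdd ![1, 0] with hs₀
  set s₁ : Multiplicative (Fin 2 → ZMod p) := Multiplicative.ofAdd ![0, 1] with hs₁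
  have hv : ∀ v : Multiplicative (Fin 2 → ZMod p),
      v = s₀ ^ (v.toAdd 0).val * s₁ ^ (v.toAdd 1).val := fun v => by
    refine Multiplicative.toAdd.injective (funext fun i => ?_)
    fin_cases i <;> simp [hs₀, hs₁]
  have he0 : E s₀ = e₁ := by simp [hE, f, hs₀, ZMod.val_one]
  have he1 : E s₁ = e₂ := by simp [hE, f, hs₁, ZMod.val_one]
  let M := (F.autGroup H).comap Φ
  have hgen : ∀ u, ∀ δ ∈ F.autGroup H, Φ u e₁ = δ e₁ → Φ u e₂ = δ e₂ → u ∈ M := by
    intro u δ hδ h1 h2
    have : Φ u = δ := MulEquiv.ext fun y => by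
      obtain ⟨v, rfl⟩ := E.surjective y
      conv_lhs => rw [hv v, map_mul, map_pow, map_pow, he0, he1, map_mul, map_pow, map_pow, h1, h2]
      conv_rhs => rw [hv v, map_mul, map_pow, map_pow, he0, he1, map_mul, map_pow, map_pow]
    show Φ u ∈ F.autGroup H
    rw [this]; exact hδ
  obtain ⟨a, ha, hUa⟩ : ∃ a : ZMod p, a ≠ 0 ∧ upU a ∈ M := by
    have h := mulAut_fix_of_prime_factor α hk' L ⊤
      (fun y hy => by rw [show α y = y from hy]; exact hy) (fun _ _ => trivial)
      (by rw [Subgroup.relIndex_top_right, hidx L hLcard]) (Subgroup.mem_top e₂)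
    obtain ⟨w, hw⟩ := E.surjective (e₂⁻¹ * α e₂)
    have hw1 : w.toAdd 1 = 0 := hf1 w (by rw [← hE, hw]; exact h)
    have hα2 : α e₂ = e₁ ^ (w.toAdd 0).val * e₂ := by
      have : e₁ ^ (w.toAdd 0).val * e₂ ^ (w.toAdd 1).val = e₂⁻¹ * α e₂ := hw
      rw [hw1, ZMod.val_zero, pow_zero, mul_one] at this
      rw [this, mul_comm' (e₂⁻¹) (α e₂), inv_mul_cancel_right]
    refine ⟨w.toAdd 0, fun h0 => hα1 ?_, hgen _ α hαA ?_ ?_⟩
    · refine MulEquiv.ext fun y => ?_
      obtain ⟨v, rfl⟩ := E.surjective y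
      rw [h0, ZMod.val_zero, pow_zero, one_mul] at hα2
      rw [hv v, map_mul, map_pow, map_pow, he0, he1, map_mul, map_pow, map_pow, hα2,
        show α e₁ = e₁ from hxL]
      simp
    · rw [show α e₁ = e₁ from hxL]
      conv_lhs => rw [← he0]
      rw [hΦ, ← he0]
      congr 1
      refine Multiplicative.toAdd.injective (funext fun i => ?_)
      fin_cases i <;> simp [upU, hs₀, Matrix.mulVec, dotProduct, Fin.sum_univ_two]
    · rw [hα2]
      conv_lhs => rw [← he1]
      rw [hΦ]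
      simp [hE, f, upU, hs₁, Matrix.mulVec, dotProduct, Fin.sum_univ_two, ZMod.val_one]
  obtain ⟨b, hb, hLb⟩ : ∃ b : ZMod p, b ≠ 0 ∧ loU b ∈ M := by
    set β : MulAut H := γ * α * γ⁻¹ with hβdef
    have hβA : β ∈ F.autGroup H := mul_mem (mul_mem hγ hαA) (inv_mem hγ)
    have hβk : β ^ p ^ k = 1 := by
      rw [hβdef, conj_pow, hk', mul_one, mul_inv_cancel]
    have hβ1 : β ≠ 1 := fun h => hα1 (conj_eq_one_iff.1 h)
    let L' : Subgroup H := L.map γ.toMonoidHom
    have hβfix : ∀ y ∈ L', β y = y := by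
      rintro _ ⟨z, hz, rfl⟩
      show γ (α (γ⁻¹ (γ z))) = γ z
      rw [show γ⁻¹ (γ z) = z from γ.symm_apply_apply z, show α z = z from hz]
    have hL'card : Nat.card L' = p := by
      rw [Subgroup.card_map_of_injective γ.injective, hLcard]
    have he2L : e₂ ∈ L' := ⟨e₁, hxL, rfl⟩
    have he1L : e₁ ∉ L' := fun h => by
      have hzz : Subgroup.zpowers e₁ = L :=
        Subgroup.eq_of_le_of_card_ge (Subgroup.zpowers_le.2 hxL)
          (by rw [Nat.card_zpowers, orderOf_eq_prime (hexp e₁) hx1, hLcard])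
      have hLL : L = L' := Subgroup.eq_of_le_of_card_ge (hzz ▸ Subgroup.zpowers_le.2 h)
        (by rw [hL'card, hLcard])
      exact hγx (hLL ▸ he2L)
    have h := mulAut_fix_of_prime_factor β hβk L' ⊤
      (fun y hy => by rw [hβfix y hy]; exact hy) (fun _ _ => trivial)
      (by rw [Subgroup.relIndex_top_right, hidx L' hL'card]) (Subgroup.mem_top e₁)
    obtain ⟨w, hw⟩ := E.surjective (e₁⁻¹ * β e₁)
    have hw' : e₁ ^ (w.toAdd 0).val * e₂ ^ (w.toAdd 1).val = e₁⁻¹ * β e₁ := hw
    have hw0 : w.toAdd 0 = 0 := by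
      by_contra h0
      have h2 : e₁ ^ (w.toAdd 0).val ∈ L' :=
        (L'.mul_mem_cancel_right (L'.pow_mem he2L _)).1 (hw' ▸ h)
      exact he1L (by rw [hmp e₁ _ h0]; exact L'.pow_mem h2 _)
    rw [hw0, ZMod.val_zero, pow_zero, one_mul] at hw'
    have hβ2 : β e₁ = e₁ * e₂ ^ (w.toAdd 1).val := by rw [hw', mul_inv_cancel_left]
    refine ⟨w.toAdd 1, fun h0 => hβ1 ?_, hgen _ β hβA ?_ ?_⟩
    · refine MulEquiv.ext fun y => ?_
      obtain ⟨v, rfl⟩ := E.surjective y
      rw [h0, ZMod.val_zero, pow_zero, mul_one] at hβ2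
      rw [hv v, map_mul, map_pow, map_pow, he0, he1, map_mul, map_pow, map_pow, hβ2,
        hβfix e₂ he2L]
      simp
    · rw [hβ2]
      conv_lhs => rw [← he0]
      rw [hΦ]
      simp [hE, f, loU, hs₀, Matrix.mulVec, dotProduct, Fin.sum_univ_two, ZMod.val_one]
    · rw [hβfix e₂ he2L]
      conv_lhs => rw [← he1]
      rw [hΦ, ← he1]
      congr 1
      refine Multiplicative.toAdd.injective (funext fun i => ?_)
      fin_cases i <;> simp [loU, hs₁, Matrix.mulVec, dotProduct, Fin.sum_univ_two]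
  have hMtop : M = ⊤ := eq_top_of_unipotent M ha hb hUa hLb
  have hrange : ∀ u, Φ u ∈ F.autGroup H := fun u => hMtop.ge (Subgroup.mem_top u)
  let Ψ : Matrix.SpecialLinearGroup (Fin 2) (ZMod p) →* F.autGroup H := Φ.codRestrict _ hrange
  have hinj : Function.Injective Ψ := by
    intro u w huw
    have huw' : Φ u = Φ w := congrArg Subtype.val huw
    apply Subtype.ext
    ext i j
    have h3 := congrArg (fun d : MulAut H => (E.symm (d (E (Multiplicative.ofAdd (Pi.single j 1))))).toAdd i) huw'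
    simpa [hΦ, Matrix.mulVec_single] using h3
  exact ⟨Ψ.range, ⟨(MonoidHom.ofInjective hinj).symm⟩⟩

end Cfsg.Agent.S5185
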