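import Cfsg.Statements.S5186
import Cfsg.Agent.Lib.Fusion.EssentialSeries
import Cfsg.Agent.Lib.Cores.SmallPGroup
import Cfsg.Agent.Lib.Cores.Frattini
import Cfsg.Agent.Lib.LocalEven.Subnormal
import Cfsg.Agent.Lib.Classical.SLTwoTorus
import Cfsg.Agent.Lib.Components.PRank3

set_option autoImplicit false
universe u
open Cfsg Cfsg.FusionSystem Cfsg.Agent.Lib.Fusion

namespace Cfsg.Agent.S5186

theorem inv_of_char {G : Type*} [Group G] {P : G → Prop} (h : ∀ (α : MulAut G) x, P x → P (α x))
    (α : MulAut G) : ∀ x ∈ Subgroup.closure {x : G | P x}, α x ∈ Subgroup.closure {x : G | P x} := by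
  intro x hx
  have h1 : Subgroup.closure {x : G | P x} ≤ (Subgroup.closure {x : G | P x}).comap α.toMonoidHom :=
    (Subgroup.closure_le _).2 fun y hy => Subgroup.subset_closure (h α y hy)
  exact h1 hx

/-- Structure of non-abelian groups of order `p ^ 3`. -/
theorem cube_facts {G : Type*} [Group G] [Finite G] {p : ℕ} [Fact p.Prime] (hG : IsPGroup p G)
    (hc : Nat.card G = p ^ 3) (hna : ¬ IsMulCommutative G) :
    Cfsg.IsExtraspecial p G ∧ (∀ x : G, x ^ p ∈ Subgroup.center G) ∧
      ∀ x y : G, x * y * x⁻¹ * y⁻¹ ∈ Subgroup.center G := by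
  have hp : p.Prime := Fact.out
  have hZ := Cfsg.Agent.Lib.Cores.card_center_of_card_cube hG hc hna
  have hq : Nat.card (G ⧸ Subgroup.center G) = p ^ 2 := by
    have h := Subgroup.card_eq_card_quotient_mul_card_subgroup (Subgroup.center G)
    rw [hc, hZ, pow_succ] at h
    exact (Nat.eq_of_mul_eq_mul_right hp.pos h).symm
  have hqc : ∀ a b : G ⧸ Subgroup.center G, a * b = b * a :=
    IsPGroup.commutative_of_card_eq_prime_sq hq
  have hpow : ∀ x : G, x ^ p ∈ Subgroup.center G := by
    intro x
    by_contra hx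
    refine hna ?_
    haveI : IsCyclic (G ⧸ Subgroup.center G) := by
      refine isCyclic_iff_exists_orderOf_eq_natCard.2 ⟨(x : G ⧸ Subgroup.center G), ?_⟩
      rw [hq]
      refine orderOf_eq_prime_pow (n := 1) ?_ ?_
      · rwa [pow_one, ← QuotientGroup.mk_pow, QuotientGroup.eq_one_iff]
      · rw [← hq]; exact pow_card_eq_one'
    exact ⟨⟨commutative_of_cyclic_center_quotient (QuotientGroup.mk' (Subgroup.center G))
      (by rw [QuotientGroup.ker_mk'])⟩⟩
  have hcomm : ∀ x y : G, x * y * x⁻¹ * y⁻¹ ∈ Subgroup.center G := fun x y => by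
    rw [← QuotientGroup.eq_one_iff]
    simp only [QuotientGroup.mk_mul, QuotientGroup.mk_inv]
    rw [hqc (x : G ⧸ Subgroup.center G) y, mul_inv_cancel_right, mul_inv_cancel]
  have hle : commutator G ≤ Subgroup.center G := by
    rw [commutator_def, Subgroup.commutator_le]
    intro x _ y _
    rw [commutatorElement_def]
    exact hcomm x y
  have hne : commutator G ≠ ⊥ := fun h => hna ⟨⟨fun a b => by
    have h1 := Subgroup.commutator_mem_commutator (Subgroup.mem_top a) (Subgroup.mem_top b)
    rw [← commutator_def, h, Subgroup.mem_bot, commutatorElement_eq_one_iff_mul_comm] at h1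
    exact h1⟩⟩
  have hceq : commutator G = Subgroup.center G := by
    refine Subgroup.eq_of_le_of_card_ge hle ?_
    have h1 := hZ ▸ Subgroup.card_dvd_of_le hle
    rcases (Nat.dvd_prime hp).1 h1 with h2 | h2
    · exact absurd (Subgroup.eq_bot_of_card_eq _ h2) hne
    · rw [hZ, h2]
  refine ⟨⟨⟨hG, le_antisymm (Cfsg.Agent.Lib.LocalEven.frattini_le_of_quotient_elementary hle hpow)
    ?_, hceq⟩, hZ⟩, hpow, hcomm⟩
  rw [← hceq]
  haveI := hG.isNilpotent
  exact Cfsg.Agent.Lib.Cores.commutator_le_frattini

/-- Let F be a saturated fusion system over a finite p-group S and H an essential subgroup of order p³. Then H is elementary abelian, or p is odd and H is extraspecial of exponent p, or p = 2 and H is the quaternion group of order 8. -/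
theorem result {Ω : Type u} [Group Ω] {S : Subgroup Ω} [Finite S] (p : ℕ) [Fact p.Prime] (hS : IsPGroup p S)
    (F : Cfsg.FusionSystem S) (hF : F.IsSaturated p) (H : Subgroup Ω) (hH : F.IsEssential p H) (hcard : Nat.card H = p ^ 3) :
    Cfsg.IsElementaryAbelian p H ∨ (Odd p ∧ Cfsg.IsExtraspecial p ↥H ∧ ∀ x ∈ H, x ^ p = 1) ∨
      (p = 2 ∧ Nonempty (↥H ≃* QuaternionGroup 2)) := by
  classical
  have hp : p.Prime := Fact.out
  have hHS := hH.1.1
  have := finite_of_le hHS
  have hHp : IsPGroup p H := hS.to_le hHS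
  have hidx : ∀ (U : Subgroup H) (a : ℕ), Nat.card U = p ^ a → a ≤ 3 → U.index = p ^ (3 - a) := by
    intro U a hU ha
    have h := Subgroup.card_mul_index U
    rw [hU, hcard] at h
    refine Nat.eq_of_mul_eq_mul_left (pow_pos hp.pos a) ?_
    rw [h, ← pow_add, Nat.add_sub_cancel' ha]
  have hrel : ∀ (A B : Subgroup H), A ≤ B → Nat.card A = p → Nat.card B = p ^ 2 →
      A.relIndex B = p := by
    intro A B hAB hA hB
    have h := Subgroup.card_mul_index (A.subgroupOf B)
    rw [show Nat.card (A.subgroupOf B) = Nat.card A from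
      Nat.card_congr (Subgroup.subgroupOfEquivOfLe hAB).toEquiv, hA, hB, pow_two] at h
    exact Nat.eq_of_mul_eq_mul_left hp.pos h
  have noChain : ∀ (A B : Subgroup H), A ≤ B → Nat.card A = p → Nat.card B = p ^ 2 →
      (∀ α : MulAut H, ∀ x ∈ A, α x ∈ A) → (∀ α : MulAut H, ∀ x ∈ B, α x ∈ B) → False := by
    intro A B hAB hA hB hAi hBi
    refine IsEssential.not_chain hS hF hH hAB (by rw [hA]) (by rw [hrel A B hAB hA hB]) ?_
      (fun α _ => hAi α) (fun α _ => hBi α)
    rw [hidx B 2 hB (by norm_num), pow_one]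
  by_cases hab : IsMulCommutative ↥H
  · left
    refine ⟨hab, fun a ha => ?_⟩
    by_contra hne
    exfalso
    haveI := hab
    letI : CommGroup H := { (inferInstance : Group H) with mul_comm := hab.is_comm.comm }
    set x : H := ⟨a, ha⟩ with hx
    have hxp : x ^ p ≠ 1 := fun h => hne (congrArg Subtype.val h)
    by_cases hexp : ∀ y : H, y ^ (p ^ 2) = 1
    · let A : Subgroup H := (powMonoidHom p).range
      let B : Subgroup H := (powMonoidHom p).ker
      have hAB : A ≤ B := by
        rintro _ ⟨y, rfl⟩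
        show (y ^ p) ^ p = 1
        rw [← pow_mul, ← pow_two]; exact hexp y
      have hmul : Nat.card A * Nat.card B = p ^ 3 := by
        rw [← hcard, ← Subgroup.card_mul_index B, mul_comm, Subgroup.index_ker]
      obtain ⟨i, -, hi⟩ := (Nat.dvd_prime_pow hp).1 (hcard ▸ A.card_subgroup_dvd_card)
      obtain ⟨j, -, hj⟩ := (Nat.dvd_prime_pow hp).1 (hcard ▸ B.card_subgroup_dvd_card)
      rw [hi, hj, ← pow_add] at hmul
      have hij := Nat.pow_right_injective hp.two_le hmul
      have hle : i ≤ j := (Nat.pow_dvd_pow_iff_le_right hp.one_lt).1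
        (hi ▸ hj ▸ Subgroup.card_dvd_of_le hAB)
      have hi0 : i ≠ 0 := by
        rintro rfl
        have := Subgroup.eq_bot_of_card_eq A (by rw [hi, pow_zero])
        exact hxp (Subgroup.mem_bot.1 (this ▸ (⟨x, rfl⟩ : x ^ p ∈ A)))
      refine noChain A B hAB ?_ ?_ ?_ ?_
      · rw [hi, show i = 1 by omega, pow_one]
      · rw [hj, show j = 2 by omega]
      · rintro α _ ⟨y, rfl⟩
        exact ⟨α y, (map_pow α y p).symm⟩
      · intro α y hy
        show (α y) ^ p = 1
        rw [← map_pow, show y ^ p = 1 from hy, map_one]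
    · push_neg at hexp
      obtain ⟨y, hy⟩ := hexp
      have hyo : orderOf y = p ^ 3 :=
        orderOf_eq_prime_pow (n := 2) hy (hcard ▸ pow_card_eq_one')
      have htop : Subgroup.zpowers y = ⊤ :=
        Subgroup.eq_top_of_card_eq _ (by rw [Nat.card_zpowers, hyo, hcard])
      have hchar : ∀ (n : ℕ) (α : MulAut H), ∀ z ∈ Subgroup.zpowers (y ^ n),
          α z ∈ Subgroup.zpowers (y ^ n) := by
        intro n α z hz
        obtain ⟨k, rfl⟩ := Subgroup.mem_zpowers_iff.1 hz
        obtain ⟨m, hm⟩ := Subgroup.mem_zpowers_iff.1 (htop.ge (Subgroup.mem_top (α y)))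
        have e : (y ^ m) ^ n = (y ^ n) ^ m := by
          rw [← zpow_natCast, ← zpow_mul, mul_comm, zpow_mul, zpow_natCast]
        rw [map_zpow, map_pow, ← hm, e]
        exact zpow_mem (zpow_mem (Subgroup.mem_zpowers _) _) _
      refine noChain (Subgroup.zpowers (y ^ p ^ 2)) (Subgroup.zpowers (y ^ p)) ?_ ?_ ?_
        (hchar _) (hchar _)
      · rw [Subgroup.zpowers_le, pow_two, pow_mul]
        exact Subgroup.pow_mem _ (Subgroup.mem_zpowers _) _
      · rw [Nat.card_zpowers, orderOf_pow, hyo,
          Nat.gcd_eq_right (pow_dvd_pow p (by norm_num : 2 ≤ 3)),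
          Nat.pow_div (by norm_num) hp.pos, pow_one]
      · rw [Nat.card_zpowers, orderOf_pow, hyo, Nat.gcd_eq_right (dvd_pow_self p (by norm_num)),
          show (3 : ℕ) = 2 + 1 from rfl, pow_succ, Nat.mul_div_cancel _ hp.pos]
  right
  obtain ⟨hex, hpow, hcomm⟩ := cube_facts hHp hcard hab
  have hZ : Nat.card (Subgroup.center H) = p := hex.2
  have hZi : ∀ α : MulAut H, ∀ x ∈ Subgroup.center H, α x ∈ Subgroup.center H := by
    intro α x hx
    rw [Subgroup.mem_center_iff] at hx ⊢
    intro g
    have h := congrArg α (hx (α.symm g))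
    rwa [map_mul, map_mul, MulEquiv.apply_symm_apply] at h
  by_cases hp2 : p = 2
  · right
    refine ⟨hp2, ?_⟩
    subst hp2
    have h4 : ∀ y : H, y ^ 4 = 1 := fun y => by
      have h := pow_card_eq_one' (G := Subgroup.center H) (x := ⟨y ^ 2, hpow y⟩)
      rw [hZ] at h
      rw [show 4 = 2 * 2 from rfl, pow_mul]
      exact congrArg Subtype.val h
    obtain ⟨c, hc⟩ : ∃ c : H, c ^ 2 ≠ 1 := by
      by_contra! h
      exact hab ⟨⟨fun a b => by
        have ha : a⁻¹ = a := inv_eq_of_mul_eq_one_right (by rw [← pow_two]; exact h a)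
        have hb : b⁻¹ = b := inv_eq_of_mul_eq_one_right (by rw [← pow_two]; exact h b)
        have hm : (a * b)⁻¹ = a * b := inv_eq_of_mul_eq_one_right (by rw [← pow_two]; exact h _)
        rw [mul_inv_rev, ha, hb] at hm
        exact hm.symm⟩⟩
    have hco : orderOf c = 4 :=
      orderOf_eq_prime_pow (p := 2) (n := 1) (by rwa [pow_one]) (by simpa using h4 c)
    set C := Subgroup.zpowers c with hC
    have hCcard : Nat.card C = 2 ^ 2 := by rw [hC, Nat.card_zpowers, hco]; norm_num
    haveI hCn : C.Normal := Subgroup.normal_of_index_eq_two (by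
      rw [hidx C 2 hCcard (by norm_num)]; norm_num)
    have hc2Z : c ^ 2 ∈ Subgroup.center H := hpow c
    have hZeq : Subgroup.center H = Subgroup.zpowers (c ^ 2) := by
      refine (Subgroup.eq_of_le_of_card_ge (Subgroup.zpowers_le.2 hc2Z) ?_).symm
      rw [hZ, Nat.card_zpowers, orderOf_pow, hco]
      norm_num
    have hinv : ∀ g : H, g ∉ C → g * c * g⁻¹ = c⁻¹ := by
      intro g hg
      obtain ⟨n, hn⟩ := Subgroup.mem_zpowers_iff.1 (hCn.conj_mem c (Subgroup.mem_zpowers c) g)
      rw [← zpow_mod_orderOf, hco] at hn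
      have hnlt : n % ((4 : ℕ) : ℤ) < 4 := Int.emod_lt_of_pos _ (by norm_num)
      have hnge : 0 ≤ n % ((4 : ℕ) : ℤ) := Int.emod_nonneg _ (by norm_num)
      have ho : orderOf (g * c * g⁻¹) = 4 := by
        rw [← hco]; exact (MulEquiv.orderOf_eq (MulAut.conj g) c)
      obtain ⟨k, hk⟩ := Int.eq_ofNat_of_zero_le hnge
      rw [hk, zpow_natCast] at hn
      rw [hk] at hnlt
      norm_cast at hnlt
      rw [← hn]
      interval_cases k
      · rw [← hn, pow_zero, orderOf_one] at ho; exact absurd ho (by norm_num)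
      · exfalso
        apply hab
        rw [pow_one] at hn
        have hcg : g * c = c * g := by
          have := congrArg (· * g) hn.symm; simpa using this
        have htop : Subgroup.closure ({c, g} : Set H) = ⊤ := by
          refine Subgroup.eq_top_of_card_eq _ (Nat.dvd_antisymm (Subgroup.card_subgroup_dvd_card _) ?_)
          rw [hcard]
          have hle : C ≤ Subgroup.closure ({c, g} : Set H) :=
            Subgroup.zpowers_le.2 (Subgroup.subset_closure (Or.inl rfl))
          obtain ⟨i, hi, hi'⟩ := (Nat.dvd_prime_pow hp).1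
            (hcard ▸ (Subgroup.closure ({c, g} : Set H)).card_subgroup_dvd_card)
          have h2 : 2 < i := by
            by_contra! hle2
            refine hg ?_
            rw [Subgroup.eq_of_le_of_card_ge hle
              (by rw [hCcard, hi']; exact Nat.pow_le_pow_right (by norm_num) hle2)]
            exact Subgroup.subset_closure (Or.inr rfl)
          rw [hi', show i = 3 by omega]
        have hcomm' : IsMulCommutative (Subgroup.closure ({c, g} : Set H)) :=
          Subgroup.isMulCommutative_closure (by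
            rintro a (rfl | rfl) b (rfl | rfl)
            · rfl
            · exact hcg.symm
            · exact hcg
            · rfl)
        exact ⟨⟨fun a b => congrArg Subtype.val (hcomm'.is_comm.comm
          ⟨a, htop.ge (Subgroup.mem_top a)⟩ ⟨b, htop.ge (Subgroup.mem_top b)⟩)⟩⟩
      · rw [← hn, orderOf_pow, hco] at ho; exact absurd ho (by norm_num)
      · exact eq_inv_of_mul_eq_one_left (by rw [← pow_succ]; exact h4 c)
    by_cases hinvol : ∃ b : H, b ∉ C ∧ b ^ 2 = 1
    · exfalso
      obtain ⟨b, hb, hb2⟩ := hinvol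
      have hout : ∀ y : H, y ∉ C → y ^ 2 = 1 := by
        intro y hy
        have hby : b⁻¹ * y ∈ C :=
          (Subgroup.mul_mem_iff_of_index_two (by rw [hidx C 2 hCcard (by norm_num)]; norm_num)).2
            (iff_of_false (fun h => hb (C.inv_mem_iff.1 h)) hy)
        obtain ⟨m, hm⟩ := Subgroup.mem_zpowers_iff.1 hby
        have hy' : y = b * c ^ m := by rw [hm, mul_inv_cancel_left]
        have e : b * c ^ m * b⁻¹ = (c ^ m)⁻¹ := by rw [← conj_zpow, hinv b hb, inv_zpow]
        have hbb : b⁻¹ = b := inv_eq_of_mul_eq_one_right (by rw [← pow_two, hb2])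
        rw [hbb] at e
        rw [hy', pow_two, show b * c ^ m * (b * c ^ m) = b * c ^ m * b * c ^ m by group, e,
          inv_mul_cancel]
      refine noChain (Subgroup.center H) (Subgroup.closure {y : H | y ^ 2 ≠ 1}) ?_ hZ ?_ hZi
        (fun α => inv_of_char (fun α y hy h => hy (α.injective (by rw [map_pow, h, map_one]))) α)
      · rw [hZeq, Subgroup.zpowers_le]
        exact Subgroup.pow_mem _ (Subgroup.subset_closure hc) _
      · rw [← hCcard]
        congr 2
        refine le_antisymm ((Subgroup.closure_le _).2 fun y hy => by_contra fun h => hy (hout y h)) ?_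
        exact Subgroup.zpowers_le.2 (Subgroup.subset_closure hc)
    · push_neg at hinvol
      obtain ⟨g, hg⟩ : ∃ g : H, g ∉ C := by
        by_contra! h
        have := (Subgroup.eq_top_iff' C).2 h
        rw [this, Subgroup.card_top, hcard] at hCcard
        norm_num at hCcard
      refine Cfsg.Agent.Lib.Classical.nonempty_mulEquiv_quaternion (n := 2) (c := c) (g := g)
        (by rw [hco]) ?_ (hinv g hg) hg (by rw [hcard]; norm_num)
      have h1 : g ^ 2 ∈ Subgroup.zpowers (c ^ 2) := hZeq ▸ hpow g
      obtain ⟨m, hm⟩ := Subgroup.mem_zpowers_iff.1 h1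
      rw [← pow_two]
      rcases Int.even_or_odd m with ⟨t, rfl⟩ | ⟨t, rfl⟩
      · refine absurd ?_ (hinvol g hg)
        rw [← hm, ← two_mul, zpow_mul, zpow_ofNat, ← pow_mul, h4, one_zpow]
      · rw [← hm, zpow_add, zpow_mul, zpow_ofNat, ← pow_mul, h4, one_zpow, one_mul, zpow_one]
  · left
    have hodd : Odd p := hp.odd_of_ne_two hp2
    refine ⟨hodd, hex, fun a ha => ?_⟩
    by_contra hne
    set x : H := ⟨a, ha⟩ with hx
    have hxp : x ^ p ≠ 1 := fun h => hne (congrArg Subtype.val h)
    have hZexp : ∀ z ∈ Subgroup.center H, z ^ p = 1 := fun z hz => by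
      have h := pow_card_eq_one' (G := Subgroup.center H) (x := ⟨z, hz⟩)
      rw [hZ] at h
      exact congrArg Subtype.val h
    have hmulpow : ∀ u v : H, (u * v) ^ p = u ^ p * v ^ p := by
      intro u v
      have hd := hcomm v u
      have hcd : ∀ w : H, Commute (v * u * v⁻¹ * u⁻¹) w := fun w =>
        (Subgroup.mem_center_iff.1 hd w).symm
      rw [Cfsg.Agent.Lib.Components.mul_pow_class_two (d := v * u * v⁻¹ * u⁻¹) (fun w _ => hcd w)
        (by group) p]
      obtain ⟨k, hk⟩ := hp.dvd_choose_self two_ne_zero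
        (lt_of_le_of_ne hp.two_le (Ne.symm hp2))
      rw [hk, pow_mul, hZexp _ hd, one_pow, one_mul]
    let f : H →* Subgroup.center H :=
      MonoidHom.mk' (fun u => ⟨u ^ p, hpow u⟩) fun u v => Subtype.ext (hmulpow u v)
    refine noChain (Subgroup.center H) f.ker ?_ hZ ?_ hZi ?_
    · intro z hz
      exact Subtype.ext (hZexp z hz)
    · have hr : f.range = ⊤ := by
        rcases (Nat.dvd_prime hp).1 (hZ ▸ f.range.card_subgroup_dvd_card) with h | h
        · exfalso
          have := (Subgroup.eq_bot_of_card_eq _ h).le (⟨x, rfl⟩ : f x ∈ f.range)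
          exact hxp (congrArg Subtype.val (Subgroup.mem_bot.1 this))
        · exact Subgroup.eq_top_of_card_eq _ (by rw [h, hZ])
      have h := Subgroup.card_mul_index f.ker
      rw [Subgroup.index_ker, hr, Subgroup.card_top, hZ, hcard, pow_succ] at h
      exact Nat.eq_of_mul_eq_mul_right hp.pos h
    · intro α y hy
      refine Subtype.ext ?_
      show (α y) ^ p = 1
      rw [← map_pow, show y ^ p = 1 from congrArg Subtype.val hy, map_one]

end Cfsg.Agent.S5186
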