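import Cfsg.Statements.S5188
import Cfsg.Agent.Lib.Fusion.EssentialSeries
import Cfsg.Agent.Lib.Cores.SmallPGroup
import Cfsg.Agent.Lib.Cores.Frattini
import Cfsg.Agent.Lib.LocalEven.Subnormal
import Cfsg.Agent.Lib.Solvable.Nilpotent
import Cfsg.Agent.Lib.Classical.SLTwoTorus
import Cfsg.Agent.Lib.Components.PRank3
import Cfsg.Agent.S5186
import Cfsg.Agent.S5187

set_option autoImplicit false
universe u
open Cfsg Cfsg.FusionSystem Cfsg.Agent.Lib.Fusion

namespace Cfsg.Agent.S5188

open scoped commutatorElement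

variable {G : Type*} [Group G] [Finite G] {p : ℕ} [Fact p.Prime]

/-- `A` is invariant under all automorphisms. -/
def Inv (A : Subgroup G) : Prop := ∀ α : MulAut G, ∀ x ∈ A, α x ∈ A

omit [Finite G] in
theorem inv_center : Inv (Subgroup.center G) := by
  intro α x hx
  rw [Subgroup.mem_center_iff] at hx ⊢
  intro g
  have h := congrArg α (hx (α.symm g))
  rwa [map_mul, map_mul, MulEquiv.apply_symm_apply] at h

omit [Finite G] in
theorem inv_frattini : Inv (frattini G) := fun α x hx =>
  (Cfsg.Agent.Lib.Cores.map_frattini_equiv α).le ⟨x, hx, rfl⟩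

omit [Finite G] in
theorem inv_commutator : Inv (commutator G) := by
  intro α x hx
  have h : (commutator G).map α.toMonoidHom ≤ commutator G := by
    rw [commutator_def, Subgroup.map_commutator]
    exact Subgroup.commutator_mono le_top le_top
  exact h ⟨x, hx, rfl⟩

omit [Finite G] in
theorem inv_inf {A B : Subgroup G} (hA : Inv A) (hB : Inv B) : Inv (A ⊓ B) :=
  fun α x hx => ⟨hA α x hx.1, hB α x hx.2⟩

omit [Finite G] in
theorem inv_centralizer {A : Subgroup G} (hA : Inv A) :
    Inv (Subgroup.centralizer (A : Set G)) := by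
  intro α x hx
  rw [Subgroup.mem_centralizer_iff] at hx ⊢
  intro g hg
  have h := congrArg α (hx (α.symm g) (hA α.symm g hg))
  rwa [map_mul, map_mul, MulEquiv.apply_symm_apply] at h

theorem relIndex_sup_zpowers_dvd (N : Subgroup G) [N.Normal] {x : G} (hx : x ^ p ∈ N) :
    N.relIndex (Subgroup.zpowers x ⊔ N) ∣ p := by
  have h : N.relIndex (Subgroup.zpowers x) = orderOf (x : G ⧸ N) := by
    conv_lhs => rw [← QuotientGroup.ker_mk' N]
    rw [Subgroup.relIndex_ker, MonoidHom.map_zpowers, Nat.card_zpowers]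
    rfl
  rw [Subgroup.relIndex_sup_right, h]
  refine orderOf_dvd_of_pow_eq_one ?_
  rwa [← QuotientGroup.mk_pow, QuotientGroup.eq_one_iff]

omit [Fact p.Prime] in
theorem relIndex_mul_card {A B : Subgroup G} (h : A ≤ B) :
    A.relIndex B * Nat.card A = Nat.card B := by
  have := Subgroup.card_mul_index (A.subgroupOf B)
  rw [show Nat.card (A.subgroupOf B) = Nat.card A from
    Nat.card_congr (Subgroup.subgroupOfEquivOfLe h).toEquiv, mul_comm] at this
  exact this

/-- A characteristic series `1 ≤ A ≤ B ≤ C ≤ G` with factors of prime order. -/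
def HasChain (G : Type*) [Group G] (p : ℕ) : Prop :=
  ∃ A B C : Subgroup G, A ≤ B ∧ B ≤ C ∧ Nat.card A = p ∧ Nat.card B = p ^ 2 ∧ C.index = p ∧
    Inv A ∧ Inv B ∧ Inv C

theorem eq_top_of_gens (hc : Nat.card G = p ^ 4) (hZ : Nat.card (Subgroup.center G) = p ^ 2)
    {a b : G} (hab : a * b ≠ b * a) :
    Subgroup.zpowers b ⊔ (Subgroup.zpowers a ⊔ Subgroup.center G) = ⊤ := by
  have hp : p.Prime := Fact.out
  set Z := Subgroup.center G with hZd
  have hZi : Z.index = p ^ 2 := by
    have h := Subgroup.card_mul_index Z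
    rw [hZ, hc, show p ^ 4 = p ^ 2 * p ^ 2 by ring] at h
    exact Nat.eq_of_mul_eq_mul_left (pow_pos hp.pos 2) h
  have h1 : Z < Subgroup.zpowers a ⊔ Z := lt_of_le_of_ne le_sup_right fun e => hab
    ((Subgroup.mem_center_iff.1 (e ▸ Subgroup.mem_sup_left (Subgroup.mem_zpowers a) :
      a ∈ Z) b).symm)
  have h2 : Subgroup.zpowers a ⊔ Z < Subgroup.zpowers b ⊔ (Subgroup.zpowers a ⊔ Z) :=
    lt_of_le_of_ne le_sup_right fun e => by
      have hb : b ∈ Subgroup.zpowers a ⊔ Z :=
        e ▸ Subgroup.mem_sup_left (Subgroup.mem_zpowers b)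
      obtain ⟨u, hu, z, hz, rfl⟩ := Subgroup.mem_sup_of_normal_right.1 hb
      obtain ⟨n, rfl⟩ := Subgroup.mem_zpowers_iff.1 hu
      apply hab
      have hz' := Subgroup.mem_center_iff.1 hz a
      rw [← mul_assoc, (Commute.self_zpow a n).eq, mul_assoc, hz', ← mul_assoc]
  have i1 := Subgroup.index_strictAnti h1
  have i2 := Subgroup.index_strictAnti h2
  obtain ⟨u, -, hu⟩ := (Nat.dvd_prime_pow hp).1
    (hc ▸ Subgroup.index_dvd_card (Subgroup.zpowers a ⊔ Z))
  obtain ⟨w, -, hw⟩ := (Nat.dvd_prime_pow hp).1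
    (hc ▸ Subgroup.index_dvd_card (Subgroup.zpowers b ⊔ (Subgroup.zpowers a ⊔ Z)))
  rw [hZi, hu] at i1
  rw [hu, hw] at i2
  have j1 := (Nat.pow_lt_pow_iff_right hp.one_lt).1 i1
  have j2 := (Nat.pow_lt_pow_iff_right hp.one_lt).1 i2
  exact Subgroup.index_eq_one.1 (by rw [hw, show w = 0 by omega, pow_zero])

theorem card_range_powHom_dvd {Q : Type*} [CommGroup Q] [Finite Q] (T : Subgroup Q) (n : ℕ)
    (h : ∀ x : Q, x ^ n ∈ T) : Nat.card (powMonoidHom n : Q →* Q).range ∣ Nat.card T :=
  Subgroup.card_dvd_of_le (by rintro _ ⟨x, rfl⟩; exact h x)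

theorem chain_of_frattini_sq (hG : IsPGroup p G) (hc : Nat.card G = p ^ 4)
    (hna : ¬ IsMulCommutative G) (hΦ : Nat.card (frattini G) = p ^ 2) : HasChain G p := by
  classical
  have hp : p.Prime := Fact.out
  set Φ := frattini G with hΦd
  set Z := Subgroup.center G with hZd
  have hpow : ∀ x : G, x ^ p ∈ Φ := Cfsg.Agent.Lib.Cores.pow_mem_frattini hG
  haveI := hG.isNilpotent
  have hDΦ : commutator G ≤ Φ := Cfsg.Agent.Lib.Cores.commutator_le_frattini
  have hΦi : Φ.index = p ^ 2 := by
    have h := Subgroup.card_mul_index Φ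
    rw [hΦ, hc, show p ^ 4 = p ^ 2 * p ^ 2 by ring] at h
    exact Nat.eq_of_mul_eq_mul_left (pow_pos hp.pos 2) h
  by_cases hΦZ : Φ ≤ Z
  · -- class two
    have hZΦ : Z = Φ := by
      refine (Subgroup.eq_of_le_of_card_ge hΦZ ?_).symm
      have h1 := Cfsg.Agent.Lib.Cores.le_center_index hG hna
      have h2 := Subgroup.card_mul_index Z
      rw [hc] at h2
      obtain ⟨t, ht⟩ := h1
      rw [ht] at h2
      have h3 : Nat.card Z * t = p ^ 2 :=
        Nat.eq_of_mul_eq_mul_left (pow_pos hp.pos 2) (by rw [← pow_add, mul_left_comm, h2])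
      rw [hΦ, ← h3]
      exact Nat.le_mul_of_pos_right _ (Nat.pos_of_ne_zero fun h => by simp [h] at h3; exact absurd h3.symm (pow_ne_zero 2 hp.ne_zero))
    obtain ⟨a, b, hab⟩ : ∃ a b : G, a * b ≠ b * a := by
      by_contra! h; exact hna ⟨⟨h⟩⟩
    have htop := eq_top_of_gens hc (hZd ▸ hZΦ ▸ hΦ) hab
    set c := a * b * a⁻¹ * b⁻¹ with hcdef
    have hcZ : c ∈ Z := hΦZ (hDΦ (by
      have := Subgroup.commutator_mem_commutator (Subgroup.mem_top a) (Subgroup.mem_top b)
      rwa [commutatorElement_def] at this))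
    have hKn : (Subgroup.zpowers c).Normal := ⟨fun x hx g => by
      obtain ⟨n, rfl⟩ := Subgroup.mem_zpowers_iff.1 hx
      rw [Subgroup.mem_center_iff.1 (Z.zpow_mem hcZ n) g, mul_inv_cancel_right]
      exact Subgroup.zpow_mem _ (Subgroup.mem_zpowers c) n⟩
    have hD : commutator G = Subgroup.zpowers c := by
      refine le_antisymm ?_ (Subgroup.zpowers_le.2 ?_)
      · set π := QuotientGroup.mk' (Subgroup.zpowers c)
        have hab' : Commute (π a) (π b) := by
          have h : π c = 1 := (QuotientGroup.eq_one_iff c).2 (Subgroup.mem_zpowers c)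
          have h' : π a * π b * (π a)⁻¹ * (π b)⁻¹ = 1 := by
            rw [← map_inv, ← map_inv, ← map_mul, ← map_mul, ← map_mul]
            exact h
          rw [mul_inv_eq_one, mul_inv_eq_iff_eq_mul] at h'
          exact h'
        have hcen : ∀ z ∈ Z, ∀ g, Commute (π z) g := fun z hz g => by
          obtain ⟨g, rfl⟩ := QuotientGroup.mk'_surjective _ g
          exact (Commute.symm (Subgroup.mem_center_iff.1 hz g)).map π
        have h1 : ∀ g : G, Commute (π a) (π g) := fun g => by
          have hg : g ∈ (Subgroup.centralizer ({π a} : Set _)).comap π := by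
            have hle : Subgroup.zpowers b ⊔ (Subgroup.zpowers a ⊔ Z) ≤
                (Subgroup.centralizer ({π a} : Set _)).comap π := by
              refine sup_le (Subgroup.zpowers_le.2 ?_) (sup_le (Subgroup.zpowers_le.2 ?_) fun z hz => ?_)
              · exact Subgroup.mem_centralizer_singleton_iff.2 hab'.symm.eq
              · exact Subgroup.mem_centralizer_singleton_iff.2 rfl
              · exact Subgroup.mem_centralizer_singleton_iff.2 (hcen z hz _).eq
            exact hle (htop.ge (Subgroup.mem_top g))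
          exact (Subgroup.mem_centralizer_singleton_iff.1 hg).symm
        have h2 : ∀ g : G, Commute (π b) (π g) := fun g => by
          have hg : g ∈ (Subgroup.centralizer ({π b} : Set _)).comap π := by
            have hle : Subgroup.zpowers b ⊔ (Subgroup.zpowers a ⊔ Z) ≤
                (Subgroup.centralizer ({π b} : Set _)).comap π := by
              refine sup_le (Subgroup.zpowers_le.2 ?_) (sup_le (Subgroup.zpowers_le.2 ?_) fun z hz => ?_)
              · exact Subgroup.mem_centralizer_singleton_iff.2 rfl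
              · exact Subgroup.mem_centralizer_singleton_iff.2 hab'.eq
              · exact Subgroup.mem_centralizer_singleton_iff.2 (hcen z hz _).eq
            exact hle (htop.ge (Subgroup.mem_top g))
          exact (Subgroup.mem_centralizer_singleton_iff.1 hg).symm
        rw [commutator_def, Subgroup.commutator_le]
        intro x _ y _
        rw [← QuotientGroup.eq_one_iff]
        show π ⁅x, y⁆ = 1
        rw [map_commutatorElement, commutatorElement_eq_one_iff_mul_comm]
        have hx : x ∈ (Subgroup.centralizer ({π y} : Set _)).comap π := by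
          have hle : Subgroup.zpowers b ⊔ (Subgroup.zpowers a ⊔ Z) ≤
              (Subgroup.centralizer ({π y} : Set _)).comap π := by
            refine sup_le (Subgroup.zpowers_le.2 ?_) (sup_le (Subgroup.zpowers_le.2 ?_) fun z hz => ?_)
            · exact Subgroup.mem_centralizer_singleton_iff.2 (h2 y).eq
            · exact Subgroup.mem_centralizer_singleton_iff.2 (h1 y).eq
            · exact Subgroup.mem_centralizer_singleton_iff.2 (hcen z hz _).eq
          exact hle (htop.ge (Subgroup.mem_top x))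
        exact Subgroup.mem_centralizer_singleton_iff.1 hx
      · have := Subgroup.commutator_mem_commutator (Subgroup.mem_top a) (Subgroup.mem_top b)
        rwa [commutatorElement_def] at this
    have hc1 : c ≠ 1 := fun h => hab (by
      rwa [hcdef, mul_inv_eq_one, mul_inv_eq_iff_eq_mul] at h)
    have hcp : c ^ p = 1 := by
      have hap : a ^ p ∈ Z := hΦZ (hpow a)
      have hcc : ∀ g, Commute c g := fun g => (Subgroup.mem_center_iff.1 hcZ g).symm
      have key : ∀ n : ℕ, b⁻¹ * a ^ n * b = a ^ n * (b⁻¹ * c * b) ^ n → True := fun _ _ => trivial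
      have e : ∀ n : ℕ, a ^ n * b = c ^ n * (b * a ^ n) := by
        intro n
        induction n with
        | zero => simp
        | succ n ih =>
          calc a ^ (n + 1) * b = a * (a ^ n * b) := by rw [pow_succ', mul_assoc]
            _ = a * (c ^ n * (b * a ^ n)) := by rw [ih]
            _ = c ^ n * ((a * b) * a ^ n) := by
                rw [← mul_assoc, ← ((hcc a).pow_left n).eq]; simp only [mul_assoc]
            _ = c ^ n * ((c * (b * a)) * a ^ n) := by rw [hcdef]; group
            _ = c ^ (n + 1) * (b * a ^ (n + 1)) := by rw [pow_succ c, pow_succ']; simp only [mul_assoc]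
      have h := e p
      rw [← Subgroup.mem_center_iff.1 hap b] at h
      exact (mul_eq_right.1 h.symm)
    have hDc : Nat.card (commutator G) = p := by
      rw [hD, Nat.card_zpowers, orderOf_eq_prime hcp hc1]
    set D := commutator G with hDd
    haveI : IsMulCommutative (G ⧸ D) := ⟨⟨fun u v => by
      induction u using QuotientGroup.induction_on with
      | _ u =>
        induction v using QuotientGroup.induction_on with
        | _ v =>
          rw [← QuotientGroup.mk_mul, ← QuotientGroup.mk_mul, QuotientGroup.eq, hDd]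
          have := Subgroup.commutator_mem_commutator (Subgroup.mem_top v⁻¹) (Subgroup.mem_top u⁻¹)
          rw [commutatorElement_def, inv_inv, inv_inv, ← commutator_def] at this
          rwa [mul_inv_rev, ← mul_assoc]⟩⟩
    letI : CommGroup (G ⧸ D) :=
      { (inferInstance : Group (G ⧸ D)) with mul_comm := IsMulCommutative.is_comm.comm }
    set L : Subgroup G := (powMonoidHom p : G ⧸ D →* G ⧸ D).ker.comap (QuotientGroup.mk' D) with hL
    have hmemL : ∀ x, x ∈ L ↔ x ^ p ∈ D := fun x => by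
      rw [hL, Subgroup.mem_comap, MonoidHom.mem_ker, powMonoidHom_apply, QuotientGroup.mk'_apply,
        ← QuotientGroup.mk_pow, QuotientGroup.eq_one_iff]
    set T : Subgroup (G ⧸ D) := Φ.map (QuotientGroup.mk' D) with hT
    have hTc : Nat.card T = p := by
      have h := relIndex_mul_card hDΦ
      rw [hΦ, hDc, pow_two] at h
      have h2 : D.relIndex Φ = Nat.card T := by
        conv_lhs => rw [← QuotientGroup.ker_mk' D]
        rw [Subgroup.relIndex_ker]
      rw [← h2]
      exact Nat.eq_of_mul_eq_mul_right hp.pos h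
    have hLi : L.index = p := by
      rw [hL, Subgroup.index_comap_of_surjective _ (QuotientGroup.mk'_surjective _),
        Subgroup.index_ker]
      have hd : Nat.card (powMonoidHom p : G ⧸ D →* G ⧸ D).range ∣ p := by
        have := card_range_powHom_dvd T p fun x => by
          induction x using QuotientGroup.induction_on with
          | _ x => exact ⟨x ^ p, hpow x, rfl⟩
        rwa [hTc] at this
      refine ((Nat.dvd_prime hp).1 hd).resolve_left fun h1 => ?_
      · have hall : ∀ x : G, x ^ p ∈ D := fun x => by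
          have h2 := (Subgroup.eq_bot_of_card_eq _ h1).le
            (⟨(x : G ⧸ D), rfl⟩ : ((x : G ⧸ D)) ^ p ∈ (powMonoidHom p : G ⧸ D →* G ⧸ D).range)
          rwa [Subgroup.mem_bot, ← QuotientGroup.mk_pow, QuotientGroup.eq_one_iff] at h2
        have h3 := Subgroup.card_le_of_le
          (Cfsg.Agent.Lib.LocalEven.frattini_le_of_quotient_elementary (le_refl D) hall)
        rw [← hΦd, hΦ, hDc] at h3
        nlinarith [hp.two_le]
    have hΦL : Φ ≤ L := fun x hx => by
      rw [hmemL, ← QuotientGroup.eq_one_iff]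
      have h := pow_card_eq_one' (G := T) (x := ⟨(x : G ⧸ D), x, hx, rfl⟩)
      rw [hTc] at h
      rw [QuotientGroup.mk_pow]
      exact congrArg Subtype.val h
    refine ⟨D, Φ, L, hDΦ, hΦL, hDc, hΦ, hLi, inv_commutator, inv_frattini, fun α x hx => ?_⟩
    rw [hmemL] at hx ⊢
    rw [← map_pow]
    exact inv_commutator α _ hx
  · set Z₁ := Φ ⊓ Z with hZ₁
    have hZ₁c : Nat.card Z₁ = p := by
      obtain ⟨i, hi2, hi⟩ := (Nat.dvd_prime_pow hp).1
        (hΦ ▸ Subgroup.card_dvd_of_le (inf_le_left : Z₁ ≤ Φ))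
      have hne : Z₁ ≠ ⊥ := by
        have hΦne : Φ ≠ ⊥ := fun h => by
          rw [h, Subgroup.card_bot] at hΦ
          exact (Nat.one_lt_pow two_ne_zero hp.one_lt).ne hΦ
        exact Cfsg.Agent.Lib.Solvable.inf_center_ne_bot hΦne
      have hi0 : i ≠ 0 := fun h => hne (Subgroup.eq_bot_of_card_eq _ (by rw [hi, h, pow_zero]))
      have hi2' : i ≠ 2 := fun h => hΦZ (by
        have := Subgroup.eq_of_le_of_card_ge (inf_le_left : Z₁ ≤ Φ) (by rw [hi, h, hΦ])
        rw [← this]; exact inf_le_right)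
      rw [hi, show i = 1 by omega, pow_one]
    obtain ⟨w, hw, hwZ⟩ : ∃ w ∈ Φ, w ∉ Z := SetLike.not_le_iff_exists.1 hΦZ
    set C := Subgroup.centralizer (Φ : Set G) with hC
    have hrel : Z₁.relIndex Φ = p := by
      have h := relIndex_mul_card (inf_le_left : Z₁ ≤ Φ)
      rw [hΦ, hZ₁c, pow_two] at h
      exact Nat.eq_of_mul_eq_mul_right hp.pos h
    have hcomm : ∀ g : G, w⁻¹ * (g * w * g⁻¹) ∈ Z₁ := by
      intro g
      obtain ⟨k, hk⟩ := hG g
      exact mulAut_fix_of_prime_factor (MulAut.conj g) (by rw [← map_pow, hk, map_one]) Z₁ Φ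
        (fun x hx => inv_inf inv_frattini inv_center _ x hx) (fun x hx => inv_frattini _ x hx)
        (by rw [hrel]) hw
    let f : G →* Z₁ := MonoidHom.mk' (fun g => ⟨w⁻¹ * (g * w * g⁻¹), hcomm g⟩) fun g h => by
      refine Subtype.ext ?_
      show w⁻¹ * (g * h * w * (g * h)⁻¹) = w⁻¹ * (g * w * g⁻¹) * (w⁻¹ * (h * w * h⁻¹))
      have hz : ∀ v, Commute v (w⁻¹ * (h * w * h⁻¹)) :=
        fun v => Subgroup.mem_center_iff.1 (hcomm h).2 v
      calc w⁻¹ * (g * h * w * (g * h)⁻¹) = w⁻¹ * (g * (w * (w⁻¹ * (h * w * h⁻¹))) * g⁻¹) := by group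
        _ = w⁻¹ * (g * w * g⁻¹) * (w⁻¹ * (h * w * h⁻¹)) := by
          rw [← mul_assoc g w, mul_assoc (g * w), ← (hz g⁻¹).eq]; simp only [mul_assoc]
    have hker : f.ker = C := by
      ext g
      rw [MonoidHom.mem_ker, hC]
      constructor
      · intro h
        have h1 : g * w * g⁻¹ = w := by
          have := congrArg Subtype.val h
          exact (inv_mul_eq_one.1 this).symm
        rw [Subgroup.mem_centralizer_iff]
        intro v hv
        have hΦeq : Z₁ ⊔ Subgroup.zpowers w = Φ := by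
          refine Subgroup.eq_of_le_of_card_ge (sup_le inf_le_left (Subgroup.zpowers_le.2 hw)) ?_
          obtain ⟨i, -, hi⟩ := (Nat.dvd_prime_pow hp).1
            (hc ▸ (Z₁ ⊔ Subgroup.zpowers w).card_subgroup_dvd_card)
          have hlt : Z₁ < Z₁ ⊔ Subgroup.zpowers w := lt_of_le_of_ne le_sup_left fun e =>
            hwZ (e ▸ Subgroup.mem_sup_right (Subgroup.mem_zpowers w) : w ∈ Z₁).2
          have := Set.ncard_lt_ncard (SetLike.coe_ssubset_coe.2 hlt) (Set.toFinite _)
          rw [← Nat.card_coe_set_eq, ← Nat.card_coe_set_eq, SetLike.coe_sort_coe,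
            SetLike.coe_sort_coe, hZ₁c, hi] at this
          have hi' : 2 ≤ i := by
            by_contra! hh
            have := Nat.pow_le_pow_right hp.pos (show i ≤ 1 by omega)
            rw [pow_one] at this
            omega
          rw [hΦ, hi]
          exact Nat.pow_le_pow_right hp.pos hi'
        have hle : Z₁ ⊔ Subgroup.zpowers w ≤ Subgroup.centralizer ({g} : Set G) := by
          refine sup_le (fun z hz => ?_) (Subgroup.zpowers_le.2 ?_)
          · exact Subgroup.mem_centralizer_singleton_iff.2 (Subgroup.mem_center_iff.1 hz.2 g).symm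
          · exact Subgroup.mem_centralizer_singleton_iff.2
              (mul_inv_eq_iff_eq_mul.1 h1).symm
        exact Subgroup.mem_centralizer_singleton_iff.1 (hle (hΦeq.ge hv))
      · intro h
        refine Subtype.ext ?_
        show w⁻¹ * (g * w * g⁻¹) = 1
        rw [← Subgroup.mem_centralizer_iff.1 h w hw, mul_inv_cancel_right, inv_mul_cancel]
    have hCi : C.index = p := by
      rw [← hker, Subgroup.index_ker]
      refine ((Nat.dvd_prime hp).1 (hZ₁c ▸ f.range.card_subgroup_dvd_card)).resolve_left fun h => ?_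
      refine hwZ (Subgroup.mem_center_iff.2 fun g => ?_)
      have hg : g ∈ C := by
        rw [← hker, MonoidHom.mem_ker]
        exact Subgroup.mem_bot.1 ((Subgroup.eq_bot_of_card_eq _ h).le ⟨g, rfl⟩)
      exact (Subgroup.mem_centralizer_iff.1 hg w hw).symm
    have hΦC : Φ ≤ C := fun x hx => Subgroup.mem_centralizer_iff.2 fun v hv => congrArg Subtype.val
      (IsPGroup.commutative_of_card_eq_prime_sq hΦ ⟨v, hv⟩ ⟨x, hx⟩)
    exact ⟨Z₁, Φ, C, inf_le_left, hΦC, hZ₁c, hΦ, hCi, inv_inf inv_frattini inv_center,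
      inv_frattini, inv_centralizer inv_frattini⟩

theorem center_of_frattini_prime (hG : IsPGroup p G) (hc : Nat.card G = p ^ 4)
    (hna : ¬ IsMulCommutative G) (hΦ : Nat.card (frattini G) = p) :
    commutator G = frattini G ∧ frattini G ≤ Subgroup.center G ∧
      Nat.card (Subgroup.center G) = p ^ 2 := by
  classical
  have hp : p.Prime := Fact.out
  haveI := hG.isNilpotent
  set Φ := frattini G with hΦd
  set Z := Subgroup.center G with hZd
  have hne : Φ ≠ ⊥ := fun h => by
    rw [h, Subgroup.card_bot] at hΦ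
    exact hp.one_lt.ne hΦ
  have hΦZ : Φ ≤ Z := by
    rcases (Nat.dvd_prime hp).1 (hΦ ▸ Subgroup.card_dvd_of_le (inf_le_left : Φ ⊓ Z ≤ Φ)) with h | h
    · exact absurd (Subgroup.eq_bot_of_card_eq _ h) (Cfsg.Agent.Lib.Solvable.inf_center_ne_bot hne)
    · rw [← Subgroup.eq_of_le_of_card_ge (inf_le_left : Φ ⊓ Z ≤ Φ) (by rw [h, hΦ])]
      exact inf_le_right
  have hDΦ : commutator G ≤ Φ := Cfsg.Agent.Lib.Cores.commutator_le_frattini
  obtain ⟨a, b, hab⟩ : ∃ a b : G, a * b ≠ b * a := by
    by_contra! h; exact hna ⟨⟨h⟩⟩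
  have hmem : ∀ g h : G, ⁅g, h⁆ ∈ Φ := fun g h =>
    hDΦ (Subgroup.commutator_mem_commutator (Subgroup.mem_top g) (Subgroup.mem_top h))
  refine ⟨?_, hΦZ, ?_⟩
  · rcases (Nat.dvd_prime hp).1 (hΦ ▸ Subgroup.card_dvd_of_le hDΦ) with h | h
    · refine absurd ?_ hab
      have hbot : commutator G = ⊥ := Subgroup.eq_bot_of_card_eq _ h
      have hmm : ⁅a, b⁆ ∈ commutator G :=
        Subgroup.commutator_mem_commutator (Subgroup.mem_top a) (Subgroup.mem_top b)
      rw [hbot, Subgroup.mem_bot, commutatorElement_eq_one_iff_mul_comm] at hmm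
      exact hmm
    · exact Subgroup.eq_of_le_of_card_ge hDΦ (by rw [h, hΦ])
  let f : G → G →* Φ := fun u => MonoidHom.mk' (fun g => ⟨⁅g, u⁆, hmem g u⟩) fun g h => by
    refine Subtype.ext ?_
    show ⁅g * h, u⁆ = ⁅g, u⁆ * ⁅h, u⁆
    have hz : ∀ v, Commute v ⁅h, u⁆ := fun v => Subgroup.mem_center_iff.1 (hΦZ (hmem h u)) v
    calc ⁅g * h, u⁆ = g * ⁅h, u⁆ * g⁻¹ * ⁅g, u⁆ := by simp only [commutatorElement_def]; group
      _ = ⁅g, u⁆ * ⁅h, u⁆ := by rw [(hz g).eq, mul_inv_cancel_right, (hz _).eq]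
  have hfi : ∀ u, (f u).ker.index ∣ p := fun u => by
    rw [Subgroup.index_ker, ← hΦ]; exact (f u).range.card_subgroup_dvd_card
  set C := (f a).ker ⊓ (f b).ker with hCdef
  have hCmem : ∀ g, g ∈ C → Commute g a ∧ Commute g b := fun g hg =>
    ⟨commutatorElement_eq_one_iff_commute.1 (congrArg Subtype.val hg.1),
      commutatorElement_eq_one_iff_commute.1 (congrArg Subtype.val hg.2)⟩
  have hCi : C.index ≤ p ^ 2 := by
    refine Subgroup.index_inf_le.trans ?_
    rw [pow_two]
    exact Nat.mul_le_mul (Nat.le_of_dvd hp.pos (hfi a)) (Nat.le_of_dvd hp.pos (hfi b))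
  have hbC : b ∉ C := fun h => hab (hCmem b h).1.eq.symm
  have hCb : C < Subgroup.zpowers b ⊔ C := lt_of_le_of_ne le_sup_right fun e =>
    hbC (e ▸ Subgroup.mem_sup_left (Subgroup.mem_zpowers b))
  have hne2 : Subgroup.zpowers b ⊔ C < Subgroup.zpowers a ⊔ (Subgroup.zpowers b ⊔ C) := by
    refine lt_of_le_of_ne le_sup_right fun e => hab ?_
    have ha : a ∈ Subgroup.zpowers b ⊔ C := e ▸ Subgroup.mem_sup_left (Subgroup.mem_zpowers a)
    have hle : Subgroup.zpowers b ⊔ C ≤ Subgroup.centralizer ({b} : Set G) :=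
      sup_le (Subgroup.zpowers_le.2 (Subgroup.mem_centralizer_singleton_iff.2 rfl))
        fun g hg => Subgroup.mem_centralizer_singleton_iff.2 (hCmem g hg).2.eq
    exact Subgroup.mem_centralizer_singleton_iff.1 (hle ha)
  have i1 := Subgroup.index_strictAnti hCb
  have i2 := Subgroup.index_strictAnti hne2
  obtain ⟨s, -, hs⟩ := (Nat.dvd_prime_pow hp).1 (hc ▸ Subgroup.index_dvd_card C)
  obtain ⟨t, -, ht⟩ := (Nat.dvd_prime_pow hp).1
    (hc ▸ Subgroup.index_dvd_card (Subgroup.zpowers b ⊔ C))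
  obtain ⟨r, -, hr⟩ := (Nat.dvd_prime_pow hp).1
    (hc ▸ Subgroup.index_dvd_card (Subgroup.zpowers a ⊔ (Subgroup.zpowers b ⊔ C)))
  rw [hs, ht] at i1
  rw [ht, hr] at i2
  rw [hs] at hCi
  have j0 := (Nat.pow_le_pow_iff_right hp.one_lt).1 hCi
  have j1 := (Nat.pow_lt_pow_iff_right hp.one_lt).1 i1
  have j2 := (Nat.pow_lt_pow_iff_right hp.one_lt).1 i2
  have htop : Subgroup.zpowers a ⊔ (Subgroup.zpowers b ⊔ C) = ⊤ :=
    Subgroup.index_eq_one.1 (by rw [hr, show r = 0 by omega, pow_zero])
  have hCc : Nat.card C = p ^ 2 := by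
    have h := Subgroup.card_mul_index C
    rw [hs, show s = 2 by omega, hc, show p ^ 4 = p ^ 2 * p ^ 2 by ring] at h
    exact Nat.eq_of_mul_eq_mul_right (pow_pos hp.pos 2) h
  have hCab := IsPGroup.commutative_of_card_eq_prime_sq hCc
  have hCZ : C ≤ Z := fun g hg => by
    rw [hZd, Subgroup.mem_center_iff]
    intro h
    have hle : Subgroup.zpowers a ⊔ (Subgroup.zpowers b ⊔ C) ≤ Subgroup.centralizer ({g} : Set G) :=
      sup_le (Subgroup.zpowers_le.2 (Subgroup.mem_centralizer_singleton_iff.2 (hCmem g hg).1.eq.symm))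
        (sup_le (Subgroup.zpowers_le.2
          (Subgroup.mem_centralizer_singleton_iff.2 (hCmem g hg).2.eq.symm))
          fun v hv => Subgroup.mem_centralizer_singleton_iff.2
            (congrArg Subtype.val (hCab ⟨v, hv⟩ ⟨g, hg⟩)))
    exact Subgroup.mem_centralizer_singleton_iff.1 (hle (htop.ge (Subgroup.mem_top h)))
  obtain ⟨t', ht'⟩ := Cfsg.Agent.Lib.Cores.le_center_index hG hna
  have h2 := Subgroup.card_mul_index Z
  rw [hc, ht'] at h2
  have h3 : Nat.card Z * t' = p ^ 2 :=
    Nat.eq_of_mul_eq_mul_left (pow_pos hp.pos 2) (by rw [← pow_add, mul_left_comm, h2])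
  have h4 := Subgroup.card_le_of_le hCZ
  have h5 : Nat.card Z ≤ p ^ 2 := Nat.le_of_dvd (pow_pos hp.pos 2) ⟨t', h3.symm⟩
  omega

/-- The conclusion in the non-abelian case. -/
theorem nonabelian_cases (hG : IsPGroup p G) (hc : Nat.card G = p ^ 4)
    (hna : ¬ IsMulCommutative G) :
    HasChain G p ∨
    (Odd p ∧ ∃ (E : Type) (_ : Group E) (_ : Finite E), Cfsg.IsExtraspecial p E ∧
        Nat.card E = p ^ 3 ∧ (∀ x : E, x ^ p = 1) ∧ Nonempty (G ≃* E × Multiplicative (ZMod p))) ∨
    (p = 2 ∧ Nonempty (G ≃* QuaternionGroup 2 × Multiplicative (ZMod 2))) ∨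
    ((∀ x : G, x ^ p ^ 2 = 1) ∧ IsCyclic (Subgroup.center G) ∧
      Nat.card (Subgroup.center G) = p ^ 2) := by
  classical
  have hp : p.Prime := Fact.out
  haveI := hG.isNilpotent
  obtain ⟨i, hi4, hi⟩ := (Nat.dvd_prime_pow hp).1 (hc ▸ (frattini G).card_subgroup_dvd_card)
  have hpow : ∀ x : G, x ^ p ∈ frattini G := Cfsg.Agent.Lib.Cores.pow_mem_frattini hG
  have hDΦ : commutator G ≤ frattini G := Cfsg.Agent.Lib.Cores.commutator_le_frattini
  have hi0 : i ≠ 0 := fun h => hna ⟨⟨fun a b => by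
    have := hDΦ (Subgroup.commutator_mem_commutator (Subgroup.mem_top a) (Subgroup.mem_top b))
    rw [Subgroup.eq_bot_of_card_eq (frattini G) (by rw [hi, h, pow_zero]), Subgroup.mem_bot,
      commutatorElement_eq_one_iff_mul_comm] at this
    exact this⟩⟩
  have hi3 : i ≤ 2 := by
    by_contra hh
    refine hna ?_
    haveI : Nontrivial G := Finite.one_lt_card_iff_nontrivial.mp
      (hc ▸ Nat.one_lt_pow (by norm_num) hp.one_lt)
    have hne := Cfsg.Agent.Lib.Cores.frattini_ne_top (G := G)
    have hi' : i = 3 := by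
      have : i ≠ 4 := fun h => hne (Subgroup.eq_top_of_card_eq _ (by rw [hi, h, hc]))
      omega
    obtain ⟨x, hx⟩ := SetLike.exists_not_mem_of_ne_top (frattini G) hne rfl
    have htop : Subgroup.zpowers x = ⊤ := by
      refine frattini_nongenerating ?_
      have hlt : frattini G < Subgroup.zpowers x ⊔ frattini G := lt_of_le_of_ne le_sup_right
        fun e => hx (e ▸ Subgroup.mem_sup_left (Subgroup.mem_zpowers x))
      have h1 := Subgroup.index_strictAnti hlt
      have h2 := Subgroup.card_mul_index (frattini G)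
      rw [hi, hi', hc, pow_succ p 3] at h2
      rw [Nat.eq_of_mul_eq_mul_left (pow_pos hp.pos 3) h2] at h1
      obtain ⟨t, -, ht⟩ := (Nat.dvd_prime_pow hp).1
        (hc ▸ Subgroup.index_dvd_card (Subgroup.zpowers x ⊔ frattini G))
      rw [ht] at h1
      have h1' := (Nat.pow_lt_pow_iff_right hp.one_lt).1 (h1.trans_eq (pow_one p).symm)
      exact Subgroup.index_eq_one.1 (by rw [ht, show t = 0 by omega, pow_zero])
    refine ⟨⟨fun a b => ?_⟩⟩
    obtain ⟨m, rfl⟩ := Subgroup.mem_zpowers_iff.1 (htop.ge (Subgroup.mem_top a))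
    obtain ⟨n, rfl⟩ := Subgroup.mem_zpowers_iff.1 (htop.ge (Subgroup.mem_top b))
    exact (Commute.zpow_zpow_self x m n).eq
  by_cases hi2 : i = 2
  · exact Or.inl (chain_of_frattini_sq hG hc hna (by rw [hi, hi2]))
  have hΦ : Nat.card (frattini G) = p := by rw [hi, show i = 1 by omega, pow_one]
  obtain ⟨hDeq, hΦZ, hZc⟩ := center_of_frattini_prime hG hc hna hΦ
  set Z := Subgroup.center G with hZd
  set Φ := frattini G with hΦd
  have hΦexp : ∀ z ∈ Φ, z ^ p = 1 := fun z hz => by
    have h := pow_card_eq_one' (G := Φ) (x := ⟨z, hz⟩)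
    rw [hΦ] at h
    exact congrArg Subtype.val h
  have hp2exp : ∀ x : G, x ^ p ^ 2 = 1 := fun x => by
    rw [pow_two, pow_mul]; exact hΦexp _ (hpow x)
  by_cases hcyc : IsCyclic Z
  · exact Or.inr (Or.inr (Or.inr ⟨hp2exp, hcyc, hZc⟩))
  have hZexp : ∀ z ∈ Z, z ^ p = 1 := fun z hz => by
    by_contra h
    refine hcyc (isCyclic_iff_exists_orderOf_eq_natCard.2 ⟨⟨z, hz⟩, ?_⟩)
    rw [Subgroup.orderOf_mk, hZc]
    exact orderOf_eq_prime_pow (n := 1) (by rwa [pow_one]) (hp2exp z)
  have hmem : ∀ g h : G, ⁅g, h⁆ ∈ Φ := fun g h =>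
    hDΦ (Subgroup.commutator_mem_commutator (Subgroup.mem_top g) (Subgroup.mem_top h))
  obtain ⟨w, hwZ, hwΦ⟩ : ∃ w ∈ Z, w ∉ Φ := SetLike.not_le_iff_exists.1 fun h => by
    have := Subgroup.card_le_of_le h
    rw [hZc, hΦ] at this
    nlinarith [hp.two_le]
  -- the product decomposition for two non-commuting elements
  have hE : ∀ a b : G, a * b ≠ b * a →
      Nat.card (Subgroup.closure ({a, b} : Set G)) = p ^ 3 ∧
      (∀ g : G, ∃ e ∈ Subgroup.closure ({a, b} : Set G), ∃ n : ℕ, e * w ^ n = g) := by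
    intro a b hab
    set E := Subgroup.closure ({a, b} : Set G) with hEdef
    have haE : a ∈ E := Subgroup.subset_closure (Or.inl rfl)
    have hbE : b ∈ E := Subgroup.subset_closure (Or.inr rfl)
    have hΦE : Φ ≤ E := by
      have hcE : ⁅a, b⁆ ∈ E := by
        rw [commutatorElement_def]
        exact E.mul_mem (E.mul_mem (E.mul_mem haE hbE) (E.inv_mem haE)) (E.inv_mem hbE)
      have hc1 : ⁅a, b⁆ ≠ 1 := fun h => hab (commutatorElement_eq_one_iff_mul_comm.1 h)
      rw [← Subgroup.eq_of_le_of_card_ge (Subgroup.zpowers_le.2 (hmem a b))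
        (by rw [hΦ, Nat.card_zpowers, orderOf_eq_prime (hΦexp _ (hmem a b)) hc1])]
      exact Subgroup.zpowers_le.2 hcE
    haveI : E.Normal := Subgroup.Normal.of_commutator_le G (hDΦ.trans hΦE)
    set U := Subgroup.zpowers b ⊔ (Subgroup.zpowers a ⊔ Φ) with hU
    haveI : (Subgroup.zpowers a ⊔ Φ).Normal :=
      Subgroup.Normal.of_commutator_le G (hDΦ.trans le_sup_right)
    have hEU : E ≤ U := (Subgroup.closure_le _).2 (by
      rintro x (rfl | rfl)
      · exact Subgroup.mem_sup_right (Subgroup.mem_sup_left (Subgroup.mem_zpowers _))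
      · exact Subgroup.mem_sup_left (Subgroup.mem_zpowers _))
    have r1 : Φ.relIndex (Subgroup.zpowers a ⊔ Φ) ∣ p := relIndex_sup_zpowers_dvd Φ (hpow a)
    have r2 : (Subgroup.zpowers a ⊔ Φ).relIndex U ∣ p :=
      relIndex_sup_zpowers_dvd _ (Subgroup.mem_sup_right (hpow b))
    have hUc : Nat.card U ∣ p ^ 3 := by
      rw [← relIndex_mul_card (le_sup_right : Subgroup.zpowers a ⊔ Φ ≤ U),
        ← relIndex_mul_card (le_sup_right : Φ ≤ Subgroup.zpowers a ⊔ Φ), hΦ,
        show p ^ 3 = p * (p * p) by ring]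
      exact mul_dvd_mul r2 (mul_dvd_mul r1 dvd_rfl)
    have htop : E ⊔ Z = ⊤ := by
      have h1 := eq_top_of_gens hc hZc hab
      rw [eq_top_iff, ← h1]
      exact sup_le (le_sup_of_le_left (Subgroup.zpowers_le.2 hbE))
        (sup_le (le_sup_of_le_left (Subgroup.zpowers_le.2 haE)) le_sup_right)
    have hwE : w ∉ E := fun hw => by
      have hZE : Z ≤ E := by
        have hlt : Φ < Subgroup.zpowers w ⊔ Φ := lt_of_le_of_ne le_sup_right fun e =>
          hwΦ (e ▸ Subgroup.mem_sup_left (Subgroup.mem_zpowers w))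
        have hle : Subgroup.zpowers w ⊔ Φ ≤ Z := sup_le (Subgroup.zpowers_le.2 hwZ) hΦZ
        have heq : Subgroup.zpowers w ⊔ Φ = Z := by
          refine Subgroup.eq_of_le_of_card_ge hle ?_
          have h2 := relIndex_mul_card hlt.le
          have h3 : Φ.relIndex (Subgroup.zpowers w ⊔ Φ) ≠ 1 := fun h =>
            hlt.not_ge (Subgroup.relIndex_eq_one.1 h)
          rw [((Nat.dvd_prime hp).1 (relIndex_sup_zpowers_dvd Φ (hpow w))).resolve_left h3, hΦ,
            ← pow_two] at h2
          rw [hZc, h2]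
        rw [← heq]
        exact sup_le (Subgroup.zpowers_le.2 hw) hΦE
      rw [sup_eq_left.2 hZE] at htop
      rw [htop] at hEU
      rw [top_le_iff.1 hEU, Subgroup.card_top, hc, Nat.pow_dvd_pow_iff_le_right hp.one_lt] at hUc
      omega
    have hcov : ∀ g : G, ∃ e ∈ E, ∃ n : ℕ, e * w ^ n = g := by
      intro g
      obtain ⟨e, he, z, hz, rfl⟩ := Subgroup.mem_sup_of_normal_left.1 (htop.ge (Subgroup.mem_top g))
      have hzz : z ∈ Subgroup.zpowers w ⊔ Φ := by
        have hlt : Φ < Subgroup.zpowers w ⊔ Φ := lt_of_le_of_ne le_sup_right fun e =>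
          hwΦ (e ▸ Subgroup.mem_sup_left (Subgroup.mem_zpowers w))
        have h2 := relIndex_mul_card hlt.le
        have h3 : Φ.relIndex (Subgroup.zpowers w ⊔ Φ) ≠ 1 := fun h =>
          hlt.not_ge (Subgroup.relIndex_eq_one.1 h)
        rw [((Nat.dvd_prime hp).1 (relIndex_sup_zpowers_dvd Φ (hpow w))).resolve_left h3, hΦ,
          ← pow_two] at h2
        rw [Subgroup.eq_of_le_of_card_ge (sup_le (Subgroup.zpowers_le.2 hwZ) hΦZ)
          (by rw [hZc, h2])]
        exact hz
      obtain ⟨u, hu, f, hf, rfl⟩ := Subgroup.mem_sup_of_normal_right.1 hzz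
      obtain ⟨n, hn⟩ := mem_powers_iff_mem_zpowers.2 hu
      change w ^ n = u at hn
      subst hn
      exact ⟨e * f, E.mul_mem he (hΦE hf), n, by
        rw [mul_assoc, Subgroup.mem_center_iff.1 (Z.pow_mem hwZ n) f]⟩
    refine ⟨?_, hcov⟩
    obtain ⟨t, ht4, ht⟩ := (Nat.dvd_prime_pow hp).1 (hc ▸ E.card_subgroup_dvd_card)
    have ht' : t ≠ 4 := fun h => hwE (by
      rw [Subgroup.eq_top_of_card_eq E (by rw [ht, h, hc])]; exact Subgroup.mem_top w)
    have hsur : Function.Surjective fun x : E × Fin p => (x.1 : G) * w ^ (x.2 : ℕ) := by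
      intro g
      obtain ⟨e, he, n, rfl⟩ := hcov g
      exact ⟨(⟨e, he⟩, ⟨n % p, Nat.mod_lt _ hp.pos⟩), by
        show e * w ^ (n % p) = _
        rw [← pow_eq_pow_mod n (hZexp w hwZ)]⟩
    have hle := Nat.card_le_card_of_surjective _ hsur
    rw [Nat.card_prod, Nat.card_fin, hc, ht, ← pow_succ] at hle
    have := (Nat.pow_le_pow_iff_right hp.one_lt).1 hle
    rw [ht, show t = 3 by omega]
  let wHom : Multiplicative (ZMod p) →* G :=
    MonoidHom.mk' (fun k => w ^ k.toAdd.val) fun k l => by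
      show w ^ (k.toAdd + l.toAdd).val = _
      rw [← pow_add, ZMod.val_add, ← pow_eq_pow_mod _ (hZexp w hwZ)]
  have hwHom : ∀ k g, Commute (wHom k) g := fun k g =>
    (Subgroup.mem_center_iff.1 (Z.pow_mem hwZ k.toAdd.val) g).symm
  obtain ⟨a, b, hab⟩ : ∃ a b : G, a * b ≠ b * a := by
    by_contra! h; exact hna ⟨⟨h⟩⟩
  by_cases hp2 : p = 2
  · subst hp2
    have hsq : ∀ x : G, x ^ 2 = 1 ∨ x ^ 2 ∈ Φ ∧ x ^ 2 ≠ 1 := fun x =>
      (em (x ^ 2 = 1)).imp_right fun h => ⟨hpow x, h⟩
    have huniq : ∀ u v : G, u ∈ Φ → v ∈ Φ → u ≠ 1 → v ≠ 1 → u = v := by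
      intro u v hu hv hu1 hv1
      obtain ⟨k, hk⟩ := mem_powers_iff_mem_zpowers.2
        (mem_zpowers_of_prime_card (p := 2) hΦ (g := (⟨u, hu⟩ : Φ)) (g' := ⟨v, hv⟩)
          fun h => hu1 (congrArg Subtype.val h))
      have hk' : u ^ k = v := congrArg Subtype.val hk
      rw [pow_eq_pow_mod k (hΦexp u hu)] at hk'
      rcases Nat.mod_two_eq_zero_or_one k with e | e <;> rw [e] at hk'
      · exact absurd (by simpa using hk'.symm) hv1
      · simpa using hk'
    by_cases hQ : ∃ a b : G, a * b ≠ b * a ∧ a ^ 2 ≠ 1 ∧ b ^ 2 ≠ 1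
    · right; right; left
      refine ⟨rfl, ?_⟩
      obtain ⟨a, b, hab, ha, hb⟩ := hQ
      have hc1 : ⁅a, b⁆ ≠ 1 := fun h => hab (commutatorElement_eq_one_iff_mul_comm.1 h)
      have e1 : a ^ 2 = ⁅a, b⁆ := huniq _ _ (hpow a) (hmem a b) ha hc1
      have e2 : b ^ 2 = a ^ 2 := huniq _ _ (hpow b) (hpow a) hb ha
      have ha4 : a ^ (2 * 2) = 1 := hp2exp a
      have hinv : b * a * b⁻¹ = a⁻¹ := by
        have hc2 : ⁅a, b⁆⁻¹ = ⁅a, b⁆ := inv_eq_of_mul_eq_one_right
          (by rw [← pow_two]; exact hΦexp _ (hmem a b))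
        have : b * a * b⁻¹ = ⁅a, b⁆⁻¹ * a := by rw [commutatorElement_def]; group
        rw [this, hc2, ← e1]
        exact eq_inv_of_mul_eq_one_left (by rw [← pow_succ, ← pow_succ]; exact ha4)
      let q := Cfsg.Agent.Lib.Classical.quatHom 2 a b ha4 (by rw [← pow_two]; exact e2) hinv
      let φ : QuaternionGroup 2 × Multiplicative (ZMod 2) →* G :=
        q.noncommCoprod wHom fun x k => (hwHom k (q x)).symm
      have hφs : Function.Surjective φ := by
        intro g
        obtain ⟨e, he, n, rfl⟩ := (hE a b hab).2 g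
        have heq : Subgroup.closure ({a, b} : Set G) ≤ q.range := by
          rw [Subgroup.closure_le]
          rintro x (rfl | rfl)
          · refine ⟨QuaternionGroup.a 1, ?_⟩
            show x ^ ((1 : ZMod (2 * 2)).cast : ℤ) = x
            rw [show ((1 : ZMod (2 * 2)).cast : ℤ) = 1 from rfl, zpow_one]
          · refine ⟨QuaternionGroup.xa 0, ?_⟩
            show x * a ^ ((0 : ZMod (2 * 2)).cast : ℤ) = x
            rw [ZMod.cast_zero, zpow_zero, mul_one]
        obtain ⟨x, rfl⟩ := heq he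
        refine ⟨(x, Multiplicative.ofAdd ((n : ZMod 2))), ?_⟩
        show q x * w ^ ((n : ZMod 2)).val = _
        rw [ZMod.val_natCast, ← pow_eq_pow_mod n (hZexp w hwZ)]
      have hbij : Function.Bijective φ :=
        (Nat.bijective_iff_surjective_and_card φ).2 ⟨hφs, by
          rw [hc, Nat.card_prod, Nat.card_eq_fintype_card (α := QuaternionGroup 2),
            QuaternionGroup.card]
          simp⟩
      exact ⟨(MulEquiv.ofBijective φ hbij).symm⟩
    · left
      push_neg at hQ
      set T := Subgroup.closure ({x : G | x ^ 2 ≠ 1}) with hT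
      set L := T ⊔ Z with hL
      obtain ⟨u, huZ, hu⟩ : ∃ u, u ∉ Z ∧ u ^ 2 ≠ 1 := by
        have hnz : ∀ x y : G, x * y ≠ y * x → x ∉ Z := fun x y h hx =>
          h (Subgroup.mem_center_iff.1 hx y).symm
        by_cases ha : a ^ 2 = 1
        · by_cases hb : b ^ 2 = 1
          · refine ⟨a * b, hnz (a * b) a (fun h => hab ?_), fun h => hab ?_⟩
            · rw [mul_assoc] at h; exact (mul_left_cancel h).symm
            · have h1 : (a * b)⁻¹ = a * b := inv_eq_of_mul_eq_one_right (by rw [← pow_two, h])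
              have ha' : a⁻¹ = a := inv_eq_of_mul_eq_one_right (by rw [← pow_two, ha])
              have hb' : b⁻¹ = b := inv_eq_of_mul_eq_one_right (by rw [← pow_two, hb])
              rw [mul_inv_rev, ha', hb'] at h1
              exact h1.symm
          · exact ⟨b, hnz b a (fun h => hab h.symm), hb⟩
        · exact ⟨a, hnz a b hab, ha⟩
      have hLne : L ≠ ⊤ := by
        intro h
        refine hab ?_
        haveI hTc : IsMulCommutative T := Subgroup.isMulCommutative_closure (by
          intro x hx y hy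
          by_contra hxy
          exact hy (hQ x y hxy hx))
        obtain ⟨t₁, ht₁, z₁, hz₁, rfl⟩ := Subgroup.mem_sup_of_normal_right.1 (h.ge (Subgroup.mem_top a))
        obtain ⟨t₂, ht₂, z₂, hz₂, rfl⟩ := Subgroup.mem_sup_of_normal_right.1 (h.ge (Subgroup.mem_top b))
        have c1 : Commute t₁ t₂ := congrArg Subtype.val (hTc.is_comm.comm ⟨t₁, ht₁⟩ ⟨t₂, ht₂⟩)
        have c2 : ∀ v, Commute z₁ v := fun v => (Subgroup.mem_center_iff.1 hz₁ v).symm
        have c3 : ∀ v, Commute z₂ v := fun v => (Subgroup.mem_center_iff.1 hz₂ v).symm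
        exact ((c1.mul_left (c2 t₂)).mul_right ((c3 _).symm)).eq
      have hZL : Z < L := lt_of_le_of_ne le_sup_right fun e =>
        huZ (e ▸ Subgroup.mem_sup_left (Subgroup.subset_closure hu))
      have i1 := Subgroup.index_strictAnti hZL
      have hZi : Z.index = 2 ^ 2 := by
        have h := Subgroup.card_mul_index Z
        rw [hZc, hc] at h
        omega
      obtain ⟨t, -, ht⟩ := (Nat.dvd_prime_pow hp).1 (hc ▸ Subgroup.index_dvd_card L)
      rw [hZi, ht] at i1
      have j1 := (Nat.pow_lt_pow_iff_right one_lt_two).1 i1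
      have ht0 : t ≠ 0 := fun h => hLne (Subgroup.index_eq_one.1 (by rw [ht, h, pow_zero]))
      refine ⟨Φ, Z, L, hΦZ, le_sup_right, hΦ, hZc, by rw [ht, show t = 1 by omega, pow_one],
        inv_frattini, inv_center, fun α x hx => ?_⟩
      obtain ⟨t₁, ht₁, z₁, hz₁, rfl⟩ := Subgroup.mem_sup_of_normal_right.1 hx
      rw [map_mul]
      refine L.mul_mem (Subgroup.mem_sup_left ?_) (Subgroup.mem_sup_right (inv_center α _ hz₁))
      have hle : T ≤ T.comap α.toMonoidHom := (Subgroup.closure_le _).2 fun y hy =>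
        Subgroup.subset_closure (fun h => hy (α.injective (by rw [map_pow, map_one]; exact h)))
      exact hle ht₁
  · have hodd : Odd p := hp.odd_of_ne_two hp2
    have hmulpow : ∀ u v : G, (u * v) ^ p = u ^ p * v ^ p := by
      intro u v
      rw [Cfsg.Agent.Lib.Components.mul_pow_class_two (d := ⁅v, u⁆)
        (fun x _ => (Subgroup.mem_center_iff.1 (hΦZ (hmem v u)) x).symm)
        (by rw [commutatorElement_def]; group) p]
      obtain ⟨k, hk⟩ := hp.dvd_choose_self two_ne_zero (lt_of_le_of_ne hp.two_le (Ne.symm hp2))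
      rw [hk, pow_mul, hΦexp _ (hmem v u), one_pow, one_mul]
    let P : G →* Φ := MonoidHom.mk' (fun u => ⟨u ^ p, hpow u⟩) fun u v => Subtype.ext (hmulpow u v)
    by_cases hall : ∀ x : G, x ^ p = 1
    · right; left
      obtain ⟨hEc, hcov⟩ := hE a b hab
      set E := Subgroup.closure ({a, b} : Set G) with hEdef
      have hEna : ¬ IsMulCommutative E := fun h => hab (congrArg Subtype.val (h.is_comm.comm
        ⟨a, Subgroup.subset_closure (Or.inl rfl)⟩ ⟨b, Subgroup.subset_closure (Or.inr rfl)⟩))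
      let E' : Type := Shrink.{0} E
      let e : E' ≃* E := Shrink.mulEquiv
      have hE'c : Nat.card E' = p ^ 3 := by rw [Nat.card_congr e.toEquiv, hEc]
      haveI : Finite E' := Finite.of_equiv E e.symm.toEquiv
      have hE'p : IsPGroup p E' := (hG.to_subgroup E).of_equiv e.symm
      have hna' : ¬ IsMulCommutative E' := fun h => hEna ⟨⟨fun x y => by
        have := congrArg e (h.is_comm.comm (e.symm x) (e.symm y))
        simpa using this⟩⟩
      obtain ⟨hex, -, -⟩ := Cfsg.Agent.S5186.cube_facts hE'p hE'c hna'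
      refine ⟨hodd, E', inferInstance, inferInstance, hex, hE'c, fun x => ?_, ?_⟩
      · exact e.injective (Subtype.ext (by rw [map_pow, map_one]; exact hall _))
      let φ : E' × Multiplicative (ZMod p) →* G :=
        (E.subtype.comp e.toMonoidHom).noncommCoprod wHom fun x k => (hwHom k _).symm
      have hφs : Function.Surjective φ := by
        intro g
        obtain ⟨y, hy, n, rfl⟩ := hcov g
        refine ⟨(e.symm ⟨y, hy⟩, Multiplicative.ofAdd ((n : ZMod p))), ?_⟩
        show (e (e.symm ⟨y, hy⟩) : G) * w ^ ((n : ZMod p)).val = _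
        rw [e.apply_symm_apply, ZMod.val_natCast, ← pow_eq_pow_mod n (hZexp w hwZ)]
      have hbij : Function.Bijective φ :=
        (Nat.bijective_iff_surjective_and_card φ).2 ⟨hφs, by
          rw [hc, Nat.card_prod, hE'c]
          simp [pow_succ]⟩
      exact ⟨(MulEquiv.ofBijective φ hbij).symm⟩
    · left
      push_neg at hall
      obtain ⟨x, hx⟩ := hall
      refine ⟨Φ, Z, P.ker, hΦZ, fun z hz => Subtype.ext (hZexp z hz), hΦ, hZc, ?_, inv_frattini,
        inv_center, fun α y hy => ?_⟩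
      · rw [Subgroup.index_ker]
        refine ((Nat.dvd_prime hp).1 (hΦ ▸ P.range.card_subgroup_dvd_card)).resolve_left fun h => ?_
        exact hx (congrArg Subtype.val
          (Subgroup.mem_bot.1 ((Subgroup.eq_bot_of_card_eq _ h).le ⟨x, rfl⟩)))
      · refine Subtype.ext ?_
        show (α y) ^ p = 1
        rw [← map_pow, show y ^ p = 1 from congrArg Subtype.val hy, map_one]

/-- Let F be a saturated fusion system over a finite p-group S and H an essential subgroup of order p⁴. Then H is isomorphic to one of: C_p⁴ or C_{p²} × C_p × C_p (any p); C_{p²} × C_{p²} with p ∈ {2, 3}; p^{1+2}_+ × C_p with p odd (the direct product of an extraspecial group of order p³ and exponent p with a group of order p); Q₈ × C₂ (p = 2); or the non-abelian group of order p⁴ of exponent p² whose centre is cyclic of order p² (the central product of an extraspecial group of order p³ with a cyclic group of order p²; for p = 2 this is D₈ ∘ C₄). -/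
theorem result {Ω : Type u} [Group Ω] {S : Subgroup Ω} [Finite S] (p : ℕ) [Fact p.Prime] (hS : IsPGroup p S)
    (F : Cfsg.FusionSystem S) (hF : F.IsSaturated p) (H : Subgroup Ω) (hH : F.IsEssential p H) (hcard : Nat.card H = p ^ 4) :
    Cfsg.IsElementaryAbelian p H ∨
      Nonempty (↥H ≃* Multiplicative (ZMod (p ^ 2) × ZMod p × ZMod p)) ∨
      ((p = 2 ∨ p = 3) ∧ Nonempty (↥H ≃* Multiplicative (ZMod (p ^ 2) × ZMod (p ^ 2)))) ∨
      (Odd p ∧ ∃ (E : Type) (_ : Group E) (_ : Finite E), Cfsg.IsExtraspecial p E ∧ Nat.card E = p ^ 3 ∧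
        (∀ x : E, x ^ p = 1) ∧ Nonempty (↥H ≃* E × Multiplicative (ZMod p))) ∨
      (p = 2 ∧ Nonempty (↥H ≃* QuaternionGroup 2 × Multiplicative (ZMod 2))) ∨
      (¬ IsMulCommutative ↥H ∧ (∀ x ∈ H, x ^ (p ^ 2) = 1) ∧ IsCyclic ↥(Subgroup.center ↥H) ∧
        Nat.card (Subgroup.center ↥H) = p ^ 2) := by
  classical
  have hp : p.Prime := Fact.out
  have hHS := hH.1.1
  have := finite_of_le hHS
  have hHp : IsPGroup p H := hS.to_le hHS
  by_cases hab : IsMulCommutative ↥H
  · obtain ⟨i, hi4, hi⟩ := (Nat.dvd_prime_pow hp).1 (hcard ▸ Subgroup.index_dvd_card (frattini ↥H))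
    by_cases hi2 : i ≤ 2
    · rcases Cfsg.Agent.S5187.result p hS F hF H hH hab
        (by rw [hi]; exact Nat.pow_le_pow_right hp.pos hi2) with ⟨-, h2⟩ | ⟨hp3, k, ⟨e⟩⟩
      · rw [hcard] at h2
        exact absurd (Nat.pow_right_injective hp.two_le h2) (by norm_num)
      · have hk : k = 2 := by
          have h := Nat.card_congr e.toEquiv
          rw [hcard] at h
          simp only [Nat.card_eq_fintype_card (α := Multiplicative _)] at h
          simp at h
          rw [← pow_add] at h
          have := Nat.pow_right_injective hp.two_le h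
          omega
        subst hk
        refine Or.inr (Or.inr (Or.inl ⟨?_, ⟨e⟩⟩))
        interval_cases p
        · exact absurd hp Nat.not_prime_zero
        · exact absurd hp Nat.not_prime_one
        · exact Or.inl rfl
        · exact Or.inr rfl
    letI : CommGroup H := { (inferInstance : Group H) with mul_comm := hab.is_comm.comm }
    by_cases hexp : ∀ x : H, x ^ p = 1
    · exact Or.inl ⟨hab, fun a ha => congrArg Subtype.val (hexp ⟨a, ha⟩)⟩
    push_neg at hexp
    obtain ⟨x, hx⟩ := hexp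
    right; left
    set Φ := frattini ↥H with hΦd
    have hpow : ∀ z : H, z ^ p ∈ Φ := Cfsg.Agent.Lib.Cores.pow_mem_frattini hHp
    have hΦne : Φ ≠ ⊥ := fun h => hx (Subgroup.mem_bot.1 (h.le (hpow x)))
    have hΦc : Nat.card Φ = p := by
      have h := Subgroup.card_mul_index Φ
      obtain ⟨j, -, hj⟩ := (Nat.dvd_prime_pow hp).1 (hcard ▸ Φ.card_subgroup_dvd_card)
      rw [hi, hj, hcard, ← pow_add] at h
      have h' := Nat.pow_right_injective hp.two_le h
      have : j ≠ 0 := fun h0 => hΦne (Subgroup.eq_bot_of_card_eq _ (by rw [hj, h0, pow_zero]))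
      rw [hj, show j = 1 by omega, pow_one]
    have hxp2 : x ^ p ^ 2 = 1 := by
      have h := pow_card_eq_one' (G := Φ) (x := ⟨x ^ p, hpow x⟩)
      rw [hΦc] at h
      rw [pow_two, pow_mul]; exact congrArg Subtype.val h
    set z := x ^ p with hz
    set O := (powMonoidHom p : H →* H).ker with hO
    have hOc : Nat.card O = p ^ 3 := by
      have hR : (powMonoidHom p : H →* H).range = Φ := by
        refine Subgroup.eq_of_le_of_card_ge (by rintro _ ⟨y, rfl⟩; exact hpow y) ?_
        rw [hΦc]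
        have hne : (powMonoidHom p : H →* H).range ≠ ⊥ := fun h =>
          hx (Subgroup.mem_bot.1 (h.le ⟨x, rfl⟩))
        rcases (Nat.dvd_prime hp).1 (hΦc ▸ Subgroup.card_dvd_of_le
          (show (powMonoidHom p : H →* H).range ≤ Φ by rintro _ ⟨y, rfl⟩; exact hpow y)) with h | h
        · exact absurd (Subgroup.eq_bot_of_card_eq _ h) hne
        · rw [h]
      have h := Subgroup.card_mul_index O
      rw [hO, Subgroup.index_ker, hR, hΦc, hcard, pow_succ] at h
      exact Nat.eq_of_mul_eq_mul_right hp.pos h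
    have hzO : z ∈ O := by
      show z ^ p = 1
      rw [hz, ← pow_mul, ← pow_two]; exact hxp2
    have hpick : ∀ A : Subgroup H, Nat.card A < p ^ 3 → ∃ y ∈ O, y ∉ A := fun A hA => by
      refine SetLike.not_le_iff_exists.1 fun hle => ?_
      have := Subgroup.card_le_of_le hle
      rw [hOc] at this
      omega
    have hzc : Nat.card (Subgroup.zpowers z) = p := by
      rw [Nat.card_zpowers, orderOf_eq_prime hzO hx]
    obtain ⟨y, hyO, hy⟩ := hpick (Subgroup.zpowers z) (by
      rw [hzc]; exact lt_self_pow₀ hp.one_lt (by norm_num))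
    have hY : Nat.card ↥(Subgroup.zpowers y ⊔ Subgroup.zpowers z) ∣ p ^ 2 := by
      rw [← relIndex_mul_card (le_sup_right : Subgroup.zpowers z ≤ _), hzc, pow_two]
      exact mul_dvd_mul (relIndex_sup_zpowers_dvd _ (by rw [show y ^ p = 1 from hyO]; exact Subgroup.one_mem _)) dvd_rfl
    obtain ⟨v, hvO, hv⟩ := hpick (Subgroup.zpowers y ⊔ Subgroup.zpowers z)
      ((Nat.le_of_dvd (pow_pos hp.pos 2) hY).trans_lt (Nat.pow_lt_pow_right hp.one_lt (by norm_num)))
    have hval : ∀ (n : ℕ) (e : H), e ^ n = 1 → ∀ [NeZero n] (u w : ZMod n),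
        e ^ (u + w).val = e ^ u.val * e ^ w.val := fun n e he _ u w => by
      rw [← pow_add, ZMod.val_add, ← pow_eq_pow_mod _ he]
    haveI : NeZero (p ^ 2) := ⟨pow_ne_zero 2 hp.ne_zero⟩
    let f : Multiplicative (ZMod (p ^ 2) × ZMod p × ZMod p) →* H :=
      MonoidHom.mk' (fun q => x ^ q.toAdd.1.val * (y ^ q.toAdd.2.1.val * v ^ q.toAdd.2.2.val))
        fun q r => by
          show x ^ (q.toAdd.1 + r.toAdd.1).val * (y ^ (q.toAdd.2.1 + r.toAdd.2.1).val *
            v ^ (q.toAdd.2.2 + r.toAdd.2.2).val) = _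
          rw [hval _ x hxp2, hval _ y hyO, hval _ v hvO]
          rw [mul_mul_mul_comm (y ^ _), mul_mul_mul_comm (x ^ _)]
    have hdvd : ∀ (e : H) (W : Subgroup H), e ^ p ∈ W → ∀ n : ℕ, e ^ n ∈ W → e ∉ W → p ∣ n := by
      intro e W h1 n hwn he
      by_contra hn
      apply he
      have hg : Nat.gcd n p = 1 :=
        Nat.Coprime.gcd_eq_one ((Nat.Prime.coprime_iff_not_dvd hp).2 hn).symm
      have e' : e ^ ((n.gcd p : ℕ) : ℤ) = (e ^ n) ^ n.gcdA p * (e ^ p) ^ n.gcdB p := by
        rw [Nat.gcd_eq_gcd_ab, zpow_add, zpow_mul, zpow_mul, zpow_natCast, zpow_natCast]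
      rw [hg, Nat.cast_one, zpow_one] at e'
      rw [e']
      exact W.mul_mem (W.zpow_mem hwn _) (W.zpow_mem h1 _)
    have hfi : Function.Injective f := by
      rw [injective_iff_map_eq_one]
      intro q hq
      change x ^ q.toAdd.1.val * (y ^ q.toAdd.2.1.val * v ^ q.toAdd.2.2.val) = 1 at hq
      set i := q.toAdd.1.val with hidef
      set j := q.toAdd.2.1.val with hjdef
      set k := q.toAdd.2.2.val with hkdef
      have hi1 : z ^ i = 1 := by
        have h := congrArg (fun t : H => t ^ p) hq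
        simp only [mul_pow, one_pow] at h
        rw [← pow_mul y, mul_comm j, pow_mul, show y ^ p = 1 from hyO, one_pow, ← pow_mul v,
          mul_comm k, pow_mul, show v ^ p = 1 from hvO, one_pow, one_mul, mul_one, ← pow_mul,
          mul_comm, pow_mul] at h
        exact h
      obtain ⟨i', hi'⟩ : p ∣ i := orderOf_eq_prime (hzO : z ^ p = 1) hx ▸ orderOf_dvd_of_pow_eq_one hi1
      rw [hi', pow_mul, ← hz] at hq
      have hk : p ∣ k := hdvd v _ (by rw [show v ^ p = 1 from hvO]; exact Subgroup.one_mem _) k (by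
        rw [show v ^ k = (z ^ i' * y ^ j)⁻¹ by
          refine eq_inv_of_mul_eq_one_left ?_
          rw [← hq]; simp only [mul_comm, mul_left_comm, mul_assoc]]
        exact Subgroup.inv_mem _ (Subgroup.mul_mem _
          (Subgroup.mem_sup_right (Subgroup.pow_mem _ (Subgroup.mem_zpowers z) _))
          (Subgroup.mem_sup_left (Subgroup.pow_mem _ (Subgroup.mem_zpowers y) _)))) hv
      have hk0 : k = 0 := Nat.eq_zero_of_dvd_of_lt hk (ZMod.val_lt _)
      rw [hk0, pow_zero, mul_one] at hq
      have hj : p ∣ j := hdvd y _ (by rw [show y ^ p = 1 from hyO]; exact Subgroup.one_mem _) j (by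
        rw [eq_inv_of_mul_eq_one_right hq]
        exact Subgroup.inv_mem _ (Subgroup.pow_mem _ (Subgroup.mem_zpowers z) _)) hy
      have hj0 : j = 0 := Nat.eq_zero_of_dvd_of_lt hj (ZMod.val_lt _)
      rw [hj0, pow_zero, mul_one] at hq
      have hi'0 : p ∣ i' := orderOf_eq_prime (hzO : z ^ p = 1) hx ▸ orderOf_dvd_of_pow_eq_one hq
      have hi0 : i = 0 := Nat.eq_zero_of_dvd_of_lt (by rw [hi', pow_two]; exact mul_dvd_mul_left p hi'0)
        (ZMod.val_lt _)
      exact Multiplicative.toAdd.injective (Prod.ext ((ZMod.val_eq_zero _).1 hi0)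
        (Prod.ext ((ZMod.val_eq_zero _).1 hj0) ((ZMod.val_eq_zero _).1 hk0)))
    exact ⟨(MulEquiv.ofBijective f ((Nat.bijective_iff_injective_and_card f).2 ⟨hfi, by
      rw [hcard]; simp [pow_succ, mul_assoc]⟩)).symm⟩
  rcases nonabelian_cases hHp hcard hab with h | h | h | ⟨h1, h2, h3⟩
  · exfalso
    obtain ⟨A, B, C, hAB, hBC, hA, hB, hC, iA, iB, iC⟩ := h
    have hCc : Nat.card C = p ^ 3 := by
      have h := Subgroup.card_mul_index C
      rw [hC, hcard, pow_succ] at h
      exact Nat.eq_of_mul_eq_mul_right hp.pos h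
    have r1 : A.relIndex B = p := by
      have h := relIndex_mul_card hAB
      rw [hA, hB, pow_two] at h
      exact Nat.eq_of_mul_eq_mul_right hp.pos h
    have r2 : B.relIndex C = p := by
      have h := relIndex_mul_card hBC
      rw [hB, hCc, show p ^ 3 = p * p ^ 2 by ring] at h
      exact Nat.eq_of_mul_eq_mul_right (pow_pos hp.pos 2) h
    refine IsEssential.not_series hS hF hH
      (fun i => match i with | 0 => ⊥ | 1 => A | 2 => B | 3 => C | _ => ⊤) 4 rfl rfl ?_ ?_
    · intro α hα i x hx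
      match i, hx with
      | 0, hx => simp only [Subgroup.mem_bot] at hx ⊢; rw [hx, map_one]
      | 1, hx => exact iA α x hx
      | 2, hx => exact iB α x hx
      | 3, hx => exact iC α x hx
      | i + 4, _ => exact Subgroup.mem_top _
    · intro i hi
      interval_cases i
      · simp [hA]
      · simp [r1]
      · simp [r2]
      · simp [hC]
  · exact Or.inr (Or.inr (Or.inr (Or.inl h)))
  · exact Or.inr (Or.inr (Or.inr (Or.inr (Or.inl h))))
  · exact Or.inr (Or.inr (Or.inr (Or.inr (Or.inr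
      ⟨hab, fun x hx => congrArg Subtype.val (h1 ⟨x, hx⟩), h2, h3⟩))))

end Cfsg.Agent.S5188
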