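import Cfsg.Statements.S5191
import Cfsg.Agent.Lib.Fusion.GroupSystem

set_option autoImplicit false
open Cfsg Cfsg.FusionSystem Cfsg.Agent.Lib.Fusion

namespace Cfsg.Agent.S5191

/-- Fusion in a finite group G and in its quotient by O_{p'}(G) agree. Let S be a Sylow p-subgroup of G, N = O_{p'}(G) and P ≤ S. If an element of G/N conjugates the image of P into the image of S, then some element g of G conjugates P into S and induces the same map on P modulo N. (Together with the injectivity of S → G/N this says that g ↦ gN induces an isomorphism of the fusion system of G on S with that of G/N on SN/N.) -/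
theorem result {G : Type*} [Group G] [Finite G] {p : ℕ} [Fact p.Prime]
    [hN : (Cfsg.pPrimeCore p G).Normal] (S : Sylow p G) (P : Subgroup G) (hP : P ≤ (S : Subgroup G))
    (γ : G ⧸ Cfsg.pPrimeCore p G)
    (hγ : ∀ x ∈ P, γ * QuotientGroup.mk x * γ⁻¹ ∈ ((S : Subgroup G).map (QuotientGroup.mk' (Cfsg.pPrimeCore p G)))) :
    ∃ g : G, ∀ x ∈ P, g * x * g⁻¹ ∈ S ∧
      (QuotientGroup.mk (g * x * g⁻¹) : G ⧸ Cfsg.pPrimeCore p G) = γ * QuotientGroup.mk x * γ⁻¹ := by
  obtain ⟨g, rfl⟩ := QuotientGroup.mk_surjective γ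
  set N := Cfsg.pPrimeCore p G with hNdef
  set H := (S : Subgroup G) ⊔ N with hHdef
  have hPH : P.map (MulAut.conj g).toMonoidHom ≤ H := by
    rintro _ ⟨x, hx, rfl⟩
    obtain ⟨s, hs, he⟩ := hγ x hx
    have h1 : s⁻¹ * (g * x * g⁻¹) ∈ N := QuotientGroup.eq.1 (by simpa using he)
    have := H.mul_mem (Subgroup.mem_sup_left hs) (Subgroup.mem_sup_right h1)
    simpa using this
  have hPp : IsPGroup p ((P.map (MulAut.conj g).toMonoidHom).subgroupOf H) :=
    ((S.2.to_le hP).map _).of_equiv (Subgroup.subgroupOfEquivOfLe hPH).symm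
  obtain ⟨T, hT⟩ := hPp.exists_le_sylow
  obtain ⟨⟨k, hk⟩, hkT⟩ := MulAction.exists_smul_eq H T (S.subtype (le_sup_left : (S : Subgroup G) ≤ H))
  obtain ⟨s, hs, n, hn, rfl⟩ := Subgroup.mem_sup_of_normal_right.1 hk
  refine ⟨n * g, fun x hx => ⟨?_, ?_⟩⟩
  · have h1 : (⟨g * x * g⁻¹, hPH ⟨x, hx, rfl⟩⟩ : H) ∈ (T : Subgroup H) := hT ⟨x, hx, rfl⟩
    have h2 : (⟨s * n, hk⟩ : H) * ⟨g * x * g⁻¹, hPH ⟨x, hx, rfl⟩⟩ * (⟨s * n, hk⟩ : H)⁻¹ ∈
        (S.subtype (le_sup_left : (S : Subgroup G) ≤ H) : Subgroup H) := by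
      rw [← hkT, Sylow.coe_subgroup_smul]
      exact ⟨_, h1, rfl⟩
    have h3 : s * n * (g * x * g⁻¹) * (s * n)⁻¹ ∈ (S : Subgroup G) := h2
    have h4 := (S : Subgroup G).mul_mem ((S : Subgroup G).mul_mem ((S : Subgroup G).inv_mem hs) h3) hs
    show n * g * x * (n * g)⁻¹ ∈ (S : Subgroup G)
    convert h4 using 1
    group
  · have : ((n : G) : G ⧸ N) = 1 := (QuotientGroup.eq_one_iff n).2 hn
    simp only [QuotientGroup.mk_mul, QuotientGroup.mk_inv]
    erw [this]
    group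

end Cfsg.Agent.S5191
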