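import Cfsg.Statements.S5192
import Cfsg.Agent.Lib.Fusion.Tate

set_option autoImplicit false
open Cfsg Cfsg.FusionSystem Cfsg.Agent.Lib.Fusion

namespace Cfsg.Agent.S5192

/-- A Thompson-type transfer for saturated fusion systems. Let F be a saturated fusion system on a finite 2-group S, T a subgroup of S of index 2, and i an involution of S such that every fully normalized F-conjugate of i lies in S but outside T. Then i does not lie in the hyperfocal subgroup of F (the Sylow group of the 2-residual subsystem). -/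
theorem result {Ω : Type*} [Group Ω] [Finite Ω] {S : Subgroup Ω}
    (hS : IsPGroup 2 ↥S) (F : Cfsg.FusionSystem S) (hF : F.IsSaturated 2)
    (T : Subgroup Ω) (hTS : T ≤ S) (hT : T.relIndex S = 2)
    (i : Ω) (hi : i ∈ S) (hi2 : orderOf i = 2)
    (h : ∀ j : Ω, F.IsConjElt i j → F.IsFullyNormalized (Subgroup.zpowers j) → j ∉ T) :
    i ∉ F.hyperfocalSubgroup 2 := by
  classical
  have hTn : (T.subgroupOf S).Normal := Subgroup.normal_of_index_eq_two hT
  have hcard : Nat.card (↥S ⧸ T.subgroupOf S) = 2 := hT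
  haveI : Fact (Nat.Prime 2) := ⟨Nat.prime_two⟩
  haveI : IsCyclic (↥S ⧸ T.subgroupOf S) := isCyclic_of_prime_card hcard
  letI : CommGroup (↥S ⧸ T.subgroupOf S) := IsCyclic.commGroup
  let μ : ↥S →* ↥S ⧸ T.subgroupOf S := QuotientGroup.mk' _
  obtain ⟨B, hB⟩ := exists_stableBiset hS hF
  intro hhyp
  -- the transfer kills the hyperfocal subgroup
  have hfoc : ∀ y ∈ F.hyperfocalSubgroup 2, ∀ hy : y ∈ S, B.transferOf μ ⟨y, hy⟩ = 1 := by
    intro y hy
    induction hy using Subgroup.closure_induction with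
    | mem w hw =>
      obtain ⟨P, α, x, hP, -, rfl⟩ := hw
      intro hy
      rw [show (⟨_, hy⟩ : S) = (⟨x, hP x.2⟩ : S)⁻¹ * ⟨autHom (α : MulAut P) x, hP ((α : MulAut P) x).2⟩ from rfl,
        map_mul, map_inv, inv_mul_eq_one]
      exact (B.transferOf_map μ (autHom_mem F hP α.2) ⟨x, hP x.2⟩ x.2).symm
    | one => exact fun _ => map_one (B.transferOf μ)
    | mul a b ha hb iha ihb =>
      intro hy
      rw [show (⟨a * b, hy⟩ : S) = ⟨a, hyperfocal_le F 2 ha⟩ * ⟨b, hyperfocal_le F 2 hb⟩ from rfl,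
        map_mul, iha, ihb, one_mul]
    | inv a ha iha =>
      intro hy
      rw [show (⟨a⁻¹, hy⟩ : S) = ⟨a, inv_mem_iff.1 hy⟩⁻¹ from rfl, map_inv, iha, inv_one]
  -- move to a fully normalized conjugate
  have hzS : Subgroup.zpowers i ≤ S := Subgroup.zpowers_le.2 hi
  obtain ⟨R, ⟨φ, hφ, hφr⟩, hRn⟩ := exists_fullyNormalized F hzS
  set x : S := ⟨φ ⟨i, Subgroup.mem_zpowers i⟩, apply_mem hφ _⟩
  have hR : R = Subgroup.zpowers (x : Ω) := by
    rw [← hφr]
    refine le_antisymm ?_ (Subgroup.zpowers_le.2 ⟨_, rfl⟩)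
    rintro _ ⟨⟨_, k, rfl⟩, rfl⟩
    exact ⟨k, ((congrArg φ (Subtype.ext rfl)).trans (map_zpow φ ⟨i, Subgroup.mem_zpowers i⟩ k)).symm⟩
  have hx2 : (x : Ω) ^ 2 = 1 := by
    have h1 : (⟨i, Subgroup.mem_zpowers i⟩ : Subgroup.zpowers i) ^ 2 = 1 :=
      Subtype.ext (show i ^ 2 = 1 by rw [← hi2, pow_orderOf_eq_one])
    show φ _ ^ 2 = 1
    rw [← map_pow, h1, map_one]
  have hix : B.transferOf μ ⟨i, hi⟩ = B.transferOf μ x :=
    (B.transferOf_map μ hφ ⟨i, hi⟩ (Subgroup.mem_zpowers i)).symm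
  have h0 : B.transferOf μ x = 1 := hix ▸ hfoc i hhyp hi
  let f : Ω → ↥S ⧸ T.subgroupOf S := fun z => if h : z ∈ S then μ ⟨z, h⟩ else 1
  have hf : IsSInvariant S f := by
    intro a ha z hz
    have h' : a * z * a⁻¹ ∈ S := S.mul_mem (S.mul_mem ha hz) (S.inv_mem ha)
    simp only [f, dif_pos h', dif_pos hz]
    rw [show (⟨a * z * a⁻¹, h'⟩ : S) = ⟨a, ha⟩ * ⟨z, hz⟩ * ⟨a, ha⟩⁻¹ from rfl, map_mul, map_mul,
      map_inv, mul_comm (μ ⟨a, ha⟩), mul_assoc, mul_inv_cancel, mul_one]
  have h1 : B.orbitProd f x = 1 := by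
    have := fun j => Fintype.ofFinite
      (Quotient (MulAction.orbitRel (Subgroup.zpowers x) (S ⧸ (B.P j).subgroupOf S)))
    rw [← h0, B.orbitProd_eq hf, StableBiset.transferOf, B.transferHom_eq]
    refine Finset.prod_congr rfl fun j _ => Finset.prod_congr rfl fun q _ => ?_
    simp only [f, dif_pos (apply_mem (B.mem j) _)]
    rfl
  have hx' : x ^ 2 = 1 := Subtype.ext hx2
  have hper : ∀ y : B.Pts, x • y ≠ y → Function.minimalPeriod (fun z : B.Pts => x • z) y = 2 :=
    fun y hy => Function.minimalPeriod_eq_prime (p := 2)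
      (show Function.IsPeriodicPt (fun z : B.Pts => x • z) 2 y by
        rw [Function.IsPeriodicPt, Function.IsFixedPt, smul_iterate]
        show x ^ 2 • y = y
        rw [hx', one_smul]) hy
  have hper1 : ∀ y : B.Pts, x • y = y → Function.minimalPeriod (fun z : B.Pts => x • z) y = 1 :=
    fun y hy => Function.minimalPeriod_eq_one_iff_isFixedPt.2 hy
  have hnon : ∀ y : B.Pts, x • y ≠ y → B.ptVal f x y = 1 := by
    intro y hy
    have he : (⟨_, B.out_conj_mem x y⟩ : B.P y.1) = 1 := Subtype.ext (by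
      show ((y.2.out⁻¹ * x ^ Function.minimalPeriod (fun z : B.Pts => x • z) y * y.2.out : S) : Ω) = 1
      rw [hper y hy, hx', mul_one, inv_mul_cancel, Subgroup.coe_one])
    show f (B.φ y.1 _) = 1
    rw [he, map_one]
    simp only [f, dif_pos S.one_mem]
    exact map_one μ
  -- reduce to fixed points
  letI : Fintype B.Pts := Fintype.ofFinite _
  let r := MulAction.orbitRel (Subgroup.zpowers x) B.Pts
  letI : Fintype (Quotient r) := Fintype.ofFinite _
  have hfixrel : ∀ y y' : B.Pts, r y y' → x • y' = y' → y = y' := by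
    rintro y y' ⟨⟨_, k, rfl⟩, rfl⟩ hy'
    exact (MulAction.zpow_smul_eq_iff_minimalPeriod_dvd (n := k)).2 (by rw [hper1 y' hy', Nat.cast_one]; exact one_dvd k)
  let Fx := Finset.univ.filter fun y : B.Pts => x • y = y
  have hprod : ∏ y ∈ Fx, B.ptVal f x y = 1 := by
    have h2 : B.orbitProd f x = ∏ o : Quotient r, B.ptVal f x o.out := by
      unfold StableBiset.orbitProd
      congr 1
    rw [← h1, h2, ← Finset.prod_filter_mul_prod_filter_not Finset.univ (fun o : Quotient r => x • o.out = o.out),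
      Finset.prod_eq_one (s := Finset.univ.filter fun o : Quotient r => ¬ x • o.out = o.out)
        (fun o ho => hnon _ (Finset.mem_filter.1 ho).2), mul_one]
    refine Finset.prod_bij (fun y _ => Quotient.mk r y) (fun y hy => ?_) (fun a ha b hb e => ?_)
      (fun o ho => ⟨o.out, ?_, o.out_eq⟩) (fun y hy => ?_)
    · have hy' := (Finset.mem_filter.1 hy).2
      refine Finset.mem_filter.2 ⟨Finset.mem_univ _, ?_⟩
      rw [hfixrel _ _ (Quotient.mk_out y) hy']
      exact hy'
    · exact hfixrel a b (Quotient.exact e) (Finset.mem_filter.1 hb).2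
    · exact Finset.mem_filter.2 ⟨Finset.mem_univ _, (Finset.mem_filter.1 ho).2⟩
    · rw [hfixrel _ _ (Quotient.mk_out y) (Finset.mem_filter.1 hy).2]
  -- the centralizer of `x` moves every fixed point whose value is trivial
  set K := (centralizerIn S R).subgroupOf S
  have hKcomm : ∀ k ∈ K, k * x = x * k := fun k hk =>
    Subtype.ext ((mem_centralizerIn.1 hk).2 (x : Ω) (hR ▸ Subgroup.mem_zpowers _)).symm
  let Bd := {y : B.Pts // x • y = y ∧ B.ptVal f x y = 1}
  have hval : ∀ (j : Fin B.n) (u : S), x • (⟨j, QuotientGroup.mk u⟩ : B.Pts) = ⟨j, QuotientGroup.mk u⟩ →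
      ∃ hu : (u : Ω)⁻¹ * x * u ∈ B.P j,
        B.ptVal f x ⟨j, QuotientGroup.mk u⟩ = f (B.φ j ⟨_, hu⟩) := by
    intro j u hy
    have hl := hper1 _ hy
    have h3 : (u : Ω)⁻¹ * x * u ∈ B.P j := by
      rw [Sigma.smul_mk, MulAction.Quotient.smul_coe] at hy
      have h4 := (eq_of_heq (Sigma.mk.inj hy).2).symm
      rw [QuotientGroup.eq, Subgroup.mem_subgroupOf] at h4
      simpa [mul_assoc] using h4
    refine ⟨h3, (B.ptVal_eq hf x j u (by rw [hl, pow_one]; exact h3)).trans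
      (congrArg f (congrArg (B.φ j) (Subtype.ext ?_)))⟩
    dsimp only
    rw [hl, pow_one]
  have hclosed : ∀ (k : K) (y : B.Pts), x • y = y → B.ptVal f x y = 1 →
      x • ((k : S) • y) = (k : S) • y ∧ B.ptVal f x ((k : S) • y) = 1 := by
    rintro k ⟨j, q⟩ hy hv
    obtain ⟨u, rfl⟩ := QuotientGroup.mk_surjective q
    have hfx : x • ((k : S) • (⟨j, QuotientGroup.mk u⟩ : B.Pts)) = (k : S) • ⟨j, QuotientGroup.mk u⟩ := by
      rw [← mul_smul, ← hKcomm k k.2, mul_smul, hy]
    refine ⟨hfx, ?_⟩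
    obtain ⟨hu, e1⟩ := hval j u hy
    rw [Sigma.smul_mk, MulAction.Quotient.smul_coe, smul_eq_mul]
    obtain ⟨hu', e2⟩ := hval j ((k : S) * u) (by
      simpa only [Sigma.smul_mk, MulAction.Quotient.smul_coe, smul_eq_mul] using hfx)
    rw [e2, ← hv, e1]
    refine congrArg f (congrArg (B.φ j) (Subtype.ext ?_))
    show ((((k : S) * u : S)⁻¹ * x * ((k : S) * u) : S) : Ω) = ((u⁻¹ * x * u : S) : Ω)
    congr 1
    rw [mul_assoc _ x, ← mul_assoc x, ← hKcomm k k.2]
    group
  letI act : MulAction K Bd :=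
    { smul := fun k y => ⟨(k : S) • y.1, hclosed k y.1 y.2.1 y.2.2⟩
      one_smul := fun y => Subtype.ext (one_smul S y.1)
      mul_smul := fun a b y => Subtype.ext (mul_smul (a : S) (b : S) y.1) }
  have hnofix : IsEmpty (MulAction.fixedPoints K Bd) := by
    refine ⟨?_⟩
    rintro ⟨⟨⟨j, q⟩, hy, hv⟩, hfix⟩
    obtain ⟨u, rfl⟩ := QuotientGroup.mk_surjective q
    obtain ⟨hu, e1⟩ := hval j u hy
    set z := B.φ j ⟨_, hu⟩ with hz
    have hzS : z ∈ S := apply_mem (B.mem j) _
    have hKP : ∀ k : K, (u : Ω)⁻¹ * (k : S) * u ∈ B.P j := by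
      intro k
      have h4 : (k : S) • (⟨j, QuotientGroup.mk u⟩ : B.Pts) = ⟨j, QuotientGroup.mk u⟩ :=
        congrArg Subtype.val (hfix k)
      rw [Sigma.smul_mk, MulAction.Quotient.smul_coe] at h4
      have h5 := (eq_of_heq (Sigma.mk.inj h4).2).symm
      rw [QuotientGroup.eq, Subgroup.mem_subgroupOf] at h5
      simpa [mul_assoc] using h5
    -- `z` is conjugate to `i`
    obtain ⟨χ, hχ, hχz⟩ : ∃ χ ∈ F.Hom (Subgroup.zpowers i), χ ⟨i, Subgroup.mem_zpowers i⟩ = z := by
      have hm : ∀ a, φ a ∈ R := fun a => hφr ▸ ⟨a, rfl⟩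
      let c := conjHom R (u : Ω)⁻¹
      have hc : c ∈ F.Hom R := F.conj_mem hRn.1 (S.inv_mem u.2)
      have hm' : ∀ a, compose φ c hm a ∈ B.P j := by
        rintro ⟨_, k, rfl⟩
        have e : compose φ c hm ⟨i ^ k, ⟨k, rfl⟩⟩ = ((u : Ω)⁻¹ * x * u) ^ k := by
          rw [show (⟨i ^ k, ⟨k, rfl⟩⟩ : Subgroup.zpowers i) =
            (⟨i, Subgroup.mem_zpowers i⟩ : Subgroup.zpowers i) ^ k from rfl, map_zpow]
          show ((u : Ω)⁻¹ * (x : Ω) * (u : Ω)⁻¹⁻¹) ^ k = _
          rw [inv_inv]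
        rw [e]
        exact zpow_mem hu k
      refine ⟨compose (compose φ c hm) (B.φ j) hm', compose_mem F (compose_mem F hφ hc hm) (B.mem j) hm', ?_⟩
      refine congrArg (B.φ j) (Subtype.ext ?_)
      show (u : Ω)⁻¹ * (x : Ω) * (u : Ω)⁻¹⁻¹ = _
      rw [inv_inv]
    have hiz : F.IsConjElt i z := ⟨χ, hχ, hχz⟩
    have hχr : χ.range = Subgroup.zpowers z := by
      refine le_antisymm ?_ (Subgroup.zpowers_le.2 ⟨_, hχz⟩)
      rintro _ ⟨⟨_, k, rfl⟩, rfl⟩
      exact ⟨k, ((congrArg χ (Subtype.ext rfl)).trans ((map_zpow χ ⟨i, Subgroup.mem_zpowers i⟩ k).trans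
        (congrArg (· ^ k) hχz))).symm⟩
    have hzz : ∀ (g : Ω) (w : Ω), w ^ 2 = 1 → g ∈ Subgroup.normalizer ((Subgroup.zpowers w : Subgroup Ω) : Set Ω) →
        g * w = w * g := by
      intro g w hw hg
      by_cases hw1 : w = 1
      · simp [hw1]
      obtain ⟨k, hk⟩ := conj_mem_of_mem_normalizer hg (Subgroup.mem_zpowers w)
      have hk' : g * w * g⁻¹ = w := by
        rcases Int.even_or_odd k with ⟨l, hl⟩ | ⟨l, hl⟩
        · exfalso
          have : g * w * g⁻¹ = 1 := by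
            rw [← hk]; dsimp only; rw [hl, ← two_mul, zpow_mul, zpow_two, ← sq, hw, one_zpow]
          exact hw1 (conj_eq_one_iff.1 this)
        · rw [← hk]; dsimp only
          rw [hl, zpow_add_one, zpow_mul, zpow_two, ← sq, hw, one_zpow, one_mul]
      exact mul_inv_eq_iff_eq_mul.1 hk'
    have hle : Nat.card (normalizerIn S R) ≤ Nat.card (normalizerIn S (Subgroup.zpowers z)) := by
      have hN : normalizerIn S R ≤ centralizerIn S R := fun g hg => by
        refine mem_centralizerIn.2 ⟨hg.1, fun y hy => ?_⟩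
        rw [hR] at hy
        obtain ⟨k, rfl⟩ := hy
        have hgx : Commute g (x : Ω) := hzz g x hx2 (hR ▸ hg.2)
        exact ((hgx.zpow_right k).eq).symm
      let ι : normalizerIn S R → normalizerIn S (Subgroup.zpowers z) := fun g =>
        ⟨B.φ j ⟨_, hKP ⟨⟨g, g.2.1⟩, hN g.2⟩⟩, mem_normalizerIn.2 ⟨apply_mem (B.mem j) _, by
          have hc' : B.φ j ⟨_, hKP ⟨⟨g, g.2.1⟩, hN g.2⟩⟩ * z =
              z * B.φ j ⟨_, hKP ⟨⟨g, g.2.1⟩, hN g.2⟩⟩ := by
            rw [hz, ← map_mul, ← map_mul]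
            refine congrArg (B.φ j) (Subtype.ext ?_)
            show (u : Ω)⁻¹ * g * u * ((u : Ω)⁻¹ * x * u) = (u : Ω)⁻¹ * x * u * ((u : Ω)⁻¹ * g * u)
            have h6 : (g : Ω) * x = x * g :=
              ((mem_centralizerIn.1 (hN g.2)).2 (x : Ω) (hR ▸ Subgroup.mem_zpowers _)).symm
            calc _ = (u : Ω)⁻¹ * ((g : Ω) * x) * u := by group
              _ = _ := by rw [h6]; group
          refine Subgroup.centralizer_le_normalizer _ (Subgroup.mem_centralizer_iff.2 ?_)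
          rintro _ ⟨k, rfl⟩
          exact (((show Commute _ z from hc').zpow_right k).eq).symm⟩⟩
      have : Finite (normalizerIn S (Subgroup.zpowers z)) := finite_of_le (normalizerIn_le _ _)
      refine Nat.card_le_card_of_injective ι fun g g' e => ?_
      have h7 := congrArg Subtype.val (F.injective_of_mem (B.mem j) (congrArg Subtype.val e))
      exact Subtype.ext (mul_left_cancel (mul_right_cancel h7))
    have hzn : F.IsFullyNormalized (Subgroup.zpowers z) := ⟨Subgroup.zpowers_le.2 hzS, fun Q hQ => by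
      have h8 : F.IsConj R Q := isConj_trans (isConj_symm ⟨φ, hφ, hφr⟩) (isConj_trans ⟨χ, hχ, hχr⟩ hQ)
      exact (hRn.2 Q h8).trans hle⟩
    refine h z hiz hzn ?_
    rw [e1] at hv
    simp only [f, dif_pos hzS] at hv
    exact Subgroup.mem_subgroupOf.1 ((QuotientGroup.eq_one_iff _).1 hv)
  have hKp : IsPGroup 2 K := hS.to_subgroup K
  have hBd : Nat.card Bd % 2 = 0 := by
    have := hKp.card_modEq_card_fixedPoints Bd
    rwa [Nat.card_eq_zero.2 (Or.inl hnofix)] at this
  have hFx : Fx.card % 2 = 1 := by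
    have hp := (hS.to_subgroup (Subgroup.zpowers x)).card_modEq_card_fixedPoints B.Pts
    have e : Nat.card (MulAction.fixedPoints (Subgroup.zpowers x) B.Pts) = Fx.card := by
      rw [← Nat.card_eq_finsetCard]
      refine Nat.card_congr (Equiv.subtypeEquivRight fun y => ?_)
      simp only [Fx, Finset.mem_filter, Finset.mem_univ, true_and]
      refine ⟨fun hy => hy ⟨x, Subgroup.mem_zpowers x⟩, fun hy => ?_⟩
      rintro ⟨_, k, rfl⟩
      exact (MulAction.zpow_smul_eq_iff_minimalPeriod_dvd (n := k)).2 (by rw [hper1 y hy, Nat.cast_one]; exact one_dvd k)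
    have hm : Nat.card B.Pts = ∑ j, ((B.P j).subgroupOf S).index := Nat.card_sigma
    rw [e, hm] at hp
    have hodd : (∑ j, ((B.P j).subgroupOf S).index) % 2 = 1 := Nat.two_dvd_ne_zero.1 hB
    unfold Nat.ModEq at hp
    omega
  have hsplit : ∏ y ∈ Fx, B.ptVal f x y =
      ∏ y ∈ Fx.filter (fun y => B.ptVal f x y ≠ 1), B.ptVal f x y := (Finset.prod_filter_ne_one Fx).symm
  have hBdcard : Nat.card Bd = (Fx.filter (fun y => ¬ B.ptVal f x y ≠ 1)).card := by
    rw [← Nat.card_eq_finsetCard]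
    refine Nat.card_congr (Equiv.subtypeEquivRight fun y => ?_)
    simp [Fx]
  have hgood : (Fx.filter (fun y => B.ptVal f x y ≠ 1)).card % 2 = 1 := by
    have := Finset.card_filter_add_card_filter_not (s := Fx) (fun y => B.ptVal f x y ≠ 1)
    omega
  obtain ⟨a, ha, huniq⟩ := Nat.card_eq_two_iff' (1 : ↥S ⧸ T.subgroupOf S) |>.1 hcard
  rw [hsplit, Finset.prod_eq_pow_card (b := a) (fun y hy => huniq _ (Finset.mem_filter.1 hy).2)] at hprod
  have ha2 : a ^ 2 = 1 := by rw [← hcard]; exact pow_card_eq_one'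
  rw [← Nat.div_add_mod (Fx.filter (fun y => B.ptVal f x y ≠ 1)).card 2, hgood, pow_add, pow_mul, ha2,
    one_pow, one_mul, pow_one] at hprod
  exact ha hprod

end Cfsg.Agent.S5192
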