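import Cfsg.Statements.S5196
import Cfsg.Agent.Lib.Fusion.CenterFunctor

set_option autoImplicit false
universe u
open Cfsg Cfsg.FusionSystem Cfsg.Agent.Lib.Fusion

namespace Cfsg.Agent.S5196

/-- Let p be an odd prime and W a positive characteristic p-functor: W assigns to every finite p-group Q (in a fixed universe) a subgroup W(Q), nontrivial when Q is, carried to W(R) by every isomorphism Q ≅ R; assume also Z(Q) ≤ W(Q) for every finite p-group Q. Suppose W satisfies the local condition: for every finite group G with Sylow p-subgroup P, O_p(G) ∩ Z(G) = O_p(G) ∩ Z(N_G(W(P))). Then W controls weak closure of elements in every saturated fusion system F over a finite p-group S: the centre of the normalizer fusion system of W(S) in F equals the centre of F. (For p = 2 no functor satisfies the local condition, so p is taken odd.) -/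
theorem result {p : ℕ} [Fact p.Prime] (hp : p ≠ 2) (W : ∀ (Q : Type u) [Group Q], Subgroup Q) (hW1 : ∀ (Q : Type u) [Group Q] [Finite Q], IsPGroup p Q → Nontrivial Q → W Q ≠ ⊥) (hW2 : ∀ (Q R : Type u) [Group Q] [Group R] [Finite Q], IsPGroup p Q → ∀ φ : Q ≃* R, (W Q).map φ.toMonoidHom = W R) (hWZ : ∀ (Q : Type u) [Group Q] [Finite Q], IsPGroup p Q → Subgroup.center Q ≤ W Q) (hC : ∀ (G : Type u) [Group G] [Finite G] (P : Sylow p G), Cfsg.pCore p G ⊓ Subgroup.center G = Cfsg.pCore p G ⊓ (Subgroup.center ↥(Subgroup.normalizer (((W ↥(P : Subgroup G)).map (P : Subgroup G).subtype : Subgroup G) : Set G))).map (Subgroup.normalizer (((W ↥(P : Subgroup G)).map (P : Subgroup G).subtype : Subgroup G) : Set G)).subtype) {Ω : Type u} [Group Ω] {S : Subgroup Ω} [Finite S] (hS : IsPGroup p S) (F : Cfsg.FusionSystem S) (hF : F.IsSaturated p) (N : Cfsg.FusionSystem (Cfsg.FusionSystem.normalizerIn S ((W ↥S).map S.subtype))) (hN : F.IsNormalizerSystem ((W ↥S).map S.subtype) N) : N.center = F.center := by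
  have hW : IsCenterFunctor p W := ⟨⟨hW1, hW2⟩, hC⟩
  have hVS : ((W ↥S).map S.subtype) ≤ S := Subgroup.map_subtype_le _
  have hnb : S ≤ Subgroup.normalizer ((⊥ : Subgroup Ω) : Set Ω) := fun x _ =>
    mem_normalizer_of_finite fun y hy => by
      rw [Subgroup.mem_bot.1 hy]
      simp
  have hnV : S ≤ Subgroup.normalizer (((W ↥S).map S.subtype) : Set Ω) := fun g hg => by
    rw [← relFunctor_bot hW.toIsPFunctor S hS]
    exact normalizer_le_relFunctor hW.toIsPFunctor hS hnb ⟨Subgroup.le_normalizer hg, hnb hg⟩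
  have hT : normalizerIn S ((W ↥S).map S.subtype) = S := le_antisymm (normalizerIn_le S ((W ↥S).map S.subtype)) fun g hg => ⟨hg, hnV hg⟩
  have : Finite (normalizerIn S ((W ↥S).map S.subtype)) := finite_of_le (normalizerIn_le S ((W ↥S).map S.subtype))
  apply le_antisymm
  · -- the centre of the normalizer is central
    set Z := N.center
    have hZ := isCentral_center N
    have hZS : Z ≤ S := hZ.1.trans (normalizerIn_le S ((W ↥S).map S.subtype))
    have hfix : ∀ z ∈ Z, ∀ (X : Subgroup Ω) (φ : X →* Ω), φ ∈ N.Hom X → FixesElt z φ := by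
      intro z hz X φ hφ x
      obtain ⟨ψ, hψ, hext, hf⟩ := hZ.2 X φ hφ
      rw [← hext x]
      constructor
      · intro hx
        rw [show Subgroup.inclusion le_sup_left x = Subgroup.inclusion le_sup_right (⟨z, hz⟩ : Z) from
          Subtype.ext hx]
        exact hf ⟨z, hz⟩
      · intro hx
        exact congrArg Subtype.val (N.injective_of_mem hψ (hx.trans (hf ⟨z, hz⟩).symm))
    have hZc : ∀ z ∈ Z, z ∈ centralizerIn S S := fun z hz => by
      refine mem_centralizerIn.2 ⟨hZS hz, fun s hs => ?_⟩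
      have hs' : s ∈ normalizerIn S ((W ↥S).map S.subtype) := hT.ge hs
      have h1 := ((hfix z hz Z (conjHom Z s) (N.conj_mem hZ.1 hs')) ⟨z, hz⟩).1 rfl
      exact mul_inv_eq_iff_eq_mul.1 (show s * z * s⁻¹ = z from h1)
    have hall : ∀ z ∈ Z, ∀ (X : Subgroup Ω) (φ : X →* Ω), φ ∈ F.Hom X → FixesElt z φ := by
      intro z hz
      have hbot : IsPGroup p (F.autGroup (⊥ : Subgroup Ω)) := by
        intro α
        refine ⟨0, Subtype.ext (MulEquiv.ext fun y => ?_)⟩
        exact Subsingleton.elim _ _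
      refine center_ctrl_all hW hS hF (isNormal_bot F) hbot z (hZc z hz) fun X φ hφ => ?_
      rw [relFunctor_bot hW.toIsPFunctor S hS, ← hN X] at hφ
      exact hfix z hz X φ hφ
    have hC' : centralizerIn S Z = S := le_antisymm (centralizerIn_le S Z) fun s hs =>
      mem_centralizerIn.2 ⟨hs, fun z hz => ((mem_centralizerIn.1 (hZc z hz)).2 s hs).symm⟩
    let E := recast (centralizerSystem F Z hZS) hC'
    have hle : F ≤ E := alperin hS hF E fun P hP α hα => by
      have hPS : P ≤ S := by
        rcases hP with rfl | hP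
        · exact le_rfl
        · exact hP.1.1
      have hZP : Z ≤ P := by
        rcases hP with rfl | hP
        · exact hZS
        · exact fun z hz => hP.1.2 P (isConj_refl F hPS) (mem_centralizerIn.2
            ⟨hZS hz, fun s hs => (mem_centralizerIn.1 (hZc z hz)).2 s (hPS hs)⟩)
      have hα' := autHom_mem F hPS hα
      refine mem_autGroup_of_hom E ⟨hα', hC'.symm ▸ hPS, fun x => hC'.symm ▸ apply_mem hα' x,
        restr (sup_le le_rfl hZP) (autHom α), restr_mem F hα' _, fun x => rfl, fun x => ?_⟩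
      exact (hall x x.2 P _ hα' ⟨x, hZP x.2⟩).1 rfl
    refine le_sSup ⟨hZS, fun P φ hφ => ?_⟩
    obtain ⟨-, -, -, hψ⟩ := hle P hφ
    exact hψ
  · -- the centre is central in the normalizer
    have hZ := isCentral_center F
    refine le_sSup ⟨hZ.1.trans hT.ge, fun P φ hφ => ?_⟩
    rw [hN P] at hφ
    obtain ⟨-, hP, hv, ψ, hψ, hext, himg⟩ := hφ
    obtain ⟨χ, hχ, hχext, hχfix⟩ := hZ.2 _ ψ hψ
    have hle : P ⊔ F.center ≤ P ⊔ ((W ↥S).map S.subtype) ⊔ F.center := sup_le_sup_right le_sup_left _
    refine ⟨restr hle χ, ?_, fun x => (hχext (Subgroup.inclusion le_sup_left x)).trans (hext x),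
      fun x => hχfix x⟩
    rw [hN]
    have hle2 : P ⊔ F.center ⊔ ((W ↥S).map S.subtype) ≤ P ⊔ ((W ↥S).map S.subtype) ⊔ F.center := by
      rw [sup_right_comm]
    refine ⟨restr_mem F hχ hle, (sup_le (hP.trans (normalizerIn_le S ((W ↥S).map S.subtype))) hZ.1).trans hT.ge,
      fun x => hT.ge (apply_mem (restr_mem F hχ hle) x), restr hle2 χ, restr_mem F hχ hle2,
      fun x => rfl, ?_⟩
    show img (restr hle2 χ) ((W ↥S).map S.subtype) = ((W ↥S).map S.subtype)
    rw [img_restr hle2 χ le_sup_right]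
    have e : restr (le_sup_left : P ⊔ ((W ↥S).map S.subtype) ≤ P ⊔ ((W ↥S).map S.subtype) ⊔ F.center) χ = ψ := MonoidHom.ext hχext
    rw [← img_restr (le_sup_left : P ⊔ ((W ↥S).map S.subtype) ≤ P ⊔ ((W ↥S).map S.subtype) ⊔ F.center) χ le_sup_right, e]
    exact himg

end Cfsg.Agent.S5196
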