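import Cfsg.Statements.S5198
import Cfsg.Agent.Lib.Fusion.Essential
import Cfsg.Agent.Lib.Fusion.NormalCriteria
import Cfsg.Agent.Lib.Cores.Residual

set_option autoImplicit false
open Cfsg Cfsg.FusionSystem Cfsg.Agent.Lib.Fusion

namespace Cfsg.Agent.S5198

variable {Ω : Type*} [Group Ω] {S : Subgroup Ω}

/-- A map compatible with the conjugation action on `T` modulo `N`. -/
def Good {T : Subgroup Ω} (hTn : S ≤ Subgroup.normalizer (T : Set Ω)) (A N : Subgroup (MulAut T))
    (P : Subgroup Ω) (φ : P →* Ω) : Prop :=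
  ∃ a ∈ A, ∀ (y : P) (hy : (y : Ω) ∈ S) (hφ : φ y ∈ S),
    (conjAut (hTn hφ))⁻¹ * (a * conjAut (hTn hy) * a⁻¹) ∈ N

omit S in
theorem conjAut_mul {T : Subgroup Ω} {g h : Ω} (hg : g ∈ Subgroup.normalizer (T : Set Ω))
    (hh : h ∈ Subgroup.normalizer (T : Set Ω)) :
    conjAut (Subgroup.mul_mem _ hg hh) = conjAut hg * conjAut hh :=
  MulEquiv.ext fun x => Subtype.ext (by
    show g * h * x * (g * h)⁻¹ = g * (h * x * h⁻¹) * g⁻¹
    group)

omit S in
theorem conjAut_eq_of_eq {T : Subgroup Ω} {g h : Ω} (e : g = h)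
    (hg : g ∈ Subgroup.normalizer (T : Set Ω))
    (hh : h ∈ Subgroup.normalizer (T : Set Ω)) : conjAut hg = conjAut hh := by
  subst e; rfl

/-- The good maps form a subsystem. -/
def goodSystem (F : FusionSystem S) {T : Subgroup Ω} (hTn : S ≤ Subgroup.normalizer (T : Set Ω))
    (A N : Subgroup (MulAut T)) (hA : ∀ g (hg : g ∈ S), conjAut (hTn hg) ∈ A)
    (hN : ∀ a ∈ A, ∀ n ∈ N, a * n * a⁻¹ ∈ N) : FusionSystem S where
  Hom P := {φ | φ ∈ F.Hom P ∧ Good hTn A N P φ}
  le_of_mem h := F.le_of_mem h.1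
  injective_of_mem h := F.injective_of_mem h.1
  conj_mem {P g} hP hg := by
    refine ⟨F.conj_mem hP hg, conjAut (hTn hg), hA g hg, fun y hy hφ => ?_⟩
    have e : conjAut (hTn hφ) = conjAut (hTn hg) * conjAut (hTn hy) * (conjAut (hTn hg))⁻¹ := by
      rw [eq_mul_inv_iff_mul_eq, ← conjAut_mul, ← conjAut_mul]
      exact conjAut_eq_of_eq (by
        show g * (y : Ω) * g⁻¹ * g = g * y
        group) _ _
    rw [← e, inv_mul_cancel]
    exact one_mem _
  comp_mem {P Q φ ψ} hφ hψ h := by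
    refine ⟨F.comp_mem hφ.1 hψ.1 h, ?_⟩
    obtain ⟨-, a, ha, hφa⟩ := hφ
    obtain ⟨hψ, b, hb, hψb⟩ := hψ
    refine ⟨b * a, A.mul_mem hb ha, fun y hy hψy => ?_⟩
    have hmS : φ y ∈ S := source_le hψ (h y)
    have h2 := hψb ⟨φ y, h y⟩ hmS hψy
    have h3 := hN b hb _ (hφa y hy hmS)
    have h4 := N.mul_mem h2 h3
    convert h4 using 1
    group
    rfl
  inv_mem {P φ} hφ := by
    obtain ⟨hφ, a, ha, hφa⟩ := hφ
    obtain ⟨χ, hχ, hl⟩ := F.inv_mem hφ
    refine ⟨χ, ⟨hχ, a⁻¹, A.inv_mem ha, ?_⟩, hl⟩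
    rintro ⟨_, y, rfl⟩ hy hχy
    have e : χ ⟨φ y, ⟨y, rfl⟩⟩ = (y : Ω) := by
      have := hl y
      exact this
    have hyS : (y : Ω) ∈ S := F.le_of_mem hφ |>.1 y.2
    rw [conjAut_eq_of_eq e (hTn hχy) (hTn hyS), inv_inv]
    have h1 := hN a⁻¹ (A.inv_mem ha) _ (N.inv_mem (hφa y hyS hy))
    convert h1 using 1
    group

/-- Let F be a saturated fusion system over a finite p-group S and T a subgroup of S strongly closed in F (so T is normal in S). Then every element x of the hyperfocal subgroup of F acts on T by conjugation as an element of O^p(Aut_F(T))·Inn(T): there is an automorphism of T in the subgroup generated by the elements of Aut_F(T) of order prime to p together with the inner automorphisms of T that agrees with conjugation by x. -/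
theorem result {Ω : Type*} [Group Ω] {S : Subgroup Ω} [Finite S] (p : ℕ) [Fact p.Prime] (hS : IsPGroup p S) (F : Cfsg.FusionSystem S) (hF : F.IsSaturated p) (T : Subgroup Ω) (hT : F.StronglyClosed T) : ∀ x ∈ F.hyperfocalSubgroup p, ∃ α ∈ ((Cfsg.pResidual p ↥(F.autGroup T)).map (F.autGroup T).subtype ⊔ Cfsg.Inn ↥T : Subgroup (MulAut ↥T)), ∀ t : ↥T, ((α t : ↥T) : Ω) = x * (t : Ω) * x⁻¹ := by
  classical
  have hTS := hT.1
  have hTn : S ≤ Subgroup.normalizer (T : Set Ω) :=
    WeaklyClosed.le_normalizer (StronglyClosed.weaklyClosed hT)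
  have := finite_of_le hTS
  set A := F.autGroup T with hAdef
  set N : Subgroup (MulAut T) := (Cfsg.pResidual p ↥A).map A.subtype ⊔ Cfsg.Inn ↥T with hNdef
  have hA : ∀ g (hg : g ∈ S), conjAut (hTn hg) ∈ A := fun g hg => conjAut_mem_autGroup F hTS hg _
  have hInn : Inn T ≤ A := inn_le_autGroup F hTS
  have hNA : N ≤ A := sup_le (Subgroup.map_subtype_le _) hInn
  haveI : (Cfsg.pResidual p ↥A).Normal := ⟨fun n hn g => by
    have hle : Cfsg.pResidual p ↥A ≤ (Cfsg.pResidual p ↥A).comap (MulAut.conj g).toMonoidHom :=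
      (Subgroup.closure_le _).2 fun m hm => Subgroup.subset_closure (by
        show (orderOf (MulAut.conj g m)).Coprime p
        rw [MulEquiv.orderOf_eq]
        exact hm)
    exact hle hn⟩
  have hN : ∀ a ∈ A, ∀ n ∈ N, a * n * a⁻¹ ∈ N := by
    intro a ha n hn
    have hle : N ≤ N.comap (MulAut.conj a).toMonoidHom := by
      refine sup_le ?_ ?_
      · rintro _ ⟨m, hm, rfl⟩
        exact Subgroup.mem_sup_left ⟨⟨a, ha⟩ * m * ⟨a, ha⟩⁻¹, Subgroup.Normal.conj_mem inferInstance m hm _, rfl⟩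
      · rintro _ ⟨t, rfl⟩
        refine Subgroup.mem_sup_right ⟨a t, ?_⟩
        ext v
        simp
    exact hle hn
  have hself : ∀ t (ht : t ∈ T), conjAut (hTn (hTS ht)) ∈ N := fun t ht =>
    Subgroup.mem_sup_right ⟨⟨t, ht⟩, MulEquiv.ext fun v => Subtype.ext rfl⟩
  let E := goodSystem F hTn A N hA hN
  have hEmem : ∀ {P : Subgroup Ω} {φ : P →* Ω}, φ ∈ E.Hom P ↔ φ ∈ F.Hom P ∧ Good hTn A N P φ :=
    Iff.rfl
  -- over `T` everything is good
  have hbig : ∀ P : Subgroup Ω, T ≤ P → P ≤ S → F.autGroup P ≤ E.autGroup P := by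
    intro P hTP hPS α hα
    refine mem_autGroup_of_hom E ?_
    have hαh := autHom_mem F hPS hα
    refine hEmem.2 ⟨hαh, ?_⟩
    let θ := restr hTP (autHom α)
    have hθ : θ ∈ F.Hom T := restr_mem F hαh _
    have hr : θ.range = T := (StronglyClosed.weaklyClosed hT).2 θ hθ
    set a := isoOf θ (F.injective_of_mem hθ) hr with hadef
    refine ⟨a, mem_autGroup_of_hom F (α := a) hθ, fun y hy hφ => ?_⟩
    have e : conjAut (hTn hφ) = a * conjAut (hTn hy) * a⁻¹ := by
      rw [eq_mul_inv_iff_mul_eq]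
      refine MulEquiv.ext fun v => Subtype.ext ?_
      show (autHom α y) * ((a v : T) : Ω) * (autHom α y)⁻¹ = ((a (conjAut (hTn hy) v) : T) : Ω)
      rw [hadef, isoOf_coe, isoOf_coe]
      show (autHom α y) * (autHom α ⟨v, hTP v.2⟩) * (autHom α y)⁻¹ = autHom α ⟨(conjAut (hTn hy) v : T), hTP (conjAut (hTn hy) v).2⟩
      rw [← map_inv, ← map_mul, ← map_mul]
      rfl
    rw [← e, inv_mul_cancel]
    exact one_mem _
  have hFE : F ≤ E := by
    refine alperin_ind hS hF E (hbig S hTS le_rfl) fun P hP hlarge => ?_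
    by_cases hTP : T ≤ P
    · exact hbig P hTP hP.1.1
    have hPS := hP.1.1
    have := finite_of_le hPS
    have := finite_mulAut hPS
    obtain ⟨hfa, hrec⟩ := IsSaturated.automized_receptive hS hF hP.2.1
    obtain ⟨-, R, hR⟩ := hfa
    let K : Subgroup (F.autGroup P) :=
      { carrier := {α | ∀ x : P, (x : Ω)⁻¹ * (((α : MulAut P) x : P) : Ω) ∈ T}
        one_mem' := fun x => by simp
        mul_mem' := fun {a b} ha hb x => by
          have h := T.mul_mem (hb x) (ha ((b : MulAut P) x))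
          convert h using 1
          simp only [Subgroup.coe_mul, MulAut.mul_apply]
          group
        inv_mem' := fun {a} ha x => by
          have h := T.inv_mem (ha (((a⁻¹ : F.autGroup P) : MulAut P) x))
          have e : ((a : MulAut P) (((a⁻¹ : F.autGroup P) : MulAut P) x)) = x :=
            (a : MulAut P).apply_symm_apply x
          rw [e, mul_inv_rev, inv_inv] at h
          exact h }
    have hKn : K.Normal := ⟨fun a ha g x => by
      set u := ((g⁻¹ : F.autGroup P) : MulAut P) x with hu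
      have hd : u⁻¹ * (a : MulAut P) u ∈ T.subgroupOf P := ha u
      have hle : T ⊓ P ≤ T := inf_le_left
      have h1 := hT.2 (T ⊓ P) hle _
        (restr_mem F (autHom_mem F hPS g.2) (inf_le_right : T ⊓ P ≤ P))
        ⟨((u⁻¹ * (a : MulAut P) u : P) : Ω), hd, (u⁻¹ * (a : MulAut P) u).2⟩
      have e : (g : MulAut P) u = x := (g : MulAut P).apply_symm_apply x
      convert h1 using 1
      show (x : Ω)⁻¹ * ((((g * a * g⁻¹ : F.autGroup P) : MulAut P) x : P) : Ω) =
        (((g : MulAut P) (u⁻¹ * (a : MulAut P) u) : P) : Ω)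
      rw [map_mul, map_inv, e]
      rfl⟩
    obtain ⟨P₀⟩ := (inferInstance : Nonempty (Sylow p K))
    obtain ⟨R₀, hR₀⟩ := (P₀.2.map K.subtype).exists_le_sylow
    obtain ⟨g₀, hg₀⟩ := MulAction.exists_smul_eq (F.autGroup P) R₀ R
    have hRK : IsPGroup p ((R : Subgroup (F.autGroup P)).subgroupOf K) :=
      R.2.comap_of_injective K.subtype K.subtype_injective
    obtain ⟨P₁, hP₁⟩ := hRK.exists_le_sylow
    have hP₁R : (P₁ : Subgroup K) = (R : Subgroup (F.autGroup P)).subgroupOf K := by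
      refine (Subgroup.eq_of_le_of_card_ge hP₁ ?_).symm
      have h0 : Nat.card (P₁ : Subgroup K) = Nat.card (P₀ : Subgroup K) := by
        rw [P₁.card_eq_multiplicity, P₀.card_eq_multiplicity]
      rw [h0]
      refine Nat.card_le_card_of_injective
        (fun x : (P₀ : Subgroup K) => (⟨⟨g₀ * ((x : K) : F.autGroup P) * g₀⁻¹,
          hKn.conj_mem _ (x : K).2 g₀⟩, by
            show g₀ * ((x : K) : F.autGroup P) * g₀⁻¹ ∈ (R : Subgroup (F.autGroup P))
            rw [← hg₀, Sylow.coe_subgroup_smul]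
            exact ⟨_, hR₀ ⟨(x : K), x.2, rfl⟩, rfl⟩⟩ :
          (R : Subgroup (F.autGroup P)).subgroupOf K)) ?_
      intro x y h
      have h' := congrArg (fun z : (R : Subgroup (F.autGroup P)).subgroupOf K =>
        ((z : K) : F.autGroup P)) h
      exact Subtype.ext (Subtype.ext (by simpa using h'))
    have htop := Sylow.normalizer_sup_eq_top P₁
    intro α hα
    obtain ⟨ν, hν, κ, hκ, hνκ⟩ := Subgroup.mem_sup_of_normal_right.1
      (htop.ge (Subgroup.mem_top (⟨α, hα⟩ : F.autGroup P)))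
    have e : α = (ν : MulAut P) * (κ : MulAut P) := by
      rw [← Subgroup.coe_mul, hνκ]
    rw [e]
    refine mul_mem ?_ ?_
    · refine mem_autGroup_of_hom E ?_
      -- an element of `N_T(P)` outside `P`
      obtain ⟨t, htT, htN, htP⟩ : ∃ t ∈ T, t ∈ Subgroup.normalizer (P : Set Ω) ∧ t ∉ P := by
        have hlt : P < P ⊔ T := lt_of_le_of_ne le_sup_left fun h => hTP (h ▸ le_sup_right)
        have hPTS : P ⊔ T ≤ S := sup_le hPS hTS
        have := finite_of_le hPTS
        obtain ⟨g, hg, hgP⟩ := SetLike.exists_of_lt (lt_normalizerIn (hS.to_le hPTS) hlt)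
        have hgm : g ∈ (↑(P ⊔ T) : Set Ω) := hg.1
        rw [Subgroup.coe_mul_of_left_le_normalizer_right P T (hPS.trans hTn)] at hgm
        obtain ⟨x, hx, t, ht, rfl⟩ := hgm
        refine ⟨t, ht, ?_, fun h => hgP (P.mul_mem hx h)⟩
        have := Subgroup.mul_mem _ (Subgroup.inv_mem _ (Subgroup.le_normalizer hx)) hg.2
        rwa [inv_mul_cancel_left] at this
      have htS : t ∈ normalizerIn S P := ⟨hTS htT, htN⟩
      let γ : F.autGroup P := ⟨conjAut htN, conjAut_mem_autGroup F hPS htS.1 htN⟩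
      have hγK : γ ∈ K := fun x => by
        show (x : Ω)⁻¹ * (t * (x : Ω) * t⁻¹) ∈ T
        rw [show (x : Ω)⁻¹ * (t * (x : Ω) * t⁻¹) = ((x : Ω)⁻¹ * t * ((x : Ω)⁻¹)⁻¹) * t⁻¹ by group]
        exact T.mul_mem (conj_mem_of_mem_normalizer (hTn (S.inv_mem (hPS x.2))) htT) (T.inv_mem htT)
      have hγR : γ ∈ (R : Subgroup (F.autGroup P)) := by
        rw [hR]; exact conjAut_mem_autInducedBy htS.1 htN
      have hmem : (⟨γ, hγK⟩ : K) ∈ (P₁ : Subgroup K) := hP₁R.ge hγR
      have h2 : ν * γ * ν⁻¹ ∈ (R : Subgroup (F.autGroup P)) := by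
        obtain ⟨w, hw, hwe⟩ := (Subgroup.mem_normalizer_iff.1 hν γ).1 ⟨⟨γ, hγK⟩, hmem, rfl⟩
        have := hP₁R.le hw
        rw [← hwe]
        exact this
      rw [hR] at h2
      have hα' := autHom_mem F hPS ν.2
      have hge : t ∈ extender S P (autHom (ν : MulAut P)) := by
        rw [mem_extender_iff_congr (F.injective_of_mem hα') (range_autHom _) htS]
        have ei : isoOf (autHom (ν : MulAut P)) (F.injective_of_mem hα') (range_autHom _) =
            (ν : MulAut P) := MulEquiv.ext fun x => Subtype.ext rfl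
        rw [ei]
        exact h2
      obtain ⟨ψ, hψ, hext, -⟩ := IsReceptive.extend hrec hα' (range_autHom _)
      have hlt : P < extender S P (autHom (ν : MulAut P)) :=
        lt_of_le_of_ne (le_extender hPS (apply_mem hα')) fun e => htP (e ▸ hge)
      have hψE := hlarge _ (by
        have := finite_of_le (source_le hψ)
        by_contra hle
        exact hlt.ne (Subgroup.eq_of_le_of_card_ge hlt.le (not_lt.1 hle))) ψ hψ
      have e2 : autHom (ν : MulAut P) = restr hlt.le ψ :=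
        MonoidHom.ext fun x => (hext x x.2 (hlt.le x.2)).symm
      show autHom (ν : MulAut P) ∈ E.Hom P
      rw [e2]
      exact restr_mem E hψE _
    · refine mem_autGroup_of_hom E (hEmem.2 ⟨autHom_mem F hPS κ.2, 1, one_mem _, fun y hy hφ => ?_⟩)
      rw [one_mul, inv_one, mul_one]
      have e1 : conjAut (hTn hφ) = conjAut (hTn hy) * conjAut (hTn (hTS (hκ y))) := by
        rw [← conjAut_mul]
        exact conjAut_eq_of_eq (by
          show autHom (κ : MulAut P) y = (y : Ω) * ((y : Ω)⁻¹ * (((κ : MulAut P) y : P) : Ω))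
          rw [mul_inv_cancel_left]; rfl) _ _
      rw [e1, mul_inv_rev, inv_mul_cancel_right]
      exact N.inv_mem (hself _ (hκ y))
  -- conclusion
  intro x hx
  have hpow : ∀ a ∈ A, ∃ k : ℕ, a ^ p ^ k ∈ N := by
    intro a ha
    have := finite_mulAut hTS
    obtain ⟨k, hk⟩ := (Cfsg.Agent.Lib.Cores.isPGroup_quotient_pResidual (p := p) (G := A))
      (QuotientGroup.mk ⟨a, ha⟩)
    rw [← QuotientGroup.mk_pow, QuotientGroup.eq_one_iff] at hk
    exact ⟨k, Subgroup.mem_sup_left ⟨_, hk, rfl⟩⟩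
  suffices h : x ∈ S ∧ ∀ hx : x ∈ S, conjAut (hTn hx) ∈ N from
    ⟨conjAut (hTn h.1), h.2 h.1, fun t => rfl⟩
  let H : Subgroup Ω :=
    { carrier := {g | g ∈ S ∧ ∀ hg : g ∈ S, conjAut (hTn hg) ∈ N}
      one_mem' := ⟨S.one_mem, fun h => by
        rw [show conjAut (hTn h) = 1 from MulEquiv.ext fun v => Subtype.ext (by simp)]
        exact one_mem _⟩
      mul_mem' := fun {a b} ha hb => ⟨S.mul_mem ha.1 hb.1, fun h => by
        rw [show conjAut (hTn h) = conjAut (hTn ha.1) * conjAut (hTn hb.1) from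
          conjAut_mul (hTn ha.1) (hTn hb.1)]
        exact mul_mem (ha.2 ha.1) (hb.2 hb.1)⟩
      inv_mem' := fun {a} ha => ⟨S.inv_mem ha.1, fun h => by
        rw [show conjAut (hTn h) = (conjAut (hTn ha.1))⁻¹ by
          refine eq_inv_of_mul_eq_one_left ?_
          rw [← conjAut_mul]
          refine MulEquiv.ext fun v => Subtype.ext ?_
          simp]
        exact inv_mem (ha.2 ha.1)⟩ }
  refine ((Subgroup.closure_le H).2 ?_) hx
  rintro _ ⟨P, α, y, hP, hα, rfl⟩
  -- twisting modulo the subgroup `H`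
  let B : Subgroup (F.autGroup P) :=
    { carrier := {β | ∀ z : P, (z : Ω)⁻¹ * (((β : MulAut P) z : P) : Ω) ∈ H}
      one_mem' := fun z => by simp
      mul_mem' := fun {a b} ha hb z => by
        have h := H.mul_mem (hb z) (ha ((b : MulAut P) z))
        convert h using 1
        simp only [Subgroup.coe_mul, MulAut.mul_apply]
        group
      inv_mem' := fun {a} ha z => by
        have h := H.inv_mem (ha (((a⁻¹ : F.autGroup P) : MulAut P) z))
        have e : ((a : MulAut P) (((a⁻¹ : F.autGroup P) : MulAut P) z)) = z :=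
          (a : MulAut P).apply_symm_apply z
        rw [e, mul_inv_rev, inv_inv] at h
        exact h }
  suffices hB : pResidual p (F.autGroup P) ≤ B from hB hα y
  unfold Cfsg.pResidual
  refine (Subgroup.closure_le B).2 fun β hβ => ?_
  replace hβ : (orderOf β).Coprime p := hβ
  intro z
  obtain ⟨a, ha, hGa⟩ := (hEmem.1 (hFE P (autHom_mem F hP β.2))).2
  have hzS : ∀ w : P, (w : Ω) ∈ S := fun w => hP w.2
  -- `c (β w) ≡ a * c w * a⁻¹`
  have hrel : ∀ (n : ℕ) (w : P), (conjAut (hTn (hzS (((β : MulAut P) ^ n) w))))⁻¹ *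
      (a ^ n * conjAut (hTn (hzS w)) * (a ^ n)⁻¹) ∈ N := by
    intro n
    induction n with
    | zero => intro w; simp
    | succ n ih =>
      intro w
      have h1 := hGa (((β : MulAut P) ^ n) w) (hzS _) (apply_mem (autHom_mem F hP β.2) _)
      have h2 := hN a ha _ (ih w)
      have h3 := mul_mem h1 h2
      have e : conjAut (hTn (hzS (((β : MulAut P) ^ (n + 1)) w))) =
          conjAut (hTn (apply_mem (autHom_mem F hP β.2) (((β : MulAut P) ^ n) w))) :=
        conjAut_eq_of_eq (by rw [pow_succ', MulAut.mul_apply]; rfl) _ _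
      rw [e]
      convert h3 using 1
      rw [pow_succ']
      group
  -- the exponents
  obtain ⟨k, hk⟩ := hpow a ha
  have hm : ((β : MulAut P)) ^ orderOf β = 1 := by
    rw [← SubmonoidClass.coe_pow, pow_orderOf_eq_one]; rfl
  set c := conjAut (hTn (hzS z)) with hcdef
  have hcA : c ∈ A := hA _ (hzS z)
  have hC : ∀ n : ℕ, c⁻¹ * (a ^ n * c * (a ^ n)⁻¹) ∈ N →
      ∀ j : ℕ, c⁻¹ * (a ^ (n * j) * c * (a ^ (n * j))⁻¹) ∈ N := by
    intro n hn j
    induction j with
    | zero => simp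
    | succ j ih =>
      have h := mul_mem hn (hN (a ^ n) (pow_mem ha n) _ ih)
      convert h using 1
      rw [Nat.mul_succ, add_comm, pow_add]
      group
  have h1 : c⁻¹ * (a ^ orderOf β * c * (a ^ orderOf β)⁻¹) ∈ N := by
    have := hrel (orderOf β) z
    rwa [conjAut_eq_of_eq (show (((β : MulAut P) ^ orderOf β) z : Ω) = (z : Ω) by rw [hm]; rfl)
      (hTn (hzS _)) (hTn (hzS z))] at this
  have h2 : c⁻¹ * (a ^ (p ^ k) * c * (a ^ (p ^ k))⁻¹) ∈ N := by
    have h := mul_mem (hN c⁻¹ (inv_mem hcA) _ hk) (inv_mem hk)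
    convert h using 1
    group
  have hcop : Nat.Coprime (orderOf β) (p ^ k) := Nat.Coprime.pow_right k hβ
  have h3 : c⁻¹ * (a * c * a⁻¹) ∈ N := by
    let C : Subgroup (MulAut T) :=
      { carrier := {b | b ∈ A ∧ c⁻¹ * (b * c * b⁻¹) ∈ N}
        one_mem' := ⟨one_mem _, by simp⟩
        mul_mem' := fun {u v} hu hv => ⟨A.mul_mem hu.1 hv.1, by
          have h := mul_mem hu.2 (hN u hu.1 _ hv.2)
          convert h using 1
          group⟩
        inv_mem' := fun {u} hu => ⟨A.inv_mem hu.1, by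
          have h := inv_mem (hN u⁻¹ (A.inv_mem hu.1) _ hu.2)
          convert h using 1
          group⟩ }
    have e : a ^ ((Nat.gcd (orderOf β) (p ^ k) : ℕ) : ℤ) =
        (a ^ orderOf β) ^ Nat.gcdA (orderOf β) (p ^ k) * (a ^ p ^ k) ^ Nat.gcdB (orderOf β) (p ^ k) := by
      rw [Nat.gcd_eq_gcd_ab, zpow_add, zpow_mul, zpow_mul, zpow_natCast, zpow_natCast]
    rw [hcop, Nat.cast_one, zpow_one] at e
    have : a ∈ C := by
      rw [e]
      exact C.mul_mem (C.zpow_mem ⟨pow_mem ha _, h1⟩ _) (C.zpow_mem ⟨pow_mem ha _, h2⟩ _)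
    exact this.2
  have h4 := hrel 1 z
  simp only [pow_one] at h4
  refine ⟨S.mul_mem (S.inv_mem (hzS z)) (hzS _), fun hd => ?_⟩
  have e : conjAut (hTn hd) = c⁻¹ * conjAut (hTn (hzS ((β : MulAut P) z))) := by
    rw [eq_inv_mul_iff_mul_eq, hcdef, ← conjAut_mul]
    exact conjAut_eq_of_eq (mul_inv_cancel_left _ _) _ _
  rw [e]
  have h5 := mul_mem h3 (inv_mem h4)
  convert h5 using 1
  rw [hcdef]
  group

end Cfsg.Agent.S5198
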