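import Cfsg.Statements.S5201
import Cfsg.Agent.Lib.Fusion.PrimeIndex.Envelope
import Cfsg.Agent.Lib.Fusion.PrimeIndex.FocalFix

set_option autoImplicit false
open Cfsg Cfsg.FusionSystem Cfsg.Agent.Lib.Fusion Cfsg.Agent.Lib.Fusion.PrimeIndex

namespace Cfsg.Agent.S5201

/-- A reduction to normal subsystems. Let F be a saturated fusion system over a finite p-group S and E a normal subsystem of F over T whose centralizer in S lies in T (every subgroup Y of C_S(T) with E contained in the centralizer fusion system of Y in F satisfies Y ≤ T), and suppose Aut_F(T)/Aut_E(T) is p-solvable. Then F and E have the same residual limit: if F∞ is the residual limit of F (reached by alternately passing to the p-residual and the p'-residual subsystem until nothing changes) and E∞ that of E, then F∞ and E∞ have the same maps. -/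
theorem result {Ω : Type*} [Group Ω] {S : Subgroup Ω} [Finite S] (p : ℕ) [Fact p.Prime] (hS : IsPGroup p S) (F : Cfsg.FusionSystem S) (hF : F.IsSaturated p) {T : Subgroup Ω} (E : Cfsg.FusionSystem T) (hE : E.IsNormalIn F p) (hCE : ∀ Y : Subgroup Ω, Y ≤ Cfsg.FusionSystem.centralizerIn S T → (∀ C : Cfsg.FusionSystem (Cfsg.FusionSystem.centralizerIn S Y), F.IsCentralizerSystem Y C → E.IsSubsystemOf C) → Y ≤ T) [hn : ((E.autGroup T).subgroupOf (F.autGroup T)).Normal] (hsolv : Cfsg.IsPSolvable p (↥(F.autGroup T) ⧸ (E.autGroup T).subgroupOf (F.autGroup T))) {U V : Subgroup Ω} (Finf : Cfsg.FusionSystem U) (hFinf : Finf.IsResidualLimitOf F p) (Einf : Cfsg.FusionSystem V) (hEinf : Einf.IsResidualLimitOf E p) : ∀ P : Subgroup Ω, Finf.Hom P = Einf.Hom P := by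
  obtain ⟨F₀, hn', he, hA⟩ := exists_envelope hS hF hE hsolv
  have W : WNData p F E := ⟨hS, hE.1.2.1, hE.1.1, hE.1.2.2⟩
  have hTS := W.le
  have hUS := he.le
  have := finite_of_le hUS
  have hUp := hS.to_le hUS
  have hTU : T ≤ T ⊔ centralizerIn S T := le_sup_left
  set D := centralizerSystem F T hTS with hD
  have hX : D.focalSubgroup ≤ T :=
    hCE _ (le_centralizerHom_focal hS hE (centralizerSystem_spec F T hTS) ⊥).1
      fun C hC P φ hφ => by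
        rw [hC P]
        exact (le_centralizerHom_focal hS hE (centralizerSystem_spec F T hTS) P).2 hφ
  have hdec : ∀ g ∈ T ⊔ centralizerIn S T, ∃ t ∈ T, ∃ c ∈ centralizerIn S T, t * c = g := by
    intro g hg
    have hn2 : centralizerIn S T ≤ Subgroup.normalizer (T : Set Ω) := fun c hc =>
      le_normalizer_of_stronglyClosed W.inv.2.1 hc.1
    have h : g ∈ ((T ⊔ centralizerIn S T : Subgroup Ω) : Set Ω) := hg
    rw [Subgroup.coe_mul_of_right_le_normalizer_left _ _ hn2] at h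
    exact Set.mem_mul.1 h
  have hcomm : ∀ g ∈ T ⊔ centralizerIn S T, ∀ x ∈ T ⊔ centralizerIn S T,
      x⁻¹ * (g * x * g⁻¹) ∈ T := by
    intro g hg x hx
    obtain ⟨t, ht, c, hc, rfl⟩ := hdec g hg
    obtain ⟨u, hu, d, hd, rfl⟩ := hdec x hx
    have hdc : d⁻¹ * (c * d * c⁻¹) ∈ T := hX <| Subgroup.subset_closure
      ⟨centralizerIn S T, conjHom _ c, ⟨d, hd⟩, D.conj_mem le_rfl hc, rfl⟩
    have hcu : c * u = u * c := inCtr_conj hu hc
    have hmid : u⁻¹ * t * u ∈ T := T.mul_mem (T.mul_mem (T.inv_mem hu) ht) hu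
    have hdm : d⁻¹ * (u⁻¹ * t * u) = u⁻¹ * t * u * d⁻¹ :=
      inCtr_conj hmid (Subgroup.inv_mem _ hd)
    have e : (u * d)⁻¹ * (t * c * (u * d) * (t * c)⁻¹) =
        u⁻¹ * t * u * (d⁻¹ * (c * d * c⁻¹)) * t⁻¹ := by
      calc (u * d)⁻¹ * (t * c * (u * d) * (t * c)⁻¹)
          = d⁻¹ * u⁻¹ * t * (c * u) * d * c⁻¹ * t⁻¹ := by group
        _ = d⁻¹ * u⁻¹ * t * (u * c) * d * c⁻¹ * t⁻¹ := by rw [hcu]
        _ = d⁻¹ * (u⁻¹ * t * u) * (c * d * c⁻¹) * t⁻¹ := by group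
        _ = u⁻¹ * t * u * d⁻¹ * (c * d * c⁻¹) * t⁻¹ := by rw [hdm]
        _ = u⁻¹ * t * u * (d⁻¹ * (c * d * c⁻¹)) * t⁻¹ := by group
    rw [e]
    exact T.mul_mem (T.mul_mem hmid hdc) (T.inv_mem ht)
  have hK : F₀ ≤ moveSystem F₀ T hcomm := by
    refine le_of_generated W hUS hTU he.sat he.inv.1 he.sub.1.2.2.1 _ (fun R hTR hR γ hγ => ?_)
      fun R hR γ hγ hmod _ _ _ => ⟨autHom_mem F₀ hR hγ, fun x => (hmod x).2⟩
    have hγh := autHom_mem F₀ hR hγ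
    refine ⟨hγh, fun y => ?_⟩
    have := finite_of_le hTS
    have hrT := restr_mem F₀ hγh hTR
    have hr : (restr hTR (autHom γ)).range = T :=
      (range_restr _ _).trans (img_eq_of_stronglyClosed he.sub.1.2.2.2.1 hγh hTR)
    set τ : MulAut T := isoOf _ (F₀.injective_of_mem hrT) hr with hτ
    obtain ⟨β, hβ, hβ1, hβ2⟩ := he.ext (hA ▸ mem_autGroup_of_hom F₀ (α := τ) hrT)
    have hm : ∀ z : R, autHom γ z ∈ T ⊔ centralizerIn S T := fun z => hR (γ z).2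
    let ρ := compose (autHom γ) (autHom β⁻¹) hm
    have hρ : ρ ∈ F.Hom R := he.inv.1 R
      (compose_mem F₀ hγh (autHom_mem F₀ le_rfl (inv_mem hβ)) hm)
    have hρT : ∀ z : R, (z : Ω) ∈ T → ρ z = z := by
      intro z hz
      show ((β⁻¹ ⟨autHom γ z, hm z⟩ : _) : Ω) = z
      have e : (⟨autHom γ z, hm z⟩ : ↥(T ⊔ centralizerIn S T)) =
          β (Subgroup.inclusion le_sup_left ⟨z, hz⟩) := Subtype.ext (hβ1 ⟨z, hz⟩).symm
      rw [e, MulAut.inv_apply, MulEquiv.symm_apply_apply]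
      rfl
    have hρC : ∀ z : R, (z : Ω) ∈ centralizerIn S T → ρ z ∈ centralizerIn S T := fun z hz =>
      mem_centralizerIn_iff_conj.2 ⟨apply_mem hρ z, fun t ht => by
        have e : z * ⟨t, hTR ht⟩ * z⁻¹ = ⟨t, hTR ht⟩ :=
          Subtype.ext ((mem_centralizerIn_iff_conj.1 hz).2 t ht)
        have h := congrArg ρ e
        rwa [map_mul, map_mul, map_inv, hρT ⟨t, hTR ht⟩ ht] at h⟩
    obtain ⟨t, ht, c, hc, hy⟩ := hdec y (hR y.2)
    have hcR : c ∈ R := by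
      rw [show c = t⁻¹ * y by rw [← hy, inv_mul_cancel_left]]
      exact R.mul_mem (R.inv_mem (hTR ht)) y.2
    have h1 : c⁻¹ * ρ ⟨c, hcR⟩ ∈ T := hX <| Subgroup.subset_closure
      ⟨R ⊓ centralizerIn S T, restr inf_le_left ρ, ⟨c, hcR, hc⟩, ⟨restr_mem F hρ _,
        inf_le_right, fun z => hρC ⟨z, z.2.1⟩ z.2.2, restr (sup_le inf_le_left hTR) ρ,
        restr_mem F hρ _, fun _ => rfl, fun z => hρT ⟨z, hTR z.2⟩ z.2⟩, rfl⟩
    have h2 : (ρ ⟨c, hcR⟩)⁻¹ * autHom γ ⟨c, hcR⟩ ∈ T := by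
      have h := (hβ2 ⟨ρ ⟨c, hcR⟩, Subgroup.mem_sup_right (hρC ⟨c, hcR⟩ hc)⟩
        (hρC ⟨c, hcR⟩ hc)).1
      rwa [show β ⟨ρ ⟨c, hcR⟩, Subgroup.mem_sup_right (hρC ⟨c, hcR⟩ hc)⟩ =
        ⟨autHom γ ⟨c, hcR⟩, hm _⟩ from β.apply_symm_apply _] at h
    have h3 := T.mul_mem h1 h2
    rw [show y = ⟨t, hTR ht⟩ * ⟨c, hcR⟩ from Subtype.ext hy.symm, map_mul, Subgroup.coe_mul]
    have h4 := T.mul_mem
      (W.conj_mem (S.inv_mem hc.1) (T.mul_mem (T.inv_mem ht)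
        (show autHom γ ⟨t, hTR ht⟩ ∈ T from
          StronglyClosed.map_mem he.sub.1.2.2.2.1 hγh ⟨t, hTR ht⟩ ht))) h3
    rwa [show c⁻¹ * (t⁻¹ * autHom γ ⟨t, hTR ht⟩) * c⁻¹⁻¹ *
      (c⁻¹ * ρ ⟨c, hcR⟩ * ((ρ ⟨c, hcR⟩)⁻¹ * autHom γ ⟨c, hcR⟩)) =
      (t * c)⁻¹ * (autHom γ ⟨t, hTR ht⟩ * autHom γ ⟨c, hcR⟩) by group] at h4
  have hhyp : F₀.hyperfocalSubgroup p ≤ T := by
    refine (Subgroup.closure_le _).2 ?_
    rintro _ ⟨P, α, x, hP, -, rfl⟩
    exact (hK P (autHom_mem F₀ hP α.2)).2 x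
  have hidx : E.HasPPowerIndexIn F₀ p := by
    refine ⟨he.sub.1.2.2.1, hhyp, fun P hP => (Subgroup.map_subtype_le _).trans fun α hα => ?_⟩
    have := finite_of_le hTS
    obtain ⟨a, ha, φ₀, hφ₀, h⟩ :=
      he.sub.1.2.2.2.2.2 P hP (autHom α) (autHom_mem F₀ (hP.trans hTU) hα)
    exact mem_autGroup_of_hom E (mem_of_comp E hφ₀ (autHom_mem E le_rfl (hA ▸ ha))
      (apply_mem hφ₀) fun x => h x (apply_mem hφ₀ x))
  obtain ⟨V₀, L₀, hL₀⟩ := exists_limit hUp F₀ he.sat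
  intro P
  rw [he.lim hFinf hL₀ P]
  exact Cfsg.Agent.S5203.result p hUp F₀ he.sat E he.sub hidx L₀ hL₀ Einf hEinf P

end Cfsg.Agent.S5201
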