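import Cfsg.Statements.S5204
import Cfsg.Statements.S5204
import Cfsg.Agent.Lib.PLocal.FusionNpcZJ

set_option autoImplicit false
open Cfsg

namespace Cfsg.Agent.S5204

/-- The Glauberman–Thompson normal p-complement criterion for fusion systems, p odd. Let F be a saturated fusion system over a finite p-group S with p odd, and let Z(J(S)) be the centre of the subgroup generated by the abelian subgroups of S of largest order. Then F is the inner fusion system of S if and only if the normalizer fusion system of Z(J(S)) in F is the inner fusion system of N_S(Z(J(S))) = S. -/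
theorem result {Ω : Type*} [Group Ω] {S : Subgroup Ω} [Finite S] (p : ℕ) [Fact p.Prime] (hS : IsPGroup p S) (F : Cfsg.FusionSystem S) (hF : F.IsSaturated p) (hp : p ≠ 2) : (∀ P : Subgroup Ω, F.Hom P = (Cfsg.innerFusionSystem S).Hom P) ↔ ∀ N : Cfsg.FusionSystem (Cfsg.FusionSystem.normalizerIn S (Cfsg.centerThompsonAOf S)), F.IsNormalizerSystem (Cfsg.centerThompsonAOf S) N → ∀ P : Subgroup Ω, N.Hom P = (Cfsg.innerFusionSystem (Cfsg.FusionSystem.normalizerIn S (Cfsg.centerThompsonAOf S))).Hom P := by
  have hZS : Cfsg.centerThompsonAOf S ≤ S := by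
    rw [← Lib.PLocal.FusionNpc.wAt_zjRel (le_refl S)]
    exact Lib.PLocal.FusionNpc.wAt_le _ _ _
  refine ⟨fun h N hN P => Lib.PLocal.FusionNpc.normalizer_inner_of_inner h ?_ hN P, fun h => ?_⟩
  · rw [← Lib.PLocal.FusionNpc.wAt_zjRel (le_refl S)]
    exact fun g hg => Lib.PLocal.FusionNpc.mem_normalizer_wAt
      (Lib.PLocal.FusionNpc.isNpcFamily_zjRel hp) () hS (Subgroup.le_normalizer hg)
      fun x hx _ => mul_mem (mul_mem hg hx) (inv_mem hg)
  · exact Lib.PLocal.FusionNpc.inner_of_closed hS hF hp (Lib.Fusion.stronglyClosed_top F)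
      (Lib.PLocal.FusionNpc.locP_false_of_inner hS hZS h)

end Cfsg.Agent.S5204
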