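import Cfsg.Statements.S5212
import Cfsg.Statements.S5212
import Cfsg.Agent.Lib.PLocal.TwoMetacyclicClosed
import Cfsg.Agent.Lib.Fusion.Solvable
import Cfsg.Agent.Lib.Fusion.Essential

set_option autoImplicit false
open Cfsg

namespace Cfsg.Agent.S5212

/-- Let S be a finite metacyclic 2-group that is not homocyclic abelian (a direct product of cyclic groups of one common order), not dihedral, not semidihedral and not generalized quaternion. Then every saturated fusion system over S is the inner fusion system of S. -/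
theorem result {Ω : Type*} [Group Ω] {S : Subgroup Ω} [Finite S] (hS : IsPGroup 2 S) (F : Cfsg.FusionSystem S) (hF : F.IsSaturated 2) (hm : Cfsg.IsMetacyclic ↥S) (hh : ¬ ∃ n k : ℕ, Nonempty (↥S ≃* Multiplicative (Fin k → ZMod (2 ^ n)))) (hd : ¬ ∃ m : ℕ, Nonempty (↥S ≃* DihedralGroup m)) (hq : ¬ ∃ m : ℕ, Nonempty (↥S ≃* QuaternionGroup m)) (hsd : ¬ Cfsg.IsQuasiDihedral ↥S) : ∀ P : Subgroup Ω, F.Hom P = (Cfsg.innerFusionSystem S).Hom P := by
  classical
  haveI : Fact (Nat.Prime 2) := ⟨Nat.prime_two⟩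
  have hlist : ¬ Lib.PLocal.TwoMetacyclicGroup.SmallList ↥S := fun h => h.elim hd fun h => h.elim hq hsd
  have hn := Lib.PLocal.TwoMetacyclicClosed.isNormal_of_metacyclic hS hF (Lib.Fusion.stronglyClosed_top F) hm hlist
  have hFinner : F = Cfsg.innerFusionSystem S := by
    refine Lib.Fusion.eq_inner_of_isPGroup hS hF fun P hP => ?_
    rcases hP with hPS | hess
    · subst hPS
      haveI := Lib.Fusion.finite_mulAut (le_refl P)
      by_contra hnp
      obtain ⟨⟨σ, hσ⟩, hσo, hσ1⟩ := Lib.PLocal.TwoMetacyclicClosed.exists_odd_order hnp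
      rw [← Subgroup.orderOf_coe] at hσo
      rcases Lib.PLocal.TwoMetacyclic.shape_of_odd_aut hS hm σ hσo (fun h => hσ1 (Subtype.ext h)) with
        ⟨n, a, b, hn1, hab, hao, hbo, hcard, hform, hind⟩ | ⟨hcard, ⟨a, b, hna⟩, hinv⟩
      · refine hh ⟨n, 2, ⟨?_⟩⟩
        have ha : a ^ 2 ^ n = 1 := hao ▸ pow_orderOf_eq_one a
        have hb : b ^ 2 ^ n = 1 := hbo ▸ pow_orderOf_eq_one b
        haveI : NeZero (2 ^ n) := ⟨by positivity⟩
        have hval : ∀ {u : ↥P}, u ^ 2 ^ n = 1 → ∀ x y : ZMod (2 ^ n), u ^ (x + y).val = u ^ x.val * u ^ y.val := by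
          intro u hu x y
          rw [← pow_add, ZMod.val_add, ← pow_eq_pow_mod (x.val + y.val) hu]
        let f : Multiplicative (Fin 2 → ZMod (2 ^ n)) →* ↥P :=
          MonoidHom.mk' (fun v => a ^ (v.toAdd 0).val * b ^ (v.toAdd 1).val) fun v w => by
            simp only [toAdd_mul, Pi.add_apply, hval ha, hval hb]
            exact Commute.mul_mul_mul_comm ((hab.pow_pow _ _)) _ _
        have hsurj : Function.Surjective f := by
          intro u
          obtain ⟨i, j, rfl⟩ := hform u
          refine ⟨Multiplicative.ofAdd ![(i : ZMod (2 ^ n)), (j : ZMod (2 ^ n))], ?_⟩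
          show a ^ (i : ZMod (2 ^ n)).val * b ^ (j : ZMod (2 ^ n)).val = _
          rw [ZMod.val_natCast, ZMod.val_natCast, ← pow_eq_pow_mod i ha, ← pow_eq_pow_mod j hb]
        haveI : Finite (Multiplicative (Fin 2 → ZMod (2 ^ n))) := inferInstanceAs (Finite (Fin 2 → ZMod (2 ^ n)))
        refine (MulEquiv.ofBijective f ((Nat.bijective_iff_surjective_and_card f).2 ⟨hsurj, ?_⟩)).symm
        rw [hcard, Nat.card_congr Multiplicative.toAdd, Nat.card_fun, Nat.card_fin, Nat.card_zmod, ← pow_mul,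
          mul_comm, pow_mul]
        norm_num
      · refine hlist (Lib.PLocal.TwoMetacyclicGroup.smallList_of_quaternion hS hm (Q := (⊤ : Subgroup ↥P))
          (by rw [Subgroup.card_top, hcard]) ⟨⟨a, trivial⟩, ⟨b, trivial⟩, fun h => hna (congrArg Subtype.val h)⟩
          fun u w hu => Subtype.ext (hinv u w (congrArg Subtype.val hu)).eq)
    · exact absurd (Lib.Fusion.IsNormal.le_centricRadical hS hn hess.1 (Lib.Fusion.IsEssential.radical hS hF hess))
        (lt_of_le_of_ne hess.1.1 (Lib.Fusion.IsEssential.ne_top hF hS hess)).not_ge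
  intro P
  rw [hFinner]

end Cfsg.Agent.S5212
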