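import Cfsg.Statements.S5214
import Cfsg.Agent.S1137
import Cfsg.Agent.S1138
import Cfsg.Agent.Lib.Fusion.EssentialSeries
-- import your own Cfsg.Agent.* helpers here

set_option autoImplicit false
open Cfsg Cfsg.FusionSystem

namespace Cfsg.Agent.S5214

/-- Let S be a Suzuki 2-group (a finite nonabelian 2-group with more than one involution admitting a cyclic group of automorphisms permuting its involutions regularly). Then S is normal in every saturated fusion system over S (such a group is resistant). -/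
theorem result {Ω : Type*} [Group Ω] {S : Subgroup Ω} [Finite S] (hS : IsPGroup 2 S) (F : Cfsg.FusionSystem S) (hF : F.IsSaturated 2) (hsz : Cfsg.IsSuzukiTwoGroup ↥S) : F.IsNormal S := by
  classical
  haveI : Fact (Nat.Prime 2) := ⟨Nat.prime_two⟩
  obtain ⟨hinv, hz2⟩ := Cfsg.Agent.S1137.result hsz
  obtain ⟨-, hcomm, -, -⟩ := Cfsg.Agent.S1138.result hsz
  have hnone : ∀ P : Subgroup Ω, ¬ F.IsEssential 2 P := by
    intro P hP
    have hPS := hP.1.1
    have := Cfsg.Agent.Lib.Fusion.finite_of_le hPS
    have hZP : ∀ z : S, z ∈ Subgroup.center S → (z : Ω) ∈ P := fun z hz =>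
      hP.1.2 P (Cfsg.Agent.Lib.Fusion.isConj_refl F hPS)
        ⟨z.2, fun y hy => congrArg Subtype.val (Subgroup.mem_center_iff.1 hz ⟨y, hPS hy⟩)⟩
    let L : Subgroup P := (Subgroup.center S).comap (Subgroup.inclusion hPS)
    have hL : ∀ y : P, y ∈ L ↔ y * y = 1 := by
      intro y
      constructor
      · intro hy
        exact Subtype.ext (congrArg (fun z : S => (z : Ω)) (hz2 _ hy) :)
      · intro hy
        by_cases h1 : Subgroup.inclusion hPS y = 1
        · show Subgroup.inclusion hPS y ∈ Subgroup.center S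
          rw [h1]
          exact Subgroup.one_mem _
        · exact ((hinv _).1 ⟨h1, by rw [← map_mul, hy, map_one]⟩).1
    obtain ⟨g, hg, hgP⟩ := SetLike.exists_of_lt
      (Cfsg.Agent.Lib.Fusion.lt_normalizerIn hS (Cfsg.Agent.Lib.Fusion.IsEssential.lt hF hS hP))
    refine hgP (Cfsg.Agent.Lib.Fusion.mem_of_conjAut_inn hP.1 hg ?_)
    rw [← (Cfsg.Agent.Lib.Fusion.IsEssential.radical hS hF hP).2]
    refine Cfsg.Agent.Lib.Fusion.stab_mem_pCore (hS.to_le hPS) _
      (fun i => match i with | 0 => ⊥ | 1 => L | _ => ⊤) 2 rfl rfl (fun β _ i y hy => ?_)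
      (Cfsg.Agent.Lib.Fusion.conjAut_mem_autGroup F hPS hg.1 hg.2) fun i hi y hy => ?_
    · match i, hy with
      | 0, hy => simp only [Subgroup.mem_bot] at hy ⊢; rw [hy, map_one]
      | 1, hy => exact (hL _).2 (by rw [← map_mul, (hL y).1 hy, map_one])
      | i + 2, _ => exact Subgroup.mem_top _
    · interval_cases i
      · refine Subgroup.mem_bot.2 (Subtype.ext ?_)
        have h1 : g * (y : Ω) = y * g :=
          congrArg Subtype.val (Subgroup.mem_center_iff.1
            (show Subgroup.inclusion hPS y ∈ Subgroup.center S from hy) ⟨g, hg.1⟩)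
        show (y : Ω)⁻¹ * (g * y * g⁻¹) = 1
        rw [h1, mul_inv_cancel_right, inv_mul_cancel]
      · have h1 := hcomm (Subgroup.inclusion hPS y) (⟨g, hg.1⟩ : S)⁻¹
        rw [inv_inv] at h1
        show Subgroup.inclusion hPS _ ∈ Subgroup.center S
        convert h1 using 1
        refine Subtype.ext ?_
        show (y : Ω)⁻¹ * (g * y * g⁻¹) = (y : Ω)⁻¹ * g * y * g⁻¹
        group
  refine Cfsg.Agent.Lib.Fusion.normal_of_invariant hS hF fun R hR => ?_
  rcases hR with hR | hR
  · rw [hR]
    refine ⟨le_rfl, fun α _ => ?_⟩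
    rw [Subgroup.subgroupOf_self, Subgroup.map_top_of_surjective _ α.surjective]
  · exact absurd hR (hnone R)

end Cfsg.Agent.S5214
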