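import Cfsg.Statements.S5221
import Cfsg.Agent.S5195
import Cfsg.Agent.Lib.Fusion.SparseConstrained

set_option autoImplicit false
open Cfsg Cfsg.FusionSystem Cfsg.Agent.Lib.Fusion

namespace Cfsg.Agent.S5221

/-- Let F be a sparse fusion system over a finite p-group S: a saturated fusion system, not the inner fusion system of S, whose only saturated fusion systems over S contained in it are F itself and the inner one. If p is odd, or F is S₄-free (the symmetric group of degree 4 is not involved in any model of the normalizer system of a fully normalized F-centric subgroup), then F is constrained. -/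
theorem result {Ω : Type*} [Group Ω] {S : Subgroup Ω} [Finite S] (p : ℕ) [Fact p.Prime] (hS : IsPGroup p S) (F : Cfsg.FusionSystem S) (hF : F.IsSaturated p) (hsp : ¬ (∀ P : Subgroup Ω, F.Hom P = (Cfsg.innerFusionSystem S).Hom P) ∧ ∀ E : Cfsg.FusionSystem S, E.IsSaturated p → E.IsSubsystemOf F → (∀ P : Subgroup Ω, E.Hom P = F.Hom P) ∨ (∀ P : Subgroup Ω, E.Hom P = (Cfsg.innerFusionSystem S).Hom P)) (hp : p ≠ 2 ∨ F.IsSectionFree p (Equiv.Perm (Fin 4))) : F.IsConstrained p := by
  obtain ⟨Q, hQS, -, hQc, hQ⟩ : ∃ Q : Subgroup Ω, Q ≤ S ∧ Q ≠ ⊥ ∧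
      (Q.subgroupOf S).Characteristic ∧ ¬ IsPGroup p (F.autGroup Q) := by
    by_contra h
    push Not at h
    exact hsp.1 (Cfsg.Agent.S5195.result p hS F hF hp h)
  refine isConstrained_of_sparse hS hF hsp.2 hQS ?_ hQ
  have : (Q.subgroupOf S).Normal := inferInstance
  exact (Subgroup.normal_subgroupOf_iff_le_normalizer hQS).1 this

end Cfsg.Agent.S5221
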