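import Cfsg.Statements.S5222
import Cfsg.Agent.Lib.Fusion.Tate
import Cfsg.Agent.Lib.Fusion.KNormalizer

set_option autoImplicit false
open Cfsg Cfsg.FusionSystem Cfsg.Agent.Lib.Fusion

namespace Cfsg.Agent.S5222

/-- Let F be a saturated fusion system over a finite p-group S whose normalizer fusion system of S is the inner fusion system of S (Aut_F(S) is a p-group). Then for every subgroup Q of S with [S, S] ≤ Q ≤ Φ(S), the normalizer fusion system of Q in F is the inner fusion system of N_S(Q) = S. -/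
theorem result {Ω : Type*} [Group Ω] {S : Subgroup Ω} [Finite S] (p : ℕ) [Fact p.Prime] (hS : IsPGroup p S) (F : Cfsg.FusionSystem S) (hF : F.IsSaturated p) (hN : ∀ N : Cfsg.FusionSystem (Cfsg.FusionSystem.normalizerIn S S), F.IsNormalizerSystem S N → ∀ P : Subgroup Ω, N.Hom P = (Cfsg.innerFusionSystem (Cfsg.FusionSystem.normalizerIn S S)).Hom P) (Q : Subgroup Ω) (h1 : (commutator ↥S).map S.subtype ≤ Q) (h2 : Q ≤ (frattini ↥S).map S.subtype) : ∀ N : Cfsg.FusionSystem (Cfsg.FusionSystem.normalizerIn S Q), F.IsNormalizerSystem Q N → ∀ P : Subgroup Ω, N.Hom P = (Cfsg.innerFusionSystem (Cfsg.FusionSystem.normalizerIn S Q)).Hom P := by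
  intro N hNQ
  have hS' : ⁅S, S⁆ ≤ Q := by
    refine le_trans (le_of_eq ?_) h1
    rw [commutator_def, Subgroup.map_commutator, ← MonoidHom.range_eq_map, Subgroup.range_subtype]
  have hQS : Q ≤ S := h2.trans (Subgroup.map_subtype_le _)
  have hT : normalizerIn S Q = S := le_antisymm (normalizerIn_le S Q) fun g hg => by
    have : Finite Q := finite_of_le hQS
    refine mem_normalizerIn.2 ⟨hg, mem_normalizer_of_finite fun y hy => ?_⟩
    have h3 : y⁻¹ * (g * y * g⁻¹) ∈ Q := by
      rw [inv_mul_conj_eq]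
      exact hS' (Subgroup.commutator_mem_commutator (S.inv_mem (hQS hy)) hg)
    have := Q.mul_mem hy h3
    rwa [mul_inv_cancel_left] at this
  have hQn : F.IsFullyNormalized Q := ⟨hQS, fun R hR => by
    rw [hT]; exact Subgroup.card_le_of_le (normalizerIn_le S R)⟩
  have hsat := normalizerSystem_isSaturated hS hF hQn hNQ
  have hclosed : N.StronglyClosed Q := by
    refine ⟨le_normalizerIn hQS, fun R hR φ hφ x => ?_⟩
    rw [hNQ R] at hφ
    obtain ⟨-, -, -, ψ, -, hext, himg⟩ := hφ
    rw [← hext x]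
    exact himg.le ⟨_, hR x.2, rfl⟩
  have htop : ∀ α ∈ N.autGroup (normalizerIn S Q),
      ∃ g ∈ S, ∀ x, ((α x : normalizerIn S Q) : Ω) = g * (x : Ω) * g⁻¹ := by
    intro α hα
    have h3 : autHom α ∈ F.normalizerHom Q (normalizerIn S Q) := hNQ _ ▸ autHom_mem N le_rfl hα
    have hle : S ≤ normalizerIn S Q := hT.ge
    have hN' := hN (normalizerSystem F S le_rfl) (fun _ => rfl) S
    have h4 : restr hle (autHom α) ∈ (normalizerSystem F S le_rfl).Hom S := by
      refine ⟨restr_mem F h3.1 hle, (normalizerIn_self S).ge,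
        fun y => (normalizerIn_self S).ge (apply_mem (restr_mem F h3.1 hle) y), ?_⟩
      refine ⟨restr (sup_le hle hle) (autHom α), restr_mem F h3.1 _, fun y => rfl, ?_⟩
      ext z
      constructor
      · rintro ⟨y, -, rfl⟩
        exact apply_mem (restr_mem F h3.1 (sup_le hle hle)) y
      · intro hz
        obtain ⟨w, hw⟩ := α.surjective ⟨z, hle hz⟩
        exact ⟨⟨(w : Ω), Subgroup.mem_sup_left (hT.le w.2)⟩, hT.le w.2, congrArg Subtype.val hw⟩
    rw [hN'] at h4
    obtain ⟨-, g, hg, hgv⟩ := h4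
    exact ⟨g, normalizerIn_le S S hg, fun x => hgv ⟨x, hT.le x.2⟩⟩
  clear hNQ hN
  revert N
  rw [hT]
  intro N hsat hclosed htop P
  rw [eq_inner_of_stronglyClosed_le_frattini hS hsat hclosed hS' h2 fun α hα => by
    obtain ⟨g, hg, hgv⟩ := htop α hα
    rw [← autInducedBy_self, mem_autInducedBy]
    exact ⟨g, hg, hgv⟩]

end Cfsg.Agent.S5222
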