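import Cfsg.Statements.S5223
import Cfsg.Agent.Lib.Fusion.Essential

set_option autoImplicit false
open Cfsg Cfsg.FusionSystem Cfsg.Agent.Lib.Fusion

namespace Cfsg.Agent.S5223

theorem eq_one_of_iterate {P : Type*} [Group P] {p m : ℕ} [Fact p.Prime] (hP : IsPGroup p P)
    (α : MulAut P) (hα : α ^ m = 1) (hm : ¬ p ∣ m) {f : P → P} (hf : ∀ x, f x = x⁻¹ * α x) :
    ∀ n, (∀ x, f^[n + 1] x = 1) → ∀ x, f x = 1
  | 0, h => h
  | n + 1, h => by
    refine eq_one_of_iterate hP α hα hm hf n fun x => ?_
    rw [Function.iterate_succ_apply']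
    set y := f^[n] x
    have h2 : f (f y) = 1 := by
      have := h x
      rwa [Function.iterate_succ_apply', Function.iterate_succ_apply'] at this
    set c := f y with hc
    have hy : α y = y * c := by rw [hc, hf, mul_inv_cancel_left]
    have hfix : α c = c := by
      rw [hf] at h2
      exact (inv_mul_eq_one.1 h2).symm
    have hpow : ∀ k : ℕ, (α ^ k) y = y * c ^ k := by
      intro k
      induction k with
      | zero => simp
      | succ k ih =>
        rw [pow_succ', MulAut.mul_apply, ih, map_mul, map_pow, hy, hfix, mul_assoc, pow_succ']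
    have h3 := hpow m
    rw [hα, MulAut.one_apply, left_eq_mul] at h3
    obtain ⟨a, ha⟩ := hP c
    have hco : Nat.Coprime (p ^ a) m :=
      Nat.Coprime.pow_left _ ((Fact.out : p.Prime).coprime_iff_not_dvd.2 hm)
    have hd := Nat.dvd_gcd (orderOf_dvd_of_pow_eq_one ha) (orderOf_dvd_of_pow_eq_one h3)
    rw [hco, Nat.dvd_one, orderOf_eq_one_iff] at hd
    exact hd

/-- Let F be a saturated fusion system over a finite p-group S. Suppose there are subgroups Q₀ = S, Q₁, …, Qₙ = 1 (not required to be nested) such that for each i < n the focal subgroup of Qᵢ (generated by the elements x⁻¹φ(x), x ∈ Qᵢ, φ a map of F defined on the cyclic group generated by x) lies in Qᵢ₊₁. Then F is the inner fusion system of S. -/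
theorem result {Ω : Type*} [Group Ω] {S : Subgroup Ω} [Finite S] (p : ℕ) [Fact p.Prime] (hS : IsPGroup p S) (F : Cfsg.FusionSystem S) (hF : F.IsSaturated p) (n : ℕ) (Q : Fin (n + 1) → Subgroup Ω) (hQ0 : Q 0 = S) (hQn : Q (Fin.last n) = ⊥) (hstep : ∀ i : Fin n, Subgroup.closure {y : Ω | ∃ x ∈ Q i.castSucc, ∃ φ ∈ F.Hom (Subgroup.zpowers x), y = x⁻¹ * φ ⟨x, Subgroup.mem_zpowers x⟩} ≤ Q i.succ) : ∀ P : Subgroup Ω, F.Hom P = (Cfsg.innerFusionSystem S).Hom P := by
  suffices h : F = innerFusionSystem S by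
    intro P
    rw [h]
  refine eq_inner_of_isPGroup hS hF fun P hP => ?_
  have hPS : P ≤ S := by
    rcases hP with rfl | hP
    · exact le_rfl
    · exact hP.1.1
  have := finite_mulAut hPS
  intro β
  obtain ⟨k, m, hm, hkm⟩ := Nat.exists_eq_pow_mul_and_not_dvd
    (orderOf_pos β).ne' p (Fact.out : p.Prime).ne_one
  refine ⟨k, ?_⟩
  set α : MulAut P := ((β ^ p ^ k : F.autGroup P) : MulAut P) with hαdef
  have hαm : α ^ m = 1 := by
    rw [hαdef, ← SubgroupClass.coe_pow, ← pow_mul, ← hkm, pow_orderOf_eq_one]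
    rfl
  let f : P → P := fun x => x⁻¹ * α x
  have hstepf : ∀ i : Fin (n + 1), ∀ x, ((f^[i.1] x : P) : Ω) ∈ Q i := by
    intro i
    induction i using Fin.induction with
    | zero => exact fun x => hQ0 ▸ hPS x.2
    | succ i ih =>
      intro x
      rw [Fin.val_succ, Function.iterate_succ_apply']
      refine hstep i (Subgroup.subset_closure ⟨_, ih x,
        restr (Subgroup.zpowers_le.2 (f^[i.1] x).2) (autHom α),
        restr_mem F (autHom_mem F hPS (β ^ p ^ k : F.autGroup P).2) _, rfl⟩)
  have hzero : ∀ x, f^[n] x = 1 := by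
    intro x
    have := hstepf (Fin.last n) x
    rw [hQn, Subgroup.mem_bot] at this
    exact Subtype.ext this
  have hone : ∀ x, f x = 1 := eq_one_of_iterate (hS.to_le hPS) α hαm hm (fun _ => rfl) n fun x => by
    rw [Function.iterate_succ_apply]
    exact hzero _
  refine Subtype.ext (MulEquiv.ext fun x => ?_)
  show α x = x
  exact (inv_mul_eq_one.1 (hone x)).symm

end Cfsg.Agent.S5223
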