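import Cfsg.Statements.S5225
import Cfsg.Statements.S5225
import Cfsg.Agent.Lib.Fusion.Tate
import Cfsg.Agent.Lib.Transfer.YoshidaWreath

set_option autoImplicit false
open Cfsg Cfsg.FusionSystem Cfsg.Agent.Lib.Fusion
open scoped commutatorElement

namespace Cfsg.Agent.S5225

/-- Yoshida's Theorem for fusion systems. Let F be a saturated fusion system over a finite p-group S and N the normalizer fusion system of S in F. If the focal subgroups of F and N differ (N does not control transfer in F), then S has a quotient isomorphic to the wreath product C_p ≀ C_p (realised as a Sylow p-subgroup of the symmetric group of degree p²). -/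
theorem result {Ω : Type*} [Group Ω] {S : Subgroup Ω} [Finite S] (p : ℕ) [Fact p.Prime] (hS : IsPGroup p S) (F : Cfsg.FusionSystem S) (hF : F.IsSaturated p) (N : Cfsg.FusionSystem (Cfsg.FusionSystem.normalizerIn S S)) (hN : F.IsNormalizerSystem S N) (hne : N.focalSubgroup ≠ F.focalSubgroup) : ∃ (W : Sylow p (Equiv.Perm (Fin (p ^ 2)))) (f : ↥S →* ↥(W : Subgroup (Equiv.Perm (Fin (p ^ 2))))), Function.Surjective f := by
  classical
  -- the focal subgroup of the normalizer system
  have hfocS : ∀ E : FusionSystem S, E.focalSubgroup ≤ S := fun E =>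
    (Subgroup.closure_le _).2 (by
      rintro _ ⟨P, φ, x, hφ, rfl⟩
      exact S.mul_mem (S.inv_mem (source_le hφ x.2)) (apply_mem hφ x))
  have hnS : normalizerIn S S = S := inf_eq_left.2 Subgroup.le_normalizer
  have hNF : N.focalSubgroup ≤ F.focalSubgroup := by
    refine Subgroup.closure_mono ?_
    rintro _ ⟨P, φ, x, hφ, rfl⟩
    rw [hN P] at hφ
    exact ⟨P, φ, x, hφ.1, rfl⟩
  have hmemN : ∀ ψ : ↥S →* Ω, ψ ∈ F.Hom S → ∀ x : ↥S, (x : Ω)⁻¹ * ψ x ∈ N.focalSubgroup := by
    intro ψ hψ x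
    refine Subgroup.subset_closure ⟨S, ψ, x, ?_, rfl⟩
    rw [hN S]
    have hl : S ⊔ S ≤ S := sup_le le_rfl le_rfl
    refine ⟨hψ, hnS.ge, fun y => hnS.ge (apply_mem hψ y), restr hl ψ, restr_mem F hψ hl,
      fun y => rfl, ?_⟩
    have hr : ψ.range = S := by
      haveI := ‹Finite S›
      refine Subgroup.eq_of_le_of_card_ge (fun y hy => ?_)
        (card_range_eq (F.injective_of_mem hψ)).ge
      obtain ⟨w, rfl⟩ := hy
      exact apply_mem hψ w
    ext y
    constructor
    · rintro ⟨w, hw, rfl⟩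
      exact apply_mem hψ _
    · intro hy
      obtain ⟨w, hw⟩ := hr.ge hy
      exact ⟨⟨(w : Ω), Subgroup.mem_sup_left w.2⟩, w.2, hw⟩
  have hcomm : ∀ a b : ↥S, ((⁅a, b⁆ : ↥S) : Ω) ∈ N.focalSubgroup := by
    intro a b
    have e : ((⁅a, b⁆ : ↥S) : Ω) = (a : Ω) * b * (a : Ω)⁻¹ * (b : Ω)⁻¹ := rfl
    have h2 := hmemN (conjHom S (b : Ω)) (F.conj_mem le_rfl b.2) a⁻¹
    have e2 : ((a⁻¹ : ↥S) : Ω)⁻¹ * conjHom S (b : Ω) a⁻¹ =
        (a : Ω) * b * (a : Ω)⁻¹ * (b : Ω)⁻¹ := by
      simp [conjHom, mul_assoc]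
    rw [e, ← e2]
    exact h2
  set D : Subgroup ↥S := N.focalSubgroup.subgroupOf S with hD
  have hDn : D.Normal := ⟨fun d hd g => by
    have h := D.mul_mem (Subgroup.mem_subgroupOf.2 (hcomm g d)) hd
    simpa [commutatorElement_def, mul_assoc] using h⟩
  haveI := hDn
  letI : CommGroup (↥S ⧸ D) :=
    { (inferInstance : Group (↥S ⧸ D)) with
      mul_comm := by
        intro a b
        obtain ⟨a, rfl⟩ := QuotientGroup.mk_surjective a
        obtain ⟨b, rfl⟩ := QuotientGroup.mk_surjective b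
        show ((a * b : ↥S) : ↥S ⧸ D) = ((b * a : ↥S) : ↥S ⧸ D)
        rw [QuotientGroup.eq]
        have h := Subgroup.mem_subgroupOf.2 (hcomm b⁻¹ a⁻¹)
        simpa [commutatorElement_def, mul_assoc] using h }
  let π : ↥S →* ↥S ⧸ D := QuotientGroup.mk' D
  obtain ⟨B, hB⟩ := exists_stableBiset hS hF
  set T := B.transferOf π
  have hfocT : F.focalSubgroup.subgroupOf S ≤ T.ker := by
    have key : F.focalSubgroup ≤ T.ker.map S.subtype := by
      refine (Subgroup.closure_le _).2 ?_
      rintro _ ⟨P, φ, x, hφ, rfl⟩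
      have hxS : (x : Ω) ∈ S := source_le hφ x.2
      refine ⟨(⟨x, hxS⟩ : ↥S)⁻¹ * ⟨φ x, apply_mem hφ x⟩, ?_, rfl⟩
      show T _ = 1
      rw [map_mul, map_inv, inv_mul_eq_one]
      exact (B.transferOf_map π hφ ⟨x, hxS⟩ x.2).symm
    intro y hy
    obtain ⟨w, hw, e⟩ := key hy
    rwa [show y = w from (Subtype.ext e).symm]
  have hlt : D < F.focalSubgroup.subgroupOf S := by
    refine lt_of_le_of_ne (fun y hy => hNF hy) fun e => hne ?_
    have h1 : N.focalSubgroup ≤ S := hNF.trans (hfocS F)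
    rw [← Subgroup.map_subgroupOf_eq_of_le h1, ← Subgroup.map_subgroupOf_eq_of_le (hfocS F)]
    exact congrArg _ e
  have hTr : T.range ≠ ⊤ := by
    intro e
    have h1 : T.ker.index = D.index := by
      rw [Subgroup.index_ker, e, Subgroup.card_top]
      rfl
    have h2 := Subgroup.index_dvd_of_le (le_trans hlt.le hfocT)
    have h3 : D = T.ker := by
      refine Subgroup.eq_of_le_of_card_ge (le_trans hlt.le hfocT) (le_of_eq ?_)
      have a := Subgroup.card_mul_index T.ker
      rw [h1] at a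
      exact Nat.eq_of_mul_eq_mul_right (Nat.pos_of_ne_zero Subgroup.index_ne_zero_of_finite)
        (a.trans (Subgroup.card_mul_index D).symm)
    exact hlt.not_ge (hfocT.trans h3.ge)
  obtain ⟨X, hX, hTX⟩ := (eq_top_or_exists_le_coatom T.range).resolve_left hTr
  obtain ⟨hXn, hXi⟩ := Cfsg.Agent.Lib.Transfer.index_eq_of_isCoatom (hS.to_quotient D) hX
  haveI : IsCyclic ((↥S ⧸ D) ⧸ X) := isCyclic_of_prime_card (p := p) hXi
  let e : (↥S ⧸ D) ⧸ X ≃* Multiplicative (ZMod p) :=
    mulEquivOfCyclicCardEq (by rw [show Nat.card ((↥S ⧸ D) ⧸ X) = p from hXi]; simp)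
  let g : ↥S ⧸ D →* Multiplicative (ZMod p) := e.toMonoidHom.comp (QuotientGroup.mk' X)
  let μ : ↥S →* Multiplicative (ZMod p) := g.comp π
  have hμT : ∀ x, B.transferOf μ x = 1 := by
    intro x
    have h1 : B.transferOf μ x = g (T x) := by
      simp only [T, StableBiset.transferOf, StableBiset.transferHom_apply, map_prod]
      refine Finset.prod_congr rfl fun i _ => ?_
      rw [← Cfsg.Agent.Lib.Transfer.transfer_comp g]
      rfl
    rw [h1]
    show e (QuotientGroup.mk' X (T x)) = 1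
    rw [QuotientGroup.mk'_apply, (QuotientGroup.eq_one_iff (T x)).2 (hTX ⟨x, rfl⟩), map_one]
  have hμD : ∀ d : ↥S, d ∈ D → μ d = 1 := fun d hd => by
    show g (π d) = 1
    rw [show π d = 1 from (QuotientGroup.eq_one_iff d).2 hd, map_one]
  obtain ⟨x₀, hx₀⟩ : ∃ x₀ : ↥S, μ x₀ ≠ 1 := by
    by_contra hc
    push Not at hc
    refine hX.1 (eq_top_iff.2 fun a _ => ?_)
    obtain ⟨a, rfl⟩ := QuotientGroup.mk'_surjective D a
    exact (QuotientGroup.eq_one_iff _).1 (e.injective ((hc a).trans (map_one e).symm))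
  -- an element of least order outside the kernel
  have hex : ∃ n : ℕ, ∃ x : ↥S, orderOf x = n ∧ μ x ≠ 1 := ⟨_, x₀, rfl, hx₀⟩
  obtain ⟨x, hxn, hx⟩ := Nat.find_spec hex
  have hmin : ∀ y : ↥S, orderOf y < orderOf x → μ y = 1 := fun y hy => by
    by_contra h
    exact Nat.find_min hex (hxn ▸ hy) ⟨y, rfl, h⟩
  let χ : ∀ i, ↥((B.P i).subgroupOf S) →* Multiplicative (ZMod p) := fun i => μ.comp
    (((B.φ i).comp ((Subgroup.subgroupOfEquivOfLe (source_le (B.mem i))).toMonoidHom)).codRestrict S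
      fun x => apply_mem (B.mem i) _)
  have hsmall : ∀ i (k : ℕ) (m : ↥S) (h : m⁻¹ * x ^ k * m ∈ (B.P i).subgroupOf S),
      k ∣ orderOf x → k ≠ 1 → χ i ⟨_, h⟩ = 1 := by
    intro i k m h hk hk1
    refine hmin _ ?_
    have hdiv : orderOf (m⁻¹ * x ^ k * m) = orderOf x / k := by
      have h1 := (MulAut.conj m⁻¹).orderOf_eq (x ^ k)
      rw [MulAut.conj_apply, inv_inv] at h1
      rw [h1, orderOf_pow_of_dvd ?_ hk]
      intro hk0
      rw [hk0, zero_dvd_iff] at hk
      exact (orderOf_pos x).ne' hk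
    have h2 : orderOf (m⁻¹ * x ^ k * m) < orderOf x := by
      rw [hdiv]
      refine Nat.div_lt_self (orderOf_pos x) ?_
      rcases k with _ | _ | k
      · rw [zero_dvd_iff] at hk
        exact absurd hk (orderOf_pos x).ne'
      · exact absurd rfl hk1
      · omega
    refine lt_of_le_of_lt ?_ h2
    refine Nat.le_of_dvd (orderOf_pos _) ?_
    have h3 := orderOf_map_dvd (((B.φ i).comp ((Subgroup.subgroupOfEquivOfLe
      (source_le (B.mem i))).toMonoidHom)).codRestrict S fun x => apply_mem (B.mem i) _)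
      (⟨_, h⟩ : ↥((B.P i).subgroupOf S))
    exact h3.trans (dvd_of_eq (Subgroup.orderOf_coe _).symm)
  -- some proper summand has nontrivial transfer at `x`
  obtain ⟨i, hi, hne'⟩ : ∃ i, (B.P i).subgroupOf S ≠ ⊤ ∧ MonoidHom.transfer (χ i) x ≠ 1 := by
    by_contra hc
    push Not at hc
    have htr : B.transferOf μ x = ∏ i, MonoidHom.transfer (χ i) x := B.transferHom_apply _ x
    rw [hμT x] at htr
    have hval : ∀ i, MonoidHom.transfer (χ i) x =
        if (B.P i).subgroupOf S = ⊤ then μ x else 1 := by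
      intro i
      split_ifs with h
      · letI : Fintype (↥S ⧸ (B.P i).subgroupOf S) := Fintype.ofFinite _
        haveI : Subsingleton (↥S ⧸ (B.P i).subgroupOf S) :=
          QuotientGroup.subsingleton_iff.2 h
        rw [Cfsg.Agent.Lib.LocalEven.transfer_eq_prod_fixTerm (χ i) x (hsmall i),
          Fintype.prod_subsingleton _ ((1 : ↥S) : ↥S ⧸ (B.P i).subgroupOf S),
          Cfsg.Agent.Lib.LocalEven.fixTerm_mk, dif_pos (h ▸ Subgroup.mem_top _)]
        have hPS : S ≤ B.P i := Subgroup.subgroupOf_eq_top.1 h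
        have hψ : restr hPS (B.φ i) ∈ F.Hom S := restr_mem F (B.mem i) hPS
        have h1 := hμD (x⁻¹ * ⟨_, apply_mem hψ x⟩) (Subgroup.mem_subgroupOf.2 (hmemN _ hψ x))
        rw [map_mul, map_inv, inv_mul_eq_one] at h1
        rw [h1]
        refine congrArg μ (Subtype.ext ?_)
        show B.φ i _ = B.φ i _
        exact congrArg (B.φ i) (Subtype.ext (by simp))
      · exact hc i h
    rw [Finset.prod_congr rfl (fun i _ => hval i), Finset.prod_ite, Finset.prod_const_one,
      mul_one, Finset.prod_const] at htr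
    set k := (Finset.univ.filter fun i => (B.P i).subgroupOf S = ⊤).card with hk
    have hkp : ¬ p ∣ k := by
      intro hd
      apply hB
      rw [← Finset.sum_filter_add_sum_filter_not Finset.univ
        (fun i => (B.P i).subgroupOf S = ⊤)]
      refine dvd_add ?_ (Finset.dvd_sum fun j hj => ?_)
      · rw [Finset.sum_congr rfl (g := fun _ => 1) fun j hj => by
          rw [(Finset.mem_filter.1 hj).2, Subgroup.index_top]]
        rw [Finset.sum_const, smul_eq_mul, mul_one]; exact hd
      · obtain ⟨n, hn⟩ := hS.index ((B.P j).subgroupOf S)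
        rw [hn]
        refine dvd_pow_self p fun hn0 => (Finset.mem_filter.1 hj).2 ?_
        rw [hn0, pow_zero, Subgroup.index_eq_one] at hn
        exact hn
    have hp' : (μ x) ^ p = 1 := by
      have := pow_card_eq_one' (x := μ x)
      simpa using this
    have hco : Nat.Coprime k p := ((Fact.out : p.Prime).coprime_iff_not_dvd.2 hkp).symm
    have := pow_gcd_eq_one.2 ⟨htr.symm, hp'⟩
    rw [hco.gcd_eq_one, pow_one] at this
    exact hx this
  exact Cfsg.Agent.Lib.Transfer.exists_surjective_of_transfer_ne_one hS hi (χ i) x (hsmall i) hne'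

end Cfsg.Agent.S5225
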