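import Cfsg.Statements.S5236
import Cfsg.Agent.Lib.Fusion.SmallCyclic

set_option autoImplicit false
open Cfsg Cfsg.FusionSystem Cfsg.Agent.Lib.Fusion

namespace Cfsg.Agent.S5236

open Cfsg.Agent.Lib.Fusion Cfsg.FusionSystem Cfsg.Agent.Lib.Involutions in
theorem normal_of_omega {Ω : Type*} [Group Ω] {S : Subgroup Ω} [Finite S] (p : ℕ) [Fact p.Prime]
    (hS : IsPGroup p S) (F : Cfsg.FusionSystem S) (hF : F.IsSaturated p) (hp : p ≠ 2)
    {P : Subgroup Ω} (hP : F.StronglyClosed P) (n : ℕ) (Q : Fin (n + 1) → Subgroup Ω) (h0 : Q 0 = ⊥)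
    (hn : Q (Fin.last n) = Cfsg.omegaOne p P) (hsc : ∀ i, F.StronglyClosed (Q i))
    (hcomm : ∀ i : Fin n, ⁅Q i.succ, P⁆ ≤ Q i.castSucc) : F.IsNormal P := by
  classical
  refine normal_of_stronglyClosed_of_le hS hF hP fun R hR => ?_
  have hRS : R ≤ S := hR.1.1
  have := finite_of_le hRS
  have := finite_mulAut hRS
  have hPn : S ≤ Subgroup.normalizer (P : Set Ω) :=
    WeaklyClosed.le_normalizer (StronglyClosed.weaklyClosed hP)
  refine le_of_normalizer_le hS hRS hP.1 (hRS.trans hPn) fun g hg => ?_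
  have hgS : g ∈ normalizerIn S R := ⟨hP.1 hg.1, hg.2⟩
  refine mem_of_conjAut_inn hR.1 hgS ?_
  rw [← (IsEssential.radical hS hF hR).2]
  have hinv : ∀ T : Subgroup Ω, F.StronglyClosed T → ∀ α ∈ F.autGroup R, ∀ x : R, (x : Ω) ∈ T →
      ((α x : R) : Ω) ∈ T := fun T hT α hα x hx =>
    hT.2 (T ⊓ R) inf_le_left _ (restr_mem F (autHom_mem F hRS hα) inf_le_right) ⟨x, hx, x.2⟩
  let A : Option (Fin n) → Subgroup Ω := fun o => o.elim S (fun i => Q i.succ)
  let B : Option (Fin n) → Subgroup Ω := fun o => o.elim P (fun i => Q i.castSucc)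
  have hA : ∀ o, F.StronglyClosed (A o) := fun o => by
    cases o
    · exact ⟨le_rfl, fun T _ φ hφ x => apply_mem hφ x⟩
    · exact hsc _
  have hB : ∀ o, F.StronglyClosed (B o) := fun o => by
    cases o
    · exact hP
    · exact hsc _
  let K : Subgroup (F.autGroup R) :=
    { carrier := {a | ∀ o, ∀ x : R, (x : Ω) ∈ A o →
        (((a : MulAut R) x : R) : Ω) * (x : Ω)⁻¹ ∈ B o}
      one_mem' := fun o x _ => by simp
      mul_mem' := by
        intro a b ha hb o x hx
        have h1 := hinv _ (hB o) _ a.2 ((b : MulAut R) x * x⁻¹) (hb o x hx)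
        have h2 := ha o x hx
        rw [map_mul, map_inv] at h1
        show (((a : MulAut R) ((b : MulAut R) x) : R) : Ω) * (x : Ω)⁻¹ ∈ B o
        have h3 := (B o).mul_mem h1 h2
        simpa [mul_assoc] using h3
      inv_mem' := by
        intro a ha o x hx
        have h1 := (B o).inv_mem (ha o x hx)
        rw [mul_inv_rev, inv_inv] at h1
        have h2 := hinv _ (hB o) _ (inv_mem a.2) (x * ((a : MulAut R) x)⁻¹) h1
        rw [map_mul, map_inv, MulAut.inv_apply, MulAut.inv_apply, MulEquiv.symm_apply_apply] at h2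
        exact h2 }
  have hKn : K.Normal := by
    refine ⟨fun a ha c o x hx => ?_⟩
    have h0' := ha o _ (hinv _ (hA o) _ (inv_mem c.2) x hx)
    have h1 := hinv _ (hB o) _ c.2 ((a : MulAut R) ((c : MulAut R)⁻¹ x) * ((c : MulAut R)⁻¹ x)⁻¹) h0'
    rw [map_mul, map_inv, MulAut.inv_apply, MulEquiv.apply_symm_apply] at h1
    exact h1
  have hKp : IsPGroup p K := by
    rw [IsPGroup.iff_orderOf]
    intro a
    obtain ⟨k, m, hm, hN⟩ := Nat.exists_eq_pow_mul_and_not_dvd (orderOf_pos a).ne' p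
      (Fact.out : p.Prime).ne_one
    refine ⟨k, ?_⟩
    set b := a ^ p ^ k with hb
    have hbm : b ^ m = 1 := by rw [hb, ← pow_mul, ← hN, pow_orderOf_eq_one]
    have hbm' : ((b : F.autGroup R) : MulAut R) ^ m = 1 := by
      rw [← Subgroup.coe_pow, ← Subgroup.coe_pow, hbm, Subgroup.coe_one, Subgroup.coe_one]
    have hco : (orderOf ((b : F.autGroup R) : MulAut R)).Coprime p :=
      (((Fact.out : p.Prime).coprime_iff_not_dvd.2 hm).symm).coprime_dvd_left
        (orderOf_dvd_of_pow_eq_one hbm')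
    have hb1 : ((b : F.autGroup R) : MulAut R) = 1 := by
      refine eq_one_of_series_on (H := P) hS hRS _ hco (fun x => ?_)
        (fun i => if h : i ≤ n then Q ⟨i, by omega⟩ else ⊤) ?_ n (fun x hx hxs => ?_)
        fun x hx hxs i hi => ?_
      · have h1 := b.2 none x (hRS x.2)
        have h2 := conj_mem_of_mem_normalizer (hPn (S.inv_mem (hRS x.2))) h1
        simpa [mul_assoc] using h2
      · rw [dif_pos (Nat.zero_le n)]
        exact h0
      · rw [dif_pos le_rfl]
        show (x : Ω) ∈ Q (Fin.last n)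
        rw [hn]
        exact Subgroup.subset_closure ⟨hx, hxs.resolve_right fun h => hp h.1⟩
      · by_cases hin : i < n
        · rw [dif_pos (by omega : i + 1 ≤ n)] at hi
          rw [dif_pos hin.le]
          exact b.2 (some ⟨i, hin⟩) x hi
        · by_cases hin' : i ≤ n
          · obtain rfl : i = n := by omega
            rw [dif_pos hin']
            show _ ∈ Q (Fin.last i)
            have hxQ : (x : Ω) ∈ Q (Fin.last i) := by
              rw [hn]
              exact Subgroup.subset_closure ⟨hx, hxs.resolve_right fun h => hp h.1⟩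
            exact (Q _).mul_mem (hinv _ (hsc _) _ (b : F.autGroup R).2 x hxQ) ((Q _).inv_mem hxQ)
          · rw [dif_neg hin']
            trivial
    have : b = 1 := Subtype.ext (Subtype.ext hb1)
    exact Nat.dvd_antisymm (orderOf_dvd_of_pow_eq_one this) ⟨m, hN⟩
  have hgF := conjAut_mem_autGroup F hRS hgS.1 hg.2
  refine ⟨⟨conjAut hg.2, hgF⟩, le_pCore_of_normal hKp ?_, rfl⟩
  intro o x hx
  show g * (x : Ω) * g⁻¹ * (x : Ω)⁻¹ ∈ B o
  cases o with
  | none =>
    have h1 := conj_mem_of_mem_normalizer (hPn (hRS x.2)) (P.inv_mem hg.1)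
    have h2 := P.mul_mem hg.1 h1
    simpa [B, mul_assoc] using h2
  | some i =>
    have h1 := (Q i.castSucc).inv_mem (hcomm i (Subgroup.commutator_mem_commutator hx hg.1))
    simpa [B, commutatorElement_def, mul_assoc] using h1

open Cfsg.Agent.Lib.Fusion Cfsg.FusionSystem commutatorElement in
theorem omega_of_normal {Ω : Type*} [Group Ω] {S : Subgroup Ω} [Finite S] (p : ℕ) [Fact p.Prime]
    (hS : IsPGroup p S) (F : Cfsg.FusionSystem S) {P : Subgroup Ω} (hP : F.IsNormal P) :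
    ∃ (n : ℕ) (Q : Fin (n + 1) → Subgroup Ω), Q 0 = ⊥ ∧ Q (Fin.last n) = Cfsg.omegaOne p P ∧
      Monotone Q ∧ (∀ i : Fin (n + 1), F.StronglyClosed (Q i)) ∧
      ∀ i : Fin n, ⁅Q i.succ, P⁆ ≤ Q i.castSucc := by
  classical
  have hPS := hP.1
  have := finite_of_le hPS
  have hnil : Group.IsNilpotent P := (isPGroup_of_le hS hPS).isNilpotent
  have hΩP : Cfsg.omegaOne p P ≤ P := (Subgroup.closure_le _).2 fun _ hx => hx.1
  have hchar : ∀ C : Subgroup P, (∀ a : MulAut P, ∀ x ∈ C, a x ∈ C) →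
      F.StronglyClosed (C.map P.subtype) := by
    intro C hC
    refine ⟨(Subgroup.map_subtype_le _).trans hPS, fun R hR φ hφ x => ?_⟩
    obtain ⟨ψ, hψ, hext, himg⟩ := hP.2 R φ hφ
    have hRP : R ≤ P := hR.trans (Subgroup.map_subtype_le _)
    have hψ' := restr_mem F hψ (le_sup_right : P ≤ R ⊔ P)
    have hr : (restr (le_sup_right : P ≤ R ⊔ P) ψ).range = P := (range_restr _ ψ).trans himg
    obtain ⟨y, hy, hyx⟩ := hR x.2
    refine ⟨isoOf _ (F.injective_of_mem hψ') hr y, hC _ y hy, ?_⟩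
    show ψ _ = φ x
    rw [← hext x]
    exact congrArg ψ (Subtype.ext hyx)
  have hΩchar : ∀ a : MulAut P, ∀ x ∈ (Cfsg.omegaOne p P).subgroupOf P,
      a x ∈ (Cfsg.omegaOne p P).subgroupOf P := by
    intro a
    have hle : Cfsg.omegaOne p P ≤
        (((Cfsg.omegaOne p P).subgroupOf P).comap a.toMonoidHom).map P.subtype := by
      refine (Subgroup.closure_le _).2 fun x hx => ⟨⟨x, hx.1⟩, Subgroup.subset_closure
        ⟨(a ⟨x, hx.1⟩).2, ?_⟩, rfl⟩
      have : (⟨x, hx.1⟩ : P) ^ p = 1 := Subtype.ext hx.2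
      show ((a ⟨x, hx.1⟩ : P) : Ω) ^ p = 1
      rw [← Subgroup.coe_pow, ← map_pow, this, map_one, Subgroup.coe_one]
    intro x hx
    obtain ⟨y, hy, hyx⟩ := hle hx
    obtain rfl := Subtype.ext hyx
    exact hy
  let C : ℕ → Subgroup P := fun i =>
    Subgroup.upperCentralSeries P i ⊓ (Cfsg.omegaOne p P).subgroupOf P
  refine ⟨Group.nilpotencyClass P, fun i => (C i).map P.subtype, ?_, ?_, ?_, fun i => hchar _ ?_, ?_⟩
  · show (C 0).map P.subtype = ⊥
    simp [C, Subgroup.upperCentralSeries_zero]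
  · show (C (Fin.last (Group.nilpotencyClass P) : ℕ)).map P.subtype = _
    rw [Fin.val_last]
    simp only [C, Subgroup.upperCentralSeries_nilpotencyClass, top_inf_eq]
    exact Subgroup.map_subgroupOf_eq_of_le hΩP
  · intro i j hij
    exact Subgroup.map_mono (inf_le_inf_right _ (Subgroup.upperCentralSeries_mono P hij))
  · intro a x hx
    refine ⟨?_, hΩchar a x hx.2⟩
    have := Subgroup.Characteristic.fixed (H := Subgroup.upperCentralSeries P (i : ℕ)) inferInstance a
    exact this.ge hx.1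
  · intro i
    refine Subgroup.commutator_le.2 ?_
    rintro _ ⟨y, ⟨hy1, hy2⟩, rfl⟩ z hz
    refine ⟨⁅y, ⟨z, hz⟩⁆, ⟨?_, ?_⟩, rfl⟩
    · exact Subgroup.mem_upperCentralSeries_succ_iff.1 hy1 ⟨z, hz⟩
    · have h1 := hΩchar (MulAut.conj (⟨z, hz⟩ : P)) _ (Subgroup.inv_mem _ hy2)
      have h2 := Subgroup.mul_mem _ hy2 h1
      simpa [commutatorElement_def, mul_assoc] using h2

/-- Let p be an odd prime, F a saturated fusion system over a finite p-group S and P a subgroup of S strongly closed in F. Then P is normal in F if and only if Ω₁(P) (the subgroup generated by the elements of order p of P) has a chain of subgroups 1 = Q₀ ≤ Q₁ ≤ ⋯ ≤ Qₙ = Ω₁(P), each strongly closed in F, with [Qᵢ₊₁, P] ≤ Qᵢ for all i. -/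
theorem result {Ω : Type*} [Group Ω] {S : Subgroup Ω} [Finite S] (p : ℕ) [Fact p.Prime] (hS : IsPGroup p S) (F : Cfsg.FusionSystem S) (hF : F.IsSaturated p) (hp : p ≠ 2) (P : Subgroup Ω) (hP : F.StronglyClosed P) : F.IsNormal P ↔ ∃ (n : ℕ) (Q : Fin (n + 1) → Subgroup Ω), Q 0 = ⊥ ∧ Q (Fin.last n) = Cfsg.omegaOne p P ∧ Monotone Q ∧ (∀ i : Fin (n + 1), F.StronglyClosed (Q i)) ∧ ∀ i : Fin n, ⁅Q i.succ, P⁆ ≤ Q i.castSucc := by
  exact ⟨omega_of_normal p hS F, fun ⟨n, Q, h0, hn, _, hsc, hcomm⟩ => normal_of_omega p hS F hF hp hP n Q h0 hn hsc hcomm⟩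

end Cfsg.Agent.S5236
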