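import Cfsg.Statements.S5238
import Cfsg.Statements.S5238
import Cfsg.Agent.Lib.PLocal.Pearl

set_option autoImplicit false
open Cfsg

namespace Cfsg.Agent.S5238

/-- Let p be an odd prime and F a saturated fusion system over a finite p-group S having a pearl: an F-essential subgroup E that is elementary abelian of order p² or nonabelian of order p³. Then S has maximal nilpotency class (if S has order pⁿ with n ≥ 3, the term of index n − 2 of its lower central series, counting S itself as the term of index 0, is nontrivial), and every subgroup of S can be generated by at most p elements (the sectional rank of S is at most p). -/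
theorem result {Ω : Type*} [Group Ω] {S : Subgroup Ω} [Finite S] (p : ℕ) [Fact p.Prime] (hS : IsPGroup p S) (F : Cfsg.FusionSystem S) (hF : F.IsSaturated p) (hp : p ≠ 2) (E : Subgroup Ω) (hE : F.IsEssential p E) (hpearl : (Nat.card E = p ^ 2 ∧ ∀ x ∈ E, x ^ p = 1 ∧ IsMulCommutative ↥E) ∨ (Nat.card E = p ^ 3 ∧ ¬ IsMulCommutative ↥E)) : (∀ n : ℕ, Nat.card S = p ^ n → 3 ≤ n → Subgroup.lowerCentralSeries S (n - 2) ≠ ⊥) ∧ ∀ H : Subgroup Ω, H ≤ S → ∃ T : Finset Ω, T.card ≤ p ∧ Subgroup.closure (T : Set Ω) = H := by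
  classical
  obtain ⟨x, hxS, hxp, hxc, hS3⟩ : ∃ x ∈ S, x ^ p = 1 ∧
      Nat.card (Cfsg.FusionSystem.centralizerIn S (Subgroup.zpowers x)) = p ^ 2 ∧ p ^ 2 < Nat.card S := by
    have hlt := Lib.PLocal.Pearl.E_lt hS hF hE
    have hlt' : Nat.card E < Nat.card S := by
      by_contra hle
      exact hlt.ne (Subgroup.eq_of_le_of_card_ge hlt.le (not_lt.1 hle))
    rcases hpearl with ⟨hc, h⟩ | ⟨hc, hnab⟩
    · obtain ⟨x, hxS, hxp, hxc⟩ := Lib.PLocal.Pearl.exists_small_of_abelian hS hF hE hc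
        (fun a ha b hb => congrArg Subtype.val ((h a ha).2.is_comm.comm ⟨a, ha⟩ ⟨b, hb⟩))
        (fun a ha => (h a ha).1)
      exact ⟨x, hxS, hxp, hxc, hc ▸ hlt'⟩
    · obtain ⟨x, hxS, hxp, hxc⟩ := Lib.PLocal.Pearl.exists_small_of_nonabelian hS hF hp hE hc hnab
      exact ⟨x, hxS, hxp, hxc, lt_trans (Nat.pow_lt_pow_right (Fact.out : p.Prime).one_lt (by norm_num)) (hc ▸ hlt')⟩
  obtain ⟨N, hN⟩ := IsPGroup.iff_card.1 hS
  have hN3 : 3 ≤ N := by
    rw [hN] at hS3
    exact (Nat.pow_lt_pow_iff_right (Fact.out : p.Prime).one_lt).1 hS3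
  have hcent : Nat.card (Subgroup.centralizer ({⟨x, hxS⟩} : Set S)) = p ^ 2 := by
    rw [← hxc, ← Subgroup.card_map_of_injective S.subtype_injective]
    congr 3
    ext g
    constructor
    · rintro ⟨u, hu, rfl⟩
      refine ⟨u.2, Subgroup.mem_centralizer_iff.2 fun v hv => ?_⟩
      obtain ⟨i, rfl⟩ := Subgroup.mem_zpowers_iff.1 hv
      exact ((show Commute x (u : Ω) from
        congrArg Subtype.val (Subgroup.mem_centralizer_singleton_iff.1 hu).symm).zpow_left i).eq
    · rintro ⟨hgS, hg⟩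
      exact ⟨⟨g, hgS⟩, Subgroup.mem_centralizer_singleton_iff.2 (Subtype.ext
        (Subgroup.mem_centralizer_iff.1 hg x (Subgroup.mem_zpowers x)).symm), rfl⟩
  have hset : Lib.PLocal.SmallCentralizer.Setting p S N ⟨x, hxS⟩ :=
    ⟨hN, hN3, Subtype.ext hxp, hcent⟩
  refine ⟨fun n hn _ h => ?_, fun H hH => ?_⟩
  · obtain rfl : n = N := Nat.pow_right_injective (Fact.out : p.Prime).two_le (hn.symm.trans hN)
    refine Lib.RankTwo.lowerCentralSeries_ne_bot_of_centralizer n hN ⟨x, hxS⟩ hcent ?_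
    refine Subgroup.map_injective S.subtype_injective ?_
    rw [Subgroup.top_subtype_lowerCentralSeries, h, Subgroup.map_bot]
  · obtain ⟨T, hT, hT'⟩ := hset.exists_generators (H.subgroupOf S)
    refine ⟨T.image Subtype.val, Finset.card_image_le.trans hT, ?_⟩
    rw [Finset.coe_image]
    show Subgroup.closure (S.subtype '' (T : Set S)) = H
    rw [← MonoidHom.map_closure, hT', Subgroup.subgroupOf_map_subtype, inf_eq_left.2 hH]

end Cfsg.Agent.S5238
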