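import Cfsg.Statements.S5239
import Cfsg.Statements.S5239
import Cfsg.Agent.Lib.PLocal.Pearl
import Cfsg.Agent.Lib.PLocal.PearlThree
import Cfsg.Agent.Lib.PLocal.MetacyclicClosed
import Cfsg.Agent.Lib.Fusion.Solvable

set_option autoImplicit false
open Cfsg

namespace Cfsg.Agent.S5239

/-- Let F be a saturated fusion system over a finite 3-group S having a pearl: an F-essential subgroup E that is elementary abelian of order 9 or nonabelian of order 27. Then either S is extraspecial of order 27 and exponent 3, or S has order at least 81 and every subgroup of S can be generated by at most two elements, or S is isomorphic to the wreath product C₃ ≀ C₃ (a Sylow 3-subgroup of the symmetric group of degree 9). -/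
theorem result {Ω : Type*} [Group Ω] {S : Subgroup Ω} [Finite S] (hS : IsPGroup 3 S) (F : Cfsg.FusionSystem S) (hF : F.IsSaturated 3) [Fact (Nat.Prime 3)] (E : Subgroup Ω) (hE : F.IsEssential 3 E) (hpearl : (Nat.card E = 9 ∧ ∀ x ∈ E, x ^ 3 = 1 ∧ IsMulCommutative ↥E) ∨ (Nat.card E = 27 ∧ ¬ IsMulCommutative ↥E)) : (Cfsg.IsExtraspecial 3 ↥S ∧ Nat.card S = 27 ∧ Monoid.exponent ↥S = 3) ∨ (81 ≤ Nat.card S ∧ ∀ H : Subgroup Ω, H ≤ S → ∃ T : Finset Ω, T.card ≤ 2 ∧ Subgroup.closure (T : Set Ω) = H) ∨ (∃ W : Sylow 3 (Equiv.Perm (Fin 9)), Nonempty (↥S ≃* ↥(W : Subgroup (Equiv.Perm (Fin 9))))) := by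
  classical
  obtain ⟨n, x, h⟩ := Lib.PLocal.Pearl.exists_setting hS hF (by norm_num) hE
    (by simpa using hpearl)
  have hback : (∀ H : Subgroup S, ∃ T : Finset S, T.card ≤ 2 ∧ Subgroup.closure (T : Set S) = H) →
      ∀ H : Subgroup Ω, H ≤ S → ∃ T : Finset Ω, T.card ≤ 2 ∧ Subgroup.closure (T : Set Ω) = H := by
    intro hall H hH
    obtain ⟨T, hT, hT'⟩ := hall (H.subgroupOf S)
    refine ⟨T.image Subtype.val, Finset.card_image_le.trans hT, ?_⟩
    rw [Finset.coe_image]
    show Subgroup.closure (S.subtype '' (T : Set S)) = H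
    rw [← MonoidHom.map_closure, hT', Subgroup.subgroupOf_map_subtype, inf_eq_left.2 hH]
  rcases (show n = 3 ∨ n = 4 ∨ 5 ≤ n by have := h.three_le; omega) with rfl | hn | hn
  rotate_left
  · rcases Lib.PLocal.PearlThree.four h hn with hall | hW
    · exact Or.inr (Or.inl ⟨by rw [h.card, hn]; norm_num, hback hall⟩)
    · exact Or.inr (Or.inr hW)
  · refine Or.inr (Or.inl ⟨?_, hback (Lib.PLocal.PearlThree.exists_two_of_five h hn)⟩)
    rw [h.card]
    calc 81 = 3 ^ 4 := by norm_num
      _ ≤ 3 ^ n := Nat.pow_le_pow_right (by norm_num) (by omega)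
  left
  set L1 := Lib.PLocal.SmallCentralizer.L ↥S 1 with hL1
  have hcomm : commutator ↥S = L1 := by
    rw [hL1, Lib.PLocal.SmallCentralizer.L, Subgroup.top_lowerCentralSeries_one]
  have hc1 : Nat.card L1 = 3 := by rw [hL1, h.card_L 1 le_rfl]; norm_num
  have hcen : Subgroup.center ↥S = L1 := by
    refine le_antisymm (Lib.PLocal.PearlThree.center_le h) fun u hu => Subgroup.mem_center_iff.2 fun g => ?_
    have h1 := Lib.PLocal.PearlThree.comm_mem g hu
    rw [h.eq_bot (j := 1 + 1) (by norm_num), Subgroup.mem_bot, commutatorElement_eq_one_iff_mul_comm] at h1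
    exact h1
  have hncyc : ∀ g : S, Subgroup.zpowers g ≠ ⊤ := fun g htop => by
    have h2 := h.cent
    rw [show Subgroup.centralizer ({x} : Set S) = ⊤ from eq_top_iff.2 fun u _ => ?_, Subgroup.card_top,
      h.card] at h2
    · norm_num at h2
    · obtain ⟨a, rfl⟩ := Subgroup.mem_zpowers_iff.1 (htop ▸ Subgroup.mem_top u : u ∈ Subgroup.zpowers g)
      obtain ⟨b, hb⟩ := Subgroup.mem_zpowers_iff.1 (htop ▸ Subgroup.mem_top x : x ∈ Subgroup.zpowers g)
      rw [Subgroup.mem_centralizer_singleton_iff, ← hb, ← zpow_add, ← zpow_add, add_comm]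
  have hfr : frattini ↥S = L1 := by
    have hle : L1 ≤ frattini ↥S := by have := hS.isNilpotent; exact hcomm.symm.le.trans Lib.Cores.commutator_le_frattini
    refine (Subgroup.eq_of_le_of_card_ge hle ?_).symm
    obtain ⟨i, hi, hi'⟩ := (Nat.dvd_prime_pow Nat.prime_three).1
      (h.card ▸ Subgroup.card_subgroup_dvd_card (frattini ↥S))
    rw [hi', hc1]
    refine (Nat.pow_le_pow_right (by norm_num) (show i ≤ 1 from ?_)).trans (le_of_eq (pow_one 3))
    by_contra hgt
    have hne : frattini ↥S ≠ ⊤ := fun e => by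
      have hb : Subgroup.zpowers (1 : S) = ⊤ := frattini_nongenerating (by rw [e, sup_top_eq])
      exact hncyc 1 hb
    obtain ⟨g, -, hg⟩ := SetLike.exists_of_lt (lt_top_iff_ne_top.2 hne)
    refine hncyc g (frattini_nongenerating (Subgroup.eq_top_of_card_eq _ ?_))
    obtain ⟨j, hj, hj'⟩ := (Nat.dvd_prime_pow Nat.prime_three).1
      (h.card ▸ Subgroup.card_subgroup_dvd_card (Subgroup.zpowers g ⊔ frattini ↥S))
    have hij : i < j := by
      by_contra hc
      refine hg ?_
      rw [Subgroup.eq_of_le_of_card_ge (le_sup_right : frattini ↥S ≤ Subgroup.zpowers g ⊔ frattini ↥S) (by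
        rw [hi', hj']; exact Nat.pow_le_pow_right (by norm_num) (by omega))]
      exact Subgroup.mem_sup_left (Subgroup.mem_zpowers g)
    rw [hj', h.card, show j = 3 by omega]
  refine ⟨⟨⟨hS, hfr.trans hcen.symm, hcomm.trans hcen.symm⟩, by rw [hcen, hc1]⟩, by rw [h.card]; norm_num, ?_⟩
  have hexp : Monoid.exponent ↥S ∣ 3 := by
    rw [Monoid.exponent_dvd_iff_forall_pow_eq_one]
    intro a
    by_contra ha
    obtain ⟨i, hi, hi'⟩ := (Nat.dvd_prime_pow Nat.prime_three).1 (h.card ▸ orderOf_dvd_natCard a)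
    have hi2 : i = 2 := by
      rcases (show i ≤ 1 ∨ i = 2 ∨ i = 3 by omega) with hle | e | rfl
      · exact (ha (orderOf_dvd_iff_pow_eq_one.1 (hi' ▸ (pow_dvd_pow 3 hle).trans (by rw [pow_one])))).elim
      · exact e
      · exact (hncyc a (Subgroup.eq_top_of_card_eq _ (by rw [Nat.card_zpowers, hi', h.card]))).elim
    subst hi2
    have hidx : (Subgroup.zpowers a).index = 3 := by
      have h1 := Subgroup.card_mul_index (Subgroup.zpowers a)
      rw [Nat.card_zpowers, hi', h.card] at h1
      omega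
    have hnorm : (Subgroup.zpowers a).Normal := Subgroup.normal_of_index_eq_minFac_card
      (by rw [hidx, h.card, Nat.pow_minFac (by norm_num), Nat.prime_three.minFac_eq])
    have hm : Cfsg.IsMetacyclic ↥S := ⟨_, hnorm, inferInstance,
      isCyclic_of_prime_card (p := 3) ((Subgroup.index_eq_card _).symm.trans hidx)⟩
    have hn := Lib.PLocal.MetacyclicClosed.isNormal_of_metacyclic hS (by norm_num) hF
      (Lib.Fusion.stronglyClosed_top F) hm
    exact (Lib.PLocal.Pearl.E_lt hS hF hE).not_ge (Lib.Fusion.IsNormal.le_centricRadical hS hn hE.1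
      (Lib.Fusion.IsEssential.radical hS hF hE))
  rcases (Nat.dvd_prime Nat.prime_three).1 hexp with e | e
  · exfalso
    rw [Monoid.exp_eq_one_iff] at e
    have hh := h.card
    rw [Nat.card_of_subsingleton (1 : S)] at hh
    norm_num at hh
  · exact e

end Cfsg.Agent.S5239
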