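import Cfsg.Statements.S5243
import Cfsg.Agent.Lib.Fusion.PrimeIndex.Character

set_option autoImplicit false
open Cfsg Cfsg.FusionSystem Cfsg.Agent.Lib.Fusion Cfsg.Agent.Lib.Fusion.PrimeIndex

namespace Cfsg.Agent.S5243

/-- Let F be a saturated fusion system over a finite p-group S, E a normal subsystem of F over T ≤ S, and χ a surjective homomorphism from Aut_F(T) onto a nontrivial finite group Δ of order prime to p whose kernel contains Aut_E(T). Then there is a proper normal subsystem F₀ of F over S containing E such that Aut_{F₀}(S) consists of those α ∈ Aut_F(S) whose restriction to T is an element of Aut_F(T) in the kernel of χ; moreover every p'-residual subsystem O^{p'}(F) of F is contained in F₀. -/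
theorem result {Ω : Type*} [Group Ω] {S : Subgroup Ω} [Finite S] (p : ℕ) [Fact p.Prime] (hS : IsPGroup p S) (F : Cfsg.FusionSystem S) (hF : F.IsSaturated p) {T : Subgroup Ω} (hTS : T ≤ S) (E : Cfsg.FusionSystem T) (hE : E.IsNormalIn F p) {Δ : Type*} [Group Δ] [Finite Δ] [Nontrivial Δ] (hΔ : (Nat.card Δ).Coprime p) (χ : ↥(F.autGroup T) →* Δ) (hχ : Function.Surjective χ) (hker : (E.autGroup T).subgroupOf (F.autGroup T) ≤ χ.ker) : ∃ F₀ : Cfsg.FusionSystem S, F₀.IsNormalIn F p ∧ ¬ (∀ P : Subgroup Ω, F₀.Hom P = F.Hom P) ∧ E.IsSubsystemOf F₀ ∧ (∀ α : MulAut ↥S, α ∈ F₀.autGroup S ↔ α ∈ F.autGroup S ∧ ∃ β : ↥(F.autGroup T), χ β = 1 ∧ ∀ t : ↥T, (((β : MulAut ↥T) t : ↥T) : Ω) = ((α ⟨(t : Ω), hTS t.2⟩ : ↥S) : Ω)) ∧ ∀ R : Cfsg.FusionSystem S, F.IsPPrimeResidual p R → R.IsSubsystemOf F₀ := by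
  have D : CharData p F E χ :=
    ⟨hS, hF, hE.1.1, hE.1.2.2, hΔ, fun a ha => hker ha⟩
  set B' := (χ.comp (resT D)).ker.map (F.autGroup S).subtype with hB'def
  have hB : baseAut F p ≤ B' := baseAut_le_char D
  have hB' : B' ≤ F.autGroup S := Subgroup.map_subtype_le _
  have hnorm : ∀ α ∈ F.autGroup S, ∀ b ∈ B', α * b * α⁻¹ ∈ B' := by
    rintro α hα _ ⟨b, hb, rfl⟩
    let a : ↥(F.autGroup S) := ⟨α, hα⟩
    have hk : a * b * a⁻¹ ∈ (χ.comp (resT D)).ker := by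
      have hb' : (χ.comp (resT D)) b = 1 := hb
      rw [MonoidHom.mem_ker, map_mul, map_mul, hb', map_inv, mul_one, mul_inv_cancel]
    exact Subgroup.mem_map.2 ⟨a * b * a⁻¹, hk, by simp [a]⟩
  have hmem : ∀ α : MulAut ↥S, α ∈ (subSystem hS F B').autGroup S ↔ α ∈ B' :=
    fun α => mem_autGroup_subSystem hS hB hB'
  refine ⟨subSystem hS F B', isNormalIn_subSystem hS hF hB hB' hnorm, fun hall => ?_,
    subsystem_char D, fun α => (hmem α).trans ⟨?_, ?_⟩, fun R hR => ?_⟩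
  · obtain ⟨α, hα⟩ := exists_char_ne_one D hχ
    have h1 : (α : MulAut ↥S) ∈ B' :=
      (hmem _).1 (mem_autGroup_of_hom _ ((hall S).symm ▸ autHom_mem F le_rfl α.2))
    obtain ⟨b, hb, hbα⟩ := h1
    exact hα (Subtype.ext hbα ▸ hb)
  · rintro ⟨a, ha, rfl⟩
    exact ⟨a.2, resT D a, ha, fun t => resT_apply D a t⟩
  · rintro ⟨hα, β, hβ, hβα⟩
    refine ⟨⟨α, hα⟩, ?_, rfl⟩
    show χ (resT D ⟨α, hα⟩) = 1
    refine Eq.trans (congrArg χ (Subtype.ext (MulEquiv.ext fun t => Subtype.ext ?_))) hβ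
    exact (hβα t).symm
  · exact hR.2.2 _ (isSaturated_subSystem hS hF hB)
      (hasPrimeToPIndexIn_of_gen_le hS hF (fun P φ hφ => hφ.1) (gen_le_subSystem hS _))

end Cfsg.Agent.S5243
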