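import Cfsg.Statements.S5244
import Cfsg.Agent.Lib.Fusion.AbelianIndexResults
-- import your own Cfsg.Agent.* helpers here

set_option autoImplicit false
open Cfsg

namespace Cfsg.Agent.S5244

/-- Let p be an odd prime, S a finite nonabelian p-group with a unique abelian subgroup A of index p, and F a saturated fusion system over S with no nontrivial normal subgroup (O_p(F) = 1) in which A is not F-essential. Then some subgroup Z(S)⟨x⟩ with x ∈ S outside A is F-essential, the centre Z(S) is contained in the commutator subgroup of S, and S has maximal nilpotency class (if S has order pⁿ with n ≥ 3, the term of index n − 2 of its lower central series, counting S itself as the term of index 0, is nontrivial). -/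
theorem result {Ω : Type*} [Group Ω] {S : Subgroup Ω} [Finite S] (p : ℕ) [Fact p.Prime] (hS : IsPGroup p S) (F : Cfsg.FusionSystem S) (hF : F.IsSaturated p) (hp : p ≠ 2) (hna : ¬ IsMulCommutative ↥S) (A : Subgroup Ω) (hA : A ≤ S ∧ IsMulCommutative ↥A ∧ (A.subgroupOf S).index = p) (huniq : ∀ B : Subgroup Ω, B ≤ S → IsMulCommutative ↥B → (B.subgroupOf S).index = p → B = A) (hcore : F.core = ⊥) (hAe : ¬ F.IsEssential p A) : (∃ x ∈ S, x ∉ A ∧ F.IsEssential p ((S ⊓ Subgroup.centralizer (S : Set Ω)) ⊔ Subgroup.zpowers x)) ∧ (S ⊓ Subgroup.centralizer (S : Set Ω)) ≤ (commutator ↥S).map S.subtype ∧ ∀ n : ℕ, Nat.card S = p ^ n → 3 ≤ n → Subgroup.lowerCentralSeries S (n - 2) ≠ ⊥ := by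
  have h := Cfsg.Agent.Lib.Fusion.AbIndex.of_statement hS hna hA
  obtain ⟨x, hx, hxA⟩ := SetLike.exists_of_lt h.lt
  obtain ⟨P, hP, hle⟩ := h.exists_abelian_essential hF hcore hAe
  have hPA : P ≠ A := fun e => hAe (e ▸ hP)
  obtain ⟨hZT, hZc⟩ := h.ctr_le_commutator hF hp huniq hcore hAe hx hxA
  refine ⟨?_, ?_, ?_⟩
  · obtain ⟨-, -, -, hor⟩ := h.structure_of_essential hP hPA hF huniq
    rcases hor with ⟨-, y, hy, hyA, e⟩ | ⟨hn, -⟩
    · exact ⟨y, hy, hyA, e ▸ hP⟩
    · exact absurd hle hn
  · rw [h.commutator_eq hx hxA]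
    exact hZT
  · intro n hn hn3
    obtain ⟨M, hM, -⟩ := h.exists_exponent hF hP hPA huniq
    rw [hZc, ← pow_succ] at hM
    have hS' := h.card
    rw [hM, hn, ← pow_succ] at hS'
    have he : n = M + 2 := (Nat.pow_right_injective (Fact.out : p.Prime).two_le hS').symm
    have hM' : Nat.card A = p ^ M * Nat.card
        ↥(Cfsg.FusionSystem.centralizerIn S S) := by rw [hZc, hM, pow_succ]
    obtain ⟨H, -, hHL, hne⟩ := h.exists_timg hx hxA (h.card_ctr_inf hP hPA hF huniq hx hxA) hM'
      (k := n - 3) (by omega)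
    intro hbot
    refine hne (le_bot_iff.1 ((h.timg_le_lowerCentralSeries hx hHL).trans ?_))
    rw [show n - 3 + 1 = n - 2 by omega, hbot]

end Cfsg.Agent.S5244
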