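import Cfsg.Statements.S5245
import Mathlib.GroupTheory.SemidirectProduct
import Cfsg.Agent.Lib.Fusion.Realized
import Cfsg.Agent.Lib.Fusion.Hyperfocal
import Cfsg.Agent.Lib.Fusion.PPowerIndex
import Cfsg.Agent.Lib.Fusion.Essential

set_option autoImplicit false
open Cfsg Cfsg.FusionSystem Cfsg.Agent.Lib.Fusion

namespace Cfsg.Agent.S5245

variable {Ω : Type*} [Group Ω]

/-- The maps induced by a group of automorphisms of `T`. -/
def splitSys (T : Subgroup Ω) (L : Subgroup (MulAut T))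
    (hL : Cfsg.Inn T ≤ L) : FusionSystem T where
  Hom P := {φ | P ≤ T ∧ ∃ l ∈ L, ∀ (x : P) (hx : (x : Ω) ∈ T), φ x = ((l ⟨x, hx⟩ : T) : Ω)}
  le_of_mem := by
    rintro P φ ⟨hP, l, -, h⟩
    exact ⟨hP, fun x => (h x (hP x.2)).symm ▸ SetLike.coe_mem _⟩
  injective_of_mem := by
    rintro P φ ⟨hP, l, -, h⟩ a b e
    rw [h a (hP a.2), h b (hP b.2)] at e
    have e2 := l.injective (Subtype.ext e)
    exact Subtype.ext (Subtype.mk.inj e2)
  conj_mem {P g} hP hg := ⟨hP, MulAut.conj (⟨g, hg⟩ : T), hL ⟨_, rfl⟩, fun x hx => rfl⟩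
  comp_mem := by
    rintro P Q φ ψ ⟨hP, l, hl, hle⟩ ⟨hQ, m, hm, hme⟩ h
    refine ⟨hP, m * l, mul_mem hm hl, fun x hx => ?_⟩
    show ψ ⟨φ x, h x⟩ = _
    rw [hme _ (hQ (h x))]
    exact congrArg (fun z => ((m z : T) : Ω)) (Subtype.ext (hle x hx))
  inv_mem := by
    rintro P φ ⟨hP, l, hl, hle⟩
    have hr : φ.range ≤ T := by
      rintro _ ⟨x, rfl⟩
      exact (hle x (hP x.2)).symm ▸ SetLike.coe_mem _
    refine ⟨T.subtype.comp ((l⁻¹ : MulAut T).toMonoidHom.comp (Subgroup.inclusion hr)),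
      ⟨hr, l⁻¹, inv_mem hl, fun x hx => rfl⟩, fun x => ?_⟩
    show ((l⁻¹ (⟨φ x, _⟩ : T) : T) : Ω) = x
    rw [show (⟨φ x, hr ⟨x, rfl⟩⟩ : T) = l ⟨x, hP x.2⟩ from Subtype.ext (hle x _)]
    exact congrArg Subtype.val (l.symm_apply_apply _)

theorem mem_eq' {a b : Ω} {K : Subgroup Ω} (e : a = b) (h : b ∈ K) : a ∈ K := e ▸ h

theorem splitSys_saturated {p : ℕ} [Fact p.Prime] {T : Subgroup Ω} [Finite T]
    (hT : IsPGroup p T) (C : Subgroup (MulAut T)) (hC : (Nat.card C).Coprime p) :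
    (splitSys T (Cfsg.Inn T ⊔ C) le_sup_left).IsSaturated p := by
  haveI : Finite (MulAut T) := finite_mulAut le_rfl
  haveI : Finite (T ⋊[C.subtype] C) :=
    Finite.of_equiv _ (SemidirectProduct.equivProd (φ := C.subtype)).symm
  let ι : T →* T ⋊[C.subtype] C := SemidirectProduct.inl
  have hact : ∀ (t : T) (c : C) (x : T),
      (⟨t, c⟩ : T ⋊[C.subtype] C) * ι x * (⟨t, c⟩ : T ⋊[C.subtype] C)⁻¹ =
        ι ((MulAut.conj t * (c : MulAut T)) x) := by
    intro t c x
    have h1 := SemidirectProduct.inl_aut (φ := C.subtype) c x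
    rw [SemidirectProduct.mk_eq_inl_mul_inr, mul_inv_rev, MulAut.mul_apply, MulAut.conj_apply,
      map_mul, map_mul, map_inv, show ι ((c : MulAut T) x) = _ from h1, map_inv]
    simp [ι, mul_assoc]
  have hmem : ∀ l : MulAut T, l ∈ Cfsg.Inn T ⊔ C ↔ ∃ t : T, ∃ c : C, MulAut.conj t * (c : MulAut T) = l := by
    intro l
    haveI : (Cfsg.Inn T).Normal := by
      refine ⟨?_⟩
      rintro _ ⟨t, rfl⟩ g
      exact ⟨g t, by ext x; simp⟩
    rw [Subgroup.mem_sup_of_normal_left]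
    constructor
    · rintro ⟨_, ⟨t, rfl⟩, c, hc, rfl⟩
      exact ⟨t, ⟨c, hc⟩, rfl⟩
    · rintro ⟨t, c, rfl⟩
      exact ⟨_, ⟨t, rfl⟩, c, c.2, rfl⟩
  have hreal : (splitSys T (Cfsg.Inn T ⊔ C) le_sup_left).IsRealizedBy ι := by
    refine ⟨SemidirectProduct.inl_injective, fun P hP φ hφ => ⟨?_, ?_⟩⟩
    · rintro ⟨-, l, hl, hle⟩
      obtain ⟨t, c, rfl⟩ := (hmem l).1 hl
      refine ⟨⟨t, c⟩, fun x => ?_⟩
      rw [hact]
      exact congrArg ι (Subtype.ext (hle x _))
    · rintro ⟨⟨t, c⟩, hg⟩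
      refine ⟨hP, _, (hmem _).2 ⟨t, c, rfl⟩, fun x hx => ?_⟩
      have h1 := hg x
      rw [hact] at h1
      exact congrArg Subtype.val (SemidirectProduct.inl_injective h1)
  have hidx : ι.range.index = Nat.card C := by
    rw [SemidirectProduct.range_inl_eq_ker_rightHom, Subgroup.index_ker,
      MonoidHom.range_eq_top.2 SemidirectProduct.rightHom_surjective, Subgroup.card_top]
  have hpr : IsPGroup p ι.range := hT.of_surjective ι.rangeRestrict ι.rangeRestrict_surjective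
  have hnd : ¬ p ∣ ι.range.index := by
    rw [hidx]
    exact ((Fact.out : p.Prime).coprime_iff_not_dvd).1 hC.symm
  exact IsRealizedBy.isSaturated hreal (hpr.toSylow hnd) rfl

/-- Let F be an extremely sparse fusion system over a finite p-group S (saturated, not the inner system, and every saturated fusion system over any subgroup T of S contained in F is F itself or the inner system of T). Then S is normal in F, the focal and hyperfocal subgroups of F are both S, and Aut_F(S) is generated by the inner automorphisms of S together with a single automorphism of prime order q ≠ p (F is the fusion system of the semidirect product of S by a cyclic group of prime order). -/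
theorem result {Ω : Type*} [Group Ω] {S : Subgroup Ω} [Finite S] (p : ℕ) [Fact p.Prime] (hS : IsPGroup p S) (F : Cfsg.FusionSystem S) (hF : F.IsSaturated p) (hxs : ¬ (∀ P : Subgroup Ω, F.Hom P = (Cfsg.innerFusionSystem S).Hom P) ∧ ∀ (T : Subgroup Ω) (E : Cfsg.FusionSystem T), E.IsSaturated p → E.IsSubsystemOf F → (T = S ∧ ∀ P : Subgroup Ω, E.Hom P = F.Hom P) ∨ (∀ P : Subgroup Ω, E.Hom P = (Cfsg.innerFusionSystem T).Hom P)) : F.IsNormal S ∧ F.focalSubgroup = S ∧ F.hyperfocalSubgroup p = S ∧ ∃ (q : ℕ) (β : MulAut ↥S), q.Prime ∧ q ≠ p ∧ β ∈ F.autGroup S ∧ orderOf β = q ∧ (F.autGroup S : Subgroup (MulAut ↥S)) = Cfsg.Inn ↥S ⊔ Subgroup.zpowers β := by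
  classical
  obtain ⟨hne, hsub⟩ := hxs
  have hfull : ∀ (T : Subgroup Ω) (hT : T ≤ S) (β : MulAut T), β ∈ F.autGroup T →
      (orderOf β).Coprime p → β ≠ 1 → T = S ∧ ∀ (P : Subgroup Ω) (φ : P →* Ω), φ ∈ F.Hom P →
        ∃ l ∈ Cfsg.Inn T ⊔ Subgroup.zpowers β, ∀ (x : P) (hx : (x : Ω) ∈ T),
          φ x = ((l ⟨x, hx⟩ : T) : Ω) := by
    intro T hT β hβ hc hb
    haveI := finite_of_le hT
    haveI : Finite (MulAut T) := finite_mulAut le_rfl
    have hTp := hS.to_le hT
    have hle : Cfsg.Inn T ⊔ Subgroup.zpowers β ≤ F.autGroup T := by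
      refine sup_le ?_ ((Subgroup.zpowers_le).2 hβ)
      rintro _ ⟨t, rfl⟩
      refine mem_autGroup_of_hom F ?_
      have e : autHom (MulAut.conj t) = conjHom T (t : Ω) := by
        ext x
        rfl
      rw [e]
      exact F.conj_mem hT (hT t.2)
    rcases hsub T (splitSys T (Cfsg.Inn T ⊔ Subgroup.zpowers β) le_sup_left)
        (splitSys_saturated hTp (Subgroup.zpowers β) (by rwa [Nat.card_zpowers]))
        (by
          rintro P φ ⟨hP, l, hl, hle'⟩
          have e : φ = restr hP (autHom l) := MonoidHom.ext fun x => hle' x (hP x.2)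
          rw [e]
          exact restr_mem F (autHom_mem F hT (hle hl)) hP) with ⟨hTS, heq⟩ | hin
    · exact ⟨hTS, fun P φ hφ => ((heq P).ge hφ).2⟩
    · exfalso
      have h1 : autHom β ∈ (splitSys T (Cfsg.Inn T ⊔ Subgroup.zpowers β) le_sup_left).Hom T :=
        ⟨le_rfl, β, Subgroup.mem_sup_right (Subgroup.mem_zpowers β), fun x hx => rfl⟩
      rw [hin T] at h1
      obtain ⟨-, g, hg, hge⟩ := h1
      have e : β = MulAut.conj (⟨g, hg⟩ : T) := MulEquiv.ext fun x => Subtype.ext (hge x)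
      obtain ⟨k, hk⟩ := hTp ⟨g, hg⟩
      have h2 : β ^ p ^ k = 1 := by rw [e, ← map_pow, hk, map_one]
      exact hb (orderOf_eq_one_iff.1 (Nat.eq_one_of_dvd_coprimes (hc.pow_right k) dvd_rfl
        (orderOf_dvd_of_pow_eq_one h2)))
  have hpg : ∀ T : Subgroup Ω, T ≤ S → (∀ β ∈ F.autGroup T, (orderOf β).Coprime p → β = 1) →
      IsPGroup p (F.autGroup T) := by
    intro T hT h g
    haveI := finite_mulAut hT
    obtain ⟨e, m, hm, hn⟩ := Nat.exists_eq_pow_mul_and_not_dvd (orderOf_pos (g : MulAut T)).ne' p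
      (Fact.out : p.Prime).ne_one
    refine ⟨e, Subtype.ext ?_⟩
    refine h _ (pow_mem g.2 _) (Nat.Coprime.coprime_dvd_left ?_
      (((Fact.out : p.Prime).coprime_iff_not_dvd).2 hm).symm)
    refine orderOf_dvd_of_pow_eq_one ?_
    rw [Subgroup.coe_pow, ← pow_mul, ← hn, pow_orderOf_eq_one]
  have hlow : ∀ (T : Subgroup Ω), T ≤ S → T ≠ S → ∀ β ∈ F.autGroup T,
      (orderOf β).Coprime p → β = 1 := fun T hT hTS β hβ hc => by
    by_contra hb
    exact hTS (hfull T hT β hβ hc hb).1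
  obtain ⟨β₀, hβ₀, hc₀, hb₀⟩ : ∃ β ∈ F.autGroup S, (orderOf β).Coprime p ∧ β ≠ 1 := by
    by_contra hcon
    push Not at hcon
    refine hne fun P => ?_
    rw [eq_inner_of_isPGroup hS hF fun R hR => ?_]
    have hRS : R ≤ S := by
      rcases hR with rfl | hR
      · exact le_rfl
      · exact hR.1.1
    refine hpg R hRS fun β hβ hc => ?_
    by_cases hRe : R = S
    · subst hRe
      exact hcon β hβ hc
    · exact hlow R hRS hRe β hβ hc
  haveI := finite_mulAut (le_refl S)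
  obtain ⟨q, hq, hqd⟩ := Nat.exists_prime_and_dvd (mt orderOf_eq_one_iff.1 hb₀)
  obtain ⟨m, hm⟩ := hqd
  have hqp : q.Coprime p := Nat.Coprime.coprime_dvd_left ⟨m, hm⟩ hc₀
  set β := β₀ ^ m with hβdef
  have hβ : β ∈ F.autGroup S := pow_mem hβ₀ m
  have hord : orderOf β = q := by
    have hm0 : m ≠ 0 := by
      rintro rfl
      simp at hm
      exact (orderOf_pos β₀).ne' (by simpa using hm)
    rw [hβdef, orderOf_pow_of_dvd hm0 (hm ▸ dvd_mul_left m q), hm,
      Nat.mul_div_left _ (Nat.pos_of_ne_zero hm0)]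
  have hb : β ≠ 1 := fun e => hq.ne_one (by rw [← hord, e, orderOf_one])
  have hmaps := (hfull S le_rfl β hβ (hord.symm ▸ hqp) hb).2
  have hinn : Cfsg.Inn S ⊔ Subgroup.zpowers β ≤ F.autGroup S := by
    refine sup_le ?_ ((Subgroup.zpowers_le).2 hβ)
    rintro _ ⟨t, rfl⟩
    refine mem_autGroup_of_hom F ?_
    have e : autHom (MulAut.conj t) = conjHom S (t : Ω) := by
      ext x
      rfl
    rw [e]
    exact F.conj_mem le_rfl t.2
  have hhyp : F.hyperfocalSubgroup p = S := by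
    set H := F.hyperfocalSubgroup p with hH
    have hHS : H ≤ S := hyperfocal_le F p
    by_contra hHne
    have hmove : ∀ x : S, (x : Ω)⁻¹ * ((β x : S) : Ω) ∈ H := by
      intro x
      obtain ⟨α, hα, e⟩ := mem_map_pResidual_of_coprime (p := p) _ hβ (hord.symm ▸ hqp)
      have h1 := hyperfocal_mem (F := F) le_rfl hα x
      rwa [show (α : MulAut S) = β from e] at h1
    haveI := finite_of_le hHS
    have hmaps' : ∀ x : S, (x : Ω) ∈ H → ((β x : S) : Ω) ∈ H := fun x hx =>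
      mem_eq' (mul_inv_cancel_left (x : Ω) _).symm (H.mul_mem hx (hmove x))
    let ψ : H →* Ω := restr hHS (autHom β)
    have hψ : ψ ∈ F.Hom H := restr_mem F (autHom_mem F le_rfl hβ) hHS
    have hr : ψ.range = H := by
      refine Subgroup.eq_of_le_of_card_ge ?_ (card_range_eq (F.injective_of_mem hψ)).ge
      rintro _ ⟨x, rfl⟩
      exact hmaps' _ x.2
    let γ : MulAut H := isoOf ψ (F.injective_of_mem hψ) hr
    have hγ : γ ∈ F.autGroup H := mem_autGroup_of_hom F (by
      have e : autHom γ = ψ := MonoidHom.ext fun x => rfl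
      rw [e]
      exact hψ)
    have hpow : ∀ (n : ℕ) (x : H), ((γ ^ n) x : Ω) = (((β ^ n) ⟨x, hHS x.2⟩ : S) : Ω) := by
      intro n
      induction n with
      | zero => intro x; rfl
      | succ n ih =>
        intro x
        rw [pow_succ, pow_succ, MulAut.mul_apply, MulAut.mul_apply, ih (γ x)]
        rfl
    have hγ1 : γ = 1 := hlow H hHS hHne γ hγ (hqp.coprime_dvd_left (orderOf_dvd_of_pow_eq_one (by
      refine MulEquiv.ext fun x => Subtype.ext ?_
      rw [hpow, ← hord, pow_orderOf_eq_one]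
      rfl)))
    refine hb (MulEquiv.ext fun x => ?_)
    have hfix : β (x⁻¹ * β x) = x⁻¹ * β x := by
      have h1 := hpow 1 ⟨_, hmove x⟩
      rw [hγ1, pow_one, pow_one] at h1
      exact Subtype.ext h1.symm
    have hn : ∀ n : ℕ, (β ^ n) x = x * (x⁻¹ * β x) ^ n := by
      intro n
      induction n with
      | zero => simp
      | succ n ih =>
        rw [pow_succ', MulAut.mul_apply, ih, map_mul, map_pow, hfix, pow_succ', ← mul_assoc x, mul_inv_cancel_left]
    have h2 := hn q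
    rw [← hord, pow_orderOf_eq_one, MulAut.one_apply, hord, left_eq_mul] at h2
    obtain ⟨k, hk⟩ := hS (x⁻¹ * β x)
    have h3 : x⁻¹ * β x = 1 := orderOf_eq_one_iff.1 (Nat.eq_one_of_dvd_coprimes (hqp.pow_right k)
      (orderOf_dvd_of_pow_eq_one h2) (orderOf_dvd_of_pow_eq_one hk))
    rw [inv_mul_eq_one] at h3
    exact h3.symm
  refine ⟨⟨le_rfl, fun P φ hφ => ?_⟩, ?_, hhyp, q, β, hq, ?_, hβ, hord, le_antisymm ?_ hinn⟩
  · obtain ⟨l, hl, hle⟩ := hmaps P φ hφ
    have hPS := source_le hφ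
    refine ⟨restr (sup_le hPS le_rfl) (autHom l),
      restr_mem F (autHom_mem F le_rfl (hinn hl)) _, fun x => (hle x (hPS x.2)).symm, ?_⟩
    refine le_antisymm ?_ fun y hy => ?_
    · rintro _ ⟨x, -, rfl⟩
      exact (l _).2
    · exact ⟨⟨(l.symm ⟨y, hy⟩ : S), Subgroup.mem_sup_right (l.symm ⟨y, hy⟩).2⟩, (l.symm ⟨y, hy⟩).2,
        congrArg Subtype.val (l.apply_symm_apply ⟨y, hy⟩)⟩
  · refine le_antisymm ((Subgroup.closure_le _).2 ?_) (hhyp.symm.le.trans (hyperfocal_le_focal F p))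
    rintro _ ⟨P, φ, x, hφ, rfl⟩
    exact S.mul_mem (S.inv_mem (source_le hφ x.2)) (apply_mem hφ x)
  · rintro rfl
    exact hq.ne_one ((Nat.coprime_self q).1 hqp)
  · intro α hα
    obtain ⟨l, hl, hle⟩ := hmaps S (autHom α) (autHom_mem F le_rfl hα)
    rwa [show α = l from MulEquiv.ext fun x => Subtype.ext (hle x x.2)]

end Cfsg.Agent.S5245
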