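import Cfsg.Statements.S5249
import Cfsg.Agent.Lib.PLocal.ZJFusion
import Cfsg.Agent.Lib.PLocal.QdFree
import Cfsg.Agent.Lib.PLocal.Dickson
import Cfsg.Agent.Lib.PLocal.FusionNpcZJ
import Cfsg.Agent.Lib.Fusion.Quotient

set_option autoImplicit false
open Cfsg Cfsg.FusionSystem Cfsg.Agent.Lib.Fusion

namespace Cfsg.Agent.S5249

open Cfsg.Agent.Lib.PLocal.FusionNpc (map_centerThompsonAOf isNpcFamily_zjRel)

universe u

theorem aux {G : Type u} [Group G] [Finite G] {p : ℕ} [Fact p.Prime] (hp : p ≠ 2) (hqd : ¬ Cfsg.Involves ↥(Cfsg.qd p) G) (P : Sylow p G) : (Cfsg.groupFusionSystem (P : Subgroup G)).IsSolvableSystem := by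
  intro R hR hRne inst E hE hcore
  set F := Cfsg.groupFusionSystem (P : Subgroup G) with hFdef
  obtain ⟨-, hker, hr, hiff⟩ := id hE
  set Ω' := ↥(P : Subgroup G) ⧸ R.subgroupOf (P : Subgroup G)
  set θ : ↥(P : Subgroup G) →* Ω' := QuotientGroup.mk' (R.subgroupOf (P : Subgroup G))
  -- the normalizer of `R` and its quotient
  set H := Subgroup.normalizer (R : Set G) with hHdef
  have hPH : (P : Subgroup G) ≤ H :=
    WeaklyClosed.le_normalizer (StronglyClosed.weaklyClosed hR)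
  have : (R.subgroupOf H).Normal := subgroupOf_normal_of_le le_rfl
  set Y := ↥H ⧸ R.subgroupOf H
  let q : ↥H →* Y := QuotientGroup.mk' (R.subgroupOf H)
  let T : Sylow p Y := (P.subtype hPH).mapSurjective (QuotientGroup.mk'_surjective _)
  let j : Ω' →* Y := QuotientGroup.lift (R.subgroupOf (P : Subgroup G))
    (q.comp (Subgroup.inclusion hPH)) (fun x hx => (QuotientGroup.eq_one_iff _).2 hx)
  have hjθ : ∀ x, j (θ x) = q (Subgroup.inclusion hPH x) := fun x => rfl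
  have hj : Function.Injective j := by
    refine (injective_iff_map_eq_one j).2 fun y hy => ?_
    obtain ⟨x, rfl⟩ := QuotientGroup.mk'_surjective _ y
    exact (QuotientGroup.eq_one_iff x).2 ((QuotientGroup.eq_one_iff (Subgroup.inclusion hPH x)).1 hy)
  have hjr : j.range = (T : Subgroup Y) := by
    rw [Sylow.coe_mapSurjective, Sylow.coe_subtype]
    ext y
    constructor
    · rintro ⟨w, rfl⟩
      obtain ⟨x, rfl⟩ := QuotientGroup.mk'_surjective _ w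
      exact ⟨Subgroup.inclusion hPH x, x.2, rfl⟩
    · rintro ⟨h, hh, rfl⟩
      exact ⟨θ ⟨h, hh⟩, rfl⟩
  -- control in the quotient
  have hY : Cfsg.Involves Y G := Lib.FusionControl.involves_section
  have hctl := Lib.PLocal.family_zjA hp (fun Z _ _ hZ =>
    Lib.PLocal.isNormalizerPStable_of_involved Lib.PLocal.dicksonTwo hp hqd hZ) Y hY
  -- the candidate
  set W : Subgroup Ω' := Cfsg.centerThompsonAOf ⊤
  have hWmap : W.map j = Cfsg.centerThompsonAOf (T : Subgroup Y) := by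
    rw [map_centerThompsonAOf j hj, ← hjr, MonoidHom.range_eq_map]
  have hΩp : IsPGroup p Ω' := P.2.to_quotient _
  have hW1 : W ≠ ⊥ := by
    refine (isNpcFamily_zjRel (p := p) hp).ne_bot () Ω' ⊤ hΩp inferInstance fun h => hRne ?_
    refine le_antisymm hR.1 fun x hx => ?_
    have h1 : θ ⟨x, hx⟩ = 1 := Subgroup.mem_bot.1 (h ▸ Subgroup.mem_top _)
    exact (hker ⟨x, hx⟩).1 h1
  refine hW1 (le_bot_iff.1 (hcore ▸ le_core (F := E) ⟨le_top, fun X φ' hφ' => ?_⟩))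
  -- every map normalizes it
  obtain ⟨hX, φ, hφ, hind⟩ := (hiff X φ').1 hφ'
  obtain ⟨hP0, hφS, hm, hind⟩ := hind
  obtain ⟨-, -, g, hg⟩ := id hφ
  have hRX : R ≤ preimageAlong θ X := kernel_le_preimage hker hR.1 X
  have hgR : g ∈ H := mem_normalizer_of_finite fun y hy => by
    have h1 := (WeaklyClosed.img_eq (StronglyClosed.weaklyClosed hR) hφ hRX).le
      ⟨⟨y, hRX hy⟩, hy, rfl⟩
    rwa [hg] at h1
  -- conjugation in the quotient
  have hstep : ∀ x : ↥(P : Subgroup G), θ x ∈ X →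
      ∃ hx : (x : G) ∈ preimageAlong θ X,
        j (θ ⟨φ ⟨x, hx⟩, hφS _⟩) = q ⟨g, hgR⟩ * j (θ x) * (q ⟨g, hgR⟩)⁻¹ := by
    intro x hx
    refine ⟨(mem_preimage_iff x).2 hx, ?_⟩
    rw [hjθ, hjθ, ← map_inv, ← map_mul, ← map_mul]
    exact congrArg q (Subtype.ext (hg _))
  obtain ⟨m, hm', hme⟩ : ∃ m ∈ Subgroup.normalizer ((W.map j : Subgroup Y) : Set Y),
      ∀ a ∈ X.map j, q ⟨g, hgR⟩ * a * (q ⟨g, hgR⟩)⁻¹ = m * a * m⁻¹ := by
    have h1 := Lib.PLocal.controls_of_family Lib.PLocal.isCharPFunctor_zjA hctl T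
      ((X.map j : Subgroup Y) : Set Y) (fun y hy => hjr ▸ Subgroup.map_le_range j X hy)
    obtain ⟨x, hx, hxe⟩ := h1.2 (q ⟨g, hgR⟩) (by
      rintro _ ⟨_, ⟨w, hw, rfl⟩, rfl⟩
      obtain ⟨x, rfl⟩ := hr.ge (Subgroup.mem_top w)
      obtain ⟨hx, hxe⟩ := hstep x hw
      show q ⟨g, hgR⟩ * j (θ x) * (q ⟨g, hgR⟩)⁻¹ ∈ (T : Subgroup Y)
      rw [← hxe, ← hjr]
      exact ⟨_, rfl⟩)
    rw [Lib.PLocal.inducedFunctor_zjA, ← hWmap] at hx
    exact ⟨x, hx, fun a ha => hxe a ha⟩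
  obtain ⟨h, rfl⟩ := QuotientGroup.mk'_surjective _ m
  -- the extension
  have hconj : ∀ w ∈ X ⊔ W, q h * j w * (q h)⁻¹ ∈ j.range := by
    have hle : (X ⊔ W).map j ≤ j.range.comap (MulAut.conj (q h)).toMonoidHom := by
      rw [Subgroup.map_sup]
      refine sup_le ?_ ?_
      · rintro _ ⟨w, hw, rfl⟩
        obtain ⟨x, rfl⟩ := hr.ge (Subgroup.mem_top w)
        obtain ⟨hx, hxe⟩ := hstep x hw
        exact ⟨_, hxe.trans (hme _ ⟨_, hw, rfl⟩)⟩
      · rintro y hy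
        exact Subgroup.map_le_range j W (conj_mem_of_mem_normalizer hm' hy)
    exact fun w hw => hle ⟨w, hw, rfl⟩
  have hsrc : preimageAlong θ (X ⊔ W) ≤ (P : Subgroup G) := preimage_le θ _
  have hin : ∀ x : preimageAlong θ (X ⊔ W), (h : G) * (x : G) * (h : G)⁻¹ ∈ (P : Subgroup G) := by
    intro x
    obtain ⟨w, hw⟩ := hconj _ ((mem_preimage_iff (θ := θ) ⟨x, hsrc x.2⟩).1 x.2)
    obtain ⟨y, rfl⟩ := hr.ge (Subgroup.mem_top w)
    rw [hjθ, hjθ, ← map_inv, ← map_mul, ← map_mul] at hw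
    have h1 : ((Subgroup.inclusion hPH y : ↥H) : G)⁻¹ * ((h : G) * (x : G) * (h : G)⁻¹) ∈ R :=
      Subgroup.mem_subgroupOf.1 (QuotientGroup.eq.1 hw)
    have h2 := mul_mem (show ((Subgroup.inclusion hPH y : ↥H) : G) ∈ (P : Subgroup G) from y.2)
      (hR.1 h1)
    rwa [mul_inv_cancel_left] at h2
  let ψ₀ : ↥(preimageAlong θ (X ⊔ W)) →* G :=
    (MulAut.conj (h : G)).toMonoidHom.comp (preimageAlong θ (X ⊔ W)).subtype
  have hψ₀ : ψ₀ ∈ F.Hom _ := ⟨hsrc, hin, h, fun x => rfl⟩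
  obtain ⟨ψ, hψ⟩ : ∃ ψ : ↥(X ⊔ W) →* Ω', InducedAlong θ ψ₀ ψ := by
    have := exists_induced hker hR hψ₀
    rwa [imageAlong_preimage hr le_top] at this
  refine ⟨ψ, (hiff _ ψ).2 ⟨le_top, ψ₀, hψ₀, hψ⟩, ?_⟩
  obtain ⟨hP1, hψS, hm1, hψe⟩ := hψ
  have key : ∀ w : ↥(X ⊔ W), j (ψ w) = q h * j w * (q h)⁻¹ := by
    intro w
    obtain ⟨x, hx⟩ := hr.ge (Subgroup.mem_top (w : Ω'))
    have hxX : (x : G) ∈ preimageAlong θ (X ⊔ W) := (mem_preimage_iff x).2 (hx ▸ w.2)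
    rw [show w = ⟨θ ⟨x, hP1 hxX⟩, hm1 ⟨x, hxX⟩⟩ from Subtype.ext hx.symm, hψe ⟨x, hxX⟩]
    show j (θ _) = q h * j (θ x) * (q h)⁻¹
    rw [hjθ, hjθ, ← map_inv, ← map_mul, ← map_mul]
    rfl
  refine ⟨fun w => hj ?_, le_antisymm ?_ fun w hw => ?_⟩
  · rw [key]
    obtain ⟨x, hx⟩ := hr.ge (Subgroup.mem_top (w : Ω'))
    have hxX : θ x ∈ X := hx ▸ w.2
    obtain ⟨hx', hxe⟩ := hstep x hxX
    have hw : w = ⟨θ ⟨x, hP0 hx'⟩, hm ⟨x, hx'⟩⟩ := Subtype.ext hx.symm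
    rw [Subgroup.coe_inclusion, ← hme _ ⟨_, w.2, rfl⟩, hw, hind ⟨x, hx'⟩]
    exact hxe.symm
  · rintro _ ⟨w, hw, rfl⟩
    obtain ⟨z, hz, hze⟩ := conj_mem_of_mem_normalizer hm' (⟨_, hw, rfl⟩ : j w ∈ W.map j)
    rw [hj ((key w).trans hze.symm)]
    exact hz
  · obtain ⟨z, hz, hze⟩ := (mem_normalizer_iff'.1 hm').2 _ (⟨w, hw, rfl⟩ : j w ∈ W.map j)
    refine ⟨⟨z, Subgroup.mem_sup_right hz⟩, hz, hj ?_⟩
    rw [key]
    show q h * j z * (q h)⁻¹ = j w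
    rw [hze]
    show q h * ((q h)⁻¹ * j w * q h) * (q h)⁻¹ = j w
    group

/-- Let p be an odd prime, G a finite group in which Qd(p) (the natural semidirect product of an elementary abelian group of order p² by SL₂(p)) is not involved, and P a Sylow p-subgroup of G. Then the fusion system of G on P is a solvable fusion system. -/
theorem result {G : Type*} [Group G] [Finite G] {p : ℕ} [Fact p.Prime] (hp : p ≠ 2) (hqd : ¬ Cfsg.Involves ↥(Cfsg.qd p) G) (P : Sylow p G) : (Cfsg.groupFusionSystem (P : Subgroup G)).IsSolvableSystem :=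
  aux hp hqd P

end Cfsg.Agent.S5249
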