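import Cfsg.Statements.S5251
import Cfsg.Agent.Lib.Cores.PCore
import Cfsg.Agent.Lib.Fusion.NormalCriteria
import Cfsg.Agent.Lib.Fusion.Saturation
import Cfsg.Agent.Lib.Fusion.Axioms
import Cfsg.Agent.Lib.Fusion.Essential

set_option autoImplicit false
open Cfsg Cfsg.FusionSystem Cfsg.Agent.Lib.Fusion

namespace Cfsg.Agent.S5251

/-- Let F be a saturated fusion system over a finite p-group S, E a normal subsystem of F over T, and P an F-centric subgroup of S such that P ∩ T is not E-centric. Then some F-conjugate P* of P satisfies Out_S(P*) ∩ O_p(Out_F(P*)) ≠ 1: there is an element of N_S(P*) outside P* whose conjugation action on P* lies in O_p(Aut_F(P*)). In particular P is not both centric and radical in F. -/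
theorem result {Ω : Type*} [Group Ω] {S : Subgroup Ω} [Finite S] (p : ℕ) [Fact p.Prime] (hS : IsPGroup p S) (F : Cfsg.FusionSystem S) (hF : F.IsSaturated p) {T : Subgroup Ω} (E : Cfsg.FusionSystem T) (hE : E.IsNormalIn F p) (P : Subgroup Ω) (hP : F.IsCentric P) (hPT : ¬ E.IsCentric (P ⊓ T)) : (∃ φ ∈ F.Hom P, ∃ x ∈ S ⊓ Subgroup.normalizer (φ.range : Set Ω), x ∉ φ.range ∧ ∃ α ∈ ((Cfsg.pCore p ↥(F.autGroup φ.range)).map (F.autGroup φ.range).subtype : Subgroup (MulAut ↥φ.range)), ∀ y : ↥φ.range, ((α y : ↥φ.range) : Ω) = x * (y : Ω) * x⁻¹) ∧ ¬ F.IsRadical p P := by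
  classical
  have hTsc : F.StronglyClosed T := hE.1.2.2.2.1
  have hTn : S ≤ Subgroup.normalizer (T : Set Ω) :=
    WeaklyClosed.le_normalizer (StronglyClosed.weaklyClosed hTsc)
  have hPS := hP.1
  set Q := P ⊓ T with hQdef
  have hQS : Q ≤ S := inf_le_left.trans hPS
  obtain ⟨Q₀, hQQ₀, hQ₀⟩ := exists_fullyNormalized F hQS
  obtain ⟨ψ, hψ, hψN, hψQ⟩ := IsSaturated.exists_normalizer_map hS hF hQ₀ hQQ₀
  have hPN : P ≤ normalizerIn S Q := fun g hg => ⟨hPS hg, mem_normalizer_iff'.2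
    ⟨fun x hx => ⟨P.mul_mem (P.mul_mem hg hx.1) (P.inv_mem hg),
        conj_mem_of_mem_normalizer (hTn (hPS hg)) hx.2⟩,
      fun x hx => ⟨P.mul_mem (P.mul_mem (P.inv_mem hg) hx.1) hg,
        (mem_normalizer_iff'.1 (hTn (hPS hg))).2 x hx.2⟩⟩⟩
  set φ := restr hPN ψ with hφdef
  have hφ : φ ∈ F.Hom P := restr_mem F hψ hPN
  have hback : φ.range ⊓ T = Q₀ := by
    obtain ⟨χ, hχ, hχr, hl, -⟩ := exists_inv F hφ rfl
    rw [← hψQ]
    ext y
    constructor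
    · rintro ⟨⟨x, rfl⟩, hyT⟩
      refine mem_img.2 ⟨x, hPN x.2, ⟨x.2, ?_⟩, rfl⟩
      have h1 := hTsc.2 (φ.range ⊓ T) inf_le_right _ (restr_mem F hχ inf_le_left) ⟨φ x, ⟨⟨x, rfl⟩, hyT⟩⟩
      exact Eq.mp (congrArg (· ∈ T) (hl x ⟨x, rfl⟩)) h1
    · intro hy
      obtain ⟨x, hxN, hxQ, rfl⟩ := mem_img.1 hy
      exact ⟨⟨⟨x, hxQ.1⟩, rfl⟩,
        hTsc.2 Q inf_le_right _ (restr_mem F hψ (le_normalizerIn hQS)) ⟨x, hxQ⟩⟩
  have hQ₀T : Q₀ ≤ T := hback ▸ inf_le_right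
  have hQ₀S := hQ₀.1
  have hcen : ¬ centralizerIn T Q₀ ≤ Q₀ := by
    intro hle
    refine hPT ⟨inf_le_right, fun Q' hQ' c hc => ?_⟩
    obtain ⟨η, hη, hηr⟩ := hQ'
    have hQQ' : F.IsConj Q Q' := ⟨η, hE.1.2.2.1 _ hη, hηr⟩
    obtain ⟨ζ, hζ, hζr⟩ := isConj_trans (isConj_symm hQQ') hQQ₀
    have hQ'S := source_le hζ
    obtain ⟨χ, hχ, hext, -⟩ :=
      IsReceptive.extend (IsSaturated.automized_receptive hS hF hQ₀).2 hζ hζr
    have hcS : c ∈ S := source_le (hE.1.2.2.1 _ (subtype_mem E le_rfl)) hc.1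
    have hce : c ∈ extender S Q' ζ :=
      centralizerIn_le_extender ζ ⟨hcS, hc.2⟩
    have hQ'e : Q' ≤ extender S Q' ζ := le_extender hQ'S (apply_mem hζ)
    have hcz : Subgroup.zpowers c ≤ T := Subgroup.zpowers_le.2 hc.1
    have hcT : χ ⟨c, hce⟩ ∈ T :=
      hTsc.2 _ hcz _ (restr_mem F hχ (Subgroup.zpowers_le.2 hce)) ⟨c, Subgroup.mem_zpowers c⟩
    have hcQ₀ : χ ⟨c, hce⟩ ∈ Q₀ := by
      refine hle ⟨hcT, fun y hy => ?_⟩
      have hy' : y ∈ ζ.range := hζr.symm ▸ hy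
      obtain ⟨x, rfl⟩ := hy'
      rw [← hext x x.2 (hQ'e x.2), ← map_mul, ← map_mul]
      exact congrArg χ (Subtype.ext (hc.2 x x.2))
    have hc' : χ ⟨c, hce⟩ ∈ ζ.range := hζr.symm ▸ hcQ₀
    obtain ⟨x, hx⟩ := hc'
    rw [← hext x x.2 (hQ'e x.2)] at hx
    have hxc : (x : Ω) = c := congrArg Subtype.val (F.injective_of_mem hχ hx)
    exact hxc ▸ x.2
  set P₁ := φ.range with hP₁def
  have hP₁S : P₁ ≤ S := range_le hφ
  have hP₁c : F.IsCentric P₁ := isCentric_of_isConj hP ⟨φ, hφ, rfl⟩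
  have hCS : centralizerIn T Q₀ ≤ S := fun c hc => hTsc.1 hc.1
  obtain ⟨x, hx, hxP⟩ : ∃ x ∈ normalizerIn (centralizerIn T Q₀) P₁, x ∉ P₁ := by
    by_contra hcon
    push Not at hcon
    refine hcen fun c hc => ?_
    rw [← hback]
    refine ⟨le_of_normalizer_le hS hP₁S hCS ?_ hcon hc, hc.1⟩
    intro g hg
    haveI := finite_of_le hCS
    refine mem_normalizer_of_finite fun c hc => mem_centralizerIn.2
      ⟨conj_mem_of_mem_normalizer (hTn (hP₁S hg)) hc.1, fun y hy => ?_⟩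
    have hy' : g⁻¹ * y * g ∈ Q₀ := by
      rw [← hback] at hy ⊢
      exact ⟨P₁.mul_mem (P₁.mul_mem (P₁.inv_mem hg) hy.1) hg,
        (mem_normalizer_iff'.1 (hTn (hP₁S hg))).2 y hy.2⟩
    calc y * (g * c * g⁻¹) = g * (g⁻¹ * y * g * c) * g⁻¹ := by group
      _ = g * (c * (g⁻¹ * y * g)) * g⁻¹ := by rw [(mem_centralizerIn.1 hc).2 _ hy']
      _ = g * c * g⁻¹ * y := by group
  obtain ⟨hxC, hxN⟩ := hx
  have hxS : x ∈ S := hCS hxC
  haveI := finite_of_le hP₁S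
  haveI := finite_mulAut hP₁S
  have hmem : conjAut hxN ∈ (pCore p ↥(F.autGroup P₁)).map (F.autGroup P₁).subtype := by
    refine stab_mem_pCore (hS.to_le hP₁S) _
      (fun i => if i = 0 then ⊥ else if i = 1 then Q₀.subgroupOf P₁ else ⊤) 2 rfl rfl ?_
      (conjAut_mem_autGroup F hP₁S hxS hxN) ?_
    · intro α hα i y hy
      rcases i with _ | _ | i
      · simp only [↓reduceIte, Subgroup.mem_bot] at hy ⊢
        rw [hy, map_one]
      · simp only [↓reduceIte, Nat.one_ne_zero, Subgroup.mem_subgroupOf] at hy ⊢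
        rw [← hback] at hy ⊢
        exact ⟨(α y).2, hTsc.2 (P₁ ⊓ T) inf_le_right _
          (restr_mem F (autHom_mem F hP₁S hα) inf_le_left) ⟨y, hy⟩⟩
      · simp
    · intro i hi y hy
      rcases i with _ | _ | i
      · simp only [↓reduceIte, Nat.zero_add, Nat.one_ne_zero, Subgroup.mem_subgroupOf,
          Subgroup.mem_bot] at hy ⊢
        refine inv_mul_eq_one.2 (Subtype.ext ?_)
        show (y : Ω) = x * y * x⁻¹
        rw [← (mem_centralizerIn.1 hxC).2 y hy, mul_inv_cancel_right]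
      · simp only [↓reduceIte, Nat.one_ne_zero, Subgroup.mem_subgroupOf]
        rw [← hback]
        refine ⟨(y⁻¹ * conjAut hxN y).2, ?_⟩
        show (y : Ω)⁻¹ * (x * y * x⁻¹) ∈ T
        have h2 := T.mul_mem
          ((mem_normalizer_iff'.1 (hTn (hP₁S y.2))).2 x hxC.1) (T.inv_mem hxC.1)
        convert h2 using 1
        group
      · omega
  refine ⟨⟨φ, hφ, x, ⟨hxS, hxN⟩, hxP, conjAut hxN, hmem, fun y => rfl⟩, fun hr => hxP ?_⟩
  refine mem_of_conjAut_inn hP₁c (⟨hxS, hxN⟩ : x ∈ normalizerIn S P₁) ?_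
  haveI := finite_of_le hPS
  haveI := finite_mulAut hPS
  obtain ⟨⟨α, hα⟩, hαc, e⟩ := hmem
  let j := isoOf φ (F.injective_of_mem hφ) rfl
  let A := F.autGroup P
  let B := F.autGroup P₁
  have hmap : A.map (MulAut.congr j).toMonoidHom = B :=
    map_congr_autGroup F hφ rfl
  let c : A ≃* B := ((MulAut.congr j).subgroupMap A).trans (MulEquiv.subgroupCongr hmap)
  have h1 : (⟨α, hα⟩ : B) ∈ (pCore p A).map c.toMonoidHom := by
    rw [Cfsg.Agent.Lib.Cores.map_pCore_equiv c]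
    exact hαc
  obtain ⟨a, ha, hae⟩ := h1
  have h2 : (a : MulAut P) ∈ Inn P := by
    rw [← hr.2]
    exact ⟨a, ha, rfl⟩
  obtain ⟨u, hu⟩ := h2
  have h3 : conjAut hxN = MulAut.congr j (a : MulAut P) := by
    rw [← e, ← hae]
    rfl
  rw [h3, ← hu]
  refine ⟨j u, ?_⟩
  ext z
  simp [MulAut.congr, mul_assoc]

end Cfsg.Agent.S5251
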