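import Cfsg.Statements.S5253
import Cfsg.Agent.Lib.Fusion.CenterPowFunctor
import Cfsg.Agent.Lib.Fusion.QuadCenter

set_option autoImplicit false
universe u
open Cfsg Cfsg.FusionSystem Cfsg.Agent.Lib.Fusion

namespace Cfsg.Agent.S5253

/-- Let p be a prime and W a positive characteristic p-functor with Z(Q) ≤ W(Q): W assigns to every finite p-group Q (in a fixed universe) a subgroup W(Q), nontrivial when Q is, carried to W(R) by every isomorphism Q ≅ R, and containing the centre of Q. Suppose that for every finite group G with Sylow p-subgroup P in which W(P) is not normal there is g ∈ P outside O_p(G) with [Z(O_p(G)), g, g] = 1. Then for every saturated fusion system F over a finite p-group S and every normalizer fusion system N of W(S) in F, every p-th power of an element of Z(S) that lies in the centre of N lies in the centre of F. -/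
theorem result {p : ℕ} [Fact p.Prime] (W : ∀ (Q : Type u) [Group Q], Subgroup Q) (hW1 : ∀ (Q : Type u) [Group Q] [Finite Q], IsPGroup p Q → Nontrivial Q → W Q ≠ ⊥) (hW2 : ∀ (Q R : Type u) [Group Q] [Group R] [Finite Q], IsPGroup p Q → ∀ φ : Q ≃* R, (W Q).map φ.toMonoidHom = W R) (hWZ : ∀ (Q : Type u) [Group Q] [Finite Q], IsPGroup p Q → Subgroup.center Q ≤ W Q) (hq : ∀ (G : Type u) [Group G] [Finite G] (P : Sylow p G), ¬ (((W ↥(P : Subgroup G)).map (P : Subgroup G).subtype : Subgroup G)).Normal → ∃ g : G, g ∈ (P : Subgroup G) ∧ g ∉ Cfsg.pCore p G ∧ ⁅⁅Subgroup.center ↥(Cfsg.pCore p G) |>.map (Cfsg.pCore p G).subtype, Subgroup.zpowers g⁆, Subgroup.zpowers g⁆ = ⊥) {Ω : Type u} [Group Ω] {S : Subgroup Ω} [Finite S] (hS : IsPGroup p S) (F : Cfsg.FusionSystem S) (hF : F.IsSaturated p) (N : Cfsg.FusionSystem (Cfsg.FusionSystem.normalizerIn S ((W ↥S).map S.subtype))) (hN : F.IsNormalizerSystem ((W ↥S).map S.subtype) N) : Subgroup.closure ((fun z => z ^ p) '' ((S ⊓ Subgroup.centralizer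 (S : Set Ω) : Subgroup Ω) : Set Ω)) ⊓ N.center ≤ F.center := by
  have hWc : Cfsg.IsCharPFunctor.{u} p W := ⟨hW1, hW2⟩
  have hW : IsPowCenterFunctor p W := by
    refine ⟨⟨hW1, hW2⟩, fun G _ _ P x hx hz hxN => ?_⟩
    obtain ⟨z, hz, rfl⟩ := hz
    obtain ⟨y, hy, hye⟩ := hxN
    have h1 := pow_center_control hWc hq _ G rfl P z hz hx fun g hg =>
      Subgroup.mem_centralizer_singleton_iff.2 ?_
    · exact Subgroup.mem_center_iff.2 fun g =>
        Subgroup.mem_centralizer_singleton_iff.1 (h1 ▸ Subgroup.mem_top g)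
    · rw [← hye]
      exact congrArg Subtype.val (Subgroup.mem_center_iff.1 hy ⟨g, hg⟩)
  have hVS : ((W ↥S).map S.subtype) ≤ S := Subgroup.map_subtype_le _
  have hnb : S ≤ Subgroup.normalizer ((⊥ : Subgroup Ω) : Set Ω) := fun x _ =>
    mem_normalizer_of_finite fun y hy => by
      rw [Subgroup.mem_bot.1 hy]
      simp
  have hnV : S ≤ Subgroup.normalizer (((W ↥S).map S.subtype) : Set Ω) := fun g hg => by
    rw [← relFunctor_bot hW.toIsPFunctor S hS]
    exact normalizer_le_relFunctor hW.toIsPFunctor hS hnb ⟨Subgroup.le_normalizer hg, hnb hg⟩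
  have hT : normalizerIn S ((W ↥S).map S.subtype) = S := le_antisymm (normalizerIn_le S ((W ↥S).map S.subtype)) fun g hg => ⟨hg, hnV hg⟩
  have : Finite (normalizerIn S ((W ↥S).map S.subtype)) := finite_of_le (normalizerIn_le S ((W ↥S).map S.subtype))
  set Z := Subgroup.closure ((fun z => z ^ p) '' ((S ⊓ Subgroup.centralizer (S : Set Ω) : Subgroup Ω) : Set Ω)) ⊓ N.center
  have hNc := isCentral_center N
  have hZS : Z ≤ S := inf_le_right.trans (hNc.1.trans (normalizerIn_le S ((W ↥S).map S.subtype)))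
  -- every element is a power of a central element
  have hpow : ∀ z ∈ Z, IsPowCentral p S z := by
    intro z hz
    refine Subgroup.closure_induction (p := fun y _ => IsPowCentral p S y) ?_ ?_ ?_ ?_ hz.1
    · rintro _ ⟨w, hw, rfl⟩
      exact ⟨w, mem_centralizerIn.2 ⟨hw.1, hw.2⟩, rfl⟩
    · exact ⟨1, one_mem _, one_pow p⟩
    · rintro _ _ _ _ ⟨a, ha, rfl⟩ ⟨b, hb, rfl⟩
      exact ⟨a * b, mul_mem ha hb, Commute.mul_pow ((mem_centralizerIn.1 hb).2 a ha.1) p⟩
    · rintro _ _ ⟨a, ha, rfl⟩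
      exact ⟨a⁻¹, inv_mem ha, inv_pow a p⟩
  have hfix : ∀ z ∈ Z, ∀ (X : Subgroup Ω) (φ : X →* Ω), φ ∈ N.Hom X → FixesElt z φ := by
    intro z hz X φ hφ x
    obtain ⟨ψ, hψ, hext, hf⟩ := hNc.2 X φ hφ
    rw [← hext x]
    constructor
    · intro hx
      rw [show Subgroup.inclusion le_sup_left x = Subgroup.inclusion le_sup_right (⟨z, hz.2⟩ : N.center) from
        Subtype.ext hx]
      exact hf ⟨z, hz.2⟩
    · intro hx
      exact congrArg Subtype.val (N.injective_of_mem hψ (hx.trans (hf ⟨z, hz.2⟩).symm))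
  have hZc : ∀ z ∈ Z, z ∈ centralizerIn S S := fun z hz => (hpow z hz).central
  have hall : ∀ z ∈ Z, ∀ (X : Subgroup Ω) (φ : X →* Ω), φ ∈ F.Hom X → FixesElt z φ := by
    intro z hz
    have hbot : IsPGroup p (F.autGroup (⊥ : Subgroup Ω)) := by
      intro α
      refine ⟨0, Subtype.ext (MulEquiv.ext fun y => ?_)⟩
      exact Subsingleton.elim _ _
    refine pow_ctrl_all hW hS hF (isNormal_bot F) hbot z (hpow z hz) fun X φ hφ => ?_
    rw [relFunctor_bot hW.toIsPFunctor S hS, ← hN X] at hφ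
    exact hfix z hz X φ hφ
  have hC' : centralizerIn S Z = S := le_antisymm (centralizerIn_le S Z) fun s hs =>
    mem_centralizerIn.2 ⟨hs, fun z hz => ((mem_centralizerIn.1 (hZc z hz)).2 s hs).symm⟩
  let E := recast (centralizerSystem F Z hZS) hC'
  have hle : F ≤ E := alperin hS hF E fun P hP α hα => by
    have hPS : P ≤ S := by
      rcases hP with rfl | hP
      · exact le_rfl
      · exact hP.1.1
    have hZP : Z ≤ P := by
      rcases hP with rfl | hP
      · exact hZS
      · exact fun z hz => hP.1.2 P (isConj_refl F hPS) (mem_centralizerIn.2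
          ⟨hZS hz, fun s hs => (mem_centralizerIn.1 (hZc z hz)).2 s (hPS hs)⟩)
    have hα' := autHom_mem F hPS hα
    refine mem_autGroup_of_hom E ⟨hα', hC'.symm ▸ hPS, fun x => hC'.symm ▸ apply_mem hα' x,
      restr (sup_le le_rfl hZP) (autHom α), restr_mem F hα' _, fun x => rfl, fun x => ?_⟩
    exact (hall x x.2 P _ hα' ⟨x, hZP x.2⟩).1 rfl
  refine le_sSup ⟨hZS, fun P φ hφ => ?_⟩
  obtain ⟨-, -, -, hψ⟩ := hle P hφ
  exact hψ

end Cfsg.Agent.S5253
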