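import Cfsg.Statements.S5257
import Cfsg.Agent.Lib.Fusion.AbelianIndexResults
-- import your own Cfsg.Agent.* helpers here

set_option autoImplicit false
open Cfsg

namespace Cfsg.Agent.S5257

/-- Let p be an odd prime, S a finite nonabelian p-group with a unique abelian subgroup A of index p, and F a saturated fusion system over S having an F-essential subgroup other than A. Then the second centre Z₂(S) lies in A; Z(S) ∩ [S, S] has order p; Z(S)[S, S] has index p in A; Z(S) has index p in Z₂(S); and S/Z(S) has maximal nilpotency class (if S/Z(S) has order pᵐ with m ≥ 3 then the term of index m − 2 of the lower central series of S, counting S as index 0, is not contained in Z(S)). -/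
theorem result {Ω : Type*} [Group Ω] {S : Subgroup Ω} [Finite S] (p : ℕ) [Fact p.Prime] (hS : IsPGroup p S) (F : Cfsg.FusionSystem S) (hF : F.IsSaturated p) (hp : p ≠ 2) (hna : ¬ IsMulCommutative ↥S) (A : Subgroup Ω) (hA : A ≤ S ∧ IsMulCommutative ↥A ∧ (A.subgroupOf S).index = p) (huniq : ∀ B : Subgroup Ω, B ≤ S → IsMulCommutative ↥B → (B.subgroupOf S).index = p → B = A) (P : Subgroup Ω) (hP : F.IsEssential p P) (hPA : P ≠ A) : ((upperCentralSeries ↥S 2).map S.subtype) ≤ A ∧ Nat.card ↥((S ⊓ Subgroup.centralizer (S : Set Ω)) ⊓ ((commutator ↥S).map S.subtype)) = p ∧ (((S ⊓ Subgroup.centralizer (S : Set Ω)) ⊔ ((commutator ↥S).map S.subtype)).subgroupOf A).index = p ∧ (((S ⊓ Subgroup.centralizer (S : Set Ω))).subgroupOf ((upperCentralSeries ↥S 2).map S.subtype)).index = p ∧ ∀ m : ℕ, ((S ⊓ Subgroup.centralizer (S : Set Ω)).subgroupOf S).index = p ^ m → 3 ≤ m → ¬ Subgroup.lowerCentralSeries S (m - 2) ≤ (S ⊓ Subgroup.centralizer (S : Set Ω)) := by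
  have h := Cfsg.Agent.Lib.Fusion.AbIndex.of_statement hS hna hA
  obtain ⟨hZ2, hc, -, -⟩ := h.structure_of_essential hP hPA hF huniq
  obtain ⟨x, hx, hxA⟩ := SetLike.exists_of_lt h.lt
  have hc0 := h.card_ctr_inf hP hPA hF huniq hx hxA
  refine ⟨hZ2, ?_, ?_, ?_, ?_⟩
  · rw [h.commutator_eq hx hxA]
    exact hc0
  · rw [h.commutator_eq hx hxA]
    obtain ⟨hle, he⟩ := h.card_sup_commutator hF hP hPA huniq hx hxA
    have := h.finite
    exact Cfsg.Agent.Lib.Fusion.index_eq_of_card hle he.symm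
  · have : Finite ↥((upperCentralSeries ↥S 2).map S.subtype) :=
      Cfsg.Agent.Lib.Fusion.finite_of_le (hZ2.trans h.le)
    refine Cfsg.Agent.Lib.Fusion.index_eq_of_card (fun z hz => ?_) hc
    exact Cfsg.Agent.Lib.Fusion.mem_secondCtr.2 ⟨hz.1, fun y hy => by
      rw [← (Cfsg.Agent.Lib.Fusion.mem_centralizerIn.1 hz).2 y hy, mul_inv_cancel_right,
        mul_inv_cancel]
      exact one_mem _⟩
  · intro m hm hm3 hle
    obtain ⟨M, hM, hM'⟩ := h.exists_exponent hF hP hPA huniq
    have he : m = M + 1 := Nat.pow_right_injective (Fact.out : p.Prime).two_le (hm.symm.trans hM')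
    obtain ⟨H, hHA, hHL, hne⟩ := h.exists_timg hx hxA hc0 hM (k := m - 2) (by omega)
    refine hne ((Subgroup.eq_bot_iff_forall _).2 fun t ht => ?_)
    obtain ⟨a, -, ha, rfl⟩ := (h.mem_timg hx).1 ht
    have hz := hle (hHL ha)
    rw [← (Cfsg.Agent.Lib.Fusion.mem_centralizerIn.1 hz).2 x hx, mul_inv_cancel_right,
      mul_inv_cancel]

end Cfsg.Agent.S5257
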