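import Cfsg.Statements.S5259
import Cfsg.Agent.Lib.Fusion.CentralKernelConstrained
import Cfsg.Agent.Lib.Fusion.ModelExists
import Cfsg.Agent.Lib.Classical.AutPSL.Sylow

set_option autoImplicit false
open Cfsg

namespace Cfsg.Agent.S5259

open Cfsg.Agent.Lib.Classical.AutPSL Cfsg.Agent.Lib.Fusion Cfsg.FusionSystem

/-- The Sylow subgroup of `SL₃` has the wide commutator property. -/
theorem wide {Ω : Type*} [Group Ω] {S : Subgroup Ω} {K : Type*} [Field K] [Fintype K]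
    (f : ↥S ≃* ↥(upperUni 3 K)) : WideCommutator S := by
  let A : ↥S → K := fun x => ((f x).1 : Matrix (Fin 3) (Fin 3) K) 0 1
  let B : ↥S → K := fun x => ((f x).1 : Matrix (Fin 3) (Fin 3) K) 1 2
  let C : ↥S → K := fun x => ((f x).1 : Matrix (Fin 3) (Fin 3) K) 0 2
  have low : ∀ (x : ↥S) (i j : Fin 3), j ≤ i →
      ((f x).1 : Matrix (Fin 3) (Fin 3) K) i j = if i = j then 1 else 0 := fun x => (f x).2
  have hmul : ∀ x y, A (x * y) = A x + A y ∧ B (x * y) = B x + B y ∧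
      C (x * y) = C x + C y + A x * B y := by
    intro x y
    simp only [A, B, C, map_mul, Subgroup.coe_mul, Matrix.SpecialLinearGroup.coe_mul,
      Matrix.mul_apply, Fin.sum_univ_three]
    rw [low x 0 0 le_rfl, low x 1 0 (by decide), low x 1 1 le_rfl, low y 1 1 le_rfl,
      low y 2 1 (by decide), low y 2 2 le_rfl]
    simp only [if_true, show (1 : Fin 3) ≠ 0 by decide, show (2 : Fin 3) ≠ 1 by decide, if_false]
    refine ⟨by ring, by ring, by ring⟩
  have hext : ∀ x y, A x = A y → B x = B y → C x = C y → x = y := by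
    intro x y ha hb hc
    refine f.injective (Subtype.ext (sl_ext (Matrix.ext fun i j => ?_)))
    by_cases hij : j ≤ i
    · rw [low x i j hij, low y i j hij]
    · fin_cases i <;> fin_cases j <;> first | exact absurd (by decide) hij | assumption
  have hsurj : ∀ r s t : K, ∃ x, A x = r ∧ B x = s ∧ C x = t := by
    intro r s t
    let M : Matrix (Fin 3) (Fin 3) K := !![1, r, t; 0, 1, s; 0, 0, 1]
    have hM : IsUni M := by
      intro i j hij
      fin_cases i <;> fin_cases j <;> first | rfl | exact absurd hij (by decide)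
    refine ⟨f.symm ⟨⟨M, hM.det⟩, hM⟩, ?_, ?_, ?_⟩ <;> simp [A, B, C, M]
  have hone : A 1 = 0 ∧ B 1 = 0 ∧ C 1 = 0 := by
    simp [A, B, C]
  have hcom : ∀ x y, x * y = y * x ↔ A x * B y = A y * B x := by
    intro x y
    constructor
    · intro h
      have := congrArg C h
      rw [(hmul x y).2.2, (hmul y x).2.2] at this
      linear_combination this
    · intro h
      refine hext _ _ ?_ ?_ ?_
      · rw [(hmul x y).1, (hmul y x).1, add_comm]
      · rw [(hmul x y).2.1, (hmul y x).2.1, add_comm]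
      · rw [(hmul x y).2.2, (hmul y x).2.2]
        linear_combination h
  have hcent : ∀ x : ↥S, (x : Ω) ∈ centralizerIn S S ↔ A x = 0 ∧ B x = 0 := by
    intro x
    constructor
    · intro h
      obtain ⟨u, hu⟩ := hsurj 1 0 0
      obtain ⟨w, hw⟩ := hsurj 0 1 0
      have h1 := (hcom u x).1 (Subtype.ext ((mem_centralizerIn.1 h).2 u u.2))
      have h2 := (hcom w x).1 (Subtype.ext ((mem_centralizerIn.1 h).2 w w.2))
      rw [hu.1, hu.2.1, one_mul, mul_zero] at h1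
      rw [hw.1, hw.2.1, zero_mul, mul_one] at h2
      exact ⟨h2.symm, h1⟩
    · rintro ⟨ha, hb⟩
      refine mem_centralizerIn.2 ⟨x.2, fun y hy => ?_⟩
      exact congrArg Subtype.val ((hcom ⟨y, hy⟩ x).2 (by rw [ha, hb, mul_zero, zero_mul]))
  refine ⟨fun g hg x hx => ?_, fun v hv hvZ x hx y hy hxv hyv => ?_, fun v hv hvZ z hz => ?_⟩
  · let g' : ↥S := ⟨g, hg⟩
    let x' : ↥S := ⟨x, hx⟩
    let w : ↥S := g' * x' * g'⁻¹ * x'⁻¹
    have e : w * x' * g' = g' * x' := by simp [w, mul_assoc]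
    have ha := congrArg A e
    have hb := congrArg B e
    rw [(hmul _ g').1, (hmul w x').1, (hmul g' x').1] at ha
    rw [(hmul _ g').2.1, (hmul w x').2.1, (hmul g' x').2.1] at hb
    exact (hcent w).2 ⟨by linear_combination ha, by linear_combination hb⟩
  · have h1 := (hcom ⟨x, hx⟩ ⟨v, hv⟩).1 (Subtype.ext hxv)
    have h2 := (hcom ⟨y, hy⟩ ⟨v, hv⟩).1 (Subtype.ext hyv)
    refine congrArg Subtype.val ((hcom ⟨x, hx⟩ ⟨y, hy⟩).2 ?_)
    by_cases ha : A ⟨v, hv⟩ = 0
    · have hb : B ⟨v, hv⟩ ≠ 0 := fun hb => hvZ ((hcent ⟨v, hv⟩).2 ⟨ha, hb⟩)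
      rw [ha, zero_mul] at h1 h2
      rw [(mul_eq_zero.1 h1).resolve_right hb, (mul_eq_zero.1 h2).resolve_right hb, zero_mul, zero_mul]
    · apply mul_left_cancel₀ ha
      linear_combination A ⟨y, hy⟩ * h1 - A ⟨x, hx⟩ * h2
  · obtain ⟨x, hx⟩ : ∃ x : ↥S, A x * B ⟨v, hv⟩ - A ⟨v, hv⟩ * B x = C ⟨z, hz.1⟩ := by
      by_cases ha : A ⟨v, hv⟩ = 0
      · have hb : B ⟨v, hv⟩ ≠ 0 := fun hb => hvZ ((hcent ⟨v, hv⟩).2 ⟨ha, hb⟩)
        obtain ⟨x, hxa, hxb, -⟩ := hsurj (C ⟨z, hz.1⟩ / B ⟨v, hv⟩) 0 0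
        exact ⟨x, by rw [hxa, hxb]; field_simp; ring⟩
      · obtain ⟨x, hxa, hxb, -⟩ := hsurj 0 (-(C ⟨z, hz.1⟩) / A ⟨v, hv⟩) 0
        exact ⟨x, by rw [hxa, hxb]; field_simp; ring⟩
    obtain ⟨za, zb⟩ := (hcent ⟨z, hz.1⟩).1 hz
    refine ⟨x, x.2, ?_⟩
    have e : x * ⟨v, hv⟩ = ⟨v, hv⟩ * ⟨z, hz.1⟩ * x := by
      refine hext _ _ ?_ ?_ ?_
      · rw [(hmul x _).1, (hmul _ x).1, (hmul _ (⟨z, hz.1⟩ : ↥S)).1, za]; ring
      · rw [(hmul x _).2.1, (hmul _ x).2.1, (hmul _ (⟨z, hz.1⟩ : ↥S)).2.1, zb]; ring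
      · rw [(hmul x _).2.2, (hmul _ x).2.2, (hmul _ (⟨z, hz.1⟩ : ↥S)).2.2,
          (hmul _ (⟨z, hz.1⟩ : ↥S)).1, za, zb]
        linear_combination hx
    rw [mul_inv_eq_iff_eq_mul]
    exact congrArg Subtype.val e

/-- Let p be a prime, K a finite field of characteristic p, and S a finite p-group isomorphic to a Sylow p-subgroup of SL₃(K). Then every exotic fusion system F over S (saturated but not the fusion system of a finite group on a Sylow p-subgroup) has no nontrivial normal subgroup: O_p(F) = 1. -/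
theorem result {Ω : Type*} [Group Ω] {S : Subgroup Ω} [Finite S] (p : ℕ) [Fact p.Prime] (hS : IsPGroup p S) (F : Cfsg.FusionSystem S) (hF : F.IsSaturated p) {K : Type*} [Field K] [Fintype K] [CharP K p] (T : Sylow p (Matrix.SpecialLinearGroup (Fin 3) K)) (e : ↥S ≃* ↥(T : Subgroup (Matrix.SpecialLinearGroup (Fin 3) K))) (hex : F.IsExotic p) : F.core = ⊥ := by
  by_contra hcore
  let U : Sylow p (Matrix.SpecialLinearGroup (Fin 3) K) :=
    (isPGroup_upperUni (n := 3) (F := K) p).toSylow (not_dvd_index_upperUni (F := K) p (by omega))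
  obtain ⟨G, _, ι, hG, hR, hT, -⟩ := exists_model hS
    (isConstrained_of_wideCommutator hS hF (wide (e.trans (Sylow.equiv T U))) hcore)
  exact hex.2 ⟨G, inferInstance, hG, ι, hR, hT⟩

end Cfsg.Agent.S5259
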