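import Cfsg.Statements.S5265
import Cfsg.Agent.Lib.Fusion.SmallCenterTwo
import Cfsg.Agent.Lib.Involutions.TwoGroupRec

set_option autoImplicit false
open Cfsg

namespace Cfsg.Agent.S5265

open Cfsg.FusionSystem Cfsg.Agent.Lib.Fusion
open scoped commutatorElement

variable {Ω : Type*} [Group Ω] {S : Subgroup Ω} [Finite S] {F : FusionSystem S} {p : ℕ}
  [Fact p.Prime]

theorem extraspecial_of_ctr {c : Ω} (h : SmallCenter F p c) (hcore : F.core = ⊥)
    (hc : ctr S = Subgroup.zpowers c) : IsExtraspecial p ↥S ∧ Nat.card S = p ^ 3 := by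
  have hcard : Nat.card (Subgroup.center ↥S) = p := by
    rw [Nat.card_congr (Subgroup.equivMapOfInjective _ _ S.subtype_injective).toEquiv,
      ← ctr_eq_map_center, show Nat.card (ctr S) = Nat.card (Subgroup.zpowers c) from
        congrArg (fun H : Subgroup Ω => Nat.card H) hc, Nat.card_zpowers, h.c_order]
  have hS3 : Nat.card S = p ^ 3 := by
    rw [h.card, show Nat.card (ctr S) = Nat.card (Subgroup.zpowers c) from
        congrArg (fun H : Subgroup Ω => Nat.card H) hc, Nat.card_zpowers, h.c_order, ← pow_succ]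
  have hinj := Subgroup.map_injective S.subtype_injective
  have hcomm : commutator ↥S = Subgroup.center ↥S := by
    apply hinj
    rw [← ctr_eq_map_center, hc, Subgroup.map_subtype_commutator]
    refine le_antisymm (Subgroup.commutator_le.2 h.comm) (Subgroup.zpowers_le.2 ?_)
    obtain ⟨a, ha, b, hb, hab⟩ := h.exists_commutator
    obtain ⟨i, hi⟩ := mem_zpowers_of_mem h.c_order (h.comm a ha b hb) hab
    rw [← show ⁅a, b⁆ ^ i = c from hi]
    exact zpow_mem (Subgroup.commutator_mem_commutator ha hb) i
  have hcoatom : ∀ {A : Subgroup Ω}, MovesCenter F p A → IsCoatom (A.subgroupOf S) := by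
    intro A hA
    refine ⟨fun e => ?_, fun H hH => ?_⟩
    · have hSA : S ≤ A := Subgroup.subgroupOf_eq_top.1 e
      have hc' := h.card
      have hA' := hA.card
      rw [le_antisymm hA.le hSA, hc', pow_two] at hA'
      have : 0 < Nat.card (ctr S) := by have := h.ctr_finite; exact Nat.card_pos
      have h3 : p * p = p := Nat.eq_of_mul_eq_mul_right this hA'
      exact (Fact.out : p.Prime).one_lt.ne' ((mul_eq_left₀ (Fact.out : p.Prime).ne_zero).1 h3)
    · have hlt : A < H.map S.subtype := by
        have := (Subgroup.map_lt_map_iff_of_injective S.subtype_injective).2 hH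
        rwa [Subgroup.map_subgroupOf_eq_of_le hA.le] at this
      apply hinj
      rw [h.eq_top_of_lt hA hlt (Subgroup.map_subtype_le H), ← MonoidHom.range_eq_map,
        Subgroup.range_subtype]
  obtain ⟨A, B, hA, hB, hne⟩ := h.exists_pair hcore
  refine ⟨⟨⟨h.pgroup, le_antisymm ?_ ?_, hcomm⟩, hcard⟩, hS3⟩
  · intro x hx
    have h1 : (x : Ω) ∈ ctr S := h.inf_eq hA hB hne
      (Subgroup.mem_subgroupOf.1 (frattini_le_coatom (hcoatom hA) hx))
      (Subgroup.mem_subgroupOf.1 (frattini_le_coatom (hcoatom hB) hx))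
    rw [ctr_eq_map_center] at h1
    obtain ⟨y, hy, e⟩ := h1
    rwa [← (Subtype.ext e : y = x)]
  · rw [← hcomm, ← Subgroup.map_le_map_iff_of_injective S.subtype_injective,
      Subgroup.map_subtype_commutator]
    exact commutator_le_frattini h.pgroup

/-- Let p be a prime, S a nontrivial finite p-group whose centre has index at most p², and F a saturated fusion system over S with no nontrivial normal subgroup and with hyperfocal subgroup equal to S. Then S is extraspecial of order p³; for odd p it has exponent p, and for p = 2 it is dihedral of order 8. -/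
theorem result {Ω : Type*} [Group Ω] {S : Subgroup Ω} [Finite S] (p : ℕ) [Fact p.Prime] (hS : IsPGroup p ↥S) (F : Cfsg.FusionSystem S) (hF : F.IsSaturated p) (hS1 : S ≠ ⊥) (hcore : F.core = ⊥) (hhyp : F.hyperfocalSubgroup p = S) (hZ : (Subgroup.center ↥S).index ≤ p ^ 2) : Cfsg.IsExtraspecial p ↥S ∧ Nat.card S = p ^ 3 ∧ (p ≠ 2 → Monoid.exponent ↥S = p) ∧ (p = 2 → Nonempty (↥S ≃* DihedralGroup 4)) := by
  obtain ⟨c, h⟩ := exists_smallCenter hS hF hS1 hcore hZ
  by_cases hp2 : p = 2
  · subst hp2
    obtain ⟨hcard, A, B, hA, hB, hne⟩ := h.card_eq_eight hcore hhyp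
    have hctr : ctr S = Subgroup.zpowers c := by
      have := h.ctr_finite
      refine (Subgroup.eq_of_le_of_card_ge (Subgroup.zpowers_le.2 h.c_mem) ?_).symm
      rw [Nat.card_zpowers, h.c_order]
      have := h.card
      omega
    obtain ⟨hex, hc3⟩ := extraspecial_of_ctr h hcore hctr
    refine ⟨hex, hc3, fun e => absurd rfl e, fun _ => ?_⟩
    obtain ⟨a, ha, hac⟩ := h.exists_not_mem hA
    obtain ⟨b, hb, hbc⟩ := h.exists_not_mem hB
    have hbA : b ∉ A := fun hm => hbc (h.inf_eq hA hB hne hm hb)
    have ha2 := mul_self_of_pow (h.moves_pow hcore hA ha)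
    have hb2 := mul_self_of_pow (h.moves_pow hcore hB hb)
    have hab : a * b ≠ b * a := fun e => hac (h.fix_centralizer hA (hB.le hb) hbA ha e.symm)
    have hab2 : a * b * (a * b) = c := by
      rcases h.mem_two (h.comm a (hA.le ha) b (hB.le hb)) with e | e
      · exact absurd (commutatorElement_eq_one_iff_mul_comm.1 e) hab
      · rw [← e, commutatorElement_def, inv_eq_of_mul_eq_one_left ha2,
          inv_eq_of_mul_eq_one_left hb2]
        simp only [mul_assoc]
    have hord : orderOf (a * b) = 4 := by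
      refine orderOf_eq_prime_pow (p := 2) (n := 1) ?_ ?_
      · rw [pow_one, pow_two, hab2]; exact h.c_ne_one
      · rw [show (2 : ℕ) ^ (1 + 1) = 2 * 2 from rfl, pow_mul, pow_two (a * b), hab2, pow_two]
        exact h.c_sq
    refine Cfsg.Agent.Lib.Involutions.nonempty_mulEquiv_dihedral (x := a * b) (y := a) hcard
      (S.mul_mem (hA.le ha) (hB.le hb)) (hA.le ha) hord ha2 ?_ ?_
    · rintro ⟨k, hk⟩
      have h1 := (Commute.refl (a * b)).zpow_left k
      rw [show (a * b) ^ k = a from hk] at h1
      have h2 := h1.eq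
      rw [← mul_assoc a a b, ha2, one_mul] at h2
      exact hab (by conv_lhs => rw [h2]; rw [← mul_assoc, ← mul_assoc, ha2, one_mul])
    · rw [inv_eq_of_mul_eq_one_left ha2, mul_inv_rev, inv_eq_of_mul_eq_one_left ha2,
        inv_eq_of_mul_eq_one_left hb2, ← mul_assoc a a b, ha2, one_mul]
  · have hctr := h.ctr_eq_zpowers hcore hp2
    obtain ⟨hex, hc3⟩ := extraspecial_of_ctr h hcore hctr
    refine ⟨hex, hc3, fun _ => ?_, fun e => absurd e hp2⟩
    have hdvd : Monoid.exponent ↥S ∣ p :=
      Monoid.exponent_dvd_of_forall_pow_eq_one fun s => Subtype.ext (h.pow_eq_one hcore hp2 s.2)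
    rcases (Nat.dvd_prime (Fact.out : p.Prime)).1 hdvd with e | e
    · have h1 : (⟨c, h.c_mem_S⟩ : S) ^ Monoid.exponent ↥S = 1 := Monoid.pow_exponent_eq_one _
      rw [e, pow_one] at h1
      have h2 := h.c_order
      rw [show c = 1 from congrArg Subtype.val h1, orderOf_one] at h2
      exact absurd h2 (Fact.out : p.Prime).one_lt.ne
    · exact e

end Cfsg.Agent.S5265
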