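import Cfsg.Statements.S5270
import Cfsg.Statements.S5270
import Cfsg.Agent.Lib.Fusion.Essential
import Cfsg.Agent.Lib.RankTwo.TwoMaxClass
import Cfsg.Agent.Lib.Cores.Frattini

set_option autoImplicit false
open Cfsg
open scoped commutatorElement

namespace Cfsg.Agent.S5270

/-- Let p ≥ 5 be a prime, S a finite p-group of maximal class of order p^n with n ≥ 4, and F a saturated fusion system over S. If some map of F defined on the second centre Z₂(S) with image Z₂(S) does not carry Z(S) into itself, then the centralizer C_S(Z₂(S)) is an F-essential subgroup. -/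
theorem result {Ω : Type*} [Group Ω] {S : Subgroup Ω} [Finite S] (p : ℕ) [Fact p.Prime] (hS : IsPGroup p ↥S) (n : ℕ) (hn : Nat.card S = p ^ n) (h4 : 4 ≤ n) (hmax : Subgroup.lowerCentralSeries S (n - 2) ≠ ⊥) (F : Cfsg.FusionSystem S) (hF : F.IsSaturated p) (hp : 5 ≤ p) (φ : ↥((Subgroup.upperCentralSeries ↥S 2).map S.subtype) →* Ω) (hφ : φ ∈ F.Hom ((Subgroup.upperCentralSeries ↥S 2).map S.subtype)) (hφZ : φ.range = ((Subgroup.upperCentralSeries ↥S 2).map S.subtype)) (hmove : ∃ (z : Ω) (hz : z ∈ ((Subgroup.upperCentralSeries ↥S 2).map S.subtype)), z ∈ ((Subgroup.center ↥S).map S.subtype) ∧ φ ⟨z, hz⟩ ∉ ((Subgroup.center ↥S).map S.subtype)) : F.IsEssential p (S ⊓ Subgroup.centralizer (((Subgroup.upperCentralSeries ↥S 2).map S.subtype) : Set Ω)) := by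
  classical
  have hp1 : p.Prime := Fact.out
  set Z := (Subgroup.center ↥S).map S.subtype with hZdef
  obtain ⟨z₁, hz₁, hz₁Z, hmv₁⟩ := hmove
  suffices key : ∀ Z2 : Subgroup Ω, Z2 = (Subgroup.upperCentralSeries ↥S 2).map S.subtype →
      ∀ φ : ↥Z2 →* Ω, φ ∈ F.Hom Z2 → φ.range = Z2 → ∀ (z₀ : Ω) (hz₀2 : z₀ ∈ Z2), z₀ ∈ Z →
        φ ⟨z₀, hz₀2⟩ ∉ Z → F.IsEssential p (S ⊓ Subgroup.centralizer (Z2 : Set Ω)) from
    key _ rfl φ hφ hφZ z₁ hz₁ hz₁Z hmv₁
  clear hφ hφZ hmv₁ φ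
  intro Z2 hZ2def φ hφ hφZ z₀ hz₀2 hz₀Z hmv
  set C : Subgroup Ω := S ⊓ Subgroup.centralizer (Z2 : Set Ω) with hCdef
  -- sizes
  have hmax' : (⊤ : Subgroup ↥S).lowerCentralSeries (n - 2) ≠ ⊥ := fun h => hmax (by
    rw [← Subgroup.top_subtype_lowerCentralSeries, h, Subgroup.map_bot])
  obtain ⟨hc1, hqc, hqm⟩ := Lib.RankTwo.maxClass_center (p := p) (by omega) hn hmax'
  obtain ⟨hc2, -, -⟩ := Lib.RankTwo.maxClass_center (G := ↥S ⧸ Subgroup.center ↥S) (p := p) (n := n - 1)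
    (by omega) hqc (by rw [show n - 1 - 2 = n - 3 by omega]; exact hqm)
  set W := Subgroup.upperCentralSeries ↥S 2 with hWdef
  have hWmem : ∀ u : ↥S, u ∈ W ↔ QuotientGroup.mk' (Subgroup.center ↥S) u ∈ Subgroup.center _ := fun u => by
    rw [hWdef, Subgroup.mem_upperCentralSeries_succ_iff, Subgroup.mem_center_iff]
    constructor
    · intro h w
      obtain ⟨w, rfl⟩ := QuotientGroup.mk'_surjective _ w
      have := h w
      rw [upperCentralSeries_one] at this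
      refine (commutatorElement_eq_one_iff_mul_comm.1 ?_).symm
      rw [← map_commutatorElement]
      exact (QuotientGroup.eq_one_iff _).2 this
    · intro h y
      rw [upperCentralSeries_one]
      refine (QuotientGroup.eq_one_iff _).1 ?_
      show QuotientGroup.mk' (Subgroup.center ↥S) ⁅u, y⁆ = 1
      rw [map_commutatorElement]
      exact commutatorElement_eq_one_iff_mul_comm.2 (h (QuotientGroup.mk' _ y)).symm
  have hWc : Nat.card W = p * p := by
    have e : W = (Subgroup.center (↥S ⧸ Subgroup.center ↥S)).comap (QuotientGroup.mk' (Subgroup.center ↥S)) :=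
      Subgroup.ext fun u => hWmem u
    have h1 := Subgroup.card_mul_index W
    rw [e, Subgroup.index_comap_of_surjective _ (QuotientGroup.mk'_surjective _)] at h1
    have h2 := Subgroup.card_mul_index (Subgroup.center (↥S ⧸ Subgroup.center ↥S))
    rw [hc2, hqc] at h2
    rw [e]
    have h3 : 0 < (Subgroup.center (↥S ⧸ Subgroup.center ↥S)).index := Subgroup.index_ne_zero_of_finite.bot_lt
    rw [hn, show p ^ n = p * p ^ (n - 1) by rw [← pow_succ']; congr 1; omega, ← h2, ← mul_assoc] at h1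
    exact Nat.eq_of_mul_eq_mul_right h3 h1
  have hZc : Nat.card Z = p := by rw [hZdef, Subgroup.card_map_of_injective S.subtype_injective, hc1]
  have hZ2c : Nat.card Z2 = p * p := by rw [hZ2def, Subgroup.card_map_of_injective S.subtype_injective, hWc]
  have hZ2S : Z2 ≤ S := hZ2def.le.trans (Subgroup.map_subtype_le _)
  have hZS : Z ≤ S := Subgroup.map_subtype_le _
  haveI : Finite Z2 := Lib.Fusion.finite_of_le hZ2S
  have hZcen : ∀ z ∈ Z, ∀ s ∈ S, z * s = s * z := by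
    rintro _ ⟨z, hz, rfl⟩ s hs
    exact (congrArg Subtype.val (Subgroup.mem_center_iff.1 hz ⟨s, hs⟩)).symm
  have hZ2Z : Z ≤ Z2 := hZ2def ▸ Subgroup.map_mono fun u hu => (hWmem u).2 (by
    rw [QuotientGroup.mk'_apply, (QuotientGroup.eq_one_iff u).2 hu]; exact one_mem _)
  obtain ⟨u, hudef⟩ : ∃ u, φ ⟨z₀, hz₀2⟩ = u := ⟨_, rfl⟩
  have hu2 : u ∈ Z2 := hφZ.le ⟨⟨z₀, hz₀2⟩, hudef⟩
  rw [hudef] at hmv
  have hgenZ2 : Z ⊔ Subgroup.zpowers u = Z2 := by
    refine Subgroup.eq_of_le_of_card_ge (sup_le hZ2Z (Subgroup.zpowers_le.2 hu2)) ?_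
    have := Lib.Fusion.finite_of_le ((sup_le hZ2Z (Subgroup.zpowers_le.2 hu2) : Z ⊔ Subgroup.zpowers u ≤ Z2).trans hZ2S)
    obtain ⟨i, hi, hi'⟩ := (Nat.dvd_prime_pow hp1).1
      (show Nat.card ↥(Z ⊔ Subgroup.zpowers u) ∣ p ^ 2 by
        rw [pow_two, ← hZ2c]; exact Subgroup.card_dvd_of_le (sup_le hZ2Z (Subgroup.zpowers_le.2 hu2)))
    rw [hi', hZ2c, ← pow_two]
    refine Nat.pow_le_pow_right hp1.pos ?_
    by_contra hlt
    refine hmv ?_
    have e : Z = Z ⊔ Subgroup.zpowers u := Subgroup.eq_of_le_of_card_ge le_sup_left (by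
      rw [hi', hZc]; exact (Nat.pow_le_pow_right hp1.pos (show i ≤ 1 by omega)).trans_eq (pow_one p))
    rw [e]; exact Subgroup.mem_sup_right (Subgroup.mem_zpowers u)
  have hCmem : ∀ g : Ω, g ∈ C ↔ g ∈ S ∧ g * u = u * g := fun g => by
    refine ⟨fun hg => ⟨hg.1, (Subgroup.mem_centralizer_iff.1 hg.2 u hu2).symm⟩, fun ⟨hgS, hgu⟩ =>
      ⟨hgS, Subgroup.mem_centralizer_iff.2 fun v hv => ?_⟩⟩
    have hle : Z2 ≤ Subgroup.centralizer ({g} : Set Ω) := by
      rw [← hgenZ2]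
      exact sup_le (fun z hz => Subgroup.mem_centralizer_singleton_iff.2 (hZcen z hz g hgS))
        (Subgroup.zpowers_le.2 (Subgroup.mem_centralizer_singleton_iff.2 hgu.symm))
    exact Subgroup.mem_centralizer_singleton_iff.1 (hle hv)
  have hZ2C : Z2 ≤ C := by
    rw [← hgenZ2]
    exact sup_le (fun z hz => (hCmem z).2 ⟨hZS hz, hZcen z hz u (hZ2S hu2)⟩)
      (Subgroup.zpowers_le.2 ((hCmem u).2 ⟨hZ2S hu2, rfl⟩))
  have hCS : C ≤ S := inf_le_left
  -- the index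
  have hcomm : ∀ g ∈ S, g * u * g⁻¹ * u⁻¹ ∈ Z := by
    intro g hg
    obtain ⟨w, hw, hwu⟩ := hZ2def.le hu2
    have h1 := (Subgroup.mem_upperCentralSeries_succ_iff.1 hw) ⟨g, hg⟩
    rw [upperCentralSeries_one] at h1
    refine ⟨_, inv_mem h1, ?_⟩
    simp only [← hwu]
    simp [commutatorElement_def, mul_assoc]
  let f : ↥S →* ↥Z := MonoidHom.mk' (fun g => ⟨(g : Ω) * u * (g : Ω)⁻¹ * u⁻¹, hcomm g g.2⟩) fun g h => by
    refine Subtype.ext ?_
    have h1 := hZcen _ (hcomm h h.2) g g.2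
    show (g * h : Ω) * u * (g * h : Ω)⁻¹ * u⁻¹ =
      ((g : Ω) * u * (g : Ω)⁻¹ * u⁻¹) * ((h : Ω) * u * (h : Ω)⁻¹ * u⁻¹)
    rw [show (g * h : Ω) * u * (g * h : Ω)⁻¹ * u⁻¹ =
      ((g : Ω) * ((h : Ω) * u * (h : Ω)⁻¹ * u⁻¹)) * u * (g : Ω)⁻¹ * u⁻¹ by group, ← h1,
      show ((h : Ω) * u * (h : Ω)⁻¹ * u⁻¹) * (g : Ω) * u * (g : Ω)⁻¹ * u⁻¹ =
      ((h : Ω) * u * (h : Ω)⁻¹ * u⁻¹) * ((g : Ω) * u * (g : Ω)⁻¹ * u⁻¹) by group]
    exact hZcen _ (hcomm h h.2) _ (hZS (hcomm g g.2))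
  have hfk : f.ker = C.subgroupOf S := by
    ext g
    rw [MonoidHom.mem_ker, Subgroup.mem_subgroupOf, hCmem, Subtype.ext_iff]
    show (g : Ω) * u * (g : Ω)⁻¹ * u⁻¹ = 1 ↔ _
    rw [mul_inv_eq_one, mul_inv_eq_iff_eq_mul]
    exact ⟨fun h => ⟨g.2, h⟩, fun h => h.2⟩
  have hCne : C ≠ S := by
    intro e
    refine hmv ?_
    refine ⟨⟨u, hZ2S hu2⟩, Subgroup.mem_center_iff.2 fun s => Subtype.ext ?_, rfl⟩
    exact ((hCmem s).1 (e.symm.le s.2)).2
  have hidx : (C.subgroupOf S).index = p := by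
    haveI : Finite Z := Lib.Fusion.finite_of_le hZS
    have h1 : (C.subgroupOf S).index ∣ p := by
      rw [← hfk, Subgroup.index_ker, ← hZc]; exact Subgroup.card_subgroup_dvd_card _
    refine ((Nat.dvd_prime hp1).1 h1).resolve_left fun h => hCne ?_
    exact le_antisymm hCS (Subgroup.subgroupOf_eq_top.1 (Subgroup.index_eq_one.1 h))
  have hCn : ∀ s ∈ S, s ∈ Subgroup.normalizer (C : Set Ω) := by
    intro s hs
    haveI := Lib.Fusion.finite_of_le hCS
    refine Lib.Fusion.mem_normalizer_of_finite fun c hc => ?_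
    have := (hfk ▸ MonoidHom.normal_ker f : (C.subgroupOf S).Normal).conj_mem ⟨c, hCS hc⟩ hc ⟨s, hs⟩
    exact this
  have hCfn : F.IsFullyNormalized C := ⟨hCS, fun Q _ => by
    haveI : Finite ↥(Cfsg.FusionSystem.normalizerIn S C) := Lib.Fusion.finite_of_le (S := S) fun g hg => hg.1
    refine Subgroup.card_le_of_le fun g hg => ⟨hg.1, hCn g hg.1⟩⟩
  -- extend the map
  have hZ2n : ∀ s ∈ S, s ∈ Subgroup.normalizer (Z2 : Set Ω) := by
    intro s hs
    haveI := Lib.Fusion.finite_of_le hZ2S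
    refine Lib.Fusion.mem_normalizer_of_finite fun c hc => ?_
    obtain ⟨w, hw, rfl⟩ := hZ2def.le hc
    have hWn : W.Normal := by
      rw [hWdef]; infer_instance
    have hw' := hWn.conj_mem w hw ⟨s, hs⟩
    exact hZ2def.ge (Subgroup.mem_map.2 ⟨_, hw', rfl⟩)
  have hZ2fn : F.IsFullyNormalized Z2 := ⟨hZ2S, fun Q _ => by
    haveI : Finite ↥(Cfsg.FusionSystem.normalizerIn S Z2) := Lib.Fusion.finite_of_le (S := S) fun g hg => hg.1
    refine Subgroup.card_le_of_le fun g hg => ⟨hg.1, hZ2n g hg.1⟩⟩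
  obtain ⟨-, hrec⟩ := Lib.Fusion.IsSaturated.automized_receptive hS hF hZ2fn
  obtain ⟨ψ, hψ, hext, -⟩ := Lib.Fusion.IsReceptive.extend hrec hφ hφZ
  have hCe : C ≤ Cfsg.FusionSystem.extender S Z2 φ := fun g hg => by
    refine Lib.Fusion.mem_extender.2 ⟨hg.1, hZ2n g hg.1, 1, one_mem S, fun x hx => ?_⟩
    simp only [one_mul, inv_one, mul_one]
    congr 1
    refine Subtype.ext ?_
    show g * (x : Ω) * g⁻¹ = x
    rw [← Subgroup.mem_centralizer_iff.1 hg.2 x x.2, mul_inv_cancel_right]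
  have hψC : Lib.Fusion.restr hCe ψ ∈ F.Hom C := Lib.Fusion.restr_mem F hψ hCe
  set ψ' := Lib.Fusion.restr hCe ψ with hψ'
  have hrange : ∀ x, ψ' x ∈ C := by
    intro x
    refine ⟨Lib.Fusion.apply_mem hψC x, Subgroup.mem_centralizer_iff.2 fun v hv => ?_⟩
    obtain ⟨w, rfl⟩ := hφZ.ge hv
    have hw : φ w = ψ' ⟨w, hZ2C w.2⟩ := (hext w w.2 (hCe (hZ2C w.2))).symm
    rw [hw, ← map_mul, ← map_mul]
    exact congrArg ψ' (Subtype.ext (Subgroup.mem_centralizer_iff.1 x.2.2 w w.2))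
  haveI := Lib.Fusion.finite_of_le hCS
  let β : MulAut C := MulEquiv.ofBijective (ψ'.codRestrict C hrange)
    ((Finite.injective_iff_bijective).1 fun a b h => F.injective_of_mem hψC (congrArg Subtype.val h))
  have hβA : β ∈ F.autGroup C := Lib.Fusion.mem_autGroup_of_hom F (by
    rw [show Lib.Fusion.autHom β = ψ' from MonoidHom.ext fun x => rfl]; exact hψC)
  refine (Lib.Fusion.essential_iff_extAut_ne hS hF (lt_of_le_of_ne hCS hCne) hCfn).2 fun heq => hmv ?_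
  -- extendable automorphisms fix the centre
  let ZC : Subgroup C := Z.subgroupOf C
  have hext2 : Lib.Fusion.extAut F C ≤
      { carrier := {α : MulAut C | ∀ x, α x ∈ ZC ↔ x ∈ ZC}
        one_mem' := fun x => Iff.rfl
        mul_mem' := fun {a b} ha hb x => (ha (b x)).trans (hb x)
        inv_mem' := fun {a} ha x => by
          have := ha (a⁻¹ x)
          rw [show a (a⁻¹ x) = x from a.apply_symm_apply x] at this
          exact this.symm } := by
    refine (Subgroup.closure_le _).2 ?_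
    rintro α ⟨Q, hCQ, χ, hχ, hα⟩
    have hQS : Q ≤ S := (F.le_of_mem hχ).1
    have hQ : Q = S := by
      haveI := Lib.Fusion.finite_of_le hQS
      refine le_antisymm hQS ?_
      have hlt : C.subgroupOf S < Q.subgroupOf S := by
        obtain ⟨g, hgQ, hgC⟩ := SetLike.exists_of_lt hCQ
        exact lt_of_le_of_ne (fun x hx => hCQ.le hx) fun e => hgC (e.ge (show (⟨g, hQS hgQ⟩ : S) ∈ Q.subgroupOf S from hgQ))
      refine Subgroup.subgroupOf_eq_top.1 ((Lib.Cores.isCoatom_of_prime_index (hidx ▸ hp1)).2 _ hlt)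
    subst hQ
    have key : ∀ x : C, (x : Ω) ∈ Z → ((α x : C) : Ω) ∈ Z := by
      rintro x ⟨z, hz, hzx⟩
      rw [← hα x]
      refine ⟨⟨_, (F.le_of_mem hχ).2 _⟩, Subgroup.mem_center_iff.2 fun s => ?_, rfl⟩
      let χ' : Q →* Q := χ.codRestrict Q fun y => (F.le_of_mem hχ).2 y
      have hinj : Function.Injective χ' := fun a b h => F.injective_of_mem hχ (congrArg Subtype.val h)
      obtain ⟨s', hs'⟩ := (Finite.injective_iff_surjective.1 hinj) s
      rw [← hs', show (⟨χ (Subgroup.inclusion hCQ.le x), (F.le_of_mem hχ).2 _⟩ : Q) = χ' z from ?_, ← map_mul,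
        ← map_mul, Subgroup.mem_center_iff.1 hz s']
      refine Subtype.ext ?_
      show χ _ = χ z
      exact congrArg χ (Subtype.ext hzx.symm)
    intro x
    refine ⟨fun hx => ?_, key x⟩
    have hb : Function.Bijective fun w : ZC => (⟨α w, key _ w.2⟩ : ZC) :=
      Finite.injective_iff_bijective.1 fun a b h => Subtype.ext (α.injective (congrArg Subtype.val h))
    obtain ⟨w, hw⟩ := hb.2 ⟨α x, hx⟩
    exact α.injective (congrArg Subtype.val hw) ▸ w.2
  have h1 := (hext2 (heq.ge hβA)) ⟨z₀, hZ2C hz₀2⟩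
  have h2 : ψ' ⟨z₀, hZ2C hz₀2⟩ ∈ Z := h1.2 hz₀Z
  rwa [show ψ' ⟨z₀, hZ2C hz₀2⟩ = φ ⟨z₀, hz₀2⟩ from hext z₀ hz₀2 (hCe (hZ2C hz₀2)), hudef] at h2

end Cfsg.Agent.S5270
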