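import Cfsg.Statements.S5271
import Cfsg.Agent.Lib.Fusion.WeaklyEmbedded

set_option autoImplicit false
open Cfsg

namespace Cfsg.Agent.S5271

open Cfsg.Agent.Lib.Fusion Cfsg.FusionSystem

/-- A nilpotency criterion for fusion systems. Let F be a saturated fusion system over a finite p-group S of order at least p². Call a subgroup Q of S weakly embedded in F when there is a subgroup P of S strongly closed in F such that both the product QP and the intersection Q ∩ P are strongly closed in F. Then F is the inner fusion system of S if and only if there is a subgroup D of S with 1 < D < S such that every subgroup of S of the same order as D is weakly embedded in F and, for every fully normalized subgroup H of S of that order, the normalizer fusion system of H in F is the inner fusion system of N_S(H). -/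
theorem result {Ω : Type*} [Group Ω] {S : Subgroup Ω} [Finite S] (p : ℕ) [Fact p.Prime] (hS : IsPGroup p ↥S) (F : Cfsg.FusionSystem S) (hF : F.IsSaturated p) (hcard : p ^ 2 ≤ Nat.card S) : (∀ P : Subgroup Ω, F.Hom P = (Cfsg.innerFusionSystem S).Hom P) ↔ ∃ D : Subgroup Ω, ⊥ < D ∧ D < S ∧ (∀ Q : Subgroup Ω, Q ≤ S → Nat.card ↥Q = Nat.card ↥D → ∃ P : Subgroup Ω, F.StronglyClosed P ∧ F.StronglyClosed (Q ⊔ P) ∧ F.StronglyClosed (Q ⊓ P)) ∧ (∀ H : Subgroup Ω, F.IsFullyNormalized H → Nat.card ↥H = Nat.card ↥D → ∀ N : Cfsg.FusionSystem (Cfsg.FusionSystem.normalizerIn S H), F.IsNormalizerSystem H N → ∀ P : Subgroup Ω, N.Hom P = (Cfsg.innerFusionSystem (Cfsg.FusionSystem.normalizerIn S H)).Hom P) := by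
  obtain ⟨b, hb⟩ := IsPGroup.iff_card.1 hS
  have hp : 1 < p := (Fact.out : p.Prime).one_lt
  have hb2 : 2 ≤ b := by
    rw [hb, Nat.pow_le_pow_iff_right hp] at hcard
    exact hcard
  constructor
  · intro hin
    have hbot : Nat.card (⊥ : Subgroup Ω) ≤ p ^ (b - 1) := by
      rw [Subgroup.card_bot]
      exact Nat.one_le_pow _ _ (by omega)
    have hpb : p ^ (b - 1) < p ^ b := Nat.pow_lt_pow_right hp (by omega)
    obtain ⟨D, -, hDS, hD⟩ :=
      WeaklyEmbedded.exists_between hS (bot_le (a := S)) le_rfl hbot (hb ▸ hpb.le)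
    have hnormal : ∀ H : Subgroup Ω, H ≤ S → Nat.card H = Nat.card D →
        normalizerIn S H = S := fun H hH hHc => by
      have hlt : H < S := lt_of_le_of_ne hH fun h => by
        rw [h, hb, hD] at hHc
        omega
      have := finite_of_le (normalizerIn_le S H)
      have h1 := Cfsg.Agent.Lib.Fusion.Criterion.card_lt_card (normalizerIn_le S H)
        (lt_normalizerIn hS hlt)
      obtain ⟨a, ha⟩ := WeaklyEmbedded.card_eq_pow hS (normalizerIn_le S H)
      rw [hHc, hD, ha, Nat.pow_lt_pow_iff_right hp] at h1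
      refine Subgroup.eq_of_le_of_card_ge (normalizerIn_le S H) ?_
      rw [hb, ha]
      exact Nat.pow_le_pow_right hp.le (by omega)
    refine ⟨D, ?_, lt_of_le_of_ne hDS fun h => by rw [h, hb] at hD; omega, fun Q hQS hQ => ?_,
      fun H hH hHc N hN P => ?_⟩
    · rw [bot_lt_iff_ne_bot]
      intro h
      rw [h, Subgroup.card_bot] at hD
      exact (Nat.one_lt_pow (by omega) hp).ne hD
    · refine ⟨⊥, stronglyClosed_bot F, ?_, ?_⟩
      · rw [sup_bot_eq]
        refine ⟨hQS, fun R hR φ hφ x => ?_⟩
        rw [hin R] at hφ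
        obtain ⟨-, g, hg, hge⟩ := hφ
        rw [hge]
        exact conj_mem_of_mem_normalizer ((hnormal Q hQS hQ).ge hg).2 (hR x.2)
      · rw [inf_bot_eq]
        exact stronglyClosed_bot F
    · have hNS := hnormal H hH.1 hHc
      rw [hN P]
      ext φ
      constructor
      · rintro ⟨hφ, hPN, -, -⟩
        rw [hin P] at hφ
        obtain ⟨-, g, hg, hge⟩ := hφ
        exact ⟨hPN, g, hNS.ge hg, hge⟩
      · rintro ⟨hPN, g, hg, hge⟩
        have hPS : P ≤ S := hPN.trans (normalizerIn_le S H)
        obtain rfl : φ = conjHom P g := MonoidHom.ext hge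
        exact (normalizerSystem F H hH.1).conj_mem hPN hg
  · rintro ⟨D, hD0, hDS, hwe, hnorm⟩
    obtain ⟨m, hm⟩ := WeaklyEmbedded.card_eq_pow hS hDS.le
    have hm1 : 1 ≤ m := by
      by_contra h
      rw [show m = 0 by omega, pow_zero] at hm
      exact hD0.ne' (Subgroup.card_eq_one.1 hm)
    have hmain := WeaklyEmbedded.main (Nat.card S) S F m rfl hS hF hm1
      (hm ▸ Cfsg.Agent.Lib.Fusion.Criterion.card_lt_card le_rfl hDS)
      (fun Q hQ hQc => hwe Q hQ (hQc.trans hm.symm))
      (WeaklyEmbedded.ni_of_normalizer hS hF fun H hH hHc => hnorm H hH (hHc.trans hm.symm))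
    intro P
    rw [hmain]

end Cfsg.Agent.S5271
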