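import Cfsg.Statements.S5272
import Cfsg.Statements.S5272
import Cfsg.Agent.Lib.PLocal.FusionAxiom

set_option autoImplicit false
open Cfsg

namespace Cfsg.Agent.S5272

/-- An axiomatic Glauberman–Thompson nilpotency criterion for fusion systems. Let p be an odd prime, F a saturated fusion system over a finite p-group S, and 𝒜 a nonempty family of abelian subgroups of S. For Q ≤ S write I(Q) for the intersection of the members of 𝒜 contained in Q. Assume (invariance) that for every Q ≤ S containing a member of 𝒜, every F-automorphism of Q maps I(Q) into itself, and (replacement) that for every subgroup B of S of nilpotency class at most 2, if some member of 𝒜 contains [B,B] but not B, then B normalizes some member of 𝒜 that contains [B,B] but not B. Then F is the inner fusion system of S if and only if the normalizer fusion system of I(S) in F is the inner fusion system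 of N_S(I(S)). -/
theorem result {Ω : Type*} [Group Ω] {S : Subgroup Ω} [Finite S] (p : ℕ) [Fact p.Prime] (hS : IsPGroup p ↥S) (F : Cfsg.FusionSystem S) (hF : F.IsSaturated p) (hp : p ≠ 2) (𝒜 : Set (Subgroup Ω)) (h𝒜 : ∀ A ∈ 𝒜, A ≤ S ∧ IsMulCommutative ↥A) (hne : 𝒜.Nonempty) (hinv : ∀ Q : Subgroup Ω, Q ≤ S → (∃ A ∈ 𝒜, A ≤ Q) → ∀ α ∈ F.autGroup Q, ∀ x : ↥Q, (x : Ω) ∈ (⨅ A ∈ {A : Subgroup Ω | A ∈ 𝒜 ∧ A ≤ Q}, A) → (((α : MulAut ↥Q) x : ↥Q) : Ω) ∈ (⨅ A ∈ {A : Subgroup Ω | A ∈ 𝒜 ∧ A ≤ Q}, A)) (hrep : ∀ B : Subgroup Ω, B ≤ S → ⁅⁅B, B⁆, B⁆ = ⊥ → (∃ A ∈ 𝒜, ⁅B, B⁆ ≤ A ∧ ¬ B ≤ A) → ∃ A ∈ 𝒜, ⁅B, B⁆ ≤ A ∧ ¬ B ≤ A ∧ B ≤ Subgroup.normalizer (A : Set Ω)) : (∀ P : Subgroup Ω, F.Hom P = (Cfsg.innerFusionSystem S).Hom P) ↔ ∀ N : Cfsg.FusionSystem (Cfsg.FusionSystem.normalizerIn S (⨅ A ∈ 𝒜, A)), F.IsNormalizerSystem (⨅ A ∈ 𝒜, A) N → ∀ P : Subgroup Ω, N.Hom P = (Cfsg.innerFusionSystem (Cfsg.FusionSystem.normalizerIn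 S (⨅ A ∈ 𝒜, A))).Hom P := by
  have hI : ∀ Q : Subgroup Ω, (⨅ A ∈ {X : Subgroup Ω | X ∈ 𝒜 ∧ X ≤ Q}, A) =
      sInf {X : Subgroup Ω | X ∈ 𝒜 ∧ X ≤ Q} := fun Q => sInf_eq_iInf.symm
  have hI0 : (⨅ A ∈ 𝒜, A) = sInf {X : Subgroup Ω | X ∈ 𝒜 ∧ X ≤ S} := by
    rw [← sInf_eq_iInf]
    congr 1
    ext X
    exact ⟨fun h => ⟨h, (h𝒜 X h).1⟩, fun h => h.1⟩
  have hfam : Lib.PLocal.FusionNpc.FusFam F 𝒜 := ⟨fun A hA => (h𝒜 A hA).1,
    fun A hA a ha b hb => congrArg Subtype.val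
      ((h𝒜 A hA).2.is_comm.comm (⟨a, ha⟩ : A) ⟨b, hb⟩),
    hne, fun Q hQ hA α hα x hx => by
      have h1 := hinv Q hQ hA α hα x (by rw [hI]; exact hx)
      rwa [hI] at h1, hrep⟩
  rw [hI0]
  refine ⟨fun h N hN P => Lib.PLocal.FusionNpc.normalizer_inner_of_inner h
    (hfam.le_normalizer hS) hN P, fun h => ?_⟩
  exact Lib.PLocal.FusionNpc.inner_of_fusFam hS hF hp hfam
    (Lib.PLocal.FusionNpc.locP_false_of_inner hS hfam.inter_le h)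

end Cfsg.Agent.S5272
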