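import Cfsg.Statements.S5273
import Cfsg.Agent.Lib.Fusion.SmallExponent

set_option autoImplicit false
open Cfsg Cfsg.FusionSystem Cfsg.Agent.Lib.Fusion

namespace Cfsg.Agent.S5273

/-- Small-exponent abelian subgroups control fusion. Let E and F be saturated fusion systems over the same finite p-group S with E contained in F. Suppose that E and F have the same maps between A and B for all subgroups A, B of S that are elementary abelian when p is odd, respectively abelian of exponent dividing 4 when p = 2. Then E = F (they have the same maps on every subgroup). -/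
theorem result {Ω : Type*} [Group Ω] {S : Subgroup Ω} [Finite S] (p : ℕ) [Fact p.Prime] (hS : IsPGroup p ↥S) (E F : Cfsg.FusionSystem S) (hE : E.IsSaturated p) (hF : F.IsSaturated p) (hEF : E.IsSubsystemOf F) (hodd : p ≠ 2 → ∀ A B : Subgroup Ω, A ≤ S → B ≤ S → Cfsg.IsElementaryAbelian p A → Cfsg.IsElementaryAbelian p B → E.homSet A B = F.homSet A B) (htwo : p = 2 → ∀ A B : Subgroup Ω, A ≤ S → B ≤ S → IsMulCommutative ↥A → IsMulCommutative ↥B → (∀ a ∈ A, a ^ 4 = 1) → (∀ b ∈ B, b ^ 4 = 1) → E.homSet A B = F.homSet A B) : ∀ P : Subgroup Ω, E.Hom P = F.Hom P := by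
  refine Cfsg.Agent.Lib.Fusion.eq_of_small_abelian hS hF hE hEF (fun hp A B hA hB => hodd hp A B (hA.trans (Cfsg.Agent.Lib.Fusion.hyperfocal_le F p)) (hB.trans (Cfsg.Agent.Lib.Fusion.hyperfocal_le F p))) fun hp A B hA hB => htwo hp A B (hA.trans (Cfsg.Agent.Lib.Fusion.hyperfocal_le F p)) (hB.trans (Cfsg.Agent.Lib.Fusion.hyperfocal_le F p))

end Cfsg.Agent.S5273
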