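import Cfsg.Statements.S5275
import Cfsg.Statements.S5275
import Cfsg.Agent.Lib.PLocal.FusionNpcZJ

set_option autoImplicit false
open Cfsg

namespace Cfsg.Agent.S5275

/-- A Glauberman–Thompson nilpotency criterion for fusion systems relative to a strongly closed subgroup. Let p be an odd prime, F a saturated fusion system over a finite p-group S, and D a subgroup of S that is strongly closed in F. Let Z(J(D)) be the centre of the subgroup of D generated by the abelian subgroups of D of largest order. Then F is the inner fusion system of S if and only if the normalizer fusion system of Z(J(D)) in F is the inner fusion system of N_S(Z(J(D))) = S. -/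
theorem result {Ω : Type*} [Group Ω] {S : Subgroup Ω} [Finite S] (p : ℕ) [Fact p.Prime] (hS : IsPGroup p ↥S) (F : Cfsg.FusionSystem S) (hF : F.IsSaturated p) (hp : p ≠ 2) (D : Subgroup Ω) (hD : F.StronglyClosed D) : (∀ P : Subgroup Ω, F.Hom P = (Cfsg.innerFusionSystem S).Hom P) ↔ ∀ N : Cfsg.FusionSystem (Cfsg.FusionSystem.normalizerIn S (Cfsg.centerThompsonAOf D)), F.IsNormalizerSystem (Cfsg.centerThompsonAOf D) N → ∀ P : Subgroup Ω, N.Hom P = (Cfsg.innerFusionSystem (Cfsg.FusionSystem.normalizerIn S (Cfsg.centerThompsonAOf D))).Hom P := by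
  have hDS := hD.1
  haveI : Finite D := Lib.Fusion.finite_of_le hDS
  have hZS : Cfsg.centerThompsonAOf D ≤ S := by
    rw [← Lib.PLocal.FusionNpc.wAt_zjRel (le_refl D)]
    exact (Lib.PLocal.FusionNpc.wAt_le _ _ _).trans hDS
  refine ⟨fun h N hN P => Lib.PLocal.FusionNpc.normalizer_inner_of_inner h ?_ hN P, fun h => ?_⟩
  · rw [← Lib.PLocal.FusionNpc.wAt_zjRel hDS]
    exact fun g hg => Lib.PLocal.FusionNpc.mem_normalizer_wAt
      (Lib.PLocal.FusionNpc.isNpcFamily_zjRel hp) () hS (Subgroup.le_normalizer hg)
      fun x hx _ => Lib.Fusion.StronglyClosed.conj_mem_self hD hg hx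
  · exact Lib.PLocal.FusionNpc.inner_of_closed hS hF hp hD
      (Lib.PLocal.FusionNpc.locP_false_of_inner hS hZS h)

end Cfsg.Agent.S5275
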