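import Cfsg.Statements.S5276
import Cfsg.Agent.Lib.Fusion.Tate
import Cfsg.Agent.Lib.Fusion.Normal
import Cfsg.Agent.Lib.Fusion.Inner

set_option autoImplicit false
open Cfsg Cfsg.FusionSystem Cfsg.Agent.Lib.Fusion

namespace Cfsg.Agent.S5276

/-- Let p be a prime and F a saturated fusion system over a finite p-group S. Then F is the inner fusion system of S if and only if the normalizer fusion system of S itself in F is the inner fusion system (equivalently, Aut_F(S) is induced by S) and the Frattini subgroup Φ(S) is strongly closed in F. -/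
theorem result {Ω : Type*} [Group Ω] {S : Subgroup Ω} [Finite S] (p : ℕ) [Fact p.Prime] (hS : IsPGroup p ↥S) (F : Cfsg.FusionSystem S) (hF : F.IsSaturated p) : (∀ P : Subgroup Ω, F.Hom P = (Cfsg.innerFusionSystem S).Hom P) ↔ (∀ N : Cfsg.FusionSystem (Cfsg.FusionSystem.normalizerIn S S), F.IsNormalizerSystem S N → ∀ P : Subgroup Ω, N.Hom P = (Cfsg.innerFusionSystem (Cfsg.FusionSystem.normalizerIn S S)).Hom P) ∧ F.StronglyClosed ((frattini ↥S).map S.subtype) := by
  constructor
  · intro h
    have hn : ∀ g ∈ S, ∀ x ∈ (frattini ↥S).map S.subtype, g * x * g⁻¹ ∈ (frattini ↥S).map S.subtype := by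
      rintro g hg _ ⟨x, hx, rfl⟩
      exact ⟨_, (inferInstance : (frattini ↥S).Normal).conj_mem x hx ⟨g, hg⟩, rfl⟩
    refine ⟨fun N hN P => ?_, Subgroup.map_subtype_le _, fun R hR φ hφ x => ?_⟩
    · ext φ
      rw [hN P]
      constructor
      · rintro ⟨h1, h2, -, -⟩
        rw [h P] at h1
        obtain ⟨-, g, hg, hgv⟩ := h1
        exact ⟨h2, g, (normalizerIn_self S).symm ▸ hg, hgv⟩
      · rintro ⟨h2, g, hg, hgv⟩
        rw [normalizerIn_self] at h2 hg
        have e : φ = conjHom P g := MonoidHom.ext hgv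
        rw [e]
        refine ⟨F.conj_mem h2 hg, h2.trans (normalizerIn_self S).ge, fun y => ?_,
          conjHom (P ⊔ S) g, F.conj_mem (sup_le h2 le_rfl) hg, fun y => rfl, ?_⟩
        · exact (normalizerIn_self S).ge (apply_mem (F.conj_mem h2 hg) y)
        · ext z
          constructor
          · rintro ⟨⟨y, _⟩, hy, rfl⟩
            exact S.mul_mem (S.mul_mem hg hy) (S.inv_mem hg)
          · intro hz
            refine ⟨⟨g⁻¹ * z * g, Subgroup.mem_sup_right (S.mul_mem (S.mul_mem (S.inv_mem hg) hz) hg)⟩,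
              S.mul_mem (S.mul_mem (S.inv_mem hg) hz) hg, ?_⟩
            show g * (g⁻¹ * z * g) * g⁻¹ = z
            group
    · rw [h R] at hφ
      obtain ⟨-, g, hg, hgv⟩ := hφ
      rw [hgv]
      exact hn g hg x (hR x.2)
  · rintro ⟨hN, hM⟩ P
    have hS' : ⁅S, S⁆ ≤ (frattini ↥S).map S.subtype := commutator_le_frattini hS
    have hfoc := focal_le_of_stronglyClosed hS hF hM hS' (fun α hα x => by
      obtain ⟨-, g, hg, hgv⟩ : autHom α ∈ (innerFusionSystem (normalizerIn S S)).Hom S := by
        rw [← hN _ (fun _ => rfl : F.IsNormalizerSystem S (normalizerSystem F S le_rfl)) S]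
        refine ⟨autHom_mem F le_rfl hα, (normalizerIn_self S).ge,
          fun y => (normalizerIn_self S).ge (α y).2, ?_⟩
        refine ⟨(autHom α).comp (Subgroup.inclusion (sup_le le_rfl le_rfl)),
          restr_mem F (autHom_mem F le_rfl hα) _, fun y => rfl, ?_⟩
        ext z
        constructor
        · rintro ⟨y, -, rfl⟩
          exact (α _).2
        · intro hz
          exact ⟨⟨(α.symm ⟨z, hz⟩ : S), Subgroup.mem_sup_left (α.symm ⟨z, hz⟩).2⟩,
            (α.symm ⟨z, hz⟩).2, congrArg Subtype.val (α.apply_symm_apply ⟨z, hz⟩)⟩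
      rw [normalizerIn_self] at hg
      show (x : Ω)⁻¹ * autHom α x ∈ _
      rw [hgv x, inv_mul_conj_eq]
      exact hS' (Subgroup.commutator_mem_commutator (S.inv_mem x.2) hg))
    have hin : (innerFusionSystem S).IsSubsystemOf F := inner_le F
    have hyp := hyperfocal_eq_of_le_sup_frattini hS hF hin
      (((hyperfocal_le_focal F p).trans hfoc).trans le_sup_left)
    have hbot : (innerFusionSystem S).hyperfocalSubgroup p = ⊥ := by
      rw [eq_bot_iff]
      refine (Subgroup.closure_le _).2 ?_
      rintro _ ⟨Q, α, x, hQ, hα, rfl⟩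
      have := finite_mulAut hQ
      have hp : IsPGroup p ((innerFusionSystem S).autGroup Q) := by
        rw [autGroup_inner hQ]; exact isPGroup_autInducedBy hS Q
      rw [Cfsg.Agent.Lib.Transfer.pResidual_eq_bot hp, Subgroup.mem_bot] at hα
      subst hα
      show (x : Ω)⁻¹ * (x : Ω) ∈ (⊥ : Subgroup Ω)
      simp
    rw [eq_inner_of_hyperfocal_eq_bot hS hF (hyp.trans hbot)]

end Cfsg.Agent.S5276
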