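import Cfsg.Statements.S5281
import Cfsg.Agent.Lib.Fusion.PStableSystem

set_option autoImplicit false
open Cfsg Cfsg.FusionSystem Cfsg.Agent.Lib.Fusion

namespace Cfsg.Agent.S5281

open Cfsg.Agent.Lib Cfsg.Agent.Lib.Fusion Cfsg.FusionSystem in
theorem exists_cr_over {Ω : Type*} [Group Ω] {S : Subgroup Ω} [Finite S] {p : ℕ} [Fact p.Prime]
    (hS : IsPGroup p S) {F : Cfsg.FusionSystem S} (hF : F.IsSaturated p) :
    ∀ (m : ℕ) (R : Subgroup Ω), F.IsFullyNormalized R → Nat.card S ≤ Nat.card R + m →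
      ∃ R' : Subgroup Ω, F.IsFullyNormalized R' ∧ F.IsCentric R' ∧ F.IsRadical p R' ∧
        ∃ Q : Subgroup Ω, ∃ hQ : Q ≤ R', F.IsConj R Q ∧ ∀ α ∈ F.autGroup Q,
          ∃ β ∈ F.autGroup R', ∀ x : Q, ((β (Subgroup.inclusion hQ x) : R') : Ω) = (α x : Q) := by
  intro m
  induction m using Nat.strong_induction_on with | _ m ih => ?_
  intro R hn hm
  have hRS := hn.1
  have := finite_of_le hRS
  have := finite_mulAut hRS
  obtain ⟨hRa, hRr⟩ := IsSaturated.automized_receptive hS hF hn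
  let A := F.autGroup R
  let R₀ : Subgroup Ω :=
    (((pCore p A).map A.subtype).comap R.normalizerMonoidHom).map
      (Subgroup.normalizer (R : Set Ω)).subtype ⊓ S
  have hR₀mem : ∀ g, g ∈ R₀ ↔ ∃ hg : g ∈ Subgroup.normalizer (R : Set Ω),
      g ∈ S ∧ conjAut hg ∈ (pCore p A).map A.subtype := fun g =>
    ⟨fun ⟨⟨⟨g', hg'⟩, h, e⟩, hS'⟩ => by cases e; exact ⟨hg', hS', h⟩,
      fun ⟨hg, hS', h⟩ => ⟨⟨⟨g, hg⟩, h, rfl⟩, hS'⟩⟩
  have hinn : ∀ g : R, conjAut (Subgroup.le_normalizer g.2) ∈ (pCore p A).map A.subtype := by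
    intro g
    let I := (Cfsg.Inn R).subgroupOf A
    have hIn : I.Normal := by
      refine ⟨fun a ha c => ?_⟩
      obtain ⟨r, hr⟩ := ha
      refine ⟨(c : MulAut R) r, ?_⟩
      ext x
      have hr' : ∀ y, (a : MulAut R) y = r * y * r⁻¹ := fun y => by
        rw [show (a : MulAut R) = MulAut.conj r from hr.symm]; rfl
      show _ = (((c : MulAut R) ((a : MulAut R) ((c : MulAut R).symm x)) : R) : Ω)
      rw [hr', map_mul, map_mul, map_inv, MulEquiv.apply_symm_apply]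
      rfl
    have hIp : IsPGroup p I :=
      (((hS.to_le hRS).of_surjective _ (MulAut.conj (G := R)).rangeRestrict_surjective) :
        IsPGroup p (Cfsg.Inn R)).comap_of_injective A.subtype A.subtype_injective
    refine ⟨⟨conjAut (Subgroup.le_normalizer g.2), conjAut_mem_autGroup F hRS (hRS g.2) _⟩,
      Cores.le_pCore hIn hIp ⟨g, ?_⟩, rfl⟩
    exact MulEquiv.ext fun x => Subtype.ext rfl
  have hRR₀ : R ≤ R₀ := fun g hg =>
    (hR₀mem g).2 ⟨Subgroup.le_normalizer hg, hRS hg, hinn ⟨g, hg⟩⟩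
  have hR₀S : R₀ ≤ S := fun g hg => hg.2
  rcases hRR₀.eq_or_lt with heq | hlt
  · have hC : centralizerIn S R ≤ R := by
      intro g hg
      rw [heq]
      refine (hR₀mem g).2 ⟨(centralizerIn_le_normalizerIn S R hg).2, hg.1, ⟨1, one_mem _, ?_⟩⟩
      exact MulEquiv.ext fun x => Subtype.ext ((mem_centralizerIn_iff_conj.1 hg).2 x x.2).symm
    have hcent : F.IsCentric R := isCentric_of_fullyCentralized
      (IsSaturated.fullyCentralized hS hF hn) hC
    refine ⟨R, hn, hcent, ⟨hRS, le_antisymm ?_ ?_⟩, R, le_rfl, isConj_refl F hRS,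
      fun α hα => ⟨α, hα, fun x => rfl⟩⟩
    · rintro _ ⟨a, ha, rfl⟩
      obtain ⟨-, U, hU⟩ := hRa
      have h1 : pCore p A ≤ (U : Subgroup A) := (Cores.pCore_isPGroup p A).le_sylow_of_normal U
      have h2 := h1 ha
      rw [hU] at h2
      obtain ⟨g, hg, hgN, e⟩ := mem_autInducedBy_iff_conjAut.1 h2
      have hgR : g ∈ R := by
        rw [heq]
        exact (hR₀mem g).2 ⟨hg, hgN, e ▸ ⟨a, ha, rfl⟩⟩
      exact ⟨⟨g, hgR⟩, MulEquiv.ext fun x => Subtype.ext (by rw [← e]; rfl)⟩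
    · rintro _ ⟨g, rfl⟩
      have h := hinn g
      have e : MulAut.conj g = conjAut (Subgroup.le_normalizer g.2) :=
        MulEquiv.ext fun x => Subtype.ext rfl
      rw [e]; exact h
  · -- every automorphism of `R` extends to `R₀`
    have hext : ∀ α ∈ F.autGroup R, ∃ β ∈ F.autGroup R₀,
        ∀ x : R, ((β (Subgroup.inclusion hRR₀ x) : R₀) : Ω) = (α x : R) := by
      intro α hα
      obtain ⟨ψ, hψ, hψx, -⟩ := IsReceptive.extend hRr (autHom_mem F hRS hα) (range_autHom α)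
      have hle : R₀ ≤ extender S R (autHom α) := by
        intro g hg
        obtain ⟨hgN, hgS, a, ha, he⟩ := (hR₀mem g).1 hg
        have hc := (inferInstance : (pCore p A).Normal).conj_mem a ha ⟨α, hα⟩
        obtain ⟨-, U, hU⟩ := hRa
        have h2 := (Cores.pCore_isPGroup p A).le_sylow_of_normal U hc
        rw [hU] at h2
        obtain ⟨h, hh, hhe⟩ := mem_autInducedBy.1 h2
        refine mem_extender.2 ⟨hgS, hgN, h, hh, fun x hx => ?_⟩
        have h3 := hhe (α x)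
        simp only [Subgroup.coe_subtype, Subgroup.coe_mul, Subgroup.coe_inv, MulAut.mul_apply,
          MulAut.inv_apply, MulEquiv.symm_apply_apply] at h3
        rw [show (a : MulAut R) = conjAut hgN from he] at h3
        exact h3
      have hψ₀ := restr_mem F hψ hle
      have := finite_of_le hR₀S
      have hr : (restr hle ψ).range = R₀ := by
        refine eq_of_le_of_card ?_ (card_range_eq (F.injective_of_mem hψ₀)).ge
        rintro _ ⟨⟨g, hg⟩, rfl⟩
        obtain ⟨hgN, hgS, a, ha, he⟩ := (hR₀mem g).1 hg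
        have hN : ψ ⟨g, hle hg⟩ ∈ Subgroup.normalizer (R : Set Ω) := by
          refine mem_normalizer_of_finite fun x hx => ?_
          obtain ⟨y, hy⟩ := α.surjective ⟨x, hx⟩
          have h1 : ψ ⟨y, hle (hRR₀ y.2)⟩ = x :=
            (hψx y y.2 _).trans (congrArg Subtype.val hy)
          rw [← h1, ← map_inv, ← map_mul, ← map_mul]
          have h2 := hψx _ (conj_mem_of_mem_normalizer hgN y.2)
            (hle (hRR₀ (conj_mem_of_mem_normalizer hgN y.2)))
          exact h2 ▸ (α _).2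
        refine (hR₀mem _).2 ⟨hN, apply_mem hψ _, ⟨⟨α, hα⟩ * a * (⟨α, hα⟩ : A)⁻¹,
          (inferInstance : (pCore p A).Normal).conj_mem a ha ⟨α, hα⟩, ?_⟩⟩
        refine MulEquiv.ext fun x => Subtype.ext ?_
        have hv : (a : MulAut R) (α.symm x) = ⟨g * (α.symm x : Ω) * g⁻¹,
            conj_mem_of_mem_normalizer hgN (α.symm x).2⟩ := by
          rw [show (a : MulAut R) = conjAut hgN from he]; rfl
        show (((α ((a : MulAut R) (α.symm x))) : R) : Ω) = ψ ⟨g, hle hg⟩ * x * (ψ ⟨g, hle hg⟩)⁻¹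
        rw [hv]
        have h1 : ψ ⟨(α.symm x : Ω), hle (hRR₀ (α.symm x).2)⟩ = x :=
          (hψx _ (α.symm x).2 _).trans (congrArg Subtype.val (α.apply_symm_apply x))
        rw [← h1, ← map_inv, ← map_mul, ← map_mul]
        exact (hψx _ _ _).symm
      exact ⟨isoOf _ (F.injective_of_mem hψ₀) hr, mem_autGroup_of_hom F (by convert hψ₀ using 1; ext x; rfl),
        fun x => hψx x x.2 _⟩
    obtain ⟨R₁, hc, hn₁⟩ := exists_fullyNormalized F hR₀S
    have hlt' : Nat.card R < Nat.card R₁ := by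
      rw [← isConj_card hc]
      have := finite_of_le hR₀S
      exact lt_of_le_of_ne (Subgroup.card_le_of_le hlt.le) fun e =>
        hlt.ne (Subgroup.eq_of_le_of_card_ge hlt.le e.ge)
    obtain ⟨R', hn', hc', hr', Q₁, hQ₁, hconj₁, hext₁⟩ := ih (Nat.card S - Nat.card R₁)
      (by have := Subgroup.card_le_of_le hn₁.1; omega) R₁ hn₁ (by omega)
    obtain ⟨ρ, hρ, hρr⟩ := isConj_trans hc hconj₁
    set Q := img ρ R with hQdef
    have hQQ₁ : Q ≤ Q₁ := (img_le_range ρ R).trans hρr.le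
    refine ⟨R', hn', hc', hr', Q, hQQ₁.trans hQ₁, isConj_img F hρ hRR₀, fun α hα => ?_⟩
    have hρR : (restr hRR₀ ρ).range = Q := range_restr hRR₀ ρ
    obtain ⟨e, he, her, he1, he2⟩ := exists_inv F (restr_mem F hρ hRR₀) hρR
    have hr₀ : restr hRR₀ ρ ∈ F.Hom R := restr_mem F hρ hRR₀
    rw [← autGroup_map_congr F hr₀ hρR] at hα
    obtain ⟨α₀, hα₀, rfl⟩ := hα
    obtain ⟨β₀, hβ₀, hβ₀x⟩ := hext α₀ hα₀
    obtain ⟨β, hβ, hβx⟩ := hext₁ _ (exists_mulAut_congr F hρ hρr hβ₀)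
    refine ⟨β, hβ, fun x => ?_⟩
    obtain ⟨y, rfl⟩ := (isoOf _ (F.injective_of_mem hr₀) hρR).surjective x
    refine (hβx ⟨_, hQQ₁ (SetLike.coe_mem (isoOf _ (F.injective_of_mem hr₀) hρR y))⟩).trans ?_
    have e1 : (⟨_, hQQ₁ (SetLike.coe_mem (isoOf _ (F.injective_of_mem hr₀) hρR y))⟩ : Q₁) =
        isoOf ρ (F.injective_of_mem hρ) hρr (Subgroup.inclusion hRR₀ y) := Subtype.ext rfl
    rw [e1]
    show ((isoOf ρ _ hρr (β₀ ((isoOf ρ _ hρr).symm (isoOf ρ _ hρr _))) : Q₁) : Ω) =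
      ((isoOf _ _ hρR (α₀ ((isoOf _ _ hρR).symm (isoOf _ _ hρR y))) : Q) : Ω)
    rw [MulEquiv.symm_apply_apply, MulEquiv.symm_apply_apply, isoOf_coe, isoOf_coe, restr_apply]
    exact congrArg ρ (Subtype.ext (hβ₀x y))

open Cfsg.Agent.Lib Cfsg.Agent.Lib.Fusion Cfsg.FusionSystem in
theorem stable_of_normalizers {Ω : Type*} [Group Ω] {S : Subgroup Ω} [Finite S] {p : ℕ} [Fact p.Prime]
    (hS : IsPGroup p S) (F : Cfsg.FusionSystem S) (hF : F.IsSaturated p)
    (h : ∀ R : Subgroup Ω, F.IsFullyNormalized R → F.IsCentric R → F.IsRadical p R →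
      ∀ N : Cfsg.FusionSystem (normalizerIn S R), F.IsNormalizerSystem R N →
        ∀ Q : Subgroup Ω, N.IsFullyNormalized Q → StableAt p (N.autGroup Q))
    (Q₀ : Subgroup Ω) (hQ₀ : F.IsFullyNormalized Q₀) : StableAt p (F.autGroup Q₀) := by
  obtain ⟨R, hn, hc, hr, Q, hQR, hconj, hext⟩ :=
    exists_cr_over hS hF (Nat.card S) Q₀ hQ₀ (Nat.le_add_left _ _)
  refine StableAt.of_isConj ?_ (isConj_symm hconj)
  have hN := normalizerSystem_spec F R hn.1
  have : Finite (normalizerIn S R) := finite_of_le (normalizerIn_le S R)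
  have hQN : Q ≤ normalizerIn S R := hQR.trans (le_normalizerIn hn.1)
  refine (stableAt_all (h R hn hc hr _ hN) hQN).mono fun α hα => ?_
  obtain ⟨β, hβ, hβx⟩ := hext α hα
  refine mem_autGroup_of_hom _ ?_
  rw [hN Q]
  have hQS := hQR.trans hn.1
  refine ⟨autHom_mem F hQS hα, hQN, fun x => hQN (α x).2, restr (sup_le hQR le_rfl) (autHom β),
    restr_mem F (autHom_mem F hn.1 hβ) _, fun x => hβx x, ?_⟩
  show img (restr (sup_le hQR le_rfl) (autHom β)) R = R
  rw [img_restr _ _ le_sup_right, img_self, range_autHom]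

/-- Let p be an odd prime and F a saturated fusion system over a finite p-group S. Call a fusion system E (over any subgroup) p-stable when, for every fully E-normalized subgroup Q and every χ in Aut_E(Q) with χ(a⁻¹)·a·χ(a⁻¹)·χ(χ(a)) = 1 for all a in Q (χ acts quadratically), χ lies in O_p(Aut_E(Q)). Then F is p-stable if and only if the normalizer fusion system of R in F is p-stable for every fully F-normalized, F-centric, F-radical subgroup R of S. -/
theorem result {Ω : Type*} [Group Ω] {S : Subgroup Ω} [Finite S] (p : ℕ) [Fact p.Prime] (hS : IsPGroup p ↥S) (F : Cfsg.FusionSystem S) (hF : F.IsSaturated p) (hp : p ≠ 2) : (∀ Q : Subgroup Ω, F.IsFullyNormalized Q → ∀ χ : MulAut ↥Q, χ ∈ F.autGroup Q → (∀ a : ↥Q, (χ a⁻¹) * a * (χ a⁻¹) * (χ (χ a)) = 1) → χ ∈ ((Cfsg.pCore p ↥(F.autGroup Q)).map (F.autGroup Q).subtype : Subgroup (MulAut ↥Q))) ↔ ∀ R : Subgroup Ω, F.IsFullyNormalized R → F.IsCentric R → F.IsRadical p R → ∀ N : Cfsg.FusionSystem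 (Cfsg.FusionSystem.normalizerIn S R), F.IsNormalizerSystem R N → (∀ Q : Subgroup Ω, N.IsFullyNormalized Q → ∀ χ : MulAut ↥Q, χ ∈ N.autGroup Q → (∀ a : ↥Q, (χ a⁻¹) * a * (χ a⁻¹) * (χ (χ a)) = 1) → χ ∈ ((Cfsg.pCore p ↥(N.autGroup Q)).map (N.autGroup Q).subtype : Subgroup (MulAut ↥Q))) := by
  refine ⟨fun h R hR _ _ N hN Q hQ => ?_, fun h => stable_of_normalizers hS F hF h⟩
  exact (Cfsg.Agent.Lib.Fusion.stableAt_all h (hQ.1.trans (Cfsg.Agent.Lib.Fusion.normalizerIn_le S R))).mono (Subgroup.closure_mono fun α hα => Cfsg.Agent.Lib.Fusion.IsNormalizerSystem.le_system hN hα)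

end Cfsg.Agent.S5281
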