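import Cfsg.Statements.S5284
import Cfsg.Statements.S5284
import Cfsg.Agent.Lib.PLocal.SupersolubleAbelian

set_option autoImplicit false
open Cfsg

namespace Cfsg.Agent.S5284

/-- Let S be a finite abelian p-group. Every saturated fusion system over S is supersoluble (S has a chain of F-strongly closed subgroups from 1 to S with cyclic steps) if and only if the invariants of S are pairwise distinct, that is, S is not isomorphic to a direct product (Z/p^n × Z/p^n) × H with n ≥ 1. -/
theorem result {Ω : Type*} [Group Ω] {S : Subgroup Ω} [Finite S] (p : ℕ) [Fact p.Prime] (hS : IsPGroup p ↥S) (hab : IsMulCommutative ↥S) : (∀ F : Cfsg.FusionSystem S, F.IsSaturated p → (∃ (m : ℕ) (c : Fin (m + 1) → Subgroup Ω), c 0 = ⊥ ∧ c (Fin.last m) = S ∧ (∀ i : Fin (m + 1), F.StronglyClosed (c i)) ∧ ∀ i : Fin m, c i.castSucc ≤ c i.succ ∧ ∃ x ∈ S, c i.succ = c i.castSucc ⊔ Subgroup.zpowers x)) ↔ ¬ ∃ (n : ℕ) (H : Type) (_ : CommGroup H), 0 < n ∧ Nonempty (↥S ≃* (Multiplicative (ZMod (p ^ n)) × Multiplicative (ZMod (p ^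 n))) × H) := by
  classical
  refine ⟨fun h ⟨n, H, _, hn, ⟨e⟩⟩ => ?_, fun hno F hF => ?_⟩
  · exact Lib.PLocal.Supersol.not_restricted_of_summand hn e
      (fun K hK => Lib.PLocal.Supersol.aut_restricted hS h K hK)
  letI : CommGroup S := { (inferInstance : Group S) with mul_comm := fun a b => hab.is_comm.comm a b }
  obtain ⟨ι, hι, n, hn1, ⟨φ⟩⟩ := CommGroup.equiv_prod_multiplicative_zmod_of_finite S
  obtain ⟨N, hN⟩ := IsPGroup.iff_card.1 hS
  have hpow : ∀ i, ∃ k, n i = p ^ k := fun i => by
    haveI : ∀ i, NeZero (n i) := fun i => ⟨by have := hn1 i; omega⟩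
    have hdvd : n i ∣ p ^ N := by
      rw [← hN, Nat.card_congr φ.toEquiv, Nat.card_pi]
      refine dvd_trans ?_ (Finset.dvd_prod_of_mem _ (Finset.mem_univ i))
      rw [Nat.card_congr Multiplicative.toAdd, Nat.card_zmod]
    obtain ⟨k, -, hk⟩ := (Nat.dvd_prime_pow (Fact.out : p.Prime)).1 hdvd
    exact ⟨k, hk⟩
  choose e he using hpow
  obtain rfl : n = fun i => p ^ e i := funext he
  by_cases hinj : Function.Injective e
  · refine Lib.PLocal.Supersol.hasChain_of_normal F
      (Lib.Fusion.isNormal_top_of_abelian hS hF fun x hx y hy =>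
        congrArg Subtype.val (hab.is_comm.comm ⟨x, hx⟩ ⟨y, hy⟩)) fun M hM hne => ?_
    exact Lib.PLocal.Supersol.exists_step_distinct hS e hinj φ (F.autGroup S) M hM hne
  exfalso
  rw [Function.Injective] at hinj
  push Not at hinj
  obtain ⟨i, j, hij, hne⟩ := hinj
  apply hno
  have hm : 0 < e i := by
    rcases Nat.eq_zero_or_pos (e i) with h | h
    · have := hn1 i; simp [h] at this
    · exact h
  refine ⟨e i, (k : {k // k ≠ i ∧ k ≠ j}) → Multiplicative (ZMod (p ^ e k)), inferInstance, hm, ⟨φ.trans ?_⟩⟩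
  let c : Multiplicative (ZMod (p ^ e j)) ≃* Multiplicative (ZMod (p ^ e i)) :=
    (ZMod.ringEquivCongr (by rw [hij])).toAddEquiv.toMultiplicative
  exact
    { toFun := fun f => ((f i, c (f j)), fun k => f k.1)
      invFun := fun g k => if h : k = i then h ▸ g.1.1 else
        if h' : k = j then h' ▸ c.symm g.1.2 else g.2 ⟨k, h, h'⟩
      left_inv := fun f => funext fun k => by
        by_cases h : k = i
        · subst h; simp
        · by_cases h' : k = j
          · subst h'; simp [h]
          · simp [h, h']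
      right_inv := fun g => by
        refine Prod.ext (Prod.ext (by simp) (by simp [hne.symm])) (funext fun k => ?_)
        simp [k.2.1, k.2.2]
      map_mul' := fun f g => Prod.ext (Prod.ext rfl (map_mul c _ _)) rfl }

end Cfsg.Agent.S5284
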