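import Cfsg.Statements.S5287
import Cfsg.Statements.S5287
import Cfsg.Agent.Lib.PLocal.SupersolubleStep
import Cfsg.Agent.Lib.PLocal.SupersolubleModels
import Cfsg.Agent.Lib.PLocal.TwoMetacyclicClosed
import Cfsg.Agent.Lib.PLocal.MetacyclicClosed
import Cfsg.Agent.Lib.Fusion.Essential
import Cfsg.Agent.Lib.Fusion.Solvable

set_option autoImplicit false
open Cfsg

namespace Cfsg.Agent.S5287

/-- Let S be a finite metacyclic p-group (an extension of a cyclic group by a cyclic group). Every saturated fusion system over S is supersoluble (S has a chain of F-strongly closed subgroups from 1 to S with cyclic steps) if and only if S is not homocyclic of rank two (isomorphic to Z/p^n × Z/p^n with n ≥ 1) and, when p = 2, S is not dihedral of order at least 4, not quasi-dihedral (semidihedral) and not generalized quaternion of order at least 8. -/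
theorem result {Ω : Type*} [Group Ω] {S : Subgroup Ω} [Finite S] (p : ℕ) [Fact p.Prime] (hS : IsPGroup p ↥S) (hm : Cfsg.IsMetacyclic ↥S) : (∀ F : Cfsg.FusionSystem S, F.IsSaturated p → (∃ (m : ℕ) (c : Fin (m + 1) → Subgroup Ω), c 0 = ⊥ ∧ c (Fin.last m) = S ∧ (∀ i : Fin (m + 1), F.StronglyClosed (c i)) ∧ ∀ i : Fin m, c i.castSucc ≤ c i.succ ∧ ∃ x ∈ S, c i.succ = c i.castSucc ⊔ Subgroup.zpowers x)) ↔ ¬ ((∃ n : ℕ, 0 < n ∧ Nonempty (↥S ≃* Multiplicative (ZMod (p ^ n)) × Multiplicative (ZMod (p ^ n)))) ∨ (p = 2 ∧ ((∃ n : ℕ, 2 ≤ n ∧ Nonempty (↥S ≃* DihedralGroup n)) ∨ Cfsg.IsQuasiDihedral ↥S ∨ (∃ n : ℕ, 2 ≤ n ∧ Nonempty (↥S ≃* QuaternionGroup n))))) := by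
  classical
  refine Iff.intro ?_ ?_
  · intro hall hlist
    rcases hlist with ⟨n, hn, ⟨e⟩⟩ | ⟨rfl, hlist⟩
    · by_cases hp2 : p = 2
      · subst hp2
        -- an automorphism of order three
        obtain ⟨F, hF, hno⟩ := Lib.PLocal.Supersol.exists_no_chain_homocyclic_two hS hn e
        exact hno (hall F hF)
      · obtain ⟨F, hF, hno⟩ := Lib.PLocal.Supersol.exists_no_chain_homocyclic hp2 hS hn e
        exact hno (hall F hF)
    · rcases hlist with ⟨n, hn, ⟨e⟩⟩ | hqd | ⟨n, hn, ⟨e⟩⟩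
      · obtain ⟨F, hF, hno⟩ := Lib.PLocal.Supersol.exists_no_chain_dihedral hS hn e
        exact hno (hall F hF)
      · obtain ⟨F, hF, hno⟩ := Lib.PLocal.Supersol.exists_no_chain_semidihedral hS hqd
        exact hno (hall F hF)
      · obtain ⟨F, hF, hno⟩ := Lib.PLocal.Supersol.exists_no_chain_quaternion hS hn e
        exact hno (hall F hF)
  intro hlist F hF
  by_cases hcy : IsCyclic ↥S
  · exact Lib.PLocal.Supersol.hasChain_of_cyclic F hcy
  have hclosed := Lib.Fusion.stronglyClosed_top F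
  haveI := Lib.Fusion.finite_mulAut (le_refl S)
  have hInn : ∀ t : ↥S, MulAut.conj t ∈ F.autGroup S := fun t =>
    Lib.Fusion.inn_le_autGroup F le_rfl ⟨t, rfl⟩
  have hPG : (F.IsNormal S) ∧ ∃ P₀ : Subgroup ↥(F.autGroup S), IsPGroup p ↥P₀ ∧
      (∀ a b : ↥(F.autGroup S), a * b * a⁻¹ * b⁻¹ ∈ P₀) ∧ ∀ a : ↥(F.autGroup S), a ^ (p - 1) ∈ P₀ := by
    by_cases hp2 : p = 2
    · subst hp2
      have hsl : ¬ Lib.PLocal.TwoMetacyclicGroup.SmallList ↥S := by
        rintro (⟨m, ⟨e⟩⟩ | ⟨m, ⟨e⟩⟩ | hqd)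
        · rcases m with _ | _ | m
          · haveI := Finite.of_equiv ↥S e.toEquiv
            have h1 := Finite.of_injective (DihedralGroup.r : ZMod 0 → DihedralGroup 0)
              fun a b h => DihedralGroup.r.inj h
            exact not_finite_iff_infinite.2 (inferInstanceAs (Infinite ℤ)) h1
          · haveI : IsCyclic (DihedralGroup 1) := isCyclic_of_prime_card (p := 2)
              (by rw [DihedralGroup.nat_card])
            exact hcy (e.isCyclic.2 inferInstance)
          · exact hlist (Or.inr ⟨rfl, Or.inl ⟨m + 2, by omega, ⟨e⟩⟩⟩)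
        · rcases m with _ | _ | m
          · haveI := Finite.of_equiv ↥S e.toEquiv
            have h1 := Finite.of_injective (QuaternionGroup.a : ZMod (2 * 0) → QuaternionGroup 0)
              fun a b h => QuaternionGroup.a.inj h
            exact not_finite_iff_infinite.2 (inferInstanceAs (Infinite ℤ)) h1
          · exact hcy (e.isCyclic.2 (isCyclic_of_orderOf_eq_card (QuaternionGroup.xa 0 : QuaternionGroup 1)
              (by rw [QuaternionGroup.orderOf_xa, Nat.card_eq_fintype_card, QuaternionGroup.card])))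
          · exact hlist (Or.inr ⟨rfl, Or.inr (Or.inr ⟨m + 2, by omega, ⟨e⟩⟩)⟩)
        · exact hlist (Or.inr ⟨rfl, Or.inr (Or.inl hqd)⟩)
      refine ⟨Lib.PLocal.TwoMetacyclicClosed.isNormal_of_metacyclic hS hF hclosed hm hsl, ⊤, ?_,
        fun a b => Subgroup.mem_top _, fun a => Subgroup.mem_top _⟩
      refine IsPGroup.of_equiv ?_ (Subgroup.topEquiv).symm
      by_contra hnp
      obtain ⟨⟨σ, hσ⟩, hσo, hσ1⟩ := Lib.PLocal.TwoMetacyclicClosed.exists_odd_order hnp
      rw [← Subgroup.orderOf_coe] at hσo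
      rcases Lib.PLocal.TwoMetacyclic.shape_of_odd_aut hS hm σ hσo (fun h => hσ1 (Subtype.ext h)) with
        ⟨n, a, b, hn1, hab, hao, hbo, hcard, hform, hind⟩ | ⟨hcard, ⟨a, b, hna⟩, hinv⟩
      · refine hlist (Or.inl ⟨n, hn1, ⟨?_⟩⟩)
        haveI : NeZero (2 ^ n) := ⟨by positivity⟩
        have hval : ∀ {u : ↥S}, u ^ 2 ^ n = 1 → ∀ x y : ZMod (2 ^ n),
            u ^ (x + y).val = u ^ x.val * u ^ y.val := by
          intro u hu x y
          rw [← pow_add, ZMod.val_add, ← pow_eq_pow_mod (x.val + y.val) hu]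
        let f : Multiplicative (ZMod (2 ^ n)) × Multiplicative (ZMod (2 ^ n)) →* ↥S :=
          MonoidHom.mk' (fun v => a ^ v.1.toAdd.val * b ^ v.2.toAdd.val) fun v w => by
            simp only [Prod.fst_mul, Prod.snd_mul, toAdd_mul, hval (hao ▸ pow_orderOf_eq_one a),
              hval (hbo ▸ pow_orderOf_eq_one b)]
            exact Commute.mul_mul_mul_comm ((hab.pow_pow _ _)) _ _
        have hsurj : Function.Surjective f := by
          intro u
          obtain ⟨i, j, rfl⟩ := hform u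
          refine ⟨(Multiplicative.ofAdd (i : ZMod (2 ^ n)), Multiplicative.ofAdd (j : ZMod (2 ^ n))), ?_⟩
          show a ^ (i : ZMod (2 ^ n)).val * b ^ (j : ZMod (2 ^ n)).val = _
          rw [ZMod.val_natCast, ZMod.val_natCast, ← pow_eq_pow_mod i (hao ▸ pow_orderOf_eq_one a),
            ← pow_eq_pow_mod j (hbo ▸ pow_orderOf_eq_one b)]
        refine (MulEquiv.ofBijective f ((Nat.bijective_iff_surjective_and_card f).2 ⟨hsurj, ?_⟩)).symm
        rw [hcard, Nat.card_prod, Nat.card_congr Multiplicative.toAdd, Nat.card_zmod,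
          show (4 : ℕ) = 2 * 2 from rfl, mul_pow]
      · exact hsl (Lib.PLocal.TwoMetacyclicGroup.smallList_of_quaternion hS hm (Q := (⊤ : Subgroup ↥S))
          (by rw [Subgroup.card_top, hcard]) ⟨⟨a, trivial⟩, ⟨b, trivial⟩, fun h => hna (congrArg Subtype.val h)⟩
          fun u w hu => Subtype.ext (hinv u w (congrArg Subtype.val hu)).eq)
    · obtain ⟨M, hMi, hMc⟩ := Lib.PLocal.Supersol.exists_invariant_maximal hp2 hS hm
        (fun h => hlist (Or.inl h)) hcy
      refine ⟨Lib.PLocal.MetacyclicClosed.isNormal_of_metacyclic hS hp2 hF hclosed hm, ?_⟩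
      exact Lib.PLocal.Supersol.exists_pcore_of_maximal hS hm (F.autGroup S) M hMi inferInstance
        fun α _ x hx => by
          rw [← Subgroup.characteristic_iff_comap_eq.1 hMc α] at hx
          exact hx
  obtain ⟨hn, P₀, hP₀, hab, hexp⟩ := hPG
  exact Lib.PLocal.Supersol.hasChain_of_normal F hn fun N hN hne =>
    Lib.PLocal.Supersol.exists_step hS (F.autGroup S) hInn P₀ hP₀ hab hexp N hN hne

end Cfsg.Agent.S5287
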