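import Cfsg.Statements.S5289
import Cfsg.Agent.S3888
import Cfsg.Agent.Lib.PLocal.MetacyclicClosed
import Cfsg.Agent.Lib.RankTwoResistant.Essential
import Cfsg.Agent.Lib.RankTwoResistant.Counting

set_option autoImplicit false
open Cfsg

namespace Cfsg.Agent.S5289

open Cfsg.FusionSystem Cfsg.Agent.Lib.Fusion Cfsg.Agent.Lib.RankTwoResistant

universe u

variable {Ω : Type u} [Group Ω] {S : Subgroup Ω} [Finite S] {p : ℕ} [hp : Fact p.Prime]

/-- The second family with `n ≥ 4`: no essential subgroups. -/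
theorem central_case (hS : IsPGroup p S) {F : FusionSystem S} (hF : F.IsSaturated p) (hp5 : 5 ≤ p)
    {n : ℕ} (hn : 4 ≤ n) (hcard : Nat.card S = p ^ n) (x y z : S)
    (hgen : Subgroup.closure ({x, y, z} : Set S) = ⊤) (hx : x ^ p = 1) (hy : y ^ p = 1)
    (hxz : x * z = z * x) (hyz : y * z = z * y) (hxy : x⁻¹ * y * x = y * z ^ p ^ (n - 3))
    {E : Subgroup Ω} (hE : F.IsEssential p E) : False := by
  have hES := hE.1.1
  have := finite_of_le hES
  have hlt := IsEssential.lt hF hS hE
  have hzc : ∀ g : S, Commute z g := by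
    intro g
    suffices hle : (⊤ : Subgroup S) ≤ Subgroup.centralizer {z} from
      (Subgroup.mem_centralizer_singleton_iff.1 (hle (Subgroup.mem_top g))).symm
    rw [← hgen, Subgroup.closure_le]
    rintro a (rfl | rfl | rfl)
    · exact Subgroup.mem_centralizer_singleton_iff.2 hxz
    · exact Subgroup.mem_centralizer_singleton_iff.2 hyz
    · exact Subgroup.mem_centralizer_singleton_iff.2 rfl
  have hzE : (z : Ω) ∈ E := hE.1.2 E (isConj_refl F hES) (mem_centralizerIn.2 ⟨z.2, fun e he => by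
    exact (congrArg Subtype.val (hzc ⟨e, hES he⟩).eq).symm⟩)
  have hA1 : y ∈ Subgroup.closure ({y, z} : Set S) := Subgroup.subset_closure (Set.mem_insert y {z})
  have hA2 : z ∈ Subgroup.closure ({y, z} : Set S) :=
    Subgroup.subset_closure (Set.mem_insert_of_mem y rfl)
  have h1 : x⁻¹ * y * x ∈ Subgroup.closure ({y, z} : Set S) := by
    rw [hxy]; exact mul_mem hA1 (pow_mem hA2 _)
  have h2 : x⁻¹ * z * x ∈ Subgroup.closure ({y, z} : Set S) := by
    rw [mul_assoc, ← hxz, inv_mul_cancel_left]; exact hA2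
  have hbound : p ^ n ≤ p * (p * orderOf z) := by
    rw [← hcard]
    exact (Counting.card_le hgen h1 h2 hx).trans
      (Nat.mul_le_mul_left _ (Counting.card_A_le (hzc y).symm hy))
  -- `E` modulo the centre is cyclic
  set E' : Subgroup S := E.subgroupOf S with hE'
  have hzE' : Subgroup.zpowers z ≤ E' := Subgroup.zpowers_le.2 hzE
  have hEcard : Nat.card E' = Nat.card E := Nat.card_congr (Subgroup.subgroupOfEquivOfLe hES).toEquiv
  have hEpos : 0 < Nat.card E' := Nat.card_pos
  have hne : E' ≠ ⊤ := fun e => hlt.ne (le_antisymm hES fun g hg => by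
    have : (⟨g, hg⟩ : S) ∈ E' := by rw [e]; trivial
    exact this)
  have hrel : (Subgroup.zpowers z).relIndex E' ∣ p := by
    have hd : (Subgroup.zpowers z).relIndex E' * E'.index = (Subgroup.zpowers z).index :=
      Subgroup.relIndex_mul_index hzE'
    have hidx : (Subgroup.zpowers z).index ≤ p ^ 2 := by
      have := (Subgroup.zpowers z).card_mul_index
      rw [Nat.card_zpowers, hcard] at this
      refine Nat.le_of_mul_le_mul_left ?_ (orderOf_pos z)
      rw [this, sq]
      linarith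
    obtain ⟨b, hb, hbe⟩ := (Nat.dvd_prime_pow hp.out).1
      (hcard ▸ (Subgroup.zpowers z).index_dvd_card)
    rw [hbe] at hidx hd
    have hb2 : b ≤ 2 := (Nat.pow_le_pow_iff_right hp.out.one_lt).1 hidx
    obtain ⟨c, hc, hce⟩ := (Nat.dvd_prime_pow hp.out).1 (hcard ▸ E'.index_dvd_card)
    have hc1 : 1 ≤ c := by
      rcases Nat.eq_zero_or_pos c with h0 | h0
      · rw [h0, pow_zero, Subgroup.index_eq_one] at hce; exact absurd hce hne
      · exact h0
    obtain ⟨a, ha, hae⟩ := (Nat.dvd_prime_pow hp.out).1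
      (show (Subgroup.zpowers z).relIndex E' ∣ p ^ b from ⟨_, hd.symm⟩)
    rw [hae, hce, ← pow_add] at hd
    have := Nat.pow_right_injective hp.out.two_le hd
    rw [hae]
    exact (Nat.pow_dvd_pow p (show a ≤ 1 by omega)).trans (pow_one p).dvd
  haveI hZn : (Subgroup.zpowers z).Normal := ⟨fun v hv g => by
    obtain ⟨i, rfl⟩ := Subgroup.mem_zpowers_iff.1 hv
    rw [← ((hzc g).zpow_left i).eq, mul_inv_cancel_right]
    exact Subgroup.zpow_mem _ (Subgroup.mem_zpowers z) i⟩
  -- a generator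
  obtain ⟨u, huE, hu⟩ : ∃ u ∈ E', ∀ v ∈ E', ∃ i : ℤ, (u ^ i)⁻¹ * v ∈ Subgroup.zpowers z := by
    rcases (Nat.dvd_prime hp.out).1 hrel with h0 | h0
    · refine ⟨1, one_mem _, fun v hv => ⟨0, ?_⟩⟩
      rw [zpow_zero, inv_one, one_mul]
      exact Subgroup.relIndex_eq_one.1 h0 hv
    · have : IsCyclic (E' ⧸ (Subgroup.zpowers z).subgroupOf E') := isCyclic_of_prime_card h0
      obtain ⟨q, hq⟩ := IsCyclic.exists_generator (α := E' ⧸ (Subgroup.zpowers z).subgroupOf E')
      obtain ⟨⟨u, hu⟩, rfl⟩ := QuotientGroup.mk_surjective q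
      refine ⟨u, hu, fun v hv => ?_⟩
      obtain ⟨i, hi⟩ := Subgroup.mem_zpowers_iff.1 (hq (QuotientGroup.mk ⟨v, hv⟩))
      refine ⟨i, ?_⟩
      rw [← QuotientGroup.mk_zpow, QuotientGroup.eq] at hi
      exact hi
  set U : E := ⟨u, huE⟩ with hU
  set Z : E := ⟨z, hzE⟩ with hZ
  have hspan : ∀ g : E, ∃ i j : ℕ, g = U ^ i * Z ^ j := fun g => by
    obtain ⟨i, hi⟩ := hu ⟨g, hES g.2⟩ g.2
    obtain ⟨d, hd⟩ := Subgroup.mem_zpowers_iff.1 hi
    obtain ⟨a, ha⟩ := exists_nat_pow U i
    obtain ⟨b, hb⟩ := exists_nat_pow Z d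
    refine ⟨a, b, ?_⟩
    rw [ha, hb]
    have e := congrArg Subtype.val hd
    simp only [Subgroup.coe_mul, SubgroupClass.coe_zpow, InvMemClass.coe_inv] at e
    refine Subtype.ext ?_
    show (g : Ω) = (u : Ω) ^ i * (z : Ω) ^ d
    rw [e, mul_inv_cancel_left]
  have hUZ : Commute U Z := Subtype.ext
    (show (u : Ω) * z = z * u from congrArg Subtype.val (hzc u).symm.eq)
  have hab : IsMulCommutative E := ⟨⟨fun a b => by
    obtain ⟨i, j, rfl⟩ := hspan a
    obtain ⟨k, l, rfl⟩ := hspan b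
    exact (((((Commute.refl U).pow_pow i k).mul_right (hUZ.pow_pow i l))).mul_left
      ((hUZ.symm.pow_pow j k).mul_right ((Commute.refl Z).pow_pow j l))).eq⟩⟩
  rcases Cfsg.Agent.S5187.result p hS F hF E hE hab
      (frattini_index_le_of_two (hS.to_le hES) U Z hspan) with ⟨hel, -⟩ | ⟨h3, -⟩
  · have hzp : z ^ p = 1 := Subtype.ext (hel.2 _ hzE)
    have hoz : orderOf z ≤ p := Nat.le_of_dvd hp.out.pos (orderOf_dvd_of_pow_eq_one hzp)
    have : p ^ n ≤ p ^ 3 := hbound.trans (by
      rw [show p ^ 3 = p * (p * p) by ring]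
      exact Nat.mul_le_mul_left _ (Nat.mul_le_mul_left _ hoz))
    have := (Nat.pow_le_pow_iff_right hp.out.one_lt).1 this
    omega
  · omega

/-- The second family with `n = 3` has exponent `p`. -/
theorem exponent_case (hp5 : 5 ≤ p) (hcard : Nat.card S = p ^ 3) (x y z : S)
    (hgen : Subgroup.closure ({x, y, z} : Set S) = ⊤) (hx : x ^ p = 1) (hy : y ^ p = 1)
    (hz : z ^ p = 1) (hxz : x * z = z * x) (hyz : y * z = z * y) (hxy : x⁻¹ * y * x = y * z) :
    Monoid.exponent S = p := by
  have hzc : ∀ g : S, Commute z g := by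
    intro g
    suffices hle : (⊤ : Subgroup S) ≤ Subgroup.centralizer {z} from
      (Subgroup.mem_centralizer_singleton_iff.1 (hle (Subgroup.mem_top g))).symm
    rw [← hgen, Subgroup.closure_le]
    rintro a (rfl | rfl | rfl)
    · exact Subgroup.mem_centralizer_singleton_iff.2 hxz
    · exact Subgroup.mem_centralizer_singleton_iff.2 hyz
    · exact Subgroup.mem_centralizer_singleton_iff.2 rfl
  have hA1 : y ∈ Subgroup.closure ({y, z} : Set S) := Subgroup.subset_closure (Set.mem_insert y {z})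
  have hA2 : z ∈ Subgroup.closure ({y, z} : Set S) :=
    Subgroup.subset_closure (Set.mem_insert_of_mem y rfl)
  have hyx : ∀ i j : ℕ, y ^ i * x ^ j = x ^ j * y ^ i * z ^ (i * j) := by
    intro i j
    have e0 : y * x = x * y * z := by
      have := congrArg (x * ·) hxy
      simpa [mul_assoc] using this
    induction j with
    | zero => simp
    | succ j ih =>
      have e1 : y ^ i * x = x * y ^ i * z ^ i := by
        clear ih
        induction i with
        | zero => simp
        | succ i ih =>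
          rw [pow_succ' y, mul_assoc, ih, ← mul_assoc, ← mul_assoc, e0,
            mul_assoc (x * y) z, ((hzc _)).eq, pow_succ' z]
          simp only [mul_assoc]
      calc y ^ i * x ^ (j + 1) = x ^ j * y ^ i * z ^ (i * j) * x := by
            rw [pow_succ x, ← mul_assoc, ih]
        _ = x ^ j * (y ^ i * x) * z ^ (i * j) := by
            rw [mul_assoc _ _ x, ((hzc x).pow_left _).eq]; simp only [mul_assoc]
        _ = x ^ (j + 1) * y ^ i * z ^ (i * (j + 1)) := by
            rw [e1, pow_succ x, Nat.mul_succ, Nat.add_comm, pow_add]; simp only [mul_assoc]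
  have hpow : ∀ g : S, g ^ p = 1 := by
    intro g
    obtain ⟨k, a, ha, rfl⟩ := Counting.decomp hgen (by rw [hxy]; exact mul_mem hA1 hA2)
      (by rw [mul_assoc, ← hxz, inv_mul_cancel_left]; exact hA2) g
    obtain ⟨i, c, hc, rfl⟩ := Counting.exists_A (hzc y).symm ha
    obtain ⟨d, rfl⟩ := Subgroup.mem_zpowers_iff.1 hc
    have hcz : ∀ g, Commute (z ^ (i * k)) g := fun g => (hzc g).pow_left _
    rw [← mul_assoc, ((hzc _).zpow_left d).symm.mul_pow,
      Counting.pow_mul_of_central (hyx i k) hcz, ← pow_mul, ← pow_mul, mul_comm k, mul_comm i,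
      pow_mul, pow_mul, hx, hy, one_pow, one_pow, one_mul, one_mul, ← zpow_natCast (z ^ d),
      zpow_comm, zpow_natCast, hz, one_zpow, mul_one]
    obtain ⟨q, hq⟩ : p ∣ p.choose 2 := hp.out.dvd_choose_self two_ne_zero (by omega)
    rw [hq, ← pow_mul, mul_comm p, ← mul_assoc, mul_comm, pow_mul, hz, one_pow]
  refine Nat.dvd_antisymm (Monoid.exponent_dvd_of_forall_pow_eq_one hpow) ?_
  have hnt : Nontrivial S := Finite.one_lt_card_iff_nontrivial.1
    (by rw [hcard]; exact Nat.one_lt_pow three_ne_zero hp.out.one_lt)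
  obtain ⟨g, hg⟩ := exists_ne (1 : S)
  have := Monoid.order_dvd_exponent g
  rwa [orderOf_eq_prime (hpow g) hg] at this

theorem closure_image {x y z : S} (hgen : Subgroup.closure ({x, y, z} : Set S) = ⊤) :
    Subgroup.closure ({(x : Ω), (y : Ω), (z : Ω)} : Set Ω) = S := by
  have := congrArg (Subgroup.map S.subtype) hgen
  rw [MonoidHom.map_closure, ← MonoidHom.range_eq_map, Subgroup.range_subtype, Set.image_insert_eq,
    Set.image_insert_eq, Set.image_singleton] at this
  exact this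

/-- The third family yields the data `Fam`. -/
theorem fam_of_family (hp5 : 5 ≤ p) {n : ℕ} (hn : 4 ≤ n) (hcard : Nat.card S = p ^ n) (s : ℕ)
    (x y z : S) (hs : s = 1 ∨ ¬ IsSquare (s : ZMod p))
    (hgen : Subgroup.closure ({x, y, z} : Set S) = ⊤) (hx : x ^ p = 1) (hy : y ^ p = 1)
    (hz : z ^ p ^ (n - 2) = 1) (hyz : y * z = z * y)
    (hxy : x⁻¹ * y * x = y * z ^ (s * p ^ (n - 3))) (hxz : x⁻¹ * z * x = y * z) :
    Fam p S (x : Ω) y z (n - 3) s := by
  have hA1 : y ∈ Subgroup.closure ({y, z} : Set S) := Subgroup.subset_closure (Set.mem_insert y {z})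
  have hA2 : z ∈ Subgroup.closure ({y, z} : Set S) :=
    Subgroup.subset_closure (Set.mem_insert_of_mem y rfl)
  have h1 : x⁻¹ * y * x ∈ Subgroup.closure ({y, z} : Set S) := by
    rw [hxy]; exact mul_mem hA1 (pow_mem hA2 _)
  have h2 : x⁻¹ * z * x ∈ Subgroup.closure ({y, z} : Set S) := by
    rw [hxz]; exact mul_mem hA1 hA2
  have hA := Counting.card_A_le (p := p) hyz hy
  have hzle : orderOf z ≤ p ^ (n - 2) :=
    Nat.le_of_dvd (pow_pos hp.out.pos _) (orderOf_dvd_of_pow_eq_one hz)
  have hb : p ^ n ≤ p * Nat.card (Subgroup.closure ({y, z} : Set S)) :=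
    hcard ▸ Counting.card_le hgen h1 h2 hx
  have hlt : ∀ a b : ℕ, a < b → p ^ a < p ^ b := fun a b h => Nat.pow_lt_pow_right hp.out.one_lt h
  have hzc : orderOf z = p ^ (n - 2) := by
    refine le_antisymm hzle ?_
    have h3 : p ^ n ≤ p * (p * orderOf z) := hb.trans (Nat.mul_le_mul_left _ hA)
    conv_lhs at h3 => rw [show n = n - 2 + 1 + 1 by omega, pow_succ', pow_succ']
    exact Nat.le_of_mul_le_mul_left (Nat.le_of_mul_le_mul_left h3 hp.out.pos) hp.out.pos
  have hxA : x ∉ Subgroup.closure ({y, z} : Set S) := fun hm => by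
    have h3 := (hcard ▸ Counting.card_le_of_mem hgen h1 h2 hm : p ^ n ≤ _).trans hA
    rw [hzc, ← pow_succ'] at h3
    exact absurd h3 (not_le.2 (hlt _ _ (by omega)))
  refine ⟨x.2, y.2, z.2, by omega, ?_, closure_image hgen, ?_, ?_, congrArg Subtype.val hy, ?_, ?_,
    show (y : Ω) * z = z * y from congrArg Subtype.val hyz, congrArg Subtype.val hxy,
    congrArg Subtype.val hxz⟩
  · intro hd
    rcases hs with rfl | hs
    · exact hp.out.one_lt.ne' (Nat.dvd_one.1 hd)
    · exact hs (by rw [(ZMod.natCast_eq_zero_iff s p).2 hd]; exact IsSquare.zero)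
  · intro hm
    refine hxA ?_
    have e : Subgroup.closure ({(y : Ω), (z : Ω)} : Set Ω) =
        (Subgroup.closure ({y, z} : Set S)).map S.subtype := by
      rw [MonoidHom.map_closure, Set.image_insert_eq, Set.image_singleton]; rfl
    rw [e] at hm
    exact (Subgroup.mem_map_iff_mem S.subtype_injective).1 hm
  · rw [show (x : Ω) ^ p = ((x ^ p : S) : Ω) from rfl, hx]
    exact one_mem _
  · rw [Subgroup.orderOf_coe, hzc]
    congr 1
    omega
  · intro hm
    obtain ⟨i, hi⟩ := Subgroup.mem_zpowers_iff.1 hm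
    have hyz' : y ∈ Subgroup.zpowers z := ⟨i, Subtype.ext hi⟩
    have hle : Subgroup.closure ({y, z} : Set S) ≤ Subgroup.zpowers z := by
      rw [Subgroup.closure_le]; rintro a (rfl | rfl); exacts [hyz', Subgroup.mem_zpowers _]
    have h3 := hb.trans (Nat.mul_le_mul_left _ (Subgroup.card_le_of_le hle))
    rw [Nat.card_zpowers, hzc, ← pow_succ'] at h3
    exact absurd h3 (not_le.2 (hlt _ _ (by omega)))

/-- Let p ≥ 5 be a prime and S a finite p-group of p-rank two (it has an elementary abelian subgroup of order p² and none of order p³) which is not the extraspecial group of order p³ and exponent p. Then S is resistant: for every saturated fusion system F over S, S is normal in F, that is, every map of F extends to an F-automorphism of S. -/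
theorem result {Ω : Type*} [Group Ω] {S : Subgroup Ω} [Finite S] (p : ℕ) [Fact p.Prime] (hS : IsPGroup p S)
    (F : Cfsg.FusionSystem S) (hF : F.IsSaturated p)
    (hp : 5 ≤ p)
    (hrank2 : ∃ E : Subgroup Ω, E ≤ S ∧ Cfsg.IsElementaryAbelian p E ∧ Nat.card E = p ^ 2)
    (hrank3 : ∀ E : Subgroup Ω, E ≤ S → Cfsg.IsElementaryAbelian p E → Nat.card E ≤ p ^ 2)
    (hnotE : ¬ (Nat.card S = p ^ 3 ∧ Monoid.exponent ↥S = p)) : F.IsNormal S := by
  have hne : p ≠ 2 := by omega
  have hclosed : F.StronglyClosed S := ⟨le_rfl, fun R _ φ hφ v => apply_mem hφ v⟩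
  obtain ⟨n, hn⟩ := IsPGroup.iff_card.1 hS
  have hrk : Cfsg.PRankLE p 2 S := fun A hA hA' => by
    rw [← Subgroup.card_map_of_injective S.subtype_injective]
    refine hrank3 _ (Subgroup.map_subtype_le A) ⟨⟨⟨?_⟩⟩, ?_⟩
    · rintro ⟨_, a, ha, rfl⟩ ⟨_, b, hb, rfl⟩
      refine Subtype.ext ?_
      show (a : Ω) * b = b * a
      exact congrArg (fun v : A => ((v : S) : Ω)) (hA.is_comm.comm ⟨a, ha⟩ ⟨b, hb⟩)
    · rintro _ ⟨a, ha, rfl⟩
      exact congrArg Subtype.val (hA' a ha)
  rcases Cfsg.Agent.S3888.result hne n hn hrk with hm | ⟨hn3, x, y, z, hgen, hx, hy, hz, hxz, hyz, hxy⟩ |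
    ⟨hn4, s, x, y, z, hs, hgen, hx, hy, hz, hyz, hxy, hxz⟩ | ⟨h3, -, -⟩
  · exact Cfsg.Agent.Lib.PLocal.MetacyclicClosed.isNormal_of_metacyclic hS hne hF hclosed hm
  · rcases eq_or_lt_of_le hn3 with rfl | hn4
    · refine absurd ⟨hn, exponent_case hp hn x y z hgen hx hy (by simpa using hz) hxz hyz ?_⟩ hnotE
      simpa using hxy
    · exact normal_of_stronglyClosed_of_le hS hF hclosed fun E hE =>
        (central_case hS hF hp hn4 hn x y z hgen hx hy hxz hyz hxy hE).elim
  · have hFam := fam_of_family hp hn4 hn s x y z hs hgen hx hy hz hyz hxy hxz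
    exact normal_of_stronglyClosed_of_le hS hF hclosed fun E hE =>
      (hFam.not_essential hS hF hp hE).elim
  · omega

end Cfsg.Agent.S5289
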