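import Cfsg.Statements.S5292
import Cfsg.Agent.Lib.Blocks.PSolvable
import Cfsg.Agent.Lib.Fusion.ModelExists
import Cfsg.Agent.Lib.Fusion.ModelUnique
import Cfsg.Agent.Lib.Fusion.FactorSectionFree

set_option autoImplicit false
universe u
open Cfsg Cfsg.FusionSystem Cfsg.Agent.Lib.Fusion

namespace Cfsg.Agent.S5292

theorem psolv_of_surjective {G A : Type*} [Group G] [Group A] [Finite G] {p : ℕ} [hp : Fact p.Prime]
    (f : G →* A) (hs : Function.Surjective f) (h : IsPSolvable p G) : IsPSolvable p A := by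
  obtain ⟨n, H, h0, h1, hm, hn, hf⟩ := h
  refine ⟨n, fun i => (H i).map f, by simp only [h0, Subgroup.map_bot], by
      simp only [h1, Subgroup.map_top_of_surjective _ hs],
    fun i j hij => Subgroup.map_mono (hm hij), fun i => (hn i).map _ hs, fun i => ?_⟩
  have hd : ((H i.castSucc).map f).relIndex ((H i.succ).map f) ∣
      (H i.castSucc).relIndex (H i.succ) := by
    rw [Subgroup.relIndex_map_map]
    haveI := hn i.castSucc
    haveI : (H i.castSucc ⊔ f.ker).Normal := Subgroup.sup_normal _ _
    have e : H i.succ ⊔ f.ker = H i.succ ⊔ (H i.castSucc ⊔ f.ker) := by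
      rw [← sup_assoc, sup_eq_left.mpr (hm (Fin.castSucc_lt_succ).le : H i.castSucc ≤ H i.succ)]
    rw [e, Subgroup.relIndex_sup_right]
    exact Subgroup.relIndex_dvd_of_le_left _ le_sup_left
  rcases hf i with ⟨m, hm'⟩ | hcop
  · obtain ⟨m', -, hm''⟩ := (Nat.dvd_prime_pow hp.out).1 (hm' ▸ hd)
    exact Or.inl ⟨m', hm''⟩
  · exact Or.inr (hcop.coprime_dvd_left hd)

theorem psolv_of_ker {G A : Type*} [Group G] [Group A] [Finite G] {p : ℕ} [hp : Fact p.Prime]
    (f : G →* A) (hs : Function.Surjective f) (hk : IsPGroup p f.ker) (h : IsPSolvable p A) :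
    IsPSolvable p G := by
  obtain ⟨n, H, h0, h1, hm, hn, hf⟩ := h
  refine ⟨n + 1, Fin.cons ⊥ fun i => (H i).comap f, rfl, ?_, ?_, ?_, ?_⟩
  · rw [← Fin.succ_last, Fin.cons_succ, h1, Subgroup.comap_top]
  · intro i j hij
    induction i using Fin.cases with
    | zero => simp
    | succ i =>
      induction j using Fin.cases with
      | zero => simp at hij
      | succ j => simpa using Subgroup.comap_mono (f := f) (hm (Fin.succ_le_succ_iff.1 hij))
  · intro i
    induction i using Fin.cases with
    | zero => rw [Fin.cons_zero]; infer_instance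
    | succ i => rw [Fin.cons_succ]; exact (hn i).comap f
  · intro i
    induction i using Fin.cases with
    | zero =>
      obtain ⟨m, hm'⟩ := IsPGroup.iff_card.1 hk
      refine Or.inl ⟨m, ?_⟩
      rw [Fin.castSucc_zero, Fin.cons_zero, Fin.cons_succ, h0, MonoidHom.comap_bot,
        Subgroup.relIndex_bot_left]
      exact hm'
    | succ i =>
      rw [← Fin.succ_castSucc, Fin.cons_succ, Fin.cons_succ, Subgroup.relIndex_comap,
        Subgroup.map_comap_eq_self_of_surjective hs]
      exact hf i

/-- Let F be a saturated fusion system over a finite p-group S. Then F is the fusion system of some finite p-solvable group on a Sylow p-subgroup if and only if F is constrained (some subgroup normal in F is centric in F) and the group of automorphisms that F induces on its largest normal subgroup O_p(F) is p-solvable. -/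
theorem result {Ω : Type u} [Group Ω] {S : Subgroup Ω} [Finite S] (p : ℕ) [Fact p.Prime] (hS : IsPGroup p S)
    (F : Cfsg.FusionSystem S) (hF : F.IsSaturated p) :
    (∃ (G : Type u) (_ : Group G) (_ : Finite G) (ι : S →* G), Cfsg.IsPSolvable p G ∧ F.IsRealizedBy ι ∧
        ∃ T : Sylow p G, (T : Subgroup G) = ι.range) ↔
      (F.IsConstrained p ∧ Cfsg.IsPSolvable p ↥(F.autGroup F.core)) := by
  classical
  constructor
  · rintro ⟨G, _, _, ι, hsol, hreal, T, hT⟩
    set K := pPrimeCore p G with hK
    haveI : K.Normal := (Cfsg.Agent.Lib.Cores.pPrimeCore_mem p G).1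
    have hKc : (Nat.card K).Coprime p := Cfsg.Agent.Lib.Cores.pPrimeCore_coprime p G
    have hq := IsRealizedBy.quotient_pprime hreal T hT K hKc
    have hsol' : IsPSolvable p (G ⧸ K) :=
      psolv_of_surjective (QuotientGroup.mk' K) (QuotientGroup.mk'_surjective K) hsol
    have hsylow : ((T.mapSurjective (QuotientGroup.mk'_surjective K) : Sylow p (G ⧸ K)) :
        Subgroup (G ⧸ K)) = ((QuotientGroup.mk' K).comp ι).range := by
      rw [MonoidHom.range_comp, ← hT]
      rfl
    have hmod : F.IsModel p (G ⧸ K) ((QuotientGroup.mk' K).comp ι) :=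
      ⟨inferInstance, hq, ⟨_, hsylow⟩, Cfsg.Agent.Lib.Blocks.centralizer_pCore_le_of_isPSolvable p
        hsol' (Cfsg.Agent.Lib.Cores.pPrimeCore_quotient_pPrimeCore p G)⟩
    exact ⟨IsModel.isConstrained hmod,
      psolv_of_surjective (Model.modelAct hmod) (Model.modelAct_surjective hmod) hsol'⟩
  · rintro ⟨hc, hsol⟩
    obtain ⟨G, _, ι, hmod⟩ := exists_model hS hc
    haveI := hmod.1
    refine ⟨G, inferInstance, hmod.1, ι, psolv_of_ker (Model.modelAct hmod) (Model.modelAct_surjective hmod) ?_ hsol,
      hmod.2.1, hmod.2.2.1⟩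
    intro g
    obtain ⟨c, hcg⟩ := Model.exists_of_modelAct_eq_one hmod (Model.data_core hS hc) (g := (g : G)) g.2
    obtain ⟨T, hT⟩ := hmod.2.2.1
    obtain ⟨k, hk⟩ := T.2 ⟨(g : G), hT ▸ ⟨_, hcg⟩⟩
    exact ⟨k, Subtype.ext (congrArg (fun z : (T : Subgroup G) => (z : G)) hk)⟩

end Cfsg.Agent.S5292
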