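import Cfsg.Statements.S5295
import Cfsg.Agent.Lib.Fusion.CenterFactor
import Cfsg.Agent.Lib.FusionControl.KWeakElement
import Cfsg.Agent.S5196
import Cfsg.Agent.Lib.Fusion.NormalizerFacts
import Cfsg.Agent.Lib.Fusion.KNormalizer

set_option autoImplicit false
universe u
open Cfsg Cfsg.FusionSystem Cfsg.Agent.Lib.Fusion

namespace Cfsg.Agent.S5295

/-- Let F be a saturated fusion system over a finite p-group S with p odd. Then the centre Z(F) of F is a direct factor of Z(S): there is a subgroup K of Z(S) with Z(F) ∩ K = 1 and Z(F)K = Z(S). (At the prime 2 this can fail.) -/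
theorem result {Ω : Type u} [Group Ω] {S : Subgroup Ω} [Finite S] (p : ℕ) [Fact p.Prime] (hp : p ≠ 2) (hS : IsPGroup p S)
    (F : Cfsg.FusionSystem S) (hF : F.IsSaturated p) :
    ∃ K : Subgroup Ω, K ≤ (S ⊓ Subgroup.centralizer (S : Set Ω)) ∧ F.center ⊓ K = ⊥ ∧ F.center ⊔ K = (S ⊓ Subgroup.centralizer (S : Set Ω)) := by
  have hWc : Cfsg.IsCharPFunctor.{u} p Cfsg.kInfLower := Lib.FusionControl.isCharPFunctor_kInfLower
  set W := (Cfsg.kInfLower ↥S).map S.subtype with hWdef
  have hWS : W ≤ S := Subgroup.map_subtype_le _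
  have hnW : S ≤ Subgroup.normalizer (W : Set Ω) := by
    have hnb : S ≤ Subgroup.normalizer ((⊥ : Subgroup Ω) : Set Ω) := fun x _ =>
      mem_normalizer_of_finite fun y hy => by
        rw [Subgroup.mem_bot.1 hy]
        simp
    have hPF : IsPFunctor p Cfsg.kInfLower := ⟨hWc.1, hWc.2⟩
    intro g hg
    rw [hWdef, ← relFunctor_bot hPF S hS]
    exact normalizer_le_relFunctor hPF hS hnb ⟨Subgroup.le_normalizer hg, hnb hg⟩
  have eT : normalizerIn S W = S := le_antisymm (normalizerIn_le S W) fun g hg => ⟨hg, hnW hg⟩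
  have : Finite (normalizerIn S W) := finite_of_le (normalizerIn_le S W)
  have hspec := normalizerSystem_spec F W hWS
  have hWfn : F.IsFullyNormalized W := ⟨hWS, fun R _ => by
    rw [eT]; exact Subgroup.card_le_of_le (normalizerIn_le S R)⟩
  have hNs := normalizerSystem_isSaturated hS hF hWfn hspec
  set N := normalizerSystem F W hWS
  have hloc : ∀ (G : Type u) [Group G] [Finite G] (P : Sylow p G),
      Cfsg.pCore p G ⊓ Subgroup.center G = Cfsg.pCore p G ⊓
        (Subgroup.center ↥(Subgroup.normalizer (((Cfsg.kInfLower ↥(P : Subgroup G)).map (P : Subgroup G).subtype : Subgroup G) : Set G))).map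
        (Subgroup.normalizer (((Cfsg.kInfLower ↥(P : Subgroup G)).map (P : Subgroup G).subtype : Subgroup G) : Set G)).subtype := by
    intro G _ _ P
    refine le_antisymm ?_ ?_ <;> rintro x ⟨hxQ, hx⟩
    · refine ⟨hxQ, ⟨x, ?_⟩, Subgroup.mem_center_iff.2 fun y => Subtype.ext (Subgroup.mem_center_iff.1 hx y), rfl⟩
      exact Lib.Fusion.mem_normalizer_of_finite fun w hw => by
        rw [← Subgroup.mem_center_iff.1 hx w, mul_inv_cancel_right]; exact hw
    · obtain ⟨y, hy, rfl⟩ := hx
      refine ⟨hxQ, Subgroup.mem_center_iff.2 fun g => ?_⟩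
      have hS' := Lib.Cores.pCore_le_sylow P hxQ
      have h1 := Lib.FusionControl.weaklyClosed_element hp P (x := (y : G))
        ⟨hS', fun n hn => congrArg Subtype.val (Subgroup.mem_center_iff.1 hy ⟨n, hn⟩)⟩ g
        (Lib.Cores.pCore_le_sylow P ((Cfsg.pCore_normal p G).conj_mem _ hxQ g))
      exact mul_inv_eq_iff_eq_mul.1 h1
  have hWZ : ∀ (Q : Type u) [Group Q] [Finite Q], IsPGroup p Q → Subgroup.center Q ≤ Cfsg.kInfLower Q :=
    fun Q _ _ hQ => (Lib.FusionControl.center_le_kInfLower (P := Q) hQ).1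
  have hNc : N.center = F.center :=
    Cfsg.Agent.S5196.result hp Cfsg.kInfLower hWc.1 hWc.2 hWZ hloc hS F hF N hspec
  have hZ : normalizerIn S W ⊓ Subgroup.centralizer (normalizerIn S W : Set Ω) ≤ N.core := by
    refine le_trans ?_ (le_core (IsNormalizerSystem.isNormal hspec hWS))
    rw [eT]
    intro z hz
    exact ⟨⟨z, hz.1⟩, hWZ ↥S hS (Subgroup.mem_center_iff.2 fun y => Subtype.ext (hz.2 y y.2)), rfl⟩
  obtain ⟨K, hK⟩ := exists_center_compl (hS.to_le (normalizerIn_le S W)) hNs hZ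
  rw [hNc, eT] at hK
  exact ⟨K, hK⟩

end Cfsg.Agent.S5295
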