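import Cfsg.Statements.S5297
import Cfsg.Agent.Lib.Fusion.SmallCyclic
import Cfsg.Agent.S0093
import Cfsg.Agent.S0121
import Cfsg.Agent.Lib.Cores.Frattini

set_option autoImplicit false
universe u
open Cfsg Cfsg.FusionSystem Cfsg.Agent.Lib.Fusion

namespace Cfsg.Agent.S5297

open Cfsg.Agent.Lib.Involutions commutatorElement in
theorem exists_small_detecting.{v} {N : Type v} [Group N] [Finite N] {p : ℕ} [Fact p.Prime]
    (hN : IsPGroup p N) :
    ∃ C : Subgroup N, (∀ (a : MulAut N), ∀ x ∈ C, a x ∈ C) ∧ (∀ x ∈ C, SmallOrder p x) ∧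
      ∀ a : MulAut N, (orderOf a).Coprime p → (∀ x ∈ C, a x = x) → a = 1 := by
  classical
  obtain ⟨H, hHc, h1, h2, h3⟩ := Cfsg.Agent.S0093.result hN
  have hHp := hN.to_subgroup H
  have hcomm : ∀ x y z : H, Commute ⁅y, x⁆ z := fun x y z => by
    have h := (h2 (Subgroup.commutator_mem_commutator y.2 (Subgroup.mem_top (x : N)))).2
    exact Subtype.ext (Subgroup.mem_centralizer_iff.1 h z z.2).symm
  have hpw : ∀ x y : H, Commute (y ^ p) x := fun x y => by
    have h := h1 ⟨y ^ p, Cfsg.Agent.Lib.Cores.pow_mem_frattini hHp y, rfl⟩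
    exact Subtype.ext (Subgroup.mem_centralizer_iff.1 h x x.2).symm
  let C₀ : Subgroup H :=
    { carrier := {x | SmallOrder p x}
      one_mem' := Or.inl (one_pow p)
      mul_mem' := fun {x y} hx hy => smallOrder_mul (hcomm x y) (hpw x y) hx hy
      inv_mem' := fun {x} hx => by
        rw [Set.mem_setOf_eq, smallOrder_iff] at hx ⊢
        rw [inv_pow, hx, inv_one] }
  have hinv : ∀ (a : MulAut N), ∀ x ∈ H, a x ∈ H := fun a x hx =>
    (Subgroup.characteristic_iff_map_le.1 hHc a) ⟨x, hx, rfl⟩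
  refine ⟨C₀.map H.subtype, fun a x hx => ?_, fun x hx => ?_, fun a ha hfix => ?_⟩
  · obtain ⟨y, hy, rfl⟩ := hx
    refine ⟨⟨a y, hinv a y y.2⟩, ?_, rfl⟩
    have hy' := (smallOrder_iff p y).1 hy
    refine (smallOrder_iff p _).2 (Subtype.ext ?_)
    rw [Subgroup.coe_pow, ← map_pow, ← Subgroup.coe_pow, hy', Subgroup.coe_one, map_one]
  · obtain ⟨y, hy, rfl⟩ := hx
    rw [smallOrder_iff]
    exact congrArg Subtype.val ((smallOrder_iff p y).1 hy)
  · have hH : Cfsg.Agent.Lib.Fusion.restrictAut a H (hinv a) = 1 := by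
      refine Cfsg.Agent.Lib.Fusion.mulAut_eq_one_of_fixes_small hHp _
        (ha.coprime_dvd_left (Cfsg.Agent.Lib.Fusion.orderOf_restrictAut_dvd _ _ _))
        fun x hx => Subtype.ext (hfix x ⟨x, hx, rfl⟩)
    exact Cfsg.Agent.S0121.result hN H hHc h1 h2 h3 a ha fun x hx =>
      congrArg (fun b : MulAut H => ((b ⟨x, hx⟩ : H) : N)) hH

open Cfsg.Agent.Lib.Fusion Cfsg.FusionSystem Cfsg.Agent.Lib.Involutions commutatorElement in
theorem normal_top {Ω : Type*} [Group Ω] {S : Subgroup Ω} [Finite S] (p : ℕ) [Fact p.Prime]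
    (hS : IsPGroup p S) (F : Cfsg.FusionSystem S) (hF : F.IsSaturated p)
    (h : ∀ (P : Subgroup Ω) (β : MulAut P), P ≤ S → β ∈ F.autGroup P →
      ∀ x : P, (x : Ω) ∈ F.hyperfocalSubgroup p → SmallOrder p (x : Ω) →
        ∃ σ ∈ F.Hom S, σ.range = S ∧ ∀ hx : (x : Ω) ∈ S, σ ⟨x, hx⟩ = (β x : P)) :
    F.IsNormal S := by
  classical
  refine normal_of_stronglyClosed_of_le hS hF
    ⟨le_rfl, fun R _ φ hφ x => apply_mem hφ x⟩ fun P hP => ?_
  exfalso
  have hlt := IsEssential.lt hF hS hP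
  have hPS : P ≤ S := hlt.le
  have := finite_of_le hPS
  have := finite_mulAut hPS
  have hnil : Group.IsNilpotent S := hS.isNilpotent
  set H := F.hyperfocalSubgroup p
  have hHsc := hyperfocal_stronglyClosed hS hF
  set N := H.subgroupOf P with hN
  have hNinv : ∀ β ∈ F.autGroup P, ∀ x ∈ N, β x ∈ N := fun β hβ x hx =>
    hHsc.2 (H ⊓ P) inf_le_left _ (restr_mem F (autHom_mem F hPS hβ) inf_le_right) ⟨x, hx, x.2⟩
  obtain ⟨C, hC1, hC2, hC3⟩ := exists_small_detecting ((isPGroup_of_le hS hPS).to_subgroup N)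
  set C' := C.map N.subtype with hC'
  have hCinv : ∀ β ∈ F.autGroup P, ∀ x ∈ C', β x ∈ C' := by
    rintro β hβ _ ⟨y, hy, rfl⟩
    exact ⟨restrictAut β N (hNinv β hβ) y, hC1 _ y hy, rfl⟩
  let U : ℕ → Subgroup P := fun i =>
    C' ⊓ ((Subgroup.upperCentralSeries S i).map S.subtype).subgroupOf P
  have hUinv : ∀ β ∈ F.autGroup P, ∀ i, ∀ x ∈ U i, β x ∈ U i := by
    rintro β hβ i x ⟨hxC, hxU⟩
    refine ⟨hCinv β hβ x hxC, ?_⟩
    obtain ⟨y, hy, hyx⟩ := hxC
    obtain ⟨σ, hσ, hσr, hσe⟩ := h P β hPS hβ x (hyx ▸ y.2) (by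
      rw [← hyx, smallOrder_iff]
      exact congrArg (fun z : N => ((z : P) : Ω)) ((smallOrder_iff p y).1 (hC2 y hy)))
    obtain ⟨z, hz, hzx⟩ := hxU
    refine ⟨isoOf σ (F.injective_of_mem hσ) hσr z, ?_, ?_⟩
    · exact (Subgroup.Characteristic.fixed (H := Subgroup.upperCentralSeries S i) inferInstance
        (isoOf σ (F.injective_of_mem hσ) hσr)).ge hz
    · show σ z = (β x : P)
      rw [← hσe (hPS x.2)]
      exact congrArg σ (Subtype.ext hzx)
  let K : Subgroup (F.autGroup P) :=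
    { carrier := {a | ∀ i, ∀ x ∈ U (i + 1), (a : MulAut P) x * x⁻¹ ∈ U i}
      one_mem' := fun i x _ => by simp
      mul_mem' := by
        intro a b ha hb i x hx
        have h1 := hUinv _ a.2 i _ (hb i x hx)
        have h2 := ha i x hx
        rw [map_mul, map_inv] at h1
        have h3 := (U i).mul_mem h1 h2
        rw [mul_assoc, inv_mul_cancel_left] at h3
        exact h3
      inv_mem' := by
        intro a ha i x hx
        have h1 := (U i).inv_mem (ha i x hx)
        rw [mul_inv_rev, inv_inv] at h1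
        have h2 := hUinv _ (inv_mem a.2) i _ h1
        rw [map_mul, map_inv, MulAut.inv_apply, MulAut.inv_apply, MulEquiv.symm_apply_apply] at h2
        exact h2 }
  have hKn : K.Normal := by
    refine ⟨fun a ha c i x hx => ?_⟩
    have h0' := ha i _ (hUinv _ (inv_mem c.2) (i + 1) x hx)
    have h1 := hUinv _ c.2 i _ h0'
    rw [map_mul, map_inv, MulAut.inv_apply, MulEquiv.apply_symm_apply] at h1
    exact h1
  have hKp : IsPGroup p K := by
    rw [IsPGroup.iff_orderOf]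
    intro a
    obtain ⟨k, m, hm, hN'⟩ := Nat.exists_eq_pow_mul_and_not_dvd (orderOf_pos a).ne' p
      (Fact.out : p.Prime).ne_one
    refine ⟨k, ?_⟩
    set b := a ^ p ^ k with hb
    have hbm : b ^ m = 1 := by rw [hb, ← pow_mul, ← hN', pow_orderOf_eq_one]
    have hbm' : ((b : F.autGroup P) : MulAut P) ^ m = 1 := by
      rw [← Subgroup.coe_pow, ← Subgroup.coe_pow, hbm, Subgroup.coe_one, Subgroup.coe_one]
    have hco : (orderOf ((b : F.autGroup P) : MulAut P)).Coprime p :=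
      (((Fact.out : p.Prime).coprime_iff_not_dvd.2 hm).symm).coprime_dvd_left
        (orderOf_dvd_of_pow_eq_one hbm')
    have hb1 : ((b : F.autGroup P) : MulAut P) = 1 := by
      set β := ((b : F.autGroup P) : MulAut P)
      have hβ : β ∈ F.autGroup P := (b : F.autGroup P).2
      have hCres : ∀ x ∈ C', β x = x := by
        have hres : restrictAut β C' (hCinv β hβ) = 1 := by
          refine mulAut_eq_one_of_series ((isPGroup_of_le hS hPS).to_subgroup C') _
            (hco.coprime_dvd_left (orderOf_restrictAut_dvd _ _ _))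
            (fun i => (U i).subgroupOf C') ?_ (Group.nilpotencyClass S) (fun x _ => ?_)
            fun x _ i hi => ?_
          · simp [U, Subgroup.upperCentralSeries_zero, Subgroup.bot_subgroupOf]
          · refine ⟨x.2, ?_⟩
            refine ⟨⟨(x : P), hPS (x : P).2⟩, ?_, rfl⟩
            rw [Subgroup.upperCentralSeries_nilpotencyClass]
            exact Subgroup.mem_top _
          · exact b.2 i _ hi
        intro x hx
        exact congrArg (fun e : MulAut C' => ((e ⟨x, hx⟩ : C') : P)) hres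
      have hNres : restrictAut β N (hNinv β hβ) = 1 :=
        hC3 _ (hco.coprime_dvd_left (orderOf_restrictAut_dvd _ _ _)) fun x hx =>
          Subtype.ext (hCres x ⟨x, hx, rfl⟩)
      exact mulAut_eq_one_of_move (isPGroup_of_le hS hPS) β hco N
        (fun x hx => congrArg (fun e : MulAut N => ((e ⟨x, hx⟩ : N) : P)) hNres)
        fun x => move_hyperfocal hPS hβ hco x
    have : b = 1 := Subtype.ext (Subtype.ext hb1)
    exact Nat.dvd_antisymm (orderOf_dvd_of_pow_eq_one this) ⟨m, hN'⟩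
  have hTK : ∀ g ∈ normalizerIn S P, g ∈ P := by
    intro g hg
    refine mem_of_conjAut_inn hP.1 hg ?_
    have hgF := conjAut_mem_autGroup F hPS hg.1 hg.2
    rw [← (IsEssential.radical hS hF hP).2]
    refine ⟨⟨conjAut hg.2, hgF⟩, le_pCore_of_normal hKp ?_, rfl⟩
    rintro i x ⟨hxC, hxU⟩
    refine ⟨C'.mul_mem (hCinv _ hgF x hxC) (C'.inv_mem hxC), ?_⟩
    obtain ⟨z, hz, hzx⟩ := hxU
    refine ⟨⟨g, hg.1⟩ * z * ⟨g, hg.1⟩⁻¹ * z⁻¹, ?_, ?_⟩
    · have h3 := Subgroup.inv_mem _ ((Subgroup.mem_upperCentralSeries_succ_iff).1 hz ⟨g, hg.1⟩)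
      simpa [commutatorElement_def, mul_assoc] using h3
    · show g * (z : Ω) * g⁻¹ * (z : Ω)⁻¹ = g * (x : Ω) * g⁻¹ * (x : Ω)⁻¹
      rw [show (z : Ω) = (x : Ω) from hzx]
  exact (lt_normalizerIn hS hlt).not_ge hTK

/-- Let F be a saturated fusion system over a finite p-group S. If every map of F between cyclic subgroups of the hyperfocal subgroup of F of order p or 4 is a map of the normalizer system of S (it extends to a map of F defined on all of S), then S is normal in F. -/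
theorem result {Ω : Type u} [Group Ω] {S : Subgroup Ω} [Finite S] (p : ℕ) [Fact p.Prime] (hS : IsPGroup p S)
    (F : Cfsg.FusionSystem S) (hF : F.IsSaturated p)
    (h : ∀ A B : Subgroup Ω, A ≤ (F.hyperfocalSubgroup p) → B ≤ (F.hyperfocalSubgroup p) → IsCyclic ↥A → (Nat.card ↥A = p ∨ Nat.card ↥A = 4) → IsCyclic ↥B → (Nat.card ↥B = p ∨ Nat.card ↥B = 4) →
      F.homSet A B ⊆ F.normalizerHom S A) :
    F.IsNormal S := by
  classical
  refine normal_top p hS F hF fun Q β hQ hβ x hx hxs => ?_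
  rcases eq_or_ne x 1 with rfl | hx1
  · exact ⟨S.subtype, Cfsg.Agent.Lib.Fusion.subtype_mem F le_rfl, S.range_subtype, fun _ => by simp⟩
  have hord : orderOf (x : Ω) = p ∨ orderOf (x : Ω) = 4 := by
    rcases hxs with h1 | ⟨hp2, h4⟩
    · rcases (Nat.dvd_prime (Fact.out : p.Prime)).1 (orderOf_dvd_of_pow_eq_one h1) with h2 | h2
      · exact absurd (Subtype.ext (orderOf_eq_one_iff.1 h2)) hx1
      · exact Or.inl h2
    · obtain ⟨i, hi, h2⟩ := (Nat.dvd_prime_pow Nat.prime_two).1 (show orderOf (x : Ω) ∣ 2 ^ 2 from orderOf_dvd_of_pow_eq_one h4)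
      interval_cases i
      · exact absurd (Subtype.ext (orderOf_eq_one_iff.1 h2)) hx1
      · exact Or.inl (h2.trans hp2.symm)
      · exact Or.inr h2
  have hA : Subgroup.zpowers (x : Ω) ≤ Q := Subgroup.zpowers_le.2 x.2
  have hφ := Cfsg.Agent.Lib.Fusion.restr_mem F (Cfsg.Agent.Lib.Fusion.autHom_mem F hQ hβ) hA
  have hyH : ((β x : Q) : Ω) ∈ F.hyperfocalSubgroup p :=
    (Cfsg.Agent.Lib.Fusion.hyperfocal_stronglyClosed hS hF).2 _ (Subgroup.zpowers_le.2 hx) _ hφ ⟨x, Subgroup.mem_zpowers _⟩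
  have hox : orderOf ((β x : Q) : Ω) = orderOf (x : Ω) := by
    rw [Subgroup.orderOf_coe, MulEquiv.orderOf_eq, Subgroup.orderOf_coe]
  have hmem : ∀ z : Subgroup.zpowers (x : Ω),
      Cfsg.Agent.Lib.Fusion.restr hA (Cfsg.Agent.Lib.Fusion.autHom β) z ∈ Subgroup.zpowers ((β x : Q) : Ω) := by
    rintro ⟨y, hy⟩
    obtain ⟨k, rfl⟩ := Subgroup.mem_zpowers_iff.1 hy
    refine Subgroup.mem_zpowers_iff.2 ⟨k, ?_⟩
    show _ = ((β ⟨(x : Ω) ^ k, _⟩ : Q) : Ω)
    rw [← Subgroup.coe_zpow, ← map_zpow]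
    rfl
  obtain ⟨-, -, -, ψ, hψ, hψe, hψS⟩ := h (Subgroup.zpowers (x : Ω)) (Subgroup.zpowers ((β x : Q) : Ω))
    (Subgroup.zpowers_le.2 hx) (Subgroup.zpowers_le.2 hyH) inferInstance
    (by rw [Nat.card_zpowers]; exact hord) inferInstance
    (by rw [Nat.card_zpowers, hox]; exact hord) ⟨hφ, hmem⟩
  refine ⟨Cfsg.Agent.Lib.Fusion.restr le_sup_right ψ, Cfsg.Agent.Lib.Fusion.restr_mem F hψ le_sup_right, ?_, fun hxS => ?_⟩
  · rw [Cfsg.Agent.Lib.Fusion.range_restr]
    exact hψS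
  · exact hψe ⟨x, Subgroup.mem_zpowers _⟩

end Cfsg.Agent.S5297
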