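import Cfsg.Statements.S5298
import Cfsg.Agent.Lib.Fusion.SmallCyclic

set_option autoImplicit false
universe u
open Cfsg Cfsg.FusionSystem Cfsg.Agent.Lib.Fusion

namespace Cfsg.Agent.S5298

/-- Let F be a saturated fusion system over a finite p-group S. If every map of F between cyclic subgroups of the hyperfocal subgroup of F of order p or 4 is conjugation by an element of S, then F is the inner fusion system of S. -/
theorem result {Ω : Type u} [Group Ω] {S : Subgroup Ω} [Finite S] (p : ℕ) [Fact p.Prime] (hS : IsPGroup p S)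
    (F : Cfsg.FusionSystem S) (hF : F.IsSaturated p)
    (h : ∀ A B : Subgroup Ω, A ≤ (F.hyperfocalSubgroup p) → B ≤ (F.hyperfocalSubgroup p) → IsCyclic ↥A → (Nat.card ↥A = p ∨ Nat.card ↥A = 4) → IsCyclic ↥B → (Nat.card ↥B = p ∨ Nat.card ↥B = 4) →
      F.homSet A B ⊆ (Cfsg.innerFusionSystem S).Hom A) :
    ∀ P : Subgroup Ω, F.Hom P = (Cfsg.innerFusionSystem S).Hom P := by
  classical
  intro P
  rw [Cfsg.Agent.Lib.Fusion.eq_inner_of_small_cyclic hS hF fun Q β hQ hβ x hx hxs => ?_]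
  have hord : x = 1 ∨ orderOf (x : Ω) = p ∨ orderOf (x : Ω) = 4 := by
    rcases hxs with h1 | ⟨hp2, h4⟩
    · rcases (Nat.dvd_prime (Fact.out : p.Prime)).1 (orderOf_dvd_of_pow_eq_one h1) with h2 | h2
      · exact Or.inl (Subtype.ext (orderOf_eq_one_iff.1 h2))
      · exact Or.inr (Or.inl h2)
    · obtain ⟨i, hi, h2⟩ := (Nat.dvd_prime_pow Nat.prime_two).1 (show orderOf (x : Ω) ∣ 2 ^ 2 from orderOf_dvd_of_pow_eq_one h4)
      interval_cases i
      · exact Or.inl (Subtype.ext (orderOf_eq_one_iff.1 h2))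
      · exact Or.inr (Or.inl (h2.trans hp2.symm))
      · exact Or.inr (Or.inr h2)
  rcases hord with rfl | hord
  · exact ⟨1, S.one_mem, by simp⟩
  have hA : Subgroup.zpowers (x : Ω) ≤ Q := Subgroup.zpowers_le.2 x.2
  have hφ := Cfsg.Agent.Lib.Fusion.restr_mem F (Cfsg.Agent.Lib.Fusion.autHom_mem F hQ hβ) hA
  have hyH : ((β x : Q) : Ω) ∈ F.hyperfocalSubgroup p :=
    (Cfsg.Agent.Lib.Fusion.hyperfocal_stronglyClosed hS hF).2 _ (Subgroup.zpowers_le.2 hx) _ hφ ⟨x, Subgroup.mem_zpowers _⟩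
  have hox : orderOf ((β x : Q) : Ω) = orderOf (x : Ω) := by
    rw [Subgroup.orderOf_coe, MulEquiv.orderOf_eq, Subgroup.orderOf_coe]
  have hmem : ∀ z : Subgroup.zpowers (x : Ω),
      Cfsg.Agent.Lib.Fusion.restr hA (Cfsg.Agent.Lib.Fusion.autHom β) z ∈ Subgroup.zpowers ((β x : Q) : Ω) := by
    rintro ⟨y, hy⟩
    obtain ⟨k, rfl⟩ := Subgroup.mem_zpowers_iff.1 hy
    refine Subgroup.mem_zpowers_iff.2 ⟨k, ?_⟩
    show _ = ((β ⟨(x : Ω) ^ k, _⟩ : Q) : Ω)
    rw [← Subgroup.coe_zpow, ← map_zpow]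
    rfl
  obtain ⟨-, s, hs, he⟩ := h (Subgroup.zpowers (x : Ω)) (Subgroup.zpowers ((β x : Q) : Ω))
    (Subgroup.zpowers_le.2 hx) (Subgroup.zpowers_le.2 hyH) inferInstance
    (by rw [Nat.card_zpowers]; exact hord) inferInstance
    (by rw [Nat.card_zpowers, hox]; exact hord) ⟨hφ, hmem⟩
  exact ⟨s, hs, he ⟨x, Subgroup.mem_zpowers _⟩⟩

end Cfsg.Agent.S5298
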