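import Cfsg.Statements.S5299
import Cfsg.Agent.Lib.Fusion.Involves
import Cfsg.Agent.Lib.Fusion.Aut

set_option autoImplicit false
universe u
open Cfsg Cfsg.FusionSystem Cfsg.Agent.Lib.Fusion

namespace Cfsg.Agent.S5299

/-- Let F be a saturated fusion system over a finite p-group S, H a finite group and Q a p-subgroup of H. If Q is not involved in S (no section of S is isomorphic to Q), then F is H-free: H is involved in no model of the normalizer system of a fully normalized centric subgroup. -/
theorem result {Ω : Type u} [Group Ω] {S : Subgroup Ω} [Finite S] (p : ℕ) [Fact p.Prime] (hS : IsPGroup p S)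
    (F : Cfsg.FusionSystem S) (hF : F.IsSaturated p) (H : Type*) [Group H] [Finite H] (Q : Subgroup H) (hQ : IsPGroup p Q)
    (hfree : ¬ Cfsg.Involves (↥Q) (↥S)) : F.IsSectionFree p H := by
  intro P hPn hPc N hN L _ ι hmodel hinv
  obtain ⟨hfin, hreal, ⟨T, hT⟩, -⟩ := hmodel
  obtain ⟨K, f, hf⟩ := exists_surjective_of_involves hinv
  let K' : Subgroup K := Q.comap f
  let f' : K' →* Q := (f.comp K'.subtype).codRestrict Q fun x => x.2
  have hf' : Function.Surjective f' := by
    rintro ⟨q, hq⟩
    obtain ⟨k, rfl⟩ := hf q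
    exact ⟨⟨k, hq⟩, rfl⟩
  obtain ⟨A⟩ := (inferInstance : Nonempty (Sylow p K'))
  have hA : Function.Surjective (f'.comp (A : Subgroup K').subtype) := by
    intro q
    have h1 : (A.mapSurjective hf' : Subgroup Q) = ⊤ :=
      ((A.mapSurjective hf').3 (Q := ⊤) (hQ.to_subgroup ⊤) le_top).symm
    rw [Sylow.coe_mapSurjective] at h1
    obtain ⟨a, ha, rfl⟩ := h1.ge (Subgroup.mem_top q)
    exact ⟨⟨a, ha⟩, rfl⟩
  let j : (A : Subgroup K') →* L := (K.subtype.comp K'.subtype).comp (A : Subgroup K').subtype
  have hj : Function.Injective j :=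
    (K.subtype_injective.comp K'.subtype_injective).comp (A : Subgroup K').subtype_injective
  obtain ⟨T', hT'⟩ := (A.2.of_equiv (MonoidHom.ofInjective hj)).exists_le_sylow
  obtain ⟨c, hc⟩ := MulAction.exists_smul_eq L T' T
  have hmem : ∀ a, c * j a * c⁻¹ ∈ ι.range := fun a => by
    rw [← hT, ← hc, Sylow.coe_subgroup_smul]
    exact ⟨j a, hT' ⟨a, rfl⟩, rfl⟩
  let e₀ : (A : Subgroup K') →* ι.range := ((MulAut.conj c).toMonoidHom.comp j).codRestrict _ hmem
  let e : (A : Subgroup K') →* S :=
    (Subgroup.inclusion (normalizerIn_le S P)).comp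
      ((MonoidHom.ofInjective hreal.1).symm.toMonoidHom.comp e₀)
  have he : Function.Injective e :=
    (Subgroup.inclusion_injective (normalizerIn_le S P)).comp ((MonoidHom.ofInjective hreal.1).symm.injective.comp
      fun a b h => hj ((MulAut.conj c).injective (congrArg Subtype.val h)))
  exact hfree (involves_of_injective e he (f'.comp (A : Subgroup K').subtype) hA)

end Cfsg.Agent.S5299
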