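import Cfsg.Statements.S5301
import Cfsg.Agent.Lib.Fusion.NormalCriteria

set_option autoImplicit false
universe u
open Cfsg Cfsg.FusionSystem Cfsg.Agent.Lib.Fusion

namespace Cfsg.Agent.S5301

/-- Let F be a saturated fusion system over a finite p-group S. If for every subgroup P of S that is fully normalized, centric and radical in F the automorphism group that F induces on P has a normal Sylow p-subgroup, then S is normal in F. -/
theorem result {Ω : Type u} [Group Ω] {S : Subgroup Ω} [Finite S] (p : ℕ) [Fact p.Prime] (hS : IsPGroup p S)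
    (F : Cfsg.FusionSystem S) (hF : F.IsSaturated p)
    (hcl : ∀ P : Subgroup Ω, F.IsFullyNormalized P → F.IsCentric P → F.IsRadical p P →
      ∃ R : Sylow p ↥(F.autGroup P), (R : Subgroup ↥(F.autGroup P)).Normal) :
    F.IsNormal S := by
  refine (normal_iff_invariant hS hF S).2 fun P hP => ?_
  rcases hP with rfl | hess
  · refine ⟨le_rfl, fun α _ => ?_⟩
    rw [Subgroup.subgroupOf_self, Subgroup.map_top_of_surjective _ α.surjective]
  · exfalso
    obtain ⟨hc, hn, -⟩ := id hess
    have := finite_mulAut hc.1
    obtain ⟨R, hR⟩ := hcl P hn hc (IsEssential.radical hS hF hess)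
    obtain ⟨-, T, hT⟩ := (IsSaturated.automized_receptive hS hF hn).1
    have hTR : T = R := by
      obtain ⟨g, hg⟩ := MulAction.exists_smul_eq (F.autGroup P) R T
      rw [← hg, Sylow.smul_eq_of_normal]
    have h1 : autInducedBy S P ≤ Inn P := by
      intro α hα
      rw [← (IsEssential.radical hS hF hess).2]
      refine ⟨⟨α, autInducedBy_le_autGroup F hc.1 hα⟩, ?_, rfl⟩
      haveI := hR
      refine le_pCore_of_normal R.2 ?_
      rw [← hTR, hT]
      exact hα
    obtain ⟨g, hg, hgP⟩ := SetLike.exists_of_lt (lt_normalizerIn hS (IsEssential.lt hF hS hess))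
    exact hgP (mem_of_conjAut_inn hc hg (h1 (conjAut_mem_autInducedBy hg.1 hg.2)))

end Cfsg.Agent.S5301
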