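import Cfsg.Statements.S5306
import Cfsg.Agent.Lib.Fusion.Aut
import Cfsg.Agent.Lib.LocalEven2.Thompson


set_option autoImplicit false
open Cfsg Cfsg.FusionSystem Cfsg.Agent.Lib.Fusion

namespace Cfsg.Agent.S5306

open Cfsg.Agent.Lib.LocalEven2 in
theorem thompson_eq {X : Type*} [Group X] [Finite X] {p : ℕ} (P : Subgroup X) (k : X)
    (h : Cfsg.thompsonSubgroupOf p P ≤ P.map (MulAut.conj k).toMonoidHom) :
    Cfsg.thompsonSubgroupOf p P = Cfsg.thompsonSubgroupOf p (P.map (MulAut.conj k).toMonoidHom) := by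
  refine Subgroup.eq_of_le_of_card_ge (thompsonSubgroupOf_le_of fun A hA => ?_) ?_
  · have hAk := hA.map_conj k
    have hcard : Nat.card (A.map (MulAut.conj k).toMonoidHom : Subgroup X) = Nat.card A :=
      Subgroup.card_map_of_injective (MulAut.conj k).injective
    exact le_thompsonSubgroupOf ⟨(le_thompsonSubgroupOf hA).trans h, hA.2.1,
      fun B hB hBe => (hAk.2.2 B hB hBe).trans hcard.le⟩
  · rw [thompsonSubgroupOf_map_conj]
    exact (Subgroup.card_map_of_injective (MulAut.conj k).injective).le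

/-- Let P be a Sylow p-subgroup of the finite group X and J = J(P) its Thompson subgroup (generated by the elementary abelian subgroups of P of largest order). If x and y lie in the centre of J and y = g x g⁻¹ for some g in X, then y = n x n⁻¹ for some n in the normalizer N_X(J). -/
theorem result {X : Type*} [Group X] [Finite X] (p : ℕ) [Fact p.Prime] (P : Sylow p X) (J : Subgroup X) (hJ : J = Cfsg.thompsonSubgroupOf p (P : Subgroup X))
    (x y : X) (hx : x ∈ J ∧ ∀ j ∈ J, Commute j x) (hy : y ∈ J ∧ ∀ j ∈ J, Commute j y) (g : X) (hg : g * x * g⁻¹ = y) :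
    ∃ n ∈ Subgroup.normalizer (J : Set X), n * x * n⁻¹ = y := by
  subst hJ
  set C := Subgroup.centralizer ({y} : Set X)
  set J := Cfsg.thompsonSubgroupOf p (P : Subgroup X) with hJdef
  have hJP : J ≤ (P : Subgroup X) := Cfsg.Agent.Lib.LocalEven2.thompsonSubgroupOf_le p _
  have h1 : J ≤ C := fun j hj => Subgroup.mem_centralizer_singleton_iff.2 (hy.2 j hj)
  have h2 : J.map (MulAut.conj g).toMonoidHom ≤ C := by
    rintro _ ⟨j, hj, rfl⟩
    refine Subgroup.mem_centralizer_singleton_iff.2 ?_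
    rw [← hg]
    exact (hx.2 j hj).map (MulAut.conj g).toMonoidHom
  obtain ⟨T, hT⟩ := ((P.2.to_le hJP).of_equiv (Subgroup.subgroupOfEquivOfLe h1).symm).exists_le_sylow
  obtain ⟨T', hT'⟩ :=
    (((P.2.to_le hJP).map (MulAut.conj g).toMonoidHom).of_equiv
      (Subgroup.subgroupOfEquivOfLe h2).symm).exists_le_sylow
  obtain ⟨⟨c, hcC⟩, hc⟩ := MulAction.exists_smul_eq C T' T
  obtain ⟨P', hP'⟩ := (T.2.map C.subtype).exists_le_sylow
  have hJ1 : J ≤ (P' : Subgroup X) := fun j hj => hP' ⟨⟨j, h1 hj⟩, hT hj, rfl⟩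
  have hJ2 : J.map (MulAut.conj (c * g)).toMonoidHom ≤ (P' : Subgroup X) := by
    rintro _ ⟨j, hj, rfl⟩
    have h3 : (⟨c, hcC⟩ : C) * ⟨g * j * g⁻¹, h2 ⟨j, hj, rfl⟩⟩ * (⟨c, hcC⟩ : C)⁻¹ ∈ (T : Subgroup C) := by
      rw [← hc, Sylow.coe_subgroup_smul]
      exact ⟨_, hT' ⟨j, hj, rfl⟩, rfl⟩
    refine hP' ⟨_, h3, ?_⟩
    simp [mul_assoc]
  obtain ⟨a, ha⟩ := MulAction.exists_smul_eq X P P'
  have hP'eq : (P' : Subgroup X) = (P : Subgroup X).map (MulAut.conj a).toMonoidHom := by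
    rw [← ha, Sylow.coe_subgroup_smul]
    rfl
  set b := (c * g)⁻¹ * a
  have e1 : J = Cfsg.thompsonSubgroupOf p ((P : Subgroup X).map (MulAut.conj a).toMonoidHom) :=
    thompson_eq (P : Subgroup X) a (hP'eq ▸ hJ1)
  have e2 : J = Cfsg.thompsonSubgroupOf p ((P : Subgroup X).map (MulAut.conj b).toMonoidHom) := by
    refine thompson_eq (P : Subgroup X) b fun j hj => ?_
    obtain ⟨z, hz, hze⟩ := hP'eq.le (hJ2 ⟨j, hj, rfl⟩)
    refine ⟨z, hz, ?_⟩
    have hze' : a * z * a⁻¹ = c * g * j * (c * g)⁻¹ := hze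
    show b * z * b⁻¹ = j
    calc b * z * b⁻¹ = (c * g)⁻¹ * (a * z * a⁻¹) * (c * g) := by simp [b, mul_assoc]
      _ = j := by rw [hze']; group
  rw [Cfsg.Agent.Lib.LocalEven2.thompsonSubgroupOf_map_conj] at e1 e2
  have ea : a ∈ Subgroup.normalizer (J : Set X) :=
    mem_normalizer_of_finite fun j hj => e1.ge ⟨j, hj, rfl⟩
  have eb : b ∈ Subgroup.normalizer (J : Set X) :=
    mem_normalizer_of_finite fun j hj => e2.ge ⟨j, hj, rfl⟩
  refine ⟨c * g, ?_, ?_⟩
  · have h := mul_mem ea (inv_mem eb)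
    convert h using 1
    simp [b, mul_assoc]
  · have h4 := Subgroup.mem_centralizer_singleton_iff.1 hcC
    rw [← hg] at h4 ⊢
    calc c * g * x * (c * g)⁻¹ = c * (g * x * g⁻¹) * c⁻¹ := by group
      _ = g * x * g⁻¹ := by rw [h4, mul_inv_cancel_right]

end Cfsg.Agent.S5306
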