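import Cfsg.Statements.S5315
import Cfsg.Agent.Lib.Fusion.CenterFunctor
import Cfsg.Agent.Lib.Fusion.CenterFactor
import Cfsg.Agent.Lib.Fusion.Quotient
import Cfsg.Agent.Lib.Fusion.Factor
import Cfsg.Agent.Lib.Fusion.Hyperfocal
import Cfsg.Agent.Lib.Fusion.NormalCriteria
import Cfsg.Agent.Lib.Fusion.Series

set_option autoImplicit false
open Cfsg Cfsg.FusionSystem Cfsg.Agent.Lib.Fusion

namespace Cfsg.Agent.S5315

/-- An analogue of Grün's lemma for fusion systems. Let F be a saturated fusion system over a finite p-group S that is perfect in the sense that its hyperfocal subgroup is all of S (F coincides with its p-residual subsystem). Then the second centre of F equals its centre: every fusion system over S/(Z(F) ∩ S) that is the factor system of F modulo its centre Z(F), read through the quotient map, has trivial centre. -/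
theorem result {Ω : Type*} [Group Ω] {S : Subgroup Ω} [Finite S] (p : ℕ) [Fact p.Prime] (hS : IsPGroup p S) (F : Cfsg.FusionSystem S) (hF : F.IsSaturated p)
    (hperf : F.hyperfocalSubgroup p = S)
    (E : Cfsg.FusionSystem (⊤ : Subgroup (↥S ⧸ (F.center).subgroupOf S)))
    (hE : F.IsFactorSystem F.center (QuotientGroup.mk' ((F.center).subgroupOf S)) E) : E.center = ⊥ := by
  classical
  set Z := F.center with hZdef
  set θ : S →* ↥S ⧸ Z.subgroupOf S := QuotientGroup.mk' (Z.subgroupOf S) with hθ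
  obtain ⟨-, hker, -, -⟩ := id hE
  have hZc := isCentral_center F
  have hZsc : F.StronglyClosed Z := by
    refine ⟨hZc.1, fun R hR φ hφ x => ?_⟩
    rw [((IsCentral.fixesElt hZc (hR x.2) hφ) x).1 rfl]
    exact hR x.2
  have hm := isSurjectiveMorphism_factor hS hF hZsc hE
  have hW := isCentral_center E
  have hWc := center_le_center E
  set W := E.center with hWdef
  -- elements over the centre of `E` centralize the whole of `S`
  have hcomm : ∀ (y : S), θ y ∈ W → ∀ (P : Subgroup Ω) (φ : P →* Ω), φ ∈ F.Hom P → ∀ x : P,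
      (y : Ω) * ((x : Ω)⁻¹ * φ x) = ((x : Ω)⁻¹ * φ x) * y := by
    intro y hy P φ hφ x
    have hP := source_le hφ
    obtain ⟨φ', hφ', hP₁, hφS, hP', hind⟩ := hm.1.2 P φ hφ
    obtain ⟨ψ', hψ', hext, hfix⟩ := hW.2 _ φ' hφ'
    obtain ⟨ψ, hψ, hQ, hψS, hQ', hind'⟩ := hm.2.2 _ (source_le hψ') ψ' hψ'
    have hxθ : θ ⟨x, hP x.2⟩ ∈ imageAlong θ P ⊔ W := Subgroup.mem_sup_left (hP' x)
    have hyθ : θ y ∈ imageAlong θ P ⊔ W := Subgroup.mem_sup_right hy
    have hxQ : (x : Ω) ∈ preimageAlong θ (imageAlong θ P ⊔ W) :=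
      mem_preimageAlong.2 ⟨hP x.2, hxθ⟩
    have hyQ : (y : Ω) ∈ preimageAlong θ (imageAlong θ P ⊔ W) :=
      mem_preimageAlong.2 ⟨y.2, hyθ⟩
    have e1 : θ ⟨ψ ⟨x, hxQ⟩, hψS _⟩ = θ ⟨φ x, hφS x⟩ := by
      rw [← hind', ← hind]
      exact hext ⟨_, hP' x⟩
    have e2 : θ ⟨ψ ⟨y, hyQ⟩, hψS _⟩ = θ y := by
      rw [← hind']
      exact hfix ⟨_, hy⟩
    have hcong : ∀ {a b : S}, θ a = θ b → ∃ z ∈ Z, (a : Ω) = b * z := fun {a b} e =>
      ⟨(b : Ω)⁻¹ * a, (hker (b⁻¹ * a)).1 (by rw [map_mul, map_inv, e, inv_mul_cancel]),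
        (mul_inv_cancel_left _ _).symm⟩
    obtain ⟨z, hz, ez⟩ := hcong e1
    obtain ⟨w, hw, ew⟩ := hcong e2
    have hk : (x : Ω) * y * (x : Ω)⁻¹ * (y : Ω)⁻¹ ∈ Z :=
      (hker (⟨x, hP x.2⟩ * y * (⟨x, hP x.2⟩)⁻¹ * y⁻¹)).1 (by
        rw [map_mul, map_mul, map_mul, map_inv, map_inv,
          (hWc hy).2 (θ ⟨x, hP x.2⟩) trivial, mul_inv_cancel_right, mul_inv_cancel])
    have e3 : ψ (⟨x, hxQ⟩ * ⟨y, hyQ⟩ * (⟨x, hxQ⟩)⁻¹ * (⟨y, hyQ⟩)⁻¹) =
        (x : Ω) * y * (x : Ω)⁻¹ * (y : Ω)⁻¹ :=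
      ((IsCentral.fixesElt hZc hk hψ) _).1 rfl
    rw [map_mul, map_mul, map_mul, map_inv, map_inv] at e3
    simp only at ez ew
    rw [ez, ew] at e3
    have hzS := fun {c : Ω} (hc : c ∈ Z) {s : Ω} (hs : s ∈ S) =>
      (show s * c = c * s from (center_le_center F hc).2 s hs)
    set a := φ x with ha
    have haS : a ∈ S := hφS x
    have e4 : a * z * (y * w) * (a * z)⁻¹ * (y * w : Ω)⁻¹ = a * y * a⁻¹ * (y : Ω)⁻¹ := by
      have h1 : a * z * (y * w) * (a * z)⁻¹ = a * (y * w) * a⁻¹ := by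
        rw [mul_inv_rev]
        calc a * z * (y * w) * (z⁻¹ * a⁻¹) = a * (z * (y * w)) * z⁻¹ * a⁻¹ := by group
          _ = _ := by rw [← hzS hz (S.mul_mem y.2 (hZc.1 hw))]; group
      have h2 : a * (y * w) * a⁻¹ = a * y * a⁻¹ * w := by
        calc a * (y * w) * a⁻¹ = a * y * (w * a⁻¹) := by group
          _ = _ := by rw [← hzS hw (S.inv_mem haS)]; group
      rw [h1, h2, mul_inv_rev]
      group
    rw [e4] at e3
    have e5 : a * y * a⁻¹ = (x : Ω) * y * (x : Ω)⁻¹ := mul_right_cancel e3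
    calc (y : Ω) * ((x : Ω)⁻¹ * a) = (x : Ω)⁻¹ * ((x : Ω) * y * (x : Ω)⁻¹) * a := by group
      _ = (x : Ω)⁻¹ * (a * y * a⁻¹) * a := by rw [e5]
      _ = (x : Ω)⁻¹ * a * y := by group
  have hcent : ∀ y : S, θ y ∈ W → (y : Ω) ∈ centralizerIn S S := by
    intro y hy
    refine mem_centralizerIn.2 ⟨y.2, fun s hs => ?_⟩
    have hle : F.hyperfocalSubgroup p ≤ Subgroup.centralizer {(y : Ω)} := by
      refine (Subgroup.closure_le _).2 ?_
      rintro _ ⟨P, α, x, hP, -, rfl⟩
      refine Subgroup.mem_centralizer_singleton_iff.2 ?_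
      exact (hcomm y hy P _ (autHom_mem F hP α.2) x).symm
    exact Subgroup.mem_centralizer_singleton_iff.1 (hle (hperf.symm ▸ hs))
  rw [Subgroup.eq_bot_iff_forall]
  intro w hw
  obtain ⟨y, rfl⟩ := QuotientGroup.mk'_surjective (Z.subgroupOf S) w
  refine (hker y).2 ?_
  have hc := hcent y hw
  have hQS : Subgroup.zpowers (y : Ω) ≤ S := Subgroup.zpowers_le.2 y.2
  have hN : centralizerIn S (Subgroup.zpowers (y : Ω)) = S := by
    refine inf_eq_left.2 fun g hg b hb => ?_
    obtain ⟨n, rfl⟩ := Subgroup.mem_zpowers_iff.1 hb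
    exact (Commute.zpow_right ((mem_centralizerIn.1 hc).2 g hg) n).symm.eq
  let D := recast (centralizerSystem F (Subgroup.zpowers (y : Ω)) hQS) hN
  have hle : F ≤ D := alperin hS hF D fun P hP => by
    have hPS : P ≤ S := by
      rcases hP with rfl | hP
      · exact le_rfl
      · exact hP.1.1
    have hyP : (y : Ω) ∈ P := by
      rcases hP with rfl | hP
      · exact y.2
      · exact hP.1.2 P (isConj_refl F hPS) (mem_centralizerIn.2
          ⟨y.2, fun s hs => (mem_centralizerIn.1 hc).2 s (hPS hs)⟩)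
    have hfn : F.IsFullyNormalized P := by
      rcases hP with rfl | hP
      · exact isFullyNormalized_top F
      · exact hP.2.1
    have := finite_of_le hPS
    have := finite_mulAut hPS
    let y' : P := ⟨y, hyP⟩
    have hmove : ∀ α : F.autGroup P, (y : Ω)⁻¹ * (((α : MulAut P) y' : P) : Ω) ∈ Z := by
      intro α
      have hα := autHom_mem F hPS α.2
      obtain ⟨φ', hφ', hP₁, hφS, hP', hind⟩ := hm.1.2 P _ hα
      have h1 := ((IsCentral.fixesElt hW hw hφ') ⟨_, hP' y'⟩).1 rfl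
      rw [hind y'] at h1
      exact (hker (y⁻¹ * ⟨_, hφS y'⟩)).1 (by rw [map_mul, map_inv, h1]; exact inv_mul_cancel _)
    have hfixZ : ∀ (α : F.autGroup P) (c : P), (c : Ω) ∈ Z → (α : MulAut P) c = c := fun α c hc' =>
      Subtype.ext (((IsCentral.fixesElt hZc hc' (autHom_mem F hPS α.2)) c).1 rfl)
    let h : F.autGroup P →* Z :=
      { toFun := fun α => ⟨_, hmove α⟩
        map_one' := Subtype.ext (by simp [y'])
        map_mul' := fun α β => Subtype.ext (by
          have e : (α : MulAut P) ((β : MulAut P) y') =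
              (α : MulAut P) y' * (y'⁻¹ * (β : MulAut P) y') := by
            have e0 : (β : MulAut P) y' = y' * (y'⁻¹ * (β : MulAut P) y') :=
              (mul_inv_cancel_left _ _).symm
            conv_lhs => rw [e0]
            rw [map_mul, hfixZ α (y'⁻¹ * (β : MulAut P) y') (hmove β)]
          show (y : Ω)⁻¹ * ((((α : MulAut P) ((β : MulAut P) y')) : P) : Ω) =
            ((y : Ω)⁻¹ * (((α : MulAut P) y' : P) : Ω)) *
              ((y : Ω)⁻¹ * (((β : MulAut P) y' : P) : Ω))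
          rw [e, mul_assoc]
          rfl) }
    obtain ⟨-, R, hR⟩ := (IsSaturated.automized_receptive hS hF hfn).1
    have hRk : (R : Subgroup (F.autGroup P)) ≤ h.ker := by
      intro α hα
      rw [hR] at hα
      obtain ⟨g, hg, hge⟩ := mem_autInducedBy.1 hα
      refine MonoidHom.mem_ker.2 (Subtype.ext ?_)
      show (y : Ω)⁻¹ * (((α : MulAut P) y' : P) : Ω) = 1
      rw [show (((α : MulAut P) y' : P) : Ω) = g * (y : Ω) * g⁻¹ from hge y']
      rw [(mem_centralizerIn.1 hc).2 g hg, mul_inv_cancel_right, inv_mul_cancel]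
    have htop : h.ker = ⊤ := by
      have := finite_of_le hZc.1
      rw [← Subgroup.index_eq_one]
      obtain ⟨n, hn⟩ := (IsPGroup.iff_card).1 (hS.to_le hZc.1)
      have h1 : h.ker.index ∣ p ^ n := by
        rw [Subgroup.index_ker, ← hn]
        exact Subgroup.card_subgroup_dvd_card _
      have h2 : ¬ p ∣ h.ker.index := fun hd =>
        R.not_dvd_index (hd.trans (Subgroup.index_dvd_of_le hRk))
      exact Nat.eq_one_of_dvd_coprimes
        ((((Fact.out : p.Prime).coprime_iff_not_dvd).2 h2).pow_left n).symm dvd_rfl h1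
    intro α hα
    have h3 : (y : Ω)⁻¹ * ((α y' : P) : Ω) = 1 :=
      congrArg Subtype.val ((MonoidHom.mem_ker (f := h)).1 (htop.symm ▸ Subgroup.mem_top (⟨α, hα⟩ : F.autGroup P)))
    have h4 : α y' = y' := Subtype.ext (inv_mul_eq_one.1 h3).symm
    have hα' := autHom_mem F hPS hα
    have hQP : Subgroup.zpowers (y : Ω) ≤ P := Subgroup.zpowers_le.2 hyP
    refine mem_autGroup_of_hom D ⟨hα', hN.symm ▸ hPS, fun x => hN.symm ▸ apply_mem hα' x,
      restr (sup_le le_rfl hQP) (autHom α), restr_mem F hα' _, fun x => rfl, ?_⟩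
    rintro ⟨b, hb⟩
    obtain ⟨n, rfl⟩ := Subgroup.mem_zpowers_iff.1 hb
    show ((α ⟨(y : Ω) ^ n, _⟩ : P) : Ω) = (y : Ω) ^ n
    rw [show (⟨(y : Ω) ^ n, hQP hb⟩ : P) = y' ^ n from Subtype.ext (by simp [y']), map_zpow, h4]
    simp [y']
  exact (le_sSup (⟨hQS, fun P φ hφ => (hle P hφ).2.2.2⟩ : F.IsCentral (Subgroup.zpowers (y : Ω))) :
    Subgroup.zpowers (y : Ω) ≤ F.center) (Subgroup.mem_zpowers _)

end Cfsg.Agent.S5315
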