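import Cfsg.Statements.S5316
import Cfsg.Agent.Lib.Blocks.RankThreeCentre
import Cfsg.Agent.Lib.Fusion.EssentialSeries
import Cfsg.Agent.Lib.PLocal.GenExtra
import Cfsg.Agent.Lib.PGroups.SymplecticType

set_option autoImplicit false
open Cfsg Cfsg.FusionSystem Cfsg.Agent.Lib.Fusion
open scoped commutatorElement

namespace Cfsg.Agent.S5316

/-- Let p ≥ 5 be a prime, S a finite p-group of maximal class of order p^n with n ≥ 5 (nilpotency class n − 1), F a saturated fusion system over S, and E an F-essential subgroup that is not a pearl (not elementary abelian of order p² and not extraspecial of order p³ and exponent p). Then E has order at least p⁴. -/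
theorem result {Ω : Type*} [Group Ω] {S : Subgroup Ω} [Finite S] (p : ℕ) [Fact p.Prime] (hp : 5 ≤ p) (hS : IsPGroup p ↥S) (n : ℕ) (hn : Nat.card S = p ^ n) (h5 : 5 ≤ n)
    (hmax : Subgroup.lowerCentralSeries S (n - 2) ≠ ⊥) (F : Cfsg.FusionSystem S) (hF : F.IsSaturated p)
    (E : Subgroup Ω) (hE : F.IsEssential p E)
    (hnp : ¬ ((Nat.card ↥E = p ^ 2 ∧ Cfsg.IsElementaryAbelian p E) ∨ (Nat.card ↥E = p ^ 3 ∧ Cfsg.IsExtraspecial p ↥E ∧ Monoid.exponent ↥E = p))) :
    p ^ 4 ≤ Nat.card ↥E := by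
  classical
  have hp1 : p.Prime := Fact.out
  have hES : E ≤ S := hE.1.1
  haveI := finite_of_le hES
  have hEp : IsPGroup p E := hS.to_le hES
  obtain ⟨k, hk⟩ := IsPGroup.iff_card.1 hEp
  rw [hk]
  refine Nat.pow_le_pow_right hp1.pos ?_
  by_contra! hk4
  have hp2 : p ≠ 2 := by omega
  -- trivial and prime orders
  rcases (show k ≤ 1 ∨ k = 2 ∨ k = 3 by omega) with hk1 | hk23
  · refine IsEssential.not_series hS hF hE (fun i => if i = 0 then ⊥ else ⊤) 1 rfl rfl
      (fun α _ i x hx => ?_) fun i hi => ?_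
    · split_ifs at hx ⊢
      · rw [Subgroup.mem_bot] at hx ⊢; rw [hx, map_one]
      · trivial
    · obtain rfl : i = 0 := by omega
      simp only [if_true, Nat.zero_add, one_ne_zero, if_false, Subgroup.relIndex_bot_left,
        Subgroup.card_top, hk]
      exact (pow_dvd_pow p hk1).trans (pow_one p).dvd
  have chain : ∀ A B : Subgroup E, ∀ a b : ℕ, A ≤ B → Nat.card A = p ^ a → Nat.card B = p ^ b → a ≤ 1 →
      b ≤ a + 1 → k ≤ b + 1 → (∀ α : MulAut E, ∀ x ∈ A, α x ∈ A) →
      (∀ α : MulAut E, ∀ x ∈ B, α x ∈ B) → False := fun A B a b hAB hA hB ha hab hbk hAi hBi => by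
    have hba : a ≤ b := (Nat.pow_le_pow_iff_right hp1.one_lt).1 (hA ▸ hB ▸ Subgroup.card_le_of_le hAB)
    have hbk' : b ≤ k := (Nat.pow_le_pow_iff_right hp1.one_lt).1
      (hB ▸ hk ▸ (Nat.card_le_card_of_injective _ B.subtype_injective))
    have dvd : ∀ {e : ℕ}, e ≤ 1 → p ^ e ∣ p := fun he => (pow_dvd_pow p he).trans (pow_one p).dvd
    refine IsEssential.not_chain hS hF hE hAB (hA ▸ dvd ha) ?_ ?_ (fun α _ => hAi α) fun α _ => hBi α
    · have e := Subgroup.card_mul_index (A.subgroupOf B)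
      rw [Nat.card_congr (Subgroup.subgroupOfEquivOfLe hAB).toEquiv, hA, hB,
        show b = a + (b - a) by omega, pow_add] at e
      rw [Subgroup.relIndex, Nat.eq_of_mul_eq_mul_left (pow_pos hp1.pos a) e]
      exact dvd (by omega)
    · have e := Subgroup.card_mul_index B
      rw [hB, hk, show k = b + (k - b) by omega, pow_add] at e
      rw [Nat.eq_of_mul_eq_mul_left (pow_pos hp1.pos b) e]
      exact dvd (by omega)
  -- kernel and image of the power map
  have power : ∀ f : E →* E, (∀ x, f x = x ^ p) → ¬ (∀ x : E, x ^ p = 1) → False := by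
    intro f hf hne
    have hKi : ∀ α : MulAut E, ∀ x ∈ f.ker, α x ∈ f.ker := fun α x hx => by
      rw [MonoidHom.mem_ker, hf] at hx ⊢; rw [← map_pow, hx, map_one]
    have hRi : ∀ α : MulAut E, ∀ x ∈ f.range, α x ∈ f.range := by
      rintro α _ ⟨y, rfl⟩
      exact ⟨α y, by rw [hf, hf, map_pow]⟩
    obtain ⟨a, ha, hKc⟩ := (Nat.dvd_prime_pow hp1).1 (hk ▸ Subgroup.card_subgroup_dvd_card f.ker)
    obtain ⟨b, hb, hRc⟩ := (Nat.dvd_prime_pow hp1).1 (hk ▸ Subgroup.card_subgroup_dvd_card f.range)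
    have hab : a + b = k := by
      have e := Subgroup.card_mul_index f.ker
      rw [Subgroup.index_ker, hKc, hRc, hk, ← pow_add] at e
      exact Nat.pow_right_injective hp1.two_le e
    have hb0 : b ≠ 0 := fun e => hne fun x => by
      rw [← hf, ← Subgroup.mem_bot, ← Subgroup.card_eq_one.1 (hRc.trans (by rw [e, pow_zero]))]
      exact ⟨x, rfl⟩
    obtain ⟨⟨z, hz⟩, hzo⟩ := exists_prime_orderOf_dvd_card' (G := f.range) p (hRc ▸ dvd_pow_self p hb0)
    rw [Subgroup.orderOf_mk] at hzo
    have hzK : Subgroup.zpowers z ≤ f.ker := Subgroup.zpowers_le.2 (by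
      rw [MonoidHom.mem_ker, hf, ← hzo, pow_orderOf_eq_one])
    have hzR : Subgroup.zpowers z ≤ f.range := Subgroup.zpowers_le.2 hz
    have hzc : Nat.card (Subgroup.zpowers z) = p ^ 1 := by rw [Nat.card_zpowers, hzo, pow_one]
    have ha1 : 1 ≤ a := (Nat.pow_le_pow_iff_right hp1.one_lt).1 (hzc ▸ hKc ▸ Subgroup.card_le_of_le hzK)
    rcases (show b = 1 ∨ a = 1 by omega) with h1 | h1
    · have hRz : Subgroup.zpowers z = f.range :=
        Subgroup.eq_of_le_of_card_ge hzR (by rw [hRc, hzc, h1])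
      exact chain f.range f.ker 1 a (hRz ▸ hzK) (h1 ▸ hRc) hKc le_rfl (by omega) (by omega) hRi hKi
    · have hKz : Subgroup.zpowers z = f.ker :=
        Subgroup.eq_of_le_of_card_ge hzK (by rw [hKc, hzc, h1])
      exact chain f.ker f.range 1 b (hKz ▸ hzR) (h1 ▸ hKc) hRc le_rfl (by omega) (by omega) hKi hRi
  by_cases hab : IsMulCommutative E
  · by_cases hexp : ∀ x : E, x ^ p = 1
    · have hea : IsElementaryAbelian p E := ⟨hab, fun a ha => congrArg Subtype.val (hexp ⟨a, ha⟩)⟩
      rcases hk23 with rfl | rfl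
      · exact hnp (Or.inl ⟨hk, hea⟩)
      · have hmax' : (⊤ : Subgroup ↥S).lowerCentralSeries (n - 2) ≠ ⊥ := fun h => hmax (by
          rw [← Subgroup.top_subtype_lowerCentralSeries, h, Subgroup.map_bot])
        have hM : Lib.MaxClassUniform.MaxClass ↥S p n := ⟨by omega, hn, fun j hj hb => hmax'
          (le_bot_iff.1 (hb ▸ (Lib.MaxClassPower.L_mono (show j ≤ n - 2 by omega))))⟩
        exact Lib.RankThree.no_rank_three hS hF hp hM h5 hE hea hk
    · letI : CommGroup E := { (inferInstance : Group E) with mul_comm := hab.is_comm.comm }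
      exact power (powMonoidHom p) (fun _ => rfl) hexp
  · have hk3 : k = 3 := hk23.resolve_left fun e => hab
      ⟨⟨IsPGroup.commutative_of_card_eq_prime_sq (hk.trans (by rw [e]))⟩⟩
    subst hk3
    have hZc : Nat.card (Subgroup.center E) = p := Lib.Cores.card_center_of_card_cube hEp hk hab
    have hqc : Nat.card (↥E ⧸ Subgroup.center ↥E) = p ^ 2 := by
      have := Subgroup.card_mul_index (Subgroup.center E)
      rw [hk, hZc, Subgroup.index_eq_card, show (3 : ℕ) = 1 + 2 from rfl, pow_add, pow_one] at this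
      exact Nat.eq_of_mul_eq_mul_left hp1.pos this
    have hqe := (not_isCyclic_iff_exponent_eq_prime hp1 hqc).1 fun hcyc => hab
      ⟨⟨commutative_of_cyclic_center_quotient (QuotientGroup.mk' (Subgroup.center ↥E))
        (by rw [QuotientGroup.ker_mk'])⟩⟩
    have hpowZ : ∀ u : E, u ^ p ∈ Subgroup.center E := fun u => by
      rw [← QuotientGroup.eq_one_iff, QuotientGroup.mk_pow, ← hqe, Monoid.pow_exponent_eq_one]
    have hcomZ : ∀ a b : E, ⁅a, b⁆ ∈ Subgroup.center E := fun a b => by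
      rw [← QuotientGroup.eq_one_iff, ← QuotientGroup.mk'_apply, map_commutatorElement,
        commutatorElement_eq_one_iff_mul_comm]
      exact IsPGroup.commutative_of_card_eq_prime_sq hqc _ _
    by_cases hexp : ∀ x : E, x ^ p = 1
    · haveI : Nontrivial E := Finite.one_lt_card_iff_nontrivial.mp (by
        rw [hk]; exact Nat.one_lt_pow (by norm_num) hp1.one_lt)
      refine hnp (Or.inr ⟨hk, Lib.PGroups.SymplecticType.isExtraspecial_of hEp hab hZc
        (by rw [commutator_def, Subgroup.commutator_le]; exact fun a _ b _ => hcomZ a b) hpowZ, ?_⟩)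
      exact (Monoid.exponent_eq_prime_iff hp1).2 fun g hg => orderOf_eq_prime (hexp g) hg
    · obtain ⟨⟨z, hz⟩, hzo⟩ := exists_prime_orderOf_dvd_card' (G := Subgroup.center ↥E) p (dvd_of_eq hZc.symm)
      rw [Subgroup.orderOf_mk] at hzo
      have hzZ : Subgroup.zpowers z = Subgroup.center E :=
        Subgroup.eq_of_le_of_card_ge (Subgroup.zpowers_le.2 hz) (by rw [hZc, Nat.card_zpowers, hzo])
      have hsm : Lib.PLocal.GenExtra.Small p ↥E z :=
        ⟨hzo, fun a b => hzZ ▸ hcomZ a b, fun a => hzZ ▸ hpowZ a,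
          fun a => (Subgroup.mem_center_iff.1 hz a).symm⟩
      exact power (MonoidHom.mk' (fun x : E => x ^ p) fun a b => hsm.mul_pow hp2 a b) (fun _ => rfl) hexp

end Cfsg.Agent.S5316
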