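import Mathlib
import Cfsg.Statements.S5317
import Cfsg.Agent.S0111
import Cfsg.Agent.Lib.Involutions.Basic
import Cfsg.Agent.Lib.Compute.FusionSimple
import Cfsg.Agent.Lib.Classical.SLTwoSylow
import Cfsg.Agent.Lib.Classical.LinearSimple
import Cfsg.Agent.Lib.Classical.LinearCard

set_option autoImplicit false
open Cfsg

namespace Cfsg.Agent.S5317


open Cfsg.Agent.Lib.Classical
open Matrix (SpecialLinearGroup ProjectiveSpecialLinearGroup)
open QuaternionGroup

section
variable {F : Type*} [Field F] [Fintype F]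

local notation "SL2" => SpecialLinearGroup (Fin 2) F
local notation "PSL2" => ProjectiveSpecialLinearGroup (Fin 2) F

lemma a_one_pow' {n : ℕ} [NeZero n] (j : ZMod (2 * n)) :
    (QuaternionGroup.a (1 : ZMod (2 * n))) ^ j.val = QuaternionGroup.a j := by
  rw [QuaternionGroup.a_one_pow, ZMod.natCast_zmod_val]

/-- The normalizer of a quaternion Sylow subgroup of order at least 16 has no element of odd
order other than the identity. -/
lemma eq_one_of_odd_normalizer (h2 : (2 : F) ≠ 0) (p : ℕ) [Fact p.Prime] [CharP F p] {k : ℕ}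
    (hk : 2 ≤ k) (P : Subgroup SL2) (hP : IsPGroup 2 P) (f : QuaternionGroup (2 ^ k) →* SL2)
    (hf : Function.Injective f) (hfr : f.range = P) (h : SL2) (hodd : Odd (orderOf h))
    (hn : h ∈ Subgroup.normalizer (P : Set SL2)) : h = 1 := by
  have hne : NeZero (2 ^ k) := ⟨by positivity⟩
  have himg : ∀ w, ∃ w', f w' = h * f w * h⁻¹ := by
    intro w
    have := (Subgroup.mem_normalizer_iff.1 hn (f w)).1 (hfr ▸ ⟨w, rfl⟩)
    rw [← hfr] at this
    exact this
  obtain ⟨w, hw⟩ := himg (a 1)
  have hord : orderOf w = 2 * 2 ^ k := by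
    rw [← orderOf_injective f hf w, hw, Cfsg.Agent.Lib.Involutions.orderOf_conj_eq, orderOf_injective f hf, orderOf_a_one]
  obtain ⟨u, rfl⟩ : ∃ u, w = a u := by
    cases w with
    | a u => exact ⟨u, rfl⟩
    | xa i =>
      rw [orderOf_xa] at hord
      have : 2 ^ 2 ≤ 2 ^ k := Nat.pow_le_pow_right (by norm_num) hk
      omega
  have hmul : ∀ j, h * f (a j) * h⁻¹ = f (a (u * j)) := by
    intro j
    have e1 : f (a j) = f (a 1) ^ j.val := by rw [← map_pow, a_one_pow']
    rw [e1, ← conj_pow, ← hw, ← map_pow, ← a_one_pow' u, ← pow_mul]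
    congr 1
    rw [QuaternionGroup.a_one_pow]
    push_cast
    rw [ZMod.natCast_zmod_val, ZMod.natCast_zmod_val]
  have hiter : ∀ (e : ℕ) j, h ^ e * f (a j) * (h ^ e)⁻¹ = f (a (u ^ e * j)) := by
    intro e
    induction e with
    | zero => intro j; simp
    | succ e ih =>
      intro j
      calc h ^ (e + 1) * f (a j) * (h ^ (e + 1))⁻¹ = h ^ e * (h * f (a j) * h⁻¹) * (h ^ e)⁻¹ := by
            rw [pow_succ]; group
        _ = f (a (u ^ (e + 1) * j)) := by rw [hmul, ih, pow_succ, mul_assoc]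
  have hu : u = 1 := by
    have h1 := hiter (orderOf h) 1
    rw [pow_orderOf_eq_one, one_mul, inv_one, mul_one, mul_one] at h1
    have h2' : u ^ orderOf h = 1 := (QuaternionGroup.a.inj (hf h1)).symm
    let U : (ZMod (2 * 2 ^ k))ˣ := Units.ofPowEqOne u (orderOf h) h2' (orderOf_pos h).ne'
    have hU : U ^ orderOf h = 1 := Units.ext (by simpa [U] using h2')
    have hdvd : orderOf U ∣ 2 ^ k := by
      have h3 := orderOf_dvd_natCard U
      rw [Nat.card_eq_fintype_card, ZMod.card_units_eq_totient] at h3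
      have e : Nat.totient (2 * 2 ^ k) = 2 ^ k := by
        rw [show 2 * 2 ^ k = 2 ^ (k + 1) by ring, Nat.totient_prime_pow Nat.prime_two (by omega)]
        simp
      rwa [e] at h3
    have hU1 : U = 1 := orderOf_eq_one_iff.1 (Nat.eq_one_of_dvd_coprimes
      ((Nat.coprime_two_left.2 hodd).pow_left k) hdvd (orderOf_dvd_of_pow_eq_one hU))
    simpa [U] using congrArg Units.val hU1
  have hA : ∀ j, h * f (a j) = f (a j) * h := fun j => by
    have := hmul j
    rw [hu, one_mul, mul_inv_eq_iff_eq_mul] at this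
    exact this
  obtain ⟨w, hw⟩ := himg (xa 0)
  obtain ⟨i, rfl⟩ : ∃ i, w = xa i := by
    cases w with
    | xa i => exact ⟨i, rfl⟩
    | a i =>
      exfalso
      have : f (xa 0) = f (a i) := by
        calc f (xa 0) = h⁻¹ * (h * f (xa 0) * h⁻¹) * h := by group
          _ = h⁻¹ * (f (a i) * h) := by rw [← hw, mul_assoc]
          _ = f (a i) := by rw [← hA i]; group
      exact nomatch hf this
  have hi' : ∀ e : ℕ, h ^ e * f (xa 0) * (h ^ e)⁻¹ = f (xa ((e : ZMod (2 * 2 ^ k)) * i)) := by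
    intro e
    induction e with
    | zero => simp
    | succ e ih =>
      calc h ^ (e + 1) * f (xa 0) * (h ^ (e + 1))⁻¹
          = h * (h ^ e * f (xa 0) * (h ^ e)⁻¹) * h⁻¹ := by rw [pow_succ']; group
        _ = h * (f (xa 0) * f (a ((e : ZMod (2 * 2 ^ k)) * i))) * h⁻¹ := by
          rw [ih, ← map_mul, xa_mul_a, zero_add]
        _ = (h * f (xa 0) * h⁻¹) * (h * f (a ((e : ZMod (2 * 2 ^ k)) * i)) * h⁻¹) := by group
        _ = f (xa i) * f (a ((e : ZMod (2 * 2 ^ k)) * i)) := by
          rw [hmul, hu, one_mul, ← hw]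
        _ = _ := by rw [← map_mul, xa_mul_a]; push_cast; ring_nf
  have hi : i = 0 := by
    have h1 := hi' (orderOf h)
    rw [pow_orderOf_eq_one, one_mul, inv_one, mul_one] at h1
    have h2' : (orderOf h : ZMod (2 * 2 ^ k)) * i = 0 := (QuaternionGroup.xa.inj (hf h1)).symm
    have hu' : IsUnit (orderOf h : ZMod (2 * 2 ^ k)) := by
      rw [ZMod.isUnit_iff_coprime, show 2 * 2 ^ k = 2 ^ (k + 1) by ring]
      exact (Nat.coprime_two_right.2 hodd).pow_right _
    exact hu'.mul_right_eq_zero.1 h2'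
  have hX : h * f (xa 0) = f (xa 0) * h := by
    rw [hi] at hw
    exact mul_inv_eq_iff_eq_mul.1 hw.symm
  have hall : ∀ g ∈ P, g * h = h * g := by
    intro g hg
    rw [← hfr] at hg
    obtain ⟨w, rfl⟩ := hg
    cases w with
    | a j => exact (hA j).symm
    | xa j =>
      rw [show (xa j : QuaternionGroup (2 ^ k)) = xa 0 * a j by rw [xa_mul_a, zero_add], map_mul,
        mul_assoc, ← hA, ← mul_assoc, ← hX, mul_assoc]
  by_contra hh
  have hc : h ∉ Subgroup.center SL2 := by
    intro hc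
    rcases (mem_center_sl2_iff h2 h).1 hc with rfl | rfl
    · exact hh rfl
    · have : orderOf (-1 : SL2) ∣ 2 := orderOf_dvd_of_pow_eq_one (neg_one_sq)
      exact hh (orderOf_eq_one_iff.1 (Nat.eq_one_of_dvd_coprimes
        (Nat.coprime_two_left.2 hodd) this dvd_rfl))
  have hcyc := isCyclic_of_commute (noUnipotent_two_group h2 p hP) hc hall
  have e := congrArg Subtype.val ((IsCyclic.commutative (α := P)).is_comm.comm
    (⟨f (a 1), hfr ▸ ⟨_, rfl⟩⟩ : P) ⟨f (xa 0), hfr ▸ ⟨_, rfl⟩⟩)
  rw [Subgroup.coe_mul, Subgroup.coe_mul, ← map_mul, ← map_mul] at e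
  have e' := hf e
  rw [a_mul_xa, xa_mul_a, QuaternionGroup.xa.injEq, zero_sub, zero_add] at e'
  have h0 : ((2 : ℕ) : ZMod (2 * 2 ^ k)) = 0 := by push_cast; linear_combination -e'
  rw [ZMod.natCast_eq_zero_iff] at h0
  have := Nat.le_of_dvd (by norm_num) h0
  have : 2 ^ 2 ≤ 2 ^ k := Nat.pow_le_pow_right (by norm_num) hk
  omega

end

/-- Let F be a finite field of odd order q with q² ≡ 1 mod 16 (so that a Sylow 2-subgroup of PSL(2,q), dihedral of order the 2-part of (q²−1)/2, has order at least 8). Then the 2-fusion system of PSL(2,F) on a Sylow 2-subgroup is simple: saturated, over a nontrivial 2-group, with no normal subsystem other than the trivial one and itself. -/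
theorem result {F : Type*} [Field F] [Fintype F] (hodd : Fintype.card F % 2 = 1) (h16 : 16 ∣ Fintype.card F ^ 2 - 1)
    (S : Sylow 2 (Matrix.ProjectiveSpecialLinearGroup (Fin 2) F)) :
    (Cfsg.groupFusionSystem (S : Subgroup (Matrix.ProjectiveSpecialLinearGroup (Fin 2) F))).IsSimple 2 := by
  classical
  have : Fact (Nat.Prime 2) := ⟨Nat.prime_two⟩
  have hodd' : Odd (Fintype.card F) := Nat.odd_iff.2 hodd
  have h2 : (2 : F) ≠ 0 := two_ne_zero_of_odd hodd'
  obtain ⟨p, hp, hpc⟩ := exists_charP (F := F)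
  set q := Fintype.card F with hq
  have hq4 : 4 ≤ q := by
    by_contra hlt
    have := Fintype.one_lt_card (α := F)
    have : q = 3 := by rw [Nat.odd_iff] at hodd'; omega
    rw [this] at h16
    norm_num at h16
  haveI : IsSimpleGroup (Matrix.ProjectiveSpecialLinearGroup (Fin 2) F) :=
    isSimpleGroup_PSL_fin (le_refl 2) (fun _ => by rw [Nat.card_eq_fintype_card]; exact hq4)
  -- a preimage of `S`
  set π := QuotientGroup.mk' (Subgroup.center (Matrix.SpecialLinearGroup (Fin 2) F)) with hπ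
  obtain ⟨P, hP⟩ := Sylow.mapSurjective_surjective (QuotientGroup.mk'_surjective
    (Subgroup.center (Matrix.SpecialLinearGroup (Fin 2) F))) 2 S
  have hSmem : ∀ x, x ∈ (P : Subgroup (Matrix.SpecialLinearGroup (Fin 2) F)) → π x ∈ (S : Subgroup (Matrix.ProjectiveSpecialLinearGroup (Fin 2) F)) := by
    intro x hx
    rw [← hP]
    exact ⟨x, hx, rfl⟩
  obtain ⟨k, -, ⟨e⟩⟩ := sylow_two_SL2_quaternion h2 P
  have hne : NeZero (2 ^ k) := ⟨by positivity⟩
  set f := (P : Subgroup (Matrix.SpecialLinearGroup (Fin 2) F)).subtype.comp e.symm.toMonoidHom with hfdef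
  have hf : Function.Injective f := Subtype.val_injective.comp e.symm.injective
  have hfr : f.range = (P : Subgroup (Matrix.SpecialLinearGroup (Fin 2) F)) := by
    rw [hfdef, MonoidHom.range_comp, MonoidHom.range_eq_top.2 e.symm.surjective,
      ← MonoidHom.range_eq_map, Subgroup.range_subtype]
  have hk : 2 ≤ k := by
    by_contra hlt
    have hc : Nat.card (P : Subgroup (Matrix.SpecialLinearGroup (Fin 2) F)) = 4 * 2 ^ k := by
      rw [Nat.card_congr e.toEquiv, Nat.card_eq_fintype_card, QuaternionGroup.card]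
    have hdvd : 2 ^ 4 ∣ Nat.card (Matrix.SpecialLinearGroup (Fin 2) F) := by
      rw [card_SL2]
      exact Dvd.dvd.mul_left (by simpa using h16) _
    have hle : 4 * 2 ^ k ≤ 2 ^ 3 := by interval_cases k <;> norm_num
    have := Nat.le_of_dvd (by rw [← hc]; exact Nat.card_pos)
      (hc ▸ P.pow_dvd_card_of_pow_dvd_card hdvd)
    omega
  -- the involution `-1`
  have hnegP : (-1 : Matrix.SpecialLinearGroup (Fin 2) F) ∈ (P : Subgroup (Matrix.SpecialLinearGroup (Fin 2) F)) := by
    have h1 : IsPGroup 2 ↥(Subgroup.zpowers (-1 : Matrix.SpecialLinearGroup (Fin 2) F)) := by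
      have hd : orderOf (-1 : Matrix.SpecialLinearGroup (Fin 2) F) ∣ 2 ^ 1 :=
        orderOf_dvd_of_pow_eq_one (by rw [pow_one]; exact neg_one_sq)
      obtain ⟨j, -, hj⟩ := (Nat.dvd_prime_pow Nat.prime_two).1 hd
      exact IsPGroup.of_card (n := j) ((Nat.card_zpowers _).trans hj)
    have hle : Subgroup.zpowers (-1 : Matrix.SpecialLinearGroup (Fin 2) F) ≤ Subgroup.center _ :=
      Subgroup.zpowers_le.2 neg_one_mem_center
    have hsup : IsPGroup 2 ↥((P : Subgroup (Matrix.SpecialLinearGroup (Fin 2) F)) ⊔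
        Subgroup.zpowers (-1 : Matrix.SpecialLinearGroup (Fin 2) F)) :=
      IsPGroup.to_sup_of_normal_left' P.2 h1 (hle.trans (Subgroup.center_le_normalizer _))
    rw [← P.3 hsup le_sup_left]
    exact Subgroup.mem_sup_right (Subgroup.mem_zpowers _)
  have hker : ∀ x y, π x = π y → y = x ∨ y = -x := by
    intro x y hxy
    rcases (mem_center_sl2_iff h2 _).1 (QuotientGroup.eq.1 hxy) with h | h
    · exact Or.inl (inv_mul_eq_one.1 h).symm
    · right
      rw [inv_mul_eq_iff_eq_mul] at h
      rw [h, mul_neg, mul_one]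
  have hpre : ∀ x, π x ∈ (S : Subgroup (Matrix.ProjectiveSpecialLinearGroup (Fin 2) F)) → x ∈ (P : Subgroup (Matrix.SpecialLinearGroup (Fin 2) F)) := by
    intro x hx
    rw [← hP] at hx
    obtain ⟨y, hy, hyx⟩ := hx
    rcases hker y x hyx with h | h
    · rwa [h]
    · rw [h, ← neg_one_mul]
      exact mul_mem hnegP hy
  apply Cfsg.Agent.Lib.Compute.isSimple_of_closed S
  · intro hbot
    have h1 := hSmem (f (xa 0)) (hfr ▸ ⟨_, rfl⟩)
    rw [hbot, Subgroup.mem_bot, hπ, QuotientGroup.mk'_apply, QuotientGroup.eq_one_iff,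
      mem_center_sl2_iff h2] at h1
    have h4 : orderOf (f (xa 0)) = 4 := by rw [orderOf_injective _ hf, orderOf_xa]
    have : f (xa 0) ^ 2 = 1 := by rcases h1 with h | h <;> rw [h] <;> simp
    have := Nat.le_of_dvd (by norm_num) (orderOf_dvd_of_pow_eq_one this)
    omega
  · -- `S` is self-normalising
    intro g hg
    obtain ⟨g, rfl⟩ := QuotientGroup.mk'_surjective _ g
    apply hSmem
    have hgN : g ∈ Subgroup.normalizer ((P : Subgroup (Matrix.SpecialLinearGroup (Fin 2) F)) : Set _) := by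
      rw [Subgroup.mem_normalizer_iff]
      intro x
      have h1 := Subgroup.mem_normalizer_iff.1 hg (π x)
      constructor
      · intro hx
        apply hpre
        rw [map_mul, map_mul, map_inv]
        exact h1.1 (hSmem x hx)
      · intro hx
        apply hpre
        rw [h1]
        have := hSmem _ hx
        rwa [map_mul, map_mul, map_inv] at this
    set N := Subgroup.normalizer ((P : Subgroup (Matrix.SpecialLinearGroup (Fin 2) F)) : Set (Matrix.SpecialLinearGroup (Fin 2) F))
    have hN : IsPGroup 2 ↥N := by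
      intro x
      obtain ⟨j, m, hm, hjm⟩ := Nat.exists_eq_pow_mul_and_not_dvd (orderOf_pos x).ne' 2 (by norm_num)
      refine ⟨j, ?_⟩
      apply Subtype.ext
      refine eq_one_of_odd_normalizer h2 p hk P P.2 f hf hfr _ ?_ (x ^ 2 ^ j).2
      rw [Subgroup.orderOf_coe, orderOf_pow, hjm, Nat.gcd_mul_right_left,
        Nat.mul_div_cancel_left _ (by positivity)]
      exact Nat.odd_iff.2 (Nat.two_dvd_ne_zero.1 hm)
    rw [← P.3 hN Subgroup.le_normalizer]
    exact hgN
  · -- no proper closed subgroups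
    intro T hTS hT0 hcl
    set z := π (f (a ((2 ^ k / 2 : ℕ) : ZMod (2 * 2 ^ k)))) with hz
    have hsq : ∀ w : QuaternionGroup (2 ^ k), π (f w) ^ 2 = 1 →
        π (f w) = 1 ∨ π (f w) = z ∨ ∃ i, w = xa i := by
      intro w hw
      cases w with
      | xa i => exact Or.inr (Or.inr ⟨i, rfl⟩)
      | a j =>
        have hpow : f (a (j + j + (j + j))) = 1 := by
          rw [← map_pow, hπ, QuotientGroup.mk'_apply, QuotientGroup.eq_one_iff,
            mem_center_sl2_iff h2, ← map_pow, pow_two, a_mul_a] at hw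
          rw [← a_mul_a, map_mul]
          rcases hw with h | h <;> rw [h] <;> simp
        have h4 : ((4 : ℕ) : ZMod (2 * 2 ^ k)) * ((j.val : ℕ) : ZMod (2 * 2 ^ k)) = 0 := by
          rw [ZMod.natCast_zmod_val]
          have := QuaternionGroup.a.inj ((hf (hpow.trans (map_one f).symm)).trans one_def)
          push_cast
          linear_combination this
        rw [← Nat.cast_mul, ZMod.natCast_eq_zero_iff] at h4
        obtain ⟨k', rfl⟩ : ∃ k', k = k' + 1 := ⟨k - 1, by omega⟩
        have hn : 2 ^ (k' + 1) / 2 = 2 ^ k' := by rw [pow_succ]; omega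
        have hd : 2 ^ k' ∣ j.val := by
          have : 4 * 2 ^ k' ∣ 4 * j.val := by rwa [show 4 * 2 ^ k' = 2 * 2 ^ (k' + 1) by ring]
          exact Nat.dvd_of_mul_dvd_mul_left (by norm_num) this
        obtain ⟨c, hc⟩ := hd
        have hc4 : c < 4 := by
          have hlt := ZMod.val_lt j
          rw [hc, show 2 * 2 ^ (k' + 1) = 2 ^ k' * 4 by ring] at hlt
          exact Nat.lt_of_mul_lt_mul_left hlt
        have hj : (a j : QuaternionGroup (2 ^ (k' + 1))) = a ((2 ^ (k' + 1) / 2 : ℕ) : ZMod _) ^ c := by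
          rw [← a_one_pow' j, hn, ← QuaternionGroup.a_one_pow (2 ^ k'), ← pow_mul, hc]
        rw [hj, map_pow, map_pow]
        have hz2 : z ^ 2 = 1 := by
          rw [hz, ← map_pow, hπ, QuotientGroup.mk'_apply, QuotientGroup.eq_one_iff,
            mem_center_sl2_iff h2]
          refine sl2_sq_eq_one h2 _ ?_
          rw [← map_pow, ← map_mul, ← pow_add, hn, ← QuaternionGroup.a_one_pow (2 ^ k'), ← pow_mul,
            show 2 ^ k' * (2 + 2) = orderOf (a 1 : QuaternionGroup (2 ^ (k' + 1))) by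
              rw [orderOf_a_one, pow_succ]; ring, pow_orderOf_eq_one, map_one]
        interval_cases c
        · left; simp
        · right; left; simp [hz]
        · left; exact hz2
        · right; left
          rw [← hz, pow_succ, hz2, one_mul]
    -- all `π (f (xa i))` are fused to `z`
    have hxa : ∀ i, orderOf (π (f (xa i))) = 2 := by
      intro i
      refine orderOf_eq_prime ?_ ?_
      · rw [← map_pow, hπ, QuotientGroup.mk'_apply, QuotientGroup.eq_one_iff, mem_center_sl2_iff h2]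
        refine sl2_sq_eq_one h2 _ ?_
        rw [← map_pow, ← map_mul, ← pow_add, show 2 + 2 = orderOf (xa i : QuaternionGroup (2 ^ k)) from (orderOf_xa i).symm,
          pow_orderOf_eq_one, map_one]
      · rw [Ne, hπ, QuotientGroup.mk'_apply, QuotientGroup.eq_one_iff, mem_center_sl2_iff h2]
        intro h
        have h4 : orderOf (f (xa i)) = 4 := by rw [orderOf_injective _ hf, orderOf_xa]
        have : f (xa i) ^ 2 = 1 := by rcases h with h | h <;> rw [h] <;> simp
        have := Nat.le_of_dvd (by norm_num) (orderOf_dvd_of_pow_eq_one this)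
        omega
    set A := (Subgroup.zpowers (a (1 : ZMod (2 * 2 ^ k)))).map (π.comp f) with hA
    have hAS : A ≤ (S : Subgroup (Matrix.ProjectiveSpecialLinearGroup (Fin 2) F)) := by
      rintro _ ⟨w, -, rfl⟩
      exact hSmem _ (hfr ▸ ⟨w, rfl⟩)
    have hAmem : ∀ x, x ∈ A ↔ ∃ j, π (f (a j)) = x := by
      intro x
      constructor
      · rintro ⟨w, ⟨j, rfl⟩, rfl⟩
        cases hw : (a (1 : ZMod (2 * 2 ^ k))) ^ j with
        | a l =>
          refine ⟨l, ?_⟩
          show π (f (a l)) = π (f _)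
          rw [← hw]
        | xa l =>
          exfalso
          have hmem : (xa l : QuaternionGroup (2 ^ k)) ∈ Subgroup.zpowers (a (1 : ZMod (2 * 2 ^ k))) := hw ▸ ⟨j, rfl⟩
          obtain ⟨m, hm : _ ^ m = _⟩ := mem_powers_iff_mem_zpowers.2 hmem
          rw [QuaternionGroup.a_one_pow] at hm
          exact nomatch hm
      · rintro ⟨j, rfl⟩
        exact ⟨a j, ⟨(j.val : ℤ), (zpow_natCast _ _).trans (a_one_pow' j)⟩, rfl⟩
    have hxaA : ∀ i, π (f (xa i)) ∉ A := by
      intro i hi
      obtain ⟨j, hj⟩ := (hAmem _).1 hi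
      rcases hker _ _ hj with h | h
      · exact nomatch hf h
      · have hm1 : (-1 : Matrix.SpecialLinearGroup (Fin 2) F) ∈ f.range := hfr ▸ hnegP
        obtain ⟨w, hw⟩ := hm1
        rw [← neg_one_mul, ← hw, ← map_mul] at h
        cases w with
        | a l => exact nomatch hf h
        | xa l =>
          have h4 : orderOf (f (xa l)) = 4 := by rw [orderOf_injective _ hf, orderOf_xa]
          rw [hw] at h4
          have := Nat.le_of_dvd (by norm_num)
            (orderOf_dvd_of_pow_eq_one (neg_one_sq (R := Matrix.SpecialLinearGroup (Fin 2) F)))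
          omega
    have hrel : A.relIndex (S : Subgroup (Matrix.ProjectiveSpecialLinearGroup (Fin 2) F)) = 2 := by
      rw [Subgroup.relIndex, Subgroup.index_eq_two_iff]
      refine ⟨⟨π (f (xa 0)), hSmem _ (hfr ▸ ⟨_, rfl⟩)⟩, fun b => ?_⟩
      simp only [Subgroup.mem_subgroupOf, Subgroup.coe_mul]
      obtain ⟨x, hx, hxb⟩ : (b : (Matrix.ProjectiveSpecialLinearGroup (Fin 2) F)) ∈ ((P.mapSurjective (QuotientGroup.mk'_surjective (Subgroup.center (Matrix.SpecialLinearGroup (Fin 2) F))) :
          Sylow 2 (Matrix.ProjectiveSpecialLinearGroup (Fin 2) F)) : Subgroup (Matrix.ProjectiveSpecialLinearGroup (Fin 2) F)) := by rw [hP]; exact b.2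
      rw [← hfr] at hx
      obtain ⟨w, rfl⟩ := hx
      rw [← hxb]
      show Xor (π (f w) * π (f (xa 0)) ∈ A) (π (f w) ∈ A)
      rw [← map_mul, ← map_mul]
      cases w with
      | a j => exact Or.inr ⟨(hAmem _).2 ⟨j, rfl⟩, by rw [a_mul_xa]; exact hxaA _⟩
      | xa j => exact Or.inl ⟨(hAmem _).2 ⟨_, by rw [xa_mul_xa]⟩, hxaA j⟩
    have hfuse : ∀ i, IsConj (π (f (xa i))) z := by
      intro i
      rcases Cfsg.Agent.S0111.result S A hAS hrel _ (hxa i) (hSmem _ (hfr ▸ ⟨_, rfl⟩)) (hxaA i) with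
        ⟨M, hM, hMi, -⟩ | ⟨g, hg⟩
      · rcases Subgroup.Normal.eq_bot_or_eq_top hM with rfl | rfl
        · rw [Subgroup.index_bot] at hMi
          have hc := card_PSL2_mul (F := F)
          rw [hMi, ← hq] at hc
          have h1 : Nat.gcd 2 (q - 1) ≤ 2 := Nat.le_of_dvd (by norm_num) (Nat.gcd_dvd_left _ _)
          have h15 : 15 ≤ q ^ 2 - 1 := by
            have : 4 * 4 ≤ q ^ 2 := by rw [pow_two]; exact Nat.mul_le_mul hq4 hq4
            omega
          have := Nat.mul_le_mul hq4 h15
          omega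
        · simp at hMi
      · obtain ⟨j, hj⟩ := (hAmem _).1 hg
        refine isConj_iff.2 ⟨g, ?_⟩
        rw [← hj]
        have ho : orderOf (π (f (a j))) = 2 := by rw [hj, Cfsg.Agent.Lib.Involutions.orderOf_conj_eq, hxa]
        rcases hsq (a j) (orderOf_dvd_iff_pow_eq_one.1 ho.dvd) with h | h | ⟨l, hl⟩
        · rw [h, orderOf_one] at ho; omega
        · exact h
        · exact nomatch hl
    obtain ⟨⟨t, ht⟩, ht1⟩ := Subgroup.ne_bot_iff_exists_ne_one.1 hT0
    have hTp : IsPGroup 2 ↥T := S.2.to_le hTS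
    obtain ⟨⟨u, hu⟩, hu2⟩ := exists_prime_orderOf_dvd_card' 2 (hTp.dvd_orderOf (g := ⟨t, ht⟩) ht1 |>.trans (orderOf_dvd_natCard _))
    rw [Subgroup.orderOf_mk] at hu2
    have hzT : z ∈ T := by
      obtain ⟨x, hx, hxu⟩ : u ∈ ((P.mapSurjective (QuotientGroup.mk'_surjective (Subgroup.center (Matrix.SpecialLinearGroup (Fin 2) F))) :
          Sylow 2 (Matrix.ProjectiveSpecialLinearGroup (Fin 2) F)) : Subgroup (Matrix.ProjectiveSpecialLinearGroup (Fin 2) F)) := by rw [hP]; exact hTS hu
      rw [← hfr] at hx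
      obtain ⟨w, rfl⟩ := hx
      change π (f w) = u at hxu
      rcases hsq w (hxu.symm ▸ orderOf_dvd_iff_pow_eq_one.1 hu2.dvd) with h | h | ⟨i, rfl⟩
      · rw [← hxu, h, orderOf_one] at hu2; omega
      · rw [← h, hxu]; exact hu
      · obtain ⟨g, hg⟩ := isConj_iff.1 (hfuse i)
        rw [hxu] at hg
        have hzS : z ∈ (S : Subgroup (Matrix.ProjectiveSpecialLinearGroup (Fin 2) F)) := hSmem _ (hfr ▸ ⟨_, rfl⟩)
        have := hcl u hu g (hg ▸ hzS)
        rwa [hg] at this
    have hxT : ∀ i, π (f (xa i)) ∈ T := by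
      intro i
      obtain ⟨g, hg⟩ := isConj_iff.1 (hfuse i).symm
      have hmem : π (f (xa i)) ∈ (S : Subgroup (Matrix.ProjectiveSpecialLinearGroup (Fin 2) F)) := hSmem _ (hfr ▸ ⟨_, rfl⟩)
      have := hcl z hzT g (hg ▸ hmem)
      rwa [hg] at this
    refine le_antisymm hTS fun y hy => ?_
    rw [← hP] at hy
    obtain ⟨x, hx, rfl⟩ := hy
    rw [SetLike.mem_coe, ← hfr] at hx
    obtain ⟨w, rfl⟩ := hx
    cases w with
    | xa i => exact hxT i
    | a j =>
      have : (a j : QuaternionGroup (2 ^ k)) = (xa 0)⁻¹ * xa j := by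
        rw [eq_inv_mul_iff_mul_eq, xa_mul_a, zero_add]
      show π (f (a j)) ∈ T
      rw [this, map_mul, map_mul, map_inv, map_inv]
      exact mul_mem (inv_mem (hxT 0)) (hxT j)

end Cfsg.Agent.S5317
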