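import Cfsg.Statements.S5322
import Cfsg.Agent.Lib.J3.Local
import Cfsg.Agent.Lib.Recognition.FusionCentral

set_option autoImplicit false
open Cfsg

namespace Cfsg.Agent.S5322

/-- For a finite group G isomorphic to the third Janko group J₃, the 2-fusion system of G on a Sylow 2-subgroup is simple: saturated, over a nontrivial 2-group, with no normal subsystem other than the trivial one and itself. -/
theorem result {G : Type*} [Group G] [Finite G] (hG : Cfsg.Spor.IsoJ3 G) (S : Sylow 2 G) : (Cfsg.groupFusionSystem (S : Subgroup G)).IsSimple 2 := by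
  haveI : Fact (Nat.Prime 2) := ⟨Nat.prime_two⟩
  obtain ⟨F, hfield, hfin, ω, hF, hω, ⟨e⟩⟩ := hG
  obtain ⟨L⟩ := Lib.J3.exists_localData hF hω
  haveI : Finite (Cfsg.Spor.J3 F ω) :=
    Nat.finite_of_card_ne_zero (by rw [L.card_eq]; norm_num)
  refine Lib.Recognition.isSimple_of_central_equiv e.symm L.sylow ?_ ?_ L.cent L.Q.sub
    L.Q_le_P L.normalizer_le ?_ L.cent_gen ?_ S
  · intro h
    rw [L.coe_sylow] at h
    have := L.P.card_sub
    rw [h, Subgroup.card_bot] at this
    norm_num at this
  · exact L.closed_trivial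
  · intro g hg
    exact Lib.Fusion.mem_normalizer_of_finite fun q hq => L.cent_normalizes hg q hq
  · intro g hg hc
    exact L.Q_le_P (L.cent_Q_le (L.normalizer_le hg) hc)

end Cfsg.Agent.S5322
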