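import Cfsg.Statements.S5328
import Cfsg.Agent.Lib.Fusion.Biset

set_option autoImplicit false
universe u
open Cfsg Cfsg.FusionSystem Cfsg.Agent.Lib.Fusion

namespace Cfsg.Agent.S5328

open Cfsg.Agent.Lib.Fusion Cfsg.FusionSystem in
theorem markList_flatten_replicate {Ω : Type*} [Group Ω] {T : Subgroup Ω} (c : ℕ)
    (L : List (Subgroup Ω)) (P : Subgroup Ω) :
    markList T (List.replicate c L).flatten P = c * markList T L P := by
  induction c with
  | zero => simp [markList]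
  | succ c ih => rw [List.replicate_succ, List.flatten_cons, markList_append, ih]; ring

open Cfsg.Agent.Lib.Fusion Cfsg.FusionSystem in
/-- Over any system a list can be completed to one with constant marks, up to multiplicities. -/
theorem exists_scaled_completion {Ω : Type*} [Group Ω] {T : Subgroup Ω} [Finite T] {p : ℕ}
    [Fact p.Prime] (E : Cfsg.FusionSystem T) (hT : IsPGroup p T)
    (𝒳 : Set (Subgroup Ω)) (h𝒳 : ∀ R ∈ 𝒳, R ≤ T) (hdown : ∀ R ∈ 𝒳, ∀ P ≤ R, P ∈ 𝒳)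
    (hconj : ∀ R ∈ 𝒳, ∀ R', E.IsConj R R' → R' ∈ 𝒳) (R₀ : Subgroup Ω) (hR₀ : R₀ ∈ 𝒳) :
    ∃ L : List (Subgroup Ω), (∀ R ∈ L, R ∈ 𝒳) ∧ R₀ ∈ L ∧
      ∀ P P', E.IsConj P P' → markList T L P = markList T L P' := by
  classical
  have hzero : ∀ L : List (Subgroup Ω), (∀ R ∈ L, R ∈ 𝒳) → ∀ P ≤ T, P ∉ 𝒳 →
      markList T L P = 0 := by
    intro L₁ hL₁ P hP hPX
    refine Finset.sum_eq_zero fun i _ => ?_
    by_contra hne
    obtain ⟨g, hg, hgP⟩ := exists_of_markOne_ne_zero hP hne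
    have hsub : P.map (MulAut.conj g⁻¹).toMonoidHom ≤ L₁.get i := by
      rintro _ ⟨x, hx, rfl⟩
      simpa using hgP x hx
    exact hPX (hconj _ (hdown _ (hL₁ _ (List.get_mem L₁ i)) _ hsub) _
      (isConj_symm (isConj_conj E (T.inv_mem hg) hP)))
  suffices H : ∀ d : ℕ, ∃ L : List (Subgroup Ω), (∀ R ∈ L, R ∈ 𝒳) ∧ R₀ ∈ L ∧
      ∀ P P', E.IsConj P P' → Nat.card T < Nat.card P + d →
        markList T L P = markList T L P' by
    obtain ⟨L, h1, h2, h3⟩ := H (Nat.card T + 1)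
    exact ⟨L, h1, h2, fun P P' h => h3 P P' h (by omega)⟩
  intro d
  induction d with
  | zero =>
    refine ⟨[R₀], by simpa using hR₀, List.mem_singleton_self _, fun P P' h hlt => ?_⟩
    have := Subgroup.card_le_of_le (isConj_le_left h)
    omega
  | succ d IH =>
    obtain ⟨L₁, hL₁, hR, hst⟩ := IH
    set k := Nat.card T - d with hk
    have hfin : {P : Subgroup Ω | P ≤ T}.Finite := finite_subgroups_le
    set c := Nat.card T with hc'
    set L := (List.replicate c L₁).flatten with hLdef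
    have hLm : ∀ R ∈ L, R ∈ 𝒳 := fun R hR' => by
      obtain ⟨l, hl, hl'⟩ := List.mem_flatten.1 hR'
      rw [List.eq_of_mem_replicate hl] at hl'
      exact hL₁ R hl'
    have hR' : R₀ ∈ L := List.mem_flatten.2 ⟨L₁,
      List.mem_replicate.2 ⟨Nat.card_pos.ne', rfl⟩, hR⟩
    set M := ∑ P ∈ hfin.toFinset, markList T L₁ P with hM
    obtain ⟨L₂, hL₂, hres⟩ := exists_raise (p := p) E hT 𝒳 h𝒳 hdown hconj k L (fun _ => c * M)
      (fun _ _ _ _ => rfl) (fun P hP _ => by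
        rw [markList_flatten_replicate]
        refine ⟨Nat.mul_le_mul_left c (Finset.single_le_sum (f := fun Q => markList T L₁ Q)
          (fun _ _ => Nat.zero_le _) (hfin.mem_toFinset.2 (h𝒳 P hP))), ?_⟩
        rw [← Nat.mul_sub]
        refine Dvd.dvd.mul_right ?_ _
        exact (Dvd.intro _ (normIndex_mul (h𝒳 P hP))).trans
          (Subgroup.card_dvd_of_le (normalizerIn_le T P)))
    refine ⟨L₂ ++ L, fun R hR => (List.mem_append.1 hR).elim (fun h => (hL₂ R h).1) (hLm R),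
      List.mem_append_right _ hR', fun P P' hc hlt => ?_⟩
    have hPT := isConj_le_left hc
    have hPT' := isConj_le_right hc
    by_cases hPX : P ∈ 𝒳
    · by_cases hPk : Nat.card P = k
      · rw [hres P hPX hPk, hres P' (hconj P hPX P' hc) ((isConj_card hc).symm.trans hPk)]
      · have hgt : k < Nat.card P := by omega
        have hz : ∀ Q ≤ T, k < Nat.card Q → markList T L₂ Q = 0 := by
          intro Q hQ hQk
          refine Finset.sum_eq_zero fun i _ => ?_
          by_contra hne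
          obtain ⟨hRX, hRk⟩ := hL₂ _ (List.get_mem L₂ i)
          rcases markOne_eq_zero_or (h𝒳 _ hRX) hQ (show Nat.card (L₂.get i) ≤ _ from
            hRk.trans_le hQk.le) with h0 | ⟨g, hg, he, -⟩
          · exact hne h0
          · have := isConj_card (isConj_conj E hg (h𝒳 _ hRX))
            rw [he] at this
            omega
        rw [markList_append, markList_append L₂, hz P hPT hgt,
          hz P' hPT' (isConj_card hc ▸ hgt), hLdef, markList_flatten_replicate,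
          markList_flatten_replicate, hst P P' hc (by omega)]
    · have hPX' : P' ∉ 𝒳 := fun h => hPX (hconj _ h _ (isConj_symm hc))
      have hall : ∀ R ∈ L₂ ++ L, R ∈ 𝒳 := fun R hR =>
        (List.mem_append.1 hR).elim (fun h => (hL₂ R h).1) (hLm R)
      rw [hzero _ hall P hPT hPX, hzero _ hall P' hPT' hPX']

open Cfsg.Agent.Lib.Fusion Cfsg.FusionSystem MulAction in
theorem realized.{v} {Ω : Type v} [Group Ω] {S : Subgroup Ω} [Finite S] (p : ℕ) [Fact p.Prime]
    (hS : IsPGroup p S) (F : Cfsg.FusionSystem S) :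
    ∃ (G : Type v) (_ : Group G) (_ : Finite G) (ι : ↥S →* G), F.IsRealizedBy ι := by
  classical
  set T := S.prod S with hTdef
  set E := productSystem F (Cfsg.innerFusionSystem S) with hEdef
  set 𝒳 := {R : Subgroup (Ω × Ω) | ∃ (P : Subgroup Ω) (φ : P →* Ω), φ ∈ F.Hom P ∧ R = graph P φ}
  have h𝒳 : ∀ R ∈ 𝒳, R ≤ T := by
    rintro R ⟨P, φ, hφ, rfl⟩
    exact graph_le_prod F hφ
  have hdown : ∀ R ∈ 𝒳, ∀ P ≤ R, P ∈ 𝒳 := by
    rintro R ⟨P, φ, hφ, rfl⟩ R' hR'
    obtain ⟨hle, e⟩ := eq_graph_of_le hR'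
    exact ⟨_, _, restr_mem F hφ hle, e⟩
  have hconj : ∀ R ∈ 𝒳, ∀ R', E.IsConj R R' → R' ∈ 𝒳 := by
    rintro R ⟨P, φ, hφ, rfl⟩ R' h
    obtain ⟨P', φ', h1, h2, -⟩ := exists_graph_of_isConj hφ h
    exact ⟨P', φ', h1, h2⟩
  obtain ⟨L, hL, hmemL, hstab⟩ := exists_scaled_completion (p := p) E (isPGroup_prod hS hS) 𝒳 h𝒳
    hdown hconj (graph S S.subtype) ⟨S, _, subtype_mem F le_rfl, rfl⟩
  obtain ⟨i₀, hi₀⟩ := List.get_of_mem hmemL
  let X := Σ i : Fin L.length, T ⧸ (L.get i).subgroupOf T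
  let lft : S →* T :=
    { toFun := fun s => ⟨((s : Ω), 1), s.2, S.one_mem⟩
      map_one' := rfl
      map_mul' := fun a b => Subtype.ext (Prod.ext rfl (mul_one 1).symm) }
  let rgt : S →* T :=
    { toFun := fun s => ⟨(1, (s : Ω)), S.one_mem, s.2⟩
      map_one' := rfl
      map_mul' := fun a b => Subtype.ext (Prod.ext (mul_one 1).symm rfl) }
  let act : T →* Equiv.Perm X := MulAction.toPermHom T X
  let Z : Subgroup (Equiv.Perm X) := Subgroup.centralizer ((act.comp rgt).range : Set (Equiv.Perm X))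
  have hlr : ∀ a b : S, lft a * rgt b = rgt b * lft a := fun a b =>
    Subtype.ext (Prod.ext (by simp [lft, rgt]) (by simp [lft, rgt]))
  have hιZ : ∀ s, act (lft s) ∈ Z := fun s => Subgroup.mem_centralizer_iff.2 <| by
    rintro _ ⟨b, rfl⟩
    show act (rgt b) * act (lft s) = act (lft s) * act (rgt b)
    rw [← map_mul, ← map_mul, hlr]
  let ι : S →* Z := (act.comp lft).codRestrict Z hιZ
  set x₀ : X := ⟨i₀, QuotientGroup.mk 1⟩ with hx₀
  refine ⟨Z, inferInstance, inferInstance, ι, ?_, fun P hP φ hφ => ⟨fun hF => ?_, fun ⟨g, hg⟩ => ?_⟩⟩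
  · rw [← MonoidHom.ker_eq_bot_iff, eq_bot_iff]
    intro s hs
    have h1 : lft s • x₀ = x₀ :=
      congrArg (fun z : Z => (z : Equiv.Perm X) x₀) hs
    rw [hx₀, Sigma.smul_mk] at h1
    have h2 := QuotientGroup.eq.1 (eq_of_heq (Sigma.mk.inj h1).2).symm
    rw [Subgroup.mem_subgroupOf, hi₀] at h2
    obtain ⟨h3, h4⟩ := mem_graph.1 h2
    refine Subtype.ext ?_
    simpa [lft] using h4
  · have : Finite P := finite_of_le hP
    let G := P.prod S
    have hGT : G ≤ T := Subgroup.prod_mono hP le_rfl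
    have : Finite G := Finite.of_equiv _ (P.prodEquiv S).symm.toEquiv
    let q₁ : G →* P := ((MonoidHom.fst Ω Ω).comp G.subtype).codRestrict P fun x => x.2.1
    let q₂ : G →* Ω := (MonoidHom.snd Ω Ω).comp G.subtype
    let Ψ : G →* Ω × Ω := (φ.comp q₁).prod q₂
    have hΨ : Ψ ∈ E.Hom G := by
      refine (productSystem_spec F (Cfsg.innerFusionSystem S) G Ψ).2 ⟨hGT,
        restr (show G.map (MonoidHom.fst Ω Ω) ≤ P by rintro _ ⟨z, hz, rfl⟩; exact hz.1) φ,
        restr_mem F hF _, (G.map (MonoidHom.snd Ω Ω)).subtype,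
        subtype_mem _ (by rintro _ ⟨z, hz, rfl⟩; exact hz.2), fun x _ _ => rfl⟩
    let a : G →* T := Subgroup.inclusion hGT
    let b : G →* T := Ψ.codRestrict T fun x => ⟨apply_mem hF _, x.2.2⟩
    obtain ⟨ee, hee⟩ := exists_semiconj (X := X) a b (fun H => by
      have ha : H.map a = (H.map G.subtype).subgroupOf T := by
        ext x
        exact ⟨fun ⟨y, hy, h⟩ => ⟨y, hy, congrArg Subtype.val h⟩,
          fun ⟨y, hy, h⟩ => ⟨y, hy, Subtype.ext h⟩⟩
      have hb : H.map b = (img Ψ (H.map G.subtype)).subgroupOf T := by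
        ext x
        rw [Subgroup.mem_subgroupOf, mem_img]
        constructor
        · rintro ⟨y, hy, rfl⟩
          exact ⟨y, y.2, ⟨y, hy, rfl⟩, rfl⟩
        · rintro ⟨_, hyN, ⟨y, hy, rfl⟩, h⟩
          exact ⟨y, hy, Subtype.ext h⟩
      rw [ha, hb, card_sigma_fix, card_sigma_fix]
      exact hstab _ _ (isConj_img E hΨ (Subgroup.map_subtype_le H)))
    have heZ : (ee : Equiv.Perm X) ∈ Z := Subgroup.mem_centralizer_iff.2 <| by
      rintro _ ⟨s, rfl⟩
      ext1 y
      have h1 := hee ⟨(1, (s : Ω)), P.one_mem, s.2⟩ y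
      have e1 : a ⟨(1, (s : Ω)), P.one_mem, s.2⟩ = rgt s := rfl
      have e2 : b ⟨(1, (s : Ω)), P.one_mem, s.2⟩ = rgt s :=
        Subtype.ext (Prod.ext (show φ (q₁ ⟨(1, (s : Ω)), P.one_mem, s.2⟩) = 1 from map_one φ) rfl)
      rw [e1, e2] at h1
      exact h1.symm
    refine ⟨⟨ee, heZ⟩, fun x => Subtype.ext ?_⟩
    show act (lft ⟨φ x, hφ x⟩) = ee * act (lft ⟨x, hP x.2⟩) * ee⁻¹
    rw [eq_mul_inv_iff_mul_eq]
    ext1 y
    exact (hee ⟨((x : Ω), 1), x.2, S.one_mem⟩ y).symm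
  · obtain ⟨i, q, hq⟩ : ∃ (i : Fin L.length) (q : T ⧸ (L.get i).subgroupOf T),
        (g : Equiv.Perm X) x₀ = ⟨i, q⟩ := ⟨_, _, rfl⟩
    obtain ⟨t, rfl⟩ := QuotientGroup.mk_surjective q
    obtain ⟨Q, ψ, hψ, hR⟩ := hL _ (List.get_mem L i)
    set t₁ := ((t : T) : Ω × Ω).1
    set t₂ := ((t : T) : Ω × Ω).2
    have hmem : ∀ x : P, ∃ h : t₁⁻¹ * φ x * t₁ ∈ Q,
        ψ ⟨_, h⟩ = t₂⁻¹ * (x : Ω) * t₂ := by
      intro x
      have hfix : lft ⟨x, hP x.2⟩ • rgt ⟨x, hP x.2⟩ • x₀ = x₀ := by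
        rw [← mul_smul, hx₀, Sigma.smul_mk]
        refine Sigma.ext rfl (heq_of_eq ?_)
        rw [MulAction.Quotient.smul_coe, eq_comm, QuotientGroup.eq, Subgroup.mem_subgroupOf, hi₀]
        exact mem_graph.2 ⟨by simpa [lft, rgt] using hP x.2, by simp [lft, rgt]⟩
      have h1 := congrArg (fun z : Z => (z : Equiv.Perm X) ((g : Equiv.Perm X)
        (rgt ⟨x, hP x.2⟩ • x₀))) (hg x)
      have hcomm := Equiv.congr_fun (Subgroup.mem_centralizer_iff.1 g.2 _ ⟨⟨x, hP x.2⟩, rfl⟩) x₀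
      have h2 : lft ⟨φ x, hφ x⟩ • rgt ⟨x, hP x.2⟩ • (g : Equiv.Perm X) x₀ = (g : Equiv.Perm X) x₀ := by
        have hc' : (g : Equiv.Perm X) (rgt ⟨x, hP x.2⟩ • x₀) =
            rgt ⟨x, hP x.2⟩ • (g : Equiv.Perm X) x₀ := hcomm.symm
        rw [← hc']
        refine h1.trans ?_
        show (g : Equiv.Perm X) (lft ⟨x, hP x.2⟩ • ((g : Equiv.Perm X)⁻¹
          ((g : Equiv.Perm X) (rgt ⟨x, hP x.2⟩ • x₀)))) = _
        rw [← Equiv.Perm.mul_apply (g : Equiv.Perm X)⁻¹, inv_mul_cancel, Equiv.Perm.one_apply, hfix]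
      rw [hq, ← mul_smul, Sigma.smul_mk] at h2
      have h3 := QuotientGroup.eq.1 (eq_of_heq (Sigma.mk.inj h2).2).symm
      rw [Subgroup.mem_subgroupOf, hR] at h3
      obtain ⟨h4, h5⟩ := mem_graph.1 h3
      have e : ((t⁻¹ * ((lft ⟨φ x, hφ x⟩ * rgt ⟨x, hP x.2⟩) * t) : T) : Ω × Ω).1 = t₁⁻¹ * φ x * t₁ := by
        simp [lft, rgt, t₁, mul_assoc]
      refine ⟨e ▸ h4, (Eq.trans (congrArg ψ (Subtype.ext e.symm)) h5).trans ?_⟩
      simp [lft, rgt, t₂, mul_assoc]
    obtain ⟨ψi, hψi, -, hl, -⟩ := exists_inv F hψ rfl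
    let c := conjHom P t₂⁻¹
    have hc : c ∈ F.Hom P := F.conj_mem hP (S.inv_mem t.2.2)
    have hcm : ∀ x : P, c x ∈ ψ.range := fun x => by
      obtain ⟨h, e⟩ := hmem x
      exact ⟨⟨_, h⟩, by rw [e]; simp [c, conjHom, mul_assoc]⟩
    let d := compose c ψi hcm
    have hd : d ∈ F.Hom P := compose_mem F hc hψi hcm
    refine mem_of_comp F hd (F.conj_mem (range_le hd) t.2.1) (fun x => ⟨x, rfl⟩) fun x => ?_
    obtain ⟨h, e⟩ := hmem x
    have hc2 : c x = ψ ⟨_, h⟩ := by rw [e]; simp [c, conjHom, mul_assoc]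
    show φ x = t₁ * (ψi ⟨c x, _⟩) * t₁⁻¹
    simp only [hc2]
    rw [hl ⟨_, h⟩]
    simp [mul_assoc]

/-- Every fusion system over a finite p-group S, saturated or not, is realized inside some finite group: there is a finite group G and an injective homomorphism ι of S into G such that the maps of the system are exactly the homomorphisms between subgroups of S that become conjugations by elements of G (the image of S need not be a Sylow p-subgroup of G). -/
theorem result {Ω : Type u} [Group Ω] {S : Subgroup Ω} [Finite S] (p : ℕ) [Fact p.Prime] (hS : IsPGroup p S) (F : Cfsg.FusionSystem S) : ∃ (G : Type u) (_ : Group G) (_ : Finite G) (ι : ↥S →* G), F.IsRealizedBy ι := by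
  exact realized p hS F

end Cfsg.Agent.S5328
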