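import Cfsg.Statements.S5330
import Cfsg.Agent.Lib.Fusion.Hyperfocal
import Cfsg.Agent.Lib.Fusion.Inner
import Cfsg.Agent.Lib.Fusion.Series
import Cfsg.Agent.Lib.Fusion.Normal

set_option autoImplicit false
open Cfsg Cfsg.FusionSystem Cfsg.Agent.Lib.Fusion

namespace Cfsg.Agent.S5330

/-- Let F be a saturated fusion system over a finite abelian p-group S. Then S is the internal direct product of the centre of the system and the focal subgroup: Z(F) ∩ foc(F) = 1 and Z(F)·foc(F) = S. -/
theorem result {Ω : Type*} [Group Ω] {S : Subgroup Ω} [Finite S] (p : ℕ) [Fact p.Prime] (hS : IsPGroup p S) (F : Cfsg.FusionSystem S) (hF : F.IsSaturated p) (hab : ∀ x ∈ S, ∀ y ∈ S, x * y = y * x) : F.center ⊓ F.focalSubgroup = ⊥ ∧ F.center ⊔ F.focalSubgroup = S := by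
  classical
  have hN := isNormal_top_of_abelian hS hF hab
  have hext := IsNormal.extends_aut hN
  have hfin : Finite (F.autGroup S) := by
    have := finite_mulAut (le_refl S)
    infer_instance
  letI : Fintype (F.autGroup S) := Fintype.ofFinite _
  letI : CommGroup S := { (inferInstance : Group S) with
    mul_comm := fun a b => Subtype.ext (hab a a.2 b b.2) }
  let τ : S → S := fun x => ∏ α : F.autGroup S, (α : MulAut S) x
  have hτm : ∀ x y, τ (x * y) = τ x * τ y := fun x y => by
    simp only [τ, map_mul, Finset.prod_mul_distrib]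
  let τh : S →* S := MonoidHom.mk' τ hτm
  have hτinv : ∀ (β : F.autGroup S) x, τ ((β : MulAut S) x) = τ x := fun β x =>
    Fintype.prod_equiv (Equiv.mulRight β) _ _ fun α => rfl
  have hτfix : ∀ (β : F.autGroup S) x, (β : MulAut S) (τ x) = τ x := fun β x => by
    simp only [τ, map_prod]
    exact Fintype.prod_equiv (Equiv.mulLeft β) _ _ fun α => rfl
  set n := Nat.card (F.autGroup S) with hn
  have hn_eq : n = Fintype.card (F.autGroup S) := Nat.card_eq_fintype_card
  have hcop : ∀ x : S, (orderOf x).Coprime n := by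
    intro x
    obtain ⟨k, hk⟩ := hS x
    refine Nat.Coprime.coprime_dvd_left (orderOf_dvd_of_pow_eq_one hk) (Nat.Coprime.pow_left _ ?_)
    rw [(Fact.out : p.Prime).coprime_iff_not_dvd]
    intro hdvd
    have h1 := IsFullyAutomized.card_eq
      (IsSaturated.automized_receptive hS hF (isFullyNormalized_top F)).1
    have h2 : autInducedBy S S = ⊥ := by
      rw [eq_bot_iff]
      intro α hα
      obtain ⟨g, hg, hgα⟩ := mem_autInducedBy.1 hα
      rw [Subgroup.mem_bot]
      refine MulEquiv.ext fun y => Subtype.ext ?_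
      rw [hgα y, hab g hg y y.2, mul_inv_cancel_right]
      rfl
    rw [h2, Subgroup.card_bot] at h1
    have h3 := (Fact.out : p.Prime).factorization_pos_of_dvd (Nat.card_pos.ne') hdvd
    have := Nat.le_self_pow h3.ne' p
    have := (Fact.out : p.Prime).two_le
    omega
  have hfoc : F.focalSubgroup ≤ τh.ker.map S.subtype := by
    refine (Subgroup.closure_le _).2 ?_
    rintro _ ⟨P, φ, x, hφ, rfl⟩
    obtain ⟨α, hα, he⟩ := hext P (source_le hφ) φ hφ
    refine ⟨(Subgroup.inclusion (source_le hφ) x)⁻¹ * α (Subgroup.inclusion (source_le hφ) x), ?_, ?_⟩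
    · show τh ((Subgroup.inclusion (source_le hφ) x)⁻¹ * α (Subgroup.inclusion (source_le hφ) x)) = 1
      rw [map_mul, map_inv, show τh (α (Subgroup.inclusion (source_le hφ) x)) =
        τh (Subgroup.inclusion (source_le hφ) x) from hτinv ⟨α, hα⟩ _, inv_mul_cancel]
    · show (x : Ω)⁻¹ * _ = _
      rw [← he x]
  have hfix : ∀ x : S, (∀ α : F.autGroup S, (α : MulAut S) x = x) → τ x = x ^ n := fun x h => by
    simp only [τ, h, Finset.prod_const, Finset.card_univ, hn_eq]
  have hcenter : ∀ x : S, (∀ α : F.autGroup S, (α : MulAut S) x = x) → (x : Ω) ∈ F.center := by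
    intro x hx
    refine le_sSup (α := Subgroup Ω) ((central_iff hS hF (Subgroup.zpowers (x : Ω))).2
      ⟨Subgroup.zpowers_le.2 x.2, ?_⟩) (Subgroup.mem_zpowers _)
    rintro z hz y ⟨φ, hφ, rfl⟩
    obtain ⟨k, rfl⟩ := Subgroup.mem_zpowers_iff.1 hz
    obtain ⟨α, hα, he⟩ := hext _ (source_le hφ) φ hφ
    rw [← he]
    show ((α (x ^ k) : S) : Ω) = _
    rw [map_zpow, hx ⟨α, hα⟩]
    rfl
  have hcfix : ∀ x : S, (x : Ω) ∈ F.center → ∀ α : F.autGroup S, (α : MulAut S) x = x := by
    intro x hx α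
    refine Subtype.ext (((central_iff hS hF F.center).1 (isCentral_center F)).2 x hx _
      ⟨restr (Subgroup.zpowers_le.2 x.2) (autHom (α : MulAut S)),
        restr_mem F (autHom_mem F le_rfl α.2) _, rfl⟩)
  constructor
  · rw [eq_bot_iff]
    rintro _ ⟨hc, hf⟩
    obtain ⟨x, hx, rfl⟩ := hfoc hf
    have h1 : x ^ n = 1 := by
      rw [← hfix x (hcfix x hc)]
      exact hx
    have := Nat.dvd_gcd dvd_rfl (orderOf_dvd_of_pow_eq_one h1)
    rw [(hcop x).gcd_eq_one, Nat.dvd_one, orderOf_eq_one_iff] at this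
    rw [Subgroup.mem_bot, this]
    rfl
  · refine le_antisymm (sup_le (isCentral_center F).1 ((Subgroup.closure_le _).2 ?_)) fun s hs => ?_
    · rintro _ ⟨P, φ, x, hφ, rfl⟩
      exact S.mul_mem (S.inv_mem (source_le hφ x.2)) (apply_mem hφ x)
    obtain ⟨m, hm⟩ := exists_pow_eq_self_of_coprime (hcop (⟨s, hs⟩ : S)).symm
    set x : S := ⟨s, hs⟩
    have h1 : ((τ x : S) : Ω) ∈ F.center := hcenter _ fun α => hτfix α x
    have h2 : (((x⁻¹) ^ n * τ x : S) : Ω) ∈ F.focalSubgroup := by
      have e : (x⁻¹) ^ n * τ x = ∏ α : F.autGroup S, x⁻¹ * (α : MulAut S) x := by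
        simp only [τ, Finset.prod_mul_distrib, Finset.prod_const, Finset.card_univ, hn_eq]
      rw [e]
      exact Subgroup.prod_mem (F.focalSubgroup.subgroupOf S) fun α _ =>
        focal_mem (autHom_mem F le_rfl α.2) x
    have h3 : ((x ^ n : S) : Ω) ∈ F.center ⊔ F.focalSubgroup := by
      have := Subgroup.mul_mem (F.center ⊔ F.focalSubgroup) (Subgroup.mem_sup_left h1)
        (Subgroup.inv_mem _ (Subgroup.mem_sup_right h2))
      convert this using 1
      rw [← Subgroup.coe_inv, ← Subgroup.coe_mul]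
      congr 1
      rw [mul_inv_rev, mul_inv_cancel_left, inv_pow, inv_inv]
    have h4 := Subgroup.pow_mem (F.center ⊔ F.focalSubgroup) h3 m
    rw [← SubgroupClass.coe_pow, hm] at h4
    exact h4

end Cfsg.Agent.S5330
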