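import Cfsg.Statements.S5333
import Cfsg.Agent.Lib.Fusion.Normal
import Cfsg.Agent.Lib.Fusion.Saturation

set_option autoImplicit false
open Cfsg Cfsg.FusionSystem Cfsg.Agent.Lib.Fusion

namespace Cfsg.Agent.S5333

open Cfsg.Agent.Lib.Fusion Cfsg.FusionSystem in
theorem core {Ω : Type*} [Group Ω] {S : Subgroup Ω} [Finite S] (p : ℕ) [Fact p.Prime]
    (hS : IsPGroup p S) (F F' : Cfsg.FusionSystem S) (hF' : F'.IsSaturated p) (hle : F' ≤ F)
    (hZ : ∀ Z : Subgroup Ω, Z ≤ S → Nat.card Z = p → F'.IsFullyCentralized Z →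
      F.Hom Z = F'.Hom Z ∧ ∀ P, F.centralizerHom Z P ⊆ F'.centralizerHom Z P)
    {P : Subgroup Ω} {φ : P →* Ω} (hφ : φ ∈ F.Hom P) : φ ∈ F'.Hom P := by
  have hP : P ≤ S := source_le hφ
  have := finite_of_le hP
  rcases subsingleton_or_nontrivial P with h | h
  · convert subtype_mem F' hP using 1
    ext x
    rw [Subsingleton.elim x 1, map_one, map_one]
  obtain ⟨z, hzc, hzo⟩ : ∃ z : P, z ∈ Subgroup.center P ∧ orderOf z = p := by
    have hPp : IsPGroup p P := isPGroup_of_le hS hP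
    have := hPp.center_nontrivial
    have hc := hPp.to_subgroup (Subgroup.center P)
    obtain ⟨n, hn⟩ := hc.exists_card_eq
    have : p ∣ Nat.card (Subgroup.center P) := by
      rw [hn]
      refine dvd_pow_self p ?_
      rintro rfl
      exact (Finite.one_lt_card_iff_nontrivial.2 this).ne' (by simpa using hn)
    obtain ⟨x, hx⟩ := exists_prime_orderOf_dvd_card' p this
    exact ⟨x, x.2, by rwa [Subgroup.orderOf_coe]⟩
  set Z := Subgroup.zpowers (z : Ω) with hZdef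
  have hZP : Z ≤ P := Subgroup.zpowers_le.2 z.2
  have hzP : ∀ g ∈ P, g ∈ centralizerIn S Z := fun g hg => by
    refine ⟨hP hg, Subgroup.mem_centralizer_iff.2 ?_⟩
    intro w hw
    obtain ⟨k, rfl⟩ := Subgroup.mem_zpowers_iff.1 (show w ∈ Subgroup.zpowers (z : Ω) from hw)
    have hc : Commute g (z : Ω) := congrArg Subtype.val (Subgroup.mem_center_iff.1 hzc ⟨g, hg⟩)
    exact ((hc.zpow_right k).symm : _)
  obtain ⟨Z', hconj, hfn⟩ := exists_fullyNormalized F' (hZP.trans hP)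
  have hfc := IsSaturated.fullyCentralized hS hF' hfn
  have hrec := IsSaturated.receptive hS hF' hfc
  obtain ⟨β₀, hβ₀, hr₀⟩ := hconj
  obtain ⟨β, hβ, hext, -⟩ := IsReceptive.extend hrec hβ₀ hr₀
  have hPe : P ≤ extender S Z β₀ := fun g hg => centralizerIn_le_extender _ (hzP g hg)
  have hcard : Nat.card Z' = p := by
    rw [← isConj_card ⟨β₀, hβ₀, hr₀⟩, Nat.card_zpowers]
    rw [Subgroup.orderOf_coe]
    exact hzo
  obtain ⟨hHom, hC⟩ := hZ Z' hfc.1 hcard hfc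
  obtain ⟨η₀, hη₀, hrη, hη1, -⟩ := exists_inv F' hβ₀ hr₀
  -- the conjugate of `Z'` inside the image
  have hval : ∀ x : Z', η₀ x ∈ P := fun x => hZP (hrη.le ⟨x, rfl⟩)
  set ψ : Z' →* Ω := compose η₀ φ hval with hψdef
  have hψ : ψ ∈ F'.Hom Z' := hHom ▸ compose_mem F (hle _ hη₀) hφ hval
  obtain ⟨ψ', hψ', hrψ', hψ'1, -⟩ := exists_inv F' hψ rfl
  obtain ⟨γ, hγ, hextγ, -⟩ := IsReceptive.extend hrec hψ' hrψ'
  set z' := β₀ ⟨z, Subgroup.mem_zpowers _⟩ with hz'def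
  have hz' : z' ∈ Z' := hr₀.le ⟨_, rfl⟩
  have hψz : ψ ⟨z', hz'⟩ = φ z := by
    rw [hψdef, compose_apply]
    exact congrArg φ (Subtype.ext (hη1 ⟨z, Subgroup.mem_zpowers _⟩ hz'))
  have hZ'z : Z' = Subgroup.zpowers z' := by
    rw [← hr₀, MonoidHom.range_eq_map]
    have : (⊤ : Subgroup Z) = Subgroup.zpowers (⟨z, Subgroup.mem_zpowers _⟩ : Z) := by
      refine (eq_top_iff.2 fun x _ => ?_).symm
      obtain ⟨k, hk⟩ := x.2
      exact ⟨k, Subtype.ext (by simpa using hk)⟩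
    rw [this, MonoidHom.map_zpowers]
  have hψr : ψ.range = Subgroup.zpowers (φ z) := by
    rw [← hψz, MonoidHom.range_eq_map]
    have : (⊤ : Subgroup Z') = Subgroup.zpowers (⟨z', hz'⟩ : Z') := by
      refine (eq_top_iff.2 fun x _ => ?_).symm
      have hx : (x : Ω) ∈ Subgroup.zpowers z' := hZ'z ▸ x.2
      obtain ⟨k, hk⟩ := hx
      exact ⟨k, Subtype.ext (by simpa using hk)⟩
    rw [this, MonoidHom.map_zpowers]
  have hφC : ∀ x, φ x ∈ centralizerIn S ψ.range := fun x => by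
    refine ⟨apply_mem hφ x, Subgroup.mem_centralizer_iff.2 ?_⟩
    intro w hw
    obtain ⟨k, rfl⟩ :=
      Subgroup.mem_zpowers_iff.1 (show w ∈ Subgroup.zpowers (φ z) from hψr ▸ hw)
    have hc : Commute x z := Subgroup.mem_center_iff.1 hzc x
    exact (((hc.map φ).zpow_right k).symm : _)
  have hφe : ∀ x, φ x ∈ extender S ψ.range ψ' := fun x => centralizerIn_le_extender _ (hφC x)
  have hγC : ∀ x, γ ⟨φ x, hφe x⟩ ∈ centralizerIn S Z' := fun x =>
    apply_mem_centralizerIn hrψ' hγ hextγ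
      (le_extender (source_le hψ') (apply_mem hψ')) _ (hφC x)
  set δ : P →* Ω := compose φ γ hφe with hδdef
  have hδ : δ ∈ F.Hom P := compose_mem F hφ (hle _ hγ) hφe
  have hδz : δ z = z' := by
    rw [hδdef, compose_apply, hextγ (φ z) ⟨⟨z', hz'⟩, hψz⟩ (hφe z)]
    have := hψ'1 ⟨z', hz'⟩ ⟨_, rfl⟩
    simp only [hψz] at this
    exact this
  set β₁ : P →* Ω := restr hPe β with hβ₁def
  have hβ₁ : β₁ ∈ F'.Hom P := restr_mem F' hβ hPe
  have hβ₁z : β₁ z = z' := hext z (Subgroup.mem_zpowers _) (hPe z.2)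
  have hβC : ∀ x, β₁ x ∈ centralizerIn S Z' := fun x =>
    apply_mem_centralizerIn hr₀ hβ hext (le_extender (source_le hβ₀) (apply_mem hβ₀)) _ (hzP x x.2)
  obtain ⟨ι, hι, hrι, hι1, -⟩ := exists_inv F' hβ₁ rfl
  set θ : β₁.range →* Ω := compose ι δ fun y => hrι.le ⟨y, rfl⟩ with hθdef
  have hθ : θ ∈ F.Hom β₁.range := compose_mem F (hle _ hι) hδ _
  have hθap : ∀ (x : P) (hx : β₁ x ∈ β₁.range), θ ⟨β₁ x, hx⟩ = δ x := fun x hx => by
    rw [hθdef, compose_apply]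
    exact congrArg δ (Subtype.ext (hι1 x hx))
  have hZ'R : Z' ≤ β₁.range := by
    rw [hZ'z, Subgroup.zpowers_le]
    exact ⟨z, hβ₁z⟩
  have hfix : ∀ w : Z', θ ⟨w, hZ'R w.2⟩ = w := by
    rintro ⟨w, hw⟩
    obtain ⟨k, hk⟩ : ∃ k : ℤ, z' ^ k = w := by rwa [hZ'z, Subgroup.mem_zpowers_iff] at hw
    have : (⟨w, hZ'R hw⟩ : β₁.range) = (⟨β₁ z, ⟨z, rfl⟩⟩ : β₁.range) ^ k :=
      Subtype.ext (by simp [hβ₁z, hk])
    show θ ⟨w, hZ'R hw⟩ = w
    rw [this, map_zpow]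
    exact (congrArg (· ^ k) ((hθap z _).trans hδz)).trans hk
  have hsup : β₁.range ⊔ Z' ≤ β₁.range := sup_le le_rfl hZ'R
  have hθC : θ ∈ F.centralizerHom Z' β₁.range := by
    refine ⟨hθ, ?_, ?_, restr hsup θ, restr_mem F hθ hsup, fun x => rfl, fun w => hfix w⟩
    · rintro _ ⟨x, rfl⟩
      exact hβC x
    · rintro ⟨_, x, rfl⟩
      exact (hθap x _).symm ▸ hγC x
  have hθ' : θ ∈ F'.Hom β₁.range := (hC _ hθC).1
  have hδ' : δ ∈ F'.Hom P :=
    mem_of_comp F' hβ₁ hθ' (fun x => ⟨x, rfl⟩) fun x => (hθap x _).symm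
  obtain ⟨γi, hγi, -, hγ1, -⟩ := exists_inv F' hγ rfl
  exact mem_of_comp F' hδ' hγi (fun x => ⟨_, rfl⟩) fun x => (hγ1 ⟨φ x, hφe x⟩ _).symm

/-- Let F′ ≤ F be saturated fusion systems over the same finite p-group S. Suppose that for every subgroup Z ≤ S of order p that is fully centralized in F′, the maps of F and of F′ with source Z coincide and the centralizer systems C_F(Z) and C_{F′}(Z) coincide. Then F = F′. -/
theorem result {Ω : Type*} [Group Ω] {S : Subgroup Ω} [Finite S] (p : ℕ) [Fact p.Prime] (hS : IsPGroup p S) (F : Cfsg.FusionSystem S) (hF : F.IsSaturated p) (F' : Cfsg.FusionSystem S) (hF' : F'.IsSaturated p) (hle : F' ≤ F) (hZ : ∀ Z : Subgroup Ω, Z ≤ S → Nat.card Z = p → F'.IsFullyCentralized Z → F.Hom Z = F'.Hom Z ∧ ∀ (C C' : Cfsg.FusionSystem (Cfsg.FusionSystem.centralizerIn S Z)), F.IsCentralizerSystem Z C → F'.IsCentralizerSystem Z C' → ∀ P : Subgroup Ω, C.Hom P = C'.Hom P) (P : Subgroup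 Ω) : F.Hom P = F'.Hom P := by
  open Cfsg.Agent.Lib.Fusion in
  refine Set.Subset.antisymm (fun φ hφ => core p hS F F' hF' hle (fun Z hZS hc hfc => ⟨(hZ Z hZS hc hfc).1, fun Q => ?_⟩) hφ) (hle P)
  have h := (hZ Z hZS hc hfc).2 _ _ (Cfsg.Agent.Lib.Fusion.centralizerSystem_spec F Z hZS) (Cfsg.Agent.Lib.Fusion.centralizerSystem_spec F' Z hZS) Q
  exact (((Cfsg.Agent.Lib.Fusion.centralizerSystem_spec F Z hZS Q).symm.trans h).trans (Cfsg.Agent.Lib.Fusion.centralizerSystem_spec F' Z hZS Q)).le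

end Cfsg.Agent.S5333
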