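import Cfsg.Statements.S5334
import Cfsg.Agent.Lib.Fusion.Centric

set_option autoImplicit false
open Cfsg Cfsg.FusionSystem Cfsg.Agent.Lib.Fusion

namespace Cfsg.Agent.S5334

/-- Let F′ ≤ F be saturated fusion systems over the same finite p-group S, let Q and R be F-centric subgroups, φ a map of F with source Q and values in R, and ψ a map of F with source R. If two of φ, ψ and the composite ψ ∘ φ are maps of F′ then so is the third. -/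
theorem result {Ω : Type*} [Group Ω] {S : Subgroup Ω} [Finite S] (p : ℕ) [Fact p.Prime] (hS : IsPGroup p S) (F : Cfsg.FusionSystem S) (hF : F.IsSaturated p) (F' : Cfsg.FusionSystem S) (hF' : F'.IsSaturated p) (hle : F' ≤ F) (Q R : Subgroup Ω) (hQ : F.IsCentric Q) (hR : F.IsCentric R) (φ : ↥Q →* Ω) (hφ : φ ∈ F.Hom Q) (hφR : ∀ x : Q, φ x ∈ R) (ψ : ↥R →* Ω) (hψ : ψ ∈ F.Hom R) : (φ ∈ F'.Hom Q → ψ ∈ F'.Hom R → ψ.comp (φ.codRestrict R hφR) ∈ F'.Hom Q) ∧ (ψ ∈ F'.Hom R → ψ.comp (φ.codRestrict R hφR) ∈ F'.Hom Q → φ ∈ F'.Hom Q) ∧ (φ ∈ F'.Hom Q → ψ.comp (φ.codRestrict R hφR) ∈ F'.Hom Q → ψ ∈ F'.Hom R) := by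
  refine ⟨fun h1 h2 => F'.comp_mem h1 h2 hφR, fun h1 h2 => ?_, fun h1 h2 => ?_⟩
  · obtain ⟨ψi, hψi, -, hl, -⟩ := exists_inv F' h1 rfl
    have hm : ∀ x, ψ.comp (φ.codRestrict R hφR) x ∈ ψ.range := fun x => ⟨_, rfl⟩
    refine mem_of_comp F' h2 hψi hm fun x => ?_
    exact (hl ⟨φ x, hφR x⟩ _).symm
  · have hQR : φ.range ≤ R := by
      rintro _ ⟨x, rfl⟩
      exact hφR x
    refine mem_of_restr_mem hS hF hF' hle hQR (isCentric_of_isConj hQ ⟨φ, hφ, rfl⟩) hψ ?_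
    obtain ⟨φi, hφi, hr, -, hl'⟩ := exists_inv F' h1 rfl
    have hm : ∀ y, φi y ∈ Q := fun y => hr.le ⟨y, rfl⟩
    refine mem_of_comp F' hφi h2 hm fun y => ?_
    show ψ ⟨(y : Ω), _⟩ = ψ ⟨φ ⟨φi y, hm y⟩, _⟩
    exact congrArg ψ (Subtype.ext (hl' y (hm y)).symm)

end Cfsg.Agent.S5334
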