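import Cfsg.Statements.S5335
import Cfsg.Agent.Lib.Fusion.Centric
import Cfsg.Agent.Lib.Fusion.Essential
import Cfsg.Agent.Lib.Fusion.Axioms

set_option autoImplicit false
open Cfsg Cfsg.FusionSystem Cfsg.Agent.Lib.Fusion

namespace Cfsg.Agent.S5335

theorem exists_minimal_centric {Ω : Type*} [Group Ω] {S : Subgroup Ω} [Finite S]
    (F : Cfsg.FusionSystem S) {P : Subgroup Ω} (hP : F.IsCentric P) :
    ∃ Q ≤ P, F.IsCentric Q ∧ ∀ R : Subgroup Ω, R < Q → ¬ F.IsCentric R := by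
  obtain ⟨Q, ⟨hQP, hQ⟩, hmin⟩ := Set.exists_min_image {Q | Q ≤ P ∧ F.IsCentric Q}
    (fun Q => Nat.card Q) (finite_subgroups_le.subset fun Q hQ => hQ.2.1) ⟨P, le_rfl, hP⟩
  refine ⟨Q, hQP, hQ, fun R hR hRc => ?_⟩
  have := finite_of_le hQ.1
  exact hR.ne (Subgroup.eq_of_le_of_card_ge hR.le (hmin R ⟨hR.le.trans hQP, hRc⟩))

/-- Let F′ ≤ F be saturated fusion systems over the same finite p-group S. If the maps of F and of F′ with source Q coincide for every F-centric subgroup Q that is minimal among F-centric subgroups, then F = F′. -/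
theorem result {Ω : Type*} [Group Ω] {S : Subgroup Ω} [Finite S] (p : ℕ) [Fact p.Prime] (hS : IsPGroup p S) (F : Cfsg.FusionSystem S) (hF : F.IsSaturated p) (F' : Cfsg.FusionSystem S) (hF' : F'.IsSaturated p) (hle : F' ≤ F) (hmin : ∀ Q : Subgroup Ω, F.IsCentric Q → (∀ R : Subgroup Ω, R < Q → ¬ F.IsCentric R) → F.Hom Q = F'.Hom Q) (P : Subgroup Ω) : F.Hom P = F'.Hom P := by
  refine Set.Subset.antisymm (fun φ hφ => ?_) (hle P)
  have hc : ∀ U : Subgroup Ω, F.IsCentric U → F.autGroup U ≤ F'.autGroup U := by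
    intro U hU α hα
    obtain ⟨Q, hQU, hQ, hm⟩ := exists_minimal_centric F hU
    exact mem_autGroup_of_hom F' (mem_of_restr_mem hS hF hF' hle hQU hQ (autHom_mem F hU.1 hα)
      ((hmin Q hQ hm).le (restr_mem F (autHom_mem F hU.1 hα) hQU)))
  refine alperin hS hF F' (fun U hU => ?_) P hφ
  rcases hU with rfl | hU
  · exact hc U ⟨le_rfl, fun Q hQ => (centralizerIn_le U Q).trans (isConj_self_top F hQ).ge⟩
  · exact hc U hU.1

end Cfsg.Agent.S5335
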