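import Cfsg.Statements.S5336
import Cfsg.Agent.Lib.Fusion.SimpleRealized

set_option autoImplicit false
open Cfsg Cfsg.FusionSystem Cfsg.Agent.Lib.Fusion

namespace Cfsg.Agent.S5336

/-- Let G be a finite group with Sylow p-subgroup S whose fusion system F_S(G) is simple. If G has no nontrivial normal subgroup of order prime to p and no proper subgroup H containing S induces the same fusion system on S as G does, then G is a simple group. -/
theorem result {G : Type*} [Group G] [Finite G] (p : ℕ) [Fact p.Prime] (S : Sylow p G) (hsimple : (Cfsg.groupFusionSystem (S : Subgroup G)).IsSimple p) (hcore : Cfsg.pPrimeCore p G = ⊥) (hmin : ∀ (H : Subgroup G) (hSH : (S : Subgroup G) ≤ H), H ≠ ⊤ → ∃ P : Subgroup G, (Cfsg.fusionSystemOfSubgroup H (S : Subgroup G) hSH).Hom P ≠ (Cfsg.groupFusionSystem (S : Subgroup G)).Hom P) : IsSimpleGroup G := by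
  refine Cfsg.Agent.Lib.Fusion.isSimpleGroup_of_realized (ι := (S : Subgroup G).subtype) (F := Cfsg.groupFusionSystem (S : Subgroup G)) ⟨Subtype.val_injective, fun P hP φ hφ => ?_⟩ S (Subgroup.range_subtype _).symm hsimple hcore fun H hSH hall => ?_
  · exact ⟨fun ⟨_, _, g, hg⟩ => ⟨g, hg⟩, fun ⟨g, hg⟩ => ⟨hP, hφ, g, hg⟩⟩
  · by_contra hH
    obtain ⟨P, hP⟩ := hmin H hSH hH
    refine hP (Set.Subset.antisymm ?_ fun φ hφ => ?_)
    · rintro φ ⟨h1, h2, g, -, h3⟩
      exact ⟨h1, h2, g, h3⟩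
    · obtain ⟨k, hk, he⟩ := hall P φ hφ
      exact ⟨hφ.1, hφ.2.1, k, hk, fun x => he x (hφ.1 x.2) (hφ.2.1 x)⟩

end Cfsg.Agent.S5336
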