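import Cfsg.Statements.S5338
import Cfsg.Agent.Lib.Fusion.Subsystem

set_option autoImplicit false
open Cfsg Cfsg.FusionSystem Cfsg.Agent.Lib.Fusion

namespace Cfsg.Agent.S5338

/-- Let F be a saturated fusion system over a finite p-group S and F′ ≤ F a saturated subsystem over all of S that is invariant under F in the conjugation sense: for every map φ of F with source Q and every map ψ of F′ between subgroups R ≤ Q (with values in Q), the transported map φψφ⁻¹ defined on φ(R) is again a map of F′. If moreover Aut_{F′}(S) = Aut_F(S), then F′ = F. -/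
theorem result {Ω : Type*} [Group Ω] {S : Subgroup Ω} [Finite S] (p : ℕ) [Fact p.Prime] (hS : IsPGroup p S) (F : Cfsg.FusionSystem S) (hF : F.IsSaturated p) (F' : Cfsg.FusionSystem S) (hF' : F'.IsSaturated p) (hle : F' ≤ F) (hinv : ∀ (Q : Subgroup Ω) (φ : ↥Q →* Ω), φ ∈ F.Hom Q → ∀ (R : Subgroup Ω) (hRQ : R ≤ Q) (ψ : ↥R →* Ω), ψ ∈ F'.Hom R → ∀ (hψQ : ∀ x : R, ψ x ∈ Q), ∃ χ ∈ F'.Hom ((R.subgroupOf Q).map φ), ∀ (x : R) (hx : φ ⟨(x : Ω), hRQ x.2⟩ ∈ (R.subgroupOf Q).map φ), χ ⟨φ ⟨(x : Ω), hRQ x.2⟩, hx⟩ = φ ⟨ψ x, hψQ x⟩) (htop : F'.autGroup S = F.autGroup S) (P : Subgroup Ω) : F'.Hom P = F.Hom P := by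
  refine Set.Subset.antisymm (hle P) (alperin_ind hS hF F' htop.ge (fun R hR ih => ?_) P)
  have hRS := hR.1.1
  have := finite_mulAut hRS
  have hlt := IsEssential.lt hF hS hR
  obtain ⟨⟨-, T, hT⟩, hrec⟩ := IsSaturated.automized_receptive hS hF hR.2.1
  let A := F.autGroup R
  have hn : ((F'.autGroup R).subgroupOf A).Normal := by
    refine ⟨fun ε hε α => ?_⟩
    have hα := autHom_mem F hRS α.2
    obtain ⟨χ, hχ, hχeq⟩ := hinv R (autHom α.1) hα R le_rfl (autHom ε.1)
      (autHom_mem F' hRS hε) (fun x => (ε.1 x).2)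
    have himg : (R.subgroupOf R).map (autHom α.1) = R := by
      show img (autHom α.1) R = R
      rw [img_self, range_autHom]
    refine mem_autGroup_of_hom F' (mem_of_comp F' (subtype_mem F' hRS) hχ (fun x => himg.ge x.2) ?_)
    intro x
    obtain ⟨r, rfl⟩ := (α.1).surjective x
    show ((α.1 (ε.1 (α.1.symm (α.1 r))) : R) : Ω) = _
    rw [MulEquiv.symm_apply_apply]
    exact (hχeq r (himg.ge (α.1 r).2)).symm
  have hTle : (T : Subgroup A) ≤ (F'.autGroup R).subgroupOf A := by
    rw [hT]
    exact fun x hx => autInducedBy_le_autGroup F' hRS hx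
  have htop2 := Sylow.normalizer_sup_eq_top' T hTle
  have hN : Subgroup.normalizer ((T : Subgroup A) : Set A) ≤ (F'.autGroup R).subgroupOf A := by
    intro β hβ
    have hβh := autHom_mem F hRS β.2
    obtain ⟨ψ, hψ, hext, -⟩ := IsReceptive.extend hrec hβh (range_autHom β.1)
    have hle' : normalizerIn S R ≤ extender S R (autHom β.1) := by
      intro g hg
      rw [mem_extender_iff_congr (F.injective_of_mem hβh) (range_autHom β.1) hg]
      have e : isoOf (autHom β.1) (F.injective_of_mem hβh) (range_autHom β.1) = β.1 :=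
        MulEquiv.ext fun x => Subtype.ext rfl
      rw [e]
      have h1 : (⟨_, conjAut_mem_autGroup F hRS hg.1 hg.2⟩ : A) ∈ (T : Subgroup A) := by
        rw [hT]
        exact conjAut_mem_autInducedBy hg.1 hg.2
      have h2 := conj_mem_of_mem_normalizer hβ h1
      rw [hT] at h2
      exact h2
    have hcard : Nat.card R < Nat.card (normalizerIn S R) := by
      have := finite_of_le (normalizerIn_le S R)
      by_contra hge
      exact (lt_normalizerIn hS hlt).ne
        (Subgroup.eq_of_le_of_card_ge (le_normalizerIn hRS) (not_lt.1 hge))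
    have h3 := ih _ hcard _ (restr_mem F hψ hle')
    refine mem_autGroup_of_hom F' ?_
    show autHom β.1 ∈ F'.Hom R
    have e : autHom β.1 = restr (le_normalizerIn hRS) (restr hle' ψ) :=
      MonoidHom.ext fun x => (hext x x.2 (hle' (le_normalizerIn hRS x.2))).symm
    rw [e]
    exact restr_mem F' h3 _
  intro α hα
  have h4 : (⟨α, hα⟩ : A) ∈ (F'.autGroup R).subgroupOf A :=
    sup_le hN le_rfl (htop2.ge (Subgroup.mem_top _))
  exact h4

end Cfsg.Agent.S5338
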