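import Cfsg.Statements.S5343
import Cfsg.Agent.Lib.Fusion.SimpleRealized

set_option autoImplicit false
universe u
open Cfsg Cfsg.FusionSystem Cfsg.Agent.Lib.Fusion

namespace Cfsg.Agent.S5343

open Cfsg.Agent.Lib.Fusion in
theorem descend.{v, w} {Ω : Type v} [Group Ω] {S : Subgroup Ω} [Finite S] (p : ℕ) [Fact p.Prime]
    (F : Cfsg.FusionSystem S) (hsimple : F.IsSimple p) (n : ℕ) :
    ∀ (G : Type w) [Group G] [Finite G] (ι : ↥S →* G), Nat.card G = n → F.IsRealizedBy ι →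
      (∃ T : Sylow p G, (T : Subgroup G) = ι.range) →
    ∃ (G : Type w) (_ : Group G) (_ : Finite G) (_ : IsSimpleGroup G) (ι : ↥S →* G),
      F.IsRealizedBy ι ∧ ∃ T : Sylow p G, (T : Subgroup G) = ι.range := by
  induction n using Nat.strong_induction_on with | _ n ih => ?_
  intro G _ _ ι hn h ⟨T, hT⟩
  by_cases hc : Cfsg.pPrimeCore p G = ⊥
  swap
  · have hN : (Cfsg.pPrimeCore p G).Normal := by
      refine ⟨fun x hx g => ?_⟩
      have hle : Cfsg.pPrimeCore p G ≤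
          (Cfsg.pPrimeCore p G).comap (MulAut.conj g).toMonoidHom :=
        sSup_le fun N hN y hy => le_sSup hN (hN.1.conj_mem y hy g)
      exact hle hx
    obtain ⟨N, ⟨hNn, hNc⟩, hN1⟩ : ∃ N : Subgroup G, (N.Normal ∧ (Nat.card N).Coprime p) ∧ N ≠ ⊥ := by
      by_contra hne
      push_neg at hne
      exact hc (eq_bot_iff.2 (sSup_le fun N hN => (hne N hN).le))
    have := hNn
    have hdisj : ∀ x : ↥S, ι x ∈ N → x = 1 := by
      intro x hx
      obtain ⟨a, ha⟩ := IsPGroup.iff_orderOf.1 T.2 ⟨ι x, hT.ge ⟨x, rfl⟩⟩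
      have h1 : orderOf (ι x) ∣ Nat.card N := by
        rw [← Subgroup.orderOf_mk (H := N) (ι x) hx]
        exact orderOf_dvd_natCard _
      have h2 : orderOf (ι x) = p ^ a := by rw [← ha, ← Subgroup.orderOf_coe]
      rw [h2] at h1
      have h3 : p ^ a = 1 := Nat.Coprime.eq_one_of_dvd (Nat.Coprime.pow_left a hNc.symm) h1
      exact h.1 ((orderOf_eq_one_iff.1 (h2.trans h3)).trans (map_one ι).symm)
    let π := QuotientGroup.mk' N
    have hπinj : Function.Injective (π.comp ι) := by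
      rw [← MonoidHom.ker_eq_bot_iff, eq_bot_iff]
      intro x hx
      exact hdisj x ((QuotientGroup.eq_one_iff _).1 hx)
    have hr' : (π.comp ι).range = (T : Subgroup G).map π := by
      rw [MonoidHom.range_comp, hT]
    have hreal : F.IsRealizedBy (π.comp ι) := by
      refine ⟨hπinj, fun P hP φ hφ => ⟨fun hF => ?_, fun ⟨γ, hγ⟩ => ?_⟩⟩
      · obtain ⟨g, hg⟩ := (h.2 P hP φ hφ).1 hF
        exact ⟨π g, fun x => by simp only [MonoidHom.comp_apply, hg, map_mul, map_inv]⟩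
      obtain ⟨g, rfl⟩ := QuotientGroup.mk'_surjective N γ
      have hPH : (Cfsg.FusionSystem.imageAlong ι P).map (MulAut.conj g).toMonoidHom ≤ (T : Subgroup G) ⊔ N := by
        rintro _ ⟨_, ⟨⟨x, hxS⟩, hx, rfl⟩, rfl⟩
        have h1 := hγ ⟨x, hx⟩
        simp only [MonoidHom.comp_apply, ← map_inv, ← map_mul] at h1
        have h2 : (ι ⟨φ ⟨x, hx⟩, hφ _⟩)⁻¹ * (g * ι ⟨x, hxS⟩ * g⁻¹) ∈ N := QuotientGroup.eq.1 h1
        have := Subgroup.mul_mem _ (Subgroup.mem_sup_left (T := N) (hT.ge ⟨⟨φ ⟨x, hx⟩, hφ _⟩, rfl⟩))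
          (Subgroup.mem_sup_right h2)
        rwa [mul_inv_cancel_left] at this
      have hPp : IsPGroup p (((Cfsg.FusionSystem.imageAlong ι P).map (MulAut.conj g).toMonoidHom).subgroupOf
          ((T : Subgroup G) ⊔ N)) :=
        ((T.2.to_le (hT.symm ▸ imageAlong_le_range ι P)).map _).of_equiv
          (Subgroup.subgroupOfEquivOfLe hPH).symm
      obtain ⟨U, hU⟩ := hPp.exists_le_sylow
      obtain ⟨⟨k, hk⟩, hkT⟩ := MulAction.exists_smul_eq ↥((T : Subgroup G) ⊔ N) U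
        (T.subtype (le_sup_left : (T : Subgroup G) ≤ (T : Subgroup G) ⊔ N))
      obtain ⟨s, hs, m, hm, rfl⟩ := Subgroup.mem_sup_of_normal_right.1 hk
      refine (h.2 P hP φ hφ).2 ⟨m * g, fun x => ?_⟩
      have hy : g * ι ⟨x, hP x.2⟩ * g⁻¹ ∈ (T : Subgroup G) ⊔ N :=
        hPH ⟨_, apply_mem_imageAlong ι ⟨x, hP x.2⟩ x.2, rfl⟩
      have h2 : (⟨s * m, hk⟩ : ↥((T : Subgroup G) ⊔ N)) * ⟨_, hy⟩ *
          (⟨s * m, hk⟩ : ↥((T : Subgroup G) ⊔ N))⁻¹ ∈
          (T.subtype (le_sup_left : (T : Subgroup G) ≤ (T : Subgroup G) ⊔ N) :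
            Subgroup ↥((T : Subgroup G) ⊔ N)) := by
        rw [← hkT, Sylow.coe_subgroup_smul]
        exact ⟨_, hU ⟨_, apply_mem_imageAlong ι ⟨x, hP x.2⟩ x.2, rfl⟩, rfl⟩
      have h3 : s * m * (g * ι ⟨x, hP x.2⟩ * g⁻¹) * (s * m)⁻¹ ∈ (T : Subgroup G) := h2
      have h4 := (T : Subgroup G).mul_mem ((T : Subgroup G).mul_mem ((T : Subgroup G).inv_mem hs) h3) hs
      rw [show s⁻¹ * (s * m * (g * ι ⟨x, hP x.2⟩ * g⁻¹) * (s * m)⁻¹) * s =
        m * g * ι ⟨x, hP x.2⟩ * (m * g)⁻¹ by group] at h4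
      obtain ⟨y, hy'⟩ := hT.le h4
      rw [← hy']
      refine congrArg ι (hπinj ?_)
      rw [hγ x, MonoidHom.comp_apply, MonoidHom.comp_apply, hy', map_mul, map_mul, map_inv, map_mul,
        show π m = 1 from (QuotientGroup.eq_one_iff m).2 hm, one_mul]
    refine ih (Nat.card (G ⧸ N)) ?_ (G ⧸ N) (π.comp ι) rfl hreal
      ⟨T.mapSurjective (QuotientGroup.mk'_surjective N), ?_⟩
    · rw [← hn, ← N.card_mul_index, ← Subgroup.index_eq_card]
      refine lt_mul_of_one_lt_left (Nat.pos_of_ne_zero Subgroup.index_ne_zero_of_finite) ?_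
      exact Subgroup.one_lt_card_iff_ne_bot N |>.2 hN1
    · rw [hr', Sylow.coe_mapSurjective]
  · by_cases hm : ∀ H : Subgroup G, (T : Subgroup G) ≤ H →
      (∀ (P : Subgroup Ω) (φ : P →* Ω), φ ∈ F.Hom P → ∃ k ∈ H, ∀ (x : P) (hx : (x : Ω) ∈ S)
        (hφ : φ x ∈ S), ι ⟨φ x, hφ⟩ = k * ι ⟨x, hx⟩ * k⁻¹) → H = ⊤
    · exact ⟨G, _, ‹_›, isSimpleGroup_of_realized h T hT hsimple hc hm, ι, h, T, hT⟩
    push_neg at hm
    obtain ⟨H, hTH, hall, hH⟩ := hm
    have hιH : ∀ x, ι x ∈ H := fun x => hTH (hT.ge ⟨x, rfl⟩)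
    refine ih (Nat.card H) ?_ H (ι.codRestrict H hιH) rfl
      ⟨fun a b hab => h.1 (congrArg Subtype.val hab), fun P hP φ hφ => ⟨fun hF => ?_, fun ⟨k, hk⟩ =>
        (h.2 P hP φ hφ).2 ⟨k, fun x => congrArg Subtype.val (hk x)⟩⟩⟩ ⟨T.subtype hTH, ?_⟩
    · rw [← hn]
      exact lt_of_le_of_ne (Subgroup.card_le_card_group H) fun e => hH ((Subgroup.card_eq_iff_eq_top H).1 e)
    · obtain ⟨k, hk, he⟩ := hall P φ hF
      exact ⟨⟨k, hk⟩, fun x => Subtype.ext (he x (hP x.2) (hφ x))⟩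
    · ext ⟨y, hy⟩
      rw [Sylow.coe_subtype, Subgroup.mem_subgroupOf, hT]
      exact ⟨fun ⟨x, hx⟩ => ⟨x, Subtype.ext hx⟩, fun ⟨x, hx⟩ => ⟨x, congrArg Subtype.val hx⟩⟩

/-- Let F be a simple saturated fusion system over a finite p-group S that is realized by some finite group on a Sylow p-subgroup. Then F is realized by a finite simple group on a Sylow p-subgroup. -/
theorem result {Ω : Type u} [Group Ω] {S : Subgroup Ω} [Finite S] (p : ℕ) [Fact p.Prime] (hS : IsPGroup p S) (F : Cfsg.FusionSystem S) (hsimple : F.IsSimple p) (hreal : F.IsRealizable p) : ∃ (G : Type u) (_ : Group G) (_ : Finite G) (_ : IsSimpleGroup G) (ι : ↥S →* G), F.IsRealizedBy ι ∧ ∃ T : Sylow p G, (T : Subgroup G) = ι.range := by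
  obtain ⟨G, _, _, ι, h, hT⟩ := hreal
  exact descend p F hsimple _ G ι rfl h hT

end Cfsg.Agent.S5343
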