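import Cfsg.Statements.S5344
import Cfsg.Agent.Lib.ThreeTransp.Invol
import Cfsg.Agent.Lib.ThreeTransp.SymFour

set_option autoImplicit false
open Cfsg Cfsg.Agent.Lib.ThreeTransp

namespace Cfsg.Agent.S5344

/-- In a set of 3-transpositions, let a, b, c be members with a and c different and commuting, while neither a nor c commutes with b (a 3-string). Then there is an injective homomorphism from the symmetric group of degree 4 into the ambient group sending the transpositions (0 1), (1 2), (2 3) to a, b, c; so a, b, c generate a copy of the symmetric group of degree 4 in which they are transpositions. -/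
theorem result {G : Type*} [Group G] {D : Set G} (hD : Cfsg.IsThreeTranspositionSet D) {a b c : G} (ha : a ∈ D) (hb : b ∈ D) (hc : c ∈ D) (hac : a ≠ c) (hac' : Commute a c) (hab : ¬ Commute a b) (hbc : ¬ Commute b c) : ∃ φ : Equiv.Perm (Fin 4) →* G, Function.Injective φ ∧ φ (Equiv.swap 0 1) = a ∧ φ (Equiv.swap 1 2) = b ∧ φ (Equiv.swap 2 3) = c := by
  obtain ⟨h2, h3⟩ := hD
  have ha2 := inv_sq (h2 a ha)
  have hb2 := inv_sq (h2 b hb)
  have hc2 := inv_sq (h2 c hc)
  have braid : ∀ x ∈ D, ∀ y ∈ D, ¬ Commute x y → y * (x * y) = x * (y * x) := by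
    intro x hx y hy hn
    rcases h3 x hx y hy with h | h
    · exact absurd (commute_of_sq (h2 x hx) (h2 y hy) h) hn
    · have h' : (x * (y * x)) * (y * (x * y)) = 1 := by
        rw [← h, pow_succ, pow_two]; simp only [mul_assoc]
      rw [eq_inv_of_mul_eq_one_left h', mul_inv_rev, mul_inv_rev, inv_inv_self (h2 x hx),
        inv_inv_self (h2 y hy)]
      simp only [mul_assoc]
  obtain ⟨φ, hφa, hφb, hφc⟩ := s4Hom_exists ha2 hb2 hc2 hac'.symm.eq
    (braid a ha b hb hab) (braid b hb c hc hbc)
  refine ⟨φ, s4Hom_injective φ ?_, hφa, hφb, hφc⟩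
  rw [map_mul, hφa, hφc, Ne, mul_eq_one_iff_eq_inv, inv_inv_self (h2 c hc)]
  exact hac

end Cfsg.Agent.S5344
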