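import Cfsg.Statements.S5345
import Cfsg.Agent.Lib.ThreeTransp.Invol

set_option autoImplicit false
open Cfsg Cfsg.Agent.Lib.ThreeTransp

namespace Cfsg.Agent.S5345

/-- Let D be a conjugation-invariant generating set of 3-transpositions of a finite group G and T a Sylow 2-subgroup of G. Then the members of D lying in T generate an abelian subgroup, and their number is the width of D (the largest number of pairwise commuting members of D). -/
theorem result {G : Type*} [Group G] [Finite G] {D : Set G} (hD : Cfsg.IsThreeTranspositionGroup D) (T : Sylow 2 G) : IsMulCommutative (Subgroup.closure {d : G | d ∈ D ∧ d ∈ T}) ∧ {d : G | d ∈ D ∧ d ∈ T}.ncard = Cfsg.commutingWidth D := by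
  obtain ⟨⟨h2, h3⟩, hc, -⟩ := hD
  have hcomm : ∀ a, a ∈ D → a ∈ T → ∀ b, b ∈ D → b ∈ T → Commute a b := by
    intro a ha haT b hb hbT
    apply commute_of_sq (h2 a ha) (h2 b hb)
    rcases h3 a ha b hb with h | h
    · exact h
    · have hpow := T.2
      obtain ⟨k, hk⟩ := (IsPGroup.iff_orderOf.1 hpow) ⟨a * b, T.mul_mem haT hbT⟩
      rw [← Subgroup.orderOf_coe] at hk
      have hd := orderOf_dvd_of_pow_eq_one h
      rw [hk] at hd
      rcases (Nat.dvd_prime Nat.prime_three).1 hd with h1 | h1
      · have h1' : orderOf (a * b) = 1 := hk.trans h1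
        rw [orderOf_eq_one_iff] at h1'
        rw [h1', one_pow]
      · exfalso
        rcases k with _ | k
        · simp at h1
        · rw [pow_succ] at h1; omega
  refine ⟨Subgroup.isMulCommutative_closure fun a ha b hb => (hcomm a ha.1 ha.2 b hb.1 hb.2).eq, ?_⟩
  unfold Cfsg.commutingWidth
  have hub : ∀ n ∈ {n : ℕ | ∃ E : Set G, E ⊆ D ∧ E.Finite ∧ (∀ a ∈ E, ∀ b ∈ E, Commute a b) ∧ E.ncard = n},
      n ≤ {d : G | d ∈ D ∧ d ∈ T}.ncard := by
    rintro n ⟨E, hED, -, hE, rfl⟩
    let K := Subgroup.closure E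
    have hKc : IsMulCommutative K := Subgroup.isMulCommutative_closure fun a ha b hb => (hE a ha b hb).eq
    have hp : IsPGroup 2 K := by
      intro u
      refine ⟨1, Subtype.ext ?_⟩
      obtain ⟨u, hu⟩ := u
      show u ^ 2 ^ 1 = 1
      rw [pow_one]
      induction hu using Subgroup.closure_induction with
      | mem u hu => rw [pow_two, inv_sq (h2 u (hED hu))]
      | one => simp
      | mul u v hu hv hu' hv' =>
        have : Commute u v := congrArg Subtype.val (hKc.is_comm.comm ⟨u, hu⟩ ⟨v, hv⟩)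
        rw [this.mul_pow, hu', hv', mul_one]
      | inv u _ hu' => rw [inv_pow, hu', inv_one]
    obtain ⟨T', hT'⟩ := hp.exists_le_sylow
    obtain ⟨g, hg⟩ := MulAction.exists_smul_eq G T' T
    rw [← Set.ncard_image_of_injective E (MulAut.conj g).injective]
    refine Set.ncard_le_ncard ?_ (Set.toFinite _)
    rintro _ ⟨u, hu, rfl⟩
    refine ⟨hc g u (hED hu), ?_⟩
    rw [← hg]
    show _ ∈ ((g • T' : Sylow 2 G) : Subgroup G)
    rw [Sylow.coe_subgroup_smul]
    exact (Subgroup.mem_smul_pointwise_iff_exists _ (MulAut.conj g) _).2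
      ⟨u, hT' (Subgroup.subset_closure hu), rfl⟩
  refine le_antisymm (le_csSup ⟨_, hub⟩ ?_) (csSup_le ⟨0, ∅, by simp, by simp, by simp, by simp⟩ hub)
  exact ⟨_, fun a ha => ha.1, Set.toFinite _, fun a ha b hb => hcomm a ha.1 ha.2 b hb.1 hb.2, rfl⟩

end Cfsg.Agent.S5345
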