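import Cfsg.Statements.S5347
import Cfsg.Agent.Lib.ThreeTransp.Invol

set_option autoImplicit false
open Cfsg Cfsg.Agent.Lib.ThreeTransp

namespace Cfsg.Agent.S5347

/-- Let D be a conjugation-invariant generating set of 3-transpositions of a finite group G, p a prime bigger than 3, and P a p-subgroup of G. If a member d of D normalizes P then d centralizes P. -/
theorem result {G : Type*} [Group G] [Finite G] {D : Set G} (hD : Cfsg.IsThreeTranspositionGroup D) {p : ℕ} (hp : p.Prime) (hp3 : 3 < p) (P : Subgroup G) (hP : IsPGroup p P) {d : G} (hd : d ∈ D) (hnorm : d ∈ Subgroup.normalizer (P : Set G)) : ∀ x ∈ P, Commute d x := by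
  obtain ⟨⟨h2, h3⟩, hc, -⟩ := hD
  intro x hx
  have hd2 := h2 d hd
  have hd' : x * d * x⁻¹ ∈ D := hc x d hd
  have hy : d * (x * d * x⁻¹) ∈ P := by
    have h := (Subgroup.mem_normalizer_iff.1 hnorm x).1 hx
    rw [inv_inv_self hd2] at h
    have := P.mul_mem h (P.inv_mem hx)
    simpa [mul_assoc] using this
  haveI := Fact.mk hp
  obtain ⟨k, hk⟩ := (IsPGroup.iff_orderOf.1 hP) ⟨_, hy⟩
  rw [← Subgroup.orderOf_coe] at hk
  have h1 : orderOf (d * (x * d * x⁻¹)) = 1 := by
    have hdvd : ∀ n, (d * (x * d * x⁻¹)) ^ n = 1 → 1 ≤ n → n ≤ 3 →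
        orderOf (d * (x * d * x⁻¹)) = 1 := by
      intro n hn hn1 hn3
      have h := Nat.le_of_dvd hn1 (orderOf_dvd_of_pow_eq_one hn)
      rcases Nat.eq_zero_or_pos k with rfl | hk0
      · simpa using hk
      · have h4 := Nat.le_self_pow hk0.ne' p
        rw [hk] at h
        omega
    rcases h3 d hd _ hd' with h | h
    · exact hdvd 2 h (by norm_num) (by norm_num)
    · exact hdvd 3 h (by norm_num) (by norm_num)
  rw [orderOf_eq_one_iff, mul_eq_one_iff_eq_inv, inv_inv_self (h2 _ hd')] at h1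
  show d * x = x * d
  conv_lhs => rw [h1]
  rw [mul_assoc, inv_mul_cancel, mul_one]

end Cfsg.Agent.S5347
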