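import Cfsg.Statements.S5363
import Cfsg.Agent.Lib.ThreeTransp.Invol

set_option autoImplicit false
open Cfsg Cfsg.Agent.Lib.ThreeTransp

namespace Cfsg.Agent.S5363

/-- Let D be a conjugation-invariant set of involutions of a finite group G. Then every product of two members of D has odd order or order 2 if and only if, for every a in D and every b in D different from a and commuting with a, the members of D commuting with a b are exactly those commuting with both a and b. -/
theorem result {G : Type*} [Group G] [Finite G] {D : Set G} (hinv : ∀ d ∈ D, orderOf d = 2) (hconj : ∀ g : G, ∀ d ∈ D, g * d * g⁻¹ ∈ D) : (∀ a ∈ D, ∀ b ∈ D, Odd (orderOf (a * b)) ∨ orderOf (a * b) = 2) ↔ ∀ a ∈ D, ∀ b ∈ D, b ≠ a → Commute a b → {y : G | y ∈ D ∧ Commute (a * b) y} = {y : G | y ∈ D ∧ Commute a y} ∩ {y : G | y ∈ D ∧ Commute b y} := by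
  have hconj' := hconj
  clear hconj
  constructor
  · intro hprod a ha b hb hne hcomm
    ext y
    constructor
    · rintro ⟨hy, hc⟩
      suffices h : Commute a y by
        refine ⟨⟨hy, h⟩, hy, ?_⟩
        have := h.mul_left hc
        rwa [← mul_assoc, inv_sq (hinv a ha), one_mul] at this
      apply commute_of_sq (hinv a ha) (hinv y hy)
      rcases hprod a ha y hy with hodd | h2
      · by_cases h1 : a = y
        · subst h1; rw [inv_sq (hinv a ha), one_pow]
        exfalso
        have hn1 : orderOf (a * y) ≠ 1 := by
          rw [Ne, orderOf_eq_one_iff, mul_eq_one_iff_eq_inv, inv_inv_self (hinv y hy)]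
          exact h1
        have h2 : orderOf (a * b) = 2 :=
          orderOf_mul_eq_two (hinv a ha) (hinv b hb) (Ne.symm hne) hcomm
        have hca : Commute (a * b) a := (Commute.refl a).mul_left hcomm.symm
        have hcm : Commute (a * b) (a * y) := hca.mul_right hc
        have hby : b * y = (a * b) * (a * y) := by
          calc b * y = (a * a) * b * y := by rw [inv_sq (hinv a ha), one_mul]
            _ = a * (a * b) * y := by simp only [mul_assoc]
            _ = (a * b) * a * y := by rw [hca.eq]
            _ = (a * b) * (a * y) := by simp only [mul_assoc]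
        have hord : orderOf (b * y) = 2 * orderOf (a * y) := by
          rw [hby, hcm.orderOf_mul_eq_mul_orderOf_of_coprime, h2]
          rw [h2]
          exact Nat.coprime_two_left.2 hodd
        rcases hprod b hb y hy with h | h
        · rw [hord, Nat.odd_iff] at h; omega
        · have := orderOf_pos (a * y); omega
      · exact h2 ▸ pow_orderOf_eq_one (a * y)
    · rintro ⟨⟨hy, h1⟩, ⟨-, h2⟩⟩
      exact ⟨hy, h1.mul_left h2⟩
  · intro hC a ha b hb
    rcases Nat.even_or_odd (orderOf (a * b)) with ⟨m, hm⟩ | h
    · right
      have hm0 : 0 < m := by have := orderOf_pos (a * b); omega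
      obtain ⟨hz, hca, hcb, hconj⟩ := even_case (hinv a ha) (hinv b hb) hm0 (by omega)
      have hc' : ∀ x ∈ D, ∀ y, IsConj x y → y ∈ D := by
        intro x hx y hxy
        obtain ⟨g, rfl⟩ := isConj_iff.1 hxy
        exact hconj' g x hx
      have ha'D : a * (a * b) ^ m ∈ D := hconj.elim (hc' a ha _) (hc' b hb _)
      have hne : a * (a * b) ^ m ≠ a := fun h => inv_ne_one hz (mul_eq_left.1 h)
      have hcomm : Commute a (a * (a * b) ^ m) := (Commute.refl a).mul_right hca
      have hb' : b ∈ {y : G | y ∈ D ∧ Commute (a * (a * (a * b) ^ m)) y} := by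
        refine ⟨hb, ?_⟩
        rw [← mul_assoc, inv_sq (hinv a ha), one_mul]
        exact hcb.symm
      rw [hC a ha _ ha'D hne hcomm] at hb'
      refine orderOf_eq_prime (sq_of_commute (hinv a ha) (hinv b hb) hb'.1.2) ?_
      intro h1
      rw [h1, orderOf_one] at hm
      omega
    · exact Or.inl h

end Cfsg.Agent.S5363
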