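import Cfsg.Statements.S5364
import Cfsg.Agent.Lib.ThreeTransp.Invol

set_option autoImplicit false
open Cfsg Cfsg.Agent.Lib.ThreeTransp

namespace Cfsg.Agent.S5364

/-- Let D be a conjugation-invariant set of involutions of a finite group G and t an involution in the centre of G such that d t does not lie in D for any d in D. If the images of the members of D in G modulo the subgroup generated by t satisfy the 3-transposition order conditions (each has order 2 and any two have product of order at most 3), then so do the members of D. -/
theorem result {G : Type*} [Group G] [Finite G] {D : Set G} (hinv : ∀ d ∈ D, orderOf d = 2) (hconj : ∀ g : G, ∀ d ∈ D, g * d * g⁻¹ ∈ D) (t : G) (ht : orderOf t = 2) (htZ : t ∈ Subgroup.center G) (hDt : ∀ d ∈ D, d * t ∉ D) [(Subgroup.zpowers t).Normal] (himg : Cfsg.IsThreeTranspositionSet ((QuotientGroup.mk : G → G ⧸ Subgroup.zpowers t) '' D)) : Cfsg.IsThreeTranspositionSet D := by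
  obtain ⟨-, h3⟩ := himg
  refine ⟨hinv, fun a ha b hb => ?_⟩
  have ha2 := hinv a ha
  have hb2 := hinv b hb
  have hmem : ∀ y : G, y ∈ Subgroup.zpowers t → y = 1 ∨ y = t := by
    intro y hy
    classical
    rw [mem_zpowers_iff_mem_range_orderOf, ht] at hy
    simp [Finset.range_add_one] at hy
    tauto
  have htc : ∀ g, g * t = t * g := fun g => Subgroup.mem_center_iff.1 htZ g
  have ht2 := inv_sq ht
  rcases h3 _ ⟨a, ha, rfl⟩ _ ⟨b, hb, rfl⟩ with h | h <;>
    rw [← QuotientGroup.mk_mul, ← QuotientGroup.mk_pow, QuotientGroup.eq_one_iff] at h <;>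
    rcases hmem _ h with h | h
  · exact Or.inl h
  · exfalso
    have h' : a * b * a * b = t := by rw [← h, pow_two]; simp only [mul_assoc]
    have h'' : a * b * a⁻¹ = b * t := by
      calc a * b * a⁻¹ = a * b * a * b * b := by
            rw [inv_inv_self ha2, mul_assoc (a * b * a), inv_sq hb2, mul_one]
        _ = b * t := by rw [h', htc]
    exact hDt b hb (h'' ▸ hconj a b hb)
  · exact Or.inr h
  · exfalso
    have h' : (a * b * a) * (b * a * b) = t := by
      rw [← h, pow_succ, pow_two]; simp only [mul_assoc]
    have h'' : a * b * a⁻¹ = (b * a * b⁻¹) * t := by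
      rw [inv_inv_self ha2, inv_inv_self hb2]
      calc a * b * a = (a * b * a) * ((b * a * b) * (b * a * b)) := by
            have : orderOf (b * a * b) = 2 := by
              have := orderOf_conj b a
              rw [inv_inv_self hb2] at this; rw [this, ha2]
            rw [inv_sq this, mul_one]
        _ = b * a * b * t := by rw [← mul_assoc, h', htc]
    exact hDt _ (hconj b a ha) (h'' ▸ hconj a b hb)

end Cfsg.Agent.S5364
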