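import Cfsg.Statements.S5387
import Cfsg.Agent.Lib.Recognition.L34Split
import Cfsg.Agent.Lib.SchurMultiplier.Cover
-- import your own Cfsg.Agent.* helpers here

set_option autoImplicit false
open Cfsg

namespace Cfsg.Agent.S5387

open Cfsg.Agent.Lib.Compute Cfsg.Agent.Lib.Recognition

/-- A quasisimple cover with centre of exponent and order dividing four is a quotient of the universal cover. -/
theorem nonempty_equiv_of_cover {L : Type*} [Group L] [Finite L] {Q : Type*} [Group Q] {G : Type*}
    [Group G] [Finite G] (π : G →* Q) (hπ : Function.Surjective π) (M : Subgroup G) [M.Normal]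
    (hMgen : M = Subgroup.closure ((fun x => x ^ 2) '' (π.ker : Set G)))
    (hcardM : Nat.card (G ⧸ M) ≤ 4 * Nat.card Q) (hL : Group.IsPerfect L) (σ : L →* Q)
    (hσ : Function.Surjective σ) (hσk : σ.ker ≤ Subgroup.center L) (hc : Nat.card σ.ker = 4)
    (he : ∀ x ∈ σ.ker, x * x = 1)
    (huniv : ∃! η : G →* L, σ.comp η = (MonoidHom.id Q).comp π) :
    Nonempty (G ⧸ M ≃* L) := by
  obtain ⟨η, hη, -⟩ := huniv
  rw [MonoidHom.id_comp] at hη
  have hsurj : Function.Surjective η := by
    have hsup : η.range ⊔ σ.ker = ⊤ := by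
      rw [eq_top_iff]
      intro x _
      obtain ⟨g, hg⟩ := hπ (σ x)
      have h : (η g)⁻¹ * x ∈ σ.ker := by
        rw [MonoidHom.mem_ker, map_mul, map_inv, ← MonoidHom.comp_apply, hη, hg, inv_mul_cancel]
      have := Subgroup.mul_mem_sup (MonoidHom.mem_range.mpr ⟨g, rfl⟩ : η g ∈ η.range) h
      rwa [mul_inv_cancel_left] at this
    rw [← MonoidHom.range_eq_top, ← top_le_iff, ← Group.isPerfect_def.mp hL,
      Cfsg.Agent.Lib.SchurMultiplier.commutator_eq_of_sup_center hσk hsup,
      Subgroup.commutator_le]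
    intro a ha b hb
    exact mul_mem (mul_mem (mul_mem ha hb) (inv_mem ha)) (inv_mem hb)
  have hMη : M ≤ η.ker := hMgen ▸ (Subgroup.closure_le _).mpr (by
    rintro _ ⟨x, hx, rfl⟩
    have hx' : η x ∈ σ.ker := by
      rw [MonoidHom.mem_ker, ← MonoidHom.comp_apply, hη]
      exact hx
    show η (x ^ 2) = 1
    rw [map_pow, sq, he _ hx'])
  let ψ : G ⧸ M →* L := QuotientGroup.lift M η hMη
  have hψ : Function.Surjective ψ := fun y => by
    obtain ⟨x, rfl⟩ := hsurj y
    exact ⟨QuotientGroup.mk x, rfl⟩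
  have hcL : Nat.card L = 4 * Nat.card (Q) := by
    rw [← Subgroup.index_mul_card σ.ker, hc, Subgroup.index_ker, MonoidHom.range_eq_top.mpr hσ,
      Subgroup.card_top, mul_comm]
  exact ⟨MulEquiv.ofBijective ψ ((Nat.bijective_iff_surjective_and_card ψ).mpr
    ⟨hψ, le_antisymm (hcardM.trans hcL.ge) (Nat.card_le_card_of_surjective ψ hψ)⟩)⟩

/-- The central quotient map, lifted to another universe. -/
theorem exists_lifted_proj.{v, w} {L : Type w} [Group L] [Finite L] {Q : Type*} [Group Q]
    (hL : Cfsg.IsQuasisimple L) (hc : Nat.card (Subgroup.center L) = 4)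
    (he : ∀ x ∈ Subgroup.center L, x * x = 1) (eL : L ⧸ Subgroup.center L ≃* Q) :
    Group.IsPerfect (ULift.{v} L) ∧ ∃ σ : ULift.{v} L →* Q, Function.Surjective σ ∧
      σ.ker ≤ Subgroup.center (ULift.{v} L) ∧ Nat.card σ.ker = 4 ∧ ∀ x ∈ σ.ker, x * x = 1 := by
  let u : ULift.{v} L ≃* L := MulEquiv.ulift
  let σ : ULift.{v} L →* Q :=
    (eL.toMonoidHom.comp (QuotientGroup.mk' _)).comp u.toMonoidHom
  have hk : ∀ x, x ∈ σ.ker ↔ u x ∈ Subgroup.center L := fun x => by
    rw [MonoidHom.mem_ker]
    show eL (QuotientGroup.mk (u x)) = 1 ↔ _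
    rw [MulEquiv.map_eq_one_iff, QuotientGroup.eq_one_iff]
  refine ⟨?_, σ, (eL.surjective.comp (QuotientGroup.mk'_surjective _)).comp u.surjective, ?_, ?_, ?_⟩
  · have h := Group.isPerfect_def.mp hL.1
    have h2 : (commutator L).map u.symm.toMonoidHom ≤ commutator (ULift.{v} L) := by
      rw [commutator_def, Subgroup.map_commutator, commutator_def]
      exact Subgroup.commutator_mono le_top le_top
    rw [h, Subgroup.map_top_of_surjective _ u.symm.surjective] at h2
    exact Group.isPerfect_def.mpr (top_le_iff.mp h2)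
  · intro x hx
    refine Subgroup.mem_center_iff.mpr fun y => u.injective ?_
    rw [map_mul, map_mul]
    exact Subgroup.mem_center_iff.mp ((hk x).mp hx) (u y)
  · rw [← hc]
    exact Nat.card_congr (u.toEquiv.subtypeEquiv hk)
  · intro x hx
    apply u.injective
    rw [map_mul, map_one]
    exact he _ ((hk x).mp hx)

/-- Up to isomorphism there is at most one quasisimple group whose centre is elementary abelian of order 4 and whose central quotient is isomorphic to the projective special linear group of dimension 3 over the field with four elements: any two such groups are isomorphic. -/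
theorem result {L₁ L₂ : Type*} [Group L₁] [Finite L₁] [Group L₂] [Finite L₂] (F : Type) [Field F] [Fintype F] (hF : Fintype.card F = 4) (h₁ : Cfsg.IsQuasisimple L₁) (h₂ : Cfsg.IsQuasisimple L₂) (hc₁ : Nat.card (Subgroup.center L₁) = 4) (hc₂ : Nat.card (Subgroup.center L₂) = 4) (he₁ : ∀ x ∈ Subgroup.center L₁, x * x = 1) (he₂ : ∀ x ∈ Subgroup.center L₂, x * x = 1) (e₁ : L₁ ⧸ Subgroup.center L₁ ≃* Matrix.ProjectiveSpecialLinearGroup (Fin 3) F) (e₂ : L₂ ⧸ Subgroup.center L₂ ≃* Matrix.ProjectiveSpecialLinearGroup (Fin 3) F) : Nonempty (L₁ ≃* L₂) := by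
  classical
  have hQ : Group.IsPerfect (Matrix.ProjectiveSpecialLinearGroup (Fin 3) F) := by
    have h := Group.isPerfect_def.mp h₁.1
    let f : L₁ →* Matrix.ProjectiveSpecialLinearGroup (Fin 3) F :=
      e₁.toMonoidHom.comp (QuotientGroup.mk' _)
    have hf : Function.Surjective f := e₁.surjective.comp (QuotientGroup.mk'_surjective _)
    have h2 : (commutator L₁).map f ≤ commutator _ := by
      rw [commutator_def, Subgroup.map_commutator, commutator_def]
      exact Subgroup.commutator_mono le_top le_top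
    rw [h, Subgroup.map_top_of_surjective f hf] at h2
    exact Group.isPerfect_def.mpr (top_le_iff.mp h2)
  obtain ⟨e⟩ := nonempty_cert3_equiv_PSL hF
  haveI : Finite (Matrix.ProjectiveSpecialLinearGroup (Fin 3) F) := Finite.of_equiv _ e.toEquiv
  obtain ⟨G, iG, iF, π, hG, hπ, hπc, -, huniv⟩ :=
    Cfsg.Agent.Lib.SchurMultiplier.exists_universal_cover _ hQ
  let M : Subgroup G := Subgroup.closure ((fun x => x ^ 2) '' (π.ker : Set G))
  have hM : M ≤ π.ker := (Subgroup.closure_le _).mpr (by
    rintro _ ⟨x, hx, rfl⟩; exact pow_mem hx 2)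
  haveI : M.Normal := Cfsg.Agent.Lib.SchurMultiplier.normal_of_le_center (hM.trans hπc)
  let τ : G ⧸ M →* grp 24 cert3 :=
    e.symm.toMonoidHom.comp (QuotientGroup.lift M π hM)
  have hτ : Function.Surjective τ := fun y => by
    obtain ⟨x, hx⟩ := hπ (e y)
    exact ⟨QuotientGroup.mk x, by
      show e.symm (π x) = y
      rw [hx, MulEquiv.symm_apply_apply]⟩
  have hτk : ∀ x : G, τ (QuotientGroup.mk x) = 1 ↔ x ∈ π.ker := fun x => by
    show e.symm (π x) = 1 ↔ π x = 1
    exact MulEquiv.map_eq_one_iff _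
  have hcenM : τ.ker ≤ Subgroup.center (G ⧸ M) := by
    intro q hq
    induction q using QuotientGroup.induction_on with
    | _ x =>
      refine Subgroup.mem_center_iff.mpr fun r => ?_
      induction r using QuotientGroup.induction_on with
      | _ y => rw [← QuotientGroup.mk_mul, ← QuotientGroup.mk_mul,
          Subgroup.mem_center_iff.mp (hπc ((hτk x).mp hq)) y]
  have h4 : Nat.card τ.ker ≤ 4 := by
    refine L34Split.card_ker_le_four τ hτ hcenM ?_ ?_
    · have h := Group.isPerfect_def.mp hG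
      have h2 : (commutator G).map (QuotientGroup.mk' M) ≤ commutator (G ⧸ M) := by
        rw [commutator_def, Subgroup.map_commutator, commutator_def]
        exact Subgroup.commutator_mono le_top le_top
      rw [h, Subgroup.map_top_of_surjective _ (QuotientGroup.mk'_surjective M)] at h2
      exact le_top.trans h2
    · intro q hq
      induction q using QuotientGroup.induction_on with
      | _ x =>
        rw [← QuotientGroup.mk_pow, QuotientGroup.eq_one_iff]
        exact Subgroup.subset_closure ⟨x, (hτk x).mp hq, rfl⟩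
  have hcardM : Nat.card (G ⧸ M) ≤
      4 * Nat.card (Matrix.ProjectiveSpecialLinearGroup (Fin 3) F) := by
    rw [← Subgroup.index_mul_card τ.ker, Subgroup.index_ker, MonoidHom.range_eq_top.mpr hτ,
      Subgroup.card_top, Nat.card_congr e.toEquiv, mul_comm]
    exact Nat.mul_le_mul_right _ h4
  obtain ⟨p₁, σ₁, s₁, z₁, k₁, x₁⟩ := exists_lifted_proj.{u_2} h₁ hc₁ he₁ e₁
  obtain ⟨p₂, σ₂, s₂, z₂, k₂, x₂⟩ := exists_lifted_proj.{u_1} h₂ hc₂ he₂ e₂
  obtain ⟨f₁⟩ := nonempty_equiv_of_cover π hπ M rfl hcardM p₁ σ₁ s₁ z₁ k₁ x₁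
    (huniv (MonoidHom.id _) σ₁ s₁ z₁)
  obtain ⟨f₂⟩ := nonempty_equiv_of_cover π hπ M rfl hcardM p₂ σ₂ s₂ z₂ k₂ x₂
    (huniv (MonoidHom.id _) σ₂ s₂ z₂)
  exact ⟨MulEquiv.ulift.symm.trans ((f₁.symm.trans f₂).trans MulEquiv.ulift)⟩

end Cfsg.Agent.S5387
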