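import Cfsg.Statements.S5392
import Cfsg.Agent.Lib.ThreeTransp.LeechIrreducible

set_option autoImplicit false
open Cfsg

namespace Cfsg.Agent.S5392

open Cfsg.Agent.Lib.ThreeTransp Cfsg.Agent.Lib.Compute

theorem short_cases {v w : Lam} (hv : sqNorm (v : GolayPt → ℤ) = 32)
    (hw : sqNorm (w : GolayPt → ℤ) = 32) {y : Lam}
    (hy : (w : GolayPt → ℤ) - (v : GolayPt → ℤ) = 2 • (y : GolayPt → ℤ)) : w = v ∨ w = -v := by
  by_cases h1 : (y : GolayPt → ℤ) = 0
  · left; exact Subtype.ext (sub_eq_zero.mp (by rw [hy, h1, smul_zero]))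
  by_cases h2 : ((y + v : Lam) : GolayPt → ℤ) = 0
  · right
    refine Subtype.ext (funext fun p => ?_)
    have e1 := congrFun hy p
    have e2 := congrFun h2 p
    simp only [AddSubgroup.coe_add, Pi.add_apply, Pi.sub_apply, Pi.smul_apply, Pi.zero_apply,
      nsmul_eq_mul, Nat.cast_ofNat] at e1 e2
    show (w : GolayPt → ℤ) p = -(v : GolayPt → ℤ) p
    omega
  exfalso
  have g1 := thirtyTwo_le_sqNorm y.2 h1
  have g2 := thirtyTwo_le_sqNorm (y + v).2 h2
  have e : sqNorm (v : GolayPt → ℤ) + sqNorm (w : GolayPt → ℤ)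
      = 2 * sqNorm (y : GolayPt → ℤ) + 2 * sqNorm ((y + v : Lam) : GolayPt → ℤ) := by
    simp only [sqNorm, Finset.mul_sum, ← Finset.sum_add_distrib]
    refine Finset.sum_congr rfl fun p _ => ?_
    have e1 := congrFun hy p
    simp only [Pi.sub_apply, Pi.smul_apply, nsmul_eq_mul, Nat.cast_ofNat] at e1
    rw [AddSubgroup.coe_add, Pi.add_apply, show (w : GolayPt → ℤ) p =
      (v : GolayPt → ℤ) p + 2 * (y : GolayPt → ℤ) p by linarith]
    ring
  omega

theorem dotInt_co0 (g : ↥Co0) (v w : Lam) :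
    dotInt ((g • v : Lam) : GolayPt → ℤ) ((g • w : Lam) : GolayPt → ℤ)
      = dotInt (v : GolayPt → ℤ) (w : GolayPt → ℤ) := by
  have h1 : sqNorm ((g • (v + w) : Lam) : GolayPt → ℤ) = sqNorm ((v + w : Lam) : GolayPt → ℤ) :=
    g.2.2 (v + w)
  have h2 : sqNorm ((g • v : Lam) : GolayPt → ℤ) = sqNorm (v : GolayPt → ℤ) := g.2.2 v
  have h3 : sqNorm ((g • w : Lam) : GolayPt → ℤ) = sqNorm (w : GolayPt → ℤ) := g.2.2 w
  have h4 : ((g • (v + w) : Lam) : GolayPt → ℤ) = (g • v : Lam) + (g • w : Lam) := by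
    rw [← AddSubgroup.coe_add]; exact congrArg Subtype.val (g.2.1 v w)
  rw [h4, AddSubgroup.coe_add, sqNorm_add, sqNorm_add, h2, h3] at h1
  linarith

theorem basis_out : ∀ b ∈ golayBasis, ∃ a : GolayPt, a ≠ none ∧
    dotInt (fun p : GolayPt => if p ∈ setOf24 b.1 then (2 : ℤ) else 0) (pairFun a none) ≠ 0 := by
  decide +kernel

set_option maxHeartbeats 1000000 in
theorem faithful (g : ↥Co0) (hg : ∀ v : Lam, ∃ w : Lam,
    ((g • v : Lam) : GolayPt → ℤ) - (v : GolayPt → ℤ) = 2 • (w : GolayPt → ℤ)) :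
    g ∈ Subgroup.center ↥Co0 := by
  classical
  set o : Lam := ⟨oddVec, oddVec_mem⟩
  set a0 := enc.symm (0 : Fin 24)
  have hnorm : ∀ {i j : GolayPt}, i ≠ j → sqNorm (vv i j : GolayPt → ℤ) = 32 := by
    intro i j hij
    show ∑ p, pairFun i j p ^ 2 = 32
    have e : ∀ p : GolayPt, pairFun i j p ^ 2 = (if p = i then 16 else 0) + (if p = j then 16 else 0) := by
      intro p
      simp only [pairFun]
      by_cases h1 : p = i
      · subst h1; simp [hij]
      · by_cases h2 : p = j <;> simp [h1, h2, Ne.symm hij]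
    rw [Finset.sum_congr rfl fun p _ => e p, Finset.sum_add_distrib, Finset.sum_ite_eq',
      Finset.sum_ite_eq', if_pos (Finset.mem_univ _), if_pos (Finset.mem_univ _)]
    norm_num
  have hpair : ∀ {i j k : GolayPt}, i ≠ k → j ≠ k → i ≠ j →
      dotInt (vv i k : GolayPt → ℤ) (vv j k : GolayPt → ℤ) = 16 := by
    intro i j k hik hjk hij
    show ∑ p, pairFun i k p * pairFun j k p = 16
    have e : ∀ p : GolayPt, pairFun i k p * pairFun j k p = if p = k then 16 else 0 := by
      intro p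
      simp only [pairFun]
      by_cases h1 : p = i
      · subst h1; simp [hik, hij]
      · by_cases h2 : p = j
        · subst h2; simp [h1, hjk]
        · by_cases h3 : p = k <;> simp [h1, h2, h3]
          subst h3; simp [h1, h2]
    rw [Finset.sum_congr rfl fun p _ => e p, Finset.sum_ite_eq', if_pos (Finset.mem_univ _)]
  have hpm : ∀ v : Lam, sqNorm (v : GolayPt → ℤ) = 32 → g • v = v ∨ g • v = -v := by
    intro v hv
    obtain ⟨y, hy⟩ := hg v
    exact short_cases hv ((g.2.2 v).trans hv) hy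
  have h0n : a0 ≠ none := by decide +kernel
  obtain ⟨ε, hε, hεv⟩ : ∃ ε : ℤ, (ε = 1 ∨ ε = -1) ∧ g • vv a0 none = ε • vv a0 none := by
    rcases hpm _ (hnorm h0n) with e | e
    · exact ⟨1, Or.inl rfl, by rw [one_smul, e]⟩
    · exact ⟨-1, Or.inr rfl, by rw [neg_one_zsmul, e]⟩
  have hlink : ∀ {v w : Lam}, g • v = ε • v → sqNorm (w : GolayPt → ℤ) = 32 →
      dotInt (v : GolayPt → ℤ) (w : GolayPt → ℤ) ≠ 0 → g • w = ε • w := by
    intro v w hv hw hd
    have hdot := dotInt_co0 g v w
    have hneg1 : dotInt (v : GolayPt → ℤ) ((-w : Lam) : GolayPt → ℤ)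
        = - dotInt (v : GolayPt → ℤ) (w : GolayPt → ℤ) := by
      simp [dotInt, AddSubgroup.coe_neg]
    have hneg2 : dotInt ((-v : Lam) : GolayPt → ℤ) (w : GolayPt → ℤ)
        = - dotInt (v : GolayPt → ℤ) (w : GolayPt → ℤ) := by
      simp [dotInt, AddSubgroup.coe_neg]
    rcases hε with rfl | rfl
    · rw [one_smul] at hv ⊢
      refine (hpm w hw).resolve_right fun e => hd ?_
      rw [hv, e, hneg1] at hdot
      omega
    · rw [neg_one_zsmul] at hv ⊢
      refine (hpm w hw).resolve_left fun e => hd ?_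
      rw [hv, e, hneg2] at hdot
      omega
  have hvv : ∀ a : GolayPt, a ≠ none → g • vv a none = ε • vv a none := by
    intro a ha
    by_cases e : a = a0
    · rw [e]; exact hεv
    · exact hlink hεv (hnorm ha) (by rw [hpair h0n ha (Ne.symm e)]; norm_num)
  have hodd : g • o = ε • o := hlink (hvv a0 h0n) (show sqNorm oddVec = 32 by decide +kernel)
    (by show dotInt (pairFun a0 none) oddVec ≠ 0; decide +kernel)
  have hoct : ∀ b ∈ golayBasis, g • octVec b.1 = ε • octVec b.1 := by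
    intro b hb
    obtain ⟨hc, h8⟩ := basis_octads b hb
    obtain ⟨a, ha, hd⟩ := basis_out b hb
    refine hlink (hvv a ha) ?_ ?_
    · rw [octVec_apply hc h8]
      exact (show ∀ b ∈ golayBasis, sqNorm (fun p : GolayPt => if p ∈ setOf24 b.1 then (2 : ℤ) else 0) = 32
        by decide +kernel) b hb
    · rw [octVec_apply hc h8]
      intro e
      refine hd (Eq.trans ?_ e)
      exact Finset.sum_congr rfl fun p _ => mul_comm _ _
  let K : AddSubgroup Lam :=
    { carrier := {v | g • v = ε • v}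
      zero_mem' := by
        have : g • (0 : Lam) + g • (0 : Lam) = g • (0 : Lam) := by
          rw [show g • (0 : Lam) + g • (0 : Lam) = g • ((0 : Lam) + 0) from (g.2.1 0 0).symm, add_zero]
        show g • (0 : Lam) = ε • (0 : Lam)
        rw [smul_zero]; simpa using this
      add_mem' := fun {v w} hv hw => by
        show g • (v + w) = ε • (v + w)
        rw [show g • (v + w) = g • v + g • w from g.2.1 v w, hv, hw, smul_add]
      neg_mem' := fun {v} hv => by
        show g • (-v) = ε • (-v)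
        have h0 : g • (0 : Lam) = 0 := by
          have h := g.2.1 0 0
          change g • ((0 : Lam) + 0) = g • (0 : Lam) + g • (0 : Lam) at h
          rw [add_zero] at h
          simpa using h
        have := (g.2.1 v (-v)).symm
        change g • v + g • (-v) = g • (v + -v) at this
        rw [add_neg_cancel, h0, hv] at this
        rw [smul_neg, eq_neg_of_add_eq_zero_right this] }
  have hall : ∀ v : Lam, g • v = ε • v := by
    intro v
    have hle : leechLattice ≤ K.map leechLattice.subtype := by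
      refine leech_le ⟨o, hodd, rfl⟩ (fun i => ⟨vv i none, ?_, rfl⟩)
        (fun b hb => ⟨octVec b.1, hoct b hb,
          octVec_apply (basis_octads b hb).1 (basis_octads b hb).2⟩)
      by_cases hi : i = none
      · subst hi
        obtain ⟨a, b, ha, hb, hab⟩ : ∃ a b : GolayPt, a ≠ none ∧ b ≠ none ∧ a ≠ b := by decide +kernel
        have e : vv none none = vv a none + vv none b + -(vv a b) := by
          rw [vv_chain]; abel
        rw [e]
        refine K.add_mem (K.add_mem (hvv a ha) ?_) (K.neg_mem ?_)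
        · rw [vv_comm]; exact hvv b hb
        · refine hlink (hvv a ha) (hnorm hab) ?_
          rw [vv_comm a none, vv_comm a b, hpair (Ne.symm ha) (Ne.symm hab) (Ne.symm hb)]
          norm_num
      · exact hvv i hi
    obtain ⟨y, hy, e⟩ := hle v.2
    rw [show v = y from Subtype.ext e.symm]
    exact hy
  rw [Subgroup.mem_center_iff]
  intro k
  refine Subtype.ext (Equiv.ext fun v => ?_)
  show k • (g • v) = g • (k • v)
  rw [hall, hall]
  have hadd : ∀ a b : Lam, k • (a + b) = k • a + k • b := k.2.1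
  exact map_zsmul (AddMonoidHom.mk' (fun a : Lam => k • a) hadd) ε v

theorem result : (∀ g : ↥Cfsg.Co0, (∀ v : ↥Cfsg.leechLattice, ∃ w : ↥Cfsg.leechLattice, ((g • v : ↥Cfsg.leechLattice) : Cfsg.GolayPt → ℤ) - (v : Cfsg.GolayPt → ℤ) = 2 • (w : Cfsg.GolayPt → ℤ)) → g ∈ Subgroup.center ↥Cfsg.Co0) ∧ ∀ M : AddSubgroup (Cfsg.GolayPt → ℤ), (∀ v ∈ Cfsg.leechLattice, (2 : ℤ) • v ∈ M) → M ≤ Cfsg.leechLattice → (∀ g : ↥Cfsg.Co0, ∀ v : ↥Cfsg.leechLattice, (v : Cfsg.GolayPt → ℤ) ∈ M → ((g • v : ↥Cfsg.leechLattice) : Cfsg.GolayPt → ℤ) ∈ M) → (∀ x ∈ M, ∃ w ∈ Cfsg.leechLattice, x = (2 : ℤ) • w) ∨ M = Cfsg.leechLattice := by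
  refine ⟨faithful, fun M h2 hle hinv => ?_⟩
  by_cases hall : ∀ x ∈ M, ∃ w ∈ Cfsg.leechLattice, x = (2 : ℤ) • w
  · exact Or.inl hall
  push Not at hall
  obtain ⟨x, hxM, hx2⟩ := hall
  set H : AddSubgroup Lam := M.comap leechLattice.subtype
  have hH : InvSub H := by
    refine ⟨fun w => ?_, fun σ hσ v hv => ?_, fun c hc v hv => ?_, fun v hv => ?_⟩
    · show ((w + w : Lam) : GolayPt → ℤ) ∈ M
      have := h2 _ w.2
      rwa [two_smul] at this
    · obtain ⟨g, hg⟩ := exists_co0_perm hσ; rw [← hg]; exact hinv g v hv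
    · obtain ⟨g, hg⟩ := exists_co0_sign hc; rw [← hg]; exact hinv g v hv
    · obtain ⟨g, hg⟩ := exists_co0_xi; rw [← hg]; exact hinv g v hv
  have htop := hH.eq_top (x := ⟨x, hle hxM⟩) hxM (fun w e => hx2 _ w.2 (by
    rw [two_smul]; exact congrArg Subtype.val e))
  refine Or.inr (le_antisymm hle fun v hv => ?_)
  have : (⟨v, hv⟩ : Lam) ∈ H := htop ▸ AddSubgroup.mem_top _
  exact this

end Cfsg.Agent.S5392
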