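import Cfsg.Statements.S5396
import Cfsg.Agent.Lib.ThreeTransp.ExtraModel
-- import your own Cfsg.Agent.* helpers here

set_option autoImplicit false
open Cfsg

namespace Cfsg.Agent.S5396

/-- For every n ≥ 1 there exist finite extraspecial 2-groups of order 2^(2n+1) whose 2-rank (the largest rank of an elementary abelian subgroup) is n, and ones whose 2-rank is n + 1 (so for each such order there are two non-isomorphic extraspecial 2-groups, told apart by their 2-rank). -/
theorem result (n : ℕ) (hn : 1 ≤ n) : ∀ r ∈ ({n, n + 1} : Set ℕ), ∃ (E : Type) (_ : Group E) (_ : Finite E), Cfsg.IsExtraspecial 2 E ∧ Nat.card E = 2 ^ (2 * n + 1) ∧ sSup {k : ℕ | ∃ A : Subgroup E, Cfsg.IsElementaryAbelian 2 A ∧ Nat.card A = 2 ^ k} = r := by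
  classical
  open Cfsg.Agent.Lib.ThreeTransp in
  intro r hr
  open Cfsg.Agent.Lib.ThreeTransp in
  have build : ∀ (m : Fin n → ZMod 2) (r : ℕ),
      (∀ W : Submodule (ZMod 2) (Pairs n), (∀ w ∈ W, pairForm m w w = 0) → 2 * Nat.card W ≤ 2 ^ r) →
      (∃ W : Submodule (ZMod 2) (Pairs n), (∀ w ∈ W, pairForm m w w = 0) ∧ 2 * Nat.card W = 2 ^ r) →
      ∃ (E : Type) (_ : Group E) (_ : Finite E), Cfsg.IsExtraspecial 2 E ∧ Nat.card E = 2 ^ (2 * n + 1) ∧
        sSup {k : ℕ | ∃ A : Subgroup E, Cfsg.IsElementaryAbelian 2 A ∧ Nat.card A = 2 ^ k} = r := by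
    intro m r hub ⟨W, hW, hWc⟩
    haveI : Nonempty (Fin n) := ⟨⟨0, hn⟩⟩
    have hV : Nat.card (Pairs n) = 2 ^ (2 * n) := by
      rw [Nat.card_fun, Nat.card_prod, Nat.card_zmod, Nat.card_fin, pow_mul]
      norm_num
    refine ⟨ExtModel (pairForm m), inferInstance, inferInstance,
      ExtModel.isExtraspecial hV (pairForm_nondeg m), by rw [ExtModel.card_eq, hV, pow_succ, mul_comm], ?_⟩
    refine IsGreatest.csSup_eq ⟨?_, ?_⟩
    · cases r with
      | zero => exact absurd hWc (by have := Nat.card_pos (α := W); omega)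
      | succ r =>
        exact (ExtModel.elemAbelian_card_iff r).2 ⟨W, hW, by rw [pow_succ] at hWc; omega⟩
    · rintro k ⟨A, hA, hAk⟩
      obtain ⟨W', hW', hle⟩ := (ExtModel.elemAbelian_card_iff 0).1 A hA
      have := (hle.trans (hub W' hW'))
      rw [hAk] at this
      exact (Nat.pow_le_pow_iff_right (by norm_num)).1 this
  open Cfsg.Agent.Lib.ThreeTransp in
  have hdiag : ∀ (m : Fin n → ZMod 2) (u : Pairs n), pairForm m u u =
      ∑ i, ((u i).1 * (u i).2 + m i * ((u i).1 * (u i).1 + (u i).2 * (u i).2)) := fun m u => rfl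
  open Cfsg.Agent.Lib.ThreeTransp in
  rcases hr with rfl | rfl
  · -- twisted at the first coordinate
    obtain ⟨k, rfl⟩ : ∃ k, r = k + 1 := ⟨r - 1, by omega⟩
    refine build (Pi.single 0 1) _ (fun W hW => ?_) ?_
    · have hb := pairForm_isotropic_bound _ W hW
      have hne : Nat.card W ≠ 2 ^ (k + 1) := by
        intro h
        have h0 := hb.2 h
        rw [Fin.prod_univ_succ] at h0
        simp only [Pi.single_eq_same, Pi.single_eq_of_ne (Fin.succ_ne_zero _)] at h0
        have e1 : (∑ p : ZMod 2 × ZMod 2, if p.1 * p.2 + 1 * (p.1 * p.1 + p.2 * p.2) = 0 then (1 : ℤ) else -1) = -2 := by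
          decide
        have e2 : (∑ p : ZMod 2 × ZMod 2, if p.1 * p.2 + 0 * (p.1 * p.1 + p.2 * p.2) = 0 then (1 : ℤ) else -1) = 2 := by
          decide
        rw [e1, e2, Finset.prod_const] at h0
        have : (0 : ℤ) < 2 ^ (Finset.univ : Finset (Fin k)).card := by positivity
        omega
      obtain ⟨j, hj⟩ : ∃ j, Nat.card W = 2 ^ j :=
        ⟨_, by rw [Module.natCard_eq_pow_finrank (K := ZMod 2), Nat.card_zmod]⟩
      rw [hj] at hb hne ⊢
      have hj1 : j ≤ k + 1 := (Nat.pow_le_pow_iff_right (by norm_num)).1 hb.1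
      have hj2 : j ≠ k + 1 := fun h => hne (by rw [h])
      rw [← pow_succ']
      exact Nat.pow_le_pow_right (by norm_num) (by omega)
    · let W : Submodule (ZMod 2) (Pairs (k + 1)) :=
        { carrier := {u | u 0 = 0 ∧ ∀ i, (u i).2 = 0}
          zero_mem' := ⟨rfl, fun _ => rfl⟩
          add_mem' := fun {u v} hu hv => ⟨by simp [hu.1, hv.1], fun i => by simp [hu.2 i, hv.2 i]⟩
          smul_mem' := fun t u hu => ⟨by simp [hu.1], fun i => by simp [hu.2 i]⟩ }
      refine ⟨W, fun w hw => ?_, ?_⟩
      · rw [hdiag]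
        refine Finset.sum_eq_zero fun i _ => ?_
        rcases eq_or_ne i 0 with rfl | hi
        · rw [hw.1]; simp
        · rw [Pi.single_eq_of_ne hi, hw.2 i]; simp
      · let e : W ≃ (Fin k → ZMod 2) :=
          { toFun := fun u i => (u.1 i.succ).1
            invFun := fun x => ⟨Fin.cons 0 fun i => (x i, 0), Fin.cons_zero _ _,
              fun i => by refine Fin.cases ?_ ?_ i <;> simp⟩
            left_inv := fun u => Subtype.ext (funext fun i => by
              refine Fin.cases ?_ (fun j => ?_) i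
              · simp [u.2.1]
              · simp only [Fin.cons_succ]; exact Prod.ext rfl (u.2.2 _).symm)
            right_inv := fun x => funext fun i => by simp }
        rw [Nat.card_congr e, Nat.card_fun, Nat.card_zmod, Nat.card_fin, pow_succ']
  · refine build 0 _ (fun W hW => ?_) ?_
    · have := (pairForm_isotropic_bound 0 W hW).1
      rw [pow_succ]; omega
    · let W : Submodule (ZMod 2) (Pairs n) :=
        { carrier := {u | ∀ i, (u i).2 = 0}
          zero_mem' := fun _ => rfl
          add_mem' := fun {u v} hu hv i => by simp [hu i, hv i]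
          smul_mem' := fun t u hu i => by simp [hu i] }
      refine ⟨W, fun w hw => ?_, ?_⟩
      · rw [hdiag]
        exact Finset.sum_eq_zero fun i _ => by rw [hw i]; simp
      · let e : W ≃ (Fin n → ZMod 2) :=
          { toFun := fun u i => (u.1 i).1
            invFun := fun x => ⟨fun i => (x i, 0), fun _ => rfl⟩
            left_inv := fun u => Subtype.ext (funext fun i => Prod.ext rfl (u.2 i).symm)
            right_inv := fun _ => rfl }
        rw [Nat.card_congr e, Nat.card_fun, Nat.card_zmod, Nat.card_fin, pow_succ']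

end Cfsg.Agent.S5396
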