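import Cfsg.Statements.S5408
import Cfsg.Agent.Lib.ThreeTransp.LeechInvariantForm
import Cfsg.Agent.Lib.ThreeTransp.Extraspecial
import Cfsg.Agent.Lib.Cores.Frattini

set_option autoImplicit false
open Cfsg

namespace Cfsg.Agent.S5408

open Cfsg.Agent.Lib.ThreeTransp

section
variable {P : Type*} [Group P]

/-- `0` at the identity, `1` elsewhere. -/
noncomputable def chi (c : P) : ZMod 2 := by
  classical exact if c = 1 then 0 else 1

theorem chi_eq_zero {c : P} : chi c = 0 ↔ c = 1 := by
  by_cases h : c = 1 <;> simp [chi, h]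

theorem chi_congr {R : Type*} [Group R] {c : P} {d : R} (h : c = 1 ↔ d = 1) : chi c = chi d := by
  by_cases hc : c = 1
  · rw [chi_eq_zero.mpr hc, chi_eq_zero.mpr (h.mp hc)]
  · have hd : ¬d = 1 := fun e => hc (h.mpr e)
    simp [chi, hc, hd]

theorem chi_mul (hE : Cfsg.IsExtraspecial 2 P) {c d : P} (hc : c ∈ Subgroup.center P)
    (hd : d ∈ Subgroup.center P) : chi (c * d) = chi c + chi d := by
  by_cases h1 : c = 1
  · subst h1; rw [one_mul, chi_eq_zero.mpr rfl, zero_add]
  by_cases h2 : d = 1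
  · subst h2; rw [mul_one, chi_eq_zero.mpr rfl, add_zero]
  obtain rfl := extraspecial_center_eq (hE := hE) hc hd h1 h2
  rw [z2_self, ← pow_two, extraspecial_center_sq (hE := hE) hc, chi_eq_zero.mpr rfl]

variable [Finite P] (hE : Cfsg.IsExtraspecial 2 P)
include hE

theorem sq_mem_center (a : P) : a * a ∈ Subgroup.center P := by
  haveI : Fact (Nat.Prime 2) := ⟨Nat.prime_two⟩
  rw [← hE.1.2.1, ← pow_two]
  exact Cfsg.Agent.Lib.Cores.pow_mem_frattini hE.1.1 a

theorem comm_mem_center (a b : P) : b * a * b⁻¹ * a⁻¹ ∈ Subgroup.center P := by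
  rw [← hE.1.2.2, commutator_def]
  exact Subgroup.commutator_mem_commutator (Subgroup.mem_top b) (Subgroup.mem_top a)

omit hE in
/-- The commutator form. -/
noncomputable def bb (a b : P) : ZMod 2 := chi (b * a * b⁻¹ * a⁻¹)

theorem bb_mul (a b c : P) : bb (a * b) c = bb a c + bb b c := by
  have h1 := comm_mem_center hE a c
  have h2 := comm_mem_center hE b c
  rw [bb, bb, bb, ← chi_mul hE h1 h2]
  congr 1
  have hz := Subgroup.mem_center_iff.mp h2 a
  calc c * (a * b) * c⁻¹ * (a * b)⁻¹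
      = (c * a * c⁻¹ * a⁻¹) * (a * (c * b * c⁻¹ * b⁻¹)) * a⁻¹ := by group
    _ = (c * a * c⁻¹ * a⁻¹) * (c * b * c⁻¹ * b⁻¹) := by rw [hz]; group

theorem sq_mul (a b : P) : chi (a * b * (a * b)) = chi (a * a) + chi (b * b) + bb a b := by
  have hg := comm_mem_center hE a b
  have hz := Subgroup.mem_center_iff.mp hg a
  have e : a * b * (a * b) = (b * a * b⁻¹ * a⁻¹) * ((a * a) * (b * b)) := by
    calc a * b * (a * b) = (a * (b * a * b⁻¹ * a⁻¹)) * a * b * b := by group
      _ = _ := by rw [hz]; simp only [mul_assoc]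
  rw [e, chi_mul hE hg (mul_mem (sq_mem_center hE a) (sq_mem_center hE b)),
    chi_mul hE (sq_mem_center hE a) (sq_mem_center hE b), bb]
  ring

theorem sq_congr {a b : P} (h : (QuotientGroup.mk a : P ⧸ Subgroup.center P) = QuotientGroup.mk b) :
    a * a = b * b := by
  obtain ⟨c, hc, rfl⟩ : ∃ c ∈ Subgroup.center P, b = a * c :=
    ⟨a⁻¹ * b, QuotientGroup.eq.mp h, by group⟩
  have hz := Subgroup.mem_center_iff.mp hc a
  calc a * a = a * a * (c ^ 2) := by rw [extraspecial_center_sq (hE := hE) hc, mul_one]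
    _ = a * (a * c) * c := by rw [pow_two]; simp only [mul_assoc]
    _ = a * (c * a) * c := by rw [hz]
    _ = a * c * (a * c) := by simp only [mul_assoc]

end

theorem result {G : Type*} [Group G] [Finite G] (z : G) (Q : Subgroup (Subgroup.centralizer ({z} : Set G))) [Q.Normal] (hM : Cfsg.IsOfMonsterType z Q) : ∃ E : Subgroup Q, Cfsg.IsElementaryAbelian 2 E ∧ Nat.card E = 2 ^ 13 := by
  classical
  obtain ⟨⟨-, -, hE, hcard, -⟩, e, ψ, hadd, hsurj, hker, hact⟩ := hM
  let r : Lam → Q := fun v => (ψ v).out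
  have hr : ∀ v, (QuotientGroup.mk (r v) : Q ⧸ Subgroup.center Q) = ψ v :=
    fun v => QuotientGroup.out_eq' (ψ v)
  let q : Lam → ZMod 2 := fun v => chi (r v * r v)
  have hq : ∀ (v : Lam) (a : Q), ψ v = QuotientGroup.mk a → q v = chi (a * a) := fun v a h =>
    congrArg chi (sq_congr hE ((hr v).trans h))
  have hqadd : ∀ v w, q (v + w) = q v + q w + bb (r v) (r w) := fun v w => by
    rw [hq (v + w) (r v * r w) (by rw [hadd, QuotientGroup.mk_mul, hr, hr]), sq_mul hE]
  have hbmk : ∀ (a a' c : Q), (QuotientGroup.mk a : Q ⧸ Subgroup.center Q) = QuotientGroup.mk a' →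
      bb a c = bb a' c := by
    intro a a' c h
    obtain ⟨d, hd, rfl⟩ : ∃ d ∈ Subgroup.center Q, a' = a * d :=
      ⟨a⁻¹ * a', QuotientGroup.eq.mp h, by group⟩
    have : bb d c = 0 := by
      rw [bb, chi_eq_zero, Subgroup.mem_center_iff.mp hd c]; group
    rw [bb_mul hE, this, add_zero]
  have hconj : ∀ (g : ↥Co0) (v : Lam), q (g • v) = q v := by
    intro g v
    obtain ⟨h, hh⟩ := QuotientGroup.mk_surjective (e.symm (QuotientGroup.mk g))
    have h2 := hact h g (by rw [hh, e.apply_symm_apply]) v (r v) (hr v).symm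
    rw [hq _ _ h2]
    refine chi_congr ?_
    refine Subtype.ext_iff.trans (Iff.trans ?_ Subtype.ext_iff.symm)
    simp only [Subgroup.coe_mul, Subgroup.coe_one]
    have e' : ∀ x : Subgroup.centralizer ({z} : Set G), h * x * h⁻¹ * (h * x * h⁻¹) = h * (x * x) * h⁻¹ :=
      fun x => by group
    rw [e', conj_eq_one_iff]
  have hinv : InvForm q := by
    refine ⟨fun u v w => ?_, fun v w => ?_, fun σ hσ v => ?_, fun c hc v => ?_⟩
    · rw [hqadd (u + v) w, hqadd u w, hqadd v w,
        hbmk _ (r u * r v) (r w) (by rw [hr, hadd, QuotientGroup.mk_mul, hr, hr]), bb_mul hE]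
      linear_combination (norm := ring_nf) z2_self (q (u + v)) + z2_self (q w) - z2_self (q u) - z2_self (q v) - z2_self (q w) - z2_self (q w)
    · refine hq _ (r v) ?_
      rw [hadd, (hker (w + w)).mpr ⟨w, rfl⟩, mul_one, hr]
    · obtain ⟨g, hg⟩ := exists_co0_perm hσ
      rw [← hg, hconj]
    · obtain ⟨g, hg⟩ := exists_co0_sign hc
      rw [← hg, hconj]
  let φ : Multiplicative Lam →* Q ⧸ Subgroup.center Q :=
    { toFun := fun v => ψ v.toAdd
      map_one' := (hker 0).mpr ⟨0, (add_zero 0).symm⟩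
      map_mul' := fun v w => hadd _ _ }
  let A : AddSubgroup Lam := singularSub.addSubgroupOf leechLattice
  let E : Subgroup Q := (Subgroup.map φ A.toSubgroup).comap (QuotientGroup.mk' (Subgroup.center Q))
  have hsq : ∀ a ∈ E, a ^ 2 = 1 := by
    intro a ha
    obtain ⟨v, hv, hva⟩ := ha
    rw [pow_two, ← chi_eq_zero, ← hq v.toAdd a hva]
    exact hinv.eq_zero_of_singular hv
  refine ⟨E, ⟨⟨⟨fun a b => Subtype.ext ?_⟩⟩, hsq⟩, ?_⟩
  · have hi : ∀ x ∈ E, x⁻¹ = x := fun x hx => by
      rw [inv_eq_iff_mul_eq_one, ← pow_two, hsq x hx]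
    show (a : Q) * b = b * a
    calc (a : Q) * b = ((a : Q) * b)⁻¹ := (hi _ (E.mul_mem a.2 b.2)).symm
      _ = (b : Q) * a := by rw [mul_inv_rev, hi _ a.2, hi _ b.2]
  · have hφ : Function.Surjective φ := fun x => ⟨Multiplicative.ofAdd (hsurj x).choose, (hsurj x).choose_spec⟩
    have hkerle : φ.ker ≤ A.toSubgroup := by
      intro v hv
      obtain ⟨w, hw⟩ := (hker v.toAdd).mp hv
      show v.toAdd ∈ A
      rw [show A = quadMap.ker from singularSub_eq_ker, AddMonoidHom.mem_ker, hw, map_add]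
      refine Prod.ext (z2_self _) (Subtype.ext (Subtype.ext (funext fun i => z2_self _)))
    have hA : A.index = 2 * 2048 := by
      rw [show A = quadMap.ker from singularSub_eq_ker, AddSubgroup.index,
        Nat.card_congr (QuotientAddGroup.quotientKerEquivOfSurjective quadMap quadMap_surjective).toEquiv,
        Nat.card_prod, Nat.card_zmod, card_ker_evalExtra]
    have hidx : E.index = 2 * 2048 := by
      rw [Subgroup.index_comap_of_surjective _ (QuotientGroup.mk'_surjective _),
        Subgroup.index_map_eq _ hφ hkerle, AddSubgroup.index_toSubgroup, hA]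
    have := Subgroup.card_mul_index E
    rw [hidx, hcard] at this
    omega

end Cfsg.Agent.S5408
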