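import Cfsg.Statements.S5410
import Cfsg.Agent.Lib.MonsterType.QMeet

set_option autoImplicit false
open Cfsg

namespace Cfsg.Agent.S5410

open Cfsg.Agent.Lib.Leech Cfsg.Agent.Lib.Compute in
/-- Sign changes form an elementary abelian group. -/
theorem ker_elem (x y : ↥crossGrp) (hx : x ∈ crossHom.ker) (hy : y ∈ crossHom.ker) :
    x * y = y * x ∧ x * x = 1 := by
  have key : ∀ u : ↥crossGrp, u ∈ crossHom.ker → ∃ c : Finset Cfsg.GolayPt, ∀ (v : ↥Cfsg.leechLattice) (q : Cfsg.GolayPt),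
      (((u : ↥Cfsg.Co0) • v : ↥Cfsg.leechLattice) : Cfsg.GolayPt → ℤ) q =
        if q ∈ c then -(v : Cfsg.GolayPt → ℤ) q else (v : Cfsg.GolayPt → ℤ) q := by
    intro u hu
    obtain ⟨c, -, happ⟩ := crossPerm_spec u
    refine ⟨c, fun v q => ?_⟩
    rw [happ, show crossPerm u = 1 from MonoidHom.mem_ker.1 hu]
    simp [Cfsg.signedPerm, Equiv.Perm.one_symm]
  obtain ⟨c, hc⟩ := key x hx
  obtain ⟨d, hd⟩ := key y hy
  refine ⟨Subtype.ext (co0_ext fun v => ?_),
    Subtype.ext (co0_ext fun v => ?_)⟩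
  · rw [Subgroup.coe_mul, Subgroup.coe_mul, mul_smul, mul_smul]
    refine funext fun (q : Cfsg.GolayPt) => ?_
    rw [hc, hd, hd, hc]
    split_ifs <;> rfl
  · rw [Subgroup.coe_mul, mul_smul, Subgroup.coe_one, one_smul]
    refine funext fun (q : Cfsg.GolayPt) => ?_
    rw [hc, hc]
    split_ifs <;> simp

/-- Let G be a finite group of Monster type at the involution z with Q the extraspecial normal subgroup of order 2^25 of C = C_G(z) (so C/Q is identified with the first Conway group with Q modulo its centre the Leech lattice modulo 2, and z is not weakly closed in Q). Let g in G with s = g z g⁻¹ a member of Q other than z, let X be the image in C/Q of the centralizer of s in C, and let E be the image in C/Q of the intersection of g Q g⁻¹ with C. Then E is a normal subgroup of X, elementary abelian of order 2^11, and it has a complement in X isomorphic to the Mathieu group of degree 24 (the automorphism group of the length-24 binary Golay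 code). -/
theorem result {G : Type*} [Group G] [Finite G] (z : G) (Q : Subgroup (Subgroup.centralizer ({z} : Set G))) [Q.Normal] (hM : Cfsg.IsOfMonsterType z Q) (s : G) (hsQ : ∃ hsc : s ∈ Subgroup.centralizer ({z} : Set G), (⟨s, hsc⟩ : Subgroup.centralizer ({z} : Set G)) ∈ Q) (hs : IsConj z s) (hs1 : s ≠ z) (g : G) (hg : g * z * g⁻¹ = s) (X E : Subgroup ((Subgroup.centralizer ({z} : Set G)) ⧸ Q)) (hX : X = ((Subgroup.centralizer ({z} : Set G) ⊓ Subgroup.centralizer ({s} : Set G)).subgroupOf (Subgroup.centralizer ({z} : Set G))).map (QuotientGroup.mk' Q)) (hE : E = (((Q.map (Subgroup.centralizer ({z} : Set G)).subtype).map (MulAut.conj g).toMonoidHom ⊓ Subgroup.centralizer ({z} : Set G)).subgroupOf (Subgroup.centralizer ({z} : Set G))).map (QuotientGroup.mk' Q)) : E ≤ X ∧ (∀ x ∈ X, ∀ y ∈ E, x * y * x⁻¹ ∈ E) ∧ Cfsg.IsElementaryAbelian 2 E ∧ Nat.card E = 2 ^ 11 ∧ ∃ K : Subgroup ((Subgroup.centralizer ({z} : Set G)) ⧸ Q), K ≤ X ∧ E ⊓ K = ⊥ ∧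 E ⊔ K = X ∧ Nonempty (K ≃* Cfsg.M24) := by
  obtain ⟨hs', e, ψ, hψ⟩ := hM
  obtain ⟨hsc, hsq⟩ := hsQ
  obtain ⟨-, φ, hR, hN, hk2, hkle, -⟩ :=
    Cfsg.Agent.Lib.MonsterType.local_structure hs' hψ ⟨_, hsq⟩ g hg hs1
  replace hR : φ.range = X := hR.trans hX.symm
  replace hN : (Cfsg.Agent.Lib.Leech.crossHom).ker.map φ = E := hN.trans hE.symm
  subst hR hN
  refine ⟨Subgroup.map_le_range _ _, ?_, ⟨⟨⟨?_⟩⟩, ?_⟩, ?_, ?_⟩
  · rintro _ ⟨x, rfl⟩ _ ⟨y, hy, rfl⟩
    exact ⟨x * y * x⁻¹, (inferInstance : (Cfsg.Agent.Lib.Leech.crossHom).ker.Normal).conj_mem y hy x, by simp⟩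
  · rintro ⟨_, x, hx, rfl⟩ ⟨_, y, hy, rfl⟩
    apply Subtype.ext
    show φ x * φ y = φ y * φ x
    rw [← map_mul, ← map_mul, (ker_elem x y hx hy).1]
  · rintro _ ⟨x, hx, rfl⟩
    show φ x ^ 2 = 1
    rw [← map_pow, pow_two, (ker_elem x x hx hx).2, map_one]
  · let f := φ.comp (Cfsg.Agent.Lib.Leech.crossHom).ker.subtype
    have h1 := f.ker.card_mul_index
    have hr : f.range = (Cfsg.Agent.Lib.Leech.crossHom).ker.map φ :=
      (MonoidHom.range_comp φ _).trans (congrArg _ (Subgroup.range_subtype _))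
    have hkf : Nat.card f.ker = 2 := by
      rw [← hk2, ← Subgroup.card_map_of_injective (Cfsg.Agent.Lib.Leech.crossHom).ker.subtype_injective]
      congr 1
      have : f.ker.map (Cfsg.Agent.Lib.Leech.crossHom).ker.subtype = φ.ker := by
        rw [show f.ker = φ.ker.comap (Cfsg.Agent.Lib.Leech.crossHom).ker.subtype from (MonoidHom.comap_ker _ _).symm,
          Subgroup.map_comap_eq_self]
        rwa [Subgroup.range_subtype]
      rw [this]
    have hk : Nat.card (Cfsg.Agent.Lib.Leech.crossHom).ker = 4096 := by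
      have e1 := (Cfsg.Agent.Lib.Leech.crossHom).ker.card_mul_index
      rw [Subgroup.index_ker, MonoidHom.range_eq_top.2 Cfsg.Agent.Lib.Leech.crossHom_surjective, Subgroup.card_top,
        Cfsg.Agent.Lib.Compute.card_M24, Cfsg.Agent.Lib.Leech.card_crossGrp] at e1
      exact Nat.eq_of_mul_eq_mul_right (by norm_num) e1
    rw [hkf, Subgroup.index_ker, hk, hr] at h1
    exact Nat.eq_of_mul_eq_mul_left (by norm_num) (h1.trans (by norm_num))
  · let ρ : ↥Cfsg.M24 →* ↥Cfsg.Agent.Lib.Leech.crossGrp :=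
      Cfsg.Agent.Lib.Leech.permHom.codRestrict _ fun π => Cfsg.Agent.Lib.Leech.mem_crossGrp.2 fun i =>
        ⟨_, 8, Or.inl rfl, congrArg Subtype.val (Cfsg.Agent.Lib.Leech.permHom_eightAt π i)⟩
    have hρ : ∀ π, Cfsg.Agent.Lib.Leech.crossHom (ρ π) = π := fun π =>
      Subtype.ext (Equiv.ext fun i => Cfsg.Agent.Lib.Leech.crossPerm_eq _ i _ (by
        show ((Cfsg.Agent.Lib.Leech.permHom π • Cfsg.Agent.Lib.Leech.eightAt i : ↥Cfsg.leechLattice) : Cfsg.GolayPt → ℤ) _ ≠ 0
        rw [Cfsg.Agent.Lib.Leech.permHom_eightAt]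
        simp [Cfsg.Agent.Lib.Leech.eightAt]))
    have hinj : Function.Injective (φ.comp ρ) := by
      rw [injective_iff_map_eq_one]
      intro π hπ
      rw [← hρ π]
      exact MonoidHom.mem_ker.1 (hkle (MonoidHom.mem_ker.2 hπ))
    refine ⟨(φ.comp ρ).range, ?_, ?_, ?_, ⟨(MonoidHom.ofInjective hinj).symm⟩⟩
    · rintro _ ⟨π, rfl⟩
      exact ⟨_, rfl⟩
    · rw [eq_bot_iff]
      rintro _ ⟨⟨x, hx, rfl⟩, π, hπ⟩
      have h1 : x⁻¹ * ρ π ∈ φ.ker := by
        rw [MonoidHom.mem_ker, map_mul, map_inv, inv_mul_eq_one]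
        exact hπ.symm
      have h2 := MonoidHom.mem_ker.1 (hkle h1)
      rw [map_mul, map_inv, hρ, MonoidHom.mem_ker.1 hx, inv_one, one_mul] at h2
      rw [Subgroup.mem_bot, ← hπ, h2, map_one]
    · refine le_antisymm (sup_le (Subgroup.map_le_range _ _) ?_) ?_
      · rintro _ ⟨π, rfl⟩
        exact ⟨_, rfl⟩
      · rintro _ ⟨x, rfl⟩
        have hx : x * (ρ (Cfsg.Agent.Lib.Leech.crossHom x))⁻¹ ∈ (Cfsg.Agent.Lib.Leech.crossHom).ker := by
          rw [MonoidHom.mem_ker, map_mul, map_inv, hρ, mul_inv_cancel]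
        have h := Subgroup.mul_mem_sup (Subgroup.mem_map_of_mem φ hx) (show φ (ρ (Cfsg.Agent.Lib.Leech.crossHom x)) ∈ (φ.comp ρ).range from ⟨_, rfl⟩)
        rwa [← map_mul, inv_mul_cancel_right] at h

end Cfsg.Agent.S5410
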