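import Cfsg.Statements.S5411
import Cfsg.Agent.Lib.MonsterType.Orbits

set_option autoImplicit false
open Cfsg

namespace Cfsg.Agent.S5411

/-- Let G be a finite group of Monster type at the involution z with Q the extraspecial normal subgroup of order 2^25 of C = C_G(z) (so C/Q is identified with the first Conway group with Q modulo its centre the Leech lattice modulo 2, and z is not weakly closed in Q). Then C acts transitively by conjugation on the involutions of Q that are not conjugate to z in G. -/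
theorem result {G : Type*} [Group G] [Finite G] (z : G) (Q : Subgroup (Subgroup.centralizer ({z} : Set G))) [Q.Normal] (hM : Cfsg.IsOfMonsterType z Q) (s t : G) (hsQ : ∃ hsc : s ∈ Subgroup.centralizer ({z} : Set G), (⟨s, hsc⟩ : Subgroup.centralizer ({z} : Set G)) ∈ Q) (htQ : ∃ htc : t ∈ Subgroup.centralizer ({z} : Set G), (⟨t, htc⟩ : Subgroup.centralizer ({z} : Set G)) ∈ Q) (hs2 : orderOf s = 2) (ht2 : orderOf t = 2) (hs : ¬ IsConj z s) (ht : ¬ IsConj z t) : ∃ h ∈ Subgroup.centralizer ({z} : Set G), h * s * h⁻¹ = t := by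
  obtain ⟨hs', e, ψ, hψ⟩ := hM
  obtain ⟨hsc, hsq⟩ := hsQ
  obtain ⟨htc, htq⟩ := htQ
  obtain ⟨v, hv, hvx⟩ := Cfsg.Agent.Lib.MonsterType.class_of_not_conj hs' hψ ⟨_, hsq⟩ hs2 hs
  obtain ⟨w, hw, hwy⟩ := Cfsg.Agent.Lib.MonsterType.class_of_not_conj hs' hψ ⟨_, htq⟩ ht2 ht
  obtain ⟨g, hg⟩ := Cfsg.Agent.Lib.Leech.exists_co0_min v w hv hw
  obtain ⟨h, hh⟩ := Cfsg.Agent.Lib.MonsterType.conj_of_cls hs'.2.2.1 hψ
    (fun h => Cfsg.Agent.Lib.MonsterType.cls_ne_zero (v := w) (by omega) (by omega)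
      ((Cfsg.Agent.Lib.MonsterType.center_iff hs'.2.2.1 hψ hwy).1 h)) g hvx (by rw [hg]; exact hwy)
  exact ⟨h, h.2, congrArg Subtype.val hh⟩

end Cfsg.Agent.S5411
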