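import Cfsg.Statements.S5420
import Cfsg.Agent.Lib.ThreeTransp.Extraspecial
import Cfsg.Agent.Lib.ThreeTransp.Core

set_option autoImplicit false
open Cfsg Cfsg.Agent.Lib.ThreeTransp

namespace Cfsg.Agent.S5420

/-- Let Q be an extraspecial 2-subgroup of the finite group G whose centralizer in G is its centre Z and which is normal in the centralizer of Z. If Z lies in the largest normal 2-subgroup of G, then Q is a large extraspecial 2-subgroup of G: it normalizes no non-trivial subgroup of G of odd order. -/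
theorem result {G : Type*} [Group G] [Finite G] (Q : Subgroup G) (hL1 : Cfsg.IsExtraspecial 2 ↥Q) (hL2 : Subgroup.centralizer (Q : Set G) = ((Subgroup.center ↥Q).map Q.subtype)) (hL3 : Subgroup.centralizer (((Subgroup.center ↥Q).map Q.subtype) : Set G) ≤ Subgroup.normalizer (Q : Set G)) (hZ : ((Subgroup.center ↥Q).map Q.subtype) ≤ Cfsg.pCore 2 G) : Cfsg.IsLargeExtraspecial Q := by
  refine ⟨hL1, hL2, hL3, fun K hKodd hQK => ?_⟩
  set Z := (Subgroup.center ↥Q).map Q.subtype with hZdef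
  have hZQ : Z ≤ Q := Subgroup.map_subtype_le _
  have hO2 : IsPGroup 2 (Cfsg.pCore 2 G) ∧ (Cfsg.pCore 2 G).Normal := isPGroup_pCore_two
  have key : ∀ y, y ∈ K → (∃ j, orderOf y = 2 ^ j) → y = 1 := by
    intro y hy ⟨j, hj⟩
    have h := orderOf_dvd_natCard (⟨y, hy⟩ : K)
    rw [← Subgroup.orderOf_coe] at h
    have := hKodd.of_dvd_nat h
    rw [hj] at this
    rcases j with _ | j
    · rw [← orderOf_eq_one_iff, hj, pow_zero]
    · rw [Nat.odd_pow_iff (by omega), Nat.odd_iff] at this; omega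
  have hKC : K ≤ Subgroup.centralizer (Z : Set G) := by
    intro k hk c hc
    have h1 : c * k * c⁻¹ ∈ K := (Subgroup.mem_normalizer_iff.1 (hQK (hZQ hc)) k).1 hk
    have h2 : c * k * c⁻¹ * k⁻¹ = 1 := by
      refine key _ (K.mul_mem h1 (K.inv_mem hk)) ?_
      have : c * k * c⁻¹ * k⁻¹ ∈ Cfsg.pCore 2 G := by
        rw [show c * k * c⁻¹ * k⁻¹ = c * (k * c⁻¹ * k⁻¹) by group]
        exact (Cfsg.pCore 2 G).mul_mem (hZ hc) (hO2.2.conj_mem _ ((Cfsg.pCore 2 G).inv_mem (hZ hc)) k)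
      obtain ⟨j, hj⟩ := (IsPGroup.iff_orderOf.1 hO2.1) ⟨_, this⟩
      exact ⟨j, by rw [← Subgroup.orderOf_coe] at hj; exact hj⟩
    exact mul_inv_eq_iff_eq_mul.1 (mul_inv_eq_one.1 h2)
  refine (Subgroup.eq_bot_iff_forall K).2 fun k hk => ?_
  have hkQ : k ∈ Subgroup.centralizer (Q : Set G) := by
    intro q hq
    have h1 : q * k * q⁻¹ ∈ K := (Subgroup.mem_normalizer_iff.1 (hQK hq) k).1 hk
    have h2 : k * q⁻¹ * k⁻¹ ∈ Q :=
      (Subgroup.mem_normalizer_iff.1 (hL3 (hKC hk)) q⁻¹).1 (Q.inv_mem hq)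
    have h3 : q * k * q⁻¹ * k⁻¹ = 1 := by
      refine key _ (K.mul_mem h1 (K.inv_mem hk)) ?_
      have : q * k * q⁻¹ * k⁻¹ ∈ Q := by
        rw [show q * k * q⁻¹ * k⁻¹ = q * (k * q⁻¹ * k⁻¹) by group]
        exact Q.mul_mem hq h2
      obtain ⟨j, hj⟩ := (IsPGroup.iff_orderOf.1 hL1.1.1) ⟨_, this⟩
      exact ⟨j, by rw [← Subgroup.orderOf_coe] at hj; exact hj⟩
    exact mul_inv_eq_iff_eq_mul.1 (mul_inv_eq_one.1 h3)
  rw [hL2] at hkQ
  obtain ⟨j, hj⟩ := (IsPGroup.iff_orderOf.1 hL1.1.1) ⟨k, hZQ hkQ⟩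
  rw [← Subgroup.orderOf_coe] at hj
  exact key k hk ⟨j, hj⟩

end Cfsg.Agent.S5420
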