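import Cfsg.Statements.S5421
import Cfsg.Agent.Lib.ThreeTransp.LargeBasic

set_option autoImplicit false
open Cfsg

namespace Cfsg.Agent.S5421

theorem result {G : Type*} [Group G] [Finite G] (Q : Subgroup G) (hL1 : Cfsg.IsExtraspecial 2 ↥Q) (hL2 : Subgroup.centralizer (Q : Set G) = ((Subgroup.center ↥Q).map Q.subtype)) (hL3 : Subgroup.centralizer (((Subgroup.center ↥Q).map Q.subtype) : Set G) ≤ Subgroup.normalizer (Q : Set G)) (b : G) (hbQ : b ∈ Q) (hbZ : b ∉ ((Subgroup.center ↥Q).map Q.subtype)) (hb : orderOf b = 2) (hZ : ((Subgroup.center ↥Q).map Q.subtype) ≤ (Cfsg.pCore 2 ↥(Subgroup.centralizer ({b} : Set G))).map (Subgroup.centralizer ({b} : Set G)).subtype) : Cfsg.IsLargeExtraspecial Q :=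
  Cfsg.Agent.Lib.ThreeTransp.isLarge_of_core hL1 hL2 hL3 hbQ hbZ hb hZ

end Cfsg.Agent.S5421
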