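import Cfsg.Statements.S5423
import Cfsg.Agent.Lib.ThreeTransp.AffineModel
-- import your own Cfsg.Agent.* helpers here

set_option autoImplicit false
open Cfsg
open Cfsg.Agent.Lib.ThreeTransp

namespace Cfsg.Agent.S5423

/-- Let G be a finite group that is the split extension of an elementary abelian normal subgroup U of order 2^(n+1), n ≥ 1, by its full automorphism group: U has a complement M in G whose conjugation action on U is faithful and realizes every automorphism of U. Let Z be a subgroup of U of order 2 and Q the largest normal 2-subgroup of the centralizer C of Z. Then Q is extraspecial of order 2^(2n+1) with an elementary abelian subgroup of order 2^(n+1) (plus type), Q is a large extraspecial 2-subgroup of G, and C is the split extension of Q by the general linear group of degree n over the field with two elements. -/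
theorem result {G : Type*} [Group G] [Finite G] (n : ℕ) (hn : 1 ≤ n) (U M : Subgroup G) [U.Normal] (hU : Cfsg.IsElementaryAbelian 2 U) (hUcard : Nat.card ↥U = 2 ^ (n + 1)) (hUM : U ⊓ M = ⊥) (hUM' : U ⊔ M = ⊤) (hfaith : ∀ m ∈ M, (∀ u ∈ U, m * u * m⁻¹ = u) → m = 1) (hfull : ∀ φ : ↥U ≃* ↥U, ∃ m ∈ M, ∀ u : ↥U, ((φ u : ↥U) : G) = m * u * m⁻¹) (Z : Subgroup G) (hZU : Z ≤ U) (hZ : Nat.card ↥Z = 2) (Q : Subgroup G) (hQ : Q = (Cfsg.pCore 2 ↥(Subgroup.centralizer (Z : Set G))).map (Subgroup.centralizer (Z : Set G)).subtype) : Cfsg.IsExtraspecial 2 ↥Q ∧ Nat.card ↥Q = 2 ^ (2 * n + 1) ∧ (∃ E : Subgroup G, E ≤ Q ∧ Cfsg.IsElementaryAbelian 2 E ∧ Nat.card ↥E = 2 ^ (n + 1)) ∧ Cfsg.IsLargeExtraspecial Q ∧ ∃ K : Subgroup G, K ≤ Subgroup.centralizer (Z : Set G) ∧ Q ⊓ K = ⊥ ∧ Q ⊔ K = Subgroup.centralizer (Z : Set G) ∧ Nonempty (↥K ≃* Matrix.GeneralLinearGroup (Fin n) (ZMod 2)) := by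
  obtain ⟨⟨z, hzZ⟩, hne, huniqz⟩ := (Nat.card_eq_two_iff' (1 : Z)).1 hZ
  have hz1 : z ≠ 1 := fun h => hne (Subtype.ext h)
  have hZeq : Z = Subgroup.zpowers z := by
    refine le_antisymm (fun x hx => ?_) (Subgroup.zpowers_le.2 hzZ)
    by_cases h : (⟨x, hx⟩ : Z) = 1
    · rw [show x = 1 from congrArg Subtype.val h]; exact one_mem _
    · rw [show x = z from congrArg Subtype.val (huniqz _ h)]; exact Subgroup.mem_zpowers z
  obtain ⟨φ, hinj, rfl, hr, hCU, hUle⟩ :=
    Par.affine_embed hn U M hU hUcard hUM hUM' hfaith hfull z (hZU hzZ) hz1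
  have hcen : Subgroup.centralizer (Z : Set G) = Subgroup.centralizer ({φ Par.zP} : Set G) := by
    rw [hZeq, Subgroup.zpowers_eq_closure, Subgroup.centralizer_closure]
  rw [hcen] at hQ ⊢
  obtain ⟨hQ', hE, hc, hA, -, h2, h3, hK⟩ := Par.package hn φ hinj hr Q hQ
  refine ⟨hE, hc, hA, ⟨hE, h2, h3, fun K hKodd hQK => ?_⟩, hK⟩
  have hUQ : U ≤ Q := fun u hu => by
    obtain ⟨p, hp, rfl⟩ := hUle u hu
    exact hQ' ▸ ⟨p, hp, rfl⟩
  rw [eq_bot_iff]
  intro k hk
  have hkC : k ∈ Subgroup.centralizer (U : Set G) := fun u hu => by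
    have h1 : u * k * u⁻¹ * k⁻¹ ∈ K :=
      K.mul_mem ((Subgroup.mem_normalizer_iff.1 (hQK (hUQ hu)) k).1 hk) (K.inv_mem hk)
    have h2 : u * k * u⁻¹ * k⁻¹ ∈ U := by
      rw [show u * k * u⁻¹ * k⁻¹ = u * (k * u⁻¹ * k⁻¹) by group]
      exact U.mul_mem hu (‹U.Normal›.conj_mem _ (U.inv_mem hu) k)
    have h3 := eq_one_of_pow_two_pow hKodd h1 (n := 1) (by rw [pow_one]; exact hU.2 _ h2)
    exact mul_inv_eq_iff_eq_mul.1 (mul_inv_eq_one.1 h3)
  exact eq_one_of_pow_two_pow hKodd hk (n := 1) (by rw [pow_one]; exact hU.2 _ (hCU hkC))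

end Cfsg.Agent.S5423
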