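import Cfsg.Statements.S5427
import Cfsg.Agent.Lib.ThreeTransp.LargeSimple
import Cfsg.Agent.S5421
-- import your own Cfsg.Agent.* helpers here

set_option autoImplicit false
open Cfsg

namespace Cfsg.Agent.S5427

open Cfsg.Agent.Lib.ThreeTransp

/-- Let z be an involution of the finite group G whose centralizer C has generalized Fitting subgroup Q, an extraspecial 2-group of width at least 2 (order 2^(2w+1), w ≥ 2). Let K be a subgroup of G such that the subgroup U generated by the K-conjugates of z is abelian and C is generated by the C-conjugates of U. Suppose that either some K-conjugate of z other than z lies in Q, or some element u of U ∩ Q outside the subgroup generated by z has z in the largest normal 2-subgroup of its centralizer. Then G is simple and Q is a large extraspecial 2-subgroup of G. -/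
theorem result {G : Type*} [Group G] [Finite G] (z : G) (hz : orderOf z = 2) (Q : Subgroup G) (hQC : Q ≤ Subgroup.centralizer ({z} : Set G)) (hF : (Cfsg.generalizedFittingSubgroup ↥(Subgroup.centralizer ({z} : Set G))).map (Subgroup.centralizer ({z} : Set G)).subtype = Q) (hQ : Cfsg.IsExtraspecial 2 ↥Q) (w : ℕ) (hw : 2 ≤ w) (hcard : Nat.card ↥Q = 2 ^ (2 * w + 1)) (K U : Subgroup G) (hU : U = Subgroup.closure {x : G | ∃ k ∈ K, x = k * z * k⁻¹}) (hUab : IsMulCommutative ↥U) (hgen : Subgroup.closure {x : G | ∃ c ∈ Subgroup.centralizer ({z} : Set G), ∃ u ∈ U, x = c * u * c⁻¹} = Subgroup.centralizer ({z} : Set G)) (h3 : (∃ k ∈ K, k * z * k⁻¹ ∈ Q ∧ k * z * k⁻¹ ≠ z) ∨ ∃ u ∈ U ⊓ Q, u ∉ Subgroup.zpowers z ∧ (∃ hz' : z ∈ Subgroup.centralizer ({u} : Set G), (⟨z, hz'⟩ : ↥(Subgroup.centralizer ({u} : Set G))) ∈ Cfsg.pCore 2 ↥(Subgroup.centralizer ({u} : Set G)))) : IsSimpleGroup G ∧ Cfsg.IsLargeExtraspecial Q := by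
  classical
  obtain ⟨hzQ, hZ, hCQ, hN⟩ := fstar_center_data hz hQC hF hQ
  have hzq : ∀ q ∈ Q, z * q = q * z := fun q hq =>
    (Subgroup.mem_centralizer_singleton_iff.1 (hQC hq)).symm
  have hzz : z * z = 1 := by rw [← pow_two]; have := pow_orderOf_eq_one z; rwa [hz] at this
  have hU2 : ∀ x ∈ U, x * x = 1 := by
    intro x hx
    rw [hU] at hx
    induction hx using Subgroup.closure_induction with
    | mem u hu =>
      obtain ⟨k, -, rfl⟩ := hu
      calc k * z * k⁻¹ * (k * z * k⁻¹) = k * (z * z) * k⁻¹ := by group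
        _ = 1 := by rw [hzz]; group
    | one => simp
    | mul a b ha hb haa hbb =>
      have hab : a * b = b * a := congrArg Subtype.val
        (hUab.is_comm.comm (⟨a, hU ▸ ha⟩ : U) ⟨b, hU ▸ hb⟩)
      calc a * b * (a * b) = a * (b * a) * b := by group
        _ = (a * a) * (b * b) := by rw [← hab]; group
        _ = 1 := by rw [haa, hbb, one_mul]
    | inv a _ ha => rw [← mul_inv_rev, ha, inv_one]
  have hlarge : Cfsg.IsLargeExtraspecial Q := by
    rcases h3 with ⟨k, -, hk, hkne⟩ | ⟨u, hu, huz, hz', hzu⟩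
    · exact large_of_fstar hz hQC hF hQ w hw hcard hk hkne
    · refine Cfsg.Agent.S5421.result Q hQ (by rw [hCQ, hZ]) ?_ u hu.2 (by rw [hZ]; exact huz) ?_ ?_
      · rw [hZ, Subgroup.zpowers_eq_closure, Subgroup.centralizer_closure]; exact hN
      · exact orderOf_eq_prime (by rw [pow_two]; exact hU2 u hu.1)
          (fun e => huz (e ▸ one_mem _))
      · rw [hZ, Subgroup.zpowers_le]
        exact ⟨⟨z, hz'⟩, hzu, rfl⟩
  refine ⟨simple_of_large hz hlarge hZ fun N hNn hzN => ?_, hlarge⟩
  rw [← hgen, Subgroup.closure_le]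
  rintro _ ⟨c, -, u, hu, rfl⟩
  refine hNn.conj_mem u ?_ c
  rw [hU] at hu
  refine (Subgroup.closure_le N).2 ?_ hu
  rintro _ ⟨k, -, rfl⟩
  exact hNn.conj_mem z hzN k

end Cfsg.Agent.S5427
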