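import Cfsg.Statements.S5428
import Cfsg.Agent.Lib.ThreeTransp.LargeQuot
import Cfsg.Agent.Lib.ThreeTransp.LargeSimple
-- import your own Cfsg.Agent.* helpers here

set_option autoImplicit false
open Cfsg

namespace Cfsg.Agent.S5428

open Cfsg.Agent.Lib.ThreeTransp

/-- Let z be an involution of the finite group G whose centralizer C has generalized Fitting subgroup Q extraspecial (as a 2-group), let A be a subgroup of C of odd order, and let R be the centralizer of A in Q; suppose R has order at least 32, the largest normal subgroup of odd order of the centralizer of the subgroup generated by A and R lies in A, the order of that centralizer is not divisible by 4, and g is an element of G with g z g⁻¹ in R but outside the centre Z of Q. Let M be the subgroup generated by A and the centralizer of A (A is normal in it). Then: the centralizer in M of the subgroup generated by R and A, joined with A, equals the subgroup generated by A and Z; the image of R in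 M/A is a large extraspecial 2-subgroup of M/A; and g z g⁻¹ is conjugate to z inside the subgroup generated by R and the centralizer of A in g Q g⁻¹. -/
theorem result {G : Type*} [Group G] [Finite G] (z : G) (hz : orderOf z = 2) (Q : Subgroup G) (hQC : Q ≤ Subgroup.centralizer ({z} : Set G)) (hF : (Cfsg.generalizedFittingSubgroup ↥(Subgroup.centralizer ({z} : Set G))).map (Subgroup.centralizer ({z} : Set G)).subtype = Q) (hQ : Cfsg.IsExtraspecial 2 ↥Q) (A : Subgroup G) (hA : A ≤ Subgroup.centralizer ({z} : Set G)) (hAodd : Odd (Nat.card ↥A)) (R : Subgroup G) (hR : R = Q ⊓ Subgroup.centralizer (A : Set G)) (hR32 : 32 ≤ Nat.card ↥R) (hO : (Cfsg.oddCore ↥(Subgroup.centralizer ((A ⊔ R : Subgroup G) : Set G))).map (Subgroup.centralizer ((A ⊔ R : Subgroup G) : Set G)).subtype ≤ A) (h4 : ¬ 4 ∣ Nat.card ↥(Subgroup.centralizer ((A ⊔ R : Subgroup G) : Set G))) (g : G) (hgR : g * z * g⁻¹ ∈ R) (hgZ : g * z * g⁻¹ ∉ ((Subgroup.center ↥Q).map Q.subtype)) (M : Subgroup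 G) (hM : M = Subgroup.centralizer (A : Set G) ⊔ A) [hn : (A.subgroupOf M).Normal] : (M ⊓ Subgroup.centralizer ((R ⊔ A : Subgroup G) : Set G)) ⊔ A = A ⊔ ((Subgroup.center ↥Q).map Q.subtype) ∧ Cfsg.IsLargeExtraspecial ((R.subgroupOf M).map (QuotientGroup.mk' (A.subgroupOf M))) ∧ ∃ x ∈ R ⊔ ((Q).map (MulAut.conj g).toMonoidHom ⊓ Subgroup.centralizer (A : Set G)), x * (g * z * g⁻¹) * x⁻¹ = z := by
  classical
  obtain ⟨hzQ, hZ, hCQ, hN⟩ := fstar_center_data hz hQC hF hQ
  have hzq : ∀ q ∈ Q, z * q = q * z := fun q hq =>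
    (Subgroup.mem_centralizer_singleton_iff.1 (hQC hq)).symm
  have hD := Cfsg.Agent.Lib.Classification.TwoExtraData.of_isExtraspecial hQ hzQ hz hzq
  have hA' := extraAt_of_data hD
  have hpQ : IsPGroup 2 ↥Q := hQ.1.1
  have hRQ : R ≤ Q := hR ▸ inf_le_left
  have h8 : 8 < Nat.card ↥Q := by
    have := Subgroup.card_le_card_group (R.subgroupOf Q)
    rw [Nat.card_congr (Subgroup.subgroupOfEquivOfLe hRQ).toEquiv] at this
    omega
  set x := g * z * g⁻¹ with hxdef
  obtain ⟨hX, hcB, hzB⟩ := wide_symm hD hCQ hN h8 (hRQ hgR)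
  rw [← hxdef] at hX hcB
  set B := Q.map (MulAut.conj g).toMonoidHom with hB
  have hpB : IsPGroup 2 ↥B := hpQ.map _
  rw [hZ] at hgZ ⊢
  have hxz : x ≠ z := fun e => hgZ (e ▸ Subgroup.mem_zpowers z)
  have hzA : ∀ a ∈ A, a * z = z * a := fun a ha => Subgroup.mem_centralizer_singleton_iff.1 (hA ha)
  have hzR : z ∈ R := by rw [hR]; exact ⟨hzQ, fun a ha => hzA a ha⟩
  have hRA : ∀ r ∈ R, ∀ a ∈ A, a * r = r * a := by
    intro r hr a ha; rw [hR] at hr; exact hr.2 a ha
  have hCAM : Subgroup.centralizer (A : Set G) ≤ M := hM ▸ le_sup_left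
  have hAM : A ≤ M := hM ▸ le_sup_right
  have hRM : R ≤ M := fun r hr => hCAM (fun a ha => hRA r hr a ha)
  -- commutation modulo `A`
  have hKC : ∀ c ∈ Subgroup.centralizer (A : Set G), ∀ r ∈ R, c * r * c⁻¹ * r⁻¹ ∈ A →
      c * r = r * c := by
    intro c _ r hr hd
    set d := c * r * c⁻¹ * r⁻¹ with hdd
    obtain ⟨n, hn⟩ := hpQ ⟨r, hRQ hr⟩
    have hn' : r ^ 2 ^ n = 1 := congrArg Subtype.val hn
    have h1 : (d * r) ^ 2 ^ n = 1 := by
      rw [show d * r = c * r * c⁻¹ by rw [hdd]; group, conj_pow, hn', mul_one, mul_inv_cancel]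
    rw [(show Commute d r from hRA r hr d hd).mul_pow, hn', mul_one] at h1
    exact mul_inv_eq_iff_eq_mul.1 (mul_inv_eq_one.1 (eq_one_of_pow_two_pow hAodd hd h1))
  -- the centralizer of `A` and `R`
  have hCR : ∀ c ∈ Subgroup.centralizer ((A ⊔ R : Subgroup G) : Set G),
      c ∈ A ∨ ∃ a ∈ A, c = a * z := by
    set W := Subgroup.centralizer ((A ⊔ R : Subgroup G) : Set G) with hW
    have hzW : z ∈ W := by
      rw [hW, ← Subgroup.le_centralizer_iff.symm.trans Subgroup.zpowers_le]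
      exact sup_le (fun a ha => fun v hv => by
          obtain ⟨k, rfl⟩ := hv; exact ((Commute.zpow_right (hzA a ha) k).symm).eq)
        (fun r hr => fun v hv => by
          obtain ⟨k, rfl⟩ := hv; exact (Commute.zpow_left (hzq r (hRQ hr)) k).eq)
    let zw : W := ⟨z, hzW⟩
    have hzw : orderOf zw = 2 := by rw [Subgroup.orderOf_mk]; exact hz
    have hzc : ∀ c : W, c * zw = zw * c := fun c => Subtype.ext
      ((c.2 z (Subgroup.mem_sup_right hzR)).symm)
    haveI hNn : (Subgroup.zpowers zw).Normal := ⟨fun v hv c => by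
      obtain ⟨k, rfl⟩ := hv
      rw [(Commute.zpow_right (hzc c) k).eq, mul_inv_cancel_right]
      exact ⟨k, rfl⟩⟩
    have hcard2 : Nat.card (Subgroup.zpowers zw) = 2 := by rw [Nat.card_zpowers, hzw]
    have hmul := (Subgroup.zpowers zw).card_mul_index
    rw [hcard2] at hmul
    have hcop : (Nat.card (Subgroup.zpowers zw)).Coprime (Subgroup.zpowers zw).index := by
      rw [hcard2]
      refine (Nat.prime_two.coprime_iff_not_dvd).2 fun h2 => h4 ?_
      rw [← hmul]
      exact (show 4 = 2 * 2 by norm_num) ▸ Nat.mul_dvd_mul_left 2 h2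
    obtain ⟨K, hK⟩ := Subgroup.exists_right_complement'_of_coprime hcop
    have hdec : ∀ c : W, ∃ k ∈ K, c = k ∨ c = k * zw := by
      intro c
      obtain ⟨⟨⟨v, hv⟩, ⟨k, hk⟩⟩, hvk⟩ := hK.2 c
      refine ⟨k, hk, ?_⟩
      obtain ⟨i, rfl⟩ := hv
      rcases Int.even_or_odd i with ⟨j, rfl⟩ | ⟨j, rfl⟩
      · left
        rw [← hvk]
        simp [← two_mul, zpow_mul, zpow_ofNat, (show zw ^ 2 = 1 by rw [← hzw, pow_orderOf_eq_one])]
      · right
        rw [← hvk, hzc k]
        simp [zpow_add, zpow_mul, zpow_ofNat, (show zw ^ 2 = 1 by rw [← hzw, pow_orderOf_eq_one])]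
    have hKn : K.Normal := by
      refine ⟨fun k hk c => ?_⟩
      obtain ⟨l, hl, rfl | rfl⟩ := hdec c
      · exact K.mul_mem (K.mul_mem hl hk) (K.inv_mem hl)
      · rw [show l * zw * k * (l * zw)⁻¹ = l * (zw * k * zw⁻¹) * l⁻¹ by group, ← hzc k,
          mul_inv_cancel_right]
        exact K.mul_mem (K.mul_mem hl hk) (K.inv_mem hl)
    have hKc : (Nat.card K).Coprime 2 := by
      rw [← hK.symm.index_eq_card]
      rw [hcard2] at hcop
      exact hcop.symm
    have hKA : ∀ k ∈ K, (k : G) ∈ A := fun k hk =>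
      hO ⟨k, (le_sSup ⟨hKn, hKc⟩ : K ≤ Cfsg.pPrimeCore 2 ↥W) hk, rfl⟩
    intro c hc
    obtain ⟨k, hk, e | e⟩ := hdec ⟨c, hc⟩
    · left; rw [show c = (k : G) from congrArg Subtype.val e]; exact hKA k hk
    · exact Or.inr ⟨k, hKA k hk, congrArg Subtype.val e⟩
  have hzCR : z ∈ Subgroup.centralizer ((R ⊔ A : Subgroup G) : Set G) := by
    intro v hv
    refine (show v ∈ Subgroup.centralizer ({z} : Set G) → v * z = z * v from
      fun h => Subgroup.mem_centralizer_singleton_iff.1 h) ?_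
    exact (sup_le (hRQ.trans hQC) hA) hv
  refine ⟨?_, ?_, ?_⟩
  · apply le_antisymm
    · refine sup_le (fun c hc => ?_) le_sup_left
      rcases hCR c (sup_comm A R ▸ hc.2) with h | ⟨a, ha, rfl⟩
      · exact Subgroup.mem_sup_left h
      · exact Subgroup.mul_mem _ (Subgroup.mem_sup_left ha)
          (Subgroup.mem_sup_right (Subgroup.mem_zpowers z))
    · exact sup_le le_sup_right (Subgroup.zpowers_le.2
        (Subgroup.mem_sup_left ⟨hRM hzR, hzCR⟩))
  · set π := QuotientGroup.mk' (A.subgroupOf M) with hπ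
    have hπ1 : ∀ m : M, π m = 1 ↔ (m : G) ∈ A := fun m => by
      rw [hπ, QuotientGroup.mk'_apply, QuotientGroup.eq_one_iff, Subgroup.mem_subgroupOf]
    have hcomm : ∀ c r : M, (c : G) ∈ Subgroup.centralizer (A : Set G) → (r : G) ∈ R →
        π c * π r = π r * π c → (c : G) * r = r * c := by
      intro c r hc hr h
      refine hKC c hc r hr ((hπ1 (c * r * c⁻¹ * r⁻¹)).1 ?_)
      rw [map_mul, map_mul, map_mul, map_inv, map_inv, h]
      group
    have hrep : ∀ m : M, ∃ c : M, (c : G) ∈ Subgroup.centralizer (A : Set G) ∧ π c = π m := by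
      intro m
      have hnA : Subgroup.centralizer (A : Set G) ≤ Subgroup.normalizer (A : Set G) :=
        Subgroup.centralizer_le_normalizer _
      obtain ⟨a, ha, c, hc, e⟩ := Cfsg.Agent.Lib.Coprime.exists_mul_of_mem_sup hnA
        (show (m : G) ∈ A ⊔ Subgroup.centralizer (A : Set G) by rw [sup_comm, ← hM]; exact m.2)
      refine ⟨⟨c, hCAM hc⟩, hc, ?_⟩
      rw [show m = ⟨a, hAM ha⟩ * ⟨c, hCAM hc⟩ from Subtype.ext e, map_mul,
        (hπ1 ⟨a, hAM ha⟩).2 ha, one_mul]
    have hne : ∀ r : G, ∀ hr : r ∈ R, r ≠ 1 → π ⟨r, hRM hr⟩ ≠ 1 := by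
      intro r hr hr1 h
      obtain ⟨n, hn⟩ := hpQ ⟨r, hRQ hr⟩
      exact hr1 (eq_one_of_pow_two_pow hAodd ((hπ1 _).1 h) (congrArg Subtype.val hn))
    refine large_image hD hpQ π (QuotientGroup.mk'_surjective _) hRQ hRM hzR hgR hX.sq
      (hne z hzR hD.ne) (hne x hgR hX.ne_one) ?_ ?_ ?_ (B ⊓ Subgroup.centralizer (A : Set G))
      (inf_le_right.trans hCAM) (hpB.to_le inf_le_left) ⟨hzB, fun a ha => hzA a ha⟩
      (fun b hb => (hX.central b hb.1).symm) ?_
    · intro h
      have hd : π (⟨x, hRM hgR⟩ * ⟨z, hRM hzR⟩⁻¹) = 1 := by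
        rw [map_mul, map_inv, h, mul_inv_cancel]
      have hd' : π ⟨x * z⁻¹, hRM (R.mul_mem hgR (R.inv_mem hzR))⟩ = 1 := hd
      exact hne (x * z⁻¹) (R.mul_mem hgR (R.inv_mem hzR)) (fun e => hxz (mul_inv_eq_one.1 e)) hd'
    · intro m hm
      obtain ⟨c, hc, hcm⟩ := hrep m
      have hcW : (c : G) ∈ Subgroup.centralizer ((A ⊔ R : Subgroup G) : Set G) := by
        intro v hv
        have hle : A ⊔ R ≤ Subgroup.centralizer ({(c : G)} : Set G) := sup_le
          (fun a ha => Subgroup.mem_centralizer_singleton_iff.2 (hc a ha))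
          (fun r hr => Subgroup.mem_centralizer_singleton_iff.2
            (hcomm c ⟨r, hRM hr⟩ hc hr (by rw [hcm]; exact hm _ hr)).symm)
        exact Subgroup.mem_centralizer_singleton_iff.1 (hle hv)
      rw [← hcm]
      rcases hCR c hcW with h | ⟨a, ha, e⟩
      · exact Or.inl ((hπ1 c).2 h)
      · right
        rw [show c = ⟨a, hAM ha⟩ * ⟨z, hRM hzR⟩ from Subtype.ext e, map_mul,
        (hπ1 ⟨a, hAM ha⟩).2 ha, one_mul]
    · intro m hm q hq
      obtain ⟨c, hc, hcm⟩ := hrep m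
      have hcz := hcomm c ⟨z, hRM hzR⟩ hc hzR (by rw [hcm]; exact hm)
      have hqA : (q : G) ∈ Subgroup.centralizer (A : Set G) := fun a ha => hRA q hq a ha
      refine ⟨c * q * c⁻¹, ?_, by rw [map_mul, map_mul, map_mul, map_mul, map_inv, map_inv, hcm]⟩
      rw [hR]
      exact ⟨(Subgroup.mem_normalizer_iff.1 (hN (Subgroup.mem_centralizer_singleton_iff.2 hcz)) _).1
          (hRQ hq), Subgroup.mul_mem _ (Subgroup.mul_mem _ hc hqA) (Subgroup.inv_mem _ hc)⟩
    · intro m hm b hb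
      obtain ⟨c, hc, hcm⟩ := hrep m
      have hcx := hcomm c ⟨x, hRM hgR⟩ hc hgR (by rw [hcm]; exact hm)
      exact ⟨c * b * c⁻¹, ⟨hcB hcx hb.1,
        Subgroup.mul_mem _ (Subgroup.mul_mem _ hc hb.2) (Subgroup.inv_mem _ hc)⟩,
        by rw [map_mul, map_mul, map_mul, map_mul, map_inv, map_inv, hcm]⟩
  · have hAQ : A ≤ Subgroup.normalizer (Q : Set G) := hA.trans hN
    have hxA : ∀ a ∈ A, a * x = x * a := fun a ha => hRA x hgR a ha
    have hAB : A ≤ Subgroup.normalizer (B : Set G) := fun a ha =>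
      Subgroup.mem_normalizer_iff.2 fun v => ⟨hcB (hxA a ha), fun hv => by
        simpa [mul_assoc] using hcB (hxA a⁻¹ (A.inv_mem ha)) hv⟩
    obtain ⟨q, hq, hqA, hqx⟩ := exists_fixed_noncomm hA' hpQ hAodd hAQ hzA hxA (hRQ hgR)
      hX.ne_one hxz
    obtain ⟨t, ht, htA, htz⟩ := exists_fixed_noncomm hX hpB hAodd hAB hxA hzA hzB hD.ne hxz.symm
    refine ⟨(q * t)⁻¹, Subgroup.inv_mem _ (Subgroup.mul_mem _ (Subgroup.mem_sup_left ?_)
      (Subgroup.mem_sup_right ⟨ht, htA⟩)), ?_⟩
    · rw [hR]; exact ⟨hq, hqA⟩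
    · exact conj_eq_of_swap hD.sq hX.sq (hzq x (hRQ hgR)) hqx (hzq q hq).symm htz
        (hX.central t ht).symm

end Cfsg.Agent.S5428
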