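import Cfsg.Statements.S5429
import Cfsg.Agent.Lib.ThreeTransp.LargeQuot
import Cfsg.Agent.Lib.ThreeTransp.LargeSimple
-- import your own Cfsg.Agent.* helpers here

set_option autoImplicit false
open Cfsg

namespace Cfsg.Agent.S5429

open Cfsg.Agent.Lib.ThreeTransp

/-- Let z be an involution of the finite group G with centralizer C whose generalized Fitting subgroup Q is extraspecial of width at least 3 (order 2^(2w+1), w ≥ 3); let g be an element of G with g z g⁻¹ in Q but outside the centre Z of Q, and t an involution lying in both Q and g Q g⁻¹ that is not conjugate to z; write P for the centralizer of t in Q and suppose that the elements of C acting trivially by conjugation on P modulo the subgroup generated by t and z are exactly the elements of Q. Then the image of P in the centralizer of t modulo the subgroup generated by t is a large extraspecial 2-subgroup there, and g z g⁻¹ is conjugate to z inside the subgroup generated by P and the centralizer of t in g Q g⁻¹. -/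
theorem result {G : Type*} [Group G] [Finite G] (z : G) (hz : orderOf z = 2) (Q : Subgroup G) (hQC : Q ≤ Subgroup.centralizer ({z} : Set G)) (hF : (Cfsg.generalizedFittingSubgroup ↥(Subgroup.centralizer ({z} : Set G))).map (Subgroup.centralizer ({z} : Set G)).subtype = Q) (hQ : Cfsg.IsExtraspecial 2 ↥Q) (w : ℕ) (hw : 3 ≤ w) (hcard : Nat.card ↥Q = 2 ^ (2 * w + 1)) (g : G) (hgQ : g * z * g⁻¹ ∈ Q) (hgZ : g * z * g⁻¹ ∉ ((Subgroup.center ↥Q).map Q.subtype)) (t : G) (ht : orderOf t = 2) (htQ : t ∈ Q ⊓ (Q).map (MulAut.conj g).toMonoidHom) (htz : ¬ IsConj z t) (P : Subgroup G) (hP : P = Q ⊓ Subgroup.centralizer ({t} : Set G)) (hCP : ∀ c ∈ Subgroup.centralizer ({z} : Set G), (∀ x ∈ P, ∃ y ∈ Subgroup.closure ({t, z} : Set G), c * x * c⁻¹ = x * y) ↔ c ∈ Q) [hn : ((Subgroup.zpowers t).subgroupOf (Subgroup.centralizer ({t} : Set G))).Normal] : Cfsg.IsLargeExtraspecial ((P.subgroupOf (Subgroup.centralizer ({t} : Set G))).map (QuotientGroup.mk' ((Subgroup.zpowers t).subgroupOf (Subgroup.centralizer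 ({t} : Set G))))) ∧ ∃ x ∈ P ⊔ ((Q).map (MulAut.conj g).toMonoidHom ⊓ Subgroup.centralizer ({t} : Set G)), x * (g * z * g⁻¹) * x⁻¹ = z := by
  classical
  obtain ⟨hzQ, hZ, hCQ, hN⟩ := fstar_center_data hz hQC hF hQ
  have hzq : ∀ q ∈ Q, z * q = q * z := fun q hq =>
    (Subgroup.mem_centralizer_singleton_iff.1 (hQC hq)).symm
  have hD := Cfsg.Agent.Lib.Classification.TwoExtraData.of_isExtraspecial hQ hzQ hz hzq
  have hA' := extraAt_of_data hD
  have hpQ : IsPGroup 2 ↥Q := hQ.1.1
  have h8 : 8 < Nat.card ↥Q := by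
    rw [hcard]; exact lt_of_lt_of_le (by norm_num) (Nat.pow_le_pow_right (by norm_num : 0 < 2)
      (by omega : 5 ≤ 2 * w + 1))
  set x := g * z * g⁻¹ with hxdef
  obtain ⟨hX, hcB, hzB⟩ := wide_symm hD hCQ hN h8 hgQ
  rw [← hxdef] at hX hcB
  set B := Q.map (MulAut.conj g).toMonoidHom with hB
  have hpB : IsPGroup 2 ↥B := hpQ.map _
  rw [hZ] at hgZ
  have hxz : x ≠ z := fun e => hgZ (e ▸ Subgroup.mem_zpowers z)
  obtain ⟨htQ', htB⟩ := htQ
  have htt : t * t = 1 := by rw [← pow_two]; have := pow_orderOf_eq_one t; rwa [ht] at this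
  have ht1 : t ≠ 1 := fun e => by rw [e, orderOf_one] at ht; exact absurd ht (by norm_num)
  have hzx' : IsConj z x := isConj_iff.2 ⟨g, rfl⟩
  have ht_z : t ≠ z := fun e => htz (by rw [e])
  have ht_x : t ≠ x := fun e => htz (e ▸ hzx')
  obtain ⟨q0, hq0, hq0t⟩ : ∃ q ∈ Q, q * t * q⁻¹ = t * z := by
    by_contra hne
    push Not at hne
    rcases hA'.center t htQ' (fun b hb => (mul_inv_eq_iff_eq_mul.1
      ((hA'.comm b hb t htQ').resolve_right (hne b hb))).symm) with e | e
    exacts [ht1 e, ht_z e]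
  obtain ⟨b0, hb0, hb0t⟩ : ∃ q ∈ B, q * t * q⁻¹ = t * x := by
    by_contra hne
    push Not at hne
    rcases hX.center t htB (fun b hb => (mul_inv_eq_iff_eq_mul.1
      ((hX.comm b hb t htB).resolve_right (hne b hb))).symm) with e | e
    exacts [ht1 e, ht_x e]
  have hztz : ¬ IsConj z (t * z) := fun h => htz (h.trans (isConj_iff.2 ⟨q0, hq0t⟩).symm)
  have hztx : ¬ IsConj z (t * x) := fun h => htz (h.trans (isConj_iff.2 ⟨b0, hb0t⟩).symm)
  have htzc : t * z = z * t := (hzq t htQ').symm
  have htxc : t * x = x * t := (hX.central t htB).symm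
  set Ct := Subgroup.centralizer ({t} : Set G) with hCt
  have hPQ : P ≤ Q := hP ▸ inf_le_left
  have hPC : P ≤ Ct := hP ▸ inf_le_right
  have hzP : z ∈ P := by rw [hP]; exact ⟨hzQ, Subgroup.mem_centralizer_singleton_iff.2 htzc.symm⟩
  have hxP : x ∈ P := by rw [hP]; exact ⟨hgQ, Subgroup.mem_centralizer_singleton_iff.2 htxc.symm⟩
  have htP : t ∈ P := by rw [hP]; exact ⟨htQ', Subgroup.mem_centralizer_singleton_iff.2 rfl⟩
  have htzp : ∀ v, v ∈ Subgroup.zpowers t → v = 1 ∨ v = t := by
    rintro v ⟨i, rfl⟩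
    rcases Int.even_or_odd i with ⟨j, rfl⟩ | ⟨j, rfl⟩
    · left; simp [← two_mul, zpow_mul, zpow_ofNat, pow_two, htt]
    · right; simp [zpow_add, zpow_mul, zpow_ofNat, pow_two, htt]
  refine ⟨?_, ?_⟩
  · set π := QuotientGroup.mk' ((Subgroup.zpowers t).subgroupOf Ct) with hπ
    have hπ1 : ∀ m : Ct, π m = 1 ↔ ((m : G) = 1 ∨ (m : G) = t) := fun m => by
      rw [hπ, QuotientGroup.mk'_apply, QuotientGroup.eq_one_iff, Subgroup.mem_subgroupOf]
      exact ⟨htzp _, fun h => h.elim (fun e => e ▸ one_mem _) (fun e => e ▸ Subgroup.mem_zpowers t)⟩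
    have hcomm : ∀ a b : Ct, π a * π b = π b * π a →
        (a : G) * b * (a : G)⁻¹ = b ∨ (a : G) * b * (a : G)⁻¹ = t * b := by
      intro a b h
      rcases (hπ1 (a * b * a⁻¹ * b⁻¹)).1 (by
        rw [map_mul, map_mul, map_mul, map_inv, map_inv, h]; group) with e | e
      · exact Or.inl (mul_inv_eq_one.1 e)
      · exact Or.inr (mul_inv_eq_iff_eq_mul.1 e)
    have hfix : ∀ (a : Ct) (y : G) (hy : y ∈ Ct), IsConj z y → ¬ IsConj z (t * y) →
        π a * π ⟨y, hy⟩ = π ⟨y, hy⟩ * π a → (a : G) * y = y * a := by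
      intro a y hy h1 h2 h
      rcases hcomm a ⟨y, hy⟩ h with e | e
      · exact mul_inv_eq_iff_eq_mul.1 e
      · exact absurd (h1.trans (isConj_iff.2 ⟨(a : G), e⟩)) h2
    refine large_image hD hpQ π (QuotientGroup.mk'_surjective _) hPQ hPC hzP hxP hX.sq
      (fun h => ((hπ1 _).1 h).elim hD.ne ht_z.symm) (fun h => ((hπ1 _).1 h).elim hX.ne_one ht_x.symm)
      ?_ ?_ ?_ (B ⊓ Ct) inf_le_right (hpB.to_le inf_le_left) ⟨hzB, hPC hzP⟩
      (fun b hb => (hX.central b hb.1).symm) ?_
    · intro h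
      have h' := (hπ1 (⟨x, hPC hxP⟩ * ⟨z, hPC hzP⟩⁻¹)).1 (by rw [map_mul, map_inv, h, mul_inv_cancel])
      rcases h' with e | e
      · exact hxz (mul_inv_eq_one.1 e)
      · exact hztz (by
          rw [← show x = t * z from mul_inv_eq_iff_eq_mul.1 e]; exact hzx')
    · intro m hm
      have hmz : (m : G) * z = z * m :=
        hfix m z (hPC hzP) (IsConj.refl z) hztz (hm _ hzP)
      have hmQ : (m : G) ∈ Q := by
        refine (hCP m (Subgroup.mem_centralizer_singleton_iff.2 hmz)).1 fun y hy => ?_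
        rcases hcomm m ⟨y, hPC hy⟩ (hm _ hy) with e | e
        · exact ⟨1, one_mem _, by rw [mul_one]; exact e⟩
        · refine ⟨t, Subgroup.subset_closure (by simp), e.trans ?_⟩
          exact (Subgroup.mem_centralizer_singleton_iff.1 (hPC hy)).symm
      -- `m` is central in `P` modulo `t`
      have hmW : (m : G) ∈ Subgroup.closure ({t, z} : Set G) := by
        refine hA'.mem_of_forall ((Subgroup.closure_le Q).2 (by rintro v (rfl | rfl); exacts [htQ', hzQ]))
          (Subgroup.subset_closure (by simp)) hmQ fun q hq hqW => ?_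
        have hqP : q ∈ P := by
          rw [hP]; exact ⟨hq, Subgroup.mem_centralizer_singleton_iff.2
            (hqW t (Subgroup.subset_closure (by simp)))⟩
        rcases hcomm m ⟨q, hPC hqP⟩ (hm _ hqP) with e | e
        · exact (mul_inv_eq_iff_eq_mul.1 e).symm
        · exfalso
          rcases hA'.comm _ hmQ q hq with e' | e'
          · exact ht1 (mul_eq_right.1 (e.symm.trans e'))
          · exact ht_z (mul_right_cancel ((e.symm.trans e').trans (hzq q hq).symm))
      rcases mem_pair hD.sq htt htzc hmW with e | e | e | e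
      · exact Or.inl ((hπ1 m).2 (Or.inl e))
      · exact Or.inl ((hπ1 m).2 (Or.inr e))
      · exact Or.inr (congrArg π (Subtype.ext e))
      · right
        rw [show m = ⟨t, hPC htP⟩ * ⟨z, hPC hzP⟩ from Subtype.ext e, map_mul,
          (hπ1 ⟨t, hPC htP⟩).2 (Or.inr rfl), one_mul]
    · intro m hm q hq
      have hmz : (m : G) * z = z * m :=
        hfix m z (hPC hzP) (IsConj.refl z) hztz hm
      refine ⟨m * q * m⁻¹, ?_, rfl⟩
      rw [hP]
      exact ⟨(Subgroup.mem_normalizer_iff.1 (hN (Subgroup.mem_centralizer_singleton_iff.2 hmz)) _).1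
        (hPQ hq), (m * q * m⁻¹).2⟩
    · intro m hm b hb
      have hmx : (m : G) * x = x * m :=
        hfix m x (hPC hxP) hzx' hztx hm
      exact ⟨m * b * m⁻¹, ⟨hcB hmx hb.1, (m * b * m⁻¹).2⟩, rfl⟩
  · obtain ⟨q, hq, hqx⟩ : ∃ q ∈ P, q * x * q⁻¹ = x * z := by
      by_contra hne
      push Not at hne
      have hmem : x ∈ Subgroup.closure ({t, z} : Set G) := by
        refine hA'.mem_of_forall ((Subgroup.closure_le Q).2 (by rintro v (rfl | rfl); exacts [htQ', hzQ]))
          (Subgroup.subset_closure (by simp)) hgQ fun q hq hqW => ?_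
        have hqP : q ∈ P := by
          rw [hP]; exact ⟨hq, Subgroup.mem_centralizer_singleton_iff.2
            (hqW t (Subgroup.subset_closure (by simp)))⟩
        exact mul_inv_eq_iff_eq_mul.1 ((hA'.comm q hq x hgQ).resolve_right (hne q hqP))
      exact absurd hmem (not_mem_pair hD.sq htt htzc hX.ne_one ht_x.symm hxz
        (fun e => hztz (e ▸ hzx')))
    obtain ⟨u, hu, huz⟩ : ∃ u ∈ B ⊓ Ct, u * z * u⁻¹ = z * x := by
      by_contra hne
      push Not at hne
      have hmem : z ∈ Subgroup.closure ({t, x} : Set G) := by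
        refine hX.mem_of_forall ((Subgroup.closure_le B).2 (by rintro v (rfl | rfl); exacts [htB, hX.mem]))
          (Subgroup.subset_closure (by simp)) hzB fun q hq hqW => ?_
        have hqP : q ∈ B ⊓ Ct := ⟨hq, Subgroup.mem_centralizer_singleton_iff.2
            (hqW t (Subgroup.subset_closure (by simp)))⟩
        exact mul_inv_eq_iff_eq_mul.1 ((hX.comm q hq z hzB).resolve_right (hne q hqP))
      exact absurd hmem (not_mem_pair hX.sq htt htxc hD.ne ht_z.symm hxz.symm
        (fun e => hztx (e ▸ IsConj.refl z)))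
    refine ⟨(q * u)⁻¹, Subgroup.inv_mem _ (Subgroup.mul_mem _ (Subgroup.mem_sup_left hq)
      (Subgroup.mem_sup_right hu)), ?_⟩
    exact conj_eq_of_swap hD.sq hX.sq (hzq x hgQ) hqx (hzq q (hPQ hq)).symm huz
      (hX.central u hu.1).symm

end Cfsg.Agent.S5429
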