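import Cfsg.Statements.S5434
import Cfsg.Agent.Lib.ThreeTransp.ExtraSub
import Cfsg.Agent.Lib.ThreeTransp.LargeBasic
import Cfsg.Agent.Lib.Coprime.Action
-- import your own Cfsg.Agent.* helpers here

set_option autoImplicit false
open Cfsg
open scoped commutatorElement

namespace Cfsg.Agent.S5434

/-- Let Q be a large extraspecial 2-subgroup of the finite group G (extraspecial; centralizer equal to its centre; normal in the centralizer of its centre; normalizing no non-trivial subgroup of odd order), and A a non-trivial subgroup of odd order of the normalizer of Q. Then Q is the central product of the centralizer of A in Q and the commutator subgroup [Q, A] (they generate Q and commute elementwise), [Q, A] is extraspecial, and the centralizer of A in Q is either the centre of Q or extraspecial. -/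
theorem result {G : Type*} [Group G] [Finite G] (Q : Subgroup G) (hQ : Cfsg.IsLargeExtraspecial Q) (A : Subgroup G) (hA : A ≤ Subgroup.normalizer (Q : Set G)) (hAodd : Odd (Nat.card ↥A)) (hA1 : A ≠ ⊥) : (Q ⊓ Subgroup.centralizer (A : Set G)) ⊔ ⁅Q, A⁆ = Q ∧ (∀ x ∈ Q ⊓ Subgroup.centralizer (A : Set G), ∀ y ∈ ⁅Q, A⁆, x * y = y * x) ∧ Cfsg.IsExtraspecial 2 ↥⁅Q, A⁆ ∧ (Q ⊓ Subgroup.centralizer (A : Set G) = ((Subgroup.center ↥Q).map Q.subtype) ∨ Cfsg.IsExtraspecial 2 ↥(Q ⊓ Subgroup.centralizer (A : Set G))) := by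
  classical
  obtain ⟨hE, hC, hN, hK⟩ := hQ
  obtain ⟨z, hz, hZ, hD⟩ := Cfsg.Agent.Lib.ThreeTransp.exists_center_gen hE
  rw [hZ] at hC hN ⊢
  set C := Q ⊓ Subgroup.centralizer (A : Set G) with hCdef
  set P := ⁅Q, A⁆ with hPdef
  have hQp : IsPGroup 2 ↥Q := hE.1.1
  haveI : Fact (Nat.Prime 2) := ⟨Nat.prime_two⟩
  obtain ⟨m, hm⟩ := hQp.exists_card_eq
  have hcop : (Nat.card A).Coprime (Nat.card Q) := by
    rw [hm]; exact (Nat.Coprime.pow_left m hAodd.coprime_two_left).symm
  have hsolv : Group.IsSolvable A ∨ Group.IsSolvable Q := Or.inr (by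
    haveI := hQp.isNilpotent
    infer_instance)
  have hPQ : P ≤ Q := Cfsg.Agent.Lib.Coprime.commutator_le_of_le_normalizer hA
  have hsup : C ⊔ P = Q := by
    rw [sup_comm]; exact Cfsg.Agent.Lib.Coprime.commutator_sup_centralizer_eq hA hcop hsolv
  have hzA : ∀ a ∈ A, a * z = z * a := by
    intro a ha
    have hmem : a * z * a⁻¹ ∈ Q := (Subgroup.mem_normalizer_iff.1 (hA ha) z).1 hD.mem
    rcases hD.center_le _ hmem (fun q hq => by
      have hq' : a⁻¹ * q * a ∈ Q :=
        (Subgroup.mem_normalizer_iff.1 (hA ha) _).2 (by simpa [mul_assoc] using hq)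
      calc a * z * a⁻¹ * q = a * (z * (a⁻¹ * q * a)) * a⁻¹ := by group
        _ = q * (a * z * a⁻¹) := by rw [hD.central _ hq']; group) with e | e
    · exact absurd (conj_eq_one_iff.1 e) hD.ne
    · exact mul_inv_eq_iff_eq_mul.1 e
  have hzC : z ∈ C := ⟨hD.mem, Subgroup.mem_centralizer_iff.2 hzA⟩
  have hcommCP : ∀ x ∈ C, ∀ y ∈ P, x * y = y * x := by
    have h1 : ⁅⁅A, C⁆, Q⁆ = ⊥ := by
      rw [show ⁅A, C⁆ = ⊥ from Subgroup.commutator_eq_bot_iff_le_centralizer.mpr
        (Subgroup.le_centralizer_iff.1 inf_le_right), Subgroup.commutator_bot_left]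
    have h2 : ⁅⁅C, Q⁆, A⁆ = ⊥ := by
      rw [Subgroup.commutator_eq_bot_iff_le_centralizer, Subgroup.commutator_le]
      intro a ha b hb
      rw [commutatorElement_def]
      rcases hD.comm a ha.1 b hb with e | e <;> rw [e]
      · exact one_mem _
      · exact Subgroup.mem_centralizer_iff.2 hzA
    have h3 := Subgroup.commutator_commutator_eq_bot_of_rotate h1 h2
    rw [Subgroup.commutator_eq_bot_iff_le_centralizer] at h3
    exact fun x hx y hy => Subgroup.mem_centralizer_iff.1 (h3 hy) x hx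
  have hnotA : ¬ A ≤ Subgroup.centralizer (Q : Set G) := by
    intro h
    refine hA1 ((Subgroup.eq_bot_iff_forall _).2 fun a ha => ?_)
    have h' := h ha
    rw [hC] at h'
    rcases hD.mem_zpowers h' with e | e
    · exact e
    · exact Cfsg.Agent.Lib.ThreeTransp.eq_one_of_pow_two_pow hAodd ha (n := 1) (by rw [pow_one, pow_two, e, hD.sq])
  have hcent : ∀ c ∈ Q, (∀ q ∈ C, c * q = q * c) → (∀ q ∈ P, c * q = q * c) → c = 1 ∨ c = z := by
    intro c hc h1 h2
    refine hD.center_le c hc fun q hq => ?_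
    have hle : C ⊔ P ≤ Subgroup.centralizer ({c} : Set G) :=
      sup_le (fun x hx => Subgroup.mem_centralizer_singleton_iff.2 (h1 x hx).symm)
        (fun x hx => Subgroup.mem_centralizer_singleton_iff.2 (h2 x hx).symm)
    exact (Subgroup.mem_centralizer_singleton_iff.1 (hle (hsup.symm ▸ hq))).symm
  have hPne : ∃ a ∈ P, ∃ b ∈ P, a * b ≠ b * a := by
    by_contra hab
    push Not at hab
    have hPz : P ≤ Subgroup.zpowers z := fun p hp => by
      rcases hcent p (hPQ hp) (fun q hq => (hcommCP q hq p hp).symm) (hab p hp) with e | e <;> rw [e]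
      · exact one_mem _
      · exact Subgroup.mem_zpowers z
    have hbot : P = ⊥ := by
      rw [hPdef, ← Cfsg.Agent.Lib.Coprime.commutator_commutator_eq hA hcop hsolv,
        Subgroup.commutator_eq_bot_iff_le_centralizer]
      refine hPz.trans (Subgroup.zpowers_le.2 ?_)
      exact Subgroup.mem_centralizer_iff.2 hzA
    rw [hPdef, Subgroup.commutator_eq_bot_iff_le_centralizer, Subgroup.le_centralizer_iff] at hbot
    exact hnotA hbot
  have hzP : z ∈ P := by
    obtain ⟨a, ha, b, hb, hne⟩ := hPne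
    rcases hD.comm a (hPQ ha) b (hPQ hb) with e | e
    · exact absurd (mul_inv_eq_iff_eq_mul.1 (mul_inv_eq_one.1 e)) hne
    · rw [← e]; exact P.mul_mem (P.mul_mem (P.mul_mem ha hb) (P.inv_mem ha)) (P.inv_mem hb)
  refine ⟨hsup, hcommCP, Cfsg.Agent.Lib.ThreeTransp.isExtraspecial_of_subgroup hD hQp hPQ hzP
    (fun c hc h => hcent c (hPQ hc) (fun q hq => (hcommCP q hq c hc).symm) h) hPne, ?_⟩
  by_cases hab : ∃ a ∈ C, ∃ b ∈ C, a * b ≠ b * a
  · exact Or.inr (Cfsg.Agent.Lib.ThreeTransp.isExtraspecial_of_subgroup hD hQp inf_le_left hzC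
      (fun c hc h => hcent c hc.1 h (fun q hq => hcommCP c hc q hq)) hab)
  · push Not at hab
    refine Or.inl (le_antisymm (fun c hc => ?_) (Subgroup.zpowers_le.2 hzC))
    rcases hcent c hc.1 (hab c hc) (fun q hq => hcommCP c hc q hq) with e | e <;> rw [e]
    · exact one_mem _
    · exact Subgroup.mem_zpowers z

end Cfsg.Agent.S5434
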