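import Cfsg.Statements.S5435
import Cfsg.Agent.Lib.InvChar.ZStarTheorem
import Cfsg.Agent.Lib.InvChar.TransferInvolution
import Cfsg.Agent.Lib.Cores.Frattini
import Cfsg.Agent.Lib.Components.Fitting
import Cfsg.Agent.Lib.Classification.CyclicNormalAbelian
-- import your own Cfsg.Agent.* helpers here

set_option autoImplicit false
open Cfsg
open scoped commutatorElement

namespace Cfsg.Agent.S5435

/-- Let L be a finite non-abelian simple group with an involution z whose centralizer R is a Sylow 2-subgroup of L whose Frattini subgroup is the subgroup generated by z. Then R is dihedral of order 8. -/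
theorem result {L : Type*} [Group L] [Finite L] [IsSimpleGroup L] (hL : ¬ IsMulCommutative L) (z : L) (hz : orderOf z = 2) (R : Sylow 2 L) (hR : (R : Subgroup L) = Subgroup.centralizer ({z} : Set L)) (hΦ : (frattini ↥(R : Subgroup L)).map (R : Subgroup L).subtype = Subgroup.zpowers z) : Nonempty (↥(R : Subgroup L) ≃* DihedralGroup 4) := by
  classical
  haveI : Fact (Nat.Prime 2) := ⟨Nat.prime_two⟩
  have hRp : IsPGroup 2 ↥(R : Subgroup L) := R.2
  haveI : Group.IsNilpotent ↥(R : Subgroup L) := hRp.isNilpotent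
  set S : Subgroup L := (R : Subgroup L) with hS
  have hmem : ∀ x, x ∈ S ↔ x * z = z * x := fun x => by rw [hR, Subgroup.mem_centralizer_singleton_iff]
  have hzz : z * z = 1 := by rw [← pow_two, ← hz, pow_orderOf_eq_one]
  have hz1 : z ≠ 1 := fun e => by rw [e, orderOf_one] at hz; omega
  have hzinv : z⁻¹ = z := inv_eq_of_mul_eq_one_right hzz
  have hzS : z ∈ S := (hmem z).2 rfl
  have hpair : ∀ x, x ∈ Subgroup.zpowers z → x = 1 ∨ x = z := by
    intro x hx
    obtain ⟨k, rfl⟩ := Subgroup.mem_zpowers_iff.1 hx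
    rw [← zpow_mod_orderOf, hz]
    rcases Int.emod_two_eq_zero_or_one k with h | h <;> simp [h]
  have hfr : ∀ x (hx : x ∈ S), (⟨x, hx⟩ : S) ∈ frattini S → x = 1 ∨ x = z := fun x hx h =>
    hpair x (hΦ ▸ ⟨⟨x, hx⟩, h, rfl⟩)
  have hsq : ∀ r ∈ S, r * r = 1 ∨ r * r = z := by
    intro r hr
    refine hfr _ (S.mul_mem hr hr) ?_
    have h := Cfsg.Agent.Lib.Cores.pow_mem_frattini hRp (⟨r, hr⟩ : S)
    rw [pow_two] at h
    exact h
  have hcomm : ∀ a ∈ S, ∀ b ∈ S, a * b * a⁻¹ * b⁻¹ = 1 ∨ a * b * a⁻¹ * b⁻¹ = z := by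
    intro a ha b hb
    refine hfr _ (S.mul_mem (S.mul_mem (S.mul_mem ha hb) (S.inv_mem ha)) (S.inv_mem hb)) ?_
    apply Cfsg.Agent.Lib.Cores.commutator_le_frattini
    rw [_root_.commutator_def]
    exact Subgroup.commutator_mem_commutator (Subgroup.mem_top (⟨a, ha⟩ : S)) (Subgroup.mem_top (⟨b, hb⟩ : S))
  have hnorm : ∀ g : L, (∀ r ∈ S, g * r * g⁻¹ ∈ S) → g ∈ S := by
    intro g hg
    let f : S →* S := MonoidHom.mk' (fun r => ⟨g * r * g⁻¹, hg r r.2⟩)
      (fun a b => Subtype.ext (by simp only [Subgroup.coe_mul]; group))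
    have hinj : Function.Injective f := fun a b h => Subtype.ext (by
      have := congrArg Subtype.val h
      simpa [f] using this)
    let e : S ≃* S := MulEquiv.ofBijective f ⟨hinj, Finite.surjective_of_injective hinj⟩
    obtain ⟨⟨x, hx⟩, hxf, hxz⟩ : z ∈ (frattini S).map S.subtype := hΦ.symm ▸ Subgroup.mem_zpowers z
    have he : e ⟨x, hx⟩ ∈ frattini S := by
      rw [← Cfsg.Agent.Lib.Cores.map_frattini_equiv e]
      exact Subgroup.mem_map_of_mem e.toMonoidHom hxf
    have hxz' : x = z := hxz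
    subst hxz'
    rcases hfr _ (hg x hx) he with h | h
    · exact absurd (conj_eq_one_iff.1 h) hz1
    · exact (hmem g).2 (mul_inv_eq_iff_eq_mul.1 h)
  have hsimple : ∀ N : Subgroup L, N.Normal → N = ⊥ ∨ N = ⊤ := fun N hN => hN.eq_bot_or_eq_top
  have hncen : ∀ x : L, (∀ g, g * x = x * g) → x = 1 := by
    intro x hx
    rcases hsimple (Subgroup.center L) inferInstance with h | h
    · rw [← Subgroup.mem_bot, ← h, Subgroup.mem_center_iff]; exact hx
    · exfalso; apply hL
      exact ⟨⟨fun a b => Subgroup.mem_center_iff.1 (h ▸ Subgroup.mem_top b) a⟩⟩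
  -- a conjugate of `z` in `S`, other than `z`
  obtain ⟨g, hgc, hgne⟩ : ∃ g : L, Commute z (g * z * g⁻¹) ∧ g * z * g⁻¹ ≠ z := by
    by_contra hne
    push Not at hne
    have hZ := Cfsg.Agent.Lib.InvChar.inZStar_of_isIsolated hz hne
    have hbot : Cfsg.pPrimeCore 2 L = ⊥ := by
      refine (hsimple _ (by infer_instance)).resolve_right fun h => ?_
      have hc := Cfsg.Agent.Lib.Components.pPrimeCore_coprime (G := L) 2
      rw [h, Subgroup.card_top] at hc
      have h2 : 2 ∣ Nat.card L := hz ▸ orderOf_dvd_natCard z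
      exact absurd (Nat.eq_one_of_dvd_coprimes hc h2 dvd_rfl) (by norm_num)
    refine hz1 (hncen z fun g => ?_)
    have h := hZ g
    rw [hbot, Subgroup.mem_bot, mul_inv_eq_one, mul_inv_eq_iff_eq_mul] at h
    exact h
  obtain ⟨y, hy⟩ : ∃ y, y = g * z * g⁻¹ := ⟨_, rfl⟩
  rw [← hy] at hgc hgne
  have hyS : y ∈ S := (hmem y).2 hgc.eq.symm
  have hyy : y * y = 1 := by
    rw [hy, show g * z * g⁻¹ * (g * z * g⁻¹) = g * (z * z) * g⁻¹ by group, hzz]; group
  have hy1 : y ≠ 1 := fun h => hz1 (conj_eq_one_iff.1 (hy.symm.trans h))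
  have hCy : ∀ x, x * y = y * x → g⁻¹ * x * g ∈ S := by
    intro x hx
    rw [hmem]
    rw [hy] at hx
    calc g⁻¹ * x * g * z = g⁻¹ * (x * (g * z * g⁻¹)) * g := by group
      _ = z * (g⁻¹ * x * g) := by rw [hx]; group
  -- elements of `S` centralising `y`
  have hsqA : ∀ a ∈ S, a * y = y * a → a * a = 1 := by
    intro a ha hay
    rcases hsq a ha with h | h
    · exact h
    rcases hsq _ (hCy a hay) with h' | h' <;>
      rw [show g⁻¹ * a * g * (g⁻¹ * a * g) = g⁻¹ * (a * a) * g by group, h] at h'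
    · exfalso; apply hz1
      calc z = g * (g⁻¹ * z * g) * g⁻¹ := by group
        _ = 1 := by rw [h']; group
    · exfalso; apply hgne
      rw [hy]
      calc g * z * g⁻¹ = g * (g⁻¹ * z * g) * g⁻¹ := by rw [h']
        _ = z := by group
  have hcomA : ∀ a ∈ S, ∀ b ∈ S, a * y = y * a → b * y = y * b → a * b = b * a := by
    intro a ha b hb hay hby
    rcases hcomm a ha b hb with h | h
    · exact mul_inv_eq_iff_eq_mul.1 (mul_inv_eq_one.1 h)
    exfalso
    rcases hcomm _ (hCy a hay) _ (hCy b hby) with h' | h' <;>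
      rw [show g⁻¹ * a * g * (g⁻¹ * b * g) * (g⁻¹ * a * g)⁻¹ * (g⁻¹ * b * g)⁻¹ =
        g⁻¹ * (a * b * a⁻¹ * b⁻¹) * g by group, h] at h'
    · apply hz1
      calc z = g * (g⁻¹ * z * g) * g⁻¹ := by group
        _ = 1 := by rw [h']; group
    · apply hgne
      rw [hy]
      calc g * z * g⁻¹ = g * (g⁻¹ * z * g) * g⁻¹ := by rw [h']
        _ = z := by group
  -- the centre of `S`
  have hcenS : ∀ c ∈ S, (∀ r ∈ S, c * r = r * c) → c = 1 ∨ c = z := by
    intro c hc hcen
    by_contra hno
    have hcc : c * c = 1 := hsqA c hc (hcen y hyS)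
    obtain ⟨M, hM, hcM⟩ : ∃ M : Subgroup S, IsCoatom M ∧ (⟨c, hc⟩ : S) ∉ M := by
      by_contra hall
      push Not at hall
      apply hno
      refine hfr c hc ?_
      simp only [frattini, Order.radical, Subgroup.mem_iInf]
      exact hall
    have hidx : M.index = 2 := by
      obtain ⟨-, hp⟩ := Cfsg.Agent.Lib.Cores.prime_index_of_isCoatom hM
      obtain ⟨k, hk⟩ := hRp.index M
      rw [hk] at hp ⊢
      rw [Nat.Prime.eq_one_of_pow hp, pow_one]
    let a₀ : Multiplicative (ZMod 2) := Multiplicative.ofAdd 1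
    let μ : S →* Multiplicative (ZMod 2) := MonoidHom.mk' (fun x => if x ∈ M then 1 else a₀) (fun x x' => by
      have haa : a₀ * a₀ = 1 := Multiplicative.toAdd.injective (CharTwo.add_self_eq_zero (1 : ZMod 2))
      have h := Subgroup.mul_mem_iff_of_index_two hidx (a := x) (b := x')
      by_cases h1 : x ∈ M <;> by_cases h2 : x' ∈ M <;> simp [h, h1, h2, haa])
    have hμc : μ ⟨c, hc⟩ ≠ 1 := by
      simp only [μ, MonoidHom.mk'_apply, if_neg hcM]
      exact fun h => absurd (congrArg Multiplicative.toAdd h) (one_ne_zero (α := ZMod 2))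
    have hperfect : commutator L = ⊤ := by
      refine (hsimple _ inferInstance).resolve_left fun h => hL ⟨⟨fun a b => ?_⟩⟩
      have hm : ⁅a, b⁆ ∈ commutator L :=
        Subgroup.commutator_mem_commutator (Subgroup.mem_top a) (Subgroup.mem_top b)
      rw [h, Subgroup.mem_bot, commutatorElement_eq_one_iff_mul_comm] at hm
      exact hm
    have htr : MonoidHom.transfer μ c = 1 :=
      MonoidHom.mem_ker.1 (Abelianization.commutator_subset_ker _ (hperfect ▸ Subgroup.mem_top c))
    have heven := Cfsg.Agent.Lib.InvChar.even_card_fixed_of_transfer_eq_one S μ a₀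
      (fun h => absurd (congrArg Multiplicative.toAdd h) (one_ne_zero (α := ZMod 2)))
      (fun h => by simp only [μ, MonoidHom.mk'_apply]; split_ifs; exact Or.inl rfl; exact Or.inr rfl)
      (Multiplicative.toAdd.injective (CharTwo.add_self_eq_zero (1 : ZMod 2))) c hcc htr
    set s : Set (L ⧸ S) := {p | ∃ hp : c • p = p,
      μ ⟨_, Cfsg.Agent.Lib.InvChar.out_inv_mul_mem S hp⟩ ≠ 1} with hs
    have hinv : ∀ x ∈ S, ∀ p ∈ s, x • p ∈ s := by
      rintro x hx p ⟨hp, hne⟩
      have hp' : c • x • p = x • p := by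
        rw [smul_smul, hcen x hx, ← smul_smul, hp]
      refine ⟨hp', fun h => hne ?_⟩
      obtain ⟨k, hk⟩ := QuotientGroup.mk_out_eq_mul S (x * p.out)
      have hout : (x • p).out = x * p.out * k := by
        rw [← hk, ← smul_eq_mul, ← MulAction.Quotient.smul_mk, QuotientGroup.out_eq']
      rw [← h]
      have e : (⟨(x • p).out⁻¹ * c * (x • p).out, Cfsg.Agent.Lib.InvChar.out_inv_mul_mem S hp'⟩ : S) =
          k⁻¹ * ⟨p.out⁻¹ * c * p.out, Cfsg.Agent.Lib.InvChar.out_inv_mul_mem S hp⟩ * k := by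
        refine Subtype.ext ?_
        simp only [Subgroup.coe_mul, Subgroup.coe_inv]
        rw [hout, show (x * p.out * (k : L))⁻¹ * c * (x * p.out * k) =
          (k : L)⁻¹ * p.out⁻¹ * (x⁻¹ * (c * x)) * p.out * k by group, hcen x hx, inv_mul_cancel_left]
        group
      rw [e, map_mul, map_mul, map_inv, mul_comm, mul_inv_cancel_left]
    have hfix := Cfsg.Agent.Lib.InvChar.even_card_fixed_pGroup S S hRp s hinv heven
    have hone : Nat.card {p : L ⧸ S // p ∈ s ∧ ∀ x ∈ S, x • p = p} = 1 := by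
      rw [Nat.card_eq_one_iff_exists]
      obtain ⟨k, hk⟩ := QuotientGroup.mk_out_eq_mul S (1 : L)
      have hp1 : c • ((1 : L) : L ⧸ S) = ((1 : L) : L ⧸ S) := by
        rw [MulAction.Quotient.smul_mk, QuotientGroup.eq, smul_eq_mul, mul_one, mul_one]
        exact S.inv_mem hc
      refine ⟨⟨((1 : L) : L ⧸ S), ⟨hp1, ?_⟩, fun x hx => ?_⟩, ?_⟩
      · have e : (⟨((1 : L) : L ⧸ S).out⁻¹ * c * ((1 : L) : L ⧸ S).out,
            Cfsg.Agent.Lib.InvChar.out_inv_mul_mem S hp1⟩ : S) = k⁻¹ * ⟨c, hc⟩ * k := by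
          refine Subtype.ext ?_
          simp only [Subgroup.coe_mul, Subgroup.coe_inv]
          rw [hk, one_mul]
        rw [e, map_mul, map_mul, map_inv, mul_comm, mul_inv_cancel_left]
        exact hμc
      · rw [MulAction.Quotient.smul_mk, QuotientGroup.eq, smul_eq_mul, mul_one, mul_one]
        exact S.inv_mem hx
      · rintro ⟨p, hps, hpf⟩
        obtain ⟨g₀, rfl⟩ := QuotientGroup.mk_surjective p
        have hg : g₀⁻¹ ∈ S := hnorm _ fun r hr => by
          have h := hpf r⁻¹ (S.inv_mem hr)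
          rw [MulAction.Quotient.smul_mk, QuotientGroup.eq, smul_eq_mul] at h
          simpa [mul_assoc] using h
        exact Subtype.ext (QuotientGroup.eq.2 (by simpa using hg))
    rw [hone] at hfix
    exact absurd hfix (by decide)
  obtain ⟨t, ht, hty⟩ : ∃ t ∈ S, t * y ≠ y * t := by
    by_contra hall
    push Not at hall
    rcases hcenS y hyS (fun r hr => (hall r hr).symm) with h | h
    · exact hy1 h
    · exact hgne h
  have hconjy : ∀ r ∈ S, r * y ≠ y * r → r * y * r⁻¹ = z * y := by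
    intro r hr hne
    rcases hcomm r hr y hyS with h | h
    · exact absurd (mul_inv_eq_iff_eq_mul.1 (mul_inv_eq_one.1 h)) hne
    · exact mul_inv_eq_iff_eq_mul.1 h
  have hzy : z * y = y * z := hgc.eq
  set Aset : Finset L := {1, z, y, z * y} with hAset
  have hA : ∀ a ∈ S, a * y = y * a → a ∈ Aset := by
    intro a ha hay
    have hcent : ∀ b ∈ S, b * y = y * b → b * t = t * b → b = 1 ∨ b = z := by
      intro b hb hby hbt
      refine hcenS b hb fun r hr => ?_
      by_cases hry : r * y = y * r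
      · exact hcomA b hb r hr hby hry
      have hd : t⁻¹ * r * y = y * (t⁻¹ * r) := by
        have h1 := hconjy r hr hry
        have h2 := hconjy t ht hty
        calc t⁻¹ * r * y = t⁻¹ * (r * y * r⁻¹) * r := by group
          _ = t⁻¹ * (t * y * t⁻¹) * r := by rw [h1, h2]
          _ = y * (t⁻¹ * r) := by group
      have h3 := hcomA b hb _ (S.mul_mem (S.inv_mem ht) hr) hby hd
      calc b * r = b * t * (t⁻¹ * r) := by group
        _ = t * (b * (t⁻¹ * r)) := by rw [hbt]; group
        _ = r * b := by rw [h3]; group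
    rcases hcomm t ht a ha with h | h
    · rcases hcent a ha hay (mul_inv_eq_iff_eq_mul.1 (mul_inv_eq_one.1 h)).symm with e | e <;>
        simp [hAset, e]
    · have hta : t * a * t⁻¹ = z * a := mul_inv_eq_iff_eq_mul.1 h
      have hza : z * a = a * z := ((hmem a).1 ha).symm
      have h4 : (a * y) * t = t * (a * y) := by
        have : t * (a * y) * t⁻¹ = a * y := by
          rw [show t * (a * y) * t⁻¹ = (t * a * t⁻¹) * (t * y * t⁻¹) by group, hta, hconjy t ht hty, hza,
            show a * z * (z * y) = a * (z * z) * y by group, hzz, mul_one]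
        calc a * y * t = t * (a * y) * t⁻¹ * t := by rw [this]
          _ = t * (a * y) := by group
      rcases hcent _ (S.mul_mem ha hyS) (by rw [hay, mul_assoc, hay]) h4 with e | e
      · rw [show a = y by rw [← mul_right_inj a, hsqA a ha hay, e]]; simp [hAset]
      · rw [show a = z * y by rw [← e, mul_assoc, hyy, mul_one]]; simp [hAset]
  have hAmem : ∀ a ∈ Aset, a ∈ S ∧ a * y = y * a := by
    intro a ha
    simp only [hAset, Finset.mem_insert, Finset.mem_singleton] at ha
    rcases ha with rfl | rfl | rfl | rfl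
    · exact ⟨one_mem _, by simp⟩
    · exact ⟨hzS, hzy⟩
    · exact ⟨hyS, rfl⟩
    · exact ⟨S.mul_mem hzS hyS, by rw [← mul_assoc, ← hzy]⟩
  have hcard4 : Aset.card = 4 := by
    have e1 : z * y ≠ 1 := fun h => hgne (by rw [← mul_right_inj z, h, hzz])
    have e2 : z * y ≠ z := fun h => hy1 (mul_eq_left.1 h)
    have e3 : z * y ≠ y := fun h => hz1 (mul_eq_right.1 h)
    simp [hAset, hy1.symm, hz1.symm, Ne.symm hgne, e1.symm, e2.symm, e3.symm]
  set Rset : Finset L := Aset ∪ Aset.image (fun a => t * a) with hRset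
  have hdisj : Disjoint Aset (Aset.image (fun a => t * a)) := by
    rw [Finset.disjoint_left]
    intro a ha ha'
    obtain ⟨b, hb, rfl⟩ := Finset.mem_image.1 ha'
    apply hty
    calc t * y = t * (b * y) * b⁻¹ := by rw [(hAmem b hb).2]; group
      _ = y * t := by rw [← mul_assoc, (hAmem _ ha).2]; group
  have hcardR : Nat.card S = 8 := by
    have heq : (S : Set L) = ↑Rset := by
      ext r
      simp only [SetLike.mem_coe, hRset, Finset.coe_union, Set.mem_union, Finset.coe_image, Set.mem_image]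
      constructor
      · intro hr
        by_cases hry : r * y = y * r
        · exact Or.inl (hA r hr hry)
        refine Or.inr ⟨t⁻¹ * r, hA _ (S.mul_mem (S.inv_mem ht) hr) ?_, mul_inv_cancel_left t r⟩
        calc t⁻¹ * r * y = t⁻¹ * (r * y * r⁻¹) * r := by group
          _ = t⁻¹ * (t * y * t⁻¹) * r := by rw [hconjy r hr hry, hconjy t ht hty]
          _ = y * (t⁻¹ * r) := by group
      · rintro (h | ⟨a, ha, rfl⟩)
        · exact (hAmem r h).1
        · exact S.mul_mem ht (hAmem a ha).1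
    rw [← SetLike.coe_sort_coe, Nat.card_coe_set_eq, heq, Set.ncard_coe_finset, hRset,
      Finset.card_union_of_disjoint hdisj, Finset.card_image_of_injective _ (mul_right_injective t), hcard4]
  obtain ⟨c, hc, hcy, hc2⟩ : ∃ c ∈ S, c * y ≠ y * c ∧ c * c = z := by
    rcases hsq t ht with h | h
    swap
    · exact ⟨t, ht, hty, h⟩
    refine ⟨t * y, S.mul_mem ht hyS, fun e => hty ?_, ?_⟩
    · calc t * y = t * y * y * y := by rw [mul_assoc (t * y), hyy, mul_one]
        _ = y * (t * y) * y := by rw [e]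
        _ = y * t := by rw [mul_assoc, mul_assoc, hyy, mul_one]
    · have ht' : t⁻¹ = t := inv_eq_of_mul_eq_one_right h
      have h2 := hconjy t ht hty
      rw [ht'] at h2
      calc t * y * (t * y) = t * y * t * y := by group
        _ = z := by rw [h2, mul_assoc, hyy, mul_one]
  have hordc : orderOf (⟨c, hc⟩ : S) = 4 := by
    rw [Subgroup.orderOf_mk]
    refine orderOf_eq_prime_pow (p := 2) (n := 1) ?_ ?_
    · rw [pow_one, pow_two, hc2]; exact hz1
    · rw [show (2 : ℕ) ^ (1 + 1) = 2 * 2 by norm_num, pow_mul, pow_two, pow_two, hc2, hzz]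
  refine Cfsg.Agent.Lib.Classification.mulEquiv_dihedralGroup_of_generators (g := (⟨y, hyS⟩ : S))
    hordc ?_ (Subtype.ext (by rw [pow_two]; exact hyy)) ?_ (by rw [hcardR])
  · refine Subtype.ext ?_
    simp only [Subgroup.coe_mul, Subgroup.coe_inv]
    have hcinv : c⁻¹ = z * c := inv_eq_of_mul_eq_one_right (by rw [← mul_assoc, (hmem c).1 hc, mul_assoc, hc2, hzz])
    have hyinv : y⁻¹ = y := inv_eq_of_mul_eq_one_right hyy
    have h1 := hconjy c hc hcy
    rw [hcinv, hyinv]
    calc y * c * y = y * (c * y * c⁻¹) * c := by group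
      _ = y * (z * y) * c := by rw [h1]
      _ = z * c := by rw [← mul_assoc, ← hzy, mul_assoc z y y, hyy, mul_one]
  · intro h
    obtain ⟨k, hk⟩ := Subgroup.mem_zpowers_iff.1 h
    have hk' : c ^ k = y := congrArg Subtype.val hk
    exact hcy (hk' ▸ (Commute.self_zpow c k).eq)

end Cfsg.Agent.S5435
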