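import Cfsg.Statements.S5436
import Cfsg.Agent.Lib.ThreeTransp.LargeSimple
-- import your own Cfsg.Agent.* helpers here

set_option autoImplicit false
open Cfsg

namespace Cfsg.Agent.S5436

open Cfsg.Agent.Lib.ThreeTransp

/-- Let z be an involution of the finite group G with centralizer H whose generalized Fitting subgroup Q is extraspecial of width at least 2 (order 2^(2w+1), w ≥ 2); suppose some conjugate of z other than z lies in Q, H/Q is a non-abelian simple group, H acts irreducibly by conjugation on Q modulo the subgroup generated by z (the only H-invariant subgroups of Q containing z are that subgroup and Q), and Q is not the subgroup generated by the conjugates of z lying in H. Then G is simple. -/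
theorem result {G : Type*} [Group G] [Finite G] (z : G) (hz : orderOf z = 2) (Q : Subgroup (Subgroup.centralizer ({z} : Set G))) [Q.Normal] (hF : Cfsg.generalizedFittingSubgroup ↥(Subgroup.centralizer ({z} : Set G)) = Q) (hQ : Cfsg.IsExtraspecial 2 ↥Q) (w : ℕ) (hw : 2 ≤ w) (hcard : Nat.card ↥Q = 2 ^ (2 * w + 1)) (hnwc : ∃ g : G, (∃ hq : g * z * g⁻¹ ∈ Subgroup.centralizer ({z} : Set G), (⟨g * z * g⁻¹, hq⟩ : Subgroup.centralizer ({z} : Set G)) ∈ Q) ∧ g * z * g⁻¹ ≠ z) (hsimp : IsSimpleGroup (↥(Subgroup.centralizer ({z} : Set G)) ⧸ Q)) (hna : ¬ IsMulCommutative (↥(Subgroup.centralizer ({z} : Set G)) ⧸ Q)) (hirr : ∀ W : Subgroup (Subgroup.centralizer ({z} : Set G)), W.Normal → W ≤ Q → (W = Q ∨ ∀ x ∈ W, (x : G) ∈ Subgroup.zpowers z)) (hwcl : Subgroup.closure {x : Subgroup.centralizer ({z} : Set G) | IsConj z (x : G)} ≠ Q) : IsSimpleGroup G := by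
  classical
  set Q' := Q.map           (Subgroup.centralizer ({z} : Set G)).subtype with hQ'
  have hQC : Q' ≤ (Subgroup.centralizer ({z} : Set G)) := Subgroup.map_subtype_le _
  have hF' : (Cfsg.generalizedFittingSubgroup ↥(Subgroup.centralizer ({z} : Set G))).map           (Subgroup.centralizer ({z} : Set G)).subtype = Q' := by rw [hF]
  let e : ↥Q ≃* ↥Q' := Q.equivMapOfInjective _           (Subgroup.centralizer ({z} : Set G)).subtype_injective
  have hE' : Cfsg.IsExtraspecial 2 ↥Q' := Cfsg.Agent.Lib.Classification.isExtraspecial_of_mulEquiv e hQ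
  have hcard' : Nat.card ↥Q' = 2 ^ (2 * w + 1) := by rw [← Nat.card_congr e.toEquiv, hcard]
  obtain ⟨g, ⟨hgC, hgQ⟩, hgne⟩ := hnwc
  have hx : g * z * g⁻¹ ∈ Q' := ⟨⟨_, hgC⟩, hgQ, rfl⟩
  have hlarge := large_of_fstar hz hQC hF' hE' w hw hcard' hx hgne
  obtain ⟨hzQ', hZ, -, -⟩ := fstar_center_data hz hQC hF' hE'
  refine simple_of_large hz hlarge hZ fun N hN hzN => ?_
  -- the normal subgroup of `(Subgroup.centralizer ({z} : Set G))` generated by the conjugates of `z` in `(Subgroup.centralizer ({z} : Set G))`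
  set W := Subgroup.closure {x : (Subgroup.centralizer ({z} : Set G)) | IsConj z (x : G)} with hW
  have hWN : ∀ x ∈ W, (x : G) ∈ N := by
    intro x hx
    induction hx using Subgroup.closure_induction with
    | mem u hu =>
      obtain ⟨c, hc⟩ := isConj_iff.1 hu
      rw [← hc]; exact hN.conj_mem z hzN c
    | one => exact N.one_mem
    | mul a b _ _ ha hb => exact N.mul_mem ha hb
    | inv a _ ha => exact N.inv_mem ha
  have hWn : W.Normal := by
    refine ⟨fun x hx c => ?_⟩
    induction hx using Subgroup.closure_induction with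
    | mem u hu =>
      refine Subgroup.subset_closure ?_
      exact hu.trans (isConj_iff.2 ⟨(c : G), rfl⟩)
    | one => simp
    | mul a b _ _ ha hb =>
      rw [show c * (a * b) * c⁻¹ = (c * a * c⁻¹) * (c * b * c⁻¹) by group]
      exact W.mul_mem ha hb
    | inv a _ ha =>
      rw [show c * a⁻¹ * c⁻¹ = (c * a * c⁻¹)⁻¹ by group]
      exact W.inv_mem ha
  have hxW : (⟨_, hgC⟩ : (Subgroup.centralizer ({z} : Set G))) ∈ W := Subgroup.subset_closure (isConj_iff.2 ⟨g, rfl⟩)
  haveI := hWn
  have hQW : Q ≤ W := by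
    rcases hirr (W ⊓ Q) inferInstance inf_le_right with h | h
    · exact h ▸ inf_le_left
    · exfalso
      have h1 := h _ ⟨hxW, hgQ⟩
      rcases Cfsg.Agent.Lib.Classification.TwoExtraData.mem_zpowers
        (Cfsg.Agent.Lib.Classification.TwoExtraData.of_isExtraspecial hE' hzQ' hz
          (fun q hq => (Subgroup.mem_centralizer_singleton_iff.1 (hQC hq)).symm)) h1 with e | e
      · rw [conj_eq_one_iff] at e; rw [e, orderOf_one] at hz; exact absurd hz (by norm_num)
      · exact hgne e
  haveI := hsimp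
  haveI := hWn
  have hmap : (W.map (QuotientGroup.mk' Q)).Normal := hWn.map _ (QuotientGroup.mk'_surjective Q)
  rcases hmap.eq_bot_or_eq_top with h | h
  · rw [Subgroup.map_eq_bot_iff, QuotientGroup.ker_mk'] at h
    exact absurd (le_antisymm h hQW) hwcl
  · intro c hc
    have hm : QuotientGroup.mk' Q ⟨c, hc⟩ ∈ W.map (QuotientGroup.mk' Q) := by rw [h]; trivial
    obtain ⟨v, hv, hve⟩ := hm
    obtain ⟨q, hq, hqe⟩ := (QuotientGroup.mk'_eq_mk' Q).1 hve
    exact hWN ⟨c, hc⟩ (hqe ▸ W.mul_mem hv (hQW hq))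

end Cfsg.Agent.S5436
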