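import Cfsg.Statements.S5437
import Cfsg.Agent.Lib.ThreeTransp.Invol

set_option autoImplicit false
open Cfsg Cfsg.Agent.Lib.ThreeTransp

namespace Cfsg.Agent.S5437

/-- Let I be a set of involutions of the finite group G closed under conjugation, and H a subgroup of G. The following are equivalent: (1) for every member x of I lying in H, the conjugates of x lying in H form a single H-class and the centralizer of x lies in H; (2) for every g outside H, no member of I lies in both H and g H g⁻¹; (3) every member of I lying in H fixes exactly one coset in the action of G on the cosets of H. -/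
theorem result {G : Type*} [Group G] [Finite G] (I : Set G) (hI : ∀ x ∈ I, orderOf x = 2) (hIc : ∀ g : G, ∀ x ∈ I, g * x * g⁻¹ ∈ I) (H : Subgroup G) : ((∀ x ∈ I, x ∈ H → (∀ g : G, g * x * g⁻¹ ∈ H → ∃ h ∈ H, h * x * h⁻¹ = g * x * g⁻¹) ∧ Subgroup.centralizer ({x} : Set G) ≤ H) ↔ (∀ g : G, g ∉ H → ∀ x ∈ I, ¬ (x ∈ H ∧ x ∈ (H : Subgroup G).map (MulAut.conj g).toMonoidHom))) ∧ ((∀ g : G, g ∉ H → ∀ x ∈ I, ¬ (x ∈ H ∧ x ∈ (H : Subgroup G).map (MulAut.conj g).toMonoidHom)) ↔ ∀ x ∈ I, x ∈ H → ∃! c : G ⧸ H, x • c = c) := by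
  constructor
  · constructor
    · intro hA g hg x hxI ⟨hxH, hxg⟩
      obtain ⟨y, hyH, hy⟩ := Subgroup.mem_map.1 hxg
      simp only [MulEquiv.coe_toMonoidHom, MulAut.conj_apply] at hy
      have hyI : y ∈ I := by
        have := hIc g⁻¹ x hxI
        rwa [← hy, inv_inv, show g⁻¹ * (g * y * g⁻¹) * g = y by group] at this
      obtain ⟨hfus, hcent⟩ := hA y hyI hyH
      obtain ⟨h, hh, he⟩ := hfus g (by rw [hy]; exact hxH)
      have hmem : h⁻¹ * g ∈ Subgroup.centralizer ({y} : Set G) := by
        rw [Subgroup.mem_centralizer_singleton_iff]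
        calc h⁻¹ * g * y = h⁻¹ * (g * y * g⁻¹) * g := by group
          _ = h⁻¹ * (h * y * h⁻¹) * g := by rw [he]
          _ = y * (h⁻¹ * g) := by group
      exact hg (by simpa using H.mul_mem hh (hcent hmem))
    · intro hB x hxI hxH
      have key : ∀ g : G, g * x * g⁻¹ ∈ H → g ∈ H := by
        intro g hgx
        by_contra hg
        exact hB g hg (g * x * g⁻¹) (hIc g x hxI) ⟨hgx, Subgroup.mem_map.2 ⟨x, hxH, by simp⟩⟩
      refine ⟨fun g hgx => ⟨g, key g hgx, rfl⟩, fun g hg => key g ?_⟩
      rw [Subgroup.mem_centralizer_singleton_iff] at hg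
      rw [hg, mul_assoc, mul_inv_cancel, mul_one]
      exact hxH
  · constructor
    · intro hB x hxI hxH
      refine ⟨((1 : G) : G ⧸ H), ?_, ?_⟩
      · show x • ((1 : G) : G ⧸ H) = ((1 : G) : G ⧸ H)
        rw [MulAction.Quotient.smul_coe, QuotientGroup.eq]
        simpa using hxH
      · intro c hc
        induction c using QuotientGroup.induction_on with
        | H g =>
          rw [MulAction.Quotient.smul_coe, QuotientGroup.eq, smul_eq_mul, mul_inv_rev] at hc
          rw [QuotientGroup.eq, mul_one]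
          refine H.inv_mem ?_
          by_contra hg
          refine hB g hg x hxI ⟨hxH, Subgroup.mem_map.2 ⟨g⁻¹ * x * g, ?_, by simp [mul_assoc]⟩⟩
          simpa [mul_assoc] using H.inv_mem hc
    · intro hC g hg x hxI ⟨hxH, hxg⟩
      obtain ⟨y, hyH, hy⟩ := Subgroup.mem_map.1 hxg
      simp only [MulEquiv.coe_toMonoidHom, MulAut.conj_apply] at hy
      obtain ⟨c, -, hu⟩ := hC x hxI hxH
      have h1 := hu ((1 : G) : G ⧸ H) (by
        show x • ((1 : G) : G ⧸ H) = ((1 : G) : G ⧸ H)
        rw [MulAction.Quotient.smul_coe, QuotientGroup.eq]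
        simpa using hxH)
      have h2 := hu (g : G ⧸ H) (by
        show x • (g : G ⧸ H) = (g : G ⧸ H)
        rw [MulAction.Quotient.smul_coe, QuotientGroup.eq, ← hy, smul_eq_mul]
        simpa [mul_assoc] using hyH)
      have h3 := QuotientGroup.eq.1 (h1.trans h2.symm)
      exact hg (by simpa using h3)

end Cfsg.Agent.S5437
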