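import Cfsg.Statements.S5438
import Cfsg.Agent.Lib.ThreeTransp.Invol

set_option autoImplicit false
open Cfsg Cfsg.Agent.Lib.ThreeTransp

namespace Cfsg.Agent.S5438

/-- Let z be a 2-central involution of the finite group G (an involution central in some Sylow 2-subgroup) and H a subgroup containing z such that the coset H is the only coset of H fixed by z (in the action of G on the cosets of H). Then H has odd index in G, and for every 2-element x of H the conjugates of x lying in H form a single H-class. -/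
theorem result {G : Type*} [Group G] [Finite G] (z : G) (hz : Cfsg.IsTwoCentralInvolution z) (H : Subgroup G) (hzH : z ∈ H) (hfix : ∀ g : G, g⁻¹ * z * g ∈ H → g ∈ H) : Odd H.index ∧ ∀ x ∈ H, (∃ k : ℕ, orderOf x = 2 ^ k) → ∀ g : G, g * x * g⁻¹ ∈ H → ∃ h ∈ H, h * x * h⁻¹ = g * x * g⁻¹ := by
  obtain ⟨hz2, P, hzP, hPc⟩ := hz
  have hfix' : ∀ g : G, g * z * g⁻¹ ∈ H → g ∈ H := fun g hg =>
    inv_mem_iff.1 (hfix g⁻¹ (by simpa using hg))
  have hPH : (P : Subgroup G) ≤ H := fun u hu => hfix' u (by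
    rw [hPc u hu, mul_assoc, mul_inv_cancel, mul_one]; exact hzH)
  constructor
  · rw [← Nat.not_even_iff_odd, even_iff_two_dvd]
    exact fun h => P.not_dvd_index (h.trans (Subgroup.index_dvd_of_le hPH))
  have hsyl : ∀ T : Sylow 2 G, z ∈ T → (T : Subgroup G) ≤ H := by
    intro T hzT u hu
    obtain ⟨k, hk⟩ := MulAction.exists_smul_eq G P T
    have hT : ∀ v, v ∈ T → k⁻¹ * v * k ∈ P := by
      intro v hv
      rw [← hk] at hv
      have := (Subgroup.mem_smul_pointwise_iff_exists v (MulAut.conj k) (P : Subgroup G)).1 hv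
      obtain ⟨s, hs, rfl⟩ := this
      simpa [mul_assoc] using (show s ∈ P from hs)
    have h1 := hPc _ (hT z hzT)
    have hkH : k ∈ H := by
      apply hfix'
      apply hfix'
      have e : (k * z * k⁻¹) * z * (k * z * k⁻¹)⁻¹ = z := by
        calc (k * z * k⁻¹) * z * (k * z * k⁻¹)⁻¹
            = k * (z * (k⁻¹ * z * k)) * z⁻¹ * k⁻¹ := by group
          _ = k * ((k⁻¹ * z * k) * z) * z⁻¹ * k⁻¹ := by rw [← h1]
          _ = z := by group
      rw [e]; exact hzH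
    have h2 := H.mul_mem (H.mul_mem hkH (hPH (hT u hu))) (H.inv_mem hkH)
    simpa [mul_assoc] using h2
  intro x hx hx2 g hgx
  obtain ⟨j, hj⟩ := hx2
  have hT0 : ∀ T : Sylow 2 G, (T : Subgroup G) ≤ H → ∀ T' : Sylow 2 G, (T' : Subgroup G) ≤ H →
      ∃ h ∈ H, h • T = T' := by
    intro T hT T' hT'
    obtain ⟨h, hh⟩ := MulAction.exists_smul_eq H (T.subtype hT) (T'.subtype hT')
    exact ⟨h, h.2, by rw [Sylow.smul_subtype] at hh; exact Sylow.subtype_injective hh⟩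
  have conjP : ∀ y ∈ H, (∃ j, orderOf y = 2 ^ j) → ∃ h ∈ H, h * y * h⁻¹ ∈ P := by
    intro y hy ⟨j, hj⟩
    let yH : H := ⟨y, hy⟩
    have hp : IsPGroup 2 (Subgroup.zpowers yH) := IsPGroup.of_card (n := j) (by
      rw [Nat.card_zpowers, ← Subgroup.orderOf_coe]; exact hj)
    obtain ⟨S, hS⟩ := hp.exists_le_sylow
    obtain ⟨h, hh⟩ := MulAction.exists_smul_eq H S (P.subtype hPH)
    refine ⟨h, h.2, ?_⟩
    have : h * yH * h⁻¹ ∈ h • S := by
      show h * yH * h⁻¹ ∈ ((h • S : Sylow 2 H) : Subgroup H)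
      rw [Sylow.coe_subgroup_smul]
      exact (Subgroup.mem_smul_pointwise_iff_exists _ (MulAut.conj h) _).2
        ⟨yH, hS (Subgroup.mem_zpowers yH), rfl⟩
    rw [hh] at this
    exact this
  obtain ⟨h1, h1H, h1x⟩ := conjP x hx ⟨j, hj⟩
  obtain ⟨h2, h2H, h2y⟩ := conjP _ hgx ⟨j, by rw [orderOf_conj, hj]⟩
  -- reduced elements `a = k⁻¹ b k` of `P`
  set k := h2 * g * h1⁻¹ with hkdef
  set a := h1 * x * h1⁻¹ with hadef
  set b := h2 * (g * x * g⁻¹) * h2⁻¹ with hbdef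
  have hab : k * a * k⁻¹ = b := by rw [hkdef, hadef, hbdef]; group
  let C := Subgroup.centralizer ({b} : Set G)
  have hzC : z ∈ C := by
    rw [Subgroup.mem_centralizer_singleton_iff]; exact (hPc b h2y).symm
  have hkzC : k * z * k⁻¹ ∈ C := by
    rw [Subgroup.mem_centralizer_singleton_iff, ← hab]
    have := hPc a h1x
    calc k * z * k⁻¹ * (k * a * k⁻¹) = k * (z * a) * k⁻¹ := by group
      _ = k * (a * z) * k⁻¹ := by rw [this]
      _ = k * a * k⁻¹ * (k * z * k⁻¹) := by group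
  have hpz : IsPGroup 2 (Subgroup.zpowers (⟨z, hzC⟩ : C)) := IsPGroup.of_card (n := 1) (by
    rw [Nat.card_zpowers, ← Subgroup.orderOf_coe, pow_one]; exact hz2)
  obtain ⟨R, hR⟩ := hpz.exists_le_sylow
  have hpz' : IsPGroup 2 (Subgroup.zpowers (⟨k * z * k⁻¹, hkzC⟩ : C)) := IsPGroup.of_card (n := 1) (by
    rw [Nat.card_zpowers, ← Subgroup.orderOf_coe, pow_one]
    exact (orderOf_conj k z).trans hz2)
  obtain ⟨R', hR'⟩ := hpz'.exists_le_sylow
  obtain ⟨c, hc⟩ := MulAction.exists_smul_eq C R' R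
  have hRH : ∀ u : C, u ∈ R → (u : G) ∈ H := by
    intro u hu
    obtain ⟨T, hT⟩ := (R.2.map C.subtype).exists_le_sylow
    exact hsyl T (hT ⟨_, hR (Subgroup.mem_zpowers _), rfl⟩) (hT ⟨u, hu, rfl⟩)
  have hmem : c * (⟨k * z * k⁻¹, hkzC⟩ : C) * c⁻¹ ∈ R := by
    rw [← hc]
    show _ ∈ ((c • R' : Sylow 2 C) : Subgroup C)
    rw [Sylow.coe_subgroup_smul]
    exact (Subgroup.mem_smul_pointwise_iff_exists _ (MulAut.conj c) _).2
      ⟨_, hR' (Subgroup.mem_zpowers _), rfl⟩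
  have hck : (c : G) * k ∈ H := hfix' _ (by simpa [mul_assoc] using hRH _ hmem)
  refine ⟨h2⁻¹ * ((c : G) * k) * h1, H.mul_mem (H.mul_mem (H.inv_mem h2H) hck) h1H, ?_⟩
  have hcb : (c : G) * b = b * c := Subgroup.mem_centralizer_singleton_iff.1 c.2
  calc h2⁻¹ * ((c : G) * k) * h1 * x * (h2⁻¹ * ((c : G) * k) * h1)⁻¹
      = h2⁻¹ * ((c : G) * (k * a * k⁻¹)) * (c : G)⁻¹ * h2 := by rw [hadef]; group
    _ = h2⁻¹ * (b * c) * (c : G)⁻¹ * h2 := by rw [hab, hcb]
    _ = g * x * g⁻¹ := by rw [hbdef]; group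

end Cfsg.Agent.S5438
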