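import Cfsg.Statements.S5439
import Cfsg.Agent.Lib.ThreeTransp.Invol

set_option autoImplicit false
open Cfsg Cfsg.Agent.Lib.ThreeTransp

namespace Cfsg.Agent.S5439

/-- Let I and J be two different conjugacy classes of involutions of the finite group G and H a subgroup such that every member of I ∪ J fixes exactly one coset in the action on the cosets of H, and such that for every a in I ∩ H and every b in (I ∪ J) ∩ H different from a and commuting with it, the centralizer of a b lies in H. Then H = G. -/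
theorem result {G : Type*} [Group G] [Finite G] (I J : Set G) (a₀ b₀ : G) (ha₀ : orderOf a₀ = 2) (hb₀ : orderOf b₀ = 2) (hI : I = {x | IsConj a₀ x}) (hJ : J = {x | IsConj b₀ x}) (hIJ : I ≠ J) (H : Subgroup G) (hfix : ∀ x ∈ I ∪ J, ∃! c : G ⧸ H, x • c = c) (hcent : ∀ a ∈ I, a ∈ H → ∀ b ∈ I ∪ J, b ∈ H → a ≠ b → a * b = b * a → Subgroup.centralizer ({a * b} : Set G) ≤ H) : H = ⊤ := by
  have hIc : ∀ g x, x ∈ I → g * x * g⁻¹ ∈ I := by
    subst hI; exact fun g x hx => hx.trans (isConj_conj g x)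
  have hJc : ∀ g x, x ∈ J → g * x * g⁻¹ ∈ J := by
    subst hJ; exact fun g x hx => hx.trans (isConj_conj g x)
  have ordI : ∀ x ∈ I, orderOf x = 2 := by
    subst hI; intro x hx; obtain ⟨c, rfl⟩ := isConj_iff.1 hx; rw [orderOf_conj]; exact ha₀
  have ordJ : ∀ x ∈ J, orderOf x = 2 := by
    subst hJ; intro x hx; obtain ⟨c, rfl⟩ := isConj_iff.1 hx; rw [orderOf_conj]; exact hb₀
  have fixH : ∀ x ∈ H, x • ((1 : G) : G ⧸ H) = ((1 : G) : G ⧸ H) := by
    intro x hx; rw [MulAction.Quotient.smul_coe, QuotientGroup.eq]; simpa using hx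
  have key : ∀ x ∈ I ∪ J, x ∈ H → ∀ g : G, g⁻¹ * x * g ∈ H → g ∈ H := by
    intro x hx hxH g hg
    obtain ⟨c, -, hu⟩ := hfix x hx
    have h2 : x • (g : G ⧸ H) = (g : G ⧸ H) := by
      rw [MulAction.Quotient.smul_coe, QuotientGroup.eq]
      simpa [mul_assoc] using H.inv_mem hg
    have h3 := QuotientGroup.eq.1 ((hu _ (fixH x hxH)).trans (hu _ h2).symm)
    simpa using h3
  have hfixed : ∀ x ∈ I ∪ J, ∃ g : G, g⁻¹ * x * g ∈ H := by
    intro x hx
    obtain ⟨c, hc, -⟩ := hfix x hx
    induction c using QuotientGroup.induction_on with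
    | H g =>
      rw [MulAction.Quotient.smul_coe, QuotientGroup.eq, smul_eq_mul] at hc
      exact ⟨g, by simpa [mul_assoc] using H.inv_mem hc⟩
  have ha0I : a₀ ∈ I := by subst hI; exact IsConj.refl a₀
  have hb0J : b₀ ∈ J := by subst hJ; exact IsConj.refl b₀
  have cenH : ∀ x ∈ I ∪ J, x ∈ H → ∀ g : G, Commute x g → g ∈ H := by
    intro x hx hxH g hg
    refine key x hx hxH g ?_
    rw [mul_assoc, hg.eq, ← mul_assoc, inv_mul_cancel, one_mul]; exact hxH
  obtain ⟨g, hga⟩ := hfixed a₀ (Or.inl ha0I)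
  have hga' : g⁻¹ * a₀ * g ∈ I := by simpa using hIc g⁻¹ a₀ ha0I
  have allJ : ∀ b ∈ J, b ∈ H := by
    intro b hb
    generalize g⁻¹ * a₀ * g = a at hga hga'
    have ha2 := ordI a hga'
    have hb2 := ordJ b hb
    have hne : ¬ IsConj a b := by
      intro h
      apply hIJ
      subst hI hJ
      have h1 : IsConj a₀ b₀ := (IsConj.trans hga' h).trans hb.symm
      ext y
      exact ⟨fun hy => h1.symm.trans hy, fun hy => h1.trans hy⟩
    rcases Nat.even_or_odd (orderOf (a * b)) with ⟨m, hm⟩ | hodd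
    · have hm' : 0 < m := by
        have := orderOf_pos (a * b); omega
      obtain ⟨hz, hca, hcb, hconj⟩ := even_case ha2 hb2 hm' (by omega)
      have hmem : a * (a * b) ^ m ∈ I ∪ J := by
        subst hI hJ
        exact hconj.imp (fun h => IsConj.trans hga' h) (fun h => IsConj.trans hb h)
      have hzH : (a * b) ^ m ∈ H := cenH a (Or.inl hga') hga _ hca
      have hne' : a ≠ a * (a * b) ^ m := by
        intro h; exact inv_ne_one hz (mul_eq_left.1 h.symm)
      have hC := hcent a hga' hga _ hmem (H.mul_mem hga hzH) hne'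
        ((Commute.refl a).mul_right hca).eq
      rw [← mul_assoc a a, inv_sq ha2, one_mul] at hC
      exact hC (Subgroup.mem_centralizer_singleton_iff.2 hcb.eq)
    · exact absurd (isConj_of_odd ha2 hb2 hodd) hne
  refine eq_top_iff.2 fun y _ => ?_
  exact key b₀ (Or.inr hb0J) (allJ _ hb0J) y (allJ _ (by simpa using hJc y⁻¹ b₀ hb0J))

end Cfsg.Agent.S5439
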