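import Cfsg.Statements.S5452
import Cfsg.Agent.Lib.ThreeTransp.UnitarySixClass

set_option autoImplicit false
open Cfsg

namespace Cfsg.Agent.S5452

/-- Let G be a finite group with an involution d whose centralizer C is quasisimple with C modulo the subgroup generated by d isomorphic to the projective special unitary group of dimension 6 over the field with four elements, and suppose some conjugate of d other than d commutes with d. Then every involution of C modulo the subgroup generated by d is the image of an involution of C, and d is not a square in G. -/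
theorem result {G : Type*} [Group G] [Finite G] (d : G) (hd : orderOf d = 2) (hq : Cfsg.IsQuasisimple ↥(Subgroup.centralizer ({d} : Set G))) [hzn : ((Subgroup.zpowers d).subgroupOf (Subgroup.centralizer ({d} : Set G))).Normal] (K : Type) [Field K] [Fintype K] (hK : Fintype.card K = 4) (e : ↥(Subgroup.centralizer ({d} : Set G)) ⧸ (Subgroup.zpowers d).subgroupOf (Subgroup.centralizer ({d} : Set G)) ≃* Cfsg.PSU 6 K 2) (hnwc : ∃ g : G, g * d * g⁻¹ ∈ Subgroup.centralizer ({d} : Set G) ∧ g * d * g⁻¹ ≠ d) : (∀ x : ↥(Subgroup.centralizer ({d} : Set G)) ⧸ (Subgroup.zpowers d).subgroupOf (Subgroup.centralizer ({d} : Set G)), orderOf x = 2 → ∃ y : ↥(Subgroup.centralizer ({d} : Set G)), orderOf y = 2 ∧ (QuotientGroup.mk y : ↥(Subgroup.centralizer ({d} : Set G)) ⧸ (Subgroup.zpowers d).subgroupOf (Subgroup.centralizer ({d} : Set G))) = x) ∧ ¬ ∃ g : G, g ^ 2 = d := by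
  set C := Subgroup.centralizer ({d} : Set G)
  set N := (Subgroup.zpowers d).subgroupOf C
  set p : ↥C →* Cfsg.PSU 6 K 2 := e.toMonoidHom.comp (QuotientGroup.mk' N) with hpdef
  have hp : Function.Surjective p := e.surjective.comp (QuotientGroup.mk'_surjective N)
  have hdC : d ∈ C := Subgroup.mem_centralizer_singleton_iff.2 rfl
  have hd2 : d * d = 1 := by rw [← pow_two, ← hd, pow_orderOf_eq_one]
  have hdc : (⟨d, hdC⟩ : ↥C) ∈ Subgroup.center ↥C := by
    rw [Subgroup.mem_center_iff]
    exact fun g => Subtype.ext (Subgroup.mem_centralizer_singleton_iff.1 g.2)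
  have hker : ∀ x, p x = 1 → x = 1 ∨ x = ⟨d, hdC⟩ := by
    intro x hx
    have hxN : x ∈ N := by
      refine (QuotientGroup.eq_one_iff x).1 (e.injective ?_)
      rw [map_one]; exact hx
    obtain ⟨k, hk⟩ := Subgroup.mem_zpowers_iff.1 (Subgroup.mem_subgroupOf.1 hxN)
    rcases Int.even_or_odd k with ⟨m, rfl⟩ | ⟨m, rfl⟩
    · left
      apply Subtype.ext
      rw [← hk, ← two_mul, zpow_mul, zpow_two, hd2, one_zpow]; rfl
    · right
      apply Subtype.ext
      rw [← hk, zpow_add, zpow_mul, zpow_two, hd2, one_zpow, one_mul, zpow_one]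
  have hlift := Cfsg.Agent.Lib.ThreeTransp.UnitaryFour.lift_of_double_cover
    (show Fintype.card K = 2 ^ 2 from hK) p hp (d := ⟨d, hdC⟩) (Subtype.ext hd2) hdc hker
  refine ⟨fun x hx => ?_, ?_⟩
  · have hxx : x * x = 1 := by rw [← pow_two, ← hx, pow_orderOf_eq_one]
    obtain ⟨y, hy, hyx⟩ := hlift (e x) (by rw [← map_mul, hxx, map_one])
    have hmk : QuotientGroup.mk' N y = x := e.injective hyx
    refine ⟨y, orderOf_eq_prime (by rw [pow_two]; exact hy) ?_, hmk⟩
    intro h1
    rw [h1, map_one] at hmk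
    rw [← hmk, orderOf_one] at hx
    omega
  · rintro ⟨g, hg⟩
    have hgC : g ∈ C := Subgroup.mem_centralizer_singleton_iff.2 (by rw [← hg, ← pow_succ, ← pow_succ'])
    have hgg : p ⟨g, hgC⟩ * p ⟨g, hgC⟩ = 1 := by
      rw [← map_mul, show (⟨g, hgC⟩ : ↥C) * ⟨g, hgC⟩ = ⟨d, hdC⟩ from Subtype.ext ((pow_two g).symm.trans hg)]
      show e (QuotientGroup.mk' N ⟨d, hdC⟩) = 1
      rw [show QuotientGroup.mk' N ⟨d, hdC⟩ = 1 from
        (QuotientGroup.eq_one_iff _).2 (Subgroup.mem_subgroupOf.2 (Subgroup.mem_zpowers d)), map_one]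
    obtain ⟨y, hy, hyx⟩ := hlift _ hgg
    have hy2 : (y : G) * y = 1 := congrArg Subtype.val hy
    have hd1 : d ≠ 1 := fun h => by rw [h, orderOf_one] at hd; omega
    apply hd1
    rw [← hg, pow_two]
    rcases hker (⟨g, hgC⟩ * y⁻¹) (by rw [map_mul, map_inv, hyx, mul_inv_cancel]) with h | h
    · rw [show g = (y : G) from congrArg Subtype.val (mul_inv_eq_one.1 h), hy2]
    · have hgy : g = d * (y : G) := congrArg Subtype.val (mul_inv_eq_iff_eq_mul.1 h)
      have hdy : (y : G) * d = d * (y : G) := Subgroup.mem_centralizer_singleton_iff.1 y.2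
      calc g * g = d * ((y : G) * d) * (y : G) := by rw [hgy]; simp only [mul_assoc]
        _ = (d * d) * ((y : G) * y) := by rw [hdy]; simp only [mul_assoc]
        _ = 1 := by rw [hd2, hy2, one_mul]

end Cfsg.Agent.S5452
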