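import Cfsg.Statements.S5459
-- import your own Cfsg.Agent.* helpers here

set_option autoImplicit false
open Cfsg
open scoped commutatorElement

namespace Cfsg.Agent.S5459

/-- Let G be a finite group with a quasisimple normal subgroup L and an involution d such that G is generated by L and d, the centre of L has odd order, and d inverts every element of the centre of L. If the commuting graph on the conjugacy class of the image of d in G modulo the centre of L is connected, then the commuting graph on the conjugacy class of d is connected. -/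
theorem result {G : Type*} [Group G] [Finite G] (L : Subgroup G) [L.Normal] (hL : Cfsg.IsQuasisimple ↥L) (d : G) (hd : orderOf d = 2) (hgen : L ⊔ Subgroup.zpowers d = ⊤) (hodd : Odd (Nat.card ↥(Subgroup.center ↥L))) (hinv : ∀ c ∈ (Subgroup.center ↥L).map L.subtype, d * c * d⁻¹ = c⁻¹) [hn : ((Subgroup.center ↥L).map L.subtype).Normal] (hconn : (Cfsg.commutingGraph (conjugatesOf (QuotientGroup.mk d : G ⧸ (Subgroup.center ↥L).map L.subtype))).Connected) : (Cfsg.commutingGraph (conjugatesOf d)).Connected := by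
  obtain ⟨hperf, hsimple⟩ := hL
  set Z := (Subgroup.center ↥L).map L.subtype with hZdef
  have hZL : Z ≤ L := Subgroup.map_subtype_le _
  have hdd : d * d = 1 := by rw [← pow_two, ← hd, pow_orderOf_eq_one]
  have hinvD : ∀ x ∈ conjugatesOf d, ∀ c ∈ Z, x * c * x⁻¹ = c⁻¹ := by
    intro x hx c hc
    obtain ⟨g, rfl⟩ := isConj_iff.1 (hx : IsConj d x)
    have h := hinv _ (hn.conj_mem c hc g⁻¹)
    calc g * d * g⁻¹ * c * (g * d * g⁻¹)⁻¹ = g * (d * (g⁻¹ * c * g⁻¹⁻¹) * d⁻¹) * g⁻¹ := by group
      _ = c⁻¹ := by rw [h]; group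
  have hroot : ∀ c ∈ Z, ∃ e ∈ Z, e * e = c := by
    intro c hc
    obtain ⟨k, hk⟩ : Odd (Nat.card Z) := by
      rw [hZdef, Subgroup.card_map_of_injective L.subtype_injective]; exact hodd
    refine ⟨c ^ (k + 1), Z.pow_mem hc _, ?_⟩
    have hpow : c ^ Nat.card Z = 1 := congrArg Subtype.val (pow_card_eq_one' (x := (⟨c, hc⟩ : Z)))
    rw [← pow_add, show k + 1 + (k + 1) = Nat.card Z + 1 by omega, pow_succ, hpow, one_mul]
  have hshift : ∀ y ∈ conjugatesOf d, ∀ e ∈ Z, y * e ∈ conjugatesOf d := by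
    intro y hy e he
    obtain ⟨f, hf, rfl⟩ := hroot e he
    have h1 : f⁻¹ * y = y * f := by rw [← hinvD y hy f hf]; group
    refine IsConj.trans hy (isConj_iff.2 ⟨f⁻¹, ?_⟩)
    rw [inv_inv, h1, mul_assoc]
  have hstep : ∀ {u v : conjugatesOf d}, Commute (u : G) v → (Cfsg.commutingGraph (conjugatesOf d)).Reachable u v := by
    intro u v h
    by_cases huv : u = v
    · rw [huv]
    · exact SimpleGraph.Adj.reachable (by
        simp only [Cfsg.commutingGraph, SimpleGraph.fromRel_adj]; exact ⟨huv, Or.inl h⟩)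
  let d0 : conjugatesOf d := ⟨d, IsConj.refl d⟩
  set K : Set G := {y | ∃ h : y ∈ conjugatesOf d, (Cfsg.commutingGraph (conjugatesOf d)).Reachable d0 ⟨y, h⟩}
    with hK
  have hdK : d ∈ K := ⟨IsConj.refl d, SimpleGraph.Reachable.refl _⟩
  -- lifting walks
  have hlift : ∀ {a b}, (Cfsg.commutingGraph (conjugatesOf (QuotientGroup.mk d : G ⧸ Z))).Walk a b →
      ∀ x ∈ K, QuotientGroup.mk x = (a : G ⧸ Z) → ∃ y ∈ K, QuotientGroup.mk y = (b : G ⧸ Z) := by
    intro a b p
    induction p with
    | nil => exact fun x hx hxa => ⟨x, hx, hxa⟩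
    | @cons a b c hab _ ih =>
      rintro x ⟨hxD, hxr⟩ hxa
      obtain ⟨g, hg⟩ := isConj_iff.1 (b.2 : IsConj _ (b : G ⧸ Z))
      obtain ⟨g, rfl⟩ := QuotientGroup.mk_surjective g
      have hy : g * d * g⁻¹ ∈ conjugatesOf d := isConj_iff.2 ⟨g, rfl⟩
      have hyb : QuotientGroup.mk (g * d * g⁻¹) = (b : G ⧸ Z) := hg
      generalize g * d * g⁻¹ = y at hy hyb
      have hcomm : Commute (a : G ⧸ Z) b := by
        simp only [Cfsg.commutingGraph, SimpleGraph.fromRel_adj] at hab
        rcases hab.2 with h | h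
        · exact h
        · exact h.symm
      have hc : y⁻¹ * (x * y * x⁻¹) ∈ Z := by
        rw [← QuotientGroup.eq_one_iff, QuotientGroup.mk_mul, QuotientGroup.mk_mul, QuotientGroup.mk_mul,
          QuotientGroup.mk_inv, QuotientGroup.mk_inv, hxa, hyb, hcomm.eq, mul_inv_cancel_right,
          inv_mul_cancel]
      obtain ⟨e, he, hee⟩ := hroot _ hc
      have hy' := hshift y hy e he
      refine ih (y * e) ⟨hy', hxr.trans (hstep ?_)⟩ ?_
      · show x * (y * e) = y * e * x
        have h1 : x * (y * e) * x⁻¹ = y * e := by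
          calc x * (y * e) * x⁻¹ = y * (y⁻¹ * (x * y * x⁻¹)) * (x * e * x⁻¹) := by group
            _ = y * e := by rw [← hee, hinvD x hxD e he]; group
        calc x * (y * e) = x * (y * e) * x⁻¹ * x := by group
          _ = y * e * x := by rw [h1]
      · rw [QuotientGroup.mk_mul, (QuotientGroup.eq_one_iff e).2 he, mul_one, hyb]
  set H := Subgroup.closure K with hH
  have hDH : ∀ y ∈ conjugatesOf d, y ∈ H ⊔ Z := by
    intro y hy
    have hy' : (QuotientGroup.mk y : G ⧸ Z) ∈ conjugatesOf (QuotientGroup.mk d : G ⧸ Z) := by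
      obtain ⟨g, rfl⟩ := isConj_iff.1 (hy : IsConj d y)
      exact isConj_iff.2 ⟨QuotientGroup.mk g, rfl⟩
    obtain ⟨p⟩ := hconn.preconnected ⟨_, IsConj.refl _⟩ ⟨_, hy'⟩
    obtain ⟨y', hy'K, hyy⟩ := hlift p d hdK rfl
    have : y = y' * (y'⁻¹ * y) := by group
    rw [this]
    exact Subgroup.mul_mem_sup (Subgroup.subset_closure hy'K) (QuotientGroup.eq.1 hyy)
  have hnonempty : Nonempty (conjugatesOf d) := ⟨d0⟩
  suffices hall : ∀ y (hy : y ∈ conjugatesOf d), (Cfsg.commutingGraph (conjugatesOf d)).Reachable d0 ⟨y, hy⟩ from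
    ⟨fun u v => (hall u.1 u.2).symm.trans (hall v.1 v.2)⟩
  -- conjugation by a member of the component preserves it
  let act : ∀ g : G, Cfsg.commutingGraph (conjugatesOf d) →g Cfsg.commutingGraph (conjugatesOf d) := fun g =>
    { toFun := fun u => ⟨g * u.1 * g⁻¹, IsConj.trans u.2 (isConj_iff.2 ⟨g, rfl⟩)⟩
      map_rel' := fun {u v} huv => by
        simp only [Cfsg.commutingGraph, SimpleGraph.fromRel_adj] at huv ⊢
        refine ⟨fun h => huv.1 (Subtype.ext (by simpa using congrArg Subtype.val h)), ?_⟩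
        rcases huv.2 with h | h
        · exact Or.inl (h.map (MulAut.conj g))
        · exact Or.inr (h.map (MulAut.conj g)) }
  by_cases hdL : ∀ l ∈ L, d * l = l * d
  · intro y hy
    obtain ⟨g, rfl⟩ := isConj_iff.1 (hy : IsConj d y)
    have hg : g ∈ Subgroup.centralizer ({d} : Set G) := by
      have hle : L ⊔ Subgroup.zpowers d ≤ Subgroup.centralizer ({d} : Set G) :=
        sup_le (fun l hl => Subgroup.mem_centralizer_singleton_iff.2 (hdL l hl).symm)
          (Subgroup.zpowers_le.2 (Subgroup.mem_centralizer_singleton_iff.2 rfl))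
      exact hle (hgen ▸ Subgroup.mem_top g)
    refine hstep ?_
    show d * (g * d * g⁻¹) = g * d * g⁻¹ * d
    rw [Subgroup.mem_centralizer_singleton_iff.1 hg, mul_inv_cancel_right]
  -- the normal closure of `d` contains `L`
  set N := H ⊔ Z with hN
  have hdN : d ∈ N := hDH d (IsConj.refl d)
  have hLperf : ⁅L, L⁆ = L := by
    rw [← L.range_subtype, MonoidHom.range_eq_map, ← Subgroup.map_commutator]
    exact congrArg (Subgroup.map L.subtype) (hperf.commutator_eq_top)
  have hLN : L ≤ N := by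
    let M : Subgroup G := Subgroup.normalClosure ({d} : Set G)
    have hMN : M ≤ N := (Subgroup.closure_le N).2 fun x hx => by
      obtain ⟨a, ha, hxa⟩ := Group.mem_conjugatesOfSet_iff.1 hx
      rw [Set.mem_singleton_iff] at ha
      subst ha
      exact hDH x hxa
    have hdM : d ∈ M := Subgroup.subset_normalClosure rfl
    refine le_trans ?_ hMN
    let M' : Subgroup L := M.subgroupOf L
    rcases hsimple.eq_bot_or_eq_top_of_normal (M'.map (QuotientGroup.mk' (Subgroup.center L)))
        (Subgroup.Normal.map inferInstance _ (QuotientGroup.mk'_surjective _)) with hb | ht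
    · -- then `d` centralises `L`
      exfalso
      apply hdL
      have hcen : ∀ l ∈ L, ⁅l, d⁆ ∈ Z := fun l hl => by
        have hlM : ⁅l, d⁆ ∈ M := by
          rw [commutatorElement_def]
          exact M.mul_mem ((inferInstance : M.Normal).conj_mem d hdM l) (M.inv_mem hdM)
        have hlL : ⁅l, d⁆ ∈ L := by
          rw [commutatorElement_def, mul_assoc, mul_assoc]
          exact L.mul_mem hl (by rw [← mul_assoc]; exact Subgroup.Normal.conj_mem inferInstance _ (L.inv_mem hl) d)
        have : (⟨_, hlL⟩ : L) ∈ M' := hlM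
        have := Subgroup.mem_map_of_mem (QuotientGroup.mk' (Subgroup.center L)) this
        rw [hb, Subgroup.mem_bot] at this
        exact ⟨_, (QuotientGroup.eq_one_iff _).1 this, rfl⟩
      have hZc : ∀ c ∈ Z, ∀ l ∈ L, l * c = c * l := by
        rintro _ ⟨c, hc, rfl⟩ l hl
        exact congrArg Subtype.val (Subgroup.mem_center_iff.1 hc ⟨l, hl⟩)
      let φ : L →* Z :=
        { toFun := fun l => ⟨⁅(l : G), d⁆, hcen l l.2⟩
          map_one' := Subtype.ext (by simp)
          map_mul' := fun a b => Subtype.ext (by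
            simp only [Subgroup.coe_mul, commutatorElement_def]
            have h := hZc _ (hcen b b.2) a a.2
            rw [commutatorElement_def] at h
            calc (a : G) * b * d * ((a : G) * b)⁻¹ * d⁻¹
                = (a : G) * ((b : G) * d * (b : G)⁻¹ * d⁻¹) * d * (a : G)⁻¹ * d⁻¹ := by group
              _ = (b : G) * d * (b : G)⁻¹ * d⁻¹ * ((a : G) * d * (a : G)⁻¹ * d⁻¹) := by rw [h]; group
              _ = (a : G) * d * (a : G)⁻¹ * d⁻¹ * ((b : G) * d * (b : G)⁻¹ * d⁻¹) := by
                  exact (hZc _ (hcen b b.2) _ (hZL (hcen a a.2))).symm) }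
      have hZcomm : ∀ u v : Z, u * v = v * u := fun u v => Subtype.ext (hZc _ v.2 _ (hZL u.2))
      intro l hl
      have hker : commutator L ≤ φ.ker := by
        rw [_root_.commutator_def, Subgroup.commutator_le]
        intro a _ b _
        rw [MonoidHom.mem_ker, map_commutatorElement, commutatorElement_eq_one_iff_mul_comm]
        exact hZcomm _ _
      rw [hperf.commutator_eq_top] at hker
      have h := congrArg Subtype.val (MonoidHom.mem_ker.1 (hker (Subgroup.mem_top (⟨l, hl⟩ : L))))
      exact (commutatorElement_eq_one_iff_mul_comm.1 h).symm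
    · -- `L = (M ∩ L) Z(L)`
      intro l hl
      have hsup : M' ⊔ Subgroup.center L = ⊤ := by
        rw [← QuotientGroup.ker_mk' (Subgroup.center L), ← Subgroup.comap_map_eq, ht, Subgroup.comap_top]
      have hle : commutator L ≤ M' := Subgroup.Normal.commutator_le_of_self_sup_commutative_eq_top hsup inferInstance
      rw [hperf.commutator_eq_top] at hle
      exact hle (Subgroup.mem_top (⟨l, hl⟩ : L))
  have hLH : L ≤ H := by
    have hZn : ∀ h ∈ H, ∀ c ∈ Z, h * c * h⁻¹ ∈ Z := fun h _ c hc => hn.conj_mem c hc h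
    have hdec : ∀ l ∈ L, ∃ h ∈ H, h ∈ L ∧ ∃ c ∈ Z, l = h * c := by
      intro l hl
      obtain ⟨h, hh, c, hc, rfl⟩ := Subgroup.mem_sup_of_normal_right.1 (hLN hl)
      exact ⟨h, hh, by simpa using L.mul_mem hl (L.inv_mem (hZL hc)), c, hc, rfl⟩
    have hcl : ∀ c ∈ Z, ∀ l ∈ L, l * c = c * l := by
      rintro _ ⟨c, hc, rfl⟩ l hl
      exact congrArg Subtype.val (Subgroup.mem_center_iff.1 hc ⟨l, hl⟩)
    rw [← hLperf, Subgroup.commutator_le]
    intro a ha b hb
    obtain ⟨u, hu, huL, c, hc, rfl⟩ := hdec a ha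
    obtain ⟨v, hv, hvL, c', hc', rfl⟩ := hdec b hb
    have : ⁅u * c, v * c'⁆ = ⁅u, v⁆ := by
      rw [commutatorElement_def, commutatorElement_def]
      calc u * c * (v * c') * (u * c)⁻¹ * (v * c')⁻¹
          = u * (c * (v * c')) * c⁻¹ * u⁻¹ * c'⁻¹ * v⁻¹ := by group
        _ = u * v * (c' * u⁻¹) * c'⁻¹ * v⁻¹ := by rw [← hcl c hc _ hb]; group
        _ = u * v * u⁻¹ * v⁻¹ := by rw [← hcl c' hc' _ (L.inv_mem huL)]; group
    rw [this, commutatorElement_def]
    exact H.mul_mem (H.mul_mem (H.mul_mem hu hv) (H.inv_mem hu)) (H.inv_mem hv)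
  have hHtop : H = ⊤ := top_unique (hgen ▸ sup_le hLH (Subgroup.zpowers_le.2 (Subgroup.subset_closure hdK)))
  have hinvK : ∀ g : G, ∀ y, g * y * g⁻¹ ∈ K ↔ y ∈ K := by
    intro g
    have hgH : g ∈ H := hHtop ▸ Subgroup.mem_top g
    induction hgH using Subgroup.closure_induction with
    | mem k hk =>
      obtain ⟨hkD, hkr⟩ := hk
      have hkk : k * k = 1 := by
        obtain ⟨g, rfl⟩ := isConj_iff.1 (hkD : IsConj d k)
        calc g * d * g⁻¹ * (g * d * g⁻¹) = g * (d * d) * g⁻¹ := by group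
          _ = 1 := by rw [hdd]; group
      have hfwd : ∀ y ∈ K, k * y * k⁻¹ ∈ K := by
        rintro y ⟨hyD, hyr⟩
        refine ⟨IsConj.trans hyD (isConj_iff.2 ⟨k, rfl⟩), ?_⟩
        have h1 := hkr.map (act k)
        have h2 := hyr.map (act k)
        have hfix : act k ⟨k, hkD⟩ = ⟨k, hkD⟩ := Subtype.ext (mul_inv_cancel_right k k)
        rw [hfix] at h1
        exact (hkr.trans h1.symm).trans h2
      refine fun y => ⟨fun h => ?_, hfwd y⟩
      have := hfwd _ h
      rwa [show k * (k * y * k⁻¹) * k⁻¹ = k * k * y * (k * k)⁻¹ by group, hkk, one_mul, inv_one, mul_one] at this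
    | one => intro y; simp
    | mul a b _ _ iha ihb =>
      intro y
      rw [show a * b * y * (a * b)⁻¹ = a * (b * y * b⁻¹) * a⁻¹ by group, iha, ihb]
    | inv a _ ih =>
      intro y
      rw [← ih, show a * (a⁻¹ * y * a⁻¹⁻¹) * a⁻¹ = y by group]
  intro y hy
  obtain ⟨g, rfl⟩ := isConj_iff.1 (hy : IsConj d y)
  exact ((hinvK g d).2 hdK).2

end Cfsg.Agent.S5459
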