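import Cfsg.Statements.S5463
import Cfsg.Agent.Lib.ThreeTransp.TripleProducts

set_option autoImplicit false
open Cfsg

namespace Cfsg.Agent.S5463

open Cfsg.Agent.Lib.ThreeTransp Cfsg.Agent.Lib.ThreeTransp.Products

/-- Let G be a finite group with trivial centre generated by a conjugation-invariant set D of 3-transpositions on which it acts primitively, such that for some d in D the subgroup generated by the members of D other than d commuting with d has central largest normal 2- and 3-subgroups, and suppose G with D is of type M(22). A product j of two distinct commuting members of D determines the pair: any two 2-element sets of commuting members of D with product j coincide. A product j of three distinct pairwise commuting members of D arises from exactly two such 3-element sets. -/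
theorem result {G : Type*} [Group G] [Finite G] {D : Set G} (hD : Cfsg.IsThreeTranspositionGroup D) (hprim : Cfsg.IsPrimitiveUnderConj D) (d₀ : G) (hd₀ : d₀ ∈ D) (h3 : Cfsg.pCore 3 ↥(Subgroup.closure {y : G | y ∈ D ∧ y ≠ d₀ ∧ Commute d₀ y}) ≤ Subgroup.center ↥(Subgroup.closure {y : G | y ∈ D ∧ y ≠ d₀ ∧ Commute d₀ y})) (h2 : Cfsg.pCore 2 ↥(Subgroup.closure {y : G | y ∈ D ∧ y ≠ d₀ ∧ Commute d₀ y}) ≤ Subgroup.center ↥(Subgroup.closure {y : G | y ∈ D ∧ y ≠ d₀ ∧ Commute d₀ y})) (h22 : Cfsg.IsOfTypeM22 G D) : (∀ (j : G) (l l' : List G), (l.Nodup ∧ l.length = 2 ∧ (∀ a ∈ l, a ∈ D) ∧ (∀ a ∈ l, ∀ b ∈ l, Commute a b) ∧ l.prod = j) → (l'.Nodup ∧ l'.length = 2 ∧ (∀ a ∈ l', a ∈ D) ∧ (∀ a ∈ l', ∀ b ∈ l', Commute a b) ∧ l'.prod = j) → (∀ x : G, x ∈ l ↔ x ∈ l')) ∧ ∀ (j : G) (l₀ : List G), (l₀.Nodup ∧ l₀.length = 3 ∧ (∀ a ∈ l₀, a ∈ D) ∧ (∀ a ∈ l₀, ∀ b ∈ l₀, Commute a b) ∧ l₀.prod = j) → ∃ l₁ l₂ : List G, (l₁.Nodup ∧ l₁.length = 3 ∧ (∀ a ∈ l₁, a ∈ D) ∧ (∀ a ∈ l₁,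 ∀ b ∈ l₁, Commute a b) ∧ l₁.prod = j) ∧ (l₂.Nodup ∧ l₂.length = 3 ∧ (∀ a ∈ l₂, a ∈ D) ∧ (∀ a ∈ l₂, ∀ b ∈ l₂, Commute a b) ∧ l₂.prod = j) ∧ ¬ (∀ x : G, x ∈ l₁ ↔ x ∈ l₂) ∧ ∀ l : List G, (l.Nodup ∧ l.length = 3 ∧ (∀ a ∈ l, a ∈ D) ∧ (∀ a ∈ l, ∀ b ∈ l, Commute a b) ∧ l.prod = j) → ((∀ x : G, x ∈ l ↔ x ∈ l₁) ∨ (∀ x : G, x ∈ l ↔ x ∈ l₂)) := by
  have hS := hD.1
  have hsep := (level22 hD h22).sep
  refine ⟨?_, ?_⟩
  · intro j l l' ⟨hn, hlen, hmem, hcomm, hprod⟩ ⟨hn', hlen', hmem', hcomm', hprod'⟩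
    obtain ⟨a, b, rfl⟩ := List.length_eq_two.1 hlen
    obtain ⟨c, d, rfl⟩ := List.length_eq_two.1 hlen'
    simp only [List.nodup_cons, List.mem_cons, List.not_mem_nil, or_false, not_false_eq_true,
      List.nodup_nil, and_true] at hn hn'
    simp only [List.mem_cons, List.not_mem_nil, or_false, forall_eq_or_imp, forall_eq] at hmem hmem'
    have hab : Commute a b := hcomm a (by simp) b (by simp)
    have hcd : Commute c d := hcomm' c (by simp) d (by simp)
    simp only [List.prod_cons, List.prod_nil, mul_one] at hprod hprod'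
    have h := hprod.trans hprod'.symm
    have h1 := pair_unique hS hsep hmem.1 hmem.2 hmem'.1 hmem'.2 hn hn' hab hcd h
    have h2 := pair_unique hS hsep hmem.1 hmem.2 hmem'.2 hmem'.1 hn (Ne.symm hn') hab hcd.symm
      (by rw [h, hcd.eq])
    intro x
    simp only [List.mem_cons, List.not_mem_nil, or_false]
    rcases h1 with rfl | rfl <;> rcases h2 with rfl | rfl
    · exact absurd rfl hn'
    · exact Iff.rfl
    · exact or_comm
    · exact absurd rfl hn'
  intro j l₀ ⟨hn, hlen, hmem, hcomm, hprod⟩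
  obtain ⟨a, b, c, rfl⟩ := List.length_eq_three.1 hlen
  simp only [List.nodup_cons, List.mem_cons, List.not_mem_nil, or_false, not_or, not_false_eq_true,
    List.nodup_nil, and_true] at hn
  simp only [List.mem_cons, List.not_mem_nil, or_false, forall_eq_or_imp, forall_eq] at hmem
  obtain ⟨ha, hb, hc⟩ := hmem
  have hab : Commute a b := hcomm a (by simp) b (by simp)
  have hac : Commute a c := hcomm a (by simp) c (by simp)
  have hbc : Commute b c := hcomm b (by simp) c (by simp)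
  simp only [List.prod_cons, List.prod_nil, mul_one, ← mul_assoc] at hprod
  obtain ⟨d, e, f, hne, ⟨hde, hdf, hef⟩, hiff, heq⟩ :=
    tri_data hD hprim h22 ha hb hc hn.1.1 hn.1.2 hn.2 hab hac hbc
  obtain ⟨hdD, hda, hdb, hdc, -⟩ := (hiff d).2 (Or.inl rfl)
  obtain ⟨heD, -⟩ := (hiff e).2 (Or.inr (Or.inl rfl))
  obtain ⟨hfD, -⟩ := (hiff f).2 (Or.inr (Or.inr rfl))
  refine ⟨[a, b, c], [d, e, f], ⟨by simp [hn.1.1, hn.1.2, hn.2], rfl, by simp [ha, hb, hc], hcomm,
      by simp [← mul_assoc, hprod]⟩,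
    ⟨by simp [hne.1, hne.2.1, hne.2.2], rfl, by simp [hdD, heD, hfD], ?_, by simp [← mul_assoc, ← heq, hprod]⟩,
    ?_, ?_⟩
  · simp only [List.mem_cons, List.not_mem_nil, or_false, forall_eq_or_imp, forall_eq]
    exact ⟨⟨Commute.refl d, hde, hdf⟩, ⟨hde.symm, Commute.refl e, hef⟩, hdf.symm, hef.symm, Commute.refl f⟩
  · intro h
    have := (h d).2 (by simp)
    simp [hda, hdb, hdc] at this
  intro l ⟨hln, hllen, hlmem, hlcomm, hlprod⟩
  have hj : j = a * b * c := hprod.symm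
  -- members of another triple
  have hmemS : ∀ x ∈ l, x = a ∨ x = b ∨ x = c ∨ (x = d ∨ x = e ∨ x = f) := by
    intro x hx
    by_contra hno
    push Not at hno
    obtain ⟨h1, h2, h3, h4, h5, h6⟩ := hno
    have key : ∀ {y}, y ∈ D → Commute y (a * b * c) → Commute y a ∧ Commute y b ∧ Commute y c :=
      fun hy h => triple_commute hS ha hb hc hy hn.1.1 hn.1.2 hn.2 hab hac hbc h
    have hxD := hlmem x hx
    have hxj : Commute x (a * b * c) := by
      rw [← hj, ← hlprod]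
      exact Commute.list_prod_right _ _ fun y hy => hlcomm x hx y hy
    obtain ⟨hxa, hxb, hxc⟩ := key hxD hxj
    rcases (hiff x).1 ⟨hxD, h1, h2, h3, hxa.symm, hxb.symm, hxc.symm, fun y hy p q r => by
      obtain ⟨u, v, w, rfl⟩ := List.length_eq_three.1 hllen
      simp only [List.nodup_cons, List.mem_cons, List.not_mem_nil, or_false, not_or, not_false_eq_true,
        List.nodup_nil, and_true] at hln
      have hyj : Commute y (u * v * w) := by
        simp only [List.prod_cons, List.prod_nil, mul_one, ← mul_assoc] at hlprod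
        rw [hlprod, hj]
        exact (p.symm.mul_right q.symm).mul_right r.symm
      obtain ⟨hu, hv, hw⟩ := triple_commute hS (hlmem u (by simp)) (hlmem v (by simp)) (hlmem w (by simp)) hy
        hln.1.1 hln.1.2 hln.2 (hlcomm u (by simp) v (by simp)) (hlcomm u (by simp) w (by simp))
        (hlcomm v (by simp) w (by simp)) hyj
      simp only [List.mem_cons, List.not_mem_nil, or_false] at hx
      rcases hx with rfl | rfl | rfl
      exacts [hu.symm, hv.symm, hw.symm]⟩ with h | h | h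
    exacts [h4 h, h5 h, h6 h]
  obtain ⟨u, v, w, rfl⟩ := List.length_eq_three.1 hllen
  simp only [List.nodup_cons, List.mem_cons, List.not_mem_nil, or_false, not_or, not_false_eq_true,
    List.nodup_nil, and_true] at hln
  simp only [List.mem_cons, List.not_mem_nil, or_false, forall_eq_or_imp, forall_eq] at hlmem hmemS
  have huv : Commute u v := hlcomm u (by simp) v (by simp)
  have huw : Commute u w := hlcomm u (by simp) w (by simp)
  have hvw : Commute v w := hlcomm v (by simp) w (by simp)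
  simp only [List.prod_cons, List.prod_nil, mul_one, ← mul_assoc] at hlprod
  simp only [List.mem_cons, List.not_mem_nil, or_false]
  -- a triple meeting `p` in `p₁` agrees with it
  have agree : ∀ p₁ p₂ p₃ q₁ q₂ q₃ : G, p₁ ∈ D → p₂ ∈ D → p₃ ∈ D → q₁ ∈ D → q₂ ∈ D → q₃ ∈ D →
      p₂ ≠ p₃ → q₂ ≠ q₃ → Commute p₂ p₃ → Commute q₂ q₃ → p₁ = q₁ → p₁ * p₂ * p₃ = q₁ * q₂ * q₃ →
      ∀ x, (x = q₁ ∨ x = q₂ ∨ x = q₃) ↔ (x = p₁ ∨ x = p₂ ∨ x = p₃) := by
    intro p₁ p₂ p₃ q₁ q₂ q₃ _ hp2 hp3 _ hq2 hq3 np nq cp cq h1 hp x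
    subst h1
    rw [mul_assoc, mul_assoc] at hp
    have h23 := mul_left_cancel hp
    have e1 := pair_unique hS hsep hp2 hp3 hq2 hq3 np nq cp cq h23
    have e2 := pair_unique hS hsep hp2 hp3 hq3 hq2 np (Ne.symm nq) cp cq.symm (by rw [h23, cq.eq])
    rcases e1 with rfl | rfl <;> rcases e2 with rfl | rfl
    · exact absurd rfl nq
    · exact Iff.rfl
    · constructor <;> rintro (h | h | h) <;> simp [h]
    · exact absurd rfl nq
  have hP1 : a * b * c = u * v * w := hprod.trans hlprod.symm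
  have hQ1 : d * e * f = u * v * w := heq.symm.trans hP1
  have pb : a * b * c = b * a * c := by rw [hab.eq]
  have pc : a * b * c = c * a * b := ((hac.mul_left hbc).eq).trans (mul_assoc _ _ _).symm
  have pe : d * e * f = e * d * f := by rw [hde.eq]
  have pf : d * e * f = f * d * e := ((hdf.mul_left hef).eq).trans (mul_assoc _ _ _).symm
  have iswap : ∀ (p q r x : G), (x = q ∨ x = p ∨ x = r) ↔ (x = p ∨ x = q ∨ x = r) :=
    fun p q r x => or_left_comm
  have irot : ∀ (p q r x : G), (x = r ∨ x = p ∨ x = q) ↔ (x = p ∨ x = q ∨ x = r) :=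
    fun p q r x => by rw [or_rotate]
  rcases hmemS.1 with h | h | h | h | h | h
  · exact Or.inl fun x => agree a b c u v w ha hb hc hlmem.1 hlmem.2.1 hlmem.2.2 hn.2 hln.2 hbc hvw h.symm hP1 x
  · exact Or.inl fun x => (agree b a c u v w hb ha hc hlmem.1 hlmem.2.1 hlmem.2.2 hn.1.2 hln.2 hac hvw h.symm
      (pb.symm.trans hP1) x).trans (iswap a b c x)
  · exact Or.inl fun x => (agree c a b u v w hc ha hb hlmem.1 hlmem.2.1 hlmem.2.2 hn.1.1 hln.2 hab hvw h.symm
      (pc.symm.trans hP1) x).trans (irot a b c x)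
  · exact Or.inr fun x => agree d e f u v w hdD heD hfD hlmem.1 hlmem.2.1 hlmem.2.2 hne.2.2 hln.2 hef hvw h.symm hQ1 x
  · exact Or.inr fun x => (agree e d f u v w heD hdD hfD hlmem.1 hlmem.2.1 hlmem.2.2 hne.2.1 hln.2 hdf hvw h.symm
      (pe.symm.trans hQ1) x).trans (iswap d e f x)
  · exact Or.inr fun x => (agree f d e u v w hfD hdD heD hlmem.1 hlmem.2.1 hlmem.2.2 hne.1 hln.2 hde hvw h.symm
      (pf.symm.trans hQ1) x).trans (irot d e f x)

end Cfsg.Agent.S5463
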