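import Cfsg.Statements.S5464
import Cfsg.Agent.Lib.ThreeTransp.CommutingLevels

set_option autoImplicit false
open Cfsg

namespace Cfsg.Agent.S5464

open Cfsg.Agent.Lib.ThreeTransp Cfsg.Agent.Lib.ThreeTransp.Products

/-- Let G be a finite group with trivial centre generated by a conjugation-invariant set D of 3-transpositions on which it acts primitively, such that for some d in D the subgroup generated by the members of D other than d commuting with d has central largest normal 2- and 3-subgroups, and suppose G with D is of type M(23) or of type M(24). Then for m ≤ 3, a product of m distinct pairwise commuting members of D determines the set of factors: any two m-element sets of pairwise commuting members of D with the same product coincide. -/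
theorem result {G : Type*} [Group G] [Finite G] {D : Set G} (hD : Cfsg.IsThreeTranspositionGroup D) (hprim : Cfsg.IsPrimitiveUnderConj D) (d₀ : G) (hd₀ : d₀ ∈ D) (h3 : Cfsg.pCore 3 ↥(Subgroup.closure {y : G | y ∈ D ∧ y ≠ d₀ ∧ Commute d₀ y}) ≤ Subgroup.center ↥(Subgroup.closure {y : G | y ∈ D ∧ y ≠ d₀ ∧ Commute d₀ y})) (h2 : Cfsg.pCore 2 ↥(Subgroup.closure {y : G | y ∈ D ∧ y ≠ d₀ ∧ Commute d₀ y}) ≤ Subgroup.center ↥(Subgroup.closure {y : G | y ∈ D ∧ y ≠ d₀ ∧ Commute d₀ y})) (h : Cfsg.IsOfTypeM23 G D ∨ Cfsg.IsOfTypeM24 G D) (m : ℕ) (hm : m ≤ 3) (j : G) (l l' : List G) (hl : (l.Nodup ∧ l.length = m ∧ (∀ a ∈ l, a ∈ D) ∧ (∀ a ∈ l, ∀ b ∈ l, Commute a b) ∧ l.prod = j)) (hl' : (l'.Nodup ∧ l'.length = m ∧ (∀ a ∈ l', a ∈ D) ∧ (∀ a ∈ l', ∀ b ∈ l', Commute a b) ∧ l'.prod = j)) : (∀ x : G, x ∈ l ↔ x ∈ l') := by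
  obtain ⟨hsep, hsepPairs⟩ := sep_pairs hD hprim hd₀ h3 h2 h
  have hS := hD.1
  obtain ⟨hn, hlen, hmem, hcomm, hprod⟩ := hl
  obtain ⟨hn', hlen', hmem', hcomm', hprod'⟩ := hl'
  suffices key : ∀ l l' : List G, l.Nodup → l.length = m → (∀ a ∈ l, a ∈ D) →
      (∀ a ∈ l, ∀ b ∈ l, Commute a b) → l'.Nodup → l'.length = m → (∀ a ∈ l', a ∈ D) →
      (∀ a ∈ l', ∀ b ∈ l', Commute a b) → l.prod = l'.prod → l' ⊆ l from
    fun x => ⟨fun hx => key l' l hn' hlen' hmem' hcomm' hn hlen hmem hcomm (hprod'.trans hprod.symm) hx,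
      fun hx => key l l' hn hlen hmem hcomm hn' hlen' hmem' hcomm' (hprod.trans hprod'.symm) hx⟩
  clear hn hlen hmem hcomm hprod hn' hlen' hmem' hcomm' hprod' l l'
  intro l l' hn hlen hmem hcomm hn' hlen' hmem' hcomm' hprod x hx
  interval_cases m
  · rw [List.length_eq_zero_iff] at hlen'
    simp [hlen'] at hx
  · obtain ⟨a, rfl⟩ := List.length_eq_one_iff.1 hlen
    obtain ⟨c, rfl⟩ := List.length_eq_one_iff.1 hlen'
    simp only [List.prod_singleton] at hprod
    simpa [hprod] using hx
  · obtain ⟨a, b, rfl⟩ := List.length_eq_two.1 hlen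
    obtain ⟨c, d, rfl⟩ := List.length_eq_two.1 hlen'
    simp only [List.nodup_cons, List.mem_cons, List.not_mem_nil, or_false, not_false_eq_true,
      List.nodup_nil, and_true] at hn hn'
    simp only [List.mem_cons, List.not_mem_nil, or_false, forall_eq_or_imp, forall_eq] at hmem hmem'
    have hab : Commute a b := hcomm a (by simp) b (by simp)
    have hcd : Commute c d := hcomm' c (by simp) d (by simp)
    simp only [List.prod_cons, List.prod_nil, mul_one] at hprod
    simp only [List.mem_cons, List.not_mem_nil, or_false] at hx ⊢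
    rcases hx with rfl | rfl
    · exact pair_unique hS hsep hmem.1 hmem.2 hmem'.1 hmem'.2 hn hn' hab hcd hprod
    · exact pair_unique hS hsep hmem.1 hmem.2 hmem'.2 hmem'.1 hn (Ne.symm hn') hab hcd.symm
        (by rw [hprod, hcd.eq])
  · obtain ⟨a, b, c, rfl⟩ := List.length_eq_three.1 hlen
    obtain ⟨d, e, f, rfl⟩ := List.length_eq_three.1 hlen'
    simp only [List.nodup_cons, List.mem_cons, List.not_mem_nil, or_false, not_or, not_false_eq_true,
      List.nodup_nil, and_true] at hn hn'
    simp only [List.mem_cons, List.not_mem_nil, or_false, forall_eq_or_imp, forall_eq] at hmem hmem'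
    have hab : Commute a b := hcomm a (by simp) b (by simp)
    have hac : Commute a c := hcomm a (by simp) c (by simp)
    have hbc : Commute b c := hcomm b (by simp) c (by simp)
    have hde : Commute d e := hcomm' d (by simp) e (by simp)
    have hdf : Commute d f := hcomm' d (by simp) f (by simp)
    have hef : Commute e f := hcomm' e (by simp) f (by simp)
    simp only [List.prod_cons, List.prod_nil, mul_one, ← mul_assoc] at hprod
    simp only [List.mem_cons, List.not_mem_nil, or_false] at hx ⊢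
    rcases hx with rfl | rfl | rfl
    · exact triple_unique hS hsepPairs hmem.1 hmem.2.1 hmem.2.2 hmem'.1 hmem'.2.1 hmem'.2.2 hn.1.1 hn.1.2
        hn.2 hn'.1.1 hn'.1.2 hn'.2 hab hac hbc hde hdf hef hprod
    · exact triple_unique hS hsepPairs hmem.1 hmem.2.1 hmem.2.2 hmem'.2.1 hmem'.1 hmem'.2.2 hn.1.1 hn.1.2
        hn.2 (Ne.symm hn'.1.1) hn'.2 hn'.1.2 hab hac hbc hde.symm hef hdf (by rw [hprod, hde.eq])
    · exact triple_unique hS hsepPairs hmem.1 hmem.2.1 hmem.2.2 hmem'.2.2 hmem'.1 hmem'.2.1 hn.1.1 hn.1.2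
        hn.2 (Ne.symm hn'.1.2) (Ne.symm hn'.2) hn'.1.1 hab hac hbc hdf.symm hef.symm hde
        (by rw [hprod, (hdf.mul_left hef).eq, ← mul_assoc])

end Cfsg.Agent.S5464
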