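import Cfsg.Statements.S5514
import Cfsg.Agent.Lib.OmegaSevenThree.Classes

set_option autoImplicit false
open Cfsg
open Cfsg.Agent.Lib.OmegaSevenThree

namespace Cfsg.Agent.S5514

theorem result : ∃ Y : Fin 7 → Subgroup (Cfsg.POmega (ZMod 3) (Cfsg.quadFormOdd 3 (ZMod 3))), (∀ i, Nat.card (Y i) = 3) ∧ (∀ i j, (∃ g : Cfsg.POmega (ZMod 3) (Cfsg.quadFormOdd 3 (ZMod 3)), (Y i).map (MulAut.conj g).toMonoidHom = Y j) → i = j) ∧ (∀ X : Subgroup (Cfsg.POmega (ZMod 3) (Cfsg.quadFormOdd 3 (ZMod 3))), Nat.card X = 3 → ∃ i, ∃ g : Cfsg.POmega (ZMod 3) (Cfsg.quadFormOdd 3 (ZMod 3)), X.map (MulAut.conj g).toMonoidHom = Y i) := by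
  set ψ := MulEquiv.ofBijective toPOmega toPOmega_bijective with hψ
  have hcomm : ∀ (H : Subgroup Om) (g : Om), (H.map ψ.toMonoidHom).map (MulAut.conj (ψ g)).toMonoidHom =
      (H.map (MulAut.conj g).toMonoidHom).map ψ.toMonoidHom := by
    intro H g
    rw [Subgroup.map_map, Subgroup.map_map]
    congr 1
    exact MonoidHom.ext fun x => by simp
  refine ⟨fun i => (Subgroup.zpowers (rep i)).map ψ.toMonoidHom, fun i => ?_, ?_, ?_⟩
  · exact (Nat.card_congr (ψ.subgroupMap _).toEquiv).symm.trans (card_rep i)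
  · rintro i j ⟨g, hg⟩
    obtain ⟨g, rfl⟩ := ψ.surjective g
    rw [hcomm] at hg
    exact eq_of_conj (Subgroup.map_injective (f := ψ.toMonoidHom) ψ.injective hg)
  · intro X hX
    obtain ⟨i, g, hg⟩ := exists_good (X.comap ψ.toMonoidHom) 
      ((Nat.card_congr (Equiv.subtypeEquiv ψ.toEquiv fun _ => Iff.rfl)).trans hX)
    refine ⟨i, ψ g, ?_⟩
    show X.map (MulAut.conj (ψ g)).toMonoidHom = (Subgroup.zpowers (rep i)).map ψ.toMonoidHom
    rw [← hg, ← hcomm, Subgroup.map_comap_eq_self_of_surjective (f := ψ.toMonoidHom) ψ.surjective]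

end Cfsg.Agent.S5514
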