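import Cfsg.Statements.S5521
import Cfsg.Agent.Lib.Compute.M24Action

set_option autoImplicit false
open Cfsg

namespace Cfsg.Agent.S5521

open Cfsg.Agent.Lib.Compute

/-- The Mathieu group M₂₄ in its natural action on the 24 coordinate positions of the binary Golay code has minimal base size exactly 7: every set of at most 6 positions is fixed pointwise by some non-identity element of M₂₄, while some set of 7 positions is fixed pointwise only by the identity. -/
theorem result :
    (∀ B : Finset Cfsg.GolayPt, B.card ≤ 6 → ∃ g ∈ Cfsg.M24, g ≠ 1 ∧ ∀ b ∈ B, g b = b) ∧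
    (∃ B : Finset Cfsg.GolayPt, B.card = 7 ∧ ∀ g ∈ Cfsg.M24, (∀ b ∈ B, g b = b) → g = 1) := by
  classical
  constructor
  · intro B hB
    have h24 : Fintype.card GolayPt = 24 := rfl
    obtain ⟨B', hBB', -, hB'⟩ := Finset.exists_subsuperset_card_eq (Finset.subset_univ B) hB
      (by rw [Finset.card_univ, h24]; decide)
    let x : Fin 6 ↪ GolayPt :=
      (B'.equivFinOfCardEq hB').symm.toEmbedding.trans (Function.Embedding.subtype _)
    have hlt : Nat.card (Fin 6 ↪ GolayPt) < Nat.card M24 := by
      rw [card_M24, Nat.card_eq_fintype_card, Fintype.card_embedding_eq, h24, Fintype.card_fin]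
      decide +kernel
    have hninj : ¬ Function.Injective (fun g : M24 => g • x) := fun h =>
      absurd (Nat.card_le_card_of_injective _ h) (not_le.mpr hlt)
    rw [Function.not_injective_iff] at hninj
    obtain ⟨g, h, hgh, hne⟩ := hninj
    refine ⟨((h⁻¹ * g : M24) : Equiv.Perm GolayPt), (h⁻¹ * g).2, ?_, ?_⟩
    · intro e
      exact hne (inv_mul_eq_one.mp (Subtype.ext e)).symm
    · intro b hb
      obtain ⟨j, hj⟩ : ∃ j, x j = b :=
        ⟨B'.equivFinOfCardEq hB' ⟨b, hBB' hb⟩, by simp [x]⟩
      have e : g • x j = h • x j := DFunLike.congr_fun hgh j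
      rw [← hj]
      show (h : Equiv.Perm GolayPt)⁻¹ ((g : Equiv.Perm GolayPt) (x j)) = x j
      exact (Equiv.Perm.inv_eq_iff_eq).mpr e
  · refine ⟨(Finset.univ : Finset GolayPt).filter
      (fun p => Nat.testBit (finalMask 0 m24Cert) (enc p)), ?_, fun g hg hfix => ?_⟩
    · decide +kernel
    · obtain ⟨σ, rfl⟩ := toGP.surjective g
      have hσ : σ = 1 := eq_one_of_stepsOk stepsOk_m24Steps (mem_K24.mpr hg) (by
        intro i hi
        have := hfix (enc.symm i) (by simp [hi])
        rw [toGP_apply, Equiv.apply_symm_apply] at this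
        exact enc.symm.injective this)
      rw [hσ, map_one]

end Cfsg.Agent.S5521
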