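import Cfsg.Statements.S5522
import Cfsg.Agent.Lib.Compute.MathieuDodec

set_option autoImplicit false
open Cfsg

namespace Cfsg.Agent.S5522

open Cfsg.Agent.Lib.Compute
open scoped Pointwise

/-- Either a point outside the dodecad of squares is fixed, or neither the square nor the cube is trivial. -/
def okElt (js : List ℕ) : Bool :=
  ((List.range 24).any fun i => !dodMask.testBit i && sift cert11 js i == i) ||
    (((List.range 24).any fun i => sift cert11 js (sift cert11 js i) != i) &&
      ((List.range 24).any fun i => sift cert11 js (sift cert11 js (sift cert11 js i)) != i))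

theorem all_okElt : (idxLists cert11).all okElt = true := by decide +kernel

theorem card_outside :
    Fintype.card {x : GolayPt // x ∉ setOf24 dodMask} = 12 := by decide +kernel

/-- The Mathieu group M₁₁, realised as the stabiliser of one point of the dodecad of squares inside the stabiliser M₁₂ of that dodecad in M₂₄, acts on the twelve coordinate positions outside the dodecad of squares (its 3-transitive action of degree 12); in this action every element of prime order fixes a point, i.e. the action is elusive. -/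
theorem result (g : Equiv.Perm Cfsg.GolayPt) (hg : g ∈ Cfsg.Spor.M11) (hord : (orderOf g).Prime) :
    ∃ x : Cfsg.GolayPt, x ∉ Cfsg.Spor.squareDodecad ∧ g x = x := by
  obtain ⟨h12', h0⟩ := Subgroup.mem_inf.mp hg
  obtain ⟨hM, hd⟩ := Subgroup.mem_inf.mp h12'
  have hsq : Spor.squareDodecad = setOf24 dodMask := squares_eq
  rw [hsq]
  rw [MulAction.mem_stabilizer_iff, hsq] at hd
  rw [MulAction.mem_stabilizer_iff] at h0
  obtain ⟨σ, rfl⟩ := toGP.surjective g
  have hmask := (toGP_smul_setOf24_iff σ dodMask).mp hd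
  have h12 : σ ∈ grp 24 m12Cert := K12_eq ▸ Subgroup.mem_inf.mpr ⟨mem_K24.mpr hM, hmask⟩
  have hσ0 : σ 0 = 0 := by
    have h : enc.symm (σ (enc (some 0))) = some 0 := h0
    have e : enc (some 0) = (0 : Fin 24) := by decide +kernel
    rw [Equiv.symm_apply_eq, e] at h
    exact h
  obtain ⟨js, hjs, hjs'⟩ := exists_idx chk_cert11 ((mem_cert11 σ).mpr ⟨h12, hσ0⟩)
  have hr : Repr σ (sift cert11 js) := hjs' ▸ (sift_spec chk_cert11 js).1
  have hok := List.all_eq_true.mp all_okElt js hjs
  simp only [okElt, Bool.or_eq_true, Bool.and_eq_true, List.any_eq_true, List.mem_range,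
    Bool.not_eq_true', beq_iff_eq, bne_iff_ne] at hok
  rcases hok with ⟨i, hi, hout, hfix⟩ | ⟨⟨i, hi, h2⟩, ⟨j, hj, h3⟩⟩
  · refine ⟨enc.symm ⟨i, hi⟩, fun h => ?_, ?_⟩
    · rw [mem_setOf24, Equiv.apply_symm_apply] at h
      rw [hout] at h
      exact absurd h (by decide)
    · rw [toGP_apply, Equiv.apply_symm_apply, Equiv.apply_eq_iff_eq]
      exact Fin.ext ((hr ⟨i, hi⟩).trans hfix)
  · have hp := pow_orderOf_eq_one (toGP σ)
    rw [← map_pow, ← map_one toGP, EmbeddingLike.apply_eq_iff_eq] at hp
    have hne2 : orderOf (toGP σ) ≠ 2 := fun e => h2 (by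
      rw [e, pow_two] at hp
      have := congrArg (fun τ : Equiv.Perm (Fin 24) => ((τ ⟨i, hi⟩ : Fin 24) : ℕ)) hp
      simp only [(hr.mul hr) ⟨i, hi⟩] at this
      exact this)
    have hne3 : orderOf (toGP σ) ≠ 3 := fun e => h3 (by
      rw [e, pow_succ, pow_two] at hp
      have := congrArg (fun τ : Equiv.Perm (Fin 24) => ((τ ⟨j, hj⟩ : Fin 24) : ℕ)) hp
      simp only [((hr.mul hr).mul hr) ⟨j, hj⟩] at this
      exact this)
    have : Fact (orderOf (toGP σ)).Prime := ⟨hord⟩
    let τ : Equiv.Perm {x : GolayPt // x ∉ setOf24 dodMask} := (toGP σ).subtypePerm fun x => by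
      rw [mem_setOf24, mem_setOf24, enc_toGP, hmask]
    have hndvd : ¬ orderOf (toGP σ) ∣ Fintype.card {x : GolayPt // x ∉ setOf24 dodMask} := by
      rw [card_outside]
      intro hdvd
      have := Nat.le_of_dvd (by norm_num) hdvd
      interval_cases h : orderOf (toGP σ) <;> simp_all (config := { decide := true })
    obtain ⟨x, hx⟩ := Equiv.Perm.exists_fixed_point_of_prime (n := 1) hndvd (σ := τ) (by
      rw [pow_one, Equiv.Perm.subtypePerm_pow]
      refine Equiv.ext fun x => Subtype.ext ?_
      show (toGP σ ^ orderOf (toGP σ)) x = x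
      rw [pow_orderOf_eq_one]; rfl)
    exact ⟨x, x.2, congrArg Subtype.val hx⟩

end Cfsg.Agent.S5522
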