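import Cfsg.Statements.S5541
-- import your own Cfsg.Agent.* helpers here

set_option autoImplicit false
open Cfsg

namespace Cfsg.Agent.S5541

/-- Let ρ be a representation of a group H on a finite-dimensional real vector space U whose only ρ-invariant subspaces are the zero subspace and U, and suppose U carries a non-zero ρ-invariant symmetric bilinear form. Then the following are equivalent: (1) there is a non-zero ρ-equivariant commutative bilinear product on U of which every ρ-equivariant bilinear product is a scalar multiple; (2) there is a non-zero ρ-invariant trilinear form on U that is symmetric under all permutations of its arguments and of which every ρ-invariant trilinear form is a scalar multiple. -/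
theorem result {H : Type*} [Group H] {U : Type*} [AddCommGroup U] [Module ℝ U] [FiniteDimensional ℝ U] (ρ : Representation ℝ H U) (hirr : ∀ W : Submodule ℝ U, (∀ g : H, W.map (ρ g) ≤ W) → W = ⊥ ∨ W = ⊤) (B : LinearMap.BilinForm ℝ U) (hB0 : B ≠ 0) (hBs : ∀ u v, B u v = B v u) (hBi : ∀ (g : H) (u v : U), B (ρ g u) (ρ g v) = B u v) : (∃ m : U →ₗ[ℝ] U →ₗ[ℝ] U, m ≠ 0 ∧ (∀ u v, m u v = m v u) ∧ (∀ (g : H) (u v : U), m (ρ g u) (ρ g v) = ρ g (m u v)) ∧ ∀ m' : U →ₗ[ℝ] U →ₗ[ℝ] U, (∀ (g : H) (u v : U), m' (ρ g u) (ρ g v) = ρ g (m' u v)) → ∃ c : ℝ, m' = c • m) ↔ (∃ t : U →ₗ[ℝ] U →ₗ[ℝ] U →ₗ[ℝ] ℝ, t ≠ 0 ∧ (∀ u v w, t u v w = t v u w ∧ t u v w = t u w v) ∧ (∀ (g : H) (u v w : U), t (ρ g u) (ρ g v) (ρ g w) = t u v w) ∧ ∀ t' : U →ₗ[ℝ] U →ₗ[ℝ] U →ₗ[ℝ] ℝ, (∀ (g : H) (u v w : U), t' (ρ g u) (ρ g v) (ρ g w) = t' u v w) → ∃ c : ℝ, t' = c • t) := by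
  have hker : LinearMap.ker B = ⊥ := by
    refine (hirr (LinearMap.ker B) ?_).resolve_right fun h => hB0 (LinearMap.ker_eq_top.1 h)
    intro g
    rintro _ ⟨u, hu, rfl⟩
    rw [SetLike.mem_coe, LinearMap.mem_ker] at hu
    rw [LinearMap.mem_ker]
    refine LinearMap.ext fun v => ?_
    have h : B (ρ g u) (ρ g (ρ g⁻¹ v)) = B u (ρ g⁻¹ v) := hBi g u _
    rw [ρ.self_inv_apply, hu] at h
    exact h
  let e : U ≃ₗ[ℝ] Module.Dual ℝ U := LinearEquiv.ofInjectiveOfFinrankEq B (LinearMap.ker_eq_bot.1 hker)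
    Subspace.dual_finrank_eq.symm
  let F : (U →ₗ[ℝ] U →ₗ[ℝ] U) ≃ₗ[ℝ] (U →ₗ[ℝ] U →ₗ[ℝ] U →ₗ[ℝ] ℝ) :=
    (LinearEquiv.refl ℝ U).arrowCongr ((LinearEquiv.refl ℝ U).arrowCongr e)
  have hF : ∀ m u v w, F m u v w = B (m u v) w := fun m u v w => rfl
  have hBinj : Function.Injective B := LinearMap.ker_eq_bot.1 hker
  have hequiv : ∀ m, (∀ (g : H) (u v : U), m (ρ g u) (ρ g v) = ρ g (m u v)) ↔
      ∀ (g : H) (u v w : U), F m (ρ g u) (ρ g v) (ρ g w) = F m u v w := by
    intro m
    constructor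
    · intro h g u v w
      rw [hF, hF, h, hBi]
    · intro h g u v
      refine hBinj (LinearMap.ext fun w => ?_)
      have h' := h g u v (ρ g⁻¹ w)
      rw [hF, hF, ← hBi g (m u v), ρ.self_inv_apply] at h'
      exact h'
  constructor
  · rintro ⟨m, hm0, hsym, hm, huniq⟩
    refine ⟨F m, fun h => hm0 ((LinearEquiv.map_eq_zero_iff F).1 h), ?_, (hequiv m).1 hm, fun t' ht' => ?_⟩
    swap
    · obtain ⟨m', rfl⟩ := F.surjective t'
      obtain ⟨c, rfl⟩ := huniq m' ((hequiv m').2 ht')
      exact ⟨c, map_smul F c m⟩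
    obtain ⟨m', hm'⟩ := F.surjective
      ((LinearMap.lflip.toLinearMap).comp (F m))
    have hflip : ∀ u v w, F m' u v w = F m u w v := fun u v w => by
      rw [hm']; rfl
    obtain ⟨c, hc⟩ := huniq m' ((hequiv m').2 fun g u v w => by
      rw [hflip, hflip]; exact (hequiv m).1 hm g u w v)
    have hswap : ∀ u v w, F m u w v = c * F m u v w := fun u v w => by
      rw [← hflip, hc, map_smul]; rfl
    have hfst : ∀ u v w, F m u v w = F m v u w := fun u v w => by rw [hF, hF, hsym]
    have hc1 : c = 1 := by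
      by_contra hc1
      refine hm0 ((LinearEquiv.map_eq_zero_iff F).1 (LinearMap.ext fun u => LinearMap.ext fun v =>
        LinearMap.ext fun w => ?_))
      show F m u v w = 0
      have h2 : F m u v w = c * c * F m u v w := by
        rw [mul_assoc, ← hswap, ← hswap]
      have h3 : F m u v w = c * c * c * F m u v w := by
        calc F m u v w = F m v u w := hfst u v w
          _ = c * F m v w u := hswap v w u
          _ = c * F m w v u := by rw [hfst v w u]
          _ = c * (c * F m w u v) := by rw [hswap w u v]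
          _ = c * (c * F m u w v) := by rw [hfst w u v]
          _ = c * (c * (c * F m u v w)) := by rw [hswap u v w]
          _ = c * c * c * F m u v w := by ring
      by_contra ht
      have h2' : c * c = 1 := mul_right_cancel₀ ht (by rw [one_mul, ← h2])
      rw [h2', one_mul] at h3
      exact hc1 (mul_right_cancel₀ ht (by rw [one_mul, ← h3]))
    exact fun u v w => ⟨hfst u v w, by rw [hswap u v w, hc1, one_mul]⟩
  · rintro ⟨t, ht0, hsym, ht, huniq⟩
    obtain ⟨m, rfl⟩ := F.surjective t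
    refine ⟨m, fun h => ht0 (by rw [h, map_zero]), fun u v => ?_, (hequiv m).2 ht, fun m' hm' => ?_⟩
    · refine hBinj (LinearMap.ext fun w => ?_)
      rw [← hF, ← hF]
      exact (hsym u v w).1
    · obtain ⟨c, hc⟩ := huniq (F m') ((hequiv m').1 hm')
      exact ⟨c, F.injective (by rw [hc, map_smul])⟩

end Cfsg.Agent.S5541
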