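import Cfsg.Statements.S5543
-- import your own Cfsg.Agent.* helpers here

set_option autoImplicit false
open Cfsg

namespace Cfsg.Agent.S5543

/-- Let V be a finite-dimensional real vector space with a commutative bilinear product and a positive-definite symmetric bilinear form that associates with the product and satisfies the Norton inequality (the Majorana setting of the definitions). Let X be a group of linear automorphisms of V in which every element squares to the identity, and suppose every non-identity element x of X is a Majorana involution with an axial vector a(x) of squared length 1, such that for any two distinct non-identity x, y the product a(x) ∘ a(y) equals (1/8)(a(x) + a(y) − a(xy)) (the dihedral subalgebra of type 2A whose third axis belongs to the involution xy). Then X has order at most 4. -/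
theorem result {V : Type*} [AddCommGroup V] [Module ℝ V] [FiniteDimensional ℝ V] (mul : V →ₗ[ℝ] V →ₗ[ℝ] V) (B : LinearMap.BilinForm ℝ V) (hV : Cfsg.Axial.IsMajoranaAmbient mul B) (X : Subgroup (V ≃ₗ[ℝ] V)) (hX : ∀ x ∈ X, x * x = 1) (ax : (V ≃ₗ[ℝ] V) → V) (hax : ∀ x ∈ X, x ≠ 1 → Cfsg.Axial.IsMajoranaPair mul B x (ax x)) (h1 : ∀ x ∈ X, x ≠ 1 → B (ax x) (ax x) = 1) (h2A : ∀ x ∈ X, ∀ y ∈ X, x ≠ 1 → y ≠ 1 → x ≠ y → mul (ax x) (ax y) = (1 / 8 : ℝ) • (ax x + ax y - ax (x * y))) : Nat.card ↥X ≤ 4 := by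
  obtain ⟨hcomm, hBs, hBpos, hassoc, -⟩ := hV
  by_contra hcard
  rw [not_le] at hcard
  haveI : Finite X := Nat.finite_of_card_ne_zero (by omega)
  have hmulc : ∀ p ∈ X, ∀ q ∈ X, p * q = q * p := fun p hp q hq => by
    have h := hX _ (X.mul_mem hp hq)
    calc p * q = p * (p * q * (p * q)) * q := by rw [h, mul_one]
      _ = p * p * (q * p) * (q * q) := by group
      _ = q * p := by rw [hX p hp, hX q hq, one_mul, mul_one]
  have hne : ∀ (s : Finset (V ≃ₗ[ℝ] V)), s.card ≤ 4 → ∃ z ∈ X, z ∉ s := by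
    intro s hs
    by_contra hall
    push Not at hall
    have hsub : (X : Set (V ≃ₗ[ℝ] V)) ⊆ ↑s := fun z hz => hall z hz
    have := Set.ncard_le_ncard hsub s.finite_toSet
    rw [Set.ncard_coe_finset, ← Nat.card_coe_set_eq] at this
    change Nat.card X ≤ _ at this
    omega
  classical
  obtain ⟨x, hx, hx1⟩ := hne {1} (by simp)
  obtain ⟨y, hy, hy1⟩ := hne {1, x} (Finset.card_le_two.trans (by omega))
  obtain ⟨z, hz, hz1⟩ := hne {1, x, y, x * y} Finset.card_le_four
  simp only [Finset.mem_insert, Finset.mem_singleton, not_or] at hx1 hy1 hz1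
  obtain ⟨hy1, hyx⟩ := hy1
  obtain ⟨hz1, hzx, hzy, hzxy⟩ := hz1
  -- products of distinct non-identity elements
  have hpq : ∀ p ∈ X, ∀ q ∈ X, p ≠ q → p * q ≠ 1 := fun p hp q hq hne' h =>
    hne' (mul_right_cancel (h.trans (hX q hq).symm))
  have hqq : ∀ p ∈ X, ∀ q ∈ X, p * (p * q) = q := fun p hp q _ => by
    rw [← mul_assoc, hX p hp, one_mul]
  set A := ax with hA
  have hline : ∀ p ∈ X, ∀ q ∈ X, p ≠ 1 → q ≠ 1 → p ≠ q →
      mul (A p) (A q - A (p * q)) = (1 / 4 : ℝ) • (A q - A (p * q)) := by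
    intro p hp q hq hp1 hq1 hne'
    rw [map_sub, h2A p hp q hq hp1 hq1 hne', h2A p hp (p * q) (X.mul_mem hp hq) hp1 (hpq p hp q hq hne')
      (fun h => hq1 (mul_eq_left.1 h.symm)), hqq p hp q hq]
    module
  have hform : ∀ p ∈ X, ∀ q ∈ X, p ≠ 1 → q ≠ 1 → p ≠ q → B (A p) (A q) = 1 / 8 := by
    intro p hp q hq hp1 hq1 hne'
    have key : ∀ q ∈ X, q ≠ 1 → p ≠ q → 8 * B (A p) (A q) = 1 + B (A p) (A q) - B (A p) (A (p * q)) := by
      intro q hq hq1 hne'
      have h := hassoc (A p) (A p) (A q)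
      rw [(hax p hp hp1).2.2.1.1.2.1, h2A p hp q hq hp1 hq1 hne'] at h
      simp only [map_smul, map_add, map_sub, smul_eq_mul, h1 p hp hp1] at h
      linarith
    have k1 := key q hq hq1 hne'
    have k2 := key (p * q) (X.mul_mem hp hq) (hpq p hp q hq hne') (fun h => hq1 (mul_eq_left.1 h.symm))
    rw [hqq p hp q hq] at k2
    linarith
  -- the three lines through the axis of `x`
  have hw1 := hline x hx y hy hx1 hy1 (Ne.symm hyx)
  have hw2 := hline x hx z hz hx1 hz1 (Ne.symm hzx)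
  have hyz : y * z ∈ X := X.mul_mem hy hz
  have hyz1 : y * z ≠ 1 := hpq y hy z hz (Ne.symm hzy)
  have hxyz : x ≠ y * z := fun h => hzxy (by rw [h, mul_assoc, hmulc z hz y hy, ← mul_assoc, hX y hy, one_mul])
  have hw3 := hline x hx (y * z) hyz hx1 hyz1 hxyz
  -- their product
  have hzxy' : y ≠ x * z := fun h => hzxy (by rw [h, ← mul_assoc, hX x hx, one_mul])
  have e1 : y * (x * z) = x * (y * z) := by rw [← mul_assoc, hmulc y hy x hx, mul_assoc]
  have e2 : x * y * z = x * (y * z) := mul_assoc _ _ _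
  have e3 : x * y * (x * z) = y * z := by
    rw [mul_assoc, e1, ← mul_assoc, hX x hx, one_mul]
  have hprod : mul (A y - A (x * y)) (A z - A (x * z)) =
      (-(1 / 4) : ℝ) • (A (y * z) - A (x * (y * z))) := by
    simp only [map_sub, LinearMap.sub_apply]
    rw [
      h2A y hy z hz hy1 hz1 (Ne.symm hzy),
      h2A y hy (x * z) (X.mul_mem hx hz) hy1 (hpq x hx z hz (Ne.symm hzx)) hzxy',
      h2A (x * y) (X.mul_mem hx hy) z hz (hpq x hx y hy (Ne.symm hyx)) hz1 (Ne.symm hzxy),
      h2A (x * y) (X.mul_mem hx hy) (x * z) (X.mul_mem hx hz) (hpq x hx y hy (Ne.symm hyx))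
        (hpq x hx z hz (Ne.symm hzx)) (fun h => hzy (mul_left_cancel h).symm), e1, e2, e3]
    module
  obtain ⟨-, -, ⟨⟨-, -, -, hfus⟩, -⟩, -⟩ := hax x hx hx1
  have hmem : ∀ v, mul (A x) v = (1 / 4 : ℝ) • v → v ∈ Cfsg.Axial.eigen mul (A x) (1 / 4) := fun v h =>
    Module.End.mem_eigenspace_iff.2 h
  have hS : (1 / 4 : ℝ) ∈ Cfsg.Axial.majoranaSpectrum := by
    simp [Cfsg.Axial.majoranaSpectrum]
  have hlaw : Cfsg.Axial.monsterLaw (1 / 4 : ℝ) (1 / 32) (1 / 4) (1 / 4) = {1, 0} := by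
    simp only [Cfsg.Axial.monsterLaw]
    norm_num
  have h := hfus _ hS _ hS _ (hmem _ hw1) _ (hmem _ hw2)
  rw [hlaw] at h
  simp only [Cfsg.Axial.eigenSum, iSup_pair] at h
  obtain ⟨u, hu, v, hv, huv⟩ := Submodule.mem_sup.1 h
  have hu' : mul (A x) u = (1 : ℝ) • u := Module.End.mem_eigenspace_iff.1 hu
  have hv' : mul (A x) v = (0 : ℝ) • v := Module.End.mem_eigenspace_iff.1 hv
  rw [hprod] at huv
  have h4 : mul (A x) (u + v) = (1 / 4 : ℝ) • (u + v) := by
    rw [huv, map_smul, hw3, smul_comm]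
  have hu4 : u = (1 / 4 : ℝ) • (u + v) := by
    rw [← h4, map_add, hu', hv', one_smul, zero_smul, add_zero]
  have hu16 : u = (1 / 4 : ℝ) • u := by
    have e := congrArg (mul (A x)) hu4
    rw [hu', map_smul, h4, smul_smul, one_smul] at e
    rw [hu4, smul_smul]
    exact hu4.symm.trans e
  have hu0 : u = 0 := by
    have : (3 / 4 : ℝ) • u = 0 := by
      calc (3 / 4 : ℝ) • u = u - (1 / 4 : ℝ) • u := by module
        _ = 0 := sub_eq_zero.2 hu16
    exact (smul_eq_zero.1 this).resolve_left (by norm_num)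
  have hsum : u + v = 0 := by
    have : (1 / 4 : ℝ) • (u + v) = 0 := by rw [← hu4, hu0]
    exact (smul_eq_zero.1 this).resolve_left (by norm_num)
  rw [huv] at hsum
  have heq : A (y * z) = A (x * (y * z)) :=
    sub_eq_zero.1 ((smul_eq_zero.1 hsum).resolve_left (by norm_num))
  have h18 := hform (y * z) hyz (x * (y * z)) (X.mul_mem hx hyz) hyz1 (hpq x hx _ hyz hxyz)
    (fun h => hx1 (mul_eq_right.1 h.symm))
  rw [← heq, h1 _ hyz hyz1] at h18
  norm_num at h18

end Cfsg.Agent.S5543
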