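import Cfsg.Statements.S5545
import Cfsg.Agent.Lib.ThreeTransp.Majorana
-- import your own Cfsg.Agent.* helpers here

set_option autoImplicit false
open Cfsg

namespace Cfsg.Agent.S5545

/-- Let V be a finite-dimensional real vector space with a commutative bilinear product and a positive-definite symmetric bilinear form that associates with the product and satisfies the Norton inequality (the Majorana setting of the definitions). Let μ₀, μ₁ be commuting Majorana involutions with distinct axial vectors a₀ ≠ a₁ of squared length 1, each involution having no other axial vector. Then either a₀ and a₁ are orthogonal with a₀ ∘ a₁ = 0 (type 2B), or their inner product is 1/8 and, with a₂ = a₀ + a₁ − 8 a₀ ∘ a₁, the vector a₂ is an idempotent and a₀ ∘ a₂ = (1/8)(a₀ + a₂ − a₁), a₁ ∘ a₂ = (1/8)(a₁ + a₂ − a₀) (type 2A: the three idempotents span a subalgebra with aᵢ ∘ aⱼ = (1/8)(aᵢ + aⱼ − aₖ)). -/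
theorem result {V : Type*} [AddCommGroup V] [Module ℝ V] [FiniteDimensional ℝ V] (mul : V →ₗ[ℝ] V →ₗ[ℝ] V) (B : LinearMap.BilinForm ℝ V) (hV : Cfsg.Axial.IsMajoranaAmbient mul B) (μ₀ μ₁ : V ≃ₗ[ℝ] V) (a₀ a₁ : V) (h₀ : Cfsg.Axial.IsMajoranaPair mul B μ₀ a₀) (h₁ : Cfsg.Axial.IsMajoranaPair mul B μ₁ a₁) (hu₀ : ∀ a : V, Cfsg.Axial.IsMajoranaPair mul B μ₀ a → a = a₀) (hu₁ : ∀ a : V, Cfsg.Axial.IsMajoranaPair mul B μ₁ a → a = a₁) (hn₀ : B a₀ a₀ = 1) (hn₁ : B a₁ a₁ = 1) (hc : μ₀ * μ₁ = μ₁ * μ₀) (hne : a₀ ≠ a₁) : (B a₀ a₁ = 0 ∧ mul a₀ a₁ = 0) ∨ (B a₀ a₁ = 1 / 8 ∧ mul (a₀ + a₁ - (8 : ℝ) • mul a₀ a₁) (a₀ + a₁ - (8 : ℝ) • mul a₀ a₁) = a₀ + a₁ - (8 : ℝ) • mul a₀ a₁ ∧ mul a₀ (a₀ + a₁ - (8 : ℝ) • mul a₀ a₁) = (1 / 8 : ℝ) • (a₀ + (a₀ + a₁ - (8 : ℝ) • mul a₀ a₁) - a₁) ∧ mul a₁ (a₀ + a₁ - (8 : ℝ) • mul a₀ a₁) = (1 / 8 : ℝ) • (a₁ + (a₀ + a₁ - (8 : ℝ) • mul a₀ a₁) - a₀)) := by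
  obtain ⟨hcomm, hBs, hBpos, hassoc, -⟩ := id hV
  have hμ : ∀ v, μ₀ (μ₁ v) = μ₁ (μ₀ v) := fun v => congrArg (fun f : V ≃ₗ[ℝ] V => f v) hc
  have hf₀ : μ₀ a₁ = a₁ := hu₁ _ (Cfsg.Agent.Lib.ThreeTransp.Majorana.pair_map h₁ μ₀ h₀.1 fun v => (hμ v).symm)
  have hf₁ : μ₁ a₀ = a₀ := hu₀ _ (Cfsg.Agent.Lib.ThreeTransp.Majorana.pair_map h₀ μ₁ h₁.1 hμ)
  have i₀ : mul a₀ a₀ = a₀ := h₀.2.2.1.1.2.1
  have i₁ : mul a₁ a₁ = a₁ := h₁.2.2.1.1.2.1
  obtain ⟨r, z, w, hz, hw, hb⟩ := Cfsg.Agent.Lib.ThreeTransp.Majorana.decompose h₀ hf₀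
  obtain ⟨r', z', w', hz', hw', hb'⟩ := Cfsg.Agent.Lib.ThreeTransp.Majorana.decompose h₁ hf₁
  obtain ⟨hzw, hBw, p, hp, hww, hzz⟩ :=
    Cfsg.Agent.Lib.ThreeTransp.Majorana.components hV h₀ hn₀ hz hw hb i₁
  have hinner : ∀ {a z w : V}, mul a a = a → mul a z = 0 → mul a w = (1 / 4 : ℝ) • w →
      B a z = 0 ∧ B a w = 0 ∧ B z w = 0 := by
    intro a z w haa hz hw
    have e1 := hassoc a a z
    rw [hz, haa, map_zero] at e1
    have e2 := hassoc a a w
    rw [hw, haa, map_smul, smul_eq_mul] at e2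
    have e3 := hassoc z a w
    rw [hw, hcomm z a, hz, map_zero, LinearMap.zero_apply, map_smul, smul_eq_mul] at e3
    exact ⟨e1.symm, by linarith, by linarith⟩
  obtain ⟨haz, haw, hzwB⟩ := hinner i₀ hz hw
  obtain ⟨haz', haw', -⟩ := hinner i₁ hz' hw'
  have hr : B a₀ a₁ = r := by
    rw [hb]; simp only [map_add, map_smul, smul_eq_mul, hn₀, haz, haw]; ring
  have hr' : r' = r := by
    have : B a₁ a₀ = r' := by
      rw [hb']; simp only [map_add, map_smul, smul_eq_mul, hn₁, haz', haw']; ring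
    rw [← this, hBs, hr]
  have h01 : mul a₀ a₁ = r • a₀ + (1 / 4 : ℝ) • w := by
    rw [hb]; simp only [map_add, map_smul, i₀, hz, hw]; module
  -- the equation from the second decomposition
  have heq : mul a₁ (mul a₀ a₁) = (3 * r / 4) • a₁ + (1 / 4 : ℝ) • mul a₀ a₁ := by
    have h10 : mul a₀ a₁ = r' • a₁ + (1 / 4 : ℝ) • w' := by
      rw [hcomm a₀ a₁]
      conv_lhs => rw [hb']
      simp only [map_add, map_smul, i₁, hz', hw']; module
    rw [h10, map_add, map_smul, map_smul, i₁, hw', hr']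
    module
  rw [h01, hb] at heq
  simp only [map_add, map_smul, LinearMap.add_apply, LinearMap.smul_apply, i₀, hw, hcomm z a₀, hz,
    hzw, hww, hcomm w a₀] at heq
  have heq0 : (1 / 4 : ℝ) • p - (3 * r / 4) • z + (r * r + r * (1 - r) / 4 - 3 * r * r / 4 - r / 4) • a₀ +
      (1 / 16 - r / 2) • w = 0 := by
    rw [← sub_eq_zero] at heq
    rw [← heq]
    module
  have hw4 : (1 / 16 - r / 2 : ℝ) • w = 0 := by
    have e1 := congrArg (mul a₀) heq0
    simp only [map_add, map_sub, map_smul, hp, hz, i₀, hw, map_zero, smul_zero, sub_zero, zero_add] at e1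
    have e2 := congrArg (mul a₀) e1
    simp only [map_add, map_smul, i₀, hw, map_zero] at e2
    have e3 : (3 / 16 : ℝ) • ((1 / 16 - r / 2 : ℝ) • w) = 0 := by
      have := congrArg₂ (· - ·) e1 e2
      simp only [sub_zero] at this
      rw [← this]
      module
    exact (smul_eq_zero.1 e3).resolve_left (by norm_num)
  rcases smul_eq_zero.1 hw4 with h8 | hw0
  · right
    have h8' : r = 1 / 8 := by linarith
    have ha0 : a₀ ≠ 0 := fun e => by rw [e] at hn₀; simp at hn₀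
    have hp' : p = (3 / 8 : ℝ) • z := by
      rw [h8, zero_smul, add_zero, h8'] at heq0
      have : (1 / 4 : ℝ) • (p - (3 / 8 : ℝ) • z) = 0 := by
        rw [← heq0]
        module
      exact sub_eq_zero.1 ((smul_eq_zero.1 this).resolve_left (by norm_num))
    subst h8'
    rw [hp'] at hww hzz
    refine ⟨hr, ?_, ?_, ?_⟩ <;>
    · rw [h01, hb]
      simp only [map_add, map_sub, map_smul, LinearMap.add_apply, LinearMap.sub_apply,
        LinearMap.smul_apply, i₀, hz, hw, hcomm z a₀, hcomm w a₀, hcomm w z, hzw, hww, hzz]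
      module
  · left
    subst hw0
    simp only [map_zero] at hBw
    rcases mul_eq_zero.1 hBw.symm with hr0 | hr1
    · have hr0' : r = 0 := by linarith
      exact ⟨hr.trans hr0', by rw [h01, hr0']; simp⟩
    · exfalso
      have hr1' : r = 1 := by linarith
      subst hr1'
      have hzn : B z z = 0 := by
        have h1 := hn₁
        rw [hb] at h1
        simp only [map_add, map_smul, map_zero, LinearMap.add_apply, LinearMap.smul_apply, smul_eq_mul,
          LinearMap.zero_apply, hn₀, haz, hBs z a₀] at h1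
        linarith
      have hz0 : z = 0 := by
        by_contra h
        exact (hBpos z h).ne' hzn
      exact hne (by rw [hb, hz0]; simp)

end Cfsg.Agent.S5545
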