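import Cfsg.Statements.S5546
import Cfsg.Agent.Lib.ThreeTransp.LeechInvariantForm
-- import your own Cfsg.Agent.* helpers here

set_option autoImplicit false
open Cfsg

open Cfsg.Agent.Lib.ThreeTransp Cfsg.Agent.Lib.Compute
open scoped Matrix

namespace Cfsg.Agent.S5546

/-- The second Conway group (the stabilizer in the Leech lattice automorphism group of the short vector fixed in the definitions) is isomorphic to a subgroup of the general linear group of degree 23 over the field with 13 elements: there is an injective homomorphism into it. -/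
theorem result : ∃ f : ↥Cfsg.Spor.Co2 →* GL (Fin 23) (ZMod 13), Function.Injective f := by
  classical
  haveI : Fact (Nat.Prime 13) := ⟨by norm_num⟩
  let co : Lam → Cfsg.GolayPt → ZMod 13 := fun v i => ((v : Cfsg.GolayPt → ℤ) i : ZMod 13)
  let M : ↥Cfsg.Spor.Co2 → Matrix Cfsg.GolayPt Cfsg.GolayPt (ZMod 13) := fun g =>
    Matrix.of fun i j => 5 * co ((g : Equiv.Perm Lam) (vv j j)) i
  have h40 : (5 : ZMod 13) * 8 = 1 := rfl
  have hadd : ∀ (g : ↥Cfsg.Spor.Co2) (v w : Lam), (g : Equiv.Perm Lam) (v + w) =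
      (g : Equiv.Perm Lam) v + (g : Equiv.Perm Lam) w := fun g v w => g.2.1.1 v w
  have hnorm : ∀ (g : ↥Cfsg.Spor.Co2) (v : Lam),
      Cfsg.sqNorm (((g : Equiv.Perm Lam) v : Lam) : Cfsg.GolayPt → ℤ) = Cfsg.sqNorm (v : Cfsg.GolayPt → ℤ) :=
    fun g v => g.2.1.2 v
  have hdot : ∀ (g : ↥Cfsg.Spor.Co2) (v w : Lam),
      Cfsg.dotInt (((g : Equiv.Perm Lam) v : Lam) : Cfsg.GolayPt → ℤ) (((g : Equiv.Perm Lam) w : Lam) : Cfsg.GolayPt → ℤ) =
        Cfsg.dotInt (v : Cfsg.GolayPt → ℤ) (w : Cfsg.GolayPt → ℤ) := by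
    intro g v w
    have h := hnorm g (v + w)
    rw [hadd] at h
    simp only [AddSubgroup.coe_add, sqNorm_add, hnorm] at h
    linarith
  have hexp : ∀ (g : ↥Cfsg.Spor.Co2) (v : Lam) (i : Cfsg.GolayPt),
      8 * (((g : Equiv.Perm Lam) v : Lam) : Cfsg.GolayPt → ℤ) i =
        ∑ j, (v : Cfsg.GolayPt → ℤ) j * (((g : Equiv.Perm Lam) (vv j j) : Lam) : Cfsg.GolayPt → ℤ) i := by
    intro g v i
    let φ : Lam →+ Lam := AddMonoidHom.mk' (g : Equiv.Perm Lam) (hadd g)
    have hv : (8 : ℤ) • v = ∑ j, ((v : Cfsg.GolayPt → ℤ) j) • vv j j := by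
      refine Subtype.ext (funext fun p => ?_)
      rw [AddSubgroup.val_finsetSum]
      simp only [AddSubgroup.coe_zsmul, Pi.smul_apply, Finset.sum_apply, smul_eq_mul, vv, pairFun]
      rw [Finset.sum_eq_single p (fun j _ hj => by simp [Ne.symm hj]) (by simp), if_pos rfl]
      ring
    have h := congrArg (fun x : Lam => (x : Cfsg.GolayPt → ℤ) i) (congrArg φ hv)
    simp only [map_sum, map_zsmul, AddSubgroup.val_finsetSum, AddSubgroup.coe_zsmul, Pi.smul_apply,
      Finset.sum_apply, smul_eq_mul] at h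
    exact h
  have hkey : ∀ (g : ↥Cfsg.Spor.Co2) (v : Lam), M g *ᵥ co v = co ((g : Equiv.Perm Lam) v) := by
    intro g v
    funext i
    have h := congrArg (fun z : ℤ => 5 * (z : ZMod 13)) (hexp g v i)
    simp only [Int.cast_mul, Int.cast_sum, Int.cast_ofNat, ← mul_assoc, h40, one_mul] at h
    show ∑ j, M g i j * co v j = ((((g : Equiv.Perm Lam) v : Lam) : Cfsg.GolayPt → ℤ) i : ZMod 13)
    rw [h, Finset.mul_sum]
    exact Finset.sum_congr rfl fun j _ => by simp only [Matrix.of_apply, M, co]; ring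
  have hcoj : ∀ j, co (vv j j) = Pi.single j (8 : ZMod 13) := by
    intro j; funext p
    simp only [co, vv, pairFun]
    rcases eq_or_ne p j with rfl | hp
    · simp
    · simp [hp]
  have hext : ∀ A B : Matrix Cfsg.GolayPt Cfsg.GolayPt (ZMod 13), (∀ j, A *ᵥ co (vv j j) = B *ᵥ co (vv j j)) → A = B := by
    intro A B h
    ext i j
    have h' := congrFun (h j) i
    rw [hcoj, Matrix.mulVec_single, Matrix.mulVec_single] at h'
    simp only [Pi.smul_apply, Matrix.col_apply, op_smul_eq_mul] at h'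
    exact mul_right_cancel₀ (fun h => one_ne_zero (α := ZMod 13) (by rw [← h40, h, mul_zero])) h'
  have hM1 : M 1 = 1 := hext _ _ fun j => by rw [hkey, Matrix.one_mulVec]; rfl
  have hMmul : ∀ g h, M (g * h) = M g * M h := fun g h => hext _ _ fun j => by
    rw [hkey, ← Matrix.mulVec_mulVec, hkey, hkey]; rfl
  let ℓ : (Cfsg.GolayPt → ZMod 13) →ₗ[ZMod 13] ZMod 13 :=
    (LinearMap.proj (R := ZMod 13) (φ := fun _ : Cfsg.GolayPt => ZMod 13) (none : Cfsg.GolayPt)) + LinearMap.proj (R := ZMod 13) (φ := fun _ : Cfsg.GolayPt => ZMod 13) (some 0 : Cfsg.GolayPt)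
  have hfixu : ∀ g : ↥Cfsg.Spor.Co2, (g : Equiv.Perm Lam) Cfsg.Spor.leechU = Cfsg.Spor.leechU :=
    fun g => MulAction.mem_stabilizer_iff.1 g.2.2
  have hdotu : ∀ x : Cfsg.GolayPt → ℤ, Cfsg.dotInt x Cfsg.Spor.vecU = 4 * (x none + x (some 0)) := by
    intro x
    simp only [Cfsg.dotInt, Cfsg.Spor.vecU, Fintype.sum_option]
    rw [Finset.sum_eq_single (0 : ZMod 23) (fun b _ hb => by simp [hb]) (by simp)]
    simp
    ring
  have hℓ : ∀ g x, ℓ (M g *ᵥ x) = ℓ x := by
    intro g
    have hj : ∀ j, ℓ (co ((g : Equiv.Perm Lam) (vv j j))) = ℓ (co (vv j j)) := by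
      intro j
      have h := hdot g (vv j j) Cfsg.Spor.leechU
      rw [hfixu] at h
      rw [show ((Cfsg.Spor.leechU : Lam) : Cfsg.GolayPt → ℤ) = Cfsg.Spor.vecU from rfl, hdotu, hdotu] at h
      have h' := mul_left_cancel₀ (by norm_num : (4 : ℤ) ≠ 0) h
      have h'' := congrArg (fun z : ℤ => (z : ZMod 13)) h'
      simp only [Int.cast_add] at h''
      simpa [ℓ, co] using h''
    intro x
    have hxe : x = ∑ j, (5 * x j) • co (vv j j) := by
      funext p
      simp only [hcoj, Finset.sum_apply, Pi.smul_apply, smul_eq_mul]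
      rw [Finset.sum_eq_single p (fun j _ hj => by simp [Ne.symm hj]) (by simp), Pi.single_eq_same,
        mul_comm 5, mul_assoc, h40, mul_one]
    rw [hxe, Matrix.mulVec_sum, map_sum, map_sum]
    exact Finset.sum_congr rfl fun j _ => by rw [Matrix.mulVec_smul, map_smul, map_smul, hkey, hj]
  have hℓu : ℓ (Pi.single none 4 + Pi.single (some 0) 4) = 8 := by
    simp [ℓ]; rfl
  have hfr : Module.finrank (ZMod 13) (LinearMap.ker ℓ) = 23 := by
    have h := ℓ.finrank_range_add_finrank_ker
    have hsurj : LinearMap.range ℓ = ⊤ := LinearMap.range_eq_top.2 fun c => ⟨Pi.single none c, by simp [ℓ]⟩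
    rw [hsurj, finrank_top, Module.finrank_self, Module.finrank_fintype_fun_eq_card,
      show Fintype.card Cfsg.GolayPt = 24 from rfl] at h
    omega
  let b := Module.finBasisOfFinrankEq (ZMod 13) (LinearMap.ker ℓ) hfr
  have hker : ∀ g, ∀ x ∈ LinearMap.ker ℓ, Matrix.toLin' (M g) x ∈ LinearMap.ker ℓ := fun g x hx => by
    rw [LinearMap.mem_ker] at hx ⊢
    rw [Matrix.toLin'_apply, hℓ, hx]
  let R : ↥Cfsg.Spor.Co2 →* Matrix (Fin 23) (Fin 23) (ZMod 13) :=
    { toFun := fun g => LinearMap.toMatrixAlgEquiv b ((Matrix.toLin' (M g)).restrict (hker g))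
      map_one' := by
        rw [← map_one (LinearMap.toMatrixAlgEquiv b)]
        exact congrArg _ (LinearMap.ext fun x => Subtype.ext (by simp [hM1]))
      map_mul' := fun g h => by
        rw [← map_mul]
        exact congrArg _ (LinearMap.ext fun x => Subtype.ext (by simp [hMmul])) }
  refine ⟨R.toHomUnits, (injective_iff_map_eq_one _).2 fun g hg => ?_⟩
  have hres : (Matrix.toLin' (M g)).restrict (hker g) = LinearMap.id := by
    refine (LinearMap.toMatrixAlgEquiv b).injective ?_
    rw [← Module.End.one_eq_id, map_one]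
    exact congrArg Units.val hg
  have hid : ∀ x, M g *ᵥ x = x := by
    intro x
    set u : Cfsg.GolayPt → ZMod 13 := Pi.single none 4 + Pi.single (some 0) 4 with hu
    have hy : x - (5 * ℓ x) • u ∈ LinearMap.ker ℓ := by
      rw [LinearMap.mem_ker, map_sub, map_smul, hℓu, smul_eq_mul]
      linear_combination (-ℓ x) * h40
    have h1 := congrArg Subtype.val (LinearMap.congr_fun hres ⟨_, hy⟩)
    simp only [LinearMap.restrict_apply, Matrix.toLin'_apply, LinearMap.id_apply, Matrix.mulVec_sub,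
      Matrix.mulVec_smul] at h1
    have hcu : co Cfsg.Spor.leechU = u := by
      funext p
      simp only [co, Cfsg.Spor.leechU, Cfsg.Spor.vecU, hu, Pi.add_apply]
      rcases p with _ | p
      · simp
      · by_cases hp : p = 0
        · subst hp; simp
        · simp [hp]
    have h2 : M g *ᵥ u = u := by rw [← hcu, hkey, hfixu]
    rw [h2] at h1
    simpa using h1
  have hsmall : ∀ v : Lam, Cfsg.sqNorm (v : Cfsg.GolayPt → ℤ) = 32 → (g : Equiv.Perm Lam) v = v := by
    intro v hv
    refine Subtype.ext (funext fun i => ?_)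
    have h := congrFun ((hkey g v).symm.trans (hid (co v))) i
    simp only [co, ZMod.intCast_eq_intCast_iff_dvd_sub] at h
    have hb : ∀ w : Cfsg.GolayPt → ℤ, Cfsg.sqNorm w = 32 → -5 ≤ w i ∧ w i ≤ 5 := by
      intro w hw
      have h1 : w i ^ 2 ≤ 32 := hw ▸ Finset.single_le_sum (f := fun i => w i ^ 2) (fun j _ => sq_nonneg _) (Finset.mem_univ i)
      exact ⟨by nlinarith, by nlinarith⟩
    have h1 := hb _ hv
    have h2 := hb _ ((hnorm g v).trans hv)
    omega
  have hjj : ∀ j, (g : Equiv.Perm Lam) (vv j j) = vv j j := by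
    intro j
    obtain ⟨k, hk⟩ := exists_ne j
    have hs : vv j j = vv j k + dd j k := by
      refine Subtype.ext (funext fun p => ?_)
      simp only [AddSubgroup.coe_add, Pi.add_apply, vv, dd, pairFun]
      ring
    have n1 : Cfsg.sqNorm (vv j k : Cfsg.GolayPt → ℤ) = 32 := by revert hk; clear hs; revert j k; decide +kernel
    have n2 : Cfsg.sqNorm (dd j k : Cfsg.GolayPt → ℤ) = 32 := by revert hk; clear hs n1; revert j k; decide +kernel
    rw [hs, hadd, hsmall _ n1, hsmall _ n2]
  refine Subtype.ext (Equiv.ext fun v => Subtype.ext (funext fun i => ?_))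
  have h := hexp g v i
  simp only [hjj] at h
  simp only [vv, pairFun] at h
  rw [Finset.sum_eq_single i (fun j _ hj => by simp [Ne.symm hj]) (by simp), if_pos rfl] at h
  show (((g : Equiv.Perm ↥Cfsg.leechLattice) v : ↥Cfsg.leechLattice) : Cfsg.GolayPt → ℤ) i = (v : Cfsg.GolayPt → ℤ) i
  omega

end Cfsg.Agent.S5546
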