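import Cfsg.Statements.S5549
import Cfsg.Agent.Lib.ThreeTransp.GolayPairs

set_option autoImplicit false
open Cfsg

namespace Cfsg.Agent.S5549

theorem dsd {α : Type*} [DecidableEq α] (P Q : Finset α) : Disjoint (P \ Q) (Q \ P) := by
  rw [Finset.disjoint_left]
  intro a ha hb
  exact (Finset.mem_sdiff.1 hb).2 (Finset.mem_sdiff.1 ha).1

open Cfsg.Agent.Lib.ThreeTransp.GolayPairs
open Cfsg.Agent.Lib.Compute (one_mem_golayCode)

theorem sum_sgn (f : ↥Cfsg.golayCode → ZMod 2) (hf : ∀ c d, f (c + d) = f c + f d) [Fintype ↥Cfsg.golayCode] :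
    ∑ c, sgn (f c) = if (∀ c, f c = 0) then (Fintype.card ↥Cfsg.golayCode : ℤ) else 0 := by
  split_ifs with h
  · simp [h, sgn]
  · push Not at h
    obtain ⟨c₀, hc₀⟩ := h
    have h1 : f c₀ = 1 := (show ∀ a : ZMod 2, a ≠ 0 → a = 1 by decide) _ hc₀
    have h2 := Equiv.sum_comp (Equiv.addRight c₀) (fun c => sgn (f c))
    simp only [Equiv.coe_addRight, hf, sgn_add, h1, show sgn 1 = -1 by decide, mul_neg, mul_one,
      Finset.sum_neg_distrib] at h2
    omega

/-- Pairwise meeting pairs, at least four of them, have a common point. -/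
theorem common_point {α ι : Type*} (s : Finset ι) (hs : 4 ≤ s.card) (E : ι → Finset α)
    (hc : ∀ i ∈ s, (E i).card = 2) (hinj : ∀ i ∈ s, ∀ j ∈ s, E i = E j → i = j)
    (hmeet : ∀ i ∈ s, ∀ j ∈ s, ∃ v, v ∈ E i ∧ v ∈ E j) : ∃ v, ∀ i ∈ s, v ∈ E i := by
  classical
  obtain ⟨i, hi, j, hj, hij⟩ := Finset.one_lt_card.1 (show 1 < s.card by omega)
  obtain ⟨v, hvi, hvj⟩ := hmeet i hi j hj
  by_contra hno
  push Not at hno
  obtain ⟨k, hk, hvk⟩ := hno v
  obtain ⟨a, b, hab, hEi⟩ := Finset.card_eq_two.1 (hc i hi)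
  obtain ⟨a', ha', hEi'⟩ : ∃ a', a' ≠ v ∧ E i = {v, a'} := by
    rw [hEi] at hvi ⊢
    rcases Finset.mem_insert.1 hvi with rfl | h
    · exact ⟨b, hab.symm, rfl⟩
    · rw [Finset.mem_singleton.1 h]; exact ⟨a, hab, Finset.pair_comm a b⟩
  obtain ⟨b', hb', hEj'⟩ : ∃ b', b' ≠ v ∧ E j = {v, b'} := by
    obtain ⟨a, b, hab, hEj⟩ := Finset.card_eq_two.1 (hc j hj)
    rw [hEj] at hvj ⊢
    rcases Finset.mem_insert.1 hvj with rfl | h
    · exact ⟨b, hab.symm, rfl⟩
    · rw [Finset.mem_singleton.1 h]; exact ⟨a, hab, Finset.pair_comm a b⟩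
  have hne : a' ≠ b' := fun h => hij (hinj i hi j hj (by rw [hEi', hEj', h]))
  have hEk : E k = {a', b'} := by
    obtain ⟨w, hwi, hwk⟩ := hmeet i hi k hk
    obtain ⟨u, huj, huk⟩ := hmeet j hj k hk
    rw [hEi', Finset.mem_insert, Finset.mem_singleton] at hwi
    rw [hEj', Finset.mem_insert, Finset.mem_singleton] at huj
    rcases hwi with rfl | rfl
    · exact absurd hwk hvk
    rcases huj with rfl | rfl
    · exact absurd huk hvk
    exact (Finset.eq_of_subset_of_card_le (Finset.insert_subset hwk (Finset.singleton_subset_iff.2 huk))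
      (by rw [hc k hk, Finset.card_pair hne])).symm
  obtain ⟨l, hl, hlne⟩ : ∃ l ∈ s, l ∉ ({i, j, k} : Finset ι) := by
    by_contra h
    push Not at h
    have := Finset.card_le_card (fun x hx => h x hx)
    have h3 : ({i, j, k} : Finset ι).card ≤ 3 := Finset.card_le_three
    omega
  obtain ⟨x, y, hxy, hEl⟩ := Finset.card_eq_two.1 (hc l hl)
  have hsub : ∀ t : ι, t ∈ s → E l = E t → False ∨ l = t := fun t ht h => Or.inr (hinj l hl t ht h)
  obtain ⟨w₁, hw₁, hw₁'⟩ := hmeet i hi l hl
  obtain ⟨w₂, hw₂, hw₂'⟩ := hmeet j hj l hl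
  obtain ⟨w₃, hw₃, hw₃'⟩ := hmeet k hk l hl
  rw [hEi', Finset.mem_insert, Finset.mem_singleton] at hw₁
  rw [hEj', Finset.mem_insert, Finset.mem_singleton] at hw₂
  rw [hEk, Finset.mem_insert, Finset.mem_singleton] at hw₃
  have two : ∀ u w : α, u ≠ w → u ∈ E l → w ∈ E l → E l = {u, w} := fun u w huw hu hw =>
    (Finset.eq_of_subset_of_card_le (Finset.insert_subset hu (Finset.singleton_subset_iff.2 hw))
      (by rw [hc l hl, Finset.card_pair huw])).symm
  have hfin : E l = E i ∨ E l = E j ∨ E l = E k := by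
    by_cases hv : v ∈ E l
    · rcases hw₃ with rfl | rfl
      · left; rw [hEi']; exact two v w₃ ha'.symm hv hw₃'
      · right; left; rw [hEj']; exact two v w₃ hb'.symm hv hw₃'
    · rcases hw₁ with rfl | rfl
      · exact absurd hw₁' hv
      rcases hw₂ with rfl | rfl
      · exact absurd hw₂' hv
      right; right; rw [hEk]; exact two w₁ w₂ hne hw₁' hw₂'
  rcases hfin with h | h | h
  · exact hlne (by rw [hinj l hl i hi h]; simp)
  · exact hlne (by rw [hinj l hl j hj h]; simp)
  · exact hlne (by rw [hinj l hl k hk h]; simp)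

/-- Let X be a group of linear automorphisms of the length-24 binary Golay code of the definitions that fix the all-ones word, containing the coordinate-permutation action of every element of the code's automorphism group (the Mathieu group of degree 24), and such that every element of X sends each codeword into its orbit under that Mathieu group up to adding the all-ones word (X has the same orbits as the Mathieu group on the code modulo the all-ones word). Then every element of X agrees, modulo the all-ones word, with the action of a single element of the Mathieu group: X induces exactly the Mathieu group on the code modulo the all-ones word. -/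
theorem result (X : Subgroup (↥Cfsg.golayCode ≃ₗ[ZMod 2] ↥Cfsg.golayCode)) (h1 : ∀ x ∈ X, ∀ e : ↥Cfsg.golayCode, (e : (Cfsg.GolayPt → ZMod 2)) = (fun _ => (1 : ZMod 2)) → x e = e) (hM : ∀ σ ∈ Cfsg.M24, ∃ x ∈ X, ∀ c : ↥Cfsg.golayCode, ((x c : ↥Cfsg.golayCode) : (Cfsg.GolayPt → ZMod 2)) = fun p => (c : (Cfsg.GolayPt → ZMod 2)) (σ.symm p)) (horb : ∀ x ∈ X, ∀ c : ↥Cfsg.golayCode, ∃ σ ∈ Cfsg.M24, ((x c : ↥Cfsg.golayCode) : (Cfsg.GolayPt → ZMod 2)) = (fun p => (c : (Cfsg.GolayPt → ZMod 2)) (σ.symm p)) ∨ ((x c : ↥Cfsg.golayCode) : (Cfsg.GolayPt → ZMod 2)) = (fun p => (c : (Cfsg.GolayPt → ZMod 2)) (σ.symm p)) + fun _ => (1 : ZMod 2)) (x : ↥Cfsg.golayCode ≃ₗ[ZMod 2] ↥Cfsg.golayCode) (hx : x ∈ X) : ∃ σ ∈ Cfsg.M24, ∀ c : ↥Cfsg.golayCode, ((x c : ↥Cfsg.golayCode) : (Cfsg.GolayPt → ZMod 2)) = (fun p => (c : (Cfsg.GolayPt → ZMod 2)) (σ.symm p)) ∨ ((x c : ↥Cfsg.golayCode) : (Cfsg.GolayPt → ZMod 2)) = (fun p => (c : (Cfsg.GolayPt → ZMod 2)) (σ.symm p)) + fun _ => (1 : ZMod 2) := by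
  classical
  let _ : Fintype ↥Cfsg.golayCode := Fintype.ofFinite _
  let one : ↥Cfsg.golayCode := ⟨1, one_mem_golayCode⟩
  -- the functional of a set
  let F : Finset Cfsg.GolayPt → ↥Cfsg.golayCode → ZMod 2 := fun P c => ∑ p ∈ P, (c : Cfsg.GolayPt → ZMod 2) p
  have hFadd : ∀ P c d, F P (c + d) = F P c + F P d := fun P c d => by
    simp [F, Finset.sum_add_distrib]
  have hFne : ∀ P, (P.card = 2 ∨ P.card = 4 ∨ P.card = 6) → ¬ ∀ c, F P c = 0 := by
    intro P hP h
    obtain ⟨c, hc, h1⟩ : ∃ c ∈ Cfsg.golayCode, ∑ p ∈ P, c p = 1 := by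
      rcases hP with h2 | h2 | h2
      exacts [exists_odd_small (Or.inl h2), exists_odd_small (Or.inr h2), exists_odd_six h2]
    exact one_ne_zero (h1.symm.trans (h ⟨c, hc⟩))
  have hsc : ∀ c : ↥Cfsg.golayCode, sc (x c : ↥Cfsg.golayCode) ^ 2 = sc (c : Cfsg.GolayPt → ZMod 2) ^ 2 := by
    intro c
    obtain ⟨σ, -, h | h⟩ := horb x hx c
    · rw [h]
      congr 1
      exact Equiv.sum_comp σ.symm (fun p => sgn ((c : Cfsg.GolayPt → ZMod 2) p))
    · rw [h]
      have e : sc ((fun p => (c : Cfsg.GolayPt → ZMod 2) (σ.symm p)) + fun _ => (1 : ZMod 2)) =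
          - sc (c : Cfsg.GolayPt → ZMod 2) := by
        simp only [sc, Pi.add_apply, sgn_add, show sgn 1 = -1 by decide, mul_neg, mul_one, Finset.sum_neg_distrib]
        exact congrArg Neg.neg (Equiv.sum_comp σ.symm (fun p => sgn ((c : Cfsg.GolayPt → ZMod 2) p)))
      rw [e, neg_sq]
  -- the weighted sum
  have hN : ∀ f : ↥Cfsg.golayCode → ZMod 2, (∀ c d, f (c + d) = f c + f d) →
      ∑ c, sgn (f c) * sc (c : Cfsg.GolayPt → ZMod 2) ^ 2 = ∑ a : Cfsg.GolayPt, ∑ b : Cfsg.GolayPt,
        if (∀ c : ↥Cfsg.golayCode, f c + (c : Cfsg.GolayPt → ZMod 2) a + (c : Cfsg.GolayPt → ZMod 2) b = 0)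
        then (Fintype.card ↥Cfsg.golayCode : ℤ) else 0 := by
    intro f hf
    have e1 : ∀ c : ↥Cfsg.golayCode, sgn (f c) * sc (c : Cfsg.GolayPt → ZMod 2) ^ 2 =
        ∑ a : Cfsg.GolayPt, ∑ b : Cfsg.GolayPt,
          sgn (f c + (c : Cfsg.GolayPt → ZMod 2) a + (c : Cfsg.GolayPt → ZMod 2) b) := by
      intro c
      rw [sc, pow_two, Finset.sum_mul_sum, Finset.mul_sum]
      refine Finset.sum_congr rfl fun a _ => ?_
      rw [Finset.mul_sum]
      exact Finset.sum_congr rfl fun b _ => by rw [sgn_add, sgn_add]; ring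
    rw [Finset.sum_congr rfl (fun c _ => e1 c), Finset.sum_comm]
    refine Finset.sum_congr rfl fun a _ => ?_
    rw [Finset.sum_comm]
    refine Finset.sum_congr rfl fun b _ => ?_
    exact sum_sgn (fun c => f c + (c : Cfsg.GolayPt → ZMod 2) a + (c : Cfsg.GolayPt → ZMod 2) b)
      (fun c d => by simp only [hf, Submodule.coe_add, Pi.add_apply]; ring)
  -- the image of a pair
  have himg : ∀ P : Finset Cfsg.GolayPt, P.card = 2 → ∃ P' : Finset Cfsg.GolayPt, P'.card = 2 ∧ ∀ c, F P (x c) = F P' c := by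
    intro P hP
    obtain ⟨p, q, hpq, rfl⟩ := Finset.card_eq_two.1 hP
    have hf2 : ∀ c d, F {p, q} (x (c + d)) = F {p, q} (x c) + F {p, q} (x d) := fun c d => by rw [map_add, hFadd]
    have h1 : ∑ c, sgn (F {p, q} (x c)) * sc (c : Cfsg.GolayPt → ZMod 2) ^ 2 =
        ∑ c, sgn (F {p, q} c) * sc (c : Cfsg.GolayPt → ZMod 2) ^ 2 := by
      rw [← x.toEquiv.sum_comp (fun c => sgn (F {p, q} c) * sc (c : Cfsg.GolayPt → ZMod 2) ^ 2)]
      exact Finset.sum_congr rfl fun c _ => by rw [← hsc c]; rfl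
    rw [hN _ hf2, hN _ (hFadd _)] at h1
    obtain ⟨a, b, hab⟩ : ∃ a b : Cfsg.GolayPt,
        ∀ c : ↥Cfsg.golayCode, F {p, q} (x c) + (c : Cfsg.GolayPt → ZMod 2) a + (c : Cfsg.GolayPt → ZMod 2) b = 0 := by
      by_contra hno
      rw [Finset.sum_eq_zero (fun a _ => Finset.sum_eq_zero (fun b _ => if_neg (fun h => hno ⟨a, b, h⟩)))] at h1
      have h2 : (0 : ℤ) < Fintype.card ↥Cfsg.golayCode := by exact_mod_cast Fintype.card_pos
      have h3 : (Fintype.card ↥Cfsg.golayCode : ℤ) ≤ ∑ a : Cfsg.GolayPt, ∑ b : Cfsg.GolayPt,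
          if (∀ c : ↥Cfsg.golayCode, F {p, q} c + (c : Cfsg.GolayPt → ZMod 2) a + (c : Cfsg.GolayPt → ZMod 2) b = 0)
          then (Fintype.card ↥Cfsg.golayCode : ℤ) else 0 := by
        refine le_trans ?_ (Finset.single_le_sum (fun a _ => Finset.sum_nonneg fun b _ => by split_ifs <;> positivity)
          (Finset.mem_univ p))
        refine le_trans ?_ (Finset.single_le_sum (fun b _ => by split_ifs <;> positivity) (Finset.mem_univ q))
        rw [if_pos (fun c => ?_)]
        simp only [F, Finset.sum_pair hpq]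
        generalize (c : Cfsg.GolayPt → ZMod 2) p = u
        generalize (c : Cfsg.GolayPt → ZMod 2) q = v
        revert u v; decide
      omega
    have hne : a ≠ b := by
      rintro rfl
      refine hFne {p, q} (Or.inl hP) fun c => ?_
      have := hab (x.symm c)
      rwa [LinearEquiv.apply_symm_apply, add_assoc, CharTwo.add_self_eq_zero, add_zero] at this
    refine ⟨{a, b}, Finset.card_pair hne, fun c => ?_⟩
    simp only [F, Finset.sum_pair hne]
    exact (show ∀ u v w : ZMod 2, u + v + w = 0 → u = v + w by decide) _ _ _ (hab c)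
  choose! I hIc hI using himg
  have hFinj : ∀ P Q : Finset Cfsg.GolayPt, P.card = 2 → Q.card = 2 → (∀ c, F P c = F Q c) → P = Q := by
    intro P Q hP hQ h
    by_contra hne
    have hd : ∀ c, F (symmDiff P Q) c = 0 := by
      intro c
      have e : F (symmDiff P Q) c = F P c + F Q c := by
        have h1 := Finset.sum_sdiff (f := fun p => (c : Cfsg.GolayPt → ZMod 2) p) (Finset.inter_subset_left : P ∩ Q ⊆ P)
        have h2 := Finset.sum_sdiff (f := fun p => (c : Cfsg.GolayPt → ZMod 2) p) (Finset.inter_subset_right : P ∩ Q ⊆ Q)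
        rw [Finset.sdiff_inter_self_left] at h1
        rw [Finset.inter_comm, Finset.sdiff_inter_self_left, Finset.inter_comm] at h2
        simp only [F, symmDiff_def, Finset.sup_eq_union, Finset.sum_union (dsd _ _)]
        rw [← h1, ← h2]
        generalize (∑ p ∈ P ∩ Q, (c : Cfsg.GolayPt → ZMod 2) p) = w
        generalize (∑ p ∈ P \ Q, (c : Cfsg.GolayPt → ZMod 2) p) = u
        generalize (∑ p ∈ Q \ P, (c : Cfsg.GolayPt → ZMod 2) p) = v
        revert u v w; decide
      rw [e, h, CharTwo.add_self_eq_zero]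
    refine hFne _ ?_ hd
    have h3 : (symmDiff P Q).card = (P \ Q).card + (Q \ P).card := by
      rw [symmDiff_def, Finset.sup_eq_union, Finset.card_union_of_disjoint (dsd _ _)]
    have h4 := Finset.card_sdiff_add_card_inter P Q
    have h5 := Finset.card_sdiff_add_card_inter Q P
    rw [Finset.inter_comm] at h5
    have h6 : (P ∩ Q).card < 2 := by
      by_contra h7
      exact hne ((Finset.eq_of_subset_of_card_le Finset.inter_subset_left (by omega)).symm.trans
        (Finset.eq_of_subset_of_card_le Finset.inter_subset_right (by omega)))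
    omega
  have hIinj : ∀ P Q : Finset Cfsg.GolayPt, P.card = 2 → Q.card = 2 → I P = I Q → P = Q := fun P Q hP hQ h =>
    hFinj P Q hP hQ fun c => by
      have h1 := hI P hP (x.symm c)
      have h2 := hI Q hQ (x.symm c)
      rw [LinearEquiv.apply_symm_apply] at h1 h2
      rw [h1, h, h2]
  have hpair : ∀ (p q : Cfsg.GolayPt), p ≠ q → ∀ c : ↥Cfsg.golayCode, F {p, q} c =
      (c : Cfsg.GolayPt → ZMod 2) p + (c : Cfsg.GolayPt → ZMod 2) q := fun p q h c => Finset.sum_pair h
  have hsum : ∀ p q r : Cfsg.GolayPt, p ≠ q → p ≠ r → q ≠ r → ∀ c,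
      F (I {p, q}) c + F (I {p, r}) c + F (I {q, r}) c = 0 := by
    intro p q r h1 h2 h3 c
    rw [← hI _ (Finset.card_pair h1), ← hI _ (Finset.card_pair h2), ← hI _ (Finset.card_pair h3),
      hpair p q h1, hpair p r h2, hpair q r h3]
    exact (show ∀ u v w : ZMod 2, u + v + (u + w) + (v + w) = 0 by decide) _ _ _
  -- the pairs at a point have a common image point
  have hstar : ∀ p : Cfsg.GolayPt, ∃ v, ∀ q ∈ Finset.univ.erase p, v ∈ I {p, q} := by
    intro p
    refine common_point _ (by rw [Finset.card_erase_of_mem (Finset.mem_univ p)]; decide) _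
      (fun q hq => hIc _ (Finset.card_pair (Finset.ne_of_mem_erase hq).symm))
      (fun q hq r hr h => ?_) (fun q hq r hr => ?_)
    · have h1 := Finset.ne_of_mem_erase hq
      have h2 := Finset.ne_of_mem_erase hr
      have e := hIinj _ _ (Finset.card_pair h1.symm) (Finset.card_pair h2.symm) h
      have h3 : q ∈ ({p, r} : Finset Cfsg.GolayPt) := by rw [← e]; simp
      simpa [h1] using h3
    · have h1 := (Finset.ne_of_mem_erase hq).symm
      have h2 := (Finset.ne_of_mem_erase hr).symm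
      by_cases hqr : q = r
      · subst hqr
        obtain ⟨v, hv⟩ := Finset.card_pos.1 (show 0 < (I {p, q}).card by rw [hIc _ (Finset.card_pair h1)]; norm_num)
        exact ⟨v, hv, hv⟩
      by_contra hno
      push Not at hno
      set U := I {p, q} ∪ I {p, r} with hU
      have hd : Disjoint (I {p, q}) (I {p, r}) := Finset.disjoint_left.2 hno
      have hFU : ∀ c, F U c = F (I {q, r}) c := fun c => by
        have := hsum p q r h1 h2 hqr c
        simp only [F, hU, Finset.sum_union hd] at this ⊢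
        exact (show ∀ u v w : ZMod 2, u + v + w = 0 → u + v = w by decide) _ _ _ this
      have hUc : U.card = 4 := by
        rw [hU, Finset.card_union_of_disjoint hd, hIc _ (Finset.card_pair h1), hIc _ (Finset.card_pair h2)]
      set W := I {q, r} with hW
      have hWc : W.card = 2 := hIc _ (Finset.card_pair hqr)
      refine hFne ((U \ W) ∪ (W \ U)) ?_ fun c => ?_
      · rw [Finset.card_union_of_disjoint (dsd _ _)]
        have h4 := Finset.card_sdiff_add_card_inter U W
        have h5 := Finset.card_sdiff_add_card_inter W U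
        rw [Finset.inter_comm] at h5
        omega
      · have e1 := Finset.sum_sdiff (f := fun p => (c : Cfsg.GolayPt → ZMod 2) p) (Finset.inter_subset_left : U ∩ W ⊆ U)
        have e2 := Finset.sum_sdiff (f := fun p => (c : Cfsg.GolayPt → ZMod 2) p) (Finset.inter_subset_right : U ∩ W ⊆ W)
        rw [Finset.sdiff_inter_self_left] at e1
        rw [Finset.inter_comm, Finset.sdiff_inter_self_left, Finset.inter_comm] at e2
        have e3 := hFU c
        simp only [F] at e3 ⊢
        rw [Finset.sum_union (dsd _ _)]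
        rw [← e1, ← e2] at e3
        exact (show ∀ u v w : ZMod 2, u + w = v + w → u + v = 0 by decide) _ _ _ e3
  choose v hv using hstar
  have hv' : ∀ p q, p ≠ q → v p ∈ I {p, q} ∧ v q ∈ I {p, q} := fun p q h =>
    ⟨hv p q (Finset.mem_erase.2 ⟨h.symm, Finset.mem_univ q⟩), by
      rw [Finset.pair_comm]; exact hv q p (Finset.mem_erase.2 ⟨h, Finset.mem_univ p⟩)⟩
  have hvinj : Function.Injective v := by
    intro p q he
    by_contra hpq
    obtain ⟨r, hrp, hrq⟩ : ∃ r, r ≠ p ∧ r ≠ q := by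
      obtain ⟨r, hr⟩ := Finset.card_pos.1 (show 0 < ((Finset.univ.erase p).erase q).card by
        rw [Finset.card_erase_of_mem (Finset.mem_erase.2 ⟨Ne.symm hpq, Finset.mem_univ q⟩),
          Finset.card_erase_of_mem (Finset.mem_univ p)]
        decide)
      exact ⟨r, (Finset.mem_erase.1 (Finset.mem_erase.1 hr).2).1, (Finset.mem_erase.1 hr).1⟩
    have hshape : ∀ P : Finset Cfsg.GolayPt, P.card = 2 → v p ∈ I P → ∃ a, a ≠ v p ∧ I P = {v p, a} := by
      intro P hP hmem
      obtain ⟨a, b, hab, e⟩ := Finset.card_eq_two.1 (hIc P hP)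
      rw [e] at hmem ⊢
      rcases Finset.mem_insert.1 hmem with h | h
      · exact ⟨b, h ▸ hab.symm, by rw [h]⟩
      · rw [Finset.mem_singleton.1 h]; exact ⟨a, hab, Finset.pair_comm a b⟩
    obtain ⟨a, ha, ea⟩ := hshape _ (Finset.card_pair hpq) (hv' p q hpq).1
    obtain ⟨b, hb, eb⟩ := hshape _ (Finset.card_pair hrp.symm) (hv' p r hrp.symm).1
    obtain ⟨c', hc, ec⟩ := hshape _ (Finset.card_pair hrq.symm) (he ▸ (hv' q r hrq.symm).1)
    have h3 : ({p, q} : Finset Cfsg.GolayPt) ≠ {p, r} := fun e => hrp (by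
      have : r ∈ ({p, q} : Finset Cfsg.GolayPt) := by rw [e]; simp
      simpa [hrq] using this)
    have h4 : ({p, q} : Finset Cfsg.GolayPt) ≠ {q, r} := fun e => hpq (by
      have : p ∈ ({q, r} : Finset Cfsg.GolayPt) := by rw [← e]; simp
      simpa [hrp.symm] using this)
    have h5 : ({p, r} : Finset Cfsg.GolayPt) ≠ {q, r} := fun e => hpq (by
      have : p ∈ ({q, r} : Finset Cfsg.GolayPt) := by rw [← e]; simp
      simpa [hrp.symm] using this)
    have hab' : a ≠ b := fun e => h3 (hIinj _ _ (Finset.card_pair hpq) (Finset.card_pair hrp.symm) (by rw [ea, eb, e]))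
    have hac : a ≠ c' := fun e => h4 (hIinj _ _ (Finset.card_pair hpq) (Finset.card_pair hrq.symm) (by rw [ea, ec, e]))
    have hbc : b ≠ c' := fun e => h5 (hIinj _ _ (Finset.card_pair hrp.symm) (Finset.card_pair hrq.symm) (by rw [eb, ec, e]))
    refine hFne {v p, a, b, c'} (Or.inr (Or.inl ?_)) fun w => ?_
    · rw [Finset.card_insert_of_notMem (by simp [ha.symm, hb.symm, hc.symm]),
        Finset.card_insert_of_notMem (by simp [hab', hac]), Finset.card_pair hbc]
    · have h6 := hsum p q r hpq hrp.symm hrq.symm w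
      simp only [F, ea, eb, ec, Finset.sum_pair ha.symm, Finset.sum_pair hb.symm, Finset.sum_pair hc.symm] at h6
      simp only [F]
      rw [Finset.sum_insert (by simp [ha.symm, hb.symm, hc.symm]), Finset.sum_insert (by simp [hab', hac]),
        Finset.sum_pair hbc]
      exact (show ∀ z u v w : ZMod 2, z + u + (z + v) + (z + w) = 0 → z + (u + (v + w)) = 0 by decide) _ _ _ _ h6
  have hbij : Function.Bijective v := Finite.injective_iff_bijective.1 hvinj
  let σ : Equiv.Perm Cfsg.GolayPt := (Equiv.ofBijective v hbij).symm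
  have hI' : ∀ p q, p ≠ q → I {p, q} = {v p, v q} := fun p q h =>
    (Finset.eq_of_subset_of_card_le (Finset.insert_subset (hv' p q h).1 (Finset.singleton_subset_iff.2 (hv' p q h).2))
      (by rw [hIc _ (Finset.card_pair h), Finset.card_pair (hvinj.ne h)])).symm
  have hkey : ∀ c : ↥Cfsg.golayCode, ((x c : ↥Cfsg.golayCode) : (Cfsg.GolayPt → ZMod 2)) = (fun p => (c : (Cfsg.GolayPt → ZMod 2)) (σ.symm p)) ∨ ((x c : ↥Cfsg.golayCode) : (Cfsg.GolayPt → ZMod 2)) = (fun p => (c : (Cfsg.GolayPt → ZMod 2)) (σ.symm p)) + fun _ => (1 : ZMod 2) := by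
    intro c
    have h1 : ∀ p, ((x c : ↥Cfsg.golayCode) : Cfsg.GolayPt → ZMod 2) p + ((x c : ↥Cfsg.golayCode) : Cfsg.GolayPt → ZMod 2) none =
        (c : Cfsg.GolayPt → ZMod 2) (v p) + (c : Cfsg.GolayPt → ZMod 2) (v none) := by
      intro p
      by_cases hp : p = none
      · subst hp; rw [CharTwo.add_self_eq_zero, CharTwo.add_self_eq_zero]
      · rw [← hpair p none hp, hI _ (Finset.card_pair hp), hI' p none hp, hpair _ _ (hvinj.ne hp)]
    have hσ : ∀ p, σ.symm p = v p := fun p => rfl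
    by_cases h : ((x c : ↥Cfsg.golayCode) : Cfsg.GolayPt → ZMod 2) none = (c : Cfsg.GolayPt → ZMod 2) (v none)
    · left
      funext p
      have := h1 p
      rw [h, add_left_inj] at this
      rw [this, hσ]
    · right
      funext p
      rw [Pi.add_apply, hσ]
      exact (show ∀ u z s t : ZMod 2, u + z = s + t → z ≠ t → u = s + 1 by decide) _ _ _ _ (h1 p) h
  refine ⟨σ, mem_M24_of fun c hc => ?_, hkey⟩
  rcases hkey ⟨c, hc⟩ with h | h
  · exact h ▸ (x ⟨c, hc⟩).2
  · have h2 := Cfsg.golayCode.add_mem (x ⟨c, hc⟩).2 one_mem_golayCode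
    convert h2 using 1
    rw [h]
    funext p
    simp only [Pi.add_apply, Pi.one_apply]
    rw [add_assoc, CharTwo.add_self_eq_zero, add_zero]

end Cfsg.Agent.S5549
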