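import Cfsg.Statements.S5552
import Cfsg.Agent.Lib.ThreeTransp.LeechFormUnique

set_option autoImplicit false
open Cfsg

namespace Cfsg.Agent.S5552

open Cfsg.Agent.Lib.ThreeTransp Cfsg.Agent.Lib.Compute

/-- Squared length over sixteen, modulo two. -/
def nrmForm (v : Lam) : ZMod 2 := ((sqNorm (v : GolayPt → ℤ) / 16 : ℤ) : ZMod 2)

theorem nrmForm_eq (v : Lam) : ∃ k : ℤ, sqNorm (v : GolayPt → ℤ) = 16 * k ∧ nrmForm v = (k : ZMod 2) := by
  obtain ⟨k, hk⟩ := sixteen_dvd_sqNorm v.2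
  exact ⟨k, hk, by rw [nrmForm, hk, Int.mul_ediv_cancel_left _ (by norm_num)]⟩

theorem nrmForm_co0 (g : ↥Co0) (v : Lam) : nrmForm (g • v) = nrmForm v := by
  show ((sqNorm ((g • v : Lam) : GolayPt → ℤ) / 16 : ℤ) : ZMod 2) = _
  rw [show sqNorm ((g • v : Lam) : GolayPt → ℤ) = sqNorm (v : GolayPt → ℤ) from g.2.2 v]
  rfl

theorem nrmForm_mod (v w : Lam) : nrmForm (v + (w + w)) = nrmForm v := by
  obtain ⟨a, ha, ha'⟩ := nrmForm_eq v
  obtain ⟨b, hb, hb'⟩ := nrmForm_eq (v + (w + w))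
  obtain ⟨c, hc⟩ := eight_dvd_dotInt v.2 w.2
  obtain ⟨d, hd⟩ := sixteen_dvd_sqNorm w.2
  rw [ha', hb', ZMod.intCast_eq_intCast_iff_dvd_sub]
  have h2 : dotInt (v : GolayPt → ℤ) ((w : GolayPt → ℤ) + (w : GolayPt → ℤ)) = 2 * (8 * c) := by
    rw [← hc]; simp only [dotInt, Pi.add_apply, Finset.mul_sum]
    exact Finset.sum_congr rfl fun i _ => by ring
  have h3 : sqNorm ((w : GolayPt → ℤ) + (w : GolayPt → ℤ)) = 4 * (16 * d) := by
    rw [← hd]; simp only [sqNorm, Pi.add_apply, Finset.mul_sum]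
    exact Finset.sum_congr rfl fun i _ => by ring
  have h1 : sqNorm ((v + (w + w) : Lam) : GolayPt → ℤ) = 16 * a + 2 * (2 * (8 * c)) + 4 * (16 * d) := by
    rw [AddSubgroup.coe_add, AddSubgroup.coe_add, sqNorm_add, h2, h3, ha]
  omega

theorem nrmForm_quad (u v w : Lam) : nrmForm (u + v + w) + nrmForm u + nrmForm v + nrmForm w
    = nrmForm (u + v) + nrmForm (u + w) + nrmForm (v + w) := by
  obtain ⟨a, ha, ha'⟩ := nrmForm_eq u
  obtain ⟨b, hb, hb'⟩ := nrmForm_eq v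
  obtain ⟨c, hc, hc'⟩ := nrmForm_eq w
  obtain ⟨d, hd, hd'⟩ := nrmForm_eq (u + v)
  obtain ⟨e, he, he'⟩ := nrmForm_eq (u + w)
  obtain ⟨f, hf, hf'⟩ := nrmForm_eq (v + w)
  obtain ⟨t, ht, ht'⟩ := nrmForm_eq (u + v + w)
  rw [ha', hb', hc', hd', he', hf', ht']
  have key : t + a + b + c = d + e + f := by
    have h1 : sqNorm ((u + v + w : Lam) : GolayPt → ℤ) + sqNorm (u : GolayPt → ℤ)
        + sqNorm (v : GolayPt → ℤ) + sqNorm (w : GolayPt → ℤ)
        = sqNorm ((u + v : Lam) : GolayPt → ℤ) + sqNorm ((u + w : Lam) : GolayPt → ℤ)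
          + sqNorm ((v + w : Lam) : GolayPt → ℤ) := by
      simp only [AddSubgroup.coe_add, sqNorm, Pi.add_apply, ← Finset.sum_add_distrib]
      exact Finset.sum_congr rfl fun i _ => by ring
    omega
  exact_mod_cast congrArg (fun z : ℤ => (z : ZMod 2)) key

theorem invForm_of {q : Lam → ZMod 2} (hc : ∀ v w, q (v + (w + w)) = q v)
    (hq : ∀ u v w, q (u + v + w) + q u + q v + q w = q (u + v) + q (u + w) + q (v + w))
    (hi : ∀ (g : ↥Co0) v, q (g • v) = q v) : InvForm q ∧ ∀ v, q (xiMap v) = q v := by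
  refine ⟨⟨fun u v w => ?_, hc, fun σ hσ v => ?_, fun c hc' v => ?_⟩, fun v => ?_⟩
  · have := hq u v w
    revert this
    generalize q (u + v + w) = a1; generalize q u = a2; generalize q v = a3; generalize q w = a4
    generalize q (u + v) = a5; generalize q (u + w) = a6; generalize q (v + w) = a7
    revert a1 a2 a3 a4 a5 a6 a7; decide
  · obtain ⟨g, hg⟩ := exists_co0_perm hσ; rw [← hg, hi]
  · obtain ⟨g, hg⟩ := exists_co0_sign hc'; rw [← hg, hi]
  · obtain ⟨g, hg⟩ := exists_co0_xi; rw [← hg, hi]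

theorem flag_value : pol nrmForm (octVec 0x149f) (vv (enc.symm 0) (enc.symm 5)) = 1 := by
  have h1 : sqNorm (fun p : GolayPt => if p ∈ setOf24 0x149f then (2 : ℤ) else 0) = 32 := by
    decide +kernel
  have h2 : sqNorm (pairFun (enc.symm 0) (enc.symm 5)) = 32 := by decide +kernel
  have h3 : sqNorm ((fun p : GolayPt => if p ∈ setOf24 0x149f then (2 : ℤ) else 0)
      + pairFun (enc.symm 0) (enc.symm 5)) = 80 := by decide +kernel
  have ho := octVec_apply (m := 0x149f) (by decide +kernel) (by decide +kernel)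
  have e : ((vv (enc.symm 0) (enc.symm 5) : Lam) : GolayPt → ℤ) = pairFun (enc.symm 0) (enc.symm 5) := rfl
  simp only [pol, nrmForm, AddSubgroup.coe_add, ho, e, h1, h2, h3]
  decide

theorem result (Q : ↥Cfsg.leechLattice → ZMod 2) (hcoset : ∀ v w : ↥Cfsg.leechLattice, Q (v + (w + w)) = Q v) (hquad : ∀ u v w : ↥Cfsg.leechLattice, Q (u + v + w) + Q u + Q v + Q w = Q (u + v) + Q (u + w) + Q (v + w)) (hinv : ∀ (g : ↥Cfsg.Co0) (v : ↥Cfsg.leechLattice), Q (g • v) = Q v) (hne : ∃ v : ↥Cfsg.leechLattice, Q v ≠ 0) (v : ↥Cfsg.leechLattice) : Q v = ((Cfsg.sqNorm (v : Cfsg.GolayPt → ℤ) / 16 : ℤ) : ZMod 2) := by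
  obtain ⟨hQ, hQx⟩ := invForm_of hcoset hquad hinv
  rcases zmod2_cases (pol Q (octVec 0x149f) (vv (enc.symm 0) (enc.symm 5))) with hb | hb
  · obtain ⟨x, hx⟩ := hne
    exact absurd (hQ.eq_zero hQx hb x) hx
  obtain ⟨hD, hDx⟩ := invForm_of (q := fun x => Q x + nrmForm x)
    (fun x w => by simp only [hcoset, nrmForm_mod])
    (fun a b c => by linear_combination hquad a b c + nrmForm_quad a b c)
    (fun g x => by simp only [hinv, nrmForm_co0])
  have hb' : pol (fun x => Q x + nrmForm x) (octVec 0x149f) (vv (enc.symm 0) (enc.symm 5)) = 0 := by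
    have hf := flag_value
    simp only [pol] at hb hf ⊢
    linear_combination (norm := ring_nf) hb + hf
    rfl
  exact CharTwo.add_eq_zero.mp (hD.eq_zero hDx hb' v)

end Cfsg.Agent.S5552
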