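import Cfsg.Statements.S5553
import Cfsg.Agent.Lib.ThreeTransp.LeechQuadratic

set_option autoImplicit false
open Cfsg

namespace Cfsg.Agent.S5553

open Cfsg.Agent.Lib.ThreeTransp

/-- The Leech lattice of the definitions has an additive subgroup A containing twice the lattice, of index 2^12 in the lattice, all of whose vectors have squared length divisible by 32: the invariant quadratic form 'squared length over 16 modulo 2' on the lattice modulo twice the lattice (a 24-dimensional space over the field with two elements) vanishes on a 12-dimensional subspace, so it is of plus type. -/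
theorem result : ∃ A : AddSubgroup (Cfsg.GolayPt → ℤ), A ≤ Cfsg.leechLattice ∧ (∀ v ∈ Cfsg.leechLattice, (2 : ℤ) • v ∈ A) ∧ (A.addSubgroupOf Cfsg.leechLattice).index = 2 ^ 12 ∧ ∀ v ∈ A, (32 : ℤ) ∣ Cfsg.sqNorm v := by
  refine ⟨singularSub, fun x hx => hx.1, fun v hv => ⟨zsmul_mem hv 2, ⟨v none, rfl⟩, fun i => ?_⟩,
    ?_, fun v hv => thirtyTwo_dvd_of_singular hv⟩
  · obtain ⟨t, ht⟩ := two_dvd_clearFun hv i
    refine ⟨t, ?_⟩
    have : clearFun ((2 : ℤ) • v) i = 2 * clearFun v i := by
      simp only [clearFun, Pi.smul_apply, smul_eq_mul]; ring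
    rw [this, ht]; ring
  · rw [singularSub_eq_ker, AddSubgroup.index_ker, AddMonoidHom.range_eq_top.mpr quadMap_surjective,
      AddSubgroup.card_top, Nat.card_prod, Nat.card_zmod, card_ker_evalExtra]
    norm_num

end Cfsg.Agent.S5553
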