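import Cfsg.Statements.S5555
import Cfsg.Agent.Lib.ThreeTransp.PlaneCover
import Cfsg.Agent.Lib.ThreeTransp.SU32
-- import your own Cfsg.Agent.* helpers here

set_option autoImplicit false
open Cfsg Cfsg.Agent.Lib.ThreeTransp Cfsg.Agent.Lib
open scoped commutatorElement

namespace Cfsg.Agent.S5555

/-- Let G be a finite group generated by a conjugacy class D of 3-transpositions, with trivial centre and with generalized Fitting subgroup F*(G) = O₂(G) (so the Fitting subgroup is O₂(G) too). If G/O₂(G) is isomorphic to the derived group of SU₃(2) (the group of order 54 generated by nine 3-transpositions), then O₂(G) has a complement in G. -/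
theorem result {G : Type*} [Group G] [Finite G] {D : Set G} (hD : Cfsg.IsThreeTranspositionClass D)
    (hZ : Subgroup.center G = ⊥) (hF : Cfsg.generalizedFittingSubgroup G = Cfsg.pCore 2 G)
    (hq : ∃ (F : Type) (_ : Field F) (_ : Fintype F), Fintype.card F = 4 ∧ Nonempty (G ⧸ Cfsg.pCore 2 G ≃* ↥(commutator ↥(Cfsg.SU 3 F 2)))) :
    ∃ K : Subgroup G, (Cfsg.pCore 2 G).IsComplement' K := by
  haveI : (Cfsg.pCore 2 G).Normal := pCore_normal' 2
  haveI : Fact (Nat.Prime 3) := ⟨Nat.prime_three⟩
  obtain ⟨F, iF, iFt, hF4, ⟨e⟩⟩ := hq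
  obtain ⟨a', u', y', h'⟩ := SU32.exists_rel54_of_card hF4
  have h54 : Nat.card (G ⧸ Cfsg.pCore 2 G) = 54 := (Nat.card_congr e.toEquiv).trans h'.card_eq
  let P : Sylow 3 (G ⧸ Cfsg.pCore 2 G) := default
  have hPc : Nat.card P = 27 := by
    rw [P.card_eq_multiplicity, h54]
    have : Nat.factorization 54 3 = 3 := by
      rw [show (54 : ℕ) = 2 * 3 ^ 3 by norm_num, Nat.factorization_mul (by norm_num) (by norm_num),
        Nat.Prime.factorization_pow Nat.prime_three, Finsupp.add_apply, Finsupp.single_eq_same,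
        Nat.Prime.factorization Nat.prime_two]
      simp
    rw [this]; norm_num
  have hidx : (P : Subgroup (G ⧸ Cfsg.pCore 2 G)).index = 2 := by
    have h := Subgroup.card_mul_index (P : Subgroup (G ⧸ Cfsg.pCore 2 G))
    rw [show Nat.card (P : Subgroup (G ⧸ Cfsg.pCore 2 G)) = 27 from hPc, h54] at h
    omega
  haveI : (P : Subgroup (G ⧸ Cfsg.pCore 2 G)).Normal := Subgroup.normal_of_index_eq_two hidx
  have hE2 : ∃ a ∈ D, ∃ b ∈ D, a ≠ b := by
    by_contra hne
    push Not at hne
    obtain ⟨d0, hd0, -⟩ := hD.2.1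
    have hcen : d0 ∈ Subgroup.center G := by
      rw [Subgroup.mem_center_iff]
      intro g
      have : g * d0 * g⁻¹ ∈ D := by
        obtain ⟨d1, hd1, hD1⟩ := hD.2.1
        rw [hD1] at hd0 ⊢
        exact IsConj.trans hd0 (isConj_iff.2 ⟨g, rfl⟩)
      exact mul_inv_eq_iff_eq_mul.1 (hne _ this _ hd0)
    rw [hZ, Subgroup.mem_bot] at hcen
    have := hD.1.1 d0 hd0
    rw [hcen, orderOf_one] at this
    norm_num at this
  obtain ⟨a, d⟩ := PlaneCover.CoverData.of_quotient hD hE2 (Cfsg.pCore 2 G) isPGroup_pCore_two.1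
    (P : Subgroup (G ⧸ Cfsg.pCore 2 G)) P.2 ⟨1, by rw [hidx]; norm_num⟩
  have h : Rel54 (e.symm a') (e.symm u') (e.symm y') := by
    have hc : e.symm ⁅u', y'⁆ = ⁅e.symm u', e.symm y'⁆ := map_commutatorElement e.symm u' y'
    refine ⟨?_, ?_, ?_, ?_, ?_, ?_, ?_, ?_, fun h1 => h'.ne (e.symm.injective ?_)⟩
    · rw [← map_mul, h'.sq, map_one]
    · rw [← map_pow, h'.cubeU, map_one]
    · rw [← map_pow, h'.cubeY, map_one]
    · rw [← map_mul, ← map_mul, h'.invU, map_inv]
    · rw [← map_mul, ← map_mul, h'.invY, map_inv]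
    · rw [← hc]; exact h'.commU.map e.symm
    · rw [← hc]; exact h'.commY.map e.symm
    · have := congrArg (Subgroup.map e.symm.toMonoidHom) h'.gen
      rw [MonoidHom.map_closure, Subgroup.map_top_of_surjective _ e.symm.surjective] at this
      simpa [Set.image_insert_eq] using this
    · rw [hc, map_one, h1]
  exact PlaneCover.exists_complement d h

end Cfsg.Agent.S5555
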