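import Cfsg.Statements.S5559
import Cfsg.Agent.Lib.ThreeTransp.PlaneCover
import Cfsg.Agent.Lib.ThreeTransp.SU32
-- import your own Cfsg.Agent.* helpers here

set_option autoImplicit false
open Cfsg Cfsg.Agent.Lib.ThreeTransp Cfsg.Agent.Lib
open scoped commutatorElement

namespace Cfsg.Agent.S5559

/-- Let H be a finite group generated by a conjugacy class E of 3-transpositions with at least two members, with F*(H) = O₂(H), and such that H/O₂(H) has a normal Sylow 3-subgroup of 2-power index (that is, H = O_{2,3,2}(H)). Then H/O₂(H) is isomorphic to the symmetric group of degree 3 or to the derived group of SU₃(2) (of order 54). -/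
theorem result {H : Type*} [Group H] [Finite H] {E : Set H} (hE : Cfsg.IsThreeTranspositionClass E)
    (hE2 : ∃ a ∈ E, ∃ b ∈ E, a ≠ b) (hF : Cfsg.generalizedFittingSubgroup H = Cfsg.pCore 2 H)
    (h232 : ∃ P : Sylow 3 (H ⧸ Cfsg.pCore 2 H), (P : Subgroup (H ⧸ Cfsg.pCore 2 H)).Normal ∧
      ∃ k : ℕ, (P : Subgroup (H ⧸ Cfsg.pCore 2 H)).index = 2 ^ k) :
    Nonempty (H ⧸ Cfsg.pCore 2 H ≃* Equiv.Perm (Fin 3)) ∨
      ∃ (F : Type) (_ : Field F) (_ : Fintype F), Fintype.card F = 4 ∧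
        Nonempty (H ⧸ Cfsg.pCore 2 H ≃* ↥(commutator ↥(Cfsg.SU 3 F 2))) := by
  haveI : (Cfsg.pCore 2 H).Normal := pCore_normal' 2
  obtain ⟨P, hPn, hidx⟩ := h232
  haveI := hPn
  obtain ⟨a, d⟩ := PlaneCover.CoverData.of_quotient hE hE2 (Cfsg.pCore 2 H) isPGroup_pCore_two.1
    (P : Subgroup (H ⧸ Cfsg.pCore 2 H)) P.2 hidx
  rcases PlaneCover.quotient_structure d hF (Cores.pCore_quotient_pCore 2 H) with
    ⟨t, ht3, ht1, hinv, hgen⟩ | ⟨u, y, h⟩
  · refine Or.inl (PlaneCover.nonempty_equiv_perm_three d.sq_bar ht3 ht1 hinv hgen fun hmem => ht1 ?_)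
    obtain ⟨i, hi⟩ := Subgroup.mem_zpowers_iff.1 hmem
    rw [← hi] at hinv
    have hc : t ^ i * t * t ^ i = t * (t ^ i * t ^ i) := by
      rw [((Commute.refl t).zpow_left i).eq, mul_assoc]
    rw [hc, show t ^ i * t ^ i = 1 by rw [hi]; exact d.sq_bar, mul_one] at hinv
    have h2 : t * t = 1 := by nth_rewrite 1 [hinv]; exact inv_mul_cancel t
    rw [pow_succ, pow_two, h2, one_mul] at ht3
    exact ht3
  · obtain ⟨a', u', y', h'⟩ := SU32.exists_rel54
    exact Or.inr ⟨SU32.F4, inferInstance, inferInstance, SU32.card_F4, Rel54.nonempty_equiv h h'⟩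

end Cfsg.Agent.S5559
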