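import Cfsg.Statements.S5560
import Cfsg.Agent.Lib.InvChar.ZStarTheorem
import Cfsg.Agent.Lib.Coprime.Action
import Cfsg.Agent.Lib.Cores.PCore

set_option autoImplicit false
open Cfsg

namespace Cfsg.Agent.S5560

section
variable {K : Type*} [Group K] [Finite K]

/-- A subgroup containing Sylow subgroups for all primes but `p` is supplemented by any Sylow
`p`-subgroup. -/
theorem exists_mem_sylow_mul {p : ℕ} [hp : Fact p.Prime] (C : Subgroup K)
    (hC : ∀ q : ℕ, q.Prime → q ≠ p → ∃ Q : Sylow q K, (Q : Subgroup K) ≤ C) (P : Sylow p K)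
    (k : K) : ∃ x ∈ (P : Subgroup K), ∃ c ∈ C, k = x * c := by
  classical
  obtain ⟨j, hj⟩ : ∃ j, C.index = p ^ j := by
    refine ⟨_, Nat.eq_prime_pow_of_unique_prime_dvd Subgroup.index_ne_zero_of_finite ?_⟩
    intro q hq hdvd
    by_contra hne
    haveI := Fact.mk hq
    obtain ⟨Q, hQ⟩ := hC q hq hne
    exact Q.not_dvd_index (hdvd.trans (Subgroup.index_dvd_of_le hQ))
  set o : K ⧸ C := QuotientGroup.mk 1 with ho
  set S := MulAction.stabilizer (P : Subgroup K) o with hS
  have hsum : (Nat.card K).factorization p = j + (Nat.card C).factorization p := by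
    rw [← C.card_mul_index, hj, Nat.factorization_mul Nat.card_pos.ne' (pow_ne_zero _ hp.1.ne_zero),
      Nat.factorization_pow]
    simp [hp.1.factorization_self, add_comm]
  have hle : Nat.card S ≤ p ^ (Nat.card C).factorization p := by
    obtain ⟨a, ha⟩ := IsPGroup.iff_card.mp ((P.2).to_subgroup S)
    have hdvd : Nat.card S ∣ Nat.card C := by
      have hmem : ∀ x : S, ((x : (P : Subgroup K)) : K) ∈ C := by
        rintro ⟨x, hx⟩
        rw [hS, MulAction.mem_stabilizer_iff] at hx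
        have hx' : (QuotientGroup.mk ((x : K) * 1) : K ⧸ C) = QuotientGroup.mk 1 := hx
        rw [mul_one, QuotientGroup.eq, mul_one, inv_mem_iff] at hx'
        exact hx'
      exact Subgroup.card_dvd_of_injective
        ((((P : Subgroup K).subtype).comp S.subtype).codRestrict C hmem) fun a b h => by
          have := congrArg Subtype.val h
          exact Subtype.ext (Subtype.ext this)
    rw [ha] at hdvd ⊢
    exact Nat.pow_le_pow_right hp.1.pos
      ((hp.1.pow_dvd_iff_le_factorization Nat.card_pos.ne').mp hdvd)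
  have horb : Nat.card (MulAction.orbit (P : Subgroup K) o) * Nat.card S = Nat.card (P : Subgroup K) := by
    rw [Nat.card_congr (MulAction.orbitEquivQuotientStabilizer (P : Subgroup K) o)]
    exact (Subgroup.card_eq_card_quotient_mul_card_subgroup S).symm
  have hge : Nat.card (K ⧸ C) ≤ Nat.card (MulAction.orbit (P : Subgroup K) o) := by
    rw [P.card_eq_multiplicity, hsum, pow_add] at horb
    change C.index ≤ _
    rw [hj]
    have hpos : 0 < p ^ (Nat.card C).factorization p := pow_pos hp.1.pos _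
    nlinarith
  have huniv : MulAction.orbit (P : Subgroup K) o = Set.univ :=
    Set.eq_of_subset_of_ncard_le (Set.subset_univ _)
      (by rw [Set.ncard_univ, ← Nat.card_coe_set_eq]; exact hge)
  obtain ⟨x, hx⟩ : (QuotientGroup.mk k : K ⧸ C) ∈ MulAction.orbit (P : Subgroup K) o := by
    rw [huniv]; exact Set.mem_univ _
  have hx' : (QuotientGroup.mk ((x : K) * 1) : K ⧸ C) = QuotientGroup.mk k := hx
  rw [mul_one, QuotientGroup.eq] at hx'
  exact ⟨x, x.2, _, hx', by group⟩

end

theorem result {G : Type*} [Group G] [Finite G] {p : ℕ} (hp : p.Prime) (hp2 : p ≠ 2)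
    (d : G) (hd : orderOf d = 2)
    (hprod : ∀ a ∈ conjugatesOf d, ∀ b ∈ conjugatesOf d, ∃ k : ℕ, orderOf (a * b) = p ^ k) :
    ∀ a ∈ conjugatesOf d, ∀ b ∈ conjugatesOf d, a * b ∈ Cfsg.pCore p G := by
  classical
  haveI := Fact.mk hp
  have hodd : ∀ k, Odd (p ^ k) := fun k => (hp.odd_of_ne_two hp2).pow
  have hdd : d * d = 1 := by rw [← pow_two, ← hd, pow_orderOf_eq_one]
  have hdi : d⁻¹ = d := inv_eq_of_mul_eq_one_right hdd
  have hcls : ∀ g : G, g * d * g⁻¹ ∈ conjugatesOf d := fun g => isConj_iff.mpr ⟨g, rfl⟩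
  have hsqc : ∀ a ∈ conjugatesOf d, a * a = 1 := by
    intro a ha
    obtain ⟨g, rfl⟩ := isConj_iff.mp ha
    calc g * d * g⁻¹ * (g * d * g⁻¹) = g * (d * d) * g⁻¹ := by group
      _ = 1 := by rw [hdd]; group
  have hiso : IsIsolated d := by
    intro g hg
    obtain ⟨k, hk⟩ := hprod d (mem_conjugatesOf_self) _ (hcls g)
    have h2 : (d * (g * d * g⁻¹)) ^ 2 = 1 := by
      rw [hg.mul_pow, pow_two, pow_two, hdd, hsqc _ (hcls g), one_mul]
    have h1 : orderOf (d * (g * d * g⁻¹)) = 1 := by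
      rcases (Nat.dvd_prime Nat.prime_two).mp (orderOf_dvd_of_pow_eq_one h2) with e | e
      · exact e
      · rw [hk] at e
        exact absurd (e ▸ hodd k) (by decide)
    have := orderOf_eq_one_iff.mp h1
    rw [← inv_eq_of_mul_eq_one_right this, hdi]
  have hz := Lib.InvChar.inZStar_of_isIsolated hd hiso
  set N := pPrimeCore 2 G with hN
  haveI hNn : N.Normal := Subgroup.sSup_normal _ fun _ h => h.1
  have hNodd : (Nat.card N).Coprime 2 := Lib.Cores.pPrimeCore_coprime 2 G
  set A := Subgroup.zpowers d with hA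
  have hAN : A ≤ Subgroup.normalizer (N : Set G) := by
    rw [Subgroup.normalizer_eq_top N]; exact le_top
  have hcop : (Nat.card A).Coprime (Nat.card N) := by
    rw [hA, Nat.card_zpowers, hd]; exact hNodd.symm
  have hsolv : Group.IsSolvable A ∨ Group.IsSolvable N := Or.inl inferInstance
  have hmem : ∀ a ∈ conjugatesOf d, a * d ∈ N := by
    intro a ha
    obtain ⟨g, rfl⟩ := isConj_iff.mp ha
    have := hz g
    rwa [hdi] at this
  set C : Subgroup N := (Subgroup.centralizer ({d} : Set G)).subgroupOf N with hC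
  have hCS : ∀ q : ℕ, q.Prime → q ≠ p → ∃ Q : Sylow q N, (Q : Subgroup N) ≤ C := by
    intro q hq hne
    haveI := Fact.mk hq
    obtain ⟨Q, hQ⟩ := Lib.Coprime.exists_invariant_sylow hAN hcop hsolv q
    refine ⟨Q, fun x hx => ?_⟩
    set Q' := (Q : Subgroup N).map N.subtype
    have hxQ : (x : G) ∈ Q' := Subgroup.mem_map_of_mem _ hx
    have hy : d * (x : G) * d⁻¹ * (x : G)⁻¹ ∈ Q' :=
      Q'.mul_mem ((Subgroup.mem_normalizer_iff.mp (hQ (Subgroup.mem_zpowers d)) _).mp hxQ)
        (Q'.inv_mem hxQ)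
    obtain ⟨k, hk⟩ := hprod d mem_conjugatesOf_self _ (hcls x)
    obtain ⟨m, hm⟩ := (Q.2.map N.subtype) ⟨_, hy⟩
    have hy1 : d * ((x : G) * d * (x : G)⁻¹) = 1 := by
      have e : d * (x : G) * d⁻¹ * (x : G)⁻¹ = d * ((x : G) * d * (x : G)⁻¹) := by
        rw [hdi]; group
      rw [← orderOf_eq_one_iff]
      have hdvd : orderOf (d * ((x : G) * d * (x : G)⁻¹)) ∣ q ^ m := by
        rw [← e]; exact orderOf_dvd_of_pow_eq_one (congrArg Subtype.val hm)
      rw [hk] at hdvd ⊢
      exact Nat.Coprime.eq_one_of_dvd (Nat.Coprime.pow k m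
        ((Nat.coprime_primes hp hq).mpr (Ne.symm hne))) hdvd
    rw [hC, Subgroup.mem_subgroupOf, Subgroup.mem_centralizer_singleton_iff]
    have := inv_eq_of_mul_eq_one_right hy1
    rw [hdi] at this
    calc (x : G) * d = ((x : G) * d * (x : G)⁻¹) * x := by group
      _ = d * x := by rw [← this]
  obtain ⟨P, hP⟩ := Lib.Coprime.exists_invariant_sylow hAN hcop hsolv p
  set P' := (P : Subgroup N).map N.subtype with hP'
  have hPd : ∀ a ∈ conjugatesOf d, a * d ∈ P' := by
    intro a ha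
    obtain ⟨k, hk⟩ := hprod a ha d mem_conjugatesOf_self
    obtain ⟨m, hm⟩ := hodd k
    set t := a * d with ht
    have hpow : t ^ (2 * m + 1) = 1 := by rw [← hm, ← hk, pow_orderOf_eq_one]
    have hinv : d * t * d⁻¹ = t⁻¹ := by
      rw [ht, mul_inv_rev, hdi, inv_eq_of_mul_eq_one_right (hsqc a ha)]
      calc d * (a * d) * d = d * a * (d * d) := by group
        _ = d * a := by rw [hdd, mul_one]
    set x := t ^ (m + 1) with hx
    have hxd : x * d * x⁻¹ = a := by
      have e : d * x⁻¹ * d⁻¹ = x := by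
        have h' : d * t⁻¹ * d⁻¹ = t := by
          calc d * t⁻¹ * d⁻¹ = (d * t * d⁻¹)⁻¹ := by group
            _ = t := by rw [hinv, inv_inv]
        rw [hx, ← inv_pow, ← conj_pow, h']
      calc x * d * x⁻¹ = x * (d * x⁻¹ * d⁻¹) * d := by group
        _ = t ^ (2 * m + 1) * t * d := by rw [e, hx, ← pow_add, ← pow_succ]; ring_nf
        _ = a := by rw [hpow, one_mul, ht, mul_assoc, hdd, mul_one]
    have hxN : x ∈ N := pow_mem (hmem a ha) _
    obtain ⟨y, hy, c, hc, hxy⟩ := exists_mem_sylow_mul C hCS P ⟨x, hxN⟩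
    have hxy' : x = (y : G) * c := congrArg Subtype.val hxy
    have hcd : (c : G) * d = d * c := Subgroup.mem_centralizer_singleton_iff.mp hc
    have hyP : (y : G) ∈ P' := Subgroup.mem_map_of_mem _ hy
    have e : a * d = (y : G) * (d * (y : G)⁻¹ * d⁻¹) := by
      rw [← hxd, hxy', hdi]
      calc (y : G) * c * d * ((y : G) * c)⁻¹ * d = (y : G) * (c * d * (c : G)⁻¹) * (y : G)⁻¹ * d := by group
        _ = (y : G) * d * (y : G)⁻¹ * d := by rw [hcd]; group
        _ = _ := by group
    rw [show t = a * d from ht] at *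
    rw [e]
    exact P'.mul_mem hyP ((Subgroup.mem_normalizer_iff.mp (hP (Subgroup.mem_zpowers d)) _).mp
      (P'.inv_mem hyP))
  set D := Subgroup.closure {t : G | ∃ a ∈ conjugatesOf d, ∃ b ∈ conjugatesOf d, a * b = t} with hD
  have hDP : D ≤ P' := by
    rw [hD, Subgroup.closure_le]
    rintro _ ⟨a, ha, b, hb, rfl⟩
    have e : a * b = (a * d) * (b * d)⁻¹ := by
      rw [mul_inv_rev, hdi, inv_eq_of_mul_eq_one_right (hsqc b hb)]
      calc a * b = a * (d * d) * b := by rw [hdd, mul_one]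
        _ = a * d * (d * b) := by group
    rw [SetLike.mem_coe, e]
    exact P'.mul_mem (hPd a ha) (P'.inv_mem (hPd b hb))
  have hDn : D.Normal := by
    refine ⟨fun n hn g => ?_⟩
    have hle : D ≤ D.comap (MulAut.conj g).toMonoidHom := by
      rw [hD, Subgroup.closure_le]
      rintro _ ⟨a, ha, b, hb, rfl⟩
      refine Subgroup.subset_closure ⟨g * a * g⁻¹, ?_, g * b * g⁻¹, ?_, by simp [MulAut.conj_apply, mul_assoc]⟩
      · exact IsConj.trans ha (isConj_iff.mpr ⟨g, rfl⟩)
      · exact IsConj.trans hb (isConj_iff.mpr ⟨g, rfl⟩)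
    exact hle hn
  intro a ha b hb
  exact le_sSup (show D ∈ {N : Subgroup G | N.Normal ∧ IsPGroup p N} from
    ⟨hDn, (P.2.map N.subtype).to_le hDP⟩) (Subgroup.subset_closure ⟨a, ha, b, hb, rfl⟩)

end Cfsg.Agent.S5560
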