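import Cfsg.Statements.S5562
import Cfsg.Agent.Lib.ThreeTransp.Invol

set_option autoImplicit false
open Cfsg Cfsg.Agent.Lib.ThreeTransp

namespace Cfsg.Agent.S5562

/-- Let G be a finite group, d an involution of G whose conjugates pairwise have products of odd order, and x any involution of G. Then the conjugacy class of d is the disjoint union, over the conjugates a of d commuting with x, of the sets of conjugates of d commuting with ax: every conjugate of d commutes with ax for exactly one conjugate a of d that commutes with x. -/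
theorem result {G : Type*} [Group G] [Finite G] (d : G) (hd : orderOf d = 2)
    (hodd : ∀ a ∈ conjugatesOf d, ∀ b ∈ conjugatesOf d, Odd (orderOf (a * b)))
    (x : G) (hx : orderOf x = 2) :
    ∀ e ∈ conjugatesOf d,
      ∃! a : G, a ∈ conjugatesOf d ∧ Commute a x ∧ Commute e (a * x) := by
  intro e he
  have hD : ∀ a ∈ conjugatesOf d, orderOf a = 2 := by
    intro a ha
    obtain ⟨c, rfl⟩ := isConj_iff.1 ha
    rw [orderOf_conj]; exact hd
  have hDc : ∀ g a, a ∈ conjugatesOf d → g * a * g⁻¹ ∈ conjugatesOf d :=
    fun g a ha => IsConj.trans ha (isConj_conj g a)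
  have he2 := hD e he
  have hx' : x⁻¹ = x := inv_inv_self hx
  set e' := x * e * x with he'def
  have he' : e' ∈ conjugatesOf d := by
    have := hDc x e he; rwa [hx'] at this
  have he'2 := hD e' he'
  have hodd' := hodd e' he' e he
  set w := e' * e with hwdef
  obtain ⟨k, hk⟩ := hodd'
  set v := w ^ (k + 1) with hvdef
  have hv2 : v * v = w := by
    rw [hvdef, ← pow_add, show k + 1 + (k + 1) = 2 * k + 1 + 1 by omega, pow_succ, ← hk,
      pow_orderOf_eq_one, one_mul]
  have hinv := inv_pow_mul he'2 he2 (k + 1)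
  rw [← hwdef, ← hvdef] at hinv
  -- `v` is inverted by `e'`, hence by `e`; `a = v * e`
  have heve : e * v * e = v⁻¹ := by
    have h1 : e = e' * w := by rw [hwdef, ← mul_assoc, inv_sq he'2, one_mul]
    have hcw : Commute w v := (Commute.refl w).pow_right _
    calc e * v * e = e' * (w * v) * e := by rw [← mul_assoc e' w v, ← h1]
      _ = e' * (v * w) * e := by rw [hcw.eq]
      _ = e' * v * e' * (e * e) := by rw [hwdef]; simp only [mul_assoc]
      _ = v⁻¹ := by rw [hinv, inv_sq he2, mul_one]
  have hvodd : ∃ j, orderOf v = 2 * j + 1 := by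
    have hdvd : orderOf v ∣ orderOf w := by
      rw [hvdef]; exact orderOf_pow_dvd (k + 1)
    rw [hk] at hdvd
    exact (odd_two_mul_add_one k).of_dvd_nat hdvd
  have haD : v * e ∈ conjugatesOf d := by
    obtain ⟨j, hj⟩ := hvodd
    -- `v = u * u` with `u = v ^ (j+1)` inverted by `e`
    have hu : e * v ^ (j + 1) * e = (v ^ (j + 1))⁻¹ := by
      have := conj_pow (i := j + 1) (a := e) (b := v)
      rw [inv_inv_self he2] at this
      rw [← this, heve, inv_pow]
    have hu2 : v ^ (j + 1) * v ^ (j + 1) = v := by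
      rw [← pow_add, show j + 1 + (j + 1) = 2 * j + 1 + 1 by omega, pow_succ, ← hj,
        pow_orderOf_eq_one, one_mul]
    have h3 : e * (v ^ (j + 1))⁻¹ = v ^ (j + 1) * e := by
      rw [← hu, ← mul_assoc, ← mul_assoc, inv_sq he2, one_mul]
    have := hDc (v ^ (j + 1)) e he
    rwa [mul_assoc, h3, ← mul_assoc, hu2] at this
  have sqrt_unique : ∀ p q : G, Odd (orderOf p) → Odd (orderOf q) → p * p = q * q → p = q := by
    intro p q ⟨i, hi⟩ ⟨j, hj⟩ h
    have r : ∀ (s : G) (n : ℕ), orderOf s ∣ n → s ^ (n + 1) = s := fun s n hn => by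
      rw [pow_succ, orderOf_dvd_iff_pow_eq_one.1 hn, one_mul]
    set N := orderOf p * orderOf q with hN
    have hNodd : Odd N := Odd.mul ⟨i, hi⟩ ⟨j, hj⟩
    obtain ⟨l, hl⟩ := hNodd
    calc p = p ^ (N + 1) := (r p N (dvd_mul_right _ _)).symm
      _ = (p * p) ^ (l + 1) := by rw [← pow_two, ← pow_mul]; congr 1; omega
      _ = (q * q) ^ (l + 1) := by rw [h]
      _ = q ^ (N + 1) := by rw [← pow_two, ← pow_mul]; congr 1; omega
      _ = q := r q N (dvd_mul_left _ _)
  refine ⟨v * e, ⟨haD, ?_, ?_⟩, ?_⟩
  · show v * e * x = x * (v * e)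
    have hxvx : x * v * x = v⁻¹ := by
      have hxw : x * w * x = w⁻¹ := by
        rw [hwdef, mul_inv_rev, inv_inv_self he2, inv_inv_self he'2, he'def]
        simp only [mul_assoc]
        rw [← mul_assoc x x (e * _), inv_sq hx, one_mul]
      have := conj_pow (i := k + 1) (a := x) (b := w)
      rw [hx', hxw] at this
      rw [hvdef, ← this, inv_pow]
    have : x * (v * e) * x = v * e := by
      calc x * (v * e) * x = (x * v * x) * (x * e * x) := by
            simp only [mul_assoc]; rw [← mul_assoc x x (e * x), inv_sq hx, one_mul]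
        _ = v⁻¹ * e' := by rw [hxvx]
        _ = v⁻¹ * (w * e) := by rw [hwdef, mul_assoc e', inv_sq he2, mul_one]
        _ = v⁻¹ * (v * v * e) := by rw [hv2]
        _ = v * e := by group
    calc v * e * x = (x * (v * e) * x) * x := by rw [this]
      _ = x * (v * e) := by rw [mul_assoc, inv_sq hx, mul_one]
  · show e * (v * e * x) = v * e * x * e
    have h1 : e * x = x * e' := by
      rw [he'def, ← mul_assoc, ← mul_assoc, inv_sq hx, one_mul]
    have h2 : x * e = e' * x := by
      rw [he'def, mul_assoc, inv_sq hx, mul_one]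
    calc e * (v * e * x) = v⁻¹ * x := by rw [← heve]; simp only [mul_assoc]
      _ = v * (v * v)⁻¹ * x := by group
      _ = v * e * e' * x := by
        rw [hv2, hwdef, mul_inv_rev, inv_inv_self he2, inv_inv_self he'2]; simp only [mul_assoc]
      _ = v * e * x * e := by simp only [mul_assoc, h2]
  · rintro a ⟨haD', hax, hae⟩
    have ha2 := hD a haD'
    have h1 : a * x * e * (a * x)⁻¹ = e := by rw [← hae.eq]; group
    rw [mul_inv_rev, hx', inv_inv_self ha2] at h1
    have h2 : a * e * a = e' := by
      calc a * e * a = a * (a * x * e * (x * a)) * a := by rw [h1]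
        _ = e' := by
          rw [he'def]; simp only [mul_assoc]
          rw [inv_sq ha2, mul_one, ← mul_assoc a a, inv_sq ha2, one_mul]
    have h3 : (a * e) * (a * e) = v * v := by
      rw [hv2, hwdef, ← mul_assoc, h2]
    have h4 := sqrt_unique (a * e) v (hodd a haD' e he) hvodd h3
    rw [← h4, mul_assoc, inv_sq he2, mul_one]

end Cfsg.Agent.S5562
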