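import Cfsg.Statements.S5594
import Cfsg.Prelude.Def_Spor_Conway
import Cfsg.Agent.Lib.ThreeTransp.LeechNegation

set_option autoImplicit false
open Cfsg

namespace Cfsg.Agent.S5594

open Cfsg.Agent.Lib.ThreeTransp

/-- The automorphism group of the Leech lattice contains the negation map, and the subgroup of order 2 it generates has no complement: the automorphism group is a non-split extension of its quotient by that subgroup (it is not the direct product of a group of order 2 with the first Conway group). -/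
theorem result :
    ∃ n : ↥Cfsg.Co0, (∀ v : ↥Cfsg.leechLattice, ((n • v : ↥Cfsg.leechLattice) : Cfsg.GolayPt → ℤ) = -(v : Cfsg.GolayPt → ℤ)) ∧
    ∀ K : Subgroup ↥Cfsg.Co0, ¬ (Subgroup.zpowers n).IsComplement' K := by
  set g : ↥Co0 := ⟨rootEquiv, rootEquiv_mem⟩ with hg
  have hneg : ∀ v : ↥leechLattice, (((g * g : ↥Co0) • v : ↥leechLattice) : GolayPt → ℤ)
      = -(v : GolayPt → ℤ) := fun v => rootFun_rootFun v
  refine ⟨g * g, hneg, fun K hK => ?_⟩
  set n : ↥Co0 := g * g with hn
  -- negation is central of order two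
  have hn2 : n * n = 1 := by
    refine Subtype.ext (Equiv.ext fun v => Subtype.ext ?_)
    show ((n • (n • v) : ↥leechLattice) : GolayPt → ℤ) = v
    rw [hneg, hneg, neg_neg]
  have hne : n ≠ 1 := by
    intro e
    have h := hneg Spor.leechU
    rw [e, one_smul] at h
    have := congrFun h none
    simp [Spor.leechU, Spor.vecU] at this
  obtain ⟨⟨a, k⟩, hak⟩ := hK.2 g
  obtain ⟨a, ha⟩ := a
  obtain ⟨k, hk⟩ := k
  simp only at hak
  have hcomm : Commute a g := by
    obtain ⟨j, rfl⟩ := Subgroup.mem_zpowers_iff.mp ha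
    exact (Commute.mul_left (Commute.refl g) (Commute.refl g)).zpow_left j
  have hak' : Commute a k := by
    have : k = a⁻¹ * g := by rw [← hak, inv_mul_cancel_left]
    rw [this]
    exact (Commute.inv_right (Commute.refl a)).mul_right hcomm
  have hnk : n = (a * a) * (k * k) := by
    rw [hn, ← hak, hak'.mul_mul_mul_comm]
  have ha2 : a * a = 1 := by
    obtain ⟨j, rfl⟩ := Subgroup.mem_zpowers_iff.mp ha
    rw [← (Commute.refl n).mul_zpow, hn2, one_zpow]
  rw [ha2, one_mul] at hnk
  have hmem : n ∈ Subgroup.zpowers n ⊓ K :=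
    Subgroup.mem_inf.mpr ⟨Subgroup.mem_zpowers n, hnk ▸ mul_mem hk hk⟩
  rw [disjoint_iff.mp hK.disjoint, Subgroup.mem_bot] at hmem
  exact hne hmem

end Cfsg.Agent.S5594
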