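import Cfsg.Statements.S5596
import Cfsg.Agent.Lib.ThreeTransp.LargeExtra

set_option autoImplicit false
open Cfsg Cfsg.Agent.Lib.ThreeTransp

namespace Cfsg.Agent.S5596

/-- Setting: `z` is an involution of the finite group `G`; for each element `x`, `Q x` is the largest normal 2-subgroup of the centralizer of `x`; `Q z` is extraspecial and contains its own centralizer in `G`. A subgroup `U` is singular when it is elementary abelian, every non-identity element of `U` is conjugate to `z`, and any two non-identity elements `u`, `v` of `U` are orthogonal (`v ∈ Q u`). Write `QU` for the intersection of the `Q u` and `LU` for the join of the `Q u` over the non-identity `u` in `U`. If `U` is singular of order `2 ^ n` with `n ≥ 2`, then `U ≤ QU ≤ LU`, `LU` normalizes `U`, and `LU` induces on `U` its full automorphism group (the general linear group of dimension `n` over the field with two elements): every automorphism of `U` is conjugation by some element of `LU`. -/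
theorem result {G : Type*} [Group G] [Finite G]
    (Q : G → Subgroup G)
    (hQ : ∀ x : G, Q x = (Cfsg.pCore 2 ↥(Subgroup.centralizer ({x} : Set G))).map (Subgroup.centralizer ({x} : Set G)).subtype)
    (z : G) (hz : orderOf z = 2) (hE : Cfsg.IsExtraspecial 2 ↥(Q z))
    (hC : Subgroup.centralizer ((Q z : Subgroup G) : Set G) ≤ Q z)
    (U : Subgroup G) (hU2 : ∀ u ∈ U, u * u = 1)
    (hS : ∀ u ∈ U, u ≠ 1 → ∃ g : G, g * z * g⁻¹ = u)
    (hO : ∀ u ∈ U, ∀ v ∈ U, u ≠ 1 → v ≠ 1 → v ∈ Q u)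
    (QU LU : Subgroup G) (hQU : QU = ⨅ u ∈ ((U : Set G) \ {1}), Q u) (hLU : LU = ⨆ u ∈ ((U : Set G) \ {1}), Q u)
    (n : ℕ) (hn : 2 ≤ n) (hcard : Nat.card ↥U = 2 ^ n) :
    U ≤ QU ∧ QU ≤ LU ∧ LU ≤ Subgroup.normalizer (U : Set G) ∧
      ∀ φ : ↥U ≃* ↥U, ∃ g ∈ LU, ∀ u : ↥U, g * (u : G) * g⁻¹ = ((φ u : ↥U) : G) := by
  obtain rfl : Q = coreAt := funext hQ
  subst hQU hLU
  have hX : ∀ u ∈ U, u ≠ 1 → ExtraAt (coreAt u) u := by
    intro u hu hu1
    obtain ⟨g, rfl⟩ := hS u hu hu1
    exact extraAt_conj hz hE hC g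
  have hUle : ∀ u ∈ U, u ≠ 1 → U ≤ coreAt u := by
    intro u hu hu1 v hv
    by_cases hv1 : v = 1
    · rw [hv1]; exact one_mem _
    · exact hO u hu v hv hu1 hv1
  have hbot : U ≠ ⊥ := fun h => by
    rw [h, Subgroup.card_bot] at hcard
    have := Nat.one_lt_two_pow (show n ≠ 0 by omega)
    omega
  obtain ⟨⟨u₀, hu₀⟩, hu₀1⟩ := Subgroup.ne_bot_iff_exists_ne_one.1 hbot
  have hu₀1' : u₀ ≠ 1 := fun h => hu₀1 (Subtype.ext h)
  have hLle : ∀ u ∈ U, u ≠ 1 → coreAt u ≤ (⨆ u ∈ ((U : Set G) \ {1}), coreAt u) :=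
    fun u hu hu1 => le_iSup₂ (f := fun v (_ : v ∈ ((U : Set G) \ {1})) => coreAt v) u ⟨hu, hu1⟩
  have hnorm : ∀ u ∈ U, u ≠ 1 → ∀ q ∈ coreAt u, ∀ v ∈ U, q * v * q⁻¹ ∈ U := by
    intro u hu hu1 q hq v hv
    rcases (hX u hu hu1).comm q hq v (hUle u hu hu1 hv) with e | e <;> rw [e]
    exacts [hv, U.mul_mem hv hu]
  refine ⟨le_iInf₂ fun u hu => hUle u hu.1 hu.2,
    (iInf₂_le u₀ ⟨hu₀, hu₀1'⟩).trans (hLle u₀ hu₀ hu₀1'), ?_, ?_⟩
  · refine iSup₂_le fun u hu q hq => Subgroup.mem_normalizer_iff.2 fun v => ?_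
    refine ⟨hnorm u hu.1 hu.2 q hq v, fun h => ?_⟩
    have := hnorm u hu.1 hu.2 q⁻¹ ((coreAt u).inv_mem hq) _ h
    simpa [mul_assoc] using this
  intro φ
  suffices h : ∀ T : Set U, T.Finite → ∃ g ∈ (⨆ u ∈ ((U : Set G) \ {1}), coreAt u),
      ∀ u ∈ T, g * (u : G) * g⁻¹ = ((φ u : ↥U) : G) by
    obtain ⟨g, hg, hgu⟩ := h Set.univ (Set.toFinite _)
    exact ⟨g, hg, fun u => hgu u (Set.mem_univ u)⟩
  intro T hT
  induction T, hT using Set.Finite.induction_on with
  | empty => exact ⟨1, one_mem _, by simp⟩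
  | @insert v T hvT hTfin ih =>
    obtain ⟨g, hg, hgT⟩ := ih
    have hLN : (⨆ u ∈ ((U : Set G) \ {1}), coreAt u) ≤ Subgroup.normalizer (U : Set G) := by
      refine iSup₂_le fun u hu q hq => Subgroup.mem_normalizer_iff.2 fun w => ?_
      refine ⟨hnorm u hu.1 hu.2 q hq w, fun h => ?_⟩
      have := hnorm u hu.1 hu.2 q⁻¹ ((coreAt u).inv_mem hq) _ h
      simpa [mul_assoc] using this
    -- correct `g` by an element fixing the images already matched
    set a := g * (v : G) * g⁻¹ with hadef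
    set b := ((φ v : ↥U) : G) with hbdef
    have haU : a ∈ U := (Subgroup.mem_normalizer_iff.1 (hLN hg) v).1 v.2
    have hbU : b ∈ U := (φ v).2
    let W : Subgroup G := (Subgroup.closure T).map (U.subtype.comp φ.toMonoidHom)
    have hWU : W ≤ U := by
      rintro _ ⟨w, -, rfl⟩; exact (φ w).2
    have hgW : ∀ w : U, w ∈ Subgroup.closure T → g * (w : G) * g⁻¹ = ((φ w : ↥U) : G) := by
      intro w hw
      induction hw using Subgroup.closure_induction with
      | mem w hw => exact hgT w hw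
      | one => simp
      | mul p q _ _ hp hq => rw [map_mul, Subgroup.coe_mul, Subgroup.coe_mul, ← hp, ← hq]; group
      | inv p _ hp => rw [map_inv, InvMemClass.coe_inv, InvMemClass.coe_inv, ← hp]; group
    -- it suffices to fix `W` and send `a` to `b`
    suffices h : ∃ s ∈ (⨆ u ∈ ((U : Set G) \ {1}), coreAt u),
        (∀ w ∈ W, s * w * s⁻¹ = w) ∧ s * a * s⁻¹ = b by
      obtain ⟨s, hs, hsW, hsab⟩ := h
      refine ⟨s * g, mul_mem hs hg, fun u hu => ?_⟩
      rw [show s * g * (u : G) * (s * g)⁻¹ = s * (g * (u : G) * g⁻¹) * s⁻¹ by group]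
      rcases hu with rfl | hu
      · exact hsab
      · rw [hgT u hu]
        exact hsW _ ⟨u, Subgroup.subset_closure hu, rfl⟩
    by_cases hab : a = b
    · exact ⟨1, one_mem _, by simp, by simp [hab]⟩
    have haW : a ∉ W := by
      rintro ⟨w, hw, hwa⟩
      have e1 : ((φ w : ↥U) : G) = a := hwa
      apply hab
      have e2 : w = v := by
        apply Subtype.ext
        have e3 := hgW w hw
        rw [e1, hadef] at e3
        exact mul_left_cancel (mul_right_cancel e3)
      rw [← e1, e2]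
    have hbW : b ∉ W := by
      rintro ⟨w, hw, hwb⟩
      have e1 : φ w = φ v := Subtype.ext hwb
      have e2 := φ.injective e1
      subst e2
      exact hab (hgW w hw)
    set c := a * b with hcdef
    have hcU : c ∈ U := U.mul_mem haU hbU
    have hc1 : c ≠ 1 := by
      intro h
      apply hab
      rw [eq_inv_of_mul_eq_one_left h, inv_eq_of_mul_eq_one_left (hU2 b hbU)]
    have hcX := hX c hcU hc1
    have hc2 := hU2 c hcU
    have hUcomm : ∀ p ∈ U, ∀ q ∈ U, p * q = q * p := by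
      intro p hp q hq
      have h := hU2 (p * q) (U.mul_mem hp hq)
      rw [eq_inv_of_mul_eq_one_left h, mul_inv_rev, inv_eq_of_mul_eq_one_left (hU2 p hp),
        inv_eq_of_mul_eq_one_left (hU2 q hq)]
    let W' : Subgroup G :=
      { carrier := {p | p ∈ U ∧ (p ∈ W ∨ p * c ∈ W)}
        one_mem' := ⟨one_mem _, Or.inl (one_mem _)⟩
        mul_mem' := by
          rintro p q ⟨hp, hp'⟩ ⟨hq, hq'⟩
          refine ⟨U.mul_mem hp hq, ?_⟩
          rcases hp' with h1 | h1 <;> rcases hq' with h2 | h2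
          · exact Or.inl (W.mul_mem h1 h2)
          · exact Or.inr (by rw [mul_assoc]; exact W.mul_mem h1 h2)
          · exact Or.inr (by rw [mul_assoc, hUcomm q hq c hcU, ← mul_assoc]; exact W.mul_mem h1 h2)
          · left
            have h3 := W.mul_mem h1 h2
            rwa [mul_assoc, ← mul_assoc c, hUcomm c hcU q hq, mul_assoc q, hc2, mul_one] at h3
        inv_mem' := by
          rintro p ⟨hp, hp'⟩
          rw [show p⁻¹ = p from inv_eq_of_mul_eq_one_left (hU2 p hp)]
          exact ⟨hp, hp'⟩ }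
    have haW' : a ∉ W' := by
      rintro ⟨-, h | h⟩
      · exact haW h
      · rw [hcdef, ← mul_assoc, hU2 a haU, one_mul] at h
        exact hbW h
    have hW'le : W' ≤ coreAt c := fun p hp => hUle c hcU hc1 hp.1
    by_contra hcon
    push Not at hcon
    apply haW'
    refine hcX.mem_of_forall hW'le ⟨hcU, Or.inr (by rw [hc2]; exact W.one_mem)⟩
      (hUle c hcU hc1 haU) fun q hq hqW => ?_
    rcases hcX.comm q hq a (hUle c hcU hc1 haU) with e | e
    · exact mul_inv_eq_iff_eq_mul.1 e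
    · exfalso
      refine hcon q (hLle c hcU hc1 hq) (fun w hw => ?_) ?_
      · rw [hqW w ⟨hWU hw, Or.inl hw⟩, mul_inv_cancel_right]
      · rw [e, hcdef, ← mul_assoc, hU2 a haU, one_mul]

end Cfsg.Agent.S5596
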