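import Cfsg.Statements.S5597
import Cfsg.Agent.Lib.ThreeTransp.LargeExtra

set_option autoImplicit false
open Cfsg Cfsg.Agent.Lib.ThreeTransp

namespace Cfsg.Agent.S5597

/-- Setting: `z` is an involution of the finite group `G`; for each element `x`, `Q x` is the largest normal 2-subgroup of the centralizer of `x`; `Q z` is extraspecial and contains its own centralizer in `G`. A subgroup `U` is singular when it is elementary abelian, every non-identity element of `U` is conjugate to `z`, and any two non-identity elements `u`, `v` of `U` are orthogonal (`v ∈ Q u`). Write `QU` for the intersection of the `Q u` and `LU` for the join of the `Q u` over the non-identity `u` in `U`. If `U` is a non-trivial singular subgroup, then `LU` acts trivially on `QU / U` (every commutator of an element of `LU` with an element of `QU` lies in `U`), and for every `x` in `QU` outside `U` the centralizer of `U` in `LU` permutes the coset `x U` transitively: each `x u` with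 `u ∈ U` is a conjugate of `x` by an element of `LU` centralizing `U`. -/
theorem result {G : Type*} [Group G] [Finite G]
    (Q : G → Subgroup G)
    (hQ : ∀ x : G, Q x = (Cfsg.pCore 2 ↥(Subgroup.centralizer ({x} : Set G))).map (Subgroup.centralizer ({x} : Set G)).subtype)
    (z : G) (hz : orderOf z = 2) (hE : Cfsg.IsExtraspecial 2 ↥(Q z))
    (hC : Subgroup.centralizer ((Q z : Subgroup G) : Set G) ≤ Q z)
    (U : Subgroup G) (hU2 : ∀ u ∈ U, u * u = 1)
    (hS : ∀ u ∈ U, u ≠ 1 → ∃ g : G, g * z * g⁻¹ = u)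
    (hO : ∀ u ∈ U, ∀ v ∈ U, u ≠ 1 → v ≠ 1 → v ∈ Q u)
    (QU LU : Subgroup G) (hQU : QU = ⨅ u ∈ ((U : Set G) \ {1}), Q u) (hLU : LU = ⨆ u ∈ ((U : Set G) \ {1}), Q u)
    (hU : U ≠ ⊥) :
    (∀ g ∈ LU, ∀ x ∈ QU, g * x * g⁻¹ * x⁻¹ ∈ U) ∧
      ∀ x ∈ QU, x ∉ U → ∀ u ∈ U, ∃ g ∈ LU ⊓ Subgroup.centralizer (U : Set G), g * x * g⁻¹ = x * u := by
  obtain rfl : Q = coreAt := funext hQ
  subst hQU hLU
  have hX : ∀ u ∈ U, u ≠ 1 → ExtraAt (coreAt u) u := by
    intro u hu hu1
    obtain ⟨g, rfl⟩ := hS u hu hu1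
    exact extraAt_conj hz hE hC g
  have hUle : ∀ u ∈ U, u ≠ 1 → U ≤ coreAt u := by
    intro u hu hu1 v hv
    by_cases hv1 : v = 1
    · rw [hv1]; exact one_mem _
    · exact hO u hu v hv hu1 hv1
  have hQle : ∀ u ∈ U, u ≠ 1 → (⨅ u ∈ ((U : Set G) \ {1}), coreAt u) ≤ coreAt u :=
    fun u hu hu1 => iInf₂_le u ⟨hu, hu1⟩
  obtain ⟨⟨u₀, hu₀⟩, hu₀1⟩ := Subgroup.ne_bot_iff_exists_ne_one.1 hU
  have hu₀1' : u₀ ≠ 1 := fun h => hu₀1 (Subtype.ext h)
  -- generators stabilise `U`
  have hnorm : ∀ u ∈ U, u ≠ 1 → ∀ q ∈ coreAt u, ∀ v ∈ U, q * v * q⁻¹ ∈ U := by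
    intro u hu hu1 q hq v hv
    rcases (hX u hu hu1).comm q hq v (hUle u hu hu1 hv) with e | e <;> rw [e]
    exacts [hv, U.mul_mem hv hu]
  constructor
  · let N : Subgroup G :=
      { carrier := {g | (∀ v, v ∈ U ↔ g * v * g⁻¹ ∈ U) ∧
          ∀ x ∈ (⨅ u ∈ ((U : Set G) \ {1}), coreAt u), g * x * g⁻¹ * x⁻¹ ∈ U}
        one_mem' := ⟨fun v => by simp, fun x _ => by simp [U.one_mem]⟩
        mul_mem' := by
          rintro a b ⟨ha, ha'⟩ ⟨hb, hb'⟩
          refine ⟨fun v => by rw [hb v, ha (b * v * b⁻¹)]; simp [mul_assoc], fun x hx => ?_⟩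
          rw [show a * b * x * (a * b)⁻¹ * x⁻¹ =
            (a * (b * x * b⁻¹ * x⁻¹) * a⁻¹) * (a * x * a⁻¹ * x⁻¹) by group]
          exact U.mul_mem ((ha _).1 (hb' x hx)) (ha' x hx)
        inv_mem' := by
          rintro a ⟨ha, ha'⟩
          refine ⟨fun v => by rw [ha (a⁻¹ * v * a⁻¹⁻¹)]; simp [mul_assoc], fun x hx => ?_⟩
          rw [ha]
          have := U.inv_mem (ha' x hx)
          simpa [mul_assoc] using this }
    have hle : (⨆ u ∈ ((U : Set G) \ {1}), coreAt u) ≤ N := by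
      refine iSup₂_le fun u hu q hq => ⟨fun v => ⟨hnorm u hu.1 hu.2 q hq v, fun h => ?_⟩, fun x hx => ?_⟩
      · have := hnorm u hu.1 hu.2 q⁻¹ ((coreAt u).inv_mem hq) _ h
        simpa [mul_assoc] using this
      · rcases (hX u hu.1 hu.2).comm q hq x (hQle u hu.1 hu.2 hx) with e | e <;> rw [e]
        · simp
        · have hxu := (hX u hu.1 hu.2).central x (hQle u hu.1 hu.2 hx)
          rw [← hxu, mul_inv_cancel_right]
          exact hu.1
    exact fun g hg => (hle hg).2
  · intro x hx hxU u hu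
    by_cases hu1 : u = 1
    · exact ⟨1, one_mem _, by simp [hu1]⟩
    have hux := hX u hu hu1
    by_contra hcon
    push Not at hcon
    apply hxU
    refine hux.mem_of_forall (hUle u hu hu1) hu (hQle u hu hu1 hx) fun q hq hqU => ?_
    rcases hux.comm q hq x (hQle u hu hu1 hx) with e | e
    · exact mul_inv_eq_iff_eq_mul.1 e
    · exfalso
      refine hcon q ⟨le_iSup₂ (f := fun v (_ : v ∈ ((U : Set G) \ {1})) => coreAt v) u ⟨hu, hu1⟩ hq,
        fun v hv => (hqU v hv).symm⟩ e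

end Cfsg.Agent.S5597
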