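import Cfsg.Statements.S5598
import Cfsg.Agent.Lib.ThreeTransp.LargeExtra

set_option autoImplicit false
open Cfsg Cfsg.Agent.Lib.ThreeTransp

namespace Cfsg.Agent.S5598

/-- Setting: `z` is an involution of the finite group `G`; for each element `x`, `Q x` is the largest normal 2-subgroup of the centralizer of `x`; `Q z` is extraspecial and contains its own centralizer in `G`. A subgroup `U` is singular when it is elementary abelian, every non-identity element of `U` is conjugate to `z`, and any two non-identity elements `u`, `v` of `U` are orthogonal (`v ∈ Q u`). Write `QU` for the intersection of the `Q u` and `LU` for the join of the `Q u` over the non-identity `u` in `U`. If the singular subgroup `U` is generated by a set `T` of non-identity elements, then `QU` is already the intersection of the `Q t` over `t ∈ T`. -/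
theorem result {G : Type*} [Group G] [Finite G]
    (Q : G → Subgroup G)
    (hQ : ∀ x : G, Q x = (Cfsg.pCore 2 ↥(Subgroup.centralizer ({x} : Set G))).map (Subgroup.centralizer ({x} : Set G)).subtype)
    (z : G) (hz : orderOf z = 2) (hE : Cfsg.IsExtraspecial 2 ↥(Q z))
    (hC : Subgroup.centralizer ((Q z : Subgroup G) : Set G) ≤ Q z)
    (U : Subgroup G) (hU2 : ∀ u ∈ U, u * u = 1)
    (hS : ∀ u ∈ U, u ≠ 1 → ∃ g : G, g * z * g⁻¹ = u)
    (hO : ∀ u ∈ U, ∀ v ∈ U, u ≠ 1 → v ≠ 1 → v ∈ Q u)
    (QU LU : Subgroup G) (hQU : QU = ⨅ u ∈ ((U : Set G) \ {1}), Q u) (hLU : LU = ⨆ u ∈ ((U : Set G) \ {1}), Q u)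
    (T : Set G) (hT : Subgroup.closure T = U) (hT1 : (1 : G) ∉ T) :
    QU = ⨅ t ∈ T, Q t := by
  obtain rfl : Q = coreAt := funext hQ
  subst hQU hLU
  have hX : ∀ u ∈ U, u ≠ 1 → ExtraAt (coreAt u) u := by
    intro u hu hu1
    obtain ⟨g, rfl⟩ := hS u hu hu1
    exact extraAt_conj hz hE hC g
  have hUle : ∀ u ∈ U, u ≠ 1 → U ≤ coreAt u := by
    intro u hu hu1 v hv
    by_cases hv1 : v = 1
    · rw [hv1]; exact one_mem _
    · exact hO u hu v hv hu1 hv1
  have hTU : T ⊆ U := hT ▸ Subgroup.subset_closure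
  refine le_antisymm (le_iInf₂ fun t ht => iInf₂_le t ⟨hTU ht, fun h => hT1 (by
    rw [Set.mem_singleton_iff] at h; exact h ▸ ht)⟩) ?_
  refine le_iInf₂ fun u hu => ?_
  suffices h : ∀ u ∈ U, u ≠ 1 → (⨅ t ∈ T, coreAt t) ≤ coreAt u from h u hu.1 hu.2
  intro u hu
  rw [← hT] at hu
  induction hu using Subgroup.closure_induction with
  | mem t ht => exact fun _ => iInf₂_le t ht
  | one => exact fun h => absurd rfl h
  | inv v hv ih =>
    intro h1
    have hvU : v ∈ U := hT ▸ hv
    rw [inv_eq_of_mul_eq_one_left (hU2 v hvU)] at h1 ⊢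
    exact ih h1
  | mul v w hv hw ihv ihw =>
    intro h1
    have hvU : v ∈ U := hT ▸ hv
    have hwU : w ∈ U := hT ▸ hw
    by_cases hv1 : v = 1
    · subst hv1; rw [one_mul] at h1 ⊢; exact ihw h1
    by_cases hw1 : w = 1
    · subst hw1; rw [mul_one] at h1 ⊢; exact ihv h1
    intro q hq
    have hqv := ihv hv1 hq
    have hqw := ihw hw1 hq
    have hvX := hX v hvU hv1
    -- an element of `coreAt v` moving `w` to `w * v`
    obtain ⟨s, hs, hsw⟩ : ∃ s ∈ coreAt v, ¬ w * s = s * w := by
      by_contra hh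
      push Not at hh
      rcases hvX.center w (hUle v hvU hv1 hwU) hh with e | e
      · exact hw1 e
      · exact h1 (by rw [e]; exact hU2 v hvU)
    have hsw' : s * w * s⁻¹ = w * v := (hvX.comm s hs w (hUle v hvU hv1 hwU)).resolve_left
      (fun e => hsw (mul_inv_eq_iff_eq_mul.1 e).symm)
    -- `q = s q' s⁻¹` with `q' ∈ coreAt w`
    have hq' : s⁻¹ * q * s ∈ coreAt w := by
      have hvw : v ∈ coreAt w := hUle w hwU hw1 hvU
      rcases hvX.comm s⁻¹ ((coreAt v).inv_mem hs) q hqv with e | e <;> rw [inv_inv] at e <;> rw [e]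
      · exact hqw
      · exact (coreAt w).mul_mem hqw hvw
    have := coreAt_map_conj s w hq'
    rw [hsw', show s * (s⁻¹ * q * s) * s⁻¹ = q by group] at this
    have hcomm : w * v = v * w := by
      have := hvX.central w (hUle v hvU hv1 hwU)
      exact this.symm
    rwa [hcomm] at this

end Cfsg.Agent.S5598
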