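import Cfsg.Statements.S5599
import Cfsg.Agent.Lib.MathieuOut.Perms
import Cfsg.Agent.Lib.M24Geom.Conj
import Cfsg.Agent.Lib.Golay.Orbit
-- import your own Cfsg.Agent.* helpers here

set_option autoImplicit false
open scoped Pointwise
open Cfsg

namespace Cfsg.Agent.S5599

open Cfsg.Agent.Lib.Compute Cfsg.Agent.Lib.GolayOrbit Cfsg.Agent.Lib.M24Geom

open Cfsg.Agent.Lib.MathieuOut in
theorem dbl_mem_M22 : dbl ∈ Spor.M22 := ⟨⟨dbl_mem, rfl⟩, rfl⟩


/-- In the automorphism group of the length-24 code, the two-point Mathieu group (permutations of the code's group fixing the extra point and the residue 0) has index 2 in the setwise stabiliser of that pair of points, and an element of the code's group interchanging the two points normalises the two-point group and induces on it, by conjugation, an automorphism that is not inner. -/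
theorem result (g : Equiv.Perm Cfsg.GolayPt) (hg : g ∈ Cfsg.M24) (h₁ : g none = some 0) (h₂ : g (some 0) = none) : Cfsg.Spor.M22.relIndex (Cfsg.M24 ⊓ MulAction.stabilizer (Equiv.Perm Cfsg.GolayPt) ({none, some 0} : Finset Cfsg.GolayPt)) = 2 ∧ (∀ x ∈ Cfsg.Spor.M22, g * x * g⁻¹ ∈ Cfsg.Spor.M22) ∧ ¬ ∃ h ∈ Cfsg.Spor.M22, ∀ x ∈ Cfsg.Spor.M22, g * x * g⁻¹ = h * x * h⁻¹ := by
  have hnorm : ∀ x ∈ Cfsg.Spor.M22, g * x * g⁻¹ ∈ Cfsg.Spor.M22 := by
    rintro x ⟨⟨hx, hxn⟩, hx0⟩
    refine ⟨⟨Subgroup.mul_mem Cfsg.M24 (Subgroup.mul_mem Cfsg.M24 hg hx) (Subgroup.inv_mem Cfsg.M24 hg), ?_⟩, ?_⟩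
    · show g (x (g⁻¹ none)) = none
      rw [Equiv.Perm.inv_eq_iff_eq.2 h₂.symm, show x (some 0) = some 0 from hx0, h₂]
    · show g (x (g⁻¹ (some 0))) = some 0
      rw [Equiv.Perm.inv_eq_iff_eq.2 h₁.symm, show x none = none from hxn, h₁]
  refine ⟨?_, hnorm, ?_⟩
  · set K := Cfsg.M24 ⊓ MulAction.stabilizer (Equiv.Perm Cfsg.GolayPt)
      ({none, some 0} : Finset Cfsg.GolayPt)
    have hgK : g ∈ K := ⟨hg, by
      show g • ({none, some 0} : Finset Cfsg.GolayPt) = _
      rw [Finset.smul_finset_insert, Finset.smul_finset_singleton, Equiv.Perm.smul_def,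
        Equiv.Perm.smul_def, h₁, h₂, Finset.pair_comm]⟩
    rw [Subgroup.relIndex, Subgroup.index_eq_two_iff]
    refine ⟨⟨g, hgK⟩, fun b => ?_⟩
    obtain ⟨b, hbM, hb⟩ := b
    have hb' : b • ({none, some 0} : Finset Cfsg.GolayPt) = {none, some 0} := hb
    have hbn : b none ∈ ({none, some 0} : Finset Cfsg.GolayPt) := by
      rw [← hb']; exact Finset.smul_mem_smul_finset (by simp)
    have hb0 : b (some 0) ∈ ({none, some 0} : Finset Cfsg.GolayPt) := by
      rw [← hb']; exact Finset.smul_mem_smul_finset (by simp)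
    simp only [Finset.mem_insert, Finset.mem_singleton] at hbn hb0
    have hiff : ∀ y : Equiv.Perm Cfsg.GolayPt, ∀ hy : y ∈ K,
        (⟨y, hy⟩ : K) ∈ Cfsg.Spor.M22.subgroupOf K ↔ (y none = none ∧ y (some 0) = some 0) := by
      intro y hy
      rw [Subgroup.mem_subgroupOf]
      exact ⟨fun h => ⟨h.1.2, h.2⟩, fun h => ⟨⟨hy.1, h.1⟩, h.2⟩⟩
    rcases hbn with hbn | hbn
    · have hb0' : b (some 0) = some 0 := hb0.resolve_left fun e => by
        simpa using b.injective (e.trans hbn.symm)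
      refine Or.inr ⟨(hiff b _).2 ⟨hbn, hb0'⟩, fun h => ?_⟩
      have := ((hiff _ _).1 h).1
      rw [Equiv.Perm.mul_apply, h₁, hb0'] at this
      simp at this
    · have hb0' : b (some 0) = none := hb0.resolve_right fun e => by
        simpa using b.injective (e.trans hbn.symm)
      refine Or.inl ⟨(hiff _ _).2 ⟨by rw [Equiv.Perm.mul_apply, h₁, hb0'],
        by rw [Equiv.Perm.mul_apply, h₂, hbn]⟩, fun h => ?_⟩
      have := ((hiff b _).1 h).1
      rw [hbn] at this
      simp at this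
  · rintro ⟨h, hh, hconj⟩
    have hd := hconj _ dbl_mem_M22
    obtain ⟨i, hi⟩ := Cfsg.Agent.Lib.MathieuOut.eq_pow_dbl (σ := h⁻¹ * g)
      (Subgroup.mul_mem Cfsg.M24 (Subgroup.inv_mem Cfsg.M24 hh.1.1) hg) (by
      show h⁻¹ * g * _ = _ * (h⁻¹ * g)
      calc h⁻¹ * g * Cfsg.Agent.Lib.MathieuOut.dbl
          = h⁻¹ * (g * Cfsg.Agent.Lib.MathieuOut.dbl * g⁻¹) * g := by group
        _ = Cfsg.Agent.Lib.MathieuOut.dbl * (h⁻¹ * g) := by rw [hd]; group)
    have h2 := congrArg (fun f : Equiv.Perm Cfsg.GolayPt => f none) hi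
    simp only [Cfsg.Agent.Lib.MathieuOut.dbl_pow_none, Equiv.Perm.mul_apply, h₁] at h2
    rw [Equiv.Perm.inv_eq_iff_eq, show h none = none from hh.1.2] at h2
    simp at h2

end Cfsg.Agent.S5599
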