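import Cfsg.Statements.S5600
import Cfsg.Agent.Lib.M24Geom.SymSix
-- import your own Cfsg.Agent.* helpers here

set_option autoImplicit false
open scoped Pointwise
open Cfsg

namespace Cfsg.Agent.S5600

open Cfsg.Agent.Lib.Compute Cfsg.Agent.Lib.GolayOrbit Cfsg.Agent.Lib.M24Geom

theorem six_table : (List.range 24).all (fun j => decide (j < 5) ||
    decide (0 < patternCount 24 [(0, 0), (1, 1), (2, 2), (3, 3), (4, 4), (j, 5)] [] m24Cert id) ||
    decide (0 < patternCount 24 [(0, 0), (1, 1), (2, 2), (3, 3), (4, 4), (j, 7)] [] m24Cert id)) = true := by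
  decide +kernel

/-- The set of the first five points and one more. -/
def stdMask (t : ℕ) : ℕ := 31 ||| 1 <<< t

theorem special_table : octadList.any (fun m => m &&& stdMask 7 == stdMask 7) = true ∧
    octadList.all (fun m => !(m &&& stdMask 5 == stdMask 5)) = true := by decide +kernel

theorem fixer_counts :
    patternCount 24 (fixPts (stdMask 7)) [] m24Cert id = 16 ∧
    patternCount 24 (fixPts (stdMask 5)) [] m24Cert id = 3 := by decide +kernel

/-- The image of the six listed points. -/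
def stdPt (t : Fin 24) : Fin 6 → Fin 24 := ![0, 1, 2, 3, 4, t]

theorem exists_to_std (e : Fin 6 ↪ GolayPt) :
    ∃ g ∈ M24, (∀ i, enc (g (e i)) = stdPt 5 i) ∨ (∀ i, enc (g (e i)) = stdPt 7 i) := by
  obtain ⟨g, hg⟩ := MulAction.isMultiplyPretransitive_iff.mp M24_multiplyPretransitive
    (Fin.castSuccEmb.trans e)
    ⟨fun i : Fin 5 => enc.symm ⟨i, by omega⟩, fun a b h => by
      simpa [Fin.ext_iff] using enc.symm.injective h⟩
  have hgi : ∀ i : Fin 5, (g : Equiv.Perm GolayPt) (e i.castSucc) = enc.symm ⟨i, by omega⟩ :=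
    fun i => DFunLike.congr_fun hg i
  set j := enc ((g : Equiv.Perm GolayPt) (e (Fin.last 5))) with hj
  have hj5 : ¬ (j : ℕ) < 5 := by
    intro h
    have he := hgi ⟨j, h⟩
    have he' : (g : Equiv.Perm GolayPt) (e (Fin.castSucc ⟨(j : ℕ), h⟩)) =
        (g : Equiv.Perm GolayPt) (e (Fin.last 5)) := he.trans (Equiv.symm_apply_apply enc _)
    have := congrArg Fin.val (e.injective ((g : Equiv.Perm GolayPt).injective he'))
    simp at this
    omega
  have step : ∀ t : Fin 24,
      0 < patternCount 24 [(0, 0), (1, 1), (2, 2), (3, 3), (4, 4), ((j : ℕ), (t : ℕ))] [] m24Cert id →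
      ∃ h ∈ M24, ∀ i, enc (h (e i)) = stdPt t i := by
    intro t hpos
    rw [← card_pointFits, Nat.card_pos_iff] at hpos
    obtain ⟨⟨σ, hσ, hfit, -⟩⟩ := hpos.1
    refine ⟨σ * g, mul_mem hσ g.2, fun i => ?_⟩
    rw [Equiv.Perm.mul_apply]
    refine Fin.lastCases ?_ (fun i => ?_) i
    · exact Fin.ext (hfit ((j : ℕ), (t : ℕ)) (by simp) _ rfl)
    · rw [hgi]
      refine Fin.ext ?_
      have := hfit ((i : ℕ), (i : ℕ)) (by fin_cases i <;> simp) (enc.symm ⟨i, by omega⟩) (by simp)
      rw [this]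
      fin_cases i <;> rfl
  have h := List.all_eq_true.1 six_table j (List.mem_range.2 j.isLt)
  simp only [Bool.or_eq_true, decide_eq_true_eq, hj5, false_or] at h
  rcases h with h | h
  · obtain ⟨σ, hσ, he⟩ := step 5 h
    exact ⟨σ, hσ, Or.inl he⟩
  · obtain ⟨σ, hσ, he⟩ := step 7 h
    exact ⟨σ, hσ, Or.inr he⟩

theorem image_std {t : Fin 24} (ht : t = 5 ∨ t = 7) {E : Finset GolayPt} {e : Fin 6 ↪ GolayPt}
    (he : Finset.univ.map e = E) {g : Equiv.Perm GolayPt} (hgi : ∀ i, enc (g (e i)) = stdPt t i) :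
    g • E = setOf24 (stdMask t) := by
  have key : ∀ t : Fin 24, (t = 5 ∨ t = 7) →
      (Finset.univ.image fun i => enc.symm (stdPt t i)) = setOf24 (stdMask t) := by decide +kernel
  rw [← key t ht, ← he, smul_finset_eq_image, Finset.map_eq_image, Finset.image_image]
  refine Finset.image_congr fun i _ => ?_
  show g (e i) = _
  rw [← hgi i, Equiv.symm_apply_apply]

/-- Which standard set a six-set goes to. -/
theorem which_std {E : Finset GolayPt} {g : Equiv.Perm GolayPt} (hg : g ∈ M24) :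
    (g • E = setOf24 (stdMask 7) → ∃ o ∈ octads, E ⊆ o) ∧
    (g • E = setOf24 (stdMask 5) → ¬ ∃ o ∈ octads, E ⊆ o) := by
  have hlt : stdMask 7 < 2 ^ 24 ∧ stdMask 5 < 2 ^ 24 := by decide +kernel
  obtain ⟨ha, hb⟩ := special_table
  simp only [List.any_eq_true, List.all_eq_true, Bool.not_eq_true', beq_iff_eq,
    beq_eq_false_iff_ne] at ha hb
  refine ⟨fun h => ?_, fun h => ?_⟩
  · obtain ⟨m, hm, hme⟩ := ha
    refine ⟨g⁻¹ • setOf24 m, smul_mem_octads (inv_mem hg) (mem_octads_of_mask hm), ?_⟩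
    rw [eq_inv_smul_iff.2 h, Finset.smul_finset_subset_smul_finset_iff, setOf24_subset hlt.1,
      Nat.and_comm, hme]
  · rintro ⟨o, ho, hEo⟩
    obtain ⟨m, hm, hme⟩ := exists_octad_mask (smul_mem_octads hg ho)
    have h2 : setOf24 (stdMask 5) ⊆ setOf24 m := by
      rw [← h, hme]; exact Finset.smul_finset_subset_smul_finset hEo
    rw [setOf24_subset hlt.2] at h2
    exact hb m hm (by rw [Nat.and_comm]; exact h2)

theorem fixer_card {t : ℕ} {E : Finset GolayPt} {g : Equiv.Perm GolayPt} (hg : g ∈ M24)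
    (h : g • E = setOf24 (stdMask t)) :
    Nat.card {σ : Equiv.Perm GolayPt // σ ∈ M24 ∧ ∀ p ∈ E, σ p = p} =
      patternCount 24 (fixPts (stdMask t)) [] m24Cert id := by
  rw [← card_pointFits]
  refine Nat.card_congr (Equiv.subtypeEquiv (MulAut.conj g).toEquiv fun σ => ?_)
  show _ ↔ g * σ * g⁻¹ ∈ M24 ∧ PointFits (fixPts (stdMask t)) ([].map fun m => (m, m)) (g * σ * g⁻¹)
  refine and_congr ⟨fun hh => mul_mem (mul_mem hg hh) (inv_mem hg), fun hh => ?_⟩ ?_
  · simpa [mul_assoc] using mul_mem (mul_mem (inv_mem hg) hh) hg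
  · rw [pointFits_fix]
    simp only [List.not_mem_nil, false_implies, implies_true, and_true, ← h]
    constructor
    · intro hh p hp
      rw [← Finset.inv_smul_mem_iff] at hp
      rw [Equiv.Perm.mul_apply, Equiv.Perm.mul_apply, show σ (g⁻¹ p) = g⁻¹ p from hh _ hp,
        ← Equiv.Perm.mul_apply, mul_inv_cancel, Equiv.Perm.one_apply]
    · intro hh p hp
      have := hh (g p) ((Finset.smul_mem_smul_finset_iff g).2 hp)
      simpa using this

theorem induces_all {E : Finset GolayPt} (hE : E.card = 6) (σ : Equiv.Perm ↥E) :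
    ∃ g ∈ M24, ∀ p : ↥E, g p = σ p := by
  let e0 : Fin 6 ≃ ↥E := (Fintype.equivFinOfCardEq (by rw [Fintype.card_coe, hE])).symm
  let emb : (Fin 6 ≃ ↥E) → Fin 6 ↪ GolayPt := fun f => f.toEmbedding.trans (Function.Embedding.subtype _)
  have himg : ∀ f, Finset.univ.map (emb f) = E := by
    intro f
    refine Finset.eq_of_subset_of_card_le (fun p hp => ?_) (by simp [hE])
    obtain ⟨i, -, rfl⟩ := Finset.mem_map.1 hp
    exact (f i).2
  obtain ⟨a, ha, hat⟩ := exists_to_std (emb e0)
  obtain ⟨b, hb, hbt⟩ := exists_to_std (emb (e0.trans σ))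
  obtain ⟨t, ht, hta, htb⟩ : ∃ t : Fin 24, (t = 5 ∨ t = 7) ∧ (∀ i, enc (a (emb e0 i)) = stdPt t i) ∧
      ∀ i, enc (b (emb (e0.trans σ) i)) = stdPt t i := by
    rcases hat with hat | hat <;> rcases hbt with hbt | hbt
    · exact ⟨5, Or.inl rfl, hat, hbt⟩
    · exact absurd (id ((which_std hb).1 (image_std (t := 7) (Or.inr rfl) (himg _) hbt)))
        ((which_std ha).2 (image_std (t := 5) (Or.inl rfl) (himg _) hat))
    · exact absurd (id ((which_std ha).1 (image_std (t := 7) (Or.inr rfl) (himg _) hat)))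
        ((which_std hb).2 (image_std (t := 5) (Or.inl rfl) (himg _) hbt))
    · exact ⟨7, Or.inr rfl, hat, hbt⟩
  refine ⟨b⁻¹ * a, mul_mem (inv_mem hb) ha, fun p => ?_⟩
  obtain ⟨i, rfl⟩ := e0.surjective p
  rw [Equiv.Perm.mul_apply, Equiv.Perm.inv_eq_iff_eq]
  exact enc.injective ((hta i).trans (htb i).symm)

theorem exists_std {E : Finset GolayPt} (hE : E.card = 6) :
    ∃ g ∈ M24, g • E = setOf24 (stdMask 5) ∨ g • E = setOf24 (stdMask 7) := by
  let e0 : Fin 6 ≃ ↥E := (Fintype.equivFinOfCardEq (by rw [Fintype.card_coe, hE])).symm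
  let e := e0.toEmbedding.trans (Function.Embedding.subtype _)
  have he : Finset.univ.map e = E := by
    refine Finset.eq_of_subset_of_card_le (fun p hp => ?_) (by simp [hE])
    obtain ⟨i, -, rfl⟩ := Finset.mem_map.1 hp
    exact (e0 i).2
  obtain ⟨g, hg, h | h⟩ := exists_to_std e
  · exact ⟨g, hg, Or.inl (image_std (t := 5) (Or.inl rfl) he h)⟩
  · exact ⟨g, hg, Or.inr (image_std (t := 7) (Or.inr rfl) he h)⟩

theorem card_setwise {E : Finset GolayPt} (hE : E.card = 6) :
    Nat.card ↥(MulAction.stabilizer M24 E) =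
      Nat.card {σ : Equiv.Perm GolayPt // σ ∈ M24 ∧ ∀ p ∈ E, σ p = p} * 720 := by
  have hmem : ∀ (x : MulAction.stabilizer M24 E) p,
      p ∈ E ↔ ((x : M24) : Equiv.Perm GolayPt) p ∈ E := fun x =>
    (smul_eq_iff_forall _ E E).1 x.2
  let f : MulAction.stabilizer M24 E →* Equiv.Perm ↥E :=
    { toFun := fun x => ((x : M24) : Equiv.Perm GolayPt).subtypePerm fun p => (hmem x p).symm
      map_one' := Equiv.ext fun p => Subtype.ext rfl
      map_mul' := fun x y => Equiv.ext fun p => Subtype.ext rfl }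
  have hsurj : Function.Surjective f := by
    intro σ
    obtain ⟨g, hg, hgp⟩ := induces_all hE σ
    have hst : g • E = E := by
      refine Finset.eq_of_subset_of_card_le (fun q hq => ?_) (by rw [Finset.card_smul_finset])
      obtain ⟨p, hp, rfl⟩ := Finset.mem_smul_finset.1 hq
      rw [Equiv.Perm.smul_def, hgp ⟨p, hp⟩]
      exact (σ ⟨p, hp⟩).2
    exact ⟨⟨⟨g, hg⟩, hst⟩, Equiv.ext fun p => Subtype.ext (hgp p)⟩
  have h := Subgroup.card_mul_index f.ker
  rw [Subgroup.index_ker, f.range_eq_top_of_surjective hsurj, Subgroup.card_top, Nat.card_perm,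
    Nat.card_eq_fintype_card (α := ↥E), Fintype.card_coe, hE] at h
  rw [← h]
  refine congrArg (· * (Nat.factorial 6)) (Nat.card_congr
    { toFun := fun x => ⟨x.1.1.1, x.1.1.2, fun p hp =>
        congrArg Subtype.val (DFunLike.congr_fun x.2 (⟨p, hp⟩ : ↥E))⟩
      invFun := fun σ => ⟨⟨⟨σ.1, σ.2.1⟩, (smul_eq_iff_forall _ E E).2 fun p => ?_⟩,
        Equiv.ext fun p => Subtype.ext (σ.2.2 p.1 p.2)⟩
      left_inv := fun _ => rfl
      right_inv := fun _ => rfl })
  refine ⟨fun hp => by show σ.1 p ∈ E; rw [σ.2.2 p hp]; exact hp, fun hp => ?_⟩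
  have h2 := σ.2.2 _ hp
  rwa [σ.1.injective h2] at hp


/-- Although the group of the length-24 code is only 5-transitive on the 24 points, it induces the full symmetric group on every 6-element subset: every permutation of a 6-set E is the restriction of an element of the group mapping E to itself. The pointwise stabiliser of E has order 16 when E lies in an octad and order 3 otherwise; in the latter case the setwise stabiliser of E has order 2160. -/
theorem result (E : Finset Cfsg.GolayPt) (hE : E.card = 6) : (∀ σ : Equiv.Perm ↥E, ∃ g ∈ Cfsg.M24, ∀ p : ↥E, g p = σ p) ∧ ((∃ o ∈ Cfsg.octads, E ⊆ o) → Nat.card {g : Equiv.Perm Cfsg.GolayPt // g ∈ Cfsg.M24 ∧ ∀ p ∈ E, g p = p} = 16) ∧ ((¬ ∃ o ∈ Cfsg.octads, E ⊆ o) → Nat.card {g : Equiv.Perm Cfsg.GolayPt // g ∈ Cfsg.M24 ∧ ∀ p ∈ E, g p = p} = 3 ∧ Nat.card ↥(MulAction.stabilizer Cfsg.M24 E) = 2160) := by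
  obtain ⟨g, hg, h⟩ := exists_std hE
  obtain ⟨h16, h3⟩ := fixer_counts
  refine ⟨induces_all hE, fun hsp => ?_, fun hns => ?_⟩
  · have h7 := h.resolve_left fun h5 => (which_std hg).2 h5 hsp
    rw [fixer_card hg h7, h16]
  · have h5 := h.resolve_right fun h7 => hns ((which_std hg).1 h7)
    rw [card_setwise hE, fixer_card hg h5, h3]
    exact ⟨rfl, by norm_num⟩

end Cfsg.Agent.S5600
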