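import Cfsg.Statements.S5601
import Cfsg.Agent.Lib.M24Geom.Counts
import Cfsg.Agent.Lib.M24Geom.OrderThree
-- import your own Cfsg.Agent.* helpers here

set_option autoImplicit false
open scoped Pointwise
open Cfsg

namespace Cfsg.Agent.S5601

open Cfsg.Agent.Lib.Compute Cfsg.Agent.Lib.GolayOrbit Cfsg.Agent.Lib.M24Geom

theorem exists_gen (X : Subgroup ↥M24) (hX : Nat.card X = 3) :
    ∃ x : ↥M24, X = Subgroup.zpowers x ∧ orderOf x = 3 := by
  have : Fact (Nat.Prime 3) := ⟨Nat.prime_three⟩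
  have : Nontrivial X := (Finite.one_lt_card_iff_nontrivial).1 (by omega)
  obtain ⟨y, hy⟩ := exists_ne (1 : X)
  have ho : orderOf (y : ↥M24) = 3 := by
    rw [Subgroup.orderOf_coe]
    rcases (Nat.dvd_prime Nat.prime_three).1 (hX ▸ orderOf_dvd_natCard y) with h | h
    · exact absurd (orderOf_eq_one_iff.1 h) hy
    · exact h
  exact ⟨y, (Subgroup.eq_of_le_of_card_ge (by simp) (by rw [Nat.card_zpowers, ho, hX])).symm, ho⟩

theorem fixed_zpowers (x : ↥M24) :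
    {p : GolayPt | ∀ y ∈ Subgroup.zpowers x, ((y : ↥M24) : Equiv.Perm GolayPt) p = p}.ncard =
      (Finset.univ.filter fun p => (x : Equiv.Perm GolayPt) p = p).card := by
  rw [← Set.ncard_coe_finset]
  congr 1
  ext p
  simp only [Set.mem_setOf_eq, Finset.coe_filter, Finset.mem_univ, true_and]
  refine ⟨fun h => h x (Subgroup.mem_zpowers x), fun h y hy => ?_⟩
  obtain ⟨i, rfl⟩ := Subgroup.mem_zpowers_iff.1 hy
  rw [Subgroup.coe_zpow]
  exact Equiv.Perm.zpow_apply_eq_self_of_apply_eq_self h i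

theorem cube_eq_one {x : ↥M24} (ho : orderOf x = 3) : (x : Equiv.Perm GolayPt) ^ 3 = 1 := by
  rw [← ho, ← Subgroup.orderOf_coe]
  exact pow_orderOf_eq_one _

theorem dichotomy {x : ↥M24} (ho : orderOf x = 3) :
    (Finset.univ.filter fun p => (x : Equiv.Perm GolayPt) p = p).card = 6 ∨
      (Finset.univ.filter fun p => (x : Equiv.Perm GolayPt) p = p).card = 0 := by
  have h1 : (x : Equiv.Perm GolayPt) ≠ 1 := fun e => by
    rw [← Subgroup.orderOf_coe, e, orderOf_one] at ho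
    omega
  obtain ⟨g, -, he | he⟩ := order_three_conj x.2 (cube_eq_one ho) h1
  · exact Or.inl (by rw [← card_fixed_conj g, he, card_fixed_six3])
  · exact Or.inr (by rw [← card_fixed_conj g, he, card_fixed_free3])

theorem orderOf_rep {P : ℕ} (h : gperm P ^ 3 = 1) (hm : gperm P ∈ M24)
    (hf : (Finset.univ.filter fun q => gperm P q = q).card ≠ 24) :
    orderOf (⟨gperm P, hm⟩ : ↥M24) = 3 := by
  have : Fact (Nat.Prime 3) := ⟨Nat.prime_three⟩
  refine orderOf_eq_prime (Subtype.ext (by simpa using h)) fun e => hf ?_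
  rw [show gperm P = 1 by simpa using congrArg Subtype.val e]
  simp only [Equiv.Perm.one_apply, Finset.filter_true]
  rfl


/-- The group of the length-24 code has exactly two conjugacy classes of subgroups of order 3: a subgroup of order 3 fixes either exactly 6 of the 24 points or none of them, both cases occur, and two subgroups of order 3 with the same number of fixed points are conjugate. -/
theorem result : (∀ X : Subgroup ↥Cfsg.M24, Nat.card X = 3 → {p : Cfsg.GolayPt | ∀ x ∈ X, ((x : ↥Cfsg.M24) : Equiv.Perm Cfsg.GolayPt) p = p}.ncard = 6 ∨ {p : Cfsg.GolayPt | ∀ x ∈ X, ((x : ↥Cfsg.M24) : Equiv.Perm Cfsg.GolayPt) p = p}.ncard = 0) ∧ (∃ X : Subgroup ↥Cfsg.M24, Nat.card X = 3 ∧ {p : Cfsg.GolayPt | ∀ x ∈ X, ((x : ↥Cfsg.M24) : Equiv.Perm Cfsg.GolayPt) p = p}.ncard = 6) ∧ (∃ X : Subgroup ↥Cfsg.M24, Nat.card X = 3 ∧ {p : Cfsg.GolayPt | ∀ x ∈ X, ((x : ↥Cfsg.M24) : Equiv.Perm Cfsg.GolayPt) p =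 p}.ncard = 0) ∧ ∀ X Y : Subgroup ↥Cfsg.M24, Nat.card X = 3 → Nat.card Y = 3 → {p : Cfsg.GolayPt | ∀ x ∈ X, ((x : ↥Cfsg.M24) : Equiv.Perm Cfsg.GolayPt) p = p}.ncard = {p : Cfsg.GolayPt | ∀ x ∈ Y, ((x : ↥Cfsg.M24) : Equiv.Perm Cfsg.GolayPt) p = p}.ncard → ∃ k : ↥Cfsg.M24, MulAut.conj k • X = Y := by
  refine ⟨fun X hX => ?_, ⟨Subgroup.zpowers ⟨gperm six3, six3_spec.2.1⟩, ?_, ?_⟩,
    ⟨Subgroup.zpowers ⟨gperm free3, free3_spec.2.1⟩, ?_, ?_⟩, fun X Y hX hY h => ?_⟩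
  · obtain ⟨x, rfl, ho⟩ := exists_gen X hX
    rw [fixed_zpowers]
    exact dichotomy ho
  · rw [Nat.card_zpowers, orderOf_rep six3_spec.2.2 _ (by rw [card_fixed_six3]; omega)]
  · rw [fixed_zpowers]; exact card_fixed_six3
  · rw [Nat.card_zpowers, orderOf_rep free3_spec.2.2 _ (by rw [card_fixed_free3]; omega)]
  · rw [fixed_zpowers]; exact card_fixed_free3
  · obtain ⟨x, rfl, hox⟩ := exists_gen X hX
    obtain ⟨y, rfl, hoy⟩ := exists_gen Y hY
    rw [fixed_zpowers, fixed_zpowers] at h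
    obtain ⟨a, ha, b, hb, hab⟩ : ∃ a ∈ Cfsg.M24, ∃ b ∈ Cfsg.M24,
        a * (x : Equiv.Perm Cfsg.GolayPt) * a⁻¹ = b * (y : Equiv.Perm Cfsg.GolayPt) * b⁻¹ := by
      rcases dichotomy hox with hx | hx
      · obtain ⟨a, ha, hea⟩ := conj_six3 x.2 (cube_eq_one hox) hx
        obtain ⟨b, hb, heb⟩ := conj_six3 y.2 (cube_eq_one hoy) (h ▸ hx)
        exact ⟨a, ha, b, hb, hea.trans heb.symm⟩
      · obtain ⟨a, ha, hea⟩ := conj_free3 x.2 (cube_eq_one hox) hx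
        obtain ⟨b, hb, heb⟩ := conj_free3 y.2 (cube_eq_one hoy) (h ▸ hx)
        exact ⟨a, ha, b, hb, hea.trans heb.symm⟩
    refine ⟨(⟨b, hb⟩ : ↥Cfsg.M24)⁻¹ * ⟨a, ha⟩, ?_⟩
    rw [show (MulAut.conj ((⟨b, hb⟩ : ↥Cfsg.M24)⁻¹ * ⟨a, ha⟩)) • Subgroup.zpowers x =
      (Subgroup.zpowers x).map (MulAut.conj ((⟨b, hb⟩ : ↥Cfsg.M24)⁻¹ * ⟨a, ha⟩)).toMonoidHom from rfl,
      MonoidHom.map_zpowers]
    congr 1
    apply Subtype.ext
    show b⁻¹ * a * (x : Equiv.Perm Cfsg.GolayPt) * (b⁻¹ * a)⁻¹ = y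
    calc b⁻¹ * a * (x : Equiv.Perm Cfsg.GolayPt) * (b⁻¹ * a)⁻¹
        = b⁻¹ * (a * x * a⁻¹) * b := by group
      _ = y := by rw [hab]; group

end Cfsg.Agent.S5601
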