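import Cfsg.Statements.S5603
import Cfsg.Agent.Lib.M24Geom.Counts
import Cfsg.Agent.Lib.M24Geom.OrderThree
-- import your own Cfsg.Agent.* helpers here

set_option autoImplicit false
open scoped Pointwise
open Cfsg

namespace Cfsg.Agent.S5603

open Cfsg.Agent.Lib.Compute Cfsg.Agent.Lib.GolayOrbit Cfsg.Agent.Lib.M24Geom


/-- A fixed-point-free element of order 3 of the group of the length-24 code maps to themselves exactly 7 sextets and exactly 15 trios. -/
theorem result (g : Equiv.Perm Cfsg.GolayPt) (hg : g ∈ Cfsg.M24) (h₃ : orderOf g = 3) (h₀ : ∀ p, g p ≠ p) : {S : Finset (Finset Cfsg.GolayPt) | S ∈ Cfsg.sextets ∧ g • S = S}.ncard = 7 ∧ {T : Finset (Finset Cfsg.GolayPt) | T ∈ Cfsg.trios ∧ g • T = T}.ncard = 15 := by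
  obtain ⟨k, hk, he⟩ := conj_free3 hg (h₃ ▸ pow_orderOf_eq_one g)
    (Finset.card_eq_zero.2 (Finset.filter_eq_empty_iff.2 fun p _ => h₀ p))
  have hv := free3_spec.1
  have ht : tabOk (free3, free3Table) = true := by decide +kernel
  exact ⟨ncard_fixed_sextets hk he hv ht (by decide +kernel), ncard_fixed_trios hk he hv ht (by decide +kernel)⟩

end Cfsg.Agent.S5603
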