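import Cfsg.Statements.S5604
import Cfsg.Agent.Lib.M24Geom.Counts
import Cfsg.Agent.Lib.M24Geom.OrderThree
-- import your own Cfsg.Agent.* helpers here

set_option autoImplicit false
open scoped Pointwise
open Cfsg

namespace Cfsg.Agent.S5604

open Cfsg.Agent.Lib.Compute Cfsg.Agent.Lib.GolayOrbit Cfsg.Agent.Lib.M24Geom

/-- The values of the centraliser and normaliser counts at the representative. -/
theorem count_table :
    scanCount 24 (app rep7) ((app rep7)^[1]) m24Cert [] id = 42 ∧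
    scanCount 24 (app rep7) ((app rep7)^[2]) m24Cert [] id = 42 ∧
    scanCount 24 (app rep7) ((app rep7)^[3]) m24Cert [] id = 0 ∧
    scanCount 24 (app rep7) ((app rep7)^[4]) m24Cert [] id = 42 ∧
    scanCount 24 (app rep7) ((app rep7)^[5]) m24Cert [] id = 0 ∧
    scanCount 24 (app rep7) ((app rep7)^[6]) m24Cert [] id = 0 := by decide +kernel

theorem card_pow_conjugators (j : ℕ) :
    Nat.card {σ : Equiv.Perm GolayPt // σ ∈ M24 ∧ σ * gperm rep7 = gperm rep7 ^ j * σ} =
      scanCount 24 (app rep7) ((app rep7)^[j]) m24Cert [] id := by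
  have hiter : ∀ m, Repr (toPerm 24 rep7 ^ m) ((app rep7)^[m]) := by
    intro m
    induction m with
    | zero => exact fun i => rfl
    | succ m ih =>
      rw [pow_succ, Function.iterate_succ]
      exact ih.mul rep7_spec.1.repr
  rw [scanCount_eq rep7_spec.1.repr (hiter j) m24Cert_ok (π := 1) (f := id) Repr.one (by simp)]
  refine Nat.card_congr (Equiv.subtypeEquiv toGP.symm.toEquiv fun σ => ?_)
  show _ ↔ toGP.symm σ ∈ grp 24 m24Cert ∧ _
  rw [← K24_eq, mem_K24, MulEquiv.apply_symm_apply, one_mul]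
  refine and_congr_right fun _ => ?_
  rw [← toGP.injective.eq_iff, map_mul, map_mul, map_pow]
  simp only [gperm]
  erw [MulEquiv.apply_symm_apply]

/-- The facts about the normaliser of a subgroup of order 7. -/
theorem normalizer_data (a : ↥M24) (ho : orderOf a = 7) :
    Nat.card ↥(Subgroup.normalizer ((Subgroup.zpowers a : Subgroup ↥M24) : Set ↥M24)) = 126 ∧
    Nat.card ↥(Subgroup.centralizer ((Subgroup.zpowers a : Subgroup ↥M24) : Set ↥M24)) = 42 := by
  set x : Equiv.Perm GolayPt := (a : Equiv.Perm GolayPt)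
  have hox : orderOf x = 7 := by rw [Subgroup.orderOf_coe]; exact ho
  obtain ⟨g, hg, l, hl⟩ := conj_rep7 a.2 hox
  have hl0 : ¬ 7 ∣ l := by
    rintro ⟨c, rfl⟩
    rw [pow_mul, rep7_spec.2.2, one_pow, conj_eq_one_iff] at hl
    rw [show x = 1 from hl, orderOf_one] at hox
    omega
  obtain ⟨l', hl'⟩ : ∃ l', l * l' % 7 = 1 := by
    have key : ∀ r : Fin 7, r ≠ 0 → ∃ r' : Fin 7, ((r : ℕ) * (r' : ℕ)) % 7 = 1 := by decide
    obtain ⟨r', hr'⟩ := key ⟨l % 7, Nat.mod_lt _ (by norm_num)⟩ (fun e => hl0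
      (Nat.dvd_of_mod_eq_zero (congrArg Fin.val e)))
    exact ⟨r', by rw [Nat.mul_mod, Nat.mod_eq_of_lt r'.isLt]; exact hr'⟩
  have hrep : gperm rep7 = (g * x * g⁻¹) ^ l' := by
    rw [hl, ← pow_mul, ← Nat.mod_add_div (l * l') 7, hl', pow_add, pow_mul, rep7_spec.2.2, one_pow,
      mul_one, pow_one]
  have hcount : ∀ j, Nat.card {σ : Equiv.Perm GolayPt // σ ∈ M24 ∧ σ * x = x ^ j * σ} =
      scanCount 24 (app rep7) ((app rep7)^[j]) m24Cert [] id := by
    intro j
    rw [← card_pow_conjugators, card_conjugators_transfer hg, ← conj_pow]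
    refine Nat.card_congr (Equiv.subtypeEquivRight fun σ => and_congr_right fun _ => ?_)
    rw [hl]
    refine ⟨fun h => ?_, fun h => ?_⟩
    · have hs : SemiconjBy σ (gperm rep7 ^ l) ((gperm rep7 ^ l) ^ j) := h
      have h2 := hs.pow_right l'
      rw [← pow_mul, ← pow_mul, ← pow_mul] at h2
      have e1 : gperm rep7 ^ (l * l') = gperm rep7 := by
        rw [← Nat.mod_add_div (l * l') 7, hl', pow_add, pow_mul, rep7_spec.2.2, one_pow, mul_one, pow_one]
      rw [e1, show l * (j * l') = l * l' * j by ring, pow_mul, e1] at h2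
      exact h2
    · have hs : SemiconjBy σ (gperm rep7) (gperm rep7 ^ j) := h
      have h2 := hs.pow_right l
      rw [← pow_mul, mul_comm j, pow_mul] at h2
      exact h2
  obtain ⟨c1, c2, c3, c4, c5, c6⟩ := count_table
  have hN : Nat.card ↥(Subgroup.normalizer ((Subgroup.zpowers a : Subgroup ↥M24) : Set ↥M24)) =
      ∑ j : Fin 6, Nat.card {σ : Equiv.Perm GolayPt // σ ∈ M24 ∧ σ * x = x ^ ((j : ℕ) + 1) * σ} := by
    rw [← Nat.card_sigma]
    symm
    have hmem : ∀ (j : Fin 6) (σ : {σ : Equiv.Perm GolayPt // σ ∈ M24 ∧ σ * x = x ^ ((j : ℕ) + 1) * σ}),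
        (⟨σ.1, σ.2.1⟩ : ↥M24) ∈ Subgroup.normalizer ((Subgroup.zpowers a : Subgroup ↥M24) : Set ↥M24) := by
      rintro j ⟨σ, hσ, he⟩
      rw [Subgroup.mem_normalizer_iff_map_conj_eq, MonoidHom.map_zpowers]
      refine Subgroup.eq_of_le_of_card_ge ?_ ?_
      · rw [Subgroup.zpowers_le]
        refine ⟨(((j : ℕ) + 1 : ℕ) : ℤ), ?_⟩
        show a ^ (((j : ℕ) + 1 : ℕ) : ℤ) = _
        rw [zpow_natCast]
        apply Subtype.ext
        show x ^ ((j : ℕ) + 1) = σ * x * σ⁻¹
        rw [he, mul_inv_cancel_right]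
      · rw [Nat.card_zpowers, Nat.card_zpowers, ho]
        exact le_of_eq (by
          show 7 = orderOf ((MulAut.conj (⟨σ, hσ⟩ : ↥M24)) a)
          rw [MulEquiv.orderOf_eq, ho])
    refine Nat.card_eq_of_bijective (fun p => (⟨⟨p.2.1, p.2.2.1⟩, hmem p.1 p.2⟩ :
      ↥(Subgroup.normalizer ((Subgroup.zpowers a : Subgroup ↥M24) : Set ↥M24)))) ⟨?_, ?_⟩
    · rintro ⟨j, σ, hσ, he⟩ ⟨j', σ', hσ', he'⟩ e
      obtain rfl : σ = σ' := congrArg (fun z => (z.1 : Equiv.Perm GolayPt)) e
      have hj : j = j' := by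
        have h2 : x ^ ((j : ℕ) + 1) = x ^ ((j' : ℕ) + 1) := mul_right_cancel (he.symm.trans he')
        rw [pow_inj_mod, hox, Nat.mod_eq_of_lt (by omega), Nat.mod_eq_of_lt (by omega)] at h2
        exact Fin.ext (by omega)
      subst hj
      rfl
    · rintro ⟨⟨σ, hσ⟩, hn⟩
      have h1 : (⟨σ, hσ⟩ : ↥M24) * a * (⟨σ, hσ⟩ : ↥M24)⁻¹ ∈ Subgroup.zpowers a :=
        (Subgroup.mem_normalizer_iff.1 hn a).1 (Subgroup.mem_zpowers a)
      rw [mem_zpowers_iff_mem_range_orderOf, ho, Finset.mem_image] at h1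
      obtain ⟨i, hi, hie⟩ := h1
      rw [Finset.mem_range] at hi
      have hie' : x ^ i = σ * x * σ⁻¹ := congrArg Subtype.val hie
      have hi0 : i ≠ 0 := by
        rintro rfl
        rw [pow_zero] at hie'
        have : x = 1 := conj_eq_one_iff.1 hie'.symm
        rw [this, orderOf_one] at hox
        omega
      refine ⟨⟨⟨i - 1, by omega⟩, σ, hσ, ?_⟩, rfl⟩
      show σ * x = x ^ (i - 1 + 1) * σ
      rw [Nat.sub_add_cancel (by omega), hie', inv_mul_cancel_right]
  refine ⟨?_, ?_⟩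
  · rw [hN]
    simp only [hcount, Fin.sum_univ_succ, Fin.val_zero, Fin.val_succ, zero_add, Fin.sum_univ_zero,
      add_zero, c1, c2, c3, c4, c5, c6, Nat.reduceAdd]
  · rw [Subgroup.zpowers_eq_closure, Subgroup.centralizer_closure]
    rw [← c1, ← hcount 1, pow_one]
    refine Nat.card_congr
      { toFun := fun σ => ⟨σ.1.1, σ.1.2, (congrArg Subtype.val (σ.2 a rfl)).symm⟩
        invFun := fun σ => ⟨⟨σ.1, σ.2.1⟩, fun y hy => by
          obtain rfl := Set.mem_singleton_iff.1 hy
          exact Subtype.ext σ.2.2.symm⟩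
        left_inv := fun _ => rfl
        right_inv := fun _ => rfl }

/-- Exactly one trio is fixed by an element of order 7. -/
theorem unique_trio (a : ↥M24) (ho : orderOf a = 7) :
    ∃ T ∈ trios, (a : Equiv.Perm GolayPt) • T = T ∧ ∀ T' ∈ trios, (a : Equiv.Perm GolayPt) • T' = T' → T' = T := by
  obtain ⟨g, hg, l, hl⟩ := conj_rep7 a.2 (by rw [Subgroup.orderOf_coe]; exact ho)
  have hl0 : ¬ 7 ∣ l := by
    rintro ⟨c, rfl⟩
    rw [pow_mul, rep7_spec.2.2, one_pow, conj_eq_one_iff] at hl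
    rw [← Subgroup.orderOf_coe, hl, orderOf_one] at ho
    omega
  have hfix : ∀ X : Finset (Finset GolayPt),
      gperm rep7 ^ l • X = X → gperm rep7 • X = X := by
    intro X hX
    have hco : Nat.Coprime l 7 := ((Nat.Prime.coprime_iff_not_dvd (by norm_num)).2 hl0).symm
    have hmem : gperm rep7 ^ l ∈ MulAction.stabilizer (Equiv.Perm GolayPt) X := hX
    have h7 : gperm rep7 ^ 7 ∈ MulAction.stabilizer (Equiv.Perm GolayPt) X := by
      rw [rep7_spec.2.2]; exact one_mem _
    have : gperm rep7 ^ ((l.gcd 7 : ℕ) : ℤ) ∈ MulAction.stabilizer (Equiv.Perm GolayPt) X := by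
      rw [Nat.gcd_eq_gcd_ab, zpow_add, zpow_mul, zpow_mul, zpow_natCast, zpow_natCast]
      exact mul_mem (zpow_mem hmem _) (zpow_mem h7 _)
    rw [hco.gcd_eq_one] at this
    simpa using this
  have ht : tabOk (rep7, rep7Table) = true := by decide +kernel
  have h1 : {X : Finset (Finset GolayPt) | X ∈ trios ∧ gperm rep7 • X = X}.ncard = 1 :=
    ncard_fixed_trios (one_mem _) (by group) rep7_spec.1 ht (by decide +kernel)
  obtain ⟨T0, hT0⟩ := Set.ncard_eq_one.1 h1
  have hmem0 : T0 ∈ trios ∧ gperm rep7 • T0 = T0 := by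
    have : T0 ∈ ({T0} : Set (Finset (Finset GolayPt))) := rfl
    rwa [← hT0] at this
  have hfixed : ∀ i : ℕ, gperm rep7 ^ i • T0 = T0 := by
    intro i
    induction i with
    | zero => rw [pow_zero, one_smul]
    | succ i ih => rw [pow_succ, mul_smul, hmem0.2, ih]
  have ha : (a : Equiv.Perm GolayPt) • g⁻¹ • T0 = g⁻¹ • T0 := by
    rw [eq_inv_smul_iff, ← mul_smul, ← mul_smul, hl, hfixed]
  refine ⟨g⁻¹ • T0, trios_invariant _ (inv_mem hg) _ hmem0.1, ha, fun T' hT' hfT => ?_⟩
  have : g • T' ∈ {X : Finset (Finset GolayPt) | X ∈ trios ∧ gperm rep7 • X = X} := by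
    refine ⟨trios_invariant _ hg _ hT', hfix _ ?_⟩
    rw [← hl, mul_smul, mul_smul, inv_smul_smul, hfT]
  rw [hT0, Set.mem_singleton_iff] at this
  rw [← this, inv_smul_smul]

/-- Two elements centralising the representative that do not commute. -/
def centA : ℕ := 0xd00100011000e0009000500150016000b00140017000c000f000a0013000600070008001200040003000200010000

/-- The second one. -/
def centB : ℕ := 0xd00030013000c000400060001000500000011000700090016000e000f001400170002000a001000080015000b0012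

theorem cent_check : elemOk 2 centA = true ∧ elemOk 21 centB = true ∧
    ((List.range 24).all fun i => app centA (app rep7 i) == app rep7 (app centA i)) = true ∧
    ((List.range 24).all fun i => app centB (app rep7 i) == app rep7 (app centB i)) = true ∧
    ((List.range 24).any fun i => app centA (app centB i) != app centB (app centA i)) = true := by
  decide +kernel

theorem exists_noncommuting (a : ↥M24) (ho : orderOf a = 7) :
    ∃ u ∈ Subgroup.centralizer ((Subgroup.zpowers a : Subgroup ↥M24) : Set ↥M24),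
      ∃ v ∈ Subgroup.centralizer ((Subgroup.zpowers a : Subgroup ↥M24) : Set ↥M24), u * v ≠ v * u := by
  obtain ⟨g, hg, l, hl⟩ := conj_rep7 a.2 (by rw [Subgroup.orderOf_coe]; exact ho)
  obtain ⟨hA, hB, hcA, hcB, hne⟩ := cent_check
  obtain ⟨hvA, hmA, -⟩ := elemOk_spec (by norm_num) hA
  obtain ⟨hvB, hmB, -⟩ := elemOk_spec (by norm_num) hB
  simp only [List.all_eq_true, List.mem_range, beq_iff_eq] at hcA hcB
  have hu : ∀ {P : ℕ}, Valid 24 P → (hm : gperm P ∈ M24) →
      (∀ i < 24, app P (app rep7 i) = app rep7 (app P i)) →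
      (⟨g⁻¹ * gperm P * g, mul_mem (mul_mem (inv_mem hg) hm) hg⟩ : ↥M24) ∈
        Subgroup.centralizer ((Subgroup.zpowers a : Subgroup ↥M24) : Set ↥M24) := by
    intro P hv hm h
    rw [Subgroup.zpowers_eq_closure, Subgroup.centralizer_closure, Subgroup.mem_centralizer_singleton_iff]
    apply Subtype.ext
    show g⁻¹ * gperm P * g * a = a * (g⁻¹ * gperm P * g)
    have hcomm : gperm P * gperm rep7 = gperm rep7 * gperm P := by
      rw [gperm, gperm, ← map_mul, ← map_mul, (hv.repr.mul rep7_spec.1.repr).eq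
        (rep7_spec.1.repr.mul hv.repr) h]
    have hc : gperm P * gperm rep7 ^ l = gperm rep7 ^ l * gperm P := Commute.pow_right hcomm l
    rw [← hl] at hc
    calc g⁻¹ * gperm P * g * a = g⁻¹ * (gperm P * (g * a * g⁻¹)) * g := by group
      _ = g⁻¹ * (g * a * g⁻¹ * gperm P) * g := by rw [hc]
      _ = a * (g⁻¹ * gperm P * g) := by group
  refine ⟨_, hu hvA hmA hcA, _, hu hvB hmB hcB, fun e => ?_⟩
  have e1 := congrArg Subtype.val e
  simp only [Subgroup.coe_mul] at e1
  have e2 : gperm centA * gperm centB = gperm centB * gperm centA := by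
    calc gperm centA * gperm centB = g * (g⁻¹ * gperm centA * g * (g⁻¹ * gperm centB * g)) * g⁻¹ := by group
      _ = g * (g⁻¹ * gperm centB * g * (g⁻¹ * gperm centA * g)) * g⁻¹ := by rw [e1]
      _ = gperm centB * gperm centA := by group
  rw [gperm, gperm, ← map_mul, ← map_mul, toGP.injective.eq_iff] at e2
  simp only [List.any_eq_true, List.mem_range, bne_iff_ne] at hne
  obtain ⟨i, hi, hbad⟩ := hne
  have h1 := (hvA.repr.mul hvB.repr) ⟨i, hi⟩
  rw [e2, (hvB.repr.mul hvA.repr) ⟨i, hi⟩] at h1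
  exact hbad h1.symm


/-- For a subgroup S of order 7 of the group of the length-24 code (a Sylow 7-subgroup): the normaliser of S has order 126, the centraliser of S has order 42 and is non-abelian, and the whole normaliser leaves some trio invariant. (These are the orders of a Frobenius group of order 21 times a symmetric group of degree 3; the isomorphism type itself is not asserted here.) -/
theorem result (S : Subgroup ↥Cfsg.M24) (hS : Nat.card S = 7) : Nat.card ↥(Subgroup.normalizer (S : Set ↥Cfsg.M24)) = 126 ∧ Nat.card ↥(Subgroup.centralizer (S : Set ↥Cfsg.M24)) = 42 ∧ (∃ x ∈ Subgroup.centralizer (S : Set ↥Cfsg.M24), ∃ y ∈ Subgroup.centralizer (S : Set ↥Cfsg.M24), x * y ≠ y * x) ∧ ∃ T ∈ Cfsg.trios, ∀ n ∈ Subgroup.normalizer (S : Set ↥Cfsg.M24), ((n : ↥Cfsg.M24) : Equiv.Perm Cfsg.GolayPt) • T = T := by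
  have : Fact (Nat.Prime 7) := ⟨by norm_num⟩
  have : Nontrivial S := (Finite.one_lt_card_iff_nontrivial).1 (by omega)
  obtain ⟨y, hy⟩ := exists_ne (1 : S)
  have ho : orderOf (y : ↥Cfsg.M24) = 7 := by
    rw [Subgroup.orderOf_coe]
    rcases (Nat.dvd_prime (by norm_num : Nat.Prime 7)).1 (hS ▸ orderOf_dvd_natCard y) with h | h
    · exact absurd (orderOf_eq_one_iff.1 h) hy
    · exact h
  have hSeq : Subgroup.zpowers (y : ↥Cfsg.M24) = S :=
    Subgroup.eq_of_le_of_card_ge (by simp) (by rw [Nat.card_zpowers, ho, hS])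
  rw [← hSeq]
  obtain ⟨hN, hC⟩ := normalizer_data _ ho
  refine ⟨hN, hC, ?_, ?_⟩
  · exact exists_noncommuting _ ho
  · obtain ⟨T, hT, hyT, huniq⟩ := unique_trio _ ho
    refine ⟨T, hT, fun n hn => huniq _ (trios_invariant _ n.2 _ hT) ?_⟩
    have h1 : n⁻¹ * (y : ↥Cfsg.M24) * n ∈ Subgroup.zpowers (y : ↥Cfsg.M24) := by
      have := (Subgroup.mem_normalizer_iff.1 (inv_mem hn) (y : ↥Cfsg.M24)).1 (Subgroup.mem_zpowers _)
      simpa using this
    obtain ⟨i, hi⟩ := Subgroup.mem_zpowers_iff.1 h1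
    have hi' : ((n : ↥Cfsg.M24) : Equiv.Perm Cfsg.GolayPt)⁻¹ * ((y : ↥Cfsg.M24) : Equiv.Perm Cfsg.GolayPt) * (n : ↥Cfsg.M24) =
        ((y : ↥Cfsg.M24) : Equiv.Perm Cfsg.GolayPt) ^ i := by
      simpa using (congrArg Subtype.val hi).symm
    calc ((y : ↥Cfsg.M24) : Equiv.Perm Cfsg.GolayPt) • ((n : ↥Cfsg.M24) : Equiv.Perm Cfsg.GolayPt) • T
        = ((n : ↥Cfsg.M24) : Equiv.Perm Cfsg.GolayPt) • (((y : ↥Cfsg.M24) : Equiv.Perm Cfsg.GolayPt) ^ i) • T := by
          rw [← hi', smul_smul, smul_smul]; congr 1; group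
      _ = ((n : ↥Cfsg.M24) : Equiv.Perm Cfsg.GolayPt) • T := by
          congr 1
          exact (Subgroup.zpow_mem (MulAction.stabilizer (Equiv.Perm Cfsg.GolayPt) T) (show _ from hyT) i)

end Cfsg.Agent.S5604
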