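import Cfsg.Statements.S5605
import Cfsg.Agent.Lib.M24Geom.Counts
import Cfsg.Agent.Lib.ThreeTransp.M24Involutions
-- import your own Cfsg.Agent.* helpers here

set_option autoImplicit false
open scoped Pointwise
open Cfsg

namespace Cfsg.Agent.S5605

open Cfsg.Agent.Lib.Compute Cfsg.Agent.Lib.GolayOrbit Cfsg.Agent.Lib.M24Geom

open Cfsg.Agent.Lib.ThreeTransp in
theorem fixed_rep0 : (Finset.univ.filter fun p => rep0 p = p).card = 0 :=
  Finset.card_eq_zero.2 (Finset.filter_eq_empty_iff.2 fun p _ => rep0_fixed p)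


/-- An involution of the group of the length-24 code with exactly 8 fixed points maps to themselves exactly 71 octads, exactly 99 trios and exactly 91 sextets. -/
theorem result (g : Equiv.Perm Cfsg.GolayPt) (hg : g ∈ Cfsg.M24) (h₂ : orderOf g = 2) (h₈ : (Finset.univ.filter fun p => g p = p).card = 8) : {o : Finset Cfsg.GolayPt | o ∈ Cfsg.octads ∧ g • o = o}.ncard = 71 ∧ {T : Finset (Finset Cfsg.GolayPt) | T ∈ Cfsg.trios ∧ g • T = T}.ncard = 99 ∧ {S : Finset (Finset Cfsg.GolayPt) | S ∈ Cfsg.sextets ∧ g • S = S}.ncard = 91 := by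
  have hne : g ≠ 1 := fun e => by simp [e] at h₂
  have hgg : g * g = 1 := by
    have := pow_orderOf_eq_one g
    rwa [h₂, sq] at this
  obtain ⟨k, hk, he | he⟩ := Cfsg.Agent.Lib.ThreeTransp.involution_conj hg hgg hne
  · have hv : Valid 24 Cfsg.Agent.Lib.ThreeTransp.invRep8 :=
      (valid_of_powOk (p := 2) (by norm_num) (by decide +kernel)).1
    have he' : k * g * k⁻¹ = gperm Cfsg.Agent.Lib.ThreeTransp.invRep8 := he
    have ht : tabOk (Cfsg.Agent.Lib.ThreeTransp.invRep8, inv8Table) = true := by decide +kernel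
    exact ⟨ncard_fixed_octads hk he' hv ht (by decide +kernel), ncard_fixed_trios hk he' hv ht (by decide +kernel),
      ncard_fixed_sextets hk he' hv ht (by decide +kernel)⟩
  · have := fixed_rep0
    rw [← he, card_fixed_conj, h₈] at this
    omega

end Cfsg.Agent.S5605
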