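import Cfsg.Statements.S5606
import Cfsg.Agent.Lib.M24Geom.Counts
import Cfsg.Agent.Lib.ThreeTransp.M24Involutions
-- import your own Cfsg.Agent.* helpers here

set_option autoImplicit false
open scoped Pointwise
open Cfsg

namespace Cfsg.Agent.S5606

open Cfsg.Agent.Lib.Compute Cfsg.Agent.Lib.GolayOrbit Cfsg.Agent.Lib.M24Geom

open Cfsg.Agent.Lib.ThreeTransp in
theorem rep8_has_fixed : (Finset.univ.filter fun p => rep8 p = p).card ≠ 0 := by
  intro h
  rw [Finset.card_eq_zero, Finset.filter_eq_empty_iff] at h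
  obtain ⟨p, hp⟩ := Finset.card_pos.1
    (show 0 < (setOf24 fixMask8).card by rw [card_of_mem_octads fixMask8_octad]; norm_num)
  exact h (Finset.mem_univ p) ((rep8_fixed p).2 hp)


/-- A fixed-point-free involution of the group of the length-24 code maps to themselves exactly 15 octads, exactly 75 trios and exactly 51 sextets. -/
theorem result (g : Equiv.Perm Cfsg.GolayPt) (hg : g ∈ Cfsg.M24) (h₂ : orderOf g = 2) (h₀ : ∀ p, g p ≠ p) : {o : Finset Cfsg.GolayPt | o ∈ Cfsg.octads ∧ g • o = o}.ncard = 15 ∧ {T : Finset (Finset Cfsg.GolayPt) | T ∈ Cfsg.trios ∧ g • T = T}.ncard = 75 ∧ {S : Finset (Finset Cfsg.GolayPt) | S ∈ Cfsg.sextets ∧ g • S = S}.ncard = 51 := by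
  have hne : g ≠ 1 := fun e => by simp [e] at h₂
  have hgg : g * g = 1 := by
    have := pow_orderOf_eq_one g
    rwa [h₂, sq] at this
  obtain ⟨k, hk, he | he⟩ := Cfsg.Agent.Lib.ThreeTransp.involution_conj hg hgg hne
  · refine absurd ?_ rep8_has_fixed
    rw [← he, card_fixed_conj]
    exact Finset.card_eq_zero.2 (Finset.filter_eq_empty_iff.2 fun p _ => h₀ p)
  · have hv : Valid 24 Cfsg.Agent.Lib.ThreeTransp.invRep0 :=
      (valid_of_powOk (p := 2) (by norm_num) (by decide +kernel)).1
    have he' : k * g * k⁻¹ = gperm Cfsg.Agent.Lib.ThreeTransp.invRep0 := he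
    have ht : tabOk (Cfsg.Agent.Lib.ThreeTransp.invRep0, inv0Table) = true := by decide +kernel
    exact ⟨ncard_fixed_octads hk he' hv ht (by decide +kernel), ncard_fixed_trios hk he' hv ht (by decide +kernel),
      ncard_fixed_sextets hk he' hv ht (by decide +kernel)⟩

end Cfsg.Agent.S5606
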