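import Cfsg.Statements.S5607
import Cfsg.Agent.Lib.M24Geom.FreeInv
-- import your own Cfsg.Agent.* helpers here

set_option autoImplicit false
open scoped Pointwise
open Cfsg

namespace Cfsg.Agent.S5607

open Cfsg.Agent.Lib.Compute Cfsg.Agent.Lib.GolayOrbit Cfsg.Agent.Lib.M24Geom

theorem table_point : (List.range 24).all (fun i => match freeCert with
    | [] => false
    | L :: _ => (orbit L).contains i) = true := by decide +kernel

theorem freeInv_in : toPerm 24 freeInv ∈ grp 24 freeCert := by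
  have h : gperm freeInv ∈ gpGrp freeCert := mem_freeCert.2 ⟨freeInv_spec.2.1, rfl⟩
  obtain ⟨τ, hτ, he⟩ := mem_gpGrp.1 h
  exact toGP.injective he ▸ hτ

theorem transitive_cent (p q : GolayPt) : ∃ σ ∈ gpGrp freeCert, σ p = q := by
  have h := table_point
  have hc := freeCert_chk
  have key : ∀ i : Fin 24, ∃ τ ∈ grp 24 freeCert, τ 0 = i := by
    intro i
    rw [show freeCert = [freeCert0, freeCert1, freeCert2] from rfl] at h hc ⊢
    simp only [List.all_eq_true, List.mem_range, List.contains_iff_mem] at h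
    exact (mem_orbit_iff hc 0 i rfl).2 (h i i.isLt)
  obtain ⟨a, ha, hae⟩ := key (enc p)
  obtain ⟨b, hb, hbe⟩ := key (enc q)
  refine ⟨toGP (b * a⁻¹), mem_gpGrp.2 ⟨_, mul_mem hb (inv_mem ha), rfl⟩, ?_⟩
  rw [toGP_apply, Equiv.Perm.mul_apply, show a⁻¹ (enc p) = 0 by
    rw [Equiv.Perm.inv_eq_iff_eq, hae], hbe, Equiv.symm_apply_apply]


/-- For a fixed-point-free involution t of the group of the length-24 code: its centraliser in that group has order 7680, is transitive on the 24 points, and is contained, together with t, in the stabiliser of some sextet. -/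
theorem result (t : Equiv.Perm Cfsg.GolayPt) (ht : t ∈ Cfsg.M24) (h₂ : orderOf t = 2) (h₀ : ∀ p, t p ≠ p) : Nat.card {c : Equiv.Perm Cfsg.GolayPt // c ∈ Cfsg.M24 ∧ c * t = t * c} = 7680 ∧ (∀ p q : Cfsg.GolayPt, ∃ c ∈ Cfsg.M24, c * t = t * c ∧ c p = q) ∧ ∃ S ∈ Cfsg.sextets, t • S = S ∧ ∀ c ∈ Cfsg.M24, c * t = t * c → c • S = S := by
  have htt : t * t = 1 := by
    have := pow_orderOf_eq_one t
    rwa [h₂, sq] at this
  obtain ⟨g, hg, he⟩ := conj_freeInv ht htt h₀
  have hmem : ∀ c, (c ∈ Cfsg.M24 ∧ c * t = t * c) ↔ g * c * g⁻¹ ∈ gpGrp freeCert := by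
    intro c
    rw [mem_freeCert, ← he]
    refine and_congr ⟨fun h => mul_mem (mul_mem hg h) (inv_mem hg), fun h => ?_⟩ ⟨fun h => ?_, fun h => ?_⟩
    · simpa [mul_assoc] using mul_mem (mul_mem (inv_mem hg) h) hg
    · calc g * c * g⁻¹ * (g * t * g⁻¹) = g * (c * t) * g⁻¹ := by group
        _ = _ := by rw [h]; group
    · calc c * t = g⁻¹ * (g * c * g⁻¹ * (g * t * g⁻¹)) * g := by group
        _ = g⁻¹ * (g * t * g⁻¹ * (g * c * g⁻¹)) * g := by rw [h]
        _ = t * c := by group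
  refine ⟨?_, fun p q => ?_, ?_⟩
  · calc Nat.card {c : Equiv.Perm Cfsg.GolayPt // c ∈ Cfsg.M24 ∧ c * t = t * c}
        = Nat.card ↥(gpGrp freeCert) :=
          Nat.card_congr (Equiv.subtypeEquiv (MulAut.conj g).toEquiv fun c => hmem c)
      _ = 7680 := by rw [card_gpGrp freeCert_chk]; decide +kernel
  · obtain ⟨σ, hσ, hσe⟩ := transitive_cent (g p) (g q)
    have hc := (hmem (g⁻¹ * σ * g)).2 (by simpa [mul_assoc] using hσ)
    exact ⟨_, hc.1, hc.2, by simp [hσe]⟩
  · have hS : g⁻¹ • (familyCoding 6).dec freeSextet ∈ Cfsg.sextets := by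
      refine sextets_invariant _ (inv_mem hg) _ ?_
      rw [sextets_eq_dec]
      exact ⟨freeSextet, OTree.mem_keys_of_mem freeSextet_mem, rfl⟩
    have hfix : ∀ c, g * c * g⁻¹ ∈ gpGrp freeCert →
        c • g⁻¹ • (familyCoding 6).dec freeSextet = g⁻¹ • (familyCoding 6).dec freeSextet := by
      intro c hc
      rw [eq_inv_smul_iff, smul_smul, smul_smul]
      exact freeCert_fixes hc
    refine ⟨_, hS, hfix t ?_, fun c hc hct => hfix c ((hmem c).1 ⟨hc, hct⟩)⟩
    exact (hmem t).1 ⟨ht, rfl⟩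

end Cfsg.Agent.S5607
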