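import Cfsg.Statements.S5608
import Cfsg.Agent.Lib.M24Geom.FreeInv
import Cfsg.Agent.Lib.M24Geom.OrderThree
-- import your own Cfsg.Agent.* helpers here

set_option autoImplicit false
open scoped Pointwise
open Cfsg

namespace Cfsg.Agent.S5608

open Cfsg.Agent.Lib.Compute Cfsg.Agent.Lib.GolayOrbit Cfsg.Agent.Lib.M24Geom

/-- Elements of order 3 in the centraliser of the fixed-point-free involution move every point. -/
theorem three_table : (idxLists freeCert).all (fun js =>
    !((List.range 24).all fun i => sift freeCert js (sift freeCert js (sift freeCert js i)) == i) ||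
    (List.range 24).all (fun i => sift freeCert js i == i) ||
    (List.range 24).all (fun i => sift freeCert js i != i)) = true := by decide +kernel

theorem no_fixed {σ : Equiv.Perm GolayPt} (hσ : σ ∈ gpGrp freeCert) (h3 : σ ^ 3 = 1) (h1 : σ ≠ 1) :
    (Finset.univ.filter fun p => σ p = p).card = 0 := by
  obtain ⟨τ, hτ, rfl⟩ := mem_gpGrp.1 hσ
  obtain ⟨js, hjs, rfl⟩ := exists_idx freeCert_chk hτ
  obtain ⟨hr, -⟩ := sift_spec freeCert_chk js
  have h := List.all_eq_true.1 three_table js hjs
  simp only [Bool.or_eq_true, Bool.not_eq_true', List.all_eq_false, List.all_eq_true, List.mem_range,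
    beq_iff_eq, bne_iff_ne] at h
  rcases h with (⟨i, hi, hbad⟩ | h) | h
  · have h4 := (hr.mul (hr.mul hr)) ⟨i, hi⟩
    rw [show siftPerm 24 freeCert js * (siftPerm 24 freeCert js * siftPerm 24 freeCert js) = 1 by
      apply toGP.injective
      rw [map_one, ← h3, map_mul, map_mul]
      simp only [pow_succ, pow_zero, one_mul, mul_assoc]] at h4
    exact absurd h4.symm hbad
  · exact absurd (by rw [hr.eq Repr.one h, map_one]) h1
  · rw [Finset.card_eq_zero, Finset.filter_eq_empty_iff]
    intro p _ he
    refine h (enc p) (enc p).isLt ?_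
    have h4 := hr (enc p)
    rw [← h4, ← enc_toGP, he]


/-- If an element of order 3 and an involution of the group of the length-24 code commute, then either the element of order 3 has exactly 6 fixed points and the involution exactly 8, or both are fixed-point-free. -/
theorem result (x s : Equiv.Perm Cfsg.GolayPt) (hx : x ∈ Cfsg.M24) (hs : s ∈ Cfsg.M24) (h₃ : orderOf x = 3) (h₂ : orderOf s = 2) (hc : Commute x s) : ((Finset.univ.filter fun p => x p = p).card = 6 ∧ (Finset.univ.filter fun p => s p = p).card = 8) ∨ ((Finset.univ.filter fun p => x p = p).card = 0 ∧ (Finset.univ.filter fun p => s p = p).card = 0) := by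
  have hxx : x ^ 3 = 1 := h₃ ▸ pow_orderOf_eq_one x
  have hx1 : x ≠ 1 := fun e => by simp [e] at h₃
  have hss : s * s = 1 := by
    have := pow_orderOf_eq_one s
    rwa [h₂, sq] at this
  have hs1 : s ≠ 1 := fun e => by simp [e] at h₂
  have hxfix : (Finset.univ.filter fun p => x p = p).card = 6 ∨
      (Finset.univ.filter fun p => x p = p).card = 0 := by
    obtain ⟨g, -, he | he⟩ := order_three_conj hx hxx hx1
    · exact Or.inl (by rw [← card_fixed_conj g, he, card_fixed_six3])
    · exact Or.inr (by rw [← card_fixed_conj g, he, card_fixed_free3])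
  by_cases h0 : ∀ p, s p ≠ p
  · refine Or.inr ⟨?_, Finset.card_eq_zero.2 (Finset.filter_eq_empty_iff.2 fun p _ => h0 p)⟩
    obtain ⟨g, hg, he⟩ := conj_freeInv hs hss h0
    rw [← card_fixed_conj g]
    refine no_fixed (mem_freeCert.2 ⟨mul_mem (mul_mem hg hx) (inv_mem hg), ?_⟩) ?_ ?_
    · rw [← he]
      calc g * x * g⁻¹ * (g * s * g⁻¹) = g * (x * s) * g⁻¹ := by group
        _ = g * (s * x) * g⁻¹ := by rw [hc.eq]
        _ = _ := by group
    · rw [conj_pow, hxx]; group
    · exact fun e => hx1 (conj_eq_one_iff.1 e)
  · have hs8 : (Finset.univ.filter fun p => s p = p).card = 8 := by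
      obtain ⟨g, -, he | he⟩ := Cfsg.Agent.Lib.ThreeTransp.involution_conj hs hss hs1
      · rw [← card_fixed_conj g, he]
        rw [show (Finset.univ.filter fun p => Cfsg.Agent.Lib.ThreeTransp.rep8 p = p) =
          setOf24 Cfsg.Agent.Lib.ThreeTransp.fixMask8 from Finset.ext fun p => by
            simp [Cfsg.Agent.Lib.ThreeTransp.rep8_fixed p]]
        exact card_of_mem_octads Cfsg.Agent.Lib.ThreeTransp.fixMask8_octad
      · exfalso
        refine h0 fun p hp => Cfsg.Agent.Lib.ThreeTransp.rep0_fixed (g p) ?_
        rw [← he]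
        simp [hp]
    refine Or.inl ⟨hxfix.resolve_right fun hx0 => ?_, hs8⟩
    rw [Finset.card_eq_zero, Finset.filter_eq_empty_iff] at hx0
    -- x permutes the eight fixed points of s without fixing one
    have hmap : ∀ p, p ∈ (Finset.univ.filter fun p => s p = p) ↔ x p ∈ (Finset.univ.filter fun p => s p = p) := by
      intro p
      have hcp : s (x p) = x (s p) := (DFunLike.congr_fun hc.eq p).symm
      simp [hcp]
    let y : Equiv.Perm {p // p ∈ (Finset.univ.filter fun p => s p = p)} :=
      x.subtypePerm fun p => (hmap p).symm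
    have hy : y ^ 3 = 1 := by
      refine Equiv.ext fun p => Subtype.ext ?_
      show x (x (x p.1)) = p.1
      have := DFunLike.congr_fun hxx p.1
      simpa [pow_succ] using this
    have : Fact (Nat.Prime 3) := ⟨Nat.prime_three⟩
    have hex := Equiv.Perm.exists_fixed_point_of_prime (p := 3) (n := 1)
      (α := {p // p ∈ (Finset.univ.filter fun p => s p = p)})
      (by rw [Fintype.card_coe, hs8]; norm_num) (σ := y) (by simpa using hy)
    obtain ⟨a, ha⟩ := hex
    exact hx0 (Finset.mem_univ a.1) (congrArg Subtype.val ha)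

end Cfsg.Agent.S5608
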