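import Cfsg.Statements.S5609
import Cfsg.Agent.Lib.M24Geom.Base
-- import your own Cfsg.Agent.* helpers here

set_option autoImplicit false
open scoped Pointwise
open Cfsg

namespace Cfsg.Agent.S5609

open Cfsg.Agent.Lib.Compute Cfsg.Agent.Lib.GolayOrbit Cfsg.Agent.Lib.M24Geom

theorem table_inter : octadList.all (fun m => m == oct0 ||
    popN (oct0 &&& m) == 0 || popN (oct0 &&& m) == 4 || popN (oct0 &&& m) == 2) = true := by
  decide +kernel

theorem table_four : octadList.all (fun m => !(popN (oct0 &&& m) == 4) ||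
    octadList.any fun n => oct0 &&& n == 0 && n &&& m == 0) = true := by decide +kernel

theorem table_two : octadList.all (fun m => !(popN (oct0 &&& m) == 2) ||
    (octadList.all (fun n => !(oct0 &&& n == 0) || !(n &&& m == 0)) &&
      octadList.any fun n => oct0 &&& n == 0 && popN (n &&& m) == 4)) = true := by decide +kernel

/-- The facts at an arbitrary octad. -/
theorem neighbours {o o' : Finset GolayPt} (ho : o ∈ octads) (ho' : o' ∈ octads) (hne : o ≠ o') :
    ((o ∩ o').card = 0 ∨ (o ∩ o').card = 4 ∨ (o ∩ o').card = 2) ∧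
    ((o ∩ o').card = 4 → ∃ n ∈ octads, (o ∩ n).card = 0 ∧ (n ∩ o').card = 0) ∧
    ((o ∩ o').card = 2 → (∀ n ∈ octads, (o ∩ n).card = 0 → (n ∩ o').card ≠ 0) ∧
      ∃ n ∈ octads, (o ∩ n).card = 0 ∧ (n ∩ o').card = 4) := by
  obtain ⟨g, hg, he⟩ := exists_to_baseOctad ho
  obtain ⟨m, hm, hme⟩ := exists_octad_mask (smul_mem_octads hg ho')
  have hc : (o ∩ o').card = popN (oct0 &&& m) := by
    rw [← card_inter_smul g, he, ← hme, baseOctad, card_setOf24_and]
  have h1 := List.all_eq_true.1 table_inter m hm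
  have h2 := List.all_eq_true.1 table_four m hm
  have h3 := List.all_eq_true.1 table_two m hm
  have hmne : m ≠ oct0 := fun e => hne (smul_left_cancel g (by rw [he, ← hme, e]; rfl))
  simp only [Bool.or_eq_true, beq_iff_eq, List.any_eq_true, Bool.and_eq_true, List.all_eq_true,
    Bool.not_eq_true', beq_eq_false_iff_ne, hmne, false_or] at h1 h2 h3
  have hz : ∀ {a b : ℕ}, a &&& b = 0 → (setOf24 a ∩ setOf24 b).card = 0 := fun {a b} h => by
    rw [card_setOf24_and, h]; decide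
  have hback : ∀ n ∈ octadList, ∃ x ∈ octads, g • x = setOf24 n := fun n hn =>
    ⟨g⁻¹ • setOf24 n, smul_mem_octads (inv_mem hg) (mem_octads_of_mask hn), smul_inv_smul _ _⟩
  have hinter : ∀ x y : Finset GolayPt, (x ∩ y).card = (g • x ∩ g • y).card := fun x y =>
    (card_inter_smul g x y).symm
  refine ⟨by rw [hc]; clear h2 h3; omega, fun h4 => ?_, fun h2' => ?_⟩
  · obtain ⟨n, hn, e1, e2⟩ := h2.resolve_left fun h => h (hc ▸ h4)
    obtain ⟨x, hx, hxe⟩ := hback n hn
    refine ⟨x, hx, ?_, ?_⟩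
    · rw [hinter, he, hxe]; exact hz e1
    · rw [hinter, hxe, ← hme]; exact hz e2
  · obtain ⟨hall, n, hn, e1, e2⟩ := h3.resolve_left fun h => h (hc ▸ h2')
    refine ⟨fun x hx hx0 hx0' => ?_, ?_⟩
    · obtain ⟨k, hk, hke⟩ := exists_octad_mask (smul_mem_octads hg hx)
      have hd : ∀ {a b : ℕ}, a < 2 ^ 24 → (setOf24 a ∩ setOf24 b).card = 0 → a &&& b = 0 :=
        fun ha h => (disjoint_setOf24 ha).1 (Finset.disjoint_iff_inter_eq_empty.2
          (Finset.card_eq_zero.1 h))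
      rw [hinter, he, ← hke] at hx0
      rw [hinter, ← hke, ← hme] at hx0'
      rcases hall k hk with h | h
      · exact h (hd (lt_of_mem_octadList oct0_mem) hx0)
      · exact h (hd (lt_of_mem_octadList hk) hx0')
    · obtain ⟨x, hx, hxe⟩ := hback n hn
      refine ⟨x, hx, ?_, ?_⟩
      · rw [hinter, he, hxe]; exact hz e1
      · rw [hinter, hxe, ← hme, card_setOf24_and, e2]

theorem adj_iff (a b : octads) :
    (blockGraph octads).Adj a b ↔ ((a : Finset GolayPt) ∩ b).card = 0 := by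
  rw [blockGraph, SimpleGraph.fromRel_adj, Finset.card_eq_zero,
    ← Finset.disjoint_iff_inter_eq_empty, disjoint_comm (a := (b : Finset GolayPt)), or_self]
  refine ⟨fun h => h.2, fun h => ⟨fun e => ?_, h⟩⟩
  subst e
  have h8 : (a : Finset GolayPt).card = 8 := card_of_mem_octads a.2
  rw [Finset.disjoint_self_iff_empty] at h
  rw [h] at h8
  simp at h8

/-- Distances in the graph of disjoint octads. -/
theorem dist_facts {o o' : Finset GolayPt} (ho : o ∈ octads) (ho' : o' ∈ octads) (hne : o ≠ o') :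
    (blockGraph octads).Reachable ⟨o, ho⟩ ⟨o', ho'⟩ ∧
    ((o ∩ o').card = 0 → (blockGraph octads).dist ⟨o, ho⟩ ⟨o', ho'⟩ = 1) ∧
    ((o ∩ o').card = 4 → (blockGraph octads).dist ⟨o, ho⟩ ⟨o', ho'⟩ = 2) ∧
    ((o ∩ o').card = 2 → (blockGraph octads).dist ⟨o, ho⟩ ⟨o', ho'⟩ = 3) := by
  obtain ⟨h0, h4, h2⟩ := neighbours ho ho' hne
  have hsub : (⟨o, ho⟩ : octads) ≠ ⟨o', ho'⟩ := fun e => hne (congrArg Subtype.val e)
  have two : ∀ {x y : Finset GolayPt} (hx : x ∈ octads) (hy : y ∈ octads), x ≠ y →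
      (x ∩ y).card = 4 →
      ∃ w : (blockGraph octads).Walk ⟨x, hx⟩ ⟨y, hy⟩, w.length = 2 := by
    intro x y hx hy hxy h
    obtain ⟨n, hn, e1, e2⟩ := (neighbours hx hy hxy).2.1 h
    exact ⟨SimpleGraph.Walk.cons ((adj_iff ⟨x, hx⟩ ⟨n, hn⟩).2 e1)
      (SimpleGraph.Walk.cons ((adj_iff ⟨n, hn⟩ ⟨y, hy⟩).2 e2) SimpleGraph.Walk.nil), rfl⟩
  have one : (blockGraph octads).dist ⟨o, ho⟩ ⟨o', ho'⟩ = 1 ↔ (o ∩ o').card = 0 := by
    rw [SimpleGraph.dist_eq_one_iff_adj, adj_iff]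
  have hreach : ∀ {n} (w : (blockGraph octads).Walk ⟨o, ho⟩ ⟨o', ho'⟩), w.length = n →
      (blockGraph octads).Reachable ⟨o, ho⟩ ⟨o', ho'⟩ ∧
      (blockGraph octads).dist ⟨o, ho⟩ ⟨o', ho'⟩ ≤ n ∧
      0 < (blockGraph octads).dist ⟨o, ho⟩ ⟨o', ho'⟩ := fun w hw =>
    ⟨w.reachable, hw ▸ SimpleGraph.dist_le w, w.reachable.pos_dist_of_ne hsub⟩
  rcases h0 with h | h | h
  · refine ⟨((adj_iff ⟨o, ho⟩ ⟨o', ho'⟩).2 h).reachable, fun _ => one.2 h, fun e => ?_, fun e => ?_⟩
      <;> omega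
  · obtain ⟨w, hw⟩ := two ho ho' hne h
    obtain ⟨hr, hle, hpos⟩ := hreach w hw
    refine ⟨hr, fun e => by omega, fun _ => ?_, fun e => by omega⟩
    by_contra hd
    have := one.1 (by omega)
    omega
  · obtain ⟨hno, n, hn, e1, e2⟩ := h2 h
    have hno' : n ≠ o' := fun e => by
      rw [e, Finset.inter_self, card_of_mem_octads ho'] at e2
      omega
    obtain ⟨w, hw⟩ := two hn ho' hno' e2
    obtain ⟨hr, hle, hpos⟩ := hreach
      (SimpleGraph.Walk.cons ((adj_iff ⟨o, ho⟩ ⟨n, hn⟩).2 e1) w) rfl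
    rw [SimpleGraph.Walk.length_cons, hw] at hle
    refine ⟨hr, fun e => by omega, fun e => by omega, fun _ => ?_⟩
    by_contra hd
    rcases (show (blockGraph octads).dist ⟨o, ho⟩ ⟨o', ho'⟩ = 1 ∨
        (blockGraph octads).dist ⟨o, ho⟩ ⟨o', ho'⟩ = 2 by omega) with hd' | hd'
    · have := one.1 hd'
      omega
    · obtain ⟨p, hp⟩ := hr.exists_walk_length_eq_dist
      rw [hd'] at hp
      match p, hp with
      | .cons (v := v) a1 (.cons a2 .nil), _ =>
        exact hno v.1 v.2 ((adj_iff _ _).1 a1) ((adj_iff _ _).1 a2)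


/-- In the graph on the 759 octads of the length-24 code in which two octads are adjacent when they are disjoint, the graph is connected (of diameter 3) and two distinct octads are at distance 1, 2 or 3 exactly when they meet in 0, 4 or 2 points respectively. -/
theorem result (o o' : Finset Cfsg.GolayPt) (ho : o ∈ Cfsg.octads) (ho' : o' ∈ Cfsg.octads) (hne : o ≠ o') : (Cfsg.blockGraph Cfsg.octads).Connected ∧ ((Cfsg.blockGraph Cfsg.octads).dist ⟨o, ho⟩ ⟨o', ho'⟩ = 1 ↔ (o ∩ o').card = 0) ∧ ((Cfsg.blockGraph Cfsg.octads).dist ⟨o, ho⟩ ⟨o', ho'⟩ = 2 ↔ (o ∩ o').card = 4) ∧ ((Cfsg.blockGraph Cfsg.octads).dist ⟨o, ho⟩ ⟨o', ho'⟩ = 3 ↔ (o ∩ o').card = 2) := by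
  obtain ⟨-, h1, h4, h2⟩ := dist_facts ho ho' hne
  have hc := (neighbours ho ho' hne).1
  haveI : Nonempty ↑Cfsg.octads := ⟨⟨o, ho⟩⟩
  refine ⟨⟨fun a b => ?_⟩, ?_, ?_, ?_⟩
  · by_cases hab : a = b
    · rw [hab]
    · exact (dist_facts a.2 b.2 fun e => hab (Subtype.ext e)).1
  all_goals (constructor <;> intro h)
  all_goals (rcases hc with e | e | e <;>
    first
      | exact e
      | (have := h1 e; omega)
      | (have := h4 e; omega)
      | (have := h2 e; omega))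

end Cfsg.Agent.S5609
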