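import Cfsg.Statements.S5610
import Cfsg.Agent.Lib.M24Geom.OctTrio
import Cfsg.Agent.Lib.M24Geom.OctSex
-- import your own Cfsg.Agent.* helpers here

set_option autoImplicit false
open scoped Pointwise
open Cfsg

namespace Cfsg.Agent.S5610

open Cfsg.Agent.Lib.Compute Cfsg.Agent.Lib.GolayOrbit Cfsg.Agent.Lib.M24Geom

/-- The stabiliser of an octad in the group of the length-24 code has exactly three orbits on the 3795 trios, of sizes 15, 420 and 3360, and exactly three orbits on the 1771 sextets, of sizes 35, 840 and 896. -/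
theorem result (o : Finset Cfsg.GolayPt) (ho : o ∈ Cfsg.octads) : (∃ X₁ ∈ Cfsg.trios, ∃ X₂ ∈ Cfsg.trios, ∃ X₃ ∈ Cfsg.trios, (MulAction.orbit ↥(MulAction.stabilizer Cfsg.M24 o) X₁).ncard = 15 ∧ (MulAction.orbit ↥(MulAction.stabilizer Cfsg.M24 o) X₂).ncard = 420 ∧ (MulAction.orbit ↥(MulAction.stabilizer Cfsg.M24 o) X₃).ncard = 3360 ∧ Cfsg.trios = MulAction.orbit ↥(MulAction.stabilizer Cfsg.M24 o) X₁ ∪ MulAction.orbit ↥(MulAction.stabilizer Cfsg.M24 o) X₂ ∪ MulAction.orbit ↥(MulAction.stabilizer Cfsg.M24 o) X₃) ∧ (∃ Y₁ ∈ Cfsg.sextets, ∃ Y₂ ∈ Cfsg.sextets, ∃ Y₃ ∈ Cfsg.sextets, (MulAction.orbit ↥(MulAction.stabilizer Cfsg.M24 o) Y₁).ncard = 35 ∧ (MulAction.orbit ↥(MulAction.stabilizer Cfsg.M24 o) Y₂).ncard = 840 ∧ (MulAction.orbit ↥(MulAction.stabilizer Cfsg.M24 o) Y₃).ncard = 896 ∧ Cfsg.sextets = MulAction.orbit ↥(MulAction.stabilizer Cfsg.M24 o) Y₁ ∪ MulAction.orbit ↥(MulAction.stabilizer Cfsg.M24 o) Y₂ ∪ MulAction.orbit ↥(MulAction.stabilizer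 Cfsg.M24 o) Y₃) := by
  obtain ⟨g, hg, hx⟩ := exists_to_baseOctad ho
  refine ⟨?_, ?_⟩
  ·
    have hF := family_eq trios_invariant trios_eq_dec octTrio_cover hg
    refine ⟨_, rep_mem hF (by simp) octTrio1_ok, _, rep_mem hF (by simp) octTrio2_ok, _, rep_mem hF (by simp) octTrio3_ok, ncard_orbit_conj₂ octCert_stab hg hx octTrio1_ok octTrio1_incr octTrio1_length, ncard_orbit_conj₂ octCert_stab hg hx octTrio2_ok octTrio2_incr octTrio2_length, ncard_orbit_conj₂ octCert_stab hg hx octTrio3_ok octTrio3_incr octTrio3_length, ?_⟩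
    rw [hF, orbit_conj₂ octCert_stab hg hx octTrio1_ok, orbit_conj₂ octCert_stab hg hx octTrio2_ok, orbit_conj₂ octCert_stab hg hx octTrio3_ok]
    simp only [← Set.smul_set_union, ← Set.image_union]
    congr 2
    ext k
    simp [or_assoc]
  ·
    have hF := family_eq sextets_invariant sextets_eq_dec octSex_cover hg
    refine ⟨_, rep_mem hF (by simp) octSex1_ok, _, rep_mem hF (by simp) octSex2_ok, _, rep_mem hF (by simp) octSex3_ok, ncard_orbit_conj₂ octCert_stab hg hx octSex1_ok octSex1_incr octSex1_length, ncard_orbit_conj₂ octCert_stab hg hx octSex2_ok octSex2_incr octSex2_length, ncard_orbit_conj₂ octCert_stab hg hx octSex3_ok octSex3_incr octSex3_length, ?_⟩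
    rw [hF, orbit_conj₂ octCert_stab hg hx octSex1_ok, orbit_conj₂ octCert_stab hg hx octSex2_ok, orbit_conj₂ octCert_stab hg hx octSex3_ok]
    simp only [← Set.smul_set_union, ← Set.image_union]
    congr 2
    ext k
    simp [or_assoc]

end Cfsg.Agent.S5610
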