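import Cfsg.Statements.S5611
import Cfsg.Agent.Lib.M24Geom.SexOct
import Cfsg.Agent.Lib.M24Geom.SexTrio
-- import your own Cfsg.Agent.* helpers here

set_option autoImplicit false
open scoped Pointwise
open Cfsg

namespace Cfsg.Agent.S5611

open Cfsg.Agent.Lib.Compute Cfsg.Agent.Lib.GolayOrbit Cfsg.Agent.Lib.M24Geom

/-- The stabiliser of a sextet in the group of the length-24 code has exactly three orbits on the 759 octads, of sizes 15, 360 and 384, and exactly four orbits on the 3795 trios, of sizes 15, 180, 720 and 2880. -/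
theorem result (S : Finset (Finset Cfsg.GolayPt)) (hS : S ∈ Cfsg.sextets) : (∃ X₁ ∈ Cfsg.octads, ∃ X₂ ∈ Cfsg.octads, ∃ X₃ ∈ Cfsg.octads, (MulAction.orbit ↥(MulAction.stabilizer Cfsg.M24 S) X₁).ncard = 15 ∧ (MulAction.orbit ↥(MulAction.stabilizer Cfsg.M24 S) X₂).ncard = 360 ∧ (MulAction.orbit ↥(MulAction.stabilizer Cfsg.M24 S) X₃).ncard = 384 ∧ Cfsg.octads = MulAction.orbit ↥(MulAction.stabilizer Cfsg.M24 S) X₁ ∪ MulAction.orbit ↥(MulAction.stabilizer Cfsg.M24 S) X₂ ∪ MulAction.orbit ↥(MulAction.stabilizer Cfsg.M24 S) X₃) ∧ (∃ Y₁ ∈ Cfsg.trios, ∃ Y₂ ∈ Cfsg.trios, ∃ Y₃ ∈ Cfsg.trios, ∃ Y₄ ∈ Cfsg.trios, (MulAction.orbit ↥(MulAction.stabilizer Cfsg.M24 S) Y₁).ncard = 15 ∧ (MulAction.orbit ↥(MulAction.stabilizer Cfsg.M24 S) Y₂).ncard = 180 ∧ (MulAction.orbit ↥(MulAction.stabilizer Cfsg.M24 S) Y₃).ncard = 720 ∧ (MulAction.orbit ↥(MulAction.stabilizer Cfsg.M24 S) Y₄).ncard = 2880 ∧ Cfsg.trios = MulAction.orbit ↥(MulAction.stabilizer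 Cfsg.M24 S) Y₁ ∪ MulAction.orbit ↥(MulAction.stabilizer Cfsg.M24 S) Y₂ ∪ MulAction.orbit ↥(MulAction.stabilizer Cfsg.M24 S) Y₃ ∪ MulAction.orbit ↥(MulAction.stabilizer Cfsg.M24 S) Y₄) := by
  obtain ⟨g, hg, hx⟩ := exists_to_baseSextet hS
  refine ⟨?_, ?_⟩
  ·
    have hF := family_eq octads_invariant octads_eq_dec sexOct_cover hg
    refine ⟨_, rep_mem hF (by simp) sexOct1_ok, _, rep_mem hF (by simp) sexOct2_ok, _, rep_mem hF (by simp) sexOct3_ok, ncard_orbit_conj₂ sexCert_stab hg hx sexOct1_ok sexOct1_incr sexOct1_length, ncard_orbit_conj₂ sexCert_stab hg hx sexOct2_ok sexOct2_incr sexOct2_length, ncard_orbit_conj₂ sexCert_stab hg hx sexOct3_ok sexOct3_incr sexOct3_length, ?_⟩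
    rw [hF, orbit_conj₂ sexCert_stab hg hx sexOct1_ok, orbit_conj₂ sexCert_stab hg hx sexOct2_ok, orbit_conj₂ sexCert_stab hg hx sexOct3_ok]
    simp only [← Set.smul_set_union, ← Set.image_union]
    congr 2
    ext k
    simp [or_assoc]
  ·
    have hF := family_eq trios_invariant trios_eq_dec sexTrio_cover hg
    refine ⟨_, rep_mem hF (by simp) sexTrio1_ok, _, rep_mem hF (by simp) sexTrio2_ok, _, rep_mem hF (by simp) sexTrio3_ok, _, rep_mem hF (by simp) sexTrio4_ok, ncard_orbit_conj₂ sexCert_stab hg hx sexTrio1_ok sexTrio1_incr sexTrio1_length, ncard_orbit_conj₂ sexCert_stab hg hx sexTrio2_ok sexTrio2_incr sexTrio2_length, ncard_orbit_conj₂ sexCert_stab hg hx sexTrio3_ok sexTrio3_incr sexTrio3_length, ncard_orbit_conj₂ sexCert_stab hg hx sexTrio4_ok sexTrio4_incr sexTrio4_length, ?_⟩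
    rw [hF, orbit_conj₂ sexCert_stab hg hx sexTrio1_ok, orbit_conj₂ sexCert_stab hg hx sexTrio2_ok, orbit_conj₂ sexCert_stab hg hx sexTrio3_ok, orbit_conj₂ sexCert_stab hg hx sexTrio4_ok]
    simp only [← Set.smul_set_union, ← Set.image_union]
    congr 2
    ext k
    simp [or_assoc]

end Cfsg.Agent.S5611
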