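import Cfsg.Statements.S5612
import Cfsg.Agent.Lib.M24Geom.TrioOct
import Cfsg.Agent.Lib.M24Geom.TrioSex
-- import your own Cfsg.Agent.* helpers here

set_option autoImplicit false
open scoped Pointwise
open Cfsg

namespace Cfsg.Agent.S5612

open Cfsg.Agent.Lib.Compute Cfsg.Agent.Lib.GolayOrbit Cfsg.Agent.Lib.M24Geom

/-- The stabiliser of a trio in the group of the length-24 code has exactly three orbits on the 759 octads, of sizes 3, 84 and 672, and exactly four orbits on the 1771 sextets, of sizes 7, 84, 336 and 1344. -/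
theorem result (T : Finset (Finset Cfsg.GolayPt)) (hT : T ∈ Cfsg.trios) : (∃ X₁ ∈ Cfsg.octads, ∃ X₂ ∈ Cfsg.octads, ∃ X₃ ∈ Cfsg.octads, (MulAction.orbit ↥(MulAction.stabilizer Cfsg.M24 T) X₁).ncard = 3 ∧ (MulAction.orbit ↥(MulAction.stabilizer Cfsg.M24 T) X₂).ncard = 84 ∧ (MulAction.orbit ↥(MulAction.stabilizer Cfsg.M24 T) X₃).ncard = 672 ∧ Cfsg.octads = MulAction.orbit ↥(MulAction.stabilizer Cfsg.M24 T) X₁ ∪ MulAction.orbit ↥(MulAction.stabilizer Cfsg.M24 T) X₂ ∪ MulAction.orbit ↥(MulAction.stabilizer Cfsg.M24 T) X₃) ∧ (∃ Y₁ ∈ Cfsg.sextets, ∃ Y₂ ∈ Cfsg.sextets, ∃ Y₃ ∈ Cfsg.sextets, ∃ Y₄ ∈ Cfsg.sextets, (MulAction.orbit ↥(MulAction.stabilizer Cfsg.M24 T) Y₁).ncard = 7 ∧ (MulAction.orbit ↥(MulAction.stabilizer Cfsg.M24 T) Y₂).ncard = 84 ∧ (MulAction.orbit ↥(MulAction.stabilizer Cfsg.M24 T) Y₃).ncard = 336 ∧ (MulAction.orbit ↥(MulAction.stabilizer Cfsg.M24 T) Y₄).ncard = 1344 ∧ Cfsg.sextets = MulAction.orbit ↥(MulAction.stabilizer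 Cfsg.M24 T) Y₁ ∪ MulAction.orbit ↥(MulAction.stabilizer Cfsg.M24 T) Y₂ ∪ MulAction.orbit ↥(MulAction.stabilizer Cfsg.M24 T) Y₃ ∪ MulAction.orbit ↥(MulAction.stabilizer Cfsg.M24 T) Y₄) := by
  obtain ⟨g, hg, hx⟩ := exists_to_baseTrio hT
  refine ⟨?_, ?_⟩
  ·
    have hF := family_eq octads_invariant octads_eq_dec trioOct_cover hg
    refine ⟨_, rep_mem hF (by simp) trioOct1_ok, _, rep_mem hF (by simp) trioOct2_ok, _, rep_mem hF (by simp) trioOct3_ok, ncard_orbit_conj₂ trioCert_stab hg hx trioOct1_ok trioOct1_incr trioOct1_length, ncard_orbit_conj₂ trioCert_stab hg hx trioOct2_ok trioOct2_incr trioOct2_length, ncard_orbit_conj₂ trioCert_stab hg hx trioOct3_ok trioOct3_incr trioOct3_length, ?_⟩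
    rw [hF, orbit_conj₂ trioCert_stab hg hx trioOct1_ok, orbit_conj₂ trioCert_stab hg hx trioOct2_ok, orbit_conj₂ trioCert_stab hg hx trioOct3_ok]
    simp only [← Set.smul_set_union, ← Set.image_union]
    congr 2
    ext k
    simp [or_assoc]
  ·
    have hF := family_eq sextets_invariant sextets_eq_dec trioSex_cover hg
    refine ⟨_, rep_mem hF (by simp) trioSex1_ok, _, rep_mem hF (by simp) trioSex2_ok, _, rep_mem hF (by simp) trioSex3_ok, _, rep_mem hF (by simp) trioSex4_ok, ncard_orbit_conj₂ trioCert_stab hg hx trioSex1_ok trioSex1_incr trioSex1_length, ncard_orbit_conj₂ trioCert_stab hg hx trioSex2_ok trioSex2_incr trioSex2_length, ncard_orbit_conj₂ trioCert_stab hg hx trioSex3_ok trioSex3_incr trioSex3_length, ncard_orbit_conj₂ trioCert_stab hg hx trioSex4_ok trioSex4_incr trioSex4_length, ?_⟩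
    rw [hF, orbit_conj₂ trioCert_stab hg hx trioSex1_ok, orbit_conj₂ trioCert_stab hg hx trioSex2_ok, orbit_conj₂ trioCert_stab hg hx trioSex3_ok, orbit_conj₂ trioCert_stab hg hx trioSex4_ok]
    simp only [← Set.smul_set_union, ← Set.image_union]
    congr 2
    ext k
    simp [or_assoc]

end Cfsg.Agent.S5612
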