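import Cfsg.Statements.S5613
import Cfsg.Agent.Lib.M24Geom.Base
-- import your own Cfsg.Agent.* helpers here

set_option autoImplicit false
open scoped Pointwise
open Cfsg

namespace Cfsg.Agent.S5613

open Cfsg.Agent.Lib.Compute Cfsg.Agent.Lib.GolayOrbit Cfsg.Agent.Lib.M24Geom

theorem card_octad_stabilizer {o : Finset GolayPt} (ho : o ∈ octads) :
    Nat.card (MulAction.stabilizer M24 o) = 322560 := by
  obtain ⟨g, hg, he⟩ := exists_to_baseOctad ho
  rw [← card_stabilizer_smul (⟨g, hg⟩ : M24) (x := o) (y := baseOctad) he]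
  exact octCert_stab.card_stabilizer.trans (by decide +kernel)

theorem orbit_octad_stabilizer {o o' : Finset GolayPt} (ho : o ∈ octads) (ho' : o' ∈ octads) :
    MulAction.orbit ↥(MulAction.stabilizer M24 o) o' =
      {x | x ∈ octads ∧ (o ∩ x).card = (o ∩ o').card} := by
  ext x
  constructor
  · rintro ⟨⟨⟨σ, hσ⟩, hσo⟩, rfl⟩
    refine ⟨smul_mem_octads hσ ho', ?_⟩
    have hso : σ • o = o := hσo
    show (o ∩ σ • o').card = _
    conv_lhs => rw [← hso]
    exact card_inter_smul σ o o'
  · rintro ⟨hx, hc⟩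
    obtain ⟨g, hg, he⟩ := exists_to_baseOctad ho
    obtain ⟨σ, hσ, hσo, hσx⟩ := octad_rel (smul_mem_octads hg ho') (smul_mem_octads hg hx)
      (by rw [← he, card_inter_smul, card_inter_smul, hc])
    refine ⟨⟨⟨g⁻¹ * σ * g, mul_mem (mul_mem (inv_mem hg) hσ) hg⟩, ?_⟩, ?_⟩
    · show (g⁻¹ * σ * g) • o = o
      rw [mul_smul, mul_smul, he, hσo, ← he, inv_smul_smul]
    · show (g⁻¹ * σ * g) • o' = x
      rw [mul_smul, mul_smul, hσx, inv_smul_smul]

theorem ncard_meet {o : Finset GolayPt} (ho : o ∈ octads) (i : ℕ) :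
    {x | x ∈ octads ∧ (o ∩ x).card = i}.ncard =
      octadList.countP fun m => popN (oct0 &&& m) == i := by
  obtain ⟨g, hg, he⟩ := exists_to_baseOctad ho
  rw [ncard_transport g (fun x => x ∈ octads ∧ (o ∩ x).card = i)
    (fun x => x ∈ octads ∧ (baseOctad ∩ x).card = i) (fun x => by
      rw [mem_octads_smul_iff hg, ← he, card_inter_smul])]
  exact ncard_octads_filter _ _ fun m _ => by rw [baseOctad, card_setOf24_and, beq_iff_eq]

theorem card_inf_stabilizer {o o' : Finset GolayPt} (ho : o ∈ octads) (ho' : o' ∈ octads) :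
    Nat.card ↥(MulAction.stabilizer M24 o ⊓ MulAction.stabilizer M24 o') *
      (octadList.countP fun m => popN (oct0 &&& m) == (o ∩ o').card) = 322560 := by
  have hst : MulAction.stabilizer ↥(MulAction.stabilizer M24 o) o' =
      (MulAction.stabilizer M24 o ⊓ MulAction.stabilizer M24 o').subgroupOf
        (MulAction.stabilizer M24 o) := by
    ext g
    simp [Subgroup.mem_subgroupOf, Subgroup.smul_def]
  have h := Subgroup.card_mul_index (MulAction.stabilizer ↥(MulAction.stabilizer M24 o) o')
  rwa [MulAction.index_stabilizer, orbit_octad_stabilizer ho ho', ncard_meet ho, hst,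
    Nat.card_congr (Subgroup.subgroupOfEquivOfLe inf_le_left).toEquiv,
    card_octad_stabilizer ho] at h


/-- In the group of the length-24 code, the joint stabiliser of two octads has order 10752, 1152 or 720 according as the octads meet in 0, 4 or 2 points. -/
theorem result (o o' : Finset Cfsg.GolayPt) (ho : o ∈ Cfsg.octads) (ho' : o' ∈ Cfsg.octads) : ((o ∩ o').card = 0 → Nat.card ↥(MulAction.stabilizer Cfsg.M24 o ⊓ MulAction.stabilizer Cfsg.M24 o') = 10752) ∧ ((o ∩ o').card = 4 → Nat.card ↥(MulAction.stabilizer Cfsg.M24 o ⊓ MulAction.stabilizer Cfsg.M24 o') = 1152) ∧ ((o ∩ o').card = 2 → Nat.card ↥(MulAction.stabilizer Cfsg.M24 o ⊓ MulAction.stabilizer Cfsg.M24 o') = 720) := by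
  refine ⟨fun h => ?_, fun h => ?_, fun h => ?_⟩
  · have := card_inf_stabilizer ho ho'
    rw [h, show (octadList.countP fun m => popN (oct0 &&& m) == 0) = 30 by decide +kernel] at this
    omega
  · have := card_inf_stabilizer ho ho'
    rw [h, show (octadList.countP fun m => popN (oct0 &&& m) == 4) = 280 by decide +kernel] at this
    omega
  · have := card_inf_stabilizer ho ho'
    rw [h, show (octadList.countP fun m => popN (oct0 &&& m) == 2) = 448 by decide +kernel] at this
    omega

end Cfsg.Agent.S5613
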