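import Cfsg.Statements.S5614
import Cfsg.Agent.Lib.M24Geom.SymSix
import Cfsg.Agent.Lib.Golay.Octads
import Cfsg.Agent.S5613
-- import your own Cfsg.Agent.* helpers here

set_option autoImplicit false
open scoped Pointwise
open Cfsg

namespace Cfsg.Agent.S5614

open Cfsg.Agent.Lib.Compute Cfsg.Agent.Lib.GolayOrbit Cfsg.Agent.Lib.M24Geom

theorem setOf24_sdiff (a b : ℕ) : setOf24 a \ setOf24 b = setOf24 (a &&& (b ^^^ 16777215)) := by
  rw [setOf24_and, setOf24_compl]
  exact sdiff_eq


/-- In the group of the length-24 code, the joint stabiliser of two octads meeting in exactly two points is isomorphic to the symmetric group of degree 6. -/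
theorem result (o o' : Finset Cfsg.GolayPt) (ho : o ∈ Cfsg.octads) (ho' : o' ∈ Cfsg.octads) (h₂ : (o ∩ o').card = 2) : Nonempty (↥(MulAction.stabilizer Cfsg.M24 o ⊓ MulAction.stabilizer Cfsg.M24 o') ≃* Equiv.Perm (Fin 6)) := by
  obtain ⟨g0, hg0, he0⟩ := exists_to_baseOctad ho
  have hm : (31554 : ℕ) ∈ octadList := by decide +kernel
  obtain ⟨σ, hσ, hσo, hσx⟩ := octad_rel (smul_mem_octads hg0 ho') (mem_octads_of_mask hm)
    (by rw [← he0, card_inter_smul, h₂, he0, baseOctad, card_setOf24_and]; decide +kernel)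
  have hg : σ * g0 ∈ Cfsg.M24 := mul_mem hσ hg0
  have ha : (σ * g0) • o = setOf24 oct0 := by rw [mul_smul, he0, hσo]; rfl
  have hb : (σ * g0) • o' = setOf24 31554 := by rw [mul_smul, hσx]
  have hc := Cfsg.Agent.S5613.result o o' ho ho' |>.2.2 h₂
  have h1 : patternCount 24 (fixPts (oct0 &&& (31554 ^^^ 16777215)))
      ([oct0, 31554].map fun m => (m, m)) m24Cert id = 1 := by decide +kernel
  exact (sym_six hg ha hb (s := o \ o') (S := oct0 &&& (31554 ^^^ 16777215))
    (by rw [Finset.smul_finset_sdiff, ha, hb, setOf24_sdiff])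
    (by rw [Finset.card_sdiff, card_of_mem_octads ho, Finset.inter_comm, h₂])
    (fun τ h1 h2 => by rw [Finset.smul_finset_sdiff, h1, h2]) hc h1).1

end Cfsg.Agent.S5614
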