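import Cfsg.Statements.S5616
import Cfsg.Agent.Lib.M24Geom.TriadSex
import Cfsg.Agent.Lib.Golay.SmallSets
-- import your own Cfsg.Agent.* helpers here

set_option autoImplicit false
open scoped Pointwise
open Cfsg

namespace Cfsg.Agent.S5616

open Cfsg.Agent.Lib.Compute Cfsg.Agent.Lib.GolayOrbit Cfsg.Agent.Lib.M24Geom

/-- Number of tetrads of a packed sextet meeting the base triad. -/
def label (k : ℕ) : ℕ := (unpack 6 k).countP fun m => !(m &&& triad0 == 0)

theorem labels : triadSex1.allNodes (fun k _ _ _ => label k == 1) = true ∧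
    triadSex2.allNodes (fun k _ _ _ => label k == 2) = true ∧
    triadSex3.allNodes (fun k _ _ _ => label k == 3) = true := by decide +kernel

theorem card_meeting {k : ℕ} (hk : (familyCoding 6).good k = true) :
    (((familyCoding 6).dec k).filter fun t => (t ∩ setOf24 triad0).Nonempty).card = label k := by
  have hinc : incr (unpack 6 k) = true := by
    simp only [familyCoding, Bool.and_eq_true] at hk
    exact hk.2
  show (((unpack 6 k).map setOf24).toFinset.filter _).card = _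
  rw [label, List.countP_eq_length_filter,
    ← List.toFinset_card_of_nodup ((nodup_of_incr hinc).filter _)]
  symm
  refine Finset.card_bij (fun m _ => setOf24 m) (fun m hm => ?_) (fun a ha b hb e => ?_)
    (fun t ht => ?_)
  · simp only [List.mem_toFinset, List.mem_filter, Bool.not_eq_true', beq_eq_false_iff_ne] at hm
    rw [Finset.mem_filter, List.mem_toFinset, Finset.nonempty_iff_ne_empty]
    refine ⟨List.mem_map_of_mem hm.1, fun he => hm.2 ?_⟩
    exact (disjoint_setOf24 (lt_of_mem_unpack hm.1)).1 (Finset.disjoint_iff_inter_eq_empty.2 he)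
  · simp only [List.mem_toFinset, List.mem_filter] at ha hb
    exact setOf24_injOn (lt_of_mem_unpack ha.1) (lt_of_mem_unpack hb.1) e
  · rw [Finset.mem_filter, List.mem_toFinset, List.mem_map] at ht
    obtain ⟨⟨m, hm, rfl⟩, hne⟩ := ht
    refine ⟨m, ?_, rfl⟩
    simp only [List.mem_toFinset, List.mem_filter, Bool.not_eq_true', beq_eq_false_iff_ne]
    refine ⟨hm, fun h0 => ?_⟩
    rw [← setOf24_and, h0, setOf24_zero] at hne
    simp at hne


/-- Let Y be a set of 3 of the 24 points. The sextets of the length-24 code whose tetrads meeting Y number 1, 2 or 3 are respectively 21, 630 and 1120 in number, and two sextets with the same number of tetrads meeting Y are conjugate under the setwise stabiliser of Y in the code's group. -/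
theorem result (Y : Finset Cfsg.GolayPt) (hY : Y.card = 3) : {S : Finset (Finset Cfsg.GolayPt) | S ∈ Cfsg.sextets ∧ (S.filter fun t => (t ∩ Y).Nonempty).card = 1}.ncard = 21 ∧ {S : Finset (Finset Cfsg.GolayPt) | S ∈ Cfsg.sextets ∧ (S.filter fun t => (t ∩ Y).Nonempty).card = 2}.ncard = 630 ∧ {S : Finset (Finset Cfsg.GolayPt) | S ∈ Cfsg.sextets ∧ (S.filter fun t => (t ∩ Y).Nonempty).card = 3}.ncard = 1120 ∧ ∀ S S' : Finset (Finset Cfsg.GolayPt), S ∈ Cfsg.sextets → S' ∈ Cfsg.sextets → (S.filter fun t => (t ∩ Y).Nonempty).card = (S'.filter fun t => (t ∩ Y).Nonempty).card → ∃ g ∈ Cfsg.M24, g • Y = Y ∧ g • S = S' := by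
  obtain ⟨g, hg, he⟩ := exists_smul_small (t := setOf24 triad0) (by rw [hY, card_setOf24_three]) (by omega)
  have hF := family_eq sextets_invariant sextets_eq_dec triadSex_cover hg
  have hgood : ∀ k, (∃ s ∈ [triadSex1, triadSex2, triadSex3], k ∈ s.keys) →
      (familyCoding 6).good k = true := by
    rintro k ⟨s, hs, hk⟩
    simp only [List.mem_cons, List.not_mem_nil, or_false] at hs
    rcases hs with rfl | rfl | rfl
    · exact good_keys _ triadCert_gensFor triadSex1_ok hk
    · exact good_keys _ triadCert_gensFor triadSex2_ok hk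
    · exact good_keys _ triadCert_gensFor triadSex3_ok hk
  have hlab : ∀ k, (∃ s ∈ [triadSex1, triadSex2, triadSex3], k ∈ s.keys) →
      (((g⁻¹ • (familyCoding 6).dec k)).filter fun t => (t ∩ Y).Nonempty).card = label k := by
    intro k hk
    rw [← card_meeting (hgood k hk), ← Finset.card_smul_finset g]
    congr 1
    ext t
    rw [← Finset.inv_smul_mem_iff, Finset.mem_filter, Finset.mem_filter, ← he,
      Finset.smul_mem_smul_finset_iff]
    rw [show t ∩ g • Y = g • (g⁻¹ • t ∩ Y) by rw [Finset.smul_finset_inter, smul_inv_smul],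
      Finset.smul_finset_nonempty]
  have hh : ∀ {s : OTree} {i : ℕ}, s.allNodes (fun k _ _ _ => label k == i) = true →
      ∀ k ∈ s.keys, label k = i := by
    intro s i h k hk
    obtain ⟨p, q, d, hn⟩ := OTree.mem_keys_iff.1 hk
    exact beq_iff_eq.1 (OTree.of_allNodes h hn)
  have hl : ∀ k, (∃ s' ∈ [triadSex1, triadSex2, triadSex3], k ∈ s'.keys) →
      (k ∈ triadSex1.keys ∧ label k = 1) ∨ (k ∈ triadSex2.keys ∧ label k = 2) ∨
        (k ∈ triadSex3.keys ∧ label k = 3) := by
    rintro k ⟨s, hs, hk⟩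
    simp only [List.mem_cons, List.not_mem_nil, or_false] at hs
    rcases hs with rfl | rfl | rfl
    · exact Or.inl ⟨hk, hh labels.1 k hk⟩
    · exact Or.inr (Or.inl ⟨hk, hh labels.2.1 k hk⟩)
    · exact Or.inr (Or.inr ⟨hk, hh labels.2.2 k hk⟩)
  have hkey : ∀ (i : ℕ) (s : OTree), s ∈ [triadSex1, triadSex2, triadSex3] →
      (∀ k, (∃ s' ∈ [triadSex1, triadSex2, triadSex3], k ∈ s'.keys) → (label k = i ↔ k ∈ s.keys)) →
      {S : Finset (Finset Cfsg.GolayPt) | S ∈ Cfsg.sextets ∧
        (S.filter fun t => (t ∩ Y).Nonempty).card = i} =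
      g⁻¹ • ((familyCoding 6).dec '' {k | k ∈ s.keys}) := by
    intro i s hs hl'
    ext S
    constructor
    · rintro ⟨hS, hc⟩
      rw [hF, Set.mem_smul_set] at hS
      obtain ⟨_, ⟨k, hk, rfl⟩, rfl⟩ := hS
      rw [hlab k hk] at hc
      exact Set.smul_mem_smul_set ⟨k, (hl' k hk).1 hc, rfl⟩
    · rw [Set.mem_smul_set]
      rintro ⟨_, ⟨k, hk, rfl⟩, rfl⟩
      refine ⟨?_, ?_⟩
      · rw [hF]
        exact Set.smul_mem_smul_set ⟨k, ⟨s, hs, hk⟩, rfl⟩
      · rw [hlab k ⟨s, hs, hk⟩]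
        exact (hl' k ⟨s, hs, hk⟩).2 hk
  have c1 : ∀ k, (∃ s' ∈ [triadSex1, triadSex2, triadSex3], k ∈ s'.keys) →
      (label k = 1 ↔ k ∈ triadSex1.keys) := fun k hk => ⟨fun h => by
    rcases hl k hk with h' | h' | h' <;> first | exact h'.1 | omega, hh labels.1 k⟩
  have c2 : ∀ k, (∃ s' ∈ [triadSex1, triadSex2, triadSex3], k ∈ s'.keys) →
      (label k = 2 ↔ k ∈ triadSex2.keys) := fun k hk => ⟨fun h => by
    rcases hl k hk with h' | h' | h' <;> first | exact h'.1 | omega, hh labels.2.1 k⟩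
  have c3 : ∀ k, (∃ s' ∈ [triadSex1, triadSex2, triadSex3], k ∈ s'.keys) →
      (label k = 3 ↔ k ∈ triadSex3.keys) := fun k hk => ⟨fun h => by
    rcases hl k hk with h' | h' | h' <;> first | exact h'.1 | omega, hh labels.2.2 k⟩
  refine ⟨?_, ?_, ?_, ?_⟩
  · rw [hkey 1 triadSex1 (by simp) c1, ← orbit_conj₂ triadCert_stab hg he triadSex1_ok]
    exact ncard_orbit_conj₂ triadCert_stab hg he triadSex1_ok triadSex1_incr triadSex1_length
  · rw [hkey 2 triadSex2 (by simp) c2, ← orbit_conj₂ triadCert_stab hg he triadSex2_ok]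
    exact ncard_orbit_conj₂ triadCert_stab hg he triadSex2_ok triadSex2_incr triadSex2_length
  · rw [hkey 3 triadSex3 (by simp) c3, ← orbit_conj₂ triadCert_stab hg he triadSex3_ok]
    exact ncard_orbit_conj₂ triadCert_stab hg he triadSex3_ok triadSex3_incr triadSex3_length
  · intro S S' hS hS' hc
    rw [hF, Set.mem_smul_set] at hS hS'
    obtain ⟨_, ⟨k, hk, rfl⟩, rfl⟩ := hS
    obtain ⟨_, ⟨k', hk', rfl⟩, rfl⟩ := hS'
    rw [hlab k hk, hlab k' hk'] at hc
    have hsame : ∃ (r : ℕ) (s : OTree),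
        orbOk (familyCoding 6).img (familyCoding 6).good triadCertGens r s = true ∧
        k ∈ s.keys ∧ k' ∈ s.keys := by
      rcases hl k hk with h | h | h
      · exact ⟨_, _, triadSex1_ok, h.1, (c1 k' hk').1 (hc ▸ h.2)⟩
      · exact ⟨_, _, triadSex2_ok, h.1, (c2 k' hk').1 (hc ▸ h.2)⟩
      · exact ⟨_, _, triadSex3_ok, h.1, (c3 k' hk').1 (hc ▸ h.2)⟩
    obtain ⟨r, s, ho, hks, hks'⟩ := hsame
    obtain ⟨σ, hσ, h1⟩ := (orbit_iff _ triadCert_gensFor ho _).2 ⟨k, hks, rfl⟩
    obtain ⟨τ, hτ, h2⟩ := (orbit_iff _ triadCert_gensFor ho _).2 ⟨k', hks', rfl⟩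
    obtain ⟨hρM, hρY⟩ := triadCert_stab.mem_M24_iff'.1 (mul_mem hτ (inv_mem hσ))
    refine ⟨g⁻¹ * (τ * σ⁻¹) * g, mul_mem (mul_mem (inv_mem hg) hρM) hg, ?_, ?_⟩
    · rw [mul_smul _ g Y, he, mul_smul, show (τ * σ⁻¹) • setOf24 triad0 = setOf24 triad0 from hρY,
        ← he, inv_smul_smul]
    · rw [mul_smul _ g, smul_inv_smul, mul_smul, mul_smul, ← h1, inv_smul_smul, h2]

end Cfsg.Agent.S5616
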