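import Cfsg.Statements.S5617
import Cfsg.Agent.Lib.M24Geom.DuumSex
-- import your own Cfsg.Agent.* helpers here

set_option autoImplicit false
open scoped Pointwise
open Cfsg

namespace Cfsg.Agent.S5617

open Cfsg.Agent.Lib.Compute Cfsg.Agent.Lib.GolayOrbit Cfsg.Agent.Lib.M24Geom

/-- The setwise stabiliser, in the group of the length-24 code, of a complementary pair of dodecads has exactly three orbits on the 1771 sextets, of sizes 396, 495 and 880. -/
theorem result (d : Finset Cfsg.GolayPt) (hd : d ∈ Cfsg.dodecads) : ∃ X₁ ∈ Cfsg.sextets, ∃ X₂ ∈ Cfsg.sextets, ∃ X₃ ∈ Cfsg.sextets, (MulAction.orbit ↥(MulAction.stabilizer Cfsg.M24 ({d, Finset.univ \ d} : Finset (Finset Cfsg.GolayPt))) X₁).ncard = 396 ∧ (MulAction.orbit ↥(MulAction.stabilizer Cfsg.M24 ({d, Finset.univ \ d} : Finset (Finset Cfsg.GolayPt))) X₂).ncard = 495 ∧ (MulAction.orbit ↥(MulAction.stabilizer Cfsg.M24 ({d, Finset.univ \ d} : Finset (Finset Cfsg.GolayPt))) X₃).ncard = 880 ∧ Cfsg.sextets = MulAction.orbit ↥(MulAction.stabilizer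 Cfsg.M24 ({d, Finset.univ \ d} : Finset (Finset Cfsg.GolayPt))) X₁ ∪ MulAction.orbit ↥(MulAction.stabilizer Cfsg.M24 ({d, Finset.univ \ d} : Finset (Finset Cfsg.GolayPt))) X₂ ∪ MulAction.orbit ↥(MulAction.stabilizer Cfsg.M24 ({d, Finset.univ \ d} : Finset (Finset Cfsg.GolayPt))) X₃ := by
  obtain ⟨g, hg, he⟩ := exists_to_baseDodecad hd
  have hx : g • ({d, Finset.univ \ d} : Finset (Finset Cfsg.GolayPt)) = (familyCoding 2).dec duum0 := by
    have hu : unpack 2 duum0 = [dod0, dod0 ^^^ 16777215] := by decide +kernel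
    have hc : g • (Finset.univ \ d) = baseDodecadᶜ := by
      ext x
      simp [← he, Finset.mem_compl, ← Finset.inv_smul_mem_iff]
    ext X
    rw [mem_family, hu, Finset.smul_finset_insert, Finset.smul_finset_singleton, he, hc]
    simp only [List.mem_cons, List.not_mem_nil, or_false, exists_eq_or_imp, exists_eq_left,
      setOf24_compl, baseDodecad, Finset.mem_insert, Finset.mem_singleton]
    exact or_congr eq_comm eq_comm
  have hF := family_eq sextets_invariant sextets_eq_dec duumSex_cover hg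
  refine ⟨_, rep_mem hF (by simp) duumSex1_ok, _, rep_mem hF (by simp) duumSex2_ok, _, rep_mem hF (by simp) duumSex3_ok, ncard_orbit_conj₂ duumCert_stab hg hx duumSex1_ok duumSex1_incr duumSex1_length, ncard_orbit_conj₂ duumCert_stab hg hx duumSex2_ok duumSex2_incr duumSex2_length, ncard_orbit_conj₂ duumCert_stab hg hx duumSex3_ok duumSex3_incr duumSex3_length, ?_⟩
  rw [hF, orbit_conj₂ duumCert_stab hg hx duumSex1_ok, orbit_conj₂ duumCert_stab hg hx duumSex2_ok, orbit_conj₂ duumCert_stab hg hx duumSex3_ok]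
  simp only [← Set.smul_set_union, ← Set.image_union]
  congr 2
  ext k
  simp [or_assoc]

end Cfsg.Agent.S5617
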