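import Cfsg.Statements.S5618
import Cfsg.Agent.Lib.M24Geom.Base
import Cfsg.Agent.Lib.M24Geom.SymSix
import Cfsg.Agent.Lib.M24Geom.SixOctads
-- import your own Cfsg.Agent.* helpers here

set_option autoImplicit false
open scoped Pointwise
open Cfsg

namespace Cfsg.Agent.S5618

open Cfsg.Agent.Lib.Compute Cfsg.Agent.Lib.GolayOrbit Cfsg.Agent.Lib.M24Geom

theorem exists_base_hexad {d o : Finset GolayPt} (hd : d ∈ dodecads) (ho : o ∈ octads)
    (h : (o ∩ d).card = 6) :
    ∃ g ∈ M24, g • d = setOf24 dod0 ∧ g • o = setOf24 sixOctRep := by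
  obtain ⟨g, hg, he⟩ := exists_to_baseDodecad hd
  obtain ⟨m, hm, hme⟩ := exists_octad_mask (smul_mem_octads hg ho)
  have h6 : popN (m &&& dod0) = 6 := by
    rw [← card_setOf24_and, hme, show setOf24 dod0 = g • d from he.symm, card_inter_smul, h]
  have hk := List.all_eq_true.1 sixOct_cover m hm
  simp only [h6, beq_self_eq_true, Bool.not_true, Bool.false_or] at hk
  obtain ⟨σ, hσ, hσe⟩ := (orbit_iff maskCoding dodCert_gensFor sixOct_ok _).2
    ⟨m, OTree.mem_keys_of_mem hk, rfl⟩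
  obtain ⟨hσM, hσd⟩ := mem_dodCert.1 (inv_mem hσ)
  refine ⟨σ⁻¹ * g, mul_mem hσM hg, by rw [mul_smul, he, hσd]; rfl, ?_⟩
  rw [mul_smul, ← hme, inv_smul_eq_iff]
  exact hσe.symm

theorem setOf24_sdiff (a b : ℕ) : setOf24 a \ setOf24 b = setOf24 (a &&& (b ^^^ 16777215)) := by
  rw [setOf24_and, setOf24_compl]
  exact sdiff_eq

theorem hexad_facts {d C : Finset GolayPt} (hd : d ∈ dodecads) (hC : C ∈ hexadsOn d) :
    (Nonempty (↥(MulAction.stabilizer M24 d ⊓ MulAction.stabilizer M24 C) ≃* Equiv.Perm (Fin 6)) ∧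
      ∀ x ∈ MulAction.stabilizer M24 d ⊓ MulAction.stabilizer M24 C,
        (∀ p ∈ C, ((x : ↥M24) : Equiv.Perm GolayPt) p = p) → x = 1) ∧
    d \ C ∈ hexadsOn d := by
  obtain ⟨hC6, o, ho, hoC⟩ := hC
  obtain ⟨g, hg, ha, hb⟩ := exists_base_hexad hd ho (by rw [hoC, hC6])
  have hsub : C ⊆ d := hoC ▸ Finset.inter_subset_right
  have hC' : g • C = setOf24 4127 := by
    rw [← hoC, Finset.smul_finset_inter, ha, hb, ← setOf24_and]
    congr 1
  have hkey : ∀ σ ∈ M24, σ • d = d → (σ • C = C ↔ σ • o = o) := by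
    intro σ hσ hσd
    refine ⟨fun h => octad_eq_of_five (smul_mem_octads hσ ho) ho ?_, fun h => by
      rw [← hoC, Finset.smul_finset_inter, h, hσd]⟩
    have hCsub : C ⊆ σ • o ∩ o := by
      rw [Finset.subset_inter_iff]
      exact ⟨by rw [← h, ← hoC, Finset.smul_finset_inter]; exact Finset.inter_subset_left,
        hoC ▸ Finset.inter_subset_left⟩
    have := Finset.card_le_card hCsub
    omega
  have hH : MulAction.stabilizer M24 d ⊓ MulAction.stabilizer M24 C =
      MulAction.stabilizer M24 d ⊓ MulAction.stabilizer M24 o := by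
    ext x
    simp only [Subgroup.mem_inf, MulAction.mem_stabilizer_iff]
    exact and_congr_right fun h => hkey x x.2 h
  rw [hH]
  have hN : Nat.card ↥(MulAction.stabilizer M24 d ⊓ MulAction.stabilizer M24 o) = 720 := by
    have h := card_inf_mul_orbit (x := d) (y := o)
    rw [show o = g⁻¹ • maskCoding.dec sixOctRep from eq_inv_smul_iff.2 hb] at h ⊢
    rw [ncard_orbit_conj₂ dodCert_stab hg ha sixOct_ok sixOct_incr sixOct_length,
      show Nat.card (MulAction.stabilizer M24 d) = 95040 by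
        rw [← card_stabilizer_smul (⟨g, hg⟩ : M24) (x := d) (y := setOf24 dod0) ha]
        exact dodCert_stab.card_stabilizer.trans (by decide +kernel)] at h
    omega
  have h1 : patternCount 24 (fixPts 4127) ([dod0, sixOctRep].map fun m => (m, m)) m24Cert id = 1 := by
    decide +kernel
  have hA := sym_six hg ha hb (s := C) hC' hC6
    (fun σ h h' => by rw [← hoC, Finset.smul_finset_inter, h, h']) hN h1
  refine ⟨hA, by rw [Finset.card_sdiff_of_subset hsub, show d.card = 12 from hd.2, hC6],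
    g⁻¹ • setOf24 (dod0 ^^^ sixOctRep),
    smul_mem_octads (inv_mem hg) (mem_octads_of_mask (by decide +kernel)), ?_⟩
  apply smul_left_cancel g
  rw [Finset.smul_finset_inter, smul_inv_smul, ha, Finset.smul_finset_sdiff, ha, hC',
    setOf24_sdiff, ← setOf24_and]
  congr 1


/-- For a dodecad d of the length-24 code and a hexad C on it (a 6-point intersection of d with an octad): the joint stabiliser of d and C in the code's group is isomorphic to the symmetric group of degree 6, and it acts faithfully both on the six points of C and on the six points of d outside C. -/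
theorem result (d : Finset Cfsg.GolayPt) (hd : d ∈ Cfsg.dodecads) (C : Finset Cfsg.GolayPt) (hC : C ∈ Cfsg.hexadsOn d) : Nonempty (↥(MulAction.stabilizer Cfsg.M24 d ⊓ MulAction.stabilizer Cfsg.M24 C) ≃* Equiv.Perm (Fin 6)) ∧ (∀ g ∈ MulAction.stabilizer Cfsg.M24 d ⊓ MulAction.stabilizer Cfsg.M24 C, (∀ p ∈ C, ((g : ↥Cfsg.M24) : Equiv.Perm Cfsg.GolayPt) p = p) → g = 1) ∧ ∀ g ∈ MulAction.stabilizer Cfsg.M24 d ⊓ MulAction.stabilizer Cfsg.M24 C, (∀ p ∈ d \ C, ((g : ↥Cfsg.M24) : Equiv.Perm Cfsg.GolayPt) p = p) → g = 1 := by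
  obtain ⟨⟨hiso, hf⟩, hC2⟩ := hexad_facts hd hC
  refine ⟨hiso, hf, fun x hx hp => (hexad_facts hd hC2).1.2 x ⟨hx.1, ?_⟩ hp⟩
  show (x : Equiv.Perm Cfsg.GolayPt) • (d \ C) = d \ C
  rw [Finset.smul_finset_sdiff, show (x : Equiv.Perm Cfsg.GolayPt) • d = d from hx.1,
    show (x : Equiv.Perm Cfsg.GolayPt) • C = C from hx.2]

end Cfsg.Agent.S5618
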