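import Cfsg.Statements.S5620
import Cfsg.Agent.Lib.M24Geom.SymSix
import Cfsg.Agent.Lib.M24Geom.Conj
import Cfsg.Agent.Lib.MathieuOut.Perms
import Cfsg.Agent.Lib.Golay.Orbit
-- import your own Cfsg.Agent.* helpers here

set_option autoImplicit false
open scoped Pointwise
open Cfsg

namespace Cfsg.Agent.S5620

open Cfsg.Agent.Lib.Compute Cfsg.Agent.Lib.GolayOrbit Cfsg.Agent.Lib.M24Geom

/-- An element of `M11` moving the extra point. -/
def moverP : ℕ := 0x140016000a0015000b000c00130002000e001100080001000f0007000600040017000d000500090003001200100000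

theorem projInv_square : Cfsg.projInv • Spor.squareDodecad = Finset.univ \ Spor.squareDodecad := by
  decide +kernel

theorem square_facts : (none : GolayPt) ∉ Spor.squareDodecad ∧
    (some 0 : GolayPt) ∈ Spor.squareDodecad := by decide +kernel

theorem mover_ok : elemOk 5 moverP = true ∧ app moverP 0 = 0 ∧ app moverP 23 ≠ 23 := by decide +kernel

theorem mover_square : ∀ p : GolayPt,
    p ∈ Spor.squareDodecad ↔ enc.symm (Fin.ofNat 24 (app moverP (enc p))) ∈ Spor.squareDodecad := by
  decide +kernel

theorem stab_compl {σ : Equiv.Perm GolayPt} :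
    σ • (Finset.univ \ Spor.squareDodecad) = Finset.univ \ Spor.squareDodecad ↔
      σ • Spor.squareDodecad = Spor.squareDodecad := by
  rw [Finset.smul_finset_sdiff, Finset.smul_finset_univ]
  exact ⟨fun h => by simpa using congrArg (Finset.univ \ ·) h, fun h => by rw [h]⟩

theorem conj_M11 :
    MulAut.conj Cfsg.projInv • Spor.M11 =
      Spor.M12 ⊓ MulAction.stabilizer (Equiv.Perm GolayPt) (none : GolayPt) := by
  have hM : projInv ∈ M24 := Cfsg.Agent.Lib.MathieuOut.projInv_mem
  have h0 : projInv (some 0) = none := by decide +kernel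
  ext σ
  rw [Subgroup.mem_pointwise_smul_iff_inv_smul_mem, ← map_inv]
  simp only [Spor.M11, Spor.M12, MulAut.smul_def, MulAut.conj_apply, inv_inv, Subgroup.mem_inf,
    MulAction.mem_stabilizer_iff, mul_smul]
  have hS : projInv • supports (golayCode : Set (GolayPt → ZMod 2)) =
      supports (golayCode : Set (GolayPt → ZMod 2)) := hM
  simp only [inv_smul_eq_iff, hS, projInv_square, stab_compl,
    show projInv • (some 0 : GolayPt) = none from h0]

theorem M11_moves (p : GolayPt) (hp : p ∉ Spor.squareDodecad) : ∃ σ ∈ Spor.M11, σ p ≠ p := by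
  obtain ⟨hok, h0, h23⟩ := mover_ok
  obtain ⟨hv, hm, -⟩ := elemOk_spec (by norm_num) hok
  cases p with
  | none =>
    refine ⟨gperm moverP, ⟨⟨hm, ?_⟩, ?_⟩, ?_⟩
    · refine (smul_eq_iff_forall _ _ _).2 fun q => (mover_square q).trans ?_
      rw [show gperm moverP q = enc.symm (Fin.ofNat 24 (app moverP (enc q))) from
        enc.injective (Fin.ext (by
          rw [gperm_apply hv, Equiv.apply_symm_apply, Fin.val_ofNat,
            Nat.mod_eq_of_lt (app_lt_of_valid hv _)]))]
    · exact enc.injective (Fin.ext ((gperm_apply hv _).trans h0))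
    · intro e
      exact h23 (((gperm_apply hv none).symm.trans
        (congrArg (fun q => ((enc q : Fin 24) : ℕ)) e)))
  | some v =>
    open Cfsg.Agent.Lib.MathieuOut in
    refine ⟨dbl, ⟨⟨dbl_mem, ?_⟩, ?_⟩, ?_⟩
    · show dbl • Spor.squareDodecad = Spor.squareDodecad
      decide +kernel
    · show dbl • (some 0 : GolayPt) = some 0
      rfl
    · have key : ∀ v : ZMod 23, (some v : GolayPt) ∉ Spor.squareDodecad → dbl (some v) ≠ some v := by
        decide +kernel
      exact key v hp


/-- Inside the stabiliser of the dodecad of squares (a Mathieu group of degree 12), the stabiliser of the residue 0 (a point of the dodecad) and the stabiliser of the extra point (a point outside the dodecad) are isomorphic but not conjugate; conjugation by a suitable element of the code's group that maps the dodecad of squares onto its complement carries the first onto the second. -/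
theorem result : Nonempty (↥(Cfsg.Spor.M12 ⊓ MulAction.stabilizer (Equiv.Perm Cfsg.GolayPt) (none : Cfsg.GolayPt)) ≃* ↥Cfsg.Spor.M11) ∧ (¬ ∃ k ∈ Cfsg.Spor.M12, MulAut.conj k • Cfsg.Spor.M11 = Cfsg.Spor.M12 ⊓ MulAction.stabilizer (Equiv.Perm Cfsg.GolayPt) (none : Cfsg.GolayPt)) ∧ ∃ g ∈ Cfsg.M24, g • Cfsg.Spor.squareDodecad = Finset.univ \ Cfsg.Spor.squareDodecad ∧ MulAut.conj g • Cfsg.Spor.M11 = Cfsg.Spor.M12 ⊓ MulAction.stabilizer (Equiv.Perm Cfsg.GolayPt) (none : Cfsg.GolayPt) := by
  refine ⟨⟨((MulEquiv.subgroupMap (MulAut.conj Cfsg.projInv) Cfsg.Spor.M11).trans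
    (MulEquiv.subgroupCongr conj_M11)).symm⟩, ?_, Cfsg.projInv, Cfsg.Agent.Lib.MathieuOut.projInv_mem,
    projInv_square, conj_M11⟩
  rintro ⟨k, hk, he⟩
  have hk0 : k • (some 0 : Cfsg.GolayPt) ∈ Cfsg.Spor.squareDodecad := by
    have := Finset.smul_mem_smul_finset (a := k) square_facts.2
    rwa [show k • Cfsg.Spor.squareDodecad = Cfsg.Spor.squareDodecad from hk.2] at this
  have hfix : ∀ σ ∈ Cfsg.Spor.M11, σ (k⁻¹ none) = k⁻¹ none := by
    intro σ hσ
    have hm : k * σ * k⁻¹ ∈ Cfsg.Spor.M12 ⊓
        MulAction.stabilizer (Equiv.Perm Cfsg.GolayPt) (none : Cfsg.GolayPt) := by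
      rw [← he]
      exact ⟨σ, hσ, rfl⟩
    have h2 : k (σ (k⁻¹ none)) = none := hm.2
    apply k.injective
    rw [h2]
    simp
  obtain ⟨σ, hσ, hne⟩ := M11_moves (k⁻¹ none) fun hmem => by
    have := Finset.smul_mem_smul_finset (a := k) hmem
    rw [show k • Cfsg.Spor.squareDodecad = Cfsg.Spor.squareDodecad from hk.2] at this
    simp [square_facts.1] at this
  exact hne (hfix σ hσ)

end Cfsg.Agent.S5620
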