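import Cfsg.Statements.S5625

set_option autoImplicit false
open Cfsg

namespace Cfsg.Agent.S5625

/-- In any Steiner system S(5, 8, 24) and for any set Y of three points, the blocks meeting Y in exactly 3, 2, 1 and 0 points number 21, 168, 360 and 210 respectively (so there are 759 blocks in all). -/
theorem result (α : Type*) [Fintype α] [DecidableEq α] (hα : Fintype.card α = 24) (B : Set (Finset α)) (hB : Cfsg.IsSteinerSystem 5 8 B) (Y : Finset α) (hY : Y.card = 3) : {b : Finset α | b ∈ B ∧ (b ∩ Y).card = 3}.ncard = 21 ∧ {b : Finset α | b ∈ B ∧ (b ∩ Y).card = 2}.ncard = 168 ∧ {b : Finset α | b ∈ B ∧ (b ∩ Y).card = 1}.ncard = 360 ∧ {b : Finset α | b ∈ B ∧ (b ∩ Y).card = 0}.ncard = 210 := by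
  classical
  obtain ⟨hk, hu⟩ := hB
  set Bf : Finset (Finset α) := Finset.univ.filter (fun b => b ∈ B) with hBf
  have conv : ∀ P : Finset α → Prop, {b : Finset α | b ∈ B ∧ P b}.ncard = (Bf.filter P).card := by
    intro P
    rw [← Set.ncard_coe_finset]
    congr 1
    ext b; simp [hBf]
  simp only [conv]
  -- counting blocks through a small set
  have cont : ∀ (u s : Finset α) (n : ℕ), s ⊆ u → s.card ≤ n →
      ((u.powersetCard n).filter (fun T => s ⊆ T)).card = (u.card - s.card).choose (n - s.card) := by
    intro u s n hsu hn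
    rw [← Finset.card_sdiff_of_subset hsu, ← Finset.card_powersetCard]
    refine Finset.card_bij' (fun T _ => T \ s) (fun R _ => R ∪ s) ?_ ?_ ?_ ?_
    · intro T hT
      simp only [Finset.mem_filter, Finset.mem_powersetCard] at hT ⊢
      exact ⟨Finset.sdiff_subset_sdiff hT.1.1 le_rfl, by rw [Finset.card_sdiff_of_subset hT.2, hT.1.2]⟩
    · intro R hR
      simp only [Finset.mem_filter, Finset.mem_powersetCard] at hR ⊢
      have hd : Disjoint R s := Finset.disjoint_sdiff.symm.mono_left hR.1
      refine ⟨⟨Finset.union_subset (hR.1.trans Finset.sdiff_subset) hsu, ?_⟩, Finset.subset_union_right⟩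
      rw [Finset.card_union_of_disjoint hd, hR.2]; omega
    · intro T hT
      simp only [Finset.mem_filter] at hT
      exact Finset.sdiff_union_of_subset hT.2
    · intro R hR
      simp only [Finset.mem_powersetCard] at hR
      exact (Finset.union_sdiff_right R s).trans
        (Finset.sdiff_eq_self_of_disjoint (Finset.disjoint_sdiff.symm.mono_left hR.1))
  have lam : ∀ s : Finset α, s.card ≤ 5 →
      (Bf.filter (fun b => s ⊆ b)).card * (8 - s.card).choose (5 - s.card) =
        (24 - s.card).choose (5 - s.card) := by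
    intro s hs
    have hT := cont Finset.univ s 5 (Finset.subset_univ s) hs
    rw [Finset.card_univ, hα] at hT
    rw [← hT]
    have hdc := Finset.sum_card_bipartiteAbove_eq_sum_card_bipartiteBelow
      (s := Bf.filter (fun b => s ⊆ b))
      (t := (Finset.univ.powersetCard 5).filter (fun T => s ⊆ T))
      (fun (b T : Finset α) => T ⊆ b)
    rw [Finset.card_eq_sum_ones ((Finset.univ.powersetCard 5).filter (fun T => s ⊆ T))]
    have h1 : ∀ b ∈ Bf.filter (fun b => s ⊆ b), (((Finset.univ.powersetCard 5).filter
        (fun T => s ⊆ T)).bipartiteAbove (fun (b T : Finset α) => T ⊆ b) b).card =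
        (8 - s.card).choose (5 - s.card) := by
      intro b hb
      simp only [hBf, Finset.mem_filter, Finset.mem_univ, true_and] at hb
      rw [← hk b hb.1, ← cont b s 5 hb.2 hs]
      congr 1
      ext T
      simp [Finset.bipartiteAbove, Finset.mem_powersetCard]
      tauto
    rw [Finset.sum_congr rfl h1, Finset.sum_const, smul_eq_mul] at hdc
    rw [hdc]
    refine Finset.sum_congr rfl fun T hT => ?_
    simp only [Finset.mem_filter, Finset.mem_powersetCard] at hT
    obtain ⟨b, hb, hbu⟩ := hu T hT.1.2
    rw [Finset.card_eq_one]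
    refine ⟨b, ?_⟩
    ext b'
    simp only [Finset.bipartiteBelow, hBf, Finset.mem_filter, Finset.mem_univ, true_and,
      Finset.mem_singleton]
    exact ⟨fun h => hbu b' ⟨h.1.1, h.2⟩, fun h => h ▸ ⟨⟨hb.1, hT.2.trans hb.2⟩, hb.2⟩⟩
  -- moments of the intersection sizes
  have mom : ∀ j, j ≤ 3 → (∑ b ∈ Bf, (b ∩ Y).card.choose j) * (8 - j).choose (5 - j) =
      Nat.choose 3 j * (24 - j).choose (5 - j) := by
    intro j hj
    have hdc := Finset.sum_card_bipartiteAbove_eq_sum_card_bipartiteBelow
      (s := Bf) (t := Y.powersetCard j) (fun (b s : Finset α) => s ⊆ b)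
    have h1 : ∀ b ∈ Bf, ((Y.powersetCard j).bipartiteAbove
        (fun (b s : Finset α) => s ⊆ b) b).card = (b ∩ Y).card.choose j := by
      intro b _
      rw [← Finset.card_powersetCard]
      congr 1
      ext s
      simp [Finset.bipartiteAbove, Finset.mem_powersetCard, Finset.subset_inter_iff]
      tauto
    rw [← Finset.sum_congr rfl h1, hdc, Finset.sum_mul]
    have h2 : ∀ s ∈ Y.powersetCard j, (Bf.bipartiteBelow (fun (b s : Finset α) => s ⊆ b) s).card *
        (8 - j).choose (5 - j) = (24 - j).choose (5 - j) := by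
      intro s hs
      simp only [Finset.mem_powersetCard] at hs
      rw [← hs.2]
      exact lam s (by omega)
    rw [Finset.sum_congr rfl h2, Finset.sum_const, Finset.card_powersetCard, hY, smul_eq_mul]
  have fib : ∀ j, (∑ b ∈ Bf, (b ∩ Y).card.choose j) =
      ∑ i ∈ Finset.range 4, (Bf.filter (fun b => (b ∩ Y).card = i)).card * i.choose j := by
    intro j
    rw [← Finset.sum_fiberwise_of_maps_to (g := fun b => (b ∩ Y).card) (t := Finset.range 4)]
    · refine Finset.sum_congr rfl fun i _ => ?_
      rw [Finset.card_eq_sum_ones, Finset.sum_mul, one_mul]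
      refine Finset.sum_congr rfl fun b hb => ?_
      rw [(Finset.mem_filter.1 hb).2]
    · intro b _
      simp only [Finset.mem_range]
      have := (Finset.card_le_card (Finset.inter_subset_right : b ∩ Y ⊆ Y))
      omega
  have m0 := mom 0 (by omega)
  have m1 := mom 1 (by omega)
  have m2 := mom 2 (by omega)
  have m3 := mom 3 (by omega)
  simp only [fib, Finset.sum_range_succ, Finset.sum_range_zero] at m0 m1 m2 m3
  norm_num [Nat.choose] at m0 m1 m2 m3
  simp only [← Finset.card_eq_zero] at m0
  refine ⟨?_, ?_, ?_, ?_⟩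
  · have : (Bf.filter (fun b => (b ∩ Y).card = 3)).card = 21 := by omega
    convert this
  · have : (Bf.filter (fun b => (b ∩ Y).card = 2)).card = 168 := by omega
    convert this
  · have : (Bf.filter (fun b => (b ∩ Y).card = 1)).card = 360 := by omega
    convert this
  · have : (Bf.filter (fun b => (b ∩ Y).card = 0)).card = 210 := by omega
    convert this

end Cfsg.Agent.S5625
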