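import Cfsg.Statements.S5631
import Cfsg.Agent.Lib.MaxSub.Transvec
-- import your own Cfsg.Agent.* helpers here

set_option autoImplicit false
open Cfsg

namespace Cfsg.Agent.S5631

open Cfsg.Agent.Lib.MaxSub Matrix
open scoped Matrix

/-- For a finite field F and n ≥ 13, the stabiliser in SL_n(F) of any proper non-zero subspace W of F^n is a maximal subgroup of SL_n(F). Here SL_n(F) is the kernel of the determinant inside GL_n(F) and the stabiliser is the set of elements of determinant one mapping W onto itself. -/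
theorem result {F : Type*} [Field F] [Fintype F] (n : ℕ) (hn : 13 ≤ n) (W : Submodule F (Fin n → F)) (hW0 : W ≠ ⊥) (hW1 : W ≠ ⊤) : Cfsg.Geo.IsMaximalIn (Cfsg.Geo.specialLinear (Fin n) F) (Cfsg.Geo.subspaceStabilizer W ⊓ Cfsg.Geo.specialLinear (Fin n) F) := by
  obtain ⟨w₁, hw₁, hw₁0⟩ := (Submodule.ne_bot_iff W).mp hW0
  obtain ⟨x₁, hx₁⟩ : ∃ x, x ∉ W := by
    by_contra hc
    push Not at hc
    exact hW1 (Submodule.eq_top_iff'.mpr hc)
  refine ⟨lt_of_le_of_ne inf_le_right ?_, ?_⟩
  · intro h
    obtain ⟨a, ha, haw⟩ := exists_functional (F ∙ x₁) (x := w₁) (by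
      intro hw'
      obtain ⟨c, hc⟩ := Submodule.mem_span_singleton.mp hw'
      rcases eq_or_ne c 0 with rfl | hc0
      · exact hw₁0 (by simpa using hc.symm)
      · exact hx₁ (by simpa [← hc, hc0] using W.smul_mem c⁻¹ hw₁))
    have hmem := tv_mem_specialLinear x₁ a (ha x₁ (Submodule.mem_span_singleton_self x₁))
    rw [← h] at hmem
    have h1 := subspaceStabilizer_apply hmem.1 hw₁
    rw [tv_mulVec, haw, one_smul] at h1
    exact hx₁ ((Submodule.add_mem_iff_right W hw₁).mp h1)
  intro M hle hMS
  by_cases hMW : M ≤ Cfsg.Geo.subspaceStabilizer W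
  · exact Or.inl (le_antisymm (le_inf hMW hMS) hle)
  right
  refine le_antisymm hMS (specialLinear_le_of_fullAt ?_)
  obtain ⟨g, hgM, hg⟩ := SetLike.not_le_iff_exists.mp hMW
  -- transvections centred in W, or killing W
  have h1 : ∀ v a : Fin n → F, a ⬝ᵥ v = 0 → (v ∈ W ∨ ∀ w ∈ W, a ⬝ᵥ w = 0) → InK M v a := by
    intro v a h hor
    refine ⟨h, hle ⟨mem_subspaceStabilizer fun w hw => ?_, tv_mem_specialLinear v a h⟩⟩
    rw [tv_mulVec]
    rcases hor with hv | ha
    · exact W.add_mem hw (W.smul_mem _ hv)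
    · rw [ha w hw, zero_smul, add_zero]; exact hw
  have hW : ∀ v ∈ W, FullAt M v := fun v hv a ha => h1 v a ha (Or.inl hv)
  have hmove : ∀ u x : Fin n → F, FullAt M u → ∀ a : Fin n → F, a ⬝ᵥ x = 0 → a ⬝ᵥ u ≠ 0 →
      InK M x a → FullAt M (u + (a ⬝ᵥ u) • x) := by
    intro u x hu a ha hau ⟨h', hk⟩
    have := hu.conj hk
    rwa [tv_mulVec] at this
  -- the full centres form a subspace
  let S : Submodule F (Fin n → F) :=
    { carrier := {v | FullAt M v}
      zero_mem' := fun a ha => h1 0 a ha (Or.inl W.zero_mem)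
      add_mem' := by
        intro v w hv hw
        show FullAt M (v + w)
        by_cases hdep : w ∈ F ∙ v
        · obtain ⟨c, rfl⟩ := Submodule.mem_span_singleton.mp hdep
          rw [show v + c • v = (1 + c) • v by rw [add_smul, one_smul]]
          exact hv.smul _
        · obtain ⟨a, ha, haw⟩ := exists_functional (F ∙ v) hdep
          have hav := ha v (Submodule.mem_span_singleton_self v)
          have := hmove w v hw a hav (by rw [haw]; exact one_ne_zero) (hv a hav)
          rwa [haw, one_smul, add_comm] at this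
      smul_mem' := fun c v hv => hv.smul c }
  obtain ⟨w₀, hw₀, hgw₀⟩ : ∃ w ∈ W, (g : Matrix (Fin n) (Fin n) F) *ᵥ w ∉ W := by
    by_contra hc
    push Not at hc
    exact hg (mem_subspaceStabilizer hc)
  set u := (g : Matrix (Fin n) (Fin n) F) *ᵥ w₀
  have huS : u ∈ S := (hW w₀ hw₀).conj hgM
  intro x
  by_cases hx : x ∈ W ⊔ F ∙ u
  · exact (sup_le (fun v hv => hW v hv) ((Submodule.span_singleton_le_iff_mem u S).mpr huS) : W ⊔ F ∙ u ≤ S) hx
  · -- move u to x
    obtain ⟨a, ha, hau⟩ := exists_functional (W ⊔ F ∙ (x - u)) (x := u) (by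
      intro hmem
      obtain ⟨w, hw, z, hz, hwz⟩ := Submodule.mem_sup.mp hmem
      obtain ⟨c, rfl⟩ := Submodule.mem_span_singleton.mp hz
      rcases eq_or_ne c 0 with rfl | hc
      · exact hgw₀ (by rw [zero_smul, add_zero] at hwz; exact hwz ▸ hw)
      · refine hx ?_
        have : x = c⁻¹ • (u - w) + u := by
          rw [show u - w = c • (x - u) by rw [eq_sub_iff_add_eq.mpr hwz] <;> abel, smul_smul,
            inv_mul_cancel₀ hc, one_smul, sub_add_cancel]
        rw [this]
        exact Submodule.add_mem _ (Submodule.smul_mem _ _ (Submodule.sub_mem _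
          (Submodule.mem_sup_right (Submodule.mem_span_singleton_self u)) (Submodule.mem_sup_left hw)))
          (Submodule.mem_sup_right (Submodule.mem_span_singleton_self u)))
    have hax := ha (x - u) (Submodule.mem_sup_right (Submodule.mem_span_singleton_self _))
    have := hmove u (x - u) huS a hax (by rw [hau]; exact one_ne_zero)
      (h1 _ a hax (Or.inr fun w hw => ha w (Submodule.mem_sup_left hw)))
    rwa [hau, one_smul, add_sub_cancel] at this

end Cfsg.Agent.S5631
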