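import Cfsg.Statements.S5632
import Cfsg.Agent.Lib.MaxSub.Transvec
-- import your own Cfsg.Agent.* helpers here

set_option autoImplicit false
open Cfsg

namespace Cfsg.Agent.S5632

open Cfsg.Agent.Lib.MaxSub Matrix
open scoped Matrix

/-- For a finite field F and subspaces 0 < W < U of F^n with dim W + dim U = n, the elements of SL_n(F) stabilising both W and U form a subgroup that is not maximal in SL_n(F): some subgroup lies strictly between it and SL_n(F). -/
theorem result {F : Type*} [Field F] [Fintype F] (n : ℕ) (W U : Submodule F (Fin n → F)) (hW0 : W ≠ ⊥) (hWU : W < U) (hdim : Module.finrank F W + Module.finrank F U = n) : ∃ K : Subgroup (Matrix.GeneralLinearGroup (Fin n) F), Cfsg.Geo.subspaceStabilizer W ⊓ Cfsg.Geo.subspaceStabilizer U ⊓ Cfsg.Geo.specialLinear (Fin n) F < K ∧ K < Cfsg.Geo.specialLinear (Fin n) F := by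
  refine ⟨Cfsg.Geo.subspaceStabilizer W ⊓ Cfsg.Geo.specialLinear (Fin n) F,
    lt_of_le_of_ne (inf_le_inf_right _ inf_le_left) ?_, lt_of_le_of_ne inf_le_right ?_⟩
  · intro h
    obtain ⟨u, huU, huW⟩ := SetLike.exists_of_lt hWU
    obtain ⟨v, hv⟩ : ∃ v, v ∉ U := by
      by_contra hc
      push Not at hc
      have hU : U = ⊤ := Submodule.eq_top_iff'.mpr hc
      rw [hU, finrank_top, Module.finrank_fin_fun] at hdim
      exact hW0 (Submodule.finrank_eq_zero.mp (by omega))
    obtain ⟨a, ha, hau⟩ := exists_functional (W ⊔ F ∙ v) (x := u) (by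
      intro hu
      obtain ⟨w, hw, z, hz, hwz⟩ := Submodule.mem_sup.mp hu
      obtain ⟨c, rfl⟩ := Submodule.mem_span_singleton.mp hz
      rcases eq_or_ne c 0 with rfl | hc
      · exact huW (by rw [zero_smul, add_zero] at hwz; exact hwz ▸ hw)
      · refine hv ?_
        have h1 : c • v ∈ U := by
          rw [show c • v = u - w by rw [← hwz]; abel]
          exact U.sub_mem huU (hWU.le hw)
        simpa [hc] using U.smul_mem c⁻¹ h1)
    have hav : a ⬝ᵥ v = 0 := ha v (Submodule.mem_sup_right (Submodule.mem_span_singleton_self v))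
    have hmem : tv v a hav ∈ Cfsg.Geo.subspaceStabilizer W ⊓ Cfsg.Geo.specialLinear (Fin n) F :=
      ⟨mem_subspaceStabilizer fun w hw => by
        rw [tv_mulVec, ha w (Submodule.mem_sup_left hw), zero_smul, add_zero]; exact hw,
        tv_mem_specialLinear v a hav⟩
    rw [← h] at hmem
    have h1 := subspaceStabilizer_apply hmem.1.2 huU
    rw [tv_mulVec, hau, one_smul] at h1
    exact hv ((Submodule.add_mem_iff_right U huU).mp h1)
  · intro h
    obtain ⟨w, hw, hw0⟩ := (Submodule.ne_bot_iff W).mp hW0
    obtain ⟨u, huU, huW⟩ := SetLike.exists_of_lt hWU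
    obtain ⟨a, ha, haw⟩ := exists_functional (F ∙ u) (x := w) (by
      intro hw'
      obtain ⟨c, hc⟩ := Submodule.mem_span_singleton.mp hw'
      rcases eq_or_ne c 0 with rfl | hc0
      · exact hw0 (by simpa using hc.symm)
      · exact huW (by simpa [← hc, hc0] using W.smul_mem c⁻¹ hw))
    have hau : a ⬝ᵥ u = 0 := ha u (Submodule.mem_span_singleton_self u)
    have hmem := tv_mem_specialLinear u a hau
    rw [← h] at hmem
    have h1 := subspaceStabilizer_apply hmem.1 hw
    rw [tv_mulVec, haw, one_smul] at h1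
    exact huW ((Submodule.add_mem_iff_right W hw).mp h1)

end Cfsg.Agent.S5632
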