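import Cfsg.Statements.S5633
import Cfsg.Agent.Lib.MaxSub.Transvec
-- import your own Cfsg.Agent.* helpers here

set_option autoImplicit false
open Cfsg

namespace Cfsg.Agent.S5633

open Cfsg.Agent.Lib.MaxSub Matrix
open scoped Matrix

/-- For a finite field F and complementary non-zero subspaces W ⊕ U = F^n with dim W < dim U, the elements of SL_n(F) stabilising both W and U form a subgroup that is not maximal in SL_n(F): some subgroup lies strictly between it and SL_n(F). -/
theorem result {F : Type*} [Field F] [Fintype F] (n : ℕ) (W U : Submodule F (Fin n → F)) (hW0 : W ≠ ⊥) (hWU : W ⊓ U = ⊥) (hWU' : W ⊔ U = ⊤) (hdim : Module.finrank F W < Module.finrank F U) : ∃ K : Subgroup (Matrix.GeneralLinearGroup (Fin n) F), Cfsg.Geo.subspaceStabilizer W ⊓ Cfsg.Geo.subspaceStabilizer U ⊓ Cfsg.Geo.specialLinear (Fin n) F < K ∧ K < Cfsg.Geo.specialLinear (Fin n) F := by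
  refine ⟨Cfsg.Geo.subspaceStabilizer W ⊓ Cfsg.Geo.specialLinear (Fin n) F,
    lt_of_le_of_ne (inf_le_inf_right _ inf_le_left) ?_, lt_of_le_of_ne inf_le_right ?_⟩
  all_goals
    have hU0 : U ≠ ⊥ := fun h => by rw [h, finrank_bot] at hdim; omega
    obtain ⟨u, hu, hu0⟩ := (Submodule.ne_bot_iff U).mp hU0
    obtain ⟨w, hw, hw0⟩ := (Submodule.ne_bot_iff W).mp hW0
    have huW : u ∉ W := fun h => hu0 (by simpa [hWU] using (show u ∈ W ⊓ U from ⟨h, hu⟩))
    have hwU : w ∉ U := fun h => hw0 (by simpa [hWU] using (show w ∈ W ⊓ U from ⟨hw, h⟩))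
    intro h
  · obtain ⟨a, ha, hau⟩ := exists_functional W huW
    have hmem : tv w a (ha w hw) ∈ Cfsg.Geo.subspaceStabilizer W ⊓ Cfsg.Geo.specialLinear (Fin n) F :=
      ⟨mem_subspaceStabilizer fun z hz => by
        rw [tv_mulVec, ha z hz, zero_smul, add_zero]; exact hz, tv_mem_specialLinear w a (ha w hw)⟩
    rw [← h] at hmem
    have h1 := subspaceStabilizer_apply hmem.1.2 hu
    rw [tv_mulVec, hau, one_smul] at h1
    exact hwU ((Submodule.add_mem_iff_right U hu).mp h1)
  · obtain ⟨a, ha, haw⟩ := exists_functional U hwU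
    have hmem := tv_mem_specialLinear u a (ha u hu)
    rw [← h] at hmem
    have h1 := subspaceStabilizer_apply hmem.1 hw
    rw [tv_mulVec, haw, one_smul] at h1
    exact huW ((Submodule.add_mem_iff_right W hw).mp h1)

end Cfsg.Agent.S5633
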