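import Cfsg.Statements.S5634
import Cfsg.Agent.Lib.ThreeTransp.DecompMaxBlock
import Cfsg.Agent.Lib.ThreeTransp.DecompMaxAxis
import Cfsg.Agent.Lib.MaxSub.DecompAux

set_option autoImplicit false
open Cfsg

namespace Cfsg.Agent.S5634

open Cfsg.Agent.Lib.MaxSub Cfsg.Agent.Lib.ThreeTransp.DecompMax Matrix
open scoped MatrixGroups Matrix

/-- For a finite field F with q elements and n ≥ 13, let D be a decomposition of F^n into t ≥ 2 independent subspaces of equal dimension m ≥ 1 spanning F^n. Unless m = 1 and q ≤ 4, or m = 2 and q = 2, the elements of SL_n(F) permuting the members of D form a maximal subgroup of SL_n(F). -/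
theorem result {F : Type*} [Field F] [Fintype F] (n : ℕ) (hn : 13 ≤ n) {t : ℕ} (m : ℕ) (D : Fin t → Submodule F (Fin n → F)) (hD : Cfsg.Geo.IsMDecomposition m D) (h1 : ¬ (m = 1 ∧ Fintype.card F ≤ 4)) (h2 : ¬ (m = 2 ∧ Fintype.card F = 2)) : Cfsg.Geo.IsMaximalIn (Cfsg.Geo.specialLinear (Fin n) F) (Cfsg.Geo.decompositionStabilizer D ⊓ Cfsg.Geo.specialLinear (Fin n) F) := by
  classical
  have hcard : n = t * m := by simpa using DecompAux.card_eq_mul hD
  have hint := DirectSum.isInternal_submodule_of_iSupIndep_of_iSup_eq_top hD.indep hD.iSup_eq_top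
  let v := fun i => Module.finBasisOfFinrankEq F (D i) (hD.finrank_eq i)
  let bs := hint.collectedBasis v
  let e : Fin n ≃ Fin t × Fin m := (finCongr hcard).trans finProdFinEquiv.symm
  let f : Fin n → Fin t := fun p => (e p).1
  let b := bs.reindex ((Equiv.sigmaEquivProd (Fin t) (Fin m)).trans e.symm)
  have hbD : ∀ q, b q ∈ D (f q) := fun q => by
    rw [Module.Basis.reindex_apply]
    exact hint.collectedBasis_mem v (((Equiv.sigmaEquivProd (Fin t) (Fin m)).trans e.symm).symm q)
  have hrepr : ∀ i, ∀ x ∈ D i, ∀ q, f q ≠ i → b.repr x q = 0 := fun i x hx q hq => by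
    rw [Module.Basis.repr_reindex_apply]
    exact hint.collectedBasis_repr_of_mem_ne v (Ne.symm hq) hx
  have hPu : IsUnit (Matrix.of fun p q => b q p) :=
    Matrix.linearIndependent_cols_iff_isUnit.mp b.linearIndependent
  set P : GL (Fin n) F := hPu.unit
  have hP : ∀ y, P.val *ᵥ y = ∑ q, y q • b q := fun y => by
    funext p
    simp [P, Matrix.mulVec, dotProduct, Finset.sum_apply, mul_comm]
  have hsupp : ∀ i, ∀ x ∈ D i, Supp f i ((P⁻¹).val *ᵥ x) := fun i x hx => by
    have h : (P⁻¹).val *ᵥ x = b.repr x := by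
      refine val_mulVec_injective P ?_
      show P.val *ᵥ _ = P.val *ᵥ _
      rw [val_mulVec_inv, hP, b.sum_repr]
    rw [h]
    exact fun q hq => hrepr i x hx q hq
  have hmem : ∀ i y, Supp f i y → P.val *ᵥ y ∈ D i := fun i y hy => by
    rw [hP]
    refine Submodule.sum_mem _ fun q _ => ?_
    by_cases hq : f q = i
    · exact (D i).smul_mem _ (hq ▸ hbD q)
    · rw [hy q hq, zero_smul]; exact (D i).zero_mem
  -- elements permuting the coordinate blocks
  have hstab : ∀ g : GL (Fin n) F, Blk f g → P * g * P⁻¹ ∈ Cfsg.Geo.decompositionStabilizer D := by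
    rintro g ⟨σ, hσ⟩
    have hinj : Function.Injective (Matrix.toLin' (P * g * P⁻¹).val) := fun x y h => by
      simp only [Matrix.toLin'_apply] at h
      exact val_mulVec_injective _ h
    refine ⟨σ, fun i => Submodule.eq_of_le_of_finrank_eq ?_ (by
      rw [← (Submodule.equivMapOfInjective _ hinj _).finrank_eq, hD.finrank_eq, hD.finrank_eq])⟩
    rintro _ ⟨x, hx, rfl⟩
    rw [Matrix.toLin'_apply, Units.val_mul, Units.val_mul, ← Matrix.mulVec_mulVec, ← Matrix.mulVec_mulVec]
    refine hmem _ _ fun p hp => ?_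
    rw [Matrix.mulVec, dotProduct]
    refine Finset.sum_eq_zero fun q _ => ?_
    show g.val p q * _ = 0
    by_cases hq : f q = i
    · rw [show g.val p q = 0 from not_not.mp fun h => hp (by rw [hσ p q h, hq]), zero_mul]
    · rw [hsupp i x hx q hq, mul_zero]
  have hdetP : ∀ g : GL (Fin n) F, (P * g * P⁻¹).val.det = g.val.det := fun g => by
    rw [Units.val_mul, Units.val_mul, Matrix.det_units_conj]
  -- properness
  have hproper : ∃ g ∈ Cfsg.Geo.specialLinear (Fin n) F, g ∉ Cfsg.Geo.decompositionStabilizer D := by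
    have ht := hD.two_le
    have hm := hD.pos
    obtain ⟨p, q, hpq⟩ : ∃ p q, f p ≠ f q :=
      ⟨e.symm (⟨0, by omega⟩, ⟨0, hm⟩), e.symm (⟨1, by omega⟩, ⟨0, hm⟩), by simp [f]⟩
    have hne : p ≠ q := fun h => hpq (h ▸ rfl)
    let T := tv (Pi.single p (1 : F)) (Pi.single q 1) (by simp [hne.symm])
    refine ⟨P * T * P⁻¹, mem_sl_of_det (by rw [hdetP]; exact det_of_mem_sl (tv_mem_specialLinear _ _ _)), ?_⟩
    rintro ⟨σ, hσ⟩
    have h1 : (P * T * P⁻¹).val *ᵥ (P.val *ᵥ Pi.single q 1) ∈ D (σ (f q)) :=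
      hσ _ ▸ ⟨_, hmem _ _ (supp_single f q 1), Matrix.toLin'_apply _ _⟩
    have h2 := hsupp _ _ h1
    rw [Matrix.mulVec_mulVec, Matrix.mulVec_mulVec, ← Units.val_mul, ← Units.val_mul,
      show P⁻¹ * (P * T * P⁻¹) * P = T by group, show T.val *ᵥ Pi.single q 1 = _ from tv_mulVec _ _ _ _] at h2
    have h3 : f q = σ (f q) := not_not.mp fun h => by simpa [hne.symm] using h2 q h
    have h4 : f p = σ (f q) := not_not.mp fun h => by simpa [hne] using h2 p h
    exact hpq (h4.trans h3.symm)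
  refine ⟨lt_of_le_of_ne inf_le_right fun h => ?_, fun M hM hMS => ?_⟩
  · obtain ⟨g, hg, hg'⟩ := hproper
    exact hg' (h ▸ hg).1
  by_cases hMD : M ≤ Cfsg.Geo.decompositionStabilizer D
  · exact Or.inl (le_antisymm (le_inf hMD hMS) hM)
  right
  obtain ⟨g, hgM, hgD⟩ := SetLike.not_le_iff_exists.mp hMD
  let K := M.comap (MulAut.conj P).toMonoidHom
  have hKmem : ∀ x, x ∈ K ↔ P * x * P⁻¹ ∈ M := fun x => Iff.rfl
  have hK : ∀ x : GL (Fin n) F, x.val.det = 1 → Blk f x → x ∈ K := fun x hx hb =>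
    (hKmem x).mpr (hM ⟨hstab x hb, mem_sl_of_det (by rw [hdetP, hx])⟩)
  have hgK : P⁻¹ * g * P ∈ K := by
    rw [hKmem, show P * (P⁻¹ * g * P) * P⁻¹ = g by group]
    exact hgM
  have hgb : ¬ Blk f (P⁻¹ * g * P) := fun h => hgD (by
    simpa [show P * (P⁻¹ * g * P) * P⁻¹ = g by group] using hstab _ h)
  suffices hle : Cfsg.Geo.specialLinear (Fin n) F ≤ K by
    refine le_antisymm hMS fun x hx => ?_
    have h := (hKmem _).mp (hle (show P⁻¹ * x * P ∈ Cfsg.Geo.specialLinear (Fin n) F from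
      mem_sl_of_det (by rw [Units.val_mul, Units.val_mul, Matrix.det_units_conj', det_of_mem_sl hx])))
    rwa [show P * (P⁻¹ * x * P) * P⁻¹ = x by group] at h
  by_cases hm1 : m = 1
  · subst hm1
    have hq5 : 5 ≤ Fintype.card F := by
      by_contra h
      exact h1 ⟨rfl, by omega⟩
    obtain ⟨c, hc⟩ := IsCyclic.exists_ofOrder_eq_natCard (α := Fˣ)
    rw [Nat.card_units, Nat.card_eq_fintype_card] at hc
    have hpow : ∀ k, 0 < k → k < 4 → (c : F) ^ k ≠ 1 := fun k hk hk' h => by
      have h0 : c ^ k = 1 := Units.ext (by rw [Units.val_pow_eq_pow_val, h, Units.val_one])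
      have := Nat.le_of_dvd hk (orderOf_dvd_of_pow_eq_one h0)
      omega
    have hmono : ∀ x : GL (Fin n) F, Mono x → Blk f x := fun x hx => by
      obtain ⟨σ, hσ, -⟩ := hx.exists_perm
      let ψ : Fin n ≃ Fin t := e.trans (Equiv.prodUnique _ _)
      refine ⟨ψ.symm.trans (σ.trans ψ), fun p q hpq => ?_⟩
      have hψ : ∀ r, f r = ψ r := fun r => by simp [f, ψ]
      simp [hψ, hσ p q hpq]
    refine line_core (fun x hx hb => hK x hx (hmono x hb)) (by simpa using hn) c.ne_zero (hpow 2 (by omega) (by omega))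
      (hpow 3 (by omega) (by omega)) (fun S hS => ?_) (fun x hx => ?_) hgK fun h => hgb (hmono _ h)
    · obtain ⟨a, -, ha⟩ := Finset.exists_mem_notMem_of_card_lt_card (s := S) (t := Finset.univ)
        (by rw [Finset.card_univ]; omega)
      exact ⟨a, ha⟩
    · rw [← hdetP]
      exact det_of_mem_sl (hMS ((hKmem x).mp hx))
  · have hm2 : 2 ≤ m := by have := hD.pos; omega
    refine block_core e (fun _ => rfl) hm2 hK (fun hm => ?_) (by simpa using hn) _ hgK hgb
    obtain ⟨δ, -, hδ⟩ := Finset.exists_mem_notMem_of_card_lt_card (s := ({0, 1} : Finset F)) (t := Finset.univ) (by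
      have h2q := Fintype.one_lt_card (α := F)
      have : Fintype.card F ≠ 2 := fun h => h2 ⟨hm, h⟩
      have := Finset.card_le_two (a := (0 : F)) (b := 1)
      rw [Finset.card_univ]
      omega)
    simp only [Finset.mem_insert, Finset.mem_singleton, not_or] at hδ
    exact ⟨δ, hδ⟩

end Cfsg.Agent.S5634
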