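import Cfsg.Statements.S5635
import Cfsg.Agent.Lib.MaxSub.Transvec
import Cfsg.Agent.Lib.MaxSub.DecompAux

set_option autoImplicit false
open Cfsg

namespace Cfsg.Agent.S5635

open Cfsg.Agent.Lib.MaxSub Matrix
open scoped MatrixGroups Matrix

variable {F : Type*} [Field F] {ι : Type} [Fintype ι] [DecidableEq ι]

set_option maxHeartbeats 800000 in
/-- Coordinates adapted to a decomposition. -/
theorem exists_coord {t m : ℕ} {D : Fin t → Submodule F (ι → F)} (hD : Cfsg.Geo.IsMDecomposition m D) :
    ∃ (e : Fin t → Fin m → (ι → F)) (c : Fin t → Fin m → (ι → F) →ₗ[F] F), (∀ i j, e i j ∈ D i) ∧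
      (∀ x, ∑ i, ∑ j, c i j x • e i j = x) ∧
      (∀ i j i' j', c i j (e i' j') = if i = i' ∧ j = j' then 1 else 0) ∧
      ∀ i l j, ∀ x ∈ D i, l ≠ i → c l j x = 0 := by
  classical
  have h := DirectSum.isInternal_submodule_of_iSupIndep_of_iSup_eq_top hD.indep hD.iSup_eq_top
  let v := fun i => Module.finBasisOfFinrankEq F (D i) (hD.finrank_eq i)
  let b := h.collectedBasis v
  refine ⟨fun i j => b ⟨i, j⟩, fun i j => b.coord ⟨i, j⟩, fun i j => h.collectedBasis_mem v ⟨i, j⟩, fun x => ?_, ?_, ?_⟩
  · conv_rhs => rw [← b.sum_repr x]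
    rw [Fintype.sum_sigma]
    rfl
  · intro i j i' j'
    rw [Module.Basis.coord_apply, Module.Basis.repr_self, Finsupp.single_apply]
    refine if_congr ⟨fun h => ?_, fun h => by rw [h.1, h.2]⟩ rfl rfl
    obtain ⟨h1, h2⟩ := Sigma.mk.inj_iff.mp h.symm
    subst h1
    exact ⟨rfl, eq_of_heq h2⟩
  · intro i l j x hx hl
    rw [Module.Basis.coord_apply]
    exact h.collectedBasis_repr_of_mem_ne v hl.symm hx

/-- A rank one change of the identity. -/
theorem exists_rankOne (φ : (ι → F) →ₗ[F] F) (w : ι → F) (h : 1 + φ w ≠ 0) :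
    ∃ g : GL ι F, (g : Matrix ι ι F).det = 1 + φ w ∧ ∀ x, (g : Matrix ι ι F) *ᵥ x = x + φ x • w := by
  have hd : (1 + Matrix.vecMulVec w (toVec φ)).det = 1 + φ w := by
    rw [Matrix.vecMulVec_eq Unit, Matrix.det_one_add_replicateCol_mul_replicateRow, toVec_dot]
  refine ⟨Matrix.GeneralLinearGroup.mkOfDetNeZero _ (hd ▸ h), hd, fun x => ?_⟩
  show (1 + Matrix.vecMulVec w (toVec φ)) *ᵥ x = _
  rw [Matrix.add_mulVec, Matrix.one_mulVec, Matrix.vecMulVec_mulVec, toVec_dot, op_smul_eq_smul]

open Cfsg.Agent.Lib.MaxSub in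
/-- For a finite field F with q elements and n ≥ 13, let D be a decomposition of F^n into t ≥ 2 independent subspaces of equal dimension m spanning F^n, where m = 1 and q ≤ 4, or m = 2 and q = 2. Then the elements of SL_n(F) permuting the members of D form a subgroup that is not maximal: some subgroup lies strictly between it and SL_n(F). -/
theorem result {F : Type*} [Field F] [Fintype F] (n : ℕ) (hn : 13 ≤ n) {t : ℕ} (m : ℕ) (D : Fin t → Submodule F (Fin n → F)) (hD : Cfsg.Geo.IsMDecomposition m D) (h : (m = 1 ∧ Fintype.card F ≤ 4) ∨ (m = 2 ∧ Fintype.card F = 2)) : ∃ K : Subgroup (Matrix.GeneralLinearGroup (Fin n) F), Cfsg.Geo.decompositionStabilizer D ⊓ Cfsg.Geo.specialLinear (Fin n) F < K ∧ K < Cfsg.Geo.specialLinear (Fin n) F := by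
  classical
  obtain ⟨e, c, heD, hsum, hce, hother⟩ := exists_coord hD
  have ht : n = t * m := by simpa using DecompAux.card_eq_mul hD
  let N : F → F := fun a => if a = 0 then 0 else 1
  let B : Fin t → (Fin n → F) → F := fun i x => if ∀ j, c i j x = 0 then 0 else 1
  let Φ : (Fin n → F) → F := fun x => ∑ i, B i x
  let K : Subgroup (GL (Fin n) F) :=
    { carrier := {g | g ∈ Cfsg.Geo.specialLinear (Fin n) F ∧ ∀ x, Φ (g.val *ᵥ x) = Φ x}
      mul_mem' := fun {a b} ha hb => ⟨mul_mem ha.1 hb.1, fun x => by
        rw [Units.val_mul, ← Matrix.mulVec_mulVec, ha.2, hb.2]⟩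
      one_mem' := ⟨one_mem _, fun x => by rw [Units.val_one, Matrix.one_mulVec]⟩
      inv_mem' := fun {a} ha => ⟨inv_mem ha.1, fun x => by
        conv_rhs => rw [show x = a.val *ᵥ ((a⁻¹).val *ᵥ x) by
          rw [Matrix.mulVec_mulVec, ← Units.val_mul, mul_inv_cancel, Units.val_one, Matrix.one_mulVec]]
        rw [ha.2]⟩ }
  have hle : Cfsg.Geo.decompositionStabilizer D ⊓ Cfsg.Geo.specialLinear (Fin n) F ≤ K := by
    rintro g ⟨⟨σ, hσ⟩, hg⟩
    refine ⟨hg, fun x => ?_⟩
    simp only [Φ]
    rw [← Equiv.sum_comp σ (fun i => B i (g.val *ᵥ x))]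
    refine Finset.sum_congr rfl fun l _ => if_congr ?_ rfl rfl
    let p : Fin t → (Fin n → F) := fun i => ∑ j, c i j x • e i j
    have hp : ∀ i, p i ∈ D i := fun i => Submodule.sum_mem _ fun j _ => (D i).smul_mem _ (heD i j)
    have hgp : ∀ i, g.val *ᵥ p i ∈ D (σ i) := fun i => hσ i ▸ ⟨_, hp i, Matrix.toLin'_apply _ _⟩
    have hx : g.val *ᵥ x = ∑ i, g.val *ᵥ p i := by rw [← Matrix.mulVec_sum, hsum]
    have hc : ∀ j, c (σ l) j (g.val *ᵥ x) = c (σ l) j (g.val *ᵥ p l) := fun j => by
      rw [hx, map_sum]
      exact Finset.sum_eq_single l (fun i _ hi => hother _ _ j _ (hgp i) fun h => hi (σ.injective h).symm)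
        (fun hn => absurd (Finset.mem_univ l) hn)
    have hzero : ∀ i, ∀ y ∈ D i, (∀ j, c i j y = 0) → y = 0 := fun i y hy h0 => by
      rw [← hsum y]
      refine Finset.sum_eq_zero fun l _ => Finset.sum_eq_zero fun j _ => ?_
      rcases eq_or_ne l i with rfl | hl
      · rw [h0 j, zero_smul]
      · rw [hother i l j y hy hl, zero_smul]
    constructor
    · intro h0 j
      have h1 : g.val *ᵥ p l = 0 := hzero _ _ (hgp l) fun j => (hc j).symm.trans (h0 j)
      have h2 : p l = 0 := by
        have := congrArg ((g⁻¹).val *ᵥ ·) h1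
        simpa [Matrix.mulVec_mulVec, ← Units.val_mul] using this
      have h3 := congrArg (c l j) h2
      simpa [p, map_sum, hce] using h3
    · intro h0 j
      rw [hc, show p l = 0 from Finset.sum_eq_zero fun j _ => by rw [h0 j, zero_smul], Matrix.mulVec_zero, map_zero]
  have hm0 := hD.pos
  have ht3 : 6 ≤ t := by
    rcases h with ⟨rfl, -⟩ | ⟨rfl, -⟩ <;> omega
  set j₀ : Fin m := ⟨0, hm0⟩
  let idx : ℕ → Fin t := fun k => ⟨k % t, Nat.mod_lt _ (by omega)⟩
  have hidx : ∀ a b, a < t → b < t → idx a = idx b → a = b := fun a b ha hb h => by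
    have := congrArg Fin.val h
    simpa [idx, Nat.mod_eq_of_lt ha, Nat.mod_eq_of_lt hb] using this
  have hB1 : ∀ i x, (∃ j, c i j x ≠ 0) → B i x = 1 := fun i x ⟨j, hj⟩ => if_neg fun h => hj (h j)
  have hB0 : ∀ i x, (∀ j, c i j x = 0) → B i x = 0 := fun i x h => if_pos h
  refine ⟨K, lt_of_le_of_ne hle ?_, lt_of_le_of_ne (fun g hg => hg.1) ?_⟩
  · -- an element of `K` outside the stabiliser
    intro hK
    suffices ∃ g ∈ K, ∃ l₁ l₂ : Fin t, l₁ ≠ l₂ ∧ (∃ j, c l₁ j (g.val *ᵥ e (idx 0) j₀) ≠ 0) ∧
        ∃ j, c l₂ j (g.val *ᵥ e (idx 0) j₀) ≠ 0 by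
      obtain ⟨g, hg, l₁, l₂, hl, ⟨j₁, h1⟩, j₂, h2⟩ := this
      rw [← hK] at hg
      obtain ⟨σ, hσ⟩ := hg.1
      have h3 : g.val *ᵥ e (idx 0) j₀ ∈ D (σ (idx 0)) := hσ _ ▸ ⟨_, heD _ _, Matrix.toLin'_apply _ _⟩
      rcases eq_or_ne l₁ (σ (idx 0)) with h4 | h4
      · exact h2 (hother _ _ _ _ h3 fun h5 => hl (h4.trans h5.symm))
      · exact h1 (hother _ _ _ _ h3 h4)
    rcases h with ⟨rfl, hq⟩ | ⟨rfl, hq⟩
    · -- one-dimensional members: two commuting rank one changes
      have hN : ∀ i x, B i x = N (c i j₀ x) := fun i x => by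
        simp only [B, N]
        exact if_congr ⟨fun h => h _, fun h j => by rwa [Subsingleton.elim j j₀]⟩ rfl rfl
      have hpow : ∀ a : F, N a = a ^ (Fintype.card F - 1) := fun a => by
        rcases eq_or_ne a 0 with rfl | ha
        · have := Fintype.one_lt_card (α := F)
          simp only [N, if_true]
          rw [zero_pow (by omega)]
        · simp only [N, if_neg ha, FiniteField.pow_card_sub_one_eq_one a ha]
      have h24 : (24 : F) = 0 := by
        have h0 := FiniteField.cast_card_eq_zero F
        have h2 := Fintype.one_lt_card (α := F)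
        interval_cases h : Fintype.card F
        · linear_combination (12 : F) * h0
        · linear_combination (8 : F) * h0
        · linear_combination (6 : F) * h0
      have hquad : ∀ a b u v : F, N (a + (a + b + u + v)) + N (b + (a + b + u + v)) + N (u + (a + b + u + v)) +
          N (v + (a + b + u + v)) = N a + N b + N u + N v := by
        intro a b u v
        simp only [hpow]
        have h0 := FiniteField.cast_card_eq_zero F
        have h2 := Fintype.one_lt_card (α := F)
        interval_cases h : Fintype.card F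
        · linear_combination (2 * (a + b + u + v)) * h0
        · linear_combination (2 * (a + b + u + v) ^ 2) * h0
        · have : (2 : F) = 0 := pow_eq_zero_iff two_ne_zero |>.mp (by push_cast at h0; linear_combination h0)
          linear_combination (((a + b + u + v) ^ 3) * 5 - 3 * (a + b + u + v) * (a * b + a * u + a * v + b * u + b * v + u * v)) * this
      let φ : ℕ → (Fin n → F) →ₗ[F] F := fun s =>
        c (idx s) j₀ + c (idx (s + 1)) j₀ + c (idx (s + 2)) j₀ + c (idx (s + 3)) j₀
      let w : ℕ → (Fin n → F) := fun s =>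
        e (idx s) j₀ + e (idx (s + 1)) j₀ + e (idx (s + 2)) j₀ + e (idx (s + 3)) j₀
      have hcw : ∀ s, s + 3 < t → ∀ l, c l j₀ (w s) = if l = idx s ∨ l = idx (s + 1) ∨ l = idx (s + 2) ∨ l = idx (s + 3)
          then 1 else 0 := by
        intro s hs l
        simp only [w, map_add, hce]
        have h01 : idx s ≠ idx (s + 1) := fun h => by have := hidx _ _ (by omega) (by omega) h; omega
        have h02 : idx s ≠ idx (s + 2) := fun h => by have := hidx _ _ (by omega) (by omega) h; omega
        have h03 : idx s ≠ idx (s + 3) := fun h => by have := hidx _ _ (by omega) (by omega) h; omega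
        have h12 : idx (s + 1) ≠ idx (s + 2) := fun h => by have := hidx _ _ (by omega) (by omega) h; omega
        have h13 : idx (s + 1) ≠ idx (s + 3) := fun h => by have := hidx _ _ (by omega) (by omega) h; omega
        have h23 : idx (s + 2) ≠ idx (s + 3) := fun h => by have := hidx _ _ (by omega) (by omega) h; omega
        rcases eq_or_ne l (idx s) with rfl | a0
        · simp [h01, h02, h03]
        rcases eq_or_ne l (idx (s + 1)) with rfl | a1
        · simp [h01.symm, h12, h13]
        rcases eq_or_ne l (idx (s + 2)) with rfl | a2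
        · simp [h02.symm, h12.symm, h23]
        rcases eq_or_ne l (idx (s + 3)) with rfl | a3
        · simp [h03.symm, h13.symm, h23.symm]
        simp [a0, a1, a2, a3]
      have hφw : ∀ s, s + 3 < t → φ s (w s) = 4 := fun s hs => by
        simp only [φ, LinearMap.add_apply, hcw s hs]
        simp
        norm_num
      have h5 : (5 : F) ≠ 0 := fun h5 => one_ne_zero (α := F) (by linear_combination (5 : F) * h5 - h24)
      have hΦ : ∀ s, s + 3 < t → ∀ x, Φ (x + φ s x • w s) = Φ x := by
        intro s hs x
        simp only [Φ, hN, map_add, map_smul, smul_eq_mul, hcw s hs]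
        set S : Finset (Fin t) := {idx s, idx (s + 1), idx (s + 2), idx (s + 3)} with hS
        rw [← Finset.sum_add_sum_compl S, ← Finset.sum_add_sum_compl S (fun i => N (c i j₀ x))]
        congr 1
        · have h01 : idx s ∉ ({idx (s + 1), idx (s + 2), idx (s + 3)} : Finset (Fin t)) := by
            simp only [Finset.mem_insert, Finset.mem_singleton]
            rintro (h | h | h) <;> have := hidx _ _ (by omega) (by omega) h <;> omega
          have h12 : idx (s + 1) ∉ ({idx (s + 2), idx (s + 3)} : Finset (Fin t)) := by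
            simp only [Finset.mem_insert, Finset.mem_singleton]
            rintro (h | h) <;> have := hidx _ _ (by omega) (by omega) h <;> omega
          have h23 : idx (s + 2) ∉ ({idx (s + 3)} : Finset (Fin t)) := by
            simp only [Finset.mem_singleton]
            intro h; have := hidx _ _ (by omega) (by omega) h; omega
          simp only [hS, Finset.sum_insert h01, Finset.sum_insert h12, Finset.sum_insert h23, Finset.sum_singleton,
            true_or, or_true, if_true, mul_one, φ, LinearMap.add_apply, ← add_assoc]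
          have := hquad (c (idx s) j₀ x) (c (idx (s + 1)) j₀ x) (c (idx (s + 2)) j₀ x) (c (idx (s + 3)) j₀ x)
          simp only [← add_assoc] at this
          exact this
        · refine Finset.sum_congr rfl fun i hi => ?_
          simp only [hS, Finset.mem_compl, Finset.mem_insert, Finset.mem_singleton] at hi
          rw [if_neg hi, mul_zero, add_zero]
      obtain ⟨g₁, hd₁, hg₁⟩ := exists_rankOne (φ 0) (w 0) (by rw [hφw 0 (by omega)]; norm_num; exact h5)
      obtain ⟨g₂, hd₂, hg₂⟩ := exists_rankOne (φ 4) (w 4) (by rw [hφw 4 (by omega)]; norm_num; exact h5)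
      have hsl : g₁ * g₂ ∈ Cfsg.Geo.specialLinear (Fin n) F := by
        refine MonoidHom.mem_ker.mpr (Units.ext ?_)
        show ((g₁ * g₂ : GL (Fin n) F) : Matrix (Fin n) (Fin n) F).det = 1
        rw [Units.val_mul, Matrix.det_mul, hd₁, hd₂, hφw 0 (by omega), hφw 4 (by omega)]
        linear_combination h24
      refine ⟨g₁ * g₂, ⟨hsl, fun x => ?_⟩, idx 1, idx 2, fun h => by have := hidx _ _ (by omega) (by omega) h; omega, ?_⟩
      · rw [Units.val_mul, ← Matrix.mulVec_mulVec, hg₂, hg₁, hΦ 0 (by omega), hΦ 4 (by omega)]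
      have h04 : ∀ k, k < 4 → φ 4 (e (idx k) j₀) = 0 := fun k hk => by
        simp only [φ, LinearMap.add_apply, hce]
        simp only [and_true]
        rw [if_neg, if_neg, if_neg, if_neg] <;>
          first
          | (simp; done)
          | (intro h; have := hidx _ _ (by omega) (by omega) h; omega)
      have hv : (g₁ * g₂).val *ᵥ e (idx 0) j₀ = e (idx 0) j₀ + φ 0 (e (idx 0) j₀) • w 0 := by
        rw [Units.val_mul, ← Matrix.mulVec_mulVec, hg₂, h04 0 (by omega), zero_smul, add_zero, hg₁]
      have hone : φ 0 (e (idx 0) j₀) = 1 := by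
        simp only [φ, LinearMap.add_apply, hce, and_true]
        rw [if_pos trivial, if_neg, if_neg, if_neg] <;>
          first
          | (simp; done)
          | (intro h; have := hidx _ _ (by omega) (by omega) h; omega)
      rw [hone, one_smul] at hv
      refine ⟨⟨j₀, ?_⟩, j₀, ?_⟩ <;>
      · rw [hv, map_add, hcw 0 (by omega), hce]
        simp only [and_true]
        rw [if_neg fun h => by have := hidx _ _ (by omega) (by omega) h; omega, if_pos (by simp), zero_add]
        exact one_ne_zero
    · -- two-dimensional members over two elements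
      have hF : ∀ a : F, a = 0 ∨ a = 1 := fun a => by
        rcases eq_or_ne a 0 with ha | ha
        · exact Or.inl ha
        · have := FiniteField.pow_card_sub_one_eq_one a ha
          rw [hq] at this
          exact Or.inr (by simpa using this)
      have h2F : (2 : F) = 0 := by
        have := FiniteField.cast_card_eq_zero F
        rw [hq] at this
        exact_mod_cast this
      have hj : ∀ j : Fin 2, j = j₀ ∨ j = 1 := fun j => by fin_cases j <;> simp [j₀]
      have h10 : (1 : Fin 2) ≠ j₀ := by simp [j₀]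
      have hB : ∀ i x, B i x = c i j₀ x + c i 1 x + c i j₀ x * c i 1 x := fun i x => by
        by_cases h0 : ∀ j, c i j x = 0
        · rw [hB0 i x h0, h0, h0]; ring
        · push Not at h0
          rw [hB1 i x h0]
          obtain ⟨j, hj'⟩ := h0
          rcases hj j with rfl | rfl <;> rcases hF (c i j₀ x) with h3 | h3 <;> rcases hF (c i 1 x) with h4 | h4 <;>
            first
            | exact absurd h3 hj'
            | exact absurd h4 hj'
            | (rw [h3, h4]; linear_combination h2F * 0)
            | (rw [h3, h4]; linear_combination (-1 : F) * h2F)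
      have h01 : idx 0 ≠ idx 1 := fun h => by have := hidx _ _ (by omega) (by omega) h; omega
      have h02 : idx 0 ≠ idx 2 := fun h => by have := hidx _ _ (by omega) (by omega) h; omega
      have h12 : idx 1 ≠ idx 2 := fun h => by have := hidx _ _ (by omega) (by omega) h; omega
      set w := e (idx 0) 1 + e (idx 1) 1 + e (idx 2) 1 with hwdef
      let φ : (Fin n → F) →ₗ[F] F := c (idx 0) j₀ + c (idx 1) j₀ + c (idx 2) j₀
      have hφw : φ w = 0 := by simp [φ, hwdef, hce, h10.symm]
      obtain ⟨g, hd, hg⟩ := exists_rankOne φ w (by rw [hφw, add_zero]; exact one_ne_zero)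
      have hcw0 : ∀ l, c l j₀ w = 0 := fun l => by simp [hwdef, hce, h10.symm]
      have hsl : g ∈ Cfsg.Geo.specialLinear (Fin n) F :=
        MonoidHom.mem_ker.mpr (Units.ext (by show (g : Matrix (Fin n) (Fin n) F).det = 1; rw [hd, hφw, add_zero]))
      refine ⟨g, ⟨hsl, fun x => ?_⟩, idx 1, idx 2, h12, ?_⟩
      · rw [hg]
        have hkey : ∀ l, B l (x + φ x • w) = B l x + φ x * (c l 1 w) * (1 + c l j₀ x) := fun l => by
          rw [hB, hB, map_add, map_add, map_smul, map_smul, hcw0, smul_zero, add_zero, smul_eq_mul]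
          ring
        simp only [Φ, hkey, Finset.sum_add_distrib]
        have hs : ∑ l, φ x * c l 1 w * (1 + c l j₀ x) = φ x * (3 + φ x) := by
          simp only [hwdef, map_add, hce, and_true, mul_add, add_mul, Finset.sum_add_distrib]
          simp [φ]
          ring
        rw [hs]
        rcases hF (φ x) with h3 | h3 <;> rw [h3]
        · ring
        · linear_combination (2 : F) * h2F
      have hv : g.val *ᵥ e (idx 0) j₀ = e (idx 0) j₀ + w := by
        rw [hg, show φ (e (idx 0) j₀) = 1 by simp [φ, hce, h01.symm, h02.symm], one_smul]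
      refine ⟨⟨1, ?_⟩, 1, ?_⟩ <;> simp [hv, hwdef, hce, h10, h01.symm, h02.symm, h12, h12.symm]
  · -- a transvection changing the invariant
    intro hK
    have h01 : idx 0 ≠ idx 1 := fun h => by have := hidx _ _ (by omega) (by omega) h; omega
    obtain ⟨g, hd, hg⟩ := exists_rankOne (c (idx 0) j₀) (e (idx 1) j₀) (by simp [hce, h01])
    have hmem : g ∈ Cfsg.Geo.specialLinear (Fin n) F :=
      MonoidHom.mem_ker.mpr (Units.ext (by show (g : Matrix (Fin n) (Fin n) F).det = 1; simp [hd, hce, h01]))
    rw [← hK] at hmem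
    have h1 := hmem.2 (e (idx 0) j₀)
    rw [hg, hce, if_pos ⟨rfl, rfl⟩, one_smul] at h1
    have hone : ∀ k i, B i (e k j₀) = if i = k then 1 else 0 := fun k i => by
      by_cases hik : i = k
      · rw [hB1 i _ ⟨j₀, by simp [hce, hik]⟩, if_pos hik]
      · rw [hB0 i _ fun j => by simp [hce, hik], if_neg hik]
    have htwo : ∀ i, B i (e (idx 0) j₀ + e (idx 1) j₀) = (if i = idx 0 then 1 else 0) + (if i = idx 1 then 1 else 0) := by
      intro i
      rcases eq_or_ne i (idx 0) with rfl | a0
      · rw [hB1 _ _ ⟨j₀, by simp [hce, h01]⟩, if_pos rfl, if_neg h01, add_zero]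
      rcases eq_or_ne i (idx 1) with rfl | a1
      · rw [hB1 _ _ ⟨j₀, by simp [hce, h01.symm]⟩, if_pos rfl, if_neg a0, zero_add]
      rw [hB0 _ _ fun j => by simp [hce, a0, a1], if_neg a0, if_neg a1, add_zero]
    simp only [Φ, hone, htwo, Finset.sum_add_distrib, Finset.sum_ite_eq', Finset.mem_univ, if_true] at h1
    exact one_ne_zero (α := F) (by linear_combination h1)

end Cfsg.Agent.S5635
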