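import Cfsg.Statements.S5637
import Cfsg.Agent.Lib.ThreeTransp.TensorDich

set_option autoImplicit false
open Cfsg

namespace Cfsg.Agent.S5637

open Cfsg.Agent.Lib.ThreeTransp.Tensor Matrix

/-- For a finite field F with q elements and n = n₁ n₂ ≥ 13 with 2 ≤ n₁ < n₂, excluding n₁ = q = 2, the stabiliser in SL_n(F) of a tensor decomposition F^n ≅ F^(n₁) ⊗ F^(n₂) (the conjugate by any P of the Kronecker-product subgroup transported along any bijection Fin n ≃ Fin n₁ × Fin n₂, intersected with SL_n(F)) is a maximal subgroup of SL_n(F). -/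
theorem result {F : Type*} [Field F] [Fintype F] (n : ℕ) (hn : 13 ≤ n) (n₁ n₂ : ℕ) (h1 : 2 ≤ n₁) (h12 : n₁ < n₂) (hex : ¬ (n₁ = 2 ∧ Fintype.card F = 2)) (e : Fin n ≃ Fin n₁ × Fin n₂) (P : Matrix.GeneralLinearGroup (Fin n) F) : Cfsg.Geo.IsMaximalIn (Cfsg.Geo.specialLinear (Fin n) F) (Cfsg.Geo.tensorProductSubgroup n₁ n₂ e P ⊓ Cfsg.Geo.specialLinear (Fin n) F) := by
  classical
  haveI : Finite F := Finite.of_fintype F
  have h5 : 5 ≤ n₂ := by
    by_contra hc
    have hn' : n = n₁ * n₂ := by simpa using Fintype.card_congr e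
    have : n₁ * n₂ ≤ 3 * 4 := Nat.mul_le_mul (by omega) (by omega)
    omega
  have hq : 3 ≤ n₁ ∨ 2 < Nat.card F := by
    rcases Nat.lt_or_ge n₁ 3 with h | h
    · refine Or.inr ?_
      have h3 : Fintype.card F ≠ 2 := fun h' => hex ⟨by omega, h'⟩
      have := Fintype.one_lt_card (α := F)
      rw [Nat.card_eq_fintype_card]
      omega
    · exact Or.inl h
  set φ : GL (Fin n₁ × Fin n₂) F ≃* GL (Fin n) F := (Geo.glReindex e.symm).trans (MulAut.conj P) with hφ
  have hT : Geo.tensorProductSubgroup n₁ n₂ e P = (Geo.kroneckerSubgroup n₁ n₂ F).map φ.toMonoidHom := by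
    rw [Geo.tensorProductSubgroup, Subgroup.map_map]; rfl
  have hdet : ∀ g, φ g ∈ Geo.specialLinear (Fin n) F ↔ g ∈ Geo.specialLinear (Fin n₁ × Fin n₂) F := by
    intro g
    have h : Matrix.GeneralLinearGroup.det (φ g) = Matrix.GeneralLinearGroup.det g := by
      rw [hφ, MulEquiv.trans_apply, MulAut.conj_apply, map_mul, map_mul, map_inv, mul_comm _
        (Matrix.GeneralLinearGroup.det (Geo.glReindex e.symm g)), mul_inv_cancel_right]
      exact Units.ext (Matrix.det_reindex_self _ _)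
    simp only [Geo.specialLinear, MonoidHom.mem_ker, h]
  set N := Geo.kroneckerSubgroup n₁ n₂ F
  refine ⟨lt_of_le_of_ne inf_le_right fun h => ?_, fun M hMl hMu => ?_⟩
  · -- the Kronecker group does not contain every transvection
    let i₀ : Fin n₁ := ⟨0, by omega⟩
    let i₁ : Fin n₁ := ⟨1, by omega⟩
    let j₀ : Fin n₂ := ⟨0, by omega⟩
    let j₁ : Fin n₂ := ⟨1, by omega⟩
    have hi : i₀ ≠ i₁ := Fin.ne_of_val_ne (by simp [i₀, i₁])
    have hj : j₀ ≠ j₁ := Fin.ne_of_val_ne (by simp [j₀, j₁])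
    have hd : (Pi.single (i₁, j₁) (1 : F) : Fin n₁ × Fin n₂ → F) ⬝ᵥ Pi.single (i₀, j₀) 1 = 0 := by simp [hi]
    have hs := (hdet _).mpr (Cfsg.Agent.Lib.MaxSub.tv_mem_specialLinear _ _ hd)
    rw [← h, hT, Subgroup.mem_inf, Subgroup.mem_map_equiv, MulEquiv.symm_apply_apply] at hs
    obtain ⟨gh, hgh⟩ := mem_kronecker.mp hs.1
    have h1 := kr_pure gh (Pi.single i₁ 1) (Pi.single j₁ 1)
    rw [hgh, ← single_pure, Cfsg.Agent.Lib.MaxSub.tv_mulVec, single_dotProduct, Pi.single_eq_same, one_mul,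
      one_smul] at h1
    have e00 := congrFun h1 (i₀, j₀)
    have e11 := congrFun h1 (i₁, j₁)
    have e01 := congrFun h1 (i₀, j₁)
    simp [Cfsg.Agent.Lib.ThreeTransp.Tensor.pure, hi, hj, hi.symm, hj.symm] at e00 e11 e01
    rcases e01 with e | e <;> simp [e] at e00 e11
  · have hC : Contains (M.comap φ.toMonoidHom) := fun gh h1 h2 =>
      hMl ⟨by rw [hT]; exact ⟨kr gh, mem_kronecker.mpr ⟨gh, rfl⟩, rfl⟩, (hdet _).mpr (kr_det gh h1 h2)⟩
    rcases dichotomy hC h1 h12 h5 hq with hle | hge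
    · refine Or.inl (le_antisymm (le_inf ?_ hMu) hMl)
      intro g hg
      rw [hT, Subgroup.mem_map_equiv]
      exact hle (show φ (φ.symm g) ∈ M by rwa [φ.apply_symm_apply])
    · refine Or.inr (le_antisymm hMu fun g hg => ?_)
      have := hge ((hdet (φ.symm g)).mp (by rwa [φ.apply_symm_apply]))
      rwa [Subgroup.mem_comap, MulEquiv.coe_toMonoidHom, φ.apply_symm_apply] at this

end Cfsg.Agent.S5637
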