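import Cfsg.Statements.S5638


set_option autoImplicit false
open Cfsg

namespace Cfsg.Agent.S5638

open Matrix in
open scoped MatrixGroups Kronecker in
/-- Over the field with 2 elements, for n = 2 n₂ ≥ 13, the stabiliser in SL_n of a tensor decomposition with factors of dimensions 2 and n₂ (the conjugate by any P of the Kronecker-product subgroup transported along any bijection Fin n ≃ Fin 2 × Fin n₂, intersected with SL_n) is not a maximal subgroup: some subgroup lies strictly between it and SL_n. -/
theorem result {F : Type*} [Field F] [Fintype F] (n : ℕ) (hn : 13 ≤ n) (hq : Fintype.card F = 2) (n₂ : ℕ) (e : Fin n ≃ Fin 2 × Fin n₂) (P : Matrix.GeneralLinearGroup (Fin n) F) : ∃ K : Subgroup (Matrix.GeneralLinearGroup (Fin n) F), Cfsg.Geo.tensorProductSubgroup 2 n₂ e P ⊓ Cfsg.Geo.specialLinear (Fin n) F < K ∧ K < Cfsg.Geo.specialLinear (Fin n) F := by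
  classical
  have hF : ∀ a : F, a = 0 ∨ a = 1 := fun a => by
    rcases eq_or_ne a 0 with ha | ha
    · exact Or.inl ha
    · have := FiniteField.pow_card_sub_one_eq_one a ha
      rw [hq] at this
      exact Or.inr (by simpa using this)
  have h2F : (1 : F) + 1 = 0 := by
    have := FiniteField.cast_card_eq_zero F
    rw [hq] at this
    push_cast at this
    linear_combination this
  have hsl : ∀ g : GL (Fin n) F, g ∈ Cfsg.Geo.specialLinear (Fin n) F := fun g => by
    refine MonoidHom.mem_ker.mpr (Units.ext ?_)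
    exact (hF _).resolve_left (Matrix.GeneralLinearGroup.det g).ne_zero
  have hS : Cfsg.Geo.specialLinear (Fin n) F = ⊤ := eq_top_iff.mpr fun g _ => hsl g
  rw [hS, inf_top_eq]
  have hn₂ : 2 ≤ n₂ := by
    have := Fintype.card_congr e
    simp at this
    omega
  let Ψ : GL (Fin 2 × Fin n₂) F →* GL (Fin n) F :=
    (MulAut.conj P).toMonoidHom.comp (Cfsg.Geo.glReindex e.symm).toMonoidHom
  have hbij : Function.Bijective Ψ := (MulAut.conj P).bijective.comp (Cfsg.Geo.glReindex e.symm).bijective
  have hT : Cfsg.Geo.tensorProductSubgroup 2 n₂ e P = (Cfsg.Geo.kroneckerSubgroup 2 n₂ F).map Ψ := by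
    rw [Cfsg.Geo.tensorProductSubgroup, Subgroup.map_map]
  set ω : Matrix (Fin 2) (Fin 2) F := !![0, 1; 1, 1] with hω
  set W : Matrix (Fin 2 × Fin n₂) (Fin 2 × Fin n₂) F := ω ⊗ₖ (1 : Matrix (Fin n₂) (Fin n₂) F) with hW
  have hW2 : W + 1 + 1 = W := by
    rw [add_assoc, show (1 : Matrix (Fin 2 × Fin n₂) (Fin 2 × Fin n₂) F) + 1 = 0 from Matrix.ext fun i j => by
      rcases eq_or_ne i j with rfl | h <;> simp [*], add_zero]
  let K₀ : Subgroup (GL (Fin 2 × Fin n₂) F) :=
    { carrier := {g | g.val * W = W * g.val ∨ g.val * W = (W + 1) * g.val}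
      one_mem' := Or.inl (by simp)
      mul_mem' := by
        rintro a b (ha | ha) (hb | hb) <;> simp only [Set.mem_setOf_eq, Units.val_mul]
        · left; rw [mul_assoc, hb, ← mul_assoc, ha, mul_assoc]
        · right; rw [mul_assoc, hb, ← mul_assoc, mul_add, mul_one, ha, ← mul_assoc, add_mul W, one_mul]
        · right; rw [mul_assoc, hb, ← mul_assoc, ha, mul_assoc]
        · left; rw [mul_assoc, hb, ← mul_assoc, mul_add, mul_one, ha,
            show (W + 1) * a.val + a.val = (W + 1 + 1) * a.val by
              simp only [add_mul, one_mul], hW2, mul_assoc]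
      inv_mem' := by
        rintro a (ha | ha)
        · left
          have h := congrArg (fun X => (a⁻¹).val * X * (a⁻¹).val) ha
          simp [← mul_assoc] at h
          simp [mul_assoc] at h ⊢
          exact h.symm
        · right
          have h : (a⁻¹).val * (a.val * W) * (a⁻¹).val = (a⁻¹).val * ((W + 1) * a.val) * (a⁻¹).val := by rw [ha]
          rw [← mul_assoc, ← Units.val_mul, inv_mul_cancel, Units.val_one, one_mul, mul_assoc (a⁻¹).val,
            mul_assoc (W + 1), ← Units.val_mul, mul_inv_cancel, Units.val_one, mul_one, mul_add, mul_one] at h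
          show (a⁻¹).val * W = (W + 1) * (a⁻¹).val
          rw [add_mul, one_mul, h, add_assoc, show (a⁻¹).val + (a⁻¹).val = 0 from Matrix.ext fun i j => by
            simp only [Matrix.add_apply, Matrix.zero_apply]; linear_combination ((a⁻¹).val i j) * h2F, add_zero] }
  set i₀ : Fin n₂ := ⟨0, by omega⟩
  set i₁ : Fin n₂ := ⟨1, by omega⟩
  have h01 : i₀ ≠ i₁ := by simp [i₀, i₁, Fin.ext_iff]
  have hle : Cfsg.Geo.kroneckerSubgroup 2 n₂ F ≤ K₀ := by
    rintro g ⟨a, b, hg⟩
    have h2 : a.val * ω = ω * a.val ∨ a.val * ω = (ω + 1) * a.val := by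
      have hdet : a.val.det ≠ 0 := (Matrix.GeneralLinearGroup.det a).ne_zero
      rw [Matrix.det_fin_two] at hdet
      rcases hF (a.val 0 0) with h00 | h00 <;> rcases hF (a.val 0 1) with h01 | h01 <;>
        rcases hF (a.val 1 0) with h10 | h10 <;> rcases hF (a.val 1 1) with h11 | h11 <;>
        simp only [h00, h01, h10, h11, mul_zero, mul_one, sub_zero, zero_sub, sub_self, ne_eq, not_true,
          neg_eq_zero, one_ne_zero, not_false_eq_true] at hdet <;>
        first
        | (left; ext i j; fin_cases i <;> fin_cases j <;>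
            simp [hω, Matrix.mul_apply, Fin.sum_univ_two, h00, h01, h10, h11, h2F]; done)
        | (right; ext i j; fin_cases i <;> fin_cases j <;>
            simp [hω, Matrix.mul_apply, Fin.sum_univ_two, h00, h01, h10, h11, h2F]; done)
    show g.val * W = W * g.val ∨ g.val * W = (W + 1) * g.val
    rw [hg, hW, ← Matrix.mul_kronecker_mul, ← Matrix.mul_kronecker_mul, mul_one, one_mul]
    refine h2.imp (fun h => by rw [h]) fun h => ?_
    rw [h, ← Matrix.one_kronecker_one, ← Matrix.add_kronecker, ← Matrix.mul_kronecker_mul, one_mul]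
  refine ⟨K₀.map Ψ, lt_of_le_of_ne (hT ▸ Subgroup.map_mono hle) fun h => ?_, lt_of_le_of_ne le_top fun h => ?_⟩
  · set E : Matrix (Fin n₂) (Fin n₂) F := Matrix.single i₀ i₁ 1 with hE
    have hEE : E * E = 0 := by rw [hE, Matrix.single_mul_single_of_ne (h := h01.symm)]
    let g : GL (Fin 2 × Fin n₂) F :=
      { val := 1 + ω ⊗ₖ E
        inv := 1 - ω ⊗ₖ E
        val_inv := by
          rw [add_mul, one_mul, mul_sub, mul_one, ← Matrix.mul_kronecker_mul, hEE, Matrix.kronecker_zero, sub_zero,
            sub_add_cancel]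
        inv_val := by
          rw [sub_mul, one_mul, mul_add, mul_one, ← Matrix.mul_kronecker_mul, hEE, Matrix.kronecker_zero, add_zero,
            add_sub_cancel_right] }
    have hg : g ∈ K₀ := by
      left
      show (1 + ω ⊗ₖ E) * W = W * (1 + ω ⊗ₖ E)
      rw [hW, add_mul, mul_add, one_mul, mul_one, ← Matrix.mul_kronecker_mul, ← Matrix.mul_kronecker_mul, mul_one,
        one_mul]
    rw [hT] at h
    have : Ψ g ∈ (Cfsg.Geo.kroneckerSubgroup 2 n₂ F).map Ψ := h ▸ ⟨g, hg, rfl⟩
    obtain ⟨g', ⟨a, b, hab⟩, hg'⟩ := this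
    have := hbij.1 hg'
    subst this
    have e00 := congrFun (congrFun hab (0, i₀)) (0, i₀)
    have e01 := congrFun (congrFun hab (0, i₀)) (1, i₁)
    have e02 := congrFun (congrFun hab (0, i₀)) (0, i₁)
    simp [g, hω, hE, Matrix.kroneckerMap_apply, Matrix.one_apply, h01, Matrix.single_apply] at e00 e01 e02
    rcases e02 with h0 | h0
    · rw [h0, zero_mul] at e00; exact one_ne_zero e00
    · rw [h0, mul_zero] at e01; exact one_ne_zero e01
  · set E : Matrix (Fin 2 × Fin n₂) (Fin 2 × Fin n₂) F := Matrix.single (0, i₀) (0, i₁) 1 with hE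
    have hEE : E * E = 0 := by rw [hE, Matrix.single_mul_single_of_ne (h := by simp [h01.symm])]
    let g : GL (Fin 2 × Fin n₂) F :=
      { val := 1 + E
        inv := 1 - E
        val_inv := by rw [add_mul, one_mul, mul_sub, mul_one, hEE, sub_zero, sub_add_cancel]
        inv_val := by rw [sub_mul, one_mul, mul_add, mul_one, hEE, add_zero, add_sub_cancel_right] }
    obtain ⟨g', hg', hgg⟩ : Ψ g ∈ K₀.map Ψ := h ▸ Subgroup.mem_top _
    have := hbij.1 hgg
    subst this
    rcases hg' with hg' | hg' <;>
    · have := congrFun (congrFun hg' (1, i₀)) (0, i₁)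
      simp [g, hW, hω, hE, Matrix.mul_apply, Matrix.kroneckerMap_apply, Matrix.one_apply, Matrix.single_apply, h01,
        h01.symm, Fintype.sum_prod_type, Fin.sum_univ_two, add_mul, mul_add, Finset.sum_add_distrib] at this

end Cfsg.Agent.S5638
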