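import Cfsg.Statements.S5639
import Cfsg.Agent.Lib.MaxSub.LinSubfield

set_option autoImplicit false
open Cfsg

namespace Cfsg.Agent.S5639

open Cfsg.Agent.Lib.MaxSub Matrix in
open scoped MatrixGroups in
/-- For a finite field F, a subfield F₀ with |F| = |F₀| ^ r for a prime r, and n ≥ 13, the subfield group (the conjugate by any P of the product of GL_n(F₀) with the non-zero scalars of F, intersected with SL_n(F)) is a maximal subgroup of SL_n(F). -/
theorem result {F : Type*} [Field F] [Fintype F] (n : ℕ) (hn : 13 ≤ n) (F₀ : Subfield F) (r : ℕ) (hr : r.Prime) (hcard : Fintype.card F = Nat.card F₀ ^ r) (P : Matrix.GeneralLinearGroup (Fin n) F) : Cfsg.Geo.IsMaximalIn (Cfsg.Geo.specialLinear (Fin n) F) (Cfsg.Geo.subfieldSubgroup F₀ P ⊓ Cfsg.Geo.specialLinear (Fin n) F) := by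
  classical
  haveI : Nonempty (Fin n) := ⟨⟨0, by omega⟩⟩
  have hcard' : Nat.card F = Nat.card F₀ ^ r := by rw [Nat.card_eq_fintype_card]; exact hcard
  set S := Cfsg.Geo.specialLinear (Fin n) F with hS
  haveI hSn : S.Normal := by rw [hS]; exact MonoidHom.normal_ker _
  have hPe : ∀ (k : GL (Fin n) F) (u : Fin n → F),
      ((P * k * P⁻¹ : GL (Fin n) F) : Matrix (Fin n) (Fin n) F) *ᵥ ((P : Matrix (Fin n) (Fin n) F) *ᵥ u) =
        (P : Matrix (Fin n) (Fin n) F) *ᵥ ((k : Matrix (Fin n) (Fin n) F) *ᵥ u) := fun k u => by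
    rw [Matrix.mulVec_mulVec, Matrix.mulVec_mulVec, ← Units.val_mul, ← Units.val_mul, inv_mul_cancel_right]
  have hbase : ∀ v a : Fin n → F, LinSubfield.Rat F₀ v → LinSubfield.Rat F₀ a → ∀ h : a ⬝ᵥ v = 0,
      P * tv v a h * P⁻¹ ∈ Cfsg.Geo.subfieldSubgroup F₀ P ⊓ S := fun v a hv ha h => by
    refine ⟨mem_subfieldSubgroup fun x hx => ?_, hSn.conj_mem _ (tv_mem_specialLinear v a h) P⟩
    obtain ⟨u, hu, rfl⟩ := hx.eq_mulVec
    rw [hPe, tv_mulVec]
    exact (ratVec_mulVec _).mpr fun i =>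
      F₀.add_mem (hu i) (F₀.mul_mem (sum_mem fun j _ => F₀.mul_mem (ha j) (hu j)) (hv i))
  refine ⟨lt_of_le_of_ne inf_le_right fun h => ?_, fun L hle hLS => ?_⟩
  · obtain ⟨τ, hτ⟩ : ∃ τ : F, τ ∉ F₀ := by
      by_contra hc
      push Not at hc
      have e1 : Nat.card F₀ = Nat.card F := Nat.card_congr (Equiv.subtypeUnivEquiv hc)
      rw [hcard'] at e1
      have e2 : Nat.card F₀ ^ 1 = Nat.card F₀ ^ r := by rw [pow_one]; exact e1
      exact absurd (Nat.pow_right_injective (Finite.one_lt_card : 1 < Nat.card F₀) e2).symm hr.one_lt.ne'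
    let i : Fin n := ⟨0, by omega⟩
    let j : Fin n := ⟨1, by omega⟩
    have hij : i ≠ j := fun e => zero_ne_one (Fin.mk.inj e)
    have hd : (Pi.single j τ : Fin n → F) ⬝ᵥ Pi.single i 1 = 0 := by simp [hij]
    have hmem : P * tv (Pi.single i 1) (Pi.single j τ) hd * P⁻¹ ∈ Cfsg.Geo.subfieldSubgroup F₀ P ⊓ S := by
      rw [h]; exact hSn.conj_mem _ (tv_mem_specialLinear _ _ hd) P
    obtain ⟨c, hc0, hc⟩ := subfieldSubgroup_apply hmem.1
    obtain ⟨y, hy, he⟩ := hc _ ((ratVec_mulVec _).mpr (LinSubfield.rat_single (F₀ := F₀) j F₀.one_mem))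
    obtain ⟨u, hu, rfl⟩ := hy.eq_mulVec
    rw [hPe, tv_mulVec, ← Matrix.mulVec_smul] at he
    have he' := Matrix.mulVec_injective_iff_isUnit.mpr P.isUnit he
    have h1 := congrFun he' j
    have h2 := congrFun he' i
    simp [hij, hij.symm] at h1 h2
    refine hτ ?_
    have hu1 : u j ≠ 0 := fun e => by rw [e, mul_zero] at h1; exact one_ne_zero h1
    rw [show τ = u i / u j by rw [eq_div_iff hu1, h2]; linear_combination -(u i) * h1]
    exact F₀.div_mem (hu i) (hu j)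
  by_cases hL : L ≤ Cfsg.Geo.subfieldSubgroup F₀ P
  · exact Or.inl (le_antisymm (le_inf hL hLS) hle)
  right
  obtain ⟨g, hgL, hg⟩ := SetLike.not_le_iff_exists.mp hL
  obtain ⟨x₀, hx₀, hirr⟩ : ∃ x, RatVec F₀ P x ∧
      ∀ (c : F) y, RatVec F₀ P y → (g : Matrix (Fin n) (Fin n) F) *ᵥ x ≠ c • y := by
    by_contra hc; push Not at hc
    exact hg (mem_subfieldSubgroup_of_lines hc)
  obtain ⟨u, hu, rfl⟩ := hx₀.eq_mulVec
  set K : Subgroup (GL (Fin n) F) := L.comap (MulAut.conj P).toMonoidHom with hK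
  have hKmem : ∀ k, k ∈ K ↔ P * k * P⁻¹ ∈ L := fun k => Iff.rfl
  have hKb : LinSubfield.Base F₀ K := fun v a hv ha h => ⟨h, (hKmem _).mpr (hle (hbase v a hv ha h))⟩
  have hk : P⁻¹ * g * P ∈ K := by rw [hKmem]; simpa [mul_assoc] using hgL
  obtain ⟨a, ha, ha0, hau, -⟩ := LinSubfield.rat_perp (by simp; omega) hu hu
  have hau' : a ⬝ᵥ u = 0 := by rw [dotProduct_comm]; exact hau
  have hT := (hKb u a hu ha hau').conj hk
  have hSK := LinSubfield.specialLinear_le hKb hr hcard' (by simp; omega)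
    (fun c y hy he => hirr c _ ((ratVec_mulVec y).mpr hy) (by
      rw [← Matrix.mulVec_smul, ← he, ← hPe, show P * (P⁻¹ * g * P) * P⁻¹ = g by group]))
    (fun h0 => ha0 (by
      have := congrArg (· ᵥ* ((P⁻¹ * g * P : GL (Fin n) F) : Matrix (Fin n) (Fin n) F)) h0
      simpa only [Matrix.vecMul_vecMul, ← Units.val_mul, inv_mul_cancel, Units.val_one, Matrix.vecMul_one, Matrix.zero_vecMul] using this)) hT
  refine le_antisymm hLS fun s hs => ?_
  have h1 := hSK (hSn.conj_mem s hs P⁻¹)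
  rw [hKmem] at h1
  simpa [mul_assoc] using h1

end Cfsg.Agent.S5639
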