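import Cfsg.Statements.S5642
import Cfsg.Agent.Lib.MaxSub.Transvec
-- import your own Cfsg.Agent.* helpers here

set_option autoImplicit false
open Cfsg

namespace Cfsg.Agent.S5642

open Cfsg.Agent.Lib.MaxSub Matrix
open scoped Matrix

/-- For a finite field F and n ≥ 13, let f be a non-degenerate symplectic form on F^n (so n is even). Then the elements of SL_n(F) that are similarities of f (f(gu, gv) = c f(u, v) for a non-zero scalar c depending on g) form a maximal subgroup of SL_n(F). -/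
theorem result {F : Type*} [Field F] [Fintype F] (n : ℕ) (hn : 13 ≤ n) (f : (Fin n → F) → (Fin n → F) → F) (hf : Cfsg.Geo.IsSymplecticForm f) : Cfsg.Geo.IsMaximalIn (Cfsg.Geo.specialLinear (Fin n) F) (Cfsg.Geo.similarityGroup f ⊓ Cfsg.Geo.specialLinear (Fin n) F) := by
  obtain ⟨⟨hal, hsl, har, hsr⟩, hskew, halt, hnd⟩ := hf
  -- f v as a functional of its first argument
  set ψ : (Fin n → F) → (Fin n → F) := fun v =>
    toVec { toFun := fun x => f x v, map_add' := fun x y => hal x y v,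
            map_smul' := fun c x => hsl c x v } with hψ
  have hψd : ∀ v x, ψ v ⬝ᵥ x = f x v := fun v x => by rw [hψ]; exact toVec_dot _ x
  have hinj : ∀ v, v ≠ 0 → ∃ x, f x v ≠ 0 := fun v hv => (hnd v hv).1
  let ψl : (Fin n → F) →ₗ[F] (Fin n → F) :=
    { toFun := ψ
      map_add' := fun v w => funext fun j => har (Pi.single j 1) v w
      map_smul' := fun c v => funext fun j => hsr c (Pi.single j 1) v }
  have hψinj : Function.Injective ψl := by
    refine (injective_iff_map_eq_zero ψl).mpr fun v hv => ?_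
    by_contra hv0
    obtain ⟨x, hx⟩ := hinj v hv0
    exact hx (by rw [← hψd, show ψ v = 0 from hv, zero_dotProduct])
  have hψsurj : Function.Surjective ψl := LinearMap.injective_iff_surjective.mp hψinj
  -- the symplectic transvections
  have hsymp : ∀ (w : Fin n → F) (c : F), (c • ψ w) ⬝ᵥ w = 0 := fun w c => by
    rw [smul_dotProduct, hψd, halt, smul_zero]
  have hT : ∀ (w : Fin n → F) (c : F), tv w (c • ψ w) (hsymp w c) ∈
      Cfsg.Geo.similarityGroup f ⊓ Cfsg.Geo.specialLinear (Fin n) F := by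
    refine fun w c => ⟨⟨1, fun x y => ?_⟩, tv_mem_specialLinear _ _ _⟩
    rw [tv_mulVec, tv_mulVec, smul_dotProduct, smul_dotProduct, hψd, hψd]
    simp only [smul_eq_mul, hal, har, hsl, hsr, halt, Units.val_one]
    rw [hskew w y]
    ring
  -- a transvection fixing f up to a scalar is symplectic
  have hout : ∀ v b : Fin n → F, v ≠ 0 → b ⬝ᵥ v = 0 → (∀ h : b ⬝ᵥ v = 0, tv v b h ∈ Cfsg.Geo.similarityGroup f) →
      ∃ t : F, b = t • ψ v := by
    intro v b hv hb hmem
    obtain ⟨c, hc⟩ := hmem hb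
    obtain ⟨x₀, hx₀⟩ := hinj v hv
    have hc1 : (c : F) = 1 := by
      have h := hc x₀ v
      rw [tv_mulVec, tv_mulVec, hb, zero_smul, add_zero, hal, hsl, halt, mul_zero, add_zero] at h
      exact mul_right_cancel₀ hx₀ (by rw [one_mul]; exact h.symm)
    refine ⟨(b ⬝ᵥ x₀) / f x₀ v, ?_⟩
    refine dotProduct_eq _ _ fun y => ?_
    have h := hc y x₀
    rw [tv_mulVec, tv_mulVec, hc1, one_mul] at h
    simp only [hal, har, hsl, hsr, halt] at h
    rw [hskew v x₀] at h
    rw [smul_dotProduct, hψd, smul_eq_mul]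
    field_simp
    linear_combination (-1 : F) * h
  have har_neg : ∀ v z : Fin n → F, f v (-z) = - f v z := fun v z => by
    rw [← neg_one_smul F z, hsr, neg_one_mul]
  have hdual : ∀ v w : Fin n → F, w ∉ F ∙ v → ∃ x, f x v = 0 ∧ f x w = 1 := by
    intro v w hw
    obtain ⟨a, ha, haw⟩ := exists_functional (F ∙ v) hw
    obtain ⟨z, hz⟩ := hψsurj a
    refine ⟨-z, ?_, ?_⟩
    · rw [hskew, har_neg v z, ← hψd, show ψ z = a from hz, ha v (Submodule.mem_span_singleton_self v), neg_zero, neg_zero]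
    · rw [hskew, har_neg w z, ← hψd, show ψ z = a from hz, haw, neg_neg]
  refine ⟨lt_of_le_of_ne inf_le_right ?_, ?_⟩
  · intro h
    haveI : Nonempty (Fin n) := ⟨⟨0, by omega⟩⟩
    obtain ⟨v, hv⟩ := exists_ne (0 : Fin n → F)
    let L : (Fin n → F) →ₗ[F] F :=
      { toFun := fun a => a ⬝ᵥ v
        map_add' := fun a b => add_dotProduct a b v
        map_smul' := fun c a => smul_dotProduct c a v }
    obtain ⟨b, hb, hbt⟩ : ∃ b ∈ LinearMap.ker L, b ∉ F ∙ ψ v := by
      refine SetLike.not_le_iff_exists.mp fun hle => ?_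
      have h1 := Submodule.finrank_mono hle
      have h2 := L.finrank_range_add_finrank_ker
      have h3 := Submodule.finrank_le (LinearMap.range L)
      have h4 : Module.finrank F (F ∙ ψ v) ≤ 1 := (finrank_span_le_card {ψ v}).trans (by simp)
      rw [Module.finrank_fin_fun] at h2
      rw [Module.finrank_self] at h3
      omega
    obtain ⟨t, ht⟩ := hout v b hv hb fun h' => (h ▸ tv_mem_specialLinear v b h').1
    exact hbt (Submodule.mem_span_singleton.mpr ⟨t, ht.symm⟩)
  intro M hle hMS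
  by_cases hMf : M ≤ Cfsg.Geo.similarityGroup f
  · exact Or.inl (le_antisymm (le_inf hMf hMS) hle)
  right
  obtain ⟨g, hgM, hg⟩ := SetLike.not_le_iff_exists.mp hMf
  set gi : Matrix (Fin n) (Fin n) F := ((g⁻¹ : Matrix.GeneralLinearGroup (Fin n) F) : Matrix (Fin n) (Fin n) F) with hgi
  -- the conjugate form
  set ψ' : (Fin n → F) → (Fin n → F) := fun v => ψ (gi *ᵥ v) ᵥ* gi with hψ'
  have hψ'd : ∀ v x, ψ' v ⬝ᵥ x = f (gi *ᵥ x) (gi *ᵥ v) := fun v x => by
    rw [hψ', ← Matrix.dotProduct_mulVec, hψd]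
  have hconj : ∀ (v : Fin n → F) (c : F), InK M v (c • ψ' v) := by
    intro v c
    have h := (show InK M (gi *ᵥ v) (c • ψ (gi *ᵥ v)) from ⟨hsymp _ c, hle (hT _ c)⟩).conj hgM
    rw [Matrix.mulVec_mulVec, hgi, ← Units.val_mul, mul_inv_cancel, Units.val_one, Matrix.one_mulVec,
      Matrix.smul_vecMul] at h
    exact h
  -- some centre carries a second functional
  obtain ⟨v, hv, hb⟩ : ∃ v, v ≠ 0 ∧ ψ' v ∉ F ∙ ψ v := by
    by_contra hc
    push Not at hc
    refine hg ?_
    have hlam : ∀ v : Fin n → F, v ≠ 0 → ∃ t : F, ∀ x, f (gi *ᵥ x) (gi *ᵥ v) = t * f x v := fun v hv => by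
      obtain ⟨t, ht⟩ := Submodule.mem_span_singleton.mp (hc v hv)
      exact ⟨t, fun x => by rw [← hψ'd, ← ht, smul_dotProduct, hψd, smul_eq_mul]⟩
    choose lam hlam using hlam
    haveI : Nonempty (Fin n) := ⟨⟨0, by omega⟩⟩
    obtain ⟨v₀, hv₀⟩ := exists_ne (0 : Fin n → F)
    have key : ∀ v w (hv : v ≠ 0) (hw : w ≠ 0), w ∉ F ∙ v → lam v hv = lam w hw := by
      intro v w hv hw hvw
      have hvw' : v ∉ F ∙ w := fun h => by
        obtain ⟨c, rfl⟩ := Submodule.mem_span_singleton.mp h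
        have hc0 : c ≠ 0 := fun h0 => hv (by rw [h0, zero_smul])
        exact hvw (Submodule.mem_span_singleton.mpr ⟨c⁻¹, by rw [smul_smul, inv_mul_cancel₀ hc0, one_smul]⟩)
      have hs : v + w ≠ 0 := fun h => hvw (Submodule.mem_span_singleton.mpr
        ⟨-1, by rw [neg_one_smul]; exact (eq_neg_of_add_eq_zero_right h).symm⟩)
      obtain ⟨x, hxv, hxw⟩ := hdual v w hvw
      obtain ⟨y, hyw, hyv⟩ := hdual w v hvw'
      have e1 := hlam (v + w) hs x
      have e2 := hlam (v + w) hs y
      rw [Matrix.mulVec_add, har, har, hlam v hv, hlam w hw, hxv, hxw] at e1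
      rw [Matrix.mulVec_add, har, har, hlam v hv, hlam w hw, hyv, hyw] at e2
      linear_combination e2 - e1
    have hall : ∀ v (hv : v ≠ 0), lam v hv = lam v₀ hv₀ := by
      intro v hv
      by_cases h : v₀ ∈ F ∙ v
      · obtain ⟨w, hw⟩ : ∃ w, w ∉ F ∙ v := by
          refine SetLike.exists_not_mem_of_ne_top _ fun htop => ?_
          have h4 : Module.finrank F (F ∙ v) ≤ 1 := (finrank_span_le_card {v}).trans (by simp)
          rw [htop, finrank_top, Module.finrank_fin_fun] at h4
          omega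
        have hw0 : w ≠ 0 := fun h0 => hw (h0 ▸ Submodule.zero_mem _)
        rw [key v w hv hw0 hw, key v₀ w hv₀ hw0 fun h' => hw ?_]
        exact (Submodule.span_singleton_le_iff_mem v₀ _).mpr h h'
      · exact key v v₀ hv hv₀ h
    have hl0 : lam v₀ hv₀ ≠ 0 := by
      intro h0
      obtain ⟨x, hx⟩ := hinj (gi *ᵥ v₀) (fun h => hv₀ (by
        have := congrArg ((g : Matrix (Fin n) (Fin n) F) *ᵥ ·) h
        simpa [hgi, Matrix.mulVec_mulVec, ← Units.val_mul] using this))
      refine hx ?_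
      have := hlam v₀ hv₀ ((g : Matrix (Fin n) (Fin n) F) *ᵥ x)
      rwa [h0, zero_mul, Matrix.mulVec_mulVec, hgi, ← Units.val_mul, inv_mul_cancel, Units.val_one,
        Matrix.one_mulVec] at this
    refine ⟨(Units.mk0 _ hl0)⁻¹, fun x y => ?_⟩
    rw [Units.val_inv_eq_inv_val, Units.val_mk0]
    rcases eq_or_ne ((g : Matrix (Fin n) (Fin n) F) *ᵥ y) 0 with h0 | h0
    · have hy : y = 0 := by
        have := congrArg (gi *ᵥ ·) h0
        simpa [hgi, Matrix.mulVec_mulVec, ← Units.val_mul] using this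
      rw [h0, hy]
      have hz : ∀ z, f z 0 = 0 := fun z => by simpa using hsr 0 z 0
      rw [hz, hz, mul_zero]
    · have := hlam _ h0 ((g : Matrix (Fin n) (Fin n) F) *ᵥ x)
      rw [hall] at this
      rw [Matrix.mulVec_mulVec, Matrix.mulVec_mulVec, hgi, ← Units.val_mul, inv_mul_cancel, Units.val_one,
        Matrix.one_mulVec, Matrix.one_mulVec] at this
      field_simp
      linear_combination (-1 : F) * this
  set b := ψ' v with hbdef
  have hbv : b ⬝ᵥ v = 0 := by rw [hψ'd, halt]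
  have hconjb : ∀ c : F, InK M v (c • b) := hconj v
  clear_value b
  -- all functionals at v
  have hfull : FullAt M v := by
    have hstep : ∀ w, f v w = 0 → b ⬝ᵥ w ≠ 0 → InK M v (ψ w) := by
      intro w hvw hbw
      have h1 : InK M v ((b ⬝ᵥ w)⁻¹ • b) := hconjb _
      have h2 := h1.conj (hle (hT w 1))
      have hfix : (tv w ((1 : F) • ψ w) (hsymp w 1) : Matrix (Fin n) (Fin n) F) *ᵥ v = v := by
        rw [tv_mulVec, smul_dotProduct, hψd, hvw, smul_zero, zero_smul, add_zero]
      rw [hfix, tv_inv] at h2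
      have h3 := h1.sub h2
      convert h3 using 1
      refine dotProduct_eq _ _ fun x => ?_
      rw [sub_dotProduct, ← Matrix.dotProduct_mulVec ((b ⬝ᵥ w)⁻¹ • b) _ x, tv_mulVec]
      simp only [dotProduct_add, dotProduct_smul, smul_dotProduct, neg_dotProduct, smul_eq_mul, hψd]
      field_simp
      ring
    obtain ⟨x₀, hx₀v, hx₀b⟩ : ∃ w, f v w = 0 ∧ b ⬝ᵥ w ≠ 0 := by
      by_contra hc
      push Not at hc
      obtain ⟨x₁, hx₁⟩ := hinj v hv
      refine hb (Submodule.mem_span_singleton.mpr ⟨b ⬝ᵥ x₁ / f x₁ v, dotProduct_eq _ _ fun x => ?_⟩)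
      have h := hc (x - (f x v / f x₁ v) • x₁) (by
        have h' : ∀ z, f v z = - f z v := fun z => hskew v z
        rw [h', sub_eq_add_neg, ← neg_smul, hal, hsl]
        field_simp
        ring)
      rw [dotProduct_sub, dotProduct_smul, smul_eq_mul, sub_eq_zero] at h
      rw [smul_dotProduct, hψd, smul_eq_mul, h]
      ring
    intro a ha
    obtain ⟨w, hw⟩ := hψsurj a
    have hw' : ψ w = a := hw
    subst hw'
    rw [hψd] at ha
    by_cases hbw : b ⬝ᵥ w = 0
    · have h1 := hstep (w + x₀) (by rw [har, ha, hx₀v, add_zero]) (by rw [dotProduct_add, hbw, zero_add]; exact hx₀b)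
      have h2 := hstep x₀ hx₀v hx₀b
      have h3 := h1.sub h2
      rwa [show ψ (w + x₀) = ψ w + ψ x₀ from map_add ψl w x₀, add_sub_cancel_right] at h3
    · exact hstep w ha hbw
  -- transport to every vector
  have hmove : ∀ u x, FullAt M u → f u x ≠ 0 → FullAt M x := by
    intro u x hu hux
    have h := hu.conj (hle (hT (x - u) (1 / f u (x - u))))
    have hd : f u (x - u) = f u x := by
      rw [sub_eq_add_neg, ← neg_one_smul F u, har, hsr, halt, mul_zero, add_zero]
    rwa [tv_mulVec, smul_dotProduct, hψd, smul_eq_mul, hd, one_div, inv_mul_cancel₀ hux, one_smul,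
      add_sub_cancel] at h
  refine le_antisymm hMS (specialLinear_le_of_fullAt fun u => ?_)
  rcases eq_or_ne u 0 with rfl | hu
  · simpa using hfull.smul 0
  obtain ⟨z₁, hz₁⟩ := (hnd v hv).2
  obtain ⟨z₂, hz₂⟩ := (hnd u hu).1
  by_cases h1 : f z₁ u = 0
  · by_cases h2 : f v z₂ = 0
    · exact hmove (z₁ + z₂) u (hmove v _ hfull (by rw [har, h2, add_zero]; exact hz₁))
        (by rw [hal, h1, zero_add]; exact hz₂)
    · exact hmove z₂ u (hmove v z₂ hfull h2) hz₂
  · exact hmove z₁ u (hmove v z₁ hfull hz₁) h1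

end Cfsg.Agent.S5642
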