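import Cfsg.Statements.S5643
import Cfsg.Agent.Lib.MaxSub.Unitary

set_option autoImplicit false
open Cfsg

namespace Cfsg.Agent.S5643

open Cfsg.Agent.Lib.MaxSub Matrix
open scoped MatrixGroups Matrix

section
variable {ι : Type} [Fintype ι] [DecidableEq ι] {F : Type*} [Field F] (h : HermF ι F) {K : Subgroup (GL ι F)}

/-- A transvection preserving the form up to a scalar is a unitary transvection. -/
theorem tv_eq_trans [Finite F] (hn : 5 ≤ Fintype.card ι) {v b : ι → F} (hbv : b ⬝ᵥ v = 0) (hv : v ≠ 0)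
    (hb : b ≠ 0) {μ : F}
    (hμ : ∀ x y, h.B ((tv v b hbv : Matrix ι ι F) *ᵥ x) ((tv v b hbv : Matrix ι ι F) *ᵥ y) = μ * h.B x y) :
    h.Iso v ∧ ∃ t, b = t • h.psi v ∧ t + h.σ t = 0 := by
  obtain ⟨w, hw⟩ := h.psi_surjective b
  have hw0 : w ≠ 0 := fun e => hb (by rw [← hw, e, h.psi_zero])
  obtain ⟨e, he, e', he', -, -, hee'⟩ := h.exists_hyperbolic (F ∙ w) (by rw [finrank_span_singleton hw0]; omega)
  have hexp : ∀ x y, h.B x y + h.σ (b ⬝ᵥ x) * h.B v y + (b ⬝ᵥ y) * h.B x v
      + h.σ (b ⬝ᵥ x) * (b ⬝ᵥ y) * h.B v v = μ * h.B x y := by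
    intro x y
    have := hμ x y
    simp only [tv_mulVec, map_add, LinearMap.map_smulₛₗ, LinearMap.add_apply, LinearMap.smul_apply,
      smul_eq_mul, map_smul] at this
    linear_combination this
  have hker : ∀ x, x ∈ h.perp (F ∙ w) → b ⬝ᵥ x = 0 := fun x hx => by
    rw [← hw, h.psi_dot]; exact h.mem_perp_span.mp hx
  have hμ1 : μ = 1 := by
    have := hexp e e'
    rw [hker e he, hker e' he', map_zero, hee'] at this
    linear_combination -this
  subst hμ1
  obtain ⟨x₁, hx₁⟩ : ∃ x, b ⬝ᵥ x ≠ 0 := by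
    by_contra hc; push Not at hc
    exact hb (dotProduct_eq _ _ fun x => by rw [hc x, zero_dotProduct])
  have hperp : ∀ y, b ⬝ᵥ y = 0 → h.B v y = 0 := by
    intro y hy
    have := hexp x₁ y
    rw [hy] at this
    have h' : h.σ (b ⬝ᵥ x₁) * h.B v y = 0 := by linear_combination this
    exact (mul_eq_zero.mp h').resolve_left fun h0 => hx₁ (h.σ_eq_zero.mp h0)
  obtain ⟨x₀, hx₀⟩ : ∃ x, b ⬝ᵥ x = 1 :=
    ⟨(b ⬝ᵥ x₁)⁻¹ • x₁, by rw [dotProduct_smul, smul_eq_mul, inv_mul_cancel₀ hx₁]⟩
  have hprop : ∀ y, h.B v y = h.B v x₀ * (b ⬝ᵥ y) := fun y => by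
    have := hperp (y - (b ⬝ᵥ y) • x₀) (by rw [dotProduct_sub, dotProduct_smul, hx₀, smul_eq_mul, mul_one, sub_self])
    rw [map_sub, map_smul, smul_eq_mul, sub_eq_zero] at this
    rw [this, mul_comm]
  have hvv : h.B v v = 0 := by rw [hprop, hbv, mul_zero]
  have hne : h.B v x₀ ≠ 0 := fun h0 => hv (h.nondeg.1 v fun y => by rw [hprop, h0, zero_mul])
  refine ⟨hvv, (h.B v x₀)⁻¹, dotProduct_eq _ _ fun y => ?_, ?_⟩
  · rw [smul_dotProduct, h.psi_dot, smul_eq_mul, hprop y, ← mul_assoc, inv_mul_cancel₀ hne, one_mul]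
  · have := hexp x₀ x₀
    rw [hx₀, map_one, hvv] at this
    have h2 : h.B x₀ v = h.σ (h.B v x₀) := (h.herm v x₀).symm
    rw [map_inv₀, ← h2]
    have hne2 : h.B x₀ v ≠ 0 := by rw [h2]; exact fun h0 => hne (h.σ_eq_zero.mp h0)
    field_simp
    linear_combination this

variable [Finite F] (hn : 13 ≤ Fintype.card ι)
  (hU : ∀ g, h.Preserves g → g ∈ Cfsg.Geo.specialLinear ι F → g ∈ K)
include hn hU

theorem trans_inK (w : ι → F) (hw : h.Iso w) {c : F} (hc : c + h.σ c = 0) : InK K w (c • h.psi w) :=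
  ⟨h.iso_dot hw c, hU _ (h.trans_preserves w hw hc) (tv_mem_specialLinear _ _ _)⟩

/-- From a transvection in general position to an orthogonal pair of isotropic vectors. -/
theorem exists_pair_of_general {v b : ι → F} (hb : InK K v b) (hv0 : v ≠ 0) (hgen : b ∉ F ∙ h.psi v) :
    ∃ w u, h.Iso w ∧ h.Iso u ∧ h.B w u = 0 ∧ LinearIndependent F ![w, u] ∧ InK K w (h.psi u) := by
  obtain ⟨c, hc0, hc⟩ := h.exists_trace_zero
  have htr : ∀ w (hw : h.Iso w), InK K w (c • h.psi w) := fun w hw => trans_inK h hn hU w hw hc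
  obtain ⟨x, hx, hbx⟩ : ∃ x, h.B v x = 0 ∧ b ⬝ᵥ x ≠ 0 := by
    by_contra hcon
    push Not at hcon
    obtain ⟨y, hy⟩ : ∃ y, h.B v y ≠ 0 := by
      by_contra h'; push Not at h'; exact hv0 (h.nondeg.1 v h')
    refine hgen (Submodule.mem_span_singleton.mpr ⟨(b ⬝ᵥ y) / h.B v y, dotProduct_eq _ _ fun x => ?_⟩)
    have := hcon (x - (h.B v x / h.B v y) • y) (by
      rw [map_sub, map_smul, smul_eq_mul, div_mul_cancel₀ _ hy, sub_self])
    rw [dotProduct_sub, dotProduct_smul, smul_eq_mul, sub_eq_zero] at this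
    rw [smul_dotProduct, h.psi_dot, smul_eq_mul, this]
    ring
  obtain ⟨w, hwv, hw, hbw⟩ := h.exists_iso_dot_ne_zero (F ∙ v) (by rw [finrank_span_singleton hv0]; omega)
    (h.mem_perp_span.mpr hx) hbx
  rw [h.mem_perp_span] at hwv
  have h1 : InK K v (((b ⬝ᵥ w) * c) • h.psi w) := by
    have := InK.commutator hb (htr w hw) (by
      rw [smul_dotProduct, h.psi_dot, h.eq_zero_comm hwv, smul_zero])
    rwa [smul_smul] at this
  set u := h.σ ((b ⬝ᵥ w) * c) • w with hu
  have hupsi : h.psi u = ((b ⬝ᵥ w) * c) • h.psi w := by rw [hu, h.psi_smul, h.invol]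
  rw [← hupsi] at h1
  have huw : h.σ ((b ⬝ᵥ w) * c) ≠ 0 := fun e => mul_ne_zero hbw hc0 (h.σ_eq_zero.mp e)
  have hu0 : u ≠ 0 := by
    rw [hu]
    exact smul_ne_zero huw fun e => hbw (by rw [e, dotProduct_zero])
  have hui : h.Iso u := HermF.Iso.smul hw _
  have hvu : v ∉ F ∙ u := fun hm => by
    obtain ⟨k, hk⟩ := Submodule.mem_span_singleton.mp hm
    have h0 := hb.dot
    rw [← hk, hu, smul_smul, dotProduct_smul, smul_eq_mul] at h0
    rcases mul_eq_zero.mp h0 with h0 | h0
    · exact hv0 (by rw [← hk, hu, smul_smul, h0, zero_smul])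
    · exact hbw h0
  have huv : h.B u v = 0 := by rw [← h.psi_dot]; exact h1.dot
  obtain ⟨z, hz, hzv⟩ : ∃ z, h.B u z = 0 ∧ h.B v z ≠ 0 := by
    obtain ⟨z, hz, hz1⟩ := h.exists_perp_eq_one (F ∙ u) hvu
    exact ⟨z, h.eq_zero_comm (hz u (Submodule.mem_span_singleton_self u)),
      fun e => one_ne_zero (hz1.symm.trans (h.eq_zero_comm e))⟩
  obtain ⟨w₂, hw₂u, hw₂, hvw₂⟩ := h.exists_iso_dot_ne_zero (a := h.psi v) (F ∙ u)
    (by rw [finrank_span_singleton hu0]; omega) (h.mem_perp_span.mpr hz) (by rw [h.psi_dot]; exact hzv)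
  rw [h.mem_perp_span] at hw₂u
  rw [h.psi_dot] at hvw₂
  have h2 := InK.commutator (htr w₂ hw₂) h1 (by rw [h.psi_dot]; exact hw₂u)
  rw [smul_dotProduct, h.psi_dot, smul_eq_mul] at h2
  set k := c * h.B w₂ v with hk
  have hk0 : k ≠ 0 := mul_ne_zero hc0 fun e => hvw₂ (h.eq_zero_comm e)
  refine ⟨w₂, h.σ k • u, hw₂, HermF.Iso.smul hui _, by
    rw [map_smul, h.eq_zero_comm hw₂u, smul_zero], ?_, ?_⟩
  · rw [LinearIndependent.pair_iff' (fun e => hvw₂ (by rw [e, map_zero]))]
    intro a ha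
    have h' := congrArg (fun y => h.B y v) ha
    simp only [LinearMap.map_smulₛₗ, LinearMap.smul_apply, huv, smul_zero] at h'
    have ha0 : a = 0 := h.σ_eq_zero.mp ((smul_eq_zero.mp h').resolve_right fun e => hvw₂ (h.eq_zero_comm e))
    rw [ha0, zero_smul] at ha
    exact smul_ne_zero (fun e => hk0 (h.σ_eq_zero.mp e)) hu0 ha.symm
  · rw [h.psi_smul, h.invol]; exact h2

/-- Special isometries and one further transvection generate every transvection. -/
theorem fullAt_all {v b : ι → F} (hb : InK K v b) (hv0 : v ≠ 0) (hb0 : b ≠ 0)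
    (hout : ¬ (h.Iso v ∧ ∃ t, b = t • h.psi v ∧ t + h.σ t = 0)) : ∀ x, FullAt K x := by
  obtain ⟨v, b, hb, hv0, hgen⟩ : ∃ v b, InK K v b ∧ v ≠ 0 ∧ b ∉ F ∙ h.psi v := by
    by_cases hgen : b ∉ F ∙ h.psi v
    · exact ⟨v, b, hb, hv0, hgen⟩
    push Not at hgen
    obtain ⟨t, ht⟩ := Submodule.mem_span_singleton.mp hgen
    have ht0 : t ≠ 0 := fun e => hb0 (by rw [← ht, e, zero_smul])
    have hvi : h.Iso v := by
      have := hb.dot
      rw [← ht, smul_dotProduct, h.psi_dot, smul_eq_mul] at this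
      exact (mul_eq_zero.mp this).resolve_left ht0
    have htt : t + h.σ t ≠ 0 := fun e => hout ⟨hvi, t, ht.symm, e⟩
    obtain ⟨z, hz⟩ : ∃ z, h.psi v ⬝ᵥ z ≠ 0 := by
      by_contra h'; push Not at h'
      exact hv0 (h.nondeg.1 v fun y => by rw [← h.psi_dot, h' y])
    obtain ⟨w, -, hw, hvw⟩ := h.exists_iso_dot_ne_zero (a := h.psi v) (x := z) ⊥ (by simp; omega)
      (fun p hp => by rw [(Submodule.mem_bot F).mp hp, map_zero, LinearMap.zero_apply]) hz
    rw [h.psi_dot] at hvw
    have hw0 : w ≠ 0 := fun e => hvw (by rw [e, map_zero])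
    obtain ⟨g, hg1, hg2, hgv⟩ := h.exists_special_map_one (by omega) hvi hw hv0 hw0
    have hw' : InK K w (t • h.psi w) := by
      have := hb.conj (hU g hg1 hg2)
      rwa [← ht, Matrix.smul_vecMul, h.psi_vecMul_inv hg1, hgv] at this
    obtain ⟨hwd, hwk⟩ := hw'
    have hβ : h.B w v ≠ 0 := fun e => hvw (h.eq_zero_comm e)
    have hconj := hb.conj hwk
    rw [tv_mulVec, smul_dotProduct, h.psi_dot, smul_eq_mul, ← ht, tv_inv] at hconj
    set v' := v + (t * h.B w v) • w with hv'
    have hv'0 : v' ≠ 0 := fun e => by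
      have := congrArg (h.B w) e
      rw [map_add, map_smul, show h.B w w = 0 from hw, smul_zero, add_zero, map_zero] at this
      exact hβ this
    refine ⟨v', _, hconj, hv'0, fun hm => ?_⟩
    obtain ⟨s, hs⟩ := Submodule.mem_span_singleton.mp hm
    have key : ∀ x, s * (h.B v x + h.σ (t * h.B w v) * h.B w x) = t * (h.B v x - t * h.B w x * h.B v w) := by
      intro x
      have := congrArg (fun a => a ⬝ᵥ x) hs
      simp only [← Matrix.dotProduct_mulVec, tv_mulVec, smul_dotProduct, neg_dotProduct, dotProduct_add,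
        dotProduct_smul, h.psi_dot, smul_eq_mul, hv', h.psi_add, h.psi_smul, add_dotProduct] at this
      linear_combination this
    have e1 := key w
    rw [show h.B w w = 0 from hw] at e1
    have hst : s = t := by
      refine mul_right_cancel₀ hvw ?_
      linear_combination e1
    have e2 := key v
    rw [show h.B v v = 0 from hvi, map_mul, h.herm, hst] at e2
    have e3 : t * (h.B v w * h.B w v) * (h.σ t + t) = 0 := by linear_combination e2
    rcases mul_eq_zero.mp e3 with e4 | e4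
    · exact mul_ne_zero ht0 (mul_ne_zero hvw hβ) e4
    · exact htt (by rw [add_comm]; exact e4)
  obtain ⟨w, u, hw, hu, hwu, hind, hk⟩ := exists_pair_of_general h hn hU hb hv0 hgen
  have hpair : ∀ v' u', h.Iso v' → h.Iso u' → h.B v' u' = 0 → LinearIndependent F ![v', u'] → InK K v' (h.psi u') := by
    intro v' u' h1 h2 h3 h4
    obtain ⟨g, hg1, hg2, hgw, hgu⟩ := h.exists_special_map_two (by omega) hw hu hwu hind h1 h2 h3 h4
    have := hk.conj (hU g hg1 hg2)
    rwa [h.psi_vecMul_inv hg1, hgw, hgu] at this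
  have hiso : ∀ v', h.Iso v' → FullAt K v' := by
    intro v' hv'
    rcases eq_or_ne v' 0 with rfl | hv'0
    · exact FullAt.zero K
    have hindep : ∀ x, x ∉ F ∙ v' → LinearIndependent F ![v', x] := fun x hx =>
      (LinearIndependent.pair_iff' hv'0).mpr fun a ha => hx (Submodule.mem_span_singleton.mpr ⟨a, ha⟩)
    have hline : ∀ c : F, InK K v' (h.psi (c • v')) := by
      intro c
      obtain ⟨e, he, e', he', hei, he'i, hee'⟩ := h.exists_hyperbolic (F ∙ v') (by rw [finrank_span_singleton hv'0]; omega)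
      rw [h.mem_perp_span] at he he'
      have hev : e ∉ F ∙ v' := fun hm => by
        obtain ⟨a, rfl⟩ := Submodule.mem_span_singleton.mp hm
        rw [LinearMap.map_smulₛₗ, LinearMap.smul_apply, he', smul_zero] at hee'
        exact zero_ne_one hee'
      have h1 := hpair v' e hv' hei he (hindep e hev)
      have h2 : InK K v' (h.psi (e + c • v')) := hpair v' _ hv'
        (by
          show h.B (e + c • v') (e + c • v') = 0
          simp [LinearMap.map_smulₛₗ, show h.B e e = 0 from hei, show h.B v' v' = 0 from hv', he, h.eq_zero_comm he])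
        (by rw [map_add, map_smul, he, show h.B v' v' = 0 from hv', smul_zero, add_zero])
        (hindep _ fun hm => hev (by simpa using (F ∙ v').sub_mem hm (Submodule.smul_mem _ c (Submodule.mem_span_singleton_self v'))))
      have h3 := h2.sub h1
      rwa [h.psi_add, add_sub_cancel_left] at h3
    intro a ha
    obtain ⟨u, rfl⟩ := h.psi_surjective a
    rw [h.psi_dot] at ha
    have hall : ∀ y ∈ Submodule.span F {p | p ∈ h.perp (F ∙ v') ∧ h.Iso p}, ∀ c : F, InK K v' (h.psi (c • y)) := by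
      intro y hy
      induction hy using Submodule.span_induction with
      | mem p hp =>
        intro c
        by_cases hm : c • p ∈ F ∙ v'
        · obtain ⟨d, hd⟩ := Submodule.mem_span_singleton.mp hm
          rw [← hd]; exact hline d
        · exact hpair v' _ hv' (HermF.Iso.smul hp.2 c)
            (by rw [map_smul, h.mem_perp_span.mp hp.1, smul_zero]) (hindep _ hm)
      | zero => intro c; rw [smul_zero, h.psi_zero]; exact InK.zero v'
      | add p q _ _ hp hq => intro c; rw [smul_add, h.psi_add]; exact (hp c).add (hq c)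
      | smul d p _ hp => intro c; rw [smul_smul]; exact hp _
    have := hall u (h.perp_le_span_iso (F ∙ v') (by rw [finrank_span_singleton hv'0]; omega)
      (h.mem_perp_span.mpr (h.eq_zero_comm ha))) 1
    rwa [one_smul] at this
  intro x
  refine FullAt.of_mem_span (S := {p | p ∈ h.perp ⊥ ∧ h.Iso p}) (fun s hs => hiso s hs.2)
    (h.perp_le_span_iso ⊥ (by simp; omega) fun p hp => by
      rw [(Submodule.mem_bot F).mp hp, map_zero, LinearMap.zero_apply])

/-- A pairwise non-orthogonal spanning family of isotropic vectors. -/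
theorem exists_iso_family :
    ∃ S : Set (ι → F), (∀ s ∈ S, h.Iso s) ∧ (∀ s ∈ S, ∀ s' ∈ S, s ≠ s' → h.B s s' ≠ 0) ∧
      Submodule.span F S = ⊤ ∧ ∃ s₁ ∈ S, ∃ s₂ ∈ S, ∃ s₃ ∈ S, s₁ ≠ s₂ ∧ s₁ ≠ s₃ ∧ s₂ ≠ s₃ := by
  classical
  obtain ⟨N, b, hb, hN⟩ : ∃ (N : ℕ) (b : Module.Basis (Fin N) F (ι → F)),
      (∀ i j, h.B (b i) (b j) = if i = j then 1 else 0) ∧ N = Module.finrank F (ι → F) := by
    obtain ⟨b, hb⟩ := Cfsg.Agent.Lib.Geometry.exists_orthonormal_basis h.σ_ne h.invol h.B h.symm h.nondeg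
    exact ⟨_, b, hb, rfl⟩
  have hN' : N = Fintype.card ι := hN.trans (Module.finrank_fintype_fun_eq_card F)
  let i0 : Fin N := ⟨0, by omega⟩
  let i1 : Fin N := ⟨1, by omega⟩
  obtain ⟨a, ha⟩ := Cfsg.Agent.Lib.Geometry.exists_mul_conj_eq h.σ_ne h.invol (s := (-1 : F)) (by rw [map_neg, map_one])
  obtain ⟨e, he⟩ := h.exists_moved
  have he0 : e ≠ 0 := fun e' => he (by rw [e', map_zero])
  have hse0 : h.σ e ≠ 0 := fun e' => he0 (h.σ_eq_zero.mp e')
  have ha0 : a ≠ 0 := fun e' => by rw [e'] at ha; simp at ha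
  set a' := a * (h.σ e / e) with ha'def
  have ha' : a' * h.σ a' = -1 := by
    rw [ha'def, map_mul, map_div₀, h.invol]
    field_simp
    linear_combination ha
  have haa : a' ≠ a := by
    rw [ha'def]
    intro h'
    have h'' : h.σ e / e = 1 := mul_left_cancel₀ ha0 (h'.trans (mul_one a).symm)
    rw [div_eq_one_iff_eq he0] at h''
    exact he h''
  let s : Option (Fin N) → (ι → F) := fun o => o.elim (b i0 + a' • b i1) (fun i => b i0 + a • b i)
  refine ⟨Set.range fun o : {o : Option (Fin N) // o ≠ some i0} => s o.1, ?_, ?_, ?_, ?_⟩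
  · rintro _ ⟨⟨o, ho⟩, rfl⟩
    cases o with
    | none =>
      show h.B _ _ = 0
      simp [s, LinearMap.map_smulₛₗ, hb, i0, i1, Fin.ext_iff]
      linear_combination ha'
    | some i =>
      have hi : i ≠ i0 := fun e' => ho (by rw [e'])
      show h.B _ _ = 0
      simp [s, LinearMap.map_smulₛₗ, hb, hi, Ne.symm hi]
      linear_combination ha
  · rintro _ ⟨⟨o, ho⟩, rfl⟩ _ ⟨⟨o', ho'⟩, rfl⟩ hne
    have h01 : i0 ≠ i1 := by simp [i0, i1, Fin.ext_iff]
    have key : ∀ (x y : F) (i j : Fin N), i ≠ i0 → j ≠ i0 →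
        h.B (b i0 + x • b i) (b i0 + y • b j) = 1 + (if i = j then h.σ x * y else 0) := by
      intro x y i j hi hj
      by_cases hij : i = j <;> simp [LinearMap.map_smulₛₗ, hb, hi, Ne.symm hj, hij, hj, Ne.symm hi] <;> ring
    have hne' : ∀ x : F, x ≠ a → 1 + h.σ a * x ≠ 0 ∧ 1 + h.σ x * a ≠ 0 := by
      intro x hx
      have hsa : h.σ a ≠ 0 := fun e' => ha0 (h.σ_eq_zero.mp e')
      have h1 : 1 + h.σ a * x ≠ 0 := fun e' => hx (mul_left_cancel₀ hsa (by linear_combination e' - ha))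
      refine ⟨h1, fun e' => h1 ?_⟩
      have := congrArg h.σ e'
      rw [map_add, map_mul, h.invol, map_one, map_zero] at this
      linear_combination this
    cases o with
    | none => cases o' with
      | none => exact absurd rfl hne
      | some j =>
        show h.B (b i0 + a' • b i1) (b i0 + a • b j) ≠ 0
        rw [key _ _ _ _ h01.symm (fun e' => ho' (by rw [e']))]
        split_ifs with hj
        · exact (hne' a' haa).2
        · simp
    | some i => cases o' with
      | none =>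
        show h.B (b i0 + a • b i) (b i0 + a' • b i1) ≠ 0
        rw [key _ _ _ _ (fun e' => ho (by rw [e'])) h01.symm]
        split_ifs with hj
        · exact (hne' a' haa).1
        · simp
      | some j =>
        show h.B (b i0 + a • b i) (b i0 + a • b j) ≠ 0
        rw [key _ _ _ _ (fun e' => ho (by rw [e'])) (fun e' => ho' (by rw [e']))]
        rw [if_neg fun e' => hne (by subst e'; rfl)]
        simp
  · set S := Set.range fun o : {o : Option (Fin N) // o ≠ some i0} => s o.1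
    have hmem : ∀ o, o ≠ some i0 → s o ∈ Submodule.span F S := fun o ho => Submodule.subset_span ⟨⟨o, ho⟩, rfl⟩
    have h1 : b i1 ∈ Submodule.span F S := by
      have := sub_mem (hmem none (by simp)) (hmem (some i1) (by simp [i0, i1, Fin.ext_iff]))
      have h' : (a' - a) • b i1 ∈ Submodule.span F S := by
        convert this using 1
        simp only [s, Option.elim]
        module
      have := Submodule.smul_mem _ (a' - a)⁻¹ h'
      rwa [smul_smul, inv_mul_cancel₀ (sub_ne_zero.mpr haa), one_smul] at this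
    have h0 : b i0 ∈ Submodule.span F S := by
      have := sub_mem (hmem none (by simp)) (Submodule.smul_mem _ a' h1)
      simpa [s] using this
    rw [eq_top_iff, ← b.span_eq, Submodule.span_le]
    rintro _ ⟨i, rfl⟩
    by_cases hi : i = i0
    · rw [hi]; exact h0
    · have := Submodule.smul_mem _ a⁻¹ (sub_mem (hmem (some i) (by simpa using hi)) h0)
      simpa [s, smul_smul, inv_mul_cancel₀ ha0] using this
  · have hi : ∀ k : ℕ, (hk : k + 1 < N) → b i0 + a • b ⟨k + 1, hk⟩ ∈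
        Set.range fun o : {o : Option (Fin N) // o ≠ some i0} => s o.1 :=
      fun k hk => ⟨⟨some ⟨k + 1, hk⟩, by simp [i0, Fin.ext_iff]⟩, rfl⟩
    refine ⟨_, hi 0 (by omega), _, hi 1 (by omega), _, hi 2 (by omega), ?_, ?_, ?_⟩ <;>
    · intro e'
      have := b.injective (smul_right_injective (ι → F) ha0 (add_left_cancel e'))
      simp [Fin.ext_iff] at this

end

/-- For a finite field F and n ≥ 13, let σ be a field automorphism of F of order two and f a non-degenerate unitary form on F^n with respect to σ. Then the elements of SL_n(F) that are similarities of f form a maximal subgroup of SL_n(F). -/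
theorem result {F : Type*} [Field F] [Fintype F] (n : ℕ) (hn : 13 ≤ n) (σ : F ≃+* F) (f : (Fin n → F) → (Fin n → F) → F) (hf : Cfsg.Geo.IsUnitaryForm σ f) : Cfsg.Geo.IsMaximalIn (Cfsg.Geo.specialLinear (Fin n) F) (Cfsg.Geo.similarityGroup f ⊓ Cfsg.Geo.specialLinear (Fin n) F) := by
  classical
  obtain ⟨hσ, hinv, hal, hsl, hherm, hnd⟩ := hf
  have har : ∀ v x y, f v (x + y) = f v x + f v y := fun v x y => by
    rw [hherm, hal, map_add, ← hherm, ← hherm]
  have hsr : ∀ (c : F) (v x : Fin n → F), f v (c • x) = σ c * f v x := fun c v x => by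
    rw [hherm, hsl, map_mul, ← hherm]
  let h : HermF (Fin n) F :=
    { σ := (σ : F →+* F)
      σ_ne := fun e => hσ (RingEquiv.ext fun x => RingHom.congr_fun e x)
      invol := hinv
      B := LinearMap.mk₂'ₛₗ (σ : F →+* F) (RingHom.id F) (fun u v => f v u)
        (fun u u' v => har v u u') (fun c u v => hsr c v u) (fun u v v' => hal v v' u) (fun c u v => hsl c v u)
      symm := ⟨fun u v => (hherm u v).symm⟩
      nondeg := ⟨fun u hu => by_contra fun h0 => by
          obtain ⟨x, hx⟩ := (hnd u h0).1; exact hx (hu x),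
        fun v hv => by_contra fun h0 => by
          obtain ⟨x, hx⟩ := (hnd v h0).2; exact hx (hv x)⟩ }
  have hn' : 13 ≤ Fintype.card (Fin n) := by rw [Fintype.card_fin]; exact hn
  set M₀ := Cfsg.Geo.similarityGroup f ⊓ Cfsg.Geo.specialLinear (Fin n) F with hM₀
  have hU₀ : ∀ g, h.Preserves g → g ∈ Cfsg.Geo.specialLinear (Fin n) F → g ∈ M₀ := fun g hg hs =>
    ⟨⟨1, fun u v => by rw [Units.val_one, one_mul]; exact hg v u⟩, hs⟩
  have hsim : ∀ g ∈ Cfsg.Geo.similarityGroup f, ∃ μ : F, ∀ x y,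
      h.B ((g : Matrix (Fin n) (Fin n) F) *ᵥ x) ((g : Matrix (Fin n) (Fin n) F) *ᵥ y) = μ * h.B x y := fun g hg => by
    obtain ⟨c, hc⟩ := hg
    exact ⟨(c : F), fun x y => hc y x⟩
  refine ⟨lt_of_le_of_ne inf_le_right fun heq => ?_, fun M hle hMS => ?_⟩
  · obtain ⟨a, ha, -⟩ := h.exists_aniso_perp ⊥ (by simp; omega)
    have ha0 : a ≠ 0 := fun e => ha (e ▸ h.iso_zero)
    obtain ⟨b, hb0, hb⟩ : ∃ b, b ≠ 0 ∧ b ⬝ᵥ a = 0 := by
      obtain ⟨e, he, e', -, -, -, hee'⟩ := h.exists_hyperbolic (F ∙ a) (by rw [finrank_span_singleton ha0]; omega)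
      refine ⟨h.psi e, fun e0 => ?_, ?_⟩
      · rw [← h.psi_zero] at e0
        rw [h.psi_injective e0, map_zero, LinearMap.zero_apply] at hee'
        exact zero_ne_one hee'
      · rw [h.psi_dot]; exact h.eq_zero_comm (h.mem_perp_span.mp he)
    have hmem : tv a b hb ∈ M₀ := heq ▸ tv_mem_specialLinear a b hb
    obtain ⟨μ, hμ⟩ := hsim _ hmem.1
    exact ha (tv_eq_trans h (by omega) hb ha0 hb0 hμ).1
  by_cases hMf : M ≤ Cfsg.Geo.similarityGroup f
  · exact Or.inl (le_antisymm (le_inf hMf hMS) hle)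
  right
  refine le_antisymm hMS (specialLinear_le_of_fullAt ?_)
  obtain ⟨g, hgM, hg⟩ := SetLike.not_le_iff_exists.mp hMf
  obtain ⟨c, hc0, hc⟩ := h.exists_trace_zero
  have hU : ∀ g, h.Preserves g → g ∈ Cfsg.Geo.specialLinear (Fin n) F → g ∈ M := fun g h1 h2 => hle (hU₀ g h1 h2)
  set G : Matrix (Fin n) (Fin n) F := (g : Matrix (Fin n) (Fin n) F) with hG
  set Gi : Matrix (Fin n) (Fin n) F := ((g⁻¹ : GL (Fin n) F) : Matrix (Fin n) (Fin n) F) with hGi
  have hGiG : ∀ x, Gi *ᵥ (G *ᵥ x) = x := fun x => by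
    rw [hGi, hG, Matrix.mulVec_mulVec, ← Units.val_mul, inv_mul_cancel, Units.val_one, Matrix.one_mulVec]
  -- some conjugate transvection is not unitary
  obtain ⟨w, hw, hw0, hout⟩ : ∃ w, h.Iso w ∧ w ≠ 0 ∧
      ¬ (h.Iso (G *ᵥ w) ∧ ∃ t, (c • h.psi w) ᵥ* Gi = t • h.psi (G *ᵥ w) ∧ t + h.σ t = 0) := by
    by_contra hcon
    push Not at hcon
    apply hg
    obtain ⟨S, hSi, hSne, hSspan, s₁, hs₁, s₂, hs₂, s₃, hs₃, h12, h13, h23⟩ := exists_iso_family h hn' hU
    have hlam : ∀ s ∈ S, ∃ l, ∀ y, h.B (G *ᵥ s) (G *ᵥ y) = l * h.B s y := by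
      intro s hs
      obtain ⟨s', hs', hss'⟩ : ∃ s' ∈ S, s ≠ s' := by
        by_cases hh : s = s₁
        · exact ⟨s₂, hs₂, hh ▸ h12⟩
        · exact ⟨s₁, hs₁, hh⟩
      have hs0 : s ≠ 0 := fun e => hSne s hs s' hs' hss' (by rw [e, map_zero, LinearMap.zero_apply])
      by_contra hl
      obtain ⟨hi, t, ht, htt⟩ : h.Iso (G *ᵥ s) ∧ ∃ t, (c • h.psi s) ᵥ* Gi = t • h.psi (G *ᵥ s) ∧ t + h.σ t = 0 := by
        have := hcon s (hSi s hs) hs0
        exact this
      have ht0 : t ≠ 0 := by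
        rintro rfl
        rw [zero_smul] at ht
        have h2 := congrArg (fun a => a ⬝ᵥ (G *ᵥ s')) ht
        simp only [zero_dotProduct, ← Matrix.dotProduct_mulVec, hGiG, smul_dotProduct, h.psi_dot, smul_eq_mul] at h2
        exact mul_ne_zero hc0 (hSne s hs s' hs' hss') h2
      refine hl ⟨c / t, fun y => ?_⟩
      have h2 := congrArg (fun a => a ⬝ᵥ (G *ᵥ y)) ht
      simp only [← Matrix.dotProduct_mulVec, hGiG, smul_dotProduct, h.psi_dot, smul_eq_mul] at h2
      field_simp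
      linear_combination -h2
    choose l hl using hlam
    have hsym : ∀ s (hs : s ∈ S) s' (hs' : s' ∈ S), s ≠ s' → l s' hs' = h.σ (l s hs) := by
      intro s hs s' hs' hne
      have h1 := hl s hs s'
      have h2 := hl s' hs' s
      have h3 := congrArg h.σ h1
      rw [map_mul, h.herm, h.herm, h2] at h3
      exact mul_right_cancel₀ (hSne s' hs' s hs hne.symm) h3
    have hfix : h.σ (l s₁ hs₁) = l s₁ hs₁ := by
      have e1 := hsym s₁ hs₁ s₂ hs₂ h12
      have e2 := hsym s₁ hs₁ s₃ hs₃ h13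
      have e3 := hsym s₂ hs₂ s₃ hs₃ h23
      rw [e1, h.invol, e2] at e3
      exact e3
    have hconst : ∀ s (hs : s ∈ S), l s hs = l s₁ hs₁ := fun s hs => by
      by_cases hh : s₁ = s
      · subst hh; rfl
      · rw [hsym s₁ hs₁ s hs hh, hfix]
    have hall : ∀ x y, h.B (G *ᵥ x) (G *ᵥ y) = l s₁ hs₁ * h.B x y := by
      intro x y
      have hx : x ∈ Submodule.span F S := hSspan ▸ Submodule.mem_top
      induction hx using Submodule.span_induction with
      | mem s hs => rw [hl s hs y, hconst s hs]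
      | zero => simp
      | add p q _ _ hp hq => rw [Matrix.mulVec_add, map_add, map_add, LinearMap.add_apply, LinearMap.add_apply, hp, hq, mul_add]
      | smul d p _ hp =>
        simp only [Matrix.mulVec_smul, LinearMap.map_smulₛₗ, LinearMap.smul_apply, smul_eq_mul, hp]
        ring
    have hne : l s₁ hs₁ ≠ 0 := by
      intro e
      have h1 := hall (Gi *ᵥ s₁) (Gi *ᵥ s₂)
      rw [e, zero_mul] at h1
      rw [hG, hGi, Matrix.mulVec_mulVec, Matrix.mulVec_mulVec, ← Units.val_mul, mul_inv_cancel, Units.val_one,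
        Matrix.one_mulVec, Matrix.one_mulVec] at h1
      exact hSne s₁ hs₁ s₂ hs₂ h12 h1
    exact ⟨Units.mk0 _ hne, fun u v => hall v u⟩
  have hin : InK M (G *ᵥ w) ((c • h.psi w) ᵥ* Gi) := (trans_inK h hn' hU w hw hc).conj hgM
  have hGw : G *ᵥ w ≠ 0 := fun e => hw0 (by rw [← hGiG w, e, Matrix.mulVec_zero])
  have hb0 : (c • h.psi w) ᵥ* Gi ≠ 0 := fun e => by
    obtain ⟨y, hy⟩ : ∃ y, h.B w y ≠ 0 := by
      by_contra h'; push Not at h'; exact hw0 (h.nondeg.1 w h')
    have h2 := congrArg (fun a => a ⬝ᵥ (G *ᵥ y)) e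
    simp only [zero_dotProduct, ← Matrix.dotProduct_mulVec, hGiG, smul_dotProduct, h.psi_dot, smul_eq_mul] at h2
    exact mul_ne_zero hc0 hy h2
  exact fullAt_all h hn' hU hin hGw hb0 hout

end Cfsg.Agent.S5643
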