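import Cfsg.Statements.S5644
import Cfsg.Agent.Lib.MaxSub.Orth
import Cfsg.Agent.Lib.MaxSub.Transvec

set_option autoImplicit false
open Cfsg

namespace Cfsg.Agent.S5644

open Cfsg.Agent.Lib.MaxSub Matrix QuadraticMap
open scoped MatrixGroups Matrix
open Cfsg.Agent.Lib.Geometry (quad_add quad_sub quad_smul quad_polar_self quad_polar_comm)

attribute [-simp] QuadraticMap.polarBilin_apply_apply

set_option maxHeartbeats 800000

section core

variable {ι : Type} [Fintype ι] [DecidableEq ι] {F : Type*} [Field F] {Q : QuadraticForm F (ι → F)}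
  (hN : (polarBilin Q).Nondegenerate)

variable (Q) in
/-- The vector of the functional given by `z`. -/
def dv (z : ι → F) : ι → F := toVec (polarBilin Q z)

theorem dv_dot (z x : ι → F) : dv Q z ⬝ᵥ x = polarBilin Q z x := toVec_dot _ x

theorem dv_add (z z' : ι → F) : dv Q (z + z') = dv Q z + dv Q z' := by
  funext j; simp [dv, toVec, map_add]

theorem dv_smul (c : F) (z : ι → F) : dv Q (c • z) = c • dv Q z := by
  funext j; simp [dv, toVec, map_smul]

theorem exists_outside (W : Submodule F (ι → F)) {X : Submodule F (ι → F)}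
    (h : Module.finrank F W < Module.finrank F X) : ∃ r ∈ X, r ∉ W := by
  by_contra hc
  push Not at hc
  exact absurd (Submodule.finrank_mono hc) (not_le.mpr h)

theorem finrank_inf_ker (W : Submodule F (ι → F)) (φ : (ι → F) →ₗ[F] F) :
    Module.finrank F W ≤ Module.finrank F (W ⊓ LinearMap.ker φ : Submodule F (ι → F)) + 1 := by
  let ψ := φ.domRestrict W
  have h1 := ψ.finrank_range_add_finrank_ker
  have h2 : Module.finrank F (LinearMap.range ψ) ≤ 1 := (Submodule.finrank_le _).trans (by simp)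
  have h3 : Module.finrank F (LinearMap.ker ψ) ≤ Module.finrank F (W ⊓ LinearMap.ker φ : Submodule F (ι → F)) := by
    rw [← Submodule.finrank_map_subtype_eq]
    refine Submodule.finrank_mono ?_
    rintro _ ⟨z, hz, rfl⟩
    exact ⟨z.2, hz⟩
  omega

theorem finrank_ker (φ : (ι → F) →ₗ[F] F) : Fintype.card ι ≤ Module.finrank F (LinearMap.ker φ) + 1 := by
  have h := finrank_inf_ker ⊤ φ
  rwa [finrank_top, Module.finrank_fintype_fun_eq_card, top_inf_eq] at h

include hN in
/-- A vector translates to a singular one inside a big subspace. -/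
theorem exists_sing_add [Finite F] (h2 : (2 : F) ≠ 0) (W : Submodule F (ι → F))
    (hW : Fintype.card ι + 3 ≤ 2 * Module.finrank F W) (s : ι → F) : ∃ z ∈ W, Q (s + z) = 0 := by
  haveI : Fintype F := Fintype.ofFinite F
  obtain ⟨p, hp, hQp⟩ : ∃ p ∈ W, Q p ≠ 0 := by
    by_contra hc
    push Not at hc
    have := Orth.finrank_sing_le hN hc
    omega
  obtain ⟨r, hr, hQr⟩ : ∃ r ∈ W ⊓ LinearMap.ker (polarBilin Q p), Q r ≠ 0 := by
    by_contra hc
    push Not at hc
    have := Orth.finrank_sing_le hN hc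
    have := finrank_inf_ker W (polarBilin Q p)
    omega
  have hpr : polarBilin Q p r = 0 := hr.2
  set a := polarBilin Q p s with ha
  set b := polarBilin Q r s with hb
  have hodd : Fintype.card F % 2 = 1 := FiniteField.odd_card_of_char_ne_two fun h => h2 (by
    haveI := ringChar.of_eq h
    exact CharTwo.two_eq_zero)
  obtain ⟨x, y, hxy⟩ := FiniteField.exists_root_sum_quadratic (R := F)
    (f := Polynomial.C (Q p) * Polynomial.X ^ 2 + Polynomial.C (Q s - a ^ 2 / (4 * Q p) - b ^ 2 / (4 * Q r)))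
    (g := Polynomial.C (Q r) * Polynomial.X ^ 2)
    (by rw [Polynomial.degree_add_eq_left_of_degree_lt, Polynomial.degree_C_mul_X_pow 2 hQp]
        · rfl
        · rw [Polynomial.degree_C_mul_X_pow 2 hQp]; exact lt_of_le_of_lt Polynomial.degree_C_le (by norm_num))
    (by rw [Polynomial.degree_C_mul_X_pow 2 hQr]; rfl) hodd
  simp only [Polynomial.eval_add, Polynomial.eval_mul, Polynomial.eval_C, Polynomial.eval_pow, Polynomial.eval_X] at hxy
  refine ⟨(x - a / (2 * Q p)) • p + (y - b / (2 * Q r)) • r,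
    W.add_mem (W.smul_mem _ hp) (W.smul_mem _ hr.1), ?_⟩
  rw [quad_add, quad_add, quad_smul, quad_smul]
  simp only [map_add, map_smul, LinearMap.add_apply, LinearMap.smul_apply, smul_eq_mul, hpr,
    quad_polar_comm Q s p, quad_polar_comm Q s r, ← ha, ← hb, mul_zero, add_zero]
  have h4 : (4 : F) ≠ 0 := by rw [show (4 : F) = 2 * 2 by norm_num]; exact mul_ne_zero h2 h2
  field_simp
  field_simp at hxy
  linear_combination hxy

theorem polar_self_eq {u : ι → F} (hu : Q u = 0) : polarBilin Q u u = 0 := Orth.polar_self_of_sing Q hu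

variable {K : Subgroup (GL ι F)}

/-- The transvection with centre `w` and the functional of `a` lies in `K`. -/
def Ax (Q : QuadraticForm F (ι → F)) (K : Subgroup (GL ι F)) (w a : ι → F) : Prop := InK K w (dv Q a)

theorem Ax.perp {w a : ι → F} (h : Ax Q K w a) : polarBilin Q a w = 0 := by rw [← dv_dot]; exact h.dot

theorem Ax.sub {w w' a : ι → F} (h : Ax Q K w a) (h' : Ax Q K w' a) : Ax Q K (w - w') a := by
  obtain ⟨h1, hm⟩ := h
  obtain ⟨h1', hm'⟩ := h'
  have h3 : dv Q a ⬝ᵥ (w - w') = 0 := by rw [dotProduct_sub, h1, h1', sub_self]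
  refine ⟨h3, ?_⟩
  have := K.mul_mem hm (K.inv_mem hm')
  rwa [show tv w (dv Q a) h1 * (tv w' (dv Q a) h1')⁻¹ = tv (w - w') (dv Q a) h3 from
    Units.ext (eq_of_mulVec_eq fun x => by
      rw [tv_inv, Units.val_mul, ← Matrix.mulVec_mulVec, tv_mulVec, tv_mulVec, tv_mulVec]
      simp only [dotProduct_add, dotProduct_smul, dotProduct_neg, neg_dotProduct, h1', smul_zero, neg_zero, add_zero, neg_smul, smul_sub]
      abel)] at this

theorem Ax.conj {w a : ι → F} (h : Ax Q K w a) {g : GL ι F} (hgK : g ∈ K) (hg : g ∈ Cfsg.isometryGroup F ⇑Q) :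
    Ax Q K ((g : Matrix ι ι F) *ᵥ w) ((g : Matrix ι ι F) *ᵥ a) := by
  have h1 := InK.conj h hgK
  unfold Ax
  convert h1 using 1
  refine dotProduct_eq _ _ fun x => ?_
  rw [dv_dot, ← Matrix.dotProduct_mulVec, dv_dot]
  conv_lhs => rw [show x = (g : Matrix ι ι F) *ᵥ (((g⁻¹ : GL ι F) : Matrix ι ι F) *ᵥ x) by
    rw [Matrix.mulVec_mulVec, ← Units.val_mul, mul_inv_cancel, Units.val_one, Matrix.one_mulVec]]
  rw [Orth.iso_polar hg]

variable (Q K) in
/-- All Eichler elements lie in `K`. -/
def HasEich : Prop := ∀ u x (hu : Q u = 0) (hx : polarBilin Q u x = 0), Orth.eichGL Q u x hu hx ∈ K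

include hN in
/-- One transvection with singular axis gives all those with that axis. -/
theorem Ax.full [Finite F] (h2 : (2 : F) ≠ 0) (hn : 13 ≤ Fintype.card ι) (hE : HasEich Q K) {w a : ι → F}
    (h : Ax Q K w a) (ha : Q a = 0) (hwa : w ∉ F ∙ a) : ∀ z, polarBilin Q a z = 0 → Ax Q K z a := by
  -- the orbit of an element under the stabiliser of the axis
  have key : ∀ w, Ax Q K w a → ∀ p, Q p = 0 → polarBilin Q a p = 0 → polarBilin Q w p ≠ 0 →
      ∀ x, polarBilin Q a x = 0 → polarBilin Q p x = 0 → Ax Q K x a := by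
    intro w hw p₀ hp₀ hap₀ hwp₀
    set p := (polarBilin Q w p₀)⁻¹ • p₀ with hpdef
    have hp : Q p = 0 := by rw [hpdef, quad_smul, hp₀, mul_zero]
    have hap : polarBilin Q a p = 0 := by rw [hpdef, map_smul, hap₀, smul_zero]
    have hwp : polarBilin Q w p = 1 := by rw [hpdef, map_smul, smul_eq_mul, inv_mul_cancel₀ hwp₀]
    intro x hax hpx₀
    have hpx : polarBilin Q p x = 0 := by rw [hpdef, map_smul, LinearMap.smul_apply, hpx₀, smul_zero]
    clear_value p
    have δ : ∀ x, polarBilin Q a x = 0 → polarBilin Q p x = 0 →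
        Ax Q K (x - (polarBilin Q w x + Q x) • p) a := by
      intro x hax hpx
      have h1 := hw.conj (hE p x hp hpx) (Orth.toGL_mem_isometry Q _)
      rw [Orth.eichGL_mulVec, Orth.eichGL_mulVec, hwp, hap, hax] at h1
      simp only [one_smul, mul_one, zero_smul, add_zero, mul_zero, sub_zero] at h1
      have h2 := h1.sub hw
      rwa [show w + x - (polarBilin Q w x + Q x) • p - w = x - (polarBilin Q w x + Q x) • p by abel] at h2
    obtain ⟨r, hr, hQr⟩ : ∃ r ∈ LinearMap.ker (polarBilin Q a) ⊓ LinearMap.ker (polarBilin Q p), Q r ≠ 0 := by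
      by_contra hc
      push Not at hc
      have := Orth.finrank_sing_le hN hc
      have := finrank_inf_ker (LinearMap.ker (polarBilin Q a)) (polarBilin Q p)
      have := finrank_ker (polarBilin Q a)
      omega
    have hP : ∀ c : F, Ax Q K (c • p) a := by
      intro c
      set t := c / (2 * Q r) with ht
      have hr1 : ∀ e : F, polarBilin Q a (e • r) = 0 := fun e => by rw [map_smul, hr.1, smul_zero]
      have hr2 : ∀ e : F, polarBilin Q p (e • r) = 0 := fun e => by rw [map_smul, hr.2, smul_zero]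
      have h1 := ((δ (t • r) (hr1 t) (hr2 t)).sub (δ ((t + 1) • r) (hr1 _) (hr2 _))).sub
        ((δ ((0 : F) • r) (hr1 0) (hr2 0)).sub (δ ((1 : F) • r) (hr1 1) (hr2 1)))
      convert h1 using 1
      have hc : c = 2 * Q r * t := by rw [ht]; field_simp
      simp only [map_smul, smul_eq_mul, quad_smul, zero_smul, one_smul, map_zero]
      rw [hc]
      module
    have h1 := (δ x hax hpx).sub (hP (-(polarBilin Q w x + Q x)))
    rwa [neg_smul, sub_neg_eq_add, sub_add_cancel] at h1
  have haw : polarBilin Q a w = 0 := h.perp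
  obtain ⟨z₀, hz₀a, hz₀w⟩ := Orth.exists_dual hN (F ∙ a) hwa
  have hz₀a' : polarBilin Q a z₀ = 0 := by
    rw [quad_polar_comm]; exact hz₀a a (Submodule.mem_span_singleton_self a)
  obtain ⟨t, ht, hQt⟩ := exists_sing_add hN h2 (LinearMap.ker (polarBilin Q a) ⊓ LinearMap.ker (polarBilin Q w))
    (by have := finrank_inf_ker (LinearMap.ker (polarBilin Q a)) (polarBilin Q w)
        have := finrank_ker (polarBilin Q a); omega) z₀
  set p := z₀ + t with hp
  have hap : polarBilin Q a p = 0 := by rw [hp, map_add, hz₀a', zero_add]; exact ht.1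
  have hwp : polarBilin Q w p = 1 := by rw [hp, map_add, quad_polar_comm Q w z₀, hz₀w, ht.2, add_zero]
  have h1 := key w h p hQt hap (by rw [hwp]; exact one_ne_zero)
  intro z hz
  obtain ⟨C, hC⟩ := Submodule.exists_isCompl (Submodule.span F ({a, p} : Set (ι → F)))
  obtain ⟨p', hp'T, hp'0, hQp'⟩ := Orth.exists_singular (Q := Q)
    (LinearMap.ker (polarBilin Q a) ⊓ LinearMap.ker (polarBilin Q z) ⊓ C) (by
      classical
      have h3 : Module.finrank F (Submodule.span F ({a, p} : Set (ι → F))) ≤ 2 := by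
        have := finrank_span_finset_le_card (R := F) ({a, p} : Finset (ι → F))
        rw [Finset.coe_pair] at this
        exact this.trans Finset.card_le_two
      have h4 := Submodule.finrank_add_eq_of_isCompl hC
      have h5 := Submodule.finrank_sup_add_finrank_inf_eq
        (LinearMap.ker (polarBilin Q a) ⊓ LinearMap.ker (polarBilin Q z)) C
      have h6 := Submodule.finrank_le (LinearMap.ker (polarBilin Q a) ⊓ LinearMap.ker (polarBilin Q z) ⊔ C)
      rw [Module.finrank_fintype_fun_eq_card] at h4 h6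
      have := finrank_inf_ker (LinearMap.ker (polarBilin Q a)) (polarBilin Q z)
      have := finrank_ker (polarBilin Q a)
      omega)
  have hp'W : p' ∉ Submodule.span F ({a, p} : Set (ι → F)) := fun hm =>
    hp'0 (Submodule.disjoint_def.mp hC.disjoint p' hm hp'T.2)
  obtain ⟨w', hw'W, hw'p⟩ := Orth.exists_dual hN _ hp'W
  have h2' := h1 w' (by rw [quad_polar_comm]; exact hw'W a (Submodule.subset_span (by simp)))
    (by rw [quad_polar_comm]; exact hw'W p (Submodule.subset_span (by simp)))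
  exact key w' h2' p' hQp' hp'T.1.1 (by rw [hw'p]; exact one_ne_zero) z hz
    (by rw [quad_polar_comm]; exact hp'T.1.2)

/-- All transvections with the axis of `a` lie in `K`. -/
def FullAx (Q : QuadraticForm F (ι → F)) (K : Subgroup (GL ι F)) (a : ι → F) : Prop :=
  ∀ z, polarBilin Q a z = 0 → Ax Q K z a

theorem FullAx.smul {a : ι → F} (h : FullAx Q K a) (c : F) : FullAx Q K (c • a) := by
  intro z hz
  unfold Ax
  rw [dv_smul]
  rcases eq_or_ne c 0 with rfl | hc
  · rw [zero_smul]; exact InK.zero z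
  · refine InK.of_smul (h (c • z) ?_)
    rw [map_smul, LinearMap.smul_apply] at hz
    rw [map_smul]; exact hz

theorem FullAx.conj {a : ι → F} (h : FullAx Q K a) {g : GL ι F} (hgK : g ∈ K)
    (hg : g ∈ Cfsg.isometryGroup F ⇑Q) : FullAx Q K ((g : Matrix ι ι F) *ᵥ a) := by
  intro z hz
  obtain ⟨y, rfl⟩ : ∃ y, (g : Matrix ι ι F) *ᵥ y = z :=
    ⟨((g⁻¹ : GL ι F) : Matrix ι ι F) *ᵥ z, by
      rw [Matrix.mulVec_mulVec, ← Units.val_mul, mul_inv_cancel, Units.val_one, Matrix.one_mulVec]⟩
  rw [Orth.iso_polar hg] at hz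
  exact (h y hz).conj hgK hg

include hN in
theorem FullAx.all [Finite F] (h2 : (2 : F) ≠ 0) (hn : 13 ≤ Fintype.card ι) (hE : HasEich Q K) {a : ι → F}
    (h : FullAx Q K a) (ha : Q a = 0) (ha0 : a ≠ 0) {b : ι → F} (hb : Q b = 0) : FullAx Q K b := by
  by_cases hba : b ∈ F ∙ a
  · obtain ⟨c, rfl⟩ := Submodule.mem_span_singleton.mp hba
    exact h.smul c
  have hab : a ∉ F ∙ b := fun hm => by
    obtain ⟨c, hc⟩ := Submodule.mem_span_singleton.mp hm
    rcases eq_or_ne c 0 with rfl | hc0
    · exact ha0 (by rw [← hc, zero_smul])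
    · exact hba (Submodule.mem_span_singleton.mpr ⟨c⁻¹, by rw [← hc, smul_smul, inv_mul_cancel₀ hc0, one_smul]⟩)
  obtain ⟨z₁, h1a, h1b⟩ := Orth.exists_dual hN (F ∙ a) hba
  obtain ⟨z₂, h2b, h2a⟩ := Orth.exists_dual hN (F ∙ b) hab
  obtain ⟨t, ht, hQu⟩ := exists_sing_add hN h2 (LinearMap.ker (polarBilin Q a) ⊓ LinearMap.ker (polarBilin Q b))
    (by have := finrank_inf_ker (LinearMap.ker (polarBilin Q a)) (polarBilin Q b)
        have := finrank_ker (polarBilin Q a); omega) (z₁ + z₂)
  set u := z₁ + z₂ + t with hu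
  have hau : polarBilin Q u a = 1 := by
    rw [hu, map_add, map_add, LinearMap.add_apply, LinearMap.add_apply, h1a a (Submodule.mem_span_singleton_self a),
      h2a, quad_polar_comm Q t a, ht.1, zero_add, add_zero]
  have hbu : polarBilin Q u b = 1 := by
    rw [hu, map_add, map_add, LinearMap.add_apply, LinearMap.add_apply, h1b,
      h2b b (Submodule.mem_span_singleton_self b), quad_polar_comm Q t b, ht.2, add_zero, add_zero]
  have hux : polarBilin Q u (b - a) = 0 := by rw [map_sub, hbu, hau, sub_self]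
  have := h.conj (hE u (b - a) hQu hux) (Orth.toGL_mem_isometry Q _)
  rwa [Orth.eichGL_mulVec, quad_polar_comm Q a u, hau, one_smul, mul_one, map_sub, polar_self_eq ha, sub_zero,
    quad_sub, hb, ha, zero_add, zero_sub, quad_polar_comm Q b a, add_neg_cancel, zero_smul, sub_zero,
    add_sub_cancel] at this

include hN in
theorem fullAt_of_fullAx [Finite F] (h2 : (2 : F) ≠ 0) (hn : 13 ≤ Fintype.card ι)
    (h : ∀ b, Q b = 0 → FullAx Q K b) : ∀ v, FullAt K v := by
  intro v a₀ ha₀
  let D : (ι → F) →ₗ[F] (ι → F) := { toFun := dv Q, map_add' := dv_add, map_smul' := dv_smul }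
  have hinj : Function.Injective D := (injective_iff_map_eq_zero D).mpr fun z hz => hN.1 z fun x => by
    rw [← dv_dot, show dv Q z = 0 from hz, zero_dotProduct]
  obtain ⟨z, rfl⟩ := LinearMap.injective_iff_surjective.mp hinj a₀
  change dv Q z ⬝ᵥ v = 0 at ha₀
  rw [dv_dot] at ha₀
  show InK K v (dv Q z)
  by_cases hz : Q z = 0
  · exact h z hz v ha₀
  obtain ⟨t, ht, hQt⟩ := exists_sing_add hN h2 (LinearMap.ker (polarBilin Q v) ⊓ LinearMap.ker (polarBilin Q z))
    (by have := finrank_inf_ker (LinearMap.ker (polarBilin Q v)) (polarBilin Q z)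
        have := finrank_ker (polarBilin Q v); omega) ((-2 : F)⁻¹ • z)
  have hzt : polarBilin Q z t = 0 := ht.2
  have hp : polarBilin Q ((-2 : F)⁻¹ • z + t) v = 0 := by
    rw [map_add, LinearMap.add_apply, map_smul, LinearMap.smul_apply, ha₀, smul_zero, quad_polar_comm Q t v, ht.1,
      add_zero]
  have hq : Q (z + ((-2 : F)⁻¹ • z + t)) = 0 := by
    rw [quad_add, hQt, map_add, map_smul, quad_polar_self, hzt, smul_eq_mul]
    field_simp
    ring
  have h3 := (h _ hq v (by rw [map_add, LinearMap.add_apply, ha₀, hp, add_zero]))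
  have h4 := (h _ hQt v hp)
  have h5 := InK.sub h3 h4
  rwa [dv_add, add_sub_cancel_right] at h5

include hN in
/-- A linear map carrying every orthogonal singular pair with its perpendicular is a similarity. -/
theorem similar_of [Finite F] (h2 : (2 : F) ≠ 0) (hn : 13 ≤ Fintype.card ι) {g : GL ι F}
    (h : ∀ u v y, Q u = 0 → Q v = 0 → polarBilin Q u v = 0 → v ∉ F ∙ u → u ≠ 0 →
      polarBilin Q u y = 0 → polarBilin Q v y = 0 →
      polarBilin Q ((g : Matrix ι ι F) *ᵥ u) ((g : Matrix ι ι F) *ᵥ y) = 0) :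
    g ∈ Cfsg.Geo.quadSimilarityGroup ⇑Q := by
  let L : (ι → F) →ₗ[F] (ι → F) := Matrix.toLin' (g : Matrix ι ι F)
  let B' : LinearMap.BilinForm F (ι → F) := (polarBilin Q).compl₁₂ L L
  have hB' : ∀ x y, B' x y = polarBilin Q ((g : Matrix ι ι F) *ᵥ x) ((g : Matrix ι ι F) *ᵥ y) := fun x y => by
    simp [B', L, LinearMap.compl₁₂_apply]
  have hker : ∀ u, Q u = 0 → u ≠ 0 → ∀ y, polarBilin Q u y = 0 → B' u y = 0 := by
    intro u hu hu0 y hy
    obtain ⟨φ, hφ, hφu⟩ := exists_functional (⊥ : Submodule F (ι → F)) (x := u) (by simpa using hu0)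
    obtain ⟨v, hvT, hv0, hv⟩ := Orth.exists_singular (Q := Q)
      (LinearMap.ker (polarBilin Q u) ⊓ LinearMap.ker (polarBilin Q y) ⊓
        LinearMap.ker (∑ j, φ j • (LinearMap.proj j : (ι → F) →ₗ[F] F)))
      (by have := finrank_inf_ker (LinearMap.ker (polarBilin Q u)) (polarBilin Q y)
          have := finrank_inf_ker (LinearMap.ker (polarBilin Q u) ⊓ LinearMap.ker (polarBilin Q y))
            (∑ j, φ j • (LinearMap.proj j : (ι → F) →ₗ[F] F))
          have := finrank_ker (polarBilin Q u); omega)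
    rw [hB']
    refine h u v y hu hv hvT.1.1 (fun hm => ?_) hu0 hy (by rw [quad_polar_comm]; exact hvT.1.2)
    obtain ⟨c, rfl⟩ := Submodule.mem_span_singleton.mp hm
    have h5 : φ ⬝ᵥ (c • u) = 0 := by
      have := LinearMap.mem_ker.mp hvT.2
      simpa [dotProduct, LinearMap.sum_apply, Finset.mul_sum, mul_left_comm] using this
    rw [dotProduct_smul, hφu, smul_eq_mul, mul_one] at h5
    exact hv0 (by rw [h5, zero_smul])
  have hsc : ∀ u, Q u = 0 → u ≠ 0 → ∃ c, ∀ y, B' u y = c * polarBilin Q u y := by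
    intro u hu hu0
    obtain ⟨z, -, hz⟩ := Orth.exists_dual hN ⊥ (x := u) (by simpa using hu0)
    rw [quad_polar_comm] at hz
    refine ⟨B' u z, fun y => ?_⟩
    have := hker u hu hu0 (y - polarBilin Q u y • z) (by rw [map_sub, map_smul, hz, smul_eq_mul, mul_one, sub_self])
    rw [map_sub, map_smul, smul_eq_mul, sub_eq_zero] at this
    rw [this, mul_comm]
  obtain ⟨e, -, he0, hQe⟩ := Orth.exists_singular (Q := Q) ⊤
    (by rw [finrank_top, Module.finrank_fintype_fun_eq_card]; omega)
  obtain ⟨z, -, hz⟩ := Orth.exists_dual hN ⊥ (x := e) (by simpa using he0)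
  obtain ⟨f, -, hQf, hef⟩ := Orth.exists_partner hN hQe (W := ⊤) trivial (z := z) trivial
    (by rw [quad_polar_comm, hz]; exact one_ne_zero)
  have hf0 : f ≠ 0 := fun h => by rw [h, map_zero] at hef; exact zero_ne_one hef
  obtain ⟨c, hc⟩ := hsc e hQe he0
  let S : Submodule F (ι → F) := LinearMap.ker (B' - c • polarBilin Q)
  have hS : ∀ x, x ∈ S ↔ ∀ y, B' x y = c * polarBilin Q x y := fun x => by
    simp [S, LinearMap.ext_iff, sub_eq_zero]
  have hsing : ∀ u, Q u = 0 → ∀ p, p ∈ S → polarBilin Q u p ≠ 0 → u ∈ S := by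
    intro u hu p hp hup
    obtain ⟨c', hc'⟩ := hsc u hu (fun h => hup (by rw [h, map_zero, LinearMap.zero_apply]))
    have h1 := hc' p
    have h2 := (hS p).mp hp u
    rw [hB'] at h1 h2
    rw [quad_polar_comm Q ((g : Matrix ι ι F) *ᵥ p), h1, quad_polar_comm Q p] at h2
    rw [hS]
    intro y
    rw [hc', mul_right_cancel₀ hup h2]
  have heS : e ∈ S := (hS e).mpr hc
  have hfS : f ∈ S := hsing f hQf e heS (by rw [quad_polar_comm, hef]; exact one_ne_zero)
  have hall : ∀ x, x ∈ S := by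
    intro x
    set w := x - polarBilin Q f x • e - polarBilin Q e x • f with hw
    have hwe : polarBilin Q e w = 0 := by
      rw [hw, map_sub, map_sub, map_smul, map_smul, polar_self_eq hQe, hef, smul_zero, sub_zero, smul_eq_mul,
        mul_one, sub_self]
    have hwf : polarBilin Q f w = 0 := by
      rw [hw, map_sub, map_sub, map_smul, map_smul, polar_self_eq hQf, quad_polar_comm Q f e, hef, smul_zero,
        sub_zero, smul_eq_mul, mul_one, sub_self]
    have hu : w + e - Q w • f ∈ S := by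
      refine hsing _ ?_ f hfS ?_
      · rw [quad_sub, quad_add, quad_smul, hQe, hQf, map_smul, map_add, LinearMap.add_apply,
          quad_polar_comm Q w e, hwe, quad_polar_comm Q w f, hwf, hef]
        simp
      · rw [map_sub, map_add, map_smul, LinearMap.sub_apply, LinearMap.add_apply, LinearMap.smul_apply,
          quad_polar_comm Q w f, hwf, hef, polar_self_eq hQf, smul_zero, sub_zero, zero_add]
        exact one_ne_zero
    have hwS : w ∈ S := by
      have := S.add_mem (S.sub_mem hu heS) (S.smul_mem (Q w) hfS)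
      rwa [show w + e - Q w • f - e + Q w • f = w by abel] at this
    have := S.add_mem (S.add_mem hwS (S.smul_mem (polarBilin Q f x) heS)) (S.smul_mem (polarBilin Q e x) hfS)
    rwa [hw, show x - polarBilin Q f x • e - polarBilin Q e x • f + polarBilin Q f x • e + polarBilin Q e x • f = x
      by abel] at this
  have hc0 : c ≠ 0 := fun h0 => by
    have hge : (g : Matrix ι ι F) *ᵥ e = 0 := hN.1 _ fun y => by
      obtain ⟨x, rfl⟩ : ∃ x, (g : Matrix ι ι F) *ᵥ x = y :=
        ⟨((g⁻¹ : GL ι F) : Matrix ι ι F) *ᵥ y, by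
          rw [Matrix.mulVec_mulVec, ← Units.val_mul, mul_inv_cancel, Units.val_one, Matrix.one_mulVec]⟩
      rw [← hB', hc, h0, zero_mul]
    apply he0
    have := congrArg (fun z => ((g⁻¹ : GL ι F) : Matrix ι ι F) *ᵥ z) hge
    simpa [Matrix.mulVec_mulVec, ← Units.val_mul] using this
  refine ⟨Units.mk0 c hc0, fun x => ?_⟩
  have h1 := (hS x).mp (hall x) x
  rw [hB', quad_polar_self, quad_polar_self] at h1
  exact mul_left_cancel₀ h2 (by rw [h1, Units.val_mk0]; ring)

include hN in
/-- A group with all Eichler elements and an element that is no similarity contains a transvection with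
singular axis. -/
theorem exists_ax [Finite F] (h2 : (2 : F) ≠ 0) (hn : 13 ≤ Fintype.card ι) (hE : HasEich Q K) {g : GL ι F}
    (hgK : g ∈ K) (hg : g ∉ Cfsg.Geo.quadSimilarityGroup ⇑Q) :
    ∃ w a, Ax Q K w a ∧ Q a = 0 ∧ a ≠ 0 ∧ w ∉ F ∙ a := by
  classical
  obtain ⟨u, v, y₀, hu, hv, huv, hvu, hu0, huy, hvy, hy⟩ : ∃ u v y, Q u = 0 ∧ Q v = 0 ∧ polarBilin Q u v = 0 ∧
      v ∉ F ∙ u ∧ u ≠ 0 ∧ polarBilin Q u y = 0 ∧ polarBilin Q v y = 0 ∧
      polarBilin Q ((g : Matrix ι ι F) *ᵥ u) ((g : Matrix ι ι F) *ᵥ y) ≠ 0 := by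
    by_contra hc
    push Not at hc
    exact hg (similar_of hN h2 hn fun u v y a b c d e f i => hc u v y a b c d e f i)
  set G : (ι → F) →ₗ[F] (ι → F) := Matrix.toLin' ((g⁻¹ : GL ι F) : Matrix ι ι F) with hG
  have hGg : ∀ x, G ((g : Matrix ι ι F) *ᵥ x) = x := fun x => by
    rw [hG, Matrix.toLin'_apply, Matrix.mulVec_mulVec, ← Units.val_mul, inv_mul_cancel, Units.val_one,
      Matrix.one_mulVec]
  have hinj : ∀ x y, (g : Matrix ι ι F) *ᵥ x = (g : Matrix ι ι F) *ᵥ y → x = y := fun x y h => by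
    rw [← hGg x, h, hGg]
  set gu := (g : Matrix ι ι F) *ᵥ u with hgu
  set gv := (g : Matrix ι ι F) *ᵥ v with hgv
  set S0 := LinearMap.ker (polarBilin Q gu) ⊓ LinearMap.ker (polarBilin Q gv) with hS0
  set H1 := LinearMap.ker ((polarBilin Q u).comp G) ⊓ LinearMap.ker ((polarBilin Q v).comp G) with hH1
  have hS0d : Fintype.card ι ≤ Module.finrank F S0 + 2 := by
    have := finrank_inf_ker (LinearMap.ker (polarBilin Q gu)) (polarBilin Q gv)
    have := finrank_ker (polarBilin Q gu)
    rw [hS0]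
    omega
  have hH1d : Module.finrank F H1 + 2 ≤ Fintype.card ι := by
    let φ := (((polarBilin Q u).comp G).prod ((polarBilin Q v).comp G))
    have h1 := φ.finrank_range_add_finrank_ker
    have hker : LinearMap.ker φ = H1 := by
      ext x; simp [φ, hH1, LinearMap.mem_ker]
    have hsurj : Function.Surjective φ := by
      obtain ⟨p, hpu, hpv⟩ := Orth.exists_dual hN (F ∙ u) hvu
      obtain ⟨p', hp'v, hp'u⟩ := Orth.exists_dual hN (F ∙ v) (x := u) (fun hm => by
        obtain ⟨c, hc⟩ := Submodule.mem_span_singleton.mp hm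
        rcases eq_or_ne c 0 with rfl | hc0
        · exact hu0 (by rw [← hc, zero_smul])
        · exact hvu (Submodule.mem_span_singleton.mpr ⟨c⁻¹, by rw [← hc, smul_smul, inv_mul_cancel₀ hc0, one_smul]⟩))
      intro q
      refine ⟨(g : Matrix ι ι F) *ᵥ (q.1 • p' + q.2 • p), ?_⟩
      simp [φ, hGg, map_add, map_smul, quad_polar_comm Q u p, quad_polar_comm Q u p', quad_polar_comm Q v p,
        quad_polar_comm Q v p', hpv, hp'u, hpu u (Submodule.mem_span_singleton_self u),
        hp'v v (Submodule.mem_span_singleton_self v)]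
    rw [hker, LinearMap.range_eq_top.mpr hsurj, finrank_top, Module.finrank_prod, Module.finrank_self,
      Module.finrank_fintype_fun_eq_card] at h1
    omega
  obtain ⟨s, hs, hsH⟩ : ∃ s ∈ S0, s ∉ H1 := by
    by_contra hc
    push Not at hc
    have h4 : S0 = H1 := Submodule.eq_of_le_of_finrank_le hc (by omega)
    have h5 : (g : Matrix ι ι F) *ᵥ y₀ ∈ H1 := ⟨by simp [hGg, huy], by simp [hGg, hvy]⟩
    rw [← h4] at h5
    exact hy h5.1
  have hI : Fintype.card ι ≤ Module.finrank F (S0 ⊓ H1 : Submodule F (ι → F)) + 4 := by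
    have h5 := finrank_inf_ker S0 ((polarBilin Q u).comp G)
    have h6 := finrank_inf_ker (S0 ⊓ LinearMap.ker ((polarBilin Q u).comp G)) ((polarBilin Q v).comp G)
    rw [hH1, ← inf_assoc]
    omega
  obtain ⟨C, hC⟩ := Submodule.exists_isCompl (Submodule.span F ({gu, gv} : Set (ι → F)))
  obtain ⟨a, haT, ha0, hQa⟩ := Orth.exists_singular (Q := Q) (S0 ⊓ H1 ⊓ LinearMap.ker (polarBilin Q s) ⊓ C) (by
    have h3 : Module.finrank F (Submodule.span F ({gu, gv} : Set (ι → F))) ≤ 2 := by
      have := finrank_span_finset_le_card (R := F) ({gu, gv} : Finset (ι → F))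
      rw [Finset.coe_pair] at this
      exact this.trans Finset.card_le_two
    have h4 := Submodule.finrank_add_eq_of_isCompl hC
    have h5 := Submodule.finrank_sup_add_finrank_inf_eq (S0 ⊓ H1 ⊓ LinearMap.ker (polarBilin Q s)) C
    have h6 := Submodule.finrank_le (S0 ⊓ H1 ⊓ LinearMap.ker (polarBilin Q s) ⊔ C)
    rw [Module.finrank_fintype_fun_eq_card] at h4 h6
    have := finrank_inf_ker (S0 ⊓ H1) (polarBilin Q s)
    omega)
  have haW : a ∉ Submodule.span F ({gu, gv} : Set (ι → F)) := fun hm =>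
    ha0 (Submodule.disjoint_def.mp hC.disjoint a hm haT.2)
  obtain ⟨⟨⟨⟨hagu, hagv⟩, hau, hav⟩, has⟩, -⟩ := haT
  obtain ⟨t, ht, hQb⟩ := exists_sing_add hN h2 (S0 ⊓ H1 ⊓ LinearMap.ker (polarBilin Q a))
    (by have := finrank_inf_ker (S0 ⊓ H1) (polarBilin Q a); omega) s
  set b := s + t with hb
  have hbH : b ∉ H1 := fun h => hsH ((Submodule.add_mem_iff_left _ ht.1.2).mp h)
  have hb0 : b ∈ S0 := S0.add_mem hs ht.1.1
  have hab : polarBilin Q a b = 0 := by
    rw [hb, map_add, quad_polar_comm Q a s]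
    rw [show polarBilin Q s a = 0 from has, show polarBilin Q a t = 0 from ht.2, add_zero]
  obtain ⟨hbgu, hbgv⟩ := hb0
  rw [SetLike.mem_coe, LinearMap.mem_ker] at hagu hagv hau hav hbgu hbgv
  rw [LinearMap.comp_apply] at hau hav
  set w := polarBilin Q (G b) u • gv - polarBilin Q (G b) v • gu with hw
  have hw0 : ¬ (polarBilin Q (G b) u = 0 ∧ polarBilin Q (G b) v = 0) := fun h => hbH
    ⟨by show polarBilin Q u (G b) = 0; rw [quad_polar_comm, h.1],
     by show polarBilin Q v (G b) = 0; rw [quad_polar_comm, h.2]⟩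
  have hind : ∀ c d : F, c • gv + d • gu = 0 → c = 0 ∧ d = 0 := by
    intro c d hcd
    have h1 : c • v + d • u = 0 := hinj _ _ (by
      rw [Matrix.mulVec_add, Matrix.mulVec_smul, Matrix.mulVec_smul, ← hgu, ← hgv, hcd, Matrix.mulVec_zero])
    have hc : c = 0 := by
      by_contra hc
      refine hvu (Submodule.mem_span_singleton.mpr ⟨-(c⁻¹ * d), ?_⟩)
      have h3 := congrArg (c⁻¹ • ·) h1
      simp only [smul_add, smul_smul, inv_mul_cancel₀ hc, one_smul, smul_zero] at h3
      rw [neg_smul, ← eq_neg_of_add_eq_zero_left h3]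
    refine ⟨hc, ?_⟩
    rw [hc, zero_smul, zero_add] at h1
    exact (smul_eq_zero.mp h1).resolve_right hu0
  have hwa : w ∉ F ∙ a := fun hm => by
    obtain ⟨c, hc⟩ := Submodule.mem_span_singleton.mp hm
    rcases eq_or_ne c 0 with rfl | hc0
    · rw [zero_smul, hw] at hc
      obtain ⟨h1, h3⟩ := hind (polarBilin Q (G b) u) (-polarBilin Q (G b) v) (by rw [neg_smul, ← sub_eq_add_neg]; exact hc.symm)
      exact hw0 ⟨h1, neg_eq_zero.mp h3⟩
    · refine haW ?_
      rw [show a = c⁻¹ • w by rw [← hc, smul_smul, inv_mul_cancel₀ hc0, one_smul], hw]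
      exact Submodule.smul_mem _ _ (Submodule.sub_mem _ (Submodule.smul_mem _ _ (Submodule.subset_span (by simp)))
        (Submodule.smul_mem _ _ (Submodule.subset_span (by simp))))
  have hdw : dv Q a ⬝ᵥ w = 0 := by
    rw [dv_dot, hw, map_sub, map_smul, map_smul, quad_polar_comm Q a gv, hagv, quad_polar_comm Q a gu, hagu,
      smul_zero, smul_zero, sub_zero]
  set T1 := g * Orth.eichGL Q u v hu huv * g⁻¹ with hT1
  set T2 := Orth.eichGL Q a b hQa hab with hT2
  have hap1 : ∀ y, (T1 : Matrix ι ι F) *ᵥ y = y + polarBilin Q (G y) u • gv - polarBilin Q (G y) v • gu := by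
    intro y
    rw [hT1, Units.val_mul, Units.val_mul, ← Matrix.mulVec_mulVec, ← Matrix.mulVec_mulVec, Orth.eichGL_mulVec,
      hv, zero_mul, add_zero, Matrix.mulVec_sub, Matrix.mulVec_add, Matrix.mulVec_smul, Matrix.mulVec_smul,
      ← hgu, ← hgv, hG, Matrix.toLin'_apply, Matrix.mulVec_mulVec, ← Units.val_mul, mul_inv_cancel, Units.val_one,
      Matrix.one_mulVec]
  have hap2 : ∀ y, (T2 : Matrix ι ι F) *ᵥ y = y + polarBilin Q y a • b - polarBilin Q y b • a := by
    intro y
    rw [hT2, Orth.eichGL_mulVec, hQb, zero_mul, add_zero]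
  have hcomm : T1 * T2 = tv w (dv Q a) hdw * (T2 * T1) := by
    refine Units.ext (eq_of_mulVec_eq fun y => ?_)
    simp only [Units.val_mul, ← Matrix.mulVec_mulVec]
    rw [tv_mulVec, hap2, hap1, hap2, hap1, dv_dot, hw]
    simp only [map_add, map_sub, map_smul, LinearMap.add_apply, LinearMap.sub_apply, LinearMap.smul_apply,
      smul_eq_mul, quad_polar_comm Q (G a) u, quad_polar_comm Q (G a) v, hau, hav,
      quad_polar_comm Q gu a, quad_polar_comm Q gv a, quad_polar_comm Q gu b, quad_polar_comm Q gv b,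
      quad_polar_comm Q a y, hab, polar_self_eq hQa]
    rw [quad_polar_comm Q a gu, quad_polar_comm Q a gv, quad_polar_comm Q b gu, quad_polar_comm Q b gv,
      hagu, hagv, hbgu, hbgv]
    module
  have hT1K : T1 ∈ K := K.mul_mem (K.mul_mem hgK (hE u v hu huv)) (K.inv_mem hgK)
  have hT2K : T2 ∈ K := hE a b hQa hab
  refine ⟨w, a, ⟨hdw, ?_⟩, hQa, ha0, hwa⟩
  have : tv w (dv Q a) hdw = T1 * T2 * (T2 * T1)⁻¹ := eq_mul_inv_iff_mul_eq.mpr hcomm.symm
  rw [this]
  exact K.mul_mem (K.mul_mem hT1K hT2K) (K.inv_mem (K.mul_mem hT2K hT1K))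

end core

/-- For a finite field F of odd order and n ≥ 13, let Q be a non-degenerate quadratic form on F^n (its polar form is non-degenerate). Then the elements of SL_n(F) that are similarities of Q (Q(gv) = c Q(v) for a non-zero scalar c depending on g) form a maximal subgroup of SL_n(F). -/
theorem result {F : Type*} [Field F] [Fintype F] (n : ℕ) (hn : 13 ≤ n) (hodd : Odd (Fintype.card F)) (Q : (Fin n → F) → F) (hQ : Cfsg.Geo.IsNondegenerateQuadraticForm Q) : Cfsg.Geo.IsMaximalIn (Cfsg.Geo.specialLinear (Fin n) F) (Cfsg.Geo.quadSimilarityGroup Q ⊓ Cfsg.Geo.specialLinear (Fin n) F) := by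
  classical
  obtain ⟨Q, rfl, hN⟩ := Orth.exists_quadraticForm hQ
  have h2 : (2 : F) ≠ 0 := Ring.two_ne_zero fun h => Nat.not_even_iff_odd.mpr hodd
    (Nat.even_iff.mpr (FiniteField.even_card_of_char_two h))
  have hcard : 13 ≤ Fintype.card (Fin n) := by rw [Fintype.card_fin]; exact hn
  have hsl : Cfsg.Geo.omegaGL ⇑Q ≤ Cfsg.Geo.specialLinear (Fin n) F := by
    rintro _ ⟨x, hx, rfl⟩
    exact MonoidHom.mem_ker.mpr (Abelianization.commutator_subset_ker
      ((Matrix.GeneralLinearGroup.det).comp (Cfsg.isometryGroup F ⇑Q).subtype) hx)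
  have hsim : Cfsg.Geo.omegaGL ⇑Q ≤ Cfsg.Geo.quadSimilarityGroup ⇑Q := fun x hx =>
    ⟨1, fun y => by rw [Units.val_one, one_mul]; exact Orth.iso_quad (Orth.omegaGL_le_isometry hx) y⟩
  refine ⟨lt_of_le_of_ne inf_le_right ?_, ?_⟩
  · intro h
    obtain ⟨u, -, hu0, hu⟩ := Orth.exists_singular (Q := Q) ⊤
      (by rw [finrank_top, Module.finrank_fintype_fun_eq_card]; omega)
    obtain ⟨z, -, hz⟩ := Orth.exists_dual hN ⊥ (x := u) (by simpa using hu0)
    obtain ⟨x, -, hx, hux⟩ := Orth.exists_partner hN hu (W := ⊤) trivial (z := z) trivial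
      (by rw [quad_polar_comm, hz]; exact one_ne_zero)
    have hd : dv Q u ⬝ᵥ u = 0 := by rw [dv_dot, polar_self_eq hu]
    have hm : tv u (dv Q u) hd ∈ Cfsg.Geo.quadSimilarityGroup ⇑Q ⊓ Cfsg.Geo.specialLinear (Fin n) F := by
      rw [h]; exact tv_mem_specialLinear _ _ hd
    obtain ⟨c, hc⟩ := hm.1
    have h1 := hc x
    rw [tv_mulVec, dv_dot, hux, one_smul, quad_add, hx, hu, quad_polar_comm, hux, mul_zero, zero_add, zero_add] at h1
    exact one_ne_zero h1
  intro M hle hMS
  by_cases hN' : M ≤ Cfsg.Geo.quadSimilarityGroup ⇑Q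
  · exact Or.inl (le_antisymm (le_inf hN' hMS) hle)
  right
  obtain ⟨g, hgM, hg⟩ := SetLike.not_le_iff_exists.mp hN'
  have hE : HasEich Q M := fun u x hu hx => hle (le_inf hsim hsl (Orth.eichGL_mem_omega hN (by omega) hu hx))
  obtain ⟨w, a, hwa, ha, ha0, hw⟩ := exists_ax hN h2 hcard hE hgM hg
  have hfull : FullAx Q M a := hwa.full hN h2 hcard hE ha hw
  exact le_antisymm hMS (specialLinear_le_of_fullAt
    (fullAt_of_fullAx hN h2 hcard fun b hb => hfull.all hN h2 hcard hE ha ha0 hb))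

end Cfsg.Agent.S5644
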