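import Cfsg.Statements.S5645
import Cfsg.Agent.Lib.MaxSub.Symplectic
-- import your own Cfsg.Agent.* helpers here

set_option autoImplicit false
set_option maxHeartbeats 1600000
open Cfsg

namespace Cfsg.Agent.S5645

open Cfsg.Agent.Lib.MaxSub Matrix
open scoped Matrix

/-- For a finite field F and m ≥ 7, in the symplectic group Sp_2m(F) of the standard alternating form on F^(2m) (as a subgroup of GL_2m(F)), the stabiliser of any non-zero subspace on which the form vanishes identically is a maximal subgroup. -/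
theorem result {F : Type*} [Field F] [Fintype F] (m : ℕ) (hm : 7 ≤ m) (W : Submodule F (Fin m ⊕ Fin m → F)) (hW0 : W ≠ ⊥) (hW : Cfsg.Geo.IsTotallySingularFor (Cfsg.sympForm m F) W) : Cfsg.Geo.IsMaximalIn (Cfsg.spGL m F) (Cfsg.Geo.subspaceStabilizer W ⊓ Cfsg.spGL m F) := by
  set f := stdAlt m F with hf
  have hWW : W ≤ f.perp W := fun x hx w hw => by rw [hf, stdAlt_apply]; exact hW w hw x hx
  have hstab : ∀ w ∈ f.perp W, ∀ c, f.trans w c ∈ Cfsg.Geo.subspaceStabilizer W ⊓ Cfsg.spGL m F := by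
    refine fun w hw c => ⟨mem_subspaceStabilizer fun x hx => ?_, mem_spGL_iff.mpr (f.trans_preserves w c)⟩
    rw [AltForm.trans_mulVec, hw x hx, mul_zero, zero_smul, add_zero]
    exact hx
  obtain ⟨w₁, hw₁, hw₁0⟩ := (Submodule.ne_bot_iff W).mp hW0
  obtain ⟨u₁, -, hu₁⟩ := f.exists_perp_eq_one ⊥ (x := w₁) (by simpa using hw₁0)
  have hu₁W : u₁ ∉ f.perp W := fun h => one_ne_zero (hu₁.symm.trans (h w₁ hw₁))
  refine ⟨lt_of_le_of_ne inf_le_right fun h => hu₁W ?_, ?_⟩
  · have hmem : f.trans u₁ 1 ∈ Cfsg.spGL m F := mem_spGL_iff.mpr (f.trans_preserves _ _)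
    rw [← h] at hmem
    have h1 := subspaceStabilizer_apply hmem.1 hw₁
    rw [AltForm.trans_mulVec, hu₁, one_mul, one_smul] at h1
    exact hWW ((Submodule.add_mem_iff_right W hw₁).mp h1)
  intro M hle hMS
  by_cases hMW : M ≤ Cfsg.Geo.subspaceStabilizer W
  · exact Or.inl (le_antisymm (le_inf hMW hMS) hle)
  right
  refine le_antisymm hMS (spGL_le ?_)
  obtain ⟨g, hgM, hg⟩ := SetLike.not_le_iff_exists.mp hMW
  have hgp := mem_spGL_iff.mp (hMS hgM)
  have hC : ∀ w ∈ f.perp W, f.Centre M w := fun w hw c => hle (hstab w hw c)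
  obtain ⟨w₀, hw₀, hgw₀⟩ : ∃ w ∈ f.perp W, (g.val) *ᵥ w ∉ f.perp W := by
    by_contra hc
    push Not at hc
    refine hg (mem_subspaceStabilizer fun w hw => ?_)
    have hP := mem_subspaceStabilizer hc
    rw [← f.perp_perp W]
    intro y hy
    obtain ⟨z, hz, rfl⟩ : ∃ z ∈ f.perp W, (g.val) *ᵥ z = y :=
      ⟨((g⁻¹ : Matrix.GeneralLinearGroup (Fin m ⊕ Fin m) F) : Matrix (Fin m ⊕ Fin m) (Fin m ⊕ Fin m) F) *ᵥ y,
        subspaceStabilizer_apply (Subgroup.inv_mem _ hP) hy, by
          rw [Matrix.mulVec_mulVec, ← Units.val_mul, mul_inv_cancel, Units.val_one, Matrix.one_mulVec]⟩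
    rw [hgp]
    exact f.mem_perp' hz hw
  set v := (g.val) *ᵥ w₀ with hv
  have hvC : f.Centre M v := (hC w₀ hw₀).of_conj hgM hgp
  obtain ⟨a₀, ha₀, hva₀⟩ : ∃ a ∈ W, f.B a v ≠ 0 := by
    by_contra hc
    push Not at hc
    exact hgw₀ hc
  -- the coset of v modulo the perpendicular space
  have hcoset : ∀ z ∈ f.perp W, f.Centre M (v + z) := by
    intro z hz
    by_cases hvz : f.B v z = 0
    · have h1 : f.Centre M (v + a₀) := hvC.add (hC _ (hWW ha₀)) (by rw [f.skew]; exact neg_ne_zero.mpr hva₀)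
      have h2 := h1.add (hC (z - a₀) (Submodule.sub_mem _ hz (hWW ha₀))) (by
        simp only [map_sub, map_add, LinearMap.add_apply, hvz, f.alt, hz a₀ ha₀, f.skew v a₀]
        simpa using hva₀)
      rwa [show v + a₀ + (z - a₀) = v + z by abel] at h2
    · exact hvC.add (hC z hz) hvz
  -- Siegel elements of the stabiliser
  have key : ∀ a ∈ W, f.B v a ≠ 0 → ∀ b, f.B a b = 0 → f.Centre M (v + f.B v a • b) := by
    intro a ha hva b hab
    let E : (Fin m ⊕ Fin m → F) → Matrix (Fin m ⊕ Fin m) (Fin m ⊕ Fin m) F := fun b =>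
      1 + Matrix.vecMulVec b (f.psi a) + Matrix.vecMulVec a (f.psi b)
    have hE : ∀ b x, E b *ᵥ x = x + f.B x a • b + f.B x b • a := fun b x => by
      simp only [E, Matrix.add_mulVec, Matrix.one_mulVec, Matrix.vecMulVec_mulVec, op_smul_eq_smul, AltForm.psi_dot]
    have hba : f.B b a = 0 := by rw [f.skew, hab, neg_zero]
    have hEE : ∀ b, f.B a b = 0 → E b * E (-b) = 1 := by
      intro b hab
      have hba : f.B b a = 0 := by rw [f.skew, hab, neg_zero]
      refine eq_of_mulVec_eq fun x => ?_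
      rw [← Matrix.mulVec_mulVec, hE, hE, Matrix.one_mulVec]
      simp only [map_add, map_neg, map_smul, LinearMap.add_apply, LinearMap.neg_apply, LinearMap.smul_apply,
        f.alt, hab, hba, smul_eq_mul, mul_zero, neg_zero, add_zero, smul_neg, neg_smul, mul_neg]
      abel
    let e : Matrix.GeneralLinearGroup (Fin m ⊕ Fin m) F := ⟨E b, E (-b), hEE b hab, by
      have := hEE (-b) (by rw [map_neg, hab, neg_zero])
      rwa [neg_neg] at this⟩
    have he : f.Preserves e := fun x y => by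
      show f.B (E b *ᵥ x) (E b *ᵥ y) = f.B x y
      rw [hE, hE]
      simp only [map_add, map_smul, LinearMap.add_apply, LinearMap.smul_apply, f.alt, hab, hba, smul_eq_mul]
      rw [f.skew a y, f.skew b y]
      ring
    have hemem : e ∈ M := hle ⟨mem_subspaceStabilizer fun w hw => by
      show E b *ᵥ w ∈ W
      rw [hE, hWW ha w hw, zero_smul, add_zero]
      exact W.add_mem hw (W.smul_mem _ ha), mem_spGL_iff.mpr he⟩
    have h1 := hvC.of_conj hemem he
    rw [show (e.val) *ᵥ v = E b *ᵥ v from rfl, hE] at h1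
    -- remove the component along a
    by_cases h0 : f.B v b = 0
    · rwa [h0, zero_smul, add_zero] at h1
    · have h2 := h1.add_smul (hC a (hWW ha)) (by
        simp only [map_add, map_smul, LinearMap.add_apply, LinearMap.smul_apply, hba, f.alt, smul_eq_mul,
          mul_zero, add_zero]
        exact hva) (- f.B v b)
      rwa [add_assoc (v + _), ← add_smul, add_neg_cancel, zero_smul, add_zero] at h2
  intro x
  by_cases hx : x ∈ f.perp W
  · exact hC x hx
  obtain ⟨a', ha', hxa'⟩ : ∃ a ∈ W, f.B x a ≠ 0 := by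
    by_contra hc
    push Not at hc
    exact hx fun w hw => by rw [f.skew, hc w hw, neg_zero]
  obtain ⟨a, ha, hva, hxa⟩ : ∃ a ∈ W, f.B v a ≠ 0 ∧ f.B x a ≠ 0 := by
    have hva₀' : f.B v a₀ ≠ 0 := by rw [f.skew]; exact neg_ne_zero.mpr hva₀
    by_cases h1 : f.B v a' = 0
    · by_cases h2 : f.B x a₀ = 0
      · refine ⟨a₀ + a', W.add_mem ha₀ ha', ?_, ?_⟩
        · rw [map_add, h1, add_zero]; exact hva₀'
        · rw [map_add, h2, zero_add]; exact hxa'
      · exact ⟨a₀, ha₀, hva₀', h2⟩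
    · exact ⟨a', ha', h1, hxa'⟩
  set c := f.B x a / f.B v a with hc
  have hc0 : c ≠ 0 := div_ne_zero hxa hva
  have hb : f.B a (c⁻¹ • x - v) = 0 := by
    rw [map_sub, map_smul, f.skew a x, f.skew a v, smul_eq_mul, hc]
    field_simp
    ring
  have h := (key a ha hva ((f.B v a)⁻¹ • (c⁻¹ • x - v)) (by rw [map_smul, hb, smul_zero])).smul c
  rwa [smul_smul (f.B v a), mul_inv_cancel₀ hva, one_smul, add_sub_cancel, smul_smul, mul_inv_cancel₀ hc0,
    one_smul] at h

end Cfsg.Agent.S5645
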