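import Cfsg.Statements.S5646
import Cfsg.Agent.Lib.MaxSub.Symplectic
-- import your own Cfsg.Agent.* helpers here

set_option autoImplicit false
set_option maxHeartbeats 1600000
open Cfsg

namespace Cfsg.Agent.S5646

open Cfsg.Agent.Lib.MaxSub Matrix
open scoped Matrix

/-- For a finite field F and m ≥ 7, in the symplectic group Sp_2m(F) of the standard alternating form on F^(2m), the stabiliser of any non-zero subspace W on which the form is non-degenerate and with dim W < m is a maximal subgroup. -/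
theorem result {F : Type*} [Field F] [Fintype F] (m : ℕ) (hm : 7 ≤ m) (W : Submodule F (Fin m ⊕ Fin m → F)) (hW0 : W ≠ ⊥) (hW : Cfsg.Geo.IsNondegenerateOn (Cfsg.sympForm m F) W) (hdim : Module.finrank F W < m) : Cfsg.Geo.IsMaximalIn (Cfsg.spGL m F) (Cfsg.Geo.subspaceStabilizer W ⊓ Cfsg.spGL m F) := by
  set f := stdAlt m F with hf
  have hnd : ∀ a ∈ W, a ≠ 0 → ∃ x ∈ W, f.B a x ≠ 0 := fun a ha ha0 => by
    obtain ⟨x, hx, hax⟩ := (hW a ha ha0).2
    exact ⟨x, hx, by rw [hf, stdAlt_apply]; exact hax⟩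
  have hdisj : ∀ x, x ∈ W → x ∈ f.perp W → x = 0 := by
    intro x hx hx'
    by_contra h0
    obtain ⟨y, hy, hxy⟩ := hnd x hx h0
    exact hxy (f.mem_perp' hx' hy)
  have hV : Module.finrank F (Fin m ⊕ Fin m → F) = m + m := by simp
  have hsum : m + m ≤ Module.finrank F W + Module.finrank F (f.perp W) := by
    let φ : (Fin m ⊕ Fin m → F) →ₗ[F] (W →ₗ[F] F) := (LinearMap.lcomp F F W.subtype).comp f.B
    have hker : LinearMap.ker φ ≤ f.perp W := fun x hx w hw => by
      have := LinearMap.congr_fun (LinearMap.mem_ker.mp hx) ⟨w, hw⟩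
      rw [f.skew]
      simpa [φ] using this
    have h1 := φ.finrank_range_add_finrank_ker
    have h2 : Module.finrank F (LinearMap.range φ) ≤ Module.finrank F W :=
      (Submodule.finrank_le _).trans (Subspace.dual_finrank_eq).le
    have h3 := Submodule.finrank_mono hker
    omega
  have hcompl : W ⊔ f.perp W = ⊤ := by
    refine Submodule.eq_top_of_finrank_eq ?_
    have h := Submodule.finrank_sup_add_finrank_inf_eq W (f.perp W)
    have h0 : W ⊓ f.perp W = ⊥ := (Submodule.eq_bot_iff _).mpr fun x hx => hdisj x hx.1 hx.2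
    rw [h0, finrank_bot] at h
    have := Submodule.finrank_le (W ⊔ f.perp W)
    omega
  have hndP : ∀ a ∈ f.perp W, a ≠ 0 → ∃ x ∈ f.perp W, f.B a x ≠ 0 := by
    intro a ha ha0
    by_contra hc
    push Not at hc
    refine ha0 (f.nondeg a fun x => ?_)
    obtain ⟨w, hw, r, hr, rfl⟩ := Submodule.mem_sup.mp (show x ∈ W ⊔ f.perp W by rw [hcompl]; trivial)
    rw [map_add, LinearMap.add_apply, ha w hw, f.skew r a, hc r hr, neg_zero, add_zero]
  have hstab : ∀ w, (w ∈ W ∨ w ∈ f.perp W) → ∀ c, f.trans w c ∈ Cfsg.Geo.subspaceStabilizer W ⊓ Cfsg.spGL m F := by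
    intro w hw c
    refine ⟨mem_subspaceStabilizer fun x hx => ?_, mem_spGL_iff.mpr (f.trans_preserves w c)⟩
    rw [AltForm.trans_mulVec]
    rcases hw with hw | hw
    · exact W.add_mem hx (W.smul_mem _ hw)
    · rw [hw x hx, mul_zero, zero_smul, add_zero]; exact hx
  obtain ⟨a₁, ha₁, ha₁0⟩ := (Submodule.ne_bot_iff W).mp hW0
  obtain ⟨x₁, hx₁, hax₁⟩ := hnd a₁ ha₁ ha₁0
  obtain ⟨r₁, hr₁, hr₁0⟩ : ∃ r ∈ f.perp W, r ≠ 0 := by
    refine (Submodule.ne_bot_iff _).mp fun h => ?_
    rw [h, finrank_bot] at hsum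
    omega
  refine ⟨lt_of_le_of_ne inf_le_right fun h => hr₁0 (hdisj r₁ ?_ hr₁), ?_⟩
  · have hmem : f.trans (x₁ + r₁) (f.B a₁ x₁)⁻¹ ∈ Cfsg.spGL m F := mem_spGL_iff.mpr (f.trans_preserves _ _)
    rw [← h] at hmem
    have h1 := subspaceStabilizer_apply hmem.1 ha₁
    rw [AltForm.trans_mulVec, map_add, hr₁ a₁ ha₁, add_zero, inv_mul_cancel₀ hax₁, one_smul] at h1
    have h2 := (Submodule.add_mem_iff_right W ha₁).mp h1
    exact (Submodule.add_mem_iff_right W hx₁).mp h2
  intro M hle hMS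
  by_cases hMW : M ≤ Cfsg.Geo.subspaceStabilizer W
  · exact Or.inl (le_antisymm (le_inf hMW hMS) hle)
  right
  refine le_antisymm hMS (spGL_le ?_)
  obtain ⟨g, hgM, hg⟩ := SetLike.not_le_iff_exists.mp hMW
  have hgp := mem_spGL_iff.mp (hMS hgM)
  have hC : ∀ w, (w ∈ W ∨ w ∈ f.perp W) → f.Centre M w := fun w hw c => hle (hstab w hw c)
  obtain ⟨w₀, hw₀, hn1, hn2⟩ : ∃ w, (w ∈ W ∨ w ∈ f.perp W) ∧ (g : Matrix _ _ F) *ᵥ w ∉ W ∧
      (g : Matrix _ _ F) *ᵥ w ∉ f.perp W := by
    by_contra hc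
    push Not at hc
    set L := Matrix.toLin' (g : Matrix (Fin m ⊕ Fin m) (Fin m ⊕ Fin m) F) with hL
    have hLap : ∀ x, L x = (g : Matrix _ _ F) *ᵥ x := fun x => Matrix.toLin'_apply _ x
    have hinj : Function.Injective L := fun x y hxy => by
      rw [hLap, hLap] at hxy
      have := congrArg (((g⁻¹ : Matrix.GeneralLinearGroup (Fin m ⊕ Fin m) F) : Matrix (Fin m ⊕ Fin m) (Fin m ⊕ Fin m) F) *ᵥ ·) hxy
      simpa [Matrix.mulVec_mulVec, ← Units.val_mul] using this
    have hsub : ∀ P : Submodule F (Fin m ⊕ Fin m → F), (∀ x ∈ P, x ∈ W ∨ x ∈ f.perp W) →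
        P.map L ≤ W ∨ P.map L ≤ f.perp W := by
      intro P hP
      have h' : ∀ y ∈ P.map L, y ∈ W ∨ y ∈ f.perp W := by
        rintro _ ⟨x, hx, rfl⟩
        rw [hLap]
        exact or_iff_not_imp_left.mpr (hc x (hP x hx))
      rw [or_iff_not_imp_left]
      intro hnle y hy
      obtain ⟨z, hz, hzW⟩ := SetLike.not_le_iff_exists.mp hnle
      have hzP := (h' z hz).resolve_left hzW
      rcases h' y hy with hyW | hyP
      · rcases h' (y + z) (Submodule.add_mem _ hy hz) with h | h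
        · exact absurd ((Submodule.add_mem_iff_right W hyW).mp h) hzW
        · exact (Submodule.add_mem_iff_left _ hzP).mp h
      · exact hyP
    have hcard : ∀ P : Submodule F (Fin m ⊕ Fin m → F), Module.finrank F (P.map L) = Module.finrank F P :=
      fun P => (Submodule.equivMapOfInjective L hinj P).finrank_eq.symm
    rcases hsub W (fun x hx => Or.inl hx) with h1 | h1
    · refine hg (mem_subspaceStabilizer fun w hw => ?_)
      rw [← hLap]
      exact h1 (Submodule.mem_map_of_mem hw)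
    · rcases hsub (f.perp W) (fun x hx => Or.inr hx) with h2 | h2
      · have := Submodule.finrank_mono h2
        rw [hcard] at this
        omega
      · have h3 : (⊤ : Submodule F (Fin m ⊕ Fin m → F)).map L ≤ f.perp W := by
          rw [← hcompl, Submodule.map_sup]
          exact sup_le h1 h2
        have h4 := Submodule.finrank_mono h3
        rw [hcard, finrank_top, hV] at h4
        have h5 := Submodule.finrank_sup_add_finrank_inf_eq W (f.perp W)
        rw [hcompl, (Submodule.eq_bot_iff (W ⊓ f.perp W)).mpr fun x hx => hdisj x hx.1 hx.2, finrank_bot, finrank_top, hV] at h5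
        exact hW0 (Submodule.finrank_eq_zero.mp (by omega))
  intro x
  obtain ⟨a, ha, r, hr, rfl⟩ := Submodule.mem_sup.mp (show x ∈ W ⊔ f.perp W by rw [hcompl]; trivial)
  rcases eq_or_ne a 0 with rfl | ha0
  · rw [zero_add]; exact hC r (Or.inr hr)
  rcases eq_or_ne r 0 with rfl | hr0
  · rw [add_zero]; exact hC a (Or.inl ha)
  obtain ⟨a', ha', r', hr', hsum'⟩ := Submodule.mem_sup.mp
    (show (g : Matrix _ _ F) *ᵥ w₀ ∈ W ⊔ f.perp W by rw [hcompl]; trivial)
  have hcen : f.Centre M (a' + r') := hsum'.symm ▸ (hC w₀ hw₀).of_conj hgM hgp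
  have ha'0 : a' ≠ 0 := fun h => hn2 (by rw [← hsum', h, zero_add]; exact hr')
  have hr'0 : r' ≠ 0 := fun h => hn1 (by rw [← hsum', h, add_zero]; exact ha')
  have h1 := f.centre_replace W (fun w hw => hC w (Or.inl hw)) hnd ha' ha'0 ha ha0
    (fun w hw => f.mem_perp' hr' hw) hcen
  rw [add_comm] at h1 ⊢
  exact f.centre_replace (f.perp W) (fun w hw => hC w (Or.inr hw)) hndP hr' hr'0 hr hr0
    (fun w hw => hw a ha) h1

end Cfsg.Agent.S5646
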