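import Cfsg.Statements.S5647
import Cfsg.Agent.Lib.MaxSub.SympBlocks
-- import your own Cfsg.Agent.* helpers here

set_option autoImplicit false
open Cfsg

namespace Cfsg.Agent.S5647

set_option maxHeartbeats 1600000
open Cfsg.Agent.Lib.MaxSub Matrix
open scoped Matrix

/-- For a finite field F with q elements and m ≥ 7, let D be a decomposition of F^(2m) into t ≥ 2 pairwise orthogonal subspaces of equal dimension k on each of which the standard alternating form is non-degenerate, spanning F^(2m). Unless k = 2 and q = 2, the elements of Sp_2m(F) permuting the members of D form a maximal subgroup of Sp_2m(F). -/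
theorem result {F : Type*} [Field F] [Fintype F] (m : ℕ) (hm : 7 ≤ m) {t : ℕ} (k : ℕ) (D : Fin t → Submodule F (Fin m ⊕ Fin m → F)) (hD : Cfsg.Geo.IsNondegenerateMDecomposition (Cfsg.sympForm m F) k D) (hex : ¬ (k = 2 ∧ Fintype.card F = 2)) : Cfsg.Geo.IsMaximalIn (Cfsg.spGL m F) (Cfsg.Geo.decompositionStabilizer D ⊓ Cfsg.spGL m F) := by
  set f := stdAlt m F with hf
  obtain ⟨hdec, hnd, horth⟩ := hD
  have hO : f.OrthDecomp D := ⟨hdec.iSup_eq_top, fun i a ha ha0 => by
      obtain ⟨x, hx, hax⟩ := (hnd i a ha ha0).2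
      exact ⟨x, hx, by rw [hf, stdAlt_apply]; exact hax⟩,
    fun i j hij x hx y hy => by rw [hf, stdAlt_apply]; exact horth i j hij x hx y hy⟩
  have hbot : ∀ i, D i ≠ ⊥ := fun i h => by
    have h1 := hdec.finrank_eq i
    rw [h, finrank_bot] at h1
    exact hdec.pos.ne h1
  choose x₀ hx₀ y₀ hy₀ hxy₀ using fun i => f.exists_pair (hO.nd i) (hbot i)
  have hx₀0 : ∀ i, x₀ i ≠ 0 := fun i h => by simpa [h] using hxy₀ i
  have hblock : ∀ i, ∀ w ∈ D i, ∀ c, f.trans w c ∈ Cfsg.Geo.decompositionStabilizer D ⊓ Cfsg.spGL m F := by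
    intro i w hw c
    refine ⟨⟨1, fun l => ?_⟩, mem_spGL_iff.mpr (f.trans_preserves w c)⟩
    have hmap : (D l).map (Matrix.toLin' (f.trans w c).val) ≤ D l := by
      rintro _ ⟨x, hx, rfl⟩
      rw [Matrix.toLin'_apply, AltForm.trans_mulVec]
      rcases eq_or_ne l i with rfl | hl
      · exact (D l).add_mem hx ((D l).smul_mem _ hw)
      · rw [hO.orth l i hl x hx w hw, mul_zero, zero_smul, add_zero]; exact hx
    refine Submodule.eq_of_le_of_finrank_eq hmap ?_
    exact (Submodule.equivMapOfInjective _ (fun a b h => by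
      simp only [Matrix.toLin'_apply] at h
      have h2 := congrArg ((f.trans w c)⁻¹.val *ᵥ ·) h
      simpa [Matrix.mulVec_mulVec, ← Units.val_mul] using h2) _).finrank_eq.symm
  obtain ⟨pr, hprD, hprsum, hprblock⟩ := hO.exists_proj
  have ht : 2 ≤ t := hdec.two_le
  refine ⟨lt_of_le_of_ne inf_le_right fun h => ?_, ?_⟩
  · -- a transvection mixing two blocks
    set i₀ : Fin t := ⟨0, by omega⟩
    set i₁ : Fin t := ⟨1, by omega⟩
    have h01 : i₁ ≠ i₀ := by simp [i₀, i₁, Fin.ext_iff]
    have hmem : f.trans (y₀ i₀ + x₀ i₁) 1 ∈ Cfsg.spGL m F := mem_spGL_iff.mpr (f.trans_preserves _ _)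
    rw [← h] at hmem
    obtain ⟨σ, hσ⟩ := hmem.1
    have h1 : (f.trans (y₀ i₀ + x₀ i₁) 1).val *ᵥ x₀ i₀ ∈ D (σ i₀) :=
      hσ i₀ ▸ ⟨x₀ i₀, hx₀ i₀, Matrix.toLin'_apply _ _⟩
    rw [AltForm.trans_mulVec, map_add, hxy₀, hO.orth i₀ i₁ h01.symm _ (hx₀ i₀) _ (hx₀ i₁), add_zero, one_mul,
      one_smul, ← add_assoc] at h1
    have h2 : ∀ l, l ≠ σ i₀ → pr l (x₀ i₀ + y₀ i₀ + x₀ i₁) = 0 := fun l hl => by
      rw [hprblock _ l _ h1, if_neg hl]
    rcases eq_or_ne (σ i₀) i₁ with hs | hs
    · have := h2 i₀ (by rw [hs]; exact h01.symm)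
      rw [map_add, map_add, hprblock i₀ i₀ _ (hx₀ i₀), hprblock i₀ i₀ _ (hy₀ i₀), hprblock i₁ i₀ _ (hx₀ i₁),
        if_pos rfl, if_pos rfl, if_neg h01.symm, add_zero] at this
      have h3 := hxy₀ i₀
      rw [eq_neg_of_add_eq_zero_left this, map_neg, LinearMap.neg_apply, f.alt, neg_zero] at h3
      exact zero_ne_one h3
    · have := h2 i₁ hs.symm
      rw [map_add, map_add, hprblock i₀ i₁ _ (hx₀ i₀), hprblock i₀ i₁ _ (hy₀ i₀), hprblock i₁ i₁ _ (hx₀ i₁),
        if_neg h01, if_neg h01, if_pos rfl, zero_add, zero_add] at this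
      exact hx₀0 i₁ this
  intro M hle hMS
  by_cases hMD : M ≤ Cfsg.Geo.decompositionStabilizer D
  · exact Or.inl (le_antisymm (le_inf hMD hMS) hle)
  right
  refine le_antisymm hMS (spGL_le ?_)
  classical
  obtain ⟨g, hgM, hg⟩ := SetLike.not_le_iff_exists.mp hMD
  have hgp := mem_spGL_iff.mp (hMS hgM)
  have hC : ∀ i, ∀ w ∈ D i, f.Centre M w := fun i w hw c => hle (hblock i w hw c)
  let Good : Finset (Fin t) → Prop := fun J => ∀ c : Fin t → (Fin m ⊕ Fin m → F), (∀ i, c i ∈ D i) →
    (∀ i, c i ≠ 0 ↔ i ∈ J) → f.Centre M (∑ i, c i)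
  -- replacing components
  have hrep : ∀ c d : Fin t → (Fin m ⊕ Fin m → F), (∀ i, c i ∈ D i) → (∀ i, d i ∈ D i) →
      (∀ i, c i ≠ 0 ↔ d i ≠ 0) → f.Centre M (∑ i, c i) → f.Centre M (∑ i, d i) := by
    intro c d hc hd hiff hcen
    have : ∀ s : Finset (Fin t), f.Centre M (∑ i, if i ∈ s then d i else c i) := by
      intro s
      induction s using Finset.induction_on with
      | empty => simpa using hcen
      | @insert k s hk ih =>
        have hmemD : ∀ l, (if l ∈ s then d l else c l) ∈ D l := fun l => by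
          split_ifs
          · exact hd l
          · exact hc l
        rw [← Finset.add_sum_erase Finset.univ _ (Finset.mem_univ k)] at ih ⊢
        rw [if_neg hk] at ih
        rw [if_pos (Finset.mem_insert_self k s)]
        have hr : ∑ l ∈ Finset.univ.erase k, (if l ∈ insert k s then d l else c l)
            = ∑ l ∈ Finset.univ.erase k, if l ∈ s then d l else c l :=
          Finset.sum_congr rfl fun l hl => by simp [(Finset.mem_erase.mp hl).1]
        rw [hr]
        rcases eq_or_ne (c k) 0 with h0 | h0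
        · have hd0 : d k = 0 := by
            by_contra hdk
            exact (hiff k).mpr hdk h0
          rwa [hd0, ← h0]
        refine f.centre_replace (D k) (hC k) (hO.nd k) (hc k) h0 (hd k) ((hiff k).mp h0) (fun x hx => ?_) ih
        rw [map_sum, LinearMap.sum_apply]
        exact Finset.sum_eq_zero fun l hl => hO.orth l k (Finset.mem_erase.mp hl).1 _ (hmemD l) x hx
    simpa using this Finset.univ
  have hgood : ∀ (J : Finset (Fin t)) (c : Fin t → (Fin m ⊕ Fin m → F)), (∀ i, c i ∈ D i) →
      (∀ i, c i ≠ 0 ↔ i ∈ J) → f.Centre M (∑ i, c i) → Good J :=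
    fun J c hc hJ hcen d hd hdJ => hrep c d hc hd (fun i => (hJ i).trans (hdJ i).symm) hcen
  -- permuting the blocks
  have hperm : ∀ (σ : Equiv.Perm (Fin t)) (J : Finset (Fin t)), Good J → Good (J.map σ.toEmbedding) := by
    intro σ J hJ
    choose φ hφD hφ using fun l => f.exists_isometry (D l) (D (σ l)) (hO.nd l) (hO.nd (σ l))
      (by rw [hdec.finrank_eq, hdec.finrank_eq])
    let Θ : (Fin m ⊕ Fin m → F) →ₗ[F] (Fin m ⊕ Fin m → F) := ∑ l, φ l ∘ₗ pr l
    have hΘ : ∀ x, Θ x = ∑ l, φ l (pr l x) := fun x => by simp [Θ, LinearMap.sum_apply]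
    have hΘ' : ∀ x, Θ x = ∑ l, φ (σ.symm l) (pr (σ.symm l) x) := fun x => by
      rw [hΘ]
      exact (Equiv.sum_comp σ.symm fun l => φ l (pr l x)).symm
    have hmem : ∀ x l, φ (σ.symm l) (pr (σ.symm l) x) ∈ D l := fun x l => by
      have := hφD (σ.symm l) _ (hprD (σ.symm l) x)
      rwa [σ.apply_symm_apply] at this
    have hiso : ∀ x y, f.B (Θ x) (Θ y) = f.B x y := by
      intro x y
      rw [hΘ', hΘ', hO.B_sum (hmem x) (hmem y), Equiv.sum_comp σ.symm fun l => f.B (φ l (pr l x)) (φ l (pr l y))]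
      conv_rhs => rw [← hprsum x, ← hprsum y, hO.B_sum (fun i => hprD i x) (fun i => hprD i y)]
      exact Finset.sum_congr rfl fun l _ => hφ l _ (hprD l x) _ (hprD l y)
    have hinj : Function.Injective Θ := (injective_iff_map_eq_zero Θ).mpr fun x hx =>
      f.nondeg x fun y => by rw [← hiso, hx, map_zero]
    let e : Matrix.GeneralLinearGroup (Fin m ⊕ Fin m) F :=
      ((LinearMap.GeneralLinearGroup.generalLinearEquiv F (Fin m ⊕ Fin m → F)).symm
        (LinearEquiv.ofBijective Θ ⟨hinj, LinearMap.injective_iff_surjective.mp hinj⟩) |>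
        Matrix.GeneralLinearGroup.toLin.symm)
    have he : ∀ x, e.val *ᵥ x = Θ x := fun x => by
      show (LinearMap.toMatrix' Θ) *ᵥ x = Θ x
      exact LinearMap.toMatrix'_mulVec Θ x
    have hep : f.Preserves e := fun u v => by rw [he, he, hiso]
    have heblock : ∀ l, ∀ x ∈ D l, Θ x = φ l x := fun l x hx => by
      rw [hΘ, Finset.sum_eq_single l (fun b _ hb => by rw [hprblock l b x hx, if_neg hb, map_zero])
        (fun hn => absurd (Finset.mem_univ l) hn), hprblock l l x hx, if_pos rfl]
    have hemem : e ∈ M := by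
      refine hle ⟨⟨σ, fun l => ?_⟩, mem_spGL_iff.mpr hep⟩
      refine Submodule.eq_of_le_of_finrank_eq ?_ ?_
      · rintro _ ⟨x, hx, rfl⟩
        rw [Matrix.toLin'_apply, he, heblock l x hx]
        exact hφD l x hx
      · rw [← (Submodule.equivMapOfInjective _ (fun a b h => hinj (by rw [← he, ← he]; simpa using h)) _).finrank_eq,
          hdec.finrank_eq, hdec.finrank_eq]
    set c : Fin t → (Fin m ⊕ Fin m → F) := fun l => if l ∈ J then x₀ l else 0 with hc
    have hcD : ∀ l, c l ∈ D l := fun l => by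
      simp only [hc]
      split_ifs
      · exact hx₀ l
      · exact (D l).zero_mem
    have hcs : ∀ l, c l ≠ 0 ↔ l ∈ J := fun l => by
      simp only [hc]
      split_ifs with h <;> simp [h, hx₀0 l]
    have hcen := (hJ c hcD hcs).of_conj hemem hep
    rw [he, map_sum, Finset.sum_congr rfl (fun l _ => heblock l _ (hcD l)),
      ← Equiv.sum_comp σ.symm (fun l => φ l (c l))] at hcen
    refine hgood _ _ (fun l => ?_) (fun l => ?_) hcen
    · have := hφD (σ.symm l) _ (hcD (σ.symm l))
      rwa [σ.apply_symm_apply] at this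
    · rw [Finset.mem_map_equiv, ← hcs]
      refine not_congr ⟨fun h => ?_, fun h => by rw [h, map_zero]⟩
      by_contra h0
      obtain ⟨z, hz, hcz⟩ := hO.nd _ _ (hcD (σ.symm l)) h0
      rw [← hφ _ _ (hcD _) z hz, h, map_zero, LinearMap.zero_apply] at hcz
      exact hcz rfl
  -- pairs of non-orthogonal and orthogonal vectors in a block
  have hxy' : ∀ i, x₀ i - y₀ i ≠ 0 := fun i h => by
    have h1 := hxy₀ i
    rw [sub_eq_zero.mp h, f.alt] at h1
    exact zero_ne_one h1
  have hyne : ∀ i, y₀ i ≠ 0 := fun i h => by simpa [h] using hxy₀ i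
  have horth0 : ∀ i, ∃ z ∈ D i, z ≠ 0 ∧ z ≠ x₀ i ∧ f.B (x₀ i) z = 0 := by
    intro i
    by_cases hq : ∃ a : F, a ≠ 0 ∧ a ≠ 1
    · obtain ⟨a, ha0, ha1⟩ := hq
      refine ⟨a • x₀ i, (D i).smul_mem _ (hx₀ i), smul_ne_zero ha0 (hx₀0 i), fun h => ha1 ?_, by rw [map_smul, f.alt, smul_zero]⟩
      have h' : (a - 1) • x₀ i = 0 := by rw [sub_smul, h, one_smul, sub_self]
      exact sub_eq_zero.mp ((smul_eq_zero.mp h').resolve_right (hx₀0 i))
    · push Not at hq
      have hq2 : Fintype.card F = 2 := by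
        rw [← Finset.card_univ, show (Finset.univ : Finset F) = {0, 1} from Finset.ext fun a => by
          simp only [Finset.mem_univ, Finset.mem_insert, Finset.mem_singleton, true_iff]
          exact or_iff_not_imp_left.mpr (hq a), Finset.card_pair zero_ne_one]
      have hk2 : k ≠ 2 := fun h => hex ⟨h, hq2⟩
      have h1 := f.pair_perp_finrank (hx₀ i) (hy₀ i) (hxy₀ i)
      rw [hdec.finrank_eq] at h1
      obtain ⟨z, hz, hz0⟩ := (Submodule.ne_bot_iff _).mp (fun hb => by rw [hb, finrank_bot] at h1; omega :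
        (D i ⊓ LinearMap.ker ((f.B.flip (y₀ i)).prod (f.B.flip (x₀ i))) : Submodule F (Fin m ⊕ Fin m → F)) ≠ ⊥)
      have hk := hz.2
      simp only [SetLike.mem_coe, LinearMap.mem_ker, LinearMap.prod_apply, Function.prod_apply, Prod.mk_eq_zero,
        LinearMap.flip_apply] at hk
      refine ⟨z, hz.1, hz0, fun h => ?_, by rw [f.skew, hk.2, neg_zero]⟩
      rw [h, hxy₀] at hk
      exact one_ne_zero hk.1
  choose z₀ hz₀ hz₀0 hz₀x hxz₀ using horth0
  -- shrinking a support
  have hshrink : ∀ J, Good J → 3 ≤ J.card → ∀ i ∈ J, Good (J.erase i) := by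
    intro J hJ hcard i hi
    obtain ⟨l₀, hl₀⟩ := Finset.card_pos.mp (show 0 < (J.erase i).card by rw [Finset.card_erase_of_mem hi]; omega)
    set v : Fin t → (Fin m ⊕ Fin m → F) := fun l => if l ∈ J then x₀ l else 0 with hv
    set w : Fin t → (Fin m ⊕ Fin m → F) := fun l =>
      if l ∈ J then (if l = i then x₀ l else if l = l₀ then y₀ l else z₀ l) else 0 with hw
    have hvD : ∀ l, v l ∈ D l := fun l => by
      simp only [hv]
      split_ifs
      exacts [hx₀ l, (D l).zero_mem]
    have hwD : ∀ l, w l ∈ D l := fun l => by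
      simp only [hw]
      split_ifs
      exacts [hx₀ l, hy₀ l, hz₀ l, (D l).zero_mem]
    have h1 : f.Centre M (∑ l, v l) := hJ v hvD fun l => by
      simp only [hv]
      split_ifs with h <;> simp [h, hx₀0 l]
    have h2 : f.Centre M (∑ l, w l) := hJ w hwD fun l => by
      simp only [hw]
      split_ifs with h <;> simp [h, hx₀0 l, hyne l, hz₀0 l]
    have hB : f.B (∑ l, v l) (∑ l, w l) = 1 := by
      rw [hO.B_sum hvD hwD, Finset.sum_eq_single l₀ ?_ (fun hn => absurd (Finset.mem_univ l₀) hn)]
      · simp only [hv, hw, if_pos (Finset.mem_of_mem_erase hl₀), if_neg (Finset.ne_of_mem_erase hl₀), if_true]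
        exact hxy₀ l₀
      · intro l _ hl
        simp only [hv, hw]
        split_ifs <;> simp [f.alt, hxz₀]
    have h3 := h1.add_smul h2 (by rw [hB]; exact one_ne_zero) (-1)
    rw [neg_one_smul, ← sub_eq_add_neg, ← Finset.sum_sub_distrib] at h3
    refine hgood _ _ (fun l => (D l).sub_mem (hvD l) (hwD l)) (fun l => ?_) h3
    simp only [hv, hw, Finset.mem_erase]
    by_cases hlJ : l ∈ J
    · rw [if_pos hlJ, if_pos hlJ]
      by_cases hli : l = i
      · rw [if_pos hli]; simp [hli]
      · rw [if_neg hli]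
        by_cases hll : l = l₀
        · rw [if_pos hll]; simp [hli, hlJ, hxy']
        · rw [if_neg hll]; simp [hli, hlJ, sub_ne_zero, Ne.symm (hz₀x l)]
    · simp [hlJ]
  -- some support has at least two members
  obtain ⟨J₀, hJ₀, hJ₀2⟩ : ∃ J, Good J ∧ 2 ≤ J.card := by
    by_contra hc
    push Not at hc
    refine hg ?_
    have hone : ∀ i, ∀ w ∈ D i, ∀ a b, pr a (g.val *ᵥ w) ≠ 0 → pr b (g.val *ᵥ w) ≠ 0 → a = b := by
      intro i w hw a b ha hb
      have hJ := hgood (Finset.univ.filter fun l => pr l (g.val *ᵥ w) ≠ 0) (fun l => pr l (g.val *ᵥ w))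
        (fun l => hprD l _) (fun l => by simp) (by rw [hprsum]; exact (hC i w hw).of_conj hgM hgp)
      have h2 := hc _ hJ
      exact Finset.card_le_one.mp (Nat.le_of_lt_succ h2) a (by simp [ha]) b (by simp [hb])
    have hinjg : Function.Injective (Matrix.toLin' g.val) := fun a b h => by
      simp only [Matrix.toLin'_apply] at h
      have h2 := congrArg (g⁻¹.val *ᵥ ·) h
      simpa [Matrix.mulVec_mulVec, ← Units.val_mul] using h2
    have himg : ∀ i, ∃ j, (D i).map (Matrix.toLin' g.val) = D j := by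
      intro i
      have hne : g.val *ᵥ x₀ i ≠ 0 := fun h => hx₀0 i (hinjg (by simp [h]))
      obtain ⟨j, hj⟩ : ∃ j, pr j (g.val *ᵥ x₀ i) ≠ 0 := by
        by_contra hall
        push Not at hall
        exact hne (by rw [← hprsum (g.val *ᵥ x₀ i)]; exact Finset.sum_eq_zero fun l _ => hall l)
      refine ⟨j, Submodule.eq_of_le_of_finrank_eq ?_ (by
        rw [← (Submodule.equivMapOfInjective _ hinjg _).finrank_eq, hdec.finrank_eq, hdec.finrank_eq])⟩
      rintro _ ⟨w, hw, rfl⟩
      rw [Matrix.toLin'_apply, ← hprsum (g.val *ᵥ w)]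
      refine Submodule.sum_mem _ fun l _ => ?_
      by_cases hl : pr l (g.val *ᵥ w) = 0
      · rw [hl]; exact (D j).zero_mem
      · suffices l = j by rw [← this]; exact hprD l _
        by_contra hlj
        have h3 : pr l (g.val *ᵥ x₀ i) = 0 := by
          by_contra h
          exact hlj (hone i _ (hx₀ i) l j h hj)
        have h4 : pr j (g.val *ᵥ w) = 0 := by
          by_contra h
          exact hlj (hone i w hw l j hl h)
        refine hlj (hone i (w + x₀ i) ((D i).add_mem hw (hx₀ i)) l j ?_ ?_)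
        · rw [Matrix.mulVec_add, map_add, h3, add_zero]; exact hl
        · rw [Matrix.mulVec_add, map_add, h4, zero_add]; exact hj
    choose σ hσ using himg
    have hσinj : Function.Injective σ := by
      intro a b hab
      have h1 : D a = D b := Submodule.map_injective_of_injective hinjg (by rw [hσ, hσ, hab])
      by_contra hne
      have := hxy₀ a
      rw [hO.orth a b hne _ (hx₀ a) _ (h1 ▸ hy₀ a)] at this
      exact zero_ne_one this
    exact ⟨Equiv.ofBijective σ ⟨hσinj, Finite.injective_iff_surjective.mp hσinj⟩, fun i => hσ i⟩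
  -- one pair, hence every pair
  obtain ⟨P, hP, hP2⟩ : ∃ J, Good J ∧ J.card = 2 := by
    induction hn : J₀.card using Nat.strong_induction_on generalizing J₀ with
    | _ n ih =>
      by_cases h2 : n = 2
      · exact ⟨J₀, hJ₀, by omega⟩
      obtain ⟨i, hi⟩ := Finset.card_pos.mp (show 0 < J₀.card by omega)
      refine ih (n - 1) (by omega) (J₀.erase i) (hshrink J₀ hJ₀ (by omega) i hi) ?_ (by
        rw [Finset.card_erase_of_mem hi, hn])
      rw [Finset.card_erase_of_mem hi]
      omega
  have hpairs : ∀ a b, a ≠ b → Good {a, b} := by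
    intro a b hab
    obtain ⟨u, v, huv, rfl⟩ := Finset.card_eq_two.mp hP2
    set σ₁ : Equiv.Perm (Fin t) := Equiv.swap u a
    have hne : σ₁ v ≠ a := fun h => huv (σ₁.injective (h.trans (Equiv.swap_apply_left u a).symm)).symm
    have := hperm (σ₁.trans (Equiv.swap (σ₁ v) b)) _ hP
    rwa [Finset.map_insert, Finset.map_singleton, show (σ₁.trans (Equiv.swap (σ₁ v) b)).toEmbedding u = a by
      simp [σ₁, Equiv.swap_apply_of_ne_of_ne hne.symm hab], show (σ₁.trans (Equiv.swap (σ₁ v) b)).toEmbedding v = b by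
      simp] at this
  -- every support
  have hall : ∀ J : Finset (Fin t), J.Nonempty → Good J := by
    intro J
    induction hn : J.card using Nat.strong_induction_on generalizing J with
    | _ n ih =>
      intro hne
      rcases Nat.lt_or_ge n 2 with h | h
      · obtain ⟨i, rfl⟩ := Finset.card_eq_one.mp (show J.card = 1 by have := hne.card_pos; omega)
        refine fun c hc hcs => hC i _ ?_
        rw [Finset.sum_eq_single i (fun l _ hl => by by_contra h0; exact hl (Finset.mem_singleton.mp ((hcs l).mp h0)))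
          (fun hn => absurd (Finset.mem_univ i) hn)]
        exact hc i
      rcases Nat.lt_or_ge n 3 with h3 | h3
      · obtain ⟨a, b, hab, rfl⟩ := Finset.card_eq_two.mp (show J.card = 2 by omega)
        exact hpairs a b hab
      obtain ⟨a, ha, b, hb, hab⟩ := Finset.one_lt_card.mp (show 1 < J.card by omega)
      have hA : Good (J.erase a) := ih (n - 1) (by omega) _ (by rw [Finset.card_erase_of_mem ha, hn])
        ⟨b, Finset.mem_erase.mpr ⟨hab.symm, hb⟩⟩
      set u : Fin t → (Fin m ⊕ Fin m → F) := fun l => if l ∈ J.erase a then x₀ l else 0 with hu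
      set w : Fin t → (Fin m ⊕ Fin m → F) := fun l => if l = a then x₀ l else if l = b then y₀ l else 0 with hw
      have huD : ∀ l, u l ∈ D l := fun l => by
        simp only [hu]
        split_ifs
        exacts [hx₀ l, (D l).zero_mem]
      have hwD : ∀ l, w l ∈ D l := fun l => by
        simp only [hw]
        split_ifs
        exacts [hx₀ l, hy₀ l, (D l).zero_mem]
      have h1 : f.Centre M (∑ l, u l) := hA u huD fun l => by
        simp only [hu]
        split_ifs with h <;> simp [h, hx₀0 l]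
      have h2 : f.Centre M (∑ l, w l) := hpairs a b hab w hwD fun l => by
        simp only [hw]
        split_ifs with h h' <;> simp [*, hx₀0 l, hyne l]
      have hB : f.B (∑ l, u l) (∑ l, w l) = 1 := by
        rw [hO.B_sum huD hwD, Finset.sum_eq_single b ?_ (fun hn => absurd (Finset.mem_univ b) hn)]
        · simp only [hu, hw, if_pos (Finset.mem_erase.mpr ⟨hab.symm, hb⟩), if_neg hab.symm, if_true]
          exact hxy₀ b
        · intro l _ hl
          simp only [hu, hw, Finset.mem_erase]
          by_cases hla : l = a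
          · simp [hla]
          · simp [hla, hl]
      have h4 := h1.add h2 (by rw [hB]; exact one_ne_zero)
      rw [← Finset.sum_add_distrib] at h4
      refine hgood J _ (fun l => (D l).add_mem (huD l) (hwD l)) (fun l => ?_) h4
      simp only [hu, hw, Finset.mem_erase]
      by_cases hla : l = a
      · simp [hla, ha, hx₀0]
      · by_cases hlb : l = b
        · subst hlb
          simp only [ne_eq, hla, not_false_eq_true, hb, and_self, if_true, if_false, iff_true]
          intro h0
          have h5 := hxy₀ l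
          rw [eq_neg_of_add_eq_zero_left h0, map_neg, LinearMap.neg_apply, f.alt, neg_zero] at h5
          exact zero_ne_one h5
        · by_cases hlJ : l ∈ J <;> simp [hla, hlb, hlJ, hx₀0]
  intro x
  rw [← hprsum x]
  by_cases hx : (Finset.univ.filter fun l => pr l x ≠ 0).Nonempty
  · exact hall _ hx (fun l => pr l x) (fun l => hprD l x) (fun l => by simp)
  · rw [Finset.not_nonempty_iff_eq_empty, Finset.filter_eq_empty_iff] at hx
    rw [Finset.sum_eq_zero fun l hl => not_not.mp (hx hl)]
    exact hC ⟨0, by omega⟩ 0 (Submodule.zero_mem _)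

end Cfsg.Agent.S5647
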