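import Cfsg.Statements.S5648
import Cfsg.Agent.Lib.MaxSub.SympBlocks

set_option autoImplicit false
open Cfsg

namespace Cfsg.Agent.S5648

open Cfsg.Agent.Lib.MaxSub Matrix in
open scoped Matrix in
/-- Over the field with 2 elements and for m ≥ 7, let D be a decomposition of F^(2m) into t pairwise orthogonal non-degenerate 2-dimensional subspaces for the standard alternating form (t = m ≥ 2). Then the elements of Sp_2m(2) permuting the members of D form a subgroup that is not maximal: some subgroup lies strictly between it and Sp_2m(2). -/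
theorem result {F : Type*} [Field F] [Fintype F] (m : ℕ) (hm : 7 ≤ m) (hq : Fintype.card F = 2) {t : ℕ} (D : Fin t → Submodule F (Fin m ⊕ Fin m → F)) (hD : Cfsg.Geo.IsNondegenerateMDecomposition (Cfsg.sympForm m F) 2 D) : ∃ K : Subgroup (Matrix.GeneralLinearGroup (Fin m ⊕ Fin m) F), Cfsg.Geo.decompositionStabilizer D ⊓ Cfsg.spGL m F < K ∧ K < Cfsg.spGL m F := by
  classical
  set f := stdAlt m F with hf
  obtain ⟨hdec, hnd, horth⟩ := hD
  have hO : f.OrthDecomp D := ⟨hdec.iSup_eq_top, fun i a ha ha0 => by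
      obtain ⟨x, hx, hax⟩ := (hnd i a ha ha0).2
      exact ⟨x, hx, by rw [hf, stdAlt_apply]; exact hax⟩,
    fun i j hij x hx y hy => by rw [hf, stdAlt_apply]; exact horth i j hij x hx y hy⟩
  obtain ⟨pr, hprD, hprsum, hprblock⟩ := hO.exists_proj
  have hbot : ∀ i, D i ≠ ⊥ := fun i h => by
    have h1 := hdec.finrank_eq i
    rw [h, finrank_bot] at h1
    omega
  choose x₀ hx₀ y₀ hy₀ hxy₀ using fun i => f.exists_pair (hO.nd i) (hbot i)
  have hx₀0 : ∀ i, x₀ i ≠ 0 := fun i h => by simpa [h] using hxy₀ i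
  have ht : m ≤ t := by
    let Φ : (Fin m ⊕ Fin m → F) →ₗ[F] (∀ i, D i) := LinearMap.pi fun i => (pr i).codRestrict (D i) (hprD i)
    have hΦ : Function.Injective Φ := (injective_iff_map_eq_zero Φ).mpr fun x hx => by
      rw [← hprsum x]
      exact Finset.sum_eq_zero fun i _ => congrArg Subtype.val (congrFun hx i)
    have h1 := LinearMap.finrank_le_finrank_of_injective hΦ
    simp [Module.finrank_pi_fintype, hdec.finrank_eq] at h1
    omega
  set i₀ : Fin t := ⟨0, by omega⟩
  set i₁ : Fin t := ⟨1, by omega⟩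
  set i₂ : Fin t := ⟨2, by omega⟩
  have h01 : i₀ ≠ i₁ := by simp [i₀, i₁, Fin.ext_iff]
  have h02 : i₀ ≠ i₂ := by simp [i₀, i₂, Fin.ext_iff]
  have h12 : i₁ ≠ i₂ := by simp [i₁, i₂, Fin.ext_iff]
  have hF : ∀ a : F, a ≠ 0 → a = 1 := fun a ha => by
    have := FiniteField.pow_card_sub_one_eq_one a ha
    rw [hq] at this
    simpa using this
  have h2F : (2 : F) = 0 := by
    have := FiniteField.cast_card_eq_zero F
    rw [hq] at this
    exact_mod_cast this
  -- on a block the indicator of the non-zero vectors has polar form `B`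
  let N : (Fin m ⊕ Fin m → F) → F := fun a => if a = 0 then 0 else 1
  have hN : ∀ i, ∀ a ∈ D i, ∀ b ∈ D i, N (a + b) = N a + N b + f.B a b := by
    intro i a ha b hb
    by_cases ha0 : a = 0
    · simp [N, ha0]
    by_cases hb0 : b = 0
    · simp [N, hb0]
    by_cases hab : a + b = 0
    · have : b = -a := eq_neg_of_add_eq_zero_right hab
      subst this
      simp only [N, hab, if_pos, if_neg ha0, if_neg hb0, map_neg, f.alt, neg_zero, add_zero]
      linear_combination (-1 : F) * h2F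
    have hB : f.B a b = 1 := by
      refine hF _ fun h => ?_
      obtain ⟨z, hz, haz⟩ := hO.nd i a ha ha0
      have hli : LinearIndependent F ![a, b] := by
        rw [LinearIndependent.pair_iff]
        intro s u hsu
        rcases eq_or_ne s 0 with rfl | hs <;> rcases eq_or_ne u 0 with rfl | hu
        · simp
        · simp [hu, hb0] at hsu
        · simp [hs, ha0] at hsu
        · rw [hF s hs, hF u hu, one_smul, one_smul] at hsu
          exact absurd hsu hab
      have hspan : Submodule.span F (Set.range ![a, b]) = D i := by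
        refine Submodule.eq_of_le_of_finrank_eq (Submodule.span_le.mpr ?_)
          (by rw [finrank_span_eq_card hli, hdec.finrank_eq, Fintype.card_fin])
        rintro _ ⟨j, rfl⟩
        fin_cases j
        exacts [ha, hb]
      rw [← hspan, Submodule.mem_span_range_iff_exists_fun] at hz
      obtain ⟨c, rfl⟩ := hz
      simp [Fin.sum_univ_two, h, f.alt] at haz
    simp only [N, if_neg hab, if_neg ha0, if_neg hb0, hB]
    linear_combination (-1 : F) * h2F
  let Q : (Fin m ⊕ Fin m → F) → F := fun x => ∑ i, N (pr i x)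
  have hQ : ∀ x y, Q (x + y) = Q x + Q y + f.B x y := by
    intro x y
    have hB : f.B x y = ∑ i, f.B (pr i x) (pr i y) := by
      conv_lhs => rw [← hprsum x, ← hprsum y]
      rw [hO.B_sum (fun i => hprD i x) (fun i => hprD i y)]
    rw [hB]
    simp only [Q, map_add, ← Finset.sum_add_distrib]
    exact Finset.sum_congr rfl fun i _ => hN i _ (hprD i x) _ (hprD i y)
  have hQone : ∀ i, ∀ a ∈ D i, Q a = N a := fun i a ha => by
    simp only [Q]
    rw [Finset.sum_eq_single i (fun j _ hj => by simp [hprblock i j a ha, hj, N])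
      (fun hn => absurd (Finset.mem_univ i) hn), hprblock i i a ha, if_pos rfl]
  let K : Subgroup (GL (Fin m ⊕ Fin m) F) :=
    { carrier := {g | g ∈ Cfsg.spGL m F ∧ ∀ x, Q (g.val *ᵥ x) = Q x}
      mul_mem' := fun {a b} ha hb => ⟨mul_mem ha.1 hb.1, fun x => by
        rw [Units.val_mul, ← Matrix.mulVec_mulVec, ha.2, hb.2]⟩
      one_mem' := ⟨one_mem _, fun x => by rw [Units.val_one, Matrix.one_mulVec]⟩
      inv_mem' := fun {a} ha => ⟨inv_mem ha.1, fun x => by
        conv_rhs => rw [show x = a.val *ᵥ ((a⁻¹).val *ᵥ x) by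
          rw [Matrix.mulVec_mulVec, ← Units.val_mul, mul_inv_cancel, Units.val_one, Matrix.one_mulVec]]
        rw [ha.2]⟩ }
  have hle : Cfsg.Geo.decompositionStabilizer D ⊓ Cfsg.spGL m F ≤ K := by
    rintro g ⟨⟨σ, hσ⟩, hg⟩
    refine ⟨hg, fun x => ?_⟩
    have hinj : ∀ a, g.val *ᵥ a = 0 → a = 0 := fun a ha => by
      have := congrArg (g⁻¹.val *ᵥ ·) ha
      simpa [Matrix.mulVec_mulVec, ← Units.val_mul] using this
    have hmem : ∀ l, g.val *ᵥ pr l x ∈ D (σ l) := fun l => hσ l ▸ ⟨_, hprD l x, Matrix.toLin'_apply _ _⟩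
    have hpr : ∀ l, pr (σ l) (g.val *ᵥ x) = g.val *ᵥ pr l x := by
      intro l
      conv_lhs => rw [← hprsum x, Matrix.mulVec_sum, map_sum]
      rw [Finset.sum_eq_single l (fun b _ hb => by rw [hprblock _ _ _ (hmem b), if_neg fun h => hb (σ.injective h).symm])
        (fun hn => absurd (Finset.mem_univ l) hn), hprblock _ _ _ (hmem l), if_pos rfl]
    simp only [Q]
    rw [← Equiv.sum_comp σ]
    refine Finset.sum_congr rfl fun l _ => ?_
    simp only [N, hpr]
    by_cases h : pr l x = 0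
    · simp [h]
    · rw [if_neg h, if_neg fun h' => h (hinj _ h')]
  refine ⟨K, lt_of_le_of_ne hle ?_, lt_of_le_of_ne (fun g hg => hg.1) ?_⟩
  · intro h
    set w := x₀ i₀ + x₀ i₁ + x₀ i₂ with hw
    have hQw : Q w = 1 := by
      rw [hw, hQ, hQ, hQone i₀ _ (hx₀ i₀), hQone i₁ _ (hx₀ i₁), hQone i₂ _ (hx₀ i₂), map_add, LinearMap.add_apply,
        hO.orth i₀ i₁ h01 _ (hx₀ i₀) _ (hx₀ i₁), hO.orth i₀ i₂ h02 _ (hx₀ i₀) _ (hx₀ i₂),
        hO.orth i₁ i₂ h12 _ (hx₀ i₁) _ (hx₀ i₂)]
      simp only [N, if_neg (hx₀0 _)]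
      linear_combination h2F
    have hmem : f.trans w 1 ∈ K := ⟨mem_spGL_iff.mpr (f.trans_preserves w 1), fun x => by
      rw [AltForm.trans_mulVec, one_mul]
      rcases eq_or_ne (f.B x w) 0 with h0 | h0
      · rw [h0, zero_smul, add_zero]
      · rw [hF _ h0, one_smul, hQ, hQw, hF _ h0]
        linear_combination h2F⟩
    rw [← h] at hmem
    obtain ⟨σ, hσ⟩ := hmem.1
    have h1 : (f.trans w 1).val *ᵥ y₀ i₀ ∈ D (σ i₀) := hσ i₀ ▸ ⟨y₀ i₀, hy₀ i₀, Matrix.toLin'_apply _ _⟩
    have hne : f.B (y₀ i₀) w = 1 := by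
      refine hF _ ?_
      rw [hw, map_add, map_add, hO.orth i₀ i₁ h01 _ (hy₀ i₀) _ (hx₀ i₁),
        hO.orth i₀ i₂ h02 _ (hy₀ i₀) _ (hx₀ i₂), add_zero, add_zero, f.skew, hxy₀]
      exact neg_ne_zero.mpr one_ne_zero
    rw [AltForm.trans_mulVec, one_mul, hne, one_smul, hw] at h1
    have hp : ∀ j, j ≠ i₀ → σ i₀ ≠ j → pr j (x₀ i₁) + pr j (x₀ i₂) = 0 := fun j hj hσj => by
      have h2 := hprblock _ j _ h1
      rw [if_neg hσj.symm, map_add, map_add, map_add, hprblock _ _ _ (hy₀ i₀), hprblock _ _ _ (hx₀ i₀), if_neg hj,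
        if_neg hj, zero_add, zero_add] at h2
      exact h2
    rcases eq_or_ne (σ i₀) i₁ with hs | hs
    · have := hp i₂ h02.symm (by rw [hs]; exact h12)
      rw [hprblock _ _ _ (hx₀ i₁), hprblock _ _ _ (hx₀ i₂), if_neg h12.symm, if_pos rfl, zero_add] at this
      exact hx₀0 i₂ this
    · have := hp i₁ h01.symm hs
      rw [hprblock _ _ _ (hx₀ i₁), hprblock _ _ _ (hx₀ i₂), if_neg h12, if_pos rfl, add_zero] at this
      exact hx₀0 i₁ this
  · intro h
    set w := x₀ i₀ + x₀ i₁ with hw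
    have hmem : f.trans w 1 ∈ Cfsg.spGL m F := mem_spGL_iff.mpr (f.trans_preserves w 1)
    rw [← h] at hmem
    have hBy : f.B (y₀ i₀) w = 1 := by
      refine hF _ ?_
      rw [hw, map_add, hO.orth i₀ i₁ h01 _ (hy₀ i₀) _ (hx₀ i₁), add_zero, f.skew, hxy₀]
      exact neg_ne_zero.mpr one_ne_zero
    have h1 := hmem.2 (y₀ i₀)
    rw [AltForm.trans_mulVec, one_mul, hBy, one_smul, hQ, hBy, hw, hQ, hQone i₀ _ (hx₀ i₀), hQone i₁ _ (hx₀ i₁),
      hO.orth i₀ i₁ h01 _ (hx₀ i₀) _ (hx₀ i₁)] at h1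
    simp only [N, if_neg (hx₀0 _)] at h1
    exact one_ne_zero (α := F) (by linear_combination h1 - h2F)

end Cfsg.Agent.S5648
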