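import Cfsg.Statements.S5649
import Cfsg.Agent.Lib.MaxSub.SympSubfield

set_option autoImplicit false
open Cfsg

namespace Cfsg.Agent.S5649

set_option maxHeartbeats 800000
open Cfsg.Agent.Lib.MaxSub Matrix
open scoped MatrixGroups Matrix

section core

variable {ι : Type} [Fintype ι] [DecidableEq ι] {F : Type*} [Field F] {f : AltForm ι F}
  (K : Subgroup (GL ι F))

/-- Two complementary totally isotropic subspaces, and a group with their mixed short root elements. -/
structure Pair (f : AltForm ι F) (K : Subgroup (GL ι F)) where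
  X : Submodule F (ι → F)
  Y : Submodule F (ι → F)
  compl : IsCompl X Y
  isoX : ∀ u ∈ X, ∀ v ∈ X, f.B u v = 0
  isoY : ∀ u ∈ Y, ∀ v ∈ Y, f.B u v = 0
  dimX : 7 ≤ Module.finrank F X
  dimY : 7 ≤ Module.finrank F Y
  mixed : ∀ u ∈ X, ∀ v ∈ Y, f.B u v = 0 → ∀ c, f.sh u v c ∈ K

variable {K} (E : Pair f K)

def Pair.swap : Pair f K where
  X := E.Y
  Y := E.X
  compl := E.compl.symm
  isoX := E.isoY
  isoY := E.isoX
  dimX := E.dimY
  dimY := E.dimX
  mixed := fun u hu v hv h c => by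
    rw [RatSymp.sh_comm h]
    exact E.mixed v hv u hu (by rw [f.skew, h, neg_zero]) c

theorem Pair.split (x : ι → F) : ∃ a ∈ E.X, ∃ b ∈ E.Y, a + b = x := by
  have h : x ∈ E.X ⊔ E.Y := by rw [E.compl.sup_eq_top]; trivial
  exact Submodule.mem_sup.mp h

theorem Pair.dual (W : Submodule F (ι → F)) (hW : W ≤ E.X) {x : ι → F} (hx : x ∈ E.X) (hxW : x ∉ W) :
    ∃ v ∈ E.Y, (∀ w ∈ W, f.B w v = 0) ∧ f.B x v = 1 := by
  obtain ⟨z, hz, hxz⟩ := f.exists_perp_eq_one W hxW
  obtain ⟨a, ha, b, hb, rfl⟩ := E.split z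
  refine ⟨b, hb, fun w hw => ?_, ?_⟩
  · have := hz w hw
    rwa [map_add, E.isoX w (hW hw) a ha, zero_add] at this
  · rwa [map_add, E.isoX x hx a ha, zero_add] at hxz

/-- The element moving `x` to `x + d` and fixing `W`. -/
theorem Pair.mover {x d : ι → F} (hd : d ∈ E.X) (hx : x ∈ E.X) (W : Submodule F (ι → F)) (hW : W ≤ E.X)
    (hxW : x ∉ W ⊔ F ∙ d) :
    ∃ v ∈ E.Y, f.B d v = 0 ∧ f.sh d v 1 ∈ K ∧
      (∀ z ∈ E.X, (f.sh d v 1 : Matrix ι ι F) *ᵥ z = z + f.B z v • d) ∧
      f.B x v = 1 ∧ ∀ w ∈ W, f.B w v = 0 := by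
  obtain ⟨v, hv, hWv, hxv⟩ := E.dual (W ⊔ F ∙ d) (sup_le hW ((Submodule.span_singleton_le_iff_mem _ _).mpr hd)) hx hxW
  have hdv : f.B d v = 0 := hWv d (Submodule.mem_sup_right (Submodule.mem_span_singleton_self d))
  refine ⟨v, hv, hdv, E.mixed d hd v hv hdv 1, fun z hz => ?_, hxv, fun w hw => hWv w (Submodule.mem_sup_left hw)⟩
  rw [f.sh_mulVec hdv, E.isoX z hz d hd, mul_zero, zero_smul, add_zero, one_mul]

/-- Membership of all scaled short root elements on a pair in the first space. -/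
def Pair.Sh (_E : Pair f K) (u v : ι → F) : Prop := ∀ c, f.sh u v c ∈ K

theorem Pair.sh_diff {u u' v : ι → F} (hu : u ∈ E.X) (hu' : u' ∈ E.X) (hv : v ∈ E.X)
    (h : E.Sh u v) (h' : E.Sh u' v) : E.Sh (u - u') v := by
  intro c
  have hm := K.mul_mem (h c) (h' (-c))
  rwa [f.sh_mul_sh (E.isoX u hu v hv) (E.isoX u' hu' v hv), E.isoX u' hu' u hu, mul_zero, neg_zero,
    show f.trans v 0 = 1 from Units.ext (eq_of_mulVec_eq fun x => by simp [AltForm.trans_mulVec]), mul_one] at hm

theorem exists_outside (W : Submodule F (ι → F)) {X : Submodule F (ι → F)}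
    (h : Module.finrank F W < Module.finrank F X) : ∃ r ∈ X, r ∉ W := by
  by_contra hc
  push Not at hc
  exact absurd (Submodule.finrank_mono hc) (not_le.mpr h)

theorem finrank_span2 (a b : ι → F) : Module.finrank F (Submodule.span F ({a, b} : Set (ι → F))) ≤ 2 := by
  classical
  have := finrank_span_finset_le_card (R := F) ({a, b} : Finset (ι → F))
  rw [Finset.coe_pair] at this
  exact this.trans Finset.card_le_two

/-- One independent pair in the first space gives the first space as centres. -/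
theorem Pair.centre_of_sh (h2 : (2 : F) ≠ 0) {x y : ι → F} (hx : x ∈ E.X) (hy : y ∈ E.X)
    (hxy : x ∉ F ∙ y) (hy0ne : y ≠ 0) (h : E.Sh x y) : ∀ w ∈ E.X, f.Centre K w := by
  classical
  -- first spreading
  have spread : ∀ x y, x ∈ E.X → y ∈ E.X → x ∉ F ∙ y → E.Sh x y → ∀ z ∈ E.X, E.Sh z y := by
    intro x y hx hy hxy h
    have out : ∀ d ∈ E.X, d ∉ Submodule.span F ({x, y} : Set (ι → F)) → E.Sh d y := by
      intro d hd hdW
      obtain ⟨v, hv, hdv, hkK, hk, hxv, hWv⟩ := E.mover hd hx (F ∙ y)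
        ((Submodule.span_singleton_le_iff_mem _ _).mpr hy) (fun hm => by
          obtain ⟨a, ha, b, hb, hab⟩ := Submodule.mem_sup.mp hm
          obtain ⟨s, rfl⟩ := Submodule.mem_span_singleton.mp ha
          obtain ⟨t, rfl⟩ := Submodule.mem_span_singleton.mp hb
          rcases eq_or_ne t 0 with rfl | ht
          · exact hxy (Submodule.mem_span_singleton.mpr ⟨s, by rw [← hab, zero_smul, add_zero]⟩)
          · exact hdW (Submodule.mem_span_pair.mpr ⟨t⁻¹, -(t⁻¹ * s), by
              rw [← hab, smul_add, smul_smul, smul_smul, inv_mul_cancel₀ ht, one_smul, neg_smul]; abel⟩))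
      have hyv : f.B y v = 0 := hWv y (Submodule.mem_span_singleton_self y)
      intro c
      have hc := RatSymp.conj_mem hkK (h c)
      rw [f.conj_sh (f.sh_preserves _ _ _), hk x hx, hk y hy, hxv, hyv, one_smul, zero_smul, add_zero] at hc
      have hm := K.mul_mem hc (h (-c))
      rwa [f.sh_mul_sh (E.isoX _ (E.X.add_mem hx hd) y hy) (E.isoX x hx y hy), add_sub_cancel_left,
        E.isoX x hx _ (E.X.add_mem hx hd), mul_zero, neg_zero,
        show f.trans y 0 = 1 from Units.ext (eq_of_mulVec_eq fun z => by simp [AltForm.trans_mulVec]), mul_one] at hm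
    intro z hz
    by_cases hzW : z ∈ Submodule.span F ({x, y} : Set (ι → F))
    · obtain ⟨r, hr, hrW⟩ := exists_outside (Submodule.span F ({x, y} : Set (ι → F))) (X := E.X)
        (by have := finrank_span2 (F := F) x y; have := E.dimX; omega)
      have := E.sh_diff (E.X.add_mem hz hr) hr hy
        (out _ (E.X.add_mem hz hr) (fun hm => hrW ((Submodule.add_mem_iff_right _ hzW).mp hm))) (out r hr hrW)
      rwa [add_sub_cancel_right] at this
    · exact out z hz hzW
  have hall := spread x y hx hy hxy h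
  have hcen : ∀ w ∈ E.X, E.Sh w w → f.Centre K w := by
    intro w hw hsh c
    have := hsh (c / 2)
    rwa [show f.sh w w (c / 2) = f.trans w c from Units.ext (eq_of_mulVec_eq fun z => by
      rw [f.sh_mulVec (f.alt w), AltForm.trans_mulVec, add_assoc, ← add_smul]
      congr 2; field_simp; ring)] at this
  have hy0 : f.Centre K y := hcen y hy (hall y hy)
  intro w hw
  by_cases hwy : w ∈ F ∙ y
  · obtain ⟨s, rfl⟩ := Submodule.mem_span_singleton.mp hwy
    exact hy0.smul s
  obtain ⟨z, hz, hzW⟩ := exists_outside (Submodule.span F ({y, w} : Set (ι → F))) (X := E.X)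
    (by have := finrank_span2 (F := F) y w; have := E.dimX; omega)
  have hd : w - y ∈ E.X := E.X.sub_mem hw hy
  obtain ⟨v, hv, hdv, hkK, hk, hyv, hWv⟩ := E.mover hd hy (F ∙ z)
    ((Submodule.span_singleton_le_iff_mem _ _).mpr hz) (fun hm => by
      obtain ⟨a, ha, b, hb, hab⟩ := Submodule.mem_sup.mp hm
      obtain ⟨s, rfl⟩ := Submodule.mem_span_singleton.mp ha
      obtain ⟨t, rfl⟩ := Submodule.mem_span_singleton.mp hb
      rcases eq_or_ne s 0 with rfl | hs
      · rw [zero_smul, zero_add] at hab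
        rcases eq_or_ne t 0 with rfl | ht
        · rw [zero_smul] at hab
          exact hy0ne hab.symm
        · refine hwy (Submodule.mem_span_singleton.mpr ⟨1 + t⁻¹, ?_⟩)
          have : w - y = t⁻¹ • y := by
            conv_rhs => rw [← hab, smul_smul, inv_mul_cancel₀ ht, one_smul]
          rw [add_smul, one_smul, ← this]; abel
      · refine hzW (Submodule.mem_span_pair.mpr ⟨s⁻¹ + s⁻¹ * t, -(s⁻¹ * t), ?_⟩)
        rw [show z = s⁻¹ • (s • z) by rw [smul_smul, inv_mul_cancel₀ hs, one_smul],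
          show s • z = y - t • (w - y) from eq_sub_of_add_eq hab]
        module)
  have hzy : E.Sh z y := hall z hz
  have hzw : E.Sh z w := by
    intro c
    have hc := RatSymp.conj_mem hkK (hzy c)
    rw [f.conj_sh (f.sh_preserves _ _ _), hk z hz, hk y hy, hyv, hWv z (Submodule.mem_span_singleton_self z),
      one_smul, zero_smul, add_zero, add_sub_cancel] at hc
    exact hc
  exact hcen w hw (spread z w hz hw (fun hm => hzW (Submodule.span_mono (by simp) hm)) hzw w hw)

/-- A short root element whose first components are independent gives centres. -/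
theorem Pair.centre_of_image (h2 : (2 : F) ≠ 0) {a₀ a₁ b₀ b₁ : ι → F} (ha₀ : a₀ ∈ E.X) (ha₁ : a₁ ∈ E.Y)
    (hb₀ : b₀ ∈ E.X) (hb₁ : b₁ ∈ E.Y) (hab : a₀ ∉ F ∙ b₀) (hb0 : b₀ ≠ 0) (horth : f.B (a₀ + a₁) (b₀ + b₁) = 0)
    (h : ∀ c, f.sh (a₀ + a₁) (b₀ + b₁) c ∈ K) : ∀ w ∈ E.X, f.Centre K w := by
  classical
  have hskew0 : ∀ {p q : ι → F}, f.B p q = 0 → f.B q p = 0 := fun {p q} h => by rw [f.skew, h, neg_zero]
  obtain ⟨d, hd, hdW⟩ : ∃ d ∈ E.X ⊓ LinearMap.ker ((f.B a₁).prod (f.B b₁)),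
      d ∉ Submodule.span F ({a₀, b₀} : Set (ι → F)) := by
    refine exists_outside _ ?_
    let φ := ((f.B a₁).prod (f.B b₁)).domRestrict E.X
    have h1 := φ.finrank_range_add_finrank_ker
    have h3 : Module.finrank F (LinearMap.range φ) ≤ 2 := (Submodule.finrank_le _).trans (by simp)
    have h4 : Module.finrank F (LinearMap.ker φ) ≤
        Module.finrank F (E.X ⊓ LinearMap.ker ((f.B a₁).prod (f.B b₁)) : Submodule F (ι → F)) := by
      rw [← Submodule.finrank_map_subtype_eq]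
      refine Submodule.finrank_mono ?_
      rintro _ ⟨z, hz, rfl⟩
      exact ⟨z.2, hz⟩
    have := E.dimX
    have := finrank_span2 (F := F) a₀ b₀
    omega
  obtain ⟨hdX, hdk⟩ := Submodule.mem_inf.mp hd
  simp only [LinearMap.mem_ker, LinearMap.prod_apply, Function.prod_apply, Prod.mk_eq_zero] at hdk
  obtain ⟨v, hv, hdv, hkK, hk, hav, hWv⟩ := E.mover hdX ha₀ (F ∙ b₀)
    ((Submodule.span_singleton_le_iff_mem _ _).mpr hb₀) (fun hm => by
      obtain ⟨a, ha, b, hb, hab'⟩ := Submodule.mem_sup.mp hm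
      obtain ⟨s, rfl⟩ := Submodule.mem_span_singleton.mp ha
      obtain ⟨t, rfl⟩ := Submodule.mem_span_singleton.mp hb
      rcases eq_or_ne t 0 with rfl | ht
      · exact hab (Submodule.mem_span_singleton.mpr ⟨s, by rw [← hab', zero_smul, add_zero]⟩)
      · exact hdW (Submodule.mem_span_pair.mpr ⟨t⁻¹, -(t⁻¹ * s), by
          rw [← hab', smul_add, smul_smul, smul_smul, inv_mul_cancel₀ ht, one_smul, neg_smul]; abel⟩))
  have hkY : ∀ z ∈ E.Y, f.B z d = 0 → (f.sh d v 1 : Matrix ι ι F) *ᵥ z = z := fun z hz hzd => by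
    rw [f.sh_mulVec hdv, hzd, E.isoY z hz v hv, mul_zero, zero_smul, zero_smul, add_zero, add_zero]
  have hka : (f.sh d v 1 : Matrix ι ι F) *ᵥ (a₀ + a₁) = a₀ + a₁ + d := by
    rw [Matrix.mulVec_add, hk a₀ ha₀, hkY a₁ ha₁ hdk.1, hav, one_smul]; abel
  have hkb : (f.sh d v 1 : Matrix ι ι F) *ᵥ (b₀ + b₁) = b₀ + b₁ := by
    rw [Matrix.mulVec_add, hk b₀ hb₀, hkY b₁ hb₁ hdk.2, hWv b₀ (Submodule.mem_span_singleton_self b₀), zero_smul,
      add_zero]
  have hdb : f.B d (b₀ + b₁) = 0 := by rw [map_add, E.isoX d hdX b₀ hb₀, hskew0 hdk.2, add_zero]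
  have h1 : ∀ c, f.sh d (b₀ + b₁) c ∈ K := by
    intro c
    have hc := RatSymp.conj_mem hkK (h c)
    rw [f.conj_sh (f.sh_preserves _ _ _), hka, hkb] at hc
    have hm := K.mul_mem hc (h (-c))
    rwa [f.sh_mul_sh (by rw [map_add f.B, LinearMap.add_apply, horth, hdb, add_zero]) horth, add_sub_cancel_left,
      show f.B (a₀ + a₁) (a₀ + a₁ + d) = 0 by
        rw [map_add, f.alt, zero_add, map_add f.B, LinearMap.add_apply, E.isoX a₀ ha₀ d hdX, hdk.1, add_zero],
      mul_zero, neg_zero,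
      show f.trans (b₀ + b₁) 0 = 1 from Units.ext (eq_of_mulVec_eq fun z => by simp [AltForm.trans_mulVec]),
      mul_one] at hm
  -- strip the second component
  have hdb₀ : f.B b₀ d = 0 := E.isoX b₀ hb₀ d hdX
  have hdb₁ : f.B b₁ d = 0 := hdk.2
  have h3 : ∀ c, ∃ κ, f.sh b₀ d c * f.trans d κ ∈ K := by
    intro c
    have hm := K.mul_mem (h1 c) (E.mixed d hdX b₁ hb₁ (hskew0 hdb₁) (-c))
    rw [RatSymp.sh_comm hdb, RatSymp.sh_comm (hskew0 hdb₁), f.sh_mul_sh (hskew0 hdb) hdb₁,
      add_sub_cancel_right] at hm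
    exact ⟨_, hm⟩
  obtain ⟨e, he, heW⟩ := exists_outside (Submodule.span F ({b₀, d} : Set (ι → F))) (X := E.X)
    (by have := finrank_span2 (F := F) b₀ d; have := E.dimX; omega)
  have hbd : b₀ ∉ F ∙ d := fun hm => by
    obtain ⟨s, hs⟩ := Submodule.mem_span_singleton.mp hm
    rcases eq_or_ne s 0 with rfl | hs0
    · exact hb0 (by rw [← hs, zero_smul])
    · exact hdW (Submodule.mem_span_pair.mpr ⟨0, s⁻¹, by
        rw [zero_smul, zero_add, ← hs, smul_smul, inv_mul_cancel₀ hs0, one_smul]⟩)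
  obtain ⟨v', hv', hev, hk'K, hk', hbv, hWv'⟩ := E.mover he hb₀ (F ∙ d)
    ((Submodule.span_singleton_le_iff_mem _ _).mpr hdX) (fun hm => by
      obtain ⟨a, ha, b, hb, hab'⟩ := Submodule.mem_sup.mp hm
      obtain ⟨s, rfl⟩ := Submodule.mem_span_singleton.mp ha
      obtain ⟨t, rfl⟩ := Submodule.mem_span_singleton.mp hb
      rcases eq_or_ne t 0 with rfl | ht
      · exact hbd (Submodule.mem_span_singleton.mpr ⟨s, by rw [← hab', zero_smul, add_zero]⟩)
      · exact heW (Submodule.mem_span_pair.mpr ⟨t⁻¹, -(t⁻¹ * s), by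
          rw [← hab', smul_add, smul_smul, smul_smul, inv_mul_cancel₀ ht, one_smul, neg_smul]; abel⟩))
  refine E.centre_of_sh h2 he hdX (fun hm => heW (Submodule.span_mono (by simp) hm)) (fun h0 => hdW (h0 ▸ Submodule.zero_mem _)) fun c => ?_
  obtain ⟨κ, hκ⟩ := h3 c
  have hc := RatSymp.conj_mem hk'K hκ
  rw [← conj_mul, f.conj_sh (f.sh_preserves _ _ _), f.conj_trans (f.sh_preserves _ _ _), hk' b₀ hb₀, hk' d hdX, hbv,
    hWv' d (Submodule.mem_span_singleton_self d), one_smul, zero_smul, add_zero] at hc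
  have hm := K.mul_mem hc (K.inv_mem hκ)
  rwa [_root_.mul_inv_rev, mul_assoc, mul_inv_cancel_left, f.sh_inv hdb₀,
    f.sh_mul_sh (E.isoX _ (E.X.add_mem hb₀ he) d hdX) hdb₀, add_sub_cancel_left,
    E.isoX b₀ hb₀ _ (E.X.add_mem hb₀ he), mul_zero, neg_zero,
    show f.trans d 0 = 1 from Units.ext (eq_of_mulVec_eq fun z => by simp [AltForm.trans_mulVec]), mul_one] at hm

end core

/-- For a finite field F of odd order and m ≥ 7, let D be a decomposition of F^(2m) into two complementary subspaces of dimension m on each of which the standard alternating form vanishes identically. Then the elements of Sp_2m(F) preserving or interchanging the two subspaces form a maximal subgroup of Sp_2m(F). -/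
theorem result {F : Type*} [Field F] [Fintype F] (m : ℕ) (hm : 7 ≤ m) (hodd : Odd (Fintype.card F)) (D : Fin 2 → Submodule F (Fin m ⊕ Fin m → F)) (hD : Cfsg.Geo.IsMDecomposition m D) (hts : ∀ i, Cfsg.Geo.IsTotallySingularFor (Cfsg.sympForm m F) (D i)) : Cfsg.Geo.IsMaximalIn (Cfsg.spGL m F) (Cfsg.Geo.decompositionStabilizer D ⊓ Cfsg.spGL m F) := by
  classical
  set f := stdAlt m F with hf
  have h2 : (2 : F) ≠ 0 := fun h => by
    haveI : CharP F 2 := CharTwo.of_one_ne_zero_of_two_eq_zero one_ne_zero h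
    have h1 := FiniteField.even_card_of_char_two (F := F) (ringChar.eq F 2)
    exact (Nat.not_even_iff_odd.mpr hodd) (Nat.even_iff.mpr h1)
  have hiso : ∀ i, ∀ u ∈ D i, ∀ v ∈ D i, f.B u v = 0 := fun i u hu v hv => by
    rw [hf, stdAlt_apply]; exact hts i u hu v hv
  have hcompl : IsCompl (D 0) (D 1) := by
    refine ⟨hD.indep.pairwiseDisjoint (by decide), codisjoint_iff.mpr ?_⟩
    rw [← hD.iSup_eq_top]
    refine le_antisymm (sup_le (le_iSup D 0) (le_iSup D 1)) (iSup_le fun i => ?_)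
    fin_cases i
    exacts [le_sup_left, le_sup_right]
  have hfix : ∀ u ∈ D 0, ∀ v ∈ D 1, f.B u v = 0 → ∀ c,
      f.sh u v c ∈ Cfsg.Geo.decompositionStabilizer D ⊓ Cfsg.spGL m F := by
    intro u hu v hv huv c
    refine ⟨⟨1, fun l => ?_⟩, mem_spGL_iff.mpr (f.sh_preserves _ _ _)⟩
    have hmap : (D l).map (Matrix.toLin' (f.sh u v c).val) ≤ D l := by
      rintro _ ⟨x, hx, rfl⟩
      rw [Matrix.toLin'_apply, f.sh_mulVec huv]
      fin_cases l
      · rw [hiso 0 x hx u hu, mul_zero, zero_smul, add_zero]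
        exact (D 0).add_mem hx ((D 0).smul_mem _ hu)
      · rw [hiso 1 x hx v hv, mul_zero, zero_smul, add_zero]
        exact (D 1).add_mem hx ((D 1).smul_mem _ hv)
    refine Submodule.eq_of_le_of_finrank_eq hmap ?_
    exact (Submodule.equivMapOfInjective _ (fun a b h => by
      simp only [Matrix.toLin'_apply] at h
      have h2 := congrArg ((f.sh u v c)⁻¹.val *ᵥ ·) h
      simpa [Matrix.mulVec_mulVec, ← Units.val_mul] using h2) _).finrank_eq.symm
  let E : Pair f (Cfsg.Geo.decompositionStabilizer D ⊓ Cfsg.spGL m F) :=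
    ⟨D 0, D 1, hcompl, hiso 0, hiso 1, by rw [hD.finrank_eq]; omega, by rw [hD.finrank_eq]; omega, hfix⟩
  have hdisj : ∀ x, x ∈ D 0 → x ∈ D 1 → x = 0 := fun x h0 h1 =>
    Submodule.disjoint_def.mp hcompl.disjoint x h0 h1
  refine ⟨lt_of_le_of_ne inf_le_right ?_, ?_⟩
  · intro h
    obtain ⟨e, he, he0⟩ := (Submodule.ne_bot_iff (D 0)).mp fun hb => by
      have h1 := hD.finrank_eq 0
      rw [hb, finrank_bot] at h1; omega
    obtain ⟨v, hv, -, hev⟩ := E.dual ⊥ bot_le he (by simpa using he0)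
    have hmem : f.trans e 1 ∈ Cfsg.Geo.decompositionStabilizer D ⊓ Cfsg.spGL m F := by
      rw [h]; exact mem_spGL_iff.mpr (f.trans_preserves _ _)
    obtain ⟨σ, hσ⟩ := hmem.1
    have h1 : (f.trans e 1).val *ᵥ v ∈ D (σ 1) := hσ 1 ▸ ⟨v, hv, Matrix.toLin'_apply _ _⟩
    have h0 : (f.trans e 1).val *ᵥ e ∈ D (σ 0) := hσ 0 ▸ ⟨e, he, Matrix.toLin'_apply _ _⟩
    rw [AltForm.trans_mulVec, f.alt, mul_zero, zero_smul, add_zero] at h0
    rw [AltForm.trans_mulVec, one_mul, f.skew, hev, neg_one_smul, ← sub_eq_add_neg] at h1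
    have hs0 : σ 0 = 0 := by
      rcases Fin.exists_fin_two.mp ⟨σ 0, rfl⟩ with h | h
      · exact h
      · rw [h] at h0; exact absurd (hdisj e he h0) he0
    have hs1 : σ 1 = 1 := by
      rcases Fin.exists_fin_two.mp ⟨σ 1, rfl⟩ with h | h
      · exact absurd (σ.injective (h.trans hs0.symm)) (by decide)
      · exact h
    rw [hs1] at h1
    exact he0 (hdisj e he ((Submodule.sub_mem_iff_right _ hv).mp h1))
  intro M hle hMS
  by_cases hN : M ≤ Cfsg.Geo.decompositionStabilizer D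
  · exact Or.inl (le_antisymm (le_inf hN hMS) hle)
  right
  obtain ⟨g, hgM, hg⟩ := SetLike.not_le_iff_exists.mp hN
  have hgp := mem_spGL_iff.mp (hMS hgM)
  let EM : Pair f M := ⟨D 0, D 1, hcompl, hiso 0, hiso 1, by rw [hD.finrank_eq]; omega, by rw [hD.finrank_eq]; omega,
    fun u hu v hv h c => hle (hfix u hu v hv h c)⟩
  have hinjg : Function.Injective (Matrix.toLin' g.val) := fun a b h => by
    simp only [Matrix.toLin'_apply] at h
    have h2 := congrArg (g⁻¹.val *ᵥ ·) h
    simpa [Matrix.mulVec_mulVec, ← Units.val_mul] using h2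
  -- some space consists of centres
  obtain hside | hside : (∀ w ∈ D 0, f.Centre M w) ∨ (∀ w ∈ D 1, f.Centre M w) := by
    by_contra hno
    push Not at hno
    obtain ⟨⟨w0, hw0, hno0⟩, w1, hw1, hno1⟩ := hno
    -- images of orthogonal mixed pairs have dependent components
    have hdep : ∀ u v, ((u ∈ D 0 ∧ v ∈ D 1) ∨ (u ∈ D 1 ∧ v ∈ D 0)) → f.B u v = 0 →
        ∀ a₀ ∈ D 0, ∀ a₁ ∈ D 1, a₀ + a₁ = g.val *ᵥ u → ∀ b₀ ∈ D 0, ∀ b₁ ∈ D 1, b₀ + b₁ = g.val *ᵥ v →
        (a₀ ≠ 0 → b₀ ∈ F ∙ a₀) ∧ (a₁ ≠ 0 → b₁ ∈ F ∙ a₁) := by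
      intro u v huvm huv a₀ ha₀ a₁ ha₁ hau b₀ hb₀ b₁ hb₁ hbv
      have hK : ∀ c, f.sh (g.val *ᵥ v) (g.val *ᵥ u) c ∈ M := fun c => by
        rw [← f.conj_sh hgp]
        refine RatSymp.conj_mem hgM (hle ?_)
        rcases huvm with ⟨hu, hv⟩ | ⟨hu, hv⟩
        · rw [RatSymp.sh_comm (by rw [f.skew, huv, neg_zero])]
          exact hfix u hu v hv huv c
        · exact hfix v hv u hu (by rw [f.skew, huv, neg_zero]) c
      have horth : f.B (b₀ + b₁) (a₀ + a₁) = 0 := by rw [hau, hbv, hgp, f.skew, huv, neg_zero]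
      rw [← hau, ← hbv] at hK
      constructor
      · intro h0
        by_contra hb
        exact hno0 (EM.centre_of_image h2 hb₀ hb₁ ha₀ ha₁ hb h0 horth hK w0 hw0)
      · intro h1
        by_contra hb
        refine hno1 (EM.swap.centre_of_image h2 hb₁ hb₀ ha₁ ha₀ hb h1 ?_ ?_ w1 hw1)
        · rwa [add_comm b₁, add_comm a₁]
        · intro c; rw [add_comm b₁, add_comm a₁]; exact hK c
    -- so g maps each side into one side
    have hone : ∀ i j, i ≠ j → ∀ u ∈ D i, g.val *ᵥ u ∈ D 0 ∨ g.val *ᵥ u ∈ D 1 := by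
      intro i j hij u hu
      obtain ⟨a₀, ha₀, a₁, ha₁, hau⟩ := EM.split (g.val *ᵥ u)
      by_contra hc
      push Not at hc
      have ha00 : a₀ ≠ 0 := fun h => hc.2 (by rw [← hau, h, zero_add]; exact ha₁)
      have ha10 : a₁ ≠ 0 := fun h => hc.1 (by rw [← hau, h, add_zero]; exact ha₀)
      have hle2 : ((D j ⊓ LinearMap.ker (f.B u)).map (Matrix.toLin' g.val)) ≤
          Submodule.span F ({a₀, a₁} : Set (Fin m ⊕ Fin m → F)) := by
        rintro _ ⟨v, ⟨hv, hvu⟩, rfl⟩
        obtain ⟨b₀, hb₀, b₁, hb₁, hbv⟩ := EM.split (g.val *ᵥ v)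
        obtain ⟨h0, h1⟩ := hdep u v (by
          fin_cases i <;> fin_cases j
          exacts [absurd rfl hij, Or.inl ⟨hu, hv⟩, Or.inr ⟨hu, hv⟩, absurd rfl hij]) (LinearMap.mem_ker.mp hvu)
          a₀ ha₀ a₁ ha₁ hau b₀ hb₀ b₁ hb₁ hbv
        obtain ⟨s, hs⟩ := Submodule.mem_span_singleton.mp (h0 ha00)
        obtain ⟨t, ht⟩ := Submodule.mem_span_singleton.mp (h1 ha10)
        rw [Matrix.toLin'_apply, ← hbv, ← hs, ← ht]
        exact Submodule.mem_span_pair.mpr ⟨s, t, rfl⟩
      have h1 := Submodule.finrank_mono hle2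
      rw [← (Submodule.equivMapOfInjective _ hinjg _).finrank_eq] at h1
      have h3 := finrank_span2 (F := F) a₀ a₁
      let φ := (f.B u).domRestrict (D j)
      have h4 := φ.finrank_range_add_finrank_ker
      have h5 : Module.finrank F (LinearMap.range φ) ≤ 1 := (Submodule.finrank_le _).trans (by simp)
      have h6 : Module.finrank F (LinearMap.ker φ) ≤
          Module.finrank F (D j ⊓ LinearMap.ker (f.B u) : Submodule F (Fin m ⊕ Fin m → F)) := by
        rw [← Submodule.finrank_map_subtype_eq]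
        refine Submodule.finrank_mono ?_
        rintro _ ⟨z, hz, rfl⟩
        exact ⟨z.2, hz⟩
      have h7 := hD.finrank_eq j
      omega
    have himg : ∀ i, ∃ j, (D i).map (Matrix.toLin' g.val) = D j := by
      intro i
      have hor : ∀ u ∈ D i, g.val *ᵥ u ∈ D 0 ∨ g.val *ᵥ u ∈ D 1 := by
        fin_cases i
        · exact hone 0 1 (by decide)
        · exact hone 1 0 (by decide)
      have hdim : ∀ j, Module.finrank F ((D i).map (Matrix.toLin' g.val)) = Module.finrank F (D j) := fun j => by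
        rw [← (Submodule.equivMapOfInjective _ hinjg _).finrank_eq, hD.finrank_eq, hD.finrank_eq]
      by_cases h : ∀ u ∈ D i, g.val *ᵥ u ∈ D 0
      · exact ⟨0, Submodule.eq_of_le_of_finrank_eq (by rintro _ ⟨u, hu, rfl⟩; exact h u hu) (hdim 0)⟩
      push Not at h
      obtain ⟨u₁, hu₁, hu₁0⟩ := h
      refine ⟨1, Submodule.eq_of_le_of_finrank_eq ?_ (hdim 1)⟩
      rintro _ ⟨u, hu, rfl⟩
      rw [Matrix.toLin'_apply]
      rcases hor u hu with h0 | h1
      · have h11 : g.val *ᵥ u₁ ∈ D 1 := (hor u₁ hu₁).resolve_left hu₁0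
        rcases hor (u + u₁) ((D i).add_mem hu hu₁) with h' | h'
        · rw [Matrix.mulVec_add] at h'
          exact absurd ((Submodule.add_mem_iff_right _ h0).mp h') hu₁0
        · rw [Matrix.mulVec_add] at h'
          exact (Submodule.add_mem_iff_left _ h11).mp h'
      · exact h1
    choose σ hσ using himg
    refine hg ⟨Equiv.ofBijective σ ⟨?_, ?_⟩, fun i => hσ i⟩
    all_goals
      have hinj : Function.Injective σ := fun a b hab => by
        have h1 : D a = D b := Submodule.map_injective_of_injective hinjg (by rw [hσ, hσ, hab])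
        by_contra hne
        have hb : D a ≠ ⊥ := fun hb => by
          have h1 := hD.finrank_eq a
          rw [hb, finrank_bot] at h1; omega
        obtain ⟨x, hx, hx0⟩ := (Submodule.ne_bot_iff _).mp hb
        exact hx0 (Submodule.disjoint_def.mp (hD.indep.pairwiseDisjoint hne) x hx (h1 ▸ hx))
    · exact hinj
    · exact Finite.injective_iff_surjective.mp hinj
  all_goals
    -- the interchange
    obtain ⟨bas⟩ : Nonempty (Module.Basis (Fin m) F (D 0)) := ⟨Module.finBasisOfFinrankEq F _ (hD.finrank_eq 0)⟩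
    have hnot : ∀ i, (bas i : Fin m ⊕ Fin m → F) ∉
        Submodule.span F ((fun j => (bas j : Fin m ⊕ Fin m → F)) '' {j | j ≠ i}) := fun i =>
      ((bas.linearIndependent.map' (D 0).subtype (Submodule.ker_subtype _)).notMem_span_image (by simp))
    choose y hy hyW hy1 using fun i => EM.dual _ (Submodule.span_le.mpr (by rintro _ ⟨j, -, rfl⟩; exact (bas j).2))
      (bas i).2 (hnot i)
    have hdual : ∀ i j, f.B (bas j : Fin m ⊕ Fin m → F) (y i) = if j = i then 1 else 0 := by
      intro i j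
      split_ifs with h
      · rw [h]; exact hy1 i
      · exact hyW i _ (Submodule.subset_span ⟨j, h, rfl⟩)
    have hspan0 : ∀ x ∈ D 0, x = ∑ i, f.B x (y i) • (bas i : Fin m ⊕ Fin m → F) := by
      intro x hx
      have h1 := congrArg Subtype.val (bas.sum_repr ⟨x, hx⟩)
      simp only [AddSubmonoidClass.coe_finsetSum, SetLike.val_smul] at h1
      have hc : ∀ i, f.B x (y i) = bas.repr ⟨x, hx⟩ i := fun i => by
        conv_lhs => rw [← h1]
        simp [map_sum, LinearMap.sum_apply, map_smul, hdual]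
      simp_rw [hc]
      exact h1.symm
    have hspan1 : ∀ x ∈ D 1, x = ∑ i, f.B (bas i : Fin m ⊕ Fin m → F) x • y i := by
      intro x hx
      rw [← sub_eq_zero]
      refine f.nondeg _ fun z => ?_
      obtain ⟨a, ha, b, hb, rfl⟩ := EM.split z
      set s := x - ∑ i, f.B (bas i : Fin m ⊕ Fin m → F) x • y i with hs
      have hsY : s ∈ D 1 := (D 1).sub_mem hx (Submodule.sum_mem _ fun i _ => (D 1).smul_mem _ (hy i))
      have hbas : ∀ j, f.B (bas j : Fin m ⊕ Fin m → F) s = 0 := fun j => by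
        simp [hs, map_sub, map_sum, map_smul, hdual]
      have ha' : f.B a s = 0 := by
        rw [hspan0 a ha]
        simp [map_sum, LinearMap.sum_apply, map_smul, hbas]
      rw [map_add f.B, LinearMap.add_apply, ha', hiso 1 b hb s hsY, add_zero]
    let Θ : (Fin m ⊕ Fin m → F) →ₗ[F] (Fin m ⊕ Fin m → F) :=
      ∑ i, ((f.B.flip (y i)).smulRight (y i) + (f.B.flip (bas i : Fin m ⊕ Fin m → F)).smulRight (bas i : Fin m ⊕ Fin m → F))
    have hΘ : ∀ x, Θ x = ∑ i, (f.B x (y i) • y i + f.B x (bas i : Fin m ⊕ Fin m → F) • (bas i : Fin m ⊕ Fin m → F)) :=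
      fun x => by simp [Θ, LinearMap.sum_apply]
    have hΘ0 : ∀ x ∈ D 0, Θ x ∈ D 1 := fun x hx => by
      rw [hΘ]
      refine Submodule.sum_mem _ fun i _ => ?_
      rw [hiso 0 x hx _ (bas i).2, zero_smul, add_zero]
      exact (D 1).smul_mem _ (hy i)
    have hΘ1 : ∀ x ∈ D 1, Θ x ∈ D 0 := fun x hx => by
      rw [hΘ]
      refine Submodule.sum_mem _ fun i _ => ?_
      rw [hiso 1 x hx _ (hy i), zero_smul, zero_add]
      exact (D 0).smul_mem _ (bas i).2
    have hΘp : ∀ u v, f.B (Θ u) (Θ v) = f.B u v := by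
      intro u v
      obtain ⟨a, ha, b, hb, rfl⟩ := EM.split u
      obtain ⟨a', ha', b', hb', rfl⟩ := EM.split v
      have key : ∀ a b', a ∈ D 0 → b' ∈ D 1 → f.B (Θ a) (Θ b') = f.B a b' := by
        intro a b' ha hb'
        have e1 : Θ b' = ∑ i, f.B b' (bas i : Fin m ⊕ Fin m → F) • (bas i : Fin m ⊕ Fin m → F) := by
          rw [hΘ]; exact Finset.sum_congr rfl fun i _ => by rw [hiso 1 b' hb' _ (hy i), zero_smul, zero_add]
        have e2 : Θ a = ∑ i, f.B a (y i) • y i := by
          rw [hΘ]; exact Finset.sum_congr rfl fun i _ => by rw [hiso 0 a ha _ (bas i).2, zero_smul, add_zero]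
        conv_rhs => rw [hspan1 b' hb']
        rw [e1, e2]
        simp only [map_sum, LinearMap.sum_apply, map_smul, LinearMap.smul_apply, smul_eq_mul]
        refine Finset.sum_congr rfl fun i _ => ?_
        rw [Finset.sum_eq_single i (fun j _ hji => by rw [f.skew (y j), hdual, if_neg hji.symm, neg_zero, mul_zero])
          (fun hn => absurd (Finset.mem_univ i) hn), f.skew (y i), hdual, if_pos rfl, f.skew b']
        ring
      simp only [map_add, LinearMap.add_apply, hiso 1 _ (hΘ0 a ha) _ (hΘ0 a' ha'), hiso 0 _ (hΘ1 b hb) _ (hΘ1 b' hb'),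
        hiso 0 a ha a' ha', hiso 1 b hb b' hb', key a b' ha hb', f.skew (Θ b), key a' b ha' hb, f.skew b a']
    have hinj : Function.Injective Θ := (injective_iff_map_eq_zero Θ).mpr fun x hx =>
      f.nondeg x fun z => by rw [← hΘp, hx, map_zero]
    let e : GL (Fin m ⊕ Fin m) F :=
      ((LinearMap.GeneralLinearGroup.generalLinearEquiv F (Fin m ⊕ Fin m → F)).symm
        (LinearEquiv.ofBijective Θ ⟨hinj, LinearMap.injective_iff_surjective.mp hinj⟩) |>
        Matrix.GeneralLinearGroup.toLin.symm)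
    have he : ∀ x, e.val *ᵥ x = Θ x := fun x => by
      show (LinearMap.toMatrix' Θ) *ᵥ x = Θ x
      exact LinearMap.toMatrix'_mulVec Θ x
    have hep : f.Preserves e := fun u v => by rw [he, he, hΘp]
    have hinje : Function.Injective (Matrix.toLin' e.val) := fun a b h => by
      simp only [Matrix.toLin'_apply, he] at h; exact hinj h
    have heM : e ∈ M := by
      refine hle ⟨⟨Equiv.swap 0 1, fun i => Submodule.eq_of_le_of_finrank_eq ?_ (by
        rw [← (Submodule.equivMapOfInjective _ hinje _).finrank_eq, hD.finrank_eq, hD.finrank_eq])⟩,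
        mem_spGL_iff.mpr hep⟩
      rintro _ ⟨x, hx, rfl⟩
      rw [Matrix.toLin'_apply, he]
      fin_cases i
      · simpa using hΘ0 x hx
      · simpa using hΘ1 x hx
    have hboth : (∀ w ∈ D 0, f.Centre M w) ∧ (∀ w ∈ D 1, f.Centre M w) := by
      have hflip : ∀ i j, (i = 0 ∧ j = 1) ∨ (i = 1 ∧ j = 0) → (∀ w ∈ D i, f.Centre M w) → ∀ w ∈ D j, f.Centre M w := by
        intro i j hij h w hw
        obtain ⟨x, hx⟩ := LinearMap.injective_iff_surjective.mp hinj w
        obtain ⟨a, ha, b, hb, rfl⟩ := EM.split x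
        rw [map_add] at hx
        rcases hij with ⟨rfl, rfl⟩ | ⟨rfl, rfl⟩
        · have hb0 : Θ b = 0 := hdisj _ (hΘ1 b hb)
            ((Submodule.add_mem_iff_right _ (hΘ0 a ha)).mp (hx.symm ▸ hw))
          rw [← hx, hb0, add_zero, ← he]
          exact (h a ha).of_conj heM hep
        · have ha0 : Θ a = 0 := hdisj _ ((Submodule.add_mem_iff_left _ (hΘ1 b hb)).mp (hx.symm ▸ hw)) (hΘ0 a ha)
          rw [← hx, ha0, zero_add, ← he]
          exact (h b hb).of_conj heM hep
      first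
        | exact ⟨hside, hflip 0 1 (Or.inl ⟨rfl, rfl⟩) hside⟩
        | exact ⟨hflip 1 0 (Or.inr ⟨rfl, rfl⟩) hside, hside⟩
    refine le_antisymm hMS (spGL_le fun w => ?_)
    obtain ⟨a, ha, b, hb, rfl⟩ := EM.split w
    by_cases ha0 : a = 0
    · rw [ha0, zero_add]; exact hboth.2 b hb
    by_cases hab : f.B a b = 0
    swap
    · exact (hboth.1 a ha).add (hboth.2 b hb) hab
    obtain ⟨r, hr, -, har⟩ := EM.dual ⊥ bot_le ha (by simpa using ha0)
    have h1 := (hboth.1 a ha).add (hboth.2 _ ((D 1).add_mem hb hr))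
      (by rw [map_add, hab, zero_add, har]; exact one_ne_zero)
    have h3 := h1.add_smul (hboth.2 r hr) (by
      rw [map_add f.B, LinearMap.add_apply, har, hiso 1 _ ((D 1).add_mem hb hr) r hr, add_zero]
      exact one_ne_zero) (-1)
    rwa [show a + (b + r) + (-1 : F) • r = a + b by module] at h3

end Cfsg.Agent.S5649
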