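import Cfsg.Statements.S5650
import Cfsg.Agent.Lib.MaxSub.SympSubfield

set_option autoImplicit false
open Cfsg

namespace Cfsg.Agent.S5650

open Cfsg.Agent.Lib.MaxSub Matrix
open scoped MatrixGroups Matrix

/-- For a finite field F, a subfield F₀ with |F| = |F₀| ^ r for a prime r, and m ≥ 7, let P be an invertible matrix and ζ a non-zero scalar such that ζ times the standard alternating form takes values in F₀ on the F₀-span of the columns of P. Then the elements of Sp_2m(F) lying in the subfield group of P (the conjugate by P of the product of GL_2m(F₀) with the scalars) form a maximal subgroup of Sp_2m(F). -/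
theorem result {F : Type*} [Field F] [Fintype F] (m : ℕ) (hm : 7 ≤ m) (F₀ : Subfield F) (r : ℕ) (hr : r.Prime) (hcard : Fintype.card F = Nat.card F₀ ^ r) (P : Matrix.GeneralLinearGroup (Fin m ⊕ Fin m) F) (ζ : F) (hζ : ζ ≠ 0) (hP : Cfsg.Geo.IsFormRationalStructure (Cfsg.sympForm m F) F₀ ζ P) : Cfsg.Geo.IsMaximalIn (Cfsg.spGL m F) (Cfsg.Geo.subfieldSubgroup F₀ P ⊓ Cfsg.spGL m F) := by
  set f := stdAlt m F with hf
  let R : RatSymp f :=
    { F₀ := F₀
      P := P
      ζ := ζ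
      hζ := hζ
      rat := fun x y hx hy => by
        obtain ⟨u, hu, rfl⟩ := hx.eq_mulVec
        obtain ⟨v, hv, rfl⟩ := hy.eq_mulVec
        rw [hf, stdAlt_apply]
        exact hP u v hu hv }
  have hcardι : 7 ≤ Fintype.card (Fin m ⊕ Fin m) := by simp; omega
  have hH : R.Base (Cfsg.Geo.subfieldSubgroup F₀ P ⊓ Cfsg.spGL m F) := fun v c hv hc =>
    ⟨mem_subfieldSubgroup fun x hx => R.trans_rat hv hc hx, mem_spGL_iff.mpr (f.trans_preserves _ _)⟩
  have hcard' : Nat.card F = Nat.card F₀ ^ r := by rw [Nat.card_eq_fintype_card]; exact hcard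
  have h2F : 2 ≤ Nat.card F₀ := Finite.one_lt_card
  have h4 : 4 ≤ Nat.card F := by
    rw [hcard']
    calc 4 = 2 ^ 2 := by norm_num
      _ ≤ Nat.card F₀ ^ 2 := Nat.pow_le_pow_left h2F 2
      _ ≤ Nat.card F₀ ^ r := Nat.pow_le_pow_right (by omega) hr.two_le
  refine ⟨lt_of_le_of_ne inf_le_right ?_, ?_⟩
  · intro h
    obtain ⟨τ, hτ⟩ : ∃ τ : F, τ ∉ F₀ := by
      by_contra hc
      push Not at hc
      have e1 : Nat.card F₀ = Nat.card F := Nat.card_congr (Equiv.subtypeUnivEquiv hc)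
      rw [hcard'] at e1
      have e2 : Nat.card F₀ ^ 1 = Nat.card F₀ ^ r := by rw [pow_one]; exact e1
      have := Nat.pow_right_injective h2F e2
      exact absurd this.symm hr.one_lt.ne'
    obtain ⟨e, he, -, he0⟩ := R.exists_rat_perp ∅ (by simp) ⊥ (by simp; omega)
    rw [Submodule.mem_bot] at he0
    obtain ⟨d, hd, -, hed⟩ := R.exists_rat_dual ∅ (by simp) he (by simpa using he0)
    have hmem : f.trans e (ζ * τ) ∈ Cfsg.Geo.subfieldSubgroup F₀ P ⊓ Cfsg.spGL m F := by
      rw [h]; exact mem_spGL_iff.mpr (f.trans_preserves _ _)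
    obtain ⟨lam, hlam0, hlam⟩ := subfieldSubgroup_apply hmem.1
    obtain ⟨y, hy, hey⟩ := hlam e he
    rw [AltForm.trans_mulVec, f.alt, mul_zero, zero_smul, add_zero] at hey
    have hlam' : lam ∈ F₀ := inv_inv lam ▸ F₀.inv_mem (he.coeff_mem he0
      (by rw [hey, smul_smul, inv_mul_cancel₀ hlam0, one_smul]; exact hy))
    obtain ⟨y', hy', hdy⟩ := hlam d hd
    rw [AltForm.trans_mulVec] at hdy
    have hde : ζ * f.B d e = -1 := by
      rw [f.skew]; rw [RatSymp.ell] at hed
      linear_combination -hed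
    have hτe : RatVec F₀ P ((-τ) • e) := by
      rw [show (-τ) • e = lam • y' - d by
        rw [← hdy, add_sub_cancel_left, show ζ * τ * f.B d e = -τ by linear_combination τ * hde]]
      exact (hy'.smul hlam').sub hd
    exact hτ (neg_neg τ ▸ F₀.neg_mem (he.coeff_mem he0 hτe))
  intro M hle hMS
  by_cases hN : M ≤ Cfsg.Geo.subfieldSubgroup F₀ P
  · exact Or.inl (le_antisymm (le_inf hN hMS) hle)
  right
  obtain ⟨g, hgM, hg⟩ := SetLike.not_le_iff_exists.mp hN
  haveI : Nonempty (Fin m ⊕ Fin m) := ⟨Sum.inl ⟨0, by omega⟩⟩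
  obtain ⟨x, hx, hirr⟩ : ∃ x, RatVec F₀ P x ∧
      ∀ (c : F) y, RatVec F₀ P y → (g : Matrix (Fin m ⊕ Fin m) (Fin m ⊕ Fin m) F) *ᵥ x ≠ c • y := by
    by_contra hc; push Not at hc
    exact hg (mem_subfieldSubgroup_of_lines hc)
  have hK : R.Base M := fun v c hv hc => hle (hH v c hv hc)
  have hw : f.trans ((g : Matrix (Fin m ⊕ Fin m) (Fin m ⊕ Fin m) F) *ᵥ x) R.ζ ∈ M := by
    have h1 := hK x 1 hx F₀.one_mem
    rw [mul_one] at h1
    rw [← f.conj_trans (mem_spGL_iff.mp (hMS hgM))]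
    exact RatSymp.conj_mem hgM h1
  obtain ⟨c, y, hy, hcy⟩ | ⟨s, hs, hss⟩ := hK.rat_or_param hcardι hw
  · exact absurd hcy (hirr c y hy)
  exact le_antisymm hMS (spGL_le (RatSymp.all_centre (R := R) (hK.centre_of_shortI (by omega) hr hcard' hs hss) h4))

end Cfsg.Agent.S5650
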