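import Cfsg.Statements.S5652
import Cfsg.Agent.Lib.MaxSub.Symplectic
-- import your own Cfsg.Agent.* helpers here

set_option autoImplicit false
open Cfsg

namespace Cfsg.Agent.S5652

open Cfsg.Agent.Lib.MaxSub Matrix
open scoped Matrix

variable {F : Type*} [Field F] [Fintype F] {ι : Type} [Fintype ι] [DecidableEq ι]

/-- The perpendicular of a subspace has at least the complementary dimension. -/
lemma finrank_perp_ge (f : AltForm ι F) (W : Submodule F (ι → F)) :
    Fintype.card ι ≤ Module.finrank F W + Module.finrank F (f.perp W) := by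
  let φ : (ι → F) →ₗ[F] (W →ₗ[F] F) := (LinearMap.lcomp F F W.subtype).comp f.B
  have hker : LinearMap.ker φ ≤ f.perp W := fun x hx w hw => by
    have := LinearMap.congr_fun (LinearMap.mem_ker.mp hx) ⟨w, hw⟩
    rw [f.skew]
    simpa [φ] using this
  have h1 := φ.finrank_range_add_finrank_ker
  have h2 : Module.finrank F (LinearMap.range φ) ≤ Module.finrank F W :=
    (Submodule.finrank_le _).trans (Subspace.dual_finrank_eq).le
  have h3 := Submodule.finrank_mono hker
  have h4 : Module.finrank F (ι → F) = Fintype.card ι := Module.finrank_pi F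
  omega

section
variable (f : AltForm ι F) (Q : (ι → F) → F)

/-- Orthogonal transvections in a non-singular vector. -/
lemma refl_preserves (hchar : (2 : F) = 0) (hsmul : ∀ (c : F) v, Q (c • v) = c ^ 2 * Q v)
    (hpol : ∀ u v, QuadraticMap.polar Q u v = f.B u v) (w : ι → F) (hw : Q w ≠ 0) (x : ι → F) :
    Q ((f.trans w (Q w)⁻¹ : Matrix ι ι F) *ᵥ x) = Q x := by
  have h := hpol x (((Q w)⁻¹ * f.B x w) • w)
  simp only [QuadraticMap.polar] at h
  rw [hsmul, map_smul, smul_eq_mul] at h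
  rw [AltForm.trans_mulVec]
  field_simp at h
  rw [show (Q w)⁻¹ * f.B x w = f.B x w / Q w by rw [mul_comm, div_eq_mul_inv]]
  have h2 : Q w * (Q (x + (f.B x w / Q w) • w) - Q x) = 0 := by
    linear_combination h + (f.B x w) ^ 2 * hchar
  exact sub_eq_zero.mp ((mul_eq_zero.mp h2).resolve_left hw)

/-- Any set of vectors in a large subspace contains a non-singular one. -/
lemma exists_shift (hcard : 9 ≤ Fintype.card ι) (hsmul : ∀ (c : F) v, Q (c • v) = c ^ 2 * Q v)
    (hpol : ∀ u v, QuadraticMap.polar Q u v = f.B u v) (hsq : ∀ c : F, ∃ s, s ^ 2 = c)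
    (W : Submodule F (ι → F)) (hW : Module.finrank F W ≤ 4) (t : F) :
    ∃ p, p ∈ f.perp W ∧ Q p = t := by
  obtain ⟨p, hp, hp0⟩ : ∃ p ∈ f.perp W, Q p ≠ 0 := by
    by_contra hc
    push Not at hc
    have hle : f.perp W ≤ f.perp (f.perp W) := fun x hx y hy => by
      rw [← hpol, QuadraticMap.polar, hc _ (Submodule.add_mem _ hy hx), hc _ hy, hc _ hx]
      ring
    rw [f.perp_perp] at hle
    have := Submodule.finrank_mono hle
    have := finrank_perp_ge f W
    omega
  obtain ⟨s, hs⟩ := hsq (t / Q p)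
  exact ⟨s • p, Submodule.smul_mem _ s hp, by rw [hsmul, hs, div_mul_cancel₀ _ hp0]⟩

end

lemma exists_both (f : AltForm ι F) {v w : ι → F} (hv : v ≠ 0) (hw : w ≠ 0) :
    ∃ y, f.B v y ≠ 0 ∧ f.B w y ≠ 0 := by
  obtain ⟨y₁, -, h₁⟩ := f.exists_perp_eq_one ⊥ (x := v) (by simpa using hv)
  obtain ⟨y₂, -, h₂⟩ := f.exists_perp_eq_one ⊥ (x := w) (by simpa using hw)
  by_cases a : f.B w y₁ = 0
  · by_cases b : f.B v y₂ = 0
    · exact ⟨y₁ + y₂, by rw [map_add, h₁, b, add_zero]; exact one_ne_zero,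
        by rw [map_add, a, h₂, zero_add]; exact one_ne_zero⟩
    · exact ⟨y₂, b, by rw [h₂]; exact one_ne_zero⟩
  · exact ⟨y₁, by rw [h₁]; exact one_ne_zero, a⟩

/-- For a finite field F of characteristic two and m ≥ 7, let Q be a non-degenerate quadratic form on F^(2m) whose polar form is the standard alternating form. Then the elements of Sp_2m(F) that are similarities of Q (they are exactly the isometries of Q) form a maximal subgroup of Sp_2m(F). -/
theorem result {F : Type*} [Field F] [Fintype F] (m : ℕ) (hm : 7 ≤ m) (heven : ¬ Odd (Fintype.card F)) (Q : (Fin m ⊕ Fin m → F) → F) (hQ : Cfsg.Geo.IsNondegenerateQuadraticForm Q) (hpol : ∀ u v, QuadraticMap.polar Q u v = Cfsg.sympForm m F u v) : Cfsg.Geo.IsMaximalIn (Cfsg.spGL m F) (Cfsg.Geo.quadSimilarityGroup Q ⊓ Cfsg.spGL m F) := by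
  have hchar : (2 : F) = 0 := by
    by_contra h
    refine heven ?_
    rw [Nat.odd_iff]
    exact FiniteField.odd_card_of_char_ne_two fun h2 => h (by
      have h3 := CharP.cast_eq_zero F (ringChar F)
      rw [h2] at h3
      exact_mod_cast h3)
  have hsq : ∀ c : F, ∃ s, s ^ 2 = c := by
    have hinj : Function.Injective fun s : F => s ^ 2 := fun a b h => by
      have h' : a ^ 2 = b ^ 2 := h
      have h2 : (a - b) ^ 2 = 0 := by linear_combination h' + (b ^ 2 - a * b) * hchar
      exact sub_eq_zero.mp (pow_eq_zero_iff two_ne_zero |>.mp h2)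
    exact fun c => Finite.injective_iff_surjective.mp hinj c
  have hsqinj : ∀ a b : F, a ^ 2 = b ^ 2 → a = b := fun a b h' => by
    have h2 : (a - b) ^ 2 = 0 := by linear_combination h' + (b ^ 2 - a * b) * hchar
    exact sub_eq_zero.mp (pow_eq_zero_iff two_ne_zero |>.mp h2)
  obtain ⟨hsmul, -, -⟩ := hQ
  set f := stdAlt m F with hf
  have hpol' : ∀ u v, QuadraticMap.polar Q u v = f.B u v := fun u v => by rw [hpol, hf, stdAlt_apply]
  have hQadd : ∀ u v, Q (u + v) = Q u + Q v + f.B u v := fun u v => by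
    rw [← hpol', QuadraticMap.polar]; ring
  have hcardι : 9 ≤ Fintype.card (Fin m ⊕ Fin m) := by simp; omega
  have hspan : ∀ s : Finset (Fin m ⊕ Fin m → F), s.card ≤ 4 → Module.finrank F (Submodule.span F (s : Set (Fin m ⊕ Fin m → F))) ≤ 4 :=
    fun s hs => (finrank_span_finset_le_card s).trans hs
  classical
  -- prescribing the value of Q and of a linear functional
  have hval : ∀ a : Fin m ⊕ Fin m → F, a ≠ 0 → ∀ s t : F, ∃ w, f.B w a = s ∧ Q w = t := by
    intro a ha s t
    obtain ⟨y, -, hy⟩ := f.exists_perp_eq_one ⊥ (x := a) (by simpa using ha)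
    have hy' : f.B y a = -1 := by rw [f.skew, hy]
    obtain ⟨p, hp, hQp⟩ := exists_shift f Q hcardι hsmul hpol' hsq
      (Submodule.span F (({a, y} : Finset (Fin m ⊕ Fin m → F)) : Set (Fin m ⊕ Fin m → F)))
      (hspan _ (Finset.card_le_two.trans (by norm_num))) (t - Q ((-s) • y))
    have hpa := hp a (Submodule.subset_span (by simp))
    have hpy := hp y (Submodule.subset_span (by simp))
    refine ⟨(-s) • y + p, ?_, ?_⟩
    · rw [map_add, LinearMap.add_apply, map_smul, LinearMap.smul_apply, hy', f.skew p a, hpa, smul_eq_mul]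
      ring
    · rw [hQadd, hQp, map_smul, LinearMap.smul_apply, hpy, smul_zero]
      ring
  have hsim : ∀ g, g ∈ Cfsg.spGL m F → (∀ x, Q (g.val *ᵥ x) = Q x) →
      g ∈ Cfsg.Geo.quadSimilarityGroup Q ⊓ Cfsg.spGL m F := fun g hg h =>
    ⟨⟨1, fun x => by rw [h, Units.val_one, one_mul]⟩, hg⟩
  have hrefl : ∀ w, Q w ≠ 0 → f.trans w (Q w)⁻¹ ∈ Cfsg.Geo.quadSimilarityGroup Q ⊓ Cfsg.spGL m F :=
    fun w hw => hsim _ (mem_spGL_iff.mpr (f.trans_preserves _ _)) (refl_preserves f Q hchar hsmul hpol' w hw)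
  have hc1 : ∀ g ∈ Cfsg.Geo.quadSimilarityGroup Q ⊓ Cfsg.spGL m F, ∀ x, Q (g.val *ᵥ x) = Q x := by
    intro g hg x
    obtain ⟨c, hc⟩ := hg.1
    have hgp := mem_spGL_iff.mp hg.2
    suffices hone : (c : F) = 1 by rw [hc, hone, one_mul]
    haveI : Nonempty (Fin m ⊕ Fin m) := ⟨Sum.inl ⟨0, by omega⟩⟩
    obtain ⟨u, hu⟩ := exists_ne (0 : Fin m ⊕ Fin m → F)
    obtain ⟨v, -, huv⟩ := f.exists_perp_eq_one ⊥ (x := u) (by simpa using hu)
    have h1 := hgp u v
    rw [← hpol', ← hpol', QuadraticMap.polar, QuadraticMap.polar, ← Matrix.mulVec_add, hc, hc, hc] at h1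
    have h2 : Q (u + v) - Q u - Q v = 1 := by rw [hQadd, huv]; ring
    linear_combination h1 - ((c : F) - 1) * h2
  haveI : Nonempty (Fin m ⊕ Fin m) := ⟨Sum.inl ⟨0, by omega⟩⟩
  obtain ⟨a₀, ha₀⟩ := exists_ne (0 : Fin m ⊕ Fin m → F)
  refine ⟨lt_of_le_of_ne inf_le_right fun h => ?_, ?_⟩
  · obtain ⟨v, hva, hv⟩ := hval a₀ ha₀ 1 0
    have hmem : f.trans v 1 ∈ Cfsg.spGL m F := mem_spGL_iff.mpr (f.trans_preserves _ _)
    rw [← h] at hmem
    have h1 := hc1 _ hmem a₀
    rw [AltForm.trans_mulVec, one_mul, hQadd, hsmul, hv, map_smul, smul_eq_mul, f.skew a₀ v, hva] at h1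
    exact one_ne_zero (show (1 : F) = 0 by linear_combination h1)
  intro M hle hMS
  by_cases hMQ : M ≤ Cfsg.Geo.quadSimilarityGroup Q
  · exact Or.inl (le_antisymm (le_inf hMQ hMS) hle)
  right
  refine le_antisymm hMS (spGL_le ?_)
  obtain ⟨g, hgM, hg⟩ := SetLike.not_le_iff_exists.mp hMQ
  have hgp := mem_spGL_iff.mp (hMS hgM)
  set gi := ((g⁻¹ : Matrix.GeneralLinearGroup (Fin m ⊕ Fin m) F)).val with hgi
  have hgip : ∀ u v, f.B (gi *ᵥ u) (gi *ᵥ v) = f.B u v :=
    mem_spGL_iff.mp ((Cfsg.spGL m F).inv_mem (hMS hgM))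
  have hggi : ∀ x, g.val *ᵥ (gi *ᵥ x) = x := fun x => by
    rw [hgi, Matrix.mulVec_mulVec, ← Units.val_mul, mul_inv_cancel, Units.val_one, Matrix.one_mulVec]
  have hgig : ∀ x, gi *ᵥ (g.val *ᵥ x) = x := fun x => by
    rw [hgi, Matrix.mulVec_mulVec, ← Units.val_mul, inv_mul_cancel, Units.val_one, Matrix.one_mulVec]
  -- the difference of the two quadratic forms is the square of a linear functional
  choose sq hsq' using hsq
  let ℓ : (Fin m ⊕ Fin m → F) →ₗ[F] F :=
    { toFun := fun x => sq (Q (gi *ᵥ x) - Q x)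
      map_add' := fun x y => hsqinj _ _ (by
        rw [hsq']
        have h1 := hsq' (Q (gi *ᵥ x) - Q x)
        have h2 := hsq' (Q (gi *ᵥ y) - Q y)
        rw [Matrix.mulVec_add, hQadd, hQadd, hgip]
        linear_combination (-1 : F) * h1 - h2 - sq (Q (gi *ᵥ x) - Q x) * sq (Q (gi *ᵥ y) - Q y) * hchar)
      map_smul' := fun c x => hsqinj _ _ (by
        rw [hsq', RingHom.id_apply, smul_eq_mul, mul_pow, hsq', Matrix.mulVec_smul, hsmul, hsmul]
        ring) }
  obtain ⟨a, ha⟩ := f.psi_surjective (toVec ℓ)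
  have hQ' : ∀ x, Q (gi *ᵥ x) = Q x + f.B x a ^ 2 := fun x => by
    have h1 : f.B x a = ℓ x := by rw [← f.psi_dot, ha, toVec_dot]
    have h2 : ℓ x ^ 2 = Q (gi *ᵥ x) - Q x := hsq' _
    rw [h1, h2]; ring
  have ha0 : a ≠ 0 := by
    intro h
    refine hg ⟨1, fun x => ?_⟩
    have := hQ' (g.val *ᵥ x)
    rw [hgig, h, map_zero] at this
    rw [Units.val_one, one_mul, this]
    ring
  -- the isometries move any vector to any other with the same value
  have htrans : ∀ v w, v ≠ 0 → w ≠ 0 → Q v = Q w → ∀ c, f.trans v c ∈ M → f.trans w c ∈ M := by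
    have step : ∀ v y, Q y ≠ 0 → ∀ c, f.trans v c ∈ M → f.trans ((f.trans y (Q y)⁻¹).val *ᵥ v) c ∈ M := by
      intro v y hy c hc
      rw [← f.conj_trans (f.trans_preserves y _) v c]
      exact M.mul_mem (M.mul_mem (hle (hrefl y hy)) hc) (M.inv_mem (hle (hrefl y hy)))
    have one : ∀ v w, Q v = Q w → f.B v w ≠ 0 → ∀ c, f.trans v c ∈ M → f.trans w c ∈ M := by
      intro v w hvw hne c hc
      have hd : Q (v + w) = f.B v w := by rw [hQadd, hvw]; linear_combination Q w * hchar
      have := step v (v + w) (by rwa [hd]) c hc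
      rwa [AltForm.trans_mulVec, hd, map_add, f.alt, zero_add, inv_mul_cancel₀ hne, one_smul,
        show v + (v + w) = w from funext fun i => by
          show v i + (v i + w i) = w i
          linear_combination v i * hchar] at this
    intro v w hv hw hvw c hc
    by_cases hne : f.B v w = 0
    · obtain ⟨y₀, hy₁, hy₂⟩ := exists_both f hv hw
      obtain ⟨p, hp, hQp⟩ := exists_shift f Q hcardι hsmul hpol' (fun c => ⟨_, hsq' c⟩)
        (Submodule.span F (({v, w, y₀} : Finset (Fin m ⊕ Fin m → F)) : Set (Fin m ⊕ Fin m → F)))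
        (hspan _ (Finset.card_le_three.trans (by norm_num))) (1 - Q y₀)
      set y := y₀ + p with hy
      have hQy : Q y = 1 := by
        rw [hy, hQadd, hQp, hp y₀ (Submodule.subset_span (by simp))]
        ring
      have hvy : f.B v y ≠ 0 := by rw [hy, map_add, hp v (Submodule.subset_span (by simp)), add_zero]; exact hy₁
      have hwy : f.B w y ≠ 0 := by rw [hy, map_add, hp w (Submodule.subset_span (by simp)), add_zero]; exact hy₂
      have h1 := step v y (by rw [hQy]; exact one_ne_zero) c hc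
      refine one _ w ?_ ?_ c h1
      · rw [refl_preserves f Q hchar hsmul hpol' y (by rw [hQy]; exact one_ne_zero), hvw]
      · rw [AltForm.trans_mulVec, map_add, LinearMap.add_apply, hne, zero_add, map_smul, LinearMap.smul_apply,
          hQy, inv_one, one_mul, smul_eq_mul, f.skew y w]
        exact mul_ne_zero hvy (neg_ne_zero.mpr hwy)
    · exact one v w hvw hne c hc
  have hextra : ∀ x, Q (gi *ᵥ x) ≠ 0 → f.trans x (Q (gi *ᵥ x))⁻¹ ∈ M := by
    intro x hx
    have h := M.mul_mem (M.mul_mem hgM (hle (hrefl _ hx))) (M.inv_mem hgM)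
    rwa [f.conj_trans hgp, hggi] at h
  have hzero : ∀ v, f.trans v 0 ∈ M := fun v => by
    rw [show f.trans v 0 = 1 from Units.ext (eq_of_mulVec_eq fun x => by simp [AltForm.trans_mulVec])]
    exact M.one_mem
  have hfull : ∀ v, v ≠ 0 → (Q v = 0 ∨ Q v = 1) → ∀ c, f.trans v c ∈ M := by
    intro v hv hQv c
    rcases eq_or_ne c 0 with rfl | hc
    · exact hzero v
    set s := sq (c⁻¹ - Q v) with hs
    obtain ⟨w, hw1, hw2⟩ := hval a ha0 s (Q v)
    have hq : Q (gi *ᵥ w) = c⁻¹ := by rw [hQ', hw1, hw2, hs, hsq']; ring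
    have hx := hextra w (by rw [hq]; exact inv_ne_zero hc)
    rw [hq, inv_inv] at hx
    by_cases hw0 : w = 0
    · exfalso
      rw [hw0, Matrix.mulVec_zero] at hq
      have h0 : Q 0 = 0 := by simpa using hsmul 0 0
      exact inv_ne_zero hc (hq.symm.trans h0)
    · exact htrans w v hw0 hv hw2 c hx
  intro v
  rcases eq_or_ne v 0 with rfl | hv
  · intro c
    rw [show f.trans 0 c = 1 from Units.ext (eq_of_mulVec_eq fun x => by simp [AltForm.trans_mulVec])]
    exact M.one_mem
  rcases eq_or_ne (Q v) 0 with h0 | h0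
  · exact fun c => hfull v hv (Or.inl h0) c
  · have hs0 : sq (Q v) ≠ 0 := fun h => h0 (by rw [← hsq' (Q v), h]; ring)
    have h1 : Q ((sq (Q v))⁻¹ • v) = 1 := by rw [hsmul, inv_pow, hsq', inv_mul_cancel₀ h0]
    have hC : f.Centre M ((sq (Q v))⁻¹ • v) := hfull _ (smul_ne_zero (inv_ne_zero hs0) hv) (Or.inr h1)
    have := hC.smul (sq (Q v))
    rwa [smul_smul, mul_inv_cancel₀ hs0, one_smul] at this

end Cfsg.Agent.S5652
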