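import Cfsg.Statements.S5653
import Cfsg.Agent.Lib.MaxSub.UnitaryStd

set_option autoImplicit false
open Cfsg

namespace Cfsg.Agent.S5653

open Cfsg.Agent.Lib.MaxSub Matrix
open scoped MatrixGroups Matrix

section
variable {ι : Type} [Fintype ι] [DecidableEq ι] {F : Type*} [Field F] (f : HermF ι F)

/-- The stabiliser of a totally isotropic space moves any isotropic vector outside its perpendicular space to any other. -/
theorem exists_stab_move [Finite F] (hn : 7 ≤ Fintype.card ι) (W : Submodule F (ι → F))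
    (hW : W ≤ f.perp W) (hW0 : W ≠ ⊥) {x v : ι → F} (hx : f.Iso x) (hv : f.Iso v)
    (hxW : x ∉ f.perp W) (hvW : v ∉ f.perp W) :
    ∃ g : GL ι F, f.Preserves g ∧ g ∈ Cfsg.Geo.specialLinear ι F ∧ (∀ w ∈ W, (g : Matrix ι ι F) *ᵥ w ∈ W) ∧
      (g : Matrix ι ι F) *ᵥ x = v := by
  classical
  obtain ⟨p, hp, hpx⟩ : ∃ p ∈ W, f.B x p ≠ 0 := by
    by_contra h; push Not at h
    exact hxW fun w hw => f.eq_zero_comm (h w hw)
  obtain ⟨r, hr, hrv⟩ : ∃ r ∈ W, f.B v r ≠ 0 := by
    by_contra h; push Not at h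
    exact hvW fun w hw => f.eq_zero_comm (h w hw)
  obtain ⟨a, ha, hax, hav⟩ : ∃ a ∈ W, f.B x a ≠ 0 ∧ f.B v a ≠ 0 := by
    by_cases h1 : f.B v p = 0
    · by_cases h2 : f.B x r = 0
      · refine ⟨p + r, W.add_mem hp hr, ?_, ?_⟩
        · rw [map_add, h2, add_zero]; exact hpx
        · rw [map_add, h1, zero_add]; exact hrv
      · exact ⟨r, hr, h2, hrv⟩
    · exact ⟨p, hp, hpx, h1⟩
  set a₁ := (f.B v a)⁻¹ • a with ha₁
  have ha₁W : a₁ ∈ W := W.smul_mem _ ha
  have hva₁ : f.B v a₁ = 1 := by rw [ha₁, map_smul, smul_eq_mul, inv_mul_cancel₀ hav]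
  have hxa₁ : f.B x a₁ ≠ 0 := by
    rw [ha₁, map_smul, smul_eq_mul]; exact mul_ne_zero (inv_ne_zero hav) hax
  have hxnW : x ∉ W := fun h => hxW (hW h)
  have hvnW : v ∉ W := fun h => hvW (hW h)
  obtain ⟨μ, hμW, hμx⟩ := exists_functional W hxnW
  have hB0 : ∀ w ∈ W, ∀ w' ∈ W, f.B w w' = 0 := fun w hw w' hw' => hW hw' w hw
  let A : (ι → F) → (ι → F) := fun y => y + (f.B x y - f.B v y) • a₁
  have hA : ∀ w ∈ W, A w ∈ W ∧ f.B v (A w) = f.B x w := fun w hw =>
    ⟨W.add_mem hw (W.smul_mem _ ha₁W), by simp [A, map_add, map_smul, hva₁]⟩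
  let T : (ι → F) →ₗ[F] (ι → F) :=
    LinearMap.mk (AddHom.mk (fun y => A y + (μ ⬝ᵥ y) • (v - A x)) (fun y y' => by
      simp only [A, map_add, dotProduct_add]; module)) (fun c y => by
      simp only [A, map_smul, dotProduct_smul, RingHom.id_apply, smul_eq_mul]; module)
  have hT : ∀ w ∈ W, ∀ s : F, T (w + s • x) = A w + s • v := fun w hw s => by
    show A (w + s • x) + (μ ⬝ᵥ (w + s • x)) • (v - A x) = _
    rw [dotProduct_add, hμW w hw, dotProduct_smul, hμx, zero_add, smul_eq_mul, mul_one]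
    simp only [A, map_add, map_smul, smul_eq_mul]
    module
  set X := W ⊔ (F ∙ x) with hX
  have hmem : ∀ y ∈ X, ∃ w ∈ W, ∃ s : F, y = w + s • x := fun y hy => by
    obtain ⟨w, hw, z, hz, rfl⟩ := Submodule.mem_sup.mp hy
    obtain ⟨s, rfl⟩ := Submodule.mem_span_singleton.mp hz
    exact ⟨w, hw, s, rfl⟩
  have hinj : Function.Injective (T.comp X.subtype) := by
    rw [← LinearMap.ker_eq_bot, eq_bot_iff]
    intro y hy
    rw [LinearMap.mem_ker] at hy
    obtain ⟨w, hw, s, hys⟩ := hmem y y.2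
    have h0 : A w + s • v = 0 := by rw [← hT w hw s, ← hys]; exact hy
    have hs : s = 0 := by
      by_contra hs
      exact hvnW ((W.smul_mem_iff hs).mp (by rw [eq_neg_of_add_eq_zero_right h0]; exact W.neg_mem (hA w hw).1))
    rw [hs, zero_smul, add_zero] at h0
    have h1 : f.B x w = 0 := by rw [← (hA w hw).2, h0, map_zero]
    have h2 : f.B x w - f.B v w = (f.B x w - f.B v w) * f.B x a₁ + (f.B x w - f.B v w) - (f.B x w - f.B v w) * f.B x a₁ := by ring
    have h3 := congrArg (f.B x) h0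
    simp only [A, map_add, map_smul, smul_eq_mul, map_zero, h1, zero_sub, zero_add] at h3
    have h4 : f.B v w = 0 := by
      rcases mul_eq_zero.mp h3 with h | h
      · exact neg_eq_zero.mp h
      · exact absurd h hxa₁
    have hw0 : w = 0 := by simpa [A, h1, h4] using h0
    refine (Submodule.mem_bot F).mpr (Subtype.ext ?_)
    rw [hys, hw0, hs, zero_smul, add_zero]
    rfl
  have hiso : ∀ y y' : X, f.B (T.comp X.subtype y) (T.comp X.subtype y') = f.B (y : ι → F) (y' : ι → F) := by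
    intro y y'
    obtain ⟨w, hw, s, hys⟩ := hmem y y.2
    obtain ⟨w', hw', s', hys'⟩ := hmem y' y'.2
    show f.B (T (y : ι → F)) (T (y' : ι → F)) = _
    rw [hys, hys', hT w hw s, hT w' hw' s']
    simp only [map_add, map_smul, LinearMap.map_smulₛₗ, LinearMap.add_apply, LinearMap.smul_apply, smul_eq_mul,
      hB0 _ (hA w hw).1 _ (hA w' hw').1, hB0 w hw w' hw', show f.B x x = 0 from hx, show f.B v v = 0 from hv,
      (hA w' hw').2]
    rw [← f.herm v (A w), (hA w hw).2, f.herm]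
  obtain ⟨g₀, hg₀, hg₀X⟩ := Cfsg.Agent.Lib.Geometry.witt_hermitian f.B f.σ_ne f.invol f.symm f.nondeg X (T.comp X.subtype) hinj hiso
  let g₁ : GL ι F := Matrix.GeneralLinearGroup.toLin.symm
    ((LinearMap.GeneralLinearGroup.generalLinearEquiv F (ι → F)).symm g₀)
  have hg₁ : ∀ y, (g₁ : Matrix ι ι F) *ᵥ y = g₀ y := fun y => LinearMap.toMatrix'_mulVec _ y
  have hpres : f.Preserves g₁ := fun u u' => by rw [hg₁, hg₁, hg₀]
  have hW1 : ∀ w ∈ W, (g₁ : Matrix ι ι F) *ᵥ w ∈ W := fun w hw => by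
    have h := hg₀X ⟨w, Submodule.mem_sup_left hw⟩
    change g₀ w = T w at h
    have h' := hT w hw 0
    rw [zero_smul, add_zero, zero_smul, add_zero] at h'
    rw [hg₁, h, h']
    exact (hA w hw).1
  have hx1 : (g₁ : Matrix ι ι F) *ᵥ x = v := by
    have h := hg₀X ⟨x, Submodule.mem_sup_right (Submodule.mem_span_singleton_self x)⟩
    change g₀ x = T x at h
    have h' := hT 0 W.zero_mem 1
    rw [zero_add, one_smul] at h'
    rw [hg₁, h, h']
    simp [A]
  obtain ⟨e, e', hei, he'i, hee', hev, he'v, heW⟩ : ∃ e e', f.Iso e ∧ f.Iso e' ∧ f.B e e' = 1 ∧ f.B e v = 0 ∧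
      f.B e' v = 0 ∧ (e ∈ W ∨ e ∈ f.perp W ∧ e' ∈ f.perp W) := by
    by_cases hk : ∃ e ∈ W, e ≠ 0 ∧ f.B v e = 0
    · obtain ⟨e, he, he0, hev⟩ := hk
      have heI : f.Iso e := hB0 e he e he
      have hev' : e ∉ F ∙ v := fun h => by
        obtain ⟨c, hc⟩ := Submodule.mem_span_singleton.mp h
        rcases eq_or_ne c 0 with rfl | hc0
        · exact he0 (by rw [← hc, zero_smul])
        · exact hvnW ((W.smul_mem_iff hc0).mp (hc ▸ he))
      obtain ⟨u, hu, hu1⟩ := f.exists_perp_eq_one (F ∙ v) hev'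
      have heu : f.B e u ≠ 0 := fun h => one_ne_zero (hu1.symm.trans (f.eq_zero_comm h))
      have hvu : u ∈ f.perp (F ∙ v) :=
        f.mem_perp_span.mpr (f.eq_zero_comm (hu v (Submodule.mem_span_singleton_self v)))
      obtain ⟨e', he', he'I, hee'⟩ := f.exists_partner (X := f.perp (F ∙ v)) (f.mem_perp_span.mpr hev) hvu heI heu
      exact ⟨e, e', heI, he'I, hee', f.eq_zero_comm hev, f.eq_zero_comm (f.mem_perp_span.mp he'), Or.inl he⟩
    · push Not at hk
      have hle : W ≤ F ∙ a₁ := fun w hw => by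
        by_contra hn'
        have h0 : w - f.B v w • a₁ ≠ 0 := fun e => hn' (Submodule.mem_span_singleton.mpr ⟨_, (sub_eq_zero.mp e).symm⟩)
        exact hk _ (W.sub_mem hw (W.smul_mem _ ha₁W)) h0 (by rw [map_sub, map_smul, hva₁, smul_eq_mul, mul_one, sub_self])
      have hdim : Module.finrank F (F ∙ v ⊔ F ∙ a₁ : Submodule F (ι → F)) ≤ 2 := by
        have h1 := Submodule.finrank_add_le_finrank_add_finrank (F ∙ v) (F ∙ a₁)
        have h2 : ∀ z : ι → F, Module.finrank F (F ∙ z) ≤ 1 := fun z => (finrank_span_le_card {z}).trans (by simp)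
        have := h2 v
        have := h2 a₁
        omega
      obtain ⟨e, he, e', he', hei, he'i, hee'⟩ := f.exists_hyperbolic (F ∙ v ⊔ F ∙ a₁) (by omega)
      refine ⟨e, e', hei, he'i, hee', f.eq_zero_comm (he v (Submodule.mem_sup_left (Submodule.mem_span_singleton_self v))),
        f.eq_zero_comm (he' v (Submodule.mem_sup_left (Submodule.mem_span_singleton_self v))), Or.inr ⟨?_, ?_⟩⟩
      · exact fun w hw => he w (Submodule.mem_sup_right (hle hw))
      · exact fun w hw => he' w (Submodule.mem_sup_right (hle hw))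
  obtain ⟨k, s, s', hk, hkdet, hkapp⟩ := f.exists_scale hei he'i hee' (δ := f.σ (g₁ : Matrix ι ι F).det)
    (by rw [f.invol, mul_comm]; exact f.det_norm hpres)
  refine ⟨k * g₁, hk.mul hpres, MonoidHom.mem_ker.mpr (Units.ext ?_), fun w hw => ?_, ?_⟩
  · show ((k * g₁ : GL ι F) : Matrix ι ι F).det = 1
    rw [Units.val_mul, Matrix.det_mul, hkdet]
    exact f.det_norm hpres
  · rw [Units.val_mul, ← Matrix.mulVec_mulVec, hkapp]
    have hy := hW1 w hw
    rcases heW with he | ⟨he, he'⟩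
    · rw [hB0 e he _ hy, mul_zero, zero_smul, add_zero]
      exact W.add_mem hy (W.smul_mem _ he)
    · rw [f.eq_zero_comm (he _ hy), f.eq_zero_comm (he' _ hy), mul_zero, mul_zero, zero_smul, zero_smul, add_zero, add_zero]
      exact hy
  · rw [Units.val_mul, ← Matrix.mulVec_mulVec, hx1, hkapp, hev, he'v, mul_zero, mul_zero, zero_smul, zero_smul,
      add_zero, add_zero]

end

/-- Let F be the field with q² elements and n ≥ 13, and let SU_n(q) be the group of matrices of determinant one preserving the standard unitary form Σ u_i v_i^q on F^n (the intersection of the unitary group GU_n with the kernel of the determinant). The elements of SU_n(q) stabilising a non-zero subspace on which the form vanishes identically form a maximal subgroup of SU_n(q). -/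
theorem result {F : Type*} [Field F] [Fintype F] (n q : ℕ) (hF : Fintype.card F = q ^ 2) (hn : 13 ≤ n) (W : Submodule F (Fin n → F)) (hW0 : W ≠ ⊥) (hW : Cfsg.Geo.IsTotallySingularFor (Cfsg.hermForm n F q) W) : Cfsg.Geo.IsMaximalIn (Cfsg.GU n F q ⊓ Cfsg.Geo.specialLinear (Fin n) F) (Cfsg.Geo.subspaceStabilizer W ⊓ (Cfsg.GU n F q ⊓ Cfsg.Geo.specialLinear (Fin n) F)) := by
  classical
  set f := stdHerm n hF with hf
  have hWW : W ≤ f.perp W := fun x hx w hw => hW x hx w hw
  have hn' : 7 ≤ Fintype.card (Fin n) := by rw [Fintype.card_fin]; omega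
  have htop : Submodule.span F {w | f.Iso w} = (⊤ : Submodule F (Fin n → F)) := by
    refine eq_top_iff.mpr ((le_of_eq ?_).trans ((f.perp_le_span_iso ⊥ (by simp; omega)).trans
      (Submodule.span_mono fun w hw => hw.2)))
    exact (eq_top_iff.mpr fun x _ p hp => by
      rw [(Submodule.mem_bot F).mp hp, map_zero, LinearMap.zero_apply]).symm
  obtain ⟨w₁, hw₁, hw₁0⟩ := (Submodule.ne_bot_iff W).mp hW0
  obtain ⟨u₀, hu₀, hu₀W⟩ : ∃ u, f.Iso u ∧ u ∉ f.perp W := by
    by_contra hc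
    push Not at hc
    have h1 : (⊤ : Submodule F (Fin n → F)) ≤ f.perp W := htop ▸ Submodule.span_le.mpr hc
    exact hw₁0 (f.nondeg.1 w₁ fun y => h1 Submodule.mem_top w₁ hw₁)
  obtain ⟨c₀, hc₀0, hc₀⟩ := f.exists_trace_zero
  have hstab : ∀ w, f.Iso w → w ∈ f.perp W → f.Ctr (Cfsg.Geo.subspaceStabilizer W ⊓
      (Cfsg.GU n F q ⊓ Cfsg.Geo.specialLinear (Fin n) F)) w := by
    refine fun w hwi hw => ⟨hwi, fun c hc => ⟨mem_subspaceStabilizer fun x hx => ?_,
      mem_suGL hF (f.trans_preserves w hwi hc) (tv_mem_specialLinear _ _ _)⟩⟩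
    rw [HermF.trans_mulVec, f.eq_zero_comm (hw x hx), mul_zero, zero_smul, add_zero]
    exact hx
  refine ⟨lt_of_le_of_ne inf_le_right fun h => ?_, fun M hle hMS => ?_⟩
  · obtain ⟨p, hp, hpu⟩ : ∃ p ∈ W, f.B u₀ p ≠ 0 := by
      by_contra hc; push Not at hc
      exact hu₀W fun w hw => f.eq_zero_comm (hc w hw)
    have hmem : f.trans u₀ hu₀ c₀ ∈ Cfsg.Geo.subspaceStabilizer W :=
      (h ▸ mem_suGL hF (f.trans_preserves u₀ hu₀ hc₀) (tv_mem_specialLinear _ _ _) :
        f.trans u₀ hu₀ c₀ ∈ Cfsg.Geo.subspaceStabilizer W ⊓ _).1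
    have h1 := subspaceStabilizer_apply hmem hp
    rw [HermF.trans_mulVec] at h1
    have h2 := (Submodule.add_mem_iff_right W hp).mp h1
    exact hu₀W (hWW ((W.smul_mem_iff (mul_ne_zero hc₀0 hpu)).mp h2))
  by_cases hMW : M ≤ Cfsg.Geo.subspaceStabilizer W
  · exact Or.inl (le_antisymm (le_inf hMW hMS) hle)
  right
  refine le_antisymm hMS (suGL_le hF (by omega) ?_)
  obtain ⟨g, hgM, hg⟩ := SetLike.not_le_iff_exists.mp hMW
  have hgp : f.Preserves g := (mem_GU_iff' hF).mp (hMS hgM).1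
  have hC : ∀ w, f.Iso w → w ∈ f.perp W → f.Ctr M w := fun w hwi hw => by
    obtain ⟨hi, hc⟩ := hstab w hwi hw
    exact ⟨hi, fun c hct => hle (hc c hct)⟩
  obtain ⟨z, hzi, hz, hgz⟩ : ∃ z, f.Iso z ∧ z ∈ f.perp W ∧ (g : Matrix (Fin n) (Fin n) F) *ᵥ z ∉ f.perp W := by
    by_contra hc
    push Not at hc
    refine hg (mem_subspaceStabilizer fun w hw => ?_)
    by_contra hgw
    have hwi : f.Iso w := hWW hw w hw
    have hy := hc w hwi (hWW hw)
    have hyi : f.Iso ((g : Matrix (Fin n) (Fin n) F) *ᵥ w) := (f.iso_mulVec hgp).mpr hwi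
    obtain ⟨z', hz', hyz'⟩ : ∃ z' ∈ f.perp W, f.B ((g : Matrix (Fin n) (Fin n) F) *ᵥ w) z' ≠ 0 := by
      by_contra hcc; push Not at hcc
      exact hgw (f.perp_perp_le W fun z' hz' => f.eq_zero_comm (hcc z' hz'))
    obtain ⟨e', he', he'i, hee'⟩ := f.exists_partner hy hz' hyi hyz'
    have hmap : ∀ v ∈ f.perp W, (g : Matrix (Fin n) (Fin n) F) *ᵥ v ∈ f.perp W := by
      intro v hv
      have hv' := f.le_span_iso_of_pair (f.perp W) hy he' hyi he'i hee' hv
      clear hv
      induction hv' using Submodule.span_induction with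
      | mem p hp => exact hc p hp.2 hp.1
      | zero => rw [Matrix.mulVec_zero]; exact zero_mem _
      | add a b _ _ ha hb => rw [Matrix.mulVec_add]; exact add_mem ha hb
      | smul c a _ ha => rw [Matrix.mulVec_smul]; exact Submodule.smul_mem _ c ha
    have hP := mem_subspaceStabilizer hmap
    refine hgw (f.perp_perp_le W fun y hy' => ?_)
    have hy'' := subspaceStabilizer_apply (Subgroup.inv_mem _ hP) hy'
    have e : y = (g : Matrix (Fin n) (Fin n) F) *ᵥ (((g⁻¹ : GL (Fin n) F) : Matrix (Fin n) (Fin n) F) *ᵥ y) := by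
      rw [Matrix.mulVec_mulVec, ← Units.val_mul, mul_inv_cancel, Units.val_one, Matrix.one_mulVec]
    rw [e, hgp]
    exact f.eq_zero_comm (hy'' w hw)
  intro x hx
  by_cases hxW : x ∈ f.perp W
  · exact hC x hx hxW
  obtain ⟨k, hk, hkd, hkW, hkv⟩ := exists_stab_move f hn' W hWW hW0 ((f.iso_mulVec hgp).mpr hzi) hx hgz hxW
  have hkM : k ∈ M := hle ⟨mem_subspaceStabilizer hkW, mem_suGL hF hk hkd⟩
  exact hkv ▸ ((hC z hzi hz).of_conj hgM hgp).of_conj hkM hk

end Cfsg.Agent.S5653
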