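import Cfsg.Statements.S5654
import Cfsg.Agent.Lib.MaxSub.UnitaryStd

set_option autoImplicit false
open Cfsg

namespace Cfsg.Agent.S5654

open Cfsg.Agent.Lib.MaxSub Matrix
open scoped MatrixGroups Matrix

section
variable {ι : Type} [Fintype ι] [DecidableEq ι] {F : Type*} [Field F] {f : HermF ι F}

/-- A non-degenerate subspace of dimension at least two contains a hyperbolic pair. -/
theorem exists_pair [Finite F] {X : Submodule F (ι → F)} (hX : ∀ x ∈ X, x ≠ 0 → ∃ y ∈ X, f.B x y ≠ 0)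
    (hd : 2 ≤ Module.finrank F X) : ∃ e ∈ X, ∃ e' ∈ X, f.Iso e ∧ f.Iso e' ∧ f.B e e' = 1 := by
  obtain ⟨e, he, he0, hei⟩ : ∃ e ∈ X, e ≠ 0 ∧ f.Iso e := by
    obtain ⟨x, hx, hx0⟩ := (Submodule.ne_bot_iff X).mp fun h => by rw [h, finrank_bot] at hd; omega
    by_cases hix : f.Iso x
    · exact ⟨x, hx, hx0, hix⟩
    obtain ⟨y, hy, hy0⟩ := (Submodule.ne_bot_iff (X ⊓ f.perp (F ∙ x))).mp fun h => by
      have h1 := Submodule.finrank_sup_add_finrank_inf_eq X (f.perp (F ∙ x))
      rw [h, finrank_bot] at h1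
      have h2 := f.finrank_perp_ge (F ∙ x)
      rw [finrank_span_singleton hx0] at h2
      have h3 := Submodule.finrank_le (X ⊔ f.perp (F ∙ x))
      rw [Module.finrank_fintype_fun_eq_card] at h3
      omega
    by_cases hiy : f.Iso y
    · exact ⟨y, hy.1, hy0, hiy⟩
    have hxy : f.B x y = 0 := f.mem_perp_span.mp hy.2
    obtain ⟨a, -, hia⟩ := f.exists_iso_combination hix hiy hxy
    refine ⟨x + a • y, X.add_mem hx (X.smul_mem a hy.1), fun h => ?_, hia⟩
    have h' := congrArg (f.B x) h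
    rw [map_add, map_smul, hxy, smul_zero, add_zero, map_zero] at h'
    exact hix h'
  obtain ⟨z, hz, hez⟩ := hX e he he0
  obtain ⟨e', he', he'i, hee'⟩ := f.exists_partner he hz hei hez
  exact ⟨e, he, e', he', hei, he'i, hee'⟩

/-- An anisotropic vector orthogonal to a given one. -/
theorem exists_aniso [Finite F] {U : Submodule F (ι → F)} (hU : ∀ x ∈ U, x ≠ 0 → ∃ y ∈ U, f.B x y ≠ 0)
    (hd : 3 ≤ Module.finrank F U) (u : ι → F) : ∃ a ∈ U, f.B u a = 0 ∧ ¬ f.Iso a := by
  by_contra! hall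
  have hrk : ∀ v, Module.finrank F U ≤ Module.finrank F (U ⊓ f.perp (F ∙ v) : Submodule F (ι → F)) + 1 := fun v => by
    have h1 := Submodule.finrank_sup_add_finrank_inf_eq U (f.perp (F ∙ v))
    have h2 := f.finrank_perp_ge (F ∙ v)
    have h2' : Module.finrank F (F ∙ v) ≤ 1 := (finrank_span_le_card {v}).trans (by simp)
    have h3 := Submodule.finrank_le (U ⊔ f.perp (F ∙ v))
    rw [Module.finrank_fintype_fun_eq_card] at h3
    omega
  set T := U ⊓ f.perp (F ∙ u) with hT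
  have hiso : ∀ x ∈ T, f.Iso x := fun x hx => hall x hx.1 (f.mem_perp_span.mp hx.2)
  have horth : ∀ x ∈ T, ∀ y ∈ T, f.B x y = 0 := by
    intro x hx y hy
    have hxx : f.B x x = 0 := hiso x hx
    have hyy : f.B y y = 0 := hiso y hy
    have hlin : ∀ c : F, c * f.B x y + f.σ (c * f.B x y) = 0 := fun c => by
      have h : f.B (x + c • y) (x + c • y) = 0 := hiso _ (T.add_mem hx (T.smul_mem c hy))
      simp only [map_add, LinearMap.map_smulₛₗ, LinearMap.add_apply, LinearMap.smul_apply, map_smul, smul_eq_mul,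
        hxx, hyy] at h
      rw [map_mul, f.herm]
      linear_combination h
    by_contra hxy
    obtain ⟨d, hd⟩ := f.exists_trace (map_one f.σ)
    have h := hlin (d / f.B x y)
    rw [div_mul_cancel₀ _ hxy, hd] at h
    exact one_ne_zero h
  obtain ⟨e, he, he0⟩ := (Submodule.ne_bot_iff T).mp fun h => by
    have h1 := hrk u
    rw [← hT, h, finrank_bot] at h1
    omega
  obtain ⟨z, hz, hez⟩ := hU e he.1 he0
  have huz : f.B u z ≠ 0 := fun h => hez (horth e he z ⟨hz, f.mem_perp_span.mpr h⟩)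
  obtain ⟨e₂, he₂, he₂0⟩ := (Submodule.ne_bot_iff (T ⊓ f.perp (F ∙ z))).mp fun h => by
    have h1 := hrk u
    rw [← hT] at h1
    have h2 := f.finrank_perp_ge (F ∙ z)
    have h2' : Module.finrank F (F ∙ z) ≤ 1 := (finrank_span_le_card {z}).trans (by simp)
    have h3 := Submodule.finrank_sup_add_finrank_inf_eq T (f.perp (F ∙ z))
    rw [h, finrank_bot] at h3
    have h4 := Submodule.finrank_le (T ⊔ f.perp (F ∙ z))
    rw [Module.finrank_fintype_fun_eq_card] at h4
    omega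
  obtain ⟨y, hy, he₂y⟩ := hU e₂ he₂.1.1 he₂0
  refine he₂y ?_
  have hyT : y - (f.B u y / f.B u z) • z ∈ T :=
    ⟨U.sub_mem hy (U.smul_mem _ hz), f.mem_perp_span.mpr (by
      rw [map_sub, map_smul, smul_eq_mul, div_mul_cancel₀ _ huz, sub_self])⟩
  have h := horth e₂ he₂.1 _ hyT
  rwa [map_sub, map_smul, f.eq_zero_comm (f.mem_perp_span.mp he₂.2), smul_zero, sub_zero] at h

/-- Moving a vector of `X` inside `X`, fixing a given vector of the complementary space `Y`. -/
theorem exists_move [Finite F] {X Y : Submodule F (ι → F)} (horth : ∀ y ∈ Y, ∀ x ∈ X, f.B y x = 0)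
    (hperp : f.perp Y ≤ X) (hdisj : ∀ x ∈ X, x ∈ Y → x = 0) {x x' y a : ι → F} (hx : x ∈ X) (hx' : x' ∈ X)
    (hx0 : x ≠ 0) (hx'0 : x' ≠ 0) (hn : f.B x' x' = f.B x x) (hy : y ∈ Y) (hai : ¬ f.Iso a) (ha : a ∈ X ∨ a ∈ Y)
    (hax : f.B a x' = 0) (hay : f.B a y = 0) :
    ∃ g : GL ι F, f.Preserves g ∧ g ∈ Cfsg.Geo.specialLinear ι F ∧ (∀ z ∈ X, (g : Matrix ι ι F) *ᵥ z ∈ X) ∧
      (g : Matrix ι ι F) *ᵥ x = x' ∧ (g : Matrix ι ι F) *ᵥ y = y := by
  classical
  obtain ⟨μ, hμY, hμx⟩ := exists_functional Y (x := x) fun h => hx0 (hdisj x hx h)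
  let T : (ι → F) →ₗ[F] (ι → F) :=
    LinearMap.mk (AddHom.mk (fun z => z + (μ ⬝ᵥ z) • (x' - x)) (fun z z' => by
      simp only [dotProduct_add]; module)) (fun c z => by
      simp only [dotProduct_smul, RingHom.id_apply, smul_eq_mul]; module)
  set S := Y ⊔ (F ∙ x) with hS
  have hmem : ∀ z ∈ S, ∃ w ∈ Y, ∃ s : F, z = w + s • x := fun z hz => by
    obtain ⟨w, hw, r, hr, rfl⟩ := Submodule.mem_sup.mp hz
    obtain ⟨s, rfl⟩ := Submodule.mem_span_singleton.mp hr
    exact ⟨w, hw, s, rfl⟩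
  have hT : ∀ w ∈ Y, ∀ s : F, T (w + s • x) = w + s • x' := fun w hw s => by
    show (w + s • x) + (μ ⬝ᵥ (w + s • x)) • (x' - x) = _
    rw [dotProduct_add, hμY w hw, dotProduct_smul, hμx, zero_add, smul_eq_mul, mul_one]
    module
  have hinj : Function.Injective (T.comp S.subtype) := by
    rw [← LinearMap.ker_eq_bot, eq_bot_iff]
    intro z hz
    rw [LinearMap.mem_ker] at hz
    obtain ⟨w, hw, s, hzs⟩ := hmem z z.2
    have h0 : w + s • x' = 0 := by rw [← hT w hw s, ← hzs]; exact hz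
    have hw0 : w = 0 := hdisj w (by rw [eq_neg_of_add_eq_zero_left h0]; exact X.neg_mem (X.smul_mem _ hx')) hw
    rw [hw0, zero_add] at h0
    refine (Submodule.mem_bot F).mpr (Subtype.ext ?_)
    rw [hzs, hw0, (smul_eq_zero.mp h0).resolve_right hx'0, zero_smul, add_zero]
    rfl
  have hiso : ∀ z z' : S, f.B (T.comp S.subtype z) (T.comp S.subtype z') = f.B (z : ι → F) (z' : ι → F) := by
    intro z z'
    obtain ⟨w, hw, s, hzs⟩ := hmem z z.2
    obtain ⟨w', hw', s', hzs'⟩ := hmem z' z'.2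
    show f.B (T (z : ι → F)) (T (z' : ι → F)) = _
    rw [hzs, hzs', hT w hw s, hT w' hw' s']
    simp only [map_add, map_smul, LinearMap.map_smulₛₗ, LinearMap.add_apply, LinearMap.smul_apply, smul_eq_mul,
      horth w hw x hx, horth w hw x' hx', f.eq_zero_comm (horth w' hw' x hx), f.eq_zero_comm (horth w' hw' x' hx'), hn]
  obtain ⟨g₀, hg₀, hg₀S⟩ :=
    Cfsg.Agent.Lib.Geometry.witt_hermitian f.B f.σ_ne f.invol f.symm f.nondeg S (T.comp S.subtype) hinj hiso
  let g₁ : GL ι F := Matrix.GeneralLinearGroup.toLin.symm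
    ((LinearMap.GeneralLinearGroup.generalLinearEquiv F (ι → F)).symm g₀)
  have hg₁ : ∀ z, (g₁ : Matrix ι ι F) *ᵥ z = g₀ z := fun z => LinearMap.toMatrix'_mulVec _ z
  have hpres : f.Preserves g₁ := fun u u' => by rw [hg₁, hg₁, hg₀]
  have hY1 : ∀ w ∈ Y, (g₁ : Matrix ι ι F) *ᵥ w = w := fun w hw => by
    have h := hg₀S ⟨w, Submodule.mem_sup_left hw⟩
    change g₀ w = T w at h
    have h' := hT w hw 0
    rw [zero_smul, add_zero, zero_smul, add_zero] at h'
    rw [hg₁, h, h']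
  have hx1 : (g₁ : Matrix ι ι F) *ᵥ x = x' := by
    have h := hg₀S ⟨x, Submodule.mem_sup_right (Submodule.mem_span_singleton_self x)⟩
    change g₀ x = T x at h
    have h' := hT 0 Y.zero_mem 1
    rw [zero_add, one_smul, zero_add, one_smul] at h'
    rw [hg₁, h, h']
  set k := (f.σ (g₁ : Matrix ι ι F).det - 1) / f.B a a with hk
  have hB : f.B a a ≠ 0 := hai
  have hdn : f.σ (g₁ : Matrix ι ι F).det * (g₁ : Matrix ι ι F).det = 1 := f.det_norm hpres
  set A : Matrix ι ι F := tvMat a (k • f.psi a) with hA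
  have happ : ∀ z, A *ᵥ z = z + (k * f.B a z) • a := fun z => by
    rw [hA, tvMat_mulVec, smul_dotProduct, f.psi_dot, smul_eq_mul]
  have hdet : A.det = f.σ (g₁ : Matrix ι ι F).det := by
    rw [hA, tvMat, Matrix.vecMulVec_eq Unit, Matrix.det_one_add_replicateCol_mul_replicateRow, smul_dotProduct,
      f.psi_dot, smul_eq_mul, hk]
    field_simp
    ring
  let Q : GL ι F := Matrix.GeneralLinearGroup.mkOfDetNeZero A (by
    rw [hdet]; exact fun h => one_ne_zero (by rw [← hdn, h, zero_mul]))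
  have hQ : f.Preserves Q := fun u v => by
    show f.B (A *ᵥ u) (A *ᵥ v) = _
    simp only [happ, map_add, LinearMap.map_smulₛₗ, LinearMap.add_apply, LinearMap.smul_apply, map_smul,
      smul_eq_mul, map_mul, f.herm]
    have h1 : f.σ k + k + f.σ k * k * f.B a a = 0 := by
      rw [hk, map_div₀, map_sub, map_one, f.herm, f.invol]
      field_simp
      linear_combination hdn
    linear_combination (f.B u a * f.B a v) * h1
  refine ⟨Q * g₁, hQ.mul hpres, MonoidHom.mem_ker.mpr (Units.ext ?_), fun z hz => ?_, ?_, ?_⟩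
  · show ((Q * g₁ : GL ι F) : Matrix ι ι F).det = 1
    rw [Units.val_mul, Matrix.det_mul]
    show A.det * _ = 1
    rw [hdet, hdn]
  · have hz1 : (g₁ : Matrix ι ι F) *ᵥ z ∈ X := hperp fun w hw => by
      rw [← hY1 w hw, hpres, horth w hw z hz]
    rw [Units.val_mul, ← Matrix.mulVec_mulVec]
    show A *ᵥ _ ∈ X
    rw [happ]
    rcases ha with ha | ha
    · exact X.add_mem hz1 (X.smul_mem _ ha)
    · rw [horth a ha _ hz1, mul_zero, zero_smul, add_zero]; exact hz1
  · rw [Units.val_mul, ← Matrix.mulVec_mulVec, hx1]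
    show A *ᵥ x' = x'
    rw [happ, hax, mul_zero, zero_smul, add_zero]
  · rw [Units.val_mul, ← Matrix.mulVec_mulVec, hY1 y hy]
    show A *ᵥ y = y
    rw [happ, hay, mul_zero, zero_smul, add_zero]

end

/-- Let F be the field with q² elements and n ≥ 13. In SU_n(q) (determinant-one isometries of the standard unitary form on F^n) the stabiliser of a non-zero subspace W on which the form is non-degenerate and with 2 dim W < n is a maximal subgroup. -/
theorem result {F : Type*} [Field F] [Fintype F] (n q : ℕ) (hF : Fintype.card F = q ^ 2) (hn : 13 ≤ n) (W : Submodule F (Fin n → F)) (hW0 : W ≠ ⊥) (hW : Cfsg.Geo.IsNondegenerateOn (Cfsg.hermForm n F q) W) (hdim : 2 * Module.finrank F W < n) : Cfsg.Geo.IsMaximalIn (Cfsg.GU n F q ⊓ Cfsg.Geo.specialLinear (Fin n) F) (Cfsg.Geo.subspaceStabilizer W ⊓ (Cfsg.GU n F q ⊓ Cfsg.Geo.specialLinear (Fin n) F)) := by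
  classical
  set f := stdHerm n hF with hf
  have hB : ∀ u v, f.B u v = Cfsg.hermForm n F q v u := fun u v => stdHerm_apply hF u v
  set U := f.perp W with hU
  set r := Module.finrank F W with hr
  have horth : ∀ w ∈ W, ∀ u ∈ U, f.B w u = 0 := fun w hw u hu => hu w hw
  have horth' : ∀ u ∈ U, ∀ w ∈ W, f.B u w = 0 := fun u hu w hw => f.eq_zero_comm (hu w hw)
  have hWnd : ∀ x ∈ W, x ≠ 0 → ∃ y ∈ W, f.B x y ≠ 0 := fun x hx hx0 => by
    obtain ⟨⟨y, hy, hxy⟩, -⟩ := hW x hx hx0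
    exact ⟨y, hy, by rw [hB]; exact hxy⟩
  have hdisj : ∀ x ∈ W, x ∈ U → x = 0 := fun x hx hxU => by
    by_contra h0
    obtain ⟨y, hy, hxy⟩ := hWnd x hx h0
    exact hxy (f.eq_zero_comm (hxU y hy))
  have hinf : W ⊓ U = ⊥ := (Submodule.eq_bot_iff _).mpr fun x hx => hdisj x hx.1 hx.2
  have htop : W ⊔ U = ⊤ ∧ n ≤ Module.finrank F U + r := by
    have h1 := Submodule.finrank_sup_add_finrank_inf_eq W U
    rw [hinf, finrank_bot] at h1
    have h2 := f.finrank_perp_ge W
    rw [← hU, Fintype.card_fin] at h2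
    refine ⟨Submodule.eq_top_of_finrank_eq (le_antisymm (Submodule.finrank_le _) ?_), by omega⟩
    rw [Module.finrank_fintype_fun_eq_card, Fintype.card_fin]
    omega
  have hU3 : 3 ≤ Module.finrank F U ∧ r < Module.finrank F U := by omega
  have hdec : ∀ x : Fin n → F, ∃ w ∈ W, ∃ u ∈ U, w + u = x := fun x =>
    Submodule.mem_sup.mp (htop.1.symm ▸ Submodule.mem_top)
  have hUnd : ∀ x ∈ U, x ≠ 0 → ∃ y ∈ U, f.B x y ≠ 0 := fun x hx hx0 => by
    obtain ⟨z, hz⟩ : ∃ z, f.B x z ≠ 0 := by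
      by_contra! h
      exact hx0 (f.nondeg.1 x h)
    obtain ⟨w, hw, u, hu, rfl⟩ := hdec z
    exact ⟨u, hu, by rwa [map_add, horth' x hx w hw, zero_add] at hz⟩
  have hperpU : f.perp U ≤ W := f.perp_perp_le W
  obtain ⟨e, heU, e', he'U, hei, he'i, hee'⟩ := exists_pair hUnd (by omega)
  have hee : f.B e e = 0 := hei
  have he'e' : f.B e' e' = 0 := he'i
  have he'e : f.B e' e = 1 := by rw [← f.herm e e', hee', map_one]
  have hnormU : ∀ s : F, f.σ s = s → ∃ u ∈ U, u ≠ 0 ∧ f.B u u = s := fun s hs => by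
    obtain ⟨d, hd⟩ := f.exists_trace hs
    refine ⟨d • e + e', U.add_mem (U.smul_mem _ heU) he'U, fun h => ?_, ?_⟩
    · have h' := congrArg (f.B e) h
      simp [hee, hee'] at h'
    · simp only [map_add, LinearMap.map_smulₛₗ, LinearMap.add_apply, LinearMap.smul_apply, map_smul, smul_eq_mul,
        hee, he'e', hee', he'e]
      linear_combination hd
  -- a centre outside both spaces
  obtain ⟨v₁, hv₁i, w₁, hw₁, u₁, hu₁, hv₁, hw₁0, hu₁0⟩ : ∃ v, f.Iso v ∧ ∃ w ∈ W, ∃ u ∈ U, w + u = v ∧ w ≠ 0 ∧ u ≠ 0 := by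
    obtain ⟨w, hw, hw0⟩ := (Submodule.ne_bot_iff W).mp hW0
    obtain ⟨u, hu, hu0, huu⟩ := hnormU (-(f.B w w)) (by rw [map_neg, f.herm])
    refine ⟨w + u, ?_, w, hw, u, hu, rfl, hw0, hu0⟩
    show f.B _ _ = 0
    simp only [map_add, LinearMap.add_apply, horth w hw u hu, horth' u hu w hw, huu]
    ring
  obtain ⟨c₀, hc₀0, hc₀⟩ := f.exists_trace_zero
  refine ⟨lt_of_le_of_ne inf_le_right fun h => ?_, fun M hle hMS => ?_⟩
  · have hmem : f.trans v₁ hv₁i c₀ ∈ Cfsg.Geo.subspaceStabilizer W :=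
      (h ▸ mem_suGL hF (f.trans_preserves v₁ hv₁i hc₀) (tv_mem_specialLinear _ _ _) :
        f.trans v₁ hv₁i c₀ ∈ Cfsg.Geo.subspaceStabilizer W ⊓ _).1
    obtain ⟨x, hx, hxw⟩ := hWnd w₁ hw₁ hw₁0
    have h1 := subspaceStabilizer_apply hmem hx
    rw [HermF.trans_mulVec] at h1
    have hv1x : f.B v₁ x = f.B w₁ x := by
      rw [← hv₁, map_add, LinearMap.add_apply, horth' u₁ hu₁ x hx, add_zero]
    have h2 := (W.smul_mem_iff (mul_ne_zero hc₀0 (hv1x.symm ▸ hxw))).mp ((Submodule.add_mem_iff_right W hx).mp h1)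
    rw [← hv₁] at h2
    exact hu₁0 (hdisj u₁ ((Submodule.add_mem_iff_right W hw₁).mp h2) hu₁)
  by_cases hMW : M ≤ Cfsg.Geo.subspaceStabilizer W
  · exact Or.inl (le_antisymm (le_inf hMW hMS) hle)
  right
  refine le_antisymm hMS (suGL_le hF (by omega) ?_)
  obtain ⟨g, hgM, hg⟩ := SetLike.not_le_iff_exists.mp hMW
  have hgp : f.Preserves g := (mem_GU_iff' hF).mp (hMS hgM).1
  have hC : ∀ z, f.Iso z → z ∈ W ∨ z ∈ U → f.Ctr M z := fun z hzi hz => by
    refine ⟨hzi, fun c hc => hle ⟨mem_subspaceStabilizer fun x hx => ?_,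
      mem_suGL hF (f.trans_preserves z hzi hc) (tv_mem_specialLinear _ _ _)⟩⟩
    rw [HermF.trans_mulVec]
    rcases hz with hz | hz
    · exact W.add_mem hx (W.smul_mem _ hz)
    · rw [horth' z hz x hx, mul_zero, zero_smul, add_zero]; exact hx
  have hrep : ∀ w u w' u', w ∈ W → u ∈ U → w' ∈ W → u' ∈ U → w ≠ 0 → u ≠ 0 → w' ≠ 0 → u' ≠ 0 →
      f.B w' w' = f.B w w → f.B u' u' = f.B u u → f.Ctr M (w + u) → f.Ctr M (w' + u') := by
    intro w u w' u' hw hu hw' hu' hw0 hu0 hw'0 hu'0 hnw hnu hctr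
    obtain ⟨a, haU, hau, hai⟩ := exists_aniso hUnd hU3.1 u
    obtain ⟨g₁, hg₁, hg₁d, hg₁W, hg₁w, hg₁u⟩ := exists_move horth' hperpU hdisj hw hw' hw0 hw'0 hnw hu hai
      (Or.inr haU) (horth' a haU w' hw') (f.eq_zero_comm hau)
    obtain ⟨b, hbU, hbu, hbi⟩ := exists_aniso hUnd hU3.1 u'
    obtain ⟨g₂, hg₂, hg₂d, hg₂U, hg₂u, hg₂w⟩ := exists_move horth le_rfl (fun x hx hxW => hdisj x hxW hx) hu hu'
      hu0 hu'0 hnu hw' hbi (Or.inl hbU) (f.eq_zero_comm hbu) (horth' b hbU w' hw')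
    have h1 : g₁ ∈ M := hle ⟨mem_subspaceStabilizer hg₁W, mem_suGL hF hg₁ hg₁d⟩
    have hg₂W : ∀ z ∈ W, (g₂ : Matrix (Fin n) (Fin n) F) *ᵥ z ∈ W := fun z hz => hperpU fun y hy => by
      have hinv := subspaceStabilizer_apply (Subgroup.inv_mem _ (mem_subspaceStabilizer hg₂U)) hy
      conv_lhs => rw [show y = (g₂ : Matrix (Fin n) (Fin n) F) *ᵥ (((g₂⁻¹ : GL (Fin n) F) : Matrix (Fin n) (Fin n) F) *ᵥ y) by
        rw [Matrix.mulVec_mulVec, ← Units.val_mul, mul_inv_cancel, Units.val_one, Matrix.one_mulVec]]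
      rw [hg₂, horth' _ hinv z hz]
    have h2 : g₂ ∈ M := hle ⟨mem_subspaceStabilizer hg₂W, mem_suGL hF hg₂ hg₂d⟩
    have h3 := (hctr.of_conj h1 hg₁).of_conj h2 hg₂
    rwa [Matrix.mulVec_add, Matrix.mulVec_add, hg₁w, hg₁u, hg₂w, hg₂u] at h3
  have hBsum : ∀ w ∈ W, ∀ u ∈ U, f.B (w + u) (w + u) = f.B w w + f.B u u := fun w hw u hu => by
    simp only [map_add, LinearMap.add_apply, horth w hw u hu, horth' u hu w hw]
    ring
  -- the new centre
  obtain ⟨wz, hwz, uz, huz, hwz0, huz0, hz⟩ : ∃ w ∈ W, ∃ u ∈ U, w ≠ 0 ∧ u ≠ 0 ∧ f.Ctr M (w + u) := by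
    by_contra! hno
    have hinj : Function.Injective ((g : Matrix (Fin n) (Fin n) F) *ᵥ ·) := fun x y h => by
      simpa [Matrix.mulVec_mulVec, ← Units.val_mul] using
        congrArg (((g⁻¹ : GL (Fin n) F) : Matrix (Fin n) (Fin n) F) *ᵥ ·) h
    have hside : ∀ z ∈ U, f.Iso z → (g : Matrix (Fin n) (Fin n) F) *ᵥ z ∈ W ∨
        (g : Matrix (Fin n) (Fin n) F) *ᵥ z ∈ U := fun z hz hzi => by
      obtain ⟨w, hw, u, hu, hwu⟩ := hdec ((g : Matrix (Fin n) (Fin n) F) *ᵥ z)
      rcases eq_or_ne w 0 with rfl | hw0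
      · exact Or.inr (by rw [← hwu, zero_add]; exact hu)
      rcases eq_or_ne u 0 with rfl | hu0
      · exact Or.inl (by rw [← hwu, add_zero]; exact hw)
      exact absurd (hwu ▸ (hC z hzi (Or.inr hz)).of_conj hgM hgp) (hno w hw u hu hw0 hu0)
    have hone : ∀ (X : Submodule F (Fin n → F)), (∀ z ∈ U, f.Iso z → (g : Matrix (Fin n) (Fin n) F) *ᵥ z ∈ X) →
        ∀ z ∈ U, (g : Matrix (Fin n) (Fin n) F) *ᵥ z ∈ X := by
      intro X hX z hz
      have hz' := f.le_span_iso_of_pair U heU he'U hei he'i hee' hz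
      clear hz
      induction hz' using Submodule.span_induction with
      | mem p hp => exact hX p hp.1 hp.2
      | zero => rw [Matrix.mulVec_zero]; exact zero_mem _
      | add a b _ _ ha hb => rw [Matrix.mulVec_add]; exact add_mem ha hb
      | smul c a _ ha => rw [Matrix.mulVec_smul]; exact Submodule.smul_mem _ c ha
    by_cases hsplit : ∃ x ∈ U, f.Iso x ∧ (g : Matrix (Fin n) (Fin n) F) *ᵥ x ∉ U
    · obtain ⟨x, hx, hxi, hxU⟩ := hsplit
      have hxW := (hside x hx hxi).resolve_right hxU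
      have hall := hone W fun y hy hyi => by
        by_cases hy0 : y = 0
        · rw [hy0, Matrix.mulVec_zero]; exact W.zero_mem
        refine (hside y hy hyi).resolve_right fun hyU => ?_
        have hxy : f.B x y = 0 := by rw [← hgp]; exact horth _ hxW _ hyU
        have hxyi : f.Iso (x + y) := by
          show f.B _ _ = 0
          simp only [map_add, LinearMap.add_apply, show f.B x x = 0 from hxi, show f.B y y = 0 from hyi, hxy,
            f.eq_zero_comm hxy, add_zero]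
        rcases hside _ (U.add_mem hx hy) hxyi with h | h <;> rw [Matrix.mulVec_add] at h
        · exact hy0 (hinj (by
            show (g : Matrix (Fin n) (Fin n) F) *ᵥ y = (g : Matrix (Fin n) (Fin n) F) *ᵥ 0
            rw [Matrix.mulVec_zero]; exact hdisj _ ((Submodule.add_mem_iff_right W hxW).mp h) hyU))
        · exact hxU ((Submodule.add_mem_iff_left U hyU).mp h)
      have hle' : Submodule.map (Matrix.toLin' (g : Matrix (Fin n) (Fin n) F)) U ≤ W := by
        rintro _ ⟨z, hz, rfl⟩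
        rw [Matrix.toLin'_apply]
        exact hall z hz
      have h1 := Submodule.finrank_mono hle'
      rw [← (Submodule.equivMapOfInjective _ (fun a b h => hinj (by simpa [Matrix.toLin'_apply] using h)) U).finrank_eq] at h1
      omega
    · push Not at hsplit
      have hgU := hone U hsplit
      refine hg (mem_subspaceStabilizer fun w hw => hperpU fun y hy => ?_)
      have hinv := subspaceStabilizer_apply (Subgroup.inv_mem _ (mem_subspaceStabilizer hgU)) hy
      rw [show y = (g : Matrix (Fin n) (Fin n) F) *ᵥ (((g⁻¹ : GL (Fin n) F) : Matrix (Fin n) (Fin n) F) *ᵥ y) by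
        rw [Matrix.mulVec_mulVec, ← Units.val_mul, mul_inv_cancel, Units.val_one, Matrix.one_mulVec], hgp]
      exact horth' _ hinv w hw
  -- every class
  have hscale : ∀ w ∈ W, ∀ u ∈ U, w ≠ 0 → u ≠ 0 → f.B w w ≠ 0 → f.Ctr M (w + u) →
      ∀ w' ∈ W, ∀ u' ∈ U, w' ≠ 0 → u' ≠ 0 → f.B w' w' ≠ 0 → f.Iso (w' + u') → f.Ctr M (w' + u') := by
    intro w hw u hu hw0 hu0 hn0 hctr w' hw' u' hu' hw'0 hu'0 hn'0 hiso
    obtain ⟨a, ha⟩ := Cfsg.Agent.Lib.Geometry.exists_mul_conj_eq f.σ_ne f.invol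
      (s := f.B w' w' / f.B w w) (by rw [map_div₀, f.herm, f.herm])
    have ha0 : a ≠ 0 := fun h => by
      rw [h, map_zero, zero_mul] at ha
      exact div_ne_zero hn'0 hn0 ha.symm
    have h1 := hctr.smul a
    rw [smul_add] at h1
    have hn : ∀ z, f.B (a • z) (a • z) = f.σ a * a * f.B z z := fun z => by
      simp only [LinearMap.map_smulₛₗ, LinearMap.smul_apply, map_smul, smul_eq_mul]
      ring
    have e1 : f.B w w + f.B u u = 0 := by rw [← hBsum w hw u hu]; exact hctr.1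
    have e2 : f.B w' w' + f.B u' u' = 0 := by rw [← hBsum w' hw' u' hu']; exact hiso
    refine hrep _ _ _ _ (W.smul_mem a hw) (U.smul_mem a hu) hw' hu' (smul_ne_zero ha0 hw0) (smul_ne_zero ha0 hu0)
      hw'0 hu'0 ?_ ?_ h1
    · rw [hn, ha, div_mul_cancel₀ _ hn0]
    · rw [hn, ha, eq_neg_of_add_eq_zero_right e1, eq_neg_of_add_eq_zero_right e2, mul_neg, div_mul_cancel₀ _ hn0]
  -- a centre with isotropic parts
  have hzero : 2 ≤ r → ∀ w ∈ W, ∀ u ∈ U, w ≠ 0 → u ≠ 0 → f.B w w = 0 → f.Iso (w + u) → f.Ctr M (w + u) := by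
    intro hr2 w hw u hu hw0 hu0 hn0 hiso
    have e0 : f.B w w + f.B u u = 0 := by rw [← hBsum w hw u hu]; exact hiso
    have e1 : f.B wz wz + f.B uz uz = 0 := by rw [← hBsum wz hwz uz huz]; exact hz.1
    rw [hn0, zero_add] at e0
    by_cases hnz : f.B wz wz = 0
    · rw [hnz, zero_add] at e1
      exact hrep _ _ _ _ hwz huz hw hu hwz0 huz0 hw0 hu0 (hn0.trans hnz.symm) (e0.trans e1.symm) hz
    obtain ⟨ew, hew, ew', hew', hewi, hew'i, hwee⟩ := exists_pair hWnd (by omega)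
    obtain ⟨z₁, hz₁, hz₁i, hz₁B⟩ : ∃ z ∈ W, f.Iso z ∧ f.B wz z = c₀ := by
      obtain ⟨z, hz', hzi, hzB⟩ : ∃ z ∈ W, f.Iso z ∧ f.B wz z ≠ 0 := by
        by_contra! hall
        refine hnz ?_
        suffices ∀ y ∈ Submodule.span F {y | y ∈ W ∧ f.Iso y}, f.B wz y = 0 from
          this wz (f.le_span_iso_of_pair W hew hew' hewi hew'i hwee hwz)
        intro y hy
        induction hy using Submodule.span_induction with
        | mem p hp => exact hall p hp.1 hp.2
        | zero => rw [map_zero]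
        | add a b _ _ ha hb => rw [map_add, ha, hb, add_zero]
        | smul c a _ ha => rw [map_smul, ha, smul_zero]
      exact ⟨(c₀ / f.B wz z) • z, W.smul_mem _ hz', hzi.smul _, by
        rw [map_smul, smul_eq_mul, div_mul_cancel₀ _ hzB]⟩
    obtain ⟨z₂, hz₂, hz₂i, hz₂0, hz₂B⟩ : ∃ z ∈ U, f.Iso z ∧ z ≠ 0 ∧ f.B uz z = 0 := by
      obtain ⟨a, ha, hau, hai⟩ := exists_aniso hUnd hU3.1 uz
      have huu : ¬ f.Iso uz := fun h => hnz (by rw [show f.B uz uz = 0 from h, add_zero] at e1; exact e1)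
      obtain ⟨b, hb, hbu, hba, hb0⟩ : ∃ b ∈ U, f.B uz b = 0 ∧ f.B a b = 0 ∧ b ≠ 0 := by
        obtain ⟨b, hb, hb0⟩ := (Submodule.ne_bot_iff (U ⊓ f.perp (Submodule.span F {uz, a}))).mp fun h => by
          have h1 := Submodule.finrank_sup_add_finrank_inf_eq U (f.perp (Submodule.span F {uz, a}))
          rw [h, finrank_bot] at h1
          have h2 := f.finrank_perp_ge (Submodule.span F {uz, a})
          have h2' : Module.finrank F (Submodule.span F ({uz, a} : Set (Fin n → F))) ≤ 2 :=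
            (finrank_span_le_card _).trans (by
              rw [Set.toFinset_insert, Set.toFinset_singleton]; exact Finset.card_le_two)
          have h3 := Submodule.finrank_le (U ⊔ f.perp (Submodule.span F {uz, a}))
          rw [Module.finrank_fintype_fun_eq_card] at h3
          omega
        exact ⟨b, hb.1, hb.2 _ (Submodule.subset_span (by simp)), hb.2 _ (Submodule.subset_span (by simp)), hb0⟩
      by_cases hbi : f.Iso b
      · exact ⟨b, hb, hbi, hb0, hbu⟩
      obtain ⟨s, -, hs⟩ := f.exists_iso_combination hai hbi hba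
      refine ⟨a + s • b, U.add_mem ha (U.smul_mem _ hb), hs, fun h => hai ?_, by
        rw [map_add, map_smul, hau, hbu, smul_zero, add_zero]⟩
      show f.B a a = 0
      have h' := congrArg (f.B a) h
      rwa [map_add, map_smul, hba, smul_zero, add_zero, map_zero] at h'
    have h11 : f.B z₁ z₁ = 0 := hz₁i
    have h22 : f.B z₂ z₂ = 0 := hz₂i
    have hz₁0 : z₁ ≠ 0 := fun h => hc₀0 (by rw [← hz₁B, h, map_zero])
    have hN1 : f.B (wz + z₁) (wz + z₁) = f.B wz wz := by
      simp only [map_add, LinearMap.add_apply, h11, hz₁B]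
      rw [← f.herm wz z₁, hz₁B]
      linear_combination hc₀
    have hN2 : f.B (uz + z₂) (uz + z₂) = f.B uz uz := by
      simp only [map_add, LinearMap.add_apply, h22, hz₂B, f.eq_zero_comm hz₂B]
      ring
    have h2 := hrep _ _ _ _ hwz huz (W.add_mem hwz hz₁) (U.add_mem huz hz₂) hwz0 huz0
      (fun h => hnz (by rw [← hN1, h, map_zero])) (fun h => hnz (by
        rw [← hN2, h, map_zero, add_zero] at e1; exact e1)) hN1 hN2 hz
    have h3 := (hz.smul (-1)).add h2 (by
      simp only [LinearMap.map_smulₛₗ, LinearMap.smul_apply, map_add, LinearMap.add_apply,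
        horth wz hwz z₂ hz₂, horth wz hwz uz huz, horth' uz huz z₁ hz₁, horth' uz huz wz hwz, hz₁B, hz₂B,
        smul_eq_mul, map_neg, map_one]
      intro h
      apply hc₀0
      linear_combination -h - e1) (by
      show f.B _ _ = 0
      rw [show (-1 : F) • (wz + uz) + (wz + z₁ + (uz + z₂)) = z₁ + z₂ by module, hBsum z₁ hz₁ z₂ hz₂, h11, h22, add_zero])
    rw [show (-1 : F) • (wz + uz) + (wz + z₁ + (uz + z₂)) = z₁ + z₂ by module] at h3
    exact hrep _ _ _ _ hz₁ hz₂ hw hu hz₁0 hz₂0 hw0 hu0 (hn0.trans h11.symm) (e0.trans h22.symm) h3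
  -- a centre with anisotropic parts
  obtain ⟨wn, hwn, un, hun, hwn0, hun0, hnn, hn⟩ : ∃ w ∈ W, ∃ u ∈ U, w ≠ 0 ∧ u ≠ 0 ∧ f.B w w ≠ 0 ∧ f.Ctr M (w + u) := by
    by_cases hnz : f.B wz wz = 0
    swap
    · exact ⟨wz, hwz, uz, huz, hwz0, huz0, hnz, hz⟩
    have hr2 : 2 ≤ r := by
      by_contra hr2
      obtain ⟨x, hx, hxw⟩ := hWnd wz hwz hwz0
      obtain ⟨s, hs⟩ : ∃ s : F, s • wz = x := by
        have hspan : F ∙ wz = W := Submodule.eq_of_le_of_finrank_eq ((Submodule.span_singleton_le_iff_mem _ _).mpr hwz)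
          (by
            have h1 : 0 < r := Module.finrank_pos_iff.mpr (Submodule.nontrivial_iff_ne_bot.mpr hW0)
            rw [finrank_span_singleton hwz0]; omega)
        exact Submodule.mem_span_singleton.mp (hspan.symm ▸ hx)
      exact hxw (by rw [← hs, map_smul, hnz, smul_zero])
    obtain ⟨ew, hew, ew', hew', hewi, hew'i, hwee⟩ := exists_pair hWnd (by omega)
    have a1 : f.B ew ew = 0 := hewi
    have a2 : f.B ew' ew' = 0 := hew'i
    have a3 : f.B ew' ew = 1 := by rw [← f.herm ew ew', hwee, map_one]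
    obtain ⟨d, hd⟩ := f.exists_trace (map_one f.σ)
    have hd0 : d ≠ 0 := fun h => by simp [h] at hd
    obtain ⟨δ, hδ0, hδ⟩ : ∃ δ : F, δ ≠ 0 ∧ δ + f.σ δ = -1 := by
      refine ⟨-d, neg_ne_zero.mpr hd0, by rw [map_neg]; linear_combination -hd⟩
    obtain ⟨β, hβ0, hβ, hβd⟩ : ∃ β : F, β ≠ 0 ∧ β + f.σ β = 0 ∧ β ≠ d := by
      refine ⟨c₀, hc₀0, hc₀, fun h => one_ne_zero (α := F) ?_⟩
      rw [← hd, ← h, hc₀]
    have hne2 : β - d ≠ 0 := sub_ne_zero.mpr hβd
    have h1 := hzero hr2 ew hew e heU (fun h => by simpa [h] using hwee) (fun h => by simpa [h] using hee') a1 (by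
      show f.B _ _ = 0
      rw [hBsum ew hew e heU, a1, hee, add_zero])
    have h2 := hzero hr2 (d • ew') (W.smul_mem _ hew') ((β - d) • e') (U.smul_mem _ he'U)
      (smul_ne_zero hd0 fun h => by simpa [h] using hwee) (smul_ne_zero hne2 fun h => by simpa [h] using hee')
      (by simp [LinearMap.map_smulₛₗ, a2]) (by
      show f.B _ _ = 0
      rw [hBsum _ (W.smul_mem _ hew') _ (U.smul_mem _ he'U)]
      simp [LinearMap.map_smulₛₗ, a2, he'e'])
    have hBB : f.B (ew + e) (d • ew' + (β - d) • e') = β := by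
      simp only [map_add, map_smul, LinearMap.add_apply, hwee, hee', horth ew hew e' he'U, horth' e heU ew' hew',
        smul_eq_mul]
      ring
    have hN : f.B (ew + d • ew') (ew + d • ew') = 1 := by
      simp only [map_add, LinearMap.map_smulₛₗ, LinearMap.add_apply, LinearMap.smul_apply, map_smul, smul_eq_mul,
        a1, a2, a3, hwee]
      linear_combination hd
    have hN' : f.B (e + (β - d) • e') (e + (β - d) • e') = -1 := by
      simp only [map_add, LinearMap.map_smulₛₗ, LinearMap.add_apply, LinearMap.smul_apply, map_smul, smul_eq_mul,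
        hee, he'e', he'e, hee', map_sub]
      linear_combination hβ - hd
    have hrw : ew + e + (d • ew' + (β - d) • e') = ew + d • ew' + (e + (β - d) • e') := by abel
    have h3 := h1.add h2 (by rw [hBB]; exact hβ0) (by
      show f.B _ _ = 0
      rw [hrw, hBsum _ (W.add_mem hew (W.smul_mem _ hew')) _ (U.add_mem heU (U.smul_mem _ he'U)), hN, hN',
        add_neg_cancel])
    rw [hrw] at h3
    exact ⟨_, W.add_mem hew (W.smul_mem _ hew'), _, U.add_mem heU (U.smul_mem _ he'U),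
      fun h => one_ne_zero (α := F) (by rw [← hN, h, map_zero]),
      fun h => one_ne_zero (α := F) (neg_eq_zero.mp (by rw [← hN', h, map_zero])),
      by rw [hN]; exact one_ne_zero, h3⟩
  intro x hx
  obtain ⟨w, hw, u, hu, rfl⟩ := hdec x
  rcases eq_or_ne w 0 with rfl | hw0
  · exact hC _ hx (Or.inr (by rwa [zero_add]))
  rcases eq_or_ne u 0 with rfl | hu0
  · exact hC _ hx (Or.inl (by rwa [add_zero]))
  by_cases hn0 : f.B w w = 0
  · refine hzero ?_ w hw u hu hw0 hu0 hn0 hx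
    by_contra hr2
    obtain ⟨y, hy, hwy⟩ := hWnd w hw hw0
    have hspan : F ∙ w = W := Submodule.eq_of_le_of_finrank_eq ((Submodule.span_singleton_le_iff_mem _ _).mpr hw)
      (by
        have h1 : 0 < r := Module.finrank_pos_iff.mpr (Submodule.nontrivial_iff_ne_bot.mpr hW0)
        rw [finrank_span_singleton hw0]; omega)
    obtain ⟨s, hs⟩ := Submodule.mem_span_singleton.mp (hspan.symm ▸ hy)
    exact hwy (by rw [← hs, map_smul, hn0, smul_zero])
  exact hscale wn hwn un hun hwn0 hun0 hnn hn w hw u hu hw0 hu0 hn0 hx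

end Cfsg.Agent.S5654
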