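import Cfsg.Statements.S5655
import Cfsg.Agent.Lib.ThreeTransp.DecompUniRoot
import Cfsg.Agent.Lib.ThreeTransp.DecompUniTwo
import Cfsg.Agent.Lib.ThreeTransp.DecompUniBlock
import Cfsg.Agent.Lib.MaxSub.DecompAux

set_option autoImplicit false
open Cfsg

namespace Cfsg.Agent.S5655

open Cfsg.Agent.Lib.MaxSub Cfsg.Agent.Lib.ThreeTransp.DecompMax Cfsg.Agent.Lib.ThreeTransp.DecompUni Matrix
open scoped MatrixGroups Matrix

/-- Let F be the field with q² elements and n ≥ 13. Let D be a decomposition of F^n into t ≥ 2 pairwise orthogonal subspaces of equal dimension k, each non-degenerate for the standard unitary form, spanning F^n. Unless k = 2 and q = 2, the elements of SU_n(q) permuting the members of D form a maximal subgroup of SU_n(q). -/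
theorem result {F : Type*} [Field F] [Fintype F] (n q : ℕ) (hF : Fintype.card F = q ^ 2) (hn : 13 ≤ n) {t : ℕ} (k : ℕ) (D : Fin t → Submodule F (Fin n → F)) (hD : Cfsg.Geo.IsNondegenerateMDecomposition (Cfsg.hermForm n F q) k D) (hex : ¬ (k = 2 ∧ q = 2)) : Cfsg.Geo.IsMaximalIn (Cfsg.GU n F q ⊓ Cfsg.Geo.specialLinear (Fin n) F) (Cfsg.Geo.decompositionStabilizer D ⊓ (Cfsg.GU n F q ⊓ Cfsg.Geo.specialLinear (Fin n) F)) := by
  classical
  set f := stdHerm n hF with hfdef
  have hB : ∀ u v, f.B u v = Cfsg.hermForm n F q v u := fun u v => stdHerm_apply hF u v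
  have hs : Std f q := ⟨hF, fun x => rfl, fun x y => by
    rw [hB]
    exact Finset.sum_congr rfl fun i _ => mul_comm _ _⟩
  have hcard : n = t * k := by simpa using DecompAux.card_eq_mul hD.decomp
  have ht := hD.decomp.two_le
  have hk0 := hD.decomp.pos
  let e : Fin n ≃ Fin t × Fin k := (finCongr hcard).trans finProdFinEquiv.symm
  let fn : Fin n → Fin t := fun p => (e p).1
  have horth : ∀ i j, i ≠ j → ∀ x ∈ D i, ∀ y ∈ D j, f.B x y = 0 := fun i j hij x hx y hy => by
    rw [hB]; exact hD.orthogonal j i hij.symm y hy x hx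
  -- orthonormal columns
  have hfam : ∀ i, ∃ v : Fin k → D i, ∀ a b, f.B (v a : Fin n → F) (v b) = if a = b then 1 else 0 := by
    intro i
    let Bi : D i →ₛₗ[f.σ] D i →ₗ[F] F := LinearMap.mk₂'ₛₗ f.σ (RingHom.id F) (fun x y => f.B (x : Fin n → F) y)
      (fun x x' y => by simp) (fun c x y => by simp [LinearMap.map_smulₛₗ]) (fun x y y' => by simp)
      (fun c x y => by simp)
    refine Cfsg.Agent.Lib.Geometry.exists_orthonormal_family (B := Bi) f.σ_ne f.invol ⟨fun x y => f.herm _ _⟩ ?_ k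
      (hD.decomp.finrank_eq i).ge
    have hleft : ∀ x, (∀ y, Bi x y = 0) → x = 0 := fun x hx => by
      by_contra h0
      obtain ⟨⟨y, hy, hxy⟩, -⟩ := hD.nondegenerate i x x.2 fun h => h0 (Subtype.ext h)
      exact hxy (by rw [← hB]; exact hx ⟨y, hy⟩)
    exact ⟨hleft, fun y hy => hleft y fun x => f.eq_zero_comm (hy x)⟩
  choose v hv using hfam
  let b : Fin n → Fin n → F := fun p => v (e p).1 (e p).2
  have hbD : ∀ p, b p ∈ D (fn p) := fun p => (v _ _).2
  have hbb : ∀ p r, f.B (b p) (b r) = if p = r then 1 else 0 := by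
    intro p r
    by_cases h : fn p = fn r
    · obtain ⟨a, ha⟩ : ∃ a, e p = (fn p, a) := ⟨_, rfl⟩
      obtain ⟨c, hc⟩ : ∃ c, e r = (fn p, c) := ⟨(e r).2, Prod.ext h.symm rfl⟩
      have hbp : b p = v (fn p) a := by
        show (v (e p).1 (e p).2 : Fin n → F) = _
        rw [show (e p).2 = a from congrArg Prod.snd ha]
      have hbr : b r = v (fn p) c := by
        show (v (e r).1 (e r).2 : Fin n → F) = _
        rw [show (e r).2 = c from congrArg Prod.snd hc, show (e r).1 = fn p from (congrArg Prod.fst hc :)]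
      rw [hbp, hbr, hv]
      refine if_congr ⟨fun h' : a = c => e.injective (ha.trans (h' ▸ hc.symm)), fun h' => ?_⟩ rfl rfl
      subst h'
      exact (Prod.mk.inj (ha.symm.trans hc)).2
    · rw [if_neg fun h' => h (congrArg fn h'), horth _ _ h _ (hbD p) _ (hbD r)]
  have hbi : LinearIndependent F b := by
    rw [Fintype.linearIndependent_iff]
    intro g hg i
    have h := congrArg (f.B (b i)) hg
    rw [map_sum, map_zero] at h
    simpa [map_smul, hbb] using h
  have hPu : IsUnit (Matrix.of fun p r => b r p) := Matrix.linearIndependent_cols_iff_isUnit.mp hbi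
  set P : GL (Fin n) F := hPu.unit
  have hP : ∀ y, P.val *ᵥ y = ∑ r, y r • b r := fun y => by
    funext p
    simp [P, Matrix.mulVec, dotProduct, Finset.sum_apply, mul_comm]
  have hPp : f.Preserves P := fun x y => by
    rw [hP, hP, hs.form x y]
    simp [map_sum, LinearMap.sum_apply, LinearMap.map_smulₛₗ, map_smul, hbb, mul_comm]
  have hsupp : ∀ i, ∀ x ∈ D i, Supp fn i ((P⁻¹).val *ᵥ x) := fun i x hx p hp => by
    have h := hPp (Pi.single p 1) ((P⁻¹).val *ᵥ x)
    rw [val_mulVec_inv, B_single_left hs, map_one, one_mul] at h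
    rw [← h, hP]
    simp [Pi.single_apply, horth _ _ hp _ (hbD p) _ hx]
  have hmem : ∀ i y, Supp fn i y → P.val *ᵥ y ∈ D i := fun i y hy => by
    rw [hP]
    refine Submodule.sum_mem _ fun r _ => ?_
    by_cases hr : fn r = i
    · exact (D i).smul_mem _ (hr ▸ hbD r)
    · rw [hy r hr, zero_smul]; exact (D i).zero_mem
  have hstab : ∀ g : GL (Fin n) F, Blk fn g → P * g * P⁻¹ ∈ Cfsg.Geo.decompositionStabilizer D := by
    rintro g ⟨σ, hσ⟩
    have hinj : Function.Injective (Matrix.toLin' (P * g * P⁻¹).val) := fun x y h => by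
      simp only [Matrix.toLin'_apply] at h
      exact val_mulVec_injective _ h
    refine ⟨σ, fun i => Submodule.eq_of_le_of_finrank_eq ?_ (by
      rw [← (Submodule.equivMapOfInjective _ hinj _).finrank_eq, hD.decomp.finrank_eq, hD.decomp.finrank_eq])⟩
    rintro _ ⟨x, hx, rfl⟩
    rw [Matrix.toLin'_apply, Units.val_mul, Units.val_mul, ← Matrix.mulVec_mulVec, ← Matrix.mulVec_mulVec]
    refine hmem _ _ fun p hp => ?_
    rw [Matrix.mulVec, dotProduct]
    refine Finset.sum_eq_zero fun r _ => ?_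
    show g.val p r * _ = 0
    by_cases hr : fn r = i
    · rw [show g.val p r = 0 from not_not.mp fun h => hp (by rw [hσ p r h, hr]), zero_mul]
    · rw [hsupp i x hx r hr, mul_zero]
  have hdetP : ∀ g : GL (Fin n) F, (P * g * P⁻¹).val.det = g.val.det := fun g => by
    rw [Units.val_mul, Units.val_mul, Matrix.det_units_conj]
  have hconj : ∀ g : GL (Fin n) F, f.Preserves g → g.val.det = 1 →
      P * g * P⁻¹ ∈ Cfsg.GU n F q ⊓ Cfsg.Geo.specialLinear (Fin n) F := fun g hg hd =>
    mem_suGL hF ((hPp.mul hg).mul hPp.inv) (mem_sl_of_det (by rw [hdetP, hd]))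
  -- properness
  have hproper : ∃ g ∈ Cfsg.GU n F q ⊓ Cfsg.Geo.specialLinear (Fin n) F,
      g ∉ Cfsg.Geo.decompositionStabilizer D := by
    obtain ⟨ε, hε⟩ := Cfsg.Agent.Lib.Geometry.exists_mul_conj_eq f.σ_ne f.invol (s := (-1 : F)) (by simp)
    have hε0 : ε ≠ 0 := fun h => by simp [h] at hε
    obtain ⟨c, hc0, hc⟩ := f.exists_trace_zero
    have hnot : ∀ (w : Fin n → F) (hw : f.Iso w), (∃ r r', fn r' = fn r ∧ ∃ p p', fn p ≠ fn p' ∧
        (Pi.single r (1 : F) + (c * f.σ (w r)) • w : Fin n → F) p ≠ 0 ∧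
        (Pi.single r' (1 : F) + (c * f.σ (w r')) • w : Fin n → F) p' ≠ 0) →
        P * f.trans w hw c * P⁻¹ ∉ Cfsg.Geo.decompositionStabilizer D := by
      rintro w hw ⟨r, r', hrr, p, p', hpp, hp, hp'⟩ ⟨σ, hσ⟩
      have hkey : ∀ r p, (Pi.single r (1 : F) + (c * f.σ (w r)) • w : Fin n → F) p ≠ 0 → fn p = σ (fn r) := by
        intro r p hp
        have h1 : (P * f.trans w hw c * P⁻¹).val *ᵥ (P.val *ᵥ Pi.single r 1) ∈ D (σ (fn r)) :=
          hσ _ ▸ ⟨_, hmem _ _ (supp_single fn r 1), Matrix.toLin'_apply _ _⟩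
        have h2 := hsupp _ _ h1
        rw [Matrix.mulVec_mulVec, Matrix.mulVec_mulVec, ← Units.val_mul, ← Units.val_mul,
          show P⁻¹ * (P * f.trans w hw c * P⁻¹) * P = f.trans w hw c by group, f.trans_mulVec, B_single_right hs,
          mul_one] at h2
        exact not_not.mp fun h => hp (h2 p h)
      exact hpp ((hkey r p hp).trans (by rw [← hrr]; exact (hkey r' p' hp').symm))
    suffices ∃ (w : Fin n → F) (_ : f.Iso w), ∃ r r', fn r' = fn r ∧ ∃ p p', fn p ≠ fn p' ∧
        (Pi.single r (1 : F) + (c * f.σ (w r)) • w : Fin n → F) p ≠ 0 ∧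
        (Pi.single r' (1 : F) + (c * f.σ (w r')) • w : Fin n → F) p' ≠ 0 by
      obtain ⟨w, hw, h⟩ := this
      exact ⟨_, hconj _ (f.trans_preserves w hw hc) (det_of_mem_sl (tv_mem_specialLinear _ _ _)), hnot w hw h⟩
    by_cases hk1 : k = 1
    · have hfn : Function.Injective fn := fun p r h => by
        refine e.injective (Prod.ext h (Fin.ext ?_))
        have h1 := (e p).2.isLt
        have h2 := (e r).2.isLt
        omega
      let j : Fin 4 → Fin n := fun i => ⟨i.val, by have := i.isLt; omega⟩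
      have hj : ∀ a b, a ≠ b → j a ≠ j b := fun a b h h' => h (Fin.ext (congrArg (fun z : Fin n => z.val) h' :))
      have h01 := hj 0 1 (by decide)
      have h02 := hj 0 2 (by decide)
      have h03 := hj 0 3 (by decide)
      have h12 := hj 1 2 (by decide)
      have h13 := hj 1 3 (by decide)
      have h23 := hj 2 3 (by decide)
      refine ⟨Pi.single (j 0) 1 + Pi.single (j 1) ε + (Pi.single (j 2) 1 + Pi.single (j 3) ε), ?_, j 0, j 0, rfl,
        j 1, j 2, fun h => h12 (hfn h), ?_, ?_⟩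
      · show f.B _ _ = 0
        simp [B_single_left hs, h01, h02, h03, h12, h13, h23, h01.symm, h02.symm, h03.symm, h12.symm, h13.symm,
          h23.symm, hε]
      · simp [h01, h02, h03, h12, h13, h01.symm, h12.symm, hc0, hε0]
      · simp [h01, h02, h03, h12, h23, h02.symm, h12.symm, hc0]
    · let r₀ : Fin n := e.symm (⟨0, by omega⟩, ⟨0, hk0⟩)
      let r₁ : Fin n := e.symm (⟨0, by omega⟩, ⟨1, by omega⟩)
      let p₀ : Fin n := e.symm (⟨1, by omega⟩, ⟨0, hk0⟩)
      have h1 : r₀ ≠ r₁ := by simp [r₀, r₁]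
      have h2 : r₀ ≠ p₀ := by simp [r₀, p₀]
      have h3 : r₁ ≠ p₀ := by simp [r₁, p₀]
      refine ⟨Pi.single r₀ 1 + Pi.single p₀ ε, ?_, r₀, r₁, by simp [fn, r₀, r₁], p₀, r₁, by simp [fn, p₀, r₁], ?_, ?_⟩
      · show f.B _ _ = 0
        simp [B_single_left hs, h2, h2.symm, hε]
      · simp [h2, h2.symm, hc0, hε0]
      · simp [h1.symm, h3]
  refine ⟨lt_of_le_of_ne inf_le_right fun h => ?_, fun M hM hMS => ?_⟩
  · obtain ⟨g, hg, hg'⟩ := hproper
    exact hg' (h ▸ hg).1
  by_cases hMD : M ≤ Cfsg.Geo.decompositionStabilizer D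
  · exact Or.inl (le_antisymm (le_inf hMD hMS) hM)
  right
  obtain ⟨g, hgM, hgD⟩ := SetLike.not_le_iff_exists.mp hMD
  let K := M.comap (MulAut.conj P).toMonoidHom
  have hKmem : ∀ x, x ∈ K ↔ P * x * P⁻¹ ∈ M := fun x => Iff.rfl
  have hK : ∀ x : GL (Fin n) F, f.Preserves x → x.val.det = 1 → Blk fn x → x ∈ K := fun x hx hxd hb =>
    (hKmem x).mpr (hM ⟨hstab x hb, hconj x hx hxd⟩)
  have hKp : ∀ x ∈ K, f.Preserves x := fun x hx => by
    have h := (hPp.inv.mul ((mem_GU_iff' hF).mp (hMS ((hKmem x).mp hx)).1)).mul hPp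
    rwa [show P⁻¹ * (P * x * P⁻¹) * P = x by group] at h
  have hgK : P⁻¹ * g * P ∈ K := by
    rw [hKmem, show P * (P⁻¹ * g * P) * P⁻¹ = g by group]
    exact hgM
  have hgb : ¬ Blk fn (P⁻¹ * g * P) := fun h => hgD (by
    simpa [show P * (P⁻¹ * g * P) * P⁻¹ = g by group] using hstab _ h)
  suffices hall : ∀ x, f.Iso x → f.Ctr K x by
    have hle := suGL_le hF (by omega) hall
    refine le_antisymm hMS fun x hx => ?_
    have hxp : f.Preserves x := (mem_GU_iff' hF).mp hx.1
    have h := (hKmem _).mp (hle (mem_suGL hF ((hPp.inv.mul hxp).mul hPp) (mem_sl_of_det (by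
      rw [Units.val_mul, Units.val_mul, Matrix.det_units_conj', det_of_mem_sl hx.2])) :
        P⁻¹ * x * P ∈ Cfsg.GU n F q ⊓ Cfsg.Geo.specialLinear (Fin n) F))
    rwa [show P * (P⁻¹ * x * P) * P⁻¹ = x by group] at h
  have hq2 := two_le hs
  by_cases hk1 : k = 1
  · subst hk1
    have hmono : ∀ x : GL (Fin n) F, Mono x → Blk fn x := fun x hx => by
      obtain ⟨σ, hσ, -⟩ := hx.exists_perm
      let ψ : Fin n ≃ Fin t := e.trans (Equiv.prodUnique _ _)
      refine ⟨ψ.symm.trans (σ.trans ψ), fun p r hpr => ?_⟩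
      have hψ : ∀ r, fn r = ψ r := fun r => by simp [fn, ψ]
      simp [hψ, hσ p r hpr]
    have hKm : ∀ x : GL (Fin n) F, f.Preserves x → x.val.det = 1 → Mono x → x ∈ K :=
      fun x hx hxd hm => hK x hx hxd (hmono x hm)
    have hgm : ¬ Mono (P⁻¹ * g * P) := fun h => hgb (hmono _ h)
    by_cases hq3 : 3 ≤ q
    · exact ctr_all hs hq3 fun p r hpr A B h => ctr_pair hs hn hKm hKp hq3 hgK hgm p r hpr A B h
    · obtain rfl : q = 2 := by omega
      exact ctr_all_two hs hn hKm hKp hgK hgm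
  · refine ctr_all_block hs hn e (fun p => rfl) (by omega) hK hKp ?_ hgK hgb
    by_contra h
    exact hex ⟨by omega, by omega⟩

end Cfsg.Agent.S5655
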