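import Cfsg.Statements.S5656
import Cfsg.Agent.Lib.MaxSub.UnitaryStd
import Cfsg.Agent.Lib.MaxSub.DecompAux

set_option autoImplicit false
open Cfsg

namespace Cfsg.Agent.S5656

open Cfsg.Agent.Lib.MaxSub Matrix in
open scoped Matrix in
/-- Let F be the field with 4 elements (q = 2) and n ≥ 13. Let D be a decomposition of F^n into t pairwise orthogonal 2-dimensional subspaces, each non-degenerate for the standard unitary form Σ u_i v_i². Then the elements of SU_n(2) permuting the members of D form a subgroup that is not maximal: some subgroup lies strictly between it and SU_n(2). -/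
theorem result {F : Type*} [Field F] [Fintype F] (n : ℕ) (hF : Fintype.card F = 4) (hn : 13 ≤ n) {t : ℕ} (D : Fin t → Submodule F (Fin n → F)) (hD : Cfsg.Geo.IsNondegenerateMDecomposition (Cfsg.hermForm n F 2) 2 D) : ∃ K : Subgroup (Matrix.GeneralLinearGroup (Fin n) F), Cfsg.Geo.decompositionStabilizer D ⊓ (Cfsg.GU n F 2 ⊓ Cfsg.Geo.specialLinear (Fin n) F) < K ∧ K < (Cfsg.GU n F 2 ⊓ Cfsg.Geo.specialLinear (Fin n) F) := by
  classical
  have hFq : Fintype.card F = 2 ^ 2 := hF
  set f := stdHerm n hFq with hf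
  obtain ⟨hdec, hnd, horth⟩ := hD
  have ht : n = t * 2 := by simpa using DecompAux.card_eq_mul hdec
  have hB : ∀ u v, f.B u v = Cfsg.hermForm n F 2 v u := fun u v => stdHerm_apply hFq u v
  have horth' : ∀ i j, i ≠ j → ∀ x ∈ D i, ∀ y ∈ D j, f.B x y = 0 := fun i j hij x hx y hy => by
    rw [hB]; exact horth j i hij.symm y hy x hx
  have hsq : ∀ c : F, f.σ c = c → c ≠ 0 → c = 1 := by
    intro c hc h0
    have h1 : f.σ c = c ^ 2 := rfl
    rw [hc, pow_two] at h1
    exact mul_left_cancel₀ h0 (by rw [mul_one]; exact h1.symm)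
  have h2F : (2 : F) = 0 := by
    have := FiniteField.cast_card_eq_zero F
    rw [hF] at this
    push_cast at this
    exact pow_eq_zero_iff two_ne_zero |>.mp (show (2 : F) ^ 2 = 0 by linear_combination this)
  have hneg : ∀ v : Fin n → F, v + v = 0 := fun v => funext fun i => by
    show v i + v i = 0
    linear_combination (v i) * h2F
  have hone : ∀ a, f.B a a ≠ 0 → f.B a a = 1 := fun a h => hsq _ (f.herm a a) h
  -- orthonormal bases of the planes
  have hbase : ∀ i, ∃ a ∈ D i, ∃ b ∈ D i, f.B a a = 1 ∧ f.B b b = 1 ∧ f.B a b = 0 ∧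
      ∀ x ∈ D i, ∃ s u : F, x = s • a + u • b := by
    intro i
    obtain ⟨a, ha, haa⟩ : ∃ a ∈ D i, f.B a a ≠ 0 := by
      by_contra hc
      push Not at hc
      obtain ⟨x, hx, hx0⟩ := (Submodule.ne_bot_iff (D i)).mp (fun h => by
        have h1 := hdec.finrank_eq i
        rw [h, finrank_bot] at h1
        omega)
      obtain ⟨z, hz, hxz⟩ := (hnd i x hx hx0).1
      rw [← hB] at hxz
      obtain ⟨c, hc'⟩ := f.exists_moved
      have h1 := hc _ ((D i).add_mem hx hz)
      have h2 := hc _ ((D i).add_mem hx ((D i).smul_mem c hz))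
      simp only [map_add, LinearMap.add_apply, LinearMap.map_smulₛₗ, LinearMap.smul_apply, map_smul, smul_eq_mul,
        hc x hx, hc z hz, mul_zero, add_zero, zero_add] at h1 h2
      exact hc' (mul_right_cancel₀ hxz (by linear_combination f.σ c * h1 - h2 : f.σ c * f.B x z = c * f.B x z) )
    have ha1 := hone a haa
    obtain ⟨r, hr, hra⟩ : ∃ r ∈ D i, r ∉ F ∙ a := by
      by_contra hc
      push Not at hc
      have h1 := Submodule.finrank_mono (show D i ≤ F ∙ a from hc)
      rw [hdec.finrank_eq, finrank_span_singleton (fun h : a = 0 => haa (by simp [h]))] at h1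
      omega
    set b := r - f.B a r • a with hb
    have hbD : b ∈ D i := (D i).sub_mem hr ((D i).smul_mem _ ha)
    have hab : f.B a b = 0 := by rw [hb, map_sub, map_smul, ha1, smul_eq_mul, mul_one, sub_self]
    have hb0 : b ≠ 0 := fun h => hra (Submodule.mem_span_singleton.mpr ⟨_, (sub_eq_zero.mp h).symm⟩)
    have hli : LinearIndependent F ![a, b] := by
      rw [LinearIndependent.pair_iff]
      intro s u hsu
      have h1 := congrArg (f.B a) hsu
      rw [map_add, map_smul, map_smul, ha1, hab, map_zero, smul_zero, add_zero, smul_eq_mul, mul_one] at h1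
      rw [h1, zero_smul, zero_add] at hsu
      exact ⟨h1, (smul_eq_zero.mp hsu).resolve_right hb0⟩
    have hspan : Submodule.span F (Set.range ![a, b]) = D i := by
      refine Submodule.eq_of_le_of_finrank_eq (Submodule.span_le.mpr ?_)
        (by rw [finrank_span_eq_card hli, hdec.finrank_eq, Fintype.card_fin])
      rintro _ ⟨j, rfl⟩
      fin_cases j
      exacts [ha, hbD]
    have hall : ∀ x ∈ D i, ∃ s u : F, x = s • a + u • b := by
      intro x hx
      rw [← hspan, Submodule.mem_span_range_iff_exists_fun] at hx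
      obtain ⟨c, rfl⟩ := hx
      exact ⟨c 0, c 1, by simp [Fin.sum_univ_two]⟩
    refine ⟨a, ha, b, hbD, ha1, hone b fun hbb => ?_, hab, hall⟩
    obtain ⟨z, hz, hne⟩ := (hnd i b hbD hb0).1
    rw [← hB] at hne
    obtain ⟨s, u, rfl⟩ := hall z hz
    rw [map_add, map_smul, map_smul, f.eq_zero_comm hab, hbb, smul_zero, smul_zero, add_zero] at hne
    exact hne rfl
  choose a ha b hb haa hbb hab hdecD using hbase
  let A : Set (Fin n → F) := {x | ∃ i, x ∈ D i ∧ f.B x x ≠ 0}
  set S := Cfsg.GU n F 2 ⊓ Cfsg.Geo.specialLinear (Fin n) F with hS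
  let K := Cfsg.stabilizing (Cfsg.glToMat (Fin n) F) A ⊓ S
  have hfwd : ∀ g ∈ Cfsg.Geo.decompositionStabilizer D ⊓ S, ∀ x ∈ A, (g : Matrix (Fin n) (Fin n) F) *ᵥ x ∈ A := by
    rintro g ⟨⟨σ, hσ⟩, hg⟩ x ⟨i, hx, hxx⟩
    refine ⟨σ i, hσ i ▸ ⟨x, hx, Matrix.toLin'_apply _ _⟩, ?_⟩
    rwa [(mem_GU_iff' hFq).mp hg.1 x x]
  have hle : Cfsg.Geo.decompositionStabilizer D ⊓ S ≤ K := by
    intro g hg
    refine ⟨fun x => ⟨hfwd g hg x, fun h => ?_⟩, hg.2⟩
    have := hfwd g⁻¹ (inv_mem hg) _ h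
    change (g⁻¹ : GL (Fin n) F).val *ᵥ (g.val *ᵥ x) ∈ A at this
    rwa [Matrix.mulVec_mulVec, ← Units.val_mul, inv_mul_cancel, Units.val_one, Matrix.one_mulVec] at this
  set i₀ : Fin t := ⟨0, by omega⟩
  set i₁ : Fin t := ⟨1, by omega⟩
  set i₂ : Fin t := ⟨2, by omega⟩
  set i₃ : Fin t := ⟨3, by omega⟩
  have h01 : i₀ ≠ i₁ := by simp [i₀, i₁, Fin.ext_iff]
  have h02 : i₀ ≠ i₂ := by simp [i₀, i₂, Fin.ext_iff]
  have h03 : i₀ ≠ i₃ := by simp [i₀, i₃, Fin.ext_iff]
  have h12 : i₁ ≠ i₂ := by simp [i₁, i₂, Fin.ext_iff]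
  have h13 : i₁ ≠ i₃ := by simp [i₁, i₃, Fin.ext_iff]
  have h23 : i₂ ≠ i₃ := by simp [i₂, i₃, Fin.ext_iff]
  have htr : (1 : F) + f.σ 1 = 0 := by rw [map_one]; linear_combination h2F
  have hperp : ∀ i j, i ≠ j → f.B (a i) (a j) = 0 := fun i j h => horth' i j h _ (ha i) _ (ha j)
  refine ⟨K, lt_of_le_of_ne hle ?_, lt_of_le_of_ne inf_le_right ?_⟩
  · intro h
    set w := a i₀ + a i₁ with hwdef
    have hw : f.Iso w := by
      show f.B w w = 0
      simp only [hwdef, map_add, LinearMap.add_apply, haa, hperp _ _ h01, hperp _ _ h01.symm]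
      linear_combination h2F
    set T := f.trans w hw 1 with hT
    have hTx : ∀ x, (T : Matrix (Fin n) (Fin n) F) *ᵥ x = x + f.B w x • w := fun x => by
      rw [hT, HermF.trans_mulVec, one_mul]
    have hBw : ∀ x, f.B w x = f.B (a i₀) x + f.B (a i₁) x := fun x => by rw [hwdef, map_add, LinearMap.add_apply]
    have hinv : ∀ x, (T : Matrix (Fin n) (Fin n) F) *ᵥ ((T : Matrix (Fin n) (Fin n) F) *ᵥ x) = x := fun x => by
      rw [hTx, hTx, map_add (f.B w), map_smul, show f.B w w = 0 from hw, smul_zero, add_zero, add_assoc, hneg, add_zero]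
    have hTA : ∀ x ∈ A, (T : Matrix (Fin n) (Fin n) F) *ᵥ x ∈ A := by
      rintro x ⟨i, hx, hxx⟩
      have hTT : f.B (T.val *ᵥ x) (T.val *ᵥ x) ≠ 0 := by rw [f.trans_preserves w hw htr x x]; exact hxx
      suffices ∃ j, T.val *ᵥ x ∈ D j from ⟨_, this.choose_spec, hTT⟩
      obtain ⟨s, u, rfl⟩ := hdecD i x hx
      rw [hTx, hBw]
      have hcase : s = 0 ∨ u = 0 := by
        by_contra hc
        push Not at hc
        refine hxx ?_
        simp only [map_add, LinearMap.map_smulₛₗ, LinearMap.add_apply, LinearMap.smul_apply, map_smul, smul_eq_mul,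
          haa, hbb, hab, f.eq_zero_comm (hab i), mul_zero, mul_one, add_zero, zero_add]
        have h1 : ∀ c : F, c ≠ 0 → c * f.σ c = 1 := fun c hc' => by
          refine hsq _ (by rw [map_mul, f.invol, mul_comm]) (mul_ne_zero hc' ?_)
          exact fun h => hc' (f.σ_eq_zero.mp h)
        linear_combination h1 s hc.1 + h1 u hc.2 + h2F
      have hz : ∀ l, l ≠ i → ∀ (p r : F), f.B (a l) (p • a i + r • b i) = 0 := fun l hl p r =>
        horth' l i hl _ (ha l) _ ((D i).add_mem ((D i).smul_mem _ (ha i)) ((D i).smul_mem _ (hb i)))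
      by_cases hi0 : i = i₀
      · rw [hz i₁ (hi0 ▸ h01.symm), add_zero]
        subst hi0
        rcases hcase with rfl | rfl
        · refine ⟨i₀, ?_⟩
          simpa [hab] using (D i₀).smul_mem u (hb i₀)
        · refine ⟨i₁, ?_⟩
          simp only [zero_smul, add_zero, map_smul, haa, smul_eq_mul, mul_one]
          rw [hwdef, smul_add, ← add_assoc, hneg, zero_add]
          exact (D i₁).smul_mem _ (ha i₁)
      by_cases hi1 : i = i₁
      · rw [hz i₀ (hi1 ▸ h01), zero_add]
        subst hi1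
        rcases hcase with rfl | rfl
        · refine ⟨i₁, ?_⟩
          simpa [hab] using (D i₁).smul_mem u (hb i₁)
        · refine ⟨i₀, ?_⟩
          simp only [zero_smul, add_zero, map_smul, haa, smul_eq_mul, mul_one]
          rw [hwdef, smul_add, add_comm (s • a i₀), ← add_assoc, hneg, zero_add]
          exact (D i₀).smul_mem _ (ha i₀)
      refine ⟨i, ?_⟩
      rw [hz i₀ (Ne.symm hi0), hz i₁ (Ne.symm hi1), add_zero, zero_smul, add_zero]
      exact hx
    have hmem : T ∈ K := ⟨fun x => ⟨hTA x, fun hx => hinv x ▸ hTA _ hx⟩,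
      mem_suGL hFq (f.trans_preserves w hw htr) (tv_mem_specialLinear _ _ _)⟩
    rw [← h] at hmem
    obtain ⟨σ, hσ⟩ := hmem.1
    have h1 : T.val *ᵥ a i₀ ∈ D (σ i₀) := hσ i₀ ▸ ⟨_, ha i₀, Matrix.toLin'_apply _ _⟩
    have h2 : T.val *ᵥ b i₀ ∈ D (σ i₀) := hσ i₀ ▸ ⟨_, hb i₀, Matrix.toLin'_apply _ _⟩
    rw [hTx, hBw, haa, hperp _ _ h01.symm, add_zero, one_smul, hwdef, ← add_assoc, hneg, zero_add] at h1
    rw [hTx, hBw, hab, horth' i₁ i₀ h01.symm _ (ha i₁) _ (hb i₀), add_zero, zero_smul, add_zero] at h2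
    by_cases hσ' : σ i₀ = i₀
    · rw [hσ'] at h1
      have h3 := haa i₁
      rw [horth' i₁ i₀ h01.symm _ (ha i₁) _ h1] at h3
      exact zero_ne_one h3
    · have h3 := hbb i₀
      rw [horth' i₀ (σ i₀) (Ne.symm hσ') _ (hb i₀) _ h2] at h3
      exact zero_ne_one h3
  · intro h
    set w := a i₀ + a i₁ + a i₂ + a i₃ with hwdef
    have hw : f.Iso w := by
      show f.B w w = 0
      simp only [hwdef, map_add, LinearMap.add_apply, haa, hperp _ _ h01, hperp _ _ h01.symm, hperp _ _ h02,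
        hperp _ _ h02.symm, hperp _ _ h03, hperp _ _ h03.symm, hperp _ _ h12, hperp _ _ h12.symm, hperp _ _ h13,
        hperp _ _ h13.symm, hperp _ _ h23, hperp _ _ h23.symm]
      linear_combination (2 : F) * h2F
    have hmem : f.trans w hw 1 ∈ S := mem_suGL hFq (f.trans_preserves w hw htr) (tv_mem_specialLinear _ _ _)
    rw [← h] at hmem
    have hBw : f.B w (a i₀) = 1 := by
      simp only [hwdef, map_add, LinearMap.add_apply, haa, hperp _ _ h01.symm, hperp _ _ h02.symm,
        hperp _ _ h03.symm, add_zero]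
    have hv := (hmem.1 (a i₀)).mp ⟨i₀, ha i₀, by rw [haa]; exact one_ne_zero⟩
    change (f.trans w hw 1).val *ᵥ a i₀ ∈ A at hv
    obtain ⟨j, hj, -⟩ := hv
    rw [HermF.trans_mulVec, hBw, one_mul, one_smul, hwdef] at hj
    obtain ⟨l, hl, hlj⟩ : ∃ l, (l = i₁ ∨ l = i₂) ∧ l ≠ j := by
      rcases eq_or_ne i₁ j with h' | h'
      · exact ⟨i₂, Or.inr rfl, fun h'' => h12 (h'.trans h''.symm)⟩
      · exact ⟨i₁, Or.inl rfl, h'⟩
    have h1 := horth' l j hlj _ (ha l) _ hj
    rcases hl with rfl | rfl <;>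
      simp [map_add, haa, hperp _ _ h01.symm, hperp _ _ h02.symm, hperp _ _ h12, hperp _ _ h12.symm, hperp _ _ h13,
        hperp _ _ h23] at h1

end Cfsg.Agent.S5656
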