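import Cfsg.Statements.S5657
import Cfsg.Agent.Lib.MaxSub.UnitaryStd
import Cfsg.Agent.Lib.MaxSub.SympSubfield

set_option autoImplicit false
open Cfsg

namespace Cfsg.Agent.S5657

set_option maxHeartbeats 800000
open Cfsg.Agent.Lib.MaxSub Matrix
open scoped MatrixGroups Matrix

section core

variable {ι : Type} [Fintype ι] [DecidableEq ι] {F : Type*} [Field F] {f : HermF ι F}
  (K : Subgroup (GL ι F))

theorem B_comm {f : HermF ι F} {u v : ι → F} (h : f.B u v = 0) : f.B v u = 0 := f.eq_zero_comm h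

/-- The short root element `x ↦ x + a B(u,x) v - σ(a) B(v,x) u`. -/
def sh (f : HermF ι F) (u v : ι → F) (h : f.B u v = 0) (a : F) : GL ι F :=
  tv v (a • f.psi u) (by rw [smul_dotProduct, f.psi_dot, h, smul_zero]) *
    tv u (-(f.σ a) • f.psi v) (by rw [smul_dotProduct, f.psi_dot, f.eq_zero_comm h, smul_zero])

theorem sh_sl (u v : ι → F) (h : f.B u v = 0) (a : F) : sh f u v h a ∈ Cfsg.Geo.specialLinear ι F :=
  mul_mem (tv_mem_specialLinear _ _ _) (tv_mem_specialLinear _ _ _)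

theorem sh_mulVec {u v : ι → F} (hu : f.Iso u) (h : f.B u v = 0) (a : F) (x : ι → F) :
    (sh f u v h a : Matrix ι ι F) *ᵥ x = x + (a * f.B u x) • v - (f.σ a * f.B v x) • u := by
  rw [sh, Units.val_mul, ← Matrix.mulVec_mulVec, tv_mulVec, tv_mulVec, smul_dotProduct, smul_dotProduct,
    f.psi_dot, f.psi_dot, map_add, map_smul, show f.B u u = 0 from hu, smul_zero, add_zero, smul_eq_mul, smul_eq_mul]
  module

theorem sh_preserves {u v : ι → F} (hu : f.Iso u) (hv : f.Iso v) (h : f.B u v = 0) (a : F) :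
    f.Preserves (sh f u v h a) := fun x y => by
  simp only [sh_mulVec hu h, map_add, map_sub, LinearMap.map_smulₛₗ, LinearMap.add_apply, LinearMap.sub_apply,
    LinearMap.smul_apply, map_smul, smul_eq_mul, map_mul, f.invol, f.herm, h, f.eq_zero_comm h,
    show f.B u u = 0 from hu, show f.B v v = 0 from hv]
  ring

theorem conj_sh {g : GL ι F} (hg : f.Preserves g) {u v : ι → F} (hu : f.Iso u) (h : f.B u v = 0) (a : F) :
    g * sh f u v h a * g⁻¹ =
      sh f ((g : Matrix ι ι F) *ᵥ u) ((g : Matrix ι ι F) *ᵥ v) (by rw [hg]; exact h) a :=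
  Units.ext (eq_of_mulVec_eq fun x => by
    rw [Units.val_mul, Units.val_mul, ← Matrix.mulVec_mulVec, ← Matrix.mulVec_mulVec, sh_mulVec hu h,
      sh_mulVec ((f.iso_mulVec hg).mpr hu), Matrix.mulVec_sub, Matrix.mulVec_add, Matrix.mulVec_smul,
      Matrix.mulVec_smul, Matrix.mulVec_mulVec x, ← Units.val_mul, mul_inv_cancel, Units.val_one, Matrix.one_mulVec,
      ← hg u, ← hg v, Matrix.mulVec_mulVec x, ← Units.val_mul, mul_inv_cancel, Units.val_one, Matrix.one_mulVec])

theorem sh_comm {u v : ι → F} (hu : f.Iso u) (hv : f.Iso v) (h : f.B u v = 0) (a : F) :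
    sh f u v h a = sh f v u (f.eq_zero_comm h) (-(f.σ a)) :=
  Units.ext (eq_of_mulVec_eq fun x => by
    rw [sh_mulVec hu h, sh_mulVec hv (f.eq_zero_comm h), map_neg, f.invol]; module)

theorem sh_mul_sh {u u' v : ι → F} (hu : f.Iso u) (hu' : f.Iso u') (hv : f.Iso v) (h : f.B u v = 0)
    (h' : f.B u' v = 0) (hd : f.B (u - u') v = 0) (hdi : f.Iso (u - u')) (a : F) :
    sh f u v h a * sh f u' v h' (-a) = sh f (u - u') v hd a * f.trans v hv (f.σ a * a * f.B u u') :=
  Units.ext (eq_of_mulVec_eq fun x => by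
    rw [Units.val_mul, Units.val_mul, ← Matrix.mulVec_mulVec, ← Matrix.mulVec_mulVec, sh_mulVec hu h,
      sh_mulVec hu' h', sh_mulVec hdi hd, f.trans_mulVec]
    simp only [map_add, map_sub, map_neg, map_smul, LinearMap.sub_apply, smul_eq_mul, h, h', f.eq_zero_comm h,
      f.eq_zero_comm h', show f.B v v = 0 from hv, mul_zero, sub_zero, add_zero]
    module)

theorem sh_mul_sh_pure {u u' v : ι → F} (hu : f.Iso u) (hu' : f.Iso u') (hv : f.Iso v) (h : f.B u v = 0)
    (h' : f.B u' v = 0) (hd : f.B (u - u') v = 0) (huu : f.B u u' = 0) (a : F) :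
    sh f u v h a * sh f u' v h' (-a) = sh f (u - u') v hd a := by
  have hdi : f.Iso (u - u') := by
    show f.B _ _ = 0
    simp only [map_sub, LinearMap.sub_apply, show f.B u u = 0 from hu, show f.B u' u' = 0 from hu', huu,
      f.eq_zero_comm huu, sub_zero]
  rw [sh_mul_sh hu hu' hv h h' hd hdi, huu, mul_zero,
    show f.trans v hv 0 = 1 from Units.ext (eq_of_mulVec_eq fun x => by simp [f.trans_mulVec]), mul_one]

theorem iso_add {x d : ι → F} (hx : f.Iso x) (hd : f.Iso d) (h : f.B x d = 0) : f.Iso (x + d) := by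
  show f.B _ _ = 0
  rw [map_add f.B, LinearMap.add_apply, map_add (f.B x), map_add (f.B d), show f.B x x = 0 from hx, h,
    f.eq_zero_comm h, show f.B d d = 0 from hd]
  simp

theorem B_add_self {x d : ι → F} (hx : f.Iso x) (h : f.B x d = 0) : f.B (x + d) x = 0 := by
  rw [map_add f.B, LinearMap.add_apply, show f.B x x = 0 from hx, f.eq_zero_comm h, add_zero]

/-- All short root elements on `u, v` lie in `K`. -/
def Sh (f : HermF ι F) (K : Subgroup (GL ι F)) (u v : ι → F) : Prop := ∃ h : f.B u v = 0, ∀ a, sh f u v h a ∈ K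

/-- Two complementary totally isotropic subspaces, and a group with their mixed short root elements. -/
structure Pair (f : HermF ι F) (K : Subgroup (GL ι F)) where
  X : Submodule F (ι → F)
  Y : Submodule F (ι → F)
  compl : IsCompl X Y
  isoX : ∀ u ∈ X, ∀ v ∈ X, f.B u v = 0
  isoY : ∀ u ∈ Y, ∀ v ∈ Y, f.B u v = 0
  dimX : 7 ≤ Module.finrank F X
  dimY : 7 ≤ Module.finrank F Y
  mixed : ∀ u ∈ X, ∀ v ∈ Y, ∀ h : f.B u v = 0, ∀ a, sh f u v h a ∈ K

variable {K} (E : Pair f K)

def Pair.swap : Pair f K where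
  X := E.Y
  Y := E.X
  compl := E.compl.symm
  isoX := E.isoY
  isoY := E.isoX
  dimX := E.dimY
  dimY := E.dimX
  mixed := fun u hu v hv h a => by
    rw [sh_comm (E.isoY u hu u hu) (E.isoX v hv v hv) h]
    exact E.mixed v hv u hu _ _

theorem Pair.split (x : ι → F) : ∃ a ∈ E.X, ∃ b ∈ E.Y, a + b = x := by
  have h : x ∈ E.X ⊔ E.Y := by rw [E.compl.sup_eq_top]; trivial
  exact Submodule.mem_sup.mp h

theorem Pair.dual (W : Submodule F (ι → F)) (hW : W ≤ E.X) {x : ι → F} (hx : x ∈ E.X) (hxW : x ∉ W) :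
    ∃ v ∈ E.Y, (∀ w ∈ W, f.B v w = 0) ∧ f.B v x = 1 := by
  obtain ⟨z, hz, hxz⟩ := f.exists_perp_eq_one W hxW
  obtain ⟨a, ha, b, hb, rfl⟩ := E.split z
  refine ⟨b, hb, fun w hw => ?_, ?_⟩
  · have := hz w hw
    rwa [map_add, LinearMap.add_apply, E.isoX a ha w (hW hw), zero_add] at this
  · rwa [map_add, LinearMap.add_apply, E.isoX a ha x hx, zero_add] at hxz

/-- The element moving `x` to `x + d` and fixing `W`. -/
theorem Pair.mover {x d : ι → F} (hd : d ∈ E.X) (hx : x ∈ E.X) (W : Submodule F (ι → F)) (hW : W ≤ E.X)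
    (hxW : x ∉ W ⊔ F ∙ d) :
    ∃ v ∈ E.Y, ∃ hdv : f.B d v = 0, f.Preserves (sh f d v hdv (-1)) ∧ sh f d v hdv (-1) ∈ K ∧
      (∀ z ∈ E.X, (sh f d v hdv (-1) : Matrix ι ι F) *ᵥ z = z + f.B v z • d) ∧
      f.B v x = 1 ∧ ∀ w ∈ W, f.B v w = 0 := by
  obtain ⟨v, hv, hWv, hxv⟩ := E.dual (W ⊔ F ∙ d) (sup_le hW ((Submodule.span_singleton_le_iff_mem _ _).mpr hd)) hx hxW
  have hvd : f.B v d = 0 := hWv d (Submodule.mem_sup_right (Submodule.mem_span_singleton_self d))
  refine ⟨v, hv, f.eq_zero_comm hvd, sh_preserves (E.isoX d hd d hd) (E.isoY v hv v hv) _ _,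
    E.mixed d hd v hv _ _, fun z hz => ?_, hxv, fun w hw => hWv w (Submodule.mem_sup_left hw)⟩
  rw [sh_mulVec (E.isoX d hd d hd), E.isoX d hd z hz, mul_zero, zero_smul, add_zero, map_neg, map_one, neg_one_mul,
    neg_smul, sub_neg_eq_add]

theorem exists_outside (W : Submodule F (ι → F)) {X : Submodule F (ι → F)}
    (h : Module.finrank F W < Module.finrank F X) : ∃ r ∈ X, r ∉ W := by
  by_contra hc
  push Not at hc
  exact absurd (Submodule.finrank_mono hc) (not_le.mpr h)

theorem finrank_span2 (a b : ι → F) : Module.finrank F (Submodule.span F ({a, b} : Set (ι → F))) ≤ 2 := by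
  classical
  have := finrank_span_finset_le_card (R := F) ({a, b} : Finset (ι → F))
  rw [Finset.coe_pair] at this
  exact this.trans Finset.card_le_two

theorem notMem_sup {x y d : ι → F} (hxy : x ∉ F ∙ y) (hd : d ∉ Submodule.span F ({x, y} : Set (ι → F))) :
    x ∉ F ∙ y ⊔ F ∙ d := fun hm => by
  obtain ⟨a, ha, b, hb, hab⟩ := Submodule.mem_sup.mp hm
  obtain ⟨s, rfl⟩ := Submodule.mem_span_singleton.mp ha
  obtain ⟨t, rfl⟩ := Submodule.mem_span_singleton.mp hb
  rcases eq_or_ne t 0 with rfl | ht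
  · exact hxy (Submodule.mem_span_singleton.mpr ⟨s, by rw [← hab, zero_smul, add_zero]⟩)
  · exact hd (Submodule.mem_span_pair.mpr ⟨t⁻¹, -(t⁻¹ * s), by
      rw [← hab, smul_add, smul_smul, smul_smul, inv_mul_cancel₀ ht, one_smul, neg_smul]; abel⟩)

/-- Moving the first vector of a pair gives the pair of the difference. -/
theorem Pair.sh_shift {x d y : ι → F} (hx : x ∈ E.X) (hy : y ∈ E.X) (hd : d ∈ E.X) (hxy : x ∉ F ∙ y)
    (hdW : d ∉ Submodule.span F ({x, y} : Set (ι → F))) (h : ∀ h a, sh f x y h a ∈ K) :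
    ∀ h a, sh f d y h a ∈ K := by
  obtain ⟨v, hv, hdv, hkp, hkK, hk, hxv, hWv⟩ := E.mover hd hx (F ∙ y)
    ((Submodule.span_singleton_le_iff_mem _ _).mpr hy) (notMem_sup hxy hdW)
  intro _ a
  have hc := RatSymp.conj_mem hkK (h (E.isoX x hx y hy) a)
  rw [conj_sh hkp (E.isoX x hx x hx)] at hc
  simp only [hk x hx, hk y hy, hxv, hWv y (Submodule.mem_span_singleton_self y), one_smul, zero_smul, add_zero] at hc
  have hm := K.mul_mem hc (h (E.isoX x hx y hy) (-a))
  rw [sh_mul_sh_pure (E.isoX _ (E.X.add_mem hx hd) _ (E.X.add_mem hx hd)) (E.isoX x hx x hx) (E.isoX y hy y hy)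
    (hd := by rw [add_sub_cancel_left]; exact E.isoX d hd y hy) (huu := E.isoX _ (E.X.add_mem hx hd) x hx)] at hm
  simp only [add_sub_cancel_left] at hm
  exact hm

/-- One independent pair in the first space gives the first space as centres. -/
theorem Pair.centre_of_sh {x y : ι → F} (hx : x ∈ E.X) (hy : y ∈ E.X) (hxy : x ∉ F ∙ y) (hy0 : y ≠ 0)
    (h : ∀ h a, sh f x y h a ∈ K) : ∀ w ∈ E.X, f.Ctr K w := by
  classical
  have spread : ∀ x y, x ∈ E.X → y ∈ E.X → x ∉ F ∙ y → (∀ h a, sh f x y h a ∈ K) →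
      ∀ z ∈ E.X, ∀ h a, sh f z y h a ∈ K := by
    intro x y hx hy hxy h z hz
    by_cases hzW : z ∈ Submodule.span F ({x, y} : Set (ι → F))
    · obtain ⟨r, hr, hrW⟩ := exists_outside (Submodule.span F ({x, y} : Set (ι → F))) (X := E.X)
        (by have := finrank_span2 (F := F) x y; have := E.dimX; omega)
      intro _ a
      have hm := K.mul_mem
        (E.sh_shift hx hy (E.X.add_mem hz hr) hxy (fun hm => hrW ((Submodule.add_mem_iff_right _ hzW).mp hm)) h
          (E.isoX _ (E.X.add_mem hz hr) y hy) a)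
        (E.sh_shift hx hy hr hxy hrW h (E.isoX r hr y hy) (-a))
      rw [sh_mul_sh_pure (E.isoX _ (E.X.add_mem hz hr) _ (E.X.add_mem hz hr)) (E.isoX r hr r hr) (E.isoX y hy y hy)
        (hd := by rw [add_sub_cancel_right]; exact E.isoX z hz y hy) (huu := E.isoX _ (E.X.add_mem hz hr) r hr)] at hm
      simp only [add_sub_cancel_right] at hm
      exact hm
    · exact E.sh_shift hx hy hz hxy hzW h
  have hall := spread x y hx hy hxy h
  have hcen : ∀ w ∈ E.X, (∀ h a, sh f w w h a ∈ K) → f.Ctr K w := by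
    intro w hw hsh
    have hwi : f.Iso w := E.isoX w hw w hw
    refine ⟨hwi, fun c hc => ?_⟩
    obtain ⟨θ, hθ⟩ := f.exists_moved
    have hD : θ - f.σ θ ≠ 0 := sub_ne_zero.mpr (Ne.symm hθ)
    have := hsh (E.isoX w hw w hw) (c * θ / (θ - f.σ θ))
    rwa [show sh f w w (E.isoX w hw w hw) (c * θ / (θ - f.σ θ)) = f.trans w hwi c from
      Units.ext (eq_of_mulVec_eq fun z => by
        rw [sh_mulVec hwi, f.trans_mulVec, add_sub_assoc, ← sub_smul]
        congr 2
        rw [map_div₀, map_mul, map_sub, f.invol, show f.σ c = -c by linear_combination hc,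
          ← neg_sub θ (f.σ θ), div_neg]
        field_simp)] at this
  have hyC : f.Ctr K y := hcen y hy (hall y hy)
  intro w hw
  by_cases hwy : w ∈ F ∙ y
  · obtain ⟨s, rfl⟩ := Submodule.mem_span_singleton.mp hwy
    exact hyC.smul s
  obtain ⟨z, hz, hzW⟩ := exists_outside (Submodule.span F ({y, w} : Set (ι → F))) (X := E.X)
    (by have := finrank_span2 (F := F) y w; have := E.dimX; omega)
  have hd : w - y ∈ E.X := E.X.sub_mem hw hy
  have hyz : y ∉ F ∙ z := fun hm => by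
    obtain ⟨s, hs⟩ := Submodule.mem_span_singleton.mp hm
    rcases eq_or_ne s 0 with rfl | hs0
    · exact hy0 (by rw [← hs, zero_smul])
    · exact hzW (Submodule.mem_span_pair.mpr ⟨s⁻¹, 0, by
        rw [← hs, smul_smul, inv_mul_cancel₀ hs0, one_smul, zero_smul, add_zero]⟩)
  have hdW : w - y ∉ Submodule.span F ({y, z} : Set (ι → F)) := fun hm => by
    obtain ⟨s, t, hst⟩ := Submodule.mem_span_pair.mp hm
    rcases eq_or_ne t 0 with rfl | ht
    · refine hwy (Submodule.mem_span_singleton.mpr ⟨s + 1, ?_⟩)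
      rw [zero_smul, add_zero] at hst
      rw [add_smul, hst, one_smul, sub_add_cancel]
    · refine hzW (Submodule.mem_span_pair.mpr ⟨-(t⁻¹ * (s + 1)), t⁻¹, ?_⟩)
      have e : t • z = w - y - s • y := by rw [← hst]; abel
      have e2 : z = t⁻¹ • (w - y - s • y) := by rw [← e, smul_smul, inv_mul_cancel₀ ht, one_smul]
      rw [e2]; module
  obtain ⟨v, hv, hdv, hkp, hkK, hk, hyv, hWv⟩ := E.mover hd hy (F ∙ z)
    ((Submodule.span_singleton_le_iff_mem _ _).mpr hz) (notMem_sup hyz hdW)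
  have hzw : ∀ h a, sh f z w h a ∈ K := by
    intro _ a
    have hc := RatSymp.conj_mem hkK (hall z hz (E.isoX z hz y hy) a)
    rw [conj_sh hkp (E.isoX z hz z hz)] at hc
    simp only [hk z hz, hk y hy, hyv, hWv z (Submodule.mem_span_singleton_self z), one_smul, zero_smul, add_zero,
      add_sub_cancel] at hc
    exact hc
  exact hcen w hw (spread z w hz hw (fun hm => hzW (Submodule.span_mono (by simp) hm)) hzw w hw)

/-- A short root element whose first components are independent gives centres. -/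
theorem Pair.centre_of_image {a₀ a₁ b₀ b₁ : ι → F} (ha₀ : a₀ ∈ E.X) (ha₁ : a₁ ∈ E.Y)
    (hb₀ : b₀ ∈ E.X) (hb₁ : b₁ ∈ E.Y) (hab : a₀ ∉ F ∙ b₀) (hb0 : b₀ ≠ 0) (hia : f.Iso (a₀ + a₁))
    (hib : f.Iso (b₀ + b₁)) (horth : f.B (a₀ + a₁) (b₀ + b₁) = 0)
    (h : ∀ a, sh f (a₀ + a₁) (b₀ + b₁) horth a ∈ K) : ∀ w ∈ E.X, f.Ctr K w := by
  classical
  obtain ⟨d, hd, hdW⟩ : ∃ d ∈ E.X ⊓ LinearMap.ker ((f.B a₁).prod (f.B b₁)),
      d ∉ Submodule.span F ({a₀, b₀} : Set (ι → F)) := by
    refine exists_outside _ ?_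
    let φ := ((f.B a₁).prod (f.B b₁)).domRestrict E.X
    have h1 := φ.finrank_range_add_finrank_ker
    have h3 : Module.finrank F (LinearMap.range φ) ≤ 2 := (Submodule.finrank_le _).trans (by simp)
    have h4 : Module.finrank F (LinearMap.ker φ) ≤
        Module.finrank F (E.X ⊓ LinearMap.ker ((f.B a₁).prod (f.B b₁)) : Submodule F (ι → F)) := by
      rw [← Submodule.finrank_map_subtype_eq]
      refine Submodule.finrank_mono ?_
      rintro _ ⟨z, hz, rfl⟩
      exact ⟨z.2, hz⟩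
    have := E.dimX
    have := finrank_span2 (F := F) a₀ b₀
    omega
  obtain ⟨hdX, hdk⟩ := Submodule.mem_inf.mp hd
  simp only [LinearMap.mem_ker, LinearMap.prod_apply, Function.prod_apply, Prod.mk_eq_zero] at hdk
  obtain ⟨v, hv, hdv, hkp, hkK, hk, hav, hWv⟩ := E.mover hdX ha₀ (F ∙ b₀)
    ((Submodule.span_singleton_le_iff_mem _ _).mpr hb₀) (notMem_sup hab hdW)
  have hdd : f.Iso d := E.isoX d hdX d hdX
  have hkY : ∀ z ∈ E.Y, f.B z d = 0 → (sh f d v hdv (-1) : Matrix ι ι F) *ᵥ z = z := fun z hz hzd => by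
    rw [sh_mulVec hdd, f.eq_zero_comm hzd, E.isoY v hv z hz, mul_zero, mul_zero, zero_smul, zero_smul, add_zero,
      sub_zero]
  have hka : (sh f d v hdv (-1) : Matrix ι ι F) *ᵥ (a₀ + a₁) = a₀ + a₁ + d := by
    rw [Matrix.mulVec_add, hk a₀ ha₀, hkY a₁ ha₁ hdk.1, hav, one_smul]; abel
  have hkb : (sh f d v hdv (-1) : Matrix ι ι F) *ᵥ (b₀ + b₁) = b₀ + b₁ := by
    rw [Matrix.mulVec_add, hk b₀ hb₀, hkY b₁ hb₁ hdk.2, hWv b₀ (Submodule.mem_span_singleton_self b₀), zero_smul,
      add_zero]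
  have hdb : f.B d (b₀ + b₁) = 0 := by rw [map_add, E.isoX d hdX b₀ hb₀, f.eq_zero_comm hdk.2, add_zero]
  have had : f.B (a₀ + a₁) d = 0 := by rw [map_add, LinearMap.add_apply, E.isoX a₀ ha₀ d hdX, hdk.1, add_zero]
  have h1 : ∀ a, sh f d (b₀ + b₁) hdb a ∈ K := by
    intro a
    have hc := RatSymp.conj_mem hkK (h a)
    rw [conj_sh hkp hia] at hc
    simp only [hka, hkb] at hc
    have hm := K.mul_mem hc (h (-a))
    rw [sh_mul_sh_pure (hu := by
        exact iso_add hia hdd had) hia hib (hd := by rw [add_sub_cancel_left]; exact hdb)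
      (huu := by
        exact B_add_self hia had)]
      at hm
    simp only [add_sub_cancel_left] at hm
    exact hm
  have hbi : f.Iso b₀ := E.isoX b₀ hb₀ b₀ hb₀
  have hb1i : f.Iso b₁ := E.isoY b₁ hb₁ b₁ hb₁
  have hdb₀ : f.B b₀ d = 0 := E.isoX b₀ hb₀ d hdX
  have hdb₁ : f.B b₁ d = 0 := hdk.2
  have h3 : ∀ a, ∃ κ, sh f b₀ d hdb₀ a * f.trans d hdd κ ∈ K := by
    intro a
    have e1 := h1 (-(f.σ a))
    rw [sh_comm hdd hib hdb, map_neg, f.invol, neg_neg] at e1
    have e2 : sh f b₁ d hdb₁ (-a) ∈ K := by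
      rw [sh_comm hb1i hdd hdb₁]; exact E.mixed d hdX b₁ hb₁ _ _
    have hm := K.mul_mem e1 e2
    rw [sh_mul_sh hib hb1i hdd (hd := by rw [add_sub_cancel_right]; exact hdb₀)
      (hdi := by rw [add_sub_cancel_right]; exact hbi)] at hm
    simp only [add_sub_cancel_right] at hm
    exact ⟨_, hm⟩
  obtain ⟨e, he, heW⟩ := exists_outside (Submodule.span F ({b₀, d} : Set (ι → F))) (X := E.X)
    (by have := finrank_span2 (F := F) b₀ d; have := E.dimX; omega)
  have hbd : b₀ ∉ F ∙ d := fun hm => by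
    obtain ⟨s, hs⟩ := Submodule.mem_span_singleton.mp hm
    rcases eq_or_ne s 0 with rfl | hs0
    · exact hb0 (by rw [← hs, zero_smul])
    · exact hdW (Submodule.mem_span_pair.mpr ⟨0, s⁻¹, by
        rw [zero_smul, zero_add, ← hs, smul_smul, inv_mul_cancel₀ hs0, one_smul]⟩)
  obtain ⟨v', hv', hev, hk'p, hk'K, hk', hbv, hWv'⟩ := E.mover he hb₀ (F ∙ d)
    ((Submodule.span_singleton_le_iff_mem _ _).mpr hdX) (notMem_sup hbd heW)
  refine E.centre_of_sh he hdX (fun hm => heW (Submodule.span_mono (by simp) hm))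
    (fun h0 => hdW (h0 ▸ Submodule.zero_mem _)) fun _ a => ?_
  obtain ⟨κ, hκ⟩ := h3 a
  have hc := RatSymp.conj_mem hk'K hκ
  rw [← conj_mul, conj_sh hk'p hbi, f.conj_trans hk'p] at hc
  simp only [hk' b₀ hb₀, hk' d hdX, hbv, hWv' d (Submodule.mem_span_singleton_self d), one_smul, zero_smul,
    add_zero] at hc
  have hm := K.mul_mem hc (K.inv_mem hκ)
  rw [_root_.mul_inv_rev, mul_assoc, mul_inv_cancel_left] at hm
  rw [show (sh f b₀ d hdb₀ a)⁻¹ = sh f b₀ d hdb₀ (-a) from inv_eq_of_mul_eq_one_right (Units.ext (eq_of_mulVec_eq fun x => by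
    rw [Units.val_mul, ← Matrix.mulVec_mulVec, sh_mulVec hbi, sh_mulVec hbi, Units.val_one, Matrix.one_mulVec]
    simp only [map_add, map_sub, map_neg, map_smul, smul_eq_mul, show f.B b₀ b₀ = 0 from hbi, hdb₀,
      f.eq_zero_comm hdb₀, show f.B d d = 0 from hdd, mul_zero, sub_zero, add_zero]
    module)),
    sh_mul_sh_pure (E.isoX _ (E.X.add_mem hb₀ he) _ (E.X.add_mem hb₀ he)) hbi hdd
      (hd := by rw [add_sub_cancel_left]; exact E.isoX e he d hdX) (huu := E.isoX _ (E.X.add_mem hb₀ he) b₀ hb₀)] at hm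
  simp only [add_sub_cancel_left] at hm
  exact hm

end core

/-- Let F be the field with q² elements and n = 2k ≥ 13. Let D be a decomposition of F^n into two complementary subspaces of dimension k on each of which the standard unitary form vanishes identically. Then the elements of SU_n(q) preserving or interchanging the two subspaces form a maximal subgroup of SU_n(q). -/
theorem result {F : Type*} [Field F] [Fintype F] (n q : ℕ) (hF : Fintype.card F = q ^ 2) (hn : 13 ≤ n) (k : ℕ) (hk : 2 * k = n) (D : Fin 2 → Submodule F (Fin n → F)) (hD : Cfsg.Geo.IsMDecomposition k D) (hts : ∀ i, Cfsg.Geo.IsTotallySingularFor (Cfsg.hermForm n F q) (D i)) : Cfsg.Geo.IsMaximalIn (Cfsg.GU n F q ⊓ Cfsg.Geo.specialLinear (Fin n) F) (Cfsg.Geo.decompositionStabilizer D ⊓ (Cfsg.GU n F q ⊓ Cfsg.Geo.specialLinear (Fin n) F)) := by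
  classical
  set f := stdHerm n hF with hf
  have hiso : ∀ i, ∀ u ∈ D i, ∀ v ∈ D i, f.B u v = 0 := fun i u hu v hv => by
    rw [hf, stdHerm_apply]; exact hts i v hv u hu
  have hcompl : IsCompl (D 0) (D 1) := by
    refine ⟨hD.indep.pairwiseDisjoint (by decide), codisjoint_iff.mpr ?_⟩
    rw [← hD.iSup_eq_top]
    refine le_antisymm (sup_le (le_iSup D 0) (le_iSup D 1)) (iSup_le fun i => ?_)
    fin_cases i
    exacts [le_sup_left, le_sup_right]
  have hfix : ∀ u ∈ D 0, ∀ v ∈ D 1, ∀ h : f.B u v = 0, ∀ a,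
      sh f u v h a ∈ Cfsg.Geo.decompositionStabilizer D ⊓ (Cfsg.GU n F q ⊓ Cfsg.Geo.specialLinear (Fin n) F) := by
    intro u hu v hv huv a
    refine ⟨⟨1, fun l => ?_⟩, mem_suGL hF (sh_preserves (hiso 0 u hu u hu) (hiso 1 v hv v hv) huv a) (sh_sl _ _ _ _)⟩
    have hmap : (D l).map (Matrix.toLin' (sh f u v huv a).val) ≤ D l := by
      rintro _ ⟨x, hx, rfl⟩
      rw [Matrix.toLin'_apply, sh_mulVec (hiso 0 u hu u hu)]
      fin_cases l
      · rw [hiso 0 u hu x hx, mul_zero, zero_smul, add_zero]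
        exact (D 0).sub_mem hx ((D 0).smul_mem _ hu)
      · rw [hiso 1 v hv x hx, mul_zero, zero_smul, sub_zero]
        exact (D 1).add_mem hx ((D 1).smul_mem _ hv)
    refine Submodule.eq_of_le_of_finrank_eq hmap ?_
    exact (Submodule.equivMapOfInjective _ (fun x y h => by
      simp only [Matrix.toLin'_apply] at h
      have h2 := congrArg ((sh f u v huv a)⁻¹.val *ᵥ ·) h
      simpa [Matrix.mulVec_mulVec, ← Units.val_mul] using h2) _).finrank_eq.symm
  let E : Pair f (Cfsg.Geo.decompositionStabilizer D ⊓ (Cfsg.GU n F q ⊓ Cfsg.Geo.specialLinear (Fin n) F)) :=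
    ⟨D 0, D 1, hcompl, hiso 0, hiso 1, by rw [hD.finrank_eq]; omega, by rw [hD.finrank_eq]; omega, hfix⟩
  have hdisj : ∀ x, x ∈ D 0 → x ∈ D 1 → x = 0 := fun x h0 h1 =>
    Submodule.disjoint_def.mp hcompl.disjoint x h0 h1
  refine ⟨lt_of_le_of_ne inf_le_right ?_, ?_⟩
  · intro h
    obtain ⟨e, he, he0⟩ := (Submodule.ne_bot_iff (D 0)).mp fun hb => by
      have h1 := hD.finrank_eq 0
      rw [hb, finrank_bot] at h1; omega
    obtain ⟨v, hv, -, hev⟩ := E.dual ⊥ bot_le he (by simpa using he0)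
    obtain ⟨c, hc0, hc⟩ := f.exists_trace_zero
    have hei : f.Iso e := hiso 0 e he e he
    have hmem : f.trans e hei c ∈ Cfsg.Geo.decompositionStabilizer D ⊓ (Cfsg.GU n F q ⊓ Cfsg.Geo.specialLinear (Fin n) F) := by
      rw [h]; exact mem_suGL hF (f.trans_preserves _ _ hc) (tv_mem_specialLinear _ _ _)
    obtain ⟨σ, hσ⟩ := hmem.1
    have h1 : (f.trans e hei c).val *ᵥ v ∈ D (σ 1) := hσ 1 ▸ ⟨v, hv, Matrix.toLin'_apply _ _⟩
    have h0 : (f.trans e hei c).val *ᵥ e ∈ D (σ 0) := hσ 0 ▸ ⟨e, he, Matrix.toLin'_apply _ _⟩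
    rw [f.trans_mulVec, show f.B e e = 0 from hei, mul_zero, zero_smul, add_zero] at h0
    rw [f.trans_mulVec, ← f.herm v e, hev, map_one f.σ, mul_one] at h1
    have hs0 : σ 0 = 0 := by
      rcases Fin.exists_fin_two.mp ⟨σ 0, rfl⟩ with h | h
      · exact h
      · rw [h] at h0; exact absurd (hdisj e he h0) he0
    have hs1 : σ 1 = 1 := by
      rcases Fin.exists_fin_two.mp ⟨σ 1, rfl⟩ with h | h
      · exact absurd (σ.injective (h.trans hs0.symm)) (by decide)
      · exact h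
    rw [hs1] at h1
    exact he0 (hdisj e he ((Submodule.smul_mem_iff _ hc0).mp ((Submodule.add_mem_iff_right _ hv).mp h1)))
  intro M hle hMS
  by_cases hN : M ≤ Cfsg.Geo.decompositionStabilizer D
  · exact Or.inl (le_antisymm (le_inf hN hMS) hle)
  right
  obtain ⟨g, hgM, hg⟩ := SetLike.not_le_iff_exists.mp hN
  have hgp := (mem_GU_iff' hF).mp (hMS hgM).1
  let EM : Pair f M := ⟨D 0, D 1, hcompl, hiso 0, hiso 1, by rw [hD.finrank_eq]; omega, by rw [hD.finrank_eq]; omega,
    fun u hu v hv h a => hle (hfix u hu v hv h a)⟩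
  have hinjg : Function.Injective (Matrix.toLin' g.val) := fun a b h => by
    simp only [Matrix.toLin'_apply] at h
    have h2 := congrArg (g⁻¹.val *ᵥ ·) h
    simpa [Matrix.mulVec_mulVec, ← Units.val_mul] using h2
  -- some space consists of centres
  obtain hside | hside : (∀ w ∈ D 0, f.Ctr M w) ∨ (∀ w ∈ D 1, f.Ctr M w) := by
    by_contra hno
    push Not at hno
    obtain ⟨⟨w0, hw0, hno0⟩, w1, hw1, hno1⟩ := hno
    -- images of orthogonal mixed pairs have dependent components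
    have hdep : ∀ u v, ((u ∈ D 0 ∧ v ∈ D 1) ∨ (u ∈ D 1 ∧ v ∈ D 0)) → f.B u v = 0 →
        ∀ a₀ ∈ D 0, ∀ a₁ ∈ D 1, a₀ + a₁ = g.val *ᵥ u → ∀ b₀ ∈ D 0, ∀ b₁ ∈ D 1, b₀ + b₁ = g.val *ᵥ v →
        (a₀ ≠ 0 → b₀ ∈ F ∙ a₀) ∧ (a₁ ≠ 0 → b₁ ∈ F ∙ a₁) := by
      intro u v huvm huv a₀ ha₀ a₁ ha₁ hau b₀ hb₀ b₁ hb₁ hbv
      have hui : f.Iso u := huvm.elim (fun h => hiso 0 u h.1 u h.1) fun h => hiso 1 u h.1 u h.1
      have hvi : f.Iso v := huvm.elim (fun h => hiso 1 v h.2 v h.2) fun h => hiso 0 v h.2 v h.2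
      have hia : f.Iso (a₀ + a₁) := hau ▸ (f.iso_mulVec hgp).mpr hui
      have hib : f.Iso (b₀ + b₁) := hbv ▸ (f.iso_mulVec hgp).mpr hvi
      have horth : f.B (b₀ + b₁) (a₀ + a₁) = 0 := by rw [hau, hbv, hgp, f.eq_zero_comm huv]
      have hK : ∀ a, sh f (b₀ + b₁) (a₀ + a₁) horth a ∈ M := fun a => by
        simp only [hau, hbv]
        rw [← conj_sh hgp hvi (f.eq_zero_comm huv)]
        refine RatSymp.conj_mem hgM (hle ?_)
        rcases huvm with ⟨hu, hv⟩ | ⟨hu, hv⟩
        · rw [sh_comm hvi hui]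
          exact hfix u hu v hv _ _
        · exact hfix v hv u hu _ a
      constructor
      · intro h0
        by_contra hb
        exact hno0 (EM.centre_of_image hb₀ hb₁ ha₀ ha₁ hb h0 hib hia horth hK w0 hw0)
      · intro h1
        by_contra hb
        refine hno1 (EM.swap.centre_of_image hb₁ hb₀ ha₁ ha₀ hb h1 (by rwa [add_comm]) (by rwa [add_comm])
          (by rwa [add_comm b₁, add_comm a₁]) ?_ w1 hw1)
        intro a
        simp only [add_comm b₁ b₀, add_comm a₁ a₀]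
        exact hK a
    -- so g maps each side into one side
    have hone : ∀ i j, i ≠ j → ∀ u ∈ D i, g.val *ᵥ u ∈ D 0 ∨ g.val *ᵥ u ∈ D 1 := by
      intro i j hij u hu
      obtain ⟨a₀, ha₀, a₁, ha₁, hau⟩ := EM.split (g.val *ᵥ u)
      by_contra hc
      push Not at hc
      have ha00 : a₀ ≠ 0 := fun h => hc.2 (by rw [← hau, h, zero_add]; exact ha₁)
      have ha10 : a₁ ≠ 0 := fun h => hc.1 (by rw [← hau, h, add_zero]; exact ha₀)
      have hle2 : ((D j ⊓ LinearMap.ker (f.B u)).map (Matrix.toLin' g.val)) ≤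
          Submodule.span F ({a₀, a₁} : Set (Fin n → F)) := by
        rintro _ ⟨v, ⟨hv, hvu⟩, rfl⟩
        obtain ⟨b₀, hb₀, b₁, hb₁, hbv⟩ := EM.split (g.val *ᵥ v)
        obtain ⟨h0, h1⟩ := hdep u v (by
          fin_cases i <;> fin_cases j
          exacts [absurd rfl hij, Or.inl ⟨hu, hv⟩, Or.inr ⟨hu, hv⟩, absurd rfl hij]) (LinearMap.mem_ker.mp hvu)
          a₀ ha₀ a₁ ha₁ hau b₀ hb₀ b₁ hb₁ hbv
        obtain ⟨s, hs⟩ := Submodule.mem_span_singleton.mp (h0 ha00)
        obtain ⟨t, ht⟩ := Submodule.mem_span_singleton.mp (h1 ha10)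
        rw [Matrix.toLin'_apply, ← hbv, ← hs, ← ht]
        exact Submodule.mem_span_pair.mpr ⟨s, t, rfl⟩
      have h1 := Submodule.finrank_mono hle2
      rw [← (Submodule.equivMapOfInjective _ hinjg _).finrank_eq] at h1
      have h3 := finrank_span2 (F := F) a₀ a₁
      let φ := (f.B u).domRestrict (D j)
      have h4 := φ.finrank_range_add_finrank_ker
      have h5 : Module.finrank F (LinearMap.range φ) ≤ 1 := (Submodule.finrank_le _).trans (by simp)
      have h6 : Module.finrank F (LinearMap.ker φ) ≤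
          Module.finrank F (D j ⊓ LinearMap.ker (f.B u) : Submodule F (Fin n → F)) := by
        rw [← Submodule.finrank_map_subtype_eq]
        refine Submodule.finrank_mono ?_
        rintro _ ⟨z, hz, rfl⟩
        exact ⟨z.2, hz⟩
      have h7 := hD.finrank_eq j
      omega
    have himg : ∀ i, ∃ j, (D i).map (Matrix.toLin' g.val) = D j := by
      intro i
      have hor : ∀ u ∈ D i, g.val *ᵥ u ∈ D 0 ∨ g.val *ᵥ u ∈ D 1 := by
        fin_cases i
        · exact hone 0 1 (by decide)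
        · exact hone 1 0 (by decide)
      have hdim : ∀ j, Module.finrank F ((D i).map (Matrix.toLin' g.val)) = Module.finrank F (D j) := fun j => by
        rw [← (Submodule.equivMapOfInjective _ hinjg _).finrank_eq, hD.finrank_eq, hD.finrank_eq]
      by_cases h : ∀ u ∈ D i, g.val *ᵥ u ∈ D 0
      · exact ⟨0, Submodule.eq_of_le_of_finrank_eq (by rintro _ ⟨u, hu, rfl⟩; exact h u hu) (hdim 0)⟩
      push Not at h
      obtain ⟨u₁, hu₁, hu₁0⟩ := h
      refine ⟨1, Submodule.eq_of_le_of_finrank_eq ?_ (hdim 1)⟩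
      rintro _ ⟨u, hu, rfl⟩
      rw [Matrix.toLin'_apply]
      rcases hor u hu with h0 | h1
      · have h11 : g.val *ᵥ u₁ ∈ D 1 := (hor u₁ hu₁).resolve_left hu₁0
        rcases hor (u + u₁) ((D i).add_mem hu hu₁) with h' | h'
        · rw [Matrix.mulVec_add] at h'
          exact absurd ((Submodule.add_mem_iff_right _ h0).mp h') hu₁0
        · rw [Matrix.mulVec_add] at h'
          exact (Submodule.add_mem_iff_left _ h11).mp h'
      · exact h1
    choose σ hσ using himg
    refine hg ⟨Equiv.ofBijective σ ⟨?_, ?_⟩, fun i => hσ i⟩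
    all_goals
      have hinj : Function.Injective σ := fun a b hab => by
        have h1 : D a = D b := Submodule.map_injective_of_injective hinjg (by rw [hσ, hσ, hab])
        by_contra hne
        have hb : D a ≠ ⊥ := fun hb => by
          have h1 := hD.finrank_eq a
          rw [hb, finrank_bot] at h1; omega
        obtain ⟨x, hx, hx0⟩ := (Submodule.ne_bot_iff _).mp hb
        exact hx0 (Submodule.disjoint_def.mp (hD.indep.pairwiseDisjoint hne) x hx (h1 ▸ hx))
    · exact hinj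
    · exact Finite.injective_iff_surjective.mp hinj
  all_goals
    -- the interchange
    obtain ⟨bas⟩ : Nonempty (Module.Basis (Fin k) F (D 0)) := ⟨Module.finBasisOfFinrankEq F _ (hD.finrank_eq 0)⟩
    have hnot : ∀ i, (bas i : Fin n → F) ∉
        Submodule.span F ((fun j => (bas j : Fin n → F)) '' {j | j ≠ i}) := fun i =>
      ((bas.linearIndependent.map' (D 0).subtype (Submodule.ker_subtype _)).notMem_span_image (by simp))
    choose y hy hyW hy1 using fun i => EM.dual _ (Submodule.span_le.mpr (by rintro _ ⟨j, -, rfl⟩; exact (bas j).2))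
      (bas i).2 (hnot i)
    have hdual : ∀ i j, f.B (y i) (bas j : Fin n → F) = if j = i then 1 else 0 := by
      intro i j
      split_ifs with h
      · rw [h]; exact hy1 i
      · exact hyW i _ (Submodule.subset_span ⟨j, h, rfl⟩)
    have hdual' : ∀ i j, f.B (bas j : Fin n → F) (y i) = if j = i then 1 else 0 := fun i j => by
      rw [← f.herm (y i), hdual]; split_ifs <;> simp
    have hspan0 : ∀ x ∈ D 0, x = ∑ i, f.B (y i) x • (bas i : Fin n → F) := by
      intro x hx
      have h1 := congrArg Subtype.val (bas.sum_repr ⟨x, hx⟩)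
      simp only [AddSubmonoidClass.coe_finsetSum, SetLike.val_smul] at h1
      have hc : ∀ i, f.B (y i) x = bas.repr ⟨x, hx⟩ i := fun i => by
        conv_lhs => rw [← h1]
        simp [map_sum, map_smul, hdual]
      simp_rw [hc]
      exact h1.symm
    have hspan1 : ∀ x ∈ D 1, x = ∑ i, f.B (bas i : Fin n → F) x • y i := by
      intro x hx
      set s := x - ∑ i, f.B (bas i : Fin n → F) x • y i with hs
      have hsY : s ∈ D 1 := (D 1).sub_mem hx (Submodule.sum_mem _ fun i _ => (D 1).smul_mem _ (hy i))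
      have hbas : ∀ j, f.B (bas j : Fin n → F) s = 0 := fun j => by
        simp [hs, map_sub, map_sum, map_smul, hdual']
      by_contra hne
      obtain ⟨z, -, hz⟩ := f.exists_perp_eq_one ⊥ (x := s) (by simpa [hs, sub_eq_zero] using hne)
      obtain ⟨a, ha, b, hb, rfl⟩ := EM.split z
      rw [map_add, LinearMap.add_apply, hiso 1 b hb s hsY, add_zero, hspan0 a ha] at hz
      simp [map_sum, LinearMap.sum_apply, hbas] at hz
    let Θ : (Fin n → F) →ₗ[F] (Fin n → F) :=
      ∑ i, ((f.B (y i)).smulRight (y i) + (f.B (bas i : Fin n → F)).smulRight (bas i : Fin n → F))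
    have hΘ : ∀ x, Θ x = ∑ i, (f.B (y i) x • y i + f.B (bas i : Fin n → F) x • (bas i : Fin n → F)) :=
      fun x => by simp [Θ, LinearMap.sum_apply]
    have hΘ0' : ∀ x ∈ D 0, Θ x = ∑ i, f.B (y i) x • y i := fun x hx => by
      rw [hΘ]; exact Finset.sum_congr rfl fun i _ => by rw [hiso 0 _ (bas i).2 x hx, zero_smul, add_zero]
    have hΘ1' : ∀ x ∈ D 1, Θ x = ∑ i, f.B (bas i : Fin n → F) x • (bas i : Fin n → F) := fun x hx => by
      rw [hΘ]; exact Finset.sum_congr rfl fun i _ => by rw [hiso 1 _ (hy i) x hx, zero_smul, zero_add]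
    have hΘ0 : ∀ x ∈ D 0, Θ x ∈ D 1 := fun x hx => by
      rw [hΘ0' x hx]; exact Submodule.sum_mem _ fun i _ => (D 1).smul_mem _ (hy i)
    have hΘ1 : ∀ x ∈ D 1, Θ x ∈ D 0 := fun x hx => by
      rw [hΘ1' x hx]; exact Submodule.sum_mem _ fun i _ => (D 0).smul_mem _ (bas i).2
    have key : ∀ a b', a ∈ D 0 → b' ∈ D 1 → f.B (Θ a) (Θ b') = f.B a b' := by
      intro a b' ha hb'
      conv_rhs => rw [hspan1 b' hb']
      rw [hΘ0' a ha, hΘ1' b' hb']
      simp only [map_sum, LinearMap.sum_apply, map_smul, LinearMap.map_smulₛₗ, LinearMap.smul_apply, smul_eq_mul,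
        f.herm]
      refine Finset.sum_congr rfl fun i _ => ?_
      rw [Finset.sum_eq_single i (fun j _ hji => by rw [hdual, if_neg hji.symm, mul_zero])
        (fun hn => absurd (Finset.mem_univ i) hn), hdual, if_pos rfl]
      ring
    have hΘp : ∀ u v, f.B (Θ u) (Θ v) = f.B u v := by
      intro u v
      obtain ⟨a, ha, b, hb, rfl⟩ := EM.split u
      obtain ⟨a', ha', b', hb', rfl⟩ := EM.split v
      have hkey' : f.B (Θ b) (Θ a') = f.B b a' := by
        rw [← f.herm (Θ a') (Θ b), key a' b ha' hb, f.herm]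
      simp only [map_add, LinearMap.add_apply, hiso 1 _ (hΘ0 a ha) _ (hΘ0 a' ha'), hiso 0 _ (hΘ1 b hb) _ (hΘ1 b' hb'),
        hiso 0 a ha a' ha', hiso 1 b hb b' hb', key a b' ha hb', hkey']
    have hinj : Function.Injective Θ := (injective_iff_map_eq_zero Θ).mpr fun x hx => by
      by_contra hx0
      obtain ⟨z, -, hz⟩ := f.exists_perp_eq_one ⊥ (x := x) (by simpa using hx0)
      rw [← hΘp, hx, map_zero] at hz
      exact zero_ne_one hz
    let e₀ : GL (Fin n) F :=
      ((LinearMap.GeneralLinearGroup.generalLinearEquiv F (Fin n → F)).symm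
        (LinearEquiv.ofBijective Θ ⟨hinj, LinearMap.injective_iff_surjective.mp hinj⟩) |>
        Matrix.GeneralLinearGroup.toLin.symm)
    have he₀ : ∀ x, e₀.val *ᵥ x = Θ x := fun x => by
      show (LinearMap.toMatrix' Θ) *ᵥ x = Θ x
      exact LinearMap.toMatrix'_mulVec Θ x
    have he₀p : f.Preserves e₀ := fun u v => by rw [he₀, he₀, hΘp]
    obtain ⟨i₀⟩ : Nonempty (Fin k) := ⟨⟨0, by omega⟩⟩
    obtain ⟨sc, s, s', hscp, hscd, hsc⟩ := f.exists_scale (e := (bas i₀ : Fin n → F)) (e' := y i₀)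
      (hiso 0 _ (bas i₀).2 _ (bas i₀).2) (hiso 1 _ (hy i₀) _ (hy i₀)) (by rw [hdual', if_pos rfl])
      (δ := f.σ (e₀ : Matrix (Fin n) (Fin n) F).det) (by rw [f.invol, mul_comm]; exact f.det_norm he₀p)
    have hsc0 : ∀ x ∈ D 0, sc.val *ᵥ x ∈ D 0 := fun x hx => by
      rw [hsc, hiso 0 _ (bas i₀).2 x hx, mul_zero, zero_smul, add_zero]
      exact (D 0).add_mem hx ((D 0).smul_mem _ (bas i₀).2)
    have hsc1 : ∀ x ∈ D 1, sc.val *ᵥ x ∈ D 1 := fun x hx => by
      rw [hsc, hiso 1 _ (hy i₀) x hx, mul_zero, zero_smul, add_zero]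
      exact (D 1).add_mem hx ((D 1).smul_mem _ (hy i₀))
    set e := sc * e₀ with hedef
    have he : ∀ x, e.val *ᵥ x = sc.val *ᵥ (Θ x) := fun x => by
      rw [hedef, Units.val_mul, ← Matrix.mulVec_mulVec, he₀]
    have hep : f.Preserves e := hscp.mul he₀p
    have hed : e ∈ Cfsg.Geo.specialLinear (Fin n) F := MonoidHom.mem_ker.mpr (Units.ext (by
      show (e : Matrix (Fin n) (Fin n) F).det = 1
      rw [hedef, Units.val_mul, Matrix.det_mul, hscd]
      exact f.det_norm he₀p))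
    have hinje : Function.Injective (Matrix.toLin' e.val) := fun a b h => by
      simp only [Matrix.toLin'_apply] at h
      have h2 := congrArg (e⁻¹.val *ᵥ ·) h
      simpa [Matrix.mulVec_mulVec, ← Units.val_mul] using h2
    have heM : e ∈ M := by
      refine hle ⟨⟨Equiv.swap 0 1, fun i => Submodule.eq_of_le_of_finrank_eq ?_ (by
        rw [← (Submodule.equivMapOfInjective _ hinje _).finrank_eq, hD.finrank_eq, hD.finrank_eq])⟩,
        mem_suGL hF hep hed⟩
      rintro _ ⟨x, hx, rfl⟩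
      rw [Matrix.toLin'_apply, he]
      fin_cases i
      · simpa using hsc1 _ (hΘ0 x hx)
      · simpa using hsc0 _ (hΘ1 x hx)
    have hboth : (∀ w ∈ D 0, f.Ctr M w) ∧ (∀ w ∈ D 1, f.Ctr M w) := by
      have hflip : ∀ i j, (i = 0 ∧ j = 1) ∨ (i = 1 ∧ j = 0) → (∀ w ∈ D i, f.Ctr M w) → ∀ w ∈ D j, f.Ctr M w := by
        intro i j hij h w hw
        have hew : w = e.val *ᵥ (e⁻¹.val *ᵥ w) := by
          rw [Matrix.mulVec_mulVec, ← Units.val_mul, mul_inv_cancel, Units.val_one, Matrix.one_mulVec]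
        obtain ⟨a, ha, b, hb, hab⟩ := EM.split (e⁻¹.val *ᵥ w)
        rw [← hab, Matrix.mulVec_add] at hew
        have hea : e.val *ᵥ a ∈ D 1 := by rw [he]; exact hsc1 _ (hΘ0 a ha)
        have heb : e.val *ᵥ b ∈ D 0 := by rw [he]; exact hsc0 _ (hΘ1 b hb)
        rcases hij with ⟨rfl, rfl⟩ | ⟨rfl, rfl⟩
        · have hb0 : e.val *ᵥ b = 0 := hdisj _ heb ((Submodule.add_mem_iff_right _ hea).mp (hew ▸ hw))
          rw [hew, hb0, add_zero]
          exact (h a ha).of_conj heM hep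
        · have ha0 : e.val *ᵥ a = 0 := hdisj _ ((Submodule.add_mem_iff_left _ heb).mp (hew ▸ hw)) hea
          rw [hew, ha0, zero_add]
          exact (h b hb).of_conj heM hep
      first
        | exact ⟨hside, hflip 0 1 (Or.inl ⟨rfl, rfl⟩) hside⟩
        | exact ⟨hflip 1 0 (Or.inr ⟨rfl, rfl⟩) hside, hside⟩
    refine le_antisymm hMS (suGL_le hF (by omega) fun w hwi => ?_)
    obtain ⟨a, ha, b, hb, rfl⟩ := EM.split w
    by_cases ha0 : a = 0
    · rw [ha0, zero_add]; exact hboth.2 b hb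
    by_cases hab : f.B a b = 0
    swap
    · exact (hboth.1 a ha).add (hboth.2 b hb) hab hwi
    obtain ⟨τ, hτ0, hτ⟩ := f.exists_trace_zero
    obtain ⟨v, hv, -, hva⟩ := EM.dual ⊥ bot_le ha (by simpa using ha0)
    set r := τ • v with hr'
    have hr : r ∈ D 1 := (D 1).smul_mem _ hv
    have har : f.B a r = τ := by rw [hr', map_smul, ← f.herm v a, hva, map_one, smul_eq_mul, mul_one]
    have hbr := hiso 1 _ ((D 1).add_mem hb hr)
    have h1 := (hboth.1 a ha).add (hboth.2 _ ((D 1).add_mem hb hr))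
      (by rw [map_add, hab, zero_add, har]; exact hτ0) (by
        show f.B _ _ = 0
        rw [map_add f.B, LinearMap.add_apply, map_add, map_add (f.B (b + r)), hiso 0 a ha a ha,
          hbr _ ((D 1).add_mem hb hr), ← f.herm a (b + r), map_add (f.B a), hab, har]
        simp only [zero_add, add_zero]
        linear_combination hτ)
    have h3 := h1.add (hboth.2 _ ((D 1).neg_mem hr)) (by
      rw [map_neg, map_add f.B, LinearMap.add_apply, har, hbr r hr, add_zero]
      exact neg_ne_zero.mpr hτ0) (by rw [show a + (b + r) + -r = a + b by abel]; exact hwi)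
    rwa [show a + (b + r) + -r = a + b by abel] at h3

end Cfsg.Agent.S5657
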