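import Cfsg.Statements.S5658
import Cfsg.Agent.Lib.MaxSub.UnitarySubfieldMax

set_option autoImplicit false
open Cfsg
open Cfsg.Agent.Lib.MaxSub

namespace Cfsg.Agent.S5658

/-- Let F be the field with q² elements, n ≥ 13, and F₀ a subfield with |F| = |F₀| ^ r for an odd prime r. Let P be an invertible matrix such that the standard unitary form takes values in F₀ on the F₀-span of the columns of P. Then the elements of SU_n(q) lying in the subfield group of P (the conjugate by P of the product of GL_n(F₀) with the scalars) form a maximal subgroup of SU_n(q). -/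
theorem result {F : Type*} [Field F] [Fintype F] (n q : ℕ) (hF : Fintype.card F = q ^ 2) (hn : 13 ≤ n) (F₀ : Subfield F) (r : ℕ) (hr : r.Prime) (hro : Odd r) (hcard : Fintype.card F = Nat.card F₀ ^ r) (P : Matrix.GeneralLinearGroup (Fin n) F) (hP : Cfsg.Geo.IsFormRationalStructure (Cfsg.hermForm n F q) F₀ 1 P) : Cfsg.Geo.IsMaximalIn (Cfsg.GU n F q ⊓ Cfsg.Geo.specialLinear (Fin n) F) (Cfsg.Geo.subfieldSubgroup F₀ P ⊓ (Cfsg.GU n F q ⊓ Cfsg.Geo.specialLinear (Fin n) F)) := by
  classical
  obtain ⟨hmem, hmov⟩ : (∀ a ∈ F₀, (stdHerm n hF).σ a ∈ F₀) ∧ ∃ a ∈ F₀, (stdHerm n hF).σ a ≠ a := by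
    refine ⟨fun a ha => F₀.pow_mem ha q, ?_⟩
    by_contra hcon
    push Not at hcon
    set E := (stdHerm n hF).σ.eqLocusField (RingHom.id F) with hE
    have hle : F₀ ≤ E := fun a ha => hcon a ha
    letI : Algebra F₀ E := (Subfield.inclusion hle).toAlgebra
    have h1 : Nat.card E = Nat.card F₀ ^ Module.finrank F₀ E := Module.natCard_eq_pow_finrank
    have h2 := UnitarySub.natCard_eq_sq (stdHerm n hF).σ (stdHerm n hF).σ_ne (stdHerm n hF).invol
    rw [← hE, h1, ← pow_mul, Nat.card_eq_fintype_card, hcard] at h2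
    have h3 := Nat.pow_right_injective (Finite.one_lt_card (α := F₀)) h2
    obtain ⟨k, hk⟩ := hro
    omega
  let D : UData (stdHerm n hF) :=
    { F₀ := F₀
      P := P
      mem_σ := hmem
      moved := hmov
      rat := fun x y hx hy => by
        obtain ⟨u, hu, rfl⟩ := hx.eq_mulVec
        obtain ⟨v, hv, rfl⟩ := hy.eq_mulVec
        have := hP v u hv hu
        rwa [one_mul] at this }
  have hcard' : Nat.card F = Nat.card D.F₀ ^ r := by rw [Nat.card_eq_fintype_card]; exact hcard
  have hn' : 13 ≤ Fintype.card (Fin n) := by rw [Fintype.card_fin]; exact hn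
  have hne : D.F₀ ≠ ⊤ := fun h => by
    have h1 : Nat.card (⊤ : Subfield F) = Nat.card F := Nat.card_congr Subfield.topEquiv.toEquiv
    rw [h, h1] at hcard'
    have h2 : 1 < Nat.card F := Finite.one_lt_card
    have h3 := Nat.pow_right_injective h2 (show Nat.card F ^ 1 = Nat.card F ^ r by rw [pow_one]; exact hcard')
    exact hr.ne_one h3.symm
  have htrans : ∀ (u : Fin n → F) (hu : (stdHerm n hF).Iso u) (c : F), c + (stdHerm n hF).σ c = 0 →
      (stdHerm n hF).trans u hu c ∈ Cfsg.GU n F q ⊓ Cfsg.Geo.specialLinear (Fin n) F := fun u hu c hc =>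
    mem_suGL hF ((stdHerm n hF).trans_preserves u hu hc) (tv_mem_specialLinear _ _ _)
  refine ⟨lt_of_le_not_ge inf_le_right fun hle => ?_, fun M hHM hMT => ?_⟩
  · obtain ⟨u, hu, c, hc, hnot⟩ := UnitarySub.exists_trans_notMem (D := D) (by omega) hne
    exact hnot (hle (htrans u hu c hc)).1
  by_cases hsub : M ≤ Cfsg.Geo.subfieldSubgroup F₀ P
  · exact Or.inl (le_antisymm (le_inf hsub hMT) hHM)
  right
  obtain ⟨g, hg, hgN⟩ := SetLike.not_le_iff_exists.mp hsub
  refine le_antisymm hMT (suGL_le hF (by omega) fun w hw => ?_)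
  have hb : UnitarySub.Base D M := fun u c hu hui hcF hc =>
    ⟨_, hHM ⟨UnitarySub.trans_mem_subfield hu hui hcF, htrans u hui c hc⟩, fun x => by
      rw [HermF.trans_mulVec, SiegelOp.tN_apply]⟩
  exact UnitarySub.ctr_of_notMem hn' (fun g hg => (mem_GU_iff' hF).mp (hMT hg).1) hb hr hcard' hg hgN hw

end Cfsg.Agent.S5658
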