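import Cfsg.Statements.S5659
import Cfsg.Agent.Lib.MaxSub.UnitaryOrthMax
import Cfsg.Agent.Lib.MaxSub.UnitarySubfieldPlane

set_option autoImplicit false
open Cfsg
open Cfsg.Agent.Lib.MaxSub

namespace Cfsg.Agent.S5659

/-- Let F be the field with q² elements, q odd, n ≥ 13, and F₀ the subfield with q elements. Let P be an invertible matrix such that the standard unitary form takes values in F₀ on the F₀-span of the columns of P (so it restricts to a non-degenerate symmetric bilinear form there). Then the elements of SU_n(q) lying in the subfield group of P form a maximal subgroup of SU_n(q). -/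
theorem result {F : Type*} [Field F] [Fintype F] (n q : ℕ) (hF : Fintype.card F = q ^ 2) (hn : 13 ≤ n) (hodd : Odd q) (F₀ : Subfield F) (hcard : Fintype.card F = Nat.card F₀ ^ 2) (P : Matrix.GeneralLinearGroup (Fin n) F) (hP : Cfsg.Geo.IsFormRationalStructure (Cfsg.hermForm n F q) F₀ 1 P) : Cfsg.Geo.IsMaximalIn (Cfsg.GU n F q ⊓ Cfsg.Geo.specialLinear (Fin n) F) (Cfsg.Geo.subfieldSubgroup F₀ P ⊓ (Cfsg.GU n F q ⊓ Cfsg.Geo.specialLinear (Fin n) F)) := by
  classical
  haveI : Fintype F₀ := Fintype.ofFinite F₀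
  have hq : Nat.card F₀ = q := Nat.pow_left_injective two_ne_zero (hcard.symm.trans hF)
  have h2 : (2 : F) ≠ 0 := by
    intro h
    haveI : CharP F 2 := CharTwo.of_one_ne_zero_of_two_eq_zero one_ne_zero h
    obtain ⟨k, hk⟩ := hodd
    have h1 : ((Fintype.card F : ℕ) : F) = 0 := FiniteField.cast_card_eq_zero F
    rw [hF, hk] at h1
    push_cast at h1
    exact one_ne_zero (α := F) (by linear_combination h1 - (2 * (k : F) * k + 2 * k) * h)
  have hfix0 : ∀ a ∈ F₀, (stdHerm n hF).σ a = a := fun a ha => by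
    show a ^ q = a
    have h := FiniteField.pow_card (⟨a, ha⟩ : F₀)
    rw [← Nat.card_eq_fintype_card, hq] at h
    exact congrArg Subtype.val h
  set E := (stdHerm n hF).σ.eqLocusField (RingHom.id F) with hE
  have hEq : F₀ = E := by
    have h1 := UnitarySub.natCard_eq_sq (stdHerm n hF).σ (stdHerm n hF).σ_ne (stdHerm n hF).invol
    rw [← hE, Nat.card_eq_fintype_card, hF] at h1
    refine SetLike.coe_injective (Set.eq_of_subset_of_ncard_le (fun a ha => hfix0 a ha) ?_ (Set.toFinite _))
    rw [← Nat.card_coe_set_eq, ← Nat.card_coe_set_eq]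
    exact le_of_eq ((Nat.pow_left_injective two_ne_zero h1).symm.trans hq.symm)
  let D : OData (stdHerm n hF) :=
    { F₀ := F₀
      P := P
      fix := fun a => by rw [hEq]; rfl
      rat := fun x y hx hy => by
        obtain ⟨u, hu, rfl⟩ := hx.eq_mulVec
        obtain ⟨v, hv, rfl⟩ := hy.eq_mulVec
        have := hP v u hv hu
        rwa [one_mul] at this
      two := h2 }
  have hn' : 13 ≤ Fintype.card (Fin n) := by rw [Fintype.card_fin]; exact hn
  have htrans : ∀ (u : Fin n → F) (hu : (stdHerm n hF).Iso u) (c : F), c + (stdHerm n hF).σ c = 0 →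
      (stdHerm n hF).trans u hu c ∈ Cfsg.GU n F q ⊓ Cfsg.Geo.specialLinear (Fin n) F := fun u hu c hc =>
    mem_suGL hF ((stdHerm n hF).trans_preserves u hu hc) (tv_mem_specialLinear _ _ _)
  refine ⟨lt_of_le_not_ge inf_le_right fun hle => ?_, fun M hHM hMT => ?_⟩
  · obtain ⟨u, hu, c, hc, hnot⟩ := UnitaryOrth.exists_trans_notMem (D := D) (by omega)
    exact hnot (hle (htrans u hu c hc)).1
  by_cases hsub : M ≤ Cfsg.Geo.subfieldSubgroup F₀ P
  · exact Or.inl (le_antisymm (le_inf hsub hMT) hHM)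
  right
  obtain ⟨g, hg, hgN⟩ := SetLike.not_le_iff_exists.mp hsub
  refine le_antisymm hMT (suGL_le hF (by omega) fun w hw => ?_)
  have hb : UnitaryOrth.Base D M := fun u y hu hui hy hyi huy a ha =>
    let ⟨g, hg, hgx⟩ := UnitaryOrth.base_inf (D := D) htrans u y hu hui hy hyi huy a ha
    ⟨g, hHM hg, hgx⟩
  exact UnitaryOrth.ctr_of_notMem hn' (fun g hg => (mem_GU_iff' hF).mp (hMT hg).1) hb hg hgN hw

end Cfsg.Agent.S5659
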