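import Cfsg.Statements.S5660
import Cfsg.Agent.Lib.MaxSub.UnitaryStd
import Cfsg.Agent.Lib.MaxSub.Subfield

set_option autoImplicit false
open Cfsg

namespace Cfsg.Agent.S5660

open Cfsg.Agent.Lib.MaxSub Matrix
open scoped MatrixGroups Matrix

section core

variable {F : Type*} [Field F] [Finite F] {ι : Type} [Fintype ι] [DecidableEq ι] (f : HermF ι F)

/-- A non-zero trace-zero value has trace-zero inverse. -/
theorem trace_inv {d : F} (hd : d + f.σ d = 0) : d⁻¹ + f.σ d⁻¹ = 0 := by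
  rw [map_inv₀, show f.σ d = -d by linear_combination hd, inv_neg, add_neg_cancel]

variable (F₀ : Subfield F) (hfix : ∀ a, a ∈ F₀ ↔ f.σ a = a) (P : GL ι F)
  (htr : ∀ x y, RatVec F₀ P x → RatVec F₀ P y → f.B x y + f.σ (f.B x y) = 0)
  (hiso : ∀ x, RatVec F₀ P x → f.Iso x) (hn : 3 ≤ Fintype.card ι)
  (θ : F) (hθ : f.σ θ ≠ θ)

include hfix hθ in
theorem exists_coords (a : F) : ∃ b ∈ F₀, ∃ c ∈ F₀, a = b + θ * c := by
  have h0 : θ - f.σ θ ≠ 0 := sub_ne_zero.mpr fun h => hθ h.symm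
  set c := (a - f.σ a) / (θ - f.σ θ) with hc
  have hm : c * (θ - f.σ θ) = a - f.σ a := by rw [hc, div_mul_cancel₀ _ h0]
  have hσc : f.σ c = c := by
    rw [hc, map_div₀, map_sub, map_sub, f.invol, f.invol, ← neg_sub a, ← neg_sub θ, neg_div_neg_eq]
  refine ⟨a - θ * c, (hfix _).mpr ?_, c, (hfix _).mpr hσc, by ring⟩
  rw [map_sub, map_mul, hσc]
  linear_combination hm

include hfix hθ in
theorem exists_decomp (w : ι → F) : ∃ x y, RatVec F₀ P x ∧ RatVec F₀ P y ∧ w = x + θ • y := by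
  choose b hb c hc h using fun i => exists_coords f F₀ hfix θ hθ ((((P⁻¹ : GL ι F) : Matrix ι ι F) *ᵥ w) i)
  refine ⟨(P : Matrix ι ι F) *ᵥ b, (P : Matrix ι ι F) *ᵥ c, (ratVec_mulVec _).mpr hb, (ratVec_mulVec _).mpr hc, ?_⟩
  rw [← Matrix.mulVec_smul, ← Matrix.mulVec_add, show b + θ • c = _ from (funext h).symm,
    Matrix.mulVec_mulVec, ← Units.val_mul, mul_inv_cancel, Units.val_one, Matrix.one_mulVec]

include hfix in
theorem not_mem_span {x y : ι → F} (hx : RatVec F₀ P x) (hy : RatVec F₀ P y) (hx0 : x ≠ 0)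
    (hind : ∀ a ∈ F₀, y ≠ a • x) : y ∉ F ∙ x := fun h => by
  obtain ⟨c, rfl⟩ := Submodule.mem_span_singleton.mp h
  exact hind c (hx.coeff_mem hx0 hy) rfl

include hfix hθ htr in
/-- A functional non-zero somewhere is non-zero on a rational vector. -/
theorem exists_rat_witness {x z : ι → F} (hx : RatVec F₀ P x) (hz : f.B x z ≠ 0) :
    ∃ r, RatVec F₀ P r ∧ f.B x r ≠ 0 := by
  obtain ⟨r, s, hr, hs, rfl⟩ := exists_decomp f F₀ hfix P θ hθ z
  by_contra h
  push Not at h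
  exact hz (by rw [map_add, map_smul, h r hr, h s hs, smul_zero, add_zero])

include hfix hθ htr in
theorem exists_rat_perp_witness {x y : ι → F} (hx : RatVec F₀ P x) (hy : RatVec F₀ P y)
    (hy0 : y ∉ F ∙ x) : ∃ r, RatVec F₀ P r ∧ f.B x r = 0 ∧ f.B y r ≠ 0 := by
  obtain ⟨z, hzx, hzy⟩ := f.exists_perp_eq_one (F ∙ x) hy0
  have hxz : f.B x z = 0 := f.eq_zero_comm (hzx x (Submodule.mem_span_singleton_self x))
  have hyz : f.B y z = 1 := by rw [← f.herm z y, hzy, map_one]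
  obtain ⟨r, s, hr, hs, rfl⟩ := exists_decomp f F₀ hfix P θ hθ z
  rw [map_add, map_smul, smul_eq_mul] at hxz
  have h1 := congrArg f.σ hxz
  rw [map_add, map_mul, map_zero, show f.σ (f.B x r) = -f.B x r by linear_combination htr x r hx hr,
    show f.σ (f.B x s) = -f.B x s by linear_combination htr x s hx hs] at h1
  have hs0 : f.B x s = 0 :=
    (mul_eq_zero.mp (show (θ - f.σ θ) * f.B x s = 0 by linear_combination hxz + h1)).resolve_left
      (sub_ne_zero.mpr fun h => hθ h.symm)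
  by_cases hyr : f.B y r = 0
  · refine ⟨s, hs, hs0, fun h => ?_⟩
    rw [map_add, map_smul, hyr, h, smul_zero, add_zero] at hyz
    exact zero_ne_one hyz
  · exact ⟨r, hr, by rw [hs0, mul_zero, add_zero] at hxz; exact hxz, hyr⟩

variable (K : Subgroup (GL ι F)) (hctr : ∀ v, RatVec F₀ P v → f.Ctr K v)

include hfix hθ htr hiso hctr in
/-- Transvections carry an orthogonal pair of rational vectors to any other one. -/
theorem pair_move {x y x' y' : ι → F} (hx : RatVec F₀ P x) (hy : RatVec F₀ P y) (hx' : RatVec F₀ P x')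
    (hy' : RatVec F₀ P y') (hyx : y ∉ F ∙ x) (hyx' : y' ∉ F ∙ x') (hx0 : x ≠ 0) (hx0' : x' ≠ 0)
    (hxy : f.B x y = 0) (hxy' : f.B x' y' = 0) :
    ∃ g ∈ K, f.Preserves g ∧ (g : Matrix ι ι F) *ᵥ x = x' ∧ (g : Matrix ι ι F) *ᵥ y = y' := by
  have hfd : ∀ a b c, RatVec F₀ P a → RatVec F₀ P b → RatVec F₀ P c → f.B a c ≠ 0 → f.B b c ≠ 0 →
      f.B a (a + c) ≠ 0 := fun a b c ha _ _ h _ => by
    rw [map_add, show f.B a a = 0 from hiso a ha, zero_add]; exact h
  have hcommon : ∀ (a b : ι → F), RatVec F₀ P a → RatVec F₀ P b → ∀ (p q : ι → F), RatVec F₀ P p →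
      RatVec F₀ P q → f.B a p ≠ 0 → f.B b q ≠ 0 →
      ∃ r, (r = p ∨ r = q ∨ r = p + q) ∧ RatVec F₀ P r ∧ f.B a r ≠ 0 ∧ f.B b r ≠ 0 := by
    intro a b ha hb p q hp hq hap hbq
    by_cases h1 : f.B b p = 0
    · by_cases h2 : f.B a q = 0
      · exact ⟨p + q, Or.inr (Or.inr rfl), hp.add hq, by rwa [map_add, h2, add_zero],
          by rwa [map_add, h1, zero_add]⟩
      · exact ⟨q, Or.inr (Or.inl rfl), hq, h2, hbq⟩
    · exact ⟨p, Or.inl rfl, hp, hap, h1⟩
  -- one step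
  have step : ∀ a b, RatVec F₀ P a → RatVec F₀ P b → f.B b a ≠ 0 → ∃ g ∈ K, f.Preserves g ∧
      (∀ z, RatVec F₀ P z → RatVec F₀ P ((g : Matrix ι ι F) *ᵥ z)) ∧ (g : Matrix ι ι F) *ᵥ a = b ∧
      ∀ z, f.B (b - a) z = 0 → (g : Matrix ι ι F) *ᵥ z = z := by
    intro a b ha hb hba
    have hd := htr b a hb ha
    have hct := trace_inv f hd
    obtain ⟨hi, hc⟩ := hctr _ (hb.sub ha)
    refine ⟨_, hc _ hct, f.trans_preserves _ hi hct, fun z hz => ?_, ?_, fun z hz => ?_⟩
    · rw [f.trans_mulVec]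
      refine hz.add ((hb.sub ha).smul ((hfix _).mpr ?_))
      rw [map_mul, show f.σ (f.B (b - a) z) = -f.B (b - a) z by linear_combination htr _ z (hb.sub ha) hz,
        show f.σ (f.B b a)⁻¹ = -(f.B b a)⁻¹ by linear_combination hct]
      ring
    · rw [f.trans_mulVec, show f.B (b - a) a = f.B b a by
        rw [map_sub, LinearMap.sub_apply, show f.B a a = 0 from hiso a ha, sub_zero],
        inv_mul_cancel₀ hba, one_smul, add_sub_cancel]
    · rw [f.trans_mulVec, hz, mul_zero, zero_smul, add_zero]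
  obtain ⟨g₁, hg₁K, hg₁, hg₁r, hg₁x⟩ : ∃ g ∈ K, f.Preserves g ∧
      (∀ z, RatVec F₀ P z → RatVec F₀ P ((g : Matrix ι ι F) *ᵥ z)) ∧ (g : Matrix ι ι F) *ᵥ x = x' := by
    by_cases h : f.B x' x = 0
    · have hxne : ∀ u : ι → F, u ≠ 0 → ∃ z, f.B u z ≠ 0 := fun u hu => by
        obtain ⟨z, -, hz⟩ := f.exists_perp_eq_one ⊥ (x := u) (by simpa using hu)
        exact ⟨z, by rw [← f.herm z u, hz, map_one]; exact one_ne_zero⟩
      obtain ⟨p, hp, hxp⟩ : ∃ p, RatVec F₀ P p ∧ f.B x p ≠ 0 := by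
        obtain ⟨z, hz⟩ := hxne x hx0; exact exists_rat_witness f F₀ hfix P htr θ hθ hx hz
      obtain ⟨q, hq, hxq⟩ : ∃ q, RatVec F₀ P q ∧ f.B x' q ≠ 0 := by
        obtain ⟨z, hz⟩ := hxne x' hx0'; exact exists_rat_witness f F₀ hfix P htr θ hθ hx' hz
      obtain ⟨r, -, hr, h1, h2⟩ := hcommon x x' hx hx' p q hp hq hxp hxq
      obtain ⟨a, haK, hap, har, hax, -⟩ := step x r hx hr fun e => h1 (f.eq_zero_comm e)
      obtain ⟨b, hbK, hbp, hbr, hbx, -⟩ := step r x' hr hx' h2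
      refine ⟨b * a, K.mul_mem hbK haK, hbp.mul hap, fun z hz => ?_, ?_⟩ <;>
        rw [Units.val_mul, ← Matrix.mulVec_mulVec]
      · exact hbr _ (har z hz)
      · rw [hax, hbx]
    · obtain ⟨a, haK, hap, har, hax, -⟩ := step x x' hx hx' h
      exact ⟨a, haK, hap, har, hax⟩
  set y₁ := (g₁ : Matrix ι ι F) *ᵥ y with hy₁
  have hy₁r : RatVec F₀ P y₁ := hg₁r y hy
  have hxy₁ : f.B x' y₁ = 0 := by rw [← hg₁x, hy₁, hg₁, hxy]
  have hyx₁ : y₁ ∉ F ∙ x' := fun h => by
    obtain ⟨c, hc⟩ := Submodule.mem_span_singleton.mp h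
    refine hyx (Submodule.mem_span_singleton.mpr ⟨c, ?_⟩)
    have h' := congrArg (((g₁⁻¹ : GL ι F) : Matrix ι ι F) *ᵥ ·) hc
    rw [← hg₁x, hy₁] at h'
    simpa [Matrix.mulVec_smul, Matrix.mulVec_mulVec, ← Units.val_mul] using h'
  obtain ⟨g₂, hg₂K, hg₂, hg₂x, hg₂y⟩ : ∃ g ∈ K, f.Preserves g ∧ (g : Matrix ι ι F) *ᵥ x' = x' ∧
      (g : Matrix ι ι F) *ᵥ y₁ = y' := by
    have hperp : ∀ a b, f.B x' a = 0 → f.B x' b = 0 → f.B (b - a) x' = 0 := fun a b ha hb =>
      f.eq_zero_comm (by rw [map_sub, ha, hb, sub_zero])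
    by_cases h : f.B y' y₁ = 0
    · obtain ⟨p, hp, hp0, hp1⟩ := exists_rat_perp_witness f F₀ hfix P htr θ hθ hx' hy₁r hyx₁
      obtain ⟨q, hq, hq0, hq1⟩ := exists_rat_perp_witness f F₀ hfix P htr θ hθ hx' hy' hyx'
      obtain ⟨r, hr', hr, h1, h2⟩ := hcommon y₁ y' hy₁r hy' p q hp hq hp1 hq1
      have hr0 : f.B x' r = 0 := by
        rcases hr' with rfl | rfl | rfl
        exacts [hp0, hq0, by rw [map_add, hp0, hq0, add_zero]]
      obtain ⟨a, haK, hap, -, hay, hafix⟩ := step y₁ r hy₁r hr fun e => h1 (f.eq_zero_comm e)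
      obtain ⟨b, hbK, hbp, -, hby, hbfix⟩ := step r y' hr hy' h2
      refine ⟨b * a, K.mul_mem hbK haK, hbp.mul hap, ?_, ?_⟩ <;> rw [Units.val_mul, ← Matrix.mulVec_mulVec]
      · rw [hafix _ (hperp _ _ hxy₁ hr0), hbfix _ (hperp _ _ hr0 hxy')]
      · rw [hay, hby]
    · obtain ⟨a, haK, hap, -, hay, hafix⟩ := step y₁ y' hy₁r hy' h
      exact ⟨a, haK, hap, hafix _ (hperp _ _ hxy₁ hxy'), hay⟩
  exact ⟨g₂ * g₁, K.mul_mem hg₂K hg₁K, hg₂.mul hg₁, by rw [Units.val_mul, ← Matrix.mulVec_mulVec, hg₁x, hg₂x],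
    by rw [Units.val_mul, ← Matrix.mulVec_mulVec, ← hy₁, hg₂y]⟩

include hfix htr hiso hθ in
/-- An isotropic vector is a combination of orthogonal rational vectors. -/
theorem perp_of_iso {x y : ι → F} (hx : RatVec F₀ P x) (hy : RatVec F₀ P y) (hw : f.Iso (x + θ • y)) :
    f.B x y = 0 := by
  unfold HermF.Iso at hw
  simp only [map_add, LinearMap.map_smulₛₗ, LinearMap.add_apply, LinearMap.smul_apply, smul_eq_mul, map_smul,
    show f.B x x = 0 from hiso x hx, show f.B y y = 0 from hiso y hy] at hw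
  have h := htr x y hx hy
  rw [f.herm] at h
  refine (mul_eq_zero.mp (show (θ - f.σ θ) * f.B x y = 0 by linear_combination hw - (f.σ θ) * h)).resolve_left
    (sub_ne_zero.mpr fun e => hθ e.symm)

include hfix htr hiso hθ hctr in
/-- One irrational centre gives all of them. -/
theorem all_ctr {w₀ : ι → F} (hw₀ : f.Ctr K w₀) (hirr : ∀ (c : F) y, RatVec F₀ P y → w₀ ≠ c • y)
    {w : ι → F} (hw : f.Iso w) : f.Ctr K w := by
  obtain ⟨x, y, hx, hy, rfl⟩ := exists_decomp f F₀ hfix P θ hθ w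
  by_cases hx0 : x = 0
  · rw [hx0, zero_add]; exact (hctr y hy).smul θ
  by_cases hyx : y ∈ F ∙ x
  · obtain ⟨c, rfl⟩ := Submodule.mem_span_singleton.mp hyx
    rw [smul_smul, show x + (θ * c) • x = (1 + θ * c) • x by rw [add_smul, one_smul]]
    exact (hctr x hx).smul _
  obtain ⟨a, b, ha, hb, rfl⟩ := exists_decomp f F₀ hfix P θ hθ w₀
  have ha0 : a ≠ 0 := fun e => hirr θ b hb (by rw [e, zero_add])
  have hba : b ∉ F ∙ a := fun h => by
    obtain ⟨c, rfl⟩ := Submodule.mem_span_singleton.mp h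
    exact hirr (1 + θ * c) a ha (by rw [smul_smul, add_smul, one_smul])
  obtain ⟨g, hgK, hg, hga, hgb⟩ := pair_move f F₀ hfix P htr hiso θ hθ K hctr ha hb hx hy hba hyx ha0 hx0
    (perp_of_iso f F₀ hfix P htr hiso θ hθ ha hb hw₀.1) (perp_of_iso f F₀ hfix P htr hiso θ hθ hx hy hw)
  have := hw₀.of_conj hgK hg
  rwa [Matrix.mulVec_add, Matrix.mulVec_smul, hga, hgb] at this

include hfix htr hiso hθ hn in
/-- An irrational isotropic centre gives transvections outside the subfield subgroup. -/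
theorem exists_outside : ∃ (w : ι → F) (hw : f.Iso w) (c : F), c + f.σ c = 0 ∧
    f.trans w hw c ∉ Cfsg.Geo.subfieldSubgroup F₀ P := by
  haveI : Nonempty ι := Fintype.card_pos_iff.mp (by omega)
  obtain ⟨z, hz⟩ := exists_ne (0 : ι → F)
  obtain ⟨a, b, ha, hb, hzab⟩ := exists_decomp f F₀ hfix P θ hθ z
  obtain ⟨x, hx, hx0⟩ : ∃ x, RatVec F₀ P x ∧ x ≠ 0 := by
    by_contra h; push Not at h
    exact hz (by rw [hzab, h a ha, h b hb, smul_zero, add_zero])
  obtain ⟨z, hzp, hzx⟩ : ∃ z ∈ f.perp (F ∙ x), z ∉ F ∙ x := by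
    refine SetLike.not_le_iff_exists.mp fun hle => ?_
    have h1 := Submodule.finrank_mono hle
    have h2 : Module.finrank F (F ∙ x) ≤ 1 := (finrank_span_le_card {x}).trans (by simp)
    have h3 := f.finrank_perp_ge (F ∙ x)
    omega
  have hxz : f.B x z = 0 := f.mem_perp_span.mp hzp
  obtain ⟨r, s, hr, hs, rfl⟩ := exists_decomp f F₀ hfix P θ hθ z
  rw [map_add, map_smul, smul_eq_mul] at hxz
  have h1 := congrArg f.σ hxz
  rw [map_add, map_mul, map_zero, show f.σ (f.B x r) = -f.B x r by linear_combination htr x r hx hr,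
    show f.σ (f.B x s) = -f.B x s by linear_combination htr x s hx hs] at h1
  have hs0 : f.B x s = 0 :=
    (mul_eq_zero.mp (show (θ - f.σ θ) * f.B x s = 0 by linear_combination hxz + h1)).resolve_left
      (sub_ne_zero.mpr fun h => hθ h.symm)
  rw [hs0, mul_zero, add_zero] at hxz
  obtain ⟨y, hy, hxy, hyx⟩ : ∃ y, RatVec F₀ P y ∧ f.B x y = 0 ∧ y ∉ F ∙ x := by
    by_cases h : r ∈ F ∙ x
    · exact ⟨s, hs, hs0, fun h' => hzx (add_mem h (Submodule.smul_mem _ _ h'))⟩
    · exact ⟨r, hr, hxz, h⟩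
  have hxx : f.B x x = 0 := hiso x hx
  have hyy : f.B y y = 0 := hiso y hy
  have hw : f.Iso (x + θ • y) := by
    show f.B _ _ = 0
    simp only [map_add, LinearMap.map_smulₛₗ, LinearMap.add_apply, LinearMap.smul_apply, smul_eq_mul, map_smul,
      hxx, hyy, hxy, f.eq_zero_comm hxy]
    ring
  obtain ⟨c, hc0, hc⟩ := f.exists_trace_zero
  refine ⟨_, hw, c, hc, fun hmem => ?_⟩
  obtain ⟨lam, hlam0, hlam⟩ := subfieldSubgroup_apply hmem
  have hwx : f.B (x + θ • y) x = 0 := by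
    simp only [map_add, LinearMap.map_smulₛₗ, LinearMap.add_apply, LinearMap.smul_apply, smul_eq_mul,
      hxx, f.eq_zero_comm hxy, mul_zero, add_zero]
  obtain ⟨x', hx', he⟩ := hlam x hx
  rw [f.trans_mulVec, hwx, mul_zero, zero_smul, add_zero] at he
  have hlamF : lam⁻¹ ∈ F₀ := hx.coeff_mem hx0 (by rw [he, smul_smul, inv_mul_cancel₀ hlam0, one_smul]; exact hx')
  have hlamF' : lam ∈ F₀ := inv_inv lam ▸ F₀.inv_mem hlamF
  obtain ⟨u, hu⟩ : ∃ u, f.B x u ≠ 0 := by
    obtain ⟨u, -, hu⟩ := f.exists_perp_eq_one ⊥ (x := x) (by simpa using hx0)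
    exact ⟨u, by rw [← f.herm u x, hu, map_one]; exact one_ne_zero⟩
  obtain ⟨v, hv, hxv⟩ := exists_rat_witness f F₀ hfix P htr θ hθ hx hu
  obtain ⟨v', hv', he'⟩ := hlam v hv
  rw [f.trans_mulVec] at he'
  set κ := c * f.B (x + θ • y) v with hκ
  have hBwv : f.B (x + θ • y) v ≠ 0 := fun h0 => hxv <| by
    simp only [map_add, LinearMap.map_smulₛₗ, LinearMap.add_apply, LinearMap.smul_apply, smul_eq_mul] at h0
    have h1 := congrArg f.σ h0
    rw [map_add, map_mul, map_zero, f.invol, show f.σ (f.B x v) = -f.B x v by linear_combination htr x v hx hv,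
      show f.σ (f.B y v) = -f.B y v by linear_combination htr y v hy hv] at h1
    have hy0 : f.B y v = 0 :=
      (mul_eq_zero.mp (show (θ - f.σ θ) * f.B y v = 0 by linear_combination -h1 - h0)).resolve_left
        (sub_ne_zero.mpr fun h => hθ h.symm)
    rwa [hy0, mul_zero, add_zero] at h0
  have hrat : RatVec F₀ P (κ • (x + θ • y)) := by
    rw [show κ • (x + θ • y) = lam • v' - v from eq_sub_of_add_eq' he']
    exact (hv'.smul hlamF').sub hv
  clear_value κ
  obtain ⟨p, hp, hxp⟩ := hx.eq_mulVec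
  obtain ⟨q, hq, hyq⟩ := hy.eq_mulVec
  obtain ⟨k₀, hk₀, k₁, hk₁, hk⟩ := exists_coords f F₀ hfix θ hθ κ
  have hcoord : ∀ i, κ * p i + κ * θ * q i ∈ F₀ := fun i => by
    have h := hrat i
    rw [hxp, hyq, ← Matrix.mulVec_smul, ← Matrix.mulVec_add, ← Matrix.mulVec_smul, Matrix.mulVec_mulVec,
      ← Units.val_mul, inv_mul_cancel, Units.val_one, Matrix.one_mulVec] at h
    simpa [mul_add, mul_assoc] using h
  -- the two independent rows
  have hrel : (κ - f.σ κ) • x + (κ * θ - f.σ κ * f.σ θ) • y = 0 := by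
    rw [hxp, hyq, ← Matrix.mulVec_smul, ← Matrix.mulVec_smul, ← Matrix.mulVec_add,
      show (κ - f.σ κ) • p + (κ * θ - f.σ κ * f.σ θ) • q = 0 from funext fun i => by
        have h := (hfix _).mp (hcoord i)
        rw [map_add, map_mul, map_mul, map_mul, (hfix _).mp (hp i), (hfix _).mp (hq i)] at h
        simp only [Pi.add_apply, Pi.smul_apply, smul_eq_mul, Pi.zero_apply]
        linear_combination -h, Matrix.mulVec_zero]
  have h2 : κ * θ - f.σ κ * f.σ θ = 0 := by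
    by_contra h0
    refine hyx (Submodule.mem_span_singleton.mpr ⟨-(κ - f.σ κ) / (κ * θ - f.σ κ * f.σ θ), ?_⟩)
    rw [div_eq_inv_mul, ← smul_smul, neg_smul, ← eq_neg_of_add_eq_zero_right hrel, smul_smul, inv_mul_cancel₀ h0,
      one_smul]
  rw [h2, zero_smul, add_zero] at hrel
  have h1 : κ - f.σ κ = 0 := (smul_eq_zero.mp hrel).resolve_right hx0
  refine mul_ne_zero hc0 hBwv (hκ.symm.trans ?_)
  exact (mul_eq_zero.mp (show κ * (θ - f.σ θ) = 0 by linear_combination h2 - (f.σ θ) * h1)).resolve_right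
    (sub_ne_zero.mpr fun h => hθ h.symm)

end core

/-- Let F be the field with q² elements, n ≥ 13 even, and F₀ the subfield with q elements. Let ζ be a non-zero element with ζ + ζ^q = 0 and P an invertible matrix such that ζ times the standard unitary form takes values in F₀ on the F₀-span of the columns of P and the form vanishes on every pair (u, u) of that span (so ζ times the form restricts to a non-degenerate alternating form there). Then the elements of SU_n(q) lying in the subfield group of P form a maximal subgroup of SU_n(q). -/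
theorem result {F : Type*} [Field F] [Fintype F] (n q : ℕ) (hF : Fintype.card F = q ^ 2) (hn : 13 ≤ n) (heven : Even n) (F₀ : Subfield F) (hcard : Fintype.card F = Nat.card F₀ ^ 2) (ζ : F) (hζ0 : ζ ≠ 0) (hζ : ζ + ζ ^ q = 0) (P : Matrix.GeneralLinearGroup (Fin n) F) (hP : Cfsg.Geo.IsFormRationalStructure (Cfsg.hermForm n F q) F₀ ζ P) (halt : ∀ u : Fin n → F, (∀ i, u i ∈ F₀) → Cfsg.hermForm n F q (Matrix.mulVec (P : Matrix (Fin n) (Fin n) F) u) (Matrix.mulVec (P : Matrix (Fin n) (Fin n) F) u) = 0) : Cfsg.Geo.IsMaximalIn (Cfsg.GU n F q ⊓ Cfsg.Geo.specialLinear (Fin n) F) (Cfsg.Geo.subfieldSubgroup F₀ P ⊓ (Cfsg.GU n F q ⊓ Cfsg.Geo.specialLinear (Fin n) F)) := by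
  obtain ⟨hq1, hq2⟩ : 1 < q ∧ Nat.card F₀ = q := by
    have h1 : 1 < Fintype.card F := Fintype.one_lt_card
    have h2 : q ^ 2 = Nat.card F₀ ^ 2 := by rw [← hF, hcard]
    refine ⟨?_, (Nat.pow_left_injective (by norm_num) h2).symm⟩
    nlinarith
  set f := stdHerm n hF with hf
  have hσ : ∀ a : F, f.σ a = a ^ q := fun a => Cfsg.Agent.Lib.Geometry.frobQ_apply hF a
  have hfix : ∀ a, a ∈ F₀ ↔ f.σ a = a := by
    intro a
    rw [hσ]
    constructor
    · intro ha
      haveI : Fintype F₀ := Fintype.ofFinite _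
      have := FiniteField.pow_card (⟨a, ha⟩ : F₀)
      rw [← Nat.card_eq_fintype_card, hq2] at this
      exact congrArg Subtype.val this
    · intro ha
      classical
      by_contra hna
      haveI : Fintype F₀ := Fintype.ofFinite _
      let S : Finset F := insert a ((Finset.univ : Finset F₀).map ⟨Subtype.val, Subtype.val_injective⟩)
      have hS : S.card = q + 1 := by
        rw [Finset.card_insert_of_notMem (by simp [hna]), Finset.card_map, Finset.card_univ,
          ← Nat.card_eq_fintype_card, hq2]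
      have hne : (Polynomial.X ^ q - Polynomial.X : Polynomial F) ≠ 0 := FiniteField.X_pow_card_sub_X_ne_zero F hq1
      have hle : S.val ≤ (Polynomial.X ^ q - Polynomial.X : Polynomial F).roots := by
        rw [Multiset.le_iff_subset S.nodup]
        intro b hb
        rw [Polynomial.mem_roots hne, Polynomial.IsRoot, Polynomial.eval_sub, Polynomial.eval_pow, Polynomial.eval_X,
          sub_eq_zero]
        rcases Finset.mem_insert.mp hb with rfl | hb'
        · exact ha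
        · obtain ⟨c, -, rfl⟩ := Finset.mem_map.mp hb'
          have := FiniteField.pow_card c
          rw [← Nat.card_eq_fintype_card, hq2] at this
          exact congrArg Subtype.val this
      have h1 := (Multiset.card_le_card hle).trans (Polynomial.card_roots' _)
      rw [FiniteField.X_pow_card_sub_X_natDegree_eq F hq1] at h1
      change S.card ≤ q at h1
      omega
  have hσζ : f.σ ζ = -ζ := by rw [hσ]; linear_combination hζ
  have htr : ∀ x y, RatVec F₀ P x → RatVec F₀ P y → f.B x y + f.σ (f.B x y) = 0 := by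
    intro x y hx hy
    obtain ⟨u, hu, rfl⟩ := hx.eq_mulVec
    obtain ⟨v, hv, rfl⟩ := hy.eq_mulVec
    have h := (hfix _).mp (hP v u hv hu)
    rw [← stdHerm_apply hF, map_mul, hσζ, ← hf] at h
    exact (mul_eq_zero.mp (show ζ * (_ + _) = 0 by linear_combination -h)).resolve_left hζ0
  have hiso : ∀ x, RatVec F₀ P x → f.Iso x := by
    intro x hx
    obtain ⟨u, hu, rfl⟩ := hx.eq_mulVec
    exact halt u hu
  obtain ⟨θ, hθ⟩ := f.exists_moved
  haveI : Nonempty (Fin n) := ⟨⟨0, by omega⟩⟩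
  have hctr : ∀ v, RatVec F₀ P v → f.Ctr (Cfsg.Geo.subfieldSubgroup F₀ P ⊓ (Cfsg.GU n F q ⊓ Cfsg.Geo.specialLinear (Fin n) F)) v := by
    refine fun v hv => ⟨hiso v hv, fun c hc => ⟨mem_subfieldSubgroup fun x hx => ?_,
      mem_suGL hF (f.trans_preserves v _ hc) (tv_mem_specialLinear _ _ _)⟩⟩
    rw [f.trans_mulVec]
    refine hx.add (hv.smul ((hfix _).mpr ?_))
    rw [map_mul, show f.σ c = -c by linear_combination hc,
      show f.σ (f.B v x) = -f.B v x by linear_combination htr v x hv hx]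
    ring
  refine ⟨lt_of_le_of_ne inf_le_right ?_, ?_⟩
  · intro h
    obtain ⟨w, hw, c, hc, hout⟩ := exists_outside f F₀ hfix P htr hiso (by rw [Fintype.card_fin]; omega) θ hθ
    exact hout (h.symm ▸ mem_suGL hF (f.trans_preserves w hw hc) (tv_mem_specialLinear _ _ _) :
      f.trans w hw c ∈ Cfsg.Geo.subfieldSubgroup F₀ P ⊓ (Cfsg.GU n F q ⊓ Cfsg.Geo.specialLinear (Fin n) F)).1
  intro M hle hMS
  by_cases hN : M ≤ Cfsg.Geo.subfieldSubgroup F₀ P
  · exact Or.inl (le_antisymm (le_inf hN hMS) hle)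
  right
  obtain ⟨g, hgM, hg⟩ := SetLike.not_le_iff_exists.mp hN
  obtain ⟨x, hx, hirr⟩ : ∃ x, RatVec F₀ P x ∧
      ∀ (c : F) y, RatVec F₀ P y → (g : Matrix (Fin n) (Fin n) F) *ᵥ x ≠ c • y := by
    by_contra h; push Not at h
    exact hg (mem_subfieldSubgroup_of_lines h)
  have hctrM : ∀ v, RatVec F₀ P v → f.Ctr M v := fun v hv => by
    obtain ⟨hi, hc⟩ := hctr v hv
    exact ⟨hi, fun c h => hle (hc c h)⟩
  refine le_antisymm hMS (suGL_le hF (by omega) fun w hw => ?_)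
  exact all_ctr f F₀ hfix P htr hiso θ hθ M hctrM
    ((hctrM x hx).of_conj hgM ((mem_GU_iff' hF).mp (hMS hgM).1)) hirr hw

end Cfsg.Agent.S5660
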