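import Cfsg.Statements.S5665
import Cfsg.Agent.Lib.ThreeTransp.UniInSymp

set_option autoImplicit false
open Cfsg

namespace Cfsg.Agent.S5665

open Cfsg.Agent.Lib.MaxSub Cfsg.Agent.Lib.ThreeTransp Matrix

/-- For a finite field F of odd order and m ≥ 7, let K be a subfield of the algebra of 2m × 2m matrices over F containing the scalars, of degree 2 over F, that is closed under adjoints for the standard alternating form on F^(2m) but whose elements are not all self-adjoint (so the adjoint map induces the automorphism of order two of K). Then the elements of Sp_2m(F) normalising K form a maximal subgroup of Sp_2m(F). -/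
theorem result {F : Type*} [Field F] [Fintype F] (m : ℕ) (hm : 7 ≤ m) (hodd : Odd (Fintype.card F)) (K : Subalgebra F (Matrix (Fin m ⊕ Fin m) (Fin m ⊕ Fin m) F)) (hK : Cfsg.Geo.IsFieldSubalgebra 2 K) (hac : Cfsg.Geo.IsAdjointClosedFor (Cfsg.sympForm m F) K) (hnsa : ¬ Cfsg.Geo.IsSelfAdjointFor (Cfsg.sympForm m F) K) : Cfsg.Geo.IsMaximalIn (Cfsg.spGL m F) (Cfsg.Geo.subalgebraNormalizer K ⊓ Cfsg.spGL m F) := by
  classical
  haveI : Finite F := Finite.of_fintype F
  haveI : Nonempty (Fin m ⊕ Fin m) := ⟨Sum.inl ⟨0, by omega⟩⟩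
  have h2 : (2 : F) ≠ 0 := Ring.two_ne_zero fun h => Nat.not_even_iff_odd.mpr hodd
    (Nat.even_iff.mpr (FiniteField.even_card_of_char_two h))
  obtain ⟨ω, s, t, G⟩ := QuadSub.exists_gen hK
  set f := stdAlt m F with hf
  have hadj := G.adjoint (B := f.B) f.nondeg
    (fun k hk => by
      obtain ⟨k', hk', h⟩ := hac k hk
      exact ⟨k', hk', fun u v => by rw [hf, stdAlt_apply, stdAlt_apply]; exact h u v⟩)
    (fun h => hnsa fun k hk u v => by
      have := h k hk u v
      rwa [hf, stdAlt_apply, stdAlt_apply] at this)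
  set J := (2 : F) • ω - s • (1 : Matrix (Fin m ⊕ Fin m) (Fin m ⊕ Fin m) F) with hJdef
  set ν := 4 * t + s * s with hν
  have hJ : ∀ x, J *ᵥ x = (2 : F) • ω *ᵥ x - s • x := fun x => by
    rw [hJdef, Matrix.sub_mulVec, Matrix.smul_mulVec, Matrix.smul_mulVec, Matrix.one_mulVec]
  have S : UniInSymp.Sys f J ν :=
    { h2 := h2
      hn := by simp; omega
      sq := fun x => by
        rw [hJ, hJ, Matrix.mulVec_sub, Matrix.mulVec_smul, Matrix.mulVec_smul, G.apply_sq, hν]
        module
      adj := fun x y => by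
        rw [hJ, hJ, map_sub, map_smul, map_smul, LinearMap.sub_apply, LinearMap.smul_apply, LinearMap.smul_apply,
          hadj, map_sub, map_sub, map_smul, map_smul]
        simp only [smul_eq_mul]
        ring
      nsq := fun r hr => G.root ((r + s) / 2) (by field_simp; linear_combination hr) }
  have hbase : ∀ v c, UniInSymp.Sing f J v →
      UniInSymp.root f J ν v c ∈ Cfsg.Geo.subalgebraNormalizer K ⊓ Cfsg.spGL m F := fun v c hv =>
    ⟨G.mem_normalizer_iff.mpr (Or.inl (by
      have h := S.root_comm hv c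
      rw [hJdef, Matrix.mul_sub, Matrix.sub_mul, Matrix.mul_smul, Matrix.mul_smul, Matrix.smul_mul, Matrix.smul_mul,
        Matrix.mul_one, Matrix.one_mul] at h
      exact smul_right_injective _ h2 (sub_left_inj.mp h))), mem_spGL_iff.mpr (UniInSymp.root_preserves v c)⟩
  refine ⟨SetLike.lt_iff_le_and_exists.mpr ⟨inf_le_right, ?_⟩, fun M h1 h2' => ?_⟩
  · obtain ⟨e, x, hx1, hx2⟩ := S.trans_notComm
    refine ⟨f.trans e 1, mem_spGL_iff.mpr (f.trans_preserves e 1), fun hN => ?_⟩
    rcases G.mem_normalizer_iff.mp hN.1 with h | h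
    · refine hx1 ?_
      simp only [hJ, Matrix.mulVec_sub, Matrix.mulVec_smul, Matrix.mulVec_mulVec, h]
    · refine hx2 ?_
      simp only [hJ, Matrix.mulVec_sub, Matrix.mulVec_smul, Matrix.mulVec_mulVec, h, Matrix.sub_mul, Matrix.smul_mul,
        Matrix.one_mul, Matrix.sub_mulVec, Matrix.smul_mulVec]
      module
  · by_cases h : M ≤ Cfsg.Geo.subalgebraNormalizer K
    · exact Or.inl (le_antisymm (le_inf h h2') h1)
    obtain ⟨g, hg, hgN⟩ := SetLike.not_le_iff_exists.mp h
    refine Or.inr (le_antisymm h2' ?_)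
    have hB : UniInSymp.Base f J ν M := fun v c hv => h1 (hbase v c hv)
    obtain ⟨v, hv, hv0, hvb⟩ := S.exists_moved (g := g) fun a b => by
      by_contra hall
      push Not at hall
      refine hgN (G.mem_of_comb (a := (a - b * s + s) / 2) (b := b) fun x => ?_)
      have h3 := hall x
      rw [hJ, hJ, Matrix.mulVec_sub, Matrix.mulVec_smul, Matrix.mulVec_smul] at h3
      refine smul_right_injective _ h2 ?_
      show (2 : F) • _ = (2 : F) • _
      rw [smul_add, smul_smul, smul_smul, mul_div_cancel₀ _ h2]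
      linear_combination (norm := module) h3
    obtain ⟨e, he, he0, hE⟩ := S.exists_centre hB hg (mem_spGL_iff.mp (h2' hg)) hv hv0 hvb
    exact spGL_le (S.all_centres hB he he0 hE)

end Cfsg.Agent.S5665
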