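import Cfsg.Statements.S5667
import Cfsg.Agent.Lib.MaxSub.TensorFrameData
import Cfsg.Agent.Lib.MaxSub.Symplectic

set_option autoImplicit false
open Cfsg

namespace Cfsg.Agent.S5667

open Cfsg.Agent.Lib.MaxSub Cfsg.Agent.Lib.MaxSub.TensorFrame Matrix in
open scoped MatrixGroups Kronecker in
/-- Over the field with 3 elements and for m ≥ 7, suppose the standard alternating form on F^(2m) is similar, through P and e, to the tensor product of a non-degenerate symplectic form f₁ on F^(n₁) and a non-degenerate symmetric bilinear form f₂ on F^3. Then the elements of Sp_2m(3) in the stabiliser of this tensor decomposition form a subgroup that is not maximal: some subgroup lies strictly between it and Sp_2m(3). -/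
theorem result {F : Type*} [Field F] [Fintype F] (m : ℕ) (hm : 7 ≤ m) (hq : Fintype.card F = 3) (n₁ : ℕ) (e : (Fin m ⊕ Fin m) ≃ Fin n₁ × Fin 3) (P : Matrix.GeneralLinearGroup (Fin m ⊕ Fin m) F) (f₁ : (Fin n₁ → F) → (Fin n₁ → F) → F) (f₂ : (Fin 3 → F) → (Fin 3 → F) → F) (hf₁ : Cfsg.Geo.IsSymplecticForm f₁) (hf₂ : Cfsg.Geo.IsSymmetricForm f₂) (hT : Cfsg.Geo.IsTensorFormStructure id (Cfsg.sympForm m F) f₁ f₂ e P) : ∃ K : Subgroup (Matrix.GeneralLinearGroup (Fin m ⊕ Fin m) F), Cfsg.Geo.tensorProductSubgroup n₁ 3 e P ⊓ Cfsg.spGL m F < K ∧ K < Cfsg.spGL m F := by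
  classical
  obtain ⟨c, hc0, hc⟩ := hT
  have e1 : ∀ x y, Cfsg.Geo.formOfGram id (Cfsg.Geo.gramMatrix f₁) x y = f₁ x y := fun x y =>
    formOfGram_gram id hf₁.bilinear.add_left hf₁.bilinear.smul_left hf₁.bilinear.add_right hf₁.bilinear.smul_right x y
  have e2 : ∀ x y, Cfsg.Geo.formOfGram id (Cfsg.Geo.gramMatrix f₂) x y = f₂ x y := fun x y =>
    formOfGram_gram id hf₂.bilinear.add_left hf₂.bilinear.smul_left hf₂.bilinear.add_right hf₂.bilinear.smul_right x y
  set A := stdAlt m F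
  have hB : ∀ x y u w, A.B (tau e P x u) (tau e P y w) = c * (f₁ x y * f₂ u w) := fun x y u w => by
    rw [stdAlt_apply, form_tau (σ := id) (fun _ _ => rfl) hc, e1, e2]
  obtain ⟨v, d, hd, hv, hperm⟩ := exists_frame_symm hq hf₂
  let L : Fin 3 → (Fin n₁ → F) →ₗ[F] (Fin m ⊕ Fin m → F) := fun i => blockLeft e P (v i)
  have hL : ∀ i j u w, A.B (L i u) (L j w) = if i = j then c * (f₁ u w * d) else 0 := fun i j u w => by
    show A.B (tau e P u (v i)) (tau e P w (v j)) = _
    rw [hB, hv]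
    split_ifs <;> simp
  have hinj : ∀ i u, u ≠ 0 → ∃ w, A.B (L i u) (L i w) ≠ 0 := fun i u hu => by
    obtain ⟨w, hw⟩ := (hf₁.nondegenerate u hu).2
    exact ⟨w, by rw [hL, if_pos rfl]; exact mul_ne_zero hc0 (mul_ne_zero hw hd)⟩
  have horth : ∀ i j u w, i ≠ j → A.B (L i u) (L j w) = 0 := fun i j u w h => by rw [hL, if_neg h]
  have hn₁ : 0 < n₁ := by
    have h1 := Fintype.card_congr e
    simp at h1
    omega
  set z : Fin n₁ → F := Pi.single ⟨0, hn₁⟩ 1
  have hz : z ≠ 0 := fun h => one_ne_zero (α := F) (by simpa [z] using congrFun h ⟨0, hn₁⟩)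
  obtain ⟨w₀, hw₀⟩ := hinj 0 z hz
  obtain ⟨w₁, hw₁⟩ := hinj 1 z hz
  have hw₀' : A.B (L 0 w₀) (L 0 z) ≠ 0 := by rw [A.skew]; exact neg_ne_zero.mpr hw₀
  refine between (fun a b => A.B a b) L (fun a => by simp) hinj horth (fun g hg => ?_)
    (g₁ := A.trans (L 0 z) 1) (mem_spGL_iff.mpr (A.trans_preserves _ _)) (fun i u => ?_)
    (i₀ := 0) (i₁ := 1) (fun u => ?_) (u₀ := z) (u₁ := w₀) hz ?_ (fun h => ?_)
    (g₂ := A.trans (L 0 z + L 1 z) 1) (mem_spGL_iff.mpr (A.trans_preserves _ _)) (i := 0) (u := w₀)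
    (j := 0) (j' := 1) (by decide) (w := z) (w' := w₁) ?_ ?_
  · obtain ⟨a, b, hab⟩ := exists_factors hg.1
    have hiso := mem_spGL_iff.mp hg.2
    obtain ⟨x₀, hx₀⟩ := (hf₂.nondegenerate (v 0) fun h => by
      have := hv 0 0
      rw [if_pos rfl, h, ← zero_smul F (0 : Fin 3 → F), hf₂.bilinear.smul_left, zero_mul] at this
      exact hd this.symm).2
    obtain ⟨w, hw⟩ := (hf₁.nondegenerate z hz).2
    obtain ⟨k, hk, hak⟩ := similitude (f₁ := f₂) (f₂ := f₁) (a := b) (b := a) (fun x y u w => by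
      have h1 := hiso (tau e P u x) (tau e P w y)
      rw [hab, hab, hB, hB] at h1
      linear_combination mul_left_cancel₀ hc0 h1) hx₀ hw
    obtain ⟨π, μ, hμ, hav⟩ := hperm b k hk hak
    refine ⟨π, μ, a, hμ, fun i u => ?_⟩
    show (g : Matrix _ _ F) *ᵥ tau e P u (v i) = μ i • tau e P _ (v (π i))
    rw [hab, hav, tau_smul_right]
  · by_cases hi : i = 0
    · subst hi
      exact ⟨_, by rw [AltForm.trans_mulVec, ← map_smul, ← map_add]⟩
    · exact ⟨u, by rw [AltForm.trans_mulVec, horth _ _ _ _ hi]; simp⟩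
  · rw [AltForm.trans_mulVec, horth _ _ _ _ (by decide)]; simp
  · rw [AltForm.trans_mulVec, A.alt]; simp
  · rw [AltForm.trans_mulVec, add_eq_left, one_mul, smul_eq_zero] at h
    rcases h with h | h
    · exact hw₀' h
    · exact hw₀ (by rw [h]; simp)
  all_goals
    show A.B _ _ ≠ 0
    rw [AltForm.trans_mulVec, one_mul, map_add (A.B (L 0 w₀)), horth 0 1 _ _ (by decide), add_zero, map_add A.B,
      LinearMap.add_apply, map_smul, LinearMap.smul_apply, map_add A.B, LinearMap.add_apply, smul_eq_mul]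
  · rw [horth 1 0 _ _ (by decide), A.alt, add_zero, mul_zero, add_zero]; exact hw₀'
  · rw [horth 0 1 _ _ (by decide), horth 0 1 _ _ (by decide), zero_add, zero_add]; exact mul_ne_zero hw₀' hw₁

end Cfsg.Agent.S5667
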