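import Cfsg.Statements.S5670
import Cfsg.Agent.Lib.ThreeTransp.TensorUniMain
import Cfsg.Agent.Lib.MaxSub.TensorFrame

set_option autoImplicit false
open Cfsg

namespace Cfsg.Agent.S5670

open Cfsg.Agent.Lib.MaxSub Cfsg.Agent.Lib.ThreeTransp.Tensor Cfsg.Agent.Lib.ThreeTransp.TensorUni Matrix
open scoped MatrixGroups Matrix Kronecker

/-- A unitary form in the sense of the statement, as a Hermitian form with the arguments exchanged. -/
noncomputable def ofPow {F : Type*} [Field F] [Fintype F] {q : ℕ} (hF : Fintype.card F = q ^ 2) {k : ℕ}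
    {g : (Fin k → F) → (Fin k → F) → F} (hg : Cfsg.Geo.IsUnitaryFormPow q g) (c : F)
    (hc : Lib.Geometry.frobQ hF c = c) (hc0 : c ≠ 0) : HermF (Fin k) F where
  σ := Lib.Geometry.frobQ hF
  σ_ne := Lib.Geometry.frobQ_ne_id hF
  invol := Lib.Geometry.frobQ_frobQ hF
  B := LinearMap.mk₂'ₛₗ (Lib.Geometry.frobQ hF) (RingHom.id F) (fun x y => c * g y x)
    (fun x x' y => by
      rw [hg.herm y (x + x'), hg.add_left, ← Lib.Geometry.frobQ_apply hF, map_add, Lib.Geometry.frobQ_apply,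
        Lib.Geometry.frobQ_apply, ← hg.herm, ← hg.herm, mul_add])
    (fun s x y => by
      rw [hg.herm y (s • x), hg.smul_left, mul_pow, ← hg.herm, smul_eq_mul, Lib.Geometry.frobQ_apply]; ring)
    (fun x y y' => by rw [hg.add_left, mul_add])
    (fun s x y => by rw [hg.smul_left, smul_eq_mul, RingHom.id_apply]; ring)
  symm := ⟨fun x y => by
    show Lib.Geometry.frobQ hF (c * g y x) = c * g x y
    rw [map_mul, hc, Lib.Geometry.frobQ_apply, ← hg.herm]⟩
  nondeg := ⟨fun x hx => by_contra fun h => by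
      obtain ⟨⟨y, hy⟩, -⟩ := hg.nondegenerate x h
      exact mul_ne_zero hc0 hy (hx y),
    fun y hy => by_contra fun h => by
      obtain ⟨-, x, hx⟩ := hg.nondegenerate y h
      exact mul_ne_zero hc0 hx (hy x)⟩

/-- Let F be the field with q² elements and n = n₁ n₂ ≥ 13 with 2 ≤ n₁ < n₂ and (n₁, q) ≠ (2, 2). Suppose the standard unitary form on F^n is similar, through a change of basis P and a bijection of index sets e, to the tensor product of non-degenerate unitary forms f₁ on F^(n₁) and f₂ on F^(n₂) (forms linear in the first argument with f_i(v, w) = f_i(w, v)^q). Then the elements of SU_n(q) in the stabiliser of this tensor decomposition form a maximal subgroup of SU_n(q). -/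
theorem result {F : Type*} [Field F] [Fintype F] (n q : ℕ) (hF : Fintype.card F = q ^ 2) (hn : 13 ≤ n) (n₁ n₂ : ℕ) (h1 : 2 ≤ n₁) (h12 : n₁ < n₂) (hex : ¬ (n₁ = 2 ∧ q = 2)) (e : Fin n ≃ Fin n₁ × Fin n₂) (P : Matrix.GeneralLinearGroup (Fin n) F) (f₁ : (Fin n₁ → F) → (Fin n₁ → F) → F) (f₂ : (Fin n₂ → F) → (Fin n₂ → F) → F) (hf₁ : Cfsg.Geo.IsUnitaryFormPow q f₁) (hf₂ : Cfsg.Geo.IsUnitaryFormPow q f₂) (hT : Cfsg.Geo.IsTensorFormStructure (fun x : F => x ^ q) (Cfsg.hermForm n F q) f₁ f₂ e P) : Cfsg.Geo.IsMaximalIn (Cfsg.GU n F q ⊓ Cfsg.Geo.specialLinear (Fin n) F) (Cfsg.Geo.tensorProductSubgroup n₁ n₂ e P ⊓ (Cfsg.GU n F q ⊓ Cfsg.Geo.specialLinear (Fin n) F)) := by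
  classical
  haveI : Finite F := Finite.of_fintype F
  obtain ⟨c, hc0, hc⟩ := hT
  have h5 : 5 ≤ n₂ := by
    by_contra hlt
    have hn' : n = n₁ * n₂ := by simpa using Fintype.card_congr e
    have : n₁ * n₂ ≤ 3 * 4 := Nat.mul_le_mul (by omega) (by omega)
    omega
  set σ := Lib.Geometry.frobQ hF with hσ
  set std := stdHerm n hF with hstd
  have hq2 := Lib.Geometry.q_pos hF
  have hexq : 3 ≤ n₁ ∨ ∃ t : F, σ t = t ∧ t ≠ 0 ∧ t ≠ 1 := by
    rcases Nat.lt_or_ge n₁ 3 with h | h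
    · refine Or.inr ?_
      have hq3 : 3 ≤ q := by
        by_contra hlt
        exact hex ⟨by omega, by omega⟩
      obtain ⟨u, hu⟩ := IsCyclic.exists_ofOrder_eq_natCard (α := Fˣ)
      refine ⟨(u : F) ^ (q + 1), ?_, pow_ne_zero _ u.ne_zero, fun h1 => ?_⟩
      · have h2 := FiniteField.pow_card (u : F)
        rw [hF] at h2
        rw [hσ, Lib.Geometry.frobQ_apply, ← pow_mul, show (q + 1) * q = q ^ 2 + q by ring, pow_add, h2, ← pow_succ']
      · have h3 : orderOf u ∣ q + 1 := orderOf_dvd_of_pow_eq_one (Units.ext (by simpa using h1))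
        rw [hu, Nat.card_units, Nat.card_eq_fintype_card, hF] at h3
        have h4 := Nat.le_of_dvd (by omega) h3
        have h6 : 3 * q ≤ q ^ 2 := by rw [sq]; exact Nat.mul_le_mul_right q hq3
        omega
    · exact Or.inl h
  -- coordinates
  let L : (Fin n₁ × Fin n₂ → F) →ₗ[F] (Fin n → F) :=
    (Matrix.mulVecLin (P : Matrix (Fin n) (Fin n) F)).comp (LinearMap.funLeft F F e)
  have hL : ∀ x, L x = (P : Matrix (Fin n) (Fin n) F) *ᵥ (x ∘ e) := fun x => rfl
  have hLs : ∀ v, ∃ x, L x = v := fun v =>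
    ⟨(((P⁻¹ : GL (Fin n) F) : Matrix (Fin n) (Fin n) F) *ᵥ v) ∘ e.symm, by
      rw [hL, Function.comp_assoc, Equiv.symm_comp_self, Function.comp_id, Matrix.mulVec_mulVec, ← Units.val_mul,
        mul_inv_cancel, Units.val_one, Matrix.one_mulVec]⟩
  have hLi : ∀ x y, L x = L y → x = y := fun x y h => by
    rw [hL, hL] at h
    have h' := Matrix.mulVec_injective_of_isUnit P.isUnit h
    funext p
    simpa using congrFun h' (e.symm p)
  let B : (Fin n₁ × Fin n₂ → F) →ₛₗ[σ] (Fin n₁ × Fin n₂ → F) →ₗ[F] F :=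
    LinearMap.mk₂'ₛₗ σ (RingHom.id F) (fun x y => std.B (L x) (L y))
      (fun x x' y => by rw [map_add, map_add, LinearMap.add_apply])
      (fun s x y => by rw [map_smul, LinearMap.map_smulₛₗ, LinearMap.smul_apply]; rfl)
      (fun x y y' => by rw [map_add, map_add])
      (fun s x y => by rw [map_smul, map_smul]; rfl)
  let f : HermF (Fin n₁ × Fin n₂) F :=
    { σ := σ
      σ_ne := Lib.Geometry.frobQ_ne_id hF
      invol := Lib.Geometry.frobQ_frobQ hF
      B := B
      symm := ⟨fun x y => std.herm (L x) (L y)⟩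
      nondeg := ⟨fun x hx => hLi x 0 (by
          rw [map_zero]
          refine std.nondeg.1 _ fun v => ?_
          obtain ⟨y, rfl⟩ := hLs v
          exact hx y),
        fun y hy => hLi y 0 (by
          rw [map_zero]
          refine std.nondeg.2 _ fun v => ?_
          obtain ⟨x, rfl⟩ := hLs v
          exact hy x)⟩ }
  have hfB : ∀ x y, f.B x y = std.B (L x) (L y) := fun x y => rfl
  have hgram : ∀ {k : ℕ} {g : (Fin k → F) → (Fin k → F) → F}, Cfsg.Geo.IsUnitaryFormPow q g → ∀ x y,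
      Cfsg.Geo.formOfGram (fun z : F => z ^ q) (Cfsg.Geo.gramMatrix g) x y = g x y := fun {k g} hg x y =>
    TensorFrame.formOfGram_gram _ hg.add_left hg.smul_left
      (fun v x y => by
        rw [hg.herm v (x + y), hg.add_left, ← Lib.Geometry.frobQ_apply hF, map_add, Lib.Geometry.frobQ_apply,
          Lib.Geometry.frobQ_apply, ← hg.herm, ← hg.herm])
      (fun s v x => by rw [hg.herm v (s • x), hg.smul_left, mul_pow, ← hg.herm]) x y
  have hpp : ∀ x u y w, f.B (pure x u) (pure y w) = c * (f₁ y x * f₂ w u) := fun x u y w => by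
    rw [hfB, stdHerm_apply, ← hgram hf₁, ← hgram hf₂]
    exact TensorFrame.form_tau (fun a b => mul_pow a b q) hc y x w u
  have hone : ∀ {k : ℕ} {g : (Fin k → F) → (Fin k → F) → F}, 0 < k → Cfsg.Geo.IsUnitaryFormPow q g →
      ∃ x y, g x y ≠ 0 := fun {k g} hk hg => by
    obtain ⟨-, y, hy⟩ := hg.nondegenerate (Pi.single (⟨0, hk⟩ : Fin k) 1) (by simp)
    exact ⟨_, y, hy⟩
  have hcs : σ c = c := by
    obtain ⟨y, x, hyx⟩ := hone (by omega) hf₁
    obtain ⟨w, u, hwu⟩ := hone (by omega) hf₂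
    have h := f.herm (pure x u) (pure y w)
    rw [hpp, hpp, hf₁.herm x y, hf₂.herm u w] at h
    change σ _ = _ at h
    rw [map_mul, map_mul] at h
    exact mul_right_cancel₀ (mul_ne_zero (pow_ne_zero q hyx) (pow_ne_zero q hwu)) h
  let fA : HermF (Fin n₁) F := ofPow hF hf₁ 1 (map_one _) one_ne_zero
  let fB : HermF (Fin n₂) F := ofPow hF hf₂ c hcs hc0
  have hS : Setting fA fB f := ⟨rfl, rfl, fun x u y w => by
    rw [hpp]
    show _ = 1 * f₁ y x * (c * f₂ w u)
    ring⟩
  -- the isomorphism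
  set φ : GL (Fin n₁ × Fin n₂) F ≃* GL (Fin n) F := (Geo.glReindex e.symm).trans (MulAut.conj P) with hφ
  have hT' : Geo.tensorProductSubgroup n₁ n₂ e P = (Geo.kroneckerSubgroup n₁ n₂ F).map φ.toMonoidHom := by
    rw [Geo.tensorProductSubgroup, Subgroup.map_map]; rfl
  have hdet : ∀ g, φ g ∈ Geo.specialLinear (Fin n) F ↔ g ∈ Geo.specialLinear (Fin n₁ × Fin n₂) F := by
    intro g
    have h : Matrix.GeneralLinearGroup.det (φ g) = Matrix.GeneralLinearGroup.det g := by
      rw [hφ, MulEquiv.trans_apply, MulAut.conj_apply, map_mul, map_mul, map_inv, mul_comm _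
        (Matrix.GeneralLinearGroup.det (Geo.glReindex e.symm g)), mul_inv_cancel_right]
      exact Units.ext (Matrix.det_reindex_self _ _)
    simp only [Geo.specialLinear, MonoidHom.mem_ker, h]
  have hφL : ∀ (g : GL (Fin n₁ × Fin n₂) F) x, (φ g : Matrix (Fin n) (Fin n) F) *ᵥ L x =
      L ((g : Matrix (Fin n₁ × Fin n₂) (Fin n₁ × Fin n₂) F) *ᵥ x) := by
    intro g x
    rw [hL, hL, hφ, MulEquiv.trans_apply, MulAut.conj_apply, Matrix.mulVec_mulVec, ← Units.val_mul,
      inv_mul_cancel_right, Units.val_mul, ← Matrix.mulVec_mulVec]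
    congr 1
    show Matrix.reindex e.symm e.symm (g : Matrix (Fin n₁ × Fin n₂) (Fin n₁ × Fin n₂) F) *ᵥ _ = _
    rw [Matrix.reindex_apply, Equiv.symm_symm, Matrix.submatrix_mulVec_equiv, Function.comp_assoc,
      Equiv.self_comp_symm, Function.comp_id]
  have hGU : ∀ g, φ g ∈ GU n F q ↔ f.Preserves g := fun g => by
    rw [mem_GU_iff' hF]
    refine ⟨fun h x y => ?_, fun h u v => ?_⟩
    · rw [hfB, hfB, ← hφL, ← hφL]; exact h _ _
    · obtain ⟨x, rfl⟩ := hLs u
      obtain ⟨y, rfl⟩ := hLs v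
      rw [hφL, hφL, ← hfB, h]; rfl
  refine ⟨lt_of_le_of_ne inf_le_right fun h => ?_, fun M hMl hMu => ?_⟩
  · -- not all of the special unitary group
    obtain ⟨s, s', hs, -, hss⟩ := Lib.ThreeTransp.TensorUni.exists_pair (h := fA) (by rw [Fintype.card_fin]; omega)
    obtain ⟨β, β', hβ, -, hββ⟩ := Lib.ThreeTransp.TensorUni.exists_pair (h := fB) (by rw [Fintype.card_fin]; omega)
    obtain ⟨d, hd0, hd⟩ := f.exists_trace_zero
    have hiso := pure_iso_left hS hs β
    have ht : φ (f.trans (pure s β) hiso d) ∈ GU n F q ⊓ Geo.specialLinear (Fin n) F :=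
      ⟨(hGU _).mpr (f.trans_preserves _ hiso hd), (hdet _).mpr (tv_mem_specialLinear _ _ _)⟩
    rw [← h, hT', Subgroup.mem_inf, Subgroup.mem_map_equiv, MulEquiv.symm_apply_apply] at ht
    obtain ⟨gh, hgh⟩ := mem_kronecker.mp ht.1
    have h1 := kr_pure gh s' β'
    rw [hgh, trans_mulVec_pure, hS.form, hss, hββ, mul_one, mul_one, ← pure_smul_left] at h1
    have hs'0 : s' ≠ 0 := fun e => by rw [e, map_zero] at hss; exact zero_ne_one hss
    have hβ'0 : β' ≠ 0 := fun e => by rw [e, map_zero] at hββ; exact zero_ne_one hββ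
    obtain ⟨k, hk⟩ := pure_add_pure h1 (fun ⟨k, hk⟩ => by
      have h2 := congrArg (fA.B s) hk
      rw [map_smul, hss, map_smul, show fA.B s s = 0 from hs, smul_eq_mul, mul_one, smul_zero] at h2
      rw [h2, zero_smul] at hk
      have hs0 : s ≠ 0 := fun e => by rw [e, map_zero, LinearMap.zero_apply] at hss; exact zero_ne_one hss
      exact smul_ne_zero hd0 hs0 hk.symm) hs'0 hβ'0
    have h2 := congrArg (fB.B β) hk
    rw [map_smul, hββ, show fB.B β β = 0 from hβ, smul_eq_mul, mul_one] at h2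
    rw [h2, zero_smul] at hk
    rw [← hk, map_zero, LinearMap.zero_apply] at hββ
    exact zero_ne_one hββ
  · have hM : Grp fA fB f (M.comap φ.toMonoidHom) := ⟨fun g hg => (hGU g).mp (hMu hg).1,
      fun gh h1 h2 h3 h4 => hMl ⟨by rw [hT']; exact ⟨kr gh, mem_kronecker.mpr ⟨gh, rfl⟩, rfl⟩,
        (hGU _).mpr (kr_preserves hS h1 h2), (hdet _).mpr (kr_det gh h3 h4)⟩⟩
    rcases dichotomy hS h1 h12 h5 hexq hM with hle | hge
    · refine Or.inl (le_antisymm (le_inf ?_ hMu) hMl)
      intro g hg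
      rw [hT', Subgroup.mem_map_equiv]
      exact hle (show φ (φ.symm g) ∈ M by rwa [φ.apply_symm_apply])
    · refine Or.inr (le_antisymm hMu (suGL_le hF (by omega) fun v hv => ?_))
      obtain ⟨x, rfl⟩ := hLs v
      obtain ⟨hx, hxc⟩ := hge x hv
      refine ⟨hv, fun d hd => ?_⟩
      rw [show (stdHerm n hF).trans (L x) hv d = φ (f.trans x hx d) from Units.ext (eq_of_mulVec_eq fun v => by
        obtain ⟨y, rfl⟩ := hLs v
        rw [HermF.trans_mulVec, hφL, HermF.trans_mulVec, map_add, map_smul]; rfl)]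
      exact hxc d hd

end Cfsg.Agent.S5670
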