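import Cfsg.Statements.S5671
import Cfsg.Agent.Lib.MaxSub.TensorFrameData
import Cfsg.Agent.Lib.MaxSub.UnitaryStd

set_option autoImplicit false
open Cfsg

namespace Cfsg.Agent.S5671

open Cfsg.Agent.Lib.MaxSub Cfsg.Agent.Lib.MaxSub.TensorFrame Matrix in
open scoped MatrixGroups in
/-- The unique frame of a two dimensional unitary space over four elements. -/
theorem exists_frame {F : Type*} [Field F] [Fintype F] (hF : Fintype.card F = 4)
    {f : (Fin 2 → F) → (Fin 2 → F) → F} (hf : Cfsg.Geo.IsUnitaryFormPow 2 f) :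
    ∃ v : Fin 2 → Fin 2 → F, (∀ i j, f (v i) (v j) = if i = j then 1 else 0) ∧
      ∀ (a : GL (Fin 2) F) (k : F), k ≠ 0 →
        (∀ x y, f ((a : Matrix (Fin 2) (Fin 2) F) *ᵥ x) ((a : Matrix (Fin 2) (Fin 2) F) *ᵥ y) = k * f x y) →
        ∃ (π : Equiv.Perm (Fin 2)) (μ : Fin 2 → F), (∀ i, μ i ≠ 0) ∧
          ∀ i, (a : Matrix (Fin 2) (Fin 2) F) *ᵥ v i = μ i • v (π i) := by
  classical
  have h2 : (2 : F) = 0 := by
    have h := FiniteField.cast_card_eq_zero F
    rw [hF] at h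
    exact mul_self_eq_zero.mp (by push_cast at h; linear_combination h)
  haveI : CharP F 2 := CharTwo.of_one_ne_zero_of_two_eq_zero one_ne_zero h2
  have h3 : ∀ z : F, z ≠ 0 → z * z * z = 1 := fun z hz => by
    have := FiniteField.pow_card_sub_one_eq_one z hz
    rw [hF] at this
    linear_combination this
  have h01 : ∀ z : F, z = z ^ 2 → z ≠ 0 → z = 1 := fun z h hz =>
    (mul_left_cancel₀ hz (by linear_combination h) : (1 : F) = z).symm
  have hdiag : ∀ x, f x x ≠ 0 → f x x = 1 := fun x hx => h01 _ (hf.herm x x) hx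
  have har : ∀ v x y, f v (x + y) = f v x + f v y := fun v x y => by
    rw [hf.herm v, hf.add_left, hf.herm v x, hf.herm v y, CharTwo.add_sq]
  have hsr : ∀ (c : F) v x, f v (c • x) = c ^ 2 * f v x := fun c v x => by
    rw [hf.herm v, hf.smul_left, hf.herm v x, mul_pow]
  obtain ⟨p, hp⟩ : ∃ p, f p p ≠ 0 := by
    by_contra hall
    push Not at hall
    obtain ⟨x, hx⟩ : ∃ x : Fin 2 → F, x ≠ 0 := ⟨![1, 0], fun h => one_ne_zero (α := F) (congrFun h 0)⟩
    obtain ⟨y, hy⟩ := (hf.nondegenerate x hx).2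
    obtain ⟨ω, hω0, hω1⟩ : ∃ ω : F, ω ≠ 0 ∧ ω ≠ 1 := by
      by_contra hc
      push Not at hc
      have hsub : (Finset.univ : Finset F) ⊆ {0, 1} := fun z _ => by
        by_cases hz : z = 0
        · simp [hz]
        · simp [hc z hz]
      have := (Finset.card_le_card hsub).trans Finset.card_le_two
      rw [Finset.card_univ, hF] at this
      omega
    have e1 := hall (x + y)
    have e2 := hall (x + ω • y)
    rw [hf.add_left, har, har, hall x, hall y, hf.herm y x] at e1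
    rw [hf.add_left, har, har, hall x, hf.smul_left, hsr, hsr, hf.smul_left, hall y, hf.herm y x] at e2
    have e3 : f x y * (ω ^ 2 - ω) = 0 := by linear_combination e2 - ω * e1
    rcases mul_eq_zero.mp e3 with h | h
    · exact hy h
    · exact hω1 (mul_left_cancel₀ hω0 (by linear_combination h))
  have hp1 := hdiag p hp
  obtain ⟨q, hq0, hpq⟩ : ∃ q : Fin 2 → F, q ≠ 0 ∧ f q p = 0 := by
    let L : (Fin 2 → F) →ₗ[F] F :=
      { toFun := fun x => f x p, map_add' := fun x y => hf.add_left x y p, map_smul' := fun c x => hf.smul_left c x p }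
    obtain ⟨q, hq, hq0⟩ := (Submodule.ne_bot_iff _).mp (LinearMap.ker_ne_bot_of_finrank_lt (f := L) (by simp))
    exact ⟨q, hq0, hq⟩
  have hqp : f p q = 0 := by rw [hf.herm, hpq]; ring
  have hpq' : LinearIndependent F ![p, q] := LinearIndependent.pair_iff.mpr fun s t h => by
    have h1 := congrArg (fun z => f z p) h
    simp only [hf.add_left, hf.smul_left, hp1, hpq, mul_one, mul_zero, add_zero] at h1
    rw [show f (0 : Fin 2 → F) p = 0 by rw [← zero_smul F p, hf.smul_left, zero_mul]] at h1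
    subst h1
    rw [zero_smul, zero_add, smul_eq_zero] at h
    exact ⟨rfl, h.resolve_right hq0⟩
  let bv := basisOfLinearIndependentOfCardEqFinrank hpq' (by simp)
  have hexp : ∀ x, ∃ s t : F, x = s • p + t • q := fun x => ⟨bv.repr x 0, bv.repr x 1, by
    conv_lhs => rw [← bv.sum_repr x]
    simp [bv, Fin.sum_univ_two]⟩
  have hq1 : f q q = 1 := hdiag q fun h0 => by
    obtain ⟨y, hy⟩ := (hf.nondegenerate q hq0).2
    obtain ⟨s, t, rfl⟩ := hexp y
    rw [har, hsr, hsr, hpq, h0] at hy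
    exact hy (by ring)
  have hv : ∀ i j, f (![p, q] i) (![p, q] j) = if i = j then 1 else 0 := fun i j => by
    fin_cases i <;> fin_cases j <;> simp [hp1, hq1, hpq, hqp]
  refine ⟨![p, q], hv, fun a k hk ha => ?_⟩
  have hk1 : k = 1 := h01 k (by
    have h1 := hf.herm ((a : Matrix (Fin 2) (Fin 2) F) *ᵥ p) ((a : Matrix (Fin 2) (Fin 2) F) *ᵥ p)
    rw [ha, hp1, mul_one] at h1
    exact h1) hk
  subst hk1
  have hline : ∀ i, ∃ j, ∃ s : F, s ≠ 0 ∧ (a : Matrix (Fin 2) (Fin 2) F) *ᵥ ![p, q] i = s • ![p, q] j := by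
    intro i
    obtain ⟨s, t, hst⟩ := hexp ((a : Matrix (Fin 2) (Fin 2) F) *ᵥ ![p, q] i)
    have h1 : f (s • p + t • q) (s • p + t • q) = 1 := by rw [← hst, ha, hv, if_pos rfl, one_mul]
    rw [hf.add_left, har, har, hf.smul_left, hf.smul_left, hf.smul_left, hf.smul_left, hsr, hsr, hsr, hsr, hp1, hq1,
      hpq, hqp] at h1
    by_cases hs : s = 0
    · refine ⟨1, t, fun ht => zero_ne_one (α := F) (by rw [hs, ht] at h1; linear_combination h1), ?_⟩
      rw [hst, hs]; simp
    by_cases ht : t = 0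
    · exact ⟨0, s, hs, by rw [hst, ht]; simp⟩
    exfalso
    exact one_ne_zero (α := F) (by linear_combination h1 - h3 s hs - h3 t ht)
  choose g s hs hg using hline
  obtain ⟨π, hπ⟩ := permEquiv g fun i j he => by
    by_contra hne
    have h1 := ha (![p, q] i) (![p, q] j)
    rw [hg, hg, he, hf.smul_left, hsr, hv, hv, if_pos rfl, if_neg hne, mul_zero, mul_one] at h1
    exact mul_ne_zero (hs i) (pow_ne_zero 2 (hs j)) h1
  exact ⟨π, s, hs, fun i => by rw [hπ, hg]⟩

open Cfsg.Agent.Lib.MaxSub Cfsg.Agent.Lib.MaxSub.TensorFrame Matrix in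
open scoped MatrixGroups Kronecker in
/-- Let F be the field with 4 elements (q = 2) and n = 2 n₂ ≥ 13. Suppose the standard unitary form Σ u_i v_i² on F^n is similar, through P and e, to the tensor product of non-degenerate unitary forms f₁ on F^2 and f₂ on F^(n₂). Then the elements of SU_n(2) in the stabiliser of this tensor decomposition form a subgroup that is not maximal: some subgroup lies strictly between it and SU_n(2). -/
theorem result {F : Type*} [Field F] [Fintype F] (n : ℕ) (hF : Fintype.card F = 4) (hn : 13 ≤ n) (n₂ : ℕ) (e : Fin n ≃ Fin 2 × Fin n₂) (P : Matrix.GeneralLinearGroup (Fin n) F) (f₁ : (Fin 2 → F) → (Fin 2 → F) → F) (f₂ : (Fin n₂ → F) → (Fin n₂ → F) → F) (hf₁ : Cfsg.Geo.IsUnitaryFormPow 2 f₁) (hf₂ : Cfsg.Geo.IsUnitaryFormPow 2 f₂) (hT : Cfsg.Geo.IsTensorFormStructure (fun x : F => x ^ 2) (Cfsg.hermForm n F 2) f₁ f₂ e P) : ∃ K : Subgroup (Matrix.GeneralLinearGroup (Fin n) F), Cfsg.Geo.tensorProductSubgroup 2 n₂ e P ⊓ (Cfsg.GU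 n F 2 ⊓ Cfsg.Geo.specialLinear (Fin n) F) < K ∧ K < (Cfsg.GU n F 2 ⊓ Cfsg.Geo.specialLinear (Fin n) F) := by
  classical
  have hF2 : Fintype.card F = 2 ^ 2 := hF
  have h2 : (2 : F) = 0 := by
    have h := FiniteField.cast_card_eq_zero F
    rw [hF] at h
    exact mul_self_eq_zero.mp (by push_cast at h; linear_combination h)
  haveI : CharP F 2 := CharTwo.of_one_ne_zero_of_two_eq_zero one_ne_zero h2
  obtain ⟨c, hc0, hc⟩ := hT
  have har : ∀ {k : ℕ} {f : (Fin k → F) → (Fin k → F) → F}, Cfsg.Geo.IsUnitaryFormPow 2 f →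
      ∀ v x y, f v (x + y) = f v x + f v y := fun {k f} hf v x y => by
    rw [hf.herm v, hf.add_left, hf.herm v x, hf.herm v y, CharTwo.add_sq]
  have hsr : ∀ {k : ℕ} {f : (Fin k → F) → (Fin k → F) → F}, Cfsg.Geo.IsUnitaryFormPow 2 f →
      ∀ (a : F) v x, f v (a • x) = a ^ 2 * f v x := fun {k f} hf a v x => by
    rw [hf.herm v, hf.smul_left, hf.herm v x, mul_pow]
  have e1 : ∀ x y, Cfsg.Geo.formOfGram (fun a : F => a ^ 2) (Cfsg.Geo.gramMatrix f₁) x y = f₁ x y := fun x y =>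
    formOfGram_gram _ hf₁.add_left hf₁.smul_left (har hf₁) (hsr hf₁) x y
  have e2 : ∀ x y, Cfsg.Geo.formOfGram (fun a : F => a ^ 2) (Cfsg.Geo.gramMatrix f₂) x y = f₂ x y := fun x y =>
    formOfGram_gram _ hf₂.add_left hf₂.smul_left (har hf₂) (hsr hf₂) x y
  set H := stdHerm n hF2
  have hB : ∀ x y u w, Cfsg.hermForm n F 2 (tau e P x u) (tau e P y w) = c * (f₁ x y * f₂ u w) := fun x y u w => by
    rw [form_tau (σ := fun a : F => a ^ 2) (fun a b => mul_pow a b 2) hc, e1, e2]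
  obtain ⟨v, hv, hperm⟩ := exists_frame hF hf₁
  let L : Fin 2 → (Fin n₂ → F) →ₗ[F] (Fin n → F) := fun i => block e P (v i)
  have hL : ∀ i j u w, H.B (L j w) (L i u) = if i = j then c * f₂ u w else 0 := fun i j u w => by
    show Cfsg.hermForm n F 2 (tau e P (v i) u) (tau e P (v j) w) = _
    rw [hB, hv]
    split_ifs <;> simp
  have hinj : ∀ i u, u ≠ 0 → ∃ w, H.B (L i u) (L i w) ≠ 0 := fun i u hu => by
    obtain ⟨w, hw⟩ := (hf₂.nondegenerate u hu).1
    exact ⟨w, by rw [hL, if_pos rfl]; exact mul_ne_zero hc0 hw⟩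
  have horth : ∀ i j u w, i ≠ j → H.B (L i u) (L j w) = 0 := fun i j u w h => by rw [hL, if_neg (Ne.symm h)]
  have hn₂ : 2 ≤ n₂ := by
    have h1 := Fintype.card_congr e
    simp at h1
    omega
  obtain ⟨z, hz, hzz⟩ : ∃ z : Fin n₂ → F, z ≠ 0 ∧ f₂ z z = 0 := by
    by_contra hall
    push Not at hall
    have h01 : ∀ z, z ≠ 0 → f₂ z z = 1 := fun z hz =>
      (mul_left_cancel₀ (hall z hz) (by linear_combination hf₂.herm z z) : (1 : F) = f₂ z z).symm
    set x : Fin n₂ → F := Pi.single ⟨0, by omega⟩ 1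
    have hx : x ≠ 0 := fun h => one_ne_zero (α := F) (by simpa [x] using congrFun h ⟨0, by omega⟩)
    let φ : (Fin n₂ → F) →ₗ[F] F :=
      { toFun := fun y => f₂ y x, map_add' := fun y y' => hf₂.add_left y y' x,
        map_smul' := fun a y => hf₂.smul_left a y x }
    obtain ⟨y, hy, hy0⟩ := (Submodule.ne_bot_iff _).mp (LinearMap.ker_ne_bot_of_finrank_lt (f := φ) (by simp; omega))
    have hyx : f₂ y x = 0 := hy
    have hxy : f₂ x y = 0 := by rw [hf₂.herm, hyx]; ring
    have hne : x + y ≠ 0 := fun h => by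
      rw [eq_neg_of_add_eq_zero_right h, ← neg_one_smul F x, hf₂.smul_left, h01 x hx] at hyx
      exact one_ne_zero (α := F) (by linear_combination -hyx)
    have h1 := h01 _ hne
    rw [hf₂.add_left, har hf₂, har hf₂, h01 x hx, h01 y hy0, hxy, hyx] at h1
    exact one_ne_zero (α := F) (by linear_combination h2 - h1)
  have hiso₀ : ∀ i, H.Iso (L i z) := fun i => by
    show H.B _ _ = 0
    rw [hL, if_pos rfl, hzz, mul_zero]
  have hiso : H.Iso (L 0 z + L 1 z) := by
    show H.B _ _ = 0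
    rw [map_add H.B, LinearMap.add_apply, map_add, map_add, show H.B (L 0 z) (L 0 z) = 0 from hiso₀ 0,
      show H.B (L 1 z) (L 1 z) = 0 from hiso₀ 1, horth 0 1 _ _ (by decide), horth 1 0 _ _ (by decide)]
    ring
  have htz : (1 : F) + H.σ 1 = 0 := by rw [map_one]; linear_combination h2
  obtain ⟨w₀, hw₀⟩ := hinj 0 z hz
  obtain ⟨w₁, hw₁⟩ := hinj 1 z hz
  have hw₀' : H.B (L 0 w₀) (L 0 z) ≠ 0 := fun h => hw₀ (H.eq_zero_comm h)
  refine between (fun a b => H.B a b) L (fun a => by simp) hinj horth (fun g hg => ?_)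
    (g₁ := H.trans (L 0 z) (hiso₀ 0) 1) (mem_suGL hF2 (H.trans_preserves _ _ htz) (tv_mem_specialLinear _ _ _))
    (fun i u => ?_) (i₀ := 0) (i₁ := 1) (fun u => ?_) (u₀ := z) (u₁ := w₀) hz ?_ (fun h => ?_)
    (g₂ := H.trans (L 0 z + L 1 z) hiso 1) (mem_suGL hF2 (H.trans_preserves _ _ htz) (tv_mem_specialLinear _ _ _))
    (i := 0) (u := w₀) (j := 0) (j' := 1) (by decide) (w := z) (w' := w₁) ?_ ?_
  · obtain ⟨a, b, hab⟩ := exists_factors hg.1
    have hU : ∀ x y, Cfsg.hermForm n F 2 ((g : Matrix (Fin n) (Fin n) F) *ᵥ x) ((g : Matrix (Fin n) (Fin n) F) *ᵥ y) =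
        Cfsg.hermForm n F 2 x y := hg.2.1
    obtain ⟨k, hk, hak⟩ := similitude (f₁ := f₁) (f₂ := f₂) (a := a) (b := b) (fun x y u w => by
      have h1 := hU (tau e P x u) (tau e P y w)
      rw [hab, hab, hB, hB] at h1
      exact mul_left_cancel₀ hc0 h1) (x₀ := v 0) (y₀ := v 0) (by rw [hv, if_pos rfl]; exact one_ne_zero)
      (u₀ := z) (w₀ := (hf₂.nondegenerate z hz).2.choose)
      (hf₂.nondegenerate z hz).2.choose_spec
    obtain ⟨π, μ, hμ, hav⟩ := hperm a k hk hak
    refine ⟨π, μ, b, hμ, fun i u => ?_⟩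
    show (g : Matrix _ _ F) *ᵥ tau e P (v i) u = μ i • tau e P (v (π i)) _
    rw [hab, hav, tau_smul_left]
  · by_cases hi : i = 0
    · subst hi
      exact ⟨_, by rw [HermF.trans_mulVec, ← map_smul, ← map_add]⟩
    · exact ⟨u, by rw [HermF.trans_mulVec, horth _ _ _ _ (Ne.symm hi)]; simp⟩
  · rw [HermF.trans_mulVec, horth _ _ _ _ (by decide)]; simp
  · rw [HermF.trans_mulVec, show H.B (L 0 z) (L 0 z) = 0 from hiso₀ 0]; simp
  · rw [HermF.trans_mulVec, add_eq_left, one_mul, smul_eq_zero] at h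
    rcases h with h | h
    · exact hw₀ h
    · exact hw₀ (by rw [h]; simp)
  all_goals
    show H.B _ _ ≠ 0
    rw [HermF.trans_mulVec, one_mul, map_add H.B (L 0 z), LinearMap.add_apply, horth 1 0 _ _ (by decide), add_zero,
      map_add H.B (L 0 w₀), LinearMap.add_apply, LinearMap.map_smulₛₗ, LinearMap.smul_apply, map_add H.B,
      LinearMap.add_apply, smul_eq_mul]
  · rw [show H.B (L 0 z) (L 0 z) = 0 from hiso₀ 0, horth 1 0 _ _ (by decide), add_zero, mul_zero, add_zero]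
    exact hw₀'
  · rw [horth 0 1 _ _ (by decide), horth 0 1 _ _ (by decide), zero_add, zero_add]
    exact mul_ne_zero ((map_ne_zero H.σ).mpr hw₀) hw₁

end Cfsg.Agent.S5671
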