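import Cfsg.Statements.S5674
import Cfsg.Agent.Lib.MaxSub.Orth

set_option autoImplicit false
open Cfsg

namespace Cfsg.Agent.S5674

theorem nondeg {F : Type*} [Field F] {m : ℕ} (h2 : (2 : F) ≠ 0) :
    Cfsg.Geo.IsNondegenerateQuadraticForm (Cfsg.quadFormOdd m F) := by
  have hpol : ∀ v w, QuadraticMap.polar (Cfsg.quadFormOdd m F) v w = 2 * v (.inl ()) * w (.inl ()) +
      ∑ i : Fin m, (v (.inr (.inl i)) * w (.inr (.inr i)) + w (.inr (.inl i)) * v (.inr (.inr i))) := by
    intro v w
    simp only [QuadraticMap.polar, Cfsg.quadFormOdd, Pi.add_apply, add_mul, mul_add, Finset.sum_add_distrib]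
    ring
  have hzero : ∀ v, (∀ w, QuadraticMap.polar (Cfsg.quadFormOdd m F) v w = 0) → v = 0 := by
    intro v hv
    funext i
    rcases i with ⟨⟩ | i | i
    · have := hv (Pi.single (.inl ()) 1)
      simpa [hpol, h2] using this
    · have := hv (Pi.single (.inr (.inr i)) 1)
      simpa [hpol, Pi.single_apply] using this
    · have := hv (Pi.single (.inr (.inl i)) 1)
      simpa [hpol, Pi.single_apply] using this
  refine ⟨fun c v => ?_, ⟨fun x y v => ?_, fun c x v => ?_, fun v x y => ?_, fun c v x => ?_⟩, fun v hv => ?_⟩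
  · simp only [Cfsg.quadFormOdd, Pi.smul_apply, smul_eq_mul, mul_add, Finset.mul_sum, mul_pow]
    exact congrArg _ (Finset.sum_congr rfl fun i _ => by ring)
  · simp only [hpol, Pi.add_apply, add_mul, mul_add, Finset.sum_add_distrib]
    ring
  · simp only [hpol, Pi.smul_apply, smul_eq_mul, mul_add, Finset.mul_sum, Finset.sum_add_distrib, mul_assoc,
      mul_left_comm _ c]
  · simp only [hpol, Pi.add_apply, add_mul, mul_add, Finset.sum_add_distrib]
    ring
  · simp only [hpol, Pi.smul_apply, smul_eq_mul, mul_add, Finset.mul_sum, Finset.sum_add_distrib, mul_assoc,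
      mul_left_comm _ c]
  · constructor
    · by_contra hc
      push Not at hc
      exact hv (hzero v fun w => by rw [QuadraticMap.polar_comm]; exact hc w)
    · by_contra hc
      push Not at hc
      exact hv (hzero v hc)

open Cfsg.Agent.Lib.MaxSub in
/-- Let F be a finite field of odd order, m ≥ 6, Q the standard quadratic form x₀² + Σ x_i y_i on F^(2m+1) and Ω the commutator subgroup of its isometry group inside GL_(2m+1)(F). The elements of Ω stabilising a non-zero subspace on which Q vanishes form a maximal subgroup of Ω. -/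
theorem result {F : Type*} [Field F] [Fintype F] (hodd : Odd (Fintype.card F)) (m : ℕ) (hm : 6 ≤ m) (W : Submodule F (Unit ⊕ (Fin m ⊕ Fin m) → F)) (hW0 : W ≠ ⊥) (hW : Cfsg.Geo.IsTotallySingularQuad (Cfsg.quadFormOdd m F) W) : Cfsg.Geo.IsMaximalIn (Cfsg.Geo.omegaGL (Cfsg.quadFormOdd m F)) (Cfsg.Geo.subspaceStabilizer W ⊓ Cfsg.Geo.omegaGL (Cfsg.quadFormOdd m F)) := by
  have h2 : (2 : F) ≠ 0 := Ring.two_ne_zero fun h => Nat.not_even_iff_odd.mpr hodd
    (Nat.even_iff.mpr (FiniteField.even_card_of_char_two h))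
  obtain ⟨Q, hQe, hN⟩ := Orth.exists_quadraticForm (nondeg (m := m) h2)
  rw [hQe] at hW ⊢
  refine Orth.singular_stabiliser_maximal hN (by simp; omega) hW0 hW fun U U' hU hU' h1 h3 => ?_
  have h4 := Orth.finrank_sing_le hN hU
  have h5 := Orth.finrank_sing_le hN hU'
  simp only [Fintype.card_sum, Fintype.card_fin, Fintype.card_unit] at h1 h4 h5
  omega

end Cfsg.Agent.S5674
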