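import Cfsg.Statements.S5675
import Cfsg.Agent.Lib.MaxSub.OrthSplitMain
import Cfsg.Agent.S5674

set_option autoImplicit false
open Cfsg

namespace Cfsg.Agent.S5675

open Cfsg.Agent.Lib.MaxSub in
/-- Let F be a finite field of odd order q, m ≥ 6, Q the standard quadratic form on F^(2m+1) and Ω the commutator subgroup of its isometry group. Let W be a non-zero subspace of even dimension on which the polar form of Q is non-degenerate; exclude the case q = 3, dim W = 2 with Q vanishing on some line of W (a plus-type plane). Then the elements of Ω stabilising W (equivalently, stabilising its orthogonal complement, of odd dimension) form a maximal subgroup of Ω. -/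
theorem result {F : Type*} [Field F] [Fintype F] (hodd : Odd (Fintype.card F)) (m : ℕ) (hm : 6 ≤ m) (W : Submodule F (Unit ⊕ (Fin m ⊕ Fin m) → F)) (hW0 : W ≠ ⊥) (hev : Even (Module.finrank F W)) (hW : Cfsg.Geo.IsNondegenerateOn (QuadraticMap.polar (Cfsg.quadFormOdd m F)) W) (hex : ¬ (Fintype.card F = 3 ∧ Module.finrank F W = 2 ∧ Cfsg.Geo.IsPlusTypeOn (Cfsg.quadFormOdd m F) W)) : Cfsg.Geo.IsMaximalIn (Cfsg.Geo.omegaGL (Cfsg.quadFormOdd m F)) (Cfsg.Geo.subspaceStabilizer W ⊓ Cfsg.Geo.omegaGL (Cfsg.quadFormOdd m F)) := by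
  have h2 : (2 : F) ≠ 0 := Ring.two_ne_zero fun h => Nat.not_even_iff_odd.mpr hodd
    (Nat.even_iff.mpr (FiniteField.even_card_of_char_two h))
  obtain ⟨Q, hQe, hN⟩ := Orth.exists_quadraticForm (Cfsg.Agent.S5674.nondeg (m := m) h2)
  rw [hQe] at hW hex ⊢
  obtain ⟨Y, S⟩ := OrthSplit.exists_split hN hW
  have hfd := S.finrank_add
  simp only [Fintype.card_sum, Fintype.card_unit, Fintype.card_fin] at hfd
  obtain ⟨r, hr⟩ := hev
  refine OrthSplit.maximal_of_nondegenerate (by simp; omega) S hW0 ?_ ?_ (fun h => ?_) fun he g hg hgW => ?_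
  · rintro rfl
    rw [finrank_top, Module.finrank_fintype_fun_eq_card] at hr
    simp at hr
    omega
  · intro h
    by_cases h4 : 4 ≤ Nat.card F
    · exact Or.inl h4
    refine Or.inr fun w hw hq => by_contra fun hw0 => hex ⟨?_, h, OrthSplit.isPlusTypeOn_of_singular h hw hq hw0⟩
    rw [← Nat.card_eq_fintype_card]
    obtain ⟨s, hs⟩ := hodd
    rw [← Nat.card_eq_fintype_card] at hs
    have := Finite.one_lt_card (α := F)
    omega
  · omega
  · omega

end Cfsg.Agent.S5675
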