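import Cfsg.Statements.S5677
import Cfsg.Agent.Lib.ThreeTransp.DecompOrth
import Cfsg.Agent.Lib.MaxSub.DecompAux
import Cfsg.Agent.S5674

set_option autoImplicit false
open Cfsg

namespace Cfsg.Agent.S5677

open Cfsg.Agent.Lib.MaxSub in
/-- Let F be a finite field of odd order q, m ≥ 6, Q the standard quadratic form on F^(2m+1) and Ω the commutator subgroup of its isometry group. Let D be a decomposition of F^(2m+1) into t ≥ 2 pairwise orthogonal, pairwise Q-isometric subspaces of equal dimension k > 1 on which the polar form is non-degenerate. Unless q = 3 and k = 3, the elements of Ω permuting the members of D form a maximal subgroup of Ω. -/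
theorem result {F : Type*} [Field F] [Fintype F] (hodd : Odd (Fintype.card F)) (m : ℕ) (hm : 6 ≤ m) {t : ℕ} (k : ℕ) (hk : 1 < k) (D : Fin t → Submodule F (Unit ⊕ (Fin m ⊕ Fin m) → F)) (hD : Cfsg.Geo.IsOrthogonalMDecomposition (Cfsg.quadFormOdd m F) k D) (hex : ¬ (Fintype.card F = 3 ∧ k = 3)) : Cfsg.Geo.IsMaximalIn (Cfsg.Geo.omegaGL (Cfsg.quadFormOdd m F)) (Cfsg.Geo.decompositionStabilizer D ⊓ Cfsg.Geo.omegaGL (Cfsg.quadFormOdd m F)) := by
  classical
  have h2 : (2 : F) ≠ 0 := Ring.two_ne_zero fun h => Nat.not_even_iff_odd.mpr hodd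
    (Nat.even_iff.mpr (FiniteField.even_card_of_char_two h))
  obtain ⟨Q, hQe, hN⟩ := Orth.exists_quadraticForm (Cfsg.Agent.S5674.nondeg (m := m) h2)
  rw [hQe] at hD ⊢
  have hc := DecompAux.card_eq_mul hD.decomp.decomp
  simp only [Fintype.card_sum, Fintype.card_unit, Fintype.card_fin] at hc
  have hko : Odd k := (Nat.odd_mul.mp (hc ▸ ⟨m, by ring⟩ : Odd (t * k))).2
  obtain ⟨k', rfl⟩ := hko
  refine Cfsg.Agent.Lib.ThreeTransp.DecompOrth.maximal hN h2 (by simp; omega) (by omega) hD ?_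
  by_cases h5 : 5 ≤ 2 * k' + 1
  · exact Or.inr h5
  · refine Or.inl ?_
    have h3 : Fintype.card F ≠ 3 := fun h => hex ⟨h, by omega⟩
    obtain ⟨r, hr⟩ := hodd
    have h1 := Fintype.one_lt_card (α := F)
    omega

end Cfsg.Agent.S5677
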