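import Cfsg.Statements.S5680
import Cfsg.Agent.Lib.ThreeTransp.ExtOrthMatrix
import Cfsg.Agent.S5674

set_option autoImplicit false
open Cfsg

namespace Cfsg.Agent.S5680

/-- Let F be a finite field of odd order, m ≥ 6, Q the standard quadratic form on F^(2m+1) and Ω the commutator subgroup of its isometry group. Let K be a subfield of the algebra of (2m+1) × (2m+1) matrices over F containing the scalars, of prime degree r over F with r ≠ 2m + 1, whose elements are self-adjoint for the polar form of Q. Then the elements of Ω normalising K form a maximal subgroup of Ω. -/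
theorem result {F : Type*} [Field F] [Fintype F] (hodd : Odd (Fintype.card F)) (m : ℕ) (hm : 6 ≤ m) (r : ℕ) (hr : r.Prime) (hrn : 2 * m + 1 ≠ r) (K : Subalgebra F (Matrix (Unit ⊕ (Fin m ⊕ Fin m)) (Unit ⊕ (Fin m ⊕ Fin m)) F)) (hK : Cfsg.Geo.IsFieldSubalgebra r K) (hsa : Cfsg.Geo.IsSelfAdjointFor (QuadraticMap.polar (Cfsg.quadFormOdd m F)) K) : Cfsg.Geo.IsMaximalIn (Cfsg.Geo.omegaGL (Cfsg.quadFormOdd m F)) (Cfsg.Geo.subalgebraNormalizer K ⊓ Cfsg.Geo.omegaGL (Cfsg.quadFormOdd m F)) := by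
  have hcard : Fintype.card (Unit ⊕ (Fin m ⊕ Fin m)) = 2 * m + 1 := by simp; omega
  have h2 : (2 : F) ≠ 0 := Ring.two_ne_zero fun h => Nat.not_even_iff_odd.mpr hodd
    (Nat.even_iff.mpr (FiniteField.even_card_of_char_two h))
  obtain ⟨L, _, _, _, _, _, e, hrk, -⟩ := Cfsg.Agent.Lib.ThreeTransp.ExtField.exists_field hK hr.ne_zero
  have h := Module.finrank_mul_finrank F L ((Unit ⊕ (Fin m ⊕ Fin m)) → F)
  rw [hrk, Module.finrank_pi, hcard] at h
  set d := Module.finrank L ((Unit ⊕ (Fin m ⊕ Fin m)) → F)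
  have hd : 3 ≤ d := by
    by_contra hc
    rcases (show d = 0 ∨ d = 1 ∨ d = 2 by omega) with hd | hd | hd <;> rw [hd] at h <;> omega
  have hr2 : r ≠ 2 := fun e => by rw [e] at h; omega
  obtain ⟨Q, hQe, hN⟩ := Cfsg.Agent.Lib.MaxSub.Orth.exists_quadraticForm (Cfsg.Agent.S5674.nondeg (m := m) h2)
  rw [hQe] at hsa ⊢
  refine Cfsg.Agent.Lib.ThreeTransp.ExtField.orth_ext_maximal hN ?_ h2 hr hK hsa ?_ ?_ (fun e => absurd e hr2)
  · rw [hcard]; omega
  · rw [hcard, ← h, mul_comm 3 r]; exact Nat.mul_le_mul_left r hd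
  · rw [hcard]; intro; omega

end Cfsg.Agent.S5680
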