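import Cfsg.Statements.S5681
import Cfsg.Agent.S5674
import Cfsg.Agent.Lib.ThreeTransp.TensorOrthFrame
-- import your own Cfsg.Agent.* helpers here

set_option autoImplicit false
open Cfsg

namespace Cfsg.Agent.S5681

/-- Let F be a finite field of odd order q, m ≥ 6, Q the standard quadratic form on F^(2m+1) and Ω the commutator subgroup of its isometry group. Suppose the polar form of Q is similar, through a change of basis P and a bijection of index sets e, to the tensor product of non-degenerate symmetric bilinear forms f₁ on F^(n₁) and f₂ on F^(n₂) with 3 ≤ n₁ < n₂. Unless q = 3 and n₁ = 3, the elements of Ω in the stabiliser of this tensor decomposition form a maximal subgroup of Ω. -/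
theorem result {F : Type*} [Field F] [Fintype F] (hodd : Odd (Fintype.card F)) (m : ℕ) (hm : 6 ≤ m) (n₁ n₂ : ℕ) (h1 : 3 ≤ n₁) (h12 : n₁ < n₂) (hex : ¬ (Fintype.card F = 3 ∧ n₁ = 3)) (e : (Unit ⊕ (Fin m ⊕ Fin m)) ≃ Fin n₁ × Fin n₂) (P : Matrix.GeneralLinearGroup (Unit ⊕ (Fin m ⊕ Fin m)) F) (f₁ : (Fin n₁ → F) → (Fin n₁ → F) → F) (f₂ : (Fin n₂ → F) → (Fin n₂ → F) → F) (hf₁ : Cfsg.Geo.IsSymmetricForm f₁) (hf₂ : Cfsg.Geo.IsSymmetricForm f₂) (hT : Cfsg.Geo.IsTensorFormStructure id (QuadraticMap.polar (Cfsg.quadFormOdd m F)) f₁ f₂ e P) : Cfsg.Geo.IsMaximalIn (Cfsg.Geo.omegaGL (Cfsg.quadFormOdd m F)) (Cfsg.Geo.tensorProductSubgroup n₁ n₂ e P ⊓ Cfsg.Geo.omegaGL (Cfsg.quadFormOdd m F)) := by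
  have h2' : (2 : F) ≠ 0 := Ring.two_ne_zero fun h => Nat.not_even_iff_odd.mpr hodd
    (Nat.even_iff.mpr (FiniteField.even_card_of_char_two h))
  obtain ⟨Q, hQe, hN⟩ := Cfsg.Agent.Lib.MaxSub.Orth.exists_quadraticForm (Cfsg.Agent.S5674.nondeg (m := m) h2')
  rw [hQe] at hT ⊢
  have hn : 2 * m + 1 = n₁ * n₂ := by
    have := Fintype.card_congr e
    simp only [Fintype.card_sum, Fintype.card_unit, Fintype.card_prod, Fintype.card_fin] at this
    omega
  have ho : Odd (n₁ * n₂) := ⟨m, hn.symm⟩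
  obtain ⟨⟨i, hi⟩, ⟨j, hj⟩⟩ := Nat.odd_mul.mp ho
  refine Cfsg.Agent.Lib.ThreeTransp.TensorOrth.maximal h2' hN h1 (by omega) (by omega) (by omega) ?_ (Or.inr ⟨j, hj⟩)
    e P f₁ f₂ hf₁ hf₂ hT
  rcases Nat.lt_or_ge n₁ 5 with h | h
  · refine Or.inr ?_
    have hq : 5 ≤ Nat.card F := by
      rw [Nat.card_eq_fintype_card]
      have h3 : 2 ≤ Fintype.card F := Fintype.one_lt_card
      have h4 : Fintype.card F ≠ 3 := fun h4 => hex ⟨h4, by omega⟩
      obtain ⟨k, hk⟩ := hodd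
      omega
    obtain ⟨u, hu⟩ : ∃ u : Fˣ, orderOf u = Nat.card Fˣ := IsCyclic.exists_ofOrder_eq_natCard
    refine ⟨u, u.ne_zero, fun h => ?_⟩
    have h3 : orderOf u ≤ 2 := orderOf_le_of_pow_eq_one two_pos (Units.ext (by simpa [pow_two] using h))
    rw [hu, Nat.card_units] at h3
    omega
  · exact Or.inl h

end Cfsg.Agent.S5681
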