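import Cfsg.Statements.S5686
import Cfsg.Agent.Lib.MaxSub.OrthFamily

set_option autoImplicit false
open Cfsg

namespace Cfsg.Agent.S5686

set_option maxHeartbeats 1600000 in
open Cfsg.Agent.Lib.MaxSub Matrix QuadraticMap in
open Cfsg.Agent.Lib.Geometry (quad_add quad_smul quad_polar_comm) in
/-- Let F be a finite field with q elements, n ≥ 13 even, Q a non-degenerate quadratic form on F^n of plus type (some subspace of dimension n/2 is totally singular), and Ω the commutator subgroup of the isometry group of Q, viewed inside GL_n(F). The elements of Ω stabilising a subspace of dimension n/2 − 1 on which Q vanishes form a subgroup that is not maximal: some subgroup lies strictly between it and Ω. -/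
theorem result {F : Type*} [Field F] [Fintype F] {n : ℕ} (hn : 13 ≤ n) (heven : Even n) (Q : (Fin n → F) → F) (hQ : Cfsg.Geo.IsNondegenerateQuadraticForm Q) (hplus : Cfsg.Geo.IsPlusTypeOn Q ⊤) (W : Submodule F (Fin n → F)) (hW : Cfsg.Geo.IsTotallySingularQuad Q W) (hdim : 2 * (Module.finrank F W + 1) = n) : ∃ K : Subgroup (Matrix.GeneralLinearGroup (Fin n) F), Cfsg.Geo.subspaceStabilizer W ⊓ Cfsg.Geo.omegaGL Q < K ∧ K < Cfsg.Geo.omegaGL Q := by
  obtain ⟨Q, rfl, hN⟩ := Orth.exists_quadraticForm hQ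
  set m := Module.finrank F W + 1 with hm
  have h7 : 7 ≤ Fintype.card (Fin n) := by rw [Fintype.card_fin]; omega
  obtain ⟨U₀, -, hU₀, hU₀d⟩ := hplus
  rw [finrank_top, Module.finrank_fintype_fun_eq_card, Fintype.card_fin] at hU₀d
  have hWW : ∀ w ∈ W, ∀ w' ∈ W, polarBilin Q w w' = 0 := Cfsg.Agent.Lib.Geometry.polar_eq_zero_of_singular Q hW
  set P := Cfsg.Agent.Lib.Geometry.polarPerp Q W with hP
  have hPd : Module.finrank F P = m + 1 := by
    rw [hP, Cfsg.Agent.Lib.Geometry.finrank_polarPerp Q hN, Module.finrank_fintype_fun_eq_card, Fintype.card_fin]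
    omega
  have hPmem : ∀ x, x ∈ P ↔ ∀ w ∈ W, polarBilin Q w x = 0 := fun x => Iff.rfl
  have hWP : W ≤ P := fun x hx => (hPmem x).mpr fun w hw => hWW w hw x hx
  -- one maximal singular subspace over `W`
  set U₁ := W ⊔ (U₀ ⊓ P) with hU₁
  have hU₁P : U₁ ≤ P := sup_le hWP inf_le_right
  have hU₁s : ∀ u ∈ U₁, Q u = 0 := by
    intro u hu
    obtain ⟨w, hw, x, hx, rfl⟩ := Submodule.mem_sup.mp hu
    rw [quad_add, hW w hw, hU₀ x hx.1, zero_add, zero_add]
    exact hx.2 w hw
  have hU₁d : Module.finrank F U₁ = m := by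
    have h1 := Submodule.finrank_sup_add_finrank_inf_eq W (U₀ ⊓ P)
    have h2 : U₀ ⊓ P = Cfsg.Agent.Lib.Geometry.polarPerp Q (U₀ ⊔ W) := by
      rw [Cfsg.Agent.Lib.Geometry.polarPerp_sup, hP, Cfsg.Agent.Lib.Geometry.polarPerp_eq_self Q hN
        (m := m) (by rw [Module.finrank_fintype_fun_eq_card, Fintype.card_fin]; omega) (U := U₀) (by omega) hU₀]
    have h3 : W ⊓ (U₀ ⊓ P) = U₀ ⊓ W := le_antisymm (le_inf (inf_le_right.trans inf_le_left) inf_le_left)
      (le_inf inf_le_right (le_inf inf_le_left (inf_le_right.trans hWP)))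
    have h4 := Submodule.finrank_sup_add_finrank_inf_eq U₀ W
    have h5 : Module.finrank F ↥(U₀ ⊓ P) = n - Module.finrank F ↥(U₀ ⊔ W) := by
      rw [h2, Cfsg.Agent.Lib.Geometry.finrank_polarPerp Q hN, Module.finrank_fintype_fun_eq_card, Fintype.card_fin]
    have h6 : Module.finrank F ↥(U₀ ⊔ W) ≤ n := by
      have := Submodule.finrank_le (U₀ ⊔ W)
      rwa [Module.finrank_fintype_fun_eq_card, Fintype.card_fin] at this
    rw [h3, ← hU₁] at h1
    omega
  -- the other one
  obtain ⟨p, hp, hpW⟩ := OrthSplit.exists_outside W (X := U₁) (by omega)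
  obtain ⟨z, hz, hzp⟩ := Orth.exists_dual hN W hpW
  have hzP : z ∈ P := (hPmem z).mpr fun w hw => by rw [quad_polar_comm]; exact hz w hw
  obtain ⟨q, hqP, hqq, hpq⟩ := Orth.exists_partner hN (hU₁s p hp) (hU₁P hp) hzP
    (by rw [quad_polar_comm, hzp]; exact one_ne_zero)
  have hspanP : ∀ x ∈ P, x - polarBilin Q q x • p - polarBilin Q p x • q ∈ W := by
    intro x hx
    have hle : W ⊔ ((F ∙ p) ⊔ (F ∙ q)) ≤ P := sup_le hWP (sup_le
      ((Submodule.span_singleton_le_iff_mem _ _).mpr (hU₁P hp)) ((Submodule.span_singleton_le_iff_mem _ _).mpr hqP))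
    have hWp : ∀ w ∈ W, polarBilin Q p w = 0 := fun w hw => by rw [quad_polar_comm]; exact (hPmem p).mp (hU₁P hp) w hw
    have hWq : ∀ w ∈ W, polarBilin Q q w = 0 := fun w hw => by rw [quad_polar_comm]; exact (hPmem q).mp hqP w hw
    have hqp : polarBilin Q q p = 1 := by rw [quad_polar_comm, hpq]
    have hpp := Orth.polar_self_of_sing Q (hU₁s p hp)
    have hqs := Orth.polar_self_of_sing Q hqq
    have hd1 : Module.finrank F ↥((F ∙ p) ⊔ (F ∙ q)) = 2 := by
      have h1 := Submodule.finrank_sup_add_finrank_inf_eq (F ∙ p) (F ∙ q)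
      have h2 : (F ∙ p) ⊓ (F ∙ q) = ⊥ := by
        rw [Submodule.eq_bot_iff]
        rintro y ⟨hy1, hy2⟩
        obtain ⟨a, rfl⟩ := Submodule.mem_span_singleton.mp hy1
        obtain ⟨b, hb⟩ := Submodule.mem_span_singleton.mp hy2
        have h3 := congrArg (polarBilin Q q) hb
        rw [map_smul, map_smul, hqs, hqp, smul_zero, smul_eq_mul, mul_one] at h3
        rw [← h3, zero_smul]
      rw [h2, finrank_bot, finrank_span_singleton (show p ≠ 0 from fun h => hpW (by rw [h]; exact W.zero_mem)),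
        finrank_span_singleton (fun h => by rw [h, map_zero] at hpq; exact zero_ne_one hpq)] at h1
      omega
    have hd : Module.finrank F ↥(W ⊔ ((F ∙ p) ⊔ (F ∙ q))) = m + 1 := by
      have h1 := Submodule.finrank_sup_add_finrank_inf_eq W ((F ∙ p) ⊔ (F ∙ q))
      have h2 : W ⊓ ((F ∙ p) ⊔ (F ∙ q)) = ⊥ := by
        rw [Submodule.eq_bot_iff]
        rintro y ⟨hy1, hy2⟩
        obtain ⟨_, ha, _, hb, rfl⟩ := Submodule.mem_sup.mp hy2
        obtain ⟨a, rfl⟩ := Submodule.mem_span_singleton.mp ha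
        obtain ⟨b, rfl⟩ := Submodule.mem_span_singleton.mp hb
        have h3 := hWp _ hy1
        have h4 := hWq _ hy1
        rw [map_add, map_smul, map_smul, hpp, hpq, smul_zero, zero_add, smul_eq_mul, mul_one] at h3
        rw [map_add, map_smul, map_smul, hqs, hqp, smul_zero, add_zero, smul_eq_mul, mul_one] at h4
        rw [h3, h4, zero_smul, zero_smul, add_zero]
      rw [h2, finrank_bot, hd1] at h1
      omega
    have heq := Submodule.eq_of_le_of_finrank_eq hle (by rw [hd, hPd])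
    rw [← heq] at hx
    obtain ⟨w, hw, _, hy, rfl⟩ := Submodule.mem_sup.mp hx
    obtain ⟨_, ha, _, hb, rfl⟩ := Submodule.mem_sup.mp hy
    obtain ⟨a, rfl⟩ := Submodule.mem_span_singleton.mp ha
    obtain ⟨b, rfl⟩ := Submodule.mem_span_singleton.mp hb
    convert hw using 1
    simp only [map_add, map_smul, hWp w hw, hWq w hw, hpp, hqs, hpq, hqp, smul_zero, add_zero, zero_add, smul_eq_mul,
      mul_one, mul_zero]
    abel
  refine ⟨Cfsg.Geo.subspaceStabilizer U₁ ⊓ Cfsg.Geo.omegaGL ⇑Q, lt_of_le_of_ne ?_ ?_, ?_⟩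
  · rintro g ⟨hg, hgo⟩
    refine ⟨OrthSplit.mem_stab_of_map fun u hu => ?_, hgo⟩
    have hgi := Orth.omegaGL_le_isometry hgo
    have hev := OrthFamily.even_codim hN (m := m) (by rw [Fintype.card_fin]; omega) hU₁d hU₁s hgo
    set U' := U₁.map (Matrix.toLin' (g : Matrix (Fin n) (Fin n) F)) with hU'
    by_contra hne
    have hgW : ∀ w ∈ W, ∃ w' ∈ W, (g : Matrix (Fin n) (Fin n) F) *ᵥ w' = w := fun w hw => by
      refine ⟨((g⁻¹ : GL (Fin n) F) : Matrix (Fin n) (Fin n) F) *ᵥ w, ((inv_mem hg : g⁻¹ ∈ Cfsg.Geo.subspaceStabilizer W) w).mp hw, ?_⟩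
      rw [Matrix.mulVec_mulVec, ← Units.val_mul, mul_inv_cancel, Units.val_one, Matrix.one_mulVec]
    have hWU' : W ≤ U' := fun w hw => by
      obtain ⟨w', hw', rfl⟩ := hgW w hw
      exact ⟨w', Submodule.mem_sup_left hw', Matrix.toLin'_apply _ _⟩
    have hU'P : ∀ x ∈ U', x ∈ P := by
      rintro _ ⟨x, hx, rfl⟩
      refine (hPmem _).mpr fun w hw => ?_
      obtain ⟨w', hw', rfl⟩ := hgW w hw
      rw [Matrix.toLin'_apply, Orth.iso_polar hgi]
      exact (hPmem x).mp (hU₁P hx) w' hw'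
    have hgu : (g : Matrix (Fin n) (Fin n) F) *ᵥ u ∈ U' := ⟨u, hu, Matrix.toLin'_apply _ _⟩
    have hinf : U₁ ⊓ U' = W := by
      refine le_antisymm (fun x hx => ?_) (le_inf le_sup_left hWU')
      by_contra hxW
      refine hne ?_
      have hfull : U₁ ≤ U' := by
        have h1 : W < U₁ ⊓ U' := lt_of_le_of_ne (le_inf le_sup_left hWU') fun h => hxW (h ▸ hx)
        have h2 := Submodule.finrank_lt_finrank_of_lt h1
        have h3 := Submodule.eq_of_le_of_finrank_le (inf_le_left : U₁ ⊓ U' ≤ U₁) (by omega)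
        exact h3 ▸ inf_le_right
      rw [Submodule.eq_of_le_of_finrank_eq hfull (by rw [OrthFamily.finrank_map])]
      exact hgu
    rw [hinf, show m - Module.finrank F W = 1 by omega] at hev
    exact absurd hev (by decide)
  · intro h
    obtain ⟨w, hw, hw0⟩ := (Submodule.ne_bot_iff W).mp fun h => by
      rw [h, finrank_bot] at hm
      omega
    have hUperp : ∀ x ∈ U₁, polarBilin Q p x = 0 := fun x hx =>
      Cfsg.Agent.Lib.Geometry.polar_eq_zero_of_singular Q hU₁s p hp x hx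
    obtain ⟨g, hg, hgW⟩ := OrthFamily.exists_move hN h7 (A := U₁) (U := W) (hU₁s p hp) hpW hw
      (fun hm' => by
        obtain ⟨c, rfl⟩ := Submodule.mem_span_singleton.mp hm'
        rcases eq_or_ne c 0 with rfl | hc
        · exact hw0 (zero_smul _ _)
        · exact hpW ((W.smul_mem_iff hc).mp hw))
      (hUperp w (Submodule.mem_sup_left hw)) hp hUperp
    exact hgW (h ▸ hg : g ∈ Cfsg.Geo.subspaceStabilizer W ⊓ Cfsg.Geo.omegaGL ⇑Q).1
  · obtain ⟨w, hw, hw0⟩ := (Submodule.ne_bot_iff W).mp fun h => by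
      rw [h, finrank_bot] at hm
      omega
    refine OrthFamily.stab_lt hN h7 hqq (fun hq => ?_) (Submodule.mem_sup_left hw) (fun hm' => ?_)
      (by rw [quad_polar_comm]; exact (hPmem q).mp hqP w hw)
    · rw [Cfsg.Agent.Lib.Geometry.polar_eq_zero_of_singular Q hU₁s p hp q hq] at hpq
      exact zero_ne_one hpq
    · obtain ⟨c, rfl⟩ := Submodule.mem_span_singleton.mp hm'
      rcases eq_or_ne c 0 with rfl | hc
      · exact hw0 (zero_smul _ _)
      · have h1 := (hPmem p).mp (hU₁P hp) _ hw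
        rw [map_smul, LinearMap.smul_apply, quad_polar_comm Q q p, hpq, smul_eq_mul, mul_one] at h1
        exact hc h1

end Cfsg.Agent.S5686
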