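import Cfsg.Statements.S5688
import Cfsg.Agent.Lib.MaxSub.OrthSplitMain

set_option autoImplicit false
open Cfsg

namespace Cfsg.Agent.S5688

open Cfsg.Agent.Lib.MaxSub in
/-- Let F be a finite field with q elements, n ≥ 13 even, Q a non-degenerate quadratic form on F^n of plus type (some subspace of dimension n/2 is totally singular), and Ω the commutator subgroup of the isometry group of Q, viewed inside GL_n(F). Let W be a non-zero proper subspace with dim W ≠ n/2 on which the polar form of Q is non-degenerate. Exclude the case q ≤ 3 in which W, or its orthogonal complement, is a plane containing a line on which Q vanishes. Then the elements of Ω stabilising W form a maximal subgroup of Ω. -/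
theorem result {F : Type*} [Field F] [Fintype F] {n : ℕ} (hn : 13 ≤ n) (heven : Even n) (Q : (Fin n → F) → F) (hQ : Cfsg.Geo.IsNondegenerateQuadraticForm Q) (hplus : Cfsg.Geo.IsPlusTypeOn Q ⊤) (W : Submodule F (Fin n → F)) (hW0 : W ≠ ⊥) (hW1 : W ≠ ⊤) (hdim : 2 * Module.finrank F W ≠ n) (hW : Cfsg.Geo.IsNondegenerateOn (QuadraticMap.polar Q) W) (hex : ¬ (Fintype.card F ≤ 3 ∧ (∃ U : Submodule F (Fin n → F), Module.finrank F U = 2 ∧ Cfsg.Geo.IsNondegenerateOn (QuadraticMap.polar Q) U ∧ Cfsg.Geo.IsPlusTypeOn Q U ∧ (U = W ∨ (Cfsg.Geo.AreOrthogonalFor (QuadraticMap.polar Q) U W ∧ Module.finrank F U + Module.finrank F W = n))))) : Cfsg.Geo.IsMaximalIn (Cfsg.Geo.omegaGL Q) (Cfsg.Geo.subspaceStabilizer W ⊓ Cfsg.Geo.omegaGL Q) := by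
  obtain ⟨Q, rfl, hN⟩ := Orth.exists_quadraticForm hQ
  obtain ⟨Y, S⟩ := OrthSplit.exists_split hN hW
  have hfd := S.finrank_add
  rw [Fintype.card_fin] at hfd
  have hsm : ∀ U : Submodule F (Fin n → F), (U = W ∨ U = Y) → Module.finrank F U = 2 →
      4 ≤ Nat.card F ∨ ∀ w ∈ U, Q w = 0 → w = 0 := by
    intro U hU h2
    by_cases h4 : 4 ≤ Nat.card F
    · exact Or.inl h4
    refine Or.inr fun w hw hq => by_contra fun hw0 => hex ⟨by rw [← Nat.card_eq_fintype_card]; omega, U, h2, ?_,
      OrthSplit.isPlusTypeOn_of_singular h2 hw hq hw0, ?_⟩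
    · intro x hx hx0
      rcases hU with rfl | rfl
      · exact hW x hx hx0
      · obtain ⟨z, hz, hne⟩ := S.symm.nd hx hx0
        exact ⟨⟨z, hz, by rw [QuadraticMap.polar_comm]; exact hne⟩, ⟨z, hz, hne⟩⟩
    · rcases hU with rfl | rfl
      · exact Or.inl rfl
      · exact Or.inr ⟨fun y hy w hw => by rw [QuadraticMap.polar_comm]; exact S.orth w hw y hy, by omega⟩
  refine OrthSplit.maximal_of_nondegenerate (by rw [Fintype.card_fin]; omega) S hW0 hW1 (hsm W (Or.inl rfl))
    (hsm Y (Or.inr rfl)) fun he g hg hgW => ?_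
  omega

end Cfsg.Agent.S5688
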