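import Cfsg.Statements.S5693
import Cfsg.Agent.Lib.MaxSub.OrthFrameEven

set_option autoImplicit false
open Cfsg

namespace Cfsg.Agent.S5693

open Cfsg.Agent.Lib.MaxSub Matrix QuadraticMap in
open Cfsg.Agent.Lib.Geometry (quad_add quad_smul quad_polar_comm quad_polar_self) in
/-- Blocks of dimension four of plus type over two elements. -/
theorem four {ι : Type} [Fintype ι] [DecidableEq ι] {F : Type*} [Field F] {Q : QuadraticForm F (ι → F)}
    (hN : (polarBilin Q).Nondegenerate) {t : ℕ} {D : Fin t → Submodule F (ι → F)}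
    (hD : Cfsg.Geo.IsOrthogonalMDecomposition (⇑Q) 4 D) (hF : ∀ z : F, z = 0 ∨ z = 1) (h2 : (2 : F) = 0) {i : Fin t}
    (hplus : Cfsg.Geo.IsPlusTypeOn (⇑Q) (D i)) :
    ∃ a ∈ D i, ∃ b ∈ D i, Q a = 1 ∧ Q b = 1 ∧ polarBilin Q a b = 1 ∧
      (∀ x ∈ D i, Q x = 1 → x = a ∨ x = b ∨ x = a + b ∨ polarBilin Q x a = 0 ∧ polarBilin Q x b = 0) ∧
      ∃ p ∈ D i, p ≠ 0 ∧ polarBilin Q p a = 0 ∧ polarBilin Q p b = 0 := by
  classical
  haveI : CharP F 2 := CharTwo.of_one_ne_zero_of_two_eq_zero one_ne_zero h2
  have hW := hD.decomp.decomp.finrank_eq i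
  obtain ⟨U, hUD, hU, hUd⟩ := hplus
  rw [hW] at hUd
  have hUU : ∀ x ∈ U, ∀ y ∈ U, polarBilin Q x y = 0 := Cfsg.Agent.Lib.Geometry.polar_eq_zero_of_singular Q hU
  obtain ⟨e, he, he0⟩ := (Submodule.ne_bot_iff U).mp fun h => by rw [h, finrank_bot] at hUd; omega
  have hQe : Q e = 0 := hU e he
  obtain ⟨z, hz, hez⟩ := OrthFrame.nondeg hD (hUD he) he0
  obtain ⟨f, hf, hQf, hef⟩ := Orth.exists_partner hN hQe (hUD he) hz hez
  obtain ⟨u, hu, hue⟩ : ∃ u ∈ U, u ∉ F ∙ e := OrthSplit.exists_outside (F ∙ e) (X := U)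
    (by have := finrank_span_le_card (R := F) ({e} : Set (ι → F)); simp at this; omega)
  set e' := u - polarBilin Q u f • e with he'
  have he'U : e' ∈ U := U.sub_mem hu (U.smul_mem _ he)
  have he'f : polarBilin Q e' f = 0 := by
    rw [he', map_sub, LinearMap.sub_apply, map_smul, LinearMap.smul_apply, hef, smul_eq_mul, mul_one, sub_self]
  have he'0 : e' ≠ 0 := fun h => hue (by
    rw [sub_eq_zero.mp h]; exact Submodule.smul_mem _ _ (Submodule.mem_span_singleton_self e))
  have hee' : polarBilin Q e e' = 0 := hUU e he e' he'U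
  obtain ⟨z', hz', he'z⟩ := OrthFrame.nondeg hD (hUD he'U) he'0
  let P : Submodule F (ι → F) := D i ⊓ (LinearMap.ker (polarBilin Q e) ⊓ LinearMap.ker (polarBilin Q f))
  let w := z' - polarBilin Q f z' • e - polarBilin Q e z' • f
  have hwP : w ∈ P := ⟨(D i).sub_mem ((D i).sub_mem hz' ((D i).smul_mem _ (hUD he))) ((D i).smul_mem _ hf),
    by simp [w, LinearMap.mem_ker, map_sub, map_smul, hef, Orth.polar_self_of_sing Q hQe],
    by simp [w, LinearMap.mem_ker, map_sub, map_smul, quad_polar_comm Q f e, hef, Orth.polar_self_of_sing Q hQf]⟩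
  have he'P : e' ∈ P := ⟨hUD he'U, hee', by
    show polarBilin Q f e' = 0
    rw [quad_polar_comm, he'f]⟩
  have hew : polarBilin Q e' w ≠ 0 := by
    simp only [w, map_sub, map_smul, he'f, quad_polar_comm Q e' e, hee', smul_zero, sub_zero]
    exact he'z
  obtain ⟨f', hf'P, hQf', hef'⟩ := Orth.exists_partner hN (hU e' he'U) he'P hwP hew
  obtain ⟨hf'D, h1, h2'⟩ := hf'P
  have h1 : polarBilin Q e f' = 0 := h1
  have h2' : polarBilin Q f f' = 0 := h2'
  have hQe' : Q e' = 0 := hU e' he'U
  have hexp : ∀ x ∈ D i, ∃ α β γ δ : F, x = α • e + β • f + γ • e' + δ • f' := fun x hx =>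
    ⟨_, _, _, _, (OrthFrame.expand (Q := Q) hW ![e, f, e', f'] ![f, e, f', e']
      (by intro j; fin_cases j <;> first | exact hUD he | exact hf | exact hUD he'U | exact hf'D) (fun j l => by
        fin_cases j <;> fin_cases l <;>
          simp [hef, hee', h1, h2', he'f, hef', quad_polar_comm Q f e, quad_polar_comm Q e' e, quad_polar_comm Q f' e,
            quad_polar_comm Q f e', quad_polar_comm Q f' f, quad_polar_comm Q f' e', Orth.polar_self_of_sing Q hQe,
            Orth.polar_self_of_sing Q hQf, Orth.polar_self_of_sing Q hQe', Orth.polar_self_of_sing Q hQf']) hx).trans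
      (by simp [Fin.sum_univ_four, add_assoc]; rfl)⟩
  have hQx : ∀ α β γ δ : F, Q (α • e + β • f + γ • e' + δ • f') = α * β + γ * δ := fun α β γ δ => by
    simp only [quad_add, quad_smul, map_add, map_smul, LinearMap.add_apply, LinearMap.smul_apply, smul_eq_mul, hef,
      hee', h1, h2', he'f, hef', hQe, hQf, hQe', hQf', quad_polar_comm Q f e']
    ring
  have hBx : ∀ α β γ δ α' β' γ' δ' : F, polarBilin Q (α • e + β • f + γ • e' + δ • f')
      (α' • e + β' • f + γ' • e' + δ' • f') = α * β' + β * α' + (γ * δ' + δ * γ') := fun α β γ δ α' β' γ' δ' => by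
    simp only [map_add, map_smul, LinearMap.add_apply, LinearMap.smul_apply, smul_eq_mul, hef, hee', h1, h2', he'f,
      hef', quad_polar_comm Q f e, quad_polar_comm Q e' e, quad_polar_comm Q f' e, quad_polar_comm Q f e',
      quad_polar_comm Q f' f, quad_polar_comm Q f' e', Orth.polar_self_of_sing Q hQe,
      Orth.polar_self_of_sing Q hQf, Orth.polar_self_of_sing Q hQe', Orth.polar_self_of_sing Q hQf']
    ring
  have hmem : ∀ α β γ δ : F, α • e + β • f + γ • e' + δ • f' ∈ D i := fun α β γ δ =>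
    add_mem (add_mem (add_mem ((D i).smul_mem _ (hUD he)) ((D i).smul_mem _ hf)) ((D i).smul_mem _ (hUD he'U)))
      ((D i).smul_mem _ hf'D)
  refine ⟨(1 : F) • e + (1 : F) • f + (0 : F) • e' + (0 : F) • f', hmem _ _ _ _,
    (1 : F) • e + (0 : F) • f + (1 : F) • e' + (1 : F) • f', hmem _ _ _ _, by rw [hQx]; ring, by rw [hQx]; ring,
    by rw [hBx]; ring, fun x hx hx1 => ?_, (1 : F) • e + (1 : F) • f + (1 : F) • e' + (0 : F) • f', hmem _ _ _ _,
    fun h => ?_, by rw [hBx]; linear_combination h2, by rw [hBx]; linear_combination h2⟩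
  · obtain ⟨α, β, γ, δ, rfl⟩ := hexp x hx
    rw [hQx] at hx1
    simp only [hBx]
    rcases hF α with rfl | rfl <;> rcases hF β with rfl | rfl <;> rcases hF γ with rfl | rfl <;>
      rcases hF δ with rfl | rfl <;>
      first
      | (simp at hx1; done)
      | (left; simp; done)
      | (right; left; simp; done)
      | (right; right; left; simp only [one_smul, zero_smul, add_zero, zero_add]
         rw [show e + f + (e + e' + f') = (e + e) + (f + e' + f') by abel, ← two_smul F e, h2, zero_smul, zero_add]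
         done)
      | (right; right; right; simp [one_add_one_eq_two, h2]; done)
      | (exfalso; simp [one_add_one_eq_two, h2] at hx1)
  · have := congrArg (fun x => polarBilin Q x ((0 : F) • e + (1 : F) • f + (0 : F) • e' + (0 : F) • f')) h
    rw [hBx, map_zero, LinearMap.zero_apply] at this
    exact one_ne_zero (α := F) (by linear_combination this)

open Cfsg.Agent.Lib.MaxSub Matrix QuadraticMap in
open Cfsg.Agent.Lib.Geometry (quad_add quad_smul quad_polar_comm quad_polar_self) in
/-- Let F be a finite field with q elements, n ≥ 13 even, Q a non-degenerate quadratic form on F^n of plus type (some subspace of dimension n/2 is totally singular), and Ω the commutator subgroup of the isometry group of Q, viewed inside GL_n(F). Let D be a decomposition of F^n into t ≥ 2 pairwise orthogonal, pairwise Q-isometric subspaces of equal dimension k on which the polar form is non-degenerate (with, for even k, all members of plus type or t even; for odd k, q odd and square discriminant), in one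 of the cases: k = 2 with q = 3; k = 2 with plus-type members and q ∈ {2, 4, 5}; k = 3 with q = 3; k = 4 with plus-type members and q = 2. Then the elements of Ω permuting the members of D form a subgroup that is not maximal: some subgroup lies strictly between it and Ω. -/
theorem result {F : Type*} [Field F] [Fintype F] {n : ℕ} (hn : 13 ≤ n) (heven : Even n) (Q : (Fin n → F) → F) (hQ : Cfsg.Geo.IsNondegenerateQuadraticForm Q) (hplus : Cfsg.Geo.IsPlusTypeOn Q ⊤) {t : ℕ} (k : ℕ) (D : Fin t → Submodule F (Fin n → F)) (hD : Cfsg.Geo.IsOrthogonalMDecomposition Q k D) (hke : Even k → ((∀ i, Cfsg.Geo.IsPlusTypeOn Q (D i)) ∨ Even t)) (hko : Odd k → (Odd (Fintype.card F) ∧ Cfsg.Geo.HasSquareDiscriminant Q)) (hcase : ((k = 2 ∧ (Fintype.card F = 3 ∨ ((∀ i, Cfsg.Geo.IsPlusTypeOn Q (D i)) ∧ (Fintype.card F = 2 ∨ Fintype.card F = 4 ∨ Fintype.card F = 5)))) ∨ (k = 3 ∧ Fintype.card F = 3) ∨ (k = 4 ∧ Fintype.card F = 2 ∧ ∀ i, Cfsg.Geo.IsPlusTypeOn Q (D i)))) : ∃ K : Subgroup (Matrix.GeneralLinearGroup (Fin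 n) F), Cfsg.Geo.decompositionStabilizer D ⊓ Cfsg.Geo.omegaGL Q < K ∧ K < Cfsg.Geo.omegaGL Q := by
  classical
  obtain ⟨Q, rfl, hN⟩ := Orth.exists_quadraticForm hQ
  have h7 : 7 ≤ Fintype.card (Fin n) := by rw [Fintype.card_fin]; omega
  have hc := DecompAux.card_eq_mul hD.decomp.decomp
  rw [Fintype.card_fin] at hc
  have hcast := FiniteField.cast_card_eq_zero F
  have hk2 : k = 2 → (∀ i, Cfsg.Geo.IsPlusTypeOn (⇑Q) (D i)) → (2 : F) = 0 → ∀ P : AddSubgroup F,
      (∀ c ∈ P, c = 0 ∨ c = 1) → (∀ z w : F, z * w = 1 → z + w ∈ P) → (∃ z : F, z ≠ 0 ∧ z ∉ P) →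
      ∃ K, Cfsg.Geo.decompositionStabilizer D ⊓ Cfsg.Geo.omegaGL ⇑Q < K ∧ K < Cfsg.Geo.omegaGL ⇑Q := by
    intro hk hpl h2 P hP hPs hout
    subst hk
    have hblock : ∀ i, ∃ e ∈ D i, ∃ f ∈ D i, Q e = 0 ∧ Q f = 0 ∧ polarBilin Q e f = 1 ∧
        ∀ x ∈ D i, x = polarBilin Q x f • e + polarBilin Q x e • f := fun i =>
      OrthFrame.exists_hyperbolic hN hD rfl (hpl i)
    choose e he f hf hQe hQf hef hspan using hblock
    have hPA : ∀ x ∈ OrthFrame.ones Q D, ∀ y ∈ OrthFrame.ones Q D, polarBilin Q x y ∈ P := by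
      rintro x ⟨i, hx, hx1⟩ y ⟨j, hy, hy1⟩
      by_cases hij : i = j
      · subst hij
        rw [hspan i x hx, OrthFrame.quad_hyperbolic (hQe i) (hQf i) (hef i)] at hx1
        rw [hspan i y hy, OrthFrame.quad_hyperbolic (hQe i) (hQf i) (hef i)] at hy1
        rw [hspan i x hx, hspan i y hy, OrthFrame.polar_hyperbolic (hQe i) (hQf i) (hef i)]
        refine hPs _ _ ?_
        linear_combination (polarBilin Q y (e i) * polarBilin Q y (f i)) * hx1 + hy1
      · rw [OrthFrame.polar_zero hD hij hx hy]; exact zero_mem _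
    obtain ⟨z, hz0, hzP⟩ := hout
    let j : Fin 3 → Fin t := fun l => ⟨l.val, by omega⟩
    have hj : ∀ {a b : Fin 3}, a ≠ b → j a ≠ j b := fun {a b} h h' => h (Fin.ext (Fin.mk.inj h'))
    have hone : ∀ i, Q (e i + f i) = 1 := fun i => by rw [quad_add, hQe, hQf, hef]; ring
    refine OrthFrame.exists_between_closure hN h7 hD h2 P hP hPA (hj (by decide : (0 : Fin 3) ≠ 1))
      (hj (by decide : (0 : Fin 3) ≠ 2)) (hj (by decide : (1 : Fin 3) ≠ 2)) (add_mem (he _) (hf _))
      (add_mem (he _) (hf _)) (add_mem (he _) (hf _)) (hone _) (hone _) (hone _)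
      (e := z • e (j 1)) ((D _).smul_mem _ (he _)) (by rw [quad_smul, hQe, mul_zero])
      (y := e (j 1) + f (j 1)) (add_mem (he _) (hf _)) (hone _) ?_
    rw [map_smul, LinearMap.smul_apply, map_add, Orth.polar_self_of_sing Q (hQe _), hef, zero_add, smul_eq_mul, mul_one]
    exact hzP
  rcases hcase with ⟨hk, h3 | ⟨hpl, h2 | h4 | h5⟩⟩ | ⟨hk, h3⟩ | ⟨hk, h2, hpl⟩
  · exact OrthFrame.exists_between_three h3 hN h7 hD (Or.inl hk)
  · have h20 : (2 : F) = 0 := by rw [h2] at hcast; exact_mod_cast hcast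
    have hF : ∀ z : F, z = 0 ∨ z = 1 := fun z => by
      by_cases hz : z = 0
      · exact Or.inl hz
      · right; have := FiniteField.pow_card_sub_one_eq_one z hz; simpa [h2] using this
    refine hk2 hk hpl h20 ⊥ (fun c hc => Or.inl (AddSubgroup.mem_bot.mp hc))
      (fun z w hzw => AddSubgroup.mem_bot.mpr ?_) ⟨1, one_ne_zero, fun h => one_ne_zero (AddSubgroup.mem_bot.mp h)⟩
    rcases hF z with rfl | rfl
    · exact absurd hzw (by simp)
    · rw [one_mul] at hzw; rw [hzw]; linear_combination h20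
  · have h20 : (2 : F) = 0 := by
      rw [h4] at hcast
      have : (2 : F) * 2 = 0 := by norm_num; exact_mod_cast hcast
      exact mul_self_eq_zero.mp this
    let P : AddSubgroup F :=
      { carrier := {c | c = 0 ∨ c = 1}
        zero_mem' := Or.inl rfl
        add_mem' := by
          rintro a b (rfl | rfl) (rfl | rfl) <;> simp [one_add_one_eq_two, h20]
        neg_mem' := by
          rintro a (rfl | rfl)
          · simp
          · right; linear_combination (-1 : F) * h20 }
    refine hk2 hk hpl h20 P (fun c hc => hc) (fun z w hzw => ?_) ?_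
    · show z + w = 0 ∨ z + w = 1
      have hz : z ≠ 0 := fun h => by rw [h, zero_mul] at hzw; exact zero_ne_one hzw
      have hz3 := FiniteField.pow_card_sub_one_eq_one z hz
      rw [h4] at hz3
      have hw : w = z ^ 2 := mul_left_cancel₀ hz (by linear_combination hzw - hz3)
      rcases mul_eq_zero.mp (show (z - 1) * (z ^ 2 + z + 1) = 0 by linear_combination hz3) with h | h
      · left; rw [hw, sub_eq_zero.mp h]; linear_combination h20
      · right; rw [hw]; linear_combination h - h20
    · by_contra hc'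
      push Not at hc'
      have hsub : (Finset.univ : Finset F) ⊆ {0, 1} := fun z _ => by
        by_cases hz : z = 0
        · simp [hz]
        · rcases hc' z hz with h | h <;> simp [h]
      have := (Finset.card_le_card hsub).trans Finset.card_le_two
      rw [Finset.card_univ, h4] at this
      omega
  · subst hk
    refine OrthFrame.exists_between_five (fun z hz => ?_) ?_ hN h7 hD rfl (by omega) hpl
    · have := FiniteField.pow_card_sub_one_eq_one z hz
      rw [h5] at this
      linear_combination this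
    · intro h
      rw [h5] at hcast
      push_cast at hcast
      exact one_ne_zero (α := F) (by linear_combination hcast - 2 * h)
  · exact OrthFrame.exists_between_three h3 hN h7 hD (Or.inr hk)
  · subst hk
    have h20 : (2 : F) = 0 := by rw [h2] at hcast; exact_mod_cast hcast
    have hF : ∀ z : F, z = 0 ∨ z = 1 := fun z => by
      by_cases hz : z = 0
      · exact Or.inl hz
      · right; have := FiniteField.pow_card_sub_one_eq_one z hz; simpa [h2] using this
    have h01 : (⟨0, by omega⟩ : Fin t) ≠ ⟨1, by omega⟩ := fun h => zero_ne_one (Fin.mk.inj h)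
    obtain ⟨a, ha, b, hb, hQa, hQb, hab, H₀, p, hp, hp0, hpa, hpb⟩ := four hN hD hF h20 (hpl ⟨0, by omega⟩)
    obtain ⟨c, hc', d, hd, hQc, hQd, hcd, H₁, -⟩ := four hN hD hF h20 (hpl ⟨1, by omega⟩)
    exact OrthFrame.exists_between_triangle hN h7 hD h20 h01 ha hb hc' hd hQa hQb hQc hQd hab hcd H₀ H₁ hp hp0 hpa hpb
      (by rw [Fintype.card_fin]; omega)

end Cfsg.Agent.S5693
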