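import Cfsg.Statements.S5697
import Cfsg.Agent.Lib.MaxSub.Orth

set_option autoImplicit false
open Cfsg

namespace Cfsg.Agent.S5697

open Cfsg.Agent.Lib.MaxSub Matrix QuadraticMap
open scoped MatrixGroups Matrix commutatorElement
open Cfsg.Agent.Lib.Geometry (quadIsometries isometryEquiv quad_add quad_sub quad_smul quad_polar_self quad_polar_comm)

attribute [-simp] QuadraticMap.polarBilin_apply_apply

set_option maxHeartbeats 800000

section core

variable {ι : Type} [Fintype ι] [DecidableEq ι] {F : Type*} [Field F] {Q : QuadraticForm F (ι → F)}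

theorem eich_flip {u x : ι → F} (hu : Q u = 0) (hxq : Q x = 0) (hx : polarBilin Q u x = 0)
    (hx' : polarBilin Q x (-u) = 0) : Orth.eichGL Q u x hu hx = Orth.eichGL Q x (-u) hxq hx' := by
  refine Units.ext (Matrix.ext_of_mulVec_single fun j => ?_)
  rw [Orth.eichGL_mulVec, Orth.eichGL_mulVec, hxq, map_neg, show Q (-u) = 0 by rw [QuadraticMap.map_neg, hu]]
  module

theorem eich_mul {u x x' : ι → F} (hu : Q u = 0) (hx : polarBilin Q u x = 0) (hx' : polarBilin Q u x' = 0)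
    {z : ι → F} (hz : polarBilin Q u z = 0) (hsum : x + x' = z) :
    Orth.eichGL Q u x hu hx * Orth.eichGL Q u x' hu hx' = Orth.eichGL Q u z hu hz := by
  subst hsum
  rw [Orth.eichGL, Orth.eichGL, Orth.eichGL, ← map_mul, Cfsg.Agent.Lib.Classical.eich_mul]

theorem eich_inv {u x : ι → F} (hu : Q u = 0) (hx : polarBilin Q u x = 0) (hx' : polarBilin Q u (-x) = 0) :
    (Orth.eichGL Q u x hu hx)⁻¹ = Orth.eichGL Q u (-x) hu hx' := by
  rw [Orth.eichGL, Orth.eichGL, ← map_inv, Cfsg.Agent.Lib.Classical.eich_inv]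

/-- The short root element on the singular pair `u, x` lies in `K`. -/
def InE (Q : QuadraticForm F (ι → F)) (K : Subgroup (GL ι F)) (u x : ι → F) : Prop :=
  ∃ (hu : Q u = 0) (hx : polarBilin Q u x = 0), Orth.eichGL Q u x hu hx ∈ K

variable {K : Subgroup (GL ι F)}

theorem InE.sub {u x x' : ι → F} (h : InE Q K u x) (h' : InE Q K u x') : InE Q K u (x - x') := by
  obtain ⟨hu, hx, hm⟩ := h
  obtain ⟨_, hx', hm'⟩ := h'
  have hn : polarBilin Q u (-x') = 0 := by rw [map_neg, hx', neg_zero]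
  refine ⟨hu, by rw [map_sub, hx, hx', sub_zero], ?_⟩
  rw [← eich_mul hu hx hn _ (sub_eq_add_neg x x').symm, ← eich_inv hu hx' hn]
  exact K.mul_mem hm (K.inv_mem hm')

theorem InE.flip {u x : ι → F} (h : InE Q K u x) (hxq : Q x = 0) : InE Q K x (-u) := by
  obtain ⟨hu, hx, hm⟩ := h
  refine ⟨hxq, by rw [map_neg, quad_polar_comm, hx, neg_zero], ?_⟩
  rwa [← eich_flip hu hxq hx]

theorem InE.neg_right {u x : ι → F} (h : InE Q K u x) : InE Q K u (-x) := by
  obtain ⟨hu, hx, hm⟩ := h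
  refine ⟨hu, by rw [map_neg, hx, neg_zero], ?_⟩
  rw [← eich_inv hu hx]
  exact K.inv_mem hm

theorem InE.conj {u x : ι → F} (h : InE Q K u x) {g : GL ι F} (hgK : g ∈ K)
    (hg : g ∈ Cfsg.isometryGroup F ⇑Q) : InE Q K ((g : Matrix ι ι F) *ᵥ u) ((g : Matrix ι ι F) *ᵥ x) := by
  obtain ⟨hu, hx, hm⟩ := h
  refine ⟨by rw [Orth.iso_quad hg, hu], by rw [Orth.iso_polar hg, hx], ?_⟩
  rw [← Orth.conj_eichGL hg hu hx]
  exact K.mul_mem (K.mul_mem hgK hm) (K.inv_mem hgK)

theorem InE.comm {u x : ι → F} (h : InE Q K u x) (hxq : Q x = 0) : InE Q K x u := by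
  have := (h.flip hxq).neg_right
  rwa [neg_neg] at this

theorem exists_outside (W : Submodule F (ι → F)) {X : Submodule F (ι → F)}
    (h : Module.finrank F W < Module.finrank F X) : ∃ r ∈ X, r ∉ W := by
  by_contra hc
  push Not at hc
  exact absurd (Submodule.finrank_mono hc) (not_le.mpr h)

theorem finrank_span2 (a b : ι → F) : Module.finrank F (Submodule.span F ({a, b} : Set (ι → F))) ≤ 2 := by
  classical
  have := finrank_span_finset_le_card (R := F) ({a, b} : Finset (ι → F))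
  rw [Finset.coe_pair] at this
  exact this.trans Finset.card_le_two

theorem notMem_span_of {x y d : ι → F} (hxy : x ∉ F ∙ y) (hd : d ∉ Submodule.span F ({x, y} : Set (ι → F))) :
    x ∉ F ∙ y ⊔ F ∙ d := fun hm => by
  obtain ⟨a, ha, b, hb, hab⟩ := Submodule.mem_sup.mp hm
  obtain ⟨s, rfl⟩ := Submodule.mem_span_singleton.mp ha
  obtain ⟨t, rfl⟩ := Submodule.mem_span_singleton.mp hb
  rcases eq_or_ne t 0 with rfl | ht
  · exact hxy (Submodule.mem_span_singleton.mpr ⟨s, by rw [← hab, zero_smul, add_zero]⟩)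
  · exact hd (Submodule.mem_span_pair.mpr ⟨t⁻¹, -(t⁻¹ * s), by
      rw [← hab, smul_add, smul_smul, smul_smul, inv_mul_cancel₀ ht, one_smul, neg_smul]; abel⟩)

/-- Two complementary totally singular subspaces, and a group with their mixed short root elements. -/
structure Pair (Q : QuadraticForm F (ι → F)) (K : Subgroup (GL ι F)) where
  nondeg : (polarBilin Q).Nondegenerate
  X : Submodule F (ι → F)
  Y : Submodule F (ι → F)
  compl : IsCompl X Y
  singX : ∀ u ∈ X, Q u = 0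
  singY : ∀ u ∈ Y, Q u = 0
  dimX : 5 ≤ Module.finrank F X
  dimY : 5 ≤ Module.finrank F Y
  mixed : ∀ u ∈ X, ∀ v ∈ Y, polarBilin Q u v = 0 → InE Q K u v

theorem sing_polar {W : Submodule F (ι → F)} (h : ∀ u ∈ W, Q u = 0) {u v : ι → F} (hu : u ∈ W) (hv : v ∈ W) :
    polarBilin Q u v = 0 := by
  have := h (u + v) (W.add_mem hu hv)
  rwa [quad_add, h u hu, h v hv, zero_add, zero_add] at this

variable (E : Pair Q K)

def Pair.swap : Pair Q K where
  nondeg := E.nondeg
  X := E.Y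
  Y := E.X
  compl := E.compl.symm
  singX := E.singY
  singY := E.singX
  dimX := E.dimY
  dimY := E.dimX
  mixed := fun v hv u hu h => (E.mixed u hu v hv (by rw [quad_polar_comm, h])).comm (E.singY v hv)

theorem Pair.split (x : ι → F) : ∃ a ∈ E.X, ∃ b ∈ E.Y, a + b = x := by
  have h : x ∈ E.X ⊔ E.Y := by rw [E.compl.sup_eq_top]; trivial
  exact Submodule.mem_sup.mp h

/-- An element of the second space fixing a subspace and moving `x`. -/
theorem Pair.dual (W : Submodule F (ι → F)) (hW : W ≤ E.X) {x : ι → F} (hx : x ∈ E.X) (hxW : x ∉ W) :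
    ∃ v ∈ E.Y, (∀ w ∈ W, polarBilin Q w v = 0) ∧ polarBilin Q x v = 1 := by
  obtain ⟨z, hz, hxz⟩ := Orth.exists_dual E.nondeg W hxW
  obtain ⟨a, ha, b, hb, rfl⟩ := E.split z
  refine ⟨b, hb, fun w hw => ?_, ?_⟩
  · have := hz w hw
    rw [quad_polar_comm, map_add, sing_polar E.singX (hW hw) ha, zero_add] at this
    exact this
  · rw [quad_polar_comm, map_add, sing_polar E.singX hx ha, zero_add] at hxz
    exact hxz

theorem Pair.mover {d x : ι → F} (hd : d ∈ E.X) (hx : x ∈ E.X) (W : Submodule F (ι → F)) (hW : W ≤ E.X)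
    (hxW : x ∉ W ⊔ F ∙ d) :
    ∃ g ∈ K, g ∈ Cfsg.isometryGroup F ⇑Q ∧ (g : Matrix ι ι F) *ᵥ x = x - d ∧
      (∀ w ∈ W, (g : Matrix ι ι F) *ᵥ w = w) ∧
      ∀ y ∈ E.Y, polarBilin Q y d = 0 → (g : Matrix ι ι F) *ᵥ y = y := by
  obtain ⟨v, hv, hWv, hxv⟩ := E.dual (W ⊔ F ∙ d) (sup_le hW ((Submodule.span_singleton_le_iff_mem _ _).mpr hd)) hx hxW
  have hdv : polarBilin Q d v = 0 := hWv d (Submodule.mem_sup_right (Submodule.mem_span_singleton_self d))
  obtain ⟨hdq, _, hm⟩ := E.mixed d hd v hv hdv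
  refine ⟨_, hm, Orth.toGL_mem_isometry Q _, ?_, fun w hw => ?_, fun y hy hyd => ?_⟩
  · rw [Orth.eichGL_mulVec, sing_polar E.singX hx hd, hxv, E.singY v hv]
    module
  · rw [Orth.eichGL_mulVec, sing_polar E.singX (hW hw) hd, hWv w (Submodule.mem_sup_left hw), E.singY v hv]
    module
  · rw [Orth.eichGL_mulVec, hyd, sing_polar E.singY hy hv, E.singY v hv]
    module

/-- One short root element inside the first space spreads to the whole of it. -/
theorem Pair.spread {x y : ι → F} (hx : x ∈ E.X) (hy : y ∈ E.X) (hxy : x ∉ F ∙ y) (h : InE Q K y x) :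
    ∀ z ∈ E.X, InE Q K y z := by
  have out : ∀ d ∈ E.X, d ∉ Submodule.span F ({x, y} : Set (ι → F)) → InE Q K y d := by
    intro d hd hdW
    obtain ⟨g, hgK, hgi, hgx, hgW, -⟩ := E.mover hd hx (F ∙ y)
      ((Submodule.span_singleton_le_iff_mem _ _).mpr hy) (notMem_span_of hxy hdW)
    have h1 := h.conj hgK hgi
    rw [hgx, hgW y (Submodule.mem_span_singleton_self y)] at h1
    have h2 := h.sub h1
    rwa [sub_sub_cancel] at h2
  intro z hz
  by_cases hzW : z ∈ Submodule.span F ({x, y} : Set (ι → F))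
  · obtain ⟨r, hr, hrW⟩ := exists_outside (Submodule.span F ({x, y} : Set (ι → F))) (X := E.X)
      (by have := finrank_span2 (F := F) x y; have := E.dimX; omega)
    have := (out _ (E.X.add_mem hz hr) (fun hm => hrW ((Submodule.add_mem_iff_right _ hzW).mp hm))).sub (out r hr hrW)
    rwa [add_sub_cancel_right] at this
  · exact out z hz hzW

theorem Pair.roots {x y : ι → F} (hx : x ∈ E.X) (hy : y ∈ E.X) (hxy : x ∉ F ∙ y) (hy0 : y ≠ 0)
    (h : InE Q K y x) : ∀ w ∈ E.X, Orth.Root Q K w := by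
  have hy' := E.spread hx hy hxy h
  have hall : ∀ w ∈ E.X, w ∉ F ∙ y → ∀ z ∈ E.X, InE Q K w z := by
    intro w hw hwy
    refine E.spread hy hw (fun hm => ?_) ((hy' w hw).comm (E.singX w hw))
    obtain ⟨c, hc⟩ := Submodule.mem_span_singleton.mp hm
    rcases eq_or_ne c 0 with rfl | hc0
    · rw [zero_smul] at hc; exact hy0 hc.symm
    · refine hwy (Submodule.mem_span_singleton.mpr ⟨c⁻¹, ?_⟩)
      rw [← hc, smul_smul, inv_mul_cancel₀ hc0, one_smul]
  have hX : ∀ w ∈ E.X, ∀ z ∈ E.X, InE Q K w z := by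
    intro w hw z hz
    by_cases hwy : w ∈ F ∙ y
    · by_cases hzy : z ∈ F ∙ y
      · obtain ⟨r, hr, hrW⟩ := exists_outside (F ∙ y) (X := E.X)
          (by have := finrank_span_singleton (K := F) hy0; have := E.dimX; omega)
        have h1 := (hall r hr hrW w hw).comm (E.singX w hw)
        have h2 := (hall (z + r) (E.X.add_mem hz hr)
          (fun hm => hrW ((Submodule.add_mem_iff_right _ hzy).mp hm)) w hw).comm (E.singX w hw)
        have h3 := h2.sub h1
        rwa [add_sub_cancel_right] at h3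
      · exact (hall z hz hzy w hw).comm (E.singX w hw)
    · exact hall w hw hwy z hz
  intro w hw
  refine ⟨E.singX w hw, fun x hx => ?_⟩
  obtain ⟨a, ha, b, hb, rfl⟩ := E.split x
  obtain ⟨_, hwa, hm⟩ := hX w hw a ha
  have hwb : polarBilin Q w b = 0 := by rwa [map_add, hwa, zero_add] at hx
  obtain ⟨_, _, hm'⟩ := E.mixed w hw b hb hwb
  rw [← eich_mul (E.singX w hw) hwa hwb hx rfl]
  exact K.mul_mem hm hm'

theorem Pair.roots_of_image {a₀ a₁ b₀ b₁ : ι → F} (ha₀ : a₀ ∈ E.X) (ha₁ : a₁ ∈ E.Y)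
    (hb₀ : b₀ ∈ E.X) (hb₁ : b₁ ∈ E.Y) (hab : a₀ ∉ F ∙ b₀) (hb0 : b₀ ≠ 0)
    (h : InE Q K (b₀ + b₁) (a₀ + a₁)) : ∀ w ∈ E.X, Orth.Root Q K w := by
  obtain ⟨d, hd, hdW⟩ : ∃ d ∈ E.X ⊓ LinearMap.ker ((polarBilin Q a₁).prod (polarBilin Q b₁)),
      d ∉ Submodule.span F ({a₀, b₀} : Set (ι → F)) := by
    refine exists_outside _ ?_
    let φ := ((polarBilin Q a₁).prod (polarBilin Q b₁)).domRestrict E.X
    have h1 := φ.finrank_range_add_finrank_ker
    have h3 : Module.finrank F (LinearMap.range φ) ≤ 2 := (Submodule.finrank_le _).trans (by simp)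
    have h4 : Module.finrank F (LinearMap.ker φ) ≤
        Module.finrank F (E.X ⊓ LinearMap.ker ((polarBilin Q a₁).prod (polarBilin Q b₁)) : Submodule F (ι → F)) := by
      rw [← Submodule.finrank_map_subtype_eq]
      refine Submodule.finrank_mono ?_
      rintro _ ⟨z, hz, rfl⟩
      exact ⟨z.2, hz⟩
    have := E.dimX
    have := finrank_span2 (F := F) a₀ b₀
    omega
  obtain ⟨hdX, hdk⟩ := Submodule.mem_inf.mp hd
  simp only [LinearMap.mem_ker, LinearMap.prod_apply, Function.prod_apply, Prod.mk_eq_zero] at hdk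
  obtain ⟨g, hgK, hgi, hgx, hgW, hgY⟩ := E.mover hdX ha₀ (F ∙ b₀)
    ((Submodule.span_singleton_le_iff_mem _ _).mpr hb₀) (notMem_span_of hab hdW)
  have h1 := h.conj hgK hgi
  rw [Matrix.mulVec_add, Matrix.mulVec_add, hgx, hgW b₀ (Submodule.mem_span_singleton_self b₀),
    hgY a₁ ha₁ hdk.1, hgY b₁ hb₁ hdk.2] at h1
  have h2 := (h.sub h1).flip (by
    rw [show a₀ + a₁ - (a₀ - d + a₁) = d by abel]; exact E.singX d hdX)
  rw [show a₀ + a₁ - (a₀ - d + a₁) = d by abel] at h2
  -- h2 : the pair d, -(b₀ + b₁)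
  have h3 := (E.mixed d hdX b₁ hb₁ (by rw [quad_polar_comm]; exact hdk.2))
  have h4 := h2.sub h3.neg_right
  rw [show -(b₀ + b₁) - -b₁ = -b₀ by abel] at h4
  refine E.roots (E.X.neg_mem hb₀) hdX (fun hm => ?_) (fun h0 => hdW (h0 ▸ Submodule.zero_mem _)) h4
  obtain ⟨c, hc⟩ := Submodule.mem_span_singleton.mp hm
  rcases eq_or_ne c 0 with rfl | hc0
  · rw [zero_smul] at hc; exact hb0 (neg_eq_zero.mp hc.symm)
  · refine hdW (Submodule.mem_span_pair.mpr ⟨0, -c⁻¹, ?_⟩)
    rw [zero_smul, zero_add, show b₀ = -(c • d) by rw [hc, neg_neg], smul_neg, smul_smul, neg_mul,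
      inv_mul_cancel₀ hc0, neg_smul, one_smul, neg_neg]

/-- An element outside the stabiliser gives all roots on one side. -/
theorem Pair.roots_side {g : GL ι F} (hgK : g ∈ K) (hgi : g ∈ Cfsg.isometryGroup F ⇑Q)
    {u : ι → F} (hu : u ∈ E.X) (huX : (g : Matrix ι ι F) *ᵥ u ∉ E.X) (huY : (g : Matrix ι ι F) *ᵥ u ∉ E.Y) :
    (∀ w ∈ E.X, Orth.Root Q K w) ∨ ∀ w ∈ E.Y, Orth.Root Q K w := by
  obtain ⟨a₀, ha₀, a₁, ha₁, hga⟩ := E.split ((g : Matrix ι ι F) *ᵥ u)
  have ha₀0 : a₀ ≠ 0 := fun h => huY (by rw [← hga, h, zero_add]; exact ha₁)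
  have ha₁0 : a₁ ≠ 0 := fun h => huX (by rw [← hga, h, add_zero]; exact ha₀)
  let Yu : Submodule F (ι → F) := E.Y ⊓ LinearMap.ker (polarBilin Q u)
  obtain ⟨v, hv, hvW⟩ : ∃ v ∈ Yu, v ∉ Submodule.span F
      ({((g⁻¹ : GL ι F) : Matrix ι ι F) *ᵥ a₀, ((g⁻¹ : GL ι F) : Matrix ι ι F) *ᵥ a₁} : Set (ι → F)) := by
    refine exists_outside _ ?_
    let φ := (polarBilin Q u).domRestrict E.Y
    have h1 := φ.finrank_range_add_finrank_ker
    have h2 : Module.finrank F (LinearMap.range φ) ≤ 1 := (Submodule.finrank_le _).trans (by simp)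
    have h4 : Module.finrank F (LinearMap.ker φ) ≤ Module.finrank F Yu := by
      rw [← Submodule.finrank_map_subtype_eq]
      refine Submodule.finrank_mono ?_
      rintro _ ⟨z, hz, rfl⟩
      exact ⟨z.2, hz⟩
    have := E.dimY
    have := finrank_span2 (F := F) (((g⁻¹ : GL ι F) : Matrix ι ι F) *ᵥ a₀) (((g⁻¹ : GL ι F) : Matrix ι ι F) *ᵥ a₁)
    omega
  obtain ⟨b₀, hb₀, b₁, hb₁, hgb⟩ := E.split ((g : Matrix ι ι F) *ᵥ v)
  have h := (E.mixed u hu v hv.1 hv.2).conj hgK hgi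
  rw [← hga, ← hgb] at h
  by_cases h0 : b₀ ∈ F ∙ a₀
  · by_cases h1 : b₁ ∈ F ∙ a₁
    · exfalso
      refine hvW ?_
      obtain ⟨s, hs⟩ := Submodule.mem_span_singleton.mp h0
      obtain ⟨t, ht⟩ := Submodule.mem_span_singleton.mp h1
      refine Submodule.mem_span_pair.mpr ⟨s, t, ?_⟩
      rw [← Matrix.mulVec_smul, ← Matrix.mulVec_smul, ← Matrix.mulVec_add, hs, ht, hgb, Matrix.mulVec_mulVec,
        ← Units.val_mul, inv_mul_cancel, Units.val_one, Matrix.one_mulVec]
    · right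
      refine E.swap.roots_of_image hb₁ hb₀ ha₁ ha₀ h1 ha₁0 ?_
      rw [add_comm a₁, add_comm b₁]; exact h
  · left
    exact E.roots_of_image hb₀ hb₁ ha₀ ha₁ h0 ha₀0 h

end core

section interchange

variable {ι : Type} [Fintype ι] [DecidableEq ι] {F : Type*} [Field F] {Q : QuadraticForm F (ι → F)}

/-- A basis of the first space with its dual family, over any index type of the right size. -/
theorem Pair.exists_dualBases {K : Subgroup (GL ι F)} (E : Pair Q K) {κ : Type} [Fintype κ] [DecidableEq κ]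
    (hX : Module.finrank F E.X = Fintype.card κ) (hY : Module.finrank F E.Y = Fintype.card κ) :
    ∃ β : Module.Basis (κ ⊕ κ) F (ι → F), (∀ i, β (.inl i) ∈ E.X) ∧ (∀ i, β (.inr i) ∈ E.Y) ∧
      ∀ i j, polarBilin Q (β (.inl i)) (β (.inr j)) = if i = j then 1 else 0 := by
  let bas : Module.Basis κ F E.X := (Module.finBasisOfFinrankEq F _ hX).reindex (Fintype.equivFin κ).symm
  have hnot : ∀ i, (bas i : ι → F) ∉
      Submodule.span F ((fun j => (bas j : ι → F)) '' {j | j ≠ i}) := fun i =>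
    ((bas.linearIndependent.map' E.X.subtype (Submodule.ker_subtype _)).notMem_span_image (by simp))
  choose y hy hyW hy1 using fun i => E.dual _ (Submodule.span_le.mpr (by rintro _ ⟨j, -, rfl⟩; exact (bas j).2))
    (bas i).2 (hnot i)
  have hd : ∀ i j, polarBilin Q (bas i : ι → F) (y j) = if i = j then 1 else 0 := by
    intro i j
    split_ifs with h
    · rw [h]; exact hy1 j
    · exact hyW j _ (Submodule.subset_span ⟨i, h, rfl⟩)
  let fam : κ ⊕ κ → ι → F := Sum.elim (fun i => (bas i : ι → F)) y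
  have hli : LinearIndependent F fam := by
    refine Fintype.linearIndependent_iff.mpr fun c hc => ?_
    rw [Fintype.sum_sum_type] at hc
    rintro (i | i)
    · have h := congrArg (fun z => polarBilin Q z (y i)) hc
      simpa [fam, LinearMap.sum_apply, hd, sing_polar E.singY (hy _) (hy i)] using h
    · have h := congrArg (polarBilin Q (bas i : ι → F)) hc
      simpa [fam, map_sum, hd, sing_polar E.singX (bas i).2 (bas _).2] using h
  have hn : Fintype.card (κ ⊕ κ) = Module.finrank F (ι → F) := by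
    rw [Fintype.card_sum, ← Submodule.finrank_add_eq_of_isCompl E.compl, hX, hY]
  haveI : Nonempty (κ ⊕ κ) := by
    have h := E.dimX
    have : 0 < Fintype.card κ := by omega
    exact (Fintype.card_pos_iff.mp this).map Sum.inl
  refine ⟨basisOfLinearIndependentOfCardEqFinrank hli hn, ?_, ?_, ?_⟩ <;>
    simp [fam, hy, hd]

/-- The interchange of the two spaces is a commutator of isometries. -/
theorem Pair.exists_interchange {K : Subgroup (GL ι F)} (E : Pair Q K) {h : ℕ}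
    (hX : Module.finrank F E.X = 2 * h) (hY : Module.finrank F E.Y = 2 * h) :
    ∃ e ∈ Cfsg.Geo.omegaGL ⇑Q,
      (∀ x ∈ E.X, (e : Matrix ι ι F) *ᵥ x ∈ E.Y) ∧ ∀ x ∈ E.Y, (e : Matrix ι ι F) *ᵥ x ∈ E.X := by
  obtain ⟨β, hβl, hβr, hβd⟩ := E.exists_dualBases (κ := Fin h × Bool)
    (by rw [hX]; simp [mul_comm]) (by rw [hY]; simp [mul_comm])
  set c := β.equivFun with hc
  have hsum : ∀ x, (∑ i, c x (.inl i) • β (.inl i)) + ∑ i, c x (.inr i) • β (.inr i) = x := fun x => by
    rw [← Fintype.sum_sum_type (fun s => c x s • β s)]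
    exact β.sum_repr x
  have hQ : ∀ x, Q x = ∑ i, c x (.inl i) * c x (.inr i) := fun x => by
    conv_lhs => rw [← hsum x]
    rw [quad_add, E.singX _ (E.X.sum_mem fun i _ => E.X.smul_mem _ (hβl i)),
      E.singY _ (E.Y.sum_mem fun i _ => E.Y.smul_mem _ (hβr i))]
    simp [map_sum, LinearMap.sum_apply, hβd, mul_comm]
  have hcX : ∀ x ∈ E.X, ∀ i, c x (.inr i) = 0 := by
    intro x hx i
    have h0 : polarBilin Q (β (.inl i)) x = c x (.inr i) := by
      conv_lhs => rw [← hsum x]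
      simp [map_sum, hβd, sing_polar E.singX (hβl i) (hβl _)]
    rw [← h0]; exact sing_polar E.singX (hβl i) hx
  have hcY : ∀ x ∈ E.Y, ∀ i, c x (.inl i) = 0 := by
    intro x hx i
    have h0 : polarBilin Q x (β (.inr i)) = c x (.inl i) := by
      conv_lhs => rw [← hsum x]
      simp [map_add, map_sum, LinearMap.sum_apply, hβd, sing_polar E.singY (hβr _) (hβr i)]
    rw [← h0]; exact sing_polar E.singY hx (hβr i)
  -- permutations of the basis
  let π₁ : Equiv.Perm ((Fin h × Bool) ⊕ (Fin h × Bool)) :=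
    Function.Involutive.toPerm
      (fun s => match s with
        | .inl (i, false) => .inr (i, false)
        | .inr (i, false) => .inl (i, false)
        | .inl (i, true) => .inl (i, true)
        | .inr (i, true) => .inr (i, true))
      (by rintro (⟨i, b⟩ | ⟨i, b⟩) <;> cases b <;> rfl)
  let π₂ : Equiv.Perm ((Fin h × Bool) ⊕ (Fin h × Bool)) :=
    Function.Involutive.toPerm (Sum.map (fun p => (p.1, !p.2)) (fun p => (p.1, !p.2)))
      (by rintro (⟨i, b⟩ | ⟨i, b⟩) <;> cases b <;> rfl)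
  let T : Equiv.Perm ((Fin h × Bool) ⊕ (Fin h × Bool)) → ((ι → F) ≃ₗ[F] (ι → F)) := fun π =>
    c.trans ((LinearEquiv.funCongrLeft F F π).trans c.symm)
  have hT : ∀ π x s, c (T π x) s = c x (π s) := fun π x s => by simp [T]
  have h1 : T π₁ ∈ quadIsometries Q := fun x => by
    rw [hQ, hQ]
    refine Finset.sum_congr rfl fun p _ => ?_
    obtain ⟨i, b⟩ := p
    rw [hT, hT]
    cases b
    · exact mul_comm _ _
    · rfl
  have h2 : T π₂ ∈ quadIsometries Q := fun x => by
    rw [hQ, hQ, ← Equiv.sum_comp (Equiv.prodCongr (Equiv.refl (Fin h))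
      (Function.Involutive.toPerm Bool.not Bool.not_not)) (fun i => c x (.inl i) * c x (.inr i))]
    refine Finset.sum_congr rfl fun p _ => ?_
    obtain ⟨i, b⟩ := p
    rw [hT, hT]
    rfl
  set R : quadIsometries Q := ⟨T π₁, h1⟩ with hR
  set H : quadIsometries Q := ⟨T π₂, h2⟩ with hH
  have hR2 : R⁻¹ = R := by
    rw [inv_eq_iff_mul_eq_one]
    refine Subtype.ext (LinearEquiv.ext fun x => c.injective (funext fun s => ?_))
    show c (T π₁ (T π₁ x)) s = c x s
    rw [hT, hT]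
    rcases s with ⟨i, b⟩ | ⟨i, b⟩ <;> cases b <;> rfl
  have hH2 : H⁻¹ = H := by
    rw [inv_eq_iff_mul_eq_one]
    refine Subtype.ext (LinearEquiv.ext fun x => c.injective (funext fun s => ?_))
    show c (T π₂ (T π₂ x)) s = c x s
    rw [hT, hT]
    rcases s with ⟨i, b⟩ | ⟨i, b⟩ <;> cases b <;> rfl
  have hsw : ∀ x s, c ((Orth.toGL Q ⁅R, H⁆ : Matrix ι ι F) *ᵥ x) s = c x s.swap := by
    intro x s
    rw [Orth.toGL_mulVec, commutatorElement_def, hR2, hH2]
    show c (T π₁ (T π₂ (T π₁ (T π₂ x)))) s = c x s.swap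
    rw [hT, hT, hT, hT]
    rcases s with ⟨i, b⟩ | ⟨i, b⟩ <;> cases b <;> rfl
  refine ⟨Orth.toGL Q ⁅R, H⁆, ?_, fun x hx => ?_, fun x hx => ?_⟩
  · refine ⟨(isometryEquiv Q).symm ⁅R, H⁆, ?_, rfl⟩
    rw [map_commutatorElement]
    exact Subgroup.commutator_mem_commutator (Subgroup.mem_top _) (Subgroup.mem_top _)
  · rw [← hsum ((Orth.toGL Q ⁅R, H⁆ : Matrix ι ι F) *ᵥ x)]
    simp_rw [hsw, Sum.swap_inl, hcX x hx, zero_smul, Finset.sum_const_zero, zero_add]
    exact E.Y.sum_mem fun i _ => E.Y.smul_mem _ (hβr i)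
  · rw [← hsum ((Orth.toGL Q ⁅R, H⁆ : Matrix ι ι F) *ᵥ x)]
    simp_rw [hsw, Sum.swap_inr, hcY x hx, zero_smul, Finset.sum_const_zero, add_zero]
    exact E.X.sum_mem fun i _ => E.X.smul_mem _ (hβl i)

end interchange

/-- Let F be a finite field with q elements, n ≥ 13 even, Q a non-degenerate quadratic form on F^n of plus type (some subspace of dimension n/2 is totally singular), and Ω the commutator subgroup of the isometry group of Q, viewed inside GL_n(F). Suppose n/2 is even and let D be a decomposition of F^n into two complementary subspaces of dimension n/2 on each of which Q vanishes. Then the elements of Ω preserving or interchanging the two subspaces form a maximal subgroup of Ω. -/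
theorem result {F : Type*} [Field F] [Fintype F] {n : ℕ} (hn : 13 ≤ n) (heven : Even n) (Q : (Fin n → F) → F) (hQ : Cfsg.Geo.IsNondegenerateQuadraticForm Q) (hplus : Cfsg.Geo.IsPlusTypeOn Q ⊤) (k : ℕ) (hk : 2 * k = n) (hke : Even k) (D : Fin 2 → Submodule F (Fin n → F)) (hD : Cfsg.Geo.IsMDecomposition k D) (hts : ∀ i, Cfsg.Geo.IsTotallySingularQuad Q (D i)) : Cfsg.Geo.IsMaximalIn (Cfsg.Geo.omegaGL Q) (Cfsg.Geo.decompositionStabilizer D ⊓ Cfsg.Geo.omegaGL Q) := by
  classical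
  obtain ⟨Q, rfl, hN⟩ := Orth.exists_quadraticForm hQ
  have hcard : 7 ≤ Fintype.card (Fin n) := by rw [Fintype.card_fin]; omega
  have hcompl : IsCompl (D 0) (D 1) := by
    refine ⟨hD.indep.pairwiseDisjoint (by decide), codisjoint_iff.mpr ?_⟩
    rw [← hD.iSup_eq_top]
    refine le_antisymm (sup_le (le_iSup D 0) (le_iSup D 1)) (iSup_le fun i => ?_)
    fin_cases i
    exacts [le_sup_left, le_sup_right]
  have hinjg : ∀ g : GL (Fin n) F, Function.Injective (Matrix.toLin' (g : Matrix (Fin n) (Fin n) F)) := by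
    intro g a b h
    simp only [Matrix.toLin'_apply] at h
    have h2 := congrArg (((g⁻¹ : GL (Fin n) F) : Matrix (Fin n) (Fin n) F) *ᵥ ·) h
    simpa [Matrix.mulVec_mulVec, ← Units.val_mul] using h2
  have hdimg : ∀ (g : GL (Fin n) F) (i j : Fin 2),
      (∀ x ∈ D i, (g : Matrix (Fin n) (Fin n) F) *ᵥ x ∈ D j) →
      (D i).map (Matrix.toLin' (g : Matrix (Fin n) (Fin n) F)) = D j := by
    intro g i j h
    refine Submodule.eq_of_le_of_finrank_eq ?_ ?_
    · rintro _ ⟨x, hx, rfl⟩; rw [Matrix.toLin'_apply]; exact h x hx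
    · rw [← (Submodule.equivMapOfInjective _ (hinjg g) _).finrank_eq, hD.finrank_eq, hD.finrank_eq]
  have hmem : ∀ (g : GL (Fin n) F) (σ : Equiv.Perm (Fin 2)),
      (∀ i, ∀ x ∈ D i, (g : Matrix (Fin n) (Fin n) F) *ᵥ x ∈ D (σ i)) → g ∈ Cfsg.Geo.decompositionStabilizer D :=
    fun g σ h => ⟨σ, fun i => hdimg g i (σ i) (h i)⟩
  have hfix : ∀ u ∈ D 0, ∀ v ∈ D 1, polarBilin Q u v = 0 →
      InE Q (Cfsg.Geo.decompositionStabilizer D ⊓ Cfsg.Geo.omegaGL ⇑Q) u v := by
    intro u hu v hv huv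
    have hqu : Q u = 0 := hts 0 u hu
    refine ⟨hqu, huv, hmem _ 1 fun i x hx => ?_, Orth.eichGL_mem_omega hN hcard hqu huv⟩
    rw [Orth.eichGL_mulVec, show Q v = 0 from hts 1 v hv, zero_mul, add_zero, Equiv.Perm.one_apply]
    fin_cases i
    · rw [sing_polar (hts 0) hx hu, zero_smul, add_zero]
      exact (D 0).sub_mem hx ((D 0).smul_mem _ hu)
    · rw [sing_polar (hts 1) hx hv, zero_smul, sub_zero]
      exact (D 1).add_mem hx ((D 1).smul_mem _ hv)
  let E : Pair Q (Cfsg.Geo.decompositionStabilizer D ⊓ Cfsg.Geo.omegaGL ⇑Q) :=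
    ⟨hN, D 0, D 1, hcompl, hts 0, hts 1, by rw [hD.finrank_eq]; omega, by rw [hD.finrank_eq]; omega, hfix⟩
  have hdisj : ∀ x, x ∈ D 0 → x ∈ D 1 → x = 0 := fun x h0 h1 =>
    Submodule.disjoint_def.mp hcompl.disjoint x h0 h1
  refine ⟨lt_of_le_of_ne inf_le_right ?_, ?_⟩
  · intro h
    obtain ⟨u, hu, hu0⟩ := exists_outside (⊥ : Submodule F (Fin n → F)) (X := D 0)
      (by rw [finrank_bot, hD.finrank_eq]; omega)
    obtain ⟨u', hu', hu'W⟩ := exists_outside (F ∙ u) (X := D 0)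
      (by rw [hD.finrank_eq, finrank_span_singleton (by simpa using hu0)]; omega)
    obtain ⟨y, hy, -, huy⟩ := E.dual ⊥ bot_le hu hu0
    have hqu : Q u = 0 := hts 0 u hu
    have huu' : polarBilin Q u u' = 0 := sing_polar (hts 0) hu hu'
    have hm : Orth.eichGL Q u u' hqu huu' ∈ Cfsg.Geo.decompositionStabilizer D ⊓ Cfsg.Geo.omegaGL ⇑Q := by
      rw [h]; exact Orth.eichGL_mem_omega hN hcard hqu huu'
    obtain ⟨σ, hσ⟩ := hm.1
    have h1 : (Orth.eichGL Q u u' hqu huu' : Matrix (Fin n) (Fin n) F) *ᵥ y ∈ D (σ 1) :=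
      hσ 1 ▸ ⟨y, hy, Matrix.toLin'_apply _ _⟩
    rw [Orth.eichGL_mulVec, quad_polar_comm Q y u, huy, show Q u' = 0 from hts 0 u' hu', zero_mul, add_zero,
      one_smul] at h1
    obtain ⟨hy0, huy'⟩ : y ≠ 0 ∧ u' - polarBilin Q y u' • u ≠ 0 := by
      refine ⟨fun h => by rw [h, map_zero] at huy; exact zero_ne_one huy, fun h => hu'W ?_⟩
      exact Submodule.mem_span_singleton.mpr ⟨_, (sub_eq_zero.mp h).symm⟩
    have hd0 : u' - polarBilin Q y u' • u ∈ D 0 := (D 0).sub_mem hu' ((D 0).smul_mem _ hu)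
    rw [add_sub_assoc] at h1
    rcases Fin.exists_fin_two.mp ⟨σ 1, rfl⟩ with hs | hs <;> rw [hs] at h1
    · exact hy0 (hdisj y ((Submodule.add_mem_iff_left _ hd0).mp h1) hy)
    · exact huy' (hdisj _ hd0 ((Submodule.add_mem_iff_right _ hy).mp h1))
  intro M hle hMS
  by_cases hN' : M ≤ Cfsg.Geo.decompositionStabilizer D
  · exact Or.inl (le_antisymm (le_inf hN' hMS) hle)
  right
  obtain ⟨g, hgM, hg⟩ := SetLike.not_le_iff_exists.mp hN'
  have hgi := Orth.omegaGL_le_isometry (hMS hgM)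
  let EM : Pair Q M := ⟨hN, D 0, D 1, hcompl, hts 0, hts 1, E.dimX, E.dimY,
    fun u hu v hv h => by obtain ⟨a, b, c⟩ := hfix u hu v hv h; exact ⟨a, b, hle c⟩⟩
  -- a vector of one space moved outside both
  obtain ⟨i, u, hu, hu0, hu1⟩ : ∃ i, ∃ u ∈ D i, (g : Matrix (Fin n) (Fin n) F) *ᵥ u ∉ D 0 ∧
      (g : Matrix (Fin n) (Fin n) F) *ᵥ u ∉ D 1 := by
    by_contra hc
    push Not at hc
    have hj : ∀ i, ∃ j, (D i).map (Matrix.toLin' (g : Matrix (Fin n) (Fin n) F)) = D j := by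
      intro i
      by_cases h0 : ∀ x ∈ D i, (g : Matrix (Fin n) (Fin n) F) *ᵥ x ∈ D 0
      · exact ⟨0, hdimg g i 0 h0⟩
      push Not at h0
      obtain ⟨x, hx, hx0⟩ := h0
      refine ⟨1, hdimg g i 1 fun y hy => ?_⟩
      by_contra hy1
      have hy0 : (g : Matrix (Fin n) (Fin n) F) *ᵥ y ∈ D 0 := by
        by_contra hy0
        exact hy1 (hc i y hy hy0)
      have hxy := hc i (x + y) ((D i).add_mem hx hy)
      rw [Matrix.mulVec_add] at hxy
      exact hy1 ((Submodule.add_mem_iff_right _ (hc i x hx hx0)).mp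
        (hxy fun h => hx0 ((Submodule.add_mem_iff_left _ hy0).mp h)))
    choose σ hσ using hj
    have hσi : Function.Injective σ := fun a b hab => by
      by_contra hne
      have h1 : D a = D b := Submodule.map_injective_of_injective (hinjg g) (by rw [hσ, hσ, hab])
      obtain ⟨x, hx, hx0⟩ := exists_outside (⊥ : Submodule F (Fin n → F)) (X := D a)
        (by rw [finrank_bot, hD.finrank_eq]; omega)
      exact hx0 (by simpa using Submodule.disjoint_def.mp (hD.indep.pairwiseDisjoint hne) x hx (h1 ▸ hx))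
    exact hg ⟨Equiv.ofBijective σ (Finite.injective_iff_bijective.mp hσi), hσ⟩
  have hside : (∀ w ∈ D 0, Orth.Root Q M w) ∨ ∀ w ∈ D 1, Orth.Root Q M w := by
    fin_cases i
    · exact EM.roots_side hgM hgi hu hu0 hu1
    · exact (EM.swap.roots_side hgM hgi hu hu1 hu0).symm
  -- the interchange
  obtain ⟨h, hh⟩ := hke
  obtain ⟨e, heO, he0, he1⟩ := E.exists_interchange (h := h) (by rw [hD.finrank_eq]; omega)
    (by rw [hD.finrank_eq]; omega)
  have heM : e ∈ M := by
    refine hle ⟨hmem e (Equiv.swap 0 1) fun i x hx => ?_, heO⟩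
    fin_cases i
    · simpa using he0 x hx
    · simpa using he1 x hx
  have hei := Orth.omegaGL_le_isometry heO
  refine le_antisymm hMS (Orth.omega_le hN hcard ?_)
  obtain ⟨w, hw, hw0⟩ := exists_outside (⊥ : Submodule F (Fin n → F)) (X := D 0)
    (by rw [finrank_bot, hD.finrank_eq]; omega)
  obtain ⟨w', hw', hw'0⟩ := exists_outside (⊥ : Submodule F (Fin n → F)) (X := D 1)
    (by rw [finrank_bot, hD.finrank_eq]; omega)
  have hne : ∀ (g : GL (Fin n) F) (x : Fin n → F), x ∉ (⊥ : Submodule F (Fin n → F)) →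
      (g : Matrix (Fin n) (Fin n) F) *ᵥ x ∉ (⊥ : Submodule F (Fin n → F)) := fun g x hx h => hx (by
    rw [Submodule.mem_bot] at h ⊢
    exact hinjg g (by rw [Matrix.toLin'_apply, h, map_zero]))
  rcases hside with hs | hs
  · obtain ⟨v, hv, -, hev⟩ := E.swap.dual ⊥ bot_le (he0 w hw) (hne e w hw0)
    exact ((hs w hw).conj heM hei).all hN (hs v hv) (by rw [hev]; exact one_ne_zero)
  · obtain ⟨v, hv, -, hev⟩ := E.dual ⊥ bot_le (he1 w' hw') (hne e w' hw'0)
    exact ((hs w' hw').conj heM hei).all hN (hs v hv) (by rw [hev]; exact one_ne_zero)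

end Cfsg.Agent.S5697
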