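import Cfsg.Statements.S5698
import Cfsg.Agent.Lib.MaxSub.OrthFamily

set_option autoImplicit false
open Cfsg

namespace Cfsg.Agent.S5698

open Cfsg.Agent.Lib.MaxSub Matrix QuadraticMap in
open Cfsg.Agent.Lib.Geometry (quad_add quad_smul quad_polar_comm) in
/-- Let F be a finite field with q elements, n ≥ 13 even, Q a non-degenerate quadratic form on F^n of plus type (some subspace of dimension n/2 is totally singular), and Ω the commutator subgroup of the isometry group of Q, viewed inside GL_n(F). Suppose n/2 is odd and let D be a decomposition of F^n into two complementary subspaces of dimension n/2 on each of which Q vanishes. Then the elements of Ω preserving or interchanging the two subspaces form a subgroup that is not maximal: some subgroup lies strictly between it and Ω. -/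
theorem result {F : Type*} [Field F] [Fintype F] {n : ℕ} (hn : 13 ≤ n) (heven : Even n) (Q : (Fin n → F) → F) (hQ : Cfsg.Geo.IsNondegenerateQuadraticForm Q) (hplus : Cfsg.Geo.IsPlusTypeOn Q ⊤) (k : ℕ) (hk : 2 * k = n) (hko : Odd k) (D : Fin 2 → Submodule F (Fin n → F)) (hD : Cfsg.Geo.IsMDecomposition k D) (hts : ∀ i, Cfsg.Geo.IsTotallySingularQuad Q (D i)) : ∃ K : Subgroup (Matrix.GeneralLinearGroup (Fin n) F), Cfsg.Geo.decompositionStabilizer D ⊓ Cfsg.Geo.omegaGL Q < K ∧ K < Cfsg.Geo.omegaGL Q := by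
  obtain ⟨Q, rfl, hN⟩ := Orth.exists_quadraticForm hQ
  have h7 : 7 ≤ Fintype.card (Fin n) := by rw [Fintype.card_fin]; omega
  have hdisj : Disjoint (D 0) (D 1) := hD.indep.pairwiseDisjoint Fin.zero_ne_one
  have hself : ∀ i, ∀ x ∈ D i, ∀ y ∈ D i, polarBilin Q x y = 0 := fun i =>
    Cfsg.Agent.Lib.Geometry.polar_eq_zero_of_singular Q (hts i)
  have hsingle : ∀ a : Fin n → F, Module.finrank F (F ∙ a) ≤ 1 := fun a =>
    (finrank_span_le_card _).trans (by simp)
  have hpick : ∀ i : Fin 2, ∀ z : Fin n → F, ∃ u ∈ D i, u ≠ 0 ∧ polarBilin Q u z = 0 := by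
    intro i z
    obtain ⟨u, ⟨hu, huz⟩, hu0⟩ := (Submodule.ne_bot_iff (D i ⊓ LinearMap.ker (polarBilin Q z))).mp fun h => by
      have h1 := OrthSplit.finrank_inf_ker (D i) (polarBilin Q z)
      rw [h, finrank_bot, hD.finrank_eq] at h1
      omega
    exact ⟨u, hu, hu0, by rw [quad_polar_comm]; exact huz⟩
  have hnot : ∀ i j : Fin 2, i ≠ j → ∀ u ∈ D i, u ≠ 0 → u ∉ D j := fun i j hij u hu hu0 huj =>
    hu0 (Submodule.disjoint_def.mp (hD.indep.pairwiseDisjoint hij) u hu huj)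
  have hz : ∀ j : Fin 2, ∃ z ∈ D j, z ≠ 0 := fun j => (Submodule.ne_bot_iff _).mp fun h => by
    have := hD.finrank_eq j
    rw [h, finrank_bot] at this
    omega
  have hspan : ∀ i j : Fin 2, i ≠ j → ∀ u ∈ D i, ∀ z ∈ D j, z ≠ 0 → z ∉ F ∙ u := fun i j hij u hu z hz hz0 hm => by
    obtain ⟨c, rfl⟩ := Submodule.mem_span_singleton.mp hm
    exact hnot j i hij.symm _ hz hz0 ((D i).smul_mem c hu)
  refine ⟨Cfsg.Geo.subspaceStabilizer (D 0) ⊓ Cfsg.Geo.omegaGL ⇑Q, lt_of_le_of_ne ?_ ?_, ?_⟩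
  · rintro g ⟨⟨σ, hσ⟩, hgo⟩
    refine ⟨OrthSplit.mem_stab_of_map fun w hw => ?_, hgo⟩
    have h1 : (g : Matrix (Fin n) (Fin n) F) *ᵥ w ∈ D (σ 0) := hσ 0 ▸ ⟨w, hw, Matrix.toLin'_apply _ _⟩
    rcases Fin.exists_fin_two.mp ⟨σ 0, rfl⟩ with h | h
    · rwa [h] at h1
    · exfalso
      have hev := OrthFamily.even_codim hN (m := k) (by rw [Fintype.card_fin]; omega) (hD.finrank_eq 0) (hts 0) hgo
      rw [hσ 0, h, hdisj.eq_bot, finrank_bot, Nat.sub_zero] at hev
      exact Nat.not_even_iff_odd.mpr hko hev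
  · intro h
    obtain ⟨z, hz1, hz0⟩ := hz 1
    obtain ⟨u, hu, hu0, huz⟩ := hpick 0 z
    obtain ⟨g, hg, hg1⟩ := OrthFamily.exists_move hN h7 (A := D 0) (U := D 1) (hts 0 u hu)
      (hnot 0 1 Fin.zero_ne_one u hu hu0) hz1 (hspan 0 1 Fin.zero_ne_one u hu z hz1 hz0) huz hu (hself 0 u hu)
    rw [← h] at hg
    obtain ⟨σ, hσ⟩ := hg.1
    refine hg1 (OrthSplit.mem_stab_of_map fun w hw => ?_)
    have hσ0 : σ 0 = 0 := by
      by_contra hne
      have hgo := hg.2
      have hev := OrthFamily.even_codim hN (m := k) (by rw [Fintype.card_fin]; omega) (hD.finrank_eq 0) (hts 0) hgo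
      rw [hσ 0, (Fin.exists_fin_two.mp ⟨σ 0, rfl⟩).resolve_left hne, hdisj.eq_bot, finrank_bot, Nat.sub_zero] at hev
      exact Nat.not_even_iff_odd.mpr hko hev
    have hσ1 : σ 1 = 1 := by
      by_contra hne
      exact absurd (σ.injective ((Fin.exists_fin_two.mp ⟨σ 1, rfl⟩).resolve_right hne |>.trans hσ0.symm)) (by decide)
    have h1 : (g : Matrix (Fin n) (Fin n) F) *ᵥ w ∈ D (σ 1) := hσ 1 ▸ ⟨w, hw, Matrix.toLin'_apply _ _⟩
    rwa [hσ1] at h1
  · obtain ⟨z, hz1, hz0⟩ := hz 0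
    obtain ⟨u, hu, hu0, huz⟩ := hpick 1 z
    exact OrthFamily.stab_lt hN h7 (hts 1 u hu) (hnot 1 0 (by decide) u hu hu0) hz1
      (hspan 1 0 (by decide) u hu z hz1 hz0) huz

end Cfsg.Agent.S5698
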