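import Cfsg.Statements.S5699
import Cfsg.Agent.Lib.MaxSub.OrthSplitMain

set_option autoImplicit false
open Cfsg

namespace Cfsg.Agent.S5699

open Cfsg.Agent.Lib.MaxSub Matrix in
/-- Let F be a finite field with q elements, n ≥ 13 even, Q a non-degenerate quadratic form on F^n (of either type), and Ω the commutator subgroup of the isometry group of Q, viewed inside GL_n(F). Let D be a decomposition of F^n into two orthogonal subspaces of odd dimension n/2 on which the polar form is non-degenerate and which are not Q-isometric to each other. Then the elements of Ω permuting (necessarily fixing) the two subspaces form a maximal subgroup of Ω. -/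
theorem result {F : Type*} [Field F] [Fintype F] {n : ℕ} (hn : 13 ≤ n) (heven : Even n) (Q : (Fin n → F) → F) (hQ : Cfsg.Geo.IsNondegenerateQuadraticForm Q) (k : ℕ) (hk : 2 * k = n) (hko : Odd k) (D : Fin 2 → Submodule F (Fin n → F)) (hD : Cfsg.Geo.IsNondegenerateMDecomposition (QuadraticMap.polar Q) k D) (hni : ¬ Cfsg.Geo.AreIsometricFor Q (D 0) (D 1)) : Cfsg.Geo.IsMaximalIn (Cfsg.Geo.omegaGL Q) (Cfsg.Geo.decompositionStabilizer D ⊓ Cfsg.Geo.omegaGL Q) := by
  obtain ⟨Q, rfl, hN⟩ := Orth.exists_quadraticForm hQ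
  have hd := hD.decomp
  have S : OrthSplit.Split Q (D 0) (D 1) := by
    refine ⟨hN, fun w hw y hy => hD.orthogonal 0 1 Fin.zero_ne_one w hw y hy, ?_, ?_⟩
    · exact hd.indep.pairwiseDisjoint Fin.zero_ne_one
    · rw [codisjoint_iff, ← hd.iSup_eq_top]
      refine le_antisymm (sup_le (le_iSup D 0) (le_iSup D 1)) (iSup_le fun i => ?_)
      fin_cases i
      · exact le_sup_left
      · exact le_sup_right
  have hswap : ∀ g ∈ Cfsg.isometryGroup F ⇑Q, (∀ w ∈ D 0, (g : Matrix (Fin n) (Fin n) F) *ᵥ w ∈ D 1) → False := by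
    intro g hg hgW
    let L : D 0 →ₗ[F] D 1 := ((Matrix.toLin' (g : Matrix (Fin n) (Fin n) F)).domRestrict (D 0)).codRestrict (D 1)
      fun w => hgW w w.2
    have hinj : Function.Injective L := fun x y h => (by
      have h1 := congrArg (fun z : D 1 => ((g⁻¹ : GL (Fin n) F) : Matrix (Fin n) (Fin n) F) *ᵥ (z : Fin n → F)) h
      change _ *ᵥ ((g : Matrix (Fin n) (Fin n) F) *ᵥ (x : Fin n → F)) = _ *ᵥ ((g : Matrix (Fin n) (Fin n) F) *ᵥ (y : Fin n → F)) at h1
      rwa [Matrix.mulVec_mulVec, Matrix.mulVec_mulVec, ← Units.val_mul, inv_mul_cancel, Units.val_one,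
        Matrix.one_mulVec, Matrix.one_mulVec, SetLike.coe_eq_coe] at h1)
    refine hni ⟨LinearEquiv.ofBijective L ⟨hinj, ?_⟩, fun w => Orth.iso_quad hg w⟩
    exact (LinearMap.injective_iff_surjective_of_finrank_eq_finrank (by rw [hd.finrank_eq, hd.finrank_eq])).mp hinj
  have heq : Cfsg.Geo.decompositionStabilizer D ⊓ Cfsg.Geo.omegaGL ⇑Q =
      Cfsg.Geo.subspaceStabilizer (D 0) ⊓ Cfsg.Geo.omegaGL ⇑Q := by
    ext g
    have hmap : ∀ (W : Submodule F (Fin n → F)), (∀ w ∈ W, (g : Matrix (Fin n) (Fin n) F) *ᵥ w ∈ W) →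
        W.map (Matrix.toLin' (g : Matrix (Fin n) (Fin n) F)) = W := by
      intro W h
      refine Submodule.eq_of_le_of_finrank_eq ?_ (Submodule.equivMapOfInjective _ (fun x y h => ?_) W).finrank_eq.symm
      · rintro _ ⟨w, hw, rfl⟩; rw [Matrix.toLin'_apply]; exact h w hw
      · have h1 := congrArg (fun z => ((g⁻¹ : GL (Fin n) F) : Matrix (Fin n) (Fin n) F) *ᵥ z) h
        simp only [Matrix.toLin'_apply, Matrix.mulVec_mulVec, ← Units.val_mul, inv_mul_cancel, Units.val_one,
          Matrix.one_mulVec] at h1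
        exact h1
    constructor
    · rintro ⟨⟨σ, hσ⟩, hgo⟩
      refine ⟨OrthSplit.mem_stab_of_map fun w hw => ?_, hgo⟩
      have h1 : (g : Matrix (Fin n) (Fin n) F) *ᵥ w ∈ D (σ 0) := hσ 0 ▸ ⟨w, hw, Matrix.toLin'_apply _ _⟩
      rcases Fin.exists_fin_two.mp ⟨σ 0, rfl⟩ with h | h
      · rwa [h] at h1
      · refine (hswap g (Orth.omegaGL_le_isometry hgo) fun x hx => ?_).elim
        rw [← h]
        exact hσ 0 ▸ ⟨x, hx, Matrix.toLin'_apply _ _⟩
    · rintro ⟨hg, hgo⟩
      refine ⟨⟨1, fun i => ?_⟩, hgo⟩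
      fin_cases i
      · exact hmap _ fun w hw => (hg w).mp hw
      · exact hmap _ fun w hw => S.map_right (Orth.omegaGL_le_isometry hgo) hg hw
  rw [heq]
  refine OrthSplit.maximal_of_nondegenerate (by rw [Fintype.card_fin]; omega) S (fun h => ?_) (fun h => ?_)
    (fun h => ?_) (fun h => ?_) fun _ => hswap
  · have := hd.finrank_eq 0
    rw [h, finrank_bot] at this
    omega
  · have := hd.finrank_eq 0
    rw [h, finrank_top, Module.finrank_fintype_fun_eq_card, Fintype.card_fin] at this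
    omega
  · rw [hd.finrank_eq] at h; omega
  · rw [hd.finrank_eq] at h; omega

end Cfsg.Agent.S5699
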