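import Cfsg.Statements.S5700
import Cfsg.Agent.Lib.ThreeTransp.UniInOrth

set_option autoImplicit false
open Cfsg

namespace Cfsg.Agent.S5700

/-- Let F be a finite field with q elements, n ≥ 13 even, Q a non-degenerate quadratic form on F^n (of either type), and Ω the commutator subgroup of the isometry group of Q, viewed inside GL_n(F). Let K be a subfield of the algebra of n × n matrices over F containing the scalars, of degree 2 over F, closed under adjoints for the polar form of Q but not consisting of self-adjoint elements, and such that every k in K rescales Q (Q(k v) = c Q(v) for a constant c depending on k). Then the elements of Ω normalising K form a maximal subgroup of Ω. -/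
theorem result {F : Type*} [Field F] [Fintype F] {n : ℕ} (hn : 13 ≤ n) (heven : Even n) (Q : (Fin n → F) → F) (hQ : Cfsg.Geo.IsNondegenerateQuadraticForm Q) (K : Subalgebra F (Matrix (Fin n) (Fin n) F)) (hK : Cfsg.Geo.IsFieldSubalgebra 2 K) (hac : Cfsg.Geo.IsAdjointClosedFor (QuadraticMap.polar Q) K) (hnsa : ¬ Cfsg.Geo.IsSelfAdjointFor (QuadraticMap.polar Q) K) (hsc : ∀ k ∈ K, ∃ c : F, ∀ v : (Fin n → F), Q (Matrix.mulVec k v) = c * Q v) : Cfsg.Geo.IsMaximalIn (Cfsg.Geo.omegaGL Q) (Cfsg.Geo.subalgebraNormalizer K ⊓ Cfsg.Geo.omegaGL Q) := by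
  classical
  haveI : Finite F := Finite.of_fintype F
  haveI : Nonempty (Fin n) := ⟨⟨0, by omega⟩⟩
  obtain ⟨Q₁, rfl, hN⟩ := Cfsg.Agent.Lib.MaxSub.Orth.exists_quadraticForm hQ
  obtain ⟨ω, s, t, G⟩ := Cfsg.Agent.Lib.ThreeTransp.QuadSub.exists_gen hK
  have hadj := G.adjoint (B := QuadraticMap.polarBilin Q₁) hN.2
    (fun k hk => by
      obtain ⟨k', hk', h⟩ := hac k hk
      exact ⟨k', hk', fun u v => by simpa using h u v⟩)
    (fun h => hnsa fun k hk u v => by simpa using h k hk u v)
  refine (Cfsg.Agent.Lib.ThreeTransp.UniInOrth.Sys.maximal (ω := ω) (s := s) (t := t)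
    ⟨hN, by simpa using hn, G, hadj, fun v hv => ?_⟩)
  obtain ⟨c, hc⟩ := hsc ω G.mem
  obtain ⟨c', hc'⟩ := hsc (1 + ω) (K.add_mem K.one_mem G.mem)
  have h1 : Q₁ (Matrix.mulVec ω v) = 0 := by rw [hc, hv, mul_zero]
  refine ⟨h1, ?_⟩
  have h2 := hc' v
  rw [Matrix.add_mulVec, Matrix.one_mulVec, Cfsg.Agent.Lib.Geometry.quad_add, hv, h1, mul_zero, zero_add,
    zero_add] at h2
  exact h2

end Cfsg.Agent.S5700
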