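import Cfsg.Statements.S5701
import Cfsg.Agent.Lib.ThreeTransp.ExtOrthMatrix

set_option autoImplicit false
open Cfsg

namespace Cfsg.Agent.S5701

/-- Let F be a finite field with q elements, n ≥ 13 even, Q a non-degenerate quadratic form on F^n (of either type), and Ω the commutator subgroup of the isometry group of Q, viewed inside GL_n(F). Suppose q is odd. Let K be a subfield of the algebra of n × n matrices over F containing the scalars, of prime degree r over F with n/r ≥ 3, whose elements are self-adjoint for the polar form of Q. Then the elements of Ω normalising K form a maximal subgroup of Ω. -/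
theorem result {F : Type*} [Field F] [Fintype F] {n : ℕ} (hn : 13 ≤ n) (heven : Even n) (Q : (Fin n → F) → F) (hQ : Cfsg.Geo.IsNondegenerateQuadraticForm Q) (hodd : Odd (Fintype.card F)) (r : ℕ) (hr : r.Prime) (hnr : 3 * r ≤ n) (K : Subalgebra F (Matrix (Fin n) (Fin n) F)) (hK : Cfsg.Geo.IsFieldSubalgebra r K) (hsa : Cfsg.Geo.IsSelfAdjointFor (QuadraticMap.polar Q) K) : Cfsg.Geo.IsMaximalIn (Cfsg.Geo.omegaGL Q) (Cfsg.Geo.subalgebraNormalizer K ⊓ Cfsg.Geo.omegaGL Q) := by
  obtain ⟨Q₁, rfl, hN⟩ := Cfsg.Agent.Lib.MaxSub.Orth.exists_quadraticForm hQ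
  have h2 : (2 : F) ≠ 0 := Ring.two_ne_zero fun h => Nat.not_even_iff_odd.mpr hodd
    (Nat.even_iff.mpr (FiniteField.even_card_of_char_two h))
  obtain ⟨L, _, _, _, _, _, e, hrk, -⟩ := Cfsg.Agent.Lib.ThreeTransp.ExtField.exists_field hK hr.ne_zero
  have h := Module.finrank_mul_finrank F L (Fin n → F)
  rw [hrk, Module.finrank_pi, Fintype.card_fin] at h
  have h4 : 4 * r ≤ n := by
    by_contra hc
    have hm : Module.finrank L (Fin n → F) = 3 := by nlinarith
    rw [hm] at h
    rcases hr.eq_two_or_odd' with rfl | ho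
    · omega
    · exact Nat.not_odd_iff_even.mpr heven (h ▸ ho.mul (by decide))
  refine Cfsg.Agent.Lib.ThreeTransp.ExtField.orth_ext_maximal hN ?_ h2 hr hK hsa ?_ ?_ ?_ <;>
    simp only [Fintype.card_fin]
  · omega
  · exact hnr
  · intro h3
    omega
  · intro _
    obtain ⟨a, ha⟩ := heven
    omega

end Cfsg.Agent.S5701
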