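import Cfsg.Statements.S5702
import Cfsg.Agent.Lib.ThreeTransp.SubOrth

set_option autoImplicit false
open Cfsg

namespace Cfsg.Agent.S5702

/-- Let F be a finite field with q elements, n ≥ 13 even, Q a non-degenerate quadratic form on F^n (of either type), and Ω the commutator subgroup of the isometry group of Q, viewed inside GL_n(F). Let F₀ be a subfield with |F| = |F₀| ^ r for a prime r, ζ a non-zero scalar and P an invertible matrix such that ζ·Q takes values in F₀ on the F₀-span of the columns of P. Then the elements of Ω lying in the subfield group of P (the conjugate by P of the product of GL_n(F₀) with the scalars) form a maximal subgroup of Ω. -/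
theorem result {F : Type*} [Field F] [Fintype F] {n : ℕ} (hn : 13 ≤ n) (heven : Even n) (Q : (Fin n → F) → F) (hQ : Cfsg.Geo.IsNondegenerateQuadraticForm Q) (F₀ : Subfield F) (r : ℕ) (hr : r.Prime) (hcard : Fintype.card F = Nat.card F₀ ^ r) (P : Matrix.GeneralLinearGroup (Fin n) F) (ζ : F) (hζ : ζ ≠ 0) (hP : Cfsg.Geo.IsQuadFormRationalStructure (fun v : Fin n → F => ζ * Q v) F₀ P) : Cfsg.Geo.IsMaximalIn (Cfsg.Geo.omegaGL Q) (Cfsg.Geo.subfieldSubgroup F₀ P ⊓ Cfsg.Geo.omegaGL Q) := by
  haveI : Finite F := Finite.of_fintype F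
  obtain ⟨Q₁, rfl, hN⟩ := Cfsg.Agent.Lib.MaxSub.Orth.exists_quadraticForm hQ
  have hpol : ∀ x y, QuadraticMap.polarBilin (ζ • Q₁) x y = ζ * QuadraticMap.polarBilin Q₁ x y := fun x y => by
    simp only [QuadraticMap.polarBilin_apply_apply, QuadraticMap.polar, smul_eq_mul]
    show ζ * Q₁ (x + y) - ζ * Q₁ x - ζ * Q₁ y = _
    ring
  have hN' : (QuadraticMap.polarBilin (ζ • Q₁)).Nondegenerate :=
    ⟨fun x hx => hN.1 x fun y => (mul_eq_zero.mp ((hpol x y).symm.trans (hx y))).resolve_left hζ,
      fun y hy => hN.2 y fun x => (mul_eq_zero.mp ((hpol x y).symm.trans (hy x))).resolve_left hζ⟩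
  have hiso : Cfsg.isometryGroup F ⇑(ζ • Q₁) = Cfsg.isometryGroup F ⇑Q₁ := by
    ext g
    exact ⟨fun h u v => mul_left_cancel₀ hζ (h u v), fun h u v => congrArg (ζ * ·) (h u v)⟩
  have homega : Cfsg.Geo.omegaGL ⇑(ζ • Q₁) = Cfsg.Geo.omegaGL ⇑Q₁ := by
    show (commutator _).map _ = (commutator _).map _
    rw [Subgroup.map_subtype_commutator, Subgroup.map_subtype_commutator, hiso]
  rw [← homega]
  exact (Cfsg.Agent.Lib.ThreeTransp.SubOrth.Rs.maximal
    ⟨hN', by simpa using hn, hr, by rwa [Nat.card_eq_fintype_card], fun u => hP _ fun i => (u i).2⟩)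

end Cfsg.Agent.S5702
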