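import Cfsg.Statements.S5704
import Cfsg.Agent.Lib.TensorSp.Main

set_option autoImplicit false
open Cfsg

namespace Cfsg.Agent.S5704

open Cfsg.Agent.Lib.TensorSp Cfsg.Agent.Lib.ThreeTransp.Tensor Matrix

open scoped Kronecker

/-- The bilinear map of a bilinear function. -/
def toBil {F : Type*} [Field F] {k : ℕ} {f : (Fin k → F) → (Fin k → F) → F} (h : Cfsg.Geo.IsBilinearForm f) :
    LinearMap.BilinForm F (Fin k → F) :=
  LinearMap.mk₂ F f h.add_left h.smul_left h.add_right h.smul_right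

theorem expand {F : Type*} [Field F] {k : ℕ} {f : (Fin k → F) → (Fin k → F) → F} (h : Cfsg.Geo.IsBilinearForm f)
    (x y : Fin k → F) : f x y = ∑ i, ∑ j, x i * Cfsg.Geo.gramMatrix f i j * y j := by
  show toBil h x y = _
  conv_lhs => rw [pi_eq_sum_univ' (R := F) x, pi_eq_sum_univ' (R := F) y]
  simp only [map_sum, map_smul, LinearMap.sum_apply, LinearMap.smul_apply, smul_eq_mul, Finset.mul_sum]
  rw [Finset.sum_comm]
  refine Finset.sum_congr rfl fun i _ => Finset.sum_congr rfl fun j _ => ?_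
  show _ = x i * toBil h (Pi.single i 1) (Pi.single j 1) * y j
  ring

theorem form_pure {F : Type*} [Field F] {n₁ n₂ : ℕ} {f₁ : (Fin n₁ → F) → (Fin n₁ → F) → F}
    {f₂ : (Fin n₂ → F) → (Fin n₂ → F) → F} (h₁ : Cfsg.Geo.IsBilinearForm f₁) (h₂ : Cfsg.Geo.IsBilinearForm f₂)
    (x y : Fin n₁ → F) (u w : Fin n₂ → F) :
    Cfsg.Geo.formOfGram id (Cfsg.Geo.gramMatrix f₁ ⊗ₖ Cfsg.Geo.gramMatrix f₂)
      (Cfsg.Agent.Lib.ThreeTransp.Tensor.pure x u) (Cfsg.Agent.Lib.ThreeTransp.Tensor.pure y w) =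
      f₁ x y * f₂ u w := by
  rw [expand h₁, expand h₂]
  simp only [Cfsg.Geo.formOfGram, Cfsg.Agent.Lib.ThreeTransp.Tensor.pure, Fintype.sum_prod_type, kroneckerMap_apply,
    Finset.sum_mul, Finset.mul_sum, id]
  rw [Finset.sum_comm]
  refine Finset.sum_congr rfl fun j _ => ?_
  conv_rhs => rw [Finset.sum_comm]
  refine Finset.sum_congr rfl fun i _ => ?_
  rw [Finset.sum_comm]
  exact Finset.sum_congr rfl fun l _ => Finset.sum_congr rfl fun k _ => by ring

theorem toBil_symp {F : Type*} [Field F] {k : ℕ} {f : (Fin k → F) → (Fin k → F) → F}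
    (h : Cfsg.Geo.IsSymplecticForm f) {c : F} (hc : c ≠ 0) : Symp (c • toBil h.bilinear) := by
  refine ⟨fun x => ?_, fun x hx => ?_, fun y hy => ?_⟩
  · show c * f x x = 0
    rw [h.alternating, mul_zero]
  · by_contra hx0
    obtain ⟨y, hy⟩ := (h.nondegenerate x hx0).2
    exact hy ((mul_eq_zero.mp (show c * f x y = 0 from hx y)).resolve_left hc)
  · by_contra hy0
    obtain ⟨x, hx⟩ := (h.nondegenerate y hy0).1
    exact hx ((mul_eq_zero.mp (show c * f x y = 0 from hy x)).resolve_left hc)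

/-- Let F be a finite field with q elements, n ≥ 13 even, Q a non-degenerate quadratic form on F^n of plus type (some subspace of dimension n/2 is totally singular), and Ω the commutator subgroup of the isometry group of Q, viewed inside GL_n(F). Suppose that, through a change of basis P and a bijection of index sets e, the polar form of Q is similar to the tensor product of non-degenerate symplectic forms f₁ on F^(n₁) and f₂ on F^(n₂) with n₁ < n₂, and Q vanishes on the images of all pure tensors. Unless q = 2 and n₁ = 2, the elements of Ω in the stabiliser of this tensor decomposition form a maximal subgroup of Ω. -/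
theorem result {F : Type*} [Field F] [Fintype F] {n : ℕ} (hn : 13 ≤ n) (heven : Even n) (Q : (Fin n → F) → F) (hQ : Cfsg.Geo.IsNondegenerateQuadraticForm Q) (hplus : Cfsg.Geo.IsPlusTypeOn Q ⊤) (n₁ n₂ : ℕ) (h12 : n₁ < n₂) (hex : ¬ (Fintype.card F = 2 ∧ n₁ = 2)) (e : (Fin n) ≃ Fin n₁ × Fin n₂) (P : Matrix.GeneralLinearGroup (Fin n) F) (f₁ : (Fin n₁ → F) → (Fin n₁ → F) → F) (f₂ : (Fin n₂ → F) → (Fin n₂ → F) → F) (hf₁ : Cfsg.Geo.IsSymplecticForm f₁) (hf₂ : Cfsg.Geo.IsSymplecticForm f₂) (hT : Cfsg.Geo.IsTensorFormStructure id (QuadraticMap.polar Q) f₁ f₂ e P) (hpure : (∀ (x₁ : Fin n₁ → F) (x₂ : Fin n₂ → F), Q (Matrix.mulVec (P : Matrix (Fin n) (Fin n) F) ((fun a : Fin n₁ × Fin n₂ => x₁ a.1 * x₂ a.2) ∘ e)) = 0)) : Cfsg.Geo.IsMaximalIn (Cfsg.Geo.omegaGL Q) (Cfsg.Geo.tensorProductSubgroup n₁ n₂ e P ⊓ Cfsg.Geo.omegaGL Q) := by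
  classical
  haveI : Finite F := Finite.of_fintype F
  obtain ⟨Q₁, rfl, hN⟩ := Cfsg.Agent.Lib.MaxSub.Orth.exists_quadraticForm hQ
  obtain ⟨c, hc, hcT⟩ := hT
  have hn12 : n = n₁ * n₂ := by simpa using Fintype.card_congr e
  have ha : 2 ≤ n₁ := by
    rcases Nat.lt_or_ge n₁ 2 with h | h
    swap; · exact h
    exfalso
    rcases Nat.eq_zero_or_pos n₁ with h0 | h0
    · simp [h0] at hn12; omega
    have h1 : n₁ = 1 := by omega
    subst h1
    obtain ⟨y, hy⟩ := (hf₁.nondegenerate (Pi.single 0 1) (by simp)).2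
    have hy' : y = y 0 • (Pi.single 0 1 : Fin 1 → F) := by funext i; rw [Subsingleton.elim i 0]; simp
    rw [hy', hf₁.bilinear.smul_right, hf₁.alternating, mul_zero] at hy
    exact hy rfl
  have h5 : 5 ≤ n₂ := by
    by_contra hb
    have : n₁ * n₂ ≤ 3 * 4 := Nat.mul_le_mul (by omega) (by omega)
    omega
  have hq : 3 ≤ n₁ ∨ 2 < Nat.card F := by
    rcases Nat.lt_or_ge n₁ 3 with h | h
    · refine Or.inr ?_
      have h3 : Fintype.card F ≠ 2 := fun h' => hex ⟨h', by omega⟩
      have := Fintype.one_lt_card (α := F)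
      rw [Nat.card_eq_fintype_card]
      omega
    · exact Or.inl h
  -- the coordinates of the tensor decomposition
  let L : (Fin n₁ × Fin n₂ → F) ≃ₗ[F] (Fin n → F) :=
    { toFun := fun p => (P : Matrix (Fin n) (Fin n) F) *ᵥ (p ∘ e)
      map_add' := fun p q => by rw [← Matrix.mulVec_add]; rfl
      map_smul' := fun r p => by rw [RingHom.id_apply, ← Matrix.mulVec_smul]; rfl
      invFun := fun x => (((P⁻¹ : GL (Fin n) F) : Matrix (Fin n) (Fin n) F) *ᵥ x) ∘ e.symm
      left_inv := fun p => by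
        simp [Matrix.mulVec_mulVec, ← Units.val_mul, Function.comp_assoc]
      right_inv := fun x => by
        simp [Matrix.mulVec_mulVec, ← Units.val_mul, Function.comp_assoc] }
  have hL : ∀ p, L p = (P : Matrix (Fin n) (Fin n) F) *ᵥ (p ∘ e) := fun p => rfl
  set φ : GL (Fin n₁ × Fin n₂) F ≃* GL (Fin n) F := (Geo.glReindex e.symm).trans (MulAut.conj P) with hφ
  have hφL : ∀ g p, (φ g : Matrix (Fin n) (Fin n) F) *ᵥ L p =
      L ((g : Matrix (Fin n₁ × Fin n₂) (Fin n₁ × Fin n₂) F) *ᵥ p) := fun g p => by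
    rw [hφ, MulEquiv.trans_apply, MulAut.conj_apply, hL, hL, Units.val_mul, Units.val_mul, ← Matrix.mulVec_mulVec,
      ← Matrix.mulVec_mulVec, Matrix.mulVec_mulVec (p ∘ e), ← Units.val_mul, inv_mul_cancel, Units.val_one,
      Matrix.one_mulVec]
    congr 1
    funext i
    simp only [Geo.glReindex, Units.coe_mapEquiv, Matrix.reindexAlgEquiv_apply, Matrix.mulVec, dotProduct,
      Function.comp_apply]
    exact Fintype.sum_equiv e _ _ fun j => by simp
  set Q : QuadraticForm F (Fin n₁ × Fin n₂ → F) := Q₁.comp L.toLinearMap with hQdef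
  have hpolQ : ∀ p q, QuadraticMap.polarBilin Q p q = QuadraticMap.polarBilin Q₁ (L p) (L q) := fun p q => by
    simp [hQdef, QuadraticMap.polar, map_add]
  have S : Sys Q (c • toBil hf₁.bilinear) (toBil hf₂.bilinear) := by
    refine ⟨⟨⟨fun p hp => ?_, fun q hq' => ?_⟩, toBil_symp hf₁ hc,
      (one_smul F (toBil hf₂.bilinear)) ▸ toBil_symp hf₂ one_ne_zero, fun p _ => ?_, fun x u => hpure x u,
      fun x y u w => ?_⟩, ha, h12, h5, hq⟩
    · exact L.map_eq_zero_iff.mp (hN.1 _ fun q => by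
        obtain ⟨q, rfl⟩ := L.surjective q
        rw [← hpolQ]; exact hp q)
    · exact L.map_eq_zero_iff.mp (hN.2 _ fun p => by
        obtain ⟨p, rfl⟩ := L.surjective p
        rw [← hpolQ]; exact hq' p)
    · rw [pi_eq_sum_univ' p]
      refine Submodule.sum_mem _ fun r _ => Submodule.smul_mem _ _ (Submodule.subset_span ?_)
      exact ⟨Pi.single r.1 1, Pi.single r.2 1, by rw [pureL_apply, ← single_pure]⟩
    · rw [hpolQ, QuadraticMap.polarBilin_apply_apply, hL, hL, hcT, pureL_apply, pureL_apply,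
        form_pure hf₁.bilinear hf₂.bilinear, ← mul_assoc]
      rfl
  have hT' : Geo.tensorProductSubgroup n₁ n₂ e P = (Geo.kroneckerSubgroup n₁ n₂ F).map φ.toMonoidHom := by
    rw [Geo.tensorProductSubgroup, Subgroup.map_map]; rfl
  rw [hT', ← omegaGL_map L φ hφL, ← Subgroup.map_inf _ _ _ φ.injective]
  refine ⟨(Subgroup.map_lt_map_iff_of_injective φ.injective).mpr S.lt, fun M hMl hMu => ?_⟩
  have hcomap : M = (M.comap φ.toMonoidHom).map φ.toMonoidHom :=
    (Subgroup.map_comap_eq_self_of_surjective φ.surjective M).symm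
  rcases S.maximal.2 (M.comap φ.toMonoidHom) (Subgroup.map_le_iff_le_comap.mp hMl) (fun g hg => by
    obtain ⟨g', hg', he⟩ := hMu (show φ g ∈ M from hg)
    rwa [← φ.injective he]) with h | h
  · exact Or.inl (by rw [hcomap, h])
  · exact Or.inr (by rw [hcomap, h])

end Cfsg.Agent.S5704
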