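import Cfsg.Statements.S5705
import Cfsg.Agent.Lib.MaxSub.TensorFrame
import Mathlib

set_option autoImplicit false
set_option maxHeartbeats 1000000
open Cfsg

namespace Cfsg.Agent.S5705


open Cfsg.Agent.Lib.MaxSub Matrix

variable {F : Type*} [Field F]

theorem zero_or_one [Fintype F] (hq : Fintype.card F = 2) (a : F) : a = 0 ∨ a = 1 := by
  classical
  by_contra h
  push Not at h
  have h1 : ({0, 1, a} : Finset F).card ≤ 2 := hq ▸ Finset.card_le_univ _
  rw [Finset.card_insert_of_notMem (by simp [h.1.symm]), Finset.card_pair (Ne.symm h.2)] at h1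
  omega

/-- Conjugates of the rotation of order three in dimension two. -/
theorem conj_rot [Fintype F] (hq : Fintype.card F = 2) (A : GL (Fin 2) F) :
    (A : Matrix (Fin 2) (Fin 2) F) * !![0, 1; 1, 1] * ((A⁻¹ : GL (Fin 2) F) : Matrix (Fin 2) (Fin 2) F) = !![0, 1; 1, 1] ∨
    (A : Matrix (Fin 2) (Fin 2) F) * !![0, 1; 1, 1] * ((A⁻¹ : GL (Fin 2) F) : Matrix (Fin 2) (Fin 2) F) = !![1, 1; 1, 0] := by
  set b := (A : Matrix (Fin 2) (Fin 2) F) * !![0, 1; 1, 1] * ((A⁻¹ : GL (Fin 2) F) : Matrix (Fin 2) (Fin 2) F) with hb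
  have ht : b 0 0 + b 1 1 = 1 := by
    have h : b.trace = (!![0, 1; 1, 1] : Matrix (Fin 2) (Fin 2) F).trace := by
      rw [hb, Matrix.trace_mul_cycle, Units.inv_mul, Matrix.one_mul]
    rw [Matrix.trace_fin_two, Matrix.trace_fin_two] at h
    simpa using h
  have hd : b.det = -1 := by
    rw [hb, Matrix.det_mul, Matrix.det_mul, mul_comm (A : Matrix (Fin 2) (Fin 2) F).det, mul_assoc, ← Matrix.det_mul,
      Units.mul_inv, Matrix.det_one, mul_one, Matrix.det_fin_two_of]
    ring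
  rw [Matrix.det_fin_two] at hd
  have h2 : (1 : F) + 1 = 0 := by
    rcases zero_or_one hq (1 + 1) with h | h
    · exact h
    · exact absurd (show (1 : F) = 0 by linear_combination h) one_ne_zero
  rcases zero_or_one hq (b 0 0) with h00 | h00 <;> rcases zero_or_one hq (b 1 1) with h11 | h11 <;>
    rcases zero_or_one hq (b 0 1) with h01 | h01 <;> rcases zero_or_one hq (b 1 0) with h10 | h10 <;>
    rw [h00, h11] at ht <;> rw [h00, h11, h01, h10] at hd <;>
    first
    | exact absurd (show (1 : F) = 0 by linear_combination ht) one_ne_zero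
    | exact absurd (show (1 : F) = 0 by linear_combination -ht) one_ne_zero
    | exact absurd (show (1 : F) = 0 by linear_combination ht - h2) one_ne_zero
    | exact absurd (show (1 : F) = 0 by linear_combination hd) one_ne_zero
    | exact absurd (show (1 : F) = 0 by linear_combination -hd) one_ne_zero
    | (refine Or.inl ?_; ext i j; fin_cases i <;> fin_cases j <;> simp [h00, h01, h10, h11]; done)
    | (refine Or.inr ?_; ext i j; fin_cases i <;> fin_cases j <;> simp [h00, h01, h10, h11])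

/-- A linear automorphism as an invertible matrix. -/
theorem exists_gl {ι : Type} [Fintype ι] [DecidableEq ι] (L : (ι → F) ≃ₗ[F] (ι → F)) :
    ∃ g : GL ι F, ∀ x, (g : Matrix ι ι F) *ᵥ x = L x := by
  refine ⟨⟨LinearMap.toMatrix' L.toLinearMap, LinearMap.toMatrix' L.symm.toLinearMap, ?_, ?_⟩, fun x => ?_⟩
  · rw [← LinearMap.toMatrix'_comp, LinearEquiv.comp_coe, LinearEquiv.symm_trans_self]; simp
  · rw [← LinearMap.toMatrix'_comp, LinearEquiv.comp_coe, LinearEquiv.self_trans_symm]; simp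
  · show LinearMap.toMatrix' L.toLinearMap *ᵥ x = L x
    rw [← Matrix.toLin'_apply, Matrix.toLin'_toMatrix']; rfl

/-- Let F be the field with 2 elements, n = 2 n₂ ≥ 13 even, Q a non-degenerate quadratic form on F^n of plus type and Ω the commutator subgroup of its isometry group. Suppose that, through P and e, the polar form of Q is similar to the tensor product of non-degenerate symplectic forms f₁ on F^2 and f₂ on F^(n₂), and Q vanishes on the images of all pure tensors. Then the elements of Ω in the stabiliser of this tensor decomposition form a subgroup that is not maximal: some subgroup lies strictly between it and Ω. -/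
theorem result {F : Type*} [Field F] [Fintype F] {n : ℕ} (hn : 13 ≤ n) (heven : Even n) (Q : (Fin n → F) → F) (hQ : Cfsg.Geo.IsNondegenerateQuadraticForm Q) (hplus : Cfsg.Geo.IsPlusTypeOn Q ⊤) (hq : Fintype.card F = 2) (n₂ : ℕ) (h2 : 2 < n₂) (e : (Fin n) ≃ Fin 2 × Fin n₂) (P : Matrix.GeneralLinearGroup (Fin n) F) (f₁ : (Fin 2 → F) → (Fin 2 → F) → F) (f₂ : (Fin n₂ → F) → (Fin n₂ → F) → F) (hf₁ : Cfsg.Geo.IsSymplecticForm f₁) (hf₂ : Cfsg.Geo.IsSymplecticForm f₂) (hT : Cfsg.Geo.IsTensorFormStructure id (QuadraticMap.polar Q) f₁ f₂ e P) (hpure : (∀ (x₁ : Fin 2 → F) (x₂ : Fin n₂ → F), Q (Matrix.mulVec (P : Matrix (Fin n) (Fin n) F) ((fun a : Fin 2 × Fin n₂ => x₁ a.1 * x₂ a.2) ∘ e)) = 0)) : ∃ K : Subgroup (Matrix.GeneralLinearGroup (Fin n) F), Cfsg.Geo.tensorProductSubgroup 2 n₂ e P ⊓ Cfsg.Geo.omegaGL Q < K ∧ K < Cfsg.Geo.omegaGL Q := by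
  classical
  obtain ⟨c, hc0, hc⟩ := hT
  have h01 := zero_or_one hq
  have hc1 : c = 1 := (h01 c).resolve_left hc0
  have hF2 : (1 : F) + 1 = 0 := by
    rcases h01 (1 + 1) with h | h
    · exact h
    · exact absurd (show (1 : F) = 0 by linear_combination h) one_ne_zero
  have : CharP F 2 := CharTwo.of_one_ne_zero_of_two_eq_zero one_ne_zero (by linear_combination hF2)
  have hneg : ∀ a : F, -a = a := fun a => by linear_combination -a * hF2
  have e1' : ∀ x y, Cfsg.Geo.formOfGram id (Cfsg.Geo.gramMatrix f₁) x y = f₁ x y := fun x y =>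
    TensorFrame.formOfGram_gram id hf₁.bilinear.add_left hf₁.bilinear.smul_left hf₁.bilinear.add_right hf₁.bilinear.smul_right x y
  have e2' : ∀ x y, Cfsg.Geo.formOfGram id (Cfsg.Geo.gramMatrix f₂) x y = f₂ x y := fun x y =>
    TensorFrame.formOfGram_gram id hf₂.bilinear.add_left hf₂.bilinear.smul_left hf₂.bilinear.add_right hf₂.bilinear.smul_right x y
  have hB : ∀ x y u w, QuadraticMap.polar Q (TensorFrame.tau e P x u) (TensorFrame.tau e P y w) = f₁ x y * f₂ u w :=
    fun x y u w => by rw [TensorFrame.form_tau (σ := id) (fun _ _ => rfl) hc, e1', e2', hc1, one_mul]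
  let p0 : Fin 2 → F := Pi.single 0 1
  let p1 : Fin 2 → F := Pi.single 1 1
  have hf10 : ∀ x, f₁ x x = 0 := hf₁.alternating
  have hsym : ∀ u w, f₂ u w = f₂ w u := fun u w => by rw [hf₂.skew u w, hneg]
  have hsum : ∀ x : Fin 2 → F, x = x 0 • p0 + x 1 • p1 := fun x => by
    funext i; fin_cases i <;> simp [p0, p1]
  have hf11 : f₁ p0 p1 = 1 := by
    refine (h01 _).resolve_left fun h => ?_
    obtain ⟨w, hw⟩ := (hf₁.nondegenerate p0 (fun h0 => one_ne_zero (α := F) (by simpa [p0] using congrFun h0 0))).2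
    apply hw
    rw [hsum w, hf₁.bilinear.add_right, hf₁.bilinear.smul_right, hf₁.bilinear.smul_right, hf10, h, mul_zero, mul_zero,
      add_zero]
  have hf11' : f₁ p1 p0 = 1 := by rw [hf₁.skew, hf11, hneg]
  -- coordinates
  let Φ0 : ((Fin n₂ → F) × (Fin n₂ → F)) →ₗ[F] (Fin n → F) :=
    (TensorFrame.block e P p0).coprod (TensorFrame.block e P p1)
  have hΦ0 : ∀ u v, Φ0 (u, v) = TensorFrame.tau e P p0 u + TensorFrame.tau e P p1 v := fun u v => rfl
  have hBc : ∀ u v u' v', QuadraticMap.polar Q (Φ0 (u, v)) (Φ0 (u', v')) = f₂ u v' + f₂ v u' := fun u v u' v' => by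
    have ha := hQ.polar_bilinear
    rw [hΦ0, hΦ0, ha.add_left, ha.add_right, ha.add_right, hB, hB, hB, hB, hf10, hf10, hf11, hf11']
    ring
  have hQc : ∀ u v, Q (Φ0 (u, v)) = f₂ u v := fun u v => by
    have h := hB p0 p1 u v
    rw [hf11, one_mul, QuadraticMap.polar] at h
    have h0 : ∀ x w, Q (TensorFrame.tau e P x w) = 0 := fun x w => hpure x w
    rw [h0, h0, sub_zero, sub_zero] at h
    rw [hΦ0, h]
  have hnd : ∀ u, u ≠ 0 → ∃ w, f₂ u w = 1 := fun u hu => by
    obtain ⟨w, hw⟩ := (hf₂.nondegenerate u hu).2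
    exact ⟨w, (h01 _).resolve_left hw⟩
  have hΦinj : Function.Injective Φ0 := by
    refine (injective_iff_map_eq_zero Φ0).2 fun p hp => ?_
    obtain ⟨u, v⟩ := p
    have key : ∀ u' v', f₂ u v' + f₂ v u' = 0 := fun u' v' => by
      have h := hBc u v u' v'
      rw [hp] at h
      rw [← h]
      have := hQ.polar_bilinear.smul_left 0 0 (Φ0 (u', v'))
      simpa using this
    have hz : ∀ w, f₂ w (0 : Fin n₂ → F) = 0 := fun w => by
      simpa using hf₂.bilinear.smul_right 0 w 0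
    rw [Prod.mk_eq_zero]
    constructor
    · by_contra hu
      obtain ⟨w, hw⟩ := hnd u hu
      have := key 0 w
      rw [hw, hz, add_zero] at this
      exact one_ne_zero this
    · by_contra hv
      obtain ⟨w, hw⟩ := hnd v hv
      have := key w 0
      rw [hw, hz, zero_add] at this
      exact one_ne_zero this
  have hn2 : n = n₂ + n₂ := by
    have := Fintype.card_congr e
    simp at this
    omega
  let Φ := LinearEquiv.ofBijective Φ0 ⟨hΦinj, (LinearMap.injective_iff_surjective_of_finrank_eq_finrank (by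
    rw [Module.finrank_prod, Module.finrank_fin_fun, Module.finrank_fin_fun, hn2])).1 hΦinj⟩
  have hΦ : ∀ u v, Φ (u, v) = Φ0 (u, v) := fun u v => rfl
  -- isometries in coordinates
  have mk : ∀ L : ((Fin n₂ → F) × (Fin n₂ → F)) ≃ₗ[F] ((Fin n₂ → F) × (Fin n₂ → F)),
      (∀ u v, f₂ (L (u, v)).1 (L (u, v)).2 = f₂ u v) →
      ∃ g : Cfsg.isometryGroup F Q, ∀ p, ((g : GL (Fin n) F) : Matrix (Fin n) (Fin n) F) *ᵥ Φ0 p = Φ0 (L p) := by
    intro L hL
    obtain ⟨g, hg⟩ := exists_gl ((Φ.symm.trans L).trans Φ)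
    have hgp : ∀ p, (g : Matrix (Fin n) (Fin n) F) *ᵥ Φ0 p = Φ0 (L p) := fun p => by
      rw [hg]
      show Φ (L (Φ.symm (Φ p))) = _
      rw [LinearEquiv.symm_apply_apply]
      rfl
    refine ⟨⟨g, fun x _ => ?_⟩, hgp⟩
    obtain ⟨⟨u, v⟩, rfl⟩ := Φ.surjective x
    show Q ((g : Matrix (Fin n) (Fin n) F) *ᵥ Φ0 (u, v)) = Q (Φ0 (u, v))
    rw [hgp, hQc, hQc]
    exact hL u v
  -- a plane
  obtain ⟨u₀, hu₀⟩ : ∃ u : Fin n₂ → F, u ≠ 0 :=
    ⟨Pi.single ⟨0, by omega⟩ 1, fun h => one_ne_zero (α := F) (by simpa using congrFun h ⟨0, by omega⟩)⟩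
  obtain ⟨w₀, hw₀⟩ := hnd u₀ hu₀
  have hzl : ∀ w, f₂ (0 : Fin n₂ → F) w = 0 := fun w => by simpa using hf₂.bilinear.smul_left 0 0 w
  have hzr : ∀ w, f₂ w (0 : Fin n₂ → F) = 0 := fun w => by simpa using hf₂.bilinear.smul_right 0 w 0
  let proj : (Fin n₂ → F) →ₗ[F] (Fin n₂ → F) :=
    { toFun := fun z => f₂ z w₀ • u₀ + f₂ u₀ z • w₀
      map_add' := fun a b => by rw [hf₂.bilinear.add_left, hf₂.bilinear.add_right]; module
      map_smul' := fun a z => by rw [hf₂.bilinear.smul_left, hf₂.bilinear.smul_right, RingHom.id_apply]; module }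
  have hpu : proj u₀ = u₀ := by
    show f₂ u₀ w₀ • u₀ + f₂ u₀ u₀ • w₀ = u₀
    rw [hw₀, hf₂.alternating]; simp
  have hpw : proj w₀ = w₀ := by
    show f₂ w₀ w₀ • u₀ + f₂ u₀ w₀ • w₀ = w₀
    rw [hw₀, hf₂.alternating]; simp
  have hpp : ∀ z, proj (proj z) = proj z := fun z => by
    show proj (f₂ z w₀ • u₀ + f₂ u₀ z • w₀) = _
    rw [map_add, map_smul, map_smul, hpu, hpw]; rfl
  have hpa : ∀ z z', f₂ (proj z) z' = f₂ z (proj z') := fun z z' => by
    show f₂ (f₂ z w₀ • u₀ + f₂ u₀ z • w₀) z' = f₂ z (f₂ z' w₀ • u₀ + f₂ u₀ z' • w₀)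
    rw [hf₂.bilinear.add_left, hf₂.bilinear.smul_left, hf₂.bilinear.smul_left, hf₂.bilinear.add_right,
      hf₂.bilinear.smul_right, hf₂.bilinear.smul_right, hsym z u₀, hsym z' w₀]
    ring
  obtain ⟨u', hu'0, hpu'⟩ : ∃ u', u' ≠ 0 ∧ proj u' = 0 := by
    let ℓ : (Fin n₂ → F) →ₗ[F] (F × F) :=
      { toFun := fun z => (f₂ z w₀, f₂ u₀ z)
        map_add' := fun a b => by simp [hf₂.bilinear.add_left, hf₂.bilinear.add_right]
        map_smul' := fun a z => by simp [hf₂.bilinear.smul_left, hf₂.bilinear.smul_right] }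
    have hk : LinearMap.ker ℓ ≠ ⊥ := fun h => by
      have := LinearMap.finrank_le_finrank_of_injective (LinearMap.ker_eq_bot.1 h)
      rw [Module.finrank_fin_fun, Module.finrank_prod, Module.finrank_self] at this
      omega
    obtain ⟨z, hz, hz0⟩ := Submodule.exists_mem_ne_zero_of_ne_bot hk
    have hz' := LinearMap.mem_ker.1 hz
    simp only [ℓ, LinearMap.coe_mk, AddHom.coe_mk, Prod.mk_eq_zero] at hz'
    refine ⟨z, hz0, ?_⟩
    show f₂ z w₀ • u₀ + f₂ u₀ z • w₀ = 0
    rw [hz'.1, hz'.2]; simp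
  have hku : f₂ u₀ u' = 0 := by
    rw [← hpu, hpa, hpu', hzr]
  have hkw : f₂ w₀ u' = 0 := by
    rw [← hpw, hpa, hpu', hzr]
  have h2v : ∀ z : Fin n₂ → F, z + z = 0 := fun z => by
    rw [← one_smul F z, ← add_smul, hF2, zero_smul]
  -- the rotation on part of the space
  have rot : ∀ π : (Fin n₂ → F) →ₗ[F] (Fin n₂ → F), (∀ z, π (π z) = π z) → (∀ z z', f₂ (π z) z' = f₂ z (π z')) →
      ∃ a b : Cfsg.isometryGroup F Q,
        (∀ u v, ((a : GL (Fin n) F) : Matrix (Fin n) (Fin n) F) *ᵥ Φ0 (u, v) = Φ0 (π v + (u - π u), π (u + v) + (v - π v))) ∧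
        (∀ u v, ((b : GL (Fin n) F) : Matrix (Fin n) (Fin n) F) *ᵥ Φ0 (u, v) = Φ0 (π v + (u - π u), π u + (v - π v))) ∧
        b * a * b⁻¹ * a⁻¹ = a := by
    intro π hπ hadj
    have hcross : ∀ z z', f₂ (π z) (z' - π z') = 0 := fun z z' => by rw [hadj, map_sub, hπ, sub_self, hzr]
    have hcross' : ∀ z z', f₂ (z' - π z') (π z) = 0 := fun z z' => by rw [hsym, hcross]
    have hadd : ∀ x y z, f₂ (x + y) z = f₂ x z + f₂ y z := hf₂.bilinear.add_left
    have hadd' : ∀ x y z, f₂ x (y + z) = f₂ x y + f₂ x z := hf₂.bilinear.add_right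
    have hsplit : ∀ u v, f₂ u v = f₂ (π u) (π v) + f₂ (u - π u) (v - π v) := fun u v => by
      calc f₂ u v = f₂ (π u + (u - π u)) (π v + (v - π v)) := by rw [add_sub_cancel, add_sub_cancel]
        _ = _ := by rw [hadd, hadd', hadd', hcross, hcross']; ring
    let A0 : ((Fin n₂ → F) × (Fin n₂ → F)) →ₗ[F] ((Fin n₂ → F) × (Fin n₂ → F)) :=
      { toFun := fun p => (π p.2 + (p.1 - π p.1), π (p.1 + p.2) + (p.2 - π p.2))
        map_add' := fun p p' => by ext1 <;> simp [map_add] <;> module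
        map_smul' := fun a p => by ext1 <;> simp [map_smul, smul_sub] }
    let B0 : ((Fin n₂ → F) × (Fin n₂ → F)) →ₗ[F] ((Fin n₂ → F) × (Fin n₂ → F)) :=
      { toFun := fun p => (π p.2 + (p.1 - π p.1), π p.1 + (p.2 - π p.2))
        map_add' := fun p p' => by ext1 <;> simp [map_add] <;> module
        map_smul' := fun a p => by ext1 <;> simp [map_smul, smul_sub] }
    have hA0 : ∀ p, A0 p = (π p.2 + (p.1 - π p.1), π (p.1 + p.2) + (p.2 - π p.2)) := fun p => rfl
    have hB0 : ∀ p, B0 p = (π p.2 + (p.1 - π p.1), π p.1 + (p.2 - π p.2)) := fun p => rfl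
    have hA3 : ∀ p, A0 (A0 (A0 p)) = p := fun ⟨u, v⟩ => by
      simp only [hA0, map_add, map_sub, hπ, sub_self, add_zero, add_sub_cancel_left]
      ext1 <;> (funext i; simp only [Pi.add_apply, Pi.sub_apply, Pi.zero_apply]; grind)
    have hB2 : ∀ p, B0 (B0 p) = p := fun ⟨u, v⟩ => by
      simp only [hB0, map_add, map_sub, hπ, sub_self, add_zero, add_sub_cancel_left]
      ext1 <;> abel
    let LA : ((Fin n₂ → F) × (Fin n₂ → F)) ≃ₗ[F] ((Fin n₂ → F) × (Fin n₂ → F)) :=
      LinearEquiv.ofLinear A0 (A0 ∘ₗ A0) (LinearMap.ext hA3) (LinearMap.ext hA3)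
    let LB : ((Fin n₂ → F) × (Fin n₂ → F)) ≃ₗ[F] ((Fin n₂ → F) × (Fin n₂ → F)) :=
      LinearEquiv.ofLinear B0 B0 (LinearMap.ext hB2) (LinearMap.ext hB2)
    obtain ⟨a, ha⟩ := mk LA fun u v => by
      show f₂ (π v + (u - π u)) (π (u + v) + (v - π v)) = f₂ u v
      rw [hsplit u v]
      simp only [hadd, hadd', map_add, hcross, hcross', hf₂.alternating, add_zero, zero_add]
      rw [hsym (π v) (π u)]
    obtain ⟨b, hb⟩ := mk LB fun u v => by
      show f₂ (π v + (u - π u)) (π u + (v - π v)) = f₂ u v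
      rw [hsplit u v, hadd, hadd', hadd', hcross, hcross', hsym (π v) (π u)]
      simp
    refine ⟨a, b, fun u v => ha (u, v), fun u v => hb (u, v), ?_⟩
    have e1 : b * a = a * a * b := by
      apply Subtype.ext
      apply Units.ext
      refine Matrix.ext_iff_mulVec.2 fun x => ?_
      obtain ⟨p, rfl⟩ := Φ.surjective x
      show ((b * a : Cfsg.isometryGroup F Q) : GL (Fin n) F).1 *ᵥ Φ0 p = ((a * a * b : Cfsg.isometryGroup F Q) : GL (Fin n) F).1 *ᵥ Φ0 p
      simp only [Subgroup.coe_mul, Units.val_mul, ← Matrix.mulVec_mulVec, ha, hb]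
      congr 1
      show B0 (A0 p) = A0 (A0 (B0 p))
      obtain ⟨u, v⟩ := p
      simp only [hA0, hB0, map_add, map_sub, hπ, sub_self, add_zero, add_sub_cancel_left]
      ext1 <;> (funext i; simp only [Pi.add_apply, Pi.sub_apply, Pi.zero_apply]; grind)
    have e3 : a * a * a = 1 := by
      apply Subtype.ext
      apply Units.ext
      refine Matrix.ext_iff_mulVec.2 fun x => ?_
      obtain ⟨p, rfl⟩ := Φ.surjective x
      show ((a * a * a : Cfsg.isometryGroup F Q) : GL (Fin n) F).1 *ᵥ Φ0 p = (1 : Matrix (Fin n) (Fin n) F) *ᵥ Φ0 p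
      simp only [Subgroup.coe_mul, Units.val_mul, ← Matrix.mulVec_mulVec, ha, Matrix.one_mulVec]
      congr 1
      exact hA3 p
    rw [e1, mul_inv_cancel_right]
    calc a * a * a⁻¹ = a := by group
      _ = a := rfl
  obtain ⟨j, bj, hj, hbj, hjΩ⟩ := rot LinearMap.id (fun _ => rfl) (fun _ _ => rfl)
  obtain ⟨y, by', hy, hby, hyΩ⟩ := rot proj hpp hpa
  have hj' : ∀ u v, ((j : GL (Fin n) F) : Matrix (Fin n) (Fin n) F) *ᵥ Φ0 (u, v) = Φ0 (v, u + v) := fun u v => by
    rw [hj]; simp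
  set J : GL (Fin n) F := (j : GL (Fin n) F) with hJ
  set Ω := Cfsg.Geo.omegaGL Q with hΩ
  have memΩ : ∀ {a b : Cfsg.isometryGroup F Q}, b * a * b⁻¹ * a⁻¹ = a → (a : GL (Fin n) F) ∈ Ω := fun {a b} h =>
    Subgroup.mem_map_of_mem _ (h ▸ Subgroup.commutator_mem_commutator (Subgroup.mem_top b) (Subgroup.mem_top a))
  set T := Cfsg.Geo.tensorProductSubgroup 2 n₂ e P with hT'
  set R := (!![0, 1; 1, 1] : Matrix (Fin 2) (Fin 2) F) with hR
  -- the rotation on pure tensors
  have htau : ∀ x u, TensorFrame.tau e P x u = Φ0 (x 0 • u, x 1 • u) := fun x u => by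
    conv_lhs => rw [hsum x, TensorFrame.tau_add_left, TensorFrame.tau_smul_left, TensorFrame.tau_smul_left]
    rw [hΦ0, TensorFrame.tau_smul_right, TensorFrame.tau_smul_right]
  have hJtau : ∀ x u, (J : Matrix (Fin n) (Fin n) F) *ᵥ TensorFrame.tau e P x u = TensorFrame.tau e P (R *ᵥ x) u := fun x u => by
    rw [htau, htau, hJ, hj', ← add_smul]
    congr 2 <;> simp [hR, Matrix.mulVec, dotProduct, Fin.sum_univ_two]
  have hext : ∀ g g' : GL (Fin n) F, (∀ x u, (g : Matrix (Fin n) (Fin n) F) *ᵥ TensorFrame.tau e P x u =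
      (g' : Matrix (Fin n) (Fin n) F) *ᵥ TensorFrame.tau e P x u) → g = g' := fun g g' h => by
    refine Units.ext (Matrix.ext_iff_mulVec.2 fun z => ?_)
    obtain ⟨⟨u, v⟩, rfl⟩ := Φ.surjective z
    show (g : Matrix (Fin n) (Fin n) F) *ᵥ Φ0 (u, v) = (g' : Matrix (Fin n) (Fin n) F) *ᵥ Φ0 (u, v)
    rw [hΦ0, Matrix.mulVec_add, Matrix.mulVec_add, h, h]
  have hnorm : ∀ g ∈ T, g * J * g⁻¹ ∈ Subgroup.zpowers J := by
    intro g hg
    obtain ⟨A, B, hAB⟩ := TensorFrame.exists_factors hg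
    rcases conj_rot hq A with h | h
    · rw [show g * J = J * g from hext _ _ fun x u => ?_, mul_inv_cancel_right]
      · exact Subgroup.mem_zpowers J
      · rw [Units.val_mul, Units.val_mul, ← Matrix.mulVec_mulVec, ← Matrix.mulVec_mulVec, hJtau, hAB, hAB, hJtau,
          Matrix.mulVec_mulVec, Matrix.mulVec_mulVec]
        congr 2
        calc (A : Matrix (Fin 2) (Fin 2) F) * R = (A : Matrix (Fin 2) (Fin 2) F) * R *
              ((A⁻¹ : GL (Fin 2) F) : Matrix (Fin 2) (Fin 2) F) * (A : Matrix (Fin 2) (Fin 2) F) := by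
              rw [Matrix.mul_assoc ((A : Matrix (Fin 2) (Fin 2) F) * R), Units.inv_mul, Matrix.mul_one]
          _ = R * (A : Matrix (Fin 2) (Fin 2) F) := by rw [h]
    · rw [show g * J = J * J * g from hext _ _ fun x u => ?_, mul_inv_cancel_right]
      · exact Subgroup.mul_mem _ (Subgroup.mem_zpowers J) (Subgroup.mem_zpowers J)
      · rw [Units.val_mul, Units.val_mul, Units.val_mul, ← Matrix.mulVec_mulVec, ← Matrix.mulVec_mulVec,
          ← Matrix.mulVec_mulVec, hJtau, hAB, hAB, hJtau, hJtau, Matrix.mulVec_mulVec, Matrix.mulVec_mulVec,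
          Matrix.mulVec_mulVec]
        congr 2
        calc (A : Matrix (Fin 2) (Fin 2) F) * R = (A : Matrix (Fin 2) (Fin 2) F) * R *
              ((A⁻¹ : GL (Fin 2) F) : Matrix (Fin 2) (Fin 2) F) * (A : Matrix (Fin 2) (Fin 2) F) := by
              rw [Matrix.mul_assoc ((A : Matrix (Fin 2) (Fin 2) F) * R), Units.inv_mul, Matrix.mul_one]
          _ = R * R * (A : Matrix (Fin 2) (Fin 2) F) := by
              rw [h, hR]
              congr 1
              ext i j; fin_cases i <;> fin_cases j <;> simp [Matrix.mul_apply, Fin.sum_univ_two, hF2]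
  let N := Subgroup.normalizer ((Subgroup.zpowers J : Subgroup (GL (Fin n) F)) : Set (GL (Fin n) F))
  refine ⟨N ⊓ Ω, lt_of_le_of_ne (fun g hg => ⟨?_, hg.2⟩) ?_, lt_of_le_of_ne inf_le_right ?_⟩
  · refine Subgroup.mem_normalizer_iff.2 fun h => ⟨fun hh => ?_, fun hh => ?_⟩
    · obtain ⟨m, rfl⟩ := hh
      show g * J ^ m * g⁻¹ ∈ _
      rw [← conj_zpow]
      exact Subgroup.zpow_mem _ (hnorm g hg.1) m
    · obtain ⟨m, hm⟩ := hh
      have e' : h = (g⁻¹ * J * g⁻¹⁻¹) ^ m := by
        rw [conj_zpow, show J ^ m = g * h * g⁻¹ from hm]; group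
      rw [e']
      exact Subgroup.zpow_mem _ (hnorm g⁻¹ (T.inv_mem hg.1)) m
  · intro h
    have hyN : (y : GL (Fin n) F) ∈ N := by
      have hcomm : (y : GL (Fin n) F) * J = J * (y : GL (Fin n) F) := by
        refine Units.ext (Matrix.ext_iff_mulVec.2 fun z => ?_)
        obtain ⟨⟨u, v⟩, rfl⟩ := Φ.surjective z
        show _ *ᵥ Φ0 (u, v) = _ *ᵥ Φ0 (u, v)
        rw [Units.val_mul, Units.val_mul, ← Matrix.mulVec_mulVec, ← Matrix.mulVec_mulVec, hJ, hj', hy, hy, hj']
        congr 2 <;> simp only [map_add] <;> (funext i; simp only [Pi.add_apply, Pi.sub_apply, Pi.zero_apply]; grind)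
      refine Subgroup.mem_normalizer_iff.2 fun h => ⟨fun hh => ?_, fun hh => ?_⟩
      · obtain ⟨m, rfl⟩ := hh
        show (y : GL (Fin n) F) * J ^ m * (y : GL (Fin n) F)⁻¹ ∈ _
        rw [(show Commute (y : GL (Fin n) F) J from hcomm).zpow_right m |>.eq, mul_inv_cancel_right]
        exact ⟨m, rfl⟩
      · obtain ⟨m, hm⟩ := hh
        refine ⟨m, ?_⟩
        have h1 := (show Commute (y : GL (Fin n) F) J from hcomm).zpow_right m |>.eq
        show J ^ m = h
        rw [show h = (y : GL (Fin n) F)⁻¹ * J ^ m * (y : GL (Fin n) F) by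
          rw [show J ^ m = (y : GL (Fin n) F) * h * (y : GL (Fin n) F)⁻¹ from hm]; group, mul_assoc, ← h1,
          inv_mul_cancel_left]
    have hyT : (y : GL (Fin n) F) ∈ T ⊓ Ω := h ▸ ⟨hyN, memΩ hyΩ⟩
    obtain ⟨A, B, hAB⟩ := TensorFrame.exists_factors hyT.1
    have e0 : ∀ u, TensorFrame.tau e P p0 u = Φ0 (u, 0) := fun u => by rw [htau]; simp [p0]
    have h0 := hAB p0 u₀
    have h1 := hAB p0 u'
    rw [e0, hy, htau] at h0 h1
    have h0' := congrArg Prod.fst (hΦinj h0)
    have h1' := congrArg Prod.fst (hΦinj h1)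
    simp only [map_zero, hpu, hpu', sub_self, add_zero, zero_add, sub_zero] at h0' h1'
    -- `A p0` has first coordinate zero and non-zero
    rcases smul_eq_zero.1 h0'.symm with h0' | h0'
    · rw [h0', zero_smul] at h1'
      exact hu'0 h1'
    · exact hu₀ ((Matrix.mulVec_injective_iff_isUnit.2 B.isUnit) (h0'.trans (Matrix.mulVec_zero _).symm))
  · intro h
    -- an element of `Ω` outside the normaliser
    set v := Φ0 (u₀ + u', w₀) with hv
    have hQv : Q v = 1 := by
      rw [hv, hQc, hf₂.bilinear.add_left, hw₀, hsym u' w₀, hkw, add_zero]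
    have hpb := hQ.polar_bilinear
    let t0 : (Fin n → F) →ₗ[F] (Fin n → F) :=
      { toFun := fun x => x + QuadraticMap.polar Q x v • v
        map_add' := fun a b => by rw [hpb.add_left]; module
        map_smul' := fun a z => by rw [hpb.smul_left, RingHom.id_apply]; module }
    have hvv : QuadraticMap.polar Q v v = 0 := by
      rw [hv, hBc, hsym w₀ (u₀ + u'), ← one_mul (f₂ _ _), ← add_mul, hF2, zero_mul]
    have ht2 : ∀ x, t0 (t0 x) = x := fun x => by
      show x + _ • v + QuadraticMap.polar Q (x + QuadraticMap.polar Q x v • v) v • v = x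
      rw [hpb.add_left, hpb.smul_left, hvv, mul_zero, add_zero, add_assoc, ← add_smul,
        show QuadraticMap.polar Q x v + QuadraticMap.polar Q x v = 0 by linear_combination QuadraticMap.polar Q x v * hF2,
        zero_smul, add_zero]
    obtain ⟨tg, htg⟩ := exists_gl (LinearEquiv.ofLinear t0 t0 (LinearMap.ext ht2) (LinearMap.ext ht2))
    have htQ : ∀ x, Q ((tg : Matrix (Fin n) (Fin n) F) *ᵥ x) = Q x := fun x => by
      rw [htg]
      show Q (x + QuadraticMap.polar Q x v • v) = Q x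
      rcases h01 (QuadraticMap.polar Q x v) with h' | h' <;> rw [h']
      · rw [zero_smul, add_zero]
      · rw [one_smul]
        rw [QuadraticMap.polar, hQv] at h'
        linear_combination h' + hF2
    let t : Cfsg.isometryGroup F Q := ⟨tg, fun x _ => htQ x⟩
    set Y : Matrix (Fin n) (Fin n) F := ((y : GL (Fin n) F) : Matrix (Fin n) (Fin n) F) with hY
    have hz : ((t * y * t⁻¹ * y⁻¹ : Cfsg.isometryGroup F Q) : GL (Fin n) F) ∈ Ω :=
      Subgroup.mem_map_of_mem _ (Subgroup.commutator_mem_commutator (Subgroup.mem_top t) (Subgroup.mem_top y))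
    rw [← h] at hz
    set z : GL (Fin n) F := ((t * y * t⁻¹ * y⁻¹ : Cfsg.isometryGroup F Q) : GL (Fin n) F) with hzdef
    have hyv : Y *ᵥ v = Φ0 (w₀ + u', u₀ + w₀) := by
      rw [hv, hy]
      congr 2
      · simp [map_add, hpu, hpu', hpw]
      · simp [map_add, hpu, hpu', hpw]
    set v2 := Φ0 (w₀ + u', u₀ + w₀) with hv2
    have hti : t⁻¹ = t := by
      refine inv_eq_of_mul_eq_one_right (Subtype.ext (Units.ext (Matrix.ext_iff_mulVec.2 fun x => ?_)))
      show ((tg * tg : GL (Fin n) F) : Matrix (Fin n) (Fin n) F) *ᵥ x = (1 : Matrix (Fin n) (Fin n) F) *ᵥ x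
      rw [Units.val_mul, ← Matrix.mulVec_mulVec, htg, htg, Matrix.one_mulVec]
      exact ht2 x
    have hyi : ∀ x, Y *ᵥ ((((y : GL (Fin n) F))⁻¹ : GL (Fin n) F) : Matrix (Fin n) (Fin n) F) *ᵥ x = x := fun x => by
      rw [Matrix.mulVec_mulVec, hY, ← Units.val_mul, mul_inv_cancel, Units.val_one, Matrix.one_mulVec]
    have hyB : ∀ a b, QuadraticMap.polar Q (Y *ᵥ a) (Y *ᵥ b) = QuadraticMap.polar Q a b := fun a b => by
      have hyQ : ∀ x, Q (Y *ᵥ x) = Q x := fun x => y.2 x x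
      simp only [QuadraticMap.polar, ← Matrix.mulVec_add, hyQ]
    -- the action of the commutator
    have hzx : ∀ x, (z : Matrix (Fin n) (Fin n) F) *ᵥ x =
        x + QuadraticMap.polar Q x v2 • v2 + QuadraticMap.polar Q (x + QuadraticMap.polar Q x v2 • v2) v • v := by
      intro x
      rw [hzdef, hti]
      simp only [Subgroup.coe_mul, Subgroup.coe_inv, Units.val_mul, ← Matrix.mulVec_mulVec]
      show (tg : Matrix (Fin n) (Fin n) F) *ᵥ Y *ᵥ (tg : Matrix (Fin n) (Fin n) F) *ᵥ _ = _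
      rw [htg, htg]
      show Y *ᵥ (_ + _ • v) + QuadraticMap.polar Q (Y *ᵥ (_ + _ • v)) v • v = _
      rw [Matrix.mulVec_add, Matrix.mulVec_smul, hyi, hyv, ← hyv, ← hyB _ v, hyi]
    obtain ⟨m, hm⟩ := (Subgroup.mem_normalizer_iff.1 hz.1 J).1 (Subgroup.mem_zpowers J)
    have hJ3 : J ^ 3 = 1 := by
      refine Units.ext (Matrix.ext_iff_mulVec.2 fun w => ?_)
      obtain ⟨⟨u, w'⟩, rfl⟩ := Φ.surjective w
      show _ *ᵥ Φ0 (u, w') = _ *ᵥ Φ0 (u, w')
      rw [pow_succ, pow_two, Units.val_mul, Units.val_mul, ← Matrix.mulVec_mulVec, ← Matrix.mulVec_mulVec, hJ, hj', hj', hj',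
        Units.val_one, Matrix.one_mulVec]
      congr 2 <;> (funext i; simp only [Pi.add_apply, Pi.sub_apply, Pi.zero_apply]; grind)
    have hzJ : z * J = J ^ m * z := by
      rw [show J ^ m = z * J * z⁻¹ from hm]; group
    have hcases : J ^ m = 1 ∨ J ^ m = J ∨ J ^ m = J * J := by
      have h3 : J ^ m = J ^ (m % 3) := by
        conv_lhs => rw [← Int.emod_add_mul_ediv m 3]
        rw [_root_.zpow_add, _root_.zpow_mul, show J ^ (3 : ℤ) = 1 from by exact_mod_cast hJ3, _root_.one_zpow, mul_one]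
      rcases (by omega : m % 3 = 0 ∨ m % 3 = 1 ∨ m % 3 = 2) with h' | h' | h' <;> rw [h'] at h3
      · exact Or.inl (by rw [h3, zpow_zero])
      · exact Or.inr (Or.inl (by rw [h3, zpow_one]))
      · exact Or.inr (Or.inr (by rw [h3, zpow_two]))
    -- test vectors
    set x := Φ0 (u₀ + w₀, 0) with hx
    set s := Φ0 (u', 0) with hs
    have bil2 := hf₂.bilinear
    have hxv : QuadraticMap.polar Q x v = 1 := by
      rw [hx, hv, hBc, hzl, add_zero, bil2.add_left, hw₀, hf₂.alternating, add_zero]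
    have hxv2 : QuadraticMap.polar Q x v2 = 0 := by
      rw [hx, hv2, hBc, hzl, add_zero, bil2.add_left, bil2.add_right, bil2.add_right, hf₂.alternating, hw₀,
        hf₂.alternating, hsym w₀ u₀, hw₀]
      linear_combination hF2
    have hzxx : (z : Matrix (Fin n) (Fin n) F) *ᵥ x = x + v := by
      rw [hzx, hxv2, zero_smul, add_zero, hxv, one_smul]
    have hfix : ∀ a b, f₂ a (u₀ + w₀) = 0 → f₂ a w₀ = 0 → f₂ b (u₀ + u') = 0 → f₂ b (w₀ + u') = 0 →
        (z : Matrix (Fin n) (Fin n) F) *ᵥ Φ0 (a, b) = Φ0 (a, b) := by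
      intro a b h1 h2 h3 h4
      rw [hzx, hv2, hBc, h1, h4, add_zero, zero_smul, add_zero, hv, hBc, h2, h3, add_zero, zero_smul, add_zero]
    have hzs : (z : Matrix (Fin n) (Fin n) F) *ᵥ s = s := by
      refine hfix u' 0 ?_ ?_ (hzl _) (hzl _)
      · rw [bil2.add_right, hsym u' u₀, hku, hsym u' w₀, hkw, add_zero]
      · rw [hsym, hkw]
    have hzJs : (z : Matrix (Fin n) (Fin n) F) *ᵥ ((J : Matrix (Fin n) (Fin n) F) *ᵥ s) = (J : Matrix (Fin n) (Fin n) F) *ᵥ s := by
      rw [hs, hJ, hj', add_zero]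
      refine hfix 0 u' (hzl _) (hzl _) ?_ ?_
      · rw [bil2.add_right, hsym u' u₀, hku, hf₂.alternating, add_zero]
      · rw [bil2.add_right, hsym u' w₀, hkw, hf₂.alternating, add_zero]
    have hs1 := congrArg (fun g : GL (Fin n) F => (g : Matrix (Fin n) (Fin n) F) *ᵥ s) hzJ
    simp only [Units.val_mul, ← Matrix.mulVec_mulVec, hzJs, hzs] at hs1
    rcases hcases with e' | e' | e' <;> rw [e'] at hs1 hzJ
    · rw [hs, hJ, hj', Units.val_one, Matrix.one_mulVec] at hs1
      have := congrArg Prod.fst (hΦinj hs1)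
      exact hu'0 this.symm
    · -- `z` commutes with `J`
      have hx1 := congrArg (fun g : GL (Fin n) F => (g : Matrix (Fin n) (Fin n) F) *ᵥ x) hzJ
      simp only [Units.val_mul, ← Matrix.mulVec_mulVec, hzxx, Matrix.mulVec_add] at hx1
      rw [hzx] at hx1
      set Jx := (J : Matrix (Fin n) (Fin n) F) *ᵥ x
      set α := QuadraticMap.polar Q Jx v2
      set β := QuadraticMap.polar Q (Jx + α • v2) v
      rw [add_assoc, add_left_cancel_iff] at hx1
      rw [hv2, hv, hJ, hj', ← map_smul, ← map_smul, ← map_add] at hx1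
      have h2 := congrArg (fun p : (Fin n₂ → F) × (Fin n₂ → F) => p.2 - proj p.2) (hΦinj hx1)
      simp [map_add, hpu, hpw, hpu'] at h2
      exact hu'0 (by linear_combination (norm := module) h2.symm)
    · rw [hs, hJ, Units.val_mul, ← Matrix.mulVec_mulVec, hj', hj', add_zero] at hs1
      have := congrArg Prod.fst (hΦinj hs1)
      exact hu'0 this.symm


end Cfsg.Agent.S5705
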