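import Cfsg.Statements.S5713
-- import your own Cfsg.Agent.* helpers here

set_option autoImplicit false
open Cfsg

namespace Cfsg.Agent.S5713

open MulAction Finset

section Babai

variable {G Ω : Type*} [Group G] [MulAction G Ω]

theorem alt_le_of_meet [FaithfulSMul G Ω] [Fintype Ω] [DecidableEq Ω] (hprim : MulAction.IsPreprimitive G Ω) (g h : G) (a : Ω)
    (hga : g • a ≠ a) (hha : h • a ≠ a) (hm : ∀ y : Ω, g • y ≠ y → h • y ≠ y → y = a) :
    alternatingGroup Ω ≤ (MulAction.toPermHom G Ω).range := by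
  classical
  haveI := hprim
  set f := MulAction.toPermHom G Ω with hf
  set σ := f g
  set τ := f h
  have hmeet : ∀ y, σ y ≠ y → τ y ≠ y → y = a := hm
  have hσa : σ a ≠ a := hga
  have hτa : τ a ≠ a := hha
  have mv : ∀ (π : Equiv.Perm Ω) y, π y ≠ y → π (π y) ≠ π y := fun π y hy h => hy (π.injective h)
  have ais : ∀ (π : Equiv.Perm Ω) y, π (π⁻¹ y) = y := fun π y => π.apply_symm_apply y
  have ias : ∀ (π : Equiv.Perm Ω) y, π⁻¹ (π y) = y := fun π y => π.symm_apply_apply y
  have mv' : ∀ (π : Equiv.Perm Ω) y, π y ≠ y → π (π⁻¹ y) ≠ π⁻¹ y := by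
    intro π y hy h
    rw [ais] at h
    exact hy (by conv_lhs => rw [h, ais])
  have fx : ∀ (π : Equiv.Perm Ω) y, π y = y → π⁻¹ y = y := fun π y hy => Equiv.Perm.inv_eq_iff_eq.2 hy.symm
  set k := σ * τ * σ⁻¹ * τ⁻¹ with hk
  have hkv : ∀ y, k y = σ (τ (σ⁻¹ (τ⁻¹ y))) := fun y => rfl
  have hb : τ (σ a) = σ a := by
    by_contra hc
    exact hσa (hmeet (σ a) (mv σ a hσa) hc)
  have hc' : σ (τ a) = τ a := by
    by_contra hc
    exact hτa (hmeet (τ a) hc (mv τ a hτa))
  have hsupp : k.support = {a, σ a, τ a} := by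
    have k1 : k a = σ a := by
      have e1 : σ⁻¹ (τ⁻¹ a) = τ⁻¹ a := fx σ _ (by
        by_contra hc
        have := hmeet _ hc (mv' τ a hτa)
        exact hτa (Equiv.Perm.inv_eq_iff_eq.1 this).symm)
      rw [hkv, e1, ais]
    have k2 : k (σ a) = τ a := by
      rw [hkv, fx τ _ hb, ias, hc']
    have k3 : k (τ a) = a := by
      have e1 : τ (σ⁻¹ a) = σ⁻¹ a := by
        by_contra hc
        have := hmeet _ (mv' σ a hσa) hc
        exact hσa (Equiv.Perm.inv_eq_iff_eq.1 this).symm
      rw [hkv, ias, e1, ais]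
    ext y
    simp only [Equiv.Perm.mem_support, Finset.mem_insert, Finset.mem_singleton]
    constructor
    · intro hy
      by_contra hc
      push_neg at hc
      obtain ⟨h1, h2, h3⟩ := hc
      apply hy
      rw [hkv]
      by_cases hty : τ y = y
      · rw [fx τ y hty]
        by_cases hsy : σ y = y
        · rw [fx σ y hsy, hty, hsy]
        · have : τ (σ⁻¹ y) = σ⁻¹ y := by
            by_contra hc
            exact h2 (Equiv.Perm.inv_eq_iff_eq.1 (hmeet _ (mv' σ y hsy) hc))
          rw [this, ais]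
      · have hsy : σ y = y := by
          by_contra hc
          exact h1 (hmeet y hc hty)
        have : σ (τ⁻¹ y) = τ⁻¹ y := by
          by_contra hc
          exact h3 (Equiv.Perm.inv_eq_iff_eq.1 (hmeet _ hc (mv' τ y hty)))
        rw [fx σ _ this, ais, hsy]
    · rintro (rfl | rfl | rfl)
      · rw [k1]; exact hσa
      · rw [k2]; intro e; exact hσa (hmeet (σ a) (mv σ a hσa) (by rw [← e]; exact mv τ a hτa))
      · rw [k3]; exact hτa.symm
  have h3 : k.IsThreeCycle := by
    rw [← card_support_eq_three_iff, hsupp, Finset.card_eq_three]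
    exact ⟨a, σ a, τ a, Ne.symm hσa, Ne.symm hτa, fun e => hσa (hmeet (σ a) (mv σ a hσa) (by rw [e]; exact mv τ a hτa)), rfl⟩
  haveI : MulAction.IsPreprimitive f.range Ω := by
    refine MulAction.IsPreprimitive.of_surjective
      (f := ({ toFun := id, map_smul' := fun g x => rfl } : MulActionHom (fun g => f.rangeRestrict g) Ω Ω)) Function.surjective_id
  exact Equiv.Perm.alternatingGroup_le_of_isPreprimitive_of_isThreeCycle_mem inferInstance h3
    (mul_mem (mul_mem (mul_mem ⟨g, rfl⟩ ⟨h, rfl⟩) (inv_mem ⟨g, rfl⟩)) (inv_mem ⟨h, rfl⟩))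

variable [Fintype G] [Fintype Ω]

open Classical in
/-- The suborbit of `x` under the stabilizer of `z`. -/
noncomputable def sorb (G : Type*) {Ω : Type*} [Group G] [MulAction G Ω] [Fintype Ω] (z x : Ω) : Finset Ω :=
  univ.filter fun y => ∃ h : G, h • z = z ∧ h • x = y

open Classical in
/-- The points that distinguish `x` from `y`. -/
noncomputable def dset (G : Type*) {Ω : Type*} [Group G] [MulAction G Ω] [Fintype Ω] (x y : Ω) : Finset Ω :=
  univ.filter fun z => y ∉ sorb G z x

omit [Fintype G] in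
theorem mem_sorb {z x y : Ω} : y ∈ sorb G z x ↔ ∃ h : G, h • z = z ∧ h • x = y := by
  classical
  simp [sorb]

omit [Fintype G] in
theorem mem_dset {x y z : Ω} : z ∈ dset G x y ↔ y ∉ sorb G z x := by
  classical
  simp [dset]

omit [Fintype G] in
theorem self_mem_sorb (z x : Ω) : x ∈ sorb G z x := mem_sorb.2 ⟨1, one_smul _ _, one_smul _ _⟩

omit [Fintype G] in
theorem sorb_comm {z x y : Ω} (h : y ∈ sorb G z x) : x ∈ sorb G z y := by
  obtain ⟨k, hk, hkx⟩ := mem_sorb.1 h
  exact mem_sorb.2 ⟨k⁻¹, by rw [inv_smul_eq_iff, hk], by rw [inv_smul_eq_iff, hkx]⟩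

omit [Fintype G] in
theorem sorb_trans {z x y w : Ω} (h : y ∈ sorb G z x) (h' : w ∈ sorb G z y) : w ∈ sorb G z x := by
  obtain ⟨k, hk, hkx⟩ := mem_sorb.1 h
  obtain ⟨l, hl, hly⟩ := mem_sorb.1 h'
  exact mem_sorb.2 ⟨l * k, by rw [mul_smul, hk, hl], by rw [mul_smul, hkx, hly]⟩

omit [Fintype G] in
theorem sorb_eq {z x y : Ω} (h : y ∈ sorb G z x) : sorb G z y = sorb G z x := by
  ext w
  exact ⟨fun hw => sorb_trans h hw, fun hw => sorb_trans (sorb_comm h) hw⟩

omit [Fintype G] in
theorem mem_sorb_smul (k : G) {z x y : Ω} (h : y ∈ sorb G z x) : k • y ∈ sorb G (k • z) (k • x) := by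
  obtain ⟨l, hl, hlx⟩ := mem_sorb.1 h
  exact mem_sorb.2 ⟨k * l * k⁻¹, by rw [mul_smul, mul_smul, inv_smul_smul, hl],
    by rw [mul_smul, mul_smul, inv_smul_smul, hlx]⟩

omit [Fintype G] in
theorem mem_sorb_smul_iff (k : G) {z x y : Ω} : k • y ∈ sorb G (k • z) (k • x) ↔ y ∈ sorb G z x :=
  ⟨fun h => by simpa using mem_sorb_smul k⁻¹ h, mem_sorb_smul k⟩

omit [Fintype G] in
theorem card_sorb_smul (k : G) (z x : Ω) : (sorb G (k • z) (k • x)).card = (sorb G z x).card := by
  classical
  symm
  refine Finset.card_bij (fun y _ => k • y) (fun y hy => mem_sorb_smul k hy)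
    (fun y _ y' _ h => MulAction.injective k h) fun w hw => ⟨k⁻¹ • w, ?_, smul_inv_smul k w⟩
  exact (mem_sorb_smul_iff k).1 (by rwa [smul_inv_smul])

omit [Fintype G] in
theorem dset_comm (x y : Ω) : dset G x y = dset G y x := by
  ext z
  rw [mem_dset, mem_dset]
  exact ⟨fun h h' => h (sorb_comm h'), fun h h' => h (sorb_comm h')⟩

omit [Fintype G] in
theorem card_dset_smul (k : G) (x y : Ω) : (dset G (k • x) (k • y)).card = (dset G x y).card := by
  classical
  symm
  refine Finset.card_bij (fun z _ => k • z) (fun z hz => ?_)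
    (fun a _ b _ h => MulAction.injective k h) fun w hw => ⟨k⁻¹ • w, ?_, smul_inv_smul k w⟩
  · rw [mem_dset, mem_sorb_smul_iff]
    exact mem_dset.1 hz
  · rw [mem_dset] at hw ⊢
    intro h
    have := mem_sorb_smul k h
    rw [smul_inv_smul] at this
    exact hw this

omit [Fintype G] in
theorem card_dset_triangle [DecidableEq Ω] (x y w : Ω) :
    (dset G x w).card ≤ (dset G x y).card + (dset G y w).card := by
  refine le_trans (Finset.card_le_card ?_) (Finset.card_union_le _ _)
  intro z hz
  rw [mem_dset] at hz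
  rw [Finset.mem_union, mem_dset, mem_dset]
  by_contra hc
  push Not at hc
  exact hz (sorb_trans hc.1 hc.2)

/-- Elements fixing `z` and moving `x` to `y`. -/
theorem card_transporter [DecidableEq Ω] {z x y : Ω} (h : y ∈ sorb G z x) :
    (univ.filter fun g : G => g • z = z ∧ g • x = y).card =
      (univ.filter fun g : G => g • z = z ∧ g • x = x).card := by
  obtain ⟨k, hk, hkx⟩ := mem_sorb.1 h
  refine Finset.card_bij (fun g _ => k⁻¹ * g) (fun g hg => ?_) (fun a _ b _ h => mul_left_cancel h)
    fun g hg => ⟨k * g, ?_, by rw [inv_mul_cancel_left]⟩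
  · rw [mem_filter] at hg ⊢
    refine ⟨mem_univ _, ?_, ?_⟩
    · rw [mul_smul, hg.2.1, inv_smul_eq_iff, hk]
    · rw [mul_smul, hg.2.2, inv_smul_eq_iff, hkx]
  · rw [mem_filter] at hg ⊢
    refine ⟨mem_univ _, ?_, ?_⟩
    · rw [mul_smul, hg.2.1, hk]
    · rw [mul_smul, hg.2.2, hkx]

theorem card_sorb_mul [DecidableEq Ω] (z x : Ω) :
    (univ.filter fun g : G => g • z = z).card =
      (sorb G z x).card * (univ.filter fun g : G => g • z = z ∧ g • x = x).card := by
  rw [Finset.card_eq_sum_card_fiberwise (f := fun g : G => g • x) (t := sorb G z x)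
    (fun g hg => mem_sorb.2 ⟨g, (mem_filter.1 hg).2, rfl⟩)]
  rw [Finset.sum_congr rfl (g := fun _ => (univ.filter fun g : G => g • z = z ∧ g • x = x).card)]
  · rw [Finset.sum_const, smul_eq_mul]
  · intro y hy
    rw [Finset.filter_filter]
    exact card_transporter hy

theorem card_sorb_swap [IsPretransitive G Ω] (z x : Ω) : (sorb G z x).card = (sorb G x z).card := by
  classical
  obtain ⟨k, hk⟩ := MulAction.exists_smul_eq G z x
  have e : (univ.filter fun g : G => g • z = z).card = (univ.filter fun g : G => g • x = x).card := by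
    refine Finset.card_bij (fun g _ => k * g * k⁻¹) (fun g hg => ?_)
      (fun a _ b _ h => mul_left_cancel (mul_right_cancel h)) fun g hg => ⟨k⁻¹ * g * k, ?_, by group⟩
    · rw [mem_filter] at hg ⊢
      refine ⟨mem_univ _, ?_⟩
      rw [mul_smul, mul_smul, ← hk, inv_smul_smul, hg.2]
    · rw [mem_filter] at hg ⊢
      refine ⟨mem_univ _, ?_⟩
      rw [mul_smul, mul_smul, hk, hg.2, ← hk, inv_smul_smul]
  have h1 := card_sorb_mul (G := G) z x
  have h2 := card_sorb_mul (G := G) x z
  have e2 : (univ.filter fun g : G => g • x = x ∧ g • z = z) = univ.filter fun g : G => g • z = z ∧ g • x = x :=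
    Finset.filter_congr fun g _ => and_comm
  rw [e2] at h2
  have hpos : 0 < (univ.filter fun g : G => g • z = z ∧ g • x = x).card :=
    Finset.card_pos.2 ⟨1, mem_filter.2 ⟨mem_univ _, one_smul _ _, one_smul _ _⟩⟩
  rw [e] at h1
  exact Nat.eq_of_mul_eq_mul_right hpos (h1.symm.trans h2)

omit [Fintype G] [Fintype Ω] in
/-- An invariant equivalence relation of a primitive group is trivial. -/
theorem rel_trivial (hprim : MulAction.IsPreprimitive G Ω) (E : Ω → Ω → Prop) (hr : ∀ x, E x x)
    (hs : ∀ x y, E x y → E y x) (ht : ∀ x y z, E x y → E y z → E x z)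
    (hinv : ∀ (k : G) x y, E x y → E (k • x) (k • y)) (a : Ω) :
    (∀ y, E a y → y = a) ∨ ∀ y, E a y := by
  haveI := hprim
  have hB : MulAction.IsBlock G {y | E a y} := by
    rw [MulAction.isBlock_iff_smul_eq_of_nonempty]
    rintro k ⟨y, ⟨u, hu, rfl⟩, hy⟩
    have hu' : E a u := hu
    have hy' : E a (k • u) := hy
    have hka : E a (k • a) := ht _ _ _ hy' (hs _ _ (hinv k _ _ hu'))
    ext w
    constructor
    · rintro ⟨v, hv, rfl⟩
      exact ht _ _ _ hka (hinv k _ _ hv)
    · intro hw
      refine ⟨k⁻¹ • w, ?_, smul_inv_smul k w⟩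
      have := hinv k⁻¹ _ _ (ht _ _ _ (hs _ _ hka) hw)
      rwa [inv_smul_smul] at this
  rcases MulAction.IsPreprimitive.isTrivialBlock_of_isBlock hB with h | h
  · exact Or.inl fun y hy => h hy (hr a)
  · exact Or.inr fun y => by
      have : y ∈ {y | E a y} := h ▸ Set.mem_univ y
      exact this

omit [Fintype G] in
theorem card_dset_walk (Γ : SimpleGraph Ω) (m : ℕ) (hE : ∀ u v, Γ.Adj u v → (dset G u v).card ≤ m)
    {u v : Ω} (p : Γ.Walk u v) : (dset G u v).card ≤ p.length * m := by
  classical
  induction p with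
  | nil =>
    rw [SimpleGraph.Walk.length_nil, zero_mul, Nat.le_zero, Finset.card_eq_zero]
    ext z
    simp [mem_dset, self_mem_sorb]
  | @cons a b c hab q ih =>
    have h1 := card_dset_triangle (G := G) a b c
    have h2 := hE a b hab
    rw [SimpleGraph.Walk.length_cons, Nat.succ_mul]
    omega

theorem two_trans_case [DecidableEq Ω] [FaithfulSMul G Ω] (hprim : MulAction.IsPreprimitive G Ω)
    (hA : ¬ alternatingGroup Ω ≤ (MulAction.toPermHom G Ω).range) (g : G)
    (hm0 : (univ.filter fun z : Ω => g • z ≠ z).Nonempty)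
    (h2 : ∀ z x y : Ω, x ≠ z → y ≠ z → y ∈ sorb G z x) :
    Fintype.card Ω ≤ (2 * (univ.filter fun z : Ω => g • z ≠ z).card + 1) ^ 2 := by
  classical
  by_contra hlt
  push Not at hlt
  set S := univ.filter fun z : Ω => g • z ≠ z with hS
  obtain ⟨a, ha⟩ := hm0
  set T := S.erase a with hT
  set A := univ.filter fun k : G => k • a = a with hAdef
  have hApos : 0 < A.card := Finset.card_pos.2 ⟨1, mem_filter.2 ⟨mem_univ _, one_smul _ _⟩⟩
  have hTcard : T.card + 1 = S.card := Finset.card_erase_add_one ha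
  have hsorb : ∀ b : Ω, b ≠ a → (sorb G a b).card + 1 = Fintype.card Ω := by
    intro b hb
    have : sorb G a b = univ.erase a := by
      ext y
      rw [Finset.mem_erase]
      refine ⟨fun hy => ⟨?_, mem_univ y⟩, fun hy => h2 a b y hb hy.1⟩
      rintro rfl
      obtain ⟨h, h1, h3⟩ := mem_sorb.1 hy
      exact hb (MulAction.injective h (h3.trans h1.symm))
    rw [this, Finset.card_erase_add_one (mem_univ a), Finset.card_univ]
  have key : ∀ b ∈ T, (Fintype.card Ω - 1) * (A.filter fun k => k • b ∈ T).card ≤ T.card * A.card := by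
    intro b hb
    have hba : b ≠ a := (Finset.mem_erase.1 hb).1
    have hf := card_sorb_mul (G := G) a b
    rw [← hAdef] at hf
    have hN : (sorb G a b).card = Fintype.card Ω - 1 := by have := hsorb b hba; omega
    rw [hN] at hf
    have h5 : (A.filter fun k => k • b ∈ T).card ≤
        T.card * (univ.filter fun k : G => k • a = a ∧ k • b = b).card := by
      rw [Finset.card_eq_sum_card_fiberwise (s := A.filter fun k => k • b ∈ T) (f := fun k : G => k • b) (t := T)
        (fun k hk => (mem_filter.1 hk).2)]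
      refine le_trans (Finset.sum_le_card_nsmul _ _ _ fun y hy => ?_) (le_of_eq (smul_eq_mul _ _))
      have hya : y ≠ a := (Finset.mem_erase.1 hy).1
      rw [← card_transporter (h2 a b y hba hya)]
      refine Finset.card_le_card fun k hk => ?_
      simp only [hAdef, mem_filter, mem_univ, true_and] at hk ⊢
      exact ⟨hk.1.1, hk.2⟩
    calc (Fintype.card Ω - 1) * (A.filter fun k => k • b ∈ T).card
        ≤ (Fintype.card Ω - 1) * (T.card * (univ.filter fun k : G => k • a = a ∧ k • b = b).card) :=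
          Nat.mul_le_mul_left _ h5
      _ = T.card * A.card := by rw [hf]; ring
  obtain ⟨k, hkA, hk⟩ : ∃ k ∈ A, ∀ b ∈ T, k • b ∉ T := by
    by_contra hc
    push Not at hc
    have h3 : A.card ≤ ∑ b ∈ T, (A.filter fun k => k • b ∈ T).card := by
      refine le_trans (Finset.card_le_card ?_) Finset.card_biUnion_le
      intro k hk
      obtain ⟨b, hb, hkb⟩ := hc k hk
      exact Finset.mem_biUnion.2 ⟨b, hb, mem_filter.2 ⟨hk, hkb⟩⟩
    have h4 : (Fintype.card Ω - 1) * A.card ≤ T.card * (T.card * A.card) := by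
      refine le_trans (Nat.mul_le_mul_left _ h3) ?_
      rw [Finset.mul_sum]
      refine le_trans (Finset.sum_le_card_nsmul _ _ _ key) (le_of_eq (smul_eq_mul _ _))
    rw [← Nat.mul_assoc] at h4
    have h6 : Fintype.card Ω - 1 ≤ T.card * T.card := Nat.le_of_mul_le_mul_right h4 hApos
    have h7 : T.card * T.card + 1 < (2 * S.card + 1) ^ 2 := by rw [← hTcard]; nlinarith
    omega
  have hka : k • a = a := (mem_filter.1 hkA).2
  have hga : g • a ≠ a := (mem_filter.1 ha).2
  refine hA (alt_le_of_meet hprim g (k * g * k⁻¹) a hga ?_ ?_)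
  · rw [mul_smul, mul_smul, inv_smul_eq_iff.2 hka.symm]
    intro h
    exact hga (MulAction.injective k (h.trans hka.symm))
  · intro y h1 h3
    by_contra hya
    have hyT : y ∈ T := Finset.mem_erase.2 ⟨hya, mem_filter.2 ⟨mem_univ _, h1⟩⟩
    have hk1 : k⁻¹ • y ∈ T := by
      refine Finset.mem_erase.2 ⟨?_, mem_filter.2 ⟨mem_univ _, ?_⟩⟩
      · intro h; exact hya (by rw [← smul_inv_smul k y, h, hka])
      · intro h; apply h3; rw [mul_smul, mul_smul, h, smul_inv_smul]
    exact hk _ hk1 (by rwa [smul_inv_smul])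

open Classical in
theorem uniprimitive_case [DecidableEq Ω] (hprim : MulAction.IsPreprimitive G Ω) (x₀ y₀ : Ω) (hne : x₀ ≠ y₀)
    (h2 : ¬ ∀ z x y : Ω, x ≠ z → y ≠ z → y ∈ sorb G z x) :
    Fintype.card Ω ≤ (2 * (dset G x₀ y₀).card + 1) ^ 2 := by
  haveI := hprim
  set m := (dset G x₀ y₀).card with hmdef
  set n := Fintype.card Ω with hn
  by_contra hlt
  push Not at hlt
  let Γ : SimpleGraph Ω := SimpleGraph.fromRel fun u v => ∃ k : G, k • x₀ = u ∧ k • y₀ = v
  have hE : ∀ u v, Γ.Adj u v → (dset G u v).card ≤ m := by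
    rintro u v ⟨-, ⟨k, rfl, rfl⟩ | ⟨k, rfl, rfl⟩⟩
    · rw [card_dset_smul]
    · rw [dset_comm, card_dset_smul]
  have hadj : ∀ (k : G) u v, Γ.Adj u v → Γ.Adj (k • u) (k • v) := by
    rintro k u v ⟨huv, h⟩
    refine ⟨fun h' => huv (MulAction.injective k h'), ?_⟩
    rcases h with ⟨l, rfl, rfl⟩ | ⟨l, rfl, rfl⟩
    · exact Or.inl ⟨k * l, mul_smul _ _ _, mul_smul _ _ _⟩
    · exact Or.inr ⟨k * l, mul_smul _ _ _, mul_smul _ _ _⟩
  let φ : G → (Γ →g Γ) := fun k => ⟨fun u => k • u, fun {u v} h => hadj k u v h⟩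
  have hreach : ∀ u v, Γ.Reachable u v := by
    have h00 : Γ.Adj x₀ y₀ := ⟨hne, Or.inl ⟨1, one_smul _ _, one_smul _ _⟩⟩
    rcases rel_trivial hprim Γ.Reachable (fun x => SimpleGraph.Reachable.refl x)
        (fun x y h => h.symm) (fun x y z h h' => h.trans h')
        (fun k x y h => h.map (φ k)) x₀ with h | h
    · exact absurd (h y₀ h00.reachable) hne.symm
    · exact fun u v => (h u).symm.trans (h v)
  have hdinv : ∀ (k : G) u v, Γ.dist (k • u) (k • v) ≤ Γ.dist u v := by
    intro k u v
    obtain ⟨p, hp⟩ := (hreach u v).exists_walk_length_eq_dist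
    calc Γ.dist (k • u) (k • v) ≤ (p.map (φ k)).length := SimpleGraph.dist_le _
      _ = Γ.dist u v := by rw [SimpleGraph.Walk.length_map, hp]
  have hdinv' : ∀ (k : G) u v, Γ.dist (k • u) (k • v) = Γ.dist u v := fun k u v =>
    le_antisymm (hdinv k u v) (by simpa using hdinv k⁻¹ (k • u) (k • v))
  -- a point whose distances to the ends of an edge differ lies in the distinguishing set
  have hdd : ∀ u v z, Γ.dist u z ≠ Γ.dist v z → z ∈ dset G u v := by
    intro u v z hd
    rw [mem_dset]
    intro h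
    obtain ⟨k, hk, hku⟩ := mem_sorb.1 h
    apply hd
    rw [← hku]
    conv_rhs => rw [← hk]
    exact (hdinv' k u z).symm
  have hpath : ∀ u w, u ≠ w → ∃ v, Γ.Adj u v ∧ Γ.dist v w + 1 = Γ.dist u w ∧ Γ.dist u w + 1 ≤ m := by
    intro u w huw
    obtain ⟨p, hp⟩ := (hreach u w).exists_walk_length_eq_dist
    set d := Γ.dist u w with hd
    have hd0 : 0 < d := (hreach u w).pos_dist_of_ne huw
    have hdist : ∀ j, j ≤ d → Γ.dist u (p.getVert j) = j := by
      intro j hj
      apply le_antisymm
      · calc Γ.dist u (p.getVert j) ≤ (p.take j).length := SimpleGraph.dist_le _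
          _ ≤ j := by simp
      · have h1 : Γ.dist (p.getVert j) w ≤ (p.drop j).length := SimpleGraph.dist_le _
        rw [SimpleGraph.Walk.drop_length, hp] at h1
        have h3 : d ≤ Γ.dist u (p.getVert j) + Γ.dist (p.getVert j) w :=
          (hreach u (p.getVert j)).dist_triangle_left w
        omega
    set v := p.getVert 1 with hv
    have huv : Γ.Adj u v := by
      have := p.adj_getVert_succ (i := 0) (by omega)
      simpa [hv] using this
    have hv' : ∀ j, 1 ≤ j → j ≤ d → Γ.dist v (p.getVert j) + 1 ≤ j := by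
      intro j hj1 hj
      have h1 : Γ.dist ((p.drop 1).getVert 0) ((p.drop 1).getVert (j - 1)) ≤ j - 1 := by
        calc _ ≤ ((p.drop 1).take (j - 1)).length := by
              have := SimpleGraph.dist_le ((p.drop 1).take (j - 1))
              simpa using this
          _ ≤ j - 1 := by simp
      simp only [SimpleGraph.Walk.drop_getVert] at h1
      rw [show 1 + (j - 1) = j by omega, Nat.add_zero] at h1
      rw [hv]
      omega
    refine ⟨v, huv, ?_, ?_⟩
    · have h1 := hv' d hd0 le_rfl
      have h3 : d ≤ Γ.dist u v + Γ.dist v w := huv.reachable.dist_triangle_left w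
      rw [SimpleGraph.dist_eq_one_iff_adj.2 huv] at h3
      rw [← hp, SimpleGraph.Walk.getVert_length, hp] at h1
      omega
    · have hinj : Set.InjOn p.getVert ↑(range (d + 1)) := by
        intro i hi j hj hij
        rw [Finset.coe_range, Set.mem_Iio] at hi hj
        have := hdist i (by omega)
        rw [hij, hdist j (by omega)] at this
        exact this.symm
      have hsub : (range (d + 1)).image p.getVert ⊆ dset G u v := by
        intro z hz
        obtain ⟨j, hj, rfl⟩ := Finset.mem_image.1 hz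
        rw [Finset.mem_range] at hj
        apply hdd
        rw [hdist j (by omega)]
        rcases Nat.eq_zero_or_pos j with rfl | hj0
        · rw [SimpleGraph.Walk.getVert_zero, SimpleGraph.dist_comm, SimpleGraph.dist_eq_one_iff_adj.2 huv]
          omega
        · have := hv' j hj0 (by omega)
          omega
      have := (Finset.card_le_card hsub).trans (hE u v huv)
      rw [Finset.card_image_of_injOn hinj, Finset.card_range] at this
      exact this
  -- all distinguishing sets are small
  have hsmall : ∀ u w : Ω, 4 * (dset G u w).card < n := by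
    intro u w
    obtain ⟨p, hp⟩ := (hreach u w).exists_walk_length_eq_dist
    have h1 := card_dset_walk Γ m hE p
    rw [hp] at h1
    by_cases huw : u = w
    · subst huw
      rw [SimpleGraph.dist_self, zero_mul] at h1
      omega
    · obtain ⟨v, -, -, hdm⟩ := hpath u w huw
      have h3 : Γ.dist u w * m ≤ m * m := Nat.mul_le_mul_right _ (by omega)
      nlinarith
  -- a large suborbit
  obtain ⟨z₁, x₁, hbig⟩ : ∃ z x : Ω, 3 * n < 4 * (sorb G z x).card := by
    by_contra hc
    push Not at hc
    have h3 : ∀ x z : Ω, n ≤ 4 * (univ.filter fun y => y ∉ sorb G z x).card := by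
      intro x z
      have h5 : (univ.filter fun y => y ∉ sorb G z x).card + (sorb G z x).card = n := by
        rw [hn, ← Finset.card_univ, ← Finset.card_filter_add_card_filter_not (s := (univ : Finset Ω)) (fun y => y ∉ sorb G z x)]
        congr 1
        congr 1
        ext y
        simp
      have := hc z x
      omega
    have h6 : ∑ x : Ω, ∑ y : Ω, 4 * (dset G x y).card = ∑ x : Ω, ∑ z : Ω, 4 * (univ.filter fun y => y ∉ sorb G z x).card := by
      refine Finset.sum_congr rfl fun x _ => ?_
      rw [← Finset.mul_sum, ← Finset.mul_sum]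
      congr 1
      simp only [dset, Finset.card_filter]
      rw [Finset.sum_comm]
      refine Finset.sum_congr rfl fun _ _ => Finset.sum_congr rfl fun _ _ => ?_
      congr
    have hΩ : (univ : Finset Ω).Nonempty := ⟨x₀, mem_univ _⟩
    have h7 : ∑ x : Ω, ∑ y : Ω, 4 * (dset G x y).card < ∑ x : Ω, ∑ y : Ω, n :=
      Finset.sum_lt_sum_of_nonempty hΩ fun x _ => Finset.sum_lt_sum_of_nonempty hΩ fun y _ => hsmall x y
    have h8 : ∑ x : Ω, ∑ z : Ω, n ≤ ∑ x : Ω, ∑ z : Ω, 4 * (univ.filter fun y => y ∉ sorb G z x).card :=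
      Finset.sum_le_sum fun x _ => Finset.sum_le_sum fun z _ => h3 x z
    omega
  let B : Ω → Ω → Prop := fun z x => 3 * n < 4 * (sorb G z x).card
  have Bsymm : ∀ z x, B z x → B x z := fun z x h => by
    show 3 * n < 4 * (sorb G x z).card
    rw [← card_sorb_swap]
    exact h
  have Bsmul : ∀ (k : G) z x, B (k • z) (k • x) ↔ B z x := fun k z x => by
    show 3 * n < 4 * _ ↔ 3 * n < 4 * _
    rw [card_sorb_smul]
  have Buniq : ∀ z u w, B z u → B z w → w ∈ sorb G z u := by
    intro z u w hu hw
    obtain ⟨y, hy⟩ : ((sorb G z u) ∩ sorb G z w).Nonempty := by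
      rw [← Finset.card_pos]
      have h3 := Finset.card_union_add_card_inter (sorb G z u) (sorb G z w)
      have h4 : (sorb G z u ∪ sorb G z w).card ≤ n := Finset.card_le_univ _
      have hu' : 3 * n < 4 * (sorb G z u).card := hu
      have hw' : 3 * n < 4 * (sorb G z w).card := hw
      omega
    rw [Finset.mem_inter] at hy
    exact sorb_trans hy.1 (sorb_comm hy.2)
  have Bex : ∀ z, ∃ x, B z x := fun z => by
    obtain ⟨k, rfl⟩ := MulAction.exists_smul_eq G z₁ z
    exact ⟨k • x₁, (Bsmul k z₁ x₁).2 hbig⟩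
  let R : Ω → Finset Ω := fun z => univ.filter fun x => ¬ B z x
  have hRmem : ∀ z x, x ∈ R z ↔ ¬ B z x := fun z x => by simp [R]
  have hRsmul : ∀ (k : G) z, R (k • z) = (R z).image (k • ·) := by
    intro k z
    ext x
    rw [Finset.mem_image, hRmem]
    constructor
    · intro h
      refine ⟨k⁻¹ • x, (hRmem _ _).2 fun h' => h ?_, smul_inv_smul k x⟩
      have := (Bsmul k z (k⁻¹ • x)).2 h'
      rwa [smul_inv_smul] at this
    · rintro ⟨u, hu, rfl⟩
      rw [Bsmul]
      exact (hRmem _ _).1 hu
  have hcardR : ∀ z, (R z).card = (R z₁).card := by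
    intro z
    obtain ⟨k, rfl⟩ := MulAction.exists_smul_eq G z₁ z
    rw [hRsmul, Finset.card_image_of_injective _ (MulAction.injective k)]
  set r := (R z₁).card with hr
  have hRsplit : ∀ z, (univ.filter fun x => B z x).card + r = n := by
    intro z
    rw [← hcardR z]
    exact (Finset.card_filter_add_card_filter_not _).trans Finset.card_univ
  have hk3 : ∀ z, 3 * n < 4 * (univ.filter fun x => B z x).card := by
    intro z
    obtain ⟨x, hx⟩ := Bex z
    refine lt_of_lt_of_le hx (Nat.mul_le_mul_left _ (Finset.card_le_card ?_))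
    intro y hy
    refine mem_filter.2 ⟨mem_univ _, ?_⟩
    show 3 * n < 4 * _
    rw [sorb_eq hy]
    exact hx
  have hBne : ∀ z, ¬ B z z := by
    intro z h
    have h3 : sorb G z z = {z} := by
      ext y
      rw [mem_sorb, Finset.mem_singleton]
      exact ⟨fun ⟨h, h1, h2⟩ => h2.symm.trans h1, fun h => ⟨1, one_smul _ _, by rw [h, one_smul]⟩⟩
    have h' : 3 * n < 4 * (sorb G z z).card := h
    rw [h3, Finset.card_singleton] at h'
    have : 1 < n := Fintype.one_lt_card_iff.2 ⟨x₀, y₀, hne⟩
    omega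
  -- the small relation is not trivial
  have hR2 : ∃ x : Ω, x ≠ z₁ ∧ ¬ B z₁ x := by
    by_contra hc
    push Not at hc
    refine h2 fun z x y hx hy => ?_
    obtain ⟨k, rfl⟩ := MulAction.exists_smul_eq G z₁ z
    refine Buniq _ x y ?_ ?_
    · have := (Bsmul k z₁ (k⁻¹ • x)).2 (hc _ fun h => hx (by rw [← h, smul_inv_smul]))
      rwa [smul_inv_smul] at this
    · have := (Bsmul k z₁ (k⁻¹ • y)).2 (hc _ fun h => hy (by rw [← h, smul_inv_smul]))
      rwa [smul_inv_smul] at this
  -- intersections of two far neighbourhoods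
  obtain ⟨w, hw⟩ := Bex z₁
  set μ := (R z₁ ∩ R w).card with hμ
  have hμc : ∀ u, B z₁ u → (R z₁ ∩ R u).card = μ := by
    intro u hu
    obtain ⟨k, hk, hku⟩ := mem_sorb.1 (Buniq z₁ w u hw hu)
    have : R z₁ ∩ R u = (R z₁ ∩ R w).image (k • ·) := by
      rw [Finset.image_inter _ _ (MulAction.injective k), ← hRsmul, ← hRsmul, hk, hku]
    rw [this, Finset.card_image_of_injective _ (MulAction.injective k)]
  set K := (univ.filter fun x => B z₁ x).card with hK
  have hμK : K * μ ≤ r * r := by
    calc K * μ = ∑ u ∈ univ.filter (fun x => B z₁ x), (R z₁ ∩ R u).card := by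
          rw [Finset.sum_congr rfl (fun u hu => hμc u (mem_filter.1 hu).2), Finset.sum_const, smul_eq_mul]
      _ = ∑ u ∈ univ.filter (fun x => B z₁ x), ∑ t ∈ R z₁, if t ∈ R u then 1 else 0 := by
          refine Finset.sum_congr rfl fun u _ => ?_
          rw [← Finset.filter_mem_eq_inter, Finset.card_filter]
      _ = ∑ t ∈ R z₁, ((univ.filter (fun x => B z₁ x)).filter fun u => t ∈ R u).card := by
          rw [Finset.sum_comm]
          exact Finset.sum_congr rfl fun t _ => (Finset.card_filter _ _).symm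
      _ ≤ ∑ t ∈ R z₁, r := by
          refine Finset.sum_le_sum fun t _ => ?_
          rw [← hcardR t]
          refine Finset.card_le_card fun u hu => (hRmem _ _).2 fun h => ?_
          exact (hRmem _ _).1 (mem_filter.1 hu).2 (Bsymm _ _ h)
      _ = r * r := by rw [Finset.sum_const, smul_eq_mul]
  have hrK : K ≤ r * r := by
    by_contra hc
    push Not at hc
    have hμ0 : μ = 0 := by
      by_contra h
      have : K * 1 ≤ K * μ := Nat.mul_le_mul_left _ (Nat.pos_of_ne_zero h)
      omega
    have htr : ∀ x u v, ¬ B x u → ¬ B u v → ¬ B x v := by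
      intro x u v hxu huv hxv
      obtain ⟨k, rfl⟩ := MulAction.exists_smul_eq G z₁ x
      have hv1 : B z₁ (k⁻¹ • v) := by rw [← Bsmul k, smul_inv_smul]; exact hxv
      have he := hμc _ hv1
      rw [hμ0, Finset.card_eq_zero] at he
      have : k⁻¹ • u ∈ R z₁ ∩ R (k⁻¹ • v) := by
        refine Finset.mem_inter.2 ⟨(hRmem _ _).2 fun h => hxu ?_, (hRmem _ _).2 fun h => huv ?_⟩
        · have := (Bsmul k _ _).2 h
          rwa [smul_inv_smul] at this
        · exact Bsymm _ _ ((Bsmul k⁻¹ v u).1 h)
      rw [he] at this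
      exact Finset.notMem_empty _ this
    rcases rel_trivial hprim (fun a b => ¬ B a b) hBne (fun a b h h' => h (Bsymm _ _ h'))
        htr (fun k a b h h' => h ((Bsmul k a b).1 h')) z₁ with h | h
    · obtain ⟨x, hx1, hx2⟩ := hR2
      exact hx1 (h x hx2)
    · exact h w hw
  have hK3 : 3 * n < 4 * K := hk3 z₁
  have hrn : K + r = n := hRsplit z₁
  -- the far pair has a large distinguishing set
  have hD1 : 4 * r ≤ 3 * (dset G z₁ w).card := by
    have hsub : (R z₁ \ R w) ∪ (R w \ R z₁) ⊆ dset G z₁ w := by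
      intro z hz
      rw [mem_dset]
      intro h
      obtain ⟨k, hk, hkz⟩ := mem_sorb.1 h
      have e : B z₁ z ↔ B w z := by rw [← Bsmul k z₁ z, hk, hkz]
      simp only [Finset.mem_union, Finset.mem_sdiff, hRmem] at hz
      tauto
    have h3 := Finset.card_le_card hsub
    rw [Finset.card_union_of_disjoint disjoint_sdiff_sdiff] at h3
    have h4 := Finset.card_sdiff_add_card_inter (R z₁) (R w)
    have h5 := Finset.card_sdiff_add_card_inter (R w) (R z₁)
    rw [Finset.inter_comm (R w)] at h5
    rw [hcardR w] at h5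
    have h6 : 3 * μ ≤ r := by
      have : 3 * r * μ ≤ r * r := le_trans (Nat.mul_le_mul_right _ (by omega)) hμK
      rcases Nat.eq_zero_or_pos r with h0 | h0
      · have : μ ≤ r := by rw [hμ, hr]; exact Finset.card_le_card Finset.inter_subset_left
        omega
      · exact Nat.le_of_mul_le_mul_left (by calc r * (3 * μ) = 3 * r * μ := by ring
                                               _ ≤ r * r := this) h0
    omega
  have hm1 : 1 ≤ m := by
    obtain ⟨v, -, -, h⟩ := hpath x₀ y₀ hne
    omega
  -- edges avoid the large suborbit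
  have hBfar : ∀ u v, B u v → 2 ≤ Γ.dist u v := by
    intro u v huv
    have hne' : u ≠ v := fun h => hBne u (by rw [← h] at huv; exact huv)
    have h0 := (hreach u v).pos_dist_of_ne hne'
    by_contra hc
    have h1 : Γ.Adj u v := SimpleGraph.dist_eq_one_iff_adj.1 (by omega)
    have h3 := hE u v h1
    obtain ⟨k, rfl⟩ := MulAction.exists_smul_eq G z₁ u
    have hv1 : B z₁ (k⁻¹ • v) := by rw [← Bsmul k, smul_inv_smul]; exact huv
    obtain ⟨l, hl, hlw⟩ := mem_sorb.1 (Buniq z₁ w _ hw hv1)
    have e : (dset G (k • z₁) v).card = (dset G z₁ w).card := by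
      rw [← card_dset_smul (k * l) z₁ w, mul_smul, mul_smul, hl, hlw, smul_inv_smul]
    rw [e] at h3
    nlinarith
  -- the neighbours of `z₁` see every far point
  set N := univ.filter fun v => Γ.Adj z₁ v with hN
  have hKN : K ≤ N.card * m := by
    refine le_trans (Finset.card_le_card (t := N.biUnion fun v => dset G z₁ v) ?_) ?_
    · intro z hz
      have hz' : B z₁ z := (mem_filter.1 hz).2
      obtain ⟨v, hv, hvd, -⟩ := hpath z₁ z (fun h => hBne z₁ (by rw [← h] at hz'; exact hz'))
      exact Finset.mem_biUnion.2 ⟨v, mem_filter.2 ⟨mem_univ _, hv⟩, hdd _ _ _ (by omega)⟩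
    · refine le_trans Finset.card_biUnion_le ?_
      refine le_trans (Finset.sum_le_card_nsmul _ _ m fun v hv => hE _ _ (mem_filter.1 hv).2) ?_
      exact le_of_eq (smul_eq_mul _ _)
  rcases Nat.lt_or_ge (Γ.dist z₁ w) 3 with hd3 | hd3
  · have h1 : (dset G z₁ w).card ≤ 2 * m := by
      obtain ⟨p, hp⟩ := (hreach z₁ w).exists_walk_length_eq_dist
      refine le_trans (card_dset_walk Γ m hE p) (Nat.mul_le_mul_right _ ?_)
      omega
    nlinarith
  · obtain ⟨p, hp⟩ := (hreach z₁ w).exists_walk_length_eq_dist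
    set u := p.getVert 3 with hu
    have hu1 : Γ.dist z₁ u ≤ 3 := le_trans (SimpleGraph.dist_le (p.take 3)) (by simp)
    have hu2 : 3 ≤ Γ.dist z₁ u := by
      have h1 : Γ.dist u w ≤ (p.drop 3).length := SimpleGraph.dist_le _
      rw [SimpleGraph.Walk.drop_length, hp] at h1
      have h3 : Γ.dist z₁ w ≤ Γ.dist z₁ u + Γ.dist u w := (hreach z₁ u).dist_triangle_left w
      omega
    obtain ⟨q, hq⟩ := (hreach z₁ u).exists_walk_length_eq_dist
    have hDu : (dset G z₁ u).card ≤ 3 * m :=
      le_trans (card_dset_walk Γ m hE q) (Nat.mul_le_mul_right _ (by omega))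
    obtain ⟨k, hk⟩ := MulAction.exists_smul_eq G z₁ u
    set M := univ.filter fun v => Γ.Adj u v with hM
    have hMN : M.card = N.card := by
      have : M = N.image (k • ·) := by
        ext v
        simp only [hM, hN, Finset.mem_image, mem_filter, mem_univ, true_and]
        constructor
        · intro h
          refine ⟨k⁻¹ • v, ?_, smul_inv_smul k v⟩
          have := hadj k⁻¹ _ _ h
          rwa [← hk, inv_smul_smul] at this
        · rintro ⟨t, ht, rfl⟩
          rw [← hk]
          exact hadj k _ _ ht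
      rw [this, Finset.card_image_of_injective _ (MulAction.injective k)]
    have hfar : ∀ v, Γ.Adj z₁ v → ¬ Γ.Adj u v := by
      intro v h1 h3
      have := h1.reachable.dist_triangle_left u (v := v)
      rw [SimpleGraph.dist_eq_one_iff_adj.2 h1, SimpleGraph.dist_eq_one_iff_adj.2 h3.symm] at this
      omega
    have hdisj : Disjoint N M := by
      rw [Finset.disjoint_left]
      intro v h1 h3
      exact hfar v (mem_filter.1 h1).2 (mem_filter.1 h3).2
    have hsub : N ∪ M ⊆ dset G z₁ u := by
      intro v hv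
      rw [mem_dset]
      intro h
      obtain ⟨l, hl, hlz⟩ := mem_sorb.1 h
      rcases Finset.mem_union.1 hv with h1 | h1
      · have hv1 := (mem_filter.1 h1).2
        have h3 := hadj l _ _ hv1
        rw [hlz, hl] at h3
        exact hfar v hv1 h3
      · have hv1 := (mem_filter.1 h1).2
        have h3 := hadj l⁻¹ _ _ hv1
        rw [inv_smul_eq_iff.2 hlz.symm, inv_smul_eq_iff.2 hl.symm] at h3
        exact hfar v h3 hv1
    have h9 := (Finset.card_le_card hsub).trans hDu
    rw [Finset.card_union_of_disjoint hdisj, hMN] at h9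
    nlinarith

end Babai


/-- A classification-free minimal-degree bound. Let G be a finite group acting faithfully and primitively on a finite set Ω with n elements, and suppose that the image of G in the symmetric group on Ω does not contain the alternating group on Ω. Then every non-identity element of G moves at least (√n − 1)/2 points of Ω, that is, it fixes at most n − (√n − 1)/2 points. -/
theorem result {G Ω : Type*} [Group G] [Finite G] [MulAction G Ω] [FaithfulSMul G Ω] [Fintype Ω] [DecidableEq Ω]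
    (hprim : MulAction.IsPreprimitive G Ω)
    (hA : ¬ alternatingGroup Ω ≤ (MulAction.toPermHom G Ω).range)
    (g : G) (hg : g ≠ 1) :
    (Real.sqrt (Fintype.card Ω) - 1) / 2 ≤ (Fintype.card Ω : ℝ) - Nat.card (MulAction.fixedBy Ω g) := by
  classical
  haveI := Fintype.ofFinite G
  set S := Finset.univ.filter fun z : Ω => g • z ≠ z with hS
  have hSne : S.Nonempty := by
    by_contra hc
    refine hg (eq_of_smul_eq_smul (α := Ω) fun z => ?_)
    by_contra hz
    exact hc ⟨z, Finset.mem_filter.2 ⟨Finset.mem_univ _, by rwa [one_smul] at hz⟩⟩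
  have hbound : Fintype.card Ω ≤ (2 * S.card + 1) ^ 2 := by
    by_cases h2 : ∀ z x y : Ω, x ≠ z → y ≠ z → y ∈ sorb G z x
    · exact two_trans_case hprim hA g hSne h2
    · obtain ⟨x, hx⟩ := hSne
      have hx' : g • x ≠ x := (Finset.mem_filter.1 hx).2
      refine le_trans (uniprimitive_case hprim x (g • x) hx'.symm h2) ?_
      refine Nat.pow_le_pow_left (Nat.add_le_add_right (Nat.mul_le_mul_left _ (Finset.card_le_card ?_)) _) _
      intro z hz
      refine Finset.mem_filter.2 ⟨Finset.mem_univ _, fun hgz => mem_dset.1 hz ?_⟩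
      exact mem_sorb.2 ⟨g, hgz, rfl⟩
  have hfix : Nat.card (MulAction.fixedBy Ω g) + S.card = Fintype.card Ω := by
    rw [Nat.card_eq_fintype_card, Fintype.card_of_subtype (Finset.univ.filter fun z : Ω => g • z = z)
      (by simp [MulAction.mem_fixedBy]), hS]
    exact Finset.card_filter_add_card_filter_not _
  have hfix' : (Nat.card (MulAction.fixedBy Ω g) : ℝ) + (S.card : ℝ) = (Fintype.card Ω : ℝ) := by
    exact_mod_cast hfix
  have hb : Real.sqrt (Fintype.card Ω) ≤ 2 * (S.card : ℝ) + 1 := by
    rw [Real.sqrt_le_iff]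
    exact ⟨by positivity, by exact_mod_cast hbound⟩
  linarith

end Cfsg.Agent.S5713
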