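import Cfsg.Statements.S5722
import Cfsg.Agent.Lib.MaxSub.CompLen

set_option autoImplicit false
open Cfsg

namespace Cfsg.Agent.S5722

open Cfsg.Agent.Lib.MaxSub.CompLen MulAction
open scoped Pointwise

universe u v

section tools

variable {G : Type u} [Group G] {Ω : Type v} [MulAction G Ω]

/-- The number of orbits. -/
noncomputable def orbs (G : Type u) [Group G] (Ω : Type v) [MulAction G Ω] : ℕ :=
  Nat.card (Quotient (MulAction.orbitRel G Ω))

/-- The bound on lengths, for all permutation groups on a finite type. -/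
def Hyp (Ω : Type v) : Prop :=
  ∀ P : Subgroup (Equiv.Perm Ω), LenLE P (4 * (Nat.card Ω - orbs P Ω) / 3)

theorem one_le_orbs [Finite Ω] [Nonempty Ω] : 1 ≤ orbs G Ω := by
  haveI : Nonempty (Quotient (MulAction.orbitRel G Ω)) := ‹Nonempty Ω›.map (Quotient.mk _)
  exact Nat.card_pos

theorem orbs_range : orbs (MulAction.toPermHom G Ω).range Ω = orbs G Ω := by
  refine Nat.card_congr (Quotient.congr (Equiv.refl Ω) fun x y => ?_)
  rw [orbitRel_apply, orbitRel_apply]
  constructor
  · rintro ⟨⟨_, g, rfl⟩, hg⟩; exact ⟨g, hg⟩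
  · rintro ⟨g, hg⟩; exact ⟨⟨_, g, rfl⟩, hg⟩

theorem lenLE_of_hyp [FaithfulSMul G Ω] (h : Hyp Ω) : LenLE G (4 * (Nat.card Ω - orbs G Ω) / 3) := by
  have hb : Function.Injective (MulAction.toPermHom G Ω) := MulAction.toPerm_injective
  have := h (MulAction.toPermHom G Ω).range
  rw [orbs_range] at this
  exact lenLE_of_surjective (MonoidHom.ofInjective hb).symm.toMonoidHom (MonoidHom.ofInjective hb).symm.surjective this

theorem lenLE_ker_range {H : Type v} [Group H] (φ : G →* H) {a b : ℕ} (ha : LenLE φ.ker a) (hb : LenLE φ.range b) :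
    LenLE G (a + b) :=
  lenLE_add ha (lenLE_of_surjective (QuotientGroup.quotientKerEquivRange φ).symm.toMonoidHom
    (QuotientGroup.quotientKerEquivRange φ).symm.surjective hb)

/-- The case of several orbits. -/
theorem intransitive [Finite Ω] [FaithfulSMul G Ω] (ih : ∀ Ω' : Type v, Finite Ω' → Nat.card Ω' < Nat.card Ω → Hyp Ω')
    (h : 2 ≤ orbs G Ω) : LenLE G (4 * (Nat.card Ω - orbs G Ω) / 3) := by
  classical
  haveI : Nonempty Ω := by
    by_contra hc
    rw [not_nonempty_iff] at hc
    rw [orbs, Nat.card_of_isEmpty] at h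
    omega
  obtain ⟨x⟩ : Nonempty Ω := inferInstance
  let D : SubMulAction G Ω := ⟨MulAction.orbit G x, fun g y hy => MulAction.mem_orbit_of_mem_orbit g hy⟩
  let E : SubMulAction G Ω := ⟨(MulAction.orbit G x)ᶜ, fun g y hy hgy => hy (by
    have := MulAction.mem_orbit_of_mem_orbit g⁻¹ hgy
    rwa [inv_smul_smul] at this)⟩
  let φ : G →* Equiv.Perm D := MulAction.toPermHom G D
  haveI : Nonempty D := ⟨⟨x, MulAction.mem_orbit_self x⟩⟩
  obtain ⟨y, hy⟩ : ∃ y, y ∉ MulAction.orbit G x := by
    by_contra hc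
    push Not at hc
    have : Subsingleton (Quotient (MulAction.orbitRel G Ω)) := ⟨fun p q => by
      induction p using Quotient.inductionOn with
      | h p =>
        induction q using Quotient.inductionOn with
        | h q =>
          refine Quotient.sound (show p ∈ MulAction.orbit G q from ?_)
          rw [MulAction.orbit_eq_iff.mpr (hc q)]
          exact hc p⟩
    rw [orbs] at h
    have := Finite.card_le_one_iff_subsingleton.mpr this
    omega
  have hcard : Nat.card D + Nat.card E = Nat.card Ω := by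
    rw [← Nat.card_sum]
    exact Nat.card_congr (Equiv.sumCompl (fun z => z ∈ MulAction.orbit G x))
  have hE0 : 0 < Nat.card E := by
    haveI : Nonempty E := ⟨⟨y, hy⟩⟩
    exact Nat.card_pos
  have hD0 : 0 < Nat.card D := Nat.card_pos
  haveI : FaithfulSMul φ.ker E := ⟨fun {k k'} he => Subtype.ext (eq_of_smul_eq_smul (α := Ω) fun z => by
    by_cases hz : z ∈ MulAction.orbit G x
    · have h1 := congrArg (fun σ : Equiv.Perm D => (σ ⟨z, hz⟩ : Ω)) (MonoidHom.mem_ker.mp k.2)
      have h2 := congrArg (fun σ : Equiv.Perm D => (σ ⟨z, hz⟩ : Ω)) (MonoidHom.mem_ker.mp k'.2)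
      exact h1.trans h2.symm
    · exact congrArg Subtype.val (he ⟨z, hz⟩))⟩
  have h1 := lenLE_of_hyp (G := φ.ker) (ih E inferInstance (by omega))
  have h2 := ih D inferInstance (by omega) φ.range
  refine (lenLE_ker_range φ h1 h2).mono ?_
  have hr2 : 1 ≤ orbs φ.range D := one_le_orbs
  have hr1 : orbs G Ω ≤ orbs φ.ker E + 1 := by
    have hs : Function.Surjective (fun o : Option (Quotient (MulAction.orbitRel φ.ker E)) =>
        o.elim (Quotient.mk (MulAction.orbitRel G Ω) x)
          (Quotient.map (fun z : E => (z : Ω)) fun a b hab => by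
            obtain ⟨k, hk⟩ := hab
            exact ⟨k.1, congrArg Subtype.val hk⟩)) := by
      intro q
      induction q using Quotient.inductionOn with
      | h z =>
        by_cases hz : z ∈ MulAction.orbit G x
        · exact ⟨none, Quotient.sound (show x ∈ MulAction.orbit G z from MulAction.mem_orbit_symm.mp hz)⟩
        · exact ⟨some (Quotient.mk _ ⟨z, hz⟩), rfl⟩
    have := Nat.card_le_card_of_surjective _ hs
    rwa [Finite.card_option] at this
  have hrE : orbs φ.ker E ≤ Nat.card E := Nat.card_le_card_of_surjective _ Quotient.mk_surjective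
  omega

/-- The imprimitive case. -/
theorem imprimitive [Finite G] [Finite Ω] [FaithfulSMul G Ω] [IsPretransitive G Ω]
    (ih : ∀ Ω' : Type v, Finite Ω' → Nat.card Ω' < Nat.card Ω → Hyp Ω') {a : Ω} {B : Set Ω} (haB : a ∈ B)
    (hB : IsBlock G B) (hB1 : 1 < B.ncard) (hBu : B ≠ Set.univ) :
    LenLE G (4 * (Nat.card Ω - 1) / 3) := by
  classical
  have hmul := hB.ncard_block_mul_ncard_orbit_eq ⟨a, haB⟩
  let O := MulAction.orbit G B
  have hO : Nat.card O = (MulAction.orbit G B).ncard := Nat.card_coe_set_eq O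
  have hBlt : B.ncard < Nat.card Ω := by
    rw [← Set.ncard_univ]
    exact Set.ncard_lt_ncard ((Set.ssubset_univ_iff).2 hBu) (Set.toFinite _)
  have hb2 : 2 ≤ Nat.card O := by
    rw [hO]
    by_contra hlt
    have : (MulAction.orbit G B).ncard ≤ 1 := by omega
    nlinarith
  have hblt : Nat.card O < Nat.card Ω := by
    rw [hO]
    nlinarith
  let φ : G →* Equiv.Perm O := MulAction.toPermHom G O
  have hrK : Nat.card O ≤ orbs φ.ker Ω := by
    have hmem : ∀ z, ∃ C : O, z ∈ C.1 := fun z => by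
      obtain ⟨g, hg⟩ := MulAction.exists_smul_eq G a z
      exact ⟨⟨g • B, g, rfl⟩, hg ▸ Set.smul_mem_smul_set haB⟩
    choose blk hblk using hmem
    have huniq : ∀ (C C' : O) (z : Ω), z ∈ C.1 → z ∈ C'.1 → C = C' := by
      rintro ⟨_, g, rfl⟩ ⟨_, g', rfl⟩ z h1 h2
      refine Subtype.ext ?_
      by_contra hne
      exact Set.disjoint_left.mp ((MulAction.isBlock_iff_smul_eq_smul_or_disjoint.mp hB g g').resolve_left hne) h1 h2
    let f : Quotient (MulAction.orbitRel φ.ker Ω) → O := Quotient.lift blk fun z w hzw => by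
      obtain ⟨k, hk⟩ := hzw
      have h1 : (k : G) • blk w = blk w := congrArg (fun σ : Equiv.Perm O => σ (blk w)) (MonoidHom.mem_ker.mp k.2)
      refine huniq _ _ z (hblk z) ?_
      rw [← h1]
      rw [← hk]
      exact Set.smul_mem_smul_set (hblk w)
    refine Nat.card_le_card_of_surjective f fun C => ?_
    obtain ⟨z, hz⟩ : C.1.Nonempty := by
      obtain ⟨g, hg⟩ := C.2
      exact ⟨g • a, hg ▸ Set.smul_mem_smul_set haB⟩
    exact ⟨Quotient.mk _ z, huniq _ _ z (hblk z) hz⟩
  have h1 := intransitive (G := φ.ker) ih (by omega)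
  have h2 := ih O inferInstance hblt φ.range
  refine (lenLE_ker_range φ h1 h2).mono ?_
  haveI : Nonempty O := ⟨⟨B, MulAction.mem_orbit_self B⟩⟩
  have hr2 : 1 ≤ orbs φ.range O := one_le_orbs
  have hr1 : orbs φ.ker Ω ≤ Nat.card Ω := Nat.card_le_card_of_surjective _ Quotient.mk_surjective
  omega

/-- A base bounds the number of prime factors of the order. -/
theorem factors_le {H : Type u} [Group H] [Finite H] [MulAction H Ω] [Finite Ω] {M : ℕ} (l : List Ω) :
    ∀ S : Subgroup H, (∀ p ∈ l, (MulAction.orbit S p).ncard ≤ M) →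
      (∀ g ∈ S, (∀ p ∈ l, g • p = p) → g = 1) →
      (Nat.card S).primeFactorsList.length ≤ l.length * Nat.log 2 M := by
  induction l with
  | nil =>
    intro S _ hb
    have : S = ⊥ := (Subgroup.eq_bot_iff_forall S).mpr fun g hg => hb g hg (by simp)
    simp [this]
  | cons q l ih =>
    intro S horb hb
    let S' := S ⊓ MulAction.stabilizer H q
    have h1 := ih S' (fun p hp => le_trans (Set.ncard_le_ncard (by
      rintro _ ⟨⟨g, hg⟩, rfl⟩; exact ⟨⟨g, hg.1⟩, rfl⟩) (Set.toFinite _)) (horb p (List.mem_cons_of_mem _ hp)))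
      (fun g hg hl => hb g hg.1 fun p hp => by
        rcases List.mem_cons.mp hp with rfl | hp
        · exact hg.2
        · exact hl p hp)
    have h2 : Nat.card S = (MulAction.orbit S q).ncard * Nat.card S' := by
      rw [← Subgroup.card_mul_index (MulAction.stabilizer S q), MulAction.index_stabilizer, mul_comm]
      congr 1
      exact Nat.card_congr
        { toFun := fun g => ⟨g.1.1, g.1.2, g.2⟩
          invFun := fun g => ⟨⟨g.1, g.2.1⟩, g.2.2⟩
          left_inv := fun g => rfl
          right_inv := fun g => rfl }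
    set k := (MulAction.orbit S q).ncard with hk
    have hk0 : k ≠ 0 := fun h => Nat.card_pos.ne' (h2.trans (by rw [h, zero_mul]))
    have h3 : k.primeFactorsList.length ≤ Nat.log 2 M := by
      refine Nat.le_log_of_pow_le (by norm_num) (le_trans ?_ (horb q (List.mem_cons_self ..)))
      have hp : ∀ x ∈ k.primeFactorsList, 2 ≤ x := fun x hx => (Nat.prime_of_mem_primeFactorsList hx).two_le
      have := List.pow_card_le_prod k.primeFactorsList 2 hp
      rwa [Nat.prod_primeFactorsList hk0] at this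
    rw [h2, (Nat.perm_primeFactorsList_mul hk0 Nat.card_pos.ne').length_eq, List.length_append, List.length_cons,
      Nat.succ_mul]
    omega

/-- A subgroup commuting with a transitive one is semiregular. -/
theorem eq_one_of_fixes [FaithfulSMul G Ω] {N : Subgroup G} {a : Ω} (hN : ∀ y, ∃ g ∈ N, g • a = y) {c : G}
    (hc : ∀ g ∈ N, g * c = c * g) (ha : c • a = a) : c = 1 := by
  refine eq_of_smul_eq_smul (α := Ω) fun y => ?_
  obtain ⟨g, hg, rfl⟩ := hN y
  rw [one_smul, ← mul_smul, ← hc g hg, mul_smul, ha]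

theorem commute_sup {A B : Subgroup G} {c : G} (hA : ∀ g ∈ A, g * c = c * g) (hB : ∀ g ∈ B, g * c = c * g) :
    ∀ g ∈ A ⊔ B, g * c = c * g := by
  intro g hg
  have : A ⊔ B ≤ Subgroup.centralizer {c} := by
    refine sup_le (fun z hz => ?_) (fun z hz => ?_) <;>
      rw [Subgroup.mem_centralizer_singleton_iff]
    · exact hA z hz
    · exact hB z hz
  exact Subgroup.mem_centralizer_singleton_iff.mp (this hg)

theorem commute_finsetSup {ι : Type*} {s : Finset ι} {f : ι → Subgroup G} {c : G}
    (h : ∀ i ∈ s, ∀ g ∈ f i, g * c = c * g) : ∀ g ∈ s.sup f, g * c = c * g := by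
  intro g hg
  have : s.sup f ≤ Subgroup.centralizer {c} := Finset.sup_le fun i hi z hz =>
    Subgroup.mem_centralizer_singleton_iff.mpr (h i hi z hz)
  exact Subgroup.mem_centralizer_singleton_iff.mp (this hg)

theorem card_sup_of_commute [Finite G] {A B : Subgroup G} (hc : ∀ x ∈ A, ∀ y ∈ B, x * y = y * x)
    (hd : A ⊓ B = ⊥) : Nat.card (A ⊔ B : Subgroup G) = Nat.card A * Nat.card B := by
  let ψ : A × B →* G := A.subtype.noncommCoprod B.subtype (fun x y => hc x x.2 y y.2)
  have hi : Function.Injective ψ := (injective_iff_map_eq_one ψ).mpr fun p hp => by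
    have h1 : (p.1 : G) * (p.2 : G) = 1 := hp
    have h2 : (p.1 : G) ∈ A ⊓ B := ⟨p.1.2, by rw [eq_inv_of_mul_eq_one_left h1]; exact B.inv_mem p.2.2⟩
    rw [hd, Subgroup.mem_bot] at h2
    rw [h2, one_mul] at h1
    exact Prod.ext (Subtype.ext h2) (Subtype.ext h1)
  have hr : ψ.range = A ⊔ B := by
    exact (MonoidHom.noncommCoprod_range A.subtype B.subtype _).trans (congrArg₂ _ A.range_subtype B.range_subtype)
  rw [← hr, ← Nat.card_congr (MonoidHom.ofInjective hi).toEquiv, Nat.card_prod]

theorem arith {q p m n : ℕ} (hm : 4 ≤ m ∨ p = 0) (hq : 1 ≤ q) (h1 : m * 3 ^ (q - 1) ≤ n) (h2 : m ^ p ≤ n)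
    (hs : ¬ (p = 1 ∧ q = 1)) : (p + q) * m ≤ n := by
  have hq3 : ∀ j, 2 * j + 1 ≤ 3 ^ j := by
    intro j
    induction j with
    | zero => simp
    | succ j ih => rw [pow_succ]; omega
  obtain ⟨j, rfl⟩ : ∃ j, q = j + 1 := ⟨q - 1, by omega⟩
  rw [Nat.add_sub_cancel] at h1
  have h3 := hq3 j
  by_cases hp : p ≤ j
  · refine le_trans ?_ h1
    rw [mul_comm]
    exact Nat.mul_le_mul le_rfl (by omega)
  rcases Nat.lt_or_ge p 2 with hp1 | hp2
  · omega
  · obtain ⟨i, rfl⟩ : ∃ i, p = i + 2 := ⟨p - 2, by omega⟩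
    refine le_trans ?_ h2
    rw [pow_succ, mul_comm]
    refine le_trans (Nat.mul_le_mul le_rfl (show i + 2 + (j + 1) ≤ m ^ (i + 1) from ?_)) (le_of_eq (mul_comm _ _))
    rcases hm with hm | hm
    · have h4 : 4 ^ (i + 1) ≤ m ^ (i + 1) := Nat.pow_le_pow_left hm _
      have h5 : 2 * i + 4 ≤ 4 ^ (i + 1) := by
        clear hp h2 hs h4
        induction i with
        | zero => simp
        | succ i ih => rw [pow_succ]; omega
      omega
    · omega

theorem arith_abelian {p d : ℕ} (hp : p.Prime) (hd : 1 ≤ d) :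
    3 * (d * (Nat.log 2 (p ^ d - 1)) + d) ≤ 4 * (p ^ d - 1) := by
  set e := Nat.log 2 (p ^ d - 1) with he
  have hn : 2 ≤ p ^ d := le_trans hp.two_le (Nat.le_self_pow (by omega) p)
  have hlo : 2 ^ e ≤ p ^ d - 1 := Nat.pow_log_le_self 2 (by omega)
  have hhi : p ^ d - 1 < 2 ^ (e + 1) := Nat.lt_pow_succ_log_self (by norm_num) _
  have hpd : 2 ^ d ≤ p ^ d := Nat.pow_le_pow_left hp.two_le d
  clear_value e
  clear he
  have hde : d ≤ e + 1 := (Nat.pow_le_pow_iff_right (by norm_num : 1 < 2)).mp (by omega)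
  have hsq : ∀ j, 4 ≤ j → j * j ≤ 2 ^ j := by
    intro j hj
    induction j, hj using Nat.le_induction with
    | base => norm_num
    | succ j hj ih => rw [pow_succ]; nlinarith
  rcases Nat.lt_or_ge p 3 with hp2 | hp3
  · have hp2' : p = 2 := by have := hp.two_le; omega
    subst hp2'
    have hed : e + 1 ≤ d := by
      by_contra hlt
      have : 2 ^ d ≤ 2 ^ e := Nat.pow_le_pow_right (by norm_num) (by omega)
      omega
    obtain rfl : d = e + 1 := by omega
    rcases Nat.lt_or_ge (e + 1) 4 with h4 | h4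
    · have : e ≤ 2 := by omega
      interval_cases e <;> norm_num
    · have := hsq _ h4
      have : 2 ≤ 2 ^ (e + 1) := Nat.le_self_pow (by omega) 2
      nlinarith [Nat.sub_add_cancel (show 1 ≤ 2 ^ (e + 1) by omega)]
  · have h3d : 3 ^ d ≤ p ^ d := Nat.pow_le_pow_left hp3 d
    have h8 : 2 ^ (3 * d) ≤ 2 ^ (2 * (e + 1)) := by
      calc 2 ^ (3 * d) = 8 ^ d := by rw [pow_mul]; norm_num
        _ ≤ 9 ^ d := Nat.pow_le_pow_left (by norm_num) d
        _ = (3 ^ d) ^ 2 := by rw [← pow_mul, mul_comm d 2, pow_mul]; norm_num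
        _ ≤ (2 ^ (e + 1)) ^ 2 := Nat.pow_le_pow_left (by omega) 2
        _ = 2 ^ (2 * (e + 1)) := by rw [← pow_mul, mul_comm]
    have h3e : 3 * d ≤ 2 * (e + 1) := (Nat.pow_le_pow_iff_right (by norm_num : 1 < 2)).mp h8
    rcases Nat.lt_or_ge (e + 1) 4 with h4 | h4
    · have hd2 : d ≤ 2 := by omega
      interval_cases d
      · simp only [pow_one] at *
        have : e ≤ 2 := by omega
        interval_cases e <;> omega
      · have : 9 ≤ p ^ 2 := h3d
        have : (2 : ℕ) ^ (e + 1) ≤ 2 ^ 3 := Nat.pow_le_pow_right (by norm_num) (by omega)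
        omega
    · have := hsq _ h4
      rw [pow_succ] at this
      nlinarith

end tools

section primitive

variable {G : Type u} [Group G] [Finite G] {Ω : Type v} [Finite Ω] [MulAction G Ω] [FaithfulSMul G Ω]

/-- Minimal subgroups normalised by a transitive normal subgroup `N`, closed under conjugation. -/
structure Fam (N : Subgroup G) (𝒯 : Finset (Subgroup G)) : Prop where
  le : ∀ T ∈ 𝒯, T ≤ N
  norm : ∀ T ∈ 𝒯, ∀ g ∈ N, ∀ t ∈ T, g * t * g⁻¹ ∈ T
  ne : ∀ T ∈ 𝒯, T ≠ ⊥
  min : ∀ T ∈ 𝒯, ∀ M : Subgroup G, M ≤ T → (∀ g ∈ N, ∀ m ∈ M, g * m * g⁻¹ ∈ M) → M = ⊥ ∨ M = T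
  conj : ∀ T ∈ 𝒯, ∀ g : G, T.map (MulAut.conj g).toMonoidHom ∈ 𝒯
  trans : ∀ T ∈ 𝒯, ∀ T' ∈ 𝒯, ∃ g : G, T.map (MulAut.conj g).toMonoidHom = T'
  sup_eq : 𝒯.sup id = N

variable {N : Subgroup G} {𝒯 : Finset (Subgroup G)}

theorem Fam.commute (hF : Fam N 𝒯) {T T' : Subgroup G} (hT : T ∈ 𝒯) (hT' : T' ∈ 𝒯) (hne : T ≠ T') :
    ∀ x ∈ T, ∀ y ∈ T', x * y = y * x := by
  have hbot : T ⊓ T' = ⊥ := by
    have hn : ∀ g ∈ N, ∀ m ∈ T ⊓ T', g * m * g⁻¹ ∈ T ⊓ T' := fun g hg m hm =>
      ⟨hF.norm T hT g hg m hm.1, hF.norm T' hT' g hg m hm.2⟩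
    refine (hF.min T hT _ inf_le_left hn).resolve_right fun h1 => ?_
    rcases hF.min T' hT' _ inf_le_right hn with h2 | h2
    · exact hF.ne T hT (h1.symm.trans h2)
    · exact hne (h1.symm.trans h2)
  intro x hx y hy
  have h1 : x * y * x⁻¹ * y⁻¹ ∈ T ⊓ T' := by
    refine ⟨?_, T'.mul_mem (hF.norm T' hT' x (hF.le T hT hx) y hy) (T'.inv_mem hy)⟩
    rw [show x * y * x⁻¹ * y⁻¹ = x * (y * x⁻¹ * y⁻¹) by group]
    exact T.mul_mem hx (hF.norm T hT y (hF.le T' hT' hy) _ (T.inv_mem hx))
  rw [hbot, Subgroup.mem_bot] at h1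
  calc x * y = (x * y * x⁻¹ * y⁻¹) * (y * x) := by group
    _ = y * x := by rw [h1, one_mul]

theorem Fam.simple (hF : Fam N 𝒯) {T : Subgroup G} (hT : T ∈ 𝒯) :
    ∀ K : Subgroup T, K.Normal → K = ⊥ ∨ K = ⊤ := by
  intro K hK
  have hnorm : ∀ g ∈ N, g ∈ Subgroup.normalizer ((K.map T.subtype : Subgroup G) : Set G) := by
    intro g hg
    rw [← hF.sup_eq] at hg
    have hle : 𝒯.sup id ≤ Subgroup.normalizer ((K.map T.subtype : Subgroup G) : Set G) := by
      refine Finset.sup_le fun T' hT' s hs => ?_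
      by_cases hTT : T' = T
      · subst hTT
        rw [Subgroup.mem_normalizer_iff]
        intro m
        constructor
        · rintro ⟨k, hk, rfl⟩
          exact ⟨⟨s, hs⟩ * k * ⟨s, hs⟩⁻¹, hK.conj_mem k hk _, rfl⟩
        · rintro ⟨k, hk, he⟩
          refine ⟨⟨s, hs⟩⁻¹ * k * ⟨s, hs⟩, ?_, ?_⟩
          · simpa using hK.conj_mem k hk ⟨s, hs⟩⁻¹
          · have : (k : G) = s * m * s⁻¹ := he
            simp [this, mul_assoc]
      · rw [Subgroup.mem_normalizer_iff]
        intro m
        have hc : ∀ k : T, s * (k : G) * s⁻¹ = k := fun k => by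
          rw [hF.commute hT' hT hTT s hs k k.2, mul_inv_cancel_right]
        constructor
        · rintro ⟨k, hk, rfl⟩
          exact ⟨k, hk, (hc k).symm⟩
        · rintro ⟨k, hk, he⟩
          refine ⟨k, hk, ?_⟩
          have h1 : (k : G) = s * m * s⁻¹ := he
          have h2 : s⁻¹ * (k : G) * s = k := by
            have := hF.commute hT' hT hTT s hs k k.2
            rw [mul_assoc, ← this, ← mul_assoc, inv_mul_cancel, one_mul]
          show (k : G) = m
          rw [← h2, h1]
          group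
    exact hle hg
  rcases hF.min T hT (K.map T.subtype) (Subgroup.map_subtype_le K) (fun g hg m hm =>
    (Subgroup.mem_normalizer_iff.mp (hnorm g hg) m).mp hm) with h | h
  · exact Or.inl ((Subgroup.map_eq_bot_iff_of_injective K T.subtype_injective).mp h)
  · exact Or.inr (Subgroup.map_injective T.subtype_injective (by
      rw [h, ← MonoidHom.range_eq_map, Subgroup.range_subtype]))

theorem Fam.sup_le' (hF : Fam N 𝒯) {s : Finset (Subgroup G)} (hs : s ⊆ 𝒯) : s.sup id ≤ N :=
  Finset.sup_le fun T hT => hF.le T (hs hT)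

theorem Fam.lenLE (hF : Fam N 𝒯) {s : Finset (Subgroup G)} (hs : s ⊆ 𝒯) (hsup : s.sup id = N) :
    LenLE N s.card := by
  have h := lenLE_iSup_normal (G := N) (s.toList.map fun T => T.subgroupOf N) ?_ ?_ ?_
  · rwa [List.length_map, Finset.length_toList] at h
  · intro S hS
    obtain ⟨T, hT, rfl⟩ := List.mem_map.mp hS
    refine ⟨fun m hm g => ?_⟩
    rw [Subgroup.mem_subgroupOf] at hm ⊢
    exact hF.norm T (hs (Finset.mem_toList.mp hT)) g g.2 m hm
  · intro S hS K hK
    obtain ⟨T, hT, rfl⟩ := List.mem_map.mp hS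
    have hT' := hs (Finset.mem_toList.mp hT)
    let e : T →* T.subgroupOf N := (Subgroup.subgroupOfEquivOfLe (hF.le T hT')).symm.toMonoidHom
    have he : Function.Surjective e := (Subgroup.subgroupOfEquivOfLe (hF.le T hT')).symm.surjective
    refine (hF.simple hT' (K.comap e) (hK.comap e)).imp (fun h => ?_) (fun h => ?_)
    · rw [← Subgroup.map_comap_eq_self_of_surjective he K, h, Subgroup.map_bot]
    · rw [← Subgroup.map_comap_eq_self_of_surjective he K, h, Subgroup.map_top_of_surjective _ he]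
  · have hkey : ∀ u : List (Subgroup G), (∀ T ∈ u, T ≤ N) →
        ((u.map fun T : Subgroup G => T.subgroupOf N).foldr (· ⊔ ·) ⊥).map N.subtype = u.foldr (· ⊔ ·) ⊥ := by
      intro u hu
      induction u with
      | nil => simp
      | cons T u ih =>
        rw [List.map_cons, List.foldr_cons, List.foldr_cons, Subgroup.map_sup,
          ih fun S hS => hu S (List.mem_cons_of_mem _ hS), Subgroup.subgroupOf_map_subtype,
          inf_eq_left.mpr (hu T (List.mem_cons_self ..))]
    have hfs : ∀ u : List (Subgroup G), u.foldr (· ⊔ ·) ⊥ = ⨆ T ∈ u, T := by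
      intro u
      induction u with
      | nil => simp
      | cons T u ih => simp [List.foldr_cons, ih, iSup_or, iSup_sup_eq]
    refine Subgroup.map_injective N.subtype_injective ?_
    rw [hkey _ fun T hT => hF.le T (hs (Finset.mem_toList.mp hT)), ← MonoidHom.range_eq_map,
      Subgroup.range_subtype, hfs, ← hsup, Finset.sup_eq_iSup]
    simp

theorem Fam.exists_base (hF : Fam N 𝒯) {m : ℕ} (hm : ∀ T ∈ 𝒯, Nat.card T = m)
    (hab : ∀ x ∈ N, ∀ y ∈ N, x * y = y * x) : ∀ s : Finset (Subgroup G), s ⊆ 𝒯 →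
      ∃ S : Finset (Subgroup G), S ⊆ s ∧ S.sup id = s.sup id ∧
        Nat.card (S.sup id : Subgroup G) = m ^ S.card := by
  classical
  intro s
  induction s using Finset.induction with
  | empty => exact fun _ => ⟨∅, by simp, rfl, by simp⟩
  | @insert T s hTs ih =>
    intro hs
    rw [Finset.insert_subset_iff] at hs
    obtain ⟨S, hS, hSe, hSc⟩ := ih hs.2
    by_cases hTle : T ≤ S.sup id
    · refine ⟨S, hS.trans (Finset.subset_insert _ _), ?_, hSc⟩
      rw [Finset.sup_insert, ← hSe]
      exact (sup_eq_right.mpr hTle).symm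
    · refine ⟨insert T S, Finset.insert_subset_insert _ hS, by rw [Finset.sup_insert, Finset.sup_insert, hSe], ?_⟩
      have hB : S.sup id ≤ N := hF.sup_le' (hS.trans hs.2)
      have hd : T ⊓ S.sup id = ⊥ := (hF.min T hs.1 _ inf_le_left fun g hg x hx => by
        rw [hab g hg x (hF.le T hs.1 hx.1), mul_inv_cancel_right]; exact hx).resolve_right
          fun h => hTle (h ▸ inf_le_right)
      rw [Finset.sup_insert, id_eq, Finset.card_insert_of_notMem fun h => hTs (hS h),
        card_sup_of_commute (fun x hx y hy => hab x (hF.le T hs.1 hx) y (hB hy)) hd, hSc, hm T hs.1, pow_succ']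

theorem Fam.card_sup (hF : Fam N 𝒯) {m : ℕ} (hm : ∀ T ∈ 𝒯, Nat.card T = m)
    (hnab : ∀ T ∈ 𝒯, ∃ x ∈ T, ∃ y ∈ T, x * y ≠ y * x) : ∀ s : Finset (Subgroup G), s ⊆ 𝒯 →
      Nat.card (s.sup id : Subgroup G) = m ^ s.card := by
  classical
  intro s
  induction s using Finset.induction with
  | empty => intro _; simp
  | @insert T s hTs ih =>
    intro hs
    rw [Finset.insert_subset_iff] at hs
    have hcomm : ∀ x ∈ T, ∀ y ∈ s.sup id, x * y = y * x := fun x hx y hy =>
      (commute_finsetSup (c := x) (fun T' hT' g hg =>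
        hF.commute (hs.2 hT') hs.1 (fun h => hTs (h ▸ hT')) g hg x hx) y hy).symm
    have hd : T ⊓ s.sup id = ⊥ := by
      obtain ⟨x, hx, y, hy, hxy⟩ := hnab T hs.1
      refine (hF.min T hs.1 _ inf_le_left fun g hg z hz => ?_).resolve_right fun h => hxy ?_
      · refine ⟨hF.norm T hs.1 g hg z hz.1, ?_⟩
        have hn : ∀ T' ∈ s, ∀ z ∈ T', g * z * g⁻¹ ∈ s.sup id := fun T' hT' z hz =>
          Finset.le_sup (f := id) hT' (hF.norm T' (hs.2 hT') g hg z hz)
        have : s.sup id ≤ (s.sup id).comap (MulAut.conj g).toMonoidHom :=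
          Finset.sup_le fun T' hT' z hz => hn T' hT' z hz
        exact this hz.2
      · exact hcomm x hx y ((h.ge.trans inf_le_right) hy)
    rw [Finset.sup_insert, id_eq, Finset.card_insert_of_notMem hTs, card_sup_of_commute hcomm hd, ih hs.2,
      hm T hs.1, pow_succ']

theorem Fam.exists_jumps (hF : Fam N 𝒯) (a : Ω) {m : ℕ} (horb : ∀ T ∈ 𝒯, (MulAction.orbit T a).ncard = m)
    (hm4 : ∀ T ∈ 𝒯, 4 ≤ Nat.card T) : ∀ s : Finset (Subgroup G), s ⊆ 𝒯 →
      ∃ Q : Finset (Subgroup G), Q ⊆ s ∧
        (∀ g ∈ s.sup id, ∃ h ∈ Q.sup id, h • a = g • a) ∧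
        (Q.Nonempty → m * 3 ^ (Q.card - 1) ≤ (MulAction.orbit (Q.sup id : Subgroup G) a).ncard) := by
  classical
  intro s
  induction s using Finset.induction with
  | empty => exact fun _ => ⟨∅, by simp, fun g hg => ⟨g, hg, rfl⟩, by simp⟩
  | @insert T s hTs ih =>
    intro hs
    rw [Finset.insert_subset_iff] at hs
    obtain ⟨Q, hQ, hQo, hQc⟩ := ih hs.2
    set B := Q.sup id with hBdef
    have hTQ : ∀ g ∈ B, ∀ t ∈ T, t * g = g * t := fun g hg t ht =>
      (commute_finsetSup (c := t) (fun T' hT' z hz =>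
        hF.commute (hs.2 (hQ hT')) hs.1 (fun h => hTs (h ▸ hQ hT')) z hz t ht) g hg).symm
    have hTs' : ∀ g ∈ s.sup id, ∀ t ∈ T, g * t = t * g := fun g hg t ht =>
      commute_finsetSup (c := t) (fun T' hT' z hz => hF.commute (hs.2 hT') hs.1 (fun h => hTs (h ▸ hT')) z hz t ht) g hg
    -- every element of the larger product is `t * g`
    have hdec : ∀ z ∈ (insert T s).sup id, ∃ t ∈ T, ∃ g ∈ s.sup id, t * g = z := by
      intro z hz
      rw [Finset.sup_insert] at hz
      have hcm : ∀ (x : T) (y : (s.sup id : Subgroup G)), Commute (T.subtype x) ((s.sup id).subtype y) :=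
        fun x y => (hTs' y y.2 x x.2).symm
      have hrange : (T.subtype.noncommCoprod (s.sup id).subtype hcm).range = T ⊔ s.sup id :=
        (MonoidHom.noncommCoprod_range T.subtype (s.sup id).subtype hcm).trans
          (congrArg₂ _ T.range_subtype (s.sup id).range_subtype)
      rw [id_eq, ← hrange] at hz
      obtain ⟨⟨t, g⟩, rfl⟩ := hz
      exact ⟨t, t.2, g, g.2, rfl⟩
    by_cases hin : ∀ t ∈ T, ∃ h ∈ B, h • a = t • a
    · refine ⟨Q, hQ.trans (Finset.subset_insert _ _), fun z hz => ?_, hQc⟩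
      obtain ⟨t, ht, g, hg, rfl⟩ := hdec z hz
      obtain ⟨h, hh, hha⟩ := hQo g hg
      obtain ⟨h', hh', hha'⟩ := hin t ht
      exact ⟨h * h', B.mul_mem hh hh', by rw [mul_smul, hha', ← mul_smul, ← hTQ h hh t ht, mul_smul, hha, mul_smul]⟩
    · push Not at hin
      obtain ⟨t₀, ht₀, ht₀'⟩ := hin
      refine ⟨insert T Q, Finset.insert_subset_insert _ hQ, fun z hz => ?_, fun _ => ?_⟩
      · obtain ⟨t, ht, g, hg, rfl⟩ := hdec z hz
        obtain ⟨h, hh, hha⟩ := hQo g hg
        refine ⟨t * h, ?_, by rw [mul_smul, hha, mul_smul]⟩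
        rw [Finset.sup_insert]
        exact Subgroup.mul_mem_sup ht hh
      have hBle : B ≤ (insert T Q).sup id := by rw [Finset.sup_insert]; exact le_sup_right
      have hTle : T ≤ (insert T Q).sup id := by rw [Finset.sup_insert]; exact le_sup_left
      rcases Q.eq_empty_or_nonempty with hQe | hQne
      · rw [hQe]
        have he : (insert T (∅ : Finset (Subgroup G))).sup id = T := by simp
        rw [he, horb T hs.1, Finset.card_insert_of_notMem (Finset.notMem_empty T), Finset.card_empty, zero_add,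
          tsub_self, pow_zero, mul_one]
      · set O := MulAction.orbit B a with hO
        have htO : ∀ t ∈ T, ∀ y, y ∈ t • O ↔ ∃ g ∈ B, g • (t • a) = y := by
          intro t ht y
          constructor
          · rintro ⟨_, ⟨⟨g, hg⟩, rfl⟩, rfl⟩
            refine ⟨g, hg, ?_⟩
            show g • t • a = t • g • a
            rw [← mul_smul, ← hTQ g hg t ht, mul_smul]
          · rintro ⟨g, hg, rfl⟩
            refine ⟨g • a, ⟨⟨g, hg⟩, rfl⟩, ?_⟩
            show t • g • a = g • t • a
            rw [← mul_smul, hTQ g hg t ht, mul_smul]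
        have hdisj : ∀ t ∈ T, ∀ t' ∈ T, ∀ y, y ∈ t • O → y ∈ t' • O → t • O = t' • O := by
          intro t ht t' ht' y h1 h2
          obtain ⟨g, hg, hgy⟩ := (htO t ht y).mp h1
          obtain ⟨g', hg', hgy'⟩ := (htO t' ht' y).mp h2
          have e : t • a = (g⁻¹ * g') • (t' • a) := by rw [mul_smul, hgy', ← hgy, inv_smul_smul]
          ext z
          rw [htO t ht, htO t' ht']
          constructor
          · rintro ⟨k, hk, rfl⟩
            exact ⟨k * (g⁻¹ * g'), B.mul_mem hk (B.mul_mem (B.inv_mem hg) hg'), by rw [mul_smul, ← e]⟩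
          · rintro ⟨k, hk, rfl⟩
            refine ⟨k * (g⁻¹ * g')⁻¹, B.mul_mem hk (B.inv_mem (B.mul_mem (B.inv_mem hg) hg')), ?_⟩
            rw [e, ← mul_smul, inv_mul_cancel_right]
        let Os : Set (Set Ω) := MulAction.orbit T O
        have h3 : 3 ≤ Os.ncard := by
          by_contra hlt
          have hidx : (MulAction.stabilizer T O).index = Os.ncard := MulAction.index_stabilizer T O
          have hne2 : (MulAction.stabilizer T O).index = 1 ∨ (MulAction.stabilizer T O).index = 2 := by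
            have := Subgroup.index_ne_zero_of_finite (H := MulAction.stabilizer T O)
            omega
          rcases hne2 with h1 | h1
          · rw [Subgroup.index_eq_one] at h1
            have : (⟨t₀, ht₀⟩ : T) ∈ MulAction.stabilizer T O := by rw [h1]; trivial
            have h2 : t₀ • a ∈ O := by
              have h4 : t₀ • O = O := this
              rw [← h4]
              exact Set.smul_mem_smul_set (MulAction.mem_orbit_self a)
            obtain ⟨⟨g, hg⟩, hga⟩ := h2
            exact ht₀' g hg hga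
          · rcases hF.simple hs.1 _ (Subgroup.normal_of_index_eq_two h1) with h2 | h2
            · rw [h2, Subgroup.index_bot] at h1
              have := hm4 T hs.1
              omega
            · rw [h2, Subgroup.index_top] at h1
              omega
        have hbig : Os.ncard * O.ncard ≤ (MulAction.orbit ((insert T Q).sup id : Subgroup G) a).ncard := by
          choose rep hrep using fun C : Os => C.2
          rw [← Nat.card_coe_set_eq, ← Nat.card_coe_set_eq, ← Nat.card_prod, ← Nat.card_coe_set_eq]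
          refine Nat.card_le_card_of_injective (fun p => ⟨(rep p.1 : G) • (p.2 : Ω), ?_⟩) ?_
          · obtain ⟨⟨g, hg⟩, hga⟩ := p.2.2
            refine ⟨⟨(rep p.1 : G) * g, Subgroup.mul_mem _ (hTle (rep p.1).2) (hBle hg)⟩, ?_⟩
            show ((rep p.1 : G) * g) • a = _
            rw [mul_smul]
            exact congrArg _ hga
          · intro p p' hpp
            have hy : (rep p.1 : G) • (p.2 : Ω) = (rep p'.1 : G) • (p'.2 : Ω) := congrArg Subtype.val hpp
            have h5 : (rep p.1 : G) • O = (rep p'.1 : G) • O := by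
              refine hdisj _ (rep p.1).2 _ (rep p'.1).2 _ (Set.smul_mem_smul_set p.2.2) ?_
              rw [hy]
              exact Set.smul_mem_smul_set p'.2.2
            have h6 : p.1 = p'.1 := Subtype.ext (by rw [← hrep p.1, ← hrep p'.1]; exact h5)
            rw [h6] at hy
            exact Prod.ext h6 (Subtype.ext (MulAction.injective _ hy))
        rw [Finset.card_insert_of_notMem fun h => hTs (hQ h)]
        have h7 := hQc hQne
        obtain ⟨j, hj⟩ : ∃ j, Q.card = j + 1 := ⟨Q.card - 1, by have := hQne.card_pos; omega⟩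
        rw [hj, Nat.add_sub_cancel] at h7 ⊢
        rw [pow_succ, ← mul_assoc, mul_comm _ 3]
        exact le_trans (Nat.mul_le_mul h3 h7) hbig

/-- The primitive case. -/
theorem primitive [IsPreprimitive G Ω] (ih : ∀ Ω' : Type v, Finite Ω' → Nat.card Ω' < Nat.card Ω → Hyp Ω')
    (hn : 2 ≤ Nat.card Ω) : LenLE G (4 * (Nat.card Ω - 1) / 3) := by
  classical
  haveI : Fintype (Subgroup G) := Fintype.ofFinite _
  haveI : Nonempty Ω := (Nat.card_pos_iff.mp (show 0 < Nat.card Ω by omega)).1
  haveI : Nontrivial G := by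
    by_contra hc
    rw [not_nontrivial_iff_subsingleton] at hc
    obtain ⟨a, b, hab⟩ := Finite.one_lt_card_iff_nontrivial.mp hn
    obtain ⟨g, hg⟩ := MulAction.exists_smul_eq G a b
    rw [Subsingleton.elim g 1, one_smul] at hg
    exact hab hg
  obtain ⟨N, hN, hNmin⟩ := Finset.exists_min_image
    (Finset.univ.filter fun M : Subgroup G => M.Normal ∧ M ≠ ⊥) (fun M => Nat.card M)
    ⟨⊤, Finset.mem_filter.mpr ⟨Finset.mem_univ _, inferInstance, top_ne_bot⟩⟩
  simp only [Finset.mem_filter, Finset.mem_univ, true_and] at hN hNmin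
  obtain ⟨hNn, hN0⟩ := hN
  haveI := hNn
  have hNt : IsPretransitive N Ω := IsQuasiPreprimitive.isPretransitive_of_normal (G := G) fun h => hN0 <|
    (Subgroup.eq_bot_iff_forall N).mpr fun g hg => eq_of_smul_eq_smul (α := Ω) fun y => by
      have hy : y ∈ fixedPoints N Ω := by rw [h]; trivial
      rw [one_smul]; exact hy ⟨g, hg⟩
  obtain ⟨a⟩ : Nonempty Ω := inferInstance
  have hNa : ∀ y, ∃ g ∈ N, g • a = y := fun y => by
    obtain ⟨g, hg⟩ := MulAction.exists_smul_eq N a y
    exact ⟨g.1, g.2, hg⟩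
  obtain ⟨T₀, hT₀, hT₀min⟩ := Finset.exists_min_image
    (Finset.univ.filter fun M : Subgroup G => M ≤ N ∧ M ≠ ⊥ ∧ ∀ g ∈ N, ∀ m ∈ M, g * m * g⁻¹ ∈ M) (fun M => Nat.card M)
    ⟨N, Finset.mem_filter.mpr ⟨Finset.mem_univ _, le_rfl, hN0, fun g _ m hm => hNn.conj_mem m hm g⟩⟩
  simp only [Finset.mem_filter, Finset.mem_univ, true_and] at hT₀ hT₀min
  obtain ⟨hT₀le, hT₀0, hT₀n⟩ := hT₀
  let c : G → Subgroup G →o Subgroup G := fun g =>
    ⟨fun M => M.map (MulAut.conj g).toMonoidHom, fun _ _ h => Subgroup.map_mono h⟩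
  let 𝒯 : Finset (Subgroup G) := Finset.univ.filter fun T => ∃ g : G, T₀.map (MulAut.conj g).toMonoidHom = T
  have hmem : ∀ T, T ∈ 𝒯 ↔ ∃ g : G, T₀.map (MulAut.conj g).toMonoidHom = T := fun T =>
    Finset.mem_filter.trans (and_iff_right (Finset.mem_univ _))
  have hcc : ∀ (g h : G) (M : Subgroup G), (M.map (MulAut.conj g).toMonoidHom).map (MulAut.conj h).toMonoidHom =
      M.map (MulAut.conj (h * g)).toMonoidHom := fun g h M => by
    rw [Subgroup.map_map]
    congr 1
    exact MonoidHom.ext fun x => by simp [mul_assoc]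
  have hcard : ∀ T ∈ 𝒯, Nat.card T = Nat.card T₀ := fun T hT => by
    obtain ⟨g, rfl⟩ := (hmem T).mp hT
    exact (Nat.card_congr (T₀.equivMapOfInjective _ (MulAut.conj g).injective).toEquiv).symm
  have hF : Fam N 𝒯 := by
    have hle : ∀ T ∈ 𝒯, T ≤ N := fun T hT => by
      obtain ⟨g, rfl⟩ := (hmem T).mp hT
      rintro _ ⟨x, hx, rfl⟩
      exact hNn.conj_mem x (hT₀le hx) g
    have hne : ∀ T ∈ 𝒯, T ≠ ⊥ := fun T hT h => hT₀0 (by
      rw [← Subgroup.card_eq_one, ← hcard T hT, h, Subgroup.card_bot])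
    have hsup : 𝒯.sup id = N := by
      have hle' : 𝒯.sup id ≤ N := Finset.sup_le hle
      haveI hn' : (𝒯.sup id).Normal := ⟨fun x hx g => by
        have : 𝒯.sup id ≤ (𝒯.sup id).comap (MulAut.conj g).toMonoidHom := Finset.sup_le fun T hT z hz => by
          obtain ⟨h, rfl⟩ := (hmem T).mp hT
          exact Finset.le_sup (f := id) ((hmem _).mpr ⟨g * h, (hcc h g T₀).symm⟩)
            (show MulAut.conj g z ∈ _ from ⟨z, hz, rfl⟩)
        exact this hx⟩
      refine Subgroup.eq_of_le_of_card_ge hle' (hNmin _ ⟨hn', fun h => ?_⟩)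
      have hT₀m : T₀ ∈ 𝒯 := (hmem _).mpr ⟨1, by
        rw [show (MulAut.conj (1 : G)).toMonoidHom = MonoidHom.id G from MonoidHom.ext fun x => by simp, Subgroup.map_id]⟩
      exact hT₀0 (le_bot_iff.mp (h ▸ Finset.le_sup (f := id) hT₀m))
    refine ⟨hle, fun T hT g hg t ht => ?_, hne, fun T hT M hM hMn => ?_, fun T hT g => ?_, fun T hT T' hT' => ?_, hsup⟩
    · obtain ⟨h, rfl⟩ := (hmem T).mp hT
      obtain ⟨x, hx, rfl⟩ := ht
      refine ⟨(h⁻¹ * g * h) * x * (h⁻¹ * g * h)⁻¹, hT₀n _ ?_ x hx, ?_⟩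
      · simpa using hNn.conj_mem g hg h⁻¹
      · simp [mul_assoc]
    · by_cases hM0 : M = ⊥
      · exact Or.inl hM0
      right
      obtain ⟨h, rfl⟩ := (hmem T).mp hT
      refine Subgroup.eq_of_le_of_card_ge hM ?_
      rw [hcard _ hT, Nat.card_congr (M.equivMapOfInjective (MulAut.conj h⁻¹).toMonoidHom (MulAut.conj h⁻¹).injective).toEquiv]
      refine hT₀min _ ⟨?_, fun h0 => hM0 ?_, ?_⟩
      · rintro _ ⟨x, hx, rfl⟩
        obtain ⟨y, hy, rfl⟩ := hM hx
        simpa [mul_assoc] using hT₀le hy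
      · exact (Subgroup.map_eq_bot_iff_of_injective M (MulAut.conj h⁻¹).injective).mp h0
      · rintro g hg _ ⟨x, hx, rfl⟩
        refine ⟨(h * g * h⁻¹) * x * (h * g * h⁻¹)⁻¹, hMn _ (hNn.conj_mem g hg h) x hx, ?_⟩
        simp [mul_assoc]
    · obtain ⟨h, rfl⟩ := (hmem T).mp hT
      exact (hmem _).mpr ⟨g * h, (hcc h g T₀).symm⟩
    · obtain ⟨h, rfl⟩ := (hmem T).mp hT
      obtain ⟨h', rfl⟩ := (hmem T').mp hT'
      exact ⟨h' * h⁻¹, by rw [hcc, inv_mul_cancel_right]⟩
  -- the point stabiliser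
  set Ga := MulAction.stabilizer G a with hGa
  have hred : ∀ b₁ b₂ : ℕ, LenLE N b₁ → LenLE Ga b₂ → LenLE G (b₁ + b₂) := by
    intro b₁ b₂ h1 h2
    refine lenLE_add h1 (lenLE_of_surjective ((QuotientGroup.mk' N).comp Ga.subtype) ?_ h2)
    intro q
    obtain ⟨g, rfl⟩ := QuotientGroup.mk'_surjective N q
    obtain ⟨k, hk, hka⟩ := hNa (g • a)
    refine ⟨⟨k⁻¹ * g, by rw [hGa, MulAction.mem_stabilizer_iff, mul_smul, ← hka, inv_smul_smul]⟩, ?_⟩
    show QuotientGroup.mk' N (k⁻¹ * g) = _
    rw [map_mul, map_inv, show QuotientGroup.mk' N k = 1 from (QuotientGroup.eq_one_iff k).mpr hk, inv_one, one_mul]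
  have hmove : ∀ T ∈ 𝒯, ∃ t ∈ T, t • a ≠ a := by
    intro T hT
    by_contra hc
    push Not at hc
    obtain ⟨y, hy⟩ : ∃ y, y ≠ a := by
      haveI : Nontrivial Ω := Finite.one_lt_card_iff_nontrivial.mp hn
      exact exists_ne a
    obtain ⟨g₀, hg₀, hg₀a⟩ := hNa y
    have hle : 𝒯.sup id ≤ Ga := Finset.sup_le fun T' hT' => by
      obtain ⟨g, rfl⟩ := hF.trans T hT T' hT'
      obtain ⟨k, hk, hka⟩ := hNa (g • a)
      rintro _ ⟨t, ht, rfl⟩
      have h1 := hF.norm _ (hF.conj T hT g) k⁻¹ (N.inv_mem hk)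
      have h2 : MulAut.conj g t • (g • a) = g • a := by
        rw [← mul_smul]
        show (g * t * g⁻¹ * g) • a = g • a
        rw [inv_mul_cancel_right, mul_smul, hc t ht]
      rw [hGa, MulAction.mem_stabilizer_iff]
      -- move the fixed point back
      obtain ⟨t', ht', ht''⟩ : ∃ t' ∈ T, MulAut.conj g t' = k * MulAut.conj g t * k⁻¹ := by
        obtain ⟨t', ht', he⟩ := hF.norm _ (hF.conj T hT g) k hk _ ⟨t, ht, rfl⟩
        exact ⟨t', ht', he⟩
      have h3 : MulAut.conj g t' • (g • a) = g • a := by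
        rw [← mul_smul]
        show (g * t' * g⁻¹ * g) • a = g • a
        rw [inv_mul_cancel_right, mul_smul, hc t' ht']
      rw [ht'', ← hka, ← mul_smul, inv_mul_cancel_right, mul_smul] at h3
      exact MulAction.injective k h3
    rw [hF.sup_eq] at hle
    exact hy (hg₀a.symm.trans (hle hg₀))
  have h𝒯ne : 𝒯.Nonempty := by
    rw [Finset.nonempty_iff_ne_empty]
    intro h
    exact hN0 (by rw [← hF.sup_eq, h, Finset.sup_empty])
  obtain ⟨T₁, hT₁⟩ := h𝒯ne
  -- an element of the stabiliser which fixes the orbits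
  by_cases hab : ∀ x ∈ T₁, ∀ y ∈ T₁, x * y = y * x
  · -- the affine case
    have habT : ∀ T ∈ 𝒯, ∀ x ∈ T, ∀ y ∈ T, x * y = y * x := by
      intro T hT
      obtain ⟨g, rfl⟩ := hF.trans T₁ hT₁ T hT
      rintro _ ⟨x, hx, rfl⟩ _ ⟨y, hy, rfl⟩
      rw [← map_mul, ← map_mul, hab x hx y hy]
    have habN : ∀ x ∈ N, ∀ y ∈ N, x * y = y * x := by
      intro x hx y hy
      rw [← hF.sup_eq] at hx hy
      refine commute_finsetSup (c := y) (fun T hT g hg => ?_) x hx
      refine (commute_finsetSup (c := g) (fun T' hT' g' hg' => ?_) y hy).symm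
      rcases eq_or_ne T T' with rfl | hne
      · exact habT T hT g' hg' g hg
      · exact hF.commute hT' hT hne.symm g' hg' g hg
    have hreg : ∀ x ∈ N, x • a = a → x = 1 := fun x hx ha => eq_one_of_fixes hNa (fun g hg => habN g hg x hx) ha
    obtain ⟨p, hp, hpc⟩ : ∃ p : ℕ, p.Prime ∧ Nat.card T₁ = p := by
      haveI : Nontrivial T₁ := (Subgroup.nontrivial_iff_ne_bot T₁).mpr (hF.ne T₁ hT₁)
      letI : CommGroup T₁ := { (inferInstance : Group T₁) with mul_comm := fun x y => Subtype.ext (hab x x.2 y y.2) }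
      haveI : IsSimpleGroup T₁ := ⟨fun K hK => hF.simple hT₁ K hK⟩
      exact ⟨_, IsSimpleGroup.prime_card, rfl⟩
    obtain ⟨S, hS, hSe, hSc⟩ := hF.exists_base (m := p) (fun T hT => by rw [hcard T hT, ← hcard T₁ hT₁, hpc]) habN 𝒯
      subset_rfl
    rw [hF.sup_eq] at hSe
    have hNc : Nat.card N = Nat.card Ω := by
      refine Nat.card_congr (Equiv.ofBijective (fun g : N => (g : G) • a) ⟨fun g h he => ?_, fun y => ?_⟩)
      · refine Subtype.ext (inv_mul_eq_one.mp (hreg _ (N.mul_mem (N.inv_mem g.2) h.2) ?_))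
        have he' : (g : G) • a = (h : G) • a := he
        rw [mul_smul, ← he', inv_smul_smul]
      · obtain ⟨g, hg, hga⟩ := hNa y; exact ⟨⟨g, hg⟩, hga⟩
    have hn' : Nat.card Ω = p ^ S.card := by rw [← hNc, ← hSc, hSe]
    choose t ht hta using hmove
    let l : List Ω := S.toList.attach.map fun T => t T.1 (hS (Finset.mem_toList.mp T.2)) • a
    have hl : l.length = S.card := by simp [l]
    have hfac := factors_le (H := G) (Ω := Ω) (M := Nat.card Ω - 1) l Ga (fun y hy => ?_) (fun g hg hfix => ?_)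
    · have hGl : LenLE Ga (S.card * Nat.log 2 (Nat.card Ω - 1)) := by
        intro H l' hH
        exact (steps_le_factors hH).trans (hl ▸ hfac)
      refine (hred _ _ (hF.lenLE hS hSe) hGl).mono ?_
      have hd : 1 ≤ S.card := by
        by_contra h0
        rw [show S.card = 0 by omega, pow_zero] at hn'
        omega
      have := arith_abelian hp hd
      rw [← hn'] at this
      omega
    · obtain ⟨T, -, rfl⟩ := List.mem_map.mp hy
      refine le_trans (Set.ncard_le_ncard (t := {a}ᶜ) ?_ (Set.toFinite _)) (by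
        rw [Set.ncard_compl, Set.ncard_singleton])
      rintro _ ⟨⟨g, hg⟩, rfl⟩ he
      have he' : g • (t T.1 _ • a) = a := he
      refine hta T.1 (hS (Finset.mem_toList.mp T.2)) ?_
      calc t T.1 _ • a = g⁻¹ • (g • (t T.1 _ • a)) := (inv_smul_smul _ _).symm
        _ = a := by rw [he']; exact inv_smul_eq_iff.mpr hg.symm
    · refine eq_one_of_fixes hNa (fun x hx => ?_) hg
      rw [← hSe] at hx
      refine commute_finsetSup (c := g) (fun T hT x hx => ?_) x hx
      have hT' := hS hT
      set t₁ := t T hT' with ht₁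
      have hT1 : g * t₁ * g⁻¹ = t₁ := by
        refine inv_mul_eq_one.mp ?_ |>.symm
        refine hreg _ (N.mul_mem (N.inv_mem (hF.le T hT' (ht T hT'))) (hNn.conj_mem _ (hF.le T hT' (ht T hT')) g)) ?_
        have hf := hfix (t₁ • a) (List.mem_map.mpr ⟨⟨T, Finset.mem_toList.mpr hT⟩, List.mem_attach _ _, rfl⟩)
        rw [mul_smul, mul_smul, mul_smul, inv_smul_eq_iff.mpr hg.symm, hf, inv_smul_smul]
      have hgen : T ≤ Subgroup.centralizer {g} := by
        rcases hF.min T hT' (T ⊓ Subgroup.centralizer {g}) inf_le_left (fun k hk m hm => by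
          rw [habN k hk m (hF.le T hT' hm.1), mul_inv_cancel_right]; exact hm) with h | h
        · exfalso
          have : t₁ ∈ T ⊓ Subgroup.centralizer {g} := ⟨ht T hT', Subgroup.mem_centralizer_singleton_iff.mpr (by
            conv_lhs => rw [← hT1]
            group)⟩
          rw [h, Subgroup.mem_bot] at this
          exact hta T hT' (by rw [← ht₁, this, one_smul])
        · exact h ▸ inf_le_right
      exact Subgroup.mem_centralizer_singleton_iff.mp (hgen hx)
  · -- non-abelian factors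
    push Not at hab
    have hnab : ∀ T ∈ 𝒯, ∃ x ∈ T, ∃ y ∈ T, x * y ≠ y * x := by
      intro T hT
      obtain ⟨g, rfl⟩ := hF.trans T₁ hT₁ T hT
      obtain ⟨x, hx, y, hy, hxy⟩ := hab
      exact ⟨_, ⟨x, hx, rfl⟩, _, ⟨y, hy, rfl⟩, fun h => hxy ((MulAut.conj g).injective (by
        rw [map_mul, map_mul]; exact h))⟩
    have hm4 : ∀ T ∈ 𝒯, 4 ≤ Nat.card T := by
      intro T hT
      by_contra hlt
      obtain ⟨x, hx, y, hy, hxy⟩ := hnab T hT
      apply hxy
      have h3 : Nat.card T = 1 ∨ Nat.card T = 2 ∨ Nat.card T = 3 := by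
        have := Nat.card_pos (α := T)
        omega
      haveI : IsCyclic T := by
        rcases h3 with h | h | h
        · haveI : Subsingleton T := (Nat.card_eq_one_iff_unique.mp h).1
          exact isCyclic_of_subsingleton
        · haveI := Fact.mk Nat.prime_two; exact isCyclic_of_prime_card h
        · haveI := Fact.mk Nat.prime_three; exact isCyclic_of_prime_card h
      letI : CommGroup T := IsCyclic.commGroup
      exact congrArg Subtype.val (mul_comm (⟨x, hx⟩ : T) ⟨y, hy⟩)
    -- the faithful action of a simple factor on its orbit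
    have hfaith : ∀ T ∈ 𝒯, ∀ t ∈ T, (∀ u ∈ T, t • u • a = u • a) → t = 1 := by
      intro T hT t ht hfix
      let K : Subgroup T := ⨅ u : T, MulAction.stabilizer T ((u : G) • a)
      have hKn : K.Normal := ⟨fun k hk g => by
        simp only [K, Subgroup.mem_iInf, MulAction.mem_stabilizer_iff] at hk ⊢
        intro u
        have := hk (g⁻¹ * u)
        show ((g : G) * (k : G) * (g : G)⁻¹) • (u : G) • a = (u : G) • a
        have h' : (k : G) • (((g : G)⁻¹ * (u : G)) • a) = ((g : G)⁻¹ * (u : G)) • a := this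
        rw [mul_smul, mul_smul, ← mul_smul (g : G)⁻¹, h', ← mul_smul, mul_inv_cancel_left]⟩
      rcases hF.simple hT K hKn with h | h
      · have : (⟨t, ht⟩ : T) ∈ K := by
          simp only [K, Subgroup.mem_iInf, MulAction.mem_stabilizer_iff]
          exact fun u => hfix u u.2
        rw [h, Subgroup.mem_bot] at this
        exact congrArg Subtype.val this
      · obtain ⟨s, hs, hsa⟩ := hmove T hT
        have : (⟨s, hs⟩ : T) ∈ K := by rw [h]; trivial
        simp only [K, Subgroup.mem_iInf, MulAction.mem_stabilizer_iff] at this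
        exact absurd (by simpa [Subgroup.smul_def] using this 1) hsa
    have hfaith' : ∀ g ∈ Ga, (∀ T ∈ 𝒯, ∀ t ∈ T, g • t • a = t • a) → g = 1 := by
      intro g hg hfix
      refine eq_one_of_fixes hNa (fun x hx => ?_) hg
      rw [← hF.sup_eq] at hx
      refine commute_finsetSup (c := g) (fun T hT s hs => ?_) x hx
      have hginv : ∀ T ∈ 𝒯, ∀ t ∈ T, g⁻¹ • t • a = t • a := fun T hT t ht => by
        rw [inv_smul_eq_iff]; exact (hfix T hT t ht).symm
      -- conjugates act in the same way on the orbit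
      have hsame : ∀ t ∈ T, ∀ u ∈ T, (g * t * g⁻¹) • u • a = t • u • a := fun t ht u hu => by
        rw [mul_smul, mul_smul, hginv T hT u hu, ← mul_smul t, hfix T hT _ (T.mul_mem ht hu)]
      have hTT : T.map (MulAut.conj g).toMonoidHom = T := by
        by_contra hne
        obtain ⟨x, hx, y, hy, hxy⟩ := hnab T hT
        have hcomm := hF.commute (hF.conj T hT g) hT hne _ ⟨x, hx, rfl⟩
        refine hxy (inv_mul_eq_one.mp (hfaith T hT _ (T.mul_mem (T.inv_mem (T.mul_mem hx hy)) (T.mul_mem hy hx))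
          fun u hu => ?_))
        have h1 : (g * x * g⁻¹) * y = y * (g * x * g⁻¹) := hcomm y hy
        rw [mul_smul, inv_smul_eq_iff, mul_smul y x, ← hsame x hx u hu, ← mul_smul y, ← h1, mul_smul, ← mul_smul y u,
          hsame x hx _ (T.mul_mem hy hu), ← mul_smul x, ← mul_smul (x * y), mul_assoc]
      have hmem' : g * s * g⁻¹ ∈ T := hTT.le ⟨s, hs, rfl⟩
      have h1 := hfaith T hT _ (T.mul_mem (T.inv_mem hmem') hs) fun u hu => by
        rw [mul_smul, inv_smul_eq_iff, hsame s hs u hu]
      rw [inv_mul_eq_one] at h1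
      calc s * g = (g * s * g⁻¹) * g := by rw [h1]
        _ = g * s := inv_mul_cancel_right _ _
    -- the orbits have one size
    have horb : ∀ T ∈ 𝒯, (MulAction.orbit T a).ncard = (MulAction.orbit T₁ a).ncard := by
      intro T hT
      obtain ⟨g, rfl⟩ := hF.trans T₁ hT₁ T hT
      obtain ⟨k, hk, hka⟩ := hNa (g • a)
      set x := k⁻¹ * g with hx
      have hxa : x • a = a := by rw [hx, mul_smul, ← hka, inv_smul_smul]
      have hTx : ∀ z, z ∈ T₁.map (MulAut.conj g).toMonoidHom ↔ ∃ t ∈ T₁, x * t * x⁻¹ = z := by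
        intro z
        constructor
        · intro hz
          obtain ⟨t, ht, he⟩ := hF.norm _ (hF.conj T₁ hT₁ g) k hk z hz
          have he' : g * t * g⁻¹ = k * z * k⁻¹ := he
          refine ⟨t, ht, ?_⟩
          calc x * t * x⁻¹ = k⁻¹ * (g * t * g⁻¹) * k := by rw [hx]; group
            _ = z := by rw [he']; group
        · rintro ⟨t, ht, rfl⟩
          have := hF.norm _ (hF.conj T₁ hT₁ g) k⁻¹ (N.inv_mem hk) _ ⟨t, ht, rfl⟩
          convert this using 1
          simp [hx, mul_assoc]
      rw [← Set.ncard_smul_set x (MulAction.orbit T₁ a)]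
      congr 1
      ext y
      constructor
      · rintro ⟨⟨z, hz⟩, rfl⟩
        obtain ⟨t, ht, rfl⟩ := (hTx z).mp hz
        refine ⟨t • a, ⟨⟨t, ht⟩, rfl⟩, ?_⟩
        show x • t • a = (x * t * x⁻¹) • a
        rw [mul_smul (x * t), inv_smul_eq_iff.mpr hxa.symm, mul_smul x t]
      · rintro ⟨_, ⟨⟨t, ht⟩, rfl⟩, rfl⟩
        refine ⟨⟨x * t * x⁻¹, (hTx _).mpr ⟨t, ht, rfl⟩⟩, ?_⟩
        show (x * t * x⁻¹) • a = x • t • a
        rw [mul_smul (x * t), inv_smul_eq_iff.mpr hxa.symm, mul_smul x t]
    set m := (MulAction.orbit T₁ a).ncard with hm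
    have hm0 : 1 ≤ m := (Set.ncard_pos (Set.toFinite _)).mpr ⟨a, MulAction.mem_orbit_self a⟩
    obtain ⟨Q, hQ, hQo, hQc⟩ := hF.exists_jumps a horb hm4 𝒯 subset_rfl
    have hQt : ∀ y, ∃ g ∈ Q.sup id, g • a = y := fun y => by
      obtain ⟨g, hg, rfl⟩ := hNa y
      rw [← hF.sup_eq] at hg
      exact hQo g hg
    have hQne : Q.Nonempty := by
      by_contra h
      rw [Finset.not_nonempty_iff_eq_empty] at h
      obtain ⟨t, ht, hta⟩ := hmove T₁ hT₁
      obtain ⟨g, hg, hga⟩ := hQt (t • a)
      rw [h, Finset.sup_empty, Subgroup.mem_bot] at hg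
      exact hta (by rw [← hga, hg, one_smul])
    have hq : m * 3 ^ (Q.card - 1) ≤ Nat.card Ω :=
      (hQc hQne).trans (Set.ncard_le_card _)
    set P := 𝒯 \ Q with hP
    have hPQ : P.card + Q.card = 𝒯.card := Finset.card_sdiff_add_card_eq_card hQ
    have hPsr : ∀ g ∈ P.sup id, g • a = a → g = 1 := by
      intro g hg hga
      refine eq_one_of_fixes hQt (fun x hx => ?_) hga
      refine commute_finsetSup (c := g) (fun T hT t ht => ?_) x hx
      refine (commute_finsetSup (c := t) (fun T' hT' t' ht' => ?_) g hg).symm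
      exact hF.commute (Finset.sdiff_subset hT') (hQ hT) (fun h => (Finset.mem_sdiff.mp hT').2 (h ▸ hT)) t' ht' t ht
    have hsemi : P.Nonempty → m = Nat.card T₁ := by
      rintro ⟨T, hT⟩
      rw [← horb T (Finset.sdiff_subset hT), hcard T₁ hT₁, ← hcard T (Finset.sdiff_subset hT), ← Nat.card_coe_set_eq]
      refine (Nat.card_congr (Equiv.ofBijective (fun t : T => (⟨(t : G) • a, t, rfl⟩ : MulAction.orbit T a))
        ⟨fun t u he => ?_, ?_⟩)).symm
      · have he' : (t : G) • a = (u : G) • a := congrArg Subtype.val he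
        refine Subtype.ext (inv_mul_eq_one.mp (hPsr _ (Finset.le_sup (f := id) hT (T.mul_mem (T.inv_mem t.2) u.2)) ?_))
        rw [mul_smul, ← he', inv_smul_smul]
      · rintro ⟨_, t, rfl⟩; exact ⟨t, rfl⟩
    have hp : m ^ P.card ≤ Nat.card Ω := by
      rcases P.eq_empty_or_nonempty with h | h
      · rw [h, Finset.card_empty, pow_zero]; omega
      have hc := hF.card_sup (m := m) (fun T hT => by rw [hcard T hT, ← hcard T₁ hT₁, hsemi h]) hnab P Finset.sdiff_subset
      rw [← hc]
      refine Nat.card_le_card_of_injective (fun g : (P.sup id : Subgroup G) => (g : G) • a) fun g g' he => ?_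
      refine Subtype.ext (inv_mul_eq_one.mp (hPsr _ (Subgroup.mul_mem _ (Subgroup.inv_mem _ g.2) g'.2) ?_))
      have he' : (g : G) • a = (g' : G) • a := he
      rw [mul_smul, ← he', inv_smul_smul]
    have hK : LenLE N 𝒯.card := hF.lenLE subset_rfl hF.sup_eq
    have hK1 : 1 ≤ 𝒯.card := Finset.card_pos.mpr ⟨T₁, hT₁⟩
    by_cases hs : P.card = 1 ∧ Q.card = 1
    · -- two regular factors
      have hm' : ∀ T ∈ 𝒯, ∀ t ∈ T, t • a = a → t = 1 := by
        intro T hT t ht hta
        have hcardT : Nat.card T = (MulAction.orbit T a).ncard := by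
          rw [horb T hT, hcard T hT, ← hcard T₁ hT₁, ← hsemi (Finset.card_pos.mp (by omega))]
        have hs' : Nat.card (MulAction.stabilizer T a) = 1 := by
          have h1 := Subgroup.card_mul_index (MulAction.stabilizer T a)
          rw [MulAction.index_stabilizer, ← hcardT] at h1
          exact (mul_eq_right₀ (Nat.card_pos (α := T)).ne').mp h1
        have : (⟨t, ht⟩ : T) ∈ MulAction.stabilizer T a := hta
        rw [Subgroup.card_eq_one.mp hs', Subgroup.mem_bot] at this
        exact congrArg Subtype.val this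
      let E : SubMulAction Ga Ω := ⟨{a}ᶜ, fun g y hy hgy => hy (by
        have h : (g : G) • y = a := hgy
        exact MulAction.injective (g : G) (h.trans g.2.symm))⟩
      haveI : FaithfulSMul Ga E := ⟨fun {g g'} he => Subtype.ext (eq_of_smul_eq_smul (α := Ω) fun y => by
        by_cases hy : y = a
        · subst hy; exact g.2.trans g'.2.symm
        · exact congrArg Subtype.val (he ⟨y, hy⟩))⟩
      have hEc : Nat.card E = Nat.card Ω - 1 := by
        rw [show Nat.card E = ({a}ᶜ : Set Ω).ncard from Nat.card_coe_set_eq _, Set.ncard_compl, Set.ncard_singleton]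
      have h2 := lenLE_of_hyp (G := Ga) (ih E inferInstance (by omega))
      have hord2 : ∃ t ∈ T₁, ∃ s ∈ T₁, t ≠ 1 ∧ s ≠ 1 ∧ orderOf t ≠ orderOf s := by
        by_contra hc
        push Not at hc
        obtain ⟨x, hx, y, hy, hxy⟩ := hab
        have hx1 : x ≠ 1 := fun h => hxy (by rw [h, one_mul, mul_one])
        have hq0 : orderOf x ≠ 1 := fun h => hx1 (orderOf_eq_one_iff.mp h)
        set q₀ := (orderOf x).minFac with hq₀
        have hqp : q₀.Prime := Nat.minFac_prime hq0
        have hw : ∀ t : T₁, ∃ k, t ^ q₀ ^ k = 1 := by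
          intro t
          refine ⟨1, ?_⟩
          by_cases ht1 : (t : G) = 1
          · exact Subtype.ext (by simp [ht1])
          have hz : orderOf (x ^ (orderOf x / q₀)) = q₀ :=
            orderOf_pow_orderOf_div (orderOf_pos x).ne' (Nat.minFac_dvd _)
          have hz1 : x ^ (orderOf x / q₀) ≠ 1 := fun h => by
            rw [h, orderOf_one] at hz; exact hqp.ne_one hz.symm
          have := hc t t.2 _ (T₁.pow_mem hx _) ht1 hz1
          rw [hz] at this
          refine Subtype.ext ?_
          rw [pow_one, ← this, SubgroupClass.coe_pow, pow_orderOf_eq_one, OneMemClass.coe_one]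
        haveI : Fact q₀.Prime := ⟨hqp⟩
        haveI : Nontrivial T₁ := (Subgroup.nontrivial_iff_ne_bot T₁).mpr (hF.ne T₁ hT₁)
        have hZ := IsPGroup.center_nontrivial (fun t => hw t : IsPGroup q₀ T₁)
        rcases hF.simple hT₁ (Subgroup.center T₁) inferInstance with h | h
        · exact (Subgroup.nontrivial_iff_ne_bot _).mp hZ h
        · have hxz : (⟨x, hx⟩ : T₁) ∈ Subgroup.center T₁ := by rw [h]; trivial
          exact hxy (congrArg Subtype.val (Subgroup.mem_center_iff.mp hxz ⟨y, hy⟩)).symm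
      have hr : 2 ≤ orbs Ga E := by
        obtain ⟨t, ht, s, hs', ht1, hs1, hts⟩ := hord2
        let A : E := ⟨t • a, fun h => ht1 (hm' T₁ hT₁ t ht h)⟩
        let B : E := ⟨s • a, fun h => hs1 (hm' T₁ hT₁ s hs' h)⟩
        have hAB : Quotient.mk (MulAction.orbitRel Ga E) A ≠ Quotient.mk _ B := by
          intro h
          obtain ⟨g, hg⟩ := (Quotient.exact h : A ∈ MulAction.orbit Ga B)
          have hg' : (g : G) • s • a = t • a := congrArg Subtype.val hg
          apply hts
          set T := T₁.map (MulAut.conj (g : G)).toMonoidHom with hT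
          have hTm := hF.conj T₁ hT₁ (g : G)
          set u := (g : G) * s * (g : G)⁻¹ with hu
          have huT : u ∈ T := ⟨s, hs', rfl⟩
          have hua : u • a = t • a := by
            rw [hu, mul_smul, mul_smul, inv_smul_eq_iff.mpr g.2.symm, hg']
          have hou : orderOf u = orderOf s := by
            show orderOf (MulAut.conj (g : G) s) = _
            exact MulEquiv.orderOf_eq _ s
          rw [← hou]
          by_cases hTT : T = T₁
          · have huT₁ : u ∈ T₁ := hTT ▸ huT
            rw [inv_mul_eq_one.mp (hm' T₁ hT₁ _ (T₁.mul_mem (T₁.inv_mem huT₁) ht)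
              (by rw [mul_smul, ← hua, inv_smul_smul]))]
          · have hc := hF.commute hTm hT₁ hTT u huT t ht
            have hcom : Commute u t := hc
            have hpow : ∀ i : ℕ, u ^ i • a = t ^ i • a := by
              intro i
              induction i with
              | zero => simp
              | succ i ih =>
                rw [pow_succ, mul_smul, hua, ← mul_smul, (hcom.pow_left i).eq, mul_smul, ih, ← mul_smul, ← pow_succ']
            refine Nat.dvd_antisymm (orderOf_dvd_of_pow_eq_one (hm' T₁ hT₁ _ (T₁.pow_mem ht _) ?_))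
              (orderOf_dvd_of_pow_eq_one (hm' T hTm _ (T.pow_mem huT _) ?_))
            · rw [← hpow, pow_orderOf_eq_one, one_smul]
            · rw [hpow, pow_orderOf_eq_one, one_smul]
        rw [orbs]
        by_contra hlt
        haveI : Subsingleton (Quotient (MulAction.orbitRel Ga E)) := Finite.card_le_one_iff_subsingleton.mp (by omega)
        exact hAB (Subsingleton.elim _ _)
      have hrn : orbs Ga E ≤ Nat.card E := Nat.card_le_card_of_surjective _ Quotient.mk_surjective
      refine (hred _ _ hK h2).mono ?_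
      omega
    -- the union of the orbits
    let U : Finset Ω := 𝒯.biUnion fun T => (Set.toFinite (MulAction.orbit T a)).toFinset.erase a
    have hUmem : ∀ y, y ∈ U ↔ y ≠ a ∧ ∃ T ∈ 𝒯, ∃ t ∈ T, t • a = y := by
      intro y
      simp only [U, Finset.mem_biUnion, Finset.mem_erase, Set.Finite.mem_toFinset]
      constructor
      · rintro ⟨T, hT, hy, ⟨t, ht⟩, rfl⟩; exact ⟨hy, T, hT, t, ht, rfl⟩
      · rintro ⟨hy, T, hT, t, ht, rfl⟩; exact ⟨T, hT, hy, ⟨t, ht⟩, rfl⟩
    have hUc : U.card + 𝒯.card ≤ 𝒯.card * m := by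
      refine le_trans (Nat.add_le_add_right (Finset.card_biUnion_le_card_mul _ _ (m - 1) fun T hT => ?_) _) ?_
      · rw [Finset.card_erase_of_mem (by simp), ← Set.ncard_eq_toFinset_card _ (Set.toFinite _), horb T hT]
      · rw [show 𝒯.card * m = 𝒯.card * (m - 1) + 𝒯.card * 1 by rw [← mul_add]; congr 1; omega, mul_one]
    let E : SubMulAction Ga Ω := ⟨(U : Set Ω), fun g y hy => by
      rw [Finset.mem_coe, hUmem] at hy ⊢
      obtain ⟨hy, T, hT, t, ht, rfl⟩ := hy
      refine ⟨fun h => hy (MulAction.injective (g : G) ((h : (g : G) • t • a = a).trans g.2.symm)),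
        _, hF.conj T hT (g : G), (g : G) * t * (g : G)⁻¹, ⟨t, ht, rfl⟩, ?_⟩
      show ((g : G) * t * (g : G)⁻¹) • a = (g : G) • t • a
      rw [mul_smul, mul_smul, inv_smul_eq_iff.mpr g.2.symm]⟩
    haveI : FaithfulSMul Ga E := ⟨fun {g g'} he => Subtype.ext (inv_mul_eq_one.mp (hfaith' _
      (Ga.mul_mem (Ga.inv_mem g.2) g'.2) fun T hT t ht => by
        by_cases h : t • a = a
        · rw [h, mul_smul, g'.2, inv_smul_eq_iff]; exact g.2.symm
        · have := congrArg Subtype.val (he ⟨t • a, Finset.mem_coe.mpr ((hUmem _).mpr ⟨h, T, hT, t, ht, rfl⟩)⟩)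
          have h' : (g : G) • t • a = (g' : G) • t • a := this
          rw [mul_smul, ← h', inv_smul_smul]))⟩
    have hEc : Nat.card E = U.card := by
      rw [show Nat.card E = (U : Set Ω).ncard from Nat.card_coe_set_eq _, Set.ncard_coe_finset]
    have hUlt : U.card < Nat.card Ω := by
      rw [← Set.ncard_coe_finset, ← Set.ncard_univ]
      exact Set.ncard_lt_ncard ((Set.ssubset_univ_iff).2 fun h => ((hUmem a).mp (Finset.mem_coe.mp (h ▸ Set.mem_univ a))).1 rfl)
        (Set.toFinite _)
    have h2 := lenLE_of_hyp (G := Ga) (ih E inferInstance (by omega))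
    haveI : Nonempty E := by
      obtain ⟨t, ht, hta⟩ := hmove T₁ hT₁
      exact ⟨⟨t • a, Finset.mem_coe.mpr ((hUmem _).mpr ⟨hta, T₁, hT₁, t, ht, rfl⟩)⟩⟩
    have hr1 : 1 ≤ orbs Ga E := one_le_orbs
    have har := arith (q := Q.card) (p := P.card) (m := m) (n := Nat.card Ω) ?_ hQne.card_pos hq hp hs
    · rw [hPQ] at har
      refine (hred _ _ hK h2).mono ?_
      have hrn : orbs Ga E ≤ Nat.card E := Nat.card_le_card_of_surjective _ Quotient.mk_surjective
      omega
    · rcases P.eq_empty_or_nonempty with h | h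
      · exact Or.inr (by rw [h]; rfl)
      · exact Or.inl (hsemi h ▸ hm4 T₁ hT₁)

end primitive

theorem hyp_all : ∀ (n : ℕ) (Ω : Type v), Finite Ω → Nat.card Ω = n → Hyp Ω := by
  intro n
  induction n using Nat.strong_induction_on with
  | h n ihn =>
    intro Ω hfin hn P
    have ih : ∀ Ω' : Type v, Finite Ω' → Nat.card Ω' < Nat.card Ω → Hyp Ω' := fun Ω' hf hlt =>
      ihn _ (by omega) Ω' hf rfl
    haveI : FaithfulSMul P Ω := ⟨fun {g g'} h => Subtype.ext (Equiv.ext h)⟩
    by_cases h2 : 2 ≤ orbs P Ω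
    · exact intransitive ih h2
    by_cases hn2 : Nat.card Ω < 2
    · haveI : Subsingleton Ω := Finite.card_le_one_iff_subsingleton.mp (by omega)
      exact lenLE_subsingleton.mono (Nat.zero_le _)
    haveI : Nonempty Ω := (Nat.card_pos_iff.mp (show 0 < Nat.card Ω by omega)).1
    have hr : orbs P Ω = 1 := le_antisymm (by omega) one_le_orbs
    rw [hr]
    haveI : IsPretransitive P Ω := ⟨fun x y => by
      haveI : Subsingleton (Quotient (MulAction.orbitRel P Ω)) :=
        Finite.card_le_one_iff_subsingleton.mp (by unfold orbs at hr; omega)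
      exact (Quotient.exact (Subsingleton.elim (Quotient.mk (MulAction.orbitRel P Ω) y) (Quotient.mk _ x)) :
        y ∈ MulAction.orbit P x)⟩
    by_cases hprim : IsPreprimitive P Ω
    · exact primitive ih (by omega)
    obtain ⟨a⟩ : Nonempty Ω := inferInstance
    obtain ⟨B, haB, hB, hB1, hBu⟩ : ∃ B : Set Ω, a ∈ B ∧ IsBlock P B ∧ 1 < B.ncard ∧ B ≠ Set.univ := by
      by_contra hc
      refine hprim (IsPreprimitive.of_isTrivialBlock_base a fun {B} haB hB => ?_)
      by_contra h
      rw [IsTrivialBlock, not_or] at h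
      refine hc ⟨B, haB, hB, ?_, h.2⟩
      rw [Set.one_lt_ncard_iff_nontrivial]
      exact Set.not_subsingleton_iff.mp h.1
    exact imprimitive ih haB hB hB1 hBu

/-- If a finite group G acts faithfully on a finite set with n points and r orbits, then the composition length of G is at most 4(n − r)/3. Here the composition length is expressed through chains: the conclusion bounds the length l of every chain of subgroups 1 = H₀ < H₁ < ⋯ < H_l = G in which each term is normal in the next (the longest such chains are exactly the composition series). -/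
theorem result {G Ω : Type*} [Group G] [Finite G] [MulAction G Ω] [FaithfulSMul G Ω] [Fintype Ω]
    (l : ℕ) (H : Fin (l + 1) → Subgroup G) (h0 : H 0 = ⊥) (hl : H (Fin.last l) = ⊤)
    (hchain : ∀ i : Fin l, H i.castSucc < H i.succ ∧ ((H i.castSucc).subgroupOf (H i.succ)).Normal) :
    3 * l ≤ 4 * (Fintype.card Ω - Nat.card (Quotient (MulAction.orbitRel G Ω))) := by
  classical
  have hb : LenLE G (4 * (Nat.card Ω - orbs G Ω) / 3) :=
    lenLE_of_hyp (hyp_all _ Ω inferInstance rfl)
  let H' : ℕ → Subgroup G := fun i => if h : i ≤ l then H ⟨i, by omega⟩ else ⊤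
  have hser : IsSeries H' l := by
    refine ⟨fun i hi => ?_, ?_⟩
    · have h1 := hchain ⟨i, hi⟩
      rw [show H' i = H (Fin.castSucc ⟨i, hi⟩) from dif_pos hi.le,
        show H' (i + 1) = H (Fin.succ ⟨i, hi⟩) from dif_pos (show i + 1 ≤ l from hi)]
      exact ⟨h1.1.le, h1.2⟩
    · simp only [H', dif_pos le_rfl]; exact hl
  have hsteps : steps H' l = l := by
    unfold steps
    rw [Finset.filter_true_of_mem, Finset.card_range]
    intro i hi
    have hi' := Finset.mem_range.mp hi
    simp only [H', dif_pos hi'.le, dif_pos (show i + 1 ≤ l from hi')]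
    exact (hchain ⟨i, hi'⟩).1.ne
  have := hb H' l hser
  rw [hsteps, orbs, Nat.card_eq_fintype_card] at this
  omega

end Cfsg.Agent.S5722
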