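import Cfsg.Statements.S5726
-- import your own Cfsg.Agent.* helpers here

set_option autoImplicit false
open Cfsg

namespace Cfsg.Agent.S5726

open MulAction

/-- A non-trivial central element of a transitive group of permutations fixes no point. -/
lemma exists_fpf_of_transitive_pGroup {G Ω : Type*} [Group G] [Finite G] [MulAction G Ω] [FaithfulSMul G Ω]
    {p : ℕ} [Fact p.Prime] (P : Subgroup G) (hP : IsPGroup p P) [Nontrivial Ω] (ω₀ : Ω)
    (htr : ∀ y : Ω, ∃ g ∈ P, g • ω₀ = y) : ∃ g : G, orderOf g = p ∧ ∀ ω : Ω, g • ω ≠ ω := by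
  haveI : Nontrivial P := by
    obtain ⟨y, hy⟩ := exists_ne ω₀
    obtain ⟨g, hg, hgy⟩ := htr y
    refine ⟨⟨⟨g, hg⟩, 1, fun h => hy ?_⟩⟩
    rw [← hgy, show g = 1 from congrArg Subtype.val h, one_smul]
  haveI := hP.center_nontrivial
  obtain ⟨z, hz⟩ : ∃ z : Subgroup.center P, orderOf z = p := by
    refine exists_prime_orderOf_dvd_card' p ?_
    obtain ⟨k, hk0, hk⟩ := (hP.to_subgroup _).nontrivial_iff_card.mp (inferInstance : Nontrivial (Subgroup.center P))
    exact hk ▸ dvd_pow_self p hk0.ne'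
  refine ⟨((z : P) : G), by rw [← hz, Subgroup.orderOf_coe, Subgroup.orderOf_coe], fun ω hω => ?_⟩
  have hz1 : ((z : P) : G) ≠ 1 := by
    intro h
    have : z = 1 := Subtype.ext (Subtype.ext h)
    rw [this, orderOf_one] at hz
    exact (Fact.out : p.Prime).one_lt.ne hz
  obtain ⟨a, haP, ha⟩ := htr ω
  refine hz1 (eq_of_smul_eq_smul fun y : Ω => ?_)
  obtain ⟨b, hbP, hb⟩ := htr y
  have hc : (b * a⁻¹) * ((z : P) : G) = ((z : P) : G) * (b * a⁻¹) :=
    congrArg Subtype.val (Subgroup.mem_center_iff.mp z.2 ⟨b * a⁻¹, P.mul_mem hbP (P.inv_mem haP)⟩)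
  have hy : (b * a⁻¹) • ω = y := by rw [mul_smul, ← ha, inv_smul_smul, hb]
  rw [one_smul, ← hy, ← mul_smul, ← hc, mul_smul, hω]

/-- The orbits of a Sylow subgroup of a transitive group have at least as many points as the p-part of the degree. -/
lemma sylow_orbit_dvd {G Ω : Type*} [Group G] [Finite G] [MulAction G Ω] [IsPretransitive G Ω]
    {p k : ℕ} [Fact p.Prime] (P : Sylow p G) (ω : Ω) (hk : p ^ k ∣ Nat.card Ω) :
    p ^ k ∣ Nat.card (orbit P ω) := by
  have hp : p.Prime := Fact.out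
  have h1 : Nat.card Ω = (stabilizer G ω).index := (index_stabilizer_of_transitive G ω).symm
  have h2 : Nat.card (orbit P ω) * Nat.card (stabilizer P ω) = Nat.card P := by
    rw [← Nat.card_prod]
    exact Nat.card_congr (orbitProdStabilizerEquivGroup P ω)
  have h3 : Nat.card (stabilizer P ω) ∣ Nat.card (stabilizer G ω) := by
    refine Subgroup.card_dvd_of_injective
      ({ toFun := fun x => ⟨((x : P) : G), x.2⟩, map_one' := rfl, map_mul' := fun _ _ => rfl } :
        stabilizer P ω →* stabilizer G ω) ?_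
    intro x y h
    exact Subtype.ext (Subtype.ext (congrArg (fun z : stabilizer G ω => (z : G)) h))
  obtain ⟨i, hi, hi'⟩ := (Nat.dvd_prime_pow hp).mp
    (show Nat.card (stabilizer P ω) ∣ p ^ (Nat.card G).factorization p by
      rw [← P.card_eq_multiplicity]; exact Dvd.intro_left _ h2)
  have h4 : p ^ (k + i) ∣ Nat.card G := by
    rw [← Subgroup.index_mul_card (stabilizer G ω), ← h1, pow_add]
    exact Nat.mul_dvd_mul hk (hi' ▸ h3)
  have h5 : k + i ≤ (Nat.card G).factorization p :=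
    (hp.pow_dvd_iff_le_factorization (Nat.card_pos.ne')).mp h4
  have h6 : p ^ (k + i) ∣ Nat.card (orbit P ω) * p ^ i := by
    rw [← hi', h2, P.card_eq_multiplicity]
    exact pow_dvd_pow p h5
  rw [pow_add] at h6
  exact Nat.dvd_of_mul_dvd_mul_right (pow_pos hp.pos i) h6

/-- If a finite group acts faithfully and transitively on a set with p^k elements, p a prime and k ≥ 1, then some element of order p fixes no point. -/
theorem result {G Ω : Type*} [Group G] [Finite G] [MulAction G Ω] [FaithfulSMul G Ω] [Fintype Ω] (htr : MulAction.IsPretransitive G Ω)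
    (p k : ℕ) (hp : p.Prime) (hk : 1 ≤ k) (hΩ : Fintype.card Ω = p ^ k) :
    ∃ g : G, orderOf g = p ∧ ∀ ω : Ω, g • ω ≠ ω := by
  haveI := Fact.mk hp
  haveI := htr
  obtain ⟨P⟩ : Nonempty (Sylow p G) := inferInstance
  haveI : Nontrivial Ω := by
    rw [← Fintype.one_lt_card_iff_nontrivial, hΩ]
    exact Nat.one_lt_pow (by omega) hp.one_lt
  obtain ⟨ω₀⟩ : Nonempty Ω := inferInstance
  refine exists_fpf_of_transitive_pGroup (P : Subgroup G) P.isPGroup' ω₀ fun y => ?_
  have h1 : p ^ k ∣ Nat.card (MulAction.orbit P ω₀) :=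
    sylow_orbit_dvd P ω₀ (by rw [Nat.card_eq_fintype_card, hΩ])
  haveI : Nonempty (MulAction.orbit P ω₀) := ⟨⟨ω₀, MulAction.mem_orbit_self ω₀⟩⟩
  have h2 : MulAction.orbit P ω₀ = Set.univ := by
    refine Set.eq_of_subset_of_ncard_le (Set.subset_univ _) ?_ (Set.toFinite _)
    rw [Set.ncard_univ, Nat.card_eq_fintype_card, hΩ, ← Nat.card_coe_set_eq]
    exact Nat.le_of_dvd Nat.card_pos h1
  obtain ⟨g, hg⟩ := (h2 ▸ Set.mem_univ y : y ∈ MulAction.orbit P ω₀)
  exact ⟨g, g.2, hg⟩

end Cfsg.Agent.S5726
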