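import Cfsg.Statements.S5727
import Cfsg.Agent.S5726
-- import your own Cfsg.Agent.* helpers here

set_option autoImplicit false
open Cfsg

namespace Cfsg.Agent.S5727

open MulAction

/-- If a finite group acts faithfully and transitively on a set with m·p elements, where p is a prime and 1 ≤ m ≤ p, then some element of order p fixes no point. -/
theorem result {G Ω : Type*} [Group G] [Finite G] [MulAction G Ω] [FaithfulSMul G Ω] [Fintype Ω] (htr : MulAction.IsPretransitive G Ω)
    (p m : ℕ) (hp : p.Prime) (hm : 1 ≤ m) (hmp : m ≤ p) (hΩ : Fintype.card Ω = m * p) :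
    ∃ g : G, orderOf g = p ∧ ∀ ω : Ω, g • ω ≠ ω := by
  haveI := Fact.mk hp
  haveI := htr
  classical
  obtain ⟨P⟩ : Nonempty (Sylow p G) := inferInstance
  haveI : Nontrivial Ω := by
    rw [← Fintype.one_lt_card_iff_nontrivial, hΩ]
    calc 1 < p := hp.one_lt
      _ ≤ m * p := Nat.le_mul_of_pos_left p hm
  have hdvd : ∀ ω : Ω, p ∣ Nat.card (orbit P ω) := fun ω => by
    simpa using Cfsg.Agent.S5726.sylow_orbit_dvd P ω (k := 1) (by
      rw [pow_one, Nat.card_eq_fintype_card, hΩ]; exact dvd_mul_left p m)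
  have hle : ∀ ω : Ω, Nat.card (orbit P ω) ≤ m * p := fun ω => by
    rw [← hΩ, ← Nat.card_eq_fintype_card]
    exact Nat.card_le_card_of_injective Subtype.val Subtype.val_injective
  by_cases hex : ∃ ω : Ω, Nat.card (orbit P ω) ≠ p
  · obtain ⟨ω, hω⟩ := hex
    obtain ⟨j, hj⟩ := P.isPGroup'.card_orbit ω
    have hj2 : 2 ≤ j := by
      rcases j with _ | _ | j
      · have := hdvd ω
        rw [hj, pow_zero] at this
        exact absurd (Nat.dvd_one.mp this) hp.one_lt.ne'
      · rw [pow_one] at hj; exact absurd hj hω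
      · omega
    have hge : p * p ≤ Nat.card (orbit P ω) := by
      rw [hj, ← sq]
      exact Nat.pow_le_pow_right hp.pos hj2
    have h2 : orbit P ω = Set.univ := by
      refine Set.eq_of_subset_of_ncard_le (Set.subset_univ _) ?_ (Set.toFinite _)
      rw [Set.ncard_univ, Nat.card_eq_fintype_card, hΩ, ← Nat.card_coe_set_eq]
      exact le_trans (Nat.mul_le_mul_right p hmp) hge
    refine Cfsg.Agent.S5726.exists_fpf_of_transitive_pGroup (P : Subgroup G) P.isPGroup' ω fun y => ?_
    obtain ⟨g, hg⟩ := (h2 ▸ Set.mem_univ y : y ∈ orbit P ω)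
    exact ⟨g, g.2, hg⟩
  push Not at hex
  -- every orbit of P has exactly p points
  have hper : ∀ (g : P) (ω : Ω), Function.minimalPeriod (g • ·) ω = 1 ∨ ∀ y ∈ orbit P ω, y ∈ orbit (Subgroup.zpowers g) ω := by
    intro g ω
    have hc := minimalPeriod_eq_card (a := g) (b := ω)
    have hsub : (orbit (Subgroup.zpowers g) ω : Set Ω) ⊆ orbit P ω := by
      rintro _ ⟨h, rfl⟩
      exact ⟨(h : P), rfl⟩
    have hP : IsPGroup p (Subgroup.zpowers g) := P.isPGroup'.to_subgroup _
    obtain ⟨i, hi⟩ := hP.card_orbit ω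
    rcases Nat.eq_zero_or_pos i with h0 | h0
    · left
      rw [hc, ← Nat.card_eq_fintype_card, hi, h0, pow_zero]
    · right
      intro y hy
      have : (orbit (Subgroup.zpowers g) ω : Set Ω) = orbit P ω := by
        refine Set.eq_of_subset_of_ncard_le hsub ?_ (Set.toFinite _)
        rw [← Nat.card_coe_set_eq, ← Nat.card_coe_set_eq, hex ω, hi]
        exact Nat.le_self_pow h0.ne' p
      rw [this]; exact hy
  have hfixorbit : ∀ (g : P) (ω y : Ω), g • ω = ω → y ∈ orbit P ω → g • y = y := by
    intro g ω y hg hy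
    rcases hper g y with h | h
    · exact Function.minimalPeriod_eq_one_iff_isFixedPt.mp h
    · have hωy : ω ∈ orbit P y := mem_orbit_symm.mp hy
      obtain ⟨z, hz⟩ := mem_orbit_symm.mp (h ω hωy)
      have hz' : (z : P) • ω = y := hz
      obtain ⟨i, hi⟩ := Subgroup.mem_zpowers_iff.mp z.2
      have hstab : (z : P) ∈ stabilizer P ω := by
        rw [← hi]; exact Subgroup.zpow_mem _ hg i
      rw [mem_stabilizer_iff.mp hstab] at hz'
      rw [← hz', hg]
  have hpow : ∀ (g : P) (ω : Ω), g ^ p • ω = ω := by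
    intro g ω
    rw [pow_smul_eq_iff_minimalPeriod_dvd]
    rcases hper g ω with h | h
    · rw [h]; exact one_dvd p
    · have hsub : (orbit (Subgroup.zpowers g) ω : Set Ω) = orbit P ω := Set.Subset.antisymm
        (by rintro _ ⟨z, rfl⟩; exact ⟨(z : P), rfl⟩) h
      rw [minimalPeriod_eq_card, ← Nat.card_eq_fintype_card, hsub, hex ω]
  let S : Finset (Subgroup P) := Finset.univ.image fun ω : Ω => stabilizer P ω
  have hS : p * S.card ≤ m * p := by
    rw [← hΩ, ← Finset.card_univ]
    refine Finset.mul_card_image_le_card _ p ?_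
    intro H hH
    obtain ⟨ω, -, rfl⟩ := Finset.mem_image.mp hH
    have hst : ∀ y ∈ orbit P ω, stabilizer P y = stabilizer P ω := fun y hy => by
      ext g
      exact ⟨fun hg => hfixorbit g y ω hg (mem_orbit_symm.mp hy), fun hg => hfixorbit g ω y hg hy⟩
    calc p = (orbit P ω).toFinset.card := by rw [Set.toFinset_card, ← Nat.card_eq_fintype_card, hex ω]
      _ ≤ _ := Finset.card_le_card fun y hy =>
        Finset.mem_filter.mpr ⟨Finset.mem_univ _, hst y (Set.mem_toFinset.mp hy)⟩
  have hS' : S.card ≤ p := by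
    have : S.card ≤ m := Nat.le_of_mul_le_mul_left (by rw [mul_comm m p] at hS; exact hS) hp.pos
    omega
  haveI : Fintype P := Fintype.ofFinite _
  let U : Finset P := insert 1 (S.biUnion fun H => (Finset.univ.filter fun g => g ∈ H).erase 1)
  have hU : U.card < Fintype.card P := by
    have hidx : ∀ H ∈ S, ((Finset.univ.filter fun g : P => g ∈ H).erase 1).card * p + p = Fintype.card P := by
      intro H hH
      obtain ⟨ω, -, rfl⟩ := Finset.mem_image.mp hH
      rw [Finset.card_erase_of_mem (by simp), Nat.sub_one_mul, Nat.sub_add_cancel ?_]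
      · rw [← Fintype.card_subtype, ← Nat.card_eq_fintype_card, ← Nat.card_eq_fintype_card,
          ← Nat.card_congr (orbitProdStabilizerEquivGroup P ω), Nat.card_prod, hex ω]
        exact mul_comm _ _
      · exact Nat.le_mul_of_pos_left p (Finset.card_pos.mpr ⟨1, by simp⟩)
    obtain ⟨ω⟩ : Nonempty Ω := inferInstance
    have hω := hidx _ (Finset.mem_image_of_mem _ (Finset.mem_univ ω))
    obtain ⟨c, hc⟩ : ∃ c, c * p + p = Fintype.card P := ⟨_, hω⟩
    have h1 : U.card ≤ (S.card * c) + 1 := by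
      refine le_trans (Finset.card_insert_le _ _) (Nat.add_le_add_right ?_ 1)
      refine Finset.card_biUnion_le_card_mul _ _ _ fun H hH => ?_
      exact (Nat.eq_of_mul_eq_mul_right hp.pos (Nat.add_right_cancel ((hidx H hH).trans hc.symm))).le
    have h3 : S.card * c ≤ p * c := Nat.mul_le_mul_right c hS'
    have := hp.one_lt
    rw [mul_comm c p] at hc
    omega
  obtain ⟨g, hg⟩ : ∃ g : P, g ∉ U := by
    by_contra hall
    push Not at hall
    rw [Finset.eq_univ_iff_forall.mpr hall, Finset.card_univ] at hU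
    exact lt_irrefl _ hU
  have hg1 : g ≠ 1 := fun h => hg (h ▸ Finset.mem_insert_self _ _)
  refine ⟨(g : G), ?_, fun ω hω => hg ?_⟩
  · rw [Subgroup.orderOf_coe]
    refine orderOf_eq_prime ?_ hg1
    exact Subtype.ext (eq_of_smul_eq_smul fun ω : Ω => by
      rw [show ((g ^ p : P) : G) • ω = g ^ p • ω from rfl, hpow]; simp)
  · refine Finset.mem_insert_of_mem (Finset.mem_biUnion.mpr ⟨stabilizer P ω,
      Finset.mem_image_of_mem _ (Finset.mem_univ ω), ?_⟩)
    exact Finset.mem_erase.mpr ⟨hg1, Finset.mem_filter.mpr ⟨Finset.mem_univ _, hω⟩⟩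

end Cfsg.Agent.S5727
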