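import Cfsg.Statements.S5728


set_option autoImplicit false
open Cfsg

namespace Cfsg.Agent.S5728

/-- `y ↦ a * y + b` as a permutation. -/
def aff {R : Type*} [Field R] (a : Rˣ) (b : R) : Equiv.Perm R where
  toFun y := (a : R) * y + b
  invFun y := ((a⁻¹ : Rˣ) : R) * (y - b)
  left_inv y := by simp [← mul_assoc]
  right_inv y := by simp [← mul_assoc]

theorem aff_apply {R : Type*} [Field R] (a : Rˣ) (b y : R) : aff a b y = (a : R) * y + b := rfl

theorem aff_mem {R : Type*} [Field R] (a : Rˣ) (b : R) : aff a b ∈ Cfsg.affineGroup R :=
  ⟨a, b, fun _ => rfl⟩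

/-- An elusive transitive action. Let p = 2^s − 1 be a prime and let F be the field with p² elements. Inside the group of affine maps x ↦ a·x + b of F (a ≠ 0), consider the subgroup of maps with both coefficients in the prime field. Then every element of prime order of the affine group is conjugate, within the affine group, to an element of that subgroup; equivalently, in the transitive action of the affine group on the cosets of that subgroup (of degree p(p + 1)) every element of prime order fixes a point. -/
theorem result (p s : ℕ) [Fact p.Prime] (hs : p = 2 ^ s - 1)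
    (g : Equiv.Perm (GaloisField p 2)) (hg : g ∈ Cfsg.affineGroup (GaloisField p 2)) (hord : (orderOf g).Prime) :
    ∃ x ∈ Cfsg.affineGroup (GaloisField p 2), ∃ a b : ZMod p, a ≠ 0 ∧
      ∀ y : GaloisField p 2, (x * g * x⁻¹) y = algebraMap (ZMod p) (GaloisField p 2) a * y + algebraMap (ZMod p) (GaloisField p 2) b := by
  classical
  haveI : Fintype (GaloisField p 2) := Fintype.ofFinite _
  obtain ⟨a, b, hg⟩ := hg
  set r := orderOf g with hr
  have hgr : g ^ r = 1 := pow_orderOf_eq_one g
  have hg1 : g ≠ 1 := fun h => by
    rw [hr, h, orderOf_one] at hord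
    exact Nat.not_prime_one hord
  by_cases ha : (a : (GaloisField p 2)) = 1
  · have hb : b ≠ 0 := fun h => hg1 (Equiv.ext fun y => by simp [hg, ha, h])
    refine ⟨aff (Units.mk0 b hb)⁻¹ 0, aff_mem _ _, 1, 1, one_ne_zero, fun y => ?_⟩
    rw [map_one, one_mul]
    set x := aff (Units.mk0 b hb)⁻¹ (0 : (GaloisField p 2)) with hx
    obtain ⟨z, rfl⟩ := x.surjective y
    simp only [Equiv.Perm.mul_apply, Equiv.Perm.inv_def, Equiv.symm_apply_apply]
    simp only [hx, aff_apply, hg, ha]
    simp only [Units.val_inv_eq_inv_val, Units.val_mk0]
    field_simp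
    ring
  · have hK2 : Nat.card (GaloisField p 2) = p ^ 2 := GaloisField.card p 2 two_ne_zero
    have ha1 : (1 : (GaloisField p 2)) - a ≠ 0 := sub_ne_zero.mpr (Ne.symm ha)
    set c := b / (1 - (a : (GaloisField p 2))) with hc
    have hfix : (a : (GaloisField p 2)) * c + b = c := by rw [hc]; field_simp; ring
    have hpow : ∀ k : ℕ, ∀ y, (g ^ k) y = (a : (GaloisField p 2)) ^ k * (y - c) + c := by
      intro k
      induction k with
      | zero => simp
      | succ k ih =>
        intro y
        rw [pow_succ', Equiv.Perm.mul_apply, hg, ih, pow_succ]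
        linear_combination hfix
    have har : (a : (GaloisField p 2)) ^ r = 1 := by
      have := hpow r (c + 1)
      rw [hgr] at this
      simp at this
      linear_combination -this
    have hau : orderOf a = r :=
      haveI : Fact r.Prime := ⟨hord⟩
      orderOf_eq_prime (Units.ext (by simpa using har)) fun h => ha (by rw [h]; rfl)
    have hdvd : r ∣ p ^ 2 - 1 := by
      rw [← hau, ← hK2, ← Nat.card_units]
      exact orderOf_dvd_natCard a
    have hpp : p.Prime := Fact.out
    have hsq : p ^ 2 - 1 = (p - 1) * 2 ^ s := by
      have h2 : 1 ≤ 2 ^ s := Nat.one_le_two_pow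
      have h3 : 2 ^ s = p + 1 := by omega
      rw [h3]
      have := Nat.sq_sub_sq p 1
      simpa [mul_comm] using this
    rw [hsq] at hdvd
    have hprime : ∃ z : ZMod p, z ≠ 0 ∧ algebraMap (ZMod p) (GaloisField p 2) z = (a : (GaloisField p 2)) := by
      have hfix' : (a : (GaloisField p 2)) ^ p = (a : (GaloisField p 2)) := by
        have hp1 : p = p - 1 + 1 := by have := hpp.pos; omega
        rcases hord.dvd_mul.mp hdvd with h | h
        · obtain ⟨k, hk⟩ := h
          calc (a : (GaloisField p 2)) ^ p = (a : (GaloisField p 2)) ^ (p - 1 + 1) := congrArg (fun i => (a : (GaloisField p 2)) ^ i) hp1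
            _ = _ := by rw [pow_succ, hk, pow_mul, har, one_pow, one_mul]
        · have h2 : r = 2 := (Nat.prime_dvd_prime_iff_eq hord Nat.prime_two).mp (hord.dvd_of_dvd_pow h)
          rw [h2] at har
          have hneg : (a : (GaloisField p 2)) = -1 := (sq_eq_one_iff.mp har).resolve_left ha
          rcases hpp.eq_two_or_odd' with h | h
          · exfalso
            have h2 : (2 : ℕ) ^ s = 3 := by have := Nat.one_le_two_pow (n := s); omega
            have h3 : 3 ∣ 2 := Nat.prime_three.dvd_of_dvd_pow (dvd_of_eq h2.symm)
            norm_num at h3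
          · rw [hneg, h.neg_one_pow]
      set f := algebraMap (ZMod p) (GaloisField p 2) with hf
      have hroots : ((Finset.univ.filter fun x : (GaloisField p 2) => x ^ p = x) : Finset (GaloisField p 2)) = Finset.univ.image f := by
        symm
        apply Finset.eq_of_subset_of_card_le
        · intro x hx
          obtain ⟨z, _, rfl⟩ := Finset.mem_image.mp hx
          simp [← map_pow]
        · rw [Finset.card_image_of_injective _ f.injective, Finset.card_univ, ZMod.card]
          have hne : (Polynomial.X ^ p - Polynomial.X : Polynomial (GaloisField p 2)) ≠ 0 :=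
            FiniteField.X_pow_card_sub_X_ne_zero (GaloisField p 2) hpp.one_lt
          calc _ ≤ (Polynomial.X ^ p - Polynomial.X : Polynomial (GaloisField p 2)).natDegree :=
                Polynomial.card_le_degree_of_subset_roots (fun x hx => by
                  rw [Finset.mem_val, Finset.mem_filter] at hx
                  simp [Polynomial.mem_roots hne, hx.2])
            _ = p := FiniteField.X_pow_card_sub_X_natDegree_eq (GaloisField p 2) hpp.one_lt
      have hmem : (a : (GaloisField p 2)) ∈ Finset.univ.image f := by rw [← hroots]; simp [hfix']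
      obtain ⟨z, _, hz⟩ := Finset.mem_image.mp hmem
      exact ⟨z, fun h => a.ne_zero (by rw [← hz, h, map_zero]), hz⟩
    obtain ⟨z, hz0, hz⟩ := hprime
    refine ⟨aff 1 (-c), aff_mem _ _, z, 0, hz0, fun y => ?_⟩
    rw [map_zero, add_zero, hz]
    set x := aff (1 : (GaloisField p 2)ˣ) (-c) with hx
    obtain ⟨w, rfl⟩ := x.surjective y
    simp only [Equiv.Perm.mul_apply, Equiv.Perm.inv_def, Equiv.symm_apply_apply]
    simp only [hx, aff_apply, hg, Units.val_one, one_mul]
    linear_combination hfix

end Cfsg.Agent.S5728
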