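import Cfsg.Statements.S5729
-- import your own Cfsg.Agent.* helpers here

set_option autoImplicit false
open Cfsg

namespace Cfsg.Agent.S5729

open MulAction

/-- Let a finite group G act faithfully and transitively on a set with n ≥ 3 points. Then either G is a Frobenius permutation group (Frobenius as a permutation group: transitive, some non-identity element fixes a point, and no non-identity element fixes two points) of order n(n − 1) and exactly |G|/n of its elements are derangements (fix no point), or the number of derangements is greater than |G|/n. -/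
theorem result {G Ω : Type*} [Group G] [Finite G] [MulAction G Ω] [FaithfulSMul G Ω] [Fintype Ω] (htr : MulAction.IsPretransitive G Ω) (hn : 3 ≤ Fintype.card Ω) :
    ((MulAction.IsPretransitive G Ω ∧ (∃ g : G, g ≠ 1 ∧ ∃ ω : Ω, g • ω = ω) ∧ ∀ g : G, g ≠ 1 → Nat.card (MulAction.fixedBy Ω g) ≤ 1) ∧ Nat.card G = Fintype.card Ω * (Fintype.card Ω - 1) ∧ Fintype.card Ω * Nat.card {g : G // ∀ ω : Ω, g • ω ≠ ω} = Nat.card G) ∨
    Nat.card G < Fintype.card Ω * Nat.card {g : G // ∀ ω : Ω, g • ω ≠ ω} := by
  classical
  haveI := htr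
  haveI : Fintype G := Fintype.ofFinite G
  haveI : Nonempty Ω := Fintype.card_pos_iff.mp (by omega)
  haveI : Nontrivial Ω := Fintype.one_lt_card_iff_nontrivial.mp (by omega)
  set N := Fintype.card Ω with hN
  set f : G → ℕ := fun g => Nat.card (fixedBy Ω g) with hf
  set D := Nat.card {g : G // ∀ ω : Ω, g • ω ≠ ω} with hD
  haveI : Fintype (Quotient (orbitRel G Ω)) := Fintype.ofFinite _
  haveI : Fintype (Quotient (orbitRel G (Ω × Ω))) := Fintype.ofFinite _
  set r := Fintype.card (Quotient (orbitRel G (Ω × Ω))) with hr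
  have hcard : Fintype.card G = Nat.card G := (Nat.card_eq_fintype_card).symm
  have hs1 : ∑ g : G, f g = Fintype.card G := by
    have h := sum_card_fixedBy_eq_card_orbits_mul_card_group G Ω
    have h1 : Fintype.card (Quotient (orbitRel G Ω)) = 1 := by
      rw [Fintype.card_eq_one_iff]
      obtain ⟨ω⟩ : Nonempty Ω := inferInstance
      refine ⟨Quotient.mk _ ω, fun q => ?_⟩
      induction q using Quotient.inductionOn with
      | h y => exact Quotient.sound (exists_smul_eq G ω y)
    rw [h1, one_mul] at h
    rw [← h]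
    exact Finset.sum_congr rfl fun g _ => Nat.card_eq_fintype_card
  have hs2 : ∑ g : G, f g * f g = r * Fintype.card G := by
    have h := sum_card_fixedBy_eq_card_orbits_mul_card_group G (Ω × Ω)
    rw [← h]
    refine Finset.sum_congr rfl fun g _ => ?_
    rw [← Nat.card_eq_fintype_card]
    show Nat.card (fixedBy Ω g) * Nat.card (fixedBy Ω g) = _
    rw [← Nat.card_prod]
    refine Nat.card_congr ⟨fun x => ⟨(x.1.1, x.2.1), ?_⟩, fun x => (⟨x.1.1, ?_⟩, ⟨x.1.2, ?_⟩), ?_, ?_⟩
    · exact Prod.ext x.1.2 x.2.2
    · exact congrArg Prod.fst x.2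
    · exact congrArg Prod.snd x.2
    · intro x; rfl
    · intro x; rfl
  have hfle : ∀ g, f g ≤ N := fun g => by
    rw [hN, ← Nat.card_eq_fintype_card]
    exact Nat.card_le_card_of_injective Subtype.val Subtype.val_injective
  have hf0 : ∀ g, f g = 0 ↔ ∀ ω : Ω, g • ω ≠ ω := fun g => by
    simp [hf, Nat.card_eq_zero, Set.eq_empty_iff_forall_notMem]
  set T : G → ℤ := fun g => if f g = 0 then 0 else ((f g : ℤ) - 1) * ((N : ℤ) - f g) with hT
  have hT0 : ∀ g, 0 ≤ T g := fun g => by
    have := hfle g
    simp only [hT]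
    split_ifs with h
    · exact le_rfl
    · exact mul_nonneg (by omega) (by omega)
  have hsplit : ∀ g, ((f g : ℤ) - 1) * ((N : ℤ) - f g) = T g - (N : ℤ) * (if f g = 0 then 1 else 0) := fun g => by
    simp only [hT]
    split_ifs with h
    · rw [h]; push_cast; ring
    · ring
  have hDsum : ∑ g : G, (if f g = 0 then (1 : ℤ) else 0) = D := by
    rw [Finset.sum_boole, hD, Nat.card_eq_fintype_card, Fintype.card_subtype]
    congr 2
    ext g
    simp [hf0]
  have key : (N : ℤ) * D = ((r : ℤ) - 1) * Fintype.card G + ∑ g, T g := by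
    have h1 : ∑ g : G, ((f g : ℤ) - 1) * ((N : ℤ) - f g)
        = ((N : ℤ) + 1) * ((∑ g : G, f g : ℕ) : ℤ) - ((∑ g : G, f g * f g : ℕ) : ℤ) - N * Fintype.card G := by
      push_cast
      rw [Finset.mul_sum, ← Finset.sum_sub_distrib,
        show (N : ℤ) * Fintype.card G = ∑ _g : G, (N : ℤ) by simp [mul_comm], ← Finset.sum_sub_distrib]
      exact Finset.sum_congr rfl fun g _ => by ring
    have h2 : ∑ g : G, ((f g : ℤ) - 1) * ((N : ℤ) - f g) = ∑ g, T g - (N : ℤ) * D := by
      rw [Finset.sum_congr rfl fun g _ => hsplit g, Finset.sum_sub_distrib, ← Finset.mul_sum, hDsum]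
    rw [hs1, hs2] at h1
    push_cast at h1
    rw [h2] at h1
    linear_combination (-1 : ℤ) * h1
  by_cases hlt : Nat.card G < N * D
  · exact Or.inr hlt
  left
  obtain ⟨x, y, hxy⟩ := exists_pair_ne Ω
  have hclass : Quotient.mk (orbitRel G (Ω × Ω)) (x, x) ≠ Quotient.mk _ (x, y) := by
    intro h
    obtain ⟨g, hg⟩ := Quotient.exact h
    have hg1 := congrArg Prod.fst hg
    have hg2 := congrArg Prod.snd hg
    simp only [Prod.smul_fst, Prod.smul_snd] at hg1 hg2
    exact hxy (smul_left_cancel g (hg1.trans hg2.symm |>.symm ▸ rfl))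
  have hr2 : 2 ≤ r := Fintype.one_lt_card_iff.mpr ⟨_, _, hclass⟩
  have hG : 0 < Fintype.card G := Fintype.card_pos
  have hle : (N : ℤ) * D ≤ Fintype.card G := by
    have : N * D ≤ Fintype.card G := by omega
    exact_mod_cast this
  have hTs : 0 ≤ ∑ g, T g := Finset.sum_nonneg fun g _ => hT0 g
  have hr' : r = 2 := by
    by_contra h
    have h3 : (3 : ℤ) ≤ r := by omega
    nlinarith
  have hTz : ∑ g, T g = 0 := by rw [hr'] at key; push_cast at key; linarith
  have hND : N * D = Fintype.card G := by
    have : ((N * D : ℕ) : ℤ) = (Fintype.card G : ℤ) := by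
      push_cast; rw [key, hTz, hr']; push_cast; ring
    exact_mod_cast this
  have hone : ∀ g : G, g ≠ 1 → f g ≤ 1 := by
    intro g hg
    by_contra h
    have hz := (Finset.sum_eq_zero_iff_of_nonneg fun g _ => hT0 g).mp hTz g (Finset.mem_univ _)
    simp only [hT] at hz
    rw [if_neg (by omega)] at hz
    rcases mul_eq_zero.mp hz with h' | h'
    · omega
    · refine hg (eq_of_smul_eq_smul fun ω : Ω => ?_)
      have : fixedBy Ω g = Set.univ := by
        refine Set.eq_of_subset_of_ncard_le (Set.subset_univ _) ?_ (Set.toFinite _)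
        rw [Set.ncard_univ, Nat.card_eq_fintype_card, ← Nat.card_coe_set_eq]
        show Fintype.card Ω ≤ f g
        omega
      rw [one_smul]
      exact (this ▸ Set.mem_univ ω : ω ∈ fixedBy Ω g)
  have hfree : stabilizer G (x, y) = ⊥ := by
    refine (Subgroup.eq_bot_iff_forall _).mpr fun g hg => ?_
    by_contra h
    have h1 := hone g h
    have h2 : ({x, y} : Set Ω) ⊆ fixedBy Ω g := by
      rintro z (rfl | rfl)
      · exact congrArg Prod.fst hg
      · exact congrArg Prod.snd hg
    have h3 := Set.ncard_le_ncard h2 (Set.toFinite _)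
    rw [Set.ncard_pair hxy, ← Nat.card_coe_set_eq] at h3
    simp only [hf] at h1
    omega
  have horb : Nat.card (orbit G (x, y)) = N * (N - 1) := by
    have : orbit G (x, y) = {p : Ω × Ω | p.1 ≠ p.2} := by
      ext ⟨u, v⟩
      constructor
      · rintro ⟨g, hg⟩
        have hg1 := congrArg Prod.fst hg
        have hg2 := congrArg Prod.snd hg
        simp only [Prod.smul_fst, Prod.smul_snd] at hg1 hg2
        intro h
        exact hxy (smul_left_cancel g (hg1.trans (h.trans hg2.symm)))
      · intro huv
        have huniv : (Finset.univ : Finset (Quotient (orbitRel G (Ω × Ω))))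
            = {Quotient.mk _ (x, x), Quotient.mk _ (x, y)} := by
          symm
          apply Finset.eq_univ_of_card
          rw [Finset.card_pair hclass, ← hr, hr']
        have hm := Finset.mem_univ (Quotient.mk (orbitRel G (Ω × Ω)) (u, v))
        rw [huniv, Finset.mem_insert, Finset.mem_singleton] at hm
        rcases hm with h | h
        · obtain ⟨g, hg⟩ := Quotient.exact h
          exact absurd ((congrArg Prod.fst hg).symm.trans (congrArg Prod.snd hg)) huv
        · exact Quotient.exact h
    rw [this, Nat.card_eq_fintype_card]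
    have hoff : Fintype.card {p : Ω × Ω | p.1 ≠ p.2} = (Finset.univ : Finset Ω).offDiag.card := by
      rw [← Set.toFinset_card]
      congr 1
      ext p
      simp
    rw [hoff, Finset.offDiag_card, Finset.card_univ, Nat.mul_sub, mul_one]
  have hGN : Nat.card G = N * (N - 1) := by
    rw [← horb, ← Nat.card_congr (orbitProdStabilizerEquivGroup G (x, y)), Nat.card_prod, hfree,
      Subgroup.card_bot, mul_one]
  refine ⟨⟨htr, ?_, hone⟩, hGN, by rw [hND, hcard]⟩
  have hst : Nat.card (stabilizer G x) * N = N * (N - 1) := by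
    rw [← hGN, hN, ← Nat.card_eq_fintype_card, ← index_stabilizer_of_transitive G x]
    exact Subgroup.card_mul_index _
  have hlt1 : 1 < Nat.card (stabilizer G x) := by
    have h := Nat.eq_of_mul_eq_mul_right (show 0 < N by omega) (hst.trans (mul_comm _ _))
    omega
  haveI := Finite.one_lt_card_iff_nontrivial.mp hlt1
  obtain ⟨g, hg⟩ := exists_ne (1 : stabilizer G x)
  exact ⟨g, fun h => hg (Subtype.ext h), x, g.2⟩

end Cfsg.Agent.S5729
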