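import Cfsg.Statements.S5730
import Cfsg.Agent.Lib.OddLocal.DerangementTwo
import Cfsg.Agent.S5729

set_option autoImplicit false
open Cfsg

namespace Cfsg.Agent.S5730

open Cfsg.Agent.OddLocal.Derangement

/-- Let a finite group G act faithfully and transitively on a set with n ≥ 7 points. Then either G is a Frobenius permutation group (Frobenius as a permutation group: transitive, some non-identity element fixes a point, and no non-identity element fixes two points) of order n(n − 1)/a with a ∈ {1, 2}, in which case exactly a|G|/n of its elements are derangements, or the number of derangements is at least 2|G|/n. (Equality does occur: PSL₃(2) acting on the 7 points of the Fano plane has exactly 2|G|/7 derangements.) -/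
theorem result {G Ω : Type*} [Group G] [Finite G] [MulAction G Ω] [FaithfulSMul G Ω] [Fintype Ω] (htr : MulAction.IsPretransitive G Ω) (hn : 7 ≤ Fintype.card Ω) :
    (∃ a : ℕ, (a = 1 ∨ a = 2) ∧ (MulAction.IsPretransitive G Ω ∧ (∃ g : G, g ≠ 1 ∧ ∃ ω : Ω, g • ω = ω) ∧ ∀ g : G, g ≠ 1 → Nat.card (MulAction.fixedBy Ω g) ≤ 1) ∧ a * Nat.card G = Fintype.card Ω * (Fintype.card Ω - 1) ∧ Fintype.card Ω * Nat.card {g : G // ∀ ω : Ω, g • ω ≠ ω} = a * Nat.card G) ∨
    2 * Nat.card G ≤ Fintype.card Ω * Nat.card {g : G // ∀ ω : Ω, g • ω ≠ ω} := by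
  classical
  haveI := htr
  haveI : Fintype G := Fintype.ofFinite G
  haveI : Nonempty Ω := Fintype.card_pos_iff.mp (by omega)
  haveI : Nontrivial Ω := Fintype.one_lt_card_iff_nontrivial.mp (by omega)
  obtain ⟨x, y, hxy⟩ := exists_pair_ne Ω
  have hrb := rank_bound (G := G) (Ω := Ω)
  by_cases hr : Nat.card (MulAction.orbitRel.Quotient G (Ω × Ω)) = 2
  swap
  · right
    have h1 : 1 < Nat.card (MulAction.orbitRel.Quotient G (Ω × Ω)) := by
      haveI : Fintype (MulAction.orbitRel.Quotient G (Ω × Ω)) := Fintype.ofFinite _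
      rw [Nat.card_eq_fintype_card, Fintype.one_lt_card_iff]
      refine ⟨Quotient.mk _ (x, x), Quotient.mk _ (x, y), fun h => ?_⟩
      obtain ⟨g, hg⟩ := Quotient.exact h
      have hg1 : g • x = x := congrArg Prod.fst hg
      have hg2 : g • y = x := congrArg Prod.snd hg
      exact hxy (smul_left_cancel g (hg1.trans hg2.symm))
    have h3 : (3 : ℤ) ≤ Nat.card (MulAction.orbitRel.Quotient G (Ω × Ω)) := by omega
    have h4 : (2 * (Nat.card G : ℤ)) ≤ Fintype.card Ω * Nat.card {g : G // ∀ ω : Ω, g • ω ≠ ω} := by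
      nlinarith [Int.natCast_nonneg (Nat.card G)]
    exact_mod_cast h4
  have h2t : ∀ a b u v : Ω, a ≠ b → u ≠ v → ∃ g : G, g • a = u ∧ g • b = v := by
    intro a b u v hab huv
    obtain ⟨g, hg1, hg2⟩ := two_transitive_of_rank_two hxy hr hab
    obtain ⟨k, hk1, hk2⟩ := two_transitive_of_rank_two hxy hr huv
    refine ⟨k * g⁻¹, ?_, ?_⟩
    · rw [mul_smul, ← hg1, inv_smul_smul, hk1]
    · rw [mul_smul, ← hg2, inv_smul_smul, hk2]
  by_cases hh : 2 ≤ Nat.card ↥(stab2 G x y)
  · exact Or.inr (two_transitive_bound h2t hn hxy hh)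
  left
  have hfree : ∀ g : G, g ≠ 1 → Nat.card (MulAction.fixedBy Ω g) ≤ 1 := by
    intro g hg
    by_contra hf
    haveI : Nontrivial (MulAction.fixedBy Ω g) := Finite.one_lt_card_iff_nontrivial.mp (by omega)
    obtain ⟨⟨u, hu⟩, ⟨v, hv⟩, huv⟩ := exists_pair_ne (MulAction.fixedBy Ω g)
    obtain ⟨k, hk1, hk2⟩ := h2t x y u v hxy (fun e => huv (Subtype.ext e))
    have hu' : g • u = u := hu
    have hv' : g • v = v := hv
    have hmem : k⁻¹ * g * k ∈ stab2 G x y := by
      simp [mem_stab2, mul_smul, hk1, hk2, hu', hv', inv_smul_eq_iff]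
    haveI : Subsingleton (stab2 G x y) :=
      Finite.card_le_one_iff_subsingleton.mp (by omega)
    have he := congrArg Subtype.val (Subsingleton.elim (⟨_, hmem⟩ : stab2 G x y) 1)
    apply hg
    simpa [mul_assoc, inv_mul_eq_one] using he
  rcases Cfsg.Agent.S5729.result (G := G) (Ω := Ω) htr (by omega) with ⟨hfrob, hcard, hD⟩ | hlt
  · exact ⟨1, Or.inl rfl, hfrob, by rw [one_mul]; exact hcard, by rw [one_mul]; exact hD⟩
  exfalso
  -- a sharply 2-transitive group has exactly `n - 1` derangements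
  have hc1 : Nat.card ↥(stab2 G x y) = 1 := by
    have := Nat.card_pos (α := stab2 G x y)
    omega
  exact sharply_false (G := G) h2t hxy hc1 hfree hlt

end Cfsg.Agent.S5730
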