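import Cfsg.Statements.S5738
import Cfsg.Agent.Lib.MaxSub.Singer

set_option autoImplicit false
open Cfsg

namespace Cfsg.Agent.S5738

open Cfsg.Agent.Lib.MaxSub in
/-- Let F ⊆ K be finite fields with |F| = q and [K : F] = n ≥ 2, so |K| = q^n. Regard K as an n-dimensional F-vector space; the multiplications by non-zero elements of K form a cyclic subgroup of GL_F(K) of order q^n − 1 acting regularly on the non-zero vectors (a Singer group). Its normaliser in GL_F(K) has order n·(q^n − 1). -/
theorem result {F K : Type*} [Field F] [Fintype F] [Field K] [Fintype K] [Algebra F K] (n : ℕ) (hn : 2 ≤ n) (hdim : Module.finrank F K = n) :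
    Nat.card (Subgroup.normalizer (((Units.map ((Algebra.lmul F K : K →ₐ[F] Module.End F K) : K →* Module.End F K)).range : Subgroup (Module.End F K)ˣ) : Set (Module.End F K)ˣ)) = n * (Fintype.card K - 1) := by
  classical
  have hfin : Module.Finite F K := Module.Finite.of_finite
  have e : (Kˣ × (K ≃ₐ[F] K)) ≃ ↥(Subgroup.normalizer ((Singer.mu F K).range : Set (Module.End F K)ˣ)) :=
    Equiv.ofBijective (fun p => ⟨Singer.mu F K p.1 * Singer.galUnit p.2,
      (Singer.mem_normalizer_iff' _).mpr ⟨p.1, p.2, rfl⟩⟩) ⟨fun p q h => by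
        obtain ⟨h1, h2⟩ := Singer.pair_injective (congrArg Subtype.val h)
        exact Prod.ext h1 h2, fun g => by
        obtain ⟨c, σ, h⟩ := (Singer.mem_normalizer_iff' g.1).mp g.2
        exact ⟨(c, σ), Subtype.ext h.symm⟩⟩
  show Nat.card ↥(Subgroup.normalizer ((Singer.mu F K).range : Set (Module.End F K)ˣ)) = _
  rw [← Nat.card_congr e, Nat.card_prod, IsGalois.card_aut_eq_finrank, hdim, Nat.card_units,
    Nat.card_eq_fintype_card, mul_comm]

end Cfsg.Agent.S5738
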