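import Cfsg.Statements.S5739
import Cfsg.Agent.Lib.MaxSub.Singer

set_option autoImplicit false
open Cfsg

namespace Cfsg.Agent.S5739

open Cfsg.Agent.Lib.MaxSub

variable {F K : Type*} [Field F] [Field K] [Algebra F K]

/-- The elements of `K` whose multiplication, conjugated back by `g`, is a multiplication. -/
noncomputable def pulled (g : (Module.End F K)ˣ) : Subalgebra F K :=
  Subalgebra.comap (Algebra.lmul F K)
    { carrier := {T : Module.End F K | ∃ y : K, T * (g : Module.End F K) = (g : Module.End F K) * Algebra.lmul F K y}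
      mul_mem' := by
        rintro S T ⟨y, hy⟩ ⟨z, hz⟩
        exact ⟨y * z, by rw [mul_assoc, hz, ← mul_assoc, hy, mul_assoc, map_mul]⟩
      one_mem' := ⟨1, by rw [map_one, one_mul, mul_one]⟩
      add_mem' := by
        rintro S T ⟨y, hy⟩ ⟨z, hz⟩
        exact ⟨y + z, by rw [add_mul, hy, hz, map_add, mul_add]⟩
      zero_mem' := ⟨0, by rw [map_zero, zero_mul, mul_zero]⟩
      algebraMap_mem' := fun r => ⟨algebraMap F K r, by
        rw [AlgHom.commutes, Algebra.commutes]⟩ }

theorem mem_pulled_iff (g : (Module.End F K)ˣ) (x : K) :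
    x ∈ pulled g ↔ ∃ y : K, Algebra.lmul F K x * (g : Module.End F K) = (g : Module.End F K) * Algebra.lmul F K y :=
  Iff.rfl

theorem mem_conj_range_iff (g : (Module.End F K)ˣ) (a : Kˣ) :
    Singer.mu F K a ∈ (Singer.mu F K).range.map (MulAut.conj g).toMonoidHom ↔ (a : K) ∈ pulled g := by
  rw [mem_pulled_iff]
  constructor
  · rintro ⟨_, ⟨b, rfl⟩, hb⟩
    refine ⟨(b : K), ?_⟩
    have h : Singer.mu F K a * g = g * Singer.mu F K b := by
      rw [← hb]; simp
    exact congrArg Units.val h
  · rintro ⟨y, hy⟩
    have hy0 : y ≠ 0 := by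
      rintro rfl
      rw [map_zero, mul_zero] at hy
      have : Algebra.lmul F K (a : K) = 0 := (Units.mul_left_eq_zero g).mp hy
      exact a.ne_zero (Algebra.lmul_injective (R := F) (by rw [this, map_zero]))
    refine ⟨Singer.mu F K (Units.mk0 y hy0), ⟨_, rfl⟩, ?_⟩
    have h : Singer.mu F K a * g = g * Singer.mu F K (Units.mk0 y hy0) := Units.ext hy
    show g * _ * g⁻¹ = _
    rw [← h, mul_inv_cancel_right]

/-- Let F ⊆ K be finite fields with |F| = q and [K : F] = n ≥ 2, and let M ≤ GL_F(K) be the Singer group of multiplications by non-zero elements of K. If g ∈ GL_F(K) does not normalise M, then the order of M ∩ gMg⁻¹ divides q^r − 1 for some proper divisor r of n. In particular, when n is prime, that order divides q − 1. -/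
theorem result {F K : Type*} [Field F] [Fintype F] [Field K] [Fintype K] [Algebra F K] (n : ℕ) (hn : 2 ≤ n) (hdim : Module.finrank F K = n)
    (g : (Module.End F K)ˣ) (hg : ((Units.map ((Algebra.lmul F K : K →ₐ[F] Module.End F K) : K →* Module.End F K)).range).map (MulAut.conj g).toMonoidHom ≠ (Units.map ((Algebra.lmul F K : K →ₐ[F] Module.End F K) : K →* Module.End F K)).range) :
    ∃ r : ℕ, 1 ≤ r ∧ r ∣ n ∧ r < n ∧ Nat.card ↥(((Units.map ((Algebra.lmul F K : K →ₐ[F] Module.End F K) : K →* Module.End F K)).range).map (MulAut.conj g).toMonoidHom ⊓ (Units.map ((Algebra.lmul F K : K →ₐ[F] Module.End F K) : K →* Module.End F K)).range) ∣ Fintype.card F ^ r - 1 := by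
  classical
  haveI : Finite (Module.End F K) := Module.finite_of_finite F
  change ∃ r : ℕ, 1 ≤ r ∧ r ∣ n ∧ r < n ∧ Nat.card ↥(((Singer.mu F K).range).map (MulAut.conj g).toMonoidHom ⊓ (Singer.mu F K).range) ∣ Fintype.card F ^ r - 1
  change ((Singer.mu F K).range).map (MulAut.conj g).toMonoidHom ≠ (Singer.mu F K).range at hg
  have hfin : Module.Finite F K := Module.Finite.of_finite
  have : IsDomain (pulled g) := inferInstance
  have hfield : IsField (pulled g) := Finite.isField_of_domain _
  letI : Field (pulled g) := hfield.toField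
  have hne : pulled g ≠ ⊤ := by
    intro htop
    apply hg
    symm
    apply Subgroup.eq_of_le_of_card_ge
    · rintro _ ⟨a, rfl⟩
      rw [mem_conj_range_iff, htop]
      exact Algebra.mem_top
    · rw [Subgroup.card_map_of_injective (MulAut.conj g).injective]
  have hdvd : Module.finrank F (pulled g) ∣ n := by
    rw [← hdim, ← Module.finrank_mul_finrank F (pulled g) K]
    exact dvd_mul_right _ _
  have hlt : Module.finrank F (pulled g) < n := by
    rw [← hdim]
    exact Submodule.finrank_lt (s := Subalgebra.toSubmodule (pulled g)) fun h =>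
      hne (Algebra.toSubmodule_eq_top.mp h)
  refine ⟨_, Module.finrank_pos, hdvd, hlt, ?_⟩
  have hcard : Nat.card (pulled g)ˣ = Fintype.card F ^ Module.finrank F (pulled g) - 1 := by
    rw [Nat.card_units, Module.natCard_eq_pow_finrank (K := F) (V := pulled g),
      Nat.card_eq_fintype_card]
  rw [← hcard]
  let ψ : (pulled g)ˣ →* (Module.End F K)ˣ :=
    (Singer.mu F K).comp (Units.map ((pulled g).val : pulled g →* K))
  have hψ : Function.Injective ψ :=
    Singer.mu_injective.comp (Units.map_injective (Subtype.val_injective))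
  have hle : ((Singer.mu F K).range).map (MulAut.conj g).toMonoidHom ⊓ (Singer.mu F K).range ≤ ψ.range := by
    rintro u ⟨h1, a, rfl⟩
    have ha := (mem_conj_range_iff g a).mp h1
    refine ⟨Units.mk0 ⟨(a : K), ha⟩ fun h => a.ne_zero (congrArg Subtype.val h), ?_⟩
    exact congrArg (Singer.mu F K) (Units.ext rfl)
  rw [Nat.card_congr (MonoidHom.ofInjective hψ).toEquiv]
  exact Subgroup.card_dvd_of_le hle

end Cfsg.Agent.S5739
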