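import Cfsg.Statements.S5743
import Cfsg.Agent.Lib.Chev.FoldF4Classes

set_option autoImplicit false
open Cfsg

namespace Cfsg.Agent.S5743

open Cfsg.Agent.Lib.Chev Cfsg.Agent.Lib.Chev.FoldF4

/-- The simple group ²E₆(2) (the twisted group of type E₆ over the field with 4 elements) contains at least three pairwise non-conjugate subgroups isomorphic to the Chevalley group F₄(2). -/
theorem result {K : Type*} [Field K] [Fintype K] (hK : Fintype.card K = 4) :
    ∃ H : Fin 3 → Subgroup (Cfsg.Lie.twistedE6 K 2),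
      (∀ i, Nonempty ((H i) ≃* Cfsg.Lie.chevF4.group (ZMod 2))) ∧
      (∀ i j, i ≠ j → ∀ g : (Cfsg.Lie.twistedE6 K 2), (H i).map (MulAut.conj g).toMonoidHom ≠ H j) := by
  classical
  have h2 : (2 : K) = 0 := by
    have h4 : ((4 : ℕ) : K) = 0 := by rw [← hK]; exact Nat.cast_card_eq_zero K
    have : (2 : K) * 2 = 0 := by norm_num at h4 ⊢; exact h4
    exact mul_self_eq_zero.1 this
  have h3 : ∀ x : K, x ≠ 0 → x ^ 3 = 1 := fun x hx => by
    have := FiniteField.pow_card_sub_one_eq_one x hx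
    rwa [hK] at this
  obtain ⟨ω, hω, hω1⟩ : ∃ ω : K, ω ≠ 0 ∧ ω ≠ 1 := by
    by_contra hcon
    push Not at hcon
    have hsub : (Finset.univ : Finset K) ⊆ {0, 1} := fun x _ => by
      rw [Finset.mem_insert, Finset.mem_singleton]
      by_cases hx : x = 0
      · exact Or.inl hx
      · exact Or.inr (hcon x hx)
    have := (Finset.card_le_card hsub).trans Finset.card_le_two
    rw [Finset.card_univ, hK] at this
    omega
  let F : Fin 3 → Subgroup (GL Cfsg.Lie.chevE6.Idx K) := fun i =>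
    (emb (K := K) h2).range.map (MulAut.conj (dd ω hω (i.val : ℤ))).toMonoidHom
  have hle : ∀ i, F i ≤ TG K := by
    rintro i _ ⟨_, ⟨x, rfl⟩, rfl⟩
    exact dd_TG ω hω (h3 ω hω) _ (emb_mem_TG h2 x)
  refine ⟨fun i => (F i).subgroupOf (TG K), fun i => ⟨?_⟩, fun i j hij g hg => ?_⟩
  · exact (Subgroup.subgroupOfEquivOfLe (hle i)).trans
      (((MulEquiv.subgroupMap (MulAut.conj (dd ω hω (i.val : ℤ))) _).symm).trans
        (MonoidHom.ofInjective (emb_injective (K := K) h2)).symm)
  have key : ω ^ (8 * ((i.val : ℤ) - (j.val : ℤ))) = 1 := by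
    refine not_conjugate h2 hω h3 _ _ g.2 fun y hy => ?_
    have hy1 : dd ω hω (i.val : ℤ) * y * (dd ω hω (i.val : ℤ))⁻¹ ∈ F i := ⟨y, hy, rfl⟩
    have h1 : g * (⟨_, hle i hy1⟩ : ↥(Cfsg.Lie.twistedE6 K 2)) * g⁻¹ ∈ (F j).subgroupOf (TG K) := by
      have hg' := hg
      dsimp only at hg'
      rw [← hg']
      exact ⟨⟨_, hle i hy1⟩, hy1, rfl⟩
    obtain ⟨y', hy', e⟩ := h1
    exact ⟨y', hy', e.symm⟩
  have h8 : ∀ m : ℤ, ω ^ (8 * m) = ω ^ (2 * m) := fun m => by
    rw [show 8 * m = 2 * m + 3 * (2 * m) by ring, zpow_add₀ hω, zpow_mul ω 3,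
      show (3 : ℤ) = ((3 : ℕ) : ℤ) from rfl, zpow_natCast, h3 ω hω, one_zpow, mul_one]
  have hne : (i.val : ℤ) - (j.val : ℤ) ≠ 0 := fun h => hij (Fin.ext (by omega))
  have hi := i.isLt
  have hj := j.isLt
  generalize hm : (i.val : ℤ) - (j.val : ℤ) = m at key hne
  have hm1 : -2 ≤ m := by omega
  have hm2 : m ≤ 2 := by omega
  rw [h8] at key
  have hw3 := h3 ω hω
  have hfin : ω ^ 2 = 1 → False := fun h => hω1 (by
    rw [pow_succ, h, one_mul] at hw3; exact hw3)
  have hfin4 : ω ^ 4 = 1 → False := fun h => hω1 (by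
    rw [pow_succ, hw3, one_mul] at h; exact h)
  interval_cases m
  · norm_num at key; exact hfin4 key
  · norm_num at key; rcases key with key | key <;> exact hω1 (by first | exact key | rw [key, neg_one_two h2])
  · exact hne rfl
  · norm_num at key; rcases key with key | key <;> exact hω1 (by first | exact key | rw [key, neg_one_two h2])
  · norm_num at key; exact hfin4 key

end Cfsg.Agent.S5743
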