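import Cfsg.Statements.S5746
import Cfsg.Agent.Lib.Recognition.G24J2Prim
import Cfsg.Agent.Lib.ChevFix.Basic
-- import your own Cfsg.Agent.* helpers here

set_option autoImplicit false
open Cfsg

namespace Cfsg.Agent.S5746

open Cfsg.Agent.Lib.Recognition Cfsg.Agent.Lib.Chev Cfsg.Agent.Lib.ChevFix

/-- Transport of the group along an isomorphism of fields. -/
noncomputable def groupEquiv {F K : Type*} [Field F] [Field K] (e : F ≃+* K) :
    ↥(Cfsg.Lie.chevG2.group F) ≃* ↥(Cfsg.Lie.chevG2.group K) where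
  toFun g := ⟨glMap _ e.toRingHom g.1, glMap_mem_group goodG2 _ g.2⟩
  invFun g := ⟨glMap _ e.symm.toRingHom g.1, glMap_mem_group goodG2 _ g.2⟩
  left_inv g := Subtype.ext (Units.ext (by rw [glMap_val, glMap_val]; ext i j; simp))
  right_inv g := Subtype.ext (Units.ext (by rw [glMap_val, glMap_val]; ext i j; simp))
  map_mul' g h := Subtype.ext (map_mul _ _ _)

/-- The Chevalley group G₂(4) (over the field with 4 elements) has a maximal subgroup H isomorphic to the Hall–Janko group J₂ such that for every x outside H the intersection H ∩ xHx⁻¹ is a maximal subgroup of H; that is, the action of G₂(4) on the cosets of H is extremely primitive. -/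
theorem result {F : Type*} [Field F] [Fintype F] (hF : Fintype.card F = 4) :
    ∃ H : Subgroup (Cfsg.Lie.chevG2.group F), IsCoatom H ∧ Cfsg.Spor.IsoJ2 H ∧
      ∀ x : Cfsg.Lie.chevG2.group F, x ∉ H → IsCoatom ((H ⊓ H.map (MulAut.conj x).toMonoidHom).subgroupOf H) := by
  classical
  obtain ⟨e⟩ : Nonempty (F ≃+* G24.K4) :=
    ⟨FiniteField.ringEquivOfCardEq (K := F) (K' := G24.K4) (by rw [hF, G24.card_K4])⟩
  let E := (groupEquiv e).symm
  obtain ⟨H, hH, ⟨j⟩, hext⟩ := G24J2.extremely_primitive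
  refine ⟨H.map E.toMonoidHom, (OrderIso.isCoatom_iff (MulEquiv.mapSubgroup E) _).mpr hH,
    ⟨(E.subgroupMap H).symm.trans j⟩, fun x hx => ?_⟩
  obtain ⟨y, rfl⟩ := E.surjective x
  have hy : y ∉ H := fun h => hx (Subgroup.mem_map_of_mem _ h)
  suffices key : (H.map E.toMonoidHom ⊓ (H.map E.toMonoidHom).map
      (MulAut.conj (E y)).toMonoidHom).subgroupOf (H.map E.toMonoidHom) =
      MulEquiv.mapSubgroup (E.subgroupMap H)
        ((H ⊓ H.map (MulAut.conj y).toMonoidHom).subgroupOf H) from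
    key ▸ (OrderIso.isCoatom_iff (MulEquiv.mapSubgroup (E.subgroupMap H)) _).mpr (hext y hy)
  ext h
  obtain ⟨g, rfl⟩ := (E.subgroupMap H).surjective h
  show _ ↔ E.subgroupMap H g ∈ Subgroup.map (E.subgroupMap H).toMonoidHom _
  refine Iff.trans Subgroup.mem_subgroupOf (Iff.trans ?_ Subgroup.mem_map_equiv.symm)
  rw [MulEquiv.symm_apply_apply, Subgroup.mem_subgroupOf, Subgroup.mem_inf, Subgroup.mem_inf]
  show E g.1 ∈ _ ∧ E g.1 ∈ _ ↔ _
  rw [Subgroup.mem_map_equiv, Subgroup.mem_map_equiv, Subgroup.mem_map_equiv,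
    Subgroup.mem_map_equiv]
  simp

end Cfsg.Agent.S5746
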