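import Cfsg.Statements.S5747
-- import your own Cfsg.Agent.* helpers here

set_option autoImplicit false
open Cfsg

namespace Cfsg.Agent.S5747

variable {G Ω : Type*} [Group G] [MulAction G Ω]

/-- A base: only the identity fixes every point. -/
def IsBase (S : Set Ω) : Prop := ∀ g : G, (∀ x ∈ S, g • x = x) → g = 1

/-- `x` is moved by some element fixing `S`. -/
def Free (S : Set Ω) (x : Ω) : Prop := ∃ g : G, (∀ y ∈ S, g • y = y) ∧ g • x ≠ x

/-- An irredundant base given as a sequence. -/
def Irr {t : ℕ} (f : Fin t → Ω) : Prop :=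
  (∀ g : G, (∀ i : Fin t, g • f i = f i) → g = 1) ∧
    ∀ i : Fin t, ∃ g : G, (∀ j : Fin t, j < i → g • f j = f j) ∧ g • f i ≠ f i

/-- An independent base. -/
def IndBase [DecidableEq Ω] (B : Finset Ω) : Prop :=
  IsBase (G := G) (B : Set Ω) ∧ ∀ x ∈ B, Free (G := G) ((B.erase x : Finset Ω) : Set Ω) x

theorem irr_injective {t : ℕ} {f : Fin t → Ω} (hf : Irr (G := G) f) : Function.Injective f := by
  intro a b hab
  by_contra hne
  rcases lt_or_gt_of_ne hne with h | h
  · obtain ⟨g, hg, hg'⟩ := hf.2 b
    exact hg' (hab ▸ hg a h)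
  · obtain ⟨g, hg, hg'⟩ := hf.2 a
    exact hg' (hab ▸ hg b h)

/-- Any base sequence contains an irredundant one. -/
theorem exists_irr_le {t : ℕ} (f : Fin t → Ω) (hb : ∀ g : G, (∀ i : Fin t, g • f i = f i) → g = 1) :
    ∃ (t' : ℕ) (f' : Fin t' → Ω), t' ≤ t ∧ Irr (G := G) f' ∧ (¬ Irr (G := G) f → t' < t) := by
  induction t with
  | zero => exact ⟨0, f, le_rfl, ⟨hb, fun i => i.elim0⟩, fun h => absurd ⟨hb, fun i => i.elim0⟩ h⟩
  | succ t ih =>
    by_cases hirr : Irr (G := G) f
    · exact ⟨t + 1, f, le_rfl, hirr, fun h => absurd hirr h⟩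
    have hbad : ∃ i : Fin (t + 1), ∀ g : G, (∀ j : Fin (t + 1), j < i → g • f j = f j) → g • f i = f i := by
      by_contra hc
      push Not at hc
      exact hirr ⟨hb, hc⟩
    obtain ⟨i, hi⟩ := hbad
    obtain ⟨t', f', hle, hf', -⟩ := ih (f ∘ i.succAbove) (fun g hg => hb g fun j => by
      rcases Fin.eq_self_or_eq_succAbove i j with rfl | ⟨l, rfl⟩
      · refine hi g fun j hj => ?_
        obtain ⟨l, rfl⟩ := (Fin.exists_succAbove_eq hj.ne)
        exact hg l
      · exact hg l)
    exact ⟨t', f', by omega, hf', fun _ => by omega⟩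

section
variable [DecidableEq Ω]

theorem indBase_image {t : ℕ} {f : Fin t → Ω}
    (hre : ∀ (f : Fin t → Ω) (σ : Equiv.Perm (Fin t)), Irr (G := G) f → Irr (G := G) (f ∘ σ))
    (hf : Irr (G := G) f) : IndBase (G := G) (Finset.univ.image f) ∧ (Finset.univ.image f).card = t := by
  refine ⟨⟨fun g hg => hf.1 g fun i => hg _ (by simp), ?_⟩, by
    rw [Finset.card_image_of_injective _ (irr_injective hf), Finset.card_univ, Fintype.card_fin]⟩
  intro x hx
  obtain ⟨i, -, rfl⟩ := Finset.mem_image.mp hx
  rcases t with _ | t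
  · exact i.elim0
  obtain ⟨g, hg, hg'⟩ := (hre f (Equiv.swap i (Fin.last t)) hf).2 (Fin.last t)
  simp only [Function.comp_apply, Equiv.swap_apply_right] at hg'
  refine ⟨g, fun y hy => ?_, hg'⟩
  simp only [Finset.coe_erase, Finset.coe_image, Finset.coe_univ, Set.image_univ, Set.mem_sdiff, Set.mem_range,
    Set.mem_singleton_iff] at hy
  obtain ⟨⟨j, rfl⟩, hne⟩ := hy
  have hji : j ≠ i := fun h => hne (h ▸ rfl)
  have := hg (Equiv.swap i (Fin.last t) j) (by
    refine lt_of_le_of_ne (Fin.le_last _) fun h => hji ?_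
    exact (Equiv.swap i (Fin.last t)).injective (h.trans (Equiv.swap_apply_left i (Fin.last t)).symm))
  simpa using this

variable (hre : ∀ (t : ℕ) (f : Fin t → Ω) (σ : Equiv.Perm (Fin t)), Irr (G := G) f → Irr (G := G) (f ∘ σ))

include hre in
/-- The exchange step. -/
theorem exchange {B B' : Finset Ω} (hB : IndBase (G := G) B) (hB' : IndBase (G := G) B') {x : Ω} (hx : x ∈ B)
    (hx' : x ∉ B') :
    ∃ y, y ∈ B' ∧ y ∉ B ∧ IndBase (G := G) (insert y (B.erase x)) := by
  obtain ⟨g₀, hg₀, hg₀x⟩ := hB.2 x hx
  obtain ⟨y, hy, hgy⟩ : ∃ y ∈ B', g₀ • y ≠ y := by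
    by_contra hc
    push Not at hc
    exact hg₀x (by rw [hB'.1 g₀ hc, one_smul])
  have hyB : y ∉ B := fun h => hgy (hg₀ y (Finset.mem_erase.mpr ⟨fun e => hx' (e ▸ hy), h⟩))
  refine ⟨y, hy, hyB, ?_⟩
  set C := B.erase x with hC
  let e : Fin C.card → Ω := fun i => (C.equivFin.symm i : Ω)
  have he : ∀ z ∈ C, ∃ i, e i = z := fun z hz => ⟨C.equivFin ⟨z, hz⟩, by simp [e]⟩
  have heC : ∀ i, e i ∈ C := fun i => (C.equivFin.symm i).2
  have hfree : ∀ i, ∃ g : G, (∀ j, j < i → g • e j = e j) ∧ g • e i ≠ e i := by
    intro i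
    obtain ⟨g, hg, hg'⟩ := hB.2 (e i) (Finset.mem_of_mem_erase (heC i))
    refine ⟨g, fun j hj => hg _ (Finset.mem_erase.mpr ⟨?_, Finset.mem_of_mem_erase (heC j)⟩), hg'⟩
    exact fun h => hj.ne (C.equivFin.symm.injective (Subtype.ext h))
  have hbase : ∀ g : G, (∀ z ∈ insert y C, g • z = z) → g • x = x → g = 1 := fun g hg hgx =>
    hB.1 g fun z hz => by
      rcases eq_or_ne z x with rfl | hzx
      · exact hgx
      · exact hg z (Finset.mem_insert_of_mem (Finset.mem_erase.mpr ⟨hzx, hz⟩))
  by_cases hcl : ∃ g : G, (∀ z ∈ insert y C, g • z = z) ∧ g • x ≠ x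
  · exfalso
    obtain ⟨g₁, hg₁, hg₁x⟩ := hcl
    let s : Fin (C.card + 2) → Ω := Fin.snoc (Fin.snoc e y) x
    have hs : Irr (G := G) s := by
      refine ⟨fun g hg => hbase g (fun z hz => ?_) ?_, fun i => ?_⟩
      · rcases Finset.mem_insert.mp hz with rfl | hz
        · simpa [s] using hg (Fin.castSucc (Fin.last _))
        · obtain ⟨i, rfl⟩ := he z hz
          simpa [s] using hg i.castSucc.castSucc
      · simpa [s] using hg (Fin.last _)
      · induction i using Fin.lastCases with
        | last =>
          refine ⟨g₁, fun j hj => ?_, by simpa [s] using hg₁x⟩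
          induction j using Fin.lastCases with
          | last => exact absurd hj (lt_irrefl _)
          | cast j =>
            induction j using Fin.lastCases with
            | last => simpa [s] using hg₁ y (Finset.mem_insert_self _ _)
            | cast j => simpa [s] using hg₁ _ (Finset.mem_insert_of_mem (heC j))
        | cast i =>
          induction i using Fin.lastCases with
          | last =>
            refine ⟨g₀, fun j hj => ?_, by simpa [s] using hgy⟩
            induction j using Fin.lastCases with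
            | last => exact absurd hj (not_lt.mpr (Fin.le_last _))
            | cast j =>
              induction j using Fin.lastCases with
              | last => exact absurd hj (lt_irrefl _)
              | cast j => simpa [s] using hg₀ _ (Finset.mem_coe.mpr (heC j))
          | cast i =>
            obtain ⟨g, hg, hg'⟩ := hfree i
            refine ⟨g, fun j hj => ?_, by simpa [s] using hg'⟩
            induction j using Fin.lastCases with
            | last => exact absurd hj (not_lt.mpr (Fin.le_last _))
            | cast j =>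
              induction j using Fin.lastCases with
              | last => exact absurd hj (not_lt.mpr (Fin.castSucc_le_castSucc_iff.mpr (Fin.le_last _)))
              | cast j => simpa [s] using hg j (by simpa using hj)
    have h2 := (hre _ s (Equiv.swap (Fin.last (C.card + 1)) (Fin.castSucc (Fin.last C.card))) hs).2 (Fin.last _)
    obtain ⟨g, hg, hg'⟩ := h2
    simp only [Function.comp_apply, Equiv.swap_apply_left] at hg'
    refine hg' ?_
    have hgx : g • x = x := by
      have := hg (Fin.castSucc (Fin.last C.card)) (Fin.castSucc_lt_last _)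
      simpa [s] using this
    have hgC : ∀ z ∈ C, g • z = z := by
      intro z hz
      obtain ⟨i, rfl⟩ := he z hz
      have := hg i.castSucc.castSucc (Fin.castSucc_lt_last _)
      rw [Function.comp_apply, Equiv.swap_apply_of_ne_of_ne (Fin.castSucc_lt_last _).ne
        (fun h => (Fin.castSucc_lt_last i).ne (Fin.castSucc_injective _ h))] at this
      simpa [s] using this
    rw [hB.1 g fun z hz => ?_, one_smul]
    rcases eq_or_ne z x with rfl | hzx
    · exact hgx
    · exact hgC z (Finset.mem_erase.mpr ⟨hzx, hz⟩)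
  · push Not at hcl
    let s : Fin (C.card + 1) → Ω := Fin.snoc e y
    have hs : Irr (G := G) s := by
      refine ⟨fun g hg => ?_, fun i => ?_⟩
      · have h' : ∀ z ∈ insert y C, g • z = z := fun z hz => by
          rcases Finset.mem_insert.mp hz with rfl | hz
          · simpa [s] using hg (Fin.last _)
          · obtain ⟨i, rfl⟩ := he z hz
            simpa [s] using hg i.castSucc
        exact hbase g h' (hcl g h')
      · induction i using Fin.lastCases with
        | last =>
          refine ⟨g₀, fun j hj => ?_, by simpa [s] using hgy⟩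
          induction j using Fin.lastCases with
          | last => exact absurd hj (lt_irrefl _)
          | cast j => simpa [s] using hg₀ _ (Finset.mem_coe.mpr (heC j))
        | cast i =>
          obtain ⟨g, hg, hg'⟩ := hfree i
          refine ⟨g, fun j hj => ?_, by simpa [s] using hg'⟩
          induction j using Fin.lastCases with
          | last => exact absurd hj (not_lt.mpr (Fin.le_last _))
          | cast j => simpa [s] using hg j (by simpa using hj)
    have h3 := (indBase_image (hre _) hs).1
    have himg : Finset.univ.image s = insert y C := by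
      ext z
      simp only [Finset.mem_image, Finset.mem_univ, true_and, Finset.mem_insert]
      constructor
      · rintro ⟨i, rfl⟩
        induction i using Fin.lastCases with
        | last => exact Or.inl (by simp [s])
        | cast i => exact Or.inr (by simpa [s] using heC i)
      · rintro (rfl | hz)
        · exact ⟨Fin.last _, by simp [s]⟩
        · obtain ⟨i, rfl⟩ := he z hz
          exact ⟨i.castSucc, by simp [s]⟩
    rwa [himg] at h3

include hre in
theorem card_eq {B B' : Finset Ω} (hB : IndBase (G := G) B) (hB' : IndBase (G := G) B') : B.card = B'.card := by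
  induction hn : (B \ B').card using Nat.strong_induction_on generalizing B with
  | _ n ih =>
    rcases (B \ B').eq_empty_or_nonempty with h | ⟨x, hx⟩
    · have hsub : B ⊆ B' := Finset.sdiff_eq_empty_iff_subset.mp h
      refine congrArg Finset.card (Finset.Subset.antisymm hsub fun z hz => ?_)
      by_contra hzB
      obtain ⟨g, hg, hgz⟩ := hB'.2 z hz
      exact hgz (by rw [hB.1 g fun w hw => hg w (Finset.mem_erase.mpr ⟨fun e => hzB (e ▸ hw), hsub hw⟩), one_smul])
    obtain ⟨hxB, hxB'⟩ := Finset.mem_sdiff.mp hx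
    obtain ⟨y, hy, hyB, hnew⟩ := exchange hre hB hB' hxB hxB'
    have hlt : (insert y (B.erase x) \ B').card < n := by
      rw [← hn]
      refine Finset.card_lt_card ((Finset.ssubset_iff_of_subset fun z hz => ?_).mpr ⟨x, hx, fun h => ?_⟩)
      · obtain ⟨hz1, hz2⟩ := Finset.mem_sdiff.mp hz
        rcases Finset.mem_insert.mp hz1 with rfl | hz1
        · exact absurd hy hz2
        · exact Finset.mem_sdiff.mpr ⟨Finset.mem_of_mem_erase hz1, hz2⟩
      · rcases Finset.mem_insert.mp (Finset.mem_sdiff.mp h).1 with e | e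
        · exact hyB (e ▸ hxB)
        · exact (Finset.mem_erase.mp e).1 rfl
    rw [← ih _ hlt hnew rfl, Finset.card_insert_of_notMem (fun h => hyB (Finset.mem_of_mem_erase h)),
      Finset.card_erase_of_mem hxB, Nat.sub_add_cancel (Finset.card_pos.mpr ⟨x, hxB⟩)]

end

/-- Let a finite group G act on a finite set Ω. An irredundant base is a sequence of points ω₁, …, ω_t whose pointwise stabiliser is trivial and in which each ω_i is moved by some element fixing ω₁, …, ω_{i−1}. Then all irredundant bases have the same length if and only if every reordering of an irredundant base is again an irredundant base. -/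
theorem result {G Ω : Type*} [Group G] [Finite G] [MulAction G Ω] [Fintype Ω] :
    (∀ (t t' : ℕ) (f : Fin t → Ω) (f' : Fin t' → Ω), ((∀ g : G, (∀ i : Fin t, g • f i = f i) → g = 1) ∧ ∀ i : Fin t, ∃ g : G, (∀ j : Fin t, j < i → g • f j = f j) ∧ g • f i ≠ f i) → ((∀ g : G, (∀ i : Fin t', g • f' i = f' i) → g = 1) ∧ ∀ i : Fin t', ∃ g : G, (∀ j : Fin t', j < i → g • f' j = f' j) ∧ g • f' i ≠ f' i) → t = t') ↔
    (∀ (t : ℕ) (f : Fin t → Ω) (σ : Equiv.Perm (Fin t)), ((∀ g : G, (∀ i : Fin t, g • f i = f i) → g = 1) ∧ ∀ i : Fin t, ∃ g : G, (∀ j : Fin t, j < i → g • f j = f j) ∧ g • f i ≠ f i) → ((∀ g : G, (∀ i : Fin t, g • (f ∘ σ) i = (f ∘ σ) i) → g = 1) ∧ ∀ i : Fin t, ∃ g : G, (∀ j : Fin t, j < i → g • (f ∘ σ) j = (f ∘ σ) j) ∧ g • (f ∘ σ) i ≠ (f ∘ σ) i)) := by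
  classical
  constructor
  · intro hsize t f σ hf
    have hb : ∀ g : G, (∀ i : Fin t, g • (f ∘ σ) i = (f ∘ σ) i) → g = 1 := fun g hg =>
      hf.1 g fun i => by simpa using hg (σ.symm i)
    obtain ⟨t', f', -, hf', hlt⟩ := exists_irr_le (f ∘ σ) hb
    by_contra hirr
    have h1 := hlt hirr
    have h2 := hsize t t' f f' hf hf'
    omega
  · intro hre t t' f f' hf hf'
    obtain ⟨h1, h1'⟩ := indBase_image (G := G) (fun f σ => hre t f σ) hf
    obtain ⟨h2, h2'⟩ := indBase_image (G := G) (fun f σ => hre t' f σ) hf'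
    rw [← h1', ← h2', card_eq (G := G) (fun t f σ => hre t f σ) h1 h2]

end Cfsg.Agent.S5747
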