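import Cfsg.Statements.S5751
import Cfsg.Agent.Lib.Chev.E8CoresMain

set_option autoImplicit false
set_option maxHeartbeats 400000
set_option maxRecDepth 100000
open Cfsg

namespace Cfsg.Agent.S5751

open Cfsg.Agent.Lib.Chev Cfsg.Agent.Lib.Chev.EightCores Cfsg.Lie

theorem core_eq {H : Type} [Group H] {M Y W : Subgroup H} (h1 : W ≤ Y ⊓ M)
    (hn : ∀ m ∈ M, ∀ w ∈ W, m * w * m⁻¹ ∈ W)
    (hmax : ∀ K : Subgroup H, K ≤ Y ⊓ M → (∀ m ∈ M, ∀ k ∈ K, m * k * m⁻¹ ∈ K) → K ≤ W) :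
    (Y.subgroupOf M).normalCore.map M.subtype = W := by
  refine le_antisymm (hmax _ ?_ ?_) ?_
  · rintro x ⟨y, hy, rfl⟩
    exact Subgroup.mem_inf.2 ⟨Subgroup.normalCore_le (Y.subgroupOf M) hy, y.2⟩
  · rintro m hm x ⟨y, hy, rfl⟩
    exact ⟨⟨m, hm⟩ * y * ⟨m, hm⟩⁻¹,
      (Subgroup.normalCore_normal (Y.subgroupOf M)).conj_mem y hy ⟨m, hm⟩, rfl⟩
  · intro w hw
    refine ⟨⟨w, (h1 hw).2⟩, ?_, rfl⟩
    intro b
    exact (h1 (hn b.1 b.2 w hw)).1

/-- The first maximal subgroup. -/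
noncomputable def M1 : Subgroup ↥GG := PP.subgroupOf GG

/-- The conjugating element. -/
noncomputable def g3 : ↥GG := ⟨n3, n3_mem⟩

theorem g3_inv : g3⁻¹ = g3 := Subtype.ext n3_inv

theorem conj_conj (x : ↥GG) : g3 * (g3 * x * g3⁻¹) * g3⁻¹ = x := by
  conv_lhs => rw [g3_inv]
  have h : g3 * g3 = 1 := Subtype.ext n3_sq
  calc g3 * (g3 * x * g3) * g3 = (g3 * g3) * x * (g3 * g3) := by group
    _ = x := by rw [h, one_mul, mul_one]

theorem mem_conj {H : Subgroup ↥GG} {x : ↥GG} :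
    x ∈ H.map (MulAut.conj g3).toMonoidHom ↔ g3 * x * g3⁻¹ ∈ H := by
  constructor
  · rintro ⟨y, hy, rfl⟩
    show g3 * (g3 * y * g3⁻¹) * g3⁻¹ ∈ H
    rwa [conj_conj]
  · intro h
    exact ⟨_, h, conj_conj x⟩

/-- The levels inside the group. -/
noncomputable def Zs (m : ℤ) : Subgroup ↥GG := (Z m).subgroupOf GG

theorem Z_le_GG (m : ℤ) : Z m ≤ GG := le_trans (Z_le_PP m) PP_le_GG

theorem Zs_le_M1 (m : ℤ) : Zs m ≤ M1 := fun _ hx => Z_le_PP m hx

theorem Z_conj {m : ℤ} (hm : 1 ≤ m) {y : GL chevE8.Idx K2} (hy : y ∈ Z (m + 1)) :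
    n3 * y * n3⁻¹ ∈ Z m := by
  refine G8.act_conj_USub (G8.rep_act (G8.rep_ni three)) (fun q hq hpq hqS t => ?_) hy
  have h1 : m + 1 ≤ lev q := hqS
  rw [npos8] at hpq
  obtain ⟨h2, h3⟩ := shift hq hpq (by omega)
  exact G8.X_mem_USub (G8.wl_lt (isW_single three) hq) (by rw [npos8]; exact h2)
    (show m ≤ lev (tabE8.w 3 q) by omega) t

theorem map_sub_stable {H : Type} [Group H] {G' : Subgroup H} {K : Subgroup ↥G'} {q : ↥G'}
    (hK : ∀ y ∈ K, q * y * q⁻¹ ∈ K) :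
    ∀ y ∈ K.map G'.subtype, (q : H) * y * (q : H)⁻¹ ∈ K.map G'.subtype := by
  rintro y ⟨x, hx, rfl⟩
  exact ⟨q * x * q⁻¹, hK x hx, by simp⟩

theorem map_stable {K : Subgroup ↥GG} (hK : ∀ p ∈ M1, ∀ y ∈ K, p * y * p⁻¹ ∈ K) :
    ∀ p ∈ PP, ∀ y ∈ K.map GG.subtype, p * y * p⁻¹ ∈ K.map GG.subtype :=
  fun p hp y hy => map_sub_stable (q := (⟨p, PP_le_GG hp⟩ : ↥GG))
    (hK ⟨p, PP_le_GG hp⟩ hp) y hy

theorem le_Zs {K : Subgroup ↥GG} {m : ℤ} (h : K.map GG.subtype ≤ Z m) : K ≤ Zs m :=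
  fun x hx => h ⟨x, hx, rfl⟩

theorem Zs_normal {m : ℤ} (hm : 1 ≤ m) : ∀ p ∈ M1, ∀ w ∈ Zs m, p * w * p⁻¹ ∈ Zs m :=
  fun _ hp _ hw => Z_normal hm hp hw

/-- The first sequence. -/
noncomputable def AA (i : ℕ) : Subgroup ↥GG := if i = 0 then M1 else Zs ((i : ℤ) + 1)

theorem AA_succ (i : ℕ) : AA (i + 1) = Zs ((i : ℤ) + 2) := by
  rw [AA, if_neg (Nat.succ_ne_zero i)]
  exact congrArg Zs (by push_cast; ring)

/-- The second sequence. -/
noncomputable def BB (i : ℕ) : Subgroup ↥GG := (AA i).map (MulAut.conj g3).toMonoidHom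

theorem AA_good (i : ℕ) : AA (i + 1) ≤ (AA i ⊓ BB i) ⊓ M1 ∧
    (∀ K : Subgroup ↥GG, K ≤ (AA i ⊓ BB i) ⊓ M1 → (∀ p ∈ M1, ∀ y ∈ K, p * y * p⁻¹ ∈ K) →
      K ≤ AA (i + 1)) := by
  rcases Nat.eq_zero_or_pos i with rfl | hi
  · have e0 : AA 0 = M1 := if_pos rfl
    have e1 : AA (0 + 1) = Zs 2 := by rw [AA_succ]; rfl
    rw [BB, e1, e0]
    refine ⟨fun x hx => ⟨⟨Zs_le_M1 2 hx, mem_conj.2 ?_⟩, Zs_le_M1 2 hx⟩, fun K hK hinv => ?_⟩
    · exact Z_le_PP 1 (Z_conj le_rfl (show (x : GL chevE8.Idx K2) ∈ Z (1 + 1) from hx))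
    · refine le_Zs (core_zero (map_stable hinv) ?_ ?_)
      · rintro _ ⟨x, hx, rfl⟩
        exact (hK hx).2
      · rintro _ ⟨x, hx, rfl⟩
        exact (mem_conj.1 (hK hx).1.2 : g3 * x * g3⁻¹ ∈ M1)
  · have ei : AA i = Zs ((i : ℤ) + 1) := if_neg (Nat.pos_iff_ne_zero.1 hi)
    have e1 : AA (i + 1) = Zs ((i : ℤ) + 1 + 1) := by
      rw [AA_succ]; exact congrArg Zs (by ring)
    rw [BB, e1, ei]
    refine ⟨fun x hx => ⟨⟨Z_mono (by omega) hx, mem_conj.2 ?_⟩, Zs_le_M1 _ hx⟩, fun K hK hinv => ?_⟩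
    · exact Z_conj (by omega) (show (x : GL chevE8.Idx K2) ∈ Z ((i : ℤ) + 1 + 1) from hx)
    · refine le_Zs (step (map_stable hinv) (by omega) ?_ ?_)
      · rintro _ ⟨x, hx, rfl⟩
        exact (hK hx).1.1
      · rintro _ ⟨x, hx, rfl⟩
        exact (mem_conj.1 (hK hx).1.2 : g3 * x * g3⁻¹ ∈ Zs ((i : ℤ) + 1))

theorem BB_good (i : ℕ) : (((AA i ⊓ BB i).subgroupOf
    (M1.map (MulAut.conj g3).toMonoidHom)).normalCore.map
      (M1.map (MulAut.conj g3).toMonoidHom).subtype) = BB (i + 1) := by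
  obtain ⟨h1, hmax⟩ := AA_good i
  refine core_eq (fun x hx => ?_) (fun p hp w hw => ?_) (fun K hK hinv => ?_)
  · obtain ⟨⟨hA, hB⟩, hM⟩ := h1 (mem_conj.1 hx)
    refine ⟨⟨?_, mem_conj.2 hA⟩, mem_conj.2 hM⟩
    have := mem_conj.1 hB
    rwa [conj_conj] at this
  · refine mem_conj.2 ?_
    have h2 : ∀ p ∈ M1, ∀ w ∈ AA (i + 1), p * w * p⁻¹ ∈ AA (i + 1) := by
      rw [AA_succ]; exact Zs_normal (by omega)
    have h3 := h2 _ (mem_conj.1 hp) _ (mem_conj.1 hw)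
    have e : g3 * p * g3⁻¹ * (g3 * w * g3⁻¹) * (g3 * p * g3⁻¹)⁻¹ =
        g3 * (p * w * p⁻¹) * g3⁻¹ := by group
    rwa [e] at h3
  · intro x hx
    have h2 : K.map (MulAut.conj g3).toMonoidHom ≤ AA (i + 1) := by
      refine hmax _ (fun y hy => ?_) (fun p hp y hy => ?_)
      · obtain ⟨⟨hA, hB⟩, hM⟩ := hK (mem_conj.1 hy)
        refine ⟨⟨?_, mem_conj.2 hA⟩, ?_⟩
        · have := mem_conj.1 hB
          rwa [conj_conj] at this
        · have := mem_conj.1 hM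
          rwa [conj_conj] at this
      · refine mem_conj.2 ?_
        have hp' : g3 * p * g3⁻¹ ∈ M1.map (MulAut.conj g3).toMonoidHom :=
          mem_conj.2 (by rwa [conj_conj])
        have h3 := hinv _ hp' _ (mem_conj.1 hy)
        have e : g3 * p * g3⁻¹ * (g3 * y * g3⁻¹) * (g3 * p * g3⁻¹)⁻¹ =
            g3 * (p * y * p⁻¹) * g3⁻¹ := by group
        rwa [e] at h3
    exact mem_conj.2 (h2 (mem_conj.2 (by rwa [conj_conj])))

theorem n3_conj_not_PP : n3 * G8.X K2 (sim chevE8 3) 1 * n3⁻¹ ∉ PP := by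
  intro h
  rw [n3_conj (G8.sim_lt three), G8.w_sim three, G8.eta_sim three] at h
  have hs : ((-1 : ℤ) : K2) * 1 = -1⁻¹ := by simp
  rw [hs] at h
  have hpX : G8.X K2 (sim chevE8 3) 1 ∈ PP :=
    pos_le_PP (G8.X_mem_posUnipotent (G8.sim_lt three) (G8.sim_pos three) _)
  exact n3_not_mem (mul_mem (mul_mem hpX h) hpX)

theorem M1_coatom : IsCoatom M1 := by
  have hg : g3 ∉ M1 := n3_not_mem
  refine ⟨fun h => hg (h ▸ Subgroup.mem_top _), fun M hM => ?_⟩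
  obtain ⟨hle, hne⟩ := lt_iff_le_and_ne.1 hM
  have hBM : (G8.bnPair K2).B ≤ M := fun b hb => hle (show (b : GL chevE8.Idx K2) ∈ PP from
    Subgroup.mem_sup_left hb)
  have hgM : g3 ∈ M := by
    by_contra hn
    refine hne (le_antisymm hle ?_)
    have h := Cfsg.Agent.Lib.BNPair.eq_parabolic (G8.bnPair K2) hBM
    refine le_of_eq_of_le h (sup_le (fun b hb => Subgroup.mem_sup_left hb) ((Subgroup.closure_le _).2 ?_))
    rintro s ⟨hs, hsM⟩
    obtain ⟨j, hj, e⟩ := G8.mem_niSet.1 hs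
    by_cases hj3 : j = 3
    · subst hj3
      exact absurd ((Subtype.ext e.symm : g3 = s) ▸ hsM) hn
    · show (s : GL chevE8.Idx K2) ∈ PP
      rw [e]
      exact G8.ni_mem_parabolic (J := J4) ⟨hj, hj3⟩ hj
  refine eq_top_iff.2 fun x _ => ?_
  have hall : chevE8.group K2 ≤ M.map GG.subtype := by
    have hni : ∀ i < chevE8.rank, G8.ni K2 i ∈ M.map GG.subtype := by
      intro i hi
      by_cases hi3 : i = 3
      · subst hi3; exact ⟨g3, hgM, rfl⟩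
      · have h : G8.ni K2 i ∈ PP := G8.ni_mem_parabolic (J := J4) ⟨hi, hi3⟩ hi
        exact ⟨⟨_, PP_le_GG h⟩, hle h, rfl⟩
    have hpos : ∀ i < chevE8.rank, ∀ t : K2, G8.X K2 (sim chevE8 i) t ∈ M.map GG.subtype := by
      intro i hi t
      have h : G8.X K2 (sim chevE8 i) t ∈ PP :=
        pos_le_PP (G8.X_mem_posUnipotent (G8.sim_lt hi) (G8.sim_pos hi) _)
      exact ⟨⟨_, PP_le_GG h⟩, hle h, rfl⟩
    refine G8.group_le_of_simple fun i hi t => ⟨hpos i hi t, ?_⟩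
    have h := mul_mem (mul_mem (hni i hi) (hpos i hi (-t))) (inv_mem (hni i hi))
    rw [G8.ni_conj_X hi (G8.sim_lt hi), G8.w_sim hi, G8.eta_sim hi] at h
    simpa using h
  obtain ⟨y, hy, e⟩ := hall x.2
  exact (Subtype.ext e : y = x) ▸ hy

theorem M1_core : M1.normalCore = ⊥ := by
  have h : M1.normalCore.map GG.subtype = ⊥ := by
    refine core_bot ?_ ?_
    · exact fun p hp y hy => map_sub_stable (q := (⟨p, hp⟩ : ↥GG))
        (fun x hx => (Subgroup.normalCore_normal M1).conj_mem x hx ⟨p, hp⟩) y hy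
    · rintro _ ⟨x, hx, rfl⟩
      exact Subgroup.normalCore_le M1 hx
  rwa [Subgroup.map_eq_bot_iff_of_injective _ Subtype.val_injective] at h

theorem six_top : lev 239 = 6 := by decide +kernel

/-- An extremal example for iterated cores of conjugate maximal subgroups: there exist a finite group G and two distinct conjugate maximal subgroups M₁, M₂ of G, with M₁ having trivial core in G, such that, if we define two descending sequences of subgroups by A₀ = M₁, B₀ = M₂ and, for every i, A_{i+1} = the core in M₁ of A_i ∩ B_i and B_{i+1} = the core in M₂ of A_i ∩ B_i (the core in M of a subgroup Y ≤ M is the largest normal subgroup of M contained in Y), the subgroup A₆ is trivial while A₅ is not (so the index 6 cannot be lowered to 5). (One example is a maximal parabolic subgroup of the Chevalley group of type E₈ over a finite field and a suitable conjugate of it.) -/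
theorem result :
    ∃ (G : Type) (_ : Group G) (_ : Finite G) (M₁ M₂ : Subgroup G) (g : G) (A B : ℕ → Subgroup G),
      IsCoatom M₁ ∧ M₂ = M₁.map (MulAut.conj g).toMonoidHom ∧ M₁ ≠ M₂ ∧ M₁.normalCore = ⊥ ∧ A 0 = M₁ ∧ B 0 = M₂ ∧
      (∀ i, A (i + 1) = ((A i ⊓ B i).subgroupOf M₁).normalCore.map M₁.subtype) ∧
      (∀ i, B (i + 1) = ((A i ⊓ B i).subgroupOf M₂).normalCore.map M₂.subtype) ∧ A 6 = ⊥ ∧ A 5 ≠ ⊥ := by
  refine ⟨↥GG, inferInstance, inferInstance, M1, M1.map (MulAut.conj g3).toMonoidHom, g3, AA, BB,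
    M1_coatom, rfl, ?_, M1_core, if_pos rfl, ?_, fun i => ?_, fun i => (BB_good i).symm, ?_, ?_⟩
  · intro h
    have hX : (⟨_, PP_le_GG (pos_le_PP (G8.X_mem_posUnipotent (G8.sim_lt three)
      (G8.sim_pos three) (1 : K2)))⟩ : ↥GG) ∈ M1 :=
      pos_le_PP (G8.X_mem_posUnipotent (G8.sim_lt three) (G8.sim_pos three) (1 : K2))
    rw [h] at hX
    exact n3_conj_not_PP (mem_conj.1 hX : _ ∈ M1)
  · rw [BB, AA, if_pos rfl]
  · exact (core_eq (AA_good i).1 (by rw [AA_succ]; exact Zs_normal (by omega)) (AA_good i).2).symm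
  · rw [AA_succ 5, eq_bot_iff]
    intro x hx
    have h7 : (x : GL chevE8.Idx K2) ∈ Z 7 := hx
    rw [Z_seven, Subgroup.mem_bot] at h7
    exact Subgroup.mem_bot.2 (Subtype.ext h7)
  · rw [AA_succ 4]
    intro h
    have h239 : (239 : ℕ) < chevE8.nroots := by rw [nroots8]; norm_num
    have hX : G8.X K2 239 1 ∈ Z 6 := G8.X_mem_USub h239 (by rw [npos8]; norm_num)
      (show (6 : ℤ) ≤ lev 239 by rw [six_top]) _
    have h2 : (⟨_, Z_le_GG 6 hX⟩ : ↥GG) ∈ Zs ((4 : ℕ) + 2 : ℤ) := hX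
    rw [h, Subgroup.mem_bot] at h2
    exact one_ne_zero ((G8.X_eq_one_iff h239 (1 : K2)).1 (congrArg Subtype.val h2))

end Cfsg.Agent.S5751
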