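import Cfsg.Statements.S5754
-- import your own Cfsg.Agent.* helpers here

set_option autoImplicit false
open Cfsg

namespace Cfsg.Agent.S5754

variable {F V : Type*} [Field F] [AddCommGroup V] [Module F V]

/-- The reflection in an anisotropic vector. -/
noncomputable def refl (Q : QuadraticForm F V) (d : V) (hd : Q d ≠ 0) : Q.IsometryEquiv Q := by
  have key : ∀ x, Q (x - ((Q d)⁻¹ * QuadraticMap.polar Q x d) • d) = Q x := by
    intro x
    set c := (Q d)⁻¹ * QuadraticMap.polar Q x d with hc
    have h1 : Q (x + (-c) • d) = Q x + Q ((-c) • d) + QuadraticMap.polar Q x ((-c) • d) := by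
      simp [QuadraticMap.polar]
    rw [sub_eq_add_neg, ← neg_smul, h1, QuadraticMap.map_smul, QuadraticMap.polar_smul_right]
    have h2 : c * Q d = QuadraticMap.polar Q x d := by rw [hc]; field_simp
    simp only [smul_eq_mul]
    linear_combination c * h2
  let f : V →ₗ[F] V :=
    { toFun := fun x => x - ((Q d)⁻¹ * QuadraticMap.polar Q x d) • d
      map_add' := fun x y => by
        rw [QuadraticMap.polar_add_left, mul_add, add_smul]; abel
      map_smul' := fun a x => by
        rw [QuadraticMap.polar_smul_left, smul_eq_mul, RingHom.id_apply, smul_sub, smul_smul]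
        congr 2
        ring }
  have hinv : ∀ x, f (f x) = x := by
    intro x
    show (x - ((Q d)⁻¹ * QuadraticMap.polar Q x d) • d)
      - ((Q d)⁻¹ * QuadraticMap.polar Q (x - ((Q d)⁻¹ * QuadraticMap.polar Q x d) • d) d) • d = x
    have h : (Q d)⁻¹ * QuadraticMap.polar Q (x - ((Q d)⁻¹ * QuadraticMap.polar Q x d) • d) d
        = - ((Q d)⁻¹ * QuadraticMap.polar Q x d) := by
      rw [sub_eq_add_neg, ← neg_smul, QuadraticMap.polar_add_left, QuadraticMap.polar_smul_left,
        QuadraticMap.polar_self, nsmul_eq_mul, Nat.cast_ofNat, smul_eq_mul]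
      field_simp
      ring
    rw [h, neg_smul, sub_neg_eq_add, sub_add_cancel]
  exact { toLinearEquiv := LinearEquiv.ofInvolutive f hinv, map_app' := key }

lemma refl_apply (Q : QuadraticForm F V) (d : V) (hd : Q d ≠ 0) (x : V) :
    refl Q d hd x = x - ((Q d)⁻¹ * QuadraticMap.polar Q x d) • d := rfl

/-- Let V be a finite-dimensional vector space over a finite field F carrying an anisotropic quadratic form Q (Q(v) = 0 only for v = 0). Then the group of all maps v ↦ φ(v) + c, with φ an isometry of Q and c ∈ V, acts on V as a binary permutation group: given n ≥ 2 and two n-tuples u, u' of vectors such that every pair of corresponding entries of u is carried to that of u' by such a map, one such map carries u to u'. -/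
theorem result {F V : Type*} [Field F] [Finite F] [AddCommGroup V] [Module F V] [Module.Finite F V]
    (Q : QuadraticForm F V) (hQ : Q.Anisotropic) (n : ℕ) (hn : 2 ≤ n) (u u' : Fin n → V)
    (h2 : ∀ i j : Fin n, i ≠ j → ∃ (φ : Q.IsometryEquiv Q) (c : V), φ (u i) + c = u' i ∧ φ (u j) + c = u' j) :
    ∃ (φ : Q.IsometryEquiv Q) (c : V), ∀ i, φ (u i) + c = u' i := by
  classical
  have hanis : ∀ x, Q x = 0 → x = 0 := hQ
  set i0 : Fin n := ⟨0, by omega⟩ with hi0
  -- normalise the first point
  set w : Fin n → V := fun i => u i - u i0 with hw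
  set w' : Fin n → V := fun i => u' i - u' i0 with hw'
  have hiso : ∀ i j, Q (w i - w j) = Q (w' i - w' j) := by
    intro i j
    by_cases h : i = j
    · simp [h]
    obtain ⟨φ, c, h1, h2'⟩ := h2 i j h
    have : w' i - w' j = φ (w i - w j) := by
      have : φ (w i - w j) = φ (u i) - φ (u j) := by rw [hw]; simp [map_sub]
      rw [this, hw']
      simp [← h1, ← h2']
    rw [this, φ.map_app]
  have hw0 : w i0 = 0 := by simp [hw]
  have hw0' : w' i0 = 0 := by simp [hw']
  have hQw : ∀ i, Q (w i) = Q (w' i) := fun i => by simpa [hw0, hw0'] using hiso i i0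
  have hsubQ : ∀ x y : V, Q (x - y) = Q x + Q y - QuadraticMap.polar Q x y := fun x y => by
    have h : Q (x + -y) = Q x + Q (-y) + QuadraticMap.polar Q x (-y) := by simp [QuadraticMap.polar]
    rw [sub_eq_add_neg, h, QuadraticMap.map_neg, QuadraticMap.polar_neg_right]
    ring
  have hpol : ∀ i j, QuadraticMap.polar Q (w i) (w j) = QuadraticMap.polar Q (w' i) (w' j) := fun i j => by
    have := hiso i j
    rw [hsubQ (w i) (w j), hsubQ (w' i) (w' j), hQw i, hQw j] at this
    linear_combination (-1 : F) * this
  suffices H : ∀ s : Finset (Fin n), ∃ φ : Q.IsometryEquiv Q, ∀ i ∈ s, φ (w i) = w' i by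
    obtain ⟨φ, hφ⟩ := H Finset.univ
    refine ⟨φ, u' i0 - φ (u i0), fun i => ?_⟩
    have := hφ i (Finset.mem_univ _)
    simp only [hw, hw', map_sub] at this
    rw [← add_sub_assoc, add_sub_right_comm, this]
    abel
  intro s
  induction s using Finset.induction_on with
  | empty => exact ⟨QuadraticMap.IsometryEquiv.refl Q, by simp⟩
  | @insert k s hk ih =>
    obtain ⟨φ, hφ⟩ := ih
    by_cases hd : φ (w k) = w' k
    · refine ⟨φ, fun i hi => ?_⟩
      rcases Finset.mem_insert.mp hi with rfl | hi
      · exact hd
      · exact hφ i hi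
    set d := φ (w k) - w' k with hd'
    have hd0 : Q d ≠ 0 := fun h => hd (sub_eq_zero.mp (hanis d h))
    have hpolφ : ∀ x y, QuadraticMap.polar Q (φ x) (φ y) = QuadraticMap.polar Q x y := fun x y => by
      simp only [QuadraticMap.polar, ← map_add, φ.map_app]
    refine ⟨φ.trans (refl Q d hd0), fun i hi => ?_⟩
    show refl Q d hd0 (φ (w i)) = w' i
    rcases Finset.mem_insert.mp hi with rfl | hi
    · rw [refl_apply]
      have h1 : QuadraticMap.polar Q (φ (w i)) d = Q d := by
        rw [hd', hsubQ, sub_eq_add_neg (φ (w i)), QuadraticMap.polar_add_right, QuadraticMap.polar_neg_right,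
          QuadraticMap.polar_self, φ.map_app, ← hQw, nsmul_eq_mul, Nat.cast_ofNat]
        ring
      rw [h1, inv_mul_cancel₀ hd0, one_smul, hd', sub_sub_cancel]
    · rw [refl_apply]
      have h1 : QuadraticMap.polar Q (φ (w i)) d = 0 := by
        rw [hd', sub_eq_add_neg, QuadraticMap.polar_add_right, QuadraticMap.polar_neg_right, hpolφ, hφ i hi, hpol]
        ring
      rw [h1, mul_zero, zero_smul, sub_zero, hφ i hi]

end Cfsg.Agent.S5754
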