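import Cfsg.Statements.S5763


set_option autoImplicit false
open Cfsg

namespace Cfsg.Agent.S5763

open Equiv

/-- The level at which two leaves of the binary tree meet. -/
def lvl (a b : Fin 8) : ℕ :=
  if a = b then 0 else if a.val / 2 = b.val / 2 then 1 else if a.val / 4 = b.val / 4 then 2 else 3

/-- A function on eight points from its code. -/
def dec (c : ℕ) (i : Fin 8) : Fin 8 := ⟨c / 8 ^ i.val % 8, Nat.mod_lt _ (by omega)⟩

/-- The trees: code, images under three generators, and a common involution. -/
def trees : List (ℕ × ℕ × ℕ × ℕ × ℕ) := [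
  (16434824, 0, 1, 2, 14599816), (2054353, 3, 4, 0, 6852524), (14038087, 5, 0, 4, 6852524), (2054346, 1, 6, 7, 6823845), (2353946, 4, 2, 1, 14599816),
  (14038136, 2, 8, 9, 6823845), (4451097, 10, 11, 3, 16406152), (16434768, 12, 3, 13, 14599816), (1754767, 14, 15, 5, 16406152), (11641798, 16, 5, 17, 14599816),
  (4451083, 6, 18, 19, 16406152), (2653539, 20, 21, 6, 5017068), (16434754, 7, 19, 22, 14599816), (14037639, 23, 7, 24, 5017068), (1754809, 8, 25, 26, 16406152),
  (14899409, 27, 28, 8, 5017068), (11641840, 9, 29, 30, 14599816), (9248309, 31, 9, 32, 5017068), (6847841, 33, 34, 10, 14599816), (2054234, 19, 10, 12, 16434817),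
  (2653532, 11, 35, 36, 4988389), (6623148, 21, 37, 11, 14571144), (14037527, 38, 12, 39, 16434376), (14037688, 13, 40, 41, 4988389), (11637822, 24, 13, 37, 14599816),
  (2316503, 42, 43, 14, 14599816), (14038472, 26, 14, 44, 16434817), (14899402, 15, 45, 40, 4988389), (3959578, 28, 46, 15, 11789960), (1455230, 29, 47, 16, 9925832),
  (9248645, 48, 16, 49, 16434376), (9248302, 17, 36, 50, 4988389), (6877612, 32, 17, 46, 14599816), (6847820, 18, 48, 51, 14599816), (2953132, 34, 52, 18, 14571144),
  (8720299, 53, 54, 20, 16434376), (4451041, 55, 20, 31, 16406152), (9216501, 56, 24, 21, 6823845), (14037562, 22, 57, 42, 16434376), (11636926, 39, 22, 52, 14599816),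
  (1754711, 58, 27, 23, 16406152), (11638214, 59, 23, 60, 14599816), (2316538, 25, 38, 61, 14599816), (14969626, 43, 62, 25, 9926280), (11644486, 63, 26, 64, 14599816),
  (6056729, 65, 66, 27, 16434376), (4689251, 67, 32, 28, 6823845), (12764815, 68, 69, 29, 16406152), (9248680, 30, 70, 33, 16434376), (6880300, 49, 30, 71, 14599816),
  (6877556, 72, 31, 73, 14599816), (4450915, 74, 33, 75, 16406152), (8757749, 76, 39, 34, 16406152), (8720285, 35, 59, 77, 16434376), (7381493, 78, 79, 35, 4988389),
  (4451020, 36, 80, 81, 16406152), (9216494, 37, 82, 83, 6852524), (5948999, 84, 85, 38, 16406152), (1754746, 40, 86, 87, 16406152), (11638256, 41, 88, 53, 14599816),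
  (9219637, 89, 41, 90, 4988389), (1755089, 91, 42, 92, 16406152), (6065507, 93, 94, 43, 16406152), (11644528, 44, 95, 96, 14599816), (9269813, 97, 44, 94, 16434376),
  (6056715, 45, 98, 85, 16434376), (2854243, 99, 90, 45, 4988389), (4689244, 46, 100, 101, 6852524), (12764857, 47, 102, 95, 16406152), (16275665, 103, 104, 47, 14599816),
  (1156085, 105, 106, 48, 16406152), (4710755, 107, 49, 104, 16406152), (6877542, 50, 75, 108, 14599816), (4688803, 109, 50, 79, 4988389), (4450908, 51, 110, 111, 16406152),
  (2052890, 75, 51, 72, 16434817), (8757742, 52, 112, 113, 16406152), (2653420, 77, 53, 114, 16434817), (7381486, 54, 115, 116, 5017068), (11408446, 79, 73, 54, 11789512),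
  (8944985, 110, 117, 55, 9925825), (2053730, 118, 55, 119, 2206526), (13734973, 120, 121, 56, 16405704), (6623092, 122, 56, 121, 14571144), (5949048, 57, 123, 124, 16406152),
  (15423688, 85, 65, 57, 16434817), (4413647, 125, 126, 58, 9925825), (14037968, 124, 58, 127, 2206526), (1454782, 88, 128, 59, 9925832), (9219630, 60, 129, 130, 5017068),
  (6648236, 90, 60, 66, 16434817), (1755082, 61, 125, 131, 16406152), (14040712, 92, 61, 98, 16434817), (6065500, 62, 132, 133, 16406152), (7049644, 94, 64, 62, 14599816),
  (1455566, 134, 68, 63, 9925146), (9270149, 135, 63, 136, 9925146), (9269806, 64, 114, 103, 16434376), (7048545, 137, 92, 65, 14599816), (2854236, 66, 138, 139, 5017068),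
  (8974763, 140, 141, 67, 14570689), (3959522, 142, 67, 141, 11789960), (3692759, 143, 144, 68, 11788371), (16275658, 69, 97, 128, 14599816), (4131610, 104, 71, 69, 9926280),
  (1156078, 70, 145, 118, 16406152), (10630270, 106, 108, 70, 11789512), (4710748, 71, 146, 147, 16406152), (4688691, 148, 72, 106, 16434376), (4688796, 73, 149, 150, 5017068),
  (8944971, 80, 151, 74, 9925825), (2052834, 152, 74, 153, 2177406), (13677629, 154, 155, 76, 16405704), (2953076, 156, 76, 157, 14571144), (4450145, 158, 77, 97, 16406152),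
  (13505597, 159, 160, 78, 11789505), (8720243, 161, 78, 162, 342391), (3215275, 163, 164, 80, 16434376), (2053716, 81, 105, 165, 371511), (16429840, 153, 81, 166, 14599816),
  (13734959, 82, 157, 167, 16405704), (12202631, 162, 83, 82, 6852524), (6623078, 83, 167, 155, 14571144), (743631, 168, 169, 84, 11789505), (14037954, 87, 84, 170, 371511),
  (4413689, 86, 171, 91, 9925825), (15231769, 169, 172, 86, 16434376), (11640454, 173, 87, 174, 14599816), (12764759, 175, 103, 88, 16406152), (13735365, 176, 162, 89, 11789505),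
  (6648180, 177, 89, 160, 342391), (14040656, 178, 91, 179, 2177406), (9146795, 180, 181, 93, 14570689), (14969570, 182, 93, 183, 9926280), (1455601, 95, 184, 184, 9924691),
  (9270184, 96, 185, 137, 9924691), (7052332, 136, 96, 186, 14599816), (7048524, 98, 135, 187, 14599816), (8745387, 188, 189, 99, 11789505), (6056673, 190, 99, 191, 11788826),
  (8974749, 100, 183, 192, 14570689), (7413301, 191, 101, 100, 6852524), (3959508, 101, 193, 194, 11789960), (3692794, 102, 148, 185, 11788826), (15141658, 144, 186, 102, 11789960),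
  (12727421, 195, 196, 105, 11789505), (8977451, 197, 194, 107, 14570689), (4131554, 198, 107, 199, 9926280), (4688670, 108, 200, 143, 16434376), (8974707, 201, 191, 109, 11789505),
  (3955938, 202, 109, 189, 11788826), (7409577, 194, 203, 110, 16434376), (2052820, 111, 204, 205, 342391), (16422672, 119, 111, 206, 14599816), (13677615, 112, 207, 208, 16405704),
  (12195463, 171, 122, 112, 16434376), (2953062, 113, 208, 207, 14571144), (6847393, 165, 113, 120, 14599816), (4450124, 114, 209, 210, 16406152), (13505583, 115, 179, 211, 11789505),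
  (12173959, 212, 130, 115, 6823845), (8720222, 116, 176, 213, 2177406), (2653084, 121, 116, 129, 6823845), (3215261, 117, 202, 209, 16434376), (6693365, 214, 215, 117, 2206526),
  (16429728, 157, 118, 216, 14599816), (13998215, 217, 119, 215, 9925825), (9216382, 167, 120, 122, 16434817), (743673, 123, 205, 218, 11789505), (14773017, 126, 219, 123, 16434376),
  (11640342, 183, 124, 220, 14599816), (2648863, 155, 221, 125, 16434376), (4001123, 222, 223, 126, 2206526), (11640496, 127, 224, 188, 14599816), (9237557, 225, 127, 223, 9925825),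
  (12764794, 128, 226, 224, 16406152), (13735400, 129, 227, 161, 11789505), (6648166, 130, 228, 196, 2177406), (14040642, 131, 218, 229, 342391), (11661958, 230, 131, 159, 14599816),
  (9146781, 132, 231, 232, 14570689), (7434805, 233, 234, 132, 16434376), (14969556, 133, 235, 236, 9926280), (2316055, 170, 133, 140, 14599816), (2279102, 184, 134, 134, 14599816),
  (1158773, 237, 143, 135, 16406152), (6087011, 238, 136, 144, 11788371), (6056547, 239, 137, 240, 11788826), (8745373, 138, 173, 241, 11789505), (7384629, 242, 150, 138, 6823845),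
  (6056652, 139, 243, 244, 11788371), (14898954, 141, 139, 149, 6823845), (4689132, 192, 140, 234, 16434817), (8883546, 193, 245, 142, 11789512), (14898849, 151, 142, 146, 16434376),
  (12727407, 145, 229, 204, 11789505), (12076687, 246, 177, 145, 16434376), (8977437, 146, 236, 235, 14570689), (4131540, 147, 232, 231, 9926280), (16275217, 247, 147, 245, 14599816),
  (13168995, 248, 240, 148, 9924691), (8974686, 149, 249, 250, 11789505), (3955924, 150, 251, 163, 11788371), (3023349, 252, 253, 151, 371511), (8645210, 204, 195, 152, 16406152),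
  (16422560, 207, 152, 168, 14599816), (13940871, 254, 153, 253, 11789505), (16389765, 205, 156, 154, 14599816), (8757630, 208, 154, 156, 16406152), (8944873, 255, 163, 158, 11789505),
  (2046562, 256, 158, 247, 9925146), (7381374, 211, 159, 221, 16434817), (12174008, 160, 257, 258, 6852524), (2652916, 259, 161, 260, 371511), (6693358, 164, 225, 261, 371511),
  (11322430, 215, 166, 164, 9925832), (13997319, 262, 165, 228, 9925825), (13998264, 166, 263, 264, 9925825), (5949384, 218, 168, 178, 16406152), (3943779, 265, 266, 169, 2177406),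
  (9236661, 267, 170, 266, 9925825), (15011171, 268, 211, 171, 371511), (4001116, 172, 269, 270, 371511), (6791596, 223, 174, 172, 16434817), (1455062, 271, 175, 173, 9925146),
  (9237550, 174, 260, 214, 9925825), (5789903, 272, 233, 175, 9925825), (1716925, 273, 261, 176, 9925825), (13413932, 228, 216, 177, 16434817), (11661846, 231, 178, 195, 14599816),
  (11662000, 179, 256, 274, 14599816), (11629107, 229, 198, 180, 14599816), (6065388, 232, 180, 198, 16406152), (7434798, 181, 275, 226, 16434376), (11415110, 276, 192, 181, 11789960),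
  (10259802, 235, 197, 182, 16406152), (2315943, 277, 182, 197, 14599816), (1158766, 185, 272, 256, 16406152), (6087004, 186, 278, 276, 11788826), (6056540, 187, 279, 265, 11788371),
  (14897946, 240, 187, 200, 16434817), (2854124, 241, 188, 275, 16434817), (7384622, 189, 258, 257, 6852524), (9145689, 279, 280, 190, 11789505), (14898786, 281, 190, 263, 371511),
  (5304747, 278, 199, 193, 14570689), (12076729, 196, 282, 272, 16434376), (16275210, 199, 210, 283, 14599816), (13168988, 200, 254, 284, 9925146), (13704747, 285, 270, 201, 9925825),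
  (4688628, 284, 201, 286, 2177406), (8883098, 251, 283, 202, 11789512), (3023342, 203, 267, 281, 2206526), (10863678, 253, 206, 203, 9925832), (13940920, 206, 287, 248, 11789505),
  (8944845, 209, 277, 288, 11789505), (2046548, 210, 237, 230, 9924691), (1521751, 289, 242, 212, 14570689), (13505989, 290, 212, 242, 14570689), (2652902, 213, 268, 285, 2206526),
  (4446113, 291, 213, 225, 11789505), (3215219, 292, 214, 227, 2177406), (13997368, 216, 273, 268, 9925825), (1749783, 293, 244, 217, 11789505), (11322822, 282, 217, 294, 9925146),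
  (3943772, 219, 239, 287, 342391), (6784428, 266, 220, 219, 16434817), (9236654, 220, 285, 252, 9925825), (15011164, 221, 262, 259, 2206526), (8888747, 274, 295, 222, 9925825),
  (15231713, 296, 222, 249, 9925146), (1455090, 224, 288, 277, 9924691), (5789945, 226, 246, 237, 9925825), (1716911, 227, 281, 262, 9925825), (9409925, 269, 230, 297, 9925825),
  (13512261, 298, 241, 233, 11788371), (11415152, 234, 238, 299, 11789960), (2315964, 236, 271, 255, 14599816), (9149483, 245, 299, 238, 14570689), (9145675, 243, 300, 239, 11789505),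
  (3240363, 301, 294, 243, 9925825), (14898772, 244, 252, 273, 2206526), (3606743, 264, 297, 246, 9924691), (12761175, 302, 247, 251, 9925825), (4688614, 250, 248, 300, 342391),
  (13704733, 249, 259, 267, 9925825), (3954594, 303, 250, 295, 11788371), (1742615, 304, 265, 254, 9925146), (4449900, 288, 255, 271, 16406152), (1521786, 257, 291, 305, 14570689),
  (13506024, 258, 306, 292, 14570689), (4446092, 260, 307, 289, 11789505), (3215198, 261, 290, 307, 342391), (1749818, 263, 308, 309, 11789505), (6696501, 305, 264, 280, 2177406),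
  (7402549, 306, 286, 269, 11789505), (15231692, 270, 309, 308, 9924691), (8170540, 297, 274, 282, 16434817), (13512296, 275, 302, 303, 11788826), (7435141, 300, 276, 278, 11788826),
  (7434665, 299, 284, 279, 11788371), (3240349, 280, 303, 302, 9925825), (12761210, 283, 301, 298, 9925825), (3954580, 286, 298, 301, 11788826), (1742650, 287, 310, 310, 9924691),
  (12174288, 294, 289, 311, 342391), (1688253, 295, 311, 290, 11789505), (8944369, 312, 292, 291, 14570689), (4413031, 313, 296, 293, 14599368), (13998544, 310, 293, 296, 14599368),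
  (4412135, 309, 304, 304, 14599368), (13508229, 314, 305, 306, 14570689), (8944334, 307, 313, 313, 14570689), (4413052, 308, 312, 312, 14599368), (13508264, 311, 314, 314, 14570689)]

/-- The tree of the code at an index. -/
def tree (k : ℕ) : Fin 8 → Fin 8 → ℕ := fun i j =>
  lvl (dec (trees.getD k (0, 0, 0, 0, 0)).1 i) (dec (trees.getD k (0, 0, 0, 0, 0)).1 j)

/-- The two trees agree at every pair of leaves. -/
def same (f g : Fin 8 → Fin 8 → ℕ) : Bool :=
  (List.finRange 8).all fun i => (List.finRange 8).all fun j => f i j == g i j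

theorem of_same {f g : Fin 8 → Fin 8 → ℕ} (h : same f g = true) : ∀ i j, f i j = g i j := by
  simp only [same, List.all_eq_true, List.mem_finRange, true_implies, beq_iff_eq] at h
  exact h

/-- The checks of the certificate at one index. -/
def check (k : ℕ) : Bool :=
  let r := trees.getD k (0, 0, 0, 0, 0)
  let v := dec r.1
  let w := dec r.2.2.2.2
  decide (r.2.1 < 315) && decide (r.2.2.1 < 315) && decide (r.2.2.2.1 < 315) &&
    same (fun i j => lvl (v (Equiv.swap 0 1 i)) (v (Equiv.swap 0 1 j))) (tree r.2.1) &&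
    same (fun i j => lvl (v (i + 1)) (v (j + 1))) (tree r.2.2.1) &&
    same (fun i j => lvl (v (i - 1)) (v (j - 1))) (tree r.2.2.2.1) &&
    ((List.finRange 8).all fun i => w (w i) == i) &&
    ((List.finRange 8).any fun i => w i != i) &&
    same (fun i j => lvl (w i) (w j)) lvl &&
    same (fun i j => lvl (v (w i)) (v (w j))) (fun i j => lvl (v i) (v j))

theorem check_all : (List.range 315).all check = true := by decide +kernel

theorem tree_zero : same (tree 0) lvl = true := by decide +kernel

/-- The automorphism group of the tree. -/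
def treeAut : Subgroup (Perm (Fin 8)) where
  carrier := {σ | ∀ i j, lvl (σ i) (σ j) = lvl i j}
  mul_mem' {a b} ha hb i j := by
    show lvl (a (b i)) (a (b j)) = _
    rw [ha, hb]
  one_mem' _ _ := rfl
  inv_mem' {a} ha i j := by
    show lvl (a.symm i) (a.symm j) = lvl i j
    rw [← ha, a.apply_symm_apply, a.apply_symm_apply]

/-- Every permutation carries the tree to one of the list. -/
theorem exists_tree (σ : Perm (Fin 8)) : ∃ k < 315, ∀ i j, lvl (σ i) (σ j) = tree k i j := by
  suffices ∀ k < 315, ∃ k' < 315, ∀ i j, tree k (σ i) (σ j) = tree k' i j by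
    obtain ⟨k', hk', h⟩ := this 0 (by omega)
    exact ⟨k', hk', fun i j => by rw [← h, of_same tree_zero]⟩
  have hσ : σ ∈ Subgroup.closure ({finRotate 8, Equiv.swap (0 : Fin 8) (finRotate 8 0)} : Set (Perm (Fin 8))) := by
    rw [Equiv.Perm.closure_cycle_adjacent_swap isCycle_finRotate support_finRotate 0]
    exact Subgroup.mem_top σ
  have hc : ∀ k < 315, check k = true := fun k hk => List.all_eq_true.mp check_all k (List.mem_range.mpr hk)
  induction hσ using Subgroup.closure_induction'' with
  | mem x hx =>
    intro k hk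
    have := hc k hk
    simp only [check, Bool.and_eq_true, decide_eq_true_eq] at this
    obtain ⟨⟨⟨⟨⟨⟨⟨⟨⟨h1, h2⟩, h3⟩, h4⟩, h5⟩, h6⟩, -⟩, -⟩, -⟩, -⟩ := this
    rcases hx with rfl | rfl
    · refine ⟨_, h2, fun i j => ?_⟩
      rw [← of_same h5 i j, finRotate_succ_apply, finRotate_succ_apply]
      rfl
    · refine ⟨_, h1, fun i j => ?_⟩
      rw [← of_same h4 i j]
      rfl
  | inv_mem x hx =>
    intro k hk
    have := hc k hk
    simp only [check, Bool.and_eq_true, decide_eq_true_eq] at this
    obtain ⟨⟨⟨⟨⟨⟨⟨⟨⟨h1, h2⟩, h3⟩, h4⟩, h5⟩, h6⟩, -⟩, -⟩, -⟩, -⟩ := this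
    rcases hx with rfl | rfl
    · have hinv : ∀ i : Fin 8, (finRotate 8)⁻¹ i = i - 1 := by decide
      refine ⟨_, h3, fun i j => ?_⟩
      rw [← of_same h6 i j, hinv, hinv]
      rfl
    · refine ⟨_, h1, fun i j => ?_⟩
      rw [← of_same h4 i j, Equiv.swap_inv]
      rfl
  | one => exact fun k hk => ⟨k, hk, fun _ _ => rfl⟩
  | mul x y _ _ hx hy =>
    intro k hk
    obtain ⟨k₁, hk₁, h₁⟩ := hx k hk
    obtain ⟨k₂, hk₂, h₂⟩ := hy k₁ hk₁
    exact ⟨k₂, hk₂, fun i j => by rw [Equiv.Perm.mul_apply, Equiv.Perm.mul_apply, h₁, h₂]⟩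

/-- The possible images of the even points. -/
def evenImages : Finset (Fin 8 × Fin 8 × Fin 8 × Fin 8) :=
  Finset.univ.filter fun p =>
    lvl p.1 p.2.1 = 2 ∧ lvl p.1 p.2.2.1 = 3 ∧ lvl p.2.2.1 p.2.2.2 = 2

theorem card_evenImages : evenImages.card = 128 := by decide +kernel

theorem lvl_one : ∀ a b c : Fin 8, lvl a b = 1 → lvl a c = 1 → b = c := by decide +kernel

theorem card_treeAut : Nat.card treeAut = 128 := by
  classical
  have hle : Nat.card treeAut ≤ 128 := by
    rw [← card_evenImages, ← Fintype.card_coe, ← Nat.card_eq_fintype_card]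
    refine Nat.card_le_card_of_injective
      (fun σ => (⟨(σ.1 0, σ.1 2, σ.1 4, σ.1 6), by
        simp only [evenImages, Finset.mem_filter, Finset.mem_univ, true_and]
        exact ⟨σ.2 0 2, σ.2 0 4, σ.2 4 6⟩⟩ : evenImages)) fun σ τ h => ?_
    simp only [Subtype.mk.injEq, Prod.mk.injEq] at h
    obtain ⟨h0, h2, h4, h6⟩ := h
    refine Subtype.ext (Equiv.ext fun i => ?_)
    have hodd : ∀ a b : Fin 8, lvl a b = 1 → σ.1 a = τ.1 a → σ.1 b = τ.1 b := fun a b hab he =>
      lvl_one (σ.1 a) _ _ ((σ.2 a b).trans hab) (he ▸ (τ.2 a b).trans hab)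
    fin_cases i
    exacts [h0, hodd 0 1 rfl h0, h2, hodd 2 3 rfl h2, h4, hodd 4 5 rfl h4, h6, hodd 6 7 rfl h6]
  have hge : treeAut.index ≤ 315 := by
    choose k hk hkeq using fun q : Perm (Fin 8) ⧸ treeAut => exists_tree q.out⁻¹
    rw [Subgroup.index_eq_card, ← Nat.card_fin 315]
    refine Nat.card_le_card_of_injective (fun q => (⟨k q, hk q⟩ : Fin 315)) fun q q' h => ?_
    have h' : k q = k q' := congrArg Fin.val h
    rw [← q.out_eq, ← q'.out_eq]
    refine (QuotientGroup.eq.mpr fun i j => ?_)
    have h1 := hkeq q (q'.out i) (q'.out j)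
    rw [h', ← hkeq q' (q'.out i) (q'.out j)] at h1
    simp only [Equiv.Perm.inv_def, Equiv.symm_apply_apply] at h1
    exact h1
  have hmul := treeAut.card_mul_index
  rw [Nat.card_perm, Nat.card_fin, show Nat.factorial 8 = 40320 from rfl] at hmul
  nlinarith

theorem exists_common (y : Perm (Fin 8)) : ∃ h : Perm (Fin 8), h ≠ 1 ∧ h ∈ treeAut ∧ y⁻¹ * h * y ∈ treeAut := by
  obtain ⟨k, hk, hy⟩ := exists_tree y⁻¹
  have := List.all_eq_true.mp check_all k (List.mem_range.mpr hk)
  simp only [check, Bool.and_eq_true] at this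
  obtain ⟨⟨⟨⟨-, h7⟩, h8⟩, h9⟩, h10⟩ := this
  simp only [List.all_eq_true, List.mem_finRange, true_implies, beq_iff_eq] at h7
  simp only [List.any_eq_true, List.mem_finRange, true_and, bne_iff_ne, ne_eq] at h8
  set w := dec (trees.getD k (0, 0, 0, 0, 0)).2.2.2.2 with hw
  obtain ⟨i₀, hi₀⟩ := h8
  refine ⟨Function.Involutive.toPerm w h7, fun h => hi₀ (congrArg (fun σ : Perm (Fin 8) => σ i₀) h), of_same h9,
    fun i j => ?_⟩
  show lvl (y⁻¹ (w (y i))) (y⁻¹ (w (y j))) = _
  rw [hy, show tree k (w (y i)) (w (y j)) = tree k (y i) (y j) from of_same h10 (y i) (y j), ← hy]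
  simp [Equiv.Perm.inv_def]

/-- In the symmetric group on 8 letters any two Sylow 2-subgroups have non-trivial intersection: for a Sylow 2-subgroup H and every element x, H ∩ xHx⁻¹ ≠ 1. -/
theorem result (H : Sylow 2 (Equiv.Perm (Fin 8))) (x : Equiv.Perm (Fin 8)) :
    (H : Subgroup (Equiv.Perm (Fin 8))) ⊓ (H : Subgroup (Equiv.Perm (Fin 8))).map (MulAut.conj x).toMonoidHom ≠ ⊥ := by
  have hP : Nat.card treeAut = 2 ^ (Nat.card (Perm (Fin 8))).factorization 2 := by
    rw [card_treeAut, Nat.card_perm, Nat.card_fin, Nat.factorization_def _ Nat.prime_two,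
      show Nat.factorial 8 = 2 ^ 7 * 315 from rfl, padicValNat.mul (by norm_num) (by norm_num), padicValNat.prime_pow,
      padicValNat.eq_zero_of_not_dvd (by norm_num)]
    norm_num
  obtain ⟨a, rfl⟩ := MulAction.exists_smul_eq (Perm (Fin 8)) (Sylow.ofCard treeAut hP) H
  obtain ⟨h, hne, hh, hh'⟩ := exists_common (a⁻¹ * x * a)
  intro hbot
  have hmem : a * h * a⁻¹ ∈ ((a • Sylow.ofCard treeAut hP : Sylow 2 (Perm (Fin 8))) : Subgroup (Perm (Fin 8))) ⊓
      ((a • Sylow.ofCard treeAut hP : Sylow 2 (Perm (Fin 8))) : Subgroup (Perm (Fin 8))).map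
        (MulAut.conj x).toMonoidHom := by
    rw [Sylow.coe_subgroup_smul]
    refine ⟨⟨h, hh, by simp [MulAut.conj_apply]⟩, _, ⟨_, hh', rfl⟩, ?_⟩
    simp [MulAut.conj_apply, mul_assoc]
  rw [hbot, Subgroup.mem_bot, mul_inv_eq_one] at hmem
  exact hne (mul_left_cancel (hmem.trans (mul_one a).symm))

end Cfsg.Agent.S5763
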