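import Cfsg.Agent.Lib.UnitPrimeDim.ThreeMain
import Cfsg.Agent.Lib.UnitPrimeDim.ThreeFive
import Cfsg.Agent.Lib.UnitPrimeDim.ThreeFiveField
import Cfsg.Agent.Lib.UnitPrimeDim.ThreeFiveSub
import Cfsg.Agent.Lib.UnitPrimeDim.ThreeFiveSix
import Cfsg.Agent.Lib.UnitPrimeDim.ThreeThreeField
import Cfsg.Agent.Lib.UnitPrimeDim.ThreeThreeSub

set_option autoImplicit false
open Cfsg
open Cfsg.Agent

namespace Cfsg.Agent.S5778

/-- Every maximal subgroup of SU_3(q), q ≥ 3, is of one of the listed geometric types or lies in the residual class. Let F be the field with q² elements, f the standard unitary form Σ u_i v_i^q on F^3, and H a maximal subgroup of SU_3(q) (the determinant-one isometries of f, inside GL_3(F)). Then H is the intersection with SU_3(q) of one of: the stabiliser of a non-zero subspace on which f vanishes; the stabiliser of a non-degenerate 1-space; for q ≠ 5, the stabiliser of a decomposition into three mutually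 orthogonal non-degenerate 1-spaces; for q ≠ 3, 5, the normaliser of an adjoint-closed degree-3 subfield of the matrix algebra; a subfield group of odd prime index whose F₀-structure carries f; for q odd, q ≥ 7, a subfield group of index 2 whose F₀-structure carries f; for q = p ≡ 2 mod 3 prime with p ≥ 11, the normaliser of an absolutely irreducible subgroup of order 27 with centre of order 3, exponent 3 and all characteristic abelian subgroups cyclic, contained in the similarity group of f — or else H lies in the residual class of the unitary case. -/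
theorem result {F : Type*} [Field F] [Fintype F] (q : ℕ) (hF : Fintype.card F = q ^ 2) (hq : 3 ≤ q) (H : Subgroup (Matrix.GeneralLinearGroup (Fin 3) F)) (hH : Cfsg.Geo.IsMaximalIn (Cfsg.GU 3 F q ⊓ Cfsg.Geo.specialLinear (Fin 3) F) H) :
    (∃ W : Submodule F (Fin 3 → F), W ≠ ⊥ ∧ Cfsg.Geo.IsTotallySingularFor (Cfsg.hermForm 3 F q) W ∧ H = Cfsg.Geo.subspaceStabilizer W ⊓ (Cfsg.GU 3 F q ⊓ Cfsg.Geo.specialLinear (Fin 3) F)) ∨
    (∃ W : Submodule F (Fin 3 → F), W ≠ ⊥ ∧ Cfsg.Geo.IsNondegenerateOn (Cfsg.hermForm 3 F q) W ∧ 2 * Module.finrank F W < 3 ∧ H = Cfsg.Geo.subspaceStabilizer W ⊓ (Cfsg.GU 3 F q ⊓ Cfsg.Geo.specialLinear (Fin 3) F)) ∨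
    (q ≠ 5 ∧ ∃ D : Fin 3 → Submodule F (Fin 3 → F), Cfsg.Geo.IsNondegenerateMDecomposition (Cfsg.hermForm 3 F q) 1 D ∧ H = Cfsg.Geo.decompositionStabilizer D ⊓ (Cfsg.GU 3 F q ⊓ Cfsg.Geo.specialLinear (Fin 3) F)) ∨
    (q ≠ 3 ∧ q ≠ 5 ∧ ∃ K : Subalgebra F (Matrix (Fin 3) (Fin 3) F), Cfsg.Geo.IsFieldSubalgebra 3 K ∧ Cfsg.Geo.IsAdjointClosedFor (Cfsg.hermForm 3 F q) K ∧ H = Cfsg.Geo.subalgebraNormalizer K ⊓ (Cfsg.GU 3 F q ⊓ Cfsg.Geo.specialLinear (Fin 3) F)) ∨
    (∃ (F₀ : Subfield F) (r : ℕ) (P : Matrix.GeneralLinearGroup (Fin 3) F), r.Prime ∧ Odd r ∧ Fintype.card F = Nat.card F₀ ^ r ∧ Cfsg.Geo.IsFormRationalStructure (Cfsg.hermForm 3 F q) F₀ 1 P ∧ H = Cfsg.Geo.subfieldSubgroup F₀ P ⊓ (Cfsg.GU 3 F q ⊓ Cfsg.Geo.specialLinear (Fin 3) F)) ∨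
    (Odd q ∧ 7 ≤ q ∧ ∃ (F₀ : Subfield F) (P : Matrix.GeneralLinearGroup (Fin 3) F), Fintype.card F = Nat.card F₀ ^ 2 ∧ Cfsg.Geo.IsFormRationalStructure (Cfsg.hermForm 3 F q) F₀ 1 P ∧ H = Cfsg.Geo.subfieldSubgroup F₀ P ⊓ (Cfsg.GU 3 F q ⊓ Cfsg.Geo.specialLinear (Fin 3) F)) ∨
    (∃ (p : ℕ) (R : Subgroup (Matrix.GeneralLinearGroup (Fin 3) F)), p.Prime ∧ q = p ∧ p % 3 = 2 ∧ 11 ≤ p ∧ Cfsg.Geo.IsSymplecticTypeGroup 3 R ∧ Cfsg.Geo.ActsAbsolutelyIrreducibly (Cfsg.Geo.matrixSet R) ∧ R ≤ Cfsg.Geo.similarityGroup (Cfsg.hermForm 3 F q) ∧ Nat.card R = 27 ∧ Nat.card (Subgroup.center R) = 3 ∧ H = Cfsg.Geo.subgroupNormalizer R ⊓ (Cfsg.GU 3 F q ⊓ Cfsg.Geo.specialLinear (Fin 3) F)) ∨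
    Cfsg.Geo.InUnitaryResidualClass H := by
  rcases Lib.UnitPrimeDim.cases_of_maximal_three hF rfl hq hH with
    h | h | ⟨D, hD, hH'⟩ | ⟨K, hK, hadj, hH'⟩ | h | ⟨hodd, F₀, P, hc, hP, hH'⟩ |
      ⟨p, e, R, hp, hchar, hqe, he, hord, hdvd, hR, habs, hRU, hc, hz, hH'⟩ | h
  · exact Or.inl h
  · exact Or.inr (Or.inl h)
  · refine Or.inr (Or.inr (Or.inl ⟨?_, D, hD, hH'⟩))
    rintro rfl
    exact Lib.UnitPrimeDim.ThreeFive.not_maximal_decompositionStabilizer hF hD H hH' hH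
  · refine Or.inr (Or.inr (Or.inr (Or.inl ⟨?_, ?_, K, hK, hadj, hH'⟩)))
    · rintro rfl
      exact Lib.UnitPrimeDim.ThreeThreeField.not_maximal_subalgebraNormalizer hF hK hadj H hH' hH
    · rintro rfl
      exact Lib.UnitPrimeDim.ThreeFive.not_maximal_subalgebraNormalizer hF hK hadj H hH' hH
  · exact Or.inr (Or.inr (Or.inr (Or.inr (Or.inl h))))
  · by_cases h7 : 7 ≤ q
    · exact Or.inr (Or.inr (Or.inr (Or.inr (Or.inr (Or.inl ⟨hodd, h7, F₀, P, hc, hP, hH'⟩)))))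
    · obtain rfl | rfl : q = 3 ∨ q = 5 := by obtain ⟨k, rfl⟩ := hodd; omega
      · obtain ⟨D, hD, hle⟩ := Lib.UnitPrimeDim.ThreeThreeSub.subfield_le_decomposition hF P hc hP
        refine Or.inr (Or.inr (Or.inl ⟨by norm_num, D, hD, ?_⟩))
        exact Lib.UnitPrimeDim.eq_inf_omegaU hH (hH'.le.trans hle)
          (Lib.UnitPrimeDim.not_le_decompositionStabilizer_three hF rfl (le_refl 3) D hD.decomp)
      · exact absurd hH (Lib.UnitPrimeDim.ThreeFive.SubField.not_maximal_subfieldSubgroup hF P hc hP H hH')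
  · have he1 : e = 1 := by have := Nat.le_of_dvd (by norm_num) hdvd; omega
    subst he1
    rw [pow_one] at hqe
    have hp3 : p % 3 = 2 := by
      have hne : ((p : ℕ) : ZMod 3) ≠ 1 := fun h => by rw [h, orderOf_one] at hord; omega
      have hx : ((p : ℕ) : ZMod 3) ^ 2 = 1 := by
        have h1 := pow_orderOf_eq_one ((p : ℕ) : ZMod 3)
        rwa [hord] at h1
      have key : ∀ a : ZMod 3, a ≠ 1 → a ^ 2 = 1 → a.val = 2 := by decide
      have h2 := key _ hne hx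
      rwa [ZMod.val_natCast] at h2
    refine Or.inr (Or.inr (Or.inr (Or.inr (Or.inr (Or.inr (Or.inl
      ⟨p, R, hp, hqe, hp3, ?_, hR, habs,
        (le_trans hRU inf_le_left).trans Lib.UnitPrimeDim.GU_le_similarity, hc, hz, hH'⟩))))))
    by_contra h11
    have hp5 : p = 5 := by
      have := hp.two_le
      interval_cases p <;> first | omega | (exfalso; revert hp; norm_num)
    obtain rfl : q = 5 := hqe.trans hp5
    exact Lib.UnitPrimeDim.ThreeFive.Six.not_maximal_subgroupNormalizer hF hR habs (le_trans hRU inf_le_left)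
      (le_trans hRU inf_le_right) hc hz H hH' hH
  · exact Or.inr (Or.inr (Or.inr (Or.inr (Or.inr (Or.inr (Or.inr h))))))

end Cfsg.Agent.S5778
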