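import Cfsg.Statements.S5790
import Cfsg.Agent.Lib.SpFourEven.Proper

set_option autoImplicit false
open Cfsg

namespace Cfsg.Agent.S5790

open Cfsg.Agent.Lib.SpFourEven

/-- Every maximal subgroup of Sp_4(q), q ≥ 4 even, is of one of the listed geometric types or lies in the residual class. Let F be a finite field of even order q ≥ 4, f the standard alternating form on F^4 (coordinates Fin 2 ⊕ Fin 2), and H a maximal subgroup of Sp_4(F) (inside GL_4(F)). Then H is the intersection with Sp_4(F) of one of: the stabiliser of a non-zero totally isotropic subspace; the stabiliser of a decomposition into two orthogonal non-degenerate 2-spaces; the normaliser of a degree-2 subfield K of the matrix algebra, self-adjoint with f(k v, v) = 0; a subfield group whose F₀-structure carries a non-zero multiple of f, |F| = |F₀|^r with r prime; the similarity group of a non-degenerate quadratic form whose polar form is f — or else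 H lies in the residual class of the symplectic case. -/
theorem result {F : Type*} [Field F] [Fintype F] (heven : ¬ Odd (Fintype.card F)) (h4 : 4 ≤ Fintype.card F) (H : Subgroup (Matrix.GeneralLinearGroup (Fin 2 ⊕ Fin 2) F)) (hH : Cfsg.Geo.IsMaximalIn (Cfsg.spGL 2 F) H) :
    (∃ W : Submodule F (Fin 2 ⊕ Fin 2 → F), W ≠ ⊥ ∧ Cfsg.Geo.IsTotallySingularFor (Cfsg.sympForm 2 F) W ∧ H = Cfsg.Geo.subspaceStabilizer W ⊓ Cfsg.spGL 2 F) ∨
    (∃ D : Fin 2 → Submodule F (Fin 2 ⊕ Fin 2 → F), Cfsg.Geo.IsNondegenerateMDecomposition (Cfsg.sympForm 2 F) 2 D ∧ H = Cfsg.Geo.decompositionStabilizer D ⊓ Cfsg.spGL 2 F) ∨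
    (∃ K : Subalgebra F (Matrix (Fin 2 ⊕ Fin 2) (Fin 2 ⊕ Fin 2) F), Cfsg.Geo.IsFieldSubalgebra 2 K ∧ Cfsg.Geo.IsSelfAdjointFor (Cfsg.sympForm 2 F) K ∧ (∀ k ∈ K, ∀ v : (Fin 2 ⊕ Fin 2 → F), (Cfsg.sympForm 2 F) (Matrix.mulVec k v) v = 0) ∧ H = Cfsg.Geo.subalgebraNormalizer K ⊓ Cfsg.spGL 2 F) ∨
    (∃ (F₀ : Subfield F) (r : ℕ) (P : Matrix.GeneralLinearGroup (Fin 2 ⊕ Fin 2) F) (ζ : F), r.Prime ∧ Fintype.card F = Nat.card F₀ ^ r ∧ ζ ≠ 0 ∧ Cfsg.Geo.IsFormRationalStructure (Cfsg.sympForm 2 F) F₀ ζ P ∧ H = Cfsg.Geo.subfieldSubgroup F₀ P ⊓ Cfsg.spGL 2 F) ∨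
    (∃ Q : (Fin 2 ⊕ Fin 2 → F) → F, Cfsg.Geo.IsNondegenerateQuadraticForm Q ∧ (∀ u v : (Fin 2 ⊕ Fin 2 → F), QuadraticMap.polar Q u v = (Cfsg.sympForm 2 F) u v) ∧ H = Cfsg.Geo.quadSimilarityGroup Q ⊓ Cfsg.spGL 2 F) ∨
    Cfsg.Geo.InSymplecticResidualClass H := by
  have h2 : (2 : F) = 0 := by
    obtain ⟨p, hp⟩ := CharP.exists F
    obtain ⟨n, hpp, hn⟩ := FiniteField.card F p
    have hp2 : p = 2 := by
      rcases hpp.eq_two_or_odd' with e | e
      · exact e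
      · exact absurd (hn ▸ e.pow) heven
    subst hp2
    exact_mod_cast CharP.cast_eq_zero F 2
  have hbil : Cfsg.Geo.IsBilinearForm (Cfsg.sympForm 2 F) :=
    ⟨fun x y v => by simp [Cfsg.sympForm, add_dotProduct], fun c x v => by simp [Cfsg.sympForm],
      fun v x y => by simp [Cfsg.sympForm, Matrix.mulVec_add], fun c v x => by simp [Cfsg.sympForm, Matrix.mulVec_smul]⟩
  have hexp : ∀ u v : Fin 2 ⊕ Fin 2 → F, Cfsg.sympForm 2 F u v =
      (u (Sum.inr 0) * v (Sum.inl 0) + u (Sum.inr 1) * v (Sum.inl 1)) -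
        (u (Sum.inl 0) * v (Sum.inr 0) + u (Sum.inl 1) * v (Sum.inr 1)) := by
    intro u v
    simp [Cfsg.sympForm, Matrix.J, Matrix.mulVec, dotProduct, Fintype.sum_sum_type, Fin.sum_univ_two,
      Matrix.one_apply]
    ring
  have hskew : ∀ u v, Cfsg.sympForm 2 F u v = - Cfsg.sympForm 2 F v u := fun u v => by
    rw [hexp, hexp]; ring
  have hnd : Cfsg.Geo.IsNondegenerateForm (Cfsg.sympForm 2 F) := by
    have key : ∀ v, v ≠ 0 → ∃ x, Cfsg.sympForm 2 F x v ≠ 0 := by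
      intro v hv
      by_contra hc
      push Not at hc
      apply hv
      funext i
      rcases i with i | i <;> fin_cases i
      · have := hc (Pi.single (Sum.inr 0) 1); rw [hexp] at this; simpa using this
      · have := hc (Pi.single (Sum.inr 1) 1); rw [hexp] at this; simpa using this
      · have := hc (Pi.single (Sum.inl 0) 1); rw [hexp] at this; simpa using this
      · have := hc (Pi.single (Sum.inl 1) 1); rw [hexp] at this; simpa using this
    intro v hv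
    obtain ⟨x, hx⟩ := key v hv
    exact ⟨⟨x, hx⟩, x, by rw [hskew]; exact neg_ne_zero.2 hx⟩
  have h : Setup (Cfsg.sympForm 2 F) :=
    ⟨⟨hbil, hskew, fun v => by rw [hexp]; ring, hnd⟩, h2, by simp⟩
  have hI : ∀ g : Matrix.GeneralLinearGroup (Fin 2 ⊕ Fin 2) F,
      (∀ x y, Cfsg.sympForm 2 F (ac g x) (ac g y) = Cfsg.sympForm 2 F x y) → g ∈ Cfsg.spGL 2 F :=
    fun g hg => hg
  have hiH : Isom (Cfsg.sympForm 2 F) H := fun m hm => hH.1.le hm
  have finish : ∀ X : Subgroup (Matrix.GeneralLinearGroup (Fin 2 ⊕ Fin 2) F), H ≤ X → ¬ Cfsg.spGL 2 F ≤ X →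
      H = X ⊓ Cfsg.spGL 2 F := fun X hX hne =>
    ((hH.2 _ (le_inf hX hH.1.le) inf_le_right).resolve_right fun e => hne (inf_eq_right.1 e)).symm
  have decCase : DecOut h H → ∃ D : Fin 2 → Submodule F (Fin 2 ⊕ Fin 2 → F),
      Cfsg.Geo.IsNondegenerateMDecomposition (Cfsg.sympForm 2 F) 2 D ∧
        H = Cfsg.Geo.decompositionStabilizer D ⊓ Cfsg.spGL 2 F := by
    rintro ⟨U, hU2, hr, hU⟩
    have hUo2 : Module.finrank F (h.bil.orthogonal U) = 2 := by rw [h.finrank_orth, hU2]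
    have hro : h.bil.orthogonal U ⊓ h.bil.orthogonal (h.bil.orthogonal U) = ⊥ := by
      rw [h.orth_orth, inf_comm, hr]
    have hnon : ∀ W : Submodule F (Fin 2 ⊕ Fin 2 → F), W ⊓ h.bil.orthogonal W = ⊥ →
        Cfsg.Geo.IsNondegenerateOn (Cfsg.sympForm 2 F) W := by
      intro W hW w hw hw0
      obtain ⟨x, hx, hxw⟩ : ∃ x ∈ W, Cfsg.sympForm 2 F x w ≠ 0 := by
        by_contra hc
        push Not at hc
        exact hw0 ((Submodule.mem_bot F).1 (hW ▸ ⟨hw, hc⟩))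
      exact ⟨⟨x, hx, hxw⟩, x, hx, by rw [h.symm]; exact hxw⟩
    refine ⟨![U, h.bil.orthogonal U],
      ⟨⟨le_rfl, two_pos, Fin.forall_fin_two.2 ⟨hU2, hUo2⟩, ?_, ?_⟩, Fin.forall_fin_two.2 ⟨hnon U hr, hnon _ hro⟩,
        ?_⟩, finish _ (fun g hg => ?_) (h.dec_proper hI hU2 hr)⟩
    · refine (iSupIndep_pair (i := (0 : Fin 2)) (j := 1) (by decide) (by decide)).2 (disjoint_iff.2 hr)
    · refine eq_top_iff.2 ?_
      rw [← ((Submodule.isCompl_iff_disjoint _ _ (by rw [hU2, hUo2, h.dim])).2 (disjoint_iff.2 hr)).sup_eq_top]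
      exact sup_le (le_iSup ![U, h.bil.orthogonal U] 0) (le_iSup ![U, h.bil.orthogonal U] 1)
    · intro i j hij u hu v hv
      have hcase : ∀ i j : Fin 2, i ≠ j → (i = 0 ∧ j = 1) ∨ (i = 1 ∧ j = 0) := by decide
      rcases hcase i j hij with ⟨rfl, rfl⟩ | ⟨rfl, rfl⟩
      · exact hv u hu
      · rw [h.symm]; exact hu v hv
    · have ho := h.map_orth (g := g) (fun u v => hiH g hg u v) U
      rcases hU g hg with e | e
      · rw [e] at ho
        exact ⟨1, Fin.forall_fin_two.2 ⟨e, ho⟩⟩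
      · rw [e, h.orth_orth] at ho
        exact ⟨Equiv.swap 0 1, Fin.forall_fin_two.2 ⟨e, ho⟩⟩
  by_cases hirr : Irr H
  · rcases h.irreducible_out hiH hirr with ⟨Q, hQ1, hQ2, hQ3⟩ | hd | ⟨K, hK, hK1, hK2, hKle⟩ |
      ⟨F₀, r, P, ζ, hr, hc, hζ, hrat, hle⟩ | hres
    · refine Or.inr (Or.inr (Or.inr (Or.inr (Or.inl ⟨Q, ⟨hQ1, ?_, ?_⟩, hQ2, finish _ ?_ (h.quad_proper hI h4 hQ1 hQ2)⟩))))
      · rw [show QuadraticMap.polar Q = Cfsg.sympForm 2 F from funext fun u => funext fun v => hQ2 u v]; exact hbil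
      · rw [show QuadraticMap.polar Q = Cfsg.sympForm 2 F from funext fun u => funext fun v => hQ2 u v]; exact hnd
      · exact fun g hg => ⟨1, fun v => by rw [Units.val_one, one_mul]; exact hQ3 g hg v⟩
    · exact Or.inr (Or.inl (decCase hd))
    · exact Or.inr (Or.inr (Or.inl ⟨K, hK, hK1, hK2, finish _ hKle (h.kout_proper hI hK)⟩))
    · exact Or.inr (Or.inr (Or.inr (Or.inl ⟨F₀, r, P, ζ, hr, hc, hζ, hrat, finish _ hle (h.sub_proper hI hr hc)⟩)))
    · exact Or.inr (Or.inr (Or.inr (Or.inr (Or.inr hres))))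
  · simp only [Irr, not_forall, not_or] at hirr
    obtain ⟨W, hW, h0, h1⟩ := hirr
    rcases h.reducible hiH hW h0 h1 with ⟨U, hU0, hU, hUs⟩ | ⟨U, hU, hU2, hr⟩
    · refine Or.inl ⟨U, hU0, fun u hu v hv => hUs hv u hu, finish _ (fun g hg v => ?_) (h.subspace_proper hI hU0 hUs)⟩
      refine ⟨hU g hg v, fun hv => ?_⟩
      have := hU g⁻¹ (inv_mem hg) _ hv
      rwa [show Matrix.mulVec (Cfsg.glToMat (Fin 2 ⊕ Fin 2) F g) v = ac g v from rfl, ac_inv_ac] at this
    · refine Or.inr (Or.inl (decCase ⟨U, hU2, hr, fun g hg => Or.inl ?_⟩))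
      refine Submodule.eq_of_le_of_finrank_eq ?_ (finrank_map_ac g U)
      rintro _ ⟨w, hw, rfl⟩
      rw [Matrix.toLin'_apply]
      exact hU g hg w hw

end Cfsg.Agent.S5790
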