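import Cfsg.Statements.S5820
import Cfsg.Agent.Lib.UnitMax.Geom
import Cfsg.Agent.Lib.UnitMax.Forms
import Cfsg.Agent.Lib.UnitTwoPrime.Tensor
import Cfsg.Agent.Lib.TwelveDim.Core
import Cfsg.Agent.Lib.TwoPrimeDim.Homogeneous
import Cfsg.Agent.Lib.UnitEight.Core
import Cfsg.Agent.Lib.UnitEight.ClassTwo
import Cfsg.Agent.Lib.UnitEight.ClassTwoField
import Cfsg.Agent.Lib.UnitEight.Symplectic

set_option autoImplicit false
open scoped Matrix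
open Cfsg

namespace Cfsg.Agent.S5820

/-- Every maximal subgroup of SU_8(q) is of one of the listed geometric types or lies in the residual class. Let F be the field with q² elements, f the standard unitary form Σ u_i v_i^q on F^8, and H a maximal subgroup of SU_8(q) (inside GL_8(F)). Then H is the intersection with SU_8(q) of one of: the stabiliser of a non-zero totally isotropic subspace; the stabiliser of a non-degenerate 1-, 2- or 3-space; the stabiliser of a decomposition into eight mutually orthogonal non-degenerate 1-spaces; for q ≥ 3, of a decomposition into four mutually orthogonal non-degenerate 2-spaces; of a decomposition into two orthogonal non-degenerate 4-spaces; of a decomposition into two totally isotropic 4-spaces; for q ≥ 3, the stabiliser of a tensor decomposition of f into unitary forms on F^2 and F^4; a subfield group of odd prime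 index whose F₀-structure carries f; a subfield group of index 2 and symplectic type; for q odd, a subfield group of index 2 and orthogonal type; for q = p ≡ 3 mod 4 prime, the normaliser of an absolutely irreducible symplectic-type 2-group of order 2^8 with centre of order 4 inside the similarity group of f — or else H lies in the residual class of the unitary case. -/
theorem result {F : Type*} [Field F] [Fintype F] (q : ℕ) (hF : Fintype.card F = q ^ 2) (H : Subgroup (Matrix.GeneralLinearGroup (Fin 8) F)) (hH : Cfsg.Geo.IsMaximalIn (Cfsg.GU 8 F q ⊓ Cfsg.Geo.specialLinear (Fin 8) F) H) :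
    (∃ W : Submodule F (Fin 8 → F), W ≠ ⊥ ∧ Cfsg.Geo.IsTotallySingularFor (Cfsg.hermForm 8 F q) W ∧ H = Cfsg.Geo.subspaceStabilizer W ⊓ (Cfsg.GU 8 F q ⊓ Cfsg.Geo.specialLinear (Fin 8) F)) ∨
    (∃ W : Submodule F (Fin 8 → F), W ≠ ⊥ ∧ Cfsg.Geo.IsNondegenerateOn (Cfsg.hermForm 8 F q) W ∧ 2 * Module.finrank F W < 8 ∧ H = Cfsg.Geo.subspaceStabilizer W ⊓ (Cfsg.GU 8 F q ⊓ Cfsg.Geo.specialLinear (Fin 8) F)) ∨
    (∃ D : Fin 8 → Submodule F (Fin 8 → F), Cfsg.Geo.IsNondegenerateMDecomposition (Cfsg.hermForm 8 F q) 1 D ∧ H = Cfsg.Geo.decompositionStabilizer D ⊓ (Cfsg.GU 8 F q ⊓ Cfsg.Geo.specialLinear (Fin 8) F)) ∨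
    (3 ≤ q ∧ ∃ D : Fin 4 → Submodule F (Fin 8 → F), Cfsg.Geo.IsNondegenerateMDecomposition (Cfsg.hermForm 8 F q) 2 D ∧ H = Cfsg.Geo.decompositionStabilizer D ⊓ (Cfsg.GU 8 F q ⊓ Cfsg.Geo.specialLinear (Fin 8) F)) ∨
    (∃ D : Fin 2 → Submodule F (Fin 8 → F), Cfsg.Geo.IsNondegenerateMDecomposition (Cfsg.hermForm 8 F q) 4 D ∧ H = Cfsg.Geo.decompositionStabilizer D ⊓ (Cfsg.GU 8 F q ⊓ Cfsg.Geo.specialLinear (Fin 8) F)) ∨
    (∃ D : Fin 2 → Submodule F (Fin 8 → F), Cfsg.Geo.IsMDecomposition 4 D ∧ (∀ i, Cfsg.Geo.IsTotallySingularFor (Cfsg.hermForm 8 F q) (D i)) ∧ H = Cfsg.Geo.decompositionStabilizer D ⊓ (Cfsg.GU 8 F q ⊓ Cfsg.Geo.specialLinear (Fin 8) F)) ∨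
    (3 ≤ q ∧ ∃ (e : Fin 8 ≃ Fin 2 × Fin 4) (P : Matrix.GeneralLinearGroup (Fin 8) F) (f₁ : (Fin 2 → F) → (Fin 2 → F) → F) (f₂ : (Fin 4 → F) → (Fin 4 → F) → F), Cfsg.Geo.IsUnitaryFormPow q f₁ ∧ Cfsg.Geo.IsUnitaryFormPow q f₂ ∧ Cfsg.Geo.IsTensorFormStructure (fun x : F => x ^ q) (Cfsg.hermForm 8 F q) f₁ f₂ e P ∧ H = Cfsg.Geo.tensorProductSubgroup 2 4 e P ⊓ (Cfsg.GU 8 F q ⊓ Cfsg.Geo.specialLinear (Fin 8) F)) ∨
    (∃ (F₀ : Subfield F) (r : ℕ) (P : Matrix.GeneralLinearGroup (Fin 8) F), r.Prime ∧ Odd r ∧ Fintype.card F = Nat.card F₀ ^ r ∧ Cfsg.Geo.IsFormRationalStructure (Cfsg.hermForm 8 F q) F₀ 1 P ∧ H = Cfsg.Geo.subfieldSubgroup F₀ P ⊓ (Cfsg.GU 8 F q ⊓ Cfsg.Geo.specialLinear (Fin 8) F)) ∨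
    (∃ (F₀ : Subfield F) (P : Matrix.GeneralLinearGroup (Fin 8) F) (ζ : F), Fintype.card F = Nat.card F₀ ^ 2 ∧ ζ ≠ 0 ∧ ζ + ζ ^ q = 0 ∧ Cfsg.Geo.IsFormRationalStructure (Cfsg.hermForm 8 F q) F₀ ζ P ∧ (∀ u : Fin 8 → F, (∀ i, u i ∈ F₀) → (Cfsg.hermForm 8 F q) (Matrix.mulVec (P : Matrix (Fin 8) (Fin 8) F) u) (Matrix.mulVec (P : Matrix (Fin 8) (Fin 8) F) u) = 0) ∧ H = Cfsg.Geo.subfieldSubgroup F₀ P ⊓ (Cfsg.GU 8 F q ⊓ Cfsg.Geo.specialLinear (Fin 8) F)) ∨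
    (Odd q ∧ ∃ (F₀ : Subfield F) (P : Matrix.GeneralLinearGroup (Fin 8) F), Fintype.card F = Nat.card F₀ ^ 2 ∧ Cfsg.Geo.IsFormRationalStructure (Cfsg.hermForm 8 F q) F₀ 1 P ∧ H = Cfsg.Geo.subfieldSubgroup F₀ P ⊓ (Cfsg.GU 8 F q ⊓ Cfsg.Geo.specialLinear (Fin 8) F)) ∨
    (∃ (p : ℕ) (R : Subgroup (Matrix.GeneralLinearGroup (Fin 8) F)), p.Prime ∧ q = p ∧ p % 4 = 3 ∧ Cfsg.Geo.IsSymplecticTypeGroup 2 R ∧ Cfsg.Geo.ActsAbsolutelyIrreducibly (Cfsg.Geo.matrixSet R) ∧ R ≤ Cfsg.Geo.similarityGroup (Cfsg.hermForm 8 F q) ∧ Nat.card R = 256 ∧ Nat.card (Subgroup.center R) = 4 ∧ H = Cfsg.Geo.subgroupNormalizer R ⊓ (Cfsg.GU 8 F q ⊓ Cfsg.Geo.specialLinear (Fin 8) F)) ∨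
    Cfsg.Geo.InUnitaryResidualClass H := by
  classical
  have hn4 : 4 ≤ 8 := by norm_num
  have hHU : H ≤ Cfsg.GU 8 F q := hH.1.le.trans inf_le_left
  have hH' : Cfsg.Geo.IsMaximalIn (Cfsg.Agent.Lib.UnitPrimeDim.omegaU 8 F q) H := hH
  have hdec : ∀ {t m : ℕ} {D : Fin t → Submodule F (Fin 8 → F)}, Cfsg.Geo.IsMDecomposition m D →
      H ≤ Cfsg.Geo.decompositionStabilizer D →
      H = Cfsg.Geo.decompositionStabilizer D ⊓ (Cfsg.GU 8 F q ⊓ Cfsg.Geo.specialLinear (Fin 8) F) :=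
    fun hD hle => Cfsg.Agent.Lib.UnitMax.eq_inf hH' hle
      (Cfsg.Agent.Lib.UnitMax.not_le_decompositionStabilizer hF (by norm_num) hD)
  have hq2 : ¬ 3 ≤ q → q = 2 := fun h => by
    have := Cfsg.Agent.Lib.Geometry.q_pos hF
    omega
  -- orthogonal decompositions
  have orth : ∀ {s m : ℕ} (D : Fin s → Submodule F (Fin 8 → F)),
      Cfsg.Geo.IsNondegenerateMDecomposition (Cfsg.hermForm 8 F q) m D → s * m = 8 →
      H ≤ Cfsg.Geo.decompositionStabilizer D → (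
    (∃ W : Submodule F (Fin 8 → F), W ≠ ⊥ ∧ Cfsg.Geo.IsTotallySingularFor (Cfsg.hermForm 8 F q) W ∧ H = Cfsg.Geo.subspaceStabilizer W ⊓ (Cfsg.GU 8 F q ⊓ Cfsg.Geo.specialLinear (Fin 8) F)) ∨
    (∃ W : Submodule F (Fin 8 → F), W ≠ ⊥ ∧ Cfsg.Geo.IsNondegenerateOn (Cfsg.hermForm 8 F q) W ∧ 2 * Module.finrank F W < 8 ∧ H = Cfsg.Geo.subspaceStabilizer W ⊓ (Cfsg.GU 8 F q ⊓ Cfsg.Geo.specialLinear (Fin 8) F)) ∨
    (∃ D : Fin 8 → Submodule F (Fin 8 → F), Cfsg.Geo.IsNondegenerateMDecomposition (Cfsg.hermForm 8 F q) 1 D ∧ H = Cfsg.Geo.decompositionStabilizer D ⊓ (Cfsg.GU 8 F q ⊓ Cfsg.Geo.specialLinear (Fin 8) F)) ∨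
    (3 ≤ q ∧ ∃ D : Fin 4 → Submodule F (Fin 8 → F), Cfsg.Geo.IsNondegenerateMDecomposition (Cfsg.hermForm 8 F q) 2 D ∧ H = Cfsg.Geo.decompositionStabilizer D ⊓ (Cfsg.GU 8 F q ⊓ Cfsg.Geo.specialLinear (Fin 8) F)) ∨
    (∃ D : Fin 2 → Submodule F (Fin 8 → F), Cfsg.Geo.IsNondegenerateMDecomposition (Cfsg.hermForm 8 F q) 4 D ∧ H = Cfsg.Geo.decompositionStabilizer D ⊓ (Cfsg.GU 8 F q ⊓ Cfsg.Geo.specialLinear (Fin 8) F)) ∨
    (∃ D : Fin 2 → Submodule F (Fin 8 → F), Cfsg.Geo.IsMDecomposition 4 D ∧ (∀ i, Cfsg.Geo.IsTotallySingularFor (Cfsg.hermForm 8 F q) (D i)) ∧ H = Cfsg.Geo.decompositionStabilizer D ⊓ (Cfsg.GU 8 F q ⊓ Cfsg.Geo.specialLinear (Fin 8) F)) ∨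
    (3 ≤ q ∧ ∃ (e : Fin 8 ≃ Fin 2 × Fin 4) (P : Matrix.GeneralLinearGroup (Fin 8) F) (f₁ : (Fin 2 → F) → (Fin 2 → F) → F) (f₂ : (Fin 4 → F) → (Fin 4 → F) → F), Cfsg.Geo.IsUnitaryFormPow q f₁ ∧ Cfsg.Geo.IsUnitaryFormPow q f₂ ∧ Cfsg.Geo.IsTensorFormStructure (fun x : F => x ^ q) (Cfsg.hermForm 8 F q) f₁ f₂ e P ∧ H = Cfsg.Geo.tensorProductSubgroup 2 4 e P ⊓ (Cfsg.GU 8 F q ⊓ Cfsg.Geo.specialLinear (Fin 8) F)) ∨
    (∃ (F₀ : Subfield F) (r : ℕ) (P : Matrix.GeneralLinearGroup (Fin 8) F), r.Prime ∧ Odd r ∧ Fintype.card F = Nat.card F₀ ^ r ∧ Cfsg.Geo.IsFormRationalStructure (Cfsg.hermForm 8 F q) F₀ 1 P ∧ H = Cfsg.Geo.subfieldSubgroup F₀ P ⊓ (Cfsg.GU 8 F q ⊓ Cfsg.Geo.specialLinear (Fin 8) F)) ∨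
    (∃ (F₀ : Subfield F) (P : Matrix.GeneralLinearGroup (Fin 8) F) (ζ : F), Fintype.card F = Nat.card F₀ ^ 2 ∧ ζ ≠ 0 ∧ ζ + ζ ^ q = 0 ∧ Cfsg.Geo.IsFormRationalStructure (Cfsg.hermForm 8 F q) F₀ ζ P ∧ (∀ u : Fin 8 → F, (∀ i, u i ∈ F₀) → (Cfsg.hermForm 8 F q) (Matrix.mulVec (P : Matrix (Fin 8) (Fin 8) F) u) (Matrix.mulVec (P : Matrix (Fin 8) (Fin 8) F) u) = 0) ∧ H = Cfsg.Geo.subfieldSubgroup F₀ P ⊓ (Cfsg.GU 8 F q ⊓ Cfsg.Geo.specialLinear (Fin 8) F)) ∨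
    (Odd q ∧ ∃ (F₀ : Subfield F) (P : Matrix.GeneralLinearGroup (Fin 8) F), Fintype.card F = Nat.card F₀ ^ 2 ∧ Cfsg.Geo.IsFormRationalStructure (Cfsg.hermForm 8 F q) F₀ 1 P ∧ H = Cfsg.Geo.subfieldSubgroup F₀ P ⊓ (Cfsg.GU 8 F q ⊓ Cfsg.Geo.specialLinear (Fin 8) F)) ∨
    (∃ (p : ℕ) (R : Subgroup (Matrix.GeneralLinearGroup (Fin 8) F)), p.Prime ∧ q = p ∧ p % 4 = 3 ∧ Cfsg.Geo.IsSymplecticTypeGroup 2 R ∧ Cfsg.Geo.ActsAbsolutelyIrreducibly (Cfsg.Geo.matrixSet R) ∧ R ≤ Cfsg.Geo.similarityGroup (Cfsg.hermForm 8 F q) ∧ Nat.card R = 256 ∧ Nat.card (Subgroup.center R) = 4 ∧ H = Cfsg.Geo.subgroupNormalizer R ⊓ (Cfsg.GU 8 F q ⊓ Cfsg.Geo.specialLinear (Fin 8) F)) ∨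
    Cfsg.Geo.InUnitaryResidualClass H) := fun {s m} D hD hsm hle => by
    exact
      (if h8 : s = 8 then by
        obtain rfl := h8
        obtain rfl : m = 1 := by omega
        exact Or.inr (Or.inr (Or.inl ⟨D, hD, hdec hD.decomp hle⟩))
      else if h4 : s = 4 then by
        obtain rfl := h4
        obtain rfl : m = 2 := by omega
        by_cases hq : 3 ≤ q
        · exact Or.inr (Or.inr (Or.inr (Or.inl ⟨hq, D, hD, hdec hD.decomp hle⟩)))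
        · obtain ⟨E, hE, hEle⟩ := Cfsg.Agent.Lib.UnitTwoPrime.decomposition_two_le_lines hF (hq2 hq) hD
          exact Or.inr (Or.inr (Or.inl ⟨E, hE, hdec hE.decomp ((le_inf hle hHU).trans hEle)⟩))
      else by
        have hs2 := hD.decomp.two_le
        have hmpos := hD.decomp.pos
        have hs : s ≤ 8 := by
          have := Nat.le_mul_of_pos_right s hmpos
          omega
        obtain rfl : s = 2 := by
          have hdvd : s ∣ 8 := ⟨m, hsm.symm⟩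
          interval_cases s <;> omega
        obtain rfl : m = 4 := by omega
        exact Or.inr (Or.inr (Or.inr (Or.inr (Or.inl ⟨D, hD, hdec hD.decomp hle⟩)))))
  by_cases hirr : Cfsg.Geo.ActsIrreducibly (Cfsg.Geo.matrixSet H)
  swap
  · rw [Cfsg.Agent.Lib.TwoPrimeDim.actsIrreducibly_iff] at hirr
    push Not at hirr
    obtain ⟨W, hW, hW0, hW1⟩ := hirr
    rcases Cfsg.Agent.Lib.UnitMax.reducible hF (by norm_num) hH' hW0 hW1 hW with h | h | ⟨m, D, hm, hD, hle⟩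
    · exact Or.inl h
    · exact Or.inr (Or.inl h)
    · exact orth D hD hm hle
  haveI : Nonempty (Fin 8) := ⟨0⟩
  have hHs : ¬ H ≤ Cfsg.Geo.scalars (Fin 8) F := by
    intro hle
    rw [Cfsg.Agent.Lib.TwoPrimeDim.actsIrreducibly_iff] at hirr
    rcases hirr (Submodule.span F {Pi.single 0 1}) (fun g hg w hw => by
      obtain ⟨c, hc⟩ := (Cfsg.Geo.mem_scalars_iff g).mp (hle hg)
      rw [hc, Matrix.smul_mulVec, Matrix.one_mulVec]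
      exact Submodule.smul_mem _ _ hw) with h | h
    · simp at h
    · have h1 : Module.finrank F ↥(Submodule.span F {(Pi.single 0 1 : Fin 8 → F)}) = 1 :=
        finrank_span_singleton (by simp)
      rw [h, finrank_top, Module.finrank_fin_fun] at h1
      omega
  obtain ⟨N, hNH, hNn, hNs, hmin⟩ := Cfsg.Agent.Lib.TwelveDim.exists_minimal hHs
  rcases Cfsg.Agent.Lib.TwoPrimeDim.centre_cases hirr hNn with ⟨r, hr, hK⟩ | ⟨t, w, e, hB⟩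
  swap
  · rcases Cfsg.Agent.Lib.UnitMax.blocks_cases hF hHU hNH hB with ⟨s, m, D, hD, hsm, hle⟩ | ⟨m, D, hm, hD, hTS, hle⟩
    · exact orth D hD hsm hle
    · obtain rfl : m = 4 := by omega
      exact Or.inr (Or.inr (Or.inr (Or.inr (Or.inr (Or.inl ⟨D, hD, hTS, hdec hD hle⟩)))))
  obtain ⟨hodd, hadj⟩ := Cfsg.Agent.Lib.UnitMax.field_odd hF (hNH.trans hHU) hK (by norm_num)
  rw [Fintype.card_fin] at hr
  obtain rfl : r = 1 := by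
    have := Nat.le_of_dvd (by norm_num) hr
    obtain ⟨k, rfl⟩ := hodd
    have : k ≤ 3 := by omega
    interval_cases k <;> omega
  have hc : ∀ M ∈ Cfsg.Agent.Lib.TwoPrimeDim.centre N, ∃ c : F, M = c • (1 : Matrix (Fin 8) (Fin 8) F) := by
    intro M hM
    have htop := Subalgebra.bot_eq_top_of_finrank_eq_one (F := F) (E := Cfsg.Agent.Lib.TwoPrimeDim.centre N) hK.finrank_eq
    have hmem : (⟨M, hM⟩ : Cfsg.Agent.Lib.TwoPrimeDim.centre N) ∈ (⊥ : Subalgebra F _) := htop ▸ Algebra.mem_top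
    obtain ⟨c, hc⟩ := Algebra.mem_bot.mp hmem
    exact ⟨c, by have := congrArg Subtype.val hc; rw [Algebra.algebraMap_eq_smul_one] at this; exact this.symm⟩
  obtain ⟨d, k, A, φ, hdk, hd, hk, hAirr, hAscal, hequiv, hbij⟩ :=
    Cfsg.Agent.Lib.TwoPrimeDim.homogeneous hirr hNn hc
  rw [Fintype.card_fin] at hdk
  have hA1 : d ≠ 1 := by
    rintro rfl
    refine hNs fun g hg => Cfsg.Agent.Lib.SLTwoPrime.mem_scalars_of_val (c := A ⟨g, hg⟩ 0 0)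
      (Matrix.ext_iff_mulVec.2 fun v => ?_)
    obtain ⟨u, rfl⟩ := hbij.2 v
    rw [Matrix.smul_mulVec, Matrix.one_mulVec]
    show _ *ᵥ ∑ j, φ j (u j) = _ • ∑ j, φ j (u j)
    rw [Matrix.mulVec_sum, Finset.smul_sum]
    refine Finset.sum_congr rfl fun j _ => (hequiv j ⟨g, hg⟩ (u j)).trans ?_
    rw [← map_smul]
    congr 1
    funext i
    fin_cases i
    simp [Matrix.mulVec, dotProduct]
  have hkcase : k = 1 ∨ (d = 2 ∧ k = 4) ∨ (d = 4 ∧ k = 2) := by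
    have : d ≤ 8 := Nat.le_of_dvd (by norm_num) ⟨k, hdk.symm⟩
    interval_cases d <;> omega
  rcases hkcase with rfl | hcases
  · -- absolutely irreducible
    obtain rfl : d = 8 := by omega
    have habs : Cfsg.Geo.ActsAbsolutelyIrreducibly (Cfsg.Geo.matrixSet N) := by
      have hφ : Function.Bijective (φ 0) := by
        have h1 : ∀ u : Fin 1 → Fin 8 → F, Cfsg.Agent.Lib.MaxTensor.assemble φ u = φ 0 (u 0) := fun u => by
          simp [Cfsg.Agent.Lib.MaxTensor.assemble]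
        refine ⟨fun a b hab => ?_, fun v => ?_⟩
        · have := hbij.1 (a₁ := fun _ => a) (a₂ := fun _ => b) (by rw [h1, h1]; exact hab)
          exact congrFun this 0
        · obtain ⟨u, hu⟩ := hbij.2 v
          exact ⟨u 0, by rw [← hu, h1]⟩
      let ε := LinearEquiv.ofBijective (φ 0) hφ
      refine ⟨(Cfsg.Agent.Lib.TwoPrimeDim.actsIrreducibly_iff N).mpr fun W hW => ?_, fun M hM => ?_⟩
      · rcases hAirr (W.comap (φ 0)) (fun n u hu => by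
          rw [Submodule.mem_comap, ← hequiv]
          exact hW _ n.2 _ hu) with h | h
        · left
          rw [← Submodule.map_comap_eq_of_surjective hφ.2 W, h, Submodule.map_bot]
        · right
          rw [← Submodule.map_comap_eq_of_surjective hφ.2 W, h, Submodule.map_top, LinearMap.range_eq_top.mpr hφ.2]
      · let L := ε.symm.toLinearMap ∘ₗ Matrix.toLin' M ∘ₗ ε.toLinearMap
        obtain ⟨c, hc⟩ := hAscal (LinearMap.toMatrix' L) fun n => Matrix.ext_iff_mulVec.2 fun x => by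
          rw [← Matrix.mulVec_mulVec, ← Matrix.mulVec_mulVec, ← Matrix.toLin'_apply (LinearMap.toMatrix' L),
            ← Matrix.toLin'_apply (LinearMap.toMatrix' L), Matrix.toLin'_toMatrix']
          apply hφ.1
          have e1 : ∀ y, φ 0 (L y) = M *ᵥ φ 0 y := fun y => by
            show ε (ε.symm (Matrix.toLin' M (ε y))) = _
            rw [LinearEquiv.apply_symm_apply, Matrix.toLin'_apply]; rfl
          rw [e1, ← hequiv, ← hequiv, e1, Matrix.mulVec_mulVec, Matrix.mulVec_mulVec, hM _ ⟨_, n.2, rfl⟩]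
        refine ⟨c, Matrix.ext_iff_mulVec.2 fun v => ?_⟩
        obtain ⟨x, rfl⟩ := hφ.2 v
        have e2 : L x = c • x := by
          rw [← Matrix.toLin'_toMatrix' L, Matrix.toLin'_apply, hc, Matrix.smul_mulVec, Matrix.one_mulVec]
        have e3 : ε (L x) = M *ᵥ φ 0 x := by
          show ε (ε.symm (Matrix.toLin' M (ε x))) = _
          rw [LinearEquiv.apply_symm_apply, Matrix.toLin'_apply]; rfl
        rw [← e3, e2, map_smul, Matrix.smul_mulVec, Matrix.one_mulVec]; rfl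
    have hforms : Cfsg.Agent.Lib.UnitMax.FormCases q H → (
    (∃ W : Submodule F (Fin 8 → F), W ≠ ⊥ ∧ Cfsg.Geo.IsTotallySingularFor (Cfsg.hermForm 8 F q) W ∧ H = Cfsg.Geo.subspaceStabilizer W ⊓ (Cfsg.GU 8 F q ⊓ Cfsg.Geo.specialLinear (Fin 8) F)) ∨
    (∃ W : Submodule F (Fin 8 → F), W ≠ ⊥ ∧ Cfsg.Geo.IsNondegenerateOn (Cfsg.hermForm 8 F q) W ∧ 2 * Module.finrank F W < 8 ∧ H = Cfsg.Geo.subspaceStabilizer W ⊓ (Cfsg.GU 8 F q ⊓ Cfsg.Geo.specialLinear (Fin 8) F)) ∨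
    (∃ D : Fin 8 → Submodule F (Fin 8 → F), Cfsg.Geo.IsNondegenerateMDecomposition (Cfsg.hermForm 8 F q) 1 D ∧ H = Cfsg.Geo.decompositionStabilizer D ⊓ (Cfsg.GU 8 F q ⊓ Cfsg.Geo.specialLinear (Fin 8) F)) ∨
    (3 ≤ q ∧ ∃ D : Fin 4 → Submodule F (Fin 8 → F), Cfsg.Geo.IsNondegenerateMDecomposition (Cfsg.hermForm 8 F q) 2 D ∧ H = Cfsg.Geo.decompositionStabilizer D ⊓ (Cfsg.GU 8 F q ⊓ Cfsg.Geo.specialLinear (Fin 8) F)) ∨
    (∃ D : Fin 2 → Submodule F (Fin 8 → F), Cfsg.Geo.IsNondegenerateMDecomposition (Cfsg.hermForm 8 F q) 4 D ∧ H = Cfsg.Geo.decompositionStabilizer D ⊓ (Cfsg.GU 8 F q ⊓ Cfsg.Geo.specialLinear (Fin 8) F)) ∨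
    (∃ D : Fin 2 → Submodule F (Fin 8 → F), Cfsg.Geo.IsMDecomposition 4 D ∧ (∀ i, Cfsg.Geo.IsTotallySingularFor (Cfsg.hermForm 8 F q) (D i)) ∧ H = Cfsg.Geo.decompositionStabilizer D ⊓ (Cfsg.GU 8 F q ⊓ Cfsg.Geo.specialLinear (Fin 8) F)) ∨
    (3 ≤ q ∧ ∃ (e : Fin 8 ≃ Fin 2 × Fin 4) (P : Matrix.GeneralLinearGroup (Fin 8) F) (f₁ : (Fin 2 → F) → (Fin 2 → F) → F) (f₂ : (Fin 4 → F) → (Fin 4 → F) → F), Cfsg.Geo.IsUnitaryFormPow q f₁ ∧ Cfsg.Geo.IsUnitaryFormPow q f₂ ∧ Cfsg.Geo.IsTensorFormStructure (fun x : F => x ^ q) (Cfsg.hermForm 8 F q) f₁ f₂ e P ∧ H = Cfsg.Geo.tensorProductSubgroup 2 4 e P ⊓ (Cfsg.GU 8 F q ⊓ Cfsg.Geo.specialLinear (Fin 8) F)) ∨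
    (∃ (F₀ : Subfield F) (r : ℕ) (P : Matrix.GeneralLinearGroup (Fin 8) F), r.Prime ∧ Odd r ∧ Fintype.card F = Nat.card F₀ ^ r ∧ Cfsg.Geo.IsFormRationalStructure (Cfsg.hermForm 8 F q) F₀ 1 P ∧ H = Cfsg.Geo.subfieldSubgroup F₀ P ⊓ (Cfsg.GU 8 F q ⊓ Cfsg.Geo.specialLinear (Fin 8) F)) ∨
    (∃ (F₀ : Subfield F) (P : Matrix.GeneralLinearGroup (Fin 8) F) (ζ : F), Fintype.card F = Nat.card F₀ ^ 2 ∧ ζ ≠ 0 ∧ ζ + ζ ^ q = 0 ∧ Cfsg.Geo.IsFormRationalStructure (Cfsg.hermForm 8 F q) F₀ ζ P ∧ (∀ u : Fin 8 → F, (∀ i, u i ∈ F₀) → (Cfsg.hermForm 8 F q) (Matrix.mulVec (P : Matrix (Fin 8) (Fin 8) F) u) (Matrix.mulVec (P : Matrix (Fin 8) (Fin 8) F) u) = 0) ∧ H = Cfsg.Geo.subfieldSubgroup F₀ P ⊓ (Cfsg.GU 8 F q ⊓ Cfsg.Geo.specialLinear (Fin 8) F)) ∨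
    (Odd q ∧ ∃ (F₀ : Subfield F) (P : Matrix.GeneralLinearGroup (Fin 8) F), Fintype.card F = Nat.card F₀ ^ 2 ∧ Cfsg.Geo.IsFormRationalStructure (Cfsg.hermForm 8 F q) F₀ 1 P ∧ H = Cfsg.Geo.subfieldSubgroup F₀ P ⊓ (Cfsg.GU 8 F q ⊓ Cfsg.Geo.specialLinear (Fin 8) F)) ∨
    (∃ (p : ℕ) (R : Subgroup (Matrix.GeneralLinearGroup (Fin 8) F)), p.Prime ∧ q = p ∧ p % 4 = 3 ∧ Cfsg.Geo.IsSymplecticTypeGroup 2 R ∧ Cfsg.Geo.ActsAbsolutelyIrreducibly (Cfsg.Geo.matrixSet R) ∧ R ≤ Cfsg.Geo.similarityGroup (Cfsg.hermForm 8 F q) ∧ Nat.card R = 256 ∧ Nat.card (Subgroup.center R) = 4 ∧ H = Cfsg.Geo.subgroupNormalizer R ⊓ (Cfsg.GU 8 F q ⊓ Cfsg.Geo.specialLinear (Fin 8) F)) ∨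
    Cfsg.Geo.InUnitaryResidualClass H) := fun h => by
      rcases h with h | h | h | h
      · exact Or.inr (Or.inr (Or.inr (Or.inr (Or.inr (Or.inr (Or.inr (Or.inl h)))))))
      · exact Or.inr (Or.inr (Or.inr (Or.inr (Or.inr (Or.inr (Or.inr (Or.inr (Or.inl h))))))))
      · exact Or.inr (Or.inr (Or.inr (Or.inr (Or.inr (Or.inr (Or.inr (Or.inr (Or.inr (Or.inl h)))))))))
      · exact Or.inr (Or.inr (Or.inr (Or.inr (Or.inr (Or.inr (Or.inr (Or.inr (Or.inr (Or.inr (Or.inr h))))))))))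
    by_cases hab : ∀ x ∈ N, ∀ y ∈ N, x * y * x⁻¹ * y⁻¹ ∈ Cfsg.Geo.scalars (Fin 8) F
    · obtain ⟨h2, R, hR, hRabs, hRn, hsim, hRcard, hccard, hsq, hcomm⟩ :=
        Cfsg.Agent.Lib.UnitEight.symplectic_type hF hHU hNH hNn hNs hmin habs hab
      by_cases hp : ∃ p : ℕ, p.Prime ∧ q = p ∧ p % 4 = 3
      · obtain ⟨p, hp1, hp2, hp3⟩ := hp
        refine Or.inr (Or.inr (Or.inr (Or.inr (Or.inr (Or.inr (Or.inr (Or.inr (Or.inr (Or.inr (Or.inl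
          ⟨p, R, hp1, hp2, hp3, hR, hRabs, hsim, hRcard, hccard, ?_⟩))))))))))
        exact Cfsg.Agent.Lib.UnitMax.eq_inf hH'
          (fun g hg => Subgroup.mem_normalizer_iff.2 fun x => ⟨hRn g hg x, fun hx => by
            have := hRn g⁻¹ (inv_mem hg) _ hx
            simpa [mul_assoc] using this⟩)
          (Cfsg.Agent.Lib.UnitEight.not_le_normalizer hF hRabs hcomm h2)
      · exact hforms (Cfsg.Agent.Lib.UnitEight.field_cases hF hn4 hH' h2 hRabs hRn hsim hsq hp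
          fun F₁ i hi hiF => Cfsg.Agent.Lib.UnitEight.realisable hRabs hsq hcomm hi hiF)
    rcases Cfsg.Agent.Lib.UnitEight.core (by simp) hNH hNn hNs hmin habs hab with hC | ⟨G, hG, hGfix⟩
    · exact hforms (Cfsg.Agent.Lib.UnitMax.forms hF hn4 hH' hC)
    · have hh := Cfsg.Agent.Lib.UnitTwoPrime.herm_hermForm (n := 8) hF
      have hf : Cfsg.Geo.IsUnitaryForm (RingEquiv.ofBijective (Cfsg.Agent.Lib.Geometry.frobQ hF)
          (Finite.injective_iff_bijective.mp (Cfsg.Agent.Lib.Geometry.frobQ hF).injective)) (Cfsg.hermForm 8 F q) :=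
        { ne_refl := fun h => by
            obtain ⟨t, ht⟩ := Cfsg.Agent.Lib.Geometry.exists_pow_ne_self hF
            have h' := congrArg (fun g : F ≃+* F => g t) h
            exact ht ((Cfsg.Agent.Lib.Geometry.frobQ_apply hF t).symm.trans h')
          involutive := hh.invol
          add_left := hh.add_left
          smul_left := hh.smul_left
          herm := hh.herm
          nondegenerate := hh.nondegenerate }
      obtain ⟨F₀, h0, -, hreal⟩ := Cfsg.Agent.Lib.PrimeDim.FormDescent.realisable_of_two_forms hf hG habs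
        (by rintro _ ⟨p, hp, rfl⟩ u v; exact (hNH.trans hHU) hp u v) hGfix
      exact hforms (Cfsg.Agent.Lib.UnitMax.subfield_cases hF hn4 hH' (hNH.trans hHU) hNn habs h0 hreal)
  -- tensor products
  have two : ∀ (e : Fin 8 ≃ Fin 2 × Fin 4) (P : Matrix.GeneralLinearGroup (Fin 8) F)
      (f₁ : (Fin 2 → F) → (Fin 2 → F) → F) (f₂ : (Fin 4 → F) → (Fin 4 → F) → F),
      Cfsg.Geo.IsUnitaryFormPow q f₁ → Cfsg.Geo.IsUnitaryFormPow q f₂ →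
      Cfsg.Geo.IsTensorFormStructure (fun x : F => x ^ q) (Cfsg.hermForm 8 F q) f₁ f₂ e P →
      H ≤ Cfsg.Geo.tensorProductSubgroup 2 4 e P → (
    (∃ W : Submodule F (Fin 8 → F), W ≠ ⊥ ∧ Cfsg.Geo.IsTotallySingularFor (Cfsg.hermForm 8 F q) W ∧ H = Cfsg.Geo.subspaceStabilizer W ⊓ (Cfsg.GU 8 F q ⊓ Cfsg.Geo.specialLinear (Fin 8) F)) ∨
    (∃ W : Submodule F (Fin 8 → F), W ≠ ⊥ ∧ Cfsg.Geo.IsNondegenerateOn (Cfsg.hermForm 8 F q) W ∧ 2 * Module.finrank F W < 8 ∧ H = Cfsg.Geo.subspaceStabilizer W ⊓ (Cfsg.GU 8 F q ⊓ Cfsg.Geo.specialLinear (Fin 8) F)) ∨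
    (∃ D : Fin 8 → Submodule F (Fin 8 → F), Cfsg.Geo.IsNondegenerateMDecomposition (Cfsg.hermForm 8 F q) 1 D ∧ H = Cfsg.Geo.decompositionStabilizer D ⊓ (Cfsg.GU 8 F q ⊓ Cfsg.Geo.specialLinear (Fin 8) F)) ∨
    (3 ≤ q ∧ ∃ D : Fin 4 → Submodule F (Fin 8 → F), Cfsg.Geo.IsNondegenerateMDecomposition (Cfsg.hermForm 8 F q) 2 D ∧ H = Cfsg.Geo.decompositionStabilizer D ⊓ (Cfsg.GU 8 F q ⊓ Cfsg.Geo.specialLinear (Fin 8) F)) ∨
    (∃ D : Fin 2 → Submodule F (Fin 8 → F), Cfsg.Geo.IsNondegenerateMDecomposition (Cfsg.hermForm 8 F q) 4 D ∧ H = Cfsg.Geo.decompositionStabilizer D ⊓ (Cfsg.GU 8 F q ⊓ Cfsg.Geo.specialLinear (Fin 8) F)) ∨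
    (∃ D : Fin 2 → Submodule F (Fin 8 → F), Cfsg.Geo.IsMDecomposition 4 D ∧ (∀ i, Cfsg.Geo.IsTotallySingularFor (Cfsg.hermForm 8 F q) (D i)) ∧ H = Cfsg.Geo.decompositionStabilizer D ⊓ (Cfsg.GU 8 F q ⊓ Cfsg.Geo.specialLinear (Fin 8) F)) ∨
    (3 ≤ q ∧ ∃ (e : Fin 8 ≃ Fin 2 × Fin 4) (P : Matrix.GeneralLinearGroup (Fin 8) F) (f₁ : (Fin 2 → F) → (Fin 2 → F) → F) (f₂ : (Fin 4 → F) → (Fin 4 → F) → F), Cfsg.Geo.IsUnitaryFormPow q f₁ ∧ Cfsg.Geo.IsUnitaryFormPow q f₂ ∧ Cfsg.Geo.IsTensorFormStructure (fun x : F => x ^ q) (Cfsg.hermForm 8 F q) f₁ f₂ e P ∧ H = Cfsg.Geo.tensorProductSubgroup 2 4 e P ⊓ (Cfsg.GU 8 F q ⊓ Cfsg.Geo.specialLinear (Fin 8) F)) ∨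
    (∃ (F₀ : Subfield F) (r : ℕ) (P : Matrix.GeneralLinearGroup (Fin 8) F), r.Prime ∧ Odd r ∧ Fintype.card F = Nat.card F₀ ^ r ∧ Cfsg.Geo.IsFormRationalStructure (Cfsg.hermForm 8 F q) F₀ 1 P ∧ H = Cfsg.Geo.subfieldSubgroup F₀ P ⊓ (Cfsg.GU 8 F q ⊓ Cfsg.Geo.specialLinear (Fin 8) F)) ∨
    (∃ (F₀ : Subfield F) (P : Matrix.GeneralLinearGroup (Fin 8) F) (ζ : F), Fintype.card F = Nat.card F₀ ^ 2 ∧ ζ ≠ 0 ∧ ζ + ζ ^ q = 0 ∧ Cfsg.Geo.IsFormRationalStructure (Cfsg.hermForm 8 F q) F₀ ζ P ∧ (∀ u : Fin 8 → F, (∀ i, u i ∈ F₀) → (Cfsg.hermForm 8 F q) (Matrix.mulVec (P : Matrix (Fin 8) (Fin 8) F) u) (Matrix.mulVec (P : Matrix (Fin 8) (Fin 8) F) u) = 0) ∧ H = Cfsg.Geo.subfieldSubgroup F₀ P ⊓ (Cfsg.GU 8 F q ⊓ Cfsg.Geo.specialLinear (Fin 8) F)) ∨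
    (Odd q ∧ ∃ (F₀ : Subfield F) (P : Matrix.GeneralLinearGroup (Fin 8) F), Fintype.card F = Nat.card F₀ ^ 2 ∧ Cfsg.Geo.IsFormRationalStructure (Cfsg.hermForm 8 F q) F₀ 1 P ∧ H = Cfsg.Geo.subfieldSubgroup F₀ P ⊓ (Cfsg.GU 8 F q ⊓ Cfsg.Geo.specialLinear (Fin 8) F)) ∨
    (∃ (p : ℕ) (R : Subgroup (Matrix.GeneralLinearGroup (Fin 8) F)), p.Prime ∧ q = p ∧ p % 4 = 3 ∧ Cfsg.Geo.IsSymplecticTypeGroup 2 R ∧ Cfsg.Geo.ActsAbsolutelyIrreducibly (Cfsg.Geo.matrixSet R) ∧ R ≤ Cfsg.Geo.similarityGroup (Cfsg.hermForm 8 F q) ∧ Nat.card R = 256 ∧ Nat.card (Subgroup.center R) = 4 ∧ H = Cfsg.Geo.subgroupNormalizer R ⊓ (Cfsg.GU 8 F q ⊓ Cfsg.Geo.specialLinear (Fin 8) F)) ∨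
    Cfsg.Geo.InUnitaryResidualClass H) := fun e P f₁ f₂ h₁ h₂ hs hle => by
    exact
      (if hq : 3 ≤ q then
        Or.inr (Or.inr (Or.inr (Or.inr (Or.inr (Or.inr (Or.inl ⟨hq, e, P, f₁, f₂, h₁, h₂, hs,
          Cfsg.Agent.Lib.UnitMax.eq_inf hH' hle (Cfsg.Agent.Lib.UnitMax.not_le_tensorProductSubgroup hF
            (by norm_num) (by norm_num) (by norm_num) e P)⟩))))))
      else by
        obtain ⟨D, hD, hDle⟩ := Cfsg.Agent.Lib.UnitTwoPrime.tensor_two_le_decomposition hF (hq2 hq) (by norm_num) h₁ h₂ hs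
        exact orth D hD (by norm_num) ((le_inf hle hHU).trans hDle))
  rcases hcases with ⟨rfl, rfl⟩ | ⟨rfl, rfl⟩
  · obtain ⟨e, P, f₁, f₂, h₁, h₂, hs, hle⟩ :=
      Cfsg.Agent.Lib.UnitTwoPrime.tensor hF hHU hNH hNn hd hk A hAirr hAscal φ hequiv hbij
    exact two e P f₁ f₂ h₁ h₂ hs hle
  · obtain ⟨e, P, f₁, f₂, h₁, h₂, hs, hle⟩ :=
      Cfsg.Agent.Lib.UnitTwoPrime.tensor_swap hF hHU hNH hNn hd hk A hAirr hAscal φ hequiv hbij
    exact two e P f₁ f₂ h₁ h₂ hs hle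

end Cfsg.Agent.S5820
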