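import Cfsg.Statements.S5829
import Cfsg.Agent.Lib.LinNine.Proper
import Cfsg.Agent.Lib.LinNine.SympFive
import Cfsg.Agent.Lib.LinNine.ClassTwo
import Cfsg.Agent.Lib.LinNine.Core
import Cfsg.Agent.Lib.LinNine.Small
import Cfsg.Agent.Lib.LinNine.Wreath
import Cfsg.Agent.Lib.LinearMax.Forms
import Cfsg.Agent.Lib.TwoPrimeDim.Centre
import Cfsg.Agent.Lib.TwoPrimeDim.Homogeneous
import Cfsg.Agent.Lib.KnownA.PrimeDim.Schur

set_option autoImplicit false
set_option linter.style.haveILetI false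
open Cfsg

namespace Cfsg.Agent.S5829

open Matrix Cfsg.Geo Cfsg.Agent.Lib.KnownA.PrimeDim

variable {F : Type*} [Field F]

local notation "V9" => (Fin 9 → F)
local notation "SS" => specialLinear (Fin 9) F

/-- No non-degenerate symplectic form in dimension nine. -/
theorem no_symplectic {f : V9 → V9 → F} (hf : IsSymplecticForm f) : False := by
  have hG := gram_isUnit' hf.bilinear hf.nondegenerate
  have hodd : Odd (Fintype.card (Fin 9)) := ⟨4, by simp⟩
  refine ((Matrix.isUnit_iff_isUnit_det _).1 hG).ne_zero ?_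
  by_cases h2 : (2 : F) = 0
  · refine Cfsg.Agent.Lib.PrimeDim.FormDescent.det_alt_char_two h2 hodd _ (Matrix.ext fun i j => ?_) fun i => hf.alternating _
    show f (Pi.single j 1) (Pi.single i 1) = f (Pi.single i 1) (Pi.single j 1)
    have := hf.skew (Pi.single i 1) (Pi.single j 1)
    linear_combination (-1 : F) * this + (f (Pi.single j (1 : F)) (Pi.single i (1 : F))) * h2
  · have ht : (gramMatrix f)ᵀ = -gramMatrix f := by
      ext i j
      exact hf.skew _ _
    have hd := congrArg Matrix.det ht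
    rw [Matrix.det_transpose, Matrix.det_neg, hodd.neg_one_pow, neg_one_mul] at hd
    exact (mul_eq_zero.1 (show (2 : F) * (gramMatrix f).det = 0 by linear_combination hd)).resolve_left h2

/-- A tensor decomposition into two factors of the same dimension. -/
theorem tensor_le_wreath (e : Fin 9 ≃ Fin 3 × Fin 3) (P : GL (Fin 9) F) :
    ∃ e' : Fin 9 ≃ (Fin 2 → Fin 3), tensorProductSubgroup 3 3 e P ≤ tensorWreathSubgroup 3 2 e' P := by
  let t : (Fin 3 × Fin 3) ≃ (Fin 2 → Fin 3) := (finTwoArrowEquiv (Fin 3)).symm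
  refine ⟨e.trans t, Subgroup.map_mono ?_⟩
  rintro _ ⟨g, ⟨a, b, hg⟩, rfl⟩
  refine ⟨glReindex t g, Subgroup.subset_closure (Or.inl ⟨![a, b], fun x y => ?_⟩), ?_⟩
  · show Matrix.reindex t t (g : Matrix (Fin 3 × Fin 3) (Fin 3 × Fin 3) F) x y = _
    rw [hg, Fin.prod_univ_two]
    simp [t, finTwoArrowEquiv, piFinTwoEquiv]
  · apply Units.ext
    show Matrix.reindex (e.trans t).symm (e.trans t).symm (Matrix.reindex t t (g : Matrix (Fin 3 × Fin 3) (Fin 3 × Fin 3) F)) =
      Matrix.reindex e.symm e.symm (g : Matrix (Fin 3 × Fin 3) (Fin 3 × Fin 3) F)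
    ext i j
    simp

/-- Every maximal subgroup of SL_9(q) is of one of the listed geometric types or lies in the residual class. -/
theorem result {F : Type*} [Field F] [Fintype F] (H : Subgroup (Matrix.GeneralLinearGroup (Fin 9) F)) (hH : Cfsg.Geo.IsMaximalIn (Cfsg.Geo.specialLinear (Fin 9) F) H) :
    (∃ W : Submodule F (Fin 9 → F), W ≠ ⊥ ∧ W ≠ ⊤ ∧ H = Cfsg.Geo.subspaceStabilizer W ⊓ Cfsg.Geo.specialLinear (Fin 9) F) ∨
    (5 ≤ Fintype.card F ∧ ∃ D : Fin 9 → Submodule F (Fin 9 → F), Cfsg.Geo.IsMDecomposition 1 D ∧ H = Cfsg.Geo.decompositionStabilizer D ⊓ Cfsg.Geo.specialLinear (Fin 9) F) ∨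
    (∃ D : Fin 3 → Submodule F (Fin 9 → F), Cfsg.Geo.IsMDecomposition 3 D ∧ H = Cfsg.Geo.decompositionStabilizer D ⊓ Cfsg.Geo.specialLinear (Fin 9) F) ∨
    (∃ K : Subalgebra F (Matrix (Fin 9) (Fin 9) F), Cfsg.Geo.IsFieldSubalgebra 3 K ∧ H = Cfsg.Geo.subalgebraNormalizer K ⊓ Cfsg.Geo.specialLinear (Fin 9) F) ∨
    (∃ (F₀ : Subfield F) (r : ℕ) (P : Matrix.GeneralLinearGroup (Fin 9) F), r.Prime ∧ Fintype.card F = Nat.card F₀ ^ r ∧ H = Cfsg.Geo.subfieldSubgroup F₀ P ⊓ Cfsg.Geo.specialLinear (Fin 9) F) ∨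
    ((∃ p : ℕ, p.Prime ∧ Fintype.card F = p ∧ (p % 3 = 1)) ∧ ∃ R : Subgroup (Matrix.GeneralLinearGroup (Fin 9) F), Cfsg.Geo.IsLinearSymplecticTypeData 3 R ∧ H = Cfsg.Geo.subgroupNormalizer R ⊓ Cfsg.Geo.specialLinear (Fin 9) F) ∨
    (∃ (e : Fin 9 ≃ (Fin 2 → Fin 3)) (P : Matrix.GeneralLinearGroup (Fin 9) F), H = Cfsg.Geo.tensorWreathSubgroup 3 2 e P ⊓ Cfsg.Geo.specialLinear (Fin 9) F) ∨
    (Odd (Fintype.card F) ∧ ∃ Q : (Fin 9 → F) → F, Cfsg.Geo.IsNondegenerateQuadraticForm Q ∧ H = Cfsg.Geo.quadSimilarityGroup Q ⊓ Cfsg.Geo.specialLinear (Fin 9) F) ∨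
    (∃ (σ : F ≃+* F) (f : (Fin 9 → F) → (Fin 9 → F) → F), Cfsg.Geo.IsUnitaryForm σ f ∧ H = Cfsg.Geo.similarityGroup f ⊓ Cfsg.Geo.specialLinear (Fin 9) F) ∨
    Cfsg.Geo.InLinearResidualClass H := by
  classical
  have h9 : (3 : ℕ) ≤ 9 := by norm_num
  have hcard : Fintype.card (Fin 9) = 9 := Fintype.card_fin 9
  -- reducible
  by_cases hirr : ActsIrreducibly (matrixSet H)
  swap
  · refine Or.inl ?_
    rw [actsIrreducibly_iff] at hirr
    push Not at hirr
    obtain ⟨W, hW, h0, h1⟩ := hirr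
    refine ⟨W, h0, h1, eq_inf_of_le hH ?_ (not_le_subspaceStabilizer h0 h1)⟩
    intro g hg v
    show v ∈ (W : Set (Fin 9 → F)) ↔ (g : Matrix (Fin 9) (Fin 9) F) *ᵥ v ∈ (W : Set (Fin 9 → F))
    refine ⟨fun hv => hW g hg v hv, fun hv => ?_⟩
    have := hW g⁻¹ (inv_mem hg) _ hv
    rwa [inv_mul_cancel_vec] at this
  have hwreath : ∀ (e : Fin 9 ≃ (Fin 2 → Fin 3)) (P : GL (Fin 9) F), H ≤ tensorWreathSubgroup 3 2 e P →
      ∃ (e : Fin 9 ≃ (Fin 2 → Fin 3)) (P : GL (Fin 9) F), H = tensorWreathSubgroup 3 2 e P ⊓ specialLinear (Fin 9) F := fun e P hle =>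
    ⟨e, P, eq_inf_of_le hH hle (Cfsg.Agent.Lib.LinNine.not_le_tensorWreath h9 (by norm_num) e P)⟩
  have hHs : ¬ H ≤ scalars (Fin 9) F := by
    intro hsub
    rw [actsIrreducibly_iff] at hirr
    let W : Submodule F (Fin 9 → F) := F ∙ (Pi.single 0 1 : (Fin 9 → F))
    rcases hirr W (by
      intro g hg w hw
      obtain ⟨c, hc⟩ := (mem_scalars_iff g).1 (hsub hg)
      rw [hc, Matrix.smul_mulVec, Matrix.one_mulVec]
      exact W.smul_mem _ hw) with h | h
    · simp [W] at h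
    · have := congrArg (fun U : Submodule F (Fin 9 → F) => Module.finrank F U) h
      simp only [W, finrank_top, Module.finrank_fin_fun] at this
      rw [finrank_span_singleton (by simp)] at this
      omega
  obtain ⟨N, hNH, hNn, hNs, hNZ, hmin⟩ := exists_minimal hHs
  rcases Cfsg.Agent.Lib.TwoPrimeDim.centre_cases hirr hNn with ⟨r, hr, hK⟩ | ⟨t, w, e, hB⟩
  swap
  · -- decompositions
    have hD := hB.decomp
    have hle : H ≤ decompositionStabilizer fun i => LinearMap.range (Matrix.toLin' (e i)) := by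
      intro g hg
      obtain ⟨σ, hσ⟩ := hB.perm g hg
      exact ⟨σ, fun i => by rw [Cfsg.Agent.Lib.TwoPrimeDim.map_img_conj, hσ]⟩
    have hprod := hB.card_eq
    rw [hcard] at hprod
    have ht2 := hD.two_le
    have : t ∈ Nat.divisors 9 := Nat.mem_divisors.2 ⟨⟨w, hprod.symm⟩, by norm_num⟩
    rw [show Nat.divisors 9 = {1, 3, 9} by decide] at this
    simp only [Finset.mem_insert, Finset.mem_singleton] at this
    rcases this with rfl | rfl | rfl
    · omega
    · obtain rfl : w = 3 := by omega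
      exact Or.inr (Or.inr (Or.inl ⟨_, hD, eq_inf_of_le hH hle (Cfsg.Agent.Lib.LinNine.not_le_decomposition hD)⟩))
    · obtain rfl : w = 1 := by omega
      by_cases hq : 5 ≤ Fintype.card F
      · exact Or.inr (Or.inl ⟨hq, _, hD, eq_inf_of_le hH hle (Cfsg.Agent.Lib.LinNine.not_le_decomposition hD)⟩)
      rcases Cfsg.Agent.Lib.LinNine.lines_small hD (by omega) with ⟨W, h0, h1, h⟩ | ⟨hodd, Q, hQ, h⟩ | ⟨σ, f, hf, h⟩
      · exact Or.inl ⟨W, h0, h1, eq_inf_of_le hH (hle.trans h) (not_le_subspaceStabilizer h0 h1)⟩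
      · exact Or.inr (Or.inr (Or.inr (Or.inr (Or.inr (Or.inr (Or.inr (Or.inl
          ⟨hodd, Q, hQ, eq_inf_of_le hH (hle.trans h) (not_le_quadSimilarityGroup h9 hQ)⟩)))))))
      · exact Or.inr (Or.inr (Or.inr (Or.inr (Or.inr (Or.inr (Or.inr (Or.inr (Or.inl ⟨σ, f, hf,
          eq_inf_of_le hH (hle.trans h) (not_le_similarityGroup h9 (Sesq.of_unitary hf) hf.nondegenerate)⟩))))))))
  -- extension fields
  rw [hcard] at hr
  have hrm : r ∈ Nat.divisors 9 := Nat.mem_divisors.2 ⟨hr, by norm_num⟩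
  rw [show Nat.divisors 9 = {1, 3, 9} by decide] at hrm
  simp only [Finset.mem_insert, Finset.mem_singleton] at hrm
  have hfield : ∀ L : Subalgebra F (Matrix (Fin 9) (Fin 9) F), IsFieldSubalgebra 3 L → H ≤ subalgebraNormalizer L →
      ∃ K : Subalgebra F (Matrix (Fin 9) (Fin 9) F), IsFieldSubalgebra 3 K ∧ H = subalgebraNormalizer K ⊓ specialLinear (Fin 9) F :=
    fun L hL hle => ⟨L, hL, eq_inf_of_le hH hle
      (Cfsg.Agent.Lib.LinNine.not_le_subalgebraNormalizer h9 (by norm_num) hL)⟩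
  have hnormc : H ≤ subalgebraNormalizer (Cfsg.Agent.Lib.TwoPrimeDim.centre N) := fun g hg =>
    Cfsg.Agent.Lib.TwoPrimeDim.centre_normalized hNn hg
  rcases hrm with rfl | rfl | rfl
  rotate_left
  · exact Or.inr (Or.inr (Or.inr (Or.inl (hfield _ hK hnormc))))
  · obtain ⟨L, hL, hle⟩ := Cfsg.Agent.Lib.LinNine.subfield_three _ hK
    exact Or.inr (Or.inr (Or.inr (Or.inl (hfield _ hL (hnormc.trans hle)))))
  have hcs : ∀ M ∈ Cfsg.Agent.Lib.TwoPrimeDim.centre N, ∃ c : F, M = c • (1 : Matrix (Fin 9) (Fin 9) F) := by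
    intro M hM
    obtain ⟨c, hc⟩ := (finrank_eq_one_iff_of_nonzero'
      (⟨1, Subalgebra.one_mem _⟩ : Cfsg.Agent.Lib.TwoPrimeDim.centre N)
      (fun h => one_ne_zero (congrArg Subtype.val h))).1 hK.finrank_eq ⟨M, hM⟩
    exact ⟨c, (congrArg Subtype.val hc).symm⟩
  -- homogeneous
  obtain ⟨d, k, A, φ, hdk, hd0, hk0, hAirr, hAscal, hequiv, hbij⟩ :=
    Cfsg.Agent.Lib.TwoPrimeDim.homogeneous hirr hNn hcs
  rw [hcard] at hdk
  have hdm : d ∈ Nat.divisors 9 := Nat.mem_divisors.2 ⟨⟨k, hdk.symm⟩, by norm_num⟩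
  rw [show Nat.divisors 9 = {1, 3, 9} by decide] at hdm
  simp only [Finset.mem_insert, Finset.mem_singleton] at hdm
  have hsingle : ∀ j (x : Fin d → F), Cfsg.Agent.Lib.MaxTensor.assemble φ (Pi.single j x) = φ j x := by
    intro j x
    show ∑ l, φ l ((Pi.single j x : Fin k → Fin d → F) l) = _
    rw [Finset.sum_eq_single j (fun l _ hl => by rw [Pi.single_eq_of_ne hl, map_zero]) (by simp), Pi.single_eq_same]
  rcases hdm with rfl | rfl | rfl
  · -- one-dimensional constituents: scalars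
    exfalso
    refine hNs fun g hg => ?_
    obtain ⟨c, hc⟩ : ∃ c : F, A ⟨g, hg⟩ = c • 1 :=
      ⟨A ⟨g, hg⟩ 0 0, by ext i j; fin_cases i; fin_cases j; simp⟩
    refine mem_scalars_of_matrix (by simp) (c := c) (eq_smul_one fun v => ?_)
    obtain ⟨u, rfl⟩ := hbij.2 v
    simp only [Cfsg.Agent.Lib.MaxTensor.assemble, LinearMap.coe_mk, AddHom.coe_mk, Matrix.mulVec_sum, Finset.smul_sum]
    refine Finset.sum_congr rfl fun j _ => ?_
    rw [hequiv j ⟨g, hg⟩, hc, Matrix.smul_mulVec, Matrix.one_mulVec, map_smul]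
  · obtain rfl : k = 3 := by omega
    obtain ⟨e, P, he⟩ := Cfsg.Agent.Lib.MaxTensor.normalizer_le_tensor A hAirr hAscal φ hequiv hbij
    obtain ⟨e', he'⟩ := tensor_le_wreath e P
    exact Or.inr (Or.inr (Or.inr (Or.inr (Or.inr (Or.inr (Or.inl
      (hwreath e' P fun g hg => he' (he g (Norms.le_normalizer hNn hg)))))))))
  obtain rfl : k = 1 := by omega
  -- absolutely irreducible
  have hφb : Function.Bijective (φ 0) := by
    constructor
    · intro x y hxy
      have := hbij.1 (a₁ := Pi.single 0 x) (a₂ := Pi.single 0 y) (by rw [hsingle, hsingle, hxy])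
      simpa using congrFun this 0
    · intro v
      obtain ⟨u, rfl⟩ := hbij.2 v
      exact ⟨u 0, by simp [Cfsg.Agent.Lib.MaxTensor.assemble]⟩
  have hNabs : ActsAbsolutelyIrreducibly (matrixSet N) := by
    constructor
    · rw [actsIrreducibly_iff]
      intro U hU
      rcases hAirr (U.comap (φ 0)) (fun n u hu => by
        rw [Submodule.mem_comap] at hu ⊢; rw [← hequiv]; exact hU n n.2 _ hu) with h | h
      · left
        rw [eq_bot_iff]
        intro v hv
        obtain ⟨x, rfl⟩ := hφb.2 v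
        have : x ∈ U.comap (φ 0) := hv
        rw [h, Submodule.mem_bot] at this
        simp [this]
      · right
        rw [eq_top_iff]
        intro v _
        obtain ⟨x, rfl⟩ := hφb.2 v
        exact (h.ge (Submodule.mem_top : x ∈ ⊤) : x ∈ U.comap (φ 0))
    · intro M hM
      have hMc : M ∈ Cfsg.Agent.Lib.TwoPrimeDim.centre N := by
        let E := LinearEquiv.ofBijective (φ 0) hφb
        have hscal : ∀ X : Matrix (Fin 9) (Fin 9) F, (∀ g ∈ N, (g : Matrix (Fin 9) (Fin 9) F) * X = X * g) →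
            ∃ c : F, X = c • 1 := by
          intro X hX
          obtain ⟨c, hc⟩ := hAscal (LinearMap.toMatrix' (E.symm.toLinearMap ∘ₗ Matrix.toLin' X ∘ₗ E.toLinearMap))
            (fun n => by
              apply Matrix.toLin'.injective
              rw [Matrix.toLin'_mul, Matrix.toLin'_mul, Matrix.toLin'_toMatrix']
              refine LinearMap.ext fun x => E.injective ?_
              have key : ∀ y, E (A n *ᵥ y) = ((n : GL (Fin 9) F) : Matrix (Fin 9) (Fin 9) F) *ᵥ E y := fun y =>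
                (hequiv 0 n y).symm
              simp only [LinearMap.comp_apply, LinearEquiv.coe_coe, Matrix.toLin'_apply, LinearEquiv.apply_symm_apply,
                key, Matrix.mulVec_mulVec, hX n n.2])
          refine ⟨c, eq_smul_one fun v => ?_⟩
          obtain ⟨x, rfl⟩ := E.surjective v
          have h2 := congrArg (fun Y => Matrix.toLin' Y x) hc
          simp only [Matrix.toLin'_toMatrix', LinearMap.comp_apply, LinearEquiv.coe_coe, Matrix.toLin'_apply,
            Matrix.smul_mulVec, Matrix.one_mulVec] at h2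
          rw [← E.apply_symm_apply (X *ᵥ E x), h2, map_smul]
        refine Cfsg.Agent.Lib.TwoPrimeDim.mem_centre.2 ⟨fun g hg => (hM _ ⟨g, hg, rfl⟩).symm, fun X hX => ?_⟩
        obtain ⟨c, rfl⟩ := hscal X hX
        simp
      exact hcs M hMc
  have hsubf : ∀ (R : Subgroup (GL (Fin 9) F)), ActsAbsolutelyIrreducibly (matrixSet R) →
      (∀ h ∈ H, ∀ x ∈ R, h * x * h⁻¹ ∈ R) → (∃ F₀ : Subfield F, F₀ ≠ ⊤ ∧ RealisableOver F₀ (matrixSet R)) →
      ∃ (F₀ : Subfield F) (r : ℕ) (P : GL (Fin 9) F), r.Prime ∧ Fintype.card F = Nat.card F₀ ^ r ∧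
        H = subfieldSubgroup F₀ P ⊓ specialLinear (Fin 9) F := by
    rintro R habs hn ⟨F₀, h0, hreal⟩
    obtain ⟨F₁, r, h1, hr', hc, B, hB⟩ :=
      Cfsg.Agent.Lib.PrimeDim.FormDescent.exists_prime_index_realisable h0 hreal
    refine ⟨F₁, r, B⁻¹, hr', by rw [← Nat.card_eq_fintype_card]; exact hc, eq_inf_of_le hH (fun h hh => ?_)
      (not_le_subfieldSubgroup h9 h1 _)⟩
    exact Cfsg.Agent.Lib.PrimeDim.FormDescent.mem_subfieldSubgroup_of_normalises R habs
      (fun p hp => hB _ ⟨p, hp, rfl⟩) (hn h hh)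
  rcases Cfsg.Agent.Lib.LinNine.class_two_or_core (by simp) hNH hNn hmin hNabs with hcomm | hcore | hpair
  · -- class two
    obtain ⟨R, hRH, hRn, hRs, hD, hab⟩ :=
      Cfsg.Agent.Lib.LinNine.class_two hcard hH.1.le hNH hNn hNs hNZ hmin hNabs hcomm
    have hRle : H ≤ subgroupNormalizer R := Norms.le_normalizer hRn
    rcases hD.classify (by decide) H hRn hab with h | h | ⟨σ, f, hf, hfix⟩
    · exact Or.inr (Or.inr (Or.inr (Or.inr (Or.inl (hsubf R hD.absIrr hRn h)))))
    · refine Or.inr (Or.inr (Or.inr (Or.inr (Or.inr (Or.inl ⟨?_, R, h, eq_inf_of_le hH hRle ?_⟩)))))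
      · obtain ⟨p, e, hp3, ⟨hp, -, hpe, hdvd, hmin'⟩, hcases⟩ := h.field
        rw [hD.card_center] at hdvd hmin'
        rcases hcases with ⟨-, he, -, -⟩ | ⟨h2, -⟩ | ⟨h2, -⟩
        · have he1 : e = 1 := by
            by_contra hne
            have he3 : 2 < e := by obtain ⟨m, rfl⟩ := he; omega
            refine hmin' 2 (by norm_num) he3 ?_
            have hp' : p % 3 ≠ 0 := fun h0 => hp3 (((Nat.prime_dvd_prime_iff_eq Nat.prime_three hp).1
              (Nat.dvd_of_mod_eq_zero h0)))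
            have hsq : p ^ 2 % 3 = 1 := by
              rw [Nat.pow_mod]
              have := Nat.mod_lt p (show 3 > 0 by norm_num)
              interval_cases (p % 3) <;> simp at hp' ⊢
            omega
          subst he1
          rw [pow_one] at hpe hdvd
          exact ⟨p, hp, hpe, by have := hp.two_le; omega⟩
        · exact absurd h2 (by norm_num)
        · exact absurd h2 (by norm_num)
      · refine not_le_normalizer h9 (hRH.trans hH.1.le) hRs ?_
        intro hEq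
        exact hH.1.ne (le_antisymm hH.1.le (hEq ▸ hRH))
    · refine Or.inr (Or.inr (Or.inr (Or.inr (Or.inr (Or.inr (Or.inr (Or.inr (Or.inl ⟨σ, f, hf, eq_inf_of_le hH
        (fun h hh => ?_) (not_le_similarityGroup h9 (Sesq.of_unitary hf) hf.nondegenerate)⟩))))))))
      have hs := Sesq.of_unitary hf
      exact Cfsg.Agent.Lib.LinearMax.normaliser_similarity (σ : F →+* F)
        (Cfsg.Agent.Lib.PrimeDim.FormDescent.form_eq (σ : F →+* F) f hs.add_left hs.smul_left hs.add_right hs.smul_right)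
        hf.nondegenerate hD.absIrr hfix (hRn h hh)
  · -- almost simple
    rcases Cfsg.Agent.Lib.LinearMax.forms h9 hH hcore.le hcore.normal hcore.perfect hcore.simple hcore.nonabelian
      hcore.centralizer_scalar hcore.absIrred with h | h | ⟨f, hf, hfe⟩ | h | h
    · exact Or.inr (Or.inr (Or.inr (Or.inr (Or.inl h))))
    · exact Or.inr (Or.inr (Or.inr (Or.inr (Or.inr (Or.inr (Or.inr (Or.inl h)))))))
    · exact (no_symplectic hf).elim
    · exact Or.inr (Or.inr (Or.inr (Or.inr (Or.inr (Or.inr (Or.inr (Or.inr (Or.inl h))))))))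
    · exact Or.inr (Or.inr (Or.inr (Or.inr (Or.inr (Or.inr (Or.inr (Or.inr (Or.inr h))))))))
  · -- two commuting factors
    obtain ⟨P, M₁, M₂, hP, h1, h2, hn1, hn2, hna1, hna2, hcomm, hperm⟩ := hpair
    obtain ⟨hcen, e, Q, hQ⟩ := Cfsg.Agent.Lib.LinNine.wreath hP h1 h2 hn1 hn2 hna1 hna2 hcomm
    exact Or.inr (Or.inr (Or.inr (Or.inr (Or.inr (Or.inr (Or.inl
      (hwreath e Q fun g hg => hQ g (hperm hcen g hg))))))))

end Cfsg.Agent.S5829
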