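import Cfsg.Statements.S5832
import Cfsg.Agent.Lib.UnitNine.Homog
import Cfsg.Agent.Lib.UnitNine.Wreath
import Cfsg.Agent.Lib.UnitNine.PairTwo

set_option autoImplicit false
open Cfsg

namespace Cfsg.Agent.S5832

open Matrix Cfsg.Geo
open Cfsg.Agent.Lib.UnitPrimeDim (omegaU)

/-- Every maximal subgroup of SU_9(q) is of one of the listed geometric types or lies in the residual class. Let F be the field with q² elements, f the standard unitary form Σ u_i v_i^q on F^9, and H a maximal subgroup of SU_9(q) (inside GL_9(F)). Then H is the intersection with SU_9(q) of one of: the stabiliser of a non-zero totally isotropic subspace; the stabiliser of a non-degenerate 1-, 2-, 3- or 4-space; the stabiliser of a decomposition into nine mutually orthogonal non-degenerate 1-spaces; of a decomposition into three mutually orthogonal non-degenerate 3-spaces; the normaliser of an adjoint-closed degree-3 subfield of the matrix algebra;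 a subfield group of odd prime index whose F₀-structure carries f; for q odd, a subfield group of index 2 whose F₀-structure carries f; for q = p ≡ 2 mod 3 prime, the normaliser of an absolutely irreducible extraspecial group 3_+^(1+4) of exponent 3 inside the similarity group of f; for q ≥ 3, the stabiliser of a tensor decomposition of f as a tensor square of a unitary form on F^3 — or else H lies in the residual class of the unitary case. -/
theorem result {F : Type*} [Field F] [Fintype F] (q : ℕ) (hF : Fintype.card F = q ^ 2) (H : Subgroup (Matrix.GeneralLinearGroup (Fin 9) F)) (hH : Cfsg.Geo.IsMaximalIn (Cfsg.GU 9 F q ⊓ Cfsg.Geo.specialLinear (Fin 9) F) H) :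
    (∃ W : Submodule F (Fin 9 → F), W ≠ ⊥ ∧ Cfsg.Geo.IsTotallySingularFor (Cfsg.hermForm 9 F q) W ∧ H = Cfsg.Geo.subspaceStabilizer W ⊓ (Cfsg.GU 9 F q ⊓ Cfsg.Geo.specialLinear (Fin 9) F)) ∨
    (∃ W : Submodule F (Fin 9 → F), W ≠ ⊥ ∧ Cfsg.Geo.IsNondegenerateOn (Cfsg.hermForm 9 F q) W ∧ 2 * Module.finrank F W < 9 ∧ H = Cfsg.Geo.subspaceStabilizer W ⊓ (Cfsg.GU 9 F q ⊓ Cfsg.Geo.specialLinear (Fin 9) F)) ∨
    (∃ D : Fin 9 → Submodule F (Fin 9 → F), Cfsg.Geo.IsNondegenerateMDecomposition (Cfsg.hermForm 9 F q) 1 D ∧ H = Cfsg.Geo.decompositionStabilizer D ⊓ (Cfsg.GU 9 F q ⊓ Cfsg.Geo.specialLinear (Fin 9) F)) ∨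
    (∃ D : Fin 3 → Submodule F (Fin 9 → F), Cfsg.Geo.IsNondegenerateMDecomposition (Cfsg.hermForm 9 F q) 3 D ∧ H = Cfsg.Geo.decompositionStabilizer D ⊓ (Cfsg.GU 9 F q ⊓ Cfsg.Geo.specialLinear (Fin 9) F)) ∨
    (∃ K : Subalgebra F (Matrix (Fin 9) (Fin 9) F), Cfsg.Geo.IsFieldSubalgebra 3 K ∧ Cfsg.Geo.IsAdjointClosedFor (Cfsg.hermForm 9 F q) K ∧ H = Cfsg.Geo.subalgebraNormalizer K ⊓ (Cfsg.GU 9 F q ⊓ Cfsg.Geo.specialLinear (Fin 9) F)) ∨
    (∃ (F₀ : Subfield F) (r : ℕ) (P : Matrix.GeneralLinearGroup (Fin 9) F), r.Prime ∧ Odd r ∧ Fintype.card F = Nat.card F₀ ^ r ∧ Cfsg.Geo.IsFormRationalStructure (Cfsg.hermForm 9 F q) F₀ 1 P ∧ H = Cfsg.Geo.subfieldSubgroup F₀ P ⊓ (Cfsg.GU 9 F q ⊓ Cfsg.Geo.specialLinear (Fin 9) F)) ∨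
    (Odd q ∧ ∃ (F₀ : Subfield F) (P : Matrix.GeneralLinearGroup (Fin 9) F), Fintype.card F = Nat.card F₀ ^ 2 ∧ Cfsg.Geo.IsFormRationalStructure (Cfsg.hermForm 9 F q) F₀ 1 P ∧ H = Cfsg.Geo.subfieldSubgroup F₀ P ⊓ (Cfsg.GU 9 F q ⊓ Cfsg.Geo.specialLinear (Fin 9) F)) ∨
    (∃ (p : ℕ) (R : Subgroup (Matrix.GeneralLinearGroup (Fin 9) F)), p.Prime ∧ q = p ∧ p % 3 = 2 ∧ Cfsg.Geo.IsSymplecticTypeGroup 3 R ∧ Cfsg.Geo.ActsAbsolutelyIrreducibly (Cfsg.Geo.matrixSet R) ∧ R ≤ Cfsg.Geo.similarityGroup (Cfsg.hermForm 9 F q) ∧ Nat.card R = 243 ∧ Nat.card (Subgroup.center R) = 3 ∧ H = Cfsg.Geo.subgroupNormalizer R ⊓ (Cfsg.GU 9 F q ⊓ Cfsg.Geo.specialLinear (Fin 9) F)) ∨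
    (3 ≤ q ∧ ∃ (e : Fin 9 ≃ (Fin 2 → Fin 3)) (P : Matrix.GeneralLinearGroup (Fin 9) F) (f₁ : (Fin 3 → F) → (Fin 3 → F) → F), Cfsg.Geo.IsUnitaryFormPow q f₁ ∧ Cfsg.Geo.IsTensorPowerFormStructure (fun x : F => x ^ q) (Cfsg.hermForm 9 F q) f₁ e P ∧ H = Cfsg.Geo.tensorWreathSubgroup 3 2 e P ⊓ (Cfsg.GU 9 F q ⊓ Cfsg.Geo.specialLinear (Fin 9) F)) ∨
    Cfsg.Geo.InUnitaryResidualClass H := by
  by_contra hno
  change ¬ Lib.UnitNine.Cases q H at hno
  apply hno
  have hGU : H ≤ Cfsg.GU 9 F q := Lib.UnitNine.le_GU hH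
  by_cases hirr : ActsIrreducibly (matrixSet H)
  swap
  · rw [Lib.KnownA.PrimeDim.actsIrreducibly_iff] at hirr
    push Not at hirr
    obtain ⟨W, hW, h0, h1⟩ := hirr
    rcases Lib.UnitMax.reducible hF (by norm_num) hH h0 h1 hW with h | h | ⟨m, D, hm, -⟩
    · exact Or.inl h
    · exact Or.inr (Or.inl h)
    · omega
  have hcent := fun N (hNH : N ≤ H) (hn : Lib.KnownA.PrimeDim.Norms H N) =>
    Lib.UnitNine.centre_scalar hF hH hirr hno hNH hn
  have hwreath : 3 ≤ q → ∀ (e : Fin 9 ≃ (Fin 2 → Fin 3)) (P : GL (Fin 9) F)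
      (g : (Fin 3 → F) → (Fin 3 → F) → F), IsUnitaryFormPow q g →
      IsTensorPowerFormStructure (fun x : F => x ^ q) (Cfsg.hermForm 9 F q) g e P →
      H ≤ tensorWreathSubgroup 3 2 e P → Lib.UnitNine.Cases q H := fun h3 e P g hg hs hle =>
    Or.inr (Or.inr (Or.inr (Or.inr (Or.inr (Or.inr (Or.inr (Or.inr (Or.inl
      ⟨h3, e, P, g, hg, hs, Lib.UnitMax.eq_inf hH hle (Lib.UnitNine.not_le_tensorWreath hF e P)⟩))))))))
  have hq2 : 2 ≤ q := by
    by_contra h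
    have := Fintype.one_lt_card (α := F)
    rw [hF] at this
    interval_cases q <;> simp at this
  have hHs : ¬ H ≤ scalars (Fin 9) F := by
    intro hsub
    rw [Lib.KnownA.PrimeDim.actsIrreducibly_iff] at hirr
    let W : Submodule F (Fin 9 → F) := F ∙ (Pi.single 0 1 : (Fin 9 → F))
    rcases hirr W (by
      intro g hg w hw
      obtain ⟨c, hc⟩ := (mem_scalars_iff g).1 (hsub hg)
      rw [hc, Matrix.smul_mulVec, Matrix.one_mulVec]
      exact W.smul_mem _ hw) with h | h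
    · simp [W] at h
    · have := congrArg (fun U : Submodule F (Fin 9 → F) => Module.finrank F U) h
      simp only [W, finrank_top, Module.finrank_fin_fun] at this
      rw [finrank_span_singleton (by simp)] at this
      omega
  obtain ⟨N, hNH, hNn, hNs, hNZ, hmin⟩ := Lib.KnownA.PrimeDim.exists_minimal hHs
  rcases Lib.UnitNine.homog_cases hirr hNn (hcent N hNH hNn) with h | hNabs | ⟨A, φ, hAirr, hAscal, hequiv, hbij⟩
  · exact absurd h hNs
  · rcases Lib.UnitNine.class_two_or_core (by simp) hNH hNn hmin hNabs with hcomm | hcore | hpair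
    · obtain ⟨R, hRH, hRn, -, hD, -⟩ := Lib.LinNine.class_two (Fintype.card_fin 9) (Lib.UnitNine.le_SL hH)
        hNH hNn hNs hNZ hmin hNabs hcomm
      exact Lib.UnitNine.data_cases hF hH hcent hRH hRn hD
    · exact Lib.UnitNine.core_cases hF hH hcore
    · obtain ⟨P, M₁, M₂, hPH, hperf, hP, h1, h2, hn1, hn2, hna1, hna2, hcomm, hperm⟩ := hpair
      rcases (by omega : q = 2 ∨ 3 ≤ q) with hq | hq
      · exfalso
        obtain ⟨e, Q, f₁, f₂, k1, k2, hs, hle⟩ :=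
          Lib.UnitNine.pair_tensor hF (hPH.trans hGU) hP h1 hn1 hna1 hna2 hcomm
        obtain ⟨a, ha, b, hb, hab⟩ := hna1
        have hbot := Lib.UnitNine.perfect_eq_bot hF hq k1 k2 hs (le_inf hle (hPH.trans hGU)) hperf
        rw [hbot] at h1
        exact hab (by rw [Subgroup.mem_bot.1 (h1 ha), one_mul, mul_one])
      · obtain ⟨hcen, -⟩ := Lib.LinNine.wreath hP h1 h2 hn1 hn2 hna1 hna2 hcomm
        obtain ⟨e, Q, g, hg, hs, hQ⟩ :=
          Lib.UnitNine.pair_wreath hF (hPH.trans hGU) hP h1 h2 hn1 hn2 hna1 hna2 hcomm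
        exact hwreath hq e Q g hg hs fun h hh => hQ h (hperm hcen h hh)
  · obtain ⟨e, P, f₁, f₂, h₁, h₂, hs, hle⟩ :=
      Lib.UnitTwoPrime.tensor hF hGU hNH hNn (by norm_num) (by norm_num) A hAirr hAscal φ hequiv hbij
    rcases (by omega : q = 2 ∨ 3 ≤ q) with hq | hq
    · obtain ⟨R, hRΩ, hD, hRT⟩ := Lib.UnitNine.symplectic_data hF hq h₁ h₂ hs
      have hHR : H ≤ subgroupNormalizer R := Lib.KnownA.PrimeDim.Norms.le_normalizer
        fun h hh x hx => hRT h ⟨hle hh, hH.1.le hh⟩ x hx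
      have heq := Lib.UnitMax.eq_inf hH hHR (Lib.UnitNine.not_le_normalizer_data hF hD)
      have hRH : R ≤ H := fun x hx => heq ▸ (Subgroup.mem_inf.2 ⟨Subgroup.le_normalizer hx, hRΩ hx⟩)
      exact Lib.UnitNine.data_cases hF hH hcent hRH (fun h hh x hx => hRT h ⟨hle hh, hH.1.le hh⟩ x hx) hD
    · obtain ⟨e', P', g, hg, hs', hle'⟩ := Lib.UnitNine.wreath_structure hF h₁ h₂ hs
      exact hwreath hq e' P' g hg hs' (hle.trans hle')

end Cfsg.Agent.S5832
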