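import Cfsg.Statements.S5841
import Cfsg.Agent.Lib.UnitMax.Geom
import Cfsg.Agent.Lib.UnitMax.Forms
import Cfsg.Agent.Lib.UnitTwoPrime.Tensor
import Cfsg.Agent.Lib.TwoPrimeDim.Core
import Cfsg.Agent.Lib.TwoPrimeDim.Homogeneous
import Cfsg.Agent.Lib.SLTwoPrime.Core
-- import your own Cfsg.Agent.* helpers here

set_option autoImplicit false
open Cfsg

open scoped Matrix

namespace Cfsg.Agent.S5841

/-- Every maximal subgroup of SU_10(q) is of one of the listed geometric types or lies in the residual class. Let F be the field with q² elements (characteristic p), f the standard unitary form Σ u_i v_i^q on F^10, and H a maximal subgroup of SU_10(q) (inside GL_10(F)). Then H is the intersection with SU_10(q) of one of: the stabiliser of a non-zero totally isotropic subspace; the stabiliser of a non-zero non-degenerate subspace W with 2 dim W < 10; the stabiliser of a decomposition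 into 10 mutually orthogonal non-degenerate 1-spaces; for q ≥ 3, the stabiliser of a decomposition into 5 mutually orthogonal non-degenerate 2-spaces; the stabiliser of a decomposition into 2 mutually orthogonal non-degenerate 5-spaces; of a decomposition into two totally isotropic 5-spaces; the normaliser of an adjoint-closed degree-5 subfield of the matrix algebra; for q ≥ 3, the stabiliser of a tensor decomposition of f into unitary forms on F^2 and F^5; a subfield group of odd prime index whose F₀-structure carries f; a subfield group of index 2 and symplectic type; for q odd, a subfield group of index 2 whose F₀-structure carries f — or else H lies in the residual class of the unitary case (modulo scalars H is almost simple, with absolutely irreducible perfect socle preimage realisable over no proper subfield and fixing no non-degenerate quadratic or symplectic form).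 -/
theorem result {F : Type*} [Field F] [Fintype F] (q : ℕ) (hF : Fintype.card F = q ^ 2) (H : Subgroup (Matrix.GeneralLinearGroup (Fin 10) F)) (hH : Cfsg.Geo.IsMaximalIn (Cfsg.GU 10 F q ⊓ Cfsg.Geo.specialLinear (Fin 10) F) H) :
    (∃ W : Submodule F (Fin 10 → F), W ≠ ⊥ ∧ Cfsg.Geo.IsTotallySingularFor (Cfsg.hermForm 10 F q) W ∧ H = Cfsg.Geo.subspaceStabilizer W ⊓ (Cfsg.GU 10 F q ⊓ Cfsg.Geo.specialLinear (Fin 10) F)) ∨
    (∃ W : Submodule F (Fin 10 → F), W ≠ ⊥ ∧ Cfsg.Geo.IsNondegenerateOn (Cfsg.hermForm 10 F q) W ∧ 2 * Module.finrank F W < 10 ∧ H = Cfsg.Geo.subspaceStabilizer W ⊓ (Cfsg.GU 10 F q ⊓ Cfsg.Geo.specialLinear (Fin 10) F)) ∨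
    (∃ D : Fin 10 → Submodule F (Fin 10 → F), Cfsg.Geo.IsNondegenerateMDecomposition (Cfsg.hermForm 10 F q) 1 D ∧ H = Cfsg.Geo.decompositionStabilizer D ⊓ (Cfsg.GU 10 F q ⊓ Cfsg.Geo.specialLinear (Fin 10) F)) ∨
    (3 ≤ q ∧ ∃ D : Fin 5 → Submodule F (Fin 10 → F), Cfsg.Geo.IsNondegenerateMDecomposition (Cfsg.hermForm 10 F q) 2 D ∧ H = Cfsg.Geo.decompositionStabilizer D ⊓ (Cfsg.GU 10 F q ⊓ Cfsg.Geo.specialLinear (Fin 10) F)) ∨
    (∃ D : Fin 2 → Submodule F (Fin 10 → F), Cfsg.Geo.IsNondegenerateMDecomposition (Cfsg.hermForm 10 F q) 5 D ∧ H = Cfsg.Geo.decompositionStabilizer D ⊓ (Cfsg.GU 10 F q ⊓ Cfsg.Geo.specialLinear (Fin 10) F)) ∨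
    (∃ D : Fin 2 → Submodule F (Fin 10 → F), Cfsg.Geo.IsMDecomposition 5 D ∧ (∀ i, Cfsg.Geo.IsTotallySingularFor (Cfsg.hermForm 10 F q) (D i)) ∧ H = Cfsg.Geo.decompositionStabilizer D ⊓ (Cfsg.GU 10 F q ⊓ Cfsg.Geo.specialLinear (Fin 10) F)) ∨
    (∃ K : Subalgebra F (Matrix (Fin 10) (Fin 10) F), Cfsg.Geo.IsFieldSubalgebra 5 K ∧ Cfsg.Geo.IsAdjointClosedFor (Cfsg.hermForm 10 F q) K ∧ H = Cfsg.Geo.subalgebraNormalizer K ⊓ (Cfsg.GU 10 F q ⊓ Cfsg.Geo.specialLinear (Fin 10) F)) ∨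
    (3 ≤ q ∧ ∃ (e : Fin 10 ≃ Fin 2 × Fin 5) (P : Matrix.GeneralLinearGroup (Fin 10) F) (f₁ : (Fin 2 → F) → (Fin 2 → F) → F) (f₂ : (Fin 5 → F) → (Fin 5 → F) → F), Cfsg.Geo.IsUnitaryFormPow q f₁ ∧ Cfsg.Geo.IsUnitaryFormPow q f₂ ∧ Cfsg.Geo.IsTensorFormStructure (fun x : F => x ^ q) (Cfsg.hermForm 10 F q) f₁ f₂ e P ∧ H = Cfsg.Geo.tensorProductSubgroup 2 5 e P ⊓ (Cfsg.GU 10 F q ⊓ Cfsg.Geo.specialLinear (Fin 10) F)) ∨
    (∃ (F₀ : Subfield F) (r : ℕ) (P : Matrix.GeneralLinearGroup (Fin 10) F), r.Prime ∧ Odd r ∧ Fintype.card F = Nat.card F₀ ^ r ∧ Cfsg.Geo.IsFormRationalStructure (Cfsg.hermForm 10 F q) F₀ 1 P ∧ H = Cfsg.Geo.subfieldSubgroup F₀ P ⊓ (Cfsg.GU 10 F q ⊓ Cfsg.Geo.specialLinear (Fin 10) F)) ∨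
    (∃ (F₀ : Subfield F) (P : Matrix.GeneralLinearGroup (Fin 10) F) (ζ : F), Fintype.card F = Nat.card F₀ ^ 2 ∧ ζ ≠ 0 ∧ ζ + ζ ^ q = 0 ∧ Cfsg.Geo.IsFormRationalStructure (Cfsg.hermForm 10 F q) F₀ ζ P ∧ (∀ u : Fin 10 → F, (∀ i, u i ∈ F₀) → (Cfsg.hermForm 10 F q) (Matrix.mulVec (P : Matrix (Fin 10) (Fin 10) F) u) (Matrix.mulVec (P : Matrix (Fin 10) (Fin 10) F) u) = 0) ∧ H = Cfsg.Geo.subfieldSubgroup F₀ P ⊓ (Cfsg.GU 10 F q ⊓ Cfsg.Geo.specialLinear (Fin 10) F)) ∨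
    (Odd q ∧ ∃ (F₀ : Subfield F) (P : Matrix.GeneralLinearGroup (Fin 10) F), Fintype.card F = Nat.card F₀ ^ 2 ∧ Cfsg.Geo.IsFormRationalStructure (Cfsg.hermForm 10 F q) F₀ 1 P ∧ H = Cfsg.Geo.subfieldSubgroup F₀ P ⊓ (Cfsg.GU 10 F q ⊓ Cfsg.Geo.specialLinear (Fin 10) F)) ∨
    Cfsg.Geo.InUnitaryResidualClass H := by
  classical
  have hn4 : 4 ≤ 10 := by norm_num
  have hHU : H ≤ Cfsg.GU 10 F q := hH.1.le.trans inf_le_left
  have hH' : Cfsg.Geo.IsMaximalIn (Cfsg.Agent.Lib.UnitPrimeDim.omegaU 10 F q) H := hH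
  have hdec : ∀ {t m : ℕ} {D : Fin t → Submodule F (Fin 10 → F)}, Cfsg.Geo.IsMDecomposition m D →
      H ≤ Cfsg.Geo.decompositionStabilizer D →
      H = Cfsg.Geo.decompositionStabilizer D ⊓ (Cfsg.GU 10 F q ⊓ Cfsg.Geo.specialLinear (Fin 10) F) :=
    fun hD hle => Cfsg.Agent.Lib.UnitMax.eq_inf hH' hle
      (Cfsg.Agent.Lib.UnitMax.not_le_decompositionStabilizer hF (by norm_num) hD)
  have hq2 : ¬ 3 ≤ q → q = 2 := fun h => by
    have := Cfsg.Agent.Lib.Geometry.q_pos hF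
    omega
  -- orthogonal decompositions
  have orth : ∀ {s m : ℕ} (D : Fin s → Submodule F (Fin 10 → F)),
      Cfsg.Geo.IsNondegenerateMDecomposition (Cfsg.hermForm 10 F q) m D → s * m = 10 →
      H ≤ Cfsg.Geo.decompositionStabilizer D → (
    (∃ W : Submodule F (Fin 10 → F), W ≠ ⊥ ∧ Cfsg.Geo.IsTotallySingularFor (Cfsg.hermForm 10 F q) W ∧ H = Cfsg.Geo.subspaceStabilizer W ⊓ (Cfsg.GU 10 F q ⊓ Cfsg.Geo.specialLinear (Fin 10) F)) ∨
    (∃ W : Submodule F (Fin 10 → F), W ≠ ⊥ ∧ Cfsg.Geo.IsNondegenerateOn (Cfsg.hermForm 10 F q) W ∧ 2 * Module.finrank F W < 10 ∧ H = Cfsg.Geo.subspaceStabilizer W ⊓ (Cfsg.GU 10 F q ⊓ Cfsg.Geo.specialLinear (Fin 10) F)) ∨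
    (∃ D : Fin 10 → Submodule F (Fin 10 → F), Cfsg.Geo.IsNondegenerateMDecomposition (Cfsg.hermForm 10 F q) 1 D ∧ H = Cfsg.Geo.decompositionStabilizer D ⊓ (Cfsg.GU 10 F q ⊓ Cfsg.Geo.specialLinear (Fin 10) F)) ∨
    (3 ≤ q ∧ ∃ D : Fin 5 → Submodule F (Fin 10 → F), Cfsg.Geo.IsNondegenerateMDecomposition (Cfsg.hermForm 10 F q) 2 D ∧ H = Cfsg.Geo.decompositionStabilizer D ⊓ (Cfsg.GU 10 F q ⊓ Cfsg.Geo.specialLinear (Fin 10) F)) ∨
    (∃ D : Fin 2 → Submodule F (Fin 10 → F), Cfsg.Geo.IsNondegenerateMDecomposition (Cfsg.hermForm 10 F q) 5 D ∧ H = Cfsg.Geo.decompositionStabilizer D ⊓ (Cfsg.GU 10 F q ⊓ Cfsg.Geo.specialLinear (Fin 10) F)) ∨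
    (∃ D : Fin 2 → Submodule F (Fin 10 → F), Cfsg.Geo.IsMDecomposition 5 D ∧ (∀ i, Cfsg.Geo.IsTotallySingularFor (Cfsg.hermForm 10 F q) (D i)) ∧ H = Cfsg.Geo.decompositionStabilizer D ⊓ (Cfsg.GU 10 F q ⊓ Cfsg.Geo.specialLinear (Fin 10) F)) ∨
    (∃ K : Subalgebra F (Matrix (Fin 10) (Fin 10) F), Cfsg.Geo.IsFieldSubalgebra 5 K ∧ Cfsg.Geo.IsAdjointClosedFor (Cfsg.hermForm 10 F q) K ∧ H = Cfsg.Geo.subalgebraNormalizer K ⊓ (Cfsg.GU 10 F q ⊓ Cfsg.Geo.specialLinear (Fin 10) F)) ∨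
    (3 ≤ q ∧ ∃ (e : Fin 10 ≃ Fin 2 × Fin 5) (P : Matrix.GeneralLinearGroup (Fin 10) F) (f₁ : (Fin 2 → F) → (Fin 2 → F) → F) (f₂ : (Fin 5 → F) → (Fin 5 → F) → F), Cfsg.Geo.IsUnitaryFormPow q f₁ ∧ Cfsg.Geo.IsUnitaryFormPow q f₂ ∧ Cfsg.Geo.IsTensorFormStructure (fun x : F => x ^ q) (Cfsg.hermForm 10 F q) f₁ f₂ e P ∧ H = Cfsg.Geo.tensorProductSubgroup 2 5 e P ⊓ (Cfsg.GU 10 F q ⊓ Cfsg.Geo.specialLinear (Fin 10) F)) ∨
    (∃ (F₀ : Subfield F) (r : ℕ) (P : Matrix.GeneralLinearGroup (Fin 10) F), r.Prime ∧ Odd r ∧ Fintype.card F = Nat.card F₀ ^ r ∧ Cfsg.Geo.IsFormRationalStructure (Cfsg.hermForm 10 F q) F₀ 1 P ∧ H = Cfsg.Geo.subfieldSubgroup F₀ P ⊓ (Cfsg.GU 10 F q ⊓ Cfsg.Geo.specialLinear (Fin 10) F)) ∨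
    (∃ (F₀ : Subfield F) (P : Matrix.GeneralLinearGroup (Fin 10) F) (ζ : F), Fintype.card F = Nat.card F₀ ^ 2 ∧ ζ ≠ 0 ∧ ζ + ζ ^ q = 0 ∧ Cfsg.Geo.IsFormRationalStructure (Cfsg.hermForm 10 F q) F₀ ζ P ∧ (∀ u : Fin 10 → F, (∀ i, u i ∈ F₀) → (Cfsg.hermForm 10 F q) (Matrix.mulVec (P : Matrix (Fin 10) (Fin 10) F) u) (Matrix.mulVec (P : Matrix (Fin 10) (Fin 10) F) u) = 0) ∧ H = Cfsg.Geo.subfieldSubgroup F₀ P ⊓ (Cfsg.GU 10 F q ⊓ Cfsg.Geo.specialLinear (Fin 10) F)) ∨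
    (Odd q ∧ ∃ (F₀ : Subfield F) (P : Matrix.GeneralLinearGroup (Fin 10) F), Fintype.card F = Nat.card F₀ ^ 2 ∧ Cfsg.Geo.IsFormRationalStructure (Cfsg.hermForm 10 F q) F₀ 1 P ∧ H = Cfsg.Geo.subfieldSubgroup F₀ P ⊓ (Cfsg.GU 10 F q ⊓ Cfsg.Geo.specialLinear (Fin 10) F)) ∨
    Cfsg.Geo.InUnitaryResidualClass H) := fun {s m} D hD hsm hle => by
    have hs2 := hD.decomp.two_le
    have hmpos := hD.decomp.pos
    have hs : s ≤ 10 := by
      have := Nat.le_mul_of_pos_right s hmpos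
      omega
    have hdvd : s ∣ 10 := ⟨m, hsm.symm⟩
    have hcases : s = 10 ∨ s = 5 ∨ s = 2 := by interval_cases s <;> omega
    rcases hcases with rfl | rfl | rfl
    · obtain rfl : m = 1 := by omega
      exact Or.inr (Or.inr (Or.inl ⟨D, hD, hdec hD.decomp hle⟩))
    · obtain rfl : m = 2 := by omega
      by_cases hq : 3 ≤ q
      · exact Or.inr (Or.inr (Or.inr (Or.inl ⟨hq, D, hD, hdec hD.decomp hle⟩)))
      · obtain ⟨E, hE, hEle⟩ := Cfsg.Agent.Lib.UnitTwoPrime.decomposition_two_le_lines hF (hq2 hq) hD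
        exact Or.inr (Or.inr (Or.inl ⟨E, hE, hdec hE.decomp ((le_inf hle hHU).trans hEle)⟩))
    · obtain rfl : m = 5 := by omega
      exact Or.inr (Or.inr (Or.inr (Or.inr (Or.inl ⟨D, hD, hdec hD.decomp hle⟩))))
  by_cases hirr : Cfsg.Geo.ActsIrreducibly (Cfsg.Geo.matrixSet H)
  swap
  · rw [Cfsg.Agent.Lib.TwoPrimeDim.actsIrreducibly_iff] at hirr
    push Not at hirr
    obtain ⟨W, hW, hW0, hW1⟩ := hirr
    rcases Cfsg.Agent.Lib.UnitMax.reducible hF (by norm_num) hH' hW0 hW1 hW with h | h | ⟨m, D, hm, hD, hle⟩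
    · exact Or.inl h
    · exact Or.inr (Or.inl h)
    · exact orth D hD hm hle
  haveI : Nonempty (Fin 10) := ⟨0⟩
  have hHs : ¬ H ≤ Cfsg.Geo.scalars (Fin 10) F := by
    intro hle
    rw [Cfsg.Agent.Lib.TwoPrimeDim.actsIrreducibly_iff] at hirr
    rcases hirr (Submodule.span F {Pi.single 0 1}) (fun g hg w hw => by
      obtain ⟨c, hc⟩ := (Cfsg.Geo.mem_scalars_iff g).mp (hle hg)
      rw [hc, Matrix.smul_mulVec, Matrix.one_mulVec]
      exact Submodule.smul_mem _ _ hw) with h | h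
    · simp at h
    · have h1 : Module.finrank F ↥(Submodule.span F {(Pi.single 0 1 : Fin 10 → F)}) = 1 :=
        finrank_span_singleton (by simp)
      rw [h, finrank_top, Module.finrank_fin_fun] at h1
      omega
  obtain ⟨N, hNH, hNn, hNs, hmin'⟩ := Cfsg.Agent.Lib.TwoPrimeDim.exists_minimal (H := H) (N₀ := H)
    (fun g hg x hx => mul_mem (mul_mem hg hx) (inv_mem hg)) hHs
  have hsq : Squarefree (Fintype.card (Fin 10)) := by
    rw [Fintype.card_fin, Nat.squarefree_iff_prime_squarefree]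
    intro p hp h
    have h10 := Nat.le_of_dvd (by norm_num) h
    have : p ≤ 3 := by nlinarith
    have := hp.two_le
    interval_cases p <;> omega
  have hpp : ¬ IsPrimePow (Fintype.card (Fin 10)) := by
    rw [Fintype.card_fin, isPrimePow_nat_iff]
    rintro ⟨p, k, hp, hk, h⟩
    have h2 : 2 ∣ p ^ k := by omega
    have h5 : 5 ∣ p ^ k := by omega
    have e2 := (Nat.prime_dvd_prime_iff_eq Nat.prime_two hp).mp (Nat.prime_two.dvd_of_dvd_pow h2)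
    have e5 := (Nat.prime_dvd_prime_iff_eq Nat.prime_five hp).mp (Nat.prime_five.dvd_of_dvd_pow h5)
    omega
  rcases Cfsg.Agent.Lib.TwoPrimeDim.centre_cases hirr hNn with ⟨r, hr, hK⟩ | ⟨t, w, e, hB⟩
  swap
  · rcases Cfsg.Agent.Lib.UnitMax.blocks_cases hF hHU hNH hB with ⟨s, m, D, hD, hsm, hle⟩ | ⟨m, D, hm, hD, hTS, hle⟩
    · exact orth D hD hsm hle
    · obtain rfl : m = 5 := by omega
      exact Or.inr (Or.inr (Or.inr (Or.inr (Or.inr (Or.inl ⟨D, hD, hTS, hdec hD hle⟩)))))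
  obtain ⟨hodd, hadj⟩ := Cfsg.Agent.Lib.UnitMax.field_odd hF (hNH.trans hHU) hK (by norm_num)
  rw [Fintype.card_fin] at hr
  obtain rfl | rfl : r = 1 ∨ r = 5 := by
    have := Nat.le_of_dvd (by norm_num) hr
    obtain ⟨k, rfl⟩ := hodd
    have : k ≤ 5 := by omega
    interval_cases k <;> omega
  swap
  · exact Or.inr (Or.inr (Or.inr (Or.inr (Or.inr (Or.inr (Or.inl ⟨_, hK, hadj,
      Cfsg.Agent.Lib.UnitMax.eq_inf hH' (fun g hg => Cfsg.Agent.Lib.TwoPrimeDim.centre_normalized hNn hg)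
        (Cfsg.Agent.Lib.UnitPrimeDim.not_le_subalgebraNormalizer hF hn4 (by norm_num) _ hK)⟩))))))
  have hc : ∀ M ∈ Cfsg.Agent.Lib.TwoPrimeDim.centre N, ∃ c : F, M = c • (1 : Matrix (Fin 10) (Fin 10) F) := by
    intro M hM
    have htop := Subalgebra.bot_eq_top_of_finrank_eq_one (F := F) (E := Cfsg.Agent.Lib.TwoPrimeDim.centre N) hK.finrank_eq
    have hmem : (⟨M, hM⟩ : Cfsg.Agent.Lib.TwoPrimeDim.centre N) ∈ (⊥ : Subalgebra F _) := htop ▸ Algebra.mem_top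
    obtain ⟨c, hc⟩ := Algebra.mem_bot.mp hmem
    exact ⟨c, by have := congrArg Subtype.val hc; rw [Algebra.algebraMap_eq_smul_one] at this; exact this.symm⟩
  obtain ⟨d, k, A, φ, hdk, hd, hk, hAirr, hAscal, hequiv, hbij⟩ :=
    Cfsg.Agent.Lib.TwoPrimeDim.homogeneous hirr hNn hc
  rw [Fintype.card_fin] at hdk
  have hA1 : d ≠ 1 := by
    rintro rfl
    refine hNs fun g hg => Cfsg.Agent.Lib.SLTwoPrime.mem_scalars_of_val (c := A ⟨g, hg⟩ 0 0)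
      (Matrix.ext_iff_mulVec.2 fun v => ?_)
    obtain ⟨u, rfl⟩ := hbij.2 v
    rw [Matrix.smul_mulVec, Matrix.one_mulVec]
    show _ *ᵥ ∑ j, φ j (u j) = _ • ∑ j, φ j (u j)
    rw [Matrix.mulVec_sum, Finset.smul_sum]
    refine Finset.sum_congr rfl fun j _ => (hequiv j ⟨g, hg⟩ (u j)).trans ?_
    rw [← map_smul]
    congr 1
    funext i
    fin_cases i
    simp [Matrix.mulVec, dotProduct]
  have hkcase : k = 1 ∨ (d = 2 ∧ k = 5) ∨ (d = 5 ∧ k = 2) := by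
    have : d ≤ 10 := Nat.le_of_dvd (by norm_num) ⟨k, hdk.symm⟩
    interval_cases d <;> omega
  rcases hkcase with rfl | hcases
  · -- absolutely irreducible
    obtain rfl : d = 10 := by omega
    have habs : Cfsg.Geo.ActsAbsolutelyIrreducibly (Cfsg.Geo.matrixSet N) := by
      have hφ : Function.Bijective (φ 0) := by
        have h1 : ∀ u : Fin 1 → Fin 10 → F, Cfsg.Agent.Lib.MaxTensor.assemble φ u = φ 0 (u 0) := fun u => by
          simp [Cfsg.Agent.Lib.MaxTensor.assemble]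
        refine ⟨fun a b hab => ?_, fun v => ?_⟩
        · have := hbij.1 (a₁ := fun _ => a) (a₂ := fun _ => b) (by rw [h1, h1]; exact hab)
          exact congrFun this 0
        · obtain ⟨u, hu⟩ := hbij.2 v
          exact ⟨u 0, by rw [← hu, h1]⟩
      let ε := LinearEquiv.ofBijective (φ 0) hφ
      refine ⟨(Cfsg.Agent.Lib.TwoPrimeDim.actsIrreducibly_iff N).mpr fun W hW => ?_, fun M hM => ?_⟩
      · rcases hAirr (W.comap (φ 0)) (fun n u hu => by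
          rw [Submodule.mem_comap, ← hequiv]
          exact hW _ n.2 _ hu) with h | h
        · left
          rw [← Submodule.map_comap_eq_of_surjective hφ.2 W, h, Submodule.map_bot]
        · right
          rw [← Submodule.map_comap_eq_of_surjective hφ.2 W, h, Submodule.map_top, LinearMap.range_eq_top.mpr hφ.2]
      · let L := ε.symm.toLinearMap ∘ₗ Matrix.toLin' M ∘ₗ ε.toLinearMap
        obtain ⟨c, hc⟩ := hAscal (LinearMap.toMatrix' L) fun n => Matrix.ext_iff_mulVec.2 fun x => by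
          rw [← Matrix.mulVec_mulVec, ← Matrix.mulVec_mulVec, ← Matrix.toLin'_apply (LinearMap.toMatrix' L),
            ← Matrix.toLin'_apply (LinearMap.toMatrix' L), Matrix.toLin'_toMatrix']
          apply hφ.1
          have e1 : ∀ y, φ 0 (L y) = M *ᵥ φ 0 y := fun y => by
            show ε (ε.symm (Matrix.toLin' M (ε y))) = _
            rw [LinearEquiv.apply_symm_apply, Matrix.toLin'_apply]; rfl
          rw [e1, ← hequiv, ← hequiv, e1, Matrix.mulVec_mulVec, Matrix.mulVec_mulVec, hM _ ⟨_, n.2, rfl⟩]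
        refine ⟨c, Matrix.ext_iff_mulVec.2 fun v => ?_⟩
        obtain ⟨x, rfl⟩ := hφ.2 v
        have e2 : L x = c • x := by
          rw [← Matrix.toLin'_toMatrix' L, Matrix.toLin'_apply, hc, Matrix.smul_mulVec, Matrix.one_mulVec]
        have e3 : ε (L x) = M *ᵥ φ 0 x := by
          show ε (ε.symm (Matrix.toLin' M (ε x))) = _
          rw [LinearEquiv.apply_symm_apply, Matrix.toLin'_apply]; rfl
        rw [← e3, e2, map_smul, Matrix.smul_mulVec, Matrix.one_mulVec]; rfl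
    have hC := Cfsg.Agent.Lib.TwoPrimeDim.coreData hsq hpp (by simp) hNH hNn hNs hmin' habs
    rcases Cfsg.Agent.Lib.UnitMax.forms hF hn4 hH' hC with h | h | h | h
    · exact Or.inr (Or.inr (Or.inr (Or.inr (Or.inr (Or.inr (Or.inr (Or.inr (Or.inl h))))))))
    · exact Or.inr (Or.inr (Or.inr (Or.inr (Or.inr (Or.inr (Or.inr (Or.inr (Or.inr (Or.inl h)))))))))
    · exact Or.inr (Or.inr (Or.inr (Or.inr (Or.inr (Or.inr (Or.inr (Or.inr (Or.inr (Or.inr (Or.inl h))))))))))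
    · exact Or.inr (Or.inr (Or.inr (Or.inr (Or.inr (Or.inr (Or.inr (Or.inr (Or.inr (Or.inr (Or.inr (h)))))))))))
  -- tensor products
  have two : ∀ (e : Fin 10 ≃ Fin 2 × Fin 5) (P : Matrix.GeneralLinearGroup (Fin 10) F)
      (f₁ : (Fin 2 → F) → (Fin 2 → F) → F) (f₂ : (Fin 5 → F) → (Fin 5 → F) → F),
      Cfsg.Geo.IsUnitaryFormPow q f₁ → Cfsg.Geo.IsUnitaryFormPow q f₂ →
      Cfsg.Geo.IsTensorFormStructure (fun x : F => x ^ q) (Cfsg.hermForm 10 F q) f₁ f₂ e P →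
      H ≤ Cfsg.Geo.tensorProductSubgroup 2 5 e P → (
    (∃ W : Submodule F (Fin 10 → F), W ≠ ⊥ ∧ Cfsg.Geo.IsTotallySingularFor (Cfsg.hermForm 10 F q) W ∧ H = Cfsg.Geo.subspaceStabilizer W ⊓ (Cfsg.GU 10 F q ⊓ Cfsg.Geo.specialLinear (Fin 10) F)) ∨
    (∃ W : Submodule F (Fin 10 → F), W ≠ ⊥ ∧ Cfsg.Geo.IsNondegenerateOn (Cfsg.hermForm 10 F q) W ∧ 2 * Module.finrank F W < 10 ∧ H = Cfsg.Geo.subspaceStabilizer W ⊓ (Cfsg.GU 10 F q ⊓ Cfsg.Geo.specialLinear (Fin 10) F)) ∨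
    (∃ D : Fin 10 → Submodule F (Fin 10 → F), Cfsg.Geo.IsNondegenerateMDecomposition (Cfsg.hermForm 10 F q) 1 D ∧ H = Cfsg.Geo.decompositionStabilizer D ⊓ (Cfsg.GU 10 F q ⊓ Cfsg.Geo.specialLinear (Fin 10) F)) ∨
    (3 ≤ q ∧ ∃ D : Fin 5 → Submodule F (Fin 10 → F), Cfsg.Geo.IsNondegenerateMDecomposition (Cfsg.hermForm 10 F q) 2 D ∧ H = Cfsg.Geo.decompositionStabilizer D ⊓ (Cfsg.GU 10 F q ⊓ Cfsg.Geo.specialLinear (Fin 10) F)) ∨
    (∃ D : Fin 2 → Submodule F (Fin 10 → F), Cfsg.Geo.IsNondegenerateMDecomposition (Cfsg.hermForm 10 F q) 5 D ∧ H = Cfsg.Geo.decompositionStabilizer D ⊓ (Cfsg.GU 10 F q ⊓ Cfsg.Geo.specialLinear (Fin 10) F)) ∨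
    (∃ D : Fin 2 → Submodule F (Fin 10 → F), Cfsg.Geo.IsMDecomposition 5 D ∧ (∀ i, Cfsg.Geo.IsTotallySingularFor (Cfsg.hermForm 10 F q) (D i)) ∧ H = Cfsg.Geo.decompositionStabilizer D ⊓ (Cfsg.GU 10 F q ⊓ Cfsg.Geo.specialLinear (Fin 10) F)) ∨
    (∃ K : Subalgebra F (Matrix (Fin 10) (Fin 10) F), Cfsg.Geo.IsFieldSubalgebra 5 K ∧ Cfsg.Geo.IsAdjointClosedFor (Cfsg.hermForm 10 F q) K ∧ H = Cfsg.Geo.subalgebraNormalizer K ⊓ (Cfsg.GU 10 F q ⊓ Cfsg.Geo.specialLinear (Fin 10) F)) ∨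
    (3 ≤ q ∧ ∃ (e : Fin 10 ≃ Fin 2 × Fin 5) (P : Matrix.GeneralLinearGroup (Fin 10) F) (f₁ : (Fin 2 → F) → (Fin 2 → F) → F) (f₂ : (Fin 5 → F) → (Fin 5 → F) → F), Cfsg.Geo.IsUnitaryFormPow q f₁ ∧ Cfsg.Geo.IsUnitaryFormPow q f₂ ∧ Cfsg.Geo.IsTensorFormStructure (fun x : F => x ^ q) (Cfsg.hermForm 10 F q) f₁ f₂ e P ∧ H = Cfsg.Geo.tensorProductSubgroup 2 5 e P ⊓ (Cfsg.GU 10 F q ⊓ Cfsg.Geo.specialLinear (Fin 10) F)) ∨
    (∃ (F₀ : Subfield F) (r : ℕ) (P : Matrix.GeneralLinearGroup (Fin 10) F), r.Prime ∧ Odd r ∧ Fintype.card F = Nat.card F₀ ^ r ∧ Cfsg.Geo.IsFormRationalStructure (Cfsg.hermForm 10 F q) F₀ 1 P ∧ H = Cfsg.Geo.subfieldSubgroup F₀ P ⊓ (Cfsg.GU 10 F q ⊓ Cfsg.Geo.specialLinear (Fin 10) F)) ∨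
    (∃ (F₀ : Subfield F) (P : Matrix.GeneralLinearGroup (Fin 10) F) (ζ : F), Fintype.card F = Nat.card F₀ ^ 2 ∧ ζ ≠ 0 ∧ ζ + ζ ^ q = 0 ∧ Cfsg.Geo.IsFormRationalStructure (Cfsg.hermForm 10 F q) F₀ ζ P ∧ (∀ u : Fin 10 → F, (∀ i, u i ∈ F₀) → (Cfsg.hermForm 10 F q) (Matrix.mulVec (P : Matrix (Fin 10) (Fin 10) F) u) (Matrix.mulVec (P : Matrix (Fin 10) (Fin 10) F) u) = 0) ∧ H = Cfsg.Geo.subfieldSubgroup F₀ P ⊓ (Cfsg.GU 10 F q ⊓ Cfsg.Geo.specialLinear (Fin 10) F)) ∨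
    (Odd q ∧ ∃ (F₀ : Subfield F) (P : Matrix.GeneralLinearGroup (Fin 10) F), Fintype.card F = Nat.card F₀ ^ 2 ∧ Cfsg.Geo.IsFormRationalStructure (Cfsg.hermForm 10 F q) F₀ 1 P ∧ H = Cfsg.Geo.subfieldSubgroup F₀ P ⊓ (Cfsg.GU 10 F q ⊓ Cfsg.Geo.specialLinear (Fin 10) F)) ∨
    Cfsg.Geo.InUnitaryResidualClass H) := fun e P f₁ f₂ h₁ h₂ hs hle => by
    by_cases hq : 3 ≤ q
    · exact Or.inr (Or.inr (Or.inr (Or.inr (Or.inr (Or.inr (Or.inr (Or.inl ⟨hq, e, P, f₁, f₂, h₁, h₂, hs,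
          Cfsg.Agent.Lib.UnitMax.eq_inf hH' hle (Cfsg.Agent.Lib.UnitMax.not_le_tensorProductSubgroup hF
            (by norm_num) (by norm_num) (by norm_num) e P)⟩)))))))
    · obtain ⟨D, hD, hDle⟩ := Cfsg.Agent.Lib.UnitTwoPrime.tensor_two_le_decomposition hF (hq2 hq) (by norm_num) h₁ h₂ hs
      exact orth D hD (by norm_num) ((le_inf hle hHU).trans hDle)
  rcases hcases with ⟨rfl, rfl⟩ | ⟨rfl, rfl⟩
  · obtain ⟨e, P, f₁, f₂, h₁, h₂, hs, hle⟩ :=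
      Cfsg.Agent.Lib.UnitTwoPrime.tensor hF hHU hNH hNn hd hk A hAirr hAscal φ hequiv hbij
    exact two e P f₁ f₂ h₁ h₂ hs hle
  · obtain ⟨e, P, f₁, f₂, h₁, h₂, hs, hle⟩ :=
      Cfsg.Agent.Lib.UnitTwoPrime.tensor_swap hF hHU hNH hNn hd hk A hAirr hAscal φ hequiv hbij
    exact two e P f₁ f₂ h₁ h₂ hs hle


end Cfsg.Agent.S5841
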