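import Cfsg.Statements.S5876
import Mathlib

set_option autoImplicit false
open Cfsg

namespace Cfsg.Agent.S5876

open Pointwise
open scoped commutatorElement

/-- In a finite monoid some positive power is idempotent. -/
theorem exists_pow_idem {M : Type*} [Monoid M] [Finite M] (b : M) :
    ∃ m : ℕ, 0 < m ∧ b ^ m * b ^ m = b ^ m := by
  obtain ⟨i, j, hne, heq⟩ := Finite.exists_ne_map_eq_of_infinite (fun k : ℕ => b ^ k)
  wlog hij : i < j generalizing i j with H
  · exact H j i hne.symm heq.symm (by omega)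
  replace heq : b ^ i = b ^ j := heq
  have hd : ∀ k, i ≤ k → ∀ c, b ^ (k + c * (j - i)) = b ^ k := by
    intro k hk c
    induction c with
    | zero => simp
    | succ c ih =>
      have h1 : k + (c + 1) * (j - i) = (k + c * (j - i) - i) + j := by
        have : (c + 1) * (j - i) = c * (j - i) + (j - i) := by ring
        omega
      rw [h1, pow_add, ← heq, ← pow_add, Nat.sub_add_cancel (by omega), ih]
  refine ⟨(i + 1) * (j - i), Nat.mul_pos (by omega) (by omega), ?_⟩
  rw [← pow_add]
  exact hd _ (by nlinarith [Nat.sub_pos_of_lt hij]) (i + 1)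

variable {X F V : Type*} [Group X] [Field F] [AddCommGroup V] [Module F V]

/-- Fixed space. -/
noncomputable def fixSp (φ : X →* Module.End F V) (g : X) : Submodule F V :=
  LinearMap.ker (φ g - 1)

theorem mem_fixSp (φ : X →* Module.End F V) (g : X) (v : V) : v ∈ fixSp φ g ↔ φ g v = v := by
  simp [fixSp, sub_eq_zero]

theorem inv_apply (φ : X →* Module.End F V) (h : X) (v : V) : φ h⁻¹ (φ h v) = v := by
  rw [← Module.End.mul_apply, ← map_mul, inv_mul_cancel, map_one, Module.End.one_apply]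

theorem inj_apply (φ : X →* Module.End F V) (h : X) : Function.Injective (φ h) :=
  Function.LeftInverse.injective (g := φ h⁻¹) (inv_apply φ h)

theorem two_mul_fix_le [FiniteDimensional F V] (φ : X →* Module.End F V) (g h : X) :
    2 * Module.finrank F (fixSp φ g) ≤ Module.finrank F V + Module.finrank F (fixSp φ ⁅g, h⁆) := by
  have hle : fixSp φ g ⊓ (fixSp φ g).map (φ h) ≤ fixSp φ ⁅g, h⁆ := by
    intro v hv
    obtain ⟨hv1, hv2⟩ := Submodule.mem_inf.mp hv
    obtain ⟨u, hu, rfl⟩ := Submodule.mem_map.mp hv2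
    rw [mem_fixSp] at hv1 hu ⊢
    have h1 : φ g⁻¹ u = u := by
      conv_lhs => rw [← hu]
      exact inv_apply φ g u
    simp only [commutatorElement_def, map_mul, Module.End.mul_apply, inv_apply, h1, hv1]
  have h2 := Submodule.finrank_sup_add_finrank_inf_eq (fixSp φ g) ((fixSp φ g).map (φ h))
  have h3 : Module.finrank F ((fixSp φ g).map (φ h)) = Module.finrank F (fixSp φ g) :=
    (Submodule.equivMapOfInjective (φ h) (inj_apply φ h) (fixSp φ g)).finrank_eq.symm
  have h4 := Submodule.finrank_mono hle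
  have h5 := Submodule.finrank_le (fixSp φ g ⊔ (fixSp φ g).map (φ h))
  omega

/-- Non-identity elements of an abelian normal subgroup of a primitive linear group fix no vector. -/
theorem fixSp_eq_bot [Finite F] [FiniteDimensional F V]
    (φ : X →* Module.End F V) (hφ : Function.Injective φ)
    (hirr : ∀ W : Submodule F V, (∀ x, W.map (φ x) ≤ W) → W = ⊥ ∨ W = ⊤)
    (hprim : ∀ (t : ℕ) (D : Fin t → Submodule F V), 2 ≤ t → (∀ i, D i ≠ ⊥) →
      (∀ i j, Module.finrank F (D i) = Module.finrank F (D j)) → iSupIndep D → iSup D = ⊤ →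
      (∀ x, ∃ σ : Equiv.Perm (Fin t), ∀ i, (D i).map (φ x) = D (σ i)) → False)
    (A : Subgroup X) [hA : A.Normal] (hab : ∀ a ∈ A, ∀ b ∈ A, a * b = b * a) {a : X} (ha : a ∈ A)
    (ha1 : a ≠ 1) : fixSp φ a = ⊥ := by
  classical
  haveI : Finite V := Module.finite_of_finite F
  haveI : Finite (Module.End F V) := Finite.of_injective _ DFunLike.coe_injective
  let S : Set (Module.End F V) := φ '' (A : Set X)
  let B : Subring (Module.End F V) := Subring.centralizer (Subring.centralizer S : Set (Module.End F V))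
  have hS : ∀ b ∈ A, φ b ∈ B := by
    intro b hb
    rw [Subring.mem_centralizer_iff]
    intro c hc
    exact ((Subring.mem_centralizer_iff.mp hc) _ ⟨b, hb, rfl⟩).symm
  have hBC : ∀ x ∈ B, x ∈ Subring.centralizer S := by
    intro x hx
    rw [Subring.mem_centralizer_iff]
    rintro _ ⟨b, hb, rfl⟩
    refine (Subring.mem_centralizer_iff.mp hx) _ (Subring.mem_centralizer_iff.mpr ?_)
    rintro _ ⟨c, hc, rfl⟩
    rw [← map_mul, ← map_mul, hab c hc b hb]
  have hcomm : ∀ x ∈ B, ∀ y ∈ B, x * y = y * x := fun x hx y hy =>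
    ((Subring.mem_centralizer_iff.mp hx) y (hBC y hy)).symm
  have hcc : ∀ (x : X) (b : Module.End F V), φ x * φ x⁻¹ * b = b := fun x b => by
    rw [← map_mul, mul_inv_cancel, map_one, one_mul]
  have hcc' : ∀ (x : X) (b : Module.End F V), φ x⁻¹ * φ x * b = b := fun x b => by
    rw [← map_mul, inv_mul_cancel, map_one, one_mul]
  have hconjmul : ∀ (x : X) (b c : Module.End F V),
      (φ x * b * φ x⁻¹) * (φ x * c * φ x⁻¹) = φ x * (b * c) * φ x⁻¹ := fun x b c => by
    have := hcc' x (c * φ x⁻¹)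
    simp only [mul_assoc] at this ⊢
    rw [this]
  have hconjS : ∀ (x : X) (c : Module.End F V), c ∈ Subring.centralizer S →
      φ x * c * φ x⁻¹ ∈ Subring.centralizer S := by
    intro x c hc
    rw [Subring.mem_centralizer_iff] at hc ⊢
    rintro _ ⟨b, hb, rfl⟩
    have h1 := hc _ ⟨x⁻¹ * b * x, by simpa using hA.conj_mem b hb x⁻¹, rfl⟩
    have e1 : φ b = φ x * φ (x⁻¹ * b * x) * φ x⁻¹ := by
      rw [← map_mul, ← map_mul]; congr 1; group
    rw [e1, hconjmul, hconjmul, h1]
  have hconjB : ∀ (x : X) (b : Module.End F V), b ∈ B → φ x * b * φ x⁻¹ ∈ B := by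
    intro x b hb
    rw [Subring.mem_centralizer_iff]
    intro c hc
    have h1 := (Subring.mem_centralizer_iff.mp hb) _ (hconjS x⁻¹ c hc)
    rw [inv_inv] at h1
    have e1 : c = φ x * (φ x⁻¹ * c * φ x) * φ x⁻¹ := by
      simp only [← mul_assoc]
      rw [← map_mul, mul_inv_cancel, map_one, one_mul, mul_assoc, ← map_mul, mul_inv_cancel, map_one,
        mul_one]
    rw [e1, hconjmul, hconjmul, h1]
  have hidem : ∀ e ∈ B, e * e = e → e = 0 ∨ e = 1 := by
    by_contra hh
    push Not at hh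
    obtain ⟨e₀, he₀, he₀i, he₀0, he₀1⟩ := hh
    obtain ⟨e, ⟨heB, hee, he0⟩, hmin⟩ := ({e : Module.End F V | e ∈ B ∧ e * e = e ∧ e ≠ 0}).toFinite.exists_minimalFor
      (fun e => Module.finrank F (LinearMap.range e)) _ ⟨e₀, he₀, he₀i, he₀0⟩
    have hrk : ∀ f ∈ B, f * f = f → f ≠ 0 →
        Module.finrank F (LinearMap.range e) ≤ Module.finrank F (LinearMap.range f) := fun f hf hff hf0 =>
      (le_total _ _).elim id fun h => hmin ⟨hf, hff, hf0⟩ h
    -- conjugates of `e`
    let o : X → Module.End F V := fun x => φ x * e * φ x⁻¹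
    have hoB : ∀ x, o x ∈ B := fun x => hconjB x e heB
    have hoi : ∀ x, o x * o x = o x := fun x => by simp only [o, hconjmul, hee]
    have hor : ∀ x, LinearMap.range (o x) = (LinearMap.range e).map (φ x) := fun x => by
      ext v
      simp only [o, LinearMap.mem_range, Submodule.mem_map, Module.End.mul_apply]
      constructor
      · rintro ⟨u, rfl⟩; exact ⟨_, ⟨_, rfl⟩, rfl⟩
      · rintro ⟨_, ⟨u, rfl⟩, rfl⟩; exact ⟨φ x u, by rw [inv_apply]⟩
    have hofr : ∀ x, Module.finrank F (LinearMap.range (o x)) = Module.finrank F (LinearMap.range e) := fun x => by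
      rw [hor x]; exact (Submodule.equivMapOfInjective (φ x) (inj_apply φ x) _).finrank_eq.symm
    have horth : ∀ x y, o x ≠ o y → o x * o y = 0 := by
      intro x y hne
      by_contra h0
      have hc := hcomm _ (hoB x) _ (hoB y)
      have hi : o x * o y * (o x * o y) = o x * o y := by
        rw [mul_assoc, ← mul_assoc (o y), ← hc, mul_assoc (o x) (o y), hoi y, ← mul_assoc, hoi x]
      have hle := hrk _ (B.mul_mem (hoB x) (hoB y)) hi h0
      have key : ∀ z w, o z * o w = o x * o y → o x * o y = o z := by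
        intro z w hzw
        have hsub : LinearMap.range (o x * o y) ≤ LinearMap.range (o z) := by
          rw [← hzw]; rintro _ ⟨u, rfl⟩; exact ⟨_, rfl⟩
        have heq := Submodule.eq_of_le_of_finrank_le hsub (by rw [hofr]; exact hle)
        refine LinearMap.ext fun v => ?_
        obtain ⟨u, hu⟩ : o z v ∈ LinearMap.range (o x * o y) := heq ▸ ⟨v, rfl⟩
        have h2 : (o z * o w) (o z v) = o z v := by rw [hzw, ← hu, ← Module.End.mul_apply, hi]
        rw [← Module.End.mul_apply, mul_assoc, hcomm _ (hoB w) _ (hoB z), ← mul_assoc, hoi z, hzw] at h2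
        exact h2
      exact hne ((key x y rfl).symm.trans (key y x hc.symm))
    let O : Set (Module.End F V) := Set.range o
    let t := Nat.card O
    let η : Fin t ≃ O := (Finite.equivFin O).symm
    let D : Fin t → Submodule F V := fun i => LinearMap.range (η i : Module.End F V)
    have hD : ∀ i, ∃ x, (η i : Module.End F V) = o x := fun i => by
      obtain ⟨x, hx⟩ := (η i).2; exact ⟨x, hx.symm⟩
    have hperm : ∀ x, ∃ σ : Equiv.Perm (Fin t), ∀ i, (D i).map (φ x) = D (σ i) := by
      intro x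
      have hoo : ∀ y, φ x * o y * φ x⁻¹ = o (x * y) := fun y => by
        simp only [o, map_mul, mul_inv_rev, mul_assoc]
      let act : O → O := fun p => ⟨φ x * (p : Module.End F V) * φ x⁻¹, by
        obtain ⟨y, hy⟩ := p.2; exact ⟨x * y, by rw [← hy, hoo]⟩⟩
      have hinj : Function.Injective act := by
        intro p q h
        have h1 : φ x * (p : Module.End F V) * φ x⁻¹ = φ x * (q : Module.End F V) * φ x⁻¹ :=
          congrArg Subtype.val h
        have h2 := congrArg (fun z => φ x⁻¹ * z * φ x) h1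
        have h3 : ∀ z : Module.End F V, φ x⁻¹ * (φ x * z * φ x⁻¹) * φ x = z := fun z => by
          simp only [← mul_assoc]
          rw [← map_mul, inv_mul_cancel, map_one, one_mul, mul_assoc, ← map_mul, inv_mul_cancel, map_one,
            mul_one]
        simp only [h3] at h2
        exact Subtype.ext h2
      refine ⟨η.trans ((Equiv.ofBijective act (Finite.injective_iff_bijective.mp hinj)).trans η.symm), fun i => ?_⟩
      obtain ⟨y, hy⟩ := hD i
      simp only [D, Equiv.trans_apply, Equiv.apply_symm_apply, Equiv.ofBijective_apply, act, hy, hoo, hor,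
        ← Submodule.map_comp]
      rw [map_mul, Module.End.mul_eq_comp]
    have hDne : ∀ i, D i ≠ ⊥ := by
      intro i
      obtain ⟨x, hx⟩ := hD i
      simp only [D, hx, hor]
      intro h
      rw [← Submodule.map_bot (φ x)] at h
      exact he0 (LinearMap.range_eq_bot.mp (Submodule.map_injective_of_injective (inj_apply φ x) h))
    have htop : iSup D = ⊤ := by
      refine (hirr _ fun x => ?_).resolve_left fun h => hDne ((Finite.equivFin O) ⟨o 1, 1, rfl⟩) (le_bot_iff.mp (h ▸ le_iSup D _))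
      obtain ⟨σ, hσ⟩ := hperm x
      rw [Submodule.map_iSup]
      exact iSup_le fun i => (hσ i).symm ▸ le_iSup D (σ i)
    by_cases ht : 2 ≤ t
    · refine hprim t D ht hDne (fun i j => ?_) ?_ htop hperm
      · obtain ⟨x, hx⟩ := hD i
        obtain ⟨y, hy⟩ := hD j
        show Module.finrank F (LinearMap.range (η i : Module.End F V)) = Module.finrank F (LinearMap.range (η j : Module.End F V))
        exact ((congrArg (fun z => Module.finrank F (LinearMap.range z)) hx).trans (hofr x)).trans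
          ((congrArg (fun z => Module.finrank F (LinearMap.range z)) hy).trans (hofr y)).symm
      · rw [iSupIndep_def]
        intro i
        rw [Submodule.disjoint_def]
        intro v hv hv'
        have hker : (⨆ (j) (_ : j ≠ i), D j) ≤ LinearMap.ker (η i : Module.End F V) := by
          refine iSup₂_le fun j hj => ?_
          rintro _ ⟨u, rfl⟩
          obtain ⟨x, hx⟩ := hD i
          obtain ⟨y, hy⟩ := hD j
          have hne : o x ≠ o y := fun h => hj (η.injective (Subtype.ext (by rw [hx, hy, h])))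
          rw [LinearMap.mem_ker, hx, hy, ← Module.End.mul_apply, horth x y hne, LinearMap.zero_apply]
        obtain ⟨u, rfl⟩ := hv
        obtain ⟨x, hx⟩ := hD i
        have h0 := hker hv'
        rw [LinearMap.mem_ker, hx, ← Module.End.mul_apply, hoi] at h0
        rwa [hx]
    · haveI : Subsingleton (Fin t) := Fin.subsingleton_iff_le_one.mpr (by omega)
      have h0 : D ((Finite.equivFin O) ⟨o 1, 1, rfl⟩) = LinearMap.range e := by
        have : η ((Finite.equivFin O) ⟨o 1, 1, rfl⟩) = ⟨o 1, 1, rfl⟩ := Equiv.symm_apply_apply _ _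
        show LinearMap.range ((η ((Finite.equivFin O) ⟨o 1, 1, rfl⟩) : O) : Module.End F V) = _
        rw [this]
        simp [o]
      have h1 : LinearMap.range e = ⊤ := by
        rw [← htop]
        refine le_antisymm ?_ (iSup_le fun i => ?_)
        · refine le_trans (le_of_eq ?_) (le_iSup D ((Finite.equivFin O) ⟨o 1, 1, rfl⟩))
          exact h0.symm
        · rw [Subsingleton.elim i ((Finite.equivFin O) ⟨o 1, 1, rfl⟩), h0]
      have he1 : e = 1 := by
        ext v
        obtain ⟨u, rfl⟩ : v ∈ LinearMap.range e := h1 ▸ Submodule.mem_top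
        rw [← Module.End.mul_apply, hee, Module.End.one_apply]
      have h2 : LinearMap.range e₀ = ⊤ := by
        refine Submodule.eq_top_of_finrank_eq (le_antisymm (Submodule.finrank_le _) ?_)
        refine le_trans (le_of_eq ?_) (hrk e₀ he₀ he₀i he₀0)
        rw [he1, LinearMap.range_eq_top.mpr (fun v => ⟨v, rfl⟩), finrank_top]
      apply he₀1
      ext v
      obtain ⟨u, rfl⟩ : v ∈ LinearMap.range e₀ := h2 ▸ Submodule.mem_top
      rw [← Module.End.mul_apply, he₀i, Module.End.one_apply]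
  obtain ⟨p, hp⟩ := CharP.exists F
  haveI hpf : Fact p.Prime := ⟨CharP.char_is_prime F p⟩
  -- elements of `A` of `p`-power order are trivial
  have hpA : ∀ b ∈ A, (∃ k, b ^ p ^ k = 1) → b = 1 := by
    let P : Subgroup X :=
      { carrier := {b | b ∈ A ∧ ∃ k, b ^ p ^ k = 1}
        one_mem' := ⟨A.one_mem, 0, one_pow _⟩
        mul_mem' := by
          rintro b c ⟨hb, k, hk⟩ ⟨hc, l, hl⟩
          refine ⟨A.mul_mem hb hc, k + l, ?_⟩
          rw [(show Commute b c from hab b hb c hc).mul_pow, pow_add, pow_mul, hk, one_pow, mul_comm (p ^ k),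
            pow_mul, hl, one_pow, one_mul]
        inv_mem' := by
          rintro b ⟨hb, k, hk⟩
          exact ⟨A.inv_mem hb, k, by rw [inv_pow, hk, inv_one]⟩ }
    intro b hb hbk
    letI : MulAction P V :=
      { smul := fun c v => φ (c : X) v
        one_smul := fun v => by change φ ((1 : P) : X) v = v; simp
        mul_smul := fun c d v => by change φ ((c * d : P) : X) v = φ (c : X) (φ (d : X) v); simp }
    have hsmul : ∀ (c : P) (v : V), c • v = φ (c : X) v := fun _ _ => rfl
    have hP : IsPGroup p P := fun c => by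
      obtain ⟨-, k, hk⟩ := c.2
      exact ⟨k, Subtype.ext (by simpa using hk)⟩
    let W : Submodule F V := ⨅ c : P, fixSp φ (c : X)
    have hW : ∀ x, W.map (φ x) ≤ W := by
      intro x v hv
      obtain ⟨u, hu, rfl⟩ := Submodule.mem_map.mp hv
      simp only [W, Submodule.mem_iInf, mem_fixSp] at hu ⊢
      intro c
      obtain ⟨hcA, k, hk⟩ := c.2
      have hm : x⁻¹ * (c : X) * x ∈ P := by
        refine ⟨by simpa using hA.conj_mem _ hcA x⁻¹, k, ?_⟩
        have h' := conj_pow (i := p ^ k) (a := x⁻¹) (b := (c : X))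
        rw [inv_inv] at h'
        rw [h', hk]; group
      have h2 := congrArg (φ x) (hu ⟨_, hm⟩)
      simp only [← Module.End.mul_apply, ← map_mul] at h2
      rw [show x * (x⁻¹ * (c : X) * x) = (c : X) * x by group, map_mul, Module.End.mul_apply] at h2
      exact h2
    rcases hirr W hW with h | h
    · exfalso
      by_cases hV : Nontrivial V
      · have hdv : p ∣ Nat.card V := by
          letI := Fintype.ofFinite F
          obtain ⟨n, hpp, hcard⟩ := FiniteField.card F p
          have hcV : Nat.card V = Nat.card F ^ Module.finrank F V := Module.natCard_eq_pow_finrank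
          rw [hcV, Nat.card_eq_fintype_card (α := F), hcard, ← pow_mul]
          exact dvd_pow_self p (Nat.mul_ne_zero n.2.ne' Module.finrank_pos.ne')
        obtain ⟨v, hv, hv0⟩ := hP.exists_fixed_point_of_prime_dvd_card_of_fixed_point V hdv (a := 0)
          (fun c => by simp [hsmul])
        apply hv0
        have hvW : v ∈ W := by
          simp only [W, Submodule.mem_iInf, mem_fixSp]
          exact fun c => hv c
        rw [h, Submodule.mem_bot] at hvW
        exact hvW.symm
      · rw [not_nontrivial_iff_subsingleton] at hV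
        exact ha1 (hφ (Subsingleton.elim _ _))
    · refine hφ ?_
      rw [map_one]
      ext v
      have hv : v ∈ W := h ▸ Submodule.mem_top
      simp only [W, Submodule.mem_iInf, mem_fixSp] at hv
      exact hv ⟨b, hb, hbk⟩
  have hbB : φ a - 1 ∈ B := B.sub_mem (hS a ha) B.one_mem
  obtain ⟨m, hm, hmi⟩ := exists_pow_idem (φ a - 1)
  rcases hidem _ (B.pow_mem hbB m) hmi with h | h
  · exfalso
    haveI : Nontrivial V := by
      by_contra hV
      rw [not_nontrivial_iff_subsingleton] at hV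
      exact ha1 (hφ (Subsingleton.elim _ _))
    haveI : CharP (Module.End F V) p := charP_of_injective_algebraMap (algebraMap F (Module.End F V)).injective p
    haveI : ExpChar (Module.End F V) p := ExpChar.prime hpf.out
    refine ha1 (hpA a ha ⟨m, hφ ?_⟩)
    have hpm : m ≤ p ^ m := (Nat.lt_pow_self hpf.out.one_lt).le
    have h1 : (φ a - 1) ^ p ^ m = 0 := by
      rw [← Nat.sub_add_cancel hpm, pow_add, h, mul_zero]
    rw [sub_pow_expChar_pow_of_commute (p := p) (n := m) (Commute.one_right _), one_pow, sub_eq_zero] at h1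
    rw [map_pow, h1, map_one]
  · refine eq_bot_iff.mpr fun v hv => ?_
    rw [fixSp, LinearMap.mem_ker] at hv
    have h1 : ((φ a - 1) ^ (m - 1) * (φ a - 1)) v = 0 := by rw [Module.End.mul_apply, hv, map_zero]
    rwa [← pow_succ, Nat.sub_add_cancel hm, h, Module.End.one_apply] at h1

/-- Abstract form. -/
theorem fix_bound [Finite X] [Finite F] [FiniteDimensional F V] (hsol : IsSolvable X)
    (φ : X →* Module.End F V) (hφ : Function.Injective φ)
    (hirr : ∀ W : Submodule F V, (∀ x, W.map (φ x) ≤ W) → W = ⊥ ∨ W = ⊤)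
    (hprim : ∀ (t : ℕ) (D : Fin t → Submodule F V), 2 ≤ t → (∀ i, D i ≠ ⊥) →
      (∀ i j, Module.finrank F (D i) = Module.finrank F (D j)) → iSupIndep D → iSup D = ⊤ →
      (∀ x, ∃ σ : Equiv.Perm (Fin t), ∀ i, (D i).map (φ x) = D (σ i)) → False)
    {g : X} (hg1 : g ≠ 1) : 4 * Module.finrank F (fixSp φ g) ≤ 3 * Module.finrank F V := by
  obtain ⟨A, ⟨hAn, hAc⟩, hAmax⟩ := ({A : Subgroup X | A.Normal ∧ ∀ a ∈ A, ∀ b ∈ A, a * b = b * a}).toFinite.exists_maximal
    ⟨⊥, inferInstance, fun a ha b hb => by simp [Subgroup.mem_bot.mp ha, Subgroup.mem_bot.mp hb]⟩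
  haveI := hAn
  have hfpf : ∀ a ∈ A, a ≠ 1 → Module.finrank F (fixSp φ a) = 0 := fun a ha ha1 => by
    rw [fixSp_eq_bot φ hφ hirr hprim A hAc ha ha1, finrank_bot]
  have hhalf : ∀ x y : X, ⁅x, y⁆ ∈ A → ⁅x, y⁆ ≠ 1 → 2 * Module.finrank F (fixSp φ x) ≤ Module.finrank F V := by
    intro x y h1 h2
    have := two_mul_fix_le φ x y
    rw [hfpf _ h1 h2] at this
    simpa using this
  have hne : ∀ x y : X, x * y ≠ y * x → ⁅x, y⁆ ≠ 1 := fun x y h h' =>
    h (commutatorElement_eq_one_iff_mul_comm.mp h')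
  let C := Subgroup.centralizer (A : Set X)
  have hmem : ∀ (N : Subgroup X), N.Normal → ∀ x y : X, y ∈ N → ⁅x, y⁆ ∈ N := fun N hN x y hy => by
    rw [commutatorElement_def]; exact N.mul_mem (hN.conj_mem y hy x) (N.inv_mem hy)
  haveI : Group.IsSolvable X := hsol
  by_cases hgA : g ∈ A
  · rw [hfpf g hgA hg1]; omega
  by_cases hgC : g ∈ C
  swap
  · obtain ⟨a, ha, hne'⟩ : ∃ a ∈ A, g * a ≠ a * g := by
      by_contra hh; push Not at hh
      exact hgC (Subgroup.mem_centralizer_iff.mpr fun a ha => (hh a ha).symm)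
    have := hhalf g a (hmem A hAn g a ha) (hne _ _ hne')
    omega
  have hAC : A ≤ C := fun a ha => Subgroup.mem_centralizer_iff.mpr fun b hb => hAc b hb a ha
  haveI : C.Normal := inferInstanceAs (Subgroup.centralizer (A : Set X)).Normal
  obtain ⟨E, ⟨hEn, hAE, hEC, hEE⟩, hEmax⟩ :=
    ({E : Subgroup X | E.Normal ∧ A ≤ E ∧ E ≤ C ∧ ∀ x ∈ E, ∀ y ∈ E, ⁅x, y⁆ ∈ A}).toFinite.exists_maximal
      ⟨A, hAn, le_rfl, hAC, fun x hx y hy => hmem A hAn x y hy⟩
  haveI := hEn
  let K := C ⊓ Subgroup.centralizer (E : Set X)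
  haveI : K.Normal := Subgroup.normal_inf_normal C _
  have hKA : K ≤ A := by
    by_contra hK
    obtain ⟨L, ⟨hLn, hLK, hLA⟩, hLmin⟩ :=
      ({L : Subgroup X | L.Normal ∧ L ≤ K ∧ ¬ L ≤ A}).toFinite.exists_minimal ⟨K, inferInstance, le_rfl, hK⟩
    haveI := hLn
    have hLb : L ≠ ⊥ := fun h => hLA (h ▸ bot_le)
    have hlt : ⁅L, L⁆ < L := IsSolvable.commutator_lt_of_ne_bot hLb
    have hLL : ⁅L, L⁆ ≤ A := by
      by_contra h
      exact hlt.not_ge (hLmin ⟨inferInstance, hlt.le.trans hLK, h⟩ hlt.le)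
    have hEL : ∀ x ∈ E, ∀ l ∈ L, x * l = l * x := fun x hx l hl =>
      Subgroup.mem_centralizer_iff.mp (hLK hl).2 x hx
    have hLE : L ≤ E := by
      refine le_trans le_sup_right (hEmax ⟨inferInstance, hAE.trans le_sup_left,
        sup_le hEC fun l hl => (hLK hl).1, ?_⟩ le_sup_left)
      intro x hx y hy
      obtain ⟨x1, hx1, x2, hx2, rfl⟩ := Subgroup.mem_sup_of_normal_right.mp hx
      obtain ⟨y1, hy1, y2, hy2, rfl⟩ := Subgroup.mem_sup_of_normal_right.mp hy
      have e : ⁅x1 * x2, y1 * y2⁆ = ⁅x1, y1⁆ * ⁅x2, y2⁆ := by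
        have c1 : x2 * y1 = y1 * x2 := (hEL y1 hy1 x2 hx2).symm
        have c2 : (x1 * x2)⁻¹ = x1⁻¹ * x2⁻¹ := by rw [← mul_inv_rev, hEL x1 hx1 x2 hx2]
        have c3 : x2 * y2 * x1⁻¹ = x1⁻¹ * (x2 * y2) :=
          (hEL x1⁻¹ (E.inv_mem hx1) (x2 * y2) (L.mul_mem hx2 hy2)).symm
        have c4 : (y1 * y2)⁻¹ = y1⁻¹ * y2⁻¹ := by rw [← mul_inv_rev, hEL y1 hy1 y2 hy2]
        have c5 : x2 * y2 * x2⁻¹ * y1⁻¹ = y1⁻¹ * (x2 * y2 * x2⁻¹) :=
          (hEL y1⁻¹ (E.inv_mem hy1) (x2 * y2 * x2⁻¹) (L.mul_mem (L.mul_mem hx2 hy2) (L.inv_mem hx2))).symm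
        calc ⁅x1 * x2, y1 * y2⁆ = x1 * x2 * (y1 * y2) * (x1 * x2)⁻¹ * (y1 * y2)⁻¹ := commutatorElement_def _ _
          _ = x1 * (x2 * y1) * y2 * (x1⁻¹ * x2⁻¹) * (y1⁻¹ * y2⁻¹) := by rw [c2, c4]; group
          _ = x1 * y1 * (x2 * y2 * x1⁻¹) * x2⁻¹ * y1⁻¹ * y2⁻¹ := by rw [c1]; group
          _ = x1 * y1 * x1⁻¹ * (x2 * y2 * x2⁻¹ * y1⁻¹) * y2⁻¹ := by rw [c3]; group
          _ = ⁅x1, y1⁆ * ⁅x2, y2⁆ := by rw [c5, commutatorElement_def, commutatorElement_def]; group
      rw [e]
      exact A.mul_mem (hEE x1 hx1 y1 hy1) (hLL (Subgroup.commutator_mem_commutator hx2 hy2))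
    haveI : (K ⊓ E).Normal := Subgroup.normal_inf_normal K E
    have hKE : K ⊓ E ≤ A := by
      refine hAmax ⟨inferInstance, fun a ha b hb => (Subgroup.mem_centralizer_iff.mp ha.1.2 b hb.2).symm⟩ ?_
      intro a ha
      exact ⟨⟨hAC ha, Subgroup.mem_centralizer_iff.mpr fun x hx =>
        (Subgroup.mem_centralizer_iff.mp (hEC hx) a ha).symm⟩, hAE ha⟩
    exact hLA ((le_inf hLK hLE).trans hKE)
  have hC2 : ∀ x ∈ C, x ∉ A → ∃ e ∈ E, x * e ≠ e * x := by
    intro x hx hxA
    by_contra hh; push Not at hh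
    exact hxA (hKA ⟨hx, Subgroup.mem_centralizer_iff.mpr fun e he => (hh e he).symm⟩)
  obtain ⟨e, he, hne'⟩ := hC2 g hgC hgA
  by_cases hc : ⁅g, e⁆ ∈ A
  · have := hhalf g e hc (hne _ _ hne')
    omega
  · have hcE : ⁅g, e⁆ ∈ E := hmem E hEn g e he
    obtain ⟨e', he', hne''⟩ := hC2 _ (hEC hcE) hc
    have h1 := hhalf _ e' (hEE _ hcE e' he') (hne _ _ hne'')
    have h2 := two_mul_fix_le φ g e
    omega

/-- Fixed-point spaces in primitive soluble linear groups. -/
theorem result {F : Type*} [Field F] [Fintype F] {n : ℕ} (G : Subgroup (Matrix.GeneralLinearGroup (Fin n) F)) (hsol : IsSolvable G) (hirr : Cfsg.Geo.ActsIrreducibly (Cfsg.Geo.matrixSet G)) (hprim : ∀ (m t : ℕ) (D : Fin t → Submodule F (Fin n → F)), 2 ≤ t → Cfsg.Geo.IsMDecomposition m D → ¬ G ≤ Cfsg.Geo.decompositionStabilizer D) (g : Matrix.GeneralLinearGroup (Fin n) F) (hg : g ∈ G) (hg1 : g ≠ 1) :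
    4 * Module.finrank F (Module.End.eigenspace (Matrix.toLin' (g : Matrix (Fin n) (Fin n) F)) 1) ≤ 3 * n := by
  let φ : G →* Module.End F (Fin n → F) :=
    { toFun := fun x => Matrix.toLin' ((x : Matrix.GeneralLinearGroup (Fin n) F) : Matrix (Fin n) (Fin n) F)
      map_one' := by simp; rfl
      map_mul' := fun x y => by simp [Matrix.toLin'_mul, Module.End.mul_eq_comp] }
  have hφ : Function.Injective φ := fun x y h => Subtype.ext (Units.ext (Matrix.toLin'.injective h))
  have h : Module.End.eigenspace (Matrix.toLin' (g : Matrix (Fin n) (Fin n) F)) 1 = fixSp φ ⟨g, hg⟩ := by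
    ext v
    rw [Module.End.mem_eigenspace_iff, one_smul, mem_fixSp]
    rfl
  rw [h]
  have h2 := fix_bound hsol φ hφ
    (fun W hW => hirr W (by rintro _ ⟨x, hx, rfl⟩; exact hW ⟨x, hx⟩))
    (fun t D ht hne hdim hind htop hperm => by
      have i₀ : Fin t := ⟨0, by omega⟩
      refine hprim (Module.finrank F (D i₀)) t D ht ⟨ht, ?_, fun i => hdim i i₀, hind, htop⟩
        fun x hx => hperm ⟨x, hx⟩
      rw [Nat.pos_iff_ne_zero, Ne, Submodule.finrank_eq_zero]
      exact hne i₀)
    (g := ⟨g, hg⟩) (fun h => hg1 (congrArg Subtype.val h))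
  simpa using h2

end Cfsg.Agent.S5876
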