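import Cfsg.Statements.S5877
import Cfsg.Agent.Lib.MaxSub.ExtraEigenBound
import Mathlib

set_option maxHeartbeats 1000000
set_option linter.unusedSectionVars false
-- import your own Cfsg.Agent.* helpers here

set_option autoImplicit false
open Cfsg

namespace Cfsg.Agent.S5877

open Module Cfsg.Agent.Lib.MaxSub
open scoped _root_.Classical

/-- Eigenspaces of elements normalising an absolutely irreducible extraspecial group. Let F be a finite field, r a prime, and R ≤ GL_n(F) an absolutely irreducible extraspecial r-group (an r-group whose centre equals its derived subgroup and has order r) of exponent r or 4. Let g ∈ GL_n(F) normalise the product of R with the scalar matrices, have prime order ϖ and not be scalar, and let W be the eigenspace of g for any c ∈ F (W may be the zero subspace). Then dim W ≤ 3n/4 if ϖ = 2, dim W ≤ 2n/3 if ϖ = 3, and dim W ≤ n/2 if ϖ > 3; moreover if ϖ = 3 and 3 does not divide n then dim W ≤ n/2. -/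
theorem result {F : Type*} [Field F] [Fintype F] {n r ϖ : ℕ} (R : Subgroup (Matrix.GeneralLinearGroup (Fin n) F)) (hr : r.Prime) (hR : IsPGroup r R) (hZ : Nat.card (Subgroup.center R) = r) (hext : commutator R = Subgroup.center R) (hexp : Monoid.exponent R = r ∨ Monoid.exponent R = 4) (hirr : Cfsg.Geo.ActsAbsolutelyIrreducibly (Cfsg.Geo.matrixSet R)) (g : Matrix.GeneralLinearGroup (Fin n) F) (hg : g ∈ Cfsg.Geo.subgroupNormalizer (R ⊔ Cfsg.Geo.scalars (Fin n) F)) (hϖ : ϖ.Prime) (hord : orderOf g = ϖ) (hns : g ∉ Cfsg.Geo.scalars (Fin n) F) (c : F) :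
    (ϖ = 2 → 4 * Module.finrank F (Module.End.eigenspace (Matrix.toLin' (g : Matrix (Fin n) (Fin n) F)) c) ≤ 3 * n) ∧
    (ϖ = 3 → 3 * Module.finrank F (Module.End.eigenspace (Matrix.toLin' (g : Matrix (Fin n) (Fin n) F)) c) ≤ 2 * n) ∧
    (3 < ϖ → 2 * Module.finrank F (Module.End.eigenspace (Matrix.toLin' (g : Matrix (Fin n) (Fin n) F)) c) ≤ n) ∧
    (ϖ = 3 → ¬ 3 ∣ n → 2 * Module.finrank F (Module.End.eigenspace (Matrix.toLin' (g : Matrix (Fin n) (Fin n) F)) c) ≤ n) := by
  classical
  rcases Nat.eq_zero_or_pos n with hn | hn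
  · have h0 : finrank F (Module.End.eigenspace (Matrix.toLin' (g : Matrix (Fin n) (Fin n) F)) c) = 0 := by
      have := Submodule.finrank_le (Module.End.eigenspace (Matrix.toLin' (g : Matrix (Fin n) (Fin n) F)) c)
      rw [Module.finrank_fin_fun] at this
      omega
    rw [h0]
    omega
  haveI : Nonempty (Fin n) := ⟨⟨0, hn⟩⟩
  haveI : Fact r.Prime := ⟨hr⟩
  haveI : Fact ϖ.Prime := ⟨hϖ⟩
  let ψ : GL (Fin n) F →* Module.End F (Fin n → F) :=
    (Matrix.toLinAlgEquiv' : Matrix (Fin n) (Fin n) F ≃ₐ[F] _).toRingEquiv.toMonoidHom.comp (Units.coeHom _)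
  have hψ : ∀ y, ψ y = Matrix.toLin' (y : Matrix (Fin n) (Fin n) F) := fun y => rfl
  have hψs : ∀ (y : GL (Fin n) F) (s : F), (y : Matrix (Fin n) (Fin n) F) = s • 1 → ψ y = s • 1 := fun y s h => by
    rw [hψ, h, map_smul, Matrix.toLin'_one]; rfl
  have hscal : ∀ z : R, z ∈ Subgroup.center R → ∃ s : Fˣ, ((z : GL (Fin n) F) : Matrix (Fin n) (Fin n) F) = (s : F) • 1 := by
    intro z hz
    obtain ⟨s, hs⟩ := hirr.2 _ (by
      rintro _ ⟨y, hy, rfl⟩
      have h := congrArg (fun w : R => ((w : GL (Fin n) F) : Matrix (Fin n) (Fin n) F)) (Subgroup.mem_center_iff.1 hz ⟨y, hy⟩)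
      simpa using h.symm)
    have hs0 : s ≠ 0 := by
      rintro rfl
      rw [zero_smul] at hs
      exact not_isUnit_zero (hs ▸ (z : GL (Fin n) F).isUnit)
    exact ⟨Units.mk0 s hs0, hs⟩
  have hcomm : ∀ x y : R, x * y * x⁻¹ * y⁻¹ ∈ Subgroup.center R := fun x y => by
    rw [← hext, commutator_def, ← commutatorElement_def]
    exact Subgroup.commutator_mem_commutator (Subgroup.mem_top _) (Subgroup.mem_top _)
  choose χ hχ using fun x y : R => hscal _ (hcomm x y)
  have hψχ : ∀ x y : R, ψ ((x * y * x⁻¹ * y⁻¹ : R) : GL (Fin n) F) = (χ x y : F) • 1 := fun x y => hψs _ _ (hχ x y)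
  haveI hN : (Cfsg.Geo.scalars (Fin n) F).Normal := ⟨fun z hz y => by
    obtain ⟨s, hs⟩ := (Cfsg.Geo.mem_scalars_iff z).1 hz
    have e : y * z * y⁻¹ = z := by
      rw [mul_inv_eq_iff_eq_mul]
      ext1
      rw [Units.val_mul, Units.val_mul, hs, mul_smul_comm, smul_mul_assoc, mul_one, one_mul]
    rwa [e]⟩
  have hf : ∀ x : R, ∃ (y : R) (s : F), ψ g * ψ x = s • (ψ y * ψ g) := fun x => by
    have h := (Subgroup.mem_normalizer_iff.1 hg (x : GL (Fin n) F)).1 (Subgroup.mem_sup_left x.2)
    obtain ⟨y, hy, z, hz, e⟩ := Subgroup.mem_sup_of_normal_right.1 h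
    obtain ⟨s, hs⟩ := (Cfsg.Geo.mem_scalars_iff z).1 hz
    refine ⟨⟨y, hy⟩, s, ?_⟩
    have e2 : g * (x : GL (Fin n) F) = y * z * g := by rw [e]; group
    rw [← map_mul, e2, map_mul, map_mul, hψs z s hs, mul_smul_comm, mul_one, smul_mul_assoc]
  choose f lam hconj using hf
  let S : ExtraEigen.Setup F (Fin n → F) R r ϖ :=
    { ρ := ψ.comp R.subtype
      χ := χ
      comm := fun x y => by
        show ψ x * ψ y = (χ x y : F) • (ψ y * ψ x)
        rw [← map_mul, ← map_mul, ← one_mul (ψ (↑y * ↑x)), ← smul_mul_assoc, ← hψχ, ← map_mul]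
        congr 1
        rw [Subgroup.coe_mul, Subgroup.coe_mul, Subgroup.coe_mul, Subgroup.coe_inv, Subgroup.coe_inv]
        group
      scalar := fun x hx => by
        have hz : x ∈ Subgroup.center R := Subgroup.mem_center_iff.2 fun y => by
          have e : ((x * y * x⁻¹ * y⁻¹ : R) : GL (Fin n) F) = 1 := Units.ext (by
            rw [hχ, hx y, Units.val_one, one_smul]; rfl)
          have e' : x * y * x⁻¹ * y⁻¹ = 1 := Subtype.ext e
          exact (commutatorElement_eq_one_iff_mul_comm.1 ((commutatorElement_def x y).trans e')).symm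
        obtain ⟨s, hs⟩ := hscal x hz
        exact ⟨s, hψs _ _ hs⟩
      cent := fun T hT => by
        obtain ⟨s, hs⟩ := hirr.2 (LinearMap.toMatrix' T) (by
          rintro _ ⟨y, hy, rfl⟩
          apply Matrix.toLinAlgEquiv'.injective
          rw [map_mul, map_mul]
          show Matrix.toLin' (LinearMap.toMatrix' T) * ψ y = ψ y * Matrix.toLin' (LinearMap.toMatrix' T)
          rw [Matrix.toLin'_toMatrix']
          exact hT ⟨y, hy⟩)
        refine ⟨s, ?_⟩
        rw [← Matrix.toLin'_toMatrix' T, hs, map_smul, Matrix.toLin'_one]; rfl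
      root := fun x y => by
        have h1 : (x * y * x⁻¹ * y⁻¹ : R) ^ r = 1 := by
          have := pow_card_eq_one' (x := (⟨_, hcomm x y⟩ : Subgroup.center R))
          rw [hZ] at this
          exact congrArg Subtype.val this
        apply Units.ext
        have h2 := congrArg (fun w : R => ψ (w : GL (Fin n) F)) h1
        simp only [Subgroup.coe_pow, Subgroup.coe_one, map_pow, map_one] at h2
        rw [hψχ, smul_pow, one_pow] at h2
        obtain ⟨v, hv⟩ := exists_ne (0 : Fin n → F)
        have h3 := LinearMap.congr_fun h2 v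
        rw [LinearMap.smul_apply, Module.End.one_apply] at h3
        rw [Units.val_pow_eq_pow_val, Units.val_one]
        exact smul_left_injective F hv (h3.trans (one_smul F v).symm)
      expo := fun hodd x => by
        show (ψ x) ^ r = 1
        rw [← map_pow, ← Subgroup.coe_pow]
        have hx : x ^ r = 1 := by
          rcases hexp with h | h
          · rw [← h, Monoid.pow_exponent_eq_one]
          · obtain ⟨k, hk⟩ := hR x
            have hd1 := orderOf_dvd_of_pow_eq_one hk
            have hd2 : orderOf x ∣ 4 := h ▸ Monoid.order_dvd_exponent x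
            have hco : (r ^ k).Coprime 4 := by
              rw [show (4 : ℕ) = 2 ^ 2 by norm_num]
              exact (Nat.coprime_two_right.2 hodd).pow _ _
            rw [orderOf_eq_one_iff.1 (Nat.eq_one_of_dvd_coprimes hco hd1 hd2), one_pow]
        rw [hx, Subgroup.coe_one, map_one]
      g := ψ g
      f := f
      lam := lam
      conj := hconj
      gpow := by rw [← map_pow, ← hord, pow_orderOf_eq_one, map_one] }
  haveI : Nontrivial (Fin n → F) := Function.nontrivial
  have hgs : ∀ a : F, S.g ≠ a • 1 := fun a ha => by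
    apply hns
    rw [Cfsg.Geo.mem_scalars_iff]
    have hM : (g : Matrix (Fin n) (Fin n) F) = a • 1 := by
      apply Matrix.toLin'.injective
      rw [map_smul, Matrix.toLin'_one]; exact ha
    have ha0 : a ≠ 0 := by
      rintro rfl
      rw [zero_smul] at hM
      exact not_isUnit_zero (hM ▸ g.isUnit)
    exact ⟨Units.mk0 a ha0, hM⟩
  rcases eq_or_ne c 0 with rfl | hc
  · have h0 : Module.End.eigenspace (Matrix.toLin' (g : Matrix (Fin n) (Fin n) F)) 0 = ⊥ := by
      rw [Submodule.eq_bot_iff]
      intro v hv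
      rw [Module.End.mem_eigenspace_iff, zero_smul] at hv
      exact S.g_inj (by rw [map_zero]; exact hv)
    rw [h0, finrank_bot]
    omega
  have h := S.main hgs hc
  rw [ExtraEigen.eig, top_inf_eq, Module.finrank_fin_fun] at h
  exact h

end Cfsg.Agent.S5877
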