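import Cfsg.Statements.S5885
-- import your own Cfsg.Agent.* helpers here

set_option autoImplicit false
open Cfsg

namespace Cfsg.Agent.S5885

open scoped Pointwise

lemma isCoatom_subgroupOf_of {G : Type*} [Group G] {H K : Subgroup G}
    (h1 : ¬ K ≤ H) (h2 : ∀ L : Subgroup G, H ≤ L → L ≤ K → L ≤ H ∨ K ≤ L) (hHK : H ≤ K) :
    IsCoatom (H.subgroupOf K) := by
  refine ⟨fun h => h1 (Subgroup.subgroupOf_eq_top.mp h), ?_⟩
  intro L' hL'
  have hHL : H ≤ L'.map K.subtype := by
    intro x hx
    exact ⟨⟨x, hHK hx⟩, hL'.le (by simpa [Subgroup.mem_subgroupOf] using hx), rfl⟩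
  rcases h2 _ hHL (Subgroup.map_subtype_le L') with h | h
  · exfalso
    refine hL'.not_ge fun x hx => ?_
    simpa [Subgroup.mem_subgroupOf] using h ⟨x, hx, rfl⟩
  · refine eq_top_iff.mpr fun x _ => ?_
    obtain ⟨y, hy, he⟩ := h x.2
    have : y = x := Subtype.ext he
    exact this ▸ hy

/-- Kernel-free case: a maximal subgroup not containing the core of M. -/
lemma case_not_le {G : Type*} [Group G] (M K H : Subgroup G) (hM : IsCoatom M) (hK : IsCoatom K)
    (C : Subgroup G) [C.Normal] (hCM : C ≤ M) (hMK : M ⊓ K = H) (hCK : ¬ C ≤ K) :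
    IsCoatom (H.subgroupOf K) := by
  have hKC : K ⊔ C = ⊤ := hK.2 _ (lt_of_le_of_ne le_sup_left (fun h => hCK (h ▸ le_sup_right)))
  have hHK : H ≤ K := hMK ▸ inf_le_right
  refine isCoatom_subgroupOf_of ?_ ?_ hHK
  · intro h
    have h2 : K ≤ M := h.trans (hMK ▸ inf_le_left)
    exact hM.1 (top_le_iff.mp (hKC ▸ sup_le h2 hCM))
  · intro L hHL hLK
    have hMle : M ≤ L ⊔ C := by
      intro x hx
      have : x ∈ K ⊔ C := by rw [hKC]; trivial
      obtain ⟨k, hk, c, hc, rfl⟩ := Subgroup.mem_sup_of_normal_right.mp this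
      refine Subgroup.mul_mem_sup (hHL ?_) hc
      rw [← hMK]
      refine ⟨?_, hk⟩
      simpa using M.mul_mem hx (M.inv_mem (hCM hc))
    rcases hM.le_iff.mp hMle with h | h
    · right
      intro k hk
      have : k ∈ L ⊔ C := by rw [h]; trivial
      obtain ⟨l, hl, c, hc, rfl⟩ := Subgroup.mem_sup_of_normal_right.mp this
      refine L.mul_mem hl (hHL ?_)
      rw [← hMK]
      exact ⟨hCM hc, by simpa using K.mul_mem (K.inv_mem (hLK hl)) hk⟩
    · left
      intro l hl
      rw [← hMK]
      exact ⟨h ▸ Subgroup.mem_sup_left hl, hLK hl⟩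

open MulAction in
/-- If the image contains all even permutations, a maximal subgroup of the point stabiliser is maximal in
every other maximal subgroup containing it. -/
lemma case_alt {G Ω : Type*} [Group G] [MulAction G Ω] [Fintype Ω] [DecidableEq Ω] [IsPretransitive G Ω]
    [Nontrivial Ω] (hodd : Odd (Fintype.card Ω))
    (halt : ∀ σ : Equiv.Perm Ω, Equiv.Perm.sign σ = 1 → ∃ g : G, ∀ x : Ω, g • x = σ x)
    (a : Ω) (K H : Subgroup G) (hK : IsCoatom K)
    (hHM : H ≤ stabilizer G a) (hmax : IsCoatom (H.subgroupOf (stabilizer G a)))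
    (hMK : stabilizer G a ⊓ K = H) : IsCoatom (H.subgroupOf K) := by
  have hHK : H ≤ K := hMK ▸ inf_le_right
  have hKM : ¬ K ≤ stabilizer G a → ¬ K ≤ H := fun h h' => h (h'.trans hHM)
  by_cases htr : ∀ x : Ω, ∃ k ∈ K, k • a = x
  · -- K transitive
    haveI : IsPretransitive K Ω := (isPretransitive_iff_base a).mpr fun x => by
      obtain ⟨k, hk, h⟩ := htr x
      exact ⟨⟨k, hk⟩, h⟩
    by_cases hp : IsPreprimitive K Ω
    · have h := hp.isCoatom_stabilizer_of_isPreprimitive K a
      have he : stabilizer K a = H.subgroupOf K := by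
        ext x
        rw [← hMK]
        simp [Subgroup.mem_subgroupOf, mem_stabilizer_iff, Subgroup.smul_def]
      rwa [he] at h
    · exfalso
      obtain ⟨B, haB, hB, hnt⟩ : ∃ B : Set Ω, a ∈ B ∧ IsBlock K B ∧ ¬ IsTrivialBlock B := by
        by_contra hc
        push Not at hc
        exact hp (IsPreprimitive.of_isTrivialBlock_base a fun h1 h2 => hc _ h1 h2)
      simp only [IsTrivialBlock, not_or] at hnt
      obtain ⟨hns, hnu⟩ := hnt
      obtain ⟨b, hbB, hba⟩ : ∃ b ∈ B, b ≠ a := by
        by_contra hc
        push Not at hc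
        exact hns fun x hx y hy => (hc x hx).trans (hc y hy).symm
      obtain ⟨z, hz⟩ : ∃ z, z ∉ B := (Set.ne_univ_iff_exists_notMem B).mp hnu
      obtain ⟨⟨k₁, hk₁⟩, hk₁z⟩ := exists_smul_eq K a z
      change k₁ • a = z at hk₁z
      set B' : Set Ω := k₁ • B with hB'
      have hdisj : Disjoint B B' := by
        have h1 := hB (g₁ := (1 : K)) (g₂ := (⟨k₁, hk₁⟩ : K))
        rw [one_smul, show ((⟨k₁, hk₁⟩ : K) • B) = B' from rfl] at h1
        refine h1 fun h => hz ?_
        rw [h, hB', ← hk₁z]
        exact Set.smul_mem_smul_set haB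
      -- a third point outside both
      obtain ⟨e, heB, heB'⟩ : ∃ e, e ∉ B ∧ e ∉ B' := by
        by_contra hc
        push Not at hc
        have hu : B ∪ B' = Set.univ := by
          ext x
          simp only [Set.mem_union, Set.mem_univ, iff_true]
          tauto
        have h1 : (B ∪ B').ncard = B.ncard + B'.ncard := Set.ncard_union_eq hdisj
        have h2 : B'.ncard = B.ncard := by rw [hB', Set.ncard_smul_set]
        rw [hu, Set.ncard_univ, Nat.card_eq_fintype_card, h2] at h1
        rcases hodd with ⟨j, hj⟩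
        omega
      have haB' : a ∉ B' := fun h => Set.disjoint_left.mp hdisj haB h
      set c := k₁ • a with hc
      set d := k₁ • b with hd
      have hcB' : c ∈ B' := Set.smul_mem_smul_set haB
      have hdB' : d ∈ B' := Set.smul_mem_smul_set hbB
      have hcd : c ≠ d := by simpa [hc, hd] using hba.symm
      have hce : c ≠ e := fun h => heB' (h ▸ hcB')
      have hde : d ≠ e := fun h => heB' (h ▸ hdB')
      obtain ⟨g, hg⟩ := halt (Equiv.swap c d * Equiv.swap c e) (by
        rw [map_mul, Equiv.Perm.sign_swap hcd, Equiv.Perm.sign_swap hce]; rfl)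
      have hfix : ∀ x ∈ B, g • x = x := by
        intro x hx
        have hx' : x ∉ B' := fun h => Set.disjoint_left.mp hdisj hx h
        have xc : x ≠ c := fun h => hx' (h ▸ hcB')
        have xd : x ≠ d := fun h => hx' (h ▸ hdB')
        have xe : x ≠ e := fun h => heB (h ▸ hx)
        rw [hg, Equiv.Perm.mul_apply, Equiv.swap_apply_of_ne_of_ne xc xe,
          Equiv.swap_apply_of_ne_of_ne xc xd]
      -- H is the joint stabiliser of a and B
      have hH : H = stabilizer G a ⊓ stabilizer G B := by
        have hle : H ≤ stabilizer G a ⊓ stabilizer G B := by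
          refine fun h hh => ⟨hHM hh, ?_⟩
          have := hB.smul_eq_of_mem (g := (⟨h, hHK hh⟩ : K)) haB
            (by
              show h • a ∈ B
              rw [mem_stabilizer_iff.mp (hHM hh)]; exact haB)
          exact this
        have hmax' := hmax
        rcases hmax'.le_iff.mp (show H.subgroupOf (stabilizer G a) ≤ (stabilizer G a ⊓ stabilizer G B).subgroupOf (stabilizer G a) from fun y hy => hle hy) with h | h
        · exfalso
          have hzB : z ∉ B := hz
          have hall : stabilizer G a ≤ stabilizer G B := fun x hx =>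
            ((Subgroup.subgroupOf_eq_top.mp h) hx).2
          have hba' : a ≠ b := hba.symm
          have hzb : z ≠ b := fun h => hz (h ▸ hbB)
          have hza : z ≠ a := fun h => hz (h ▸ haB)
          have heb : e ≠ b := fun h => heB (h ▸ hbB)
          have hea : e ≠ a := fun h => heB (h ▸ haB)
          have hez : e ≠ z := by rw [← hk₁z]; exact fun h => heB' (h ▸ hcB')
          obtain ⟨g', hg'⟩ := halt (Equiv.swap b z * Equiv.swap b e) (by
            rw [map_mul, Equiv.Perm.sign_swap hzb.symm, Equiv.Perm.sign_swap heb.symm]; rfl)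
          have hga : g' • a = a := by
            rw [hg']; simp [Equiv.swap_apply_of_ne_of_ne, hba', hza.symm, hea.symm]
          have hgb : g' • b = e := by
            rw [hg']; simp [Equiv.swap_apply_of_ne_of_ne, heb, hez]
          have hgB : g' • B = B := hall hga
          exact heB (hgb ▸ hgB ▸ Set.smul_mem_smul_set hbB)
        · refine le_antisymm hle fun x hx => ?_
          have : (⟨x, hx.1⟩ : stabilizer G a) ∈ H.subgroupOf (stabilizer G a) := by
            rw [← h]; exact hx
          exact this
      have hgH : g ∈ H := by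
        rw [hH]
        refine ⟨hfix a haB, mem_stabilizer_iff.mpr ?_⟩
        ext x
        constructor
        · rintro ⟨y, hy, rfl⟩
          show g • y ∈ B
          rw [hfix y hy]; exact hy
        · exact fun hx => ⟨x, hx, hfix x hx⟩
      have hgK : g ∈ K := hHK hgH
      have hcB : c ∈ (g * k₁) • B := by
        refine ⟨b, hbB, ?_⟩
        show (g * k₁) • b = c
        rw [mul_smul, ← hd, hg, Equiv.Perm.mul_apply, Equiv.swap_apply_of_ne_of_ne hcd.symm hde,
          Equiv.swap_apply_right]
      have hb2 : (g * k₁) • B = B' := by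
        by_contra hne
        exact Set.disjoint_left.mp
          (hB (g₁ := (⟨g * k₁, K.mul_mem hgK hk₁⟩ : K)) (g₂ := (⟨k₁, hk₁⟩ : K)) hne) hcB hcB'
      refine heB' (hb2 ▸ ⟨a, haB, ?_⟩)
      show (g * k₁) • a = e
      rw [mul_smul, ← hc, hg, Equiv.Perm.mul_apply, Equiv.swap_apply_left,
        Equiv.swap_apply_of_ne_of_ne hce.symm hde.symm]
  · -- K intransitive
    push Not at htr
    obtain ⟨z, hz⟩ := htr
    set O : Set Ω := {x | ∃ k ∈ K, k • a = x} with hO
    have haO : a ∈ O := ⟨1, K.one_mem, one_smul _ a⟩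
    have hzO : z ∉ O := fun ⟨k, hk, h⟩ => hz k hk h
    have hKO : ∀ k ∈ K, k • O = O := by
      intro k hk
      ext x
      constructor
      · rintro ⟨y, ⟨l, hl, rfl⟩, rfl⟩
        exact ⟨k * l, K.mul_mem hk hl, mul_smul _ _ _⟩
      · rintro ⟨l, hl, rfl⟩
        exact ⟨(k⁻¹ * l) • a, ⟨k⁻¹ * l, K.mul_mem (K.inv_mem hk) hl, rfl⟩, by
          simp [← mul_smul]⟩
    have hKeq : K = stabilizer G O := by
      refine ((hK.le_iff.mp (fun k hk => hKO k hk)).resolve_left ?_).symm
      intro h
      obtain ⟨g, hg⟩ := exists_smul_eq G a z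
      have hgO : g • O = O := by
        have : g ∈ stabilizer G O := by rw [h]; trivial
        exact this
      exact hzO (hg ▸ hgO ▸ Set.smul_mem_smul_set haO)
    by_cases hKa : K ≤ stabilizer G a
    · have : K = stabilizer G a := ((hK.le_iff.mp hKa).resolve_left (fun h => by
        obtain ⟨g, hg⟩ := exists_smul_eq G a z
        have : g • a = a := by
          have : g ∈ stabilizer G a := by rw [h]; trivial
          exact this
        exact hzO ((this.symm.trans hg) ▸ haO))).symm
      exact this ▸ hmax
    refine isCoatom_subgroupOf_of (hKM hKa) ?_ hHK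
    intro L hHL hLK
    by_cases hLa : L ≤ stabilizer G a
    · left
      intro l hl
      rw [← hMK]
      exact ⟨hLa hl, hLK hl⟩
    right
    -- the L-orbit of a is O
    obtain ⟨l₀, hl₀, hl₀a⟩ : ∃ l ∈ L, l • a ≠ a := by
      by_contra hc
      push Not at hc
      exact hLa fun l hl => hc l hl
    have horb : ∀ x ∈ O, ∃ l ∈ L, l • a = x := by
      by_contra hc
      push Not at hc
      obtain ⟨c, hcO, hcn⟩ := hc
      set b := l₀ • a with hb
      have hbO : b ∈ O := ⟨l₀, hLK hl₀, rfl⟩
      have hbc : b ≠ c := fun h => hcn l₀ hl₀ h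
      have hca : c ≠ a := fun h => hcn 1 L.one_mem (by simpa using h.symm)
      have hzb : z ≠ b := fun h => hzO (h ▸ hbO)
      have hzc : z ≠ c := fun h => hzO (h ▸ hcO)
      have hza : z ≠ a := fun h => hzO (h ▸ haO)
      -- a fifth point
      obtain ⟨d, hda, hdb, hdc, hdz⟩ : ∃ d, d ≠ a ∧ d ≠ b ∧ d ≠ c ∧ d ≠ z := by
        by_contra hc'
        push Not at hc'
        have hu : (Finset.univ : Finset Ω) = {a, b, c, z} := by
          ext x
          simp only [Finset.mem_univ, Finset.mem_insert, Finset.mem_singleton, true_iff]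
          by_contra hn
          push Not at hn
          exact hn.2.2.2 (hc' x hn.1 hn.2.1 hn.2.2.1)
        have h4 : Fintype.card Ω = 4 := by
          rw [← Finset.card_univ, hu, Finset.card_insert_of_notMem (by simp [hl₀a.symm, hca.symm, hza.symm]),
            Finset.card_insert_of_notMem (by simp [hbc, hzb.symm]),
            Finset.card_insert_of_notMem (by simp [hzc.symm]), Finset.card_singleton]
        rw [h4] at hodd
        exact absurd hodd (by decide)
      have key : ∀ σ : Equiv.Perm Ω, Equiv.Perm.sign σ = 1 → σ a = a → (∀ x, x ∈ O → σ x ∈ O) → σ b = c → False := by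
        intro σ hs h1 h2 h3
        obtain ⟨g, hg⟩ := halt σ hs
        have hgO : g • O = O := by
          refine Set.eq_of_subset_of_ncard_le ?_ (by rw [Set.ncard_smul_set]) (Set.toFinite _)
          rintro _ ⟨y, hy, rfl⟩
          show g • y ∈ O
          rw [hg]; exact h2 y hy
        have hgH : g ∈ H := by
          rw [← hMK]
          exact ⟨by show g • a = a; rw [hg, h1], by rw [hKeq]; exact hgO⟩
        exact hcn (g * l₀) (L.mul_mem (hHL hgH) hl₀) (by rw [mul_smul, ← hb, hg, h3])
      by_cases hdO : d ∈ O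
      · refine key (Equiv.swap b c * Equiv.swap b d) (by
          rw [map_mul, Equiv.Perm.sign_swap hbc, Equiv.Perm.sign_swap hdb.symm]; rfl) ?_ ?_ ?_ |>.elim
        · simp [Equiv.swap_apply_of_ne_of_ne, hl₀a.symm, hca.symm, hda.symm]
        · intro x hx
          simp only [Equiv.Perm.mul_apply, Equiv.swap_apply_def]
          split_ifs <;> assumption
        · exact key (Equiv.swap b c * Equiv.swap c d) (by
            rw [map_mul, Equiv.Perm.sign_swap hbc, Equiv.Perm.sign_swap hdc.symm]; rfl)
            (by simp [Equiv.swap_apply_of_ne_of_ne, hl₀a.symm, hca.symm, hda.symm])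
            (by
              intro x hx
              simp only [Equiv.Perm.mul_apply, Equiv.swap_apply_def]
              split_ifs <;> assumption)
            (by simp [Equiv.swap_apply_of_ne_of_ne, hbc, hdb.symm]) |>.elim
      · refine key (Equiv.swap b c * Equiv.swap z d) (by
          rw [map_mul, Equiv.Perm.sign_swap hbc, Equiv.Perm.sign_swap hdz.symm]; rfl) ?_ ?_ ?_ |>.elim
        · simp [Equiv.swap_apply_of_ne_of_ne, hl₀a.symm, hca.symm, hza.symm, hda.symm]
        · intro x hx
          have : x ≠ z := fun h => hzO (h ▸ hx)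
          have : x ≠ d := fun h => hdO (h ▸ hx)
          simp only [Equiv.Perm.mul_apply, Equiv.swap_apply_of_ne_of_ne (by assumption : x ≠ z) (by assumption : x ≠ d)]
          simp only [Equiv.swap_apply_def]
          split_ifs <;> assumption
        · simp [Equiv.swap_apply_of_ne_of_ne, hzb.symm, hdb.symm]
    intro k hk
    obtain ⟨l, hl, hla⟩ := horb (k • a) ⟨k, hk, rfl⟩
    have : l⁻¹ * k ∈ H := by
      rw [← hMK]
      refine ⟨?_, K.mul_mem (K.inv_mem (hLK hl)) hk⟩
      show (l⁻¹ * k) • a = a
      rw [mul_smul, ← hla, inv_smul_smul]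
    simpa using L.mul_mem hl (hHL this)

/-- Let n be an odd positive integer such that every primitive permutation group of degree n contains the alternating group (so the symmetric and alternating groups are the only primitive groups of degree n). Let G be a finite group, M a maximal subgroup of G of index n, and H a maximal subgroup of M. Then H is a second maximal subgroup of G: H is maximal in every maximal subgroup K of G containing H. -/
theorem result {G : Type*} [Group G]
    [Finite G] (n : ℕ) (hodd : Odd n)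
    (hA : ∀ P : Subgroup (Equiv.Perm (Fin n)), MulAction.IsPreprimitive P (Fin n) → alternatingGroup (Fin n) ≤ P)
    (M : Subgroup G) (hM : IsCoatom M) (hn : M.index = n) (H : Subgroup G) (hHM : H ≤ M)
    (hmax : IsCoatom (H.subgroupOf M)) (K : Subgroup G) (hK : IsCoatom K) (hHK : H ≤ K) :
    IsCoatom (H.subgroupOf K) := by
  classical
  haveI : Fintype (G ⧸ M) := Fintype.ofFinite _
  have hcard : Fintype.card (G ⧸ M) = n := by rw [← hn, Subgroup.index, Nat.card_eq_fintype_card]
  set a : G ⧸ M := ((1 : G) : G ⧸ M) with ha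
  have hst : MulAction.stabilizer G a = M := MulAction.stabilizer_quotient M
  have hMK : M ⊓ K = H ∨ K = M := by
    rcases hmax.le_iff.mp (show H.subgroupOf M ≤ (M ⊓ K).subgroupOf M from fun y hy => (le_inf hHM hHK : H ≤ M ⊓ K) hy) with h | h
    · right
      have h' : M ≤ K := fun x hx => ((Subgroup.subgroupOf_eq_top.mp h) hx).2
      exact (hM.le_iff.mp h').resolve_left hK.1
    · left
      refine le_antisymm (fun x hx => ?_) (le_inf hHM hHK)
      have : (⟨x, hx.1⟩ : M) ∈ H.subgroupOf M := by rw [← h]; exact hx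
      exact this
  rcases hMK with hMK | hMK
  swap
  · exact hMK ▸ hmax
  by_cases hC : M.normalCore ≤ K
  swap
  · exact case_not_le M K H hM hK _ M.normalCore_le hMK hC
  haveI hnt : Nontrivial (G ⧸ M) := by
    rw [← Fintype.one_lt_card_iff_nontrivial, hcard]
    rcases Nat.lt_or_ge 1 n with h | h
    · exact h
    · exfalso
      rcases hodd with ⟨j, hj⟩
      exact hM.1 (Subgroup.index_eq_one.mp (by omega))
  have hprim : MulAction.IsPreprimitive G (G ⧸ M) :=
    (MulAction.isCoatom_stabilizer_iff_preprimitive G a).mp (by rw [hst]; exact hM)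
  let e : (G ⧸ M) ≃ Fin n := Fintype.equivFinOfCardEq hcard
  let φ : G →* Equiv.Perm (Fin n) := e.permCongrHom.toMonoidHom.comp (MulAction.toPermHom G (G ⧸ M))
  have hφ : ∀ g x, φ g (e x) = e (g • x) := by
    intro g x
    simp [φ, Equiv.permCongr_apply]
  let f : (G ⧸ M) →ₑ[φ.rangeRestrict] Fin n :=
    { toFun := e
      map_smul' := fun g x => (hφ g x).symm }
  have hP : MulAction.IsPreprimitive φ.range (Fin n) :=
    MulAction.IsPreprimitive.of_surjective (f := f) e.surjective
  have halt : ∀ σ : Equiv.Perm (G ⧸ M), Equiv.Perm.sign σ = 1 → ∃ g : G, ∀ x, g • x = σ x := by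
    intro σ hσ
    obtain ⟨g, hg⟩ := hA φ.range hP (x := e.permCongr σ) (by
      rw [Equiv.Perm.mem_alternatingGroup, Equiv.Perm.sign_permCongr, hσ])
    refine ⟨g, fun x => e.injective ?_⟩
    rw [← hφ, hg]
    simp
  exact case_alt (hcard ▸ hodd) halt a K H hK (by rw [hst]; exact hHM) (by rw [hst]; exact hmax) (by rw [hst]; exact hMK)

end Cfsg.Agent.S5885
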