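import Cfsg.Statements.S5886
import Cfsg.Agent.Lib.ThreeTransp.ExtFieldMatrix

set_option autoImplicit false
open Cfsg

namespace Cfsg.Agent.S5886

open Cfsg.Agent.Lib.ThreeTransp.ExtField

/-- Let F be a finite field, n a positive integer and r a prime that divides n with r < n. Let K be a subalgebra of the algebra of n × n matrices over F which is a field of degree r over F (commutative, every non-zero element invertible, of dimension r over F; it contains the scalars). Then the normaliser N of K in GL_n(F) — the invertible F-linear maps that are semilinear over the field K, a group of type ΓL_{n/r}(F_{q^r}) for |F| = q — is a maximal subgroup of GL_n(F), and N ∩ SL_n(F) is a maximal subgroup of SL_n(F). No lower bound on n is assumed. -/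
theorem result {F : Type*} [Field F]
    [Fintype F] (n r : ℕ) (hr : r.Prime) (hrn : r ∣ n) (hlt : r < n) (K : Subalgebra F (Matrix (Fin n) (Fin n) F))
    (hK : Cfsg.Geo.IsFieldSubalgebra r K) :
    IsCoatom (Cfsg.Geo.subalgebraNormalizer K) ∧
      Cfsg.Geo.IsMaximalIn (Cfsg.Geo.specialLinear (Fin n) F)
        (Cfsg.Geo.subalgebraNormalizer K ⊓ Cfsg.Geo.specialLinear (Fin n) F) := by
  have hlt' : r < Fintype.card (Fin n) := by rw [Fintype.card_fin]; exact hlt
  obtain ⟨g₀, hg₀, hg₀'⟩ := exists_not_mem hr hK hlt'
  constructor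
  · refine ⟨fun h => hg₀' (h ▸ trivial), fun M hM => ?_⟩
    obtain ⟨g, hg, hgN⟩ := SetLike.exists_of_lt hM
    rcases le_normalizer_or_specialLinear_le hr hK hlt' (inf_le_left.trans hM.le) with h | h
    · exact absurd (h hg) hgN
    · rw [eq_top_iff]
      intro x _
      obtain ⟨y, hy, hdet⟩ := exists_det hr hK hlt' (Matrix.GeneralLinearGroup.det x)
      have hxy : x * y⁻¹ ∈ Cfsg.Geo.specialLinear (Fin n) F := by
        show Matrix.GeneralLinearGroup.det (x * y⁻¹) = 1
        rw [map_mul, map_inv, hdet, mul_inv_cancel]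
      simpa using M.mul_mem (h hxy) (hM.le hy)
  · refine ⟨lt_of_le_of_ne inf_le_right fun h => hg₀' (Subgroup.mem_inf.mp (show g₀ ∈ Cfsg.Geo.subalgebraNormalizer K ⊓ Cfsg.Geo.specialLinear (Fin n) F from h.symm ▸ hg₀)).1, fun M hHM hMK => ?_⟩
    rcases le_normalizer_or_specialLinear_le hr hK hlt' hHM with h | h
    · exact Or.inl (le_antisymm (le_inf h hMK) hHM)
    · exact Or.inr (le_antisymm hMK h)

end Cfsg.Agent.S5886
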