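import Cfsg.Statements.S5887
import Cfsg.Agent.Lib.MaxSub.Transvec

set_option autoImplicit false
open Cfsg

namespace Cfsg.Agent.S5887

open Cfsg.Agent.Lib.MaxSub Matrix
open scoped MatrixGroups Matrix

variable {F : Type*} [Field F] [Fintype F] {n r : ℕ} {K : Subalgebra F (Matrix (Fin n) (Fin n) F)}

theorem conj_pow (g : GL (Fin n) F) (k : Matrix (Fin n) (Fin n) F) (j : ℕ) :
    (g.val * k * (g⁻¹).val) ^ j = g.val * k ^ j * (g⁻¹).val := by
  induction j with
  | zero => simp
  | succ j ih => rw [pow_succ, ih, pow_succ]; simp [mul_assoc]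

/-- The subfield of `K` fixed by a power of the Frobenius map. -/
theorem exists_sub (hK : Cfsg.Geo.IsFieldSubalgebra r K) {s : ℕ} (hs : 2 ≤ s) (hsr : s ∣ r) (hlt : s < r) (hn : 0 < n) :
    ∃ L : Subalgebra F (Matrix (Fin n) (Fin n) F), L ≤ K ∧ (∃ θ ∈ L, ∀ c : F, θ ≠ c • 1) ∧
      (∀ x ∈ L, x ≠ 0 → ∃ y ∈ L, x * y = 1) ∧ Module.finrank F L < Module.finrank F K ∧
      Cfsg.Geo.subalgebraNormalizer K ≤ Cfsg.Geo.subalgebraNormalizer L := by
  classical
  haveI : Nonempty (Fin n) := ⟨⟨0, hn⟩⟩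
  haveI : Finite K := Finite.of_injective _ Subtype.val_injective
  have hfield : IsField K := ⟨⟨0, 1, zero_ne_one⟩, fun x y => Subtype.ext (hK.comm _ x.2 _ y.2), fun {a} ha => by
    obtain ⟨y, hy, hxy⟩ := hK.inv _ a.2 fun h => ha (Subtype.ext h)
    exact ⟨⟨y, hy⟩, Subtype.ext hxy⟩⟩
  letI := hfield.toField
  set q := Fintype.card F with hq
  have hq2 : 2 ≤ q := Fintype.one_lt_card
  obtain ⟨p, hp⟩ := CharP.exists F
  haveI : Fact p.Prime := ⟨CharP.char_is_prime F p⟩
  haveI : CharP K p := charP_of_injective_algebraMap (algebraMap F K).injective p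
  obtain ⟨f, -, hf⟩ := FiniteField.card F p
  set e := (f : ℕ) * s with he
  have hqs : q ^ s = p ^ e := by rw [he, pow_mul, ← hf]
  let L₀ : Subalgebra F K :=
    { carrier := {x | x ^ q ^ s = x}
      mul_mem' := fun {a b} ha hb => by
        show (a * b) ^ q ^ s = a * b
        rw [mul_pow, ha, hb]
      add_mem' := fun {a b} ha hb => by
        show (a + b) ^ q ^ s = a + b
        rw [hqs, add_pow_char_pow, ← hqs, ha, hb]
      algebraMap_mem' := fun c => by
        show (algebraMap F K c) ^ q ^ s = _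
        rw [← map_pow, FiniteField.pow_card_pow] }
  have hcardK : Nat.card K = q ^ r := by
    rw [Module.natCard_eq_pow_finrank (K := F), hK.finrank_eq, Nat.card_eq_fintype_card]
  refine ⟨L₀.map K.val, ?_, ?_, ?_, ?_, ?_⟩
  · rintro _ ⟨x, -, rfl⟩; exact x.2
  · haveI : Fintype K := Fintype.ofFinite K
    obtain ⟨g, hg⟩ := IsCyclic.exists_ofOrder_eq_natCard (α := Kˣ)
    rw [Nat.card_units, hcardK] at hg
    have hdvd : q ^ s - 1 ∣ q ^ r - 1 := Nat.pow_sub_one_dvd_pow_sub_one q hsr
    obtain ⟨d, hd⟩ := hdvd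
    have hord : orderOf (g ^ d) = q ^ s - 1 := by
      have hd0 : d ≠ 0 := fun h => by
        rw [h, mul_zero] at hd
        have := Nat.one_lt_pow (show r ≠ 0 by omega) (show 1 < q by omega)
        omega
      rw [orderOf_pow' g hd0, hg, hd, Nat.gcd_mul_left_left, Nat.mul_div_cancel _ (by omega)]
    have h1 : ((g ^ d : Kˣ) : K) ^ (q ^ s - 1) = 1 := by
      rw [← Units.val_pow_eq_pow_val, ← hord, pow_orderOf_eq_one, Units.val_one]
    have hpos : 1 ≤ q ^ s := Nat.one_le_pow _ _ (by omega)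
    refine ⟨_, ⟨((g ^ d : Kˣ) : K), ?_, rfl⟩, fun c hc => ?_⟩
    · show _ ^ q ^ s = _
      rw [show q ^ s = q ^ s - 1 + 1 by omega, pow_succ, h1, one_mul]
    · have hK1 : ((g ^ d : Kˣ) : K) = algebraMap F K c := Subtype.ext (by
        rw [Subalgebra.coe_algebraMap, Algebra.algebraMap_eq_smul_one]; exact hc)
      have hc0 : c ≠ 0 := fun h => (g ^ d).ne_zero (by rw [hK1, h, map_zero])
      have h2 : (g ^ d) ^ (q - 1) = 1 := Units.ext (by
        rw [Units.val_pow_eq_pow_val, hK1, ← map_pow, FiniteField.pow_card_sub_one_eq_one c hc0, map_one, Units.val_one])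
      have h3 := Nat.le_of_dvd (by omega) (orderOf_dvd_of_pow_eq_one h2)
      rw [hord] at h3
      have h4 : q ^ 1 < q ^ s := Nat.pow_lt_pow_right (by omega) (by omega)
      rw [pow_one] at h4
      omega
  · rintro _ ⟨x, hx, rfl⟩ hx0
    have hx' : x ≠ 0 := fun h => hx0 (by rw [h]; rfl)
    refine ⟨_, ⟨x⁻¹, ?_, rfl⟩, ?_⟩
    · show x⁻¹ ^ q ^ s = x⁻¹
      rw [inv_pow, show x ^ q ^ s = x from hx]
    · have := congrArg Subtype.val (mul_inv_cancel₀ hx')
      simpa using this
  · by_contra hc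
    push Not at hc
    have h1 : Module.finrank F (L₀.map K.val) ≤ Module.finrank F L₀ := by
      have := Submodule.finrank_map_le K.val.toLinearMap (Subalgebra.toSubmodule L₀)
      exact this
    have h2 : Subalgebra.toSubmodule L₀ = ⊤ := Submodule.eq_top_of_finrank_eq
      (le_antisymm (Submodule.finrank_le _) (hc.trans h1))
    have h3 : ∀ x : K, x ^ q ^ s = x := fun x => by
      have : x ∈ Subalgebra.toSubmodule L₀ := h2 ▸ Submodule.mem_top
      exact this
    haveI : Fintype K := Fintype.ofFinite K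
    let P : Polynomial K := Polynomial.X ^ q ^ s - Polynomial.X
    have hP : P ≠ 0 := FiniteField.X_pow_card_pow_sub_X_ne_zero K (by omega) hq2
    have h5 : (Finset.univ : Finset K) ⊆ P.roots.toFinset := fun x _ => by
      rw [Multiset.mem_toFinset, Polynomial.mem_roots hP]
      simp [P, h3]
    have h6 := (Finset.card_le_card h5).trans ((Multiset.toFinset_card_le _).trans (Polynomial.card_roots' _))
    rw [Finset.card_univ, ← Nat.card_eq_fintype_card, hcardK,
      FiniteField.X_pow_card_pow_sub_X_natDegree_eq K (by omega) hq2] at h6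
    have := Nat.pow_lt_pow_right (show 1 < q by omega) hlt
    omega
  · have hone : ∀ g ∈ Cfsg.Geo.subalgebraNormalizer K, ∀ k ∈ L₀.map K.val, g.val * k * (g⁻¹).val ∈ L₀.map K.val := by
      rintro g hg _ ⟨x, hx, rfl⟩
      refine ⟨⟨_, (hg _).mp x.2⟩, Subtype.ext ?_, rfl⟩
      rw [SubmonoidClass.coe_pow, conj_pow, ← SubmonoidClass.coe_pow]
      exact congrArg (fun y : K => g.val * y.val * (g⁻¹).val) hx
    intro g hg k
    refine ⟨hone g hg k, fun h => ?_⟩
    have := hone g⁻¹ (inv_mem hg) _ h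
    simpa [mul_assoc] using this

/-- Powers of a square-zero change of the identity. -/
theorem pow_one_add {R : Type*} [Ring R] {N : R} (h : N * N = 0) (k : ℕ) : (1 + N) ^ k = 1 + k • N := by
  induction k with
  | zero => simp
  | succ k ih => rw [pow_succ, ih, succ_nsmul, add_mul, one_mul, smul_mul_assoc, mul_add, mul_one, h, add_zero]; abel

/-- Let F be a finite field, n a positive integer and r a composite number (r > 1, not prime) that divides n with r < n. Let K be a subalgebra of the algebra of n × n matrices over F which is a field of degree r over F (commutative, every non-zero element invertible, of dimension r over F). Then the normaliser N of K in GL_n(F) (a group of type ΓL_{n/r}(F_{q^r})) is not a maximal subgroup of GL_n(F), and N ∩ SL_n(F) is not a maximal subgroup of SL_n(F): both lie properly inside the normaliser of an intermediate subfield of prime degree over F. -/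
theorem result {F : Type*} [Field F]
    [Fintype F] (n r : ℕ) (hr1 : 1 < r) (hrp : ¬ r.Prime) (hrn : r ∣ n) (hlt : r < n)
    (K : Subalgebra F (Matrix (Fin n) (Fin n) F)) (hK : Cfsg.Geo.IsFieldSubalgebra r K) :
    ¬ IsCoatom (Cfsg.Geo.subalgebraNormalizer K) ∧
      ¬ Cfsg.Geo.IsMaximalIn (Cfsg.Geo.specialLinear (Fin n) F)
        (Cfsg.Geo.subalgebraNormalizer K ⊓ Cfsg.Geo.specialLinear (Fin n) F) := by
  classical
  obtain ⟨s, hs, hsr⟩ := Nat.exists_prime_and_dvd (show r ≠ 1 by omega)
  have hslt : s < r := lt_of_le_of_ne (Nat.le_of_dvd (by omega) hsr) fun h => hrp (h ▸ hs)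
  obtain ⟨L, hLK, ⟨θ, hθ, hθc⟩, hLinv, hLdim, hNle⟩ := exists_sub hK hs.two_le hsr hslt (by omega)
  rw [hK.finrank_eq] at hLdim
  have h2r : 2 * r ≤ n := by
    obtain ⟨d, rfl⟩ := hrn
    nlinarith [show 2 ≤ d from by
      rcases d with _ | _ | d <;> simp_all]
  set l := Module.finrank F L with hl
  have hinj : ∀ k ∈ K, k ≠ 0 → ∀ x : Fin n → F, k *ᵥ x = 0 → x = 0 := by
    intro k hk hk0 x hx
    obtain ⟨y, hy, hky⟩ := hK.inv k hk hk0
    rw [← Matrix.one_mulVec x, ← hky, hK.comm k hk y hy, ← Matrix.mulVec_mulVec, hx, Matrix.mulVec_zero]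
  let ev : (Fin n → F) → (L →ₗ[F] (Fin n → F)) := fun v =>
    { toFun := fun a => (a : Matrix (Fin n) (Fin n) F) *ᵥ v
      map_add' := fun a b => by simp [Matrix.add_mulVec]
      map_smul' := fun c a => by simp [Matrix.smul_mulVec] }
  haveI : Nonempty (Fin n) := ⟨⟨0, by omega⟩⟩
  obtain ⟨v, hv⟩ := exists_ne (0 : Fin n → F)
  let Lv := LinearMap.range (ev v)
  have hLv : Module.finrank F Lv ≤ l := LinearMap.finrank_range_le _
  -- a unipotent element centralising the smaller field and outside the normaliser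
  obtain ⟨t, htd, htN, htK⟩ : ∃ t : GL (Fin n) F, t ∈ Cfsg.Geo.specialLinear (Fin n) F ∧
      t ∈ Cfsg.Geo.subalgebraNormalizer L ∧ t ∉ Cfsg.Geo.subalgebraNormalizer K := by
    haveI : Finite L := Finite.of_injective _ Subtype.val_injective
    have hfield : IsField L := ⟨⟨0, 1, zero_ne_one⟩, fun x y => Subtype.ext (hK.comm _ (hLK x.2) _ (hLK y.2)),
      fun {a} ha => by
        obtain ⟨y, hy, hxy⟩ := hLinv _ a.2 fun h => ha (Subtype.ext h)
        exact ⟨⟨y, hy⟩, Subtype.ext hxy⟩⟩
    letI := hfield.toField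
    let act : L →+* Module.End F (Fin n → F) :=
      ((Matrix.toLinAlgEquiv' : Matrix (Fin n) (Fin n) F ≃ₐ[F] _).toAlgHom.comp L.val).toRingHom
    letI : Module L (Fin n → F) := Module.compHom _ act
    have hact : ∀ (a : L) (x : Fin n → F), a • x = (a : Matrix (Fin n) (Fin n) F) *ᵥ x := fun a x => rfl
    obtain ⟨x₁, hx₁⟩ : ∃ x₁, x₁ ∉ (Submodule.span L {v} : Submodule L (Fin n → F)) := by
      by_contra hc
      push Not at hc
      have hr' : (⊤ : Submodule F (Fin n → F)) ≤ Lv := fun x _ => by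
        obtain ⟨a, ha⟩ := Submodule.mem_span_singleton.mp (hc x)
        exact ⟨a, ha⟩
      have := Submodule.finrank_mono hr'
      rw [finrank_top, Module.finrank_fintype_fun_eq_card, Fintype.card_fin] at this
      omega
    obtain ⟨lam, hlam0, hlamv⟩ := Submodule.exists_le_ker_of_lt_top (Submodule.span L {v})
      (lt_top_iff_ne_top.mpr fun h => hx₁ (by rw [h]; exact Submodule.mem_top))
    have hlv : lam v = 0 := hlamv (Submodule.mem_span_singleton_self v)
    obtain ⟨x₃, hlam⟩ : ∃ x₃, lam x₃ ≠ 0 := by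
      by_contra hc
      push Not at hc
      exact hlam0 (LinearMap.ext hc)
    have hsm : ∀ (c : F) (x : Fin n → F), lam (c • x) = c • lam x := fun c x => by
      have h1 : c • x = algebraMap F L c • x := by
        rw [hact, Subalgebra.coe_algebraMap, Algebra.algebraMap_eq_smul_one, Matrix.smul_mulVec, Matrix.one_mulVec]
      rw [h1, map_smul, smul_eq_mul, Algebra.smul_def]
    let Nl : (Fin n → F) →ₗ[F] (Fin n → F) :=
      { toFun := fun x => (lam x : Matrix (Fin n) (Fin n) F) *ᵥ v
        map_add' := fun a b => by simp [Matrix.add_mulVec]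
        map_smul' := fun c a => by simp [hsm, Matrix.smul_mulVec] }
    set N := LinearMap.toMatrix' Nl with hN
    have hNx : ∀ x, N *ᵥ x = (lam x : Matrix (Fin n) (Fin n) F) *ᵥ v := fun x => LinearMap.toMatrix'_mulVec Nl x
    have hNL : ∀ (a : L) x, N *ᵥ ((a : Matrix (Fin n) (Fin n) F) *ᵥ x) = (a : Matrix (Fin n) (Fin n) F) *ᵥ (N *ᵥ x) := by
      intro a x
      rw [hNx, hNx, ← hact a x, map_smul, smul_eq_mul, Matrix.mulVec_mulVec]
      rfl
    have hNN : N * N = 0 := eq_of_mulVec_eq fun x => by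
      rw [← Matrix.mulVec_mulVec, hNx x, hNL, hNx, hlv, ZeroMemClass.coe_zero, Matrix.zero_mulVec, Matrix.mulVec_zero,
        Matrix.zero_mulVec]
    let t : GL (Fin n) F :=
      { val := 1 + N
        inv := 1 - N
        val_inv := by rw [add_mul, one_mul, mul_sub, mul_one, hNN, sub_zero, sub_add_cancel]
        inv_val := by rw [sub_mul, one_mul, mul_add, mul_one, hNN, add_zero, add_sub_cancel_right] }
    have hcomm : ∀ a ∈ L, t.val * a = a * t.val := fun a ha => eq_of_mulVec_eq fun x => by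
      show ((1 + N) * a) *ᵥ x = (a * (1 + N)) *ᵥ x
      rw [← Matrix.mulVec_mulVec, ← Matrix.mulVec_mulVec, Matrix.add_mulVec, Matrix.add_mulVec, Matrix.one_mulVec,
        Matrix.one_mulVec, Matrix.mulVec_add, hNL ⟨a, ha⟩ x]
    refine ⟨t, ?_, fun k => ⟨fun hk => ?_, fun hk => ?_⟩, fun hT => ?_⟩
    · obtain ⟨p, hp⟩ := CharP.exists F
      haveI : Fact p.Prime := ⟨CharP.char_is_prime F p⟩
      have h1 : ((1 + N) ^ p).det = 1 := by
        rw [pow_one_add hNN, ← Nat.cast_smul_eq_nsmul F, CharP.cast_eq_zero, zero_smul, add_zero, Matrix.det_one]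
      rw [Matrix.det_pow] at h1
      refine MonoidHom.mem_ker.mpr (Units.ext ?_)
      show (1 + N).det = 1
      exact frobenius_inj F p (by rw [frobenius_def, frobenius_def, h1, one_pow])
    · rw [hcomm k hk, mul_assoc, ← Units.val_mul, mul_inv_cancel, Units.val_one, mul_one]; exact hk
    · have h1 : k = (t⁻¹).val * (t.val * k * (t⁻¹).val) * t.val := by
        simp only [← mul_assoc, Units.inv_mul, one_mul]; rw [mul_assoc, Units.inv_mul, mul_one]
      rw [h1, mul_assoc ((t⁻¹).val), ← hcomm _ hk, ← mul_assoc, ← Units.val_mul, inv_mul_cancel, Units.val_one, one_mul]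
      exact hk
    -- it moves the big field
    have hker : n ≤ Module.finrank F (LinearMap.ker Nl) + l := by
      have h1 := Nl.finrank_range_add_finrank_ker
      have h2 : LinearMap.range Nl ≤ Lv := by rintro _ ⟨x, rfl⟩; exact ⟨lam x, rfl⟩
      have h3 := (Submodule.finrank_mono h2).trans hLv
      rw [Module.finrank_fintype_fun_eq_card, Fintype.card_fin] at h1
      omega
    have hk' : ∀ k ∈ K, t.val * k * (t⁻¹).val = k := by
      intro k hk
      by_contra hne
      have hd : t.val * k * (t⁻¹).val - k ∈ K := K.sub_mem ((hT k).mp hk) hk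
      let δ := Matrix.toLin' (t.val * k * (t⁻¹).val - k)
      have hδ : Function.Injective δ := (injective_iff_map_eq_zero δ).mpr fun x hx =>
        hinj _ hd (sub_ne_zero.mpr hne) x hx
      have h1 : (LinearMap.ker Nl).map δ ≤ Lv := by
        rintro _ ⟨u, hu, rfl⟩
        have hu' : N *ᵥ u = 0 := (hNx u).trans hu
        refine ⟨lam (k *ᵥ u), ?_⟩
        show (lam (k *ᵥ u) : Matrix (Fin n) (Fin n) F) *ᵥ v = Matrix.toLin' _ u
        rw [← hNx, Matrix.toLin'_apply, Matrix.sub_mulVec, ← Matrix.mulVec_mulVec, ← Matrix.mulVec_mulVec]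
        show _ = (1 + N) *ᵥ (k *ᵥ ((1 - N) *ᵥ u)) - k *ᵥ u
        rw [Matrix.sub_mulVec 1 N, Matrix.one_mulVec, hu', sub_zero, Matrix.add_mulVec, Matrix.one_mulVec,
          add_sub_cancel_left]
      have h2 := (Submodule.finrank_mono h1).trans hLv
      rw [← (Submodule.equivMapOfInjective δ hδ _).finrank_eq] at h2
      omega
    obtain ⟨x₂, hx₂⟩ : ∃ x₂, lam x₂ = 1 := ⟨(lam x₃)⁻¹ • x₃, by rw [map_smul, smul_eq_mul, inv_mul_cancel₀ hlam]⟩
    have hKv : ∀ k ∈ K, k *ᵥ v ∈ Lv := by
      intro k hk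
      have h1 : t.val * k = k * t.val := by
        have := congrArg (· * t.val) (hk' k hk)
        simp only [Units.inv_mul_cancel_right] at this
        exact this
      have h2 := congrArg (· *ᵥ x₂) h1
      simp only [← Matrix.mulVec_mulVec] at h2
      change (1 + N) *ᵥ (k *ᵥ x₂) = k *ᵥ ((1 + N) *ᵥ x₂) at h2
      rw [Matrix.add_mulVec, Matrix.add_mulVec, Matrix.one_mulVec, Matrix.one_mulVec, Matrix.mulVec_add,
        add_right_inj, hNx, hNx, hx₂, OneMemClass.coe_one, Matrix.one_mulVec] at h2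
      exact ⟨_, h2⟩
    let evK : K →ₗ[F] Lv :=
      { toFun := fun a => ⟨(a : Matrix (Fin n) (Fin n) F) *ᵥ v, hKv _ a.2⟩
        map_add' := fun a b => Subtype.ext (by simp [Matrix.add_mulVec])
        map_smul' := fun c a => Subtype.ext (by simp [Matrix.smul_mulVec]) }
    have h4 := LinearMap.finrank_le_finrank_of_injective (f := evK) ((injective_iff_map_eq_zero evK).mpr fun a ha => by
      by_contra h
      exact hv (hinj _ a.2 (fun h' => h (Subtype.ext h')) v (congrArg Subtype.val ha)))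
    rw [hK.finrank_eq] at h4
    omega
  -- a transvection outside the normaliser of the smaller field
  obtain ⟨u, hud, huN⟩ : ∃ u : GL (Fin n) F, u ∈ Cfsg.Geo.specialLinear (Fin n) F ∧
      u ∉ Cfsg.Geo.subalgebraNormalizer L := by
    have hθv : θ *ᵥ v ∉ F ∙ v := fun h => by
      obtain ⟨c, hc⟩ := Submodule.mem_span_singleton.mp h
      refine hv (hinj (θ - c • 1) (K.sub_mem (hLK hθ) (K.smul_mem K.one_mem c)) (sub_ne_zero.mpr (hθc c)) v ?_)
      rw [Matrix.sub_mulVec, Matrix.smul_mulVec, Matrix.one_mulVec, hc, sub_self]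
    obtain ⟨a, haW, hax⟩ := exists_functional (F ∙ v) hθv
    have hav : a ⬝ᵥ v = 0 := haW v (Submodule.mem_span_singleton_self v)
    refine ⟨tv v a hav, tv_mem_specialLinear v a hav, fun h => ?_⟩
    set w := tv v a hav with hw
    let φ : (Fin n → F) →ₗ[F] F := dotProductBilin F F a
    have hphi : ∀ x, φ x = a ⬝ᵥ x := fun x => rfl
    have hinvw : ∀ x, (w⁻¹).val *ᵥ x = x + (-a ⬝ᵥ x) • v := fun x => by rw [hw, tv_inv, tv_mulVec]
    have hθ' : w.val * θ * (w⁻¹).val = θ := by
      by_contra hne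
      let δ := Matrix.toLin' (w.val * θ * (w⁻¹).val - θ)
      have hδ : Function.Injective δ := (injective_iff_map_eq_zero δ).mpr fun x hx =>
        hinj _ (K.sub_mem (hLK ((h θ).mp hθ)) (hLK hθ)) (sub_ne_zero.mpr hne) x hx
      have h1 : (LinearMap.ker φ).map δ ≤ F ∙ v := by
        rintro _ ⟨x, hx, rfl⟩
        have hx' : a ⬝ᵥ x = 0 := hx
        rw [Matrix.toLin'_apply, Matrix.sub_mulVec, ← Matrix.mulVec_mulVec, ← Matrix.mulVec_mulVec, hinvw,
          neg_dotProduct, hx', neg_zero, zero_smul, add_zero, tv_mulVec, add_sub_cancel_left]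
        exact Submodule.smul_mem _ _ (Submodule.mem_span_singleton_self v)
      have h2 := Submodule.finrank_mono h1
      rw [finrank_span_singleton hv, ← (Submodule.equivMapOfInjective δ hδ _).finrank_eq] at h2
      have h3 := φ.finrank_range_add_finrank_ker
      have h4 : Module.finrank F (LinearMap.range φ) ≤ 1 := (Submodule.finrank_le _).trans (by simp)
      rw [Module.finrank_fintype_fun_eq_card, Fintype.card_fin] at h3
      omega
    have h5 := congrArg (fun X => (X * w.val) *ᵥ v) hθ'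
    simp only [mul_assoc, ← Units.val_mul, inv_mul_cancel, Units.val_one, mul_one, ← Matrix.mulVec_mulVec] at h5
    rw [hw, tv_mulVec, tv_mulVec, hax, hav, zero_smul, add_zero, one_smul, add_eq_left] at h5
    exact hv h5
  have hnm : ∀ A B : Subgroup (GL (Fin n) F), A ≤ B → t ∈ B → t ∉ A → A < B := fun A B h1 h2 h3 =>
    lt_of_le_of_ne h1 fun h => h3 (h ▸ h2)
  refine ⟨fun h => huN ?_, fun h => ?_⟩
  · rw [h.2 _ (hnm _ _ hNle htN htK)]; trivial
  · have hlt' := hnm _ _ (inf_le_inf_right (Cfsg.Geo.specialLinear (Fin n) F) hNle) ⟨htN, htd⟩ fun h' => htK h'.1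
    rcases h.2 _ hlt'.le inf_le_right with h1 | h1
    · exact hlt'.ne h1.symm
    · exact huN (h1.symm ▸ hud : u ∈ Cfsg.Geo.subalgebraNormalizer L ⊓ Cfsg.Geo.specialLinear (Fin n) F).1

end Cfsg.Agent.S5887
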