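import Cfsg.Statements.S5892
import Cfsg.Agent.Lib.Geometry.Dickson.MaxClass
import Cfsg.Agent.S0804
-- import your own Cfsg.Agent.* helpers here

set_option autoImplicit false
open Cfsg
open scoped Matrix
open Cfsg.Agent.Lib.Geometry.Dickson

namespace Cfsg.Agent.S5892

/-- Let F be a finite field of odd order q ≥ 5 and characteristic p, and let M be a maximal subgroup of PSL₂(F). Then one of the following holds: |M| = q(q − 1)/2 (the stabiliser of a point of the projective line); q ≥ 13 and M is dihedral of order q − 1; q ∉ {7, 9} and M is dihedral of order q + 1; q = q₀² and M ≅ PGL₂(F₀) with |F₀| = q₀; q = q₀^r for an odd prime r and M ≅ PSL₂(F₀) with |F₀| = q₀; q ≡ ±1 (mod 10) with q = p or q = p², p ≡ ±3 (mod 10), and M ≅ A₅; q = p ≡ ±3 (mod 8), q ≢ ±1 (mod 10), and M ≅ A₄; or q = p ≡ ±1 (mod 8) and M ≅ S₄. -/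
theorem result {F : Type*} [Field F] [Fintype F] (p : ℕ)
    [Fact p.Prime] [CharP F p] (hodd : Odd (Fintype.card F)) (h5 : 5 ≤ Fintype.card F)
    (M : Subgroup (Matrix.ProjectiveSpecialLinearGroup (Fin 2) F)) (hM : IsCoatom M) :
    2 * Nat.card M = Fintype.card F * (Fintype.card F - 1) ∨
    (13 ≤ Fintype.card F ∧ (∃ k : ℕ, 2 * k = Fintype.card F - 1 ∧ Nonempty (M ≃* DihedralGroup k))) ∨
    (Fintype.card F ≠ 7 ∧ Fintype.card F ≠ 9 ∧ (∃ k : ℕ, 2 * k = Fintype.card F + 1 ∧ Nonempty (M ≃* DihedralGroup k))) ∨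
    (∃ (F₀ : Type) (_ : Field F₀) (_ : Fintype F₀), Fintype.card F = Fintype.card F₀ ^ 2 ∧
        Nonempty (M ≃* Matrix.ProjGenLinGroup (Fin 2) F₀)) ∨
    (∃ (F₀ : Type) (_ : Field F₀) (_ : Fintype F₀) (r : ℕ), r.Prime ∧ Odd r ∧ Fintype.card F = Fintype.card F₀ ^ r ∧
        Nonempty (M ≃* Matrix.ProjectiveSpecialLinearGroup (Fin 2) F₀)) ∨
    ((Fintype.card F % 10 = 1 ∨ Fintype.card F % 10 = 9) ∧
        (Fintype.card F = p ∨ (Fintype.card F = p ^ 2 ∧ (p % 10 = 3 ∨ p % 10 = 7))) ∧
        Nonempty (M ≃* alternatingGroup (Fin 5))) ∨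
    (Fintype.card F = p ∧ (p % 8 = 3 ∨ p % 8 = 5) ∧ ¬ (p % 10 = 1 ∨ p % 10 = 9) ∧
        Nonempty (M ≃* alternatingGroup (Fin 4))) ∨
    (Fintype.card F = p ∧ (p % 8 = 1 ∨ p % 8 = 7) ∧ Nonempty (M ≃* Equiv.Perm (Fin 4))) := by
  classical
  haveI : IsSimpleGroup (Matrix.ProjectiveSpecialLinearGroup (Fin 2) F) :=
    Matrix.ProjectiveSpecialLinearGroup.rank_two_simple (by rw [Nat.card_eq_fintype_card]; omega)
  haveI : Fact (Nat.Prime 2) := ⟨Nat.prime_two⟩
  have hq2 := Nat.odd_iff.mp hodd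
  have hd : Nat.gcd 2 (Fintype.card F - 1) = 2 := Nat.gcd_eq_left (Nat.dvd_iff_mod_eq_zero.mpr (by omega))
  have h4 : 4 ≤ Fintype.card F := by omega
  have hG := card_PSL2_odd (F := F) hq2
  have hp2 : p % 2 = 1 := by
    obtain ⟨n, -, hn⟩ := FiniteField.card F p
    rw [hn, Nat.pow_mod] at hq2
    rcases Nat.mod_two_eq_zero_or_one p with h | h
    · rw [h, zero_pow n.ne_zero] at hq2; simp at hq2
    · exact h
  have hlarge : ∀ {H : Subgroup (Matrix.ProjectiveSpecialLinearGroup (Fin 2) F)},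
      2 * Nat.card H < Fintype.card F * (Fintype.card F ^ 2 - 1) → H ≠ ⊤ := fun h ht => by
    rw [ht, Subgroup.card_top, hG] at h
    exact lt_irrefl _ h
  suffices main : IsClassical M ∨ InSubfield M ∨
      ((Fintype.card F % 10 = 1 ∨ Fintype.card F % 10 = 9) ∧
        (Fintype.card F = p ∨ (Fintype.card F = p ^ 2 ∧ (p % 10 = 3 ∨ p % 10 = 7))) ∧
        Nonempty (M ≃* alternatingGroup (Fin 5))) ∨
      (Fintype.card F = p ∧ (p % 8 = 3 ∨ p % 8 = 5) ∧ ¬ (p % 10 = 1 ∨ p % 10 = 9) ∧
        Nonempty (M ≃* alternatingGroup (Fin 4))) ∨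
      (Fintype.card F = p ∧ (p % 8 = 1 ∨ p % 8 = 7) ∧ Nonempty (M ≃* Equiv.Perm (Fin 4))) by
    obtain h | h : IsClassical M ∨
        ((∃ (F₀ : Type) (_ : Field F₀) (_ : Fintype F₀), Fintype.card F = Fintype.card F₀ ^ 2 ∧
            Nonempty (M ≃* Matrix.ProjGenLinGroup (Fin 2) F₀)) ∨
        (∃ (F₀ : Type) (_ : Field F₀) (_ : Fintype F₀) (r : ℕ), r.Prime ∧ Odd r ∧
            Fintype.card F = Fintype.card F₀ ^ r ∧
            Nonempty (M ≃* Matrix.ProjectiveSpecialLinearGroup (Fin 2) F₀)) ∨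
        ((Fintype.card F % 10 = 1 ∨ Fintype.card F % 10 = 9) ∧
          (Fintype.card F = p ∨ (Fintype.card F = p ^ 2 ∧ (p % 10 = 3 ∨ p % 10 = 7))) ∧
          Nonempty (M ≃* alternatingGroup (Fin 5))) ∨
        (Fintype.card F = p ∧ (p % 8 = 3 ∨ p % 8 = 5) ∧ ¬ (p % 10 = 1 ∨ p % 10 = 9) ∧
          Nonempty (M ≃* alternatingGroup (Fin 4))) ∨
        (Fintype.card F = p ∧ (p % 8 = 1 ∨ p % 8 = 7) ∧ Nonempty (M ≃* Equiv.Perm (Fin 4)))) := by
      rcases main with h | h | h
      · exact Or.inl h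
      · rcases subfield_outcome p h4 hM h with h | ⟨F₀, i1, i2, r, hr, -, hq, hpsl, hpgl⟩
        · exact Or.inl h
        · rcases eq_or_ne r 2 with rfl | hr2
          · exact Or.inr (Or.inl ⟨F₀, i1, i2, hq, hpgl rfl hodd⟩)
          · exact Or.inr (Or.inr (Or.inl ⟨F₀, i1, i2, r, hr, hr.odd_of_ne_two hr2, hq, hpsl (Or.inl hr2)⟩))
      · exact Or.inr (Or.inr (Or.inr h))
    rotate_left 1
    · exact Or.inr (Or.inr (Or.inr h))
    ·
      unfold IsClassical at h
      rw [hd] at h
      rcases h with h | ⟨m, hm, ⟨e⟩⟩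
      · exact Or.inl h
      have hMc : Nat.card M = 2 * m := by rw [Nat.card_congr e.toEquiv, DihedralGroup.nat_card]
      rcases hm with hm | hm
      · refine Or.inr (Or.inl ⟨?_, m, hm, ⟨e⟩⟩)
        by_contra h13
        obtain hq | hq | hq | hq : Fintype.card F = 5 ∨ Fintype.card F = 7 ∨ Fintype.card F = 9 ∨
            Fintype.card F = 11 := by omega
        all_goals rw [hq] at hm hG hlarge; simp only [Nat.reducePow, Nat.reduceSub, Nat.reduceMul] at hG hlarge
        · obtain rfl : m = 2 := by omega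
          obtain ⟨H, ⟨f⟩⟩ := exists_altFour (F := F) (Ring.two_ne_zero fun h => by
            have := FiniteField.even_card_of_char_two h; omega)
          have hc := (Nat.card_congr f.toEquiv).trans card_alt4
          exact not_max_sylow (m := 2) (k := 2) one_le_two hM (by omega) (Nat.dvd_of_mod_eq_zero (by omega))
            (fun h => by have := Nat.mod_eq_zero_of_dvd h; omega) (hlarge (H := H) (by omega)) (by omega)
            (by rw [hc]; norm_num)
        · obtain rfl : m = 3 := by omega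
          haveI : Fact (Nat.Prime 3) := ⟨Nat.prime_three⟩
          obtain ⟨H, ⟨f⟩⟩ := (Cfsg.Agent.S0803.result (F := F) rfl).mpr (by rw [hq]; norm_num)
          have hc := (Nat.card_congr f.toEquiv).trans card_sym4
          refine not_max_dihedral (m := 3) (by norm_num) hM e
            (fun h => by have := Nat.mod_eq_zero_of_dvd h; omega) (hlarge (H := H) (by omega)) (by omega)
            (by rw [hc]; norm_num) fun n hn h1 => ?_
          rw [hc] at hn ⊢
          have : n ≤ 8 := Nat.le_of_dvd (by norm_num) hn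
          interval_cases n <;> omega
        · obtain rfl : m = 4 := by omega
          obtain ⟨H, ⟨f⟩⟩ := (Cfsg.Agent.S0803.result (F := F) rfl).mpr (by rw [hq]; norm_num)
          have hc := (Nat.card_congr f.toEquiv).trans card_sym4
          exact not_max_sylow (m := 2) (k := 3) (by norm_num) hM (by omega) (Nat.dvd_of_mod_eq_zero (by omega))
            (fun h => by have := Nat.mod_eq_zero_of_dvd h; omega) (hlarge (H := H) (by omega)) (by omega)
            (by rw [hc]; norm_num)
        · obtain rfl : m = 5 := by omega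
          haveI : Fact (Nat.Prime 5) := ⟨Nat.prime_five⟩
          obtain ⟨H, ⟨f⟩⟩ := (Cfsg.Agent.S0804.result (F := F) rfl).mpr (by rw [hq]; norm_num)
          have hc := (Nat.card_congr f.toEquiv).trans card_alt5
          refine not_max_dihedral (m := 5) (by norm_num) hM e
            (fun h => by have := Nat.mod_eq_zero_of_dvd h; omega) (hlarge (H := H) (by omega)) (by omega)
            (by rw [hc]; norm_num) fun n hn h1 => ?_
          rw [hc] at hn ⊢
          have : n ≤ 12 := Nat.le_of_dvd (by norm_num) hn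
          interval_cases n <;> omega
      · refine Or.inr (Or.inr (Or.inl ⟨fun hq => ?_, fun hq => ?_, m, hm, ⟨e⟩⟩))
        all_goals rw [hq] at hm hG hlarge; simp only [Nat.reducePow, Nat.reduceSub, Nat.reduceMul] at hG hlarge
        · obtain rfl : m = 4 := by omega
          obtain ⟨H, ⟨f⟩⟩ := (Cfsg.Agent.S0803.result (F := F) rfl).mpr (by rw [hq]; norm_num)
          have hc := (Nat.card_congr f.toEquiv).trans card_sym4
          exact not_max_sylow (m := 2) (k := 3) (by norm_num) hM (by omega) (Nat.dvd_of_mod_eq_zero (by omega))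
            (fun h => by have := Nat.mod_eq_zero_of_dvd h; omega) (hlarge (H := H) (by omega)) (by omega)
            (by rw [hc]; norm_num)
        · obtain rfl : m = 5 := by omega
          haveI : Fact (Nat.Prime 5) := ⟨Nat.prime_five⟩
          obtain ⟨H, ⟨f⟩⟩ := (Cfsg.Agent.S0804.result (F := F) rfl).mpr (by rw [hq]; norm_num)
          have hc := (Nat.card_congr f.toEquiv).trans card_alt5
          refine not_max_dihedral (m := 5) (by norm_num) hM e
            (fun h => by have := Nat.mod_eq_zero_of_dvd h; omega) (hlarge (H := H) (by omega)) (by omega)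
            (by rw [hc]; norm_num) fun n hn h1 => ?_
          rw [hc] at hn ⊢
          have : n ≤ 12 := Nat.le_of_dvd (by norm_num) hn
          interval_cases n <;> omega
  have hprime : fixedPow (F := F) p 1 = ⊤ → Fintype.card F = p := fun h => by
    obtain ⟨n, hn1, hn2, hn⟩ := pow_card_le_of_fixedPow_eq_top p h le_rfl
    rw [hn, show n = 1 by omega, pow_one]
  have hsq : ∀ k, p % 5 = k → p ^ 2 % 5 = k ^ 2 % 5 := fun k h => by rw [Nat.pow_mod, h]
  rcases maximal_cases p h4 hM with h | h | ⟨hp, ⟨e⟩⟩ | ⟨hp, ⟨e⟩⟩ | ⟨⟨e⟩⟩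
  · exact Or.inl h
  · exact Or.inr (Or.inl h)
  · by_cases hK : fixedPow (F := F) p 1 = ⊤
    swap
    · exact Or.inr (Or.inl (inSubfield_altFour p hp e hK))
    have hqp := hprime hK
    have hc := (Nat.card_congr e.toEquiv).trans card_alt4
    obtain ⟨V, hVM, hVc, hV⟩ := exists_normal_four e
    have h8 : p % 8 = 3 ∨ p % 8 = 5 := by
      by_contra h8
      refine not_max_twelve hM hc hVc hV ?_
      have h16 : p ^ 2 % 16 = 1 := (q_mod_eight_iff p).mpr (by omega)
      have h1 : 16 ∣ Fintype.card F ^ 2 - 1 := by rw [hqp]; exact Nat.dvd_of_mod_eq_zero (by omega)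
      have h2 : 2 * 8 ∣ 2 * Nat.card (Matrix.ProjectiveSpecialLinearGroup (Fin 2) F) :=
        hG ▸ dvd_mul_of_dvd_right h1 _
      exact Nat.dvd_of_mul_dvd_mul_left two_pos h2
    refine Or.inr (Or.inr (Or.inr (Or.inl ⟨hqp, h8, fun h10 => ?_, ⟨e⟩⟩)))
    obtain ⟨H, ⟨f⟩⟩ := (Cfsg.Agent.S0804.result (F := F) rfl).mpr (by
      refine dvd_mul_of_dvd_right ?_ _
      have := hsq (p % 5) rfl
      have h5 : p % 5 = 1 ∨ p % 5 = 4 := by omega
      rcases h5 with h5 | h5 <;> rw [h5] at this <;> rw [hqp] <;> norm_num at this <;> omega)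
    obtain ⟨J, ⟨j⟩⟩ := exists_altFour_of_altFive (Subgroup.topEquiv.trans f)
    obtain ⟨V', hV'J, hV'c, hV'⟩ := exists_normal_four j
    have hHc := (Nat.card_congr f.toEquiv).trans card_alt5
    have hfac : (Nat.card (Matrix.ProjectiveSpecialLinearGroup (Fin 2) F)).factorization 2 = 2 := by
      have h1 := (Nat.prime_two.pow_dvd_iff_le_factorization Nat.card_pos.ne').mp
        (show 2 ^ 2 ∣ Nat.card (Matrix.ProjectiveSpecialLinearGroup (Fin 2) F) from
          (by rw [hVc]; norm_num : 2 ^ 2 ∣ Nat.card V).trans V.card_subgroup_dvd_card)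
      by_contra h3
      have h8' : 2 * 8 ∣ Fintype.card F * (Fintype.card F ^ 2 - 1) :=
        hG ▸ mul_dvd_mul_left 2 ((Nat.prime_two.pow_dvd_iff_le_factorization (k := 3) Nat.card_pos.ne').mpr (by omega))
      rw [hqp] at h8'
      have h16 : 16 ∣ p ^ 2 - 1 := (Nat.Coprime.dvd_of_dvd_mul_left (by
        rw [show (16 : ℕ) = 2 ^ 4 from rfl]
        exact Nat.Coprime.pow_left _ (Nat.coprime_two_left.mpr (Nat.odd_iff.mpr hp2))) h8')
      have hpos : 1 ≤ p ^ 2 := Nat.one_le_pow _ _ (by omega)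
      have := (q_mod_eight_iff p).mp (by omega)
      omega
    have hVJ : Nat.card (V'.map H.subtype) = 2 ^ (Nat.card (Matrix.ProjectiveSpecialLinearGroup (Fin 2) F)).factorization 2 := by
      rw [← Nat.card_congr (V'.equivMapOfInjective _ H.subtype_injective).toEquiv, hV'c, hfac]
      rfl
    have hp5 : 11 ≤ p := by omega
    refine not_max_conj (J := J.map H.subtype) hM (Sylow.ofCard V (by rw [hVc, hfac]; rfl)) (Sylow.ofCard _ hVJ)
      ?_ ?_ ?_ ?_ (Subgroup.map_subtype_le _) (hlarge ?_) ?_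
    · rw [Sylow.coe_ofCard]; exact hV
    · rw [Sylow.coe_ofCard]
      exact normalizer_ne_top_of_simple (fun h => by rw [h, Subgroup.card_bot] at hVc; omega)
        (fun h => hM.1 (eq_top_iff.mpr (h ▸ hVM)))
    · rw [Sylow.coe_ofCard, Subgroup.coe_map]
      exact (Subgroup.map_mono hV').trans (Subgroup.le_normalizer_map _)
    · rw [← Nat.card_congr (J.equivMapOfInjective _ H.subtype_injective).toEquiv,
        (Nat.card_congr j.toEquiv).trans card_alt4, hc]
    · rw [hHc, hqp]
      have : 11 * (11 ^ 2 - 1) ≤ p * (p ^ 2 - 1) :=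
        Nat.mul_le_mul hp5 (Nat.sub_le_sub_right (Nat.pow_le_pow_left hp5 2) 1)
      omega
    · omega
  · by_cases hK : fixedPow (F := F) p 1 = ⊤
    swap
    · exact Or.inr (Or.inl (inSubfield_symFour p hp e hK))
    have h8 := (Cfsg.Agent.S0803.result (F := F) rfl).mp ⟨M, ⟨e⟩⟩
    rw [q_mod_eight_iff, hprime hK] at h8
    exact Or.inr (Or.inr (Or.inr (Or.inr ⟨hprime hK, h8, ⟨e⟩⟩)))
  · by_cases hK : fixedPow (F := F) p 2 = ⊤
    swap
    · exact Or.inr (Or.inl (inSubfield_altFive p e _ hK fun t ht => golden_mem_fixedPow p ht))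
    obtain ⟨n, hn1, hn2, hn⟩ := pow_card_le_of_fixedPow_eq_top p hK one_le_two
    have hne : Fintype.card F ≠ 5 := fun h => hM.1 (Subgroup.eq_top_of_le_card M (by
      rw [h] at hG; simp only [Nat.reducePow, Nat.reduceSub, Nat.reduceMul] at hG
      rw [Nat.card_congr e.toEquiv, card_alt5]; omega))
    have h5' := (Cfsg.Agent.S0804.result (F := F) rfl).mp ⟨M, ⟨e⟩⟩
    interval_cases n
    · rw [pow_one] at hn
      have := five_dvd_sq_sub_one (hn ▸ h5') (fun h => hne (by
        rw [hn]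
        exact (((Fact.out : p.Prime).eq_one_or_self_of_dvd 5 (Nat.dvd_of_mod_eq_zero h)).resolve_left (by norm_num)).symm))
      exact Or.inr (Or.inr (Or.inl ⟨by omega, Or.inl hn, ⟨e⟩⟩))
    · by_cases hroot : 5 ∣ p * (p ^ 2 - 1)
      · refine Or.inr (Or.inl (inSubfield_altFive p e (fixedPow p 1) (fun h => ?_)
          fun t ht => golden_mem_fixedPow_one p hroot ht))
        rw [hprime h] at hn
        have h1 : p ^ 1 < p ^ 2 := Nat.pow_lt_pow_right (Fact.out : p.Prime).one_lt one_lt_two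
        rw [pow_one] at h1
        omega
      have hmod : p % 5 = 2 ∨ p % 5 = 3 := by
        by_contra h
        apply hroot
        rcases (show p % 5 = 0 ∨ p % 5 = 1 ∨ p % 5 = 4 by omega) with h0 | h0 | h0
        · exact dvd_mul_of_dvd_left (Nat.dvd_of_mod_eq_zero h0) _
        all_goals
          refine dvd_mul_of_dvd_right ?_ _
          have := hsq _ h0
          norm_num at this
          omega
      have : p ^ 2 % 5 = 4 := by rcases hmod with h | h <;> rw [hsq _ h] <;> norm_num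
      refine Or.inr (Or.inr (Or.inl ⟨?_, Or.inr ⟨hn, by omega⟩, ⟨e⟩⟩))
      have : p ^ 2 % 2 = 1 := hn ▸ hq2
      rw [hn]; omega

end Cfsg.Agent.S5892
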