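import Cfsg.Statements.S5893
import Cfsg.Agent.Lib.Geometry.Dickson.MaxClass
-- import your own Cfsg.Agent.* helpers here

set_option autoImplicit false
open Cfsg
open scoped Matrix
open Cfsg.Agent.Lib.Geometry.Dickson

namespace Cfsg.Agent.S5893

/-- Let F be a finite field of even order q ≥ 4 and let M be a maximal subgroup of PSL₂(F) (= SL₂(F) = PGL₂(F)). Then one of the following holds: |M| = q(q − 1) (the stabiliser of a point of the projective line, elementary abelian of order q extended by a cyclic group of order q − 1); M is dihedral of order 2(q − 1); M is dihedral of order 2(q + 1); or q = q₀^r for a prime r with q₀ ≠ 2 and M ≅ PSL₂(F₀) with |F₀| = q₀. -/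
theorem result {F : Type*} [Field F] [Fintype F]
    (heven : Even (Fintype.card F)) (h4 : 4 ≤ Fintype.card F) (M : Subgroup (Matrix.ProjectiveSpecialLinearGroup (Fin 2) F)) (hM : IsCoatom M) :
    Nat.card M = Fintype.card F * (Fintype.card F - 1) ∨
    Nonempty (M ≃* DihedralGroup (Fintype.card F - 1)) ∨
    Nonempty (M ≃* DihedralGroup (Fintype.card F + 1)) ∨
    (∃ (F₀ : Type) (_ : Field F₀) (_ : Fintype F₀) (r : ℕ), r.Prime ∧ Fintype.card F₀ ≠ 2 ∧
        Fintype.card F = Fintype.card F₀ ^ r ∧ Nonempty (M ≃* Matrix.ProjectiveSpecialLinearGroup (Fin 2) F₀)) := by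
  classical
  obtain ⟨p, hp⟩ := CharP.exists F
  haveI : Fact p.Prime := ⟨CharP.char_is_prime F p⟩
  obtain rfl : p = 2 := by
    obtain ⟨n, -, hn⟩ := FiniteField.card F p
    have := hn ▸ heven.two_dvd
    exact ((Nat.prime_dvd_prime_iff_eq Nat.prime_two Fact.out).mp (Nat.prime_two.dvd_of_dvd_pow this)).symm
  have hd : Nat.gcd 2 (Fintype.card F - 1) = 1 := Nat.coprime_two_left.mpr (Nat.odd_iff.mpr (by
    rw [Nat.even_iff] at heven; omega))
  suffices main : IsClassical M ∨ InSubfield M by
    rcases main.elim Or.inl (subfield_outcome 2 h4 hM) with h | ⟨F₀, i1, i2, r, hr, h2, hq, hpsl, -⟩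
    · unfold IsClassical at h
      simp only [hd, one_mul] at h
      rcases h with h | ⟨m, hm | hm, he⟩
      · exact Or.inl h
      · exact Or.inr (Or.inl (hm ▸ he))
      · exact Or.inr (Or.inr (Or.inl (hm ▸ he)))
    · exact Or.inr (Or.inr (Or.inr ⟨F₀, i1, i2, r, hr, h2, hq, hpsl (Or.inr heven)⟩))
  rcases maximal_cases 2 h4 hM with h | h | ⟨h, -⟩ | ⟨h, -⟩ | ⟨⟨e⟩⟩
  · exact Or.inl h
  · exact Or.inr h
  · exact absurd rfl h
  · exact absurd rfl h
  · refine Or.inr (inSubfield_altFive 2 e (fixedPow 2 2) (fun htop => hM.1 ?_) fun t ht => golden_mem_fixedPow 2 ht)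
    obtain ⟨n, hn1, hn2, hn⟩ := pow_card_le_of_fixedPow_eq_top 2 htop one_le_two
    refine Subgroup.eq_top_of_le_card M ?_
    have hG := card_PSL2 (F := F)
    have hq : Fintype.card F = 4 := by interval_cases n <;> omega
    rw [hd, one_mul, hq] at hG
    rw [Nat.card_congr e.toEquiv, card_alt5, hG]

end Cfsg.Agent.S5893
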