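import Cfsg.Statements.S5904
-- import your own Cfsg.Agent.* helpers here

set_option autoImplicit false
open scoped Pointwise
open Cfsg

namespace Cfsg.Agent.S5904

open scoped Pointwise

/-- Let Ω be a finite set with more than two elements and O ⊆ Ω a subset with exactly as many elements as its complement. Then the setwise stabilizer of O in the symmetric group on Ω is not a maximal subgroup (it is properly contained in the stabilizer of the partition {O, Ω ∖ O}, which is proper). -/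
theorem result {Ω : Type*} [Fintype Ω] [DecidableEq Ω] (hΩ : 2 < Fintype.card Ω)
    (O : Set Ω) (hO : Nat.card O = Nat.card ↥Oᶜ) :
    ¬ IsCoatom (MulAction.stabilizer (Equiv.Perm Ω) O) := by
  intro hco
  classical
  have hOne : O.Nonempty := by
    by_contra h
    rw [Set.not_nonempty_iff_eq_empty] at h
    rw [h] at hO
    simp at hO
    omega
  haveI : Fintype O := Fintype.ofFinite _
  have hsum : Nat.card O + Nat.card ↥Oᶜ = Fintype.card Ω := by
    rw [← Nat.card_eq_fintype_card, ← Nat.card_sum]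
    exact Nat.card_congr (Equiv.Set.sumCompl O)
  have h2 : 1 < Nat.card O := by omega
  have e : O ≃ ↥Oᶜ := Classical.choice ((Cardinal.eq).mp (by
    rw [← Nat.cast_card, ← Nat.cast_card, hO]))
  let K : Subgroup (Equiv.Perm Ω) :=
    { carrier := {g | g • O = O ∧ g • Oᶜ = Oᶜ ∨ g • O = Oᶜ ∧ g • Oᶜ = O}
      one_mem' := Or.inl ⟨one_smul _ _, one_smul _ _⟩
      mul_mem' := by
        rintro a b (⟨a1, a2⟩ | ⟨a1, a2⟩) (⟨b1, b2⟩ | ⟨b1, b2⟩) <;>
          simp [mul_smul, a1, a2, b1, b2]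
      inv_mem' := by
        rintro a (⟨a1, a2⟩ | ⟨a1, a2⟩)
        · exact Or.inl ⟨inv_smul_eq_iff.mpr a1.symm, inv_smul_eq_iff.mpr a2.symm⟩
        · exact Or.inr ⟨inv_smul_eq_iff.mpr a2.symm, inv_smul_eq_iff.mpr a1.symm⟩ }
  have hle : MulAction.stabilizer (Equiv.Perm Ω) O ≤ K := fun g hg =>
    Or.inl ⟨hg, by rw [Set.smul_set_compl, MulAction.mem_stabilizer_iff.mp hg]⟩
  rcases hco.le_iff.mp hle with h | h
  · obtain ⟨⟨x, hx⟩, ⟨x', hx'⟩, hne⟩ := (Finite.one_lt_card_iff_nontrivial.mp h2).exists_pair_ne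
    obtain ⟨⟨y, hy⟩⟩ : Nonempty ↥Oᶜ := ⟨e ⟨x, hx⟩⟩
    have hxy : x ≠ y := fun h => hy (h ▸ hx)
    have hsx : Equiv.swap x y • x = y := Equiv.swap_apply_left _ _
    have hsx' : Equiv.swap x y • x' = x' :=
      Equiv.swap_apply_of_ne_of_ne (fun hh => hne (Subtype.ext hh.symm)) (fun h => hy (h ▸ hx'))
    have : Equiv.swap x y ∈ K := by rw [h]; trivial
    rcases this with ⟨a1, -⟩ | ⟨a1, -⟩
    · have hm : Equiv.swap x y • x ∈ Equiv.swap x y • O := Set.smul_mem_smul_set hx
      rw [a1, hsx] at hm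
      exact hy hm
    · have hm : Equiv.swap x y • x' ∈ Equiv.swap x y • O := Set.smul_mem_smul_set hx'
      rw [a1, hsx'] at hm
      exact hm hx'
  · let σ : Equiv.Perm Ω := (Equiv.Set.sumCompl O).symm.trans
      ((Equiv.sumCongr e e.symm).trans ((Equiv.sumComm _ _).trans (Equiv.Set.sumCompl O)))
    have h1 : σ • O = Oᶜ := by
      ext x
      constructor
      · rintro ⟨y, hy, rfl⟩
        show σ y ∈ Oᶜ
        have : σ y = e ⟨y, hy⟩ := by simp [σ, Equiv.Set.sumCompl_symm_apply_of_mem hy]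
        rw [this]; exact (e ⟨y, hy⟩).2
      · intro hx
        refine ⟨e.symm ⟨x, hx⟩, (e.symm ⟨x, hx⟩).2, ?_⟩
        show σ _ = x
        simp [σ, Equiv.Set.sumCompl_symm_apply_of_mem (e.symm ⟨x, hx⟩).2]
    have hK : σ ∈ K := Or.inr ⟨h1, by rw [Set.smul_set_compl, h1, compl_compl]⟩
    rw [h, MulAction.mem_stabilizer_iff, h1] at hK
    obtain ⟨x, hx⟩ := hOne
    exact absurd hx (hK.symm ▸ hx : x ∈ Oᶜ)

end Cfsg.Agent.S5904
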