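import Cfsg.Statements.S5894
import Cfsg.Agent.S5904
import Cfsg.Agent.S5885
-- import your own Cfsg.Agent.* helpers here

set_option autoImplicit false
open Cfsg

namespace Cfsg.Agent.S5894

open scoped Pointwise

/-- For every m ≥ 2 the symmetric group on 2m letters has a maximal subgroup M of index 2m together with a maximal subgroup H of M that is not second maximal: some maximal subgroup K of the symmetric group contains H without H being maximal in K. (One may take M the stabiliser of a letter, H ≅ S_m × S_{m−1} inside it, and K ≅ S_m ≀ S₂ the stabiliser of a partition into two m-sets, with H < S_m × S_m < K.) So the prime-index hypothesis in the second-maximality criterion cannot be relaxed to any even index ≥ 4. -/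
theorem result (m : ℕ) (hm : 2 ≤ m) :
    ∃ M H K : Subgroup (Equiv.Perm (Fin (2 * m))), IsCoatom M ∧ M.index = 2 * m ∧ H ≤ M ∧ IsCoatom (H.subgroupOf M) ∧
      IsCoatom K ∧ H ≤ K ∧ ¬ IsCoatom (H.subgroupOf K) := by
  classical
  set p : Fin (2 * m) := ⟨0, by omega⟩ with hp
  let S : Set (Fin (2 * m)) := {i | i.val < m}
  have hpS : p ∈ S := show 0 < m by omega
  have hScard : Nat.card S = m := by
    conv_rhs => rw [← Nat.card_fin m]
    exact Nat.card_congr ⟨fun i => ⟨i.1.val, i.2⟩, fun i => ⟨⟨i.val, by omega⟩, i.2⟩, fun i => rfl, fun i => rfl⟩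
  have hScard' : Nat.card ↥Sᶜ = m := by
    have := Nat.card_congr (Equiv.Set.sumCompl S)
    rw [Nat.card_sum, hScard, Nat.card_fin] at this
    omega
  set M := MulAction.stabilizer (Equiv.Perm (Fin (2 * m))) p with hM
  haveI : Nontrivial (Fin (2 * m)) := Fin.nontrivial_iff_two_le.mpr (by omega)
  have hMc : IsCoatom M := MulAction.IsPreprimitive.isCoatom_stabilizer_of_isPreprimitive _ p
  set H := M ⊓ MulAction.stabilizer (Equiv.Perm (Fin (2 * m))) S with hH
  have hS : ¬ IsCoatom (MulAction.stabilizer (Equiv.Perm (Fin (2 * m))) S) :=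
    Cfsg.Agent.S5904.result (by rw [Fintype.card_fin]; omega) S (hScard.trans hScard'.symm)
  have hSne : MulAction.stabilizer (Equiv.Perm (Fin (2 * m))) S ≠ ⊤ := by
    intro h
    set q : Fin (2 * m) := ⟨m, by omega⟩
    have hg : Equiv.swap p q ∈ MulAction.stabilizer (Equiv.Perm (Fin (2 * m))) S := by rw [h]; trivial
    have hm' : Equiv.swap p q • p ∈ Equiv.swap p q • S := Set.smul_mem_smul_set hpS
    rw [MulAction.mem_stabilizer_iff.mp hg] at hm'
    have : Equiv.swap p q • p = q := Equiv.swap_apply_left _ _
    rw [this] at hm'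
    exact absurd (show m < m from hm') (lt_irrefl _)
  obtain h | ⟨K, hK, hSK⟩ := eq_top_or_exists_le_coatom (MulAction.stabilizer (Equiv.Perm (Fin (2 * m))) S)
  · exact absurd h hSne
  refine ⟨M, H, K, hMc, ?_, inf_le_left, ?_, hK, inf_le_right.trans hSK, ?_⟩
  · rw [hM, MulAction.index_stabilizer_of_transitive, Nat.card_fin]
  · -- transport along the isomorphism of M with the permutations of the other points
    let X := {x : Fin (2 * m) // x ≠ p}
    let ψ : Equiv.Perm X →* Equiv.Perm (Fin (2 * m)) := Equiv.Perm.ofSubtype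
    let T : Set X := {x | x.1 ∈ S}
    have hψ : ∀ (g : Equiv.Perm X), ψ g p = p := fun g => Equiv.Perm.ofSubtype_apply_of_not_mem g (by simp)
    have hψ' : ∀ (g : Equiv.Perm X) (x : X), ψ g x.1 = (g x).1 := fun g x => Equiv.Perm.ofSubtype_apply_coe g x
    have hrange : ∀ g ∈ M, ∃ g' : Equiv.Perm X, ψ g' = g := by
      intro g hg
      have hg' : g p = p := hg
      refine ⟨g.subtypePerm (fun x => not_congr ⟨fun hx => g.injective (hx.trans hg'.symm), fun hx => by rw [hx]; exact hg'⟩), ?_⟩
      exact Equiv.Perm.ofSubtype_subtypePerm _ (fun x hx h => hx (h ▸ hg'))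
    have hT : IsCoatom (MulAction.stabilizer (Equiv.Perm X) T) := by
      have hT1 : T.ncard = m - 1 := by
        have h1 : (Subtype.val '' T : Set (Fin (2 * m))) = S \ {p} := by
          ext x
          constructor
          · rintro ⟨y, hy, rfl⟩; exact ⟨hy, y.2⟩
          · rintro ⟨hx, hxp⟩; exact ⟨⟨x, hxp⟩, hx, rfl⟩
        rw [← Set.ncard_image_of_injective T Subtype.val_injective, h1,
          Set.ncard_sdiff_singleton_of_mem hpS, ← Nat.card_coe_set_eq, hScard]
      have hXc : Nat.card X = 2 * m - 1 := by
        rw [Nat.card_eq_fintype_card, Fintype.card_subtype_compl, Fintype.card_fin, Fintype.card_subtype_eq]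
      refine Equiv.Perm.isCoatom_stabilizer ?_ ?_ ?_
      · exact Set.nonempty_of_ncard_ne_zero (by omega)
      · refine Set.nonempty_of_ncard_ne_zero ?_
        have := Set.ncard_add_ncard_compl T
        omega
      · rw [hXc]; omega
    refine Cfsg.Agent.S5885.isCoatom_subgroupOf_of ?_ ?_ inf_le_left
    · intro h
      refine hT.1 (eq_top_iff.mpr fun g _ => ?_)
      have hg : ψ g ∈ H := h (hψ g)
      rw [MulAction.mem_stabilizer_iff]
      refine Set.eq_of_subset_of_ncard_le ?_ (by rw [Set.ncard_smul_set]) (Set.toFinite _)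
      rintro _ ⟨x, hx, rfl⟩
      show (g x).1 ∈ S
      rw [← hψ']
      exact (MulAction.mem_stabilizer_iff.mp hg.2) ▸ Set.smul_mem_smul_set hx
    · intro L hHL hLM
      have hle : MulAction.stabilizer (Equiv.Perm X) T ≤ L.comap ψ := by
        intro g hg
        refine hHL ⟨hψ g, ?_⟩
        show _ • S = S
        refine Set.eq_of_subset_of_ncard_le ?_ (by rw [Set.ncard_smul_set]) (Set.toFinite _)
        rintro _ ⟨x, hx, rfl⟩
        show ψ g x ∈ S
        by_cases hxp : x = p
        · rw [hxp, hψ]; exact hpS
        · rw [show x = (⟨x, hxp⟩ : X).1 from rfl, hψ']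
          have hgT : g • T = T := hg
          have h3 : g • (⟨x, hxp⟩ : X) ∈ g • T := Set.smul_mem_smul_set hx
          rw [hgT] at h3
          exact h3
      rcases hT.le_iff.mp hle with h | h
      · right
        intro g hg
        obtain ⟨g', rfl⟩ := hrange g hg
        have : g' ∈ L.comap ψ := by rw [h]; trivial
        exact this
      · left
        intro g hg
        refine ⟨hLM hg, ?_⟩
        obtain ⟨g', rfl⟩ := hrange g (hLM hg)
        have hg' : g' • T = T := by
          have : g' ∈ L.comap ψ := hg
          rw [h] at this; exact this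
        show _ • S = S
        refine Set.eq_of_subset_of_ncard_le ?_ (by rw [Set.ncard_smul_set]) (Set.toFinite _)
        rintro _ ⟨x, hx, rfl⟩
        show ψ g' x ∈ S
        by_cases hxp : x = p
        · rw [hxp, hψ]; exact hpS
        · rw [show x = (⟨x, hxp⟩ : X).1 from rfl, hψ']
          have h3 : g' • (⟨x, hxp⟩ : X) ∈ g' • T := Set.smul_mem_smul_set hx
          rw [hg'] at h3
          exact h3
  · intro hc
    have hle : H.subgroupOf K ≤ (MulAction.stabilizer (Equiv.Perm (Fin (2 * m))) S).subgroupOf K := fun x hx => hx.2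
    rcases hc.le_iff.mp hle with h | h
    · exact hS (le_antisymm hSK (Subgroup.subgroupOf_eq_top.mp h) ▸ hK)
    · -- the stabiliser of S moves p
      set b : Fin (2 * m) := ⟨1, by omega⟩
      have hb : b ∈ S := show 1 < m by omega
      have hg : Equiv.swap p b ∈ MulAction.stabilizer (Equiv.Perm (Fin (2 * m))) S := by
        rw [MulAction.mem_stabilizer_iff]
        refine Set.eq_of_subset_of_ncard_le ?_ (by rw [Set.ncard_smul_set]) (Set.toFinite _)
        rintro _ ⟨x, hx, rfl⟩
        show Equiv.swap p b x ∈ S
        rw [Equiv.swap_apply_def]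
        split_ifs <;> assumption
      have hgH : (⟨Equiv.swap p b, hSK hg⟩ : K) ∈ H.subgroupOf K := by rw [← h]; exact hg
      have : Equiv.swap p b • p = p := hgH.1
      rw [show Equiv.swap p b • p = b from Equiv.swap_apply_left _ _] at this
      exact absurd (congrArg Fin.val this) (by simp [b, hp])

end Cfsg.Agent.S5894
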