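import Cfsg.Statements.S5895


set_option autoImplicit false
open Cfsg

namespace Cfsg.Agent.S5895

section
variable {k : Type*} [Field k] {V : Type*} [AddCommGroup V] [Module k V] [FiniteDimensional k V]

/-- A linear automorphism fixing `e` and sending `u` to `u'`, both outside the span of `e`. -/
theorem exists_linearEquiv_map {e u u' : V} (hu : u ∉ Submodule.span k {e})
    (hu' : u' ∉ Submodule.span k {e}) : ∃ A : V ≃ₗ[k] V, A e = e ∧ A u = u' := by
  obtain ⟨φ₁, h1, h1'⟩ := Submodule.exists_dual_map_eq_bot_of_notMem hu inferInstance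
  obtain ⟨φ₂, h2, h2'⟩ := Submodule.exists_dual_map_eq_bot_of_notMem hu' inferInstance
  have e1 : φ₁ e = 0 := by
    have : φ₁ e ∈ (Submodule.span k {e}).map φ₁ := ⟨e, Submodule.mem_span_singleton_self e, rfl⟩
    rwa [h1', Submodule.mem_bot] at this
  have e2 : φ₂ e = 0 := by
    have : φ₂ e ∈ (Submodule.span k {e}).map φ₂ := ⟨e, Submodule.mem_span_singleton_self e, rfl⟩
    rwa [h2', Submodule.mem_bot] at this
  obtain ⟨ψ, he, hψu, hψu'⟩ : ∃ ψ : V →ₗ[k] k, ψ e = 0 ∧ ψ u ≠ 0 ∧ ψ u' ≠ 0 := by
    by_cases ha : φ₁ u' = 0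
    · by_cases hb : φ₂ u = 0
      · exact ⟨φ₁ + φ₂, by simp [e1, e2], by simpa [hb] using h1, by simpa [ha] using h2⟩
      · exact ⟨φ₂, e2, hb, h2⟩
    · exact ⟨φ₁, e1, h1, ha⟩
  let φ : V →ₗ[k] k := (ψ u)⁻¹ • ψ
  have hφu : φ u = 1 := by simp [φ, inv_mul_cancel₀ hψu]
  have hφu' : φ u' ≠ 0 := by simp [φ, hψu, hψu']
  let T : V →ₗ[k] V := LinearMap.id + φ.smulRight (u' - u)
  have hT : Function.Injective T := by
    rw [← LinearMap.ker_eq_bot, eq_bot_iff]
    intro x hx
    rw [LinearMap.mem_ker] at hx
    have hx' : x + φ x • (u' - u) = 0 := hx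
    have h := congrArg φ hx'
    rw [map_add, map_smul, map_sub, hφu, map_zero, smul_eq_mul] at h
    have h0 : φ x * φ u' = 0 := by linear_combination h
    rw [(mul_eq_zero.mp h0).resolve_right hφu', zero_smul, add_zero] at hx'
    exact hx'
  refine ⟨LinearEquiv.ofInjectiveEndo T hT, ?_, ?_⟩
  · rw [LinearEquiv.coe_ofInjectiveEndo]
    show e + φ e • (u' - u) = e
    simp [φ, he]
  · rw [LinearEquiv.coe_ofInjectiveEndo]
    show u + φ u • (u' - u) = u'
    rw [hφu, one_smul, add_sub_cancel]

variable (k) in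
/-- Affine maps fixing the origin. -/
def originStab : Subgroup (V ≃ᵃ[k] V) where
  carrier := {g | g 0 = 0}
  one_mem' := rfl
  mul_mem' {g h} hg hh := by
    show g (h 0) = 0
    rw [show h 0 = 0 from hh]; exact hg
  inv_mem' {g} hg := by
    show g.symm 0 = 0
    apply g.injective
    rw [AffineEquiv.apply_symm_apply]; exact (show g 0 = 0 from hg).symm

theorem linear_mem_span {A : V ≃ₗ[k] V} {e : V} (h : A e ∈ Submodule.span k {e}) {x : V}
    (hx : x ∈ Submodule.span k {e}) : A x ∈ Submodule.span k {e} := by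
  obtain ⟨c, rfl⟩ := Submodule.mem_span_singleton.mp hx
  rw [map_smul]; exact Submodule.smul_mem _ c h

theorem linear_symm_mem_span {A : V ≃ₗ[k] V} {e : V} (h : A e ∈ Submodule.span k {e}) {x : V}
    (hx : x ∈ Submodule.span k {e}) : A.symm x ∈ Submodule.span k {e} := by
  refine linear_mem_span ?_ hx
  obtain ⟨c, hc⟩ := Submodule.mem_span_singleton.mp h
  by_cases hc0 : c = 0
  · rw [hc0, zero_smul] at hc
    have : e = 0 := A.injective (hc.symm.trans (map_zero A).symm)
    simp [this]
  · refine Submodule.mem_span_singleton.mpr ⟨c⁻¹, A.injective ?_⟩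
    rw [map_smul, ← hc, smul_smul, inv_mul_cancel₀ hc0, one_smul, LinearEquiv.apply_symm_apply]

/-- Affine maps whose linear part fixes the line of `e`. -/
def lineStab (e : V) : Subgroup (V ≃ᵃ[k] V) where
  carrier := {g | g.linear e ∈ Submodule.span k {e}}
  one_mem' := Submodule.mem_span_singleton_self e
  mul_mem' {g h} hg hh := linear_mem_span (A := g.linear) hg (hh : h.linear e ∈ _)
  inv_mem' {g} hg := linear_symm_mem_span (A := g.linear) hg (Submodule.mem_span_singleton_self e)

theorem apply_eq_add (g : V ≃ᵃ[k] V) (x : V) : g x = g.linear x + g 0 := by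
  have := g.map_vadd 0 x
  simpa using this

/-- Affine maps mapping the line of `e` through the origin to itself. -/
def lineSetStab (e : V) : Subgroup (V ≃ᵃ[k] V) where
  carrier := {g | g.linear e ∈ Submodule.span k {e} ∧ g 0 ∈ Submodule.span k {e}}
  one_mem' := ⟨Submodule.mem_span_singleton_self e, zero_mem _⟩
  mul_mem' {g h} hg hh := by
    refine ⟨(lineStab e).mul_mem hg.1 hh.1, ?_⟩
    show g (h 0) ∈ _
    rw [apply_eq_add]
    exact add_mem (linear_mem_span hg.1 hh.2) hg.2
  inv_mem' {g} hg := by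
    refine ⟨(lineStab e).inv_mem hg.1, ?_⟩
    show g.symm 0 ∈ _
    have h1 : g.linear (g.symm 0) = -g 0 := by
      rw [eq_neg_iff_add_eq_zero, ← apply_eq_add, AffineEquiv.apply_symm_apply]
    have h2 : g.symm 0 = g.linear.symm (-g 0) := by rw [← h1, LinearEquiv.symm_apply_apply]
    rw [h2]
    exact linear_symm_mem_span hg.1 (neg_mem hg.2)

end

/-- For every prime p and every d ≥ 2 there is a finite group G with a maximal subgroup M of index p^d and a maximal subgroup H of M that is not second maximal in G: some maximal subgroup K of G contains H without H being maximal in K. (One may take G the affine group V ⋊ GL(V) of V = 𝔽_p^d, M = GL(V), H the stabiliser in M of a line W of V, and K = V ⋊ H, with H < W ⋊ H < K.) So the prime-index hypothesis in the second-maximality criterion cannot be relaxed to prime-power index. -/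
theorem result (p d : ℕ) (hp : p.Prime)
    (hd : 2 ≤ d) :
    ∃ (G : Type) (_ : Group G) (_ : Finite G) (M H K : Subgroup G), IsCoatom M ∧ M.index = p ^ d ∧ H ≤ M ∧
      IsCoatom (H.subgroupOf M) ∧ IsCoatom K ∧ H ≤ K ∧ ¬ IsCoatom (H.subgroupOf K) := by
  classical
  haveI : Fact p.Prime := ⟨hp⟩
  let V := Fin d → ZMod p
  let G := V ≃ᵃ[ZMod p] V
  let e : V := Pi.single ⟨0, by omega⟩ 1
  let e' : V := Pi.single ⟨1, by omega⟩ 1
  have he0 : e ≠ 0 := fun h => by
    have h' := congrFun h ⟨0, by omega⟩
    simp only [e, Pi.single_eq_same] at h'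
    exact one_ne_zero h' 
  have he' : e' ∉ Submodule.span (ZMod p) {e} := fun h => by
    obtain ⟨c, hc⟩ := Submodule.mem_span_singleton.mp h
    have := congrFun hc ⟨1, by omega⟩
    change c * (Pi.single (⟨0, by omega⟩ : Fin d) (1 : ZMod p) : V) ⟨1, by omega⟩ = (Pi.single (⟨1, by omega⟩ : Fin d) (1 : ZMod p) : V) ⟨1, by omega⟩ at this
    rw [Pi.single_eq_of_ne (by simp [Fin.ext_iff]), mul_zero, Pi.single_eq_same] at this
    exact zero_ne_one this
  have : Finite G := Finite.of_injective (fun g : G => (g : V → V)) DFunLike.coe_injective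
  let M : Subgroup G := originStab (ZMod p)
  let K1 : Subgroup G := lineStab e
  let K2 : Subgroup G := lineSetStab e
  let H : Subgroup G := M ⊓ K1
  have hlin : ∀ A : V ≃ₗ[ZMod p] V, A.toAffineEquiv ∈ M := fun A => map_zero A
  obtain ⟨A, -, hA⟩ := exists_linearEquiv_map (k := ZMod p) (e := (0 : V)) (u := e) (u' := e')
    (by simpa using he0) (by simpa using fun h : e' = 0 => he' (by rw [h]; exact zero_mem _))
  have hAe : A.toAffineEquiv ∉ K1 := fun h => he' (hA ▸ h)
  have hK1 : K1 ≠ ⊤ := fun h => hAe (h ▸ Subgroup.mem_top _)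
  obtain ⟨K, hK, hK1K⟩ := (eq_top_or_exists_le_coatom K1).resolve_left hK1
  have hK2K1 : K2 ≤ K1 := fun g hg => hg.1
  have hHK2 : H ≤ K2 := fun g hg => ⟨hg.2, by rw [show g 0 = 0 from hg.1]; exact zero_mem _⟩
  refine ⟨G, inferInstance, inferInstance, M, H, K, ?_, ?_, inf_le_left, ?_, hK, ?_, ?_⟩
  · refine ⟨fun h => ?_, fun L hL => ?_⟩
    · have : AffineEquiv.constVAdd (ZMod p) V e ∈ M := h ▸ Subgroup.mem_top _
      have h' : AffineEquiv.constVAdd (ZMod p) V e 0 = 0 := this
      exact he0 (by simpa using h')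
    · obtain ⟨g, hgL, hgM⟩ := SetLike.exists_of_lt hL
      have hv : g 0 ≠ 0 := hgM
      rw [eq_top_iff]
      intro h _
      by_cases hh : h 0 = 0
      · exact hL.le hh
      obtain ⟨B, -, hB⟩ := exists_linearEquiv_map (k := ZMod p) (e := (0 : V)) (u := g 0) (u' := h 0)
        (by simpa using hv) (by simpa using hh)
      set x : G := B.toAffineEquiv * g with hx
      have hxL : x ∈ L := L.mul_mem (hL.le (hlin B)) hgL
      have : x⁻¹ * h ∈ M := by
        show x.symm (h 0) = 0
        apply x.injective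
        rw [AffineEquiv.apply_symm_apply]
        exact hB.symm
      have := L.mul_mem hxL (hL.le this)
      rwa [mul_inv_cancel_left] at this
  · let f : G ⧸ M → V := fun q => Quotient.liftOn' q (fun g : G => g 0) (fun a b hab => by
        rw [QuotientGroup.leftRel_apply] at hab
        have h : a.symm (b 0) = 0 := hab
        show a 0 = b 0
        rw [← h, AffineEquiv.apply_symm_apply, h])
    have hf : Function.Bijective f := by
      refine ⟨fun a b => ?_, fun v => ⟨QuotientGroup.mk (AffineEquiv.constVAdd (ZMod p) V v), ?_⟩⟩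
      · induction a using QuotientGroup.induction_on with
        | H a =>
          induction b using QuotientGroup.induction_on with
          | H b =>
            intro h
            change a 0 = b 0 at h
            rw [QuotientGroup.eq]
            show a.symm (b 0) = 0
            rw [← h, AffineEquiv.symm_apply_apply]
      · show AffineEquiv.constVAdd (ZMod p) V v 0 = v
        simp
    rw [Subgroup.index_eq_card, Nat.card_congr (Equiv.ofBijective f hf)]
    simp [V, Nat.card_fun]
  · refine ⟨fun h => ?_, fun L hL => ?_⟩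
    · rw [Subgroup.subgroupOf_eq_top] at h
      exact hAe (h (hlin A)).2
    · obtain ⟨g, hgL, hgH⟩ := SetLike.exists_of_lt hL
      have hu : g.1.linear e ∉ Submodule.span (ZMod p) {e} := fun h => hgH ⟨g.2, h⟩
      rw [eq_top_iff]
      intro h _
      by_cases hh : h.1.linear e ∈ Submodule.span (ZMod p) {e}
      · exact hL.le ⟨h.2, hh⟩
      obtain ⟨B, hBe, hB⟩ := exists_linearEquiv_map hu hh
      let b : M := ⟨B.toAffineEquiv, hlin B⟩
      have hbL : b ∈ L := hL.le ⟨hlin B, show B e ∈ Submodule.span (ZMod p) {e} by rw [hBe]; exact Submodule.mem_span_singleton_self e⟩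
      set x : M := b * g with hx
      have hxL : x ∈ L := L.mul_mem hbL hgL
      have : x⁻¹ * h ∈ H.subgroupOf M := by
        refine ⟨(x⁻¹ * h).2, ?_⟩
        show ((x.1⁻¹ * h.1 : G)).linear e ∈ Submodule.span (ZMod p) {e}
        show x.1.linear.symm (h.1.linear e) ∈ _
        have hxe : x.1.linear e = h.1.linear e := hB
        rw [← hxe, LinearEquiv.symm_apply_apply]
        exact Submodule.mem_span_singleton_self e
      have := L.mul_mem hxL (hL.le this)
      rwa [mul_inv_cancel_left] at this
  · exact hHK2.trans (hK2K1.trans hK1K)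
  · intro hc
    have ht : ∀ v : V, AffineEquiv.constVAdd (ZMod p) V v ∈ K1 := fun v =>
      show e ∈ _ from Submodule.mem_span_singleton_self e
    have h0 : ∀ v : V, AffineEquiv.constVAdd (ZMod p) V v 0 = v := fun v => by simp
    have hlt : H.subgroupOf K < K2.subgroupOf K := by
      refine SetLike.lt_iff_le_and_exists.mpr ⟨Subgroup.comap_mono hHK2,
        (⟨_, hK1K (ht e)⟩ : K), ?_, ?_⟩
      · refine Subgroup.mem_subgroupOf.mpr ⟨ht e, ?_⟩
        show AffineEquiv.constVAdd (ZMod p) V e 0 ∈ _
        rw [h0]; exact Submodule.mem_span_singleton_self e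
      · intro hm
        obtain ⟨h, -⟩ := Subgroup.mem_subgroupOf.mp hm
        exact he0 ((h0 e).symm.trans h)
    have := hc.2 _ hlt
    rw [Subgroup.subgroupOf_eq_top] at this
    have h2 := (this (hK1K (ht e'))).2
    rw [h0] at h2
    exact he' h2

end Cfsg.Agent.S5895
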