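import Cfsg.Statements.S5896


set_option autoImplicit false
open Cfsg

namespace Cfsg.Agent.S5896

open Matrix

instance factPrimeFive : Fact (Nat.Prime 5) := ⟨Nat.prime_five⟩

section
variable {R : Type*} [CommRing R]

/-- Upper elementary matrix. -/
def ex (b : R) : Matrix.SpecialLinearGroup (Fin 2) R := ⟨!![1, b; 0, 1], by simp [det_fin_two]⟩

/-- Lower elementary matrix. -/
def ey (b : R) : Matrix.SpecialLinearGroup (Fin 2) R := ⟨!![1, 0; b, 1], by simp [det_fin_two]⟩

/-- Diagonal matrix. -/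
def eh (u : Rˣ) : Matrix.SpecialLinearGroup (Fin 2) R :=
  ⟨!![(u : R), 0; 0, ((u⁻¹ : Rˣ) : R)], by simp [det_fin_two]⟩

theorem ex_val (b : R) : (ex b).1 = !![1, b; 0, 1] := rfl
theorem ey_val (b : R) : (ey b).1 = !![1, 0; b, 1] := rfl
theorem mul_val (A B : Matrix.SpecialLinearGroup (Fin 2) R) : (A * B).1 = A.1 * B.1 := rfl
theorem eh_val (u : Rˣ) : (eh u).1 = !![(u : R), 0; 0, ((u⁻¹ : Rˣ) : R)] := rfl

theorem ext4 {A B : Matrix.SpecialLinearGroup (Fin 2) R} (h00 : A.1 0 0 = B.1 0 0) (h01 : A.1 0 1 = B.1 0 1)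
    (h10 : A.1 1 0 = B.1 1 0) (h11 : A.1 1 1 = B.1 1 1) : A = B := by
  apply Matrix.SpecialLinearGroup.ext
  intro i j; fin_cases i <;> fin_cases j <;> assumption

theorem ex_inv (b : R) : (ex b)⁻¹ = ex (-b) := by
  apply inv_eq_of_mul_eq_one_right
  apply ext4 <;> simp [ex_val, mul_val, mul_apply, Fin.sum_univ_two]

theorem ey_inv (b : R) : (ey b)⁻¹ = ey (-b) := by
  apply inv_eq_of_mul_eq_one_right
  apply ext4 <;> simp [ey_val, mul_val, mul_apply, Fin.sum_univ_two]

theorem comm_h_x (u : Rˣ) (b : R) :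
    eh u * ex b * (eh u)⁻¹ * (ex b)⁻¹ = ex (((u : R) * u - 1) * b) := by
  rw [mul_inv_eq_iff_eq_mul, mul_inv_eq_iff_eq_mul]
  apply ext4 <;> simp [eh_val, ex_val, mul_val, mul_apply, Fin.sum_univ_two]
  have := Units.mul_inv u
  linear_combination (-(u : R) * b) * this

theorem comm_h_y (u : Rˣ) (b : R) :
    eh u * ey b * (eh u)⁻¹ * (ey b)⁻¹ = ey ((((u⁻¹ : Rˣ) : R) * (u⁻¹ : Rˣ) - 1) * b) := by
  rw [mul_inv_eq_iff_eq_mul, mul_inv_eq_iff_eq_mul]
  apply ext4 <;> simp [eh_val, ey_val, mul_val, mul_apply, Fin.sum_univ_two]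
  have := Units.mul_inv u
  linear_combination (-((u⁻¹ : Rˣ) : R) * b) * this

theorem decomp {g : Matrix.SpecialLinearGroup (Fin 2) R} {u : Rˣ} (hu : g.1 0 0 = (u : R)) :
    g = ey (g.1 1 0 * (u⁻¹ : Rˣ)) * eh u * ex ((u⁻¹ : Rˣ) * g.1 0 1) := by
  have hdet := g.2
  rw [det_fin_two, hu] at hdet
  apply ext4 <;> simp [eh_val, ex_val, ey_val, mul_val, mul_apply, Fin.sum_univ_two, hu, mul_assoc]
  have := Units.mul_inv u
  linear_combination ((u⁻¹ : Rˣ) : R) * hdet - g.1 1 1 * this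

theorem eh_eq (u : Rˣ) :
    eh u = (ex (u : R) * ey (-((u⁻¹ : Rˣ) : R)) * ex (u : R)) * (ex (-1 : R) * ey 1 * ex (-1)) := by
  apply ext4 <;> simp [eh_val, ex_val, ey_val, mul_val, mul_apply, Fin.sum_univ_two]

theorem mem_of_elementary (L : Subgroup (Matrix.SpecialLinearGroup (Fin 2) R))
    (hx : ∀ b, ex b ∈ L) (hy : ∀ b, ey b ∈ L) (hloc : ∀ a : R, IsUnit a ∨ ∀ b, IsUnit b → IsUnit (a + b))
    (g : Matrix.SpecialLinearGroup (Fin 2) R) (hg : IsUnit (g.1 0 0) ∨ IsUnit (g.1 1 0)) : g ∈ L := by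
  have main : ∀ g : Matrix.SpecialLinearGroup (Fin 2) R, IsUnit (g.1 0 0) → g ∈ L := by
    intro g hg
    obtain ⟨u, hu⟩ := hg
    rw [decomp hu.symm, eh_eq u]
    exact mul_mem (mul_mem (hy _) (mul_mem (mul_mem (mul_mem (hx _) (hy _)) (hx _))
      (mul_mem (mul_mem (hx _) (hy _)) (hx _)))) (hx _)
  rcases hg with hg | hg
  · exact main g hg
  rcases hloc (g.1 0 0) with h0 | h0
  · exact main g h0
  have h1 : ex 1 * g ∈ L := main _ (by
    have : (ex 1 * g).1 0 0 = g.1 0 0 + g.1 1 0 := by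
      simp [ex_val, mul_val, mul_apply, Fin.sum_univ_two]
    rw [this]
    exact h0 _ hg)
  exact ((Subgroup.mul_mem_cancel_left L (hx 1)).mp h1)

end

section
variable (N : ℕ) [NeZero N]

/-- Reduction modulo five. -/
def red : ZMod (5 ^ N) →+* ZMod 5 := ZMod.castHom (dvd_pow_self 5 (NeZero.ne N)) (ZMod 5)

theorem red_eq (a : ZMod (5 ^ N)) : red N a = (a.val : ZMod 5) := by
  conv_lhs => rw [← ZMod.natCast_zmod_val a]
  rw [map_natCast]

theorem isUnit_of_red {a : ZMod (5 ^ N)} (h : red N a ≠ 0) : IsUnit a := by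
  rw [← ZMod.natCast_zmod_val a, ZMod.isUnit_iff_coprime]
  apply Nat.Coprime.pow_right
  rw [Nat.coprime_comm, Nat.Prime.coprime_iff_not_dvd Nat.prime_five, ← ZMod.natCast_eq_zero_iff]
  rwa [← red_eq]

theorem red_unit {a : ZMod (5 ^ N)} (h : IsUnit a) : red N a ≠ 0 := (h.map (red N)).ne_zero

theorem red_eq_zero {a : ZMod (5 ^ N)} (h : red N a = 0) : ∃ b, a = 5 * b := by
  rw [red_eq, ZMod.natCast_eq_zero_iff] at h
  obtain ⟨k, hk⟩ := h
  exact ⟨(k : ZMod (5 ^ N)), by rw [← ZMod.natCast_zmod_val a, hk, Nat.cast_mul]; norm_num⟩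

theorem local_dichotomy (a : ZMod (5 ^ N)) : IsUnit a ∨ ∀ b, IsUnit b → IsUnit (a + b) := by
  by_cases h : red N a = 0
  · exact Or.inr fun b hb => isUnit_of_red N (by rw [map_add, h, zero_add]; exact red_unit N hb)
  · exact Or.inl (isUnit_of_red N h)

/-- The matrices which are upper triangular modulo five. -/
def borelMod : Subgroup (Matrix.SpecialLinearGroup (Fin 2) (ZMod (5 ^ N))) where
  carrier := {g | red N (g.1 1 0) = 0}
  one_mem' := by simp
  mul_mem' {a b} ha hb := by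
    have ha' : red N (a.1 1 0) = 0 := ha
    have hb' : red N (b.1 1 0) = 0 := hb
    show red N ((a * b).1 1 0) = 0
    simp [mul_val, mul_apply, Fin.sum_univ_two, ha', hb']
  inv_mem' {a} ha := by
    have ha' : red N (a.1 1 0) = 0 := ha
    show red N ((a⁻¹).1 1 0) = 0
    simp [Matrix.SpecialLinearGroup.coe_inv, adjugate_fin_two, ha']

theorem ex_mem_borelMod (b : ZMod (5 ^ N)) : ex b ∈ borelMod N := show red N _ = 0 by simp [ex_val]

theorem lower_mem_of_borelMod_lt {L : Subgroup (Matrix.SpecialLinearGroup (Fin 2) (ZMod (5 ^ N)))}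
    (hL : borelMod N < L) : ∀ b, ey b ∈ L := by
  obtain ⟨g, hgL, hgH⟩ := SetLike.exists_of_lt hL
  have hgu : IsUnit (g.1 1 0) := isUnit_of_red N hgH
  obtain ⟨c, hc⟩ := hgu
  set w : Matrix.SpecialLinearGroup (Fin 2) (ZMod (5 ^ N)) := ex (-(g.1 0 0 * (c⁻¹ : (ZMod (5 ^ N))ˣ))) * g * ex (-((c⁻¹ : (ZMod (5 ^ N))ˣ) * g.1 1 1)) with hw
  have hwL : w ∈ L := mul_mem (mul_mem (hL.le (ex_mem_borelMod N _)) hgL) (hL.le (ex_mem_borelMod N _))
  have hw00 : w.1 0 0 = 0 := by
    simp [hw, ex_val, mul_val, mul_apply, Fin.sum_univ_two, vecMul, dotProduct, ← hc, mul_assoc]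
  have hw10 : w.1 1 0 = c := by
    simp [hw, ex_val, mul_val, mul_apply, Fin.sum_univ_two, vecMul, dotProduct, ← hc]
  have hw11 : w.1 1 1 = 0 := by
    simp [hw, ex_val, mul_val, mul_apply, Fin.sum_univ_two, vecMul, dotProduct, ← hc]
  have hdet := w.2
  rw [det_fin_two, hw00, hw10, hw11, zero_mul, zero_sub] at hdet
  have hw01 : w.1 0 1 = -((c⁻¹ : (ZMod (5 ^ N))ˣ) : ZMod (5 ^ N)) := by
    have := Units.mul_inv c
    linear_combination (-((c⁻¹ : (ZMod (5 ^ N))ˣ) : ZMod (5 ^ N))) * hdet - w.1 0 1 * this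
  intro b
  have hmul : ey b * w = w * ex (-(b * (c⁻¹ : (ZMod (5 ^ N))ˣ) * (c⁻¹ : (ZMod (5 ^ N))ˣ))) := by
    apply ext4 <;> simp [ey_val, ex_val, mul_val, mul_apply, Fin.sum_univ_two, hw00, hw10, hw11, hw01]
    have := Units.mul_inv c
    linear_combination (-(b * ((c⁻¹ : (ZMod (5 ^ N))ˣ) : ZMod (5 ^ N)))) * this
  have : ey b * w ∈ L := hmul ▸ mul_mem hwL (hL.le (ex_mem_borelMod N _))
  exact (Subgroup.mul_mem_cancel_right L hwL).mp this
theorem pow_five_step {M : Type*} [Ring M] (e : ℕ) (Y : M) :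
    ∃ Z : M, (1 + ((5 * e : ℕ) : M) * Y) ^ 5 = 1 + ((5 * (5 * e) : ℕ) : M) * Z := by
  obtain ⟨q, hq⟩ : ∃ q : Polynomial ℤ, (1 + ((5 * e : ℕ) : Polynomial ℤ) * Polynomial.X) ^ 5 =
      1 + ((5 * (5 * e) : ℕ) : Polynomial ℤ) * q :=
    ⟨Polynomial.X + ((10 * e : ℕ) : Polynomial ℤ) * Polynomial.X ^ 2
      + ((50 * e ^ 2 : ℕ) : Polynomial ℤ) * Polynomial.X ^ 3
      + ((125 * e ^ 3 : ℕ) : Polynomial ℤ) * Polynomial.X ^ 4
      + ((125 * e ^ 4 : ℕ) : Polynomial ℤ) * Polynomial.X ^ 5, by push_cast; ring⟩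
  refine ⟨Polynomial.aeval Y q, ?_⟩
  have := congrArg (Polynomial.aeval Y) hq
  simpa [map_pow, map_ofNat, map_natCast] using this

theorem pow_eq_one_of_congr_one (g : Matrix.SpecialLinearGroup (Fin 2) (ZMod (5 ^ N)))
    (hg : ∀ i j, red N (g.1 i j) = red N ((1 : Matrix (Fin 2) (Fin 2) (ZMod (5 ^ N))) i j)) :
    g ^ (5 ^ N) = 1 := by
  have key : ∀ k, ∃ Y : Matrix (Fin 2) (Fin 2) (ZMod (5 ^ N)),
      (g.1) ^ (5 ^ k) = 1 + ((5 * 5 ^ k : ℕ) : Matrix (Fin 2) (Fin 2) (ZMod (5 ^ N))) * Y := by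
    intro k
    induction k with
    | zero =>
      have : ∀ i j, ∃ b, g.1 i j - (1 : Matrix (Fin 2) (Fin 2) (ZMod (5 ^ N))) i j = 5 * b :=
        fun i j => red_eq_zero N (by rw [map_sub, hg, sub_self])
      choose Y hY using this
      refine ⟨Matrix.of Y, ?_⟩
      ext i j
      rw [pow_zero, pow_one, mul_one, Matrix.add_apply, ← nsmul_eq_mul, Matrix.smul_apply, nsmul_eq_mul,
        Matrix.of_apply]
      push_cast
      linear_combination hY i j
    | succ k ih =>
      obtain ⟨Y, hY⟩ := ih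
      obtain ⟨Z, hZ⟩ := pow_five_step (5 ^ k) Y
      exact ⟨Z, by rw [pow_succ, pow_mul, hY, hZ, mul_comm (5 ^ k) 5]⟩
  obtain ⟨Y, hY⟩ := key N
  apply Subtype.ext
  rw [Matrix.SpecialLinearGroup.coe_pow, hY]
  simp

theorem isSolvable_borelMod : Group.IsSolvable (borelMod N) := by
  classical
  have h10 : ∀ g : borelMod N, red N (g.1.1 1 0) = 0 := fun g => g.2
  let χ₀ : borelMod N →* ZMod 5 :=
    { toFun := fun g => red N (g.1.1 0 0)
      map_one' := by simp
      map_mul' := fun a b => by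
        simp [mul_val, mul_apply, Fin.sum_univ_two, h10] }
  let χ := χ₀.toHomUnits
  have hker : ∀ g : χ.ker, red N (g.1.1.1 0 0) = 1 ∧ red N (g.1.1.1 1 1) = 1 := by
    intro g
    have h0 : red N (g.1.1.1 0 0) = 1 := congrArg Units.val g.2
    refine ⟨h0, ?_⟩
    have hdet := congrArg (red N) g.1.1.2
    rw [det_fin_two] at hdet
    simpa [h0, h10] using hdet
  let η : χ.ker →* Multiplicative (ZMod 5) :=
    { toFun := fun g => Multiplicative.ofAdd (red N (g.1.1.1 0 1))
      map_one' := by simp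
      map_mul' := fun a b => by
        rw [← ofAdd_add]
        simp [mul_val, mul_apply, Fin.sum_univ_two, hker, add_comm] }
  have hη : IsPGroup 5 η.ker := by
    intro g
    refine ⟨N, Subtype.ext (Subtype.ext (Subtype.ext (pow_eq_one_of_congr_one N g.1.1.1 ?_)))⟩
    have h01 : red N (g.1.1.1.1 0 1) = 0 := Multiplicative.ofAdd.injective g.2
    intro i j
    fin_cases i <;> fin_cases j <;> simp [hker g.1, h10 g.1.1, h01]
  haveI : Group.IsNilpotent η.ker := hη.isNilpotent
  haveI : Group.IsSolvable η.ker := inferInstance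
  haveI : Group.IsSolvable χ.ker :=
    Group.isSolvable_of_ker_le_range η.ker.subtype η (by rw [Subgroup.range_subtype])
  exact Group.isSolvable_of_ker_le_range χ.ker.subtype χ (by rw [Subgroup.range_subtype])

end

/-- Finite perfect groups have solvable maximal subgroups of unbounded derived length: for every d there is a finite perfect group G (equal to its commutator subgroup) with a solvable maximal subgroup H whose derived length exceeds d, i.e. the d-th term of the derived series of H is non-trivial. (Take the derived subgroup of a wreath product S ≀ A₅ with S solvable of large derived length, and H the preimage of a maximal subgroup of A₅.) -/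
theorem result (d : ℕ) :
    ∃ (G : Type) (_ : Group G) (_ : Finite G) (H : Subgroup G), commutator G = ⊤ ∧ IsCoatom H ∧ Group.IsSolvable H ∧
      derivedSeries H d ≠ ⊥ := by
  classical
  let N := 2 ^ d + 1
  haveI : NeZero N := ⟨Nat.succ_ne_zero _⟩
  let R := ZMod (5 ^ N)
  let G := Matrix.SpecialLinearGroup (Fin 2) R
  have htop : ∀ L : Subgroup G, (∀ b, ex b ∈ L) → (∀ b, ey b ∈ L) → L = ⊤ := by
    intro L hx hy
    rw [eq_top_iff]
    intro g _
    refine mem_of_elementary L hx hy (local_dichotomy N) g ?_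
    by_contra hc
    push Not at hc
    have hdet := congrArg (red N) g.2
    rw [det_fin_two] at hdet
    have h0 : red N (g.1 0 0) = 0 := by_contra fun h => hc.1 (isUnit_of_red N h)
    have h1 : red N (g.1 1 0) = 0 := by_contra fun h => hc.2 (isUnit_of_red N h)
    simp [h0, h1] at hdet
  have hborelx : ∀ b : R, ex b ∈ borelMod N := fun b => show red N _ = 0 by simp [ex_val]
  have hborelh : ∀ u : Rˣ, eh u ∈ borelMod N := fun u => show red N _ = 0 by simp [eh_val]
  refine ⟨G, inferInstance, inferInstance, borelMod N, ?_, ?_, isSolvable_borelMod N, ?_⟩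
  · have h2u : IsUnit (2 : R) := isUnit_of_red N (by rw [map_ofNat]; decide)
    obtain ⟨u, hu⟩ := h2u
    apply htop
    · intro b
      obtain ⟨w, hw⟩ : IsUnit ((u : R) * u - 1) := isUnit_of_red N (by rw [map_sub, map_mul, hu, map_ofNat, map_one]; decide)
      have : ex b = eh u * ex ((w⁻¹ : Rˣ) * b) * (eh u)⁻¹ * (ex ((w⁻¹ : Rˣ) * b))⁻¹ := by
        rw [comm_h_x, ← hw, Units.mul_inv_cancel_left]
      rw [this]
      exact Subgroup.commutator_mem_commutator (Subgroup.mem_top _) (Subgroup.mem_top _)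
    · intro b
      have hinv : red N ((u⁻¹ : Rˣ) : R) = 3 := by
        have := congrArg (red N) (Units.mul_inv u)
        rw [map_mul, map_one, hu, map_ofNat] at this
        have key : ∀ z : ZMod 5, 2 * z = 1 → z = 3 := by decide
        exact key _ this
      obtain ⟨w, hw⟩ : IsUnit (((u⁻¹ : Rˣ) : R) * (u⁻¹ : Rˣ) - 1) :=
        isUnit_of_red N (by rw [map_sub, map_mul, hinv, map_one]; decide)
      have : ey b = eh u * ey ((w⁻¹ : Rˣ) * b) * (eh u)⁻¹ * (ey ((w⁻¹ : Rˣ) * b))⁻¹ := by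
        rw [comm_h_y, ← hw, Units.mul_inv_cancel_left]
      rw [this]
      exact Subgroup.commutator_mem_commutator (Subgroup.mem_top _) (Subgroup.mem_top _)
  · refine ⟨fun h => ?_, fun L hL => ?_⟩
    · have h1 : red N ((ey (1 : R)).1 1 0) = 0 := (h ▸ Subgroup.mem_top _ : ey (1 : R) ∈ borelMod N)
      simp [ey_val] at h1
    · exact htop L (fun b => hL.le (hborelx b)) (lower_mem_of_borelMod_lt N hL)
  · have hfive : red N (5 : R) = 0 := by rw [map_ofNat]; decide
    have hy : ∀ b : R, red N b = 0 → ey b ∈ borelMod N := fun b hb => show red N _ = 0 by simpa [ey_val] using hb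
    let D := derivedSeries (borelMod N)
    let E : ℕ → Subgroup G := fun j => (D j).map (borelMod N).subtype
    have hcomm : ∀ j, ∀ a ∈ E j, ∀ b ∈ E j, a * b * a⁻¹ * b⁻¹ ∈ E (j + 1) := by
      rintro j _ ⟨a, ha, rfl⟩ _ ⟨b, hb, rfl⟩
      refine ⟨a * b * a⁻¹ * b⁻¹, ?_, by simp⟩
      show a * b * a⁻¹ * b⁻¹ ∈ derivedSeries (borelMod N) (j + 1)
      rw [derivedSeries_succ]
      exact Subgroup.commutator_mem_commutator ha hb
    have key : ∀ j, (∀ s : R, ex (5 ^ (2 ^ j) * s) ∈ E j) ∧ (∀ s : R, ey (5 ^ (2 ^ j) * s) ∈ E j) ∧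
        ∃ u : Rˣ, eh u ∈ E j ∧ ∃ w : Rˣ, (u : R) * u - 1 = 5 ^ (2 ^ j) * w := by
      intro j
      induction j with
      | zero =>
        have hmem : ∀ g : G, g ∈ borelMod N → g ∈ E 0 := fun g hg => ⟨⟨g, hg⟩, by
          show _ ∈ derivedSeries (borelMod N) 0
          rw [derivedSeries_zero]; exact Subgroup.mem_top _, rfl⟩
        obtain ⟨u, hu⟩ : IsUnit (6 : R) := isUnit_of_red N (by rw [map_ofNat]; decide)
        obtain ⟨w, hw⟩ : IsUnit (7 : R) := isUnit_of_red N (by rw [map_ofNat]; decide)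
        refine ⟨fun s => hmem _ (hborelx _), fun s => hmem _ (hy _ ?_), u, hmem _ (hborelh u), w, ?_⟩
        · simp [hfive]
        · rw [hu, hw]; norm_num
      | succ j ih =>
        obtain ⟨hx, hy', u, hu, w, hw⟩ := ih
        set a : R := 5 ^ (2 ^ j) with ha
        have haa : (5 : R) ^ (2 ^ (j + 1)) = a * a := by
          have h2 : 2 ^ (j + 1) = 2 ^ j + 2 ^ j := by omega
          rw [ha, ← pow_add]
          exact congrArg (fun i => (5 : R) ^ i) h2
        rw [haa]
        have X : ∀ s : R, ex (a * a * s) ∈ E (j + 1) := by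
          intro s
          have := hcomm j _ hu _ (hx (((w⁻¹ : Rˣ) : R) * s))
          rw [comm_h_x, hw] at this
          convert this using 2
          have := Units.mul_inv w
          linear_combination (-(a * a * s)) * this
        have Y : ∀ s : R, ey (a * a * s) ∈ E (j + 1) := by
          intro s
          have := hcomm j _ hu _ (hy' (-((u : R) * u * (w⁻¹ : Rˣ) * s)))
          rw [comm_h_y] at this
          convert this using 2
          have h1 := Units.mul_inv w
          have h2 := Units.mul_inv u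
          linear_combination (-((((u⁻¹ : Rˣ) : R) * u) + 1) * (-(a * ((w⁻¹ : Rˣ) : R) * s))) * h2 +
            (-(a * ((w⁻¹ : Rˣ) : R) * s)) * hw - (a * a * s) * h1
        refine ⟨X, Y, ?_⟩
        have hg : ex a * ey a * (ex a)⁻¹ * (ey a)⁻¹ ∈ E (j + 1) := by
          have h1 := hx 1
          have h2 := hy' 1
          rw [mul_one] at h1 h2
          exact hcomm j _ h1 _ h2
        set g := ex a * ey a * (ex a)⁻¹ * (ey a)⁻¹ with hgdef
        have ha0 : red N a = 0 := by rw [ha, map_pow, hfive, zero_pow (by positivity)]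
        have hg00 : g.1 0 0 = 1 + a * a + a * a * (a * a) := by
          simp [hgdef, ex_inv, ey_inv, ex_val, ey_val, mul_val, mul_apply, Fin.sum_univ_two]
          ring
        have hg01 : g.1 0 1 = a * a * (-a) := by
          simp [hgdef, ex_inv, ey_inv, ex_val, ey_val, mul_val, mul_apply, Fin.sum_univ_two]
          ring
        have hg10 : g.1 1 0 = a * a * a := by
          simp [hgdef, ex_inv, ey_inv, ex_val, ey_val, mul_val, mul_apply, Fin.sum_univ_two]
          ring
        obtain ⟨v, hv⟩ : IsUnit (1 + a * a + a * a * (a * a)) := isUnit_of_red N (by simp [ha0])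
        refine ⟨v, ?_, ?_⟩
        · rw [decomp (hg00.trans hv.symm), hg01, hg10, mul_assoc (a * a) a, mul_left_comm _ (a * a)] at hg
          exact (Subgroup.mul_mem_cancel_left _ (Y _)).mp ((Subgroup.mul_mem_cancel_right _ (X _)).mp hg)
        · obtain ⟨w', hw'⟩ : IsUnit (2 + 3 * (a * a) + 2 * (a * a) ^ 2 + (a * a) ^ 3 : R) :=
            isUnit_of_red N (by simp [ha0, map_ofNat]; decide)
          refine ⟨w', ?_⟩
          rw [hv, hw']; ring
    intro hbot
    have h := (key d).1 1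
    have hE : E d = ⊥ := by
      show Subgroup.map (borelMod N).subtype (derivedSeries (borelMod N) d) = ⊥
      rw [hbot, Subgroup.map_bot]
    rw [hE, Subgroup.mem_bot] at h
    have h01 := congrArg (fun g : G => g.1 0 1) h
    simp [ex_val] at h01
    have h5 : ((5 ^ (2 ^ d) : ℕ) : R) = 0 := by push_cast; exact h01
    rw [ZMod.natCast_eq_zero_iff, Nat.pow_dvd_pow_iff_le_right (by norm_num)] at h5
    omega

end Cfsg.Agent.S5896
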