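import Cfsg.Statements.S5902
import Cfsg.Agent.S5901
-- import your own Cfsg.Agent.* helpers here

set_option autoImplicit false
open Cfsg

namespace Cfsg.Agent.S5902

lemma interval_bot {G : Type*} [Group G] (X : Subgroup G) (hK : ComplementedLattice (Subgroup X))
    (Y : Subgroup G) (hYX : Y ≤ X) : ∃ C : Subgroup G, ⊥ ≤ C ∧ C ≤ X ∧ Y ⊔ C = X ∧ Y ⊓ C = ⊥ := by
  obtain ⟨c, hc⟩ := hK.exists_isCompl (Y.subgroupOf X)
  have hinj : Function.Injective X.subtype := X.subtype_injective
  have hY : (Y.subgroupOf X).map X.subtype = Y := by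
    rw [Subgroup.map_subgroupOf_eq_of_le hYX]
  refine ⟨c.map X.subtype, bot_le, Subgroup.map_subtype_le c, ?_, ?_⟩
  · rw [← hY, ← Subgroup.map_sup, hc.sup_eq_top, ← MonoidHom.range_eq_map, Subgroup.range_subtype]
  · rw [← hY, ← Subgroup.map_inf _ _ _ hinj, hc.inf_eq_bot, Subgroup.map_bot]

lemma conj_complement {G : Type*} [Group G] (H : Subgroup G) (g : G)
    (h : ∃ C : Subgroup G, H.map (MulAut.conj g).toMonoidHom ⊔ C = ⊤ ∧ H.map (MulAut.conj g).toMonoidHom ⊓ C = ⊥) :
    ∃ C : Subgroup G, H ⊔ C = ⊤ ∧ H ⊓ C = ⊥ := by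
  obtain ⟨C, h1, h2⟩ := h
  refine ⟨C.comap (MulAut.conj g).toMonoidHom, ?_, ?_⟩
  · apply Subgroup.map_injective (f := (MulAut.conj g).toMonoidHom) (MulAut.conj g).injective
    rw [Subgroup.map_sup, Subgroup.map_comap_eq_self_of_surjective (MulAut.conj g).surjective, h1,
      Subgroup.map_top_of_surjective _ (MulAut.conj g).surjective]
  · apply Subgroup.map_injective (f := (MulAut.conj g).toMonoidHom) (MulAut.conj g).injective
    rw [Subgroup.map_inf _ _ _ (MulAut.conj g).injective,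
      Subgroup.map_comap_eq_self_of_surjective (MulAut.conj g).surjective, h2, Subgroup.map_bot]

/-- Let G be a finite group, X a subgroup whose own subgroup lattice is complemented, and suppose X lies in exactly one maximal subgroup M of G. Then every subgroup H of G not contained in the normal core of M has a complement in the subgroup lattice of G (some C with H ⊔ C = G and H ⊓ C = 1); in particular the subgroup lattice of G modulo the normal core of M is complemented. -/
theorem result {G : Type*} [Group G] [Finite G] (X M : Subgroup G)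
    (hK : ComplementedLattice (Subgroup X))
    (hM : IsCoatom M) (hXM : X ≤ M) (huniq : ∀ M' : Subgroup G, IsCoatom M' → X ≤ M' → M' = M) :
    (∀ H : Subgroup G, ¬ H ≤ M.normalCore → ∃ C : Subgroup G, H ⊔ C = ⊤ ∧ H ⊓ C = ⊥) ∧
    ComplementedLattice (Subgroup (G ⧸ M.normalCore)) := by
  have hX : X ≠ ⊤ := fun h => hM.1 (top_le_iff.mp (h ▸ hXM))
  have part1 : ∀ H : Subgroup G, ¬ H ≤ M.normalCore → ∃ C : Subgroup G, H ⊔ C = ⊤ ∧ H ⊓ C = ⊥ := by
    intro H hH
    obtain ⟨h, hh, hnc⟩ := SetLike.not_le_iff_exists.mp hH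
    obtain ⟨g, hg⟩ : ∃ g : G, g * h * g⁻¹ ∉ M := by
      by_contra hc
      push Not at hc
      exact hnc hc
    refine conj_complement H g (Cfsg.Agent.S5901.result ⊥ X M bot_le hX
      (fun Y _ hY => interval_bot X hK Y hY) hM hXM huniq _ ?_ (inf_bot_eq _))
    exact fun hle => hg (hle ⟨h, hh, rfl⟩)
  refine ⟨part1, ⟨fun a => ?_⟩⟩
  have hsur := QuotientGroup.mk'_surjective M.normalCore
  by_cases ha : a.comap (QuotientGroup.mk' M.normalCore) ≤ M.normalCore
  · refine ⟨⊤, ?_⟩
    have : a = ⊥ := by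
      rw [← Subgroup.map_comap_eq_self_of_surjective hsur a, eq_bot_iff]
      rintro _ ⟨x, hx, rfl⟩
      exact Subgroup.mem_bot.mpr ((QuotientGroup.eq_one_iff x).mpr (ha hx))
    rw [this]
    exact isCompl_bot_top
  obtain ⟨C, h1, h2⟩ := part1 _ ha
  refine ⟨C.map (QuotientGroup.mk' M.normalCore), IsCompl.of_eq ?_ ?_⟩
  · refine le_bot_iff.mp ?_
    rintro _ ⟨hy, ⟨c, hc, rfl⟩⟩
    have : c ∈ a.comap (QuotientGroup.mk' M.normalCore) ⊓ C := ⟨hy, hc⟩
    rw [h2, Subgroup.mem_bot] at this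
    rw [this, map_one]
    exact one_mem _
  · rw [← Subgroup.map_comap_eq_self_of_surjective hsur a, ← Subgroup.map_sup, h1,
      Subgroup.map_top_of_surjective _ hsur]

end Cfsg.Agent.S5902
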