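import Cfsg.Statements.S5903
import Cfsg.Agent.S5901
import Cfsg.Agent.S5902
-- import your own Cfsg.Agent.* helpers here

set_option autoImplicit false
open Cfsg

namespace Cfsg.Agent.S5903


/-- Let G be a finite simple group, X a subgroup lying in exactly one maximal subgroup M of G, and N a subgroup of prime order with N ≤ X that is central in M. If the subgroup lattice of X/N is complemented, then the subgroup lattice of G is complemented. -/
theorem result {G : Type*} [Group G] [Finite G] [IsSimpleGroup G] (X M N : Subgroup G)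
    (hM : IsCoatom M) (hXM : X ≤ M) (huniq : ∀ M' : Subgroup G, IsCoatom M' → X ≤ M' → M' = M)
    (hNX : N ≤ X) (hN : (Nat.card N).Prime) (hcen : ∀ n ∈ N, ∀ m ∈ M, m * n = n * m)
    [(N.subgroupOf X).Normal] (hK : ComplementedLattice (Subgroup (X ⧸ N.subgroupOf X))) :
    ComplementedLattice (Subgroup G) := by
  have hX : X ≠ ⊤ := fun h => hM.1 (top_le_iff.mp (h ▸ hXM))
  have hNne : N ≠ ⊥ := fun h => by rw [h, Subgroup.card_bot] at hN; exact Nat.not_prime_one hN
  -- the interval [N, X] is complemented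
  have hint : ∀ Y : Subgroup G, N ≤ Y → Y ≤ X → ∃ C : Subgroup G, N ≤ C ∧ C ≤ X ∧ Y ⊔ C = X ∧ Y ⊓ C = N := by
    intro Y hNY hYX
    obtain ⟨c, hc⟩ := hK.exists_isCompl ((Y.subgroupOf X).map (QuotientGroup.mk' (N.subgroupOf X)))
    have hsur := QuotientGroup.mk'_surjective (N.subgroupOf X)
    have hker : (QuotientGroup.mk' (N.subgroupOf X)).ker = N.subgroupOf X := QuotientGroup.ker_mk' _
    have hNYX : N.subgroupOf X ≤ Y.subgroupOf X := fun x hx => hNY hx
    have hY : ((Y.subgroupOf X).map (QuotientGroup.mk' (N.subgroupOf X))).comap (QuotientGroup.mk' _) = Y.subgroupOf X :=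
      Subgroup.comap_map_eq_self (hker.le.trans hNYX)
    set c' := c.comap (QuotientGroup.mk' (N.subgroupOf X)) with hc'
    have hNc : N.subgroupOf X ≤ c' := fun x hx => by
      rw [hc', Subgroup.mem_comap]
      have : QuotientGroup.mk' (N.subgroupOf X) x = 1 := (QuotientGroup.eq_one_iff x).mpr hx
      rw [this]; exact one_mem c
    have hinj : Function.Injective X.subtype := X.subtype_injective
    have hYm : (Y.subgroupOf X).map X.subtype = Y := Subgroup.map_subgroupOf_eq_of_le hYX
    have hNm : (N.subgroupOf X).map X.subtype = N := Subgroup.map_subgroupOf_eq_of_le hNX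
    refine ⟨c'.map X.subtype, hNm ▸ Subgroup.map_mono hNc, Subgroup.map_subtype_le c', ?_, ?_⟩
    · have : Y.subgroupOf X ⊔ c' = ⊤ := by
        rw [← hY, hc', Subgroup.comap_sup_eq _ _ _ hsur, hc.sup_eq_top, Subgroup.comap_top]
      rw [← hYm, ← Subgroup.map_sup, this, ← MonoidHom.range_eq_map, Subgroup.range_subtype]
    · have : Y.subgroupOf X ⊓ c' = N.subgroupOf X := by
        rw [← hY, hc', ← Subgroup.comap_inf, hc.inf_eq_bot, MonoidHom.comap_bot, hker]
      rw [← hYm, ← Subgroup.map_inf _ _ _ hinj, this, hNm]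
  -- the centraliser of N is M
  have hCN : Subgroup.centralizer (N : Set G) = M := by
    refine (hM.le_iff.mp fun m hm => Subgroup.mem_centralizer_iff.mpr fun n hn => (hcen n hn m hm).symm).resolve_left ?_
    intro h
    have hnorm : N.Normal := ⟨fun n hn g => by
      have hg : g ∈ Subgroup.centralizer (N : Set G) := by rw [h]; trivial
      rw [← Subgroup.mem_centralizer_iff.mp hg n hn, mul_inv_cancel_right]
      exact hn⟩
    rcases hnorm.eq_bot_or_eq_top with h' | h'
    · exact hNne h'
    · exact hX (top_le_iff.mp (h' ▸ hNX))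
  refine ⟨fun H => ?_⟩
  by_cases hH0 : H = ⊥
  · exact hH0 ▸ ⟨⊤, isCompl_bot_top⟩
  by_cases hH1 : H = ⊤
  · exact hH1 ▸ ⟨⊥, isCompl_top_bot⟩
  obtain ⟨g, hgM, hgN⟩ : ∃ g : G, ¬ H.map (MulAut.conj g).toMonoidHom ≤ M ∧ ¬ N ≤ H.map (MulAut.conj g).toMonoidHom := by
    by_contra hc
    push Not at hc
    -- every conjugate of N normalises H
    have hnorm : ∀ g : G, N.map (MulAut.conj g⁻¹).toMonoidHom ≤ Subgroup.normalizer (H : Set G) := by
      intro g
      by_cases hle : H.map (MulAut.conj g).toMonoidHom ≤ M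
      · refine le_trans ?_ (Subgroup.centralizer_le_normalizer (H : Set G))
        rintro _ ⟨n, hn, rfl⟩
        refine Subgroup.mem_centralizer_iff.mpr fun x hx => ?_
        have h1 := hcen n hn _ (hle ⟨x, hx, rfl⟩)
        simp only [MulEquiv.coe_toMonoidHom, MulAut.conj_apply] at h1 ⊢
        calc x * (g⁻¹ * n * g⁻¹⁻¹) = g⁻¹ * (g * x * g⁻¹ * n) * g := by group
          _ = g⁻¹ * (n * (g * x * g⁻¹)) * g := by rw [h1]
          _ = g⁻¹ * n * g⁻¹⁻¹ * x := by group
      · refine le_trans ?_ Subgroup.le_normalizer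
        rintro _ ⟨n, hn, rfl⟩
        obtain ⟨x, hx, hxn⟩ := hc g hle hn
        have hmem : x ∈ H := hx
        convert hmem using 1
        simp only [MulEquiv.coe_toMonoidHom, MulAut.conj_apply] at hxn ⊢
        rw [← hxn]; group
    have htop : Subgroup.normalClosure (N : Set G) = ⊤ :=
      Subgroup.normalClosure_normal.eq_bot_or_eq_top.resolve_left
        (fun h => hNne (le_bot_iff.mp (h ▸ Subgroup.le_normalClosure)))
    have : Subgroup.normalizer (H : Set G) = ⊤ := by
      refine top_le_iff.mp (htop ▸ ?_)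
      unfold Subgroup.normalClosure
      rw [Subgroup.closure_le]
      intro x hx
      obtain ⟨n, hn, hnx⟩ := Group.mem_conjugatesOfSet_iff.mp hx
      obtain ⟨c, rfl⟩ := isConj_iff.mp hnx
      exact hnorm c⁻¹ ⟨n, hn, by simp⟩
    rcases (Subgroup.normalizer_eq_top_iff.mp this).eq_bot_or_eq_top with h | h
    · exact hH0 h
    · exact hH1 h
  have hinf : H.map (MulAut.conj g).toMonoidHom ⊓ N = ⊥ := by
    set A := H.map (MulAut.conj g).toMonoidHom with hA
    rcases Nat.Prime.eq_one_or_self_of_dvd hN _ (Subgroup.card_dvd_of_le (inf_le_right : A ⊓ N ≤ N)) with h | h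
    · exact Subgroup.card_eq_one.mp h
    · exfalso
      have heq : A ⊓ N = N := Subgroup.eq_of_le_of_card_ge inf_le_right h.ge
      exact hgN (heq ▸ inf_le_left)
  obtain ⟨C, h1, h2⟩ := Cfsg.Agent.S5902.conj_complement H g
    (Cfsg.Agent.S5901.result N X M hNX hX hint hM hXM huniq _ hgM hinf)
  exact ⟨C, IsCompl.of_eq h2 h1⟩

end Cfsg.Agent.S5903
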