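import Cfsg.Statements.S5905
import Cfsg.Agent.Lib.MaxSub.Wreath

set_option autoImplicit false
open Cfsg

namespace Cfsg.Agent.S5905

open Cfsg.Agent.Lib.MaxSub

/-- Let Ω be a finite set and f : Ω → Fin b a map onto b ≥ 2 labels whose fibres all have the same size a ≥ 2 (a partition of Ω into b blocks of size a, so |Ω| = ab). Then the stabilizer of this partition in the symmetric group on Ω — the permutations g such that x and y lie in the same block exactly when g x and g y do, a group isomorphic to the imprimitive wreath product S_a ≀ S_b — is a maximal subgroup of the symmetric group. -/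
theorem result {Ω : Type*} [Fintype Ω] [DecidableEq Ω] (a b : ℕ) (ha : 2 ≤ a) (hb : 2 ≤ b)
    (f : Ω → Fin b) (hf : ∀ i : Fin b, Nat.card {x : Ω // f x = i} = a) :
    IsCoatom (Subgroup.closure {g : Equiv.Perm Ω | ∀ x y : Ω, f x = f y ↔ f (g x) = f (g y)}) := by
  classical
  rw [Wreath.closure_eq]
  obtain ⟨x, y, z, hxy, hzx, hzne⟩ := Wreath.exists_swap_not_mem hf ha hb
  refine ⟨fun htop => ?_, fun L hL => ?_⟩
  · have h : Equiv.swap x y ∈ Wreath.pres f := htop ▸ Subgroup.mem_top _
    have h' := (h x z).mp hzx.symm
    rw [Equiv.swap_apply_left, Equiv.swap_apply_of_ne_of_ne hzne (fun e => hxy (by rw [← hzx, e]))] at h'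
    exact hxy (h'.trans hzx).symm
  · by_cases hn : 4 < a * b
    · exact Equiv.Perm.subgroup_eq_top_of_isPreprimitive_of_isSwap_mem
        (Wreath.isPreprimitive_of_not_le hf ha hb hn (inf_le_left.trans hL.le) (not_le_of_gt hL))
        (Equiv.swap x z) ⟨x, z, hzne.symm, rfl⟩ (hL.le (Wreath.swap_mem hzx.symm))
    · have ha2 : a = 2 := by nlinarith
      have hb2 : b = 2 := by subst ha2; omega
      subst ha2 hb2
      have h4 : Nat.card (Equiv.Perm Ω) = 24 := by
        rw [Nat.card_perm, Nat.card_eq_fintype_card, Wreath.card_eq hf]; rfl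
      have hW : 8 ≤ Nat.card (Wreath.pres f) := by
        obtain ⟨u, v, hu, hv, huv⟩ := Wreath.exists_fibre_pair hf le_rfl (0 : Fin 2)
        obtain ⟨u', v', hu', hv', huv'⟩ := Wreath.exists_fibre_pair hf le_rfl (1 : Fin 2)
        obtain ⟨g, hg, hgf⟩ := Wreath.exists_map hf (Equiv.swap (0 : Fin 2) 1)
        set s := Equiv.swap u v
        set t := Equiv.swap u' v'
        have hs : s ∈ Wreath.pres f := Wreath.swap_mem (hu.trans hv.symm)
        have ht : t ∈ Wreath.pres f := Wreath.swap_mem (hu'.trans hv'.symm)
        have key : Function.Injective (fun p : Bool × Bool × Bool =>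
            (⟨(if p.1 then g else 1) * ((if p.2.1 then s else 1) * (if p.2.2 then t else 1)),
              mul_mem (by split_ifs; exacts [hg, one_mem _])
                (mul_mem (by split_ifs; exacts [hs, one_mem _]) (by split_ifs; exacts [ht, one_mem _]))⟩ :
              Wreath.pres f)) := by
          intro p q h
          have h' := congrArg Subtype.val h
          dsimp only at h'
          have hne : u ≠ u' ∧ u ≠ v' ∧ u' ≠ u ∧ u' ≠ v := by
            refine ⟨?_, ?_, ?_, ?_⟩ <;> intro e <;> simp_all
          have hsu : s u = v := Equiv.swap_apply_left _ _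
          have hsu' : s u' = u' := Equiv.swap_apply_of_ne_of_ne hne.2.2.1 hne.2.2.2
          have htu : t u = u := Equiv.swap_apply_of_ne_of_ne hne.1 hne.2.1
          have htu' : t u' = v' := Equiv.swap_apply_left _ _
          have htv : t v = v := Equiv.swap_apply_of_ne_of_ne hne.2.2.2.symm
            (fun e => by rw [e, hv'] at hv; exact absurd hv (by decide))
          have hsv' : s v' = v' := Equiv.swap_apply_of_ne_of_ne hne.2.1.symm
            (fun e => by rw [e, hv] at hv'; exact absurd hv' (by decide))
          have fu : ∀ r : Bool × Bool × Bool, f ((if r.1 then g else 1) (((if r.2.1 then s else 1) * (if r.2.2 then t else 1)) u)) = if r.1 then 1 else 0 := by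
            intro r
            obtain ⟨a1, a2, a3⟩ := r
            cases a1 <;> cases a2 <;> cases a3 <;> simp [hgf, hsu, htu, hu, hv]
          have h1 : p.1 = q.1 := by
            have := congrArg (fun σ : Equiv.Perm Ω => f (σ u)) h'
            simp only [Equiv.Perm.mul_apply] at this fu
            rw [fu, fu] at this
            cases hp : p.1 <;> cases hq : q.1 <;> simp_all
          rw [h1] at h'
          have h'' := mul_left_cancel h'
          have e1 := congrArg (fun σ : Equiv.Perm Ω => σ u) h''
          have e2 := congrArg (fun σ : Equiv.Perm Ω => σ u') h''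
          obtain ⟨p1, p2, p3⟩ := p
          obtain ⟨q1, q2, q3⟩ := q
          simp only at h1
          subst h1
          clear h' h''
          cases p2 <;> cases q2 <;> cases p3 <;> cases q3 <;>
            simp_all
        have := Nat.card_le_card_of_injective _ key
        simpa using this
      have hlt : Nat.card (Wreath.pres f) < Nat.card L :=
        Set.ncard_lt_ncard (SetLike.coe_ssubset_coe.mpr hL)
      have h1 : Nat.card L ∣ 24 := h4 ▸ Subgroup.card_subgroup_dvd_card L
      have h2 : Nat.card (Wreath.pres f) ∣ Nat.card L := Subgroup.card_dvd_of_le hL.le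
      apply Subgroup.eq_top_of_card_eq
      rw [h4]
      obtain ⟨k, hk⟩ := h2
      have hk2 : 2 ≤ k := by
        rcases k with _ | _ | k <;> simp_all
      have hle : Nat.card L ≤ 24 := Nat.le_of_dvd (by norm_num) h1
      have h16 : 16 ≤ Nat.card L := by rw [hk]; nlinarith
      obtain ⟨c, hc⟩ := h1
      have : c = 1 := by
        rcases c with _ | _ | c <;> first | omega | nlinarith
      subst this; omega

end Cfsg.Agent.S5905
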