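import Cfsg.Statements.S5909
import Cfsg.Agent.Lib.MaxSub.Wreath

set_option autoImplicit false
open Cfsg

namespace Cfsg.Agent.S5909

open Cfsg.Agent.Lib.MaxSub

set_option maxRecDepth 100000 in
theorem card_model_three_two :
    Fintype.card {g : Equiv.Perm (Fin 3 × Fin 2) // (∀ x y : Fin 3 × Fin 2, x.1 = y.1 ↔ (g x).1 = (g y).1) ∧ Equiv.Perm.sign g = 1} = 24 := by
  decide +kernel

set_option maxRecDepth 100000 in
theorem card_model_two_two :
    Fintype.card {g : Equiv.Perm (Fin 2 × Fin 2) // (∀ x y : Fin 2 × Fin 2, x.1 = y.1 ↔ (g x).1 = (g y).1) ∧ Equiv.Perm.sign g = 1} = 4 := by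
  decide +kernel

theorem card_transfer {Ω : Type*} [Fintype Ω] [DecidableEq Ω] {a b : ℕ} {f : Ω → Fin b}
    (hf : ∀ i : Fin b, Nat.card {x : Ω // f x = i} = a) :
    Nat.card ↥(Wreath.pres f ⊓ alternatingGroup Ω) =
      Nat.card {g : Equiv.Perm (Fin b × Fin a) // (∀ x y : Fin b × Fin a, x.1 = y.1 ↔ (g x).1 = (g y).1) ∧ Equiv.Perm.sign g = 1} := by
  classical
  let e : Ω ≃ Fin b × Fin a :=
    (Equiv.sigmaFiberEquiv f).symm.trans ((Equiv.sigmaCongrRight fun i =>
      Fintype.equivFinOfCardEq (by rw [← Nat.card_eq_fintype_card, hf i])).trans (Equiv.sigmaEquivProd _ _))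
  have he : ∀ x, (e x).1 = f x := fun x => rfl
  refine Nat.card_congr (Equiv.subtypeEquiv e.permCongr fun g => ?_)
  constructor
  · rintro ⟨h1, h2⟩
    refine ⟨fun x y => ?_, ?_⟩
    · obtain ⟨x, rfl⟩ := e.surjective x
      obtain ⟨y, rfl⟩ := e.surjective y
      simp only [Equiv.permCongr_apply, Equiv.symm_apply_apply, he]
      exact h1 x y
    · rw [Equiv.Perm.sign_permCongr]; exact h2
  · rintro ⟨h1, h2⟩
    refine ⟨fun x y => ?_, ?_⟩
    · have := h1 (e x) (e y)
      simpa only [Equiv.permCongr_apply, Equiv.symm_apply_apply, he] using this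
    · rw [Equiv.Perm.sign_permCongr] at h2; exact h2

/-- A subgroup of index dividing fifteen, properly containing one of index fifteen, is everything. -/
theorem eq_top_of_simple {A : Type*} [Group A] [Finite A] [IsSimpleGroup A] (hA : Nat.card A = 360)
    {M L : Subgroup A} (hM : Nat.card M = 24) (hlt : M < L) : L = ⊤ := by
  by_contra hne
  have h1 : Nat.card M ∣ Nat.card L := Subgroup.card_dvd_of_le hlt.le
  obtain ⟨k, hk⟩ := h1
  have h2 := L.card_mul_index
  rw [hA, hk, hM] at h2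
  have hlt' : Nat.card M < Nat.card L := Set.ncard_lt_ncard (SetLike.coe_ssubset_coe.mpr hlt)
  rw [hk, hM] at hlt'
  have h15 : k * L.index = 15 := by nlinarith
  have hidx : L.index ≤ 5 := by
    have hd : L.index ∣ 15 := ⟨k, by linarith⟩
    have hle := Nat.le_of_dvd (by norm_num) hd
    by_contra hc
    have : 3 ≤ k ∨ k ≤ 2 := by omega
    rcases this with h | h
    · nlinarith
    · obtain rfl : k = 2 := by omega
      omega
  have hbot : L.normalCore = ⊥ :=
    (IsSimpleGroup.eq_bot_or_eq_top_of_normal L.normalCore inferInstance).resolve_right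
      fun h => hne (eq_top_iff.mpr (h ▸ L.normalCore_le))
  have hinj : Function.Injective (MulAction.toPermHom A (A ⧸ L)) := by
    rw [← MonoidHom.ker_eq_bot_iff, ← Subgroup.normalCore_eq_ker, hbot]
  have h3 := Nat.card_le_card_of_injective _ hinj
  rw [Nat.card_perm, hA, ← Subgroup.index_eq_card] at h3
  have h4 := Nat.factorial_le hidx
  simp [Nat.factorial] at h3 h4
  omega

/-- A preserved-pairs overgroup of degree at least ten contains a three-cycle. -/
theorem exists_threeCycle {Ω : Type*} [Fintype Ω] [DecidableEq Ω] {b : ℕ} {f : Ω → Fin b}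
    (hf : ∀ i : Fin b, Nat.card {x : Ω // f x = i} = 2) (hb : 5 ≤ b) {L : Subgroup (Equiv.Perm Ω)}
    (hWL : Wreath.pres f ⊓ alternatingGroup Ω ≤ L) (hL : ¬ L ≤ Wreath.pres f) :
    ∃ c ∈ L, Equiv.Perm.IsThreeCycle c := by
  classical
  obtain ⟨g, hg, u, u', huu, hne⟩ : ∃ g ∈ L, ∃ u u', f u = f u' ∧ f (g u) ≠ f (g u') := by
    by_contra hc
    push Not at hc
    apply hL
    intro g hg x y
    refine ⟨hc g hg x y, fun h => ?_⟩
    have := hc g⁻¹ (inv_mem hg) _ _ h
    simpa using this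
  have hu : u ≠ u' := fun e => hne (by rw [e])
  obtain ⟨p', hp', hpp'⟩ : ∃ p', f p' = f (g u) ∧ g u ≠ p' := by
    obtain ⟨v, w, hv, hw, hvw⟩ := Wreath.exists_fibre_pair hf le_rfl (f (g u))
    by_cases h : g u = v
    · exact ⟨w, hw, h ▸ hvw⟩
    · exact ⟨v, hv, h⟩
  obtain ⟨i, hi1, hi2⟩ : ∃ i, i ≠ f u ∧ i ≠ f (g⁻¹ p') := by
    obtain ⟨i, hi⟩ := Finset.exists_mem_notMem_of_card_lt_card
      (s := ({f u, f (g⁻¹ p')} : Finset (Fin b))) (t := Finset.univ) (by
        rw [Finset.card_univ, Fintype.card_fin]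
        exact lt_of_le_of_lt Finset.card_le_two (by omega))
    simp at hi; exact ⟨i, hi.1, hi.2⟩
  obtain ⟨v, v', hv, hv', hvv⟩ := Wreath.exists_fibre_pair hf le_rfl i
  obtain ⟨j, hj⟩ := Finset.exists_mem_notMem_of_card_lt_card
      (s := ({f (g u), f (g u'), f (g v), f (g v')} : Finset (Fin b))) (t := Finset.univ) (by
        rw [Finset.card_univ, Fintype.card_fin]
        exact lt_of_le_of_lt Finset.card_le_four (by omega))
  simp at hj
  obtain ⟨k, k', hk, hk', hkk⟩ := Wreath.exists_fibre_pair hf le_rfl j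
  have hmem : ∀ (x y z w : Ω), f x = f y → f z = f w → x ≠ y → z ≠ w →
      Equiv.swap x y * Equiv.swap z w ∈ L := by
    intro x y z w h1 h2 h3 h4
    refine hWL ⟨mul_mem (Wreath.swap_mem h1) (Wreath.swap_mem h2), ?_⟩
    show Equiv.Perm.sign _ = 1
    rw [map_mul, Equiv.Perm.sign_swap h3, Equiv.Perm.sign_swap h4]; rfl
  have ht1 : Equiv.swap (g u) (g u') * Equiv.swap (g v) (g v') ∈ L := by
    have h := mul_mem (mul_mem hg (hmem u u' v v' huu (hv.trans hv'.symm) hu hvv)) (inv_mem hg)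
    rw [Equiv.swap_apply_apply, Equiv.swap_apply_apply]
    convert h using 1
    group
  have ht2 : Equiv.swap (g u) p' * Equiv.swap k k' ∈ L :=
    hmem _ _ _ _ hp'.symm (hk.trans hk'.symm) hpp' hkk
  have n1 : g v ≠ g u := fun e => hi1 (by rw [← hv, g.injective e])
  have n2 : g v' ≠ g u := fun e => hi1 (by rw [← hv', g.injective e])
  have n3 : g v ≠ g u' := fun e => hi1 (by rw [← hv, g.injective e, huu])
  have n4 : g v' ≠ g u' := fun e => hi1 (by rw [← hv', g.injective e, huu])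
  have n5 : g v ≠ p' := fun e => hi2 (by rw [← hv, ← e]; simp)
  have n6 : g v' ≠ p' := fun e => hi2 (by rw [← hv', ← e]; simp)
  have m1 : ∀ x, f x ≠ j → k ≠ x ∧ k' ≠ x := fun x hx =>
    ⟨fun e => hx (by rw [← e, hk]), fun e => hx (by rw [← e, hk'])⟩
  obtain ⟨k1, k1'⟩ := m1 (g u) (Ne.symm hj.1)
  obtain ⟨k2, k2'⟩ := m1 p' (by rw [hp']; exact Ne.symm hj.1)
  obtain ⟨k3, k3'⟩ := m1 (g u') (Ne.symm hj.2.1)
  obtain ⟨k4, k4'⟩ := m1 (g v) (Ne.symm hj.2.2.1)
  obtain ⟨k5, k5'⟩ := m1 (g v') (Ne.symm hj.2.2.2)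
  refine ⟨_, pow_mem (mul_mem ht1 ht2) 2, Wreath.isThreeCycle_sq_of_double hpp' ?_ ?_
    (Wreath.disjoint_swap n1 n5 n2 n6) (Wreath.disjoint_swap n1 n3 n2 n4)
    (Wreath.disjoint_swap k1 k2 k1' k2') (Wreath.disjoint_swap k1 k3 k1' k3')
    (Wreath.disjoint_swap k4.symm k4'.symm k5.symm k5'.symm)⟩
  · exact fun e => hu (g.injective e)
  · exact fun e => hne (by rw [e, hp'])

/-- Let Ω be a finite set whose size is not 8, and f : Ω → Fin b a labelling with b ≥ 2 whose fibres all have the same size a ≥ 2 (a partition into b blocks of size a). Then the even permutations preserving the partition — the intersection of the imprimitive wreath product S_a ≀ S_b with the alternating group — form a maximal subgroup of the alternating group on Ω. -/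
theorem result {Ω : Type*} [Fintype Ω] [DecidableEq Ω] (h8 : Fintype.card Ω ≠ 8) (a b : ℕ) (ha : 2 ≤ a) (hb : 2 ≤ b)
    (f : Ω → Fin b) (hf : ∀ i : Fin b, Nat.card {x : Ω // f x = i} = a) :
    IsCoatom ((Subgroup.closure {g : Equiv.Perm Ω | ∀ x y : Ω, f x = f y ↔ f (g x) = f (g y)} ⊓ alternatingGroup Ω).subgroupOf (alternatingGroup Ω)) := by
  classical
  rw [Wreath.closure_eq]
  have hcard := Wreath.card_eq hf
  obtain ⟨x, y, z, hxy, hzx, hzne⟩ := Wreath.exists_swap_not_mem hf ha hb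
  refine ⟨fun htop => ?_, fun L hL => ?_⟩
  · rw [Subgroup.subgroupOf_eq_top] at htop
    have hc : Equiv.Perm.IsThreeCycle (Equiv.swap x y * Equiv.swap x z) :=
      Equiv.Perm.isThreeCycle_swap_mul_swap_same (fun e => hxy (by rw [e])) hzne.symm
        (fun e => hxy (by rw [e, hzx]))
    have h : Equiv.swap x y * Equiv.swap x z ∈ Wreath.pres f := (htop hc.mem_alternatingGroup).1
    have h' := (h x z).mp hzx.symm
    rw [Equiv.Perm.mul_apply, Equiv.Perm.mul_apply, Equiv.swap_apply_left, Equiv.swap_apply_right,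
      Equiv.swap_apply_of_ne_of_ne hzne (fun e => hxy (by rw [← hzx, e])), Equiv.swap_apply_left] at h'
    exact hxy (hzx.symm.trans h')
  have hM : ∀ n, Nat.card {g : Equiv.Perm (Fin b × Fin a) // (∀ x y : Fin b × Fin a, x.1 = y.1 ↔ (g x).1 = (g y).1) ∧ Equiv.Perm.sign g = 1} = n →
      Nat.card ↥((Wreath.pres f ⊓ alternatingGroup Ω).subgroupOf (alternatingGroup Ω)) = n := by
    intro n hn
    rw [Nat.card_congr (Subgroup.subgroupOfEquivOfLe (inf_le_right)).toEquiv, card_transfer hf, hn]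
  haveI : Nontrivial Ω := ⟨⟨z, x, hzne⟩⟩
  have hA : 2 * Nat.card (alternatingGroup Ω) = Nat.factorial (a * b) := by
    rw [two_mul_nat_card_alternatingGroup, Nat.card_perm, Nat.card_eq_fintype_card, hcard]
  by_cases hn : 4 < a * b
  · set L' := L.map (alternatingGroup Ω).subtype with hL'
    have hWL : Wreath.pres f ⊓ alternatingGroup Ω ≤ L' := fun g hg =>
      ⟨⟨g, hg.2⟩, hL.le (Subgroup.mem_subgroupOf.mpr hg), rfl⟩
    have hnle : ¬ L' ≤ Wreath.pres f := by
      intro h
      obtain ⟨g, hgL, hgM⟩ := SetLike.exists_of_lt hL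
      exact hgM (Subgroup.mem_subgroupOf.mpr ⟨h ⟨g, hgL, rfl⟩, g.2⟩)
    by_cases hsmall : a = 2 ∧ b < 5
    · obtain ⟨rfl, hb5⟩ := hsmall
      obtain rfl : b = 3 := by
        have : b ≠ 4 := fun e => h8 (by rw [hcard, e])
        omega
      haveI := alternatingGroup.isSimpleGroup (α := Ω) (by rw [Nat.card_eq_fintype_card, hcard]; norm_num)
      refine eq_top_of_simple (by simp [Nat.factorial] at hA ⊢; omega) (hM 24 ?_) hL
      rw [Nat.card_eq_fintype_card]
      convert card_model_three_two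
    · obtain ⟨c, hcL, hc⟩ : ∃ c ∈ L', Equiv.Perm.IsThreeCycle c := by
        by_cases ha3 : 3 ≤ a
        · obtain ⟨u, v, hu, hv, huv⟩ := Wreath.exists_fibre_pair hf ha (f x)
          obtain ⟨s, t, hs, ht, hst, hsu, htu⟩ := Wreath.exists_fibre_avoid_two hf ha3 (f x) u
          have hc := Equiv.Perm.isThreeCycle_swap_mul_swap_same hsu.symm htu.symm hst
          exact ⟨_, hWL ⟨mul_mem (Wreath.swap_mem (hu.trans hs.symm)) (Wreath.swap_mem (hu.trans ht.symm)),
            hc.mem_alternatingGroup⟩, hc⟩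
        · obtain rfl : a = 2 := by omega
          exact exists_threeCycle hf (by omega) hWL hnle
      have := Equiv.Perm.alternatingGroup_le_of_isPreprimitive_of_isThreeCycle_mem
        (Wreath.isPreprimitive_of_not_le hf ha hb hn hWL hnle) hc hcL
      rw [eq_top_iff]
      intro g _
      obtain ⟨g', hg', e⟩ := this g.2
      rwa [← Subtype.ext e]
  · have ha2 : a = 2 := by nlinarith
    have hb2 : b = 2 := by subst ha2; omega
    subst ha2 hb2
    have h12 : Nat.card (alternatingGroup Ω) = 12 := by simp [Nat.factorial] at hA ⊢; omega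
    have h4 : Nat.card ↥((Wreath.pres f ⊓ alternatingGroup Ω).subgroupOf (alternatingGroup Ω)) = 4 :=
      hM 4 (by rw [Nat.card_eq_fintype_card]; convert card_model_two_two)
    have hlt : Nat.card ↥((Wreath.pres f ⊓ alternatingGroup Ω).subgroupOf (alternatingGroup Ω)) < Nat.card L :=
      Set.ncard_lt_ncard (SetLike.coe_ssubset_coe.mpr hL)
    have h1 : Nat.card ↥((Wreath.pres f ⊓ alternatingGroup Ω).subgroupOf (alternatingGroup Ω)) ∣ Nat.card L :=
      Subgroup.card_dvd_of_le hL.le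
    have h2 : Nat.card L ∣ 12 := h12 ▸ Subgroup.card_subgroup_dvd_card L
    apply Subgroup.eq_top_of_card_eq
    rw [h12]
    rw [h4] at h1 hlt
    have h3 : Nat.card L ≤ 12 := Nat.le_of_dvd (by norm_num) h2
    interval_cases hk : Nat.card L <;> omega

end Cfsg.Agent.S5909
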