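import Cfsg.Statements.S5910
import Cfsg.Agent.Lib.MaxSub.Wreath

set_option autoImplicit false
open Cfsg

namespace Cfsg.Agent.S5910

open Cfsg.Agent.Lib.MaxSub

/-- The affine ternary operation on `Fin 4 × Fin 2` read as the three-space over two elements. -/
def op3 (x y z : Fin 4 × Fin 2) : Fin 4 × Fin 2 := (x.1 ^^^ y.1 ^^^ z.1, x.2 + y.2 + z.2)

/-- Translate inside each pair. -/
def bitflip (c : Fin 4 → Fin 2) : Equiv.Perm (Fin 4 × Fin 2) where
  toFun p := (p.1, p.2 + c p.1)
  invFun p := (p.1, p.2 - c p.1)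
  left_inv p := by simp
  right_inv p := by simp

set_option maxRecDepth 100000 in
theorem sign_bitflip : ∀ c : Fin 4 → Fin 2, Equiv.Perm.sign (bitflip c) = 1 → c 0 + c 1 + c 2 + c 3 = 0 := by
  decide +kernel

set_option maxRecDepth 100000 in
theorem sign_lift : ∀ π : Equiv.Perm (Fin 4), Equiv.Perm.sign (π.prodCongr (Equiv.refl (Fin 2))) = 1 := by
  decide +kernel

set_option maxRecDepth 100000 in
theorem affine_check : ∀ π : Equiv.Perm (Fin 4), ∀ c : Fin 4 → Fin 2, c 0 + c 1 + c 2 + c 3 = 0 →
    ∀ x y z : Fin 4 × Fin 2, (π (op3 x y z).1, (op3 x y z).2 + c (op3 x y z).1) =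
      op3 (π x.1, x.2 + c x.1) (π y.1, y.2 + c y.1) (π z.1, z.2 + c z.1) := by
  decide +kernel

/-- A transvection. -/
def shear : Equiv.Perm (Fin 4 × Fin 2) :=
  Equiv.swap (0, 1) (1, 1) * Equiv.swap (2, 1) (3, 1)

/-- A three-cycle. -/
def tri : Equiv.Perm (Fin 4 × Fin 2) :=
  Equiv.swap (0, 0) (0, 1) * Equiv.swap (0, 0) (1, 0)

/-- Let Ω be a set with 8 elements and f : Ω → Fin 4 a labelling whose four fibres all have size 2 (a partition of the 8 points into 4 pairs). Then the group of even permutations preserving this partition, (S₂ ≀ S₄) ∩ A₈, is not a maximal subgroup of the alternating group A₈ (it lies in a subgroup isomorphic to the affine group AGL₃(2)). -/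
theorem result {Ω : Type*} [Fintype Ω] [DecidableEq Ω] (h8 : Fintype.card Ω = 8)
    (f : Ω → Fin 4) (hf : ∀ i : Fin 4, Nat.card {x : Ω // f x = i} = 2) :
    ¬ IsCoatom ((Subgroup.closure {g : Equiv.Perm Ω | ∀ x y : Ω, f x = f y ↔ f (g x) = f (g y)} ⊓ alternatingGroup Ω).subgroupOf (alternatingGroup Ω)) := by
  classical
  rw [Wreath.closure_eq]
  let e : Ω ≃ Fin 4 × Fin 2 :=
    (Equiv.sigmaFiberEquiv f).symm.trans ((Equiv.sigmaCongrRight fun i =>
      Fintype.equivFinOfCardEq (by rw [← Nat.card_eq_fintype_card, hf i])).trans (Equiv.sigmaEquivProd _ _))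
  have he : ∀ x, (e x).1 = f x := fun x => rfl
  let K : Subgroup (Equiv.Perm Ω) :=
    { carrier := {g | ∀ x y z, e.permCongr g (op3 x y z) =
        op3 (e.permCongr g x) (e.permCongr g y) (e.permCongr g z)}
      one_mem' := by intro x y z; simp
      mul_mem' := by
        intro g h hg hh x y z
        have hmul : ∀ w, e.permCongr (g * h) w = e.permCongr g (e.permCongr h w) := fun w => by simp
        rw [hmul, hmul, hmul, hmul, hh, hg]
      inv_mem' := by
        intro g hg x y z
        have h1 : ∀ w, e.permCongr g (e.permCongr g⁻¹ w) = w := fun w => by simp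
        have h2 : ∀ w, e.permCongr g⁻¹ (e.permCongr g w) = w := fun w => by simp
        have := congrArg (e.permCongr g⁻¹) (hg (e.permCongr g⁻¹ x) (e.permCongr g⁻¹ y) (e.permCongr g⁻¹ z))
        rw [h2, h1, h1, h1] at this
        exact this.symm }
  intro hco
  have hle : Wreath.pres f ⊓ alternatingGroup Ω ≤ K := by
    rintro g ⟨hg, hs⟩
    set h := e.permCongr g with hh
    have hp : ∀ x y, x.1 = y.1 ↔ (h x).1 = (h y).1 := by
      intro x y
      obtain ⟨x, rfl⟩ := e.surjective x
      obtain ⟨y, rfl⟩ := e.surjective y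
      simp only [hh, Equiv.permCongr_apply, Equiv.symm_apply_apply, he]
      exact hg x y
    have hinj : Function.Injective fun k : Fin 4 => (h (k, 0)).1 := fun k l hkl => (hp (k, 0) (l, 0)).mpr hkl
    let π : Equiv.Perm (Fin 4) := Equiv.ofBijective _ (Finite.injective_iff_bijective.mp hinj)
    let c : Fin 4 → Fin 2 := fun k => (h (k, 0)).2
    have hform : ∀ x, h x = (π x.1, x.2 + c x.1) := by
      rintro ⟨k, i⟩
      refine Prod.ext ((hp (k, i) (k, 0)).mp rfl) ?_
      show (h (k, i)).2 = i + c k
      have hi : i = 0 ∨ i = 1 := by omega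
      rcases hi with rfl | rfl
      · exact (zero_add _).symm
      · have hne : (h (k, 1)).2 ≠ (h (k, 0)).2 := fun e' => by
          have := h.injective (Prod.ext ((hp (k, 1) (k, 0)).mp rfl) e')
          simp at this
        show _ = 1 + (h (k, 0)).2
        omega
    have heq : h = π.prodCongr (Equiv.refl (Fin 2)) * bitflip c := Equiv.ext fun x => by
      rw [hform]; rfl
    have hsum : c 0 + c 1 + c 2 + c 3 = 0 := by
      apply sign_bitflip
      have : Equiv.Perm.sign h = 1 := by rw [hh, Equiv.Perm.sign_permCongr]; exact hs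
      rwa [heq, map_mul, sign_lift, one_mul] at this
    intro x y z
    rw [← hh, hform, hform, hform, hform]
    exact affine_check π c hsum x y z
  have hA : ∀ g : Equiv.Perm (Fin 4 × Fin 2), Equiv.Perm.sign g = 1 → e.symm.permCongr g ∈ alternatingGroup Ω :=
    fun g hg => by show Equiv.Perm.sign _ = 1; rw [Equiv.Perm.sign_permCongr, hg]
  have hback : ∀ g : Equiv.Perm (Fin 4 × Fin 2), e.permCongr (e.symm.permCongr g) = g := fun g => by
    ext x <;> simp
  have hlt : (Wreath.pres f ⊓ alternatingGroup Ω).subgroupOf (alternatingGroup Ω) < K.subgroupOf (alternatingGroup Ω) := by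
    refine SetLike.lt_iff_le_and_exists.mpr ⟨Subgroup.comap_mono hle, ⟨e.symm.permCongr shear, hA _ (by decide +kernel)⟩, ?_, ?_⟩
    · rw [Subgroup.mem_subgroupOf]
      intro x y z
      rw [hback]
      revert x y z
      decide +kernel
    · intro hm
      have h := (Subgroup.mem_subgroupOf.mp hm).1 (e.symm (0, 0)) (e.symm (0, 1))
      simp only [Equiv.permCongr_apply, Equiv.symm_symm, Equiv.apply_symm_apply, ← he] at h
      revert h
      decide +kernel
  have htop := hco.2 _ hlt
  rw [Subgroup.subgroupOf_eq_top] at htop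
  have h := htop (hA tri (by decide +kernel)) (0, 0) (1, 0) (2, 0)
  rw [hback] at h
  revert h
  decide +kernel

end Cfsg.Agent.S5910
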