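import Cfsg.Statements.S5912
import Cfsg.Agent.Lib.MaxSub.SymSix

set_option autoImplicit false
open Cfsg

namespace Cfsg.Agent.S5912

open Cfsg.Agent.Lib.MaxSub

/-- The symmetric group on a 6-element set Ω has exactly two conjugacy classes of subgroups of index 6: there are two non-conjugate subgroups of index 6 (a point stabilizer and a transitive subgroup isomorphic to S₅), and every subgroup of index 6 is conjugate to one of them. -/
theorem result {Ω : Type*} [Fintype Ω] [DecidableEq Ω] (h6 : Fintype.card Ω = 6) :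
    ∃ H₁ H₂ : Subgroup (Equiv.Perm Ω), H₁.index = 6 ∧ H₂.index = 6 ∧
      (¬ ∃ g : Equiv.Perm Ω, Subgroup.map (MulAut.conj g).toMonoidHom H₁ = H₂) ∧
      ∀ H : Subgroup (Equiv.Perm Ω), H.index = 6 →
        ∃ g : Equiv.Perm Ω, Subgroup.map (MulAut.conj g).toMonoidHom H₁ = H ∨ Subgroup.map (MulAut.conj g).toMonoidHom H₂ = H := by
  classical
  let E : Equiv.Perm Ω ≃* Equiv.Perm (Fin 6) := (Fintype.equivFinOfCardEq h6).permCongrHom
  obtain ⟨ψ, hψ, hψi, hψn⟩ := SymSix.exists_exotic
  let M : Subgroup (Equiv.Perm (Fin 6)) → Subgroup (Equiv.Perm Ω) := fun H => H.comap E.toMonoidHom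
  have hidx : ∀ H, (M H).index = H.index := fun H => Subgroup.index_comap_of_surjective H E.surjective
  have hM : ∀ (H : Subgroup (Equiv.Perm (Fin 6))) (g : Equiv.Perm (Fin 6)),
      (M H).map (MulAut.conj (E.symm g)).toMonoidHom = M (H.map (MulAut.conj g).toMonoidHom) := by
    intro H g
    ext x
    rw [SymSix.mem_map_conj]
    show E _ ∈ H ↔ E x ∈ H.map (MulAut.conj g).toMonoidHom
    rw [SymSix.mem_map_conj]
    simp
  refine ⟨M (MulAction.stabilizer _ (0 : Fin 6)), M ψ.range, by rw [hidx, SymSix.index_stab],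
    by rw [hidx, hψi], ?_, fun H hH => ?_⟩
  · rintro ⟨g, hg⟩
    rw [← E.symm_apply_apply g, hM] at hg
    have h' := congrArg (Subgroup.map E.toMonoidHom) hg
    simp only [M] at h'
    rw [Subgroup.map_comap_eq_self_of_surjective (f := E.toMonoidHom) E.surjective,
      Subgroup.map_comap_eq_self_of_surjective (f := E.toMonoidHom) E.surjective] at h'
    refine hψn (E g 0) (h'.symm.trans ?_)
    ext x
    rw [SymSix.mem_map_conj, MulAction.mem_stabilizer_iff, MulAction.mem_stabilizer_iff]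
    show (E g)⁻¹ (x (E g 0)) = 0 ↔ x (E g 0) = E g 0
    rw [Equiv.Perm.inv_def, Equiv.symm_apply_eq]
  · have hH' : H = M (H.map E.toMonoidHom) :=
      (Subgroup.comap_map_eq_self_of_injective E.injective H).symm
    have hi : (H.map E.toMonoidHom).index = 6 := by rw [← hidx, ← hH', hH]
    by_cases h : ∃ x : Fin 6, H.map E.toMonoidHom = MulAction.stabilizer (Equiv.Perm (Fin 6)) x
    · obtain ⟨x, hx⟩ := h
      refine ⟨E.symm (Equiv.swap 0 x), Or.inl ?_⟩
      rw [hM, hH', hx]
      congr 1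
      ext y
      rw [SymSix.mem_map_conj, MulAction.mem_stabilizer_iff, MulAction.mem_stabilizer_iff]
      show (Equiv.swap 0 x)⁻¹ (y (Equiv.swap 0 x 0)) = 0 ↔ y x = x
      rw [Equiv.Perm.inv_def, Equiv.symm_apply_eq, Equiv.swap_apply_left]
    · obtain ⟨g, hg⟩ := SymSix.conj_of_noFix hψi hi hψn (fun x hx => h ⟨x, hx⟩)
      exact ⟨E.symm g, Or.inr (by rw [hM, hg, ← hH'])⟩

end Cfsg.Agent.S5912
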