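import Cfsg.Statements.S5913
-- import your own Cfsg.Agent.* helpers here

set_option autoImplicit false
open Cfsg

namespace Cfsg.Agent.S5913


/-- Let S be a non-abelian simple group and n a natural number. Every normal subgroup N of the direct power S^n (functions Fin n → S) is a subproduct: there is a set T of coordinates such that N consists exactly of the elements whose coordinates outside T are trivial. In particular the minimal normal subgroups of S^n are its n factors. -/
theorem result {S : Type*} [Group S] [IsSimpleGroup S] (hS : ¬ IsMulCommutative S) (n : ℕ)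
    (N : Subgroup (Fin n → S)) [N.Normal] :
    ∃ T : Finset (Fin n), ∀ x : Fin n → S, x ∈ N ↔ ∀ i, i ∉ T → x i = 1 := by
  classical
  refine ⟨Finset.univ.filter fun i => ∃ x ∈ N, x i ≠ 1, fun x => ⟨fun hx i hi => ?_, fun hx => ?_⟩⟩
  · by_contra h
    exact hi (Finset.mem_filter.mpr ⟨Finset.mem_univ _, x, hx, h⟩)
  have hsingle : ∀ i : Fin n, (∃ y ∈ N, y i ≠ 1) → ∀ s : S, Pi.mulSingle i s ∈ N := by
    intro i ⟨y, hy, hyi⟩
    have hnorm : (N.comap (MonoidHom.mulSingle (fun _ : Fin n => S) i)).Normal := inferInstance
    rcases hnorm.eq_bot_or_eq_top with h | h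
    · exfalso
      obtain ⟨s, hs⟩ : ∃ s, y i * s ≠ s * y i := by
        by_contra hc
        push Not at hc
        have hz : y i ∈ Subgroup.center S := Subgroup.mem_center_iff.mpr fun s => (hc s).symm
        rcases (inferInstance : (Subgroup.center S).Normal).eq_bot_or_eq_top with h' | h'
        · rw [h'] at hz; exact hyi (Subgroup.mem_bot.mp hz)
        · refine hS ⟨⟨fun a b => ?_⟩⟩
          have : b ∈ Subgroup.center S := by rw [h']; trivial
          exact Subgroup.mem_center_iff.mp this a
      have hmem : y * Pi.mulSingle i s * y⁻¹ * (Pi.mulSingle i s)⁻¹ ∈ N := by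
        have := N.mul_mem hy (Subgroup.Normal.conj_mem inferInstance _ (N.inv_mem hy) (Pi.mulSingle i s))
        simpa [mul_assoc] using this
      have heq : y * Pi.mulSingle i s * y⁻¹ * (Pi.mulSingle i s)⁻¹ = Pi.mulSingle i (y i * s * (y i)⁻¹ * s⁻¹) := by
        funext j
        by_cases hj : j = i
        · subst hj; simp
        · simp [Pi.mulSingle_eq_of_ne hj]
      rw [heq] at hmem
      have h1 : y i * s * (y i)⁻¹ * s⁻¹ ∈ N.comap (MonoidHom.mulSingle (fun _ : Fin n => S) i) := hmem
      rw [h, Subgroup.mem_bot, mul_inv_eq_one, mul_inv_eq_iff_eq_mul] at h1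
      exact hs h1
    · intro s
      have hs : s ∈ N.comap (MonoidHom.mulSingle (fun _ : Fin n => S) i) := by rw [h]; trivial
      exact hs
  refine Subgroup.pi_mem_of_mulSingle_mem x fun i => ?_
  by_cases h : ∃ y ∈ N, y i ≠ 1
  · exact hsingle i h _
  · rw [hx i (fun hh => h (Finset.mem_filter.mp hh).2), Pi.mulSingle_one]
    exact N.one_mem

end Cfsg.Agent.S5913
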