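import Cfsg.Statements.S5914
import Cfsg.Agent.Lib.Recognition.MinimalNormalPower

set_option autoImplicit false
open Cfsg

namespace Cfsg.Agent.S5914

open Cfsg.Agent.Lib.Recognition

theorem exists_single_mem {S : Type*} [Group S] [IsSimpleGroup S] {n : ℕ} {K : Subgroup (Fin n → S)}
    (hK : K.Characteristic) (hK0 : K ≠ ⊥) : ∃ i, ∃ s : S, s ≠ 1 ∧ Pi.mulSingle i s ∈ K := by
  classical
  haveI := hK
  haveI : K.Normal := Subgroup.normal_of_characteristic K
  obtain ⟨x, hx, hx1⟩ := (Subgroup.ne_bot_iff_exists_ne_one.mp hK0 |> fun ⟨x, hx⟩ =>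
    (⟨x.1, x.2, fun h => hx (Subtype.ext h)⟩ : ∃ x, x ∈ K ∧ x ≠ 1))
  obtain ⟨i, hi⟩ : ∃ i, x i ≠ 1 := by
    by_contra h
    push Not at h
    exact hx1 (funext h)
  by_cases hc : ∀ s : S, x i * s = s * x i
  · have hz : Subgroup.center S = ⊤ := (Subgroup.Normal.eq_bot_or_eq_top (inferInstance : (Subgroup.center S).Normal)).resolve_left
      fun h => hi (by
        have : x i ∈ Subgroup.center S := Subgroup.mem_center_iff.mpr fun s => (hc s).symm
        rwa [h, Subgroup.mem_bot] at this)
    have hcomm : ∀ a b : S, a * b = b * a := fun a b => by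
      have : b ∈ Subgroup.center S := by rw [hz]; trivial
      exact Subgroup.mem_center_iff.mp this a
    by_cases hn : ∃ j, j ≠ i
    · obtain ⟨j, hj⟩ := hn
      let φ : (Fin n → S) ≃* (Fin n → S) :=
        { toFun := fun y => y * Pi.mulSingle j (y i)
          invFun := fun y => y * Pi.mulSingle j (y i)⁻¹
          left_inv := fun y => funext fun k => by
            by_cases hk : k = j
            · subst hk; simp [hj.symm]
            · simp [hk, hj.symm]
          right_inv := fun y => funext fun k => by
            by_cases hk : k = j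
            · subst hk; simp [hj.symm]
            · simp [hk, hj.symm]
          map_mul' := fun y z => funext fun k => by
            by_cases hk : k = j
            · subst hk
              simp only [Pi.mul_apply, Pi.mulSingle_eq_same]
              rw [mul_assoc, mul_assoc, ← mul_assoc (z k), hcomm (z k) (y i), mul_assoc (y i)]
            · simp [hk] }
      have hm : φ x ∈ K := by
        have := (Subgroup.characteristic_iff_comap_eq.mp hK φ).ge hx
        simpa using this
      refine ⟨j, x i, hi, ?_⟩
      have h2 := K.mul_mem (K.inv_mem hx) hm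
      rwa [show x⁻¹ * φ x = Pi.mulSingle j (x i) from inv_mul_cancel_left x _] at h2
    · push Not at hn
      exact ⟨i, x i, hi, by
        rwa [show Pi.mulSingle i (x i) = x from funext fun k => by rw [hn k]; simp]⟩
  · push Not at hc
    obtain ⟨s, hs⟩ := hc
    refine ⟨i, x i * s * (x i)⁻¹ * s⁻¹, fun h => hs ?_, ?_⟩
    · rw [mul_inv_eq_one, mul_inv_eq_iff_eq_mul] at h
      exact h
    · have h2 := K.mul_mem hx ((inferInstance : K.Normal).conj_mem _ (K.inv_mem hx) (Pi.mulSingle i s))
      convert h2 using 1
      funext k
      by_cases hk : k = i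
      · subst hk; simp [mul_assoc]
      · simp [hk]

theorem pi_charSimple {S : Type*} [Group S] [IsSimpleGroup S] {n : ℕ} (K : Subgroup (Fin n → S))
    (hK : K.Characteristic) : K = ⊥ ∨ K = ⊤ := by
  classical
  by_cases hK0 : K = ⊥
  · exact Or.inl hK0
  right
  haveI := hK
  haveI : K.Normal := Subgroup.normal_of_characteristic K
  obtain ⟨i, s, hs, hsK⟩ := exists_single_mem hK hK0
  have hi : K.comap (MonoidHom.mulSingle (fun _ : Fin n => S) i) = ⊤ :=
    (Subgroup.Normal.eq_bot_or_eq_top (inferInstance : (K.comap (MonoidHom.mulSingle (fun _ : Fin n => S) i)).Normal)).resolve_left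
      fun h => hs (by
        have : s ∈ K.comap (MonoidHom.mulSingle (fun _ : Fin n => S) i) := hsK
        rwa [h, Subgroup.mem_bot] at this)
  have hall : ∀ j (t : S), Pi.mulSingle j t ∈ K := by
    intro j t
    let e : Equiv.Perm (Fin n) := Equiv.swap i j
    let φ : (Fin n → S) ≃* (Fin n → S) :=
      { toFun := fun y k => y (e k)
        invFun := fun y k => y (e k)
        left_inv := fun y => funext fun k => by simp [e]
        right_inv := fun y => funext fun k => by simp [e]
        map_mul' := fun y z => rfl }
    have h1 : t ∈ K.comap (MonoidHom.mulSingle (fun _ : Fin n => S) i) := by rw [hi]; trivial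
    have h2 : φ (Pi.mulSingle i t) ∈ K := (Subgroup.characteristic_iff_comap_eq.mp hK φ).ge h1
    convert h2 using 1
    funext k
    show (Pi.mulSingle j t : Fin n → S) k = (Pi.mulSingle i t : Fin n → S) (e k)
    by_cases hk : k = j
    · subst hk; simp [e]
    · rw [Pi.mulSingle_eq_of_ne hk, Pi.mulSingle_eq_of_ne]
      simp [e, Equiv.swap_apply_eq_iff, hk]
  exact eq_top_iff.mpr fun x _ => Subgroup.pi_mem_of_mulSingle_mem x fun j => hall j (x j)

/-- A non-trivial finite group G is characteristically simple (its only characteristic subgroups are 1 and G) if and only if G is isomorphic to a direct power S^n (n ≥ 1) of some simple group S (possibly cyclic of prime order). -/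
theorem result {G : Type*} [Group G] [Finite G] [Nontrivial G] :
    (∀ H : Subgroup G, H.Characteristic → H = ⊥ ∨ H = ⊤) ↔
    ∃ (S : Type) (_ : Group S) (_ : IsSimpleGroup S) (n : ℕ), 1 ≤ n ∧ Nonempty (G ≃* (Fin n → S)) := by
  constructor
  · intro h
    let A := SemidirectProduct G (MulAut G) (MonoidHom.id _)
    let N : Subgroup A := (SemidirectProduct.inl : G →* A).range
    haveI : N.Normal := by
      rw [show N = (SemidirectProduct.rightHom : A →* MulAut G).ker from SemidirectProduct.range_inl_eq_ker_rightHom]
      infer_instance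
    haveI : Finite (MulAut G) := Finite.of_injective (fun e : MulAut G => (e : G → G)) DFunLike.coe_injective
    haveI : Finite A := Finite.of_equiv _ SemidirectProduct.equivProd.symm
    have hN : N ≠ ⊥ := fun hb => by
      obtain ⟨g, hg⟩ := exists_ne (1 : G)
      have : SemidirectProduct.inl g ∈ N := ⟨g, rfl⟩
      rw [hb, Subgroup.mem_bot] at this
      exact hg (SemidirectProduct.inl_injective (this.trans (map_one _).symm))
    have hmin : ∀ M : Subgroup A, M.Normal → M ≤ N → M = ⊥ ∨ M = N := by
      intro M hM hMN
      have hc : (M.comap (SemidirectProduct.inl : G →* A)).Characteristic := by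
        refine Subgroup.characteristic_iff_le_comap.mpr fun φ x hx => ?_
        rw [Subgroup.mem_comap] at hx
        show SemidirectProduct.inl (φ x) ∈ M
        rw [show (SemidirectProduct.inl (φ x) : A) = SemidirectProduct.inr φ * SemidirectProduct.inl x * SemidirectProduct.inr φ⁻¹ from
          SemidirectProduct.inl_aut φ x, map_inv]
        exact hM.conj_mem _ hx _
      rcases h _ hc with h | h
      · left
        rw [← Subgroup.map_comap_eq_self hMN, h, Subgroup.map_bot]
      · right
        rw [← Subgroup.map_comap_eq_self hMN, h, ← MonoidHom.range_eq_map]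
    obtain ⟨T, _, m, hT, hm, ⟨e⟩⟩ := minimal_normal_eq_power N hN hmin
    exact ⟨T, _, hT, m, hm, ⟨(MonoidHom.ofInjective SemidirectProduct.inl_injective).trans e⟩⟩
  · rintro ⟨S, _, _, n, -, ⟨e⟩⟩ H hH
    have hc : (H.map e.toMonoidHom).Characteristic := by
      refine Subgroup.characteristic_iff_le_comap.mpr fun φ => ?_
      rintro _ ⟨x, hx, rfl⟩
      exact ⟨(e.trans (φ.trans e.symm)) x, Subgroup.characteristic_iff_le_comap.mp hH _ hx, by simp⟩
    rcases pi_charSimple _ hc with h | h
    · exact Or.inl ((Subgroup.map_eq_bot_iff_of_injective H e.injective).mp h)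
    · exact Or.inr (Subgroup.map_injective e.injective (by rw [h]; exact (Subgroup.map_top_of_surjective _ e.surjective).symm))

end Cfsg.Agent.S5914
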