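import Cfsg.Statements.S5938
import Cfsg.Agent.Lib.Geometry.Dickson.MaxExist
import Cfsg.Agent.S0803
-- import your own Cfsg.Agent.* helpers here

set_option autoImplicit false
open Cfsg
open scoped Matrix
open Cfsg.Agent.Lib.Geometry.Dickson

namespace Cfsg.Agent.S5938

/-- Let p be a prime with p ≡ ±1 (mod 8) and F a field with p elements. Then PSL_2(F) has a maximal subgroup isomorphic to the symmetric group S_4. -/
theorem result {F : Type*} [Field F] [Fintype F] (p : ℕ) [Fact p.Prime] (hF : Fintype.card F = p) (hp : p % 8 = 1 ∨ p % 8 = 7) : ∃ H : Subgroup (Matrix.ProjectiveSpecialLinearGroup (Fin 2) F), IsCoatom H ∧ Nonempty (H ≃* Equiv.Perm (Fin 4)) := by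
  haveI : CharP F p := charP_of_card_eq_prime hF
  have h2 : p % 2 = 1 := by omega
  obtain ⟨H, ⟨e⟩⟩ := exists_symFour (F := F) (fun h => by
    have := (CharP.cast_eq_zero_iff F p 2).mp (by exact_mod_cast h)
    have := Nat.le_of_dvd two_pos this
    have := (Fact.out : p.Prime).two_le
    omega) (FiniteField.isSquare_two_iff.mpr (by omega))
  refine ⟨H, ⟨fun ht => ?_, fun K hK => ?_⟩, ⟨e⟩⟩
  · have hc := Nat.card_congr e.toEquiv
    rw [ht, Subgroup.card_top, card_sym4] at hc
    have hG := card_PSL2_odd (F := F) (by omega)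
    rw [hc, hF] at hG
    have h7 : 7 ≤ p := by have := (Fact.out : p.Prime).two_le; omega
    have : 7 * (7 ^ 2 - 1) ≤ p * (p ^ 2 - 1) :=
      Nat.mul_le_mul h7 (Nat.sub_le_sub_right (Nat.pow_le_pow_left h7 2) 1)
    omega
  · obtain ⟨w1, x, y, w2⟩ := witnesses_sym4
    have hne : ∀ {X : Type}, [Group X] → (K ≃* X) → Nat.card X ≠ 24 ∧ 24 ∣ Nat.card X := fun f => by
      rw [← Nat.card_congr f.toEquiv, ← card_sym4, ← Nat.card_congr e.toEquiv]
      exact ⟨fun h => hK.ne (Subgroup.eq_of_le_of_card_ge hK.le h.le), Subgroup.card_dvd_of_le hK.le⟩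
    rcases overgroup_cases p e w1 ⟨x, y, fun h => by
      rw [w2] at h
      have := (Nat.prime_dvd_prime_iff_eq Nat.prime_two Fact.out).mp h
      omega⟩ hK.le with h | ⟨⟨f⟩⟩ | ⟨⟨f⟩⟩ | ⟨⟨f⟩⟩ | ⟨L, hL, -⟩
    · exact h
    · have := (hne f).2; rw [card_alt4] at this; omega
    · exact absurd card_sym4 (hne f).1
    · have := (hne f).2; rw [card_alt5] at this; omega
    · exact absurd (subfield_eq_top_of_prime (hF ▸ Fact.out) L) hL

end Cfsg.Agent.S5938
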