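import Cfsg.Statements.S5939
import Cfsg.Agent.Lib.Geometry.Dickson.MaxExist
import Cfsg.Agent.S0803
-- import your own Cfsg.Agent.* helpers here

set_option autoImplicit false
open Cfsg
open scoped Matrix
open Cfsg.Agent.Lib.Geometry.Dickson

namespace Cfsg.Agent.S5939

/-- Let p be a prime and F a finite field of characteristic p such that either F has p elements and p ≡ ±1 (mod 10), or F has p² elements and p ≡ ±3 (mod 10). Then PSL_2(F) has a maximal subgroup isomorphic to the alternating group A_5. -/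
theorem result {F : Type*} [Field F] [Fintype F] (p : ℕ) [Fact p.Prime] [CharP F p] (h : (Fintype.card F = p ∧ (p % 10 = 1 ∨ p % 10 = 9)) ∨ (Fintype.card F = p ^ 2 ∧ (p % 10 = 3 ∨ p % 10 = 7))) : ∃ H : Subgroup (Matrix.ProjectiveSpecialLinearGroup (Fin 2) F), IsCoatom H ∧ Nonempty (H ≃* alternatingGroup (Fin 5)) := by
  have hp7 : 3 ≤ p ∧ p ≠ 5 ∧ p % 2 = 1 := by
    have := (Fact.out : p.Prime).two_le
    omega
  have hq : 5 ∣ Fintype.card F * (Fintype.card F ^ 2 - 1) ∧ Fintype.card F % 2 = 1 ∧ 9 ≤ Fintype.card F := by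
    have h1 : ∀ q : ℕ, (q % 5 = 1 ∨ q % 5 = 4) → 5 ∣ q * (q ^ 2 - 1) := fun q hq => by
      refine dvd_mul_of_dvd_right ?_ _
      have := Nat.pow_mod q 2 5
      rcases hq with h | h <;> rw [h] at this <;> norm_num at this <;> omega
    rcases h with ⟨hc, h⟩ | ⟨hc, h⟩ <;> rw [hc]
    · exact ⟨h1 p (by omega), by omega, by have := (Fact.out : p.Prime).two_le; omega⟩
    · refine ⟨h1 _ ?_, by rw [Nat.pow_mod, hp7.2.2], Nat.pow_le_pow_left hp7.1 2⟩
      have := Nat.pow_mod p 2 5
      rcases h with h | h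
      · rw [show p % 5 = 3 by omega] at this; omega
      · rw [show p % 5 = 2 by omega] at this; omega
  obtain ⟨H, ⟨e⟩⟩ := exists_altFive_of_dvd hq.1
  have hG := card_PSL2_odd (F := F) hq.2.1
  refine ⟨H, ⟨fun ht => ?_, fun K hK => ?_⟩, ⟨e⟩⟩
  · have hc := Nat.card_congr e.toEquiv
    rw [ht, Subgroup.card_top, card_alt5] at hc
    rw [hc] at hG
    have : 9 * (9 ^ 2 - 1) ≤ Fintype.card F * (Fintype.card F ^ 2 - 1) :=
      Nat.mul_le_mul hq.2.2 (Nat.sub_le_sub_right (Nat.pow_le_pow_left hq.2.2 2) 1)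
    omega
  · obtain ⟨w1, ⟨x₂, y₂, w2⟩, x₃, y₃, w3⟩ := witnesses_alt5
    have hdvd : 60 ∣ Nat.card K := card_alt5 ▸ Nat.card_congr e.toEquiv ▸ Subgroup.card_dvd_of_le hK.le
    rcases overgroup_cases p e w1 ⟨x₂, y₂, fun hd => by
      rw [w2] at hd
      have := (Nat.prime_dvd_prime_iff_eq Nat.prime_two Fact.out).mp hd
      omega⟩ hK.le with h' | ⟨⟨f⟩⟩ | ⟨⟨f⟩⟩ | ⟨⟨f⟩⟩ | ⟨L, hL, hiso⟩
    · exact h'
    · rw [Nat.card_congr f.toEquiv, card_alt4] at hdvd; omega
    · rw [Nat.card_congr f.toEquiv, card_sym4] at hdvd; omega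
    · exact absurd (Subgroup.eq_of_le_of_card_ge hK.le (by
        rw [Nat.card_congr f.toEquiv, Nat.card_congr e.toEquiv])) hK.ne
    · exfalso
      rcases h with ⟨hc, -⟩ | ⟨hc, h⟩
      · exact hL (subfield_eq_top_of_prime (hc ▸ Fact.out) L)
      classical
      haveI := Fintype.ofFinite L
      have hr : Fintype.card L = p := by
        have h1 := sq_le_of_subfield L hL
        rw [Nat.card_eq_fintype_card, hc] at h1
        have h2 : Fintype.card L ∣ p ^ 2 := by
          rw [← hc, Module.card_eq_pow_finrank (K := L) (V := F)]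
          exact dvd_pow_self _ (Module.finrank_pos (R := L) (M := F)).ne'
        have hL1 : 1 < Fintype.card L := Fintype.one_lt_card
        obtain ⟨i, hi, hLi⟩ := (Nat.dvd_prime_pow Fact.out).mp h2
        interval_cases i
        · rw [pow_zero] at hLi; omega
        · simpa using hLi
        · rw [hLi] at h1
          have := Nat.pow_le_pow_left (Nat.pow_le_pow_left hp7.1 2) 2
          nlinarith
      have hdiv : Nat.card K ∣ p * (p ^ 2 - 1) := by
        rw [← hr, ← Cfsg.Agent.Lib.Classical.card_SL2]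
        rcases hiso with ⟨⟨f⟩⟩ | ⟨⟨f⟩⟩ <;> rw [Nat.card_congr f.toEquiv]
        · exact Subgroup.card_dvd_of_surjective _ (Cfsg.Agent.Lib.SL2Trace.toPSL_surjective (F := L))
        · rw [Cfsg.Agent.Lib.Classical.card_PGL]
      have := five_dvd_sq_sub_one (((by norm_num : 5 ∣ 60)).trans (hdvd.trans hdiv)) (by omega)
      omega

end Cfsg.Agent.S5939
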