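import Cfsg.Statements.S5940
import Cfsg.Agent.Lib.Geometry.Dickson.MaxExist
import Cfsg.Agent.S0803
-- import your own Cfsg.Agent.* helpers here

set_option autoImplicit false
open Cfsg
open scoped Matrix
open Cfsg.Agent.Lib.Geometry.Dickson

namespace Cfsg.Agent.S5940

/-- Let p ≥ 5 be a prime with p ≡ ±3 (mod 8) and p ≢ ±1 (mod 10), and F a field with p elements. Then PSL_2(F) has a maximal subgroup isomorphic to the alternating group A_4. -/
theorem result {F : Type*} [Field F] [Fintype F] (p : ℕ) [Fact p.Prime] (hF : Fintype.card F = p) (h5 : 5 ≤ p) (h8 : p % 8 = 3 ∨ p % 8 = 5) (h10 : p % 10 ≠ 1 ∧ p % 10 ≠ 9) : ∃ H : Subgroup (Matrix.ProjectiveSpecialLinearGroup (Fin 2) F), IsCoatom H ∧ Nonempty (H ≃* alternatingGroup (Fin 4)) := by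
  haveI : CharP F p := charP_of_card_eq_prime hF
  obtain ⟨H, ⟨e⟩⟩ := exists_altFour (F := F) (fun h => by
    have := (CharP.cast_eq_zero_iff F p 2).mp (by exact_mod_cast h)
    have := Nat.le_of_dvd two_pos this
    omega)
  have hG := card_PSL2_odd (F := F) (by omega)
  rw [hF] at hG
  refine ⟨H, ⟨fun ht => ?_, fun K hK => ?_⟩, ⟨e⟩⟩
  · have hc := Nat.card_congr e.toEquiv
    rw [ht, Subgroup.card_top, card_alt4] at hc
    have : 5 * (5 ^ 2 - 1) ≤ p * (p ^ 2 - 1) :=
      Nat.mul_le_mul h5 (Nat.sub_le_sub_right (Nat.pow_le_pow_left h5 2) 1)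
    omega
  · obtain ⟨w1, x, y, w2⟩ := witnesses_alt4
    rcases overgroup_cases p e w1 ⟨x, y, fun h => by
      rw [w2] at h
      have := (Nat.prime_dvd_prime_iff_eq Nat.prime_two Fact.out).mp h
      omega⟩ hK.le with h | ⟨⟨f⟩⟩ | h | ⟨⟨f⟩⟩ | ⟨L, hL, -⟩
    · exact h
    · exact absurd (Subgroup.eq_of_le_of_card_ge hK.le (by
        rw [Nat.card_congr f.toEquiv, Nat.card_congr e.toEquiv])) hK.ne
    · have := (Cfsg.Agent.S0803.result (F := F) rfl).mp ⟨K, h⟩
      rw [q_mod_eight_iff, hF] at this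
      omega
    · have h60 : Nat.card K = 60 := (Nat.card_congr f.toEquiv).trans card_alt5
      have hp5 : 5 ∣ p * (p ^ 2 - 1) := hG ▸ dvd_mul_of_dvd_right
        ((h60 ▸ (by norm_num : 5 ∣ 60)).trans K.card_subgroup_dvd_card) _
      by_cases hp : p % 5 = 0
      · have : 5 = p := ((Fact.out : p.Prime).eq_one_or_self_of_dvd 5 (Nat.dvd_of_mod_eq_zero hp)).resolve_left (by norm_num)
        refine Subgroup.eq_top_of_le_card K ?_
        subst this
        omega
      · exfalso
        have := five_dvd_sq_sub_one hp5 hp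
        omega
    · exact absurd (subfield_eq_top_of_prime (hF ▸ Fact.out) L) hL

end Cfsg.Agent.S5940
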