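import Cfsg.Statements.S5941
import Cfsg.Agent.Lib.Geometry.Dickson.SubMax
import Cfsg.Agent.S0803
import Cfsg.Agent.S0804
import Cfsg.Agent.S0805
-- import your own Cfsg.Agent.* helpers here

set_option autoImplicit false
open Cfsg
open scoped Matrix
open Cfsg.Agent.Lib.Geometry.Dickson

namespace Cfsg.Agent.S5941

/-- Let K and F be finite fields of odd characteristic with #F = (#K)². Then PSL_2(F) has a maximal subgroup isomorphic to PGL_2(K). -/
theorem result {F K : Type*} [Field F] [Fintype F] [Field K] [Fintype K] (q : ℕ) (hK : Fintype.card K = q) (hF : Fintype.card F = q ^ 2) (hq : Odd q) : ∃ H : Subgroup (Matrix.ProjectiveSpecialLinearGroup (Fin 2) F), IsCoatom H ∧ Nonempty (H ≃* Matrix.ProjGenLinGroup (Fin 2) K) := by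
  classical
  obtain ⟨p, hp⟩ := CharP.exists F
  haveI : Fact p.Prime := ⟨CharP.char_is_prime F p⟩
  subst hK
  have hr3 : 3 ≤ Fintype.card K := by
    have := Fintype.one_lt_card (α := K)
    rw [Nat.odd_iff] at hq
    omega
  have hodd : Odd (Fintype.card F) := hF ▸ hq.pow
  obtain ⟨H₀, ⟨e⟩⟩ := ((Cfsg.Agent.S0805.result (F := F) (K := K) rfl hodd 2 one_le_two hF.symm).2).mpr ⟨1, rfl⟩
  obtain ⟨σ⟩ := exists_ringHom (K := K) (F := F) 2 hF.symm
  have h2F : ringChar F ≠ 2 := fun h => by
    have := FiniteField.even_card_of_char_two h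
    rw [Nat.odd_iff] at hodd
    omega
  obtain ⟨H, hle, ⟨eH⟩⟩ := exists_pgl_range σ fun d => by
    rcases eq_or_ne d 0 with rfl | hd
    · rw [map_zero]; exact IsSquare.zero
    rw [FiniteField.isSquare_iff h2F (fun h => hd (σ.injective (h.trans (map_zero σ).symm))), ← map_pow]
    have hdiv : Fintype.card K - 1 ∣ Fintype.card F / 2 := by
      obtain ⟨j, hj⟩ : ∃ j, Fintype.card K = 2 * j + 1 := by rw [Nat.odd_iff] at hq; exact ⟨Fintype.card K / 2, by omega⟩
      refine ⟨j + 1, ?_⟩
      rw [hF, hj, show (2 * j + 1) ^ 2 = 2 * (2 * j * (j + 1)) + 1 by ring, Nat.add_sub_cancel]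
      omega
    obtain ⟨c, hc⟩ := hdiv
    rw [hc, pow_mul, FiniteField.pow_card_sub_one_eq_one d hd, one_pow, map_one]
  have hcH : Nat.card H = Fintype.card K * (Fintype.card K ^ 2 - 1) := by
    rw [Nat.card_congr eH.toEquiv, Cfsg.Agent.Lib.Classical.card_PGL, Cfsg.Agent.Lib.Classical.card_SL2]
  refine ⟨H, ⟨fun ht => ?_, fun M hM => ?_⟩, ⟨eH⟩⟩
  · rw [ht, Subgroup.card_top] at hcH
    have hG := card_PSL2_odd (F := F) (Nat.odd_iff.mp hodd)
    rw [hcH, hF, ← pow_mul] at hG
    have h1 : Fintype.card K ^ 2 - 1 ≤ Fintype.card K ^ (2 * 2) - 1 :=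
      Nat.sub_le_sub_right (Nat.pow_le_pow_right (by omega) (by norm_num)) 1
    have h2 : Fintype.card K * 3 ≤ Fintype.card K ^ 2 := by rw [sq]; exact Nat.mul_le_mul_left _ hr3
    have h3 : Fintype.card K * 3 * (Fintype.card K ^ 2 - 1) ≤ Fintype.card K ^ 2 * (Fintype.card K ^ (2 * 2) - 1) :=
      Nat.mul_le_mul h2 h1
    have h4 : 0 < Fintype.card K * (Fintype.card K ^ 2 - 1) :=
      Nat.mul_pos (by omega) (Nat.sub_pos_of_lt (Nat.one_lt_pow two_ne_zero (by omega)))
    rw [← hG, show Fintype.card K * 3 * (Fintype.card K ^ 2 - 1) = 3 * (Fintype.card K * (Fintype.card K ^ 2 - 1)) by ring] at h3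
    omega
  · by_contra hne
    have hlt : Nat.card H < Nat.card M := by
      by_contra h
      exact hM.ne (Subgroup.eq_of_le_of_card_ge hM.le (by omega))
    have hdvd : Nat.card H ∣ Nat.card M := Subgroup.card_dvd_of_le hM.le
    rw [hcH] at hlt hdvd
    rcases overgroup_subfield p σ (one_ne_zero (α := K)) (fun h => by
      have h2 : (2 : F) = 0 := by
        have := congrArg σ h
        rw [map_add, map_one, map_zero] at this
        linear_combination this
      exact Ring.two_ne_zero h2F h2) (hle.trans hM.le) with h | ⟨L, hLt, hL, hiso⟩ | ⟨⟨f⟩⟩ | ⟨⟨f⟩⟩ | ⟨⟨f⟩⟩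
    · exact hne h
    · have h1 := card_le_of_subfield L hiso
      rw [card_intermediate σ Nat.prime_two hF.symm L hL hLt] at h1
      omega
    all_goals
      rw [Nat.card_congr f.toEquiv] at hlt hdvd
      first | rw [card_alt4] at hlt hdvd | rw [card_sym4] at hlt hdvd | rw [card_alt5] at hlt hdvd
      rcases Nat.lt_or_ge (Fintype.card K) 5 with h5 | h5
      · rw [show Fintype.card K = 3 by rw [Nat.odd_iff] at hq; omega] at hlt hdvd
        omega
      · have : 5 * (5 ^ 2 - 1) ≤ Fintype.card K * (Fintype.card K ^ 2 - 1) :=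
          Nat.mul_le_mul h5 (Nat.sub_le_sub_right (Nat.pow_le_pow_left h5 2) 1)
        omega

end Cfsg.Agent.S5941
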