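import Cfsg.Statements.S5942
import Cfsg.Agent.Lib.Geometry.Dickson.SubMax
import Cfsg.Agent.S0803
import Cfsg.Agent.S0804
import Cfsg.Agent.S0805
-- import your own Cfsg.Agent.* helpers here

set_option autoImplicit false
open Cfsg
open scoped Matrix
open Cfsg.Agent.Lib.Geometry.Dickson

namespace Cfsg.Agent.S5942

/-- Let K and F be finite fields of odd characteristic with #F = (#K)^r for an odd prime r. Then PSL_2(F) has a maximal subgroup isomorphic to PSL_2(K). -/
theorem result {F K : Type*} [Field F] [Fintype F] [Field K] [Fintype K] (q r : ℕ) (hK : Fintype.card K = q) (hF : Fintype.card F = q ^ r) (hq : Odd q) (hr : r.Prime) (hr2 : r ≠ 2) : ∃ H : Subgroup (Matrix.ProjectiveSpecialLinearGroup (Fin 2) F), IsCoatom H ∧ Nonempty (H ≃* Matrix.ProjectiveSpecialLinearGroup (Fin 2) K) := by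
  classical
  obtain ⟨p, hp⟩ := CharP.exists F
  haveI : Fact p.Prime := ⟨CharP.char_is_prime F p⟩
  subst hK
  obtain ⟨σ⟩ := exists_ringHom (K := K) (F := F) r hF.symm
  have hqo := Nat.odd_iff.mp hq
  have hr3 : 3 ≤ Fintype.card K := by
    have := Fintype.one_lt_card (α := K)
    omega
  have hodd : Odd (Fintype.card F) := hF ▸ hq.pow
  have hqmod := Nat.odd_iff.mp hodd
  obtain ⟨e⟩ := pslRange_equiv σ
  have hG := card_PSL2_odd (F := F) hqmod
  have hcH : 2 * Nat.card (pslRange σ) = Fintype.card K * (Fintype.card K ^ 2 - 1) := by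
    rw [Nat.card_congr e.toEquiv, card_PSL2_odd hqo]
  refine ⟨pslRange σ, ⟨fun ht => ?_, fun M hM => ?_⟩, ⟨e⟩⟩
  · rw [ht, Subgroup.card_top, hG, hF] at hcH
    have h1 : Fintype.card K < Fintype.card K ^ r := lt_self_pow₀ (by omega) hr.one_lt
    have h2 : Fintype.card K ^ 2 - 1 ≤ (Fintype.card K ^ r) ^ 2 - 1 :=
      Nat.sub_le_sub_right (Nat.pow_le_pow_left h1.le 2) 1
    have h3 : Fintype.card K * (Fintype.card K ^ 2 - 1) < Fintype.card K ^ r * ((Fintype.card K ^ r) ^ 2 - 1) :=
      Nat.mul_lt_mul_of_lt_of_le h1 h2 (Nat.sub_pos_of_lt (Nat.one_lt_pow two_ne_zero (by omega)))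
    omega
  · by_contra hne
    have hlt : Nat.card (pslRange σ) < Nat.card M := by
      by_contra h
      exact hM.ne (Subgroup.eq_of_le_of_card_ge hM.le (by omega))
    have h2F : ringChar F ≠ 2 := fun h => by
      have := FiniteField.even_card_of_char_two h
      omega
    rcases overgroup_subfield p σ (one_ne_zero (α := K)) (fun h => by
      have h2 : (2 : F) = 0 := by
        have := congrArg σ h
        rw [map_add, map_one, map_zero] at this
        linear_combination this
      exact Ring.two_ne_zero h2F h2) hM.le with h | ⟨L, hLt, hL, hiso⟩ | ⟨⟨f⟩⟩ | h | h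
    · exact hne h
    · have hcL := card_intermediate σ hr hF.symm L hL hLt
      haveI := Fintype.ofFinite L
      rw [Nat.card_eq_fintype_card] at hcL
      rcases hiso with ⟨⟨f⟩⟩ | ⟨⟨f⟩⟩
      · rw [Nat.card_congr f.toEquiv, Nat.card_congr (Cfsg.Agent.Lib.Classical.pslCongrOfCardEq hcL).toEquiv,
          Nat.card_congr e.toEquiv] at hlt
        omega
      · have hev := ((Cfsg.Agent.S0805.result (F := F) (K := L) rfl hodd r hr.one_lt.le (by rw [hcL, hF])).2).mp
          ⟨M, ⟨f⟩⟩
        exact hr2 ((hr.eq_one_or_self_of_dvd 2 (even_iff_two_dvd.mp hev)).resolve_left (by norm_num)).symm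
    · rw [Nat.card_congr f.toEquiv, card_alt4] at hlt
      have : 3 * (3 ^ 2 - 1) ≤ Fintype.card K * (Fintype.card K ^ 2 - 1) :=
        Nat.mul_le_mul hr3 (Nat.sub_le_sub_right (Nat.pow_le_pow_left hr3 2) 1)
      omega
    all_goals
      obtain ⟨f⟩ := h
      have hc := Nat.card_congr f.toEquiv
      first | rw [card_sym4] at hc | rw [card_alt5] at hc
      rcases Nat.lt_or_ge (Fintype.card K) 5 with h5 | h5
      · obtain ⟨j, hj⟩ := hr.odd_of_ne_two hr2
        have h3 : Fintype.card F = 3 * 9 ^ j := by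
          rw [hF, show Fintype.card K = 3 by omega, hj, pow_succ, pow_mul]; ring
        first
          | have h8 := (Cfsg.Agent.S0803.result (F := F) rfl).mp ⟨M, ⟨f⟩⟩
            rw [q_mod_eight_iff, h3] at h8
            have : 9 ^ j % 8 = 1 := by rw [Nat.pow_mod]; simp
            omega
          | have h5 := (Cfsg.Agent.S0804.result (F := F) rfl).mp ⟨M, ⟨f⟩⟩
            rw [h3] at h5
            have h9 : 9 ^ j % 5 = 1 ∨ 9 ^ j % 5 = 4 := by
              clear * -
              induction j with
              | zero => simp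
              | succ j ih => rw [pow_succ]; omega
            have := five_dvd_sq_sub_one h5 (by omega)
            omega
      · have : 5 * (5 ^ 2 - 1) ≤ Fintype.card K * (Fintype.card K ^ 2 - 1) :=
          Nat.mul_le_mul h5 (Nat.sub_le_sub_right (Nat.pow_le_pow_left h5 2) 1)
        omega

end Cfsg.Agent.S5942
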