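import Cfsg.Statements.S5943
import Cfsg.Agent.Lib.Geometry.Dickson.SubMax
import Cfsg.Agent.S0803
import Cfsg.Agent.S0804
import Cfsg.Agent.S0805
-- import your own Cfsg.Agent.* helpers here

set_option autoImplicit false
open Cfsg
open scoped Matrix
open Cfsg.Agent.Lib.Geometry.Dickson

namespace Cfsg.Agent.S5943

/-- Let K and F be finite fields of characteristic 2 with #K = q > 2 and #F = q^r for a prime r. Then PSL_2(F) has a maximal subgroup isomorphic to PSL_2(K) (which equals PGL_2(K) in characteristic 2). -/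
theorem result {F K : Type*} [Field F] [Fintype F] [Field K] [Fintype K] (q r : ℕ) (hK : Fintype.card K = q) (hF : Fintype.card F = q ^ r) (hq : Even q) (hq2 : q ≠ 2) (hr : r.Prime) : ∃ H : Subgroup (Matrix.ProjectiveSpecialLinearGroup (Fin 2) F), IsCoatom H ∧ Nonempty (H ≃* Matrix.ProjectiveSpecialLinearGroup (Fin 2) K) := by
  classical
  obtain ⟨p, hp⟩ := CharP.exists F
  haveI : Fact p.Prime := ⟨CharP.char_is_prime F p⟩
  subst hK
  obtain ⟨σ⟩ := exists_ringHom (K := K) (F := F) r hF.symm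
  have hqe := Nat.even_iff.mp hq
  have hr4 : 4 ≤ Fintype.card K := by
    have := Fintype.one_lt_card (α := K)
    omega
  have hFe : Fintype.card F % 2 = 0 := by simp [hF, Nat.pow_mod, hqe, zero_pow hr.ne_zero]
  obtain ⟨e⟩ := pslRange_equiv σ
  have hgK : Nat.gcd 2 (Fintype.card K - 1) = 1 := Nat.coprime_two_left.mpr (Nat.odd_iff.mpr (by omega))
  have hgF : Nat.gcd 2 (Fintype.card F - 1) = 1 := Nat.coprime_two_left.mpr (Nat.odd_iff.mpr (by
    have := Fintype.one_lt_card (α := F); omega))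
  have hcH : Nat.card (pslRange σ) = Fintype.card K * (Fintype.card K ^ 2 - 1) := by
    have := Cfsg.Agent.Lib.Classical.card_PSL2_mul (F := K)
    rw [hgK, one_mul] at this
    rw [Nat.card_congr e.toEquiv, this]
  have hG := Cfsg.Agent.Lib.Classical.card_PSL2_mul (F := F)
  rw [hgF, one_mul] at hG
  have h60 : 60 ≤ Fintype.card K * (Fintype.card K ^ 2 - 1) :=
    le_trans (by norm_num) (Nat.mul_le_mul hr4 (Nat.sub_le_sub_right (Nat.pow_le_pow_left hr4 2) 1))
  refine ⟨pslRange σ, ⟨fun ht => ?_, fun M hM => ?_⟩, ⟨e⟩⟩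
  · rw [ht, Subgroup.card_top, hG, hF] at hcH
    have h1 : Fintype.card K < Fintype.card K ^ r := lt_self_pow₀ (by omega) hr.one_lt
    have h2 : Fintype.card K ^ 2 - 1 ≤ (Fintype.card K ^ r) ^ 2 - 1 :=
      Nat.sub_le_sub_right (Nat.pow_le_pow_left h1.le 2) 1
    have h3 : Fintype.card K * (Fintype.card K ^ 2 - 1) < Fintype.card K ^ r * ((Fintype.card K ^ r) ^ 2 - 1) :=
      Nat.mul_lt_mul_of_lt_of_le h1 h2 (Nat.sub_pos_of_lt (Nat.one_lt_pow two_ne_zero (by omega)))
    omega
  · by_contra hne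
    have hlt : Nat.card (pslRange σ) < Nat.card M := by
      by_contra h
      exact hM.ne (Subgroup.eq_of_le_of_card_ge hM.le (by omega))
    rw [hcH] at hlt
    obtain ⟨μ, hμ⟩ : ∃ μ : K, μ ∉ ({0, -1} : Finset K) := by
      by_contra hc
      push Not at hc
      have h := Finset.card_le_card (fun x _ => hc x : (Finset.univ : Finset K) ⊆ {0, -1})
      have h2 := Finset.card_le_two (a := (0 : K)) (b := -1)
      rw [Finset.card_univ] at h
      omega
    simp only [Finset.mem_insert, Finset.mem_singleton, not_or] at hμ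
    rcases overgroup_subfield p σ hμ.1 (fun h => hμ.2 (eq_neg_of_add_eq_zero_right h)) hM.le with
      h | ⟨L, hLt, hL, hiso⟩ | ⟨⟨f⟩⟩ | ⟨⟨f⟩⟩ | ⟨⟨f⟩⟩
    · exact hne h
    · have h1 := card_le_of_subfield L hiso
      rw [card_intermediate σ hr hF.symm L hL hLt] at h1
      omega
    all_goals
      rw [Nat.card_congr f.toEquiv] at hlt
      first | rw [card_alt4] at hlt | rw [card_sym4] at hlt | rw [card_alt5] at hlt
      omega

end Cfsg.Agent.S5943
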