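import Cfsg.Statements.S5944


set_option autoImplicit false
open Cfsg

namespace Cfsg.Agent.S5944

/-- For n ≠ 4, every proper subgroup of the symmetric group S_n other than the alternating group A_n has index at least n. -/
theorem result (n : ℕ) (hn : n ≠ 4) (H : Subgroup (Equiv.Perm (Fin n))) (hH : H ≠ ⊤) (hA : H ≠ alternatingGroup (Fin n)) : n ≤ H.index := by
  by_contra hlt
  rw [not_le] at hlt
  have hpos : 0 < H.index := Nat.pos_of_ne_zero Subgroup.index_ne_zero_of_finite
  have hne1 : H.index ≠ 1 := fun h => hH (Subgroup.index_eq_one.mp h)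
  have hne2 : H.index ≠ 2 := fun h => hA (Equiv.Perm.eq_alternatingGroup_of_index_eq_two h)
  have h5 : 5 ≤ n := by omega
  haveI : IsSimpleGroup (alternatingGroup (Fin n)) := alternatingGroup.isSimpleGroup (by simp; omega)
  haveI : Nontrivial (Fin n) := Fin.nontrivial_iff_two_le.mpr (by omega)
  have hcardA : 2 * Nat.card (alternatingGroup (Fin n)) = n.factorial := by
    rw [two_mul_nat_card_alternatingGroup, Nat.card_perm, Nat.card_eq_fintype_card, Fintype.card_fin]
  rcases IsSimpleGroup.eq_bot_or_eq_top_of_normal
    (H.normalCore.subgroupOf (alternatingGroup (Fin n))) inferInstance with hb | ht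
  · have hd := H.normalCore.relIndex_dvd_index_of_normal (alternatingGroup (Fin n))
    rw [show H.normalCore.relIndex (alternatingGroup (Fin n)) =
      (H.normalCore.subgroupOf (alternatingGroup (Fin n))).index from rfl, hb, Subgroup.index_bot] at hd
    have hle1 := Nat.le_of_dvd (Nat.pos_of_ne_zero Subgroup.index_ne_zero_of_finite) hd
    have hinj := Nat.card_congr (QuotientGroup.quotientKerEquivRange
      (MulAction.toPermHom (Equiv.Perm (Fin n)) (Equiv.Perm (Fin n) ⧸ H))).toEquiv
    rw [← Subgroup.normalCore_eq_ker, ← Subgroup.index_eq_card] at hinj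
    have hle2 : H.normalCore.index ≤ H.index.factorial := by
      rw [hinj]
      refine le_trans (Subgroup.card_le_card_group _) ?_
      rw [Nat.card_perm, ← Subgroup.index_eq_card]
    have hle3 : H.index.factorial ≤ (n - 1).factorial := Nat.factorial_le (by omega)
    have hn : n.factorial = n * (n - 1).factorial := (Nat.mul_factorial_pred (by omega)).symm
    have := Nat.factorial_pos (n - 1)
    nlinarith
  · rw [Subgroup.subgroupOf_eq_top] at ht
    have h := Nat.le_of_dvd (by rw [alternatingGroup.index_eq_two]; omega)
      (Subgroup.index_dvd_of_le (ht.trans H.normalCore_le))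
    rw [alternatingGroup.index_eq_two] at h
    omega

end Cfsg.Agent.S5944
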