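import Cfsg.Statements.S5945
import Cfsg.Agent.Lib.MaxSub.SymSix

set_option autoImplicit false
open Cfsg

namespace Cfsg.Agent.S5945

open Cfsg.Agent.Lib.MaxSub

/-- The symmetric group S_6 has exactly 12 subgroups of index 6; each of them is isomorphic to S_5, and at least one of them is not the stabilizer of any point. -/
theorem result : Nat.card {H : Subgroup (Equiv.Perm (Fin 6)) // H.index = 6} = 12 ∧ (∀ H : Subgroup (Equiv.Perm (Fin 6)), H.index = 6 → Nonempty (H ≃* Equiv.Perm (Fin 5))) ∧ ∃ H : Subgroup (Equiv.Perm (Fin 6)), H.index = 6 ∧ ∀ a : Fin 6, H ≠ MulAction.stabilizer (Equiv.Perm (Fin 6)) a := by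
  classical
  obtain ⟨ψ, hψ, hψi, hψn⟩ := SymSix.exists_exotic
  set K := ψ.range with hK
  have key : ∀ H : Subgroup (Equiv.Perm (Fin 6)), H.index = 6 →
      (∃ x, H = MulAction.stabilizer (Equiv.Perm (Fin 6)) x) ∨
        ∃ g : Equiv.Perm (Fin 6), K.map (MulAut.conj g).toMonoidHom = H := fun H hH =>
    or_iff_not_imp_left.mpr fun h => SymSix.conj_of_noFix hψi hH hψn (fun x hx => h ⟨x, hx⟩)
  refine ⟨?_, fun H hH => ?_, K, hψi, hψn⟩
  · let N := Subgroup.normalizer (K : Set (Equiv.Perm (Fin 6)))
    have hKN : K ≤ N := Subgroup.le_normalizer
    have hconj : ∀ g k : Equiv.Perm (Fin 6),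
        K.map (MulAut.conj g).toMonoidHom = K.map (MulAut.conj k).toMonoidHom ↔ g⁻¹ * k ∈ N := by
      intro g k
      rw [Subgroup.mem_normalizer_iff]
      constructor
      · intro h x
        have hh := SetLike.ext_iff.mp h (k * x * k⁻¹)
        rw [SymSix.mem_map_conj, SymSix.mem_map_conj] at hh
        simpa [mul_assoc] using hh.symm
      · intro h
        ext x
        rw [SymSix.mem_map_conj, SymSix.mem_map_conj]
        have hh := h (k⁻¹ * x * k)
        rw [hh]
        simp [mul_assoc]
    have hN : K = N := by
      refine le_antisymm hKN ?_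
      intro g hg
      by_contra hgK
      have hd := Subgroup.index_dvd_of_le hKN
      rw [hψi] at hd
      have h1 := Nat.le_of_dvd (by norm_num) hd
      have hpos : 0 < N.index := Nat.pos_of_ne_zero Subgroup.index_ne_zero_of_finite
      by_cases h6 : N.index = 6
      · exact hgK ((Subgroup.eq_of_le_of_card_ge hKN (by
          have e1 := N.card_mul_index
          have e2 := K.card_mul_index
          rw [h6] at e1; rw [hψi] at e2
          omega)).symm ▸ hg)
      haveI : IsSimpleGroup (alternatingGroup (Fin 6)) := alternatingGroup.isSimpleGroup (by simp)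
      have hA : 2 * Nat.card (alternatingGroup (Fin 6)) = 720 := by
        rw [two_mul_nat_card_alternatingGroup, Nat.card_perm, Nat.card_eq_fintype_card, Fintype.card_fin]
        rfl
      rcases IsSimpleGroup.eq_bot_or_eq_top_of_normal
        (N.normalCore.subgroupOf (alternatingGroup (Fin 6))) inferInstance with hb | ht
      · have hd' := N.normalCore.relIndex_dvd_index_of_normal (alternatingGroup (Fin 6))
        rw [show N.normalCore.relIndex (alternatingGroup (Fin 6)) =
          (N.normalCore.subgroupOf (alternatingGroup (Fin 6))).index from rfl, hb, Subgroup.index_bot] at hd'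
        have hle1 := Nat.le_of_dvd (Nat.pos_of_ne_zero Subgroup.index_ne_zero_of_finite) hd'
        have hinj := Nat.card_congr (QuotientGroup.quotientKerEquivRange
          (MulAction.toPermHom (Equiv.Perm (Fin 6)) (Equiv.Perm (Fin 6) ⧸ N))).toEquiv
        rw [← Subgroup.normalCore_eq_ker, ← Subgroup.index_eq_card] at hinj
        have hle2 : N.normalCore.index ≤ Nat.factorial 3 := by
          rw [hinj]
          refine le_trans (Subgroup.card_le_card_group _) ?_
          rw [Nat.card_perm, ← Subgroup.index_eq_card]
          refine Nat.factorial_le ?_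
          have : N.index ∣ 6 := hd
          interval_cases h : N.index <;> omega
        norm_num [Nat.factorial] at hle2
        omega
      · rw [Subgroup.subgroupOf_eq_top] at ht
        have hAN := ht.trans N.normalCore_le
        have hKn : (K.subgroupOf (alternatingGroup (Fin 6))).Normal :=
          ⟨fun k hk a => (Subgroup.mem_normalizer_iff.mp (hAN a.2) k.1).mp hk⟩
        rcases IsSimpleGroup.eq_bot_or_eq_top_of_normal (K.subgroupOf (alternatingGroup (Fin 6))) hKn with
          hb2 | ht2
        · have h12 := Subgroup.index_inf_le (H := K) (K := alternatingGroup (Fin 6))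
          rw [hψi, alternatingGroup.index_eq_two] at h12
          have h0 : K ⊓ alternatingGroup (Fin 6) = ⊥ := by
            rw [inf_comm, ← disjoint_iff, ← Subgroup.subgroupOf_eq_bot.trans disjoint_comm]
            exact hb2
          rw [h0, Subgroup.index_bot, Nat.card_perm, Nat.card_eq_fintype_card, Fintype.card_fin] at h12
          norm_num [Nat.factorial] at h12
        · rw [Subgroup.subgroupOf_eq_top] at ht2
          have h2 := Nat.le_of_dvd (by rw [alternatingGroup.index_eq_two]; omega) (Subgroup.index_dvd_of_le ht2)
          rw [hψi, alternatingGroup.index_eq_two] at h2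
          omega
    let F : Fin 6 ⊕ (Equiv.Perm (Fin 6) ⧸ N) → {H : Subgroup (Equiv.Perm (Fin 6)) // H.index = 6} :=
      fun p => p.elim (fun x => ⟨_, SymSix.index_stab x⟩) (fun q => Quotient.liftOn' q
        (fun g => ⟨K.map (MulAut.conj g).toMonoidHom, (SymSix.map_conj_index K g).trans hψi⟩)
        (fun a b h => Subtype.ext ((hconj a b).mpr (QuotientGroup.leftRel_apply.mp h))))
    have hF : Function.Bijective F := by
      refine ⟨?_, fun H => ?_⟩
      · rintro (x | q) (y | r) h
        · congr 1
          by_contra hne
          have h' : MulAction.stabilizer (Equiv.Perm (Fin 6)) x = MulAction.stabilizer (Equiv.Perm (Fin 6)) y :=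
            congrArg Subtype.val h
          obtain ⟨z, hzx, hzy⟩ : ∃ z : Fin 6, z ≠ x ∧ z ≠ y := by
            revert hne; clear h h'; revert x y; decide
          have hm : Equiv.swap y z ∈ MulAction.stabilizer (Equiv.Perm (Fin 6)) x := by
            rw [MulAction.mem_stabilizer_iff]
            exact Equiv.swap_apply_of_ne_of_ne hne hzx.symm
          rw [h', MulAction.mem_stabilizer_iff] at hm
          exact hzy ((Equiv.swap_apply_left y z).symm.trans hm)
        · induction r using QuotientGroup.induction_on with
          | H g => exact absurd (congrArg Subtype.val h).symm (SymSix.noFix_map hψi hψn g x)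
        · induction q using QuotientGroup.induction_on with
          | H g => exact absurd (congrArg Subtype.val h) (SymSix.noFix_map hψi hψn g y)
        · induction q using QuotientGroup.induction_on with
          | H g =>
            induction r using QuotientGroup.induction_on with
            | H k => exact congrArg Sum.inr (QuotientGroup.eq.mpr ((hconj g k).mp (congrArg Subtype.val h)))
      · rcases key H.1 H.2 with ⟨x, hx⟩ | ⟨g, hg⟩
        · exact ⟨Sum.inl x, Subtype.ext hx.symm⟩
        · exact ⟨Sum.inr (QuotientGroup.mk g), Subtype.ext hg⟩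
    rw [← Nat.card_congr (Equiv.ofBijective F hF), Nat.card_sum, Nat.card_eq_fintype_card, Fintype.card_fin,
      ← Subgroup.index_eq_card, ← hN, hψi]
  · rcases key H hH with ⟨x, rfl⟩ | ⟨g, rfl⟩
    · obtain ⟨e⟩ : Nonempty (MulAction.stabilizer (Equiv.Perm (Fin 6)) x ≃* Equiv.Perm {y : Fin 6 // y ≠ x}) := by
        refine ⟨{ toFun := fun g => g.1.subtypePerm (p := fun y => y ≠ x) (fun y => ?_)
                  invFun := fun σ => ⟨Equiv.Perm.ofSubtype σ, ?_⟩
                  left_inv := ?_
                  right_inv := ?_
                  map_mul' := ?_ }⟩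
        · have hg : g.1 x = x := g.2
          constructor
          · exact fun h e => h (by rw [e, hg])
          · exact fun h e => h (g.1.injective (e.trans hg.symm))
        · show Equiv.Perm.ofSubtype σ x = x
          exact Equiv.Perm.ofSubtype_apply_of_not_mem σ (by simp)
        · intro g
          apply Subtype.ext
          apply Equiv.Perm.ofSubtype_subtypePerm
          intro y hy e
          exact hy (by rw [e]; exact g.2)
        · intro σ
          ext y
          simp
        · intro a b
          apply Equiv.ext
          intro y
          apply Subtype.ext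
          rfl
      exact ⟨e.trans ((finSuccAboveEquiv x).symm.permCongrHom)⟩
    · exact ⟨((MonoidHom.ofInjective hψ).trans (K.equivMapOfInjective _ (MulAut.conj g).injective)).symm⟩

end Cfsg.Agent.S5945
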