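import Cfsg.Statements.S5947
import Cfsg.Agent.Lib.MaxSub.Singer

set_option autoImplicit false
open Cfsg

namespace Cfsg.Agent.S5947

open Cfsg.Agent.Lib.MaxSub

/-- A faithful module over a finite commutative ring with `x ^ Q = x` has a vector with zero
annihilator. -/
theorem exists_free_vector {R V : Type*} [CommRing R] [Finite R] [AddCommGroup V] [Module R V]
    (Q : ℕ) (hQ : 2 ≤ Q) (hpow : ∀ x : R, x ^ Q = x)
    (hfaith : ∀ x : R, (∀ v : V, x • v = 0) → x = 0) :
    ∃ v : V, ∀ x : R, x • v = 0 → x = 0 := by
  classical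
  let Ann : V → Set R := fun v => {x | x • v = 0}
  obtain ⟨v, hmin⟩ : ∃ v : V, ∀ w : V, ¬ Ann w ⊂ Ann v := by
    by_contra hc
    push Not at hc
    choose w hw using hc
    have hdec : ∀ k : ℕ, (Ann (w^[k] 0)).ncard + k ≤ (Ann 0).ncard := by
      intro k
      induction k with
      | zero => simp
      | succ k ih =>
        rw [Function.iterate_succ_apply']
        have := Set.ncard_lt_ncard (hw (w^[k] 0))
        omega
    have := hdec ((Ann 0).ncard + 1)
    omega
  refine ⟨v, fun a ha => ?_⟩
  by_contra ha0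
  have hae : a ^ (Q - 1) * a = a := by
    rw [← pow_succ, Nat.sub_add_cancel (by omega), hpow]
  set e := a ^ (Q - 1) with he
  have hee : e * e = e := by
    obtain ⟨k, hk⟩ : ∃ k, Q - 1 = k + 1 := ⟨Q - 2, by omega⟩
    calc e * e = e * (a ^ k * a) := by rw [← pow_succ, ← hk]
      _ = a ^ k * (e * a) := by ring
      _ = e := by rw [hae, ← pow_succ, ← hk]
  have hev : e • v = 0 := by
    obtain ⟨k, hk⟩ : ∃ k, Q - 1 = k + 1 := ⟨Q - 2, by omega⟩
    rw [he, hk, pow_succ, mul_smul, ha, smul_zero]
  obtain ⟨w, hw⟩ : ∃ w : V, e • w ≠ 0 := by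
    by_contra hc
    push Not at hc
    exact ha0 (by rw [← hae, hfaith e hc, zero_mul])
  refine hmin (v + e • w) ⟨fun x hx => ?_, fun hsub => ?_⟩
  · have hx' : x • v + x • e • w = 0 := by rw [← smul_add]; exact hx
    have h2 := congrArg (fun z => e • z) hx'
    simp only [smul_add, smul_zero] at h2
    rw [smul_comm e x v, hev, smul_zero, zero_add, smul_comm e x, ← mul_smul e e, hee] at h2
    rw [h2, add_zero] at hx'
    exact hx'
  · have h3 : e • (v + e • w) = 0 := hsub hev
    rw [smul_add, hev, zero_add, ← mul_smul, hee] at h3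
    exact hw h3

/-- Let F ⊆ K be finite fields with |F| = q and [K : F] = n ≥ 2, regard K as an n-dimensional F-vector space, and let M ≤ GL_F(K) be the Singer group of multiplications by non-zero elements of K (cyclic of order q^n − 1). Assume (n, q) ≠ (6, 2), and that it is not the case that n = 2 with q a prime such that q + 1 is a power of 2. Then every abelian subgroup of GL_F(K) of order q^n − 1 is conjugate to M. -/
theorem result {F K : Type*} [Field F] [Fintype F] [Field K] [Fintype K] [Algebra F K] (n : ℕ) (hn : 2 ≤ n) (hdim : Module.finrank F K = n)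
    (hex1 : ¬ (n = 6 ∧ Fintype.card F = 2))
    (hex2 : ¬ (n = 2 ∧ (Fintype.card F).Prime ∧ ∃ a : ℕ, Fintype.card F + 1 = 2 ^ a))
    (U : Subgroup (Module.End F K)ˣ) (hU : IsMulCommutative U) (hcard : Nat.card U = Fintype.card K - 1) :
    ∃ g : (Module.End F K)ˣ, U.map (MulAut.conj g).toMonoidHom = (Units.map ((Algebra.lmul F K : K →ₐ[F] Module.End F K) : K →* Module.End F K)).range := by
  classical
  change ∃ g : (Module.End F K)ˣ, U.map (MulAut.conj g).toMonoidHom = (Singer.mu F K).range
  have hfin : Module.Finite F K := Module.Finite.of_finite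
  have : Finite (Module.End F K) := Module.finite_of_finite F
  set S : Set (Module.End F K) := Units.val '' (U : Set (Module.End F K)ˣ) with hSdef
  have hcomm : ∀ x ∈ S, ∀ y ∈ S, x * y = y * x := by
    rintro _ ⟨a, ha, rfl⟩ _ ⟨b, hb, rfl⟩
    rw [← Units.val_mul, ← Units.val_mul]
    have := hU.is_comm.comm (⟨a, ha⟩ : U) ⟨b, hb⟩
    exact congrArg (fun u : U => ((u : (Module.End F K)ˣ) : Module.End F K)) this
  set A : Subalgebra F (Module.End F K) := Algebra.adjoin F S with hAdef
  have hAc : IsMulCommutative A := Algebra.isMulCommutative_adjoin F hcomm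
  letI : CommRing A := { (inferInstance : Ring A) with mul_comm := hAc.is_comm.comm }
  set Q := Fintype.card K with hQdef
  have hQ2 : 2 ≤ Q := Fintype.one_lt_card
  have hsub : ∀ u ∈ U, ((u : (Module.End F K)ˣ) : Module.End F K) ∈ A := fun u hu =>
    Algebra.subset_adjoin ⟨u, hu, rfl⟩
  obtain ⟨p, hp⟩ := CharP.exists F
  have hpp : p.Prime := CharP.char_is_prime F p
  have hpK : CharP K p := (Algebra.charP_iff F K p).mp hp
  obtain ⟨N, _, hN⟩ := FiniteField.card K p
  haveI : ExpChar A p := by
    haveI : Nontrivial A := inferInstance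
    haveI : CharP A p := charP_of_injective_algebraMap (algebraMap F A).injective p
    exact ExpChar.prime hpp
  have hpow : ∀ x : A, x ^ Q = x := by
    rintro ⟨x, hx⟩
    induction hx using Algebra.adjoin_induction with
    | mem y hy =>
      obtain ⟨u, hu, rfl⟩ := hy
      apply Subtype.ext
      show ((u : (Module.End F K)ˣ) : Module.End F K) ^ Q = _
      have h1 : (⟨u, hu⟩ : U) ^ (Q - 1) = 1 := by rw [← hcard]; exact pow_card_eq_one'
      have h2 : u ^ Q = u := by
        rw [show Q = Q - 1 + 1 by omega, pow_succ]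
        have := congrArg Subtype.val h1
        simp at this
        rw [this, one_mul]
      rw [← Units.val_pow_eq_pow_val, h2]
    | algebraMap r =>
      show (algebraMap F A r) ^ Q = algebraMap F A r
      rw [← map_pow]
      congr 1
      apply (algebraMap F K).injective
      rw [map_pow, FiniteField.pow_card]
    | add y z hy hz ihy ihz =>
      have : (⟨y + z, add_mem hy hz⟩ : A) = ⟨y, hy⟩ + ⟨z, hz⟩ := rfl
      rw [this, hQdef, hN, add_pow_expChar_pow, ← hN, ← hQdef, ihy, ihz]
    | mul y z hy hz ihy ihz =>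
      have : (⟨y * z, mul_mem hy hz⟩ : A) = ⟨y, hy⟩ * ⟨z, hz⟩ := rfl
      rw [this, mul_pow, ihy, ihz]
  obtain ⟨v, hv⟩ := exists_free_vector (R := A) (V := K) Q hQ2 hpow (fun x hx => by
    apply Subtype.ext
    exact LinearMap.ext fun w => hx w)
  let ev : A →ₗ[F] K := (LinearMap.applyₗ v).comp A.val.toLinearMap
  have hev : Function.Injective ev := by
    intro x y h
    rw [← sub_eq_zero]
    apply hv
    show ((x - y : A) : Module.End F K) v = 0
    change ((x : Module.End F K) v) = ((y : Module.End F K) v) at h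
    simp [h]
  have hle : Nat.card A ≤ Q := by
    rw [hQdef, ← Nat.card_eq_fintype_card]
    exact Nat.card_le_card_of_injective ev hev
  let ι : U → A := fun u => ⟨(u.1 : Module.End F K), hsub u.1 u.2⟩
  have hι : Function.Injective ι := fun a b h =>
    Subtype.ext (Units.ext (congrArg Subtype.val h))
  have hrange : ∀ x : A, x ≠ 0 → ∃ u : U, ι u = x := by
    haveI := Fintype.ofFinite A
    haveI := Fintype.ofFinite U
    have h0 : (0 : A) ∉ Set.range ι := by
      rintro ⟨u, hu⟩
      exact u.1.ne_zero (congrArg Subtype.val hu)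
    intro x hx
    by_contra hc
    push Not at hc
    have h1 : (insert x (insert 0 (Set.range ι))).ncard = Nat.card U + 2 := by
      rw [Set.ncard_insert_of_notMem (by rintro (h | ⟨u, hu⟩); exacts [hx h, hc u hu]),
        Set.ncard_insert_of_notMem h0, Set.ncard_range_of_injective hι]
    have h2 := Set.ncard_le_card (insert x (insert (0 : A) (Set.range ι)))
    omega
  have hA : Nat.card A = Q := by
    refine le_antisymm hle ?_
    have h1 : (insert (0 : A) (Set.range ι)).ncard = Nat.card U + 1 := by
      rw [Set.ncard_insert_of_notMem (by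
        rintro ⟨u, hu⟩; exact u.1.ne_zero (congrArg Subtype.val hu)),
        Set.ncard_range_of_injective hι]
    have h2 := Set.ncard_le_card (insert (0 : A) (Set.range ι))
    omega
  have hfield : IsField A := by
    refine ⟨⟨0, 1, zero_ne_one⟩, mul_comm, fun {x} hx => ?_⟩
    obtain ⟨u, rfl⟩ := hrange x hx
    exact ⟨ι u⁻¹, Subtype.ext (by show (u.1 : Module.End F K) * (u⁻¹ : U).1.val = 1; simp)⟩
  letI : Field A := hfield.toField
  have hrk : Module.finrank F A = Module.finrank F K := by
    have h := hA
    rw [hQdef, ← Nat.card_eq_fintype_card, Module.natCard_eq_pow_finrank (K := F) (V := A),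
      Module.natCard_eq_pow_finrank (K := F) (V := K)] at h
    exact Nat.pow_right_injective Finite.one_lt_card h
  obtain ⟨φ⟩ := FiniteField.nonempty_algHom_of_finrank_dvd (F := F) (K := K) (L := A)
    (dvd_of_eq hrk.symm)
  let T : K →ₗ[F] K := ev.comp φ.toLinearMap
  have hT : Function.Bijective T :=
    Finite.injective_iff_bijective.mp (hev.comp (φ : K →+* A).injective)
  let Te := LinearEquiv.ofBijective T hT
  let g : (Module.End F K)ˣ :=
    ⟨Te.symm.toLinearMap, Te.toLinearMap, LinearMap.ext fun x => Te.symm_apply_apply x,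
      LinearMap.ext fun x => Te.apply_symm_apply x⟩
  refine ⟨g, Subgroup.eq_of_le_of_card_ge ?_ ?_⟩
  · rintro _ ⟨u, hu, rfl⟩
    have hbij : Function.Bijective φ :=
      (Nat.bijective_iff_injective_and_card φ).mpr ⟨(φ : K →+* A).injective, by
        rw [hA, hQdef, Nat.card_eq_fintype_card]⟩
    obtain ⟨x, hx⟩ := hbij.2 (ι ⟨u, hu⟩)
    have hx0 : x ≠ 0 := by
      rintro rfl
      rw [map_zero] at hx
      exact u.ne_zero (congrArg Subtype.val hx.symm)
    refine ⟨Units.mk0 x hx0, ?_⟩
    show Singer.mu F K (Units.mk0 x hx0) = g * u * g⁻¹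
    rw [eq_mul_inv_iff_mul_eq]
    apply Units.ext
    apply LinearMap.ext
    intro z
    show x * Te.symm z = Te.symm ((u : Module.End F K) z)
    apply Te.injective
    rw [Te.apply_symm_apply]
    have hTe : ∀ y, Te y = (φ y : Module.End F K) v := fun y => rfl
    have hz := Te.apply_symm_apply z
    rw [hTe] at hz
    rw [hTe, map_mul, hx]
    show (u : Module.End F K) ((φ (Te.symm z) : Module.End F K) v) = _
    rw [hz]
  · rw [Subgroup.card_map_of_injective (MulAut.conj g).injective, Singer.card_range, hcard]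

end Cfsg.Agent.S5947
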