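import Cfsg.Statements.S5949
import Cfsg.Agent.Lib.MaxSub.PrimeElemFlags
import Cfsg.Agent.Lib.MaxSub.SubspaceCount
import Mathlib

set_option autoImplicit false
set_option maxHeartbeats 1000000
open scoped MatrixGroups
open Cfsg

namespace Cfsg.Agent.S5949

open Module Cfsg.Agent.Lib.MaxSub Cfsg.Agent.Lib.MaxSub.PrimeElem Cfsg.Agent.Lib.MaxSub.PrimeElemFlags

/-- Elements of prime order of PSL_n(q) with no fixed `m`-space. Here `T = PSL_n(F)` for a field `F` with `q = p^f` elements (`n ≥ 2`, `(n, q) ≠ (2, 2), (2, 3)`); an element of `T` of prime order `r` is represented by a matrix `x` of determinant 1 with `x^r` scalar and `x` not scalar; `i` denotes the multiplicative order of `q` modulo `r` (when `r ≠ p`), and `(a)_r` the `r`-part of `a`. Let `1 ≤ m ≤ n/2` and let `r` be a prime dividing the number of `m`-dimensional subspaces of `F^n`. Then every element of `T` of order `r` fixes some `m`-dimensional subspace (the action on `m`-spaces is `r`-elusive) if and only if `r ≠ p` and either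 (i) `i = 1` and (`r ∣ m`, or `(q−1)_r ≥ (n)_r` where in addition `q ≡ 1 (mod 4)` is required when `r = 2` and `n` is even), or (ii) `2 ≤ i ≤ m` and `n mod i ≥ m mod i`. -/
theorem result {F : Type*} [Field F] [Fintype F] {p : ℕ} [Fact p.Prime] [CharP F p] {q : ℕ} (hq : Fintype.card F = q)
    (n m : ℕ) (hn : 2 ≤ n) (hT : (n, q) ≠ (2, 2) ∧ (n, q) ≠ (2, 3)) (hm : 1 ≤ m) (hmn : 2 * m ≤ n)
    (r : ℕ) [Fact r.Prime] (hrΩ : r ∣ Nat.card {W : Submodule F (Fin n → F) // Module.finrank F ↥W = m}) :
    (∀ x : Matrix.SpecialLinearGroup (Fin n) F,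
      (∃ c : F, ((x ^ r : Matrix.SpecialLinearGroup (Fin n) F) : Matrix (Fin n) (Fin n) F) = c • (1 : Matrix (Fin n) (Fin n) F)) →
      (∀ c : F, (x : Matrix (Fin n) (Fin n) F) ≠ c • (1 : Matrix (Fin n) (Fin n) F)) →
      ∃ W : Submodule F (Fin n → F), Module.finrank F ↥W = m ∧ W.map (Matrix.toLin' (x : Matrix (Fin n) (Fin n) F)) ≤ W) ↔
    (r ≠ p ∧
      ((orderOf (q : ZMod r) = 1 ∧ (r ∣ m ∨ (padicValNat r n ≤ padicValNat r (q - 1) ∧ (r = 2 → Even n → q % 4 = 1)))) ∨
       (2 ≤ orderOf (q : ZMod r) ∧ orderOf (q : ZMod r) ≤ m ∧ m % orderOf (q : ZMod r) ≤ n % orderOf (q : ZMod r)))) := by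
  classical
  have hrp : r ≠ p := by
    rintro rfl
    have h1 : ((SubspaceCount.numSub F (Fin n → F) m : ℕ) : ZMod r) = 1 :=
      SubspaceCount.cast_numSub F (Fin n → F) (Module.finrank_fin_fun F) (by omega)
    rw [SubspaceCount.numSub, (ZMod.natCast_eq_zero_iff _ _).2 hrΩ] at h1
    exact zero_ne_one h1
  have hfr : finrank F (Fin n → F) = n := Module.finrank_fin_fun F
  have hlhs := sl_iff (F := F) (n := n) (r := r) (fun y => HasFlag y m m) (fun a => hasFlag_scalar a le_rfl (by omega))
  refine Iff.trans (Iff.trans ?_ hlhs) ?_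
  · refine forall_congr' fun x => forall_congr' fun _ => forall_congr' fun _ => ⟨?_, ?_⟩
    · rintro ⟨W, h1, h2⟩; exact ⟨W, W, le_rfl, h1, h1, h2, h2⟩
    · rintro ⟨U, -, -, h1, -, h2, -⟩; exact ⟨U, h1, h2⟩
  rw [and_iff_right hrp]
  by_cases hi : orderOf (q : ZMod r) = 1
  · constructor
    · intro h
      refine Or.inl ⟨hi, ?_⟩
      by_contra hne
      rw [not_or] at hne
      obtain ⟨k, hk, c, hc, hpow, hN⟩ := twist_of_not_cond hq hrp (n := n) (by omega) ((order_eq_one_iff hq).1 hi)
        hne.2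
      obtain ⟨y, hy, hdet, hbad⟩ := bad_of_order_one hrp hk hc hpow hN
      exact hne.1 (hbad m m (h y c hy hdet))
    · rintro (⟨-, hcond⟩ | ⟨h2, -, -⟩)
      · intro y c hy hdet
        refine flag_of_order_one hq hrp hi (by omega) le_rfl (by omega) hy hdet fun hpow k hk hN => ?_
        rcases hcond with hd | hc
        · exact ⟨hd, hd⟩
        · exact absurd hc (cond_of_twist hq (by omega) hk ((order_eq_one_iff hq).1 hi) hpow hN)
      · omega
  · have hpos := order_pos (F := F) hq hrp
    constructor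
    · intro h
      obtain ⟨y, hy, hdet, hbad⟩ := bad_of_order_two hq hrp hi n
      obtain ⟨a, w, β, β', h1, h2, h3, -⟩ := hbad m m (h y 1 hy hdet)
      have hlt : n % orderOf (q : ZMod r) < orderOf (q : ZMod r) := Nat.mod_lt _ hpos
      have hk : n % orderOf (q : ZMod r) < m := SubspaceCount.mod_order_lt (hq ▸ Fintype.one_lt_card)
        (hq ▸ SubspaceCount.dvd_pr F (Fin n → F) hfr (by omega) hrΩ)
      have ha : m % orderOf (q : ZMod r) = a := by
        rw [h3, Nat.add_mul_mod_self_left, Nat.mod_eq_of_lt (by omega)]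
      refine Or.inr ⟨by omega, ?_, by omega⟩
      by_contra hne
      rw [Nat.mod_eq_of_lt (by omega)] at ha
      omega
    · rintro (⟨h1, -⟩ | ⟨-, -, hmod⟩)
      · exact absurd h1 hi
      · intro y c hy hdet
        refine flag_of_order_two hq hrp hi (by omega) hy hdet fun f s hfs => ?_
        set i := orderOf (q : ZMod r)
        have hf : n % i ≤ f := by rw [← hfs, Nat.add_mul_mod_self_left]; exact Nat.mod_le _ _
        by_cases hb : m / i ≤ s
        · exact ⟨m % i, m % i, m / i, m / i, le_rfl, by omega, le_rfl, hb, (Nat.mod_add_div m i).symm,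
            (Nat.mod_add_div m i).symm⟩
        · have h2 : i * s ≤ m := (Nat.mul_le_mul_left i (by omega)).trans (Nat.mul_div_le m i)
          exact ⟨m - i * s, m - i * s, s, s, le_rfl, by omega, le_rfl, le_rfl, by omega, by omega⟩


end Cfsg.Agent.S5949
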