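import Cfsg.Statements.S5959
import Mathlib

set_option autoImplicit false
set_option maxHeartbeats 1000000
open scoped MatrixGroups
open Cfsg

namespace Cfsg.Agent.S5959

open Module

section

variable {F V : Type*} [Field F] [AddCommGroup V] [Module F V] [FiniteDimensional F V]

/-- The drop of the dimensions of the iterated images of a subspace. -/
noncomputable def drop (N : Module.End F V) (U : Submodule F V) (k : ℕ) : ℕ :=
  finrank F (U.map (N ^ k)) - finrank F (U.map (N ^ (k + 1)))

theorem map_pow_succ_le (N : Module.End F V) {U : Submodule F V} (hU : U.map N ≤ U) (k : ℕ) :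
    U.map (N ^ (k + 1)) ≤ U.map (N ^ k) := by
  rw [pow_succ, Module.End.mul_eq_comp, Submodule.map_comp]
  exact Submodule.map_mono hU

theorem drop_eq (N : Module.End F V) {U : Submodule F V} (hU : U.map N ≤ U) (k : ℕ) :
    drop N U k = finrank F (LinearMap.ker N ⊓ U.map (N ^ k) : Submodule F V) ∧
      drop N U k + finrank F (U.map (N ^ (k + 1))) = finrank F (U.map (N ^ k)) := by
  set S := U.map (N ^ k) with hS
  have h := (N.domRestrict S).finrank_range_add_finrank_ker
  have h1 : LinearMap.range (N.domRestrict S) = U.map (N ^ (k + 1)) := by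
    rw [LinearMap.range_domRestrict, hS, ← Submodule.map_comp, pow_succ', Module.End.mul_eq_comp]
  have h2 : finrank F (LinearMap.ker (N.domRestrict S)) = finrank F (LinearMap.ker N ⊓ S : Submodule F V) := by
    rw [LinearMap.ker_domRestrict]
    have e : ((LinearMap.ker N).comap S.subtype) = ((LinearMap.ker N ⊓ S).comap S.subtype) := by
      ext v; simp
    rw [e]
    exact (Submodule.comapSubtypeEquivOfLe inf_le_right).finrank_eq
  rw [h1, h2] at h
  have h3 := Submodule.finrank_mono (map_pow_succ_le N hU k)
  unfold drop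
  rw [← hS]
  omega

theorem drop_anti (N : Module.End F V) {U : Submodule F V} (hU : U.map N ≤ U) (k : ℕ) :
    drop N U (k + 1) ≤ drop N U k := by
  rw [(drop_eq N hU _).1, (drop_eq N hU _).1]
  exact Submodule.finrank_mono (inf_le_inf_left _ (map_pow_succ_le N hU k))

/-- The block multiset of an invariant subspace. -/
noncomputable def blocks (N : Module.End F V) (U : Submodule F V) : ℕ → Multiset ℕ
  | 0 => 0
  | M + 1 => blocks N U M + Multiset.replicate (drop N U M - drop N U (M + 1)) (M + 1)

theorem blocks_sum (N : Module.End F V) {U : Submodule F V} (hU : U.map N ≤ U) (M : ℕ) :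
    (blocks N U M).sum + M * drop N U M + finrank F (U.map (N ^ M)) = finrank F U := by
  induction M with
  | zero => rw [blocks, Multiset.sum_zero, zero_mul, zero_add, zero_add, pow_zero, Module.End.one_eq_id, Submodule.map_id]
  | succ M ih =>
    rw [blocks, Multiset.sum_add, Multiset.sum_replicate, smul_eq_mul]
    have h1 := drop_anti N hU M
    have h2 := (drop_eq N hU M).2
    have h3 : (drop N U M - drop N U (M + 1)) * (M + 1) + (M + 1) * drop N U (M + 1) = (M + 1) * drop N U M := by
      rw [Nat.mul_comm _ (M + 1), ← Nat.mul_add, Nat.sub_add_cancel h1]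
    have h4 : (M + 1) * drop N U M = M * drop N U M + drop N U M := Nat.succ_mul _ _
    omega

theorem blocks_count (N : Module.End F V) (U : Submodule F V) (M b : ℕ) :
    (blocks N U M).count b = if 1 ≤ b ∧ b ≤ M then drop N U (b - 1) - drop N U b else 0 := by
  induction M with
  | zero =>
    rw [blocks, Multiset.count_zero, if_neg (by omega)]
  | succ M ih =>
    rw [blocks, Multiset.count_add, Multiset.count_replicate, ih]
    by_cases h : M + 1 = b
    · subst h
      rw [if_neg (by omega), if_pos rfl, if_pos (by omega), zero_add, Nat.add_sub_cancel]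
    · rw [if_neg h, add_zero]
      exact if_congr (by omega) rfl rfl

end

theorem count_blocks (μ : Multiset ℕ) (k : ℕ) :
    (μ.map fun b => b - k).sum = μ.countP (fun b => k < b) + (μ.map fun b => b - (k + 1)).sum := by
  induction μ using Multiset.induction_on with
  | empty => simp
  | cons b μ ih =>
    rw [Multiset.map_cons, Multiset.map_cons, Multiset.sum_cons, Multiset.sum_cons, Multiset.countP_cons, ih]
    split_ifs <;> omega

theorem countP_blocks (μ : Multiset ℕ) (b : ℕ) (hb : 1 ≤ b) :
    μ.countP (fun c => b - 1 < c) = μ.count b + μ.countP (fun c => b < c) := by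
  induction μ using Multiset.induction_on with
  | empty => simp
  | cons c μ ih =>
    rw [Multiset.countP_cons, Multiset.countP_cons, Multiset.count_cons, ih]
    split_ifs <;> omega

/-- A nilpotent map with prescribed block sizes. -/
theorem exists_nilpotent (F : Type*) [Field F] (n : ℕ) (μ : Multiset ℕ) (hμ : μ.sum = n) :
    ∃ N : Module.End F (Fin n → F), ∀ k, finrank F (LinearMap.range (N ^ k)) = (μ.map fun b => b - k).sum := by
  classical
  obtain ⟨L, rfl⟩ : ∃ L : List ℕ, (L : Multiset ℕ) = μ := ⟨μ.toList, μ.coe_toList⟩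
  obtain ⟨B, hB⟩ : ∃ B : Fin L.length → ℕ, B = fun i => L.get i := ⟨_, rfl⟩
  let ι := (i : Fin L.length) × Fin (B i)
  have hget : ∀ k, ((↑L : Multiset ℕ).map fun b => b - k).sum = ∑ i : Fin L.length, (B i - k) := by
    intro k
    rw [Multiset.map_coe, Multiset.sum_coe, ← List.sum_ofFn]
    conv_lhs => rw [← List.ofFn_get L, List.map_ofFn]
    rw [hB]
    rfl
  let e : ι ≃ Fin n := (Fintype.equivFinOfCardEq (by
    rw [Fintype.card_sigma, ← hμ, ← Multiset.map_id' (↑L : Multiset ℕ)]
    simpa using (hget 0).symm))
  let T : (Fin n → F) ≃ₗ[F] (ι → F) := LinearEquiv.funCongrLeft F F e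
  let N0 : Module.End F (ι → F) :=
    { toFun := fun v x => if h : (x.2 : ℕ) + 1 < B x.1 then v ⟨x.1, ⟨x.2 + 1, h⟩⟩ else 0
      map_add' := fun u v => by funext x; simp only [Pi.add_apply]; split_ifs <;> simp
      map_smul' := fun c v => by funext x; simp only [Pi.smul_apply, RingHom.id_apply]; split_ifs <;> simp }
  refine ⟨T.symm.conj N0, fun k => ?_⟩
  have hpow : (T.symm.conj N0) ^ k = T.symm.conj (N0 ^ k) := by
    induction k with
    | zero => rw [pow_zero, pow_zero, Module.End.one_eq_id, Module.End.one_eq_id, LinearEquiv.conj_id]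
    | succ k ih =>
      rw [pow_succ, pow_succ, ih, Module.End.mul_eq_comp, Module.End.mul_eq_comp, LinearEquiv.conj_comp]
  rw [hpow, LinearEquiv.conj_apply, LinearMap.range_comp_of_range_eq_top _ (LinearEquiv.range _),
    LinearMap.range_comp, LinearEquiv.finrank_map_eq]
  have hN : ∀ (k : ℕ) (v : ι → F) (x : ι), (N0 ^ k) v x =
      if h : (x.2 : ℕ) + k < B x.1 then v ⟨x.1, ⟨x.2 + k, h⟩⟩ else 0 := by
    intro k
    induction k with
    | zero =>
      intro v x
      rw [dif_pos (by simpa using x.2.isLt)]
      rfl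
    | succ k ih =>
      intro v x
      rw [pow_succ', Module.End.mul_apply]
      show (if h : (x.2 : ℕ) + 1 < B x.1 then (N0 ^ k) v ⟨x.1, ⟨x.2 + 1, h⟩⟩ else 0) = _
      by_cases h : (x.2 : ℕ) + (k + 1) < B x.1
      · have h' : (x.2 : ℕ) + 1 + k < B x.1 := by omega
        rw [dif_pos h, dif_pos (show (x.2 : ℕ) + 1 < B x.1 by omega), ih, dif_pos h']
        exact congrArg v (Sigma.ext rfl (heq_of_eq (Fin.ext (by simp; omega))))
      · rw [dif_neg h]
        split_ifs with h1
        · rw [ih, dif_neg (by simp; omega)]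
        · rfl
  let J := {x : ι // (x.2 : ℕ) + k < B x.1}
  have hrange : finrank F (LinearMap.range (N0 ^ k)) = Fintype.card J := by
    let inc : (J → F) →ₗ[F] (ι → F) :=
      { toFun := fun f x => if h : (x.2 : ℕ) + k < B x.1 then f ⟨x, h⟩ else 0
        map_add' := fun u v => by funext x; simp only [Pi.add_apply]; split_ifs <;> simp
        map_smul' := fun c v => by funext x; simp only [Pi.smul_apply, RingHom.id_apply]; split_ifs <;> simp }
    have hinc : LinearMap.range (N0 ^ k) = LinearMap.range inc := by
      refine le_antisymm ?_ ?_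
      · rintro _ ⟨v, rfl⟩
        exact ⟨fun x => v ⟨x.1.1, ⟨x.1.2 + k, x.2⟩⟩, funext fun x => by rw [hN]; rfl⟩
      · rintro _ ⟨f, rfl⟩
        refine ⟨fun y => if h : k ≤ (y.2 : ℕ) then f ⟨⟨y.1, ⟨y.2 - k, by have := y.2.isLt; omega⟩⟩,
          by simp; have := y.2.isLt; omega⟩ else 0, funext fun x => ?_⟩
        rw [hN]
        show _ = (if h : (x.2 : ℕ) + k < B x.1 then f ⟨x, h⟩ else 0)
        by_cases h : (x.2 : ℕ) + k < B x.1
        · rw [dif_pos h, dif_pos h]
          refine (dif_pos (show k ≤ (x.2 : ℕ) + k by omega)).trans ?_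
          exact congrArg f (Subtype.ext (Sigma.ext rfl (heq_of_eq (Fin.ext (by simp)))))
        · rw [dif_neg h, dif_neg h]
    rw [hinc, LinearMap.finrank_range_of_inj, Module.finrank_fintype_fun_eq_card]
    intro f g hfg
    funext x
    have := congrFun hfg x.1
    simpa [inc, x.2] using this
  rw [hrange, hget]
  let eJ : J ≃ (i : Fin L.length) × Fin (B i - k) :=
    { toFun := fun x => ⟨x.1.1, ⟨x.1.2, by have := x.2; omega⟩⟩
      invFun := fun y => ⟨⟨y.1, ⟨y.2, by have := y.2.isLt; omega⟩⟩, by have := y.2.isLt; simp; omega⟩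
      left_inv := fun x => rfl
      right_inv := fun y => rfl }
  rw [Fintype.card_congr eJ, Fintype.card_sigma]
  simp

/-- Elements of order `p` of PSL_n(q) and imprimitive subgroups: a necessary condition. Here `T = PSL_n(F)` for a field `F` with `q = p^f` elements (`n ≥ 2`, `(n, q) ≠ (2, 2), (2, 3)`), `n = a·t` with `t ≥ 2`, and Ω is the set of direct-sum decompositions of `F^n` into `t` subspaces of dimension `a` (unordered; their number is the number of ordered ones divided by `t!`), whose stabilizers are the imprimitive subgroups of type GL_a(q) ≀ S_t (maximal except in some small cases; maximality is not assumed); an element of `T` of prime order `r` (a matrix `x` of determinant 1 with `x^r` scalar, `x` not scalar) fixes a point of Ω when it permutes the summands of some such decomposition. Suppose `p > 2` divides the number of such decompositions. If every element of `T` of order `p` stabilizes such a decomposition, then every partition of `n` into parts of size at most `p` in which the part `p` occurs fewer than `a` times contains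 (as a sub-multiset) a partition of `a`. -/
theorem result {F : Type*} [Field F] [Fintype F] {p : ℕ} [Fact p.Prime] [CharP F p] {q : ℕ} (hq : Fintype.card F = q)
    (n a t : ℕ) (hn : 2 ≤ n) (hT : (n, q) ≠ (2, 2) ∧ (n, q) ≠ (2, 3)) (hat : n = a * t) (ha : 1 ≤ a) (ht : 2 ≤ t)
    (hp : 2 < p) (hΩ : p ∣ Nat.card {D : Fin t → Submodule F (Fin n → F) // Cfsg.Geo.IsMDecomposition a D} / Nat.factorial t)
    (h : ∀ x : Matrix.SpecialLinearGroup (Fin n) F,
      (∃ z : F, ((x ^ p : Matrix.SpecialLinearGroup (Fin n) F) : Matrix (Fin n) (Fin n) F) = z • (1 : Matrix (Fin n) (Fin n) F)) →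
      (∀ z : F, (x : Matrix (Fin n) (Fin n) F) ≠ z • (1 : Matrix (Fin n) (Fin n) F)) →
      ∃ D : Fin t → Submodule F (Fin n → F), Cfsg.Geo.IsMDecomposition a D ∧
        ∃ σ : Equiv.Perm (Fin t), ∀ j, (D j).map (Matrix.toLin' (x : Matrix (Fin n) (Fin n) F)) = D (σ j)) :
    (∀ μ : Multiset ℕ, (∀ b ∈ μ, 0 < b ∧ b ≤ p) → μ.sum = n → μ.count p < a → ∃ ν : Multiset ℕ, ν ≤ μ ∧ ν.sum = a) := by
  classical
  intro μ hμ hsum hcount
  have hpp : p.Prime := Fact.out
  by_cases hall : ∀ b ∈ μ, b = 1
  · have hμ1 : μ = Multiset.replicate n 1 := by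
      have := Multiset.eq_replicate_card.2 hall
      rw [this] at hsum ⊢
      rw [Multiset.sum_replicate, smul_eq_mul, mul_one] at hsum
      rw [hsum]
    refine ⟨Multiset.replicate a 1, ?_, by simp⟩
    rw [hμ1, Multiset.replicate_le_replicate]
    rw [hat]; exact Nat.le_mul_of_pos_right a (by omega)
  push Not at hall
  obtain ⟨b0, hb0, hb01⟩ := hall
  obtain ⟨N, hN⟩ := exists_nilpotent F n μ hsum
  have hNp : N ^ p = 0 := by
    rw [← LinearMap.range_eq_bot, ← Submodule.finrank_eq_zero, hN]
    exact Multiset.sum_eq_zero fun c hc => by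
      obtain ⟨b, hb, rfl⟩ := Multiset.mem_map.1 hc
      have := (hμ b hb).2
      omega
  set u : Module.End F (Fin n → F) := 1 + N with hu
  have geom : (u - 1) ^ (p - 1) = ∑ j ∈ Finset.range p, u ^ j := by
    have h : ((Polynomial.X : Polynomial F) - 1) ^ (p - 1) = ∑ j ∈ Finset.range p, Polynomial.X ^ j := by
      have h1 : (Polynomial.X : Polynomial F) - 1 ≠ 0 := sub_ne_zero.2 fun h => by simpa using congrArg Polynomial.natDegree h
      apply mul_right_cancel₀ h1
      rw [← pow_succ, Nat.sub_add_cancel hpp.one_le, geom_sum_mul, sub_pow_char, one_pow]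
    have h2 := congrArg (Polynomial.aeval u) h
    simpa using h2
  have hup : u ^ p = 1 := by
    have h1 : (∑ j ∈ Finset.range p, u ^ j) * (u - 1) = u ^ p - 1 := geom_sum_mul u p
    rw [← geom, ← pow_succ, Nat.sub_add_cancel hpp.one_le, hu, add_sub_cancel_left, hNp] at h1
    exact sub_eq_zero.1 h1.symm
  set X : Matrix (Fin n) (Fin n) F := LinearMap.toMatrix' u with hX
  have hXu : Matrix.toLin' X = u := Matrix.toLin'_toMatrix' u
  have hXp : X ^ p = 1 := by
    have : Matrix.toLinAlgEquiv' (X ^ p) = Matrix.toLinAlgEquiv' (1 : Matrix (Fin n) (Fin n) F) := by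
      rw [map_pow, map_one]
      show (Matrix.toLin' X) ^ p = 1
      rw [hXu, hup]
    exact Matrix.toLinAlgEquiv'.injective this
  have hdet : X.det = 1 := by
    have h1 : X.det ^ p = 1 := by rw [← Matrix.det_pow, hXp, Matrix.det_one]
    have h2 : (X.det - 1) ^ p = 0 := by rw [sub_pow_char, h1, one_pow, sub_self]
    exact sub_eq_zero.1 (pow_eq_zero_iff hpp.ne_zero |>.1 h2)
  obtain ⟨D, hD, σ, hσ⟩ := h ⟨X, hdet⟩ ⟨1, by rw [one_smul]; exact hXp⟩ (fun z hz => by
    have h1 : u = z • 1 := by
      rw [← hXu, show X = z • 1 from hz, map_smul, Matrix.toLin'_one]; rfl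
    have h2 : N = (z - 1) • (1 : Module.End F (Fin n → F)) := by
      rw [hu] at h1
      rw [eq_sub_of_add_eq' h1]
      module
    have h3 : z - 1 = 0 := by
      have : ((z - 1) • (1 : Module.End F (Fin n → F))) ^ p = 0 := h2 ▸ hNp
      rw [smul_pow, one_pow] at this
      have h4 := LinearMap.congr_fun this (Pi.single ⟨0, by omega⟩ 1)
      have h5 := congrFun h4 ⟨0, by omega⟩
      simp at h5
      exact h5.1
    have h4 := hN 1
    rw [h2, h3, zero_smul, pow_one, LinearMap.range_zero, finrank_bot] at h4
    have h5 : b0 - 1 = 0 := Nat.le_zero.1 (h4 ▸ Multiset.le_sum_of_mem (Multiset.mem_map_of_mem (fun b => b - 1) hb0))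
    have := (hμ b0 hb0).1
    omega)
  have hσ' : ∀ j, (D j).map u = D (σ j) := fun j => by rw [← hσ j, ← hXu]
  have hiter : ∀ (i : ℕ) j, (D j).map (u ^ i) = D ((σ ^ i) j) := by
    intro i
    induction i with
    | zero => intro j; rw [pow_zero, pow_zero, Module.End.one_eq_id, Submodule.map_id]; rfl
    | succ i ih =>
      intro j
      rw [pow_succ', Module.End.mul_eq_comp, Submodule.map_comp, ih, hσ', pow_succ', Equiv.Perm.mul_apply]
  have hDne : ∀ j, D j ≠ ⊥ := fun j h => by
    have := hD.finrank_eq j
    rw [h, finrank_bot] at this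
    omega
  have hDinj : ∀ i j, D i = D j → i = j := fun i j hij => by
    by_contra hne
    have h1 : Disjoint (D i) (D j) := hD.indep.pairwiseDisjoint hne
    rw [hij, disjoint_self] at h1
    exact hDne j h1
  have hσp : σ ^ p = 1 := Equiv.ext fun j => hDinj _ _ (by
    rw [← hiter, hup, Module.End.one_eq_id, Submodule.map_id]; rfl)
  by_cases hσ1 : σ = 1
  · subst hσ1
    let j0 : Fin t := ⟨0, by omega⟩
    set U := D j0 with hU
    set W := ⨆ j, ⨆ (_ : j ≠ j0), D j with hW
    have hinvD : ∀ j, (D j).map N ≤ D j := fun j => by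
      rintro _ ⟨v, hv, rfl⟩
      have : N v = u v - v := by rw [hu]; simp
      rw [this]
      exact (D j).sub_mem (by have := hσ' j; rw [Equiv.Perm.one_apply] at this; exact this ▸ Submodule.mem_map_of_mem hv) hv
    have hUi : U.map N ≤ U := hinvD j0
    have hWi : W.map N ≤ W := by
      rw [hW, Submodule.map_iSup]
      refine iSup_le fun j => ?_
      rw [Submodule.map_iSup]
      exact iSup_le fun hj => (hinvD j).trans (le_iSup_of_le j (le_iSup_of_le hj le_rfl))
    have hUW : U ⊔ W = ⊤ := by
      rw [← top_le_iff, ← hD.iSup_eq_top, iSup_le_iff]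
      intro j
      by_cases hj : j = j0
      · exact hj ▸ le_sup_left
      · exact le_sup_of_le_right (le_iSup_of_le j (le_iSup_of_le hj le_rfl))
    have hmono : ∀ {S : Submodule F (Fin n → F)}, S.map N ≤ S → ∀ k, S.map (N ^ k) ≤ S := by
      intro S hS k
      induction k with
      | zero => rw [pow_zero, Module.End.one_eq_id, Submodule.map_id]
      | succ k ih => exact (map_pow_succ_le N hS k).trans ih
    have hsplit : ∀ k, finrank F (LinearMap.range (N ^ k)) = finrank F (U.map (N ^ k)) + finrank F (W.map (N ^ k)) := by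
      intro k
      have h1 := Submodule.finrank_sup_add_finrank_inf_eq (U.map (N ^ k)) (W.map (N ^ k))
      rw [← Submodule.map_sup, hUW, Submodule.map_top,
        (((hD.indep j0).mono (hmono hUi k) (hmono hWi k)).eq_bot), finrank_bot, add_zero] at h1
      exact h1
    refine ⟨blocks N U p, ?_, ?_⟩
    · rw [Multiset.le_iff_count]
      intro b
      rw [blocks_count]
      split_ifs with hb
      · have e : ∀ k, drop N U k + drop N W k = μ.countP (fun c => k < c) := by
          intro k
          have a1 := (drop_eq N hUi k).2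
          have a2 := (drop_eq N hWi k).2
          have a3 := hsplit k
          have a4 := hsplit (k + 1)
          rw [hN] at a3 a4
          have a5 := count_blocks μ k
          omega
        have h1 := e (b - 1)
        have h2 := e b
        have h3 := countP_blocks μ b hb.1
        have h4 := drop_anti N hWi (b - 1)
        rw [Nat.sub_add_cancel hb.1] at h4
        omega
      · exact Nat.zero_le _
    · have h1 := blocks_sum N hUi p
      have h2 : drop N U p = 0 := by
        unfold drop
        rw [hNp, Submodule.map_zero, finrank_bot, Nat.zero_sub]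
      rw [h2, mul_zero, hNp, Submodule.map_zero, finrank_bot, add_zero, add_zero, hU, hD.finrank_eq] at h1
      exact h1
  · exfalso
    obtain ⟨j, hj⟩ : ∃ j, σ j ≠ j := by
      by_contra hne
      push Not at hne
      exact hσ1 (Equiv.ext hne)
    have horb : ∀ i, 0 < i → i < p → (σ ^ i) j ≠ j := by
      intro i hi hip he
      have hcop : Nat.Coprime i p := ((Nat.Prime.coprime_iff_not_dvd hpp).2 fun hd => by
        have := Nat.le_of_dvd hi hd; omega).symm
      obtain ⟨c, hc⟩ := Nat.exists_mul_mod_eq_one_of_coprime hcop hpp.one_lt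
      apply hj
      have h1 : (σ ^ (i * c)) j = j := by
        rw [pow_mul]
        exact Function.IsFixedPt.perm_pow he c
      rwa [← Nat.mod_add_div (i * c) p, hc.2, pow_add, pow_mul, hσp, one_pow, mul_one, pow_one] at h1
    set φ : D j →ₗ[F] LinearMap.range (N ^ (p - 1)) :=
      ((N ^ (p - 1)).comp (D j).subtype).codRestrict _ (fun v => LinearMap.mem_range_self _ _)
    have hφ : Function.Injective φ := by
      refine (injective_iff_map_eq_zero φ).2 fun v hv => ?_
      have h0 : (N ^ (p - 1)) (v : Fin n → F) = 0 := congrArg Subtype.val hv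
      have hN' : N = u - 1 := by rw [hu, add_sub_cancel_left]
      rw [hN', geom, LinearMap.sum_apply, ← Finset.insert_erase (Finset.mem_range.2 hpp.pos),
        Finset.sum_insert (Finset.notMem_erase _ _), pow_zero, Module.End.one_apply] at h0
      have hmem : (v : Fin n → F) ∈ ⨆ i, ⨆ (_ : i ≠ j), D i := by
        rw [eq_neg_of_add_eq_zero_left h0]
        refine Submodule.neg_mem _ (Submodule.sum_mem _ fun i hi => ?_)
        rw [Finset.mem_erase, Finset.mem_range] at hi
        have h1 : (u ^ i) v.1 ∈ D ((σ ^ i) j) := hiter i j ▸ Submodule.mem_map_of_mem v.2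
        exact Submodule.mem_iSup_of_mem ((σ ^ i) j) (Submodule.mem_iSup_of_mem (horb i (Nat.pos_of_ne_zero hi.1) hi.2) h1)
      have := Submodule.disjoint_def.1 (hD.indep j) _ v.2 hmem
      exact Subtype.ext this
    have h1 := LinearMap.finrank_le_finrank_of_injective hφ
    rw [hD.finrank_eq, hN] at h1
    have h2 : (μ.map fun b => b - (p - 1)).sum = μ.count p := by
      clear hcount hsum h1 hN hb0
      induction μ using Multiset.induction_on with
      | empty => simp
      | cons c μ ih =>
        rw [Multiset.map_cons, Multiset.sum_cons, Multiset.count_cons, ih (fun b hb => hμ b (Multiset.mem_cons_of_mem hb))]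
        have := hμ c (Multiset.mem_cons_self _ _)
        split_ifs <;> omega
    omega

end Cfsg.Agent.S5959
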