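import Cfsg.Statements.S5950
import Cfsg.Agent.Lib.MaxSub.UnipotentPairs
import Cfsg.Agent.S5959
import Cfsg.Agent.Lib.MaxSub.PrimeElemFlags
import Cfsg.Agent.Lib.MaxSub.SubspaceCount
import Mathlib

set_option autoImplicit false
set_option maxHeartbeats 1000000
open scoped MatrixGroups
open Cfsg

namespace Cfsg.Agent.S5950

open Module Cfsg.Agent.Lib.MaxSub Cfsg.Agent.Lib.MaxSub.PrimeElem Cfsg.Agent.Lib.MaxSub.PrimeElemFlags
open Polynomial

/-- An invariant complementary pair. -/
def HasPair {F V : Type*} [Field F] [AddCommGroup V] [Module F V] (y : End F V) (m : ℕ) : Prop :=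
  ∃ U W : Submodule F V, IsCompl U W ∧ finrank F U = m ∧ U.map y ≤ U ∧ W.map y ≤ W

theorem hasPair_smul {F V : Type*} [Field F] [AddCommGroup V] [Module F V] {y : End F V} {m : ℕ} (h : HasPair y m)
    (a : F) : HasPair (a • y) m := by
  obtain ⟨U, W, h1, h2, h3, h4⟩ := h
  exact ⟨U, W, h1, h2, smul_map_le h3 a, smul_map_le h4 a⟩

theorem add_one_map_le {F V : Type*} [Field F] [AddCommGroup V] [Module F V] {y : End F V} {U : Submodule F V}
    (h : U.map y ≤ U) (b : F) : U.map (y + b • 1) ≤ U := by
  rintro _ ⟨v, hv, rfl⟩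
  exact U.add_mem (h (Submodule.mem_map_of_mem hv)) (U.smul_mem b hv)

theorem hasPair_add {F V : Type*} [Field F] [AddCommGroup V] [Module F V] {y : End F V} {m : ℕ} (h : HasPair y m)
    (b : F) : HasPair (y + b • 1) m := by
  obtain ⟨U, W, h1, h2, h3, h4⟩ := h
  exact ⟨U, W, h1, h2, add_one_map_le h3 b, add_one_map_le h4 b⟩

theorem hasPair_scalar {F : Type*} [Field F] {n m : ℕ} (hm : m ≤ n) (a : F) :
    HasPair (a • (1 : End F (Fin n → F))) m := by
  obtain ⟨U, W, -, h1, -, -, -⟩ := hasFlag_scalar (V := Fin n → F) a (le_refl m) (by rw [Module.finrank_fin_fun]; exact hm)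
  obtain ⟨C, hC⟩ := Submodule.exists_isCompl U
  refine ⟨U, C, hC, h1, ?_, ?_⟩
  · exact smul_map_le (Submodule.map_id U).le a
  · exact smul_map_le (Submodule.map_id C).le a

theorem sum_shift_eq (μ : Multiset ℕ) (k : ℕ) (h : ∀ b ∈ μ, b ≤ k) : (μ.map fun b => b - k).sum = 0 :=
  Multiset.sum_eq_zero fun c hc => by
    obtain ⟨b, hb, rfl⟩ := Multiset.mem_map.1 hc
    have := h b hb
    omega

/-- Partitions with parts one and two. -/
theorem two_parts {n m : ℕ} (hmn : 2 * m < n) :
    (∀ μ : Multiset ℕ, (∀ a ∈ μ, 0 < a ∧ a ≤ 2) → μ.sum = n → ∃ ν : Multiset ℕ, ν ≤ μ ∧ ν.sum = m) ↔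
      (Odd n ∨ Even m) := by
  constructor
  · intro h
    by_contra hne
    rw [not_or, Nat.not_odd_iff_even, Nat.not_even_iff_odd] at hne
    obtain ⟨⟨k, hk⟩, ⟨j, hj⟩⟩ := hne
    obtain ⟨ν, hν, hs⟩ := h (Multiset.replicate k 2) (fun a ha => by rw [Multiset.eq_of_mem_replicate ha]; omega)
      (by rw [Multiset.sum_replicate, smul_eq_mul]; omega)
    have h2 : ν = Multiset.replicate (Multiset.card ν) 2 :=
      Multiset.eq_replicate_card.2 fun b hb => Multiset.eq_of_mem_replicate (Multiset.mem_of_le hν hb)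
    rw [h2, Multiset.sum_replicate, smul_eq_mul] at hs
    omega
  · intro h μ hμ hsum
    have hdec : μ = Multiset.replicate (μ.count 1) 1 + Multiset.replicate (μ.count 2) 2 := by
      ext a
      rw [Multiset.count_add, Multiset.count_replicate, Multiset.count_replicate]
      by_cases ha : a ∈ μ
      · have := hμ a ha
        obtain rfl | rfl : a = 1 ∨ a = 2 := by omega
        all_goals simp
      · have e := Multiset.count_eq_zero.2 ha
        rw [e]
        split_ifs with h1 h2 h2 <;> first | omega | (subst h1; omega) | (subst h2; omega)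
    rw [hdec, Multiset.sum_add, Multiset.sum_replicate, Multiset.sum_replicate, smul_eq_mul, smul_eq_mul] at hsum
    obtain ⟨t, o, ht, ho, hto⟩ : ∃ t o, t ≤ μ.count 2 ∧ o ≤ μ.count 1 ∧ o + t * 2 = m := by
      by_cases hb : m / 2 ≤ μ.count 2
      · refine ⟨m / 2, m % 2, hb, ?_, by omega⟩
        rcases h with ⟨k, hk⟩ | ⟨k, hk⟩ <;> omega
      · exact ⟨μ.count 2, m - μ.count 2 * 2, le_rfl, by omega, by omega⟩
    refine ⟨Multiset.replicate o 1 + Multiset.replicate t 2, ?_, by simp [hto]⟩
    rw [hdec]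
    exact add_le_add (Multiset.replicate_mono 1 ho) (Multiset.replicate_mono 2 ht)

/-- Invariant pairs for all elements with scalar `p`-th power. -/
theorem unipotent_iff {F : Type*} [Field F] [Fintype F] {p : ℕ} [Fact p.Prime] [CharP F p] {n m : ℕ} (hn : 0 < n) :
    (∀ y : End F (Fin n → F), ∀ c : F, y ^ p = c • 1 → LinearMap.det y = 1 → HasPair y m) ↔
      ∀ μ : Multiset ℕ, (∀ a ∈ μ, 0 < a ∧ a ≤ p) → μ.sum = n → ∃ ν : Multiset ℕ, ν ≤ μ ∧ ν.sum = m := by
  classical
  have hpp : p.Prime := Fact.out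
  have hsub : ∀ u : End F (Fin n → F), (u - 1) ^ p = u ^ p - 1 := by
    intro u
    have h := congrArg (Polynomial.aeval u) (sub_pow_char (Polynomial.X : F[X]) 1)
    simpa using h
  constructor
  · intro h μ hμ hsum
    obtain ⟨N, hN⟩ := Cfsg.Agent.S5959.exists_nilpotent F n μ hsum
    have hNp : N ^ p = 0 := by
      rw [← LinearMap.range_eq_bot, ← Submodule.finrank_eq_zero, hN]
      exact sum_shift_eq μ p fun b hb => (hμ b hb).2
    have hup : (1 + N) ^ p = (1 : F) • (1 : End F (Fin n → F)) := by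
      have h1 := hsub (1 + N)
      rw [add_sub_cancel_left, hNp] at h1
      rw [one_smul, sub_eq_zero.1 h1.symm]
    have hdet : LinearMap.det (1 + N) = 1 := by
      have h1 : LinearMap.det (1 + N) ^ p = 1 := by rw [← map_pow, hup, one_smul, map_one]
      have h2 : (LinearMap.det (1 + N) - 1) ^ p = 0 := by rw [sub_pow_char, h1, one_pow, sub_self]
      exact sub_eq_zero.1 ((pow_eq_zero_iff hpp.ne_zero).1 h2)
    have hpair : HasPair N m := by
      convert hasPair_add (h _ 1 hup hdet) (-1 : F) using 1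
      module
    obtain ⟨U, W, hUW, hUd, hUi, hWi⟩ := hpair
    have hmono : ∀ {S : Submodule F (Fin n → F)}, S.map N ≤ S → ∀ k, S.map (N ^ k) ≤ S := by
      intro S hS k
      induction k with
      | zero => rw [pow_zero, Module.End.one_eq_id, Submodule.map_id]
      | succ k ih => exact (Cfsg.Agent.S5959.map_pow_succ_le N hS k).trans ih
    have hsplit : ∀ k, finrank F (LinearMap.range (N ^ k)) = finrank F (U.map (N ^ k)) + finrank F (W.map (N ^ k)) := by
      intro k
      have h1 := Submodule.finrank_sup_add_finrank_inf_eq (U.map (N ^ k)) (W.map (N ^ k))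
      rw [← Submodule.map_sup, hUW.sup_eq_top, Submodule.map_top,
        (hUW.disjoint.mono (hmono hUi k) (hmono hWi k)).eq_bot, finrank_bot, add_zero] at h1
      exact h1
    refine ⟨Cfsg.Agent.S5959.blocks N U p, ?_, ?_⟩
    · rw [Multiset.le_iff_count]
      intro b
      rw [Cfsg.Agent.S5959.blocks_count]
      split_ifs with hb
      · have e : ∀ k, Cfsg.Agent.S5959.drop N U k + Cfsg.Agent.S5959.drop N W k = μ.countP (fun c => k < c) := by
          intro k
          have a1 := (Cfsg.Agent.S5959.drop_eq N hUi k).2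
          have a2 := (Cfsg.Agent.S5959.drop_eq N hWi k).2
          have a3 := hsplit k
          have a4 := hsplit (k + 1)
          rw [hN] at a3 a4
          have a5 := Cfsg.Agent.S5959.count_blocks μ k
          omega
        have h1 := e (b - 1)
        have h2 := e b
        have h3 := Cfsg.Agent.S5959.countP_blocks μ b hb.1
        have h4 := Cfsg.Agent.S5959.drop_anti N hWi (b - 1)
        rw [Nat.sub_add_cancel hb.1] at h4
        omega
      · exact Nat.zero_le _
    · have h1 := Cfsg.Agent.S5959.blocks_sum N hUi p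
      have h2 : Cfsg.Agent.S5959.drop N U p = 0 := by
        unfold Cfsg.Agent.S5959.drop
        rw [hNp, Submodule.map_zero, finrank_bot, Nat.zero_sub]
      rw [h2, mul_zero, hNp, Submodule.map_zero, finrank_bot, add_zero, add_zero, hUd] at h1
      exact h1
  · intro h y c hy hdet
    have hc : c ≠ 0 := scalar_ne_zero hn hpp.pos hy hdet
    obtain ⟨a, ha⟩ := (frobeniusEquiv F p).surjective c
    rw [frobeniusEquiv_def] at ha
    have ha0 : a ≠ 0 := fun h0 => hc (by rw [← ha, h0, zero_pow hpp.ne_zero])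
    have hN : (a⁻¹ • y - 1) ^ p = 0 := by
      rw [hsub, root_scale ha0 ha hy, sub_self]
    obtain ⟨μ, hμ, hsum, hν⟩ := UnipotentPairs.exists_parts hpp.pos hN
    rw [Module.finrank_fin_fun] at hsum
    obtain ⟨ν, hle, hνs⟩ := h μ hμ hsum
    obtain ⟨U, W, h1, h2, h3, h4⟩ := hν ν hle
    have hp2 : HasPair (a⁻¹ • y - 1) m := ⟨U, W, h1, h2.trans hνs, h3, h4⟩
    have h5 := hasPair_smul (hasPair_add hp2 1) a
    rw [one_smul, sub_add_cancel, smul_inv_smul₀ ha0] at h5
    exact h5

/-- Elements of prime order of PSL_n(q) fixing no decomposition `F^n = U ⊕ W` with `dim U = m`. Here `T = PSL_n(F)` for a field `F` with `q = p^f` elements (`n ≥ 2`, `(n, q) ≠ (2, 2), (2, 3)`); an element of `T` of prime order `r` is represented by a matrix `x` of determinant 1 with `x^r` scalar and `x` not scalar; `i` denotes the multiplicative order of `q` modulo `r` (when `r ≠ p`), and `(a)_r` the `r`-part of `a`. Let `n ≥ 3`, `1 ≤ m < n/2`, and let `r` be a prime dividing the number of such decompositions (unordered pairs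 `{U, W}` of complementary subspaces with `dim U = m`; since `m ≠ n − m` these are the ordered pairs with `dim U = m`). Then every element of `T` of order `r` fixes such a pair (fixes both `U` and `W` for some complementary `U, W` with `dim U = m`) if and only if one of: (i) `r = p > 2` and every partition of `n` into parts of size at most `p` contains, as a sub-multiset, a partition of `m`; (ii) `r = p = 2` and `n` is odd or `m` is even; (iii) `r ≠ p`, `i = 1`, and `r ∣ m` or `(q−1)_r ≥ (n)_r` (with `q ≡ 1 (mod 4)` required when `r = 2` and `n` is even); (iv) `r ≠ p`, `2 ≤ i ≤ m` and `n mod i ≥ m mod i`. -/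
theorem result {F : Type*} [Field F] [Fintype F] {p : ℕ} [Fact p.Prime] [CharP F p] {q : ℕ} (hq : Fintype.card F = q)
    (n m : ℕ) (hn : 3 ≤ n) (hm : 1 ≤ m) (hmn : 2 * m < n)
    (r : ℕ) [Fact r.Prime]
    (hrΩ : r ∣ Nat.card {P : Submodule F (Fin n → F) × Submodule F (Fin n → F) // IsCompl P.1 P.2 ∧ Module.finrank F ↥P.1 = m}) :
    (∀ x : Matrix.SpecialLinearGroup (Fin n) F,
      (∃ c : F, ((x ^ r : Matrix.SpecialLinearGroup (Fin n) F) : Matrix (Fin n) (Fin n) F) = c • (1 : Matrix (Fin n) (Fin n) F)) →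
      (∀ c : F, (x : Matrix (Fin n) (Fin n) F) ≠ c • (1 : Matrix (Fin n) (Fin n) F)) →
      ∃ U W : Submodule F (Fin n → F), IsCompl U W ∧ Module.finrank F ↥U = m ∧
        U.map (Matrix.toLin' (x : Matrix (Fin n) (Fin n) F)) ≤ U ∧ W.map (Matrix.toLin' (x : Matrix (Fin n) (Fin n) F)) ≤ W) ↔
    ((r = p ∧ 2 < p ∧ (∀ μ : Multiset ℕ, (∀ a ∈ μ, 0 < a ∧ a ≤ p) → μ.sum = n → ∃ ν : Multiset ℕ, ν ≤ μ ∧ ν.sum = m)) ∨
     (r = p ∧ p = 2 ∧ (Odd n ∨ Even m)) ∨
     (r ≠ p ∧
      ((orderOf (q : ZMod r) = 1 ∧ (r ∣ m ∨ (padicValNat r n ≤ padicValNat r (q - 1) ∧ (r = 2 → Even n → q % 4 = 1)))) ∨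
       (2 ≤ orderOf (q : ZMod r) ∧ orderOf (q : ZMod r) ≤ m ∧ m % orderOf (q : ZMod r) ≤ n % orderOf (q : ZMod r))))) := by
  classical
  have hfr : finrank F (Fin n → F) = n := Module.finrank_fin_fun F
  have hlhs := sl_iff (F := F) (n := n) (r := r) (fun y => HasPair y m) (fun a => hasPair_scalar (by omega) a)
  refine Iff.trans hlhs ?_
  by_cases hrp : r = p
  · subst hrp
    rw [unipotent_iff (by omega)]
    simp only [ne_eq, not_true_eq_false, false_and, or_false, true_and]
    rcases eq_or_ne r 2 with rfl | h2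
    · rw [two_parts hmn]; simp
    · have h2' : 2 < r := by have := (Fact.out : r.Prime).two_le; omega
      simp [h2, h2']
  · simp only [hrp, false_and, false_or, ne_eq, not_false_eq_true, true_and]
    have hflag : (∀ y : End F (Fin n → F), ∀ c : F, y ^ r = c • 1 → LinearMap.det y = 1 → HasPair y m) ↔
        (∀ y : End F (Fin n → F), ∀ c : F, y ^ r = c • 1 → LinearMap.det y = 1 → HasFlag y m m) := by
      refine forall_congr' fun y => forall_congr' fun c => forall_congr' fun hy => forall_congr' fun hdet => ⟨?_, ?_⟩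
      · rintro ⟨U, W, -, h1, h2, -⟩; exact ⟨U, U, le_rfl, h1, h1, h2, h2⟩
      · rintro ⟨U, -, -, h1, -, h2, -⟩
        obtain ⟨C, hC, hUC⟩ := exists_compl
          (sq (cast_ne_zero (p := p) hrp) (scalar_ne_zero (by omega) (Fact.out : r.Prime).pos hy hdet))
          (aeval_eq_zero hy) h2
        exact ⟨U, C, hUC, h1, h2, hC⟩
    rw [hflag]
    have hdvd : r ∣ SubspaceCount.pr q n m :=
      hq ▸ SubspaceCount.dvd_pr_of_pairs F (Fin n → F) (p := p) hfr (by omega) Fact.out hrp hrΩ
    by_cases hi : orderOf (q : ZMod r) = 1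
    · constructor
      · intro h
        refine Or.inl ⟨hi, ?_⟩
        by_contra hne
        rw [not_or] at hne
        obtain ⟨k, hk, c, hc, hpow, hN⟩ := twist_of_not_cond hq hrp (n := n) (by omega) ((order_eq_one_iff hq).1 hi)
          hne.2
        obtain ⟨y, hy, hdet, hbad⟩ := bad_of_order_one hrp hk hc hpow hN
        exact hne.1 (hbad m m (h y c hy hdet))
      · rintro (⟨-, hcond⟩ | ⟨h2, -, -⟩)
        · intro y c hy hdet
          refine flag_of_order_one hq hrp hi (by omega) le_rfl (by omega) hy hdet fun hpow k hk hN => ?_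
          rcases hcond with hd | hc
          · exact ⟨hd, hd⟩
          · exact absurd hc (cond_of_twist hq (by omega) hk ((order_eq_one_iff hq).1 hi) hpow hN)
        · omega
    · have hpos := order_pos (F := F) hq hrp
      constructor
      · intro h
        obtain ⟨y, hy, hdet, hbad⟩ := bad_of_order_two hq hrp hi n
        obtain ⟨a, w, β, β', h1, h2, h3, -⟩ := hbad m m (h y 1 hy hdet)
        have hlt : n % orderOf (q : ZMod r) < orderOf (q : ZMod r) := Nat.mod_lt _ hpos
        have hk : n % orderOf (q : ZMod r) < m := SubspaceCount.mod_order_lt (hq ▸ Fintype.one_lt_card)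
          hdvd
        have ha : m % orderOf (q : ZMod r) = a := by
          rw [h3, Nat.add_mul_mod_self_left, Nat.mod_eq_of_lt (by omega)]
        refine Or.inr ⟨by omega, ?_, by omega⟩
        by_contra hne
        rw [Nat.mod_eq_of_lt (by omega)] at ha
        omega
      · rintro (⟨h1, -⟩ | ⟨-, -, hmod⟩)
        · exact absurd h1 hi
        · intro y c hy hdet
          refine flag_of_order_two hq hrp hi (by omega) hy hdet fun f s hfs => ?_
          set i := orderOf (q : ZMod r)
          have hf : n % i ≤ f := by rw [← hfs, Nat.add_mul_mod_self_left]; exact Nat.mod_le _ _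
          by_cases hb : m / i ≤ s
          · exact ⟨m % i, m % i, m / i, m / i, le_rfl, by omega, le_rfl, hb, (Nat.mod_add_div m i).symm,
              (Nat.mod_add_div m i).symm⟩
          · have h2 : i * s ≤ m := (Nat.mul_le_mul_left i (by omega)).trans (Nat.mul_div_le m i)
            exact ⟨m - i * s, m - i * s, s, s, le_rfl, by omega, le_rfl, le_rfl, by omega, by omega⟩


end Cfsg.Agent.S5950
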