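import Cfsg.Statements.S5951
import Cfsg.Agent.Lib.MaxSub.PrimeElemFlags
import Cfsg.Agent.Lib.MaxSub.SubspaceCount
import Mathlib

set_option autoImplicit false
set_option maxHeartbeats 1000000
open scoped MatrixGroups
open Cfsg

namespace Cfsg.Agent.S5951

open Module Cfsg.Agent.Lib.MaxSub Cfsg.Agent.Lib.MaxSub.PrimeElem Cfsg.Agent.Lib.MaxSub.PrimeElemFlags

/-- Elements of prime order of PSL_n(q) fixing no pair of subspaces `U < W` with `dim U = m`, `dim W = n − m`. Here `T = PSL_n(F)` for a field `F` with `q = p^f` elements (`n ≥ 2`, `(n, q) ≠ (2, 2), (2, 3)`); an element of `T` of prime order `r` is represented by a matrix `x` of determinant 1 with `x^r` scalar and `x` not scalar; `i` denotes the multiplicative order of `q` modulo `r` (when `r ≠ p`), and `(a)_r` the `r`-part of `a`. Let `1 ≤ m < n/2` and let `r` be a prime dividing the number of such pairs. Then every element of `T` of order `r` fixes such a pair (both `U` and `W`) if and only if `r ≠ p` and either (i) `i = 1` and (`r ∣ m`, or `(q−1)_r ≥ (n)_r`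 with `q ≡ 1 (mod 4)` required when `r = 2` and `n` is even), or (ii) `2 ≤ i ≤ m` and `n mod i ≥ 2 (m mod i)`. -/
theorem result {F : Type*} [Field F] [Fintype F] {p : ℕ} [Fact p.Prime] [CharP F p] {q : ℕ} (hq : Fintype.card F = q)
    (n m : ℕ) (hn : 2 ≤ n) (hT : (n, q) ≠ (2, 2) ∧ (n, q) ≠ (2, 3)) (hm : 1 ≤ m) (hmn : 2 * m < n)
    (r : ℕ) [Fact r.Prime]
    (hrΩ : r ∣ Nat.card {P : Submodule F (Fin n → F) × Submodule F (Fin n → F) //
        P.1 ≤ P.2 ∧ Module.finrank F ↥P.1 = m ∧ Module.finrank F ↥P.2 = n - m}) :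
    (∀ x : Matrix.SpecialLinearGroup (Fin n) F,
      (∃ c : F, ((x ^ r : Matrix.SpecialLinearGroup (Fin n) F) : Matrix (Fin n) (Fin n) F) = c • (1 : Matrix (Fin n) (Fin n) F)) →
      (∀ c : F, (x : Matrix (Fin n) (Fin n) F) ≠ c • (1 : Matrix (Fin n) (Fin n) F)) →
      ∃ U W : Submodule F (Fin n → F), U ≤ W ∧ Module.finrank F ↥U = m ∧ Module.finrank F ↥W = n - m ∧
        U.map (Matrix.toLin' (x : Matrix (Fin n) (Fin n) F)) ≤ U ∧ W.map (Matrix.toLin' (x : Matrix (Fin n) (Fin n) F)) ≤ W) ↔
    (r ≠ p ∧
      ((orderOf (q : ZMod r) = 1 ∧ (r ∣ m ∨ (padicValNat r n ≤ padicValNat r (q - 1) ∧ (r = 2 → Even n → q % 4 = 1)))) ∨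
       (2 ≤ orderOf (q : ZMod r) ∧ orderOf (q : ZMod r) ≤ m ∧ 2 * (m % orderOf (q : ZMod r)) ≤ n % orderOf (q : ZMod r)))) := by
  classical
  rw [SubspaceCount.card_flags F (Fin n → F) (Module.finrank_fin_fun F) (show m ≤ n - m by omega) (Fin (n - m) → F)
    (Module.finrank_fin_fun F)] at hrΩ
  have hrp : r ≠ p := by
    rintro rfl
    have h1 := SubspaceCount.cast_numSub F (Fin n → F) (p := r) (k := m) (Module.finrank_fin_fun F) (by omega)
    have h2 := SubspaceCount.cast_numSub F (Fin (n - m) → F) (p := r) (k := n - m - m) (Module.finrank_fin_fun F) (by omega)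
    have h3 := (ZMod.natCast_eq_zero_iff _ r).2 hrΩ
    rw [Nat.cast_mul, h1, h2, one_mul] at h3
    exact one_ne_zero h3
  have hdvd : r ∣ SubspaceCount.pr q n (2 * m) := by
    rw [two_mul, SubspaceCount.pr_add]
    rcases (Nat.Prime.dvd_mul Fact.out).1 hrΩ with h | h
    · exact dvd_mul_of_dvd_left (hq ▸ SubspaceCount.dvd_pr F _ (Module.finrank_fin_fun F) (by omega) h) _
    · rw [SubspaceCount.numSub_comm F _ (Module.finrank_fin_fun F) (show m ≤ n - m by omega)] at h
      exact dvd_mul_of_dvd_right (hq ▸ SubspaceCount.dvd_pr F _ (Module.finrank_fin_fun F) (by omega) h) _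
  have hfr : finrank F (Fin n → F) = n := Module.finrank_fin_fun F
  have hlhs := sl_iff (F := F) (n := n) (r := r) (fun y => HasFlag y m (n - m)) (fun a => hasFlag_scalar a (by omega) (by omega))
  refine Iff.trans (Iff.trans ?_ hlhs) ?_
  · refine forall_congr' fun x => forall_congr' fun _ => forall_congr' fun _ => ⟨?_, ?_⟩
    · exact id
    · exact id
  rw [and_iff_right hrp]
  by_cases hi : orderOf (q : ZMod r) = 1
  · constructor
    · intro h
      refine Or.inl ⟨hi, ?_⟩
      by_contra hne
      rw [not_or] at hne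
      obtain ⟨k, hk, c, hc, hpow, hN⟩ := twist_of_not_cond hq hrp (n := n) (by omega) ((order_eq_one_iff hq).1 hi)
        hne.2
      obtain ⟨y, hy, hdet, hbad⟩ := bad_of_order_one hrp hk hc hpow hN
      exact hne.1 (hbad m (n - m) (h y c hy hdet))
    · rintro (⟨-, hcond⟩ | ⟨h2, -, -⟩)
      · intro y c hy hdet
        refine flag_of_order_one hq hrp hi (by omega) (show m ≤ n - m by omega) (by omega) hy hdet fun hpow k hk hN => ?_
        rcases hcond with hd | hc
        · exact ⟨hd, Nat.dvd_sub (hk ▸ dvd_mul_right r k) hd⟩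
        · exact absurd hc (cond_of_twist hq (by omega) hk ((order_eq_one_iff hq).1 hi) hpow hN)
      · omega
  · have hpos := order_pos (F := F) hq hrp
    constructor
    · intro h
      obtain ⟨y, hy, hdet, hbad⟩ := bad_of_order_two hq hrp hi n
      obtain ⟨a, w, β, β', h1, h2, h3, h4⟩ := hbad m (n - m) (h y 1 hy hdet)
      have hlt : n % orderOf (q : ZMod r) < orderOf (q : ZMod r) := Nat.mod_lt _ hpos
      have hk : n % orderOf (q : ZMod r) < 2 * m := SubspaceCount.mod_order_lt (hq ▸ Fintype.one_lt_card) hdvd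
      have ha : m % orderOf (q : ZMod r) = a := by
        rw [h3, Nat.add_mul_mod_self_left, Nat.mod_eq_of_lt (by omega)]
      have hw : n % orderOf (q : ZMod r) = a + w := by
        have hn' : n = a + w + orderOf (q : ZMod r) * (β + β') := by rw [Nat.mul_add]; omega
        rcases Nat.lt_or_ge (a + w) (orderOf (q : ZMod r)) with hlt' | hge
        · conv_lhs => rw [hn']
          rw [Nat.add_mul_mod_self_left, Nat.mod_eq_of_lt hlt']
        · have h5 : n % orderOf (q : ZMod r) = a + w - orderOf (q : ZMod r) := by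
            conv_lhs => rw [hn']
            rw [Nat.add_mul_mod_self_left, Nat.mod_eq_sub_mod hge, Nat.mod_eq_of_lt (by omega)]
          omega
      refine Or.inr ⟨by omega, ?_, by omega⟩
      by_contra hne
      rw [Nat.mod_eq_of_lt (by omega)] at ha
      omega
    · rintro (⟨h1, -⟩ | ⟨-, -, hmod⟩)
      · exact absurd h1 hi
      · intro y c hy hdet
        refine flag_of_order_two hq hrp hi (by omega) hy hdet fun f s hfs => ?_
        set i := orderOf (q : ZMod r)
        have hf : n % i ≤ f := by rw [← hfs, Nat.add_mul_mod_self_left]; exact Nat.mod_le _ _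
        have e := (Nat.mod_add_div m i).symm
        have e1 : i * (m / i) ≤ m := Nat.mul_div_le m i
        by_cases hb : 2 * (m / i) ≤ s
        · refine ⟨m % i, f - m % i, m / i, s - m / i, by omega, by omega, by omega, by omega, e, ?_⟩
          rw [Nat.mul_sub]
          have e2 : i * (m / i) ≤ i * s := Nat.mul_le_mul_left i (by omega)
          omega
        · by_cases hb2 : m / i ≤ s
          · -- the second block takes the rest
            have e3 : i * (s - m / i) ≤ i * (m / i) := Nat.mul_le_mul_left i (by omega)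
            have e4 : i * (s - m / i) + i * (m / i) = i * s := by rw [← Nat.mul_add, Nat.sub_add_cancel hb2]
            refine ⟨m - i * (s - m / i), f - (m - i * (m / i)), s - m / i, s - (m / i), ?_, by omega, le_rfl, by omega,
              by omega, ?_⟩
            · omega
            · omega
          · have e2 : i * s ≤ i * (m / i) := Nat.mul_le_mul_left i (by omega)
            exact ⟨m - i * s, f - m, s, s, by omega, by omega, le_rfl, le_rfl, by omega, by omega⟩


end Cfsg.Agent.S5951
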