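import Cfsg.Statements.S5952


set_option autoImplicit false
open Cfsg

namespace Cfsg.Agent.S5952

section
variable {F V : Type*} [Field F] [AddCommGroup V] [Module F V] [FiniteDimensional F V]

/-- Dimension of the part of an invariant subspace in a chain with irreducible invariant steps. -/
theorem finrank_inf_sup {f : V →ₗ[F] V} {a : ℕ} {P U W : Submodule F V}
    (hP : P.map f ≤ P) (hW : W.map f ≤ W) (hU : U.map f ≤ U) (hdim : Module.finrank F U = a)
    (hirr : ∀ X : Submodule F V, X ≤ U → X.map f ≤ X → X = ⊥ ∨ X = U) (hdisj : Disjoint P U) :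
    Module.finrank F ↥(W ⊓ (P ⊔ U)) = Module.finrank F ↥(W ⊓ P) ∨
      Module.finrank F ↥(W ⊓ (P ⊔ U)) = Module.finrank F ↥(W ⊓ P) + a := by
  set X := U ⊓ (P ⊔ W ⊓ (P ⊔ U)) with hX
  have hXinv : X.map f ≤ X := by
    refine le_inf ((Submodule.map_mono inf_le_left).trans hU) ?_
    refine (Submodule.map_mono inf_le_right).trans ?_
    rw [Submodule.map_sup]
    refine sup_le (hP.trans le_sup_left) (le_trans ?_ le_sup_right)
    refine le_inf ((Submodule.map_mono inf_le_left).trans hW)
      ((Submodule.map_mono inf_le_right).trans ?_)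
    rw [Submodule.map_sup]
    exact sup_le_sup hP hU
  have hsup : P ⊔ W ⊓ (P ⊔ U) = P ⊔ X := by
    rw [hX, ← sup_inf_assoc_of_le U (le_sup_left : P ≤ P ⊔ W ⊓ (P ⊔ U))]
    symm
    exact inf_eq_right.mpr (sup_le le_sup_left inf_le_right)
  have h1 := Submodule.finrank_sup_add_finrank_inf_eq P (W ⊓ (P ⊔ U))
  have hPW : P ⊓ (W ⊓ (P ⊔ U)) = W ⊓ P := by
    rw [inf_left_comm, inf_eq_left.mpr (le_sup_left : P ≤ P ⊔ U)]
  rw [hsup, hPW] at h1
  have h2 := Submodule.finrank_sup_add_finrank_inf_eq P X
  have hPX : P ⊓ X = ⊥ := eq_bot_iff.mpr ((inf_le_inf_left P inf_le_left).trans hdisj.le_bot)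
  rw [hPX, finrank_bot] at h2
  rcases hirr X inf_le_left hXinv with h | h
  · left; rw [h, finrank_bot] at h2; rw [h] at h1; omega
  · right; rw [h, hdim] at h2; rw [h] at h1; omega

theorem exists_subspace_finrank {C : Submodule F V} {k : ℕ} (hk : k ≤ Module.finrank F C) :
    ∃ W : Submodule F V, W ≤ C ∧ Module.finrank F W = k := by
  induction k with
  | zero => exact ⟨⊥, bot_le, finrank_bot F V⟩
  | succ k ih =>
    obtain ⟨W, hW, hWk⟩ := ih (by omega)
    obtain ⟨x, hxC, hxW⟩ : ∃ x ∈ C, x ∉ W := by
      by_contra hc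
      push Not at hc
      have := Submodule.finrank_mono (show C ≤ W from hc)
      omega
    refine ⟨W ⊔ Submodule.span F {x}, sup_le hW (by simpa using hxC), ?_⟩
    have hd : W ⊓ Submodule.span F {x} = ⊥ := by
      have hx : x ≠ 0 := fun h => hxW (by rw [h]; exact zero_mem W)
      exact disjoint_iff.mp ((Submodule.disjoint_span_singleton' hx).mpr hxW)
    have := Submodule.finrank_sup_add_finrank_inf_eq W (Submodule.span F {x})
    rw [hd, finrank_bot, finrank_span_singleton (fun h => hxW (by rw [h]; exact zero_mem W))] at this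
    omega

end

/-- Which dimensions of invariant subspaces a semisimple linear map has. Let `V` be a finite-dimensional vector space over a field `F` and `f` an invertible semisimple linear map of `V`. Suppose `V` is the internal direct sum of the fixed space `C_V(f)` (the eigenspace for 1) and subspaces `U_1, …, U_s`, each `f`-invariant of dimension `a ≥ 1` on which `f` acts irreducibly (no `f`-invariant subspaces other than 0 and `U_j`). Let `0 < m < dim V` and `ℓ = m mod a`. Then `f` leaves some `m`-dimensional subspace invariant if and only if `dim C_V(f) ≥ m`, or `a ≤ m` and `dim C_V(f) ≥ ℓ`. -/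
theorem result {F V : Type*} [Field F] [AddCommGroup V] [Module F V]
    [FiniteDimensional F V] (f : V →ₗ[F] V) (hf : Function.Bijective f) (hss : Module.End.IsSemisimple f)
    {s a : ℕ} (ha : 1 ≤ a) (U : Fin s → Submodule F V)
    (hUinv : ∀ j, (U j).map f ≤ U j) (hUdim : ∀ j, Module.finrank F ↥(U j) = a)
    (hUirr : ∀ j, ∀ W : Submodule F V, W ≤ U j → W.map f ≤ W → W = ⊥ ∨ W = U j)
    (hdec : DirectSum.IsInternal (fun o : Option (Fin s) => o.elim (Module.End.eigenspace f 1) U))
    (m : ℕ) (hm : 0 < m) (hmV : m < Module.finrank F V) :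
    (∃ W : Submodule F V, Module.finrank F ↥W = m ∧ W.map f ≤ W) ↔
    (m ≤ Module.finrank F ↥(Module.End.eigenspace f 1) ∨
      (a ≤ m ∧ m % a ≤ Module.finrank F ↥(Module.End.eigenspace f 1))) := by
  classical
  set C := Module.End.eigenspace f 1 with hC
  set c := Module.finrank F C with hc
  have hfix : ∀ X : Submodule F V, X ≤ C → X.map f ≤ X := by
    rintro X hX _ ⟨x, hx, rfl⟩
    have := Module.End.mem_eigenspace_iff.mp (hX hx)
    rw [one_smul] at this
    rw [this]; exact hx
  have hind := hdec.submodule_iSupIndep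
  have htop := hdec.submodule_iSup_eq_top
  let P : ℕ → Submodule F V := fun k => C ⊔ ⨆ j : Fin s, ⨆ (_ : (j : ℕ) < k), U j
  have hPinv : ∀ k, (P k).map f ≤ P k := fun k => by
    simp only [P, Submodule.map_sup, Submodule.map_iSup]
    exact sup_le_sup (hfix C le_rfl) (iSup_mono fun j => iSup_mono fun _ => hUinv j)
  have hPsucc : ∀ (k : ℕ) (hk : k < s), P (k + 1) = P k ⊔ U ⟨k, hk⟩ ∧ Disjoint (P k) (U ⟨k, hk⟩) := by
    intro k hk
    constructor
    · simp only [P]
      rw [sup_assoc]
      congr 1
      apply le_antisymm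
      · refine iSup₂_le fun j hj => ?_
        rcases Nat.lt_succ_iff_lt_or_eq.mp hj with h | h
        · exact le_sup_of_le_left (le_iSup₂_of_le j h le_rfl)
        · exact le_sup_of_le_right (le_of_eq (congrArg U (Fin.ext h)))
      · refine sup_le (iSup₂_le fun j hj => le_iSup₂_of_le j (by omega) le_rfl) ?_
        exact le_iSup₂_of_le (⟨k, hk⟩ : Fin s) (Nat.lt_succ_self k) le_rfl
    · refine Disjoint.symm (Disjoint.mono_right ?_ (hind (some ⟨k, hk⟩)))
      refine sup_le (le_iSup₂_of_le none (by simp) le_rfl) (iSup₂_le fun j hj => ?_)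
      exact le_iSup₂_of_le (some j) (by simp [Fin.ext_iff]; omega) le_rfl
  have hP0 : P 0 = C := by simp [P]
  have hPs : P s = ⊤ := by
    rw [eq_top_iff, ← htop]
    refine iSup_le fun o => ?_
    cases o with
    | none => exact le_sup_left
    | some j => exact le_sup_of_le_right (le_iSup₂_of_le j j.2 le_rfl)
  have hPk : ∀ k, k ≤ s → Module.finrank F ↥(P k) = c + k * a := by
    intro k
    induction k with
    | zero => intro _; rw [hP0]; simp [hc]
    | succ k ih =>
      intro hk
      obtain ⟨h1, h2⟩ := hPsucc k hk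
      have := Submodule.finrank_sup_add_finrank_inf_eq (P k) (U ⟨k, hk⟩)
      rw [← h1, disjoint_iff.mp h2, finrank_bot, ih (by omega), hUdim] at this
      rw [add_mul]; omega
  constructor
  · rintro ⟨W, hWm, hWinv⟩
    have hstep : ∀ k, k ≤ s → ∃ t, Module.finrank F ↥(W ⊓ P k) = Module.finrank F ↥(W ⊓ C) + t * a := by
      intro k
      induction k with
      | zero => intro _; exact ⟨0, by rw [hP0]; simp⟩
      | succ k ih =>
        intro hk
        obtain ⟨t, ht⟩ := ih (by omega)
        obtain ⟨h1, h2⟩ := hPsucc k hk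
        rw [h1]
        rcases finrank_inf_sup (hPinv k) hWinv (hUinv _) (hUdim _) (hUirr _) h2 with h | h
        · exact ⟨t, by rw [h, ht]⟩
        · exact ⟨t + 1, by rw [h, ht, add_mul]; omega⟩
    obtain ⟨t, ht⟩ := hstep s le_rfl
    rw [hPs, inf_top_eq, hWm] at ht
    have hle : Module.finrank F ↥(W ⊓ C) ≤ c := Submodule.finrank_mono inf_le_right
    rcases Nat.eq_zero_or_pos t with h | h
    · left; rw [h, zero_mul] at ht; omega
    · right
      have : a ≤ t * a := Nat.le_mul_of_pos_left a h
      refine ⟨by omega, ?_⟩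
      rw [ht, Nat.add_mul_mod_self_right]
      exact (Nat.mod_le _ _).trans hle
  · intro h
    by_cases hmc : m ≤ c
    · obtain ⟨W, hW, hWk⟩ := exists_subspace_finrank (C := C) hmc
      exact ⟨W, hWk, hfix W hW⟩
    obtain ⟨ham, hl⟩ := h.resolve_left hmc
    have htot : Module.finrank F V = c + s * a := by rw [← hPk s le_rfl, hPs, finrank_top]
    obtain ⟨t, hts, hlow, hup⟩ : ∃ t ≤ s, t * a ≤ m ∧ m ≤ c + t * a := by
      by_cases hts : m / a ≤ s
      · exact ⟨m / a, hts, Nat.div_mul_le_self m a, by
          have := Nat.div_add_mod' m a; omega⟩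
      · exact ⟨s, le_rfl, by
          calc s * a ≤ (m / a) * a := Nat.mul_le_mul_right a (by omega)
            _ ≤ m := Nat.div_mul_le_self m a, by omega⟩
    obtain ⟨C', hC', hC'k⟩ := exists_subspace_finrank (C := C) (show m - t * a ≤ c by omega)
    refine ⟨C' ⊔ ⨆ j : Fin s, ⨆ (_ : (j : ℕ) < t), U j, ?_, ?_⟩
    · set R := ⨆ j : Fin s, ⨆ (_ : (j : ℕ) < t), U j with hR
      have hCR : Disjoint C R := (hind none).mono_right
        (iSup₂_le fun j hj => le_iSup₂_of_le (some j) (by simp) le_rfl)
      have h1 := Submodule.finrank_sup_add_finrank_inf_eq C' R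
      rw [disjoint_iff.mp (hCR.mono_left hC'), finrank_bot, hC'k] at h1
      have h2 := Submodule.finrank_sup_add_finrank_inf_eq C R
      rw [disjoint_iff.mp hCR, finrank_bot, ← hc] at h2
      have h3 := hPk t hts
      have h4 : Module.finrank F ↥(C ⊔ R) = c + t * a := h3
      omega
    · simp only [Submodule.map_sup, Submodule.map_iSup]
      exact sup_le_sup (hfix C' hC') (iSup_mono fun j => iSup_mono fun _ => hUinv j)

end Cfsg.Agent.S5952
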