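import Cfsg.Statements.S5953
import Cfsg.Agent.Lib.MaxSub.HermTI
import Mathlib

set_option maxHeartbeats 1000000
set_option linter.unusedSectionVars false
-- import your own Cfsg.Agent.* helpers here

set_option autoImplicit false
open scoped MatrixGroups
open Cfsg

namespace Cfsg.Agent.S5953

open Module Polynomial Cfsg.Agent.Lib.MaxSub
open scoped Matrix
open Cfsg.Agent.Lib.MaxSub.HermElem (Isom isom_B)
open Cfsg.Agent.Lib.MaxSub.HermTI (Good)
open scoped _root_.Classical

theorem smul_isom {F : Type*} [Field F] {q n : ℕ} {w : F} (hw : w ^ (q + 1) = 1) {Y : End F (Fin n → F)}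
    (hY : Isom q Y) : Isom q (w • Y) := fun u v => by
  rw [← hY u v]
  simp only [Cfsg.hermForm, LinearMap.smul_apply, Pi.smul_apply, smul_eq_mul]
  refine Finset.sum_congr rfl fun i _ => ?_
  rw [mul_pow]
  linear_combination (Y u i * (Y v i) ^ q) * hw

variable {F : Type*} [Field F] [Fintype F] {q n : ℕ} (hF : Fintype.card F = q ^ 2)
variable {p : ℕ} [Fact p.Prime] [CharP F p]

include hF in
theorem order_facts {r : ℕ} [hr : Fact r.Prime] (hrp : r ≠ p) (hr2 : r ≠ 2) {i b c : ℕ}
    (hi : i = orderOf (q : ZMod r)) (hb : b = if Even i then i / 2 else i)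
    (hc : c = if i % 4 = 0 then i else if i % 4 = 2 then i / 2 else 2 * i) :
    orderOf ((Fintype.card F : ℕ) : ZMod r) = b ∧ orderOf (-(q : ZMod r)) = c ∧ (Odd c ↔ i % 4 = 2) ∧ (c = 1 ↔ i = 2) ∧
      0 < i := by
  set a := (q : ZMod r) with ha
  have ha0 : a ≠ 0 := HermMoved.cast_q_ne_zero (F := F) (p := p) hF hrp
  have hi0 : 0 < i := by
    rw [hi]
    exact orderOf_pos_iff.2 (isOfFinOrder_iff_pow_eq_one.2 ⟨r - 1, Nat.sub_pos_of_lt hr.out.one_lt, ZMod.pow_card_sub_one_eq_one ha0⟩)
  have hb' : orderOf ((Fintype.card F : ℕ) : ZMod r) = b := by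
    rw [hF, Nat.cast_pow, orderOf_pow' _ two_ne_zero, ← hi, hb]
    split_ifs with hev
    · rw [Nat.gcd_eq_right hev.two_dvd]
    · rw [show Nat.gcd i 2 = 1 from Nat.coprime_two_right.2 (Nat.not_even_iff_odd.1 hev), Nat.div_one]
  have h2 : (2 : ZMod r) ≠ 0 := fun h => hr2 ((Nat.prime_dvd_prime_iff_eq hr.out Nat.prime_two).1
    ((ZMod.natCast_eq_zero_iff 2 r).1 (by exact_mod_cast h)))
  obtain ⟨c', hc'⟩ : ∃ c', orderOf (-a) = c' := ⟨_, rfl⟩
  have hrel := HermMoved.order_rel (F := F) hF hb' hc'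
  have hkey : i % 4 = 2 ↔ Odd c' := by
    constructor
    · intro h4
      obtain ⟨t, ht⟩ : ∃ t, i = t + t := ⟨i / 2, by omega⟩
      have htodd : Odd t := Nat.odd_iff.2 (by omega)
      have h1 : a ^ t * a ^ t = 1 := by rw [← pow_add, ← ht, hi, pow_orderOf_eq_one]
      have h3 : a ^ t = -1 := (mul_self_eq_one_iff.1 h1).resolve_left fun e => by
        have := Nat.le_of_dvd (by omega) (hi ▸ orderOf_dvd_of_pow_eq_one e)
        omega
      exact htodd.of_dvd_nat (hc' ▸ orderOf_dvd_of_pow_eq_one (by rw [htodd.neg_pow, h3, neg_neg]))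
    · intro hodd
      obtain ⟨-, hcb⟩ := hrel.resolve_right fun h => Nat.not_odd_iff_even.2 h.1 hodd
      have h1 : a ^ c' = -1 := by
        have := pow_orderOf_eq_one (-a)
        rw [hc', hodd.neg_pow] at this
        linear_combination -this
      have h3 : i ∣ 2 * c' := by
        rw [hi, orderOf_dvd_iff_pow_eq_one, mul_comm, pow_mul, h1, neg_one_sq]
      have h4 : ¬ i ∣ c' := fun h => by
        rw [hi, orderOf_dvd_iff_pow_eq_one, h1] at h
        exact h2 (by linear_combination -h)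
      rcases Nat.even_or_odd i with hev | hio
      · rw [if_pos hev] at hb
        have := Nat.odd_iff.1 hodd
        have := Nat.even_iff.1 hev
        omega
      · exact absurd ((Nat.Coprime.dvd_mul_left (Nat.coprime_two_right.2 hio)).1 h3) h4
  have hcc : c' = c := by
    rcases hrel with ⟨hodd, hcb⟩ | ⟨hev, hcb⟩
    · have h4 := hkey.2 hodd
      rw [hcb, hb, hc, if_pos (Nat.even_iff.2 (by omega)), if_neg (by omega), if_pos h4]
    · have h4 : ¬ i % 4 = 2 := fun h => Nat.not_odd_iff_even.2 hev (hkey.1 h)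
      rw [hcb, hb, hc, if_neg h4]
      by_cases hie : Even i
      · rw [if_pos hie, if_pos (show i % 4 = 0 by have := Nat.even_iff.1 hie; omega)]
        have := Nat.even_iff.1 hie; omega
      · rw [if_neg hie, if_neg (show ¬ i % 4 = 0 by rw [Nat.even_iff] at hie; omega)]
  subst hcc
  refine ⟨hb', hc', hkey.symm, ⟨fun h => ?_, fun h => ?_⟩, hi0⟩
  · have h4 := hkey.2 (h ▸ odd_one)
    rw [hc, if_neg (by omega), if_pos h4] at h
    omega
  · rw [hc, h]; rfl

include hF in
theorem root_norm {r : ℕ} [hr : Fact r.Prime] (hr2 : r ≠ 2) {z w : F} (hz : z ^ (q + 1) = 1) (hw : w ^ r = z) :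
    ∃ w' : F, w' ^ r = z ∧ w' ^ (q + 1) = 1 := by
  have hq2 : 2 ≤ q := Cfsg.Agent.Lib.Classical.two_le_q hF
  by_cases hrq : r ∣ q + 1
  · refine ⟨w, hw, ?_⟩
    have hw0 : w ≠ 0 := fun h => by
      rw [h, zero_pow hr.out.ne_zero] at hw
      rw [← hw, zero_pow (by omega)] at hz
      exact zero_ne_one hz
    have h1 : (w ^ (q + 1)) ^ r = 1 := by rw [← pow_mul, mul_comm, pow_mul, hw, hz]
    have h2 : (w ^ (q + 1)) ^ (q - 1) = 1 := by
      rw [← pow_mul, ← Nat.sq_sub_sq, one_pow, ← hF]; exact FiniteField.pow_card_sub_one_eq_one w hw0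
    have h3 := pow_gcd_eq_one.2 ⟨h1, h2⟩
    have hnot : ¬ r ∣ q - 1 := fun h => by
      have h6 := Nat.dvd_sub hrq h
      rw [show q + 1 - (q - 1) = 2 by omega] at h6
      exact hr2 ((Nat.prime_dvd_prime_iff_eq hr.out Nat.prime_two).1 h6)
    rwa [(hr.out.coprime_iff_not_dvd.2 hnot).gcd_eq_one, pow_one] at h3
  · obtain ⟨s, hs⟩ := Nat.exists_mul_mod_eq_one_of_coprime ((hr.out.coprime_iff_not_dvd).2 hrq) (by omega : 1 < q + 1)
    exact ⟨z ^ s, by rw [← pow_mul, mul_comm, pow_eq_pow_mod _ hz, hs.2, pow_one],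
      by rw [← pow_mul, mul_comm, pow_mul, hz, one_pow]⟩

/-- Involutions modulo scalars. -/
theorem good_two (hp : p ≠ 2) (hn : 0 < n) {X : End F (Fin n → F)} (hiso : Isom q X) (hdet : LinearMap.det X = 1)
    {z : F} (hX : X ^ 2 = z • 1) {m : ℕ} (hmn : 2 * m ≤ n)
    (hcond : 2 * m < n ∨ padicValNat 2 (q + 1) ≤ padicValNat 2 n) : Good hF m X := by
  set f := stdHerm n hF
  have hB := (isom_B hF).1 hiso
  have h20 : (2 : F) ≠ 0 := Ring.two_ne_zero (ringChar.eq F p ▸ hp)
  have hq2 : 2 ≤ q := Cfsg.Agent.Lib.Classical.two_le_q hF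
  haveI : Fact (Nat.Prime 2) := ⟨Nat.prime_two⟩
  have hz : z ^ (q + 1) = 1 := HermTI.norm_of_pow hn hiso hX
  have hz0 : z ≠ 0 := fun h => by rw [h, zero_pow (by omega)] at hz; exact zero_ne_one hz
  have hqodd : Odd q := by
    rcases Nat.even_or_odd q with h | h
    · exfalso
      refine hp ?_
      rw [← ringChar.eq F p]
      exact FiniteField.even_card_iff_char_two.2 (by rw [hF, Nat.pow_mod, Nat.even_iff.1 h])
    · exact h
  obtain ⟨μ, hμ⟩ : IsSquare z := by
    refine (FiniteField.isSquare_iff (ringChar.eq F p ▸ hp) hz0).2 ?_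
    obtain ⟨t, rfl⟩ := hqodd
    rw [show Fintype.card F / 2 = (2 * t + 1 + 1) * t by rw [hF]; ring_nf; omega, pow_mul, hz, one_pow]
  have hμ0 : μ ≠ 0 := fun e => hz0 (by rw [hμ, e, mul_zero])
  have hXX : ∀ v, X (X v) = z • v := fun v => by
    have h := LinearMap.congr_fun hX v
    rwa [pow_two, End.mul_apply] at h
  set A := End.eigenspace X μ
  set B := End.eigenspace X (-μ)
  have hA : ∀ v ∈ A, X v = μ • v := fun v hv => End.mem_eigenspace_iff.1 hv
  have hBe : ∀ v ∈ B, X v = (-μ) • v := fun v hv => End.mem_eigenspace_iff.1 hv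
  have hdec : ∀ v, ∃ a ∈ A, ∃ b ∈ B, a + b = v := fun v => by
    refine ⟨(2 : F)⁻¹ • (v + μ⁻¹ • X v), End.mem_eigenspace_iff.2 ?_, (2 : F)⁻¹ • (v - μ⁻¹ • X v),
      End.mem_eigenspace_iff.2 ?_, ?_⟩
    · simp only [map_smul, map_add, hXX, smul_add, smul_smul, hμ]
      rw [add_comm]
      congr 1 <;> congr 1 <;> field_simp
    · simp only [map_smul, map_sub, hXX, smul_sub, smul_smul, hμ]
      match_scalars <;> field_simp
    · match_scalars <;> field_simp <;> norm_num
  have hdisj : A ⊓ B = ⊥ := by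
    rw [Submodule.eq_bot_iff]
    rintro v ⟨ha, hb⟩
    have e := (hA v ha).symm.trans (hBe v hb)
    have : (2 * μ) • v = 0 := by
      rw [two_mul, add_smul]; nth_rw 2 [e]; rw [neg_smul, add_neg_cancel]
    exact (smul_eq_zero.1 this).resolve_left (mul_ne_zero h20 hμ0)
  have htop : A ⊔ B = ⊤ := eq_top_iff.2 fun v _ => by
    obtain ⟨a, ha, b, hb, rfl⟩ := hdec v
    exact Submodule.add_mem_sup ha hb
  have hdim : finrank F A + finrank F B = n := by
    have h := Submodule.finrank_sup_add_finrank_inf_eq A B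
    rw [htop, hdisj, finrank_bot, add_zero, HermTI.top_finrank] at h
    exact h.symm
  have hcompl : IsCompl A B := ⟨disjoint_iff.2 hdisj, codisjoint_iff.2 htop⟩
  have hdetX : μ ^ finrank F A * (-μ) ^ finrank F B = 1 := by
    have e : X = (Submodule.prodEquivOfIsCompl A B hcompl).conj
        (((μ • 1 : End F A)).prodMap ((-μ) • 1 : End F B)) := by
      refine LinearMap.ext fun v => ?_
      obtain ⟨⟨a, b⟩, rfl⟩ := (Submodule.prodEquivOfIsCompl A B hcompl).surjective v
      rw [LinearEquiv.conj_apply, LinearMap.comp_apply, LinearMap.comp_apply]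
      simp [hA a a.2, hBe b b.2]
    rw [e, LinearEquiv.conj_apply, LinearMap.comp_assoc, LinearMap.det_conj, LinearMap.det_prodMap,
      LinearMap.det_smul, LinearMap.det_smul, map_one, mul_one, map_one, mul_one] at hdet
    exact hdet
  obtain ⟨s, hs⟩ : ∃ s, μ ^ (q + 1) = s := ⟨_, rfl⟩
  have hsig : ∀ x : F, (stdHerm n hF).σ x = x ^ q := HermElem.σ_pow hF
  have hpair : ∀ (a b : F) u v, X u = a • u → X v = b • v → (a ^ q * b - 1) * f.B u v = 0 := fun a b u v hu hv => by
    have e := hB u v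
    rw [hu, hv, HermDecomp.smul_left, map_smul, smul_eq_mul, hsig] at e
    linear_combination e
  have hs2 : s * s = 1 := by rw [← hs, ← mul_pow, ← hμ, hz]
  rcases mul_self_eq_one_iff.1 hs2 with rfl | rfl
  · have horth : ∀ a ∈ A, ∀ b ∈ B, f.B a b = 0 := fun a ha b hb => by
      have e := hpair μ (-μ) a b (hA a ha) (hBe b hb)
      rw [mul_neg, ← pow_succ, hs] at e
      exact (mul_eq_zero.1 e).resolve_left (by intro h; exact h20 (by linear_combination -h))
    have hndA : HermDecomp.Nd f A := fun a ha ha0 => by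
      by_contra hne
      push Not at hne
      refine ha0 (f.nondeg.1 a fun v => ?_)
      obtain ⟨a', ha', b', hb', rfl⟩ := hdec v
      rw [map_add, hne a' ha', horth a ha b' hb', add_zero]
    have hndB : HermDecomp.Nd f B := fun b hb hb0 => by
      by_contra hne
      push Not at hne
      refine hb0 (f.nondeg.1 b fun v => ?_)
      obtain ⟨a', ha', b', hb', rfl⟩ := hdec v
      rw [map_add, hne b' hb', f.eq_zero_comm (horth a' ha' b hb), add_zero]
    have hP : Squarefree (Polynomial.X ^ 2 - C z) :=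
      (Polynomial.separable_X_pow_sub_C z (by exact_mod_cast h20) hz0).squarefree
    have hy : aeval X (Polynomial.X ^ 2 - C z) = 0 := by
      rw [map_sub, map_pow, aeval_X, aeval_C, hX, Algebra.algebraMap_eq_smul_one, sub_self]
    obtain ⟨N, hN0, hN⟩ : ∃ N, 0 < N ∧ X ^ N = 1 := by
      refine ⟨2 * (q + 1), by omega, ?_⟩
      rw [pow_mul, hX, _root_.smul_pow, one_pow, hz, one_smul]
    have hsplit : m ≤ finrank F A / 2 + finrank F B / 2 := by
      by_contra hlt
      rcases hcond with hlt' | hle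
      · omega
      have hbodd : Odd (finrank F B) := Nat.odd_iff.2 (by omega)
      rw [hbodd.neg_pow, mul_neg, ← pow_add, hdim] at hdetX
      have hμn : μ ^ n = -1 := by linear_combination -hdetX
      obtain ⟨w, hw⟩ := pow_padicValNat_dvd (p := 2) (n := q + 1)
      have hwodd : Odd w := by
        rcases Nat.even_or_odd w with ⟨w', hw'⟩ | h
        · exfalso
          refine pow_succ_padicValNat_not_dvd (p := 2) (n := q + 1) (by omega) ⟨w', ?_⟩
          calc q + 1 = 2 ^ padicValNat 2 (q + 1) * (w' + w') := by rw [← hw']; exact hw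
            _ = _ := by ring
        · exact h
      obtain ⟨n', hn'⟩ := (pow_dvd_pow 2 hle).trans (pow_padicValNat_dvd (p := 2) (n := n))
      have e : (μ ^ n) ^ w = 1 := by
        rw [← pow_mul, show n * w = (q + 1) * n' by
          calc n * w = 2 ^ padicValNat 2 (q + 1) * n' * w := by rw [← hn']
            _ = 2 ^ padicValNat 2 (q + 1) * w * n' := by ring
            _ = _ := by rw [← hw],
          pow_mul, hs, one_pow]
      rw [hμn, hwodd.neg_one_pow] at e
      exact h20 (by linear_combination -e)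
    obtain ⟨S, hS1, hS2, hS3, hS4⟩ := HermDecomp.exists_ti_fixed f (p := p) hN0 hN hB hP hy hndA hA
      (e := min m (finrank F A / 2)) (by omega)
    obtain ⟨T, hT1, hT2, hT3, hT4⟩ := HermDecomp.exists_ti_fixed f (p := p) hN0 hN hB hP hy hndB hBe
      (e := m - min m (finrank F A / 2)) (by omega)
    refine ⟨S ⊔ T, ?_, HermDecomp.ti_sup f hS3 hT3 fun a ha b hb => horth a (hS1 ha) b (hT1 hb), IsoDecomp.sup_inv hS2 hT2⟩
    have h := Submodule.finrank_sup_add_finrank_inf_eq S T
    rw [le_bot_iff.1 ((inf_le_inf hS1 hT1).trans hdisj.le), finrank_bot, add_zero] at h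
    omega
  · have hti : ∀ (a : F), a * a = z → a ^ (q + 1) = -1 → ∀ U : Submodule F (Fin n → F), (∀ v ∈ U, X v = a • v) →
        U ≤ f.perp U := by
      intro a _ ha U hU v hv u hu
      have e := hpair a a u v (hU u hu) (hU v hv)
      rw [← pow_succ, ha] at e
      exact (mul_eq_zero.1 e).resolve_left (by intro h; exact h20 (by linear_combination -h))
    have hAt := hti μ hμ.symm hs A hA
    have hBt := hti (-μ) (by rw [neg_mul_neg, ← hμ]) (by
      rw [(hqodd.add_odd odd_one).neg_pow, hs]) B hBe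
    have h1 := HermDecomp.ti_half f (HermDecomp.nd_top f) le_top hAt
    have h2 := HermDecomp.ti_half f (HermDecomp.nd_top f) le_top hBt
    rw [HermTI.top_finrank] at h1 h2
    obtain ⟨S, hSA, hSd⟩ : ∃ S : Submodule F (Fin n → F), S ≤ A ∧ finrank F S = m := by
      obtain ⟨S, hS⟩ : ∃ S : Submodule F A, finrank F S = m := by
        let b := Module.finBasis F A
        refine ⟨Submodule.span F (Set.range fun j : Fin m => b (Fin.castLE (by omega) j)), ?_⟩
        rw [finrank_span_eq_card, Fintype.card_fin]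
        exact b.linearIndependent.comp _ (Fin.castLE_injective _)
      exact ⟨S.map A.subtype, Submodule.map_subtype_le A S,
        by rw [← (Submodule.equivMapOfInjective _ A.subtype_injective S).finrank_eq, hS]⟩
    refine ⟨S, hSd, fun v hv u hu => hAt (hSA hv) u (hSA hu), ?_⟩
    rintro _ ⟨v, hv, rfl⟩
    rw [hA v (hSA hv)]
    exact S.smul_mem _ hv

/-- The bad involution. -/
theorem bad_two (hp : p ≠ 2) {m : ℕ} (hn : n = 2 * m) (hm : 1 ≤ m)
    (hv : padicValNat 2 n < padicValNat 2 (q + 1)) :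
    ∃ (X : End F (Fin n → F)) (z : F), Isom q X ∧ LinearMap.det X = 1 ∧ X ^ 2 = z • 1 ∧ ¬ Good hF m X := by
  haveI : Fact (Nat.Prime 2) := ⟨Nat.prime_two⟩
  set f := stdHerm n hF
  have hq2 : 2 ≤ q := Cfsg.Agent.Lib.Classical.two_le_q hF
  have h20 : (2 : F) ≠ 0 := Ring.two_ne_zero (ringChar.eq F p ▸ hp)
  set v := padicValNat 2 n with hvdef
  have hdvd : 2 ^ (v + 1) ∣ Nat.card Fˣ := by
    rw [HermTI.card_units hF]
    exact ((pow_dvd_pow 2 (by omega)).trans (pow_padicValNat_dvd (p := 2) (n := q + 1))).trans (dvd_mul_right _ _)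
  obtain ⟨G, hG⟩ := IsCyclic.exists_generator (α := Fˣ)
  set μu := G ^ (Nat.card Fˣ / 2 ^ (v + 1)) with hμu
  have hord : orderOf μu = 2 ^ (v + 1) := by
    rw [hμu, orderOf_pow, orderOf_eq_card_of_forall_mem_zpowers hG, Nat.gcd_eq_right (Nat.div_dvd_of_dvd hdvd),
      Nat.div_div_self hdvd Nat.card_pos.ne']
  set μ : F := (μu : F) with hμdef
  have hμq : μ ^ (q + 1) = 1 := by
    rw [hμdef, ← Units.val_pow_eq_pow_val, orderOf_dvd_iff_pow_eq_one.1, Units.val_one]
    rw [hord]; exact (pow_dvd_pow 2 (by omega)).trans (pow_padicValNat_dvd (p := 2) (n := q + 1))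
  have hμn : μ ^ n = -1 := by
    have h1 : μ ^ n * μ ^ n = 1 := by
      rw [← pow_add, ← two_mul, hμdef, ← Units.val_pow_eq_pow_val, orderOf_dvd_iff_pow_eq_one.1, Units.val_one]
      rw [hord, pow_succ']; exact Nat.mul_dvd_mul_left 2 pow_padicValNat_dvd
    refine (mul_self_eq_one_iff.1 h1).resolve_left fun h => ?_
    rw [hμdef, ← Units.val_pow_eq_pow_val, Units.val_eq_one, ← orderOf_dvd_iff_pow_eq_one, hord] at h
    exact pow_succ_padicValNat_not_dvd (p := 2) (by omega) h
  set i₀ : Fin n := ⟨0, by omega⟩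
  let d : Fin n → F := fun i => if i = i₀ then -μ else μ
  let X : End F (Fin n → F) :=
    { toFun := fun v i => d i * v i
      map_add' := fun u v => funext fun i => by simp [mul_add]
      map_smul' := fun a v => funext fun i => by simp [mul_left_comm] }
  have hqe : Even (q + 1) := by
    have h1 : 2 ∣ q + 1 := (dvd_pow_self 2 (by omega)).trans (pow_padicValNat_dvd (p := 2) (n := q + 1))
    exact even_iff_two_dvd.2 h1
  have hd : ∀ i, d i * d i ^ q = 1 := fun i => by
    rw [← pow_succ']; simp only [d]; split_ifs <;> simp [hμq, hqe.neg_pow]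
  have hXiso : Isom q X := fun u v => by
    simp only [Cfsg.hermForm, X, LinearMap.coe_mk, AddHom.coe_mk, mul_pow]
    refine Finset.sum_congr rfl fun i _ => ?_
    linear_combination (u i * v i ^ q) * hd i
  refine ⟨X, μ * μ, hXiso, ?_, ?_, ?_⟩
  · have e : X = Matrix.toLin' (Matrix.diagonal d) := by
      refine LinearMap.ext fun v => funext fun i => ?_
      simp [X, Matrix.toLin'_apply, Matrix.mulVec_diagonal]
    rw [e, LinearMap.det_toLin', Matrix.det_diagonal, Finset.prod_ite, Finset.prod_const, Finset.prod_const,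
      Finset.filter_eq', if_pos (Finset.mem_univ _), Finset.card_singleton, pow_one, Finset.filter_ne',
      Finset.card_erase_of_mem (Finset.mem_univ _), Finset.card_univ, Fintype.card_fin, neg_mul, ← pow_succ',
      show n - 1 + 1 = n by omega, hμn, neg_neg]
  · refine LinearMap.ext fun v => funext fun i => ?_
    simp only [pow_two, End.mul_apply, X, LinearMap.coe_mk, AddHom.coe_mk, LinearMap.smul_apply, End.one_apply,
      Pi.smul_apply, smul_eq_mul, d]
    split_ifs <;> ring
  · rintro ⟨W, hWd, hWti, hW⟩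
    set e₀ : Fin n → F := Pi.single i₀ 1
    have he₀ : f.B e₀ e₀ = 1 := by
      rw [stdHerm_apply, Cfsg.hermForm, Finset.sum_eq_single i₀] <;>
        simp +contextual [e₀, zero_pow (show q ≠ 0 by omega)]
    have hzero : ∀ w ∈ W, w i₀ = 0 := fun w hw => by
      have h1 : μ • w - X w = (2 * μ * w i₀) • e₀ := funext fun i => by
        by_cases hi : i = i₀
        · subst hi; simp [X, d, e₀]; ring
        · simp [X, d, e₀, hi]
      have h2 : (2 * μ * w i₀) • e₀ ∈ W := h1 ▸ W.sub_mem (W.smul_mem μ hw) (hW (Submodule.mem_map_of_mem hw))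
      have h3 : f.B _ _ = 0 := hWti h2 _ h2
      rw [HermDecomp.smul_left, map_smul, he₀, smul_eq_mul, mul_one, mul_eq_zero, f.σ_eq_zero] at h3
      rcases h3 with h3 | h3 <;>
        exact (mul_eq_zero.1 h3).resolve_left (mul_ne_zero h20 (Units.ne_zero μu))
    have hL : HermDecomp.Nd f (F ∙ e₀) := fun u hu hu0 => by
      obtain ⟨a, rfl⟩ := Submodule.mem_span_singleton.1 hu
      refine ⟨e₀, Submodule.mem_span_singleton_self _, ?_⟩
      rw [HermDecomp.smul_left, he₀, mul_one, Ne, f.σ_eq_zero]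
      rintro rfl
      exact hu0 (zero_smul _ _)
    obtain ⟨-, hR, hdim⟩ := HermDecomp.split_off f (HermDecomp.nd_top f) hL le_top
    have hWR : W ≤ ⊤ ⊓ f.perp (F ∙ e₀) := le_inf le_top fun w hw => by
      rw [f.mem_perp_span, stdHerm_apply, Cfsg.hermForm, Finset.sum_eq_single i₀] <;>
        simp +contextual [e₀, hzero w hw, zero_pow (show q ≠ 0 by omega)]
    have h4 := HermDecomp.ti_half f hR hWR hWti
    have he0 : e₀ ≠ 0 := fun h => by rw [h, map_zero] at he₀; exact zero_ne_one he₀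
    rw [finrank_span_singleton he0, HermTI.top_finrank] at hdim
    omega

/-- Elements of prime order of PSU_n(q) with no fixed totally isotropic `m`-space. Here `T = PSU_n(q)` (`n ≥ 3`, `(n, q) ≠ (3, 2)`), realised through the matrices of determinant 1 over the field `F` with `q²` elements preserving the Hermitian form `h(u, v) = Σ u_i v_i^q`; an element of `T` of prime order `r` is such a matrix `x` with `x^r` scalar and `x` not scalar. For `r ≠ p` let `i` be the multiplicative order of `q` modulo `r`, `b = i/2` for `i` even and `b = i` for `i` odd, `c = i, i/2, 2i` according as `i ≡ 0, 2 (mod 4)` or `i` odd, and write `k = n mod c`, `ℓ = m mod b`, `ℓ' = m mod c`, `n' = ⌊n/b⌋`, `m' = ⌊m/b⌋`, `s = (r−1)/b`; `(a)_r` is the `r`-part of `a`. Let `1 ≤ m ≤ n/2` and let `r` be a prime dividing the number of totally isotropic `m`-spaces. Then every element of `T` of order `r` fixes a totally isotropic `m`-space if and only if either (i) `r = 2`, `p ≠ 2`, and (`m < n/2` or `(q+1)_2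 ≤ (n)_2`); or (ii) `r ≠ p`, `r > 2`, `b ≤ m`, `k ≥ 2ℓ`, and either `i ≢ 2 (mod 4)`, or `i ≡ 2 (mod 4)`, `n' − 2m' ≥ s` and (`i > 2`, or `i = 2` and (`r ∣ m` or `(q+1)_r ≥ (n)_r`)). -/
theorem result {F : Type*} [Field F] [Fintype F] {p : ℕ} [Fact p.Prime] [CharP F p] {q : ℕ} (hq : Fintype.card F = q ^ 2)
    (n m : ℕ) (hn : 3 ≤ n) (hT : (n, q) ≠ (3, 2)) (hm : 1 ≤ m) (hmn : 2 * m ≤ n)
    (r : ℕ) [Fact r.Prime]
    (hrΩ : r ∣ Nat.card {W : Submodule F (Fin n → F) // Module.finrank F ↥W = m ∧ (∀ u ∈ W, ∀ v ∈ W, Cfsg.hermForm n F q u v = 0)})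
    (i b c : ℕ) (hi : i = orderOf (q : ZMod r)) (hb : b = if Even i then i / 2 else i)
    (hc : c = if i % 4 = 0 then i else if i % 4 = 2 then i / 2 else 2 * i) :
    (∀ x : Matrix.SpecialLinearGroup (Fin n) F, x ∈ Cfsg.SU n F q →
      (∃ z : F, ((x ^ r : Matrix.SpecialLinearGroup (Fin n) F) : Matrix (Fin n) (Fin n) F) = z • (1 : Matrix (Fin n) (Fin n) F)) →
      (∀ z : F, (x : Matrix (Fin n) (Fin n) F) ≠ z • (1 : Matrix (Fin n) (Fin n) F)) →
      ∃ W : Submodule F (Fin n → F), Module.finrank F ↥W = m ∧ (∀ u ∈ W, ∀ v ∈ W, Cfsg.hermForm n F q u v = 0) ∧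
        W.map (Matrix.toLin' (x : Matrix (Fin n) (Fin n) F)) ≤ W) ↔
    ((r = 2 ∧ p ≠ 2 ∧ (2 * m < n ∨ padicValNat 2 (q + 1) ≤ padicValNat 2 n)) ∨
     (r ≠ p ∧ 2 < r ∧ b ≤ m ∧ 2 * (m % b) ≤ n % c ∧
       (i % 4 ≠ 2 ∨ (i % 4 = 2 ∧ (r - 1) / b + 2 * (m / b) ≤ n / b ∧
         (2 < i ∨ (i = 2 ∧ (r ∣ m ∨ padicValNat r n ≤ padicValNat r (q + 1)))))))) := by
  haveI hrF : Fact r.Prime := inferInstance
  have hn0 : 0 < n := by omega
  have hrp : r ≠ p := HermTI.ne_char (p := p) hq hmn hrΩ
  have hb2 : ∀ (X : End F (Fin n → F)), Isom q X → LinearMap.det X = 1 → ∀ z : F, X ^ r = z • 1 →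
      (∀ x : Matrix.SpecialLinearGroup (Fin n) F, x ∈ Cfsg.SU n F q →
      (∃ z : F, ((x ^ r : Matrix.SpecialLinearGroup (Fin n) F) : Matrix (Fin n) (Fin n) F) = z • (1 : Matrix (Fin n) (Fin n) F)) →
      (∀ z : F, (x : Matrix (Fin n) (Fin n) F) ≠ z • (1 : Matrix (Fin n) (Fin n) F)) →
      ∃ W : Submodule F (Fin n → F), Module.finrank F ↥W = m ∧ (∀ u ∈ W, ∀ v ∈ W, Cfsg.hermForm n F q u v = 0) ∧
        W.map (Matrix.toLin' (x : Matrix (Fin n) (Fin n) F)) ≤ W) → Good hq m X := by
    intro X hX hdet z hz h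
    by_cases hs : ∃ a : F, X = a • 1
    · obtain ⟨a, rfl⟩ := hs
      exact HermTI.good_scalar hq (p := p) hmn a
    push Not at hs
    let x : Matrix.SpecialLinearGroup (Fin n) F := ⟨LinearMap.toMatrix' X, by rw [LinearMap.det_toMatrix', hdet]⟩
    have hxX : Matrix.toLin' (x : Matrix (Fin n) (Fin n) F) = X := Matrix.toLin'_toMatrix' X
    obtain ⟨W, h1, h2, h3⟩ := h x (fun u v => by
        show Cfsg.hermForm n F q ((x : Matrix (Fin n) (Fin n) F) *ᵥ u) ((x : Matrix (Fin n) (Fin n) F) *ᵥ v) = _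
        rw [← Matrix.toLin'_apply, ← Matrix.toLin'_apply, hxX]
        exact hX u v)
      ⟨z, Matrix.toLin'.injective (by
        rw [Matrix.SpecialLinearGroup.coe_pow, Matrix.toLin'_pow, hxX, hz, map_smul, Matrix.toLin'_one]; rfl)⟩
      (fun a ha => hs a (by rw [← hxX, ha, map_smul, Matrix.toLin'_one]; rfl))
    exact ⟨W, h1, fun v hv u hu => h2 v hv u hu, hxX ▸ h3⟩
  have hfrom : (∀ (X : End F (Fin n → F)), Isom q X → LinearMap.det X = 1 → ∀ z : F, X ^ r = z • 1 → Good hq m X) →
      ∀ x : Matrix.SpecialLinearGroup (Fin n) F, x ∈ Cfsg.SU n F q →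
      (∃ z : F, ((x ^ r : Matrix.SpecialLinearGroup (Fin n) F) : Matrix (Fin n) (Fin n) F) = z • (1 : Matrix (Fin n) (Fin n) F)) →
      (∀ z : F, (x : Matrix (Fin n) (Fin n) F) ≠ z • (1 : Matrix (Fin n) (Fin n) F)) →
      ∃ W : Submodule F (Fin n → F), Module.finrank F ↥W = m ∧ (∀ u ∈ W, ∀ v ∈ W, Cfsg.hermForm n F q u v = 0) ∧
        W.map (Matrix.toLin' (x : Matrix (Fin n) (Fin n) F)) ≤ W := by
    rintro h x hx ⟨z, hz⟩ -
    obtain ⟨W, h1, h2, h3⟩ := h (Matrix.toLin' (x : Matrix (Fin n) (Fin n) F))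
      (fun u v => by rw [Matrix.toLin'_apply, Matrix.toLin'_apply]; exact hx u v)
      (by rw [LinearMap.det_toLin', x.det_coe]) z
      (by rw [← Matrix.toLin'_pow, ← Matrix.SpecialLinearGroup.coe_pow, hz, map_smul, Matrix.toLin'_one]; rfl)
    exact ⟨W, h1, fun u hu v hv => h2 hu v hv, h3⟩
  by_cases hr2 : r = 2
  · subst hr2
    have hp2 : p ≠ 2 := hrp.symm
    simp only [lt_irrefl, false_and, and_false, or_false, true_and, hp2, ne_eq, not_false_iff]
    constructor
    · intro h
      by_contra hne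
      push Not at hne
      obtain ⟨X, z, hX, hdet, hz, hbad⟩ := bad_two hq hp2 (m := m) (show n = 2 * m by omega) hm hne.2
      exact hbad (hb2 X hX hdet z hz h)
    · intro hC
      exact hfrom fun X hX hdet z hz => good_two hq hp2 hn0 hX hdet hz hmn hC
  · have hr3 : 2 < r := lt_of_le_of_ne (Fact.out : r.Prime).two_le (Ne.symm hr2)
    obtain ⟨hb', hc', hodd, hone, hi0⟩ := order_facts hq (p := p) hrp hr2 hi hb hc
    simp only [hr2, false_and, false_or, ne_eq, hrp, not_false_iff, hr3, true_and]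
    constructor
    · intro h
      have hall := fun X hX hdet z hz => hb2 X hX hdet z hz h
      by_cases hc1 : c = 1
      · have hi2 := hone.1 hc1
        have hb1 : b = 1 := by rw [hb, hi2]; rfl
        have hratio := HermTI.cond_of_all_one hq (p := p) hrp hr2 (hc'.trans hc1) hm hmn
          (fun X hX hdet hXr => hall X hX hdet 1 (by rw [hXr, one_smul]))
        refine ⟨by omega, by rw [hb1, hc1, Nat.mod_one, Nat.mod_one], Or.inr ⟨by omega, by rw [hb1]; simpa using hratio, Or.inr ⟨hi2, ?_⟩⟩⟩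
        by_contra hne
        push Not at hne
        obtain ⟨X, z, hX, hz, hdet, -, hrm⟩ := HermTI.exists_twist hq (p := p) hrp hr2 hn0
          (HermTI.r_dvd_sq_sub (hc'.trans hc1)) hne.2
        obtain ⟨W, hWd, -, hWi⟩ := hall X hX hdet z hz
        exact hne.1 (hWd ▸ hrm W hWi)
      · obtain ⟨h1, h2, h3⟩ := HermTI.cond_of_all hq hrp hr2 hb' hc' hc1 hmn hrΩ
          (fun X hX hdet hXr => hall X hX hdet 1 (by rw [hXr, one_smul]))
        refine ⟨h1, h2, ?_⟩
        by_cases h4 : i % 4 = 2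
        · exact Or.inr ⟨h4, h3.resolve_left (Nat.not_even_iff_odd.2 (hodd.2 h4)),
            Or.inl (by rcases eq_or_ne i 2 with e | e; exact absurd (hone.2 e) hc1; omega)⟩
        · exact Or.inl h4
    · rintro ⟨-, hk, hC⟩
      refine hfrom fun X hX hdet z hz => ?_
      have hz1 : z ^ (q + 1) = 1 := HermTI.norm_of_pow hn0 hX hz
      by_cases hroot : ∃ w : F, w ^ r = z
      · obtain ⟨w₀, hw₀⟩ := hroot
        obtain ⟨w, hw, hwq⟩ := root_norm hq hr2 hz1 hw₀
        have hw0 : w ≠ 0 := fun h => by rw [h, zero_pow (Nat.succ_ne_zero q)] at hwq; exact zero_ne_one hwq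
        have hwi : (w⁻¹) ^ (q + 1) = 1 := by rw [inv_pow, hwq, inv_one]
        refine HermTI.good_smul hq (inv_ne_zero hw0) (HermTI.good_odd hq hrp hr2 hb' hc' ?_ (smul_isom hwi hX) hmn hk ?_)
        · rw [_root_.smul_pow, hz, smul_smul, inv_pow, hw, inv_mul_cancel₀ (fun h => by
            rw [h, zero_pow (Nat.succ_ne_zero q)] at hz1; exact zero_ne_one hz1), one_smul]
        · rcases hC with h4 | ⟨-, h5, -⟩
          · exact Or.inl (Nat.not_odd_iff_even.1 fun ho => h4 (hodd.1 ho))
          · exact Or.inr h5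
      · push Not at hroot
        have hz0 : z ≠ 0 := fun h => by rw [h, zero_pow (Nat.succ_ne_zero q)] at hz1; exact zero_ne_one hz1
        have hPi : Irreducible (Polynomial.X ^ r - C z) := X_pow_sub_C_irreducible_of_prime Fact.out hroot
        have hsq : Squarefree (Polynomial.X ^ r - C z) := PrimeElemFlags.sq (PrimeElemFlags.cast_ne_zero hrp) hz0
        have hy : aeval X (Polynomial.X ^ r - C z) = 0 := PrimeElemFlags.aeval_eq_zero hz
        obtain ⟨k, hk'⟩ : r ∣ n := by
          have h := (PrimeElem.uniform hsq hy _ hPi.ne_zero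
            (fun g hg hd => (natDegree_eq_of_degree_eq (degree_eq_degree_of_associated (hg.associated_of_dvd hPi hd))).trans
              natDegree_X_pow_sub_C) _ ⊤ rfl le_top fun v _ => by rw [hy]; rfl).1
          rwa [HermTI.top_finrank] at h
        have hzk : z ^ k = 1 := by
          have h := PrimeElem.det_eq r z hPi hsq (by omega) k X (by rw [Module.finrank_fin_fun, hk']) hy
          obtain ⟨t, ht⟩ := hrF.out.odd_of_ne_two hr2
          rw [hdet, show r + 1 = 2 * (t + 1) by omega, pow_mul, neg_one_sq, one_pow, one_mul] at h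
          exact h.symm
        have hrq : r ∣ q + 1 := by
          by_contra hrq
          obtain ⟨s, hs⟩ := Nat.exists_mul_mod_eq_one_of_coprime ((hrF.out.coprime_iff_not_dvd).2 hrq)
            (by have := Cfsg.Agent.Lib.Classical.two_le_q hq; omega : 1 < q + 1)
          exact hroot (z ^ s) (by rw [← pow_mul, mul_comm, pow_eq_pow_mod _ hz1, hs.2, pow_one])
        have hc1 : c = 1 := by
          rw [← hc', orderOf_eq_one_iff, neg_eq_iff_add_eq_zero, ← Nat.cast_one, ← Nat.cast_add, ZMod.natCast_eq_zero_iff]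
          exact hrq
        have hi2 := hone.1 hc1
        rcases hC with h4 | ⟨-, -, h6⟩
        · omega
        rcases h6 with h6 | ⟨-, h6⟩
        · omega
        rcases h6 with hrm | hle
        · exact HermTI.good_twist hq hr2 hrp hX hn0 hz hroot hrm hmn
        · obtain ⟨w, hw⟩ := HermTI.exists_root hq hr2 hz1 hk' hn0 hzk hle
          exact absurd hw (hroot w)

end Cfsg.Agent.S5953
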