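import Cfsg.Statements.S5954
import Cfsg.Agent.Lib.MaxSub.HermUnip
import Cfsg.Agent.S5953
import Mathlib

set_option maxHeartbeats 1000000
set_option linter.unusedSectionVars false
-- import your own Cfsg.Agent.* helpers here

set_option autoImplicit false
open scoped MatrixGroups
open Cfsg

namespace Cfsg.Agent.S5954

open Module Polynomial Cfsg.Agent.Lib.MaxSub
open scoped Matrix
open Cfsg.Agent.Lib.MaxSub.HermDecomp (Nd nd_top smul_left)
open Cfsg.Agent.Lib.MaxSub.HermElem (Isom isom_B)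
open Cfsg.Agent.S5953 (smul_isom order_facts)
open scoped _root_.Classical

variable {F : Type*} [Field F] [Fintype F] {q n : ℕ} (hF : Fintype.card F = q ^ 2)
variable {p : ℕ} [Fact p.Prime] [CharP F p]

/-- A fixed non-degenerate subspace. -/
def Good (m : ℕ) (X : End F (Fin n → F)) : Prop :=
  ∃ W : Submodule F (Fin n → F), finrank F W = m ∧ Nd (stdHerm n hF) W ∧ W.map X ≤ W

theorem exists_period {X : End F (Fin n → F)} {r : ℕ} {z : F} (hr : 0 < r) (hz : z ^ (q + 1) = 1) (hX : X ^ r = z • 1) :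
    ∃ N, 0 < N ∧ X ^ N = 1 :=
  ⟨r * (q + 1), Nat.mul_pos hr q.succ_pos, by rw [pow_mul, hX, _root_.smul_pow, one_pow, hz, one_smul]⟩

include hF in
theorem exists_root {r : ℕ} [hr : Fact r.Prime] (hrq : ¬ r ∣ q + 1) {z : F} (hz : z ^ (q + 1) = 1) :
    ∃ w : F, w ^ r = z ∧ w ^ (q + 1) = 1 := by
  have hq2 : 2 ≤ q := Cfsg.Agent.Lib.Classical.two_le_q hF
  obtain ⟨s, hs⟩ := Nat.exists_mul_mod_eq_one_of_coprime ((hr.out.coprime_iff_not_dvd).2 hrq) (by omega : 1 < q + 1)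
  exact ⟨z ^ s, by rw [← pow_mul, mul_comm, pow_eq_pow_mod _ hz, hs.2, pow_one],
    by rw [← pow_mul, mul_comm, pow_mul, hz, one_pow]⟩

theorem normalise {r : ℕ} {X : End F (Fin n → F)} (hX : Isom q X) {z w : F} (hz : X ^ r = z • 1)
    (hw : w ^ r = z) (hwq : w ^ (q + 1) = 1) :
    ∃ Y : End F (Fin n → F), Isom q Y ∧ Y ^ r = 1 ∧ X = w • Y := by
  have hw0 : w ≠ 0 := fun h => by rw [h, zero_pow (Nat.succ_ne_zero q)] at hwq; exact zero_ne_one hwq
  refine ⟨w⁻¹ • X, smul_isom (by rw [inv_pow, hwq, inv_one]) hX, ?_, by rw [smul_smul, mul_inv_cancel₀ hw0, one_smul]⟩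
  rw [_root_.smul_pow, hz, ← hw, smul_smul, inv_pow, inv_mul_cancel₀ (pow_ne_zero _ hw0), one_smul]

theorem good_smul {m : ℕ} {X : End F (Fin n → F)} (w : F) (h : Good hF m X) : Good hF m (w • X) := by
  obtain ⟨W, h1, h2, h3⟩ := h
  exact ⟨W, h1, h2, by rintro _ ⟨v, hv, rfl⟩; exact W.smul_mem w (h3 ⟨v, hv, rfl⟩)⟩

section Unipotent

theorem partition_two {m : ℕ} (hmn : m ≤ n) (hpar : Odd n ∨ Even m) (μ : Multiset ℕ) (hμ : ∀ a ∈ μ, 0 < a ∧ a ≤ 2)
    (hμs : μ.sum = n) : ∃ ν ≤ μ, ν.sum = m := by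
  obtain ⟨A, hA⟩ : ∃ A, A = μ.count 1 := ⟨_, rfl⟩
  obtain ⟨B, hB⟩ : ∃ B, B = μ.count 2 := ⟨_, rfl⟩
  have hμe : μ = Multiset.replicate A 1 + Multiset.replicate B 2 := by
    refine Multiset.ext.2 fun a => ?_
    rw [Multiset.count_add, Multiset.count_replicate, Multiset.count_replicate]
    by_cases h1 : a = 1
    · subst h1; simp [hA]
    by_cases h2 : a = 2
    · subst h2; simp [hB]
    rw [if_neg (Ne.symm h1), if_neg (Ne.symm h2), Multiset.count_eq_zero.2 fun h => by have := hμ a h; omega]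
  subst hμe
  simp only [Multiset.sum_add, Multiset.sum_replicate, smul_eq_mul, mul_one] at hμs
  refine ⟨Multiset.replicate (m - 2 * min B (m / 2)) 1 + Multiset.replicate (min B (m / 2)) 2,
    add_le_add ((Multiset.replicate_le_replicate 1).2 ?_) ((Multiset.replicate_le_replicate 2).2 (min_le_left _ _)), ?_⟩
  · rw [Nat.odd_iff, Nat.even_iff] at hpar
    omega
  · simp only [Multiset.sum_add, Multiset.sum_replicate, smul_eq_mul, mul_one]
    omega

theorem unip_good {X : End F (Fin n → F)} (hX : Isom q X) {z : F} (hn : 0 < n) (hz : X ^ p = z • 1) {m : ℕ}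
    (H : ∀ μ : Multiset ℕ, (∀ a ∈ μ, 0 < a ∧ a ≤ p) → μ.sum = n → ∃ ν ≤ μ, ν.sum = m) : Good hF m X := by
  have hp : p.Prime := Fact.out
  have hzq := HermTI.norm_of_pow hn hX hz
  obtain ⟨w, hw, hwq⟩ := exists_root hF (r := p) (fun h => by
    have hpq : p ∣ q := hp.dvd_of_dvd_pow (n := 2) (by
      rw [← hF, ← CharP.cast_eq_zero_iff F p]; exact Nat.cast_card_eq_zero F)
    have := Nat.dvd_sub h hpq
    rw [show q + 1 - q = 1 by omega] at this
    exact hp.not_dvd_one this) hzq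
  obtain ⟨Y, hY, hYp, rfl⟩ := normalise hX hz hw hwq
  obtain ⟨μ, h1, h2, -, h4⟩ := HermUnip.exists_blocks (stdHerm n hF) hYp ((isom_B hF).1 hY) n
    (U := ⊤) HermTI.top_finrank (nd_top _) le_top
  obtain ⟨ν, hν, hνs⟩ := H μ h1 h2
  obtain ⟨W, -, hW, hWi, hWd⟩ := h4 ν hν
  exact good_smul hF w ⟨W, hWd.trans hνs, hW, hWi⟩

theorem unip_bad {μ : Multiset ℕ} (hμ : ∀ a ∈ μ, 0 < a ∧ a ≤ p) (hμs : μ.sum = n) {m : ℕ}
    (H : ¬ ∃ ν ≤ μ, ν.sum = m) :
    ∃ X : End F (Fin n → F), Isom q X ∧ LinearMap.det X = 1 ∧ X ^ p = 1 ∧ ¬ Good hF m X := by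
  subst hμs
  obtain ⟨y, hy, hyp, hdet, hyk⟩ := HermUnip.exists_unipotent hF μ hμ
  refine ⟨y, hy, hdet, hyp, ?_⟩
  rintro ⟨W, hWd, hW, hWi⟩
  set f := stdHerm μ.sum hF
  have hB := (isom_B hF).1 hy
  obtain ⟨hsup, hR, -⟩ := HermDecomp.split_off f (nd_top f) hW le_top
  have hRi : ((⊤ : Submodule F (Fin μ.sum → F)) ⊓ f.perp W).map y ≤ ⊤ ⊓ f.perp W :=
    IsoDecomp.inf_inv le_top (HermDecomp.perp_inv f hyp (Fact.out : p.Prime).pos hB hWi)
  obtain ⟨μ₁, a1, a2, a3, -⟩ := HermUnip.exists_blocks f hyp hB m hWd hW hWi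
  obtain ⟨μ₂, b1, -, b3, -⟩ := HermUnip.exists_blocks f hyp hB _ rfl hR hRi
  have e : μ = μ₁ + μ₂ := UnipotentSymp.sizes_unique (fun a ha => (hμ a ha).1)
    (fun a ha => (Multiset.mem_add.1 ha).elim (fun h => (a1 a h).1) fun h => (b1 a h).1) fun k => by
      rw [← hyk k, ← Submodule.map_top, UnipotentSymp.map_add_dim hsup (HermUnip.inf_perp f hW ⊤) hWi hRi, a3, b3,
        Multiset.map_add, Multiset.sum_add]
  exact H ⟨μ₁, e.ge.trans' (Multiset.le_add_right _ _), a2⟩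

end Unipotent

section Two

variable (h20 : (2 : F) ≠ 0) {X : End F (Fin n → F)} {z μ : F}

include h20 in
theorem disjoint_eigen (hμ0 : μ ≠ 0) : End.eigenspace X μ ⊓ End.eigenspace X (-μ) = ⊥ := by
  rw [Submodule.eq_bot_iff]
  rintro v ⟨ha, hb⟩
  have e := (End.mem_eigenspace_iff.1 ha).symm.trans (End.mem_eigenspace_iff.1 hb)
  have : (2 * μ) • v = 0 := by
    rw [two_mul, add_smul]; nth_rw 2 [e]; rw [neg_smul, add_neg_cancel]
  exact (smul_eq_zero.1 this).resolve_left (mul_ne_zero h20 hμ0)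

include h20 in
theorem eigen_split (hμ0 : μ ≠ 0) (hμ : z = μ * μ) (hX : X ^ 2 = z • 1) {U : Submodule F (Fin n → F)}
    (hU : U.map X ≤ U) {v : Fin n → F} (hv : v ∈ U) :
    ∃ a ∈ U ⊓ End.eigenspace X μ, ∃ b ∈ U ⊓ End.eigenspace X (-μ), a + b = v := by
  have hXX : ∀ v, X (X v) = z • v := fun v => by
    have h := LinearMap.congr_fun hX v
    rwa [pow_two, End.mul_apply] at h
  have hXv : μ⁻¹ • X v ∈ U := U.smul_mem _ (hU ⟨v, hv, rfl⟩)
  refine ⟨(2 : F)⁻¹ • (v + μ⁻¹ • X v), ⟨U.smul_mem _ (U.add_mem hv hXv), End.mem_eigenspace_iff.2 ?_⟩,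
    (2 : F)⁻¹ • (v - μ⁻¹ • X v), ⟨U.smul_mem _ (U.sub_mem hv hXv), End.mem_eigenspace_iff.2 ?_⟩, ?_⟩
  · simp only [map_smul, map_add, hXX, smul_add, smul_smul, hμ]
    rw [add_comm]
    congr 1 <;> congr 1 <;> field_simp
  · simp only [map_smul, map_sub, hXX, smul_sub, smul_smul, hμ]
    match_scalars <;> field_simp
  · match_scalars <;> field_simp <;> norm_num

include h20 in
theorem eigen_dim (hμ0 : μ ≠ 0) (hμ : z = μ * μ) (hX : X ^ 2 = z • 1) {U : Submodule F (Fin n → F)}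
    (hU : U.map X ≤ U) :
    finrank F (U ⊓ End.eigenspace X μ : Submodule F (Fin n → F)) +
      finrank F (U ⊓ End.eigenspace X (-μ) : Submodule F (Fin n → F)) = finrank F U := by
  have h := Submodule.finrank_sup_add_finrank_inf_eq (U ⊓ End.eigenspace X μ) (U ⊓ End.eigenspace X (-μ))
  have hsup : (U ⊓ End.eigenspace X μ) ⊔ (U ⊓ End.eigenspace X (-μ)) = U :=
    le_antisymm (sup_le inf_le_left inf_le_left) fun v hv => by
      obtain ⟨a, ha, b, hb, rfl⟩ := eigen_split h20 hμ0 hμ hX hU hv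
      exact Submodule.add_mem_sup ha hb
  rw [hsup, le_bot_iff.1 ((inf_le_inf inf_le_right inf_le_right).trans (disjoint_eigen h20 hμ0).le), finrank_bot,
    add_zero] at h
  exact h.symm

include h20 in
theorem det_eigen (hμ0 : μ ≠ 0) (hμ : z = μ * μ) (hX : X ^ 2 = z • 1) :
    LinearMap.det X = μ ^ finrank F (End.eigenspace X μ) * (-μ) ^ finrank F (End.eigenspace X (-μ)) := by
  set A := End.eigenspace X μ
  set B := End.eigenspace X (-μ)
  have htop : A ⊔ B = ⊤ := eq_top_iff.2 fun v _ => by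
    obtain ⟨a, ha, b, hb, rfl⟩ := eigen_split h20 hμ0 hμ hX (U := ⊤) le_top (Submodule.mem_top : v ∈ ⊤)
    exact Submodule.add_mem_sup ha.2 hb.2
  have hcompl : IsCompl A B := ⟨disjoint_iff.2 (disjoint_eigen h20 hμ0), codisjoint_iff.2 htop⟩
  have e : X = (Submodule.prodEquivOfIsCompl A B hcompl).conj
      (((μ • 1 : End F A)).prodMap ((-μ) • 1 : End F B)) := by
    refine LinearMap.ext fun v => ?_
    obtain ⟨⟨a, b⟩, rfl⟩ := (Submodule.prodEquivOfIsCompl A B hcompl).surjective v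
    rw [LinearEquiv.conj_apply, LinearMap.comp_apply, LinearMap.comp_apply]
    simp [End.mem_eigenspace_iff.1 a.2, End.mem_eigenspace_iff.1 b.2]
  conv_lhs => rw [e]
  rw [LinearEquiv.conj_apply, LinearMap.comp_assoc, LinearMap.det_conj, LinearMap.det_prodMap,
    LinearMap.det_smul, LinearMap.det_smul, map_one, mul_one, map_one, mul_one]

theorem pair_zero (hiso : Isom q X) {a b : F} {u v : Fin n → F} (hu : X u = a • u) (hv : X v = b • v)
    (h : a ^ q * b ≠ 1) : (stdHerm n hF).B u v = 0 := by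
  have e := (isom_B hF).1 hiso u v
  rw [hu, hv, smul_left, map_smul, smul_eq_mul, HermElem.σ_pow hF] at e
  exact (mul_eq_zero.1 (show (a ^ q * b - 1) * (stdHerm n hF).B u v = 0 by linear_combination e)).resolve_left
    (sub_ne_zero.2 h)

include h20 in
theorem ti_eigen (hiso : Isom q X) (hs : μ ^ (q + 1) = -1) (hqodd : Odd q) :
    End.eigenspace X μ ≤ (stdHerm n hF).perp (End.eigenspace X μ) ∧
      End.eigenspace X (-μ) ≤ (stdHerm n hF).perp (End.eigenspace X (-μ)) := by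
  have hne : (-1 : F) ≠ 1 := fun h => h20 (by linear_combination -h)
  constructor <;> intro v hv u hu <;>
    refine pair_zero hF hiso (End.mem_eigenspace_iff.1 hu) (End.mem_eigenspace_iff.1 hv) ?_ <;> rw [← pow_succ]
  · rwa [hs]
  · rwa [(hqodd.add_odd odd_one).neg_pow, hs]

include h20 in
theorem halves (hμ0 : μ ≠ 0) (hμ : z = μ * μ) (hX : X ^ 2 = z • 1) (hiso : Isom q X) (hs : μ ^ (q + 1) = -1)
    (hqodd : Odd q) {U : Submodule F (Fin n → F)} (hU : U.map X ≤ U) (hUn : Nd (stdHerm n hF) U) :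
    2 * finrank F (U ⊓ End.eigenspace X μ : Submodule F (Fin n → F)) = finrank F U ∧
      2 * finrank F (U ⊓ End.eigenspace X (-μ) : Submodule F (Fin n → F)) = finrank F U := by
  obtain ⟨hA, hB⟩ := ti_eigen hF h20 hiso hs hqodd
  have h1 := HermDecomp.ti_half (stdHerm n hF) hUn (W := U ⊓ End.eigenspace X μ) inf_le_left
    (fun v hv u hu => hA hv.2 u hu.2)
  have h2 := HermDecomp.ti_half (stdHerm n hF) hUn (W := U ⊓ End.eigenspace X (-μ)) inf_le_left
    (fun v hv u hu => hB hv.2 u hu.2)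
  have h3 := eigen_dim h20 hμ0 hμ hX hU
  omega

end Two

include hF in
theorem odd_q (hp : p ≠ 2) : Odd q := by
  rcases Nat.even_or_odd q with h | h
  · exfalso
    refine hp ?_
    rw [← ringChar.eq F p]
    exact FiniteField.even_card_iff_char_two.2 (by rw [hF, Nat.pow_mod, Nat.even_iff.1 h])
  · exact h

include hF in
theorem exists_sqrt (hp : p ≠ 2) {z : F} (hz : z ^ (q + 1) = 1) : ∃ μ : F, μ ≠ 0 ∧ z = μ * μ := by
  have hz0 : z ≠ 0 := fun h => by rw [h, zero_pow (Nat.succ_ne_zero q)] at hz; exact zero_ne_one hz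
  obtain ⟨t, rfl⟩ := odd_q hF (p := p) hp
  obtain ⟨μ, hμ⟩ : IsSquare z := by
    refine (FiniteField.isSquare_iff (ringChar.eq F p ▸ hp) hz0).2 ?_
    rw [show Fintype.card F / 2 = (2 * t + 1 + 1) * t by rw [hF]; ring_nf; omega, pow_mul, hz, one_pow]
  exact ⟨μ, fun e => hz0 (by rw [hμ, e, mul_zero]), hμ⟩

/-- Involutions modulo scalars in the good cases. -/
theorem good_two (hp : p ≠ 2) (hn : 0 < n) {X : End F (Fin n → F)} (hiso : Isom q X) (hdet : LinearMap.det X = 1)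
    {z : F} (hX : X ^ 2 = z • 1) {m : ℕ} (hmn : m ≤ n)
    (hC : Odd n ∨ Even m ∨ (padicValNat 2 n ≤ padicValNat 2 (q + 1) ∧ q % 4 = 3)) : Good hF m X := by
  haveI : Fact (Nat.Prime 2) := ⟨Nat.prime_two⟩
  set f := stdHerm n hF
  have hB := (isom_B hF).1 hiso
  have h20 : (2 : F) ≠ 0 := Ring.two_ne_zero (ringChar.eq F p ▸ hp)
  have hz : z ^ (q + 1) = 1 := HermTI.norm_of_pow hn hiso hX
  have hqodd := odd_q hF (p := p) hp
  obtain ⟨μ, hμ0, hμ⟩ := exists_sqrt hF (p := p) hp hz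
  obtain ⟨N, hN0, hN⟩ := exists_period (r := 2) two_pos hz hX
  set A := End.eigenspace X μ
  set B := End.eigenspace X (-μ)
  have hA : ∀ v ∈ A, X v = μ • v := fun v hv => End.mem_eigenspace_iff.1 hv
  have hBe : ∀ v ∈ B, X v = (-μ) • v := fun v hv => End.mem_eigenspace_iff.1 hv
  have hdim : finrank F A + finrank F B = n := by
    have e := eigen_dim h20 hμ0 hμ hX (U := ⊤) le_top
    rwa [top_inf_eq, top_inf_eq, HermTI.top_finrank] at e
  have hdetX : μ ^ finrank F A * (-μ) ^ finrank F B = 1 := (det_eigen h20 hμ0 hμ hX).symm.trans hdet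
  have hsq : μ ^ (q + 1) * μ ^ (q + 1) = 1 := by rw [← mul_pow, ← hμ, hz]
  have hne : (-1 : F) ≠ 1 := fun h => h20 (by linear_combination -h)
  rcases mul_self_eq_one_iff.1 hsq with hs | hs
  · have horth : ∀ a ∈ A, ∀ b ∈ B, f.B a b = 0 := fun a ha b hb =>
      pair_zero hF hiso (hA a ha) (hBe b hb) (by rw [mul_neg, ← pow_succ, hs]; exact hne)
    have hnd : ∀ {C D : Submodule F (Fin n → F)}, (∀ v, ∃ c ∈ C, ∃ d ∈ D, c + d = v) →
        (∀ c ∈ C, ∀ d ∈ D, f.B c d = 0) → Nd f C := fun {C D} hcd ho a ha ha0 => by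
      by_contra hne'
      push Not at hne'
      refine ha0 (f.nondeg.1 a fun v => ?_)
      obtain ⟨a', ha', b', hb', rfl⟩ := hcd v
      rw [map_add, hne' a' ha', ho a ha b' hb', add_zero]
    have hdec : ∀ v, ∃ a ∈ A, ∃ b ∈ B, a + b = v := fun v => by
      obtain ⟨a, ha, b, hb, e⟩ := eigen_split h20 hμ0 hμ hX (U := ⊤) le_top (Submodule.mem_top : v ∈ ⊤)
      exact ⟨a, ha.2, b, hb.2, e⟩
    have hndA : Nd f A := hnd hdec horth
    have hndB : Nd f B := hnd (fun v => by obtain ⟨a, ha, b, hb, e⟩ := hdec v; exact ⟨b, hb, a, ha, by rw [add_comm, e]⟩)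
      (fun b hb a ha => f.eq_zero_comm (horth a ha b hb))
    obtain ⟨S, hS1, hS2, hS3, hS4⟩ := HermNd.exists_sub_eigen f hN0 hN hB hndA hA
      (e := min m (finrank F A)) (min_le_right _ _)
    obtain ⟨T, hT1, hT2, hT3, hT4⟩ := HermNd.exists_sub_eigen f hN0 hN hB hndB hBe
      (e := m - min m (finrank F A)) (by omega)
    obtain ⟨g1, g2⟩ := HermNd.nd_sup f hS2 hT2 fun b hb a ha => horth a (hS1 ha) b (hT1 hb)
    exact ⟨S ⊔ T, by rw [g2, hS4, hT4]; omega, g1, IsoDecomp.sup_inv hS3 hT3⟩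
  · obtain ⟨hhA, hhB⟩ := halves hF h20 hμ0 hμ hX hiso hs hqodd (U := ⊤) le_top (nd_top _)
    rw [top_inf_eq, HermTI.top_finrank] at hhA hhB
    replace hhA : 2 * finrank F A = n := hhA
    replace hhB : 2 * finrank F B = n := hhB
    obtain ⟨h, hh⟩ : ∃ h, h = finrank F A := ⟨_, rfl⟩
    rw [← hh] at hhA hdetX
    rw [show finrank F B = h by omega, ← mul_pow, mul_neg, ← hμ] at hdetX
    obtain ⟨j, rfl⟩ : Even m := by
      by_contra hm'
      rcases hC with hC | hC | ⟨hv, h4⟩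
      · exact Nat.not_even_iff_odd.2 hC ⟨h, by omega⟩
      · exact hm' hC
      have hh2 : (q + 1) / 2 % 2 = 0 := by omega
      have hw : (-z) ^ ((q + 1) / 2) = -1 := by
        rw [(Nat.even_iff.2 hh2).neg_pow, hμ, ← pow_two, ← pow_mul, show 2 * ((q + 1) / 2) = q + 1 by omega, hs]
      have hh0 : h ≠ 0 := by omega
      obtain ⟨t, ht⟩ := pow_padicValNat_dvd (p := 2) (n := h)
      have htodd : Odd t := by
        rcases Nat.even_or_odd t with ⟨t', ht'⟩ | h'
        · exfalso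
          refine pow_succ_padicValNat_not_dvd (p := 2) hh0 ⟨t', ?_⟩
          calc h = 2 ^ padicValNat 2 h * (t' + t') := by rw [← ht']; exact ht
            _ = _ := by ring
        · exact h'
      have hvh : padicValNat 2 n = padicValNat 2 h + 1 := by
        rw [← hhA, padicValNat.mul two_ne_zero hh0, padicValNat.self one_lt_two, add_comm]
      have hle : padicValNat 2 h + 1 ≤ padicValNat 2 (q + 1) := hvh ▸ hv
      obtain ⟨u, hu⟩ := (pow_dvd_pow 2 hle).trans pow_padicValNat_dvd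
      rw [pow_succ'] at hu
      have hu' : (q + 1) / 2 = 2 ^ padicValNat 2 h * u := by
        rw [hu, mul_assoc, Nat.mul_div_cancel_left _ two_pos]
      have e : ((-z) ^ ((q + 1) / 2)) ^ t = ((-z) ^ h) ^ u := by
        rw [← pow_mul, ← pow_mul, hu']
        congr 1
        conv_rhs => rw [ht]
        ring
      rw [hw, hdetX, one_pow, htodd.neg_one_pow] at e
      exact hne e
    obtain ⟨L, -, hL, hLi, hLd⟩ := HermNd.exists_sub_of_atom f hN0 hN hB (c := 2) two_pos (M := ⊤)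
      (fun U _ hU hUi hne' => by
        obtain ⟨u, hu, hu0⟩ := (Submodule.ne_bot_iff U).1 hne'
        obtain ⟨x, hx, hux⟩ := hU u hu hu0
        obtain ⟨a, ha, b, hb, rfl⟩ := eigen_split h20 hμ0 hμ hX hUi hu
        obtain ⟨a', ha', b', hb', rfl⟩ := eigen_split h20 hμ0 hμ hX hUi hx
        obtain ⟨hAt, hBt⟩ := ti_eigen hF h20 hiso hs hqodd
        have e1 : f.B a a' = 0 := hAt ha'.2 a ha.2
        have e2 : f.B b b' = 0 := hBt hb'.2 b hb.2
        simp only [map_add, LinearMap.add_apply, e1, e2, zero_add, add_zero] at hux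
        obtain ⟨a, ha, b, hb, hab⟩ : ∃ a ∈ U ⊓ A, ∃ b ∈ U ⊓ B, f.B a b ≠ 0 := by
          by_cases h1 : f.B a b' = 0
          · simp only [h1, zero_add, add_zero] at hux
            exact ⟨a', ha', b, hb, fun e => hux (f.eq_zero_comm e)⟩
          · exact ⟨a, ha, b', hb', h1⟩
        have ha0 : a ≠ 0 := fun e => hab (by rw [e, map_zero, LinearMap.zero_apply])
        have hb0 : b ≠ 0 := fun e => hab (by rw [e, map_zero])
        refine ⟨(F ∙ a) ⊔ (F ∙ b), sup_le ((Submodule.span_singleton_le_iff_mem _ _).2 ha.1)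
          ((Submodule.span_singleton_le_iff_mem _ _).2 hb.1), ?_, ?_, ?_⟩
        · intro v hv hv0
          obtain ⟨_, hy, _, hy', rfl⟩ := Submodule.mem_sup.1 hv
          obtain ⟨α, rfl⟩ := Submodule.mem_span_singleton.1 hy
          obtain ⟨β, rfl⟩ := Submodule.mem_span_singleton.1 hy'
          have haa : f.B a a = 0 := hAt ha.2 a ha.2
          have hbb : f.B b b = 0 := hBt hb.2 b hb.2
          by_cases hβ : β = 0
          · refine ⟨b, Submodule.mem_sup_right (Submodule.mem_span_singleton_self b), ?_⟩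
            rw [hβ, zero_smul, add_zero] at hv0 ⊢
            rw [smul_left]
            exact mul_ne_zero (fun e => hv0 (by rw [f.σ_eq_zero.1 e, zero_smul])) hab
          · refine ⟨a, Submodule.mem_sup_left (Submodule.mem_span_singleton_self a), ?_⟩
            rw [map_add, LinearMap.add_apply, smul_left, smul_left, haa, mul_zero, zero_add]
            exact mul_ne_zero (fun e => hβ (f.σ_eq_zero.1 e)) (fun e => hab (f.eq_zero_comm e))
        · refine IsoDecomp.sup_inv ?_ ?_ <;> rintro _ ⟨v, hv, rfl⟩ <;>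
            obtain ⟨α, rfl⟩ := Submodule.mem_span_singleton.1 hv <;> rw [map_smul]
          · rw [hA a ha.2]; exact Submodule.smul_mem _ _ (Submodule.smul_mem _ _ (Submodule.mem_span_singleton_self a))
          · rw [hBe b hb.2]; exact Submodule.smul_mem _ _ (Submodule.smul_mem _ _ (Submodule.mem_span_singleton_self b))
        · have e := Submodule.finrank_sup_add_finrank_inf_eq (F ∙ a) (F ∙ b)
          rw [le_bot_iff.1 ((inf_le_inf ((Submodule.span_singleton_le_iff_mem _ _).2 ha.2)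
            ((Submodule.span_singleton_le_iff_mem _ _).2 hb.2)).trans (disjoint_eigen h20 hμ0).le), finrank_bot,
            finrank_span_singleton ha0, finrank_span_singleton hb0] at e
          exact e)
      j le_rfl (nd_top f) le_top (by rw [HermTI.top_finrank]; omega)
    exact ⟨L, by rw [hLd, two_mul], hL, hLi⟩

/-- The bad involution. -/
theorem bad_two (hp : p ≠ 2) {m : ℕ} (hn : 0 < n) (hne : Even n) (hm : Odd m)
    (hv : ¬ (padicValNat 2 n ≤ padicValNat 2 (q + 1) ∧ q % 4 = 3)) :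
    ∃ (X : End F (Fin n → F)) (z : F), Isom q X ∧ LinearMap.det X = 1 ∧ X ^ 2 = z • 1 ∧ ¬ Good hF m X := by
  haveI : Fact (Nat.Prime 2) := ⟨Nat.prime_two⟩
  have h20 : (2 : F) ≠ 0 := Ring.two_ne_zero (ringChar.eq F p ▸ hp)
  have hqodd := odd_q hF (p := p) hp
  have hq2 : 2 ≤ q := Cfsg.Agent.Lib.Classical.two_le_q hF
  obtain ⟨h, rfl⟩ := hne
  obtain ⟨z, hzs, hzh⟩ : ∃ z : F, z ^ ((q + 1) / 2) = -1 ∧ (-z) ^ h = 1 := by
    have hqo := Nat.odd_iff.1 hqodd
    by_cases h4 : q % 4 = 3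
    swap
    · exact ⟨-1, (Nat.odd_iff.2 (by omega)).neg_one_pow, by rw [neg_neg, one_pow]⟩
    have hlt : padicValNat 2 (q + 1) < padicValNat 2 (h + h) := not_le.1 fun hle => hv ⟨hle, h4⟩
    obtain ⟨V, hV⟩ : ∃ V, padicValNat 2 (q + 1) = V + 1 := by
      have := one_le_padicValNat_of_dvd (p := 2) (n := q + 1) (by omega) (by omega)
      exact ⟨padicValNat 2 (q + 1) - 1, by omega⟩
    have hd1 : 2 ^ (V + 1) ∣ q + 1 := hV ▸ pow_padicValNat_dvd
    have hd2 : 2 ^ (V + 1) ∣ h := by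
      have h' := (pow_dvd_pow 2 (by omega : V + 1 + 1 ≤ padicValNat 2 (h + h))).trans pow_padicValNat_dvd
      rw [pow_succ', ← two_mul] at h'
      exact Nat.dvd_of_mul_dvd_mul_left two_pos h'
    have hdvd : 2 ^ (V + 1) ∣ Nat.card Fˣ := by
      rw [HermTI.card_units hF]; exact hd1.trans (dvd_mul_right _ _)
    obtain ⟨G, hG⟩ := IsCyclic.exists_generator (α := Fˣ)
    set wu := G ^ (Nat.card Fˣ / 2 ^ (V + 1))
    have hord : orderOf wu = 2 ^ (V + 1) := by
      rw [orderOf_pow, orderOf_eq_card_of_forall_mem_zpowers hG, Nat.gcd_eq_right (Nat.div_dvd_of_dvd hdvd),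
        Nat.div_div_self hdvd Nat.card_pos.ne']
    have hpow : ∀ k, ((wu : F) ^ k = 1 ↔ 2 ^ (V + 1) ∣ k) := fun k => by
      rw [← Units.val_pow_eq_pow_val, Units.val_eq_one, ← orderOf_dvd_iff_pow_eq_one, hord]
    refine ⟨-(wu : F), ?_, by rw [neg_neg]; exact (hpow h).2 hd2⟩
    rw [(Nat.even_iff.2 (by omega : (q + 1) / 2 % 2 = 0)).neg_pow]
    refine (mul_self_eq_one_iff.1 ?_).resolve_left fun e => ?_
    · rw [← pow_add, show (q + 1) / 2 + (q + 1) / 2 = q + 1 by omega]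
      exact (hpow _).2 hd1
    · refine pow_succ_padicValNat_not_dvd (p := 2) (n := q + 1) (by omega) ?_
      rw [hV, pow_succ', show q + 1 = 2 * ((q + 1) / 2) by omega]
      exact Nat.mul_dvd_mul_left 2 ((hpow _).1 e)
  have hzq : z ^ (q + 1) = 1 := by
    have hqo := Nat.odd_iff.1 hqodd
    rw [show q + 1 = (q + 1) / 2 * 2 by omega, pow_mul, hzs, neg_one_sq]
  obtain ⟨μ, hμ0, hμ⟩ := exists_sqrt hF (p := p) hp hzq
  have hs : μ ^ (q + 1) = -1 := by
    have hqo := Nat.odd_iff.1 hqodd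
    rw [show q + 1 = 2 * ((q + 1) / 2) by omega, pow_mul, pow_two, ← hμ, hzs]
  let e : Fin h × Bool ≃ Fin (h + h) := Fintype.equivFinOfCardEq (by
    rw [Fintype.card_prod, Fintype.card_fin, Fintype.card_bool, mul_two])
  let d : Bool → F := fun b => if b then z else 1
  have hd : ∀ b, d b * d b ^ q = 1 := fun b => by
    rw [← pow_succ']; cases b <;> simp [d, hzq]
  let X : End F (Fin (h + h) → F) :=
    { toFun := fun v i => d (e.symm i).2 * v (e ((e.symm i).1, !(e.symm i).2))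
      map_add' := fun u v => funext fun i => by simp [mul_add]
      map_smul' := fun a v => funext fun i => by simp [mul_left_comm] }
  have hXiso : Isom q X := fun u v => by
    simp only [Cfsg.hermForm, X, LinearMap.coe_mk, AddHom.coe_mk, mul_pow]
    rw [← (e.symm.trans (((Equiv.refl (Fin h)).prodCongr Equiv.boolNot).trans e)).sum_comp
      (fun i => u i * v i ^ q)]
    refine Finset.sum_congr rfl fun i _ => ?_
    simp only [Equiv.trans_apply, Equiv.prodCongr_apply, Prod.map, Equiv.refl_apply, Equiv.boolNot_apply]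
    linear_combination (u (e ((e.symm i).1, !(e.symm i).2)) * v (e ((e.symm i).1, !(e.symm i).2)) ^ q) * hd (e.symm i).2
  have hX2 : X ^ 2 = z • 1 := by
    refine LinearMap.ext fun v => funext fun i => ?_
    obtain ⟨⟨a, b⟩, rfl⟩ := e.surjective i
    rw [pow_two, End.mul_apply]
    cases b <;> simp [X, d]
  obtain ⟨hhA, hhB⟩ := halves hF h20 hμ0 hμ hX2 hXiso hs hqodd (U := ⊤) le_top (nd_top _)
  rw [top_inf_eq, HermTI.top_finrank] at hhA hhB
  refine ⟨X, z, hXiso, ?_, hX2, ?_⟩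
  · rw [det_eigen h20 hμ0 hμ hX2, show finrank F (End.eigenspace X μ) = h by omega,
      show finrank F (End.eigenspace X (-μ)) = h by omega, ← mul_pow, mul_neg, ← hμ, hzh]
  · rintro ⟨W, hWd, hW, hWi⟩
    have := (halves hF h20 hμ0 hμ hX2 hXiso hs hqodd hWi hW).1
    have := Nat.odd_iff.1 hm
    omega

section Odd

variable {r : ℕ} [hr : Fact r.Prime]

theorem good_odd (hrp : r ≠ p) (hr2 : r ≠ 2) {b c : ℕ}
    (hb : orderOf ((Fintype.card F : ℕ) : ZMod r) = b) (hc : orderOf (-(q : ZMod r)) = c)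
    {Y : End F (Fin n → F)} (hY : Y ^ r = 1) (hiso : Isom q Y) {m : ℕ} (hmn : m ≤ n) (hk : m % c ≤ n % c) :
    Good hF m Y := by
  set f := stdHerm n hF
  have hr0 : (r : F) ≠ 0 := PrimeElemFlags.cast_ne_zero hrp
  have hB := (isom_B hF).1 hiso
  have hb0 : 0 < b := hb ▸ PrimeElemFlags.order_pos rfl hrp
  have hc0 : 0 < c := by rcases HermMoved.order_rel hF hb hc with ⟨-, e⟩ | ⟨-, e⟩ <;> omega
  obtain ⟨hFx, hMv⟩ := HermDecomp.nd_parts f hr0 hY hB (nd_top f) (le_top : (⊤ : Submodule F (Fin n → F)).map Y ≤ ⊤)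
  have hsum := (IsoDecomp.decompose hr0 hY (U := (⊤ : Submodule F (Fin n → F))) le_top).2
  rw [top_inf_eq] at hFx hMv
  rw [top_inf_eq, top_inf_eq, HermTI.top_finrank] at hsum
  obtain ⟨s, hs⟩ := HermMoved.dvd_nd f hF (HermElem.σ_pow hF) hrp hr2 hb hc hY hB _ rfl hMv IsoDecomp.moved_inv le_rfl
  obtain ⟨j, hj⟩ : ∃ j, j = min s (m / c) := ⟨_, rfl⟩
  have hm := Nat.div_add_mod m c
  have hn' := Nat.div_add_mod n c
  have hs' : c * s ≤ c * (n / c) := Nat.mul_le_mul_left _ ((Nat.le_div_iff_mul_le hc0).2 (by rw [mul_comm]; omega))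
  have hj1 : c * j ≤ c * s := Nat.mul_le_mul_left _ (by omega)
  have hj2 : c * j ≤ c * (m / c) := Nat.mul_le_mul_left _ (by omega)
  have hj3 : m - c * j + c * s ≤ n := by
    rcases le_total s (m / c) with hle | hle
    · rw [show j = s by omega] at hj2 ⊢; omega
    · rw [show j = m / c by omega]; omega
  obtain ⟨L, hL1, hL2, hL3, hL4⟩ := HermNd.exists_sub_of_atom f hr.out.pos hY hB hc0 (M := IsoDecomp.moved Y r)
    (fun U hU hUn hUi hne => HermNd.exists_atom f hF (HermElem.σ_pow hF) hrp hr2 hb hc hY hB hUn hUi hU hne)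
    j le_rfl hMv IsoDecomp.moved_inv (by omega)
  obtain ⟨S, hS1, hS2, hS3, hS4⟩ := HermNd.exists_sub_eigen f hr.out.pos hY hB hFx (a := 1)
    (fun v hv => by rw [one_smul]; exact IsoDecomp.mem_fixed.1 hv) (e := m - c * j) (by omega)
  obtain ⟨g1, g2⟩ := HermNd.nd_sup f hS2 hL2 fun b hb a ha => HermDecomp.orth f hr0 hB (hS1 ha) (hL1 hb)
  exact ⟨S ⊔ L, by rw [g2, hS4, hL4]; omega, g1, IsoDecomp.sup_inv hS3 hL3⟩

theorem bad_odd (hrp : r ≠ p) (hr2 : r ≠ 2) {b c : ℕ}
    (hb : orderOf ((Fintype.card F : ℕ) : ZMod r) = b) (hc : orderOf (-(q : ZMod r)) = c) (hc1 : c ≠ 1)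
    {m : ℕ} (hk : n % c < m % c) :
    ∃ Y : End F (Fin n → F), Isom q Y ∧ LinearMap.det Y = 1 ∧ Y ^ r = 1 ∧ ¬ Good hF m Y := by
  have hr0 : (r : F) ≠ 0 := PrimeElemFlags.cast_ne_zero hrp
  have hb0 : 0 < b := hb ▸ PrimeElemFlags.order_pos rfl hrp
  have hc0 : 0 < c := by rcases HermMoved.order_rel hF hb hc with ⟨-, e⟩ | ⟨-, e⟩ <;> omega
  have hn' := Nat.div_add_mod n c
  obtain ⟨y, hy, hyr, hy1⟩ := HermElem.exists_copies hF hrp hr2 hb hc (n / c)
  obtain ⟨x, hx, hxr, hxf, -, -⟩ := HermElem.exists_pad hrp (show c * (n / c) ≤ n by omega) hy hyr hy1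
  refine ⟨x, hx, HermElem.det_one hF (hc ▸ hc1) hx hxr, hxr, ?_⟩
  rintro ⟨W, hWd, hW, hWi⟩
  have hB := (isom_B hF).1 hx
  obtain ⟨-, hM⟩ := HermDecomp.nd_parts (stdHerm n hF) hr0 hxr hB hW hWi
  obtain ⟨s, hs⟩ := HermMoved.dvd_nd (stdHerm n hF) hF (HermElem.σ_pow hF) hrp hr2 hb hc hxr hB _ rfl hM
    (IsoDecomp.inf_inv hWi IsoDecomp.moved_inv) inf_le_right
  have hsum := (IsoDecomp.decompose hr0 hxr hWi).2
  rw [hs, hWd] at hsum
  have h1 := Submodule.finrank_mono (inf_le_right : W ⊓ IsoDecomp.fixed x ≤ IsoDecomp.fixed x)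
  have h2 : m % c = finrank F (W ⊓ IsoDecomp.fixed x : Submodule F (Fin n → F)) % c := by
    rw [← hsum, Nat.add_mul_mod_self_left]
  have h3 := Nat.mod_le (finrank F (W ⊓ IsoDecomp.fixed x : Submodule F (Fin n → F))) c
  omega

theorem good_twist (hrp : r ≠ p) {X : End F (Fin n → F)} (hiso : Isom q X) (hn : 0 < n) {z : F}
    (hX : X ^ r = z • 1) (hroot : ∀ w : F, w ^ r ≠ z) {m : ℕ} (hrm : r ∣ m) (hmn : m ≤ n) : Good hF m X := by
  obtain ⟨j, rfl⟩ := hrm
  set f := stdHerm n hF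
  have hB := (isom_B hF).1 hiso
  have hz : z ^ (q + 1) = 1 := HermTI.norm_of_pow hn hiso hX
  have hz0 : z ≠ 0 := fun h => by rw [h, zero_pow (Nat.succ_ne_zero q)] at hz; exact zero_ne_one hz
  obtain ⟨N, hN0, hN⟩ := exists_period hr.out.pos hz hX
  have hPi : Irreducible (Polynomial.X ^ r - C z) := X_pow_sub_C_irreducible_of_prime hr.out hroot
  have hPm : (Polynomial.X ^ r - C z).Monic := monic_X_pow_sub_C z hr.out.ne_zero
  have hsq : Squarefree (Polynomial.X ^ r - C z) := PrimeElemFlags.sq (PrimeElemFlags.cast_ne_zero hrp) hz0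
  have hy : aeval X (Polynomial.X ^ r - C z) = 0 := PrimeElemFlags.aeval_eq_zero hX
  have hdvd : ∀ U : Submodule F (Fin n → F), U.map X ≤ U → r ∣ finrank F U := fun U hU =>
    (PrimeElem.uniform hsq hy _ hPi.ne_zero
      (fun g hg hd => (natDegree_eq_of_degree_eq (degree_eq_degree_of_associated (hg.associated_of_dvd hPi hd))).trans
        natDegree_X_pow_sub_C)
      _ U rfl hU fun v _ => by rw [hy]; rfl).1
  obtain ⟨L, -, hL2, hL3, hL4⟩ := HermNd.exists_sub_of_atom f hN0 hN hB hr.out.pos (M := ⊤) (fun U _ hU hUi hne => by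
    obtain ⟨v, hv, hvv⟩ := HermNd.exists_aniso f hU hne
    obtain ⟨S, hS, hSU, hvS, hSd⟩ := HermNd.exists_cyclic_mem X hPi hPm hUi hv
      (fun e => hvv (by rw [e, map_zero])) (by rw [hy]; rfl)
    rw [natDegree_X_pow_sub_C] at hSd
    exact ⟨S, hSU, HermNd.nd_irreducible f hN0 hN hB hS hSd (fun T _ hT => hdvd T hT) hvS hvv, hS, hSd⟩)
    j le_rfl (nd_top f) le_top (by rw [HermTI.top_finrank]; exact hmn)
  exact ⟨L, hL4, hL2, hL3⟩

end Odd

/-- Elements of prime order of PSU_n(q) with no fixed nondegenerate `m`-space. Here `T = PSU_n(q)` (`n ≥ 3`, `(n, q) ≠ (3, 2)`), realised through the matrices of determinant 1 over the field `F` with `q²` elements preserving the Hermitian form `h(u, v) = Σ u_i v_i^q`; an element of `T` of prime order `r` is such a matrix `x` with `x^r` scalar and `x` not scalar. For `r ≠ p` let `i` be the multiplicative order of `q` modulo `r`, `b = i/2` for `i` even and `b = i` for `i` odd, `c = i, i/2, 2i`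 according as `i ≡ 0, 2 (mod 4)` or `i` odd, and write `k = n mod c`, `ℓ = m mod b`, `ℓ' = m mod c`, `n' = ⌊n/b⌋`, `m' = ⌊m/b⌋`, `s = (r−1)/b`; `(a)_r` is the `r`-part of `a`. Let `1 ≤ m < n/2` and let `r` be a prime dividing the number of nondegenerate `m`-spaces. Then every element of `T` of order `r` fixes a nondegenerate `m`-space if and only if one of: (i) `r = p > 2` and every partition of `n` into parts of size at most `p` contains (as a sub-multiset) a partition of `m`; (ii) `r = p = 2` and (`n` is odd or `m` is even); (iii) `r = 2 ≠ p` and (`n` is odd, or `m` is even, or `(q+1)_2 ≥ (n)_2` and `q ≡ 3 (mod 4)`); (iv) `r ≠ p`, `r > 2`, and either `i ≠ 2`, `c ≤ m` and `k ≥ ℓ'`, or `i = 2` and (`r ∣ m` or `(q+1)_r ≥ (n)_r`). -/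
theorem result {F : Type*} [Field F] [Fintype F] {p : ℕ} [Fact p.Prime] [CharP F p] {q : ℕ} (hq : Fintype.card F = q ^ 2)
    (n m : ℕ) (hn : 3 ≤ n) (hT : (n, q) ≠ (3, 2)) (hm : 1 ≤ m) (hmn : 2 * m < n)
    (r : ℕ) [Fact r.Prime]
    (hrΩ : r ∣ Nat.card {W : Submodule F (Fin n → F) // Module.finrank F ↥W = m ∧ (∀ u ∈ W, u ≠ 0 → ∃ v ∈ W, Cfsg.hermForm n F q u v ≠ 0)})
    (i b c : ℕ) (hi : i = orderOf (q : ZMod r)) (hb : b = if Even i then i / 2 else i)
    (hc : c = if i % 4 = 0 then i else if i % 4 = 2 then i / 2 else 2 * i) :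
    (∀ x : Matrix.SpecialLinearGroup (Fin n) F, x ∈ Cfsg.SU n F q →
      (∃ z : F, ((x ^ r : Matrix.SpecialLinearGroup (Fin n) F) : Matrix (Fin n) (Fin n) F) = z • (1 : Matrix (Fin n) (Fin n) F)) →
      (∀ z : F, (x : Matrix (Fin n) (Fin n) F) ≠ z • (1 : Matrix (Fin n) (Fin n) F)) →
      ∃ W : Submodule F (Fin n → F), Module.finrank F ↥W = m ∧ (∀ u ∈ W, u ≠ 0 → ∃ v ∈ W, Cfsg.hermForm n F q u v ≠ 0) ∧
        W.map (Matrix.toLin' (x : Matrix (Fin n) (Fin n) F)) ≤ W) ↔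
    ((r = p ∧ 2 < p ∧ (∀ μ : Multiset ℕ, (∀ a ∈ μ, 0 < a ∧ a ≤ p) → μ.sum = n → ∃ ν : Multiset ℕ, ν ≤ μ ∧ ν.sum = m)) ∨
     (r = p ∧ p = 2 ∧ (Odd n ∨ Even m)) ∨
     (r = 2 ∧ p ≠ 2 ∧ (Odd n ∨ Even m ∨ (padicValNat 2 n ≤ padicValNat 2 (q + 1) ∧ q % 4 = 3))) ∨
     (r ≠ p ∧ 2 < r ∧ ((i ≠ 2 ∧ c ≤ m ∧ m % c ≤ n % c) ∨ (i = 2 ∧ (r ∣ m ∨ padicValNat r n ≤ padicValNat r (q + 1)))))) := by
  haveI hrF : Fact r.Prime := inferInstance
  have hn0 : 0 < n := by omega
  have hb2 : ∀ (X : End F (Fin n → F)), Isom q X → LinearMap.det X = 1 → ∀ z : F, X ^ r = z • 1 →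
      (∀ x : Matrix.SpecialLinearGroup (Fin n) F, x ∈ Cfsg.SU n F q →
      (∃ z : F, ((x ^ r : Matrix.SpecialLinearGroup (Fin n) F) : Matrix (Fin n) (Fin n) F) = z • (1 : Matrix (Fin n) (Fin n) F)) →
      (∀ z : F, (x : Matrix (Fin n) (Fin n) F) ≠ z • (1 : Matrix (Fin n) (Fin n) F)) →
      ∃ W : Submodule F (Fin n → F), Module.finrank F ↥W = m ∧ (∀ u ∈ W, u ≠ 0 → ∃ v ∈ W, Cfsg.hermForm n F q u v ≠ 0) ∧
        W.map (Matrix.toLin' (x : Matrix (Fin n) (Fin n) F)) ≤ W) → Good hq m X := by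
    intro X hX hdet z hz h
    by_cases hs : ∃ a : F, X = a • 1
    · obtain ⟨N, hN0, hN⟩ := exists_period hrF.out.pos (HermTI.norm_of_pow hn0 hX hz) hz
      obtain ⟨a, rfl⟩ := hs
      obtain ⟨W, -, h1, h2, h3⟩ := HermNd.exists_sub_eigen (stdHerm n hq) hN0 hN ((isom_B hq).1 hX)
        (a := a) (nd_top _) (fun v _ => rfl) (e := m) (by rw [HermTI.top_finrank]; omega)
      exact ⟨W, h3, h1, h2⟩
    push Not at hs
    let x : Matrix.SpecialLinearGroup (Fin n) F := ⟨LinearMap.toMatrix' X, by rw [LinearMap.det_toMatrix', hdet]⟩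
    have hxX : Matrix.toLin' (x : Matrix (Fin n) (Fin n) F) = X := Matrix.toLin'_toMatrix' X
    obtain ⟨W, h1, h2, h3⟩ := h x (fun u v => by
        show Cfsg.hermForm n F q ((x : Matrix (Fin n) (Fin n) F) *ᵥ u) ((x : Matrix (Fin n) (Fin n) F) *ᵥ v) = _
        rw [← Matrix.toLin'_apply, ← Matrix.toLin'_apply, hxX]
        exact hX u v)
      ⟨z, Matrix.toLin'.injective (by
        rw [Matrix.SpecialLinearGroup.coe_pow, Matrix.toLin'_pow, hxX, hz, map_smul, Matrix.toLin'_one]; rfl)⟩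
      (fun a ha => hs a (by rw [← hxX, ha, map_smul, Matrix.toLin'_one]; rfl))
    refine ⟨W, h1, fun u hu hu0 => ?_, hxX ▸ h3⟩
    obtain ⟨v, hv, huv⟩ := h2 u hu hu0
    exact ⟨v, hv, fun e => huv ((stdHerm n hq).eq_zero_comm e)⟩
  have hfrom : (∀ (X : End F (Fin n → F)), Isom q X → LinearMap.det X = 1 → ∀ z : F, X ^ r = z • 1 → Good hq m X) →
      ∀ x : Matrix.SpecialLinearGroup (Fin n) F, x ∈ Cfsg.SU n F q →
      (∃ z : F, ((x ^ r : Matrix.SpecialLinearGroup (Fin n) F) : Matrix (Fin n) (Fin n) F) = z • (1 : Matrix (Fin n) (Fin n) F)) →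
      (∀ z : F, (x : Matrix (Fin n) (Fin n) F) ≠ z • (1 : Matrix (Fin n) (Fin n) F)) →
      ∃ W : Submodule F (Fin n → F), Module.finrank F ↥W = m ∧ (∀ u ∈ W, u ≠ 0 → ∃ v ∈ W, Cfsg.hermForm n F q u v ≠ 0) ∧
        W.map (Matrix.toLin' (x : Matrix (Fin n) (Fin n) F)) ≤ W := by
    rintro h x hx ⟨z, hz⟩ -
    obtain ⟨W, h1, h2, h3⟩ := h (Matrix.toLin' (x : Matrix (Fin n) (Fin n) F))
      (fun u v => by rw [Matrix.toLin'_apply, Matrix.toLin'_apply]; exact hx u v)
      (by rw [LinearMap.det_toLin', x.det_coe]) z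
      (by rw [← Matrix.toLin'_pow, ← Matrix.SpecialLinearGroup.coe_pow, hz, map_smul, Matrix.toLin'_one]; rfl)
    refine ⟨W, h1, fun u hu hu0 => ?_, h3⟩
    obtain ⟨v, hv, huv⟩ := h2 u hu hu0
    exact ⟨v, hv, fun e => huv ((stdHerm n hq).eq_zero_comm e)⟩
  by_cases hrp : r = p
  · subst hrp
    simp only [ne_eq, not_true_eq_false, false_and, and_false, or_false, true_and]
    have hkey : (∀ μ : Multiset ℕ, (∀ a ∈ μ, 0 < a ∧ a ≤ r) → μ.sum = n → ∃ ν : Multiset ℕ, ν ≤ μ ∧ ν.sum = m) ↔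
        (2 < r ∧ (∀ μ : Multiset ℕ, (∀ a ∈ μ, 0 < a ∧ a ≤ r) → μ.sum = n → ∃ ν : Multiset ℕ, ν ≤ μ ∧ ν.sum = m)) ∨
          (r = 2 ∧ (Odd n ∨ Even m)) := by
      rcases eq_or_ne r 2 with e | hne
      · refine ⟨fun H => Or.inr ⟨e, ?_⟩, fun H μ hμ hμs => ?_⟩
        · by_contra hpar
          push Not at hpar
          obtain ⟨k, hk⟩ := Nat.not_odd_iff_even.1 hpar.1
          obtain ⟨ν, hν, hνs⟩ := H (Multiset.replicate k 2) (fun a ha => by
            have := Multiset.eq_of_mem_replicate ha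
            omega) (by rw [Multiset.sum_replicate, smul_eq_mul]; omega)
          obtain ⟨j, -, rfl⟩ := Multiset.le_replicate_iff.1 hν
          rw [Multiset.sum_replicate, smul_eq_mul] at hνs
          exact hpar.2 ⟨j, by omega⟩
        · rcases H with H | ⟨-, H⟩
          · omega
          · exact partition_two (by omega) H μ (fun a ha => ⟨(hμ a ha).1, e ▸ (hμ a ha).2⟩) hμs
      · refine ⟨fun H => Or.inl ⟨lt_of_le_of_ne hrF.out.two_le (Ne.symm hne), H⟩, fun H => ?_⟩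
        exact (H.resolve_right fun h => hne h.1).2
    constructor
    · intro h
      have hH : ∀ μ : Multiset ℕ, (∀ a ∈ μ, 0 < a ∧ a ≤ r) → μ.sum = n → ∃ ν : Multiset ℕ, ν ≤ μ ∧ ν.sum = m := by
        by_contra H
        push Not at H
        obtain ⟨μ, hμ, hμs, H⟩ := H
        obtain ⟨X, hX, hdet, hXp, hbad⟩ := unip_bad hq (p := r) hμ hμs (m := m) (fun ⟨ν, h1, h2⟩ => H ν h1 h2)
        exact hbad (hb2 X hX hdet 1 (by rw [hXp, one_smul]) h)
      rcases hkey.1 hH with ⟨h1, h2⟩ | ⟨h1, h2⟩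
      · exact Or.inl ⟨h1, h2⟩
      · exact Or.inr (Or.inl ⟨h1, h2⟩)
    · intro hC
      refine hfrom fun X hX _ z hz => unip_good hq (p := r) hX hn0 hz (hkey.2 ?_)
      rcases hC with ⟨h1, h2⟩ | ⟨h1, h2⟩ | ⟨h1, h2, -⟩
      · exact Or.inl ⟨h1, h2⟩
      · exact Or.inr ⟨h1, h2⟩
      · exact absurd h1 h2
  by_cases hr2 : r = 2
  · subst hr2
    have hp2 : p ≠ 2 := fun e => hrp e.symm
    simp only [hrp, false_and, false_or, true_and, lt_irrefl, and_false, or_false, hp2, ne_eq, not_false_iff]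
    constructor
    · intro h
      by_contra hne
      push Not at hne
      obtain ⟨X, z, hX, hdet, hz, hbad⟩ := bad_two hq hp2 (m := m) hn0 (Nat.not_odd_iff_even.1 hne.1)
        (Nat.not_even_iff_odd.1 hne.2.1) (fun hh => hne.2.2 hh.1 hh.2)
      exact hbad (hb2 X hX hdet z hz h)
    · intro hC
      exact hfrom fun X hX hdet z hz => good_two hq hp2 hn0 hX hdet hz (by omega) hC
  · have hr3 : 2 < r := lt_of_le_of_ne hrF.out.two_le (Ne.symm hr2)
    obtain ⟨hb', hc', -, hone, hi0⟩ := order_facts hq (p := p) hrp hr2 hi hb hc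
    simp only [hr2, hrp, false_and, false_or, ne_eq, not_false_iff, hr3, true_and]
    constructor
    · intro h
      by_cases hc1 : c = 1
      · refine Or.inr ⟨hone.1 hc1, ?_⟩
        by_contra hne
        push Not at hne
        obtain ⟨X, z, hX, hz, hdet, -, hrm⟩ := HermTI.exists_twist hq (p := p) hrp hr2 hn0
          (HermTI.r_dvd_sq_sub (hc'.trans hc1)) hne.2
        obtain ⟨W, hWd, -, hWi⟩ := hb2 X hX hdet z hz h
        exact hne.1 (hWd ▸ hrm W hWi)
      · refine Or.inl ⟨fun e => hc1 (hone.2 e), ?_⟩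
        have hbad : ¬ n % c < m % c := fun hk => by
          obtain ⟨Y, hY, hdet, hYr, hbad⟩ := bad_odd hq hrp hr2 hb' hc' hc1 (m := m) hk
          exact hbad (hb2 Y hY hdet 1 (by rw [hYr, one_smul]) h)
        refine ⟨?_, by omega⟩
        by_contra hcm
        rw [Nat.mod_eq_of_lt (not_le.1 hcm)] at hbad
        exact HermUnip.count_bound hq (p := p) hrp hc' (by omega) (not_lt.1 hbad) hrΩ
    · intro hC
      refine hfrom fun X hX hdet z hz => ?_
      have hz1 : z ^ (q + 1) = 1 := HermTI.norm_of_pow hn0 hX hz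
      have hk : m % c ≤ n % c := by
        rcases hC with ⟨-, -, hk⟩ | ⟨hi2, -⟩
        · exact hk
        · rw [hone.2 hi2, Nat.mod_one, Nat.mod_one]
      by_cases hroot : ∃ w : F, w ^ r = z
      · obtain ⟨w₀, hw₀⟩ := hroot
        obtain ⟨w, hw, hwq⟩ := S5953.root_norm hq hr2 hz1 hw₀
        obtain ⟨Y, hY, hYr, rfl⟩ := normalise hX hz hw hwq
        exact good_smul hq w (good_odd hq hrp hr2 hb' hc' hYr hY (by omega) hk)
      · push Not at hroot
        have hrq : r ∣ q + 1 := by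
          by_contra hrq
          obtain ⟨w, hw, -⟩ := exists_root hq hrq hz1
          exact hroot w hw
        have hc1 : c = 1 := by
          rw [← hc', orderOf_eq_one_iff, neg_eq_iff_add_eq_zero, ← Nat.cast_one, ← Nat.cast_add,
            ZMod.natCast_eq_zero_iff]
          exact hrq
        rcases hC with ⟨h1, -, -⟩ | ⟨-, hrm | hle⟩
        · exact absurd (hone.1 hc1) h1
        · exact good_twist hq hrp hX hn0 hz hroot hrm (by omega)
        · have hz0 : z ≠ 0 := fun h => by rw [h, zero_pow (Nat.succ_ne_zero q)] at hz1; exact zero_ne_one hz1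
          have hPi : Irreducible (Polynomial.X ^ r - C z) := X_pow_sub_C_irreducible_of_prime hrF.out hroot
          have hsq : Squarefree (Polynomial.X ^ r - C z) := PrimeElemFlags.sq (PrimeElemFlags.cast_ne_zero hrp) hz0
          have hy : aeval X (Polynomial.X ^ r - C z) = 0 := PrimeElemFlags.aeval_eq_zero hz
          obtain ⟨k, hk'⟩ : r ∣ n := by
            have h := (PrimeElem.uniform hsq hy _ hPi.ne_zero
              (fun g hg hd => (natDegree_eq_of_degree_eq (degree_eq_degree_of_associated (hg.associated_of_dvd hPi hd))).trans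
                natDegree_X_pow_sub_C) _ ⊤ rfl le_top fun v _ => by rw [hy]; rfl).1
            rwa [HermTI.top_finrank] at h
          have hzk : z ^ k = 1 := by
            have h := PrimeElem.det_eq r z hPi hsq (by omega) k X (by rw [Module.finrank_fin_fun, hk']) hy
            obtain ⟨t, ht⟩ := hrF.out.odd_of_ne_two hr2
            rw [hdet, show r + 1 = 2 * (t + 1) by omega, pow_mul, neg_one_sq, one_pow, one_mul] at h
            exact h.symm
          obtain ⟨w, hw⟩ := HermTI.exists_root hq hr2 hz1 hk' hn0 hzk hle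
          exact absurd hw (hroot w)

end Cfsg.Agent.S5954
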