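import Cfsg.Statements.S5955
import Cfsg.Agent.Lib.MaxSub.IsoTI
import Cfsg.Agent.Lib.MaxSub.IsoTIElem
import Cfsg.Agent.Lib.Geometry.IsotropicTuples
import Mathlib

set_option maxHeartbeats 1000000
set_option linter.unusedSectionVars false
-- import your own Cfsg.Agent.* helpers here

set_option autoImplicit false
open scoped MatrixGroups
open Cfsg

namespace Cfsg.Agent.S5955

open Module Polynomial Cfsg.Agent.Lib.MaxSub
open scoped _root_.Classical

variable {F : Type*} [Field F] {d : ℕ}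

local notation "W₂" => Fin d ⊕ Fin d → F

/-- A totally isotropic invariant subspace of dimension `m`. -/
def Good (m : ℕ) (X : End F W₂) : Prop :=
  ∃ W : Submodule F W₂, finrank F W = m ∧ (∀ u ∈ W, ∀ v ∈ W, Cfsg.sympForm d F u v = 0) ∧ W.map X ≤ W

theorem good_of {m : ℕ} {X : End F W₂} {W : Submodule F W₂} (hd : finrank F W = m) (hti : W ≤ (stdAlt d F).perp W)
    (hW : W.map X ≤ W) : Good m X :=
  ⟨W, hd, fun u hu v hv => by rw [← stdAlt_apply]; exact hti hv u hu, hW⟩

theorem nd_top : (stdAlt d F).NdOn (⊤ : Submodule F W₂) := fun w _ hw => by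
  by_contra hc
  push Not at hc
  exact hw ((stdAlt d F).nondeg w fun y => by rw [(stdAlt d F).skew, hc y Submodule.mem_top, neg_zero])

theorem finrank_top' : finrank F (⊤ : Submodule F W₂) = 2 * d := by
  rw [finrank_top, Module.finrank_fintype_fun_eq_card, Fintype.card_sum, Fintype.card_fin, two_mul]

theorem toLin_iso {A : Matrix (Fin d ⊕ Fin d) (Fin d ⊕ Fin d) F} (hA : A ∈ Matrix.symplecticGroup (Fin d) F)
    (u v : W₂) : (stdAlt d F).B (Matrix.toLin' A u) (Matrix.toLin' A v) = (stdAlt d F).B u v := by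
  rw [stdAlt_apply, stdAlt_apply, Matrix.toLin'_apply, Matrix.toLin'_apply]
  exact Cfsg.Agent.Lib.Geometry.mem_symplecticGroup_iff_form.1 hA u v

/-- Two orthogonal totally isotropic pieces. -/
theorem good_sup {m : ℕ} {X : End F W₂} {A B : Submodule F W₂} (hA : A ≤ (stdAlt d F).perp A)
    (hB : B ≤ (stdAlt d F).perp B) (hAB : ∀ a ∈ A, ∀ b ∈ B, (stdAlt d F).B a b = 0) (hi : A ⊓ B = ⊥)
    (hAi : A.map X ≤ A) (hBi : B.map X ≤ B) (hdim : finrank F A + finrank F B = m) : Good m X := by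
  refine good_of (W := A ⊔ B) ?_ (fun v hv u hu => ?_) (IsoDecomp.sup_inv hAi hBi)
  · have h := Submodule.finrank_sup_add_finrank_inf_eq A B
    rw [hi, finrank_bot, add_zero] at h
    rw [h, hdim]
  · obtain ⟨a, ha, b, hb, rfl⟩ := Submodule.mem_sup.1 hv
    obtain ⟨a', ha', b', hb', rfl⟩ := Submodule.mem_sup.1 hu
    simp only [map_add, LinearMap.add_apply, hA ha a' ha', hB hb b' hb', hAB a' ha' b hb, (stdAlt d F).skew b' a,
      hAB a ha b' hb']
    ring

theorem exists_ti {m : ℕ} (hmd : m ≤ d) : ∃ W : Submodule F W₂, finrank F W = m ∧ W ≤ (stdAlt d F).perp W := by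
  obtain ⟨W, -, -, h1, h2⟩ := IsoTI.exists_ti_fixed (stdAlt d F) (X := 1) (n := 1) one_pos (one_pow 1) (fun u v => rfl)
    (P := Polynomial.X - C (1 : F)) (irreducible_X_sub_C 1).squarefree (by simp) (a := 1) nd_top
    (fun v _ => (one_smul F v).symm) (e := m) (by rw [finrank_top']; omega)
  exact ⟨W, h2, h1⟩

theorem good_scalar {m : ℕ} (hmd : m ≤ d) (a : F) : Good m (a • (1 : End F W₂)) := by
  obtain ⟨W, h1, h2⟩ := exists_ti (F := F) hmd
  refine good_of h1 h2 ?_
  rintro _ ⟨w, hw, rfl⟩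
  exact W.smul_mem a hw

theorem good_smul {m : ℕ} {X : End F W₂} {a : F} (ha : a ≠ 0) (h : Good m (a • X)) : Good m X := by
  obtain ⟨W, h1, h2, h3⟩ := h
  exact ⟨W, h1, h2, by rwa [Submodule.map_smul _ _ _ ha] at h3⟩

section Count

variable [Fintype F]

theorem card_mul {m : ℕ} :
    Nat.card {W : Submodule F W₂ // finrank F ↥W = m ∧ (∀ u ∈ W, ∀ v ∈ W, Cfsg.sympForm d F u v = 0)} *
      (∏ i ∈ Finset.range m, (Fintype.card F ^ m - Fintype.card F ^ i)) =
      ∏ i ∈ Finset.range m, (Fintype.card F ^ (2 * d - i) - Fintype.card F ^ i) := by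
  let Ω := {W : Submodule F W₂ // finrank F ↥W = m ∧ (∀ u ∈ W, ∀ v ∈ W, Cfsg.sympForm d F u v = 0)}
  haveI := Fintype.ofFinite Ω
  rw [← Cfsg.Agent.Lib.Geometry.card_isoTuple d m]
  have hext : ∀ (W W' : Ω) (s : {s : Fin m → (W.1 : Submodule F W₂) // LinearIndependent F s})
      (s' : {s : Fin m → (W'.1 : Submodule F W₂) // LinearIndependent F s}), W.1 = W'.1 →
      (∀ a, (s.1 a : W₂) = (s'.1 a : W₂)) →
      (⟨W, s⟩ : Σ W : Ω, {s : Fin m → (W.1 : Submodule F W₂) // LinearIndependent F s}) = ⟨W', s'⟩ := by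
    rintro ⟨W, hW⟩ ⟨W', hW'⟩ s s' (h : W = W') ha
    subst h
    exact congrArg _ (Subtype.ext (funext fun a => Subtype.ext (ha a)))
  let e : {t : Fin m → W₂ // Cfsg.Agent.Lib.Geometry.IsoTuple d m t} ≃
      Σ W : Ω, {s : Fin m → (W.1 : Submodule F W₂) // LinearIndependent F s} :=
    { toFun := fun t => ⟨⟨Submodule.span F (Set.range t.1),
        by rw [finrank_span_eq_card t.2.1, Fintype.card_fin], fun u hu v hv => by
          rw [← stdAlt_apply]
          induction hu using Submodule.span_induction with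
          | mem u hu =>
            obtain ⟨a, rfl⟩ := hu
            induction hv using Submodule.span_induction with
            | mem v hv => obtain ⟨b, rfl⟩ := hv; rw [stdAlt_apply]; exact t.2.2 a b
            | zero => simp
            | add y z _ _ h1 h2 => rw [map_add, h1, h2, add_zero]
            | smul c y _ h1 => rw [map_smul, h1, smul_zero]
          | zero => simp
          | add y z _ _ h1 h2 => rw [map_add, LinearMap.add_apply, h1, h2, add_zero]
          | smul c y _ h1 => rw [map_smul, LinearMap.smul_apply, h1, smul_zero]⟩,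
        fun a => ⟨t.1 a, Submodule.subset_span ⟨a, rfl⟩⟩,
        LinearIndependent.of_comp (Submodule.subtype _) t.2.1⟩
      invFun := fun s => ⟨fun a => (s.2.1 a : W₂), s.2.2.map' (Submodule.subtype _) (Submodule.ker_subtype _),
        fun a b => s.1.2.2 _ (s.2.1 a).2 _ (s.2.1 b).2⟩
      left_inv := fun t => rfl
      right_inv := fun ⟨⟨W, hW⟩, s, hs⟩ => by
        have hspan : Submodule.span F (Set.range fun a => (s a : W₂)) = W :=
          Submodule.eq_of_le_of_finrank_le (Submodule.span_le.2 (by rintro _ ⟨a, rfl⟩; exact (s a).2))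
            (by
              have hli : LinearIndependent F fun a => (s a : W₂) := hs.map' (Submodule.subtype _) (Submodule.ker_subtype _)
              rw [hW.1, finrank_span_eq_card hli, Fintype.card_fin])
        exact hext _ _ _ _ hspan fun a => rfl }
  rw [Nat.card_congr e, Nat.card_sigma, Finset.sum_const_nat (m := ∏ i ∈ Finset.range m, (Fintype.card F ^ m - Fintype.card F ^ i)) ?_,
    Finset.card_univ, Nat.card_eq_fintype_card]
  intro W _
  rw [card_linearIndependent (le_of_eq W.2.1.symm), W.2.1]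
  rw [Fin.prod_univ_eq_prod_range (fun i => Fintype.card F ^ m - Fintype.card F ^ i)]

theorem dvd_prod {m r : ℕ} (hmd : m ≤ d)
    (h : r ∣ Nat.card {W : Submodule F W₂ // finrank F ↥W = m ∧ (∀ u ∈ W, ∀ v ∈ W, Cfsg.sympForm d F u v = 0)}) :
    r ∣ ∏ i ∈ Finset.range m, (Fintype.card F ^ (2 * d - 2 * i) - 1) := by
  have h1 := card_mul (F := F) (d := d) (m := m)
  have e1 : ∀ i ∈ Finset.range m, Fintype.card F ^ m - Fintype.card F ^ i =
      Fintype.card F ^ i * (Fintype.card F ^ (m - i) - 1) := fun i hi => by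
    rw [Nat.mul_sub_one, ← pow_add, show i + (m - i) = m by have := Finset.mem_range.1 hi; omega]
  have e2 : ∀ i ∈ Finset.range m, Fintype.card F ^ (2 * d - i) - Fintype.card F ^ i =
      Fintype.card F ^ i * (Fintype.card F ^ (2 * d - 2 * i) - 1) := fun i hi => by
    rw [Nat.mul_sub_one, ← pow_add, show i + (2 * d - 2 * i) = 2 * d - i by have := Finset.mem_range.1 hi; omega]
  rw [Finset.prod_congr rfl e1, Finset.prod_congr rfl e2,
    Finset.prod_mul_distrib, Finset.prod_mul_distrib, mul_left_comm] at h1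
  have h2 := Nat.eq_of_mul_eq_mul_left (Finset.prod_pos fun i _ => pow_pos Fintype.card_pos i) h1
  rw [← h2]
  exact dvd_mul_of_dvd_left h _

variable {p : ℕ} [Fact p.Prime] [CharP F p] {r : ℕ} [hr : Fact r.Prime]

theorem ne_char {m : ℕ} (hmd : m ≤ d)
    (h : r ∣ Nat.card {W : Submodule F W₂ // finrank F ↥W = m ∧ (∀ u ∈ W, ∀ v ∈ W, Cfsg.sympForm d F u v = 0)}) : r ≠ p := by
  rintro rfl
  obtain ⟨i, hi, hd'⟩ := (Prime.dvd_finsetProd_iff (Nat.prime_iff.1 hr.out) _).1 (dvd_prod hmd h)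
  have hi' := Finset.mem_range.1 hi
  obtain ⟨f, -, hcard⟩ := FiniteField.card F r
  have h1 : r ∣ Fintype.card F ^ (2 * d - 2 * i) :=
    (hcard ▸ dvd_pow_self r f.ne_zero).trans (dvd_pow_self _ (by omega))
  have h2 := Nat.dvd_sub h1 hd'
  rw [Nat.sub_sub_self (Nat.one_le_pow _ _ Fintype.card_pos)] at h2
  exact hr.out.one_lt.ne' (Nat.dvd_one.1 h2)

theorem count_bound (hrp : r ≠ p) {i m : ℕ} (hi : orderOf ((Fintype.card F : ℕ) : ZMod r) = i) (hmd : m ≤ d)
    (h2m : 2 * m ≤ 2 * d % IsoDecomp.step i)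
    (h : r ∣ Nat.card {W : Submodule F W₂ // finrank F ↥W = m ∧ (∀ u ∈ W, ∀ v ∈ W, Cfsg.sympForm d F u v = 0)}) : False := by
  obtain ⟨j, hj, hd'⟩ := (Prime.dvd_finsetProd_iff (Nat.prime_iff.1 hr.out) _).1 (dvd_prod hmd h)
  have hj' := Finset.mem_range.1 hj
  have hdvd : i ∣ 2 * (d - j) := by
    rw [← hi, orderOf_dvd_iff_pow_eq_one, show 2 * (d - j) = 2 * d - 2 * j by omega, ← sub_eq_zero, ← Nat.cast_pow,
      ← Nat.cast_one (R := ZMod r), ← Nat.cast_sub (Nat.one_le_pow _ _ Fintype.card_pos), ZMod.natCast_eq_zero_iff]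
    exact hd'
  have hc : IsoDecomp.step i ∣ 2 * (d - j) := by
    rw [IsoDecomp.step]
    split_ifs with hev
    · exact hdvd
    · exact Nat.mul_dvd_mul_left 2 ((Nat.Coprime.dvd_mul_left (Nat.coprime_two_right.2 (Nat.not_even_iff_odd.1 hev))).1 hdvd)
  obtain ⟨b, hb⟩ := hc
  have hi0 : 0 < i := hi ▸ PrimeElemFlags.order_pos rfl hrp
  have hc0 : 0 < IsoDecomp.step i := by rw [IsoDecomp.step]; split_ifs <;> omega
  have h1 : b ≤ 2 * d / IsoDecomp.step i := (Nat.le_div_iff_mul_le hc0).2 (by rw [mul_comm, ← hb]; omega)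
  have h2 := Nat.mul_le_mul_left (IsoDecomp.step i) h1
  have h3 := Nat.div_add_mod (2 * d) (IsoDecomp.step i)
  omega

/-- What an invariant totally isotropic subspace says about the element. -/
theorem necessary {X : End F W₂} (hrp : r ≠ p) {i : ℕ} (hi : orderOf ((Fintype.card F : ℕ) : ZMod r) = i) (hX : X ^ r = 1)
    (hiso : ∀ u v, (stdAlt d F).B (X u) (X v) = (stdAlt d F).B u v) {m : ℕ} (h : Good m X) :
    ∃ (j : ℕ) (W : Submodule F W₂), W.map X ≤ W ∧ W ≤ IsoDecomp.moved X r ∧ W ≤ (stdAlt d F).perp W ∧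
      finrank F W = i * j ∧ i * j ≤ m ∧ 2 * (m - i * j) ≤ finrank F (IsoDecomp.fixed X) := by
  obtain ⟨W, hWd, hti, hW⟩ := h
  have hr0 : (r : F) ≠ 0 := PrimeElemFlags.cast_ne_zero hrp
  have htop := IsoDecomp.nd_parts (stdAlt d F) hr0 hX hiso nd_top (le_top : (⊤ : Submodule F W₂).map X ≤ ⊤)
  rw [top_inf_eq, top_inf_eq] at htop
  have hWp : W ≤ (stdAlt d F).perp W := fun v hv u hu => by rw [stdAlt_apply]; exact hti u hu v hv
  obtain ⟨⟨j, hj⟩, -⟩ := LinDecomp.moved_sub hrp hi hX (IsoDecomp.inf_inv hW (IsoDecomp.moved_inv (r := r))) inf_le_right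
  have hsum := (IsoDecomp.decompose hr0 hX hW).2
  have h1 := IsoTI.ti_half (stdAlt d F) htop.1 (W := W ⊓ IsoDecomp.fixed X) inf_le_right
    (fun v hv u hu => hWp hv.1 u hu.1)
  exact ⟨j, _, IsoDecomp.inf_inv hW IsoDecomp.moved_inv, inf_le_right, fun v hv u hu => hWp hv.1 u hu.1, hj,
    by omega, by omega⟩

theorem good_of_data {X : End F W₂} (hrp : r ≠ p) (hX : X ^ r = 1)
    (hiso : ∀ u v, (stdAlt d F).B (X u) (X v) = (stdAlt d F).B u v) {D i j m : ℕ}
    (H : ∀ U ≤ IsoDecomp.moved X r, (stdAlt d F).NdOn U → U.map X ≤ U → D ≤ finrank F U →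
      ∃ S ≤ U, S.map X ≤ S ∧ S ≤ (stdAlt d F).perp S ∧ finrank F S = i)
    (hj : 0 < j → D + 2 * i * (j - 1) ≤ finrank F (IsoDecomp.moved X r)) (hjm : i * j ≤ m)
    (hf : 2 * (m - i * j) ≤ finrank F (IsoDecomp.fixed X)) : Good m X := by
  have hr0 : (r : F) ≠ 0 := PrimeElemFlags.cast_ne_zero hrp
  have htop := IsoDecomp.nd_parts (stdAlt d F) hr0 hX hiso nd_top (le_top : (⊤ : Submodule F W₂).map X ≤ ⊤)
  rw [top_inf_eq, top_inf_eq] at htop
  have hsq : Squarefree (Polynomial.X ^ r - C (1 : F)) := PrimeElemFlags.sq hr0 one_ne_zero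
  have hy : aeval X (Polynomial.X ^ r - C (1 : F)) = 0 := PrimeElemFlags.aeval_eq_zero (by rw [hX, one_smul])
  obtain ⟨A, hA1, hA2, hA3, hA4⟩ := IsoTI.exists_ti_mul (stdAlt d F) hr.out.pos hX hiso hsq hy H j _ le_rfl htop.2
    IsoDecomp.moved_inv hj
  obtain ⟨B, hB1, hB2, hB3, hB4⟩ := IsoTI.exists_ti_fixed (stdAlt d F) hr.out.pos hX hiso hsq hy (a := 1) htop.1
    (fun v hv => by rw [one_smul]; exact IsoDecomp.mem_fixed.1 hv) hf
  refine good_sup hA3 hB3 (fun a ha b hb => ?_) ?_ hA2 hB2 (by omega)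
  · rw [(stdAlt d F).skew, IsoDecomp.orth (stdAlt d F) hr0 hiso (hB1 hb) (hA1 ha), neg_zero]
  · refine le_bot_iff.1 (le_trans (le_inf (inf_le_right.trans hB1) (inf_le_left.trans hA1)) ?_)
    exact (IsoDecomp.pow_moved hr0 hX).le

/-- Elements of odd order in the good cases. -/
theorem good_odd {X : End F W₂} (hrp : r ≠ p) (hr2 : r ≠ 2) {i : ℕ} (hi : orderOf ((Fintype.card F : ℕ) : ZMod r) = i) (hX : X ^ r = 1)
    (hiso : ∀ u v, (stdAlt d F).B (X u) (X v) = (stdAlt d F).B u v) {m : ℕ} (hmd : m ≤ d)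
    (hk : 2 * (m % i) ≤ 2 * d % IsoDecomp.step i) (ht : Odd i ∨ (r - 1) / i + 2 * (m / i) ≤ 2 * d / i) : Good m X := by
  have hr0 : (r : F) ≠ 0 := PrimeElemFlags.cast_ne_zero hrp
  have hi0 : 0 < i := hi ▸ PrimeElemFlags.order_pos rfl hrp
  have hsum := (IsoDecomp.decompose hr0 hX (U := (⊤ : Submodule F W₂)) le_top).2
  rw [top_inf_eq, top_inf_eq, finrank_top'] at hsum
  obtain ⟨⟨N, hN⟩, -⟩ := LinDecomp.moved_sub hrp hi hX (IsoDecomp.moved_inv (r := r)) le_rfl
  have hm := Nat.div_add_mod m i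
  rcases Nat.even_or_odd i with hev | hodd
  · have ht' := ht.resolve_left (Nat.not_odd_iff_even.2 hev)
    rw [IsoDecomp.step, if_pos hev] at hk
    have hn := Nat.div_add_mod (2 * d) i
    obtain ⟨t, htdef⟩ : ∃ t, t = (r - 1) / i := ⟨_, rfl⟩
    rw [← htdef] at ht'
    have hti : i * t = r - 1 := by
      rw [htdef]
      refine Nat.mul_div_cancel' ?_
      have h0 := IsoTIElem.card_factors (F := F) hrp hi
      exact ⟨_, by rw [← h0, mul_comm]⟩
    have hN' : N ≤ 2 * d / i := (Nat.le_div_iff_mul_le hi0).2 (by rw [mul_comm]; omega)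
    obtain ⟨a, ha⟩ : ∃ a, 2 * d / i = N + a := ⟨2 * d / i - N, by omega⟩
    obtain ⟨j, hj⟩ : ∃ j, j = min (m / i) ((N + 1 - t) / 2) := ⟨_, rfl⟩
    obtain ⟨b, hb⟩ : ∃ b, m / i = j + b := ⟨m / i - j, by omega⟩
    refine good_of_data hrp hX hiso (D := r) (i := i) (j := j) (fun U hU _ hUi hd => IsoTI.exists_ti_moved _ hrp hr2 hi hX
      hiso hUi hU (Or.inr (by have := hr.out.pos; omega))) (fun hj0 => ?_) ?_ ?_
    · rw [hN]
      have e : i * (t + 2 * j - 1) ≤ i * N := Nat.mul_le_mul_left i (by omega)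
      have e2 : i * (t + 2 * j - 1) = i * t + 2 * i * (j - 1) + i := by
        rw [show t + 2 * j - 1 = t + 2 * (j - 1) + 1 by omega]; ring
      have := hr.out.pos
      omega
    · rw [← hm, hb, Nat.mul_add]; omega
    · rw [hb, Nat.mul_add] at hm
      rw [ha, Nat.mul_add] at hn
      rw [hN] at hsum
      rcases Nat.eq_zero_or_pos b with rfl | hb0
      · omega
      · have e : i * (2 * b) ≤ i * a := Nat.mul_le_mul_left i (by omega)
        rw [mul_left_comm] at e
        omega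
  · rw [IsoDecomp.step, if_neg (Nat.not_even_iff_odd.2 hodd)] at hk
    have hn := Nat.div_add_mod (2 * d) (2 * i)
    have htop := IsoDecomp.nd_parts (stdAlt d F) hr0 hX hiso nd_top (le_top : (⊤ : Submodule F W₂).map X ≤ ⊤)
    rw [top_inf_eq, top_inf_eq] at htop
    obtain ⟨s, hs⟩ : Even N := by
      have h := SympInvolConj.even_finrank (stdAlt d F) htop.2
      rw [hN] at h
      exact (Nat.even_mul.1 h).resolve_left (Nat.not_even_iff_odd.2 hodd)
    subst hs
    rw [show i * (s + s) = 2 * i * s by ring] at hN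
    have hs' : s ≤ 2 * d / (2 * i) := (Nat.le_div_iff_mul_le (by omega)).2 (by rw [mul_comm]; omega)
    obtain ⟨a, ha⟩ : ∃ a, 2 * d / (2 * i) = s + a := ⟨2 * d / (2 * i) - s, by omega⟩
    obtain ⟨j, hj⟩ : ∃ j, j = min (m / i) s := ⟨_, rfl⟩
    obtain ⟨b, hb⟩ : ∃ b, m / i = j + b := ⟨m / i - j, by omega⟩
    refine good_of_data hrp hX hiso (D := 1) (i := i) (j := j) (fun U hU _ hUi hd => IsoTI.exists_ti_moved _ hrp hr2 hi hX
      hiso hUi hU (Or.inl ⟨hodd, fun e => by rw [e, finrank_bot] at hd; omega⟩)) (fun hj0 => ?_) ?_ ?_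
    · rw [hN]
      have e : 2 * i * j ≤ 2 * i * s := Nat.mul_le_mul_left _ (by omega)
      have e2 : 2 * i * j = 2 * i * (j - 1) + 2 * i := by conv_lhs => rw [show j = j - 1 + 1 by omega, Nat.mul_succ]
      omega
    · rw [← hm, hb, Nat.mul_add]; omega
    · rw [hb, Nat.mul_add] at hm
      rw [ha, Nat.mul_add] at hn
      rw [hN] at hsum
      rcases Nat.eq_zero_or_pos b with rfl | hb0
      · omega
      · obtain rfl : j = s := by omega
        rw [mul_assoc] at hsum
        omega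

/-- The conditions are necessary. -/
theorem cond_of_all (hrp : r ≠ p) (hr2 : r ≠ 2) {i m : ℕ} (hi : orderOf ((Fintype.card F : ℕ) : ZMod r) = i) (hmd : m ≤ d)
    (hΩ : r ∣ Nat.card {W : Submodule F W₂ // finrank F ↥W = m ∧ (∀ u ∈ W, ∀ v ∈ W, Cfsg.sympForm d F u v = 0)})
    (h : ∀ x ∈ Matrix.symplecticGroup (Fin d) F, x ^ r = 1 → Good m (Matrix.toLin' x)) :
    i ≤ m ∧ 2 * (m % i) ≤ 2 * d % IsoDecomp.step i ∧ (Odd i ∨ (r - 1) / i + 2 * (m / i) ≤ 2 * d / i) := by
  have hr0 : (r : F) ≠ 0 := PrimeElemFlags.cast_ne_zero hrp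
  have hi0 : 0 < i := hi ▸ PrimeElemFlags.order_pos rfl hrp
  have hc0 : 0 < IsoDecomp.step i ∧ IsoDecomp.step i ≤ 2 * i := by rw [IsoDecomp.step]; split_ifs <;> omega
  have hm := Nat.div_add_mod m i
  have hk := Nat.mod_lt (2 * d) hc0.1
  have hmax := Nat.div_add_mod (2 * d) (IsoDecomp.step i)
  obtain ⟨x, hx, hxr, hrk⟩ := IsoElem.exists_atoms (p := p) (F := F) hrp hr2 hi (d := d) (s := 2 * d / IsoDecomp.step i) (by omega)
  obtain ⟨j, W, -, -, -, -, hjm, hjf⟩ := necessary hrp hi (SympPrimeElem.pow_toLin hxr) (toLin_iso hx) (h x hx hxr)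
  have hfix : finrank F (IsoDecomp.fixed (Matrix.toLin' x)) = 2 * d % IsoDecomp.step i := by
    have h1 := SympPrimeElem.finrank_range_matrix x
    rw [hrk, Fintype.card_sum, Fintype.card_fin] at h1
    have h1' : IsoDecomp.step i * (2 * d / IsoDecomp.step i) + finrank F (IsoDecomp.fixed (Matrix.toLin' x)) = d + d := h1
    omega
  rw [hfix] at hjf
  have him : i ≤ m := by
    by_contra hlt
    have hj0 : j = 0 := by
      rcases Nat.eq_zero_or_pos j with h0 | h0
      · exact h0
      · have := Nat.le_mul_of_pos_right i h0; omega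
    subst hj0
    exact count_bound hrp hi hmd (by omega) hΩ
  have hjle : j ≤ m / i := (Nat.le_div_iff_mul_le hi0).2 (by rw [mul_comm]; omega)
  refine ⟨him, ?_, ?_⟩
  · obtain ⟨b, hb⟩ : ∃ b, m / i = j + b := ⟨m / i - j, by omega⟩
    rw [hb, Nat.mul_add] at hm
    rcases Nat.eq_zero_or_pos b with rfl | hb0
    · omega
    · have := Nat.le_mul_of_pos_right i hb0
      omega
  rcases Nat.even_or_odd i with ⟨e, he⟩ | hodd
  swap
  · exact Or.inl hodd
  right
  subst he
  have hev : Even (e + e) := ⟨e, rfl⟩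
  set 𝒢 := IsoTIElem.factors r F
  have ht : (r - 1) / (e + e) = 𝒢.card := by
    rw [← IsoTIElem.card_factors (F := F) hrp hi, Nat.mul_div_cancel _ hi0]
  rw [ht]
  have hmod : m % (e + e) < e + e := Nat.mod_lt _ hi0
  have hn := Nat.div_add_mod (2 * d) (e + e)
  have hkn : 2 * d % (e + e) < e + e := Nat.mod_lt _ hi0
  by_contra hcon
  obtain ⟨l, B, hl, hlen, hBsum, hB, hflen⟩ : ∃ (l : List F[X]) (B : ℕ), (∀ g ∈ l, g ∈ 𝒢) ∧ e * l.length ≤ d ∧
      (∑ g ∈ 𝒢, l.count g / 2 ≤ B) ∧ B < m / (e + e) ∧ 2 * d < (e + e) * l.length + 2 * (e + e) := by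
    have hm1 : 1 ≤ m / (e + e) := (Nat.le_div_iff_mul_le hi0).2 (by omega)
    by_cases hsmall : 2 * d / (e + e) ≤ 𝒢.card
    · refine ⟨𝒢.toList.take (2 * d / (e + e)), 0, fun g hg => Finset.mem_toList.1 (List.mem_of_mem_take hg), ?_, ?_, by omega, ?_⟩
      · rw [List.length_take, Finset.length_toList, min_eq_left hsmall]
        have e1 : (e + e) * (2 * d / (e + e)) = 2 * (e * (2 * d / (e + e))) := by ring
        omega
      · refine le_of_eq (Finset.sum_eq_zero fun g _ => ?_)
        have h1 : (𝒢.toList.take (2 * d / (e + e))).count g ≤ 1 :=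
          ((List.take_sublist _ _).count_le g).trans (List.nodup_iff_count_le_one.1 (Finset.nodup_toList _) g)
        omega
      · rw [List.length_take, Finset.length_toList, min_eq_left hsmall]; omega
    · have hne : 𝒢.Nonempty := by
        rw [← Finset.card_pos]
        rcases Nat.eq_zero_or_pos 𝒢.card with h0 | h0
        · have h1 := IsoTIElem.card_factors (F := F) hrp hi
          rw [h0] at h1
          have := hr.out.two_le
          omega
        · exact h0
      obtain ⟨g₁, hg₁⟩ := hne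
      obtain ⟨b, hb⟩ : ∃ b, b = (2 * d / (e + e) - 𝒢.card) / 2 := ⟨_, rfl⟩
      have hNlen : (List.replicate (2 * b) g₁ ++ 𝒢.toList).length = 2 * b + 𝒢.card := by
        rw [List.length_append, List.length_replicate, Finset.length_toList]
      refine ⟨List.replicate (2 * b) g₁ ++ 𝒢.toList, b, fun g hg => ?_, ?_, ?_, by omega, ?_⟩
      · rcases List.mem_append.1 hg with h1 | h1
        · rw [(List.mem_replicate.1 h1).2]; exact hg₁
        · exact Finset.mem_toList.1 h1
      · rw [hNlen]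
        have e1 : (e + e) * (2 * b + 𝒢.card) ≤ (e + e) * (2 * d / (e + e)) := Nat.mul_le_mul_left _ (by omega)
        have e2 : (e + e) * (2 * b + 𝒢.card) = 2 * (e * (2 * b + 𝒢.card)) := by ring
        omega
      · refine (Finset.sum_le_sum fun g hg => ?_).trans (le_of_eq ((Finset.sum_ite_eq' 𝒢 g₁ fun _ => b).trans (if_pos hg₁)))
        rw [List.count_append, List.count_replicate, List.count_eq_one_of_mem (Finset.nodup_toList _) (Finset.mem_toList.2 hg)]
        by_cases hgg : g = g₁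
        · subst hgg; simp; omega
        · rw [if_neg hgg]
          have : (g₁ == g) = false := beq_eq_false_iff_ne.2 (Ne.symm hgg)
          simp [this]
      · rw [hNlen]
        have e1 : (e + e) * (2 * d / (e + e)) ≤ (e + e) * (2 * b + 𝒢.card + 1) := Nat.mul_le_mul_left _ (by omega)
        rw [Nat.mul_succ] at e1
        omega
  obtain ⟨y, hy, hyr, hy1, hyg⟩ := IsoTIElem.exists_element (F := F) hrp hi (d := d) l hl hlen
  set Y := Matrix.toLin' y
  have hY := SympPrimeElem.pow_toLin hyr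
  obtain ⟨j, W, hW, hWm, hWti, hWd, hjm, hjf⟩ := necessary hrp hi hY (toLin_iso hy) (h y hy hyr)
  have hfix : finrank F (IsoDecomp.fixed Y) + (e + e) * l.length = 2 * d := by
    have h1 := SympPrimeElem.finrank_range_matrix y
    rw [hy1, Fintype.card_sum, Fintype.card_fin] at h1
    have h1' : 2 * (e * l.length) + finrank F (IsoDecomp.fixed Y) = d + d := h1
    have e1 : 2 * (e * l.length) = (e + e) * l.length := by ring
    omega
  have hjB : j ≤ B := by
    refine le_trans (Nat.le_of_mul_le_mul_left ?_ hi0) hBsum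
    rw [← hWd, Finset.mul_sum]
    refine (IsoTI.le_sum_ker hrp hY 𝒢 (fun g h1 h2 h3 => IsoTIElem.mem_factors.2 ⟨h1, h2, h3⟩) hW hWm).trans
      (Finset.sum_le_sum fun g hg => ?_)
    obtain ⟨hgi, -, hgd⟩ := IsoTIElem.mem_factors.1 hg
    have hK := IsoTI.ker_nd (stdAlt d F) hrp hr2 hi hev hY (toLin_iso hy) hgi hgd
    have h2 := IsoTI.ti_half (stdAlt d F) hK (W := W ⊓ LinearMap.ker (aeval Y g)) inf_le_right
      (fun v hv u hu => hWti hv.1 u hu.1)
    obtain ⟨⟨b, hb⟩, -⟩ := LinDecomp.moved_sub hrp hi hY (IsoDecomp.inf_inv hW (PrimeElem.map_ker_le Y g))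
      (inf_le_left.trans hWm)
    have hker : finrank F (LinearMap.ker (aeval Y g)) = (e + e) * l.count g := by
      have h3 := (Matrix.toLin' (aeval y g)).finrank_range_add_finrank_ker
      rw [Module.finrank_fintype_fun_eq_card, Fintype.card_sum, Fintype.card_fin] at h3
      have h4 : aeval Y g = Matrix.toLin' (aeval y g) := Polynomial.aeval_algHom_apply Matrix.toLinAlgEquiv'.toAlgHom y g
      have h5 : finrank F (LinearMap.range (Matrix.toLin' (aeval y g))) + (e + e) * l.count g = 2 * d := hyg g hg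
      rw [h4]
      omega
    rw [hb, hker] at h2
    rw [hb]
    refine Nat.mul_le_mul_left _ ((Nat.le_div_iff_mul_le two_pos).2 (Nat.le_of_mul_le_mul_left ?_ hi0))
    exact le_of_eq_of_le (by ring) h2
  change _ ≤ finrank F (IsoDecomp.fixed Y) at hjf
  obtain ⟨a, ha⟩ : ∃ a, m / (e + e) = j + a + 1 := ⟨m / (e + e) - j - 1, by omega⟩
  rw [ha, Nat.mul_succ, Nat.mul_add] at hm
  omega

end Count

theorem good_two [Fintype F] {p : ℕ} [Fact p.Prime] [CharP F p] (hp : p ≠ 2) {X : End F W₂} {z : F} (hz : z = 1 ∨ z = -1)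
    (hX : X ^ 2 = z • 1) (hiso : ∀ u v, (stdAlt d F).B (X u) (X v) = (stdAlt d F).B u v) {m : ℕ} (hmd : m ≤ d)
    (hcond : Even m ∨ Fintype.card F % 4 = 1) : Good m X := by
  have h20 : (2 : F) ≠ 0 := by
    intro h
    have h' : ((2 : ℕ) : F) = 0 := by exact_mod_cast h
    exact hp ((Nat.prime_dvd_prime_iff_eq Fact.out Nat.prime_two).1 ((CharP.cast_eq_zero_iff F p 2).1 h'))
  have hXX : ∀ v, X (X v) = z • v := fun v => by
    have h := LinearMap.congr_fun hX v
    rwa [pow_two, End.mul_apply] at h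
  set f := stdAlt d F
  by_cases hsq : ∃ μ : F, μ * μ = z
  · obtain ⟨μ, hμ⟩ := hsq
    have hμ0 : μ ≠ 0 := fun e => by
      rw [e, zero_mul] at hμ
      rcases hz with h | h <;> simp [h] at hμ
    set A := End.eigenspace X μ
    set B := End.eigenspace X (-μ)
    have hA : ∀ v ∈ A, X v = μ • v := fun v hv => End.mem_eigenspace_iff.1 hv
    have hB : ∀ v ∈ B, X v = (-μ) • v := fun v hv => End.mem_eigenspace_iff.1 hv
    have hdec : ∀ v, ∃ a ∈ A, ∃ b ∈ B, a + b = v := fun v => by
      refine ⟨(2 : F)⁻¹ • (v + μ⁻¹ • X v), End.mem_eigenspace_iff.2 ?_, (2 : F)⁻¹ • (v - μ⁻¹ • X v),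
        End.mem_eigenspace_iff.2 ?_, ?_⟩
      · simp only [map_smul, map_add, hXX, smul_add, smul_smul, ← hμ]
        rw [add_comm]
        congr 1 <;> congr 1 <;> field_simp
      · simp only [map_smul, map_sub, hXX, smul_sub, smul_smul, ← hμ]
        match_scalars <;> field_simp
      · match_scalars <;> field_simp <;> norm_num
    have hdisj : A ⊓ B = ⊥ := by
      rw [Submodule.eq_bot_iff]
      rintro v ⟨ha, hb⟩
      have e := (hA v ha).symm.trans (hB v hb)
      have : (2 * μ) • v = 0 := by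
        rw [two_mul, add_smul]; nth_rw 2 [e]; rw [neg_smul, add_neg_cancel]
      exact (smul_eq_zero.1 this).resolve_left (mul_ne_zero h20 hμ0)
    have hdim : finrank F A + finrank F B = 2 * d := by
      have h := Submodule.finrank_sup_add_finrank_inf_eq A B
      have htop : A ⊔ B = ⊤ := eq_top_iff.2 fun v _ => by
        obtain ⟨a, ha, b, hb, rfl⟩ := hdec v
        exact Submodule.add_mem_sup ha hb
      rw [htop, hdisj, finrank_bot, add_zero, finrank_top'] at h
      exact h.symm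
    rcases hz with rfl | rfl
    · have hP : Squarefree (Polynomial.X ^ 2 - C (1 : F)) :=
        (Polynomial.separable_X_pow_sub_C (1 : F) (by exact_mod_cast h20) one_ne_zero).squarefree
      have hy : aeval X (Polynomial.X ^ 2 - C (1 : F)) = 0 := by simp [hX]
      have horth : ∀ a ∈ A, ∀ b ∈ B, f.B a b = 0 := fun a ha b hb => by
        have e := hiso a b
        rw [hA a ha, hB b hb] at e
        simp only [map_smul, LinearMap.smul_apply, smul_eq_mul, neg_smul, map_neg, mul_neg] at e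
        rw [← mul_assoc, hμ, one_mul] at e
        have : 2 * f.B a b = 0 := by linear_combination -e
        exact (mul_eq_zero.1 this).resolve_left h20
      have hndA : f.NdOn A := fun a ha ha0 => by
        by_contra hne
        push Not at hne
        refine ha0 (f.nondeg a fun v => ?_)
        obtain ⟨a', ha', b', hb', rfl⟩ := hdec v
        rw [f.skew, map_add, hne a' ha', horth a ha b' hb', add_zero, neg_zero]
      have hndB : f.NdOn B := fun b hb hb0 => by
        by_contra hne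
        push Not at hne
        refine hb0 (f.nondeg b fun v => ?_)
        obtain ⟨a', ha', b', hb', rfl⟩ := hdec v
        rw [f.skew, map_add, hne b' hb', f.skew b a', horth a' ha' b hb, neg_zero, add_zero, neg_zero]
      have hX1 : X ^ 2 = 1 := by rw [hX, one_smul]
      obtain ⟨a2, ha2⟩ := SympInvolConj.even_finrank f hndA
      obtain ⟨S, hS1, hS2, hS3, hS4⟩ := IsoTI.exists_ti_fixed f two_pos hX1 hiso hP hy hndA hA (e := min m a2) (by omega)
      obtain ⟨T, hT1, hT2, hT3, hT4⟩ := IsoTI.exists_ti_fixed f two_pos hX1 hiso hP hy hndB hB (e := m - min m a2) (by omega)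
      exact good_sup hS3 hT3 (fun a ha b hb => horth a (hS1 ha) b (hT1 hb))
        (le_bot_iff.1 ((inf_le_inf hS1 hT1).trans hdisj.le)) hS2 hT2 (by omega)
    · have hti : ∀ (c : F), c * c = -1 → ∀ U : Submodule F W₂, (∀ v ∈ U, X v = c • v) → U ≤ f.perp U := by
        intro c hc U hU v hv u hu
        have e := hiso u v
        rw [hU u hu, hU v hv] at e
        simp only [map_smul, LinearMap.smul_apply, smul_eq_mul] at e
        rw [← mul_assoc, hc] at e
        have : 2 * f.B u v = 0 := by linear_combination -e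
        exact (mul_eq_zero.1 this).resolve_left h20
      have hAt := hti μ hμ A hA
      have hBt := hti (-μ) (by rw [neg_mul_neg, hμ]) B hB
      have h1 := IsoTI.ti_half f nd_top le_top hAt
      have h2 := IsoTI.ti_half f nd_top le_top hBt
      rw [finrank_top'] at h1 h2
      obtain ⟨S, hS⟩ : ∃ S : Submodule F W₂, S ≤ A ∧ finrank F S = m := by
        obtain ⟨S, hS⟩ : ∃ S : Submodule F A, finrank F S = m := by
          let b := Module.finBasis F A
          refine ⟨Submodule.span F (Set.range fun j : Fin m => b (Fin.castLE (by omega) j)), ?_⟩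
          rw [finrank_span_eq_card, Fintype.card_fin]
          exact b.linearIndependent.comp _ (Fin.castLE_injective _)
        exact ⟨S.map A.subtype, Submodule.map_subtype_le A S,
          by rw [← (Submodule.equivMapOfInjective _ A.subtype_injective S).finrank_eq, hS]⟩
      refine good_of hS.2 (fun v hv u hu => hAt (hS.1 hv) u (hS.1 hu)) ?_
      rintro _ ⟨v, hv, rfl⟩
      rw [hA v (hS.1 hv)]
      exact S.smul_mem _ hv
  · obtain rfl : z = -1 := hz.resolve_left fun e => hsq ⟨1, by rw [e, one_mul]⟩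
    have hq : ¬ Fintype.card F % 4 = 1 := fun e => by
      obtain ⟨μ, hμ⟩ := FiniteField.isSquare_neg_one_iff.2 (show Fintype.card F % 4 ≠ 3 by omega)
      exact hsq ⟨μ, hμ.symm⟩
    obtain ⟨j, rfl⟩ := hcond.resolve_right hq
    have hP : Squarefree (Polynomial.X ^ 2 - C (-1 : F)) :=
      (Polynomial.separable_X_pow_sub_C (-1 : F) (by exact_mod_cast h20) (neg_ne_zero.2 one_ne_zero)).squarefree
    have hy : aeval X (Polynomial.X ^ 2 - C (-1 : F)) = 0 := by
      rw [map_sub, map_pow, aeval_X, aeval_C, hX, Algebra.algebraMap_eq_smul_one, sub_self]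
    have hX4 : X ^ 4 = 1 := by rw [show 4 = 2 * 2 from rfl, pow_mul, hX, _root_.smul_pow, one_pow, neg_one_sq, one_smul]
    have H : ∀ U ≤ (⊤ : Submodule F W₂), f.NdOn U → U.map X ≤ U → 4 ≤ finrank F U →
        ∃ S ≤ U, S.map X ≤ S ∧ S ≤ f.perp S ∧ finrank F S = 2 := by
      intro U _ _ hUi hd
      obtain ⟨v, hv, hv0, hvq⟩ := IsoTI.exists_zero f (p := p) (fun _ : Fin 1 => X) (U := U) (by omega)
      have hli : LinearIndependent F ![v, X v] := by
        rw [LinearIndependent.pair_iff' hv0]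
        intro a ha
        refine hsq ⟨a, ?_⟩
        have e := hXX v
        rw [← ha, map_smul, ← ha, smul_smul] at e
        exact smul_left_injective F hv0 e
      set S := Submodule.span F (Set.range ![v, X v])
      have hv1 : X v ∈ U := hUi (Submodule.mem_map_of_mem hv)
      refine ⟨S, Submodule.span_le.2 ?_, ?_, ?_, by rw [finrank_span_eq_card hli, Fintype.card_fin]⟩
      · rintro _ ⟨k, rfl⟩
        fin_cases k
        · exact hv
        · exact hv1
      · rw [Submodule.map_span, Submodule.span_le]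
        rintro _ ⟨_, ⟨k, rfl⟩, rfl⟩
        fin_cases k
        · exact Submodule.subset_span ⟨1, rfl⟩
        · show X (X v) ∈ S
          rw [hXX]
          exact S.smul_mem _ (Submodule.subset_span ⟨0, rfl⟩)
      · intro x hx w hw
        obtain ⟨cx, rfl⟩ := (Submodule.mem_span_range_iff_exists_fun F).1 hx
        obtain ⟨cw, rfl⟩ := (Submodule.mem_span_range_iff_exists_fun F).1 hw
        have h0 : f.B v (X v) = 0 := by rw [f.skew, hvq 0, neg_zero]
        simp [Fin.sum_univ_two, f.alt, h0, hvq 0]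
    obtain ⟨W, -, hW, hWti, hWd⟩ := IsoTI.exists_ti_mul f (by norm_num : 0 < 4) hX4 hiso hP hy H j ⊤ le_rfl nd_top le_top
      (fun hj => by rw [finrank_top']; omega)
    exact good_of (by omega) hWti hW

/-- Elements of prime order of PSp_n(q) with no fixed totally isotropic `m`-space. Here `T = PSp_n(q)` with `n = 2d ≥ 4`, `(n, q) ≠ (4, 2)`, realised through the symplectic matrices over the field `F` with `q` elements (preserving the standard alternating form); an element of `T` of prime order `r` is such a matrix `x` with `x^r` scalar and `x` not scalar. For `r ≠ p` let `i` be the multiplicative order of `q` modulo `r`, `c = i` for `i` even and `c = 2i` for `i` odd, and write `k = n mod c`, `ℓ = m mod i`, `ℓ' = m mod c`, `n' = ⌊n/i⌋`, `m' = ⌊m/i⌋`, `t = (r−1)/i`. Let `1 ≤ m ≤ n/2` and let `r` be a prime dividing the number of totally isotropic `m`-spaces. Then every element of `T` of order `r` fixes a totally isotropic `m`-space if and only if either (i) `r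 = 2 ≠ p` and (`m` is even or `q ≡ 1 (mod 4)`); or (ii) `r ≠ p`, `r > 2`, `i ≤ m`, `k ≥ 2ℓ`, and (`i` is odd or `n' − 2m' ≥ t`). -/
theorem result {F : Type*} [Field F] [Fintype F] {p : ℕ} [Fact p.Prime] [CharP F p] {q : ℕ} (hq : Fintype.card F = q)
    (d m : ℕ) (hd : 2 ≤ d) (hT : (d, q) ≠ (2, 2)) (hm : 1 ≤ m) (hmd : m ≤ d)
    (r : ℕ) [Fact r.Prime]
    (hrΩ : r ∣ Nat.card {W : Submodule F (Fin d ⊕ Fin d → F) // Module.finrank F ↥W = m ∧ (∀ u ∈ W, ∀ v ∈ W, Cfsg.sympForm d F u v = 0)})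
    (i c : ℕ) (hi : i = orderOf (q : ZMod r)) (hc : c = if Even i then i else 2 * i) :
    (∀ x : ↥(Matrix.symplecticGroup (Fin d) F),
      (∃ z : F, ((x ^ r : ↥(Matrix.symplecticGroup (Fin d) F)) : Matrix (Fin d ⊕ Fin d) (Fin d ⊕ Fin d) F) = z • (1 : Matrix (Fin d ⊕ Fin d) (Fin d ⊕ Fin d) F)) →
      (∀ z : F, (x : Matrix (Fin d ⊕ Fin d) (Fin d ⊕ Fin d) F) ≠ z • (1 : Matrix (Fin d ⊕ Fin d) (Fin d ⊕ Fin d) F)) →
      ∃ W : Submodule F (Fin d ⊕ Fin d → F), Module.finrank F ↥W = m ∧ (∀ u ∈ W, ∀ v ∈ W, Cfsg.sympForm d F u v = 0) ∧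
        W.map (Matrix.toLin' (x : Matrix (Fin d ⊕ Fin d) (Fin d ⊕ Fin d) F)) ≤ W) ↔
    ((r = 2 ∧ p ≠ 2 ∧ (Even m ∨ q % 4 = 1)) ∨
     (r ≠ p ∧ 2 < r ∧ i ≤ m ∧ 2 * (m % i) ≤ (2 * d) % c ∧ (Odd i ∨ (r - 1) / i + 2 * (m / i) ≤ (2 * d) / i))) := by
  classical
  subst hq
  have hrp : r ≠ p := ne_char hmd hrΩ
  obtain rfl : c = IsoDecomp.step i := hc
  have hsc : ∀ x : ↥(Matrix.symplecticGroup (Fin d) F), ∀ z : F,
      ((x ^ r : ↥(Matrix.symplecticGroup (Fin d) F)) : Matrix (Fin d ⊕ Fin d) (Fin d ⊕ Fin d) F) = z • (1 : Matrix (Fin d ⊕ Fin d) (Fin d ⊕ Fin d) F) →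
      Matrix.toLin' (x : Matrix (Fin d ⊕ Fin d) (Fin d ⊕ Fin d) F) ^ r = z • 1 ∧ (z = 1 ∨ z = -1) := by
    intro x z hz
    have hXr : Matrix.toLin' (x : Matrix (Fin d ⊕ Fin d) (Fin d ⊕ Fin d) F) ^ r = z • 1 := by
      rw [SubmonoidClass.coe_pow] at hz
      have := congrArg (Matrix.toLinAlgEquiv' (R := F) (n := Fin d ⊕ Fin d)) hz
      rw [map_pow, map_smul, map_one] at this
      exact this
    refine ⟨hXr, mul_self_eq_one_iff.1 ?_⟩
    obtain ⟨u, hu, v, hv, huv⟩ := AltForm.exists_pair (stdAlt d F) (W := (⊤ : Submodule F (Fin d ⊕ Fin d → F))) nd_top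
      (fun e => by
        have h2 := finrank_top' (F := F) (d := d)
        rw [e, finrank_bot] at h2
        omega)
    have hpow : ∀ (k : ℕ) u v, (stdAlt d F).B ((Matrix.toLin' (x : Matrix (Fin d ⊕ Fin d) (Fin d ⊕ Fin d) F) ^ k) u)
        ((Matrix.toLin' (x : Matrix (Fin d ⊕ Fin d) (Fin d ⊕ Fin d) F) ^ k) v) = (stdAlt d F).B u v := fun k => by
      induction k with
      | zero => simp
      | succ k ih => intro u v; rw [pow_succ', Module.End.mul_apply, Module.End.mul_apply, toLin_iso x.2, ih]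
    have h2 := hpow r u v
    rw [hXr] at h2
    simpa [huv] using h2
  constructor
  · intro h
    have h' : ∀ x ∈ Matrix.symplecticGroup (Fin d) F, (∃ z : F, x ^ r = z • 1) → Good m (Matrix.toLin' x) := by
      intro x hx ⟨z, hz⟩
      by_cases hs : ∃ a : F, x = a • 1
      · obtain ⟨a, rfl⟩ := hs
        rw [map_smul, Matrix.toLin'_one]
        exact good_scalar hmd a
      · push Not at hs
        obtain ⟨W, h1, h2, h3⟩ := h ⟨x, hx⟩ ⟨z, by rw [SubmonoidClass.coe_pow]; exact hz⟩ hs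
        exact ⟨W, h1, h2, h3⟩
    by_cases hr2 : r = 2
    · refine Or.inl ⟨hr2, fun e => hrp (hr2.trans e.symm), ?_⟩
      by_contra hne
      push Not at hne
      obtain ⟨hmo, hq4⟩ := hne
      subst hr2
      have hJ : Matrix.J (Fin d) F ∈ Matrix.symplecticGroup (Fin d) F := SymplecticGroup.J_mem (l := Fin d) (R := F)
      have hJ2 : Matrix.J (Fin d) F ^ 2 = (-1 : F) • 1 := by rw [pow_two, Matrix.J_squared, neg_one_smul]
      obtain ⟨W, hWd, -, hW⟩ := h' _ hJ ⟨_, hJ2⟩
      let T : Module.End F W := (Matrix.toLin' (Matrix.J (Fin d) F)).restrict fun v hv => hW (Submodule.mem_map_of_mem hv)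
      have hT : T * T = (-1 : F) • 1 := by
        refine LinearMap.ext fun v => Subtype.ext ?_
        show Matrix.toLin' (Matrix.J (Fin d) F) (Matrix.toLin' (Matrix.J (Fin d) F) (v : Fin d ⊕ Fin d → F)) =
          (-1 : F) • (v : Fin d ⊕ Fin d → F)
        rw [← LinearMap.comp_apply, ← Matrix.toLin'_mul, ← pow_two, hJ2, map_smul, Matrix.toLin'_one]
        rfl
      have hdet := congrArg LinearMap.det hT
      rw [map_mul, LinearMap.det_smul, map_one, mul_one, hWd, Odd.neg_one_pow (Nat.not_even_iff_odd.1 hmo)] at hdet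
      have h3 := FiniteField.isSquare_neg_one_iff.1 (⟨_, hdet.symm⟩ : IsSquare (-1 : F))
      have hodd : Fintype.card F % 2 = 1 := by
        rw [← FiniteField.even_card_iff_char_two.not.trans Nat.mod_two_ne_zero]
        rw [ringChar.eq F p]
        exact fun e => hrp e.symm
      omega
    · refine Or.inr ⟨hrp, lt_of_le_of_ne (Fact.out : r.Prime).two_le (Ne.symm hr2), ?_⟩
      exact cond_of_all hrp hr2 hi.symm hmd hrΩ fun x hx hxr => h' x hx ⟨1, by rw [hxr, one_smul]⟩
  · rintro h x ⟨z, hz⟩ -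
    obtain ⟨hXr, hz1⟩ := hsc x z hz
    suffices hG : Good m (Matrix.toLin' (x : Matrix (Fin d ⊕ Fin d) (Fin d ⊕ Fin d) F)) by exact hG
    rcases h with ⟨rfl, hp, hcond⟩ | ⟨-, hr2, -, hk, ht⟩
    · exact good_two hp hz1 hXr (toLin_iso x.2) hmd hcond
    · have hzz : z * z = 1 := by rcases hz1 with rfl | rfl <;> simp
      have hz0 : z ≠ 0 := fun e => by simp [e] at hzz
      refine good_smul hz0 (good_odd hrp (by omega) hi.symm ?_ (fun u v => ?_) hmd hk ht)
      · rw [_root_.smul_pow, hXr, smul_smul]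
        obtain ⟨b, hb⟩ := (Fact.out : r.Prime).odd_of_ne_two (by omega)
        rw [hb, ← pow_succ, show 2 * b + 1 + 1 = 2 * (b + 1) by ring, pow_mul, pow_two, hzz, one_pow, one_smul]
      · simp only [LinearMap.smul_apply, map_smul, smul_eq_mul, toLin_iso x.2]
        rw [← mul_assoc, hzz, one_mul]

end Cfsg.Agent.S5955
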