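import Cfsg.Statements.S5956
import Cfsg.Agent.Lib.MaxSub.IsoElem
import Cfsg.Agent.Lib.MaxSub.IsoDecomp
import Cfsg.Agent.Lib.MaxSub.UnipotentSymp
import Cfsg.Agent.Lib.MaxSub.NdCount
import Cfsg.Agent.Lib.Similar.JordanTransport
import Mathlib

set_option maxHeartbeats 1000000
set_option linter.unusedSectionVars false
-- import your own Cfsg.Agent.* helpers here

set_option autoImplicit false
open scoped MatrixGroups
open Cfsg

namespace Cfsg.Agent.S5956

open Module Cfsg.Agent.Lib.MaxSub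
open scoped _root_.Classical

variable {F : Type*} [Field F] {d : ℕ}

local notation "W₂" => Fin d ⊕ Fin d → F

/-- An invariant non-degenerate subspace of dimension `m`. -/
def Good (m : ℕ) (X : End F W₂) : Prop :=
  ∃ W : Submodule F W₂, finrank F W = m ∧ (∀ u ∈ W, u ≠ 0 → ∃ v ∈ W, Cfsg.sympForm d F u v ≠ 0) ∧ W.map X ≤ W

theorem good_of {m : ℕ} {X : End F W₂} {W : Submodule F W₂} (hd : finrank F W = m) (hnd : (stdAlt d F).NdOn W)
    (hW : W.map X ≤ W) : Good m X :=
  ⟨W, hd, fun u hu hu0 => by simpa only [stdAlt_apply] using hnd u hu hu0, hW⟩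

theorem nd_of {W : Submodule F W₂} (h : ∀ u ∈ W, u ≠ 0 → ∃ v ∈ W, Cfsg.sympForm d F u v ≠ 0) :
    (stdAlt d F).NdOn W := fun u hu hu0 => by simpa only [stdAlt_apply] using h u hu hu0

theorem nd_top : (stdAlt d F).NdOn (⊤ : Submodule F W₂) := fun w _ hw => by
  by_contra hc
  push Not at hc
  exact hw ((stdAlt d F).nondeg w fun y => by rw [(stdAlt d F).skew, hc y Submodule.mem_top, neg_zero])

theorem finrank_top' : finrank F (⊤ : Submodule F W₂) = 2 * d := by
  rw [finrank_top, Module.finrank_fintype_fun_eq_card, Fintype.card_sum, Fintype.card_fin, two_mul]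

theorem toLin_iso {A : Matrix (Fin d ⊕ Fin d) (Fin d ⊕ Fin d) F} (hA : A ∈ Matrix.symplecticGroup (Fin d) F)
    (u v : W₂) : (stdAlt d F).B (Matrix.toLin' A u) (Matrix.toLin' A v) = (stdAlt d F).B u v := by
  rw [stdAlt_apply, stdAlt_apply, Matrix.toLin'_apply, Matrix.toLin'_apply]
  exact Cfsg.Agent.Lib.Geometry.mem_symplecticGroup_iff_form.1 hA u v

theorem good_scalar {m : ℕ} (hme : Even m) (hmd : m ≤ 2 * d) (a : F) : Good m (a • (1 : End F W₂)) := by
  obtain ⟨h, rfl⟩ := hme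
  obtain ⟨W, -, hW, hWd⟩ := IsoDecomp.exists_even_sub (stdAlt d F) h nd_top (by rw [finrank_top']; omega)
  refine good_of (by omega) hW ?_
  rintro _ ⟨w, hw, rfl⟩
  exact W.smul_mem a hw

theorem good_smul {m : ℕ} {X : End F W₂} {a : F} (ha : a ≠ 0) (h : Good m (a • X)) : Good m X := by
  obtain ⟨W, h1, h2, h3⟩ := h
  exact ⟨W, h1, h2, by rwa [Submodule.map_smul _ _ _ ha] at h3⟩

section Blocks

variable {X : Module.End F (Fin d ⊕ Fin d → F)}

theorem plane_of {U : Submodule F W₂} {z : F} (hXX : ∀ v, X (X v) = z • v) (hU : (stdAlt d F).NdOn U)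
    (hUi : U.map X ≤ U) {v : W₂} (hv : v ∈ U) (hne : (stdAlt d F).B v (X v) ≠ 0) :
    ∃ L ≤ U, (stdAlt d F).NdOn L ∧ L.map X ≤ L ∧ finrank F L = 2 := by
  set f := stdAlt d F
  have hw : (f.B v (X v))⁻¹ • X v ∈ U := U.smul_mem _ (hUi (Submodule.mem_map_of_mem hv))
  have hvw : f.B v ((f.B v (X v))⁻¹ • X v) = 1 := by rw [map_smul, smul_eq_mul, inv_mul_cancel₀ hne]
  obtain ⟨-, -, -, r4, -⟩ := InvBlocks.rest_spec f hU hv hw hvw
  refine ⟨_, sup_le ((Submodule.span_singleton_le_iff_mem _ _).2 hv) ((Submodule.span_singleton_le_iff_mem _ _).2 hw), r4,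
    ?_, InvBlocks.pair_dim f hvw⟩
  rw [Submodule.map_sup, Submodule.map_span, Submodule.map_span, Set.image_singleton, Set.image_singleton]
  refine sup_le ((Submodule.span_singleton_le_iff_mem _ _).2 ?_) ((Submodule.span_singleton_le_iff_mem _ _).2 ?_)
  · exact Submodule.mem_sup_right (Submodule.mem_span_singleton.2 ⟨f.B v (X v), by
      rw [smul_smul, mul_inv_cancel₀ hne, one_smul]⟩)
  · rw [map_smul, hXX, smul_smul]
    exact Submodule.mem_sup_left (Submodule.smul_mem _ _ (Submodule.mem_span_singleton_self v))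

theorem plane (h2 : (2 : F) ≠ 0) {z : F} (hz : z = 1 ∨ z = -1) (hXX : ∀ v, X (X v) = z • v)
    (hiso : ∀ u v, (stdAlt d F).B (X u) (X v) = (stdAlt d F).B u v) {U : Submodule F W₂} (hU : (stdAlt d F).NdOn U)
    (hUi : U.map X ≤ U) (hne : U ≠ ⊥) :
    ∃ L ≤ U, (stdAlt d F).NdOn L ∧ L.map X ≤ L ∧ finrank F L = 2 := by
  set f := stdAlt d F
  by_cases hex : ∃ v ∈ U, f.B v (X v) ≠ 0
  · obtain ⟨v, hv, h⟩ := hex
    exact plane_of hXX hU hUi hv h
  push Not at hex
  have hXU : ∀ v ∈ U, X v ∈ U := fun v hv => hUi (Submodule.mem_map_of_mem hv)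
  rcases hz with rfl | rfl
  swap
  · exfalso
    obtain ⟨a, ha, ha0⟩ := (Submodule.ne_bot_iff U).1 hne
    obtain ⟨x, hx, hax⟩ := hU a ha ha0
    have hw : -(X x) ∈ U := U.neg_mem (hXU x hx)
    have e1 := hex (a + -(X x)) (U.add_mem ha hw)
    have e2 : f.B a (X (-(X x))) = f.B a x := by rw [map_neg, hXX, neg_smul, one_smul, neg_neg]
    have e3 : f.B (-(X x)) (X a) = f.B a x := by
      rw [map_neg, LinearMap.neg_apply, hiso, f.skew x a, neg_neg]
    simp only [map_add, LinearMap.add_apply, hex a ha, hex _ hw, e2, e3] at e1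
    exact hax ((mul_eq_zero.1 (show (2 : F) * f.B a x = 0 by linear_combination e1)).resolve_left h2)
  obtain ⟨e, he, u, hu, hu0, hXu⟩ : ∃ e : F, e * e = 1 ∧ ∃ u ∈ U, u ≠ 0 ∧ X u = e • u := by
    obtain ⟨v, hv, hv0⟩ := (Submodule.ne_bot_iff U).1 hne
    by_cases h : v + X v = 0
    · refine ⟨-1, by ring, v, hv, hv0, ?_⟩
      rw [neg_smul, one_smul]
      exact eq_neg_of_add_eq_zero_right h
    · exact ⟨1, one_mul 1, v + X v, U.add_mem hv (hXU v hv), h, by rw [map_add, hXX, one_smul, one_smul, add_comm]⟩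
  obtain ⟨w, hw, huw⟩ := hU u hu hu0
  have hXw : f.B u (X w) = e * f.B u w := by
    have h := hiso u w
    rw [hXu, map_smul, LinearMap.smul_apply, smul_eq_mul] at h
    rw [← h, ← mul_assoc, he, one_mul]
  set w' := (2 * f.B u w)⁻¹ • (w + e • X w) with hw'
  have h1 : f.B u w' = 1 := by
    rw [hw', map_smul, map_add, map_smul, smul_eq_mul, smul_eq_mul, hXw, ← mul_assoc e, he, one_mul, ← two_mul,
      inv_mul_cancel₀ (mul_ne_zero h2 huw)]
  have h2' : X w' = e • w' := by
    rw [hw', map_smul, map_add, map_smul, hXX, one_smul, smul_comm e, smul_add e, smul_smul e e, he, one_smul, add_comm]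
  have hw'U : w' ∈ U := U.smul_mem _ (U.add_mem hw (U.smul_mem _ (hXU w hw)))
  obtain ⟨-, -, -, r4, -⟩ := InvBlocks.rest_spec f hU hu hw'U h1
  refine ⟨_, sup_le ((Submodule.span_singleton_le_iff_mem _ _).2 hu) ((Submodule.span_singleton_le_iff_mem _ _).2 hw'U), r4,
    ?_, InvBlocks.pair_dim f h1⟩
  rw [Submodule.map_sup, Submodule.map_span, Submodule.map_span, Set.image_singleton, Set.image_singleton]
  refine sup_le ((Submodule.span_singleton_le_iff_mem _ _).2 ?_) ((Submodule.span_singleton_le_iff_mem _ _).2 ?_)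
  · rw [hXu]; exact Submodule.mem_sup_left (Submodule.smul_mem _ _ (Submodule.mem_span_singleton_self u))
  · rw [h2']; exact Submodule.mem_sup_right (Submodule.smul_mem _ _ (Submodule.mem_span_singleton_self w'))

theorem good_two (h2 : (2 : F) ≠ 0) {z : F} (hz : z = 1 ∨ z = -1) (hX : X ^ 2 = z • 1)
    (hiso : ∀ u v, (stdAlt d F).B (X u) (X v) = (stdAlt d F).B u v) {m : ℕ} (hme : Even m) (hmd : m ≤ 2 * d) : Good m X := by
  have hXX : ∀ v, X (X v) = z • v := fun v => by
    have h := LinearMap.congr_fun hX v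
    rwa [pow_two, End.mul_apply] at h
  have hX4 : X ^ 4 = 1 := by
    rw [show 4 = 2 * 2 from rfl, pow_mul, hX, _root_.smul_pow, one_pow]
    rcases hz with rfl | rfl <;> simp
  have main : ∀ (h : ℕ) {U : Submodule F W₂}, (stdAlt d F).NdOn U → U.map X ≤ U → 2 * h ≤ finrank F U →
      ∃ L ≤ U, (stdAlt d F).NdOn L ∧ L.map X ≤ L ∧ finrank F L = 2 * h := by
    intro h
    induction h with
    | zero => exact fun _ _ _ => ⟨⊥, bot_le, IsoDecomp.nd_bot _, by simp, by rw [finrank_bot]⟩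
    | succ h ih =>
      intro U hU hUi hle
      obtain ⟨L, hLU, hL, hLi, hLd⟩ := plane h2 hz hXX hiso hU hUi (fun e => by rw [e, finrank_bot] at hle; omega)
      obtain ⟨-, hR, hdim⟩ := IsoDecomp.split_off _ hU hL hLU
      obtain ⟨W, hW, hWn, hWi, hWd⟩ := ih hR
        (IsoDecomp.inf_inv hUi (IsoDecomp.perp_inv _ hX4 (by norm_num) hiso hLi)) (by omega)
      obtain ⟨g1, g2⟩ := IsoDecomp.nd_sup _ hL hWn (hW.trans inf_le_right)
      exact ⟨L ⊔ W, sup_le hLU (hW.trans inf_le_left), g1, IsoDecomp.sup_inv hLi hWi, by omega⟩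
  obtain ⟨h, rfl⟩ := hme
  obtain ⟨L, -, hL, hLi, hLd⟩ := main h nd_top le_top (by rw [finrank_top']; omega)
  exact good_of (by omega) hL hLi

variable [CharP F 2]

/-- Steps for involutions in characteristic two. -/
theorem char_two_step (hX : X ^ 2 = 1) (hiso : ∀ u v, (stdAlt d F).B (X u) (X v) = (stdAlt d F).B u v)
    {U : Submodule F W₂} (hU : (stdAlt d F).NdOn U) (hUi : U.map X ≤ U) (hne : U ≠ ⊥) :
    ∃ L ≤ U, (stdAlt d F).NdOn L ∧ L.map X ≤ L ∧ (finrank F L = 2 ∨
      (finrank F L = 4 ∧ finrank F (L.map (X - 1)) = 2)) ∧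
      ((∀ v ∈ U, (stdAlt d F).B v (X v) = 0) → (∃ v ∈ U, (X - 1) v ≠ 0) → finrank F (L.map (X - 1)) = 2 ∧ finrank F L = 4) := by
  set f := stdAlt d F
  have hXX : ∀ v, X (X v) = (1 : F) • v := fun v => by
    have h := LinearMap.congr_fun hX v
    rw [pow_two, End.mul_apply] at h
    rw [h, one_smul]; rfl
  by_cases hex : ∃ v ∈ U, f.B v (X v) ≠ 0
  · obtain ⟨v, hv, h⟩ := hex
    obtain ⟨L, h1, h2, h3, h4⟩ := plane_of hXX hU hUi hv h
    exact ⟨L, h1, h2, h3, Or.inl h4, fun h0 => absurd (h0 v hv) h⟩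
  push Not at hex
  by_cases hT : ∃ v ∈ U, (X - 1) v ≠ 0
  · obtain ⟨u, hu, hu'⟩ := hT
    obtain ⟨v, hv, huv⟩ := hU _ (UnipotentSymp.sub_inv hUi (Submodule.mem_map_of_mem hu)) hu'
    have ha : ∀ v ∈ U, ((X - 1 : End F W₂) ^ 2) v = 0 := fun v _ => by rw [UnipotentSymp.nil_of_pow hX]; rfl
    have hz : ∀ w ∈ U, f.B (((X - 1 : End F W₂) ^ (2 - 1)) w) w = 0 := fun w hw => by
      rw [pow_one, LinearMap.sub_apply, End.one_apply, map_sub, LinearMap.sub_apply, f.skew, hex w hw, f.alt]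
      ring
    have huv' : f.B (((X - 1 : End F W₂) ^ (2 - 1)) u) v ≠ 0 := by rwa [pow_one]
    have hvu : f.B (((X - 1 : End F W₂) ^ (2 - 1)) v) u ≠ 0 := by
      rw [UnipotentSymp.top_symm f hiso ha two_pos hu hv, neg_one_sq, one_mul]; exact huv'
    obtain ⟨h1, h2⟩ := UnipotentSymp.span_two f huv' hvu (hz u hu) (hz v hv)
    obtain ⟨L, hLU, hL, hLi, hLk⟩ := UnipotentSymp.exists_block f hiso hUi ha
      (sup_le ((Submodule.span_singleton_le_iff_mem _ _).2 hu) ((Submodule.span_singleton_le_iff_mem _ _).2 hv)) h1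
    have e0 := hLk 0
    have e1 := hLk 1
    rw [pow_zero, End.one_eq_id, Submodule.map_id, h2] at e0
    rw [pow_one, h2] at e1
    exact ⟨L, hLU, hL, hLi, Or.inr ⟨by omega, by omega⟩, fun _ _ => ⟨by omega, by omega⟩⟩
  · push Not at hT
    obtain ⟨a, ha, b, hb, hab⟩ := f.exists_pair hU hne
    obtain ⟨-, -, -, r4, -⟩ := InvBlocks.rest_spec f hU ha hb hab
    have hLU : (F ∙ a) ⊔ (F ∙ b) ≤ U :=
      sup_le ((Submodule.span_singleton_le_iff_mem _ _).2 ha) ((Submodule.span_singleton_le_iff_mem _ _).2 hb)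
    refine ⟨_, hLU, r4, IsoDecomp.fixed_inv (fun v hv => IsoDecomp.mem_fixed.2 ?_),
      Or.inl (InvBlocks.pair_dim f hab), fun _ ⟨v, hv, hv'⟩ => absurd (hT v hv) hv'⟩
    have h := hT v (hLU hv)
    rwa [LinearMap.sub_apply, End.one_apply, sub_eq_zero] at h

theorem exists_char_two (hX : X ^ 2 = 1) (hiso : ∀ u v, (stdAlt d F).B (X u) (X v) = (stdAlt d F).B u v) :
    ∀ (N : ℕ) {U : Submodule F W₂}, finrank F U = N → (stdAlt d F).NdOn U → U.map X ≤ U → ∀ m, Even m → m ≤ N →
      (m % 4 = 0 ∨ N % 4 = 2) → ∃ W ≤ U, (stdAlt d F).NdOn W ∧ W.map X ≤ W ∧ finrank F W = m := by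
  intro N
  induction N using Nat.strong_induction_on with
  | _ N ih =>
  intro U hN hU hUi m hme hmN hcond
  rcases Nat.eq_zero_or_pos m with rfl | hm0
  · exact ⟨⊥, bot_le, IsoDecomp.nd_bot _, by simp, finrank_bot F W₂⟩
  obtain ⟨L, hLU, hL, hLi, hLd, -⟩ := char_two_step hX hiso hU hUi (fun e => by rw [e, finrank_bot] at hN; omega)
  obtain ⟨-, hR, hdim⟩ := IsoDecomp.split_off _ hU hL hLU
  have hRi := IsoDecomp.inf_inv hUi (IsoDecomp.perp_inv _ hX two_pos hiso hLi)
  obtain ⟨e, he⟩ := hme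
  obtain ⟨g, hg⟩ := SympInvolConj.even_finrank (stdAlt d F) hU
  have keep : ∀ {W}, W ≤ U ⊓ (stdAlt d F).perp L → (stdAlt d F).NdOn W ∧ W.map X ≤ W → finrank F W + finrank F L = m →
      ∃ W ≤ U, (stdAlt d F).NdOn W ∧ W.map X ≤ W ∧ finrank F W = m := fun {W} hW h hd => by
    obtain ⟨g1, g2⟩ := IsoDecomp.nd_sup _ hL h.1 (hW.trans inf_le_right)
    exact ⟨L ⊔ W, sup_le hLU (hW.trans inf_le_left), g1, IsoDecomp.sup_inv hLi h.2, by omega⟩
  rcases hLd with hLd | ⟨hLd, -⟩
  · by_cases hcase : m % 4 = 0 ∧ N % 4 = 2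
    · obtain ⟨W, hW, h⟩ := ih _ (by omega) rfl hR hRi m ⟨e, he⟩ (by omega) (Or.inl hcase.1)
      exact ⟨W, hW.trans inf_le_left, h⟩
    · obtain ⟨W, hW, h1, h2, h3⟩ := ih _ (by omega) rfl hR hRi (m - 2) ⟨e - 1, by omega⟩ (by omega) (by omega)
      exact keep hW ⟨h1, h2⟩ (by omega)
  · by_cases hm4 : 4 ≤ m
    · obtain ⟨W, hW, h1, h2, h3⟩ := ih _ (by omega) rfl hR hRi (m - 4) ⟨e - 2, by omega⟩ (by omega) (by omega)
      exact keep hW ⟨h1, h2⟩ (by omega)
    · obtain ⟨W, hW, h⟩ := ih _ (by omega) rfl hR hRi m ⟨e, he⟩ (by omega) (by omega)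
      exact ⟨W, hW.trans inf_le_left, h⟩

theorem rank_half (hX : X ^ 2 = 1) {U : Submodule F W₂} (hUi : U.map X ≤ U) :
    2 * finrank F (U.map (X - 1)) ≤ finrank F U := by
  have h := ((X - 1).domRestrict U).finrank_range_add_finrank_ker
  rw [LinearMap.range_domRestrict] at h
  have hle : (U.map (X - 1)).comap U.subtype ≤ LinearMap.ker ((X - 1).domRestrict U) := by
    rintro v ⟨w, -, hw⟩
    show (X - 1) (v : W₂) = 0
    rw [show (v : W₂) = (X - 1) w from hw.symm, ← End.mul_apply, ← pow_two, UnipotentSymp.nil_of_pow hX]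
    rfl
  have h1 := Submodule.finrank_mono hle
  rw [(Submodule.comapSubtypeEquivOfLe (UnipotentSymp.sub_inv hUi)).finrank_eq] at h1
  omega

theorem four_dvd (hX : X ^ 2 = 1) (hiso : ∀ u v, (stdAlt d F).B (X u) (X v) = (stdAlt d F).B u v)
    (hq : ∀ v, (stdAlt d F).B v (X v) = 0) :
    ∀ (N : ℕ) {U : Submodule F W₂}, finrank F U = N → (stdAlt d F).NdOn U → U.map X ≤ U →
      2 * finrank F (U.map (X - 1)) = N → 4 ∣ N := by
  intro N
  induction N using Nat.strong_induction_on with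
  | _ N ih =>
  intro U hN hU hUi hrk
  rcases Nat.eq_zero_or_pos N with rfl | hN0
  · exact dvd_zero 4
  have hne : U ≠ ⊥ := fun e => by rw [e, finrank_bot] at hN; omega
  have hT : ∃ v ∈ U, (X - 1) v ≠ 0 := by
    by_contra hc
    push Not at hc
    have : U.map (X - 1) = ⊥ := by
      rw [eq_bot_iff]; rintro _ ⟨v, hv, rfl⟩; exact (Submodule.mem_bot F).2 (hc v hv)
    rw [this, finrank_bot] at hrk
    omega
  obtain ⟨L, hLU, hL, hLi, -, hLd⟩ := char_two_step hX hiso hU hUi hne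
  obtain ⟨hL1, hL2⟩ := hLd (fun v _ => hq v) hT
  obtain ⟨hsup, hR, hdim⟩ := IsoDecomp.split_off _ hU hL hLU
  have hRi := IsoDecomp.inf_inv hUi (IsoDecomp.perp_inv _ hX two_pos hiso hLi)
  have hadd := UnipotentSymp.map_add_dim hsup (UnipotentSymp.inf_perp _ hL U) hLi hRi 1
  rw [pow_one] at hadd
  have := ih _ (by omega) rfl hR hRi (by omega)
  omega

end Blocks

/-- An involution in characteristic two all of whose blocks are alternating. -/
theorem exists_alternating [CharP F 2] {e : ℕ} (he : d = e + e) :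
    ∃ x ∈ Matrix.symplecticGroup (Fin d) F, Matrix.toLin' x ^ 2 = 1 ∧
      (∀ v : W₂, (stdAlt d F).B v (Matrix.toLin' x v) = 0) ∧
      finrank F ((⊤ : Submodule F W₂).map (Matrix.toLin' x - 1)) = d := by
  subst he
  let E : (Fin e ⊕ Fin e) ≃ Fin (e + e) := finSumFinEquiv
  let π : Fin (e + e) → Fin (e + e) := fun j => E (Sum.swap (E.symm j))
  have hπ : ∀ j, π (π j) = j := fun j => by simp [π]
  have hπne : ∀ j, π j ≠ j := fun j h => by
    have h1 : Sum.swap (E.symm j) = E.symm j := by simpa [π] using congrArg E.symm h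
    rcases hj : E.symm j with a | a <;> simp [hj] at h1
  let S : Matrix (Fin (e + e)) (Fin (e + e)) F := Matrix.of fun i j => if j = π i then 1 else 0
  have hSv : ∀ (b : Fin (e + e) → F) i, S.mulVec b i = b (π i) := fun b i => by
    simp [S, Matrix.mulVec, dotProduct]
  have hSS : S * S = 1 := by
    ext i j
    simp only [S, Matrix.mul_apply, Matrix.of_apply, ite_mul, one_mul, zero_mul, Finset.sum_ite_eq', Finset.mem_univ,
      if_true, hπ, Matrix.one_apply]
    simp [eq_comm]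
  have hST : S.transpose = S := by
    ext i j
    simp only [S, Matrix.transpose_apply, Matrix.of_apply]
    refine if_congr ⟨fun h => ?_, fun h => ?_⟩ rfl rfl <;> rw [h, hπ]
  have h2 : (2 : F) = 0 := CharTwo.two_eq_zero
  let x : Matrix (Fin (e + e) ⊕ Fin (e + e)) (Fin (e + e) ⊕ Fin (e + e)) F := Matrix.fromBlocks 1 S 0 1
  have hx2 : x * x = 1 := by
    simp only [x, Matrix.fromBlocks_multiply, mul_zero, zero_mul, add_zero, zero_add, one_mul, mul_one]
    rw [show S + S = 0 by ext i j; exact CharTwo.add_self_eq_zero _, Matrix.fromBlocks_one]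
  have happ : ∀ v : Fin (e + e) ⊕ Fin (e + e) → F, Matrix.toLin' x v =
      Sum.elim (fun j => v (Sum.inl j) + v (Sum.inr (π j))) (fun j => v (Sum.inr j)) := fun v => by
    rw [Matrix.toLin'_apply]
    simp only [x, Matrix.fromBlocks_mulVec, Matrix.one_mulVec, Matrix.zero_mulVec, zero_add]
    funext y
    rcases y with y | y <;> simp [hSv]
  have hsum : ∀ b : Fin (e + e) → F, ∑ j, b j * b (π j) = 0 := fun b =>
    Finset.sum_involution (fun j _ => π j) (fun j _ => by rw [hπ, mul_comm (b (π j))]; exact CharTwo.add_self_eq_zero _)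
      (fun j _ _ => hπne j) (fun j _ => Finset.mem_univ _) (fun j _ => hπ j)
  refine ⟨x, ?_, ?_, fun v => ?_, ?_⟩
  · rw [SymplecticGroup.mem_iff', Matrix.J, Matrix.fromBlocks_transpose, Matrix.fromBlocks_multiply,
      Matrix.fromBlocks_multiply]
    simp [hST]
  · rw [← Matrix.toLin'_pow, pow_two, hx2, Matrix.toLin'_one]; rfl
  · rw [stdAlt_apply, Lib.Geometry.sympForm_eq_sum, happ]
    simp only [Sum.elim_inl, Sum.elim_inr]
    have := hsum fun j => v (Sum.inr j)
    rw [← this]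
    refine Finset.sum_congr rfl fun j _ => ?_
    ring

  · let ι' : (Fin (e + e) → F) →ₗ[F] (Fin (e + e) ⊕ Fin (e + e) → F) :=
      { toFun := fun b => Sum.elim b 0
        map_add' := fun a b => by funext y; rcases y <;> simp
        map_smul' := fun c b => by funext y; rcases y <;> simp }
    have hrange : (⊤ : Submodule F (Fin (e + e) ⊕ Fin (e + e) → F)).map (Matrix.toLin' x - 1) = LinearMap.range ι' := by
      refine le_antisymm ?_ ?_
      · rintro _ ⟨v, -, rfl⟩
        refine ⟨fun j => v (Sum.inr (π j)), ?_⟩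
        rw [LinearMap.sub_apply, happ, End.one_apply]
        funext y; rcases y with y | y <;> simp [ι']
      · rintro _ ⟨b, rfl⟩
        refine ⟨Sum.elim 0 (fun j => b (π j)), Submodule.mem_top, ?_⟩
        rw [LinearMap.sub_apply, happ, End.one_apply]
        funext y; rcases y with y | y <;> simp [ι', hπ]
    rw [hrange, LinearMap.finrank_range_of_inj (fun a b h => funext fun j => congrFun h (Sum.inl j)),
      Module.finrank_fintype_fun_eq_card, Fintype.card_fin]

/-- A unipotent element with given block sizes. -/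
theorem exists_unipotent {p : ℕ} [Fact p.Prime] [CharP F p] {μ : Multiset ℕ} (hμ : ∀ a ∈ μ, 0 < a ∧ a ≤ p)
    (hpar : UnipotentSymp.EvenOdd μ) (hsum : μ.sum = 2 * d) :
    ∃ x ∈ Matrix.symplecticGroup (Fin d) F, x ^ p = 1 ∧
      ∀ k, finrank F ((⊤ : Submodule F W₂).map ((Matrix.toLin' x - 1) ^ k)) = (μ.map fun b => b - k).sum := by
  let l := μ.toList
  let dd : Fin l.length → ℕ := fun k => l.get k
  have hμd : Finset.univ.val.map dd = μ := by
    rw [Fin.univ_val_map, show List.ofFn dd = l from List.ofFn_get l]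
    exact Multiset.coe_toList μ
  have hmem : ∀ k, 0 < dd k ∧ dd k ≤ p := fun k => hμ _ (Multiset.mem_toList.1 (List.get_mem l k))
  have hsum' : ∀ g : ℕ → ℕ, ∑ k, g (dd k) = (μ.map g).sum := fun g => by
    conv_rhs => rw [← hμd, Multiset.map_map]
    rfl
  have hm : Lib.Similar.JordanForms.AltModel F dd Finset.univ :=
    Lib.Similar.JordanForms.glue (Lib.Similar.JordanForms.AltModel F dd) (fun j => Even j) dd
      (Lib.Similar.JordanForms.AltModel.empty dd) (fun S S' hd a b => a.union hd b)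
      (fun k hk => by
        refine .single k ?_
        obtain ⟨c, hc⟩ := hk
        rw [show dd k = 2 * c by omega]
        exact Lib.Similar.JordanForms.altBlock_even (by have := (hmem k).1; omega))
      (fun k k' hne hdd => .pair hne hdd (hmem k).1) Finset.univ
      (fun j hj => by
        have h := hpar j (Nat.not_even_iff_odd.1 hj)
        rw [← hμd, Multiset.count_map] at h
        rw [← Finset.filter_val, Finset.card_val] at h
        convert h using 3
        simp [eq_comm])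
  obtain ⟨A, b, hb⟩ := Lib.Similar.JordanForms.exists_symp_model hm (by
    rw [← hsum]; simpa using hsum' id)
  have hrk : ∀ k, finrank F (LinearMap.range ((Matrix.toLin' (A : Matrix (Fin d ⊕ Fin d) (Fin d ⊕ Fin d) F) - 1) ^ k)) =
      (μ.map fun b => b - k).sum := fun k => by
    rw [Lib.Similar.JordanChains.finrank_range_pow hb k]; exact hsum' fun b => b - k
  refine ⟨A, A.2, ?_, fun k => by rw [Submodule.map_top]; exact hrk k⟩
  have h0 := hrk p
  rw [Multiset.sum_eq_zero (fun b hb => by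
    obtain ⟨a, ha, rfl⟩ := Multiset.mem_map.1 hb; have := (hμ a ha).2; omega), Submodule.finrank_eq_zero,
    LinearMap.range_eq_bot] at h0
  have h1 : ((Polynomial.X : Polynomial F) - 1) ^ p = Polynomial.X ^ p - 1 := by rw [sub_pow_char, one_pow]
  have h2 := congrArg (Polynomial.aeval (Matrix.toLin' (A : Matrix (Fin d ⊕ Fin d) (Fin d ⊕ Fin d) F))) h1
  simp only [map_sub, map_pow, Polynomial.aeval_X, map_one, h0] at h2
  apply Matrix.toLin'.injective
  rw [Matrix.toLin'_pow, Matrix.toLin'_one]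
  exact (sub_eq_zero.1 h2.symm)

theorem count_bound [Fintype F] {p : ℕ} [Fact p.Prime] [CharP F p] {r : ℕ} [hr : Fact r.Prime] (hrp : r ≠ p) {i h : ℕ}
    (hi : orderOf ((Fintype.card F : ℕ) : ZMod r) = i) (hle : 2 * h ≤ 2 * d % IsoDecomp.step i)
    (hd : r ∣ Nat.card (NdCount.Sub (stdAlt d F) (⊤ : Submodule F W₂) h)) : False := by
  have hrq : ¬ r ∣ Fintype.card F := fun e => by
    obtain ⟨g, -, hcard⟩ := FiniteField.card F p
    rw [hcard] at e
    exact hrp ((Nat.prime_dvd_prime_iff_eq hr.out Fact.out).1 (hr.out.dvd_of_dvd_pow e))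
  obtain ⟨l, hl, hl'⟩ := NdCount.exists_dvd (stdAlt d F) hr.out hrq nd_top hd
  rw [finrank_top'] at hl'
  have hdvd : i ∣ 2 * (d - l) := by
    rw [← hi, orderOf_dvd_iff_pow_eq_one, show 2 * (d - l) = 2 * d - 2 * l by omega, ← sub_eq_zero, ← Nat.cast_pow,
      ← Nat.cast_one (R := ZMod r), ← Nat.cast_sub (Nat.one_le_pow _ _ Fintype.card_pos), ZMod.natCast_eq_zero_iff]
    exact hl'
  have hc : IsoDecomp.step i ∣ 2 * (d - l) := by
    rw [IsoDecomp.step]
    split_ifs with hev
    · exact hdvd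
    · exact Nat.mul_dvd_mul_left 2 ((Nat.Coprime.dvd_mul_left (Nat.coprime_two_right.2 (Nat.not_even_iff_odd.1 hev))).1 hdvd)
  obtain ⟨b, hb⟩ := hc
  have hi0 : 0 < i := hi ▸ PrimeElemFlags.order_pos rfl hrp
  have hc0 : 0 < IsoDecomp.step i := by rw [IsoDecomp.step]; split_ifs <;> omega
  have h1 : b ≤ 2 * d / IsoDecomp.step i := (Nat.le_div_iff_mul_le hc0).2 (by rw [mul_comm, ← hb]; omega)
  have h2 := Nat.mul_le_mul_left (IsoDecomp.step i) h1
  have h3 := Nat.div_add_mod (2 * d) (IsoDecomp.step i)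
  omega

/-- Elements of prime order of PSp_n(q) with no fixed nondegenerate `m`-space. Here `T = PSp_n(q)` with `n = 2d ≥ 4`, `(n, q) ≠ (4, 2)`, realised through the symplectic matrices over the field `F` with `q` elements (preserving the standard alternating form); an element of `T` of prime order `r` is such a matrix `x` with `x^r` scalar and `x` not scalar. For `r ≠ p` let `i` be the multiplicative order of `q` modulo `r`, `c = i` for `i` even and `c = 2i` for `i` odd, and write `k = n mod c`, `ℓ = m mod i`, `ℓ' = m mod c`, `n' = ⌊n/i⌋`, `m' = ⌊m/i⌋`, `t = (r−1)/i`. Let `m` be even with `2 ≤ m < n/2` and let `r` be a prime dividing the number of nondegenerate `m`-spaces. Then every element of `T` of order `r` fixes a nondegenerate `m`-space if and only if one of: (i) `r = p > 2` and every partition of `n` into parts of size at most `p` in which every odd part has even multiplicity contains (as a sub-multiset) a partition of `m` in which every odd part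 has even multiplicity; (ii) `r = p = 2` and (`n ≡ 2 (mod 4)` or `m ≡ 0 (mod 4)`); (iii) `r = 2 ≠ p`; (iv) `r ≠ p`, `r > 2`, `c ≤ m` and `k ≥ ℓ'`. -/
theorem result {F : Type*} [Field F] [Fintype F] {p : ℕ} [Fact p.Prime] [CharP F p] {q : ℕ} (hq : Fintype.card F = q)
    (d m : ℕ) (hd : 2 ≤ d) (hT : (d, q) ≠ (2, 2)) (hm : 2 ≤ m) (hme : Even m) (hmd : m < d)
    (r : ℕ) [Fact r.Prime]
    (hrΩ : r ∣ Nat.card {W : Submodule F (Fin d ⊕ Fin d → F) // Module.finrank F ↥W = m ∧ (∀ u ∈ W, u ≠ 0 → ∃ v ∈ W, Cfsg.sympForm d F u v ≠ 0)})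
    (i c : ℕ) (hi : i = orderOf (q : ZMod r)) (hc : c = if Even i then i else 2 * i) :
    (∀ x : ↥(Matrix.symplecticGroup (Fin d) F),
      (∃ z : F, ((x ^ r : ↥(Matrix.symplecticGroup (Fin d) F)) : Matrix (Fin d ⊕ Fin d) (Fin d ⊕ Fin d) F) = z • (1 : Matrix (Fin d ⊕ Fin d) (Fin d ⊕ Fin d) F)) →
      (∀ z : F, (x : Matrix (Fin d ⊕ Fin d) (Fin d ⊕ Fin d) F) ≠ z • (1 : Matrix (Fin d ⊕ Fin d) (Fin d ⊕ Fin d) F)) →
      ∃ W : Submodule F (Fin d ⊕ Fin d → F), Module.finrank F ↥W = m ∧ (∀ u ∈ W, u ≠ 0 → ∃ v ∈ W, Cfsg.sympForm d F u v ≠ 0) ∧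
        W.map (Matrix.toLin' (x : Matrix (Fin d ⊕ Fin d) (Fin d ⊕ Fin d) F)) ≤ W) ↔
    ((r = p ∧ 2 < p ∧ (∀ μ : Multiset ℕ, (∀ a ∈ μ, 0 < a ∧ a ≤ p) → (∀ a : ℕ, Odd a → Even (μ.count a)) → μ.sum = 2 * d →
        ∃ ν : Multiset ℕ, ν ≤ μ ∧ ν.sum = m ∧ ∀ a : ℕ, Odd a → Even (ν.count a))) ∨
     (r = p ∧ p = 2 ∧ ((2 * d) % 4 = 2 ∨ m % 4 = 0)) ∨
     (r = 2 ∧ p ≠ 2) ∨
     (r ≠ p ∧ 2 < r ∧ c ≤ m ∧ m % c ≤ (2 * d) % c)) := by
  classical
  subst hq
  obtain rfl : c = IsoDecomp.step i := hc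
  have hi' : orderOf ((Fintype.card F : ℕ) : ZMod r) = i := hi.symm
  set f := stdAlt d F
  have hrp2 := (Fact.out : r.Prime).two_le
  have hm2d : m ≤ 2 * d := by omega
  -- normalisation
  have hsc : ∀ x : ↥(Matrix.symplecticGroup (Fin d) F), ∀ z : F,
      ((x ^ r : ↥(Matrix.symplecticGroup (Fin d) F)) : Matrix (Fin d ⊕ Fin d) (Fin d ⊕ Fin d) F) = z • (1 : Matrix (Fin d ⊕ Fin d) (Fin d ⊕ Fin d) F) →
      Matrix.toLin' (x : Matrix (Fin d ⊕ Fin d) (Fin d ⊕ Fin d) F) ^ r = z • 1 ∧ z * z = 1 := by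
    intro x z hz
    set X := Matrix.toLin' (x : Matrix (Fin d ⊕ Fin d) (Fin d ⊕ Fin d) F)
    have hXr : X ^ r = z • 1 := by
      rw [SubmonoidClass.coe_pow] at hz
      have := congrArg (Matrix.toLinAlgEquiv' (R := F) (n := Fin d ⊕ Fin d)) hz
      rw [map_pow, map_smul, map_one] at this
      exact this
    refine ⟨hXr, ?_⟩
    obtain ⟨u, hu, v, hv, huv⟩ := f.exists_pair (W := (⊤ : Submodule F (Fin d ⊕ Fin d → F))) nd_top
      (fun e => by
        have h2 := finrank_top' (F := F) (d := d)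
        rw [e, finrank_bot] at h2
        omega)
    have hpow : ∀ (k : ℕ) u v, f.B ((X ^ k) u) ((X ^ k) v) = f.B u v := fun k => by
      induction k with
      | zero => exact fun u v => rfl
      | succ k ih => intro u v; rw [pow_succ', End.mul_apply, End.mul_apply, toLin_iso x.2, ih]
    have h := hpow r u v
    rw [hXr, LinearMap.smul_apply, LinearMap.smul_apply, End.one_apply, End.one_apply, map_smul, map_smul,
      LinearMap.smul_apply, huv, smul_eq_mul, smul_eq_mul, mul_one] at h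
    exact h
  -- all elements with `x ^ r = 1` suffice
  have hred : (r ≠ 2 ∨ p = 2) → (∀ X : End F (Fin d ⊕ Fin d → F), X ^ r = 1 →
      (∀ u v, f.B (X u) (X v) = f.B u v) → Good m X) →
      ∀ x : ↥(Matrix.symplecticGroup (Fin d) F),
      (∃ z : F, ((x ^ r : ↥(Matrix.symplecticGroup (Fin d) F)) : Matrix (Fin d ⊕ Fin d) (Fin d ⊕ Fin d) F) = z • (1 : Matrix (Fin d ⊕ Fin d) (Fin d ⊕ Fin d) F)) →
      (∀ z : F, (x : Matrix (Fin d ⊕ Fin d) (Fin d ⊕ Fin d) F) ≠ z • (1 : Matrix (Fin d ⊕ Fin d) (Fin d ⊕ Fin d) F)) →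
      Good m (Matrix.toLin' (x : Matrix (Fin d ⊕ Fin d) (Fin d ⊕ Fin d) F)) := by
    intro hcase hgood x ⟨z, hz⟩ _
    obtain ⟨hXr, hzz⟩ := hsc x z hz
    have hz0 : z ≠ 0 := fun e => by rw [e, mul_zero] at hzz; exact zero_ne_one hzz
    have hzr : z ^ r * z = 1 := by
      rcases (Fact.out : r.Prime).eq_two_or_odd' with h2 | ⟨g, hg⟩
      · obtain rfl : p = 2 := hcase.resolve_left (by omega)
        have : z = 1 := by
          rcases mul_self_eq_one_iff.1 hzz with h | h
          · exact h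
          · rw [h, CharTwo.neg_eq]
        rw [this, one_pow, one_mul]
      · rw [hg, pow_succ, pow_mul, pow_two, hzz, one_pow, one_mul, hzz]
    refine good_smul hz0 (hgood _ (by rw [_root_.smul_pow, hXr, smul_smul, hzr, one_smul]) fun u v => ?_)
    rw [LinearMap.smul_apply, LinearMap.smul_apply, map_smul, map_smul, LinearMap.smul_apply, smul_eq_mul, smul_eq_mul,
      ← mul_assoc, hzz, one_mul]
    exact toLin_iso x.2 u v
  -- what the hypothesis says
  have hall : (∀ x : ↥(Matrix.symplecticGroup (Fin d) F),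
      (∃ z : F, ((x ^ r : ↥(Matrix.symplecticGroup (Fin d) F)) : Matrix (Fin d ⊕ Fin d) (Fin d ⊕ Fin d) F) = z • (1 : Matrix (Fin d ⊕ Fin d) (Fin d ⊕ Fin d) F)) →
      (∀ z : F, (x : Matrix (Fin d ⊕ Fin d) (Fin d ⊕ Fin d) F) ≠ z • (1 : Matrix (Fin d ⊕ Fin d) (Fin d ⊕ Fin d) F)) →
      ∃ W : Submodule F (Fin d ⊕ Fin d → F), Module.finrank F ↥W = m ∧ (∀ u ∈ W, u ≠ 0 → ∃ v ∈ W, Cfsg.sympForm d F u v ≠ 0) ∧
        W.map (Matrix.toLin' (x : Matrix (Fin d ⊕ Fin d) (Fin d ⊕ Fin d) F)) ≤ W) →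
      ∀ y ∈ Matrix.symplecticGroup (Fin d) F, y ^ r = 1 → Good m (Matrix.toLin' y) := by
    intro h y hy hyr
    by_cases hs : ∀ z : F, y ≠ z • (1 : Matrix (Fin d ⊕ Fin d) (Fin d ⊕ Fin d) F)
    · exact h ⟨y, hy⟩ ⟨1, by rw [one_smul, SubmonoidClass.coe_pow]; exact hyr⟩ hs
    · push Not at hs
      obtain ⟨z, rfl⟩ := hs
      rw [map_smul, Matrix.toLin'_one]
      exact good_scalar hme hm2d z
  by_cases hrp : r = p
  · subst hrp
    by_cases h2 : r = 2
    · subst h2
      constructor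
      · intro h
        refine Or.inr (Or.inl ⟨rfl, rfl, ?_⟩)
        by_contra hc
        push Not at hc
        obtain ⟨e, he⟩ : Even d := ⟨d / 2, by omega⟩
        obtain ⟨x, hx, hx2, hq2, hrk⟩ := exists_alternating (F := F) (d := d) (e := e) he
        have hxr : x ^ 2 = 1 := Matrix.toLin'.injective (by rw [Matrix.toLin'_pow, hx2, Matrix.toLin'_one]; rfl)
        obtain ⟨W, hWd, hWn, hWi⟩ := hall h x hx hxr
        set X := Matrix.toLin' x
        obtain ⟨hsup, hR, hdim⟩ := IsoDecomp.split_off f nd_top (nd_of hWn) le_top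
        rw [finrank_top', hWd] at hdim
        have hRi := IsoDecomp.inf_inv (X := X) (U := (⊤ : Submodule F (Fin d ⊕ Fin d → F))) le_top
          (IsoDecomp.perp_inv f hx2 two_pos (toLin_iso hx) hWi)
        have hadd := UnipotentSymp.map_add_dim hsup (UnipotentSymp.inf_perp f (nd_of hWn) ⊤) hWi hRi 1
        rw [pow_one] at hadd
        rw [hrk] at hadd
        have a1 := rank_half hx2 hWi
        have a2 := rank_half hx2 hRi
        have h4 := four_dvd hx2 (toLin_iso hx) hq2 m hWd (nd_of hWn) hWi (by omega)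
        have := hme.two_dvd
        omega
      · intro hRHS
        rcases hRHS with ⟨-, h, -⟩ | ⟨-, -, hcond⟩ | ⟨-, h⟩ | ⟨h, -⟩
        · omega
        · refine hred (Or.inr rfl) fun X hX hiso => ?_
          obtain ⟨W, -, hW, hWi, hWd⟩ := exists_char_two hX hiso (2 * d) finrank_top' nd_top le_top m hme hm2d
            hcond.symm
          exact good_of hWd hW hWi
        · exact absurd rfl h
        · exact absurd rfl h
    · have hp2 : 2 < r := by omega
      have h20 : (2 : F) ≠ 0 := by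
        intro h
        have h' : ((2 : ℕ) : F) = 0 := by exact_mod_cast h
        exact h2 ((Nat.prime_dvd_prime_iff_eq Fact.out Nat.prime_two).1 ((CharP.cast_eq_zero_iff F r 2).1 h'))
      constructor
      · intro h
        refine Or.inl ⟨rfl, hp2, fun μ hμ1 hμ2 hμ3 => ?_⟩
        obtain ⟨x, hx, hxr, hrk⟩ := exists_unipotent (F := F) (d := d) hμ1 hμ2 hμ3
        obtain ⟨W, hWd, hWn, hWi⟩ := hall h x hx hxr
        set X := Matrix.toLin' x
        have hX : X ^ r = 1 := SympPrimeElem.pow_toLin hxr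
        obtain ⟨hsup, hR, -⟩ := IsoDecomp.split_off f nd_top (nd_of hWn) le_top
        have hRi := IsoDecomp.inf_inv (X := X) (U := (⊤ : Submodule F (Fin d ⊕ Fin d → F))) le_top
          (IsoDecomp.perp_inv f hX (by omega) (toLin_iso hx) hWi)
        obtain ⟨ν, hν1, hν2, hν3, hν4, -⟩ := UnipotentSymp.exists_blocks f h20 hX (toLin_iso hx) _ rfl (nd_of hWn) hWi
        obtain ⟨ρ, hρ1, -, -, hρ4, -⟩ := UnipotentSymp.exists_blocks f h20 hX (toLin_iso hx) _ rfl hR hRi
        have hμ : μ = ν + ρ := by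
          refine UnipotentSymp.sizes_unique (fun a ha => (hμ1 a ha).1)
            (fun a ha => (Multiset.mem_add.1 ha).elim (fun h => (hν1 a h).1) (fun h => (hρ1 a h).1)) fun k => ?_
          rw [← hrk k, UnipotentSymp.map_add_dim hsup (UnipotentSymp.inf_perp f (nd_of hWn) ⊤) hWi hRi k, hν4, hρ4,
            Multiset.map_add, Multiset.sum_add]
        exact ⟨ν, hμ ▸ Multiset.le_add_right ν ρ, hν3.trans hWd, hν2⟩
      · intro hRHS
        rcases hRHS with ⟨-, -, hcond⟩ | ⟨-, h, -⟩ | ⟨h, -⟩ | ⟨h, -⟩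
        · refine hred (Or.inl h2) fun X hX hiso => ?_
          obtain ⟨μ, hμ1, hμ2, hμ3, -, hμ5⟩ := UnipotentSymp.exists_blocks f h20 hX hiso (2 * d) finrank_top' nd_top le_top
          obtain ⟨ν, hν, hνs, hνe⟩ := hcond μ hμ1 hμ2 hμ3
          obtain ⟨W, -, hW, hWi, hWd⟩ := hμ5 ν hν hνe
          exact good_of (hWd.trans hνs) hW hWi
        · exact absurd h h2
        · exact absurd h h2
        · exact absurd rfl h
  · by_cases h2 : r = 2
    · subst h2
      refine iff_of_true (fun x ⟨z, hz⟩ _ => ?_) (Or.inr (Or.inr (Or.inl ⟨rfl, Ne.symm hrp⟩)))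
      obtain ⟨hXr, hzz⟩ := hsc x z hz
      have h20 : (2 : F) ≠ 0 := by
        intro h
        have h' : ((2 : ℕ) : F) = 0 := by exact_mod_cast h
        exact hrp ((Nat.prime_dvd_prime_iff_eq Fact.out Nat.prime_two).1 ((CharP.cast_eq_zero_iff F p 2).1 h')).symm
      exact good_two h20 (mul_self_eq_one_iff.1 hzz) hXr (toLin_iso x.2) hme hm2d
    · have hr0 : (r : F) ≠ 0 := PrimeElemFlags.cast_ne_zero hrp
      have hi0 : 0 < i := hi' ▸ PrimeElemFlags.order_pos rfl hrp
      obtain ⟨c, hcdef⟩ : ∃ c, c = IsoDecomp.step i := ⟨_, rfl⟩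
      have hc0 : 0 < c := by rw [hcdef, IsoDecomp.step]; split_ifs <;> omega
      have hce : Even c := by
        rw [hcdef, IsoDecomp.step]
        split_ifs with he
        · exact he
        · exact even_two_mul i
      have hmod := Nat.mod_lt (2 * d) hc0
      have hdiv := Nat.div_add_mod (2 * d) c
      have hmm := Nat.div_add_mod m c
      rw [← hcdef]
      constructor
      · intro h
        refine Or.inr (Or.inr (Or.inr ⟨hrp, by omega, ?_⟩))
        obtain ⟨x, hx, hxr, hrk⟩ := IsoElem.exists_atoms (p := p) (F := F) hrp h2 hi' (d := d) (s := 2 * d / c)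
          (by rw [← hcdef]; omega)
        obtain ⟨W, hWd, hWn, hWi⟩ := hall h x hx hxr
        set X := Matrix.toLin' x
        have hX : X ^ r = 1 := SympPrimeElem.pow_toLin hxr
        have hfix : finrank F (IsoDecomp.fixed X) = 2 * d % c := by
          have h1 := SympPrimeElem.finrank_range_matrix x
          rw [hrk, Fintype.card_sum, Fintype.card_fin] at h1
          have h1' : IsoDecomp.step i * (2 * d / c) + finrank F (IsoDecomp.fixed X) = d + d := h1
          rw [← hcdef] at h1'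
          omega
        obtain ⟨-, hM⟩ := IsoDecomp.nd_parts f hr0 hX (toLin_iso hx) (nd_of hWn) hWi
        obtain ⟨⟨j, hj⟩, -⟩ := IsoDecomp.exists_sub f hrp h2 hi' hX (toLin_iso hx) _ rfl hM
          (IsoDecomp.inf_inv hWi IsoDecomp.moved_inv) inf_le_right
        have hsum := (IsoDecomp.decompose hr0 hX hWi).2
        have hle := Submodule.finrank_mono (inf_le_right : W ⊓ IsoDecomp.fixed X ≤ IsoDecomp.fixed X)
        rw [← hcdef] at hj
        rw [hj, hWd] at hsum
        rw [hfix] at hle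
        by_cases hcm : c ≤ m
        · refine ⟨hcm, ?_⟩
          have hg : m % c = finrank F (W ⊓ IsoDecomp.fixed X : Submodule F (Fin d ⊕ Fin d → F)) := by
            rw [← hsum, Nat.add_mul_mod_self_left, Nat.mod_eq_of_lt (by omega)]
          omega
        · exfalso
          have hj0 : j = 0 := by
            by_contra hj0
            have := Nat.le_mul_of_pos_right c (Nat.pos_of_ne_zero hj0)
            omega
          subst hj0
          obtain ⟨e, he⟩ := hme
          refine count_bound (d := d) (h := e) hrp hi' (by rw [← hcdef]; omega) (hrΩ.trans (dvd_of_eq ?_))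
          refine Nat.card_congr (Equiv.subtypeEquivRight fun W => ⟨fun hW => ⟨le_top, nd_of hW.2, by omega⟩,
            fun hW => ⟨by omega, fun u hu hu0 => by simpa only [stdAlt_apply] using hW.2.1 u hu hu0⟩⟩)
      · intro hRHS
        rcases hRHS with ⟨h, -⟩ | ⟨h, -⟩ | ⟨h, -⟩ | ⟨-, -, hcm, hk⟩
        · exact absurd h hrp
        · exact absurd h hrp
        · exact absurd h h2
        refine hred (Or.inl h2) fun X hX hiso => ?_
        obtain ⟨-, hM⟩ := IsoDecomp.nd_parts f hr0 hX hiso nd_top (le_top : (⊤ : Submodule F (Fin d ⊕ Fin d → F)).map X ≤ ⊤)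
        obtain ⟨⟨a, ha⟩, -⟩ := IsoDecomp.exists_sub f hrp h2 hi' hX hiso _ rfl hM
          (IsoDecomp.inf_inv le_top IsoDecomp.moved_inv) inf_le_right
        have hsum := (IsoDecomp.decompose hr0 hX (U := (⊤ : Submodule F (Fin d ⊕ Fin d → F))) le_top).2
        rw [finrank_top', ha, ← hcdef] at hsum
        obtain ⟨j, hj⟩ : ∃ j, j = min a (m / c) := ⟨_, rfl⟩
        obtain ⟨g, hg⟩ : ∃ g, g = m - c * j := ⟨_, rfl⟩
        have ha' : a ≤ 2 * d / c := (Nat.le_div_iff_mul_le hc0).2 (by rw [mul_comm]; omega)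
        have hjm : c * j ≤ c * (m / c) := Nat.mul_le_mul_left c (by omega)
        have hge : Even g := by
          rw [hg, Nat.even_sub (by omega)]
          exact iff_of_true hme (hce.mul_right j)
        obtain ⟨e, he⟩ := hge
        have hgf : g ≤ finrank F ((⊤ : Submodule F (Fin d ⊕ Fin d → F)) ⊓ IsoDecomp.fixed X : Submodule F (Fin d ⊕ Fin d → F)) := by
          rcases le_total a (m / c) with h | h
          · rw [hg, hj, min_eq_left h]; omega
          · have := Nat.mul_le_mul_left c ha'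
            rw [hg, hj, min_eq_right h]; omega
        obtain ⟨L, -, hL, hLi, hLd, -⟩ := IsoDecomp.exists_piece f hrp h2 hi' hX hiso nd_top le_top (h := e) (j := j)
          (by rw [ha]; exact Nat.mul_le_mul_left _ (by omega)) (by omega)
        exact good_of (by rw [hLd, ← hcdef]; omega) hL hLi

end Cfsg.Agent.S5956
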