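import Cfsg.Statements.S5957
import Cfsg.Agent.Lib.MaxSub.InvolutionBlocks

set_option autoImplicit false
open scoped MatrixGroups
open Cfsg

namespace Cfsg.Agent.S5957

open Cfsg.Agent.Lib.MaxSub Cfsg.Agent.Lib.MaxSub.InvBlocks

theorem toLin_sq {ι : Type} [Fintype ι] [DecidableEq ι] {F : Type*} [Field F] {A : Matrix ι ι F} {z : F}
    (h : A ^ 2 = z • (1 : Matrix ι ι F)) (v : ι → F) : Matrix.toLin' A (Matrix.toLin' A v) = z • v := by
  rw [Matrix.toLin'_apply, Matrix.toLin'_apply, Matrix.mulVec_mulVec, ← pow_two, h, Matrix.smul_mulVec,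
    Matrix.one_mulVec]


/-- Involutions of PSL_n(q) and imprimitive subgroups. Here `T = PSL_n(F)` for a field `F` with `q = p^f` elements (`n ≥ 2`, `(n, q) ≠ (2, 2), (2, 3)`), `n = a·t` with `t ≥ 2`, and Ω is the set of direct-sum decompositions of `F^n` into `t` subspaces of dimension `a` (unordered; their number is the number of ordered ones divided by `t!`), whose stabilizers are the imprimitive subgroups of type GL_a(q) ≀ S_t (maximal except in some small cases; maximality is not assumed); an element of `T` of prime order `r` (a matrix `x` of determinant 1 with `x^r` scalar, `x` not scalar) fixes a point of Ω when it permutes the summands of some such decomposition. If the number of such decompositions is even, then every involution of `T` stabilizes one of them (the action is 2-elusive). -/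
theorem result {F : Type*} [Field F] [Fintype F] {p : ℕ} [Fact p.Prime] [CharP F p] {q : ℕ} (hq : Fintype.card F = q)
    (n a t : ℕ) (hn : 2 ≤ n) (hT : (n, q) ≠ (2, 2) ∧ (n, q) ≠ (2, 3)) (hat : n = a * t) (ha : 1 ≤ a) (ht : 2 ≤ t)
    (hΩ : 2 ∣ Nat.card {D : Fin t → Submodule F (Fin n → F) // Cfsg.Geo.IsMDecomposition a D} / Nat.factorial t)
    (x : Matrix.SpecialLinearGroup (Fin n) F)
    (hx1 : ∃ z : F, ((x ^ 2 : Matrix.SpecialLinearGroup (Fin n) F) : Matrix (Fin n) (Fin n) F) = z • (1 : Matrix (Fin n) (Fin n) F))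
    (hx2 : ∀ z : F, (x : Matrix (Fin n) (Fin n) F) ≠ z • (1 : Matrix (Fin n) (Fin n) F)) :
    ∃ D : Fin t → Submodule F (Fin n → F), Cfsg.Geo.IsMDecomposition a D ∧
        ∃ σ : Equiv.Perm (Fin t), ∀ j, (D j).map (Matrix.toLin' (x : Matrix (Fin n) (Fin n) F)) = D (σ j) := by
  classical
  obtain ⟨z, hz⟩ := hx1
  have hz' : (x : Matrix (Fin n) (Fin n) F) ^ 2 = z • 1 := by rw [← Matrix.SpecialLinearGroup.coe_pow]; exact hz
  have hz0 : z ≠ 0 := by
    rintro rfl
    rw [zero_smul] at hz
    have h := congrArg Matrix.det hz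
    haveI : Nonempty (Fin n) := ⟨⟨0, by omega⟩⟩
    rw [Matrix.SpecialLinearGroup.det_coe, Matrix.det_zero] at h
    exact one_ne_zero h
  have hlin := toLin_sq hz'
  obtain ⟨𝓛, h𝓛⟩ := exists_lines _ hz0 hlin n ⊤
    (by rw [finrank_top, Module.finrank_fintype_fun_eq_card, Fintype.card_fin]) (fun v _ => Submodule.mem_top)
  have hinv : ∀ L ∈ 𝓛, (L.map (Matrix.toLin' (x : Matrix (Fin n) (Fin n) F))).map
      (Matrix.toLin' (x : Matrix (Fin n) (Fin n) F)) = L := by
    intro L _
    ext v
    simp only [Submodule.mem_map]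
    constructor
    · rintro ⟨_, ⟨w, hw, rfl⟩, rfl⟩
      rw [hlin]; exact L.smul_mem z hw
    · intro hv
      exact ⟨_, ⟨z⁻¹ • v, L.smul_mem _ hv, rfl⟩, by rw [hlin, smul_smul, mul_inv_cancel₀ hz0, one_smul]⟩
  obtain ⟨D, hD, hσ, -⟩ := exists_decomposition Nat.one_pos h𝓛 hinv a t ha ht
    (by rw [Fintype.card_fin, one_mul, hat])
  · rw [one_mul] at hD
    exact ⟨D, hD, hσ⟩

end Cfsg.Agent.S5957
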