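import Cfsg.Statements.S5958
import Cfsg.Agent.Lib.MaxSub.LinDecompBound
import Mathlib

set_option maxHeartbeats 1000000
set_option linter.unusedSectionVars false
-- import your own Cfsg.Agent.* helpers here

set_option autoImplicit false
open scoped MatrixGroups
open Cfsg

namespace Cfsg.Agent.S5958

open Module Polynomial Cfsg.Agent.Lib.MaxSub
open scoped _root_.Classical

variable {F : Type*} [Field F] {n : ℕ}

/-- `X` permutes the summands of some decomposition. -/
def Perm' (a t : ℕ) (X : End F (Fin n → F)) : Prop :=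
  ∃ D : Fin t → Submodule F (Fin n → F), Cfsg.Geo.IsMDecomposition a D ∧
    ∃ σ : Equiv.Perm (Fin t), ∀ j, (D j).map X = D (σ j)

theorem perm_smul {a t : ℕ} {X : End F (Fin n → F)} {w : F} (hw : w ≠ 0) (h : Perm' a t (w • X)) : Perm' a t X := by
  obtain ⟨D, hD, σ, hσ⟩ := h
  exact ⟨D, hD, σ, fun j => by rw [← hσ, Submodule.map_smul _ _ _ hw]⟩

theorem perm_of_invariant {a t : ℕ} (ht : 2 ≤ t) (ha : 0 < a) (hat : n = a * t) {X : End F (Fin n → F)}
    (hX : Function.Injective X) {D : Fin t → Submodule F (Fin n → F)} (hD : ∀ j, (D j).map X ≤ D j ∧ finrank F (D j) = a)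
    (htop : iSup D = ⊤) : Perm' a t X := by
  refine ⟨D, LinDecomp.good_of_sup ht ha (by rw [Fintype.card_fin, hat]) (fun j => (hD j).2.le) htop, 1, fun j => ?_⟩
  exact Submodule.eq_of_le_of_finrank_le (hD j).1 (Submodule.equivMapOfInjective X hX (D j)).finrank_eq.le

/-- Scalar powers which are not powers of a scalar. -/
theorem perm_nonpower {r : ℕ} [hr : Fact r.Prime] (hr0 : (r : F) ≠ 0) {a t : ℕ} (ht : 2 ≤ t) (ha : 0 < a) (hat : n = a * t) {X : End F (Fin n → F)}
    (hinj : Function.Injective X) {z : F} (hz : z ≠ 0) (hpow : ∀ w : F, w ^ r ≠ z) (hX : X ^ r = z • 1) :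
    Perm' a t X := by
  set P : F[X] := Polynomial.X ^ r - C z with hP
  have hirr : Irreducible P := X_pow_sub_C_irreducible_of_prime hr.out hpow
  have hsq : Squarefree P := PrimeElemFlags.sq hr0 hz
  have hm : P.Monic := monic_X_pow_sub_C z hr.out.ne_zero
  have hdeg : P.natDegree = r := natDegree_X_pow_sub_C
  have hy : aeval X P = 0 := PrimeElemFlags.aeval_eq_zero hX
  have hdiv : ∀ U : Submodule F (Fin n → F), U.map X ≤ U →
      r ∣ finrank F U ∧ ∀ b, r * b ≤ finrank F U → ∃ S : Submodule F (Fin n → F), S.map X ≤ S ∧ S ≤ U ∧ finrank F S = r * b :=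
    fun U hU => PrimeElem.uniform hsq hy P hsq.ne_zero (fun g hg hd => by
      rw [natDegree_eq_of_degree_eq (degree_eq_degree_of_associated (hg.associated_of_dvd hirr hd)), hdeg])
      _ U rfl hU (fun v _ => by rw [hy]; rfl)
  have htopd : finrank F (⊤ : Submodule F (Fin n → F)) = n := by rw [finrank_top, Module.finrank_fin_fun]
  have hrn : r ∣ n := htopd ▸ (hdiv ⊤ le_top).1
  by_cases hra : r ∣ a
  · obtain ⟨D, hD, hDs⟩ := LinDecomp.recurse (X := X) (a := a) (fun _ _ => True) (fun k U hU hUd _ => by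
      obtain ⟨b, hb⟩ := hra
      obtain ⟨L, hL, hLU, hLd⟩ := (hdiv U hU).2 b (by rw [hUd, ← hb, Nat.mul_succ]; omega)
      obtain ⟨C, hCU, hC, hsup, -, hdim⟩ := LinDecomp.split_in hsq hy hU hL hLU
      exact ⟨L, C, hLU, hCU, hL, hC, hsup, by rw [hLd, hb], by rw [hLd, ← hb, hUd, Nat.mul_succ] at hdim; omega, trivial⟩)
      t ⊤ le_top (by rw [htopd, hat]) trivial
    exact perm_of_invariant ht ha hat hinj hD hDs
  obtain ⟨m, hm'⟩ : r ∣ t := ((Nat.Prime.dvd_mul hr.out).1 (hat ▸ hrn)).resolve_left hra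
  obtain ⟨v, hv⟩ := LinDecomp.exists_generators hirr hm hy hdeg (m * a) ⊤ le_top (by rw [htopd, hat, hm']; ring)
  haveI : NeZero r := ⟨hr.out.ne_zero⟩
  let e : Fin t ≃ Fin m × Fin r := (finCongr (by rw [hm', mul_comm])).trans finProdFinEquiv.symm
  let w : Fin t → Fin a → (Fin n → F) := fun j i => (X ^ ((e j).2 : ℕ)) (v (finProdFinEquiv ((e j).1, i)))
  have hD := LinDecompBound.of_span (t := t) (a := a) ht ha (by rw [Fintype.card_fin, hat]) w (by
    rw [eq_top_iff, ← hv, Submodule.span_le]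
    rintro _ ⟨⟨k, j⟩, rfl⟩
    obtain ⟨⟨k₁, k₂⟩, rfl⟩ := finProdFinEquiv.surjective k
    refine Submodule.subset_span ⟨(e.symm (k₁, j), k₂), ?_⟩
    simp [w])
  let σ : Equiv.Perm (Fin t) := e.trans ((Equiv.prodCongr (Equiv.refl _) (Equiv.addRight (1 : Fin r))).trans e.symm)
  refine ⟨_, hD, σ, fun j => Submodule.eq_of_le_of_finrank_le ?_ ?_⟩
  · rw [Submodule.map_span, Submodule.span_le]
    rintro _ ⟨_, ⟨i, rfl⟩, rfl⟩
    have e1 : (e (σ j)).1 = (e j).1 ∧ (e (σ j)).2 = (e j).2 + 1 := by simp [σ]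
    have e2 : ((e (σ j)).2 : ℕ) = (((e j).2 : ℕ) + 1) % r := by
      rw [e1.2, Fin.val_add, Fin.val_one', Nat.add_mod_mod]
    rw [SetLike.mem_coe]
    show X ((X ^ ((e j).2 : ℕ)) (v (finProdFinEquiv ((e j).1, i)))) ∈ _
    rw [← End.mul_apply, ← pow_succ']
    rcases eq_or_lt_of_le (Nat.succ_le_of_lt (e j).2.2) with h | h
    · rw [show ((e j).2 : ℕ) + 1 = r from h, hX, LinearMap.smul_apply, End.one_apply]
      refine Submodule.smul_mem _ _ (Submodule.subset_span ⟨i, ?_⟩)
      simp only [w]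
      rw [e2, show ((e j).2 : ℕ) + 1 = r from h, Nat.mod_self, pow_zero, End.one_apply, e1.1]
    · refine Submodule.subset_span ⟨i, ?_⟩
      simp only [w]
      rw [e2, Nat.mod_eq_of_lt h, e1.1]
  · rw [hD.finrank_eq, ← (Submodule.equivMapOfInjective X hinj _).finrank_eq, hD.finrank_eq]

/-- Elements of odd prime order of PSL_n(q) and imprimitive subgroups. Here `T = PSL_n(F)` for a field `F` with `q = p^f` elements (`n ≥ 2`, `(n, q) ≠ (2, 2), (2, 3)`), `n = a·t` with `t ≥ 2`, and Ω is the set of direct-sum decompositions of `F^n` into `t` subspaces of dimension `a` (unordered; their number is the number of ordered ones divided by `t!`), whose stabilizers are the imprimitive subgroups of type GL_a(q) ≀ S_t (maximal except in some small cases; maximality is not assumed); an element of `T` of prime order `r` (a matrix `x` of determinant 1 with `x^r` scalar, `x` not scalar) fixes a point of Ω when it permutes the summands of some such decomposition. Let `r ≠ p` be an odd prime dividing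 the number of such decompositions, let `c` be the multiplicative order of `q` modulo `r`, and write `k = n mod c`, `ℓ = a mod c`. Then every element of `T` of order `r` stabilizes such a decomposition if and only if either `a = 1`, `c = r − 1 > 1` and `n ≤ k·r`, or `c ≤ a` and `k = t·ℓ`. -/
theorem result {F : Type*} [Field F] [Fintype F] {p : ℕ} [Fact p.Prime] [CharP F p] {q : ℕ} (hq : Fintype.card F = q)
    (n a t : ℕ) (hn : 2 ≤ n) (hT : (n, q) ≠ (2, 2) ∧ (n, q) ≠ (2, 3)) (hat : n = a * t) (ha : 1 ≤ a) (ht : 2 ≤ t)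
    (r : ℕ) [Fact r.Prime] (hr2 : r ≠ 2) (hrp : r ≠ p) (hΩ : r ∣ Nat.card {D : Fin t → Submodule F (Fin n → F) // Cfsg.Geo.IsMDecomposition a D} / Nat.factorial t)
    (c : ℕ) (hc : c = orderOf (q : ZMod r)) :
    (∀ x : Matrix.SpecialLinearGroup (Fin n) F,
      (∃ z : F, ((x ^ r : Matrix.SpecialLinearGroup (Fin n) F) : Matrix (Fin n) (Fin n) F) = z • (1 : Matrix (Fin n) (Fin n) F)) →
      (∀ z : F, (x : Matrix (Fin n) (Fin n) F) ≠ z • (1 : Matrix (Fin n) (Fin n) F)) →
      ∃ D : Fin t → Submodule F (Fin n → F), Cfsg.Geo.IsMDecomposition a D ∧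
        ∃ σ : Equiv.Perm (Fin t), ∀ j, (D j).map (Matrix.toLin' (x : Matrix (Fin n) (Fin n) F)) = D (σ j)) ↔
    ((a = 1 ∧ 1 < c ∧ c = r - 1 ∧ n ≤ (n % c) * r) ∨ (c ≤ a ∧ n % c = t * (a % c))) := by
  classical
  subst hq
  have hpr : r.Prime := Fact.out
  have hr0 : (r : F) ≠ 0 := PrimeElemFlags.cast_ne_zero hrp
  have hcd : orderOf ((Fintype.card F : ℕ) : ZMod r) = c := hc.symm
  have hc0 : 0 < c := hcd ▸ PrimeElemFlags.order_pos rfl hrp
  have hfr : finrank F (⊤ : Submodule F (Fin n → F)) = n := by rw [finrank_top, Module.finrank_fin_fun]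
  have hcard : Fintype.card (Fin n) = a * t := by rw [Fintype.card_fin, hat]
  obtain ⟨D₀, hD₀⟩ := LinDecompBound.exists_decomp (F := F) ht ha hcard
  have hdivmod := Nat.div_add_mod n c
  have hadivmod := Nat.div_add_mod a c
  have hkt : n = c * (t * (a / c)) + t * (a % c) := by
    rw [hat]; nth_rw 1 [← hadivmod]; ring
  have hPscal : ∀ b : F, (b • (1 : End F (Fin n → F)) = 0 ∨ Perm' a t (b • (1 : End F (Fin n → F)))) := fun b => by
    rcases eq_or_ne b 0 with rfl | hb
    · exact Or.inl (zero_smul _ _)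
    · exact Or.inr ⟨D₀, hD₀, 1, fun j => by rw [Submodule.map_smul _ _ _ hb]; exact Submodule.map_id _⟩
  have key := PrimeElemFlags.sl_iff (F := F) (n := n) (r := r) (fun X => X = 0 ∨ Perm' a t X) hPscal
  constructor
  · intro h
    have h' := key.1 (fun x hx hx' => Or.inr (h x hx hx'))
    rcases eq_or_ne c 1 with rfl | hc1
    · exact Or.inr ⟨ha, by simp [Nat.mod_one]⟩
    have hcn : c ≤ n := hcd ▸ LinDecompBound.order_le hrp (LinDecompBound.dvd_card ⟨⟨D₀, hD₀⟩⟩ hΩ)
    have hc' : c + 1 ≤ r := by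
      have h1 : orderOf ((Fintype.card F : ℕ) : ZMod r) ∣ r - 1 := by
        apply ZMod.orderOf_dvd_card_sub_one
        intro e
        have h2 : orderOf ((Fintype.card F : ℕ) : ZMod r) = 0 := by rw [e]; exact orderOf_zero (ZMod r)
        omega
      have := Nat.le_of_dvd (by have := hpr.two_le; omega) (hcd ▸ h1)
      have := hpr.two_le
      omega
    have test : ∀ s, c * s ≤ n → ∃ (X : End F (Fin n → F)) (D : Fin t → Submodule F (Fin n → F))
        (σ : Equiv.Perm (Fin t)), X ^ r = 1 ∧ Cfsg.Geo.IsMDecomposition a D ∧ (∀ j, (D j).map X = D (σ j)) ∧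
        finrank F (IsoDecomp.fixed X) = n - c * s ∧
        (c * s ≤ c * (t * (a / c)) ∨ (a ≤ n - c * s ∧ a * (r - 1) ≤ c * s)) := by
      intro s hs
      obtain ⟨X, hX, hdet, hfix⟩ := LinDecompBound.exists_element (F := F) hrp hcd hc1 hs
      obtain ⟨D, hD, σ, hσ⟩ := (h' X 1 (by rw [hX, one_smul]) hdet).resolve_left (fun e => by
        rw [e, zero_pow hpr.ne_zero] at hX
        haveI : Nonempty (Fin n) := ⟨⟨0, by omega⟩⟩
        exact zero_ne_one hX)
      refine ⟨X, D, σ, hX, hD, hσ, hfix, ?_⟩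
      have hsum := (IsoDecomp.decompose hr0 hX (U := ⊤) le_top).2
      rw [top_inf_eq, top_inf_eq, hfr, hfix] at hsum
      rcases LinDecompBound.bound hrp hcd hD hX hσ with hb | ⟨h1, h2⟩
      · left; omega
      · rw [hfix] at h1 h2
        rw [Fintype.card_fin] at h2
        exact Or.inr ⟨h1, by omega⟩
    have hS : c * (n / c) ≤ n := Nat.mul_div_le n c
    have hS1 : 0 < n / c := Nat.div_pos hcn hc0
    have hmodlt : n % c < c := Nat.mod_lt _ hc0
    obtain ⟨X, D, σ, hX, hD, hσ, hfix, hb⟩ := test (n / c) hS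
    by_cases hca : c ≤ a
    · refine Or.inr ⟨hca, ?_⟩
      rcases hb with hb | ⟨hb, -⟩
      · have h1 : n / c ≤ t * (a / c) := Nat.le_of_mul_le_mul_left hb hc0
        have h2 : c * (t * (a / c)) ≤ c * (n / c) :=
          Nat.mul_le_mul_left c ((Nat.le_div_iff_mul_le hc0).2 (by rw [mul_comm]; omega))
        omega
      · omega
    · have hac0 : a / c = 0 := Nat.div_eq_of_lt (by omega)
      rw [hac0, mul_zero, mul_zero] at hb
      obtain ⟨_, _, _, _, _, _, _, hb1⟩ := test 1 (by rwa [mul_one])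
      rw [mul_one, hac0, mul_zero, mul_zero] at hb1
      obtain ⟨-, hb1⟩ := hb1.resolve_left (by omega)
      have ha1 : a = 1 := by
        rcases Nat.lt_or_ge a 2 with h | h
        · omega
        · have : 2 * (r - 1) ≤ a * (r - 1) := Nat.mul_le_mul_right _ h
          omega
      subst ha1
      refine Or.inl ⟨rfl, by omega, by omega, ?_⟩
      have h1 := LinDecompBound.orbit_le hrp (by rw [hcd]; exact hc1) hD hX hσ
      rw [hfix, show n - c * (n / c) = n % c by omega, mul_comm] at h1
      omega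
  · intro h x hx hx'
    refine (key.2 ?_ x hx hx').resolve_left (fun e => ?_)
    swap
    · exact hx' 0 (by rw [zero_smul]; exact Matrix.toLin'.injective (by rw [e, map_zero]))
    intro y z hy hdet
    right
    have hz : z ≠ 0 := PrimeElemFlags.scalar_ne_zero (by omega) hpr.pos hy hdet
    have hinj : Function.Injective y := by
      have : IsUnit y := LinearMap.isUnit_iff_isUnit_det _ |>.2 (by rw [hdet]; exact isUnit_one)
      exact ((Module.End.isUnit_iff y).1 this).1
    by_cases hpow : ∃ w : F, w ^ r = z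
    swap
    · push Not at hpow
      exact perm_nonpower hr0 ht ha hat hinj hz hpow hy
    obtain ⟨w, hw⟩ := hpow
    have hw0 : w ≠ 0 := fun e => hz (by rw [← hw, e, zero_pow hpr.ne_zero])
    refine perm_smul (inv_ne_zero hw0) ?_
    have hX := PrimeElemFlags.root_scale hw0 hw hy
    set X := w⁻¹ • y with hXdef
    have hXinj : Function.Injective X := IsoDecomp.inj hX hpr.pos
    obtain ⟨⟨s, hs⟩, -⟩ := LinDecomp.moved_sub hrp hcd hX (U := IsoDecomp.moved X r) IsoDecomp.moved_inv le_rfl
    have hsum := (IsoDecomp.decompose hr0 hX (U := ⊤) le_top).2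
    rw [top_inf_eq, top_inf_eq, hfr, hs] at hsum
    have hsn : c * s ≤ c * (n / c) := Nat.mul_le_mul_left c ((Nat.le_div_iff_mul_le hc0).2 (by rw [mul_comm]; omega))
    rcases h with ⟨rfl, -, hcr, hnk⟩ | ⟨hca, hk⟩
    · rw [one_mul] at hat
      subst hat
      obtain ⟨𝓛, h1, h2, h3⟩ := LinDecomp.exists_lines hrp (hcd.trans hcr) hX n ⊤ hfr le_top (by
        rw [top_inf_eq, top_inf_eq, hs, ← hcr]
        have hf : n % c ≤ finrank F (IsoDecomp.fixed X) := by omega
        have h4 : n % c * r ≤ finrank F (IsoDecomp.fixed X) * r := Nat.mul_le_mul_right r hf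
        have h5 : c * finrank F (IsoDecomp.fixed X) + finrank F (IsoDecomp.fixed X) = finrank F (IsoDecomp.fixed X) * r := by
          rw [show r = c + 1 by have := hpr.two_le; omega]; ring
        omega)
      rw [mul_one, hfr] at h1
      let e : Fin n ≃ 𝓛 := (Fintype.equivFinOfCardEq (by rw [Fintype.card_coe]; exact h1)).symm
      let f : 𝓛 → 𝓛 := fun L => ⟨(L : Submodule F (Fin n → F)).map X, (h2 _ L.2).2.2⟩
      have hf : Function.Bijective f := Finite.injective_iff_bijective.1 fun L K hLK =>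
        Subtype.ext (Submodule.map_injective_of_injective hXinj (congrArg Subtype.val hLK))
      refine ⟨fun j => e j, LinDecomp.good_of_sup ht one_pos (by simp) (fun j => ((h2 _ (e j).2).2.1).le) ?_,
        (e.trans (Equiv.ofBijective f hf)).trans e.symm, fun j => ?_⟩
      · rw [eq_top_iff, ← h3]
        refine Finset.sup_le fun L hL => ?_
        exact le_trans (by rw [Equiv.apply_symm_apply]; exact le_rfl) (le_iSup (fun j => ((e j : 𝓛) : Submodule F (Fin n → F))) (e.symm ⟨L, hL⟩))
      · simp [f]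
    · obtain ⟨D, hD, hDs⟩ := LinDecomp.exists_invariant hrp hcd hca hX t ⊤ le_top (by rw [hfr, hat]) (by
        rw [top_inf_eq, hs]; omega)
      exact perm_of_invariant ht ha hat hXinj hD hDs

end Cfsg.Agent.S5958
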