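import Cfsg.Statements.S5960
import Cfsg.Agent.Lib.MaxSub.InvolutionBlocks

set_option autoImplicit false
open scoped MatrixGroups
open Cfsg

namespace Cfsg.Agent.S5960

open Cfsg.Agent.Lib.MaxSub Cfsg.Agent.Lib.MaxSub.InvBlocks

theorem toLin_sq {ι : Type} [Fintype ι] [DecidableEq ι] {F : Type*} [Field F] {A : Matrix ι ι F} {z : F}
    (h : A ^ 2 = z • (1 : Matrix ι ι F)) (v : ι → F) : Matrix.toLin' A (Matrix.toLin' A v) = z • v := by
  rw [Matrix.toLin'_apply, Matrix.toLin'_apply, Matrix.mulVec_mulVec, ← pow_two, h, Matrix.smul_mulVec,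
    Matrix.one_mulVec]

theorem symp_facts {F : Type*} [Field F] {d : ℕ} (x : ↥(Matrix.symplecticGroup (Fin d) F)) :
    ∀ u v, (stdAlt d F).B (Matrix.toLin' (x : Matrix (Fin d ⊕ Fin d) (Fin d ⊕ Fin d) F) u)
      (Matrix.toLin' (x : Matrix (Fin d ⊕ Fin d) (Fin d ⊕ Fin d) F) v) = (stdAlt d F).B u v := by
  intro u v
  rw [stdAlt_apply, stdAlt_apply, Matrix.toLin'_apply, Matrix.toLin'_apply]
  exact Cfsg.Agent.Lib.Geometry.mem_symplecticGroup_iff_form.1 x.2 u v

theorem nd_top {F : Type*} [Field F] {d : ℕ} :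
    (stdAlt d F).NdOn (⊤ : Submodule F (Fin d ⊕ Fin d → F)) := by
  intro a _ ha
  by_contra hc
  push Not at hc
  exact ha ((stdAlt d F).nondeg a fun y => by rw [(stdAlt d F).skew, hc y Submodule.mem_top, neg_zero])

theorem sq_one {F : Type*} [Field F] {d : ℕ} (hd : 1 ≤ d) {x : (Fin d ⊕ Fin d → F) →ₗ[F] (Fin d ⊕ Fin d → F)}
    {z : F} (hx : ∀ v, x (x v) = z • v) (hiso : ∀ u v, (stdAlt d F).B (x u) (x v) = (stdAlt d F).B u v) :
    z * z = 1 := by
  obtain ⟨u, -, v, -, huv⟩ := AltForm.exists_pair (stdAlt d F) (nd_top (d := d)) (by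
    intro h
    have := congrArg (fun S : Submodule F (Fin d ⊕ Fin d → F) => Module.finrank F S) h
    simp at this
    omega)
  have := hiso (x u) (x v)
  rw [hx, hx, hiso, huv] at this
  simp [huv] at this
  linear_combination this


/-- Involutions of PSp_n(q) and imprimitive subgroups. Here `T = PSp_n(q)`, `n = 2d ≥ 4`, `(n, q) ≠ (4, 2)`, realised through the symplectic matrices over the field `F` with `q` elements and the standard alternating form; `n = a·t` with `a` even and `t ≥ 2`, and Ω is the (nonempty) set of orthogonal decompositions of `F^n` into `t` nondegenerate subspaces of dimension `a` (unordered; counted as ordered ones divided by `t!`), whose stabilizers are the imprimitive subgroups of type Sp_a(q) ≀ S_t (maximality is not assumed); an element of `T` of prime order `r` (a symplectic matrix `x` with `x^r` scalar, `x` not scalar) fixes a point of Ω when it permutes the summands of some such decomposition. If the number of such decompositions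 is even, then every involution of `T` stabilizes one of them (the action is 2-elusive). -/
theorem result {F : Type*} [Field F] [Fintype F] {p : ℕ} [Fact p.Prime] [CharP F p] {q : ℕ} (hq : Fintype.card F = q)
    (d : ℕ) (hd : 2 ≤ d) (hT : (d, q) ≠ (2, 2))
    (a t : ℕ) (hat : 2 * d = a * t) (ha : 2 ≤ a) (hae : Even a) (ht : 2 ≤ t) (hΩ : 2 ∣ Nat.card {D : Fin t → Submodule F (Fin d ⊕ Fin d → F) // (Cfsg.Geo.IsMDecomposition a D ∧ (∀ j, ∀ u ∈ D j, u ≠ 0 → ∃ v ∈ D j, Cfsg.sympForm d F u v ≠ 0) ∧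
          (∀ j j', j ≠ j' → ∀ u ∈ D j, ∀ v ∈ D j', Cfsg.sympForm d F u v = 0))} / Nat.factorial t)
    (x : ↥(Matrix.symplecticGroup (Fin d) F))
    (hx1 : ∃ z : F, ((x ^ 2 : ↥(Matrix.symplecticGroup (Fin d) F)) : Matrix (Fin d ⊕ Fin d) (Fin d ⊕ Fin d) F) = z • (1 : Matrix (Fin d ⊕ Fin d) (Fin d ⊕ Fin d) F))
    (hx2 : ∀ z : F, (x : Matrix (Fin d ⊕ Fin d) (Fin d ⊕ Fin d) F) ≠ z • (1 : Matrix (Fin d ⊕ Fin d) (Fin d ⊕ Fin d) F)) :
    ∃ D : Fin t → Submodule F (Fin d ⊕ Fin d → F), (Cfsg.Geo.IsMDecomposition a D ∧ (∀ j, ∀ u ∈ D j, u ≠ 0 → ∃ v ∈ D j, Cfsg.sympForm d F u v ≠ 0) ∧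
          (∀ j j', j ≠ j' → ∀ u ∈ D j, ∀ v ∈ D j', Cfsg.sympForm d F u v = 0)) ∧
        ∃ σ : Equiv.Perm (Fin t), ∀ j, (D j).map (Matrix.toLin' (x : Matrix (Fin d ⊕ Fin d) (Fin d ⊕ Fin d) F)) = D (σ j) := by
  classical
  obtain ⟨z, hz⟩ := hx1
  have hz' : (x : Matrix (Fin d ⊕ Fin d) (Fin d ⊕ Fin d) F) ^ 2 = z • 1 := by rw [← SubmonoidClass.coe_pow]; exact hz
  have hlin := toLin_sq hz'
  have hiso := symp_facts x
  have hzz := sq_one (by omega) hlin hiso
  have hz0 : z ≠ 0 := left_ne_zero_of_mul (hzz ▸ one_ne_zero)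
  obtain ⟨h, rfl⟩ := hae
  obtain ⟨𝓛, h𝓛, -, horth⟩ := exists_planes (stdAlt d F) _ hz0 hlin hiso (d + d) ⊤
    (by rw [finrank_top, Module.finrank_fintype_fun_eq_card, Fintype.card_sum, Fintype.card_fin]) nd_top
    (fun v _ => Submodule.mem_top)
  have hinv : ∀ L ∈ 𝓛, (L.map (Matrix.toLin' (x : Matrix (Fin d ⊕ Fin d) (Fin d ⊕ Fin d) F))).map
      (Matrix.toLin' (x : Matrix (Fin d ⊕ Fin d) (Fin d ⊕ Fin d) F)) = L := by
    intro L _
    ext v
    simp only [Submodule.mem_map]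
    constructor
    · rintro ⟨_, ⟨w, hw, rfl⟩, rfl⟩
      rw [hlin]; exact L.smul_mem z hw
    · intro hv
      exact ⟨_, ⟨z⁻¹ • v, L.smul_mem _ hv, rfl⟩, by rw [hlin, smul_smul, mul_inv_cancel₀ hz0, one_smul]⟩
  obtain ⟨D, hD, hσ, A, hA, hAd, hDA⟩ := exists_decomposition Nat.two_pos h𝓛 hinv h t (by omega) ht
    (by rw [Fintype.card_sum, Fintype.card_fin, ← two_mul, hat]; ring)
  · have horthD : ∀ j j', j ≠ j' → ∀ u ∈ D j, ∀ v ∈ D j', Cfsg.sympForm d F u v = 0 := by
      intro j j' hne u hu v hv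
      rw [← stdAlt_apply]
      have e : D j' ≤ (stdAlt d F).perp (D j) := by
        rw [hDA j']
        refine Finset.sup_le fun L' hL' => ?_
        intro b hb a ha
        have e2 : D j ≤ (stdAlt d F).perp L' := by
          rw [hDA j]
          refine Finset.sup_le fun L hL => ?_
          intro a' ha' b' hb'
          exact horth L' (hA j' hL') L (hA j hL) (fun e => Finset.disjoint_left.1 (hAd j j' hne) hL (e ▸ hL')) b' hb' a' ha'
        exact (stdAlt d F).mem_perp' (e2 ha) hb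
      exact e hv u hu
    refine ⟨D, ⟨by rwa [← two_mul], fun j u hu hu0 => ?_, horthD⟩, hσ⟩
    by_contra hc
    push Not at hc
    apply hu0
    have e : (⊤ : Submodule F (Fin d ⊕ Fin d → F)) ≤ (stdAlt d F).perp (F ∙ u) := by
      rw [← hD.iSup_eq_top]
      refine iSup_le fun i => ?_
      intro v hv w hw
      obtain ⟨r, rfl⟩ := Submodule.mem_span_singleton.1 hw
      have h0 : (stdAlt d F).B u v = 0 := by
        rw [stdAlt_apply]
        by_cases hij : i = j
        · exact hc v (hij ▸ hv)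
        · exact horthD j i (Ne.symm hij) u hu v hv
      simp [h0]
    exact (stdAlt d F).nondeg u fun y => by
      rw [(stdAlt d F).skew, e (Submodule.mem_top (x := y)) u (Submodule.mem_span_singleton_self u), neg_zero]

end Cfsg.Agent.S5960
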