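import Cfsg.Statements.S5961
import Cfsg.Agent.Lib.MaxSub.IsoDecomp
import Cfsg.Agent.Lib.MaxSub.IsoElem
import Cfsg.Agent.Lib.MaxSub.DecompAux
import Cfsg.Agent.Lib.Geometry.SympBasic
import Mathlib

set_option maxHeartbeats 1000000
set_option linter.unusedSectionVars false

set_option autoImplicit false
open scoped MatrixGroups
open Cfsg

namespace Cfsg.Agent.S5961

open Module Matrix Cfsg.Agent.Lib.MaxSub
open scoped _root_.Classical

variable {F : Type*} [Field F] {d : ℕ}

local notation "W₂" => Fin d ⊕ Fin d → F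

/-- Orthogonal decompositions into non-degenerate pieces. -/
def Good {t : ℕ} (a : ℕ) (D : Fin t → Submodule F W₂) : Prop :=
  Cfsg.Geo.IsMDecomposition a D ∧ (∀ j, ∀ u ∈ D j, u ≠ 0 → ∃ v ∈ D j, Cfsg.sympForm d F u v ≠ 0) ∧
    (∀ j j', j ≠ j' → ∀ u ∈ D j, ∀ v ∈ D j', Cfsg.sympForm d F u v = 0)

theorem Good.orth {t a : ℕ} {D : Fin t → Submodule F W₂} (h : Good a D) : (stdAlt d F).OrthDecomp D :=
  ⟨h.1.iSup_eq_top, fun i u hu hu0 => by simpa [stdAlt_apply] using h.2.1 i u hu hu0,
    fun i j hij u hu v hv => by rw [stdAlt_apply]; exact h.2.2 i j hij u hu v hv⟩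

theorem Good.injective {t a : ℕ} {D : Fin t → Submodule F W₂} (h : Good a D) : Function.Injective D :=
  h.1.indep.injective fun i e => by
    have h1 := h.1.finrank_eq i
    rw [e, finrank_bot] at h1
    exact h.1.pos.ne h1

/-- Orthogonal pieces give a decomposition. -/
theorem good_of_pieces {t a : ℕ} (ht : 2 ≤ t) (ha : 0 < a) {D : Fin t → Submodule F W₂}
    (hd : ∀ j, (stdAlt d F).NdOn (D j) ∧ finrank F (D j) = a) (ho : ∀ j k, j ≠ k → D j ≤ (stdAlt d F).perp (D k))
    (htop : iSup D = ⊤) : Good a D := by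
  refine ⟨⟨ht, ha, fun j => (hd j).2, fun j => ?_, htop⟩,
    fun j u hu hu0 => by simpa [stdAlt_apply] using (hd j).1 u hu hu0, fun j k hjk u hu v hv => ?_⟩
  · rw [Submodule.disjoint_def]
    intro v hv hv'
    by_contra h0
    obtain ⟨x, hx, hvx⟩ := (hd j).1 v hv h0
    have hle : (⨆ (k) (_ : k ≠ j), D k) ≤ (stdAlt d F).perp (D j) := iSup₂_le fun k hk => ho k j hk
    exact hvx ((stdAlt d F).mem_perp' (hle hv') hx)
  · rw [← stdAlt_apply]
    exact ho k j (Ne.symm hjk) hv u hu

theorem toLin_iso {A : Matrix (Fin d ⊕ Fin d) (Fin d ⊕ Fin d) F} (hA : A ∈ Matrix.symplecticGroup (Fin d) F)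
    (u v : W₂) : (stdAlt d F).B (Matrix.toLin' A u) (Matrix.toLin' A v) = (stdAlt d F).B u v := by
  rw [stdAlt_apply, stdAlt_apply, Matrix.toLin'_apply, Matrix.toLin'_apply]
  exact Cfsg.Agent.Lib.Geometry.mem_symplecticGroup_iff_form.1 hA u v

theorem good_map {t a : ℕ} {D : Fin t → Submodule F W₂} (h : Good a D) {g : W₂ →ₗ[F] W₂}
    (hg : ∀ u v, (stdAlt d F).B (g u) (g v) = (stdAlt d F).B u v) : Good a (fun j => (D j).map g) := by
  have hb := SympInvolConj.bijective_of_iso (stdAlt d F) hg
  refine good_of_pieces h.1.two_le h.1.pos (fun j => ⟨?_, ?_⟩) (fun j k hjk => ?_) ?_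
  · rintro _ ⟨u, hu, rfl⟩ hu0
    obtain ⟨x, hx, hux⟩ := h.orth.nd j u hu fun e => hu0 (by rw [e, map_zero])
    exact ⟨g x, Submodule.mem_map_of_mem hx, by rwa [hg]⟩
  · rw [← (Submodule.equivMapOfInjective g hb.1 (D j)).finrank_eq]
    exact h.1.finrank_eq j
  · rintro _ ⟨u, hu, rfl⟩ _ ⟨w, hw, rfl⟩
    rw [hg]
    exact h.orth.orth k j (Ne.symm hjk) w hw u hu
  · rw [← Submodule.map_iSup, h.1.iSup_eq_top, Submodule.map_top, LinearMap.range_eq_top.2 hb.2]

/-- The number of decompositions divides the group order. -/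
theorem dvd_card [Fintype F] {t a r : ℕ} (hne : Nonempty {D : Fin t → Submodule F W₂ // Good a D}) (hΩ : r ∣ Nat.card {D : Fin t → Submodule F W₂ // Good a D} / Nat.factorial t) :
    r ∣ Nat.card (Cfsg.spGL d F) := by
  let Ω := {D : Fin t → Submodule F W₂ // Good a D}
  have hperm : Nat.factorial t ∣ Nat.card Ω := by
    letI : MulAction (Equiv.Perm (Fin t)) Ω :=
      { smul := fun σ D => ⟨fun j => D.1 (σ.symm j), good_of_pieces D.2.1.two_le D.2.1.pos
          (fun j => ⟨D.2.orth.nd _, D.2.1.finrank_eq _⟩)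
          (fun j k hjk u hu w hw => D.2.orth.orth _ _ (fun e => hjk (σ.symm.injective e.symm)) w hw u hu)
          (by rw [Equiv.iSup_comp (g := D.1) σ.symm]; exact D.2.1.iSup_eq_top)⟩
        one_smul := fun D => rfl
        mul_smul := fun σ τ D => rfl }
    have hfree : ∀ D : Ω, MulAction.stabilizer (Equiv.Perm (Fin t)) D = ⊥ := fun D => by
      rw [Subgroup.eq_bot_iff_forall]
      intro σ hσ
      have h1 := congrArg Subtype.val (MulAction.mem_stabilizer_iff.1 hσ)
      ext j
      have h2 : D.1 (σ.symm (σ j)) = D.1 (σ j) := congrFun h1 (σ j)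
      rw [Equiv.symm_apply_apply] at h2
      simp [← D.2.injective h2]
    rw [Nat.card_congr (MulAction.selfEquivOrbitsQuotientProd hfree), Nat.card_prod, Nat.card_perm, Nat.card_fin]
    exact dvd_mul_left _ _
  refine (hΩ.trans (Nat.div_dvd_of_dvd hperm)).trans ?_
  let H := Cfsg.spGL d F
  have hmem : ∀ g : H, ∀ u v, (stdAlt d F).B (Matrix.toLin' ((g : GL (Fin d ⊕ Fin d) F) : Matrix _ _ F) u)
      (Matrix.toLin' ((g : GL (Fin d ⊕ Fin d) F) : Matrix _ _ F) v) = (stdAlt d F).B u v := fun g =>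
    toLin_iso (SympPrimeElem.mem_spGL_iff_mat.1 g.2)
  letI : MulAction H Ω :=
    { smul := fun g D => ⟨fun j => (D.1 j).map (Matrix.toLin' ((g : GL (Fin d ⊕ Fin d) F) : Matrix _ _ F)), good_map D.2 (hmem g)⟩
      one_smul := fun D => Subtype.ext (funext fun j => by
        show (D.1 j).map (Matrix.toLin' ((1 : GL (Fin d ⊕ Fin d) F) : Matrix _ _ F)) = D.1 j
        rw [Units.val_one, Matrix.toLin'_one, Submodule.map_id])
      mul_smul := fun g k D => Subtype.ext (funext fun j => by
        show (D.1 j).map (Matrix.toLin' ((g * k : H) : GL (Fin d ⊕ Fin d) F).1) = ((D.1 j).map _).map _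
        rw [← Submodule.map_comp, Subgroup.coe_mul, Units.val_mul, Matrix.toLin'_mul]) }
  haveI : MulAction.IsPretransitive H Ω := by
    constructor
    rintro ⟨D, hD⟩ ⟨D', hD'⟩
    choose φ hφm hφi using fun j => (stdAlt d F).exists_isometry (D j) (D' j) (hD.orth.nd j) (hD'.orth.nd j)
      (by rw [hD.1.finrank_eq, hD'.1.finrank_eq])
    obtain ⟨pr, hpr, hsum, hprj⟩ := hD.orth.exists_proj
    let Φ : W₂ →ₗ[F] W₂ := ∑ j, φ j ∘ₗ pr j
    have hΦ : ∀ v, Φ v = ∑ j, φ j (pr j v) := fun v => by simp [Φ]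
    have hΦi : ∀ u v, (stdAlt d F).B (Φ u) (Φ v) = (stdAlt d F).B u v := fun u v => by
      rw [hΦ, hΦ, hD'.orth.B_sum (fun j => hφm j _ (hpr j u)) (fun j => hφm j _ (hpr j v))]
      conv_rhs => rw [← hsum u, ← hsum v, hD.orth.B_sum (fun j => hpr j u) (fun j => hpr j v)]
      exact Finset.sum_congr rfl fun j _ => hφi j _ (hpr j u) _ (hpr j v)
    obtain ⟨g, hg, hgΦ⟩ := SympPrimeElem.exists_gl_of_mem (X := LinearMap.toMatrix' Φ)
      (Cfsg.Agent.Lib.Geometry.mem_symplecticGroup_iff_form.2 fun u v => by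
        rw [← stdAlt_apply, ← stdAlt_apply, LinearMap.toMatrix'_mulVec, LinearMap.toMatrix'_mulVec, hΦi])
    refine ⟨⟨g, hg⟩, Subtype.ext (funext fun j => ?_)⟩
    show (D j).map (Matrix.toLin' (g : Matrix _ _ F)) = D' j
    rw [hgΦ, Matrix.toLin'_toMatrix']
    refine Submodule.eq_of_le_of_finrank_le ?_ ?_
    · rintro _ ⟨u, hu, rfl⟩
      rw [hΦ, Finset.sum_eq_single j (fun k _ hk => by rw [hprj j k u hu, if_neg hk, map_zero])
        (fun h => absurd (Finset.mem_univ j) h), hprj j j u hu, if_pos rfl]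
      exact hφm j u hu
    · rw [← (Submodule.equivMapOfInjective Φ (SympInvolConj.bijective_of_iso _ hΦi).1 (D j)).finrank_eq,
        hD.1.finrank_eq, hD'.1.finrank_eq]
  obtain ⟨D₀⟩ := hne
  rw [← MulAction.index_stabilizer_of_transitive H D₀]
  exact Subgroup.index_dvd_card _

variable {r : ℕ} [hr : Fact r.Prime]

/-- A permuted decomposition bounds the fixed or the moved space. -/
theorem bound [Fintype F] {p : ℕ} [Fact p.Prime] [CharP F p] (hrp : r ≠ p) (hr2 : r ≠ 2) {i : ℕ}
    (hi : orderOf ((Fintype.card F : ℕ) : ZMod r) = i) {t a : ℕ} {D : Fin t → Submodule F W₂} (hD : Good a D)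
    {X : Module.End F W₂} (hX : X ^ r = 1)
    (hiso : ∀ u v, (stdAlt d F).B (X u) (X v) = (stdAlt d F).B u v) {σ : Equiv.Perm (Fin t)}
    (hσ : ∀ j, (D j).map X = D (σ j)) :
    finrank F (IsoDecomp.moved X r) ≤ IsoDecomp.step i * (t * (a / IsoDecomp.step i)) ∨
      (a ≤ finrank F (IsoDecomp.fixed X) ∧ finrank F (IsoDecomp.fixed X) + a * (r - 1) ≤ 2 * d) := by
  have hr0 : (r : F) ≠ 0 := PrimeElemFlags.cast_ne_zero hrp
  obtain ⟨pr, hpr, hsum, hprj⟩ := hD.orth.exists_proj
  have hcomm : ∀ (l : Fin t) v, pr (σ l) (X v) = X (pr l v) := fun l v => by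
    conv_lhs => rw [← hsum v, map_sum X]
    rw [map_sum, Finset.sum_eq_single l (fun k _ hk => ?_) (fun h => absurd (Finset.mem_univ l) h),
      hprj (σ l) (σ l) _ (hσ l ▸ Submodule.mem_map_of_mem (hpr l v)), if_pos rfl]
    rw [hprj (σ k) (σ l) _ (hσ k ▸ Submodule.mem_map_of_mem (hpr k v)), if_neg (fun e => hk (σ.injective e).symm)]
  have hpow : ∀ (k : ℕ) l, (D l).map (X ^ k) = D ((σ ^ k) l) := fun k => by
    induction k with
    | zero => intro l; exact Submodule.map_id _
    | succ k ih => intro l; rw [pow_succ', Module.End.mul_eq_comp, Submodule.map_comp, ih, hσ, pow_succ', Equiv.Perm.mul_apply]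
  have hσr : ∀ l, (σ ^ r) l = l := fun l => hD.injective (by rw [← hpow, hX]; exact Submodule.map_id _)
  by_cases h1 : ∀ l, σ l = l
  · left
    set c := IsoDecomp.step i
    have hinv : ∀ l, (D l).map X ≤ D l := fun l => by rw [hσ, h1]
    have hle : IsoDecomp.moved X r ≤ Finset.univ.sup fun l => D l ⊓ IsoDecomp.moved X r := fun v hv => by
      rw [← hsum v]
      refine Submodule.sum_mem _ fun l hl => Finset.le_sup (f := fun l => D l ⊓ IsoDecomp.moved X r) hl ⟨hpr l v, ?_⟩
      have hpoly : ∀ Q : Polynomial F, ∀ v, pr l (Polynomial.aeval X Q v) = Polynomial.aeval X Q (pr l v) := fun Q => by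
        induction Q using Polynomial.induction_on with
        | C b => intro v; simp [Algebra.algebraMap_eq_smul_one]
        | add A B hA hB => intro v; simp only [map_add, LinearMap.add_apply, hA, hB]
        | monomial j b ih =>
          intro v
          have e := hcomm l v
          rw [h1] at e
          rw [pow_succ, ← mul_assoc, map_mul, Polynomial.aeval_X, Module.End.mul_apply, Module.End.mul_apply, ih, e]
      show Polynomial.aeval X (Polynomial.cyclotomic r F) (pr l v) = 0
      rw [← hpoly, show Polynomial.aeval X (Polynomial.cyclotomic r F) v = 0 from hv, map_zero]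
    refine (Submodule.finrank_mono hle).trans ((InvBlocks.finrank_finset_sup_le _ _).trans ?_)
    refine (Finset.sum_le_card_nsmul _ _ (c * (a / c)) fun l _ => ?_).trans (le_of_eq ?_)
    · obtain ⟨-, hM⟩ := IsoDecomp.nd_parts (stdAlt d F) hr0 hX hiso (hD.orth.nd l) (hinv l)
      obtain ⟨m, hm⟩ := (IsoDecomp.exists_sub (stdAlt d F) hrp hr2 hi hX hiso _ rfl hM
        (IsoDecomp.inf_inv (hinv l) IsoDecomp.moved_inv) inf_le_right).1
      have hle' : finrank F (D l ⊓ IsoDecomp.moved X r : Submodule F W₂) ≤ a :=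
        (Submodule.finrank_mono inf_le_left).trans (hD.1.finrank_eq l).le
      have hc : 0 < c := by
        have : 0 < i := hi ▸ PrimeElemFlags.order_pos rfl hrp
        show 0 < IsoDecomp.step i
        rw [IsoDecomp.step]; split_ifs <;> omega
      rw [hm] at hle' ⊢
      exact Nat.mul_le_mul_left c ((Nat.le_div_iff_mul_le hc).2 (by rwa [mul_comm]))
    · rw [Finset.card_univ, Fintype.card_fin, smul_eq_mul]; ring
  right
  push Not at h1
  obtain ⟨j, hj⟩ := h1
  have hper : Function.minimalPeriod σ j = r := by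
    have hdvd : Function.minimalPeriod σ j ∣ r := Function.IsPeriodicPt.minimalPeriod_dvd (by
      show σ^[r] j = j
      rw [← Equiv.Perm.coe_pow]; exact hσr j)
    refine ((Nat.dvd_prime hr.out).1 hdvd).resolve_left fun e => hj ?_
    exact Function.minimalPeriod_eq_one_iff_isFixedPt.1 e
  have horb : ∀ k l : ℕ, k < r → l < r → (σ ^ k) j = (σ ^ l) j → k = l := fun k l hk hl e => by
    refine Function.iterate_injOn_Iio_minimalPeriod (f := σ) (x := j) (hper.symm ▸ hk) (hper.symm ▸ hl) ?_
    simpa [Equiv.Perm.coe_pow] using e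
  refine ⟨?_, ?_⟩
  · let S : W₂ →ₗ[F] W₂ := ∑ k ∈ Finset.range r, X ^ k
    have hfix : ∀ v, S v ∈ IsoDecomp.fixed X := fun v => by
      rw [IsoDecomp.mem_fixed, LinearMap.sum_apply, map_sum, ← sub_eq_zero, ← Finset.sum_sub_distrib]
      have e : ∀ k, X ((X ^ k) v) = (X ^ (k + 1)) v := fun k => by rw [pow_succ', Module.End.mul_apply]
      simp only [e]
      rw [Finset.sum_range_sub fun k => (X ^ k) v, hX, pow_zero, sub_self]
    let Sj : D j →ₗ[F] IsoDecomp.fixed X := LinearMap.codRestrict _ (S ∘ₗ (D j).subtype) fun v => hfix v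
    have hinj : Function.Injective Sj := by
      refine (injective_iff_map_eq_zero Sj).2 fun u hu => Subtype.ext ?_
      have h0 : S u = 0 := congrArg Subtype.val hu
      have h2 := congrArg (pr j) h0
      rw [LinearMap.sum_apply, map_sum, map_zero, Finset.sum_eq_single 0 (fun k hk hk0 => ?_)
        (fun h => absurd (Finset.mem_range.2 hr.out.pos) h)] at h2
      · rwa [pow_zero, Module.End.one_apply, hprj j j _ u.2, if_pos rfl] at h2
      · rw [hprj _ j _ (hpow k j ▸ Submodule.mem_map_of_mem u.2),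
          if_neg fun e => hk0 (horb k 0 (Finset.mem_range.1 hk) hr.out.pos (by rw [pow_zero]; exact e.symm))]
    rw [← hD.1.finrank_eq j]
    exact LinearMap.finrank_le_finrank_of_injective hinj
  · set T : Finset (Fin t) := Finset.univ \ ((Finset.Ico 1 r).image fun k => (σ ^ k) j) with hT
    have hTc : T.card + (r - 1) = t := by
      have hinj : Set.InjOn (fun k => (σ ^ k) j) (Finset.Ico 1 r : Finset ℕ) := fun k hk l hl e => by
        simp only [Finset.coe_Ico, Set.mem_Ico] at hk hl
        exact horb k l hk.2 hl.2 e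
      have h2 := Finset.card_sdiff_add_card_eq_card (Finset.subset_univ ((Finset.Ico 1 r).image fun k => (σ ^ k) j))
      rw [Finset.card_image_of_injOn hinj, Nat.card_Ico, Finset.card_univ, Fintype.card_fin] at h2
      exact h2
    let P : IsoDecomp.fixed X →ₗ[F] ((l : T) → D l) := LinearMap.pi fun l =>
      LinearMap.codRestrict _ (pr (l : Fin t) ∘ₗ (IsoDecomp.fixed X).subtype) fun v => hpr _ _
    have hinj : Function.Injective P := by
      refine (injective_iff_map_eq_zero P).2 fun v hv => Subtype.ext ?_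
      have hzero : ∀ l ∈ T, pr l (v : W₂) = 0 := fun l hl => congrArg Subtype.val (congrFun hv ⟨l, hl⟩)
      have hj0 : pr j (v : W₂) = 0 := hzero j (by
        simp only [hT, Finset.mem_sdiff, Finset.mem_univ, true_and, Finset.mem_image, Finset.mem_Ico, not_exists, not_and]
        intro k hk e
        exact absurd (horb k 0 hk.2 hr.out.pos (by rw [pow_zero]; exact e)) (by omega))
      have hall : ∀ k, pr ((σ ^ k) j) (v : W₂) = 0 := fun k => by
        induction k with
        | zero => exact hj0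
        | succ k ih =>
          rw [pow_succ', Equiv.Perm.mul_apply, ← IsoDecomp.mem_fixed.1 v.2, hcomm, ih, map_zero]
      show (v : W₂) = 0
      rw [← hsum v]
      refine Finset.sum_eq_zero fun l _ => ?_
      by_cases hl : l ∈ T
      · exact hzero l hl
      · simp only [hT, Finset.mem_sdiff, Finset.mem_univ, true_and, not_not, Finset.mem_image] at hl
        obtain ⟨k, -, rfl⟩ := hl
        exact hall k
    have h3 := LinearMap.finrank_le_finrank_of_injective hinj
    rw [Module.finrank_pi_fintype] at h3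
    simp only [hD.1.finrank_eq, Finset.sum_const, Finset.card_univ, Fintype.card_coe, smul_eq_mul] at h3
    have h4 := DecompAux.card_eq_mul hD.1
    rw [Fintype.card_sum, Fintype.card_fin, ← hTc, add_mul] at h4
    rw [mul_comm a]
    omega

/-- An invariant decomposition. -/
theorem exists_invariant [Fintype F] {p : ℕ} [Fact p.Prime] [CharP F p] (hrp : r ≠ p) (hr2 : r ≠ 2) {i : ℕ}
    (hi : orderOf ((Fintype.card F : ℕ) : ZMod r) = i) {a : ℕ} (hae : Even a) (hca : (IsoDecomp.step i) ≤ a)
    {X : Module.End F W₂} (hX : X ^ r = 1)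
    (hiso : ∀ u v, (stdAlt d F).B (X u) (X v) = (stdAlt d F).B u v) :
    ∀ (t : ℕ) (U : Submodule F W₂), (stdAlt d F).NdOn U → U.map X ≤ U → finrank F U = a * t →
      finrank F (U ⊓ IsoDecomp.moved X r : Submodule F W₂) ≤ (IsoDecomp.step i) * (t * (a / (IsoDecomp.step i))) →
      ∃ D : Fin t → Submodule F W₂, (∀ j, D j ≤ U ∧ (stdAlt d F).NdOn (D j) ∧ finrank F (D j) = a ∧ (D j).map X ≤ D j) ∧
        (∀ j k, j ≠ k → D j ≤ (stdAlt d F).perp (D k)) ∧ iSup D = U := by
  have hr0 : (r : F) ≠ 0 := PrimeElemFlags.cast_ne_zero hrp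
  intro t
  induction t with
  | zero =>
    intro U _ _ hU _
    rw [mul_zero, Submodule.finrank_eq_zero] at hU
    exact ⟨Fin.elim0, fun j => j.elim0, fun j => j.elim0, by rw [hU, iSup_of_empty]⟩
  | succ t ih =>
    intro U hU hUi hUd hle
    obtain ⟨hF, hM⟩ := IsoDecomp.nd_parts (stdAlt d F) hr0 hX hiso hU hUi
    obtain ⟨s, hs⟩ := (IsoDecomp.exists_sub (stdAlt d F) hrp hr2 hi hX hiso _ rfl hM
      (IsoDecomp.inf_inv hUi IsoDecomp.moved_inv) inf_le_right).1
    rw [hs] at hle
    have hc0 : 0 < (IsoDecomp.step i) := by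
      have : 0 < i := hi ▸ PrimeElemFlags.order_pos rfl hrp
      rw [IsoDecomp.step]; split_ifs <;> omega
    have hce : Even (IsoDecomp.step i) := by
      rw [IsoDecomp.step]
      split_ifs with h
      · exact h
      · exact even_two_mul i
    have hs' : s ≤ (t + 1) * (a / (IsoDecomp.step i)) := Nat.le_of_mul_le_mul_left hle hc0
    set j := min s (a / (IsoDecomp.step i)) with hj
    have hja : (IsoDecomp.step i) * j ≤ a := (Nat.mul_le_mul_left (IsoDecomp.step i) (min_le_right _ _)).trans (Nat.mul_div_le a (IsoDecomp.step i))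
    obtain ⟨h, hh⟩ : Even (a - (IsoDecomp.step i) * j) := (Nat.even_sub hja).2 ⟨fun _ => hce.mul_right j, fun _ => hae⟩
    have hsum := (IsoDecomp.decompose hr0 hX hUi).2
    rw [hs, hUd] at hsum
    have hcs : (IsoDecomp.step i) * s + a ≤ (IsoDecomp.step i) * j + a * (t + 1) := by
      rcases Nat.le_total s (a / (IsoDecomp.step i)) with h' | h'
      · rw [hj, min_eq_left h', Nat.mul_succ]; omega
      · rw [hj, min_eq_right h']
        have h1 : (IsoDecomp.step i) * (a / (IsoDecomp.step i)) ≤ a := Nat.mul_div_le a (IsoDecomp.step i)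
        have h2 : (IsoDecomp.step i) * s ≤ (IsoDecomp.step i) * (a / (IsoDecomp.step i)) * t + (IsoDecomp.step i) * (a / (IsoDecomp.step i)) := by
          refine (Nat.mul_le_mul_left (IsoDecomp.step i) hs').trans (le_of_eq ?_); ring
        have h3 : (IsoDecomp.step i) * (a / (IsoDecomp.step i)) * t ≤ a * t := Nat.mul_le_mul_right t h1
        rw [Nat.mul_succ]; omega
    obtain ⟨L, hLU, hL, hLi, hLd, hLm⟩ := IsoDecomp.exists_piece (stdAlt d F) hrp hr2 hi hX hiso hU hUi (h := h) (j := j)
      (by rw [hs]; exact Nat.mul_le_mul_left (IsoDecomp.step i) (min_le_left _ _)) (by omega)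
    obtain ⟨hsup, hR, hdim⟩ := IsoDecomp.split_off (stdAlt d F) hU hL hLU
    have hRi := IsoDecomp.inf_inv hUi (IsoDecomp.perp_inv (stdAlt d F) hX hr.out.pos hiso hLi)
    obtain ⟨D, hD, hDo, hDs⟩ := ih (U ⊓ (stdAlt d F).perp L) hR hRi (by rw [hUd, Nat.mul_succ, hLd] at hdim; omega) (by
      rw [hs] at hLm
      have h1 : finrank F (U ⊓ (stdAlt d F).perp L ⊓ IsoDecomp.moved X r : Submodule F W₂) = (IsoDecomp.step i) * (s - j) := by
        rw [Nat.mul_sub]; omega
      rw [h1]
      refine Nat.mul_le_mul_left (IsoDecomp.step i) ?_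
      rcases Nat.le_total s (a / (IsoDecomp.step i)) with h' | h'
      · rw [hj, min_eq_left h', Nat.sub_self]; exact Nat.zero_le _
      · rw [hj, min_eq_right h']; rw [Nat.succ_mul] at hs'; omega)
    have hDL : ∀ k, D k ≤ (stdAlt d F).perp L := fun k => (hD k).1.trans inf_le_right
    refine ⟨Fin.cons L D, fun k => ?_, fun k l hkl => ?_, ?_⟩
    · induction k using Fin.cases with
      | zero =>
        simp only [Fin.cons_zero]
        exact ⟨hLU, hL, (show finrank F L = a by omega), hLi⟩
      | succ k =>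
        simp only [Fin.cons_succ]
        exact ⟨(hD k).1.trans inf_le_left, (hD k).2⟩
    · induction k using Fin.cases <;> induction l using Fin.cases <;> simp only [Fin.cons_zero, Fin.cons_succ]
      · exact absurd rfl hkl
      · intro v hv w hw
        exact (stdAlt d F).mem_perp' (hDL _ hw) hv
      · exact hDL _
      · exact hDo _ _ fun e => hkl (by rw [e])
    · refine le_antisymm (iSup_le fun k => ?_) ?_
      · induction k using Fin.cases with
        | zero => simpa using hLU
        | succ k => simpa using (hD k).1.trans inf_le_left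
      · rw [← hsup, ← hDs]
        refine sup_le ?_ (iSup_le fun k => ?_)
        · exact le_iSup_of_le 0 (by simp)
        · exact le_iSup_of_le k.succ (by simp)

/-- Decompositions exist. -/
theorem exists_good {a t : ℕ} (hat : 2 * d = a * t) (ha : 2 ≤ a) (hae : Even a) (ht : 2 ≤ t) :
    Nonempty {D : Fin t → Submodule F W₂ // Good a D} := by
  obtain ⟨h, rfl⟩ := hae
  have key : ∀ (k : ℕ) (U : Submodule F W₂), (stdAlt d F).NdOn U → finrank F U = (h + h) * k →
      ∃ D : Fin k → Submodule F W₂, (∀ j, D j ≤ U ∧ (stdAlt d F).NdOn (D j) ∧ finrank F (D j) = h + h) ∧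
        (∀ j l, j ≠ l → D j ≤ (stdAlt d F).perp (D l)) ∧ iSup D = U := by
    intro k
    induction k with
    | zero =>
      intro U _ hU
      rw [mul_zero, Submodule.finrank_eq_zero] at hU
      exact ⟨Fin.elim0, fun j => j.elim0, fun j => j.elim0, by rw [hU, iSup_of_empty]⟩
    | succ k ih =>
      intro U hU hUd
      obtain ⟨L, hLU, hL, hLd⟩ := IsoDecomp.exists_even_sub (stdAlt d F) h hU (by rw [hUd, Nat.mul_succ]; omega)
      obtain ⟨hsup, hR, hdim⟩ := IsoDecomp.split_off (stdAlt d F) hU hL hLU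
      obtain ⟨D, hD, hDo, hDs⟩ := ih _ hR (by rw [hUd, Nat.mul_succ, hLd] at hdim; omega)
      have hDL : ∀ j, D j ≤ (stdAlt d F).perp L := fun j => (hD j).1.trans inf_le_right
      refine ⟨Fin.cons L D, fun j => ?_, fun j l hjl => ?_, ?_⟩
      · induction j using Fin.cases with
        | zero =>
          simp only [Fin.cons_zero]
          exact ⟨hLU, hL, (show finrank F L = h + h by omega)⟩
        | succ j =>
          simp only [Fin.cons_succ]
          exact ⟨(hD j).1.trans inf_le_left, (hD j).2⟩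
      · induction j using Fin.cases <;> induction l using Fin.cases <;> simp only [Fin.cons_zero, Fin.cons_succ]
        · exact absurd rfl hjl
        · intro v hv w hw
          exact (stdAlt d F).mem_perp' (hDL _ hw) hv
        · exact hDL _
        · exact hDo _ _ fun e => hjl (by rw [e])
      · refine le_antisymm (iSup_le fun j => ?_) ?_
        · induction j using Fin.cases with
          | zero => simpa using hLU
          | succ j => simpa using (hD j).1.trans inf_le_left
        · rw [← hsup, ← hDs]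
          refine sup_le ?_ (iSup_le fun j => ?_)
          · exact le_iSup_of_le 0 (by simp)
          · exact le_iSup_of_le j.succ (by simp)
  obtain ⟨D, hD, hDo, hDs⟩ := key t ⊤ (fun w _ hw => by
      by_contra hc'
      push Not at hc'
      exact hw ((stdAlt d F).nondeg w fun y => by rw [(stdAlt d F).skew, hc' y Submodule.mem_top, neg_zero]))
    (by rw [finrank_top, Module.finrank_fintype_fun_eq_card, Fintype.card_sum, Fintype.card_fin, ← hat, two_mul])
  exact ⟨⟨D, good_of_pieces ht (by omega) (fun j => (hD j).2) hDo hDs⟩⟩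

/-- Elements of odd prime order of PSp_n(q) and imprimitive subgroups. Here `T = PSp_n(q)`, `n = 2d ≥ 4`, `(n, q) ≠ (4, 2)`, realised through the symplectic matrices over the field `F` with `q` elements and the standard alternating form; `n = a·t` with `a` even and `t ≥ 2`, and Ω is the (nonempty) set of orthogonal decompositions of `F^n` into `t` nondegenerate subspaces of dimension `a` (unordered; counted as ordered ones divided by `t!`), whose stabilizers are the imprimitive subgroups of type Sp_a(q) ≀ S_t (maximality is not assumed); an element of `T` of prime order `r` (a symplectic matrix `x` with `x^r` scalar, `x` not scalar) fixes a point of Ω when it permutes the summands of some such decomposition. Let `r ≠ p` be an odd prime dividing the number of such decompositions, let `i` be the multiplicative order of `q` modulo `r`, `c = i` if `i` is even and `c = 2i` if `i` is odd, and write `k = n mod c`, `ℓ = a mod c`. Then every element of `T` of order `r` stabilizes such a decomposition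 if and only if `c ≤ a` and `k = t·ℓ`. -/
theorem result {F : Type*} [Field F] [Fintype F] {p : ℕ} [Fact p.Prime] [CharP F p] {q : ℕ} (hq : Fintype.card F = q)
    (d : ℕ) (hd : 2 ≤ d) (hT : (d, q) ≠ (2, 2))
    (a t : ℕ) (hat : 2 * d = a * t) (ha : 2 ≤ a) (hae : Even a) (ht : 2 ≤ t)
    (r : ℕ) [Fact r.Prime] (hr2 : r ≠ 2) (hrp : r ≠ p) (hΩ : r ∣ Nat.card {D : Fin t → Submodule F (Fin d ⊕ Fin d → F) // (Cfsg.Geo.IsMDecomposition a D ∧ (∀ j, ∀ u ∈ D j, u ≠ 0 → ∃ v ∈ D j, Cfsg.sympForm d F u v ≠ 0) ∧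
          (∀ j j', j ≠ j' → ∀ u ∈ D j, ∀ v ∈ D j', Cfsg.sympForm d F u v = 0))} / Nat.factorial t)
    (i c : ℕ) (hi : i = orderOf (q : ZMod r)) (hc : c = if Even i then i else 2 * i) :
    (∀ x : ↥(Matrix.symplecticGroup (Fin d) F),
      (∃ z : F, ((x ^ r : ↥(Matrix.symplecticGroup (Fin d) F)) : Matrix (Fin d ⊕ Fin d) (Fin d ⊕ Fin d) F) = z • (1 : Matrix (Fin d ⊕ Fin d) (Fin d ⊕ Fin d) F)) →
      (∀ z : F, (x : Matrix (Fin d ⊕ Fin d) (Fin d ⊕ Fin d) F) ≠ z • (1 : Matrix (Fin d ⊕ Fin d) (Fin d ⊕ Fin d) F)) →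
      ∃ D : Fin t → Submodule F (Fin d ⊕ Fin d → F), (Cfsg.Geo.IsMDecomposition a D ∧ (∀ j, ∀ u ∈ D j, u ≠ 0 → ∃ v ∈ D j, Cfsg.sympForm d F u v ≠ 0) ∧
          (∀ j j', j ≠ j' → ∀ u ∈ D j, ∀ v ∈ D j', Cfsg.sympForm d F u v = 0)) ∧
        ∃ σ : Equiv.Perm (Fin t), ∀ j, (D j).map (Matrix.toLin' (x : Matrix (Fin d ⊕ Fin d) (Fin d ⊕ Fin d) F)) = D (σ j)) ↔
    (c ≤ a ∧ (2 * d) % c = t * (a % c)) := by
  classical
  subst hq
  have hpr : r.Prime := Fact.out
  have hr0 : (r : F) ≠ 0 := PrimeElemFlags.cast_ne_zero hrp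
  obtain rfl : c = IsoDecomp.step i := hc
  have hi0 : 0 < i := by rw [hi]; exact PrimeElemFlags.order_pos rfl hrp
  have hc0 : 0 < (IsoDecomp.step i) := by rw [IsoDecomp.step]; split_ifs <;> omega
  have hdivmod := Nat.div_add_mod (2 * d) (IsoDecomp.step i)
  have hadivmod := Nat.div_add_mod a (IsoDecomp.step i)
  have hkt : 2 * d = (IsoDecomp.step i) * (t * (a / (IsoDecomp.step i))) + t * (a % (IsoDecomp.step i)) := by
    rw [hat]; nth_rw 1 [← hadivmod]; ring
  constructor
  · intro h
    have hbad : ∀ s, (IsoDecomp.step i) * s ≤ 2 * d → 0 < s → ∃ (D : Fin t → Submodule F (Fin d ⊕ Fin d → F)) (X : Module.End F (Fin d ⊕ Fin d → F)),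
        Good a D ∧ (∃ σ : Equiv.Perm (Fin t), ∀ j, (D j).map X = D (σ j)) ∧ X ^ r = 1 ∧
        (∀ u v, (stdAlt d F).B (X u) (X v) = (stdAlt d F).B u v) ∧
        finrank F (IsoDecomp.moved X r) = (IsoDecomp.step i) * s ∧ finrank F (IsoDecomp.fixed X) + (IsoDecomp.step i) * s = 2 * d := by
      intro s hs hs0
      obtain ⟨x, hx, hxr, hrk⟩ := IsoElem.exists_atoms (p := p) hrp hr2 hi.symm hs
      have hns : ∀ z : F, x ≠ z • 1 := by
        intro z hz
        by_cases hz1 : z = 1
        · rw [hz, hz1, one_smul, sub_self, Matrix.rank_zero] at hrk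
          exact (Nat.mul_pos hc0 hs0).ne hrk
        · have hzr : z ^ r = 1 := by
            rw [hz, _root_.smul_pow, one_pow] at hxr
            have h1 := congrFun (congrFun hxr (Sum.inl ⟨0, by omega⟩)) (Sum.inl ⟨0, by omega⟩)
            simpa using h1
          have hzz : z * z = 1 := by
            have h1 := toLin_iso hx
            obtain ⟨u, hu, v, hv, huv⟩ := AltForm.exists_pair (stdAlt d F) (W := (⊤ : Submodule F (Fin d ⊕ Fin d → F)))
              (fun w _ hw => by
                by_contra hc'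
                push Not at hc'
                exact hw ((stdAlt d F).nondeg w fun y => by rw [(stdAlt d F).skew, hc' y Submodule.mem_top, neg_zero]))
              (fun e => by
                have h2 := congrArg (fun S : Submodule F (Fin d ⊕ Fin d → F) => finrank F S) e
                simp at h2; omega)
            have h2 := h1 u v
            rw [hz] at h2
            simp [huv] at h2
            exact h2
          obtain ⟨m, hm⟩ := hpr.odd_of_ne_two hr2
          rw [hm, pow_succ, pow_mul, pow_two, hzz, one_pow, one_mul] at hzr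
          exact hz1 hzr
      obtain ⟨D, hD, hσ⟩ := h ⟨x, hx⟩ ⟨1, by rw [SubmonoidClass.coe_pow, one_smul]; exact hxr⟩ hns
      have hX := SympPrimeElem.pow_toLin hxr
      have hdec := (IsoDecomp.decompose hr0 hX (U := ⊤) le_top).2
      rw [top_inf_eq, top_inf_eq, finrank_top, Module.finrank_fintype_fun_eq_card, Fintype.card_sum, Fintype.card_fin] at hdec
      have hfk := SympPrimeElem.finrank_range_matrix x
      rw [hrk, Fintype.card_sum, Fintype.card_fin] at hfk
      have hfix : IsoDecomp.fixed (Matrix.toLin' x) = LinearMap.ker (Matrix.toLin' x - 1) := rfl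
      rw [hfix] at hdec
      refine ⟨D, Matrix.toLin' x, hD, hσ, hX, toLin_iso hx, by omega, by rw [hfix]; omega⟩
    have hrdvd : r ∣ Nat.card (Cfsg.spGL d F) := dvd_card (exists_good hat ha hae ht) hΩ
    obtain ⟨hid, hido⟩ := SympPrimeElem.order_le (p := p) hrp hrdvd
    rw [← hi] at hid hido
    have hcd : (IsoDecomp.step i) ≤ 2 * d := by
      rw [IsoDecomp.step]
      split_ifs with hev
      · exact hid
      · have := hido (Nat.not_even_iff_odd.1 hev); omega
    have hir : i ∣ r - 1 := by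
      rw [hi]
      exact ZMod.orderOf_dvd_card_sub_one (fun e => hrp ((Nat.prime_dvd_prime_iff_eq hpr (Fact.out : p.Prime)).1 (by
        obtain ⟨kk, -, hk⟩ := FiniteField.card F p
        rw [hk, Nat.cast_pow] at e
        exact (ZMod.natCast_eq_zero_iff p r).1 (pow_eq_zero_iff kk.ne_zero |>.1 e))))
    have hcr : (IsoDecomp.step i) ≤ r - 1 := by
      have h1 : 0 < r - 1 := by have := hpr.two_le; omega
      rw [IsoDecomp.step]
      split_ifs with hev
      · exact Nat.le_of_dvd h1 hir
      · refine Nat.le_of_dvd h1 ((Nat.coprime_two_left.2 (Nat.not_even_iff_odd.1 hev)).mul_dvd_of_dvd_of_dvd ?_ hir)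
        obtain ⟨m, hm⟩ := hpr.odd_of_ne_two hr2
        exact ⟨m, by omega⟩
    have hca : (IsoDecomp.step i) ≤ a := by
      by_contra hlt
      obtain ⟨D, X, hD, ⟨σ, hσ⟩, hX, hiso, hm, hf⟩ := hbad 1 (by omega) one_pos
      rcases bound hrp hr2 hi.symm hD hX hiso hσ with hb | ⟨-, hb⟩
      · rw [hm, Nat.div_eq_of_lt (not_le.1 hlt), mul_zero] at hb
        omega
      · have h1 : 2 * (r - 1) ≤ a * (r - 1) := Nat.mul_le_mul_right _ ha
        omega
    refine ⟨hca, ?_⟩
    by_contra hne
    have hsd : 0 < 2 * d / (IsoDecomp.step i) := Nat.div_pos hcd hc0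
    obtain ⟨D, X, hD, ⟨σ, hσ⟩, hX, hiso, hm, hf⟩ := hbad (2 * d / (IsoDecomp.step i)) (by omega) hsd
    rcases bound hrp hr2 hi.symm hD hX hiso hσ with hb | ⟨hb, -⟩
    · rw [hm] at hb
      have h1 : t * (a / (IsoDecomp.step i)) ≤ 2 * d / (IsoDecomp.step i) := (Nat.le_div_iff_mul_le hc0).2 (by rw [mul_comm]; omega)
      have h2 : (IsoDecomp.step i) * (t * (a / (IsoDecomp.step i))) ≤ (IsoDecomp.step i) * (2 * d / (IsoDecomp.step i)) := Nat.mul_le_mul_left (IsoDecomp.step i) h1
      omega
    · have := Nat.mod_lt (2 * d) hc0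
      omega
  · rintro ⟨hca, hk⟩ ⟨x, hx⟩ ⟨z, hz⟩ hns
    rw [SubmonoidClass.coe_pow] at hz
    change x ^ r = z • 1 at hz
    set X := Matrix.toLin' x
    have hiso : ∀ u v, (stdAlt d F).B (X u) (X v) = (stdAlt d F).B u v := toLin_iso hx
    have hndtop : (stdAlt d F).NdOn (⊤ : Submodule F (Fin d ⊕ Fin d → F)) := fun w _ hw => by
      by_contra hc'
      push Not at hc'
      exact hw ((stdAlt d F).nondeg w fun y => by rw [(stdAlt d F).skew, hc' y Submodule.mem_top, neg_zero])
    obtain ⟨u, -, v, -, huv⟩ := AltForm.exists_pair (stdAlt d F) hndtop (fun e => by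
      have h2 := congrArg (fun S : Submodule F (Fin d ⊕ Fin d → F) => finrank F S) e
      simp at h2; omega)
    have hzr : X ^ r = z • 1 := by
      show Matrix.toLin' x ^ r = _
      rw [← Matrix.toLin'_pow, hz, map_smul, Matrix.toLin'_one]; rfl
    have hzz : z * z = 1 := by
      have hpow : ∀ k : ℕ, (stdAlt d F).B ((X ^ k) u) ((X ^ k) v) = (stdAlt d F).B u v := fun k => by
        induction k with
        | zero => rfl
        | succ k ih => rw [pow_succ', Module.End.mul_apply, Module.End.mul_apply, hiso, ih]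
      have h2 := hpow r
      rw [hzr] at h2
      simp [huv] at h2
      exact h2
    have hz0 : z ≠ 0 := left_ne_zero_of_mul (hzz ▸ one_ne_zero)
    have hY : (z • X) ^ r = 1 := by
      obtain ⟨m, hm⟩ := hpr.odd_of_ne_two hr2
      rw [_root_.smul_pow, hzr, smul_smul, hm, ← pow_succ, show 2 * m + 1 + 1 = 2 * (m + 1) by ring, pow_mul, pow_two,
        hzz, one_pow, one_smul]
    have hYiso : ∀ u v, (stdAlt d F).B ((z • X) u) ((z • X) v) = (stdAlt d F).B u v := fun u v => by
      simp only [LinearMap.smul_apply, map_smul, LinearMap.smul_apply, smul_eq_mul, hiso, ← mul_assoc, hzz, one_mul]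
    have hcard : finrank F (⊤ : Submodule F (Fin d ⊕ Fin d → F)) = a * t := by
      rw [finrank_top, Module.finrank_fintype_fun_eq_card, Fintype.card_sum, Fintype.card_fin, ← hat, two_mul]
    obtain ⟨m, hm⟩ := (IsoDecomp.exists_sub (stdAlt d F) hrp hr2 hi.symm hY hYiso _ rfl
      (IsoDecomp.nd_parts (stdAlt d F) hr0 hY hYiso hndtop le_top).2
      (IsoDecomp.inf_inv le_top IsoDecomp.moved_inv) inf_le_right).1
    have hmb : finrank F (⊤ ⊓ IsoDecomp.moved (z • X) r : Submodule F (Fin d ⊕ Fin d → F)) ≤ (IsoDecomp.step i) * (t * (a / (IsoDecomp.step i))) := by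
      rw [hm]
      refine Nat.mul_le_mul_left (IsoDecomp.step i) ?_
      have h1 : (IsoDecomp.step i) * m ≤ 2 * d := by
        rw [← hm]
        refine (Submodule.finrank_mono le_top).trans ?_
        rw [hcard, hat]
      have h2 : 2 * d / (IsoDecomp.step i) = t * (a / (IsoDecomp.step i)) := by
        have h3 : (IsoDecomp.step i) * (2 * d / (IsoDecomp.step i)) = (IsoDecomp.step i) * (t * (a / (IsoDecomp.step i))) := by omega
        exact Nat.eq_of_mul_eq_mul_left hc0 h3
      rw [← h2]
      exact (Nat.le_div_iff_mul_le hc0).2 (by rw [mul_comm]; exact h1)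
    obtain ⟨D, hD, hDo, hDs⟩ := exists_invariant hrp hr2 hi.symm hae hca hY hYiso t ⊤ hndtop
      le_top hcard hmb
    refine ⟨D, good_of_pieces ht (by omega) (fun j => ⟨(hD j).2.1, (hD j).2.2.1⟩) hDo hDs, Equiv.refl _, fun j => ?_⟩
    show (D j).map X = D j
    rw [← Submodule.map_smul X (D j) z hz0]
    exact IsoDecomp.map_eq hY hpr.pos (hD j).2.2.2

end Cfsg.Agent.S5961
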