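import Cfsg.Statements.S5962
import Cfsg.Agent.Lib.MaxSub.InvolutionBlocks

set_option autoImplicit false
open scoped MatrixGroups
open Cfsg

namespace Cfsg.Agent.S5962

open Cfsg.Agent.Lib.MaxSub Cfsg.Agent.Lib.MaxSub.InvBlocks

theorem toLin_sq {ι : Type} [Fintype ι] [DecidableEq ι] {F : Type*} [Field F] {A : Matrix ι ι F} {z : F}
    (h : A ^ 2 = z • (1 : Matrix ι ι F)) (v : ι → F) : Matrix.toLin' A (Matrix.toLin' A v) = z • v := by
  rw [Matrix.toLin'_apply, Matrix.toLin'_apply, Matrix.mulVec_mulVec, ← pow_two, h, Matrix.smul_mulVec,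
    Matrix.one_mulVec]

theorem two_ne {F : Type*} [Field F] [Fintype F] (h : Odd (Fintype.card F)) : (2 : F) ≠ 0 := by
  intro h2
  haveI : CharP F 2 := CharTwo.of_one_ne_zero_of_two_eq_zero one_ne_zero h2
  have := FiniteField.even_card_of_char_two (F := F) ((ringChar.eq F 2).symm ▸ rfl)
  exact absurd h (Nat.not_odd_iff_even.2 (Nat.even_iff.2 this))

theorem symp_facts {F : Type*} [Field F] {d : ℕ} (x : ↥(Matrix.symplecticGroup (Fin d) F)) :
    ∀ u v, (stdAlt d F).B (Matrix.toLin' (x : Matrix (Fin d ⊕ Fin d) (Fin d ⊕ Fin d) F) u)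
      (Matrix.toLin' (x : Matrix (Fin d ⊕ Fin d) (Fin d ⊕ Fin d) F) v) = (stdAlt d F).B u v := by
  intro u v
  rw [stdAlt_apply, stdAlt_apply, Matrix.toLin'_apply, Matrix.toLin'_apply]
  exact Cfsg.Agent.Lib.Geometry.mem_symplecticGroup_iff_form.1 x.2 u v

theorem nd_top {F : Type*} [Field F] {d : ℕ} :
    (stdAlt d F).NdOn (⊤ : Submodule F (Fin d ⊕ Fin d → F)) := by
  intro a _ ha
  by_contra hc
  push Not at hc
  exact ha ((stdAlt d F).nondeg a fun y => by rw [(stdAlt d F).skew, hc y Submodule.mem_top, neg_zero])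

theorem sq_one {F : Type*} [Field F] {d : ℕ} (hd : 1 ≤ d) {x : (Fin d ⊕ Fin d → F) →ₗ[F] (Fin d ⊕ Fin d → F)}
    {z : F} (hx : ∀ v, x (x v) = z • v) (hiso : ∀ u v, (stdAlt d F).B (x u) (x v) = (stdAlt d F).B u v) :
    z * z = 1 := by
  obtain ⟨u, -, v, -, huv⟩ := AltForm.exists_pair (stdAlt d F) (nd_top (d := d)) (by
    intro h
    have := congrArg (fun S : Submodule F (Fin d ⊕ Fin d → F) => Module.finrank F S) h
    simp at this
    omega)
  have := hiso (x u) (x v)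
  rw [hx, hx, hiso, huv] at this
  simp [huv] at this
  linear_combination this


/-- Involutions of PSp_n(q), q odd, and the subgroups GL_{n/2}(q).2. Here `T = PSp_n(q)`, `n = 2d ≥ 4`, `q` odd, realised through the symplectic matrices over the field `F` with `q` elements; Ω is the set of unordered pairs `{U, W}` of complementary totally isotropic `d`-spaces (`F^n = U ⊕ W`), whose stabilizers are the subgroups of type GL_d(q).2 (maximal except in some small cases; maximality is not assumed); an element of `T` of prime order `r` (a symplectic matrix `x` with `x^r` scalar, `x` not scalar) fixes such a pair when it fixes or interchanges `U` and `W`. If the number of such pairs is even, every involution of `T` fixes one of them (the action is 2-elusive). -/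
theorem result {F : Type*} [Field F] [Fintype F] {p : ℕ} [Fact p.Prime] [CharP F p] {q : ℕ} (hq : Fintype.card F = q)
    (d : ℕ) (hd : 2 ≤ d) (hT : (d, q) ≠ (2, 2)) (hodd : Odd q)
    (hΩ : 2 ∣ Nat.card {P : Submodule F (Fin d ⊕ Fin d → F) × Submodule F (Fin d ⊕ Fin d → F) // IsCompl P.1 P.2 ∧ (∀ u ∈ P.1, ∀ v ∈ P.1, Cfsg.sympForm d F u v = 0) ∧ (∀ u ∈ P.2, ∀ v ∈ P.2, Cfsg.sympForm d F u v = 0)} / 2)
    (x : ↥(Matrix.symplecticGroup (Fin d) F))
    (hx1 : ∃ z : F, ((x ^ 2 : ↥(Matrix.symplecticGroup (Fin d) F)) : Matrix (Fin d ⊕ Fin d) (Fin d ⊕ Fin d) F) = z • (1 : Matrix (Fin d ⊕ Fin d) (Fin d ⊕ Fin d) F))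
    (hx2 : ∀ z : F, (x : Matrix (Fin d ⊕ Fin d) (Fin d ⊕ Fin d) F) ≠ z • (1 : Matrix (Fin d ⊕ Fin d) (Fin d ⊕ Fin d) F)) :
    ∃ U W : Submodule F (Fin d ⊕ Fin d → F), IsCompl U W ∧ (∀ u ∈ U, ∀ v ∈ U, Cfsg.sympForm d F u v = 0) ∧ (∀ u ∈ W, ∀ v ∈ W, Cfsg.sympForm d F u v = 0) ∧
        ((U.map (Matrix.toLin' (x : Matrix (Fin d ⊕ Fin d) (Fin d ⊕ Fin d) F)) = U ∧ W.map (Matrix.toLin' (x : Matrix (Fin d ⊕ Fin d) (Fin d ⊕ Fin d) F)) = W) ∨
         (U.map (Matrix.toLin' (x : Matrix (Fin d ⊕ Fin d) (Fin d ⊕ Fin d) F)) = W ∧ W.map (Matrix.toLin' (x : Matrix (Fin d ⊕ Fin d) (Fin d ⊕ Fin d) F)) = U)) := by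
  classical
  obtain ⟨z, hz⟩ := hx1
  have hz' : (x : Matrix (Fin d ⊕ Fin d) (Fin d ⊕ Fin d) F) ^ 2 = z • 1 := by rw [← SubmonoidClass.coe_pow]; exact hz
  have hlin := toLin_sq hz'
  have hiso := symp_facts x
  have hzz := sq_one (by omega) hlin hiso
  have h2 : (2 : F) ≠ 0 := Cfsg.Agent.S5962.two_ne (by rw [hq]; exact hodd)
  have hz1 : z = 1 ∨ z = -1 := mul_self_eq_one_iff.1 hzz
  obtain ⟨U, W, hUW, hU, hW, h1, hm1⟩ := exists_polar (stdAlt d F) _ h2 hz1 hlin hiso (d + d) ⊤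
    (by rw [finrank_top, Module.finrank_fintype_fun_eq_card, Fintype.card_sum, Fintype.card_fin]) nd_top
    (fun v _ => Submodule.mem_top)
  refine ⟨U, W, ⟨?_, codisjoint_iff.2 hUW⟩, fun u hu v hv => by rw [← stdAlt_apply]; exact hU u hu v hv,
    fun u hu v hv => by rw [← stdAlt_apply]; exact hW u hu v hv, ?_⟩
  · rw [disjoint_iff, eq_bot_iff]
    rintro a ⟨ha, ha'⟩
    refine (stdAlt d F).nondeg a fun y => ?_
    obtain ⟨b, hb, c, hc, rfl⟩ := Submodule.mem_sup.1 (hUW ▸ Submodule.mem_top : y ∈ U ⊔ W)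
    rw [map_add, LinearMap.add_apply, hU b hb a ha, hW c hc a ha', add_zero]
  · rcases hz1 with h | h
    · exact Or.inl (h1 h)
    · exact Or.inr (hm1 h)

end Cfsg.Agent.S5962
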