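import Cfsg.Statements.S5963
import Mathlib
import Cfsg.Agent.Lib.Classical.SympCard
import Cfsg.Agent.Lib.Geometry.SympBasic

set_option autoImplicit false
open scoped MatrixGroups
open Cfsg

namespace Cfsg.Agent.S5963

open Matrix
open Cfsg.Agent.Lib.Geometry (sympBilin sympBilin_apply sympForm_eq_sum mem_symplecticGroup_iff_form)

section

variable {F : Type*} [Field F] [Fintype F] {d : ℕ}

/-- Orbits of an element of order `r` without fixed vectors. -/
theorem dvd_card_sub_one {V : Type*} [AddCommGroup V] [Module F V] [Finite V] {r : ℕ} [Fact r.Prime]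
    (A : V →ₗ[F] V) (hA : ∀ v, (A ^ r) v = v) (W : Submodule F V) (hW : ∀ v ∈ W, A v ∈ W)
    (hfix : ∀ v ∈ W, A v = v → v = 0) :
    r ∣ Fintype.card F ^ Module.finrank F W - 1 := by
  classical
  letI := Fintype.ofFinite V
  let φ : Function.End W := fun v => ⟨A v.1, hW _ v.2⟩
  have hφ : ∀ (k : ℕ) (v : W), ((φ ^ k) v).1 = (A ^ k) v.1 := by
    intro k
    induction k with
    | zero => intro v; rfl
    | succ k ih =>
      intro v
      rw [pow_succ, pow_succ]
      exact ih (φ v)
  have hr : φ ^ r ^ 1 = 1 := by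
    funext v
    apply Subtype.ext
    rw [pow_one, hφ, hA]
    rfl
  have hmod := Equiv.Perm.card_fixedPoints_modEq (p := r) (n := 1) hr
  have hone : Fintype.card (Function.fixedPoints φ) = 1 := by
    rw [Fintype.card_eq_one_iff]
    refine ⟨⟨0, Subtype.ext (map_zero A)⟩, fun v => Subtype.ext (Subtype.ext ?_)⟩
    exact hfix _ v.1.2 (congrArg Subtype.val v.2)
  rw [hone, Module.card_eq_pow_finrank (K := F) (V := W)] at hmod
  exact (Nat.modEq_iff_dvd' (Nat.one_le_pow _ _ Fintype.card_pos)).1 hmod.symm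

/-- The multiplicative order of `q` modulo an odd prime dividing `q ^ i + 1` minimally is `2 * i`. -/
theorem two_mul_dvd {q r i : ℕ} [Fact r.Prime] (hr2 : r ≠ 2) (hi : 0 < i) (hdiv : r ∣ q ^ i + 1)
    (hmin : ∀ j, 0 < j → r ∣ q ^ j + 1 → i ≤ j) {k : ℕ} (hk : r ∣ q ^ k - 1) (hq : 0 < q) : 2 * i ∣ k := by
  have h2 : (2 : ZMod r) ≠ 0 := by
    intro h
    have : ((2 : ℕ) : ZMod r) = 0 := by exact_mod_cast h
    rw [ZMod.natCast_eq_zero_iff] at this
    exact hr2 ((Nat.prime_dvd_prime_iff_eq Fact.out Nat.prime_two).1 this)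
  set u : ZMod r := (q : ZMod r) with hu
  have hui : u ^ i = -1 := by
    have : ((q ^ i + 1 : ℕ) : ZMod r) = 0 := (ZMod.natCast_eq_zero_iff _ _).2 hdiv
    push_cast at this
    linear_combination this
  have huk : u ^ k = 1 := by
    have : ((q ^ k - 1 : ℕ) : ZMod r) = 0 := (ZMod.natCast_eq_zero_iff _ _).2 hk
    rw [Nat.cast_sub (Nat.one_le_pow _ _ hq)] at this
    push_cast at this
    linear_combination this
  have hneg : (-1 : ZMod r) ≠ 1 := fun h => h2 (by linear_combination -h)
  set e := orderOf u with he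
  have he2i : e ∣ 2 * i := orderOf_dvd_of_pow_eq_one (by rw [mul_comm, pow_mul, hui]; ring)
  have hei : ¬ e ∣ i := fun h => hneg (hui.symm.trans (orderOf_dvd_iff_pow_eq_one.1 h))
  refine dvd_trans ?_ (orderOf_dvd_of_pow_eq_one huk)
  rw [← he]
  obtain ⟨f, hf⟩ : 2 ∣ e := by
    by_contra h
    exact hei (((Nat.prime_two.coprime_iff_not_dvd).2 h).symm.dvd_of_dvd_mul_left he2i)
  have hepos : 0 < e := orderOf_pos_iff.2 ⟨2 * i, by omega, by
    show (u * ·)^[2 * i] 1 = 1
    rw [mul_left_iterate]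
    simp [mul_comm 2 i, pow_mul, hui]⟩
  have huf : u ^ f = -1 := by
    have h1 : (u ^ f) ^ 2 = 1 := by rw [← pow_mul, mul_comm, ← hf, he, pow_orderOf_eq_one]
    rcases sq_eq_one_iff.1 h1 with h | h
    · exfalso
      have := Nat.le_of_dvd (by omega) (orderOf_dvd_of_pow_eq_one h)
      omega
    · exact h
  have hle : i ≤ f := hmin f (by omega) ((ZMod.natCast_eq_zero_iff _ _).1 (by
    push_cast
    rw [← hu, huf, neg_add_cancel]))
  have hef : e ≤ 2 * i := Nat.le_of_dvd (by omega) he2i
  have : f = i := by omega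
  rw [hf, this]

/-- A pair of complementary totally isotropic subspaces. -/
def Polar (P : Submodule F (Fin d ⊕ Fin d → F) × Submodule F (Fin d ⊕ Fin d → F)) : Prop :=
  IsCompl P.1 P.2 ∧ (∀ u ∈ P.1, ∀ v ∈ P.1, Cfsg.sympForm d F u v = 0) ∧
    (∀ u ∈ P.2, ∀ v ∈ P.2, Cfsg.sympForm d F u v = 0)

set_option maxHeartbeats 2000000 in
theorem dvd_pow_add_one {r : ℕ} [Fact r.Prime] (hrq : ¬ r ∣ Fintype.card F)
    (hr : r ∣ Nat.card {P : Submodule F (Fin d ⊕ Fin d → F) × Submodule F (Fin d ⊕ Fin d → F) // Polar P}) :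
    ∃ i, 0 < i ∧ i ≤ d ∧ r ∣ Fintype.card F ^ i + 1 := by
  classical
  set S := Matrix.symplecticGroup (Fin d) F
  set q := Fintype.card F with hq
  let L : S → (Fin d ⊕ Fin d → F) →ₗ[F] (Fin d ⊕ Fin d → F) := fun g =>
    Matrix.toLin' (g : Matrix (Fin d ⊕ Fin d) (Fin d ⊕ Fin d) F)
  have hL : ∀ g u v, Cfsg.sympForm d F (L g u) (L g v) = Cfsg.sympForm d F u v := fun g u v => by
    simp only [L, Matrix.toLin'_apply]
    exact mem_symplecticGroup_iff_form.1 g.2 u v
  have hL1 : L 1 = LinearMap.id := Matrix.toLin'_one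
  have hLm : ∀ g h, L (g * h) = (L g).comp (L h) := fun g h => Matrix.toLin'_mul _ _
  have hbij : ∀ g, Function.Bijective (L g) := fun g => by
    have e1 : (L g⁻¹).comp (L g) = LinearMap.id := by rw [← hLm, inv_mul_cancel, hL1]
    have e2 : (L g).comp (L g⁻¹) = LinearMap.id := by rw [← hLm, mul_inv_cancel, hL1]
    exact ⟨fun a b hab => by
      have := congrArg (L g⁻¹) hab
      rwa [← LinearMap.comp_apply, ← LinearMap.comp_apply, e1] at this,
      fun b => ⟨L g⁻¹ b, by rw [← LinearMap.comp_apply, e2]; rfl⟩⟩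
  letI act : MulAction S (Submodule F (Fin d ⊕ Fin d → F) × Submodule F (Fin d ⊕ Fin d → F)) :=
    { smul := fun g P => (P.1.map (L g), P.2.map (L g))
      one_smul := fun P => by
        show (P.1.map (L 1), P.2.map (L 1)) = P
        rw [hL1, Submodule.map_id, Submodule.map_id]
      mul_smul := fun g h P => by
        show (P.1.map (L (g * h)), P.2.map (L (g * h))) = _
        rw [hLm, Submodule.map_comp, Submodule.map_comp]
        rfl }
  let Ei : Fin d → (Fin d ⊕ Fin d → F) := fun i => Pi.single (Sum.inl i) 1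
  let Ej : Fin d → (Fin d ⊕ Fin d → F) := fun i => Pi.single (Sum.inr i) 1
  set P₀ : Submodule F (Fin d ⊕ Fin d → F) × Submodule F (Fin d ⊕ Fin d → F) :=
    (Submodule.span F (Set.range Ei), Submodule.span F (Set.range Ej)) with hP₀
  have fsingle : ∀ a b : Fin d ⊕ Fin d, Cfsg.sympForm d F (Pi.single a 1) (Pi.single b 1) =
      Matrix.J (Fin d) F a b := fun a b => by
    simp [Cfsg.sympForm, Matrix.mulVec_single_one, single_one_dotProduct]
  have fadd : ∀ x y z, (sympBilin d F) (x + y) z = (sympBilin d F) x z + (sympBilin d F) y z := fun x y z => by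
    rw [map_add, LinearMap.add_apply]
  have isospan : ∀ E : Fin d → (Fin d ⊕ Fin d → F), (∀ i j, Cfsg.sympForm d F (E i) (E j) = 0) →
      ∀ u ∈ Submodule.span F (Set.range E), ∀ v ∈ Submodule.span F (Set.range E), Cfsg.sympForm d F u v = 0 := by
    intro E hE u hu v hv
    obtain ⟨a, rfl⟩ := (Submodule.mem_span_range_iff_exists_fun F).1 hu
    obtain ⟨b, rfl⟩ := (Submodule.mem_span_range_iff_exists_fun F).1 hv
    rw [← sympBilin_apply]
    simp [map_sum, sympBilin_apply, hE]
  have hP₀p : Polar P₀ := by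
    refine ⟨⟨?_, ?_⟩, isospan Ei (fun i j => by simp [Ei, fsingle, Matrix.J]),
      isospan Ej (fun i j => by simp [Ej, fsingle, Matrix.J])⟩
    · rw [disjoint_iff, eq_bot_iff]
      rintro v ⟨hv1, hv2⟩
      obtain ⟨a, rfl⟩ := (Submodule.mem_span_range_iff_exists_fun F).1 hv1
      obtain ⟨b, hb⟩ := (Submodule.mem_span_range_iff_exists_fun F).1 hv2
      rw [Submodule.mem_bot]
      have ha : ∀ i, a i = 0 := fun i => by
        have := congrFun hb (Sum.inl i)
        simpa [Ei, Ej, Pi.single_apply] using this.symm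
      simp [ha]
    · rw [codisjoint_iff, eq_top_iff]
      intro v _
      have e : v = (∑ i, v (Sum.inl i) • Ei i) + ∑ i, v (Sum.inr i) • Ej i := by
        funext k
        rcases k with k | k <;> simp [Ei, Ej, Pi.single_apply]
      rw [e]
      exact Submodule.add_mem_sup
        (Submodule.sum_mem _ fun i _ => Submodule.smul_mem _ _ (Submodule.subset_span ⟨i, rfl⟩))
        (Submodule.sum_mem _ fun i _ => Submodule.smul_mem _ _ (Submodule.subset_span ⟨i, rfl⟩))
  -- the polar pairs form one orbit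
  have horbit : ∀ P, Polar P ↔ P ∈ MulAction.orbit S P₀ := by
    intro P
    constructor
    · rintro ⟨hc, hU, hW⟩
      obtain ⟨U, W⟩ := P
      have hsep : ∀ w, (∀ y, Cfsg.sympForm d F y w = 0) → w = 0 := fun w h =>
        (Cfsg.Agent.Lib.Geometry.sympBilin_nondegenerate F d).2 w fun y => by rw [sympBilin_apply]; exact h y
      have pair : ∀ (A B : Submodule F (Fin d ⊕ Fin d → F)), A ⊔ B = ⊤ → (∀ u ∈ B, ∀ v ∈ B, Cfsg.sympForm d F u v = 0) →
          ∀ {ι : Type} [Fintype ι] (u : ι → (Fin d ⊕ Fin d → F)), A ≤ Submodule.span F (Set.range u) →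
          Function.Injective (LinearMap.pi fun i => (sympBilin d F (u i)).comp B.subtype) := by
        intro A B hAB hB ι _ u hu
        refine (injective_iff_map_eq_zero _).2 fun w hw => Subtype.ext (hsep _ fun y => ?_)
        obtain ⟨a, ha, b, hb, rfl⟩ := Submodule.mem_sup.1 (hAB ▸ Submodule.mem_top : y ∈ A ⊔ B)
        obtain ⟨c, rfl⟩ := (Submodule.mem_span_range_iff_exists_fun F).1 (hu ha)
        rw [← sympBilin_apply, fadd, sympBilin_apply b, hB b hb w w.2, add_zero, map_sum,
          LinearMap.sum_apply]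
        refine Finset.sum_eq_zero fun i _ => ?_
        have := congrFun hw i
        simp at this
        simp [this]
      have hdim : Module.finrank F U + Module.finrank F W = d + d := by
        rw [Submodule.finrank_add_eq_of_isCompl hc, Module.finrank_fintype_fun_eq_card, Fintype.card_sum,
          Fintype.card_fin]
      have hspan : ∀ A : Submodule F (Fin d ⊕ Fin d → F),
          A ≤ Submodule.span F (Set.range fun i => ((Module.finBasis F A i : A) : Fin d ⊕ Fin d → F)) := by
        intro A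
        rw [show (fun i => ((Module.finBasis F A i : A) : Fin d ⊕ Fin d → F)) = A.subtype ∘ Module.finBasis F A from rfl,
          Set.range_comp, Submodule.span_image, (Module.finBasis F A).span_eq, Submodule.map_top, Submodule.range_subtype]
      have hWU : Module.finrank F W ≤ Module.finrank F U := by
        have h := LinearMap.finrank_le_finrank_of_injective (pair U W hc.sup_eq_top hW _ (hspan U))
        rwa [Module.finrank_fintype_fun_eq_card, Fintype.card_fin] at h
      have hUW : Module.finrank F U ≤ Module.finrank F W := by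
        have h := LinearMap.finrank_le_finrank_of_injective (pair W U hc.symm.sup_eq_top hU _ (hspan W))
        rwa [Module.finrank_fintype_fun_eq_card, Fintype.card_fin] at h
      have hUd : Module.finrank F U = d := by omega
      let bU := (Module.finBasis F U).reindex (finCongr hUd)
      let u : Fin d → (Fin d ⊕ Fin d → F) := fun i => (bU i : U)
      have huU : ∀ i, u i ∈ U := fun i => (bU i).2
      have hspanU : U ≤ Submodule.span F (Set.range u) := by
        rw [show u = U.subtype ∘ bU from rfl, Set.range_comp, Submodule.span_image, bU.span_eq, Submodule.map_top,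
          Submodule.range_subtype]
      let Φ : W →ₗ[F] (Fin d → F) := LinearMap.pi fun i => (sympBilin d F (u i)).comp W.subtype
      have hΦ : Function.Surjective Φ := by
        refine (LinearMap.injective_iff_surjective_of_finrank_eq_finrank ?_).1 (pair U W hc.sup_eq_top hW u hspanU)
        rw [Module.finrank_fintype_fun_eq_card, Fintype.card_fin]
        omega
      choose w hw using fun j : Fin d => hΦ (fun i => Matrix.J (Fin d) F (Sum.inl i) (Sum.inr j))
      let col : Fin d ⊕ Fin d → (Fin d ⊕ Fin d → F) := Sum.elim u (fun j => (w j : W))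
      let M : Matrix (Fin d ⊕ Fin d) (Fin d ⊕ Fin d) F := Matrix.of fun a b => col b a
      have hMc : ∀ b, M *ᵥ Pi.single b 1 = col b := fun b => by
        funext a
        simp [M, Matrix.mulVec_single_one]
      have hcol : ∀ a b, Cfsg.sympForm d F (col a) (col b) = Matrix.J (Fin d) F a b := by
        have hmix : ∀ i j, Cfsg.sympForm d F (u i) (w j : W) = Matrix.J (Fin d) F (Sum.inl i) (Sum.inr j) := by
          intro i j
          have := congrFun (hw j) i
          simpa [Φ, sympBilin_apply] using this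
        rintro (i | i) (j | j)
        · simp [col, hU _ (huU i) _ (huU j), Matrix.J]
        · simpa [col] using hmix i j
        · simp only [col, Sum.elim_inl, Sum.elim_inr]
          rw [Cfsg.Agent.Lib.Geometry.sympForm_swap, hmix]
          simp [Matrix.J, Matrix.one_apply]
          split_ifs <;> simp_all
        · simp [col, hW _ (w i).2 _ (w j).2, Matrix.J]
      have hM : M ∈ Matrix.symplecticGroup (Fin d) F := by
        rw [SymplecticGroup.mem_iff']
        ext a b
        have h := hcol a b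
        rw [← hMc, ← hMc, Cfsg.Agent.Lib.Geometry.sympForm_mulVec] at h
        simpa [Matrix.mulVec_single_one, single_one_dotProduct] using h
      refine ⟨⟨M, hM⟩, ?_⟩
      have h1 : P₀.1.map (L ⟨M, hM⟩) ≤ U := by
        rw [Submodule.map_span, Submodule.span_le]
        rintro _ ⟨_, ⟨i, rfl⟩, rfl⟩
        show Matrix.toLin' M (Ei i) ∈ U
        rw [Matrix.toLin'_apply, hMc]
        exact huU i
      have h2 : P₀.2.map (L ⟨M, hM⟩) ≤ W := by
        rw [Submodule.map_span, Submodule.span_le]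
        rintro _ ⟨_, ⟨i, rfl⟩, rfl⟩
        show Matrix.toLin' M (Ej i) ∈ W
        rw [Matrix.toLin'_apply, hMc]
        exact (w i).2
      have h3 : P₀.1.map (L ⟨M, hM⟩) ⊔ P₀.2.map (L ⟨M, hM⟩) = ⊤ := by
        rw [← Submodule.map_sup, hP₀p.1.sup_eq_top, Submodule.map_top, LinearMap.range_eq_top.2 (hbij _).2]
      show (P₀.1.map (L ⟨M, hM⟩), P₀.2.map (L ⟨M, hM⟩)) = (U, W)
      have hinjU : U ≤ P₀.1.map (L ⟨M, hM⟩) := by
        intro v hv
        obtain ⟨a, ha, b, hb, hab⟩ := Submodule.mem_sup.1 (h3 ▸ Submodule.mem_top : v ∈ _ ⊔ _)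
        have : b ∈ U ⊓ W := ⟨(show b = v - a by rw [← hab]; abel) ▸ U.sub_mem hv (h1 ha), h2 hb⟩
        rw [hc.inf_eq_bot, Submodule.mem_bot] at this
        rw [← hab, this, add_zero]
        exact ha
      have hinjW : W ≤ P₀.2.map (L ⟨M, hM⟩) := by
        intro v hv
        obtain ⟨a, ha, b, hb, hab⟩ := Submodule.mem_sup.1 (h3 ▸ Submodule.mem_top : v ∈ _ ⊔ _)
        have : a ∈ U ⊓ W := ⟨h1 ha, (show a = v - b by rw [← hab]; abel) ▸ W.sub_mem hv (h2 hb)⟩
        rw [hc.inf_eq_bot, Submodule.mem_bot] at this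
        rw [← hab, this, zero_add]
        exact hb
      rw [le_antisymm h1 hinjU, le_antisymm h2 hinjW]
    · rintro ⟨g, rfl⟩
      obtain ⟨hc, hU, hW⟩ := hP₀p
      refine ⟨?_, ?_, ?_⟩
      · refine ⟨?_, ?_⟩
        · show Disjoint (P₀.1.map (L g)) (P₀.2.map (L g))
          rw [disjoint_iff, ← Submodule.map_inf _ (hbij g).1, hc.inf_eq_bot, Submodule.map_bot]
        · show Codisjoint (P₀.1.map (L g)) (P₀.2.map (L g))
          rw [codisjoint_iff, ← Submodule.map_sup, hc.sup_eq_top, Submodule.map_top, LinearMap.range_eq_top.2 (hbij g).2]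
      · rintro _ ⟨u, hu, rfl⟩ _ ⟨v, hv, rfl⟩
        rw [hL]; exact hU u hu v hv
      · rintro _ ⟨u, hu, rfl⟩ _ ⟨v, hv, rfl⟩
        rw [hL]; exact hW u hu v hv
  rw [Nat.card_congr (Equiv.subtypeEquivRight (q := fun P => P ∈ MulAction.orbit S P₀) horbit)] at hr
  have hr' : r ∣ (MulAction.stabilizer S P₀).index := by
    rwa [Subgroup.index, ← Nat.card_congr (MulAction.orbitEquivQuotientStabilizer S P₀)]
  -- the stabilizer contains the general linear group
  let D : GL (Fin d) F → Matrix (Fin d ⊕ Fin d) (Fin d ⊕ Fin d) F := fun A =>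
    Matrix.fromBlocks (A : Matrix (Fin d) (Fin d) F) 0 0 ((A⁻¹ : GL (Fin d) F) : Matrix (Fin d) (Fin d) F)ᵀ
  have hD : ∀ A, D A ∈ Matrix.symplecticGroup (Fin d) F := fun A => by
    rw [SymplecticGroup.mem_iff]
    simp [D, Matrix.J, fromBlocks_multiply, fromBlocks_transpose]
    rw [← transpose_mul, ← Matrix.coe_units_inv, ← Units.val_mul, mul_inv_cancel, Units.val_one, transpose_one]
  let ψ : GL (Fin d) F →* S :=
    { toFun := fun A => ⟨D A, hD A⟩
      map_one' := Subtype.ext (by simp [D, fromBlocks_one])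
      map_mul' := fun A B => Subtype.ext (by simp [D, fromBlocks_multiply, Matrix.transpose_mul, Matrix.mul_inv_rev]) }
  have hψinj : Function.Injective ψ := fun A B h => by
    have := congrArg (fun s : S => (s : Matrix (Fin d ⊕ Fin d) (Fin d ⊕ Fin d) F)) h
    exact Units.ext (Matrix.fromBlocks_inj.1 this).1
  have hψst : ψ.range ≤ MulAction.stabilizer S P₀ := by
    rintro _ ⟨A, rfl⟩
    show (P₀.1.map (L (ψ A)), P₀.2.map (L (ψ A))) = P₀
    have eqm : ∀ (P : Submodule F (Fin d ⊕ Fin d → F)), P.map (L (ψ A)) ≤ P → P.map (L (ψ A)) = P := fun P h =>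
      Submodule.eq_of_le_of_finrank_le h (le_of_eq (Submodule.equivMapOfInjective _ (hbij _).1 P).finrank_eq)
    have e1 : P₀.1.map (L (ψ A)) = P₀.1 := by
      refine eqm _ ?_
      rw [Submodule.map_span, Submodule.span_le]
      rintro _ ⟨_, ⟨i, rfl⟩, rfl⟩
      show Matrix.toLin' (D A) (Ei i) ∈ Submodule.span F (Set.range Ei)
      have : Matrix.toLin' (D A) (Ei i) = ∑ k, (A : Matrix (Fin d) (Fin d) F) k i • Ei k := by
        funext k
        rcases k with k | k <;> simp [D, Ei, Pi.single_apply]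
      rw [this]
      exact Submodule.sum_mem _ fun k _ => Submodule.smul_mem _ _ (Submodule.subset_span ⟨k, rfl⟩)
    have e2 : P₀.2.map (L (ψ A)) = P₀.2 := by
      refine eqm _ ?_
      rw [Submodule.map_span, Submodule.span_le]
      rintro _ ⟨_, ⟨i, rfl⟩, rfl⟩
      show Matrix.toLin' (D A) (Ej i) ∈ Submodule.span F (Set.range Ej)
      have : Matrix.toLin' (D A) (Ej i) = ∑ k, ((A⁻¹ : GL (Fin d) F) : Matrix (Fin d) (Fin d) F) i k • Ej k := by
        funext k
        rcases k with k | k <;> simp [D, Ej, Pi.single_apply]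
      rw [this]
      exact Submodule.sum_mem _ fun k _ => Submodule.smul_mem _ _ (Submodule.subset_span ⟨k, rfl⟩)
    rw [e1, e2]
  have hGL : Nat.card (GL (Fin d) F) ∣ Nat.card (MulAction.stabilizer S P₀) := by
    rw [Nat.card_congr (MonoidHom.ofInjective hψinj).toEquiv]
    exact Subgroup.card_dvd_of_le hψst
  have hmain : r * Nat.card (GL (Fin d) F) ∣ Nat.card S := by
    rw [← (MulAction.stabilizer S P₀).index_mul_card]
    exact mul_dvd_mul hr' hGL
  rw [Cfsg.Agent.Lib.Classical.card_sp, Matrix.card_GL_field] at hmain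
  have hfac : ∏ i : Fin d, (q ^ d - q ^ (i : ℕ)) =
      q ^ (∑ i ∈ Finset.range d, i) * ∏ i ∈ Finset.range d, (q ^ (i + 1) - 1) := by
    rw [Fin.prod_univ_eq_prod_range (fun i => q ^ d - q ^ i), ← Finset.prod_pow_eq_pow_sum,
      ← Finset.prod_range_reflect (fun i => q ^ (i + 1) - 1) d, ← Finset.prod_mul_distrib]
    refine Finset.prod_congr rfl fun i hi => ?_
    rw [Finset.mem_range] at hi
    rw [Nat.mul_sub, mul_one, ← pow_add]
    congr 2
    omega
  have hsq : ∏ i ∈ Finset.range d, (q ^ (2 * (i + 1)) - 1) =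
      (∏ i ∈ Finset.range d, (q ^ (i + 1) - 1)) * ∏ i ∈ Finset.range d, (q ^ (i + 1) + 1) := by
    rw [← Finset.prod_mul_distrib]
    refine Finset.prod_congr rfl fun i _ => ?_
    have h := Nat.sq_sub_sq (q ^ (i + 1)) 1
    rw [one_pow, ← pow_mul] at h
    rw [mul_comm 2 (i + 1), h, mul_comm]
  rw [← hq, hfac, hsq] at hmain
  have hP : 0 < ∏ i ∈ Finset.range d, (q ^ (i + 1) - 1) :=
    Finset.prod_pos fun i _ => Nat.sub_pos_of_lt (Nat.one_lt_pow (by omega) Fintype.one_lt_card)
  have h5 : r * q ^ (∑ i ∈ Finset.range d, i) ∣ q ^ d ^ 2 * ∏ i ∈ Finset.range d, (q ^ (i + 1) + 1) :=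
    Nat.dvd_of_mul_dvd_mul_right hP (by
      calc _ ∣ _ := (dvd_of_eq (by ring)).trans hmain
        _ = _ := by ring)
  rcases (Nat.Prime.dvd_mul Fact.out).1 ((dvd_mul_right r _).trans h5) with h | h
  · exact absurd ((Fact.out : r.Prime).dvd_of_dvd_pow h) hrq
  · obtain ⟨i, hi, hdvd⟩ := (Prime.dvd_finset_prod_iff (Fact.out : r.Prime).prime _).1 h
    exact ⟨i + 1, by omega, Finset.mem_range.1 hi, hdvd⟩

end

/-- Derangements of odd prime order of PSp_n(q), q odd, on pairs of complementary totally isotropic subspaces. Here `T = PSp_n(q)`, `n = 2d ≥ 4`, `q` odd, realised through the symplectic matrices over the field `F` with `q` elements; Ω is the set of unordered pairs `{U, W}` of complementary totally isotropic `d`-spaces (`F^n = U ⊕ W`), whose stabilizers are the subgroups of type GL_d(q).2 (maximal except in some small cases; maximality is not assumed); an element of `T` of prime order `r` (a symplectic matrix `x` with `x^r` scalar, `x` not scalar) fixes such a pair when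 it fixes or interchanges `U` and `W`. For every odd prime `r ≠ p` dividing the number of such pairs, some element of `T` of order `r` fixes no such pair (the action is never `r`-elusive for odd `r ≠ p`). -/
theorem result {F : Type*} [Field F] [Fintype F] {p : ℕ} [Fact p.Prime] [CharP F p] {q : ℕ} (hq : Fintype.card F = q)
    (d : ℕ) (hd : 2 ≤ d) (hT : (d, q) ≠ (2, 2)) (hodd : Odd q)
    (r : ℕ) [Fact r.Prime] (hr2 : r ≠ 2) (hrp : r ≠ p) (hΩ : r ∣ Nat.card {P : Submodule F (Fin d ⊕ Fin d → F) × Submodule F (Fin d ⊕ Fin d → F) // IsCompl P.1 P.2 ∧ (∀ u ∈ P.1, ∀ v ∈ P.1, Cfsg.sympForm d F u v = 0) ∧ (∀ u ∈ P.2, ∀ v ∈ P.2, Cfsg.sympForm d F u v = 0)} / 2) :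
    ∃ x : ↥(Matrix.symplecticGroup (Fin d) F),
      (∃ z : F, ((x ^ r : ↥(Matrix.symplecticGroup (Fin d) F)) : Matrix (Fin d ⊕ Fin d) (Fin d ⊕ Fin d) F) = z • (1 : Matrix (Fin d ⊕ Fin d) (Fin d ⊕ Fin d) F)) ∧
      (∀ z : F, (x : Matrix (Fin d ⊕ Fin d) (Fin d ⊕ Fin d) F) ≠ z • (1 : Matrix (Fin d ⊕ Fin d) (Fin d ⊕ Fin d) F)) ∧
      ¬ (∃ U W : Submodule F (Fin d ⊕ Fin d → F), IsCompl U W ∧ (∀ u ∈ U, ∀ v ∈ U, Cfsg.sympForm d F u v = 0) ∧ (∀ u ∈ W, ∀ v ∈ W, Cfsg.sympForm d F u v = 0) ∧
        ((U.map (Matrix.toLin' (x : Matrix (Fin d ⊕ Fin d) (Fin d ⊕ Fin d) F)) = U ∧ W.map (Matrix.toLin' (x : Matrix (Fin d ⊕ Fin d) (Fin d ⊕ Fin d) F)) = W) ∨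
         (U.map (Matrix.toLin' (x : Matrix (Fin d ⊕ Fin d) (Fin d ⊕ Fin d) F)) = W ∧ W.map (Matrix.toLin' (x : Matrix (Fin d ⊕ Fin d) (Fin d ⊕ Fin d) F)) = U))) := by
  classical
  obtain rfl := hq
  have hrq : ¬ r ∣ Fintype.card F := by
    intro h
    obtain ⟨n, -, hn⟩ := FiniteField.card F p
    rw [hn] at h
    exact hrp ((Nat.prime_dvd_prime_iff_eq Fact.out Fact.out).1 ((Fact.out : r.Prime).dvd_of_dvd_pow h))
  have hdiv2 : r ∣ Nat.card {P : Submodule F (Fin d ⊕ Fin d → F) × Submodule F (Fin d ⊕ Fin d → F) // Polar P} := by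
    show r ∣ Nat.card {P : Submodule F (Fin d ⊕ Fin d → F) × Submodule F (Fin d ⊕ Fin d → F) //
      IsCompl P.1 P.2 ∧ _ ∧ _}
    obtain ⟨k, hk⟩ := hΩ
    by_contra hc
    rcases Nat.even_or_odd (Nat.card {P : Submodule F (Fin d ⊕ Fin d → F) × Submodule F (Fin d ⊕ Fin d → F) //
      IsCompl P.1 P.2 ∧ (∀ u ∈ P.1, ∀ v ∈ P.1, Cfsg.sympForm d F u v = 0) ∧ (∀ u ∈ P.2, ∀ v ∈ P.2, Cfsg.sympForm d F u v = 0)})
      with ⟨c, hcc⟩ | ⟨c, hcc⟩
    · exact hc ⟨2 * k, by rw [hcc, show c = r * k by omega]; ring⟩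
    · -- the number of polar pairs is even: `(U, W)` and `(W, U)`
      let σ : Function.End {P : Submodule F (Fin d ⊕ Fin d → F) × Submodule F (Fin d ⊕ Fin d → F) //
          IsCompl P.1 P.2 ∧ (∀ u ∈ P.1, ∀ v ∈ P.1, Cfsg.sympForm d F u v = 0) ∧ (∀ u ∈ P.2, ∀ v ∈ P.2, Cfsg.sympForm d F u v = 0)} :=
        fun P => ⟨(P.1.2, P.1.1), P.2.1.symm, P.2.2.2, P.2.2.1⟩
      letI := Fintype.ofFinite {P : Submodule F (Fin d ⊕ Fin d → F) × Submodule F (Fin d ⊕ Fin d → F) //
          IsCompl P.1 P.2 ∧ (∀ u ∈ P.1, ∀ v ∈ P.1, Cfsg.sympForm d F u v = 0) ∧ (∀ u ∈ P.2, ∀ v ∈ P.2, Cfsg.sympForm d F u v = 0)}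
      have h := Equiv.Perm.card_fixedPoints_modEq (p := 2) (n := 1) (f := σ) rfl
      have h0 : IsEmpty (Function.fixedPoints σ) := by
        refine ⟨fun P => ?_⟩
        have e : P.1.1.2 = P.1.1.1 := congrArg (fun Q => Q.1.1) P.2
        have h1 := P.1.2.1
        rw [e] at h1
        have hb : P.1.1.1 = ⊥ := by simpa using h1.inf_eq_bot
        have ht : P.1.1.1 = ⊤ := by simpa using h1.sup_eq_top
        have := congrArg (fun S : Submodule F (Fin d ⊕ Fin d → F) => Module.finrank F S) (hb.symm.trans ht)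
        simp at this
        omega
      rw [Fintype.card_eq_zero (α := Function.fixedPoints σ), ← Nat.card_eq_fintype_card, hcc] at h
      unfold Nat.ModEq at h
      omega
  obtain ⟨i₀, hi₀pos, hi₀d, hi₀⟩ := dvd_pow_add_one hrq hdiv2
  have hex : ∃ i, 0 < i ∧ r ∣ Fintype.card F ^ i + 1 := ⟨i₀, hi₀pos, hi₀⟩
  set m := Nat.find hex with hm
  obtain ⟨hm0, hmr⟩ := Nat.find_spec hex
  have hmd : m ≤ d := (Nat.find_min' hex ⟨hi₀pos, hi₀⟩).trans hi₀d
  have hmmin : ∀ j, 0 < j → r ∣ Fintype.card F ^ j + 1 → m ≤ j := fun j h1 h2 => Nat.find_min' hex ⟨h1, h2⟩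
  -- an element of order `r` of the small symplectic group
  have hSp : r ∣ Nat.card (Matrix.symplecticGroup (Fin m) F) := by
    rw [Cfsg.Agent.Lib.Classical.card_sp]
    refine Dvd.dvd.mul_left (dvd_trans ?_ (Finset.dvd_prod_of_mem _ (Finset.mem_range.2 (show m - 1 < m by omega)))) _
    rw [show m - 1 + 1 = m by omega, mul_comm 2 m, pow_mul, ← one_pow 2, Nat.sq_sub_sq]
    exact dvd_mul_of_dvd_left hmr _
  obtain ⟨a, ha⟩ := exists_prime_orderOf_dvd_card' r hSp
  set A := Matrix.toLin' (a : Matrix (Fin m ⊕ Fin m) (Fin m ⊕ Fin m) F) with hA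
  have hAiso : ∀ u v, Cfsg.sympForm m F (A u) (A v) = Cfsg.sympForm m F u v := fun u v => by
    rw [hA, Matrix.toLin'_apply, Matrix.toLin'_apply]
    exact mem_symplecticGroup_iff_form.1 a.2 u v
  have hAr : A ^ r = 1 := by
    rw [hA, ← Matrix.toLin'_pow, ← SubmonoidClass.coe_pow, ← ha, pow_orderOf_eq_one]
    exact Matrix.toLin'_one
  have hrF : (r : F) ≠ 0 := fun h => hrp
    (((Nat.prime_dvd_prime_iff_eq Fact.out Fact.out).1 ((CharP.cast_eq_zero_iff F p r).1 h)).symm)
  have hAr' : ∀ v, (A ^ r) v = v := fun v => by rw [hAr]; rfl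
  set R := LinearMap.range (A - 1) with hR
  have hRA : ∀ v ∈ R, A v ∈ R := by
    rintro _ ⟨w, rfl⟩
    exact ⟨A w, by simp⟩
  have hRfix : ∀ v ∈ R, A v = v → v = 0 := by
    rintro _ ⟨w, rfl⟩ hv
    have hk : ∀ k : ℕ, (A ^ k) w = w + k • ((A - 1) w) := by
      intro k
      induction k with
      | zero => simp
      | succ k ih =>
        rw [pow_succ', Module.End.mul_apply, ih, map_add, map_nsmul, hv, succ_nsmul]
        simp only [LinearMap.sub_apply, Module.End.one_apply]
        abel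
    have h1 := hk r
    rw [hAr', eq_comm, add_eq_left, ← Nat.cast_smul_eq_nsmul F] at h1
    exact (smul_eq_zero.1 h1).resolve_left hrF
  have hfpf : ∀ v, A v = v → v = 0 := by
    have hRtop : R = ⊤ := by
      have h1 := two_mul_dvd hr2 hm0 hmr hmmin (dvd_card_sub_one A hAr' R hRA hRfix) Fintype.card_pos
      have hne : Module.finrank F R ≠ 0 := by
        intro h
        rw [Submodule.finrank_eq_zero, hR, LinearMap.range_eq_bot, sub_eq_zero] at h
        have : a = 1 := Subtype.ext (Matrix.toLin'.injective (by rw [← hA, h]; exact Matrix.toLin'_one.symm))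
        rw [this, orderOf_one] at ha
        exact (Fact.out : r.Prime).one_lt.ne ha
      refine Submodule.eq_top_of_finrank_eq (le_antisymm (Submodule.finrank_le _) ?_)
      rw [Module.finrank_fintype_fun_eq_card, Fintype.card_sum, Fintype.card_fin]
      have := Nat.le_of_dvd (Nat.pos_of_ne_zero hne) h1
      omega
    exact fun v hv => hRfix v (hRtop ▸ Submodule.mem_top) hv
  -- embed it
  let c : Fin m ⊕ Fin m → Fin d ⊕ Fin d := Sum.map (Fin.castLE hmd) (Fin.castLE hmd)
  have hc : Function.Injective c := (Fin.castLE_injective hmd).sumMap (Fin.castLE_injective hmd)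
  let π : (Fin d ⊕ Fin d → F) →ₗ[F] (Fin m ⊕ Fin m → F) := LinearMap.funLeft F F c
  let σ : (Fin m ⊕ Fin m → F) →ₗ[F] (Fin d ⊕ Fin d → F) := Function.ExtendByZero.linearMap F c
  have hπσ : ∀ w, π (σ w) = w := fun w => funext fun k => hc.extend_apply w 0 k
  have hfσ : ∀ u w, Cfsg.sympForm d F u (σ w) = Cfsg.sympForm m F (π u) w := by
    intro u w
    rw [sympForm_eq_sum, sympForm_eq_sum]
    symm
    refine Finset.sum_of_injOn (Fin.castLE hmd) (Fin.castLE_injective hmd).injOn (fun _ _ => Finset.mem_coe.2 (Finset.mem_univ _))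
      (fun i _ hi => ?_) (fun i _ => ?_)
    · have h1 : ∀ k, c k ≠ Sum.inl i ∧ c k ≠ Sum.inr i := by
        rintro (k | k) <;> simp [c] <;> intro h <;> exact hi ⟨k, by simp, h⟩
      have e1 : σ w (Sum.inl i) = 0 := Function.extend_apply' _ _ _ fun ⟨k, hk⟩ => (h1 k).1 hk
      have e2 : σ w (Sum.inr i) = 0 := Function.extend_apply' _ _ _ fun ⟨k, hk⟩ => (h1 k).2 hk
      rw [e1, e2]; ring
    · have e1 : σ w (Sum.inl (Fin.castLE hmd i)) = w (Sum.inl i) := hc.extend_apply w 0 (Sum.inl i)
      have e2 : σ w (Sum.inr (Fin.castLE hmd i)) = w (Sum.inr i) := hc.extend_apply w 0 (Sum.inr i)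
      rw [e1, e2]
      rfl
  have hσf : ∀ u w, Cfsg.sympForm d F (σ w) u = Cfsg.sympForm m F w (π u) := fun u w => by
    rw [Cfsg.Agent.Lib.Geometry.sympForm_swap, hfσ, ← Cfsg.Agent.Lib.Geometry.sympForm_swap]
  set X : (Fin d ⊕ Fin d → F) →ₗ[F] (Fin d ⊕ Fin d → F) := LinearMap.id + σ ∘ₗ (A - 1) ∘ₗ π with hX
  have hXv : ∀ v, X v = v + σ (A (π v) - π v) := fun v => rfl
  have hπX : ∀ v, π (X v) = A (π v) := fun v => by
    rw [hXv, map_add, hπσ]; abel
  have hXiso : ∀ u v, Cfsg.sympForm d F (X u) (X v) = Cfsg.sympForm d F u v := by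
    intro u v
    simp only [← sympBilin_apply, hXv, map_add, LinearMap.add_apply]
    simp only [sympBilin_apply, hfσ, hσf, hπσ]
    simp only [← sympBilin_apply, map_sub, LinearMap.sub_apply]
    simp only [sympBilin_apply, hAiso]
    ring
  have hXmem : LinearMap.toMatrix' X ∈ Matrix.symplecticGroup (Fin d) F := by
    rw [mem_symplecticGroup_iff_form]
    intro u v
    rw [← Matrix.toLin'_apply, ← Matrix.toLin'_apply, Matrix.toLin'_toMatrix', hXiso]
  have hXr : ∀ (k : ℕ) v, (X ^ k) v = v + σ ((A ^ k) (π v) - π v) := by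
    intro k
    induction k with
    | zero => intro v; simp
    | succ k ih =>
      intro v
      rw [pow_succ', Module.End.mul_apply, ih, pow_succ', Module.End.mul_apply, hXv, map_add π, hπσ]
      rw [add_sub_cancel, add_assoc, ← map_add σ]
      congr 2
      abel
  have hXpow : X ^ r = 1 := by
    refine LinearMap.ext fun v => ?_
    rw [hXr, hAr', sub_self, map_zero, add_zero]
    rfl
  refine ⟨⟨LinearMap.toMatrix' X, hXmem⟩, ⟨1, ?_⟩, ?_, ?_⟩
  · rw [one_smul, SubmonoidClass.coe_pow]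
    apply Matrix.toLin'.injective
    rw [Matrix.toLin'_pow, Matrix.toLin'_toMatrix', hXpow, Matrix.toLin'_one]
    rfl
  · intro z hz
    have hz' : ∀ v, X v = z • v := fun v => by
      rw [← Matrix.toLin'_toMatrix' X, Matrix.toLin'_apply]
      rw [show LinearMap.toMatrix' X = z • (1 : Matrix (Fin d ⊕ Fin d) (Fin d ⊕ Fin d) F) from hz, Matrix.smul_mulVec,
        Matrix.one_mulVec]
    have hAz : ∀ w, A w = z • w := fun w => by
      have := congrArg π (hz' (σ w))
      rwa [hπX, map_smul, hπσ] at this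
    have i0 : Fin m := ⟨0, hm0⟩
    have hw0 : (Pi.single (Sum.inl i0) 1 : Fin m ⊕ Fin m → F) ≠ 0 := by simp
    have hzk : ∀ k : ℕ, ∀ w, (A ^ k) w = z ^ k • w := by
      intro k
      induction k with
      | zero => intro w; simp
      | succ k ih => intro w; rw [pow_succ', Module.End.mul_apply, ih, map_smul, hAz, smul_smul, ← pow_succ]
    have hzr : z ^ r = 1 := by
      have h := (hzk r (Pi.single (Sum.inl i0) 1)).symm
      rw [hAr'] at h
      by_contra hne
      exact hw0 ((smul_eq_zero.1 (show (z ^ r - 1) • (Pi.single (Sum.inl i0) (1 : F) : Fin m ⊕ Fin m → F) = 0 by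
        rw [sub_smul, one_smul, h, sub_self])).resolve_left (sub_ne_zero.2 hne))
    have hz2 : z ^ 2 = 1 := by
      have h := hAiso (Pi.single (Sum.inl i0) 1) (Pi.single (Sum.inr i0) 1)
      rw [hAz, hAz] at h
      simp only [← sympBilin_apply, map_smul, LinearMap.smul_apply, smul_eq_mul] at h
      have hne : sympBilin m F (Pi.single (Sum.inl i0) 1) (Pi.single (Sum.inr i0) 1) ≠ 0 := by
        rw [sympBilin_apply]
        simp [Cfsg.sympForm, Matrix.mulVec_single_one, single_one_dotProduct, Matrix.J]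
      exact mul_right_cancel₀ hne (by linear_combination h)
    have hz1 : z = 1 := by
      obtain ⟨k, hk⟩ := (Fact.out : r.Prime).odd_of_ne_two hr2
      rw [hk, pow_succ, pow_mul, hz2, one_pow, one_mul] at hzr
      exact hzr
    exact hw0 (hfpf _ (by rw [hAz, hz1, one_smul]))
  · rintro ⟨U, W, hUW, hU, hW, hxUW⟩
    have hXtl : Matrix.toLin' ((⟨LinearMap.toMatrix' X, hXmem⟩ : Matrix.symplecticGroup (Fin d) F) :
        Matrix (Fin d ⊕ Fin d) (Fin d ⊕ Fin d) F) = X := Matrix.toLin'_toMatrix' X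
    rw [hXtl] at hxUW
    -- an isotropic invariant subspace is fixed
    have key : ∀ U : Submodule F (Fin d ⊕ Fin d → F), (∀ u ∈ U, ∀ v ∈ U, Cfsg.sympForm d F u v = 0) →
        (∀ u ∈ U, X u ∈ U) → ∀ u ∈ U, A (π u) = π u := by
      intro U hU hinv
      set U' := U.comap σ with hU'
      have hU'A : ∀ w ∈ U', A w ∈ U' := by
        intro w hw
        show σ (A w) ∈ U
        have e : X (σ w) = σ (A w) := by
          rw [hXv, hπσ, ← map_add, add_sub_cancel]
        rw [← e]
        exact hinv _ hw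
      have hU'top : U' ≠ ⊤ := by
        intro h
        have i0 : Fin m := ⟨0, hm0⟩
        have h1 := hU (σ (Pi.single (Sum.inl i0) 1)) (h ▸ Submodule.mem_top : _ ∈ U')
          (σ (Pi.single (Sum.inr i0) 1)) (h ▸ Submodule.mem_top : _ ∈ U')
        rw [hfσ, hπσ] at h1
        simp [Cfsg.sympForm, Matrix.mulVec_single_one, single_one_dotProduct, Matrix.J] at h1
      have hU'0 : U' = ⊥ := by
        rw [← Submodule.finrank_eq_zero]
        by_contra hne
        have h1 := two_mul_dvd hr2 hm0 hmr hmmin (dvd_card_sub_one A hAr' U' hU'A fun v _ => hfpf v) Fintype.card_pos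
        have h2 := Submodule.finrank_lt hU'top
        rw [Module.finrank_fintype_fun_eq_card, Fintype.card_sum, Fintype.card_fin] at h2
        have := Nat.le_of_dvd (Nat.pos_of_ne_zero hne) h1
        omega
      intro u hu
      have h1 : A (π u) - π u ∈ U' := by
        show σ (A (π u) - π u) ∈ U
        rw [show σ (A (π u) - π u) = X u - u by rw [hXv]; abel]
        exact U.sub_mem (hinv u hu) hu
      rw [hU'0, Submodule.mem_bot, sub_eq_zero] at h1
      exact h1
    have hfixed : U.map X = U ∧ W.map X = W := by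
      rcases hxUW with h | ⟨h1, h2⟩
      · exact h
      · exfalso
        obtain ⟨k, hk⟩ := (Fact.out : r.Prime).odd_of_ne_two hr2
        have hcomp : ∀ k : ℕ, U.map (X ^ (2 * k)) = U := by
          intro k
          induction k with
          | zero => simp [Module.End.one_eq_id]
          | succ k ih =>
            rw [show 2 * (k + 1) = 2 + 2 * k by ring, pow_add, Module.End.mul_eq_comp, Submodule.map_comp, ih, pow_two,
              Module.End.mul_eq_comp, Submodule.map_comp, h1, h2]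
        have e : U.map (X ^ r) = W := by
          rw [hk, add_comm, pow_add, pow_one, Module.End.mul_eq_comp, Submodule.map_comp, hcomp, h1]
        rw [hXpow, Module.End.one_eq_id, Submodule.map_id] at e
        subst e
        have hb : U = ⊥ := by simpa using hUW.inf_eq_bot
        have ht : U = ⊤ := by simpa using hUW.sup_eq_top
        have := congrArg (fun S : Submodule F (Fin d ⊕ Fin d → F) => Module.finrank F S) (hb.symm.trans ht)
        simp at this
        omega
    have hUi : ∀ u ∈ U, X u ∈ U := fun u hu => hfixed.1 ▸ Submodule.mem_map_of_mem hu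
    have hWi : ∀ u ∈ W, X u ∈ W := fun u hu => hfixed.2 ▸ Submodule.mem_map_of_mem hu
    have hall : ∀ w, A w = w := by
      intro w
      obtain ⟨u, hu, v, hv, huv⟩ := Submodule.mem_sup.1 (hUW.sup_eq_top ▸ Submodule.mem_top : σ w ∈ U ⊔ W)
      rw [← hπσ w, ← huv, map_add, map_add, key U hU hUi u hu, key W hW hWi v hv]
    have i0 : Fin m := ⟨0, hm0⟩
    have := hfpf (Pi.single (Sum.inl i0) 1) (hall _)
    simp at this

end Cfsg.Agent.S5963
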