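import Cfsg.Statements.S5964
import Cfsg.Agent.Lib.MaxSub.PrimeElemFlags
import Cfsg.Agent.Lib.Classical.LinearCard
import Cfsg.Prelude.Def_GeometricClasses
import Mathlib

set_option autoImplicit false
set_option maxHeartbeats 1000000
open scoped MatrixGroups
open Cfsg

namespace Cfsg.Agent.S5964

open Module Cfsg.Agent.Lib.MaxSub

variable {F : Type*} [Field F] {n : ℕ}

/-- Conjugates into the subfield group from a frame with a correcting map. -/
theorem mem_of_frame (F₀ : Subfield F) (x : Matrix.SpecialLinearGroup (Fin n) F) {a : F} (ha : a ≠ 0)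
    (M₀ : Matrix (Fin n) (Fin n) F) (hent : ∀ i j, M₀ i j ∈ F₀) (S : Matrix (Fin n) (Fin n) F) (hS : S.det = 1)
    (h : (x : Matrix (Fin n) (Fin n) F) * S = S * (a • M₀)) :
    ∃ P : Matrix.SpecialLinearGroup (Fin n) F, P⁻¹ * x * P ∈
      ((Cfsg.Geo.subfieldSubgroup F₀ 1).comap (Matrix.SpecialLinearGroup.toGL : Matrix.SpecialLinearGroup (Fin n) F →* GL (Fin n) F)) := by
  classical
  set P : Matrix.SpecialLinearGroup (Fin n) F := ⟨S, hS⟩ with hP
  refine ⟨P, ?_⟩
  have he : ((P⁻¹ * x * P : Matrix.SpecialLinearGroup (Fin n) F) : Matrix (Fin n) (Fin n) F) = a • M₀ := by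
    rw [Matrix.SpecialLinearGroup.coe_mul, Matrix.SpecialLinearGroup.coe_mul, Matrix.mul_assoc]
    show _ * ((x : Matrix (Fin n) (Fin n) F) * S) = _
    rw [h, ← Matrix.mul_assoc, show S = (P : Matrix (Fin n) (Fin n) F) from rfl, ← Matrix.SpecialLinearGroup.coe_mul,
      inv_mul_cancel, Matrix.SpecialLinearGroup.coe_one, Matrix.one_mul]
  set g := P⁻¹ * x * P with hg
  let A : Matrix (Fin n) (Fin n) F₀ := Matrix.of fun i j => ⟨M₀ i j, hent i j⟩
  have hmap : A.map F₀.subtype = M₀ := rfl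
  have hA : A.det ≠ 0 := by
    intro h0
    have h1 := RingHom.map_det F₀.subtype A
    rw [RingHom.mapMatrix_apply, hmap, h0, map_zero] at h1
    have h2 := congrArg Matrix.det he
    rw [g.2, Matrix.det_smul, ← h1, mul_zero] at h2
    exact one_ne_zero h2
  refine ⟨Matrix.GeneralLinearGroup.map F₀.subtype (Matrix.GeneralLinearGroup.mkOfDetNeZero A hA) *
    Units.map (Matrix.scalar (Fin n) : F →+* Matrix (Fin n) (Fin n) F).toMonoidHom (Units.mk0 a ha),
    mul_mem (Subgroup.mem_sup_left ⟨_, rfl⟩) (Subgroup.mem_sup_right ⟨_, rfl⟩), ?_⟩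
  rw [MulEquiv.coe_toMonoidHom, MulAut.conj_apply, one_mul, inv_one, mul_one]
  apply Units.ext
  refine Eq.trans ?_ he.symm
  show M₀ * Matrix.scalar (Fin n) a = a • M₀
  rw [Matrix.scalar_apply, ← Matrix.smul_one_eq_diagonal, Matrix.mul_smul, Matrix.mul_one]

theorem sq_in_subfield (hn : 0 < n) (F₀ : Subfield F) {x P : Matrix.SpecialLinearGroup (Fin n) F} {z : F}
    (hz : (x : Matrix (Fin n) (Fin n) F) ^ 2 = z • 1)
    (h : P⁻¹ * x * P ∈ ((Cfsg.Geo.subfieldSubgroup F₀ 1).comap (Matrix.SpecialLinearGroup.toGL : Matrix.SpecialLinearGroup (Fin n) F →* GL (Fin n) F))) :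
    ∃ c : F, c ≠ 0 ∧ z / (c * c) ∈ F₀ := by
  classical
  obtain ⟨h', hh', he⟩ := h
  have hnorm : (Cfsg.Geo.scalars (Fin n) F).Normal := by
    refine ⟨?_⟩
    rintro _ ⟨u, rfl⟩ g
    refine ⟨u, ?_⟩
    rw [eq_mul_inv_iff_mul_eq]
    exact Units.ext ((Matrix.scalar_commute (u : F) (fun r => Commute.all _ r) (g : Matrix (Fin n) (Fin n) F)).eq)
  obtain ⟨_, ⟨h₀, rfl⟩, _, ⟨c, rfl⟩, rfl⟩ := (Subgroup.mem_sup_of_normal_right (ht := hnorm)).mp hh'
  rw [MulEquiv.coe_toMonoidHom, MulAut.conj_apply, one_mul, inv_one, mul_one] at he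
  have he' : (h₀ : Matrix (Fin n) (Fin n) F₀).map F₀.subtype * Matrix.scalar (Fin n) (c : F) =
      ((P⁻¹ * x * P : Matrix.SpecialLinearGroup (Fin n) F) : Matrix (Fin n) (Fin n) F) := congrArg Units.val he
  rw [Matrix.scalar_apply, ← Matrix.smul_one_eq_diagonal, Matrix.mul_smul, Matrix.mul_one] at he'
  have hsq : ((P⁻¹ * x * P : Matrix.SpecialLinearGroup (Fin n) F) : Matrix (Fin n) (Fin n) F) ^ 2 = z • 1 := by
    rw [← Matrix.SpecialLinearGroup.coe_pow, show (P⁻¹ * x * P) ^ 2 = P⁻¹ * x ^ 2 * P by simp [pow_two, mul_assoc],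
      Matrix.SpecialLinearGroup.coe_mul, Matrix.SpecialLinearGroup.coe_mul, Matrix.SpecialLinearGroup.coe_pow, hz,
      Matrix.mul_smul, Matrix.mul_one, Matrix.smul_mul, ← Matrix.SpecialLinearGroup.coe_mul, inv_mul_cancel,
      Matrix.SpecialLinearGroup.coe_one]
  rw [← he', smul_pow] at hsq
  have h1 := congrFun (congrFun hsq ⟨0, hn⟩) ⟨0, hn⟩
  rw [Matrix.smul_apply, Matrix.smul_apply, Matrix.one_apply_eq, smul_eq_mul, smul_eq_mul, mul_one, pow_two (c : F),
    pow_two ((h₀ : Matrix (Fin n) (Fin n) F₀).map _), Matrix.mul_apply] at h1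
  refine ⟨c, c.ne_zero, ?_⟩
  rw [← h1, mul_div_cancel_left₀ _ (mul_ne_zero c.ne_zero c.ne_zero)]
  exact sum_mem fun j _ => F₀.mul_mem (h₀.val _ _).2 (h₀.val _ _).2

/-- Conjugates into the subfield group from a basis. -/
theorem mem_of_basis (F₀ : Subfield F) (x : Matrix.SpecialLinearGroup (Fin n) F) {a : F} (ha : a ≠ 0)
    (b : Basis (Fin n) F (Fin n → F)) (hdet : ((Pi.basisFun F (Fin n)).toMatrix b).det = 1)
    (hent : ∀ j i, b.repr (a⁻¹ • Matrix.toLin' (x : Matrix (Fin n) (Fin n) F) (b j)) i ∈ F₀) :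
    ∃ P : Matrix.SpecialLinearGroup (Fin n) F, P⁻¹ * x * P ∈
      ((Cfsg.Geo.subfieldSubgroup F₀ 1).comap (Matrix.SpecialLinearGroup.toGL : Matrix.SpecialLinearGroup (Fin n) F →* GL (Fin n) F)) := by
  refine mem_of_frame F₀ x ha (Matrix.of fun i j => b.repr (a⁻¹ • Matrix.toLin' (x : Matrix (Fin n) (Fin n) F) (b j)) i)
    (fun i j => hent j i) _ hdet ?_
  ext i j
  have h := congrArg (fun v : Fin n → F => a * v i) (b.sum_repr (a⁻¹ • Matrix.toLin' (x : Matrix (Fin n) (Fin n) F) (b j)))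
  simp only [Finset.sum_apply, Pi.smul_apply, smul_eq_mul, Finset.mul_sum, mul_inv_cancel_left₀ ha] at h
  rw [Matrix.toLin'_apply, Matrix.mulVec, dotProduct] at h
  rw [Matrix.mul_apply, Matrix.mul_apply]
  simp only [Basis.toMatrix_apply, Pi.basisFun_repr, Matrix.smul_apply, Matrix.of_apply, smul_eq_mul]
  rw [← h]
  exact Finset.sum_congr rfl fun k _ => by rw [Matrix.toLin'_apply]; ring

/-- Diagonal case. -/
theorem frame_of_square (h2 : (2 : F) ≠ 0) (hn : 0 < n) (F₀ : Subfield F) (x : Matrix.SpecialLinearGroup (Fin n) F)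
    {a : F} (ha : a ≠ 0) (hy : ∀ v, Matrix.toLin' (x : Matrix (Fin n) (Fin n) F) (Matrix.toLin' (x : Matrix (Fin n) (Fin n) F) v) = (a * a) • v) :
    ∃ P : Matrix.SpecialLinearGroup (Fin n) F, P⁻¹ * x * P ∈
      ((Cfsg.Geo.subfieldSubgroup F₀ 1).comap (Matrix.SpecialLinearGroup.toGL : Matrix.SpecialLinearGroup (Fin n) F →* GL (Fin n) F)) := by
  classical
  set y := Matrix.toLin' (x : Matrix (Fin n) (Fin n) F)
  let Ep := LinearMap.ker (y - a • 1)
  let Em := LinearMap.ker (y + a • 1)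
  have hEp : ∀ v, v ∈ Ep ↔ y v = a • v := fun v => by simp [Ep, sub_eq_zero]
  have hEm : ∀ v, v ∈ Em ↔ y v = (-a) • v := fun v => by simp [Em, add_eq_zero_iff_eq_neg]
  have hc : IsCompl Ep Em := by
    refine IsCompl.of_eq ?_ ?_
    · rw [eq_bot_iff]
      rintro v ⟨h1, h3⟩
      have e : ((2 : F) * a) • v = 0 := by
        rw [two_mul, add_smul]
        nth_rewrite 1 [← (hEp v).1 h1]
        rw [(hEm v).1 h3, neg_smul, neg_add_cancel]
      exact (smul_eq_zero.1 e).resolve_left (mul_ne_zero h2 ha)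
    · rw [eq_top_iff]
      intro v _
      have e : v = ((2 * a)⁻¹) • (a • v + y v) + ((2 * a)⁻¹) • (a • v - y v) := by
        rw [← smul_add, add_add_sub_cancel, ← two_smul F (a • v), smul_smul, smul_smul, mul_assoc, inv_mul_cancel₀ (mul_ne_zero h2 ha),
          one_smul]
      rw [e]
      refine Submodule.add_mem_sup (Ep.smul_mem _ ((hEp _).2 ?_)) (Em.smul_mem _ ((hEm _).2 ?_))
      · rw [map_add, map_smul, hy]; module
      · rw [map_sub, map_smul, hy]; module
  let b0 := ((Module.finBasis F Ep).prod (Module.finBasis F Em)).map (Submodule.prodEquivOfIsCompl Ep Em hc)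
  have hcard : Fintype.card (Fin (finrank F Ep) ⊕ Fin (finrank F Em)) = n := by
    rw [← Module.finrank_eq_card_basis b0, Module.finrank_fin_fun]
  let b : Basis (Fin n) F (Fin n → F) := b0.reindex (Fintype.equivFinOfCardEq hcard)
  have hb : ∀ i, ∃ s ∈ F₀, y (b i) = (a * s) • b i := by
    intro i
    rw [Basis.reindex_apply]
    rcases (Fintype.equivFinOfCardEq hcard).symm i with j | j
    · exact ⟨1, F₀.one_mem, by rw [mul_one]; simpa [b0] using (hEp _).1 (Module.finBasis F Ep j).2⟩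
    · exact ⟨-1, F₀.neg_mem F₀.one_mem, by rw [mul_neg_one]; simpa [b0] using (hEm _).1 (Module.finBasis F Em j).2⟩
  choose s hs hys using hb
  set d := (Matrix.of fun i j => b j i).det with hd
  have hd0 : d ≠ 0 := by
    have h1 : ((Pi.basisFun F (Fin n)).toMatrix b).det ≠ 0 := by
      rw [← Basis.det_apply]; exact ((Pi.basisFun F (Fin n)).isUnit_det b).ne_zero
    rwa [show (Pi.basisFun F (Fin n)).toMatrix b = Matrix.of fun i j => b j i by
      ext i j; simp [Basis.toMatrix_apply]] at h1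
  let ε : Fin n → F := fun j => if j = ⟨0, hn⟩ then d⁻¹ else 1
  refine mem_of_frame F₀ x ha (Matrix.diagonal s) ?_ ((Matrix.of fun i j => b j i) * Matrix.diagonal ε) ?_ ?_
  · intro i j
    rw [Matrix.diagonal_apply]
    split_ifs
    exacts [hs i, F₀.zero_mem]
  · rw [Matrix.det_mul, ← hd, Matrix.det_diagonal]
    simp [ε, mul_inv_cancel₀ hd0]
  · ext i j
    have h1 := congrFun (hys j) i
    rw [Matrix.toLin'_apply, Matrix.mulVec, dotProduct, Pi.smul_apply, smul_eq_mul] at h1
    rw [← Matrix.mul_assoc, Matrix.mul_diagonal, Matrix.mul_apply, ← Matrix.diagonal_smul, Matrix.mul_diagonal,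
      Matrix.mul_diagonal, Matrix.of_apply, Pi.smul_apply, smul_eq_mul]
    simp only [Matrix.of_apply]
    rw [h1]
    ring

/-- Unipotent case. -/
theorem frame_of_two [Fintype F] (h2 : (2 : F) = 0) (hn : 0 < n) (F₀ : Subfield F) (x : Matrix.SpecialLinearGroup (Fin n) F)
    {a : F} (ha : a ≠ 0) (hns : (x : Matrix (Fin n) (Fin n) F) ≠ a • 1)
    (hy : ∀ v, Matrix.toLin' (x : Matrix (Fin n) (Fin n) F) (Matrix.toLin' (x : Matrix (Fin n) (Fin n) F) v) = (a * a) • v) :
    ∃ P : Matrix.SpecialLinearGroup (Fin n) F, P⁻¹ * x * P ∈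
      ((Cfsg.Geo.subfieldSubgroup F₀ 1).comap (Matrix.SpecialLinearGroup.toGL : Matrix.SpecialLinearGroup (Fin n) F →* GL (Fin n) F)) := by
  classical
  set y := Matrix.toLin' (x : Matrix (Fin n) (Fin n) F) with hydef
  set N : End F (Fin n → F) := y - a • 1 with hN
  have hyN : ∀ v, y v = a • v + N v := fun v => by simp [hN]
  have hneg : ∀ v : Fin n → F, v + v = 0 := fun v => by rw [← two_smul F v, h2, zero_smul]
  have hNN : ∀ v, N (N v) = 0 := fun v => by
    have e : N (N v) = (y (y v) + (a * a) • v) - (a • y v + a • y v) := by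
      simp only [hN, LinearMap.sub_apply, LinearMap.smul_apply, End.one_apply, map_sub, map_smul]
      module
    rw [e, hy, hneg, hneg, sub_zero]
  set K := LinearMap.ker N
  set R := LinearMap.range N with hR
  have hRK : R ≤ K := by rintro _ ⟨v, rfl⟩; exact LinearMap.mem_ker.2 (hNN v)
  obtain ⟨C0, hC0⟩ := Submodule.exists_isCompl R
  set C := C0 ⊓ K with hC
  have hKeq : R ⊔ C = K := by rw [hC, ← sup_inf_assoc_of_le C0 hRK, hC0.sup_eq_top, top_inf_eq]
  set s := finrank F R with hs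
  have hCd : finrank F C + (s + s) = n := by
    have h1 := Submodule.finrank_sup_add_finrank_inf_eq R C
    rw [hKeq, (hC0.disjoint.mono_right (inf_le_left : C ≤ C0)).eq_bot, finrank_bot, add_zero] at h1
    have h3 := N.finrank_range_add_finrank_ker
    rw [Module.finrank_fin_fun] at h3
    change finrank F R + finrank F K = n at h3
    omega
  let br := Module.finBasisOfFinrankEq F R hs.symm
  let bc := Module.finBasis F C
  have hpre : ∀ i, ∃ u, N u = (br i : Fin n → F) := fun i => (br i).2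
  choose u hu using hpre
  let fam : Fin (finrank F C) ⊕ (Fin s ⊕ Fin s) → Fin n → F :=
    Sum.elim (fun i => (bc i : Fin n → F)) (Sum.elim u fun i => (br i : Fin n → F))
  have hspan : ⊤ ≤ Submodule.span F (Set.range fam) := by
    intro v _
    set Sp := Submodule.span F (Set.range fam)
    have hu' : ∀ i, u i ∈ Sp := fun i => Submodule.subset_span ⟨Sum.inr (Sum.inl i), rfl⟩
    have hRle : R ≤ Sp := fun z hz => by
      have h := congrArg (Submodule.subtype R) (br.sum_repr ⟨z, hz⟩)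
      rw [map_sum] at h
      rw [show z = Submodule.subtype R ⟨z, hz⟩ from rfl, ← h]
      exact Submodule.sum_mem _ fun i _ => by
        rw [map_smul]; exact Sp.smul_mem _ (Submodule.subset_span ⟨Sum.inr (Sum.inr i), rfl⟩)
    have hCle : C ≤ Sp := fun z hz => by
      have h := congrArg (Submodule.subtype C) (bc.sum_repr ⟨z, hz⟩)
      rw [map_sum] at h
      rw [show z = Submodule.subtype C ⟨z, hz⟩ from rfl, ← h]
      exact Submodule.sum_mem _ fun i _ => by
        rw [map_smul]; exact Sp.smul_mem _ (Submodule.subset_span ⟨Sum.inl i, rfl⟩)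
    set z : Fin n → F := ∑ i, (br.repr ⟨N v, LinearMap.mem_range_self N v⟩ i) • u i
    have hz : N z = N v := by
      have h := congrArg (Submodule.subtype R) (br.sum_repr ⟨N v, LinearMap.mem_range_self N v⟩)
      simp only [map_sum, map_smul] at h ⊢
      simp only [z, map_sum, map_smul, hu]
      exact h
    have hk : v - z ∈ K := LinearMap.mem_ker.2 (by rw [map_sub, hz, sub_self])
    rw [← hKeq] at hk
    have := add_mem (sup_le hRle hCle hk) (Submodule.sum_mem (t := (Finset.univ : Finset (Fin s))) Sp fun i _ => Sp.smul_mem (br.repr ⟨N v, LinearMap.mem_range_self N v⟩ i) (hu' i))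
    rwa [sub_add_cancel] at this
  let b0 := basisOfTopLeSpanOfCardEqFinrank fam hspan (by simp [Module.finrank_fin_fun]; omega)
  have hbfam : ∀ k, b0 k = fam k := fun k => by rw [coe_basisOfTopLeSpanOfCardEqFinrank]
  have hs0 : 0 < s := by
    rcases Nat.eq_zero_or_pos s with h0 | h0
    · exfalso
      apply hns
      have hR0 : R = ⊥ := Submodule.finrank_eq_zero.1 h0
      apply Matrix.toLin'.injective
      apply LinearMap.ext
      intro v
      have hv : N v ∈ R := LinearMap.mem_range_self N v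
      rw [hR0, Submodule.mem_bot] at hv
      rw [← hydef, hyN, hv, add_zero, map_smul, Matrix.toLin'_one]
      rfl
    · exact h0
  let e := Fintype.equivFinOfCardEq (α := Fin (finrank F C) ⊕ (Fin s ⊕ Fin s)) (n := n) (by simp; omega)
  let i0 : Fin s := ⟨0, hs0⟩
  have hd0 : ((Pi.basisFun F (Fin n)).toMatrix (b0.reindex e)).det ≠ 0 := by
    rw [← Basis.det_apply]; exact ((Pi.basisFun F (Fin n)).isUnit_det (b0.reindex e)).ne_zero
  have : CharP F 2 := CharTwo.of_one_ne_zero_of_two_eq_zero one_ne_zero h2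
  set d := ((Pi.basisFun F (Fin n)).toMatrix (b0.reindex e)).det
  let ε : Fin (finrank F C) ⊕ (Fin s ⊕ Fin s) → F :=
    Sum.elim (fun _ => 1) (Sum.elim (fun _ => 1) fun _ => a⁻¹)
  have hε : ∀ k, ε k ≠ 0 := by rintro (k | k | k) <;> simp [ε, ha]
  obtain ⟨τ, hτ⟩ := FiniteField.isSquare_of_char_two (ringChar.eq F 2) ((d * ∏ k, ε k)⁻¹)
  have hτ0 : τ ≠ 0 := fun h0 => by
    rw [h0, mul_zero, inv_eq_zero] at hτ
    exact mul_ne_zero hd0 (Finset.prod_ne_zero_iff.2 fun k _ => hε k) hτ
  let η : Fin (finrank F C) ⊕ (Fin s ⊕ Fin s) → F :=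
    Sum.elim (fun _ => 1) (Sum.elim (fun i => if i = i0 then τ else 1) fun i => if i = i0 then τ else 1)
  have hη : ∀ k, ε k * η k ≠ 0 := by
    refine fun k => mul_ne_zero (hε k) ?_
    rcases k with k | k | k <;> simp only [η, Sum.elim_inl, Sum.elim_inr] <;> (try split_ifs) <;> simp [hτ0]
  let b := b0.unitsSMul (fun k => Units.mk0 _ (hη k))
  have hb : ∀ k, b k = (ε k * η k) • fam k := fun k => by
    simp [b, Basis.unitsSMul_apply, Units.smul_def, hbfam]
  refine mem_of_basis F₀ x ha (b.reindex e) ?_ fun j i => ?_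
  · have e1 : (Pi.basisFun F (Fin n)).toMatrix (b.reindex e) =
        (Pi.basisFun F (Fin n)).toMatrix (b0.reindex e) * Matrix.diagonal (fun j => ε (e.symm j) * η (e.symm j)) := by
      ext i j
      rw [Matrix.mul_diagonal]
      simp only [Basis.toMatrix_apply, Basis.reindex_apply, hb, hbfam, Pi.basisFun_repr, Pi.smul_apply, smul_eq_mul]
      ring
    rw [e1, Matrix.det_mul, Matrix.det_diagonal, e.symm.prod_comp (fun k => ε k * η k), Finset.prod_mul_distrib]
    have e2 : ∏ k, η k = τ * τ := by simp [η, Fintype.prod_sum_type]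
    rw [e2, ← hτ, ← mul_assoc]
    exact mul_inv_cancel₀ (mul_ne_zero hd0 (Finset.prod_ne_zero_iff.2 fun k _ => hε k))
  · have key : ∀ k, a⁻¹ • y (b k) = b k ∨ ∃ k', a⁻¹ • y (b k) = b k + b k' := by
      rintro (k | k | k)
      · left
        rw [hb]
        simp only [fam, Sum.elim_inl]
        rw [map_smul, hyN, LinearMap.mem_ker.1 (show (bc k : Fin n → F) ∈ K from (bc k).2.2), add_zero,
          smul_comm a⁻¹, inv_smul_smul₀ ha]
      · refine Or.inr ⟨Sum.inr (Sum.inr k), ?_⟩
        rw [hb, hb]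
        simp only [fam, ε, η, Sum.elim_inl, Sum.elim_inr]
        rw [map_smul, hyN, hu, smul_comm a⁻¹, smul_add, inv_smul_smul₀ ha]
        module
      · left
        rw [hb]
        simp only [fam, Sum.elim_inr]
        rw [map_smul, hyN, LinearMap.mem_ker.1 (hRK (br k).2), add_zero, smul_comm a⁻¹, inv_smul_smul₀ ha]
    rw [Basis.reindex_apply]
    rcases key (e.symm j) with h | ⟨k', h⟩
    · rw [h, Basis.repr_reindex_apply, Basis.repr_self, Finsupp.single_apply]
      split_ifs
      exacts [F₀.one_mem, F₀.zero_mem]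
    · rw [h, Basis.repr_reindex_apply, map_add, Finsupp.add_apply, Basis.repr_self, Basis.repr_self,
        Finsupp.single_apply, Finsupp.single_apply]
      refine F₀.add_mem ?_ ?_ <;> split_ifs <;> first | exact F₀.one_mem | exact F₀.zero_mem

/-- Involutions of PSL_n(q) and subfield subgroups. Here `T = PSL_n(F)` for a field `F` with `q = p^f` elements (`n ≥ 2`, `(n, q) ≠ (2, 2), (2, 3)`), `F₀` is the subfield with `q₀` elements where `q = q₀^k` for a prime `k`, and `H` is the subgroup of matrices of determinant 1 lying in the subfield group of `F₀` (invertible matrices over `F₀` times scalars) — a maximal subgroup of type GL_n(q₀) (the case `n = 2`, `q₀ = 2` is excluded); Ω is the set of `T`-conjugates of `H` (cosets of `H`), so an element of `T` of prime order `r` (a matrix `x` of determinant 1 with `x^r` scalar, `x` not scalar) fixes a point of Ω when some conjugate of `x` by a matrix of determinant 1 lies in `H`. Suppose the index of `H` is even. Then every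 involution of `T` is conjugate in `T` into `H` if and only if either `q` is even, or `k = 2` and `(n)_2 ≤ (q − 1)_2`. (For `q` odd and `k` odd the index of `H` is odd, so that case does not arise.) -/
theorem result {F : Type*} [Field F] [Fintype F] {p : ℕ} [Fact p.Prime] [CharP F p] {q : ℕ} (hq : Fintype.card F = q)
    (n : ℕ) (hn : 2 ≤ n) (hT : (n, q) ≠ (2, 2) ∧ (n, q) ≠ (2, 3))
    (F₀ : Subfield F) (k q₀ : ℕ) (hk : k.Prime) (hF₀ : Nat.card ↥F₀ = q₀) (hqk : q = q₀ ^ k) (hC5 : ¬ (n = 2 ∧ q₀ = 2)) (hΩ : 2 ∣ ((Cfsg.Geo.subfieldSubgroup F₀ 1).comap (Matrix.SpecialLinearGroup.toGL : Matrix.SpecialLinearGroup (Fin n) F →* GL (Fin n) F)).index) :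
    (∀ x : Matrix.SpecialLinearGroup (Fin n) F,
      (∃ z : F, ((x ^ 2 : Matrix.SpecialLinearGroup (Fin n) F) : Matrix (Fin n) (Fin n) F) = z • (1 : Matrix (Fin n) (Fin n) F)) →
      (∀ z : F, (x : Matrix (Fin n) (Fin n) F) ≠ z • (1 : Matrix (Fin n) (Fin n) F)) →
      ∃ P : Matrix.SpecialLinearGroup (Fin n) F, P⁻¹ * x * P ∈ ((Cfsg.Geo.subfieldSubgroup F₀ 1).comap (Matrix.SpecialLinearGroup.toGL : Matrix.SpecialLinearGroup (Fin n) F →* GL (Fin n) F))) ↔
    (Odd q → (k = 2 ∧ padicValNat 2 n ≤ padicValNat 2 (q - 1))) := by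
  classical
  subst hq
  have hq2 : 2 ≤ Fintype.card F := Fintype.one_lt_card
  have htf : ∀ (x : Matrix.SpecialLinearGroup (Fin n) F) (z : F),
      ((x ^ 2 : Matrix.SpecialLinearGroup (Fin n) F) : Matrix (Fin n) (Fin n) F) = z • 1 →
        (x : Matrix (Fin n) (Fin n) F) ^ 2 = z • 1 ∧ z ≠ 0 ∧
        (∀ v, Matrix.toLin' (x : Matrix (Fin n) (Fin n) F) (Matrix.toLin' (x : Matrix (Fin n) (Fin n) F) v) = z • v) := by
    intro x z hz
    rw [Matrix.SpecialLinearGroup.coe_pow] at hz
    refine ⟨hz, fun h => ?_, fun v => by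
      rw [Matrix.toLin'_apply, Matrix.toLin'_apply, Matrix.mulVec_mulVec, ← pow_two, hz, Matrix.smul_mulVec,
        Matrix.one_mulVec]⟩
    have hd := congrArg Matrix.det hz
    have : Nonempty (Fin n) := ⟨⟨0, by omega⟩⟩
    rw [h, zero_smul, Matrix.det_zero, Matrix.det_pow, x.2, one_pow] at hd
    exact one_ne_zero hd
  by_cases h2 : (2 : F) = 0
  · have : CharP F 2 := CharTwo.of_one_ne_zero_of_two_eq_zero one_ne_zero h2
    have heven : ¬ Odd (Fintype.card F) := by
      rw [Nat.not_odd_iff_even, even_iff_two_dvd]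
      exact (CharP.cast_eq_zero_iff F 2 _).1 (Nat.cast_card_eq_zero F)
    refine iff_of_true (fun x ⟨z, hz⟩ hns => ?_) (fun h => absurd h heven)
    obtain ⟨hx, hz0, hy⟩ := htf x z hz
    obtain ⟨a, rfl⟩ := FiniteField.isSquare_of_char_two (ringChar.eq F 2) z
    exact frame_of_two h2 (by omega) F₀ x (left_ne_zero_of_mul hz0) (hns a) hy
  have hp2 : 2 ≠ p := fun h => h2 (by subst h; exact CharTwo.two_eq_zero)
  have hodd : Odd (Fintype.card F) := by
    rw [Nat.odd_iff]
    by_contra hne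
    obtain ⟨⟨e, he⟩, hp', hcard⟩ := FiniteField.card F p
    have h3 : 2 ∣ Fintype.card F := by omega
    rw [hcard] at h3
    exact hp2 ((Nat.prime_dvd_prime_iff_eq Nat.prime_two hp').1 (Nat.prime_two.dvd_of_dvd_pow h3))
  have h21 : 2 ∣ Fintype.card F - 1 := by obtain ⟨j, hj⟩ := hodd; omega
  letI : Fintype F₀ := Fintype.ofFinite F₀
  have hF₀' : Fintype.card F₀ = q₀ := by rw [← Nat.card_eq_fintype_card, hF₀]
  have hq0odd : Odd q₀ := by
    rw [hqk] at hodd
    exact (Nat.odd_pow_iff hk.ne_zero).1 hodd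
  have hk2 : k = 2 := by
    by_contra hne
    have hkodd : Odd k := hk.odd_of_ne_two hne
    set H := (Cfsg.Geo.subfieldSubgroup F₀ 1).comap (Matrix.SpecialLinearGroup.toGL : Matrix.SpecialLinearGroup (Fin n) F →* GL (Fin n) F) with hH
    have h1 : Nat.card (Matrix.SpecialLinearGroup (Fin n) F₀) ∣ Nat.card H := by
      let ψ : Matrix.SpecialLinearGroup (Fin n) F₀ →* H :=
        (Matrix.SpecialLinearGroup.map (F₀.subtype : F₀ →+* F)).codRestrict H fun A =>
          ⟨Matrix.GeneralLinearGroup.map F₀.subtype (Matrix.SpecialLinearGroup.toGL A),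
            Subgroup.mem_sup_left ⟨_, rfl⟩, by
              rw [MulEquiv.coe_toMonoidHom, MulAut.conj_apply, one_mul, inv_one, mul_one]
              exact Units.ext rfl⟩
      have hψ : Function.Injective ψ := by
        intro A B h
        have h1 : (A : Matrix (Fin n) (Fin n) F₀).map F₀.subtype = (B : Matrix (Fin n) (Fin n) F₀).map F₀.subtype :=
          congrArg (fun X : H => ((X.1 : Matrix.SpecialLinearGroup (Fin n) F) : Matrix (Fin n) (Fin n) F)) h
        exact Subtype.ext (Matrix.map_injective F₀.subtype.injective h1)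
      rw [Nat.card_congr (MonoidHom.ofInjective hψ).toEquiv]
      exact Subgroup.card_subgroup_dvd_card _
    have h3 : 2 * Nat.card (Matrix.SpecialLinearGroup (Fin n) F₀) ∣ Nat.card (Matrix.SpecialLinearGroup (Fin n) F) := by
      rw [← H.card_mul_index, mul_comm 2]
      exact Nat.mul_dvd_mul h1 hΩ
    rw [Cfsg.Agent.Lib.Classical.card_SL_formula, Cfsg.Agent.Lib.Classical.card_SL_formula, hqk, hF₀'] at h3
    have hfac : ∀ i, ∃ u, Odd u ∧ (q₀ ^ k) ^ (i + 2) - 1 = (q₀ ^ (i + 2) - 1) * u := by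
      intro i
      refine ⟨∑ j ∈ Finset.range k, (q₀ ^ (i + 2)) ^ j, ?_, ?_⟩
      · rw [Finset.odd_sum_iff_odd_card_odd, Finset.filter_true_of_mem fun j _ => (hq0odd.pow).pow, Finset.card_range]
        exact hkodd
      · rw [← pow_mul, mul_comm k, pow_mul]
        have h5 : 1 ≤ q₀ ^ (i + 2) := Nat.one_le_pow _ _ (hq0odd.pos)
        obtain ⟨m, hm⟩ : ∃ m, q₀ ^ (i + 2) = m + 1 := ⟨_, (Nat.sub_add_cancel h5).symm⟩
        rw [hm, Nat.add_sub_cancel]
        have h6 := geom_sum_mul_add m k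
        rw [mul_comm m]
        omega
    choose u hu huf using hfac
    rw [Finset.prod_congr rfl (fun i _ => huf i), Finset.prod_mul_distrib] at h3
    set P₀ := ∏ i ∈ Finset.range (n - 1), (q₀ ^ (i + 2) - 1) with hP₀
    have hP₀0 : 0 < P₀ := Finset.prod_pos fun i _ => Nat.sub_pos_of_lt
      (Nat.one_lt_pow (by omega) (by rw [← hF₀']; exact Fintype.one_lt_card))
    have h4 : 2 * q₀ ^ (n * (n - 1) / 2) ∣ (q₀ ^ k) ^ (n * (n - 1) / 2) * ∏ i ∈ Finset.range (n - 1), u i := by
      refine Nat.dvd_of_mul_dvd_mul_right hP₀0 ?_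
      convert h3 using 1 <;> ring
    have h5 : Odd ((q₀ ^ k) ^ (n * (n - 1) / 2) * ∏ i ∈ Finset.range (n - 1), u i) := by
      refine Odd.mul (hq0odd.pow).pow ?_
      exact Finset.prod_induction _ Odd (fun a b => Odd.mul) odd_one fun i _ => hu i
    exact Nat.not_even_iff_odd.2 h5 (even_iff_two_dvd.2 ((dvd_mul_right 2 _).trans h4))
  subst hk2
  have hq4 : Fintype.card F % 4 = 1 := by
    obtain ⟨j, hj⟩ := hq0odd
    rw [hqk, hj, show (2 * j + 1) ^ 2 = 4 * (j * j + j) + 1 by ring]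
    omega
  have hord : Fact (Nat.Prime 2) := ⟨Nat.prime_two⟩
  simp only [hodd, forall_true_left, true_and]
  constructor
  · intro h
    by_contra hne
    obtain ⟨j, hj, c, hc, hpow, hN⟩ := PrimeElemFlags.twist_of_not_cond (r := 2) rfl hp2 (n := n) (by omega) h21
      (fun hh => hne hh.1)
    obtain ⟨y, hy, hdet, -⟩ := PrimeElemFlags.bad_of_order_one (r := 2) hp2 hj hc hpow hN
    set X := LinearMap.toMatrix' y with hX
    have hXy : Matrix.toLin' X = y := Matrix.toLin'_toMatrix' y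
    have hdetX : X.det = 1 := by rw [← LinearMap.det_toLin', hXy, hdet]
    have hX2 : X ^ 2 = c • 1 := by
      apply Matrix.toLinAlgEquiv'.injective
      rw [map_pow, map_smul, map_one]
      show (Matrix.toLin' X) ^ 2 = _
      rw [hXy, hy]
    let x0 : Matrix.SpecialLinearGroup (Fin n) F := ⟨X, hdetX⟩
    obtain ⟨P, hP⟩ := h x0 ⟨c, (Matrix.SpecialLinearGroup.coe_pow x0 2).trans hX2⟩ (fun a ha => by
      have ha' : X = a • 1 := ha
      rw [ha', smul_pow, one_pow] at hX2
      have h1 := congrFun (congrFun hX2 ⟨0, by omega⟩) ⟨0, by omega⟩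
      simp at h1
      exact hpow a h1)
    obtain ⟨d, hd0, hd⟩ := sq_in_subfield (by omega) F₀ (x := x0) hX2 hP
    -- elements of the subfield are squares
    have hcd : c / (d * d) ≠ 0 := div_ne_zero hc (mul_ne_zero hd0 hd0)
    have hpow' : (c / (d * d)) ^ (Fintype.card F / 2) = 1 := by
      have h1 : (⟨c / (d * d), hd⟩ : F₀) ^ (Fintype.card F₀ - 1) = 1 :=
        FiniteField.pow_card_sub_one_eq_one _ fun h0 => hcd (congrArg Subtype.val h0)
      have h3 : (c / (d * d)) ^ (q₀ - 1) = 1 := by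
        rw [← hF₀']
        exact congrArg Subtype.val h1
      obtain ⟨i, hi⟩ := hq0odd
      rw [show Fintype.card F / 2 = (q₀ - 1) * (i + 1) by
        rw [hqk, hi, show 2 * i + 1 - 1 = 2 * i by omega, show (2 * i + 1) ^ 2 = 2 * (2 * i * (i + 1)) + 1 by ring]
        omega, pow_mul, h3, one_pow]
    obtain ⟨w, hw⟩ := (FiniteField.isSquare_iff (fun h' => hp2 ((ringChar.eq F p).symm.trans h' |>.symm)) hcd).2 hpow'
    exact hpow (w * d) (by rw [mul_pow, pow_two, pow_two, ← hw, div_mul_cancel₀ _ (mul_ne_zero hd0 hd0)])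
  · rintro hle x ⟨z, hz⟩ -
    obtain ⟨hx, hz0, hy⟩ := htf x z hz
    by_cases hsq : IsSquare z
    · obtain ⟨a, rfl⟩ := hsq
      exact frame_of_square h2 (by omega) F₀ x (left_ne_zero_of_mul hz0) hy
    · exfalso
      have hpow : ∀ w : F, w ^ 2 ≠ z := fun w hw => hsq ⟨w, by rw [← hw, pow_two]⟩
      have hy' : (Matrix.toLin' (x : Matrix (Fin n) (Fin n) F)) ^ 2 = z • 1 :=
        LinearMap.ext fun v => by rw [pow_two, End.mul_apply, hy]; rfl
      have hirr := X_pow_sub_C_irreducible_of_prime Nat.prime_two hpow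
      have hr0 : ((2 : ℕ) : F) ≠ 0 := PrimeElemFlags.cast_ne_zero hp2
      obtain ⟨⟨j, hj⟩, -⟩ := PrimeElem.uniform_flag (PrimeElemFlags.sq hr0 hz0) (PrimeElemFlags.aeval_eq_zero hy') (d := 2)
        (fun g hg hd => by
          rw [Polynomial.natDegree_eq_of_degree_eq (Polynomial.degree_eq_degree_of_associated (hg.associated_of_dvd hirr hd)),
            Polynomial.natDegree_X_pow_sub_C])
      rw [Module.finrank_fin_fun] at hj
      have hd := PrimeElem.det_eq 2 z hirr (PrimeElemFlags.sq hr0 hz0) two_pos j _ (by rw [Module.finrank_fin_fun, hj])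
        (PrimeElemFlags.aeval_eq_zero hy')
      rw [LinearMap.det_toLin', x.2] at hd
      exact PrimeElemFlags.cond_of_twist rfl (by omega) hj h21 hpow hd.symm ⟨hle, fun _ _ => hq4⟩


end Cfsg.Agent.S5964
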