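import Cfsg.Statements.S5965
import Cfsg.Agent.Lib.MaxSub.Descend
import Cfsg.Agent.Lib.Classical.LinearCard
import Cfsg.Agent.S5964
import Mathlib

set_option autoImplicit false
set_option maxHeartbeats 1000000
open scoped MatrixGroups
open Cfsg

namespace Cfsg.Agent.S5965


open Module Polynomial Cfsg.Agent.Lib.MaxSub

variable {F : Type*} [Field F] {n : ℕ}

local notation "M" => Matrix (Fin n) (Fin n) F

/-- A map of order `r` conjugate into the subfield group is a multiple of a conjugate of a matrix over the subfield. -/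
theorem exists_twist (hn : 0 < n) (F₀ : Subfield F) {r : ℕ} {φ : F →+* F} (hφ : ∀ c, φ c = c ↔ c ∈ F₀)
    {x P : Matrix.SpecialLinearGroup (Fin n) F} {a : F} (ha : a ≠ 0) {y : M} (hxy : (x : M) = a • y) (hy : y ^ r = 1)
    (h : P⁻¹ * x * P ∈ ((Cfsg.Geo.subfieldSubgroup F₀ 1).comap (Matrix.SpecialLinearGroup.toGL : Matrix.SpecialLinearGroup (Fin n) F →* GL (Fin n) F))) :
    ∃ c : F, c ≠ 0 ∧ (φ c / c) ^ r = 1 ∧
      (c⁻¹ • (((P⁻¹ : Matrix.SpecialLinearGroup (Fin n) F) : M) * y * (P : M))).map φ =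
        c⁻¹ • (((P⁻¹ : Matrix.SpecialLinearGroup (Fin n) F) : M) * y * (P : M)) := by
  classical
  obtain ⟨h', hh', he⟩ := h
  have hnorm : (Cfsg.Geo.scalars (Fin n) F).Normal := by
    refine ⟨?_⟩
    rintro _ ⟨u, rfl⟩ g
    refine ⟨u, ?_⟩
    rw [eq_mul_inv_iff_mul_eq]
    exact Units.ext ((Matrix.scalar_commute (u : F) (fun r => Commute.all _ r) (g : Matrix (Fin n) (Fin n) F)).eq)
  obtain ⟨_, ⟨h₀, rfl⟩, _, ⟨l, rfl⟩, rfl⟩ := (Subgroup.mem_sup_of_normal_right (ht := hnorm)).mp hh'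
  rw [MulEquiv.coe_toMonoidHom, MulAut.conj_apply, one_mul, inv_one, mul_one] at he
  have he' : (h₀ : Matrix (Fin n) (Fin n) F₀).map F₀.subtype * Matrix.scalar (Fin n) (l : F) =
      ((P⁻¹ * x * P : Matrix.SpecialLinearGroup (Fin n) F) : M) := congrArg Units.val he
  rw [Matrix.scalar_apply, ← Matrix.smul_one_eq_diagonal, Matrix.mul_smul, Matrix.mul_one,
    Matrix.SpecialLinearGroup.coe_mul, Matrix.SpecialLinearGroup.coe_mul, hxy, Matrix.mul_smul, Matrix.smul_mul] at he'
  set z := ((P⁻¹ : Matrix.SpecialLinearGroup (Fin n) F) : M) * y * (P : M) with hz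
  set B : M := (h₀ : Matrix (Fin n) (Fin n) F₀).map F₀.subtype with hB
  have hc : a⁻¹ * (l : F) ≠ 0 := mul_ne_zero (inv_ne_zero ha) l.ne_zero
  have hzB : z = (a⁻¹ * (l : F)) • B := by
    rw [← smul_smul, he', smul_smul, inv_mul_cancel₀ ha, one_smul]
  have hmap : (a⁻¹ * (l : F))⁻¹ • z = B := by rw [hzB, smul_smul, inv_mul_cancel₀ hc, one_smul]
  refine ⟨_, hc, ?_, ?_⟩
  · have hPi : (P : M) * ((P⁻¹ : Matrix.SpecialLinearGroup (Fin n) F) : M) = 1 := by
      rw [← Matrix.SpecialLinearGroup.coe_mul, mul_inv_cancel, Matrix.SpecialLinearGroup.coe_one]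
    have hPi' : ((P⁻¹ : Matrix.SpecialLinearGroup (Fin n) F) : M) * (P : M) = 1 := by
      rw [← Matrix.SpecialLinearGroup.coe_mul, inv_mul_cancel, Matrix.SpecialLinearGroup.coe_one]
    have hzr : ∀ m : ℕ, z ^ m = ((P⁻¹ : Matrix.SpecialLinearGroup (Fin n) F) : M) * y ^ m * (P : M) := fun m => by
      induction m with
      | zero => rw [pow_zero, pow_zero, mul_one, hPi']
      | succ m ih =>
        rw [pow_succ, ih, hz, pow_succ]
        simp only [mul_assoc]
        rw [← mul_assoc (P : M), hPi, one_mul]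
    have h1 := hzr r
    rw [hy, mul_one, hPi', hzB, _root_.smul_pow] at h1
    have h2 := congrFun (congrFun h1 ⟨0, hn⟩) ⟨0, hn⟩
    rw [Matrix.smul_apply, Matrix.one_apply_eq, hB, ← RingHom.mapMatrix_apply, ← map_pow, RingHom.mapMatrix_apply,
      Matrix.map_apply, smul_eq_mul] at h2
    have h3 : ((a⁻¹ * (l : F)) ^ r) ∈ F₀ := by
      rw [eq_inv_of_mul_eq_one_left h2]
      exact F₀.inv_mem (Subtype.mem _)
    rw [div_pow, ← map_pow, (hφ _).2 h3, div_self (pow_ne_zero _ hc)]
  · rw [hmap]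
    ext i j
    exact (hφ _).2 (Subtype.mem _)

theorem aeval_conj {P Q y : M} (h : P * Q = 1) (h' : Q * P = 1) (g : F[X]) :
    aeval (Q * y * P) g = Q * aeval y g * P := by
  induction g using Polynomial.induction_on with
  | C a => rw [aeval_C, aeval_C, Algebra.algebraMap_eq_smul_one, mul_smul_comm, mul_one, smul_mul_assoc, h']
  | add a b ha hb => rw [map_add, map_add, ha, hb, mul_add, add_mul]
  | monomial j a ih =>
    rw [pow_succ, ← mul_assoc, map_mul, map_mul (aeval y), aeval_X, aeval_X, ih]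
    simp only [mul_assoc]
    rw [← mul_assoc P, h, one_mul]

/-- A permutation realising an equality of multisets of values. -/
theorem exists_perm {ι R : Type*} [Fintype ι] [DecidableEq R] {f g : ι → R}
    (h : Finset.univ.val.map f = Finset.univ.val.map g) : ∃ σ : Equiv.Perm ι, ∀ i, f (σ i) = g i := by
  classical
  have hcard : ∀ t, Fintype.card {i // g i = t} = Fintype.card {i // f i = t} := fun t => by
    rw [Fintype.card_subtype, Fintype.card_subtype]
    have h1 := congrArg (Multiset.count t) h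
    rw [Multiset.count_map, Multiset.count_map] at h1
    simp only [eq_comm (a := t)] at h1
    rw [← Finset.filter_val, ← Finset.filter_val] at h1
    exact h1.symm
  refine ⟨Equiv.ofFiberEquiv (f := g) (g := f) fun t => Fintype.equivOfCardEq (hcard t), fun i => ?_⟩
  exact Equiv.ofFiberEquiv_map _ i

section

variable [Fintype F] {p : ℕ} [Fact p.Prime] [CharP F p] {r : ℕ} [hr : Fact r.Prime]

/-- The index hypothesis. -/
theorem exists_degree {F₀ : Subfield F} {k q₀ : ℕ} (hF₀ : Nat.card ↥F₀ = q₀) (hqk : Fintype.card F = q₀ ^ k)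
    (hrp : r ≠ p) (hrk : r ≠ k) (hk : k.Prime)
    (hΩ : r ∣ ((Cfsg.Geo.subfieldSubgroup F₀ 1).comap (Matrix.SpecialLinearGroup.toGL : Matrix.SpecialLinearGroup (Fin n) F →* GL (Fin n) F)).index) :
    ∃ i, 2 ≤ i ∧ i ≤ n ∧ orderOf ((Fintype.card F : ℕ) : ZMod r) ∣ i ∧ ¬ orderOf (q₀ : ZMod r) ∣ i := by
  classical
  letI : Fintype F₀ := Fintype.ofFinite F₀
  have hF₀' : Fintype.card F₀ = q₀ := by rw [← Nat.card_eq_fintype_card, hF₀]
  have hq02 : 2 ≤ q₀ := hF₀' ▸ Fintype.one_lt_card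
  set H := (Cfsg.Geo.subfieldSubgroup F₀ 1).comap (Matrix.SpecialLinearGroup.toGL : Matrix.SpecialLinearGroup (Fin n) F →* GL (Fin n) F) with hH
  have h1 : Nat.card (Matrix.SpecialLinearGroup (Fin n) F₀) ∣ Nat.card H := by
    let ψ : Matrix.SpecialLinearGroup (Fin n) F₀ →* H :=
      (Matrix.SpecialLinearGroup.map (F₀.subtype : F₀ →+* F)).codRestrict H fun A =>
        ⟨Matrix.GeneralLinearGroup.map F₀.subtype (Matrix.SpecialLinearGroup.toGL A),
          Subgroup.mem_sup_left ⟨_, rfl⟩, by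
            rw [MulEquiv.coe_toMonoidHom, MulAut.conj_apply, one_mul, inv_one, mul_one]
            exact Units.ext rfl⟩
    have hψ : Function.Injective ψ := by
      intro A B h
      have h1 : (A : Matrix (Fin n) (Fin n) F₀).map F₀.subtype = (B : Matrix (Fin n) (Fin n) F₀).map F₀.subtype :=
        congrArg (fun X : H => ((X.1 : Matrix.SpecialLinearGroup (Fin n) F) : Matrix (Fin n) (Fin n) F)) h
      exact Subtype.ext (Matrix.map_injective F₀.subtype.injective h1)
    rw [Nat.card_congr (MonoidHom.ofInjective hψ).toEquiv]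
    exact Subgroup.card_subgroup_dvd_card _
  have h3 : r * Nat.card (Matrix.SpecialLinearGroup (Fin n) F₀) ∣ Nat.card (Matrix.SpecialLinearGroup (Fin n) F) := by
    rw [← H.card_mul_index, mul_comm r]
    exact Nat.mul_dvd_mul h1 hΩ
  rw [Cfsg.Agent.Lib.Classical.card_SL_formula, Cfsg.Agent.Lib.Classical.card_SL_formula, hqk, hF₀'] at h3
  have hfac : ∀ i, (q₀ ^ k) ^ (i + 2) - 1 = (q₀ ^ (i + 2) - 1) * ∑ j ∈ Finset.range k, (q₀ ^ (i + 2)) ^ j := by
    intro i
    rw [← pow_mul, mul_comm k, pow_mul]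
    have h5 : 1 ≤ q₀ ^ (i + 2) := Nat.one_le_pow _ _ (by omega)
    obtain ⟨m, hm⟩ : ∃ m, q₀ ^ (i + 2) = m + 1 := ⟨_, (Nat.sub_add_cancel h5).symm⟩
    rw [hm, Nat.add_sub_cancel]
    have h6 := geom_sum_mul_add m k
    rw [mul_comm m]
    omega
  rw [Finset.prod_congr rfl (fun i _ => hfac i), Finset.prod_mul_distrib] at h3
  set P₀ := ∏ i ∈ Finset.range (n - 1), (q₀ ^ (i + 2) - 1) with hP₀
  have hP₀0 : 0 < P₀ := Finset.prod_pos fun i _ => Nat.sub_pos_of_lt (Nat.one_lt_pow (by omega) (by omega))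
  have h4 : r * q₀ ^ (n * (n - 1) / 2) ∣ (q₀ ^ k) ^ (n * (n - 1) / 2) *
      ∏ i ∈ Finset.range (n - 1), ∑ j ∈ Finset.range k, (q₀ ^ (i + 2)) ^ j := by
    refine Nat.dvd_of_mul_dvd_mul_right hP₀0 ?_
    convert h3 using 1 <;> ring
  have hrq : ¬ r ∣ q₀ ^ k := fun h => by
    obtain ⟨f, -, hcard⟩ := FiniteField.card F p
    rw [← hqk, hcard] at h
    exact hrp ((Nat.prime_dvd_prime_iff_eq hr.out Fact.out).1 (hr.out.dvd_of_dvd_pow h))
  rcases hr.out.dvd_mul.1 ((dvd_mul_right r _).trans h4) with h | h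
  · exact absurd (hr.out.dvd_of_dvd_pow h) hrq
  obtain ⟨i, hi, hiu⟩ := (Prime.dvd_finset_prod_iff hr.out.prime _).1 h
  rw [Finset.mem_range] at hi
  refine ⟨i + 2, by omega, by omega, ?_, ?_⟩
  · have h7 : r ∣ (q₀ ^ k) ^ (i + 2) - 1 := hfac i ▸ hiu.mul_left _
    rw [orderOf_dvd_iff_pow_eq_one, ← Nat.cast_pow, hqk, eq_comm, ← Nat.cast_one (R := ZMod r),
      ZMod.natCast_eq_natCast_iff, Nat.modEq_iff_dvd' (Nat.one_le_pow _ _ (Nat.pow_pos (by omega)))]
    exact h7
  · intro hd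
    rw [orderOf_dvd_iff_pow_eq_one] at hd
    rw [← ZMod.natCast_eq_zero_iff] at hiu
    simp only [Nat.cast_sum, Nat.cast_pow, hd, one_pow, Finset.sum_const, Finset.card_range, nsmul_eq_mul, mul_one] at hiu
    rw [ZMod.natCast_eq_zero_iff] at hiu
    exact hrk ((Nat.prime_dvd_prime_iff_eq hr.out hk).1 hiu)

/-- The block counterexample. -/
theorem bad_block {F₀ : Subfield F} (hrp : r ≠ p) {q₀ : ℕ} (hF₀ : Nat.card ↥F₀ = q₀) {c : ℕ}
    (hc : orderOf ((Fintype.card F : ℕ) : ZMod r) = c) (hc1 : c ≠ 1) (hcn : c ≤ n) (hcc : orderOf (q₀ : ZMod r) ≠ c) :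
    ∃ x : Matrix.SpecialLinearGroup (Fin n) F,
      (∃ z : F, ((x ^ r : Matrix.SpecialLinearGroup (Fin n) F) : M) = z • 1) ∧ (∀ z : F, (x : M) ≠ z • 1) ∧
      ∀ P : Matrix.SpecialLinearGroup (Fin n) F, ¬ P⁻¹ * x * P ∈
        ((Cfsg.Geo.subfieldSubgroup F₀ 1).comap (Matrix.SpecialLinearGroup.toGL : Matrix.SpecialLinearGroup (Fin n) F →* GL (Fin n) F)) := by
  classical
  obtain ⟨φ, hφq, hφ⟩ := Descend.exists_frob F₀ (p := p)
  have hn0 : 0 < n := lt_of_lt_of_le (hc ▸ PrimeElemFlags.order_pos (F := F) rfl hrp) hcn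
  have hr0 : ((r : F)) ≠ 0 := PrimeElemFlags.cast_ne_zero hrp
  obtain ⟨g₁, hg₁, hgd₁⟩ := WfDvdMonoid.exists_irreducible_factor
    (not_isUnit_of_natDegree_pos (cyclotomic r F) (by rw [natDegree_cyclotomic]; exact Nat.totient_pos.2 hr.out.pos))
    (cyclotomic_ne_zero r F)
  set g := normalize g₁ with hgdef
  have hassoc : Associated g₁ g := (normalize_associated g₁).symm
  have hg : Irreducible g := hassoc.irreducible hg₁
  have hgm : g.Monic := monic_normalize hg₁.ne_zero
  have hgd : g ∣ cyclotomic r F := hassoc.symm.dvd.trans hgd₁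
  have hgi : g.natDegree = c := (PrimeElemFlags.deg_eq rfl hrp g hg hgd).trans hc
  have : Fact (Irreducible g) := ⟨hg⟩
  have : FiniteDimensional F (AdjoinRoot g) := (AdjoinRoot.powerBasis hg.ne_zero).finite
  have hfr : finrank F (AdjoinRoot g) = c := by
    rw [(AdjoinRoot.powerBasis hg.ne_zero).finrank, AdjoinRoot.powerBasis_dim, hgi]
  let α : AdjoinRoot g := AdjoinRoot.root g
  have hcyc : aeval α (cyclotomic r F) = 0 := by
    obtain ⟨Q, hQ⟩ := hgd
    rw [hQ, map_mul, AdjoinRoot.aeval_eq, AdjoinRoot.mk_self, zero_mul]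
  have hα : α ^ r = 1 := by
    have h := congrArg (aeval α) (cyclotomic_prime_mul_X_sub_one F r)
    rw [map_mul, hcyc, zero_mul, map_sub, map_pow, aeval_X, map_one] at h
    exact sub_eq_zero.1 h.symm
  let y : End F (AdjoinRoot g × (Fin (n - c) → F)) :=
    (Algebra.lsmul F F (AdjoinRoot g) α).prodMap (1 : End F (Fin (n - c) → F))
  have hy : y ^ r = 1 := by
    rw [PrimeElemFlags.prodMap_pow', ← map_pow, hα, map_one, one_pow, LinearMap.prodMap_one]
  have hyg : ∀ (f : F[X]) v, aeval y f v = (aeval α f * v.1, f.eval 1 • v.2) := by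
    intro f
    induction f using Polynomial.induction_on with
    | C a => intro v; rw [aeval_C, Module.algebraMap_end_apply, aeval_C]; ext <;> simp [Algebra.smul_def]
    | add a b ha hb => intro v; simp [ha, hb, add_mul, add_smul]
    | monomial j a ih =>
      intro v
      rw [pow_succ, ← mul_assoc, map_mul, End.mul_apply, aeval_X, ih]
      simp [y, mul_assoc]
  let e : (AdjoinRoot g × (Fin (n - c) → F)) ≃ₗ[F] (Fin n → F) := LinearEquiv.ofFinrankEq _ _ (by
    rw [Module.finrank_prod, hfr, Module.finrank_fin_fun, Module.finrank_fin_fun]; omega)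
  set Y : M := LinearMap.toMatrix' (e.conj y) with hY
  have hYy : Y ^ r = 1 := by
    rw [hY]
    refine Matrix.toLin'.injective ?_
    rw [Matrix.toLin'_pow, Matrix.toLin'_one, Matrix.toLin'_toMatrix', PrimeElemFlags.conj_pow, hy, End.one_eq_id,
      LinearEquiv.conj_id]
  have hYg : ∀ f : F[X], aeval Y f = LinearMap.toMatrix' (e.conj (aeval y f)) := fun f => by
    induction f using Polynomial.induction_on with
    | C a =>
      rw [aeval_C, aeval_C, Algebra.algebraMap_eq_smul_one, Algebra.algebraMap_eq_smul_one, map_smul, map_smul,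
        End.one_eq_id, LinearEquiv.conj_id, LinearMap.toMatrix'_id]
    | add a b ha hb => rw [map_add, map_add, map_add, map_add, ha, hb]
    | monomial j a ih =>
      rw [pow_succ, ← mul_assoc, map_mul, map_mul (aeval y), aeval_X, aeval_X, ih, hY, ← LinearMap.toMatrix'_comp]
      congr 1
      apply LinearMap.ext
      intro v
      simp [LinearEquiv.conj_apply]
  have hnd : ¬ r ∣ Fintype.card F - 1 := fun h => hc1 (hc ▸ (PrimeElemFlags.order_eq_one_iff rfl).2 h)
  have hroot : ∀ d : F, d ^ r = 1 → d = 1 := fun d hd => by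
    have hd0 : d ≠ 0 := fun h => by rw [h, zero_pow hr.out.ne_zero] at hd; exact zero_ne_one hd
    simpa [((Nat.Prime.coprime_iff_not_dvd hr.out).2 hnd).gcd_eq_one] using
      pow_gcd_eq_one.2 ⟨hd, FiniteField.pow_card_sub_one_eq_one d hd0⟩
  let x : Matrix.SpecialLinearGroup (Fin n) F := ⟨Y, hroot _ (by rw [← Matrix.det_pow, hYy, Matrix.det_one])⟩
  refine ⟨x, ⟨1, ?_⟩, fun z hz => ?_, fun P hP => ?_⟩
  · rw [Matrix.SpecialLinearGroup.coe_pow, one_smul]; exact hYy
  · have hz' : Y = z • 1 := hz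
    have hz1 : z = 1 := by
      refine hroot z ?_
      rw [hz', _root_.smul_pow, one_pow] at hYy
      have h := congrFun (congrFun hYy ⟨0, by omega⟩) ⟨0, by omega⟩
      simpa using h
    rw [hz1, one_smul] at hz'
    have h1 : aeval Y (X - C (1 : F)) = 0 := by rw [map_sub, aeval_X, aeval_C, map_one, hz', sub_self]
    rw [hYg, LinearEquiv.map_eq_zero_iff, LinearEquiv.map_eq_zero_iff] at h1
    have h2 := congrArg Prod.fst (LinearMap.congr_fun h1 (1, 0))
    rw [hyg, LinearMap.zero_apply, Prod.fst_zero, mul_one] at h2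
    have h3 : g ∣ X - C (1 : F) := by rw [← AdjoinRoot.mk_eq_zero, ← AdjoinRoot.aeval_eq]; exact h2
    have h4 := natDegree_le_of_dvd h3 (X_sub_C_ne_zero 1)
    rw [natDegree_X_sub_C, hgi] at h4
    have := PrimeElemFlags.order_pos (F := F) (r := r) rfl hrp
    omega
  obtain ⟨s, hs, hsr, hmap⟩ := exists_twist (by omega) F₀ (r := r) hφ (x := x) one_ne_zero (one_smul F Y).symm hYy hP
  have hs0 : φ s = s := by
    have := hroot _ hsr
    rwa [div_eq_one_iff_eq hs] at this
  set Q := ((P⁻¹ : Matrix.SpecialLinearGroup (Fin n) F) : M) with hQ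
  have hPQ : (P : M) * Q = 1 := by
    rw [← Matrix.SpecialLinearGroup.coe_mul, mul_inv_cancel, Matrix.SpecialLinearGroup.coe_one]
  have hQP : Q * (P : M) = 1 := by
    rw [← Matrix.SpecialLinearGroup.coe_mul, inv_mul_cancel, Matrix.SpecialLinearGroup.coe_one]
  set Z := Q * Y * (P : M) with hZ
  have hZmap : Z.map φ = Z := by
    ext i j
    have h := congrFun (congrFun hmap i) j
    rw [Matrix.map_apply, Matrix.smul_apply, smul_eq_mul, map_mul, map_inv₀, hs0] at h
    rw [Matrix.map_apply]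
    exact mul_left_cancel₀ (inv_ne_zero hs) h
  have hdet0 : (aeval Z g).det = 0 := by
    rw [hZ, aeval_conj hPQ hQP, Matrix.det_mul, Matrix.det_mul, hYg, LinearMap.det_toMatrix']
    have h : LinearMap.det (e.conj (aeval y g)) = 0 := by
      by_contra hne
      have hinj := ((LinearMap.equivOfDetNeZero _ hne).injective)
      have h0 : e.conj (aeval y g) (e (1, 0)) = e.conj (aeval y g) 0 := by
        rw [map_zero, LinearEquiv.conj_apply]
        simp [hyg, α, AdjoinRoot.aeval_eq]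
      have := hinj h0
      rw [LinearEquiv.map_eq_zero_iff, Prod.mk_eq_zero] at this
      exact one_ne_zero this.1
    rw [h, mul_zero, zero_mul]
  have hdet1 : (aeval Z (g.map φ)).det = 0 := by
    have h := congrArg φ hdet0
    rw [RingHom.map_det, RingHom.mapMatrix_apply, map_zero] at h
    have e1 := map_aeval_eq_aeval_map (φ := φ) (ψ := φ.mapMatrix (m := Fin n)) (by
      ext a i j
      simp [Matrix.algebraMap_matrix_apply]
      split_ifs <;> simp) g Z
    rw [RingHom.mapMatrix_apply] at e1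
    rw [e1, RingHom.mapMatrix_apply, hZmap] at h
    exact h
  have hann : aeval Z ((X - C (1 : F)) * g) = 0 := by
    rw [hZ, aeval_conj hPQ hQP, hYg]
    have h : aeval y ((X - C (1 : F)) * g) = 0 := by
      apply LinearMap.ext
      intro v
      rw [hyg]
      simp [α, AdjoinRoot.aeval_eq]
    rw [h, map_zero, map_zero, mul_zero, zero_mul]
  have hgφdeg : (g.map φ).natDegree = c := by rw [natDegree_map, hgi]
  have hgφirr : Irreducible (g.map φ) := by
    rw [show g.map φ = Polynomial.mapEquiv (RingEquiv.ofBijective φ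
      (Finite.injective_iff_bijective.1 φ.injective)) g from rfl]
    exact (MulEquiv.irreducible_iff (Polynomial.mapEquiv (RingEquiv.ofBijective φ
      (Finite.injective_iff_bijective.1 φ.injective)))).2 hg
  have hdiv : g.map φ ∣ g := by
    by_contra hnd'
    have h1 : ¬ g.map φ ∣ X - C (1 : F) := fun h => by
      have := natDegree_le_of_dvd h (X_sub_C_ne_zero 1)
      rw [natDegree_X_sub_C, hgφdeg] at this
      have := PrimeElemFlags.order_pos (F := F) (r := r) rfl hrp
      omega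
    obtain ⟨u, v, huv⟩ := hgφirr.coprime_iff_not_dvd.2 fun h => (hgφirr.prime.dvd_or_dvd h).elim h1 hnd'
    have h2 : (aeval Z u * aeval Z (g.map φ) + aeval Z v * aeval Z ((X - C (1 : F)) * g)).det = 1 := by
      rw [← map_mul, ← map_mul, ← map_add, huv, map_one, Matrix.det_one]
    rw [hann, mul_zero, add_zero, Matrix.det_mul, hdet1, mul_zero] at h2
    exact zero_ne_one h2
  have hfix : g.map φ = g := eq_of_monic_of_associated (hgm.map φ) hgm (hgφirr.associated_of_dvd hg hdiv)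
  obtain ⟨g₀, hg₀⟩ := Descend.exists_descent (F₀ := F₀) g fun i => (hφ _).1 (by
    conv_rhs => rw [← hfix]
    rw [coeff_map])
  have hm₀ : g₀.Monic := monic_of_injective F₀.subtype.injective (hg₀ ▸ hgm)
  have hg₀i : Irreducible g₀ := hm₀.irreducible_of_irreducible_map F₀.subtype _ (hg₀ ▸ hg)
  have hg₀d : g₀ ∣ cyclotomic r F₀ := by
    refine (map_dvd_map F₀.subtype F₀.subtype.injective hm₀).1 ?_
    rw [hg₀, map_cyclotomic]
    exact hgd
  letI : Fintype F₀ := Fintype.ofFinite F₀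
  have : CharP F₀ p := (RingHom.charP_iff_charP F₀.subtype p).2 inferInstance
  have h := PrimeElemFlags.deg_eq (F := F₀) (q := q₀) (by rw [← Nat.card_eq_fintype_card, hF₀]) hrp g₀ hg₀i hg₀d
  rw [← natDegree_map (f := F₀.subtype), hg₀, hgi] at h
  exact hcc h.symm

/-- Symmetry forced on split elements. -/
theorem split_symmetry {F₀ : Subfield F} (hrp : r ≠ p) (hn : 0 < n) {q₀ : ℕ} (hF₀ : Nat.card ↥F₀ = q₀) {ζ : F} (hζ : IsPrimitiveRoot ζ r)
    {x P : Matrix.SpecialLinearGroup (Fin n) F} {a : F} (ha : a ≠ 0) {e : Fin n → ZMod r}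
    (hxy : (x : M) = a • Matrix.diagonal fun i => ζ ^ (e i).val)
    (h : P⁻¹ * x * P ∈ ((Cfsg.Geo.subfieldSubgroup F₀ 1).comap (Matrix.SpecialLinearGroup.toGL : Matrix.SpecialLinearGroup (Fin n) F →* GL (Fin n) F))) :
    ∃ (m : ZMod r) (σ : Equiv.Perm (Fin n)), ∀ i, e (σ i) = m + (q₀ : ZMod r) * e i := by
  classical
  obtain ⟨φ, hφq, hφ⟩ := Descend.exists_frob F₀ (p := p)
  rw [hF₀] at hφq
  set Y : M := Matrix.diagonal fun i => ζ ^ (e i).val with hYdef
  have hpow : ∀ j : ℕ, ζ ^ j = ζ ^ ((j : ZMod r)).val := fun j => by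
    rw [ZMod.val_natCast, ← pow_eq_pow_mod j hζ.pow_eq_one]
  have hY : Y ^ r = 1 := by
    rw [hYdef, Matrix.diagonal_pow, ← Matrix.diagonal_one]
    congr 1
    funext i
    show (ζ ^ (e i).val) ^ r = 1
    rw [← pow_mul, mul_comm, pow_mul, hζ.pow_eq_one, one_pow]
  obtain ⟨s, hs, hsr, hmap⟩ := exists_twist hn F₀ (r := r) hφ ha hxy hY h
  set Q := ((P⁻¹ : Matrix.SpecialLinearGroup (Fin n) F) : M) with hQ
  have hφs0 : φ s ≠ 0 := (map_ne_zero φ).2 hs
  obtain ⟨m, hm⟩ : ∃ m : ZMod r, s / φ s = ζ ^ m.val := by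
    obtain ⟨j, -, hj⟩ := hζ.eq_pow_of_pow_eq_one (ξ := s / φ s) (by
      rw [← inv_div, inv_pow, hsr, inv_one])
    exact ⟨j, by rw [← hpow, hj]⟩
  have hchar : (s⁻¹ • (Q * Y * (P : M))).charpoly = ∏ i, (X - C (s⁻¹ * ζ ^ (e i).val)) := by
    have e1 : s⁻¹ • (Q * Y * (P : M)) = Q * (Matrix.diagonal fun i => s⁻¹ * ζ ^ (e i).val) * (P : M) := by
      rw [← Matrix.smul_mul, ← Matrix.mul_smul, hYdef, ← Matrix.diagonal_smul]
      rfl
    rw [e1, ← Matrix.charpoly_diagonal]
    rw [Matrix.charpoly_mul_comm, ← mul_assoc, hQ, ← Matrix.SpecialLinearGroup.coe_mul, mul_inv_cancel,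
      Matrix.SpecialLinearGroup.coe_one, one_mul]
  have hroots : Finset.univ.val.map (fun i => φ (s⁻¹ * ζ ^ (e i).val)) = Finset.univ.val.map (fun i => s⁻¹ * ζ ^ (e i).val) := by
    have h1 := congrArg (Polynomial.map φ) hchar
    rw [← Matrix.charpoly_map, hmap, hchar, Polynomial.map_prod] at h1
    simp only [Polynomial.map_sub, map_X, map_C] at h1
    have h2 := congrArg Polynomial.roots h1.symm
    rw [Finset.prod_eq_multiset_prod, Finset.prod_eq_multiset_prod] at h2
    have e2 : ∀ f : Fin n → F, (Finset.univ.val.map fun i => X - C (f i)) = (Finset.univ.val.map f).map fun a => X - C a :=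
      fun f => (Multiset.map_map (fun a => X - C a) f _).symm
    rw [e2 fun i => φ (s⁻¹ * ζ ^ (e i).val), e2 fun i => s⁻¹ * ζ ^ (e i).val, roots_multiset_prod_X_sub_C,
      roots_multiset_prod_X_sub_C] at h2
    exact h2
  obtain ⟨σ, hσ⟩ := exists_perm hroots.symm
  refine ⟨m, σ, fun i => ?_⟩
  have h1 := hσ i
  rw [map_mul, map_inv₀, map_pow, hφq ζ, ← pow_mul] at h1
  have h2 : ζ ^ (e (σ i)).val = ζ ^ (m + (q₀ : ZMod r) * e i).val := by
    rw [hpow (q₀ * (e i).val), Nat.cast_mul, ZMod.natCast_rightInverse (e i)] at h1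
    have h3 : ∀ u v : ZMod r, ζ ^ (u + v).val = ζ ^ u.val * ζ ^ v.val := fun u v => by
      rw [← pow_add, ZMod.val_add, ← pow_eq_pow_mod _ hζ.pow_eq_one]
    rw [h3, ← hm]
    field_simp at h1 ⊢
    linear_combination h1
  exact ZMod.val_injective r (hζ.pow_inj (ZMod.val_lt _) (ZMod.val_lt _) h2)

/-- A diagonal element from exponents. -/
theorem exists_diag {ζ : F} (hζ : IsPrimitiveRoot ζ r) {a : F} {e : Fin n → ZMod r}
    (hdet : a ^ n * ζ ^ (∑ i, e i).val = 1) (i j : Fin n) (hne : e i ≠ e j) :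
    ∃ x : Matrix.SpecialLinearGroup (Fin n) F, (x : M) = a • Matrix.diagonal (fun i => ζ ^ (e i).val) ∧
      (∃ z : F, ((x ^ r : Matrix.SpecialLinearGroup (Fin n) F) : M) = z • 1) ∧ (∀ z : F, (x : M) ≠ z • 1) := by
  classical
  have hprod : ∏ i, ζ ^ (e i).val = ζ ^ (∑ i, e i).val := by
    rw [Finset.prod_pow_eq_pow_sum, pow_eq_pow_mod _ hζ.pow_eq_one, ← ZMod.val_natCast r, Nat.cast_sum]
    simp only [ZMod.natCast_zmod_val]
  have hd : (a • Matrix.diagonal (fun i => ζ ^ (e i).val) : M).det = 1 := by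
    rw [Matrix.det_smul, Matrix.det_diagonal, Fintype.card_fin, hprod, hdet]
  let x : Matrix.SpecialLinearGroup (Fin n) F := ⟨_, hd⟩
  refine ⟨x, rfl, ⟨a ^ r, ?_⟩, fun z hz => hne ?_⟩
  · rw [Matrix.SpecialLinearGroup.coe_pow]
    show (a • Matrix.diagonal (fun i => ζ ^ (e i).val) : M) ^ r = _
    rw [_root_.smul_pow, Matrix.diagonal_pow, ← Matrix.diagonal_one]
    congr 2
    funext i
    show (ζ ^ (e i).val) ^ r = 1
    rw [← pow_mul, mul_comm, pow_mul, hζ.pow_eq_one, one_pow]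
  · have hz' : (a • Matrix.diagonal (fun i => ζ ^ (e i).val) : M) = z • 1 := hz
    have h1 := congrFun (congrFun hz' i) i
    have h2 := congrFun (congrFun hz' j) j
    simp at h1 h2
    have ha : a ≠ 0 := fun h => by
      have hn : n ≠ 0 := fun h0 => by subst h0; exact Fin.elim0 i
      rw [h, zero_pow hn, zero_mul] at hdet
      exact zero_ne_one hdet
    exact ZMod.val_injective r (hζ.pow_inj (ZMod.val_lt _) (ZMod.val_lt _) (mul_left_cancel₀ ha (h1.trans h2.symm)))

end

/-- The bad exponents when the Frobenius has order at least three. -/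
theorem no_symm_large {r : ℕ} [Fact r.Prime] (hr2 : r ≠ 2) (hn : 2 ≤ n) (hn3 : n = 3 → r ≠ 3) {Q : ZMod r} (hQ0 : Q ≠ 0)
    (hQ1 : Q ≠ 1) (hQ2 : Q ≠ -1) {m : ZMod r} {σ : Equiv.Perm (Fin n)} {e : Fin n → ZMod r}
    (he : e = fun i => if i.val = 0 then 1 else if i.val = 1 then -1 else 0) :
    ¬ ∀ i, e (σ i) = m + Q * e i := by
  intro h
  have h10 : (1 : ZMod r) ≠ 0 := one_ne_zero
  have he0 : e ⟨0, by omega⟩ = 1 := by rw [he]; rfl
  have he1 : e ⟨1, by omega⟩ = -1 := by rw [he]; rfl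
  have he2 : ∀ i : Fin n, 2 ≤ i.val → e i = 0 := fun i hi => by
    rw [he]; simp [show i.val ≠ 0 by omega, show i.val ≠ 1 by omega]
  have hm : m = 0 := by
    by_cases hsmall : n ≤ 3
    · have h1 := Equiv.sum_comp σ e
      simp only [h, Finset.sum_add_distrib, Finset.sum_const, Finset.card_univ, Fintype.card_fin, ← Finset.mul_sum,
        nsmul_eq_mul] at h1
      have hs : ∑ i, e i = 0 := by
        rw [he]
        rcases (by omega : n = 2 ∨ n = 3) with rfl | rfl
        · simp [Fin.sum_univ_two]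
        · simp [Fin.sum_univ_three]
      rw [hs, mul_zero, add_zero] at h1
      refine (mul_eq_zero.1 h1).resolve_left fun h0 => ?_
      rw [ZMod.natCast_eq_zero_iff] at h0
      rcases (by omega : n = 2 ∨ n = 3) with rfl | rfl
      · exact hr2 ((Nat.prime_dvd_prime_iff_eq (Fact.out : r.Prime) Nat.prime_two).1 h0)
      · exact hn3 rfl ((Nat.prime_dvd_prime_iff_eq (Fact.out : r.Prime) Nat.prime_three).1 h0)
    · have h2 := h ⟨2, by omega⟩
      have h3 := h ⟨3, by omega⟩
      rw [he2 ⟨2, by omega⟩ (by simp), mul_zero, add_zero] at h2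
      rw [he2 ⟨3, by omega⟩ (by simp), mul_zero, add_zero] at h3
      have hne : σ ⟨2, by omega⟩ ≠ σ ⟨3, by omega⟩ := σ.injective.ne (by simp)
      set i := σ ⟨2, by omega⟩
      set j := σ ⟨3, by omega⟩
      by_cases hi : 2 ≤ i.val
      · rw [← h2, he2 i hi]
      by_cases hj : 2 ≤ j.val
      · rw [← h3, he2 j hj]
      exfalso
      have hij : i.val ≠ j.val := fun e' => hne (Fin.ext e')
      have hee : e ⟨0, by omega⟩ = e ⟨1, by omega⟩ := by
        rcases (by omega : (i.val = 0 ∧ j.val = 1) ∨ (i.val = 1 ∧ j.val = 0)) with ⟨a, b⟩ | ⟨a, b⟩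
        · rw [show (⟨0, by omega⟩ : Fin n) = i from Fin.ext a.symm, show (⟨1, by omega⟩ : Fin n) = j from Fin.ext b.symm, h2, h3]
        · rw [show (⟨1, by omega⟩ : Fin n) = i from Fin.ext a.symm, show (⟨0, by omega⟩ : Fin n) = j from Fin.ext b.symm, h2, h3]
      rw [he0, he1] at hee
      have h2' : ((2 : ℕ) : ZMod r) = 0 := by push_cast; linear_combination hee
      rw [ZMod.natCast_eq_zero_iff] at h2'
      exact hr2 ((Nat.prime_dvd_prime_iff_eq (Fact.out : r.Prime) Nat.prime_two).1 h2')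
  have h0 := h ⟨0, by omega⟩
  rw [hm, zero_add, he0, mul_one, he] at h0
  simp only at h0
  split_ifs at h0
  exacts [hQ1 h0.symm, hQ2 h0.symm, hQ0 h0.symm]

/-- The bad exponents for the inversion, `r = 3`. -/
theorem no_symm_three (hn : 4 ≤ n) (hn6 : n ≠ 6) {m : ZMod 3} {σ : Equiv.Perm (Fin n)} {e : Fin n → ZMod 3}
    (he : e = fun i => if i.val < 3 then 1 else 0) : ¬ ∀ i, e (σ i) = m + (-1) * e i := by
  classical
  intro h
  have h0 := h ⟨0, by omega⟩
  have h3 := h ⟨3, by omega⟩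
  simp only [he] at h0 h3
  rw [if_pos (by norm_num : (0 : ℕ) < 3)] at h0
  rw [if_neg (lt_irrefl 3)] at h3
  have hm : m = 1 := by
    have key : ∀ a b m : ZMod 3, (a = 1 ∨ a = 0) → (b = 1 ∨ b = 0) → a = m + -1 * 1 → b = m + -1 * 0 → m = 1 := by decide
    exact key _ _ _ (ite_eq_or_eq _ _ _) (ite_eq_or_eq _ _ _) h0 h3
  have hswap : ∀ i, (σ i).val < 3 ↔ ¬ i.val < 3 := fun i => by
    have h1 := h i
    simp only [he, hm] at h1
    constructor
    · intro hs hi
      rw [if_pos hs, if_pos hi] at h1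
      exact absurd h1 (by decide)
    · intro hi
      by_contra hs
      rw [if_neg hs, if_neg hi] at h1
      exact absurd h1 (by decide)
  have hc : Fintype.card {i : Fin n // ¬ i.val < 3} = Fintype.card {i : Fin n // i.val < 3} :=
    Fintype.card_congr (σ.subtypeEquiv fun i => (hswap i).symm)
  have h3' : Fintype.card {i : Fin n // i.val < 3} = 3 := by
    rw [Fintype.card_congr (Fin.castLEquiv (show 3 ≤ n by omega)).symm, Fintype.card_fin]
  rw [Fintype.card_subtype_compl, Fintype.card_fin, h3'] at hc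
  omega

/-- The bad exponents for the inversion, `r ≥ 5`. -/
theorem no_symm_five {r : ℕ} [Fact r.Prime] (hr : 5 ≤ r) (hn : 3 ≤ n) (h55 : ¬ (n = 5 ∧ r = 5)) {m : ZMod r}
    {σ : Equiv.Perm (Fin n)} {e : Fin n → ZMod r}
    (he : e = fun i => if i.val < 2 then 1 else if i.val = 2 then -2 else 0) : ¬ ∀ i, e (σ i) = m + (-1) * e i := by
  classical
  intro h
  have hN : ∀ j : ℕ, 0 < j → j ≤ 6 → (j : ZMod r) = 0 → j = r ∨ j = 6 := fun j h1 h2 h3 => by
    rw [ZMod.natCast_eq_zero_iff] at h3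
    have := Nat.le_of_dvd h1 h3
    rcases (by omega : j = r ∨ (r < j ∧ j ≤ 6)) with h4 | ⟨h4, h5⟩
    · exact Or.inl h4
    · exact Or.inr (by omega)
  have h6 : (6 : ZMod r) ≠ 0 := fun h6 => by
    have h6' : ((6 : ℕ) : ZMod r) = 0 := by exact_mod_cast h6
    rw [ZMod.natCast_eq_zero_iff] at h6'
    rcases (by have := Nat.le_of_dvd (by norm_num) h6'; omega : r = 5 ∨ r = 6) with rfl | rfl
    · omega
    · exact absurd (Fact.out : Nat.Prime 6) (by decide)
  have h3ne : (3 : ZMod r) ≠ 0 := fun h3 => h6 (by linear_combination (2 : ZMod r) * h3)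
  have h2ne : (2 : ZMod r) ≠ 0 := fun h2 => h6 (by linear_combination (3 : ZMod r) * h2)
  have h4ne : (4 : ZMod r) ≠ 0 := fun h4 => by
    rcases mul_eq_zero.1 (show (2 : ZMod r) * 2 = 0 by linear_combination h4) with h | h <;> exact h2ne h
  have cases3 : ∀ i : Fin n, (i.val < 2 ∧ e i = 1) ∨ (i.val = 2 ∧ e i = -2) ∨ (3 ≤ i.val ∧ e i = 0) := fun i => by
    rw [he]
    by_cases h1 : i.val < 2
    · exact Or.inl ⟨h1, if_pos h1⟩
    · by_cases h2 : i.val = 2
      · exact Or.inr (Or.inl ⟨h2, by simp [h1, h2]⟩)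
      · exact Or.inr (Or.inr ⟨by omega, by simp [h1, h2]⟩)
  have v0 : e ⟨0, by omega⟩ = 1 := by rw [he]; rfl
  have v1 : e ⟨1, by omega⟩ = 1 := by rw [he]; rfl
  have v2 : e ⟨2, by omega⟩ = -2 := by rw [he]; rfl
  have h0 := h ⟨0, by omega⟩
  have h1 := h ⟨1, by omega⟩
  have h2 := h ⟨2, by omega⟩
  rw [v0] at h0
  rw [v1] at h1
  rw [v2] at h2
  have hne : σ ⟨0, by omega⟩ ≠ σ ⟨1, by omega⟩ := σ.injective.ne (by simp)
  have hpair : (m + -1 * 1 = 1) ∨ (m + -1 * 1 = 0) := by
    rcases cases3 (σ ⟨0, by omega⟩) with ⟨-, a⟩ | ⟨a', a⟩ | ⟨-, a⟩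
    · exact Or.inl (h0 ▸ a)
    · rcases cases3 (σ ⟨1, by omega⟩) with ⟨-, b⟩ | ⟨b', b⟩ | ⟨-, b⟩
      · exact Or.inl (h1 ▸ b)
      · exact absurd (Fin.ext (a'.trans b'.symm)) hne
      · exact Or.inr (h1 ▸ b)
    · exact Or.inr (h0 ▸ a)
  rcases hpair with hm | hm
  · have hm2 : m = 2 := by linear_combination hm
    rcases cases3 (σ ⟨2, by omega⟩) with ⟨-, a⟩ | ⟨-, a⟩ | ⟨-, a⟩ <;> rw [h2, hm2] at a
    · exact h3ne (by linear_combination a)
    · exact h6 (by linear_combination a)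
    · exact h4ne (by linear_combination a)
  have hm1 : m = 1 := by linear_combination hm
  -- the zeros go to the two ones
  have hz : ∀ i : Fin n, 3 ≤ i.val → (σ i).val < 2 := fun i hi => by
    have h' := h i
    have ei : e i = 0 := by
      rw [he]; simp [show ¬ i.val < 2 by omega, show i.val ≠ 2 by omega]
    rw [ei, hm1] at h'
    rcases cases3 (σ i) with ⟨a, -⟩ | ⟨-, a⟩ | ⟨-, a⟩
    · exact a
    · exact absurd (show (3 : ZMod r) = 0 by linear_combination a.symm.trans h' |>.symm) h3ne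
    · exact absurd (show (1 : ZMod r) = 0 by linear_combination a.symm.trans h' |>.symm) one_ne_zero
  have hn5 : n ≤ 5 := by
    by_contra h5
    have a := hz ⟨3, by omega⟩ le_rfl
    have b := hz ⟨4, by omega⟩ (by simp)
    have c := hz ⟨5, by omega⟩ (by simp)
    rcases (by omega : (σ ⟨3, by omega⟩).val = (σ ⟨4, by omega⟩).val ∨ (σ ⟨3, by omega⟩).val = (σ ⟨5, by omega⟩).val ∨
      (σ ⟨4, by omega⟩).val = (σ ⟨5, by omega⟩).val) with e' | e' | e' <;>
      simpa using σ.injective (Fin.ext e')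
  -- the ones go to zeros
  have hbig : ∀ i : Fin n, i.val < 2 → 3 ≤ (σ i).val := fun i hi => by
    have h' := h i
    have ei : e i = 1 := by rw [he]; simp [hi]
    rw [ei, hm1] at h'
    rcases cases3 (σ i) with ⟨-, a⟩ | ⟨-, a⟩ | ⟨a, -⟩
    · exact absurd (show (1 : ZMod r) = 0 by linear_combination a.symm.trans h') one_ne_zero
    · exact absurd (show (2 : ZMod r) = 0 by linear_combination (a.symm.trans h').symm) h2ne
    · exact a
  have hn5' : n = 5 := by
    by_contra h5
    have a := hbig ⟨0, by omega⟩ (by simp)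
    have b := hbig ⟨1, by omega⟩ (by simp)
    have a' := (σ ⟨0, by omega⟩).isLt
    have b' := (σ ⟨1, by omega⟩).isLt
    exact hne (Fin.ext (by omega))
  rcases cases3 (σ ⟨2, by omega⟩) with ⟨-, a⟩ | ⟨-, a⟩ | ⟨-, a⟩ <;> rw [h2, hm1] at a
  · exact h2ne (by linear_combination a)
  · have h5 : ((5 : ℕ) : ZMod r) = 0 := by push_cast; linear_combination a
    rw [ZMod.natCast_eq_zero_iff] at h5
    exact h55 ⟨hn5', by have := Nat.le_of_dvd (by norm_num) h5; omega⟩
  · exact h3ne (by linear_combination a)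

/-- Symmetry of ordered exponent lists, five values. -/
theorem symm_five : ∀ a : ZMod 5, ∀ b : ZMod 5, a.val ≤ b.val → ∀ c : ZMod 5, b.val ≤ c.val → ∀ d : ZMod 5,
    c.val ≤ d.val → d.val ≤ (-(a + b + c + d)).val → ∃ s : Fin 5, ∃ m : ZMod 5, ∀ j : Fin 5,
      (![a, b, c, d, -(a + b + c + d)] : Fin 5 → ZMod 5) (s - j) = m - (![a, b, c, d, -(a + b + c + d)] : Fin 5 → ZMod 5) j := by
  decide

/-- Symmetry of ordered exponent lists, three values. -/
theorem symm_three : ∀ a : ZMod 3, ∀ b : ZMod 3, a.val ≤ b.val → b.val ≤ (-(a + b)).val → ∃ s : Fin 3, ∃ m : ZMod 3,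
    ∀ j : Fin 3, (![a, b, -(a + b)] : Fin 3 → ZMod 3) (s - j) = m - (![a, b, -(a + b)] : Fin 3 → ZMod 3) j := by
  decide

theorem exists_involution {n : ℕ} (h35 : n = 3 ∨ n = 5) (e : Fin n → ZMod n) (hmono : Monotone fun i => (e i).val)
    (hsum : ∑ i, e i = 0) : ∃ (σ : Fin n → Fin n) (m : ZMod n), (∀ j, σ (σ j) = j) ∧ ∀ j, e (σ j) = m - e j := by
  rcases h35 with rfl | rfl
  · rw [Fin.sum_univ_three] at hsum
    have he : e = ![e 0, e 1, -(e 0 + e 1)] := by
      funext i
      fin_cases i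
      · rfl
      · rfl
      · show e 2 = -(e 0 + e 1); linear_combination hsum
    have h := symm_three (e 0) (e 1) (hmono (show (0 : Fin 3) ≤ 1 by decide)) (by
      have h2 : e 2 = -(e 0 + e 1) := by linear_combination hsum
      rw [← h2]; exact hmono (show (1 : Fin 3) ≤ 2 by decide))
    rw [← he] at h
    obtain ⟨s, m, hs⟩ := h
    exact ⟨fun j => s - j, m, fun j => sub_sub_cancel s j, hs⟩
  · rw [Fin.sum_univ_five] at hsum
    have h4 : e 4 = -(e 0 + e 1 + e 2 + e 3) := by linear_combination hsum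
    have he : e = ![e 0, e 1, e 2, e 3, -(e 0 + e 1 + e 2 + e 3)] := by
      funext i
      fin_cases i
      · rfl
      · rfl
      · rfl
      · rfl
      · exact h4
    have h := symm_five (e 0) (e 1) (hmono (show (0 : Fin 5) ≤ 1 by decide)) (e 2)
      (hmono (show (1 : Fin 5) ≤ 2 by decide)) (e 3) (hmono (show (2 : Fin 5) ≤ 3 by decide)) (by
        rw [← h4]; exact hmono (show (3 : Fin 5) ≤ 4 by decide))
    rw [← he] at h
    obtain ⟨s, m, hs⟩ := h
    exact ⟨fun j => s - j, m, fun j => sub_sub_cancel s j, hs⟩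

/-- A diagonal matrix permuted by an involutive Frobenius is conjugate to one fixed by it. -/
theorem exists_form {φ : F →+* F} {θ : F} (hθ : φ θ ≠ θ) (hφ2 : ∀ c, φ (φ c) = c) (σ : Fin n → Fin n)
    (hσ : ∀ j, σ (σ j) = j) (u : Fin n → F) (hu : ∀ j, φ (u j) = u (σ j)) :
    ∃ B M₀ : M, B.det ≠ 0 ∧ Matrix.diagonal u * B = B * M₀ ∧ M₀.map φ = M₀ := by
  classical
  let B : M := Matrix.of fun i l =>
    if σ l = l then (if i = l then 1 else 0)
    else if l < σ l then (if i = l ∨ i = σ l then 1 else 0)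
    else if i = σ l then θ else if i = l then φ θ else 0
  have hB : ∀ i l, φ (B i l) = B (σ i) l := by
    intro i l
    have e1 : σ i = l ↔ i = σ l := ⟨fun h => by rw [← h, hσ], fun h => by rw [h, hσ]⟩
    have e2 : σ i = σ l ↔ i = l := ⟨fun h => by simpa [hσ] using congrArg σ h, fun h => by rw [h]⟩
    simp only [B, Matrix.of_apply]
    by_cases h0 : σ l = l
    · rw [if_pos h0, if_pos h0, apply_ite φ, map_one, map_zero]
      simp only [e1, h0]
    rw [if_neg h0, if_neg h0]
    by_cases hl : l < σ l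
    · rw [if_pos hl, if_pos hl, apply_ite φ, map_one, map_zero]
      simp only [e1, e2, or_comm]
    rw [if_neg hl, if_neg hl]
    by_cases ha : i = σ l
    · have hne : ¬ σ i = σ l := fun h => h0 (by rw [← ha, e2.1 h])
      rw [if_pos ha, if_neg hne, if_pos (e1.2 ha)]
    · by_cases hb : i = l
      · rw [if_neg ha, if_pos hb, if_pos (e2.2 hb), hφ2]
      · rw [if_neg ha, if_neg hb, if_neg (fun h => hb (e2.1 h)), if_neg (fun h => ha (e1.1 h)), map_zero]
  have hdet : B.det ≠ 0 := by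
    intro h0
    obtain ⟨v, hv0, hv⟩ := Matrix.exists_mulVec_eq_zero_iff.2 h0
    apply hv0
    have hrow : ∀ i, ∑ l, B i l * v l = 0 := fun i => congrFun hv i
    have hsupp : ∀ i l, l ≠ i → l ≠ σ i → B i l = 0 := by
      intro i l h1 h2
      have h2' : ¬ i = σ l := fun h => h2 (by rw [h, hσ])
      simp only [B, Matrix.of_apply, Ne.symm h1, h2', or_self, if_false, ite_self]
    funext i
    by_cases hi : σ i = i
    · have h := hrow i
      rw [Finset.sum_eq_single i (fun l _ hl => by rw [hsupp i l hl (hi.symm ▸ hl), zero_mul])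
        (fun h => absurd (Finset.mem_univ i) h)] at h
      simpa [B, hi] using h
    have key : ∀ a, σ a ≠ a → a < σ a → v a = 0 ∧ v (σ a) = 0 := by
      intro a ha hlt
      have h1 := hrow a
      rw [Finset.sum_eq_add a (σ a) ha.symm (fun l _ hl => by rw [hsupp a l hl.1 hl.2, zero_mul])
        (fun h => absurd (Finset.mem_univ a) h) (fun h => absurd (Finset.mem_univ _) h)] at h1
      have h2 := hrow (σ a)
      rw [Finset.sum_eq_add a (σ a) ha.symm (fun l _ hl => by rw [hsupp (σ a) l hl.2 (by rw [hσ]; exact hl.1), zero_mul])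
        (fun h => absurd (Finset.mem_univ a) h) (fun h => absurd (Finset.mem_univ _) h)] at h2
      have hnlt : ¬ σ a < a := not_lt.2 hlt.le
      simp [B, hσ, ha, ha.symm, hlt, hnlt] at h1 h2
      have h3 : (θ - φ θ) * v (σ a) = 0 := by linear_combination h1 - h2
      have h4 := (mul_eq_zero.1 h3).resolve_left (sub_ne_zero.2 (Ne.symm hθ))
      rw [h4, mul_zero, add_zero] at h1
      exact ⟨h1, h4⟩
    rcases lt_or_gt_of_ne hi with h | h
    · have := (key (σ i) (by rw [hσ]; exact Ne.symm hi) (by rw [hσ]; exact h)).2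
      rwa [hσ] at this
    · exact (key i hi h).1
  refine ⟨B, B⁻¹ * (Matrix.diagonal u * B), hdet, ?_, ?_⟩
  · rw [← mul_assoc B, Matrix.mul_nonsing_inv _ (isUnit_iff_ne_zero.2 hdet), one_mul]
  set M₀ := B⁻¹ * (Matrix.diagonal u * B)
  have h1 : B * M₀ = Matrix.diagonal u * B := by
    rw [← mul_assoc B, Matrix.mul_nonsing_inv _ (isUnit_iff_ne_zero.2 hdet), one_mul]
  have h2 : B * M₀.map φ = Matrix.diagonal u * B := by
    ext i l
    have h := congrArg φ (congrFun (congrFun h1 (σ i)) l)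
    rw [Matrix.mul_apply, map_sum, Matrix.diagonal_mul, map_mul, hu, hσ] at h
    simp only [map_mul, hB, hσ] at h
    rw [Matrix.mul_apply, Matrix.diagonal_mul]
    simpa [Matrix.map_apply] using h
  have h3 := congrArg (B⁻¹ * ·) (h2.trans h1.symm)
  simpa [← mul_assoc, Matrix.nonsing_inv_mul _ (isUnit_iff_ne_zero.2 hdet)] using h3

section

variable [Fintype F] {p : ℕ} [Fact p.Prime] [CharP F p] {r : ℕ} [hr : Fact r.Prime]

/-- The special positive case. -/
theorem good_special {F₀ : Subfield F} {q₀ : ℕ} (hF₀ : Nat.card ↥F₀ = q₀) (hqk : Fintype.card F = q₀ ^ 2)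
    (hr2 : r ≠ 2) (hrp : r ≠ p) (hrn : r = n) (h35 : n = 3 ∨ n = 5) (hv : padicValNat r (q₀ + 1) = 1)
    (x : Matrix.SpecialLinearGroup (Fin n) F) {z : F} (hz : ((x ^ r : Matrix.SpecialLinearGroup (Fin n) F) : M) = z • 1) :
    ∃ P : Matrix.SpecialLinearGroup (Fin n) F, P⁻¹ * x * P ∈
      ((Cfsg.Geo.subfieldSubgroup F₀ 1).comap (Matrix.SpecialLinearGroup.toGL : Matrix.SpecialLinearGroup (Fin n) F →* GL (Fin n) F)) := by
  classical
  subst hrn
  letI : Fintype F₀ := Fintype.ofFinite F₀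
  have hq02 : 2 ≤ q₀ := by rw [← hF₀, Nat.card_eq_fintype_card]; exact Fintype.one_lt_card
  obtain ⟨φ, hφq, hφ⟩ := Descend.exists_frob F₀ (p := p)
  rw [hF₀] at hφq
  have hd1 : r ∣ q₀ + 1 := dvd_of_one_le_padicValNat (by omega)
  have hd0 : ¬ r ∣ q₀ - 1 := fun h => by
    have h2 := Nat.dvd_sub hd1 h
    rw [show q₀ + 1 - (q₀ - 1) = 2 by omega] at h2
    exact hr2 ((Nat.prime_dvd_prime_iff_eq hr.out Nat.prime_two).1 h2)
  have hqf : Fintype.card F - 1 = (q₀ + 1) * (q₀ - 1) := by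
    rw [hqk, ← Nat.sq_sub_sq, one_pow]
  have hd : r ∣ Fintype.card F - 1 := hqf ▸ hd1.mul_right _
  have hr0 : (r : F) ≠ 0 := PrimeElemFlags.cast_ne_zero hrp
  rw [Matrix.SpecialLinearGroup.coe_pow] at hz
  have hn : 0 < r := hr.out.pos
  have hz0 : z ≠ 0 := fun h => by
    have h1 := congrArg Matrix.det hz
    rw [Matrix.det_pow, x.2, one_pow, h, zero_smul, Matrix.det_zero] at h1
    exact one_ne_zero h1
  have hzr : z ^ r = 1 := by
    have h1 := congrArg Matrix.det hz
    rw [Matrix.det_pow, x.2, one_pow, Matrix.det_smul, Fintype.card_fin, Matrix.det_one, mul_one] at h1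
    exact h1.symm
  have hy0 : (Matrix.toLin' (x : Matrix (Fin r) (Fin r) F)) ^ r = z • 1 := by
    rw [← Matrix.toLin'_pow, hz, map_smul, Matrix.toLin'_one]; rfl
  have hz1 : z = 1 := by
    by_cases hcube : ∃ a : F, a ^ r = z
    · obtain ⟨a, rfl⟩ := hcube
      have ha0 : a ≠ 0 := fun h => hz0 (by rw [h, zero_pow hn.ne'])
      have h9 : (Units.mk0 a ha0) ^ (r * r) = 1 := Units.ext (by simp [pow_mul, hzr])
      have hg := pow_gcd_eq_one.2 ⟨h9, (pow_card_eq_one' : (Units.mk0 a ha0) ^ Nat.card Fˣ = 1)⟩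
      rw [PrimeElemFlags.card_sub_one rfl] at hg
      have hg3 : Nat.gcd (r * r) (Fintype.card F - 1) ∣ r := by
        obtain ⟨k, hk', hk2⟩ := (Nat.dvd_prime_pow hr.out).1
          (show Nat.gcd (r * r) (Fintype.card F - 1) ∣ r ^ 2 by rw [pow_two]; exact Nat.gcd_dvd_left _ _)
        interval_cases k
        · rw [hk2]; simp
        · rw [hk2, pow_one]
        · exfalso
          have h2 := Nat.gcd_dvd_right (r * r) (Fintype.card F - 1)
          rw [hk2, hqf] at h2
          have h3 := (Nat.Coprime.pow_left 2 ((Nat.Prime.coprime_iff_not_dvd hr.out).2 hd0)).dvd_of_dvd_mul_right h2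
          have h4 := (padicValNat_dvd_iff_le (show q₀ + 1 ≠ 0 by omega)).1 h3
          omega
      obtain ⟨t, ht⟩ := hg3
      have h5 : (Units.mk0 a ha0) ^ r = 1 := by rw [ht, pow_mul, hg, one_pow]
      simpa using congrArg Units.val h5
    · exfalso
      push Not at hcube
      have hirr := X_pow_sub_C_irreducible_of_prime hr.out hcube
      have hd := PrimeElem.det_eq r z hirr (PrimeElemFlags.sq hr0 hz0) hn 1
        (Matrix.toLin' (x : Matrix (Fin r) (Fin r) F)) (by simp) (PrimeElemFlags.aeval_eq_zero hy0)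
      rw [LinearMap.det_toLin', x.2, pow_one, Even.neg_one_pow ((hr.out.odd_of_ne_two hr2).add_one), one_mul] at hd
      exact hcube 1 (by rw [one_pow, hd])
  rw [hz1, one_smul] at hy0
  have hsplit : ∀ g : F[X], Irreducible g → g ∣ X ^ r - C 1 → g.natDegree = 1 := fun g hg hgd =>
    (PrimeElemFlags.one_dvd_factors (fun g hg hd' => (PrimeElemFlags.deg_eq rfl hrp g hg hd').trans
      ((PrimeElemFlags.order_eq_one_iff rfl).2 hd)) g hg hgd).elim id id
  obtain ⟨b, f, hbf⟩ := Descend.exists_eigenbasis hr0 hy0 hsplit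
  obtain ⟨w, hw⟩ := exists_prime_orderOf_dvd_card' (G := Fˣ) r (by rwa [PrimeElemFlags.card_sub_one rfl])
  have hζ : IsPrimitiveRoot (w : F) r := IsPrimitiveRoot.coe_units_iff.2 (hw ▸ IsPrimitiveRoot.orderOf w)
  set ζ := (w : F)
  have hexp : ∀ j, ∃ e : ZMod r, f j = ζ ^ e.val := fun j => by
    obtain ⟨i, hi, hif⟩ := hζ.eq_pow_of_pow_eq_one (hbf j).1
    exact ⟨(i : ZMod r), by rw [ZMod.val_natCast, Nat.mod_eq_of_lt hi, hif]⟩
  choose e he using hexp
  let π := Tuple.sort fun j => (e j).val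
  have hadd : ∀ u v : ZMod r, ζ ^ (u + v).val = ζ ^ u.val * ζ ^ v.val := fun u v => by
    rw [← pow_add, ZMod.val_add, ← pow_eq_pow_mod _ hζ.pow_eq_one]
  set Pb := (Pi.basisFun F (Fin r)).toMatrix (b.reindex π.symm) with hPb
  have hPb0 : Pb.det ≠ 0 := by
    rw [hPb, ← Basis.det_apply]; exact ((Pi.basisFun F (Fin r)).isUnit_det _).ne_zero
  have hxP : (x : Matrix (Fin r) (Fin r) F) * Pb = Pb * Matrix.diagonal fun j => ζ ^ (e (π j)).val := by
    ext i j
    have h1 := congrFun (hbf (π j)).2 i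
    rw [Matrix.toLin'_apply, Matrix.mulVec, dotProduct, Pi.smul_apply, smul_eq_mul, he] at h1
    rw [Matrix.mul_diagonal, Matrix.mul_apply]
    simp only [hPb, Basis.toMatrix_apply, Pi.basisFun_repr, Basis.reindex_apply, Equiv.symm_symm]
    rw [h1, mul_comm]
  have hsum : ∑ j, e (π j) = 0 := by
    have h := congrArg Matrix.det hxP
    rw [Matrix.det_mul, Matrix.det_mul, x.2, one_mul, Matrix.det_diagonal, Finset.prod_pow_eq_pow_sum] at h
    have h1 := (hζ.pow_eq_one_iff_dvd _).1 (mul_left_cancel₀ hPb0 (h.symm.trans (mul_one _).symm))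
    rw [← ZMod.natCast_eq_zero_iff, Nat.cast_sum] at h1
    simpa using h1
  obtain ⟨σ, m, hσ, hem⟩ := exists_involution h35 (fun j => e (π j)) (Tuple.monotone_sort fun j => (e j).val) hsum
  let h₂ : ZMod r := m * (2 : ZMod r)⁻¹
  have h22 : h₂ + h₂ = m := by
    have h2 : (2 : ZMod r) ≠ 0 := fun h => by
      have : ((2 : ℕ) : ZMod r) = 0 := by exact_mod_cast h
      rw [ZMod.natCast_eq_zero_iff] at this
      exact hr2 ((Nat.prime_dvd_prime_iff_eq hr.out Nat.prime_two).1 this)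
    rw [← two_mul]
    show 2 * (m * (2 : ZMod r)⁻¹) = m
    rw [mul_comm m, ← mul_assoc, mul_inv_cancel₀ h2, one_mul]
  let u : Fin r → F := fun j => ζ ^ (e (π j) - h₂).val
  have hu : ∀ j, φ (u j) = u (σ j) := fun j => by
    show φ (ζ ^ (e (π j) - h₂).val) = ζ ^ (e (π (σ j)) - h₂).val
    rw [map_pow, hφq, ← pow_mul, pow_eq_pow_mod _ hζ.pow_eq_one, ← ZMod.val_natCast r, Nat.cast_mul, ZMod.natCast_zmod_val]
    congr 2
    have hq : (q₀ : ZMod r) = -1 := by
      rw [eq_neg_iff_add_eq_zero, ← Nat.cast_one, ← Nat.cast_add, ZMod.natCast_eq_zero_iff]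
      exact hd1
    rw [hq]
    linear_combination (h22 - hem j)
  obtain ⟨θ, hθ⟩ : ∃ θ, φ θ ≠ θ := by
    by_contra hne
    push Not at hne
    have hall : F₀ = ⊤ := eq_top_iff.2 fun c _ => (hφ c).1 (hne c)
    rw [hall, Nat.card_congr (Equiv.subtypeUnivEquiv Subfield.mem_top), Nat.card_eq_fintype_card, hqk] at hF₀
    nlinarith
  have hφ2 : ∀ c, φ (φ c) = c := fun c => by
    rw [hφq, hφq, ← pow_mul, ← pow_two, ← hqk, FiniteField.pow_card]
  obtain ⟨B, M₀, hB0, hBM, hM₀⟩ := exists_form hθ hφ2 σ hσ u hu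
  let i0 : Fin r := ⟨0, hn⟩
  let ε : Fin r → F := fun j => if j = i0 then (Pb.det * B.det)⁻¹ else 1
  refine S5964.mem_of_frame F₀ x (a := ζ ^ h₂.val) (pow_ne_zero _ (Units.ne_zero w)) M₀
    (fun i j => (hφ _).1 (congrFun (congrFun hM₀ i) j)) (Pb * Matrix.diagonal ε * B) ?_ ?_
  · rw [Matrix.det_mul, Matrix.det_mul, Matrix.det_diagonal, Finset.prod_ite_eq', if_pos (Finset.mem_univ _),
      mul_inv, mul_assoc, mul_assoc, inv_mul_cancel₀ hB0, mul_one, mul_inv_cancel₀ hPb0]
  · have hD : (Matrix.diagonal fun j => ζ ^ (e (π j)).val : Matrix (Fin r) (Fin r) F) = ζ ^ h₂.val • Matrix.diagonal u := by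
      rw [← Matrix.diagonal_smul]
      congr 1
      funext j
      show ζ ^ (e (π j)).val = ζ ^ h₂.val * ζ ^ (e (π j) - h₂).val
      rw [← hadd, add_sub_cancel]
    rw [← mul_assoc, ← mul_assoc, hxP, hD]
    simp only [Matrix.mul_smul, Matrix.smul_mul, mul_assoc]
    congr 2
    rw [← mul_assoc, Matrix.diagonal_mul_diagonal, show (fun i => u i * ε i) = fun i => ε i * u i by funext i; ring,
      ← Matrix.diagonal_mul_diagonal, mul_assoc, hBM]

/-- The positive case `r = k`. -/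
theorem good_equal {F₀ : Subfield F} {q₀ : ℕ} (hF₀ : Nat.card ↥F₀ = q₀) (hqk : Fintype.card F = q₀ ^ r)
    (hn : 0 < n) (hr2 : r ≠ 2) (hrp : r ≠ p)
    (hgapk : r ∣ q₀ - 1 → padicValNat r n ≤ padicValNat r (Fintype.card F - 1))
    (x : Matrix.SpecialLinearGroup (Fin n) F) {z : F} (hz : ((x ^ r : Matrix.SpecialLinearGroup (Fin n) F) : M) = z • 1) :
    ∃ P : Matrix.SpecialLinearGroup (Fin n) F, P⁻¹ * x * P ∈
      ((Cfsg.Geo.subfieldSubgroup F₀ 1).comap (Matrix.SpecialLinearGroup.toGL : Matrix.SpecialLinearGroup (Fin n) F →* GL (Fin n) F)) := by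
  classical
  letI : Fintype F₀ := Fintype.ofFinite F₀
  have hF₀' : Fintype.card F₀ = q₀ := by rw [← Nat.card_eq_fintype_card, hF₀]
  have hq02 : 2 ≤ q₀ := hF₀' ▸ Fintype.one_lt_card
  have : CharP F₀ p := (RingHom.charP_iff_charP F₀.subtype p).2 inferInstance
  obtain ⟨φ, hφq, hφ⟩ := Descend.exists_frob F₀ (p := p)
  rw [hF₀] at hφq
  have hQ : ((Fintype.card F : ℕ) : ZMod r) = (q₀ : ZMod r) := by rw [hqk, Nat.cast_pow, ZMod.pow_card]
  set c := orderOf (q₀ : ZMod r) with hcdef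
  have hc : orderOf ((Fintype.card F : ℕ) : ZMod r) = c := by rw [hQ]
  have hr0 : (r : F) ≠ 0 := PrimeElemFlags.cast_ne_zero hrp
  rw [Matrix.SpecialLinearGroup.coe_pow] at hz
  have hy0 : (Matrix.toLin' (x : M)) ^ r = z • 1 := by rw [← Matrix.toLin'_pow, hz, map_smul, Matrix.toLin'_one]; rfl
  have hz0 : z ≠ 0 := PrimeElemFlags.scalar_ne_zero hn hr.out.pos hy0 (by rw [LinearMap.det_toLin', x.2])
  obtain ⟨a, ha0, ha⟩ : ∃ a : F, a ≠ 0 ∧ a ^ r = z := by
    by_cases hc1 : c = 1
    · by_cases hroot : ∃ a : F, a ^ r = z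
      · obtain ⟨a, ha⟩ := hroot
        exact ⟨a, fun h => hz0 (by rw [← ha, h, zero_pow hr.out.ne_zero]), ha⟩
      exfalso
      push Not at hroot
      have hirr := X_pow_sub_C_irreducible_of_prime hr.out hroot
      obtain ⟨⟨j, hj⟩, -⟩ := PrimeElem.uniform_flag (PrimeElemFlags.sq hr0 hz0) (PrimeElemFlags.aeval_eq_zero hy0) (d := r)
        (fun g hg hd => by
          rw [natDegree_eq_of_degree_eq (degree_eq_degree_of_associated (hg.associated_of_dvd hirr hd)),
            natDegree_X_pow_sub_C])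
      rw [Module.finrank_fin_fun] at hj
      have hd := PrimeElem.det_eq r z hirr (PrimeElemFlags.sq hr0 hz0) hr.out.pos j (Matrix.toLin' (x : M))
        (by rw [Module.finrank_fin_fun, hj]) (PrimeElemFlags.aeval_eq_zero hy0)
      rw [LinearMap.det_toLin', x.2] at hd
      exact PrimeElemFlags.cond_of_twist rfl hn hj ((PrimeElemFlags.order_eq_one_iff rfl).1 (hc.trans hc1)) hroot hd.symm
        ⟨hgapk ((PrimeElemFlags.order_eq_one_iff hF₀').1 hc1), fun h => absurd h hr2⟩
    · exact PrimeElemFlags.exists_root rfl hrp (by rw [hc]; exact hc1) hz0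
  refine Descend.mem_of_descends hn F₀ x ha0 (P := X ^ r - C 1) (PrimeElemFlags.sq hr0 one_ne_zero)
    (PrimeElemFlags.aeval_eq_zero (by rw [PrimeElemFlags.root_scale ha0 ha hy0, one_smul])) ?_ ?_
  · intro g hg hgm hgd
    rw [map_one, ← cyclotomic_prime_mul_X_sub_one F r] at hgd
    rcases hg.prime.dvd_or_dvd hgd with h | h
    · have hΦ : cyclotomic r F = (cyclotomic r F₀).map F₀.subtype := (map_cyclotomic r F₀.subtype).symm
      obtain ⟨t, ht⟩ := UniqueFactorizationMonoid.prod_normalizedFactors (cyclotomic_ne_zero r F₀)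
      have h' : g ∣ (UniqueFactorizationMonoid.normalizedFactors (cyclotomic r F₀)).prod.map F₀.subtype := by
        rw [hΦ, ← ht, Polynomial.map_mul] at h
        refine (hg.prime.dvd_or_dvd h).resolve_right fun h2 => ?_
        exact hg.not_isUnit (isUnit_of_dvd_unit h2 (t.isUnit.map (Polynomial.mapRingHom F₀.subtype)))
      rw [← Polynomial.coe_mapRingHom, map_multiset_prod] at h'
      obtain ⟨g₀, hg₀mem, hg₀⟩ := hg.prime.exists_mem_multiset_map_dvd h'
      have hg₀i := UniqueFactorizationMonoid.irreducible_of_normalized_factor g₀ hg₀mem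
      have hg₀m : g₀.Monic := by
        rw [← UniqueFactorizationMonoid.normalize_normalized_factor g₀ hg₀mem]
        exact monic_normalize hg₀i.ne_zero
      refine ⟨g₀, (eq_of_monic_of_associated hgm (hg₀m.map _) ?_).symm⟩
      refine associated_of_dvd_of_natDegree_le hg₀ (hg₀m.map _).ne_zero ?_
      rw [natDegree_map, PrimeElemFlags.deg_eq rfl hrp g hg h,
        PrimeElemFlags.deg_eq hF₀' hrp g₀ hg₀i (UniqueFactorizationMonoid.dvd_of_mem_normalizedFactors hg₀mem), hQ]
    · rw [← map_one C] at h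
      exact ⟨X - C 1, by rw [eq_of_monic_of_associated hgm (monic_X_sub_C 1) (hg.associated_of_dvd (irreducible_X_sub_C _) h)]; simp⟩
  · intro g hg hgm hgd d hd
    rcases PrimeElemFlags.one_dvd_factors (fun g hg hd => (PrimeElemFlags.deg_eq rfl hrp g hg hd).trans hc) g hg hgd with h | h
    · rw [h]
      set N := ∑ j ∈ Finset.range r, q₀ ^ j with hN
      have hNq : N * (q₀ - 1) = Fintype.card F - 1 := by
        obtain ⟨m, rfl⟩ : ∃ m, q₀ = m + 1 := ⟨q₀ - 1, by omega⟩
        rw [hN, Nat.add_sub_cancel, hqk, ← geom_sum_mul_add m r, Nat.add_sub_cancel]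
      have hco : c.Coprime N := by
        refine Nat.coprime_of_dvd fun l hl hlc hlN => ?_
        have : Fact l.Prime := ⟨hl⟩
        have hq1 : (q₀ : ZMod r) ≠ 0 := fun h0 => by
          have hc0 := PrimeElemFlags.order_pos (F := F) (r := r) rfl hrp
          rw [hQ, h0, orderOf_eq_zero] at hc0
          · omega
          · rw [isOfFinOrder_iff_pow_eq_one]
            rintro ⟨m, hm, hm1⟩
            rw [zero_pow hm.ne'] at hm1
            exact zero_ne_one hm1
        have hcr : c ∣ r - 1 := ZMod.orderOf_dvd_card_sub_one hq1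
        have hlr : l < r := lt_of_le_of_lt (Nat.le_of_dvd (Nat.sub_pos_of_lt hr.out.one_lt) (hlc.trans hcr))
          (Nat.sub_lt hr.out.pos one_pos)
        have hN0 : (∑ j ∈ Finset.range r, (q₀ : ZMod l) ^ j) = 0 := by
          have h1 := (ZMod.natCast_eq_zero_iff N l).2 hlN
          simpa [hN] using h1
        have hqr : (q₀ : ZMod l) ^ r = 1 := by
          have h1 := geom_sum_mul (q₀ : ZMod l) r
          rw [hN0, zero_mul] at h1
          exact sub_eq_zero.1 h1.symm
        rcases (Nat.dvd_prime hr.out).1 (orderOf_dvd_of_pow_eq_one hqr) with h1 | h1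
        · rw [orderOf_eq_one_iff] at h1
          rw [h1] at hN0
          simp at hN0
          rw [ZMod.natCast_eq_zero_iff] at hN0
          exact hlr.ne ((Nat.prime_dvd_prime_iff_eq hl hr.out).1 hN0)
        · have h2 : r ≤ l - 1 := by
            rw [← h1]
            refine Nat.le_of_dvd (Nat.sub_pos_of_lt hl.one_lt) (ZMod.orderOf_dvd_card_sub_one fun h0 => ?_)
            rw [h0, zero_pow hr.out.ne_zero] at hqr
            exact zero_ne_one hqr
          omega
      obtain ⟨u, -, hu⟩ := Nat.exists_mul_mod_eq_one_of_coprime hco (show 1 < N by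
        calc 1 < 1 + q₀ := by omega
          _ = ∑ j ∈ Finset.range 2, q₀ ^ j := by simp [Finset.sum_range_succ]
          _ ≤ N := Finset.sum_le_sum_of_subset (Finset.range_mono hr.out.two_le))
      have hdN : d ^ N ∈ F₀ := by
        rw [← hφ, hφq, ← pow_mul, show N * q₀ = N * (q₀ - 1) + N by
          rw [← Nat.mul_succ, Nat.succ_eq_add_one, Nat.sub_add_cancel (by omega)], pow_add, hNq,
          FiniteField.pow_card_sub_one_eq_one d hd, one_mul]
      refine ⟨((d ^ N) ^ (c * u / N))⁻¹, F₀.inv_mem (F₀.pow_mem hdN _), d ^ u, ?_⟩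
      have e : d ^ (c * u) = d * (d ^ N) ^ (c * u / N) := by
        rw [← pow_mul, ← pow_succ']
        congr 1
        have := Nat.div_add_mod (c * u) N
        omega
      rw [← pow_mul d u c, mul_comm u c, e, mul_left_comm, inv_mul_cancel₀ (pow_ne_zero _ (pow_ne_zero _ hd)),
        mul_one]
    · exact ⟨1, F₀.one_mem, d, by rw [h, pow_one, one_mul]⟩

end

/-- Elements of odd prime order r ≠ p of PSL_n(q) and subfield subgroups. Here `T = PSL_n(F)` for a field `F` with `q = p^f` elements (`n ≥ 2`, `(n, q) ≠ (2, 2), (2, 3)`), `F₀` is the subfield with `q₀` elements where `q = q₀^k` for a prime `k`, and `H` is the subgroup of matrices of determinant 1 lying in the subfield group of `F₀` (invertible matrices over `F₀` times scalars) — a maximal subgroup of type GL_n(q₀) (the case `n = 2`, `q₀ = 2` is excluded); Ω is the set of `T`-conjugates of `H` (cosets of `H`), so an element of `T` of prime order `r` (a matrix `x` of determinant 1 with `x^r` scalar, `x`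 not scalar) fixes a point of Ω when some conjugate of `x` by a matrix of determinant 1 lies in `H`. Let `r ≠ p` be an odd prime dividing the index of `H`, with `(n, r) ≠ (6, 3)` and, when `r = k` divides `q₀ − 1`, with `(n)_r ≤ (q − 1)_r`. Then every element of `T` of order `r` is conjugate in `T` into `H` if and only if `r = k`, or `k = 2`, `r = n ∈ {3, 5}` and `(q₀ + 1)_r = r`. The two excluded cases, `(n, r) = (6, 3)` and `r = k ∣ q₀ − 1` with `(n)_r > (q − 1)_r`, are ones where this criterion can fail, so they are left out. -/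
theorem result {F : Type*} [Field F] [Fintype F] {p : ℕ} [Fact p.Prime] [CharP F p] {q : ℕ} (hq : Fintype.card F = q)
    (n : ℕ) (hn : 2 ≤ n) (hT : (n, q) ≠ (2, 2) ∧ (n, q) ≠ (2, 3))
    (F₀ : Subfield F) (k q₀ : ℕ) (hk : k.Prime) (hF₀ : Nat.card ↥F₀ = q₀) (hqk : q = q₀ ^ k) (hC5 : ¬ (n = 2 ∧ q₀ = 2)) (r : ℕ) [Fact r.Prime] (hr2 : r ≠ 2) (hrp : r ≠ p) (hgap : ¬ (n = 6 ∧ r = 3)) (hgapk : r = k → r ∣ q₀ - 1 → padicValNat r n ≤ padicValNat r (q - 1)) (hΩ : r ∣ ((Cfsg.Geo.subfieldSubgroup F₀ 1).comap (Matrix.SpecialLinearGroup.toGL : Matrix.SpecialLinearGroup (Fin n) F →* GL (Fin n) F)).index) :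
    (∀ x : Matrix.SpecialLinearGroup (Fin n) F,
      (∃ z : F, ((x ^ r : Matrix.SpecialLinearGroup (Fin n) F) : Matrix (Fin n) (Fin n) F) = z • (1 : Matrix (Fin n) (Fin n) F)) →
      (∀ z : F, (x : Matrix (Fin n) (Fin n) F) ≠ z • (1 : Matrix (Fin n) (Fin n) F)) →
      ∃ P : Matrix.SpecialLinearGroup (Fin n) F, P⁻¹ * x * P ∈ ((Cfsg.Geo.subfieldSubgroup F₀ 1).comap (Matrix.SpecialLinearGroup.toGL : Matrix.SpecialLinearGroup (Fin n) F →* GL (Fin n) F))) ↔
    (r = k ∨ (k = 2 ∧ r = n ∧ (n = 3 ∨ n = 5) ∧ padicValNat r (q₀ + 1) = 1)) := by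
  classical
  subst hq
  have hr : r.Prime := Fact.out
  have hn0 : 0 < n := by omega
  constructor
  · intro h
    by_contra hne
    push Not at hne
    obtain ⟨hrk, hspec⟩ := hne
    obtain ⟨i, hi2, hin, hci, hc0i⟩ := exists_degree hF₀ hqk hrp hrk hk hΩ
    set c := orderOf ((Fintype.card F : ℕ) : ZMod r) with hcdef
    suffices hbad : ∃ x : Matrix.SpecialLinearGroup (Fin n) F,
        (∃ z : F, ((x ^ r : Matrix.SpecialLinearGroup (Fin n) F) : Matrix (Fin n) (Fin n) F) = z • 1) ∧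
        (∀ z : F, (x : Matrix (Fin n) (Fin n) F) ≠ z • 1) ∧
        ∀ P : Matrix.SpecialLinearGroup (Fin n) F, ¬ P⁻¹ * x * P ∈
          ((Cfsg.Geo.subfieldSubgroup F₀ 1).comap (Matrix.SpecialLinearGroup.toGL : Matrix.SpecialLinearGroup (Fin n) F →* GL (Fin n) F)) by
      obtain ⟨x, hx, hns, hb⟩ := hbad
      obtain ⟨P, hP⟩ := h x hx hns
      exact hb P hP
    have hc0pos : 0 < c := PrimeElemFlags.order_pos (F := F) rfl hrp
    by_cases hc1 : c ≠ 1
    · exact bad_block hrp hF₀ rfl hc1 ((Nat.le_of_dvd (by omega) hci).trans hin) fun e => hc0i (e ▸ hci)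
    push Not at hc1
    have hd : r ∣ Fintype.card F - 1 := (PrimeElemFlags.order_eq_one_iff rfl).1 hc1
    set Q : ZMod r := (q₀ : ZMod r) with hQdef
    have hQk : Q ^ k = 1 := by
      have h1 := orderOf_eq_one_iff.1 hc1
      rwa [hqk, Nat.cast_pow] at h1
    have hQ1 : Q ≠ 1 := fun e => hc0i (by rw [e, orderOf_one]; exact one_dvd i)
    have hQ0 : Q ≠ 0 := fun e => by rw [e, zero_pow hk.ne_zero] at hQk; exact zero_ne_one hQk
    have hordQ : orderOf Q = k := by
      have : Fact k.Prime := ⟨hk⟩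
      exact orderOf_eq_prime hQk hQ1
    obtain ⟨G, hG⟩ := IsCyclic.exists_generator (α := Fˣ)
    have hordG : orderOf G = Fintype.card F - 1 := by
      rw [orderOf_eq_card_of_forall_mem_zpowers hG, PrimeElemFlags.card_sub_one rfl]
    have hq2 : 2 ≤ Fintype.card F := Fintype.one_lt_card
    have hprim : ∀ s, s * r = Fintype.card F - 1 → IsPrimitiveRoot ((G ^ s : Fˣ) : F) r := fun s hs => by
      have hs0 : s ≠ 0 := fun e => by rw [e, zero_mul] at hs; omega
      have e : orderOf (G ^ s) = r := by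
        rw [orderOf_pow' _ hs0, hordG, ← hs, Nat.gcd_eq_right (dvd_mul_right s r),
          Nat.mul_div_cancel_left _ (Nat.pos_of_ne_zero hs0)]
      exact IsPrimitiveRoot.coe_units_iff.2 (e ▸ IsPrimitiveRoot.orderOf _)
    obtain ⟨s, hs⟩ := hd
    have hs' : s * r = Fintype.card F - 1 := by rw [mul_comm]; exact hs.symm
    set ζ := ((G ^ s : Fˣ) : F) with hζdef
    have hζ : IsPrimitiveRoot ζ r := hprim s hs'
    -- exponents without symmetry give counterexamples
    have build : ∀ (e : Fin n → ZMod r), (∑ j, e j = 0) → ∀ a b : Fin n, e a ≠ e b →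
        (∀ (m : ZMod r) (σ : Equiv.Perm (Fin n)), ¬ ∀ j, e (σ j) = m + Q * e j) →
        ∃ x : Matrix.SpecialLinearGroup (Fin n) F,
        (∃ z : F, ((x ^ r : Matrix.SpecialLinearGroup (Fin n) F) : Matrix (Fin n) (Fin n) F) = z • 1) ∧
        (∀ z : F, (x : Matrix (Fin n) (Fin n) F) ≠ z • 1) ∧
        ∀ P : Matrix.SpecialLinearGroup (Fin n) F, ¬ P⁻¹ * x * P ∈
          ((Cfsg.Geo.subfieldSubgroup F₀ 1).comap (Matrix.SpecialLinearGroup.toGL : Matrix.SpecialLinearGroup (Fin n) F →* GL (Fin n) F)) := by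
      intro e hsum a b hab hno
      obtain ⟨x, hx, h1, h2⟩ := exists_diag hζ (a := (1 : F)) (e := e) (by simp [hsum]) a b hab
      refine ⟨x, h1, h2, fun P hP => ?_⟩
      obtain ⟨m, σ, hσ⟩ := split_symmetry hrp hn0 hF₀ hζ one_ne_zero hx hP
      exact hno m σ hσ
    by_cases hk3 : k ≠ 2
    · have hQ2 : Q ≠ -1 := fun e => by
        rw [e, (hk.odd_of_ne_two hk3).neg_one_pow] at hQk
        have h2 : ((2 : ℕ) : ZMod r) = 0 := by push_cast; linear_combination -hQk
        rw [ZMod.natCast_eq_zero_iff] at h2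
        exact hr2 ((Nat.prime_dvd_prime_iff_eq hr Nat.prime_two).1 h2)
      have hn3 : n = 3 → r ≠ 3 := fun _ e => by
        subst e
        have hle := Nat.le_of_dvd (by norm_num) (hordQ ▸ ZMod.orderOf_dvd_card_sub_one hQ0)
        have := hk.two_le
        omega
      let f : ℕ → ZMod r := fun v => if v = 0 then 1 else if v = 1 then -1 else 0
      refine build (fun j => f j.val) ?_ ⟨0, by omega⟩ ⟨1, by omega⟩ ?_
        (fun m σ => no_symm_large hr2 hn hn3 hQ0 hQ1 hQ2 rfl)
      · obtain ⟨t, ht⟩ : ∃ t, n = t + 2 := ⟨n - 2, by omega⟩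
        subst ht
        rw [Fin.sum_univ_succ, Fin.sum_univ_succ]
        simp [f]
      · show (1 : ZMod r) ≠ -1
        intro e
        have h2 : ((2 : ℕ) : ZMod r) = 0 := by push_cast; linear_combination e
        rw [ZMod.natCast_eq_zero_iff] at h2
        exact hr2 ((Nat.prime_dvd_prime_iff_eq hr Nat.prime_two).1 h2)
    push Not at hk3
    subst hk3
    have hQ : Q = -1 := (sq_eq_one_iff.1 hQk).resolve_left hQ1
    have hn3 : 3 ≤ n := by
      by_contra hlt
      rw [show i = 2 by omega] at hc0i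
      exact hc0i (dvd_of_eq hordQ)
    by_cases hgen : r = n ∧ (n = 3 ∨ n = 5)
    · obtain ⟨hrn, h35⟩ := hgen
      subst hrn
      have hd1 : r ∣ q₀ + 1 := by
        rw [← ZMod.natCast_eq_zero_iff, Nat.cast_add, Nat.cast_one]
        rw [hQdef] at hQ
        rw [hQ, neg_add_cancel]
      have hv : 2 ≤ padicValNat r (q₀ + 1) := by
        have h1 := one_le_padicValNat_of_dvd (show q₀ + 1 ≠ 0 by omega) hd1
        have h2 := hspec rfl rfl h35
        omega
      have hrr : r * r ∣ Fintype.card F - 1 := by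
        rw [hqk, show q₀ ^ 2 - 1 = (q₀ + 1) * (q₀ - 1) by rw [← Nat.sq_sub_sq, one_pow]]
        refine Dvd.dvd.mul_right ?_ _
        rw [← pow_two]
        exact (padicValNat_dvd_iff_le (show q₀ + 1 ≠ 0 by omega)).2 hv
      obtain ⟨u, hu⟩ := hrr
      have hsu : s = u * r := by
        refine Nat.eq_of_mul_eq_mul_right hr.pos ?_
        rw [hs', hu]; ring
      set a : F := ((G ^ u : Fˣ) : F) with hadef
      have har : a ^ r = ζ := by rw [hadef, ← Units.val_pow_eq_pow_val, ← pow_mul, ← hsu]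
      let e : Fin r → ZMod r := fun j => if j.val = 0 then -1 else 0
      have hsum : ∑ j, e j = -1 := by
        rw [Finset.sum_eq_single (⟨0, hn0⟩ : Fin r) (fun j _ hj => if_neg fun h0 => hj (Fin.ext h0))
          (fun h => absurd (Finset.mem_univ _) h)]
        exact if_pos rfl
      obtain ⟨x, hx, h1, h2⟩ := exists_diag hζ (a := a) (e := e) (by
          rw [hsum, har, ← pow_succ', ← hζ.pow_eq_one]
          congr 1
          have : (-1 : ZMod r).val = r - 1 := by
            obtain ⟨t, rfl⟩ : ∃ t, r = t + 1 := ⟨r - 1, by omega⟩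
            simp [ZMod.val_neg_one]
          omega) ⟨0, hn0⟩ ⟨1, by omega⟩ (by
          show (-1 : ZMod r) ≠ 0
          exact neg_ne_zero.2 one_ne_zero)
      refine ⟨x, h1, h2, fun P hP => ?_⟩
      obtain ⟨m, σ, hσ⟩ := split_symmetry hrp hn0 hF₀ hζ (Units.ne_zero _) hx hP
      have h3 := Equiv.sum_comp σ e
      simp only [hσ, Finset.sum_add_distrib, Finset.sum_const, Finset.card_univ, Fintype.card_fin, ← Finset.mul_sum,
        nsmul_eq_mul, ZMod.natCast_self, zero_mul, zero_add, hsum] at h3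
      rw [← hQdef, hQ] at h3
      have h4 : ((2 : ℕ) : ZMod r) = 0 := by push_cast; linear_combination h3
      rw [ZMod.natCast_eq_zero_iff] at h4
      exact hr2 ((Nat.prime_dvd_prime_iff_eq hr Nat.prime_two).1 h4)
    by_cases hr3 : r = 3
    · subst hr3
      have hn4 : 4 ≤ n := by
        rcases Nat.lt_or_ge n 4 with h' | h'
        · exact absurd ⟨by omega, Or.inl (by omega)⟩ hgen
        · exact h'
      let f : ℕ → ZMod 3 := fun v => if v < 3 then 1 else 0
      refine build (fun j => f j.val) ?_ ⟨0, by omega⟩ ⟨3, by omega⟩ ?_ (fun m σ h' => ?_)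
      · obtain ⟨t, ht⟩ : ∃ t, n = t + 3 := ⟨n - 3, by omega⟩
        subst ht
        rw [Fin.sum_univ_succ, Fin.sum_univ_succ, Fin.sum_univ_succ]
        simp only [f, Fin.val_succ, Fin.val_zero]
        rw [Finset.sum_eq_zero fun x _ => if_neg (by omega)]
        norm_num
        exact_mod_cast ZMod.natCast_self 3
      · show (1 : ZMod 3) ≠ 0
        exact one_ne_zero
      · rw [hQ] at h'
        exact no_symm_three hn4 (fun e => hgap ⟨e, rfl⟩) (m := m) (σ := σ) rfl h'
    · have hr5 : 5 ≤ r := by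
        rcases (by have := hr.two_le; omega : r = 4 ∨ 5 ≤ r) with e | e
        · exact absurd (e ▸ hr) (by decide)
        · exact e
      let f : ℕ → ZMod r := fun v => if v < 2 then 1 else if v = 2 then -2 else 0
      refine build (fun j => f j.val) ?_ ⟨0, by omega⟩ ⟨2, by omega⟩ ?_ (fun m σ h' => ?_)
      · obtain ⟨t, ht⟩ : ∃ t, n = t + 3 := ⟨n - 3, by omega⟩
        subst ht
        rw [Fin.sum_univ_succ, Fin.sum_univ_succ, Fin.sum_univ_succ]
        simp only [f, Fin.val_succ, Fin.val_zero]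
        rw [Finset.sum_eq_zero fun x _ => by rw [if_neg (by omega), if_neg (by omega)]]
        norm_num
      · show (1 : ZMod r) ≠ -2
        intro e
        have h3 : ((3 : ℕ) : ZMod r) = 0 := by push_cast; linear_combination e
        rw [ZMod.natCast_eq_zero_iff] at h3
        exact hr3 ((Nat.prime_dvd_prime_iff_eq hr Nat.prime_three).1 h3)
      · rw [hQ] at h'
        exact no_symm_five hr5 hn3 (fun e => hgen ⟨e.2.trans e.1.symm, Or.inr e.1⟩) (m := m) (σ := σ) rfl h'
  · rintro hcond x ⟨z, hz⟩ -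
    rcases hcond with rfl | ⟨rfl, hrn, h35, hv⟩
    · exact good_equal hF₀ hqk hn0 hr2 hrp (hgapk rfl) x hz
    · exact good_special hF₀ hqk hr2 hrp hrn h35 hv x hz


end Cfsg.Agent.S5965
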