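import Cfsg.Statements.S5966
import Cfsg.Agent.S5964
import Cfsg.Agent.Lib.Similar.Basic
import Mathlib

set_option autoImplicit false
set_option maxHeartbeats 1000000
open scoped MatrixGroups
open Cfsg

namespace Cfsg.Agent.S5966


open Module Polynomial Cfsg.Agent.Lib.Similar

/-- A basis in which a nilpotent map permutes basis vectors inside blocks or kills them. -/
theorem exists_jordan {F : Type*} [Field F] {V : Type*} [AddCommGroup V] [Module F V] [FiniteDimensional F V]
    {N : End F V} {p : ℕ} (hN : N ^ p = 0) :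
    ∃ (ι : Type) (_ : Fintype ι) (e : ι → ℕ) (b : Basis (Σ i, Fin (e i)) F V), (∀ i, 0 < e i ∧ e i ≤ p) ∧
      ∀ k, N (b k) = 0 ∨ ∃ l, l.1 = k.1 ∧ N (b k) = b l := by
  classical
  obtain ⟨D⟩ := nonempty_decomp N
  let φ : V ≃ₗ[F] ((i : D.ι) → F[X] ⧸ Ideal.span {D.p i ^ D.e i}) :=
    (AEval'.of N).trans (D.equiv.restrictScalars F)
  have hφ : ∀ v, φ (N v) = (X : F[X]) • φ v := fun v => by
    simp only [φ, LinearEquiv.trans_apply, LinearEquiv.restrictScalars_apply]
    rw [← map_smul, AEval'.X_smul_of]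
  have hφp : ∀ (j : ℕ) v, φ ((N ^ j) v) = ((X : F[X]) ^ j) • φ v := fun j => by
    induction j with
    | zero => intro v; simp
    | succ j ih => intro v; rw [pow_succ', End.mul_apply, hφ, ih, smul_smul, ← pow_succ']
  have hdvd : ∀ i, D.p i ^ D.e i ∣ (X : F[X]) ^ p := by
    intro i
    have h := hφp p (φ.symm (Pi.single i 1))
    rw [hN, LinearMap.zero_apply, map_zero, LinearEquiv.apply_symm_apply] at h
    have h1 := (congrFun h i).symm
    rw [Pi.smul_apply, Pi.single_eq_same, Pi.zero_apply] at h1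
    change Ideal.Quotient.mk _ ((X : F[X]) ^ p * 1) = 0 at h1
    rwa [mul_one, Ideal.Quotient.eq_zero_iff_mem, Ideal.mem_span_singleton] at h1
  have hX : ∀ i, D.p i = X := fun i =>
    eq_of_monic_of_associated (D.monic i) monic_X ((D.irr i).associated_of_dvd irreducible_X
      ((D.irr i).prime.dvd_of_dvd_pow ((dvd_pow_self _ (Nat.one_le_iff_ne_zero.1 (D.pos i))).trans (hdvd i))))
  let PB : ∀ i, PowerBasis F (AdjoinRoot (D.p i ^ D.e i)) := fun i => AdjoinRoot.powerBasis' ((D.monic i).pow _)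
  have hdim : ∀ i, (PB i).dim = D.e i := fun i => by
    show (D.p i ^ D.e i).natDegree = D.e i
    rw [natDegree_pow, hX, natDegree_X, mul_one]
  let bi : ∀ i, Basis (Fin (PB i).dim) F (F[X] ⧸ Ideal.span {D.p i ^ D.e i}) := fun i => (PB i).basis
  let b : Basis (Σ i, Fin (PB i).dim) F V := (Pi.basis bi).map φ.symm
  refine ⟨D.ι, D.fin, fun i => (PB i).dim, b, fun i => ⟨?_, ?_⟩, ?_⟩
  · show 0 < (PB i).dim
    rw [hdim]; exact D.pos i
  · show (PB i).dim ≤ p
    have h := hdvd i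
    rw [hX] at h
    rw [hdim]
    simpa using natDegree_le_of_dvd h (pow_ne_zero _ X_ne_zero)
  rintro ⟨i, j⟩
  have hstep : φ (N (b ⟨i, j⟩)) =
      Pi.single i ((Ideal.Quotient.mk (Ideal.span {D.p i ^ D.e i}) ((X : F[X]) ^ ((j : ℕ) + 1)))) := by
    rw [hφ, Basis.map_apply, LinearEquiv.apply_symm_apply, Pi.basis_apply]
    refine (Pi.single_smul (f := fun i => F[X] ⧸ Ideal.span {D.p i ^ D.e i}) i (X : F[X]) (bi i j)).symm.trans ?_
    congr 1
    rw [show bi i j = (Ideal.Quotient.mk (Ideal.span {D.p i ^ D.e i}) X) ^ (j : ℕ) from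
      (PB i).basis_eq_pow j, ← map_pow, pow_succ']
    rfl
  by_cases hj : (j : ℕ) + 1 < (PB i).dim
  · refine Or.inr ⟨⟨i, ⟨_, hj⟩⟩, rfl, ?_⟩
    apply φ.injective
    rw [hstep, Basis.map_apply, LinearEquiv.apply_symm_apply, Pi.basis_apply]
    congr 1
    show _ = (PB i).basis ⟨_, hj⟩
    rw [PowerBasis.basis_eq_pow, map_pow]
    rfl
  · refine Or.inl (φ.injective ?_)
    rw [hstep, map_zero, Pi.single_eq_zero_iff, Ideal.Quotient.eq_zero_iff_mem, Ideal.mem_span_singleton, hX]
    exact pow_dvd_pow _ (by rw [← hdim]; omega)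

section
variable {F : Type*} [Field F] [Fintype F] [CharP F 3] (F₀ : Subfield F)

/-- In characteristic 3 everything is a cube. -/
theorem exists_cube (c : F) : ∃ τ : F, τ ^ 3 = c := by
  have : Fact (Nat.Prime 3) := ⟨Nat.prime_three⟩
  exact surjective_frobenius F 3 c

/-- Scalings making the determinant equal to any given value. -/
theorem exists_scaling {k : ℕ} (hqk : Fintype.card F = Nat.card F₀ ^ k) {ι : Type*} [Fintype ι] (e : ι → ℕ)
    (he : ∀ i, 0 < e i ∧ e i ≤ 3) (hne : Nonempty ι) (hk : (∀ i, e i = 2) → Odd k) {c : F} (hc : c ≠ 0) :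
    ∃ (t : ι → F) (μ : (Σ i, Fin (e i)) → F), (∀ i, t i ≠ 0) ∧ (∀ l, μ l ≠ 0 ∧ μ l ∈ F₀) ∧
      ∏ l, t l.1 * μ l = c := by
  classical
  have : Fact (Nat.Prime 3) := ⟨Nat.prime_three⟩
  have hprod : ∀ t : ι → F, ∏ l : Σ i, Fin (e i), t l.1 = ∏ i, t i ^ e i := fun t => by
    rw [Fintype.prod_sigma]
    simp
  have hsingle : ∀ i0 τ, ∏ i, (if i = i0 then τ else (1 : F)) ^ e i = τ ^ e i0 := fun i0 τ => by
    rw [Finset.prod_eq_single i0 (fun i _ hi => by simp [hi]) (fun h => absurd (Finset.mem_univ _) h)]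
    simp
  by_cases hex : ∃ i0, e i0 ≠ 2
  · obtain ⟨i0, hi0⟩ := hex
    obtain ⟨τ, hτ⟩ : ∃ τ, τ ^ e i0 = c := by
      have := he i0
      rcases (by omega : e i0 = 1 ∨ e i0 = 3) with h | h <;> rw [h]
      exacts [⟨c, pow_one c⟩, exists_cube c]
    have hτ0 : τ ≠ 0 := fun h0 => hc (by rw [← hτ, h0, zero_pow (he i0).1.ne'])
    refine ⟨fun i => if i = i0 then τ else 1, fun _ => 1, fun i => ?_, fun _ => ⟨one_ne_zero, F₀.one_mem⟩, ?_⟩
    · show (if i = i0 then τ else 1) ≠ 0
      split_ifs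
      exacts [hτ0, one_ne_zero]
    · simp only [mul_one]
      exact ((hprod fun i => if i = i0 then τ else 1).trans (hsingle i0 τ)).trans hτ
  have h2 : ∀ i, e i = 2 := fun i => by_contra fun h => hex ⟨i, h⟩
  obtain ⟨i0⟩ := hne
  letI : Fintype F₀ := Fintype.ofFinite F₀
  have hr : ringChar F ≠ 2 := by rw [ringChar.eq F 3]; norm_num
  have hr0 : ringChar F₀ ≠ 2 := by
    have h := RingHom.charP_iff_charP F₀.subtype 3
    have : CharP F₀ 3 := h.2 inferInstance
    rw [ringChar.eq F₀ 3]; norm_num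
  obtain ⟨ν, hν⟩ := FiniteField.exists_nonsquare (F := F₀) hr0
  have hν0 : ν ≠ 0 := fun h => hν (h ▸ IsSquare.zero)
  have hνF0 : (ν : F) ≠ 0 := fun h => hν0 (Subtype.ext h)
  have hνsq : ¬ IsSquare (ν : F) := by
    obtain ⟨j, hj⟩ : Odd (Fintype.card F₀) := Nat.odd_iff.2 (FiniteField.odd_card_of_char_ne_two hr0)
    have h1 : (ν : F) ^ (Fintype.card F₀ / 2) = -1 := by
      have h := (FiniteField.pow_dichotomy hr0 hν0).resolve_left fun h => hν ((FiniteField.isSquare_iff hr0 hν0).2 h)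
      exact congrArg Subtype.val h
    rw [FiniteField.isSquare_iff hr hνF0, hqk, Nat.card_eq_fintype_card]
    obtain ⟨u, hu, huf⟩ : ∃ u, Odd u ∧ Fintype.card F₀ ^ k / 2 = Fintype.card F₀ / 2 * u := by
      refine ⟨∑ l ∈ Finset.range k, Fintype.card F₀ ^ l, ?_, ?_⟩
      · rw [Finset.odd_sum_iff_odd_card_odd, Finset.filter_true_of_mem fun l _ => (Odd.pow ⟨j, hj⟩), Finset.card_range]
        exact hk h2
      · have h6 := geom_sum_mul_add (2 * j) k
        rw [hj, show (2 * j + 1) / 2 = j by omega, ← h6]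
        rw [show (∑ i ∈ Finset.range k, (2 * j + 1) ^ i) * (2 * j) + 1 =
          2 * (j * ∑ i ∈ Finset.range k, (2 * j + 1) ^ i) + 1 by ring]
        omega
    rw [huf, pow_mul, h1, hu.neg_one_pow]
    intro h
    exact (Ring.neg_one_ne_one_of_char_ne_two hr) h
  by_cases hsq : IsSquare c
  · obtain ⟨τ, rfl⟩ := hsq
    refine ⟨fun i => if i = i0 then τ else 1, fun _ => 1, fun i => ?_, fun _ => ⟨one_ne_zero, F₀.one_mem⟩, ?_⟩
    · show (if i = i0 then τ else 1) ≠ 0
      split_ifs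
      exacts [left_ne_zero_of_mul hc, one_ne_zero]
    · simp only [mul_one]
      refine ((hprod fun i => if i = i0 then τ else 1).trans (hsingle i0 τ)).trans ?_
      rw [h2, pow_two]
  · have hne' : c * (ν : F)⁻¹ ≠ 0 := mul_ne_zero hc (inv_ne_zero hνF0)
    obtain ⟨τ, hτ⟩ : IsSquare (c * (ν : F)⁻¹) := by
      rw [FiniteField.isSquare_iff hr hne', mul_pow, inv_pow,
        (FiniteField.pow_dichotomy hr hc).resolve_left fun h => hsq ((FiniteField.isSquare_iff hr hc).2 h),
        (FiniteField.pow_dichotomy hr hνF0).resolve_left fun h => hνsq ((FiniteField.isSquare_iff hr hνF0).2 h),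
        mul_inv_cancel₀ (neg_ne_zero.2 one_ne_zero)]
    let l0 : Σ i, Fin (e i) := ⟨i0, ⟨0, (he i0).1⟩⟩
    refine ⟨fun i => if i = i0 then τ else 1, fun l => if l = l0 then (ν : F) else 1, fun i => ?_, fun l => ?_, ?_⟩
    · show (if i = i0 then τ else 1) ≠ 0
      split_ifs
      exacts [left_ne_zero_of_mul (hτ ▸ hne'), one_ne_zero]
    · show (if l = l0 then (ν : F) else 1) ≠ 0 ∧ (if l = l0 then (ν : F) else 1) ∈ F₀
      split_ifs
      exacts [⟨hνF0, ν.2⟩, ⟨one_ne_zero, F₀.one_mem⟩]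
    · rw [Finset.prod_mul_distrib, (hprod fun i => if i = i0 then τ else 1).trans (hsingle i0 τ), h2, Finset.prod_ite_eq', if_pos (Finset.mem_univ _), pow_two, ← hτ,
        mul_assoc, inv_mul_cancel₀ hνF0, mul_one]

end

/-- Over a subfield a square-zero map with a contracting homotopy is standard. -/
theorem exists_standard {K : Type*} [Field K] {m : ℕ} (N Y : Matrix (Fin m ⊕ Fin m) (Fin m ⊕ Fin m) K)
    (h2 : N * N = 0) (hY : N * Y + Y * N = 1) :
    ∃ S : Matrix (Fin m ⊕ Fin m) (Fin m ⊕ Fin m) K, S.det ≠ 0 ∧ N * S = S * Matrix.fromBlocks 0 0 1 0 := by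
  classical
  set f := Matrix.toLin' N with hf
  set g := Matrix.toLin' Y with hg
  have hff : ∀ v, f (f v) = 0 := fun v => by
    rw [hf, Matrix.toLin'_apply, Matrix.toLin'_apply, Matrix.mulVec_mulVec, h2, Matrix.zero_mulVec]
  have hsum : ∀ v, f (g v) + g (f v) = v := fun v => by
    simp only [hf, hg, Matrix.toLin'_apply, Matrix.mulVec_mulVec, ← Matrix.add_mulVec, hY, Matrix.one_mulVec]
  have hker : LinearMap.ker f = LinearMap.range f := by
    refine le_antisymm ?_ ?_
    · intro v hv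
      refine ⟨g v, ?_⟩
      have := hsum v
      rwa [LinearMap.mem_ker.1 hv, map_zero, add_zero] at this
    · rintro _ ⟨v, rfl⟩; exact hff v
  have hdim : finrank K (LinearMap.range f) = m := by
    have h := f.finrank_range_add_finrank_ker
    rw [hker, Module.finrank_fintype_fun_eq_card, Fintype.card_sum, Fintype.card_fin] at h
    omega
  let br := Module.finBasisOfFinrankEq K (LinearMap.range f) hdim
  let fam : Fin m ⊕ Fin m → (Fin m ⊕ Fin m → K) := Sum.elim (fun i => g (br i : _ → K)) fun i => (br i : _ → K)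
  have hR : LinearMap.range f ≤ Submodule.span K (Set.range fam) := fun z hz => by
    have h := congrArg (Submodule.subtype _) (br.sum_repr ⟨z, hz⟩)
    rw [map_sum] at h
    rw [show z = Submodule.subtype _ ⟨z, hz⟩ from rfl, ← h]
    exact Submodule.sum_mem _ fun i _ => by
      rw [map_smul]; exact Submodule.smul_mem _ _ (Submodule.subset_span ⟨Sum.inr i, rfl⟩)
  have hspan : ⊤ ≤ Submodule.span K (Set.range fam) := by
    intro v _
    rw [← hsum v]
    refine add_mem (hR ⟨_, rfl⟩) ?_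
    have h := congrArg (Submodule.subtype _) (br.sum_repr ⟨f v, LinearMap.mem_range_self f v⟩)
    rw [map_sum] at h
    rw [show g (f v) = g (Submodule.subtype (LinearMap.range f) ⟨f v, LinearMap.mem_range_self f v⟩) from rfl, ← h, map_sum]
    exact Submodule.sum_mem _ fun i _ => by
      rw [map_smul, map_smul]; exact Submodule.smul_mem _ _ (Submodule.subset_span ⟨Sum.inl i, rfl⟩)
  let b := basisOfTopLeSpanOfCardEqFinrank fam hspan (by rw [Module.finrank_fintype_fun_eq_card])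
  refine ⟨(Pi.basisFun K _).toMatrix b, ?_, ?_⟩
  · rw [← Basis.det_apply]; exact ((Pi.basisFun K _).isUnit_det b).ne_zero
  have hb : ∀ l, b l = fam l := fun l => by rw [coe_basisOfTopLeSpanOfCardEqFinrank]
  ext i l
  have hcol : (N * (Pi.basisFun K _).toMatrix b) i l = f (fam l) i := by
    simp [hf, Matrix.mul_apply, Basis.toMatrix_apply, hb, Matrix.toLin'_apply, Matrix.mulVec, dotProduct]
  rw [hcol, Matrix.mul_apply, Fintype.sum_sum_type]
  rcases l with l | l
  · have h := hsum (br l : _ → K)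
    have hbk : f (br l : _ → K) = 0 := LinearMap.mem_ker.1 (hker.symm.le (br l).2)
    rw [hbk, map_zero, add_zero] at h
    simp [fam, h, Basis.toMatrix_apply, hb, Matrix.fromBlocks_apply₁₁, Matrix.fromBlocks_apply₂₁, Matrix.one_apply]
  · have hbk : f (br l : _ → K) = 0 := LinearMap.mem_ker.1 (hker.symm.le (br l).2)
    simp [fam, hbk, Matrix.fromBlocks_apply₁₂, Matrix.fromBlocks_apply₂₂]

/-- The counterexample when the field is a quadratic extension and `n` is even. -/
theorem exists_bad {F : Type*} [Field F] [Fintype F] [CharP F 3] (F₀ : Subfield F)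
    (hqk : Fintype.card F = Nat.card F₀ ^ 2) (n m : ℕ) (hm : 0 < m) (hnm : n = m + m) :
    ∃ x : Matrix.SpecialLinearGroup (Fin n) F,
      (∃ z : F, ((x ^ 3 : Matrix.SpecialLinearGroup (Fin n) F) : Matrix (Fin n) (Fin n) F) = z • 1) ∧
      (∀ z : F, (x : Matrix (Fin n) (Fin n) F) ≠ z • 1) ∧
      ∀ P : Matrix.SpecialLinearGroup (Fin n) F, ¬ P⁻¹ * x * P ∈
        ((Cfsg.Geo.subfieldSubgroup F₀ 1).comap (Matrix.SpecialLinearGroup.toGL : Matrix.SpecialLinearGroup (Fin n) F →* GL (Fin n) F)) := by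
  classical
  have : Fact (Nat.Prime 3) := ⟨Nat.prime_three⟩
  letI : Fintype F₀ := Fintype.ofFinite F₀
  have hr : ringChar F ≠ 2 := by rw [ringChar.eq F 3]; norm_num
  obtain ⟨ν, hν⟩ := FiniteField.exists_nonsquare hr
  have hν0 : ν ≠ 0 := fun h => hν (h ▸ IsSquare.zero)
  have hsub : ∀ c ∈ F₀, IsSquare c := by
    intro c hc
    rcases eq_or_ne c 0 with rfl | hc0
    · exact IsSquare.zero
    rw [FiniteField.isSquare_iff hr hc0, hqk, Nat.card_eq_fintype_card]
    have h1 : c ^ (Fintype.card F₀ - 1) = 1 :=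
      congrArg Subtype.val (FiniteField.pow_card_sub_one_eq_one (⟨c, hc⟩ : F₀) fun h0 => hc0 (congrArg Subtype.val h0))
    obtain ⟨i, hi⟩ : Odd (Fintype.card F₀) := by
      have h := Nat.odd_iff.2 (FiniteField.odd_card_of_char_ne_two hr)
      rw [hqk, Nat.card_eq_fintype_card] at h
      exact (Nat.odd_pow_iff two_ne_zero).1 h
    rw [show Fintype.card F₀ ^ 2 / 2 = (Fintype.card F₀ - 1) * (i + 1) by
      rw [hi, show 2 * i + 1 - 1 = 2 * i by omega, show (2 * i + 1) ^ 2 = 2 * (2 * i * (i + 1)) + 1 by ring]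
      omega, pow_mul, h1, one_pow]
  let e : Fin m ⊕ Fin m ≃ Fin n := finSumFinEquiv.trans (finCongr hnm.symm)
  let R : Matrix (Fin m ⊕ Fin m) (Fin m ⊕ Fin m) F ≃ₐ[F] Matrix (Fin n) (Fin n) F := Matrix.reindexAlgEquiv F F e
  let i0 : Fin m := ⟨0, hm⟩
  let d : Fin m ⊕ Fin m → F := fun l => if l = Sum.inl i0 then ν else 1
  let D : Matrix (Fin m ⊕ Fin m) (Fin m ⊕ Fin m) F := Matrix.diagonal d
  let D' : Matrix (Fin m ⊕ Fin m) (Fin m ⊕ Fin m) F := Matrix.diagonal fun l => (d l)⁻¹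
  have hd0 : ∀ l, d l ≠ 0 := fun l => by
    show (if l = Sum.inl i0 then ν else 1) ≠ 0
    split_ifs
    exacts [hν0, one_ne_zero]
  have hDD' : D * D' = 1 := by simp [D, D', hd0]
  have hD'D : D' * D = 1 := by simp [D, D', hd0]
  have hdetD : D.det = ν := by
    rw [Matrix.det_diagonal, Finset.prod_ite_eq', if_pos (Finset.mem_univ _)]
  let N0 : Matrix (Fin m ⊕ Fin m) (Fin m ⊕ Fin m) F := Matrix.fromBlocks 0 0 1 0
  let X0 : Matrix (Fin m ⊕ Fin m) (Fin m ⊕ Fin m) F := Matrix.fromBlocks 0 1 0 0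
  have hN0 : N0 * N0 = 0 := by simp [N0, Matrix.fromBlocks_multiply]
  have hX0 : N0 * X0 + X0 * N0 = 1 := by
    simp [N0, X0, Matrix.fromBlocks_multiply, Matrix.fromBlocks_add, Matrix.fromBlocks_one]
  let N := D * N0 * D'
  have hNN : N * N = 0 := by
    simp only [N, Matrix.mul_assoc]
    rw [← Matrix.mul_assoc D' D, hD'D, Matrix.one_mul, ← Matrix.mul_assoc N0 N0, hN0, Matrix.zero_mul, Matrix.mul_zero]
  have hdet1 : (1 + N).det = 1 := by
    have : 1 + N = D * Matrix.fromBlocks 1 0 1 1 * D' := by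
      rw [show (Matrix.fromBlocks 1 0 1 1 : Matrix (Fin m ⊕ Fin m) (Fin m ⊕ Fin m) F) = 1 + N0 by
        simp [N0, ← Matrix.fromBlocks_one, Matrix.fromBlocks_add], Matrix.mul_add, Matrix.add_mul, Matrix.mul_one, hDD']
    rw [this, Matrix.det_mul, Matrix.det_mul, Matrix.det_fromBlocks_zero₁₂, mul_comm, ← mul_assoc, ← Matrix.det_mul, hD'D]
    simp
  let x : Matrix.SpecialLinearGroup (Fin n) F := ⟨R (1 + N), by
    rw [Matrix.reindexAlgEquiv_apply, Matrix.det_reindex_self, hdet1]⟩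
  have h3 : (3 : F) = 0 := CharP.cast_eq_zero F 3
  have hx3 : (1 + N) ^ 3 = 1 := by
    rw [show (1 + N) ^ 3 = 1 + (3 : F) • N + (3 : F) • (N * N) + N * (N * N) by
      simp only [pow_succ, pow_zero, one_mul, mul_add, add_mul, mul_one, mul_assoc]; module, h3, hNN]
    simp
  refine ⟨x, ⟨1, ?_⟩, fun z hz => ?_, fun P hP => ?_⟩
  · rw [Matrix.SpecialLinearGroup.coe_pow, one_smul]
    show (R (1 + N)) ^ 3 = 1
    rw [← map_pow, hx3, map_one]
  · have h1 : 1 + N = z • 1 := R.injective (by rw [map_smul R, map_one]; exact hz)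
    have h := congrFun (congrFun h1 (Sum.inr i0)) (Sum.inl i0)
    simp [N, D, D', N0, d, hν0, Matrix.mul_diagonal, Matrix.diagonal_mul] at h
  obtain ⟨h', hh', he⟩ := hP
  have hnorm : (Cfsg.Geo.scalars (Fin n) F).Normal := by
    refine ⟨?_⟩
    rintro _ ⟨u, rfl⟩ g
    refine ⟨u, ?_⟩
    rw [eq_mul_inv_iff_mul_eq]
    exact Units.ext ((Matrix.scalar_commute (u : F) (fun r => Commute.all _ r) (g : Matrix (Fin n) (Fin n) F)).eq)
  obtain ⟨_, ⟨h₀, rfl⟩, _, ⟨c, rfl⟩, rfl⟩ := (Subgroup.mem_sup_of_normal_right (ht := hnorm)).mp hh'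
  rw [MulEquiv.coe_toMonoidHom, MulAut.conj_apply, one_mul, inv_one, mul_one] at he
  have he' : (h₀ : Matrix (Fin n) (Fin n) F₀).map F₀.subtype * Matrix.scalar (Fin n) (c : F) =
      ((P⁻¹ * x * P : Matrix.SpecialLinearGroup (Fin n) F) : Matrix (Fin n) (Fin n) F) := congrArg Units.val he
  rw [Matrix.scalar_apply, ← Matrix.smul_one_eq_diagonal, Matrix.mul_smul, Matrix.mul_one] at he'
  have hcube : ((P⁻¹ * x * P : Matrix.SpecialLinearGroup (Fin n) F) : Matrix (Fin n) (Fin n) F) ^ 3 = 1 := by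
    have hx : x ^ 3 = 1 := Subtype.ext (by
      rw [Matrix.SpecialLinearGroup.coe_pow, Matrix.SpecialLinearGroup.coe_one]
      show (R (1 + N)) ^ 3 = 1
      rw [← map_pow, hx3, map_one])
    rw [← Matrix.SpecialLinearGroup.coe_pow, show (P⁻¹ * x * P) ^ 3 = P⁻¹ * x ^ 3 * P by
      simp [pow_succ, mul_assoc], hx, mul_one, inv_mul_cancel, Matrix.SpecialLinearGroup.coe_one]
  have hc0 : (c : F) ∈ F₀ := by
    rw [← he', _root_.smul_pow] at hcube
    have h1 := congrFun (congrFun hcube ⟨0, by omega⟩) ⟨0, by omega⟩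
    rw [Matrix.smul_apply, Matrix.one_apply_eq, ← RingHom.mapMatrix_apply, ← map_pow, RingHom.mapMatrix_apply,
      Matrix.map_apply, smul_eq_mul] at h1
    have hc3 : ((c : F) ^ 3) ∈ F₀ := by
      rw [eq_inv_of_mul_eq_one_left h1]
      exact F₀.inv_mem (Subtype.mem _)
    have : CharP F₀ 3 := (RingHom.charP_iff_charP F₀.subtype 3).2 inferInstance
    obtain ⟨c', hc'⟩ := surjective_frobenius F₀ 3 ⟨_, hc3⟩
    have h4 : ((c' : F)) ^ 3 = (c : F) ^ 3 := congrArg Subtype.val hc'
    rw [← frobenius_inj F 3 (by simpa [frobenius_def] using h4 : frobenius F 3 (c' : F) = frobenius F 3 c)]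
    exact c'.2
  let PP := R.symm (P : Matrix (Fin n) (Fin n) F)
  let PQ := R.symm ((P⁻¹ : Matrix.SpecialLinearGroup (Fin n) F) : Matrix (Fin n) (Fin n) F)
  have hQP : PQ * PP = 1 := by
    rw [← map_mul, ← Matrix.SpecialLinearGroup.coe_mul, inv_mul_cancel, Matrix.SpecialLinearGroup.coe_one, map_one]
  have hPQ : PP * PQ = 1 := by
    rw [← map_mul, ← Matrix.SpecialLinearGroup.coe_mul, mul_inv_cancel, Matrix.SpecialLinearGroup.coe_one, map_one]
  let N1 := PQ * N * PP
  have hN1 : 1 + N1 = R.symm ((c : F) • (h₀ : Matrix (Fin n) (Fin n) F₀).map F₀.subtype) := by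
    rw [he', Matrix.SpecialLinearGroup.coe_mul, Matrix.SpecialLinearGroup.coe_mul, map_mul, map_mul]
    show _ = PQ * R.symm (R (1 + N)) * PP
    rw [AlgEquiv.symm_apply_apply, Matrix.mul_add, Matrix.add_mul, Matrix.mul_one, hQP]
  have hent : ∀ i j, N1 i j ∈ F₀ := by
    intro i j
    have h1 := congrFun (congrFun hN1 i) j
    rw [Matrix.add_apply] at h1
    rw [eq_sub_of_add_eq' h1]
    refine F₀.sub_mem ?_ ?_
    · exact F₀.mul_mem hc0 (Subtype.mem _)
    · rw [Matrix.one_apply]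
      split_ifs
      exacts [F₀.one_mem, F₀.zero_mem]
  let Nb : Matrix (Fin m ⊕ Fin m) (Fin m ⊕ Fin m) F₀ := Matrix.of fun i j => ⟨N1 i j, hent i j⟩
  let Xb := PQ * (D * X0 * D') * PP
  have hconj : ∀ A B : Matrix (Fin m ⊕ Fin m) (Fin m ⊕ Fin m) F,
      PQ * (D * A * D') * PP * (PQ * (D * B * D') * PP) = PQ * (D * (A * B) * D') * PP := fun A B => by
    simp only [Matrix.mul_assoc]
    rw [← Matrix.mul_assoc PP PQ, hPQ, Matrix.one_mul, ← Matrix.mul_assoc D' D, hD'D, Matrix.one_mul]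
  have hN1N1 : N1 * N1 = 0 := by
    rw [hconj, hN0]; simp
  have hsumF : N1 * Xb + Xb * N1 = 1 := by
    rw [hconj, hconj, ← Matrix.add_mul, ← Matrix.mul_add, ← Matrix.add_mul, ← Matrix.mul_add, hX0, Matrix.mul_one, hDD',
      Matrix.mul_one, hQP]
  have hk1 : LinearMap.ker (Algebra.linearMap F₀ F) = ⊥ :=
    LinearMap.ker_eq_bot.2 (algebraMap F₀ F).injective
  obtain ⟨π, hπ⟩ := LinearMap.exists_leftInverse_of_injective (Algebra.linearMap F₀ F) hk1
  have hπ1 : π 1 = 1 := by
    have := LinearMap.congr_fun hπ 1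
    simpa using this
  have hπs : ∀ (a : F₀) (v : F), π ((a : F) * v) = a * π v := fun a v => by
    rw [show (a : F) * v = a • v from rfl, map_smul, smul_eq_mul]
  let Yb : Matrix (Fin m ⊕ Fin m) (Fin m ⊕ Fin m) F₀ := Xb.map π
  have hsum0 : Nb * Yb + Yb * Nb = 1 := by
    ext i j : 1
    have h1 := congrArg (fun M : Matrix (Fin m ⊕ Fin m) (Fin m ⊕ Fin m) F => π (M i j)) hsumF
    simp only [Matrix.add_apply, Matrix.mul_apply, map_add, map_sum] at h1 ⊢
    convert h1 using 2
    · exact Finset.sum_congr rfl fun l _ => (hπs (Nb i l) (Xb l j)).symm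
    · refine Finset.sum_congr rfl fun l _ => ?_
      rw [mul_comm (Xb i l)]
      rw [mul_comm]
      exact (hπs (Nb l j) (Xb i l)).symm
    · rw [Matrix.one_apply, Matrix.one_apply]
      split_ifs
      exacts [hπ1.symm, (map_zero π).symm]
  have hmapN : Nb.map F₀.subtype = N1 := rfl
  have hNb : Nb * Nb = 0 := Matrix.map_injective F₀.subtype.injective (by
    show (Nb * Nb).map F₀.subtype = (0 : Matrix (Fin m ⊕ Fin m) (Fin m ⊕ Fin m) F₀).map F₀.subtype
    rw [Matrix.map_mul, hmapN, hN1N1]; simp)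
  obtain ⟨S, hS, hNS⟩ := exists_standard Nb Yb hNb hsum0
  have hNS' : N1 * S.map F₀.subtype = S.map F₀.subtype * N0 := by
    have h := congrArg (fun M : Matrix (Fin m ⊕ Fin m) (Fin m ⊕ Fin m) F₀ => M.map F₀.subtype) hNS
    simp only [Matrix.map_mul, hmapN] at h
    rw [h]
    congr 1
    simp [N0, Matrix.fromBlocks_map]
  set S' := S.map F₀.subtype with hS'
  have hdetS : S'.det = (S.det : F) := (RingHom.map_det F₀.subtype S).symm
  let M := D' * PP * S'
  have hcomm : N0 * M = M * N0 := by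
    have h := congrArg (fun A => D' * PP * A) hNS'
    simp only [N1, N, Matrix.mul_assoc] at h ⊢
    rw [← Matrix.mul_assoc PP PQ, hPQ, Matrix.one_mul, ← Matrix.mul_assoc D' D, hD'D, Matrix.one_mul] at h
    simpa only [M, Matrix.mul_assoc] using h
  rw [← Matrix.fromBlocks_toBlocks M, Matrix.fromBlocks_multiply, Matrix.fromBlocks_multiply] at hcomm
  simp only [Matrix.zero_mul, Matrix.mul_zero, Matrix.one_mul, Matrix.mul_one, add_zero, zero_add,
    Matrix.fromBlocks_inj] at hcomm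
  have hB : M.toBlocks₁₂ = 0 := hcomm.1.symm
  have hA : M.toBlocks₁₁ = M.toBlocks₂₂ := hcomm.2.2.1
  have hdetM : M.det = M.toBlocks₁₁.det * M.toBlocks₁₁.det := by
    conv_lhs => rw [← Matrix.fromBlocks_toBlocks M, hB, Matrix.det_fromBlocks_zero₁₂, ← hA]
  have hdetP : PP.det = 1 := by
    show (R.symm (P : Matrix (Fin n) (Fin n) F)).det = 1
    rw [Matrix.reindexAlgEquiv_symm, Matrix.reindexAlgEquiv_apply, Matrix.det_reindex_self, P.2]
  have hdM : M.det * ν = (S.det : F) := by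
    rw [← hdetS, ← hdetD, mul_comm, ← Matrix.det_mul]
    simp only [M, ← Matrix.mul_assoc, hDD', Matrix.one_mul, Matrix.det_mul, hdetP, one_mul]
  obtain ⟨s, hs⟩ := hsub _ (S.det).2
  have hM0 : M.toBlocks₁₁.det ≠ 0 := fun h => by
    rw [hdetM, h, mul_zero, zero_mul] at hdM
    exact hS (Subtype.ext hdM.symm)
  exact hν ⟨s / M.toBlocks₁₁.det, by
    rw [div_mul_div_comm, ← hs, ← hdM, hdetM, mul_div_cancel_left₀ _ (mul_ne_zero hM0 hM0)]⟩

/-- Elements of order 3 of PSL_n(q) in characteristic 3 and subfield subgroups. Here `T = PSL_n(F)` for a field `F` with `q` elements, `q` a power of 3 (`n ≥ 2`, `(n, q) ≠ (2, 2), (2, 3)`), `F₀` is the subfield with `q₀` elements where `q = q₀^k` for a prime `k`, and `H` is the subgroup of matrices of determinant 1 lying in the subfield group of `F₀` (invertible matrices over `F₀` times scalars) — a maximal subgroup of type GL_n(q₀) (the case `n = 2`, `q₀ = 2` is excluded); Ω is the set of `T`-conjugates of `H` (cosets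 of `H`), so an element of `T` of prime order `r` (a matrix `x` of determinant 1 with `x^r` scalar, `x` not scalar) fixes a point of Ω when some conjugate of `x` by a matrix of determinant 1 lies in `H`. Suppose 3 divides the index of `H`. Then every element of `T` of order 3 is conjugate in `T` into `H` if and only if `n` is odd, or `n` is even and `k > 2`. -/
theorem result {F : Type*} [Field F] [Fintype F] [CharP F 3] {q : ℕ} (hq : Fintype.card F = q)
    (n : ℕ) (hn : 2 ≤ n) (hT : (n, q) ≠ (2, 3))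
    (F₀ : Subfield F) (k q₀ : ℕ) (hk : k.Prime) (hF₀ : Nat.card ↥F₀ = q₀) (hqk : q = q₀ ^ k) (hC5 : ¬ (n = 2 ∧ q₀ = 2)) (hΩ : 3 ∣ ((Cfsg.Geo.subfieldSubgroup F₀ 1).comap (Matrix.SpecialLinearGroup.toGL : Matrix.SpecialLinearGroup (Fin n) F →* GL (Fin n) F)).index) :
    (∀ x : Matrix.SpecialLinearGroup (Fin n) F,
      (∃ z : F, ((x ^ 3 : Matrix.SpecialLinearGroup (Fin n) F) : Matrix (Fin n) (Fin n) F) = z • (1 : Matrix (Fin n) (Fin n) F)) →
      (∀ z : F, (x : Matrix (Fin n) (Fin n) F) ≠ z • (1 : Matrix (Fin n) (Fin n) F)) →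
      ∃ P : Matrix.SpecialLinearGroup (Fin n) F, P⁻¹ * x * P ∈ ((Cfsg.Geo.subfieldSubgroup F₀ 1).comap (Matrix.SpecialLinearGroup.toGL : Matrix.SpecialLinearGroup (Fin n) F →* GL (Fin n) F))) ↔
    (Odd n ∨ (Even n ∧ 2 < k)) := by
  classical
  have : Fact (Nat.Prime 3) := ⟨Nat.prime_three⟩
  subst hq hF₀
  constructor
  · intro h
    rcases Nat.even_or_odd n with hn2 | hn2
    · refine Or.inr ⟨hn2, lt_of_le_of_ne hk.two_le ?_⟩
      rintro rfl
      obtain ⟨m, hm⟩ := hn2
      obtain ⟨x, hx, hns, hbad⟩ := exists_bad F₀ hqk n m (by omega) hm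
      obtain ⟨P, hP⟩ := h x hx hns
      exact hbad P hP
    · exact Or.inl hn2
  · rintro hcond x ⟨z, hz⟩ -
    obtain ⟨a, rfl⟩ := exists_cube z
    rw [Matrix.SpecialLinearGroup.coe_pow] at hz
    set y := Matrix.toLin' (x : Matrix (Fin n) (Fin n) F) with hy
    have ha : a ≠ 0 := by
      rintro rfl
      have h := congrArg Matrix.det hz
      have : Nonempty (Fin n) := ⟨⟨0, by omega⟩⟩
      simp [Matrix.det_pow, x.2] at h
    set N : End F (Fin n → F) := a⁻¹ • y - 1 with hN
    have hN3 : N ^ 3 = 0 := by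
      have h : y ^ 3 = (a ^ 3) • (1 : End F (Fin n → F)) := by
        have h1 := congrArg Matrix.toLinAlgEquiv' hz
        rw [map_pow, map_smul, map_one] at h1
        exact h1
      have h3 : (3 : F) = 0 := CharP.cast_eq_zero F 3
      rw [hN, show (a⁻¹ • y - 1) ^ 3 = (a⁻¹) ^ 3 • y ^ 3 - (3 : F) • (a⁻¹ • y) ^ 2 + (3 : F) • (a⁻¹ • y) - 1 by
        simp only [pow_succ, pow_zero, one_mul, mul_sub, sub_mul, mul_one, smul_mul_assoc, mul_smul_comm, smul_smul]
        module, h, h3, smul_smul, ← mul_pow, inv_mul_cancel₀ ha]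
      simp
    obtain ⟨ι, _, e, b, he, hb⟩ := exists_jordan hN3
    have hcard : Fintype.card (Σ i, Fin (e i)) = n := by
      rw [← Module.finrank_eq_card_basis b, Module.finrank_fin_fun]
    have hne : Nonempty ι := by
      by_contra hem
      rw [not_nonempty_iff] at hem
      simp at hcard
      omega
    have hodd : (∀ i, e i = 2) → Odd k := by
      intro h2
      rcases hcond with hn2 | ⟨-, hk2⟩
      · exfalso
        rw [Fintype.card_sigma] at hcard
        simp [h2] at hcard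
        obtain ⟨j, hj⟩ := hn2
        omega
      · exact hk.odd_of_ne_two (by omega)
    let E := Fintype.equivFinOfCardEq hcard
    set d := ((Pi.basisFun F (Fin n)).toMatrix (b.reindex E)).det with hd
    have hd0 : d ≠ 0 := by
      rw [hd, ← Basis.det_apply]; exact ((Pi.basisFun F (Fin n)).isUnit_det (b.reindex E)).ne_zero
    obtain ⟨t, μ, ht, hμ, hprod⟩ := exists_scaling F₀ hqk e he hne hodd (inv_ne_zero hd0)
    let w : (Σ i, Fin (e i)) → Fˣ := fun l => Units.mk0 (t l.1 * μ l) (mul_ne_zero (ht _) (hμ l).1)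
    have hw : ∀ l, b.unitsSMul w l = (t l.1 * μ l) • b l := fun l => by
      rw [Basis.unitsSMul_apply]; rfl
    refine S5964.mem_of_basis F₀ x ha ((b.unitsSMul w).reindex E) ?_ fun j i => ?_
    · have e1 : (Pi.basisFun F (Fin n)).toMatrix ((b.unitsSMul w).reindex E) =
          (Pi.basisFun F (Fin n)).toMatrix (b.reindex E) * Matrix.diagonal (fun j => t (E.symm j).1 * μ (E.symm j)) := by
        ext i j
        rw [Matrix.mul_diagonal]
        simp only [Basis.toMatrix_apply, Basis.reindex_apply, hw, Pi.basisFun_repr, Pi.smul_apply, smul_eq_mul]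
        ring
      rw [e1, Matrix.det_mul, Matrix.det_diagonal, E.symm.prod_comp (fun l => t l.1 * μ l), hprod, ← hd,
        mul_inv_cancel₀ hd0]
    · rw [Basis.reindex_apply, Basis.repr_reindex_apply]
      set l := E.symm j
      set l' := E.symm i
      rw [show a⁻¹ • y (b.unitsSMul w l) = b.unitsSMul w l + (t l.1 * μ l) • N (b l) by
        rw [hN, hw, map_smul, LinearMap.sub_apply, LinearMap.smul_apply, End.one_apply]; module, map_add,
        Finsupp.add_apply, Basis.repr_self]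
      refine F₀.add_mem ?_ ?_
      · rw [Finsupp.single_apply]
        split_ifs
        exacts [F₀.one_mem, F₀.zero_mem]
      rcases hb l with h0 | ⟨l1, hl1, h1⟩
      · simp [h0]
      · rw [h1, show (t l.1 * μ l) • b l1 = (μ l * (μ l1)⁻¹) • b.unitsSMul w l1 by
          rw [hw, smul_smul, hl1]
          congr 1
          have := (hμ l1).1
          field_simp, map_smul, Finsupp.smul_apply, Basis.repr_self, Finsupp.single_apply, smul_eq_mul]
        refine F₀.mul_mem (F₀.mul_mem (hμ l).2 (F₀.inv_mem (hμ l1).2)) ?_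
        split_ifs
        exacts [F₀.one_mem, F₀.zero_mem]


end Cfsg.Agent.S5966
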