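import Cfsg.Statements.S5967
import Cfsg.Agent.Lib.MaxSub.SympSimilarity
import Mathlib

set_option autoImplicit false
set_option maxHeartbeats 1000000
open scoped MatrixGroups
open Cfsg

namespace Cfsg.Agent.S5967

open Module Cfsg.Agent.Lib.MaxSub

variable {F : Type*} [Field F] {n : ℕ}

/-- A basis of planes. -/
theorem exists_coords {ι : Type} [Fintype ι] (u w : ι → Fin n → F) (hcard : n = Fintype.card ι + Fintype.card ι)
    (hspan : ∀ v, v ∈ Submodule.span F (Set.range (Sum.elim u w))) :
    ∃ (m : ℕ) (T : (Fin m ⊕ Fin m → F) ≃ₗ[F] (Fin n → F)) (σ : Fin m ≃ ι),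
      n = 2 * m ∧ (∀ i, T (Pi.single (Sum.inl i) 1) = u (σ i)) ∧ ∀ i, T (Pi.single (Sum.inr i) 1) = w (σ i) := by
  classical
  let σ := (Fintype.equivFin ι).symm
  let b := basisOfTopLeSpanOfCardEqFinrank (Sum.elim u w) (fun v _ => hspan v)
    (by rw [Fintype.card_sum, Module.finrank_fin_fun, hcard])
  let T := (Pi.basisFun F (Fin (Fintype.card ι) ⊕ Fin (Fintype.card ι))).equiv b (Equiv.sumCongr σ σ)
  refine ⟨Fintype.card ι, T, σ, by omega, fun i => ?_, fun i => ?_⟩
  · rw [← Pi.basisFun_apply]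
    show (Pi.basisFun F _).equiv b _ _ = _
    rw [Basis.equiv_apply, coe_basisOfTopLeSpanOfCardEqFinrank]
    rfl
  · rw [← Pi.basisFun_apply]
    show (Pi.basisFun F _).equiv b _ _ = _
    rw [Basis.equiv_apply, coe_basisOfTopLeSpanOfCardEqFinrank]
    rfl

/-- Invariant planes of equal determinant. -/
def HasPlanes (y : End F (Fin n → F)) : Prop :=
  ∃ (ι : Type) (_ : Fintype ι) (u w : ι → Fin n → F), n = Fintype.card ι + Fintype.card ι ∧
    (∀ v, v ∈ Submodule.span F (Set.range (Sum.elim u w))) ∧ ∃ μ : F, μ ≠ 0 ∧ ∀ i, ∃ α β γ δ : F,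
      y (u i) = α • u i + β • w i ∧ y (w i) = γ • u i + δ • w i ∧ α * δ - β * γ = μ

theorem of_planes (hn : 0 < n) {f : (Fin n → F) → (Fin n → F) → F} (hf : Cfsg.Geo.IsSymplecticForm f)
    (x : Matrix.SpecialLinearGroup (Fin n) F) (h : HasPlanes (Matrix.toLin' (x : Matrix (Fin n) (Fin n) F))) :
    ∃ P : Matrix.SpecialLinearGroup (Fin n) F, P⁻¹ * x * P ∈
      ((Cfsg.Geo.similarityGroup f).comap (Matrix.SpecialLinearGroup.toGL : Matrix.SpecialLinearGroup (Fin n) F →* GL (Fin n) F)) := by
  classical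
  set y := Matrix.toLin' (x : Matrix (Fin n) (Fin n) F) with hy
  obtain ⟨ι, _, u, w, hcard, hspan, μ, hμ, hpl⟩ := h
  obtain ⟨m, T, σ, hm, hTu, hTw⟩ := exists_coords u w hcard hspan
  obtain ⟨m', Tf, hm', hTf⟩ := SympSimilarity.exists_frame hf
  obtain rfl : m' = m := by omega
  choose α β γ δ hu hw hdet using hpl
  let A : End F (Fin m' ⊕ Fin m' → F) :=
    { toFun := fun v => Sum.elim (fun i => α (σ i) * v (Sum.inl i) + γ (σ i) * v (Sum.inr i))
        (fun i => β (σ i) * v (Sum.inl i) + δ (σ i) * v (Sum.inr i))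
      map_add' := fun a b => by funext z; rcases z with i | i <;> simp <;> ring
      map_smul' := fun c a => by funext z; rcases z with i | i <;> simp <;> ring }
  have hA : T.toLinearMap.comp A = y.comp T.toLinearMap := by
    refine (Pi.basisFun F (Fin m' ⊕ Fin m')).ext fun z => ?_
    rw [LinearMap.comp_apply, LinearMap.comp_apply, Pi.basisFun_apply, LinearEquiv.coe_coe]
    rcases z with i | i
    · have e : A (Pi.single (Sum.inl i) 1) =
          α (σ i) • Pi.single (Sum.inl i) 1 + β (σ i) • Pi.single (Sum.inr i) 1 := by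
        funext z
        rcases z with j | j <;> by_cases hj : j = i <;> simp [A, Pi.single_apply, hj]
      rw [e, map_add, map_smul, map_smul, hTu, hTw, hu]
    · have e : A (Pi.single (Sum.inr i) 1) =
          γ (σ i) • Pi.single (Sum.inl i) 1 + δ (σ i) • Pi.single (Sum.inr i) 1 := by
        funext z
        rcases z with j | j <;> by_cases hj : j = i <;> simp [A, Pi.single_apply, hj]
      rw [e, map_add, map_smul, map_smul, hTu, hTw, hw]
  let S0 : End F (Fin n → F) := Tf.toLinearMap.comp T.symm.toLinearMap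
  have hd : LinearMap.det S0 ≠ 0 := (LinearEquiv.isUnit_det' (T.symm.trans Tf)).ne_zero
  let i0 : Fin m' := ⟨0, by omega⟩
  let ε : Fin m' → F := fun i => if i = i0 then (LinearMap.det S0)⁻¹ else 1
  let E : End F (Fin m' ⊕ Fin m' → F) := Matrix.toLin' (Matrix.diagonal (Sum.elim ε (fun _ => (1 : F))))
  let S : End F (Fin n → F) := Tf.toLinearMap.comp (E.comp T.symm.toLinearMap)
  have hSdet : LinearMap.det S = 1 := by
    have e : S = S0.comp (T.conj E) := by
      apply LinearMap.ext
      intro v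
      simp [S, S0, LinearEquiv.conj_apply]
    rw [e, LinearMap.det_comp, LinearEquiv.conj_apply, LinearMap.comp_assoc, LinearMap.det_conj]
    show LinearMap.det S0 * LinearMap.det (Matrix.toLin' _) = 1
    rw [LinearMap.det_toLin', Matrix.det_diagonal, Fintype.prod_sum_type]
    simp only [Sum.elim_inl, Sum.elim_inr, Finset.prod_const_one, mul_one, ε, Finset.prod_ite_eq', Finset.mem_univ,
      if_true]
    exact mul_inv_cancel₀ hd
  have hS : ∀ a b, f (S (y a)) (S (y b)) = μ * f (S a) (S b) := by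
    intro a b
    obtain ⟨a, rfl⟩ := T.surjective a
    obtain ⟨b, rfl⟩ := T.surjective b
    have hy' : ∀ v, y (T v) = T (A v) := fun v => (LinearMap.congr_fun hA v).symm
    have hSv : ∀ v, S (T v) = Tf (E v) := fun v => by simp [S]
    rw [hy', hy', hSv, hSv, hSv, hSv, hTf, hTf, Cfsg.Agent.Lib.Geometry.sympForm_eq_sum,
      Cfsg.Agent.Lib.Geometry.sympForm_eq_sum, Finset.mul_sum]
    refine Finset.sum_congr rfl fun i _ => ?_
    have hE : ∀ v : Fin m' ⊕ Fin m' → F, E v (Sum.inl i) = ε i * v (Sum.inl i) ∧ E v (Sum.inr i) = v (Sum.inr i) :=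
      fun v => by simp [E, Matrix.mulVec_diagonal]
    rw [(hE _).1, (hE _).1, (hE _).1, (hE _).1, (hE _).2, (hE _).2, (hE _).2, (hE _).2]
    simp only [A, LinearMap.coe_mk, AddHom.coe_mk, Sum.elim_inl, Sum.elim_inr]
    rw [← hdet (σ i)]
    ring
  let Q : Matrix.SpecialLinearGroup (Fin n) F := ⟨LinearMap.toMatrix' S, by rw [LinearMap.det_toMatrix', hSdet]⟩
  refine ⟨Q⁻¹, Units.mk0 μ hμ, fun a b => ?_⟩
  rw [inv_inv]
  have hQ : ∀ v, (Q : Matrix (Fin n) (Fin n) F).mulVec v = S v := fun v => by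
    show (LinearMap.toMatrix' S).mulVec v = S v
    rw [← Matrix.toLin'_apply, Matrix.toLin'_toMatrix']
  have hQs : ∀ v, ∃ v', v = S v' := fun v =>
    ⟨((Q⁻¹ : Matrix.SpecialLinearGroup (Fin n) F) : Matrix (Fin n) (Fin n) F).mulVec v, by
      rw [← hQ, Matrix.mulVec_mulVec, ← Matrix.SpecialLinearGroup.coe_mul, mul_inv_cancel,
        Matrix.SpecialLinearGroup.coe_one, Matrix.one_mulVec]⟩
  obtain ⟨a', rfl⟩ := hQs a
  obtain ⟨b', rfl⟩ := hQs b
  have key : ∀ v, ((Q * x * Q⁻¹ : Matrix.SpecialLinearGroup (Fin n) F) : Matrix (Fin n) (Fin n) F).mulVec (S v) = S (y v) := fun v => by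
    rw [← hQ v, Matrix.mulVec_mulVec, ← Matrix.SpecialLinearGroup.coe_mul, inv_mul_cancel_right,
      Matrix.SpecialLinearGroup.coe_mul, ← Matrix.mulVec_mulVec, hQ]
    rfl
  show f (((Q * x * Q⁻¹ : Matrix.SpecialLinearGroup (Fin n) F) : Matrix (Fin n) (Fin n) F).mulVec (S a'))
    (((Q * x * Q⁻¹ : Matrix.SpecialLinearGroup (Fin n) F) : Matrix (Fin n) (Fin n) F).mulVec (S b')) = _
  rw [key, key, hS]
  rfl

theorem planes_of_nonsquare (hev : Even n) {y : End F (Fin n → F)} {c : F} (hy : ∀ v, y (y v) = c • v)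
    (hc : ¬ IsSquare c) : HasPlanes y := by
  have hc0 : c ≠ 0 := fun h => hc (h ▸ IsSquare.zero)
  have step : ∀ k, 2 * k ≤ n → ∃ u : Fin k → Fin n → F,
      finrank F (Submodule.span F (Set.range (Sum.elim u (y ∘ u)))) = 2 * k := by
    intro k
    induction k with
    | zero =>
      intro _
      refine ⟨Fin.elim0, ?_⟩
      rw [show Set.range (Sum.elim Fin.elim0 (y ∘ Fin.elim0) : Fin 0 ⊕ Fin 0 → Fin n → F) = ∅ from
        Set.range_eq_empty _, Submodule.span_empty, finrank_bot]
    | succ k ih =>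
      intro hk
      obtain ⟨u, hu⟩ := ih (by omega)
      set S := Submodule.span F (Set.range (Sum.elim u (y ∘ u))) with hS
      have hinv : ∀ v ∈ S, y v ∈ S := by
        intro v hv
        induction hv using Submodule.span_induction with
        | mem z hz =>
          obtain ⟨i | i, rfl⟩ := hz
          · exact Submodule.subset_span ⟨Sum.inr i, rfl⟩
          · show y (y (u i)) ∈ S
            rw [hy]
            exact S.smul_mem c (Submodule.subset_span ⟨Sum.inl i, rfl⟩)
        | zero => rw [map_zero]; exact S.zero_mem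
        | add z z' _ _ h1 h2 => rw [map_add]; exact S.add_mem h1 h2
        | smul a z _ h1 => rw [map_smul]; exact S.smul_mem a h1
      obtain ⟨v, hv⟩ : ∃ v, v ∉ S := by
        by_contra hne
        push Not at hne
        have h1 := congrArg (fun U : Submodule F (Fin n → F) => finrank F U) (Submodule.eq_top_iff'.2 hne)
        simp only [finrank_top, Module.finrank_fin_fun, hu] at h1
        omega
      have key : ∀ a b : F, a • v + b • y v ∈ S → a = 0 ∧ b = 0 := by
        intro a b h
        have h2 : (a * a - b * b * c) • v ∈ S := by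
          have e : (a * a - b * b * c) • v = a • (a • v + b • y v) - b • y (a • v + b • y v) := by
            rw [map_add, map_smul, map_smul, hy]
            module
          rw [e]
          exact S.sub_mem (S.smul_mem a h) (S.smul_mem b (hinv _ h))
        have h3 : a * a - b * b * c = 0 := by
          by_contra hne
          exact hv ((Submodule.smul_mem_iff S hne).1 h2)
        by_cases hb : b = 0
        · subst hb
          simp at h3
          exact ⟨h3, rfl⟩
        · exact absurd ⟨a / b, by field_simp; linear_combination (norm := ring_nf) -h3⟩ hc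
      refine ⟨Fin.snoc u v, ?_⟩
      let P := Submodule.span F (Set.range ![v, y v])
      have hP : finrank F P = 2 := by
        rw [finrank_span_eq_card, Fintype.card_fin]
        refine LinearIndependent.pair_iff.2 fun a b h => key a b ?_
        rw [h]; exact S.zero_mem
      have hSP : S ⊓ P = ⊥ := by
        rw [eq_bot_iff]
        rintro z ⟨hzS, hzP⟩
        obtain ⟨a, rfl⟩ := (Submodule.mem_span_range_iff_exists_fun F).1 hzP
        rw [Fin.sum_univ_two] at hzS ⊢
        simp only [Matrix.cons_val_zero, Matrix.cons_val_one] at hzS ⊢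
        obtain ⟨h1, h2⟩ := key _ _ hzS
        rw [h1, h2, zero_smul, zero_smul, add_zero]
        exact zero_mem _
      have hspan : Submodule.span F (Set.range (Sum.elim (Fin.snoc u v) (y ∘ Fin.snoc u v))) = S ⊔ P := by
        refine le_antisymm (Submodule.span_le.2 ?_) (sup_le (Submodule.span_le.2 ?_) (Submodule.span_le.2 ?_))
        · rintro _ ⟨i | i, rfl⟩ <;> refine Fin.lastCases ?_ (fun j => ?_) i
          · exact Submodule.mem_sup_right (Submodule.subset_span ⟨0, by simp⟩)
          · exact Submodule.mem_sup_left (Submodule.subset_span ⟨Sum.inl j, by simp⟩)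
          · exact Submodule.mem_sup_right (Submodule.subset_span ⟨1, by simp⟩)
          · exact Submodule.mem_sup_left (Submodule.subset_span ⟨Sum.inr j, by simp⟩)
        · rintro _ ⟨i | i, rfl⟩
          · exact Submodule.subset_span ⟨Sum.inl i.castSucc, by simp⟩
          · exact Submodule.subset_span ⟨Sum.inr i.castSucc, by simp⟩
        · rintro _ ⟨i, rfl⟩
          fin_cases i
          · exact Submodule.subset_span ⟨Sum.inl (Fin.last k), by simp⟩
          · exact Submodule.subset_span ⟨Sum.inr (Fin.last k), by simp⟩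
      have h1 := Submodule.finrank_sup_add_finrank_inf_eq S P
      rw [hSP, finrank_bot, hu, hP, ← hspan] at h1
      omega
  obtain ⟨m, hm⟩ := hev
  obtain ⟨u, hu⟩ := step m (by omega)
  have htop : Submodule.span F (Set.range (Sum.elim u (y ∘ u))) = ⊤ :=
    Submodule.eq_top_of_finrank_eq (by rw [hu, Module.finrank_fin_fun]; omega)
  refine ⟨Fin m, inferInstance, u, y ∘ u, by rw [Fintype.card_fin, hm], fun v => by rw [htop]; trivial, -c,
    neg_ne_zero.2 hc0, fun i => ⟨0, 1, c, 0, ?_, ?_, by ring⟩⟩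
  · simp
  · simp [hy]

theorem even_split {a : ℕ} (ha : Even a) {U : Submodule F (Fin n → F)} (hU : finrank F U = a) :
    ∃ u w : Fin (a / 2) → Fin n → F, (∀ i, u i ∈ U) ∧ (∀ i, w i ∈ U) ∧
      U ≤ Submodule.span F (Set.range (Sum.elim u w)) := by
  obtain ⟨s, hs⟩ := ha
  let b := Module.finBasisOfFinrankEq F U hU
  refine ⟨fun i => b ⟨2 * (i : ℕ), by omega⟩, fun i => b ⟨2 * (i : ℕ) + 1, by omega⟩,
    fun i => (b _).2, fun i => (b _).2, fun v hv => ?_⟩
  have h := congrArg (Submodule.subtype U) (b.sum_repr ⟨v, hv⟩)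
  rw [map_sum] at h
  rw [show v = Submodule.subtype U ⟨v, hv⟩ from rfl, ← h]
  refine Submodule.sum_mem _ fun j _ => ?_
  rw [map_smul]
  refine Submodule.smul_mem _ _ (Submodule.subset_span ?_)
  rcases Nat.even_or_odd' (j : ℕ) with ⟨k, hk | hk⟩
  · refine ⟨Sum.inl ⟨k, by omega⟩, ?_⟩
    show (b ⟨2 * k, _⟩ : Fin n → F) = _
    congr 2; exact Fin.ext hk.symm
  · refine ⟨Sum.inr ⟨k, by omega⟩, ?_⟩
    show (b ⟨2 * k + 1, _⟩ : Fin n → F) = _
    congr 2; exact Fin.ext hk.symm

theorem planes_of_square (h2 : (2 : F) ≠ 0) (hev : Even n) {y : End F (Fin n → F)} {a : F} (ha : a ≠ 0)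
    (hy : ∀ v, y (y v) = (a * a) • v) (hdet : LinearMap.det y = 1) (hbad : ¬ (a ^ n = -1)) : HasPlanes y := by
  classical
  let Ep := LinearMap.ker (y - a • 1)
  let Em := LinearMap.ker (y + a • 1)
  have hEp : ∀ v, v ∈ Ep ↔ y v = a • v := fun v => by simp [Ep, sub_eq_zero]
  have hEm : ∀ v, v ∈ Em ↔ y v = (-a) • v := fun v => by simp [Em, add_eq_zero_iff_eq_neg]
  have hc : IsCompl Ep Em := by
    refine IsCompl.of_eq ?_ ?_
    · rw [eq_bot_iff]
      rintro v ⟨h1, h3⟩
      have e : ((2 : F) * a) • v = 0 := by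
        rw [two_mul, add_smul]
        nth_rewrite 1 [← (hEp v).1 h1]
        rw [(hEm v).1 h3, neg_smul, neg_add_cancel]
      exact (smul_eq_zero.1 e).resolve_left (mul_ne_zero h2 ha)
    · rw [eq_top_iff]
      intro v _
      have e : v = ((2 * a)⁻¹) • (a • v + y v) + ((2 * a)⁻¹) • (a • v - y v) := by
        rw [← smul_add, add_add_sub_cancel, ← two_smul F (a • v), smul_smul, smul_smul, mul_assoc, inv_mul_cancel₀ (mul_ne_zero h2 ha),
          one_smul]
      rw [e]
      refine Submodule.add_mem_sup (Ep.smul_mem _ ((hEp _).2 ?_)) (Em.smul_mem _ ((hEm _).2 ?_))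
      · rw [map_add, map_smul, hy]; module
      · rw [map_sub, map_smul, hy]; module
  set s := finrank F Ep with hs
  set t := finrank F Em with ht
  have hst : s + t = n := by
    rw [hs, ht, Submodule.finrank_add_eq_of_isCompl hc, Module.finrank_fin_fun]
  have hd : a ^ n * (-1) ^ t = 1 := by
    let e := Submodule.prodEquivOfIsCompl Ep Em hc
    have hy' : y = e.conj ((a • LinearMap.id).prodMap ((-a) • LinearMap.id)) := by
      apply LinearMap.ext
      intro v
      obtain ⟨⟨v1, v2⟩, rfl⟩ := e.surjective v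
      rw [LinearEquiv.conj_apply, LinearMap.comp_apply, LinearMap.comp_apply]
      simp [e, map_add, (hEp v1).1 v1.2, (hEm v2).1 v2.2]
    rw [hy', LinearEquiv.conj_apply, LinearMap.comp_assoc, LinearMap.det_conj, LinearMap.det_prodMap, LinearMap.det_smul,
      LinearMap.det_smul, LinearMap.det_id, LinearMap.det_id, mul_one, mul_one, ← hs, ← ht, neg_pow a t] at hdet
    have e1 : a ^ n = a ^ s * a ^ t := by rw [← pow_add, hst]
    rw [e1]
    linear_combination hdet
  have hte : Even t := by
    by_contra hne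
    rw [Nat.not_even_iff_odd] at hne
    rw [hne.neg_one_pow, mul_neg_one, neg_eq_iff_eq_neg] at hd
    exact hbad hd
  have hse : Even s := by rwa [← hst, Nat.even_add, iff_true_intro hte, iff_true] at hev
  obtain ⟨u1, w1, hu1, hw1, hsp1⟩ := even_split hse hs.symm
  obtain ⟨u2, w2, hu2, hw2, hsp2⟩ := even_split hte ht.symm
  refine ⟨Fin (s / 2) ⊕ Fin (t / 2), inferInstance, Sum.elim u1 u2, Sum.elim w1 w2, ?_, fun v => ?_, a * a,
    mul_ne_zero ha ha, ?_⟩
  · obtain ⟨s', hs'⟩ := hse
    obtain ⟨t', ht'⟩ := hte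
    simp; omega
  · obtain ⟨x1, h1, x2, h3, rfl⟩ := Submodule.mem_sup.1 (hc.sup_eq_top.ge (Submodule.mem_top (x := v)))
    refine add_mem (Submodule.span_mono ?_ (hsp1 h1)) (Submodule.span_mono ?_ (hsp2 h3))
    · rintro _ ⟨i | i, rfl⟩
      · exact ⟨Sum.inl (Sum.inl i), rfl⟩
      · exact ⟨Sum.inr (Sum.inl i), rfl⟩
    · rintro _ ⟨i | i, rfl⟩
      · exact ⟨Sum.inl (Sum.inr i), rfl⟩
      · exact ⟨Sum.inr (Sum.inr i), rfl⟩
  · rintro (i | i)
    · exact ⟨a, 0, 0, a, by simpa using (hEp _).1 (hu1 i), by simpa using (hEp _).1 (hw1 i), by ring⟩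
    · exact ⟨-a, 0, 0, -a, by simpa using (hEm _).1 (hu2 i), by simpa using (hEm _).1 (hw2 i), by ring⟩

theorem planes_of_two (h2 : (2 : F) = 0) (hev : Even n) {y : End F (Fin n → F)} {a : F} (ha : a ≠ 0)
    (hy : ∀ v, y (y v) = (a * a) • v) : HasPlanes y := by
  classical
  set N : End F (Fin n → F) := y - a • 1 with hN
  have hyN : ∀ v, y v = a • v + N v := fun v => by simp [hN]
  have hneg : ∀ v : Fin n → F, v + v = 0 := fun v => by rw [← two_smul F v, h2, zero_smul]
  have hNN : ∀ v, N (N v) = 0 := fun v => by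
    have e : N (N v) = (y (y v) + (a * a) • v) - (a • y v + a • y v) := by
      simp only [hN, LinearMap.sub_apply, LinearMap.smul_apply, End.one_apply, map_sub, map_smul]
      module
    rw [e, hy, hneg, hneg, sub_zero]
  set K := LinearMap.ker N
  set R := LinearMap.range N with hR
  have hRK : R ≤ K := by rintro _ ⟨v, rfl⟩; exact LinearMap.mem_ker.2 (hNN v)
  obtain ⟨C0, hC0⟩ := Submodule.exists_isCompl R
  set C := C0 ⊓ K with hC
  have hKeq : R ⊔ C = K := by rw [hC, ← sup_inf_assoc_of_le C0 hRK, hC0.sup_eq_top, top_inf_eq]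
  set s := finrank F R with hs
  have hCd : finrank F C + (s + s) = n := by
    have h1 := Submodule.finrank_sup_add_finrank_inf_eq R C
    rw [hKeq, (hC0.disjoint.mono_right (inf_le_left : C ≤ C0)).eq_bot, finrank_bot, add_zero] at h1
    have h3 := N.finrank_range_add_finrank_ker
    rw [Module.finrank_fin_fun] at h3
    change finrank F R + finrank F K = n at h3
    omega
  have hCe : Even (finrank F C) := by
    rw [← hCd, Nat.even_add] at hev
    exact hev.2 ⟨s, rfl⟩
  obtain ⟨u2, w2, hu2, hw2, hsp2⟩ := even_split hCe rfl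
  let b := Module.finBasisOfFinrankEq F R hs.symm
  have hpre : ∀ i, ∃ u, N u = (b i : Fin n → F) := fun i => (b i).2
  choose u1 hu1 using hpre
  refine ⟨Fin s ⊕ Fin (finrank F C / 2), inferInstance, Sum.elim u1 u2, Sum.elim (fun i => (b i : Fin n → F)) w2, ?_,
    fun v => ?_, a * a, mul_ne_zero ha ha, ?_⟩
  · obtain ⟨c', hc'⟩ := hCe
    simp; omega
  · set Sp := Submodule.span F (Set.range (Sum.elim (Sum.elim u1 u2) (Sum.elim (fun i => (b i : Fin n → F)) w2)))
    have hu1' : ∀ i, u1 i ∈ Sp := fun i => Submodule.subset_span ⟨Sum.inl (Sum.inl i), rfl⟩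
    have hb : ∀ i, (b i : Fin n → F) ∈ Sp := fun i => Submodule.subset_span ⟨Sum.inr (Sum.inl i), rfl⟩
    have hRle : R ≤ Sp := fun z hz => by
      have h := congrArg (Submodule.subtype R) (b.sum_repr ⟨z, hz⟩)
      rw [map_sum] at h
      rw [show z = Submodule.subtype R ⟨z, hz⟩ from rfl, ← h]
      exact Submodule.sum_mem _ fun i _ => by rw [map_smul]; exact Sp.smul_mem _ (hb i)
    have hCle : C ≤ Sp := hsp2.trans (Submodule.span_le.2 (by
      rintro _ ⟨i | i, rfl⟩
      · exact Submodule.subset_span ⟨Sum.inl (Sum.inr i), rfl⟩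
      · exact Submodule.subset_span ⟨Sum.inr (Sum.inr i), rfl⟩))
    set z : Fin n → F := ∑ i, (b.repr ⟨N v, LinearMap.mem_range_self N v⟩ i) • u1 i
    have hz : N z = N v := by
      have h := congrArg (Submodule.subtype R) (b.sum_repr ⟨N v, LinearMap.mem_range_self N v⟩)
      simp only [map_sum, map_smul] at h ⊢
      simp only [z, map_sum, map_smul, hu1]
      exact h
    have hk : v - z ∈ K := LinearMap.mem_ker.2 (by rw [map_sub, hz, sub_self])
    rw [← hKeq] at hk
    have := add_mem (sup_le hRle hCle hk) (Submodule.sum_mem (t := (Finset.univ : Finset (Fin s))) Sp fun i _ => Sp.smul_mem (b.repr ⟨N v, LinearMap.mem_range_self N v⟩ i) (hu1' i))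
    rwa [sub_add_cancel] at this
  · have hker : ∀ v, v ∈ C → y v = a • v := fun v hv => by
      rw [hyN, LinearMap.mem_ker.1 (show v ∈ K from hv.2), add_zero]
    rintro (i | i)
    · refine ⟨a, 1, 0, a, ?_, ?_, by ring⟩
      · show y (u1 i) = a • u1 i + (1 : F) • (b i : Fin n → F)
        rw [one_smul, ← hu1 i, hyN]
      · show y (b i : Fin n → F) = (0 : F) • u1 i + a • (b i : Fin n → F)
        rw [zero_smul, zero_add, hyN, LinearMap.mem_ker.1 (hRK (b i).2), add_zero]
    · exact ⟨a, 0, 0, a, by simpa using hker _ (hu2 i), by simpa using hker _ (hw2 i), by ring⟩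

theorem exists_pow_eq_neg_one [Fintype F] (h2 : (2 : F) ≠ 0) (hn : 0 < n)
    (h : padicValNat 2 n < padicValNat 2 (Fintype.card F - 1)) : ∃ a : F, a ≠ 0 ∧ a ^ n = -1 := by
  set N := Fintype.card F - 1 with hNdef
  have hN0 : 0 < N := by have := Fintype.one_lt_card (α := F); omega
  have hcard : Nat.card Fˣ = N := by rw [Nat.card_units, Nat.card_eq_fintype_card]
  set g := Nat.gcd n N with hg
  obtain ⟨e, he⟩ := Nat.gcd_dvd_right n N
  rw [← hg] at he
  have hg0 : 0 < g := Nat.pos_of_ne_zero fun h0 => by rw [h0, zero_mul] at he; omega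
  have he2 : 2 ∣ e := by
    by_contra hne
    have h1 : padicValNat 2 N = padicValNat 2 g := by
      rw [he, padicValNat.mul hg0.ne' (fun h0 => hne (by rw [h0]; exact dvd_zero 2)), padicValNat.eq_zero_of_not_dvd hne, add_zero]
    have h3 : padicValNat 2 g ≤ padicValNat 2 n :=
      (padicValNat_dvd_iff_le hn.ne').1 (pow_padicValNat_dvd.trans (Nat.gcd_dvd_left n N))
    omega
  obtain ⟨e', he'⟩ := he2
  obtain ⟨G, hG⟩ := IsCyclic.exists_generator (α := Fˣ)
  have hordG : orderOf G = N := (orderOf_eq_card_of_forall_mem_zpowers hG).trans hcard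
  set a0 := G ^ e' with ha0
  have h1 : a0 ^ g = -1 := by
    rw [ha0, ← pow_mul]
    set z := G ^ (e' * g) with hz
    have hz2 : z * z = 1 := by
      rw [hz, ← pow_add, ← orderOf_dvd_iff_pow_eq_one, hordG, he, he']
      exact ⟨1, by ring⟩
    have hz1 : z ≠ 1 := fun h0 => by
      rw [hz, ← orderOf_dvd_iff_pow_eq_one, hordG] at h0
      have he'0 : 0 < e' := Nat.pos_of_ne_zero fun h0 => by rw [he', h0, mul_zero, mul_zero] at he; omega
      have := Nat.le_of_dvd (Nat.mul_pos he'0 hg0) h0
      nlinarith [he, he', Nat.mul_pos he'0 hg0]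
    have := congrArg Units.val hz2
    rw [Units.val_mul, Units.val_one] at this
    rcases mul_self_eq_one_iff.1 this with h0 | h0
    · exact absurd (Units.ext h0) hz1
    · exact Units.ext (by rw [h0, Units.val_neg, Units.val_one])
  have hbez := Nat.gcd_eq_gcd_ab n N
  rw [← hg] at hbez
  refine ⟨((a0 ^ Nat.gcdA n N : Fˣ) : F), Units.ne_zero _, ?_⟩
  rw [← Units.val_pow_eq_pow_val, ← zpow_natCast, ← zpow_mul, mul_comm,
    show (n : ℤ) * Nat.gcdA n N = (g : ℤ) - N * Nat.gcdB n N by omega, zpow_sub, zpow_natCast, h1, zpow_mul, zpow_natCast,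
    ← hcard, pow_card_eq_one', one_zpow, inv_one, mul_one, Units.val_neg, Units.val_one]

theorem no_planes {f : (Fin n → F) → (Fin n → F) → F} (hf : Cfsg.Geo.IsSymplecticForm f) (hn : 4 ≤ n) (h2 : (2 : F) ≠ 0)
    {a : F} (ha : a ≠ 0) (han : a ^ n = -1) :
    ∃ x : Matrix.SpecialLinearGroup (Fin n) F,
      (∃ z : F, ((x ^ 2 : Matrix.SpecialLinearGroup (Fin n) F) : Matrix (Fin n) (Fin n) F) = z • (1 : Matrix (Fin n) (Fin n) F)) ∧
      (∀ z : F, (x : Matrix (Fin n) (Fin n) F) ≠ z • (1 : Matrix (Fin n) (Fin n) F)) ∧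
      ∀ P : Matrix.SpecialLinearGroup (Fin n) F, P⁻¹ * x * P ∉
        ((Cfsg.Geo.similarityGroup f).comap (Matrix.SpecialLinearGroup.toGL : Matrix.SpecialLinearGroup (Fin n) F →* GL (Fin n) F)) := by
  classical
  let i0 : Fin n := ⟨0, by omega⟩
  let i1 : Fin n := ⟨1, by omega⟩
  let i2 : Fin n := ⟨2, by omega⟩
  let d : Fin n → F := fun i => if i = i0 then -a else a
  have hdet : (Matrix.diagonal d).det = 1 := by
    rw [Matrix.det_diagonal]
    have : ∀ i, d i = (if i = i0 then (-1 : F) else 1) * a := fun i => by simp only [d]; split_ifs <;> simp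
    rw [Finset.prod_congr rfl fun i _ => this i, Finset.prod_mul_distrib, Finset.prod_const, Finset.card_univ,
      Fintype.card_fin, han]
    simp
  set x : Matrix.SpecialLinearGroup (Fin n) F := ⟨Matrix.diagonal d, hdet⟩ with hx
  refine ⟨x, ⟨a * a, ?_⟩, fun z hz => ?_, fun P hP => ?_⟩
  · refine (Matrix.SpecialLinearGroup.coe_pow x 2).trans ?_
    show Matrix.diagonal d ^ 2 = _
    rw [Matrix.diagonal_pow, Matrix.smul_one_eq_diagonal]
    congr 1
    funext i
    simp only [Pi.pow_apply, d]
    split_ifs <;> ring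
  · have hz' : Matrix.diagonal d = z • (1 : Matrix (Fin n) (Fin n) F) := hz
    rw [Matrix.smul_one_eq_diagonal] at hz'
    have h1 := congrFun (Matrix.diagonal_injective hz') i0
    have h3 := congrFun (Matrix.diagonal_injective hz') i1
    simp [d, i0, i1, Fin.ext_iff] at h1 h3
    rw [← h3, neg_eq_iff_add_eq_zero, ← two_mul] at h1
    exact mul_ne_zero h2 ha h1
  obtain ⟨c, hc⟩ := hP
  let L := Matrix.toLin' ((P⁻¹ : Matrix.SpecialLinearGroup (Fin n) F) : Matrix (Fin n) (Fin n) F)
  let B : LinearMap.BilinForm F (Fin n → F) := (SympSimilarity.toB hf).compl₁₂ L L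
  have hPP : ∀ u, (P : Matrix (Fin n) (Fin n) F).mulVec (L u) = u := fun u => by
    show _ = u
    rw [Matrix.toLin'_apply, Matrix.mulVec_mulVec, ← Matrix.SpecialLinearGroup.coe_mul, mul_inv_cancel,
      Matrix.SpecialLinearGroup.coe_one, Matrix.one_mulVec]
  have hLP : ∀ w, L ((P : Matrix (Fin n) (Fin n) F).mulVec w) = w := fun w => by
    show Matrix.toLin' _ _ = w
    rw [Matrix.toLin'_apply, Matrix.mulVec_mulVec, ← Matrix.SpecialLinearGroup.coe_mul, inv_mul_cancel,
      Matrix.SpecialLinearGroup.coe_one, Matrix.one_mulVec]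
  have hnd : ∀ u, (∀ v, B u v = 0) → u = 0 := fun u hu => by
    have h0 : L u = 0 := SympSimilarity.toB_nondeg hf fun w => by
      have h' : SympSimilarity.toB hf (L u) (L ((P : Matrix (Fin n) (Fin n) F).mulVec w)) = 0 := hu _
      rwa [hLP] at h'
    rw [← hPP u, h0, Matrix.mulVec_zero]
  have hB : ∀ u v, B ((Matrix.diagonal d).mulVec u) ((Matrix.diagonal d).mulVec v) = (c : F) * B u v := fun u v => by
    have e : ∀ w, L ((Matrix.diagonal d).mulVec w) =
        (((P⁻¹ * x * P : Matrix.SpecialLinearGroup (Fin n) F)) : Matrix (Fin n) (Fin n) F).mulVec (L w) := fun w => by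
      rw [Matrix.SpecialLinearGroup.coe_mul (P⁻¹ * x) P, ← Matrix.mulVec_mulVec, hPP, Matrix.SpecialLinearGroup.coe_mul,
        ← Matrix.mulVec_mulVec]
      rfl
    show SympSimilarity.toB hf (L _) (L _) = _
    rw [e, e]
    exact hc _ _
  let e : Fin n → Fin n → F := fun i => Pi.single i 1
  have horth : ∀ i j, B (e i) (e j) ≠ 0 → d i * d j = (c : F) := fun i j h => by
    have h1 := hB (e i) (e j)
    have hd : ∀ k, (Matrix.diagonal d).mulVec (e k) = d k • e k := fun k => by
      funext z
      rw [Matrix.mulVec_diagonal, Pi.smul_apply, smul_eq_mul]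
      by_cases hz : z = k <;> simp [e, hz]
    rw [hd, hd, map_smul, smul_eq_mul, map_smul, LinearMap.smul_apply, smul_eq_mul, ← mul_assoc, mul_comm (d j)] at h1
    exact mul_right_cancel₀ h h1
  have halt : ∀ v, B v v = 0 := fun v => hf.alternating _
  have hrow : ∀ u, u ≠ 0 → ∃ j, B u (e j) ≠ 0 := fun u hu => by
    by_contra hne
    push Not at hne
    refine hu (hnd u fun v => ?_)
    rw [← (Pi.basisFun F (Fin n)).sum_repr v, map_sum]
    exact Finset.sum_eq_zero fun j _ => by rw [map_smul, Pi.basisFun_apply, hne j, smul_zero]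
  have he0 : ∀ i, e i ≠ 0 := fun i h => by simpa [e] using congrFun h i
  obtain ⟨j, hj⟩ := hrow (e i0) (he0 i0)
  have hj0 : j ≠ i0 := fun h => hj (h ▸ halt _)
  have hcv : (c : F) = -(a * a) := by rw [← horth _ _ hj]; simp [d, hj0]
  have hzero : ∀ i k, i ≠ i0 → k ≠ i0 → B (e i) (e k) = 0 := fun i k hi hk => by
    by_contra h
    have := horth _ _ h
    rw [hcv] at this
    simp [d, hi, hk] at this
    have h3 : (2 : F) * (a * a) = 0 := by linear_combination this
    exact mul_ne_zero h2 (mul_ne_zero ha ha) h3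
  have h10 : i1 ≠ i0 := by simp [i0, i1, Fin.ext_iff]
  have h20 : i2 ≠ i0 := by simp [i0, i2, Fin.ext_iff]
  have h12 : i1 ≠ i2 := by simp [i1, i2, Fin.ext_iff]
  set u := B (e i2) (e i0) • e i1 - B (e i1) (e i0) • e i2 with hu
  have hu0 : u = 0 := by
    by_contra hne
    obtain ⟨k, hk⟩ := hrow u hne
    apply hk
    rw [hu, map_sub, map_smul, map_smul, LinearMap.sub_apply, LinearMap.smul_apply, LinearMap.smul_apply, smul_eq_mul,
      smul_eq_mul]
    by_cases hk0 : k = i0
    · subst hk0; ring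
    · rw [hzero _ _ h10 hk0, hzero _ _ h20 hk0]; ring
  have h3 := congrFun hu0 i2
  simp [hu, e, h12.symm] at h3
  obtain ⟨k, hk⟩ := hrow (e i1) (he0 i1)
  by_cases hk0 : k = i0
  · exact hk (hk0 ▸ h3)
  · exact hk (hzero _ _ h10 hk0)

/-- Involutions of PSL_n(q) and the symplectic-type subgroups. Here `T = PSL_n(F)` for a field `F` with `q` elements, `n ≥ 4` even, `f` is a nondegenerate alternating form on `F^n`, and `H` is the subgroup of matrices of determinant 1 preserving `f` up to a scalar — a maximal subgroup of type Sp_n(q); Ω is the set of `T`-conjugates of `H` (cosets of `H`), so an element of `T` of prime order `r` (a matrix `x` of determinant 1 with `x^r` scalar, `x` not scalar) fixes a point of Ω when some conjugate of `x` by a matrix of determinant 1 preserves `f` up to a scalar. Suppose the index of `H` is even. Then every involution of `T` is conjugate in `T` into `H` if and only if `(q − 1)_2 ≤ (n)_2`. -/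
theorem result {F : Type*} [Field F] [Fintype F] {p : ℕ} [Fact p.Prime] [CharP F p] {q : ℕ} (hq : Fintype.card F = q)
    (n : ℕ) (hn : 4 ≤ n) (he : Even n) (f : (Fin n → F) → (Fin n → F) → F) (hf : Cfsg.Geo.IsSymplecticForm f)
    (hΩ : 2 ∣ ((Cfsg.Geo.similarityGroup f).comap (Matrix.SpecialLinearGroup.toGL : Matrix.SpecialLinearGroup (Fin n) F →* GL (Fin n) F)).index) :
    (∀ x : Matrix.SpecialLinearGroup (Fin n) F,
      (∃ z : F, ((x ^ 2 : Matrix.SpecialLinearGroup (Fin n) F) : Matrix (Fin n) (Fin n) F) = z • (1 : Matrix (Fin n) (Fin n) F)) →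
      (∀ z : F, (x : Matrix (Fin n) (Fin n) F) ≠ z • (1 : Matrix (Fin n) (Fin n) F)) →
      ∃ P : Matrix.SpecialLinearGroup (Fin n) F, P⁻¹ * x * P ∈ ((Cfsg.Geo.similarityGroup f).comap (Matrix.SpecialLinearGroup.toGL : Matrix.SpecialLinearGroup (Fin n) F →* GL (Fin n) F))) ↔
    padicValNat 2 (q - 1) ≤ padicValNat 2 n := by
  classical
  subst hq
  by_cases h2 : (2 : F) = 0
  · have hp : p = 2 := by
      have h := (CharP.cast_eq_zero_iff F p 2).1 (by exact_mod_cast h2)
      exact (Nat.prime_dvd_prime_iff_eq Fact.out Nat.prime_two).1 h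
    have h0 : padicValNat 2 (Fintype.card F - 1) = 0 := by
      refine padicValNat.eq_zero_of_not_dvd fun hd => ?_
      obtain ⟨⟨e, he⟩, -, hcard⟩ := FiniteField.card F p
      subst hp
      have h3 : 2 ∣ Fintype.card F := hcard ▸ dvd_pow_self 2 he.ne'
      have := Fintype.one_lt_card (α := F)
      omega
    refine iff_of_true (fun x ⟨z, hz⟩ _ => of_planes (by omega) hf x ?_) (by omega)
    subst hp
    set y := Matrix.toLin' (x : Matrix (Fin n) (Fin n) F) with hy
    rw [Matrix.SpecialLinearGroup.coe_pow] at hz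
    have hyy : ∀ v, y (y v) = z • v := fun v => by
      rw [hy, Matrix.toLin'_apply, Matrix.toLin'_apply, Matrix.mulVec_mulVec, ← pow_two, hz, Matrix.smul_mulVec,
        Matrix.one_mulVec]
    obtain ⟨a, rfl⟩ := FiniteField.isSquare_of_char_two (ringChar.eq F 2) z
    have ha : a ≠ 0 := fun h => by
      have hd := congrArg Matrix.det hz
      have : Nonempty (Fin n) := ⟨⟨0, by omega⟩⟩
      rw [h, mul_zero, zero_smul, Matrix.det_zero, Matrix.det_pow, x.2, one_pow] at hd
      exact one_ne_zero hd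
    exact planes_of_two h2 he ha hyy
  constructor
  · intro h
    by_contra hne
    obtain ⟨a, ha, han⟩ := exists_pow_eq_neg_one h2 (by omega) (not_le.1 hne)
    obtain ⟨x, hx1, hx2, hx3⟩ := no_planes hf hn h2 ha han
    obtain ⟨P, hP⟩ := h x hx1 hx2
    exact hx3 P hP
  · rintro hle x ⟨z, hz⟩ -
    refine of_planes (by omega) hf x ?_
    set y := Matrix.toLin' (x : Matrix (Fin n) (Fin n) F) with hy
    rw [Matrix.SpecialLinearGroup.coe_pow] at hz
    have hyy : ∀ v, y (y v) = z • v := fun v => by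
      rw [hy, Matrix.toLin'_apply, Matrix.toLin'_apply, Matrix.mulVec_mulVec, ← pow_two, hz, Matrix.smul_mulVec,
        Matrix.one_mulVec]
    by_cases hsq : IsSquare z
    · obtain ⟨a, rfl⟩ := hsq
      have ha : a ≠ 0 := fun h => by
        have hd := congrArg Matrix.det hz
        have : Nonempty (Fin n) := ⟨⟨0, by omega⟩⟩
        rw [h, mul_zero, zero_smul, Matrix.det_zero, Matrix.det_pow, x.2, one_pow] at hd
        exact one_ne_zero hd
      refine planes_of_square h2 he ha hyy (by rw [hy, LinearMap.det_toLin']; exact x.2) fun han => ?_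
      have hu : Units.mk0 a ha ^ n = -1 := Units.ext (by simpa using han)
      have h1 : orderOf (Units.mk0 a ha) ∣ Fintype.card F - 1 := by
        rw [← Nat.card_eq_fintype_card, ← Nat.card_units]; exact orderOf_dvd_natCard _
      have h3 : ¬ orderOf (Units.mk0 a ha) ∣ n := fun h => by
        rw [orderOf_dvd_iff_pow_eq_one, hu] at h
        have h4 := congrArg Units.val h
        rw [Units.val_neg, Units.val_one, neg_eq_iff_add_eq_zero, one_add_one_eq_two] at h4
        exact h2 h4
      have h4 : orderOf (Units.mk0 a ha) ∣ n * 2 := by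
        rw [orderOf_dvd_iff_pow_eq_one, pow_mul, hu, neg_one_sq]
      set o := orderOf (Units.mk0 a ha) with ho
      have ho0 : o ≠ 0 := (orderOf_pos _).ne'
      -- the 2-part of `o` is twice that of `n`
      have h5 : padicValNat 2 n < padicValNat 2 o := by
        by_contra hle'
        apply h3
        obtain ⟨j, hj⟩ := pow_padicValNat_dvd (p := 2) (n := o)
        have hjodd : ¬ 2 ∣ j := fun hd => pow_succ_padicValNat_not_dvd (p := 2) ho0 (by
          have h6 := Nat.mul_dvd_mul_left (2 ^ padicValNat 2 o) hd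
          rwa [← pow_succ, ← hj] at h6)
        rw [hj]
        refine Nat.Coprime.mul_dvd_of_dvd_of_dvd (Nat.Coprime.pow_left _ ((Nat.Prime.coprime_iff_not_dvd Nat.prime_two).2 hjodd)) ?_ ?_
        · exact (padicValNat_dvd_iff_le (by omega)).2 (not_lt.1 hle')
        · exact (Nat.Coprime.dvd_of_dvd_mul_right ((Nat.Prime.coprime_iff_not_dvd Nat.prime_two).2 hjodd).symm
            ((dvd_mul_left j _).trans (hj ▸ h4)))
      have h6 : padicValNat 2 o ≤ padicValNat 2 (Fintype.card F - 1) :=
        (padicValNat_dvd_iff_le (by have := Fintype.one_lt_card (α := F); omega)).1 (pow_padicValNat_dvd.trans h1)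
      omega
    · exact planes_of_nonsquare he hyy hsq


end Cfsg.Agent.S5967
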