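import Cfsg.Statements.S5968
import Cfsg.Agent.Lib.MaxSub.SympSimilarity
import Cfsg.Agent.Lib.MaxSub.PrimeElemFlags
import Mathlib

set_option autoImplicit false
set_option maxHeartbeats 1000000
open scoped MatrixGroups
open Cfsg

namespace Cfsg.Agent.S5968

open Module Polynomial Cfsg.Agent.Lib.MaxSub

section

variable {F V : Type*} [Field F] [AddCommGroup V] [Module F V] {B : LinearMap.BilinForm F V} {y : End F V} {μ : F}

theorem mult_pow {r : ℕ} (hy : y ^ r = 1) (hB : ∀ u v, B (y u) (y v) = μ * B u v)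
    (hne : ∃ u v, B u v ≠ 0) : μ ^ r = 1 := by
  have h : ∀ (k : ℕ) u v, B ((y ^ k) u) ((y ^ k) v) = μ ^ k * B u v := by
    intro k
    induction k with
    | zero => intro u v; simp
    | succ k ih => intro u v; rw [pow_succ', End.mul_apply, End.mul_apply, hB, ih, pow_succ']; ring
  obtain ⟨u, v, huv⟩ := hne
  have h1 := h r u v
  rw [hy, End.one_apply, End.one_apply] at h1
  exact mul_right_cancel₀ huv (by rw [one_mul]; exact h1.symm)

theorem intertwine {W : Type*} [AddCommGroup W] [Module F W] {A : End F W} {f : W →ₗ[F] V}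
    (h : ∀ w, y (f w) = f (A w)) (g : F[X]) (w : W) : aeval y g (f w) = f (aeval A g w) := by
  induction g using Polynomial.induction_on generalizing w with
  | C a => rw [aeval_C, aeval_C]; exact (map_smul f a w).symm
  | add g g' hg hg' => rw [map_add, map_add, LinearMap.add_apply, LinearMap.add_apply, map_add, hg, hg']
  | monomial k a ih =>
    rw [pow_succ, ← mul_assoc, map_mul, map_mul _ _ Polynomial.X, aeval_X, aeval_X, End.mul_apply, End.mul_apply, h, ih]

theorem adjoint {r : ℕ} (hr : 0 < r) (hy : y ^ r = 1) (hB : ∀ u v, B (y u) (y v) = B u v) (g : F[X]) (u v : V) :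
    B (aeval y g u) v = B u (aeval (y ^ (r - 1)) g v) := by
  have h1 : ∀ u v, B (y u) v = B u ((y ^ (r - 1)) v) := fun u v => by
    rw [← hB u ((y ^ (r - 1)) v), ← End.mul_apply, ← pow_succ', Nat.sub_add_cancel hr, hy, End.one_apply]
  induction g using Polynomial.induction_on generalizing u v with
  | C a => rw [aeval_C, aeval_C]; simp
  | add g g' hg hg' => simp [map_add, LinearMap.add_apply, hg, hg']
  | monomial k a ih =>
    have e : a • (1 : End F V) * y ^ k * y = y * (a • (1 : End F V) * y ^ k) := by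
      rw [smul_mul_assoc, one_mul, smul_mul_assoc, mul_smul_comm, ← pow_succ, ← pow_succ']
    rw [pow_succ, ← mul_assoc, map_mul, map_mul _ _ Polynomial.X, aeval_X, aeval_X, End.mul_apply, End.mul_apply, ih, h1,
      ← End.mul_apply, ← End.mul_apply]
    congr 2
    have := congrArg (aeval (y ^ (r - 1))) (mul_comm (C a * X ^ k) Polynomial.X)
    rw [map_mul, map_mul _ Polynomial.X, aeval_X] at this
    exact this.symm

end

/-- No form: unipotent case. -/
theorem unipotent_case {F : Type*} [Field F] [Fintype F] {p : ℕ} [Fact p.Prime] [CharP F p] (hp2 : p ≠ 2)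
    (n : ℕ) (hn : 4 ≤ n) :
    ∃ y : End F (Fin n → F), y ^ p = 1 ∧ LinearMap.det y = 1 ∧ ∀ (B : LinearMap.BilinForm F (Fin n → F)) (μ : F),
      (∀ v, B v v = 0) → (∀ u, (∀ v, B u v = 0) → u = 0) → (∀ u v, B (y u) (y v) = μ * B u v) → False := by
  have hpp : p.Prime := Fact.out
  let a0 : Fin n := ⟨0, by omega⟩
  let a1 : Fin n := ⟨1, by omega⟩
  let a2 : Fin n := ⟨2, by omega⟩
  let N : End F (Fin n → F) := (LinearMap.single F (fun _ : Fin n => F) a0).comp (LinearMap.proj a1) +
    (LinearMap.single F (fun _ : Fin n => F) a1).comp (LinearMap.proj a2)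
  have hN : ∀ v, N v = Pi.single a0 (v a1) + Pi.single a1 (v a2) := fun v => rfl
  have h01 : a0 ≠ a1 := by simp [a0, a1, Fin.ext_iff]
  have h02 : a0 ≠ a2 := by simp [a0, a2, Fin.ext_iff]
  have h12 : a1 ≠ a2 := by simp [a1, a2, Fin.ext_iff]
  have hN2 : ∀ v, N (N v) = Pi.single a0 (v a2) := fun v => by
    rw [hN (N v), hN v]
    simp [Pi.single_apply, h01, h02, h12, h01.symm, h02.symm, h12.symm]
  have hN3 : N ^ 3 = 0 := by
    apply LinearMap.ext
    intro v
    rw [pow_succ, pow_two, End.mul_apply, End.mul_apply, hN2, hN]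
    simp [Pi.single_apply, h02.symm, h12.symm]
  have hp3 : 3 ≤ p := by have := hpp.two_le; omega
  have hsub : ((1 + N) - 1) ^ p = (1 + N) ^ p - 1 := by
    have h := congrArg (Polynomial.aeval (1 + N)) (sub_pow_char (Polynomial.X : F[X]) 1)
    simpa using h
  have hyp : (1 + N) ^ p = 1 := by
    rw [add_sub_cancel_left, pow_eq_zero_of_le hp3 hN3] at hsub
    exact sub_eq_zero.1 hsub.symm
  refine ⟨1 + N, hyp, ?_, fun B μ halt hnd hB => ?_⟩
  · have h1 : LinearMap.det (1 + N) ^ p = 1 := by rw [← map_pow, hyp, map_one]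
    have h2 : (LinearMap.det (1 + N) - 1) ^ p = 0 := by rw [sub_pow_char, h1, one_pow, sub_self]
    exact sub_eq_zero.1 ((pow_eq_zero_iff hpp.ne_zero).1 h2)
  have hex : ∃ u v, B u v ≠ 0 := by
    refine ⟨Pi.single a0 1, ?_⟩
    by_contra hne
    push Not at hne
    have := congrFun (hnd _ hne) a0
    simp at this
  have hμ : μ = 1 := by
    have h1 := mult_pow hyp hB hex
    have h2 : (μ - 1) ^ p = 0 := by rw [sub_pow_char, h1, one_pow, sub_self]
    exact sub_eq_zero.1 ((pow_eq_zero_iff hpp.ne_zero).1 h2)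
  have hiso : ∀ u w, B (N u) w + B u (N w) + B (N u) (N w) = 0 := fun u w => by
    have h := hB u w
    simp only [hμ, one_mul, LinearMap.add_apply, End.one_apply, map_add] at h
    linear_combination h
  have hN3' : ∀ v, N (N (N v)) = 0 := fun v => by
    have := LinearMap.congr_fun hN3 v
    rwa [pow_succ, pow_two, End.mul_apply, End.mul_apply] at this
  have hT : ∀ u, B u (N (N u)) = 0 := fun u => by
    have e1 := hiso u (N u)
    have e2 := hiso u (N (N u))
    rw [hN3', map_zero, map_zero, add_zero, add_zero] at e2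
    rw [halt, e2, zero_add, add_zero] at e1
    exact e1
  have hsmul : ∀ u : Fin n → F, B u (N (N u)) = u a2 * B u (Pi.single a0 1) := fun u => by
    rw [hN2, ← smul_eq_mul, ← map_smul, ← Pi.single_smul, smul_eq_mul, mul_one]
  have key : ∀ u : Fin n → F, u a2 ≠ 0 → B u (Pi.single a0 1) = 0 := fun u hu => by
    have := hT u
    rw [hsmul] at this
    exact (mul_eq_zero.1 this).resolve_left hu
  have hall : ∀ u : Fin n → F, B u (Pi.single a0 1) = 0 := by
    intro u
    by_cases hu : u a2 = 0
    · have h2 := key (Pi.single a2 1) (by simp)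
      have h3 := key (u + Pi.single a2 1) (by simp [hu])
      rw [map_add, LinearMap.add_apply, h2, add_zero] at h3
      exact h3
    · exact key u hu
  have hall' : ∀ v, B (Pi.single a0 1) v = 0 := fun v => by
    have h := halt (v + Pi.single a0 1)
    simpa [map_add, halt, hall] using h
  have := congrFun (hnd _ hall') a0
  simp at this

/-- No form: split case. -/
theorem split_case {F : Type*} [Field F] [Fintype F] (r : ℕ) [Fact r.Prime] (hr2 : r ≠ 2) (hrq : r ∣ Fintype.card F - 1)
    (n : ℕ) (hn : 4 ≤ n) (he : Even n) (hgap : ¬ (n = 6 ∧ r = 3)) :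
    ∃ y : End F (Fin n → F), y ^ r = 1 ∧ LinearMap.det y = 1 ∧ ∀ (B : LinearMap.BilinForm F (Fin n → F)) (μ : F),
      (∀ v, B v v = 0) → (∀ u, (∀ v, B u v = 0) → u = 0) → (∀ u v, B (y u) (y v) = μ * B u v) → False := by
  classical
  have hr : r.Prime := Fact.out
  obtain ⟨ζu, hζu⟩ := exists_prime_orderOf_dvd_card' (G := Fˣ) r
    (by rw [Nat.card_units, Nat.card_eq_fintype_card]; exact hrq)
  set ζ : F := (ζu : F) with hζdef
  have hζ : orderOf ζ = r := by rw [hζdef, orderOf_units, hζu]
  have hζ0 : ζ ≠ 0 := ζu.ne_zero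
  have hζr : ζ ^ r = 1 := hζ ▸ pow_orderOf_eq_one ζ
  have hpne : ∀ k, 0 < k → (∀ s, s.Prime → s ∣ k → s ≠ r) → ζ ^ k ≠ 1 := fun k _ hk h => by
    have h1 := orderOf_dvd_of_pow_eq_one h
    rw [hζ] at h1
    exact hk r hr h1 rfl
  let d : Fin n → F := fun a => if (a : ℕ) < 2 then ζ else if (a : ℕ) = 2 then (ζ * ζ)⁻¹ else 1
  let y : End F (Fin n → F) := Matrix.toLin' (Matrix.diagonal d)
  have hy : ∀ v a, y v a = d a * v a := fun v a => by simp [y, Matrix.mulVec_diagonal]
  have hpow : ∀ (k : ℕ) v a, (y ^ k) v a = d a ^ k * v a := by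
    intro k
    induction k with
    | zero => intro v a; simp
    | succ k ih => intro v a; rw [pow_succ', End.mul_apply, hy, ih, pow_succ']; ring
  refine ⟨y, ?_, ?_, fun B μ halt hnd hB => ?_⟩
  · apply LinearMap.ext
    intro v
    funext a
    rw [hpow, End.one_apply]
    have : d a ^ r = 1 := by
      simp only [d]
      split_ifs
      · exact hζr
      · rw [inv_pow, mul_pow, hζr, one_mul, inv_one]
      · exact one_pow r
    rw [this, one_mul]
  · show LinearMap.det (Matrix.toLin' (Matrix.diagonal d)) = 1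
    rw [LinearMap.det_toLin', Matrix.det_diagonal]
    obtain ⟨k, rfl⟩ : ∃ k, n = k + 1 + 1 + 1 := ⟨n - 3, by omega⟩
    rw [Fin.prod_univ_succ, Fin.prod_univ_succ, Fin.prod_univ_succ]
    have h2 : 2 % (k + 1 + 1 + 1) = 2 := Nat.mod_eq_of_lt (by omega)
    simp [d, h2]
    field_simp
  have horth : ∀ a b, B (Pi.single a 1) (Pi.single b 1) ≠ 0 → d a * d b = μ := fun a b h => by
    have e : ∀ c, y (Pi.single c 1) = d c • Pi.single c 1 := fun c => by
      funext x
      rw [hy, Pi.smul_apply, smul_eq_mul]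
      by_cases hx : x = c
      · subst hx; simp
      · simp [Pi.single_eq_of_ne hx]
    have h1 := hB (Pi.single a 1) (Pi.single b 1)
    rw [e, e, map_smul, smul_eq_mul, map_smul, LinearMap.smul_apply, smul_eq_mul, ← mul_assoc, mul_comm (d b)] at h1
    exact mul_right_cancel₀ h h1
  let cnt : F → ℕ := fun α => (Finset.univ.filter fun a => d a = α).card
  have hle : ∀ α, cnt α ≤ (Finset.univ.filter fun b => α * d b = μ).card := by
    intro α
    let S := Finset.univ.filter fun a => d a = α
    let S' := Finset.univ.filter fun b => α * d b = μ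
    let Φ : (S → F) →ₗ[F] (S' → F) :=
      LinearMap.pi fun b => (B.flip (Pi.single b.1 1)).comp (∑ a : S, (LinearMap.single F (fun _ : Fin n => F) a.1).comp (LinearMap.proj a))
    have hΦ : ∀ x b, Φ x b = B (∑ a : S, Pi.single a.1 (x a)) (Pi.single b.1 1) := fun x b => by
      simp [Φ, LinearMap.sum_apply]
    have hinj : Function.Injective Φ := by
      refine (injective_iff_map_eq_zero Φ).2 fun x hx => ?_
      set u : Fin n → F := ∑ a : S, Pi.single a.1 (x a) with hu
      have hu0 : u = 0 := by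
        refine hnd u fun v => ?_
        rw [← (Pi.basisFun F (Fin n)).sum_repr v, map_sum]
        refine Finset.sum_eq_zero fun b _ => ?_
        rw [map_smul, Pi.basisFun_apply]
        by_cases hb : α * d b = μ
        · have h1 := congrFun hx ⟨b, Finset.mem_filter.2 ⟨Finset.mem_univ b, hb⟩⟩
          rw [hΦ] at h1
          rw [hu, h1, Pi.zero_apply, smul_zero]
        · rw [hu, map_sum, LinearMap.sum_apply, Finset.sum_eq_zero (fun a _ => ?_), smul_zero]
          have h1 : (Pi.single a.1 (x a) : Fin n → F) = x a • Pi.single a.1 1 := by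
            rw [← Pi.single_smul, smul_eq_mul, mul_one]
          rw [h1, map_smul, LinearMap.smul_apply, smul_eq_mul, mul_eq_zero]
          right
          by_contra hne
          exact hb ((Finset.mem_filter.1 a.2).2 ▸ horth _ _ hne)
      funext a
      have h2 := congrFun hu0 a.1
      rw [hu, Finset.sum_apply, Finset.sum_eq_single a] at h2
      · simpa using h2
      · intro c _ hc; rw [Pi.single_eq_of_ne]; exact fun h => hc (Subtype.ext h).symm
      · simp
    have := LinearMap.finrank_le_finrank_of_injective hinj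
    rwa [Module.finrank_fintype_fun_eq_card, Module.finrank_fintype_fun_eq_card, Fintype.card_coe, Fintype.card_coe] at this
  have hcnt : ∀ α β, α * β = μ → cnt α ≤ cnt β := fun α β h => by
    refine (hle α).trans_eq (congrArg Finset.card (Finset.filter_congr fun b _ => ?_))
    refine ⟨fun hb => mul_left_cancel₀ ?_ (hb.trans h.symm), fun hb => by rw [hb, h]⟩
    intro h0
    have h2 := horth
    obtain ⟨v, hv⟩ : ∃ v, B (Pi.single (⟨0, by omega⟩ : Fin n) 1) v ≠ 0 := by
      by_contra hne
      push Not at hne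
      have := congrFun (hnd _ hne) ⟨0, by omega⟩
      simp at this
    have hμ0 : μ ≠ 0 := fun hm => by
      have hsurj : Function.Surjective y := fun w => ⟨fun a => (d a)⁻¹ * w a, funext fun a => by
        rw [hy, mul_inv_cancel_left₀]
        simp only [d]
        split_ifs <;> simp [hζ0]⟩
      obtain ⟨u', hu'⟩ := hsurj (Pi.single (⟨0, by omega⟩ : Fin n) 1)
      obtain ⟨v', hv'⟩ := hsurj v
      exact hv (by rw [← hu', ← hv', hB, hm, zero_mul])
    exact hμ0 (by rw [← h, h0, zero_mul])
  have hmem : ∀ α, 0 < cnt α → α = ζ ∨ α = (ζ * ζ)⁻¹ ∨ α = 1 := fun α h => by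
    obtain ⟨a, ha⟩ := Finset.card_pos.1 h
    rw [← (Finset.mem_filter.1 ha).2]
    simp only [d]
    split_ifs <;> simp
  have hz1 : ζ ≠ 1 := fun h => hr.one_lt.ne' (by rw [← hζ, h, orderOf_one])
  have hz2 : ζ * ζ ≠ 1 := fun h => hr2 (((Nat.prime_dvd_prime_iff_eq hr Nat.prime_two).1
    (hζ ▸ orderOf_dvd_of_pow_eq_one (by rw [pow_two]; exact h))))
  have hz3 : (ζ * ζ)⁻¹ ≠ 1 := fun h => hz2 (by rwa [inv_eq_one] at h)
  have hzr : (ζ * ζ)⁻¹ = ζ → r = 3 := fun h => by
    have h3 : ζ ^ 3 = 1 := by
      have := mul_inv_cancel₀ (mul_ne_zero hζ0 hζ0)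
      rw [h] at this
      rw [← this]; ring
    exact (Nat.prime_dvd_prime_iff_eq hr Nat.prime_three).1 (hζ ▸ orderOf_dvd_of_pow_eq_one h3)
  have cardlt : ∀ k, k ≤ n → (Finset.univ.filter fun a : Fin n => (a : ℕ) < k).card = k := fun k hk => by
    rw [← Finset.card_map Fin.valEmbedding]
    convert Finset.card_range k
    ext x
    simp only [Finset.mem_map, Finset.mem_filter, Finset.mem_univ, true_and, Fin.valEmbedding_apply, Finset.mem_range]
    exact ⟨fun ⟨a, ha, e⟩ => e ▸ ha, fun hx => ⟨⟨x, by omega⟩, hx, rfl⟩⟩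
  have hdlow : ∀ a : Fin n, d a = 1 ↔ 3 ≤ (a : ℕ) := fun a => by
    simp only [d]
    split_ifs with h1 h2
    · exact iff_of_false hz1 (by omega)
    · exact iff_of_false hz3 (by omega)
    · exact iff_of_true rfl (by omega)
  have hc1 : cnt 1 = n - 3 := by
    have h := Finset.card_filter_add_card_filter_not (s := (Finset.univ : Finset (Fin n))) (fun a : Fin n => (a : ℕ) < 3)
    rw [cardlt 3 (by omega), Finset.card_univ, Fintype.card_fin] at h
    have e : cnt 1 = (Finset.univ.filter fun a : Fin n => ¬ (a : ℕ) < 3).card := by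
      simp only [cnt]
      congr 1
      exact Finset.filter_congr fun a _ => by rw [hdlow, not_lt]
    omega
  have hcz : 2 ≤ cnt ζ := by
    rw [← cardlt 2 (by omega)]
    exact Finset.card_le_card fun a ha => by
      simp only [Finset.mem_filter, Finset.mem_univ, true_and, d] at ha ⊢
      rw [if_pos ha]
  have hcz3 : cnt ζ ≤ 3 := by
    refine le_trans (Finset.card_le_card fun a ha => ?_) (cardlt 3 (by omega)).le
    simp only [Finset.mem_filter, Finset.mem_univ, true_and] at ha ⊢
    by_contra hne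
    exact hz1 (ha.symm.trans ((hdlow a).2 (not_lt.1 hne)))
  have hcz2 : r ≠ 3 → cnt ζ ≤ 2 ∧ cnt (ζ * ζ)⁻¹ ≤ 1 := fun h3 => by
    constructor
    · refine le_trans (Finset.card_le_card fun a ha => ?_) (cardlt 2 (by omega)).le
      simp only [Finset.mem_filter, Finset.mem_univ, true_and, d] at ha ⊢
      split_ifs at ha with h1 h2
      · exact h1
      · exact absurd (hzr ha) h3
      · exact absurd ha.symm hz1
    · refine Finset.card_le_one.2 fun a ha b hb => ?_
      simp only [Finset.mem_filter, Finset.mem_univ, true_and, d] at ha hb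
      have key : ∀ c : Fin n, (if (c : ℕ) < 2 then ζ else if (c : ℕ) = 2 then (ζ * ζ)⁻¹ else (1 : F)) = (ζ * ζ)⁻¹ → (c : ℕ) = 2 := fun c hc => by
        split_ifs at hc with h1 h2
        · exact absurd (hzr hc.symm) h3
        · exact h2
        · exact absurd hc.symm hz3
      exact Fin.ext ((key a ha).trans (key b hb).symm)
  set β := μ * ζ⁻¹ with hβ
  have hzb : ζ * β = μ := by rw [hβ, mul_comm μ, mul_inv_cancel_left₀ hζ0]
  have h1 := hcnt ζ β hzb
  have h2 := hcnt β ζ (mul_comm ζ β ▸ hzb)
  rcases hmem β (by omega) with hb | hb | hb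
  · -- the multiplier is ζ²
    rw [hb] at hzb
    have h3 := hcnt 1 μ (one_mul μ)
    rcases hmem μ (by omega) with hm | hm | hm
    · exact hz1 (mul_left_cancel₀ hζ0 (by rw [mul_one, hzb, hm]))
    · have h4 : ζ ^ 4 = 1 := by
        have := mul_inv_cancel₀ (mul_ne_zero hζ0 hζ0)
        rw [← hm, ← hzb] at this
        rw [← this]; ring
      exact hpne 4 (by norm_num) (fun s hs hd => by
        have : s = 2 := (Nat.prime_dvd_prime_iff_eq hs Nat.prime_two).1 (hs.dvd_of_dvd_pow (show s ∣ 2 ^ 2 from hd))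
        omega) h4
    · exact hz2 (hzb.trans hm)
  · by_cases h3 : r = 3
    · have : (ζ * ζ)⁻¹ = ζ := by
        refine inv_eq_of_mul_eq_one_right ?_
        rw [← hζr, h3]; ring
      rw [hb, this] at h1 h2 hzb
      have h3' := hcnt 1 μ (one_mul μ)
      rcases hmem μ (by omega) with hm | hm | hm
      · exact hz1 (mul_left_cancel₀ hζ0 (by rw [mul_one, hzb, hm]))
      · exact hz1 (mul_left_cancel₀ hζ0 (by rw [mul_one, hzb, hm, this]))
      · exact hz2 (hzb.trans hm)
    · have := (hcz2 h3).2
      rw [hb] at h1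
      omega
  · rw [hb] at h1 h2
    obtain ⟨k, hk⟩ := he
    by_cases h3 : r = 3
    · have : n = 6 := by omega
      exact hgap ⟨this, h3⟩
    · have := (hcz2 h3).1
      omega

/-- No form: non-split case. -/
theorem nonsplit_case {F : Type*} [Field F] [Fintype F] {p : ℕ} [Fact p.Prime] [CharP F p] (r : ℕ) [Fact r.Prime]
    (hr2 : r ≠ 2) (hrp : r ≠ p) (n : ℕ) (hi : Odd (orderOf (Fintype.card F : ZMod r))) (hi1 : orderOf (Fintype.card F : ZMod r) ≠ 1)
    (hin : orderOf (Fintype.card F : ZMod r) ≤ n) :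
    ∃ y : End F (Fin n → F), y ^ r = 1 ∧ LinearMap.det y = 1 ∧ ∀ (B : LinearMap.BilinForm F (Fin n → F)) (μ : F),
      (∀ v, B v v = 0) → (∀ u, (∀ v, B u v = 0) → u = 0) → (∀ u v, B (y u) (y v) = μ * B u v) → False := by
  classical
  have hr : r.Prime := Fact.out
  set i := orderOf (Fintype.card F : ZMod r) with hidef
  obtain ⟨g, hg, hgd⟩ := WfDvdMonoid.exists_irreducible_factor
    (not_isUnit_of_natDegree_pos (cyclotomic r F) (by rw [natDegree_cyclotomic]; exact Nat.totient_pos.2 hr.pos))
    (cyclotomic_ne_zero r F)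
  have : Fact (Irreducible g) := ⟨hg⟩
  have hgi : g.natDegree = i := PrimeElemFlags.deg_eq rfl hrp g hg hgd
  have : FiniteDimensional F (AdjoinRoot g) := (AdjoinRoot.powerBasis hg.ne_zero).finite
  have hfr : finrank F (AdjoinRoot g) = i := by
    rw [(AdjoinRoot.powerBasis hg.ne_zero).finrank, AdjoinRoot.powerBasis_dim, hgi]
  let α : AdjoinRoot g := AdjoinRoot.root g
  have hgα : aeval α g = 0 := by rw [AdjoinRoot.aeval_eq, AdjoinRoot.mk_self]
  have hcyc : aeval α (cyclotomic r F) = 0 := by
    obtain ⟨Q, hQ⟩ := hgd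
    rw [hQ, map_mul, hgα, zero_mul]
  have hα : α ^ r = 1 := by
    have h := congrArg (aeval α) (cyclotomic_prime_mul_X_sub_one F r)
    rw [map_mul, hcyc, zero_mul, map_sub, map_pow, aeval_X, map_one] at h
    exact sub_eq_zero.1 h.symm
  have hα1 : α ≠ 1 := by
    intro h
    rw [h, cyclotomic_prime, map_sum] at hcyc
    simp at hcyc
    exact PrimeElemFlags.cast_ne_zero hrp ((map_eq_zero (algebraMap F (AdjoinRoot g))).1 (by rw [map_natCast]; exact hcyc))
  let W := AdjoinRoot g
  let T := Fin (n - i) → F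
  let y : End F (W × T) := (Algebra.lsmul F F W α).prodMap (1 : End F T)
  have hy : y ^ r = 1 := by
    rw [PrimeElemFlags.prodMap_pow', ← map_pow, hα, map_one, one_pow, LinearMap.prodMap_one]
  have hco : (Nat.card Fˣ).Coprime r := by
    rw [PrimeElemFlags.card_sub_one rfl]
    exact ((Nat.Prime.coprime_iff_not_dvd hr).2 fun h => hi1 ((PrimeElemFlags.order_eq_one_iff rfl).2 h)).symm
  have hroot : ∀ c : F, c ^ r = 1 → c = 1 := fun c hc => by
    have h0 : c ≠ 0 := fun h => by rw [h, zero_pow hr.ne_zero] at hc; exact zero_ne_one hc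
    have h2 : Units.mk0 _ h0 = 1 := (powCoprime hco).injective (by ext; simp [hc])
    simpa using congrArg Units.val h2
  let e : (W × T) ≃ₗ[F] (Fin n → F) := LinearEquiv.ofFinrankEq _ _ (by
    rw [Module.finrank_prod, hfr, Module.finrank_fin_fun, Module.finrank_fin_fun]; omega)
  refine ⟨e.conj y, ?_, ?_, fun B μ halt hnd hB => ?_⟩
  · rw [PrimeElemFlags.conj_pow, hy, End.one_eq_id, LinearEquiv.conj_id, ← End.one_eq_id]
  · refine hroot _ ?_
    rw [← map_pow, PrimeElemFlags.conj_pow, hy, End.one_eq_id, LinearEquiv.conj_id, ← End.one_eq_id, map_one]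
  let B' : LinearMap.BilinForm F (W × T) := B.compl₁₂ e.toLinearMap e.toLinearMap
  have hnd' : ∀ u, (∀ v, B' u v = 0) → u = 0 := fun u h => by
    refine e.injective ((hnd (e u) fun v => ?_).trans (map_zero e).symm)
    obtain ⟨v, rfl⟩ := e.surjective v
    exact h v
  have hB' : ∀ u v, B' (y u) (y v) = μ * B' u v := fun u v => by
    have := hB (e u) (e v)
    simp only [LinearEquiv.conj_apply, LinearMap.comp_apply, LinearEquiv.coe_coe, LinearEquiv.symm_apply_apply] at this
    exact this
  have hu0 : ((1 : W), (0 : T)) ≠ 0 := fun h => one_ne_zero (α := W) (congrArg Prod.fst h)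
  have hμ : μ = 1 := by
    refine hroot μ (mult_pow hy hB' ?_)
    by_contra hne
    push Not at hne
    exact hu0 (hnd' _ (hne _))
  subst hμ
  have hinl : ∀ w, y (LinearMap.inl F W T w) = LinearMap.inl F W T (Algebra.lsmul F F W α w) := fun w =>
    Prod.ext rfl rfl
  have hinr : ∀ t, y (LinearMap.inr F W T t) = LinearMap.inr F W T ((1 : End F T) t) := fun t =>
    Prod.ext (map_zero (Algebra.lsmul F F W α)) rfl
  have hker : ∀ w, aeval y g (LinearMap.inl F W T w) = 0 := fun w => by
    rw [intertwine hinl, aeval_algHom_apply, hgα, map_zero, LinearMap.zero_apply, map_zero]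
  set P : F[X] := g.comp (Polynomial.X ^ (r - 1)) with hP
  have hQ : aeval y ((Polynomial.X - C 1) * g) = 0 := by
    apply LinearMap.prod_ext
    · refine LinearMap.ext fun w => ?_
      rw [LinearMap.comp_apply, map_mul, End.mul_apply, hker, map_zero]; rfl
    · refine LinearMap.ext fun t => ?_
      rw [LinearMap.comp_apply, mul_comm, map_mul, End.mul_apply, intertwine hinr (Polynomial.X - C 1)]
      simp [show ((0 : W), (0 : T)) = 0 from rfl]
  have hPQ : IsCoprime P ((Polynomial.X - C 1) * g) := by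
    refine IsCoprime.mul_right ?_ ?_
    · refine ((irreducible_X_sub_C 1).coprime_iff_not_dvd.2 fun h => ?_).symm
      rw [dvd_iff_isRoot, IsRoot, hP, eval_comp, eval_pow, eval_X, one_pow] at h
      have hd : Polynomial.X - C 1 ∣ g := dvd_iff_isRoot.2 h
      have := natDegree_eq_of_degree_eq (degree_eq_degree_of_associated ((irreducible_X_sub_C 1).associated_of_dvd hg hd))
      rw [natDegree_X_sub_C, hgi] at this
      exact hi1 this.symm
    · refine (hg.coprime_iff_not_dvd.2 fun h => ?_).symm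
      have hroot' : aeval (α ^ (r - 1)) g = 0 := by
        obtain ⟨Q, hQ'⟩ := h
        have h1 := congrArg (aeval α) hQ'
        rw [map_mul, hgα, zero_mul, hP, aeval_comp, map_pow, aeval_X] at h1
        exact h1
      let σ : W →ₐ[F] W := AdjoinRoot.liftAlgHom g (Algebra.ofId F W) (α ^ (r - 1)) (by
        rw [← hroot', aeval_def]; rfl)
      have hσ : σ α = α ^ (r - 1) := AdjoinRoot.liftAlgHom_root _ _ _ _
      have : Finite W := Module.finite_of_finite F
      let σ' : W ≃ₐ[F] W := AlgEquiv.ofBijective σ (Finite.injective_iff_bijective.1 σ.toRingHom.injective)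
      have hσ2 : σ' ^ 2 = 1 := by
        apply AlgEquiv.coe_toAlgHom_injective
        apply AdjoinRoot.algHom_ext
        show σ (σ α) = α
        rw [hσ, map_pow, hσ, ← pow_mul]
        obtain ⟨k, hk⟩ : ∃ k, (r - 1) * (r - 1) = 1 + r * k := ⟨r - 2, by
          obtain ⟨j, hj⟩ : ∃ j, r = j + 2 := ⟨r - 2, by have := hr.two_le; omega⟩
          subst hj
          simp only [Nat.add_sub_cancel, show j + 2 - 1 = j + 1 by omega]
          ring⟩
        rw [hk, pow_add, pow_mul, hα, one_pow, mul_one, pow_one]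
      have hcard : Nat.card (W ≃ₐ[F] W) = i := by rw [IsGalois.card_aut_eq_finrank, hfr]
      have hσ1 : σ' = 1 := by
        have h1 := orderOf_dvd_of_pow_eq_one hσ2
        have h2 : orderOf σ' ∣ i := hcard ▸ orderOf_dvd_natCard σ'
        rw [← orderOf_eq_one_iff]
        have h3 : Nat.gcd 2 i = 1 := Nat.coprime_two_left.2 hi
        exact Nat.dvd_one.1 (h3 ▸ Nat.dvd_gcd h1 h2)
      have h4 : α ^ (r - 1) = α := by
        rw [← hσ]
        exact congrArg (fun s : W ≃ₐ[F] W => s α) hσ1
      have h5 : α ^ 2 = 1 := by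
        have : α ^ r = α ^ 2 := by
          rw [show r = r - 1 + 1 by have := hr.two_le; omega, pow_succ, h4, pow_two]
        rw [← this, hα]
      have h6 : orderOf α = r := orderOf_eq_prime hα hα1
      exact hr2 ((Nat.prime_dvd_prime_iff_eq hr Nat.prime_two).1 (h6 ▸ orderOf_dvd_of_pow_eq_one h5))
  obtain ⟨a, b, hab⟩ := hPQ
  refine hu0 (hnd' _ fun v => ?_)
  have hv : aeval y (P * a) v = v := by
    have h1 := congrArg (fun R : F[X] => aeval y R v) hab
    simp only [map_add, LinearMap.add_apply] at h1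
    rw [map_mul (aeval y) b, hQ, mul_zero, LinearMap.zero_apply, add_zero, mul_comm, map_one (aeval y), End.one_apply] at h1
    exact h1
  have e1 : B' (aeval y g ((1 : W), (0 : T))) (aeval y a v) = B' ((1 : W), (0 : T)) (aeval (y ^ (r - 1)) g (aeval y a v)) :=
    adjoint hr.pos hy (fun u v => by rw [hB', one_mul]) g _ _
  have h10 : aeval y g ((1 : W), (0 : T)) = 0 := hker 1
  rw [h10, map_zero, LinearMap.zero_apply] at e1
  rw [← hv, map_mul, End.mul_apply, hP, aeval_comp, map_pow, aeval_X]
  exact e1.symm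

/-- Derangements of odd prime order of PSL_n(q) on the cosets of a symplectic-type subgroup. Here `T = PSL_n(F)` for a field `F` with `q` elements, `n ≥ 4` even, `f` is a nondegenerate alternating form on `F^n`, and `H` is the subgroup of matrices of determinant 1 preserving `f` up to a scalar — a maximal subgroup of type Sp_n(q); Ω is the set of `T`-conjugates of `H` (cosets of `H`), so an element of `T` of prime order `r` (a matrix `x` of determinant 1 with `x^r` scalar, `x` not scalar) fixes a point of Ω when some conjugate of `x` by a matrix of determinant 1 preserves `f` up to a scalar. For every odd prime `r` dividing the index of `H`, with `(n, r) ≠ (6, 3)`, there is an element of `T` of order `r` with no conjugate in `H`. (For `n = 6`, `r = 3` this can fail: when `(q − 1)_3 = 3` every element of order 3 is conjugate into `H`.) -/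
theorem result {F : Type*} [Field F] [Fintype F] {p : ℕ} [Fact p.Prime] [CharP F p] {q : ℕ} (hq : Fintype.card F = q)
    (n : ℕ) (hn : 4 ≤ n) (he : Even n) (f : (Fin n → F) → (Fin n → F) → F) (hf : Cfsg.Geo.IsSymplecticForm f)
    (r : ℕ) [Fact r.Prime] (hr2 : r ≠ 2) (hgap : ¬ (n = 6 ∧ r = 3)) (hΩ : r ∣ ((Cfsg.Geo.similarityGroup f).comap (Matrix.SpecialLinearGroup.toGL : Matrix.SpecialLinearGroup (Fin n) F →* GL (Fin n) F)).index) :
    ∃ x : Matrix.SpecialLinearGroup (Fin n) F,
      (∃ z : F, ((x ^ r : Matrix.SpecialLinearGroup (Fin n) F) : Matrix (Fin n) (Fin n) F) = z • (1 : Matrix (Fin n) (Fin n) F)) ∧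
      (∀ z : F, (x : Matrix (Fin n) (Fin n) F) ≠ z • (1 : Matrix (Fin n) (Fin n) F)) ∧
      ∀ P : Matrix.SpecialLinearGroup (Fin n) F, P⁻¹ * x * P ∉ ((Cfsg.Geo.similarityGroup f).comap (Matrix.SpecialLinearGroup.toGL : Matrix.SpecialLinearGroup (Fin n) F →* GL (Fin n) F)) := by
  classical
  obtain ⟨y, hy, hdet, hbad⟩ : ∃ y : End F (Fin n → F), y ^ r = 1 ∧ LinearMap.det y = 1 ∧
      ∀ (B : LinearMap.BilinForm F (Fin n → F)) (μ : F), (∀ v, B v v = 0) → (∀ u, (∀ v, B u v = 0) → u = 0) →
        (∀ u v, B (y u) (y v) = μ * B u v) → False := by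
    by_cases hrp : r = p
    · subst hrp; exact unipotent_case hr2 n hn
    obtain ⟨hodd, hle⟩ := SympSimilarity.order_odd_of_dvd_index hf r hr2 hrp hΩ
    by_cases hi : orderOf (Fintype.card F : ZMod r) = 1
    · exact split_case r hr2 ((PrimeElemFlags.order_eq_one_iff rfl).1 hi) n hn he hgap
    · exact nonsplit_case (p := p) r hr2 hrp n hodd hi hle
  set X := LinearMap.toMatrix' y with hX
  have hXy : Matrix.toLin' X = y := Matrix.toLin'_toMatrix' y
  have hdetX : X.det = 1 := by rw [← LinearMap.det_toLin', hXy, hdet]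
  set x0 : Matrix.SpecialLinearGroup (Fin n) F := ⟨X, hdetX⟩ with hx0
  have key : ∀ P : Matrix.SpecialLinearGroup (Fin n) F, P⁻¹ * x0 * P ∉
      ((Cfsg.Geo.similarityGroup f).comap (Matrix.SpecialLinearGroup.toGL : Matrix.SpecialLinearGroup (Fin n) F →* GL (Fin n) F)) := by
    intro P hP
    obtain ⟨c, hc⟩ := hP
    let L := Matrix.toLin' ((P⁻¹ : Matrix.SpecialLinearGroup (Fin n) F) : Matrix (Fin n) (Fin n) F)
    let B : LinearMap.BilinForm F (Fin n → F) := (SympSimilarity.toB hf).compl₁₂ L L
    have hPP : ∀ u, ((P : Matrix.SpecialLinearGroup (Fin n) F) : Matrix (Fin n) (Fin n) F).mulVec (L u) = u := fun u => by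
      show _ = u
      rw [Matrix.toLin'_apply, Matrix.mulVec_mulVec, ← Matrix.SpecialLinearGroup.coe_mul, mul_inv_cancel,
        Matrix.SpecialLinearGroup.coe_one, Matrix.one_mulVec]
    refine hbad B c (fun v => hf.alternating _) (fun u hu => ?_) fun u v => ?_
    · have h0 : L u = 0 := SympSimilarity.toB_nondeg hf fun w => by
        have := hu (((P : Matrix.SpecialLinearGroup (Fin n) F) : Matrix (Fin n) (Fin n) F).mulVec w)
        have e : L (((P : Matrix.SpecialLinearGroup (Fin n) F) : Matrix (Fin n) (Fin n) F).mulVec w) = w := by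
          show Matrix.toLin' _ _ = w
          rw [Matrix.toLin'_apply, Matrix.mulVec_mulVec, ← Matrix.SpecialLinearGroup.coe_mul, inv_mul_cancel,
            Matrix.SpecialLinearGroup.coe_one, Matrix.one_mulVec]
        have h' : SympSimilarity.toB hf (L u) (L (((P : Matrix.SpecialLinearGroup (Fin n) F) : Matrix (Fin n) (Fin n) F).mulVec w)) = 0 := this
        rwa [e] at h'
      rw [← hPP u, h0, Matrix.mulVec_zero]
    · have e : ∀ w, L (y w) = ((Matrix.SpecialLinearGroup.toGL (P⁻¹ * x0 * P) : GL (Fin n) F) :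
          Matrix (Fin n) (Fin n) F).mulVec (L w) := fun w => by
        show Matrix.toLin' _ (y w) = (((P⁻¹ * x0 * P : Matrix.SpecialLinearGroup (Fin n) F)) : Matrix (Fin n) (Fin n) F).mulVec (L w)
        rw [Matrix.SpecialLinearGroup.coe_mul (P⁻¹ * x0) P, ← Matrix.mulVec_mulVec, hPP, Matrix.SpecialLinearGroup.coe_mul,
          ← Matrix.mulVec_mulVec, Matrix.toLin'_apply, ← hXy, Matrix.toLin'_apply]
      show SympSimilarity.toB hf (L (y u)) (L (y v)) = _
      rw [e, e]
      exact hc _ _
  refine ⟨x0, ⟨1, ?_⟩, fun z hz => key 1 ?_, key⟩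
  · rw [one_smul]
    refine (Matrix.SpecialLinearGroup.coe_pow x0 r).trans ?_
    apply Matrix.toLinAlgEquiv'.injective
    rw [map_pow, map_one]
    show (Matrix.toLin' X) ^ r = 1
    rw [hXy, hy]
  · rw [inv_one, one_mul, mul_one]
    have hXz : X = z • 1 := hz
    have hz0 : z ≠ 0 := fun h => by
      have : Nonempty (Fin n) := ⟨⟨0, by omega⟩⟩
      rw [hXz, h, zero_smul, Matrix.det_zero] at hdetX
      exact zero_ne_one hdetX
    refine ⟨Units.mk0 (z * z) (mul_ne_zero hz0 hz0), fun u v => ?_⟩
    show f (X.mulVec u) (X.mulVec v) = _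
    rw [hXz, Matrix.smul_mulVec, Matrix.one_mulVec, Matrix.smul_mulVec, Matrix.one_mulVec, hf.bilinear.smul_left,
      hf.bilinear.smul_right, Units.val_mk0, mul_assoc]


end Cfsg.Agent.S5968
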