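import Cfsg.Statements.S5969
import Cfsg.Agent.Lib.MaxSub.QuadField
import Cfsg.Agent.S5967
import Mathlib

set_option autoImplicit false
set_option maxHeartbeats 1000000
open scoped MatrixGroups
open Cfsg

namespace Cfsg.Agent.S5969

open Module Cfsg.Agent.Lib.MaxSub

variable {F : Type*} [Field F] {n : ℕ}

local notation "M" => Matrix (Fin n) (Fin n) F

theorem mem_normalizer {K : Subalgebra F M} {ω : M} (hmem : ∀ k, k ∈ K ↔ ∃ a b : F, k = a • 1 + b • ω)
    (g : Matrix.SpecialLinearGroup (Fin n) F) {e1 e2 : F} (he2 : e2 ≠ 0)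
    (h : (g : M) * ω = (e1 • 1 + e2 • ω) * (g : M)) :
    Matrix.SpecialLinearGroup.toGL g ∈ Cfsg.Geo.subalgebraNormalizer K := by
  intro k
  show k ∈ K ↔ (g : M) * k * ((g⁻¹ : Matrix.SpecialLinearGroup (Fin n) F) : M) ∈ K
  set g' : M := ((g⁻¹ : Matrix.SpecialLinearGroup (Fin n) F) : M)
  have h1 : (g : M) * g' = 1 := by
    rw [← Matrix.SpecialLinearGroup.coe_mul, mul_inv_cancel, Matrix.SpecialLinearGroup.coe_one]
  have h2 : g' * (g : M) = 1 := by
    rw [← Matrix.SpecialLinearGroup.coe_mul, inv_mul_cancel, Matrix.SpecialLinearGroup.coe_one]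
  have hconj : (g : M) * ω * g' = e1 • 1 + e2 • ω := by rw [h, mul_assoc, h1, mul_one]
  rw [hmem, hmem]
  constructor
  · rintro ⟨a, b, rfl⟩
    refine ⟨a + b * e1, b * e2, ?_⟩
    rw [mul_add, add_mul, Matrix.mul_smul, Matrix.smul_mul, mul_one, h1, Matrix.mul_smul, Matrix.smul_mul, hconj]
    module
  · rintro ⟨a, b, hab⟩
    have hk : k = g' * (a • 1 + b • ω) * (g : M) := by
      rw [← hab]
      simp only [mul_assoc]
      rw [h2, mul_one, ← mul_assoc, h2, one_mul]
    have h3 : g' * ω * (g : M) = e2⁻¹ • (ω - e1 • 1) := by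
      have h4 : g' * (e1 • 1 + e2 • ω) * (g : M) = ω := by
        rw [mul_assoc, ← h, ← mul_assoc, h2, one_mul]
      rw [mul_add, add_mul, Matrix.mul_smul, Matrix.smul_mul, mul_one, h2, Matrix.mul_smul, Matrix.smul_mul] at h4
      have h5 : e2 • (g' * ω * (g : M)) = ω - e1 • 1 := eq_sub_of_add_eq' h4
      rw [← h5, inv_smul_smul₀ he2]
    refine ⟨a - b * e2⁻¹ * e1, b * e2⁻¹, ?_⟩
    rw [hk, mul_add, add_mul, Matrix.mul_smul, Matrix.smul_mul, mul_one, h2, Matrix.mul_smul, Matrix.smul_mul, h3]
    module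

theorem planes_scalar (h2 : (2 : F) ≠ 0) (hev : Even n) {y : End F (Fin n → F)} {a : F} (ha : a ≠ 0)
    (hy : ∀ v, y (y v) = (a * a) • v) (hdet : LinearMap.det y = 1) (hbad : ¬ (a ^ n = -1)) :
    ∃ (ι : Type) (_ : Fintype ι) (u w : ι → Fin n → F), n = Fintype.card ι + Fintype.card ι ∧
      (∀ v, v ∈ Submodule.span F (Set.range (Sum.elim u w))) ∧ ∀ i, ∃ c : F, y (u i) = c • u i ∧ y (w i) = c • w i := by
  classical
  let Ep := LinearMap.ker (y - a • 1)
  let Em := LinearMap.ker (y + a • 1)
  have hEp : ∀ v, v ∈ Ep ↔ y v = a • v := fun v => by simp [Ep, sub_eq_zero]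
  have hEm : ∀ v, v ∈ Em ↔ y v = (-a) • v := fun v => by simp [Em, add_eq_zero_iff_eq_neg]
  have hc : IsCompl Ep Em := by
    refine IsCompl.of_eq ?_ ?_
    · rw [eq_bot_iff]
      rintro v ⟨h1, h3⟩
      have e : ((2 : F) * a) • v = 0 := by
        rw [two_mul, add_smul]
        nth_rewrite 1 [← (hEp v).1 h1]
        rw [(hEm v).1 h3, neg_smul, neg_add_cancel]
      exact (smul_eq_zero.1 e).resolve_left (mul_ne_zero h2 ha)
    · rw [eq_top_iff]
      intro v _
      have e : v = ((2 * a)⁻¹) • (a • v + y v) + ((2 * a)⁻¹) • (a • v - y v) := by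
        rw [← smul_add, add_add_sub_cancel, ← two_smul F (a • v), smul_smul, smul_smul, mul_assoc, inv_mul_cancel₀ (mul_ne_zero h2 ha),
          one_smul]
      rw [e]
      refine Submodule.add_mem_sup (Ep.smul_mem _ ((hEp _).2 ?_)) (Em.smul_mem _ ((hEm _).2 ?_))
      · rw [map_add, map_smul, hy]; module
      · rw [map_sub, map_smul, hy]; module
  set s := finrank F Ep with hs
  set t := finrank F Em with ht
  have hst : s + t = n := by
    rw [hs, ht, Submodule.finrank_add_eq_of_isCompl hc, Module.finrank_fin_fun]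
  have hd : a ^ n * (-1) ^ t = 1 := by
    let e := Submodule.prodEquivOfIsCompl Ep Em hc
    have hy' : y = e.conj ((a • LinearMap.id).prodMap ((-a) • LinearMap.id)) := by
      apply LinearMap.ext
      intro v
      obtain ⟨⟨v1, v2⟩, rfl⟩ := e.surjective v
      rw [LinearEquiv.conj_apply, LinearMap.comp_apply, LinearMap.comp_apply]
      simp [e, map_add, (hEp v1).1 v1.2, (hEm v2).1 v2.2]
    rw [hy', LinearEquiv.conj_apply, LinearMap.comp_assoc, LinearMap.det_conj, LinearMap.det_prodMap, LinearMap.det_smul,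
      LinearMap.det_smul, LinearMap.det_id, LinearMap.det_id, mul_one, mul_one, ← hs, ← ht, neg_pow a t] at hdet
    have e1 : a ^ n = a ^ s * a ^ t := by rw [← pow_add, hst]
    rw [e1]
    linear_combination hdet
  have hte : Even t := by
    by_contra hne
    rw [Nat.not_even_iff_odd] at hne
    rw [hne.neg_one_pow, mul_neg_one, neg_eq_iff_eq_neg] at hd
    exact hbad hd
  have hse : Even s := by rwa [← hst, Nat.even_add, iff_true_intro hte, iff_true] at hev
  obtain ⟨u1, w1, hu1, hw1, hsp1⟩ := Cfsg.Agent.S5967.even_split hse hs.symm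
  obtain ⟨u2, w2, hu2, hw2, hsp2⟩ := Cfsg.Agent.S5967.even_split hte ht.symm
  refine ⟨Fin (s / 2) ⊕ Fin (t / 2), inferInstance, Sum.elim u1 u2, Sum.elim w1 w2, ?_, fun v => ?_, ?_⟩
  · obtain ⟨s', hs'⟩ := hse
    obtain ⟨t', ht'⟩ := hte
    simp; omega
  · obtain ⟨x1, h1, x2, h3, rfl⟩ := Submodule.mem_sup.1 (hc.sup_eq_top.ge (Submodule.mem_top (x := v)))
    refine add_mem (Submodule.span_mono ?_ (hsp1 h1)) (Submodule.span_mono ?_ (hsp2 h3))
    · rintro _ ⟨i | i, rfl⟩
      · exact ⟨Sum.inl (Sum.inl i), rfl⟩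
      · exact ⟨Sum.inr (Sum.inl i), rfl⟩
    · rintro _ ⟨i | i, rfl⟩
      · exact ⟨Sum.inl (Sum.inr i), rfl⟩
      · exact ⟨Sum.inr (Sum.inr i), rfl⟩
  · rintro (i | i)
    · exact ⟨a, (hEp _).1 (hu1 i), (hEp _).1 (hw1 i)⟩
    · exact ⟨-a, (hEm _).1 (hu2 i), (hEm _).1 (hw2 i)⟩

theorem of_structure [Fintype F] {K : Subalgebra F M} {ω : M} {s t : F} (hω : ω * ω = s • ω + t • 1)
    (hroot : ∀ r : F, r * r ≠ s * r + t) (hmem : ∀ k, k ∈ K ↔ ∃ a b : F, k = a • 1 + b • ω)
    {m : ℕ} (hm : n = 2 * m) (hm0 : 0 < m) (x : Matrix.SpecialLinearGroup (Fin n) F)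
    {Ω : M} (hΩ : Ω * Ω = s • Ω + t • 1) {e1 e2 : F} (he2 : e2 ≠ 0) (hx : (x : M) * Ω = (e1 • 1 + e2 • Ω) * (x : M)) :
    ∃ P : Matrix.SpecialLinearGroup (Fin n) F, P⁻¹ * x * P ∈
      ((Cfsg.Geo.subalgebraNormalizer K).comap (Matrix.SpecialLinearGroup.toGL : Matrix.SpecialLinearGroup (Fin n) F →* GL (Fin n) F)) := by
  obtain ⟨P, hP⟩ := QuadField.exists_conj hω hΩ hroot hm hm0
  refine ⟨P, mem_normalizer hmem _ (e1 := e1) he2 ?_⟩
  set P' : M := ((P⁻¹ : Matrix.SpecialLinearGroup (Fin n) F) : M)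
  have h2 : P' * (P : M) = 1 := by
    rw [← Matrix.SpecialLinearGroup.coe_mul, inv_mul_cancel, Matrix.SpecialLinearGroup.coe_one]
  have hP' : P' * Ω = ω * P' := by
    calc P' * Ω = P' * (Ω * ((P : M) * P')) := by
          rw [← Matrix.SpecialLinearGroup.coe_mul, mul_inv_cancel, Matrix.SpecialLinearGroup.coe_one, mul_one]
      _ = ω * P' := by rw [← mul_assoc Ω, hP, ← mul_assoc, ← mul_assoc, h2, one_mul]
  rw [Matrix.SpecialLinearGroup.coe_mul, Matrix.SpecialLinearGroup.coe_mul]
  calc P' * (x : M) * (P : M) * ω = P' * (x : M) * (Ω * (P : M)) := by rw [hP, mul_assoc]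
    _ = P' * ((x : M) * Ω) * (P : M) := by simp only [mul_assoc]
    _ = (e1 • 1 + e2 • ω) * (P' * (x : M) * (P : M)) := by
      rw [hx, ← mul_assoc P', mul_add, Matrix.mul_smul, mul_one, Matrix.mul_smul, hP']
      simp only [add_mul, Matrix.smul_mul, one_mul, mul_assoc]

/-- A structure assembled from planes. -/
theorem structure_of_planes {ι : Type} [Fintype ι] (u w : ι → Fin n → F) (hcard : n = Fintype.card ι + Fintype.card ι)
    (hspan : ∀ v, v ∈ Submodule.span F (Set.range (Sum.elim u w))) (x : M) (o11 o12 o21 o22 e1 e2 s t : F)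
    (ho : (!![o11, o12; o21, o22] : Matrix (Fin 2) (Fin 2) F) * !![o11, o12; o21, o22] =
      s • !![o11, o12; o21, o22] + t • 1)
    (hpl : ∀ i, ∃ α β γ δ : F, Matrix.toLin' x (u i) = α • u i + β • w i ∧ Matrix.toLin' x (w i) = γ • u i + δ • w i ∧
      (!![α, γ; β, δ] : Matrix (Fin 2) (Fin 2) F) * !![o11, o12; o21, o22] =
        (e1 • 1 + e2 • !![o11, o12; o21, o22]) * !![α, γ; β, δ]) :
    ∃ Ω : M, Ω * Ω = s • Ω + t • 1 ∧ x * Ω = (e1 • 1 + e2 • Ω) * x := by
  classical
  obtain ⟨m, T, σ, -, hTu, hTw⟩ := Cfsg.Agent.S5967.exists_coords u w hcard hspan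
  let B : End F (Fin m ⊕ Fin m → F) :=
    { toFun := fun v => Sum.elim (fun i => o11 * v (Sum.inl i) + o12 * v (Sum.inr i))
        (fun i => o21 * v (Sum.inl i) + o22 * v (Sum.inr i))
      map_add' := fun a b => by funext z; rcases z with i | i <;> simp <;> ring
      map_smul' := fun c a => by funext z; rcases z with i | i <;> simp <;> ring }
  choose α β γ δ hu hw hrel using hpl
  let A : End F (Fin m ⊕ Fin m → F) :=
    { toFun := fun v => Sum.elim (fun i => α (σ i) * v (Sum.inl i) + γ (σ i) * v (Sum.inr i))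
        (fun i => β (σ i) * v (Sum.inl i) + δ (σ i) * v (Sum.inr i))
      map_add' := fun a b => by funext z; rcases z with i | i <;> simp <;> ring
      map_smul' := fun c a => by funext z; rcases z with i | i <;> simp <;> ring }
  have hA : T.toLinearMap.comp A = (Matrix.toLin' x).comp T.toLinearMap := by
    refine (Pi.basisFun F (Fin m ⊕ Fin m)).ext fun z => ?_
    rw [LinearMap.comp_apply, LinearMap.comp_apply, Pi.basisFun_apply, LinearEquiv.coe_coe]
    rcases z with i | i
    · have e : A (Pi.single (Sum.inl i) 1) =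
          α (σ i) • Pi.single (Sum.inl i) 1 + β (σ i) • Pi.single (Sum.inr i) 1 := by
        funext z
        rcases z with j | j <;> by_cases hj : j = i <;> simp [A, Pi.single_apply, hj]
      rw [e, map_add, map_smul, map_smul, hTu, hTw, hu]
    · have e : A (Pi.single (Sum.inr i) 1) =
          γ (σ i) • Pi.single (Sum.inl i) 1 + δ (σ i) • Pi.single (Sum.inr i) 1 := by
        funext z
        rcases z with j | j <;> by_cases hj : j = i <;> simp [A, Pi.single_apply, hj]
      rw [e, map_add, map_smul, map_smul, hTu, hTw, hw]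
  refine ⟨LinearMap.toMatrix' (T.conj B), ?_, ?_⟩
  · apply Matrix.toLin'.injective
    rw [Matrix.toLin'_mul, map_add, map_smul, map_smul, Matrix.toLin'_toMatrix', Matrix.toLin'_one]
    apply LinearMap.ext
    intro v
    obtain ⟨v, rfl⟩ := T.surjective v
    simp only [LinearMap.comp_apply, LinearEquiv.conj_apply, LinearEquiv.coe_coe, LinearEquiv.symm_apply_apply,
      LinearMap.add_apply, LinearMap.smul_apply, LinearMap.id_apply]
    rw [← T.map_smul, ← T.map_smul, ← T.map_add]
    congr 1
    have h00 := congrFun (congrFun ho 0) 0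
    have h01 := congrFun (congrFun ho 0) 1
    have h10 := congrFun (congrFun ho 1) 0
    have h11 := congrFun (congrFun ho 1) 1
    simp [Matrix.mul_apply, Fin.sum_univ_two] at h00 h01 h10 h11
    funext z
    rcases z with i | i
    · simp [B]; linear_combination (v (Sum.inl i)) * h00 + (v (Sum.inr i)) * h01
    · simp [B]; linear_combination (v (Sum.inl i)) * h10 + (v (Sum.inr i)) * h11
  · apply Matrix.toLin'.injective
    rw [Matrix.toLin'_mul, Matrix.toLin'_mul, map_add, map_smul, map_smul, Matrix.toLin'_toMatrix', Matrix.toLin'_one]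
    apply LinearMap.ext
    intro v
    obtain ⟨v, rfl⟩ := T.surjective v
    have hx : ∀ v, Matrix.toLin' x (T v) = T (A v) := fun v => (LinearMap.congr_fun hA v).symm
    simp only [LinearMap.comp_apply, LinearEquiv.conj_apply, LinearEquiv.coe_coe, LinearEquiv.symm_apply_apply,
      LinearMap.add_apply, LinearMap.smul_apply, LinearMap.id_apply, hx]
    rw [← T.map_smul, ← T.map_smul, ← T.map_add]
    congr 1
    funext z
    have hr := fun i => hrel (σ i)
    rcases z with i | i
    all_goals
      have h00 := congrFun (congrFun (hr i) 0) 0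
      have h01 := congrFun (congrFun (hr i) 0) 1
      have h10 := congrFun (congrFun (hr i) 1) 0
      have h11 := congrFun (congrFun (hr i) 1) 1
      simp [Matrix.mul_apply, Fin.sum_univ_two] at h00 h01 h10 h11
    · simp [A, B]; linear_combination (v (Sum.inl i)) * h00 + (v (Sum.inr i)) * h01
    · simp [A, B]; linear_combination (v (Sum.inl i)) * h10 + (v (Sum.inr i)) * h11

/-- A map differing from a scalar by rank one does not normalise a quadratic field structure. -/
theorem no_rank_one {K : Subalgebra F M} {ω : M} {s t : F} (hω : ω * ω = s • ω + t • 1)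
    (hroot : ∀ r : F, r * r ≠ s * r + t) (hmem : ∀ k, k ∈ K ↔ ∃ a b : F, k = a • 1 + b • ω) (hn : 3 ≤ n)
    (x : Matrix.SpecialLinearGroup (Fin n) F) {lam : F} (hlam : lam ≠ 0) (w φ : Fin n → F) (hw : w ≠ 0) (hφ : φ ≠ 0)
    (hx : ∀ v, (x : M).mulVec v = lam • v + (φ ⬝ᵥ v) • w) (P : Matrix.SpecialLinearGroup (Fin n) F) :
    P⁻¹ * x * P ∉ ((Cfsg.Geo.subalgebraNormalizer K).comap (Matrix.SpecialLinearGroup.toGL : Matrix.SpecialLinearGroup (Fin n) F →* GL (Fin n) F)) := by
  intro hP
  set g := P⁻¹ * x * P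
  set P' : M := ((P⁻¹ : Matrix.SpecialLinearGroup (Fin n) F) : M)
  have hPP : ∀ u, (P : M).mulVec (P'.mulVec u) = u := fun u => by
    rw [Matrix.mulVec_mulVec, ← Matrix.SpecialLinearGroup.coe_mul, mul_inv_cancel, Matrix.SpecialLinearGroup.coe_one,
      Matrix.one_mulVec]
  have hPP' : ∀ u, P'.mulVec ((P : M).mulVec u) = u := fun u => by
    rw [Matrix.mulVec_mulVec, ← Matrix.SpecialLinearGroup.coe_mul, inv_mul_cancel, Matrix.SpecialLinearGroup.coe_one,
      Matrix.one_mulVec]
  let L : (Fin n → F) →ₗ[F] F :=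
    { toFun := fun v => φ ⬝ᵥ (P : M).mulVec v
      map_add' := fun a b => by rw [Matrix.mulVec_add, dotProduct_add]
      map_smul' := fun c a => by rw [Matrix.mulVec_smul, dotProduct_smul, RingHom.id_apply] }
  set w' := P'.mulVec w
  have hg : ∀ v, (g : M).mulVec v = lam • v + L v • w' := fun v => by
    rw [Matrix.SpecialLinearGroup.coe_mul, Matrix.SpecialLinearGroup.coe_mul, ← Matrix.mulVec_mulVec,
      ← Matrix.mulVec_mulVec, hx, Matrix.mulVec_add, Matrix.mulVec_smul, Matrix.mulVec_smul, hPP']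
    rfl
  have hmemω : ω ∈ K := (hmem ω).2 ⟨0, 1, by simp⟩
  obtain ⟨a, b, hab⟩ := (hmem _).1 ((hP ω).1 hmemω)
  have hgω : (g : M) * ω = (a • 1 + b • ω) * (g : M) := by
    rw [← hab]
    show _ = (g : M) * ω * ((g⁻¹ : Matrix.SpecialLinearGroup (Fin n) F) : M) * (g : M)
    rw [mul_assoc, ← Matrix.SpecialLinearGroup.coe_mul, inv_mul_cancel, Matrix.SpecialLinearGroup.coe_one, mul_one]
  have hno : ∀ (r : F) v, v ≠ 0 → ω.mulVec v ≠ r • v := fun r v hv h => by
    have h1 := congrArg (fun A : M => A.mulVec v) hω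
    simp only [← Matrix.mulVec_mulVec, h, Matrix.mulVec_smul, Matrix.add_mulVec, Matrix.smul_mulVec,
      Matrix.one_mulVec, smul_smul, ← add_smul] at h1
    exact hroot r (smul_left_injective F hv h1)
  obtain ⟨v, hv0, hv1, hv2⟩ : ∃ v, v ≠ 0 ∧ L v = 0 ∧ L (ω.mulVec v) = 0 := by
    let L2 : (Fin n → F) →ₗ[F] F × F := L.prod (L.comp (Matrix.toLin' ω))
    have : LinearMap.ker L2 ≠ ⊥ := fun h => by
      have h1 := LinearMap.finrank_le_finrank_of_injective (LinearMap.ker_eq_bot.1 h)
      rw [Module.finrank_fin_fun, Module.finrank_prod, Module.finrank_self] at h1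
      omega
    obtain ⟨v, hv, hv0⟩ := Submodule.exists_mem_ne_zero_of_ne_bot this
    have hv' := LinearMap.mem_ker.1 hv
    exact ⟨v, hv0, congrArg Prod.fst hv', congrArg Prod.snd hv'⟩
  have hcomm := fun v => congrArg (fun A : M => A.mulVec v) hgω
  simp only [← Matrix.mulVec_mulVec, hg, Matrix.add_mulVec, Matrix.smul_mulVec, Matrix.one_mulVec] at hcomm
  have hab' : a = 0 ∧ b = 1 := by
    have h1 := hcomm v
    simp only [hv1, hv2, zero_smul, add_zero, Matrix.mulVec_smul] at h1
    rw [smul_comm a, smul_comm b, ← smul_add] at h1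
    have h2 := smul_right_injective (Fin n → F) hlam h1
    by_cases hb : b = 1
    · subst hb
      rw [one_smul] at h2
      exact ⟨(smul_eq_zero.1 (add_eq_right.1 h2.symm)).resolve_right hv0, rfl⟩
    · exfalso
      refine hno ((1 - b)⁻¹ * a) v hv0 ?_
      rw [mul_smul, eq_inv_smul_iff₀ (sub_ne_zero.2 (Ne.symm hb)), sub_smul, one_smul]
      nth_rewrite 1 [h2]
      rw [add_sub_cancel_right]
  obtain ⟨rfl, rfl⟩ := hab'
  obtain ⟨v1, hv1⟩ : ∃ v1, L v1 ≠ 0 := by
    by_contra hne
    push Not at hne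
    apply hφ
    funext j
    have := hne (P'.mulVec (Pi.single j 1))
    change φ ⬝ᵥ (P : M).mulVec (P'.mulVec (Pi.single j 1)) = 0 at this
    rw [hPP, dotProduct_single, mul_one] at this
    exact this
  have h1 := hcomm v1
  rw [zero_smul, zero_add, one_smul, Matrix.mulVec_add, Matrix.mulVec_smul, Matrix.mulVec_smul, add_right_inj] at h1
  have hw' : w' ≠ 0 := fun h => hw (by rw [← hPP w]; show (P : M).mulVec w' = 0; rw [h, Matrix.mulVec_zero])
  refine hno ((L v1)⁻¹ * L (ω.mulVec v1)) w' hw' ?_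
  rw [mul_smul, eq_inv_smul_iff₀ hv1, h1]

/-- Involutions of PSL_n(q) and extension-field subgroups of degree 2. Here `T = PSL_n(F)` for a field `F` with `q = p^f` elements (`n ≥ 2`, `(n, q) ≠ (2, 2), (2, 3)`), `k` is a prime dividing `n`, `K` is a subalgebra of the `n × n` matrices that is a field of degree `k` over `F` (an extension-field structure F_{q^k} on `F^n`), and `H` is the subgroup of matrices of determinant 1 normalizing `K` — a subgroup of type GL_{n/k}(q^k) (maximal except in some small cases; maximality is not assumed); Ω is the set of cosets of `H` in `T`, so an element of `T` of prime order `r` (a matrix `x` of determinant 1 with `x^r` scalar, `x` not scalar) fixes a point of Ω when some conjugate of `x` by a matrix of determinant 1 normalizes `K`. Take `k = 2` and suppose the index of `H` is even. Then every involution of `T` is conjugate in `T` into `H` if and only if `n = 2`, or `q` is odd and `(q − 1)_2 ≤ (n)_2`. -/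
theorem result {F : Type*} [Field F] [Fintype F] {p : ℕ} [Fact p.Prime] [CharP F p] {q : ℕ} (hq : Fintype.card F = q)
    (n : ℕ) (hn : 2 ≤ n) (hT : (n, q) ≠ (2, 2) ∧ (n, q) ≠ (2, 3))
    (k : ℕ) (hk : k.Prime) (hkn : k ∣ n) (K : Subalgebra F (Matrix (Fin n) (Fin n) F)) (hK : Cfsg.Geo.IsFieldSubalgebra k K) (hk2 : k = 2) (hΩ : 2 ∣ ((Cfsg.Geo.subalgebraNormalizer K).comap (Matrix.SpecialLinearGroup.toGL : Matrix.SpecialLinearGroup (Fin n) F →* GL (Fin n) F)).index) :
    (∀ x : Matrix.SpecialLinearGroup (Fin n) F,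
      (∃ z : F, ((x ^ 2 : Matrix.SpecialLinearGroup (Fin n) F) : Matrix (Fin n) (Fin n) F) = z • (1 : Matrix (Fin n) (Fin n) F)) →
      (∀ z : F, (x : Matrix (Fin n) (Fin n) F) ≠ z • (1 : Matrix (Fin n) (Fin n) F)) →
      ∃ P : Matrix.SpecialLinearGroup (Fin n) F, P⁻¹ * x * P ∈ ((Cfsg.Geo.subalgebraNormalizer K).comap (Matrix.SpecialLinearGroup.toGL : Matrix.SpecialLinearGroup (Fin n) F →* GL (Fin n) F))) ↔
    (n = 2 ∨ (Odd q ∧ padicValNat 2 (q - 1) ≤ padicValNat 2 n)) := by
  classical
  subst hq hk2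
  have hne : Nonempty (Fin n) := ⟨⟨0, by omega⟩⟩
  obtain ⟨ω, s, t, hω, hroot, hmem, -⟩ := QuadField.exists_gen hK (by omega)
  obtain ⟨m, hm⟩ := hkn
  have hm0 : 0 < m := by omega
  have htf : ∀ (x : Matrix.SpecialLinearGroup (Fin n) F) (z : F),
      ((x ^ 2 : Matrix.SpecialLinearGroup (Fin n) F) : Matrix (Fin n) (Fin n) F) = z • 1 →
        (x : Matrix (Fin n) (Fin n) F) * (x : Matrix (Fin n) (Fin n) F) = z • 1 ∧ z ≠ 0 ∧
        (∀ v, Matrix.toLin' (x : Matrix (Fin n) (Fin n) F) (Matrix.toLin' (x : Matrix (Fin n) (Fin n) F) v) = z • v) := by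
    intro x z hz
    rw [Matrix.SpecialLinearGroup.coe_pow, pow_two] at hz
    refine ⟨hz, fun h => ?_, fun v => by
      rw [Matrix.toLin'_apply, Matrix.toLin'_apply, Matrix.mulVec_mulVec, hz, Matrix.smul_mulVec,
        Matrix.one_mulVec]⟩
    have hd := congrArg Matrix.det hz
    rw [h, zero_smul, Matrix.det_zero, Matrix.det_mul, x.2, one_mul] at hd
    exact one_ne_zero hd
  have hbad : 4 ≤ n → ∀ lam : F, lam ≠ 0 → ∀ (X : Matrix (Fin n) (Fin n) F) (hX : X.det = 1) (w φ : Fin n → F),
      w ≠ 0 → φ ≠ 0 → (∀ v, X.mulVec v = lam • v + (φ ⬝ᵥ v) • w) → (∃ z : F, X * X = z • 1) →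
      ¬ (∀ x : Matrix.SpecialLinearGroup (Fin n) F,
        (∃ z : F, ((x ^ 2 : Matrix.SpecialLinearGroup (Fin n) F) : Matrix (Fin n) (Fin n) F) = z • (1 : Matrix (Fin n) (Fin n) F)) →
        (∀ z : F, (x : Matrix (Fin n) (Fin n) F) ≠ z • (1 : Matrix (Fin n) (Fin n) F)) →
        ∃ P : Matrix.SpecialLinearGroup (Fin n) F, P⁻¹ * x * P ∈ ((Cfsg.Geo.subalgebraNormalizer K).comap (Matrix.SpecialLinearGroup.toGL : Matrix.SpecialLinearGroup (Fin n) F →* GL (Fin n) F))) := by
    intro h4 lam hlam X hX w φ hw hφ hv ⟨z, hz⟩ hall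
    set x0 : Matrix.SpecialLinearGroup (Fin n) F := ⟨X, hX⟩
    obtain ⟨P, hP⟩ := hall x0 ⟨z, (Matrix.SpecialLinearGroup.coe_pow x0 2).trans ((pow_two X).trans hz)⟩ (fun a ha => by
      have ha' : X = a • 1 := ha
      obtain ⟨i, hi⟩ := Function.ne_iff.1 hφ
      obtain ⟨j, hj⟩ := Function.ne_iff.1 hw
      have key : ∀ v, (a - lam) • v = (φ ⬝ᵥ v) • w := fun v => by
        rw [sub_smul, sub_eq_iff_eq_add', ← hv, ha', Matrix.smul_mulVec, Matrix.one_mulVec]
      obtain ⟨i', hi'⟩ : ∃ i' : Fin n, i' ≠ j := Fintype.exists_ne_of_one_lt_card (by simp; omega) j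
      have h1 := congrFun (key (Pi.single i' 1)) j
      simp [hi'.symm] at h1
      have h2 := congrFun (key (Pi.single i 1)) j
      have h3 := congrFun (key (Pi.single i' 1)) i'
      rcases h1 with h1 | h1
      · simp [h1] at h3
        rw [h3, zero_smul] at h2
        have h4 := congrFun (key (Pi.single i 1)) j
        simp [h3] at h4
        exact h4.elim hi hj
      · exact hj h1)
    exact no_rank_one hω hroot hmem (by omega) x0 hlam w φ hw hφ hv P hP
  by_cases hn2 : n = 2
  · refine iff_of_true (fun x ⟨z, hz⟩ hns => ?_) (Or.inl hn2)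
    obtain ⟨hx, hz0, hy⟩ := htf x z hz
    obtain ⟨v, hv⟩ : ∃ v, ∀ a : F, Matrix.toLin' (x : Matrix (Fin n) (Fin n) F) v ≠ a • v := by
      by_contra hne'
      push Not at hne'
      subst hn2
      obtain ⟨a, ha⟩ := hne' (Pi.single 0 1)
      obtain ⟨b, hb⟩ := hne' (Pi.single 1 1)
      obtain ⟨c, hc⟩ := hne' (Pi.single 0 1 + Pi.single 1 1)
      rw [map_add, ha, hb] at hc
      have h1 := congrFun hc 0
      have h2 := congrFun hc 1
      simp at h1 h2
      apply hns a
      apply Matrix.toLin'.injective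
      refine (Pi.basisFun F (Fin 2)).ext fun i => ?_
      rw [Pi.basisFun_apply, map_smul, Matrix.toLin'_one]
      fin_cases i
      · exact ha
      · simp only [Fin.mk_one, Fin.isValue]
        rw [hb, h2, ← h1]; rfl
    obtain ⟨p0, r0, hpr⟩ : ∃ p0 r0 : F, p0 * p0 - s * p0 - z * r0 * r0 - t = 0 := by
      by_cases h2 : (2 : F) = 0
      · have : CharP F 2 := CharTwo.of_one_ne_zero_of_two_eq_zero one_ne_zero h2
        obtain ⟨r0, hr0⟩ := FiniteField.isSquare_of_char_two (ringChar.eq F 2) (-t / z)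
        refine ⟨0, r0, ?_⟩
        rw [mul_assoc z, ← hr0, mul_div_cancel₀ _ hz0]
        ring
      · have hodd : Fintype.card F % 2 = 1 := by
          refine FiniteField.odd_card_of_char_ne_two fun h => h2 ?_
          have : CharP F 2 := h ▸ ringChar.charP F
          exact CharTwo.two_eq_zero
        obtain ⟨a, b, hab⟩ := FiniteField.exists_root_sum_quadratic (R := F)
          (f := Polynomial.C 1 * Polynomial.X ^ 2 + Polynomial.C (-s) * Polynomial.X + Polynomial.C (-t))
          (g := Polynomial.C (-z) * Polynomial.X ^ 2 + Polynomial.C 0 * Polynomial.X + Polynomial.C 0)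
          (Polynomial.degree_quadratic one_ne_zero) (Polynomial.degree_quadratic (neg_ne_zero.2 hz0)) hodd
        simp at hab
        exact ⟨a, b, by linear_combination hab⟩
    obtain ⟨Ω, hΩ, hrel⟩ := structure_of_planes (ι := Fin 1) (fun _ => v)
      (fun _ => Matrix.toLin' (x : Matrix (Fin n) (Fin n) F) v) (by simp [hn2])
      (fun u => by
        set y := Matrix.toLin' (x : Matrix (Fin n) (Fin n) F)
        have hli : LinearIndependent F ![v, y v] := by
          rw [LinearIndependent.pair_iff]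
          intro a b h
          by_cases hb : b = 0
          · subst hb
            rw [zero_smul, add_zero] at h
            refine ⟨(smul_eq_zero.1 h).resolve_right fun h0 => hv 0 (by rw [h0, map_zero, zero_smul]), rfl⟩
          · exfalso
            apply hv (-a / b)
            rw [eq_comm, div_eq_mul_inv, mul_comm, mul_smul, inv_smul_eq_iff₀ hb, neg_smul, neg_eq_iff_add_eq_zero, h]
        have htop : Submodule.span F (Set.range ![v, y v]) = ⊤ := Submodule.eq_top_of_finrank_eq (by
          rw [finrank_span_eq_card hli, Fintype.card_fin, Module.finrank_fin_fun, hn2])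
        refine Submodule.span_mono ?_ (htop.ge Submodule.mem_top)
        rintro _ ⟨i, rfl⟩
        fin_cases i
        · exact ⟨Sum.inl 0, rfl⟩
        · exact ⟨Sum.inr 0, rfl⟩)
      (x : Matrix (Fin n) (Fin n) F) p0 (-(z * r0)) r0 (s - p0) s (-1) s t
      (by
        ext i j
        fin_cases i <;> fin_cases j <;> simp [Matrix.mul_apply, Fin.sum_univ_two]
        all_goals first | linear_combination hpr | ring)
      (fun _ => ⟨0, 1, z, 0, by simp, by rw [hy]; simp, by
        ext i j
        fin_cases i <;> fin_cases j <;> simp [Matrix.mul_apply, Fin.sum_univ_two] <;> ring⟩)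
    exact of_structure hω hroot hmem hm hm0 x hΩ (neg_ne_zero.2 one_ne_zero) hrel
  have h4 : 4 ≤ n := by omega
  by_cases h2 : (2 : F) = 0
  · have : CharP F 2 := CharTwo.of_one_ne_zero_of_two_eq_zero one_ne_zero h2
    have heven : ¬ Odd (Fintype.card F) := by
      rw [Nat.not_odd_iff_even, even_iff_two_dvd]
      exact (CharP.cast_eq_zero_iff F 2 _).1 (Nat.cast_card_eq_zero F)
    refine iff_of_false ?_ (fun h => h.elim hn2 fun h' => heven h'.1)
    let i0 : Fin n := ⟨0, by omega⟩
    let i1 : Fin n := ⟨1, by omega⟩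
    have hij : i0 ≠ i1 := by simp [i0, i1, Fin.ext_iff]
    refine hbad h4 1 one_ne_zero (1 + Matrix.single i0 i1 1) ?_ (Pi.single i0 1) (Pi.single i1 1)
      (by simp) (by simp) (fun v => ?_) ⟨1, ?_⟩
    · exact Matrix.det_transvection_of_ne i0 i1 hij 1
    · rw [Matrix.add_mulVec, Matrix.one_mulVec, one_smul, single_dotProduct, one_mul, Matrix.single_mulVec, one_mul]
      congr 1
      funext k
      by_cases hk' : k = i0 <;> simp [hk', Pi.single_apply]
    · rw [one_smul]
      exact Matrix.transvection_mul_transvection_same i0 i1 hij 1 1 |>.trans (by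
        rw [CharTwo.add_self_eq_zero]; exact Matrix.transvection_zero i0 i1)
  have hodd : Odd (Fintype.card F) := by
    rw [Nat.odd_iff]
    refine FiniteField.odd_card_of_char_ne_two fun h => h2 ?_
    have : CharP F 2 := h ▸ ringChar.charP F
    exact CharTwo.two_eq_zero
  simp only [hn2, false_or, hodd, true_and]
  constructor
  · intro h
    by_contra hle
    obtain ⟨a, ha, han⟩ := Cfsg.Agent.S5967.exists_pow_eq_neg_one h2 (by omega) (not_le.1 hle)
    let i0 : Fin n := ⟨0, by omega⟩
    let d : Fin n → F := fun i => if i = i0 then -a else a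
    have hdet : (Matrix.diagonal d).det = 1 := by
      rw [Matrix.det_diagonal]
      have : ∀ i, d i = (if i = i0 then (-1 : F) else 1) * a := fun i => by simp only [d]; split_ifs <;> simp
      rw [Finset.prod_congr rfl fun i _ => this i, Finset.prod_mul_distrib, Finset.prod_const, Finset.card_univ,
        Fintype.card_fin, han]
      simp
    refine hbad h4 a ha _ hdet (Pi.single i0 1) (Pi.single i0 (-2 * a)) (by simp) (by simp [ha, h2])
      (fun v => ?_) ⟨a * a, ?_⟩ h
    · funext k
      rw [Matrix.mulVec_diagonal, Pi.add_apply, Pi.smul_apply, Pi.smul_apply, single_dotProduct]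
      by_cases hk' : k = i0 <;> simp [d, hk'] <;> ring
    · rw [Matrix.diagonal_mul_diagonal, Matrix.smul_one_eq_diagonal]
      congr 1
      funext i
      simp only [d]
      split_ifs <;> ring
  · rintro hle x ⟨z, hz⟩ -
    obtain ⟨hx, hz0, hy⟩ := htf x z hz
    by_cases hsq : IsSquare z
    · obtain ⟨a, rfl⟩ := hsq
      have ha : a ≠ 0 := left_ne_zero_of_mul hz0
      have hbad' : ¬ a ^ n = -1 := by
        intro han
        obtain ⟨G, hG⟩ := IsCyclic.exists_generator (α := Fˣ)
        have hu : Units.mk0 a ha ^ n = -1 := Units.ext (by simpa using han)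
        set N := Fintype.card F - 1 with hN
        have hN0 : N ≠ 0 := by have := Fintype.one_lt_card (α := F); omega
        have hcardU : Nat.card Fˣ = N := by rw [Nat.card_units, Nat.card_eq_fintype_card]
        have h6 : (-1 : Fˣ) ^ (n / 2 ^ padicValNat 2 n) = -1 := by
          refine Odd.neg_one_pow (Nat.odd_iff.2 ?_)
          by_contra hev
          have h7 : 2 ∣ n / 2 ^ padicValNat 2 n := by omega
          have h8 := Nat.mul_dvd_mul_left (2 ^ padicValNat 2 n) h7
          rw [Nat.mul_div_cancel' pow_padicValNat_dvd, ← pow_succ] at h8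
          exact pow_succ_padicValNat_not_dvd (p := 2) (by omega) h8
        -- write `n` and the group order through the 2-part
        obtain ⟨e, he⟩ : 2 ^ padicValNat 2 N ∣ N := pow_padicValNat_dvd
        obtain ⟨j, hj⟩ : 2 ^ padicValNat 2 N ∣ n := (pow_dvd_pow 2 hle).trans pow_padicValNat_dvd
        have he' : Odd e := by
          rw [Nat.odd_iff]
          by_contra hev
          have h8 := Nat.mul_dvd_mul_left (2 ^ padicValNat 2 N) (show 2 ∣ e by omega)
          rw [← pow_succ, ← he] at h8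
          exact pow_succ_padicValNat_not_dvd (p := 2) hN0 h8
        have h9 : (Units.mk0 a ha ^ n) ^ e = 1 := by
          rw [← pow_mul, hj, show 2 ^ padicValNat 2 N * j * e = (2 ^ padicValNat 2 N * e) * j by ring, ← he, pow_mul,
            ← hcardU, pow_card_eq_one', one_pow]
        rw [hu, he'.neg_one_pow] at h9
        have h10 := congrArg Units.val h9
        rw [Units.val_neg, Units.val_one, neg_eq_iff_add_eq_zero, one_add_one_eq_two] at h10
        exact h2 h10
      obtain ⟨ι, _, u, w, hcard, hspan, hpl⟩ := planes_scalar h2 ⟨m, by omega⟩ ha hy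
        (by rw [LinearMap.det_toLin']; exact x.2) hbad'
      obtain ⟨Ω, hΩ, hrel⟩ := structure_of_planes u w hcard hspan (x : Matrix (Fin n) (Fin n) F) 0 t 1 s 0 1 s t
        (by
          ext i j
          fin_cases i <;> fin_cases j <;> simp [Matrix.mul_apply, Fin.sum_univ_two] <;> ring)
        (fun i => by
          obtain ⟨c, h1, h3⟩ := hpl i
          refine ⟨c, 0, 0, c, by simp [← h1], by simp [← h3], ?_⟩
          ext i j
          fin_cases i <;> fin_cases j <;> simp [Matrix.mul_apply, Fin.sum_univ_two] <;> ring)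
      exact of_structure hω hroot hmem hm hm0 x hΩ one_ne_zero hrel
    · have h4' : (4 : F) ≠ 0 := by
        rw [show (4 : F) = 2 * 2 by norm_num]; exact mul_ne_zero h2 h2
      set D := t + s * s / 4 with hD
      have hroot' : ¬ IsSquare D := by
        rintro ⟨e, he⟩
        apply hroot (s / 2 + e)
        rw [hD] at he
        field_simp at he ⊢
        linear_combination -he
      have hchar : ringChar F ≠ 2 := fun h => h2 (by
        have : CharP F 2 := h ▸ ringChar.charP F
        exact CharTwo.two_eq_zero)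
      have hD0 : D ≠ 0 := fun h => hroot' (h ▸ IsSquare.zero)
      obtain ⟨e, he⟩ : IsSquare (D / z) := by
        have key : ∀ c : F, c ≠ 0 → ¬ IsSquare c → c ^ (Fintype.card F / 2) = -1 := fun c hc hns => by
          rcases FiniteField.pow_dichotomy hchar hc with h | h
          · exact absurd ((FiniteField.isSquare_iff hchar hc).2 h) hns
          · exact h
        rw [FiniteField.isSquare_iff hchar (div_ne_zero hD0 hz0), div_pow, key D hD0 hroot', key z hz0 hsq,
          div_self (neg_ne_zero.2 one_ne_zero)]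
      refine of_structure hω hroot hmem hm hm0 x (Ω := (s / 2) • 1 + e • (x : Matrix (Fin n) (Fin n) F))
        (e1 := 0) ?_ (one_ne_zero (α := F)) ?_
      · simp only [mul_add, add_mul, Matrix.smul_mul, Matrix.mul_smul, mul_one, one_mul, hx, smul_add, smul_smul]
        have hzee : e * e * z = t + s * s / 4 := by
          rw [← he, div_mul_cancel₀ _ hz0, hD]
        have ht : t = e * e * z - s * s / 4 := by rw [hzee]; ring
        rw [ht]
        match_scalars <;> field_simp <;> ring
      · rw [mul_add, Matrix.mul_smul, mul_one, Matrix.mul_smul, zero_smul, zero_add, one_smul, add_mul,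
          Matrix.smul_mul, one_mul, Matrix.smul_mul]


end Cfsg.Agent.S5969
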