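import Cfsg.Statements.S5970
import Cfsg.Agent.Lib.MaxSub.PrimeElemFlags
import Mathlib

set_option autoImplicit false
set_option maxHeartbeats 1000000
open scoped MatrixGroups
open Cfsg

namespace Cfsg.Agent.S5970


open Module Polynomial Cfsg.Agent.Lib.MaxSub

variable {F : Type*} [Field F] {n : ℕ}

local notation "M" => Matrix (Fin n) (Fin n) F

/-- A field subalgebra is a field. -/
theorem isField (hn : 0 < n) {K : Subalgebra F M} {d : ℕ} (hK : Cfsg.Geo.IsFieldSubalgebra d K) : IsField K where
  exists_pair_ne := ⟨0, 1, fun h => by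
    have : Nonempty (Fin n) := ⟨⟨0, hn⟩⟩
    exact (zero_ne_one (α := M)) (congrArg Subtype.val h)⟩
  mul_comm a b := Subtype.ext (hK.comm _ a.2 _ b.2)
  mul_inv_cancel {a} ha := by
    obtain ⟨b, hb, h⟩ := hK.inv a a.2 fun h => ha (Subtype.ext h)
    exact ⟨⟨b, hb⟩, Subtype.ext h⟩

/-- Evaluation at a non-zero vector. -/
theorem exists_eval {K : Subalgebra F M} (hK : Cfsg.Geo.IsFieldSubalgebra n K) {v : Fin n → F} (hv : v ≠ 0) :
    ∃ ψ : K ≃ₗ[F] (Fin n → F), ∀ a : K, ψ a = (a : M).mulVec v := by
  let f : K →ₗ[F] (Fin n → F) :=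
    { toFun := fun a => (a : M).mulVec v
      map_add' := fun a b => Matrix.add_mulVec _ _ _
      map_smul' := fun c a => Matrix.smul_mulVec c _ _ }
  have hf : Function.Injective f := by
    refine (injective_iff_map_eq_zero f).2 fun a ha => ?_
    by_contra h0
    obtain ⟨b, hb, hab⟩ := hK.inv a a.2 fun h => h0 (Subtype.ext h)
    apply hv
    have : (b * (a : M)).mulVec v = 0 := by
      rw [← Matrix.mulVec_mulVec, show (a : M).mulVec v = 0 from ha, Matrix.mulVec_zero]
    rwa [← hK.comm _ a.2 _ hb, hab, Matrix.one_mulVec] at this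
  have : FiniteDimensional F K := FiniteDimensional.of_injective f hf
  exact ⟨LinearEquiv.ofBijective f ⟨hf, (LinearMap.injective_iff_surjective_of_finrank_eq_finrank (by
    rw [Module.finrank_fin_fun]; exact hK.finrank_eq)).1 hf⟩, fun a => rfl⟩

/-- A semilinear map of order `n` normalising the field. -/
theorem exists_twist [Fintype F] (hn : n.Prime) {K : Subalgebra F M} (hK : Cfsg.Geo.IsFieldSubalgebra n K) :
    ∃ S : GL (Fin n) F, S ^ n = 1 ∧ (∀ a : F, (S : M) ≠ a • 1) ∧ S ∈ Cfsg.Geo.subalgebraNormalizer K := by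
  classical
  letI : Field K := (isField hn.pos hK).toField
  let v0 : Fin n → F := Pi.single ⟨0, hn.pos⟩ 1
  have hv0 : v0 ≠ 0 := fun h => one_ne_zero (α := F) (by simpa [v0] using congrFun h ⟨0, hn.pos⟩)
  obtain ⟨ψ, hψ⟩ := exists_eval hK hv0
  have : FiniteDimensional F K := Module.Finite.equiv ψ.symm
  let τ : K ≃ₐ[F] K := FiniteField.frobeniusAlgEquivOfAlgebraic F K
  have hord : orderOf τ = n := (FiniteField.orderOf_frobeniusAlgEquivOfAlgebraic F K).trans hK.finrank_eq
  let T : End F (Fin n → F) := ψ.conj τ.toLinearMap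
  have hT : ∀ j : ℕ, T ^ j = ψ.conj ((τ ^ j : K ≃ₐ[F] K).toLinearMap) := by
    intro j
    induction j with
    | zero => apply LinearMap.ext; intro v; simp [LinearEquiv.conj_apply]
    | succ j ih =>
      rw [pow_succ, ih, pow_succ]
      apply LinearMap.ext
      intro v
      simp [T, LinearEquiv.conj_apply]
  have hTn : T ^ n = 1 := by
    rw [hT, show τ ^ n = 1 from orderOf_dvd_iff_pow_eq_one.1 hord.dvd]
    apply LinearMap.ext; intro v; simp [LinearEquiv.conj_apply]
  have hTM : (LinearMap.toMatrix' T) ^ n = 1 := by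
    refine Matrix.toLin'.injective ?_
    rw [Matrix.toLin'_pow, Matrix.toLin'_one, Matrix.toLin'_toMatrix', hTn]
    rfl
  let S : GL (Fin n) F := (IsUnit.of_pow_eq_one hTM hn.ne_zero).unit
  have hS : ∀ v, (S : M).mulVec v = T v := fun v => by
    show (LinearMap.toMatrix' T).mulVec v = T v
    rw [← Matrix.toLin'_apply, Matrix.toLin'_toMatrix']
  have hTψ : ∀ l, T (ψ l) = ψ (τ l) := fun l => by simp [T, LinearEquiv.conj_apply]
  have hsemi : ∀ a : K, (S : M) * (a : M) = (τ a : M) * (S : M) := by
    intro a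
    refine Matrix.ext_iff_mulVec.2 fun v => ?_
    obtain ⟨l, rfl⟩ := ψ.surjective v
    have e : ∀ b c : K, (b : M).mulVec (ψ c) = ψ (b * c) := fun b c => by
      rw [hψ, hψ, Matrix.mulVec_mulVec]; rfl
    rw [← Matrix.mulVec_mulVec, ← Matrix.mulVec_mulVec, e, hS, hS, hTψ, hTψ, e, map_mul]
  refine ⟨S, Units.ext hTM, fun a h => ?_, fun a => ?_⟩
  · have h1 : τ = 1 := AlgEquiv.ext fun l => by
      apply ψ.injective
      have h2 : ∀ l, ψ (τ l) = a • ψ l := fun l => by
        rw [← hTψ, ← hS, h, Matrix.smul_mulVec, Matrix.one_mulVec]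
      have h3 := h2 1
      rw [map_one] at h3
      have ha1 : a = 1 := by
        by_contra hne
        have h4 : (1 - a) • ψ (1 : K) = 0 := by rw [sub_smul, one_smul, ← h3, sub_self]
        exact one_ne_zero (ψ.map_eq_zero_iff.1 ((smul_eq_zero.1 h4).resolve_left (sub_ne_zero.2 (Ne.symm hne))))
      rw [h2, ha1, one_smul]
      rfl
    rw [h1, orderOf_one] at hord
    exact hn.one_lt.ne hord
  have hinv : (S : M) * ((S⁻¹ : GL (Fin n) F) : M) = 1 := by
    rw [← Units.val_mul, mul_inv_cancel, Units.val_one]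
  have hinv' : ((S⁻¹ : GL (Fin n) F) : M) * (S : M) = 1 := by
    rw [← Units.val_mul, inv_mul_cancel, Units.val_one]
  show a ∈ K ↔ (S : M) * a * ((S⁻¹ : GL (Fin n) F) : M) ∈ K
  constructor
  · intro ha
    rw [show (S : M) * a = (τ ⟨a, ha⟩ : M) * (S : M) from hsemi ⟨a, ha⟩, mul_assoc, hinv, mul_one]
    exact (τ ⟨a, ha⟩).2
  · intro ha
    obtain ⟨b, hb⟩ := τ.surjective ⟨_, ha⟩
    have h1 := hsemi b
    rw [hb] at h1
    have h2 : (S : M) * (b : M) = (S : M) * a := by
      rw [h1, mul_assoc, hinv', mul_one]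
    have := congrArg (((S⁻¹ : GL (Fin n) F) : M) * ·) h2
    simp only [← mul_assoc, hinv', one_mul] at this
    exact this ▸ b.2

/-- A semilinear map of order `n` and determinant one normalising the field. -/
theorem exists_semilinear [Fintype F] (hn : n.Prime) {K : Subalgebra F M} (hK : Cfsg.Geo.IsFieldSubalgebra n K)
    (hdet : ∀ d : F, d ^ n = 1 → d = 1) :
    ∃ S : Matrix.SpecialLinearGroup (Fin n) F, S ^ n = 1 ∧ S ≠ 1 ∧
      Matrix.SpecialLinearGroup.toGL S ∈ Cfsg.Geo.subalgebraNormalizer K := by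
  obtain ⟨S, hS, hns, hSK⟩ := exists_twist hn hK
  have hd : (S : M).det = 1 := hdet _ (by
    rw [← Matrix.det_pow, ← Units.val_pow_eq_pow_val, hS, Units.val_one, Matrix.det_one])
  let S0 : Matrix.SpecialLinearGroup (Fin n) F := ⟨(S : M), hd⟩
  have e : Matrix.SpecialLinearGroup.toGL S0 = S := Units.ext rfl
  refine ⟨S0, Matrix.SpecialLinearGroup.toGL_injective (by rw [map_pow, map_one, e, hS]),
    fun h => hns 1 (by rw [one_smul]; exact congrArg Subtype.val h), ?_⟩
  rw [e]
  exact hSK

/-- Normalising elements of order `n` fix at most a line. -/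
theorem fixed_line [Fintype F] (hn : n.Prime) {K : Subalgebra F M} (hK : Cfsg.Geo.IsFieldSubalgebra n K)
    (g : Matrix.SpecialLinearGroup (Fin n) F) (hgn : g ^ n = 1) (hns : ∀ a : F, (g : M) ≠ a • 1)
    (hg : Matrix.SpecialLinearGroup.toGL g ∈ Cfsg.Geo.subalgebraNormalizer K)
    {v w : Fin n → F} (hv0 : v ≠ 0) (hv : (g : M).mulVec v = v) (hw : (g : M).mulVec w = w) :
    ∃ a : F, w = a • v := by
  classical
  letI : Field K := (isField hn.pos hK).toField
  obtain ⟨ψ, hψ⟩ := exists_eval hK hv0
  have : FiniteDimensional F K := Module.Finite.equiv ψ.symm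
  have : IsSimpleOrder (Subalgebra F K) := Subalgebra.isSimpleOrder_of_finrank_prime F K (by rw [hK.finrank_eq]; exact hn)
  let C : Subalgebra F K :=
    { carrier := {a | (g : M) * (a : M) = (a : M) * (g : M)}
      mul_mem' := fun {a b} ha hb => by
        show (g : M) * ((a : M) * (b : M)) = (a : M) * (b : M) * (g : M)
        rw [← mul_assoc, ha, mul_assoc, hb, mul_assoc]
      one_mem' := by show (g : M) * 1 = 1 * (g : M); simp
      add_mem' := fun {a b} ha hb => by
        show (g : M) * ((a : M) + (b : M)) = ((a : M) + (b : M)) * (g : M)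
        rw [mul_add, add_mul, ha, hb]
      zero_mem' := by show (g : M) * 0 = 0 * (g : M); simp
      algebraMap_mem' := fun c => by
        show (g : M) * (algebraMap F M c) = algebraMap F M c * (g : M)
        exact (Algebra.commutes c _).symm }
  rcases eq_bot_or_eq_top C with hC | hC
  · obtain ⟨l, hl⟩ := ψ.surjective w
    rw [hψ] at hl
    have hlC : l ∈ C := by
      have hinv : ((g⁻¹ : Matrix.SpecialLinearGroup (Fin n) F) : M) * (g : M) = 1 := by
        rw [← Matrix.SpecialLinearGroup.coe_mul, inv_mul_cancel, Matrix.SpecialLinearGroup.coe_one]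
      have hm : (g : M) * (l : M) * ((g⁻¹ : Matrix.SpecialLinearGroup (Fin n) F) : M) ∈ K := (hg _).1 l.2
      have hv' : ((g⁻¹ : Matrix.SpecialLinearGroup (Fin n) F) : M).mulVec v = v := by
        nth_rewrite 1 [← hv]
        rw [Matrix.mulVec_mulVec, hinv, Matrix.one_mulVec]
      have h1 : (⟨_, hm⟩ : K) = l := ψ.injective (by
        rw [hψ, hψ, ← Matrix.mulVec_mulVec, ← Matrix.mulVec_mulVec, hv', hl, hw])
      show (g : M) * (l : M) = (l : M) * (g : M)
      conv_rhs => rw [← h1]
      rw [mul_assoc, hinv, mul_one]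
    rw [hC, Algebra.mem_bot] at hlC
    obtain ⟨a, rfl⟩ := hlC
    refine ⟨a, ?_⟩
    rw [← hl]
    show (algebraMap F M a).mulVec v = a • v
    rw [Algebra.algebraMap_eq_smul_one, Matrix.smul_mulVec, Matrix.one_mulVec]
  · exfalso
    obtain ⟨c, hc⟩ := ψ.surjective ((g : M).mulVec v)
    have hcg : (c : M) = (g : M) := by
      refine Matrix.ext_iff_mulVec.2 fun z => ?_
      obtain ⟨l, rfl⟩ := ψ.surjective z
      have hlC : l ∈ C := hC ▸ Algebra.mem_top
      rw [hψ] at hc
      rw [hψ, Matrix.mulVec_mulVec, Matrix.mulVec_mulVec, show (g : M) * (l : M) = (l : M) * (g : M) from hlC,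
        hK.comm _ c.2 _ l.2, ← Matrix.mulVec_mulVec, hc, Matrix.mulVec_mulVec]
    have hcn : c ^ n = 1 := Subtype.ext (by
      rw [SubmonoidClass.coe_pow, hcg, ← Matrix.SpecialLinearGroup.coe_pow, hgn, Matrix.SpecialLinearGroup.coe_one]
      rfl)
    have : Finite K := Module.finite_of_finite F
    letI : Fintype K := Fintype.ofFinite K
    have hcard : Fintype.card K = Fintype.card F ^ n := by
      rw [Module.card_eq_pow_finrank (K := F) (V := K), hK.finrank_eq]
    have hcq : c ^ Fintype.card F = c := by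
      have : Fact n.Prime := ⟨hn⟩
      have h1 : c ^ (Fintype.card F ^ n) = c := by rw [← hcard]; exact FiniteField.pow_card c
      have h2 : Fintype.card F ^ n % n = Fintype.card F % n :=
        (ZMod.natCast_eq_natCast_iff' _ _ n).1 (by rw [Nat.cast_pow, ZMod.pow_card])
      conv_rhs => rw [← h1]
      rw [pow_eq_pow_mod (Fintype.card F) hcn, pow_eq_pow_mod (Fintype.card F ^ n) hcn, h2]
    let τ : K ≃ₐ[F] K := FiniteField.frobeniusAlgEquivOfAlgebraic F K
    have hτc : c ∈ AlgHom.equalizer (τ : K →ₐ[F] K) (AlgHom.id F K) := by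
      show τ c = c
      rw [show τ c = c ^ Fintype.card F from rfl, hcq]
    rcases eq_bot_or_eq_top (AlgHom.equalizer (τ : K →ₐ[F] K) (AlgHom.id F K)) with hE | hE
    · rw [hE, Algebra.mem_bot] at hτc
      obtain ⟨a, rfl⟩ := hτc
      apply hns a
      rw [← hcg]
      show algebraMap F M a = _
      rw [Algebra.algebraMap_eq_smul_one]
    · have hτ1 : τ = 1 := AlgEquiv.ext fun l => (hE ▸ Algebra.mem_top : l ∈ AlgHom.equalizer (τ : K →ₐ[F] K) (AlgHom.id F K))
      have hord : orderOf τ = n := (FiniteField.orderOf_frobeniusAlgEquivOfAlgebraic F K).trans hK.finrank_eq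
      rw [hτ1, orderOf_one] at hord
      exact hn.one_lt.ne hord

section

variable [Fintype F] [hnp : Fact n.Prime] {p : ℕ} [Fact p.Prime] [CharP F p] {q : ℕ}

/-- The unique `n`-th root of unity. -/
theorem root_one (hq : Fintype.card F = q) (hord : orderOf (q : ZMod n) ≠ 1) {d : F} (hd : d ^ n = 1) : d = 1 := by
  have hd0 : d ≠ 0 := fun h => by rw [h, zero_pow hnp.out.ne_zero] at hd; exact zero_ne_one hd
  have h1 : d ^ (q - 1) = 1 := hq ▸ FiniteField.pow_card_sub_one_eq_one d hd0
  have hco : Nat.gcd n (q - 1) = 1 :=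
    (Nat.Prime.coprime_iff_not_dvd hnp.out).2 fun h => hord ((PrimeElemFlags.order_eq_one_iff hq).2 h)
  simpa [hco] using pow_gcd_eq_one.2 ⟨hd, h1⟩

/-- The average over the powers. -/
theorem exists_projection {y : End F (Fin n → F)} (hy : y ^ n = 1) (hn0 : (n : F) ≠ 0) :
    ∃ π : End F (Fin n → F), (∀ v, y (π v) = π v) ∧ (∀ v, π (y v) = π v) ∧ (∀ v, y v = v → π v = v) ∧
      ∀ v, aeval y (cyclotomic n F) v = (n : F) • π v := by
  refine ⟨(n : F)⁻¹ • ∑ j ∈ Finset.range n, y ^ j, ?_, ?_, ?_, ?_⟩
  · intro v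
    simp only [LinearMap.smul_apply, LinearMap.sum_apply, map_smul, map_sum]
    congr 1
    have h := Finset.sum_range_succ' (fun j => (y ^ j) v) n
    rw [Finset.sum_range_succ] at h
    simp only [hy, End.one_apply, pow_zero, add_left_inj] at h
    rw [h]
    exact Finset.sum_congr rfl fun j _ => by rw [pow_succ', End.mul_apply]
  · intro v
    simp only [LinearMap.smul_apply, LinearMap.sum_apply]
    congr 1
    have h := Finset.sum_range_succ' (fun j => (y ^ j) v) n
    rw [Finset.sum_range_succ] at h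
    simp only [hy, End.one_apply, pow_zero, add_left_inj] at h
    rw [h]
    exact Finset.sum_congr rfl fun j _ => by rw [pow_succ, End.mul_apply]
  · intro v hv
    have hj : ∀ j : ℕ, (y ^ j) v = v := fun j => by
      induction j with
      | zero => simp
      | succ j ih => rw [pow_succ, End.mul_apply, hv, ih]
    simp only [LinearMap.smul_apply, LinearMap.sum_apply, hj, Finset.sum_const, Finset.card_range]
    rw [← Nat.cast_smul_eq_nsmul F, smul_smul, inv_mul_cancel₀ hn0, one_smul]
  · intro v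
    rw [LinearMap.smul_apply, smul_smul, mul_inv_cancel₀ hn0, one_smul, cyclotomic_prime, map_sum]
    simp

/-- When `q` is a primitive root every map of order `n` has a cyclic basis and fixes a line. -/
theorem exists_cyclic (hq : Fintype.card F = q) (hn3 : 2 < n) (hp : n ≠ p) (hord : orderOf (q : ZMod n) = n - 1)
    {y : End F (Fin n → F)} (hy : y ^ n = 1) (hy1 : y ≠ 1) :
    ∃ b : Basis (Fin n) F (Fin n → F), ∀ j : Fin n, b j = (y ^ (j : ℕ)) (b ⟨0, hnp.out.pos⟩) := by
  have hn0 : (n : F) ≠ 0 := PrimeElemFlags.cast_ne_zero hp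
  set Φ := cyclotomic n F
  have hΦd : Φ.natDegree = n - 1 := by rw [natDegree_cyclotomic, Nat.totient_prime hnp.out]
  have hΦ : Irreducible Φ := by
    obtain ⟨g, hg, hgd⟩ := WfDvdMonoid.exists_irreducible_factor
      (not_isUnit_of_natDegree_pos Φ (by omega)) (cyclotomic_ne_zero n F)
    have hgi := PrimeElemFlags.deg_eq hq hp g hg hgd
    rw [hord] at hgi
    exact (associated_of_dvd_of_natDegree_le hgd (cyclotomic_ne_zero n F) (by omega)).irreducible hg
  obtain ⟨π, hπ1, hπ2, hπ3, hπ4⟩ := exists_projection hy hn0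
  obtain ⟨v, hv0, hv⟩ : ∃ v, v ≠ 0 ∧ y v = v := by
    by_contra hne
    push Not at hne
    have hπ0 : ∀ z, π z = 0 := fun z => by
      by_contra h
      exact hne _ h (hπ1 z)
    have hΦy : aeval y Φ = 0 := LinearMap.ext fun z => by rw [hπ4, hπ0, smul_zero]; rfl
    obtain ⟨h1, -⟩ := PrimeElem.uniform_flag hΦ.squarefree hΦy (d := n - 1) (fun g hg hd => by
      rw [natDegree_eq_of_degree_eq (degree_eq_degree_of_associated (hg.associated_of_dvd hΦ hd)), hΦd])
    rw [Module.finrank_fin_fun] at h1
    have h2 : n - 1 ∣ 1 := by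
      have h4 := Nat.dvd_sub h1 dvd_rfl
      rwa [show n - (n - 1) = 1 by omega] at h4
    have := Nat.le_of_dvd one_pos h2
    omega
  obtain ⟨w, hw0, hw⟩ : ∃ w, w ≠ 0 ∧ π w = 0 := by
    obtain ⟨z, hz⟩ : ∃ z, π z ≠ z := by
      by_contra hne
      push Not at hne
      exact hy1 (LinearMap.ext fun z => by rw [← hne z, hπ1]; rfl)
    exact ⟨z - π z, sub_ne_zero.2 hz.symm, by rw [map_sub, hπ3 (π z) (hπ1 z), sub_self]⟩
  set u := v + w with hu
  have key : ∀ g : F[X], g.natDegree < n → aeval y g u = 0 → g = 0 := by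
    intro g hg h
    by_contra hg0
    have hπg : ∀ (f : F[X]) z, π (aeval y f z) = f.eval 1 • π z := by
      intro f
      induction f using Polynomial.induction_on with
      | C a => intro z; simp
      | add a b ha hb => intro z; simp [ha, hb, add_smul]
      | monomial j a ih =>
        intro z
        rw [pow_succ, ← mul_assoc, map_mul, End.mul_apply, aeval_X, ih, hπ2]
        simp
    have h1 : g.eval 1 = 0 := by
      have h2 := congrArg π h
      rw [hπg, map_zero, hu, map_add, hπ3 v hv, hw, add_zero] at h2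
      exact (smul_eq_zero.1 h2).resolve_right hv0
    have hgv : aeval y g v = 0 := by
      have := aeval_mem_fix v hv g
      rw [this, h1, zero_smul]
    have hgw : aeval y g w = 0 := by
      rw [hu, map_add, hgv, zero_add] at h
      exact h
    have hΦw : aeval y Φ w = 0 := by rw [hπ4, hw, smul_zero]
    have hdvd : Φ ∣ g := by
      by_contra hnd
      obtain ⟨a, b, hab⟩ := hΦ.coprime_iff_not_dvd.2 hnd
      have := congrArg (fun f => aeval y f w) hab
      simp only [map_add, map_mul, LinearMap.add_apply, End.mul_apply, hΦw, hgw, map_zero, add_zero, map_one,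
        End.one_apply] at this
      exact hw0 this.symm
    obtain ⟨h', rfl⟩ := hdvd
    have hh0 : h' ≠ 0 := right_ne_zero_of_mul hg0
    rw [eval_mul, show Φ.eval 1 = (n : F) from eval_one_cyclotomic_prime] at h1
    have hroot : h'.IsRoot 1 := (mul_eq_zero.1 h1).resolve_left hn0
    have := natDegree_pos_of_eval₂_root hh0 (RingHom.id F) hroot (fun x hx => hx)
    rw [natDegree_mul (cyclotomic_ne_zero n F) hh0, hΦd] at hg
    omega
  have hli : LinearIndependent F fun j : Fin n => (y ^ (j : ℕ)) u := by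
    rw [Fintype.linearIndependent_iff]
    intro c hc i
    have h0 := key (∑ j : Fin n, C (c j) * X ^ (j : ℕ)) ?_ ?_
    · have := congrArg (fun f => coeff f (i : ℕ)) h0
      simpa [coeff_C_mul_X_pow, Fin.val_inj] using this
    · refine lt_of_le_of_lt (natDegree_sum_le_of_forall_le (n := n - 1) _ _ fun j _ => ?_) (by omega)
      exact (natDegree_C_mul_X_pow_le _ _).trans (by omega)
    · rw [map_sum, LinearMap.sum_apply, ← hc]
      exact Finset.sum_congr rfl fun j _ => by simp
  have : Nonempty (Fin n) := ⟨⟨0, hnp.out.pos⟩⟩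
  refine ⟨basisOfLinearIndependentOfCardEqFinrank hli (by simp), fun j => ?_⟩
  simp
where
  aeval_mem_fix {y : End F (Fin n → F)} (v : Fin n → F) (hv : y v = v) (g : F[X]) : aeval y g v = g.eval 1 • v := by
    induction g using Polynomial.induction_on with
    | C a => simp
    | add a b ha hb => simp [ha, hb, add_smul]
    | monomial j a ih =>
      rw [pow_succ, ← mul_assoc, map_mul, End.mul_apply, aeval_X, hv, ih]
      simp

/-- All such maps are conjugate in the special linear group. -/
theorem exists_conj (hq : Fintype.card F = q) (hn3 : 2 < n) (hp : n ≠ p) (hord : orderOf (q : ZMod n) = n - 1)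
    (x S : Matrix.SpecialLinearGroup (Fin n) F) (hx : x ^ n = 1) (hx1 : x ≠ 1) (hS : S ^ n = 1) (hS1 : S ≠ 1) :
    ∃ P : Matrix.SpecialLinearGroup (Fin n) F, P⁻¹ * x * P = S := by
  classical
  have hlin : ∀ z : Matrix.SpecialLinearGroup (Fin n) F, z ^ n = 1 → z ≠ 1 →
      (Matrix.toLin' (z : M)) ^ n = 1 ∧ Matrix.toLin' (z : M) ≠ 1 := fun z h h1 => by
    refine ⟨?_, fun e => h1 (Subtype.ext (Matrix.toLin'.injective (e.trans ?_)))⟩
    · rw [← Matrix.toLin'_pow, ← Matrix.SpecialLinearGroup.coe_pow, h, Matrix.SpecialLinearGroup.coe_one, Matrix.toLin'_one]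
      rfl
    · rw [Matrix.SpecialLinearGroup.coe_one, Matrix.toLin'_one]; rfl
  obtain ⟨hy, hy1⟩ := hlin x hx hx1
  obtain ⟨hz, hz1⟩ := hlin S hS hS1
  set y := Matrix.toLin' (x : M) with hydef
  set z := Matrix.toLin' (S : M) with hzdef
  obtain ⟨b, hb⟩ := exists_cyclic hq hn3 hp hord hy hy1
  obtain ⟨b', hb'⟩ := exists_cyclic hq hn3 hp hord hz hz1
  let E := b'.equiv b (Equiv.refl _)
  have hE : ∀ v, y (E v) = E (z v) := by
    have : y ∘ₗ E.toLinearMap = E.toLinearMap ∘ₗ z := by
      refine b'.ext fun j => ?_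
      simp only [LinearMap.comp_apply, LinearEquiv.coe_coe, E, Basis.equiv_apply, Equiv.refl_apply]
      rw [hb j, hb' j, ← End.mul_apply, ← pow_succ', ← End.mul_apply, ← pow_succ']
      by_cases hj : (j : ℕ) + 1 < n
      · rw [← hb' ⟨_, hj⟩, Basis.equiv_apply, ← hb ⟨_, hj⟩, Equiv.refl_apply]
      · rw [show (j : ℕ) + 1 = n by omega, hy, hz, End.one_apply, End.one_apply, Basis.equiv_apply, Equiv.refl_apply]
    exact fun v => LinearMap.congr_fun this v
  obtain ⟨π, hπ1, hπ2, hπ3, hπ4⟩ := exists_projection hz (PrimeElemFlags.cast_ne_zero hp)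
  set d := LinearMap.det E.toLinearMap with hd
  have hd0 : d ≠ 0 := E.isUnit_det'.ne_zero
  -- a map commuting with `z` with a prescribed determinant
  obtain ⟨C, hCdet, hC⟩ : ∃ C : End F (Fin n → F), LinearMap.det C = d⁻¹ ∧ ∀ v, z (C v) = C (z v) := by
    obtain ⟨v, hv0, hv⟩ : ∃ v, v ≠ 0 ∧ z v = v := by
      refine ⟨π (b' ⟨0, hnp.out.pos⟩), fun h0 => ?_, hπ1 _⟩
      have hk : ∀ j : Fin n, π (b' j) = 0 := fun j => by
        rw [hb' j]
        induction (j : ℕ) with
        | zero => simpa using h0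
        | succ k ih => rw [pow_succ', End.mul_apply, hπ2]; exact ih
      have hπz : π = 0 := b'.ext fun j => by simpa using hk j
      have hΦy : aeval z (cyclotomic n F) = 0 := LinearMap.ext fun v => by rw [hπ4, hπz]; simp
      obtain ⟨h1, -⟩ := PrimeElem.uniform_flag (PrimeElemFlags.sq (PrimeElemFlags.cast_ne_zero hp) one_ne_zero |>.squarefree_of_dvd
        ((Dvd.intro _ (cyclotomic_prime_mul_X_sub_one F n)).trans (by rw [map_one]))) hΦy (d := n - 1)
        (fun g hg hd => (PrimeElemFlags.deg_eq hq hp g hg hd).trans hord)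
      rw [Module.finrank_fin_fun] at h1
      have h2 : n - 1 ∣ 1 := by
        have h4 := Nat.dvd_sub h1 dvd_rfl
        rwa [show n - (n - 1) = 1 by omega] at h4
      have := Nat.le_of_dvd one_pos h2
      omega
    obtain ⟨i, hi⟩ := Function.ne_iff.1 hv0
    rw [Pi.zero_apply] at hi
    have hline : ∀ w, π w = (π w i / v i) • v := by
      intro w
      obtain ⟨a, ha⟩ : ∃ a : F, π w = a • v := by
        by_contra hne
        push Not at hne
        have hli : LinearIndependent F ![v, π w] := (LinearIndependent.pair_iff' hv0).2 fun a h => hne a h.symm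
        have hsp : Submodule.span F (Set.range ![v, π w]) ≤ LinearMap.ker (z - 1) := by
          refine Submodule.span_le.2 ?_
          rintro _ ⟨j, rfl⟩
          fin_cases j <;> simp [hv, hπ1]
        have h2 := Submodule.finrank_mono hsp
        rw [finrank_span_eq_card hli, Fintype.card_fin] at h2
        have hle : LinearMap.ker (z - 1) ≤ Submodule.span F {π (b' ⟨0, hnp.out.pos⟩)} := by
          intro w' hw'
          rw [LinearMap.mem_ker, LinearMap.sub_apply, End.one_apply, sub_eq_zero] at hw'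
          rw [← hπ3 w' hw', ← b'.sum_repr w', map_sum]
          refine Submodule.sum_mem _ fun j _ => ?_
          rw [map_smul]
          refine Submodule.smul_mem _ _ ?_
          have hk : π (b' j) = π (b' ⟨0, hnp.out.pos⟩) := by
            rw [hb' j]
            induction (j : ℕ) with
            | zero => simp
            | succ k ih => rw [pow_succ', End.mul_apply, hπ2]; exact ih
          rw [hk]
          exact Submodule.mem_span_singleton_self _
        have h3 := (Submodule.finrank_mono hle).trans (finrank_span_le_card _)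
        rw [Set.toFinset_singleton, Finset.card_singleton] at h3
        omega
      rw [ha, Pi.smul_apply, smul_eq_mul, mul_div_cancel_right₀ _ hi]
    let φ : (Fin n → F) →ₗ[F] F := ((v i)⁻¹ * (d⁻¹ - 1)) • (LinearMap.proj i ∘ₗ π)
    refine ⟨1 + φ.smulRight v, ?_, fun w => ?_⟩
    · rw [← LinearMap.det_toMatrix']
      have e : LinearMap.toMatrix' (1 + φ.smulRight v) =
          1 + Matrix.replicateCol Unit v * Matrix.replicateRow Unit (fun j => φ (Pi.single j 1)) := by
        ext a c
        simp [LinearMap.toMatrix'_apply, Matrix.one_apply, Pi.single_apply, Matrix.mul_apply, mul_comm]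
      rw [e, Matrix.det_one_add_replicateCol_mul_replicateRow]
      have hφv : φ v = d⁻¹ - 1 := by
        simp only [φ, LinearMap.smul_apply, LinearMap.comp_apply, LinearMap.proj_apply, hπ3 v hv, smul_eq_mul]
        field_simp
      have h5 : (fun j => φ (Pi.single j 1)) ⬝ᵥ v = φ v := by
        conv_rhs => rw [pi_eq_sum_univ' v, map_sum]
        simp [dotProduct, mul_comm]
      rw [h5, hφv, add_sub_cancel]
    · have h1 : φ (z w) = φ w := by simp [φ, hπ2]
      simp [h1, hv]
  let T := E.toLinearMap ∘ₗ C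
  have hT : (LinearMap.toMatrix' T).det = 1 := by
    rw [LinearMap.det_toMatrix', LinearMap.det_comp, hCdet, ← hd, mul_inv_cancel₀ hd0]
  let P : Matrix.SpecialLinearGroup (Fin n) F := ⟨LinearMap.toMatrix' T, hT⟩
  refine ⟨P, ?_⟩
  have h : x * P = P * S := Subtype.ext (by
    rw [Matrix.SpecialLinearGroup.coe_mul, Matrix.SpecialLinearGroup.coe_mul]
    refine Matrix.toLin'.injective ?_
    rw [Matrix.toLin'_mul, Matrix.toLin'_mul]
    show y ∘ₗ Matrix.toLin' (LinearMap.toMatrix' T) = Matrix.toLin' (LinearMap.toMatrix' T) ∘ₗ z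
    rw [Matrix.toLin'_toMatrix']
    refine LinearMap.ext fun v => ?_
    simp only [T, LinearMap.comp_apply, LinearEquiv.coe_coe]
    rw [hE, hC])
  rw [mul_assoc, h, inv_mul_cancel_left]

/-- A map fixing two independent vectors. -/
theorem exists_bad (hq : Fintype.card F = q) (hn3 : 3 < n) (hp : n ≠ p) (hord : orderOf (q : ZMod n) ≠ n - 1) :
    ∃ x : Matrix.SpecialLinearGroup (Fin n) F, x ^ n = 1 ∧ (∀ a : F, (x : M) ≠ a • 1) ∧
      ∃ v w, v ≠ 0 ∧ (x : M).mulVec v = v ∧ (x : M).mulVec w = w ∧ ∀ a : F, w ≠ a • v := by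
  classical
  have hi0 := PrimeElemFlags.order_pos (r := n) hq hp
  have hidvd : orderOf (q : ZMod n) ∣ n - 1 := ZMod.orderOf_dvd_card_sub_one fun h => by
    rw [h, orderOf_eq_zero] at hi0
    · exact lt_irrefl 0 hi0
    · rw [isOfFinOrder_iff_pow_eq_one]
      rintro ⟨m, hm, hm1⟩
      rw [zero_pow hm.ne'] at hm1
      exact zero_ne_one hm1
  set i := orderOf (q : ZMod n) with hidef
  by_cases hi1 : i = 1
  · have hdvd := (PrimeElemFlags.order_eq_one_iff (r := n) hq).1 hi1
    obtain ⟨ζ, hζ⟩ := exists_prime_orderOf_dvd_card' (G := Fˣ) n (by rwa [PrimeElemFlags.card_sub_one hq])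
    let a0 : Fin n := ⟨0, by omega⟩
    let a1 : Fin n := ⟨1, by omega⟩
    let a2 : Fin n := ⟨2, by omega⟩
    let a3 : Fin n := ⟨3, by omega⟩
    let d : Fin n → F := fun j => if j = a0 then (ζ : F) else if j = a1 then ((ζ⁻¹ : Fˣ) : F) else 1
    have hdet : (Matrix.diagonal d).det = 1 := by
      rw [Matrix.det_diagonal, Finset.prod_eq_mul a0 a1 (by simp [a0, a1]) (fun j _ h => by simp [d, h.1, h.2])
        (fun h => absurd (Finset.mem_univ _) h) (fun h => absurd (Finset.mem_univ _) h)]
      simp [d, a0, a1]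
    have hpow : (ζ : F) ^ n = 1 := by rw [← Units.val_pow_eq_pow_val, ← hζ, pow_orderOf_eq_one, Units.val_one]
    let x0 : Matrix.SpecialLinearGroup (Fin n) F := ⟨Matrix.diagonal d, hdet⟩
    refine ⟨x0, Subtype.ext ?_, fun a ha => ?_, Pi.single a2 1, Pi.single a3 1, ?_, ?_, ?_, ?_⟩
    · rw [Matrix.SpecialLinearGroup.coe_pow, Matrix.SpecialLinearGroup.coe_one]
      show Matrix.diagonal d ^ n = 1
      rw [Matrix.diagonal_pow, ← Matrix.diagonal_one]
      congr 1
      funext j
      show d j ^ n = 1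
      simp only [d]
      split_ifs <;> simp [hpow]
    · have ha' : Matrix.diagonal d = a • (1 : M) := ha
      have h0 := congrFun (congrFun ha' a0) a0
      have h2 := congrFun (congrFun ha' a2) a2
      simp [d, a0, a1, a2] at h0 h2
      rw [← h2, Units.val_eq_one] at h0
      rw [h0, orderOf_one] at hζ
      omega
    · simp
    · show (Matrix.diagonal d).mulVec _ = _
      funext j; rw [Matrix.mulVec_diagonal]; by_cases hj : j = a2 <;> simp [hj, d, a0, a1, a2]
    · show (Matrix.diagonal d).mulVec _ = _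
      funext j; rw [Matrix.mulVec_diagonal]; by_cases hj : j = a3 <;> simp [hj, d, a0, a1, a3]
    · intro a h
      have := congrFun h a3
      simp [a2, a3] at this
  · obtain ⟨g, hg, hgd⟩ := WfDvdMonoid.exists_irreducible_factor
      (not_isUnit_of_natDegree_pos (cyclotomic n F) (by rw [natDegree_cyclotomic, Nat.totient_prime hnp.out]; omega))
      (cyclotomic_ne_zero n F)
    have : Fact (Irreducible g) := ⟨hg⟩
    have hgi : g.natDegree = i := PrimeElemFlags.deg_eq hq hp g hg hgd
    have : FiniteDimensional F (AdjoinRoot g) := (AdjoinRoot.powerBasis hg.ne_zero).finite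
    have hfr : finrank F (AdjoinRoot g) = i := by
      rw [(AdjoinRoot.powerBasis hg.ne_zero).finrank, AdjoinRoot.powerBasis_dim, hgi]
    let α : AdjoinRoot g := AdjoinRoot.root g
    have hcyc : aeval α (cyclotomic n F) = 0 := by
      obtain ⟨Q, hQ⟩ := hgd
      rw [hQ, map_mul, AdjoinRoot.aeval_eq, AdjoinRoot.mk_self, zero_mul]
    have hα : α ^ n = 1 := by
      have h := congrArg (aeval α) (cyclotomic_prime_mul_X_sub_one F n)
      rw [map_mul, hcyc, zero_mul, map_sub, map_pow, aeval_X, map_one] at h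
      exact sub_eq_zero.1 h.symm
    have hα1 : α ≠ 1 := by
      intro h
      rw [h, cyclotomic_prime, map_sum] at hcyc
      simp at hcyc
      exact PrimeElemFlags.cast_ne_zero (F := F) hp ((map_eq_zero (algebraMap F (AdjoinRoot g))).1 (by
        rw [map_natCast]; exact hcyc))
    have hle : i ≤ n - 2 := by
      have := Nat.le_of_dvd (by omega) hidvd
      omega
    let y : End F (AdjoinRoot g × (Fin (n - i) → F)) := (Algebra.lsmul F F (AdjoinRoot g) α).prodMap (1 : End F (Fin (n - i) → F))
    have hy : y ^ n = 1 := by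
      rw [PrimeElemFlags.prodMap_pow', ← map_pow, hα, map_one, one_pow, LinearMap.prodMap_one]
    let e : (AdjoinRoot g × (Fin (n - i) → F)) ≃ₗ[F] (Fin n → F) := LinearEquiv.ofFinrankEq _ _ (by
      rw [Module.finrank_prod, hfr, Module.finrank_fin_fun, Module.finrank_fin_fun]; omega)
    have hey : (e.conj y) ^ n = 1 := by
      rw [PrimeElemFlags.conj_pow, hy, End.one_eq_id, LinearEquiv.conj_id, ← End.one_eq_id]
    let x : Matrix.SpecialLinearGroup (Fin n) F := ⟨LinearMap.toMatrix' (e.conj y), by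
      rw [LinearMap.det_toMatrix']
      exact root_one hq hi1 (by rw [← map_pow, hey, map_one])⟩
    have hxv : ∀ v, (x : M).mulVec v = e (y (e.symm v)) := fun v => by
      show (LinearMap.toMatrix' (e.conj y)).mulVec v = _
      rw [← Matrix.toLin'_apply, Matrix.toLin'_toMatrix']
      rfl
    refine ⟨x, Subtype.ext ?_, fun a ha => ?_, e (0, Pi.single ⟨0, by omega⟩ 1), e (0, Pi.single ⟨1, by omega⟩ 1),
      ?_, ?_, ?_, ?_⟩
    · rw [Matrix.SpecialLinearGroup.coe_pow, Matrix.SpecialLinearGroup.coe_one]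
      refine Matrix.toLin'.injective ?_
      rw [Matrix.toLin'_pow, Matrix.toLin'_one]
      show (Matrix.toLin' (LinearMap.toMatrix' (e.conj y))) ^ n = LinearMap.id
      rw [Matrix.toLin'_toMatrix', hey]
      rfl
    · have h1 : ∀ z, y z = a • z := fun z => e.injective (by
        have h2 := hxv (e z)
        rw [ha, e.symm_apply_apply, Matrix.smul_mulVec, Matrix.one_mulVec] at h2
        rw [map_smul, h2])
      have h2 := congrArg Prod.snd (h1 (0, Pi.single ⟨0, by omega⟩ 1))
      have ha1 : a = 1 := by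
        have h3 := congrFun h2 ⟨0, by omega⟩
        simpa [y] using h3.symm
      have h3 := congrArg Prod.fst (h1 (1, 0))
      rw [ha1, one_smul] at h3
      exact hα1 (by simpa [y] using h3)
    · rw [ne_eq, LinearEquiv.map_eq_zero_iff, Prod.mk_eq_zero]
      simp
    · rw [hxv, e.symm_apply_apply]; simp [y]
    · rw [hxv, e.symm_apply_apply]; simp [y]
    · intro a h
      rw [← map_smul, e.injective.eq_iff] at h
      have := congrFun (congrArg Prod.snd h) ⟨1, by omega⟩
      simp at this

end

/-- Elements of order `n` of PSL_n(q), `n` prime, and the normalizer of a Singer cycle. Here `T = PSL_n(F)` for a field `F` with `q = p^f` elements (`n ≥ 2`, `(n, q) ≠ (2, 2), (2, 3)`), `k` is a prime dividing `n`, `K` is a subalgebra of the `n × n` matrices that is a field of degree `k` over `F` (an extension-field structure F_{q^k} on `F^n`), and `H` is the subgroup of matrices of determinant 1 normalizing `K` — a subgroup of type GL_{n/k}(q^k) (maximal except in some small cases; maximality is not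 assumed); Ω is the set of cosets of `H` in `T`, so an element of `T` of prime order `r` (a matrix `x` of determinant 1 with `x^r` scalar, `x` not scalar) fixes a point of Ω when some conjugate of `x` by a matrix of determinant 1 normalizes `K`. Take `k = n > 3` prime with `n ≠ p` (so `H` is the normalizer of a Singer cycle), and suppose `n` divides the index of `H`. Then every element of `T` of order `n` is conjugate in `T` into `H` if and only if the multiplicative order of `q` modulo `n` is `n − 1`. -/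
theorem result {F : Type*} [Field F] [Fintype F] {p : ℕ} [Fact p.Prime] [CharP F p] {q : ℕ} (hq : Fintype.card F = q)
    (n : ℕ) (hn : 2 ≤ n) (hT : (n, q) ≠ (2, 2) ∧ (n, q) ≠ (2, 3))
    (k : ℕ) (hk : k.Prime) (hkn : k ∣ n) (K : Subalgebra F (Matrix (Fin n) (Fin n) F)) (hK : Cfsg.Geo.IsFieldSubalgebra k K) (hkn' : k = n) (hn3 : 3 < n) (hnp : n ≠ p) (hΩ : n ∣ ((Cfsg.Geo.subalgebraNormalizer K).comap (Matrix.SpecialLinearGroup.toGL : Matrix.SpecialLinearGroup (Fin n) F →* GL (Fin n) F)).index) :
    (∀ x : Matrix.SpecialLinearGroup (Fin n) F,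
      (∃ z : F, ((x ^ n : Matrix.SpecialLinearGroup (Fin n) F) : Matrix (Fin n) (Fin n) F) = z • (1 : Matrix (Fin n) (Fin n) F)) →
      (∀ z : F, (x : Matrix (Fin n) (Fin n) F) ≠ z • (1 : Matrix (Fin n) (Fin n) F)) →
      ∃ P : Matrix.SpecialLinearGroup (Fin n) F, P⁻¹ * x * P ∈ ((Cfsg.Geo.subalgebraNormalizer K).comap (Matrix.SpecialLinearGroup.toGL : Matrix.SpecialLinearGroup (Fin n) F →* GL (Fin n) F))) ↔
    orderOf (q : ZMod n) = n - 1 := by
  classical
  subst hkn'
  have : Fact k.Prime := ⟨hk⟩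
  constructor
  · intro h
    by_contra hne
    obtain ⟨x, hx, hns, v, w, hv0, hv, hw, hvw⟩ := exists_bad hq hn3 hnp hne
    obtain ⟨P, hP⟩ := h x ⟨1, by rw [hx, one_smul, Matrix.SpecialLinearGroup.coe_one]⟩ hns
    rw [Subgroup.mem_comap] at hP
    set Pi' := ((P⁻¹ : Matrix.SpecialLinearGroup (Fin k) F) : Matrix (Fin k) (Fin k) F)
    have hPP : (P : Matrix (Fin k) (Fin k) F) * Pi' = 1 := by
      rw [← Matrix.SpecialLinearGroup.coe_mul, mul_inv_cancel, Matrix.SpecialLinearGroup.coe_one]
    have hfix : ∀ z, (x : Matrix (Fin k) (Fin k) F).mulVec z = z →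
        ((P⁻¹ * x * P : Matrix.SpecialLinearGroup (Fin k) F) : Matrix (Fin k) (Fin k) F).mulVec (Pi'.mulVec z) = Pi'.mulVec z := by
      intro z hz
      rw [Matrix.SpecialLinearGroup.coe_mul, Matrix.SpecialLinearGroup.coe_mul, Matrix.mulVec_mulVec, mul_assoc, hPP,
        mul_one, ← Matrix.mulVec_mulVec, hz]
    have hback : ∀ z, (P : Matrix (Fin k) (Fin k) F).mulVec (Pi'.mulVec z) = z := fun z => by
      rw [Matrix.mulVec_mulVec, hPP, Matrix.one_mulVec]
    obtain ⟨a, ha⟩ := fixed_line hk hK (P⁻¹ * x * P) (by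
      rw [show (P⁻¹ * x * P) ^ k = P⁻¹ * x ^ k * P by simpa using conj_pow (a := P⁻¹) (b := x) (i := k), hx, mul_one,
        inv_mul_cancel]) (fun a ha => hns a (by
        have h2 : x = P * (P⁻¹ * x * P) * P⁻¹ := by group
        rw [h2, Matrix.SpecialLinearGroup.coe_mul, Matrix.SpecialLinearGroup.coe_mul, ha, Matrix.mul_smul, mul_one,
          Matrix.smul_mul, hPP])) hP
      (v := Pi'.mulVec v) (fun h0 => hv0 (by rw [← hback v, h0, Matrix.mulVec_zero])) (hfix v hv) (hfix w hw)
    exact hvw a (by rw [← hback w, ha, Matrix.mulVec_smul, hback])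
  · rintro hord x ⟨z, hz⟩ hns
    have hord1 : orderOf (q : ZMod k) ≠ 1 := by omega
    have hroot : ∀ d : F, d ^ k = 1 → d = 1 := fun d hd => root_one hq hord1 hd
    have hx : x ^ k = 1 := by
      have hz1 : z = 1 := by
        have h1 := congrArg Matrix.det hz
        rw [(x ^ k).2, Matrix.det_smul, Fintype.card_fin, Matrix.det_one, mul_one] at h1
        exact hroot z h1.symm
      exact Subtype.ext (by rw [hz, hz1, one_smul, Matrix.SpecialLinearGroup.coe_one])
    obtain ⟨S, hS, hS1, hSK⟩ := exists_semilinear hk hK hroot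
    obtain ⟨P, hP⟩ := exists_conj hq (by omega) hnp hord x S hx (fun h => hns 1 (by rw [h, one_smul, Matrix.SpecialLinearGroup.coe_one])) hS hS1
    exact ⟨P, by rw [Subgroup.mem_comap, hP]; exact hSK⟩


end Cfsg.Agent.S5970
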