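import Cfsg.Statements.S5971
import Cfsg.Agent.S5970
import Cfsg.Agent.Lib.Classical.LinearCard
import Mathlib

set_option autoImplicit false
set_option maxHeartbeats 1000000
open scoped MatrixGroups
open Cfsg

namespace Cfsg.Agent.S5971


open Module Polynomial Cfsg.Agent.Lib.MaxSub

variable {F : Type*} [Field F] {n : ℕ}

local notation "M" => Matrix (Fin n) (Fin n) F

/-- Normalising non-scalar elements have one-dimensional eigenspaces. -/
theorem eigen_line (hn : n.Prime) {K : Subalgebra F M} (hK : Cfsg.Geo.IsFieldSubalgebra n K)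
    (g : GL (Fin n) F) (hns : ∀ a : F, (g : M) ≠ a • 1) (hg : g ∈ Cfsg.Geo.subalgebraNormalizer K)
    {c : F} (hc : c ≠ 0) {v w : Fin n → F} (hv0 : v ≠ 0) (hv : (g : M).mulVec v = c • v) (hw : (g : M).mulVec w = c • w) :
    ∃ a : F, w = a • v := by
  classical
  letI : Field K := (S5970.isField hn.pos hK).toField
  obtain ⟨ψ, hψ⟩ := S5970.exists_eval hK hv0
  have : FiniteDimensional F K := Module.Finite.equiv ψ.symm
  have : IsSimpleOrder (Subalgebra F K) := Subalgebra.isSimpleOrder_of_finrank_prime F K (by rw [hK.finrank_eq]; exact hn)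
  let C : Subalgebra F K :=
    { carrier := {a | (g : M) * (a : M) = (a : M) * (g : M)}
      mul_mem' := fun {a b} ha hb => by
        show (g : M) * ((a : M) * (b : M)) = (a : M) * (b : M) * (g : M)
        rw [← mul_assoc, ha, mul_assoc, hb, mul_assoc]
      one_mem' := by show (g : M) * 1 = 1 * (g : M); simp
      add_mem' := fun {a b} ha hb => by
        show (g : M) * ((a : M) + (b : M)) = ((a : M) + (b : M)) * (g : M)
        rw [mul_add, add_mul, ha, hb]
      zero_mem' := by show (g : M) * 0 = 0 * (g : M); simp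
      algebraMap_mem' := fun c => by
        show (g : M) * (algebraMap F M c) = algebraMap F M c * (g : M)
        exact (Algebra.commutes c _).symm }
  rcases eq_bot_or_eq_top C with hC | hC
  · obtain ⟨l, hl⟩ := ψ.surjective w
    rw [hψ] at hl
    have hlC : l ∈ C := by
      have hinv : ((g⁻¹ : GL (Fin n) F) : M) * (g : M) = 1 := by rw [← Units.val_mul, inv_mul_cancel, Units.val_one]
      have hm : (g : M) * (l : M) * ((g⁻¹ : GL (Fin n) F) : M) ∈ K := (hg _).1 l.2
      have hv' : ((g⁻¹ : GL (Fin n) F) : M).mulVec v = c⁻¹ • v := by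
        have h := congrArg (fun z => ((g⁻¹ : GL (Fin n) F) : M).mulVec z) hv
        simp only [Matrix.mulVec_mulVec, hinv, Matrix.one_mulVec, Matrix.mulVec_smul] at h
        conv_rhs => rw [h, smul_smul, inv_mul_cancel₀ hc, one_smul]
      have h1 : (⟨_, hm⟩ : K) = l := ψ.injective (by
        rw [hψ, hψ, ← Matrix.mulVec_mulVec, ← Matrix.mulVec_mulVec, hv', Matrix.mulVec_smul, Matrix.mulVec_smul, hl,
          hw, smul_smul, inv_mul_cancel₀ hc, one_smul])
      show (g : M) * (l : M) = (l : M) * (g : M)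
      conv_rhs => rw [← h1]
      rw [mul_assoc, hinv, mul_one]
    rw [hC, Algebra.mem_bot] at hlC
    obtain ⟨a, rfl⟩ := hlC
    refine ⟨a, ?_⟩
    rw [← hl]
    show (algebraMap F M a).mulVec v = a • v
    rw [Algebra.algebraMap_eq_smul_one, Matrix.smul_mulVec, Matrix.one_mulVec]
  · exfalso
    apply hns c
    refine Matrix.ext_iff_mulVec.2 fun z => ?_
    obtain ⟨l, rfl⟩ := ψ.surjective z
    have hlC : l ∈ C := hC ▸ Algebra.mem_top
    rw [hψ, Matrix.mulVec_mulVec, show (g : M) * (l : M) = (l : M) * (g : M) from hlC, ← Matrix.mulVec_mulVec, hv,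
      Matrix.mulVec_smul, Matrix.smul_mulVec, Matrix.one_mulVec]

/-- A basis of eigenvectors of a map of order three. -/
theorem exists_eigenbasis {ω : F} (hω : ω ^ 3 = 1) (hω1 : ω ≠ 1) (h3 : (3 : F) ≠ 0) {y : End F (Fin n → F)}
    (hy : y ^ 3 = 1) :
    ∃ (b : Basis (Fin n) F (Fin n → F)) (e : Fin n → F), ∀ j, e j ^ 3 = 1 ∧ y (b j) = e j • b j := by
  classical
  let s : Set (Fin n → F) := {v | ∃ c : F, c ^ 3 = 1 ∧ y v = c • v}
  have hy3 : ∀ v, y (y (y v)) = v := fun v => by
    have := LinearMap.congr_fun hy v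
    simpa [pow_succ, End.mul_apply] using this
  have hsum : ω * ω + ω + 1 = 0 := by
    have h : (ω - 1) * (ω * ω + ω + 1) = 0 := by linear_combination hω
    exact (mul_eq_zero.1 h).resolve_left (sub_ne_zero.2 hω1)
  have hs : ⊤ ≤ Submodule.span F s := by
    intro v _
    have hmem : ∀ c : F, c ^ 3 = 1 → (c * c) • y v + c • y (y v) + v ∈ s := fun c hc => ⟨c, hc, by
      simp only [map_add, map_smul, hy3, smul_add, smul_smul]
      rw [show c * (c * c) = 1 by rw [← hc]; ring, one_smul]
      abel⟩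
    have h0 := Submodule.subset_span (R := F) (hmem 1 (one_pow 3))
    have h1 := Submodule.subset_span (R := F) (hmem ω hω)
    have h2 := Submodule.subset_span (R := F) (hmem (ω * ω) (by rw [mul_pow, hω, one_mul]))
    have h := Submodule.smul_mem _ (3 : F)⁻¹ (add_mem (add_mem h0 h1) h2)
    have e : (3 : F)⁻¹ • ((((1 : F) * 1) • y v + (1 : F) • y (y v) + v) + ((ω * ω) • y v + ω • y (y v) + v) +
        ((ω * ω * (ω * ω)) • y v + (ω * ω) • y (y v) + v)) = v := by
      rw [show ω * ω * (ω * ω) = ω by linear_combination ω * hω]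
      rw [show (((1 : F) * 1) • y v + (1 : F) • y (y v) + v) + ((ω * ω) • y v + ω • y (y v) + v) +
        (ω • y v + (ω * ω) • y (y v) + v) = (ω * ω + ω + 1) • (y v + y (y v)) + (3 : F) • v by module, hsum, zero_smul,
        zero_add, smul_smul, inv_mul_cancel₀ h3, one_smul]
    rwa [e] at h
  let b0 := Basis.ofSpan hs
  have hb0 : ∀ i, b0 i ∈ s := fun i => Basis.ofSpan_subset hs ⟨i, rfl⟩
  have := FiniteDimensional.fintypeBasisIndex b0
  let E := Fintype.equivFinOfCardEq ((Module.finrank_eq_card_basis b0).symm.trans (Module.finrank_fin_fun F))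
  choose c hc hyc using hb0
  exact ⟨b0.reindex E, fun j => c (E.symm j), fun j => ⟨hc _, by rw [Basis.reindex_apply]; exact hyc _⟩⟩

theorem roots_cases {ω : F} (hω : ω ^ 3 = 1) (hω1 : ω ≠ 1) {c : F} (hc : c ^ 3 = 1) : c = 1 ∨ c = ω ∨ c = ω * ω := by
  have hsum : ω * ω + ω + 1 = 0 := by
    have h : (ω - 1) * (ω * ω + ω + 1) = 0 := by linear_combination hω
    exact (mul_eq_zero.1 h).resolve_left (sub_ne_zero.2 hω1)
  have h : (c - 1) * ((c - ω) * (c - ω * ω)) = 0 := by
    linear_combination hc + (c - 1) * hω + (c - c * c) * hsum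
  rcases mul_eq_zero.1 h with h | h
  · exact Or.inl (sub_eq_zero.1 h)
  rcases mul_eq_zero.1 h with h | h
  · exact Or.inr (Or.inl (sub_eq_zero.1 h))
  · exact Or.inr (Or.inr (sub_eq_zero.1 h))

/-- An injective labelling of three points by cube roots of unity. -/
theorem prod_eq_one {ω : F} (hω : ω ^ 3 = 1) (hω1 : ω ≠ 1) {e : Fin 3 → F} (he : ∀ j, e j ^ 3 = 1)
    (hinj : Function.Injective e) : ∏ j, e j = 1 := by
  have h01 : e 0 ≠ e 1 := hinj.ne (by decide)
  have h02 : e 0 ≠ e 2 := hinj.ne (by decide)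
  have h12 : e 1 ≠ e 2 := hinj.ne (by decide)
  rw [Fin.prod_univ_three]
  have hω3 : ω * (ω * ω) = 1 := by rw [← hω]; ring
  rcases roots_cases hω hω1 (he 0) with a | a | a <;> rcases roots_cases hω hω1 (he 1) with b | b | b <;>
    rcases roots_cases hω hω1 (he 2) with c | c | c <;> rw [a, b] at h01 <;> rw [a, c] at h02 <;> rw [b, c] at h12 <;>
    first
    | exact absurd rfl h01
    | exact absurd rfl h02
    | exact absurd rfl h12
    | (rw [a, b, c]; linear_combination hω)

theorem injective_of_prod {ω : F} (hω : ω ^ 3 = 1) (hω1 : ω ≠ 1) {e : Fin 3 → F} (he : ∀ j, e j ^ 3 = 1)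
    (hp : ∏ j, e j = 1) (hne : ∀ c, ∃ j, e j ≠ c) : Function.Injective e := by
  have key : ∀ i j k : Fin 3, e i * e j * e k = 1 → e i = e j → e k = e i := by
    intro i j k h hij
    rw [← hij] at h
    have h3 := he i
    calc e k = e i ^ 3 * e k := by rw [h3, one_mul]
      _ = e i * (e i * e i * e k) := by ring
      _ = e i := by rw [h, mul_one]
  rw [Fin.prod_univ_three] at hp
  have h01 : e 0 ≠ e 1 := fun h => by
    obtain ⟨j, hj⟩ := hne (e 0)
    have := key 0 1 2 hp h
    fin_cases j <;> simp_all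
  have h02 : e 0 ≠ e 2 := fun h => by
    obtain ⟨j, hj⟩ := hne (e 0)
    have := key 0 2 1 (by rw [← hp]; ring) h
    fin_cases j <;> simp_all
  have h12 : e 1 ≠ e 2 := fun h => by
    obtain ⟨j, hj⟩ := hne (e 1)
    have := key 1 2 0 (by rw [← hp]; ring) h
    fin_cases j <;> simp_all
  intro i j h
  fin_cases i <;> fin_cases j <;> (first | rfl | exact absurd h h01 | exact absurd h h01.symm | exact absurd h h02 | exact absurd h h02.symm | exact absurd h h12 | exact absurd h h12.symm)

/-- Two injective labellings differ by a permutation. -/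
theorem exists_perm {ω : F} (hω : ω ^ 3 = 1) (hω1 : ω ≠ 1) {e e' : Fin 3 → F} (he : ∀ j, e j ^ 3 = 1)
    (he' : ∀ j, e' j ^ 3 = 1) (hinj : Function.Injective e) (hinj' : Function.Injective e') :
    ∃ σ : Equiv.Perm (Fin 3), ∀ j, e (σ j) = e' j := by
  classical
  have hsub : ∀ f : Fin 3 → F, (∀ j, f j ^ 3 = 1) → Function.Injective f →
      Finset.univ.image f = ({1, ω, ω * ω} : Finset F) := fun f hf hi => by
    refine Finset.eq_of_subset_of_card_le ?_ ?_
    · intro c hc
      obtain ⟨j, -, rfl⟩ := Finset.mem_image.1 hc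
      rcases roots_cases hω hω1 (hf j) with h | h | h <;> simp [h]
    · rw [Finset.card_image_of_injective _ hi, Finset.card_univ, Fintype.card_fin]
      exact (Finset.card_insert_le _ _).trans (Nat.succ_le_succ ((Finset.card_insert_le _ _).trans (by simp)))
  have h : ∀ j, ∃ i, e i = e' j := fun j => by
    have h1 : e' j ∈ Finset.univ.image e := by
      rw [hsub e he hinj, ← hsub e' he' hinj']
      exact Finset.mem_image_of_mem _ (Finset.mem_univ j)
    obtain ⟨i, -, hi⟩ := Finset.mem_image.1 h1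
    exact ⟨i, hi⟩
  choose σ hσ using h
  exact ⟨Equiv.ofBijective σ (Finite.injective_iff_bijective.1 fun a b hab => hinj' (by rw [← hσ a, ← hσ b, hab])), hσ⟩

/-- Conjugacy when the cube roots of unity are in the field. -/
theorem conj_split [Fintype F] {ω : F} (hω : ω ^ 3 = 1) (hω1 : ω ≠ 1) (h3 : (3 : F) ≠ 0)
    {K : Subalgebra F (Matrix (Fin 3) (Fin 3) F)} (hK : Cfsg.Geo.IsFieldSubalgebra 3 K)
    (x : Matrix.SpecialLinearGroup (Fin 3) F) (hx : x ^ 3 = 1) (hns : ∀ a : F, (x : Matrix (Fin 3) (Fin 3) F) ≠ a • 1) :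
    ∃ P : Matrix.SpecialLinearGroup (Fin 3) F,
      Matrix.SpecialLinearGroup.toGL (P⁻¹ * x * P) ∈ Cfsg.Geo.subalgebraNormalizer K := by
  classical
  obtain ⟨S, hS, hSns, hSK⟩ := S5970.exists_twist Nat.prime_three hK
  have hlin : ∀ A : Matrix (Fin 3) (Fin 3) F, A ^ 3 = 1 → Matrix.toLin' A ^ 3 = 1 := fun A hA => by
    rw [← Matrix.toLin'_pow, hA, Matrix.toLin'_one]; rfl
  obtain ⟨b, e, hb⟩ := exists_eigenbasis hω hω1 h3 (hlin (x : Matrix (Fin 3) (Fin 3) F) (by
    rw [← Matrix.SpecialLinearGroup.coe_pow, hx, Matrix.SpecialLinearGroup.coe_one]))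
  obtain ⟨b', e', hb'⟩ := exists_eigenbasis hω hω1 h3 (hlin (S : Matrix (Fin 3) (Fin 3) F) (by
    rw [← Units.val_pow_eq_pow_val, hS, Units.val_one]))
  set P := (Pi.basisFun F (Fin 3)).toMatrix b with hP
  set Q := (Pi.basisFun F (Fin 3)).toMatrix b' with hQ
  have hcols : ∀ (A : Matrix (Fin 3) (Fin 3) F) (c : Basis (Fin 3) F (Fin 3 → F)) (d : Fin 3 → F),
      (∀ j, Matrix.toLin' A (c j) = d j • c j) →
        A * (Pi.basisFun F (Fin 3)).toMatrix c = (Pi.basisFun F (Fin 3)).toMatrix c * Matrix.diagonal d := by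
    intro A c d h
    ext i j
    have h1 := congrFun (h j) i
    rw [Matrix.toLin'_apply, Matrix.mulVec, dotProduct, Pi.smul_apply, smul_eq_mul] at h1
    rw [Matrix.mul_diagonal, Matrix.mul_apply]
    simp only [Basis.toMatrix_apply, Pi.basisFun_repr]
    rw [h1, mul_comm]
  have hxP := hcols _ b e fun j => (hb j).2
  have hSQ := hcols _ b' e' fun j => (hb' j).2
  rw [← hP] at hxP
  rw [← hQ] at hSQ
  have hP0 : P.det ≠ 0 := by
    rw [hP, ← Basis.det_apply]; exact ((Pi.basisFun F (Fin 3)).isUnit_det b).ne_zero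
  have hQ0 : Q.det ≠ 0 := by
    rw [hQ, ← Basis.det_apply]; exact ((Pi.basisFun F (Fin 3)).isUnit_det b').ne_zero
  have hinj : Function.Injective e := by
    refine injective_of_prod hω hω1 (fun j => (hb j).1) ?_ ?_
    · have h := congrArg Matrix.det hxP
      rw [Matrix.det_mul, Matrix.det_mul, x.2, one_mul, Matrix.det_diagonal] at h
      exact mul_left_cancel₀ hP0 (h.symm.trans (mul_one _).symm)
    · intro c
      by_contra hne
      push Not at hne
      apply hns c
      have : (Matrix.diagonal e : Matrix (Fin 3) (Fin 3) F) = c • 1 := by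
        rw [funext hne, Matrix.smul_one_eq_diagonal]
      rw [this, Matrix.mul_smul, mul_one] at hxP
      have h := congrArg (· * P⁻¹) hxP
      simpa [mul_assoc, Matrix.mul_nonsing_inv _ (isUnit_iff_ne_zero.2 hP0)] using h
  have hinj' : Function.Injective e' := by
    intro i j hij
    by_contra hne
    have h0 : e' i ≠ 0 := fun h => by
      have := (hb' i).1
      rw [h] at this
      simp at this
    obtain ⟨a, ha⟩ := eigen_line Nat.prime_three hK S hSns hSK h0 (b'.ne_zero i)
      (by rw [← Matrix.toLin'_apply]; exact (hb' i).2) (w := b' j) (by rw [← Matrix.toLin'_apply, hij]; exact (hb' j).2)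
    have h := congrArg (fun v => b'.repr v j) ha
    simp [Finsupp.single_apply, hne] at h
  obtain ⟨σ, hσ⟩ := exists_perm hω hω1 (fun j => (hb j).1) (fun j => (hb' j).1) hinj hinj'
  set Pσ := (Pi.basisFun F (Fin 3)).toMatrix (b.reindex σ.symm) with hPσ
  have hxPσ : (x : Matrix (Fin 3) (Fin 3) F) * Pσ = Pσ * Matrix.diagonal e' := by
    refine hcols _ _ e' fun j => ?_
    rw [Basis.reindex_apply, Equiv.symm_symm, (hb _).2, hσ]
  have hPσ0 : Pσ.det ≠ 0 := by
    rw [hPσ, ← Basis.det_apply]; exact ((Pi.basisFun F (Fin 3)).isUnit_det _).ne_zero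
  let ε : Fin 3 → F := fun j => if j = 0 then Q.det * Pσ.det⁻¹ else 1
  let R := Pσ * Matrix.diagonal ε * Q⁻¹
  have hR : R.det = 1 := by
    simp only [R, Matrix.det_mul, Matrix.det_diagonal, Matrix.det_nonsing_inv, Ring.inverse_eq_inv', ε,
      Finset.prod_ite_eq', Finset.mem_univ, if_true]
    field_simp
  let R' : Matrix.SpecialLinearGroup (Fin 3) F := ⟨R, hR⟩
  have hQi : Q * Q⁻¹ = 1 := Matrix.mul_nonsing_inv _ (isUnit_iff_ne_zero.2 hQ0)
  have hQi' : Q⁻¹ * Q = 1 := Matrix.nonsing_inv_mul _ (isUnit_iff_ne_zero.2 hQ0)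
  have hxR : (x : Matrix (Fin 3) (Fin 3) F) * R = R * (S : Matrix (Fin 3) (Fin 3) F) := by
    have h2 : Q⁻¹ * (S : Matrix (Fin 3) (Fin 3) F) = Matrix.diagonal e' * Q⁻¹ := by
      have h := congrArg (fun A => Q⁻¹ * A * Q⁻¹) hSQ
      simp only [mul_assoc, hQi, mul_one] at h
      rw [h, ← mul_assoc, hQi', one_mul]
    calc (x : Matrix (Fin 3) (Fin 3) F) * R = (x : Matrix (Fin 3) (Fin 3) F) * Pσ * (Matrix.diagonal ε * Q⁻¹) := by
          simp only [R, mul_assoc]
      _ = Pσ * (Matrix.diagonal e' * Matrix.diagonal ε) * Q⁻¹ := by rw [hxPσ]; simp only [mul_assoc]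
      _ = Pσ * (Matrix.diagonal ε * Matrix.diagonal e') * Q⁻¹ := by
          rw [Matrix.diagonal_mul_diagonal, Matrix.diagonal_mul_diagonal]; simp only [mul_comm]
      _ = R * (S : Matrix (Fin 3) (Fin 3) F) := by simp only [R, mul_assoc, h2]
  refine ⟨R', ?_⟩
  have e1 : Matrix.SpecialLinearGroup.toGL (R'⁻¹ * x * R') = S := by
    rw [mul_assoc, map_mul, map_inv, inv_mul_eq_iff_eq_mul]
    exact Units.ext hxR
  rw [e1]
  exact hSK

/-- An element with a plane eigenspace. -/
theorem exists_bad [Fintype F] {p : ℕ} [Fact p.Prime] [CharP F p] {q : ℕ} (hq : Fintype.card F = q)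
    (h : q % 3 = 0 ∨ q % 9 = 1) :
    ∃ (x : Matrix.SpecialLinearGroup (Fin 3) F) (z c : F) (v w : Fin 3 → F),
      ((x ^ 3 : Matrix.SpecialLinearGroup (Fin 3) F) : Matrix (Fin 3) (Fin 3) F) = z • 1 ∧
      (∀ a : F, (x : Matrix (Fin 3) (Fin 3) F) ≠ a • 1) ∧ c ≠ 0 ∧ v ≠ 0 ∧
      (x : Matrix (Fin 3) (Fin 3) F).mulVec v = c • v ∧ (x : Matrix (Fin 3) (Fin 3) F).mulVec w = c • w ∧
      ∀ a : F, w ≠ a • v := by
  classical
  rcases h with h | h
  · have h3 : (3 : F) = 0 := by
      obtain ⟨⟨f, hf⟩, hp, hcard⟩ := FiniteField.card F p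
      have h3d : 3 ∣ p ^ f := by
        have : Fintype.card F = p ^ f := hcard
        omega
      have := (Nat.prime_dvd_prime_iff_eq Nat.prime_three hp).1 (Nat.prime_three.dvd_of_dvd_pow h3d)
      subst this
      exact CharP.cast_eq_zero F 3
    have h01 : (0 : Fin 3) ≠ 1 := by decide
    let x : Matrix.SpecialLinearGroup (Fin 3) F := ⟨Matrix.transvection 0 1 1, Matrix.det_transvection_of_ne _ _ h01 1⟩
    refine ⟨x, 1, 1, Pi.single 0 1, Pi.single 2 1, ?_, fun a ha => ?_, one_ne_zero, ?_, ?_, ?_, fun a ha => ?_⟩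
    · rw [Matrix.SpecialLinearGroup.coe_pow]
      show Matrix.transvection (0 : Fin 3) 1 (1 : F) ^ 3 = _
      rw [pow_succ, pow_two, Matrix.transvection_mul_transvection_same _ _ h01,
        Matrix.transvection_mul_transvection_same _ _ h01, show (1 : F) + 1 + 1 = 0 by rw [← h3]; norm_num,
        Matrix.transvection_zero, one_smul]
    · have := congrFun (congrFun (ha : Matrix.transvection (0 : Fin 3) 1 (1 : F) = a • 1) 0) 1
      simp [x, Matrix.transvection] at this
    · simp
    · show (Matrix.transvection (0 : Fin 3) 1 (1 : F)).mulVec _ = _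
      funext i; fin_cases i <;> simp [Matrix.transvection, Matrix.mulVec, dotProduct, Fin.sum_univ_three]
    · show (Matrix.transvection (0 : Fin 3) 1 (1 : F)).mulVec _ = _
      funext i; fin_cases i <;> simp [Matrix.transvection, Matrix.mulVec, dotProduct, Fin.sum_univ_three]
    · have := congrFun ha 2
      simp at this
  · have hd : 9 ∣ Nat.card Fˣ := by
      rw [PrimeElemFlags.card_sub_one hq]; omega
    obtain ⟨G, hG⟩ := IsCyclic.exists_generator (α := Fˣ)
    obtain ⟨m, hm⟩ := hd
    set ζ := G ^ m with hζdef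
    have hζ : orderOf ζ = 9 := by
      have hm0 : m ≠ 0 := fun h0 => by
        rw [h0, mul_zero] at hm
        exact Nat.card_pos.ne' hm
      rw [hζdef, orderOf_pow, orderOf_eq_card_of_forall_mem_zpowers hG, hm, Nat.gcd_eq_right (dvd_mul_left m 9)]
      exact Nat.mul_div_cancel _ (Nat.pos_of_ne_zero hm0)
    let d : Fin 3 → F := ![(ζ : F), (ζ : F), ((ζ⁻¹ ^ 2 : Fˣ) : F)]
    have hdet : (Matrix.diagonal d).det = 1 := by
      rw [Matrix.det_diagonal, Fin.prod_univ_three]
      simp only [d, Matrix.cons_val_zero, Matrix.cons_val_one, Matrix.head_cons, Matrix.cons_val_two, Matrix.tail_cons]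
      rw [← Units.val_mul, ← Units.val_mul, show ζ * ζ * ζ⁻¹ ^ 2 = 1 by simp [pow_two, mul_assoc], Units.val_one]
    let x : Matrix.SpecialLinearGroup (Fin 3) F := ⟨Matrix.diagonal d, hdet⟩
    have h9 : ζ ^ 9 = 1 := hζ ▸ pow_orderOf_eq_one ζ
    refine ⟨x, ((ζ ^ 3 : Fˣ) : F), ζ, Pi.single 0 1, Pi.single 1 1, ?_, fun a ha => ?_, ζ.ne_zero, ?_, ?_, ?_,
      fun a ha => ?_⟩
    · rw [Matrix.SpecialLinearGroup.coe_pow]
      show Matrix.diagonal d ^ 3 = _
      rw [Matrix.diagonal_pow, Matrix.smul_one_eq_diagonal]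
      congr 1
      funext i
      have e : (ζ⁻¹ ^ 2) ^ 3 = ζ ^ 3 := by
        rw [← pow_mul, inv_pow, inv_eq_iff_mul_eq_one, ← pow_add]; exact h9
      fin_cases i <;> simp [d]
      have e' := congrArg Units.val e
      simpa using e'
    · have ha' : Matrix.diagonal d = a • (1 : Matrix (Fin 3) (Fin 3) F) := ha
      have h0 := congrFun (congrFun ha' 0) 0
      have h2 := congrFun (congrFun ha' 2) 2
      simp [d] at h0 h2
      rw [← h2] at h0
      have h0' : ζ = ζ⁻¹ ^ 2 := Units.ext (by simpa using h0)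
      have h3' : ζ ^ 3 = 1 := by
        rw [pow_succ']; nth_rewrite 1 [h0']; simp
      have := orderOf_dvd_of_pow_eq_one h3'
      rw [hζ] at this
      omega
    · simp
    · show (Matrix.diagonal d).mulVec _ = _
      funext i; fin_cases i <;> simp [Matrix.mulVec_diagonal, d]
    · show (Matrix.diagonal d).mulVec _ = _
      funext i; fin_cases i <;> simp [Matrix.mulVec_diagonal, d]
    · have := congrFun ha 1
      simp at this

/-- Elements of order 3 of PSL_3(q) and the normalizer of a Singer cycle. Here `T = PSL_n(F)` for a field `F` with `q = p^f` elements (`n ≥ 2`, `(n, q) ≠ (2, 2), (2, 3)`), `k` is a prime dividing `n`, `K` is a subalgebra of the `n × n` matrices that is a field of degree `k` over `F` (an extension-field structure F_{q^k} on `F^n`), and `H` is the subgroup of matrices of determinant 1 normalizing `K` — a subgroup of type GL_{n/k}(q^k) (maximal except in some small cases; maximality is not assumed); Ω is the set of cosets of `H` in `T`, so an element of `T` of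 prime order `r` (a matrix `x` of determinant 1 with `x^r` scalar, `x` not scalar) fixes a point of Ω when some conjugate of `x` by a matrix of determinant 1 normalizes `K`. Take `n = k = 3` and suppose 3 divides the index of `H`. Then every element of `T` of order 3 is conjugate in `T` into `H` if and only if `q ≡ 4, 7` or `8 (mod 9)`. -/
theorem result {F : Type*} [Field F] [Fintype F] {p : ℕ} [Fact p.Prime] [CharP F p] {q : ℕ} (hq : Fintype.card F = q)
    (n : ℕ) (hn : n = 3) (k : ℕ) (hk : k.Prime) (hkn : k ∣ n) (K : Subalgebra F (Matrix (Fin n) (Fin n) F)) (hK : Cfsg.Geo.IsFieldSubalgebra k K) (hk3 : k = 3) (hΩ : 3 ∣ ((Cfsg.Geo.subalgebraNormalizer K).comap (Matrix.SpecialLinearGroup.toGL : Matrix.SpecialLinearGroup (Fin n) F →* GL (Fin n) F)).index) :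
    (∀ x : Matrix.SpecialLinearGroup (Fin n) F,
      (∃ z : F, ((x ^ 3 : Matrix.SpecialLinearGroup (Fin n) F) : Matrix (Fin n) (Fin n) F) = z • (1 : Matrix (Fin n) (Fin n) F)) →
      (∀ z : F, (x : Matrix (Fin n) (Fin n) F) ≠ z • (1 : Matrix (Fin n) (Fin n) F)) →
      ∃ P : Matrix.SpecialLinearGroup (Fin n) F, P⁻¹ * x * P ∈ ((Cfsg.Geo.subalgebraNormalizer K).comap (Matrix.SpecialLinearGroup.toGL : Matrix.SpecialLinearGroup (Fin n) F →* GL (Fin n) F))) ↔
    (q % 9 = 4 ∨ q % 9 = 7 ∨ q % 9 = 8) := by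
  classical
  subst hn hk3
  have : Fact (Nat.Prime 3) := ⟨Nat.prime_three⟩
  have hq2 : 2 ≤ q := hq ▸ Fintype.one_lt_card
  constructor
  · intro h
    by_contra hne
    by_cases hbad : q % 3 = 0 ∨ q % 9 = 1
    · obtain ⟨x, z, c, v, w, hz, hns, hc, hv0, hv, hw, hvw⟩ := exists_bad hq hbad
      obtain ⟨P, hP⟩ := h x ⟨z, hz⟩ hns
      rw [Subgroup.mem_comap] at hP
      set Pi' := ((P⁻¹ : Matrix.SpecialLinearGroup (Fin 3) F) : Matrix (Fin 3) (Fin 3) F)
      have hPP : (P : Matrix (Fin 3) (Fin 3) F) * Pi' = 1 := by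
        rw [← Matrix.SpecialLinearGroup.coe_mul, mul_inv_cancel, Matrix.SpecialLinearGroup.coe_one]
      have hfix : ∀ u, (x : Matrix (Fin 3) (Fin 3) F).mulVec u = c • u →
          ((P⁻¹ * x * P : Matrix.SpecialLinearGroup (Fin 3) F) : Matrix (Fin 3) (Fin 3) F).mulVec (Pi'.mulVec u) =
            c • Pi'.mulVec u := by
        intro u hu
        rw [Matrix.SpecialLinearGroup.coe_mul, Matrix.SpecialLinearGroup.coe_mul, Matrix.mulVec_mulVec, mul_assoc, hPP,
          mul_one, ← Matrix.mulVec_mulVec, hu, Matrix.mulVec_smul]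
      have hback : ∀ u, (P : Matrix (Fin 3) (Fin 3) F).mulVec (Pi'.mulVec u) = u := fun u => by
        rw [Matrix.mulVec_mulVec, hPP, Matrix.one_mulVec]
      obtain ⟨a, ha⟩ := eigen_line Nat.prime_three hK (Matrix.SpecialLinearGroup.toGL (P⁻¹ * x * P)) (fun a ha => hns a (by
          have h2 : x = P * (P⁻¹ * x * P) * P⁻¹ := by group
          have ha' : ((P⁻¹ * x * P : Matrix.SpecialLinearGroup (Fin 3) F) : Matrix (Fin 3) (Fin 3) F) = a • 1 := ha
          rw [h2, Matrix.SpecialLinearGroup.coe_mul, Matrix.SpecialLinearGroup.coe_mul, ha', Matrix.mul_smul, mul_one,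
            Matrix.smul_mul, hPP])) hP hc
        (v := Pi'.mulVec v) (fun h0 => hv0 (by rw [← hback v, h0, Matrix.mulVec_zero])) (hfix v hv) (hfix w hw)
      exact hvw a (by rw [← hback w, ha, Matrix.mulVec_smul, hback])
    · have hq9 : q % 9 = 2 ∨ q % 9 = 5 := by omega
      have hord1 : orderOf (q : ZMod 3) ≠ 1 := fun h1 => by
        have := (PrimeElemFlags.order_eq_one_iff (r := 3) hq).1 h1
        omega
      obtain ⟨S, hS, hS1, hSK⟩ := S5970.exists_semilinear Nat.prime_three hK fun d hd => S5970.root_one hq hord1 hd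
      set H := (Cfsg.Geo.subalgebraNormalizer K).comap
        (Matrix.SpecialLinearGroup.toGL : Matrix.SpecialLinearGroup (Fin 3) F →* GL (Fin 3) F)
      have hSH : S ∈ H := Subgroup.mem_comap.2 hSK
      have h3H : 3 ∣ Nat.card H := by
        have e : orderOf (⟨S, hSH⟩ : H) = 3 := by
          rw [← Subgroup.orderOf_coe]
          exact orderOf_eq_prime hS hS1
        exact (dvd_of_eq e.symm).trans (orderOf_dvd_natCard _)
      have h9 : 3 * 3 ∣ Nat.card (Matrix.SpecialLinearGroup (Fin 3) F) := by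
        rw [← H.card_mul_index]
        exact Nat.mul_dvd_mul h3H hΩ
      rw [Cfsg.Agent.Lib.Classical.card_SL_formula, hq] at h9
      simp only [Finset.prod_range_succ, Finset.prod_range_zero] at h9
      norm_num at h9
      rw [← ZMod.natCast_eq_zero_iff] at h9
      rw [Nat.cast_mul, Nat.cast_mul, Nat.cast_sub (Nat.one_le_pow _ _ (by omega)),
        Nat.cast_sub (Nat.one_le_pow _ _ (by omega)), Nat.cast_pow, Nat.cast_pow, Nat.cast_one] at h9
      have key : ∀ a : ZMod 9, a = 2 ∨ a = 5 → a ^ 3 * ((a ^ 2 - 1) * (a ^ 3 - 1)) ≠ 0 := by decide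
      refine key (q : ZMod 9) ?_ h9
      rw [← ZMod.natCast_mod]
      rcases hq9 with e | e <;> rw [e] <;> simp
  · rintro hcond x ⟨z, hz⟩ hns
    by_cases h8 : q % 3 = 2
    · have hord1 : orderOf (q : ZMod 3) ≠ 1 := fun h1 => by
        have := (PrimeElemFlags.order_eq_one_iff (r := 3) hq).1 h1
        omega
      have hord : orderOf (q : ZMod 3) = 3 - 1 := by
        have hdvd : orderOf (q : ZMod 3) ∣ 3 - 1 := ZMod.orderOf_dvd_card_sub_one (fun h0 => by
          rw [ZMod.natCast_eq_zero_iff] at h0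
          omega)
        rcases (Nat.dvd_prime Nat.prime_two).1 hdvd with e | e
        · exact absurd e hord1
        · exact e
      have hp : 3 ≠ p := fun e => by
        subst e
        have := (CharP.cast_eq_zero_iff F 3 _).1 (Nat.cast_card_eq_zero F)
        omega
      have hroot : ∀ d : F, d ^ 3 = 1 → d = 1 := fun d hd => S5970.root_one hq hord1 hd
      have hx : x ^ 3 = 1 := by
        have hz1 : z = 1 := by
          have h1 := congrArg Matrix.det hz
          rw [(x ^ 3).2, Matrix.det_smul, Fintype.card_fin, Matrix.det_one, mul_one] at h1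
          exact hroot z h1.symm
        exact Subtype.ext (by rw [hz, hz1, one_smul, Matrix.SpecialLinearGroup.coe_one])
      obtain ⟨S, hS, hS1, hSK⟩ := S5970.exists_semilinear Nat.prime_three hK hroot
      obtain ⟨P, hP⟩ := S5970.exists_conj hq (by norm_num) hp hord x S hx
        (fun h => hns 1 (by rw [h, one_smul, Matrix.SpecialLinearGroup.coe_one])) hS hS1
      exact ⟨P, by rw [Subgroup.mem_comap, hP]; exact hSK⟩
    · have hp : 3 ≠ p := fun e => by
        subst e
        have := (CharP.cast_eq_zero_iff F 3 _).1 (Nat.cast_card_eq_zero F)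
        omega
      have h3 : (3 : F) ≠ 0 := by exact_mod_cast PrimeElemFlags.cast_ne_zero (F := F) (r := 3) hp
      have hd : 3 ∣ Nat.card Fˣ := by rw [PrimeElemFlags.card_sub_one hq]; omega
      obtain ⟨u, hu⟩ := exists_prime_orderOf_dvd_card' (G := Fˣ) 3 hd
      have hω : (u : F) ^ 3 = 1 := by rw [← Units.val_pow_eq_pow_val, ← hu, pow_orderOf_eq_one, Units.val_one]
      have hω1 : (u : F) ≠ 1 := fun h => by
        rw [Units.val_eq_one] at h
        rw [h, orderOf_one] at hu
        omega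
      have hx : x ^ 3 = 1 := by
        rw [Matrix.SpecialLinearGroup.coe_pow] at hz
        have hz3 : z ^ 3 = 1 := by
          have h1 := congrArg Matrix.det hz
          rw [Matrix.det_pow, x.2, one_pow, Matrix.det_smul, Fintype.card_fin, Matrix.det_one, mul_one] at h1
          exact h1.symm
        have hz1 : z = 1 := by
          by_cases hcube : ∃ a : F, a ^ 3 = z
          · obtain ⟨a, rfl⟩ := hcube
            have ha0 : a ≠ 0 := fun h => by simp [h] at hz3
            have h9 : (Units.mk0 a ha0) ^ 9 = 1 := Units.ext (by simp [← hz3, ← pow_mul])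
            have hg := pow_gcd_eq_one.2 ⟨h9, (pow_card_eq_one' : (Units.mk0 a ha0) ^ Nat.card Fˣ = 1)⟩
            rw [PrimeElemFlags.card_sub_one hq] at hg
            have hg3 : Nat.gcd 9 (q - 1) ∣ 3 := by
              have h1 : Nat.gcd 9 (q - 1) ∣ 3 ^ 2 := Nat.gcd_dvd_left _ _
              obtain ⟨k, hk', hk2⟩ := (Nat.dvd_prime_pow Nat.prime_three).1 h1
              interval_cases k <;> simp_all
              have h2 := Nat.gcd_dvd_right 9 (q - 1)
              rw [hk2] at h2
              omega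
            obtain ⟨t, ht⟩ := hg3
            have := congrArg Units.val (show (Units.mk0 a ha0) ^ 3 = 1 by rw [ht, pow_mul, hg, one_pow])
            simpa using this
          · exfalso
            push Not at hcube
            have hz0 : z ≠ 0 := fun h => by simp [h] at hz3
            have hr0 : ((3 : ℕ) : F) ≠ 0 := by exact_mod_cast h3
            have hirr := X_pow_sub_C_irreducible_of_prime Nat.prime_three hcube
            have hy : (Matrix.toLin' (x : Matrix (Fin 3) (Fin 3) F)) ^ 3 = z • 1 := by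
              rw [← Matrix.toLin'_pow, hz, map_smul, Matrix.toLin'_one]; rfl
            have hd := PrimeElem.det_eq 3 z hirr (PrimeElemFlags.sq hr0 hz0) (by norm_num) 1
              (Matrix.toLin' (x : Matrix (Fin 3) (Fin 3) F)) (by simp) (PrimeElemFlags.aeval_eq_zero hy)
            rw [LinearMap.det_toLin', x.2] at hd
            apply hcube 1
            rw [one_pow, hd]
            ring
        refine Subtype.ext ?_
        rw [Matrix.SpecialLinearGroup.coe_pow, hz, hz1, one_smul, Matrix.SpecialLinearGroup.coe_one]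
      obtain ⟨P, hP⟩ := conj_split hω hω1 h3 hK x hx hns
      exact ⟨P, Subgroup.mem_comap.2 hP⟩


end Cfsg.Agent.S5971
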