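import Cfsg.Statements.S5972
import Cfsg.Agent.Lib.MaxSub.OrthTSElem
import Cfsg.Agent.Lib.MaxSub.OrthTSCount
import Cfsg.Agent.Lib.Classical.AutPOmega.Odd
import Cfsg.Agent.Lib.Similar.OddPrimeGraph
import Mathlib

set_option maxHeartbeats 1000000
set_option linter.unusedSectionVars false

set_option autoImplicit false
open scoped MatrixGroups
open Cfsg

namespace Cfsg.Agent.S5972

open Module Polynomial Cfsg.Agent.Lib.MaxSub Cfsg.Agent.Lib.Geometry
open Cfsg.Agent.Lib.MaxSub.QuadType (Nd TS Plus perp)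
open Cfsg.Agent.Lib.MaxSub.IsoDecomp (step fixed moved mem_fixed moved_inv inf_inv sup_inv fixed_inv decompose)
open Cfsg.Agent.Lib.Classical.AutPOmega (oddR coe_oddR)
open QuadraticMap (polarBilin)
open scoped _root_.Classical

attribute [-simp] QuadraticMap.polarBilin_apply_apply

variable {ι : Type} [Fintype ι] [DecidableEq ι] {F : Type*} [Field F] (Q : QuadraticForm F (ι → F))

/-- An invariant totally singular subspace of dimension `m`. -/
def Good (m : ℕ) (X : End F (ι → F)) : Prop :=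
  ∃ W : Submodule F (ι → F), finrank F W = m ∧ TS Q W ∧ W.map X ≤ W

theorem good_sup {m : ℕ} {X : End F (ι → F)} {A B W W' : Submodule F (ι → F)} (hA : Nd Q A) (hAB : B ≤ perp Q A)
    (hWA : W ≤ A) (hW'B : W' ≤ B) (hW : TS Q W) (hW' : TS Q W') (hWi : W.map X ≤ W) (hW'i : W'.map X ≤ W')
    (hdim : finrank F W + finrank F W' = m) : Good Q m X := by
  refine ⟨W ⊔ W', ?_, OrthTS.ts_sup Q hW hW' ((hW'B.trans hAB).trans (QuadType.perp_anti Q hWA)), sup_inv hWi hW'i⟩
  have hd : W ⊓ W' = ⊥ := le_bot_iff.1 (le_trans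
    (le_inf (inf_le_left.trans hWA) (le_inf le_top (inf_le_right.trans (hW'B.trans hAB)))) (QuadType.inf_perp Q hA ⊤).le)
  have h := Submodule.finrank_sup_add_finrank_inf_eq W W'
  rw [hd, finrank_bot, add_zero] at h
  omega

variable [Fintype F] {p : ℕ} [Fact p.Prime] [CharP F p] {r : ℕ} [hr : Fact r.Prime]
variable (hQ : (polarBilin Q).Nondegenerate) (h2 : (2 : F) ≠ 0)

theorem refl_perp {v x : ι → F} (h : polarBilin Q v x = 0) : (refl Q v : (ι → F) ≃ₗ[F] (ι → F)) x = x := by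
  rw [refl_apply, h, mul_zero, zero_smul, sub_zero]

include hQ h2 in
/-- `-1` on a plus space has trivial spinor norm when `-1` is a square. -/
theorem neg_plus (hs : IsSquare (-1 : F)) : ∀ (k : ℕ) {U : Submodule F (ι → F)}, finrank F U = 2 * k → Nd Q U → Plus Q U →
    ∃ g : quadIsometries Q, spinor Q g = 1 ∧ (∀ u ∈ U, (g : (ι → F) ≃ₗ[F] (ι → F)) u = -u) ∧
      (∀ w ∈ perp Q U, (g : (ι → F) ≃ₗ[F] (ι → F)) w = w) := by
  intro k
  induction k with
  | zero =>
    intro U hUd _ _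
    have hU0 : U = ⊥ := Submodule.finrank_eq_zero.1 (by omega)
    refine ⟨1, spinor_one Q hQ, fun u hu => ?_, fun w _ => rfl⟩
    rw [hU0, Submodule.mem_bot] at hu
    subst hu
    simp
  | succ k ih =>
    intro U hUd hU hUp
    obtain ⟨T, hTU, hT, hTd⟩ := id hUp
    obtain ⟨u, hu, hu0⟩ := (Submodule.ne_bot_iff T).1 fun e => by rw [e, finrank_bot] at hTd; omega
    obtain ⟨z, hzU, hQz, huz, hP, hPd, hPp⟩ := QuadType.exists_hyp Q hQ h2 hU (hTU hu) hu0 (hT u hu)
    have hPU : (F ∙ u) ⊔ (F ∙ z) ≤ U := sup_le ((Submodule.span_singleton_le_iff_mem _ _).2 (hTU hu))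
      ((Submodule.span_singleton_le_iff_mem _ _).2 hzU)
    obtain ⟨hsup, hR, hRd⟩ := QuadType.split_off Q hU hP hPU
    obtain ⟨g, hgs, hgU, hgp⟩ := ih (by omega) hR (QuadType.plus_cancel Q hQ h2 hU hP hPU hUp hPp)
    have huu : polarBilin Q u u = 0 := by rw [quad_polar_self, hT u hu, mul_zero]
    have hzz : polarBilin Q z z = 0 := by rw [quad_polar_self, hQz, mul_zero]
    have hzu : polarBilin Q z u = 1 := by rw [quad_polar_comm]; exact huz
    have ha : Q (u + z) = 1 := by rw [quad_add, hT u hu, hQz, huz, add_zero, zero_add]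
    have hb : Q (u - z) = -1 := by rw [quad_sub, hT u hu, hQz, huz]; ring
    have hab : polarBilin Q (u + z) (u - z) = 0 := by simp [huu, hzz, huz, hzu]
    refine ⟨refl Q (u + z) * (refl Q (u - z) * g), ?_, fun x hx => ?_, fun w hw => ?_⟩
    · rw [spinor_refl_mul Q hQ _ (ha ▸ one_ne_zero), spinor_refl_mul Q hQ _ (hb ▸ neg_ne_zero.2 one_ne_zero), hgs, ha, hb,
        sqClass_eq_one_iff.2 IsSquare.one, sqClass_eq_one_iff.2 hs]
      rfl
    · obtain ⟨p', hp', y, hy, rfl⟩ := Submodule.mem_sup.1 (hsup.symm ▸ hx : x ∈ ((F ∙ u) ⊔ (F ∙ z)) ⊔ (U ⊓ perp Q ((F ∙ u) ⊔ (F ∙ z))))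
      have hgP : ∀ q ∈ (F ∙ u) ⊔ (F ∙ z), (g : (ι → F) ≃ₗ[F] (ι → F)) q = q := fun q hq =>
        hgp q fun w hw => QuadType.mem_perp' Q hw.2 hq
      have hya : polarBilin Q (u + z) y = 0 := hy.2 _ (Submodule.add_mem_sup (Submodule.mem_span_singleton_self u)
        (Submodule.mem_span_singleton_self z))
      have hyb : polarBilin Q (u - z) y = 0 := hy.2 _ (Submodule.sub_mem _
        (Submodule.mem_sup_left (Submodule.mem_span_singleton_self u))
        (Submodule.mem_sup_right (Submodule.mem_span_singleton_self z)))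
      obtain ⟨q1, hq1, q2, hq2, rfl⟩ := Submodule.mem_sup.1 hp'
      obtain ⟨s, rfl⟩ := Submodule.mem_span_singleton.1 hq1
      obtain ⟨t, rfl⟩ := Submodule.mem_span_singleton.1 hq2
      show (refl Q (u + z) : (ι → F) ≃ₗ[F] (ι → F)) ((refl Q (u - z) : (ι → F) ≃ₗ[F] (ι → F))
        ((g : (ι → F) ≃ₗ[F] (ι → F)) (s • u + t • z + y))) = _
      rw [map_add, hgP _ hp', hgU y hy,
        show s • u + t • z = ((s + t) / 2) • (u + z) + ((s - t) / 2) • (u - z) from by
          match_scalars <;> field_simp <;> ring]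
      simp only [map_add, map_neg, map_smul, refl_apply_self Q (hb ▸ neg_ne_zero.2 one_ne_zero : Q (u - z) ≠ 0),
        refl_apply_self Q (ha ▸ one_ne_zero : Q (u + z) ≠ 0), refl_perp Q hab, refl_perp Q hyb, refl_perp Q hya,
        refl_perp Q (show polarBilin Q (u - z) (u + z) = 0 by rw [quad_polar_comm]; exact hab)]
      module
    · show (refl Q (u + z) : (ι → F) ≃ₗ[F] (ι → F)) ((refl Q (u - z) : (ι → F) ≃ₗ[F] (ι → F))
        ((g : (ι → F) ≃ₗ[F] (ι → F)) w)) = w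
      rw [hgp w (QuadType.perp_anti Q inf_le_left hw), refl_perp Q (hw _ (U.sub_mem (hTU hu) hzU)),
        refl_perp Q (hw _ (U.add_mem (hTU hu) hzU))]

include hQ h2 in
/-- Involutions. -/
theorem good_two {d m : ℕ} (hn : Fintype.card ι = 2 * d + 1) (hmd : m ≤ d)
    (hcond : m < d ∨ Fintype.card F % 4 = 1) (g : quadIsometries Q) (hd1 : Cfsg.Agent.Lib.Geometry.dickson Q g = 1) (hs1 : spinor Q g = 1)
    {X : End F (ι → F)} (hXg : ∀ v, (g : (ι → F) ≃ₗ[F] (ι → F)) v = X v) (hXX : ∀ v, X (X v) = v) : Good Q m X := by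
  have hiso : ∀ v, Q (X v) = Q v := fun v => by rw [← hXg]; exact g.2 v
  let A : Submodule F (ι → F) := LinearMap.ker (X - 1)
  let B : Submodule F (ι → F) := LinearMap.ker (X + 1)
  have hA : ∀ a ∈ A, X a = a := fun a ha => by simpa [A, sub_eq_zero] using ha
  have hB : ∀ b ∈ B, X b = -b := fun b hb => by
    have : X b + b = 0 := by simpa [B] using hb
    exact eq_neg_of_add_eq_zero_left this
  have hAB : ∀ a ∈ A, ∀ b ∈ B, polarBilin Q a b = 0 := fun a ha b hb => by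
    have h := quad_polar_map Q hiso a b
    rw [hA a ha, hB b hb, map_neg] at h
    have h' : (2 : F) * polarBilin Q a b = 0 := by linear_combination -h
    exact (mul_eq_zero.1 h').resolve_left h2
  have hsup : ∀ v, ∃ a ∈ A, ∃ b ∈ B, a + b = v := fun v => by
    refine ⟨(2 : F)⁻¹ • (v + X v), ?_, (2 : F)⁻¹ • (v - X v), ?_, ?_⟩
    · simp [A, hXX]; abel_nf
    · simp [B, hXX]
    · rw [← smul_add, show v + X v + (v - X v) = (2 : F) • v by rw [two_smul]; abel, smul_smul,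
        inv_mul_cancel₀ h2, one_smul]
  have hnd : Nd Q A ∧ Nd Q B := by
    constructor <;> intro v hv hv0 <;> obtain ⟨x, -, hvx⟩ := QuadType.nd_top Q hQ v Submodule.mem_top hv0 <;>
      obtain ⟨a, ha, b, hb, rfl⟩ := hsup x
    · exact ⟨a, ha, by rwa [map_add, hAB v hv b hb, add_zero] at hvx⟩
    · exact ⟨b, hb, by rwa [map_add, quad_polar_comm Q v a, hAB a ha v hv, zero_add] at hvx⟩
  have hBA : B ≤ perp Q A := fun b hb a ha => hAB a ha b hb
  have hdimAB : finrank F A + finrank F B = 2 * d + 1 := by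
    obtain ⟨g1, g2⟩ := QuadType.nd_sup Q hnd.1 hnd.2 hBA
    rw [← g2, show A ⊔ B = ⊤ from eq_top_iff.2 fun v _ => by
      obtain ⟨a, ha, b, hb, rfl⟩ := hsup v
      exact Submodule.add_mem_sup ha hb, finrank_top, Module.finrank_fintype_fun_eq_card, hn]
  have hmoved : movedSpace Q g = B := by
    ext v
    constructor
    · rintro ⟨y, rfl⟩
      simp [B, oneSub_apply, hXg, hXX]
    · intro hv
      refine ⟨(2 : F)⁻¹ • v, ?_⟩
      rw [oneSub_apply, hXg, map_smul, hB v hv, smul_neg, sub_neg_eq_add, ← two_smul F ((2 : F)⁻¹ • v), smul_smul,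
        mul_inv_cancel₀ h2, one_smul]
  have hBe : Even (finrank F B) := by
    rw [Cfsg.Agent.Lib.Geometry.dickson, hmoved] at hd1
    by_contra hc
    rw [Odd.neg_one_pow (Nat.not_even_iff_odd.1 hc)] at hd1
    exact absurd hd1 (by decide)
  obtain ⟨b, hb⟩ := hBe
  have hinvA : ∀ W ≤ A, W.map X ≤ W := fun W hW => by
    rintro _ ⟨w, hw, rfl⟩; rwa [hA w (hW hw)]
  have hinvB : ∀ W ≤ B, W.map X ≤ W := fun W hW => by
    rintro _ ⟨w, hw, rfl⟩; rw [hB w (hW hw)]; exact W.neg_mem hw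
  obtain ⟨W₁, hW₁, hW₁t, hW₁d⟩ := OrthTS.exists_ts Q hQ h2 hnd.1 (e := min m ((finrank F A - 1) / 2)) (Or.inl (by omega))
  obtain ⟨W₂, hW₂, hW₂t, hW₂d⟩ : ∃ W ≤ B, TS Q W ∧ finrank F W = m - min m ((finrank F A - 1) / 2) := by
    by_cases hlt : 2 * (m - min m ((finrank F A - 1) / 2)) < finrank F B
    · exact OrthTS.exists_ts Q hQ h2 hnd.2 (Or.inl hlt)
    refine OrthTS.exists_ts Q hQ h2 hnd.2 (Or.inr ⟨by omega, ?_⟩)
    rcases Nat.eq_zero_or_pos b with hb0 | hb0
    · have hB0 : B = ⊥ := Submodule.finrank_eq_zero.1 (by omega)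
      rw [hB0]
      exact ⟨⊥, le_rfl, fun u hu => by rw [(Submodule.mem_bot F).1 hu, QuadraticMap.map_zero], by rw [finrank_bot]⟩
    have hq : Fintype.card F % 4 = 1 := hcond.resolve_left (by omega)
    have hsq : IsSquare (-1 : F) := FiniteField.isSquare_neg_one_iff.2 (by omega)
    by_contra hnp
    obtain ⟨v, hv, w, hw, hQv, hQw, hvw, hns, hRp⟩ := QuadType.exists_plane Q hQ h2 _ rfl hnd.2 ⟨b, hb⟩ hnp
    obtain ⟨hP, hPd, -⟩ := QuadType.plane_iff Q hQ h2 (hQv ▸ one_ne_zero) hQw hvw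
    have hPB : (F ∙ v) ⊔ (F ∙ w) ≤ B := sup_le ((Submodule.span_singleton_le_iff_mem _ _).2 hv)
      ((Submodule.span_singleton_le_iff_mem _ _).2 hw)
    obtain ⟨hsupP, hR, hRd⟩ := QuadType.split_off Q hnd.2 hP hPB
    obtain ⟨g', hg's, hg'U, hg'p⟩ := neg_plus Q hQ h2 hsq (b - 1) (by omega) hR hRp
    have hg'P : ∀ q ∈ (F ∙ v) ⊔ (F ∙ w), (g' : (ι → F) ≃ₗ[F] (ι → F)) q = q := fun q hq =>
      hg'p q fun x hx => QuadType.mem_perp' Q hx.2 hq
    have hQv0 : Q v ≠ 0 := hQv ▸ one_ne_zero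
    have heq : g = refl Q v * (refl Q w * g') := by
      refine Subtype.ext (LinearEquiv.ext fun x => ?_)
      obtain ⟨a, ha, c, hc, rfl⟩ := hsup x
      obtain ⟨q, hq, y, hy, rfl⟩ := Submodule.mem_sup.1 (hsupP.symm ▸ hc : c ∈ ((F ∙ v) ⊔ (F ∙ w)) ⊔ (B ⊓ perp Q ((F ∙ v) ⊔ (F ∙ w))))
      rw [hXg, map_add, hA a ha, hB _ hc]
      show _ = (refl Q v : (ι → F) ≃ₗ[F] (ι → F)) ((refl Q w : (ι → F) ≃ₗ[F] (ι → F))
        ((g' : (ι → F) ≃ₗ[F] (ι → F)) (a + (q + y))))
      rw [map_add (g' : (ι → F) ≃ₗ[F] (ι → F)), map_add (g' : (ι → F) ≃ₗ[F] (ι → F)), hg'p a fun x hx => by rw [quad_polar_comm]; exact hAB a ha x hx.1, hg'P q hq, hg'U y hy]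
      obtain ⟨q1, hq1, q2, hq2, rfl⟩ := Submodule.mem_sup.1 hq
      obtain ⟨s, rfl⟩ := Submodule.mem_span_singleton.1 hq1
      obtain ⟨t, rfl⟩ := Submodule.mem_span_singleton.1 hq2
      simp only [map_add, map_neg, map_smul, refl_apply_self Q hQv0, refl_apply_self Q hQw, refl_perp Q hvw,
        refl_perp Q (show polarBilin Q w v = 0 by rw [quad_polar_comm]; exact hvw),
        refl_perp Q (show polarBilin Q v a = 0 by rw [quad_polar_comm]; exact hAB a ha v hv),
        refl_perp Q (show polarBilin Q w a = 0 by rw [quad_polar_comm]; exact hAB a ha w hw),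
        refl_perp Q (hy.2 _ (Submodule.mem_sup_left (Submodule.mem_span_singleton_self v))),
        refl_perp Q (hy.2 _ (Submodule.mem_sup_right (Submodule.mem_span_singleton_self w)))]
      module
    rw [heq, spinor_refl_mul Q hQ _ hQv0, spinor_refl_mul Q hQ _ hQw, hg's, hQv, sqClass_eq_one_iff.2 IsSquare.one,
      one_mul, mul_one, sqClass_eq_one_iff] at hs1
    exact hns (by rw [neg_eq_neg_one_mul]; exact hsq.mul hs1)
  exact good_sup Q hnd.1 hBA hW₁ hW₂ hW₁t hW₂t (hinvA _ hW₁) (hinvB _ hW₂) (by omega)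

include hQ h2 in
/-- An element of order two without fixed maximal totally singular subspace. -/
theorem bad_two {d : ℕ} (hn : Fintype.card ι = 2 * d + 1) (hd : 1 ≤ d) (hq : ¬ IsSquare (-1 : F)) :
    ∃ g : quadIsometries Q, Cfsg.Agent.Lib.Geometry.dickson Q g = 1 ∧ spinor Q g = 1 ∧ g * g = 1 ∧ g ≠ 1 ∧
      ¬ ∃ W : Submodule F (ι → F), finrank F W = d ∧ TS Q W ∧ ∀ x ∈ W, (g : (ι → F) ≃ₗ[F] (ι → F)) x ∈ W := by
  have hfr : finrank F (⊤ : Submodule F (ι → F)) = 2 * d + 1 := by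
    rw [finrank_top, Module.finrank_fintype_fun_eq_card, hn]
  obtain ⟨v, -, hQv⟩ := QuadType.exists_val Q hQ h2 (QuadType.nd_top Q hQ) (by omega) one_ne_zero
  have hQv0 : Q v ≠ 0 := hQv ▸ one_ne_zero
  have hv0 : v ≠ 0 := fun e => hQv0 (by rw [e, QuadraticMap.map_zero])
  have hline : Nd Q (F ∙ v) := fun a ha ha0 => by
    obtain ⟨c, rfl⟩ := Submodule.mem_span_singleton.1 ha
    exact ⟨v, Submodule.mem_span_singleton_self v, by simp [quad_polar_self, hQv, h2, (smul_ne_zero_iff.1 ha0).1]⟩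
  obtain ⟨-, hp, hpd, -⟩ := QuadType.compl_perp Q hQ hline
  rw [finrank_span_singleton hv0, Module.finrank_fintype_fun_eq_card, hn] at hpd
  obtain ⟨w, hw, hQw⟩ := QuadType.exists_val Q hQ h2 hp (by omega) one_ne_zero
  have hvw : polarBilin Q v w = 0 := hw v (Submodule.mem_span_singleton_self v)
  have hQw0 : Q w ≠ 0 := hQw ▸ one_ne_zero
  obtain ⟨hP, hPd, hPp⟩ := QuadType.plane_iff Q hQ h2 hQv0 hQw0 hvw
  set P := (F ∙ v) ⊔ (F ∙ w)
  have hnp : ¬ Plus Q P := by rw [hPp, hQv, hQw, mul_one]; exact hq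
  obtain ⟨htop, hPn, hPperp, -⟩ := QuadType.compl_perp Q hQ hP
  rw [Module.finrank_fintype_fun_eq_card, hn, hPd] at hPperp
  set g := refl Q v * (refl Q w * 1)
  have hgP : ∀ x ∈ P, (g : (ι → F) ≃ₗ[F] (ι → F)) x = -x := fun x hx => by
    obtain ⟨q1, hq1, q2, hq2, rfl⟩ := Submodule.mem_sup.1 hx
    obtain ⟨s, rfl⟩ := Submodule.mem_span_singleton.1 hq1
    obtain ⟨t, rfl⟩ := Submodule.mem_span_singleton.1 hq2
    show (refl Q v : (ι → F) ≃ₗ[F] (ι → F)) ((refl Q w : (ι → F) ≃ₗ[F] (ι → F)) (s • v + t • w)) = _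
    simp only [map_add, map_neg, map_smul, refl_apply_self Q hQv0, refl_apply_self Q hQw0, refl_perp Q hvw,
      refl_perp Q (show polarBilin Q w v = 0 by rw [quad_polar_comm]; exact hvw)]
    module
  have hgp : ∀ x ∈ perp Q P, (g : (ι → F) ≃ₗ[F] (ι → F)) x = x := fun x hx => by
    show (refl Q v : (ι → F) ≃ₗ[F] (ι → F)) ((refl Q w : (ι → F) ≃ₗ[F] (ι → F)) x) = x
    rw [refl_perp Q (hx w (Submodule.mem_sup_right (Submodule.mem_span_singleton_self w))),
      refl_perp Q (hx v (Submodule.mem_sup_left (Submodule.mem_span_singleton_self v)))]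
  refine ⟨g, ?_, ?_, ?_, ?_, ?_⟩
  · rw [dickson_refl_mul Q hQ _ hQv0, dickson_refl_mul Q hQ _ hQw0, Cfsg.Agent.Lib.Geometry.dickson_one]; rfl
  · rw [spinor_refl_mul Q hQ _ hQv0, spinor_refl_mul Q hQ _ hQw0, spinor_one Q hQ, hQv, hQw,
      sqClass_eq_one_iff.2 IsSquare.one]; rfl
  · refine Subtype.ext (LinearEquiv.ext fun x => ?_)
    obtain ⟨a, ha, b, hb, rfl⟩ := Submodule.mem_sup.1 (htop.symm ▸ Submodule.mem_top : x ∈ P ⊔ perp Q P)
    show (g : (ι → F) ≃ₗ[F] (ι → F)) ((g : (ι → F) ≃ₗ[F] (ι → F)) (a + b)) = a + b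
    rw [map_add, hgP a ha, hgp b hb, map_add, map_neg, hgP a ha, hgp b hb, neg_neg]
  · intro e
    have h := hgP v (Submodule.mem_sup_left (Submodule.mem_span_singleton_self v))
    rw [e] at h
    have h' : (2 : F) • v = 0 := by rw [two_smul]; exact add_eq_zero_iff_eq_neg.2 h
    exact hv0 ((smul_eq_zero.1 h').resolve_left h2)
  · rintro ⟨W, hWd, hW, hWg⟩
    have hle : W ≤ (W ⊓ P) ⊔ (W ⊓ perp Q P) := fun x hx => by
      obtain ⟨a, ha, b, hb, rfl⟩ := Submodule.mem_sup.1 (htop.symm ▸ Submodule.mem_top : x ∈ P ⊔ perp Q P)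
      have hx' := hWg _ hx
      rw [map_add, hgP a ha, hgp b hb] at hx'
      have h2a : a ∈ W := by
        have := W.smul_mem (2 : F)⁻¹ (W.sub_mem hx hx')
        rwa [show a + b - (-a + b) = (2 : F) • a by module, smul_smul, inv_mul_cancel₀ h2, one_smul] at this
      exact Submodule.add_mem_sup ⟨h2a, ha⟩ ⟨(W.add_mem_iff_right h2a).1 hx, hb⟩
    have h1 := (Submodule.finrank_mono hle).trans (Submodule.finrank_add_le_finrank_add_finrank _ _)
    have h3 := QuadType.ts_half Q hQ hP (inf_le_right : W ⊓ P ≤ P) fun x hx => hW x hx.1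
    have h4 := QuadType.ts_half Q hQ hPn (inf_le_right : W ⊓ perp Q P ≤ perp Q P) fun x hx => hW x hx.1
    refine hnp ⟨W ⊓ P, inf_le_right, fun x hx => hW x hx.1, ?_⟩
    omega

include hQ h2 in
theorem good_of_data {X : End F (ι → F)} (hrp : r ≠ p) (hX : X ^ r = 1) (hiso : ∀ v, Q (X v) = Q v) {D i j m : ℕ}
    (H : ∀ U ≤ moved X r, Nd Q U → U.map X ≤ U → D ≤ finrank F U → ∃ S ≤ U, S.map X ≤ S ∧ TS Q S ∧ finrank F S = i)
    (hj : 0 < j → D + 2 * i * (j - 1) ≤ finrank F (moved X r)) (hjm : i * j ≤ m)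
    (hf : 2 * (m - i * j) < finrank F (fixed X)) : Good Q m X := by
  have hr0 : (r : F) ≠ 0 := PrimeElemFlags.cast_ne_zero hrp
  obtain ⟨hF, hM⟩ := OrthDecomp.nd_parts Q hr0 hX hiso (QuadType.nd_top Q hQ) (le_top : (⊤ : Submodule F (ι → F)).map X ≤ ⊤)
  rw [top_inf_eq] at hF hM
  have hy : aeval X (Polynomial.X ^ r - C (1 : F)) = 0 := PrimeElemFlags.aeval_eq_zero (by rw [hX, one_smul])
  obtain ⟨A, hA1, hA2, hA3, hA4⟩ := OrthTS.exists_ts_mul Q hr.out.pos hX hiso (PrimeElemFlags.sq hr0 one_ne_zero) hy H j _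
    le_rfl hM moved_inv hj
  obtain ⟨B, hB1, hB2, hB3⟩ := OrthTS.exists_ts Q hQ h2 hF (Or.inl hf)
  exact good_sup Q hF (fun v hv u hu => OrthDecomp.orth Q hr0 hiso hu hv) hB1 hA1 hB2 hA3 (fixed_inv hB1) hA2
    (by omega)

omit [Fintype ι] [DecidableEq ι] [Field F] [Fintype F] [Fact p.Prime] hr in
theorem succ_mod {d c : ℕ} (hc : Even c) (hc0 : 0 < c) : (2 * d + 1) % c = 2 * d % c + 1 := by
  obtain ⟨e, rfl⟩ := hc
  have h := Nat.div_add_mod (2 * d) (e + e)
  have hlt := Nat.mod_lt (2 * d) hc0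
  have hev : (e + e) * (2 * d / (e + e)) % 2 = 0 := by
    rw [← two_mul, mul_assoc]; exact Nat.mul_mod_right 2 _
  rw [Nat.add_mod, Nat.mod_eq_of_lt (show 1 < e + e by omega)]
  exact Nat.mod_eq_of_lt (by omega)

include hQ h2 in
/-- Elements of odd order in the good cases. -/
theorem good_odd {d : ℕ} (hn : Fintype.card ι = 2 * d + 1) {X : End F (ι → F)} (hrp : r ≠ p) (hr2 : r ≠ 2) {i : ℕ}
    (hi : orderOf ((Fintype.card F : ℕ) : ZMod r) = i) (hX : X ^ r = 1) (hiso : ∀ v, Q (X v) = Q v) {m : ℕ} (hmd : m ≤ d)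
    (hk : 2 * (m % i) ≤ 2 * d % step i) (ht : Odd i ∨ (r - 1) / i + 2 * (m / i) ≤ 2 * d / i) : Good Q m X := by
  have hr0 : (r : F) ≠ 0 := PrimeElemFlags.cast_ne_zero hrp
  have hi0 : 0 < i := hi ▸ PrimeElemFlags.order_pos rfl hrp
  obtain ⟨hF, hM, e, he, hsum⟩ := OrthNdSub.moved_dim Q hQ h2 hrp hr2 hi hX hiso
  rw [hn] at hsum
  have hm := Nat.div_add_mod m i
  rcases Nat.even_or_odd i with hev | hodd
  · have ht' := ht.resolve_left (Nat.not_odd_iff_even.2 hev)
    rw [step, if_pos hev] at hk he hsum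
    have hn' := Nat.div_add_mod (2 * d) i
    obtain ⟨t, htdef⟩ : ∃ t, t = (r - 1) / i := ⟨_, rfl⟩
    rw [← htdef] at ht'
    have hti : i * t = r - 1 := by
      rw [htdef]
      refine Nat.mul_div_cancel' ?_
      have h0 := IsoTIElem.card_factors (F := F) hrp hi
      exact ⟨_, by rw [← h0, mul_comm]⟩
    have hie : (i * e) % 2 = 0 := Nat.even_iff.1 (hev.mul_right e)
    have hN' : e ≤ 2 * d / i := (Nat.le_div_iff_mul_le hi0).2 (by rw [mul_comm]; omega)
    obtain ⟨a, ha⟩ : ∃ a, 2 * d / i = e + a := ⟨2 * d / i - e, by omega⟩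
    obtain ⟨j, hj⟩ : ∃ j, j = min (m / i) ((e + 1 - t) / 2) := ⟨_, rfl⟩
    obtain ⟨b, hb⟩ : ∃ b, m / i = j + b := ⟨m / i - j, by omega⟩
    refine good_of_data Q hQ h2 hrp hX hiso (D := r) (i := i) (j := j) (fun U hU hUn hUi hd =>
      OrthTS.exists_ts_moved Q hQ h2 hrp hr2 hi hX hiso hUn hUi hU (Or.inr (by have := hr.out.pos; omega)))
      (fun hj0 => ?_) ?_ ?_
    · rw [he]
      have e1 : i * (t + 2 * j - 1) ≤ i * e := Nat.mul_le_mul_left i (by omega)
      have e2 : i * (t + 2 * j - 1) = i * t + 2 * i * (j - 1) + i := by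
        rw [show t + 2 * j - 1 = t + 2 * (j - 1) + 1 by omega]; ring
      have := hr.out.pos
      omega
    · rw [← hm, hb, Nat.mul_add]; omega
    · rw [hb, Nat.mul_add] at hm
      rw [ha, Nat.mul_add] at hn'
      rcases Nat.eq_zero_or_pos b with rfl | hb0
      · omega
      · have e1 : i * (2 * b) ≤ i * a := Nat.mul_le_mul_left i (by omega)
        rw [mul_left_comm] at e1
        omega
  · rw [step, if_neg (Nat.not_even_iff_odd.2 hodd)] at hk he hsum
    have hn' := Nat.div_add_mod (2 * d) (2 * i)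
    have hie : (2 * i * e) % 2 = 0 := by rw [mul_assoc]; exact Nat.mul_mod_right 2 _
    have hs' : e ≤ 2 * d / (2 * i) := (Nat.le_div_iff_mul_le (by omega)).2 (by rw [mul_comm]; omega)
    obtain ⟨a, ha⟩ : ∃ a, 2 * d / (2 * i) = e + a := ⟨2 * d / (2 * i) - e, by omega⟩
    obtain ⟨j, hj⟩ : ∃ j, j = min (m / i) e := ⟨_, rfl⟩
    obtain ⟨b, hb⟩ : ∃ b, m / i = j + b := ⟨m / i - j, by omega⟩
    refine good_of_data Q hQ h2 hrp hX hiso (D := 1) (i := i) (j := j) (fun U hU hUn hUi hd =>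
      OrthTS.exists_ts_moved Q hQ h2 hrp hr2 hi hX hiso hUn hUi hU
        (Or.inl ⟨hodd, fun e' => by rw [e', finrank_bot] at hd; omega⟩)) (fun hj0 => ?_) ?_ ?_
    · rw [he]
      have e1 : 2 * i * j ≤ 2 * i * e := Nat.mul_le_mul_left _ (by omega)
      have e2 : 2 * i * j = 2 * i * (j - 1) + 2 * i := by conv_lhs => rw [show j = j - 1 + 1 by omega, Nat.mul_succ]
      omega
    · rw [← hm, hb, Nat.mul_add]; omega
    · rw [hb, Nat.mul_add] at hm
      rw [ha, Nat.mul_add] at hn'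
      rcases Nat.eq_zero_or_pos b with rfl | hb0
      · omega
      · obtain rfl : j = e := by omega
        rw [mul_assoc] at hsum
        omega

/-- What an invariant totally singular subspace says about the element. -/
theorem necessary {X : End F (ι → F)} (hrp : r ≠ p) {i : ℕ} (hi : orderOf ((Fintype.card F : ℕ) : ZMod r) = i)
    (hX : X ^ r = 1) (hiso : ∀ v, Q (X v) = Q v) (hQ : (polarBilin Q).Nondegenerate) {m : ℕ} (h : Good Q m X) :
    ∃ (j : ℕ) (W : Submodule F (ι → F)), W.map X ≤ W ∧ W ≤ moved X r ∧ TS Q W ∧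
      finrank F W = i * j ∧ i * j ≤ m ∧ 2 * (m - i * j) ≤ finrank F (fixed X) := by
  obtain ⟨W, hWd, hts, hW⟩ := h
  have hr0 : (r : F) ≠ 0 := PrimeElemFlags.cast_ne_zero hrp
  obtain ⟨hF, -⟩ := OrthDecomp.nd_parts Q hr0 hX hiso (QuadType.nd_top Q hQ) (le_top : (⊤ : Submodule F (ι → F)).map X ≤ ⊤)
  rw [top_inf_eq] at hF
  obtain ⟨⟨j, hj⟩, -⟩ := LinDecomp.moved_sub hrp hi hX (inf_inv hW (moved_inv (r := r))) inf_le_right
  have hsum := (decompose hr0 hX hW).2
  have h1 := QuadType.ts_half Q hQ hF (inf_le_right : W ⊓ fixed X ≤ fixed X) fun v hv => hts v hv.1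
  exact ⟨j, _, inf_inv hW moved_inv, inf_le_right, fun v hv => hts v hv.1, hj, by omega, by omega⟩

include hQ h2 in
/-- The conditions are necessary. -/
theorem cond_of_all {d : ℕ} (hn : Fintype.card ι = 2 * d + 1) (hrp : r ≠ p) (hr2 : r ≠ 2) {i m : ℕ}
    (hi : orderOf ((Fintype.card F : ℕ) : ZMod r) = i) (hmd : m ≤ d)
    (hΩ : r ∣ Nat.card {W : Submodule F (ι → F) // finrank F W = m ∧ TS Q W})
    (h : ∀ X : End F (ι → F), X ^ r = 1 → (∀ v, Q (X v) = Q v) → Good Q m X) :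
    i ≤ m ∧ 2 * (m % i) ≤ 2 * d % step i ∧ (Odd i ∨ (r - 1) / i + 2 * (m / i) ≤ 2 * d / i) := by
  have hr0 : (r : F) ≠ 0 := PrimeElemFlags.cast_ne_zero hrp
  have hi0 : 0 < i := hi ▸ PrimeElemFlags.order_pos rfl hrp
  obtain ⟨hc0, hce⟩ := OrthNdSub.step_pos (F := F) hi hrp
  have hc2 : step i ≤ 2 * i := by rw [step]; split_ifs <;> omega
  have hm := Nat.div_add_mod m i
  have hk := Nat.mod_lt (2 * d) hc0
  have hks := succ_mod (d := d) hce hc0
  obtain ⟨X, hX, hiso, hfix⟩ := OrthDecomp.exists_max Q hQ hrp hr2 hi h2 hn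
  obtain ⟨j, W, -, -, -, -, hjm, hjf⟩ := necessary Q hrp hi hX hiso hQ (h X hX hiso)
  rw [hfix, hks] at hjf
  have hke : (2 * d % step i) % 2 = 0 := by
    have h1 := Nat.div_add_mod (2 * d) (step i)
    have h2' : (step i * (2 * d / step i)) % 2 = 0 := Nat.even_iff.1 (hce.mul_right _)
    omega
  have him : i ≤ m := by
    by_contra hlt
    have hj0 : j = 0 := by
      rcases Nat.eq_zero_or_pos j with h0 | h0
      · exact h0
      · have := Nat.le_mul_of_pos_right i h0; omega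
    subst hj0
    exact OrthTSCount.count_bound Q hQ h2 hn hrp hi hmd (by omega) hΩ
  have hjle : j ≤ m / i := (Nat.le_div_iff_mul_le hi0).2 (by rw [mul_comm]; omega)
  refine ⟨him, ?_, ?_⟩
  · obtain ⟨b, hb⟩ : ∃ b, m / i = j + b := ⟨m / i - j, by omega⟩
    rw [hb, Nat.mul_add] at hm
    rcases Nat.eq_zero_or_pos b with rfl | hb0
    · omega
    · have := Nat.le_mul_of_pos_right i hb0
      omega
  rcases Nat.even_or_odd i with hev | hodd
  swap
  · exact Or.inl hodd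
  right
  set 𝒢 := IsoTIElem.factors r F
  have ht : (r - 1) / i = 𝒢.card := by
    rw [← IsoTIElem.card_factors (F := F) hrp hi, Nat.mul_div_cancel _ hi0]
  rw [ht]
  have hmod : m % i < i := Nat.mod_lt _ hi0
  have hn' := Nat.div_add_mod (2 * d) i
  have hkn : 2 * d % i < i := Nat.mod_lt _ hi0
  by_contra hcon
  obtain ⟨l, B, hl, hlen, hBsum, hB, hflen⟩ : ∃ (l : List F[X]) (B : ℕ), (∀ g ∈ l, g ∈ 𝒢) ∧ i * l.length ≤ 2 * d ∧
      (∑ g ∈ 𝒢, l.count g / 2 ≤ B) ∧ B < m / i ∧ 2 * d < i * l.length + 2 * i := by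
    have hm1 : 1 ≤ m / i := (Nat.le_div_iff_mul_le hi0).2 (by omega)
    by_cases hsmall : 2 * d / i ≤ 𝒢.card
    · refine ⟨𝒢.toList.take (2 * d / i), 0, fun g hg => Finset.mem_toList.1 (List.mem_of_mem_take hg), ?_, ?_, by omega, ?_⟩
      · rw [List.length_take, Finset.length_toList, min_eq_left hsmall]; omega
      · refine le_of_eq (Finset.sum_eq_zero fun g _ => ?_)
        have h1 : (𝒢.toList.take (2 * d / i)).count g ≤ 1 :=
          ((List.take_sublist _ _).count_le g).trans (List.nodup_iff_count_le_one.1 (Finset.nodup_toList _) g)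
        omega
      · rw [List.length_take, Finset.length_toList, min_eq_left hsmall]; omega
    · have hne : 𝒢.Nonempty := by
        rw [← Finset.card_pos]
        rcases Nat.eq_zero_or_pos 𝒢.card with h0 | h0
        · have h1 := IsoTIElem.card_factors (F := F) hrp hi
          rw [h0] at h1
          have := hr.out.two_le
          omega
        · exact h0
      obtain ⟨g₁, hg₁⟩ := hne
      obtain ⟨b, hb⟩ : ∃ b, b = (2 * d / i - 𝒢.card) / 2 := ⟨_, rfl⟩
      have hNlen : (List.replicate (2 * b) g₁ ++ 𝒢.toList).length = 2 * b + 𝒢.card := by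
        rw [List.length_append, List.length_replicate, Finset.length_toList]
      refine ⟨List.replicate (2 * b) g₁ ++ 𝒢.toList, b, fun g hg => ?_, ?_, ?_, by omega, ?_⟩
      · rcases List.mem_append.1 hg with h1 | h1
        · rw [(List.mem_replicate.1 h1).2]; exact hg₁
        · exact Finset.mem_toList.1 h1
      · rw [hNlen]
        have e1 : i * (2 * b + 𝒢.card) ≤ i * (2 * d / i) := Nat.mul_le_mul_left _ (by omega)
        omega
      · refine (Finset.sum_le_sum fun g hg => ?_).trans (le_of_eq ((Finset.sum_ite_eq' 𝒢 g₁ fun _ => b).trans (if_pos hg₁)))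
        rw [List.count_append, List.count_replicate, List.count_eq_one_of_mem (Finset.nodup_toList _) (Finset.mem_toList.2 hg)]
        by_cases hgg : g = g₁
        · subst hgg; simp; omega
        · rw [if_neg hgg]
          have : (g₁ == g) = false := beq_eq_false_iff_ne.2 (Ne.symm hgg)
          simp [this]
      · rw [hNlen]
        have e1 : i * (2 * d / i) ≤ i * (2 * b + 𝒢.card + 1) := Nat.mul_le_mul_left _ (by omega)
        rw [Nat.mul_succ] at e1
        omega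
  obtain ⟨Y, hY, hYiso, hYf, hYg⟩ := OrthTSElem.exists_multi Q hQ h2 hrp hr2 hi hev hn l hl hlen
  obtain ⟨j, W, hW, hWm, hWts, hWd, hjm, hjf⟩ := necessary Q hrp hi hY hYiso hQ (h Y hY hYiso)
  have hjB : j ≤ B := by
    refine le_trans (Nat.le_of_mul_le_mul_left ?_ hi0) hBsum
    rw [← hWd, Finset.mul_sum]
    refine (IsoTI.le_sum_ker hrp hY 𝒢 (fun g h1 h2 h3 => IsoTIElem.mem_factors.2 ⟨h1, h2, h3⟩) hW hWm).trans
      (Finset.sum_le_sum fun g hg => ?_)
    obtain ⟨hgi, -, hgd⟩ := IsoTIElem.mem_factors.1 hg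
    have hK := OrthTS.ker_nd Q hQ hrp hr2 hi hev hY hYiso hgi hgd
    have h2' := QuadType.ts_half Q hQ hK (inf_le_right : W ⊓ LinearMap.ker (aeval Y g) ≤ LinearMap.ker (aeval Y g))
      fun v hv => hWts v hv.1
    obtain ⟨⟨b, hb⟩, -⟩ := LinDecomp.moved_sub hrp hi hY (inf_inv hW (PrimeElem.map_ker_le Y g))
      (inf_le_left.trans hWm)
    rw [hb] at h2' ⊢
    refine Nat.mul_le_mul_left _ ((Nat.le_div_iff_mul_le two_pos).2 (Nat.le_of_mul_le_mul_left ?_ hi0))
    exact (le_of_eq (by ring)).trans (h2'.trans (hYg g hg))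
  obtain ⟨a, ha⟩ : ∃ a, m / i = j + a + 1 := ⟨m / i - j - 1, by omega⟩
  rw [ha, Nat.mul_succ, Nat.mul_add] at hm
  have hie : (i * l.length) % 2 = 0 := Nat.even_iff.1 (hev.mul_right _)
  omega

/-- Elements of prime order of Ω_n(q), n = 2d+1 ≥ 7, q odd, with no fixed totally singular `m`-space. Here `T = Ω_n(q)` is realised as the commutator subgroup of the isometry group of the quadratic form `x₀² + Σ xᵢyᵢ` over the field `F` with `q` elements (it has trivial centre, so its elements of prime order `r` are used directly); let `1 ≤ m ≤ d` and let `r` be a prime dividing the number of totally singular `m`-spaces. For `r ≠ p` let `i` be the multiplicative order of `q` modulo `r`, `c = i` for `i` even and `c = 2i` for `i` odd, and write `k = n mod c`, `ℓ = m mod i`, `n' = ⌊n/i⌋`, `m' = ⌊m/i⌋`, `t = (r−1)/i`. Then every element of `T` of order `r` fixes some totally singular `m`-space if and only if either (i) `r = 2` and (`m < (n−1)/2`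 or `q ≡ 1 (mod 4)`); or (ii) `r ≠ p` is odd, `i ≤ m`, `k > 2ℓ`, and (`i` is odd or `n' − 2m' ≥ t`). -/
theorem result {F : Type*} [Field F] [Fintype F] {p : ℕ} [Fact p.Prime] [CharP F p] {q : ℕ} (hq : Fintype.card F = q) (hqodd : Odd q)
    (d m : ℕ) (hd : 3 ≤ d) (hm : 1 ≤ m) (hmd : m ≤ d)
    (r : ℕ) [Fact r.Prime]
    (hrΩ : r ∣ Nat.card {W : Submodule F (Unit ⊕ (Fin d ⊕ Fin d) → F) // Module.finrank F ↥W = m ∧ (∀ w ∈ W, Cfsg.quadFormOdd d F w = 0)})
    (i c : ℕ) (hi : i = orderOf (q : ZMod r)) (hc : c = if Even i then i else 2 * i) :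
    (∀ x : GL (Unit ⊕ (Fin d ⊕ Fin d)) F, x ∈ Cfsg.Geo.omegaGL (Cfsg.quadFormOdd d F) → orderOf x = r →
      ∃ W : Submodule F (Unit ⊕ (Fin d ⊕ Fin d) → F), Module.finrank F ↥W = m ∧ (∀ w ∈ W, Cfsg.quadFormOdd d F w = 0) ∧
        W.map (Matrix.toLin' (x : Matrix (Unit ⊕ (Fin d ⊕ Fin d)) (Unit ⊕ (Fin d ⊕ Fin d)) F)) ≤ W) ↔
    ((r = 2 ∧ (m < d ∨ q % 4 = 1)) ∨
     (r ≠ p ∧ 2 < r ∧ i ≤ m ∧ 2 * (m % i) < (2 * d + 1) % c ∧ (Odd i ∨ (r - 1) / i + 2 * (m / i) ≤ (2 * d + 1) / i))) := by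
  obtain rfl := hq
  have hp2 : p ≠ 2 := fun e => by
    subst e
    obtain ⟨n, _, hn⟩ := FiniteField.card F 2
    rw [hn, Nat.odd_pow_iff (by positivity)] at hqodd
    exact absurd hqodd (by decide)
  have h2 : (2 : F) ≠ 0 := Ring.two_ne_zero (ringChar.eq F p ▸ hp2)
  have hQ := Cfsg.Agent.Lib.Similar.OddGraph.odd_nondeg (F := F) (n := d) h2
  have hn : Fintype.card (Unit ⊕ (Fin d ⊕ Fin d)) = 2 * d + 1 := by
    simp only [Fintype.card_sum, Fintype.card_unit, Fintype.card_fin]; omega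
  rw [coe_oddR] at hrΩ ⊢
  have hrp : r ≠ p := OrthTSCount.ne_char (oddR d F) hQ h2 hn hmd hrΩ
  have hstep : step i = c := hc.symm
  have hn2 : 2 ≤ Fintype.card (Unit ⊕ (Fin d ⊕ Fin d)) := by omega
  rcases eq_or_ne r 2 with hr2 | hr2
  · subst hr2
    simp only [ne_eq, lt_irrefl, false_and, and_false, or_false, true_and]
    constructor
    · intro h
      by_contra hcon
      push Not at hcon
      obtain ⟨hge, hq4⟩ := hcon
      obtain rfl : m = d := le_antisymm hmd hge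
      have hq3 : ¬ IsSquare (-1 : F) := fun e => by
        have := FiniteField.isSquare_neg_one_iff.1 e
        have := Nat.odd_iff.1 hqodd
        omega
      obtain ⟨g, hgd, hgs, hgg, hg1, hgW⟩ := bad_two (oddR m F) hQ h2 hn (by omega) hq3
      have hx : ((isometryEquiv (oddR m F)).symm g).1 ∈ Cfsg.Geo.omegaGL (⇑(oddR m F)) :=
        ⟨_, (mem_Omega_iff (oddR m F) hQ h2 hn2 _).2
          ⟨by rw [MulEquiv.apply_symm_apply]; exact hgd, by rw [MulEquiv.apply_symm_apply]; exact hgs⟩, rfl⟩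
      have hord : orderOf ((isometryEquiv (oddR m F)).symm g).1 = 2 := by
        rw [Subgroup.orderOf_coe, MulEquiv.orderOf_eq]
        exact orderOf_eq_prime (by rw [pow_two, hgg]) hg1
      obtain ⟨W, hWd, hW, hWi⟩ := h _ hx hord
      refine hgW ⟨W, hWd, hW, fun x hx' => ?_⟩
      have h1 := hWi (Submodule.mem_map_of_mem hx')
      rw [Matrix.toLin'_apply, ← isometryEquiv_apply, MulEquiv.apply_symm_apply] at h1
      exact h1
    · intro hcond x hx hxr
      obtain ⟨g, hg, rfl⟩ := hx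
      have hg' := (mem_Omega_iff (oddR d F) hQ h2 hn2 g).1 hg
      refine good_two (oddR d F) hQ h2 hn hmd hcond (isometryEquiv _ g) hg'.1 hg'.2
        (fun v => by rw [isometryEquiv_apply, Matrix.toLin'_apply]; rfl) (fun v => ?_)
      have h1 := congrArg Units.val (hxr ▸ pow_orderOf_eq_one ((Cfsg.isometryGroup F ⇑(oddR d F)).subtype g))
      rw [Units.val_pow_eq_pow_val, Units.val_one] at h1
      rw [← LinearMap.comp_apply, ← Matrix.toLin'_mul, ← pow_two, h1, Matrix.toLin'_one]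
      rfl
  · have hr3 : 2 < r := lt_of_le_of_ne (Fact.out : r.Prime).two_le (Ne.symm hr2)
    obtain ⟨hc0, hce⟩ := OrthNdSub.step_pos (F := F) hi.symm hrp
    have hks := succ_mod (d := d) hce hc0
    rw [hstep] at hks
    have key : 2 * (m % i) < (2 * d + 1) % c ↔ 2 * (m % i) ≤ 2 * d % c := by omega
    have key' : Even i → (2 * d + 1) / i = 2 * d / i := fun hev => by
      rw [step, if_pos hev] at hstep
      rw [← hstep] at hks
      have h1 := Nat.div_add_mod (2 * d + 1) i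
      have h3 := Nat.div_add_mod (2 * d) i
      have hi0 : 0 < i := hi.symm ▸ PrimeElemFlags.order_pos rfl hrp
      exact Nat.eq_of_mul_eq_mul_left hi0 (by omega)
    simp only [hr2, false_and, false_or, ne_eq, hrp, not_false_iff, hr3, true_and, key]
    constructor
    · intro h
      have h' : ∀ X : End F (Unit ⊕ (Fin d ⊕ Fin d) → F), X ^ r = 1 → (∀ v, oddR d F (X v) = oddR d F v) →
          Good (oddR d F) m X := by
        intro X hX hiso
        by_cases hX1 : X = 1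
        · obtain ⟨W, -, hW, hWd⟩ := OrthTS.exists_ts (oddR d F) hQ h2 (QuadType.nd_top _ hQ) (e := m)
            (Or.inl (by rw [finrank_top, Module.finrank_fintype_fun_eq_card, hn]; omega))
          exact ⟨W, hWd, hW, by rw [hX1]; exact (Submodule.map_id W).le⟩
        · obtain ⟨x, hxi, hxr, hxX⟩ := OrthNdSub.exists_matrix (oddR d F) hX hiso
          obtain ⟨W, h1, h3, h4⟩ := h x (OrthDecomp.mem_omega (oddR d F) hQ h2 hr2 hn2 hxi hxr)
            (orderOf_eq_prime hxr fun e => hX1 (by rw [← hxX, e, Units.val_one, Matrix.toLin'_one]; rfl))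
          exact ⟨W, h1, h3, hxX ▸ h4⟩
      obtain ⟨h1, h3, h4⟩ := cond_of_all (oddR d F) hQ h2 hn hrp hr2 hi.symm hmd hrΩ h'
      rw [hstep] at h3
      refine ⟨h1, h3, ?_⟩
      rcases Nat.even_or_odd i with hev | hodd
      · exact Or.inr ((key' hev).symm ▸ h4.resolve_left (Nat.not_odd_iff_even.2 hev))
      · exact Or.inl hodd
    · rintro ⟨-, hk, ht⟩ x hx hxr
      obtain ⟨hX, hiso, -⟩ := OrthNdSub.toLin_props (oddR d F) hx hxr
      refine good_odd (oddR d F) hQ h2 hn hrp hr2 hi.symm hX hiso hmd (hstep.symm ▸ hk) ?_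
      rcases Nat.even_or_odd i with hev | hodd
      · exact Or.inr (key' hev ▸ ht.resolve_left (Nat.not_odd_iff_even.2 hev))
      · exact Or.inl hodd

end Cfsg.Agent.S5972
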