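import Cfsg.Statements.S5973
import Cfsg.Agent.Lib.MaxSub.OrthTSAnyMain
import Cfsg.Agent.Lib.QuadFin.WittIndex
import Mathlib

set_option maxHeartbeats 1000000
set_option linter.unusedSectionVars false
-- import your own Cfsg.Agent.* helpers here

set_option autoImplicit false
open scoped MatrixGroups
open Cfsg

namespace Cfsg.Agent.S5973

open Module Cfsg.Agent.Lib.MaxSub Cfsg.Agent.Lib.Geometry
open Cfsg.Agent.Lib.MaxSub.QuadType (TS Plus)
open QuadraticMap (polarBilin)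
open scoped _root_.Classical

theorem plus_top {F : Type*} [Field F] (d : ℕ) : Plus (matQuad (plusMatrix d F)) ⊤ := by
  refine ⟨Cfsg.Agent.Lib.QuadFin.xSubspace F d, le_top, fun u hu => ?_, ?_⟩
  · rw [← congrFun (quadFormPlus_eq d) u]
    exact Cfsg.Agent.Lib.QuadFin.xSubspace_singular hu
  · rw [Cfsg.Agent.Lib.QuadFin.finrank_xSubspace, finrank_top, Module.finrank_fintype_fun_eq_card, Fintype.card_sum,
      Fintype.card_fin, two_mul]

/-- Elements of prime order of PΩ⁺_n(q), n = 2d ≥ 8, with no fixed totally singular `m`-space, `m < n/2`. Here `T = PΩ⁺_n(q)` is realised through `Ω⁺_n(q)`, the commutator subgroup of the isometry group of the quadratic form `Σ xᵢyᵢ` over the field `F` with `q` elements; an element of `T` of prime order `r` is an element `x` of `Ω⁺_n(q)` with `x^r` scalar and `x` not scalar. Let `1 ≤ m < d` and let `r` be a prime dividing the number of totally singular `m`-spaces. For `r ≠ p` let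 `i` be the multiplicative order of `q` modulo `r`, `c = i` for `i` even and `c = 2i` for `i` odd, and write `k = n mod c`, `ℓ = m mod i`, `n' = ⌊n/i⌋`, `m' = ⌊m/i⌋`, `t = (r−1)/i`. Then every element of `T` of order `r` fixes some totally singular `m`-space if and only if one of: (i) `r = 2 ≠ p` and either `q ≡ 1 (mod 4)`, or `q ≡ 3 (mod 4)`, `m ≤ n/2 − 2` and (`m` even or `n ≡ 2 (mod 4)`); (ii) `r ≠ p` odd, `i` odd, `i ≤ m` and `k ≥ 2ℓ`; (iii) `r ≠ p` odd, `i` even, `i ≤ m`, `n' − 2m' ≥ t`, and one of: `i ≥ 2ℓ`, `k = 0`, `n/i` odd and `n' − 2m' > t`; or `k ≥ 2ℓ` and `n'` even; or `k > 2ℓ` and `n'` odd. -/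
theorem result {F : Type*} [Field F] [Fintype F] {p : ℕ} [Fact p.Prime] [CharP F p] {q : ℕ} (hq : Fintype.card F = q)
    (d m : ℕ) (hd : 4 ≤ d) (hm : 1 ≤ m) (hmd : m < d)
    (r : ℕ) [Fact r.Prime]
    (hrΩ : r ∣ Nat.card {W : Submodule F (Fin d ⊕ Fin d → F) // Module.finrank F ↥W = m ∧ (∀ w ∈ W, Cfsg.quadFormPlus d F w = 0)})
    (i c : ℕ) (hi : i = orderOf (q : ZMod r)) (hc : c = if Even i then i else 2 * i) :
    (∀ x : GL (Fin d ⊕ Fin d) F, x ∈ Cfsg.Geo.omegaGL (Cfsg.quadFormPlus d F) →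
      (∃ z : F, ((x ^ r : GL (Fin d ⊕ Fin d) F) : Matrix (Fin d ⊕ Fin d) (Fin d ⊕ Fin d) F) = z • (1 : Matrix (Fin d ⊕ Fin d) (Fin d ⊕ Fin d) F)) →
      (∀ z : F, (x : Matrix (Fin d ⊕ Fin d) (Fin d ⊕ Fin d) F) ≠ z • (1 : Matrix (Fin d ⊕ Fin d) (Fin d ⊕ Fin d) F)) →
      ∃ W : Submodule F (Fin d ⊕ Fin d → F), Module.finrank F ↥W = m ∧ (∀ w ∈ W, Cfsg.quadFormPlus d F w = 0) ∧
        W.map (Matrix.toLin' (x : Matrix (Fin d ⊕ Fin d) (Fin d ⊕ Fin d) F)) ≤ W) ↔
    ((r = 2 ∧ p ≠ 2 ∧ (q % 4 = 1 ∨ (q % 4 = 3 ∧ m + 2 ≤ d ∧ (Even m ∨ (2 * d) % 4 = 2)))) ∨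
     (r ≠ p ∧ 2 < r ∧ Odd i ∧ i ≤ m ∧ 2 * (m % i) ≤ (2 * d) % c) ∨
     (r ≠ p ∧ 2 < r ∧ Even i ∧ i ≤ m ∧ (r - 1) / i + 2 * (m / i) ≤ (2 * d) / i ∧
       ((2 * (m % i) ≤ i ∧ (2 * d) % c = 0 ∧ Odd ((2 * d) / i) ∧ (r - 1) / i + 2 * (m / i) < (2 * d) / i) ∨
        (2 * (m % i) ≤ (2 * d) % c ∧ Even ((2 * d) / i)) ∨
        (2 * (m % i) < (2 * d) % c ∧ Odd ((2 * d) / i))))) := by
  obtain rfl := hq
  have hdet : ((plusMatrix d F) + Matrix.transpose (plusMatrix d F)).det ≠ 0 := by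
    rw [det_plusGram]
    exact pow_ne_zero _ (neg_ne_zero.2 one_ne_zero)
  have hQ := polarBilin_matQuad_nondegenerate hdet
  have hn : Fintype.card (Fin d ⊕ Fin d) = 2 * d := by
    simp only [Fintype.card_sum, Fintype.card_fin]; omega
  rw [quadFormPlus_eq d] at hrΩ ⊢
  have hp := plus_top (F := F) d
  refine (OrthTSAnyMain.main (p := p) (matQuad (plusMatrix d F)) hQ hn hd hm hmd hi.symm hrΩ).trans ?_
  simp only [Cfsg.Agent.Lib.MaxSub.OrthTSTwo.CondTwo, Cfsg.Agent.Lib.MaxSub.OrthTSAny.Cond, hp, not_true_eq_false,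
    IsEmpty.forall_iff, forall_const, and_true, iff_true]
  subst hc
  have e : p ≠ 2 → (((Fintype.card F % 4 = 1 ∨ m + 2 ≤ d ∧ (Even m ∨ Odd d))) ↔
      (Fintype.card F % 4 = 1 ∨ Fintype.card F % 4 = 3 ∧ m + 2 ≤ d ∧ (Even m ∨ 2 * d % 4 = 2))) := fun hp2 => by
    have := FiniteField.odd_card_of_char_ne_two (F := F) (ringChar.eq F p ▸ hp2)
    rw [Nat.odd_iff, Nat.even_iff]
    omega
  refine or_congr (and_congr_right fun _ => and_congr_right e) ?_
  rcases Nat.even_or_odd i with hev | hodd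
  · simp only [hev, Nat.not_odd_iff_even.2 hev, IsoDecomp.step, if_pos, IsEmpty.forall_iff, forall_const, false_and,
      and_false, false_or, or_false, true_and, Nat.not_even_iff_odd]
  · simp only [hodd, Nat.not_even_iff_odd.2 hodd, IsoDecomp.step, if_false, IsEmpty.forall_iff, forall_const, false_and,
      and_false, false_or, or_false, true_and, and_true, Nat.not_even_iff_odd]


end Cfsg.Agent.S5973
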