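import Cfsg.Statements.S5974
import Cfsg.Agent.Lib.MaxSub.OrthNdAnyMain
import Cfsg.Agent.Lib.MaxSub.OrthNdInvolTwo
import Cfsg.Agent.S5973
import Mathlib

set_option maxHeartbeats 1000000
set_option linter.unusedSectionVars false

set_option autoImplicit false
open scoped MatrixGroups
open Cfsg

namespace Cfsg.Agent.S5974

open Module Cfsg.Agent.Lib.MaxSub Cfsg.Agent.Lib.Geometry
open Cfsg.Agent.Lib.MaxSub.QuadType (Plus)
open QuadraticMap (polarBilin)
open scoped _root_.Classical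

/-- Elements of prime order of PΩ⁺_n(q), n = 2d ≥ 8, with no fixed nondegenerate hyperbolic `m`-space. Here `T = PΩ⁺_n(q)` is realised through `Ω⁺_n(q)`, the commutator subgroup of the isometry group of `Q = Σ xᵢyᵢ` over the field `F` with `q` elements; an element of `T` of prime order `r` is an element `x` of `Ω⁺_n(q)` with `x^r` scalar and `x` not scalar. A hyperbolic `m`-space is a subspace `W` of even dimension `m` on which the polar form of `Q` is nondegenerate and which contains a totally singular subspace of dimension `m/2`. Let `m` be even with `2 ≤ m < n/2`, and let `r` be a prime dividing the number of hyperbolic `m`-spaces, with `r = 2` or `r ≠ p`. For `r ≠ p` let `i` be the multiplicative order of `q` modulo `r`, `c = i` for `i` even and `c = 2i` for `i` odd, and write `k = n mod c`, `ℓ' = m mod c`. Then every element of `T` of order `r` fixes some hyperbolic `m`-space if and only if one of: (i) `r = 2` and (`n ≡ 2 (mod 4)`, or `m ≡ 0 (mod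 4)`, or `q ≡ 1 (mod 4)`); (ii) `r ≠ p` odd, `i` odd, `c ≤ m` and `k ≥ ℓ'`; (iii) `r ≠ p` odd, `i` even, and either `k = 0` and (`n/i` odd, or `ℓ' = 0` and `m/i` even), or `i ≤ m` and (`k > ℓ' > 0`, or `k = ℓ' > 0` and `(n + m − 2k)/i` even, or `k > ℓ' = 0` and `m/i` even). -/
theorem result {F : Type*} [Field F] [Fintype F] {p : ℕ} [Fact p.Prime] [CharP F p] {q : ℕ} (hq : Fintype.card F = q)
    (d m : ℕ) (hd : 4 ≤ d) (hm : 2 ≤ m) (hme : Even m) (hmd : m < d)
    (r : ℕ) [Fact r.Prime] (hr : r = 2 ∨ r ≠ p)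
    (hrΩ : r ∣ Nat.card {W : Submodule F (Fin d ⊕ Fin d → F) // (Module.finrank F ↥W = m ∧ (∀ u ∈ W, u ≠ 0 → ∃ v ∈ W, QuadraticMap.polar (Cfsg.quadFormPlus d F) u v ≠ 0) ∧
          ∃ U : Submodule F (Fin d ⊕ Fin d → F), U ≤ W ∧ 2 * Module.finrank F ↥U = m ∧ ∀ u ∈ U, Cfsg.quadFormPlus d F u = 0)})
    (i c : ℕ) (hi : i = orderOf (q : ZMod r)) (hc : c = if Even i then i else 2 * i) :
    (∀ x : GL (Fin d ⊕ Fin d) F, x ∈ Cfsg.Geo.omegaGL (Cfsg.quadFormPlus d F) →
      (∃ z : F, ((x ^ r : GL (Fin d ⊕ Fin d) F) : Matrix (Fin d ⊕ Fin d) (Fin d ⊕ Fin d) F) = z • (1 : Matrix (Fin d ⊕ Fin d) (Fin d ⊕ Fin d) F)) →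
      (∀ z : F, (x : Matrix (Fin d ⊕ Fin d) (Fin d ⊕ Fin d) F) ≠ z • (1 : Matrix (Fin d ⊕ Fin d) (Fin d ⊕ Fin d) F)) →
      ∃ W : Submodule F (Fin d ⊕ Fin d → F), (Module.finrank F ↥W = m ∧ (∀ u ∈ W, u ≠ 0 → ∃ v ∈ W, QuadraticMap.polar (Cfsg.quadFormPlus d F) u v ≠ 0) ∧
          ∃ U : Submodule F (Fin d ⊕ Fin d → F), U ≤ W ∧ 2 * Module.finrank F ↥U = m ∧ ∀ u ∈ U, Cfsg.quadFormPlus d F u = 0) ∧
        W.map (Matrix.toLin' (x : Matrix (Fin d ⊕ Fin d) (Fin d ⊕ Fin d) F)) ≤ W) ↔
    ((r = 2 ∧ ((2 * d) % 4 = 2 ∨ m % 4 = 0 ∨ q % 4 = 1)) ∨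
     (r ≠ p ∧ 2 < r ∧ Odd i ∧ c ≤ m ∧ m % c ≤ (2 * d) % c) ∨
     (r ≠ p ∧ 2 < r ∧ Even i ∧
       (((2 * d) % c = 0 ∧ (Odd ((2 * d) / i) ∨ (m % c = 0 ∧ Even (m / i)))) ∨
        (i ≤ m ∧ ((m % c < (2 * d) % c ∧ 0 < m % c) ∨
                  ((2 * d) % c = m % c ∧ 0 < m % c ∧ Even ((2 * d + m - 2 * ((2 * d) % c)) / i)) ∨
                  (0 < (2 * d) % c ∧ m % c = 0 ∧ Even (m / i))))))) := by
  obtain rfl := hq
  have hdet : ((plusMatrix d F) + Matrix.transpose (plusMatrix d F)).det ≠ 0 := by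
    rw [det_plusGram]
    exact pow_ne_zero _ (neg_ne_zero.2 one_ne_zero)
  have hQ := polarBilin_matQuad_nondegenerate hdet
  have hn : Fintype.card (Fin d ⊕ Fin d) = 2 * d := by
    simp only [Fintype.card_sum, Fintype.card_fin]; omega
  rw [quadFormPlus_eq d] at hrΩ ⊢
  have hp := S5973.plus_top (F := F) d
  have hsub : ∀ W : Submodule F (Fin d ⊕ Fin d → F), (finrank F W = m ∧
      (∀ u ∈ W, u ≠ 0 → ∃ v ∈ W, QuadraticMap.polar ⇑(matQuad (plusMatrix d F)) u v ≠ 0) ∧
      ∃ U : Submodule F (Fin d ⊕ Fin d → F), U ≤ W ∧ 2 * finrank F U = m ∧ ∀ u ∈ U, matQuad (plusMatrix d F) u = 0) ↔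
      OrthNdSub.Sub (matQuad (plusMatrix d F)) m True W := by
    intro W
    constructor
    · rintro ⟨h1, h3, U, h4, h5, h6⟩
      exact ⟨h1, fun a ha ha0 => by simpa [QuadraticMap.polarBilin_apply_apply] using h3 a ha ha0,
        iff_of_true ⟨U, h4, h6, by rw [h5, h1]⟩ trivial⟩
    · rintro ⟨h1, h3, h4⟩
      obtain ⟨U, h5, h6, h7⟩ := h4.2 trivial
      exact ⟨h1, fun a ha ha0 => by simpa [QuadraticMap.polarBilin_apply_apply] using h3 a ha ha0,
        U, h5, by rw [h7, h1], h6⟩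
  rw [OrthNdAnyMain.all_iff _ hsub]
  rw [Nat.card_congr (Equiv.subtypeEquivRight hsub)] at hrΩ
  rcases eq_or_ne r 2 with rfl | hr2
  · simp only [lt_irrefl, false_and, and_false, or_false, true_and]
    by_cases hp2 : p = 2
    · subst hp2
      have h2 : (2 : F) = 0 := CharTwo.two_eq_zero
      obtain ⟨M, rfl⟩ : ∃ M, m = 2 * M := ⟨m / 2, by rw [Nat.even_iff] at hme; omega⟩
      have hqe : 2 ∣ Fintype.card F := by
        obtain ⟨k, -, hk⟩ := FiniteField.card F 2
        rw [hk]; exact dvd_pow_self 2 k.pos.ne'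
      constructor
      · intro h
        by_contra hC
        obtain ⟨x, h1, h3, h4, h5⟩ := OrthNdInvolTwo.bad (M := M) _ hQ h2 hn hd fun hc => by
          have := hc.1 hp
          simp only [Nat.even_iff, Nat.odd_iff] at this
          omega
        exact h5 (by simpa [hp] using h x h1 h3 h4)
      · intro hC x hx hz _
        have := OrthNdInvolTwo.all_good _ hQ h2 hn hd (M := M) (by omega) (by omega) ⟨fun _ => by
          simp only [Nat.even_iff, Nat.odd_iff]
          omega, fun h => absurd hp h⟩ x hx hz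
        simpa [hp] using this
    · have h2 : (2 : F) ≠ 0 := Ring.two_ne_zero (ringChar.eq F p ▸ hp2)
      rw [OrthNdAnyMain.main_two _ hQ h2 hn hd hme (by omega) (by omega)]
      have hodd := FiniteField.odd_card_of_char_ne_two (F := F) (ringChar.eq F p ▸ hp2)
      simp only [OrthNdTwo.Cond, hp, true_iff, false_iff, iff_true, iff_false, ne_eq, hp2, not_false_iff, true_and, false_and,
        false_or]
      simp only [Nat.even_iff, Nat.odd_iff] at hme ⊢
      omega
  have hrp : r ≠ p := hr.resolve_left hr2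
  have hr3 : 2 < r := lt_of_le_of_ne (Fact.out : r.Prime).two_le (Ne.symm hr2)
  rw [OrthNdAnyMain.main_odd _ hQ hrp hr2 hn hd hme (by omega) (by omega) hi.symm hrΩ]
  simp only [OrthNdAny.Cond, hp, hr2, ne_eq, hrp, not_false_iff, hr3, true_and, false_and, false_or]
  subst hc
  rcases Nat.even_or_odd i with hev | hodd
  · simp only [OrthDecomp.typ, hev, Nat.not_odd_iff_even.2 hev, IsoDecomp.step, if_pos, false_or, true_and, false_and,
      iff_false, true_iff, iff_true, false_iff, Nat.not_even_iff_odd, not_not]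
    have hi0 : 0 < i := hi ▸ PrimeElemFlags.order_pos rfl hrp
    have h1 := Nat.div_add_mod (2 * d) i
    have h3 := Nat.div_add_mod m i
    have hcomb : m % i = 2 * d % i → (2 * d + m - 2 * (2 * d % i)) / i = 2 * d / i + m / i := fun h => by
      refine Nat.div_eq_of_eq_mul_left hi0 ?_
      rw [Nat.add_mul, mul_comm (2 * d / i), mul_comm (m / i)]
      omega
    by_cases hk : m % i = 2 * d % i
    · rw [hcomb hk]
      simp only [Nat.even_iff, Nat.odd_iff]
      omega
    · simp only [Nat.even_iff, Nat.odd_iff]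
      omega
  · simp only [OrthDecomp.typ, hodd, Nat.not_even_iff_odd.2 hodd, IsoDecomp.step, if_false, true_or, true_and, false_and,
      iff_false, true_iff, not_true_eq_false, and_false, or_false, false_or, iff_true, not_false_iff]
    have hle : m % (2 * i) = 0 → 2 * i ≤ m := fun h => Nat.le_of_dvd (by omega) (Nat.dvd_of_mod_eq_zero h)
    simp only [and_true]
    omega

end Cfsg.Agent.S5974
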