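import Cfsg.Statements.S5980
import Cfsg.Agent.Lib.MaxSub.SympPrimeElem
import Cfsg.Agent.Lib.MaxSub.SympInvolConj
import Mathlib

set_option autoImplicit false
set_option maxHeartbeats 1000000
-- import your own Cfsg.Agent.* helpers here

open scoped MatrixGroups
open Cfsg

namespace Cfsg.Agent.S5980

open Module Polynomial Cfsg.Agent.Lib.MaxSub Matrix Kronecker

variable {F : Type*} [Field F] {a b d : ℕ}

local notation "AB" => Matrix (Fin a × Fin b) (Fin a × Fin b) F
local notation "M" => Matrix (Fin d ⊕ Fin d) (Fin d ⊕ Fin d) F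

theorem rank_swap (A : Matrix (Fin a) (Fin a) F) (B : Matrix (Fin b) (Fin b) F) (μ : F) :
    (A ⊗ₖ B - μ • 1).rank = (B ⊗ₖ A - μ • 1).rank := by
  rw [← Matrix.rank_submatrix (A ⊗ₖ B - μ • 1) (Equiv.prodComm (Fin b) (Fin a)) (Equiv.prodComm (Fin b) (Fin a))]
  congr 1
  ext ⟨k, i⟩ ⟨l, j⟩
  simp [Matrix.one_apply, mul_comm, and_comm]

theorem one_kron_sub (C : Matrix (Fin b) (Fin b) F) :
    (1 : Matrix (Fin a) (Fin a) F) ⊗ₖ (C - 1) = (1 : Matrix (Fin a) (Fin a) F) ⊗ₖ C - 1 := by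
  ext ⟨i, k⟩ ⟨j, l⟩
  simp only [Matrix.sub_apply, Matrix.kronecker_apply, Matrix.one_apply, Prod.mk.injEq]
  split_ifs <;> simp_all

theorem kronecker_mulVec (A : Matrix (Fin a) (Fin a) F) (B : Matrix (Fin b) (Fin b) F) (X : Fin a × Fin b → F)
    (i : Fin a) (k : Fin b) :
    ((A ⊗ₖ B) *ᵥ X) (i, k) = (A *ᵥ ((Matrix.of fun i l => X (i, l)) *ᵥ fun l => B k l)) i := by
  simp only [Matrix.mulVec, dotProduct, Fintype.sum_prod_type, Matrix.kronecker_apply, Matrix.of_apply, Finset.mul_sum]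
  exact Finset.sum_congr rfl fun j _ => Finset.sum_congr rfl fun l _ => by ring

/-- A cyclic block of one factor bounds the fixed space of a Kronecker product. -/
theorem rank_ge (A : Matrix (Fin a) (Fin a) F) (hA : A.det ≠ 0) (B : Matrix (Fin b) (Fin b) F) {μ : F} {c : ℕ}
    (hc : 0 < c) {v : Fin b → F} (hv : LinearIndependent F fun j : Fin c => (Matrix.toLin' Bᵀ ^ (j : ℕ)) v) :
    a * (c - 1) ≤ (A ⊗ₖ B - μ • 1).rank := by
  classical
  set S := Submodule.span F (Set.range fun j : Fin c => (Matrix.toLin' Bᵀ ^ (j : ℕ)) v)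
  have hS : finrank F S = c := (finrank_span_eq_card hv).trans (Fintype.card_fin c)
  obtain ⟨W, hW⟩ := exists_isCompl S
  have hWd : finrank F W + c = b := by
    have h := Submodule.finrank_add_eq_of_isCompl hW
    rw [hS, Module.finrank_fin_fun] at h
    omega
  let W' : Submodule F (Fin b → F) := W ⊔ F ∙ v
  have hW' : finrank F W' ≤ finrank F W + 1 :=
    (Submodule.finrank_add_le_finrank_add_finrank _ _).trans (Nat.add_le_add_left ((finrank_span_le_card ({v} : Set (Fin b → F))).trans (by simp)) _)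
  set K := LinearMap.ker (Matrix.mulVecLin (A ⊗ₖ B - μ • 1))
  let Φ : K →ₗ[F] (W' →ₗ[F] (Fin a → F)) :=
    { toFun := fun X => (Matrix.toLin' (Matrix.of fun i l => (X : Fin a × Fin b → F) (i, l))).comp W'.subtype
      map_add' := fun X Y => by ext u i; simp [Matrix.mulVec, dotProduct, add_mul, Finset.sum_add_distrib]
      map_smul' := fun t X => by ext u i; simp [Matrix.mulVec, dotProduct, Finset.mul_sum, mul_assoc] }
  have hinj : Function.Injective Φ := by
    refine (injective_iff_map_eq_zero Φ).2 fun X hX => ?_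
    set Xm : Matrix (Fin a) (Fin b) F := Matrix.of fun i l => (X : Fin a × Fin b → F) (i, l)
    have h0 : ∀ u ∈ W', Xm *ᵥ u = 0 := fun u hu => LinearMap.congr_fun hX ⟨u, hu⟩
    have hrel : ∀ k, A *ᵥ (Xm *ᵥ fun l => B k l) = μ • fun i => Xm i k := fun k => by
      funext i
      have h := congrFun (LinearMap.mem_ker.1 X.2) (i, k)
      rw [Matrix.mulVecLin_apply, Matrix.sub_mulVec, Pi.sub_apply, Pi.zero_apply, sub_eq_zero, kronecker_mulVec,
        Matrix.smul_mulVec, Matrix.one_mulVec] at h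
      exact h
    have hstep : ∀ u, Xm *ᵥ u = 0 → Xm *ᵥ (Bᵀ *ᵥ u) = 0 := fun u hu => by
      have h1 : A *ᵥ (Xm *ᵥ (Bᵀ *ᵥ u)) = μ • (Xm *ᵥ u) := by
        have e : ∀ w : Fin b → F, w = ∑ k, u k • (fun l => B k l) → A *ᵥ (Xm *ᵥ w) = μ • (Xm *ᵥ u) := by
          rintro w rfl
          rw [Matrix.mulVec_sum, Matrix.mulVec_sum]
          simp only [Matrix.mulVec_smul, hrel]
          funext i
          simp [Matrix.mulVec, dotProduct, Finset.mul_sum, mul_comm, mul_left_comm]
        refine e _ ?_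
        funext l
        simp [Matrix.mulVec, dotProduct, mul_comm]
      rw [hu, smul_zero] at h1
      exact Matrix.eq_zero_of_mulVec_eq_zero hA h1
    have hvj : ∀ j : ℕ, Xm *ᵥ ((Matrix.toLin' Bᵀ ^ j) v) = 0 := fun j => by
      induction j with
      | zero => exact h0 v (Submodule.mem_sup_right (Submodule.mem_span_singleton_self v))
      | succ j ih => rw [pow_succ', Module.End.mul_apply, Matrix.toLin'_apply]; exact hstep _ ih
    have hker : (⊤ : Submodule F (Fin b → F)) ≤ LinearMap.ker (Matrix.toLin' Xm) := by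
      rw [← hW.sup_eq_top]
      refine sup_le (Submodule.span_le.2 ?_) fun u hu => h0 u (Submodule.mem_sup_left hu)
      rintro _ ⟨j, rfl⟩
      exact hvj j
    have hXm : Xm = 0 := Matrix.toLin'.injective (LinearMap.ext fun u => by rw [map_zero]; exact hker Submodule.mem_top)
    refine Subtype.ext (funext fun p => ?_)
    exact congrFun (congrFun hXm p.1) p.2
  have h1 := LinearMap.finrank_le_finrank_of_injective hinj
  rw [Module.finrank_linearMap, Module.finrank_fin_fun] at h1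
  have h2 := (Matrix.mulVecLin (A ⊗ₖ B - μ • 1)).finrank_range_add_finrank_ker
  rw [Module.finrank_fintype_fun_eq_card, Fintype.card_prod, Fintype.card_fin, Fintype.card_fin] at h2
  change (A ⊗ₖ B - μ • 1).rank + finrank F K = _ at h2
  have h3 : finrank F W' * a ≤ (b - (c - 1)) * a := Nat.mul_le_mul_right _ (by omega)
  have h4 : (b - (c - 1)) * a + a * (c - 1) = a * b := by
    rw [mul_comm (b - (c - 1)), ← Nat.mul_add, Nat.sub_add_cancel (by omega)]
  omega

section

variable [Fintype F] {p : ℕ} [Fact p.Prime] [CharP F p] {r : ℕ} [hr : Fact r.Prime]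

/-- A non-scalar root of a scalar has a cyclic block. -/
theorem exists_cyclic_vec (hrp : r ≠ p) {c : ℕ} (hc : orderOf ((Fintype.card F : ℕ) : ZMod r) = c) (hc1 : c ≠ 1)
    {B : Matrix (Fin b) (Fin b) F} {κ : F} (hκ : κ ≠ 0) (hB : B ^ r = κ • 1) (hns : ∀ α : F, B ≠ α • 1) :
    c ≤ b ∧ ∃ v : Fin b → F, LinearIndependent F fun j : Fin c => (Matrix.toLin' B ^ (j : ℕ)) v := by
  obtain ⟨β, hβ0, hβ⟩ := PrimeElemFlags.exists_root (r := r) rfl hrp (hc.symm ▸ hc1) hκ
  set y := β⁻¹ • Matrix.toLin' B with hy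
  have hyr : y ^ r = 1 := PrimeElemFlags.root_scale hβ0 hβ (by rw [← Matrix.toLin'_pow, hB, map_smul, Matrix.toLin'_one]; rfl)
  have hy1 : y ≠ 1 := fun e => hns β (Matrix.toLin'.injective (by
    rw [map_smul, Matrix.toLin'_one]
    have h := congrArg (β • ·) e
    simp only [hy, smul_smul, mul_inv_cancel₀ hβ0, one_smul] at h
    exact h))
  obtain ⟨w, hw⟩ : ∃ w, (y - 1) w ≠ 0 := by
    by_contra hne
    push Not at hne
    exact hy1 (sub_eq_zero.1 (LinearMap.ext hne))
  set v := (y - 1) w with hvdef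
  have hcyc : aeval y (cyclotomic r F) v = 0 := by
    have h := LinearMap.congr_fun (congrArg (aeval y) (cyclotomic_prime_mul_X_sub_one F r)) w
    rw [map_mul, Module.End.mul_apply, map_sub, map_sub, aeval_X, map_one, map_pow, aeval_X, hyr, sub_self] at h
    exact h
  have hli : LinearIndependent F fun j : Fin c => (y ^ (j : ℕ)) v := by
    rw [Fintype.linearIndependent_iff]
    intro l hl
    set h : F[X] := ∑ j : Fin c, Polynomial.C (l j) * X ^ (j : ℕ) with hh
    have hhv : aeval y h v = 0 := by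
      rw [hh, map_sum, LinearMap.sum_apply]
      simpa [Algebra.algebraMap_eq_smul_one] using hl
    have hcoef : ∀ j : Fin c, h.coeff (j : ℕ) = l j := fun j => by
      simp [hh, Polynomial.finset_sum_coeff, coeff_X_pow, Fin.val_inj]
    by_contra hne
    push Not at hne
    obtain ⟨j, hj⟩ := hne
    have hh0 : h ≠ 0 := fun e => hj (by rw [← hcoef, e, coeff_zero])
    have hdeg : h.natDegree < c := by
      refine lt_of_le_of_lt (natDegree_le_iff_coeff_eq_zero.2 fun m hm => ?_) (show c - 1 < c by have := j.2; omega)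
      simp [hh, Polynomial.finset_sum_coeff, coeff_X_pow]
      exact Finset.sum_eq_zero fun i _ => if_neg (by have := i.2; omega)
    obtain ⟨u, u', huu⟩ := isCoprime_of_prime_dvd (x := h) (y := cyclotomic r F) (fun e => hh0 e.1) fun g hg h1 h2 => by
      have h3 := natDegree_le_of_dvd h1 hh0
      rw [PrimeElemFlags.deg_eq rfl hrp g hg.irreducible h2, hc] at h3
      omega
    have h4 := LinearMap.congr_fun (congrArg (aeval y) huu) v
    rw [map_add, LinearMap.add_apply, map_mul, map_mul, Module.End.mul_apply, Module.End.mul_apply, hhv, hcyc, map_zero,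
      map_zero, add_zero, map_one] at h4
    exact hw h4.symm
  refine ⟨by simpa using hli.fintype_card_le_finrank, v, ?_⟩
  have hu := hli.units_smul (fun j : Fin c => (Units.mk0 β hβ0) ^ (j : ℕ))
  convert hu using 1
  funext j
  simp [hy, _root_.smul_pow, smul_smul, hβ0, Units.smul_def]

omit [Fintype F] [Fact p.Prime] [CharP F p] in
theorem kron_pow (A : Matrix (Fin a) (Fin a) F) (B : Matrix (Fin b) (Fin b) F) (m : ℕ) :
    (A ⊗ₖ B) ^ m = (A ^ m) ⊗ₖ (B ^ m) := by
  induction m with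
  | zero => simp
  | succ m ih => rw [pow_succ, ih, ← Matrix.mul_kronecker_mul, pow_succ, pow_succ]

omit [Fintype F] [Fact p.Prime] [CharP F p] in
theorem scalar_powers (ha : 0 < a) (hb : 0 < b) {A : Matrix (Fin a) (Fin a) F} {B : Matrix (Fin b) (Fin b) F}
    (hAB : (A ⊗ₖ B) ^ r = 1) :
    ∃ κ : F, κ ≠ 0 ∧ A ^ r = κ • 1 ∧ Bᵀ ^ r = κ⁻¹ • 1 := by
  rw [kron_pow] at hAB
  let i0 : Fin a := ⟨0, ha⟩
  let k0 : Fin b := ⟨0, hb⟩
  have h00 := congrFun (congrFun hAB (i0, k0)) (i0, k0)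
  rw [Matrix.kronecker_apply, Matrix.one_apply_eq] at h00
  have hB0 : (B ^ r) k0 k0 ≠ 0 := right_ne_zero_of_mul (h00.symm ▸ one_ne_zero)
  have hA0 : (A ^ r) i0 i0 ≠ 0 := left_ne_zero_of_mul (h00.symm ▸ one_ne_zero)
  refine ⟨(A ^ r) i0 i0, hA0, ?_, ?_⟩
  · ext i j
    have h := congrFun (congrFun hAB (i, k0)) (j, k0)
    rw [Matrix.kronecker_apply] at h
    simp only [Matrix.one_apply, Prod.mk.injEq, and_true] at h
    rw [Matrix.smul_apply, Matrix.one_apply]
    split_ifs with hij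
    · rw [if_pos hij] at h
      exact mul_right_cancel₀ hB0 (by simp [h, h00])
    · rw [if_neg hij] at h
      simp [(mul_eq_zero.1 h).resolve_right hB0]
  · rw [← Matrix.transpose_pow, ← Matrix.transpose_one, ← Matrix.transpose_smul]
    congr 1
    ext k l
    have h := congrFun (congrFun hAB (i0, k)) (i0, l)
    rw [Matrix.kronecker_apply] at h
    simp only [Matrix.one_apply, Prod.mk.injEq, true_and] at h
    rw [Matrix.smul_apply, Matrix.one_apply, smul_eq_mul, eq_inv_mul_iff_mul_eq₀ hA0, h]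

/-- The elements with small displacement are not in the stabiliser. -/
theorem not_mem (hrp : r ≠ p) {c : ℕ} (hc : orderOf ((Fintype.card F : ℕ) : ZMod r) = c) (hc1 : c ≠ 1)
    (hab : 2 * d = a * b) (hae : Even a) (ha2 : 2 ≤ a) (hb : 3 ≤ b) {x : GL (Fin d ⊕ Fin d) F} (hxr : (x : M) ^ r = 1)
    (hx : (Even c ∧ ((x : M) - 1).rank = c) ∨
      (Odd c ∧ ((x : M) - 1).rank = 2 * c ∧ c ≤ d ∧ ∃ g : F[X], Irreducible g ∧ g.natDegree = c ∧
        g ∣ cyclotomic r F ∧ (aeval (x : M) g).rank = 2 * d - c))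
    {e : (Fin d ⊕ Fin d) ≃ Fin a × Fin b} {P h : GL (Fin d ⊕ Fin d) F} :
    ¬ h⁻¹ * x * h ∈ Cfsg.Geo.tensorProductSubgroup a b e P := by
  classical
  intro hm
  obtain ⟨A, B, hA, hB, hf⟩ := S5979.exists_data hm
  have hc0 : 0 < c := hc ▸ PrimeElemFlags.order_pos rfl hrp
  have hAB : (A ⊗ₖ B) ^ r = 1 := by
    have h1 := hf (X ^ r - Polynomial.C 1)
    rw [map_sub, map_pow, aeval_X, map_sub, map_pow, aeval_X, aeval_C, aeval_C, map_one, map_one, hxr, sub_self,
      Matrix.rank_zero, eq_comm, Matrix.rank, Submodule.finrank_eq_zero, LinearMap.range_eq_bot] at h1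
    exact sub_eq_zero.1 (Matrix.toLin'.injective (h1.trans (map_zero Matrix.toLin').symm))
  have hR : ((x : M) - 1).rank = (A ⊗ₖ B - (1 : F) • 1).rank := by
    have h1 := hf (X - Polynomial.C 1)
    simpa [Algebra.algebraMap_eq_smul_one] using h1
  obtain ⟨κ, hκ, hAr, hBr⟩ := scalar_powers (show 0 < a by omega) (show 0 < b by omega) hAB
  by_cases hAs : ∃ α : F, A = α • 1
  · obtain ⟨α, rfl⟩ := hAs
    have hC : (α • (1 : Matrix (Fin a) (Fin a) F)) ⊗ₖ B = (1 : Matrix (Fin a) (Fin a) F) ⊗ₖ (α • B) := by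
      rw [Matrix.smul_kronecker, Matrix.kronecker_smul]
    rw [hC] at hR hAB
    rw [show (1 : Matrix (Fin a) (Fin a) F) ⊗ₖ (α • B) - (1 : F) • 1 = (1 : Matrix (Fin a) (Fin a) F) ⊗ₖ (α • B - 1) by
      rw [one_smul, one_kron_sub], S5979.rank_one_kronecker] at hR
    have hC1 : (α • B) ^ r = 1 := by
      rw [kron_pow, one_pow] at hAB
      ext k l
      have := congrFun (congrFun hAB (⟨0, by omega⟩, k)) (⟨0, by omega⟩, l)
      simpa [Matrix.one_apply] using this
    obtain ⟨s, hs⟩ := SympPrimeElem.rank_sub_one hc hrp hC1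
    rw [hs] at hR
    rcases hx with ⟨-, hx⟩ | ⟨hco, hx, hcd, g, hg, hgc, hgd, hgr⟩
    · rw [hx, mul_left_comm] at hR
      have h1 : a * s = 1 := Nat.eq_of_mul_eq_mul_left hc0 (by rw [mul_one]; exact hR.symm)
      have := Nat.eq_one_of_mul_eq_one_right h1
      omega
    · rw [hx, mul_left_comm, mul_comm 2 c] at hR
      have h1 : a * s = 2 := Nat.eq_of_mul_eq_mul_left hc0 hR.symm
      have ha : a = 2 := by
        have := Nat.le_of_dvd (by norm_num) (Dvd.intro s h1)
        omega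
      subst ha
      have h2 := hf g
      rw [hgr, hC, S5979.aeval_one_kronecker, S5979.rank_one_kronecker] at h2
      obtain ⟨j, hj⟩ := hco
      omega
  push Not at hAs
  have hATs : ∀ α : F, Aᵀ ≠ α • 1 := fun α e' => hAs α (by
    rw [← Matrix.transpose_transpose A, e', Matrix.transpose_smul, Matrix.transpose_one])
  obtain ⟨hca, v, hv⟩ := exists_cyclic_vec (B := Aᵀ) hrp hc hc1 hκ
    (by rw [← Matrix.transpose_pow, hAr, Matrix.transpose_smul, Matrix.transpose_one]) hATs
  have hbA : b * (c - 1) ≤ ((x : M) - 1).rank := by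
    rw [hR, rank_swap]
    exact rank_ge B hB A hc0 hv
  have hb3 : 3 * (c - 1) ≤ b * (c - 1) := Nat.mul_le_mul_right _ hb
  rcases hx with ⟨-, hx⟩ | ⟨⟨j, hj⟩, hx, hcd, g, hg, hgc, hgd, hgr⟩
  · omega
  · rw [hx] at hbA
    have hc3 : c = 3 := by omega
    subst hc3
    have hb' : b = 3 := by omega
    subst hb'
    have ha4 : 4 ≤ a := by
      obtain ⟨t, ht⟩ := hae
      omega
    by_cases hBs : ∃ α : F, B = α • 1
    · obtain ⟨β, rfl⟩ := hBs
      have hC : A ⊗ₖ (β • (1 : Matrix (Fin 3) (Fin 3) F)) = (β • A) ⊗ₖ (1 : Matrix (Fin 3) (Fin 3) F) := by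
        rw [Matrix.smul_kronecker, Matrix.kronecker_smul]
      rw [hC, rank_swap, one_smul, show (1 : Matrix (Fin 3) (Fin 3) F) ⊗ₖ (β • A) - 1 =
        (1 : Matrix (Fin 3) (Fin 3) F) ⊗ₖ (β • A - 1) by rw [one_kron_sub],
        S5979.rank_one_kronecker, hx] at hR
      have hC1 : (β • A) ^ r = 1 := by
        rw [hC, kron_pow, one_pow] at hAB
        ext k l
        have := congrFun (congrFun hAB (k, ⟨0, by omega⟩)) (l, ⟨0, by omega⟩)
        simpa [Matrix.one_apply] using this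
      obtain ⟨s, hs⟩ := SympPrimeElem.rank_sub_one hc hrp hC1
      omega
    · push Not at hBs
      obtain ⟨-, w, hw⟩ := exists_cyclic_vec (B := Bᵀ) hrp hc hc1 (inv_ne_zero hκ) hBr (fun α e' => hBs α (by
        rw [← Matrix.transpose_transpose B, e', Matrix.transpose_smul, Matrix.transpose_one]))
      have haB : a * (3 - 1) ≤ (A ⊗ₖ B - (1 : F) • 1).rank := rank_ge A hA B hc0 hw
      rw [← hR, hx] at haB
      omega

end

theorem rank_diag {ι : Type} [Fintype ι] [DecidableEq ι] (dd : ι → F) (ν : F) [DecidableEq F] :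
    (Matrix.diagonal dd - ν • (1 : Matrix ι ι F)).rank = (Finset.univ.filter fun i => dd i ≠ ν).card := by
  rw [Matrix.smul_one_eq_diagonal, Matrix.diagonal_sub, Matrix.rank_diagonal, Fintype.card_subtype]
  exact congrArg Finset.card (Finset.filter_congr fun i _ => not_congr sub_eq_zero)

/-- A diagonal symplectic element. -/
theorem exists_diag (hd : 2 ≤ d) {r : ℕ} {u : Fˣ} (hu : (u : F) ^ r = 1) (hu1 : (u : F) ≠ 1) :
    ∃ x : GL (Fin d ⊕ Fin d) F, x ∈ Cfsg.spGL d F ∧ (x : M) ^ r = 1 ∧ (∀ z : F, (x : M) ≠ z • 1) ∧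
      ((x : M) - (1 : F) • 1).rank = 2 ∧
      (((u⁻¹ : Fˣ) : F) ≠ u → ((x : M) - (u : F) • 1).rank = 2 * d - 1) := by
  classical
  let i0 : Fin d := ⟨0, by omega⟩
  let i1 : Fin d := ⟨1, by omega⟩
  let D : Fin d → F := fun i => if i = i0 then (u : F) else 1
  let D' : Fin d → F := fun i => if i = i0 then ((u⁻¹ : Fˣ) : F) else 1
  have hX : Matrix.diagonal (Sum.elim D D') ∈ Matrix.symplecticGroup (Fin d) F := by
    rw [← Matrix.fromBlocks_diagonal, SymplecticGroup.mem_iff', Matrix.fromBlocks_transpose, Matrix.J,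
      Matrix.fromBlocks_multiply, Matrix.fromBlocks_multiply]
    have h1 : ∀ i, D i * D' i = 1 := fun i => by simp only [D, D']; split_ifs <;> simp
    simp only [Matrix.diagonal_transpose, Matrix.transpose_zero, mul_zero, zero_mul, add_zero, zero_add, mul_one,
      Matrix.mul_neg, Matrix.neg_mul, Matrix.diagonal_mul_diagonal, h1, fun i => (mul_comm (D' i) (D i)).trans (h1 i),
      Matrix.diagonal_one]
  obtain ⟨x, hx, hxX⟩ := SympPrimeElem.exists_gl_of_mem hX
  have hui : ((u⁻¹ : Fˣ) : F) ≠ 1 := fun e' => hu1 (by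
    rw [Units.val_eq_one, inv_eq_one] at e'
    rw [e', Units.val_one])
  refine ⟨x, hx, ?_, fun z hz => ?_, ?_, fun huu => ?_⟩
  · rw [hxX, Matrix.diagonal_pow, ← Matrix.diagonal_one]
    congr 1
    funext i
    rcases i with i | i <;> simp only [Pi.pow_apply, Sum.elim_inl, Sum.elim_inr, D, D'] <;> split_ifs
    · exact hu
    · exact one_pow r
    · rw [← Units.val_pow_eq_pow_val, inv_pow, show u ^ r = 1 from Units.ext (by simpa using hu), inv_one, Units.val_one]
    · exact one_pow r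
  · rw [hxX, Matrix.smul_one_eq_diagonal] at hz
    have h0 := congrFun (Matrix.diagonal_injective hz) (Sum.inl i0)
    have h1 := congrFun (Matrix.diagonal_injective hz) (Sum.inl i1)
    simp [D, i0, i1] at h0 h1
    exact hu1 (h0.trans h1.symm)
  · rw [hxX, rank_diag, Finset.card_eq_two]
    refine ⟨Sum.inl i0, Sum.inr i0, by simp, ?_⟩
    ext (i | i) <;> by_cases h : i = i0 <;> simp [D, D', h, hu1]
  · rw [hxX, rank_diag, show (Finset.univ.filter fun i => Sum.elim D D' i ≠ (u : F)) = Finset.univ.erase (Sum.inl i0) by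
      ext (i | i) <;> by_cases h : i = i0 <;> simp [D, D', h, Ne.symm hu1]
      simpa using huu]
    rw [Finset.card_erase_of_mem (Finset.mem_univ _), Finset.card_univ, Fintype.card_sum, Fintype.card_fin, two_mul]

/-- A symplectic transvection. -/
theorem exists_transvection (hd : 2 ≤ d) (r : ℕ) [CharP F r] :
    ∃ x : GL (Fin d ⊕ Fin d) F, x ∈ Cfsg.spGL d F ∧ (x : M) ^ r = 1 ∧ (∀ z : F, (x : M) ≠ z • 1) ∧
      ((x : M) - (1 : F) • 1).rank = 1 := by
  classical
  let v : Fin d ⊕ Fin d → F := Pi.single (Sum.inl ⟨0, by omega⟩) 1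
  obtain ⟨x, hx, hxX⟩ := SympPrimeElem.exists_gl_of_mem (Cfsg.Agent.Lib.Geometry.sympTransvection_mem v (1 : F))
  have h1 : (x : M) - (1 : F) • 1 = Matrix.vecMulVec v (Matrix.J (Fin d) F *ᵥ v) := by
    rw [hxX, one_smul, Cfsg.sympTransvection, add_sub_cancel_left, one_smul]
  have hne : Matrix.vecMulVec v (Matrix.J (Fin d) F *ᵥ v) ≠ 0 := fun h0 => by
    have := congrFun (congrFun h0 (Sum.inl ⟨0, by omega⟩)) (Sum.inr ⟨0, by omega⟩)
    simp [v, Matrix.vecMulVec_apply, Matrix.mulVec_single_one, Matrix.J] at this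
  have hr1 : ((x : M) - (1 : F) • 1).rank = 1 := by
    rw [h1]
    have h2 : (Matrix.vecMulVec v (Matrix.J (Fin d) F *ᵥ v)).rank ≠ 0 := by
      intro h0
      rw [Matrix.rank, Submodule.finrank_eq_zero, LinearMap.range_eq_bot] at h0
      exact hne (Matrix.toLin'.injective (h0.trans (map_zero Matrix.toLin').symm))
    have := Matrix.rank_vecMulVec_le v (Matrix.J (Fin d) F *ᵥ v)
    omega
  refine ⟨x, hx, ?_, fun z hz => ?_, hr1⟩
  · have hpow : ∀ m : ℕ, Cfsg.sympTransvection d v (1 : F) ^ m = Cfsg.sympTransvection d v (m : F) := fun m => by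
      induction m with
      | zero => simp [Cfsg.sympTransvection]
      | succ m ih => rw [pow_succ, ih, Cfsg.Agent.Lib.Geometry.sympTransvection_mul, Nat.cast_succ]
    rw [hxX, hpow, CharP.cast_eq_zero, Cfsg.sympTransvection, zero_smul, add_zero]
  · rw [hz, ← sub_smul] at hr1
    rcases eq_or_ne (z - 1) 0 with h0 | h0
    · rw [h0, zero_smul, Matrix.rank_zero] at hr1
      omega
    · rw [Matrix.rank_of_det_ne_zero (by rw [Matrix.det_smul, Matrix.det_one, mul_one]; exact pow_ne_zero _ h0),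
        Fintype.card_sum, Fintype.card_fin] at hr1
      omega

theorem exists_negatives [Fintype F] {f₂ : (Fin b → F) → (Fin b → F) → F} (hf₂ : Cfsg.Geo.IsSymmetricForm f₂)
    (h2 : (2 : F) ≠ 0) {l : ℕ} (hl : l ≤ b) :
    ∃ B : GL (Fin b) F, (B : Matrix (Fin b) (Fin b) F)ᵀ * Cfsg.Geo.gramMatrix f₂ * (B : Matrix (Fin b) (Fin b) F) =
        Cfsg.Geo.gramMatrix f₂ ∧ (B : Matrix (Fin b) (Fin b) F) * (B : Matrix (Fin b) (Fin b) F) = 1 ∧
      ((B : Matrix (Fin b) (Fin b) F) - 1).rank = l := by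
  classical
  haveI : Invertible (2 : F) := invertibleOfNonzero h2
  set G := Cfsg.Geo.gramMatrix f₂
  have hGs : ∀ i j, G i j = G j i := fun i j => hf₂.symm _ _
  obtain ⟨v, hv⟩ := LinearMap.BilinForm.exists_orthogonal_basis (B := Matrix.toBilin' G) ⟨fun x y => by
    rw [RingHom.id_apply, Matrix.toBilin'_apply, Matrix.toBilin'_apply, Finset.sum_comm]
    exact Finset.sum_congr rfl fun i _ => Finset.sum_congr rfl fun j _ => by rw [hGs]; ring⟩
  let w := v.reindex (finCongr (Module.finrank_fin_fun F))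
  let S : Matrix (Fin b) (Fin b) F := (Pi.basisFun F (Fin b)).toMatrix w
  let S' : Matrix (Fin b) (Fin b) F := w.toMatrix (Pi.basisFun F (Fin b))
  have hSS : S * S' = 1 := by simp only [S, S']; rw [Module.Basis.toMatrix_mul_toMatrix_flip]
  have hS'S : S' * S = 1 := by simp only [S, S']; rw [Module.Basis.toMatrix_mul_toMatrix_flip]
  have hoff : ∀ k m, k ≠ m → (Sᵀ * G * S) k m = 0 := fun k m hkm => by
    have h := hv (i := (finCongr (Module.finrank_fin_fun F)).symm k) (j := (finCongr (Module.finrank_fin_fun F)).symm m)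
      (fun e => hkm ((Equiv.injective _) e))
    have e : (Sᵀ * G * S) k m = Matrix.toBilin' G (w k) (w m) := by
      rw [Matrix.toBilin'_apply', Matrix.mul_assoc, Matrix.mul_apply]
      simp [dotProduct, Matrix.mulVec, Matrix.mul_apply, S, Module.Basis.toMatrix_apply]
    rw [e]
    simpa [w, Function.onFun] using h
  let dd : Fin b → F := fun k => if (k : ℕ) < l then -1 else 1
  have hdd : ∀ k, dd k * dd k = 1 := fun k => by simp only [dd]; split_ifs <;> simp
  have hD : Matrix.diagonal dd * (Sᵀ * G * S) * Matrix.diagonal dd = Sᵀ * G * S := by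
    ext k m
    rw [Matrix.mul_diagonal, Matrix.diagonal_mul]
    by_cases hkm : k = m
    · subst hkm; rw [mul_comm (dd k), mul_assoc, hdd, mul_one]
    · rw [hoff k m hkm, mul_zero, zero_mul]
  have hBB : (S * Matrix.diagonal dd * S') * (S * Matrix.diagonal dd * S') = 1 := by
    rw [show (S * Matrix.diagonal dd * S') * (S * Matrix.diagonal dd * S') =
      S * (Matrix.diagonal dd * (S' * S) * Matrix.diagonal dd) * S' by simp only [Matrix.mul_assoc], hS'S, Matrix.mul_one,
      Matrix.diagonal_mul_diagonal]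
    simp [hdd, hSS]
  refine ⟨⟨S * Matrix.diagonal dd * S', S * Matrix.diagonal dd * S', hBB, hBB⟩, ?_, hBB, ?_⟩
  · show (S * Matrix.diagonal dd * S')ᵀ * G * (S * Matrix.diagonal dd * S') = G
    rw [Matrix.transpose_mul, Matrix.transpose_mul, Matrix.diagonal_transpose,
      show S'ᵀ * (Matrix.diagonal dd * Sᵀ) * G * (S * Matrix.diagonal dd * S') =
        S'ᵀ * (Matrix.diagonal dd * (Sᵀ * G * S) * Matrix.diagonal dd) * S' by simp only [Matrix.mul_assoc], hD,
      show S'ᵀ * (Sᵀ * G * S) * S' = (S * S')ᵀ * G * (S * S') by rw [Matrix.transpose_mul]; simp only [Matrix.mul_assoc],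
      hSS, Matrix.transpose_one, Matrix.one_mul, Matrix.mul_one]
  · show (S * Matrix.diagonal dd * S' - 1).rank = l
    have hu : IsUnit S.det := Matrix.isUnit_det_of_right_inverse hSS
    have hu' : IsUnit S'.det := Matrix.isUnit_det_of_right_inverse hS'S
    rw [show S * Matrix.diagonal dd * S' - 1 = S * (Matrix.diagonal dd - (1 : F) • 1) * S' by
      rw [one_smul, Matrix.mul_sub, Matrix.sub_mul, Matrix.mul_one, hSS],
      Matrix.rank_mul_eq_left_of_isUnit_det _ _ hu', Matrix.rank_mul_eq_right_of_isUnit_det _ _ hu, rank_diag,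
      show (Finset.univ.filter fun k => dd k ≠ 1) = Finset.univ.filter (fun k : Fin b => (k : ℕ) < l) by
        apply Finset.filter_congr
        intro k _
        simp only [dd]
        split_ifs with hk
        · simp only [hk, iff_true]
          exact fun e => h2 (by linear_combination -e)
        · simp [hk],
      ← Fintype.card_subtype, Fintype.card_congr (Fin.castLEquiv hl).symm, Fintype.card_fin]

/-- Kronecker products of isometries are in the stabiliser and in the symplectic group. -/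
theorem exists_target {e : (Fin d ⊕ Fin d) ≃ Fin a × Fin b} {P : GL (Fin d ⊕ Fin d) F}
    {f₁ : (Fin a → F) → (Fin a → F) → F} {f₂ : (Fin b → F) → (Fin b → F) → F}
    (hS : Cfsg.Geo.IsTensorFormStructure id (Cfsg.sympForm d F) f₁ f₂ e P) (A : GL (Fin a) F) (B : GL (Fin b) F)
    (hA : (A : Matrix (Fin a) (Fin a) F)ᵀ * Cfsg.Geo.gramMatrix f₁ * (A : Matrix (Fin a) (Fin a) F) = Cfsg.Geo.gramMatrix f₁)
    (hB : (B : Matrix (Fin b) (Fin b) F)ᵀ * Cfsg.Geo.gramMatrix f₂ * (B : Matrix (Fin b) (Fin b) F) = Cfsg.Geo.gramMatrix f₂)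
    (z : F) (hz : ((A : Matrix (Fin a) (Fin a) F) ⊗ₖ (B : Matrix (Fin b) (Fin b) F)) *
      ((A : Matrix (Fin a) (Fin a) F) ⊗ₖ (B : Matrix (Fin b) (Fin b) F)) = z • 1) :
    ∃ t : GL (Fin d ⊕ Fin d) F, t ∈ Cfsg.spGL d F ∧ t ∈ Cfsg.Geo.tensorProductSubgroup a b e P ∧
      (∀ v, (t : M) *ᵥ ((t : M) *ᵥ v) = z • v) ∧
      ((t : M) - 1).rank = ((A : Matrix (Fin a) (Fin a) F) ⊗ₖ (B : Matrix (Fin b) (Fin b) F) - 1).rank := by
  classical
  set K : AB := (A : Matrix (Fin a) (Fin a) F) ⊗ₖ (B : Matrix (Fin b) (Fin b) F) with hK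
  let K' : AB := ((A⁻¹ : GL (Fin a) F) : Matrix (Fin a) (Fin a) F) ⊗ₖ ((B⁻¹ : GL (Fin b) F) : Matrix (Fin b) (Fin b) F)
  let k : GL (Fin a × Fin b) F := ⟨K, K', by rw [hK, ← Matrix.mul_kronecker_mul, Units.mul_inv, Units.mul_inv, Matrix.one_kronecker_one],
    by rw [hK, ← Matrix.mul_kronecker_mul, Units.inv_mul, Units.inv_mul, Matrix.one_kronecker_one]⟩
  let Re := Matrix.reindexAlgEquiv F F e.symm
  let y : GL (Fin d ⊕ Fin d) F := Cfsg.Geo.glReindex e.symm k
  have hy : (y : M) = Re K := rfl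
  let t : GL (Fin d ⊕ Fin d) F := P * y * P⁻¹
  have htM : (t : M) = (P : M) * Re K * ((P⁻¹ : GL (Fin d ⊕ Fin d) F) : M) := by rw [← hy]; rfl
  refine ⟨t, ?_, ⟨y, ⟨k, ⟨A, B, rfl⟩, rfl⟩, rfl⟩, fun v => ?_, ?_⟩
  · obtain ⟨c, -, hc⟩ := hS
    intro u v
    show Cfsg.sympForm d F ((t : M) *ᵥ u) ((t : M) *ᵥ v) = _
    have hrep : ∀ w, ∃ w0 : Fin a × Fin b → F, w = (P : M) *ᵥ (w0 ∘ e) := fun w =>
      ⟨(((P⁻¹ : GL (Fin d ⊕ Fin d) F) : M) *ᵥ w) ∘ e.symm, by
        rw [Function.comp_assoc, Equiv.symm_comp_self, Function.comp_id, Matrix.mulVec_mulVec, Units.mul_inv,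
          Matrix.one_mulVec]⟩
    have htv : ∀ w : Fin a × Fin b → F, (t : M) *ᵥ ((P : M) *ᵥ (w ∘ e)) = (P : M) *ᵥ ((K *ᵥ w) ∘ e) := fun w => by
      rw [htM, Matrix.mulVec_mulVec, Matrix.mul_assoc, Units.inv_mul, Matrix.mul_one, ← Matrix.mulVec_mulVec]
      congr 1
      funext i
      simp [Re, Matrix.reindexAlgEquiv_apply, Matrix.mulVec, dotProduct, ← e.sum_comp]
    obtain ⟨x, rfl⟩ := hrep u
    obtain ⟨x', rfl⟩ := hrep v
    rw [htv, htv, hc, hc]
    congr 1
    have hG : ∀ (G : AB) (s s' : Fin a × Fin b → F), Cfsg.Geo.formOfGram id G s s' = s ⬝ᵥ (G *ᵥ s') := fun G s s' => by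
      simp [Cfsg.Geo.formOfGram, dotProduct, Matrix.mulVec, Finset.mul_sum, mul_assoc]
    rw [hG, hG, Matrix.mulVec_mulVec, Matrix.dotProduct_mulVec, Matrix.vecMul_mulVec, ← Matrix.dotProduct_mulVec,
      ← Matrix.mul_assoc, hK, ← Matrix.kroneckerMap_transpose, ← Matrix.mul_kronecker_mul,
      ← Matrix.mul_kronecker_mul, hA, hB]
  · rw [Matrix.mulVec_mulVec, htM, show (P : M) * Re K * ((P⁻¹ : GL (Fin d ⊕ Fin d) F) : M) *
        ((P : M) * Re K * ((P⁻¹ : GL (Fin d ⊕ Fin d) F) : M)) = (P : M) * (Re K * Re K) * ((P⁻¹ : GL (Fin d ⊕ Fin d) F) : M) by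
      simp only [Matrix.mul_assoc]; rw [← Matrix.mul_assoc ((P⁻¹ : GL (Fin d ⊕ Fin d) F) : M), Units.inv_mul, Matrix.one_mul],
      ← map_mul, hz, map_smul, map_one, mul_smul_comm, mul_one, smul_mul_assoc, Units.mul_inv, Matrix.smul_mulVec,
      Matrix.one_mulVec]
  · rw [htM, show (P : M) * Re K * ((P⁻¹ : GL (Fin d ⊕ Fin d) F) : M) - 1 =
        (P : M) * Re (K - 1) * ((P⁻¹ : GL (Fin d ⊕ Fin d) F) : M) by
      rw [map_sub, map_one, mul_sub, sub_mul, mul_one, Units.mul_inv],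
      Matrix.rank_mul_eq_left_of_isUnit_det _ _ (by rw [← Matrix.isUnit_iff_isUnit_det]; exact Units.isUnit _),
      Matrix.rank_mul_eq_right_of_isUnit_det _ _ (by rw [← Matrix.isUnit_iff_isUnit_det]; exact Units.isUnit _)]
    exact Matrix.rank_reindex _ _ _

/-- Involutions lie in the stabiliser when `a = 2`. -/
theorem good_involution [Fintype F] (h2 : (2 : F) ≠ 0) (hd : 2 ≤ d) (hab : d = b)
    {e : (Fin d ⊕ Fin d) ≃ Fin 2 × Fin b} {P : GL (Fin d ⊕ Fin d) F}
    {f₁ : (Fin 2 → F) → (Fin 2 → F) → F} {f₂ : (Fin b → F) → (Fin b → F) → F}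
    (hf₁ : Cfsg.Geo.IsSymplecticForm f₁) (hf₂ : Cfsg.Geo.IsSymmetricForm f₂)
    (hS : Cfsg.Geo.IsTensorFormStructure id (Cfsg.sympForm d F) f₁ f₂ e P)
    {x : GL (Fin d ⊕ Fin d) F} (hx : x ∈ Cfsg.spGL d F) {z : F} (hz : (x : M) ^ 2 = z • 1) :
    ∃ g ∈ Cfsg.spGL d F, g⁻¹ * x * g ∈ Cfsg.Geo.tensorProductSubgroup 2 b e P := by
  classical
  subst hab
  set f := stdAlt d F
  set X := Matrix.toLin' (x : M) with hX
  have hxx : ∀ v, X (X v) = z • v := fun v => by
    rw [hX, Matrix.toLin'_apply, Matrix.toLin'_apply, Matrix.mulVec_mulVec, ← pow_two, hz, Matrix.smul_mulVec,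
      Matrix.one_mulVec]
  have hiso : ∀ y ∈ Cfsg.spGL d F, ∀ u v, f.B (Matrix.toLin' (y : M) u) (Matrix.toLin' (y : M) v) = f.B u v :=
    fun y hy u v => by rw [stdAlt_apply, stdAlt_apply, Matrix.toLin'_apply, Matrix.toLin'_apply]; exact hy u v
  have hix := hiso x hx
  have hzz : z * z = 1 := by
    obtain ⟨u, v, huv⟩ : ∃ u v, f.B u v ≠ 0 := by
      by_contra hne
      push Not at hne
      exact (by simp : (Pi.single (Sum.inl (⟨0, by omega⟩ : Fin d)) 1 : Fin d ⊕ Fin d → F) ≠ 0)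
        (f.nondeg _ fun u => hne u _)
    have := hix (X u) (X v)
    rw [hxx, hxx, hix, map_smul, map_smul, LinearMap.smul_apply, smul_eq_mul, smul_eq_mul, ← mul_assoc] at this
    exact mul_right_cancel₀ huv (this.trans (one_mul _).symm)
  suffices ∃ t : GL (Fin d ⊕ Fin d) F, t ∈ Cfsg.Geo.tensorProductSubgroup 2 d e P ∧
      ∃ g : (Fin d ⊕ Fin d → F) →ₗ[F] (Fin d ⊕ Fin d → F), (∀ u v, f.B (g u) (g v) = f.B u v) ∧
        ∀ v, g (Matrix.toLin' (t : M) v) = X (g v) by
    obtain ⟨t, ht, g, hg, hgt⟩ := this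
    have hG : LinearMap.toMatrix' g ∈ Matrix.symplecticGroup (Fin d) F := by
      rw [Cfsg.Agent.Lib.Geometry.mem_symplecticGroup_iff_form]
      intro u v
      rw [← stdAlt_apply, ← stdAlt_apply, ← Matrix.toLin'_apply, ← Matrix.toLin'_apply, Matrix.toLin'_toMatrix']
      exact hg u v
    obtain ⟨G, hGs, hGM⟩ := SympPrimeElem.exists_gl_of_mem hG
    refine ⟨G, hGs, ?_⟩
    have e1 : x * G = G * t := by
      apply Units.ext
      apply Matrix.toLin'.injective
      rw [Units.val_mul, Units.val_mul, Matrix.toLin'_mul, Matrix.toLin'_mul, hGM, Matrix.toLin'_toMatrix']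
      exact LinearMap.ext fun v => (hgt v).symm
    rwa [mul_assoc, e1, inv_mul_cancel_left]
  have hG1 : ∀ A : Matrix (Fin 2) (Fin 2) F, A.det = 1 →
      Aᵀ * Cfsg.Geo.gramMatrix f₁ * A = Cfsg.Geo.gramMatrix f₁ := by
    intro A hA
    rw [Matrix.det_fin_two] at hA
    have h00 := hf₁.alternating (Pi.single (0 : Fin 2) 1)
    have h11 := hf₁.alternating (Pi.single (1 : Fin 2) 1)
    have h10 := hf₁.skew (Pi.single (1 : Fin 2) 1) (Pi.single 0 1)
    ext i j
    fin_cases i <;> fin_cases j <;>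
      simp [Matrix.mul_apply, Fin.sum_univ_two, Cfsg.Geo.gramMatrix, h00, h11, h10] <;>
      first
      | ring1
      | linear_combination (f₁ (Pi.single 0 1) (Pi.single 1 1)) * hA
      | linear_combination (-(f₁ (Pi.single 0 1) (Pi.single 1 1))) * hA
  rcases mul_self_eq_one_iff.1 hzz with rfl | rfl
  · simp only [one_smul] at hxx
    obtain ⟨l, hl⟩ := SympInvolConj.even_finrank f (SympInvolConj.ndOn_minus f h2 hxx hix)
    have hle : l ≤ d := by
      have h3 := Submodule.finrank_le (LinearMap.ker (X + LinearMap.id))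
      rw [Module.finrank_fintype_fun_eq_card, Fintype.card_sum, Fintype.card_fin] at h3
      omega
    obtain ⟨B, hB, hBB, hBr⟩ := exists_negatives hf₂ h2 hle
    obtain ⟨t, hts, htm, htt, htr⟩ := exists_target hS 1 B (by simp) hB (1 : F) (by
      rw [← Matrix.mul_kronecker_mul, hBB, Units.val_one, one_mul, Matrix.one_kronecker_one, one_smul])
    refine ⟨t, htm, SympInvolConj.conj_one f h2 hxx (fun v => by simpa using htt v) hix (hiso t hts) ?_⟩
    rw [SympInvolConj.range_sub_one h2 hxx, hl]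
    have e1 : Matrix.toLin' (t : M) - LinearMap.id = Matrix.toLin' ((t : M) - 1) := by
      rw [map_sub, Matrix.toLin'_one]
    rw [e1]
    show l + l = ((t : M) - 1).rank
    rw [htr, Units.val_one, ← one_kron_sub, S5979.rank_one_kronecker, hBr, two_mul]
  · have hx' : ∀ v, X (X v) = -v := fun v => by rw [hxx, neg_one_smul]
    let A : GL (Fin 2) F := Matrix.GeneralLinearGroup.mkOfDetNeZero !![0, -1; 1, 0] (by simp [Matrix.det_fin_two])
    have hAA : (!![0, -1; 1, 0] : Matrix (Fin 2) (Fin 2) F) * !![0, -1; 1, 0] = (-1 : F) • 1 := by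
      ext i j; fin_cases i <;> fin_cases j <;> simp [Matrix.mul_apply, Fin.sum_univ_two]
    obtain ⟨t, hts, htm, htt, -⟩ := exists_target hS A 1 (hG1 _ (by simp [A, Matrix.det_fin_two])) (by simp) (-1 : F) (by
      rw [← Matrix.mul_kronecker_mul, Units.val_one, one_mul, show (A : Matrix (Fin 2) (Fin 2) F) = !![0, -1; 1, 0] from rfl,
        hAA, Matrix.smul_kronecker, Matrix.one_kronecker_one])
    exact ⟨t, htm, SympInvolConj.conj_neg_one f h2 (d := d) (by simp [two_mul]) hx'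
      (fun v => by simpa using htt v) hix (hiso t hts)⟩


/-- Elements of prime order of PSp_n(q), q odd, and the stabilizers of tensor decompositions Sp_a(q) ⊗ O_b(q). Here `T = PSp_{2d}(F)` for a field `F` with `q` elements, `q` odd, `d ≥ 2`, realised through the matrices preserving the standard alternating form `f`; `2d = a·b` with `a` even, `b ≥ 3`, and the bijection `e` and change of basis `P` exhibit `f` as a non-zero scalar multiple of the tensor product of a non-degenerate alternating form `f₁` on `F^a` and a non-degenerate symmetric bilinear form `f₂` on `F^b`; `H` is the subgroup of `T` stabilizing this tensor decomposition (the elements of `T` in the conjugate by `P` of the group of Kronecker products) — a subgroup of type Sp_a(q) ⊗ O^ε_b(q) (maximality is not assumed). Ω is the set of cosets of `H` in `T`, so an element of `T` of prime order `r` (`x ∈ T` with `x^r` scalar, `x` not scalar) fixes a point of Ω exactly when some `T`-conjugate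 of `x` lies in `H`. Let `r` be a prime dividing the index of `H`. Then every element of `T` of order `r` fixes a point of Ω if and only if `r = 2` and `a = 2`. -/
theorem result {F : Type*} [Field F] [Fintype F] {p : ℕ} [Fact p.Prime] [CharP F p] {q : ℕ} (hq : Fintype.card F = q)
    (hodd : Odd q) (d : ℕ) (hd : 2 ≤ d) (a b : ℕ) (hab : 2 * d = a * b) (ha : Even a) (ha2 : 2 ≤ a) (hb : 3 ≤ b)
    (e : (Fin d ⊕ Fin d) ≃ Fin a × Fin b) (P : GL (Fin d ⊕ Fin d) F)
    (f₁ : (Fin a → F) → (Fin a → F) → F) (f₂ : (Fin b → F) → (Fin b → F) → F)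
    (hf₁ : Cfsg.Geo.IsSymplecticForm f₁) (hf₂ : Cfsg.Geo.IsSymmetricForm f₂)
    (hS : Cfsg.Geo.IsTensorFormStructure id (Cfsg.sympForm d F) f₁ f₂ e P)
    (r : ℕ) [Fact r.Prime]
    (hΩ : r ∣ (Cfsg.Geo.tensorProductSubgroup a b e P).relIndex (Cfsg.spGL d F)) :
    (∀ x ∈ Cfsg.spGL d F, (∃ z : F, ((x ^ r : GL (Fin d ⊕ Fin d) F) : Matrix (Fin d ⊕ Fin d) (Fin d ⊕ Fin d) F) = z • (1 : Matrix (Fin d ⊕ Fin d) (Fin d ⊕ Fin d) F)) →
      (∀ z : F, (x : Matrix (Fin d ⊕ Fin d) (Fin d ⊕ Fin d) F) ≠ z • (1 : Matrix (Fin d ⊕ Fin d) (Fin d ⊕ Fin d) F)) →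
      ∃ g ∈ Cfsg.spGL d F, g⁻¹ * x * g ∈ Cfsg.Geo.tensorProductSubgroup a b e P) ↔ (r = 2 ∧ a = 2) := by
  classical
  subst hq
  have hr : r.Prime := Fact.out
  have h2 : (2 : F) ≠ 0 := fun h2 => by
    haveI : CharP F 2 := CharTwo.of_one_ne_zero_of_two_eq_zero one_ne_zero h2
    have := FiniteField.even_card_of_char_two (F := F) ((ringChar.eq F 2).symm ▸ rfl)
    exact absurd hodd (Nat.not_odd_iff_even.2 (Nat.even_iff.2 this))
  constructor
  · intro h
    by_contra hne
    suffices hbad : ∃ x ∈ Cfsg.spGL d F, ((x : Matrix (Fin d ⊕ Fin d) (Fin d ⊕ Fin d) F)) ^ r = 1 ∧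
        (∀ z : F, (x : Matrix (Fin d ⊕ Fin d) (Fin d ⊕ Fin d) F) ≠ z • 1) ∧
        ∀ g : GL (Fin d ⊕ Fin d) F, ¬ g⁻¹ * x * g ∈ Cfsg.Geo.tensorProductSubgroup a b e P by
      obtain ⟨x, hxS, hx, hns, hbad⟩ := hbad
      obtain ⟨g, -, hg⟩ := h x hxS ⟨1, by rw [Units.val_pow_eq_pow_val, hx, one_smul]⟩ hns
      exact hbad g hg
    by_cases hrp : r = p
    · subst hrp
      obtain ⟨x, hxS, hx, hns, hrk⟩ := exists_transvection (F := F) hd r
      refine ⟨x, hxS, hx, hns, fun g hg => ?_⟩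
      have h1 := S5979.dvd_rank (by omega) hg one_ne_zero (by omega) 1
      rw [hrk, Nat.dvd_one] at h1
      omega
    by_cases hd1 : r ∣ Fintype.card F - 1
    · obtain ⟨u, hu⟩ := exists_prime_orderOf_dvd_card' (G := Fˣ) r (by rwa [PrimeElemFlags.card_sub_one rfl])
      have hur : (u : F) ^ r = 1 := by rw [← Units.val_pow_eq_pow_val, ← hu, pow_orderOf_eq_one, Units.val_one]
      have hu1 : (u : F) ≠ 1 := fun e' => by
        rw [Units.val_eq_one] at e'
        rw [e', orderOf_one] at hu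
        exact hr.one_lt.ne hu
      obtain ⟨x, hxS, hxr, hns, hrk1, hrku⟩ := exists_diag hd hur hu1
      refine ⟨x, hxS, hxr, hns, fun g hg => ?_⟩
      have h1 := S5979.dvd_rank (by omega) hg one_ne_zero (by omega)
      have ha' : a = 2 := by
        have := Nat.le_of_dvd (by norm_num) (hrk1 ▸ h1 1)
        omega
      have hr2 : r ≠ 2 := fun e' => hne ⟨e', ha'⟩
      have h3 := h1 (u : F)
      rw [hrku (fun e' => hr2 (by
        have h' : u⁻¹ = u := Units.ext e'
        rw [inv_eq_iff_mul_eq_one, ← pow_two] at h'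
        have h'' := orderOf_dvd_of_pow_eq_one h'
        rw [hu] at h''
        exact (Nat.prime_dvd_prime_iff_eq hr Nat.prime_two).1 h''))] at h3
      subst ha'
      omega
    · obtain ⟨c, hc⟩ : ∃ c, orderOf ((Fintype.card F : ℕ) : ZMod r) = c := ⟨_, rfl⟩
      have hc1 : c ≠ 1 := fun e' => hd1 ((PrimeElemFlags.order_eq_one_iff rfl).1 (hc.trans e'))
      have hc0 : 0 < c := hc ▸ PrimeElemFlags.order_pos rfl hrp
      obtain ⟨hcd, hco⟩ := SympPrimeElem.order_le hrp (hΩ.trans (Subgroup.relIndex_dvd_card _ _))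
      rw [hc] at hcd hco
      have hns : ∀ x : GL (Fin d ⊕ Fin d) F, (x : Matrix (Fin d ⊕ Fin d) (Fin d ⊕ Fin d) F) ^ r = 1 →
          ((x : Matrix (Fin d ⊕ Fin d) (Fin d ⊕ Fin d) F) - 1).rank ≠ 0 →
          ∀ z : F, (x : Matrix (Fin d ⊕ Fin d) (Fin d ⊕ Fin d) F) ≠ z • 1 := by
        intro x hxr hx z hz
        obtain rfl : z = 1 := by
          have h1 := hxr
          rw [hz, _root_.smul_pow, one_pow] at h1
          have h' := congrFun (congrFun h1 (Sum.inl ⟨0, by omega⟩)) (Sum.inl ⟨0, by omega⟩)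
          simp at h'
          have hz0 : z ≠ 0 := fun h0 => by rw [h0, zero_pow hr.ne_zero] at h'; exact zero_ne_one h'
          simpa [((Nat.Prime.coprime_iff_not_dvd hr).2 hd1).gcd_eq_one] using
            pow_gcd_eq_one.2 ⟨h', FiniteField.pow_card_sub_one_eq_one z hz0⟩
        rw [hz, one_smul, sub_self, Matrix.rank_zero] at hx
        exact hx rfl
      rcases Nat.even_or_odd c with hev | hco'
      · obtain ⟨x, hxS, hxr, hxk⟩ := SympPrimeElem.exists_even hrp hc hev hcd
        exact ⟨x, hxS, hxr, hns x hxr (by omega), fun g =>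
          not_mem hrp hc hc1 hab ha ha2 hb hxr (Or.inl ⟨hev, hxk⟩)⟩
      · obtain ⟨x, g', hxS, hxr, hxk, hg, hgc, hgd, hgr⟩ := SympPrimeElem.exists_odd hrp hc hco' hc1 (hco hco')
        exact ⟨x, hxS, hxr, hns x hxr (by omega), fun g =>
          not_mem hrp hc hc1 hab ha ha2 hb hxr (Or.inr ⟨hco', hxk, hco hco', g', hg, hgc, hgd, hgr⟩)⟩
  · rintro ⟨rfl, rfl⟩ x hxS ⟨z, hz⟩ -
    rw [Units.val_pow_eq_pow_val] at hz
    exact good_involution h2 hd (by omega) hf₁ hf₂ hS hxS hz

end Cfsg.Agent.S5980
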