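import Cfsg.Statements.S5975
import Cfsg.Agent.S5980
import Cfsg.Agent.Lib.Geometry.SympBasis
import Mathlib

set_option autoImplicit false
set_option maxHeartbeats 1000000
-- import your own Cfsg.Agent.* helpers here

open scoped MatrixGroups
open scoped Matrix
open Cfsg

namespace Cfsg.Agent.S5975

open Module Polynomial Cfsg.Agent.Lib.MaxSub Matrix

variable {F : Type*} [Field F] {d k : ℕ}

local notation "V" => (Fin d ⊕ Fin d → F)
local notation "M" => Matrix (Fin d ⊕ Fin d) (Fin d ⊕ Fin d) F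

theorem isField (hd : 0 < d) {K : Subalgebra F M} (hK : Cfsg.Geo.IsFieldSubalgebra k K) : IsField K where
  exists_pair_ne := ⟨0, 1, fun h => by
    have : Nonempty (Fin d ⊕ Fin d) := ⟨Sum.inl ⟨0, hd⟩⟩
    exact (zero_ne_one (α := M)) (congrArg Subtype.val h)⟩
  mul_comm a b := Subtype.ext (hK.comm _ a.2 _ b.2)
  mul_inv_cancel := fun {a} ha => by
    obtain ⟨y, hy, hy'⟩ := hK.inv a.1 a.2 (fun e => ha (Subtype.ext e))
    exact ⟨⟨y, hy⟩, Subtype.ext hy'⟩

/-- The extension field structure. -/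
theorem exists_structure_gen [Fintype F] (hd : 0 < d) {L : Type*} [Field L] [Fintype L] [Algebra F L] (ι : L →ₐ[F] M)
    (hL : finrank F L = k) (hKf : ∀ (a : L) u v, Cfsg.sympForm d F (ι a *ᵥ u) v = Cfsg.sympForm d F u (ι a *ᵥ v))
    (hKalt : ∀ (a : L) (v : V), Cfsg.sympForm d F (ι a *ᵥ v) v = 0) :
    ∃ m : ℕ, d = k * m ∧
      (∀ W : Submodule F V, (∀ (a : L), ∀ w ∈ W, ι a *ᵥ w ∈ W) → k ∣ finrank F W ∧ ((stdAlt d F).NdOn W → 2 * k ∣ finrank F W)) ∧
      ∃ C : Subgroup (GL (Fin d ⊕ Fin d) F), C ≤ Cfsg.spGL d F ∧ (∀ g ∈ C, ∀ a : L, (g : M) * ι a = ι a * (g : M)) ∧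
        Nat.card C = (Fintype.card F ^ k) ^ (m ^ 2) * ∏ i ∈ Finset.range m, ((Fintype.card F ^ k) ^ (2 * (i + 1)) - 1) := by
  classical
  set f := stdAlt d F
  letI : Module L V := Module.compHom V
    (((Matrix.toLinAlgEquiv' (R := F) (n := Fin d ⊕ Fin d)).toAlgHom.comp ι).toRingHom)
  have hsm : ∀ (a : L) (v : V), a • v = ι a *ᵥ v := fun a v => rfl
  haveI : IsScalarTower F L V := ⟨fun s a v => by rw [hsm, hsm, map_smul, Matrix.smul_mulVec]⟩
  haveI : SMulCommClass L F V := ⟨fun a s v => by rw [hsm, hsm, Matrix.mulVec_smul]⟩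
  haveI : Module.Finite L V := Module.Finite.of_restrictScalars_finite F L V
  have hKc : Fintype.card L = Fintype.card F ^ k := by rw [Module.card_eq_pow_finrank (K := F), hL]
  have hadj : ∀ (a : L) u v, f.B (a • u) v = f.B u (a • v) := fun a u v => by
    rw [hsm, hsm, stdAlt_apply, stdAlt_apply]; exact hKf a u v
  have halt : ∀ (a : L) v, f.B (a • v) v = 0 := fun a v => by rw [hsm, stdAlt_apply]; exact hKalt a v
  obtain ⟨φ, hφ⟩ : ∃ φ : L →ₗ[F] F, φ ≠ 0 :=
    ⟨(Module.finBasis F L).coord ⟨0, Module.finrank_pos⟩, fun h => by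
      have := LinearMap.congr_fun h ((Module.finBasis F L) ⟨0, Module.finrank_pos⟩)
      simp at this⟩
  let Ψ : L →ₗ[F] (L →ₗ[F] F) := (LinearMap.mul F L).compr₂ φ
  have hΨ : ∀ c a, Ψ c a = φ (c * a) := fun c a => rfl
  have hinj : Function.Injective Ψ := (injective_iff_map_eq_zero Ψ).2 fun c hc => by
    by_contra hne
    refine hφ (LinearMap.ext fun a => ?_)
    have h := LinearMap.congr_fun hc (c⁻¹ * a)
    rwa [hΨ, mul_inv_cancel_left₀ hne] at h
  have hsurj : Function.Surjective Ψ := by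
    refine (LinearMap.injective_iff_surjective_of_finrank_eq_finrank ?_).1 hinj
    rw [Module.finrank_linearMap, Module.finrank_self, mul_one]
  let fn : V → V → (L →ₗ[F] F) := fun u v =>
    { toFun := fun a => f.B (a • u) v
      map_add' := fun a a' => by rw [add_smul, map_add, LinearMap.add_apply]
      map_smul' := fun s a => by rw [smul_assoc, map_smul, LinearMap.smul_apply, RingHom.id_apply] }
  choose β0 hβ0 using fun u v => hsurj (fn u v)
  have hval : ∀ u v a, φ (β0 u v * a) = f.B (a • u) v := fun u v a => by rw [← hΨ, hβ0]; rfl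
  have huniq : ∀ u v c, (∀ a, φ (c * a) = f.B (a • u) v) → β0 u v = c := fun u v c h =>
    hinj (LinearMap.ext fun a => by rw [hΨ, hΨ, hval, h])
  let β : LinearMap.BilinForm L V := LinearMap.mk₂ L β0
    (fun u u' v => huniq _ _ _ fun a => by rw [add_mul, map_add, hval, hval, smul_add, map_add, LinearMap.add_apply])
    (fun c u v => huniq _ _ _ fun a => by rw [smul_eq_mul, mul_comm c, mul_assoc, hval, smul_smul, mul_comm c a])
    (fun u v v' => huniq _ _ _ fun a => by rw [add_mul, map_add, hval, hval, map_add])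
    (fun c u v => huniq _ _ _ fun a => by rw [smul_eq_mul, mul_comm c, mul_assoc, hval, mul_smul, hadj])
  have hB : ∀ u v, φ (β u v) = f.B u v := fun u v => by
    have h := hval u v 1
    rwa [mul_one, one_smul] at h
  have hAlt : β.IsAlt := fun v => huniq v v 0 fun a => by rw [zero_mul, map_zero, halt]
  have hkey : ∀ W : Submodule F V, (∀ (a : L), ∀ w ∈ W, ι a *ᵥ w ∈ W) → k ∣ finrank F W ∧ (f.NdOn W → 2 * k ∣ finrank F W) := by
    intro W hW
    let W' : Submodule L V := { W with smul_mem' := fun a w hw => hW a w hw }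
    have hfr : finrank F W = k * finrank L W' := by
      rw [← hL]
      exact (Module.finrank_mul_finrank F L W').symm
    refine ⟨⟨_, hfr⟩, fun hnd => ?_⟩
    let β' : LinearMap.BilinForm L W' := β.compl₁₂ W'.subtype W'.subtype
    have hA' : β'.IsAlt := fun w => hAlt w.1
    obtain ⟨m, j, b, -, -, -, h4⟩ := Cfsg.Agent.Lib.Geometry.exists_sympBasis β' hA'
    have hj : j = 0 := by
      by_contra hj
      let j0 : Fin j := ⟨0, by omega⟩
      obtain ⟨w, hw, hne⟩ := hnd (b (Sum.inr j0)).1 (b (Sum.inr j0)).2 (fun e => b.ne_zero _ (Subtype.ext e))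
      apply hne
      have h5 : β (b (Sum.inr j0)).1 w = 0 := h4 j0 ⟨w, hw⟩
      rw [← hB, h5, map_zero]
    subst hj
    refine ⟨m, ?_⟩
    rw [hfr, Module.finrank_eq_card_basis b]
    simp
    ring
  obtain ⟨m, j, b, h1, h2, h3, h4⟩ := Cfsg.Agent.Lib.Geometry.exists_sympBasis β hAlt
  have hj : j = 0 := by
    by_contra hj
    let j0 : Fin j := ⟨0, by omega⟩
    refine b.ne_zero (Sum.inr j0) (f.nondeg _ fun u => ?_)
    rw [f.skew, ← hB, h4 j0 u, map_zero, neg_zero]
  subst hj
  let b' : Basis (Fin m ⊕ Fin m) L V := b.reindex ((Equiv.sumEmpty _ _).trans (Equiv.sumComm _ _))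
  let T : (Fin m ⊕ Fin m → L) ≃ₗ[L] V := b'.equivFun.symm
  have hdim : d = k * m := by
    have h := Module.finrank_mul_finrank F L V
    rw [hL, Module.finrank_eq_card_basis b', Module.finrank_fintype_fun_eq_card] at h
    simp only [Fintype.card_sum, Fintype.card_fin] at h
    rw [mul_add] at h
    omega
  refine ⟨m, hdim, hkey, ?_⟩
  have hTB : ∀ x y, β (T x) (T y) = Cfsg.sympForm m L x y := by
    intro x y
    rw [← Cfsg.Agent.Lib.Geometry.sympBilin_apply]
    have e : β.compl₁₂ T.toLinearMap T.toLinearMap = Cfsg.Agent.Lib.Geometry.sympBilin m L := by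
      refine LinearMap.BilinForm.ext_basis (Pi.basisFun L (Fin m ⊕ Fin m)) fun i i' => ?_
      rw [LinearMap.compl₁₂_apply, LinearEquiv.coe_toLinearMap, Pi.basisFun_apply, Pi.basisFun_apply,
        show T (Pi.single i 1) = b' i by simp [T], show T (Pi.single i' 1) = b' i' by simp [T],
        Cfsg.Agent.Lib.Geometry.sympBilin_apply]
      have h1' : ∀ a a' : Fin m, β (b (Sum.inl (Sum.inr a))) (b (Sum.inl (Sum.inl a'))) = if a = a' then -1 else 0 := by
        intro a a'
        rw [← hAlt.neg_eq, h1 a' a]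
        by_cases haa : a = a'
        · subst haa; simp
        · simp [haa, Ne.symm haa]
      rcases i with a | a <;> rcases i' with a' | a' <;>
        simp [b', Equiv.sumEmpty, Cfsg.sympForm, Matrix.J, Matrix.mulVec_single_one, single_one_dotProduct, h1, h1', h2, h3,
          Matrix.one_apply, apply_ite Neg.neg] <;> (try split_ifs) <;> simp_all
    exact LinearMap.congr_fun (LinearMap.congr_fun e x) y
  let toV : Matrix (Fin m ⊕ Fin m) (Fin m ⊕ Fin m) L →* M :=
    { toFun := fun A => LinearMap.toMatrix' ((T.conj (Matrix.toLin' A)).restrictScalars F)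
      map_one' := by
        apply Matrix.toLin'.injective
        ext v
        simp [LinearEquiv.conj_apply]
      map_mul' := fun A A' => by
        apply Matrix.toLin'.injective
        ext v
        simp [LinearEquiv.conj_apply, Matrix.toLin'_mul, Matrix.mulVec_mulVec] }
  have htoV : ∀ A v, toV A *ᵥ v = T (A *ᵥ T.symm v) := fun A v => by
    show LinearMap.toMatrix' ((T.conj (Matrix.toLin' A)).restrictScalars F) *ᵥ v = _
    rw [← Matrix.toLin'_apply, Matrix.toLin'_toMatrix']
    simp [LinearEquiv.conj_apply]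
  have hmem : ∀ A : Matrix.symplecticGroup (Fin m) L, toV A.1 ∈ Matrix.symplecticGroup (Fin d) F := fun A => by
    rw [Cfsg.Agent.Lib.Geometry.mem_symplecticGroup_iff_form]
    intro u v
    rw [← stdAlt_apply, ← stdAlt_apply, htoV, htoV, ← hB, ← hB, hTB,
      Cfsg.Agent.Lib.Geometry.mem_symplecticGroup_iff_form.1 A.2, ← hTB, LinearEquiv.apply_symm_apply,
      LinearEquiv.apply_symm_apply]
  let ψ0 : Matrix.symplecticGroup (Fin m) L →* Matrix.symplecticGroup (Fin d) F :=
    (toV.comp (Submonoid.subtype _)).codRestrict _ hmem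
  have hψ0 : Function.Injective ψ0 := by
    intro A A' h
    have h' : toV A.1 = toV A'.1 := congrArg Subtype.val h
    refine Subtype.ext (Matrix.toLin'.injective (LinearMap.ext fun x => ?_))
    have h5 := congrArg (fun Z : M => Z *ᵥ T x) h'
    simp only [htoV, LinearEquiv.symm_apply_apply] at h5
    rw [Matrix.toLin'_apply, Matrix.toLin'_apply]
    exact T.injective h5
  let ψ : Matrix.symplecticGroup (Fin m) L →* GL (Fin d ⊕ Fin d) F :=
    (Cfsg.Agent.Lib.Classical.spToGL d F).comp ψ0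
  have hψ : Function.Injective ψ := Cfsg.Agent.Lib.Classical.spToGL_injective.comp hψ0
  refine ⟨ψ.range, ?_, ?_, ?_⟩
  · rw [← Cfsg.Agent.Lib.Classical.spToGL_range]
    rintro _ ⟨A, rfl⟩
    exact ⟨ψ0 A, rfl⟩
  · rintro _ ⟨A, rfl⟩ a
    refine Matrix.toLin'.injective (LinearMap.ext fun v => ?_)
    rw [show ((ψ A : GL (Fin d ⊕ Fin d) F) : M) = toV A.1 from rfl, Matrix.toLin'_apply, Matrix.toLin'_apply,
      ← Matrix.mulVec_mulVec, ← Matrix.mulVec_mulVec, htoV, htoV, ← hsm a, ← hsm a, map_smul,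
      Matrix.mulVec_smul, map_smul]
  · rw [← Nat.card_congr (MonoidHom.ofInjective hψ).toEquiv, Cfsg.Agent.Lib.Classical.card_sp, hKc]

theorem exists_structure [Fintype F] (hd : 0 < d) {K : Subalgebra F M} (hK : Cfsg.Geo.IsFieldSubalgebra k K)
    (hKf : Cfsg.Geo.IsSelfAdjointFor (Cfsg.sympForm d F) K)
    (hKalt : ∀ a ∈ K, ∀ v : V, Cfsg.sympForm d F (a *ᵥ v) v = 0) :
    ∃ m : ℕ, d = k * m ∧
      (∀ W : Submodule F V, (∀ a ∈ K, ∀ w ∈ W, a *ᵥ w ∈ W) → k ∣ finrank F W ∧ ((stdAlt d F).NdOn W → 2 * k ∣ finrank F W)) ∧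
      ∃ C : Subgroup (GL (Fin d ⊕ Fin d) F), C ≤ Cfsg.spGL d F ∧ (∀ g ∈ C, ∀ a ∈ K, (g : M) * a = a * (g : M)) ∧
        Nat.card C = (Fintype.card F ^ k) ^ (m ^ 2) * ∏ i ∈ Finset.range m, ((Fintype.card F ^ k) ^ (2 * (i + 1)) - 1) := by
  classical
  letI : Field K := (isField hd hK).toField
  haveI : Finite K := Module.finite_of_finite F
  letI : Fintype K := Fintype.ofFinite K
  obtain ⟨m, h1, h2, C, h3, h4, h5⟩ := exists_structure_gen hd (L := K) K.val hK.finrank_eq
    (fun a => hKf _ a.2) (fun a => hKalt _ a.2)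
  exact ⟨m, h1, fun W hW => h2 W fun a => hW _ a.2, C, h3, fun g hg a ha => h4 g hg ⟨a, ha⟩, h5⟩

/-- A root of unity in the normaliser centralises the field or has a small fixed space. -/
theorem dichotomy [Fintype F] (hd : 0 < d) (hk : k.Prime) {K : Subalgebra F M} (hK : Cfsg.Geo.IsFieldSubalgebra k K)
    {r : ℕ} [hr : Fact r.Prime] {y : GL (Fin d ⊕ Fin d) F} (hyr : (y : M) ^ r = 1)
    (hyK : y ∈ Cfsg.Geo.subalgebraNormalizer K) :
    (∀ a ∈ K, (y : M) * a = a * (y : M)) ∨ (r = k ∧ k * finrank F (LinearMap.ker (Matrix.toLin' (y : M) - 1)) ≤ 2 * d) := by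
  classical
  letI : Field K := (isField hd hK).toField
  haveI : Finite K := Module.finite_of_finite F
  let σ : K →ₐ[F] K :=
    { toFun := fun a => ⟨(y : M) * a * ((y⁻¹ : GL (Fin d ⊕ Fin d) F) : M), (hyK a).1 a.2⟩
      map_one' := Subtype.ext (by simp)
      map_mul' := fun a a' => Subtype.ext (by
        show (y : M) * ((a : M) * a') * _ = _ * _
        simp only [mul_assoc, Units.inv_mul_cancel_left])
      map_zero' := Subtype.ext (by simp)
      map_add' := fun a a' => Subtype.ext (by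
        show (y : M) * ((a : M) + a') * _ = _ + _
        rw [mul_add, add_mul])
      commutes' := fun s => Subtype.ext (by
        show (y : M) * algebraMap F M s * _ = algebraMap F M s
        rw [← Algebra.commutes, mul_assoc, Units.mul_inv, mul_one]) }
  have hσ : ∀ a : K, (σ a : M) = (y : M) * a * ((y⁻¹ : GL (Fin d ⊕ Fin d) F) : M) := fun a => rfl
  have hcomm : ∀ a : K, σ a = a ↔ (y : M) * a = (a : M) * (y : M) := fun a => by
    rw [Subtype.ext_iff, hσ, Units.mul_inv_eq_iff_eq_mul]
  haveI : Nontrivial K := inferInstance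
  have hsimple := Subalgebra.isSimpleOrder_of_finrank_prime F K (by rw [hK.finrank_eq]; exact hk)
  rcases hsimple.eq_bot_or_eq_top (AlgHom.equalizer σ (AlgHom.id F K)) with hE | hE
  swap
  · left
    intro a ha
    have : (⟨a, ha⟩ : K) ∈ AlgHom.equalizer σ (AlgHom.id F K) := hE ▸ Algebra.mem_top
    exact (hcomm ⟨a, ha⟩).1 this
  right
  have hfix : ∀ a : K, σ a = a → ∃ s : F, a = algebraMap F K s := fun a ha => by
    have : a ∈ (⊥ : Subalgebra F K) := hE ▸ ha
    obtain ⟨s, hs⟩ := Algebra.mem_bot.1 this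
    exact ⟨s, hs.symm⟩
  refine ⟨?_, ?_⟩
  · let s : K ≃ₐ[F] K := AlgEquiv.ofBijective σ ⟨σ.toRingHom.injective, Finite.injective_iff_surjective.1 σ.toRingHom.injective⟩
    have hpow : ∀ (j : ℕ) (a : K), (((s ^ j) a : K) : M) = (y : M) ^ j * a * ((y⁻¹ : GL (Fin d ⊕ Fin d) F) : M) ^ j := fun j => by
      induction j with
      | zero => intro a; simp
      | succ j ih =>
        intro a
        rw [pow_succ', AlgEquiv.mul_apply]
        show (σ ((s ^ j) a) : M) = _
        rw [hσ, ih, pow_succ' (y : M), pow_succ ((y⁻¹ : GL (Fin d ⊕ Fin d) F) : M)]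
        simp only [mul_assoc]
    have hinvr : ((y⁻¹ : GL (Fin d ⊕ Fin d) F) : M) ^ r = 1 := by
      rw [← Units.val_pow_eq_pow_val, inv_pow, show y ^ r = 1 from Units.ext hyr, inv_one, Units.val_one]
    have hsr : s ^ r = 1 := AlgEquiv.ext fun a => Subtype.ext (by rw [hpow, hyr, hinvr, one_mul, mul_one]; rfl)
    have hs1 : s ≠ 1 := fun e => by
      have : AlgHom.equalizer σ (AlgHom.id F K) = ⊤ := eq_top_iff.2 fun a _ => by
        show σ a = a
        exact AlgEquiv.congr_fun e a
      rw [hE] at this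
      have h := congrArg (fun S : Subalgebra F K => finrank F S) this
      simp only [Subalgebra.finrank_bot, subalgebra_top_finrank_eq_submodule_top_finrank, finrank_top, hK.finrank_eq] at h
      exact hk.one_lt.ne h
    have ho : orderOf s = r := orderOf_eq_prime hsr hs1
    have hdvd : r ∣ k := by
      rw [← ho, ← hK.finrank_eq, ← IsGalois.card_aut_eq_finrank F K]
      exact orderOf_dvd_natCard s
    exact (Nat.prime_dvd_prime_iff_eq hr.out hk).1 hdvd
  · have hind : ∀ (n : ℕ) (w : Fin n → V), LinearIndependent F w → (∀ i, (y : M) *ᵥ w i = w i) →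
        ∀ a : Fin n → K, ∑ i, (a i : M) *ᵥ w i = 0 → a = 0 := by
      intro n
      induction n with
      | zero => exact fun _ _ _ a _ => funext fun i => i.elim0
      | succ n ih =>
        intro w hw hy a ha
        by_contra hne
        have htail : ∀ b : Fin (n + 1) → K, b 0 = 0 → ∑ i, (b i : M) *ᵥ w i = 0 → b = 0 := by
          intro b h0 hb
          rw [Fin.sum_univ_succ, h0, ZeroMemClass.coe_zero, Matrix.zero_mulVec, zero_add] at hb
          have h' := ih (fun i => w i.succ) (hw.comp _ (Fin.succ_injective n)) (fun i => hy _) (fun i => b i.succ) hb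
          exact funext fun i => Fin.cases h0 (fun i => congrFun h' i) i
        have ha0 : a 0 ≠ 0 := fun e => hne (htail a e ha)
        set a' : Fin (n + 1) → K := fun i => (a 0)⁻¹ * a i with ha'd
        have ha' : ∑ i, (a' i : M) *ᵥ w i = 0 := by
          simp only [a', Subalgebra.coe_mul, ← Matrix.mulVec_mulVec]
          rw [← Matrix.mulVec_sum, ha, Matrix.mulVec_zero]
        have hσ' : ∑ i, (σ (a' i) : M) *ᵥ w i = 0 := by
          have h5 : (y : M) *ᵥ (∑ i, (a' i : M) *ᵥ w i) = 0 := by rw [ha', Matrix.mulVec_zero]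
          rw [Matrix.mulVec_sum] at h5
          rw [← h5]
          refine Finset.sum_congr rfl fun i _ => ?_
          conv_lhs => rw [← hy i]
          rw [hσ, Matrix.mulVec_mulVec, Matrix.mulVec_mulVec, Units.inv_mul_cancel_right]
        have hdiff : (fun i => σ (a' i) - a' i) = 0 := by
          refine htail _ ?_ ?_
          · show σ (a' 0) - a' 0 = 0
            rw [ha'd]
            simp [inv_mul_cancel₀ ha0]
          · simp only [AddSubgroupClass.coe_sub, Matrix.sub_mulVec, Finset.sum_sub_distrib, hσ', ha', sub_zero]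
        choose sc hsc using fun i => hfix (a' i) (sub_eq_zero.1 (congrFun hdiff i))
        have h6 : ∑ i, sc i • w i = 0 := by
          rw [← ha']
          refine Finset.sum_congr rfl fun i _ => ?_
          rw [hsc i, Subalgebra.coe_algebraMap, Algebra.algebraMap_eq_smul_one, Matrix.smul_mulVec, Matrix.one_mulVec]
        have h7 := Fintype.linearIndependent_iff.1 hw _ h6 0
        have h8 := hsc 0
        rw [h7, map_zero, ha'd] at h8
        simp [inv_mul_cancel₀ ha0] at h8
    set E := LinearMap.ker (Matrix.toLin' (y : M) - 1)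
    let bE := Module.finBasis F E
    let Φ : (Fin (finrank F E) → K) →ₗ[F] V :=
      { toFun := fun a => ∑ i, (a i : M) *ᵥ (bE i : V)
        map_add' := fun a a' => by simp [Matrix.add_mulVec, Finset.sum_add_distrib]
        map_smul' := fun s a => by simp [Matrix.smul_mulVec, Finset.smul_sum] }
    have hΦ : Function.Injective Φ := (injective_iff_map_eq_zero Φ).2 fun a ha =>
      hind _ (fun i => (bE i : V)) (bE.linearIndependent.map' E.subtype E.ker_subtype) (fun i => by
        have := (bE i).2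
        rw [LinearMap.mem_ker, LinearMap.sub_apply, Module.End.one_apply, sub_eq_zero, Matrix.toLin'_apply] at this
        exact this) a ha
    have h := LinearMap.finrank_le_finrank_of_injective hΦ
    rw [Module.finrank_pi_fintype, Finset.sum_const, Finset.card_univ, Fintype.card_fin, smul_eq_mul, hK.finrank_eq,
      Module.finrank_fintype_fun_eq_card, Fintype.card_sum, Fintype.card_fin, mul_comm] at h
    omega

theorem commute_aeval {Ω Y : M} (h : Y * Ω = Ω * Y) (Q : F[X]) : aeval Y Q * Ω = Ω * aeval Y Q := by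
  induction Q using Polynomial.induction_on with
  | C s => rw [aeval_C]; exact Algebra.commutes s Ω
  | add A B hA hB => rw [map_add, add_mul, mul_add, hA, hB]
  | monomial j s ih => rw [pow_succ, ← mul_assoc, map_mul, aeval_X, mul_assoc, h, ← mul_assoc, ih, mul_assoc]

/-- The displacement space of a semisimple isometry is non-degenerate. -/
theorem ndOn_range {r : ℕ} (hr0 : (r : F) ≠ 0) {y : GL (Fin d ⊕ Fin d) F} (hy : y ∈ Cfsg.spGL d F) (hyr : (y : M) ^ r = 1) :
    (stdAlt d F).NdOn (LinearMap.range (Matrix.toLin' (y : M) - 1)) := by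
  set f := stdAlt d F
  set Y := Matrix.toLin' (y : M)
  have hiso : ∀ u v, f.B (Y u) (Y v) = f.B u v := fun u v => by
    rw [stdAlt_apply, stdAlt_apply, Matrix.toLin'_apply, Matrix.toLin'_apply]; exact hy u v
  have hYr : Y ^ r = 1 := SympPrimeElem.pow_toLin hyr
  have hker : ∀ v, Y v = v → ∀ w ∈ LinearMap.range (Y - 1), f.B w v = 0 := by
    rintro v hv _ ⟨a, rfl⟩
    rw [LinearMap.sub_apply, Module.End.one_apply, map_sub, LinearMap.sub_apply]
    nth_rw 1 [← hv]
    rw [hiso, sub_self]
  have hdisj : LinearMap.range (Y - 1) ⊓ LinearMap.ker (Y - 1) = ⊥ := by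
    rw [Submodule.eq_bot_iff]
    rintro _ ⟨⟨u, rfl⟩, hv⟩
    set v := (Y - 1) u with hvdef
    have hv' : Y v = v := sub_eq_zero.1 hv
    have hu : Y u = u + v := by simp [hvdef]
    have hpow : ∀ j : ℕ, (Y ^ j) u = u + (j : F) • v := fun j => by
      induction j with
      | zero => simp
      | succ j ih =>
        rw [pow_succ', Module.End.mul_apply, ih, map_add, map_smul, hv', hu, Nat.cast_succ, add_smul, one_smul]
        abel
    have h := hpow r
    rw [hYr, Module.End.one_apply, eq_comm, add_eq_left] at h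
    exact (smul_eq_zero.1 h).resolve_left hr0
  have htop : LinearMap.range (Y - 1) ⊔ LinearMap.ker (Y - 1) = ⊤ := by
    refine Submodule.eq_top_of_finrank_eq ?_
    have h1 := Submodule.finrank_sup_add_finrank_inf_eq (LinearMap.range (Y - 1)) (LinearMap.ker (Y - 1))
    rw [hdisj, finrank_bot, add_zero, LinearMap.finrank_range_add_finrank_ker] at h1
    exact h1
  intro a ha ha0
  by_contra hne
  push Not at hne
  refine ha0 (f.nondeg a fun x => ?_)
  rw [f.skew]
  obtain ⟨w, hw, v, hv, rfl⟩ := Submodule.mem_sup.1 (htop ▸ Submodule.mem_top (x := x))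
  rw [map_add, hne w hw, hker v (sub_eq_zero.1 hv) a ha, add_zero, neg_zero]

/-- Involutions when `d = k = 2`. -/
theorem good_involution [Fintype F] (h2 : (2 : F) ≠ 0) {K : Subalgebra F (Matrix (Fin 2 ⊕ Fin 2) (Fin 2 ⊕ Fin 2) F)}
    (hK : Cfsg.Geo.IsFieldSubalgebra 2 K) (hKf : Cfsg.Geo.IsSelfAdjointFor (Cfsg.sympForm 2 F) K)
    (hKalt : ∀ a ∈ K, ∀ v : Fin 2 ⊕ Fin 2 → F, Cfsg.sympForm 2 F (a *ᵥ v) v = 0)
    {x : GL (Fin 2 ⊕ Fin 2) F} (hx : x ∈ Cfsg.spGL 2 F) {z : F}
    (hz : (x : Matrix (Fin 2 ⊕ Fin 2) (Fin 2 ⊕ Fin 2) F) ^ 2 = z • 1)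
    (hns : ∀ z : F, (x : Matrix (Fin 2 ⊕ Fin 2) (Fin 2 ⊕ Fin 2) F) ≠ z • 1) :
    ∃ g ∈ Cfsg.spGL 2 F, g⁻¹ * x * g ∈ Cfsg.Geo.subalgebraNormalizer K := by
  classical
  have hF : IsField K := isField (by norm_num) hK
  letI : Field K := hF.toField
  obtain ⟨ω0, hω0⟩ : ∃ w : K, ∀ s : F, w ≠ algebraMap F K s := by
    by_contra hne
    push Not at hne
    have : (⊤ : Subalgebra F K) ≤ ⊥ := fun w _ => by
      obtain ⟨s, hs⟩ := hne w
      exact Algebra.mem_bot.2 ⟨s, hs.symm⟩
    have h := congrArg (fun S : Subalgebra F K => finrank F S) (le_antisymm this bot_le)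
    simp only [Subalgebra.finrank_bot, subalgebra_top_finrank_eq_submodule_top_finrank, finrank_top, hK.finrank_eq] at h
    omega
  have hli0 : LinearIndependent F ![(1 : K), ω0] := by
    rw [LinearIndependent.pair_iff]
    intro a b h
    by_cases hb : b = 0
    · subst hb
      rw [zero_smul, add_zero] at h
      exact ⟨(smul_eq_zero.1 h).resolve_right one_ne_zero, rfl⟩
    · exfalso
      apply hω0 (-a / b)
      rw [Algebra.algebraMap_eq_smul_one, eq_comm, div_eq_mul_inv, mul_comm, mul_smul, inv_smul_eq_iff₀ hb, neg_smul,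
        neg_eq_iff_add_eq_zero, h]
  let bK := basisOfLinearIndependentOfCardEqFinrank hli0 (by rw [Fintype.card_fin, hK.finrank_eq])
  have hrep : ∀ w : K, ∃ a b : F, w = a • (1 : K) + b • ω0 := fun w => ⟨bK.repr w 0, bK.repr w 1, by
    conv_lhs => rw [← bK.sum_repr w, Fin.sum_univ_two]
    simp [bK]⟩
  obtain ⟨t0, s0, hst⟩ := hrep (ω0 * ω0)
  -- completing the square
  let ω : K := ω0 - (s0 / 2) • (1 : K)
  set t : F := t0 + s0 / 2 * (s0 / 2)
  have hω : ω * ω = t • (1 : K) := by
    simp only [ω, t, Algebra.smul_def, mul_one] at hst ⊢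
    rw [map_add, map_mul]
    have e : algebraMap F K s0 = 2 * algebraMap F K (s0 / 2) := by
      rw [← map_ofNat (algebraMap F K) 2, ← map_mul, mul_div_cancel₀ _ h2]
    rw [e] at hst
    linear_combination hst
  have hωns : ∀ s : F, ω ≠ algebraMap F K s := fun s e => hω0 (s + s0 / 2) (by
    simp only [ω, Algebra.smul_def, mul_one] at e
    rw [map_add]
    linear_combination e)
  have ht0 : t ≠ 0 := fun e => hωns 0 (by
    rw [e, zero_smul, mul_self_eq_zero] at hω
    rw [map_zero, hω])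
  set Ω : Matrix (Fin 2 ⊕ Fin 2) (Fin 2 ⊕ Fin 2) F := (ω : Matrix (Fin 2 ⊕ Fin 2) (Fin 2 ⊕ Fin 2) F)
  have hΩΩ : Ω * Ω = t • 1 := by
    have := congrArg Subtype.val hω
    simpa using this
  have hmem : ∀ a ∈ K, ∃ p q : F, a = p • (1 : Matrix (Fin 2 ⊕ Fin 2) (Fin 2 ⊕ Fin 2) F) + q • Ω := by
    intro a ha
    obtain ⟨p, q, h⟩ := hrep ⟨a, ha⟩
    refine ⟨p + q * (s0 / 2), q, ?_⟩
    have h' := congrArg Subtype.val h
    simp only [Subalgebra.coe_add, Subalgebra.coe_smul, Subalgebra.coe_one] at h'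
    rw [h']
    simp only [Ω, ω, Subalgebra.coe_sub, Subalgebra.coe_smul, Subalgebra.coe_one]
    module
  set f := stdAlt 2 F
  set O := Matrix.toLin' Ω
  have hO : ∀ v, O (O v) = t • v := fun v => by
    rw [Matrix.toLin'_apply, Matrix.toLin'_apply, Matrix.mulVec_mulVec, hΩΩ, Matrix.smul_mulVec, Matrix.one_mulVec]
  have hsO : ∀ u v, f.B (O u) v = f.B u (O v) := fun u v => by
    rw [Matrix.toLin'_apply, Matrix.toLin'_apply, stdAlt_apply, stdAlt_apply]; exact hKf _ ω.2 u v
  have haO : ∀ v, f.B (O v) v = 0 := fun v => by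
    rw [Matrix.toLin'_apply, stdAlt_apply]; exact hKalt _ ω.2 v
  -- a frame
  obtain ⟨a, ha0⟩ : ∃ a : Fin 2 ⊕ Fin 2 → F, a ≠ 0 := ⟨Pi.single (Sum.inl 0) 1, by simp⟩
  have hnsp : a ∉ F ∙ O a := by
    rw [Submodule.mem_span_singleton]
    rintro ⟨s, hs⟩
    have h1 := congrArg O hs
    rw [map_smul, hO, smul_smul] at h1
    have h3 : (s * s * t - 1) • a = 0 := by
      rw [sub_smul, one_smul, sub_eq_zero, mul_assoc, mul_smul, h1, hs]
    have hsst : s * s * t = 1 := sub_eq_zero.1 ((smul_eq_zero.1 h3).resolve_right ha0)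
    have hsq : (ω - algebraMap F K (s * t)) * (ω + algebraMap F K (s * t)) = 0 := by
      have e : algebraMap F K (s * t) * algebraMap F K (s * t) = t • (1 : K) := by
        rw [← map_mul, Algebra.algebraMap_eq_smul_one, show s * t * (s * t) = s * s * t * t by ring, hsst, one_mul]
      linear_combination hω - e
    rcases mul_eq_zero.1 hsq with h4 | h4
    · exact hωns _ (sub_eq_zero.1 h4)
    · exact hωns _ ((eq_neg_of_add_eq_zero_left h4).trans (map_neg _ _).symm)
  obtain ⟨b, hb0, hb1⟩ := f.exists_perp_eq_one (F ∙ O a) hnsp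
  have hab : f.B a b = 1 := hb1
  have hOab : f.B (O a) b = 0 := hb0 _ (Submodule.mem_span_singleton_self _)
  have haOb : f.B a (O b) = 0 := by rw [← hsO, hOab]
  have hbOa : f.B b (O a) = 0 := by rw [f.skew, hOab, neg_zero]
  have hObA : f.B (O b) a = 0 := by rw [f.skew, haOb, neg_zero]
  have hba : f.B b a = -1 := by rw [f.skew, hab]
  have hOO : ∀ u v, f.B (O u) (O v) = t * f.B u v := fun u v => by rw [hsO, hO, map_smul, smul_eq_mul]
  let fr : Fin 2 ⊕ Fin 2 → Fin 2 ⊕ Fin 2 → F := Sum.elim ![a, b] ![O a, O b]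
  have hli : LinearIndependent F fr := by
    rw [Fintype.linearIndependent_iff]
    intro g hg
    simp only [Fintype.sum_sum_type, Fin.sum_univ_two, fr, Sum.elim_inl, Sum.elim_inr, Matrix.cons_val_zero,
      Matrix.cons_val_one] at hg
    have haO' : ∀ v, f.B v (O v) = 0 := fun v => by rw [f.skew, haO, neg_zero]
    have e1 := congrArg (fun v => f.B v b) hg
    have e2 := congrArg (fun v => f.B a v) hg
    have e3 := congrArg (fun v => f.B v (O b)) hg
    have e4 := congrArg (fun v => f.B (O a) v) hg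
    simp [hab, hOab, haOb, hba, hbOa, hObA, hOO, haO, haO', f.alt, ht0] at e1 e2 e3 e4
    rintro (i | i) <;> fin_cases i <;> assumption
  let bV := basisOfLinearIndependentOfCardEqFinrank hli (by simp)
  have hbV : ∀ i, bV i = fr i := fun i => congrFun (coe_basisOfLinearIndependentOfCardEqFinrank _ _) i
  set X := Matrix.toLin' (x : Matrix (Fin 2 ⊕ Fin 2) (Fin 2 ⊕ Fin 2) F)
  have hxx : ∀ v, X (X v) = z • v := fun v => by
    rw [Matrix.toLin'_apply, Matrix.toLin'_apply, Matrix.mulVec_mulVec, ← pow_two, hz, Matrix.smul_mulVec,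
      Matrix.one_mulVec]
  have hix : ∀ u v, f.B (X u) (X v) = f.B u v :=
    fun u v => by rw [stdAlt_apply, stdAlt_apply, Matrix.toLin'_apply, Matrix.toLin'_apply]; exact hx u v
  have hzz : z * z = 1 := by
    have := hix (X a) (X b)
    rw [hxx, hxx, hix, map_smul, map_smul, LinearMap.smul_apply, smul_eq_mul, smul_eq_mul, hab] at this
    linear_combination this
  suffices ∃ (T : (Fin 2 ⊕ Fin 2 → F) →ₗ[F] (Fin 2 ⊕ Fin 2 → F)) (ε : F), (ε = 1 ∨ ε = -1) ∧ (∀ u v, f.B (T u) (T v) = f.B u v) ∧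
      (∀ v, T (O v) = ε • O (T v)) ∧ ∃ g : (Fin 2 ⊕ Fin 2 → F) →ₗ[F] (Fin 2 ⊕ Fin 2 → F),
        (∀ u v, f.B (g u) (g v) = f.B u v) ∧ ∀ v, g (T v) = X (g v) by
    obtain ⟨T, ε, hε, hT, hTO, g, hg, hgt⟩ := this
    have key : ∀ L : (Fin 2 ⊕ Fin 2 → F) →ₗ[F] (Fin 2 ⊕ Fin 2 → F), (∀ u v, f.B (L u) (L v) = f.B u v) →
        ∃ G : GL (Fin 2 ⊕ Fin 2) F, G ∈ Cfsg.spGL 2 F ∧ Matrix.toLin' (G : Matrix (Fin 2 ⊕ Fin 2) (Fin 2 ⊕ Fin 2) F) = L := by
      intro L hL
      obtain ⟨G, hGs, hGM⟩ := SympPrimeElem.exists_gl_of_mem (X := LinearMap.toMatrix' L) (by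
        rw [Cfsg.Agent.Lib.Geometry.mem_symplecticGroup_iff_form]
        intro u v
        rw [← stdAlt_apply, ← stdAlt_apply, ← Matrix.toLin'_apply, ← Matrix.toLin'_apply, Matrix.toLin'_toMatrix']
        exact hL u v)
      exact ⟨G, hGs, by rw [hGM, Matrix.toLin'_toMatrix']⟩
    obtain ⟨G, hGs, hG⟩ := key g hg
    obtain ⟨S, -, hS⟩ := key T hT
    refine ⟨G, hGs, ?_⟩
    have e1 : x * G = G * S := by
      apply Units.ext
      apply Matrix.toLin'.injective
      rw [Units.val_mul, Units.val_mul, Matrix.toLin'_mul, Matrix.toLin'_mul, hG, hS]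
      exact LinearMap.ext fun v => (hgt v).symm
    rw [mul_assoc, e1, inv_mul_cancel_left]
    have hSΩ : (S : Matrix (Fin 2 ⊕ Fin 2) (Fin 2 ⊕ Fin 2) F) * Ω = ε • (Ω * (S : Matrix (Fin 2 ⊕ Fin 2) (Fin 2 ⊕ Fin 2) F)) := by
      apply Matrix.toLin'.injective
      rw [map_smul, Matrix.toLin'_mul, Matrix.toLin'_mul, hS]
      exact LinearMap.ext hTO
    have hee : ε * ε = 1 := by rcases hε with rfl | rfl <;> norm_num
    intro w
    have hconj : ∀ p q : F, (S : Matrix (Fin 2 ⊕ Fin 2) (Fin 2 ⊕ Fin 2) F) * (p • 1 + q • Ω) *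
        ((S⁻¹ : GL (Fin 2 ⊕ Fin 2) F) : Matrix (Fin 2 ⊕ Fin 2) (Fin 2 ⊕ Fin 2) F) = p • 1 + (q * ε) • Ω := by
      intro p q
      rw [mul_add, add_mul, mul_smul_comm, mul_smul_comm, mul_one, smul_mul_assoc, smul_mul_assoc, Units.mul_inv, hSΩ,
        smul_mul_assoc, mul_assoc, Units.mul_inv, mul_one, smul_smul]
    have hin : ∀ p q : F, p • (1 : Matrix (Fin 2 ⊕ Fin 2) (Fin 2 ⊕ Fin 2) F) + q • Ω ∈ K :=
      fun p q => K.add_mem (K.smul_mem K.one_mem p) (K.smul_mem ω.2 q)
    constructor
    · intro hw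
      obtain ⟨p, q, rfl⟩ := hmem w hw
      rw [hconj]
      exact hin _ _
    · intro hw
      obtain ⟨p, q, hpq⟩ := hmem _ hw
      have e := hconj p (q * ε)
      rw [mul_assoc q, hee, mul_one, ← hpq] at e
      rw [← (Units.mul_right_inj S).1 ((Units.mul_left_inj (S⁻¹)).1 e)]
      exact hin _ _
  rcases mul_self_eq_one_iff.1 hzz with rfl | rfl
  · simp only [one_smul] at hxx
    let T : (Fin 2 ⊕ Fin 2 → F) →ₗ[F] (Fin 2 ⊕ Fin 2 → F) := bV.constr F (Sum.elim ![a, b] ![-O a, -O b])
    have hT : ∀ i, T (fr i) = Sum.elim (fun _ => (1 : F)) (fun _ => -1) i • fr i := fun i => by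
      rw [← hbV, Basis.constr_basis, hbV]
      rcases i with i | i <;> fin_cases i <;> simp [fr]
    have hTT : ∀ v, T (T v) = v := fun v => by
      have e : T ∘ₗ T = LinearMap.id := bV.ext fun i => by
        rw [LinearMap.comp_apply, hbV, hT, map_smul, hT, smul_smul]
        rcases i with i | i <;> simp
      exact LinearMap.congr_fun e v
    have hTi : ∀ u v, f.B (T u) (T v) = f.B u v := fun u v => by
      have e : f.B.compl₁₂ T T = f.B := bV.ext fun i => bV.ext fun j => by
        rw [LinearMap.compl₁₂_apply, hbV, hbV, hT, hT, map_smul, map_smul, LinearMap.smul_apply, smul_eq_mul, smul_eq_mul]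
        rcases i with i | i <;> rcases j with j | j <;> fin_cases i <;> fin_cases j <;>
          simp [fr, hab, hOab, haOb, hba, hbOa, hObA, hOO, haO, f.alt, f.skew a (O a), f.skew b (O b)]
      exact LinearMap.congr_fun (LinearMap.congr_fun e u) v
    refine ⟨T, -1, Or.inr rfl, hTi, fun v => ?_, SympInvolConj.conj_one f h2 hxx hTT hix hTi ?_⟩
    · have e : T ∘ₗ O = (-1 : F) • (O ∘ₗ T) := bV.ext fun i => by
        rw [LinearMap.comp_apply, LinearMap.smul_apply, LinearMap.comp_apply, hbV, hT, map_smul]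
        rcases i with i | i <;> fin_cases i
        · exact (hT (Sum.inr 0)).trans (by simp [fr])
        · exact (hT (Sum.inr 1)).trans (by simp [fr])
        · simp only [fr, Sum.elim_inr, Fin.zero_eta, Matrix.cons_val_zero]
          rw [hO, map_smul, show T a = a from (hT (Sum.inl 0)).trans (one_smul _ _)]
          simp
        · simp only [fr, Sum.elim_inr, Fin.mk_one, Matrix.cons_val_one, Matrix.cons_val_zero]
          rw [hO, map_smul, show T b = b from (hT (Sum.inl 1)).trans (one_smul _ _)]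
          simp
      exact LinearMap.congr_fun e v
    · obtain ⟨l, hl⟩ := SympInvolConj.even_finrank f (SympInvolConj.ndOn_minus f h2 hxx hix)
      have hne : ∀ s : F, X ≠ s • LinearMap.id := fun s e => hns s (Matrix.toLin'.injective (by
        rw [map_smul, Matrix.toLin'_one]; exact e))
      have hl1 : l = 1 := by
        have h4 := (X + LinearMap.id).finrank_range_add_finrank_ker
        rw [Module.finrank_fintype_fun_eq_card, Fintype.card_sum, Fintype.card_fin] at h4
        rcases Nat.lt_or_ge l 1 with hl0 | hl0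
        · exfalso
          have h5 : LinearMap.range (X - LinearMap.id) = ⊥ := by
            rw [SympInvolConj.range_sub_one h2 hxx]
            exact Submodule.finrank_eq_zero.1 (by omega)
          rw [LinearMap.range_eq_bot, sub_eq_zero] at h5
          exact hne 1 (by rw [h5, one_smul])
        · by_contra hl2
          have h5 : LinearMap.range (X + LinearMap.id) = ⊥ := Submodule.finrank_eq_zero.1 (by omega)
          rw [LinearMap.range_eq_bot, add_eq_zero_iff_eq_neg] at h5
          exact hne (-1) (h5.trans (neg_one_smul F (LinearMap.id : (Fin 2 ⊕ Fin 2 → F) →ₗ[F] (Fin 2 ⊕ Fin 2 → F))).symm)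
      rw [SympInvolConj.range_sub_one h2 hxx, hl, hl1]
      have h6 : LinearMap.ker (T + LinearMap.id) ≥ Submodule.span F {O a, O b} := by
        rw [ge_iff_le, Submodule.span_le]
        rintro v (rfl | rfl)
        · exact (SympInvolConj.mem_minus _).2 ((hT (Sum.inr 0)).trans (neg_one_smul _ _))
        · exact (SympInvolConj.mem_minus _).2 ((hT (Sum.inr 1)).trans (neg_one_smul _ _))
      have h7 : LinearMap.ker (T - LinearMap.id) ≥ Submodule.span F {a, b} := by
        rw [ge_iff_le, Submodule.span_le]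
        rintro v (rfl | rfl)
        · exact (SympInvolConj.mem_plus _).2 ((hT (Sum.inl 0)).trans (one_smul _ _))
        · exact (SympInvolConj.mem_plus _).2 ((hT (Sum.inl 1)).trans (one_smul _ _))
      have e6 : finrank F (Submodule.span F {O a, O b}) = 2 := by
        have := finrank_span_eq_card (hli.comp Sum.inr Sum.inr_injective)
        rwa [show fr ∘ Sum.inr = ![O a, O b] from rfl, Matrix.range_cons, Matrix.range_cons, Matrix.range_empty,
          Set.union_empty, Set.singleton_union, Fintype.card_fin] at this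
      have e7 : finrank F (Submodule.span F {a, b}) = 2 := by
        have := finrank_span_eq_card (hli.comp Sum.inl Sum.inl_injective)
        rwa [show fr ∘ Sum.inl = ![a, b] from rfl, Matrix.range_cons, Matrix.range_cons, Matrix.range_empty,
          Set.union_empty, Set.singleton_union, Fintype.card_fin] at this
      have h8 := Submodule.finrank_mono h6
      have h9 := Submodule.finrank_mono h7
      have h10 := (T - LinearMap.id).finrank_range_add_finrank_ker
      rw [Module.finrank_fintype_fun_eq_card, Fintype.card_sum, Fintype.card_fin] at h10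
      rw [SympInvolConj.range_sub_one h2 hTT] at h10 ⊢
      omega
  · let T : (Fin 2 ⊕ Fin 2 → F) →ₗ[F] (Fin 2 ⊕ Fin 2 → F) := bV.constr F (Sum.elim ![b, -a] ![O b, -O a])
    have hT : ∀ i, T (fr i) = Sum.elim ![b, -a] ![O b, -O a] i := fun i => by rw [← hbV, Basis.constr_basis]
    have hTa : T a = b := hT (Sum.inl 0)
    have hTb : T b = -a := hT (Sum.inl 1)
    have hTOa : T (O a) = O b := hT (Sum.inr 0)
    have hTOb : T (O b) = -O a := hT (Sum.inr 1)
    have hTT : ∀ v, T (T v) = -v := fun v => by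
      have e : T ∘ₗ T = -LinearMap.id := bV.ext fun i => by
        rw [LinearMap.comp_apply, hbV]
        rcases i with i | i <;> fin_cases i <;> simp [fr, hTa, hTb, hTOa, hTOb]
      exact LinearMap.congr_fun e v
    have hTi : ∀ u v, f.B (T u) (T v) = f.B u v := fun u v => by
      have e : f.B.compl₁₂ T T = f.B := bV.ext fun i => bV.ext fun j => by
        rw [LinearMap.compl₁₂_apply, hbV, hbV]
        rcases i with i | i <;> rcases j with j | j <;> fin_cases i <;> fin_cases j <;>
          simp [fr, hTa, hTb, hTOa, hTOb, hab, hOab, haOb, hba, hbOa, hObA, hOO, haO, f.alt, f.skew a (O a), f.skew b (O b)]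
      exact LinearMap.congr_fun (LinearMap.congr_fun e u) v
    refine ⟨T, 1, Or.inl rfl, hTi, fun v => ?_,
      SympInvolConj.conj_neg_one f h2 (d := 2) (by simp) (fun v => by rw [hxx, neg_one_smul]) hTT hix hTi⟩
    have e : T ∘ₗ O = O ∘ₗ T := bV.ext fun i => by
      rw [LinearMap.comp_apply, LinearMap.comp_apply, hbV]
      rcases i with i | i <;> fin_cases i <;> simp [fr, hTa, hTb, hTOa, hTOb, hO]
    rw [one_smul]
    exact LinearMap.congr_fun e v

/-- Elements of prime order of PSp_n(q) and the field-extension subgroups of type Sp_{n/k}(q^k). Here `T = PSp_{2d}(F)` for a field `F` with `q` elements (`d ≥ 2`, `(d, q) ≠ (2, 2)`), realised through the matrices preserving the standard alternating form `f`; `k` is a prime and `K` is a subalgebra of the `2d × 2d` matrices that is a field of degree `k` over `F` whose elements are self-adjoint for `f` and satisfy `f(a v, v) = 0` (so `F^{2d}` becomes a vector space over `K ≅ F_{q^k}` on which `f` is the trace of a `K`-bilinear alternating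 form); `H` is the subgroup of `T` normalizing `K` — the symplectic maps that are `K`-linear or `K`-semilinear, a subgroup of type Sp_{2d/k}(q^k) (maximality is not assumed). Ω is the set of cosets of `H` in `T`, so an element of `T` of prime order `r` (`x ∈ T` with `x^r` scalar, `x` not scalar) fixes a point of Ω exactly when some `T`-conjugate of `x` normalizes `K`. Let `r` be a prime dividing the index of `H`. Then every element of `T` of order `r` fixes a point of Ω if and only if `r = 2`, `d = 2`, `k = 2` and `q` is odd. -/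
theorem result {F : Type*} [Field F] [Fintype F] {p : ℕ} [Fact p.Prime] [CharP F p] {q : ℕ} (hq : Fintype.card F = q)
    (d : ℕ) (hd : 2 ≤ d) (hT : (d, q) ≠ (2, 2)) (k : ℕ) (hk : k.Prime)
    (K : Subalgebra F (Matrix (Fin d ⊕ Fin d) (Fin d ⊕ Fin d) F)) (hK : Cfsg.Geo.IsFieldSubalgebra k K)
    (hKf : Cfsg.Geo.IsSelfAdjointFor (Cfsg.sympForm d F) K) (hKalt : ∀ a ∈ K, ∀ v : Fin d ⊕ Fin d → F, Cfsg.sympForm d F (a *ᵥ v) v = 0)
    (r : ℕ) [Fact r.Prime]
    (hΩ : r ∣ (Cfsg.Geo.subalgebraNormalizer K).relIndex (Cfsg.spGL d F)) :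
    (∀ x ∈ Cfsg.spGL d F, (∃ z : F, ((x ^ r : GL (Fin d ⊕ Fin d) F) : Matrix (Fin d ⊕ Fin d) (Fin d ⊕ Fin d) F) = z • (1 : Matrix (Fin d ⊕ Fin d) (Fin d ⊕ Fin d) F)) →
      (∀ z : F, (x : Matrix (Fin d ⊕ Fin d) (Fin d ⊕ Fin d) F) ≠ z • (1 : Matrix (Fin d ⊕ Fin d) (Fin d ⊕ Fin d) F)) →
      ∃ g ∈ Cfsg.spGL d F, g⁻¹ * x * g ∈ Cfsg.Geo.subalgebraNormalizer K) ↔
    (r = 2 ∧ d = 2 ∧ k = 2 ∧ Odd q) := by
  classical
  subst hq
  have hr : r.Prime := Fact.out
  obtain ⟨m, hdm, hdiv, C, hCS, hCc, hC⟩ := exists_structure (by omega) hK hKf hKalt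
  have hm0 : 0 < m := by
    rcases Nat.eq_zero_or_pos m with h0 | h0
    · rw [h0, mul_zero] at hdm; omega
    · exact h0
  have hkd : k ≤ d := hdm ▸ Nat.le_mul_of_pos_right k hm0
  have hk2 : 2 ≤ k := hk.two_le
  set q := Fintype.card F with hq
  constructor
  · intro h
    by_contra hne
    have key : ∀ x ∈ Cfsg.spGL d F, (x : Matrix (Fin d ⊕ Fin d) (Fin d ⊕ Fin d) F) ^ r = 1 →
        (∀ z : F, (x : Matrix (Fin d ⊕ Fin d) (Fin d ⊕ Fin d) F) ≠ z • 1) →
        (∀ Q : Polynomial F, k ∣ (Polynomial.aeval (x : Matrix (Fin d ⊕ Fin d) (Fin d ⊕ Fin d) F) Q).rank) ∧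
          ((r : F) ≠ 0 → 2 * k ∣ ((x : Matrix (Fin d ⊕ Fin d) (Fin d ⊕ Fin d) F) - 1).rank) ∨
        (r = k ∧ 2 * d * (k - 1) ≤ k * ((x : Matrix (Fin d ⊕ Fin d) (Fin d ⊕ Fin d) F) - 1).rank) := by
      intro x hx hxr hns
      obtain ⟨g, hg, hgK⟩ := h x hx ⟨1, by rw [Units.val_pow_eq_pow_val, hxr, one_smul]⟩ hns
      have hy : g⁻¹ * x * g ∈ Cfsg.spGL d F := mul_mem (mul_mem (inv_mem hg) hx) hg
      have hyr : ((g⁻¹ * x * g : GL (Fin d ⊕ Fin d) F) : Matrix (Fin d ⊕ Fin d) (Fin d ⊕ Fin d) F) ^ r = 1 := by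
        rw [← Units.val_pow_eq_pow_val, show (g⁻¹ * x * g) ^ r = g⁻¹ * x ^ r * g by
          have := conj_pow (a := g⁻¹) (b := x) (i := r); simpa using this, show x ^ r = 1 from Units.ext (by simpa using hxr)]
        simp
      have hrk : ∀ Q : Polynomial F, (Polynomial.aeval ((g⁻¹ * x * g : GL (Fin d ⊕ Fin d) F) : Matrix (Fin d ⊕ Fin d) (Fin d ⊕ Fin d) F) Q).rank =
          (Polynomial.aeval (x : Matrix (Fin d ⊕ Fin d) (Fin d ⊕ Fin d) F) Q).rank := fun Q => by
        rw [Units.val_mul, Units.val_mul, S5979.aeval_conj (Units.mul_inv g) (Units.inv_mul g),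
          Matrix.rank_mul_eq_left_of_isUnit_det _ _ (by rw [← Matrix.isUnit_iff_isUnit_det]; exact Units.isUnit _),
          Matrix.rank_mul_eq_right_of_isUnit_det _ _ (by rw [← Matrix.isUnit_iff_isUnit_det]; exact Units.isUnit _)]
      have hrk1 : (((g⁻¹ * x * g : GL (Fin d ⊕ Fin d) F) : Matrix (Fin d ⊕ Fin d) (Fin d ⊕ Fin d) F) - 1).rank =
          ((x : Matrix (Fin d ⊕ Fin d) (Fin d ⊕ Fin d) F) - 1).rank := by
        have := hrk (Polynomial.X - 1)
        simpa using this
      rcases dichotomy (by omega) hk hK hyr hgK with hcom | ⟨hrk', hker⟩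
      · left
        have hinv : ∀ Q : Polynomial F, ∀ a ∈ K, ∀ w ∈ LinearMap.range (Matrix.mulVecLin
            (Polynomial.aeval ((g⁻¹ * x * g : GL (Fin d ⊕ Fin d) F) : Matrix (Fin d ⊕ Fin d) (Fin d ⊕ Fin d) F) Q)),
            a *ᵥ w ∈ LinearMap.range (Matrix.mulVecLin
            (Polynomial.aeval ((g⁻¹ * x * g : GL (Fin d ⊕ Fin d) F) : Matrix (Fin d ⊕ Fin d) (Fin d ⊕ Fin d) F) Q)) := by
          rintro Q a ha _ ⟨u, rfl⟩
          exact ⟨a *ᵥ u, by rw [Matrix.mulVecLin_apply, Matrix.mulVecLin_apply, Matrix.mulVec_mulVec, Matrix.mulVec_mulVec, commute_aeval (hcom a ha) Q]⟩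
        refine ⟨fun Q => hrk Q ▸ (hdiv _ (hinv Q)).1, fun hr0 => ?_⟩
        have h5 := (hdiv _ (hinv (Polynomial.X - 1))).2
        rw [map_sub, Polynomial.aeval_X, map_one] at h5
        rw [← hrk1]
        refine h5 ?_
        rw [← Matrix.toLin'_apply', map_sub, Matrix.toLin'_one]
        exact ndOn_range hr0 hy hyr
      · right
        refine ⟨hrk', ?_⟩
        have h5 := SympPrimeElem.finrank_range_matrix ((g⁻¹ * x * g : GL (Fin d ⊕ Fin d) F) : Matrix (Fin d ⊕ Fin d) (Fin d ⊕ Fin d) F)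
        rw [Fintype.card_sum, Fintype.card_fin, hrk1] at h5
        have h6 := congrArg (k * ·) h5
        simp only [mul_add] at h6
        have h8 : 2 * d * (k - 1) + 2 * d = k * d + k * d := by
          obtain ⟨j, rfl⟩ : ∃ j, k = j + 1 := ⟨k - 1, by omega⟩
          rw [Nat.add_sub_cancel]; ring
        omega
    by_cases hrp : r = p
    · subst hrp
      obtain ⟨x, hxS, hx, hns, hrk⟩ := S5980.exists_transvection (F := F) hd r
      have hone := key x hxS hx hns
      rw [one_smul] at hrk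
      rcases hone with ⟨h1, -⟩ | ⟨-, h1⟩
      · have := h1 (Polynomial.X - 1)
        rw [map_sub, Polynomial.aeval_X, map_one, hrk, Nat.dvd_one] at this
        omega
      · rw [hrk, mul_one] at h1
        have : 2 * d * 1 ≤ 2 * d * (k - 1) := Nat.mul_le_mul_left _ (by omega)
        omega
    have hr0 : (r : F) ≠ 0 := PrimeElemFlags.cast_ne_zero hrp
    by_cases hd1 : r ∣ q - 1
    · obtain ⟨u, hu⟩ := exists_prime_orderOf_dvd_card' (G := Fˣ) r (by rwa [PrimeElemFlags.card_sub_one rfl])
      have hur : (u : F) ^ r = 1 := by rw [← Units.val_pow_eq_pow_val, ← hu, pow_orderOf_eq_one, Units.val_one]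
      have hu1 : (u : F) ≠ 1 := fun e' => by
        rw [Units.val_eq_one] at e'
        rw [e', orderOf_one] at hu
        exact hr.one_lt.ne hu
      obtain ⟨x, hxS, hxr, hns, hrk1, -⟩ := S5980.exists_diag hd hur hu1
      rw [one_smul] at hrk1
      rcases key x hxS hxr hns with ⟨-, h1⟩ | ⟨hrk', h1⟩
      · have h5 := Nat.le_of_dvd (by norm_num) (hrk1 ▸ h1 hr0)
        omega
      · rw [hrk1] at h1
        have h4 : 2 * k * (k - 1) ≤ 2 * d * (k - 1) := Nat.mul_le_mul_right _ (by omega)
        have hk' : k = 2 := by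
          by_contra hk3
          have : 2 * k * 2 ≤ 2 * k * (k - 1) := Nat.mul_le_mul_left _ (by omega)
          omega
        subst hk'
        refine hne ⟨hrk', by omega, rfl, Nat.odd_iff.2 ?_⟩
        subst hrk'
        have hq1 : 1 < q := Fintype.one_lt_card
        omega
    · obtain ⟨c, hc⟩ : ∃ c, orderOf ((Fintype.card F : ℕ) : ZMod r) = c := ⟨_, rfl⟩
      have hc1 : c ≠ 1 := fun e' => hd1 ((PrimeElemFlags.order_eq_one_iff rfl).1 (hc.trans e'))
      have hc0 : 0 < c := hc ▸ PrimeElemFlags.order_pos rfl hrp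
      have hcr : c ∣ r - 1 := by
        rw [← hc, orderOf_dvd_iff_pow_eq_one]
        refine ZMod.pow_card_sub_one_eq_one fun h0 => ?_
        rw [← hc, h0, orderOf_eq_zero_iff'.2 (fun j hj => by rw [zero_pow hj.ne']; exact zero_ne_one)] at hc0
        exact lt_irrefl 0 hc0
      have hr2 : r ≠ 2 := fun e => hc1 (by
        have := Nat.le_of_dvd (by omega) hcr
        omega)
      have hr1 : Even (r - 1) := by
        obtain ⟨j, hj⟩ := hr.odd_of_ne_two hr2
        exact ⟨j, by omega⟩
      obtain ⟨hcd, hco⟩ := SympPrimeElem.order_le hrp (hΩ.trans (Subgroup.relIndex_dvd_card _ _))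
      rw [hc] at hcd hco
      have hns : ∀ x : GL (Fin d ⊕ Fin d) F, (x : Matrix (Fin d ⊕ Fin d) (Fin d ⊕ Fin d) F) ^ r = 1 →
          ((x : Matrix (Fin d ⊕ Fin d) (Fin d ⊕ Fin d) F) - 1).rank ≠ 0 →
          ∀ z : F, (x : Matrix (Fin d ⊕ Fin d) (Fin d ⊕ Fin d) F) ≠ z • 1 := by
        intro x hxr hx z hz
        obtain rfl : z = 1 := by
          have h1 := hxr
          rw [hz, _root_.smul_pow, one_pow] at h1
          have h' := congrFun (congrFun h1 (Sum.inl ⟨0, by omega⟩)) (Sum.inl ⟨0, by omega⟩)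
          simp at h'
          have hz0 : z ≠ 0 := fun h0 => by rw [h0, zero_pow hr.ne_zero] at h'; exact zero_ne_one h'
          simpa [((Nat.Prime.coprime_iff_not_dvd hr).2 (show ¬ r ∣ Fintype.card F - 1 from hd1)).gcd_eq_one] using
            pow_gcd_eq_one.2 ⟨h', FiniteField.pow_card_sub_one_eq_one z hz0⟩
        rw [hz, one_smul, sub_self, Matrix.rank_zero] at hx
        exact hx rfl
      have small : ∀ R, R ≤ r - 1 → r = k → ¬ 2 * d * (k - 1) ≤ k * R := by
        intro R hR hrk' hle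
        have h5 : 2 * k * (k - 1) ≤ 2 * d * (k - 1) := Nat.mul_le_mul_right _ (by omega)
        have h6 : k * R ≤ k * (k - 1) := Nat.mul_le_mul_left _ (by omega)
        have h7 : 0 < k * (k - 1) := Nat.mul_pos (by omega) (by omega)
        have h8 : 2 * k * (k - 1) = k * (k - 1) + k * (k - 1) := by ring
        omega
      have hstep : ∀ i, c ∣ 2 * (i + 1) → k ∣ i + 1 := by
        rcases Nat.even_or_odd c with ⟨e, he⟩ | hco'
        · obtain ⟨x, hxS, hxr, hxk⟩ := SympPrimeElem.exists_even hrp hc ⟨e, he⟩ hcd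
          rcases key x hxS hxr (hns x hxr (by omega)) with ⟨-, h1⟩ | ⟨hrk', h1⟩
          · have h2 := h1 hr0
            rw [hxk, he, ← two_mul] at h2
            intro i hi
            rw [he, ← two_mul] at hi
            exact (Nat.dvd_of_mul_dvd_mul_left two_pos h2).trans (Nat.dvd_of_mul_dvd_mul_left two_pos hi)
          · rw [hxk] at h1
            exact absurd h1 (small c (Nat.le_of_dvd (by omega) hcr) hrk')
        · obtain ⟨x, g, hxS, hxr, hxk, -, -, -, hgr⟩ := SympPrimeElem.exists_odd hrp hc hco' hc1 (hco hco')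
          rcases key x hxS hxr (hns x hxr (by omega)) with ⟨h1, -⟩ | ⟨hrk', h1⟩
          · have h2 := h1 g
            rw [hgr] at h2
            have h3 : k ∣ 2 * d := (Dvd.intro m hdm.symm).trans (dvd_mul_left _ _)
            have h4 : k ∣ c := by
              have := Nat.dvd_sub h3 h2
              rwa [show 2 * d - (2 * d - c) = c by have := hco hco'; omega] at this
            intro i hi
            exact h4.trans ((Nat.Coprime.dvd_mul_left (Nat.coprime_two_right.2 hco')).1 hi)
          · rw [hxk] at h1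
            refine absurd h1 (small (2 * c) ?_ hrk')
            exact Nat.le_of_dvd (by omega) (Nat.Coprime.mul_dvd_of_dvd_of_dvd (Nat.coprime_two_left.2 hco')
              (even_iff_two_dvd.1 hr1) hcr)
      -- the index is prime to `r`
      have hCH : C ≤ Cfsg.Geo.subalgebraNormalizer K ⊓ Cfsg.spGL d F := by
        refine le_inf (fun g hg a => ?_) hCS
        constructor
        · intro ha
          rwa [hCc g hg a ha, mul_assoc, Units.mul_inv, mul_one]
        · intro ha
          have h5 := hCc g hg _ ha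
          rw [Units.inv_mul_cancel_right] at h5
          rwa [← (Units.mul_right_inj g).1 (show (g : Matrix (Fin d ⊕ Fin d) (Fin d ⊕ Fin d) F) * _ = (g : Matrix (Fin d ⊕ Fin d) (Fin d ⊕ Fin d) F) * a from h5)]
      have h1 : r ∣ C.relIndex (Cfsg.spGL d F) := by
        rw [← Subgroup.relIndex_mul_relIndex C _ _ hCH inf_le_right, Subgroup.inf_relIndex_right]
        exact hΩ.trans (dvd_mul_left _ _)
      have h3 : Nat.card C * C.relIndex (Cfsg.spGL d F) = Nat.card (Cfsg.spGL d F) := by
        rw [← Subgroup.relIndex_bot_left C, ← Subgroup.relIndex_bot_left (Cfsg.spGL d F),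
          Subgroup.relIndex_mul_relIndex _ _ _ bot_le hCS]
      rw [← Nat.card_congr (Cfsg.Agent.Lib.Classical.spEquivGL d F).toEquiv, Cfsg.Agent.Lib.Classical.card_sp, hC] at h3
      have hsplit : ∏ i ∈ Finset.range d, (q ^ (2 * (i + 1)) - 1) =
          (∏ j ∈ Finset.range m, ((q ^ k) ^ (2 * (j + 1)) - 1)) *
            ∏ i ∈ (Finset.range d).filter (fun i => ¬ k ∣ i + 1), (q ^ (2 * (i + 1)) - 1) := by
        rw [← Finset.prod_filter_mul_prod_filter_not (Finset.range d) (fun i => k ∣ i + 1)]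
        congr 1
        symm
        refine Finset.prod_nbij (fun j => k * (j + 1) - 1) (fun j hj => ?_) (fun j _ j' _ hjj => ?_) (fun i hi => ?_) fun j _ => ?_
        · have hpos : 1 ≤ k * (j + 1) := Nat.mul_pos (by omega) (by omega)
          have hle : k * (j + 1) ≤ d := hdm ▸ Nat.mul_le_mul_left k (Finset.mem_range.1 hj)
          rw [Finset.mem_filter, Finset.mem_range]
          exact ⟨by omega, by rw [Nat.sub_add_cancel hpos]; exact dvd_mul_right _ _⟩
        · have h5 : 1 ≤ k * (j + 1) := Nat.mul_pos (by omega) (by omega)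
          have h6 : 1 ≤ k * (j' + 1) := Nat.mul_pos (by omega) (by omega)
          have h7 : k * (j + 1) = k * (j' + 1) := by simp only at hjj; omega
          have := Nat.eq_of_mul_eq_mul_left (by omega : 0 < k) h7
          omega
        · simp only [Finset.coe_filter, Finset.mem_range, Set.mem_setOf_eq] at hi
          obtain ⟨hid, j, hj⟩ := hi
          rcases Nat.eq_zero_or_pos j with rfl | hj0
          · rw [mul_zero] at hj; omega
          refine ⟨j - 1, Finset.mem_coe.2 (Finset.mem_range.2 ?_), by simp only; rw [Nat.sub_add_cancel hj0]; omega⟩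
          have : k * j ≤ k * m := by omega
          have := Nat.le_of_mul_le_mul_left this (by omega)
          omega
        · have hpos : 1 ≤ k * (j + 1) := Nat.mul_pos (by omega) (by omega)
          rw [Nat.sub_add_cancel hpos, ← pow_mul, mul_left_comm]
      rw [hsplit, ← pow_mul] at h3
      have hexp : k * m ^ 2 ≤ d ^ 2 := by
        rw [hdm, mul_pow]
        exact Nat.mul_le_mul_right _ (Nat.le_self_pow two_ne_zero k)
      rw [← Nat.add_sub_cancel' hexp, pow_add] at h3
      have hq1 : 1 < q := Fintype.one_lt_card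
      have hP : 0 < ∏ j ∈ Finset.range m, ((q ^ k) ^ (2 * (j + 1)) - 1) := Finset.prod_pos fun j _ => by
        have : 1 < (q ^ k) ^ (2 * (j + 1)) := Nat.one_lt_pow (by omega) (Nat.one_lt_pow (by omega) hq1)
        omega
      have h4 : C.relIndex (Cfsg.spGL d F) = q ^ (d ^ 2 - k * m ^ 2) *
          ∏ i ∈ (Finset.range d).filter (fun i => ¬ k ∣ i + 1), (q ^ (2 * (i + 1)) - 1) := by
        refine Nat.eq_of_mul_eq_mul_left (Nat.mul_pos (pow_pos (by omega : 0 < q) (k * m ^ 2)) hP) ?_
        rw [h3]; ring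
      rw [h4] at h1
      rcases (Nat.Prime.dvd_mul hr).1 h1 with h5 | h5
      · obtain ⟨⟨n, hn⟩, -, hcard⟩ := FiniteField.card F p
        simp only [PNat.mk_coe] at hcard
        rw [show q = p ^ n from hcard, ← pow_mul] at h5
        exact hrp ((Nat.prime_dvd_prime_iff_eq hr Fact.out).1 (hr.dvd_of_dvd_pow h5))
      obtain ⟨i, hi, hdv⟩ := (Prime.dvd_finsetProd_iff (Nat.prime_iff.1 hr) _).1 h5
      refine (Finset.mem_filter.1 hi).2 (hstep i ?_)
      rw [← hc, orderOf_dvd_iff_pow_eq_one]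
      rwa [← ZMod.natCast_eq_zero_iff, Nat.cast_sub (Nat.one_le_pow _ _ (by omega : 0 < q)), Nat.cast_pow, Nat.cast_one,
        sub_eq_zero] at hdv
  · rintro ⟨rfl, rfl, rfl, hodd⟩ x hxS ⟨z, hz⟩ hns
    rw [Units.val_pow_eq_pow_val] at hz
    refine good_involution ?_ hK hKf hKalt hxS hz hns
    intro h2
    haveI : CharP F 2 := CharTwo.of_one_ne_zero_of_two_eq_zero one_ne_zero h2
    have := FiniteField.even_card_of_char_two (F := F) ((ringChar.eq F 2).symm ▸ rfl)
    exact absurd hodd (Nat.not_odd_iff_even.2 (Nat.even_iff.2 this))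

end Cfsg.Agent.S5975
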