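import Cfsg.Statements.S5976
import Cfsg.Agent.S5980
import Cfsg.Agent.Lib.MaxSub.QuadField
import Cfsg.Agent.Lib.Classical.HermCard
import Mathlib

set_option autoImplicit false
set_option maxHeartbeats 1000000
-- import your own Cfsg.Agent.* helpers here

open scoped MatrixGroups
open Cfsg

namespace Cfsg.Agent.S5976

open Module Polynomial Cfsg.Agent.Lib.MaxSub Matrix

variable {F : Type*} [Field F] {d : ℕ}

local notation "V" => (Fin d ⊕ Fin d → F)
local notation "M" => Matrix (Fin d ⊕ Fin d) (Fin d ⊕ Fin d) F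

/-- A skew generator of the quadratic algebra. -/
theorem exists_gen (hd : 0 < d) (h2 : (2 : F) ≠ 0) {K : Subalgebra F M} (hK : Cfsg.Geo.IsFieldSubalgebra 2 K)
    (hKf : Cfsg.Geo.IsAdjointClosedFor (Cfsg.sympForm d F) K) (hKns : ¬ Cfsg.Geo.IsSelfAdjointFor (Cfsg.sympForm d F) K) :
    ∃ (Ω : M) (t : F), Ω * Ω = t • 1 ∧ ¬ IsSquare t ∧
      (∀ u v, (stdAlt d F).B (Ω *ᵥ u) v = -(stdAlt d F).B u (Ω *ᵥ v)) ∧
      (∀ k, k ∈ K ↔ ∃ a b : F, k = a • 1 + b • Ω) := by
  classical
  set f := stdAlt d F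
  have hne : Nonempty (Fin d ⊕ Fin d) := ⟨Sum.inl ⟨0, hd⟩⟩
  obtain ⟨k, hk, hks⟩ : ∃ k ∈ K, ¬ ∀ u v, Cfsg.sympForm d F (k *ᵥ u) v = Cfsg.sympForm d F u (k *ᵥ v) := by
    by_contra hne'
    push Not at hne'
    exact hKns hne'
  obtain ⟨k', hk', hkk⟩ := hKf k hk
  have hkk' : ∀ u v, f.B (k *ᵥ u) v = f.B u (k' *ᵥ v) := fun u v => by rw [stdAlt_apply, stdAlt_apply]; exact hkk u v
  set Ω := k - k' with hΩd
  have hΩK : Ω ∈ K := K.sub_mem hk hk'
  have hskew : ∀ u v, f.B (Ω *ᵥ u) v = -f.B u (Ω *ᵥ v) := fun u v => by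
    have e : f.B (k' *ᵥ u) v = f.B u (k *ᵥ v) := by rw [f.skew, ← hkk', f.skew (k *ᵥ v) u, neg_neg]
    rw [hΩd, Matrix.sub_mulVec, Matrix.sub_mulVec, map_sub, LinearMap.sub_apply, hkk', e, map_sub, neg_sub]
  have hΩ0 : Ω ≠ 0 := fun e => hks fun u v => by rw [hkk, sub_eq_zero.1 (show k - k' = 0 from e)]
  clear_value Ω
  have hns : ∀ a : F, Ω ≠ a • 1 := by
    intro a ha
    apply hΩ0
    have h0 : ∀ u v, a * f.B u v = 0 := fun u v => by
      have h := hskew u v
      rw [ha, Matrix.smul_mulVec, Matrix.one_mulVec, Matrix.smul_mulVec, Matrix.one_mulVec, map_smul, map_smul,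
        LinearMap.smul_apply, smul_eq_mul] at h
      exact (mul_eq_zero.1 (show (2 : F) * (a * f.B u v) = 0 by linear_combination h)).resolve_left h2
    rcases eq_or_ne a 0 with rfl | ha0
    · rw [ha, zero_smul]
    · exfalso
      exact (by simp : (Pi.single (Classical.arbitrary (Fin d ⊕ Fin d)) 1 : V) ≠ 0)
        (f.nondeg _ fun u => (mul_eq_zero.1 (h0 u _)).resolve_left ha0)
  have h1 : (1 : M) ≠ 0 := one_ne_zero
  have hli : LinearIndependent F ![(1 : M), Ω] := by
    rw [LinearIndependent.pair_iff]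
    intro a b h
    by_cases hb : b = 0
    · subst hb
      rw [zero_smul, add_zero] at h
      exact ⟨(smul_eq_zero.1 h).resolve_right h1, rfl⟩
    · exfalso
      apply hns (-a / b)
      rw [eq_comm, div_eq_mul_inv, mul_comm, mul_smul, inv_smul_eq_iff₀ hb, neg_smul, neg_eq_iff_add_eq_zero, h]
  have hspan : Submodule.span F (Set.range ![(1 : M), Ω]) = Subalgebra.toSubmodule K := by
    have : FiniteDimensional F (Subalgebra.toSubmodule K) := inferInstance
    refine Submodule.eq_of_le_of_finrank_eq (Submodule.span_le.2 ?_) ?_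
    · rintro _ ⟨i, rfl⟩
      fin_cases i
      · exact K.one_mem
      · exact hΩK
    · rw [finrank_span_eq_card hli, Fintype.card_fin, Subalgebra.finrank_toSubmodule, hK.finrank_eq]
  have hmem : ∀ k, k ∈ K ↔ ∃ a b : F, k = a • 1 + b • Ω := fun k => by
    rw [← Subalgebra.mem_toSubmodule, ← hspan, Submodule.mem_span_range_iff_exists_fun]
    constructor
    · rintro ⟨c, rfl⟩; exact ⟨c 0, c 1, by rw [Fin.sum_univ_two]; rfl⟩
    · rintro ⟨a, b, rfl⟩; exact ⟨![a, b], by rw [Fin.sum_univ_two]; rfl⟩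
  obtain ⟨t, b, hst⟩ := (hmem _).1 (K.mul_mem hΩK hΩK)
  have hb : b = 0 := by
    by_contra hb
    apply hΩ0
    refine Matrix.toLin'.injective (LinearMap.ext fun v => ?_)
    rw [map_zero, LinearMap.zero_apply, Matrix.toLin'_apply]
    refine f.nondeg _ fun u => ?_
    have h3 : ∀ u v, f.B ((Ω * Ω) *ᵥ u) v = f.B u ((Ω * Ω) *ᵥ v) := fun u v => by
      rw [← Matrix.mulVec_mulVec, ← Matrix.mulVec_mulVec, hskew, hskew, neg_neg]
    have h4 := h3 u v
    simp only [hst, Matrix.add_mulVec, Matrix.smul_mulVec, Matrix.one_mulVec, map_add, map_smul, LinearMap.add_apply,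
      LinearMap.smul_apply, smul_eq_mul, hskew] at h4
    exact (mul_eq_zero.1 (show (2 * b) * f.B u (Ω *ᵥ v) = 0 by linear_combination -h4)).resolve_left (mul_ne_zero h2 hb)
  subst hb
  rw [zero_smul, add_zero] at hst
  refine ⟨Ω, t, hst, ?_, hskew, hmem⟩
  rintro ⟨r, rfl⟩
  have hm1 : Ω - r • 1 ∈ K := K.sub_mem hΩK (K.smul_mem K.one_mem r)
  obtain ⟨y, hy, hy'⟩ := hK.inv _ hm1 (sub_ne_zero.2 (hns r))
  apply hns (-r)
  rw [← sub_eq_zero]
  have e : (Ω - r • 1) * (Ω - (-r) • 1) = 0 := by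
    rw [sub_mul, mul_sub, mul_sub, hst]
    simp only [Matrix.mul_smul, Matrix.smul_mul, mul_one, one_mul, smul_smul]
    module
  have h3 : y * ((Ω - r • 1) * (Ω - (-r) • 1)) = 0 := by rw [e, mul_zero]
  rwa [← mul_assoc, hK.comm y hy _ hm1, hy', one_mul] at h3

/-- Membership in the normaliser. -/
theorem mem_normalizer {K : Subalgebra F M} {Ω : M} (hmem : ∀ k, k ∈ K ↔ ∃ a b : F, k = a • 1 + b • Ω)
    {g : GL (Fin d ⊕ Fin d) F} {ε : F} (hε : ε = 1 ∨ ε = -1) (h : (g : M) * Ω = ε • (Ω * (g : M))) :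
    g ∈ Cfsg.Geo.subalgebraNormalizer K := by
  intro k
  have hconj : ∀ a b : F, (g : M) * (a • 1 + b • Ω) * ((g⁻¹ : GL (Fin d ⊕ Fin d) F) : M) = a • 1 + (b * ε) • Ω := by
    intro a b
    rw [mul_add, add_mul, mul_smul_comm, mul_smul_comm, mul_one, smul_mul_assoc, smul_mul_assoc, Units.mul_inv, h,
      smul_mul_assoc, mul_assoc, Units.mul_inv, mul_one, smul_smul]
  constructor
  · intro hk
    obtain ⟨a, b, rfl⟩ := (hmem k).1 hk
    exact (hmem _).2 ⟨a, b * ε, hconj a b⟩
  · intro hk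
    obtain ⟨a, b, hab⟩ := (hmem _).1 hk
    refine (hmem k).2 ⟨a, b * ε, ?_⟩
    have hee : ε * ε = 1 := by rcases hε with rfl | rfl <;> norm_num
    have e := hconj a (b * ε)
    rw [mul_assoc b, hee, mul_one, ← hab] at e
    exact ((Units.mul_right_inj g).1 ((Units.mul_left_inj (g⁻¹)).1 e)).symm

/-- Odd order symplectic elements of the normaliser centralise the field. -/
theorem commute_of_mem (h2 : (2 : F) ≠ 0) {K : Subalgebra F M} {Ω : M} {t : F} (ht : t ≠ 0) (hΩ : Ω * Ω = t • 1)
    (hskew : ∀ u v, (stdAlt d F).B (Ω *ᵥ u) v = -(stdAlt d F).B u (Ω *ᵥ v))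
    (hmem : ∀ k, k ∈ K ↔ ∃ a b : F, k = a • 1 + b • Ω) {r : ℕ} (hr : Odd r) {y : GL (Fin d ⊕ Fin d) F}
    (hy : y ∈ Cfsg.spGL d F) (hyr : (y : M) ^ r = 1) (hyK : y ∈ Cfsg.Geo.subalgebraNormalizer K) :
    (y : M) * Ω = Ω * (y : M) := by
  classical
  set f := stdAlt d F
  have hΩK : Ω ∈ K := (hmem Ω).2 ⟨0, 1, by simp⟩
  obtain ⟨a, b, hab⟩ := (hmem _).1 ((hyK Ω).1 hΩK)
  have hyv : (y : M) * Ω = (a • 1 + b • Ω) * (y : M) := by rw [← hab, Units.inv_mul_cancel_right]
  have hiso : ∀ u v, f.B ((y : M) *ᵥ u) ((y : M) *ᵥ v) = f.B u v := fun u v => by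
    rw [stdAlt_apply, stdAlt_apply]; exact hy u v
  have hsurj : ∀ u, ∃ u', (y : M) *ᵥ u' = u := fun u =>
    ⟨((y⁻¹ : GL (Fin d ⊕ Fin d) F) : M) *ᵥ u, by rw [Matrix.mulVec_mulVec, Units.mul_inv, Matrix.one_mulVec]⟩
  have ha : ∀ u v, a * f.B u v = 0 := by
    intro u v
    obtain ⟨u, rfl⟩ := hsurj u
    obtain ⟨v, rfl⟩ := hsurj v
    have e1 : ∀ w, (a • 1 + b • Ω) *ᵥ ((y : M) *ᵥ w) = (y : M) *ᵥ (Ω *ᵥ w) := fun w => by
      rw [Matrix.mulVec_mulVec, Matrix.mulVec_mulVec, hyv]
    have h3 : f.B ((a • 1 + b • Ω) *ᵥ ((y : M) *ᵥ u)) ((y : M) *ᵥ v) +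
        f.B ((y : M) *ᵥ u) ((a • 1 + b • Ω) *ᵥ ((y : M) *ᵥ v)) = 0 := by
      rw [e1, e1, hiso, hiso, hskew, neg_add_cancel]
    simp only [Matrix.add_mulVec, Matrix.smul_mulVec, Matrix.one_mulVec, map_add, map_smul, LinearMap.add_apply,
      LinearMap.smul_apply, smul_eq_mul, hskew] at h3
    exact (mul_eq_zero.1 (show (2 : F) * (a * f.B ((y : M) *ᵥ u) ((y : M) *ᵥ v)) = 0 by linear_combination h3)).resolve_left h2
  have hyb : (y : M) * Ω = b • (Ω * (y : M)) := by
    rcases eq_or_ne a 0 with rfl | ha0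
    · rw [hyv, zero_smul, zero_add, smul_mul_assoc]
    · rcases isEmpty_or_nonempty (Fin d ⊕ Fin d) with hd | hd
      · exact Subsingleton.elim _ _
      · exfalso
        exact (by simp : (Pi.single (Classical.arbitrary (Fin d ⊕ Fin d)) 1 : V) ≠ 0)
          (f.nondeg _ fun u => (mul_eq_zero.1 (ha u _)).resolve_left ha0)
  rcases isEmpty_or_nonempty (Fin d ⊕ Fin d) with hd | hd
  · exact Subsingleton.elim _ _
  have hbb : b * b = 1 := by
    have h3 : (y : M) * (Ω * Ω) = (b * b) • (Ω * Ω * (y : M)) := by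
      rw [← mul_assoc, hyb, smul_mul_assoc, mul_assoc, hyb, mul_smul_comm, smul_smul, ← mul_assoc]
    rw [hΩ, mul_smul_comm, mul_one, smul_mul_assoc, one_mul, smul_smul] at h3
    have h4 : (t - b * b * t) • (y : M) = 0 := by rw [sub_smul, ← h3, sub_self]
    have h5 := (smul_eq_zero.1 h4).resolve_right (Units.ne_zero y)
    exact mul_right_cancel₀ ht (by linear_combination -h5)
  have hpow : ∀ j : ℕ, (y : M) ^ j * Ω = (b ^ j) • (Ω * (y : M) ^ j) := fun j => by
    induction j with
    | zero => simp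
    | succ j ih => rw [pow_succ, mul_assoc, hyb, mul_smul_comm, ← mul_assoc, ih, smul_mul_assoc, smul_smul, mul_assoc, pow_succ]; ring_nf
  have hbr := hpow r
  rw [hyr, one_mul, mul_one] at hbr
  have hΩ0 : Ω ≠ 0 := fun e => by
    rw [e, mul_zero] at hΩ
    exact ht ((smul_eq_zero.1 hΩ.symm).resolve_right one_ne_zero)
  have hb1 : b ^ r = 1 := by
    have h4 : (b ^ r - 1) • Ω = 0 := by rw [sub_smul, ← hbr, one_smul, sub_self]
    exact sub_eq_zero.1 ((smul_eq_zero.1 h4).resolve_right hΩ0)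
  obtain ⟨j, rfl⟩ := hr
  rw [pow_succ, pow_mul, pow_two, hbb, one_pow, one_mul] at hb1
  rw [hyb, hb1, one_smul]

theorem commute_aeval {Ω Y : M} (h : Y * Ω = Ω * Y) (Q : F[X]) : aeval Y Q * Ω = Ω * aeval Y Q := by
  induction Q using Polynomial.induction_on with
  | C s => rw [aeval_C]; exact Algebra.commutes s Ω
  | add A B hA hB => rw [map_add, add_mul, mul_add, hA, hB]
  | monomial j s ih => rw [pow_succ, ← mul_assoc, map_mul, aeval_X, mul_assoc, h, ← mul_assoc, ih, mul_assoc]

/-- Maps commuting with the field have images of even dimension. -/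
theorem even_rank {Ω X : M} {t : F} (ht : ¬ IsSquare t) (hΩ : Ω * Ω = t • 1) (hX : X * Ω = Ω * X) : Even X.rank := by
  classical
  set W := LinearMap.range X.mulVecLin
  have hW : ∀ w ∈ W, Matrix.toLin' Ω w ∈ W := by
    rintro _ ⟨u, rfl⟩
    exact ⟨Ω *ᵥ u, by simp [Matrix.mulVec_mulVec, hX]⟩
  let Ω' := (Matrix.toLin' Ω).restrict hW
  have h : Ω'.det * Ω'.det = t ^ finrank F W := by
    rw [← map_mul, show Ω' * Ω' = t • (1 : Module.End F W) from LinearMap.ext fun w => Subtype.ext (by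
      simp [Ω', Matrix.mulVec_mulVec, hΩ, Matrix.smul_mulVec, Matrix.one_mulVec]), LinearMap.det_smul, map_one, mul_one]
  rw [← Nat.not_odd_iff_even]
  rintro ⟨j, hj⟩
  change finrank F W = _ at hj
  apply ht
  have ht0 : t ≠ 0 := fun e => ht (e ▸ IsSquare.zero)
  refine ⟨Ω'.det / t ^ j, ?_⟩
  rw [hj] at h
  field_simp
  linear_combination -h

section

variable [Fintype F] {p : ℕ} [Fact p.Prime] [CharP F p] {r : ℕ} [hr : Fact r.Prime]

theorem aeval_frob (Q : F[X]) {L : Type*} [CommRing L] [Algebra F L] (α : L) (j : ℕ) :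
    aeval (α ^ (Fintype.card F ^ j)) Q = aeval α Q ^ (Fintype.card F ^ j) := by
  induction j with
  | zero => simp
  | succ j ih =>
    rw [pow_succ, pow_mul, pow_mul, ← ih]
    exact aeval_algHom_apply (FiniteField.frobeniusAlgHom F L) (α ^ (Fintype.card F ^ j)) Q

omit [Fact p.Prime] [CharP F p] hr in
theorem frob_sqrt {t : F} (h2 : (2 : F) ≠ 0) (ht : ¬ IsSquare t) {L : Type*} [CommRing L] [Algebra F L] {β : L}
    (hβ : β * β = algebraMap F L t) : β ^ Fintype.card F = -β := by
  have h2' : ringChar F ≠ 2 := fun e => h2 (by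
    have : CharP F 2 := e ▸ ringChar.charP F
    exact CharTwo.two_eq_zero)
  have ht0 : t ≠ 0 := fun e => ht (e ▸ IsSquare.zero)
  have hh : t ^ (Fintype.card F / 2) = -1 :=
    (FiniteField.pow_dichotomy h2' ht0).resolve_left fun e => ht ((FiniteField.isSquare_iff h2' ht0).2 e)
  conv_lhs => rw [show Fintype.card F = 2 * (Fintype.card F / 2) + 1 by
    have := FiniteField.odd_card_of_char_ne_two h2'; omega]
  rw [pow_succ, pow_mul, pow_two, hβ, ← map_pow, hh, map_neg, map_one, neg_one_mul]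

/-- Elements acting irreducibly on a space whose dimension is divisible by four are not unitary. -/
theorem not_commute (h2 : (2 : F) ≠ 0) (hrp : r ≠ p) {c e : ℕ}
    (hc : orderOf ((Fintype.card F : ℕ) : ZMod r) = c) (hce : c = e + e) (he : Even e)
    {y : GL (Fin d ⊕ Fin d) F} (hy : y ∈ Cfsg.spGL d F) (hyr : (y : M) ^ r = 1) (hrk : ((y : M) - 1).rank = c)
    {Ω : M} {t : F} (ht : ¬ IsSquare t) (hΩ : Ω * Ω = t • 1)
    (hskew : ∀ u v, (stdAlt d F).B (Ω *ᵥ u) v = -(stdAlt d F).B u (Ω *ᵥ v)) :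
    (y : M) * Ω ≠ Ω * (y : M) := by
  classical
  intro hcomm
  have hc0 : 0 < c := hc ▸ PrimeElemFlags.order_pos rfl hrp
  set f := stdAlt d F
  set Y := Matrix.toLin' (y : M)
  set O := Matrix.toLin' Ω
  have hiso : ∀ u v, f.B (Y u) (Y v) = f.B u v := fun u v => by
    rw [stdAlt_apply, stdAlt_apply, Matrix.toLin'_apply, Matrix.toLin'_apply]; exact hy u v
  have hYr : Y ^ r = 1 := SympPrimeElem.pow_toLin hyr
  have hOY : O * Y = Y * O := by
    rw [Module.End.mul_eq_comp, Module.End.mul_eq_comp, ← Matrix.toLin'_mul, ← Matrix.toLin'_mul, hcomm]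
  have hco : ∀ Q : F[X], O * aeval Y Q = aeval Y Q * O := fun Q => by
    induction Q using Polynomial.induction_on with
    | C s => rw [aeval_C]; exact (Algebra.commutes s O).symm
    | add A B hA hB => rw [map_add, mul_add, add_mul, hA, hB]
    | monomial j s ih => rw [pow_succ, ← mul_assoc, map_mul, aeval_X, ← mul_assoc, ih, mul_assoc, hOY, mul_assoc]
  set W := LinearMap.range (Y - 1)
  have hW : finrank F W = c := by
    rw [← hrk]
    show _ = finrank F (LinearMap.range (Matrix.mulVecLin ((y : M) - 1)))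
    rw [← Matrix.toLin'_apply', map_sub, Matrix.toLin'_one]
    rfl
  have hcyc : ∀ u ∈ W, aeval Y (cyclotomic r F) u = 0 := by
    rintro _ ⟨u, rfl⟩
    have h := LinearMap.congr_fun (congrArg (aeval Y) (cyclotomic_prime_mul_X_sub_one F r)) u
    rw [map_mul, Module.End.mul_apply, map_sub, map_sub, aeval_X, map_one, map_pow, aeval_X, hYr, sub_self] at h
    exact h
  obtain ⟨u, huW, hu0⟩ : ∃ u ∈ W, u ≠ 0 :=
    (Submodule.ne_bot_iff W).1 fun e => by rw [e, finrank_bot] at hW; omega
  have hcop : ∀ h : F[X], h ≠ 0 → h.natDegree < c → aeval Y h u = 0 → False := by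
    intro h hh0 hdeg h0
    obtain ⟨a, b, hab⟩ := isCoprime_of_prime_dvd (x := h) (y := cyclotomic r F) (fun e => hh0 e.1) fun g hg h1 h2 => by
      have h3 := natDegree_le_of_dvd h1 hh0
      rw [PrimeElemFlags.deg_eq rfl hrp g hg.irreducible h2, hc] at h3
      omega
    have h4 := LinearMap.congr_fun (congrArg (aeval Y) hab) u
    rw [map_add, LinearMap.add_apply, map_mul, map_mul, Module.End.mul_apply, Module.End.mul_apply, h0, hcyc u huW,
      map_zero, map_zero, add_zero, map_one] at h4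
    exact hu0 h4.symm
  have hYW : ∀ w ∈ W, Y w ∈ W := by
    rintro _ ⟨w, rfl⟩
    exact ⟨Y w, by simp [Module.End.one_apply]⟩
  have hpowW : ∀ j : ℕ, (Y ^ j) u ∈ W := fun j => by
    induction j with
    | zero => exact huW
    | succ j ih => rw [pow_succ', Module.End.mul_apply]; exact hYW _ ih
  let vj : Fin c → W := fun j => ⟨(Y ^ (j : ℕ)) u, hpowW j⟩
  have hli : LinearIndependent F vj := by
    rw [Fintype.linearIndependent_iff]
    intro l hl
    by_contra hne
    push Not at hne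
    obtain ⟨j, hj⟩ := hne
    set h : F[X] := ∑ j : Fin c, Polynomial.C (l j) * X ^ (j : ℕ) with hh
    have hcoef : ∀ j : Fin c, h.coeff (j : ℕ) = l j := fun j => by
      simp [hh, Polynomial.finset_sum_coeff, coeff_X_pow, Fin.val_inj]
    refine hcop h (fun e => hj (by rw [← hcoef, e, coeff_zero])) ?_ ?_
    · refine lt_of_le_of_lt (natDegree_le_iff_coeff_eq_zero.2 fun m hm => ?_) (show c - 1 < c by omega)
      simp [hh, Polynomial.finset_sum_coeff, coeff_X_pow]
      exact Finset.sum_eq_zero fun i _ => if_neg (by have := i.2; omega)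
    · rw [hh, map_sum, LinearMap.sum_apply]
      have := congrArg Subtype.val hl
      simpa [vj, Algebra.algebraMap_eq_smul_one] using this
  have hspan : ⊤ ≤ Submodule.span F (Set.range vj) := by
    rw [Submodule.eq_top_of_finrank_eq ((finrank_span_eq_card hli).trans ((Fintype.card_fin c).trans hW.symm))]
  have hpoly : ∀ w ∈ W, ∃ h : F[X], h.degree < c ∧ aeval Y h u = w := by
    intro w hw
    obtain ⟨l, hl⟩ := (Submodule.mem_span_range_iff_exists_fun F).1 (hspan (Submodule.mem_top (x := (⟨w, hw⟩ : W))))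
    refine ⟨∑ j : Fin c, Polynomial.C (l j) * X ^ (j : ℕ), degree_sum_fin_lt l, ?_⟩
    rw [map_sum, LinearMap.sum_apply]
    simpa [vj, Algebra.algebraMap_eq_smul_one] using congrArg Subtype.val hl
  obtain ⟨h0, hdeg0, hh0⟩ := hpoly _ (hpowW c)
  set g : F[X] := X ^ c - h0 with hg
  have hgm : g.Monic := monic_X_pow_sub hdeg0
  have hgd : g.natDegree = c := natDegree_eq_of_degree_eq_some (by
    rw [hg, degree_sub_eq_left_of_degree_lt (by rwa [degree_X_pow]), degree_X_pow])
  have hgu : aeval Y g u = 0 := by rw [hg, map_sub, map_pow, aeval_X, LinearMap.sub_apply, hh0, sub_self]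
  have hdvd : ∀ Q : F[X], aeval Y Q u = 0 → g ∣ Q := by
    intro Q hQ
    rw [← modByMonic_eq_zero_iff_dvd hgm]
    by_contra hne
    refine hcop _ hne ?_ ?_
    · refine lt_of_lt_of_eq (natDegree_modByMonic_lt Q hgm fun e => ?_) hgd
      rw [e, natDegree_one] at hgd
      omega
    · have e := modByMonic_add_div Q g
      have h4 := LinearMap.congr_fun (congrArg (aeval Y) e) u
      rw [map_add, LinearMap.add_apply, mul_comm, map_mul, Module.End.mul_apply, hgu, map_zero, add_zero, hQ] at h4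
      exact h4
  have hgc : g ∣ cyclotomic r F := hdvd _ (hcyc u huW)
  obtain ⟨g1, hg1, hg1d⟩ := WfDvdMonoid.exists_irreducible_factor (a := g)
    (not_isUnit_of_natDegree_pos g (by omega)) hgm.ne_zero
  have hirr : Irreducible g := by
    have e := (PrimeElemFlags.deg_eq rfl hrp g1 hg1 (hg1d.trans hgc)).trans hc
    exact (associated_of_dvd_of_natDegree_le hg1d hgm.ne_zero (by omega)).irreducible hg1
  have hOW : O u ∈ W := by
    obtain ⟨w, hw⟩ := huW
    refine ⟨O w, ?_⟩
    have e := LinearMap.congr_fun (hco (X - 1)) w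
    simp only [map_sub, aeval_X, map_one, Module.End.mul_apply] at e
    rw [← e, hw]
  obtain ⟨h, -, hh⟩ := hpoly _ hOW
  have hOu : ∀ Q : F[X], O (aeval Y Q u) = aeval Y (Q * h) u := fun Q => by
    rw [map_mul, Module.End.mul_apply, hh, ← Module.End.mul_apply, hco, Module.End.mul_apply]
  have hsq : g ∣ h * h - Polynomial.C t := by
    refine hdvd _ ?_
    rw [map_sub, LinearMap.sub_apply, ← hOu h, hh, aeval_C, Module.algebraMap_end_apply, Matrix.toLin'_apply,
      Matrix.toLin'_apply, Matrix.mulVec_mulVec, hΩ, Matrix.smul_mulVec, Matrix.one_mulVec, sub_self]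
  have hadj1 : ∀ (j : ℕ) a b, f.B ((Y ^ j) a) ((Y ^ j) b) = f.B a b := fun j => by
    induction j with
    | zero => exact fun a b => rfl
    | succ j ih => intro a b; rw [pow_succ, Module.End.mul_apply, Module.End.mul_apply, ih, hiso]
  have hadj : ∀ (Q : F[X]) a b, f.B (aeval Y Q a) b = f.B a (aeval Y (Q.comp (X ^ (r - 1))) b) := by
    intro Q
    induction Q using Polynomial.induction_on with
    | C s => intro a b; simp [Module.algebraMap_end_apply]
    | add A B hA hB => intro a b; rw [add_comp, map_add, map_add, LinearMap.add_apply, LinearMap.add_apply, map_add,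
        LinearMap.add_apply, map_add, hA, hB]
    | monomial j s ih =>
      intro a b
      rw [pow_succ, ← mul_assoc, mul_comp (q := X), X_comp, map_mul, Module.End.mul_apply, aeval_X, ih, mul_comm _ (X ^ (r - 1)),
        map_mul, map_pow, aeval_X, Module.End.mul_apply, ← hiso a]
      congr 1
      rw [← Module.End.mul_apply, ← pow_succ', Nat.sub_add_cancel hr.out.one_lt.le, hYr, Module.End.one_apply]
  have hsum : g ∣ h + h.comp (X ^ (r - 1)) := by
    refine hdvd _ ?_
    set z := aeval Y (h + h.comp (X ^ (r - 1))) u with hz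
    have hzW : ∀ w ∈ W, f.B w z = 0 := by
      intro w hw
      obtain ⟨Q, -, rfl⟩ := hpoly w hw
      have h5 : f.B (O (aeval Y Q u)) u = -f.B (aeval Y Q u) (O u) := by
        rw [Matrix.toLin'_apply, Matrix.toLin'_apply]; exact hskew _ _
      rw [hOu, mul_comm, map_mul, Module.End.mul_apply, hadj h, ← hh] at h5
      rw [hz, map_add, LinearMap.add_apply, map_add]
      linear_combination h5
    have hzW' : z ∈ W := by
      have hmem : ∀ Q : F[X], aeval Y Q u ∈ W := fun Q => PrimeElem.aeval_mem Y (Submodule.map_le_iff_le_comap.2 hYW) Q huW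
      exact hmem _
    have hyker : ∀ v : V, Y v = v → ∀ w ∈ W, f.B w v = 0 := by
      rintro v hv _ ⟨a, rfl⟩
      rw [LinearMap.sub_apply, Module.End.one_apply, map_sub, LinearMap.sub_apply]
      nth_rw 1 [← hv]
      rw [hiso, sub_self]
    by_contra hz0
    obtain ⟨v, hv⟩ : ∃ v, f.B v z ≠ 0 := by
      by_contra hne
      push Not at hne
      exact hz0 (f.nondeg z hne)
    apply hv
    have hr0 : (r : F) ≠ 0 := PrimeElemFlags.cast_ne_zero hrp
    obtain ⟨a, b, hab⟩ : IsCoprime (X - 1) (cyclotomic r F) := by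
      rw [← map_one Polynomial.C]
      exact (irreducible_X_sub_C 1).coprime_iff_not_dvd.2 fun h' => by
        rw [dvd_iff_isRoot, IsRoot, eval_one_cyclotomic_prime] at h'
        exact hr0 h'
    have h4 := LinearMap.congr_fun (congrArg (aeval Y) hab) v
    rw [map_one, Module.End.one_apply, map_add, LinearMap.add_apply] at h4
    rw [← h4, map_add, LinearMap.add_apply]
    have hA : aeval Y (a * (X - 1)) v ∈ W :=
      ⟨aeval Y a v, by rw [mul_comm, map_mul, Module.End.mul_apply, map_sub, aeval_X, map_one]⟩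
    have hB : Y (aeval Y (b * cyclotomic r F) v) = aeval Y (b * cyclotomic r F) v := by
      have e : (X - 1) * (b * cyclotomic r F) = b * (X ^ r - 1) := by rw [← cyclotomic_prime_mul_X_sub_one F r]; ring
      have h6 := LinearMap.congr_fun (congrArg (aeval Y) e) v
      simp only [map_mul, map_sub, map_pow, aeval_X, map_one, hYr, sub_self, mul_zero] at h6 ⊢
      rw [Module.End.mul_apply, LinearMap.sub_apply, Module.End.one_apply, LinearMap.zero_apply, sub_eq_zero] at h6
      exact h6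
    rw [hzW _ hA, zero_add, f.skew, hyker _ hB z hzW', neg_zero]
  have : Fact (Irreducible g) := ⟨hirr⟩
  set α : AdjoinRoot g := AdjoinRoot.root g
  set β : AdjoinRoot g := aeval α h with hβd
  have hmk : ∀ Q : F[X], g ∣ Q → aeval α Q = 0 := fun Q hQ => by
    rw [AdjoinRoot.aeval_eq, AdjoinRoot.mk_eq_zero]; exact hQ
  have hβ : β * β = algebraMap F (AdjoinRoot g) t := by
    have h5 := hmk _ hsq
    rw [map_sub, map_mul, aeval_C, sub_eq_zero] at h5
    exact h5
  have hαr : α ^ r = 1 := by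
    have h5 := congrArg (aeval α) (cyclotomic_prime_mul_X_sub_one F r)
    rw [map_mul, hmk _ hgc, zero_mul, map_sub, map_pow, aeval_X, map_one] at h5
    exact sub_eq_zero.1 h5.symm
  have hqe : ((Fintype.card F : ℕ) : ZMod r) ^ e = -1 := by
    have h5 : (((Fintype.card F : ℕ) : ZMod r) ^ e) * (((Fintype.card F : ℕ) : ZMod r) ^ e) = 1 := by
      rw [← pow_add, ← hce, ← hc, pow_orderOf_eq_one]
    refine (mul_self_eq_one_iff.1 h5).resolve_left fun h6 => ?_
    have := Nat.le_of_dvd (by omega : 0 < e) (hc ▸ orderOf_dvd_of_pow_eq_one h6)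
    omega
  have hαe : α ^ (Fintype.card F ^ e) = α ^ (r - 1) := by
    have hmod : Fintype.card F ^ e % r = (r - 1) % r := by
      refine (ZMod.natCast_eq_natCast_iff' _ _ _).1 ?_
      rw [Nat.cast_pow, hqe, Nat.cast_sub hr.out.one_lt.le, ZMod.natCast_self, Nat.cast_one, zero_sub]
    rw [← Nat.mod_add_div (Fintype.card F ^ e) r, hmod, Nat.mod_eq_of_lt (show r - 1 < r by have := hr.out.one_lt; omega), pow_add, pow_mul, hαr,
      one_pow, mul_one]
  have hfix : β ^ (Fintype.card F ^ e) = β := by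
    obtain ⟨k, rfl⟩ := he
    clear hαe hqe hce
    induction k with
    | zero => simp
    | succ k ih => rw [show k + 1 + (k + 1) = k + k + 1 + 1 by omega, pow_succ, pow_mul, pow_succ, pow_mul, ih,
        frob_sqrt h2 ht hβ, ← neg_one_mul, mul_pow, frob_sqrt h2 ht hβ,
        Odd.neg_one_pow (Nat.odd_iff.2 (FiniteField.odd_card_of_char_ne_two fun e => h2 (by
          have : CharP F 2 := e ▸ ringChar.charP F
          exact CharTwo.two_eq_zero)))]; simp
  have hfin : β + β = 0 := by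
    have h5 := hmk _ hsum
    rw [map_add, aeval_comp, map_pow, aeval_X, ← hαe, aeval_frob, hfix] at h5
    exact h5
  have hβ0 : β = 0 := by
    rw [← two_mul] at hfin
    refine (mul_eq_zero.1 hfin).resolve_left ?_
    rw [← map_ofNat (algebraMap F (AdjoinRoot g)) 2]
    exact fun e => h2 ((map_eq_zero _).1 e)
  rw [hβ0, mul_zero, eq_comm, map_eq_zero] at hβ
  exact ht (hβ ▸ IsSquare.zero)

/-- The order of the centraliser of the field. -/
theorem card_centralizer (hd : 0 < d) (h2 : (2 : F) ≠ 0) {Ω : M} {t : F} (ht : ¬ IsSquare t) (hΩ : Ω * Ω = t • 1)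
    (hskew : ∀ u v, (stdAlt d F).B (Ω *ᵥ u) v = -(stdAlt d F).B u (Ω *ᵥ v)) :
    ∃ C : Subgroup (GL (Fin d ⊕ Fin d) F), C ≤ Cfsg.spGL d F ∧ (∀ g ∈ C, (g : M) * Ω = Ω * (g : M)) ∧
      Nat.card C = Fintype.card F ^ (d * (d - 1) / 2) * ∏ i ∈ Finset.range d,
        (if Even i then Fintype.card F ^ (i + 1) + 1 else Fintype.card F ^ (i + 1) - 1) := by
  classical
  set f := stdAlt d F
  set O := Matrix.toLin' Ω
  have ht0 : t ≠ 0 := fun e => ht (e ▸ IsSquare.zero)
  let Ωu : GL (Fin d ⊕ Fin d) F := ⟨Ω, t⁻¹ • Ω, by rw [mul_smul_comm, hΩ, inv_smul_smul₀ ht0],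
    by rw [smul_mul_assoc, hΩ, inv_smul_smul₀ ht0]⟩
  let C := Cfsg.spGL d F ⊓ Subgroup.centralizer {Ωu}
  have hCmem : ∀ g, g ∈ C ↔ g ∈ Cfsg.spGL d F ∧ (g : M) * Ω = Ω * (g : M) := fun g => by
    rw [Subgroup.mem_inf, Subgroup.mem_centralizer_singleton_iff, Units.ext_iff, Units.val_mul, Units.val_mul]
  refine ⟨C, inf_le_left, fun g hg => ((hCmem g).1 hg).2, ?_⟩
  have hO : ∀ v, O (O v) = t • v := fun v => by
    rw [Matrix.toLin'_apply, Matrix.toLin'_apply, Matrix.mulVec_mulVec, hΩ, Matrix.smul_mulVec, Matrix.one_mulVec]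
  have hsO : ∀ u v, f.B (O u) v = -f.B u (O v) := fun u v => by
    rw [Matrix.toLin'_apply, Matrix.toLin'_apply]; exact hskew u v
  have hcard : Fintype.card (Fin d ⊕ Fin d) = 2 * d := by simp [two_mul]
  obtain ⟨w, hw⟩ := SympInvolConj.exists_frame f h2 ht0 hO hsO d hcard.ge
  let S := {u : Fin d → V // ∀ i j, f.B (u i) (u j) = 0 ∧ f.B (u i) (O (u j)) = if i = j then 1 else 0}
  obtain ⟨hli, hspan⟩ := SympInvolConj.frame_span f hcard hsO hw
  let b := Basis.mk hli hspan.ge
  have hb : ∀ a, b a = Sum.elim w (fun i => O (w i)) a := fun a => Basis.mk_apply _ _ a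
  let toS : C → S := fun g => ⟨fun i => Matrix.toLin' (g.1 : M) (w i), fun i j => by
    have h1 := ((hCmem g.1).1 g.2)
    have hiso : ∀ u v, f.B (Matrix.toLin' (g.1 : M) u) (Matrix.toLin' (g.1 : M) v) = f.B u v := fun u v => by
      rw [stdAlt_apply, stdAlt_apply, Matrix.toLin'_apply, Matrix.toLin'_apply]; exact h1.1 u v
    refine ⟨by rw [hiso]; exact (hw i j).1, ?_⟩
    have e : O (Matrix.toLin' (g.1 : M) (w j)) = Matrix.toLin' (g.1 : M) (O (w j)) := by
      simp only [O, Matrix.toLin'_apply, Matrix.mulVec_mulVec, h1.2]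
    rw [e, hiso]; exact (hw i j).2⟩
  have hbij : Function.Bijective toS := by
    constructor
    · intro g g' h
      have h' : ∀ i, Matrix.toLin' (g.1 : M) (w i) = Matrix.toLin' (g'.1 : M) (w i) := fun i => congrFun (congrArg Subtype.val h) i
      refine Subtype.ext (Units.ext (Matrix.toLin'.injective (b.ext fun a => ?_)))
      rw [hb]
      rcases a with i | i
      · exact h' i
      · have e : ∀ g : C, Matrix.toLin' (g.1 : M) (O (w i)) = O (Matrix.toLin' (g.1 : M) (w i)) := fun g => by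
          simp only [O, Matrix.toLin'_apply, Matrix.mulVec_mulVec, ((hCmem g.1).1 g.2).2]
        simp only [Sum.elim_inr]
        rw [e, e, h']
    · rintro ⟨u, hu⟩
      obtain ⟨g, hg, hgO, hgw⟩ := SympInvolConj.exists_map_frames f hcard hO hO hsO hsO hu hw
      have hG : LinearMap.toMatrix' g ∈ Matrix.symplecticGroup (Fin d) F := by
        rw [Cfsg.Agent.Lib.Geometry.mem_symplecticGroup_iff_form]
        intro u v
        rw [← stdAlt_apply, ← stdAlt_apply, ← Matrix.toLin'_apply, ← Matrix.toLin'_apply, Matrix.toLin'_toMatrix']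
        exact hg u v
      obtain ⟨G, hGs, hGM⟩ := SympPrimeElem.exists_gl_of_mem hG
      refine ⟨⟨G, (hCmem G).2 ⟨hGs, Matrix.toLin'.injective ?_⟩⟩, Subtype.ext (funext fun i => ?_)⟩
      · rw [Matrix.toLin'_mul, Matrix.toLin'_mul, hGM, Matrix.toLin'_toMatrix']
        exact LinearMap.ext fun v => hgO v
      · show Matrix.toLin' (G : M) (w i) = u i
        rw [hGM, Matrix.toLin'_toMatrix', hgw]
  rw [Nat.card_eq_of_bijective toS hbij]
  -- the coordinates over the quadratic extension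
  have hirr : Irreducible (X ^ 2 - Polynomial.C t) :=
    X_pow_sub_C_irreducible_of_prime Nat.prime_two fun s hs => ht ⟨s, by rw [← hs, pow_two]⟩
  have : Fact (Irreducible (X ^ 2 - Polynomial.C t)) := ⟨hirr⟩
  let L := AdjoinRoot (X ^ 2 - Polynomial.C t)
  let θ : L := AdjoinRoot.root _
  have hθ : θ * θ = algebraMap F L t := by
    have := AdjoinRoot.eval₂_root (X ^ 2 - Polynomial.C t)
    rw [eval₂_sub, eval₂_X_pow, eval₂_C, sub_eq_zero] at this
    rw [← pow_two]
    exact this
  have hm : (X ^ 2 - Polynomial.C t).Monic := monic_X_pow_sub_C t two_ne_zero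
  have := hm.finite_adjoinRoot
  have : Finite L := Module.finite_of_finite F
  let _ : Fintype L := Fintype.ofFinite L
  have hfr : finrank F L = 2 := by
    rw [(AdjoinRoot.powerBasis hm.ne_zero).finrank, AdjoinRoot.powerBasis_dim, natDegree_X_pow_sub_C]
  have hL : Fintype.card L = Fintype.card F ^ 2 := by rw [Module.card_eq_pow_finrank (K := F), hfr]
  let mkL : F × F → L := fun x => algebraMap F L x.1 + algebraMap F L x.2 * θ
  have hmk0 : ∀ a c : F, mkL (a, c) = 0 → a = 0 ∧ c = 0 := by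
    intro a c h
    have h' : algebraMap F L a + algebraMap F L c * θ = 0 := h
    rcases eq_or_ne c 0 with rfl | hc
    · rw [map_zero, zero_mul, add_zero, map_eq_zero] at h'
      exact ⟨h', rfl⟩
    · exfalso
      apply ht
      refine ⟨-a / c, ?_⟩
      have h3 : algebraMap F L (c * c * t) = algebraMap F L (a * a) := by
        rw [map_mul, map_mul, map_mul, ← hθ]
        linear_combination (algebraMap F L c * θ - algebraMap F L a) * h'
      have h4 := (algebraMap F L).injective h3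
      field_simp
      linear_combination h4
  have hmkbij : Function.Bijective mkL := by
    rw [Fintype.bijective_iff_injective_and_card]
    refine ⟨fun x x' h => ?_, by rw [Fintype.card_prod, hL, pow_two]⟩
    obtain ⟨h3, h4⟩ := hmk0 (x.1 - x'.1) (x.2 - x'.2) (by
      simp only [mkL] at h ⊢
      rw [map_sub, map_sub]
      linear_combination h)
    exact Prod.ext (sub_eq_zero.1 h3) (sub_eq_zero.1 h4)
  let cv : (Fin d → L) ≃ V :=
    ((Equiv.piCongrRight fun _ => (Equiv.ofBijective mkL hmkbij).symm).trans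
      ((Equiv.arrowProdEquivProdArrow (Fin d) (fun _ => F) (fun _ => F)).trans (Equiv.sumArrowEquivProdArrow (Fin d) (Fin d) F).symm)).trans
      b.equivFun.symm.toEquiv
  have hcv : ∀ ac : Fin d → F × F, cv (fun i => mkL (ac i)) =
      ∑ i, ((ac i).1 • w i + (ac i).2 • O (w i)) := by
    intro ac
    simp only [cv, Equiv.trans_apply, LinearEquiv.coe_toEquiv, Basis.equivFun_symm_apply, Fintype.sum_sum_type, hb,
      Sum.elim_inl, Sum.elim_inr, Finset.sum_add_distrib]
    simp [Equiv.arrowProdEquivProdArrow, Equiv.sumArrowEquivProdArrow, Equiv.piCongrRight, Equiv.ofBijective_symm_apply_apply]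
  have hw' : ∀ i j, f.B (O (w i)) (w j) = if i = j then -1 else 0 := fun i j => by
    rw [hsO, (hw i j).2]; split_ifs <;> simp
  have hw'' : ∀ i j, f.B (O (w i)) (O (w j)) = 0 := fun i j => by
    rw [hsO, hO, map_smul, (hw i j).1]; simp
  have hkey : ∀ ac ac' : Fin d → F × F,
      Cfsg.hermForm d L (Fintype.card F) (fun i => mkL (ac i)) (fun i => mkL (ac' i)) =
        mkL (f.B (cv fun i => mkL (ac i)) (O (cv fun i => mkL (ac' i))), -f.B (cv fun i => mkL (ac i)) (cv fun i => mkL (ac' i))) := by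
    intro ac ac'
    have e1 : f.B (cv fun i => mkL (ac i)) (O (cv fun i => mkL (ac' i))) = ∑ i, ((ac i).1 * (ac' i).1 - t * (ac i).2 * (ac' i).2) := by
      rw [hcv, hcv]
      simp [map_sum, map_add, map_smul, LinearMap.sum_apply, Finset.sum_add_distrib, hO, (hw _ _).1, (hw _ _).2, hw', hw'',
        Finset.sum_sub_distrib, mul_assoc, mul_comm, mul_left_comm]
      ring
    have e2 : f.B (cv fun i => mkL (ac i)) (cv fun i => mkL (ac' i)) = ∑ i, ((ac i).1 * (ac' i).2 - (ac i).2 * (ac' i).1) := by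
      rw [hcv, hcv]
      simp [map_sum, map_add, map_smul, LinearMap.sum_apply, Finset.sum_add_distrib, (hw _ _).1, (hw _ _).2, hw', hw'',
        Finset.sum_sub_distrib, mul_assoc, mul_comm, mul_left_comm]
      ring
    rw [e1, e2]
    simp only [mkL, Cfsg.hermForm, map_sum, ← Finset.sum_neg_distrib, Finset.sum_mul, ← Finset.sum_add_distrib]
    refine Finset.sum_congr rfl fun i _ => ?_
    have hpow : (algebraMap F L (ac' i).1 + algebraMap F L (ac' i).2 * θ) ^ Fintype.card F =
        algebraMap F L (ac' i).1 - algebraMap F L (ac' i).2 * θ := by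
      have h3 := map_add (FiniteField.frobeniusAlgHom F L) (algebraMap F L (ac' i).1) (algebraMap F L (ac' i).2 * θ)
      simp only [FiniteField.coe_frobeniusAlgHom] at h3
      rw [h3, mul_pow, ← map_pow, ← map_pow, FiniteField.pow_card, FiniteField.pow_card, frob_sqrt h2 ht hθ]
      ring
    rw [hpow]
    simp only [map_sub, map_mul, map_neg]
    rw [← hθ]
    ring
  rw [← Cfsg.Agent.Lib.Classical.card_hermFrame_self hL d]
  refine Nat.card_congr (Equiv.symm (Equiv.subtypeEquiv (Equiv.piCongrRight fun _ => cv) fun u => ?_))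
  refine forall_congr' fun i => forall_congr' fun j => ?_
  obtain ⟨ac, hac⟩ : ∃ ac : Fin d → F × F, u i = fun k => mkL (ac k) :=
    ⟨fun k => (Equiv.ofBijective mkL hmkbij).symm (u i k), funext fun k => ((Equiv.ofBijective mkL hmkbij).apply_symm_apply _).symm⟩
  obtain ⟨ac', hac'⟩ : ∃ ac : Fin d → F × F, u j = fun k => mkL (ac k) :=
    ⟨fun k => (Equiv.ofBijective mkL hmkbij).symm (u j k), funext fun k => ((Equiv.ofBijective mkL hmkbij).apply_symm_apply _).symm⟩
  simp only [Equiv.piCongrRight_apply, Pi.map_apply]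
  rw [hac, hac', hkey]
  have hd' : (if i = j then (1 : L) else 0) = mkL (if i = j then 1 else 0, 0) := by
    split_ifs <;> simp [mkL]
  rw [hd', hmkbij.1.eq_iff, Prod.mk.injEq, neg_eq_zero, and_comm]

/-- The index condition excludes order twice an odd number. -/
theorem order_ne (hd : 0 < d) (h2 : (2 : F) ≠ 0) (hr2 : r ≠ 2) (hrp : r ≠ p) {K : Subalgebra F M} {Ω : M} {t : F} (ht : ¬ IsSquare t)
    (hΩ : Ω * Ω = t • 1) (hskew : ∀ u v, (stdAlt d F).B (Ω *ᵥ u) v = -(stdAlt d F).B u (Ω *ᵥ v))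
    (hmem : ∀ k, k ∈ K ↔ ∃ a b : F, k = a • 1 + b • Ω)
    (hidx : r ∣ (Cfsg.Geo.subalgebraNormalizer K).relIndex (Cfsg.spGL d F)) {c e : ℕ}
    (hc : orderOf ((Fintype.card F : ℕ) : ZMod r) = c) (hce : c = e + e) (he : Odd e) : False := by
  classical
  obtain ⟨C, hCS, hCc, hC⟩ := card_centralizer hd h2 ht hΩ hskew
  set q := Fintype.card F
  have hCH : C ≤ Cfsg.Geo.subalgebraNormalizer K ⊓ Cfsg.spGL d F :=
    le_inf (fun g hg => mem_normalizer hmem (Or.inl rfl) (by rw [one_smul]; exact hCc g hg)) hCS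
  have h1 : r ∣ C.relIndex (Cfsg.spGL d F) := by
    rw [← Subgroup.relIndex_mul_relIndex C _ _ hCH inf_le_right, Subgroup.inf_relIndex_right]
    exact hidx.trans (dvd_mul_left _ _)
  have h3 : Nat.card C * C.relIndex (Cfsg.spGL d F) = Nat.card (Cfsg.spGL d F) := by
    rw [← Subgroup.relIndex_bot_left C, ← Subgroup.relIndex_bot_left (Cfsg.spGL d F),
      Subgroup.relIndex_mul_relIndex _ _ _ bot_le hCS]
  rw [← Nat.card_congr (Cfsg.Agent.Lib.Classical.spEquivGL d F).toEquiv, Cfsg.Agent.Lib.Classical.card_sp, hC] at h3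
  have hq1 : 1 ≤ q := Fintype.card_pos
  set co := ∏ i ∈ Finset.range d, (if Even i then q ^ (i + 1) - 1 else q ^ (i + 1) + 1) with hco
  have hprod : ∏ i ∈ Finset.range d, (q ^ (2 * (i + 1)) - 1) =
      (∏ i ∈ Finset.range d, (if Even i then q ^ (i + 1) + 1 else q ^ (i + 1) - 1)) * co := by
    rw [hco, ← Finset.prod_mul_distrib]
    refine Finset.prod_congr rfl fun i _ => ?_
    have : q ^ (2 * (i + 1)) - 1 = (q ^ (i + 1) + 1) * (q ^ (i + 1) - 1) := by
      rw [← Nat.sq_sub_sq, one_pow, ← pow_mul, mul_comm]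
    split_ifs <;> rw [this] <;> ring
  rw [hprod] at h3
  have hdd : d * (d - 1) / 2 ≤ d ^ 2 := (Nat.div_le_self _ _).trans (by rw [pow_two]; exact Nat.mul_le_mul_left _ (Nat.sub_le _ _))
  rw [← Nat.add_sub_cancel' hdd, pow_add] at h3
  have hq' : 1 < q := Fintype.one_lt_card
  have hP : 0 < ∏ i ∈ Finset.range d, (if Even i then q ^ (i + 1) + 1 else q ^ (i + 1) - 1) :=
    Finset.prod_pos fun i _ => by
      have : 1 < q ^ (i + 1) := Nat.one_lt_pow (by omega) hq'
      split_ifs <;> omega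
  have h4 : C.relIndex (Cfsg.spGL d F) = q ^ (d ^ 2 - d * (d - 1) / 2) * co := by
    refine Nat.eq_of_mul_eq_mul_left (Nat.mul_pos (pow_pos (by omega : 0 < q) (d * (d - 1) / 2)) hP) ?_
    rw [h3]; ring
  rw [h4] at h1
  obtain ⟨⟨n, hn⟩, -, hcard⟩ := FiniteField.card F p
  simp only [PNat.mk_coe] at hcard
  rcases (Nat.Prime.dvd_mul hr.out).1 h1 with h | h
  · rw [show q = p ^ n from hcard, ← pow_mul] at h
    exact hrp ((Nat.prime_dvd_prime_iff_eq hr.out Fact.out).1 (hr.out.dvd_of_dvd_pow h))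
  obtain ⟨i, -, hdiv⟩ := (Prime.dvd_finsetProd_iff (Nat.prime_iff.1 hr.out) _).1 h
  set Q : ZMod r := (q : ZMod r) with hQ
  have hQe : Q ^ e = -1 := by
    have h5 : Q ^ e * Q ^ e = 1 := by rw [← pow_add, ← hce, ← hc, pow_orderOf_eq_one]
    refine (mul_self_eq_one_iff.1 h5).resolve_left fun h6 => ?_
    obtain ⟨j, hj⟩ := he
    have := Nat.le_of_dvd (by omega) (orderOf_dvd_of_pow_eq_one h6)
    omega
  have hval : Q ^ (i + 1) = if Even i then 1 else -1 := by
    split_ifs with hi
    · rw [if_pos hi] at hdiv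
      rwa [← ZMod.natCast_eq_zero_iff, Nat.cast_sub (Nat.one_le_pow _ _ hq1), Nat.cast_pow, Nat.cast_one, sub_eq_zero] at hdiv
    · rw [if_neg hi] at hdiv
      rwa [← ZMod.natCast_eq_zero_iff, Nat.cast_add, Nat.cast_pow, Nat.cast_one, add_eq_zero_iff_eq_neg] at hdiv
  have h5 : c ∣ 2 * (i + 1) := by
    rw [← hc, orderOf_dvd_iff_pow_eq_one, mul_comm, pow_mul, hval]
    split_ifs <;> ring
  rw [hce, ← two_mul] at h5
  obtain ⟨k, hk⟩ := Nat.dvd_of_mul_dvd_mul_left two_pos h5
  rw [hk, pow_mul, hQe] at hval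
  have hev : Even i ↔ Odd k := by
    have h6 : Odd (i + 1) ↔ Odd k := by rw [hk, Nat.odd_mul]; simp [he]
    rw [← h6, Nat.odd_add_one, Nat.not_odd_iff_even]
  have h12 : (-1 : ZMod r) ≠ 1 := fun h6 => by
    have h7 : ((2 : ℕ) : ZMod r) = 0 := by push_cast; linear_combination -h6
    rw [ZMod.natCast_eq_zero_iff] at h7
    exact hr2 ((Nat.prime_dvd_prime_iff_eq hr.out Nat.prime_two).1 h7)
  by_cases hi : Even i
  · rw [if_pos hi, (hev.1 hi).neg_one_pow] at hval
    exact h12 hval
  · rw [if_neg hi, (Nat.not_odd_iff_even.1 (fun h' => hi (hev.2 h'))).neg_one_pow] at hval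
    exact h12 hval.symm

end

/-- Elements with square one or minus one. -/
theorem good_involution [Fintype F] (hd : 2 ≤ d) (h2 : (2 : F) ≠ 0) {K : Subalgebra F M} {Ω : M} {t : F}
    (ht : ¬ IsSquare t) (hΩ : Ω * Ω = t • 1)
    (hskew : ∀ u v, (stdAlt d F).B (Ω *ᵥ u) v = -(stdAlt d F).B u (Ω *ᵥ v))
    (hmem : ∀ k, k ∈ K ↔ ∃ a b : F, k = a • 1 + b • Ω)
    {x : GL (Fin d ⊕ Fin d) F} (hx : x ∈ Cfsg.spGL d F) {z : F} (hz : (x : M) ^ 2 = z • 1) :
    ∃ g ∈ Cfsg.spGL d F, g⁻¹ * x * g ∈ Cfsg.Geo.subalgebraNormalizer K := by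
  classical
  set f := stdAlt d F
  set X := Matrix.toLin' (x : M)
  set O := Matrix.toLin' Ω
  have ht0 : t ≠ 0 := fun e => ht (e ▸ IsSquare.zero)
  have hxx : ∀ v, X (X v) = z • v := fun v => by
    rw [Matrix.toLin'_apply, Matrix.toLin'_apply, Matrix.mulVec_mulVec, ← pow_two, hz, Matrix.smul_mulVec,
      Matrix.one_mulVec]
  have hix : ∀ u v, f.B (X u) (X v) = f.B u v :=
    fun u v => by rw [stdAlt_apply, stdAlt_apply, Matrix.toLin'_apply, Matrix.toLin'_apply]; exact hx u v
  have hO : ∀ v, O (O v) = t • v := fun v => by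
    rw [Matrix.toLin'_apply, Matrix.toLin'_apply, Matrix.mulVec_mulVec, hΩ, Matrix.smul_mulVec, Matrix.one_mulVec]
  have hsO : ∀ u v, f.B (O u) v = -f.B u (O v) := fun u v => by
    rw [Matrix.toLin'_apply, Matrix.toLin'_apply]; exact hskew u v
  have hzz : z * z = 1 := by
    obtain ⟨u, v, huv⟩ : ∃ u v, f.B u v ≠ 0 := by
      by_contra hne
      push Not at hne
      exact (by simp : (Pi.single (Sum.inl (⟨0, by omega⟩ : Fin d)) 1 : V) ≠ 0) (f.nondeg _ fun u => hne u _)
    have := hix (X u) (X v)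
    rw [hxx, hxx, hix, map_smul, map_smul, LinearMap.smul_apply, smul_eq_mul, smul_eq_mul, ← mul_assoc] at this
    exact mul_right_cancel₀ huv (this.trans (one_mul _).symm)
  have hcard : Fintype.card (Fin d ⊕ Fin d) = 2 * d := by simp [two_mul]
  obtain ⟨w, hw⟩ := SympInvolConj.exists_frame f h2 ht0 hO hsO d hcard.ge
  obtain ⟨hli, hspan⟩ := SympInvolConj.frame_span f hcard hsO hw
  let b := Basis.mk hli hspan.ge
  have hb : ∀ a, b a = Sum.elim w (fun i => O (w i)) a := fun a => Basis.mk_apply _ _ a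
  have hw' : ∀ i j, f.B (O (w i)) (w j) = if i = j then -1 else 0 := fun i j => by
    rw [hsO, (hw i j).2]; split_ifs <;> simp
  have hw'' : ∀ i j, f.B (O (w i)) (O (w j)) = 0 := fun i j => by
    rw [hsO, hO, map_smul, (hw i j).1]; simp
  suffices ∃ (T : V →ₗ[F] V) (ε : F), (ε = 1 ∨ ε = -1) ∧ (∀ u v, f.B (T u) (T v) = f.B u v) ∧
      (∀ v, T (O v) = ε • O (T v)) ∧ ∃ g : V →ₗ[F] V, (∀ u v, f.B (g u) (g v) = f.B u v) ∧ ∀ v, g (T v) = X (g v) by
    obtain ⟨T, ε, hε, hT, hTO, g, hg, hgt⟩ := this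
    have key : ∀ L : V →ₗ[F] V, (∀ u v, f.B (L u) (L v) = f.B u v) → ∃ G : GL (Fin d ⊕ Fin d) F, G ∈ Cfsg.spGL d F ∧
        Matrix.toLin' (G : M) = L := by
      intro L hL
      obtain ⟨G, hGs, hGM⟩ := SympPrimeElem.exists_gl_of_mem (X := LinearMap.toMatrix' L) (by
        rw [Cfsg.Agent.Lib.Geometry.mem_symplecticGroup_iff_form]
        intro u v
        rw [← stdAlt_apply, ← stdAlt_apply, ← Matrix.toLin'_apply, ← Matrix.toLin'_apply, Matrix.toLin'_toMatrix']
        exact hL u v)
      exact ⟨G, hGs, by rw [hGM, Matrix.toLin'_toMatrix']⟩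
    obtain ⟨G, hGs, hG⟩ := key g hg
    obtain ⟨S, -, hS⟩ := key T hT
    refine ⟨G, hGs, ?_⟩
    have e1 : x * G = G * S := by
      apply Units.ext
      apply Matrix.toLin'.injective
      rw [Units.val_mul, Units.val_mul, Matrix.toLin'_mul, Matrix.toLin'_mul, hG, hS]
      exact LinearMap.ext fun v => (hgt v).symm
    rw [mul_assoc, e1, inv_mul_cancel_left]
    refine mem_normalizer hmem hε (Matrix.toLin'.injective ?_)
    rw [map_smul, Matrix.toLin'_mul, Matrix.toLin'_mul, hS]
    exact LinearMap.ext hTO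
  rcases mul_self_eq_one_iff.1 hzz with rfl | rfl
  · simp only [one_smul] at hxx
    obtain ⟨l, hl⟩ := SympInvolConj.even_finrank f (SympInvolConj.ndOn_minus f h2 hxx hix)
    have hle : l ≤ d := by
      have h3 := Submodule.finrank_le (LinearMap.ker (X + LinearMap.id))
      rw [Module.finrank_fintype_fun_eq_card, hcard] at h3
      omega
    let s : Fin d → F := fun i => if (i : ℕ) < l then -1 else 1
    have hss : ∀ i, s i * s i = 1 := fun i => by simp only [s]; split_ifs <;> simp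
    let T : V →ₗ[F] V := b.constr F (Sum.elim (fun i => s i • w i) fun i => s i • O (w i))
    have hT : ∀ a, T (Sum.elim w (fun i => O (w i)) a) = Sum.elim s s a • Sum.elim w (fun i => O (w i)) a := fun a => by
      conv_lhs => rw [← hb]
      rw [Basis.constr_basis]
      rcases a with i | i <;> rfl
    have hTT : ∀ v, T (T v) = v := fun v => by
      have e : T ∘ₗ T = LinearMap.id := b.ext fun a => by
        rw [LinearMap.comp_apply, hb, hT, map_smul, hT, smul_smul]
        rcases a with i | i <;> simp [hss]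
      exact LinearMap.congr_fun e v
    have hTi : ∀ u v, f.B (T u) (T v) = f.B u v := fun u v => by
      have e : f.B.compl₁₂ T T = f.B := b.ext fun a => b.ext fun a' => by
        rw [LinearMap.compl₁₂_apply, hb, hb, hT, hT, map_smul, map_smul, LinearMap.smul_apply, smul_eq_mul, smul_eq_mul]
        rcases a with i | i <;> rcases a' with j | j <;>
          simp only [Sum.elim_inl, Sum.elim_inr, (hw _ _).1, (hw _ _).2, hw', hw''] <;>
          (try split_ifs) <;> first | ring1 | (subst_vars; linear_combination (hss _) * (1 : F)) | (subst_vars; linear_combination (hss _) * (-1 : F))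
      exact LinearMap.congr_fun (LinearMap.congr_fun e u) v
    refine ⟨T, 1, Or.inl rfl, hTi, fun v => ?_, SympInvolConj.conj_one f h2 hxx hTT hix hTi ?_⟩
    · have e : T ∘ₗ O = O ∘ₗ T := b.ext fun a => by
        rw [LinearMap.comp_apply, LinearMap.comp_apply, hb, hT, map_smul]
        rcases a with i | i
        · exact hT (Sum.inr i)
        · simp only [Sum.elim_inr]
          rw [hO, map_smul, show T (w i) = s i • w i from hT (Sum.inl i), smul_comm]
      rw [one_smul]
      exact LinearMap.congr_fun e v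
    · rw [SympInvolConj.range_sub_one h2 hxx, hl]
      have hmat : LinearMap.toMatrix b b (T - LinearMap.id) = Matrix.diagonal (Sum.elim s s) - (1 : F) • 1 := by
        ext a a'
        rw [LinearMap.toMatrix_apply, LinearMap.sub_apply, LinearMap.id_apply, hb, hT, ← hb, map_sub, map_smul,
          Basis.repr_self]
        by_cases h : a = a'
        · subst h; simp
        · simp [Finsupp.single_eq_of_ne, h, Matrix.one_apply]
      rw [show finrank F (LinearMap.range (T - LinearMap.id)) = (LinearMap.toMatrix b b (T - LinearMap.id)).rank from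
        ((Matrix.rank_eq_finrank_range_toLin _ b b).trans (by rw [Matrix.toLin_toMatrix])).symm, hmat, S5980.rank_diag,
        show (Finset.univ.filter fun a => Sum.elim s s a ≠ 1) =
          (Finset.univ.filter fun i : Fin d => (i : ℕ) < l).disjSum (Finset.univ.filter fun i : Fin d => (i : ℕ) < l) by
          ext (i | i) <;> simp only [s, Finset.mem_filter, Finset.mem_univ, true_and, Sum.elim_inl, Sum.elim_inr,
            Finset.inl_mem_disjSum, Finset.inr_mem_disjSum] <;> split_ifs with h <;> simp [h] <;>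
            exact fun h' => h2 (by linear_combination -h'),
        Finset.card_disjSum, ← Fintype.card_subtype, Fintype.card_congr (Fin.castLEquiv hle).symm, Fintype.card_fin]
  · have hx' : ∀ v, X (X v) = (-1 : F) • v := hxx
    obtain ⟨α, β, hab⟩ := QuadField.exists_norm (F := F) (s := 0) (t := t) (fun r h => ht ⟨r, by simpa using h.symm⟩)
      (d := -1) (neg_ne_zero.2 one_ne_zero)
    rw [zero_mul, zero_mul, add_zero] at hab
    let T : V →ₗ[F] V := b.constr F (Sum.elim (fun i => α • w i + β • O (w i))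
      fun i => -(α • O (w i)) - (β * t) • w i)
    have hTw : ∀ i, T (w i) = α • w i + β • O (w i) := fun i => by
      have := b.constr_basis F (Sum.elim (fun i => α • w i + β • O (w i)) fun i => -(α • O (w i)) - (β * t) • w i) (Sum.inl i)
      rwa [hb] at this
    have hTO' : ∀ i, T (O (w i)) = -(α • O (w i)) - (β * t) • w i := fun i => by
      have := b.constr_basis F (Sum.elim (fun i => α • w i + β • O (w i)) fun i => -(α • O (w i)) - (β * t) • w i) (Sum.inr i)
      rwa [hb] at this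
    have hTT : ∀ v, T (T v) = (-1 : F) • v := fun v => by
      have e : T ∘ₗ T = (-1 : F) • LinearMap.id := b.ext fun a => by
        rw [LinearMap.comp_apply, hb]
        rcases a with i | i <;>
          simp only [Sum.elim_inl, Sum.elim_inr, hTw, hTO', map_add, map_sub, map_neg, map_smul, LinearMap.smul_apply,
            LinearMap.id_apply]
        · match_scalars
          · linear_combination hab
          · ring
        · match_scalars
          · linear_combination hab
          · ring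
      exact LinearMap.congr_fun e v
    have hTi : ∀ u v, f.B (T u) (T v) = f.B u v := fun u v => by
      have e : f.B.compl₁₂ T T = f.B := b.ext fun a => b.ext fun a' => by
        rw [LinearMap.compl₁₂_apply, hb, hb]
        rcases a with i | i <;> rcases a' with j | j <;>
          simp only [Sum.elim_inl, Sum.elim_inr, hTw, hTO', map_add, map_sub, map_neg, map_smul, LinearMap.add_apply,
            LinearMap.sub_apply, LinearMap.neg_apply, LinearMap.smul_apply, smul_eq_mul, (hw _ _).1, (hw _ _).2, hw', hw''] <;>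
          split_ifs <;> first | ring1 | linear_combination hab | linear_combination -hab
      exact LinearMap.congr_fun (LinearMap.congr_fun e u) v
    have hskew' : ∀ (L : V →ₗ[F] V), (∀ v, L (L v) = (-1 : F) • v) → (∀ u v, f.B (L u) (L v) = f.B u v) →
        ∀ u v, f.B (L u) v = -f.B u (L v) := fun L hL hi u v => by
      rw [← hi u (L v), hL, neg_one_smul, map_neg, neg_neg]
    refine ⟨T, -1, Or.inr rfl, hTi, fun v => ?_,
      SympInvolConj.conj_skew f h2 (neg_ne_zero.2 one_ne_zero) hcard hx' hTT (hskew' X hx' hix) (hskew' T hTT hTi)⟩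
    have e : T ∘ₗ O = (-1 : F) • (O ∘ₗ T) := b.ext fun a => by
      rw [LinearMap.comp_apply, LinearMap.smul_apply, LinearMap.comp_apply, hb]
      rcases a with i | i <;>
        simp only [Sum.elim_inl, Sum.elim_inr, hTw, hTO', hO, map_add, map_sub, map_neg, map_smul] <;> module
    exact LinearMap.congr_fun e v

/-- Elements of prime order of PSp_n(q), q odd, and the subgroups of type GU_{n/2}(q). Here `T = PSp_{2d}(F)` for a field `F` with `q` elements, `q` odd, `d ≥ 2`, realised through the matrices preserving the standard alternating form `f`; `K` is a subalgebra of the `2d × 2d` matrices that is a field of degree 2 over `F`, closed under taking adjoints for `f` but not consisting of self-adjoint elements (so `F^{2d}` becomes a `d`-dimensional space over `K ≅ F_{q²}` on which `f` is the trace of a multiple of a non-degenerate hermitian form); `H` is the subgroup of `T` normalizing `K` — the symplectic maps that are `K`-linear or `K`-semilinear, a subgroup of type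 GU_d(q) (maximality is not assumed). Ω is the set of cosets of `H` in `T`, so an element of `T` of prime order `r` (`x ∈ T` with `x^r` scalar, `x` not scalar) fixes a point of Ω exactly when some `T`-conjugate of `x` normalizes `K`. Let `r` be a prime dividing the index of `H`. Then every element of `T` of order `r` fixes a point of Ω if and only if `r = 2`. -/
theorem result {F : Type*} [Field F] [Fintype F] {p : ℕ} [Fact p.Prime] [CharP F p] {q : ℕ} (hq : Fintype.card F = q)
    (hodd : Odd q) (d : ℕ) (hd : 2 ≤ d)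
    (K : Subalgebra F (Matrix (Fin d ⊕ Fin d) (Fin d ⊕ Fin d) F)) (hK : Cfsg.Geo.IsFieldSubalgebra 2 K)
    (hKf : Cfsg.Geo.IsAdjointClosedFor (Cfsg.sympForm d F) K) (hKns : ¬ Cfsg.Geo.IsSelfAdjointFor (Cfsg.sympForm d F) K)
    (r : ℕ) [Fact r.Prime]
    (hΩ : r ∣ (Cfsg.Geo.subalgebraNormalizer K).relIndex (Cfsg.spGL d F)) :
    (∀ x ∈ Cfsg.spGL d F, (∃ z : F, ((x ^ r : GL (Fin d ⊕ Fin d) F) : Matrix (Fin d ⊕ Fin d) (Fin d ⊕ Fin d) F) = z • (1 : Matrix (Fin d ⊕ Fin d) (Fin d ⊕ Fin d) F)) →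
      (∀ z : F, (x : Matrix (Fin d ⊕ Fin d) (Fin d ⊕ Fin d) F) ≠ z • (1 : Matrix (Fin d ⊕ Fin d) (Fin d ⊕ Fin d) F)) →
      ∃ g ∈ Cfsg.spGL d F, g⁻¹ * x * g ∈ Cfsg.Geo.subalgebraNormalizer K) ↔ r = 2 := by
  classical
  subst hq
  have hr : r.Prime := Fact.out
  have h2 : (2 : F) ≠ 0 := fun h2 => by
    haveI : CharP F 2 := CharTwo.of_one_ne_zero_of_two_eq_zero one_ne_zero h2
    have := FiniteField.even_card_of_char_two (F := F) ((ringChar.eq F 2).symm ▸ rfl)
    exact absurd hodd (Nat.not_odd_iff_even.2 (Nat.even_iff.2 this))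
  obtain ⟨Ω, t, hΩ', ht, hskew, hmem⟩ := exists_gen (by omega) h2 hK hKf hKns
  have ht0 : t ≠ 0 := fun e => ht (e ▸ IsSquare.zero)
  constructor
  · intro h
    by_contra hr2
    have hro : Odd r := hr.odd_of_ne_two hr2
    have key : ∀ x ∈ Cfsg.spGL d F, (x : Matrix (Fin d ⊕ Fin d) (Fin d ⊕ Fin d) F) ^ r = 1 →
        (∀ z : F, (x : Matrix (Fin d ⊕ Fin d) (Fin d ⊕ Fin d) F) ≠ z • 1) →
        ∃ y : GL (Fin d ⊕ Fin d) F, y ∈ Cfsg.spGL d F ∧ (y : Matrix (Fin d ⊕ Fin d) (Fin d ⊕ Fin d) F) ^ r = 1 ∧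
          (y : Matrix (Fin d ⊕ Fin d) (Fin d ⊕ Fin d) F) * Ω = Ω * (y : Matrix (Fin d ⊕ Fin d) (Fin d ⊕ Fin d) F) ∧
          ∀ Q : Polynomial F, Even (Polynomial.aeval (x : Matrix (Fin d ⊕ Fin d) (Fin d ⊕ Fin d) F) Q).rank ∧
            (Polynomial.aeval (y : Matrix (Fin d ⊕ Fin d) (Fin d ⊕ Fin d) F) Q).rank =
              (Polynomial.aeval (x : Matrix (Fin d ⊕ Fin d) (Fin d ⊕ Fin d) F) Q).rank := by
      intro x hx hxr hns
      obtain ⟨g, hg, hgK⟩ := h x hx ⟨1, by rw [Units.val_pow_eq_pow_val, hxr, one_smul]⟩ hns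
      have hy : g⁻¹ * x * g ∈ Cfsg.spGL d F := mul_mem (mul_mem (inv_mem hg) hx) hg
      have hyr : ((g⁻¹ * x * g : GL (Fin d ⊕ Fin d) F) : Matrix (Fin d ⊕ Fin d) (Fin d ⊕ Fin d) F) ^ r = 1 := by
        rw [← Units.val_pow_eq_pow_val, show (g⁻¹ * x * g) ^ r = g⁻¹ * x ^ r * g by
          have := conj_pow (a := g⁻¹) (b := x) (i := r); simpa using this, show x ^ r = 1 from Units.ext (by simpa using hxr)]
        simp
      have hcom := commute_of_mem h2 ht0 hΩ' hskew hmem hro hy hyr hgK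
      refine ⟨_, hy, hyr, hcom, fun Q => ?_⟩
      have hrk : (Polynomial.aeval ((g⁻¹ * x * g : GL (Fin d ⊕ Fin d) F) : Matrix (Fin d ⊕ Fin d) (Fin d ⊕ Fin d) F) Q).rank =
          (Polynomial.aeval (x : Matrix (Fin d ⊕ Fin d) (Fin d ⊕ Fin d) F) Q).rank := by
        rw [Units.val_mul, Units.val_mul, S5979.aeval_conj (Units.mul_inv g) (Units.inv_mul g),
          Matrix.rank_mul_eq_left_of_isUnit_det _ _ (by rw [← Matrix.isUnit_iff_isUnit_det]; exact Units.isUnit _),
          Matrix.rank_mul_eq_right_of_isUnit_det _ _ (by rw [← Matrix.isUnit_iff_isUnit_det]; exact Units.isUnit _)]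
      exact ⟨hrk ▸ even_rank ht hΩ' (commute_aeval hcom Q), hrk⟩
    have bad : ∀ x ∈ Cfsg.spGL d F, (x : Matrix (Fin d ⊕ Fin d) (Fin d ⊕ Fin d) F) ^ r = 1 →
        (∀ z : F, (x : Matrix (Fin d ⊕ Fin d) (Fin d ⊕ Fin d) F) ≠ z • 1) → ∀ Q : Polynomial F,
        Odd (Polynomial.aeval (x : Matrix (Fin d ⊕ Fin d) (Fin d ⊕ Fin d) F) Q).rank → False := by
      intro x hx hxr hns Q hQ
      obtain ⟨_, -, -, -, hall⟩ := key x hx hxr hns
      exact Nat.not_even_iff_odd.2 hQ (hall Q).1
    by_cases hrp : r = p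
    · subst hrp
      obtain ⟨x, hxS, hx, hns, hrk⟩ := S5980.exists_transvection (F := F) hd r
      refine bad x hxS hx hns (Polynomial.X - Polynomial.C 1) ?_
      rw [map_sub, Polynomial.aeval_X, Polynomial.aeval_C, Algebra.algebraMap_eq_smul_one, hrk]
      exact odd_one
    by_cases hd1 : r ∣ Fintype.card F - 1
    · obtain ⟨u, hu⟩ := exists_prime_orderOf_dvd_card' (G := Fˣ) r (by rwa [PrimeElemFlags.card_sub_one rfl])
      have hur : (u : F) ^ r = 1 := by rw [← Units.val_pow_eq_pow_val, ← hu, pow_orderOf_eq_one, Units.val_one]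
      have hu1 : (u : F) ≠ 1 := fun e' => by
        rw [Units.val_eq_one] at e'
        rw [e', orderOf_one] at hu
        exact hr.one_lt.ne hu
      obtain ⟨x, hxS, hxr, hns, -, hrku⟩ := S5980.exists_diag hd hur hu1
      refine bad x hxS hxr hns (Polynomial.X - Polynomial.C (u : F)) ?_
      rw [map_sub, Polynomial.aeval_X, Polynomial.aeval_C, Algebra.algebraMap_eq_smul_one, hrku (fun e' => hr2 (by
        have h' : u⁻¹ = u := Units.ext e'
        rw [inv_eq_iff_mul_eq_one, ← pow_two] at h'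
        have h'' := orderOf_dvd_of_pow_eq_one h'
        rw [hu] at h''
        exact (Nat.prime_dvd_prime_iff_eq hr Nat.prime_two).1 h''))]
      exact ⟨d - 1, by omega⟩
    obtain ⟨c, hc⟩ : ∃ c, orderOf ((Fintype.card F : ℕ) : ZMod r) = c := ⟨_, rfl⟩
    have hc1 : c ≠ 1 := fun e' => hd1 ((PrimeElemFlags.order_eq_one_iff rfl).1 (hc.trans e'))
    have hc0 : 0 < c := hc ▸ PrimeElemFlags.order_pos rfl hrp
    obtain ⟨hcd, hco⟩ := SympPrimeElem.order_le hrp (hΩ.trans (Subgroup.relIndex_dvd_card _ _))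
    rw [hc] at hcd hco
    have hns : ∀ x : GL (Fin d ⊕ Fin d) F, (x : Matrix (Fin d ⊕ Fin d) (Fin d ⊕ Fin d) F) ^ r = 1 →
        ((x : Matrix (Fin d ⊕ Fin d) (Fin d ⊕ Fin d) F) - 1).rank ≠ 0 →
        ∀ z : F, (x : Matrix (Fin d ⊕ Fin d) (Fin d ⊕ Fin d) F) ≠ z • 1 := by
      intro x hxr hx z hz
      obtain rfl : z = 1 := by
        have h1 := hxr
        rw [hz, _root_.smul_pow, one_pow] at h1
        have h' := congrFun (congrFun h1 (Sum.inl ⟨0, by omega⟩)) (Sum.inl ⟨0, by omega⟩)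
        simp at h'
        have hz0 : z ≠ 0 := fun h0 => by rw [h0, zero_pow hr.ne_zero] at h'; exact zero_ne_one h'
        simpa [((Nat.Prime.coprime_iff_not_dvd hr).2 hd1).gcd_eq_one] using
          pow_gcd_eq_one.2 ⟨h', FiniteField.pow_card_sub_one_eq_one z hz0⟩
      rw [hz, one_smul, sub_self, Matrix.rank_zero] at hx
      exact hx rfl
    rcases Nat.even_or_odd c with ⟨e, he⟩ | hco'
    · rcases Nat.even_or_odd e with hee | heo
      · obtain ⟨x, hxS, hxr, hxk⟩ := SympPrimeElem.exists_even hrp hc ⟨e, he⟩ hcd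
        obtain ⟨y, hy, hyr, hcom, hall⟩ := key x hxS hxr (hns x hxr (by omega))
        refine not_commute h2 hrp hc he hee hy hyr ?_ ht hΩ' hskew hcom
        have := (hall (Polynomial.X - 1)).2
        simp only [map_sub, Polynomial.aeval_X, map_one] at this
        rw [this, hxk]
      · exact order_ne (by omega) h2 hr2 hrp ht hΩ' hskew hmem hΩ hc he heo
    · obtain ⟨x, g', hxS, hxr, hxk, -, -, -, hgr⟩ := SympPrimeElem.exists_odd hrp hc hco' hc1 (hco hco')
      refine bad x hxS hxr (hns x hxr (by omega)) g' ?_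
      rw [hgr]
      obtain ⟨j, hj⟩ := hco'
      have := hco ⟨j, hj⟩
      exact ⟨d - j - 1, by omega⟩
  · rintro rfl x hxS ⟨z, hz⟩ -
    rw [Units.val_pow_eq_pow_val] at hz
    exact good_involution hd h2 ht hΩ' hskew hmem hxS hz

end Cfsg.Agent.S5976
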