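import Cfsg.Statements.S5977
import Cfsg.Agent.Lib.MaxSub.OrthExtMain
import Cfsg.Agent.Lib.QuadFin.WittIndex
import Mathlib

set_option maxHeartbeats 1000000

set_option autoImplicit false
open scoped MatrixGroups
open Cfsg

namespace Cfsg.Agent.S5977

open Module Cfsg.Agent.Lib.MaxSub Cfsg.Agent.Lib.Geometry
open Cfsg.Agent.Lib.MaxSub.QuadType (Plus TS)
open QuadraticMap (polarBilin)
open scoped _root_.Classical

theorem plus_top {F : Type*} [Field F] (d : ℕ) : Plus (matQuad (plusMatrix d F)) ⊤ := by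
  refine ⟨Cfsg.Agent.Lib.QuadFin.xSubspace F d, le_top, fun u hu => ?_, ?_⟩
  · rw [← congrFun (quadFormPlus_eq d) u]
    exact Cfsg.Agent.Lib.QuadFin.xSubspace_singular hu
  · rw [Cfsg.Agent.Lib.QuadFin.finrank_xSubspace, finrank_top, Module.finrank_fintype_fun_eq_card, Fintype.card_sum,
      Fintype.card_fin, two_mul]

/-- Elements of prime order of PΩ⁺_n(q), q odd, and the field-extension subgroups of degree 2 (orthogonal type over F_{q²}). Here `T = PΩ⁺_{2d}(F)` for a field `F` with `q` elements, `q` odd, `d ≥ 4`, realised through `Ω⁺_{2d}(q)`, the commutator subgroup of the isometry group of `Q = Σ xᵢyᵢ`, with polar form `B`; `K` is a subalgebra of the `2d × 2d` matrices that is a field of degree 2 over `F` whose elements are self-adjoint for `B` (so `F^{2d}` becomes a `d`-dimensional space over `K ≅ F_{q²}` on which `B` is the trace of a `K`-bilinear symmetric form); `H` is the subgroup of `Ω⁺_{2d}(q)` normalizing `K` — the elements of `Ω⁺_{2d}(q)`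 that are `K`-linear or `K`-semilinear, a subgroup of orthogonal type over the quadratic extension (maximality is not assumed). Ω is the set of cosets of `H`, so an element of `T` of prime order `r` (`x ∈ Ω⁺_{2d}(q)` with `x^r` scalar, `x` not scalar) fixes a point of Ω exactly when some `Ω⁺_{2d}(q)`-conjugate of `x` normalizes `K`. Let `r` be a prime dividing the index of `H`. Then every element of `T` of order `r` fixes a point of Ω if and only if `r = 2`. -/
theorem result {F : Type*} [Field F] [Fintype F] {p : ℕ} [Fact p.Prime] [CharP F p] {q : ℕ} (hq : Fintype.card F = q)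
    (hodd : Odd q) (d : ℕ) (hd : 4 ≤ d)
    (K : Subalgebra F (Matrix (Fin d ⊕ Fin d) (Fin d ⊕ Fin d) F)) (hK : Cfsg.Geo.IsFieldSubalgebra 2 K)
    (hKf : Cfsg.Geo.IsSelfAdjointFor (QuadraticMap.polar (Cfsg.quadFormPlus d F)) K)
    (r : ℕ) [Fact r.Prime]
    (hΩ : r ∣ (Cfsg.Geo.subalgebraNormalizer K).relIndex (Cfsg.Geo.omegaGL (Cfsg.quadFormPlus d F))) :
    (∀ x ∈ Cfsg.Geo.omegaGL (Cfsg.quadFormPlus d F), (∃ z : F, ((x ^ r : GL (Fin d ⊕ Fin d) F) : Matrix (Fin d ⊕ Fin d) (Fin d ⊕ Fin d) F) = z • (1 : Matrix (Fin d ⊕ Fin d) (Fin d ⊕ Fin d) F)) →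
      (∀ z : F, (x : Matrix (Fin d ⊕ Fin d) (Fin d ⊕ Fin d) F) ≠ z • (1 : Matrix (Fin d ⊕ Fin d) (Fin d ⊕ Fin d) F)) →
      ∃ g ∈ Cfsg.Geo.omegaGL (Cfsg.quadFormPlus d F), g⁻¹ * x * g ∈ Cfsg.Geo.subalgebraNormalizer K) ↔ r = 2 := by
  obtain rfl := hq
  have h2 : (2 : F) ≠ 0 := two_ne_zero_of_odd_card hodd
  have hdet : ((plusMatrix d F) + Matrix.transpose (plusMatrix d F)).det ≠ 0 := by
    rw [det_plusGram]
    exact pow_ne_zero _ (neg_ne_zero.2 one_ne_zero)
  have hQ := polarBilin_matQuad_nondegenerate hdet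
  have hn : Fintype.card (Fin d ⊕ Fin d) = 2 * d := by
    simp only [Fintype.card_sum, Fintype.card_fin]; omega
  haveI : Nonempty (Fin d ⊕ Fin d) := ⟨Sum.inl ⟨0, by omega⟩⟩
  rw [quadFormPlus_eq d] at hKf hΩ ⊢
  obtain ⟨ω, t, hω, hsa, ht, hN⟩ := OrthExt.exists_omega h2 _ hK hKf
  refine OrthExt.main (p := p) (matQuad (plusMatrix d F)) hQ h2 ω t hω (fun u v => hsa u v) ht hN hn hd ?_ hΩ
  rw [if_pos (plus_top d), ← quadFormPlus_eq d]
  exact Cfsg.Agent.Lib.Classical.card_orth_plus rfl d (by omega)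

end Cfsg.Agent.S5977
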