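import Cfsg.Statements.S5979
import Cfsg.Agent.Lib.MaxSub.PrimeElemFlags
import Cfsg.Agent.Lib.MaxSub.QuadField
import Mathlib

set_option autoImplicit false
set_option maxHeartbeats 1000000
open scoped MatrixGroups
open Cfsg

namespace Cfsg.Agent.S5979


open Module Polynomial Cfsg.Agent.Lib.MaxSub Matrix Kronecker

variable {F : Type*} [Field F] {a b n : ℕ}

local notation "AB" => Matrix (Fin a × Fin b) (Fin a × Fin b) F
local notation "M" => Matrix (Fin n) (Fin n) F

/-- The rank of a block-constant matrix. -/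
theorem rank_one_kronecker (C : Matrix (Fin b) (Fin b) F) :
    ((1 : Matrix (Fin a) (Fin a) F) ⊗ₖ C).rank = a * C.rank := by
  classical
  have hmul : ∀ v i k, (((1 : Matrix (Fin a) (Fin a) F) ⊗ₖ C) *ᵥ v) (i, k) = (C *ᵥ fun l => v (i, l)) k := by
    intro v i k
    simp [Matrix.mulVec, dotProduct, Fintype.sum_prod_type, Matrix.one_apply, ite_mul]
  let e : LinearMap.ker (Matrix.mulVecLin ((1 : Matrix (Fin a) (Fin a) F) ⊗ₖ C)) ≃ₗ[F]
      (Fin a → LinearMap.ker (Matrix.mulVecLin C)) :=
    { toFun := fun v i => ⟨fun l => v.1 (i, l), LinearMap.mem_ker.2 (funext fun k => by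
        have := congrFun (LinearMap.mem_ker.1 v.2) (i, k)
        rw [Matrix.mulVecLin_apply, hmul] at this
        exact this)⟩
      map_add' := fun u v => rfl
      map_smul' := fun c v => rfl
      invFun := fun w => ⟨fun p => (w p.1).1 p.2, LinearMap.mem_ker.2 (funext fun p => by
        obtain ⟨i, k⟩ := p
        rw [Matrix.mulVecLin_apply, hmul]
        exact congrFun (LinearMap.mem_ker.1 (w i).2) k)⟩
      left_inv := fun v => rfl
      right_inv := fun w => rfl }
  have h1 := (Matrix.mulVecLin ((1 : Matrix (Fin a) (Fin a) F) ⊗ₖ C)).finrank_range_add_finrank_ker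
  have h2 := (Matrix.mulVecLin C).finrank_range_add_finrank_ker
  rw [e.finrank_eq, Module.finrank_pi_fintype, Finset.sum_const, Finset.card_univ, Fintype.card_fin, smul_eq_mul,
    Module.finrank_fintype_fun_eq_card, Fintype.card_prod, Fintype.card_fin, Fintype.card_fin] at h1
  rw [Module.finrank_fin_fun] at h2
  change ((1 : Matrix (Fin a) (Fin a) F) ⊗ₖ C).rank + _ = _ at h1
  change C.rank + _ = _ at h2
  nlinarith [congrArg (a * ·) h2]

/-- A small rank displacement forces the first factor to be scalar. -/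
theorem scalar_of_small_rank {A : Matrix (Fin a) (Fin a) F} {B : Matrix (Fin b) (Fin b) F} (hB : B.det ≠ 0)
    (ha : 0 < a) {μ : F} (hμ : μ ≠ 0) (h : (A ⊗ₖ B - μ • 1).rank < b) : ∃ α : F, A = α • 1 := by
  classical
  have hoff : ∀ i j, i ≠ j → A i j = 0 := by
    intro i j hij
    by_contra hne
    have e : (A ⊗ₖ B - μ • 1).submatrix (fun k => (i, k)) (fun k => (j, k)) = A i j • B := by
      ext k l
      simp [Matrix.one_apply, hij]
    have h1 := Matrix.rank_submatrix_le (A ⊗ₖ B - μ • 1) (fun k => (i, k)) (fun k => (j, k))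
    rw [e, Matrix.rank_of_det_ne_zero (by rw [Matrix.det_smul]; exact mul_ne_zero (pow_ne_zero _ hne) hB),
      Fintype.card_fin] at h1
    omega
  let i0 : Fin a := ⟨0, ha⟩
  refine ⟨A i0 i0, ?_⟩
  ext i j
  by_cases hij : i = j
  · subst hij
    rw [Matrix.smul_apply, Matrix.one_apply_eq, smul_eq_mul, mul_one]
    by_contra hne
    have hii : i ≠ i0 := fun e => hne (by rw [e])
    let U : Matrix (Fin b) (Fin a × Fin b) F := Matrix.of fun k p =>
      if p.2 = k then (if p.1 = i then A i0 i0 else if p.1 = i0 then -A i i else 0) else 0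
    let V : Matrix (Fin a × Fin b) (Fin b) F := Matrix.of fun p k =>
      if p.2 = k then (if p.1 = i then 1 else if p.1 = i0 then 1 else 0) else 0
    have e : U * (A ⊗ₖ B - μ • 1) * V = (μ * (A i i - A i0 i0)) • 1 := by
      have hU : ∀ (W : Matrix (Fin a × Fin b) (Fin b) F) k l, (U * W) k l = A i0 i0 * W (i, k) l - A i i * W (i0, k) l := by
        intro W k l
        rw [Matrix.mul_apply, Fintype.sum_prod_type, Finset.sum_eq_add i i0 hii (fun x _ hx => Finset.sum_eq_zero fun y _ => by
          simp [U, hx.1, hx.2]) (fun h => absurd (Finset.mem_univ _) h) (fun h => absurd (Finset.mem_univ _) h)]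
        simp [U, hii.symm]
        ring
      have hV : ∀ (W : Matrix (Fin a × Fin b) (Fin a × Fin b) F) p l, (W * V) p l = W p (i, l) + W p (i0, l) := by
        intro W p l
        rw [Matrix.mul_apply, Fintype.sum_prod_type, Finset.sum_eq_add i i0 hii (fun x _ hx => Finset.sum_eq_zero fun y _ => by
          simp [V, hx.1, hx.2]) (fun h => absurd (Finset.mem_univ _) h) (fun h => absurd (Finset.mem_univ _) h)]
        simp [V, hii.symm]
      ext k l
      rw [Matrix.mul_assoc, hU, hV, hV]
      simp [Matrix.one_apply, hii, hii.symm, hoff i i0 hii, hoff i0 i hii.symm]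
      split_ifs <;> ring
    have h1 := (Matrix.rank_mul_le_left (U * (A ⊗ₖ B - μ • 1)) V).trans (Matrix.rank_mul_le_right U _)
    rw [e, Matrix.rank_of_det_ne_zero (by
      rw [Matrix.det_smul, Matrix.det_one, mul_one]
      exact pow_ne_zero _ (mul_ne_zero hμ (sub_ne_zero.2 hne))), Fintype.card_fin] at h1
    omega
  · rw [Matrix.smul_apply, Matrix.one_apply_ne hij, smul_zero, hoff i j hij]

theorem aeval_one_kronecker (C : Matrix (Fin b) (Fin b) F) (g : F[X]) :
    aeval ((1 : Matrix (Fin a) (Fin a) F) ⊗ₖ C) g = (1 : Matrix (Fin a) (Fin a) F) ⊗ₖ aeval C g := by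
  induction g using Polynomial.induction_on with
  | C c => rw [aeval_C, aeval_C, Algebra.algebraMap_eq_smul_one, Algebra.algebraMap_eq_smul_one, Matrix.kronecker_smul,
      Matrix.one_kronecker_one]
  | add f g hf hg => rw [map_add, map_add, hf, hg, Matrix.kronecker_add]
  | monomial j c ih =>
    rw [pow_succ, ← mul_assoc, map_mul, map_mul (aeval C), aeval_X, aeval_X, ih, ← Matrix.mul_kronecker_mul, one_mul]

theorem aeval_conj {ι : Type} [Fintype ι] [DecidableEq ι] {P Q y : Matrix ι ι F}
    (h : P * Q = 1) (h' : Q * P = 1) (g : F[X]) : aeval (Q * y * P) g = Q * aeval y g * P := by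
  induction g using Polynomial.induction_on with
  | C c => rw [aeval_C, aeval_C, Algebra.algebraMap_eq_smul_one, mul_smul_comm, mul_one, smul_mul_assoc, h']
  | add f g hf hg => rw [map_add, map_add, hf, hg, mul_add, add_mul]
  | monomial j c ih =>
    rw [pow_succ, ← mul_assoc, map_mul, map_mul (aeval y), aeval_X, aeval_X, ih]
    simp only [mul_assoc]
    rw [← mul_assoc P, h, one_mul]

/-- A conjugate in the tensor stabiliser is similar to a Kronecker product. -/
theorem exists_data {ι : Type} [Fintype ι] [DecidableEq ι] {e : ι ≃ Fin a × Fin b} {P g x : GL ι F}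
    (h : g⁻¹ * x * g ∈ Cfsg.Geo.tensorProductSubgroup a b e P) :
    ∃ (A : Matrix (Fin a) (Fin a) F) (B : Matrix (Fin b) (Fin b) F), A.det ≠ 0 ∧ B.det ≠ 0 ∧
      ∀ f : F[X], (aeval (x : Matrix ι ι F) f).rank = (aeval (A ⊗ₖ B) f).rank := by
  classical
  obtain ⟨y, ⟨z, ⟨A, B, hz⟩, hy⟩, he⟩ := h
  refine ⟨A, B, (Matrix.GeneralLinearGroup.det A).ne_zero, (Matrix.GeneralLinearGroup.det B).ne_zero, fun f => ?_⟩
  let Re := Matrix.reindexAlgEquiv F F e.symm
  have hyM : (y : Matrix ι ι F) = Re (A.1 ⊗ₖ B.1) := by rw [← hy, ← hz]; rfl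
  have hx : x = (g * P) * y * (g * P)⁻¹ := by
    rw [MulEquiv.coe_toMonoidHom, MulAut.conj_apply] at he
    rw [_root_.mul_inv_rev, show g * P * y * (P⁻¹ * g⁻¹) = g * (P * y * P⁻¹) * g⁻¹ by group, he]
    group
  have hxM : (x : Matrix ι ι F) = ((g * P : GL ι F) : Matrix ι ι F) * (y : Matrix ι ι F) * (((g * P)⁻¹ : GL ι F) : Matrix ι ι F) := by
    rw [← Units.val_mul, ← Units.val_mul, ← hx]
  have h1 : aeval (x : Matrix ι ι F) f = ((g * P : GL ι F) : Matrix ι ι F) * Re (aeval (A.1 ⊗ₖ B.1) f) * (((g * P)⁻¹ : GL ι F) : Matrix ι ι F) := by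
    rw [hxM, aeval_conj (P := (((g * P)⁻¹ : GL ι F) : Matrix ι ι F)) (Units.inv_mul (g * P)) (Units.mul_inv (g * P)), hyM]
    congr 2
    exact Polynomial.aeval_algHom_apply Re.toAlgHom (A.1 ⊗ₖ B.1) f
  rw [h1, Matrix.rank_mul_eq_left_of_isUnit_det _ _ (by rw [← Matrix.isUnit_iff_isUnit_det]; exact Units.isUnit _),
    Matrix.rank_mul_eq_right_of_isUnit_det _ _ (by rw [← Matrix.isUnit_iff_isUnit_det]; exact Units.isUnit _)]
  exact Matrix.rank_reindex _ _ _

/-- The obstruction. -/
theorem dvd_rank {ι : Type} [Fintype ι] [DecidableEq ι] {e : ι ≃ Fin a × Fin b} {P g x : GL ι F} (ha : 0 < a)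
    (h : g⁻¹ * x * g ∈ Cfsg.Geo.tensorProductSubgroup a b e P) {μ : F} (hμ : μ ≠ 0)
    (hrk : ((x : Matrix ι ι F) - μ • 1).rank < b) : ∀ ν : F, a ∣ ((x : Matrix ι ι F) - ν • 1).rank := by
  obtain ⟨A, B, hA, hB, hf⟩ := exists_data h
  have hlin : ∀ ν : F, ((x : Matrix ι ι F) - ν • 1).rank = (A ⊗ₖ B - ν • 1).rank := fun ν => by
    have := hf (X - Polynomial.C ν)
    simpa [Algebra.algebraMap_eq_smul_one] using this
  rw [hlin] at hrk
  obtain ⟨α, rfl⟩ := scalar_of_small_rank hB ha hμ hrk
  intro ν
  rw [hlin, Matrix.smul_kronecker, ← Matrix.kronecker_smul, ← Matrix.one_kronecker_one, ← Matrix.kronecker_smul,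
    show (1 : Matrix (Fin a) (Fin a) F) ⊗ₖ (α • B) - (1 : Matrix (Fin a) (Fin a) F) ⊗ₖ (ν • 1) =
      (1 : Matrix (Fin a) (Fin a) F) ⊗ₖ (α • B - ν • 1) by ext p q; simp [mul_sub], rank_one_kronecker]
  exact dvd_mul_right a _

theorem rank_diag (d : Fin n → F) (ν : F) :
    (Matrix.diagonal d - ν • (1 : M)).rank = Nat.card {i // d i ≠ ν} := by
  classical
  rw [Matrix.smul_one_eq_diagonal, Matrix.diagonal_sub, Matrix.rank_diagonal, Nat.card_eq_fintype_card]
  exact Fintype.card_congr (Equiv.subtypeEquivRight fun i => not_congr sub_eq_zero)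

theorem mk_GL (A : M) (h : A.det = 1) :
    ∃ x : GL (Fin n) F, (x : M) = A ∧ x ∈ Cfsg.Geo.specialLinear (Fin n) F :=
  ⟨Matrix.GeneralLinearGroup.mkOfDetNeZero A (by rw [h]; exact one_ne_zero), rfl,
    MonoidHom.mem_ker.2 (Units.ext (by simpa using h))⟩

section

variable [Fintype F] {p : ℕ} [Fact p.Prime] [CharP F p] {r : ℕ} [hr : Fact r.Prime]

/-- Transvections. -/
theorem bad_transvection (hrp : r = p) (hn : 2 ≤ n) :
    ∃ x ∈ Cfsg.Geo.specialLinear (Fin n) F, ((x ^ r : GL (Fin n) F) : M) = (1 : F) • 1 ∧ (∀ z : F, (x : M) ≠ z • 1) ∧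
      ((x : M) - (1 : F) • 1).rank = 1 := by
  classical
  let i : Fin n := ⟨0, by omega⟩
  let j : Fin n := ⟨1, by omega⟩
  have hij : i ≠ j := by simp [i, j]
  obtain ⟨x, hx, hxS⟩ := mk_GL (Matrix.transvection i j (1 : F)) (Matrix.det_transvection_of_ne _ _ hij 1)
  have hpow : ∀ m : ℕ, Matrix.transvection i j (1 : F) ^ m = Matrix.transvection i j (m : F) := fun m => by
    induction m with
    | zero => simp
    | succ m ih => rw [pow_succ, ih, Matrix.transvection_mul_transvection_same _ _ hij, Nat.cast_succ]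
  refine ⟨x, hxS, ?_, fun z hz => ?_, ?_⟩
  · rw [Units.val_pow_eq_pow_val, hx, hpow, hrp, CharP.cast_eq_zero, Matrix.transvection_zero, one_smul]
  · rw [hx] at hz
    have := congrFun (congrFun hz i) j
    simp [Matrix.transvection, hij] at this
  · rw [hx, one_smul, Matrix.transvection, add_sub_cancel_left]
    have h1 : (Matrix.single i j (1 : F)).rank ≤ 1 := by
      rw [show Matrix.single i j (1 : F) = Matrix.vecMulVec (Pi.single i 1) (Pi.single j 1) by
        rw [Matrix.single_eq_single_vecMulVec_single]]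
      exact Matrix.rank_vecMulVec_le _ _
    have h2 : (Matrix.single i j (1 : F)).rank ≠ 0 := by
      intro h0
      rw [Matrix.rank, Submodule.finrank_eq_zero, LinearMap.range_eq_bot] at h0
      have := congrFun (LinearMap.congr_fun h0 (Pi.single j 1)) i
      simp at this
    omega

/-- The block element. -/
theorem bad_block (hrp : r ≠ p) {c : ℕ} (hc : orderOf ((Fintype.card F : ℕ) : ZMod r) = c) (hc1 : c ≠ 1) (hcn : c ≤ n) :
    ∃ (x : GL (Fin n) F) (g : F[X]), x ∈ Cfsg.Geo.specialLinear (Fin n) F ∧ (x : M) ^ r = 1 ∧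
      (∀ z : F, (x : M) ≠ z • 1) ∧ ((x : M) - (1 : F) • 1).rank = c ∧ Irreducible g ∧ g.natDegree = c ∧
      g ∣ cyclotomic r F ∧ (aeval (x : M) g).rank = n - c := by
  classical
  obtain ⟨g, hg, hgd⟩ := WfDvdMonoid.exists_irreducible_factor
    (not_isUnit_of_natDegree_pos (cyclotomic r F) (by rw [natDegree_cyclotomic]; exact Nat.totient_pos.2 hr.out.pos))
    (cyclotomic_ne_zero r F)
  have hgi : g.natDegree = c := (PrimeElemFlags.deg_eq rfl hrp g hg hgd).trans hc
  have hc0 : 0 < c := hgi ▸ hg.natDegree_pos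
  have : Fact (Irreducible g) := ⟨hg⟩
  have : FiniteDimensional F (AdjoinRoot g) := (AdjoinRoot.powerBasis hg.ne_zero).finite
  have hfr : finrank F (AdjoinRoot g) = c := by
    rw [(AdjoinRoot.powerBasis hg.ne_zero).finrank, AdjoinRoot.powerBasis_dim, hgi]
  let α : AdjoinRoot g := AdjoinRoot.root g
  have hcyc : aeval α (cyclotomic r F) = 0 := by
    obtain ⟨Q, hQ⟩ := hgd
    rw [hQ, map_mul, AdjoinRoot.aeval_eq, AdjoinRoot.mk_self, zero_mul]
  have hα : α ^ r = 1 := by
    have h := congrArg (aeval α) (cyclotomic_prime_mul_X_sub_one F r)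
    rw [map_mul, hcyc, zero_mul, map_sub, map_pow, aeval_X, map_one] at h
    exact sub_eq_zero.1 h.symm
  let y : End F (AdjoinRoot g × (Fin (n - c) → F)) :=
    (Algebra.lsmul F F (AdjoinRoot g) α).prodMap (1 : End F (Fin (n - c) → F))
  have hy : y ^ r = 1 := by
    rw [PrimeElemFlags.prodMap_pow', ← map_pow, hα, map_one, one_pow, LinearMap.prodMap_one]
  have hyg : ∀ (f : F[X]) v, aeval y f v = (aeval α f * v.1, f.eval 1 • v.2) := by
    intro f
    induction f using Polynomial.induction_on with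
    | C a => intro v; rw [aeval_C, Module.algebraMap_end_apply, aeval_C]; ext <;> simp [Algebra.smul_def]
    | add a b ha hb => intro v; simp [ha, hb, add_mul, add_smul]
    | monomial j a ih =>
      intro v
      rw [pow_succ, ← mul_assoc, map_mul, End.mul_apply, aeval_X, ih]
      simp [y, mul_assoc]
  let e : (AdjoinRoot g × (Fin (n - c) → F)) ≃ₗ[F] (Fin n → F) := LinearEquiv.ofFinrankEq _ _ (by
    rw [Module.finrank_prod, hfr, Module.finrank_fin_fun, Module.finrank_fin_fun]; omega)
  set Y : M := LinearMap.toMatrix' (e.conj y) with hY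
  have hYy : Y ^ r = 1 := by
    rw [hY]
    refine Matrix.toLin'.injective ?_
    rw [Matrix.toLin'_pow, Matrix.toLin'_one, Matrix.toLin'_toMatrix', PrimeElemFlags.conj_pow, hy, End.one_eq_id,
      LinearEquiv.conj_id]
  have hYg : ∀ f : F[X], aeval Y f = LinearMap.toMatrix' (e.conj (aeval y f)) := fun f => by
    induction f using Polynomial.induction_on with
    | C a =>
      rw [aeval_C, aeval_C, Algebra.algebraMap_eq_smul_one, Algebra.algebraMap_eq_smul_one, map_smul, map_smul,
        End.one_eq_id, LinearEquiv.conj_id, LinearMap.toMatrix'_id]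
    | add a b ha hb => rw [map_add, map_add, map_add, map_add, ha, hb]
    | monomial j a ih =>
      rw [pow_succ, ← mul_assoc, map_mul, map_mul (aeval y), aeval_X, aeval_X, ih, hY, ← LinearMap.toMatrix'_comp]
      congr 1
      apply LinearMap.ext
      intro v
      simp [LinearEquiv.conj_apply]
  have hrank : ∀ f : F[X], (aeval Y f).rank = finrank F (LinearMap.range (aeval y f)) := fun f => by
    rw [hYg, Matrix.rank, ← Matrix.toLin'_apply', Matrix.toLin'_toMatrix', LinearEquiv.conj_apply,
      LinearMap.range_comp_of_range_eq_top _ (LinearEquiv.range _), LinearMap.range_comp, LinearEquiv.finrank_map_eq]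
  have hnd : ¬ r ∣ Fintype.card F - 1 := fun h => hc1 (hc ▸ (PrimeElemFlags.order_eq_one_iff rfl).2 h)
  have hroot : ∀ d : F, d ^ r = 1 → d = 1 := fun d hd => by
    have hd0 : d ≠ 0 := fun h => by rw [h, zero_pow hr.out.ne_zero] at hd; exact zero_ne_one hd
    simpa [((Nat.Prime.coprime_iff_not_dvd hr.out).2 hnd).gcd_eq_one] using
      pow_gcd_eq_one.2 ⟨hd, FiniteField.pow_card_sub_one_eq_one d hd0⟩
  obtain ⟨x, hx, hxS⟩ := mk_GL Y (hroot _ (by rw [← Matrix.det_pow, hYy, Matrix.det_one]))
  have hg1 : g.eval 1 ≠ 0 := fun h0 => by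
    have h1 := natDegree_eq_of_degree_eq (degree_eq_degree_of_associated
      ((irreducible_X_sub_C (1 : F)).associated_of_dvd hg (dvd_iff_isRoot.2 h0)))
    rw [natDegree_X_sub_C, hgi] at h1
    exact hc1 h1.symm
  have hα1 : aeval α (X - Polynomial.C (1 : F)) ≠ 0 := by
    intro h0
    rw [AdjoinRoot.aeval_eq, AdjoinRoot.mk_eq_zero] at h0
    have h4 := natDegree_le_of_dvd h0 (X_sub_C_ne_zero 1)
    rw [natDegree_X_sub_C, hgi] at h4
    omega
  have hr1 : ((x : M) - (1 : F) • 1).rank = c := by
    rw [hx, show Y - (1 : F) • (1 : M) = aeval Y (X - Polynomial.C (1 : F)) by simp, hrank]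
    have : LinearMap.range (aeval y (X - Polynomial.C (1 : F))) = LinearMap.range (LinearMap.inl F (AdjoinRoot g) (Fin (n - c) → F)) := by
      refine le_antisymm ?_ ?_
      · rintro _ ⟨v, rfl⟩
        exact ⟨aeval α (X - Polynomial.C (1 : F)) * v.1, by rw [hyg]; simp⟩
      · rintro _ ⟨w, rfl⟩
        exact ⟨((aeval α (X - Polynomial.C (1 : F)))⁻¹ * w, 0), by rw [hyg]; exact Prod.ext (mul_inv_cancel_left₀ hα1 w) (by simp)⟩
    rw [this, LinearMap.finrank_range_of_inj LinearMap.inl_injective, hfr]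
  refine ⟨x, g, hxS, by rw [hx]; exact hYy, fun z hz => ?_, hr1, hg, hgi, hgd, ?_⟩
  · have hz1 : z = 1 := by
      refine hroot z ?_
      have h2 := hYy
      rw [← hx, hz, _root_.smul_pow, one_pow] at h2
      have h := congrFun (congrFun h2 ⟨0, by omega⟩) ⟨0, by omega⟩
      simpa using h
    rw [hz, hz1, sub_self, Matrix.rank_zero] at hr1
    omega
  · rw [hx, hrank]
    have : LinearMap.range (aeval y g) = LinearMap.range (LinearMap.inr F (AdjoinRoot g) (Fin (n - c) → F)) := by
      refine le_antisymm ?_ ?_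
      · rintro _ ⟨v, rfl⟩
        exact ⟨g.eval 1 • v.2, by rw [hyg]; simp [α, AdjoinRoot.aeval_eq]⟩
      · rintro _ ⟨w, rfl⟩
        exact ⟨(0, (g.eval 1)⁻¹ • w), by rw [hyg]; simp [smul_inv_smul₀ hg1]⟩
    rw [this, LinearMap.finrank_range_of_inj LinearMap.inr_injective, Module.finrank_fin_fun]

/-- The block element is not in the stabiliser. -/
theorem not_mem_block (hrp : r ≠ p) {c : ℕ} (hc : orderOf ((Fintype.card F : ℕ) : ZMod r) = c) (hc1 : c ≠ 1)
    (hn : n = a * b) (ha : 2 ≤ a) (hab : a < b) (hcn : c ≤ n) {x : GL (Fin n) F} {g : F[X]} (hxr : (x : M) ^ r = 1)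
    (hx1 : ((x : M) - (1 : F) • 1).rank = c) (hg : Irreducible g) (hgc : g.natDegree = c) (hgd : g ∣ cyclotomic r F)
    (hgr : (aeval (x : M) g).rank = n - c) {e : Fin n ≃ Fin a × Fin b} {P h : GL (Fin n) F} :
    ¬ h⁻¹ * x * h ∈ Cfsg.Geo.tensorProductSubgroup a b e P := by
  classical
  intro hm
  obtain ⟨A, B, hA, hB, hf⟩ := exists_data hm
  have hr0 : (r : F) ≠ 0 := PrimeElemFlags.cast_ne_zero hrp
  have hAB : (A ⊗ₖ B) ^ r = 1 := by
    have h1 := hf (X ^ r - Polynomial.C 1)
    rw [map_sub, map_pow, aeval_X, map_sub, map_pow, aeval_X, aeval_C, aeval_C, map_one, map_one, hxr, sub_self,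
      Matrix.rank_zero, eq_comm, Matrix.rank, Submodule.finrank_eq_zero, LinearMap.range_eq_bot] at h1
    have h2 := Matrix.toLin'.injective (h1.trans (map_zero Matrix.toLin').symm)
    exact sub_eq_zero.1 h2
  obtain ⟨α, hα⟩ : ∃ α : F, A = α • 1 := by
    by_cases hcb : c < b
    · refine scalar_of_small_rank hB (by omega) (one_ne_zero (α := F)) ?_
      have h1 := hf (X - Polynomial.C 1)
      simp only [map_sub, aeval_X, aeval_C, Algebra.algebraMap_eq_smul_one] at h1
      rw [← h1, hx1]
      exact hcb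
    -- here `A` has a power that is scalar, hence is scalar
    have hpow : ∀ m : ℕ, (A ⊗ₖ B) ^ m = (A ^ m) ⊗ₖ (B ^ m) := fun m => by
      induction m with
      | zero => simp
      | succ m ih => rw [pow_succ, ih, ← Matrix.mul_kronecker_mul, pow_succ, pow_succ]
    rw [hpow] at hAB
    obtain ⟨k, hk⟩ : ∃ k, (B ^ r) k k ≠ 0 := by
      by_contra hne
      push Not at hne
      have := congrFun (congrFun hAB (⟨0, by omega⟩, ⟨0, by omega⟩)) (⟨0, by omega⟩, ⟨0, by omega⟩)
      simp [hne] at this
    have hAr : A ^ r = ((B ^ r) k k)⁻¹ • 1 := by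
      ext i j
      have := congrFun (congrFun hAB (i, k)) (j, k)
      rw [Matrix.kronecker_apply] at this
      rw [Matrix.smul_apply, smul_eq_mul, eq_inv_mul_iff_mul_eq₀ hk, mul_comm, this]
      simp [Matrix.one_apply]
    obtain ⟨β, hβ0, hβ⟩ := PrimeElemFlags.exists_root (r := r) rfl hrp (hc.symm ▸ hc1) (inv_ne_zero hk)
    refine ⟨β, ?_⟩
    have hA' : (Matrix.toLin' (β⁻¹ • A)) ^ r = 1 := by
      rw [← Matrix.toLin'_pow, _root_.smul_pow, hAr, smul_smul, inv_pow, hβ, inv_mul_cancel₀ (inv_ne_zero hk), one_smul,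
        Matrix.toLin'_one]
      rfl
    obtain ⟨s, hs, -⟩ := PrimeElemFlags.split hr0 (i := c) (fun g hg hd => (PrimeElemFlags.deg_eq rfl hrp g hg hd).trans hc) hA'
    rw [Module.finrank_fin_fun] at hs
    have hs0 : s = 0 := by
      rcases Nat.eq_zero_or_pos s with h0 | h0
      · exact h0
      · have := Nat.le_mul_of_pos_right c h0
        omega
    rw [hs0, mul_zero, add_zero] at hs
    have htop : LinearMap.ker (Matrix.toLin' (β⁻¹ • A) - 1) = ⊤ :=
      Submodule.eq_top_of_finrank_eq (by rw [hs, Module.finrank_fin_fun])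
    rw [LinearMap.ker_eq_top, sub_eq_zero] at htop
    have h3 : β⁻¹ • A = 1 := Matrix.toLin'.injective (htop.trans Matrix.toLin'_one.symm)
    rw [← h3, smul_smul, mul_inv_cancel₀ hβ0, one_smul]
  have hC : A ⊗ₖ B = (1 : Matrix (Fin a) (Fin a) F) ⊗ₖ (α • B) := by
    rw [hα, Matrix.smul_kronecker, Matrix.kronecker_smul]
  rw [hC] at hAB
  have h2 := hf g
  rw [hgr, hC, aeval_one_kronecker, rank_one_kronecker] at h2
  set Cm := α • B
  have hCr : Cm ^ r = 1 := by
    have hpow1 : ∀ m : ℕ, ((1 : Matrix (Fin a) (Fin a) F) ⊗ₖ Cm) ^ m = (1 : Matrix (Fin a) (Fin a) F) ⊗ₖ (Cm ^ m) := fun m => by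
      induction m with
      | zero => simp
      | succ m ih => rw [pow_succ, ih, ← Matrix.mul_kronecker_mul, pow_succ, one_mul]
    rw [hpow1] at hAB
    ext k l
    have := congrFun (congrFun hAB (⟨0, by omega⟩, k)) (⟨0, by omega⟩, l)
    simpa [Matrix.one_apply] using this
  set y := Matrix.toLin' Cm
  have hy : y ^ r = 1 := by rw [← Matrix.toLin'_pow, hCr, Matrix.toLin'_one]; rfl
  have hker := (aeval y g).finrank_range_add_finrank_ker
  have hcoe : Matrix.toLin' (aeval Cm g) = aeval y g :=
    (Polynomial.aeval_algHom_apply (Matrix.toLinAlgEquiv' (R := F) (n := Fin b)).toAlgHom Cm g).symm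
  rw [Matrix.rank, ← Matrix.toLin'_apply', hcoe] at h2
  rw [Module.finrank_fin_fun] at hker
  obtain ⟨⟨j, hj⟩, -⟩ := PrimeElem.uniform (PrimeElemFlags.sq hr0 one_ne_zero)
    (PrimeElemFlags.aeval_eq_zero (c := (1 : F)) (by rw [hy, one_smul])) g hg.ne_zero (d := c)
    (fun g' hg' hd => by
      rw [natDegree_eq_of_degree_eq (degree_eq_degree_of_associated (hg'.associated_of_dvd hg hd)), hgc])
    _ (LinearMap.ker (aeval y g)) rfl (PrimeElem.map_ker_le y g) (fun v hv => hv)
  rw [hj] at hker
  have h5 := congrArg (a * ·) hker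
  simp only [mul_add] at h5
  rw [← h2, ← hn, mul_left_comm a c j] at h5
  have hc0 : 0 < c := hgc ▸ hg.natDegree_pos
  have hone : a * j = 1 := Nat.eq_of_mul_eq_mul_left hc0 (by rw [mul_one]; omega)
  have := Nat.eq_one_of_mul_eq_one_right hone
  omega

/-- A diagonal form of an involution up to scalars. -/
theorem exists_diag_form (h2 : (2 : F) ≠ 0) {Z : M} {c : F} (hc : c ≠ 0) (hZ : Z * Z = (c * c) • 1) :
    ∃ (m : ℕ) (d : Fin n → F) (T : M), T.det ≠ 0 ∧ m = (Z - c • 1).rank ∧
      (d = fun i : Fin n => if (i : ℕ) < m then -c else c) ∧ Z * T = T * Matrix.diagonal d := by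
  classical
  set y := Matrix.toLin' Z with hy
  have hy2 : ∀ v, y (y v) = (c * c) • v := fun v => by
    rw [hy, Matrix.toLin'_apply, Matrix.toLin'_apply, Matrix.mulVec_mulVec, hZ, Matrix.smul_mulVec, Matrix.one_mulVec]
  let Ep := LinearMap.ker (y - c • 1)
  let Em := LinearMap.ker (y + c • 1)
  have hEp : ∀ v, v ∈ Ep ↔ y v = c • v := fun v => by simp [Ep, sub_eq_zero]
  have hEm : ∀ v, v ∈ Em ↔ y v = (-c) • v := fun v => by simp [Em, add_eq_zero_iff_eq_neg]
  have hcompl : IsCompl Em Ep := by
    refine IsCompl.of_eq ?_ ?_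
    · rw [eq_bot_iff]
      rintro v ⟨h3, h1⟩
      have e : ((2 : F) * c) • v = 0 := by
        rw [two_mul, add_smul]
        nth_rewrite 1 [← (hEp v).1 h1]
        rw [(hEm v).1 h3, neg_smul, neg_add_cancel]
      exact (smul_eq_zero.1 e).resolve_left (mul_ne_zero h2 hc)
    · rw [eq_top_iff]
      intro v _
      have e : v = ((2 * c)⁻¹) • (c • v - y v) + ((2 * c)⁻¹) • (c • v + y v) := by
        rw [← smul_add, sub_add_add_cancel, ← two_smul F (c • v), smul_smul, smul_smul, mul_assoc,
          inv_mul_cancel₀ (mul_ne_zero h2 hc), one_smul]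
      rw [e]
      refine Submodule.add_mem_sup (Em.smul_mem _ ((hEm _).2 ?_)) (Ep.smul_mem _ ((hEp _).2 ?_))
      · rw [map_sub, map_smul, hy2]; module
      · rw [map_add, map_smul, hy2]; module
  have hdim : finrank F Em + finrank F Ep = n := by
    rw [Submodule.finrank_add_eq_of_isCompl hcompl, Module.finrank_fin_fun]
  have hm : finrank F Em = (Z - c • 1).rank := by
    have h := (y - c • 1).finrank_range_add_finrank_ker
    rw [Module.finrank_fin_fun] at h
    have h' : Matrix.toLin' (Z - c • 1) = y - c • 1 := by rw [map_sub, map_smul, Matrix.toLin'_one]; rfl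
    rw [Matrix.rank, ← Matrix.toLin'_apply', h']
    change finrank F Em + finrank F Ep = n at hdim
    change _ + finrank F Ep = n at h
    omega
  let b0 := ((Module.finBasis F Em).prod (Module.finBasis F Ep)).map (Submodule.prodEquivOfIsCompl Em Ep hcompl)
  let bb : Basis (Fin n) F (Fin n → F) := b0.reindex (finSumFinEquiv.trans (finCongr hdim))
  refine ⟨finrank F Em, _, (Pi.basisFun F (Fin n)).toMatrix bb, ?_, hm, rfl, ?_⟩
  · rw [← Basis.det_apply]; exact ((Pi.basisFun F (Fin n)).isUnit_det bb).ne_zero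
  · have hb : ∀ i : Fin n, y (bb i) = (if (i : ℕ) < finrank F Em then -c else c) • bb i := by
      intro i
      obtain ⟨s, rfl⟩ := (finSumFinEquiv.trans (finCongr hdim)).surjective i
      simp only [bb, Basis.reindex_apply, Equiv.symm_apply_apply]
      rcases s with j | j
      · rw [if_pos (by simp)]
        simpa [b0] using (hEm _).1 (Module.finBasis F Em j).2
      · rw [if_neg (by simp)]
        simpa [b0] using (hEp _).1 (Module.finBasis F Ep j).2
    ext i j
    have h1 := congrFun (hb j) i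
    rw [hy, Matrix.toLin'_apply, Matrix.mulVec, dotProduct, Pi.smul_apply, smul_eq_mul] at h1
    rw [Matrix.mul_diagonal, Matrix.mul_apply]
    simp only [Basis.toMatrix_apply, Pi.basisFun_repr]
    rw [h1, mul_comm]

/-- Two involutions up to scalars with equal fixed dimensions are conjugate by a matrix of determinant one. -/
theorem conj_of_square (h2 : (2 : F) ≠ 0) (hn : 0 < n) {X Y : M} {c : F} (hc : c ≠ 0)
    (hX : X * X = (c * c) • 1) (hY : Y * Y = (c * c) • 1) (hrk : (X - c • 1).rank = (Y - c • 1).rank) :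
    ∃ S : M, S.det = 1 ∧ X * S = S * Y := by
  classical
  obtain ⟨m, d, T, hT, hm, rfl, hXT⟩ := exists_diag_form h2 hc hX
  obtain ⟨m', d', T', hT', hm', rfl, hYT⟩ := exists_diag_form h2 hc hY
  obtain rfl : m' = m := by rw [hm, hm', hrk]
  let ε : Fin n → F := fun i => if i = ⟨0, hn⟩ then T'.det / T.det else 1
  refine ⟨T * Matrix.diagonal ε * T'⁻¹, ?_, ?_⟩
  · rw [Matrix.det_mul, Matrix.det_mul, Matrix.det_diagonal, Finset.prod_ite_eq', if_pos (Finset.mem_univ _),
      Matrix.det_nonsing_inv, Ring.inverse_eq_inv']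
    field_simp
  · have hu := isUnit_iff_ne_zero.2 hT'
    set D := Matrix.diagonal fun i : Fin n => if (i : ℕ) < m' then -c else c with hD
    have h' : T'⁻¹ * Y = D * T'⁻¹ := by
      have h := congrArg (fun Z => T'⁻¹ * Z * T'⁻¹) hYT
      simp only [mul_assoc, Matrix.mul_nonsing_inv _ hu, mul_one] at h
      rw [h, ← mul_assoc, Matrix.nonsing_inv_mul _ hu, one_mul]
    have hcomm : D * Matrix.diagonal ε = Matrix.diagonal ε * D := by
      rw [hD, Matrix.diagonal_mul_diagonal, Matrix.diagonal_mul_diagonal]; simp only [mul_comm]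
    rw [mul_assoc (T * Matrix.diagonal ε), h', ← mul_assoc, ← mul_assoc, ← mul_assoc, hXT, mul_assoc T, hcomm, ← mul_assoc]

/-- Involutions when `a = 2`. -/
theorem good_involution (hodd : Odd (Fintype.card F)) (hb : 0 < b) (hn : n = 2 * b)
    (hv : padicValNat 2 (Fintype.card F - 1) ≤ padicValNat 2 n) (e : Fin n ≃ Fin 2 × Fin b) (P : GL (Fin n) F)
    {x : GL (Fin n) F} (hx : x ∈ Cfsg.Geo.specialLinear (Fin n) F) {z : F} (hz : (x : M) ^ 2 = z • 1) :
    ∃ g ∈ Cfsg.Geo.specialLinear (Fin n) F, g⁻¹ * x * g ∈ Cfsg.Geo.tensorProductSubgroup 2 b e P := by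
  classical
  have h2 : (2 : F) ≠ 0 := by
    intro h
    have : CharP F 2 := CharTwo.of_one_ne_zero_of_two_eq_zero one_ne_zero h
    have h2d : 2 ∣ Fintype.card F := (CharP.cast_eq_zero_iff F 2 _).1 (Nat.cast_card_eq_zero F)
    exact (Nat.not_even_iff_odd.2 hodd) (even_iff_two_dvd.2 h2d)
  have hdetx : (x : M).det = 1 := by simpa using congrArg Units.val (MonoidHom.mem_ker.1 hx)
  have hz0 : z ≠ 0 := fun h => by
    have h1 := congrArg Matrix.det hz
    have : Nonempty (Fin n) := ⟨⟨0, by omega⟩⟩
    rw [Matrix.det_pow, hdetx, one_pow, h, zero_smul, Matrix.det_zero] at h1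
    exact one_ne_zero h1
  -- it is enough to find a conjugate Kronecker product
  suffices h : ∃ (A : GL (Fin 2) F) (B : GL (Fin b) F) (S : M), S.det = 1 ∧
      (x : M) * S = S * ((P : M) * Matrix.reindexAlgEquiv F F e.symm (A.1 ⊗ₖ B.1) * ((P⁻¹ : GL (Fin n) F) : M)) by
    obtain ⟨A, B, S, hS, h⟩ := h
    obtain ⟨g, hg, hgS⟩ := mk_GL S hS
    let K : GL (Fin 2 × Fin b) F := ⟨A.1 ⊗ₖ B.1, (A⁻¹).1 ⊗ₖ (B⁻¹).1,
      by rw [← Matrix.mul_kronecker_mul, Units.mul_inv, Units.mul_inv, Matrix.one_kronecker_one],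
      by rw [← Matrix.mul_kronecker_mul, Units.inv_mul, Units.inv_mul, Matrix.one_kronecker_one]⟩
    refine ⟨g, hgS, Cfsg.Geo.glReindex e.symm K, ⟨K, ⟨A, B, rfl⟩, rfl⟩, ?_⟩
    rw [MulEquiv.coe_toMonoidHom, MulAut.conj_apply, mul_assoc g⁻¹, eq_inv_mul_iff_mul_eq]
    refine Units.ext ?_
    rw [Units.val_mul, Units.val_mul, Units.val_mul, Units.val_mul, hg]
    exact h.symm
  set R := Matrix.reindexAlgEquiv F F e.symm with hR
  have hY : ∀ K : Matrix (Fin 2 × Fin b) (Fin 2 × Fin b) F, ∀ w : F, K * K = w • 1 →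
      ((P : M) * R K * ((P⁻¹ : GL (Fin n) F) : M)) * ((P : M) * R K * ((P⁻¹ : GL (Fin n) F) : M)) = w • 1 := by
    intro K w hK
    simp only [mul_assoc]
    rw [← mul_assoc ((P⁻¹ : GL (Fin n) F) : M), Units.inv_mul, one_mul, ← mul_assoc (R K), ← map_mul, hK, map_smul, map_one,
      smul_mul_assoc, one_mul, mul_smul_comm, Units.mul_inv]
  by_cases hsq : IsSquare z
  · obtain ⟨c, rfl⟩ := hsq
    have hc : c ≠ 0 := left_ne_zero_of_mul hz0
    rw [pow_two] at hz
    -- the multiplicity of `-c` is even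
    obtain ⟨m, d, T, hT, hm, rfl, hxT⟩ := exists_diag_form h2 hc hz
    have hmn : m ≤ n := hm ▸ Matrix.rank_le_height _
    have hdet : c ^ n * (-1) ^ m = 1 := by
      have h := congrArg Matrix.det hxT
      rw [Matrix.det_mul, Matrix.det_mul, hdetx, one_mul, Matrix.det_diagonal] at h
      have h1 := mul_left_cancel₀ hT (h.symm.trans (mul_one _).symm)
      refine Eq.trans (Eq.symm ?_) h1
      rw [show (fun i : Fin n => if (i : ℕ) < m then -c else c) = fun i : Fin n => c * (if (i : ℕ) < m then -1 else 1) by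
        funext i; split_ifs <;> simp, Finset.prod_mul_distrib, Finset.prod_const, Finset.card_univ, Fintype.card_fin,
        Finset.prod_ite, Finset.prod_const, Finset.prod_const, one_pow, mul_one,
        show (Finset.univ.filter fun i : Fin n => (i : ℕ) < m).card = m by
          rw [← Fintype.card_subtype, Fintype.card_congr (Fin.castLEquiv hmn).symm, Fintype.card_fin]]
    have hev : Even m := by
      by_contra hne
      rw [(Nat.not_even_iff_odd.1 hne).neg_one_pow, mul_neg_one, neg_eq_iff_eq_neg] at hdet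
      set u := n / 2 ^ padicValNat 2 n with hu
      have hnu : n = 2 ^ padicValNat 2 n * u := (Nat.mul_div_cancel' pow_padicValNat_dvd).symm
      have huo : Odd u := by
        rw [← Nat.not_even_iff_odd, even_iff_two_dvd]
        intro h'
        refine pow_succ_padicValNat_not_dvd (p := 2) (show n ≠ 0 by omega) ?_
        conv_rhs => rw [hnu]
        rw [pow_succ]
        exact Nat.mul_dvd_mul_left _ h'
      let w : Fˣ := (Units.mk0 c hc) ^ u
      have hw1 : w ^ 2 ^ padicValNat 2 n = -1 := by
        apply Units.ext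
        show (c ^ u) ^ 2 ^ padicValNat 2 n = -1
        rw [← pow_mul, mul_comm, ← hnu, hdet]
      have hord : orderOf w = 2 ^ (padicValNat 2 n + 1) := by
        refine orderOf_eq_prime_pow ?_ ?_
        · rw [hw1]
          intro h'
          have h'' := congrArg Units.val h'
          simp at h''
          exact h2 (by linear_combination -h'')
        · rw [pow_succ, pow_mul, hw1]; simp
      have h5 : 2 ^ (padicValNat 2 n + 1) ∣ Fintype.card F - 1 := by
        rw [← hord, ← PrimeElemFlags.card_sub_one rfl]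
        exact orderOf_dvd_natCard w
      have h6 := (padicValNat_dvd_iff_le (show Fintype.card F - 1 ≠ 0 by
        have : 2 ≤ Fintype.card F := Fintype.one_lt_card
        omega)).1 h5
      omega
    obtain ⟨l, hl⟩ := hev
    let dB : Fin b → F := fun k => if (k : ℕ) < l then -c else c
    let B : GL (Fin b) F := Matrix.GeneralLinearGroup.mkOfDetNeZero (Matrix.diagonal dB) (by
      rw [Matrix.det_diagonal]
      exact Finset.prod_ne_zero_iff.2 fun k _ => by
        show (if (k : ℕ) < l then -c else c) ≠ 0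
        split_ifs <;> simp [hc])
    set K : Matrix (Fin 2 × Fin b) (Fin 2 × Fin b) F := (1 : Matrix (Fin 2) (Fin 2) F) ⊗ₖ Matrix.diagonal dB with hK
    have hKK : K * K = (c * c) • 1 := by
      rw [hK, ← Matrix.mul_kronecker_mul, one_mul, Matrix.diagonal_mul_diagonal,
        show (fun k => dB k * dB k) = fun _ => c * c by funext k; simp only [dB]; split_ifs <;> ring,
        ← Matrix.smul_one_eq_diagonal, Matrix.kronecker_smul, Matrix.one_kronecker_one]
    have hrk : ((x : M) - c • 1).rank = ((P : M) * R K * ((P⁻¹ : GL (Fin n) F) : M) - c • 1).rank := by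
      have e1 : (P : M) * R K * ((P⁻¹ : GL (Fin n) F) : M) - c • 1 =
          (P : M) * R (K - c • 1) * ((P⁻¹ : GL (Fin n) F) : M) := by
        rw [map_sub, map_smul, map_one, mul_sub, sub_mul, mul_smul_comm, mul_one, smul_mul_assoc, Units.mul_inv]
      rw [e1, Matrix.rank_mul_eq_left_of_isUnit_det _ _ (by rw [← Matrix.isUnit_iff_isUnit_det]; exact Units.isUnit _),
        Matrix.rank_mul_eq_right_of_isUnit_det _ _ (by rw [← Matrix.isUnit_iff_isUnit_det]; exact Units.isUnit _), ← hm]
      refine Eq.trans ?_ (Matrix.rank_reindex _ _ _).symm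
      have e2 : K - c • 1 = (1 : Matrix (Fin 2) (Fin 2) F) ⊗ₖ (Matrix.diagonal dB - c • 1) := by
        rw [hK, ← Matrix.one_kronecker_one, ← Matrix.kronecker_smul]; ext p q; simp [mul_sub]
      rw [e2, rank_one_kronecker, rank_diag, Nat.card_eq_fintype_card,
        Fintype.card_congr ((Equiv.subtypeEquivRight (q := fun k : Fin b => (k : ℕ) < l) fun k => by
          simp only [dB]
          split_ifs with hk
          · simp only [hk, iff_true]
            exact fun h' => mul_ne_zero h2 hc (by linear_combination -h')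
          · simp [hk]).trans (Fin.castLEquiv (show l ≤ b by omega)).symm), Fintype.card_fin]
      omega
    obtain ⟨S, hS, hxS⟩ := conj_of_square h2 (by omega) hc hz (hY _ _ hKK) hrk
    refine ⟨1, B, S, hS, ?_⟩
    exact hxS
  · have hroot : ∀ w : F, w * w ≠ 0 * w + z := fun w hw => hsq ⟨w, by rw [hw, zero_mul, zero_add]⟩
    let A0 : Matrix (Fin 2) (Fin 2) F := !![0, z; 1, 0]
    let A : GL (Fin 2) F := Matrix.GeneralLinearGroup.mkOfDetNeZero A0 (by simp [A0, Matrix.det_fin_two, hz0])
    have hA2 : A0 * A0 = z • 1 := by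
      ext i j; fin_cases i <;> fin_cases j <;> simp [A0, Matrix.mul_apply, Fin.sum_univ_two]
    have hKK : (A0 ⊗ₖ (1 : Matrix (Fin b) (Fin b) F)) * (A0 ⊗ₖ (1 : Matrix (Fin b) (Fin b) F)) = z • 1 := by
      rw [← Matrix.mul_kronecker_mul, hA2, one_mul, Matrix.smul_kronecker, Matrix.one_kronecker_one]
    rw [pow_two] at hz
    obtain ⟨S, hS⟩ := QuadField.exists_conj (s := 0) (t := z) (ω := (P : M) * R (A0 ⊗ₖ (1 : Matrix (Fin b) (Fin b) F)) * ((P⁻¹ : GL (Fin n) F) : M))
      (Ω := (x : M)) (by rw [zero_smul, zero_add]; exact hY _ z hKK) (by rw [zero_smul, zero_add]; exact hz) hroot hn hb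
    exact ⟨A, 1, S.1, S.2, hS⟩

end

/-- Elements of prime order of PSL_n(q) and the stabilizers of tensor decompositions with factors of different dimensions. Here `T = PSL_n(F)` for a field `F` with `q` elements and `n = a·b` with `2 ≤ a < b`; a tensor decomposition `F^n ≅ F^a ⊗ F^b` is given by a bijection `e` of index sets and a change of basis `P`, and `H` is the subgroup of matrices of determinant 1 in its stabilizer (the conjugate by `P` of the group of Kronecker products `g₁ ⊗ g₂`) — a subgroup of type GL_a(q) ⊗ GL_b(q) (maximality is not assumed); Ω is the set of cosets of `H` in `T`, so an element of `T` of prime order `r` (a matrix `x` of determinant 1 with `x^r` scalar, `x` not scalar) fixes a point of Ω exactly when some conjugate of `x` by a matrix of determinant 1 lies in `H`. Let `r` be a prime dividing the index of `H`. Then every element of `T` of order `r` fixes a point of Ω if and only if `r = 2`, `a = 2`, `q` is odd and `(q − 1)_2 ≤ (n)_2` (2-parts). -/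
theorem result {F : Type*} [Field F] [Fintype F] {p : ℕ} [Fact p.Prime] [CharP F p] {q : ℕ} (hq : Fintype.card F = q)
    (n a b : ℕ) (hab : n = a * b) (ha : 2 ≤ a) (hlt : a < b) (e : Fin n ≃ Fin a × Fin b) (P : GL (Fin n) F)
    (r : ℕ) [Fact r.Prime]
    (hΩ : r ∣ (Cfsg.Geo.tensorProductSubgroup a b e P).relIndex (Cfsg.Geo.specialLinear (Fin n) F)) :
    (∀ x ∈ Cfsg.Geo.specialLinear (Fin n) F, (∃ z : F, ((x ^ r : GL (Fin n) F) : Matrix (Fin n) (Fin n) F) = z • (1 : Matrix (Fin n) (Fin n) F)) →
      (∀ z : F, (x : Matrix (Fin n) (Fin n) F) ≠ z • (1 : Matrix (Fin n) (Fin n) F)) →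
      ∃ g ∈ Cfsg.Geo.specialLinear (Fin n) F, g⁻¹ * x * g ∈ Cfsg.Geo.tensorProductSubgroup a b e P) ↔
    (r = 2 ∧ a = 2 ∧ Odd q ∧ padicValNat 2 (q - 1) ≤ padicValNat 2 n) := by
  classical
  subst hq
  have hr : r.Prime := Fact.out
  have hn : 6 ≤ n := by rw [hab]; nlinarith
  have hq2 : 2 ≤ Fintype.card F := Fintype.one_lt_card
  constructor
  · intro h
    by_contra hne
    suffices hbad : ∃ x ∈ Cfsg.Geo.specialLinear (Fin n) F,
        (∃ z : F, ((x ^ r : GL (Fin n) F) : Matrix (Fin n) (Fin n) F) = z • 1) ∧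
        (∀ z : F, (x : Matrix (Fin n) (Fin n) F) ≠ z • 1) ∧
        ∀ g : GL (Fin n) F, ¬ g⁻¹ * x * g ∈ Cfsg.Geo.tensorProductSubgroup a b e P by
      obtain ⟨x, hxS, hx, hns, hb⟩ := hbad
      obtain ⟨g, -, hg⟩ := h x hxS hx hns
      exact hb g hg
    by_cases hrp : r = p
    · obtain ⟨x, hxS, hx, hns, hrk⟩ := bad_transvection (F := F) (n := n) hrp (by omega)
      refine ⟨x, hxS, ⟨1, hx⟩, hns, fun g hg => ?_⟩
      have h1 := dvd_rank (by omega) hg one_ne_zero (by omega) 1
      rw [hrk, Nat.dvd_one] at h1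
      omega
    by_cases hd : r ∣ Fintype.card F - 1
    · obtain ⟨u, hu⟩ := exists_prime_orderOf_dvd_card' (G := Fˣ) r (by rwa [PrimeElemFlags.card_sub_one rfl])
      have hur : (u : F) ^ r = 1 := by rw [← Units.val_pow_eq_pow_val, ← hu, pow_orderOf_eq_one, Units.val_one]
      have hu1 : (u : F) ≠ 1 := fun e' => by
        rw [Units.val_eq_one] at e'
        rw [e', orderOf_one] at hu
        exact hr.one_lt.ne hu
      let i0 : Fin n := ⟨0, by omega⟩
      let i1 : Fin n := ⟨1, by omega⟩
      let i2 : Fin n := ⟨2, by omega⟩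
      have h01 : i0 ≠ i1 := by simp [i0, i1]
      by_cases hr2 : r = 2 ∧ a = 2
      · obtain ⟨rfl, rfl⟩ := hr2
        have hodd : Odd (Fintype.card F) := by
          obtain ⟨t, ht⟩ := hd
          exact ⟨t, by omega⟩
        have h2 : (2 : F) ≠ 0 := by
          have := PrimeElemFlags.cast_ne_zero (F := F) hrp
          exact_mod_cast this
        have hv : padicValNat 2 n < padicValNat 2 (Fintype.card F - 1) := by
          by_contra hle
          exact hne ⟨rfl, rfl, hodd, by omega⟩
        obtain ⟨t, ht⟩ : 2 ^ (padicValNat 2 n + 1) ∣ Fintype.card F - 1 := (pow_dvd_pow 2 hv).trans pow_padicValNat_dvd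
        obtain ⟨G, hG⟩ := IsCyclic.exists_generator (α := Fˣ)
        have hw : orderOf (G ^ t) = 2 ^ (padicValNat 2 n + 1) := by
          have ht0 : t ≠ 0 := fun h0 => by rw [h0, mul_zero] at ht; omega
          rw [orderOf_pow' _ ht0, orderOf_eq_card_of_forall_mem_zpowers hG, PrimeElemFlags.card_sub_one rfl, ht,
            Nat.gcd_eq_right (dvd_mul_left _ _), Nat.mul_div_cancel _ (Nat.pos_of_ne_zero ht0)]
        have hw1 : ((G ^ t : Fˣ) : F) ^ 2 ^ padicValNat 2 n = -1 := by
          have h1 : (((G ^ t : Fˣ) : F) ^ 2 ^ padicValNat 2 n) * (((G ^ t : Fˣ) : F) ^ 2 ^ padicValNat 2 n) = 1 := by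
            rw [← pow_two, ← pow_mul, ← pow_succ, ← hw, ← Units.val_pow_eq_pow_val, pow_orderOf_eq_one, Units.val_one]
          refine (mul_self_eq_one_iff.1 h1).resolve_left fun h' => ?_
          rw [← Units.val_pow_eq_pow_val, Units.val_eq_one, ← orderOf_dvd_iff_pow_eq_one, hw,
            Nat.pow_dvd_pow_iff_le_right (by norm_num)] at h'
          omega
        set c : F := ((G ^ t : Fˣ) : F)
        have hc : c ≠ 0 := Units.ne_zero _
        have hcn : c ^ n = -1 := by
          obtain ⟨w, hw'⟩ : 2 ^ padicValNat 2 n ∣ n := pow_padicValNat_dvd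
          have hwo : Odd w := by
            rw [← Nat.not_even_iff_odd, even_iff_two_dvd]
            intro h'
            refine pow_succ_padicValNat_not_dvd (p := 2) (show n ≠ 0 by omega) ?_
            conv_rhs => rw [hw']
            rw [pow_succ]
            exact Nat.mul_dvd_mul_left _ h'
          conv_lhs => rw [hw']
          rw [pow_mul, hw1, hwo.neg_one_pow]
        let d : Fin n → F := fun i => if i = i0 then -c else c
        obtain ⟨x, hx, hxS⟩ := mk_GL (Matrix.diagonal d) (by
          rw [Matrix.det_diagonal, show d = fun i => c * (if i = i0 then -1 else 1) by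
            funext i; simp only [d]; split_ifs <;> simp, Finset.prod_mul_distrib, Finset.prod_const, Finset.card_univ,
            Fintype.card_fin, Finset.prod_ite_eq', if_pos (Finset.mem_univ _), hcn]
          simp)
        refine ⟨x, hxS, ⟨c * c, ?_⟩, fun z hz => ?_, fun g hg => ?_⟩
        · rw [Units.val_pow_eq_pow_val, hx, Matrix.diagonal_pow, Matrix.smul_one_eq_diagonal]
          congr 1
          funext i
          simp only [Pi.pow_apply, d]
          split_ifs <;> ring
        · rw [hx, Matrix.smul_one_eq_diagonal] at hz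
          have h0 := congrFun (Matrix.diagonal_injective hz) i0
          have h1 := congrFun (Matrix.diagonal_injective hz) i1
          simp [d, h01.symm] at h0 h1
          exact mul_ne_zero h2 hc (by linear_combination h1 - h0)
        · have hrk : ((x : Matrix (Fin n) (Fin n) F) - c • 1).rank = 1 := by
            rw [hx, rank_diag, Nat.card_eq_fintype_card, Fintype.card_eq_one_iff]
            refine ⟨⟨i0, ?_⟩, fun ⟨i, hi⟩ => ?_⟩
            · simp only [d, if_true]
              exact fun h' => mul_ne_zero h2 hc (by linear_combination -h')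
            · by_contra hne'
              exact hi (if_neg fun e' => hne' (Subtype.ext e'))
          have h1 := dvd_rank (by omega) hg hc (by omega) c
          rw [hrk] at h1
          omega
      let d : Fin n → F := fun i => if i = i0 then (u : F) else if i = i1 then ((u⁻¹ : Fˣ) : F) else 1
      obtain ⟨x, hx, hxS⟩ := mk_GL (Matrix.diagonal d) (by
        rw [Matrix.det_diagonal, Finset.prod_eq_mul i0 i1 h01 (fun j _ hj => by simp [d, hj.1, hj.2])
          (fun h' => absurd (Finset.mem_univ _) h') (fun h' => absurd (Finset.mem_univ _) h')]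
        simp [d, h01.symm])
      have hui : ((u⁻¹ : Fˣ) : F) ≠ 1 := fun e' => hu1 (by
        rw [Units.val_eq_one, inv_eq_one] at e'
        rw [e', Units.val_one])
      refine ⟨x, hxS, ⟨1, ?_⟩, fun z hz => ?_, fun g hg => ?_⟩
      · rw [Units.val_pow_eq_pow_val, hx, Matrix.diagonal_pow, one_smul, ← Matrix.diagonal_one]
        congr 1
        funext i
        simp only [Pi.pow_apply, d]
        split_ifs
        · exact hur
        · rw [← Units.val_pow_eq_pow_val, inv_pow, ← hu, pow_orderOf_eq_one, inv_one, Units.val_one]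
        · exact one_pow r
      · rw [hx, Matrix.smul_one_eq_diagonal] at hz
        have h0 := congrFun (Matrix.diagonal_injective hz) i0
        have h2' := congrFun (Matrix.diagonal_injective hz) i2
        simp [d, i0, i1, i2] at h0 h2'
        exact hu1 (h0.trans h2'.symm)
      · have hrk1 : ((x : Matrix (Fin n) (Fin n) F) - (1 : F) • 1).rank = 2 := by
          rw [hx, rank_diag, Nat.card_eq_fintype_card, Fintype.card_subtype, Finset.card_eq_two]
          refine ⟨i0, i1, h01, ?_⟩
          ext i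
          by_cases h0 : i = i0
          · subst h0; simp [d]; exact fun h' => hu1 (by rw [h', Units.val_one])
          by_cases h1 : i = i1
          · subst h1; simp [d, h0]; exact fun h' => hu1 (by rw [h', Units.val_one])
          simp [d, h0, h1]
        have h1 := dvd_rank (by omega) hg one_ne_zero (by omega)
        have ha2 : a = 2 := by
          have := Nat.le_of_dvd (by norm_num) (hrk1 ▸ h1 1)
          omega
        have hr2' : r ≠ 2 := fun e' => hr2 ⟨e', ha2⟩
        have huu : ((u⁻¹ : Fˣ) : F) ≠ u := fun e' => by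
          have h' : u⁻¹ = u := Units.ext e'
          rw [inv_eq_iff_mul_eq_one, ← pow_two] at h'
          have h'' := orderOf_dvd_of_pow_eq_one h'
          rw [hu] at h''
          exact hr2' ((Nat.prime_dvd_prime_iff_eq hr Nat.prime_two).1 h'')
        have hrku : ((x : Matrix (Fin n) (Fin n) F) - (u : F) • 1).rank = n - 1 := by
          rw [hx, rank_diag, Nat.card_eq_fintype_card, Fintype.card_subtype,
            show (Finset.univ.filter fun i => d i ≠ (u : F)) = Finset.univ.erase i0 by
              ext i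
              by_cases h0 : i = i0
              · subst h0; simp [d]
              by_cases h1 : i = i1
              · subst h1; simp [d, h0]; rwa [Units.val_inv_eq_inv_val] at huu
              simp [d, h0, h1, Ne.symm hu1],
            Finset.card_erase_of_mem (Finset.mem_univ _), Finset.card_univ, Fintype.card_fin]
        have h2' := h1 (u : F)
        rw [hrku] at h2'
        subst ha2
        omega
    · set c := orderOf ((Fintype.card F : ℕ) : ZMod r) with hc
      have hc1 : c ≠ 1 := fun e' => hd ((PrimeElemFlags.order_eq_one_iff rfl).1 e')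
      have hcn : c ≤ n := by
        obtain ⟨y, hy⟩ := exists_prime_orderOf_dvd_card' (G := Cfsg.Geo.specialLinear (Fin n) F) r
          (hΩ.trans (Subgroup.relIndex_dvd_card _ _))
        set y' := Matrix.toLin' ((y : GL (Fin n) F) : Matrix (Fin n) (Fin n) F) with hy'
        have hyr : y' ^ r = 1 := by
          rw [hy', ← Matrix.toLin'_pow, ← Units.val_pow_eq_pow_val, ← SubmonoidClass.coe_pow, ← hy, pow_orderOf_eq_one,
            OneMemClass.coe_one, Units.val_one, Matrix.toLin'_one]
          rfl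
        obtain ⟨s, hs, -⟩ := PrimeElemFlags.split (PrimeElemFlags.cast_ne_zero hrp)
          (fun g hg hd' => PrimeElemFlags.deg_eq rfl hrp g hg hd') hyr
        rw [Module.finrank_fin_fun, ← hc] at hs
        rcases Nat.eq_zero_or_pos s with h0 | h0
        · exfalso
          rw [h0, mul_zero, add_zero] at hs
          have htop : LinearMap.ker (y' - 1) = ⊤ := Submodule.eq_top_of_finrank_eq (by rw [hs, Module.finrank_fin_fun])
          rw [LinearMap.ker_eq_top, sub_eq_zero] at htop
          have e1 : y = 1 := Subtype.ext (Units.ext (Matrix.toLin'.injective (htop.trans Matrix.toLin'_one.symm)))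
          rw [e1, orderOf_one] at hy
          exact hr.one_lt.ne hy
        · have := Nat.le_mul_of_pos_right c h0
          omega
      obtain ⟨x, g, hxS, hxr, hns, hx1, hg, hgc, hgd, hgr⟩ := bad_block (F := F) hrp hc.symm hc1 hcn
      exact ⟨x, hxS, ⟨1, by rw [Units.val_pow_eq_pow_val, hxr, one_smul]⟩, hns,
        fun h' => not_mem_block hrp hc.symm hc1 hab ha hlt hcn hxr hx1 hg hgc hgd hgr⟩
  · rintro ⟨rfl, rfl, hodd, hv⟩ x hxS ⟨z, hz⟩ -
    rw [Units.val_pow_eq_pow_val] at hz
    exact good_involution hodd (by omega) hab hv e P hxS hz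


end Cfsg.Agent.S5979
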