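import Cfsg.Statements.S5981
import Cfsg.Agent.Lib.MaxSub.SimilBad
import Cfsg.Agent.Lib.Classical.OrthCard
import Cfsg.Agent.Lib.Classical.LinearCard
import Cfsg.Agent.Lib.Geometry.GraphAut.Odd
import Mathlib

set_option autoImplicit false
set_option maxHeartbeats 1000000
-- import your own Cfsg.Agent.* helpers here

set_option autoImplicit false
open scoped MatrixGroups
open Cfsg

namespace Cfsg.Agent.S5981

open Module Matrix Cfsg.Agent.Lib.MaxSub Cfsg.Agent.Lib.Geometry Cfsg.Agent.Lib.Geometry.GraphAut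
open scoped _root_.Classical

variable {F : Type*} [Field F] {n : ℕ}

local notation "M" => Matrix (Fin n) (Fin n) F

theorem map_id_mat (A : M) : A.map (RingHom.id F) = A := by ext i j; rfl

theorem form_mul (A G : M) (u v : Fin n → F) : (A *ᵥ u) ⬝ᵥ (G *ᵥ (A *ᵥ v)) = u ⬝ᵥ ((Aᵀ * G * A) *ᵥ v) := by
  rw [← Matrix.mulVec_mulVec, ← Matrix.mulVec_mulVec, Matrix.dotProduct_mulVec u Aᵀ, Matrix.vecMul_transpose]

theorem mat_ext {A B : M} (h : ∀ u v : Fin n → F, u ⬝ᵥ (A *ᵥ v) = u ⬝ᵥ (B *ᵥ v)) : A = B :=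
  Matrix.ext fun i j => by simpa using h (Pi.single i 1) (Pi.single j 1)

/-- The Gram matrix of a quadratic form. -/
theorem exists_gram (h2 : (2 : F) ≠ 0) {Q : (Fin n → F) → F} (hQ : Cfsg.Geo.IsNondegenerateQuadraticForm Q) :
    ∃ G : M, G.det ≠ 0 ∧ Gᵀ = G ∧ (∀ v, v ⬝ᵥ (G *ᵥ v) = 2 * Q v) ∧
      ∀ y : GL (Fin n) F, y ∈ Cfsg.Geo.quadSimilarityGroup Q ↔ SimilMat.Sim (RingHom.id F) G y := by
  let B : (Fin n → F) →ₗ[F] (Fin n → F) →ₗ[F] F := LinearMap.mk₂ F (QuadraticMap.polar Q) hQ.polar_bilinear.add_left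
    hQ.polar_bilinear.smul_left hQ.polar_bilinear.add_right hQ.polar_bilinear.smul_right
  set G : M := LinearMap.toMatrix₂' F B with hG
  have hB : ∀ u v, QuadraticMap.polar Q u v = u ⬝ᵥ (G *ᵥ v) := fun u v => by
    show B u v = _
    rw [← Matrix.toLinearMap₂'_apply', hG, Matrix.toLinearMap₂'_toMatrix']
  have hd : ∀ v, QuadraticMap.polar Q v v = 2 * Q v := fun v => by
    rw [QuadraticMap.polar, ← two_smul F v, hQ.smul]; ring
  refine ⟨G, ?_, ?_, fun v => by rw [← hB, hd], fun y => ?_⟩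
  · intro h0
    obtain ⟨v, hv, hv'⟩ := Matrix.exists_mulVec_eq_zero_iff.2 h0
    obtain ⟨u, hu⟩ := (hQ.nondegenerate v hv).1
    exact hu (by rw [hB, hv', dotProduct_zero])
  · ext i j
    rw [Matrix.transpose_apply, hG, LinearMap.toMatrix₂'_apply, LinearMap.toMatrix₂'_apply]
    exact QuadraticMap.polar_comm _ _ _
  · have hq : ∀ u v : Fin n → F, u ⬝ᵥ (((y : M)ᵀ * G * (y : M)) *ᵥ v) = QuadraticMap.polar Q ((y : M) *ᵥ u) ((y : M) *ᵥ v) := fun u v => by
      rw [hB, ← Matrix.mulVec_mulVec, ← Matrix.mulVec_mulVec, Matrix.dotProduct_mulVec, Matrix.vecMul_transpose]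
    unfold SimilMat.Sim
    rw [map_id_mat]
    constructor
    · rintro ⟨c, hc⟩
      refine ⟨c, c.ne_zero, mat_ext fun u v => ?_⟩
      rw [hq, Matrix.smul_mulVec, dotProduct_smul, smul_eq_mul, ← hB,
        QuadraticMap.polar, QuadraticMap.polar, ← Matrix.mulVec_add, hc, hc, hc]
      ring1
    · rintro ⟨μ, hμ, h⟩
      refine ⟨Units.mk0 μ hμ, fun v => mul_left_cancel₀ h2 ?_⟩
      rw [← hd, ← hq, h, Matrix.smul_mulVec, dotProduct_smul, smul_eq_mul, ← hB, hd, Units.val_mk0]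
      ring

variable [Fintype F]

/-- A standard form behind a congruence. -/
theorem exists_transfer (h2 : (2 : F) ≠ 0) {Q : (Fin n → F) → F} {G : M} (hQG : ∀ v, v ⬝ᵥ (G *ᵥ v) = 2 * Q v) {ι : Type}
    [Fintype ι] [DecidableEq ι] (e : ι ≃ Fin n) (A : Matrix ι ι F) {κ : F}
    (h : Cong G (κ • Matrix.reindex e e (A + Aᵀ))) :
    ∃ Φ : (ι → F) ≃ₗ[F] (Fin n → F), ∀ v, Q (Φ v) = κ * matQuad A v := by
  obtain ⟨g, hg⟩ := h
  refine ⟨(LinearEquiv.funCongrLeft F F e.symm).trans
    (LinearMap.GeneralLinearGroup.generalLinearEquiv F _ (Matrix.GeneralLinearGroup.toLin g)), fun v => mul_left_cancel₀ h2 ?_⟩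
  show 2 * Q ((g : M) *ᵥ (v ∘ e.symm)) = _
  rw [← hQG, matQuad_eq_half h2, form_mul, hg, Matrix.smul_mulVec, dotProduct_smul, smul_eq_mul, Matrix.reindex_apply,
    Matrix.submatrix_mulVec_equiv, Equiv.symm_symm, Function.comp_assoc, Equiv.symm_comp_self, Function.comp_id]
  rw [show (v ∘ e.symm) ⬝ᵥ (((A + Aᵀ) *ᵥ v) ∘ e.symm) = v ⬝ᵥ ((A + Aᵀ) *ᵥ v) from
    e.symm.sum_comp fun i => v i * ((A + Aᵀ) *ᵥ v) i]
  field_simp

/-- The isometries of a standard form inside the similitudes. -/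
theorem relIndex_dvd (hn : 0 < n) (h2 : (2 : F) ≠ 0) {Q : (Fin n → F) → F} {G : M} (hGd : G.det ≠ 0) (hGs : Gᵀ = G)
    (hQG : ∀ v, v ⬝ᵥ (G *ᵥ v) = 2 * Q v) (hQ : Cfsg.Geo.IsNondegenerateQuadraticForm Q)
    {ι : Type} [Fintype ι] [DecidableEq ι] (Qs : (ι → F) → F) (Φ : (ι → F) ≃ₗ[F] (Fin n → F)) {κ : F}
    (hΦ : ∀ v, Q (Φ v) = κ * Qs v) :
    (Cfsg.Geo.quadSimilarityGroup Q).relIndex (Cfsg.Geo.specialLinear (Fin n) F) *
        Nat.card (Cfsg.isometryGroup F Qs) * (Fintype.card F - 1) ∣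
      2 * (Fintype.card F ^ (n * (n - 1) / 2) * ∏ i ∈ Finset.range n, (Fintype.card F ^ (i + 1) - 1)) := by
  let bb := (Pi.basisFun F ι).map Φ
  let E : Matrix ι ι F ≃ₐ[F] M := (Matrix.toLinAlgEquiv bb).trans Matrix.toLinAlgEquiv'.symm
  have hE : ∀ A v, E A *ᵥ Φ v = Φ (A *ᵥ v) := fun A v => by
    have e : Matrix.toLin' (E A) ∘ₗ Φ.toLinearMap = Φ.toLinearMap ∘ₗ Matrix.toLin' A := (Pi.basisFun F ι).ext fun j => by
      simp only [LinearMap.comp_apply, LinearEquiv.coe_coe, Matrix.toLin'_apply]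
      rw [show Φ (Pi.basisFun F ι j) = bb j from rfl, ← Matrix.toLinAlgEquiv'_apply]
      simp only [E, AlgEquiv.trans_apply, AlgEquiv.apply_symm_apply, Matrix.toLinAlgEquiv_self]
      simp only [bb, Basis.map_apply, Pi.basisFun_apply, Matrix.mulVec_single_one]
      rw [show A.col j = ∑ x, A x j • Pi.single x (1 : F) by funext i; simp [Finset.sum_apply, Pi.single_apply], map_sum]
      simp only [map_smul]
    simpa using LinearMap.congr_fun e v
  let ψ : Cfsg.isometryGroup F Qs →* GL (Fin n) F :=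
    (Units.map (E : Matrix ι ι F →* M)).comp (Cfsg.isometryGroup F Qs).subtype
  have hψ : ∀ g, (ψ g : M) = E ((g : GL ι F) : Matrix ι ι F) := fun g => rfl
  have hψi : Function.Injective ψ := fun a b h => Subtype.ext (Units.ext (E.injective (congrArg Units.val h)))
  have hiso : ∀ g v, Q ((ψ g : M) *ᵥ v) = Q v := fun g v => by
    obtain ⟨w, rfl⟩ := Φ.surjective v
    rw [hψ, hE, hΦ, hΦ]
    exact congrArg (κ * ·) (g.2 w w)
  have hQs : ∀ g, ψ g ∈ Cfsg.Geo.quadSimilarityGroup Q := fun g => ⟨1, fun v => by rw [hiso, Units.val_one, one_mul]⟩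
  let dL := (Matrix.GeneralLinearGroup.det : GL (Fin n) F →* Fˣ).comp ψ
  have hr : Nat.card dL.range ∣ 2 := by
    refine (Subgroup.card_dvd_of_le (H := dL.range) (K := Subgroup.zpowers (-1 : Fˣ)) ?_).trans ?_
    · rintro _ ⟨g, rfl⟩
      have hm : (ψ g : M)ᵀ * G * (ψ g : M) = G := by
        refine mat_ext fun u v => ?_
        rw [← form_mul]
        have hs : ∀ u v, v ⬝ᵥ (G *ᵥ u) = u ⬝ᵥ (G *ᵥ v) := fun u v => by
          conv_lhs => rw [Matrix.dotProduct_mulVec, dotProduct_comm, ← Matrix.mulVec_transpose, hGs]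
        have hp : ∀ u v, u ⬝ᵥ (G *ᵥ v) = QuadraticMap.polar Q u v := fun u v => mul_left_cancel₀ h2 (by
          have h1 := hQG (u + v)
          simp only [Matrix.mulVec_add, dotProduct_add, add_dotProduct] at h1
          rw [QuadraticMap.polar]
          linear_combination h1 - hQG u - hQG v - hs u v)
        rw [hp, hp, QuadraticMap.polar, QuadraticMap.polar, ← Matrix.mulVec_add, hiso, hiso, hiso]
      have h1 := congrArg Matrix.det hm
      rw [Matrix.det_mul, Matrix.det_mul, Matrix.det_transpose] at h1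
      have h3 : (ψ g : M).det * (ψ g : M).det = 1 := mul_right_cancel₀ hGd (by linear_combination h1)
      rcases mul_self_eq_one_iff.1 h3 with e | e
      · rw [show dL g = 1 from Units.ext e]; exact Subgroup.one_mem _
      · rw [show dL g = -1 from Units.ext e]; exact Subgroup.mem_zpowers _
    · rw [Nat.card_zpowers]
      exact orderOf_dvd_of_pow_eq_one (by simp)
  set S := Cfsg.Geo.specialLinear (Fin n) F
  let j : dL.ker →* (Cfsg.Geo.quadSimilarityGroup Q).subgroupOf S :=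
    { toFun := fun g => ⟨⟨ψ g.1, g.2⟩, hQs g.1⟩
      map_one' := Subtype.ext (Subtype.ext (map_one ψ))
      map_mul' := fun a b => Subtype.ext (Subtype.ext (map_mul ψ _ _)) }
  have hj : Nat.card dL.ker ∣ Nat.card ((Cfsg.Geo.quadSimilarityGroup Q).subgroupOf S) :=
    Subgroup.card_dvd_of_injective j fun a b h => Subtype.ext (hψi (congrArg (fun z => z.1.1) h))
  have hsurj : Function.Surjective (Matrix.GeneralLinearGroup.det : GL (Fin n) F →* Fˣ) := fun u => by
    refine ⟨Matrix.GeneralLinearGroup.mkOfDetNeZero (Matrix.diagonal fun i : Fin n => if i = (⟨0, hn⟩ : Fin n) then (u : F) else 1) (by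
      rw [Matrix.det_diagonal, Finset.prod_ite_eq', if_pos (Finset.mem_univ _)]; exact u.ne_zero), Units.ext ?_⟩
    show (Matrix.diagonal fun i : Fin n => if i = (⟨0, hn⟩ : Fin n) then (u : F) else 1).det = u
    rw [Matrix.det_diagonal, Finset.prod_ite_eq', if_pos (Finset.mem_univ _)]
  have hS : Nat.card S * (Fintype.card F - 1) = Nat.card (GL (Fin n) F) := by
    show Nat.card (Matrix.GeneralLinearGroup.det : GL (Fin n) F →* Fˣ).ker * _ = _
    rw [← Cfsg.Agent.Lib.Classical.natCard_units, ← Subgroup.card_mul_index (Matrix.GeneralLinearGroup.det : GL (Fin n) F →* Fˣ).ker,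
      Subgroup.index_ker, MonoidHom.range_eq_top_of_surjective _ hsurj, Subgroup.card_top]
  have hK : Nat.card (Cfsg.isometryGroup F Qs) = Nat.card dL.ker * Nat.card dL.range := by
    rw [← Subgroup.index_ker, Subgroup.card_mul_index]
  rw [← Cfsg.Agent.Lib.Classical.card_GL_formula, ← hS, hK, Subgroup.relIndex,
    ← Subgroup.card_mul_index ((Cfsg.Geo.quadSimilarityGroup Q).subgroupOf S)]
  refine dvd_trans (mul_dvd_mul_right (mul_dvd_mul_left _ (mul_dvd_mul hj hr)) _) (dvd_of_eq ?_)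
  ring

/-- Fixed point free isometries of prime order. -/
theorem zero_count_mod {r : ℕ} [Fact r.Prime] {Q : (Fin n → F) → F} {G : M} (h2 : (2 : F) ≠ 0)
    (hQG : ∀ v, v ⬝ᵥ (G *ᵥ v) = 2 * Q v) {y : GL (Fin n) F} (hyr : (y : M) ^ r = 1)
    (hy : (y : M)ᵀ * G * (y : M) = G) (hfix : ∀ v, (y : M) *ᵥ v = v → v = 0) (hQ0 : Q 0 = 0) :
    Nat.card {v // Q v = 0} ≡ 1 [MOD r] := by
  have hQy : ∀ v, Q ((y : M) *ᵥ v) = Q v := fun v => mul_left_cancel₀ h2 (by
    rw [← hQG, ← hQG, form_mul, hy])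
  have hyu : IsUnit (y : M) := Units.isUnit y
  let σ : Equiv.Perm {v // Q v = 0} := Equiv.ofBijective (fun v => ⟨(y : M) *ᵥ v.1, (hQy _).trans v.2⟩)
    (Finite.injective_iff_bijective.1 fun a b h => Subtype.ext (Matrix.mulVec_injective_of_isUnit hyu (congrArg Subtype.val h)))
  have hσ : ∀ k : ℕ, ∀ v, ((σ ^ k) v).1 = (y : M) ^ k *ᵥ v.1 := fun k => by
    induction k with
    | zero => intro v; simp
    | succ k ih => intro v; rw [pow_succ', Equiv.Perm.mul_apply, pow_succ', ← Matrix.mulVec_mulVec, ← ih]; rfl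
  have hσr : σ ^ (r ^ 1) = 1 := Equiv.ext fun v => Subtype.ext (by rw [pow_one, hσ, hyr, Matrix.one_mulVec]; rfl)
  let f : Function.End {v // Q v = 0} := ⇑σ
  have hend : ∀ (k : ℕ) v, (f ^ k) v = (σ ^ k) v := fun k => by
    induction k with
    | zero => intro v; rfl
    | succ k ih => intro v; rw [pow_succ, pow_succ]; exact ih (σ v)
  have hfr : f ^ r ^ 1 = 1 := by
    funext v
    rw [hend, hσr]
    rfl
  have h := Equiv.Perm.card_fixedPoints_modEq hfr
  have h1 : Fintype.card ↥(Function.fixedPoints f) = 1 := by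
    rw [Fintype.card_eq_one_iff]
    refine ⟨⟨⟨0, hQ0⟩, Subtype.ext (Matrix.mulVec_zero (y : M))⟩, fun v => Subtype.ext (Subtype.ext (hfix _ ?_))⟩
    exact congrArg Subtype.val v.2
  rw [h1, ← Nat.card_eq_fintype_card] at h
  exact h

/-- The prime divides the index of a form of even dimension only in a twisted way. -/
theorem no_fpf {r : ℕ} [Fact r.Prime] (hodd : Odd (Fintype.card F)) (hr2 : r ≠ 2) (hrq : ((Fintype.card F : ℕ) : ZMod r) ≠ 0)
    (hq1 : ((Fintype.card F : ℕ) : ZMod r) ≠ 1) (hno : ∀ j : ℕ, ((Fintype.card F : ℕ) : ZMod r) ^ (2 * j + 1) ≠ 1)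
    (hn : 3 ≤ n) {Q : (Fin n → F) → F} {G : M} (hGd : G.det ≠ 0) (hGs : Gᵀ = G) (hQG : ∀ v, v ⬝ᵥ (G *ᵥ v) = 2 * Q v)
    (hQ : Cfsg.Geo.IsNondegenerateQuadraticForm Q)
    (hΩ : r ∣ (Cfsg.Geo.quadSimilarityGroup Q).relIndex (Cfsg.Geo.specialLinear (Fin n) F)) :
    ((Fintype.card F : ℕ) : ZMod r) ^ n = 1 ∧ ¬ Nat.card {v // Q v = 0} ≡ 1 [MOD r] := by
  have h2 := two_ne_zero_of_odd_card (F := F) hodd
  obtain ⟨q, hq⟩ : ∃ q, Fintype.card F = q := ⟨_, rfl⟩
  rw [hq] at hrq hq1 hno hodd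
  rw [hq]
  have hr : r.Prime := Fact.out
  have hq2 : 2 ≤ q := hq ▸ Fintype.one_lt_card
  have h20 : (2 : ZMod r) ≠ 0 := fun e => hr2 ((Nat.prime_dvd_prime_iff_eq hr Nat.prime_two).1
    ((ZMod.natCast_eq_zero_iff 2 r).1 (by exact_mod_cast e)))
  have hcast : ∀ k, (((q ^ k - 1 : ℕ) : ℕ) : ZMod r) = (q : ZMod r) ^ k - 1 := fun k => by
    rw [Nat.cast_sub (Nat.one_le_pow _ _ (by omega))]; push_cast; rfl
  -- the product of the factors of odd degree
  have hsplit : ∀ m, ∏ i ∈ Finset.range (2 * m + 1), (q ^ (i + 1) - 1) =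
      (q - 1) * (∏ j ∈ Finset.range m, (q ^ (2 * (j + 1)) - 1)) * ∏ j ∈ Finset.range m, (q ^ (2 * j + 3) - 1) := by
    intro m
    induction m with
    | zero => simp
    | succ m ih =>
      rw [show 2 * (m + 1) + 1 = 2 * m + 1 + 1 + 1 by ring, Finset.prod_range_succ, Finset.prod_range_succ, ih,
        Finset.prod_range_succ, Finset.prod_range_succ, show 2 * m + 1 + 1 = 2 * (m + 1) by ring,
        show 2 * (m + 1) + 1 = 2 * m + 3 by ring]
      ring
  have hOdd : ∀ m, (((∏ j ∈ Finset.range m, (q ^ (2 * j + 3) - 1) : ℕ) : ℕ) : ZMod r) ≠ 0 := fun m => by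
    rw [Nat.cast_prod]
    refine Finset.prod_ne_zero_iff.2 fun j _ => ?_
    rw [hcast]
    exact sub_ne_zero.2 (show 2 * j + 3 = 2 * (j + 1) + 1 by ring ▸ hno (j + 1))
  have hpp : ∀ m, 0 < ∏ j ∈ Finset.range m, (q ^ (2 * (j + 1)) - 1) := fun m =>
    Finset.prod_pos fun j _ => Nat.sub_pos_of_lt (Nat.one_lt_pow (by omega) hq2)
  rcases Nat.even_or_odd' n with ⟨m, hnm | hnm⟩
  swap
  · exfalso
    let e : Unit ⊕ (Fin m ⊕ Fin m) ≃ Fin n := Fintype.equivFinOfCardEq (by simp; omega)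
    set S₀ : M := Matrix.reindex e e (oddMatrix m F + (oddMatrix m F)ᵀ)
    have hS0d : S₀.det ≠ 0 := by
      rw [Matrix.det_reindex_self, det_oddGram]; exact mul_ne_zero h2 (pow_ne_zero _ (neg_ne_zero.2 one_ne_zero))
    set κ := G.det * S₀.det
    have hc : Cong G (κ • S₀) := cong_of_symm h2 hGs (by rw [Matrix.transpose_smul, Matrix.transpose_reindex, sym_gram])
      hGd (by rw [Matrix.det_smul]; exact mul_ne_zero (pow_ne_zero _ (mul_ne_zero hGd hS0d)) hS0d)
      (by rw [Matrix.det_smul, Fintype.card_fin, show κ ^ n = κ ^ (2 * m + 1) from congrArg (κ ^ ·) hnm];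
          exact ⟨κ ^ (m + 1), by ring⟩)
    obtain ⟨Φ, hΦ⟩ := exists_transfer h2 hQG e (oddMatrix m F) hc
    have h := relIndex_dvd (by omega) h2 hGd hGs hQG hQ (Cfsg.quadFormOdd m F) Φ (κ := κ) (fun v => by rw [quadFormOdd_eq]; exact hΦ v)
    rw [Cfsg.Agent.Lib.Classical.card_orth_odd rfl (hq ▸ hodd), hq] at h
    have h' := (mul_dvd_mul_right (mul_dvd_mul_right hΩ _) _).trans h
    rw [hnm, hsplit] at h'
    set P := ∏ j ∈ Finset.range m, (q ^ (2 * (j + 1)) - 1)
    set O := ∏ j ∈ Finset.range m, (q ^ (2 * j + 3) - 1)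
    set A := (2 * m + 1) * (2 * m + 1 - 1) / 2
    have hA : A = m ^ 2 + (m ^ 2 + m) := by
      show (2 * m + 1) * (2 * m + 1 - 1) / 2 = _
      rw [Nat.add_sub_cancel, show (2 * m + 1) * (2 * m) = 2 * (m ^ 2 + (m ^ 2 + m)) by ring, Nat.mul_div_cancel_left _ two_pos]
    rw [hA, pow_add, show r * (2 * q ^ m ^ 2 * P) * (q - 1) = r * (2 * q ^ m ^ 2 * P * (q - 1)) by ring,
      show 2 * (q ^ m ^ 2 * q ^ (m ^ 2 + m) * ((q - 1) * P * O)) = q ^ (m ^ 2 + m) * O * (2 * q ^ m ^ 2 * P * (q - 1)) by ring] at h'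
    have h0 := (ZMod.natCast_eq_zero_iff _ r).2 (Nat.dvd_of_mul_dvd_mul_right (Nat.mul_pos (Nat.mul_pos (Nat.mul_pos two_pos
      (pow_pos (by omega) _)) (hpp m)) (by omega)) h')
    rw [Nat.cast_mul, Nat.cast_pow] at h0
    exact hOdd m ((mul_eq_zero.1 h0).resolve_left (pow_ne_zero _ hrq))
  · obtain ⟨k, rfl⟩ : ∃ k, m = k + 1 := ⟨m - 1, by omega⟩
    obtain ⟨D⟩ := exists_stdData (n := n) (F := F) (hq ▸ hodd) (by omega : 1 ≤ k + 1) hnm
    have hGu : IsUnit G.det := isUnit_iff_ne_zero.2 hGd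
    obtain ⟨g₀, hg₀⟩ : ∃ g₀ : GL (Fin n) F, (g₀ : M) = G := ⟨Matrix.GeneralLinearGroup.mkOfDetNeZero G hGd, rfl⟩
    set A := n * (n - 1) / 2
    have hA : A = (k + 1) * k + ((k + 1) * (k + 1)) := by
      show n * (n - 1) / 2 = _
      rw [hnm, show 2 * (k + 1) - 1 = 2 * k + 1 by omega, show 2 * (k + 1) * (2 * k + 1) = 2 * ((k + 1) * k + (k + 1) * (k + 1)) by ring,
        Nat.mul_div_cancel_left _ two_pos]
    have hfac : q ^ (2 * k + 1 + 1) - 1 = (q ^ (k + 1) + 1) * (q ^ (k + 1) - 1) := by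
      rw [← Nat.sq_sub_sq, one_pow, ← pow_mul]; congr 2; ring
    -- both types at once
    have hboth : ∀ (ι : Type) [Fintype ι] [DecidableEq ι] (Qs : (ι → F) → F) (Φ : (ι → F) ≃ₗ[F] (Fin n → F)) (u w : ℕ),
        (∀ v, Q (Φ v) = Qs v) → u * w = q ^ (2 * k + 1 + 1) - 1 → 0 < u →
        Nat.card (Cfsg.isometryGroup F Qs) = 2 * q ^ ((k + 1) * k) * u * ∏ j ∈ Finset.range k, (q ^ (2 * (j + 1)) - 1) →
        ((w : ℕ) : ZMod r) = 0 ∧ Nat.card {v // Q v = 0} = Nat.card {v // Qs v = 0} := by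
      intro ι _ _ Qs Φ u w hΦ huw hu hcard
      refine ⟨?_, (Nat.card_congr (Φ.toEquiv.subtypeEquiv fun v => by simp [hΦ])).symm⟩
      have h := relIndex_dvd (by omega) h2 hGd hGs hQG hQ Qs Φ (κ := 1) (fun v => by rw [hΦ, one_mul])
      rw [hcard, hq] at h
      have h' := (mul_dvd_mul_right (mul_dvd_mul_right hΩ _) _).trans h
      rw [show n * (n - 1) / 2 = A from rfl, hA, show n = 2 * k + 1 + 1 by omega, Finset.prod_range_succ, hsplit, ← huw] at h'
      set P := ∏ j ∈ Finset.range k, (q ^ (2 * (j + 1)) - 1)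
      set O := ∏ j ∈ Finset.range k, (q ^ (2 * j + 3) - 1)
      rw [pow_add, show r * (2 * q ^ ((k + 1) * k) * u * P) * (q - 1) = r * (2 * q ^ ((k + 1) * k) * u * P * (q - 1)) by ring,
        show 2 * (q ^ ((k + 1) * k) * q ^ ((k + 1) * (k + 1)) * ((q - 1) * P * O * (u * w))) =
          q ^ ((k + 1) * (k + 1)) * O * w * (2 * q ^ ((k + 1) * k) * u * P * (q - 1)) by ring] at h'
      have h0 := (ZMod.natCast_eq_zero_iff _ r).2 (Nat.dvd_of_mul_dvd_mul_right (Nat.mul_pos (Nat.mul_pos (Nat.mul_pos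
        (Nat.mul_pos two_pos (pow_pos (by omega) _)) hu) (hpp k)) (by omega)) h')
      rw [Nat.cast_mul, Nat.cast_mul, Nat.cast_pow] at h0
      exact (mul_eq_zero.1 h0).resolve_left (mul_ne_zero (pow_ne_zero _ hrq) (hOdd k))
    rcases (D.classify (hq ▸ hodd) (by omega) hnm (Or.inl (show (g₀ : M)ᵀ = g₀ by rw [hg₀, hGs]))) with ⟨-, h⟩ | ⟨h | h, -⟩
    · exfalso
      rw [hg₀, hGs] at h
      have e : (2 : F) • G = 0 := by rw [two_smul]; nth_rewrite 1 [h]; exact neg_add_cancel G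
      exact hGd (by rw [(smul_eq_zero.1 e).resolve_left h2]; haveI : Nonempty (Fin n) := ⟨⟨0, by omega⟩⟩; exact Matrix.det_zero)
    · rw [hg₀, StdData.P, stdGL_coe] at h
      obtain ⟨Φ, hΦ⟩ := exists_transfer h2 hQG D.eJ (plusMatrix (k + 1) F) (κ := 1) (by rw [one_smul]; exact h.symm)
      obtain ⟨hw, hz⟩ := hboth _ (Cfsg.quadFormPlus (k + 1) F) Φ (q ^ (k + 1) - 1) (q ^ (k + 1) + 1)
        (fun v => by rw [hΦ, quadFormPlus_eq, one_mul]) (by rw [hfac, mul_comm]) (Nat.sub_pos_of_lt (Nat.one_lt_pow (by omega) hq2))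
        (by rw [Cfsg.Agent.Lib.Classical.card_orth_plus hq (k + 1) (by omega), Nat.add_sub_cancel])
      have hw' : (q : ZMod r) ^ (k + 1) = -1 := by push_cast at hw; linear_combination hw
      refine ⟨by rw [hnm, mul_comm 2, pow_mul, hw']; ring, fun hmod => ?_⟩
      let e : (Fin (k + 1) ⊕ Fin (k + 1) → F) ≃ₗ[F] ((Fin (k + 1) → F) × (Fin (k + 1) → F) × (Fin 0 → F)) :=
        { toFun := fun v => (fun i => v (.inl i), fun i => v (.inr i), 0)
          map_add' := fun x y => Prod.ext rfl (Prod.ext rfl (add_zero _).symm)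
          map_smul' := fun c x => Prod.ext rfl (Prod.ext rfl (smul_zero _).symm)
          invFun := fun p => Sum.elim p.1 p.2.1
          left_inv := fun v => by funext i; rcases i with i | i <;> rfl
          right_inv := fun p => Prod.ext rfl (Prod.ext rfl (funext fun i => i.elim0)) }
      have hzz : Nat.card {v // Q v = 0} = Cfsg.Agent.Lib.Classical.zeroCount
          (Cfsg.Agent.Lib.Classical.hyperForm (k + 1) (0 : QuadraticForm F (Fin 0 → F))) := by
        rw [hz]
        exact Nat.card_congr (e.toEquiv.subtypeEquiv fun v => by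
          simp [Cfsg.quadFormPlus, Cfsg.Agent.Lib.Classical.hyperForm_apply, e])
      have h3 := Cfsg.Agent.Lib.Classical.zeroCount_hyperForm (W := Fin 0 → F) hq (d := 0) (by simp)
        (0 : QuadraticForm F (Fin 0 → F)) (k + 1)
      rw [← hzz, show Cfsg.Agent.Lib.Classical.zeroCount (0 : QuadraticForm F (Fin 0 → F)) = 1 by
        rw [Cfsg.Agent.Lib.Classical.zeroCount, Nat.card_eq_one_iff_exists]
        exact ⟨⟨0, rfl⟩, fun x => Subsingleton.elim _ _⟩, mul_one, zero_add, zero_add] at h3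
      have h4 := congrArg (fun a : ℕ => (a : ZMod r)) h3
      simp only [Nat.cast_add, Nat.cast_mul, Nat.cast_pow, (ZMod.natCast_eq_natCast_iff _ _ _).2 hmod, Nat.cast_one, mul_one,
        show k + 1 + 1 = (k + 1) + 1 from rfl, pow_succ (q : ZMod r) (k + 1), two_mul, pow_add _ (k + 1) (k + 1), hw'] at h4
      have h5 : (2 : ZMod r) * ((q : ZMod r) - 1) = 0 := by linear_combination h4
      exact hq1 (sub_eq_zero.1 ((mul_eq_zero.1 h5).resolve_left h20))
    · rw [hg₀, StdData.N, stdGL_coe] at h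
      obtain ⟨Φ, hΦ⟩ := exists_transfer h2 hQG D.eM (minusMatrix (k + 1 - 1) D.a D.b) (κ := 1) (by rw [one_smul]; exact h.symm)
      obtain ⟨hw, hz⟩ := hboth _ (Cfsg.quadFormMinus (k + 1 - 1) F D.a D.b) Φ (q ^ (k + 1) + 1) (q ^ (k + 1) - 1)
        (fun v => by rw [hΦ, quadFormMinus_eq, one_mul]) hfac.symm (Nat.succ_pos _)
        (by rw [Cfsg.Agent.Lib.Classical.card_orth_minus hq (k + 1) (by omega) D.a D.b D.hab, Nat.add_sub_cancel])
      have hw' : (q : ZMod r) ^ (k + 1) = 1 := by rw [hcast] at hw; linear_combination hw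
      refine ⟨by rw [hnm, mul_comm 2, pow_mul, hw', one_pow], fun hmod => ?_⟩
      let p0 : (F × F) →ₗ[F] F := LinearMap.fst F F F
      let p1 : (F × F) →ₗ[F] F := LinearMap.snd F F F
      let Q₀ : QuadraticForm F (F × F) := QuadraticMap.linMulLin p0 p0 +
        D.a • QuadraticMap.linMulLin p0 p1 + D.b • QuadraticMap.linMulLin p1 p1
      have hQ₀ : ∀ z : F × F, Q₀ z = z.1 ^ 2 + D.a * z.1 * z.2 + D.b * z.2 ^ 2 := fun z => by
        simp [Q₀, p0, p1, pow_two, mul_assoc]
      let e : ((Fin (k + 1 - 1) ⊕ Fin (k + 1 - 1)) ⊕ Fin 2 → F) ≃ₗ[F] ((Fin (k + 1 - 1) → F) × (Fin (k + 1 - 1) → F) × (F × F)) :=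
        { toFun := fun v => (fun i => v (.inl (.inl i)), fun i => v (.inl (.inr i)), (v (.inr 0), v (.inr 1)))
          map_add' := fun x y => rfl
          map_smul' := fun c x => rfl
          invFun := fun p => Sum.elim (Sum.elim p.1 p.2.1) ![p.2.2.1, p.2.2.2]
          left_inv := fun v => by
            funext i
            rcases i with (i | i) | i
            · rfl
            · rfl
            · fin_cases i <;> rfl
          right_inv := fun p => rfl }
      have hzz : Nat.card {v // Q v = 0} = Cfsg.Agent.Lib.Classical.zeroCount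
          (Cfsg.Agent.Lib.Classical.hyperForm (k + 1 - 1) Q₀) := by
        rw [hz]
        refine Nat.card_congr (e.toEquiv.subtypeEquiv fun v => ?_)
        rw [Cfsg.Agent.Lib.Classical.hyperForm_apply, hQ₀]
        exact Iff.rfl
      have h3 := Cfsg.Agent.Lib.Classical.zeroCount_hyperForm (W := F × F) hq (d := 2) (by
        rw [Nat.card_prod, Nat.card_eq_fintype_card, hq, pow_two]) Q₀ (k + 1 - 1)
      rw [← hzz, show Cfsg.Agent.Lib.Classical.zeroCount Q₀ = 1 by
        rw [Cfsg.Agent.Lib.Classical.zeroCount, Nat.card_eq_one_iff_exists]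
        exact ⟨⟨0, map_zero _⟩, fun x => Subtype.ext
          (Prod.ext (D.hab _ _ ((hQ₀ x.1).symm.trans x.2)).1 (D.hab _ _ ((hQ₀ x.1).symm.trans x.2)).2)⟩,
        mul_one, Nat.add_sub_cancel, show 2 + k = k + 1 + 1 by ring, show 2 + 2 * k = (k + 1) + (k + 1) by ring] at h3
      have h4 := congrArg (fun a : ℕ => (a : ZMod r)) h3
      simp only [Nat.cast_add, Nat.cast_mul, Nat.cast_pow, (ZMod.natCast_eq_natCast_iff _ _ _).2 hmod, Nat.cast_one, mul_one,
        pow_succ (q : ZMod r) (k + 1), pow_add _ (k + 1) (k + 1), hw'] at h4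
      have h5 : (2 : ZMod r) * ((q : ZMod r) - 1) = 0 := by linear_combination h4
      exact hq1 (sub_eq_zero.1 ((mul_eq_zero.1 h5).resolve_left h20))

/-- Transvections are not similitudes up to conjugation. -/
theorem transvection_bad {p : ℕ} [hp : Fact p.Prime] [CharP F p] (h2 : (2 : F) ≠ 0) (hn : 2 ≤ n) {G : M} (hG : G.det ≠ 0)
    (hGs : Gᵀ = G) :
    ∃ x ∈ Cfsg.Geo.specialLinear (Fin n) F, (x : M) ^ p = 1 ∧ (∀ z : F, (x : M) ≠ z • 1) ∧
      ∀ g : GL (Fin n) F, ¬ SimilMat.Sim (RingHom.id F) G (g⁻¹ * x * g) := by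
  haveI : Nonempty (Fin n) := ⟨⟨0, by omega⟩⟩
  let i : Fin n := ⟨0, by omega⟩
  let j : Fin n := ⟨1, by omega⟩
  have hij : i ≠ j := by simp [i, j]
  obtain ⟨x, hx, hxS⟩ := Cfsg.Agent.S5979.mk_GL (Matrix.transvection i j (1 : F)) (Matrix.det_transvection_of_ne _ _ hij 1)
  have hpow : ∀ m : ℕ, Matrix.transvection i j (1 : F) ^ m = Matrix.transvection i j (m : F) := fun m => by
    induction m with
    | zero => simp
    | succ m ih => rw [pow_succ, ih, Matrix.transvection_mul_transvection_same _ _ hij, Nat.cast_succ]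
  have hxp : (x : M) ^ p = 1 := by rw [hx, hpow, CharP.cast_eq_zero, Matrix.transvection_zero]
  refine ⟨x, hxS, hxp, fun z hz => ?_, fun g hsim => ?_⟩
  · rw [hx] at hz
    have := congrFun (congrFun hz i) j
    simp [Matrix.transvection, hij] at this
  obtain ⟨μ, hμ, h⟩ := hsim
  rw [map_id_mat] at h
  have hμ1 : μ = 1 := by
    have h1 := SimilMat.sim_pow (σ := RingHom.id F) (by rw [map_id_mat]; exact h) p
    have hp1 : ((g⁻¹ * x * g : GL (Fin n) F) : M) ^ p = 1 := by
      rw [← Units.val_pow_eq_pow_val, show (g⁻¹ * x * g) ^ p = g⁻¹ * x ^ p * g by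
        have := conj_pow (a := g⁻¹) (b := x) (i := p); simpa using this, Units.val_mul, Units.val_mul,
        Units.val_pow_eq_pow_val, hxp, mul_one, Units.inv_mul]
    rw [hp1, map_id_mat, Matrix.transpose_one, one_mul, mul_one] at h1
    have hG0 : G ≠ 0 := fun e => hG (by rw [e]; simp [Matrix.det_zero])
    have h3 : (μ ^ p - 1) • G = 0 := by rw [sub_smul, ← h1, one_smul, sub_self]
    have h4 := sub_eq_zero.1 ((smul_eq_zero.1 h3).resolve_right hG0)
    exact frobenius_inj F p (by rw [frobenius_def, frobenius_def, h4, one_pow])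
  subst hμ1
  rw [one_smul] at h
  set w : Fin n → F := ((g⁻¹ : GL (Fin n) F) : M) *ᵥ Pi.single i 1 with hw
  set φ : Fin n → F := Pi.single j 1 ᵥ* (g : M) with hφ
  have hy : ((g⁻¹ * x * g : GL (Fin n) F) : M) = 1 + Matrix.vecMulVec w φ := by
    rw [Units.val_mul, Units.val_mul, hx, Matrix.transvection, mul_add, add_mul, mul_one, Units.inv_mul,
      Matrix.single_eq_single_vecMulVec_single, Matrix.mul_vecMulVec, Matrix.vecMulVec_mul, hw, hφ]
  have hdot : φ ⬝ᵥ w = 0 := by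
    rw [hφ, hw, ← Matrix.dotProduct_mulVec, Matrix.mulVec_mulVec, Units.mul_inv, Matrix.one_mulVec]
    simp [hij.symm]
  set u := G *ᵥ w with hu
  have hrow : w ᵥ* G = u := by rw [hu, ← Matrix.mulVec_transpose, hGs]
  have key : ∀ a b, u a * φ b + φ a * u b + (w ⬝ᵥ u) * (φ a * φ b) = 0 := fun a b => by
    have h1 := congrFun (congrFun h a) b
    rw [hy, Matrix.transpose_add, Matrix.transpose_one, Matrix.transpose_vecMulVec, add_mul, one_mul, add_mul, mul_add,
      mul_one, mul_add, mul_one, Matrix.mul_vecMulVec, Matrix.vecMulVec_mul, Matrix.vecMulVec_mul_vecMulVec, hrow, ← hu] at h1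
    simp only [Matrix.add_apply, Matrix.vecMulVec_apply, Pi.smul_apply, smul_eq_mul] at h1
    rw [dotProduct_comm u w] at h1
    linear_combination h1
  have hφ0 : φ ≠ 0 := fun e => by
    have h1 := congrArg (fun v => v ᵥ* ((g⁻¹ : GL (Fin n) F) : M)) e
    simp only [hφ, Matrix.vecMul_vecMul, Units.mul_inv, Matrix.vecMul_one, Matrix.zero_vecMul] at h1
    simpa using congrFun h1 j
  obtain ⟨b, hb⟩ := Function.ne_iff.1 hφ0
  have hs0 : w ⬝ᵥ u = 0 := by
    have h1 : ∑ a, w a * (u a * φ b + φ a * u b + (w ⬝ᵥ u) * (φ a * φ b)) = 0 := Finset.sum_eq_zero fun a _ => by rw [key, mul_zero]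
    simp only [mul_add, Finset.sum_add_distrib, ← mul_assoc, ← Finset.sum_mul] at h1
    have e1 : ∑ a, w a * φ a = 0 := by rw [← hdot, dotProduct_comm]; rfl
    have e2 : ∑ a, w a * (w ⬝ᵥ u) * φ a = 0 := by
      rw [Finset.sum_congr rfl fun a _ => show w a * (w ⬝ᵥ u) * φ a = (w ⬝ᵥ u) * (w a * φ a) by ring, ← Finset.mul_sum, e1, mul_zero]
    rw [e1, e2, zero_mul, zero_mul, add_zero, add_zero] at h1
    exact (mul_eq_zero.1 h1).resolve_right hb
  have hub : u b = 0 := by
    have h1 := key b b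
    rw [hs0, zero_mul, add_zero] at h1
    exact (mul_eq_zero.1 (show (2 * φ b) * u b = 0 by linear_combination h1)).resolve_left (mul_ne_zero h2 hb)
  have hu0 : u = 0 := funext fun a => by
    have h1 := key a b
    rw [hs0, hub, zero_mul, mul_zero, add_zero, add_zero] at h1
    exact (mul_eq_zero.1 h1).resolve_right hb
  have hw0 : w = 0 := Matrix.mulVec_injective_of_isUnit (((Matrix.isUnit_iff_isUnit_det G).2 (isUnit_iff_ne_zero.2 hG)))
    (by rw [← hu, hu0, Matrix.mulVec_zero])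
  have h1 := congrArg (fun v => (g : M) *ᵥ v) hw0
  simp only [hw, Matrix.mulVec_mulVec, Units.mul_inv, Matrix.one_mulVec, Matrix.mulVec_zero] at h1
  simpa using congrFun h1 i

/-- Involutions up to scalars preserve some form of each kind. -/
theorem good_involution (h2 : (2 : F) ≠ 0) (hn : 3 ≤ n) {G : M} (hG : G.det ≠ 0) (hGs : Gᵀ = G) {x : GL (Fin n) F}
    (hx : x ∈ Cfsg.Geo.specialLinear (Fin n) F) {z : F} (hz : (x : M) ^ 2 = z • 1) :
    ∃ g ∈ Cfsg.Geo.specialLinear (Fin n) F, SimilMat.Sim (RingHom.id F) G (g⁻¹ * x * g) := by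
  haveI : Nonempty (Fin n) := ⟨⟨0, by omega⟩⟩
  have hdet : (x : M).det = 1 := congrArg Units.val (MonoidHom.mem_ker.1 hx)
  have hzn : z ^ n = 1 := by
    have h := congrArg Matrix.det hz
    rwa [Matrix.det_pow, hdet, one_pow, Matrix.det_smul, Matrix.det_one, mul_one, Fintype.card_fin, eq_comm] at h
  have hz0 : z ≠ 0 := fun e => by rw [e, zero_pow (by omega)] at hzn; exact zero_ne_one hzn
  rw [pow_two] at hz
  -- a form with any determinant class
  suffices h : ∀ δ : F, δ ≠ 0 → ∃ S : M, Sᵀ = S ∧ S.det ≠ 0 ∧ IsSquare (δ * S.det) ∧ (x : M)ᵀ * S * (x : M) = z • S ∧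
      ∀ d : Fˣ, ∃ C : GL (Fin n) F, C * x = x * C ∧ Matrix.GeneralLinearGroup.det C = d by
    obtain ⟨S, hSs, hSd, hsq, hxS, hC⟩ := h G.det hG
    obtain ⟨g, hg⟩ := cong_of_symm h2 hGs hSs hG hSd hsq
    exact SimilMat.fix_of_form hz0 one_ne_zero (by rw [map_id_mat]; exact hxS) g (by rw [map_id_mat, one_smul]; exact hg) hC
  intro δ hδ
  by_cases hsqz : IsSquare z
  · obtain ⟨c, rfl⟩ := hsqz
    have hc : c ≠ 0 := fun e => hz0 (by rw [e, mul_zero])
    obtain ⟨l, d, T, hT, -, hd, hXT⟩ := Cfsg.Agent.S5979.exists_diag_form h2 hc hz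
    let ε : Fin n → F := fun i => if i = ⟨0, by omega⟩ then δ else 1
    have hS : (Matrix.diagonal d)ᵀ * Matrix.diagonal ε * (Matrix.diagonal d).map (RingHom.id F) = (c * c) • Matrix.diagonal ε := by
      rw [map_id_mat, Matrix.diagonal_transpose, Matrix.diagonal_mul_diagonal, Matrix.diagonal_mul_diagonal, ← Matrix.diagonal_smul]
      congr 1
      funext i
      rw [Pi.smul_apply, smul_eq_mul, hd]
      show (if _ then _ else _) * ε i * (if _ then _ else _) = _
      split_ifs <;> ring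
    obtain ⟨S', hS'e, hS'⟩ := SimilMat.form_of_conj hT hXT hS
    rw [map_id_mat] at hS' hS'e
    have hεd : (Matrix.diagonal ε).det = δ := by
      rw [Matrix.det_diagonal, Finset.prod_ite_eq', if_pos (Finset.mem_univ _)]
    refine ⟨S', ?_, ?_, ?_, hS', SimilMat.centralizer_of_conj hT hXT fun a _ => SimilMat.diag_centralizer (by omega) d⟩
    · rw [hS'e, Matrix.transpose_mul, Matrix.transpose_mul, Matrix.transpose_transpose, Matrix.diagonal_transpose, mul_assoc]
    · rw [hS'e, Matrix.det_mul, Matrix.det_mul, Matrix.det_transpose, hεd, Matrix.det_nonsing_inv, Ring.inverse_eq_inv']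
      exact mul_ne_zero (mul_ne_zero (inv_ne_zero hT) hδ) (inv_ne_zero hT)
    · rw [hS'e, Matrix.det_mul, Matrix.det_mul, Matrix.det_transpose, hεd]
      exact ⟨δ * (T⁻¹).det, by ring⟩
  · obtain ⟨m, hnm⟩ : ∃ m, n = 2 * m := by
      rcases Nat.even_or_odd' n with ⟨m, hnm | hnm⟩
      · exact ⟨m, hnm⟩
      · refine absurd ?_ hsqz
        refine ⟨z ^ (m + 1), ?_⟩
        rw [← pow_add, show m + 1 + (m + 1) = n + 1 by omega, pow_succ, hzn, one_mul]
    obtain ⟨e, T, hT, hXT⟩ := SimilMat.exists_pair_model hz hsqz hnm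
    have hm : 0 < m := by omega
    let i₀ : Fin m := ⟨0, hm⟩
    set K := Matrix.reindex e e (Matrix.blockDiagonal fun _ : Fin m => !![0, z; 1, 0]) with hK
    obtain ⟨b, a, hba⟩ := QuadField.exists_norm (F := F) (s := 0) (t := z) (fun r h => hsqz ⟨r, by linear_combination -h⟩)
      (d := -(δ / z ^ (m - 1))) (neg_ne_zero.2 (div_ne_zero hδ (pow_ne_zero _ hz0)))
    let S₀ : Fin m → Matrix (Fin 2) (Fin 2) F := fun i =>
      if i = i₀ then !![a, b; b, z * a] else !![1, 0; 0, z]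
    set S : M := Matrix.reindex e e (Matrix.blockDiagonal S₀) with hSdef
    have hSs : Sᵀ = S := by
      rw [hSdef, Matrix.transpose_reindex, Matrix.blockDiagonal_transpose]
      congr 2
      funext i
      ext r s
      simp only [S₀]
      split_ifs <;> fin_cases r <;> fin_cases s <;> rfl
    have hKS : Kᵀ * S * K.map (RingHom.id F) = z • S := by
      rw [map_id_mat, hK, hSdef, Matrix.transpose_reindex, Matrix.reindex_apply, Matrix.reindex_apply, Matrix.reindex_apply,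
        Matrix.submatrix_mul_equiv, Matrix.submatrix_mul_equiv, Matrix.blockDiagonal_transpose, ← Matrix.blockDiagonal_mul,
        ← Matrix.blockDiagonal_mul, show ∀ B : Matrix (Fin 2 × Fin m) (Fin 2 × Fin m) F, z • B.submatrix e.symm e.symm = (z • B).submatrix e.symm e.symm from
          fun B => rfl, ← Matrix.blockDiagonal_smul]
      congr 2
      funext i
      simp only [S₀, Pi.smul_apply]
      split_ifs <;> ext r s <;> fin_cases r <;> fin_cases s <;>
        simp [Matrix.mul_apply, Fin.sum_univ_two] <;> ring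
    have hSd : S.det = δ := by
      rw [hSdef, Matrix.det_reindex_self, Matrix.det_blockDiagonal, ← Finset.mul_prod_erase _ _ (Finset.mem_univ i₀),
        Finset.prod_congr rfl (fun i hi => show (S₀ i).det = z by
          simp [S₀, Finset.ne_of_mem_erase hi, Matrix.det_fin_two]), Finset.prod_const,
        Finset.card_erase_of_mem (Finset.mem_univ _), Finset.card_univ, Fintype.card_fin]
      simp only [S₀, if_pos, Matrix.det_fin_two_of]
      rw [show a * (z * a) - b * b = δ / z ^ (m - 1) by linear_combination -hba]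
      exact div_mul_cancel₀ δ (pow_ne_zero _ hz0)
    obtain ⟨S', hS'e, hS'⟩ := SimilMat.form_of_conj hT hXT hKS
    rw [map_id_mat] at hS' hS'e
    refine ⟨S', ?_, ?_, ?_, hS', SimilMat.centralizer_of_conj hT hXT fun d hd => ?_⟩
    · rw [hS'e, Matrix.transpose_mul, Matrix.transpose_mul, Matrix.transpose_transpose, hSs, mul_assoc]
    · rw [hS'e, Matrix.det_mul, Matrix.det_mul, Matrix.det_transpose, hSd, Matrix.det_nonsing_inv, Ring.inverse_eq_inv']
      exact mul_ne_zero (mul_ne_zero (inv_ne_zero hT) hδ) (inv_ne_zero hT)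
    · rw [hS'e, Matrix.det_mul, Matrix.det_mul, Matrix.det_transpose, hSd]
      exact ⟨δ * (T⁻¹).det, by ring⟩
    obtain ⟨α, β, hαβ⟩ := QuadField.exists_norm (F := F) (s := 0) (t := z) (fun r h => hsqz ⟨r, by linear_combination -h⟩) hd
    let C₀ : Fin m → Matrix (Fin 2) (Fin 2) F := fun i => if i = i₀ then !![α, z * β; β, α] else 1
    refine ⟨Matrix.reindex e e (Matrix.blockDiagonal C₀), ?_, ?_⟩
    · rw [hK, Matrix.reindex_apply, Matrix.reindex_apply, Matrix.submatrix_mul_equiv, Matrix.submatrix_mul_equiv,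
        ← Matrix.blockDiagonal_mul, ← Matrix.blockDiagonal_mul]
      congr 2
      funext i
      simp only [C₀]
      split_ifs <;> ext r s <;> fin_cases r <;> fin_cases s <;> simp [Matrix.mul_apply, Fin.sum_univ_two] <;> ring
    · rw [Matrix.det_reindex_self, Matrix.det_blockDiagonal, Finset.prod_eq_single i₀ (fun i _ hi => by simp [C₀, hi])
        (fun h => absurd (Finset.mem_univ _) h)]
      simp only [C₀, if_pos, Matrix.det_fin_two_of]
      linear_combination hαβ


/-- Elements of prime order of PSL_n(q), q odd, and the subgroups of orthogonal type. Here `T = PSL_n(F)` for a field `F` with `q` elements, `q` odd, `n ≥ 3`; `Q` is a non-degenerate quadratic form on `F^n` (of either type when `n` is even) and `H` is the subgroup of matrices of determinant 1 that preserve `Q` up to a scalar — a subgroup of type O^ε_n(q) (maximality is not assumed); Ω is the set of cosets of `H` in `T`, so an element of `T` of prime order `r` (a matrix `x` of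 determinant 1 with `x^r` scalar, `x` not scalar) fixes a point of Ω exactly when some conjugate of `x` by a matrix of determinant 1 preserves `Q` up to a scalar. Let `r` be a prime dividing the index of `H`, with `(n, r) ≠ (6, 3)`. Then every element of `T` of order `r` fixes a point of Ω if and only if `r = 2`, or `r ∈ {3, 5}`, `n = r` and `(q − 1)_r = r` (the `r`-part of `q − 1` is exactly `r`). The case `(n, r) = (6, 3)` is not covered by this statement. -/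
theorem result {F : Type*} [Field F] [Fintype F] {p : ℕ} [Fact p.Prime] [CharP F p] {q : ℕ} (hq : Fintype.card F = q)
    (hodd : Odd q) (n : ℕ) (hn : 3 ≤ n) (Q : (Fin n → F) → F) (hQ : Cfsg.Geo.IsNondegenerateQuadraticForm Q)
    (r : ℕ) [Fact r.Prime] (hgap : ¬ (n = 6 ∧ r = 3))
    (hΩ : r ∣ (Cfsg.Geo.quadSimilarityGroup Q).relIndex (Cfsg.Geo.specialLinear (Fin n) F)) :
    (∀ x ∈ Cfsg.Geo.specialLinear (Fin n) F, (∃ z : F, ((x ^ r : GL (Fin n) F) : Matrix (Fin n) (Fin n) F) = z • (1 : Matrix (Fin n) (Fin n) F)) →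
      (∀ z : F, (x : Matrix (Fin n) (Fin n) F) ≠ z • (1 : Matrix (Fin n) (Fin n) F)) →
      ∃ g ∈ Cfsg.Geo.specialLinear (Fin n) F, g⁻¹ * x * g ∈ Cfsg.Geo.quadSimilarityGroup Q) ↔
    (r = 2 ∨ ((r = 3 ∨ r = 5) ∧ n = r ∧ padicValNat r (q - 1) = 1)) := by
  classical
  subst hq
  have hr : r.Prime := Fact.out
  have h2 : (2 : F) ≠ 0 := two_ne_zero_of_odd_card hodd
  obtain ⟨G, hGd, hGs, hQG, hSim⟩ := exists_gram h2 hQ
  haveI : Nonempty (Fin n) := ⟨⟨0, by omega⟩⟩
  have hGh : Gᵀ = G.map (RingHom.id F) := by rw [map_id_mat, hGs]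
  constructor
  · intro h
    have hkill : ∀ x ∈ Cfsg.Geo.specialLinear (Fin n) F, ∀ z : F,
        (x : Matrix (Fin n) (Fin n) F) ^ r = z • 1 → (∀ z : F, (x : Matrix (Fin n) (Fin n) F) ≠ z • 1) →
        ∃ μ : F, μ ≠ 0 ∧ μ ^ r = z * z ∧ ∀ P : Polynomial F, (Polynomial.aeval (x : Matrix (Fin n) (Fin n) F) P).rank =
          (Polynomial.aeval (μ • ((x⁻¹ : GL (Fin n) F) : Matrix (Fin n) (Fin n) F)) (P.map (RingHom.id F))).rank := by
      intro x hx z hxr hns
      obtain ⟨g, -, hgS⟩ := h x hx ⟨z, by rw [Units.val_pow_eq_pow_val]; exact hxr⟩ hns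
      obtain ⟨μ, h1, -, h3, h4⟩ := SimilMat.good_rank (fun a => rfl) hGd hGh hxr ((hSim _).1 hgS)
      exact ⟨μ, h1, h3, h4⟩
    by_contra hR
    obtain ⟨hr2, hR'⟩ : r ≠ 2 ∧ ¬((r = 3 ∨ r = 5) ∧ n = r ∧ padicValNat r (Fintype.card F - 1) = 1) := not_or.1 hR
    by_cases hrp : r = p
    · subst hrp
      obtain ⟨x, hx, hxp, hns, hbad⟩ := transvection_bad (p := r) h2 (by omega) hGd hGs
      obtain ⟨g, -, hgS⟩ := h x hx ⟨1, by rw [Units.val_pow_eq_pow_val, hxp, one_smul]⟩ hns
      exact hbad g ((hSim _).1 hgS)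
    obtain ⟨c, hc⟩ : ∃ c, orderOf ((Fintype.card F : ℕ) : ZMod r) = c := ⟨_, rfl⟩
    by_cases hc1 : c = 1
    · have hd1 : r ∣ Fintype.card F - 1 := (PrimeElemFlags.order_eq_one_iff rfl).1 (hc.trans hc1)
      have hq1 : Fintype.card F - 1 ≠ 0 := by have := Fintype.one_lt_card (α := F); omega
      by_cases hex : (r = 3 ∨ r = 5) ∧ n = r
      · obtain ⟨hr35, hnr⟩ := hex
        have hv : 2 ≤ padicValNat r (Fintype.card F - 1) := by
          have h1 : 1 ≤ padicValNat r (Fintype.card F - 1) :=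
            (padicValNat_dvd_iff_le hq1).1 (by rwa [pow_one])
          have h2' : padicValNat r (Fintype.card F - 1) ≠ 1 := fun e => hR' ⟨hr35, hnr, e⟩
          omega
        have hrr : r * r ∣ Fintype.card F - 1 := by rw [← pow_two]; exact (padicValNat_dvd_iff_le hq1).2 hv
        obtain ⟨γ, hγ⟩ := IsCyclic.exists_generator (α := Fˣ)
        obtain ⟨l, hl⟩ := hrr
        have hη : IsPrimitiveRoot (γ : F) (Fintype.card F - 1) := by
          rw [IsPrimitiveRoot.iff_orderOf, orderOf_units, orderOf_eq_card_of_forall_mem_zpowers hγ,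
            Nat.card_eq_fintype_card, Fintype.card_units]
        have hη' : IsPrimitiveRoot ((γ : F) ^ l) (r * r) := hη.pow (by omega) (by rw [hl, mul_comm])
        obtain ⟨x, hx, z, hxr, hns, hbad⟩ := SimilMat.exists_twist_bad (σ := RingHom.id F) hη' rfl hr2 hnr
        obtain ⟨μ, -, hμ, hall⟩ := hkill x hx z hxr hns
        exact hbad μ hμ hall
      · obtain ⟨u, hu⟩ := exists_prime_orderOf_dvd_card' (G := Fˣ) r (by rwa [PrimeElemFlags.card_sub_one rfl])
        have hζ : IsPrimitiveRoot (u : F) r := by rw [IsPrimitiveRoot.iff_orderOf, orderOf_units, hu]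
        obtain ⟨x, hx, hxr, hns, hbad⟩ := SimilMat.exists_exp_bad (n := n) (σ := RingHom.id F) hζ rfl hr2 hn
          (fun e => hex ⟨Or.inl e.2, e.1.trans e.2.symm⟩) (fun e => hex ⟨Or.inr e.2, e.1.trans e.2.symm⟩) hgap
        obtain ⟨μ, -, hμ, hall⟩ := hkill x hx 1 (by rw [hxr, one_smul]) hns
        exact hbad μ (by rw [hμ, one_mul]) hall
    have hc0 : 0 < c := hc ▸ PrimeElemFlags.order_pos rfl hrp
    have hrq : ((Fintype.card F : ℕ) : ZMod r) ≠ 0 := fun e => by
      rw [e, orderOf_zero] at hc; omega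
    have hq1 : ((Fintype.card F : ℕ) : ZMod r) ≠ 1 := fun e => by rw [e, orderOf_one] at hc; exact hc1 hc.symm
    rcases Nat.even_or_odd c with hce | hco
    · obtain ⟨hpow, hmod⟩ := no_fpf hodd hr2 hrq hq1 (fun j e => by
        have h1 := orderOf_dvd_of_pow_eq_one e
        rw [hc] at h1
        exact Nat.not_even_iff_odd.2 ⟨j, rfl⟩ (hce.trans_dvd h1)) hn hGd hGs hQG hQ hΩ
      obtain ⟨x, hx, hxr, hns, hfix⟩ := SimilMat.exists_blocks (n := n) hrp hc hc1 (hc ▸ orderOf_dvd_of_pow_eq_one hpow) (by omega)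
      obtain ⟨g, -, hgS⟩ := h x hx ⟨1, by rw [Units.val_pow_eq_pow_val, hxr, one_smul]⟩ hns
      obtain ⟨μ, hμ0, hsim⟩ := (hSim _).1 hgS
      have hyr : ((g⁻¹ * x * g : GL (Fin n) F) : Matrix (Fin n) (Fin n) F) ^ r = 1 := by
        rw [← Units.val_pow_eq_pow_val, show (g⁻¹ * x * g) ^ r = g⁻¹ * x ^ r * g by
          have := conj_pow (a := g⁻¹) (b := x) (i := r); simpa using this, Units.val_mul, Units.val_mul,
          Units.val_pow_eq_pow_val, hxr, mul_one, Units.inv_mul]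
      have h1 := SimilMat.sim_pow hsim r
      rw [hyr, map_id_mat, Matrix.transpose_one, one_mul, mul_one] at h1
      rw [map_id_mat] at hsim
      have hG0 : G ≠ 0 := fun e => hGd (by rw [e]; simp [Matrix.det_zero])
      have h3 : (μ ^ r - 1) • G = 0 := by rw [sub_smul, ← h1, one_smul, sub_self]
      have hμr := sub_eq_zero.1 ((smul_eq_zero.1 h3).resolve_right hG0)
      have hnd : ¬ r ∣ Fintype.card F - 1 := fun e => hc1 (hc ▸ (PrimeElemFlags.order_eq_one_iff rfl).2 e)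
      have hμ1 : μ = 1 := by
        simpa [((Nat.Prime.coprime_iff_not_dvd hr).2 hnd).gcd_eq_one] using
          pow_gcd_eq_one.2 ⟨hμr, FiniteField.pow_card_sub_one_eq_one μ hμ0⟩
      subst hμ1
      rw [one_smul] at hsim
      refine hmod (zero_count_mod h2 hQG hyr hsim (fun v hv => ?_) ?_)
      · have h4 := congrArg (fun w => (g : Matrix (Fin n) (Fin n) F) *ᵥ w) hv
        rw [Units.val_mul, Units.val_mul] at h4
        simp only [Matrix.mulVec_mulVec, ← mul_assoc, Units.mul_inv, one_mul] at h4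
        rw [← Matrix.mulVec_mulVec] at h4
        exact Matrix.mulVec_injective_of_isUnit (Units.isUnit g) ((hfix _ h4).trans (Matrix.mulVec_zero _).symm)
      · simpa using hQ.smul 0 0
    · have hno : ∀ j : ℕ, -((p ^ 0 : ℕ) : ZMod r) ≠ ((Fintype.card F : ℕ) : ZMod r) ^ j := by
        intro j e
        rw [pow_zero, Nat.cast_one] at e
        have h1 : ((-1 : ZMod r)) ^ c = 1 := by rw [e, ← pow_mul, mul_comm, pow_mul, ← hc, pow_orderOf_eq_one, one_pow]
        rw [hco.neg_one_pow] at h1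
        have h20 : ((2 : ℕ) : ZMod r) = 0 := by push_cast; linear_combination -h1
        exact hr2 ((Nat.prime_dvd_prime_iff_eq hr Nat.prime_two).1 ((ZMod.natCast_eq_zero_iff 2 r).1 h20))
      have hcn : c ≤ n := by
        have hd : r ∣ Nat.card (GL (Fin n) F) :=
          (hΩ.trans (Subgroup.relIndex_dvd_card _ _)).trans (Subgroup.card_subgroup_dvd_card _)
        rw [Cfsg.Agent.Lib.Classical.card_GL_formula] at hd
        rcases hr.dvd_mul.1 hd with h' | h'
        · exact absurd ((ZMod.natCast_eq_zero_iff _ r).2 (hr.dvd_of_dvd_pow h')) hrq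
        obtain ⟨i, hi, hi'⟩ := (hr.prime.dvd_finset_prod_iff _).1 h'
        rw [Finset.mem_range] at hi
        have h1 : ((Fintype.card F : ℕ) : ZMod r) ^ (i + 1) = 1 := by
          have h0 := (ZMod.natCast_eq_zero_iff _ r).2 hi'
          rw [Nat.cast_sub (Nat.one_le_pow _ _ (by have := Fintype.one_lt_card (α := F); omega))] at h0
          push_cast at h0
          exact sub_eq_zero.1 h0
        have := Nat.le_of_dvd (Nat.succ_pos i) (hc ▸ orderOf_dvd_of_pow_eq_one h1)
        omega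
      obtain ⟨x, hx, hxr, hns, hbad⟩ := SimilMat.exists_block_bad (σ := RingHom.id F) (e := 0) hrp (fun a => by simp)
        (fun a => rfl) hc hc1 hcn hno
      obtain ⟨μ, -, hμ, hall⟩ := hkill x hx 1 (by rw [hxr, one_smul]) hns
      exact hbad μ (by rw [hμ, one_mul]) hall
  · intro hR x hx ⟨z, hz⟩ hns
    rw [Units.val_pow_eq_pow_val] at hz
    suffices hgood : ∃ g ∈ Cfsg.Geo.specialLinear (Fin n) F, SimilMat.Sim (RingHom.id F) G (g⁻¹ * x * g) by
      obtain ⟨g, hg, hs⟩ := hgood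
      exact ⟨g, hg, (hSim _).2 hs⟩
    rcases hR with rfl | ⟨hr35, hnr, hv⟩
    · exact good_involution h2 hn hGd hGs hx hz
    have hq1 : Fintype.card F - 1 ≠ 0 := by have := Fintype.one_lt_card (α := F); omega
    have hd1 : r ∣ Fintype.card F - 1 := by
      have := (padicValNat_dvd_iff_le (p := r) (n := 1) hq1).2 hv.ge
      rwa [pow_one] at this
    obtain ⟨u, hu⟩ := exists_prime_orderOf_dvd_card' (G := Fˣ) r (by rwa [PrimeElemFlags.card_sub_one rfl])
    have hζ : IsPrimitiveRoot (u : F) r := by rw [IsPrimitiveRoot.iff_orderOf, orderOf_units, hu]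
    have hrr : ∀ w : F, w ^ (r * r) = 1 → w ^ r = 1 := by
      intro w hw
      have hw0 : w ≠ 0 := fun e => by
        rw [e, zero_pow (Nat.mul_ne_zero hr.ne_zero hr.ne_zero)] at hw; exact zero_ne_one hw
      have hg := pow_gcd_eq_one.2 ⟨hw, FiniteField.pow_card_sub_one_eq_one w hw0⟩
      have hgd : Nat.gcd (r * r) (Fintype.card F - 1) ∣ r := by
        have h0 : Nat.gcd (r * r) (Fintype.card F - 1) ∣ r ^ 2 := pow_two r ▸ Nat.gcd_dvd_left _ _
        obtain ⟨l, hl, hl'⟩ := (Nat.dvd_prime_pow hr).1 h0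
        have h1 : r ^ l ∣ Fintype.card F - 1 := hl' ▸ Nat.gcd_dvd_right _ _
        have := (padicValNat_dvd_iff_le hq1).1 h1
        rw [hl']
        exact (pow_dvd_pow r (show l ≤ 1 by omega)).trans (pow_one r).dvd
      obtain ⟨k, hk⟩ := hgd
      rw [hk, pow_mul, hg, one_pow]
    obtain ⟨T, d, τ, μ, hT, hXT, hτ, hμ, -, hdτ⟩ := SimilMat.small_pairing hζ hrr hr35 hnr hx hz
    have hμ0 : μ ≠ 0 := fun e => by rw [e, zero_pow hr.ne_zero] at hμ; exact zero_ne_one hμ
    obtain ⟨S, hSs, -, hSd, hS⟩ := SimilMat.exists_perm_form (RingHom.id F) τ hτ hdτ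
    obtain ⟨S', hS'e, hS'⟩ := SimilMat.form_of_conj hT hXT hS
    have hS'd : S'.det ≠ 0 := hS'e ▸ SimilMat.transport_det hT hSd
    have hS's : S'ᵀ = S' := by
      rw [hS'e, map_id_mat, Matrix.transpose_mul, Matrix.transpose_mul, Matrix.transpose_transpose, hSs, mul_assoc]
    obtain ⟨m, hnm⟩ : ∃ m, n = 2 * m + 1 := by
      rcases hr35 with e | e
      · exact ⟨1, by omega⟩
      · exact ⟨2, by omega⟩
    set κ := G.det * S'.det
    have hκ : κ ≠ 0 := mul_ne_zero hGd hS'd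
    obtain ⟨g, hg⟩ := cong_of_symm (N := κ • S') h2 hGs (by rw [Matrix.transpose_smul, hS's]) hGd
      (by rw [Matrix.det_smul]; exact mul_ne_zero (pow_ne_zero _ hκ) hS'd)
      (by rw [Matrix.det_smul, Fintype.card_fin, show κ ^ n = κ ^ (2 * m + 1) from congrArg (κ ^ ·) hnm];
          exact ⟨κ ^ (m + 1), by ring⟩)
    exact SimilMat.fix_of_form hμ0 hκ hS' g (by rw [map_id_mat]; exact hg)
      (SimilMat.centralizer_of_conj hT hXT fun a _ => SimilMat.diag_centralizer (by omega) d)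

end Cfsg.Agent.S5981
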