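import Cfsg.Statements.S5982
import Cfsg.Agent.Lib.MaxSub.SimilBad
import Cfsg.Agent.Lib.Classical.LinearCard
import Cfsg.Agent.Lib.Classical.HermCard
import Cfsg.Agent.Lib.Geometry.HermBasis
import Mathlib

set_option maxHeartbeats 1000000

set_option autoImplicit false
open scoped MatrixGroups
open Cfsg

namespace Cfsg.Agent.S5982

open Module Matrix Cfsg.Agent.Lib.MaxSub
open scoped _root_.Classical

variable {F : Type*} [Field F] {n : ℕ}

local notation "M" => Matrix (Fin n) (Fin n) F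

theorem mat_ext {A B : M} (h : ∀ u v : Fin n → F, u ⬝ᵥ (A *ᵥ v) = u ⬝ᵥ (B *ᵥ v)) : A = B :=
  Matrix.ext fun i j => by simpa using h (Pi.single i 1) (Pi.single j 1)

/-- The Gram matrix of a unitary form. -/
theorem exists_gram {q₀ : ℕ} (σ : F →+* F) (hσ : ∀ a, σ a = a ^ q₀) (hσσ : ∀ a, σ (σ a) = a)
    {f : (Fin n → F) → (Fin n → F) → F} (hf : Cfsg.Geo.IsUnitaryFormPow q₀ f) :
    ∃ G : M, G.det ≠ 0 ∧ Gᵀ = G.map σ ∧ (∀ u v, f u v = u ⬝ᵥ (G *ᵥ (σ ∘ v))) ∧
      ∀ y : GL (Fin n) F, y ∈ Cfsg.Geo.similarityGroup f ↔ SimilMat.Sim σ G y := by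
  have hh : ∀ v w, f v w = σ (f w v) := fun v w => by rw [hσ]; exact hf.herm v w
  have har : ∀ v x y, f v (x + y) = f v x + f v y := fun v x y => by
    rw [hh v, hf.add_left, map_add, ← hh, ← hh]
  have hsr : ∀ (c : F) v x, f v (c • x) = σ c * f v x := fun c v x => by
    rw [hh v, hf.smul_left, map_mul, ← hh]
  let B : (Fin n → F) →ₗ[F] (Fin n → F) →ₛₗ[σ] F :=
    LinearMap.mk₂'ₛₗ (RingHom.id F) σ f hf.add_left hf.smul_left har hsr
  let G : M := Matrix.of fun i j => f (Pi.single i 1) (Pi.single j 1)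
  have hfG : ∀ u v, f u v = u ⬝ᵥ (G *ᵥ (σ ∘ v)) := fun u v => by
    show B u v = _
    conv_lhs => rw [pi_eq_sum_univ' u, pi_eq_sum_univ' v]
    simp only [map_sum, map_smul, LinearMap.sum_apply, LinearMap.smul_apply, map_smulₛₗ, smul_eq_mul, RingHom.id_apply]
    simp only [dotProduct, Matrix.mulVec, Finset.mul_sum, B, G, LinearMap.mk₂'ₛₗ_apply, Matrix.of_apply, Function.comp_apply]
    rw [Finset.sum_comm]
    exact Finset.sum_congr rfl fun _ _ => Finset.sum_congr rfl fun _ _ => by ring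
  refine ⟨G, ?_, ?_, hfG, fun y => ?_⟩
  · intro h0
    obtain ⟨v, hv, hv'⟩ := Matrix.exists_vecMul_eq_zero_iff.2 h0
    obtain ⟨x, hx⟩ := (hf.nondegenerate v hv).2
    exact hx (by rw [hfG, Matrix.dotProduct_mulVec, hv', zero_dotProduct])
  · ext i j
    exact hh _ _
  · have hq : ∀ u v : Fin n → F, u ⬝ᵥ (((y : M)ᵀ * G * (y : M).map σ) *ᵥ (σ ∘ v)) = f ((y : M) *ᵥ u) ((y : M) *ᵥ v) := by
      intro u v
      rw [hfG, show σ ∘ ((y : M) *ᵥ v) = (y : M).map σ *ᵥ (σ ∘ v) from funext fun i => RingHom.map_mulVec σ (y : M) v i,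
        ← Matrix.mulVec_mulVec, ← Matrix.mulVec_mulVec, Matrix.dotProduct_mulVec u (y : M)ᵀ, Matrix.vecMul_transpose]
    constructor
    · rintro ⟨c, hc⟩
      refine ⟨c, c.ne_zero, mat_ext fun u v => ?_⟩
      have hv : v = σ ∘ (σ ∘ v) := funext fun i => (hσσ _).symm
      rw [hv, hq, hc, hfG, Matrix.smul_mulVec, dotProduct_smul, smul_eq_mul]
    · rintro ⟨μ, hμ, h⟩
      refine ⟨Units.mk0 μ hμ, fun u v => ?_⟩
      rw [← hq, h, Matrix.smul_mulVec, dotProduct_smul, smul_eq_mul, ← hfG, Units.val_mk0]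

/-- An orthonormal basis behind a Hermitian matrix. -/
theorem cong_one [Fintype F] {σ : F →+* F} (hσ : σ ≠ RingHom.id F) (hσσ : ∀ a, σ (σ a) = a) {G : M} (hG : G.det ≠ 0)
    (hGh : Gᵀ = G.map σ) : ∃ P : GL (Fin n) F, (P : M)ᵀ * G * (P : M).map σ = 1 := by
  let B : (Fin n → F) →ₛₗ[σ] (Fin n → F) →ₗ[F] F :=
    LinearMap.mk₂'ₛₗ σ (RingHom.id F) (fun u v => v ⬝ᵥ (G *ᵥ (σ ∘ u)))
      (fun a b c => by rw [show σ ∘ (a + b) = σ ∘ a + σ ∘ b from funext fun i => map_add σ _ _, Matrix.mulVec_add, dotProduct_add])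
      (fun a b c => by rw [show σ ∘ (a • b) = σ a • (σ ∘ b) from funext fun i => map_mul σ _ _, Matrix.mulVec_smul, dotProduct_smul])
      (fun a b c => add_dotProduct _ _ _) (fun a b c => smul_dotProduct _ _ _)
  have hss : ∀ u : Fin n → F, σ ∘ (σ ∘ u) = u := fun u => funext fun i => hσσ _
  have hS : B.IsSymm := ⟨fun u v => by
    show σ (v ⬝ᵥ (G *ᵥ (σ ∘ u))) = u ⬝ᵥ (G *ᵥ (σ ∘ v))
    rw [RingHom.map_dotProduct, show σ ∘ (G *ᵥ (σ ∘ u)) = G.map σ *ᵥ (σ ∘ (σ ∘ u)) from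
      funext fun i => RingHom.map_mulVec σ G _ i, hss, ← hGh, Matrix.mulVec_transpose, dotProduct_comm, Matrix.dotProduct_mulVec]⟩
  have hl : ∀ u, (∀ v, B u v = 0) → u = 0 := fun u hu => by
    have h0 : G *ᵥ (σ ∘ u) = 0 := dotProduct_eq_zero _ fun w => by rw [dotProduct_comm]; exact hu w
    have h1 := Matrix.eq_zero_of_mulVec_eq_zero hG h0
    exact funext fun i => (map_eq_zero σ).1 (congrFun h1 i)
  have hB : B.Nondegenerate := ⟨hl, fun v hv => hl v fun u => by rw [← hS.eq, hv, map_zero]⟩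
  obtain ⟨b₀, hb₀⟩ := Cfsg.Agent.Lib.Geometry.exists_orthonormal_basis hσ hσσ B hS hB
  let b := b₀.reindex (finCongr (Module.finrank_fin_fun F))
  have hb : ∀ i j, B (b i) (b j) = if i = j then 1 else 0 := fun i j => by
    simp [b, Basis.reindex_apply, hb₀]
  set P : M := Matrix.of fun i j => b j i with hPdef
  have hP : Pᵀ * G * P.map σ = 1 := by
    ext i j
    rw [Matrix.one_apply, show (if i = j then (1 : F) else 0) = if j = i then 1 else 0 by simp [eq_comm], ← hb j i, mul_assoc]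
    rfl
  have hd : P.det ≠ 0 := fun h => by
    have := congrArg Matrix.det hP
    rw [Matrix.det_mul, Matrix.det_mul, Matrix.det_transpose, h, zero_mul, zero_mul, Matrix.det_one] at this
    exact zero_ne_one this
  exact ⟨Matrix.GeneralLinearGroup.mkOfDetNeZero P hd, hP⟩

/-- Hermitian matrices are congruent. -/
theorem cong_herm [Fintype F] {σ : F →+* F} (hσ : σ ≠ RingHom.id F) (hσσ : ∀ a, σ (σ a) = a) {G S : M} (hG : G.det ≠ 0)
    (hGh : Gᵀ = G.map σ) (hS : S.det ≠ 0) (hSh : Sᵀ = S.map σ) :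
    ∃ h : GL (Fin n) F, (h : M)ᵀ * G * (h : M).map σ = S := by
  obtain ⟨P, hP⟩ := cong_one hσ hσσ hG hGh
  obtain ⟨Q, hQ⟩ := cong_one hσ hσσ hS hSh
  refine ⟨P * Q⁻¹, ?_⟩
  set A := ((Q⁻¹ : GL (Fin n) F) : M)
  have hA : (Q : M) * A = 1 := Units.mul_inv Q
  have hA1 : Aᵀ * (Q : M)ᵀ = 1 := by rw [← Matrix.transpose_mul, hA, Matrix.transpose_one]
  have hA2 : (Q : M).map σ * A.map σ = 1 := by rw [← Matrix.map_mul, hA, Matrix.map_one _ (map_zero σ) (map_one σ)]
  rw [Units.val_mul, Matrix.transpose_mul, Matrix.map_mul, show Aᵀ * (P : M)ᵀ * G * ((P : M).map σ * A.map σ) =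
    Aᵀ * ((P : M)ᵀ * G * (P : M).map σ) * A.map σ by simp only [mul_assoc], hP, ← hQ,
    show Aᵀ * ((Q : M)ᵀ * S * (Q : M).map σ) * A.map σ = (Aᵀ * (Q : M)ᵀ) * S * ((Q : M).map σ * A.map σ) by
      simp only [mul_assoc], hA1, hA2, one_mul, mul_one]

/-- From a model form to a fixed coset. -/
theorem good_of_model [Fintype F] {σ : F →+* F} (hσ : σ ≠ RingHom.id F) (hσσ : ∀ a, σ (σ a) = a) {G : M} (hG : G.det ≠ 0)
    (hGh : Gᵀ = G.map σ) {x : GL (Fin n) F} {T D S : M} (hT : T.det ≠ 0) (hXT : (x : M) * T = T * D) {μ : F} (hμ : μ ≠ 0)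
    (hSd : S.det ≠ 0) (hSh : Sᵀ = S.map σ) (hS : Dᵀ * S * D.map σ = μ • S)
    (hD : ∀ d : F, d ≠ 0 → ∃ C : M, C * D = D * C ∧ C.det = d) :
    ∃ g ∈ Cfsg.Geo.specialLinear (Fin n) F, SimilMat.Sim σ G (g⁻¹ * x * g) := by
  obtain ⟨S', hS'e, hS'⟩ := SimilMat.form_of_conj hT hXT hS
  obtain ⟨h, hh⟩ := cong_herm hσ hσσ hG hGh (hS'e ▸ SimilMat.transport_det hT hSd) (hS'e ▸ SimilMat.transport_herm hσσ hSh)
  exact SimilMat.fix_of_form hμ one_ne_zero hS' h (by rw [one_smul]; exact hh) (SimilMat.centralizer_of_conj hT hXT hD)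

/-- A frame for a map of square zero. -/
theorem exists_frame {N : M} (hN : N * N = 0) :
    ∃ (k l : ℕ) (e : (Fin k ⊕ Fin k) ⊕ Fin l ≃ Fin n) (T : M), T.det ≠ 0 ∧
      N * T = T * Matrix.reindex e e (Matrix.fromBlocks (Matrix.fromBlocks 0 1 0 0) 0 0 0) := by
  set y := N.mulVecLin with hy
  have hyy : ∀ v, y (y v) = 0 := fun v => by
    rw [hy, Matrix.mulVecLin_apply, Matrix.mulVecLin_apply, Matrix.mulVec_mulVec, hN, Matrix.zero_mulVec]
  set K := LinearMap.ker y
  set R := LinearMap.range y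
  have hRK : R ≤ K := by rintro _ ⟨v, rfl⟩; exact hyy v
  obtain ⟨W, hW⟩ := Submodule.exists_isCompl K
  obtain ⟨C, hC⟩ := Submodule.exists_isCompl (R.comap K.subtype)
  let bw := Module.finBasis F W
  haveI : Module.Free F C := Module.Free.of_divisionRing F C
  let bc := Module.finBasis F C
  set k := finrank F W
  set l := finrank F C
  let g : (Fin k ⊕ Fin k) ⊕ Fin l → (Fin n → F) :=
    Sum.elim (Sum.elim (fun i => y (bw i)) fun i => bw i) fun j => ((bc j : K) : Fin n → F)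
  have hspan : ⊤ ≤ Submodule.span F (Set.range g) := by
    set S := Submodule.span F (Set.range g)
    have hWS : W ≤ S := fun v hv => by
      have h := congrArg Subtype.val (bw.sum_repr ⟨v, hv⟩)
      simp only [Submodule.coe_sum, Submodule.coe_smul] at h
      rw [← h]
      exact Submodule.sum_mem _ fun i _ => Submodule.smul_mem _ _ (Submodule.subset_span ⟨.inl (.inr i), rfl⟩)
    have hdec : ∀ v, ∃ a ∈ K, ∃ b ∈ W, a + b = v := fun v =>
      Submodule.mem_sup.1 (hW.sup_eq_top ▸ Submodule.mem_top)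
    have hRS : R ≤ S := by
      rintro _ ⟨v, rfl⟩
      obtain ⟨a, ha, b, hb, rfl⟩ := hdec v
      have h := congrArg (fun w : W => y (w : Fin n → F)) (bw.sum_repr ⟨b, hb⟩)
      simp only [Submodule.coe_sum, Submodule.coe_smul, map_sum, map_smul] at h
      rw [map_add, LinearMap.mem_ker.1 ha, zero_add, ← h]
      exact Submodule.sum_mem _ fun i _ => Submodule.smul_mem _ _ (Submodule.subset_span ⟨.inl (.inl i), rfl⟩)
    intro v _
    obtain ⟨a, ha, b, hb, rfl⟩ := hdec v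
    refine S.add_mem ?_ (hWS hb)
    obtain ⟨r, hr, c, hc, hrc⟩ := Submodule.mem_sup.1
      ((hC.sup_eq_top ▸ Submodule.mem_top : (⟨a, ha⟩ : K) ∈ R.comap K.subtype ⊔ C))
    have h' := congrArg Subtype.val hrc
    rw [Submodule.coe_add] at h'
    show a ∈ S
    rw [show a = ((r : K) : Fin n → F) + ((c : K) : Fin n → F) from h'.symm]
    refine S.add_mem (hRS hr) ?_
    have h := congrArg (fun w : C => ((w : K) : Fin n → F)) (bc.sum_repr ⟨c, hc⟩)
    simp only [Submodule.coe_sum, Submodule.coe_smul] at h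
    rw [← h]
    exact Submodule.sum_mem _ fun i _ => Submodule.smul_mem _ _ (Submodule.subset_span ⟨.inr i, rfl⟩)
  have hcard : (k + k) + l = n := by
    have h1 := Submodule.finrank_add_eq_of_isCompl hW
    have h2 := LinearMap.finrank_range_add_finrank_ker y
    have h3 := Submodule.finrank_add_eq_of_isCompl hC
    have h4 := (Submodule.comapSubtypeEquivOfLe hRK).finrank_eq
    rw [Module.finrank_fin_fun] at h1 h2
    show (finrank F W + finrank F W) + finrank F C = n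
    change finrank F R + finrank F K = n at h2
    omega
  let e : (Fin k ⊕ Fin k) ⊕ Fin l ≃ Fin n := Fintype.equivFinOfCardEq (by simp; omega)
  let T' : Matrix (Fin n) ((Fin k ⊕ Fin k) ⊕ Fin l) F := Matrix.of fun i x => g x i
  refine ⟨k, l, e, T'.submatrix id e.symm, ?_, ?_⟩
  · have hu : IsUnit (T'.submatrix id e.symm) := by
      refine Matrix.mulVec_surjective_iff_isUnit.1 fun v => ?_
      obtain ⟨c, hc⟩ := (Submodule.mem_span_range_iff_exists_fun F).1 (hspan (Submodule.mem_top (x := v)))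
      refine ⟨c ∘ e.symm, ?_⟩
      rw [← hc]
      funext i
      simp only [Matrix.mulVec, dotProduct, Matrix.submatrix_apply, Finset.sum_apply, Pi.smul_apply, smul_eq_mul, id, T',
        Matrix.of_apply, Function.comp_apply]
      rw [← e.symm.sum_comp fun x => c x * g x i]
      exact Finset.sum_congr rfl fun x _ => mul_comm _ _
    exact ((Matrix.isUnit_iff_isUnit_det _).1 hu).ne_zero
  · rw [Matrix.reindex_apply, Matrix.submatrix_mul_equiv]
    have hNT : N * T' = T' * (Matrix.fromBlocks (Matrix.fromBlocks 0 1 0 0) 0 0 0 :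
        Matrix ((Fin k ⊕ Fin k) ⊕ Fin l) ((Fin k ⊕ Fin k) ⊕ Fin l) F) := by
      ext i x
      have hx : (N * T') i x = y (g x) i := rfl
      rw [hx, Matrix.mul_apply]
      rcases x with (x | x) | x
      · simp [g, hyy, Matrix.mul_apply, Fintype.sum_sum_type]
      · simp [g, T', Matrix.mul_apply, Fintype.sum_sum_type, Matrix.one_apply]
      · have h0 : y ((bc x : K) : Fin n → F) = 0 := LinearMap.mem_ker.1 (bc x : K).2
        simp [g, h0, Matrix.mul_apply, Fintype.sum_sum_type]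
    rw [← hNT]
    rfl

/-- Involutions in characteristic two. -/
theorem good_two [Fintype F] [CharP F 2] {σ : F →+* F} (hσ : σ ≠ RingHom.id F) (hσσ : ∀ a, σ (σ a) = a) {G : M} (hG : G.det ≠ 0)
    (hGh : Gᵀ = G.map σ) {x : GL (Fin n) F} {z : F} (hz : (x : M) * (x : M) = z • 1) (hz0 : z ≠ 0)
    (hns : ∀ z : F, (x : M) ≠ z • 1) : ∃ g ∈ Cfsg.Geo.specialLinear (Fin n) F, SimilMat.Sim σ G (g⁻¹ * x * g) := by
  obtain ⟨w, hw⟩ := FiniteField.isSquare_of_char_two (ringChar.eq F 2) z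
  have hw0 : w ≠ 0 := fun e => hz0 (by rw [hw, e, mul_zero])
  set N : M := w⁻¹ • (x : M) + 1 with hNdef
  have h2 : (2 : F) = 0 := CharTwo.two_eq_zero
  have hN : N * N = 0 := by
    rw [hNdef, add_mul, mul_add, mul_add, Matrix.smul_mul, Matrix.mul_smul, hz, smul_smul, smul_smul, one_mul, mul_one,
      show w⁻¹ * w⁻¹ * z = 1 by rw [hw]; field_simp, one_smul]
    rw [add_comm (1 : M) (w⁻¹ • (x : M)), add_comm (w⁻¹ • (x : M)) (1 * 1), one_mul, add_comm (w⁻¹ • (x : M)) 1, ← two_smul F,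
      h2, zero_smul]
  obtain ⟨k, l, e, T, hT, hNT⟩ := exists_frame hN
  set J₀ : Matrix ((Fin k ⊕ Fin k) ⊕ Fin l) ((Fin k ⊕ Fin k) ⊕ Fin l) F :=
    Matrix.fromBlocks (Matrix.fromBlocks 0 1 0 0) 0 0 0
  set J₁ : Matrix ((Fin k ⊕ Fin k) ⊕ Fin l) ((Fin k ⊕ Fin k) ⊕ Fin l) F :=
    Matrix.fromBlocks (Matrix.fromBlocks 1 1 0 1) 0 0 1 with hJ₁
  have hxN : (x : M) = w • (1 + N) := by
    rw [hNdef, add_left_comm, show (1 : M) + 1 = 0 by rw [← two_smul F (1 : M), h2, zero_smul], add_zero, smul_smul,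
      mul_inv_cancel₀ hw0, one_smul]
  have hJ : (1 : M) + Matrix.reindex e e J₀ = Matrix.reindex e e J₁ := by
    rw [← Matrix.submatrix_one_equiv e.symm, Matrix.reindex_apply, Matrix.reindex_apply, hJ₁]
    show (1 + J₀).submatrix e.symm e.symm = _
    congr 1
    rw [← Matrix.fromBlocks_one, ← Matrix.fromBlocks_one, Matrix.fromBlocks_add, Matrix.fromBlocks_add]
    simp
  have hXT : (x : M) * T = T * (w • Matrix.reindex e e J₁) := by
    rw [← hJ, hxN, Matrix.smul_mul, Matrix.mul_smul, add_mul, mul_add, one_mul, mul_one, hNT]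
  have hk : 0 < k := by
    by_contra hk
    obtain rfl : k = 0 := by omega
    have h0 : J₀ = 0 := by ext ((i | i) | i) ((j | j) | j) <;> first | exact i.elim0 | exact j.elim0 | simp [J₀]
    rw [h0] at hNT
    simp only [Matrix.reindex_apply, Matrix.submatrix_zero, Pi.zero_apply, mul_zero] at hNT
    have hN0 : N = 0 := by
      have := congrArg (· * T⁻¹) hNT
      simpa [mul_assoc, Matrix.mul_nonsing_inv _ (isUnit_iff_ne_zero.2 hT)] using this
    exact hns w (by rw [hxN, hN0, add_zero])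
  set S₀ : Matrix ((Fin k ⊕ Fin k) ⊕ Fin l) ((Fin k ⊕ Fin k) ⊕ Fin l) F :=
    Matrix.fromBlocks (Matrix.fromBlocks 0 1 1 0) 0 0 1 with hS₀
  have hS2 : S₀ * S₀ = 1 := by simp [hS₀, Matrix.fromBlocks_multiply, Matrix.fromBlocks_one]
  refine good_of_model hσ hσσ hG hGh hT hXT (μ := w * σ w) (S := Matrix.reindex e e S₀) (mul_ne_zero hw0 (by simpa using hw0))
    ?_ ?_ ?_ fun d hd => ?_
  · intro h
    rw [Matrix.det_reindex_self] at h
    have := congrArg Matrix.det hS2
    rw [Matrix.det_mul, h, zero_mul, Matrix.det_one] at this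
    exact zero_ne_one this
  · rw [Matrix.reindex_apply, Matrix.transpose_submatrix, ← Matrix.submatrix_map]
    congr 1
    simp [hS₀, Matrix.fromBlocks_transpose, Matrix.fromBlocks_map, Matrix.map_one, Matrix.map_zero]
  · rw [SimilMat.map_smul_mat, Matrix.transpose_smul, Matrix.smul_mul, Matrix.smul_mul, Matrix.mul_smul, smul_smul]
    congr 1
    simp only [Matrix.reindex_apply, Matrix.transpose_submatrix, ← Matrix.submatrix_map, Matrix.submatrix_mul_equiv]
    congr 1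
    simp [hS₀, hJ₁, Matrix.fromBlocks_transpose, Matrix.fromBlocks_map, Matrix.map_one, Matrix.map_zero,
      Matrix.fromBlocks_multiply]
    ext i j
    simp only [Matrix.add_apply, Matrix.zero_apply]
    linear_combination (1 : Matrix (Fin k) (Fin k) F) i j * h2
  · obtain ⟨a, ha⟩ := FiniteField.isSquare_of_char_two (ringChar.eq F 2) d
    set D₀ : Matrix (Fin k) (Fin k) F := Matrix.diagonal fun i => if i = (⟨0, hk⟩ : Fin k) then a else 1 with hD₀
    refine ⟨Matrix.reindex e e (Matrix.fromBlocks (Matrix.fromBlocks D₀ 0 0 D₀) 0 0 1), ?_, ?_⟩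
    · rw [Matrix.mul_smul, Matrix.smul_mul]
      congr 1
      simp only [Matrix.reindex_apply, Matrix.submatrix_mul_equiv]
      congr 1
      simp [hJ₁, Matrix.fromBlocks_multiply]
    · rw [Matrix.det_reindex_self, Matrix.det_fromBlocks_zero₂₁, Matrix.det_fromBlocks_zero₂₁, Matrix.det_one, mul_one,
        hD₀, Matrix.det_diagonal, Finset.prod_ite_eq', if_pos (Finset.mem_univ _), ← ha]

/-- Involutions in odd characteristic with square multiplier. -/
theorem good_square [Fintype F] {σ : F →+* F} (hσ : σ ≠ RingHom.id F) (hσσ : ∀ a, σ (σ a) = a) (h2 : (2 : F) ≠ 0) (hn : 0 < n)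
    {G : M} (hG : G.det ≠ 0) (hGh : Gᵀ = G.map σ) {x : GL (Fin n) F} {c : F} (hz : (x : M) * (x : M) = (c * c) • 1)
    (hc : c ≠ 0) : ∃ g ∈ Cfsg.Geo.specialLinear (Fin n) F, SimilMat.Sim σ G (g⁻¹ * x * g) := by
  obtain ⟨m, d, T, hT, -, hd, hXT⟩ := Cfsg.Agent.S5979.exists_diag_form h2 hc hz
  refine good_of_model hσ hσσ hG hGh hT hXT (μ := c * σ c) (S := 1) (mul_ne_zero hc (by simpa using hc))
    (by simp) (by rw [Matrix.transpose_one, Matrix.map_one _ (map_zero σ) (map_one σ)]) ?_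
    fun a _ => SimilMat.diag_centralizer hn d
  rw [mul_one, Matrix.diagonal_transpose, Matrix.diagonal_map (map_zero σ), Matrix.diagonal_mul_diagonal,
    Matrix.smul_one_eq_diagonal]
  congr 1
  funext i
  rw [hd]
  show (if _ then _ else _) * σ (if _ then _ else _) = _
  split_ifs <;> simp [map_neg]

/-- The multiplier of a matrix with scalar square is a square, unless two divides deeply. -/
theorem sq_of_le [Fintype F] (hp : ringChar F ≠ 2) (hq4 : Fintype.card F % 4 = 1) {z : F} (hz0 : z ≠ 0) {m : ℕ}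
    (hv : padicValNat 2 (2 * m) ≤ padicValNat 2 (Fintype.card F - 1)) (hm : 0 < m) (hzm : (-z) ^ m = 1) : IsSquare z := by
  obtain ⟨i, hi⟩ : IsSquare (-1 : F) := FiniteField.isSquare_neg_one_iff.2 (by omega)
  suffices h : IsSquare (-z) by
    obtain ⟨s, hs⟩ := h
    exact ⟨i * s, by linear_combination (i * i) * hs - z * hi⟩
  rw [FiniteField.isSquare_iff hp (neg_ne_zero.2 hz0)]
  haveI : Fact (Nat.Prime 2) := ⟨Nat.prime_two⟩
  have hg := pow_gcd_eq_one.2 ⟨hzm, FiniteField.pow_card_sub_one_eq_one (-z) (neg_ne_zero.2 hz0)⟩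
  set Q := Fintype.card F - 1 with hQ
  set g := Nat.gcd m Q
  obtain ⟨k, hk⟩ : g ∣ Q := Nat.gcd_dvd_right _ _
  obtain ⟨m', hm'⟩ : g ∣ m := Nat.gcd_dvd_left _ _
  have hhalf : Fintype.card F / 2 * 2 = Q := by omega
  rcases Nat.even_or_odd k with ⟨k', hk'⟩ | hko
  · have : Fintype.card F / 2 = g * k' := by rw [hk', mul_add] at hk; omega
    rw [this, pow_mul, hg, one_pow]
  · exfalso
    have hg0 : g ≠ 0 := fun e => by rw [e, zero_mul] at hm'; omega
    have h1 : padicValNat 2 Q = padicValNat 2 g := by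
      rw [hk, padicValNat.mul hg0 hko.pos.ne', padicValNat.eq_zero_of_not_dvd (n := k)
        (Nat.two_dvd_ne_zero.2 (Nat.odd_iff.1 hko)), add_zero]
    have hm0 : m' ≠ 0 := fun e => by rw [e, mul_zero] at hm'; omega
    have h2 : padicValNat 2 (2 * m) = 1 + (padicValNat 2 g + padicValNat 2 m') := by
      rw [padicValNat.mul (by norm_num) hm.ne', padicValNat.self one_lt_two, hm', padicValNat.mul hg0 hm0]
    omega

/-- The index divides the complementary factors. -/
theorem exists_twisted [Fintype F] {q₀ : ℕ} (hF : Fintype.card F = q₀ ^ 2) (hn : 1 ≤ n) (σ : F →+* F)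
    (hσ : ∀ a, σ a = a ^ q₀) {f : (Fin n → F) → (Fin n → F) → F} {G : M}
    (hfG : ∀ u v, f u v = u ⬝ᵥ (G *ᵥ (σ ∘ v))) {P : GL (Fin n) F} (hP : (P : M)ᵀ * G * (P : M).map σ = 1)
    {r : ℕ} [Fact r.Prime] (hrq : (q₀ : ZMod r) ≠ 0)
    (hΩ : r ∣ (Cfsg.Geo.similarityGroup f).relIndex (Cfsg.Geo.specialLinear (Fin n) F)) :
    ∃ j, 2 ≤ j ∧ j ≤ n ∧ (-(q₀ : ZMod r)) ^ j = -1 := by
  have hr : r.Prime := Fact.out
  have hq2 : 2 ≤ q₀ := by
    have := Fintype.one_lt_card (α := F)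
    rw [hF] at this
    by_contra h
    interval_cases q₀ <;> simp at this
  set S := Cfsg.Geo.specialLinear (Fin n) F
  have hfP : ∀ u v, f ((P : M) *ᵥ u) ((P : M) *ᵥ v) = Cfsg.hermForm n F q₀ u v := fun u v => by
    rw [hfG, show σ ∘ ((P : M) *ᵥ v) = (P : M).map σ *ᵥ (σ ∘ v) from funext fun i => RingHom.map_mulVec σ (P : M) v i,
      ← Matrix.vecMul_transpose, ← Matrix.dotProduct_mulVec, Matrix.mulVec_mulVec, Matrix.mulVec_mulVec, hP, Matrix.one_mulVec]
    simp [dotProduct, Cfsg.hermForm, hσ]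
  let ψ : Cfsg.SU n F q₀ →* GL (Fin n) F :=
    (MulAut.conj P).toMonoidHom.comp (Matrix.SpecialLinearGroup.toGL.comp (Cfsg.SU n F q₀).subtype)
  have hψi : Function.Injective ψ := fun a b h =>
    Subtype.ext (Matrix.SpecialLinearGroup.toGL_injective ((MulAut.conj P).injective h))
  have hψS : ∀ g, ψ g ∈ S := fun g => by
    refine MonoidHom.mem_ker.2 (Units.ext ?_)
    show ((P : M) * ((g.1 : Matrix.SpecialLinearGroup (Fin n) F) : M) * ((P⁻¹ : GL (Fin n) F) : M)).det = 1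
    rw [Matrix.det_mul, Matrix.det_mul, g.1.2, mul_one, ← Matrix.det_mul, Units.mul_inv, Matrix.det_one]
  have hψH : ∀ g, ψ g ∈ Cfsg.Geo.similarityGroup f := fun g => ⟨1, fun u v => by
    have hu : ∀ w, w = (P : M) *ᵥ (((P⁻¹ : GL (Fin n) F) : M) *ᵥ w) := fun w => by
      rw [Matrix.mulVec_mulVec, Units.mul_inv, Matrix.one_mulVec]
    show f (((P : M) * ((g.1 : Matrix.SpecialLinearGroup (Fin n) F) : M) * ((P⁻¹ : GL (Fin n) F) : M)) *ᵥ u)
      (((P : M) * ((g.1 : Matrix.SpecialLinearGroup (Fin n) F) : M) * ((P⁻¹ : GL (Fin n) F) : M)) *ᵥ v) = _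
    rw [← Matrix.mulVec_mulVec, ← Matrix.mulVec_mulVec, ← Matrix.mulVec_mulVec, ← Matrix.mulVec_mulVec, hfP]
    refine (g.2 _ _).trans ?_
    rw [← hfP, ← hu, ← hu, Units.val_one, one_mul]⟩
  let j : Cfsg.SU n F q₀ →* (Cfsg.Geo.similarityGroup f).subgroupOf S :=
    { toFun := fun g => ⟨⟨ψ g, hψS g⟩, hψH g⟩
      map_one' := Subtype.ext (Subtype.ext (map_one ψ))
      map_mul' := fun a b => Subtype.ext (Subtype.ext (map_mul ψ _ _)) }
  have hj : Nat.card (Cfsg.SU n F q₀) ∣ Nat.card ((Cfsg.Geo.similarityGroup f).subgroupOf S) :=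
    Subgroup.card_dvd_of_injective j fun a b h => hψi (congrArg (fun z => z.1.1) h)
  haveI : Nonempty (Fin n) := ⟨⟨0, hn⟩⟩
  have hS : Nat.card S * (q₀ ^ 2 - 1) = Nat.card (GL (Fin n) F) := by
    rw [← Cfsg.Agent.Lib.Classical.card_units_mul_card_SL, Cfsg.Agent.Lib.Classical.natCard_units, hF, mul_comm]
    congr 1
    exact Cfsg.Agent.Lib.Classical.card_SL_eq_card_ker_det.symm
  have h1 : r * Nat.card (Cfsg.SU n F q₀) ∣ Nat.card S := by
    rw [← Subgroup.index_mul_card ((Cfsg.Geo.similarityGroup f).subgroupOf S)]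
    exact mul_dvd_mul hΩ hj
  have h2 := mul_dvd_mul_right h1 ((q₀ ^ 2 - 1) * (q₀ + 1))
  rw [← mul_assoc (Nat.card S), hS, show r * Nat.card (Cfsg.SU n F q₀) * ((q₀ ^ 2 - 1) * (q₀ + 1)) =
    Nat.card (Cfsg.GU n F q₀) * (r * (q₀ ^ 2 - 1)) by rw [← Cfsg.Agent.Lib.Classical.card_SU hF hn]; ring,
    Cfsg.Agent.Lib.Classical.card_GL_formula, hF] at h2
  set A := n * (n - 1) / 2
  let ext : ℕ → ℕ := fun i => if Even i then q₀ ^ (i + 1) - 1 else q₀ ^ (i + 1) + 1
  have hext : ∀ i, (q₀ ^ 2) ^ (i + 1) - 1 = (if Even i then q₀ ^ (i + 1) + 1 else q₀ ^ (i + 1) - 1) * ext i := fun i => by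
    show _ = _ * (if _ then _ else _)
    rw [← pow_mul, mul_comm 2, pow_mul, show (q₀ ^ (i + 1)) ^ 2 - 1 = (q₀ ^ (i + 1)) ^ 2 - 1 ^ 2 by rw [one_pow], Nat.sq_sub_sq]
    split_ifs
    · rfl
    · exact mul_comm _ _
  rw [Finset.prod_congr rfl fun i _ => hext i, Finset.prod_mul_distrib, show (q₀ ^ 2) ^ A = q₀ ^ A * q₀ ^ A by ring,
    show ∀ a b : ℕ, q₀ ^ A * q₀ ^ A * (a * b) * (q₀ + 1) = q₀ ^ A * a * (q₀ ^ A * b * (q₀ + 1)) from fun a b => by ring,
    ← Cfsg.Agent.Lib.Classical.card_GU hF] at h2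
  have h3 := Nat.dvd_of_mul_dvd_mul_left Nat.card_pos h2
  obtain ⟨n', rfl⟩ : ∃ n', n = n' + 1 := ⟨n - 1, by omega⟩
  rw [Finset.prod_range_succ', show ext 0 = q₀ - 1 by simp [ext], show q₀ ^ 2 - 1 = (q₀ + 1) * (q₀ - 1) by
    rw [← Nat.sq_sub_sq, one_pow], show ∀ a : ℕ, q₀ ^ A * (a * (q₀ - 1)) * (q₀ + 1) = q₀ ^ A * a * ((q₀ + 1) * (q₀ - 1))
    from fun a => by ring] at h3
  have h4 := Nat.dvd_of_mul_dvd_mul_right (Nat.mul_pos (Nat.succ_pos _) (by omega)) h3
  rcases hr.dvd_mul.1 h4 with h | h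
  · exact absurd ((ZMod.natCast_eq_zero_iff _ r).2 (hr.dvd_of_dvd_pow h)) hrq
  obtain ⟨i, hi, hi'⟩ := (hr.prime.dvd_finset_prod_iff _).1 h
  rw [Finset.mem_range] at hi
  refine ⟨i + 2, by omega, by omega, ?_⟩
  have h0 := (ZMod.natCast_eq_zero_iff _ r).2 hi'
  simp only [ext] at h0
  split_ifs at h0 with he
  · rw [Nat.cast_sub (Nat.one_le_pow _ _ (by omega))] at h0
    push_cast at h0
    rw [(show Odd (i + 2) from Even.add_one he).neg_pow]
    linear_combination -h0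
  · push_cast at h0
    rw [(show Even (i + 2) from (Nat.not_even_iff_odd.1 he).add_one).neg_pow]
    linear_combination h0


/-- Elements of prime order of PSL_n(q), q = q₀², and the subgroups of unitary type. Here `T = PSL_n(F)` for a field `F` with `q = q₀²` elements (`n ≥ 3`), `f` is a non-degenerate unitary form on `F^n` for the involutory automorphism `x ↦ x^{q₀}`, and `H` is the subgroup of matrices of determinant 1 that preserve `f` up to a scalar — a subgroup of type GU_n(q₀) (maximality is not assumed); Ω is the set of cosets of `H` in `T`, so an element of `T` of prime order `r` (a matrix `x` of determinant 1 with `x^r` scalar, `x` not scalar) fixes a point of Ω exactly when some conjugate of `x` by a matrix of determinant 1 preserves `f` up to a scalar. Let `r` be a prime dividing the index of `H`, with `r = 2` or `r` different from the characteristic `p`, and with `(n, r) ≠ (6, 3)`. Then every element of `T` of order `r` fixes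 a point of Ω if and only if either `r = 2` and (`p = 2` or `(n)_2 ≤ (q − 1)_2`), or `r ∈ {3, 5}`, `n = r` and `(q₀ − 1)_r = r`. (Odd `r = p` and the case `(n, r) = (6, 3)` are not covered by this statement.) -/
theorem result {F : Type*} [Field F] [Fintype F] {p : ℕ} [Fact p.Prime] [CharP F p] {q : ℕ} (hq : Fintype.card F = q)
    (q₀ : ℕ) (hq₀ : q = q₀ ^ 2) (n : ℕ) (hn : 3 ≤ n) (f : (Fin n → F) → (Fin n → F) → F) (hf : Cfsg.Geo.IsUnitaryFormPow q₀ f)
    (r : ℕ) [Fact r.Prime] (hr : r = 2 ∨ r ≠ p) (hgap : ¬ (n = 6 ∧ r = 3))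
    (hΩ : r ∣ (Cfsg.Geo.similarityGroup f).relIndex (Cfsg.Geo.specialLinear (Fin n) F)) :
    (∀ x ∈ Cfsg.Geo.specialLinear (Fin n) F, (∃ z : F, ((x ^ r : GL (Fin n) F) : Matrix (Fin n) (Fin n) F) = z • (1 : Matrix (Fin n) (Fin n) F)) →
      (∀ z : F, (x : Matrix (Fin n) (Fin n) F) ≠ z • (1 : Matrix (Fin n) (Fin n) F)) →
      ∃ g ∈ Cfsg.Geo.specialLinear (Fin n) F, g⁻¹ * x * g ∈ Cfsg.Geo.similarityGroup f) ↔
    ((r = 2 ∧ (p = 2 ∨ padicValNat 2 n ≤ padicValNat 2 (q - 1))) ∨ ((r = 3 ∨ r = 5) ∧ n = r ∧ padicValNat r (q₀ - 1) = 1)) := by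
  classical
  subst hq
  have hF : Fintype.card F = q₀ ^ 2 := hq₀
  have hpr : r.Prime := Fact.out
  obtain ⟨kk, -, hk⟩ := FiniteField.card F p
  obtain ⟨e, -, rfl⟩ := (Nat.dvd_prime_pow (Fact.out : p.Prime) (m := kk)).1
    (show q₀ ∣ p ^ (kk : ℕ) by rw [← hk, hF]; exact dvd_pow_self _ two_ne_zero)
  set σ : F →+* F := iterateFrobenius F p e with hσdef
  have hσ : ∀ a, σ a = a ^ p ^ e := fun a => iterateFrobenius_def p e a
  have hσσ : ∀ a, σ (σ a) = a := fun a => by rw [hσ, hσ, ← pow_mul, ← pow_two, ← hF, FiniteField.pow_card]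
  have hq2 : 2 ≤ p ^ e := by
    have := Fintype.one_lt_card (α := F)
    rw [hF] at this
    by_contra h
    interval_cases (p ^ e) <;> simp at this
  obtain ⟨γ, hγ⟩ := IsCyclic.exists_generator (α := Fˣ)
  have hγp : IsPrimitiveRoot (γ : F) (Fintype.card F - 1) := by
    rw [IsPrimitiveRoot.iff_orderOf, orderOf_units, orderOf_eq_card_of_forall_mem_zpowers hγ,
      Nat.card_eq_fintype_card, Fintype.card_units]
  have hQpos : (p ^ e) ^ 2 - 1 = (p ^ e + 1) * (p ^ e - 1) := by rw [← Nat.sq_sub_sq, one_pow]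
  have hσne : σ ≠ RingHom.id F := fun h => by
    have h1 : (γ : F) ^ p ^ e = (γ : F) ^ 1 := by rw [← hσ, h, pow_one]; rfl
    have h4 : 4 ≤ (p ^ e) ^ 2 := by nlinarith
    have h5 : p ^ e < (p ^ e) ^ 2 - 1 := by
      have : p ^ e * 2 ≤ (p ^ e) ^ 2 := by rw [pow_two]; exact Nat.mul_le_mul_left _ hq2
      omega
    have := hγp.pow_inj (hF ▸ h5) (hF ▸ (by omega : 1 < (p ^ e) ^ 2 - 1)) h1
    omega
  obtain ⟨G, hGd, hGh, hfG, hSim⟩ := exists_gram σ hσ hσσ hf
  obtain ⟨P₀, hP₀⟩ := cong_one hσne hσσ hGd hGh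
  haveI : Nonempty (Fin n) := ⟨⟨0, by omega⟩⟩
  have hq1 : Fintype.card F - 1 ≠ 0 := by have := Fintype.one_lt_card (α := F); omega
  have hfix : r ∣ p ^ e - 1 → ∀ w : F, w ^ r = 1 → σ w = w := by
    rintro ⟨l, hl⟩ w hw
    rw [hσ, show p ^ e = r * l + 1 by omega, pow_succ, pow_mul, hw, one_pow, one_mul]
  constructor
  · intro h
    have hkill : ∀ x ∈ Cfsg.Geo.specialLinear (Fin n) F, ∀ z : F,
        (x : Matrix (Fin n) (Fin n) F) ^ r = z • 1 → (∀ z : F, (x : Matrix (Fin n) (Fin n) F) ≠ z • 1) →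
        ∃ μ : F, μ ≠ 0 ∧ σ μ = μ ∧ μ ^ r = z * σ z ∧ ∀ P : Polynomial F, (Polynomial.aeval (x : Matrix (Fin n) (Fin n) F) P).rank =
          (Polynomial.aeval (μ • ((x⁻¹ : GL (Fin n) F) : Matrix (Fin n) (Fin n) F)) (P.map σ)).rank := by
      intro x hx z hxr hns
      obtain ⟨g, -, hgS⟩ := h x hx ⟨z, by rw [Units.val_pow_eq_pow_val]; exact hxr⟩ hns
      exact SimilMat.good_rank hσσ hGd hGh hxr ((hSim _).1 hgS)
    by_contra hR
    by_cases hr2 : r = 2
    · subst hr2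
      haveI : Fact (Nat.Prime 2) := ⟨Nat.prime_two⟩
      obtain ⟨hp2, hv⟩ : p ≠ 2 ∧ padicValNat 2 (Fintype.card F - 1) < padicValNat 2 n := by
        constructor
        · exact fun e => hR (Or.inl ⟨rfl, Or.inl e⟩)
        · exact not_le.1 fun e => hR (Or.inl ⟨rfl, Or.inr e⟩)
      have hoddq : Odd (p ^ e) := (Nat.Prime.odd_of_ne_two Fact.out hp2).pow
      set a := padicValNat 2 (Fintype.card F - 1) with ha
      obtain ⟨m, hnm, ham⟩ : ∃ m, n = 2 * m ∧ 2 ^ a ∣ m := by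
        obtain ⟨m', hm'⟩ := (padicValNat_dvd_iff_le (p := 2) (a := n) (by omega)).2 hv
        exact ⟨2 ^ a * m', by rw [hm', pow_succ]; ring, dvd_mul_right _ _⟩
      obtain ⟨l, hl⟩ : 2 ^ a ∣ Fintype.card F - 1 := pow_padicValNat_dvd
      have hu : IsPrimitiveRoot ((γ : F) ^ l) (2 ^ a) := hγp.pow (by omega) (by rw [hl, mul_comm])
      set u := (γ : F) ^ l
      let e₂ : Fin 2 × Fin m ≃ Fin n := Fintype.equivFinOfCardEq (by simp; omega)
      let K : Matrix (Fin n) (Fin n) F := Matrix.reindex e₂ e₂ (Matrix.blockDiagonal fun _ => !![0, -u; 1, 0])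
      obtain ⟨x, hx, hxS⟩ := Cfsg.Agent.S5979.mk_GL K (by
        obtain ⟨m', hm'⟩ := ham
        simp only [K, Matrix.det_reindex_self, Matrix.det_blockDiagonal, Matrix.det_fin_two_of, zero_mul, mul_one, zero_sub,
          neg_neg, Finset.prod_const, Finset.card_univ, Fintype.card_fin]
        rw [hm', pow_mul, hu.pow_eq_one, one_pow])
      have hxx : (x : Matrix (Fin n) (Fin n) F) ^ 2 = (-u) • 1 := by
        rw [hx, pow_two]
        simp only [K, Matrix.reindex_apply, Matrix.submatrix_mul_equiv, ← Matrix.blockDiagonal_mul]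
        rw [show (fun _ : Fin m => !![0, -u; 1, 0] * !![0, -u; 1, 0]) = (-u) • (1 : Fin m → Matrix (Fin 2) (Fin 2) F) by
          funext i; ext a b; fin_cases a <;> fin_cases b <;> simp [Matrix.mul_apply, Fin.sum_univ_two],
          Matrix.blockDiagonal_smul, Matrix.blockDiagonal_one]
        ext a b
        simp [Matrix.one_apply, apply_ite (fun t : F => -t)]
      have hns : ∀ z : F, (x : Matrix (Fin n) (Fin n) F) ≠ z • 1 := fun z hz => by
        rw [hx] at hz
        have := congrFun (congrFun hz (e₂ (1, ⟨0, by omega⟩))) (e₂ (0, ⟨0, by omega⟩))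
        simp [K, Matrix.blockDiagonal_apply] at this
      obtain ⟨μ, hμ0, hμσ, hμ2, -⟩ := hkill x hxS (-u) hxx hns
      have hu0 : u ≠ 0 := hu.ne_zero (by positivity)
      obtain ⟨hh, hh'⟩ := hoddq
      have hfix' : μ ^ (2 * hh) = 1 := by
        refine mul_left_cancel₀ hμ0 ?_
        rw [← pow_succ', ← hh', ← hσ, hμσ, mul_one]
      have hsq : (-u) ^ (Fintype.card F / 2) = 1 := by
        rw [show Fintype.card F / 2 = (p ^ e + 1) * hh by
          rw [hF, show (p ^ e) ^ 2 = 2 * ((p ^ e + 1) * hh) + 1 by rw [hh']; ring]; omega, pow_mul,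
          show (-u) ^ (p ^ e + 1) = μ ^ 2 by rw [hμ2, hσ, pow_succ', neg_pow], ← pow_mul, hfix']
      have hcodd : Fintype.card F % 2 = 1 := by rw [hF]; exact Nat.odd_iff.1 (Odd.pow ⟨hh, hh'⟩)
      have heven : Even (Fintype.card F / 2) := by
        rw [show Fintype.card F / 2 = (p ^ e + 1) * hh by
          rw [hF, show (p ^ e) ^ 2 = 2 * ((p ^ e + 1) * hh) + 1 by rw [hh']; ring]; omega]
        exact Even.mul_right ⟨hh + 1, by omega⟩ _
      rw [heven.neg_pow] at hsq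
      have hdvd := hu.dvd_of_pow_eq_one _ hsq
      have h2h : Fintype.card F - 1 = Fintype.card F / 2 * 2 := by omega
      have := (padicValNat_dvd_iff_le (p := 2) (a := Fintype.card F - 1) hq1).1
        (show 2 ^ (a + 1) ∣ Fintype.card F - 1 by rw [h2h, pow_succ]; exact mul_dvd_mul_right hdvd 2)
      omega
    have hrp : r ≠ p := hr.resolve_left hr2
    have hrp0 : ((p ^ e : ℕ) : ZMod r) ≠ 0 := fun h0 => hrp
      ((Nat.prime_dvd_prime_iff_eq hpr Fact.out).1 (hpr.dvd_of_dvd_pow ((ZMod.natCast_eq_zero_iff _ r).1 h0)))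
    obtain ⟨j, hj2, hjn, hj⟩ := exists_twisted hF (by omega) σ hσ hfG hP₀ hrp0 hΩ
    set s : ZMod r := -((p ^ e : ℕ) : ZMod r) with hs
    have h1ne : (-1 : ZMod r) ≠ 1 := fun h1 => by
      have h20 : ((2 : ℕ) : ZMod r) = 0 := by push_cast; linear_combination -h1
      exact hr2 ((Nat.prime_dvd_prime_iff_eq hpr Nat.prime_two).1 ((ZMod.natCast_eq_zero_iff 2 r).1 h20))
    have hqs : ((Fintype.card F : ℕ) : ZMod r) = s * s := by rw [hs, neg_mul_neg, hF, pow_two, Nat.cast_mul]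
    obtain ⟨c, hc⟩ : ∃ c, orderOf ((Fintype.card F : ℕ) : ZMod r) = c := ⟨_, rfl⟩
    by_cases hc1 : c = 1
    · have hd1 : r ∣ Fintype.card F - 1 := (PrimeElemFlags.order_eq_one_iff rfl).1 (hc.trans hc1)
      have hs1 : s * s = 1 := by rw [← hqs, ← orderOf_eq_one_iff, hc, hc1]
      have hrd : r ∣ p ^ e - 1 := by
        rcases mul_self_eq_one_iff.1 hs1 with h1 | h1
        · rw [h1, one_pow] at hj; exact absurd hj.symm h1ne
        · rw [← ZMod.natCast_eq_zero_iff, Nat.cast_sub (by omega), Nat.cast_one]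
          rw [hs] at h1
          linear_combination (-1 : ZMod r) * h1
      by_cases hex : (r = 3 ∨ r = 5) ∧ n = r
      · obtain ⟨hr35, hnr⟩ := hex
        have hv : 2 ≤ padicValNat r (p ^ e - 1) := by
          have h1 : 1 ≤ padicValNat r (p ^ e - 1) := (padicValNat_dvd_iff_le (by omega)).1 (by rwa [pow_one])
          have h2' : padicValNat r (p ^ e - 1) ≠ 1 := fun e' => hR (Or.inr ⟨hr35, hnr, e'⟩)
          omega
        have hrr : r * r ∣ p ^ e - 1 := by rw [← pow_two]; exact (padicValNat_dvd_iff_le (by omega)).2 hv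
        obtain ⟨l, hl⟩ : r * r ∣ Fintype.card F - 1 := by rw [hF, hQpos]; exact hrr.mul_left _
        have hη : IsPrimitiveRoot ((γ : F) ^ l) (r * r) := hγp.pow (by omega) (by rw [hl, mul_comm])
        obtain ⟨l', hl'⟩ := hrr
        have hση : σ ((γ : F) ^ l) = (γ : F) ^ l := by
          rw [hσ]
          conv_lhs => rw [show p ^ e = r * r * l' + 1 by omega, pow_succ, pow_mul, hη.pow_eq_one, one_pow, one_mul]
        obtain ⟨x, hx, z, hxr, hns, hbad⟩ := SimilMat.exists_twist_bad (σ := σ) hη hση hr2 hnr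
        obtain ⟨μ, -, -, hμ, hall⟩ := hkill x hx z hxr hns
        exact hbad μ hμ hall
      · obtain ⟨u, hu⟩ := exists_prime_orderOf_dvd_card' (G := Fˣ) r (by rwa [PrimeElemFlags.card_sub_one rfl])
        have hζ : IsPrimitiveRoot (u : F) r := by rw [IsPrimitiveRoot.iff_orderOf, orderOf_units, hu]
        obtain ⟨x, hx, hxr, hns, hbad⟩ := SimilMat.exists_exp_bad (n := n) (σ := σ) hζ (hfix hrd _ hζ.pow_eq_one) hr2 hn
          (fun h' => hex ⟨Or.inl h'.2, h'.1.trans h'.2.symm⟩) (fun h' => hex ⟨Or.inr h'.2, h'.1.trans h'.2.symm⟩) hgap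
        obtain ⟨μ, -, -, hμ, hall⟩ := hkill x hx 1 (by rw [hxr, one_smul]) hns
        exact hbad μ (by rw [hμ, map_one, one_mul]) hall
    · have hcn : c ≤ n := by
        have hq : ((Fintype.card F : ℕ) : ZMod r) ^ j = 1 := by rw [hqs, mul_pow, hj, neg_one_mul, neg_neg]
        exact (Nat.le_of_dvd (by omega) (hc ▸ orderOf_dvd_of_pow_eq_one hq)).trans hjn
      have hno : ∀ i : ℕ, -((p ^ e : ℕ) : ZMod r) ≠ ((Fintype.card F : ℕ) : ZMod r) ^ i := by
        intro i hi
        rw [hqs, ← pow_two, ← pow_mul, ← hs] at hi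
        rcases Nat.eq_zero_or_pos i with rfl | hi0
        · rw [mul_zero, pow_zero] at hi
          rw [hi, one_pow] at hj
          exact h1ne hj.symm
        have hs0 : s ≠ 0 := neg_ne_zero.2 hrp0
        have hsodd : s ^ (2 * i - 1) = 1 := by
          refine mul_left_cancel₀ hs0 ?_
          rw [← pow_succ', show 2 * i - 1 + 1 = 2 * i by omega, ← hi, mul_one]
        have h1 : (-1 : ZMod r) ^ (2 * i - 1) = 1 := by rw [← hj, ← pow_mul, mul_comm, pow_mul, hsodd, one_pow]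
        rw [Odd.neg_one_pow ⟨i - 1, by omega⟩] at h1
        exact h1ne h1
      obtain ⟨x, hx, hxr, hns, hbad⟩ := SimilMat.exists_block_bad (σ := σ) (e := e) hrp hσ hσσ hc hc1 hcn hno
      obtain ⟨μ, -, -, hμ, hall⟩ := hkill x hx 1 (by rw [hxr, one_smul]) hns
      exact hbad μ (by rw [hμ, map_one, one_mul]) hall
  · intro hR x hx ⟨z, hz⟩ hns
    rw [Units.val_pow_eq_pow_val] at hz
    suffices hgood : ∃ g ∈ Cfsg.Geo.specialLinear (Fin n) F, SimilMat.Sim σ G (g⁻¹ * x * g) by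
      obtain ⟨g, hg, hs⟩ := hgood
      exact ⟨g, hg, (hSim _).2 hs⟩
    rcases hR with ⟨rfl, hR⟩ | ⟨hr35, hnr, hv⟩
    · have hdet : (x : Matrix (Fin n) (Fin n) F).det = 1 := congrArg Units.val (MonoidHom.mem_ker.1 hx)
      have hzn : z ^ n = 1 := by
        have h := congrArg Matrix.det hz
        rwa [Matrix.det_pow, hdet, one_pow, Matrix.det_smul, Matrix.det_one, mul_one, Fintype.card_fin, eq_comm] at h
      have hz0 : z ≠ 0 := fun h => by rw [h, zero_pow (by omega)] at hzn; exact zero_ne_one hzn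
      rw [pow_two] at hz
      by_cases hp2 : p = 2
      · subst hp2
        exact good_two hσne hσσ hGd hGh hz hz0 hns
      have hpc : ringChar F ≠ 2 := by rw [ringChar.eq F p]; exact hp2
      have h2 : (2 : F) ≠ 0 := Ring.two_ne_zero hpc
      have hsq : IsSquare z := by
        by_contra hsqz
        obtain ⟨m, hnm⟩ : ∃ m, n = 2 * m := by
          rcases Nat.even_or_odd' n with ⟨m, hnm | hnm⟩
          · exact ⟨m, hnm⟩
          · refine absurd ?_ hsqz
            refine ⟨z ^ (m + 1), ?_⟩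
            rw [← pow_add, show m + 1 + (m + 1) = n + 1 by omega, pow_succ, hzn, one_mul]
        obtain ⟨e₂, T, hT, hXT⟩ := SimilMat.exists_pair_model hz hsqz hnm
        have hdm : (-z) ^ m = 1 := by
          have h := congrArg Matrix.det hXT
          rw [Matrix.det_mul, Matrix.det_mul, hdet, one_mul, Matrix.det_reindex_self, Matrix.det_blockDiagonal] at h
          have h' := mul_left_cancel₀ hT (show T.det * 1 = _ from (mul_one _).trans h)
          refine Eq.trans ?_ h'.symm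
          simp [Matrix.det_fin_two_of]
        have hq4 : Fintype.card F % 4 = 1 := by
          obtain ⟨hh, hh'⟩ := ((Nat.Prime.odd_of_ne_two Fact.out hp2).pow : Odd (p ^ e))
          obtain ⟨t, ht⟩ := Nat.even_mul_succ_self hh
          rw [hF, show (p ^ e) ^ 2 = 4 * (hh * (hh + 1)) + 1 by rw [hh']; ring]
          omega
        exact hsqz (sq_of_le hpc hq4 hz0 (hnm ▸ hR.resolve_left hp2) (by omega) hdm)
      obtain ⟨c, rfl⟩ := hsq
      exact good_square hσne hσσ h2 (by omega) hGd hGh hz (fun h => hz0 (by rw [h, mul_zero]))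
    have hr2 : r ≠ 2 := by rcases hr35 with h | h <;> omega
    have hd : r ∣ p ^ e - 1 := by
      have := (padicValNat_dvd_iff_le (p := r) (n := 1) (show p ^ e - 1 ≠ 0 by omega)).2 hv.ge
      rwa [pow_one] at this
    obtain ⟨u, hu⟩ := exists_prime_orderOf_dvd_card' (G := Fˣ) r (by
      rw [PrimeElemFlags.card_sub_one rfl, hF, hQpos]; exact hd.mul_left _)
    have hζ : IsPrimitiveRoot (u : F) r := by rw [IsPrimitiveRoot.iff_orderOf, orderOf_units, hu]
    have hrr : ∀ w : F, w ^ (r * r) = 1 → w ^ r = 1 := by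
      intro w hw
      have hw0 : w ≠ 0 := fun h => by
        rw [h, zero_pow (Nat.mul_ne_zero hpr.ne_zero hpr.ne_zero)] at hw; exact zero_ne_one hw
      have hg := pow_gcd_eq_one.2 ⟨hw, FiniteField.pow_card_sub_one_eq_one w hw0⟩
      have hgd : Nat.gcd (r * r) (Fintype.card F - 1) ∣ r := by
        have h0 : Nat.gcd (r * r) (Fintype.card F - 1) ∣ r ^ 2 := pow_two r ▸ Nat.gcd_dvd_left _ _
        obtain ⟨l, hl, hl'⟩ := (Nat.dvd_prime_pow hpr).1 h0
        have h1 : r ^ l ∣ Fintype.card F - 1 := hl' ▸ Nat.gcd_dvd_right _ _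
        have hvq : padicValNat r (Fintype.card F - 1) = 1 := by
          have hnd : ¬ r ∣ p ^ e + 1 := fun h => hr2 ((Nat.prime_dvd_prime_iff_eq hpr Nat.prime_two).1 (by
            have h2 := Nat.dvd_sub h hd
            rwa [show p ^ e + 1 - (p ^ e - 1) = 2 by omega] at h2))
          rw [hF, hQpos, padicValNat.mul (by omega) (by omega), padicValNat.eq_zero_of_not_dvd hnd, hv]
        have := (padicValNat_dvd_iff_le hq1).1 h1
        rw [hl']
        exact (pow_dvd_pow r (show l ≤ 1 by omega)).trans (pow_one r).dvd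
      obtain ⟨k, hk⟩ := hgd
      rw [hk, pow_mul, hg, one_pow]
    obtain ⟨T, d, τ, μ, hT, hXT, hτ, hμ, hdr, hdτ⟩ := SimilMat.small_pairing hζ hrr hr35 hnr hx hz
    have hμ0 : μ ≠ 0 := fun h => by rw [h, zero_pow hpr.ne_zero] at hμ; exact zero_ne_one hμ
    obtain ⟨S, hSs, hSm, hSd, hS⟩ := SimilMat.exists_perm_form σ τ hτ (d := d) (μ := μ)
      (fun i => by rw [hfix hd _ (hdr _), hdτ])
    exact good_of_model hσne hσσ hGd hGh hT hXT hμ0 hSd (hSs.trans hSm.symm) hS
      fun a _ => SimilMat.diag_centralizer (by omega) d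

end Cfsg.Agent.S5982
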