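import Cfsg.Statements.S5983
import Mathlib
import Cfsg.Agent.Lib.MaxSub.SympForms
import Cfsg.Agent.Lib.MaxSub.InvolutionBlocks
import Cfsg.Agent.Lib.MaxSub.MinusModel

set_option autoImplicit false
set_option maxHeartbeats 1000000
open scoped MatrixGroups
open Cfsg

namespace Cfsg.Agent.S5983

open Matrix
open QuadraticMap (polarBilin)
open Cfsg.Agent.Lib.MaxSub
open Cfsg.Agent.Lib.MaxSub.SympForms

section

variable {F : Type*} [Field F] [CharP F 2] {d : ℕ}

theorem eq_one_of_sq (c : F) (h : c * c = 1) : c = 1 := by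
  rcases mul_self_eq_one_iff.1 h with h' | h'
  · exact h'
  · rw [h', CharTwo.neg_eq]

theorem exists_pair (hd : 0 < d) : ∃ u v : Fin d ⊕ Fin d → F, SympForms.B F d u v = 1 := by
  refine ⟨Pi.single (.inl ⟨0, hd⟩) 1, Pi.single (.inr ⟨0, hd⟩) 1, ?_⟩
  rw [B_apply, Finset.sum_eq_single (⟨0, hd⟩ : Fin d)] <;> simp [Pi.single_apply]

theorem scalar_eq_one (hd : 0 < d) {x : GL (Fin d ⊕ Fin d) F} (hx : x ∈ Cfsg.spGL d F) {z : F}
    (hz : (x : Matrix (Fin d ⊕ Fin d) (Fin d ⊕ Fin d) F) = z • 1) : z = 1 := by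
  obtain ⟨u, v, huv⟩ := exists_pair (F := F) hd
  have h : SympForms.B F d ((x : Matrix (Fin d ⊕ Fin d) (Fin d ⊕ Fin d) F) *ᵥ u)
      ((x : Matrix (Fin d ⊕ Fin d) (Fin d ⊕ Fin d) F) *ᵥ v) = SympForms.B F d u v := mem_spGL_iff.1 hx u v
  rw [hz, Matrix.smul_mulVec, Matrix.one_mulVec, Matrix.smul_mulVec, Matrix.one_mulVec, map_smul, map_smul,
    LinearMap.smul_apply, smul_eq_mul, smul_eq_mul, huv, mul_one] at h
  exact eq_one_of_sq z h

theorem mem_sim_iff (hd : 0 < d) {Q : (Fin d ⊕ Fin d → F) → F} {a : Fin d ⊕ Fin d → F} (hQ : ∀ v, Q v = QF a v)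
    {x : GL (Fin d ⊕ Fin d) F} (hx : x ∈ Cfsg.spGL d F) : x ∈ Cfsg.Geo.quadSimilarityGroup Q ↔
      ∀ v, QF a ((x : Matrix (Fin d ⊕ Fin d) (Fin d ⊕ Fin d) F) *ᵥ v) = QF a v := by
  constructor
  · rintro ⟨c, hc⟩ v
    simp only [hQ] at hc
    obtain ⟨u, w, huw⟩ := exists_pair (F := F) hd
    have h1 := QF_add a ((x : Matrix (Fin d ⊕ Fin d) (Fin d ⊕ Fin d) F) *ᵥ u)
      ((x : Matrix (Fin d ⊕ Fin d) (Fin d ⊕ Fin d) F) *ᵥ w)
    rw [← Matrix.mulVec_add, hc, hc, hc, (mem_spGL_iff.1 hx) u w, QF_add, mul_add, mul_add] at h1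
    have h2 : SympForms.B F d u w = 1 := huw
    rw [h2, mul_one] at h1
    have h3 : (c : F) = 1 := add_left_cancel h1
    rw [hc, h3, one_mul]
  · exact fun h => ⟨1, fun v => by rw [hQ, hQ, h, Units.val_one, one_mul]⟩

/-- A linear equivalence as a matrix. -/
noncomputable def mkGL (T : (Fin d ⊕ Fin d → F) ≃ₗ[F] (Fin d ⊕ Fin d → F)) : GL (Fin d ⊕ Fin d) F :=
  ⟨LinearMap.toMatrix' T.toLinearMap, LinearMap.toMatrix' T.symm.toLinearMap,
    by rw [← LinearMap.toMatrix'_comp, ← LinearMap.toMatrix'_id]; congr 1; ext; simp,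
    by rw [← LinearMap.toMatrix'_comp, ← LinearMap.toMatrix'_id]; congr 1; ext; simp⟩

theorem mkGL_apply (T : (Fin d ⊕ Fin d → F) ≃ₗ[F] (Fin d ⊕ Fin d → F)) (v : Fin d ⊕ Fin d → F) :
    (mkGL T : Matrix (Fin d ⊕ Fin d) (Fin d ⊕ Fin d) F) *ᵥ v = T v := by
  rw [← Matrix.toLin'_apply]
  show Matrix.toLin' (LinearMap.toMatrix' T.toLinearMap) v = T v
  rw [Matrix.toLin'_toMatrix']
  rfl

theorem mkGL_pow (T : (Fin d ⊕ Fin d → F) ≃ₗ[F] (Fin d ⊕ Fin d → F)) (k : ℕ) (v : Fin d ⊕ Fin d → F) :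
    ((mkGL T ^ k : GL (Fin d ⊕ Fin d) F) : Matrix (Fin d ⊕ Fin d) (Fin d ⊕ Fin d) F) *ᵥ v = (⇑T)^[k] v := by
  induction k generalizing v with
  | zero => simp
  | succ k ih =>
    rw [pow_succ, Units.val_mul, ← Matrix.mulVec_mulVec, mkGL_apply, ih, Function.iterate_succ_apply]

variable [Fintype F]

theorem two_mul_card_P : 2 * Nat.card (P F) = Fintype.card F := by
  have h := (P F).card_mul_index
  rw [P_index, Nat.card_eq_fintype_card (α := F)] at h
  omega

theorem card_plus_one (hd : 0 < d) :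
    Nat.card {v : Fin d ⊕ Fin d → F // Cfsg.quadFormPlus d F v = 1} =
      (Fintype.card F ^ d - 1) * Fintype.card F ^ (d - 1) := by
  classical
  have hpair : {v : Fin d ⊕ Fin d → F // Cfsg.quadFormPlus d F v = 1} ≃
      (a : Fin d → F) × {c : Fin d → F // ∑ i, a i * c i = 1} :=
    ((Equiv.sumArrowEquivProdArrow (Fin d) (Fin d) F).subtypeEquiv (q := fun P => ∑ i, P.1 i * P.2 i = 1)
      (fun v => Iff.rfl)).trans (Equiv.subtypeProdEquivSigmaSubtype fun (a c : Fin d → F) => ∑ i, a i * c i = 1)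
  rw [Nat.card_congr hpair, Nat.card_sigma]
  have hfib : ∀ a : Fin d → F, Nat.card {c : Fin d → F // ∑ i, a i * c i = 1} =
      if a = 0 then 0 else Fintype.card F ^ (d - 1) := by
    intro a
    split_ifs with ha
    · subst ha
      rw [Nat.card_eq_zero]
      exact Or.inl ⟨fun c => by simpa using c.2⟩
    · obtain ⟨i0, hi0⟩ : ∃ i, a i ≠ 0 := Function.ne_iff.1 ha
      let φ : (Fin d → F) →ₗ[F] F := ∑ i, a i • LinearMap.proj i
      have hφ : ∀ c, φ c = ∑ i, a i * c i := fun c => by simp [φ, LinearMap.sum_apply]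
      set c0 : Fin d → F := Pi.single i0 (a i0)⁻¹ with hc0
      have hc0' : φ c0 = 1 := by
        rw [hφ, Finset.sum_eq_single i0]
        · simp [hc0, hi0]
        · intro i _ hi; simp [hc0, hi]
        · simp
      have hequiv : {c : Fin d → F // ∑ i, a i * c i = 1} ≃ LinearMap.ker φ :=
        { toFun := fun c => ⟨c.1 - c0, by rw [LinearMap.mem_ker, map_sub, hc0', hφ, c.2, sub_self]⟩
          invFun := fun c => ⟨c.1 + c0, by rw [← hφ, map_add, LinearMap.mem_ker.1 c.2, hc0', zero_add]⟩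
          left_inv := fun c => Subtype.ext (sub_add_cancel _ _)
          right_inv := fun c => Subtype.ext (add_sub_cancel_right _ _) }
      have hrk := φ.finrank_range_add_finrank_ker
      have hsurj : LinearMap.range φ = ⊤ := LinearMap.range_eq_top.2 fun y => ⟨y • c0, by rw [map_smul, hc0', smul_eq_mul, mul_one]⟩
      rw [hsurj, finrank_top, Module.finrank_self, Module.finrank_fintype_fun_eq_card, Fintype.card_fin] at hrk
      rw [Nat.card_congr hequiv, Nat.card_eq_fintype_card, Module.card_eq_pow_finrank (K := F)]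
      congr 1
      omega
  simp only [hfib]
  rw [Finset.sum_ite, Finset.sum_const_zero, zero_add, Finset.sum_const, smul_eq_mul, Finset.filter_not,
    Finset.filter_eq', if_pos (Finset.mem_univ _), Finset.card_sdiff_of_subset (Finset.subset_univ _),
    Finset.card_singleton, Finset.card_univ, Fintype.card_fun, Fintype.card_fin]

/-- The number of forms in each class. -/
theorem card_class (hd : 0 < d) :
    2 * Nat.card {a : Fin d ⊕ Fin d → F // ¬ Chi a} = Fintype.card F ^ d * (Fintype.card F ^ d - 1) ∧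
    2 * Nat.card {a : Fin d ⊕ Fin d → F // Chi a} = Fintype.card F ^ d * (Fintype.card F ^ d + 1) := by
  classical
  set q := Fintype.card F with hq
  have hne : ∀ c : {c : F // c ∉ P F}, (c : F) ≠ 0 := fun c h => c.2 (h ▸ (P F).zero_mem)
  choose s hs using exists_sqrt (F := F)
  have hs0 : ∀ c : {c : F // c ∉ P F}, s (c : F) ≠ 0 := fun c h => hne c (by rw [hs c.1, h, mul_zero])
  have he : {a : Fin d ⊕ Fin d → F // ¬ Chi a} ≃
      {c : F // c ∉ P F} × {v : Fin d ⊕ Fin d → F // Cfsg.quadFormPlus d F v = 1} :=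
    { toFun := fun a => (⟨Cfsg.quadFormPlus d F a.1, a.2⟩, ⟨(s (Cfsg.quadFormPlus d F a.1))⁻¹ • a.1, by
          have h0 := hs0 ⟨_, a.2⟩
          simp only at h0
          rw [plus_smul]
          nth_rewrite 3 [hs (Cfsg.quadFormPlus d F a.1)]
          field_simp⟩)
      invFun := fun P => ⟨s (P.1 : F) • P.2.1, by
          rw [Chi, plus_smul, P.2.2, mul_one, ← hs]
          exact P.1.2⟩
      left_inv := fun a => Subtype.ext (smul_inv_smul₀ (hs0 ⟨_, a.2⟩) a.1)
      right_inv := fun P => by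
        have e : Cfsg.quadFormPlus d F (s (P.1 : F) • P.2.1) = (P.1 : F) := by
          rw [plus_smul, P.2.2, mul_one, ← hs]
        refine Prod.ext (Subtype.ext e) (Subtype.ext ?_)
        simp only [e]
        exact inv_smul_smul₀ (hs0 P.1) _ }
  have h2P := two_mul_card_P (F := F)
  rw [← hq] at h2P
  have hc1 : Nat.card {c : F // c ∉ P F} = Nat.card (P F) := by
    rw [Nat.card_eq_fintype_card, Fintype.card_subtype_compl,
      ← Nat.card_eq_fintype_card (α := {c : F // c ∈ P F})]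
    show q - Nat.card (P F) = Nat.card (P F)
    omega
  have hneg : 2 * Nat.card {a : Fin d ⊕ Fin d → F // ¬ Chi a} = q ^ d * (q ^ d - 1) := by
    rw [Nat.card_congr he, Nat.card_prod, hc1, card_plus_one hd, ← mul_assoc, h2P, ← hq]
    have : q * q ^ (d - 1) = q ^ d := by rw [← pow_succ']; congr 1; omega
    rw [← this]
    ring
  refine ⟨hneg, ?_⟩
  have htot : Nat.card {a : Fin d ⊕ Fin d → F // Chi a} + Nat.card {a : Fin d ⊕ Fin d → F // ¬ Chi a} =
      q ^ d * q ^ d := by
    rw [← Nat.card_sum, Nat.card_congr (Equiv.sumCompl _), Nat.card_eq_fintype_card, Fintype.card_fun,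
      Fintype.card_sum, Fintype.card_fin, pow_add]
  have h1 : 1 ≤ q ^ d := Nat.one_le_pow _ _ Fintype.card_pos
  rw [Nat.mul_sub, mul_one] at hneg
  have : q ^ d ≤ q ^ d * q ^ d := Nat.le_mul_of_pos_left _ h1
  rw [Nat.mul_add, mul_one]
  omega

/-- The index of the orthogonal group is the size of the class. -/
theorem relIndex_eq (hd : 0 < d) {Q : (Fin d ⊕ Fin d → F) → F} {aQ : Fin d ⊕ Fin d → F}
    (hQ : ∀ v, Q v = QF aQ v) : (Cfsg.Geo.quadSimilarityGroup Q).relIndex (Cfsg.spGL d F) =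
      Nat.card {a : Fin d ⊕ Fin d → F // Chi aQ ↔ Chi a} := by
  classical
  choose A hA1 hA using fun g : Cfsg.spGL d F => exists_image hd aQ ((Cfsg.spGL d F).inv_mem g.2)
  set H := (Cfsg.Geo.quadSimilarityGroup Q).subgroupOf (Cfsg.spGL d F)
  have hmem : ∀ g : Cfsg.spGL d F, g ∈ H ↔
      ∀ v, QF aQ ((g.1 : Matrix (Fin d ⊕ Fin d) (Fin d ⊕ Fin d) F) *ᵥ v) = QF aQ v := fun g => by
    rw [Subgroup.mem_subgroupOf]; exact mem_sim_iff hd hQ g.2
  have key : ∀ g g' : Cfsg.spGL d F, g⁻¹ * g' ∈ H ↔ A g = A g' := by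
    intro g g'
    rw [hmem]
    constructor
    · intro h
      refine QF_injective fun v => ?_
      rw [← hA, ← hA, ← h (((g'.1⁻¹ : GL (Fin d ⊕ Fin d) F) : Matrix (Fin d ⊕ Fin d) (Fin d ⊕ Fin d) F) *ᵥ v),
        Subgroup.coe_mul, Subgroup.coe_inv, Matrix.mulVec_mulVec, ← Units.val_mul, mul_inv_cancel_right]
    · intro h v
      rw [Subgroup.coe_mul, Subgroup.coe_inv, Units.val_mul, ← Matrix.mulVec_mulVec, hA, h, ← hA,
        Matrix.mulVec_mulVec, ← Units.val_mul, inv_mul_cancel, Units.val_one, Matrix.one_mulVec]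
  rw [Subgroup.relIndex, Subgroup.index]
  refine Nat.card_congr (Equiv.ofBijective
    (Quotient.lift (fun g => (⟨A g, hA1 g⟩ : {a : Fin d ⊕ Fin d → F // Chi aQ ↔ Chi a}))
      fun g g' h => Subtype.ext ((key g g').1 (QuotientGroup.leftRel_apply.1 h))) ⟨?_, ?_⟩)
  · intro x y
    induction x using Quotient.inductionOn
    induction y using Quotient.inductionOn
    rename_i g g'
    intro h
    exact Quotient.sound (QuotientGroup.leftRel_apply.2 ((key g g').2 (congrArg Subtype.val h)))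
  · rintro ⟨b, hb⟩
    obtain ⟨g, hg, hgb⟩ := exists_isometry hb
    refine ⟨⟦⟨g⁻¹, (Cfsg.spGL d F).inv_mem hg⟩⟧, Subtype.ext (QF_injective fun v => ?_)⟩
    show QF (A ⟨g⁻¹, _⟩) v = QF b v
    rw [← hA, ← hgb]
    simp

/-- An involution preserves a form of a prescribed class, unless the obvious obstruction. -/
theorem involution_fix (hd : 0 < d) {x : GL (Fin d ⊕ Fin d) F} (hx : x ∈ Cfsg.spGL d F)
    (hxx : ∀ v, (x : Matrix (Fin d ⊕ Fin d) (Fin d ⊕ Fin d) F) *ᵥ
      ((x : Matrix (Fin d ⊕ Fin d) (Fin d ⊕ Fin d) F) *ᵥ v) = v)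
    (aQ : Fin d ⊕ Fin d → F) (hcase : Chi aQ ∨ Odd d) :
    ∃ b, (Chi aQ ↔ Chi b) ∧ ∀ v, QF b ((x : Matrix (Fin d ⊕ Fin d) (Fin d ⊕ Fin d) F) *ᵥ v) = QF b v := by
  classical
  have hiso : ∀ u v, SympForms.B F d ((x : Matrix (Fin d ⊕ Fin d) (Fin d ⊕ Fin d) F) *ᵥ u)
      ((x : Matrix (Fin d ⊕ Fin d) (Fin d ⊕ Fin d) F) *ᵥ v) = SympForms.B F d u v := mem_spGL_iff.1 hx
  set L := Matrix.toLin' (x : Matrix (Fin d ⊕ Fin d) (Fin d ⊕ Fin d) F) with hL
  have hLx : ∀ v, (x : Matrix (Fin d ⊕ Fin d) (Fin d ⊕ Fin d) F) *ᵥ v = L v := fun v => (Matrix.toLin'_apply _ v).symm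
  simp only [hLx] at hxx hiso ⊢
  have h2 : (2 : F) = 0 := CharTwo.two_eq_zero
  have vv : ∀ w : Fin d ⊕ Fin d → F, w + w = 0 := fun w => funext fun i => CharTwo.add_self_eq_zero _
  set W := LinearMap.ker (L - 1) with hWdef
  have hW : ∀ w, w ∈ W ↔ L w = w := fun w => by
    rw [hWdef, LinearMap.mem_ker, LinearMap.sub_apply, Module.End.one_apply, sub_eq_zero]
  have hadj : ∀ u v, SympForms.B F d (L u) v = SympForms.B F d u (L v) := fun u v => by
    conv_lhs => rw [← hxx v]
    exact hiso u (L v)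
  obtain ⟨c, hc⟩ := exists_sqrt_linear (fun v => Cfsg.quadFormPlus d F (L v) + Cfsg.quadFormPlus d F v)
    (fun u v => by
      rw [map_add, plus_add, plus_add, hiso]
      linear_combination (SympForms.B F d u v) * h2)
    (fun c v => by rw [map_smul, plus_smul, plus_smul]; ring)
  -- `c` lies in the image of `L + 1`
  obtain ⟨b, hb⟩ : ∃ b, L b + b = c := by
    by_contra hne
    have hc' : c ∉ LinearMap.range (L + 1) := by
      rintro ⟨b, hb⟩
      exact hne ⟨b, by simpa using hb⟩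
    obtain ⟨y, hy, hcy⟩ := (stdAlt d F).exists_perp_eq_one _ hc'
    have hyfix : L y = y := B_ext fun v => by
      have := hy (L v + v) ⟨v, by simp⟩
      rw [map_add, LinearMap.add_apply] at this
      rw [← hadj v y]
      exact CharTwo.add_eq_zero.1 this
    have h := hc y
    rw [hyfix, CharTwo.add_self_eq_zero, B_comm y c] at h
    have hcy' : SympForms.B F d c y = 1 := hcy
    rw [hcy', mul_one] at h
    exact zero_ne_one h
  have hinv : ∀ w ∈ W, ∀ v, QF (b + w) (L v) = QF (b + w) v := by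
    intro w hw v
    have e1 : SympForms.B F d (L v) w = SympForms.B F d v w := by rw [hadj, (hW w).1 hw]
    have e2 : SympForms.B F d v c = SympForms.B F d (L v) b + SympForms.B F d v b := by
      rw [← hb, map_add, hadj]
    have e3 := hc v
    rw [QF_apply, QF_apply, map_add, map_add, e1]
    rw [e2] at e3
    linear_combination e3 + ((SympForms.B F d (L v) b) * (SympForms.B F d (L v) b + SympForms.B F d v b + SympForms.B F d v w)
      - SympForms.B F d v b * SympForms.B F d v w - Cfsg.quadFormPlus d F v) * h2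
  by_cases hb' : Chi aQ ↔ Chi b
  · exact ⟨b, hb', fun v => by simpa using hinv 0 W.zero_mem v⟩
  by_cases hns : ∃ w ∈ W, QF b w ≠ 0
  · obtain ⟨w₀, hw₀, hQw₀⟩ := hns
    obtain ⟨ζ, hζ⟩ := exists_notMem_P (F := F)
    obtain ⟨s, hs⟩ := exists_sqrt (ζ / QF b w₀)
    set w := s • w₀ with hw
    have hQw : QF b w = ζ := by
      rw [hw, QuadraticMap.map_smul, ← hs, smul_eq_mul, div_mul_cancel₀ _ hQw₀]
    refine ⟨b + w, ?_, hinv w (W.smul_mem s hw₀)⟩
    have e : Cfsg.quadFormPlus d F (b + w) = (Cfsg.quadFormPlus d F b + ζ) +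
        (SympForms.B F d w b * SympForms.B F d w b + SympForms.B F d w b) := by
      rw [← hQw, QF_apply, plus_add, B_comm b w]
      linear_combination -(SympForms.B F d w b * SympForms.B F d w b) * h2
    have : Chi (b + w) ↔ ¬ Chi b := by
      rw [Chi, e, add_mem_P_iff, iff_true_right (sq_add_mem_P _), add_mem_P_iff, iff_false_right hζ]
      rfl
    rw [this]
    tauto
  push Not at hns
  exfalso
  have hrange : ∀ v, L v - v ∈ W := fun v => by
    rw [hW, map_sub, hxx, ← sub_eq_zero, show v - L v - (L v - v) = (v + v) - (L v + L v) by abel, vv, vv, sub_zero]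
  have hWle := Orth.finrank_sing_le (Q := QF b) (QF_nondeg b) hns
  rw [Fintype.card_sum, Fintype.card_fin] at hWle
  have hWge : d ≤ Module.finrank F W := by
    have h1 := (L - 1).finrank_range_add_finrank_ker
    have h2' : Module.finrank F (LinearMap.range (L - 1)) ≤ Module.finrank F W :=
      Submodule.finrank_mono (by rintro _ ⟨v, rfl⟩; exact hrange v)
    rw [Module.finrank_fintype_fun_eq_card, Fintype.card_sum, Fintype.card_fin, ← hWdef] at h1
    omega
  have hWd : Module.finrank F W = d := by omega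
  have hplus : Chi b := (chi_iff_isPlus hd b).2 ⟨W, le_top, hns, by
    rw [hWd, finrank_top, Module.finrank_fintype_fun_eq_card, Fintype.card_sum, Fintype.card_fin]; omega⟩
  have hdodd : Odd d := hcase.resolve_left fun h => hb' (iff_of_true h hplus)
  have hWperp : ∀ a ∈ W, ∀ a' ∈ W, SympForms.B F d a a' = 0 := fun a ha a' ha' => by
    have := QF_add b a a'
    rw [hns _ (W.add_mem ha ha'), hns a ha, hns a' ha', zero_add, zero_add] at this
    exact this.symm
  obtain ⟨C, hC⟩ := exists_isCompl W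
  have hCd : Module.finrank F C = d := by
    have := Submodule.finrank_add_eq_of_isCompl hC
    rw [hWd, Module.finrank_fintype_fun_eq_card, Fintype.card_sum, Fintype.card_fin] at this
    omega
  let bC := (Module.finBasis F C).reindex (finCongr hCd)
  let ι' : (Fin d → F) →ₗ[F] (Fin d ⊕ Fin d → F) := C.subtype ∘ₗ bC.equivFun.symm.toLinearMap
  have hιC : ∀ a, ι' a ∈ C := fun a => (bC.equivFun.symm a).2
  let f : AltForm (Fin d) F :=
    { B := LinearMap.compl₁₂ (SympForms.B F d) ι' ((L - 1) ∘ₗ ι')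
      alt := fun a => by
        show SympForms.B F d (ι' a) ((L - 1) (ι' a)) = 0
        rw [LinearMap.sub_apply, Module.End.one_apply]
        have h := QF_add b (ι' a) (L (ι' a) - ι' a)
        rw [add_sub_cancel, hns _ (hrange _)] at h
        have h5 : QF b (L (ι' a)) = QF b (ι' a) := by simpa using hinv 0 W.zero_mem (ι' a)
        rw [h5, add_zero] at h
        exact left_eq_add.1 h
      nondeg := fun a ha => by
        set w := L (ι' a) - ι' a with hw
        have hw0 : w = 0 := by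
          refine (stdAlt d F).nondeg w fun y => ?_
          obtain ⟨u, hu, e, he, rfl⟩ := Submodule.mem_sup.1 (hC.sup_eq_top ▸ Submodule.mem_top : y ∈ W ⊔ C)
          show SympForms.B F d (u + e) w = 0
          rw [map_add, LinearMap.add_apply, hWperp u hu w (hrange _), zero_add]
          have := ha (bC.equivFun ⟨e, he⟩)
          simpa [ι', hw, mul_sub, Finset.sum_sub_distrib] using this
        have hmem : ι' a ∈ W ⊓ C := ⟨by
          show (L - 1) (ι' a) = 0
          rw [LinearMap.sub_apply, Module.End.one_apply, ← hw, hw0], hιC a⟩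
        rw [hC.inf_eq_bot, Submodule.mem_bot] at hmem
        have hinj : Function.Injective ι' := C.subtype_injective.comp bC.equivFun.symm.injective
        exact hinj (hmem.trans (map_zero ι').symm) }
  obtain ⟨𝓛, h𝓛, -, -⟩ := InvBlocks.exists_planes f LinearMap.id (z := 1) one_ne_zero (fun v => (one_smul F v).symm)
    (fun _ _ => rfl) d ⊤ (by rw [finrank_top, Module.finrank_fintype_fun_eq_card, Fintype.card_fin])
    (fun a _ ha => by
      by_contra hc
      push Not at hc
      exact ha (f.nondeg a fun y => by rw [f.skew, hc y Submodule.mem_top, neg_zero]))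
    (fun v _ => Submodule.mem_top)
  have h5 := h𝓛.1
  rw [finrank_top, Module.finrank_fintype_fun_eq_card, Fintype.card_fin] at h5
  obtain ⟨k, hk⟩ := hdodd
  omega

/-- A torus element of order `r` in the plus group without fixed vectors. -/
theorem exists_fpf_plus (hd : 0 < d) {r : ℕ} [Fact r.Prime] (hr : r ∣ Fintype.card F ^ d - 1) :
    ∃ x : GL (Fin d ⊕ Fin d) F, x ^ r = 1 ∧
      (∀ v, QF 0 ((x : Matrix (Fin d ⊕ Fin d) (Fin d ⊕ Fin d) F) *ᵥ v) = QF 0 v) ∧
      ∀ v, (x : Matrix (Fin d ⊕ Fin d) (Fin d ⊕ Fin d) F) *ᵥ v = v → v = 0 := by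
  classical
  haveI : NeZero d := ⟨by omega⟩
  let K := FiniteField.Extension F 2 d
  have hKd : Module.finrank F K = d := FiniteField.finrank_extension F 2 d
  haveI : Finite K := Module.finite_of_finite F
  haveI : Algebra.IsSeparable F K := inferInstance
  letI : Fintype K := Fintype.ofFinite K
  obtain ⟨η, hη⟩ := exists_prime_orderOf_dvd_card' (G := Kˣ) r (by
    rw [Nat.card_units, Nat.card_eq_fintype_card, Module.card_eq_pow_finrank (K := F) (V := K), hKd]
    exact hr)
  let b := (Module.finBasis F K).reindex (finCongr hKd)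
  let b' := LinearMap.BilinForm.dualBasis (Algebra.traceForm F K) (traceForm_nondegenerate F K) b
  let E : (Fin d ⊕ Fin d → F) ≃ₗ[F] K × K :=
    (LinearEquiv.sumArrowLequivProdArrow (Fin d) (Fin d) F F).trans (b.equivFun.symm.prodCongr b'.equivFun.symm)
  have hEQ : ∀ v, Cfsg.quadFormPlus d F v = Algebra.traceForm F K (E v).2 (E v).1 := by
    intro v
    simp only [E, LinearEquiv.trans_apply, LinearEquiv.prodCongr_apply, Module.Basis.equivFun_symm_apply,
      map_sum, map_smul, LinearMap.sum_apply, LinearMap.smul_apply, smul_eq_mul, b',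
      LinearMap.BilinForm.apply_dualBasis_left, mul_ite, mul_one, mul_zero, Finset.sum_ite_eq, Finset.mem_univ, if_true]
    simp [Cfsg.quadFormPlus, LinearEquiv.sumArrowLequivProdArrow, Equiv.sumArrowEquivProdArrow, mul_comm]
  let m : (K × K) ≃ₗ[F] (K × K) :=
    { toFun := fun P => ((η : K) * P.1, ((η⁻¹ : Kˣ) : K) * P.2)
      invFun := fun P => (((η⁻¹ : Kˣ) : K) * P.1, (η : K) * P.2)
      left_inv := fun P => by simp [← mul_assoc]
      right_inv := fun P => by simp [← mul_assoc]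
      map_add' := fun P P' => by simp [mul_add]
      map_smul' := fun c P => by simp }
  set T := (E.trans m).trans E.symm with hT
  have hTk : ∀ (k : ℕ) v, (⇑T)^[k] v = E.symm (((η ^ k : Kˣ) : K) * (E v).1, ((η⁻¹ ^ k : Kˣ) : K) * (E v).2) := by
    intro k
    induction k with
    | zero => intro v; simp
    | succ k ih =>
      intro v
      rw [Function.iterate_succ_apply', ih]
      simp only [hT, LinearEquiv.trans_apply, LinearEquiv.apply_symm_apply]
      congr 1
      simp [m, pow_succ', mul_assoc]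
  refine ⟨mkGL T, Units.ext (Matrix.ext_of_mulVec_single fun i => ?_), fun v => ?_, fun v hv => ?_⟩
  · rw [mkGL_pow, hTk, ← hη, pow_orderOf_eq_one, ← orderOf_inv η, pow_orderOf_eq_one, Units.val_one,
      Units.val_one, one_mul, one_mul, Prod.mk.eta, LinearEquiv.symm_apply_apply, Matrix.one_mulVec]
  · rw [mkGL_apply, QF_apply, QF_apply, hEQ, hEQ v]
    simp only [hT, LinearEquiv.trans_apply, LinearEquiv.apply_symm_apply, map_zero, mul_zero, add_zero,
      Algebra.traceForm_apply]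
    refine congrArg (Algebra.trace F K) ?_
    show ((η⁻¹ : Kˣ) : K) * (E v).2 * ((η : K) * (E v).1) = _
    rw [mul_mul_mul_comm, Units.inv_mul, one_mul]
  · rw [mkGL_apply] at hv
    have h := congrArg E hv
    simp only [hT, LinearEquiv.trans_apply, LinearEquiv.apply_symm_apply] at h
    have hη1 : (η : K) ≠ 1 := fun he => by
      rw [Units.val_eq_one] at he
      rw [he, orderOf_one] at hη
      exact (Fact.out : r.Prime).one_lt.ne hη
    have hη2 : ((η⁻¹ : Kˣ) : K) ≠ 1 := fun he => hη1 (by simpa using he)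
    have h1 : ((η : K) - 1) * (E v).1 = 0 := by rw [sub_mul, one_mul, sub_eq_zero]; exact congrArg Prod.fst h
    have h2 : (((η⁻¹ : Kˣ) : K) - 1) * (E v).2 = 0 := by rw [sub_mul, one_mul, sub_eq_zero]; exact congrArg Prod.snd h
    exact E.injective ((Prod.ext ((mul_eq_zero.1 h1).resolve_left (sub_ne_zero.2 hη1))
      ((mul_eq_zero.1 h2).resolve_left (sub_ne_zero.2 hη2))).trans (map_zero E).symm)

/-- An element of order `r` in the minus group without fixed vectors. -/
theorem exists_fpf_minus (hd : 2 ≤ d) {r : ℕ} [Fact r.Prime] (hr2 : r ≠ 2) (hr : r ∣ Fintype.card F ^ d + 1) :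
    ∃ (x : GL (Fin d ⊕ Fin d) F) (a : Fin d ⊕ Fin d → F), ¬ Chi a ∧ x ^ r = 1 ∧
      (∀ v, QF a ((x : Matrix (Fin d ⊕ Fin d) (Fin d ⊕ Fin d) F) *ᵥ v) = QF a v) ∧
      ∀ v, (x : Matrix (Fin d ⊕ Fin d) (Fin d ⊕ Fin d) F) *ᵥ v = v → v = 0 := by
  classical
  obtain ⟨k, rfl⟩ : ∃ k, d = k + 1 := ⟨d - 1, by omega⟩
  obtain ⟨ζ, hζ⟩ := exists_notMem_P (F := F)
  have hex := MinusModel.exists_fpf (d := k + 1) hd 1 (ζ * ζ) (anisotropic hζ) hr2 hr
  obtain ⟨y, hyΩ, hyr, hyfix⟩ : ∃ y : GL ((Fin k ⊕ Fin k) ⊕ Fin 2) F,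
      y ∈ Cfsg.Geo.omegaGL (Cfsg.quadFormMinus k F 1 (ζ * ζ)) ∧ y ^ r = 1 ∧
      ∀ v, (y : Matrix ((Fin k ⊕ Fin k) ⊕ Fin 2) ((Fin k ⊕ Fin k) ⊕ Fin 2) F) *ᵥ v = v → v = 0 := hex
  let e : ((Fin k ⊕ Fin k) ⊕ Fin 2) ≃ (Fin (k + 1) ⊕ Fin (k + 1)) :=
    Equiv.ofBijective (idx k) ⟨idx_injective k, idx_surjective k⟩
  let E : (Fin (k + 1) ⊕ Fin (k + 1) → F) ≃ₗ[F] ((Fin k ⊕ Fin k) ⊕ Fin 2 → F) := LinearEquiv.funCongrLeft F F e
  have hE : ∀ v, E v = v ∘ idx k := fun v => rfl
  let Y : ((Fin k ⊕ Fin k) ⊕ Fin 2 → F) ≃ₗ[F] ((Fin k ⊕ Fin k) ⊕ Fin 2 → F) :=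
    Matrix.toLin'OfInv (M' := (y : Matrix ((Fin k ⊕ Fin k) ⊕ Fin 2) ((Fin k ⊕ Fin k) ⊕ Fin 2) F))
      (M := ((y⁻¹ : GL ((Fin k ⊕ Fin k) ⊕ Fin 2) F) : Matrix ((Fin k ⊕ Fin k) ⊕ Fin 2) ((Fin k ⊕ Fin k) ⊕ Fin 2) F))
      (by rw [← Units.val_mul, inv_mul_cancel, Units.val_one]) (by rw [← Units.val_mul, mul_inv_cancel, Units.val_one])
  have hY : ∀ w, Y w = (y : Matrix ((Fin k ⊕ Fin k) ⊕ Fin 2) ((Fin k ⊕ Fin k) ⊕ Fin 2) F) *ᵥ w :=
    fun w => Matrix.toLin'_apply _ w
  set T := (E.trans Y).trans E.symm with hT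
  have hTk : ∀ (n : ℕ) v, (⇑T)^[n] v = E.symm (((y ^ n : GL ((Fin k ⊕ Fin k) ⊕ Fin 2) F) :
      Matrix ((Fin k ⊕ Fin k) ⊕ Fin 2) ((Fin k ⊕ Fin k) ⊕ Fin 2) F) *ᵥ E v) := by
    intro n
    induction n with
    | zero => intro v; simp
    | succ n ih =>
      intro v
      rw [Function.iterate_succ_apply', ih]
      simp only [hT, LinearEquiv.trans_apply, LinearEquiv.apply_symm_apply]
      congr 1
      rw [pow_succ', Units.val_mul, ← Matrix.mulVec_mulVec, hY]
  refine ⟨mkGL T, minusVec k ζ, by rw [Chi, plus_minusVec]; exact hζ,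
    Units.ext (Matrix.ext_of_mulVec_single fun i => ?_), fun v => ?_, fun v hv => ?_⟩
  · rw [mkGL_pow, hTk, hyr, Units.val_one, Matrix.one_mulVec, LinearEquiv.symm_apply_apply, Units.val_one,
      Matrix.one_mulVec]
  · rw [mkGL_apply, QF_minusVec, QF_minusVec, ← hE, ← hE]
    simp only [hT, LinearEquiv.trans_apply, LinearEquiv.apply_symm_apply]
    obtain ⟨g, -, hg⟩ := hyΩ
    rw [hY, ← hg]
    exact g.2 (E v) (E v)
  · rw [mkGL_apply] at hv
    have h := congrArg E hv
    simp only [hT, LinearEquiv.trans_apply, LinearEquiv.apply_symm_apply] at h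
    exact E.injective ((hyfix _ (by rwa [hY] at h)).trans (map_zero E).symm)

end

/-- Elements of prime order of PSp_n(q), q even, and the subgroups of orthogonal type. Here `T = Sp_{2d}(F)` for a field `F` of characteristic 2 with `q` elements (`d ≥ 2`, `(d, q) ≠ (2, 2)`), realised as the invertible matrices preserving the standard alternating form; `Q` is a non-degenerate quadratic form on `F^{2d}` whose polar form is that alternating form, and `H` is the subgroup of `T` preserving `Q` up to a scalar (equivalently preserving `Q`) — a subgroup of type O^±_{2d}(q) (maximality is not assumed); `Q` is of plus type when `F^{2d}` contains a `d`-dimensional subspace on which `Q` vanishes, of minus type otherwise. Ω is the set of cosets of `H` in `T`, so an element of `T` of prime order `r` (`x ∈ T` with `x^r` scalar, `x` not scalar) fixes a point of Ω exactly when some `T`-conjugate of `x` preserves `Q`. Let `r` be a prime dividing the index of `H`. Then every element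 of `T` of order `r` fixes a point of Ω if and only if `r = 2` and either `Q` is of plus type or `d` is odd. -/
theorem result {F : Type*} [Field F] [Fintype F] {p : ℕ} [Fact p.Prime] [CharP F p] {q : ℕ} (hq : Fintype.card F = q)
    (hp : p = 2) (d : ℕ) (hd : 2 ≤ d) (hT : (d, q) ≠ (2, 2)) (Q : (Fin d ⊕ Fin d → F) → F) (hQ : Cfsg.Geo.IsNondegenerateQuadraticForm Q)
    (hQf : ∀ u v, QuadraticMap.polar Q u v = Cfsg.sympForm d F u v)
    (r : ℕ) [Fact r.Prime]
    (hΩ : r ∣ (Cfsg.Geo.quadSimilarityGroup Q).relIndex (Cfsg.spGL d F)) :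
    (∀ x ∈ Cfsg.spGL d F, (∃ z : F, ((x ^ r : GL (Fin d ⊕ Fin d) F) : Matrix (Fin d ⊕ Fin d) (Fin d ⊕ Fin d) F) = z • (1 : Matrix (Fin d ⊕ Fin d) (Fin d ⊕ Fin d) F)) →
      (∀ z : F, (x : Matrix (Fin d ⊕ Fin d) (Fin d ⊕ Fin d) F) ≠ z • (1 : Matrix (Fin d ⊕ Fin d) (Fin d ⊕ Fin d) F)) →
      ∃ g ∈ Cfsg.spGL d F, g⁻¹ * x * g ∈ Cfsg.Geo.quadSimilarityGroup Q) ↔
    (r = 2 ∧ (Cfsg.Geo.IsPlusTypeOn Q ⊤ ∨ Odd d)) := by
  classical
  subst hp
  have hd0 : 0 < d := by omega
  set q' := Fintype.card F with hq'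
  obtain ⟨aQ, haQ⟩ := exists_rep Q (fun c v => by rw [hQ.smul]; ring) (fun u v => by
    have := hQf u v
    rw [← stdAlt_apply, QuadraticMap.polar] at this
    linear_combination this)
  have hfun : Q = ⇑(QF aQ) := funext haQ
  have hplus : Cfsg.Geo.IsPlusTypeOn Q ⊤ ↔ Chi aQ := by rw [chi_iff_isPlus hd0, hfun]
  rw [hplus]
  -- fixing a point means preserving a form of the same class
  have hfix : ∀ x ∈ Cfsg.spGL d F, (∃ g ∈ Cfsg.spGL d F, g⁻¹ * x * g ∈ Cfsg.Geo.quadSimilarityGroup Q) ↔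
      ∃ a, (Chi aQ ↔ Chi a) ∧ ∀ v, QF a ((x : Matrix (Fin d ⊕ Fin d) (Fin d ⊕ Fin d) F) *ᵥ v) = QF a v := by
    intro x hx
    constructor
    · rintro ⟨g, hg, hgx⟩
      rw [mem_sim_iff hd0 haQ (mul_mem (mul_mem (inv_mem hg) hx) hg)] at hgx
      obtain ⟨a, ha, hga⟩ := exists_image hd0 aQ (inv_mem hg)
      refine ⟨a, ha, fun v => ?_⟩
      rw [← hga, ← hga, ← hgx (((g⁻¹ : GL (Fin d ⊕ Fin d) F) : Matrix (Fin d ⊕ Fin d) (Fin d ⊕ Fin d) F) *ᵥ v)]
      simp only [Matrix.mulVec_mulVec, ← Units.val_mul, mul_assoc, mul_inv_cancel, mul_one]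
    · rintro ⟨a, ha, hxa⟩
      obtain ⟨g, hg, hga⟩ := exists_isometry ha
      refine ⟨g⁻¹, inv_mem hg, ?_⟩
      rw [inv_inv, mem_sim_iff hd0 haQ (mul_mem (mul_mem hg hx) (inv_mem hg))]
      intro v
      rw [Units.val_mul, Units.val_mul, ← Matrix.mulVec_mulVec, ← Matrix.mulVec_mulVec, hga, hxa, ← hga,
        Matrix.mulVec_mulVec, ← Units.val_mul, mul_inv_cancel, Units.val_one, Matrix.one_mulVec]
  constructor
  · intro hall
    by_contra hcon
    suffices hx : ∃ x ∈ Cfsg.spGL d F, x ^ r = 1 ∧ (∃ v, (x : Matrix (Fin d ⊕ Fin d) (Fin d ⊕ Fin d) F) *ᵥ v ≠ v) ∧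
        ∀ a, (∀ v, QF a ((x : Matrix (Fin d ⊕ Fin d) (Fin d ⊕ Fin d) F) *ᵥ v) = QF a v) → ¬ (Chi aQ ↔ Chi a) by
      obtain ⟨x, hx, hxr, ⟨v, hv⟩, hno⟩ := hx
      have hns : ∀ z : F, (x : Matrix (Fin d ⊕ Fin d) (Fin d ⊕ Fin d) F) ≠ z • 1 := fun z hz => by
        refine hv ?_
        rw [hz, scalar_eq_one hd0 hx hz, one_smul, Matrix.one_mulVec]
      obtain ⟨a, ha, hxa⟩ := (hfix x hx).1 (hall x hx ⟨1, by rw [hxr, Units.val_one, one_smul]⟩ hns)
      exact hno a hxa ha
    by_cases hr : r = 2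
    · subst hr
      have hχ : ¬ Chi aQ := fun h => hcon ⟨rfl, Or.inl h⟩
      obtain ⟨k, rfl⟩ : Even d := Nat.not_odd_iff_even.1 fun h => hcon ⟨rfl, Or.inr h⟩
      let π : Fin (k + k) → Fin (k + k) := Fin.addCases (fun j => Fin.natAdd k j) (fun j => Fin.castAdd k j)
      let N : (Fin (k + k) ⊕ Fin (k + k) → F) →ₗ[F] (Fin (k + k) ⊕ Fin (k + k) → F) :=
        { toFun := fun v => Sum.elim (fun i => v (.inl i) + v (.inr (π i))) (fun i => v (.inr i))
          map_add' := fun u v => by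
            funext i
            rcases i with i | i <;> simp [add_add_add_comm]
          map_smul' := fun c v => by
            funext i
            rcases i with i | i <;> simp [mul_add] }
      have hNN : ∀ v, N (N v) = v := fun v => by
        funext i
        rcases i with i | i
        · simp [N, add_assoc, CharTwo.add_self_eq_zero]
        · simp [N]
      let T : (Fin (k + k) ⊕ Fin (k + k) → F) ≃ₗ[F] (Fin (k + k) ⊕ Fin (k + k) → F) :=
        LinearEquiv.ofInvolutive N hNN
      have hTN : ∀ v, T v = N v := fun v => rfl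
      have hT0 : ∀ v, QF 0 (T v) = QF 0 v := fun v => by
        rw [QF_apply, QF_apply, hTN]
        have : ∀ j, π (Fin.castAdd k j) = Fin.natAdd k j := fun j => Fin.addCases_left _
        have h' : ∀ j, π (Fin.natAdd k j) = Fin.castAdd k j := fun j => Fin.addCases_right _
        simp only [map_zero, mul_zero, add_zero, Cfsg.quadFormPlus, Fin.sum_univ_add, N, LinearMap.coe_mk,
          AddHom.coe_mk, Sum.elim_inl, Sum.elim_inr, this, h', add_mul, Finset.sum_add_distrib]
        rw [Finset.sum_congr rfl fun j _ => mul_comm (v (.inr (Fin.castAdd k j))) (v (.inr (Fin.natAdd k j)))]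
        linear_combination (∑ j, v (.inr (Fin.natAdd k j)) * v (.inr (Fin.castAdd k j))) * (CharTwo.two_eq_zero (R := F))
      have hxsp : mkGL T ∈ Cfsg.spGL (k + k) F := preserves_of_QF (a := 0) (b := 0) fun v => by rw [mkGL_apply, hT0]
      refine ⟨mkGL T, hxsp, Units.ext (Matrix.ext_of_mulVec_single fun i => ?_), ?_, fun a ha hiff => ?_⟩
      · rw [mkGL_pow, Units.val_one, Matrix.one_mulVec]
        exact hNN _
      · refine ⟨Pi.single (.inr (π ⟨0, by omega⟩)) 1, fun h => ?_⟩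
        rw [mkGL_apply, hTN] at h
        have h1 := congrFun h (.inl ⟨0, by omega⟩)
        simp [N] at h1
      · have h1 : ∀ v, SympForms.B F (k + k) (T v) a = SympForms.B F (k + k) v a := fun v => by
          have h := ha v
          rw [mkGL_apply, QF_apply, QF_apply] at h
          have h0 := hT0 v
          rw [QF_apply, QF_apply, map_zero, map_zero, mul_zero, add_zero, add_zero] at h0
          rw [h0, add_right_inj] at h
          rcases mul_self_eq_mul_self_iff.1 h with h' | h'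
          · exact h'
          · rw [h', CharTwo.neg_eq]
        have hTa : T a = a := B_ext fun w => by
          have hw : T (T w) = w := hNN w
          have := mem_spGL_iff.1 hxsp (T w) a
          rw [mkGL_apply, mkGL_apply, hw] at this
          exact this.trans (h1 w)
        have h0 : ∀ i, a (.inr i) = 0 := fun i => by
          have hπ : ∀ i, π (π i) = i := fun i => by
            induction i using Fin.addCases with
            | left j => exact (congrArg π (Fin.addCases_left j)).trans (Fin.addCases_right j)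
            | right j => exact (congrArg π (Fin.addCases_right j)).trans (Fin.addCases_left j)
          have := congrFun hTa (.inl (π i))
          simpa [hTN, N, hπ] using this
        exact hχ (hiff.2 (by simp [Chi, Cfsg.quadFormPlus, h0]))
    · -- odd primes
      rw [relIndex_eq hd0 haQ] at hΩ
      obtain ⟨n, hn0, hn⟩ := FiniteField.card F 2
      have hodd : ∀ m, r ∣ q' ^ d * m → r ∣ m := fun m h => by
        refine ((Nat.Prime.dvd_mul Fact.out).1 h).resolve_left fun h => ?_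
        rw [hq', hn] at h
        exact hr ((Nat.prime_dvd_prime_iff_eq Fact.out Nat.prime_two).1
          ((Fact.out : r.Prime).dvd_of_dvd_pow ((Fact.out : r.Prime).dvd_of_dvd_pow h)))
      obtain ⟨hneg, hpos⟩ := card_class (F := F) hd0
      -- a fixed point free element preserves only one form
      have huniq : ∀ (x : GL (Fin d ⊕ Fin d) F) (a a' : Fin d ⊕ Fin d → F),
          (∀ v, QF a ((x : Matrix (Fin d ⊕ Fin d) (Fin d ⊕ Fin d) F) *ᵥ v) = QF a v) →
          (∀ v, QF a' ((x : Matrix (Fin d ⊕ Fin d) (Fin d ⊕ Fin d) F) *ᵥ v) = QF a' v) →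
          (∀ v, (x : Matrix (Fin d ⊕ Fin d) (Fin d ⊕ Fin d) F) *ᵥ v = v → v = 0) → a = a' := by
        intro x a a' ha ha' hf
        have hx := preserves_of_QF ha
        set Lx := (x : Matrix (Fin d ⊕ Fin d) (Fin d ⊕ Fin d) F) with hLx
        have h1 : ∀ v, SympForms.B F d (Lx *ᵥ v) (a + a') = SympForms.B F d v (a + a') := fun v => by
          have e := ha v
          have e' := ha' v
          rw [QF_apply, QF_apply] at e e'
          have e2 : SympForms.B F d (Lx *ᵥ v) (a + a') * SympForms.B F d (Lx *ᵥ v) (a + a') =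
              SympForms.B F d v (a + a') * SympForms.B F d v (a + a') := by
            rw [map_add, map_add]
            linear_combination e + e' + (SympForms.B F d (Lx *ᵥ v) a * SympForms.B F d (Lx *ᵥ v) a' -
              SympForms.B F d v a * SympForms.B F d v a' + Cfsg.quadFormPlus d F v - Cfsg.quadFormPlus d F (Lx *ᵥ v)) *
              (CharTwo.two_eq_zero (R := F))
          rcases mul_self_eq_mul_self_iff.1 e2 with h' | h'
          · exact h'
          · rw [h', CharTwo.neg_eq]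
        have h2 : Lx *ᵥ (a + a') = a + a' := B_ext fun w => by
          obtain ⟨u, rfl⟩ : ∃ u, Lx *ᵥ u = w := ⟨((x⁻¹ : GL (Fin d ⊕ Fin d) F) : Matrix (Fin d ⊕ Fin d) (Fin d ⊕ Fin d) F) *ᵥ w,
            by rw [hLx, Matrix.mulVec_mulVec, ← Units.val_mul, mul_inv_cancel, Units.val_one, Matrix.one_mulVec]⟩
          exact (mem_spGL_iff.1 hx u (a + a')).trans (h1 u).symm
        funext i
        have := congrFun (hf _ h2) i
        exact CharTwo.add_eq_zero.1 this
      by_cases hχ : Chi aQ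
      · simp only [iff_true_left hχ] at hΩ
        have hr' : r ∣ q' ^ d + 1 := hodd _ (by rw [← hpos]; exact hΩ.mul_left 2)
        obtain ⟨x, a, ha, hxr, hxa, hxf⟩ := exists_fpf_minus hd hr hr'
        refine ⟨x, preserves_of_QF hxa, hxr, ?_, fun a' ha' hiff => ha ?_⟩
        · obtain ⟨u, v, huv⟩ := exists_pair (F := F) hd0
          refine ⟨u, fun h => ?_⟩
          rw [hxf u h, map_zero, LinearMap.zero_apply] at huv
          exact zero_ne_one huv
        · exact huniq x a' a ha' hxa hxf ▸ hiff.1 hχ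
      · simp only [iff_false_left hχ] at hΩ
        have hr' : r ∣ q' ^ d - 1 := hodd _ (by rw [← hneg]; exact hΩ.mul_left 2)
        obtain ⟨x, hxr, hxa, hxf⟩ := exists_fpf_plus hd0 hr'
        refine ⟨x, preserves_of_QF hxa, hxr, ?_, fun a' ha' hiff => ?_⟩
        · obtain ⟨u, v, huv⟩ := exists_pair (F := F) hd0
          refine ⟨u, fun h => ?_⟩
          rw [hxf u h, map_zero, LinearMap.zero_apply] at huv
          exact zero_ne_one huv
        · rw [huniq x a' 0 ha' hxa hxf] at hiff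
          exact hχ (hiff.2 (by simp [Chi, Cfsg.quadFormPlus]))
  · rintro ⟨rfl, hcase⟩ x hx ⟨z, hz⟩ -
    refine (hfix x hx).2 (involution_fix hd0 hx (fun v => ?_) aQ hcase)
    rw [Matrix.mulVec_mulVec, ← Units.val_mul, ← pow_two, hz, scalar_eq_one hd0 (pow_mem hx 2) hz, one_smul,
      Matrix.one_mulVec]

end Cfsg.Agent.S5983
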