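import Cfsg.Statements.S5984
import Cfsg.Agent.Lib.Classical.HermCard
import Cfsg.Agent.Lib.Geometry.UnitaryBasic
import Cfsg.Agent.Lib.Geometry.UnitaryDet
import Cfsg.Agent.Lib.Geometry.HermBasis
import Cfsg.Agent.Lib.Geometry.HermIsotropic
import Cfsg.Agent.Lib.MaxSub.UnipotentOrth
import Mathlib

set_option autoImplicit false
set_option maxHeartbeats 1000000
-- import your own Cfsg.Agent.* helpers here

set_option autoImplicit false
open scoped MatrixGroups
open Cfsg

namespace Cfsg.Agent.S5984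

open Module Matrix

variable {F : Type*} [Field F] [Fintype F] {n q m : ℕ}

section basic

variable (hF : Fintype.card F = q ^ 2)

local notation "V" => (Fin n → F)
local notation "B" => Cfsg.Agent.Lib.Geometry.hermBilin n hF
local notation "σ" => Cfsg.Agent.Lib.Geometry.frobQ hF
local notation "St" => Cfsg.Geo.decompositionStabilizer (ι := Fin n) (F := F)

theorem B_conj (u v : V) : σ (B u v) = B v u := (Cfsg.Agent.Lib.Geometry.hermBilin_isSymm hF).eq u v

theorem B_zero_comm {u v : V} (h : B u v = 0) : B v u = 0 := by rw [← B_conj, h, map_zero]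

theorem B_smul_smul (a c : F) (u v : V) : B (a • u) (c • v) = a ^ q * (c * B u v) := by
  rw [map_smul, map_smulₛₗ, LinearMap.smul_apply, smul_eq_mul, smul_eq_mul]
  show c * (a ^ q * B u v) = _
  ring

/-- A linear equivalence as an element of the general linear group. -/
noncomputable def mkGL (T : V ≃ₗ[F] V) : GL (Fin n) F :=
  ⟨LinearMap.toMatrix' T.toLinearMap, LinearMap.toMatrix' T.symm.toLinearMap,
    by rw [← LinearMap.toMatrix'_comp, ← LinearMap.toMatrix'_id]; congr 1; ext; simp,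
    by rw [← LinearMap.toMatrix'_comp, ← LinearMap.toMatrix'_id]; congr 1; ext; simp⟩

omit [Fintype F] in
theorem mkGL_apply (T : V ≃ₗ[F] V) (v : V) : (mkGL T : Matrix (Fin n) (Fin n) F) *ᵥ v = T v := by
  rw [← Matrix.toLin'_apply]
  show Matrix.toLin' (LinearMap.toMatrix' T.toLinearMap) v = T v
  rw [Matrix.toLin'_toMatrix']
  rfl

theorem mem_GU {g : GL (Fin n) F} :
    g ∈ Cfsg.GU n F q ↔ ∀ u v : V, B ((g : Matrix (Fin n) (Fin n) F) *ᵥ u) ((g : Matrix (Fin n) (Fin n) F) *ᵥ v) = B u v :=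
  ⟨fun h u v => h v u, fun h u v => h v u⟩

/-- A map sending a basis to one with the same Gram matrix is unitary. -/
theorem exists_map {ι : Type*} (b b' : Basis ι F V) (h : ∀ i j, B (b' i) (b' j) = B (b i) (b j)) :
    ∃ g ∈ Cfsg.GU n F q, ∀ i, (g : Matrix (Fin n) (Fin n) F) *ᵥ b i = b' i := by
  set T := b.equiv b' (Equiv.refl ι) with hT
  have hTb : ∀ i, T (b i) = b' i := fun i => by rw [hT, Basis.equiv_apply]; rfl
  refine ⟨mkGL T, (mem_GU hF).2 fun u v => ?_, fun i => by rw [mkGL_apply, hTb]⟩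
  rw [mkGL_apply, mkGL_apply]
  have e : (B).compl₂ T.toLinearMap = ((B).compl₂ LinearMap.id) ∘ₛₗ (T.symm : V →ₗ[F] V) := by
    refine b'.ext fun i => b.ext fun j => ?_
    simp only [LinearMap.compl₂_apply, LinearMap.comp_apply, LinearEquiv.coe_coe, LinearMap.id_apply, hTb,
      show T.symm (b' i) = b i by rw [← hTb, T.symm_apply_apply], h]
  have := LinearMap.congr_fun (LinearMap.congr_fun e (T u)) v
  simpa using this

/-- Frames: bases of two totally isotropic subspaces in duality. -/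
def IsFrame (b c : Fin m → V) : Prop :=
  ∀ i j, B (b i) (b j) = 0 ∧ B (c i) (c j) = 0 ∧ B (b i) (c j) = if i = j then 1 else 0

theorem frame_cb {b c : Fin m → V} (h : IsFrame hF b c) (i j : Fin m) : B (c i) (b j) = if i = j then 1 else 0 := by
  rw [← B_conj, (h j i).2.2]
  by_cases e : i = j
  · subst e; simp
  · rw [if_neg e, if_neg (Ne.symm e), map_zero]

theorem frame_basis (hnm : n = m + m) {b c : Fin m → V} (h : IsFrame hF b c) :
    ∃ bb : Basis (Fin m ⊕ Fin m) F V, ∀ a, bb a = Sum.elim b c a := by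
  classical
  have hli : LinearIndependent F (Sum.elim b c) := by
    rw [Fintype.linearIndependent_iff]
    intro l hl a
    rw [Fintype.sum_sum_type] at hl
    rcases a with i | i
    · have := congrArg (B (c i)) hl
      simpa [map_sum, map_smul, (h _ _).2.1, frame_cb hF h] using this
    · have := congrArg (B (b i)) hl
      simpa [map_sum, map_smul, (h _ _).1, (h _ _).2.2] using this
  rcases Nat.eq_zero_or_pos m with hm | hm
  · subst hm
    have : Subsingleton V := ⟨fun u v => funext fun i => absurd i.2 (by omega)⟩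
    exact ⟨Basis.empty V, fun a => isEmptyElim a⟩
  haveI : Nonempty (Fin m ⊕ Fin m) := ⟨Sum.inl ⟨0, hm⟩⟩
  exact ⟨basisOfLinearIndependentOfCardEqFinrank hli (by simp [hnm]), fun a => by simp⟩

/-- Two totally isotropic complementary subspaces have a frame. -/
theorem exists_frame (hnm : n = m + m) {W₀ W₁ : Submodule F V} (hc : IsCompl W₀ W₁)
    (h0 : ∀ u ∈ W₀, ∀ v ∈ W₀, B u v = 0) (h1 : ∀ u ∈ W₁, ∀ v ∈ W₁, B u v = 0) :
    finrank F W₀ = m ∧ finrank F W₁ = m ∧
      ∃ b c : Fin m → V, IsFrame hF b c ∧ Submodule.span F (Set.range b) = W₀ ∧ Submodule.span F (Set.range c) = W₁ := by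
  classical
  have key : ∀ X Y : Submodule F V, IsCompl X Y → (∀ u ∈ Y, ∀ v ∈ Y, B u v = 0) → finrank F Y ≤ finrank F X := by
    intro X Y hXY hY
    let bs := Module.finBasis F X
    let Φ : Y →ₗ[F] (Fin (finrank F X) → F) := (LinearMap.pi fun j => B (bs j : V)) ∘ₗ Y.subtype
    have : Function.Injective Φ := by
      refine (injective_iff_map_eq_zero Φ).2 fun v hv => Subtype.ext ?_
      refine (Cfsg.Agent.Lib.Geometry.hermBilin_nondegenerate hF).2 _ fun u => ?_
      obtain ⟨x, hx, y, hy, rfl⟩ := Submodule.mem_sup.1 (hXY.sup_eq_top ▸ Submodule.mem_top : u ∈ X ⊔ Y)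
      rw [map_add, LinearMap.add_apply, hY y hy _ v.2, add_zero, show x = ((⟨x, hx⟩ : X) : V) from rfl, ← bs.sum_repr ⟨x, hx⟩,
        AddSubmonoidClass.coe_finsetSum, map_sum, LinearMap.sum_apply]
      refine Finset.sum_eq_zero fun j _ => ?_
      rw [SetLike.val_smul, map_smulₛₗ, LinearMap.smul_apply]
      have := congrFun hv j
      simp only [Φ, LinearMap.comp_apply, LinearMap.pi_apply, Submodule.subtype_apply, Pi.zero_apply] at this
      rw [this, smul_zero]
    simpa using LinearMap.finrank_le_finrank_of_injective this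
  have e0 := key W₀ W₁ hc h1
  have e1 := key W₁ W₀ hc.symm h0
  have hsum := Submodule.finrank_add_eq_of_isCompl hc
  rw [Module.finrank_fintype_fun_eq_card, Fintype.card_fin] at hsum
  have hW0 : finrank F W₀ = m := by omega
  have hW1 : finrank F W₁ = m := by omega
  refine ⟨hW0, hW1, ?_⟩
  let bs : Basis (Fin m) F W₀ := Module.finBasisOfFinrankEq F W₀ hW0
  let Φ : W₁ →ₗ[F] (Fin m → F) := (LinearMap.pi fun j => B (bs j : V)) ∘ₗ W₁.subtype
  have hinj : Function.Injective Φ := by
    refine (injective_iff_map_eq_zero Φ).2 fun v hv => Subtype.ext ?_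
    refine (Cfsg.Agent.Lib.Geometry.hermBilin_nondegenerate hF).2 _ fun u => ?_
    obtain ⟨x, hx, y, hy, rfl⟩ := Submodule.mem_sup.1 (hc.sup_eq_top ▸ Submodule.mem_top : u ∈ W₀ ⊔ W₁)
    rw [map_add, LinearMap.add_apply, h1 y hy _ v.2, add_zero, show x = ((⟨x, hx⟩ : W₀) : V) from rfl, ← bs.sum_repr ⟨x, hx⟩,
      AddSubmonoidClass.coe_finsetSum, map_sum, LinearMap.sum_apply]
    refine Finset.sum_eq_zero fun j _ => ?_
    rw [SetLike.val_smul, map_smulₛₗ, LinearMap.smul_apply]
    have := congrFun hv j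
    simp only [Φ, LinearMap.comp_apply, LinearMap.pi_apply, Submodule.subtype_apply, Pi.zero_apply] at this
    rw [this, smul_zero]
  have hsurj := (LinearMap.injective_iff_surjective_of_finrank_eq_finrank (by simp [hW1])).1 hinj
  choose c hc' using fun i : Fin m => hsurj (Pi.single i 1)
  refine ⟨fun i => bs i, fun i => c i, fun i j => ⟨h0 _ (bs i).2 _ (bs j).2, h1 _ (c i).2 _ (c j).2, ?_⟩, ?_, ?_⟩
  · have := congrFun (hc' j) i
    simpa [Φ, Pi.single_apply] using this
  · rw [show Set.range (fun i => (bs i : V)) = W₀.subtype '' Set.range bs from Set.range_comp _ _, Submodule.span_image,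
      bs.span_eq, Submodule.map_top, Submodule.range_subtype]
  · have hspan : Submodule.span F (Set.range c) = ⊤ := by
      refine Submodule.map_injective_of_injective hinj ?_
      rw [Submodule.map_span, ← Set.range_comp, show (Φ ∘ c) = (Pi.basisFun F (Fin m) : Fin m → Fin m → F) from
        funext fun i => by rw [Function.comp_apply, hc', Pi.basisFun_apply], Basis.span_eq, Submodule.map_top,
        LinearMap.range_eq_top.2 hsurj]
    rw [show Set.range (fun i => (c i : V)) = W₁.subtype '' Set.range c from Set.range_comp _ _, Submodule.span_image,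
      hspan, Submodule.map_top, Submodule.range_subtype]

theorem map_span_frame {g : GL (Fin n) F} {b b' : Fin m → V} (h : ∀ i, (g : Matrix (Fin n) (Fin n) F) *ᵥ b i = b' i) :
    (Submodule.span F (Set.range b)).map (Matrix.toLin' (g : Matrix (Fin n) (Fin n) F)) = Submodule.span F (Set.range b') := by
  rw [Submodule.map_span, ← Set.range_comp]
  exact congrArg _ (congrArg _ (funext fun i => (Matrix.toLin'_apply _ _).trans (h i)))

theorem map_span_scale {g : GL (Fin n) F} {b : Fin m → V} {k : Fin m → F} (hk : ∀ i, k i ≠ 0)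
    (h : ∀ i, (g : Matrix (Fin n) (Fin n) F) *ᵥ b i = k i • b i) :
    (Submodule.span F (Set.range b)).map (Matrix.toLin' (g : Matrix (Fin n) (Fin n) F)) = Submodule.span F (Set.range b) := by
  rw [map_span_frame (b' := fun i => k i • b i) h]
  refine le_antisymm (Submodule.span_le.2 ?_) (Submodule.span_le.2 ?_)
  · rintro _ ⟨i, rfl⟩
    exact Submodule.smul_mem _ _ (Submodule.subset_span ⟨i, rfl⟩)
  · rintro _ ⟨i, rfl⟩
    rw [show b i = (k i)⁻¹ • (k i • b i) from (inv_smul_smul₀ (hk i) _).symm]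
    exact Submodule.smul_mem _ _ (Submodule.subset_span ⟨i, rfl⟩)

/-- A determinant one unitary element moving a pair to an invariant pair. -/
theorem fix_of_pair (hnm : n = m + m) (hm : 0 < m) {D : Fin 2 → Submodule F V} (hc : IsCompl (D 0) (D 1))
    (hDs : ∀ i, ∀ u ∈ D i, ∀ v ∈ D i, B u v = 0) {x : GL (Fin n) F} {W₀ W₁ : Submodule F V} (hW : IsCompl W₀ W₁)
    (h0 : ∀ u ∈ W₀, ∀ v ∈ W₀, B u v = 0) (h1 : ∀ u ∈ W₁, ∀ v ∈ W₁, B u v = 0)
    (hx0 : W₀.map (Matrix.toLin' (x : Matrix (Fin n) (Fin n) F)) = W₀)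
    (hx1 : W₁.map (Matrix.toLin' (x : Matrix (Fin n) (Fin n) F)) = W₁) :
    ∃ g ∈ Cfsg.GU n F q ⊓ Cfsg.Geo.specialLinear (Fin n) F, g⁻¹ * x * g ∈ St D := by
  classical
  obtain ⟨-, -, b, c, hbc, hb, hcs⟩ := exists_frame hF hnm hc (hDs 0) (hDs 1)
  obtain ⟨-, -, b', c', hbc', hb', hcs'⟩ := exists_frame hF hnm hW h0 h1
  obtain ⟨bb, hbb⟩ := frame_basis hF hnm hbc
  obtain ⟨bb', hbb'⟩ := frame_basis hF hnm hbc'
  obtain ⟨g, hg, hgb⟩ := exists_map hF bb bb' (fun i j => by
    rcases i with i | i <;> rcases j with j | j <;>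
      simp [hbb, hbb', (hbc _ _).1, (hbc' _ _).1, (hbc _ _).2.1, (hbc' _ _).2.1, (hbc _ _).2.2, (hbc' _ _).2.2,
        frame_cb hF hbc, frame_cb hF hbc'])
  have hz := Cfsg.Agent.Lib.Geometry.det_mem_normOneUnits hF ⟨g, hg⟩
  obtain ⟨z, hzdef⟩ : ∃ z, Matrix.GeneralLinearGroup.det g = z := ⟨_, rfl⟩
  change Matrix.GeneralLinearGroup.det g ∈ _ at hz
  rw [hzdef] at hz
  obtain ⟨u, hu⟩ : ∃ u : Fˣ, u ^ (q - 1) = z := by
    obtain ⟨γ, hγ⟩ := IsCyclic.exists_generator (α := Fˣ)
    obtain ⟨k, hk⟩ := (mem_powers_iff_mem_zpowers (x := γ)).2 (hγ z)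
    have hzq : z ^ (q + 1) = 1 := MonoidHom.mem_ker.1 hz
    change γ ^ k = z at hk
    rw [← hk, ← pow_mul, ← orderOf_dvd_iff_pow_eq_one, orderOf_eq_card_of_forall_mem_zpowers hγ,
      Nat.card_eq_fintype_card, Fintype.card_units, hF, show q ^ 2 - 1 = (q - 1) * (q + 1) by
        rw [mul_comm, ← Nat.sq_sub_sq, one_pow]] at hzq
    obtain ⟨l, hl⟩ := Nat.dvd_of_mul_dvd_mul_right (Nat.succ_pos q) hzq
    exact ⟨γ ^ l, by rw [← pow_mul, mul_comm, ← hl, hk]⟩
  have hu0 : (u : F) ≠ 0 := u.ne_zero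
  let w : Fˣ := (u ^ q)⁻¹
  let k : Fin m ⊕ Fin m → Fˣ := Sum.elim (Pi.mulSingle ⟨0, hm⟩ u) (Pi.mulSingle ⟨0, hm⟩ w)
  obtain ⟨s, hs, hsb⟩ := exists_map hF bb (bb.unitsSMul k) (fun i j => by
    rw [Basis.unitsSMul_apply, Basis.unitsSMul_apply, Units.smul_def, Units.smul_def, B_smul_smul]
    rcases i with i | i <;> rcases j with j | j <;> simp only [hbb, Sum.elim_inl, Sum.elim_inr, (hbc _ _).1,
      (hbc _ _).2.1, (hbc _ _).2.2, frame_cb hF hbc, mul_zero, k] <;> split_ifs with e <;> try simp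
    all_goals
      subst e
      by_cases e' : i = ⟨0, hm⟩
      · subst e'
        simp [w, hu0]
        try (rw [← pow_mul, show q * q = q ^ 2 by ring, ← hF, FiniteField.pow_card]; simp [hu0])
      · simp [Pi.mulSingle_eq_of_ne e'])
  have hsdet : Matrix.GeneralLinearGroup.det s = z⁻¹ := by
    apply Units.ext
    rw [Matrix.GeneralLinearGroup.val_det_apply, ← LinearMap.det_toLin', ← LinearMap.det_toMatrix bb,
      show LinearMap.toMatrix bb bb (Matrix.toLin' (s : Matrix (Fin n) (Fin n) F)) = Matrix.diagonal (fun a => (k a : F)) by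
        ext a a'
        rw [LinearMap.toMatrix_apply, Matrix.toLin'_apply, hsb, Basis.unitsSMul_apply, Units.smul_def, map_smul,
          Basis.repr_self]
        by_cases e : a = a'
        · subst e; simp
        · simp [Finsupp.single_eq_of_ne e, e],
      Matrix.det_diagonal, Fintype.prod_sum_type]
    simp only [k, Sum.elim_inl, Sum.elim_inr]
    rw [← Units.coe_prod, ← Units.coe_prod, Finset.prod_pi_mulSingle', Finset.prod_pi_mulSingle',
      if_pos (Finset.mem_univ _), if_pos (Finset.mem_univ _), ← Units.val_mul]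
    congr 1
    rw [← hu, show w = (u ^ q)⁻¹ from rfl, mul_inv_eq_iff_eq_mul, eq_inv_mul_iff_mul_eq, ← pow_succ]
    congr 1
    have := Cfsg.Agent.Lib.Classical.two_le_q hF
    omega
  refine ⟨g * s, ⟨Subgroup.mul_mem _ hg hs, ?_⟩, ?_⟩
  · show Matrix.GeneralLinearGroup.det (g * s) = 1
    rw [map_mul, hsdet, hzdef, mul_inv_cancel]
  refine ⟨Equiv.refl _, fun i => ?_⟩
  set xL := Matrix.toLin' (x : Matrix (Fin n) (Fin n) F)
  have hgs : ∀ a, ((g * s : GL (Fin n) F) : Matrix (Fin n) (Fin n) F) *ᵥ bb a = (k a : F) • bb' a := fun a => by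
    rw [Units.val_mul, ← Matrix.mulVec_mulVec, hsb, Basis.unitsSMul_apply, Units.smul_def, Matrix.mulVec_smul, hgb]
  have main : ∀ (W' : Submodule F V) (e e' : Fin m → V) (kk : Fin m → Fˣ),
      (∀ i, ((g * s : GL (Fin n) F) : Matrix (Fin n) (Fin n) F) *ᵥ e i = (kk i : F) • e' i) →
      Submodule.span F (Set.range e') = W' → W'.map xL = W' →
      (Submodule.span F (Set.range e)).map (Matrix.toLin' (((g * s)⁻¹ * x * (g * s) : GL (Fin n) F) : Matrix (Fin n) (Fin n) F))
        = Submodule.span F (Set.range e) := by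
    intro W' e e' kk he he' hxW
    have h1 : (Submodule.span F (Set.range e)).map (Matrix.toLin' ((g * s : GL (Fin n) F) : Matrix (Fin n) (Fin n) F)) = W' := by
      rw [map_span_frame (b' := fun i => (kk i : F) • e' i) he, ← he']
      refine le_antisymm (Submodule.span_le.2 ?_) (Submodule.span_le.2 ?_)
      · rintro _ ⟨i, rfl⟩
        exact Submodule.smul_mem _ _ (Submodule.subset_span ⟨i, rfl⟩)
      · rintro _ ⟨i, rfl⟩
        rw [show e' i = (kk i : F)⁻¹ • ((kk i : F) • e' i) from (inv_smul_smul₀ (kk i).ne_zero _).symm]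
        exact Submodule.smul_mem _ _ (Submodule.subset_span ⟨i, rfl⟩)
    rw [Units.val_mul, Units.val_mul, Matrix.toLin'_mul, Matrix.toLin'_mul, Submodule.map_comp, Submodule.map_comp, h1, hxW,
      ← h1, ← Submodule.map_comp, ← Matrix.toLin'_mul, Units.inv_mul, Matrix.toLin'_one, Submodule.map_id, ]
  rw [Equiv.refl_apply]
  fin_cases i
  · show Submodule.map _ (D 0) = D 0
    rw [← hb]
    exact main W₀ b b' (Pi.mulSingle ⟨0, hm⟩ u) (fun i => by simpa [hbb, hbb', k] using hgs (Sum.inl i)) hb' hx0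
  · show Submodule.map _ (D 1) = D 1
    rw [← hcs]
    exact main W₁ c c' (Pi.mulSingle ⟨0, hm⟩ w) (fun i => by simpa [hbb, hbb', k] using hgs (Sum.inr i)) hcs' hx1

/-- An eigenspace decomposition with even dimensional parts yields an invariant pair. -/
theorem even_split (h2 : (2 : F) ≠ 0) (hnm : n = m + m) {ι : Type} [Fintype ι] [DecidableEq ι] (hι : Fintype.card ι = m) {L : V →ₗ[F] V}
    {e e' : ι → V} {s : ι → F} (hee : ∀ i j, B (e i) (e j) = if i = j then 1 else 0)
    (hee' : ∀ i j, B (e' i) (e' j) = if i = j then 1 else 0) (hx : ∀ i j, B (e i) (e' j) = 0)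
    (hs : ∀ i, s i ≠ 0) (hLe : ∀ i, L (e i) = s i • e i) (hLe' : ∀ i, L (e' i) = s i • e' i) :
    ∃ W₀ W₁ : Submodule F V, IsCompl W₀ W₁ ∧ (∀ u ∈ W₀, ∀ v ∈ W₀, B u v = 0) ∧ (∀ u ∈ W₁, ∀ v ∈ W₁, B u v = 0) ∧
      W₀.map L = W₀ ∧ W₁.map L = W₁ := by
  classical
  obtain ⟨α, hα⟩ := Cfsg.Agent.Lib.Geometry.exists_norm_neg_one hF
  have hα' : α ^ q * α = -1 := by rw [← pow_succ, hα]
  have hx' : ∀ i j, B (e' i) (e j) = 0 := fun i j => B_zero_comm hF (hx j i)
  let W : F → Submodule F V := fun β => Submodule.span F (Set.range fun i => e i + β • e' i)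
  have hB : ∀ β γ i j, B (e i + β • e' i) (e j + γ • e' j) = if i = j then 1 + β ^ q * γ else 0 := by
    intro β γ i j
    simp only [map_add, LinearMap.add_apply, map_smul, map_smulₛₗ, LinearMap.smul_apply, smul_eq_mul, hee, hee', hx, hx']
    split_ifs with h
    · rw [show σ β = β ^ q from rfl]
      ring
    · ring
  have hiso : ∀ β, β ^ q * β = -1 → ∀ u ∈ W β, ∀ v ∈ W β, B u v = 0 := by
    intro β hβ u hu v hv
    refine Submodule.span_induction (p := fun v _ => B u v = 0) ?_ (map_zero _) (fun a b _ _ ha hb => by rw [map_add, ha, hb, add_zero])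
      (fun a b _ hb => by rw [map_smul, hb, smul_zero]) hv
    rintro _ ⟨j, rfl⟩
    refine Submodule.span_induction (p := fun u _ => B u (e j + β • e' j) = 0) ?_ (by rw [map_zero, LinearMap.zero_apply])
      (fun a b _ _ ha hb => by rw [(B).map_add, LinearMap.add_apply, ha, hb, add_zero])
      (fun a b _ hb => by rw [map_smulₛₗ, LinearMap.smul_apply, hb, smul_zero]) hu
    rintro _ ⟨i, rfl⟩
    rw [hB]
    split_ifs
    · rw [hβ, add_neg_cancel]
    · rfl
  have hinv : ∀ β, (W β).map L = W β := by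
    intro β
    rw [Submodule.map_span, ← Set.range_comp]
    refine le_antisymm (Submodule.span_le.2 ?_) (Submodule.span_le.2 ?_)
    · rintro _ ⟨i, rfl⟩
      rw [Function.comp_apply, map_add, map_smul, hLe, hLe', smul_comm, ← smul_add]
      exact Submodule.smul_mem _ _ (Submodule.subset_span ⟨i, rfl⟩)
    · rintro _ ⟨i, rfl⟩
      show e i + β • e' i ∈ _
      rw [show e i + β • e' i = (s i)⁻¹ • L (e i + β • e' i) by
        rw [map_add, map_smul, hLe, hLe', smul_comm β, ← smul_add, inv_smul_smul₀ (hs i)]]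
      exact Submodule.smul_mem _ _ (Submodule.subset_span ⟨i, rfl⟩)
  have hli : LinearIndependent F (Sum.elim e e') := by
    rw [Fintype.linearIndependent_iff]
    intro l hl a
    rw [Fintype.sum_sum_type] at hl
    rcases a with i | i
    · have := congrArg (B (e i)) hl
      simpa [map_sum, map_smul, hee, hx] using this
    · have := congrArg (B (e' i)) hl
      simpa [map_sum, map_smul, hee', hx'] using this
  have hspan := hli.span_eq_top_of_card_eq_finrank' (by simp [hι, hnm])
  have htop : W α ⊔ W (-α) = ⊤ := by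
    rw [eq_top_iff, ← hspan, Submodule.span_le]
    have h1 : ∀ i, e i + α • e' i ∈ W α ⊔ W (-α) := fun i => Submodule.mem_sup_left (Submodule.subset_span ⟨i, rfl⟩)
    have h3 : ∀ i, e i + (-α) • e' i ∈ W α ⊔ W (-α) := fun i => Submodule.mem_sup_right (Submodule.subset_span ⟨i, rfl⟩)
    rintro _ ⟨i | i, rfl⟩
    · rw [Sum.elim_inl, show e i = (2 : F)⁻¹ • ((e i + α • e' i) + (e i + (-α) • e' i)) by
        rw [eq_inv_smul_iff₀ h2]; module]
      exact Submodule.smul_mem _ _ (Submodule.add_mem _ (h1 i) (h3 i))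
    · have hα0 : α ≠ 0 := fun h => by rw [h, mul_zero] at hα'; exact neg_ne_zero.2 one_ne_zero hα'.symm
      rw [Sum.elim_inr, show e' i = (2 * α)⁻¹ • ((e i + α • e' i) - (e i + (-α) • e' i)) by
        rw [eq_inv_smul_iff₀ (mul_ne_zero h2 hα0)]; module]
      exact Submodule.smul_mem _ _ (Submodule.sub_mem _ (h1 i) (h3 i))
  refine ⟨W α, W (-α), ⟨disjoint_iff.2 ?_, codisjoint_iff.2 htop⟩, hiso α hα', hiso (-α) ?_, hinv α, hinv (-α)⟩
  · have d1 : ∀ β, finrank F (W β) ≤ m := fun β => (finrank_range_le_card (R := F) _).trans_eq hι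
    have d2 := Submodule.finrank_sup_add_finrank_inf_eq (W α) (W (-α))
    rw [htop, finrank_top, Module.finrank_fintype_fun_eq_card, Fintype.card_fin] at d2
    have := d1 α
    have := d1 (-α)
    exact Submodule.finrank_eq_zero.1 (by omega)
  · have := Cfsg.Agent.Lib.Classical.neg_one_pow_q (F := F) hF
    rw [neg_pow, this]
    linear_combination hα'

/-- The two restrictions of a pair stabiliser have the same rank. -/
theorem stab_rank (hnm : n = m + m) {D : Fin 2 → Submodule F V} (hc : IsCompl (D 0) (D 1))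
    (hDs : ∀ i, ∀ u ∈ D i, ∀ v ∈ D i, B u v = 0) (hd : ∀ i, finrank F (D i) = m) {y : GL (Fin n) F}
    (hy : y ∈ Cfsg.GU n F q) {τ : Equiv.Perm (Fin 2)}
    (hτ : ∀ i, (D i).map (Matrix.toLin' (y : Matrix (Fin n) (Fin n) F)) = D (τ i)) {c : F} (hcn : c ^ q * c = 1) :
    (τ = 1 → Even ((y : Matrix (Fin n) (Fin n) F) - c • 1).rank) ∧ (τ ≠ 1 → m ≤ ((y : Matrix (Fin n) (Fin n) F) - c • 1).rank) := by
  classical
  set Y := Matrix.toLin' (y : Matrix (Fin n) (Fin n) F) with hY
  set T := Y - c • LinearMap.id with hT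
  have hrk : ((y : Matrix (Fin n) (Fin n) F) - c • 1).rank = finrank F (LinearMap.range T) := by
    rw [Matrix.rank, hT, hY, ← Matrix.toLin'_apply', map_sub, map_smul, Matrix.toLin'_one]
  rw [hrk]
  have hc0 : c ≠ 0 := fun h => by rw [h, mul_zero] at hcn; exact zero_ne_one hcn
  by_cases h0 : τ 0 = 0
  · have hτ1 : τ = 1 := Equiv.ext fun i => by
      fin_cases i
      · exact h0
      · have h1 : τ 1 ≠ 0 := fun h => absurd (τ.injective (h.trans h0.symm)) (by decide)
        show τ 1 = 1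
        omega
    subst hτ1
    refine ⟨fun _ => ?_, fun h => absurd rfl h⟩
    have hinv : ∀ i, ∀ a ∈ D i, Y a ∈ D i := fun i a ha => by
      have := Submodule.mem_map_of_mem (f := Y) ha
      rwa [hτ] at this
    have hTD : ∀ i, ∀ a ∈ D i, T a ∈ D i := fun i a ha => by
      rw [hT, LinearMap.sub_apply, LinearMap.smul_apply, LinearMap.id_apply]
      exact Submodule.sub_mem _ (hinv i a ha) (Submodule.smul_mem _ _ ha)
    have hBY : ∀ u v, B (Y u) (Y v) = B u v := fun u v => by
      rw [hY, Matrix.toLin'_apply, Matrix.toLin'_apply]; exact (mem_GU hF).1 hy u v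
    have key : ∀ i j, IsCompl (D i) (D j) → finrank F ((D j).map T) ≤ finrank F ((D i).map T) := by
      intro i j hij
      let R := (D i).map T
      let rs := Module.finBasis F R
      let Φ : D j →ₗ[F] (Fin (finrank F R) → F) := (LinearMap.pi fun l => B (rs l : V)) ∘ₗ (D j).subtype
      have hker : LinearMap.ker Φ ≤ LinearMap.ker (T.domRestrict (D j)) := by
        rintro ⟨v, hv⟩ h
        rw [LinearMap.mem_ker, LinearMap.domRestrict_apply]
        have hR : ∀ r ∈ R, B r v = 0 := fun r hr => by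
          rw [show r = ((⟨r, hr⟩ : R) : V) from rfl, ← rs.sum_repr ⟨r, hr⟩, AddSubmonoidClass.coe_finsetSum, map_sum,
            LinearMap.sum_apply]
          refine Finset.sum_eq_zero fun l _ => ?_
          rw [SetLike.val_smul, map_smulₛₗ, LinearMap.smul_apply]
          have := congrFun (LinearMap.mem_ker.1 h) l
          simp only [Φ, LinearMap.comp_apply, LinearMap.pi_apply, Submodule.subtype_apply, Pi.zero_apply] at this
          rw [this, smul_zero]
        have h3 : ∀ a ∈ D i, B (Y a) (T v) = 0 := fun a ha => by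
          have h4 := hR _ (Submodule.mem_map_of_mem (f := T) ha)
          rw [hT, LinearMap.sub_apply, LinearMap.smul_apply, LinearMap.id_apply, map_sub, LinearMap.sub_apply,
            map_smulₛₗ, LinearMap.smul_apply, smul_eq_mul] at h4
          change B (Y a) v - c ^ q * B a v = 0 at h4
          rw [hT, LinearMap.sub_apply, LinearMap.smul_apply, LinearMap.id_apply, map_sub, map_smul, smul_eq_mul, hBY]
          linear_combination (-c) * h4 - (B a v) * hcn
        refine (Cfsg.Agent.Lib.Geometry.hermBilin_nondegenerate hF).2 _ fun u => ?_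
        obtain ⟨a, ha, b, hb, rfl⟩ := Submodule.mem_sup.1 (hij.sup_eq_top ▸ Submodule.mem_top : u ∈ D i ⊔ D j)
        obtain ⟨a', ha', rfl⟩ : ∃ a' ∈ D i, Y a' = a := by
          have : a ∈ (D i).map Y := by rw [hτ]; exact ha
          exact this
        rw [map_add, LinearMap.add_apply, h3 a' ha', hDs j b hb _ (hTD j v hv), add_zero]
      have h1 := Φ.finrank_range_add_finrank_ker
      have h3 := (T.domRestrict (D j)).finrank_range_add_finrank_ker
      have h4 := (Submodule.finrank_le (LinearMap.range Φ)).trans_eq (Module.finrank_fintype_fun_eq_card F)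
      have h5 := Submodule.finrank_mono hker
      rw [LinearMap.range_domRestrict] at h3
      rw [Fintype.card_fin] at h4
      change finrank F ((D j).map T) ≤ finrank F R
      omega
    have e := le_antisymm (key 0 1 hc) (key 1 0 hc.symm)
    have hd' : (D 0).map T ⊓ (D 1).map T = ⊥ := by
      rw [eq_bot_iff, ← hc.inf_eq_bot]
      exact inf_le_inf (Submodule.map_le_iff_le_comap.2 (hTD 0)) (Submodule.map_le_iff_le_comap.2 (hTD 1))
    have hs := Submodule.finrank_sup_add_finrank_inf_eq ((D 0).map T) ((D 1).map T)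
    rw [hd', finrank_bot, add_zero, ← Submodule.map_sup, hc.sup_eq_top, Submodule.map_top] at hs
    exact ⟨_, hs.trans (by rw [e])⟩
  · refine ⟨fun h => absurd (by rw [h]; rfl) h0, fun _ => ?_⟩
    have h1 : τ 0 = 1 := by omega
    have hdisj : D 0 ⊓ LinearMap.ker T = ⊥ := by
      rw [eq_bot_iff]
      rintro v ⟨hv, hv'⟩
      rw [SetLike.mem_coe, LinearMap.mem_ker, hT, LinearMap.sub_apply, LinearMap.smul_apply, LinearMap.id_apply,
        sub_eq_zero] at hv'
      have : Y v ∈ D 1 := h1 ▸ hτ 0 ▸ Submodule.mem_map_of_mem hv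
      rw [hv'] at this
      have : c • v ∈ D 0 ⊓ D 1 := ⟨Submodule.smul_mem _ _ hv, this⟩
      rw [hc.inf_eq_bot, Submodule.mem_bot] at this
      exact (smul_eq_zero.1 this).resolve_left hc0
    have e1 := Submodule.finrank_sup_add_finrank_inf_eq (D 0) (LinearMap.ker T)
    rw [hdisj, finrank_bot, add_zero, hd] at e1
    have e2 := Submodule.finrank_le (D 0 ⊔ LinearMap.ker T)
    have e3 := T.finrank_range_add_finrank_ker
    rw [Module.finrank_fintype_fun_eq_card, Fintype.card_fin] at e2 e3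
    omega

omit [Fintype F] in
theorem sigma_inv_transpose (s : F →+* F) (a : GL (Fin m) F) :
    ((a : Matrix (Fin m) (Fin m) F).map s)ᵀ * (((a⁻¹ : GL (Fin m) F) : Matrix (Fin m) (Fin m) F).map s)ᵀ = 1 := by
  rw [← Matrix.transpose_mul, ← Matrix.map_mul, ← Units.val_mul, inv_mul_cancel, Units.val_one,
    Matrix.map_one _ s.map_zero s.map_one, Matrix.transpose_one]

/-- The block diagonal copy of the general linear group. -/
theorem card_gl_dvd (hnm : n = m + m) {D : Fin 2 → Submodule F V} (hc : IsCompl (D 0) (D 1))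
    (hDs : ∀ i, ∀ u ∈ D i, ∀ v ∈ D i, B u v = 0) :
    (St D).relIndex (Cfsg.GU n F q ⊓ Cfsg.Geo.specialLinear (Fin n) F) * Nat.card (GL (Fin m) F) ∣
      Nat.card (Cfsg.GU n F q) := by
  classical
  obtain ⟨-, -, b, c, hbc, hb, hcs⟩ := exists_frame hF hnm hc (hDs 0) (hDs 1)
  obtain ⟨bb, hbb⟩ := frame_basis hF hnm hbc
  let E : Matrix (Fin m ⊕ Fin m) (Fin m ⊕ Fin m) F ≃ₐ[F] Matrix (Fin n) (Fin n) F :=
    (Matrix.toLinAlgEquiv bb).trans Matrix.toLinAlgEquiv'.symm
  have hE : ∀ M a, E M *ᵥ bb a = ∑ x, M x a • bb x := fun M a => by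
    rw [← Matrix.toLinAlgEquiv'_apply]
    simp only [E, AlgEquiv.trans_apply, AlgEquiv.apply_symm_apply, Matrix.toLinAlgEquiv_self]
  let ψ : GL (Fin m) F →* Matrix (Fin m ⊕ Fin m) (Fin m ⊕ Fin m) F :=
    { toFun := fun a => Matrix.fromBlocks (a : Matrix (Fin m) (Fin m) F) 0 0 (((a⁻¹ : GL (Fin m) F) : Matrix (Fin m) (Fin m) F).map σ)ᵀ
      map_one' := by simp [Matrix.map_one _ (map_zero σ) (map_one σ), Matrix.fromBlocks_one]
      map_mul' := fun a a' => by
        rw [Matrix.fromBlocks_multiply]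
        simp [_root_.mul_inv_rev, Matrix.transpose_mul, Matrix.map_mul] }
  let φ : GL (Fin m) F →* GL (Fin n) F := ((E : Matrix (Fin m ⊕ Fin m) (Fin m ⊕ Fin m) F →* Matrix (Fin n) (Fin n) F).comp ψ).toHomUnits
  have hφ : ∀ a, (φ a : Matrix (Fin n) (Fin n) F) = E (ψ a) := fun a => rfl
  have hφl : ∀ (a : GL (Fin m) F) j, (φ a : Matrix (Fin n) (Fin n) F) *ᵥ b j = ∑ i, (a : Matrix (Fin m) (Fin m) F) i j • b i := fun a j => by
    have := hE (ψ a) (Sum.inl j)
    rw [hφ]
    simpa [hbb, ψ] using this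
  have hφr : ∀ (a : GL (Fin m) F) j, (φ a : Matrix (Fin n) (Fin n) F) *ᵥ c j = ∑ i, σ (((a⁻¹ : GL (Fin m) F) : Matrix (Fin m) (Fin m) F) j i) • c i := fun a j => by
    have := hE (ψ a) (Sum.inr j)
    rw [hφ]
    simpa [hbb, ψ] using this
  have hGU : ∀ a, φ a ∈ Cfsg.GU n F q := by
    intro a
    rw [mem_GU hF]
    set Y := Matrix.toLin' (φ a : Matrix (Fin n) (Fin n) F)
    have key : ∀ i j, B ((φ a : Matrix (Fin n) (Fin n) F) *ᵥ b i) ((φ a : Matrix (Fin n) (Fin n) F) *ᵥ c j) = B (b i) (c j) := fun i j => by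
      have h := congrFun (congrFun (sigma_inv_transpose σ a) i) j
      rw [Matrix.one_apply, Matrix.mul_apply] at h
      rw [hφl, hφr, (hbc i j).2.2, ← h]
      simp [map_sum, LinearMap.sum_apply, map_smulₛₗ, (hbc _ _).2.2, Matrix.transpose_apply, Matrix.map_apply, mul_comm]
    intro u v
    have e : (B).compl₂ Y ∘ₛₗ Y = B := by
      refine bb.ext fun x => bb.ext fun x' => ?_
      simp only [LinearMap.comp_apply, LinearMap.compl₂_apply, Y, Matrix.toLin'_apply, hbb]
      rcases x with i | i <;> rcases x' with j | j <;> simp only [Sum.elim_inl, Sum.elim_inr]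
      · rw [(hbc i j).1, hφl, hφl]; simp [map_sum, LinearMap.sum_apply, map_smulₛₗ, (hbc _ _).1]
      · exact key i j
      · rw [← B_conj hF (b j) (c i), ← key j i, B_conj hF]
      · rw [(hbc i j).2.1, hφr, hφr]; simp [map_sum, LinearMap.sum_apply, map_smulₛₗ, (hbc _ _).2.1]
    have := LinearMap.congr_fun (LinearMap.congr_fun e u) v
    simpa [Y] using this
  have hSt : ∀ a, φ a ∈ St D := by
    intro a
    refine ⟨Equiv.refl _, fun i => ?_⟩
    have hle : ∀ a : GL (Fin m) F, ∀ i, (D i).map (Matrix.toLin' (φ a : Matrix (Fin n) (Fin n) F)) ≤ D i := by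
      intro a i
      fin_cases i
      · show Submodule.map _ (D 0) ≤ D 0
        rw [← hb, Submodule.map_span_le]
        rintro _ ⟨j, rfl⟩
        rw [Matrix.toLin'_apply, hφl]
        exact Submodule.sum_mem _ fun k _ => Submodule.smul_mem _ _ (Submodule.subset_span ⟨k, rfl⟩)
      · show Submodule.map _ (D 1) ≤ D 1
        rw [← hcs, Submodule.map_span_le]
        rintro _ ⟨j, rfl⟩
        rw [Matrix.toLin'_apply, hφr]
        exact Submodule.sum_mem _ fun k _ => Submodule.smul_mem _ _ (Submodule.subset_span ⟨k, rfl⟩)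
    rw [Equiv.refl_apply]
    refine le_antisymm (hle a i) fun v hv => ⟨(φ a⁻¹ : Matrix (Fin n) (Fin n) F) *ᵥ v, hle a⁻¹ i ⟨v, hv, Matrix.toLin'_apply _ _⟩, ?_⟩
    rw [Matrix.toLin'_apply, Matrix.mulVec_mulVec, ← Units.val_mul, ← map_mul, mul_inv_cancel, map_one, Units.val_one,
      Matrix.one_mulVec]
  let dG := (Matrix.GeneralLinearGroup.det : GL (Fin n) F →* Fˣ).comp (Cfsg.GU n F q).subtype
  let dL := (Matrix.GeneralLinearGroup.det : GL (Fin n) F →* Fˣ).comp φ
  have hcard : ∀ {G : Type _} [Group G] [Finite G] (f : G →* Fˣ), Nat.card f.ker * Nat.card f.range = Nat.card G := by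
    intro G _ _ f
    rw [← Subgroup.index_ker, Subgroup.card_mul_index]
  have hr : Nat.card dL.range ∣ Nat.card dG.range := Subgroup.card_dvd_of_le (by
    rintro _ ⟨a, rfl⟩
    exact ⟨⟨φ a, hGU a⟩, rfl⟩)
  set S := Cfsg.GU n F q ⊓ Cfsg.Geo.specialLinear (Fin n) F
  have hk : Nat.card dG.ker = Nat.card S := Nat.card_congr
    { toFun := fun g => ⟨g.1.1, g.1.2, g.2⟩
      invFun := fun g => ⟨⟨g.1, g.2.1⟩, g.2.2⟩
      left_inv := fun g => rfl
      right_inv := fun g => rfl }
  have hinj : Function.Injective φ := fun a a' h => Units.ext (by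
    have h' := congrArg Units.val h
    rw [hφ, hφ] at h'
    exact (Matrix.fromBlocks_inj.1 (E.injective h')).1)
  let j : dL.ker →* (St D).subgroupOf S :=
    { toFun := fun a => ⟨⟨φ a.1, hGU a.1, a.2⟩, hSt a.1⟩
      map_one' := Subtype.ext (Subtype.ext (map_one φ))
      map_mul' := fun a a' => Subtype.ext (Subtype.ext (map_mul φ _ _)) }
  have hj : Nat.card dL.ker ∣ Nat.card ((St D).subgroupOf S) := Subgroup.card_dvd_of_injective j
    fun a a' h => Subtype.ext (hinj (congrArg (fun z => z.1.1) h))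
  rw [Subgroup.relIndex, ← hcard dL, ← hcard dG, hk, ← Subgroup.card_mul_index ((St D).subgroupOf S), ← mul_assoc,
    mul_comm (Nat.card ((St D).subgroupOf S))]
  exact mul_dvd_mul (mul_dvd_mul_left _ hj) hr

theorem prime_dvd (hnm : n = m + m) {D : Fin 2 → Submodule F V} (hc : IsCompl (D 0) (D 1))
    (hDs : ∀ i, ∀ u ∈ D i, ∀ v ∈ D i, B u v = 0) {r : ℕ} (hr : r.Prime) (hrq : ¬ r ∣ q)
    (hΩ : r ∣ (St D).relIndex (Cfsg.GU n F q ⊓ Cfsg.Geo.specialLinear (Fin n) F)) :
    ∃ e, Odd e ∧ e < n ∧ r ∣ q ^ e + 1 := by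
  have h := (mul_dvd_mul_right hΩ _).trans (card_gl_dvd hF hnm hc hDs)
  rw [Cfsg.Agent.Lib.Classical.card_GL_formula, hF, Cfsg.Agent.Lib.Classical.card_GU hF n, hnm] at h
  have hsplit : ∀ k, ∏ i ∈ Finset.range (k + k), (if Even i then q ^ (i + 1) + 1 else q ^ (i + 1) - 1) =
      (∏ j ∈ Finset.range k, (q ^ (2 * j + 1) + 1)) * ∏ j ∈ Finset.range k, ((q ^ 2) ^ (j + 1) - 1) := by
    intro k
    induction k with
    | zero => simp
    | succ k ih =>
      rw [show k + 1 + (k + 1) = k + k + 1 + 1 by ring, Finset.prod_range_succ, Finset.prod_range_succ, ih,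
        Finset.prod_range_succ, Finset.prod_range_succ, if_pos ⟨k, rfl⟩, if_neg (Nat.not_even_iff_odd.2 ⟨k, by ring⟩),
        ← pow_mul, show k + k + 1 = 2 * k + 1 by ring, show 2 * (k + 1) = 2 * k + 1 + 1 by ring]
      ring
  rw [hsplit] at h
  obtain ⟨A, hA⟩ : ∃ A, (m + m) * (m + m - 1) / 2 = 2 * (m * (m - 1) / 2) + A := by
    refine ⟨(m + m) * (m + m - 1) / 2 - 2 * (m * (m - 1) / 2), ?_⟩
    have : 2 * (m * (m - 1) / 2) ≤ (m + m) * (m + m - 1) / 2 := by
      rw [← Nat.mul_div_assoc _ (Nat.even_mul_pred_self m).two_dvd]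
      refine Nat.div_le_div_right ?_
      rw [← two_mul, mul_assoc]
      exact Nat.mul_le_mul_left 2 (Nat.mul_le_mul_left m (by omega))
    omega
  rw [hA, pow_add, pow_mul] at h
  have hq : 2 ≤ q := Cfsg.Agent.Lib.Classical.two_le_q hF
  set P := ∏ j ∈ Finset.range m, ((q ^ 2) ^ (j + 1) - 1)
  set Q := ∏ j ∈ Finset.range m, (q ^ (2 * j + 1) + 1)
  have hpos : 0 < (q ^ 2) ^ (m * (m - 1) / 2) * P := Nat.mul_pos (pow_pos (pow_pos (by omega) _) _)
    (Finset.prod_pos fun j _ => Nat.sub_pos_of_lt (Nat.one_lt_pow j.succ_ne_zero (Nat.one_lt_pow two_ne_zero hq)))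
  rw [show (q ^ 2) ^ (m * (m - 1) / 2) * q ^ A * (Q * P) = q ^ A * Q * ((q ^ 2) ^ (m * (m - 1) / 2) * P) by ring] at h
  rcases hr.dvd_mul.1 (Nat.dvd_of_mul_dvd_mul_right hpos h) with h1 | h1
  · exact absurd (hr.dvd_of_dvd_pow h1) hrq
  · obtain ⟨j, hj, hj'⟩ := (hr.prime.dvd_finset_prod_iff _).1 h1
    rw [Finset.mem_range] at hj
    exact ⟨2 * j + 1, ⟨j, rfl⟩, by omega, hj'⟩

include hF in
/-- A transvection. -/
theorem exists_transvection (hn : 2 ≤ n) {p : ℕ} [CharP F p] :
    ∃ x ∈ Cfsg.GU n F q ⊓ Cfsg.Geo.specialLinear (Fin n) F,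
      (x : Matrix (Fin n) (Fin n) F) ^ p = 1 ∧ ((x : Matrix (Fin n) (Fin n) F) - 1).rank = 1 := by
  classical
  obtain ⟨α, hα⟩ := Cfsg.Agent.Lib.Geometry.exists_norm_neg_one hF
  obtain ⟨a, ha⟩ := Cfsg.Agent.Lib.Geometry.exists_pow_ne_self hF
  let i₀ : Fin n := ⟨0, by omega⟩
  let i₁ : Fin n := ⟨1, by omega⟩
  have hne : i₀ ≠ i₁ := by simp [i₀, i₁]
  let e₀ : V := Pi.single i₀ 1
  let e₁ : V := Pi.single i₁ 1
  have hBs : ∀ i j : Fin n, B (Pi.single i 1) (Pi.single j 1) = if i = j then 1 else 0 := fun i j => by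
    rw [Cfsg.Agent.Lib.Geometry.hermBilin_apply, Cfsg.Agent.Lib.Classical.hermForm_single_left hF, Pi.single_apply]
  set v : V := e₀ + α • e₁ with hv
  set c : F := a ^ q - a with hcd
  have hc0 : c ≠ 0 := sub_ne_zero.2 ha
  have hcc : c ^ q + c = 0 := by
    have e1 : σ c + c = 0 := by
      rw [hcd, show a ^ q = σ a from rfl, map_sub, Cfsg.Agent.Lib.Geometry.frobQ_frobQ]
      ring
    exact e1
  have hvv : B v v = 0 := by
    simp only [hv, e₀, e₁, map_add, LinearMap.add_apply, map_smul, map_smulₛₗ, LinearMap.smul_apply, smul_eq_mul, hBs,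
      if_neg hne, if_neg hne.symm, if_true, mul_zero, add_zero, mul_one, zero_add]
    show 1 + α * α ^ q = 0
    rw [← pow_succ', hα, add_neg_cancel]
  have hv0 : v ≠ 0 := fun h => by
    have := congrFun h i₀
    simp [hv, e₀, e₁, hne] at this
  clear_value v
  let L : V →ₗ[F] V := LinearMap.id + (LinearMap.smulRight (B v) (c • v))
  have hL : ∀ u, L u = u + (c * B v u) • v := fun u => by
    simp [L, smul_smul, mul_comm]
  have hLpow : ∀ k : ℕ, ∀ u, (L ^ k) u = u + ((k : F) * c * B v u) • v := by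
    intro k
    induction k with
    | zero => intro u; simp
    | succ k ih =>
      intro u
      rw [pow_succ, Module.End.mul_apply, hL, ih, map_add, map_smul, hvv, smul_zero, add_zero, Nat.cast_succ]
      module
  let Li : V →ₗ[F] V := LinearMap.id - (LinearMap.smulRight (B v) (c • v))
  have h1 : ∀ u, L (Li u) = u := fun u => by
    rw [show Li u = u - (c * B v u) • v by simp [Li, smul_smul, mul_comm], hL, map_sub, map_smul, hvv, smul_zero, sub_zero,
      sub_add_cancel]
  have h2 : ∀ u, Li (L u) = u := fun u => by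
    rw [show ∀ w, Li w = w - (c * B v w) • v from fun w => by simp [Li, smul_smul, mul_comm], hL, map_add, map_smul, hvv,
      smul_zero, add_zero, add_sub_cancel_right]
  let T : V ≃ₗ[F] V := LinearEquiv.ofLinear L Li (LinearMap.ext h1) (LinearMap.ext h2)
  have hT : Matrix.toLin' (mkGL T : Matrix (Fin n) (Fin n) F) = L := by
    apply LinearMap.ext; intro u; rw [Matrix.toLin'_apply, mkGL_apply]; rfl
  refine ⟨mkGL T, ⟨(mem_GU hF).2 fun u w => ?_, ?_⟩, ?_, ?_⟩
  · rw [mkGL_apply, mkGL_apply]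
    show B (L u) (L w) = B u w
    rw [hL, hL]
    simp only [map_add, LinearMap.add_apply, map_smul, map_smulₛₗ, LinearMap.smul_apply, smul_eq_mul, hvv, mul_zero,
      add_zero]
    rw [show (σ) (c * B v u) = c ^ q * B u v by rw [map_mul, B_conj]; rfl]
    linear_combination (B u v * B v w) * hcc
  · show Matrix.GeneralLinearGroup.det (mkGL T) = 1
    apply Units.ext
    rw [Matrix.GeneralLinearGroup.val_det_apply, ← LinearMap.det_toLin', hT, Units.val_one]
    have hM : LinearMap.toMatrix' L = 1 + Matrix.replicateCol (Fin 1) (c • v) * Matrix.replicateRow (Fin 1) (fun j => B v (Pi.single j 1)) := by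
      ext i j
      rw [LinearMap.toMatrix'_apply, hL]
      simp [Matrix.one_apply, Pi.single_apply, Matrix.mul_apply]
      ring
    rw [← LinearMap.det_toMatrix', hM, Matrix.det_one_add_mul_comm, Matrix.det_fin_one, Matrix.add_apply, Matrix.one_apply_eq,
      show (Matrix.replicateRow (Fin 1) (fun j => B v (Pi.single j 1)) * Matrix.replicateCol (Fin 1) (c • v)) 0 0 =
        (fun j => B v (Pi.single j 1)) ⬝ᵥ (c • v) from rfl]
    have e : (fun j => B v (Pi.single j 1)) ⬝ᵥ (c • v) = c * B v v := by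
      rw [dotProduct_smul, smul_eq_mul]
      congr 1
      conv_rhs => enter [2]; rw [pi_eq_sum_univ' v]
      rw [map_sum]
      simp [dotProduct, map_smul, mul_comm, Pi.single_apply]
    rw [e, hvv, mul_zero, add_zero]
  · apply Matrix.toLin'.injective
    rw [show Matrix.toLin' ((mkGL T : Matrix (Fin n) (Fin n) F) ^ p) = L ^ p from by
      rw [Matrix.toLin'_pow, hT], Matrix.toLin'_one]
    refine LinearMap.ext fun u => ?_
    rw [hLpow, CharP.cast_eq_zero, zero_mul, zero_mul, zero_smul, add_zero, LinearMap.id_apply]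
  · rw [Matrix.rank, ← Matrix.toLin'_apply', map_sub, hT, Matrix.toLin'_one]
    have : LinearMap.range (L - LinearMap.id) = F ∙ v := by
      refine le_antisymm ?_ ?_
      · rintro _ ⟨u, rfl⟩
        rw [LinearMap.sub_apply, hL, LinearMap.id_apply, add_sub_cancel_left]
        exact Submodule.smul_mem _ _ (Submodule.mem_span_singleton_self v)
      · rw [Submodule.span_singleton_le_iff_mem]
        obtain ⟨u, hu⟩ : ∃ u, B v u ≠ 0 := by
          by_contra h
          push Not at h
          exact hv0 ((Cfsg.Agent.Lib.Geometry.hermBilin_nondegenerate hF).1 _ h)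
        refine ⟨(c * B v u)⁻¹ • u, ?_⟩
        rw [LinearMap.sub_apply, hL, LinearMap.id_apply, map_smul, smul_eq_mul, add_sub_cancel_left,
          show c * ((c * B v u)⁻¹ * B v u) = 1 by field_simp, one_smul]
    rw [this, finrank_span_singleton hv0]

include hF in
/-- Diagonal elements. -/
theorem exists_diag {ι : Type} [Fintype ι] [DecidableEq ι] (eqv : ι ≃ Fin n) (d : ι → F) (hd : ∀ i, d i ^ (q + 1) = 1)
    (hdet : ∏ i, d i = 1) :
    ∃ x ∈ Cfsg.GU n F q ⊓ Cfsg.Geo.specialLinear (Fin n) F,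
      (x : Matrix (Fin n) (Fin n) F) = Matrix.diagonal (d ∘ eqv.symm) := by
  have h0 : (Matrix.diagonal (d ∘ eqv.symm)).det = 1 := by
    rw [Matrix.det_diagonal]
    exact (eqv.symm.prod_comp d).trans hdet
  refine ⟨Matrix.GeneralLinearGroup.mkOfDetNeZero _ (h0 ▸ one_ne_zero),
    ⟨(Cfsg.Agent.Lib.Classical.mem_GU_iff hF _).2 (Cfsg.Agent.Lib.Classical.diagonal_preserves hF _ fun i => ?_),
      Units.ext h0⟩, rfl⟩
  simpa using hd (eqv.symm i)

end basic

theorem exists_block (hF : Fintype.card F = q ^ 2) {e : ℕ} (hen : e + 1 ≤ n) {r : ℕ} [Fact r.Prime] (hrF : (r : F) ≠ 0)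
    (hr : r ∣ Nat.card (Cfsg.GU (e + 1) F q)) (hr' : ¬ r ∣ Nat.card (Cfsg.GU e F q)) (hr1 : ¬ r ∣ q + 1) :
    ∃ x ∈ Cfsg.GU n F q ⊓ Cfsg.Geo.specialLinear (Fin n) F,
      (x : Matrix (Fin n) (Fin n) F) ^ r = 1 ∧ ((x : Matrix (Fin n) (Fin n) F) - 1).rank = e + 1 := by
  classical
  obtain ⟨⟨y, hy⟩, hyo⟩ := exists_prime_orderOf_dvd_card' r hr
  have hyo' : orderOf y = r := (Subgroup.orderOf_coe (⟨y, hy⟩ : Cfsg.GU (e + 1) F q)).trans hyo
  set Bh := Cfsg.Agent.Lib.Geometry.hermBilin (e + 1) hF with hBh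
  set Y := Matrix.toLin' (y : Matrix (Fin (e + 1)) (Fin (e + 1)) F) with hY
  have hBY : ∀ u v, Bh (Y u) (Y v) = Bh u v := fun u v => by
    rw [hY, Matrix.toLin'_apply, Matrix.toLin'_apply]; exact hy v u
  have hYr : ∀ u, (Y ^ r) u = u := fun u => by
    rw [hY, ← Matrix.toLin'_pow, ← Units.val_pow_eq_pow_val, ← hyo', pow_orderOf_eq_one, Units.val_one, Matrix.toLin'_one,
      LinearMap.id_apply]
  have hfix : ∀ v, Y v = v → v = 0 := by
    by_contra hne
    push Not at hne
    obtain ⟨v₁, hv₁, hv₁0⟩ := hne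
    obtain ⟨v, hv, hvv⟩ : ∃ v, Y v = v ∧ Bh v v ≠ 0 := by
      by_contra hall
      push Not at hall
      have h0 : ∀ u w, Y u = u → Y w = w → Bh u w = 0 := by
        intro u w hu hw
        obtain ⟨a, ha⟩ := Cfsg.Agent.Lib.Geometry.exists_pow_ne_self hF
        have key : ∀ u, Y u = u → Bh u w + Bh w u = 0 := fun u hu => by
          have h := hall (u + w) (by rw [map_add, hu, hw])
          simp only [map_add, LinearMap.add_apply, hall u hu, hall w hw, zero_add, add_zero] at h
          linear_combination h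
        have h1 := key (a • u) (by rw [map_smul, hu])
        simp only [map_smul, map_smulₛₗ, LinearMap.smul_apply, smul_eq_mul] at h1
        change a ^ q * Bh u w + a * Bh w u = 0 at h1
        have h2 : (a ^ q - a) * Bh u w = 0 := by linear_combination h1 - a * key u hu
        exact (mul_eq_zero.mp h2).resolve_left (sub_ne_zero.mpr ha)
      refine hv₁0 ((Cfsg.Agent.Lib.Geometry.hermBilin_nondegenerate hF).1 _ fun u => ?_)
      have hpu : ∀ k : ℕ, Bh v₁ ((Y ^ k) u) = Bh v₁ u := fun k => by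
        induction k with
        | zero => rfl
        | succ k ih => rw [pow_succ', Module.End.mul_apply, ← ih]; conv_lhs => rw [← hv₁, hBY]
      set s := ∑ k ∈ Finset.range r, (Y ^ k) u with hs
      have hs' : Y s = s := by
        have e1 : Y s = ∑ k ∈ Finset.range r, (Y ^ (k + 1)) u := by
          rw [hs, map_sum]; simp_rw [pow_succ', Module.End.mul_apply]
        have e2 := Finset.sum_range_succ' (fun k => (Y ^ k) u) r
        rw [Finset.sum_range_succ, hYr, pow_zero, Module.End.one_apply] at e2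
        rw [e1, ← add_right_cancel e2]
      have := h0 v₁ s hv₁ hs'
      rw [hs, map_sum, Finset.sum_congr rfl fun k _ => hpu k, Finset.sum_const, Finset.card_range, nsmul_eq_mul] at this
      exact (mul_eq_zero.1 this).resolve_left hrF
    obtain ⟨c, hc⟩ := Cfsg.Agent.Lib.Geometry.exists_mul_conj_eq (Cfsg.Agent.Lib.Geometry.frobQ_ne_id hF)
      (Cfsg.Agent.Lib.Geometry.frobQ_frobQ hF) ((Cfsg.Agent.Lib.Geometry.hermBilin_isSymm hF).eq v v)
    change c ^ q * c = Bh v v at hc
    have hc0 : c ≠ 0 := fun h => hvv (by rw [← hc, h, mul_zero])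
    set w := c⁻¹ • v with hw
    have hwY : (y : Matrix (Fin (e + 1)) (Fin (e + 1)) F) *ᵥ w = w := by rw [← Matrix.toLin'_apply, ← hY, hw, map_smul, hv]
    have hww : Cfsg.hermForm (e + 1) F q w w = 1 := by
      change Bh w w = 1
      rw [hw, hBh, B_smul_smul hF, ← hBh, ← hc, inv_pow]
      field_simp
    let S : Subgroup (Cfsg.GU (e + 1) F q) :=
      { carrier := {g | (g.1 : Matrix (Fin (e + 1)) (Fin (e + 1)) F) *ᵥ w = w}
        mul_mem' := fun {a b} ha hb => by
          show ((a * b : Cfsg.GU (e + 1) F q).1 : Matrix (Fin (e + 1)) (Fin (e + 1)) F) *ᵥ w = w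
          rw [Subgroup.coe_mul, Units.val_mul, ← Matrix.mulVec_mulVec, hb, ha]
        one_mem' := by simp
        inv_mem' := fun {a} ha => by
          show ((a⁻¹ : Cfsg.GU (e + 1) F q).1 : Matrix (Fin (e + 1)) (Fin (e + 1)) F) *ᵥ w = w
          conv_lhs => arg 2; rw [← ha]
          rw [Matrix.mulVec_mulVec, Subgroup.coe_inv, ← Units.val_mul, inv_mul_cancel, Units.val_one, Matrix.one_mulVec] }
    let N := {u : Fin (e + 1) → F // Cfsg.hermForm (e + 1) F q u u = 1}
    let π : Cfsg.GU (e + 1) F q → N := fun g => ⟨(g.1 : Matrix (Fin (e + 1)) (Fin (e + 1)) F) *ᵥ w, (g.2 w w).trans hww⟩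
    have hsurj : Function.Surjective π := by
      rintro ⟨u, hu⟩
      obtain ⟨g₁, hg₁, hg₁w⟩ := Cfsg.Agent.Lib.Classical.exists_isometry_single hF w hww
      obtain ⟨g₂, hg₂, hg₂u⟩ := Cfsg.Agent.Lib.Classical.exists_isometry_single hF u hu
      refine ⟨⟨mkGL (n := e + 1) (g₁.symm.trans g₂), fun a b => ?_⟩, Subtype.ext ?_⟩
      · show Cfsg.hermForm _ _ _ ((mkGL (n := e + 1) (g₁.symm.trans g₂) : Matrix (Fin (e + 1)) (Fin (e + 1)) F) *ᵥ a) ((mkGL (n := e + 1) (g₁.symm.trans g₂) : Matrix (Fin (e + 1)) (Fin (e + 1)) F) *ᵥ b) = _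
        rw [mkGL_apply, mkGL_apply, LinearEquiv.trans_apply, LinearEquiv.trans_apply, hg₂]
        conv_rhs => rw [← g₁.apply_symm_apply a, ← g₁.apply_symm_apply b, hg₁]
      · show (mkGL (n := e + 1) (g₁.symm.trans g₂) : Matrix (Fin (e + 1)) (Fin (e + 1)) F) *ᵥ w = u
        rw [mkGL_apply, LinearEquiv.trans_apply, ← hg₁w, g₁.symm_apply_apply, hg₂u]
    have hfib : ∀ u, Nat.card {g // π g = u} = Nat.card S := by
      intro u
      obtain ⟨g₀, hg₀⟩ := hsurj u
      refine Nat.card_congr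
        { toFun := fun g => ⟨g₀⁻¹ * g.1, ?_⟩
          invFun := fun s => ⟨g₀ * s.1, ?_⟩
          left_inv := fun g => Subtype.ext (mul_inv_cancel_left _ _)
          right_inv := fun s => Subtype.ext (inv_mul_cancel_left _ _) }
      · have e1 := congrArg Subtype.val (g.2.trans hg₀.symm)
        show ((g₀⁻¹ * g.1 : Cfsg.GU (e + 1) F q).1 : Matrix (Fin (e + 1)) (Fin (e + 1)) F) *ᵥ w = w
        rw [Subgroup.coe_mul, Units.val_mul, ← Matrix.mulVec_mulVec]
        simp only [π] at e1
        rw [e1, Matrix.mulVec_mulVec, Subgroup.coe_inv, ← Units.val_mul, inv_mul_cancel, Units.val_one, Matrix.one_mulVec]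
      · apply Subtype.ext
        rw [← hg₀]
        show ((g₀ * s.1 : Cfsg.GU (e + 1) F q).1 : Matrix (Fin (e + 1)) (Fin (e + 1)) F) *ᵥ w = _
        rw [Subgroup.coe_mul, Units.val_mul, ← Matrix.mulVec_mulVec, s.2]
    have hcard : Nat.card N * Nat.card S = Nat.card (Cfsg.GU (e + 1) F q) := by
      rw [← Nat.card_congr (Equiv.sigmaFiberEquiv π), Nat.card_sigma, Finset.sum_congr rfl fun u _ => hfib u,
        Finset.sum_const, Finset.card_univ, smul_eq_mul, Nat.card_eq_fintype_card]
    have hN : Nat.card N = Cfsg.Agent.Lib.Classical.hermCount F q (e + 1) 1 := by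
      rw [Cfsg.Agent.Lib.Classical.hermCount]
    have hGU : Nat.card (Cfsg.GU (e + 1) F q) = Cfsg.Agent.Lib.Classical.hermCount F q (e + 1) 1 * Nat.card (Cfsg.GU e F q) := by
      rw [Cfsg.Agent.Lib.Classical.card_GU hF, Cfsg.Agent.Lib.Classical.card_GU hF,
        ← Cfsg.Agent.Lib.Classical.card_hermFrame_self hF, ← Cfsg.Agent.Lib.Classical.card_hermFrame_self hF,
        Cfsg.Agent.Lib.Classical.card_hermFrame_succ hF]
    rw [hGU, hN] at hcard
    have hS : Nat.card S = Nat.card (Cfsg.GU e F q) := Nat.eq_of_mul_eq_mul_left (by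
      rw [← hN]
      haveI : Nonempty N := ⟨⟨w, hww⟩⟩
      exact Nat.card_pos) hcard
    apply hr'
    rw [← hS, ← hyo]
    exact Subgroup.orderOf_dvd_natCard S (show (⟨y, hy⟩ : Cfsg.GU (e + 1) F q) ∈ S from hwY)
  have hrank : ((y : Matrix (Fin (e + 1)) (Fin (e + 1)) F) - 1).rank = e + 1 := by
    rw [Matrix.rank, ← Matrix.toLin'_apply', map_sub, Matrix.toLin'_one, ← hY]
    rw [LinearMap.finrank_range_of_inj, Module.finrank_fintype_fun_eq_card, Fintype.card_fin]
    refine (injective_iff_map_eq_zero _).2 fun v hv => hfix v ?_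
    rwa [LinearMap.sub_apply, LinearMap.id_apply, sub_eq_zero] at hv
  have hdet : (y : Matrix (Fin (e + 1)) (Fin (e + 1)) F).det = 1 := by
    have hz := MonoidHom.mem_ker.1 (Cfsg.Agent.Lib.Geometry.det_mem_normOneUnits hF ⟨y, hy⟩)
    have hz' : Matrix.GeneralLinearGroup.det y ^ r = 1 := by rw [← map_pow, ← hyo', pow_orderOf_eq_one, map_one]
    have h1 := pow_gcd_eq_one.2 ⟨hz, hz'⟩
    rw [Nat.Coprime.gcd_eq_one (((Fact.out : r.Prime).coprime_iff_not_dvd.2 hr1).symm), pow_one] at h1
    simpa using congrArg Units.val h1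
  let eqv : Fin (e + 1) ⊕ Fin (n - (e + 1)) ≃ Fin n := finSumFinEquiv.trans (finCongr (by omega))
  set M := Matrix.fromBlocks (y : Matrix (Fin (e + 1)) (Fin (e + 1)) F) 0 0 (1 : Matrix (Fin (n - (e + 1))) (Fin (n - (e + 1))) F) with hM
  set X := Matrix.reindexAlgEquiv F F eqv M with hX
  have hXdet : X.det = 1 := by
    rw [hX, Matrix.det_reindexAlgEquiv, hM, Matrix.det_fromBlocks_zero₂₁, hdet, Matrix.det_one, mul_one]
  refine ⟨Matrix.GeneralLinearGroup.mkOfDetNeZero X (hXdet ▸ one_ne_zero),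
    ⟨(Cfsg.Agent.Lib.Classical.mem_GU_iff hF _).2 ?_, Units.ext hXdet⟩, ?_, ?_⟩
  · show Xᵀ * X.map (Cfsg.Agent.Lib.Classical.conjHom hF) = 1
    rw [hX, Matrix.coe_reindexAlgEquiv, Matrix.reindex_apply, Matrix.transpose_submatrix, ← Matrix.submatrix_map,
      Matrix.submatrix_mul_equiv, hM, Matrix.fromBlocks_transpose, Matrix.fromBlocks_map,
      Matrix.fromBlocks_multiply]
    simp [(Cfsg.Agent.Lib.Classical.mem_GU_iff hF _).1 hy, Matrix.map_one, Matrix.fromBlocks_one]
  · show X ^ r = 1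
    rw [hX, ← map_pow, hM, Matrix.fromBlocks_diagonal_pow, one_pow, ← Units.val_pow_eq_pow_val, ← hyo', pow_orderOf_eq_one,
      Units.val_one, Matrix.fromBlocks_one, map_one]
  · show (X - 1).rank = e + 1
    rw [hX, ← map_one (Matrix.reindexAlgEquiv F F eqv), ← map_sub, Matrix.coe_reindexAlgEquiv, Matrix.rank_reindex, hM,
      ← Matrix.fromBlocks_one,
      show ∀ Y : Matrix (Fin (e + 1)) (Fin (e + 1)) F, Matrix.fromBlocks Y 0 0 (1 : Matrix (Fin (n - (e + 1))) (Fin (n - (e + 1))) F) -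
        Matrix.fromBlocks 1 0 0 1 = Matrix.fromBlocks (Y - 1) 0 0 0 from fun Y => by ext (i | i) (j | j) <;> simp [Matrix.one_apply],
      Cfsg.Agent.Lib.MaxSub.UnipotentOrth.rank_fromBlocks, Matrix.rank_zero, add_zero, hrank]

theorem rank_diagonal_card {ι : Type} [Fintype ι] [DecidableEq ι] (d : ι → F) (c : F) :
    (Matrix.diagonal d - c • 1).rank = Nat.card {i // d i ≠ c} := by
  classical
  rw [show Matrix.diagonal d - c • 1 = Matrix.diagonal (fun i => d i - c) by
    ext i j; by_cases h : i = j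
    · subst h; simp
    · simp [h], Matrix.rank_diagonal, Nat.card_eq_fintype_card]
  refine Fintype.card_congr (Equiv.subtypeEquivRight fun i => ?_)
  exact sub_ne_zero

/-- Involutions fix a pair when the two parts of the degree are large. -/
theorem good_involution (hF : Fintype.card F = q ^ 2) (hnm : n = m + m) (hm : 0 < m) (h2 : (2 : F) ≠ 0) (hqo : Odd q)
    (hv : padicValNat 2 (q + 1) ≤ padicValNat 2 n) {D : Fin 2 → Submodule F (Fin n → F)} (hc : IsCompl (D 0) (D 1))
    (hDs : ∀ i, ∀ u ∈ D i, ∀ v ∈ D i, Cfsg.Agent.Lib.Geometry.hermBilin n hF u v = 0) {x : GL (Fin n) F}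
    (hx : x ∈ Cfsg.GU n F q ⊓ Cfsg.Geo.specialLinear (Fin n) F) {z : F} (hz : (x : Matrix (Fin n) (Fin n) F) ^ 2 = z • 1) :
    ∃ g ∈ Cfsg.GU n F q ⊓ Cfsg.Geo.specialLinear (Fin n) F, g⁻¹ * x * g ∈ Cfsg.Geo.decompositionStabilizer D := by
  classical
  set L := Matrix.toLin' (x : Matrix (Fin n) (Fin n) F) with hLd
  set Bh := Cfsg.Agent.Lib.Geometry.hermBilin n hF with hBh
  have hBL : ∀ u v, Bh (L u) (L v) = Bh u v := fun u v => by
    rw [hLd, Matrix.toLin'_apply, Matrix.toLin'_apply]; exact (mem_GU hF).1 hx.1 u v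
  have hLL : ∀ v, L (L v) = z • v := fun v => by
    rw [hLd, Matrix.toLin'_apply, Matrix.toLin'_apply, Matrix.mulVec_mulVec, ← pow_two, hz, Matrix.smul_mulVec, Matrix.one_mulVec]
  have hz1 : z ^ q * z = 1 := by
    let e₀ : Fin n → F := Pi.single ⟨0, by omega⟩ 1
    have he₀ : Bh e₀ e₀ = 1 := by
      rw [hBh, Cfsg.Agent.Lib.Geometry.hermBilin_apply, Cfsg.Agent.Lib.Classical.hermForm_single_left hF]
      simp [e₀]
    have h1 : Bh (L (L e₀)) (L (L e₀)) = 1 := by rw [hBL, hBL, he₀]
    rwa [hLL, hBh, B_smul_smul, ← hBh, he₀, mul_one] at h1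
  have hz0 : z ≠ 0 := fun e => by rw [e, mul_zero] at hz1; exact zero_ne_one hz1
  have h2' : ringChar F ≠ 2 := fun e => h2 (by
    have : CharP F 2 := e ▸ ringChar.charP F
    exact CharTwo.two_eq_zero)
  obtain ⟨w, hw⟩ : IsSquare z := by
    rw [FiniteField.isSquare_iff h2' hz0, hF]
    obtain ⟨l, hl⟩ := hqo
    rw [hl, show (2 * l + 1) ^ 2 / 2 = (2 * l + 1 + 1) * l by
      have : (2 * l + 1) ^ 2 = 2 * ((2 * l + 1 + 1) * l) + 1 := by ring
      omega, pow_mul, pow_succ, ← hl, hz1, one_pow]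
  have hw0 : w ≠ 0 := fun e => hz0 (by rw [hw, e, mul_zero])
  let P := LinearMap.ker (L - w • LinearMap.id)
  let N := LinearMap.ker (L + w • LinearMap.id)
  have hP : ∀ v, v ∈ P ↔ L v = w • v := fun v => by simp [P, sub_eq_zero]
  have hN : ∀ v, v ∈ N ↔ L v = -(w • v) := fun v => by simp [N, eq_neg_iff_add_eq_zero]
  have hPN : IsCompl P N := by
    refine ⟨disjoint_iff.2 ?_, codisjoint_iff.2 ?_⟩
    · rw [eq_bot_iff]
      rintro v ⟨h1, h3⟩
      have e := ((hP v).1 h1).symm.trans ((hN v).1 h3)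
      rw [eq_neg_iff_add_eq_zero, ← add_smul, smul_eq_zero] at e
      exact e.resolve_left fun e' => mul_ne_zero h2 hw0 (by rw [two_mul, e'])
    · rw [eq_top_iff]
      intro v _
      rw [show v = (2 : F)⁻¹ • (v + w⁻¹ • L v) + (2 : F)⁻¹ • (v - w⁻¹ • L v) by
        rw [← smul_add, eq_inv_smul_iff₀ h2]; module]
      refine Submodule.add_mem_sup (Submodule.smul_mem _ _ ((hP _).2 ?_)) (Submodule.smul_mem _ _ ((hN _).2 ?_))
      · rw [map_add, map_smul, hLL, hw, smul_smul]
        match_scalars <;> field_simp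
      · rw [map_sub, map_smul, hLL, hw, smul_smul]
        match_scalars <;> field_simp
  have hmap : ∀ (c : F) (W : Submodule F (Fin n → F)), c ≠ 0 → (∀ v ∈ W, L v = c • v) → W.map L = W := by
    intro c W hc0 hW
    refine le_antisymm ?_ fun v hv => ⟨c⁻¹ • v, W.smul_mem _ hv, by rw [map_smul, hW v hv, inv_smul_smul₀ hc0]⟩
    rintro _ ⟨v, hv, rfl⟩
    rw [hW v hv]
    exact W.smul_mem _ hv
  have hPw : P.map L = P := hmap w P hw0 fun v hv => (hP v).1 hv
  have hNw : N.map L = N := hmap (-w) N (neg_ne_zero.2 hw0) fun v hv => by rw [(hN v).1 hv, neg_smul]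
  have hnq : ((-1 : F)) ^ q = -1 := hqo.neg_one_pow
  have hs : w ^ q * w = 1 ∨ w ^ q * w = -1 := mul_self_eq_one_iff.1 (by
    rw [← hz1, hw, mul_pow]; ring)
  rcases hs with hs | hs
  · have hperp : ∀ u ∈ P, ∀ v ∈ N, Bh u v = 0 := fun u hu v hv => by
      have e := hBL u v
      rw [(hP u).1 hu, (hN v).1 hv, map_neg, hBh, B_smul_smul, ← hBh] at e
      exact (mul_eq_zero.1 (show (2 : F) * Bh u v = 0 by linear_combination -e - Bh u v * hs)).resolve_left h2
    have hex : ∀ W W' : Submodule F (Fin n → F), IsCompl W W' → (∀ u ∈ W, ∀ v ∈ W', Bh u v = 0) →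
        ∃ b : Basis (Fin (finrank F W)) F W, ∀ i j, Bh (b i : Fin n → F) (b j) = if i = j then 1 else 0 := by
      intro W W' hWW' hp
      obtain ⟨b, hb⟩ := Cfsg.Agent.Lib.Geometry.exists_orthonormal_basis (Cfsg.Agent.Lib.Geometry.frobQ_ne_id hF)
        (Cfsg.Agent.Lib.Geometry.frobQ_frobQ hF) (Bh.domRestrict₁₂ W W)
        ⟨fun u v => (Cfsg.Agent.Lib.Geometry.hermBilin_isSymm hF).eq (u : Fin n → F) v⟩
        ⟨fun u hu => Subtype.ext ((Cfsg.Agent.Lib.Geometry.hermBilin_nondegenerate hF).1 _ fun y => by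
          obtain ⟨a, ha, b, hb, rfl⟩ := Submodule.mem_sup.1 (hWW'.sup_eq_top ▸ Submodule.mem_top : y ∈ W ⊔ W')
          rw [map_add, hp u u.2 b hb, add_zero]
          exact hu ⟨a, ha⟩),
        fun u hu => Subtype.ext ((Cfsg.Agent.Lib.Geometry.hermBilin_nondegenerate hF).2 _ fun y => by
          obtain ⟨a, ha, b, hb, rfl⟩ := Submodule.mem_sup.1 (hWW'.sup_eq_top ▸ Submodule.mem_top : y ∈ W ⊔ W')
          rw [map_add, LinearMap.add_apply, B_zero_comm hF (hp u u.2 b hb), add_zero]
          exact hu ⟨a, ha⟩)⟩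
      exact ⟨b, hb⟩
    obtain ⟨bP, hbP⟩ := hex P N hPN hperp
    obtain ⟨bN, hbN⟩ := hex N P hPN.symm fun u hu v hv => B_zero_comm hF (hperp v hv u hu)
    let bb := (bP.prod bN).map (Submodule.prodEquivOfIsCompl P N hPN)
    have hdet : (1 : F) = w ^ finrank F P * (-w) ^ finrank F N := by
      have h1 : (x : Matrix (Fin n) (Fin n) F).det = 1 := congrArg Units.val (hx.2 : Matrix.GeneralLinearGroup.det x = 1)
      rw [← h1, ← LinearMap.det_toLin', ← hLd, ← LinearMap.det_toMatrix bb]
      have hD : LinearMap.toMatrix bb bb L = Matrix.diagonal (Sum.elim (fun _ => w) fun _ => -w) := by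
        ext a a'
        have hLb : L (bb a') = (Sum.elim (fun _ => w) (fun _ => -w) a') • bb a' := by
          rcases a' with i | i <;> simp [bb, (hP _).1 (bP _).2, (hN _).1 (bN _).2]
        rw [LinearMap.toMatrix_apply, hLb, map_smul, Basis.repr_self]
        by_cases e : a = a'
        · subst e; simp
        · simp [Finsupp.single_eq_of_ne e, e]
      rw [hD, Matrix.det_diagonal, Fintype.prod_sum_type]
      simp
    have hsum : finrank F P + finrank F N = n := by
      rw [Submodule.finrank_add_eq_of_isCompl hPN, Module.finrank_fintype_fun_eq_card, Fintype.card_fin]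
    have hev : Even (finrank F N) := by
      rw [← Nat.not_odd_iff_even]
      intro hodd
      have hwn : w ^ n = -1 := by
        rw [hodd.neg_pow, mul_neg, ← pow_add, hsum] at hdet
        linear_combination hdet
      have ha : 2 ^ padicValNat 2 (q + 1) ∣ n := (pow_dvd_pow 2 hv).trans pow_padicValNat_dvd
      obtain ⟨n', hn'⟩ := ha
      obtain ⟨u, hu⟩ := pow_padicValNat_dvd (p := 2) (n := q + 1)
      have huo : Odd u := by
        rw [← Nat.not_even_iff_odd]
        rintro ⟨t, ht⟩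
        have h' : 2 ^ (padicValNat 2 (q + 1) + 1) ∣ q + 1 := ⟨t, hu.trans (by rw [ht, pow_succ]; ring)⟩
        have := (padicValNat_dvd_iff_le (by omega : q + 1 ≠ 0)).1 h'
        omega
      have e1 : (w ^ n) ^ u = 1 := by
        rw [← pow_mul, hn', mul_right_comm, ← hu, pow_mul, pow_succ, hs, one_pow]
      rw [hwn, huo.neg_one_pow] at e1
      exact h2 (by linear_combination -e1)
    obtain ⟨b, hb⟩ := hev
    obtain ⟨a, ha⟩ : Even (finrank F P) := by
      rcases Nat.even_or_odd (finrank F P) with h' | ⟨k, hk⟩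
      · exact h'
      · omega
    let e : Fin a ⊕ Fin b → (Fin n → F) := Sum.elim (fun i => bP (Fin.cast ha.symm (Fin.castAdd a i))) fun i => bN (Fin.cast hb.symm (Fin.castAdd b i))
    let e' : Fin a ⊕ Fin b → (Fin n → F) := Sum.elim (fun i => bP (Fin.cast ha.symm (Fin.natAdd a i))) fun i => bN (Fin.cast hb.symm (Fin.natAdd b i))
    have hperp' : ∀ u ∈ N, ∀ v ∈ P, Bh u v = 0 := fun u hu v hv => B_zero_comm hF (hperp v hv u hu)
    obtain ⟨W₀, W₁, hW, h0, h1, hi0, hi1⟩ := even_split hF h2 hnm (ι := Fin a ⊕ Fin b) (by simp; omega) (L := L) (e := e) (e' := e')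
      (s := Sum.elim (fun _ => w) fun _ => -w)
      (fun i j => by
        rcases i with i | i <;> rcases j with j | j <;> simp only [e, Sum.elim_inl, Sum.elim_inr, ← hBh]
        · rw [hbP]; simp [Fin.ext_iff]
        · rw [hperp _ (bP _).2 _ (bN _).2]; simp
        · rw [hperp' _ (bN _).2 _ (bP _).2]; simp
        · rw [hbN]; simp [Fin.ext_iff])
      (fun i j => by
        rcases i with i | i <;> rcases j with j | j <;> simp only [e', Sum.elim_inl, Sum.elim_inr, ← hBh]
        · rw [hbP]; simp [Fin.ext_iff]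
        · rw [hperp _ (bP _).2 _ (bN _).2]; simp
        · rw [hperp' _ (bN _).2 _ (bP _).2]; simp
        · rw [hbN]; simp [Fin.ext_iff])
      (fun i j => by
        rcases i with i | i <;> rcases j with j | j <;> simp only [e, e', Sum.elim_inl, Sum.elim_inr, ← hBh]
        · rw [hbP, if_neg]; simp [Fin.ext_iff]; omega
        · rw [hperp _ (bP _).2 _ (bN _).2]
        · rw [hperp' _ (bN _).2 _ (bP _).2]
        · rw [hbN, if_neg]; simp [Fin.ext_iff]; omega)
      (fun i => by rcases i with i | i <;> simp [hw0])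
      (fun i => by rcases i with i | i <;> simp [e, (hP _).1 (bP _).2, (hN _).1 (bN _).2])
      (fun i => by rcases i with i | i <;> simp [e', (hP _).1 (bP _).2, (hN _).1 (bN _).2])
    exact fix_of_pair hF hnm hm hc hDs hW h0 h1 hi0 hi1
  · have hiso : ∀ c : F, c ^ q * c = -1 → ∀ W : Submodule F (Fin n → F), (∀ v ∈ W, L v = c • v) → ∀ u ∈ W, ∀ v ∈ W, Bh u v = 0 := by
      intro c hc W hW u hu v hv
      have e := hBL u v
      rw [hW u hu, hW v hv, hBh, B_smul_smul, ← hBh] at e
      exact (mul_eq_zero.1 (show (2 : F) * Bh u v = 0 by linear_combination -e + Bh u v * hc)).resolve_left h2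
    refine fix_of_pair hF hnm hm hc hDs hPN (hiso w hs P fun v hv => (hP v).1 hv) (hiso (-w) ?_ N fun v hv => by rw [(hN v).1 hv, neg_smul]) hPw hNw
    rw [neg_pow, hnq]
    linear_combination hs


/-- Elements of prime order of PSU_n(q) and the stabilizers of pairs of complementary totally singular subspaces. Here `T = PSU_n(q)` is realised through `SU_n(q)`, the matrices of determinant 1 over the field `F` with `q²` elements preserving the hermitian form `Σ uᵢ vᵢ^q`, with `n ≥ 4` even; `D` is a pair of complementary subspaces of dimension `n/2` on each of which the form vanishes identically, and `H` is the subgroup of `SU_n(q)` fixing or interchanging the two members — a subgroup of type GL_{n/2}(q²).2 (maximality is not assumed). Ω is the set of cosets of `H`, so an element of `T` of prime order `r` (`x ∈ SU_n(q)` with `x^r` scalar, `x` not scalar) fixes a point of Ω exactly when some `SU_n(q)`-conjugate of `x` lies in `H`. Let `r` be a prime dividing the index of `H`.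 Then every element of `T` of order `r` fixes a point of Ω if and only if `r = 2`, `q` is odd and `(q + 1)_2 ≤ (n)_2` (2-parts). -/
theorem result {F : Type*} [Field F] [Fintype F] {p : ℕ} [Fact p.Prime] [CharP F p] {q : ℕ} (hq : Fintype.card F = q ^ 2)
    (n : ℕ) (hn : 4 ≤ n) (he : Even n) (D : Fin 2 → Submodule F (Fin n → F)) (hD : Cfsg.Geo.IsMDecomposition (n / 2) D)
    (hDs : ∀ i, Cfsg.Geo.IsTotallySingularFor (Cfsg.hermForm n F q) (D i))
    (r : ℕ) [Fact r.Prime]
    (hΩ : r ∣ (Cfsg.Geo.decompositionStabilizer D).relIndex (Cfsg.GU n F q ⊓ Cfsg.Geo.specialLinear (Fin n) F)) :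
    (∀ x ∈ Cfsg.GU n F q ⊓ Cfsg.Geo.specialLinear (Fin n) F, (∃ z : F, ((x ^ r : GL (Fin n) F) : Matrix (Fin n) (Fin n) F) = z • (1 : Matrix (Fin n) (Fin n) F)) →
      (∀ z : F, (x : Matrix (Fin n) (Fin n) F) ≠ z • (1 : Matrix (Fin n) (Fin n) F)) →
      ∃ g ∈ Cfsg.GU n F q ⊓ Cfsg.Geo.specialLinear (Fin n) F, g⁻¹ * x * g ∈ Cfsg.Geo.decompositionStabilizer D) ↔
    (r = 2 ∧ Odd q ∧ padicValNat 2 (q + 1) ≤ padicValNat 2 n) := by
  classical
  have hn2 : n = n / 2 + n / 2 := by obtain ⟨k, hk⟩ := he; omega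
  obtain ⟨m, hm⟩ : ∃ m, n / 2 = m := ⟨_, rfl⟩
  rw [hm] at hn2 hD
  have hm2 : 2 ≤ m := by omega
  have hr : r.Prime := Fact.out
  have hq2 : 2 ≤ q := Cfsg.Agent.Lib.Classical.two_le_q hq
  obtain ⟨f, hf⟩ : ∃ f : ℕ, q ^ 2 = p ^ f := by
    obtain ⟨f, -, hf⟩ := FiniteField.card F p
    exact ⟨f, by rw [← hq, hf]⟩
  have hpq : ∀ s : ℕ, s.Prime → s ∣ q → s = p := fun s hs hd =>
    (Nat.prime_dvd_prime_iff_eq hs Fact.out).1 (hs.dvd_of_dvd_pow (hf ▸ dvd_pow hd two_ne_zero))
  have hqp : p ∣ q := by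
    have : p ∣ q ^ 2 := by
      obtain ⟨f, hf0, hf⟩ := FiniteField.card F p
      rw [← hq, hf]; exact dvd_pow_self p f.ne_zero
    exact (Fact.out : p.Prime).dvd_of_dvd_pow this
  have hc : IsCompl (D 0) (D 1) := by
    refine ⟨hD.indep.pairwiseDisjoint (by decide : (0 : Fin 2) ≠ 1), codisjoint_iff.2 ?_⟩
    rw [← hD.iSup_eq_top]
    exact le_antisymm (sup_le (le_iSup D 0) (le_iSup D 1)) (iSup_le fun i => by
      fin_cases i
      · exact le_sup_left
      · exact le_sup_right)
  have hDs' : ∀ i, ∀ u ∈ D i, ∀ v ∈ D i, Cfsg.Agent.Lib.Geometry.hermBilin n hq u v = 0 :=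
    fun i u hu v hv => hDs i v hv u hu
  have hq1 : ∀ z : F, z ^ (q + 1) = 1 ↔ z ^ q * z = 1 := fun z => by rw [pow_succ]
  constructor
  · intro h
    have hno : ∀ x ∈ Cfsg.GU n F q ⊓ Cfsg.Geo.specialLinear (Fin n) F, ∀ z c : F,
        (x : Matrix (Fin n) (Fin n) F) ^ r = z • 1 → c ^ q * c = 1 →
        (((x : Matrix (Fin n) (Fin n) F) - c • 1).rank = 1 ∨ (r ≠ 2 ∧ Odd ((x : Matrix (Fin n) (Fin n) F) - c • 1).rank)) →
        (((x : Matrix (Fin n) (Fin n) F) - c • 1).rank < n) → False := by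
      intro x hx z c hxr hcn hrk hlt
      have hns : ∀ z : F, (x : Matrix (Fin n) (Fin n) F) ≠ z • 1 := by
        intro z' hz'
        rw [hz', ← sub_smul] at hrk hlt
        rcases eq_or_ne (z' - c) 0 with e | e
        · rw [e, zero_smul, Matrix.rank_zero] at hrk
          rcases hrk with h' | ⟨-, h'⟩
          · exact absurd h' zero_ne_one
          · exact Nat.not_odd_zero h'
        · rw [Matrix.rank_of_isUnit _ (by
            rw [Matrix.isUnit_iff_isUnit_det, Matrix.det_smul, Matrix.det_one, mul_one]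
            exact (Ne.isUnit e).pow _), Fintype.card_fin] at hlt
          exact lt_irrefl _ hlt
      obtain ⟨g, hg, hgS⟩ := h x hx ⟨z, by rw [Units.val_pow_eq_pow_val]; exact hxr⟩ hns
      obtain ⟨τ, hτ⟩ := hgS
      have hy : g⁻¹ * x * g ∈ Cfsg.GU n F q := Subgroup.mul_mem _ (Subgroup.mul_mem _ (Subgroup.inv_mem _ hg.1) hx.1) hg.1
      have hconj : ((g⁻¹ * x * g : GL (Fin n) F) : Matrix (Fin n) (Fin n) F) - c • 1 =
          ((g⁻¹ : GL (Fin n) F) : Matrix (Fin n) (Fin n) F) * ((x : Matrix (Fin n) (Fin n) F) - c • 1) * (g : Matrix (Fin n) (Fin n) F) := by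
        rw [mul_sub, sub_mul, mul_smul_comm, mul_one, smul_mul_assoc, Units.inv_mul, Units.val_mul, Units.val_mul]
      have hrk' : (((g⁻¹ * x * g : GL (Fin n) F) : Matrix (Fin n) (Fin n) F) - c • 1).rank =
          ((x : Matrix (Fin n) (Fin n) F) - c • 1).rank := by
        rw [hconj, Matrix.rank_mul_eq_left_of_isUnit_det _ _ (by rw [← Matrix.isUnit_iff_isUnit_det]; exact Units.isUnit _),
          Matrix.rank_mul_eq_right_of_isUnit_det _ _ (by rw [← Matrix.isUnit_iff_isUnit_det]; exact Units.isUnit _)]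
      obtain ⟨hev, hge⟩ := stab_rank hq hn2 hc hDs' hD.finrank_eq hy hτ hcn
      rw [hrk'] at hev hge
      by_cases hτ1 : τ = 1
      · rcases hrk with h1 | ⟨-, h1⟩
        · exact Nat.not_even_one (h1 ▸ hev hτ1)
        · exact Nat.not_even_iff_odd.2 h1 (hev hτ1)
      rcases hrk with h1 | ⟨hr2, h1⟩
      · have := hge hτ1
        omega
      -- an element of odd order fixes both members
      set y := g⁻¹ * x * g
      have hyr : (y : Matrix (Fin n) (Fin n) F) ^ r = z • 1 := by
        rw [← Units.val_pow_eq_pow_val, show y ^ r = g⁻¹ * x ^ r * g by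
          have := conj_pow (a := g⁻¹) (b := x) (i := r); simpa [y] using this, Units.val_mul, Units.val_mul,
          Units.val_pow_eq_pow_val, hxr, mul_smul_comm, mul_one, smul_mul_assoc, Units.inv_mul]
      have hz0 : z ≠ 0 := fun e => by
        rw [e, zero_smul] at hxr
        have := congrArg Matrix.det hxr
        haveI hne' : Nonempty (Fin n) := ⟨⟨0, by omega⟩⟩
        rw [Matrix.det_pow, Matrix.det_zero] at this
        exact Units.ne_zero (Matrix.GeneralLinearGroup.det x) (eq_zero_of_pow_eq_zero this)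
      have hpow : ∀ k : ℕ, ∀ i, (D i).map (Matrix.toLin' ((y : Matrix (Fin n) (Fin n) F) ^ k)) = D ((τ ^ k) i) := by
        intro k
        induction k with
        | zero => intro i; simp
        | succ k ih => intro i; rw [pow_succ, Matrix.toLin'_mul, Submodule.map_comp, hτ, ih, pow_succ, Equiv.Perm.mul_apply]
      have hinj : Function.Injective D := fun i i' hii => by
        by_contra hne
        have h' := hD.indep.pairwiseDisjoint hne
        rw [Function.onFun, hii, disjoint_self] at h'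
        have := hD.finrank_eq i'
        rw [h', finrank_bot] at this
        omega
      have hτr : τ ^ r = 1 := Equiv.ext fun i => hinj (by
        have h0 := hpow r i
        rw [hyr, map_smul, Matrix.toLin'_one, Submodule.map_smul _ _ _ hz0, Submodule.map_id] at h0
        rw [← h0, Equiv.Perm.one_apply])
      refine hτ1 (orderOf_eq_one_iff.1 (Nat.eq_one_of_dvd_coprimes ?_ (orderOf_dvd_of_pow_eq_one hτr) (orderOf_dvd_card (x := τ))))
      rw [Fintype.card_perm, Fintype.card_fin]
      exact (Nat.coprime_primes hr Nat.prime_two).2 hr2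
    by_cases hr2 : r = 2
    · subst hr2
      refine ⟨rfl, ?_, ?_⟩
      · by_contra hqo
        have hq2' : 2 ∣ q := (Nat.not_odd_iff_even.1 hqo).two_dvd
        obtain rfl : 2 = p := hpq 2 Nat.prime_two hq2'
        obtain ⟨x, hx, hxp, hxk⟩ := exists_transvection hq (n := n) (p := 2) (by omega)
        exact hno x hx 1 1 (by rw [hxp, one_smul]) (by rw [one_pow, one_mul]) (Or.inl (by rw [one_smul, hxk]))
          (by rw [one_smul, hxk]; omega)
      · by_contra hlt
        push Not at hlt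
        obtain ⟨γ, hγ⟩ := IsCyclic.exists_generator (α := Fˣ)
        have hγo : orderOf γ = (q - 1) * (q + 1) := by
          rw [orderOf_eq_card_of_forall_mem_zpowers hγ, Nat.card_eq_fintype_card, Fintype.card_units, hq, mul_comm,
            ← Nat.sq_sub_sq, one_pow]
        set a := padicValNat 2 n
        obtain ⟨n', hn'⟩ := pow_padicValNat_dvd (p := 2) (n := n)
        have hn'o : ¬ 2 ∣ n' := fun hd => by
          have h' : 2 ^ (a + 1) ∣ n := by rw [pow_succ, hn']; exact mul_dvd_mul_left _ hd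
          have := (padicValNat_dvd_iff_le (by omega)).1 h'
          omega
        obtain ⟨s, hs⟩ : 2 ^ (a + 1) ∣ q + 1 := (padicValNat_dvd_iff_le (by omega)).2 hlt
        let η : Fˣ := γ ^ ((q - 1) * s)
        have hηo : orderOf η = 2 ^ (a + 1) := by
          have hs0 : s ≠ 0 := fun e => by rw [e, mul_zero] at hs; omega
          rw [orderOf_pow' γ (Nat.mul_ne_zero (by omega) hs0), hγo, hs,
            Nat.gcd_eq_right ⟨2 ^ (a + 1), by ring⟩, show (q - 1) * (2 ^ (a + 1) * s) = 2 ^ (a + 1) * ((q - 1) * s) by ring]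
          exact Nat.mul_div_cancel _ (Nat.mul_pos (by omega) (Nat.pos_of_ne_zero hs0))
        have hη2 : (η : F) ^ (2 ^ a) = -1 := by
          have h1 : ((η : F) ^ (2 ^ a)) * ((η : F) ^ (2 ^ a)) = 1 := by
            rw [← pow_add, ← two_mul, ← pow_succ', ← hηo, ← Units.val_pow_eq_pow_val, pow_orderOf_eq_one, Units.val_one]
          refine (mul_self_eq_one_iff.1 h1).resolve_left fun e => ?_
          have h3 := orderOf_dvd_of_pow_eq_one (x := η) (Units.ext (by rw [Units.val_pow_eq_pow_val, e, Units.val_one]))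
          rw [hηo] at h3
          have := Nat.le_of_dvd (Nat.two_pow_pos _) h3
          have := Nat.pow_lt_pow_right (one_lt_two (α := ℕ)) a.lt_succ_self
          omega
        have hηq : (η : F) ^ (q + 1) = 1 := by
          rw [hs, pow_mul, ← hηo, ← Units.val_pow_eq_pow_val, pow_orderOf_eq_one, Units.val_one, one_pow]
        have hηn : (η : F) ^ n = -1 := by
          rw [hn', pow_mul, hη2, (Nat.odd_iff.2 (Nat.two_dvd_ne_zero.1 hn'o)).neg_one_pow]
        obtain ⟨n₁, hn₁⟩ : ∃ n₁, n = n₁ + 1 := ⟨n - 1, by omega⟩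
        let dd : Fin n₁ ⊕ Fin 1 → F := Sum.elim (fun _ => (η : F)) fun _ => -(η : F)
        obtain ⟨x, hx, hxd⟩ := exists_diag hq (finSumFinEquiv.trans (finCongr hn₁.symm)) dd (fun i => by
          rcases i with i | i
          · exact hηq
          · simp only [dd, Sum.elim_inr]
            rw [neg_pow, hηq, mul_one, pow_succ, Cfsg.Agent.Lib.Classical.neg_one_pow_q hq, neg_one_mul, neg_neg])
          (by simp [dd, Fintype.prod_sum_type, ← pow_succ, ← hn₁, hηn])
        have hq' : (η : F) ^ q * (η : F) = 1 := (hq1 _).1 hηq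
        have h2' : (2 : F) ≠ 0 := by
          intro e
          have : CharP F 2 := CharTwo.of_one_ne_zero_of_two_eq_zero one_ne_zero e
          obtain rfl : p = 2 := CharP.eq F ‹CharP F p› this
          obtain ⟨k, hk⟩ := hqp
          have h3 : 2 ∣ q + 1 := ⟨2 ^ a * s, by rw [hs, pow_succ]; ring⟩
          omega
        refine hno x hx ((η : F) ^ 2) (η : F) ?_ hq' (Or.inl ?_) ?_
        · rw [hxd, Matrix.diagonal_pow, Matrix.smul_one_eq_diagonal]
          congr 1
          funext i
          simp only [Pi.pow_apply, Function.comp_apply, dd]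
          rcases (finSumFinEquiv.trans (finCongr hn₁.symm)).symm i with j | j <;> simp
        all_goals
          rw [hxd, rank_diagonal_card, Nat.card_congr (Equiv.subtypeEquiv (finSumFinEquiv.trans (finCongr hn₁.symm)).symm
            (q := fun b => b.isRight = true) fun i => ?_), Nat.card_congr (Equiv.sumIsRight (α := Fin n₁) (β := Fin 1))]
        pick_goal 3
        · simp; omega
        pick_goal 1
        · simp
        all_goals
          simp only [Function.comp_apply, dd]
          rcases (finSumFinEquiv.trans (finCongr hn₁.symm)).symm i with j | j <;> simp [neg_eq_iff_add_eq_zero, ← two_mul, h2']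
    exfalso
    by_cases hrp : r = p
    · subst hrp
      obtain ⟨x, hx, hxp, hxk⟩ := exists_transvection hq (n := n) (p := r) (by omega)
      exact hno x hx 1 1 (by rw [hxp, one_smul]) (by rw [one_pow, one_mul]) (Or.inl (by rw [one_smul, hxk]))
        (by rw [one_smul, hxk]; omega)
    obtain ⟨e₁, he₁o, he₁, hre₁⟩ := prime_dvd hq hn2 hc hDs' hr (fun hd => hrp (hpq r hr hd)) hΩ
    by_cases hr1 : r ∣ q + 1
    · have hcardU : r ∣ Nat.card Fˣ := by
        rw [Nat.card_eq_fintype_card, Fintype.card_units, hq, show q ^ 2 - 1 = (q + 1) * (q - 1) by rw [← Nat.sq_sub_sq, one_pow]]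
        exact hr1.mul_right _
      obtain ⟨u, hu⟩ := exists_prime_orderOf_dvd_card' r hcardU
      have hur : (u : F) ^ r = 1 := by rw [← Units.val_pow_eq_pow_val, ← hu, pow_orderOf_eq_one, Units.val_one]
      have huq : ∀ k : ℕ, ((u : F) ^ k) ^ (q + 1) = 1 := fun k => by
        obtain ⟨l, hl⟩ := hr1; rw [← pow_mul, hl, mul_comm, mul_assoc, pow_mul, hur, one_pow]
      have hu1 : (u : F) ≠ 1 := fun e' => by
        rw [Units.val_eq_one] at e'; rw [e', orderOf_one] at hu; exact hr.one_lt.ne hu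
      have hu2 : (u : F) ^ (r - 2) ≠ 1 := fun e' => by
        have h' := orderOf_dvd_of_pow_eq_one (x := u) (Units.ext (by rw [Units.val_pow_eq_pow_val, e', Units.val_one]))
        rw [hu] at h'
        have := hr.two_le
        exact absurd (Nat.le_of_dvd (by omega) h') (by omega)
      let dd : Fin 3 ⊕ Fin (n - 3) → F := Sum.elim ![(u : F), u, (u : F) ^ (r - 2)] fun _ => 1
      obtain ⟨x, hx, hxd⟩ := exists_diag hq (finSumFinEquiv.trans (finCongr (show 3 + (n - 3) = n by omega))) dd (fun i => by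
        rcases i with i | i
        · fin_cases i
          · simpa [dd] using huq 1
          · simpa [dd] using huq 1
          · simpa [dd] using huq (r - 2)
        · simp [dd]) (by
        simp [dd, Fintype.prod_sum_type, Fin.prod_univ_three]
        rw [← pow_two, ← pow_add, show 2 + (r - 2) = r by have := hr.two_le; omega, hur])
      have hk : ((x : Matrix (Fin n) (Fin n) F) - (1 : F) • 1).rank = 3 := by
        rw [hxd, rank_diagonal_card, Nat.card_congr (Equiv.subtypeEquiv
          (finSumFinEquiv.trans (finCongr (show 3 + (n - 3) = n by omega))).symm (q := fun b => b.isLeft = true) fun i => ?_),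
          Nat.card_congr (Equiv.sumIsLeft (α := Fin 3) (β := Fin (n - 3))), Nat.card_eq_fintype_card, Fintype.card_fin]
        simp only [Function.comp_apply, dd]
        rcases (finSumFinEquiv.trans (finCongr (show 3 + (n - 3) = n by omega))).symm i with j | j
        · fin_cases j <;> simp [hu1, hu2]
        · simp
      refine hno x hx 1 1 ?_ (by rw [one_pow, one_mul]) (Or.inr ⟨hr2, hk ▸ ⟨1, rfl⟩⟩) (hk ▸ by omega)
      rw [hxd, Matrix.diagonal_pow, one_smul, ← Matrix.diagonal_one]
      congr 1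
      funext i
      simp only [Pi.pow_apply, Function.comp_apply, dd]
      rcases (finSumFinEquiv.trans (finCongr (show 3 + (n - 3) = n by omega))).symm i with j | j
      · fin_cases j
        · simpa using hur
        · simpa using hur
        · simp
          rw [← pow_mul, mul_comm, pow_mul, hur, one_pow]
      · simp
    -- the order of `-q` modulo `r`
    set o := orderOf (-(q : ZMod r)) with ho
    have hqe : (-(q : ZMod r)) ^ e₁ = 1 := by
      rw [he₁o.neg_pow]
      have h0 : ((q ^ e₁ + 1 : ℕ) : ZMod r) = 0 := (ZMod.natCast_eq_zero_iff _ _).2 hre₁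
      push_cast at h0
      linear_combination -h0
    have hoe : o ∣ e₁ := orderOf_dvd_of_pow_eq_one hqe
    have hoo : Odd o := he₁o.of_dvd_nat hoe
    have ho0 : 0 < o := hoo.pos
    have hro : r ∣ q ^ o + 1 := by
      rw [← ZMod.natCast_eq_zero_iff]
      have h1 := pow_orderOf_eq_one (-(q : ZMod r))
      rw [← ho, hoo.neg_pow] at h1
      push_cast
      linear_combination -h1
    obtain ⟨o', ho'⟩ : ∃ o', o = o' + 1 := ⟨o - 1, by omega⟩
    have hoe' : Even o' := by rcases Nat.even_or_odd o' with h' | h'; exacts [h', absurd hoo (Nat.not_odd_iff_even.2 (ho' ▸ h'.add_one))]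
    have hdvd : r ∣ Nat.card (Cfsg.GU (o' + 1) F q) := by
      rw [Cfsg.Agent.Lib.Classical.card_GU hq, Finset.prod_range_succ, if_pos hoe']
      exact ((ho' ▸ hro).mul_left _).mul_left _
    have hndvd : ¬ r ∣ Nat.card (Cfsg.GU o' F q) := by
      rw [Cfsg.Agent.Lib.Classical.card_GU hq]
      intro hd
      rcases hr.dvd_mul.1 hd with h1 | h1
      · exact hrp (hpq r hr (hr.dvd_of_dvd_pow h1))
      obtain ⟨i, hi, hi'⟩ := (hr.prime.dvd_finset_prod_iff _).1 h1
      rw [Finset.mem_range] at hi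
      have hle : o ≤ i + 1 := Nat.le_of_dvd (Nat.succ_pos i) (orderOf_dvd_of_pow_eq_one (by
        by_cases hev : Even i
        · rw [if_pos hev] at hi'
          have h0 : ((q ^ (i + 1) + 1 : ℕ) : ZMod r) = 0 := (ZMod.natCast_eq_zero_iff _ _).2 hi'
          push_cast at h0
          rw [(hev.add_one).neg_pow]
          linear_combination -h0
        · rw [if_neg hev] at hi'
          rw [(Nat.not_even_iff_odd.1 hev).add_one.neg_pow]
          have h0 : ((q ^ (i + 1) : ℕ) : ZMod r) = ((1 : ℕ) : ZMod r) :=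
            (ZMod.natCast_eq_natCast_iff' _ _ _).2 ((Nat.modEq_iff_dvd' (Nat.one_le_pow _ _ (by omega))).2 hi').symm
          simpa using h0))
      omega
    have hlt : o < n := lt_of_le_of_lt (Nat.le_of_dvd he₁o.pos hoe) he₁
    obtain ⟨x, hx, hxr, hxk⟩ := exists_block (n := n) hq (e := o') (by omega) (fun e => hrp (by
      have := (CharP.cast_eq_zero_iff F p r).1 e
      exact ((Nat.prime_dvd_prime_iff_eq Fact.out hr).1 this).symm)) hdvd hndvd hr1
    exact hno x hx 1 1 (by rw [hxr, one_smul]) (by rw [one_pow, one_mul]) (Or.inr ⟨hr2, by rw [one_smul, hxk, ← ho']; exact hoo⟩)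
      (by rw [one_smul, hxk]; omega)
  · rintro ⟨rfl, hqo, hv⟩ x hx ⟨z, hz⟩ -
    have h2 : (2 : F) ≠ 0 := by
      intro e
      have : CharP F 2 := CharTwo.of_one_ne_zero_of_two_eq_zero one_ne_zero e
      obtain rfl : p = 2 := CharP.eq F ‹CharP F p› this
      exact Nat.not_even_iff_odd.2 hqo (even_iff_two_dvd.2 hqp)
    rw [Units.val_pow_eq_pow_val] at hz
    exact good_involution hq hn2 (by omega) h2 hqo hv hc hDs' hx hz

end Cfsg.Agent.S5984
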