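import Cfsg.Statements.S5985
import Mathlib
import Cfsg.Agent.Lib.MaxSub.Orth
import Cfsg.Agent.Lib.MaxSub.InvolutionBlocks
import Cfsg.Agent.Lib.Geometry.OrthNegOne

set_option autoImplicit false
set_option maxHeartbeats 1000000
open scoped MatrixGroups
open Cfsg

namespace Cfsg.Agent.S5985

open Matrix QuadraticMap
open Cfsg.Agent.Lib.MaxSub
open Cfsg.Agent.Lib.Geometry (matQuad plusMatrix quadFormPlus_eq)

attribute [-simp] QuadraticMap.polarBilin_apply_apply

section

variable {F : Type*} [Field F] {d : ℕ}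

/-- The standard plus form as a quadratic form. -/
noncomputable def QP (F : Type*) [Field F] (d : ℕ) : QuadraticForm F (Fin d ⊕ Fin d → F) := matQuad (plusMatrix d F)

theorem QP_coe : (⇑(QP F d)) = Cfsg.quadFormPlus d F := (quadFormPlus_eq d).symm

theorem QP_apply (v : Fin d ⊕ Fin d → F) : QP F d v = ∑ i, v (.inl i) * v (.inr i) := by
  rw [QP_coe]; rfl

theorem polar_QP (u v : Fin d ⊕ Fin d → F) :
    polarBilin (QP F d) u v = ∑ i, (u (.inl i) * v (.inr i) + u (.inr i) * v (.inl i)) := by
  rw [polarBilin_apply_apply, QuadraticMap.polar, QP_apply, QP_apply, QP_apply, ← Finset.sum_sub_distrib,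
    ← Finset.sum_sub_distrib]
  exact Finset.sum_congr rfl fun i _ => by simp only [Pi.add_apply]; ring

theorem QP_nondeg : (polarBilin (QP F d)).Nondegenerate := by
  constructor
  · intro x hx
    funext k
    rcases k with k | k
    · have := hx (Pi.single (.inr k) 1); rw [polar_QP] at this; simpa [Pi.single_apply] using this
    · have := hx (Pi.single (.inl k) 1); rw [polar_QP] at this; simpa [Pi.single_apply] using this
  · intro x hx
    funext k
    rcases k with k | k
    · have := hx (Pi.single (.inr k) 1); rw [polar_QP] at this; simpa [Pi.single_apply] using this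
    · have := hx (Pi.single (.inl k) 1); rw [polar_QP] at this; simpa [Pi.single_apply] using this

theorem mem_iso {g : GL (Fin d ⊕ Fin d) F}
    (h : ∀ v, Cfsg.quadFormPlus d F ((g : Matrix (Fin d ⊕ Fin d) (Fin d ⊕ Fin d) F) *ᵥ v) = Cfsg.quadFormPlus d F v) :
    g ∈ Cfsg.isometryGroup F (Cfsg.quadFormPlus d F) := fun u _ => h u

theorem omega_iso {g : GL (Fin d ⊕ Fin d) F} (h : g ∈ Cfsg.Geo.omegaGL (Cfsg.quadFormPlus d F)) (v : Fin d ⊕ Fin d → F) :
    Cfsg.quadFormPlus d F ((g : Matrix (Fin d ⊕ Fin d) (Fin d ⊕ Fin d) F) *ᵥ v) = Cfsg.quadFormPlus d F v := by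
  obtain ⟨g', -, rfl⟩ := h
  exact g'.2 v v

theorem span_map_of_fix (L : (Fin d ⊕ Fin d → F) →ₗ[F] (Fin d ⊕ Fin d → F)) {v : Fin d ⊕ Fin d → F} (h : L v = v) :
    (F ∙ v).map L ≤ F ∙ v := by
  rw [Submodule.map_span, Set.image_singleton, h]

/-- An invariant non-singular point in characteristic two is fixed. -/
theorem fixed_of_invariant [CharP F 2] {g : GL (Fin d ⊕ Fin d) F} (hg : g ∈ Cfsg.Geo.omegaGL (Cfsg.quadFormPlus d F))
    {W : Submodule F (Fin d ⊕ Fin d → F)} (hW : Module.finrank F W = 1) {v : Fin d ⊕ Fin d → F} (hv : v ∈ W)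
    (hQ : Cfsg.quadFormPlus d F v ≠ 0)
    (hinv : W.map (Matrix.toLin' (g : Matrix (Fin d ⊕ Fin d) (Fin d ⊕ Fin d) F)) ≤ W) :
    (g : Matrix (Fin d ⊕ Fin d) (Fin d ⊕ Fin d) F) *ᵥ v = v := by
  have hv0 : v ≠ 0 := by
    rintro rfl
    exact hQ (by simp [Cfsg.quadFormPlus])
  have hWv : W = F ∙ v := (Submodule.eq_of_le_of_finrank_le (by rwa [Submodule.span_singleton_le_iff_mem])
    (by rw [hW, finrank_span_singleton hv0])).symm
  have h1 := hinv (Submodule.mem_map_of_mem hv)
  rw [hWv, Submodule.mem_span_singleton] at h1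
  obtain ⟨c, hc⟩ := h1
  rw [Matrix.toLin'_apply] at hc
  have h2 := omega_iso hg v
  rw [← hc, ← QP_coe, QuadraticMap.map_smul, smul_eq_mul, QP_coe] at h2
  have h3 : c * c = 1 := mul_right_cancel₀ hQ (h2.trans (one_mul _).symm)
  have hc1 : c = 1 := by
    rcases mul_self_eq_one_iff.1 h3 with h | h
    · exact h
    · rw [h, CharTwo.neg_eq]
  rw [← hc, hc1, one_smul]

end

/-- Elements of prime order of Ω⁺_n(q), q even, with no fixed nonsingular 1-space. Here `T = PΩ⁺_n(F)`, `n = 2d ≥ 8`, realised through `Ω⁺_n(q)`, the commutator subgroup of the isometry group of `Q = Σ xᵢyᵢ` over the field `F` with `q` elements; an element of `T` of prime order `r` is an element `x` of `Ω⁺_n(q)` with `x^r` scalar and `x` not scalar; `q` is even (so the centre is trivial). Let Ω be the set of 1-dimensional subspaces spanned by a vector `v` with `Q(v) ≠ 0`, and let `r` be a prime dividing their number. Then every element of `T` of order `r` fixes some nonsingular 1-space if and only if `r = 2` and `n ≡ 2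 (mod 4)` (that is, `d` is odd). -/
theorem result {F : Type*} [Field F] [Fintype F] {p : ℕ} [Fact p.Prime] [CharP F p] {q : ℕ} (hq : Fintype.card F = q)
    (hp : p = 2) (d : ℕ) (hd : 4 ≤ d) (r : ℕ) [Fact r.Prime]
    (hrΩ : r ∣ Nat.card {W : Submodule F (Fin d ⊕ Fin d → F) // Module.finrank F ↥W = 1 ∧ ∃ v ∈ W, Cfsg.quadFormPlus d F v ≠ 0}) :
    (∀ x : GL (Fin d ⊕ Fin d) F, x ∈ Cfsg.Geo.omegaGL (Cfsg.quadFormPlus d F) →
      (∃ z : F, ((x ^ r : GL (Fin d ⊕ Fin d) F) : Matrix (Fin d ⊕ Fin d) (Fin d ⊕ Fin d) F) = z • (1 : Matrix (Fin d ⊕ Fin d) (Fin d ⊕ Fin d) F)) →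
      (∀ z : F, (x : Matrix (Fin d ⊕ Fin d) (Fin d ⊕ Fin d) F) ≠ z • (1 : Matrix (Fin d ⊕ Fin d) (Fin d ⊕ Fin d) F)) →
      ∃ W : Submodule F (Fin d ⊕ Fin d → F), (Module.finrank F ↥W = 1 ∧ ∃ v ∈ W, Cfsg.quadFormPlus d F v ≠ 0) ∧ W.map (Matrix.toLin' (x : Matrix (Fin d ⊕ Fin d) (Fin d ⊕ Fin d) F)) ≤ W) ↔ (r = 2 ∧ Odd d) := by
  classical
  subst hp
  haveI : Fact (Nat.Prime 2) := inferInstance
  set q' := Fintype.card F with hq'
  have vv : ∀ w : Fin d ⊕ Fin d → F, w + w = 0 := fun w => funext fun i => CharTwo.add_self_eq_zero _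
  have vneg : ∀ w : Fin d ⊕ Fin d → F, -w = w := fun w => funext fun i => CharTwo.neg_eq _
  have key1 : r = 2 → Odd d → ∀ x : GL (Fin d ⊕ Fin d) F, x ∈ Cfsg.Geo.omegaGL (Cfsg.quadFormPlus d F) →
      (∃ z : F, ((x ^ r : GL (Fin d ⊕ Fin d) F) : Matrix (Fin d ⊕ Fin d) (Fin d ⊕ Fin d) F) = z • (1 : Matrix _ _ F)) →
      ∃ W : Submodule F (Fin d ⊕ Fin d → F), (Module.finrank F ↥W = 1 ∧ ∃ v ∈ W, Cfsg.quadFormPlus d F v ≠ 0) ∧
        W.map (Matrix.toLin' (x : Matrix (Fin d ⊕ Fin d) (Fin d ⊕ Fin d) F)) ≤ W := by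
    rintro rfl hdodd x hx ⟨z, hz⟩
    set L := Matrix.toLin' (x : Matrix (Fin d ⊕ Fin d) (Fin d ⊕ Fin d) F) with hL
    have hLQ : ∀ v, QP F d (L v) = QP F d v := fun v => by
      rw [QP_coe, hL, Matrix.toLin'_apply]; exact omega_iso hx v
    have hLz : ∀ v, L (L v) = z • v := fun v => by
      rw [hL, Matrix.toLin'_apply, Matrix.toLin'_apply, Matrix.mulVec_mulVec, ← Units.val_mul, ← pow_two, hz,
        Matrix.smul_mulVec, Matrix.one_mulVec]
    have hz1 : z = 1 := by
      let i0 : Fin d := ⟨0, by omega⟩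
      set v₀ : Fin d ⊕ Fin d → F := Pi.single (.inl i0) 1 + Pi.single (.inr i0) 1 with hv₀
      have hv : QP F d v₀ = 1 := by
        rw [QP_apply, Finset.sum_eq_single i0] <;> simp [hv₀, Pi.single_apply]
      have h := (hLQ (L v₀)).trans (hLQ v₀)
      rw [hLz, QuadraticMap.map_smul, hv, smul_eq_mul, mul_one] at h
      rcases mul_self_eq_one_iff.1 h with h' | h'
      · exact h'
      · rw [h', CharTwo.neg_eq]
    subst hz1
    simp only [one_smul] at hLz
    set W := LinearMap.ker (L - 1) with hWdef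
    have hWfix : ∀ w ∈ W, L w = w := fun w hw => by
      rwa [hWdef, LinearMap.mem_ker, LinearMap.sub_apply, Module.End.one_apply, sub_eq_zero] at hw
    by_cases hns : ∃ v ∈ W, QP F d v ≠ 0
    · obtain ⟨v, hv, hQv⟩ := hns
      have hv0 : v ≠ 0 := by rintro rfl; exact hQv (QuadraticMap.map_zero _)
      exact ⟨F ∙ v, ⟨finrank_span_singleton hv0, v, Submodule.mem_span_singleton_self v, by rwa [QP_coe] at hQv⟩,
        span_map_of_fix L (hWfix v hv)⟩
    push Not at hns
    exfalso
    have hrange : ∀ v, L v - v ∈ W := fun v => by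
      rw [hWdef, LinearMap.mem_ker, LinearMap.sub_apply, Module.End.one_apply, map_sub, hLz,
        show v - L v - (L v - v) = (v + v) - (L v + L v) by abel, vv, vv, sub_zero]
    have hWle := Orth.finrank_sing_le (Q := QP F d) QP_nondeg hns
    rw [Fintype.card_sum, Fintype.card_fin] at hWle
    have hWge : d ≤ Module.finrank F W := by
      have h1 := (L - 1).finrank_range_add_finrank_ker
      have h2 : Module.finrank F (LinearMap.range (L - 1)) ≤ Module.finrank F W :=
        Submodule.finrank_mono (by rintro _ ⟨v, rfl⟩; exact hrange v)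
      rw [Module.finrank_fintype_fun_eq_card, Fintype.card_sum, Fintype.card_fin, ← hWdef] at h1
      omega
    have hWd : Module.finrank F W = d := by omega
    have hWperp : ∀ a ∈ W, ∀ b ∈ W, polarBilin (QP F d) a b = 0 := fun a ha b hb => by
      rw [polarBilin_apply_apply, QuadraticMap.polar, hns _ (W.add_mem ha hb), hns a ha, hns b hb, sub_zero, sub_zero]
    obtain ⟨C, hC⟩ := exists_isCompl W
    have hCd : Module.finrank F C = d := by
      have := Submodule.finrank_add_eq_of_isCompl hC
      rw [hWd, Module.finrank_fintype_fun_eq_card, Fintype.card_sum, Fintype.card_fin] at this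
      omega
    let bC := (Module.finBasis F C).reindex (finCongr hCd)
    let ι' : (Fin d → F) →ₗ[F] (Fin d ⊕ Fin d → F) := C.subtype ∘ₗ bC.equivFun.symm.toLinearMap
    have hιC : ∀ a, ι' a ∈ C := fun a => (bC.equivFun.symm a).2
    let f : AltForm (Fin d) F :=
      { B := LinearMap.compl₁₂ (polarBilin (QP F d)) ι' ((L - 1) ∘ₗ ι')
        alt := fun a => by
          show polarBilin (QP F d) (ι' a) ((L - 1) (ι' a)) = 0
          rw [LinearMap.sub_apply, Module.End.one_apply, polarBilin_apply_apply, QuadraticMap.polar, add_sub_cancel,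
            hLQ, hns _ (hrange _)]
          ring
        nondeg := fun a ha => by
          set w := L (ι' a) - ι' a with hw
          have hw0 : w = 0 := by
            refine QP_nondeg.2 w fun y => ?_
            obtain ⟨u, hu, c, hc, rfl⟩ := Submodule.mem_sup.1 (hC.sup_eq_top ▸ Submodule.mem_top : y ∈ W ⊔ C)
            rw [map_add, LinearMap.add_apply, hWperp u hu w (hrange _), zero_add]
            have := ha (bC.equivFun ⟨c, hc⟩)
            simpa [ι', hw, mul_sub, Finset.sum_sub_distrib] using this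
          have hmem : ι' a ∈ W ⊓ C := ⟨by
            show (L - 1) (ι' a) = 0
            rw [LinearMap.sub_apply, Module.End.one_apply, ← hw, hw0], hιC a⟩
          rw [hC.inf_eq_bot, Submodule.mem_bot] at hmem
          have hinj : Function.Injective ι' := C.subtype_injective.comp bC.equivFun.symm.injective
          exact hinj (hmem.trans (map_zero ι').symm) }
    obtain ⟨𝓛, h𝓛, -, -⟩ := InvBlocks.exists_planes f LinearMap.id (z := 1) one_ne_zero (fun v => (one_smul F v).symm)
      (fun _ _ => rfl) d ⊤ (by rw [finrank_top, Module.finrank_fintype_fun_eq_card, Fintype.card_fin])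
      (fun a _ ha => by
        by_contra hc
        push Not at hc
        exact ha (f.nondeg a fun y => by rw [f.skew, hc y Submodule.mem_top, neg_zero]))
      (fun v _ => Submodule.mem_top)
    have h5 := h𝓛.1
    rw [finrank_top, Module.finrank_fintype_fun_eq_card, Fintype.card_fin] at h5
    obtain ⟨k, hk⟩ := hdodd
    omega
  refine ⟨fun hall => ?_, fun h x hx hxr _ => key1 h.1 h.2 x hx hxr⟩
  by_contra hcon
  have hd0 : 0 < d := by omega
  -- it suffices to find a fixed point free element
  suffices hx : ∃ x : GL (Fin d ⊕ Fin d) F, x ∈ Cfsg.Geo.omegaGL (Cfsg.quadFormPlus d F) ∧ x ^ r = 1 ∧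
      (∃ v, (x : Matrix (Fin d ⊕ Fin d) (Fin d ⊕ Fin d) F) *ᵥ v ≠ v) ∧
      ∀ v, (x : Matrix (Fin d ⊕ Fin d) (Fin d ⊕ Fin d) F) *ᵥ v = v → Cfsg.quadFormPlus d F v = 0 by
    obtain ⟨x, hxΩ, hxr, ⟨v₁, hv₁⟩, hfix⟩ := hx
    have hns : ∀ z : F, (x : Matrix (Fin d ⊕ Fin d) (Fin d ⊕ Fin d) F) ≠ z • (1 : Matrix _ _ F) := by
      intro z hz
      let i0 : Fin d := ⟨0, hd0⟩
      set v₀ : Fin d ⊕ Fin d → F := Pi.single (.inl i0) 1 + Pi.single (.inr i0) 1 with hv₀
      have hQ : QP F d v₀ = 1 := by
        rw [QP_apply, Finset.sum_eq_single i0] <;> simp [hv₀, Pi.single_apply]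
      have h := omega_iso hxΩ v₀
      rw [hz, Matrix.smul_mulVec, Matrix.one_mulVec, ← QP_coe, QuadraticMap.map_smul, hQ, smul_eq_mul, mul_one] at h
      rcases mul_self_eq_one_iff.1 h with h' | h' <;>
      · apply hv₁
        rw [hz, h', Matrix.smul_mulVec, Matrix.one_mulVec]
        simp [CharTwo.neg_eq]
    obtain ⟨W, ⟨hW, v, hv, hQ⟩, hinv⟩ := hall x hxΩ ⟨1, by rw [hxr, Units.val_one, one_smul]⟩ hns
    exact hQ (hfix v (fixed_of_invariant hxΩ hW hv hQ hinv))
  by_cases hr : r = 2
  · -- an involution of maximal rank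
    subst hr
    obtain ⟨k, rfl⟩ : Even d := Nat.not_odd_iff_even.1 fun h => hcon ⟨rfl, h⟩
    let a1 : Fin k → Fin (k + k) := Fin.castAdd k
    let a2 : Fin k → Fin (k + k) := Fin.natAdd k
    let e : Fin (k + k) → (Fin (k + k) ⊕ Fin (k + k) → F) := fun i => Pi.single (Sum.inl i) 1
    let T : Finset (Fin k) → (Fin (k + k) ⊕ Fin (k + k) → F) → (Fin (k + k) ⊕ Fin (k + k) → F) :=
      fun P y => y + ∑ j ∈ P, (y (.inr (a1 j)) • e (a2 j) + y (.inr (a2 j)) • e (a1 j))
    have hTr : ∀ P y i, T P y (.inr i) = y (.inr i) := fun P y i => by simp [T, e]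
    have hQe : ∀ i, QP F (k + k) (e i) = 0 := fun i => by
      rw [QP_apply]; simp [e]
    have hpe : ∀ y i, polarBilin (QP F (k + k)) y (e i) = y (.inr i) := fun y i => by
      rw [polar_QP]; simp [e, Pi.single_apply]
    have hex : ∀ P : Finset (Fin k), ∃ g ∈ Cfsg.Geo.omegaGL (Cfsg.quadFormPlus (k + k) F),
        ∀ y, (g : Matrix (Fin (k + k) ⊕ Fin (k + k)) (Fin (k + k) ⊕ Fin (k + k)) F) *ᵥ y = T P y := by
      intro P
      induction P using Finset.induction_on with
      | empty => exact ⟨1, one_mem _, fun y => by simp [T]⟩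
      | insert j P hj ih =>
        obtain ⟨g, hg, hgT⟩ := ih
        have hux : polarBilin (QP F (k + k)) (e (a1 j)) (e (a2 j)) = 0 := by rw [hpe]; simp [e]
        refine ⟨Orth.eichGL (QP F (k + k)) (e (a1 j)) (e (a2 j)) (hQe _) hux * g, mul_mem ?_ hg, fun y => ?_⟩
        · rw [← QP_coe]
          exact Orth.eichGL_mem_omega QP_nondeg
            (by rw [Fintype.card_sum, Fintype.card_fin]; omega) (hQe _) hux
        · rw [Units.val_mul, ← Matrix.mulVec_mulVec, hgT, Orth.eichGL_mulVec, hpe, hpe, hQe, hTr, hTr, zero_mul, add_zero,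
            sub_eq_add_neg, vneg]
          simp only [T, Finset.sum_insert hj]
          abel
    have i11 : ∀ i j, a1 i = a1 j ↔ i = j := fun i j => (Fin.castAdd_injective k k).eq_iff
    have i22 : ∀ i j, a2 i = a2 j ↔ i = j := fun i j => by simp [a2, Fin.ext_iff]
    have i12 : ∀ i j, a1 i ≠ a2 j := fun i j => by simp [a1, a2, Fin.ext_iff]; omega
    have i21 : ∀ i j, a2 i ≠ a1 j := fun i j => (i12 j i).symm
    have hT2 : ∀ y j, T Finset.univ y (.inl (a2 j)) = y (.inl (a2 j)) + y (.inr (a1 j)) := fun y j => by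
      simp [T, e, Pi.single_apply, i22, i21, Finset.sum_apply]
    have hT1 : ∀ y j, T Finset.univ y (.inl (a1 j)) = y (.inl (a1 j)) + y (.inr (a2 j)) := fun y j => by
      simp [T, e, Pi.single_apply, i11, i12, Finset.sum_apply]
    obtain ⟨g, hg, hgT⟩ := hex Finset.univ
    refine ⟨g, hg, ?_, ?_, ?_⟩
    · refine Units.ext (Matrix.ext_of_mulVec_single fun i => ?_)
      rw [pow_two, Units.val_mul, Units.val_one, Matrix.one_mulVec, ← Matrix.mulVec_mulVec, hgT, hgT]
      simp only [T] at hTr
      simp only [T, hTr]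
      rw [add_assoc, vv, add_zero]
    · let j0 : Fin k := ⟨0, by omega⟩
      refine ⟨Pi.single (.inr (a1 j0)) 1, fun h => ?_⟩
      rw [hgT] at h
      have h1 := congrFun h (.inl (a2 j0))
      rw [hT2] at h1
      simp at h1
    · intro v hv
      rw [hgT] at hv
      have h0 : ∀ i, v (.inr i) = 0 := by
        intro i
        induction i using Fin.addCases with
        | left j =>
          have h1 := congrFun hv (.inl (a2 j))
          rw [hT2, add_eq_left] at h1
          exact h1
        | right j =>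
          have h1 := congrFun hv (.inl (a1 j))
          rw [hT1, add_eq_left] at h1
          exact h1
      simp [Cfsg.quadFormPlus, h0]
  · -- an element of a Singer torus
    have hrodd : Odd r := (Fact.out : r.Prime).odd_of_ne_two hr
    obtain ⟨n, hn0, hn⟩ := FiniteField.card F 2
    have hq1 : 1 < q' := Fintype.one_lt_card
    -- the number of non-singular points
    have hcount : Nat.card {W : Submodule F (Fin d ⊕ Fin d → F) // Module.finrank F ↥W = 1 ∧ ∃ v ∈ W, Cfsg.quadFormPlus d F v ≠ 0} =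
        (q' ^ d - 1) * q' ^ (d - 1) := by
      have hsq : ∀ c : F, ∃ s, c = s * s := fun c => FiniteField.isSquare_of_char_two (ringChar.eq F 2) c
      have hb : {v : Fin d ⊕ Fin d → F // Cfsg.quadFormPlus d F v = 1} ≃
          {W : Submodule F (Fin d ⊕ Fin d → F) // Module.finrank F ↥W = 1 ∧ ∃ v ∈ W, Cfsg.quadFormPlus d F v ≠ 0} := by
        refine Equiv.ofBijective (fun v => ⟨F ∙ v.1, finrank_span_singleton (fun h => by
          have := v.2; rw [h] at this; simp [Cfsg.quadFormPlus] at this), v.1, Submodule.mem_span_singleton_self _,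
            by rw [v.2]; exact one_ne_zero⟩) ⟨?_, ?_⟩
        · intro v w hvw
          have h : F ∙ v.1 = F ∙ w.1 := congrArg Subtype.val hvw
          have hm : w.1 ∈ F ∙ v.1 := h ▸ Submodule.mem_span_singleton_self _
          obtain ⟨c, hc⟩ := Submodule.mem_span_singleton.1 hm
          have hv2 : QP F d v.1 = 1 := by rw [QP_coe]; exact v.2
          have h2 : QP F d (c • v.1) = 1 := by rw [hc, QP_coe]; exact w.2
          rw [QuadraticMap.map_smul, hv2, smul_eq_mul, mul_one] at h2
          have hc1 : c = 1 := by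
            rcases mul_self_eq_one_iff.1 h2 with h' | h'
            · exact h'
            · rw [h', CharTwo.neg_eq]
          exact Subtype.ext (by rw [← hc, hc1, one_smul])
        · rintro ⟨W, hW, v, hv, hQ⟩
          obtain ⟨s, hs⟩ := hsq (Cfsg.quadFormPlus d F v)
          have hs0 : s ≠ 0 := by rintro rfl; exact hQ (by rw [hs, mul_zero])
          have hv0 : v ≠ 0 := by rintro rfl; exact hQ (by simp [Cfsg.quadFormPlus])
          refine ⟨⟨s⁻¹ • v, by
            rw [← QP_coe, QuadraticMap.map_smul, QP_coe, hs, smul_eq_mul]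
            field_simp⟩, Subtype.ext ?_⟩
          show F ∙ (s⁻¹ • v) = W
          rw [Submodule.span_singleton_smul_eq (inv_ne_zero hs0).isUnit]
          exact Submodule.eq_of_le_of_finrank_le (by rwa [Submodule.span_singleton_le_iff_mem])
            (by rw [hW, finrank_span_singleton hv0])
      rw [← Nat.card_congr hb]
      have hpair : {v : Fin d ⊕ Fin d → F // Cfsg.quadFormPlus d F v = 1} ≃
          (a : Fin d → F) × {c : Fin d → F // ∑ i, a i * c i = 1} :=
        ((Equiv.sumArrowEquivProdArrow (Fin d) (Fin d) F).subtypeEquiv (q := fun P => ∑ i, P.1 i * P.2 i = 1)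
          (fun v => Iff.rfl)).trans (Equiv.subtypeProdEquivSigmaSubtype fun (a c : Fin d → F) => ∑ i, a i * c i = 1)
      rw [Nat.card_congr hpair, Nat.card_sigma]
      have hfib : ∀ a : Fin d → F, Nat.card {c : Fin d → F // ∑ i, a i * c i = 1} =
          if a = 0 then 0 else q' ^ (d - 1) := by
        intro a
        split_ifs with ha
        · subst ha
          rw [Nat.card_eq_zero]
          exact Or.inl ⟨fun c => by simpa using c.2⟩
        · obtain ⟨i0, hi0⟩ : ∃ i, a i ≠ 0 := Function.ne_iff.1 ha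
          let φ : (Fin d → F) →ₗ[F] F := ∑ i, a i • LinearMap.proj i
          have hφ : ∀ c, φ c = ∑ i, a i * c i := fun c => by simp [φ, LinearMap.sum_apply]
          set c0 : Fin d → F := Pi.single i0 (a i0)⁻¹ with hc0
          have hc0' : φ c0 = 1 := by
            rw [hφ, Finset.sum_eq_single i0]
            · simp [hc0, hi0]
            · intro i _ hi; simp [hc0, hi]
            · simp
          have hequiv : {c : Fin d → F // ∑ i, a i * c i = 1} ≃ LinearMap.ker φ :=
            { toFun := fun c => ⟨c.1 - c0, by rw [LinearMap.mem_ker, map_sub, hc0', hφ, c.2, sub_self]⟩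
              invFun := fun c => ⟨c.1 + c0, by rw [← hφ, map_add, LinearMap.mem_ker.1 c.2, hc0', zero_add]⟩
              left_inv := fun c => Subtype.ext (sub_add_cancel _ _)
              right_inv := fun c => Subtype.ext (add_sub_cancel_right _ _) }
          have hrk := φ.finrank_range_add_finrank_ker
          have hsurj : LinearMap.range φ = ⊤ := LinearMap.range_eq_top.2 fun y => ⟨y • c0, by rw [map_smul, hc0', smul_eq_mul, mul_one]⟩
          rw [hsurj, finrank_top, Module.finrank_self, Module.finrank_fintype_fun_eq_card, Fintype.card_fin] at hrk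
          rw [Nat.card_congr hequiv, Nat.card_eq_fintype_card, Module.card_eq_pow_finrank (K := F)]
          congr 1
          omega
      simp only [hfib]
      rw [Finset.sum_ite, Finset.sum_const_zero, zero_add, Finset.sum_const, smul_eq_mul, Finset.filter_not,
        Finset.filter_eq', if_pos (Finset.mem_univ _), Finset.card_sdiff_of_subset (Finset.subset_univ _),
        Finset.card_singleton, Finset.card_univ, Fintype.card_fun, Fintype.card_fin]
    rw [hcount] at hrΩ
    have hr' : r ∣ q' ^ d - 1 := by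
      rcases (Nat.Prime.dvd_mul Fact.out).1 hrΩ with h | h
      · exact h
      · exfalso
        rw [hq', hn] at h
        exact hr ((Nat.prime_dvd_prime_iff_eq Fact.out Nat.prime_two).1
          ((Fact.out : r.Prime).dvd_of_dvd_pow ((Fact.out : r.Prime).dvd_of_dvd_pow h)))
    haveI : NeZero d := ⟨by omega⟩
    let K := FiniteField.Extension F 2 d
    have hKd : Module.finrank F K = d := FiniteField.finrank_extension F 2 d
    haveI : Finite K := Module.finite_of_finite F
    haveI : Algebra.IsSeparable F K := inferInstance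
    letI : Fintype K := Fintype.ofFinite K
    obtain ⟨η, hη⟩ := exists_prime_orderOf_dvd_card' (G := Kˣ) r (by
      rw [Nat.card_units, Nat.card_eq_fintype_card, Module.card_eq_pow_finrank (K := F) (V := K), hKd]
      exact hr')
    let b := (Module.finBasis F K).reindex (finCongr hKd)
    let b' := LinearMap.BilinForm.dualBasis (Algebra.traceForm F K) (traceForm_nondegenerate F K) b
    let E : (Fin d ⊕ Fin d → F) ≃ₗ[F] K × K :=
      (LinearEquiv.sumArrowLequivProdArrow (Fin d) (Fin d) F F).trans (b.equivFun.symm.prodCongr b'.equivFun.symm)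
    have hEQ : ∀ v, Cfsg.quadFormPlus d F v = Algebra.traceForm F K (E v).2 (E v).1 := by
      intro v
      simp only [E, LinearEquiv.trans_apply, LinearEquiv.prodCongr_apply, Module.Basis.equivFun_symm_apply,
        map_sum, map_smul, LinearMap.sum_apply, LinearMap.smul_apply, smul_eq_mul, b',
        LinearMap.BilinForm.apply_dualBasis_left, mul_ite, mul_one, mul_zero, Finset.sum_ite_eq, Finset.mem_univ, if_true]
      simp [Cfsg.quadFormPlus, LinearEquiv.sumArrowLequivProdArrow, Equiv.sumArrowEquivProdArrow, mul_comm]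
    let G : ((K × K) ≃ₗ[F] (K × K)) → GL (Fin d ⊕ Fin d) F := fun T =>
      ⟨LinearMap.toMatrix' ((E.trans T).trans E.symm).toLinearMap,
        LinearMap.toMatrix' ((E.trans T.symm).trans E.symm).toLinearMap,
        by rw [← LinearMap.toMatrix'_comp, ← LinearMap.toMatrix'_id]; congr 1; ext; simp,
        by rw [← LinearMap.toMatrix'_comp, ← LinearMap.toMatrix'_id]; congr 1; ext; simp⟩
    have hG : ∀ T v, (G T : Matrix (Fin d ⊕ Fin d) (Fin d ⊕ Fin d) F) *ᵥ v = E.symm (T (E v)) := fun T v => by
      rw [← Matrix.toLin'_apply, Matrix.toLin'_toMatrix']; rfl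
    have hGi : ∀ T v, (((G T)⁻¹ : GL (Fin d ⊕ Fin d) F) : Matrix (Fin d ⊕ Fin d) (Fin d ⊕ Fin d) F) *ᵥ v =
        E.symm (T.symm (E v)) := fun T v => by
      show (LinearMap.toMatrix' ((E.trans T.symm).trans E.symm).toLinearMap) *ᵥ v = _
      rw [← Matrix.toLin'_apply, Matrix.toLin'_toMatrix']; rfl
    have hGiso : ∀ T : (K × K) ≃ₗ[F] (K × K), (∀ P, (T P).2 * (T P).1 = P.2 * P.1) →
        G T ∈ Cfsg.isometryGroup F (Cfsg.quadFormPlus d F) := by
      intro T hT
      refine mem_iso fun v => ?_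
      rw [hG, hEQ, hEQ, LinearEquiv.apply_symm_apply, Algebra.traceForm_apply, Algebra.traceForm_apply, hT]
    let m : (K × K) ≃ₗ[F] (K × K) :=
      { toFun := fun P => ((η : K) * P.1, ((η⁻¹ : Kˣ) : K) * P.2)
        invFun := fun P => (((η⁻¹ : Kˣ) : K) * P.1, (η : K) * P.2)
        left_inv := fun P => by simp [← mul_assoc]
        right_inv := fun P => by simp [← mul_assoc]
        map_add' := fun P P' => by simp [mul_add]
        map_smul' := fun c P => by simp }
    let s : (K × K) ≃ₗ[F] (K × K) := LinearEquiv.prodComm F K K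
    have hm := hGiso m (fun P => by
      show ((η⁻¹ : Kˣ) : K) * P.2 * ((η : K) * P.1) = _
      rw [mul_mul_mul_comm, Units.inv_mul, one_mul])
    have hs := hGiso s (fun P => mul_comm _ _)
    set x := G s * G m * (G s)⁻¹ * (G m)⁻¹ with hx
    set ζ : Kˣ := η⁻¹ * η⁻¹ with hζ
    have hxv : ∀ v, (x : Matrix (Fin d ⊕ Fin d) (Fin d ⊕ Fin d) F) *ᵥ v =
        E.symm ((ζ : K) * (E v).1, ((ζ⁻¹ : Kˣ) : K) * (E v).2) := by
      intro v
      rw [hx, Units.val_mul, Units.val_mul, Units.val_mul, ← Matrix.mulVec_mulVec, ← Matrix.mulVec_mulVec,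
        ← Matrix.mulVec_mulVec, hGi, hGi, hG, hG]
      simp only [LinearEquiv.apply_symm_apply]
      congr 1
      simp [s, m, hζ, mul_assoc]
    have hζr : orderOf ζ = r := by
      have h1 : ζ = (η⁻¹) ^ 2 := (pow_two _).symm
      rw [h1, orderOf_pow, orderOf_inv, hη,
        (Nat.coprime_primes Fact.out Nat.prime_two).2 hr |>.gcd_eq_one, Nat.div_one]
    have hxk : ∀ (k : ℕ) v, ((x ^ k : GL (Fin d ⊕ Fin d) F) : Matrix (Fin d ⊕ Fin d) (Fin d ⊕ Fin d) F) *ᵥ v =
        E.symm (((ζ ^ k : Kˣ) : K) * (E v).1, (((ζ ^ k)⁻¹ : Kˣ) : K) * (E v).2) := by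
      intro k
      induction k with
      | zero => intro v; simp
      | succ k ih =>
        intro v
        rw [pow_succ', Units.val_mul, ← Matrix.mulVec_mulVec, ih, hxv, LinearEquiv.apply_symm_apply]
        congr 1
        simp [pow_succ', mul_assoc]
        ring
    have hζ1 : (ζ : K) ≠ 1 := by
      intro h
      rw [Units.val_eq_one] at h
      rw [h, orderOf_one] at hζr
      exact (Fact.out : r.Prime).one_lt.ne hζr
    have hxΩ : x ∈ Cfsg.Geo.omegaGL (Cfsg.quadFormPlus d F) := by
      set gs : Cfsg.isometryGroup F (Cfsg.quadFormPlus d F) := ⟨G s, hs⟩ with hgs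
      set gm : Cfsg.isometryGroup F (Cfsg.quadFormPlus d F) := ⟨G m, hm⟩ with hgm
      have hmem : gs * gm * gs⁻¹ * gm⁻¹ ∈ Cfsg.Omega F (Cfsg.quadFormPlus d F) := by
        rw [← commutatorElement_def]
        exact Subgroup.commutator_mem_commutator (Subgroup.mem_top gs) (Subgroup.mem_top gm)
      have e : (gs * gm * gs⁻¹ * gm⁻¹ : Cfsg.isometryGroup F (Cfsg.quadFormPlus d F)).1 = x := by
        rw [hx, Subgroup.coe_mul, Subgroup.coe_mul, Subgroup.coe_mul, Subgroup.coe_inv, Subgroup.coe_inv]
      rw [← e]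
      exact Subgroup.mem_map_of_mem (Cfsg.isometryGroup F (Cfsg.quadFormPlus d F)).subtype hmem
    refine ⟨x, hxΩ, ?_, ?_, ?_⟩
    · refine Units.ext (Matrix.ext_of_mulVec_single fun i => ?_)
      rw [hxk, ← hζr, pow_orderOf_eq_one, inv_one, Units.val_one, one_mul, one_mul, Prod.mk.eta,
        LinearEquiv.symm_apply_apply, Units.val_one, Matrix.one_mulVec]
    · refine ⟨E.symm (1, 0), fun h => hζ1 ?_⟩
      rw [hxv, LinearEquiv.apply_symm_apply] at h
      simpa using congrArg Prod.fst (E.symm.injective h)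
    · intro v hv
      rw [hxv] at hv
      have h := congrArg E hv
      rw [LinearEquiv.apply_symm_apply] at h
      have h1 : ((ζ : K) - 1) * (E v).1 = 0 := by rw [sub_mul, one_mul, sub_eq_zero]; exact congrArg Prod.fst h
      rw [hEQ, (mul_eq_zero.1 h1).resolve_left (sub_ne_zero.2 hζ1), map_zero]

end Cfsg.Agent.S5985
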