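import Cfsg.Statements.S5986
import Mathlib
import Cfsg.Agent.Lib.MaxSub.MinusModel
import Cfsg.Agent.Lib.QuadFin.WittIndex
import Cfsg.Agent.Lib.Geometry.OrthNegOne

set_option autoImplicit false
set_option maxHeartbeats 1000000
open scoped MatrixGroups
open Cfsg
open Matrix

namespace Cfsg.Agent.S5986

/-- Elements of prime order of Ω⁻_n(q), q even, with no fixed nonsingular 1-space. Here `T = PΩ⁻_n(F)`, `n = 2d ≥ 8`, realised through `Ω⁻_n(q)`, the commutator subgroup of the isometry group of `Q = Σ_{i<d−1} xᵢyᵢ + z₁² + a z₁z₂ + b z₂²` with `z₁² + a z₁z₂ + b z₂²` anisotropic, over the field `F` with `q` elements; an element of `T` of prime order `r` is an element `x` of `Ω⁻_n(q)` with `x^r` scalar and `x` not scalar; `q` is even (so the centre is trivial). Let Ω be the set of 1-dimensional subspaces spanned by a vector `v` with `Q(v) ≠ 0`, and let `r` be a prime dividing their number. Then every element of `T` of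 order `r` fixes some nonsingular 1-space if and only if `r = 2`. -/
theorem result {F : Type*} [Field F] [Fintype F] {p : ℕ} [Fact p.Prime] [CharP F p] {q : ℕ} (hq : Fintype.card F = q)
    (hp : p = 2) (d : ℕ) (hd : 4 ≤ d) (a b : F) (hab : ∀ x y : F, x ^ 2 + a * x * y + b * y ^ 2 = 0 → x = 0 ∧ y = 0) (r : ℕ) [Fact r.Prime]
    (hrΩ : r ∣ Nat.card {W : Submodule F ((Fin (d - 1) ⊕ Fin (d - 1)) ⊕ Fin 2 → F) // Module.finrank F ↥W = 1 ∧ ∃ v ∈ W, Cfsg.quadFormMinus (d - 1) F a b v ≠ 0}) :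
    (∀ x : GL ((Fin (d - 1) ⊕ Fin (d - 1)) ⊕ Fin 2) F, x ∈ Cfsg.Geo.omegaGL (Cfsg.quadFormMinus (d - 1) F a b) →
      (∃ z : F, ((x ^ r : GL ((Fin (d - 1) ⊕ Fin (d - 1)) ⊕ Fin 2) F) : Matrix ((Fin (d - 1) ⊕ Fin (d - 1)) ⊕ Fin 2) ((Fin (d - 1) ⊕ Fin (d - 1)) ⊕ Fin 2) F) = z • (1 : Matrix ((Fin (d - 1) ⊕ Fin (d - 1)) ⊕ Fin 2) ((Fin (d - 1) ⊕ Fin (d - 1)) ⊕ Fin 2) F)) →
      (∀ z : F, (x : Matrix ((Fin (d - 1) ⊕ Fin (d - 1)) ⊕ Fin 2) ((Fin (d - 1) ⊕ Fin (d - 1)) ⊕ Fin 2) F) ≠ z • (1 : Matrix ((Fin (d - 1) ⊕ Fin (d - 1)) ⊕ Fin 2) ((Fin (d - 1) ⊕ Fin (d - 1)) ⊕ Fin 2) F)) →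
      ∃ W : Submodule F ((Fin (d - 1) ⊕ Fin (d - 1)) ⊕ Fin 2 → F), (Module.finrank F ↥W = 1 ∧ ∃ v ∈ W, Cfsg.quadFormMinus (d - 1) F a b v ≠ 0) ∧ W.map (Matrix.toLin' (x : Matrix ((Fin (d - 1) ⊕ Fin (d - 1)) ⊕ Fin 2) ((Fin (d - 1) ⊕ Fin (d - 1)) ⊕ Fin 2) F)) ≤ W) ↔ r = 2 := by
  classical
  subst hp
  set q' := Fintype.card F with hq'
  let QM : QuadraticForm F ((Fin (d - 1) ⊕ Fin (d - 1)) ⊕ Fin 2 → F) :=
    Cfsg.Agent.Lib.Geometry.matQuad (Cfsg.Agent.Lib.Geometry.minusMatrix (d - 1) a b)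
  have hQM : ∀ v, QM v = Cfsg.quadFormMinus (d - 1) F a b v := fun v => by
    rw [congrFun (Cfsg.Agent.Lib.Geometry.quadFormMinus_eq (d - 1) a b) v]
  have hsm : ∀ (c : F) v, Cfsg.quadFormMinus (d - 1) F a b (c • v) = c * c * Cfsg.quadFormMinus (d - 1) F a b v := by
    intro c v
    rw [← hQM, QuadraticMap.map_smul, hQM, smul_eq_mul]
  have h0 : Cfsg.quadFormMinus (d - 1) F a b 0 = 0 := by rw [← hQM, QuadraticMap.map_zero]
  have hiso : ∀ (x : GL ((Fin (d - 1) ⊕ Fin (d - 1)) ⊕ Fin 2) F), x ∈ Cfsg.Geo.omegaGL (Cfsg.quadFormMinus (d - 1) F a b) →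
      ∀ v, Cfsg.quadFormMinus (d - 1) F a b
        ((x : Matrix ((Fin (d - 1) ⊕ Fin (d - 1)) ⊕ Fin 2) ((Fin (d - 1) ⊕ Fin (d - 1)) ⊕ Fin 2) F) *ᵥ v) =
        Cfsg.quadFormMinus (d - 1) F a b v := by
    rintro x ⟨g, -, rfl⟩ v
    exact g.2 v v
  have hsq : ∀ c : F, c * c = 1 → c = 1 := fun c h => by
    rcases mul_self_eq_one_iff.1 h with h' | h'
    · exact h'
    · rw [h', CharTwo.neg_eq]
  set v₀ : (Fin (d - 1) ⊕ Fin (d - 1)) ⊕ Fin 2 → F := Pi.single (.inr 0) 1 with hv₀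
  have hQv₀ : Cfsg.quadFormMinus (d - 1) F a b v₀ = 1 := by simp [hv₀, Cfsg.quadFormMinus]
  have hscal : ∀ (x : GL ((Fin (d - 1) ⊕ Fin (d - 1)) ⊕ Fin 2) F), x ∈ Cfsg.Geo.omegaGL (Cfsg.quadFormMinus (d - 1) F a b) →
      ∀ z : F, (x : Matrix ((Fin (d - 1) ⊕ Fin (d - 1)) ⊕ Fin 2) ((Fin (d - 1) ⊕ Fin (d - 1)) ⊕ Fin 2) F) = z • 1 → z = 1 := by
    intro x hx z hz
    have h := hiso x hx v₀
    rw [hz, Matrix.smul_mulVec, Matrix.one_mulVec, hsm, hQv₀, mul_one] at h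
    exact hsq z h
  constructor
  · intro hall
    by_contra hr
    have hrodd : Odd r := (Fact.out : r.Prime).odd_of_ne_two hr
    obtain ⟨n, hn0, hn⟩ := FiniteField.card F 2
    have hcount : Nat.card {W : Submodule F ((Fin (d - 1) ⊕ Fin (d - 1)) ⊕ Fin 2 → F) // Module.finrank F ↥W = 1 ∧
        ∃ v ∈ W, Cfsg.quadFormMinus (d - 1) F a b v ≠ 0} = q' ^ (d - 1) * (q' ^ d + 1) := by
      rw [← Cfsg.Agent.Lib.MaxSub.MinusModel.card_value_one (d := d) (by omega) a b hab]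
      refine (Nat.card_congr (Equiv.ofBijective (fun v => ⟨F ∙ v.1, finrank_span_singleton (fun h => by
          have := v.2; rw [h, h0] at this; exact zero_ne_one this), v.1, Submodule.mem_span_singleton_self _,
            by rw [v.2]; exact one_ne_zero⟩) ⟨?_, ?_⟩)).symm
      · intro v w hvw
        have h : F ∙ v.1 = F ∙ w.1 := congrArg Subtype.val hvw
        have hm : w.1 ∈ F ∙ v.1 := h ▸ Submodule.mem_span_singleton_self _
        obtain ⟨c, hc⟩ := Submodule.mem_span_singleton.1 hm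
        have h2 := w.2
        rw [← hc, hsm, v.2, mul_one] at h2
        exact Subtype.ext (by rw [← hc, hsq c h2, one_smul])
      · rintro ⟨W, hW, v, hv, hQ⟩
        obtain ⟨s, hs⟩ := FiniteField.isSquare_of_char_two (ringChar.eq F 2) (Cfsg.quadFormMinus (d - 1) F a b v)
        have hs0 : s ≠ 0 := by rintro rfl; exact hQ (by rw [hs, mul_zero])
        have hv0 : v ≠ 0 := by rintro rfl; exact hQ h0
        refine ⟨⟨s⁻¹ • v, by rw [hsm, hs]; field_simp⟩, Subtype.ext ?_⟩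
        show F ∙ (s⁻¹ • v) = W
        rw [Submodule.span_singleton_smul_eq (inv_ne_zero hs0).isUnit]
        exact Submodule.eq_of_le_of_finrank_le (by rwa [Submodule.span_singleton_le_iff_mem])
          (by rw [hW, finrank_span_singleton hv0])
    rw [hcount] at hrΩ
    have hr' : r ∣ q' ^ d + 1 := by
      rcases (Nat.Prime.dvd_mul Fact.out).1 hrΩ with h | h
      · exfalso
        rw [hq', hn] at h
        exact hr ((Nat.prime_dvd_prime_iff_eq Fact.out Nat.prime_two).1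
          ((Fact.out : r.Prime).dvd_of_dvd_pow ((Fact.out : r.Prime).dvd_of_dvd_pow h)))
      · exact h
    obtain ⟨x, hxΩ, hxr, hfix⟩ := Cfsg.Agent.Lib.MaxSub.MinusModel.exists_fpf (d := d) (by omega) a b hab hr hr'
    have hne : v₀ ≠ 0 := fun h => by rw [h, h0] at hQv₀; exact zero_ne_one hQv₀
    obtain ⟨W, ⟨hW, v, hv, hQ⟩, hinv⟩ := hall x hxΩ ⟨1, by rw [hxr, Units.val_one, one_smul]⟩ (fun z hz => by
      refine hne (hfix v₀ ?_)
      rw [hz, hscal x hxΩ z hz, one_smul, Matrix.one_mulVec])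
    have hv0 : v ≠ 0 := by rintro rfl; exact hQ h0
    have hWv : W = F ∙ v := (Submodule.eq_of_le_of_finrank_le (by rwa [Submodule.span_singleton_le_iff_mem])
      (by rw [hW, finrank_span_singleton hv0])).symm
    have h1 := hinv (Submodule.mem_map_of_mem hv)
    rw [hWv, Submodule.mem_span_singleton] at h1
    obtain ⟨c, hc⟩ := h1
    rw [Matrix.toLin'_apply] at hc
    have h2 := hiso x hxΩ v
    rw [← hc, hsm] at h2
    have hc1 : c = 1 := hsq c (mul_right_cancel₀ hQ (h2.trans (one_mul _).symm))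
    exact hv0 (hfix v (by rw [← hc, hc1, one_smul]))
  · rintro rfl x hx ⟨z, hz⟩ -
    set L := Matrix.toLin' (x : Matrix ((Fin (d - 1) ⊕ Fin (d - 1)) ⊕ Fin 2) ((Fin (d - 1) ⊕ Fin (d - 1)) ⊕ Fin 2) F) with hL
    have hz1 : z = 1 := hscal (x ^ 2) (pow_mem hx 2) z hz
    have hLL : ∀ v, L (L v) = v := fun v => by
      rw [hL, Matrix.toLin'_apply, Matrix.toLin'_apply, Matrix.mulVec_mulVec, ← Units.val_mul, ← pow_two, hz, hz1,
        one_smul, Matrix.one_mulVec]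
    have vv : ∀ w : (Fin (d - 1) ⊕ Fin (d - 1)) ⊕ Fin 2 → F, w + w = 0 := fun w => funext fun i => CharTwo.add_self_eq_zero _
    set W := LinearMap.ker (L - 1) with hWdef
    have hWfix : ∀ w ∈ W, L w = w := fun w hw => by
      rwa [hWdef, LinearMap.mem_ker, LinearMap.sub_apply, Module.End.one_apply, sub_eq_zero] at hw
    by_cases hns : ∃ v ∈ W, Cfsg.quadFormMinus (d - 1) F a b v ≠ 0
    · obtain ⟨v, hv, hQv⟩ := hns
      have hv0 : v ≠ 0 := by rintro rfl; exact hQv h0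
      refine ⟨F ∙ v, ⟨finrank_span_singleton hv0, v, Submodule.mem_span_singleton_self v, hQv⟩, ?_⟩
      rw [Submodule.map_span, Set.image_singleton, hWfix v hv]
    push Not at hns
    exfalso
    have hrange : ∀ v, L v - v ∈ W := fun v => by
      rw [hWdef, LinearMap.mem_ker, LinearMap.sub_apply, Module.End.one_apply, map_sub, hLL,
        show v - L v - (L v - v) = (v + v) - (L v + L v) by abel, vv, vv, sub_zero]
    have hWle := Cfsg.Agent.Lib.QuadFin.finrank_singular_minus_le a b hab W hns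
    have h1 := (L - 1).finrank_range_add_finrank_ker
    have h2 : Module.finrank F (LinearMap.range (L - 1)) ≤ Module.finrank F W :=
      Submodule.finrank_mono (by rintro _ ⟨v, rfl⟩; exact hrange v)
    rw [Module.finrank_fintype_fun_eq_card, Fintype.card_sum, Fintype.card_sum, Fintype.card_fin, Fintype.card_fin, ← hWdef] at h1
    omega

end Cfsg.Agent.S5986
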