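import Cfsg.Statements.S5987
import Cfsg.Agent.Lib.MaxSub.OrthTSAnyMain
import Cfsg.Agent.Lib.QuadFin.WittIndex
import Mathlib

set_option maxHeartbeats 1000000
set_option linter.unusedSectionVars false
-- import your own Cfsg.Agent.* helpers here

set_option autoImplicit false
open scoped MatrixGroups
open Cfsg

namespace Cfsg.Agent.S5987

open Module Cfsg.Agent.Lib.MaxSub Cfsg.Agent.Lib.Geometry
open Cfsg.Agent.Lib.MaxSub.QuadType (TS Plus)
open QuadraticMap (polarBilin)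
open scoped _root_.Classical

theorem not_plus_top {F : Type*} [Field F] {d : ℕ} (hd : 1 ≤ d) {a b : F}
    (hab : ∀ x y : F, x ^ 2 + a * x * y + b * y ^ 2 = 0 → x = 0 ∧ y = 0) :
    ¬ Plus (matQuad (minusMatrix (d - 1) a b)) ⊤ := by
  rintro ⟨U, -, hU, hUd⟩
  have h := Cfsg.Agent.Lib.QuadFin.finrank_singular_minus_le a b hab U fun u hu => by
    rw [congrFun (quadFormMinus_eq (d - 1) a b) u]; exact hU u hu
  rw [finrank_top, Module.finrank_fintype_fun_eq_card] at hUd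
  simp only [Fintype.card_sum, Fintype.card_fin] at hUd
  omega

/-- Elements of prime order of PΩ⁻_n(q) with no fixed totally singular `m`-space. Here `T = PΩ⁻_n(F)`, `n = 2d ≥ 8`, realised through `Ω⁻_n(q)`, the commutator subgroup of the isometry group of `Q = Σ_{i<d−1} xᵢyᵢ + z₁² + a z₁z₂ + b z₂²` with `z₁² + a z₁z₂ + b z₂²` anisotropic, over the field `F` with `q` elements; an element of `T` of prime order `r` is an element `x` of `Ω⁻_n(q)` with `x^r` scalar and `x` not scalar. Let `1 ≤ m ≤ d − 1` and let `r` be a prime dividing the number of totally singular `m`-spaces (subspaces of dimension `m` on which `Q` vanishes); for `r ≠ p` let `i` be the multiplicative order of `q` modulo `r`, `c = i` for `i` even and `c = 2i` for `i` odd, and write `k = n mod c`, `ℓ = m mod i`, `n' = ⌊n/i⌋`, `m' = ⌊m/i⌋`, `t = (r−1)/i`. Then every element of `T` of order `r` fixes some totally singular `m`-space if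 and only if one of: (i) `r = 2 ≠ p` and (`n ≡ 0 (mod 4)`, or `m` is even, or `q ≢ 7 (mod 8)`); (ii) `r ≠ p` odd, `i` odd, `i ≤ m` and (`k = 0` or `k > 2ℓ`); (iii) `r ≠ p` odd, `i` even, `i ≤ m`, `n' − 2m' ≥ t`, and one of: (a) `i ≥ 2ℓ`, `k = 0`, `n/i` even and `n' − 2m' > t` (all four); (b) `k ≥ 2ℓ` and `n'` odd; (c) `k > 2ℓ` and `n'` even. -/
theorem result {F : Type*} [Field F] [Fintype F] {p : ℕ} [Fact p.Prime] [CharP F p] {q : ℕ} (hq : Fintype.card F = q)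
    (d m : ℕ) (hd : 4 ≤ d) (hm : 1 ≤ m) (hmd : m + 1 ≤ d) (a b : F) (hab : ∀ x y : F, x ^ 2 + a * x * y + b * y ^ 2 = 0 → x = 0 ∧ y = 0)
    (r : ℕ) [Fact r.Prime]
    (hrΩ : r ∣ Nat.card {W : Submodule F ((Fin (d - 1) ⊕ Fin (d - 1)) ⊕ Fin 2 → F) // Module.finrank F ↥W = m ∧ Cfsg.Geo.IsTotallySingularQuad (Cfsg.quadFormMinus (d - 1) F a b) W})
    (i c : ℕ) (hi : i = orderOf (q : ZMod r)) (hc : c = if Even i then i else 2 * i) :
    (∀ x : GL ((Fin (d - 1) ⊕ Fin (d - 1)) ⊕ Fin 2) F, x ∈ Cfsg.Geo.omegaGL (Cfsg.quadFormMinus (d - 1) F a b) →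
      (∃ z : F, ((x ^ r : GL ((Fin (d - 1) ⊕ Fin (d - 1)) ⊕ Fin 2) F) : Matrix ((Fin (d - 1) ⊕ Fin (d - 1)) ⊕ Fin 2) ((Fin (d - 1) ⊕ Fin (d - 1)) ⊕ Fin 2) F) = z • (1 : Matrix ((Fin (d - 1) ⊕ Fin (d - 1)) ⊕ Fin 2) ((Fin (d - 1) ⊕ Fin (d - 1)) ⊕ Fin 2) F)) →
      (∀ z : F, (x : Matrix ((Fin (d - 1) ⊕ Fin (d - 1)) ⊕ Fin 2) ((Fin (d - 1) ⊕ Fin (d - 1)) ⊕ Fin 2) F) ≠ z • (1 : Matrix ((Fin (d - 1) ⊕ Fin (d - 1)) ⊕ Fin 2) ((Fin (d - 1) ⊕ Fin (d - 1)) ⊕ Fin 2) F)) →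
      ∃ W : Submodule F ((Fin (d - 1) ⊕ Fin (d - 1)) ⊕ Fin 2 → F), (Module.finrank F ↥W = m ∧ Cfsg.Geo.IsTotallySingularQuad (Cfsg.quadFormMinus (d - 1) F a b) W) ∧ W.map (Matrix.toLin' (x : Matrix ((Fin (d - 1) ⊕ Fin (d - 1)) ⊕ Fin 2) ((Fin (d - 1) ⊕ Fin (d - 1)) ⊕ Fin 2) F)) ≤ W) ↔
    ((r = 2 ∧ p ≠ 2 ∧ (Even d ∨ Even m ∨ q % 8 ≠ 7)) ∨
     (r ≠ p ∧ 2 < r ∧ Odd i ∧ i ≤ m ∧ ((2 * d) % c = 0 ∨ 2 * (m % i) < (2 * d) % c)) ∨
     (r ≠ p ∧ 2 < r ∧ Even i ∧ i ≤ m ∧ (r - 1) / i + 2 * (m / i) ≤ (2 * d) / i ∧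
       ((2 * (m % i) ≤ i ∧ (2 * d) % c = 0 ∧ Even ((2 * d) / i) ∧ (r - 1) / i + 2 * (m / i) < (2 * d) / i) ∨
        (2 * (m % i) ≤ (2 * d) % c ∧ Odd ((2 * d) / i)) ∨
        (2 * (m % i) < (2 * d) % c ∧ Even ((2 * d) / i))))) := by
  obtain rfl := hq
  have hdet : ((minusMatrix (d - 1) a b) + Matrix.transpose (minusMatrix (d - 1) a b)).det ≠ 0 := by
    rw [det_minusGram]
    refine mul_ne_zero (pow_ne_zero _ (neg_ne_zero.2 one_ne_zero)) fun h => ?_
    by_cases h2 : (2 : F) = 0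
    · haveI : CharP F 2 := CharTwo.of_one_ne_zero_of_two_eq_zero one_ne_zero h2
      have ha : a = 0 := pow_eq_zero_iff two_ne_zero |>.1 (by linear_combination -h + 2 * b * h2)
      obtain ⟨t, ht⟩ := isSquare_of_charTwo' b
      exact one_ne_zero (hab t 1 (by rw [ha, ht]; linear_combination (t * t) * h2)).2
    · exact discr_not_isSquare h2 hab ⟨0, by linear_combination -h⟩
  have hQ := polarBilin_matQuad_nondegenerate hdet
  have hn : Fintype.card ((Fin (d - 1) ⊕ Fin (d - 1)) ⊕ Fin 2) = 2 * d := by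
    simp only [Fintype.card_sum, Fintype.card_fin]; omega
  rw [quadFormMinus_eq (d - 1) a b] at hrΩ ⊢
  have hnp := not_plus_top (by omega : 1 ≤ d) hab
  have h := OrthTSAnyMain.main (p := p) (matQuad (minusMatrix (d - 1) a b)) hQ hn hd hm (by omega) hi.symm hrΩ
  refine Iff.trans ?_ (h.trans ?_)
  · exact forall₄_congr fun x _ _ _ => exists_congr fun W => and_assoc
  simp only [Cfsg.Agent.Lib.MaxSub.OrthTSTwo.CondTwo, Cfsg.Agent.Lib.MaxSub.OrthTSAny.Cond, hnp, IsEmpty.forall_iff,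
    not_false_eq_true, forall_const, true_and, iff_false, not_not]
  subst hc
  rcases Nat.even_or_odd i with hev | hodd
  · simp only [hev, Nat.not_odd_iff_even.2 hev, IsoDecomp.step, if_pos, IsEmpty.forall_iff, forall_const, false_and,
      and_false, false_or, or_false, true_and, Nat.not_even_iff_odd]
  · simp only [hodd, Nat.not_even_iff_odd.2 hodd, IsoDecomp.step, if_false, IsEmpty.forall_iff, forall_const, false_and,
      and_false, false_or, or_false, true_and, and_true, Nat.not_even_iff_odd]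

end Cfsg.Agent.S5987
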