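import Cfsg.Statements.S5988
import Cfsg.Agent.Lib.MaxSub.OrthNdAnyMain
import Cfsg.Agent.Lib.MaxSub.OrthNdUnip
import Cfsg.Agent.S5973
import Mathlib

set_option maxHeartbeats 1000000
set_option linter.unusedSectionVars false

set_option autoImplicit false
open scoped MatrixGroups
open Cfsg

namespace Cfsg.Agent.S5988

open Module Cfsg.Agent.Lib.MaxSub Cfsg.Agent.Lib.Geometry
open Cfsg.Agent.Lib.MaxSub.QuadType (Plus)
open QuadraticMap (polarBilin)
open scoped _root_.Classical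

/-- Elements of prime order of PΩ⁺_n(q) with no fixed elliptic `m`-space. Here `T = PΩ⁺_n(F)`, `n = 2d ≥ 8`, realised through `Ω⁺_n(q)`, the commutator subgroup of the isometry group of `Q = Σ xᵢyᵢ` over the field `F` with `q` elements; an element of `T` of prime order `r` is an element `x` of `Ω⁺_n(q)` with `x^r` scalar and `x` not scalar; a nondegenerate `m`-space (even `m`) is a subspace on which the polar form of `Q` is nondegenerate; it is hyperbolic if it contains an `m/2`-dimensional subspace on which `Q` vanishes, elliptic otherwise. Let `m` be even with `2 ≤ m < n/2` and let `r` be a prime dividing the number of elliptic `m`-spaces; for `r ≠ p` let `i` be the multiplicative order of `q` modulo `r`, `c = i` for `i` even and `c = 2i` for `i` odd, and write `k = n mod c`, `ℓ = m mod i`, `ℓ' = m mod c`, `n' = ⌊n/i⌋`, `m' = ⌊m/i⌋`, `t = (r−1)/i`. Then every element of `T` of order `r` fixes some elliptic `m`-space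 if and only if one of: (i) `r = 2 ≠ p` and either `n ≡ 0 (mod 4)`, `q ≡ 3 (mod 4)` and `m ≡ 2 (mod 4)`, or `n ≡ 2 (mod 4)` and `q ≢ 1 (mod 8)`; (ii) `r ≠ p` odd, `i` odd, `c ≤ m` and `k > ℓ' > 0`; (iii) `r ≠ p` odd, `i` even, and either `k = 0` and (`n/i` odd, or `ℓ' = 0` and `m/i` odd), or `i ≤ m` and (`k > ℓ' > 0`, or `k = ℓ' > 0` and `(n + m − 2k)/i` odd, or `k > ℓ' = 0` and `m/i` odd). (For `r = p` there is always an element of order `p` fixing no elliptic `m`-space.) -/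
theorem result {F : Type*} [Field F] [Fintype F] {p : ℕ} [Fact p.Prime] [CharP F p] {q : ℕ} (hq : Fintype.card F = q)
    (d m : ℕ) (hd : 4 ≤ d) (hm : 2 ≤ m) (hme : Even m) (hmd : m < d)
    (r : ℕ) [Fact r.Prime]
    (hrΩ : r ∣ Nat.card {W : Submodule F (Fin d ⊕ Fin d → F) // Module.finrank F ↥W = m ∧ Cfsg.Geo.IsNondegenerateOn (QuadraticMap.polar (Cfsg.quadFormPlus d F)) W ∧ ¬ Cfsg.Geo.IsPlusTypeOn (Cfsg.quadFormPlus d F) W})
    (i c : ℕ) (hi : i = orderOf (q : ZMod r)) (hc : c = if Even i then i else 2 * i) :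
    (∀ x : GL (Fin d ⊕ Fin d) F, x ∈ Cfsg.Geo.omegaGL (Cfsg.quadFormPlus d F) →
      (∃ z : F, ((x ^ r : GL (Fin d ⊕ Fin d) F) : Matrix (Fin d ⊕ Fin d) (Fin d ⊕ Fin d) F) = z • (1 : Matrix (Fin d ⊕ Fin d) (Fin d ⊕ Fin d) F)) →
      (∀ z : F, (x : Matrix (Fin d ⊕ Fin d) (Fin d ⊕ Fin d) F) ≠ z • (1 : Matrix (Fin d ⊕ Fin d) (Fin d ⊕ Fin d) F)) →
      ∃ W : Submodule F (Fin d ⊕ Fin d → F), (Module.finrank F ↥W = m ∧ Cfsg.Geo.IsNondegenerateOn (QuadraticMap.polar (Cfsg.quadFormPlus d F)) W ∧ ¬ Cfsg.Geo.IsPlusTypeOn (Cfsg.quadFormPlus d F) W) ∧ W.map (Matrix.toLin' (x : Matrix (Fin d ⊕ Fin d) (Fin d ⊕ Fin d) F)) ≤ W) ↔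
    ((r = 2 ∧ p ≠ 2 ∧ ((Even d ∧ q % 4 = 3 ∧ m % 4 = 2) ∨ (Odd d ∧ q % 8 ≠ 1))) ∨
     (r ≠ p ∧ 2 < r ∧ Odd i ∧ c ≤ m ∧ 0 < m % c ∧ m % c < (2 * d) % c) ∨
     (r ≠ p ∧ 2 < r ∧ Even i ∧
       (((2 * d) % c = 0 ∧ (Odd ((2 * d) / i) ∨ (m % c = 0 ∧ Odd (m / i)))) ∨
        (i ≤ m ∧ ((0 < m % c ∧ m % c < (2 * d) % c) ∨
                  (0 < m % c ∧ m % c = (2 * d) % c ∧ Odd ((2 * d + m - 2 * ((2 * d) % c)) / i)) ∨
                  (m % c = 0 ∧ 0 < (2 * d) % c ∧ Odd (m / i))))))) := by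
  obtain rfl := hq
  have hdet : ((plusMatrix d F) + Matrix.transpose (plusMatrix d F)).det ≠ 0 := by
    rw [det_plusGram]
    exact pow_ne_zero _ (neg_ne_zero.2 one_ne_zero)
  have hQ := polarBilin_matQuad_nondegenerate hdet
  have hn : Fintype.card (Fin d ⊕ Fin d) = 2 * d := by
    simp only [Fintype.card_sum, Fintype.card_fin]; omega
  rw [quadFormPlus_eq d] at hrΩ ⊢
  have hp := S5973.plus_top (F := F) d
  have hsub : ∀ W : Submodule F (Fin d ⊕ Fin d → F), (finrank F W = m ∧ Cfsg.Geo.IsNondegenerateOn (QuadraticMap.polar ⇑(matQuad (plusMatrix d F))) W ∧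
      ¬ Cfsg.Geo.IsPlusTypeOn (⇑(matQuad (plusMatrix d F))) W) ↔ OrthNdSub.Sub (matQuad (plusMatrix d F)) m False W :=
    fun W => by rw [OrthNdSub.sub_iff, iff_false]
  rw [OrthNdAnyMain.all_iff _ hsub]
  rw [Nat.card_congr (Equiv.subtypeEquivRight hsub)] at hrΩ
  rcases eq_or_ne r p with rfl | hrp
  · refine iff_of_false (fun h => ?_) ?_
    · obtain ⟨x, h1, h3, h4, h5⟩ := OrthNdUnip.bad_plus (p := r) (m := m) _ hQ hn hd hme hp
      exact h5 (h x h1 h3 h4)
    · rintro (⟨h1, h3, -⟩ | ⟨h1, -⟩ | ⟨h1, -⟩)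
      · exact h3 h1
      · exact h1 rfl
      · exact h1 rfl
  rcases eq_or_ne r 2 with rfl | hr2
  · have h2 : (2 : F) ≠ 0 := Ring.two_ne_zero (ringChar.eq F p ▸ fun e => hrp e.symm)
    rw [OrthNdAnyMain.main_two _ hQ h2 hn hd hme (by omega) (by omega)]
    have hodd := FiniteField.odd_card_of_char_ne_two (F := F) (ringChar.eq F p ▸ fun e => hrp e.symm)
    simp only [OrthNdTwo.Cond, hp, true_iff, false_iff, lt_irrefl, false_and, and_false, or_false, true_and, ne_eq,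
      (Ne.symm hrp : p ≠ 2), not_false_iff]
    simp only [Nat.even_iff, Nat.odd_iff] at hme ⊢
    omega
  have hr3 : 2 < r := lt_of_le_of_ne (Fact.out : r.Prime).two_le (Ne.symm hr2)
  rw [OrthNdAnyMain.main_odd _ hQ hrp hr2 hn hd hme (by omega) (by omega) hi.symm hrΩ]
  simp only [OrthNdAny.Cond, hp, hr2, ne_eq, hrp, not_false_iff, hr3, true_and, false_and, false_or]
  subst hc
  rcases Nat.even_or_odd i with hev | hodd
  · simp only [OrthDecomp.typ, hev, Nat.not_odd_iff_even.2 hev, IsoDecomp.step, if_pos, false_or, true_and, false_and,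
      iff_false, true_iff, Nat.not_even_iff_odd]
    have hi0 : 0 < i := hi ▸ PrimeElemFlags.order_pos rfl hrp
    have h1 := Nat.div_add_mod (2 * d) i
    have h3 := Nat.div_add_mod m i
    have hcomb : m % i = 2 * d % i → (2 * d + m - 2 * (2 * d % i)) / i = 2 * d / i + m / i := fun h => by
      refine Nat.div_eq_of_eq_mul_left hi0 ?_
      rw [Nat.add_mul, mul_comm (2 * d / i), mul_comm (m / i)]
      omega
    have him : m % i = 0 → 0 < m → i ≤ m := fun h _ => Nat.le_of_dvd (by omega) (Nat.dvd_of_mod_eq_zero h)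
    constructor
    · rintro (⟨h5, h6⟩ | ⟨h5, h6, h7⟩)
      · exact Or.inl ⟨h5, h6⟩
      · refine Or.inr ⟨h6, ?_⟩
        rcases h7 with h7 | ⟨h7, h8⟩ | ⟨h7, h8⟩
        · exact Or.inl h7
        · exact Or.inr (Or.inr ⟨h7, h5, h8⟩)
        · exact Or.inr (Or.inl ⟨by omega, h7, by rw [hcomb h7, Nat.odd_add]; exact (by
            simp only [← Nat.not_even_iff_odd] at h8 ⊢; tauto)⟩)
    · rintro (⟨h5, h6⟩ | ⟨h6, h7⟩)
      · exact Or.inl ⟨h5, h6⟩
      · rcases h7 with ⟨h7, h8⟩ | ⟨h7, h8, h9⟩ | ⟨h7, h8, h9⟩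
        · exact Or.inr ⟨by omega, h6, Or.inl ⟨h7, h8⟩⟩
        · refine Or.inr ⟨by omega, h6, Or.inr (Or.inr ⟨h8, ?_⟩)⟩
          rw [hcomb h8, Nat.odd_add] at h9
          simp only [← Nat.not_even_iff_odd] at h9 ⊢
          tauto
        · exact Or.inr ⟨h8, h6, Or.inr (Or.inl ⟨h7, h9⟩)⟩
  · simp only [OrthDecomp.typ, hodd, Nat.not_even_iff_odd.2 hodd, IsoDecomp.step, if_false, true_or, true_and, false_and,
      iff_false, true_iff, not_true_eq_false, and_false, or_false, false_or, iff_true]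
    omega

end Cfsg.Agent.S5988
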