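import Cfsg.Statements.S5989
import Cfsg.Agent.Lib.MaxSub.OrthOddSubMain
import Cfsg.Agent.Lib.Classical.OrthCard
import Cfsg.Agent.Lib.QuadFin.WittIndex
import Mathlib

set_option maxHeartbeats 1000000
set_option linter.unusedSectionVars false

set_option autoImplicit false
open scoped MatrixGroups
open Cfsg

namespace Cfsg.Agent.S5989

open Module Cfsg.Agent.Lib.MaxSub Cfsg.Agent.Lib.Geometry
open Cfsg.Agent.Lib.MaxSub.QuadType (Nd TS Plus perp)
open Cfsg.Agent.Lib.MaxSub.IsoDecomp (step)
open Cfsg.Agent.Lib.MaxSub.OrthDecomp (typ)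
open QuadraticMap (polarBilin)
open scoped _root_.Classical

theorem plus_top {F : Type*} [Field F] (d : ℕ) : Plus (matQuad (plusMatrix d F)) ⊤ := by
  refine ⟨Cfsg.Agent.Lib.QuadFin.xSubspace F d, le_top, fun u hu => ?_, ?_⟩
  · rw [← congrFun (quadFormPlus_eq d) u]
    exact Cfsg.Agent.Lib.QuadFin.xSubspace_singular hu
  · rw [Cfsg.Agent.Lib.QuadFin.finrank_xSubspace, finrank_top, Module.finrank_fintype_fun_eq_card, Fintype.card_sum,
      Fintype.card_fin, two_mul]

/-- Elements of prime order of PΩ⁺_n(q), q odd, with no fixed nondegenerate `m`-space of odd dimension. Here `T = PΩ⁺_n(F)`, `n = 2d ≥ 8`, realised through `Ω⁺_n(q)`, the commutator subgroup of the isometry group of `Q = Σ xᵢyᵢ` over the field `F` with `q` elements; an element of `T` of prime order `r` is an element `x` of `Ω⁺_n(q)` with `x^r` scalar and `x` not scalar; `q` and `m` are odd, `1 ≤ m < n/2`. The nondegenerate `m`-spaces (subspaces on which the polar form is nondegenerate) fall into two isometry classes, each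 an orbit of `T`, and the two actions are equivalent; fix one such space `W₀` and let Ω be the set of nondegenerate `m`-spaces isometric to `W₀` (some linear isomorphism preserves `Q`). Let `r` be a prime dividing the size of Ω; for `r ≠ p` let `i` be the multiplicative order of `q` modulo `r`, `c = i` for `i` even and `c = 2i` for `i` odd, and write `k = n mod c`, `ℓ = m mod i`, `ℓ' = m mod c`, `n' = ⌊n/i⌋`, `m' = ⌊m/i⌋`, `t = (r−1)/i`. Then every element of `T` of order `r` fixes a member of Ω if and only if one of: (i) `r = 2`, `n ≡ 2 (mod 4)` and `q ≢ 1 (mod 8)`; (ii) `r ≠ p` odd, `i` odd, `c ≤ m` and `k > ℓ' > 0`; (iii) `r ≠ p` odd, `i` even, and either `k = 0` and `n/i` odd, or `i ≤ m` and `k > ℓ' > 0`. (For `r = p` there is always an element of order `p` fixing no member of Ω.) -/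
theorem result {F : Type*} [Field F] [Fintype F] {p : ℕ} [Fact p.Prime] [CharP F p] {q : ℕ} (hq : Fintype.card F = q)
    (hodd : Odd q) (d m : ℕ) (hd : 4 ≤ d) (hm : Odd m) (hmd : m < d)
    (W₀ : Submodule F (Fin d ⊕ Fin d → F)) (hW₀ : Module.finrank F ↥W₀ = m ∧ Cfsg.Geo.IsNondegenerateOn (QuadraticMap.polar (Cfsg.quadFormPlus d F)) W₀)
    (r : ℕ) [Fact r.Prime]
    (hrΩ : r ∣ Nat.card {W : Submodule F (Fin d ⊕ Fin d → F) // Module.finrank F ↥W = m ∧ Cfsg.Geo.IsNondegenerateOn (QuadraticMap.polar (Cfsg.quadFormPlus d F)) W ∧ Cfsg.Geo.AreIsometricFor (Cfsg.quadFormPlus d F) W W₀})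
    (i c : ℕ) (hi : i = orderOf (q : ZMod r)) (hc : c = if Even i then i else 2 * i) :
    (∀ x : GL (Fin d ⊕ Fin d) F, x ∈ Cfsg.Geo.omegaGL (Cfsg.quadFormPlus d F) →
      (∃ z : F, ((x ^ r : GL (Fin d ⊕ Fin d) F) : Matrix (Fin d ⊕ Fin d) (Fin d ⊕ Fin d) F) = z • (1 : Matrix (Fin d ⊕ Fin d) (Fin d ⊕ Fin d) F)) →
      (∀ z : F, (x : Matrix (Fin d ⊕ Fin d) (Fin d ⊕ Fin d) F) ≠ z • (1 : Matrix (Fin d ⊕ Fin d) (Fin d ⊕ Fin d) F)) →
      ∃ W : Submodule F (Fin d ⊕ Fin d → F), (Module.finrank F ↥W = m ∧ Cfsg.Geo.IsNondegenerateOn (QuadraticMap.polar (Cfsg.quadFormPlus d F)) W ∧ Cfsg.Geo.AreIsometricFor (Cfsg.quadFormPlus d F) W W₀) ∧ W.map (Matrix.toLin' (x : Matrix (Fin d ⊕ Fin d) (Fin d ⊕ Fin d) F)) ≤ W) ↔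
    ((r = 2 ∧ Odd d ∧ q % 8 ≠ 1) ∨
     (r ≠ p ∧ 2 < r ∧ Odd i ∧ c ≤ m ∧ 0 < m % c ∧ m % c < (2 * d) % c) ∨
     (r ≠ p ∧ 2 < r ∧ Even i ∧ (((2 * d) % c = 0 ∧ Odd ((2 * d) / i)) ∨ (i ≤ m ∧ 0 < m % c ∧ m % c < (2 * d) % c)))) := by
  obtain rfl := hq
  have hp2 : p ≠ 2 := fun e => by
    subst e
    obtain ⟨n, _, hn⟩ := FiniteField.card F 2
    rw [hn, Nat.odd_pow_iff (by positivity)] at hodd
    exact absurd hodd (by decide)
  have h2 : (2 : F) ≠ 0 := Ring.two_ne_zero (ringChar.eq F p ▸ hp2)
  have hdet : ((plusMatrix d F) + Matrix.transpose (plusMatrix d F)).det ≠ 0 := by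
    rw [det_plusGram]
    exact pow_ne_zero _ (neg_ne_zero.2 one_ne_zero)
  have hQ := polarBilin_matQuad_nondegenerate hdet
  have hn : Fintype.card (Fin d ⊕ Fin d) = 2 * d := by
    simp only [Fintype.card_sum, Fintype.card_fin]; omega
  have hspec : ∀ W : Submodule F ((Fin d ⊕ Fin d) → F),
      (Module.finrank F ↥W = m ∧ Cfsg.Geo.IsNondegenerateOn (QuadraticMap.polar (Cfsg.quadFormPlus d F)) W ∧
        Cfsg.Geo.AreIsometricFor (Cfsg.quadFormPlus d F) W W₀) ↔ OrthOddSub.Sub (matQuad (plusMatrix d F)) m W₀ W := fun W => by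
    rw [quadFormPlus_eq d]
    exact and_congr Iff.rfl (and_congr (OrthOddSub.nd_iff _) Iff.rfl)
  have hW₀n : Nd (matQuad (plusMatrix d F)) W₀ := (OrthOddSub.nd_iff _).1 (by rw [← quadFormPlus_eq d]; exact hW₀.2)
  simp only [hspec]
  rw [Nat.card_congr (Equiv.subtypeEquivRight hspec)] at hrΩ
  have hstep : step i = c := hc.symm
  have htop : r ≠ p → r ≠ 2 → step i = 2 * d → (typ i 1 ↔ Plus (matQuad (plusMatrix d F)) ⊤) →
      ∃ X : End F (Fin d ⊕ Fin d → F), X ^ r = 1 ∧ (∀ v, matQuad (plusMatrix d F) (X v) = matQuad (plusMatrix d F) v) ∧ X ≠ 1 := by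
    intro _ _ hs ht
    have ho : Odd i := (ht.2 (plus_top d)).resolve_right Nat.not_even_one
    rw [step, if_neg (Nat.not_even_iff_odd.2 ho)] at hs
    have hid : i = d := by omega
    refine OrthOddSubMain.exists_of_dvd _ ?_
    rw [← quadFormPlus_eq, Cfsg.Agent.Lib.Classical.card_orth_plus rfl d (by omega)]
    refine dvd_mul_of_dvd_left (dvd_mul_of_dvd_right ?_ _) _
    rw [← ZMod.natCast_eq_zero_iff, Nat.cast_sub (Nat.one_le_pow _ _ Fintype.card_pos), Nat.cast_pow, Nat.cast_one,
      sub_eq_zero, ← orderOf_dvd_iff_pow_eq_one, ← hi, hid]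
  have huni := fun hall => if he : Even d then
      OrthOddSubUnip.not_all_square (p := p) _ hQ h2 hn hd he hm (by
        rw [polarBilin_matQuad, LinearMap.BilinForm.toMatrix'_toBilin', det_plusGram]
        exact he.isSquare_pow _) (W₀ := W₀) hall
    else OrthOddSubUnip.not_all_odd (p := p) _ hQ h2 hn hd (Nat.not_even_iff_odd.1 he) hm (W₀ := W₀) hall
  rw [quadFormPlus_eq d]
  refine Iff.trans (OrthOddSubMain.main (matQuad (plusMatrix d F)) hQ h2 hi.symm hn hd hm hmd hW₀n hW₀.1 htop hrΩ huni) ?_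
  have hpl : Plus (matQuad (plusMatrix d F)) ⊤ ↔ True := iff_true_intro (plus_top d)
  have hq2 : Fintype.card F % 2 = 1 := Nat.odd_iff.1 hodd
  simp only [OrthOddSubMain.Crit, OrthOddSubTwo.Cond, OrthOddSubMain.isSquare_two_pow h2, FiniteField.isSquare_neg_one_iff,
    FiniteField.isSquare_two_iff, hstep, hpl, iff_true, iff_false, true_iff, false_iff]
  refine or_congr (and_congr_right fun _ => ?_) ?_
  · rcases Nat.even_or_odd d with he | ho
    · simp [he, Nat.not_odd_iff_even.2 he]
    · simp only [ho, Nat.not_even_iff_odd.2 ho, or_false, false_or, true_and, not_and, not_or, not_not]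
      omega
  · rcases Nat.even_or_odd i with he | ho
    · have hci : c = i := by rw [hc, if_pos he]
      subst hci
      simp only [typ, he, Nat.not_odd_iff_even.2 he, false_and, and_false, false_or, true_and, Nat.not_even_iff_odd, Nat.not_odd_iff_even]
      refine and_congr_right fun _ => and_congr_right fun _ => ?_
      have hm0 : 0 < m % c := by
        rcases Nat.eq_zero_or_pos (m % c) with h0 | h0
        · exfalso
          have h := Nat.div_add_mod m c
          have : (c * (m / c)) % 2 = 0 := Nat.even_iff.1 (he.mul_right _)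
          have := Nat.odd_iff.1 hm
          omega
        · exact h0
      have e2 : m % c < 2 * d % c → 0 < 2 * d % c := fun h => by omega
      generalize 2 * d % c = k at e2 ⊢
      generalize m % c = l at hm0 e2 ⊢
      try simp only [false_or, and_true]
      refine ⟨fun h => ?_, fun h => ?_⟩
      · first
          | exact ⟨h.1, hm0, h.2⟩
          | (rcases h with h | ⟨h1, h3⟩
             · exact Or.inl h
             · first | exact Or.inr ⟨e2 h3, h1, hm0, h3⟩ | exact Or.inr ⟨h1, hm0, h3⟩)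
      · first
          | exact ⟨h.1, h.2.2⟩
          | (rcases h with h | h
             · exact Or.inl h
             · first | exact Or.inr ⟨h.2.1, h.2.2.2⟩ | exact Or.inr ⟨h.1, h.2.2⟩)
    · have hci : c = 2 * i := by rw [hc, if_neg (Nat.not_even_iff_odd.2 ho)]
      simp only [typ, ho, Nat.not_even_iff_odd.2 ho, false_and, and_false, or_false, true_or, true_and, not_true, not_false_iff]
      refine and_congr_right fun _ => and_congr_right fun _ => ?_
      have hm0 : 0 < m % c := by
        rcases Nat.eq_zero_or_pos (m % c) with h0 | h0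
        · exfalso
          have h := Nat.div_add_mod m c
          have : (c * (m / c)) % 2 = 0 := by rw [hci, mul_assoc]; exact Nat.mul_mod_right 2 _
          have := Nat.odd_iff.1 hm
          omega
        · exact h0
      have e2 : m % c < 2 * d % c → 0 < 2 * d % c := fun h => by omega
      generalize 2 * d % c = k at e2 ⊢
      generalize m % c = l at hm0 e2 ⊢
      try simp only [false_or, and_true]
      refine ⟨fun h => ?_, fun h => ?_⟩
      · first
          | exact ⟨h.1, hm0, h.2⟩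
          | (rcases h with h | ⟨h1, h3⟩
             · exact Or.inl h
             · first | exact Or.inr ⟨e2 h3, h1, hm0, h3⟩ | exact Or.inr ⟨h1, hm0, h3⟩)
      · first
          | exact ⟨h.1, h.2.2⟩
          | (rcases h with h | h
             · exact Or.inl h
             · first | exact Or.inr ⟨h.2.1, h.2.2.2⟩ | exact Or.inr ⟨h.1, h.2.2⟩)

end Cfsg.Agent.S5989
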