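import Cfsg.Statements.S5990
import Cfsg.Agent.Lib.MaxSub.OrthNdAnyMain
import Cfsg.Agent.Lib.MaxSub.OrthNdInvolTwo
import Cfsg.Agent.S5987
import Mathlib

set_option maxHeartbeats 1000000
set_option linter.unusedSectionVars false

set_option autoImplicit false
open scoped MatrixGroups
open Cfsg

namespace Cfsg.Agent.S5990

open Module Cfsg.Agent.Lib.MaxSub Cfsg.Agent.Lib.Geometry
open Cfsg.Agent.Lib.MaxSub.QuadType (Plus)
open QuadraticMap (polarBilin)
open scoped _root_.Classical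

/-- Elements of prime order of PΩ⁻_n(q) with no fixed elliptic `m`-space. Here `T = PΩ⁻_n(F)`, `n = 2d ≥ 8`, realised through `Ω⁻_n(q)`, the commutator subgroup of the isometry group of `Q = Σ_{i<d−1} xᵢyᵢ + z₁² + a z₁z₂ + b z₂²` with `z₁² + a z₁z₂ + b z₂²` anisotropic, over the field `F` with `q` elements; an element of `T` of prime order `r` is an element `x` of `Ω⁻_n(q)` with `x^r` scalar and `x` not scalar; a nondegenerate `m`-space (even `m`) is a subspace on which the polar form of `Q` is nondegenerate; it is hyperbolic if it contains an `m/2`-dimensional subspace on which `Q` vanishes, elliptic otherwise. Let `m` be even with `2 ≤ m ≤ n − 2` (no restriction `m < n/2`: fixing an elliptic `m`-space is the same as fixing its hyperbolic orthogonal complement) and let `r` be a prime dividing the number of elliptic `m`-spaces, with `r = 2` or `r ≠ p`; for `r ≠ p` let `i` be the multiplicative order of `q` modulo `r`, `c = i` for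 `i` even and `c = 2i` for `i` odd, and write `k = n mod c`, `ℓ = m mod i`, `ℓ' = m mod c`, `n' = ⌊n/i⌋`, `m' = ⌊m/i⌋`, `t = (r−1)/i`. Then every element of `T` of order `r` fixes some elliptic `m`-space if and only if one of: (i) `r = p = 2` and (`n ≡ 0 (mod 4)` or `m ≡ 2 (mod 4)`); (ii) `r = 2 ≠ p` and (`n ≡ 0 (mod 4)`, or `q ≢ 7 (mod 8)`, or `m ≡ 2 (mod 4)`); (iii) `r ≠ p` odd, `i` odd, and `k = 0` or (`c ≤ m` and `k ≥ ℓ' > 0`); (iv) `r ≠ p` odd, `i` even, and either `k = 0` and (`n/i` even, or `ℓ' = 0` and `m/i` odd), or `k > 0`, `i ≤ m` and (`k > ℓ' > 0`, or `ℓ' = 0` and `m/i` odd, or `k = ℓ'` and `(n + m − 2k)/i` even). (Odd `r = p` is not covered by this statement.) -/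
theorem result {F : Type*} [Field F] [Fintype F] {p : ℕ} [Fact p.Prime] [CharP F p] {q : ℕ} (hq : Fintype.card F = q)
    (d m : ℕ) (hd : 4 ≤ d) (hm : 2 ≤ m) (hme : Even m) (hmn : m + 2 ≤ 2 * d) (a b : F) (hab : ∀ x y : F, x ^ 2 + a * x * y + b * y ^ 2 = 0 → x = 0 ∧ y = 0)
    (r : ℕ) [Fact r.Prime] (hr : r = 2 ∨ r ≠ p)
    (hrΩ : r ∣ Nat.card {W : Submodule F ((Fin (d - 1) ⊕ Fin (d - 1)) ⊕ Fin 2 → F) // Module.finrank F ↥W = m ∧ Cfsg.Geo.IsNondegenerateOn (QuadraticMap.polar (Cfsg.quadFormMinus (d - 1) F a b)) W ∧ ¬ Cfsg.Geo.IsPlusTypeOn (Cfsg.quadFormMinus (d - 1) F a b) W})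
    (i c : ℕ) (hi : i = orderOf (q : ZMod r)) (hc : c = if Even i then i else 2 * i) :
    (∀ x : GL ((Fin (d - 1) ⊕ Fin (d - 1)) ⊕ Fin 2) F, x ∈ Cfsg.Geo.omegaGL (Cfsg.quadFormMinus (d - 1) F a b) →
      (∃ z : F, ((x ^ r : GL ((Fin (d - 1) ⊕ Fin (d - 1)) ⊕ Fin 2) F) : Matrix ((Fin (d - 1) ⊕ Fin (d - 1)) ⊕ Fin 2) ((Fin (d - 1) ⊕ Fin (d - 1)) ⊕ Fin 2) F) = z • (1 : Matrix ((Fin (d - 1) ⊕ Fin (d - 1)) ⊕ Fin 2) ((Fin (d - 1) ⊕ Fin (d - 1)) ⊕ Fin 2) F)) →
      (∀ z : F, (x : Matrix ((Fin (d - 1) ⊕ Fin (d - 1)) ⊕ Fin 2) ((Fin (d - 1) ⊕ Fin (d - 1)) ⊕ Fin 2) F) ≠ z • (1 : Matrix ((Fin (d - 1) ⊕ Fin (d - 1)) ⊕ Fin 2) ((Fin (d - 1) ⊕ Fin (d - 1)) ⊕ Fin 2) F)) →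
      ∃ W : Submodule F ((Fin (d - 1) ⊕ Fin (d - 1)) ⊕ Fin 2 → F), (Module.finrank F ↥W = m ∧ Cfsg.Geo.IsNondegenerateOn (QuadraticMap.polar (Cfsg.quadFormMinus (d - 1) F a b)) W ∧ ¬ Cfsg.Geo.IsPlusTypeOn (Cfsg.quadFormMinus (d - 1) F a b) W) ∧ W.map (Matrix.toLin' (x : Matrix ((Fin (d - 1) ⊕ Fin (d - 1)) ⊕ Fin 2) ((Fin (d - 1) ⊕ Fin (d - 1)) ⊕ Fin 2) F)) ≤ W) ↔
    ((r = 2 ∧ p = 2 ∧ (Even d ∨ m % 4 = 2)) ∨
     (r = 2 ∧ p ≠ 2 ∧ (Even d ∨ q % 8 ≠ 7 ∨ m % 4 = 2)) ∨
     (r ≠ p ∧ 2 < r ∧ Odd i ∧ ((2 * d) % c = 0 ∨ (c ≤ m ∧ 0 < m % c ∧ m % c ≤ (2 * d) % c))) ∨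
     (r ≠ p ∧ 2 < r ∧ Even i ∧
       (((2 * d) % c = 0 ∧ (Even ((2 * d) / i) ∨ (m % c = 0 ∧ Odd (m / i)))) ∨
        (0 < (2 * d) % c ∧ i ≤ m ∧ ((0 < m % c ∧ m % c < (2 * d) % c) ∨ (m % c = 0 ∧ Odd (m / i)) ∨
                                    (m % c = (2 * d) % c ∧ Even ((2 * d + m - 2 * ((2 * d) % c)) / i))))))) := by
  obtain rfl := hq
  have hdet : ((minusMatrix (d - 1) a b) + Matrix.transpose (minusMatrix (d - 1) a b)).det ≠ 0 := by
    rw [det_minusGram]
    refine mul_ne_zero (pow_ne_zero _ (neg_ne_zero.2 one_ne_zero)) fun h => ?_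
    by_cases h2 : (2 : F) = 0
    · haveI : CharP F 2 := CharTwo.of_one_ne_zero_of_two_eq_zero one_ne_zero h2
      have ha : a = 0 := pow_eq_zero_iff two_ne_zero |>.1 (by linear_combination -h + 2 * b * h2)
      obtain ⟨t, ht⟩ := isSquare_of_charTwo' b
      exact one_ne_zero (hab t 1 (by rw [ha, ht]; linear_combination (t * t) * h2)).2
    · exact discr_not_isSquare h2 hab ⟨0, by linear_combination -h⟩
  have hQ := polarBilin_matQuad_nondegenerate hdet
  have hn : Fintype.card ((Fin (d - 1) ⊕ Fin (d - 1)) ⊕ Fin 2) = 2 * d := by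
    simp only [Fintype.card_sum, Fintype.card_fin]; omega
  rw [quadFormMinus_eq (d - 1) a b] at hrΩ ⊢
  have hp := S5987.not_plus_top (by omega : 1 ≤ d) hab
  have hsub : ∀ W : Submodule F ((Fin (d - 1) ⊕ Fin (d - 1)) ⊕ Fin 2 → F), (finrank F W = m ∧
      Cfsg.Geo.IsNondegenerateOn (QuadraticMap.polar ⇑(matQuad (minusMatrix (d - 1) a b))) W ∧
      ¬ Cfsg.Geo.IsPlusTypeOn (⇑(matQuad (minusMatrix (d - 1) a b))) W) ↔
      OrthNdSub.Sub (matQuad (minusMatrix (d - 1) a b)) m False W :=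
    fun W => by rw [OrthNdSub.sub_iff, iff_false]
  rw [OrthNdAnyMain.all_iff _ hsub]
  rw [Nat.card_congr (Equiv.subtypeEquivRight hsub)] at hrΩ
  rcases eq_or_ne r 2 with rfl | hr2
  · simp only [lt_irrefl, false_and, and_false, or_false, true_and]
    by_cases hp2 : p = 2
    · subst hp2
      have h2 : (2 : F) = 0 := CharTwo.two_eq_zero
      obtain ⟨M, rfl⟩ : ∃ M, m = 2 * M := ⟨m / 2, by rw [Nat.even_iff] at hme; omega⟩
      have hqe : 2 ∣ Fintype.card F := by
        obtain ⟨k, -, hk⟩ := FiniteField.card F 2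
        rw [hk]; exact dvd_pow_self 2 k.pos.ne'
      simp only [ne_eq, not_true_eq_false, false_and, or_false, true_and]
      constructor
      · intro h
        by_contra hC
        obtain ⟨x, h1, h3, h4, h5⟩ := OrthNdInvolTwo.bad (M := M) _ hQ h2 hn hd fun hc => by
          have := hc.2 hp
          simp only [Nat.even_iff, Nat.odd_iff] at this hC
          omega
        exact h5 (by simpa [hp] using h x h1 h3 h4)
      · intro hC x hx hz _
        have := OrthNdInvolTwo.all_good _ hQ h2 hn hd (M := M) (by omega) (by omega) ⟨fun h => absurd h hp, fun _ => by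
          simp only [Nat.even_iff, Nat.odd_iff] at hC ⊢
          omega⟩ x hx hz
        simpa [hp] using this
    · have h2 : (2 : F) ≠ 0 := Ring.two_ne_zero (ringChar.eq F p ▸ hp2)
      rw [OrthNdAnyMain.main_two _ hQ h2 hn hd hme (by omega) (by omega)]
      have hodd := FiniteField.odd_card_of_char_ne_two (F := F) (ringChar.eq F p ▸ hp2)
      simp only [OrthNdTwo.Cond, hp, true_iff, false_iff, iff_true, iff_false, ne_eq, hp2, not_false_iff, true_and, false_and,
        false_or]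
      simp only [Nat.even_iff, Nat.odd_iff] at hme ⊢
      omega
  have hrp : r ≠ p := hr.resolve_left hr2
  have hr3 : 2 < r := lt_of_le_of_ne (Fact.out : r.Prime).two_le (Ne.symm hr2)
  rw [OrthNdAnyMain.main_odd _ hQ hrp hr2 hn hd hme (by omega) (by omega) hi.symm hrΩ]
  simp only [OrthNdAny.Cond, hp, hr2, ne_eq, hrp, not_false_iff, hr3, true_and, false_and, false_or]
  subst hc
  rcases Nat.even_or_odd i with hev | hodd
  · simp only [OrthDecomp.typ, hev, Nat.not_odd_iff_even.2 hev, IsoDecomp.step, if_pos, false_or, true_and, false_and,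
      iff_false, true_iff, iff_true, false_iff, Nat.not_even_iff_odd, not_not]
    have hi0 : 0 < i := hi ▸ PrimeElemFlags.order_pos rfl hrp
    have h1 := Nat.div_add_mod (2 * d) i
    have h3 := Nat.div_add_mod m i
    have hcomb : m % i = 2 * d % i → (2 * d + m - 2 * (2 * d % i)) / i = 2 * d / i + m / i := fun h => by
      refine Nat.div_eq_of_eq_mul_left hi0 ?_
      rw [Nat.add_mul, mul_comm (2 * d / i), mul_comm (m / i)]
      omega
    by_cases hk : m % i = 2 * d % i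
    · rw [hcomb hk]
      simp only [Nat.even_iff, Nat.odd_iff]
      omega
    · simp only [Nat.even_iff, Nat.odd_iff]
      omega
  · simp only [OrthDecomp.typ, hodd, Nat.not_even_iff_odd.2 hodd, IsoDecomp.step, if_false, true_or, true_and, false_and,
      iff_false, true_iff, not_true_eq_false, and_false, or_false, false_or, iff_true, not_false_iff]
    have hle : m % (2 * i) = 0 → 2 * i ≤ m := fun h => Nat.le_of_dvd (by omega) (Nat.dvd_of_mod_eq_zero h)
    simp only [and_true]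
    omega

end Cfsg.Agent.S5990
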