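import Cfsg.Statements.S5991
import Cfsg.Agent.Lib.MaxSub.OrthOddSubMain
import Cfsg.Agent.Lib.Classical.OrthCard
import Cfsg.Agent.Lib.QuadFin.WittIndex
import Mathlib

set_option maxHeartbeats 1000000
set_option linter.unusedSectionVars false

set_option autoImplicit false
open scoped MatrixGroups
open Cfsg

namespace Cfsg.Agent.S5991

open Module Cfsg.Agent.Lib.MaxSub Cfsg.Agent.Lib.Geometry
open Cfsg.Agent.Lib.MaxSub.QuadType (Nd TS Plus perp)
open Cfsg.Agent.Lib.MaxSub.IsoDecomp (step)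
open Cfsg.Agent.Lib.MaxSub.OrthDecomp (typ)
open QuadraticMap (polarBilin)
open scoped _root_.Classical

theorem not_plus_top {F : Type*} [Field F] {d : ℕ} (hd : 1 ≤ d) {a b : F}
    (hab : ∀ x y : F, x ^ 2 + a * x * y + b * y ^ 2 = 0 → x = 0 ∧ y = 0) :
    ¬ Plus (matQuad (minusMatrix (d - 1) a b)) ⊤ := by
  rintro ⟨U, -, hU, hUd⟩
  have h := Cfsg.Agent.Lib.QuadFin.finrank_singular_minus_le a b hab U fun u hu => by
    rw [congrFun (quadFormMinus_eq (d - 1) a b) u]; exact hU u hu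
  rw [finrank_top, Module.finrank_fintype_fun_eq_card] at hUd
  simp only [Fintype.card_sum, Fintype.card_fin] at hUd
  omega

/-- Elements of prime order of PΩ⁻_n(q), q odd, with no fixed nondegenerate `m`-space of odd dimension. Here `T = PΩ⁻_n(F)`, `n = 2d ≥ 8`, realised through `Ω⁻_n(q)`, the commutator subgroup of the isometry group of `Q = Σ_{i<d−1} xᵢyᵢ + z₁² + a z₁z₂ + b z₂²` with `z₁² + a z₁z₂ + b z₂²` anisotropic, over the field `F` with `q` elements; an element of `T` of prime order `r` is an element `x` of `Ω⁻_n(q)` with `x^r` scalar and `x` not scalar; `q` and `m` are odd, `1 ≤ m < n/2`. The nondegenerate `m`-spaces fall into two isometry classes, each an orbit of `T`, with equivalent actions; fix one such space `W₀` and let Ω be the set of nondegenerate `m`-spaces isometric to `W₀`. Let `r` be a prime dividing the size of Ω; for `r ≠ p` let `i` be the multiplicative order of `q` modulo `r`, `c = i` for `i` even and `c = 2i` for `i` odd,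 and write `k = n mod c`, `ℓ = m mod i`, `ℓ' = m mod c`, `n' = ⌊n/i⌋`, `m' = ⌊m/i⌋`, `t = (r−1)/i`. Then every element of `T` of order `r` fixes a member of Ω if and only if one of: (i) `r = 2` and (`n ≡ 0 (mod 4)` or `q ≢ 7 (mod 8)`); (ii) `r ≠ p` odd, `i` odd, and `k = 0` or (`c ≤ m` and `k > ℓ' > 0`); (iii) `r ≠ p` odd, `i` even, and either `k = 0` and `n/i` even, or `k > 0`, `i ≤ m` and `k > ℓ' > 0`. (For `r = p` there is always an element of order `p` fixing no member of Ω.) -/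
theorem result {F : Type*} [Field F] [Fintype F] {p : ℕ} [Fact p.Prime] [CharP F p] {q : ℕ} (hq : Fintype.card F = q)
    (hodd : Odd q) (d m : ℕ) (hd : 4 ≤ d) (hm : Odd m) (hmd : m < d) (a b : F) (hab : ∀ x y : F, x ^ 2 + a * x * y + b * y ^ 2 = 0 → x = 0 ∧ y = 0)
    (W₀ : Submodule F ((Fin (d - 1) ⊕ Fin (d - 1)) ⊕ Fin 2 → F)) (hW₀ : Module.finrank F ↥W₀ = m ∧ Cfsg.Geo.IsNondegenerateOn (QuadraticMap.polar (Cfsg.quadFormMinus (d - 1) F a b)) W₀)
    (r : ℕ) [Fact r.Prime]
    (hrΩ : r ∣ Nat.card {W : Submodule F ((Fin (d - 1) ⊕ Fin (d - 1)) ⊕ Fin 2 → F) // Module.finrank F ↥W = m ∧ Cfsg.Geo.IsNondegenerateOn (QuadraticMap.polar (Cfsg.quadFormMinus (d - 1) F a b)) W ∧ Cfsg.Geo.AreIsometricFor (Cfsg.quadFormMinus (d - 1) F a b) W W₀})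
    (i c : ℕ) (hi : i = orderOf (q : ZMod r)) (hc : c = if Even i then i else 2 * i) :
    (∀ x : GL ((Fin (d - 1) ⊕ Fin (d - 1)) ⊕ Fin 2) F, x ∈ Cfsg.Geo.omegaGL (Cfsg.quadFormMinus (d - 1) F a b) →
      (∃ z : F, ((x ^ r : GL ((Fin (d - 1) ⊕ Fin (d - 1)) ⊕ Fin 2) F) : Matrix ((Fin (d - 1) ⊕ Fin (d - 1)) ⊕ Fin 2) ((Fin (d - 1) ⊕ Fin (d - 1)) ⊕ Fin 2) F) = z • (1 : Matrix ((Fin (d - 1) ⊕ Fin (d - 1)) ⊕ Fin 2) ((Fin (d - 1) ⊕ Fin (d - 1)) ⊕ Fin 2) F)) →
      (∀ z : F, (x : Matrix ((Fin (d - 1) ⊕ Fin (d - 1)) ⊕ Fin 2) ((Fin (d - 1) ⊕ Fin (d - 1)) ⊕ Fin 2) F) ≠ z • (1 : Matrix ((Fin (d - 1) ⊕ Fin (d - 1)) ⊕ Fin 2) ((Fin (d - 1) ⊕ Fin (d - 1)) ⊕ Fin 2) F)) →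
      ∃ W : Submodule F ((Fin (d - 1) ⊕ Fin (d - 1)) ⊕ Fin 2 → F), (Module.finrank F ↥W = m ∧ Cfsg.Geo.IsNondegenerateOn (QuadraticMap.polar (Cfsg.quadFormMinus (d - 1) F a b)) W ∧ Cfsg.Geo.AreIsometricFor (Cfsg.quadFormMinus (d - 1) F a b) W W₀) ∧ W.map (Matrix.toLin' (x : Matrix ((Fin (d - 1) ⊕ Fin (d - 1)) ⊕ Fin 2) ((Fin (d - 1) ⊕ Fin (d - 1)) ⊕ Fin 2) F)) ≤ W) ↔
    ((r = 2 ∧ (Even d ∨ q % 8 ≠ 7)) ∨
     (r ≠ p ∧ 2 < r ∧ Odd i ∧ ((2 * d) % c = 0 ∨ (c ≤ m ∧ 0 < m % c ∧ m % c < (2 * d) % c))) ∨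
     (r ≠ p ∧ 2 < r ∧ Even i ∧ (((2 * d) % c = 0 ∧ Even ((2 * d) / i)) ∨ (0 < (2 * d) % c ∧ i ≤ m ∧ 0 < m % c ∧ m % c < (2 * d) % c)))) := by
  obtain rfl := hq
  have hp2 : p ≠ 2 := fun e => by
    subst e
    obtain ⟨n, _, hn⟩ := FiniteField.card F 2
    rw [hn, Nat.odd_pow_iff (by positivity)] at hodd
    exact absurd hodd (by decide)
  have h2 : (2 : F) ≠ 0 := Ring.two_ne_zero (ringChar.eq F p ▸ hp2)
  have hdet : ((minusMatrix (d - 1) a b) + Matrix.transpose (minusMatrix (d - 1) a b)).det ≠ 0 := by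
    rw [det_minusGram]
    refine mul_ne_zero (pow_ne_zero _ (neg_ne_zero.2 one_ne_zero)) fun h => discr_not_isSquare h2 hab ?_
    exact ⟨0, by linear_combination -h⟩
  have hQ := polarBilin_matQuad_nondegenerate hdet
  have hn : Fintype.card ((Fin (d - 1) ⊕ Fin (d - 1)) ⊕ Fin 2) = 2 * d := by
    simp only [Fintype.card_sum, Fintype.card_fin]; omega
  have hspec : ∀ W : Submodule F (((Fin (d - 1) ⊕ Fin (d - 1)) ⊕ Fin 2) → F),
      (Module.finrank F ↥W = m ∧ Cfsg.Geo.IsNondegenerateOn (QuadraticMap.polar (Cfsg.quadFormMinus (d - 1) F a b)) W ∧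
        Cfsg.Geo.AreIsometricFor (Cfsg.quadFormMinus (d - 1) F a b) W W₀) ↔ OrthOddSub.Sub (matQuad (minusMatrix (d - 1) a b)) m W₀ W := fun W => by
    rw [quadFormMinus_eq (d - 1) a b]
    exact and_congr Iff.rfl (and_congr (OrthOddSub.nd_iff _) Iff.rfl)
  have hW₀n : Nd (matQuad (minusMatrix (d - 1) a b)) W₀ := (OrthOddSub.nd_iff _).1 (by rw [← quadFormMinus_eq (d - 1) a b]; exact hW₀.2)
  simp only [hspec]
  rw [Nat.card_congr (Equiv.subtypeEquivRight hspec)] at hrΩ
  have hstep : step i = c := hc.symm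
  have htop : r ≠ p → r ≠ 2 → step i = 2 * d → (typ i 1 ↔ Plus (matQuad (minusMatrix (d - 1) a b)) ⊤) →
      ∃ X : End F ((Fin (d - 1) ⊕ Fin (d - 1)) ⊕ Fin 2 → F), X ^ r = 1 ∧
        (∀ v, matQuad (minusMatrix (d - 1) a b) (X v) = matQuad (minusMatrix (d - 1) a b) v) ∧ X ≠ 1 := by
    intro _ _ hs ht
    have ho : ¬ Odd i := fun ho => not_plus_top (by omega) hab (ht.1 (Or.inl ho))
    rw [step, if_pos (Nat.not_odd_iff_even.1 ho)] at hs
    refine OrthOddSubMain.exists_of_dvd _ ?_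
    rw [← quadFormMinus_eq, Cfsg.Agent.Lib.Classical.card_orth_minus rfl d (by omega) a b hab]
    refine dvd_mul_of_dvd_left (dvd_mul_of_dvd_right (OrthOddSubMain.half_pow (by omega) ?_) _) _
    rw [← hi, hs]
  have huni := fun hall => if he : Even d then
      OrthOddSubUnip.not_all_even (p := p) _ hQ h2 hn hd he hm hW₀n hW₀.1 hall
    else OrthOddSubUnip.not_all_odd (p := p) _ hQ h2 hn hd (Nat.not_even_iff_odd.1 he) hm (W₀ := W₀) hall
  rw [quadFormMinus_eq (d - 1) a b]
  refine Iff.trans (OrthOddSubMain.main (matQuad (minusMatrix (d - 1) a b)) hQ h2 hi.symm hn hd hm hmd hW₀n hW₀.1 htop hrΩ huni) ?_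
  have hpl : Plus (matQuad (minusMatrix (d - 1) a b)) ⊤ ↔ False := iff_false_intro (not_plus_top (by omega) hab)
  have hq2 : Fintype.card F % 2 = 1 := Nat.odd_iff.1 hodd
  simp only [OrthOddSubMain.Crit, OrthOddSubTwo.Cond, OrthOddSubMain.isSquare_two_pow h2, FiniteField.isSquare_neg_one_iff,
    FiniteField.isSquare_two_iff, hstep, hpl, iff_true, iff_false, true_iff, false_iff]
  refine or_congr (and_congr_right fun _ => ?_) ?_
  · rcases Nat.even_or_odd d with he | ho
    · simp [he, Nat.not_odd_iff_even.2 he]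
    · simp only [ho, Nat.not_even_iff_odd.2 ho, or_false, false_or, true_and, not_and, not_or, not_not]
      omega
  · rcases Nat.even_or_odd i with he | ho
    · have hci : c = i := by rw [hc, if_pos he]
      subst hci
      simp only [typ, he, Nat.not_odd_iff_even.2 he, false_and, and_false, false_or, true_and, Nat.not_even_iff_odd, Nat.not_odd_iff_even]
      refine and_congr_right fun _ => and_congr_right fun _ => ?_
      have hm0 : 0 < m % c := by
        rcases Nat.eq_zero_or_pos (m % c) with h0 | h0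
        · exfalso
          have h := Nat.div_add_mod m c
          have : (c * (m / c)) % 2 = 0 := Nat.even_iff.1 (he.mul_right _)
          have := Nat.odd_iff.1 hm
          omega
        · exact h0
      have e2 : m % c < 2 * d % c → 0 < 2 * d % c := fun h => by omega
      generalize 2 * d % c = k at e2 ⊢
      generalize m % c = l at hm0 e2 ⊢
      try simp only [false_or, and_true]
      refine ⟨fun h => ?_, fun h => ?_⟩
      · first
          | exact ⟨h.1, hm0, h.2⟩
          | (rcases h with h | ⟨h1, h3⟩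
             · exact Or.inl h
             · first | exact Or.inr ⟨e2 h3, h1, hm0, h3⟩ | exact Or.inr ⟨h1, hm0, h3⟩)
      · first
          | exact ⟨h.1, h.2.2⟩
          | (rcases h with h | h
             · exact Or.inl h
             · first | exact Or.inr ⟨h.2.1, h.2.2.2⟩ | exact Or.inr ⟨h.1, h.2.2⟩)
    · have hci : c = 2 * i := by rw [hc, if_neg (Nat.not_even_iff_odd.2 ho)]
      simp only [typ, ho, Nat.not_even_iff_odd.2 ho, false_and, and_false, or_false, true_or, true_and, not_true, not_false_iff]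
      refine and_congr_right fun _ => and_congr_right fun _ => ?_
      have hm0 : 0 < m % c := by
        rcases Nat.eq_zero_or_pos (m % c) with h0 | h0
        · exfalso
          have h := Nat.div_add_mod m c
          have : (c * (m / c)) % 2 = 0 := by rw [hci, mul_assoc]; exact Nat.mul_mod_right 2 _
          have := Nat.odd_iff.1 hm
          omega
        · exact h0
      have e2 : m % c < 2 * d % c → 0 < 2 * d % c := fun h => by omega
      generalize 2 * d % c = k at e2 ⊢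
      generalize m % c = l at hm0 e2 ⊢
      try simp only [false_or, and_true]
      refine ⟨fun h => ?_, fun h => ?_⟩
      · first
          | exact ⟨h.1, hm0, h.2⟩
          | (rcases h with h | ⟨h1, h3⟩
             · exact Or.inl h
             · first | exact Or.inr ⟨e2 h3, h1, hm0, h3⟩ | exact Or.inr ⟨h1, hm0, h3⟩)
      · first
          | exact ⟨h.1, h.2.2⟩
          | (rcases h with h | h
             · exact Or.inl h
             · first | exact Or.inr ⟨h.2.1, h.2.2.2⟩ | exact Or.inr ⟨h.1, h.2.2⟩)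

end Cfsg.Agent.S5991
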