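import Cfsg.Statements.S5992
import Cfsg.Agent.Lib.MaxSub.OrthPlusWitness
import Cfsg.Agent.Lib.Similar.OddPrimeGraph
import Mathlib

set_option maxHeartbeats 1000000
set_option linter.unusedSectionVars false

set_option autoImplicit false
open scoped MatrixGroups
open Cfsg

namespace Cfsg.Agent.S5992

open Module Cfsg.Agent.Lib.MaxSub
open Cfsg.Agent.Lib.Classical.AutPOmega (oddR coe_oddR)
open scoped _root_.Classical

theorem dim_eq (d : ℕ) : Fintype.card (Unit ⊕ (Fin d ⊕ Fin d)) = 2 * d + 1 := by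
  simp only [Fintype.card_sum, Fintype.card_unit, Fintype.card_fin]; omega

theorem spec_iff {F : Type*} [Field F] (d m : ℕ) (W : Submodule F (Unit ⊕ (Fin d ⊕ Fin d) → F)) :
    (Module.finrank F ↥W = m ∧ Cfsg.Geo.IsNondegenerateOn (QuadraticMap.polar (Cfsg.quadFormOdd d F)) W ∧ Cfsg.Geo.IsPlusTypeOn (Cfsg.quadFormOdd d F) W) ↔
      OrthNdSub.Sub (oddR d F) m True W := by
  rw [OrthNdSub.sub_iff, ← coe_oddR]
  simp

/-- Elements of prime order r ≠ p of Ω_n(q), nq odd, with no fixed hyperbolic `m`-space. Here `T = Ω_n(F)`, `n = 2d+1 ≥ 7`, `q` odd, realised as the commutator subgroup of the isometry group of `Q = x₀² + Σ xᵢyᵢ` over the field `F` with `q` elements (trivial centre, so its elements of prime order `r` are used directly); a nondegenerate `m`-space (even `m`) is a subspace on which the polar form of `Q` is nondegenerate; it is hyperbolic if it contains an `m/2`-dimensional subspace on which `Q` vanishes, elliptic otherwise. Let `m` be even with `2 ≤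 m ≤ n − 1` (no restriction `m < n/2`) and let `r ≠ p` be a prime dividing the number of hyperbolic `m`-spaces; for `r ≠ p` let `i` be the multiplicative order of `q` modulo `r`, `c = i` for `i` even and `c = 2i` for `i` odd, and write `k = n mod c`, `ℓ' = m mod c`. Then every element of `T` of order `r` fixes some hyperbolic `m`-space if and only if `r = 2`, or `r` is odd and one of: (i) `i` odd, `c ≤ m` and either `k > ℓ' > 0` or `ℓ' = 0`; (ii) `i` even, `i ≤ m`, `k > ℓ'`, and `m/i` even whenever `ℓ' = 0`. (`r = p` is not covered by this statement.) -/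
theorem result {F : Type*} [Field F] [Fintype F] {p : ℕ} [Fact p.Prime] [CharP F p] {q : ℕ} (hq : Fintype.card F = q) (hqodd : Odd q)
    (d m : ℕ) (hd : 3 ≤ d) (hm : 2 ≤ m) (hme : Even m) (hmn : m ≤ 2 * d)
    (r : ℕ) [Fact r.Prime] (hrp : r ≠ p)
    (hrΩ : r ∣ Nat.card {W : Submodule F (Unit ⊕ (Fin d ⊕ Fin d) → F) // Module.finrank F ↥W = m ∧ Cfsg.Geo.IsNondegenerateOn (QuadraticMap.polar (Cfsg.quadFormOdd d F)) W ∧ Cfsg.Geo.IsPlusTypeOn (Cfsg.quadFormOdd d F) W})
    (i c : ℕ) (hi : i = orderOf (q : ZMod r)) (hc : c = if Even i then i else 2 * i) :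
    (∀ x : GL (Unit ⊕ (Fin d ⊕ Fin d)) F, x ∈ Cfsg.Geo.omegaGL (Cfsg.quadFormOdd d F) → orderOf x = r →
      ∃ W : Submodule F (Unit ⊕ (Fin d ⊕ Fin d) → F), (Module.finrank F ↥W = m ∧ Cfsg.Geo.IsNondegenerateOn (QuadraticMap.polar (Cfsg.quadFormOdd d F)) W ∧ Cfsg.Geo.IsPlusTypeOn (Cfsg.quadFormOdd d F) W) ∧ W.map (Matrix.toLin' (x : Matrix (Unit ⊕ (Fin d ⊕ Fin d)) (Unit ⊕ (Fin d ⊕ Fin d)) F)) ≤ W) ↔
    (r = 2 ∨
     (2 < r ∧ Odd i ∧ c ≤ m ∧ (m % c = 0 ∨ (0 < m % c ∧ m % c < (2 * d + 1) % c))) ∨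
     (2 < r ∧ Even i ∧ i ≤ m ∧ m % c < (2 * d + 1) % c ∧ (0 < m % c ∨ Even (m / i)))) := by
  obtain rfl := hq
  have hp2 : p ≠ 2 := fun e => by
    subst e
    obtain ⟨n, _, hn⟩ := FiniteField.card F 2
    rw [hn, Nat.odd_pow_iff (by positivity)] at hqodd
    exact absurd hqodd (by decide)
  have h2 : (2 : F) ≠ 0 := Ring.two_ne_zero (ringChar.eq F p ▸ hp2)
  have hQ := Cfsg.Agent.Lib.Similar.OddGraph.odd_nondeg (F := F) (n := d) h2
  have hstep : IsoDecomp.step i = c := hc.symm
  simp only [spec_iff]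
  rw [coe_oddR]
  rcases eq_or_ne r 2 with h | h
  · skip
    refine iff_of_true (fun x hx hxr => ?_) (Or.inl h)
    obtain ⟨hX, hiso, -⟩ := OrthNdSub.toLin_props _ hx hxr
    subst h
    exact OrthNdSub.involution _ hQ h2 (dim_eq d) hme (by omega) hmn hX hiso
  have hr3 : 2 < r := lt_of_le_of_ne (Fact.out : r.Prime).two_le (Ne.symm h)
  rw [Nat.card_congr (Equiv.subtypeEquivRight fun W => spec_iff d m W)] at hrΩ
  refine Iff.trans (OrthNdSub.main_odd _ hQ h2 hrp h hi.symm (dim_eq d) hme (by omega) hmn hrΩ) ?_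
  rw [hstep]
  have hk : 0 < (2 * d + 1) % c := by
    have hce : c % 2 = 0 := by
      rw [hc]; split_ifs with he
      · exact Nat.even_iff.1 he
      · omega
    rcases Nat.eq_zero_or_pos ((2 * d + 1) % c) with h0 | h0
    · exfalso
      obtain ⟨t, ht⟩ := Nat.dvd_of_mod_eq_zero h0
      have : (c * t) % 2 = 0 := by rw [Nat.mul_mod, hce]; simp
      omega
    · exact h0
  rcases Nat.even_or_odd i with he | ho
  · obtain rfl : c = i := by rw [hc, if_pos he]
    simp only [OrthDecomp.typ, h, hr3, he, Nat.not_odd_iff_even.2 he, false_or, true_and, false_and, iff_true]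
    refine and_congr Iff.rfl (and_congr Iff.rfl ?_)
    rcases Nat.eq_zero_or_pos (m % c) with h0 | h0
    · simp [h0]
    · simp [h0, h0.ne']
  · simp only [OrthDecomp.typ, h, hr3, ho, Nat.not_even_iff_odd.2 ho, true_or, true_and, false_and, or_false, iff_true, false_or]
    refine and_congr Iff.rfl ?_
    rcases Nat.eq_zero_or_pos (m % c) with h0 | h0
    · simp [h0, hk]
    · simp [h0, h0.ne', hk]

end Cfsg.Agent.S5992
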