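import Cfsg.Statements.S5993
import Cfsg.Agent.Lib.MaxSub.OrthPlusWitness
import Cfsg.Agent.Lib.Similar.OddPrimeGraph
import Mathlib

set_option maxHeartbeats 1000000
set_option linter.unusedSectionVars false

set_option autoImplicit false
open scoped MatrixGroups
open Cfsg

namespace Cfsg.Agent.S5993

open Module Cfsg.Agent.Lib.MaxSub
open Cfsg.Agent.Lib.Classical.AutPOmega (oddR coe_oddR)
open scoped _root_.Classical

theorem dim_eq (d : ℕ) : Fintype.card (Unit ⊕ (Fin d ⊕ Fin d)) = 2 * d + 1 := by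
  simp only [Fintype.card_sum, Fintype.card_unit, Fintype.card_fin]; omega

theorem spec_iff {F : Type*} [Field F] (d m : ℕ) (W : Submodule F (Unit ⊕ (Fin d ⊕ Fin d) → F)) :
    (Module.finrank F ↥W = m ∧ Cfsg.Geo.IsNondegenerateOn (QuadraticMap.polar (Cfsg.quadFormOdd d F)) W ∧ ¬ Cfsg.Geo.IsPlusTypeOn (Cfsg.quadFormOdd d F) W) ↔
      OrthNdSub.Sub (oddR d F) m False W := by
  rw [OrthNdSub.sub_iff, ← coe_oddR]
  simp

/-- Elements of prime order of Ω_n(q), nq odd, with no fixed elliptic `m`-space. Here `T = Ω_n(F)`, `n = 2d+1 ≥ 7`, `q` odd, realised as the commutator subgroup of the isometry group of `Q = x₀² + Σ xᵢyᵢ` over the field `F` with `q` elements (trivial centre, so its elements of prime order `r` are used directly); a nondegenerate `m`-space (even `m`) is a subspace on which the polar form of `Q` is nondegenerate; it is hyperbolic if it contains an `m/2`-dimensional subspace on which `Q` vanishes, elliptic otherwise. Let `m` be even with `2 ≤ m ≤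 n − 1` (no restriction `m < n/2`) and let `r` be a prime dividing the number of elliptic `m`-spaces; for `r ≠ p` let `i` be the multiplicative order of `q` modulo `r`, `c = i` for `i` even and `c = 2i` for `i` odd, and write `k = n mod c`, `ℓ' = m mod c`. Then every element of `T` of order `r` fixes some elliptic `m`-space if and only if `r = 2`, or `r ≠ p` is odd and one of: (i) `i` odd, `c ≤ m` and `k > ℓ' > 0`; (ii) `i` even, `i ≤ m`, `k > ℓ'`, and `m/i` odd whenever `ℓ' = 0`. (For `r = p` there is always an element of order `p` fixing no elliptic `m`-space.) -/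
theorem result {F : Type*} [Field F] [Fintype F] {p : ℕ} [Fact p.Prime] [CharP F p] {q : ℕ} (hq : Fintype.card F = q) (hqodd : Odd q)
    (d m : ℕ) (hd : 3 ≤ d) (hm : 2 ≤ m) (hme : Even m) (hmn : m ≤ 2 * d)
    (r : ℕ) [Fact r.Prime]
    (hrΩ : r ∣ Nat.card {W : Submodule F (Unit ⊕ (Fin d ⊕ Fin d) → F) // Module.finrank F ↥W = m ∧ Cfsg.Geo.IsNondegenerateOn (QuadraticMap.polar (Cfsg.quadFormOdd d F)) W ∧ ¬ Cfsg.Geo.IsPlusTypeOn (Cfsg.quadFormOdd d F) W})
    (i c : ℕ) (hi : i = orderOf (q : ZMod r)) (hc : c = if Even i then i else 2 * i) :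
    (∀ x : GL (Unit ⊕ (Fin d ⊕ Fin d)) F, x ∈ Cfsg.Geo.omegaGL (Cfsg.quadFormOdd d F) → orderOf x = r →
      ∃ W : Submodule F (Unit ⊕ (Fin d ⊕ Fin d) → F), (Module.finrank F ↥W = m ∧ Cfsg.Geo.IsNondegenerateOn (QuadraticMap.polar (Cfsg.quadFormOdd d F)) W ∧ ¬ Cfsg.Geo.IsPlusTypeOn (Cfsg.quadFormOdd d F) W) ∧ W.map (Matrix.toLin' (x : Matrix (Unit ⊕ (Fin d ⊕ Fin d)) (Unit ⊕ (Fin d ⊕ Fin d)) F)) ≤ W) ↔
    (r = 2 ∨
     (r ≠ p ∧ 2 < r ∧ Odd i ∧ c ≤ m ∧ 0 < m % c ∧ m % c < (2 * d + 1) % c) ∨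
     (r ≠ p ∧ 2 < r ∧ Even i ∧ i ≤ m ∧ m % c < (2 * d + 1) % c ∧ (0 < m % c ∨ Odd (m / i)))) := by
  obtain rfl := hq
  have hp2 : p ≠ 2 := fun e => by
    subst e
    obtain ⟨n, _, hn⟩ := FiniteField.card F 2
    rw [hn, Nat.odd_pow_iff (by positivity)] at hqodd
    exact absurd hqodd (by decide)
  have h2 : (2 : F) ≠ 0 := Ring.two_ne_zero (ringChar.eq F p ▸ hp2)
  have hQ := Cfsg.Agent.Lib.Similar.OddGraph.odd_nondeg (F := F) (n := d) h2
  have hstep : IsoDecomp.step i = c := hc.symm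
  simp only [spec_iff]
  rw [coe_oddR]
  rcases eq_or_ne r 2 with h | h
  · skip
    refine iff_of_true (fun x hx hxr => ?_) (Or.inl h)
    obtain ⟨hX, hiso, -⟩ := OrthNdSub.toLin_props _ hx hxr
    subst h
    exact OrthNdSub.involution _ hQ h2 (dim_eq d) hme (by omega) hmn hX hiso
  have hr3 : 2 < r := lt_of_le_of_ne (Fact.out : r.Prime).two_le (Ne.symm h)
  rcases eq_or_ne r p with hrp | hrp
  · subst hrp
    simp only [h, ne_eq, not_true_eq_false, false_and, or_false, iff_false]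
    intro hall
    have hp3 : 3 ≤ r := hr3
    obtain ⟨x, hxi, hxr, hxX⟩ := OrthNdSub.exists_matrix (oddR d F) (r := r) (OrthPlusWitness.wit_pow (F := F) (d := d) hp3)
      (OrthPlusWitness.wit_iso h2)
    have hbig := OrthPlusWitness.wit_big (F := F) (d := d) h2
    have hx1 : x ≠ 1 := fun e => by
      rw [e, Units.val_one, Matrix.toLin'_one] at hxX
      rw [← hxX, show (LinearMap.id : Module.End F (Unit ⊕ (Fin d ⊕ Fin d) → F)) - 1 = 0 from sub_self _, LinearMap.range_zero,
        inf_bot_eq, finrank_bot] at hbig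
      omega
    obtain ⟨W, ⟨hWd, hW, hWp⟩, hWi⟩ := hall x (OrthDecomp.mem_omega _ hQ h2 h (by rw [dim_eq]; omega) hxi hxr)
      (orderOf_eq_prime hxr hx1)
    rw [hxX] at hWi
    exact hWp.1 (OrthPlusWitness.plus_of_big _ hQ h2 (dim_eq d) (Fact.out : r.Prime).pos (OrthPlusWitness.wit_pow hp3)
      (OrthPlusWitness.wit_iso h2) hbig hW hWi (hWd ▸ hme))
  rw [Nat.card_congr (Equiv.subtypeEquivRight fun W => spec_iff d m W)] at hrΩ
  refine Iff.trans (OrthNdSub.main_odd _ hQ h2 hrp h hi.symm (dim_eq d) hme (by omega) hmn hrΩ) ?_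
  rw [hstep]
  rcases Nat.even_or_odd i with he | ho
  · obtain rfl : c = i := by rw [hc, if_pos he]
    simp only [OrthDecomp.typ, h, hrp, hr3, he, Nat.not_odd_iff_even.2 he, ne_eq, not_false_eq_true, false_or, true_and,
      false_and, iff_false, Nat.not_even_iff_odd]
    refine and_congr Iff.rfl (and_congr Iff.rfl ?_)
    rcases Nat.eq_zero_or_pos (m % c) with h0 | h0
    · simp [h0]
    · simp [h0, h0.ne']
  · simp only [OrthDecomp.typ, h, hrp, hr3, ho, Nat.not_even_iff_odd.2 ho, ne_eq, not_false_eq_true, true_or, true_and,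
      false_and, or_false, iff_false, not_true_eq_false, false_or]
    refine and_congr Iff.rfl ?_
    rcases Nat.eq_zero_or_pos (m % c) with h0 | h0
    · simp [h0]
    · simp [h0, h0.ne']

end Cfsg.Agent.S5993
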