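import Cfsg.Statements.S5994
import Mathlib
import Cfsg.Agent.Lib.MaxSub.UnipotentOrth
import Cfsg.Agent.Lib.Geometry.OrthNegOne

set_option autoImplicit false
set_option maxHeartbeats 1000000
open scoped MatrixGroups
open Cfsg
open Matrix

namespace Cfsg.Agent.S5994

open Cfsg.Agent.Lib.MaxSub
open Cfsg.Agent.Lib.Geometry (matQuad plusMatrix minusMatrix)
open QuadraticMap (polarBilin)

/-- A necessary condition for every element of order p of PΩ⁻_n(q), q odd, to fix an elliptic `m`-space. Here `T = PΩ⁻_n(F)`, `n = 2d ≥ 8`, realised through `Ω⁻_n(q)`, the commutator subgroup of the isometry group of `Q = Σ_{i<d−1} xᵢyᵢ + z₁² + a z₁z₂ + b z₂²` with `z₁² + a z₁z₂ + b z₂²` anisotropic, over the field `F` with `q` elements; an element of `T` of prime order `r` is an element `x` of `Ω⁻_n(q)` with `x^r` scalar and `x` not scalar; `q` is odd; a nondegenerate `m`-space (even `m`) is a subspace on which the polar form of `Q` is nondegenerate; it is hyperbolic if it contains an `m/2`-dimensional subspace on which `Q` vanishes,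 elliptic otherwise. Let `m` be even with `2 ≤ m ≤ n − 2` and suppose `p` divides the number of elliptic `m`-spaces. If every element of `T` of order `p` fixes some elliptic `m`-space, then `n ≡ m (mod 4)` and every partition of `n` into parts of size at most `p` in which every even part has even multiplicity contains (as a sub-multiset) a partition of `m` in which every even part has even multiplicity. -/
theorem result {F : Type*} [Field F] [Fintype F] {p : ℕ} [Fact p.Prime] [CharP F p] {q : ℕ} (hq : Fintype.card F = q) (hqodd : Odd q)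
    (d m : ℕ) (hd : 4 ≤ d) (hm : 2 ≤ m) (hme : Even m) (hmn : m + 2 ≤ 2 * d) (a b : F) (hab : ∀ x y : F, x ^ 2 + a * x * y + b * y ^ 2 = 0 → x = 0 ∧ y = 0)
    (hpΩ : p ∣ Nat.card {W : Submodule F ((Fin (d - 1) ⊕ Fin (d - 1)) ⊕ Fin 2 → F) // Module.finrank F ↥W = m ∧ Cfsg.Geo.IsNondegenerateOn (QuadraticMap.polar (Cfsg.quadFormMinus (d - 1) F a b)) W ∧ ¬ Cfsg.Geo.IsPlusTypeOn (Cfsg.quadFormMinus (d - 1) F a b) W}) :
    (∀ x : GL ((Fin (d - 1) ⊕ Fin (d - 1)) ⊕ Fin 2) F, x ∈ Cfsg.Geo.omegaGL (Cfsg.quadFormMinus (d - 1) F a b) →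
      (∃ z : F, ((x ^ p : GL ((Fin (d - 1) ⊕ Fin (d - 1)) ⊕ Fin 2) F) : Matrix ((Fin (d - 1) ⊕ Fin (d - 1)) ⊕ Fin 2) ((Fin (d - 1) ⊕ Fin (d - 1)) ⊕ Fin 2) F) = z • (1 : Matrix ((Fin (d - 1) ⊕ Fin (d - 1)) ⊕ Fin 2) ((Fin (d - 1) ⊕ Fin (d - 1)) ⊕ Fin 2) F)) →
      (∀ z : F, (x : Matrix ((Fin (d - 1) ⊕ Fin (d - 1)) ⊕ Fin 2) ((Fin (d - 1) ⊕ Fin (d - 1)) ⊕ Fin 2) F) ≠ z • (1 : Matrix ((Fin (d - 1) ⊕ Fin (d - 1)) ⊕ Fin 2) ((Fin (d - 1) ⊕ Fin (d - 1)) ⊕ Fin 2) F)) →
      ∃ W : Submodule F ((Fin (d - 1) ⊕ Fin (d - 1)) ⊕ Fin 2 → F), (Module.finrank F ↥W = m ∧ Cfsg.Geo.IsNondegenerateOn (QuadraticMap.polar (Cfsg.quadFormMinus (d - 1) F a b)) W ∧ ¬ Cfsg.Geo.IsPlusTypeOn (Cfsg.quadFormMinus (d - 1) F a b) W) ∧ W.map (Matrix.toLin' (x : Matrix ((Fin (d - 1) ⊕ Fin (d - 1)) ⊕ Fin 2) ((Fin (d - 1) ⊕ Fin (d - 1)) ⊕ Fin 2) F)) ≤ W) →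
    ((2 * d) % 4 = m % 4 ∧ (∀ μ : Multiset ℕ, (∀ e ∈ μ, 0 < e ∧ e ≤ p) → (∀ e : ℕ, Even e → Even (μ.count e)) → μ.sum = 2 * d →
        ∃ ν : Multiset ℕ, ν ≤ μ ∧ ν.sum = m ∧ ∀ e : ℕ, Even e → Even (ν.count e))) := by
  classical
  intro hall
  have hp : p.Prime := Fact.out
  have h2 : (2 : F) ≠ 0 := by
    intro h
    have := (FiniteField.even_card_iff_char_two (F := F)).1 (ringChar.eq_iff.2 (CharTwo.of_one_ne_zero_of_two_eq_zero one_ne_zero h))
    rw [hq] at this
    exact Nat.not_even_iff_odd.2 hqodd (Nat.even_iff.2 this)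
  have hp3 : 3 ≤ p := by
    have := hp.two_le
    by_contra h
    have e : p = 2 := by omega
    subst e
    exact h2 CharTwo.two_eq_zero
  obtain ⟨m', hm'⟩ := hme
  let QM : QuadraticForm F ((Fin (d - 1) ⊕ Fin (d - 1)) ⊕ Fin 2 → F) := matQuad (minusMatrix (d - 1) a b)
  have hQM : Cfsg.quadFormMinus (d - 1) F a b = ⇑QM := Cfsg.Agent.Lib.Geometry.quadFormMinus_eq _ a b
  have hnd : (polarBilin QM).Nondegenerate := by
    refine Cfsg.Agent.Lib.Geometry.polarBilin_matQuad_nondegenerate ?_
    rw [Cfsg.Agent.Lib.Geometry.det_minusGram]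
    refine mul_ne_zero (pow_ne_zero _ (neg_ne_zero.2 one_ne_zero)) fun h => ?_
    have := hab (-a / 2) 1 (by field_simp; linear_combination h)
    exact one_ne_zero this.2
  rw [hQM] at hall
  have hcard : Fintype.card ((Fin (d - 1) ⊕ Fin (d - 1)) ⊕ Fin 2) = 2 * d := by
    simp only [Fintype.card_sum, Fintype.card_fin]; omega
  have key : ∀ μ : Multiset ℕ, (∀ e ∈ μ, 0 < e ∧ e ≤ p) → (∀ e : ℕ, Even e → Even (μ.count e)) → μ.sum = 2 * d →
      (∃ e ∈ μ, e ≠ 1) → (∃ e ∈ μ, Odd e) →
      ∃ (W : Submodule F ((Fin (d - 1) ⊕ Fin (d - 1)) ⊕ Fin 2 → F)) (N : Module.End F ((Fin (d - 1) ⊕ Fin (d - 1)) ⊕ Fin 2 → F))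
        (ν : Multiset ℕ), (Module.finrank F ↥W = m ∧ Cfsg.Geo.IsNondegenerateOn (QuadraticMap.polar ⇑QM) W ∧ ¬ Cfsg.Geo.IsPlusTypeOn (⇑QM) W) ∧
        N ^ p = 0 ∧ W.map N ≤ W ∧ (∀ u v, polarBilin QM (u + N u) (v + N v) = polarBilin QM u v) ∧
        ν = UnipotentOrth.blocks N W p ∧ ν ≤ μ ∧ ν.sum = m ∧ ∀ e : ℕ, Even e → Even (ν.count e) := by
    intro μ hμ hpar hsum hne hodd
    obtain ⟨W, N, ν, hW, h3, h4, h5, h6, hle, hνs, hνp⟩ := UnipotentOrth.exists_witness (p := p) h2 QM hnd
      (fun W => Module.finrank F ↥W = m ∧ Cfsg.Geo.IsNondegenerateOn (QuadraticMap.polar ⇑QM) W ∧ ¬ Cfsg.Geo.IsPlusTypeOn (⇑QM) W)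
      (fun W h => h.2.1) (fun x hx hxp hns => hall x hx ⟨1, by rw [hxp, Units.val_one, one_smul]⟩ hns) μ hμ hpar
      (by rw [hsum, hcard]) hne (Or.inl hodd)
    exact ⟨W, N, ν, hW, h3, h4, h5, h6, hle, hνs.trans hW.1, hνp⟩
  have h4m : (2 * d) % 4 = m % 4 := by
    by_contra hmod
    rcases Nat.even_or_odd d with ⟨t, ht⟩ | ⟨t, ht⟩
    · -- blocks 3, 1 and pairs of 2
      obtain ⟨W, N, ν, -, -, -, -, -, hle, hνs, hνp⟩ := key (3 ::ₘ 1 ::ₘ Multiset.replicate (d - 2) 2)
        (fun e he => by
          rcases Multiset.mem_cons.1 he with rfl | he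
          · omega
          rcases Multiset.mem_cons.1 he with rfl | he
          · omega
          · rw [Multiset.eq_of_mem_replicate he]; omega)
        (fun e he => by
          obtain ⟨u, hu⟩ := he
          rw [Multiset.count_cons_of_ne (by omega), Multiset.count_cons_of_ne (by omega), Multiset.count_replicate]
          split_ifs
          · exact ⟨t - 1, by omega⟩
          · exact Even.zero)
        (by simp only [Multiset.sum_cons, Multiset.sum_replicate, smul_eq_mul]; omega)
        ⟨3, Multiset.mem_cons_self _ _, by norm_num⟩ ⟨3, Multiset.mem_cons_self _ _, by decide⟩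
      have hc3 : ν.count 3 ≤ 1 := (Multiset.count_le_of_le 3 hle).trans (by simp [Multiset.count_replicate])
      have hc1 : ν.count 1 ≤ 1 := (Multiset.count_le_of_le 1 hle).trans (by simp [Multiset.count_replicate])
      obtain ⟨s, hs⟩ := hνp 2 even_two
      have hsum : ν.sum = 3 * ν.count 3 + ν.count 1 + 2 * ν.count 2 := by
        have : ν = Multiset.replicate (ν.count 3) 3 + Multiset.replicate (ν.count 1) 1 + Multiset.replicate (ν.count 2) 2 := by
          ext e
          simp only [Multiset.count_add, Multiset.count_replicate]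
          by_cases h3' : e = 3
          · subst h3'; simp
          by_cases h1' : e = 1
          · subst h1'; simp
          by_cases h2' : e = 2
          · subst h2'; simp
          · rw [if_neg (Ne.symm h3'), if_neg (Ne.symm h1'), if_neg (Ne.symm h2')]
            refine Nat.le_zero.1 ((Multiset.count_le_of_le e hle).trans ?_)
            rw [Multiset.count_cons_of_ne h3', Multiset.count_cons_of_ne h1', Multiset.count_replicate, if_neg (Ne.symm h2')]
        conv_lhs => rw [this]
        simp only [Multiset.sum_add, Multiset.sum_replicate, smul_eq_mul]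
        ring
      rw [hνs] at hsum
      rcases (show ν.count 3 = 0 ∨ ν.count 3 = 1 by omega) with h | h <;>
        rcases (show ν.count 1 = 0 ∨ ν.count 1 = 1 by omega) with h' | h' <;>
        rw [h, h'] at hsum <;> omega
    · -- blocks 1, 1 and pairs of 2
      obtain ⟨W, N, ν, hW, hNp, hNW, hiso, hν, hle, hνs, hνp⟩ := key (1 ::ₘ 1 ::ₘ Multiset.replicate (d - 1) 2)
        (fun e he => by
          rcases Multiset.mem_cons.1 he with rfl | he
          · omega
          rcases Multiset.mem_cons.1 he with rfl | he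
          · omega
          · rw [Multiset.eq_of_mem_replicate he]; omega)
        (fun e he => by
          obtain ⟨u, hu⟩ := he
          rw [Multiset.count_cons_of_ne (by omega), Multiset.count_cons_of_ne (by omega), Multiset.count_replicate]
          split_ifs
          · exact ⟨t, by omega⟩
          · exact Even.zero)
        (by simp only [Multiset.sum_cons, Multiset.sum_replicate, smul_eq_mul]; omega)
        ⟨2, Multiset.mem_cons_of_mem (Multiset.mem_cons_of_mem (Multiset.mem_replicate.2 ⟨by omega, rfl⟩)), by norm_num⟩ ⟨1, Multiset.mem_cons_self _ _, odd_one⟩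
      have hc1 : ν.count 1 ≤ 2 := (Multiset.count_le_of_le 1 hle).trans (by simp [Multiset.count_replicate])
      obtain ⟨s, hs⟩ := hνp 2 even_two
      have hzero : ∀ e, e ≠ 1 → e ≠ 2 → ν.count e = 0 := fun e h1 h2' => Nat.le_zero.1
        ((Multiset.count_le_of_le e hle).trans (by
          simp [Multiset.count_cons_of_ne h1, Multiset.count_replicate, if_neg (Ne.symm h2')]))
      have hsum : ν.sum = ν.count 1 + 2 * ν.count 2 := by
        have : ν = Multiset.replicate (ν.count 1) 1 + Multiset.replicate (ν.count 2) 2 := by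
          ext e
          simp only [Multiset.count_add, Multiset.count_replicate]
          by_cases h1 : e = 1
          · subst h1; simp
          by_cases h2' : e = 2
          · subst h2'; simp
          · rw [hzero e h1 h2', if_neg (Ne.symm h1), if_neg (Ne.symm h2')]
        conv_lhs => rw [this]
        simp only [Multiset.sum_add, Multiset.sum_replicate, smul_eq_mul]
        ring
      rw [hνs] at hsum
      have hc10 : ν.count 1 = 0 := by omega
      -- so `W` is of plus type
      apply hW.2.2
      have hcnt : ∀ e, 1 ≤ e → e ≤ p → e ≠ 2 → UnipotentOrth.drop N W (e - 1) = UnipotentOrth.drop N W e := by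
        intro e h1 hep h2'
        have h : ν.count e = 0 := by
          by_cases he1 : e = 1
          · rw [he1, hc10]
          · exact hzero e he1 h2'
        rw [hν, UnipotentOrth.blocks_count, if_pos ⟨h1, hep⟩] at h
        have := UnipotentOrth.drop_anti N hNW (e - 1)
        rw [Nat.sub_add_cancel h1] at this
        omega
      have hdp : UnipotentOrth.drop N W p = 0 := by
        unfold UnipotentOrth.drop
        rw [hNp, Submodule.map_zero, finrank_bot, Nat.zero_sub]
      have hd2 : ∀ k, 2 + k ≤ p → UnipotentOrth.drop N W 2 = UnipotentOrth.drop N W (2 + k) := by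
        intro k
        induction k with
        | zero => intro _; rfl
        | succ k ih =>
          intro hk
          rw [ih (by omega), ← hcnt (2 + (k + 1)) (by omega) hk (by omega)]
          congr 1
      have hd20 : UnipotentOrth.drop N W 2 = 0 := by
        rw [hd2 (p - 2) (by omega), show 2 + (p - 2) = p by omega, hdp]
      have hN2 : W.map (N ^ 2) = ⊥ := by
        have hle2 : ∀ k, 2 + k ≤ p → Module.finrank F (W.map (N ^ 2)) = Module.finrank F (W.map (N ^ (2 + k))) := by
          intro k
          induction k with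
          | zero => intro _; rfl
          | succ k ih =>
            intro hk
            have h1 := (UnipotentOrth.drop_eq N hNW (2 + k)).2
            rw [← hd2 k (by omega), hd20, zero_add] at h1
            rw [ih (by omega), ← h1]
            rfl
        rw [← Submodule.finrank_eq_zero, hle2 (p - 2) (by omega), show 2 + (p - 2) = p by omega, hNp,
          Submodule.map_zero, finrank_bot]
      have hd01 := hcnt 1 le_rfl (by omega) (by omega)
      have e0 := (UnipotentOrth.drop_eq N hNW 0).2
      have e1 := (UnipotentOrth.drop_eq N hNW 1).2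
      rw [pow_zero, Module.End.one_eq_id, Submodule.map_id, pow_one] at e0
      rw [hN2, finrank_bot, add_zero, pow_one] at e1
      refine ⟨W.map N, hNW, ?_, ?_⟩
      · rintro _ ⟨v, hv, rfl⟩
        have hNN : N (N v) = 0 := by
          have : (N ^ 2) v ∈ W.map (N ^ 2) := Submodule.mem_map_of_mem hv
          rw [hN2, Submodule.mem_bot, pow_two, Module.End.mul_apply] at this
          exact this
        have h := hiso v (N v)
        rw [hNN, add_zero, map_add, LinearMap.add_apply, add_eq_left] at h
        rw [Cfsg.Agent.Lib.Geometry.quad_polar_self] at h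
        have h' : (2 : F) * QM (N v) = 0 := by linear_combination h
        exact (mul_eq_zero.1 h').resolve_left h2
      · simp only [Nat.sub_self] at hd01
        omega
  refine ⟨h4m, fun μ hμ hpar hsum => ?_⟩
  by_cases hne : ∃ e ∈ μ, e ≠ 1
  · by_cases hodd : ∃ e ∈ μ, Odd e
    · obtain ⟨W, N, ν, -, -, -, -, -, hle, hνs, hνp⟩ := key μ hμ hpar hsum hne hodd
      exact ⟨ν, hle, hνs, hνp⟩
    push Not at hodd
    have hev : ∀ e ∈ μ, Even e := fun e he => Nat.not_odd_iff_even.1 (hodd e he)
    -- split one pair of equal even parts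
    obtain ⟨e, he, -⟩ := hne
    obtain ⟨s, hs⟩ := hev e he
    obtain ⟨h0e, hep⟩ := hμ e he
    obtain ⟨t, ht⟩ := hp.odd_of_ne_two (by omega)
    have hcnt := hpar e ⟨s, hs⟩
    obtain ⟨ρ, rfl⟩ := Multiset.exists_cons_of_mem he
    have he' : e ∈ ρ := by
      rw [Multiset.count_cons_self] at hcnt
      by_contra hc
      rw [Multiset.count_eq_zero.2 hc] at hcnt
      simp at hcnt
    obtain ⟨ρ, rfl⟩ := Multiset.exists_cons_of_mem he'
    have hρev : ∀ c ∈ ρ, Even c := fun c hc => hev c (by simp [hc])
    have hρpar : ∀ c, Even c → Even (ρ.count c) := fun c hc => by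
      have := hpar c hc
      by_cases hce : c = e
      · subst hce
        rw [Multiset.count_cons_self, Multiset.count_cons_self, Nat.even_add_one, Nat.not_even_iff_odd,
          Nat.odd_add_one, Nat.not_odd_iff_even] at this
        exact this
      · rwa [Multiset.count_cons_of_ne hce, Multiset.count_cons_of_ne hce] at this
    simp only [Multiset.sum_cons] at hsum
    obtain ⟨W, N, ν, -, -, -, -, -, hle, hνs, hνp⟩ := key ((e - 1) ::ₘ (e + 1) ::ₘ ρ)
      (fun c hc => by
        rcases Multiset.mem_cons.1 hc with rfl | hc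
        · omega
        rcases Multiset.mem_cons.1 hc with rfl | hc
        · omega
        · exact hμ c (by simp [hc]))
      (fun c hc => by
        obtain ⟨u, hu⟩ := hc
        rw [Multiset.count_cons_of_ne (by omega), Multiset.count_cons_of_ne (by omega)]
        exact hρpar c ⟨u, hu⟩)
      (by simp only [Multiset.sum_cons]; omega)
      ⟨e + 1, by simp, by omega⟩ ⟨e + 1, by simp, ⟨s, by omega⟩⟩
    set ν₁ := ν.filter (fun c => Even c) with hν₁
    set ν₂ := ν.filter (fun c => ¬ Even c) with hν₂
    have hν12 : ν₁ + ν₂ = ν := Multiset.filter_add_not _ ν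
    have hle1 : ν₁ ≤ ρ := by
      have h := Multiset.filter_le_filter (fun c => Even c) hle
      rw [Multiset.filter_cons_of_neg _ (by rintro ⟨u, hu⟩; omega), Multiset.filter_cons_of_neg _ (by rintro ⟨u, hu⟩; omega),
        Multiset.filter_eq_self.2 hρev] at h
      exact h
    have hle2 : ν₂ ≤ (e - 1) ::ₘ (e + 1) ::ₘ 0 := by
      have h := Multiset.filter_le_filter (fun c => ¬ Even c) hle
      rw [Multiset.filter_cons_of_pos _ (by rintro ⟨u, hu⟩; omega), Multiset.filter_cons_of_pos _ (by rintro ⟨u, hu⟩; omega),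
        Multiset.filter_eq_nil.2 (fun c hc => not_not.2 (hρev c hc))] at h
      exact h
    have hp1 : ∀ c, Even c → Even (ν₁.count c) := fun c hc => by
      rw [hν₁, Multiset.count_filter_of_pos (p := fun c => Even c) hc]; exact hνp c hc
    have hs1 := UnipotentOrth.four_dvd_sum (μ := ν₁) (fun c hc => (Multiset.mem_filter.1 hc).2) hp1
    have hm4 : 4 ∣ m := by
      have := UnipotentOrth.four_dvd_sum (μ := e ::ₘ e ::ₘ ρ) hev hpar
      simp only [Multiset.sum_cons] at this
      omega
    rw [← hν12, Multiset.sum_add] at hνs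
    have ha : ν₂.count (e - 1) ≤ 1 := (Multiset.count_le_of_le _ hle2).trans (by
      rw [Multiset.count_cons_self, Multiset.count_cons_of_ne (by omega)]; simp)
    have hb : ν₂.count (e + 1) ≤ 1 := (Multiset.count_le_of_le _ hle2).trans (by
      rw [Multiset.count_cons_of_ne (by omega), Multiset.count_cons_self]; simp)
    have h2e : ν₂ = Multiset.replicate (ν₂.count (e - 1)) (e - 1) + Multiset.replicate (ν₂.count (e + 1)) (e + 1) := by
      ext c
      simp only [Multiset.count_add, Multiset.count_replicate]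
      by_cases h1 : c = e - 1
      · subst h1; rw [if_pos rfl, if_neg (by omega), add_zero]
      by_cases h2' : c = e + 1
      · subst h2'; rw [if_pos rfl, if_neg (by omega), zero_add]
      · rw [if_neg (Ne.symm h1), if_neg (Ne.symm h2'), Nat.le_zero.1 ((Multiset.count_le_of_le c hle2).trans (by
          rw [Multiset.count_cons_of_ne h1, Multiset.count_cons_of_ne h2']; simp))]
    have hs2 : ν₂.sum = ν₂.count (e - 1) * (e - 1) + ν₂.count (e + 1) * (e + 1) := by
      conv_lhs => rw [h2e]
      simp [Multiset.sum_add, Multiset.sum_replicate]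
    rcases (show ν₂.count (e - 1) = 0 ∨ ν₂.count (e - 1) = 1 by omega) with hA | hA <;>
      rcases (show ν₂.count (e + 1) = 0 ∨ ν₂.count (e + 1) = 1 by omega) with hB | hB <;>
      rw [hA, hB] at hs2
    · exact ⟨ν₁, hle1.trans ((Multiset.le_cons_self _ _).trans (Multiset.le_cons_self _ _)), by omega, hp1⟩
    · omega
    · omega
    · refine ⟨e ::ₘ e ::ₘ ν₁, (Multiset.cons_le_cons_iff e).2 ((Multiset.cons_le_cons_iff e).2 hle1), ?_, fun c hc => ?_⟩
      · simp only [Multiset.sum_cons]; omega
      · by_cases hce : c = e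
        · subst hce
          rw [Multiset.count_cons_self, Multiset.count_cons_self, Nat.even_add_one, Nat.not_even_iff_odd,
            Nat.odd_add_one, Nat.not_odd_iff_even]
          exact hp1 c hc
        · rw [Multiset.count_cons_of_ne hce, Multiset.count_cons_of_ne hce]
          exact hp1 c hc
  · push Not at hne
    have hμ1 := Multiset.eq_replicate_card.2 hne
    refine ⟨Multiset.replicate m 1, ?_, by simp, fun e he => ?_⟩
    · rw [hμ1, Multiset.replicate_le_replicate]
      rw [hμ1, Multiset.sum_replicate, smul_eq_mul, mul_one] at hsum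
      omega
    · rw [Multiset.count_replicate, if_neg]
      · exact Even.zero
      · rintro rfl
        exact Nat.not_even_one he

end Cfsg.Agent.S5994
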