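import Cfsg.Statements.S5995
import Mathlib
import Cfsg.Agent.Lib.MaxSub.UnipotentOrth
import Cfsg.Agent.Lib.Geometry.OrthNegOne

set_option autoImplicit false
set_option maxHeartbeats 1000000
open scoped MatrixGroups
open Cfsg
open Matrix

namespace Cfsg.Agent.S5995

open Cfsg.Agent.Lib.MaxSub
open Cfsg.Agent.Lib.Geometry (matQuad plusMatrix minusMatrix)
open QuadraticMap (polarBilin)

/-- The Gram matrix defining `quadFormOdd`. -/
def oddMatrix (F : Type*) [Field F] (d : ℕ) : Matrix (Unit ⊕ (Fin d ⊕ Fin d)) (Unit ⊕ (Fin d ⊕ Fin d)) F :=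
  Matrix.fromBlocks 1 0 0 (plusMatrix d F)

theorem quadFormOdd_eq (F : Type*) [Field F] (d : ℕ) : Cfsg.quadFormOdd d F = ⇑(matQuad (oddMatrix F d)) := by
  funext v
  rw [Cfsg.Agent.Lib.Geometry.matQuad_apply, oddMatrix, Matrix.fromBlocks_mulVec]
  simp [dotProduct, Fintype.sum_sum_type, Cfsg.quadFormOdd, plusMatrix, Matrix.fromBlocks_mulVec, pow_two]

/-- A necessary condition for every element of order p of Ω_n(q), nq odd, to fix a hyperbolic `m`-space. Here `T = Ω_n(F)`, `n = 2d+1 ≥ 7`, `q` odd, realised as the commutator subgroup of the isometry group of `Q = x₀² + Σ xᵢyᵢ` over the field `F` with `q` elements (trivial centre, so its elements of prime order `r` are used directly); a nondegenerate `m`-space (even `m`) is a subspace on which the polar form of `Q` is nondegenerate; it is hyperbolic if it contains an `m/2`-dimensional subspace on which `Q` vanishes, elliptic otherwise. Let `m` be even with `2 ≤ m ≤ n − 1` and suppose `p` divides the number of hyperbolic `m`-spaces. If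 every element of `T` of order `p` fixes some hyperbolic `m`-space, then `m ≡ 0 (mod 4)` and every partition of `n` into parts of size at most `p` in which every even part has even multiplicity contains (as a sub-multiset) a partition of `m` in which every even part has even multiplicity. -/
theorem result {F : Type*} [Field F] [Fintype F] {p : ℕ} [Fact p.Prime] [CharP F p] {q : ℕ} (hq : Fintype.card F = q) (hqodd : Odd q)
    (d m : ℕ) (hd : 3 ≤ d) (hm : 2 ≤ m) (hme : Even m) (hmn : m ≤ 2 * d)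
    (hpΩ : p ∣ Nat.card {W : Submodule F (Unit ⊕ (Fin d ⊕ Fin d) → F) // Module.finrank F ↥W = m ∧ Cfsg.Geo.IsNondegenerateOn (QuadraticMap.polar (Cfsg.quadFormOdd d F)) W ∧ Cfsg.Geo.IsPlusTypeOn (Cfsg.quadFormOdd d F) W}) :
    (∀ x : GL (Unit ⊕ (Fin d ⊕ Fin d)) F, x ∈ Cfsg.Geo.omegaGL (Cfsg.quadFormOdd d F) → orderOf x = p →
      ∃ W : Submodule F (Unit ⊕ (Fin d ⊕ Fin d) → F), (Module.finrank F ↥W = m ∧ Cfsg.Geo.IsNondegenerateOn (QuadraticMap.polar (Cfsg.quadFormOdd d F)) W ∧ Cfsg.Geo.IsPlusTypeOn (Cfsg.quadFormOdd d F) W) ∧ W.map (Matrix.toLin' (x : Matrix (Unit ⊕ (Fin d ⊕ Fin d)) (Unit ⊕ (Fin d ⊕ Fin d)) F)) ≤ W) →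
    (m % 4 = 0 ∧ (∀ μ : Multiset ℕ, (∀ e ∈ μ, 0 < e ∧ e ≤ p) → (∀ e : ℕ, Even e → Even (μ.count e)) → μ.sum = 2 * d + 1 →
        ∃ ν : Multiset ℕ, ν ≤ μ ∧ ν.sum = m ∧ ∀ e : ℕ, Even e → Even (ν.count e))) := by
  classical
  intro hall
  have hp : p.Prime := Fact.out
  have h2 : (2 : F) ≠ 0 := by
    intro h
    have := (FiniteField.even_card_iff_char_two (F := F)).1 (ringChar.eq_iff.2 (CharTwo.of_one_ne_zero_of_two_eq_zero one_ne_zero h))
    rw [hq] at this
    exact Nat.not_even_iff_odd.2 hqodd (Nat.even_iff.2 this)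
  have hp3 : 3 ≤ p := by
    have := hp.two_le
    by_contra h
    have e : p = 2 := by omega
    subst e
    exact h2 CharTwo.two_eq_zero
  let QO : QuadraticForm F (Unit ⊕ (Fin d ⊕ Fin d) → F) := matQuad (oddMatrix F d)
  have hQO : Cfsg.quadFormOdd d F = ⇑QO := quadFormOdd_eq F d
  have hnd : (polarBilin QO).Nondegenerate := by
    refine Cfsg.Agent.Lib.Geometry.polarBilin_matQuad_nondegenerate ?_
    rw [oddMatrix, Matrix.fromBlocks_transpose, Matrix.fromBlocks_add, Matrix.transpose_zero, Matrix.transpose_zero,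
      add_zero, add_zero, Matrix.det_fromBlocks_zero₂₁, Cfsg.Agent.Lib.Geometry.det_plusGram]
    refine mul_ne_zero ?_ (pow_ne_zero _ (neg_ne_zero.2 one_ne_zero))
    rw [Matrix.det_unique, Matrix.add_apply, Matrix.transpose_apply, Matrix.one_apply_eq, one_add_one_eq_two]
    exact h2
  rw [hQO] at hall
  have key : ∀ μ : Multiset ℕ, (∀ e ∈ μ, 0 < e ∧ e ≤ p) → (∀ e : ℕ, Even e → Even (μ.count e)) → μ.sum = 2 * d + 1 →
      ∃ ν : Multiset ℕ, ν ≤ μ ∧ ν.sum = m ∧ ∀ e : ℕ, Even e → Even (ν.count e) := by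
    intro μ hμ hpar hsum
    by_cases hne : ∃ b ∈ μ, b ≠ 1
    · obtain ⟨W, N, ν, hW, -, -, -, -, hle, hνs, hνp⟩ := UnipotentOrth.exists_witness (p := p) h2 QO hnd
        (fun W => Module.finrank F ↥W = m ∧ Cfsg.Geo.IsNondegenerateOn (QuadraticMap.polar ⇑QO) W ∧ Cfsg.Geo.IsPlusTypeOn (⇑QO) W)
        (fun W h => h.2.1) (fun x hx hxp hns => hall x hx (orderOf_eq_prime hxp fun h => hns 1 (by rw [h, Units.val_one, one_smul])))
        μ hμ hpar
        (by rw [hsum, Fintype.card_sum, Fintype.card_sum, Fintype.card_fin, Fintype.card_unit]; omega) hne (by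
          refine Or.inl ?_
          by_contra hodd
          push Not at hodd
          have h4 := UnipotentOrth.four_dvd_sum (fun b hb => Nat.not_odd_iff_even.1 (hodd b hb)) hpar
          omega)
      exact ⟨ν, hle, hνs.trans hW.1, hνp⟩
    · push Not at hne
      have hμ1 := Multiset.eq_replicate_card.2 hne
      refine ⟨Multiset.replicate m 1, ?_, by simp, fun e he => ?_⟩
      · rw [hμ1, Multiset.replicate_le_replicate]
        rw [hμ1, Multiset.sum_replicate, smul_eq_mul, mul_one] at hsum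
        omega
      · rw [Multiset.count_replicate, if_neg]
        · exact Even.zero
        · rintro rfl
          exact Nat.not_even_one he
  refine ⟨?_, key⟩
  by_contra hm4
  obtain ⟨m', hm'⟩ := hme
  -- a multiset whose admissible parts only sum to multiples of four
  obtain ⟨c, k, hc, hk, hsum⟩ : ∃ c k, (c = 1 ∨ c = 3) ∧ Even k ∧ c + 2 * k = 2 * d + 1 := by
    rcases Nat.even_or_odd d with ⟨t, ht⟩ | ⟨t, ht⟩
    · exact ⟨1, d, Or.inl rfl, ⟨t, ht⟩, by omega⟩
    · exact ⟨3, d - 1, Or.inr rfl, ⟨t, by omega⟩, by omega⟩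
  obtain ⟨ν, hle, hνs, hνp⟩ := key (c ::ₘ Multiset.replicate k 2) (fun e he => by
      rcases Multiset.mem_cons.1 he with rfl | he
      · omega
      · rw [Multiset.eq_of_mem_replicate he]; omega)
    (fun e he => by
      obtain ⟨t, ht⟩ := he
      rw [Multiset.count_cons_of_ne (by omega), Multiset.count_replicate]
      split_ifs
      · exact hk
      · exact Even.zero)
    (by rw [Multiset.sum_cons, Multiset.sum_replicate, smul_eq_mul]; omega)
  have hcν : c ∉ ν ∨ c ∈ ν := (em _).symm
  rcases hcν with h | h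
  · have h4 := UnipotentOrth.four_dvd_sum (μ := ν) (fun b hb => by
      rcases Multiset.mem_cons.1 (Multiset.mem_of_le hle hb) with rfl | hb'
      · exact absurd hb h
      · rw [Multiset.eq_of_mem_replicate hb']; exact even_two) hνp
    omega
  · obtain ⟨ρ, rfl⟩ := Multiset.exists_cons_of_mem h
    have hle' := (Multiset.cons_le_cons_iff c).1 hle
    have h4 := UnipotentOrth.four_dvd_sum (μ := ρ) (fun b hb => by
        rw [Multiset.eq_of_mem_replicate (Multiset.mem_of_le hle' hb)]; exact even_two) (fun e he => by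
        have := hνp e he
        rwa [Multiset.count_cons_of_ne (by obtain ⟨t, ht⟩ := he; omega)] at this)
    rw [Multiset.sum_cons] at hνs
    omega

end Cfsg.Agent.S5995
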