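import Cfsg.Statements.S5996
import Mathlib
import Cfsg.Agent.Lib.MaxSub.UnipotentOrth
import Cfsg.Agent.Lib.Geometry.OrthNegOne

set_option autoImplicit false
set_option maxHeartbeats 1000000
open scoped MatrixGroups
open Cfsg
open Matrix

namespace Cfsg.Agent.S5996

open Cfsg.Agent.Lib.MaxSub
open Cfsg.Agent.Lib.Geometry (matQuad plusMatrix minusMatrix)
open QuadraticMap (polarBilin)

/-- A necessary condition for every element of order p of PΩ⁺_n(q), q odd, to fix a hyperbolic `m`-space. Here `T = PΩ⁺_n(F)`, `n = 2d ≥ 8`, realised through `Ω⁺_n(q)`, the commutator subgroup of the isometry group of `Q = Σ xᵢyᵢ` over the field `F` with `q` elements; an element of `T` of prime order `r` is an element `x` of `Ω⁺_n(q)` with `x^r` scalar and `x` not scalar; `q` is odd; a nondegenerate `m`-space (even `m`) is a subspace on which the polar form of `Q` is nondegenerate; it is hyperbolic if it contains an `m/2`-dimensional subspace on which `Q` vanishes, elliptic otherwise. Let `m` be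 even with `2 ≤ m < n/2` and suppose `p` divides the number of hyperbolic `m`-spaces. If every element of `T` of order `p` fixes some hyperbolic `m`-space, then every partition of `n` into parts of size at most `p` in which every even part has even multiplicity contains (as a sub-multiset) a partition of `m` in which every even part has even multiplicity. -/
theorem result {F : Type*} [Field F] [Fintype F] {p : ℕ} [Fact p.Prime] [CharP F p] {q : ℕ} (hq : Fintype.card F = q) (hqodd : Odd q)
    (d m : ℕ) (hd : 4 ≤ d) (hm : 2 ≤ m) (hme : Even m) (hmd : m < d)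
    (hpΩ : p ∣ Nat.card {W : Submodule F (Fin d ⊕ Fin d → F) // Module.finrank F ↥W = m ∧ Cfsg.Geo.IsNondegenerateOn (QuadraticMap.polar (Cfsg.quadFormPlus d F)) W ∧ Cfsg.Geo.IsPlusTypeOn (Cfsg.quadFormPlus d F) W}) :
    (∀ x : GL (Fin d ⊕ Fin d) F, x ∈ Cfsg.Geo.omegaGL (Cfsg.quadFormPlus d F) →
      (∃ z : F, ((x ^ p : GL (Fin d ⊕ Fin d) F) : Matrix (Fin d ⊕ Fin d) (Fin d ⊕ Fin d) F) = z • (1 : Matrix (Fin d ⊕ Fin d) (Fin d ⊕ Fin d) F)) →
      (∀ z : F, (x : Matrix (Fin d ⊕ Fin d) (Fin d ⊕ Fin d) F) ≠ z • (1 : Matrix (Fin d ⊕ Fin d) (Fin d ⊕ Fin d) F)) →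
      ∃ W : Submodule F (Fin d ⊕ Fin d → F), (Module.finrank F ↥W = m ∧ Cfsg.Geo.IsNondegenerateOn (QuadraticMap.polar (Cfsg.quadFormPlus d F)) W ∧ Cfsg.Geo.IsPlusTypeOn (Cfsg.quadFormPlus d F) W) ∧ W.map (Matrix.toLin' (x : Matrix (Fin d ⊕ Fin d) (Fin d ⊕ Fin d) F)) ≤ W) →
    (∀ μ : Multiset ℕ, (∀ e ∈ μ, 0 < e ∧ e ≤ p) → (∀ e : ℕ, Even e → Even (μ.count e)) → μ.sum = 2 * d →
        ∃ ν : Multiset ℕ, ν ≤ μ ∧ ν.sum = m ∧ ∀ e : ℕ, Even e → Even (ν.count e)) := by
  classical
  intro hall μ hμ hpar hsum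
  have h2 : (2 : F) ≠ 0 := by
    intro h
    have := (FiniteField.even_card_iff_char_two (F := F)).1 (ringChar.eq_iff.2 (CharTwo.of_one_ne_zero_of_two_eq_zero one_ne_zero h))
    rw [hq] at this
    exact Nat.not_even_iff_odd.2 hqodd (Nat.even_iff.2 this)
  by_cases hne : ∃ b ∈ μ, b ≠ 1
  · let QP : QuadraticForm F (Fin d ⊕ Fin d → F) := matQuad (plusMatrix d F)
    have hQP : Cfsg.quadFormPlus d F = ⇑QP := Cfsg.Agent.Lib.Geometry.quadFormPlus_eq d
    have hdet : (plusMatrix d F + (plusMatrix d F)ᵀ).det = (-1) ^ d := Cfsg.Agent.Lib.Geometry.det_plusGram d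
    have hnd : (polarBilin QP).Nondegenerate :=
      Cfsg.Agent.Lib.Geometry.polarBilin_matQuad_nondegenerate (by rw [hdet]; exact pow_ne_zero _ (neg_ne_zero.2 one_ne_zero))
    rw [hQP] at hall
    obtain ⟨W, N, ν, hW, -, -, -, -, hle, hνs, hνp⟩ := UnipotentOrth.exists_witness (p := p) h2 QP hnd
      (fun W => Module.finrank F ↥W = m ∧ Cfsg.Geo.IsNondegenerateOn (QuadraticMap.polar ⇑QP) W ∧ Cfsg.Geo.IsPlusTypeOn (⇑QP) W)
      (fun W h => h.2.1) (fun x hx hxp hns => hall x hx ⟨1, by rw [hxp, Units.val_one, one_smul]⟩ hns) μ hμ hpar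
      (by rw [hsum, Fintype.card_sum, Fintype.card_fin]; omega) hne (by
        by_cases hodd : ∃ b ∈ μ, Odd b
        · exact Or.inl hodd
        · push Not at hodd
          refine Or.inr ?_
          have h4 := UnipotentOrth.four_dvd_sum (fun b hb => Nat.not_odd_iff_even.1 (hodd b hb)) hpar
          have hde : Even d := Nat.even_iff.2 (by omega)
          rw [Cfsg.Agent.Lib.Geometry.polarBilin_matQuad, LinearMap.BilinForm.toMatrix'_toBilin', hdet, hde.neg_one_pow]
          exact IsSquare.one)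
    exact ⟨ν, hle, hνs.trans hW.1, hνp⟩
  · push Not at hne
    have hμ1 := Multiset.eq_replicate_card.2 hne
    refine ⟨Multiset.replicate m 1, ?_, by simp, fun e he => ?_⟩
    · rw [hμ1, Multiset.replicate_le_replicate]
      rw [hμ1, Multiset.sum_replicate, smul_eq_mul, mul_one] at hsum
      omega
    · rw [Multiset.count_replicate, if_neg]
      · exact Even.zero
      · rintro rfl
        exact Nat.not_even_one he

end Cfsg.Agent.S5996
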