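import Cfsg.Statements.S5997
import Mathlib

set_option autoImplicit false
open scoped MatrixGroups
open Cfsg

namespace Cfsg.Agent.S5997

open Matrix

section

variable {F : Type*} [Field F]

local notation "M2" => Matrix (Fin 2) (Fin 2) F

theorem ch2 (A : M2) : A * A = A.trace • A - A.det • (1 : M2) := by
  ext i j
  fin_cases i <;> fin_cases j <;>
    simp [Matrix.mul_apply, Fin.sum_univ_two, Matrix.trace_fin_two, Matrix.det_fin_two] <;> ring

/-- A cyclic basis `v, X v`. -/
theorem exists_cyclic {X : M2} (hX : ∀ c : F, X ≠ c • (1 : M2)) (hd : X.det = 1) :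
    ∃ K : M2, K.det ≠ 0 ∧ X * K = K * !![0, -1; 1, X.trace] := by
  obtain ⟨v, hv⟩ : ∃ v : Fin 2 → F, v 0 * (X *ᵥ v) 1 - (X *ᵥ v) 0 * v 1 ≠ 0 := by
    by_contra hc
    push Not at hc
    have h0 := hc ![1, 0]
    have h1 := hc ![0, 1]
    have h2 := hc ![1, 1]
    simp [Matrix.mulVec, dotProduct, Fin.sum_univ_two] at h0 h1 h2
    apply hX (X 0 0)
    ext i j
    fin_cases i <;> fin_cases j <;> simp_all
    linear_combination h2
  refine ⟨!![v 0, (X *ᵥ v) 0; v 1, (X *ᵥ v) 1], by simpa [Matrix.det_fin_two] using hv, ?_⟩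
  rw [Matrix.det_fin_two] at hd
  ext i j
  fin_cases i <;> fin_cases j <;>
    simp [Matrix.mul_apply, Matrix.mulVec, dotProduct, Fin.sum_univ_two, Matrix.trace_fin_two]
  · linear_combination -(v 0) * hd
  · linear_combination -(v 1) * hd

/-- Non-scalar elements of equal trace are conjugate in `SL₂` when the norm form is universal. -/
theorem exists_conj {X Y : M2} (hX : ∀ c : F, X ≠ c • (1 : M2)) (hY : ∀ c : F, Y ≠ c • (1 : M2))
    (hdX : X.det = 1) (hdY : Y.det = 1) (ht : X.trace = Y.trace)
    (hform : ∀ c : F, ∃ a b : F, a * a + X.trace * a * b + b * b = c) :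
    ∃ P : M2, P.det = 1 ∧ P * Y = X * P := by
  obtain ⟨K, hK, hKX⟩ := exists_cyclic hX hdX
  obtain ⟨L, hL, hLY⟩ := exists_cyclic hY hdY
  rw [← ht] at hLY
  obtain ⟨a, b, hab⟩ := hform (L.det / K.det)
  set C : M2 := !![0, -1; 1, X.trace] with hC
  set N : M2 := a • (1 : M2) + b • C with hN
  have hdN : N.det = L.det / K.det := by
    rw [← hab, hN, Matrix.det_fin_two, hC]
    simp
    ring
  have hNC : N * C = C * N := by
    simp [hN, Matrix.add_mul, Matrix.mul_add]
  refine ⟨K * N * L⁻¹, ?_, ?_⟩
  · rw [Matrix.det_mul, Matrix.det_mul, hdN, Matrix.det_nonsing_inv, Ring.inverse_eq_inv']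
    field_simp
  · have hLu : IsUnit L.det := isUnit_iff_ne_zero.2 hL
    have e : L⁻¹ * Y = C * L⁻¹ := by
      calc L⁻¹ * Y = L⁻¹ * (Y * L) * L⁻¹ := by
            rw [Matrix.mul_assoc, Matrix.mul_assoc, Matrix.mul_nonsing_inv _ hLu, Matrix.mul_one]
        _ = C * L⁻¹ := by rw [hLY, ← Matrix.mul_assoc, Matrix.nonsing_inv_mul _ hLu, Matrix.one_mul]
    rw [Matrix.mul_assoc, e, ← Matrix.mul_assoc, Matrix.mul_assoc K, hNC, ← Matrix.mul_assoc, ← hKX]
    simp only [Matrix.mul_assoc]

theorem comm_g_h {M g h : M2} (hg : ∀ c : F, g ≠ c • (1 : M2)) (hdg : g.det = 1) (hgh : g * h ≠ h * g)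
    (h1 : M * g = g * M) (h2 : M * h = h * M) : ∃ c : F, M = c • (1 : M2) := by
  obtain ⟨K, hK, hKg⟩ := exists_cyclic hg hdg
  have hKu : IsUnit K.det := isUnit_iff_ne_zero.2 hK
  set N := K⁻¹ * M * K with hN
  set C : M2 := !![0, -1; 1, g.trace] with hC
  have eg : g = K * C * K⁻¹ := by rw [← hKg, Matrix.mul_assoc, Matrix.mul_nonsing_inv _ hKu, Matrix.mul_one]
  have eM : M = K * N * K⁻¹ := by
    simp only [hN, Matrix.mul_assoc]
    rw [Matrix.mul_nonsing_inv _ hKu, Matrix.mul_one, ← Matrix.mul_assoc, Matrix.mul_nonsing_inv _ hKu, Matrix.one_mul]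
  have hNC : N * C = C * N := by
    calc N * C = K⁻¹ * M * (K * C) := by simp only [hN, Matrix.mul_assoc]
      _ = K⁻¹ * (M * g) * K := by rw [← hKg]; simp only [Matrix.mul_assoc]
      _ = (K⁻¹ * g) * M * K := by rw [h1]; simp only [Matrix.mul_assoc]
      _ = C * N := by
        have e : K⁻¹ * g = C * K⁻¹ := by
          rw [eg, ← Matrix.mul_assoc, ← Matrix.mul_assoc, Matrix.nonsing_inv_mul _ hKu, Matrix.one_mul]
        rw [e]
        simp only [hN, Matrix.mul_assoc]
  have hN' : N = N 0 0 • (1 : M2) + N 1 0 • C := by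
    have q0 := congrFun (congrFun hNC 0) 0
    have q1 := congrFun (congrFun hNC 1) 0
    simp [hC, Matrix.mul_apply, Fin.sum_univ_two] at q0 q1
    ext i j
    fin_cases i <;> fin_cases j <;> simp [hC]
    · linear_combination q0
    · linear_combination q1
  have hM' : M = N 0 0 • (1 : M2) + N 1 0 • g := by
    conv_lhs => rw [eM, hN']
    rw [eg]
    simp only [Matrix.mul_add, Matrix.add_mul, Matrix.mul_smul, Matrix.smul_mul, Matrix.mul_one,
      Matrix.mul_nonsing_inv _ hKu]
  by_cases hb : N 1 0 = 0
  · exact ⟨N 0 0, by rw [hM', hb]; simp⟩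
  · exfalso
    apply hgh
    rw [hM'] at h2
    simp only [Matrix.add_mul, Matrix.mul_add, Matrix.smul_mul, Matrix.mul_smul, Matrix.one_mul, Matrix.mul_one] at h2
    exact smul_right_injective M2 hb (add_left_cancel h2)

variable [Fintype F]

theorem form_universal (hodd : Fintype.card F % 2 = 1) {t : F} (h : 4 - t * t ≠ 0) (h2 : (2 : F) ≠ 0) (c : F) :
    ∃ a b : F, a * a + t * a * b + b * b = c := by
  obtain ⟨u, v, huv⟩ := FiniteField.exists_root_sum_quadratic (f := (Polynomial.X ^ 2 : Polynomial F))
    (g := Polynomial.C ((4 - t * t) / 4) * Polynomial.X ^ 2 - Polynomial.C c) (Polynomial.degree_X_pow 2)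
    (by
      have h4 : (4 - t * t) / 4 ≠ 0 := div_ne_zero h (by
        rw [show (4 : F) = 2 * 2 by norm_num]; exact mul_ne_zero h2 h2)
      rw [Polynomial.degree_sub_C (by rw [Polynomial.degree_C_mul_X_pow 2 h4]; norm_num),
        Polynomial.degree_C_mul_X_pow 2 h4]
      rfl) hodd
  simp at huv
  refine ⟨u - t * v / 2, v, ?_⟩
  have e : (u - t * v / 2) * (u - t * v / 2) + t * (u - t * v / 2) * v + v * v - c =
      u ^ 2 + ((4 - t * t) / 4 * v ^ 2 - c) := by
    have h4 : (4 : F) = 2 * 2 := by norm_num
    rw [h4]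
    field_simp
    ring
  rw [huv] at e
  exact sub_eq_zero.1 e

end

/-- Elements of prime order of PSL_2(p) and the normalizer of a quaternion subgroup. Here `T = PSL_2(F)` for the field `F` with `p` elements, `p ≥ 5` prime; `R` is a subgroup of GL_2(F) isomorphic to the quaternion group of order 8 (an absolutely irreducible 2-group of symplectic type), and `H` is the subgroup of matrices of determinant 1 normalizing `R` — a subgroup of type 2^{1+2}.O₂⁻(2), isomorphic modulo scalars to A₄ or S₄ (maximality is not assumed). Ω is the set of cosets of `H` in `T`, so an element of `T` of prime order `r` (a matrix `x` of determinant 1 with `x^r` scalar, `x` not scalar) fixes a point of Ω exactly when some conjugate of `x` by a matrix of determinant 1 normalizes `R`. Let `r` be a prime dividing the index of `H`. Then every element of `T` of order `r` fixes a point of Ω if and only if `r = 2` or `r = 3`. -/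
theorem result {F : Type*} [Field F] [Fintype F] {p : ℕ} [Fact p.Prime] [CharP F p] (hF : Fintype.card F = p) (hp : 5 ≤ p)
    (R : Subgroup (GL (Fin 2) F)) (hR : Nonempty (↥R ≃* QuaternionGroup 2))
    (r : ℕ) [Fact r.Prime]
    (hΩ : r ∣ (Cfsg.Geo.subgroupNormalizer R).relIndex (Cfsg.Geo.specialLinear (Fin 2) F)) :
    (∀ x ∈ Cfsg.Geo.specialLinear (Fin 2) F, (∃ z : F, ((x ^ r : GL (Fin 2) F) : Matrix (Fin 2) (Fin 2) F) = z • (1 : Matrix (Fin 2) (Fin 2) F)) →
      (∀ z : F, (x : Matrix (Fin 2) (Fin 2) F) ≠ z • (1 : Matrix (Fin 2) (Fin 2) F)) →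
      ∃ g ∈ Cfsg.Geo.specialLinear (Fin 2) F, g⁻¹ * x * g ∈ Cfsg.Geo.subgroupNormalizer R) ↔ (r = 2 ∨ r = 3) := by
  classical
  have hcardF : Fintype.card F % 2 = 1 := by
    rw [hF]; exact (Nat.Prime.eq_two_or_odd (Fact.out : p.Prime)).resolve_left (by omega)
  have hne : ∀ k : ℕ, 0 < k → k < p → (k : F) ≠ 0 := fun k hk0 hk h => by
    have := Nat.le_of_dvd hk0 ((CharP.cast_eq_zero_iff F p k).1 h)
    omega
  have h2 : (2 : F) ≠ 0 := by exact_mod_cast hne 2 (by omega) (by omega)
  have h3 : (3 : F) ≠ 0 := by exact_mod_cast hne 3 (by omega) (by omega)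
  have h4 : (4 : F) ≠ 0 := by exact_mod_cast hne 4 (by omega) (by omega)
  have form0 := form_universal hcardF (t := (0 : F)) (by simpa using h4) h2
  obtain ⟨e⟩ := hR
  set g : GL (Fin 2) F := ((e.symm (QuaternionGroup.a 1) : R) : GL (Fin 2) F) with hg
  set h : GL (Fin 2) F := ((e.symm (QuaternionGroup.xa 0) : R) : GL (Fin 2) F) with hh
  have hgR : g ∈ R := (e.symm _).2
  have hhR : h ∈ R := (e.symm _).2
  have inj : ∀ u v : QuaternionGroup 2, ((e.symm u : R) : GL (Fin 2) F) = (e.symm v : R) → u = v :=
    fun u v huv => e.symm.injective (Subtype.ext huv)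
  have emul : ∀ u v : QuaternionGroup 2,
      ((e.symm u : R) : GL (Fin 2) F) * (e.symm v : R) = (e.symm (u * v) : R) := fun u v => by
    rw [map_mul]; rfl
  have hgh : g * h ≠ h * g := fun heq => by
    rw [hg, hh, emul, emul] at heq
    exact absurd (inj _ _ heq) (by decide)
  have hz1 : g * g ≠ 1 := fun heq => by
    rw [hg, emul] at heq
    exact absurd (inj _ 1 (by rw [heq, map_one]; rfl)) (by decide)
  have hhh : h * h = g * g := by
    rw [hg, hh, emul, emul]; congr 2
  have hconj : g * g * h * g = g * h := by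
    rw [hg, hh, emul, emul, emul, emul]; congr 2
  have hgi4 : (g * g) * (g * g) = 1 := by
    rw [hg, emul, emul, show (QuaternionGroup.a 1 : QuaternionGroup 2) * QuaternionGroup.a 1 *
      (QuaternionGroup.a 1 * QuaternionGroup.a 1) = 1 by decide, map_one]
    rfl
  -- the central involution is `-1`
  have hdz : ((g * g : GL (Fin 2) F) : Matrix (Fin 2) (Fin 2) F).det = 1 := by
    have hcomm : g * g = g * (h * g * h⁻¹)⁻¹ := by
      have e1 : h * g * h⁻¹ = g⁻¹ := by
        rw [mul_inv_eq_iff_eq_mul]
        calc h * g = (g * g)⁻¹ * (g * g * h * g) := by group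
          _ = (g * g)⁻¹ * (g * h) := by rw [hconj]
          _ = g⁻¹ * h := by group
      rw [e1, inv_inv]
    have h5 : Matrix.GeneralLinearGroup.det (g * g) = 1 := by
      rw [hcomm, map_mul, map_inv, map_mul, map_mul, map_inv,
        mul_comm (Matrix.GeneralLinearGroup.det h) (Matrix.GeneralLinearGroup.det g), mul_assoc, mul_inv_cancel,
        mul_one, mul_inv_cancel]
    exact congrArg Units.val h5
  have hneg : (g : Matrix (Fin 2) (Fin 2) F) * g = -1 := by
    set z := ((g * g : GL (Fin 2) F) : Matrix (Fin 2) (Fin 2) F) with hz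
    have hzz : z * z = 1 := by rw [hz, ← Units.val_mul, hgi4, Units.val_one]
    have h5 := ch2 z
    rw [hzz, hdz, one_smul] at h5
    have h6 : z.trace • z = (2 : F) • (1 : Matrix (Fin 2) (Fin 2) F) := by
      rw [two_smul]; exact (eq_sub_iff_add_eq.1 h5).symm
    have ht : z.trace ≠ 0 := by
      intro ht
      have h7 := congrFun (congrFun h6 0) 0
      simp [ht] at h7
      exact h2 h7.symm
    have h7 : z = (2 / z.trace) • (1 : Matrix (Fin 2) (Fin 2) F) := by
      rw [div_eq_inv_mul, ← smul_smul, ← h6, smul_smul, inv_mul_cancel₀ ht, one_smul]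
    have h8 : (2 / z.trace) * (2 / z.trace) = 1 := by
      have := congrFun (congrFun hzz 0) 0
      rw [h7] at this
      simpa using this
    rcases mul_self_eq_one_iff.1 h8 with h9 | h9
    · exact absurd (Units.ext (by rw [← hz, h7, h9, one_smul, Units.val_one])) hz1
    · rw [← Units.val_mul, ← hz, h7, h9, neg_smul, one_smul]
  have hh2 : (h : Matrix (Fin 2) (Fin 2) F) * h = -1 := by rw [← Units.val_mul, hhh, Units.val_mul, hneg]
  have hanti : (h : Matrix (Fin 2) (Fin 2) F) * g = -((g : Matrix (Fin 2) (Fin 2) F) * h) := by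
    have := congrArg Units.val hconj
    rw [Units.val_mul, Units.val_mul, Units.val_mul, hneg] at this
    rw [Units.val_mul, Matrix.neg_mul, Matrix.neg_mul, Matrix.one_mul] at this
    rw [← this, neg_neg]
  -- both have trace zero and determinant one
  have traces : ∀ u v : GL (Fin 2) F, u * v ≠ v * u → (u : Matrix (Fin 2) (Fin 2) F) * u = -1 →
      (u : Matrix (Fin 2) (Fin 2) F).trace = 0 ∧ (u : Matrix (Fin 2) (Fin 2) F).det = 1 ∧
      ∀ c : F, (u : Matrix (Fin 2) (Fin 2) F) ≠ c • 1 := by
    intro u v huv hu2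
    have hns : ∀ c : F, (u : Matrix (Fin 2) (Fin 2) F) ≠ c • 1 := fun c hc => huv (Units.ext (by
      rw [Units.val_mul, Units.val_mul, hc, Matrix.smul_mul, Matrix.mul_smul, Matrix.one_mul, Matrix.mul_one]))
    have h5 := ch2 (u : Matrix (Fin 2) (Fin 2) F)
    rw [hu2] at h5
    have ht : (u : Matrix (Fin 2) (Fin 2) F).trace = 0 := by
      by_contra ht
      refine hns (((u : Matrix (Fin 2) (Fin 2) F).det - 1) / (u : Matrix (Fin 2) (Fin 2) F).trace) ?_
      rw [div_eq_inv_mul, ← smul_smul, sub_smul, one_smul, show (u : Matrix (Fin 2) (Fin 2) F).det • (1 : Matrix (Fin 2) (Fin 2) F) - 1 =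
        (u : Matrix (Fin 2) (Fin 2) F).trace • (u : Matrix (Fin 2) (Fin 2) F) by
          rw [sub_eq_add_neg, h5]; abel, smul_smul, inv_mul_cancel₀ ht, one_smul]
    refine ⟨ht, ?_, hns⟩
    have h6 := congrFun (congrFun h5 0) 0
    simp [ht] at h6
    exact h6.symm
  obtain ⟨htg, hdg, hnsg⟩ := traces g h hgh hneg
  obtain ⟨hth, hdh, -⟩ := traces h g (Ne.symm hgh) hh2
  set N := Cfsg.Geo.subgroupNormalizer R with hN
  have hgN : g ∈ N := Subgroup.le_normalizer hgR
  -- elements of `SL₂` with equal trace
  have conjN : ∀ (x : GL (Fin 2) F) (y : GL (Fin 2) F), x ∈ Cfsg.Geo.specialLinear (Fin 2) F → y ∈ N →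
      (y : Matrix (Fin 2) (Fin 2) F).det = 1 → (∀ c : F, (x : Matrix (Fin 2) (Fin 2) F) ≠ c • 1) →
      (∀ c : F, (y : Matrix (Fin 2) (Fin 2) F) ≠ c • 1) →
      (x : Matrix (Fin 2) (Fin 2) F).trace = (y : Matrix (Fin 2) (Fin 2) F).trace →
      (∀ c : F, ∃ a b : F, a * a + (x : Matrix (Fin 2) (Fin 2) F).trace * a * b + b * b = c) →
      ∃ k ∈ Cfsg.Geo.specialLinear (Fin 2) F, k⁻¹ * x * k ∈ N := by
    intro x y hx hy hdy hnx hny ht hform
    have hdx : (x : Matrix (Fin 2) (Fin 2) F).det = 1 := congrArg Units.val hx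
    obtain ⟨P, hP, hPY⟩ := exists_conj hnx hny hdx hdy ht hform
    refine ⟨Matrix.GeneralLinearGroup.mkOfDetNeZero P (by rw [hP]; exact one_ne_zero), Units.ext hP, ?_⟩
    have : Matrix.GeneralLinearGroup.mkOfDetNeZero P (by rw [hP]; exact one_ne_zero) * y =
        x * Matrix.GeneralLinearGroup.mkOfDetNeZero P (by rw [hP]; exact one_ne_zero) := Units.ext hPY
    rw [mul_assoc, ← this, inv_mul_cancel_left]
    exact hy
  have detx : ∀ x : GL (Fin 2) F, x ∈ Cfsg.Geo.specialLinear (Fin 2) F → (x : Matrix (Fin 2) (Fin 2) F).det = 1 :=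
    fun x hx => congrArg Units.val hx
  refine ⟨fun hall => ?_, fun hr => ?_⟩
  · -- large primes give derangements
    by_contra hc
    push Not at hc
    have hrp : r.Prime := Fact.out
    have hr5 : 5 ≤ r := by
      have := hrp.two_le
      by_contra hlt
      have : r = 4 := by omega
      rw [this] at hrp
      exact absurd hrp (by decide)
    have hdvd : r ∣ Nat.card (Cfsg.Geo.specialLinear (Fin 2) F) := hΩ.trans (Subgroup.relIndex_dvd_card _ _)
    obtain ⟨⟨x, hx⟩, hxr⟩ := exists_prime_orderOf_dvd_card' r hdvd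
    have hxr' : orderOf x = r := by rw [← hxr, Subgroup.orderOf_mk]
    have hxns : ∀ c : F, (x : Matrix (Fin 2) (Fin 2) F) ≠ c • 1 := by
      intro c hcx
      have hd := detx x hx
      rw [hcx, Matrix.det_smul, Matrix.det_one, Fintype.card_fin, mul_one] at hd
      have h6 : x ^ 2 = 1 := Units.ext (by
        rw [Units.val_pow_eq_pow_val, hcx, pow_two, Matrix.smul_mul, Matrix.one_mul, smul_smul, ← pow_two, hd,
          one_smul, Units.val_one])
      have := Nat.le_of_dvd (by norm_num) (hxr' ▸ orderOf_dvd_of_pow_eq_one h6)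
      omega
    obtain ⟨k, hk, hkN⟩ := hall x hx ⟨1, by rw [← hxr', pow_orderOf_eq_one, Units.val_one, one_smul]⟩ hxns
    set y := k⁻¹ * x * k with hy
    have hyr : y ^ r = 1 := by
      rw [hy, show k⁻¹ * x * k = MulAut.conj k⁻¹ x by simp [MulAut.conj_apply], ← map_pow, ← hxr',
        pow_orderOf_eq_one, map_one]
    have hmem : ∀ u : R, y * u * y⁻¹ ∈ R := fun u => (Subgroup.mem_normalizer_iff.1 hkN u).1 u.2
    let φ : Function.End R := fun u => ⟨y * u * y⁻¹, hmem u⟩
    have hφ : ∀ (n : ℕ) (u : R), (((φ ^ n) u : R) : GL (Fin 2) F) = y ^ n * u * (y ^ n)⁻¹ := by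
      intro n
      induction n with
      | zero => intro u; simp; rfl
      | succ n ih =>
        intro u
        rw [pow_succ]
        show (((φ ^ n) (φ u) : R) : GL (Fin 2) F) = _
        rw [ih]
        show y ^ n * (y * u * y⁻¹) * (y ^ n)⁻¹ = _
        group
    have hφr : φ ^ r ^ 1 = 1 := by
      funext u
      apply Subtype.ext
      rw [pow_one, hφ, hyr, one_mul, inv_one, mul_one]
      rfl
    haveI : Finite R := inferInstance
    letI : Fintype R := Fintype.ofFinite R
    have hmod := Equiv.Perm.card_fixedPoints_modEq (p := r) (n := 1) hφr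
    set C := Subgroup.centralizer ({y} : Set (GL (Fin 2) F)) ⊓ R with hC
    have hfix : Fintype.card (Function.fixedPoints φ) = Nat.card C := by
      rw [← Nat.card_eq_fintype_card]
      refine Nat.card_congr
        { toFun := fun u => ⟨u.1.1, ?_, u.1.2⟩
          invFun := fun u => ⟨⟨u.1, u.2.2⟩, ?_⟩
          left_inv := fun u => rfl
          right_inv := fun u => rfl }
      · rw [Subgroup.coe_toSubmonoid, SetLike.mem_coe, Subgroup.mem_centralizer_singleton_iff]
        have hu : y * u.1.1 * y⁻¹ = u.1.1 := congrArg Subtype.val u.2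
        exact mul_inv_eq_iff_eq_mul.1 hu |>.symm
      · show φ _ = _
        apply Subtype.ext
        have hu : u.1 * y = y * u.1 := Subgroup.mem_centralizer_singleton_iff.1 u.2.1
        show y * u.1 * y⁻¹ = u.1
        rw [← hu, mul_inv_cancel_right]
    have hR8 : Fintype.card R = 8 := by
      rw [Fintype.card_congr e.toEquiv, QuaternionGroup.card]
    have hdvd8 : Nat.card C ∣ 8 := by
      have := Subgroup.card_dvd_of_le (inf_le_right : C ≤ R)
      rwa [Nat.card_eq_fintype_card (α := R), hR8] at this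
    have hzC : g * g ∈ C := by
      refine ⟨Subgroup.mem_centralizer_singleton_iff.2 (Units.ext ?_), R.mul_mem hgR hgR⟩
      rw [Units.val_mul (g * g) y, Units.val_mul y (g * g), Units.val_mul g g, hneg, Matrix.neg_mul, Matrix.mul_neg,
        Matrix.one_mul, Matrix.mul_one]
    have h2C : 2 ≤ Nat.card C := by
      rcases Nat.lt_or_ge (Nat.card C) 2 with hlt | hge
      · have : Nat.card C = 1 := by
          have := Nat.card_pos (α := C)
          omega
        rw [Subgroup.card_eq_one] at this
        rw [this, Subgroup.mem_bot] at hzC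
        exact absurd hzC hz1
      · exact hge
    rw [hfix, hR8] at hmod
    have hC8 : Nat.card C = 8 := by
      have hle : Nat.card C ≤ 8 := Nat.le_of_dvd (by norm_num) hdvd8
      by_contra hne8
      have hd' : r ∣ 8 - Nat.card C := (Nat.modEq_iff_dvd' hle).1 hmod.symm
      have hdiv : Nat.card C = 2 ∨ Nat.card C = 4 := by
        have : Nat.card C ∈ Nat.divisors 8 := Nat.mem_divisors.2 ⟨hdvd8, by norm_num⟩
        rw [show Nat.divisors 8 = {1, 2, 4, 8} by decide] at this
        simp only [Finset.mem_insert, Finset.mem_singleton] at this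
        omega
      rcases hdiv with h9 | h9 <;> rw [h9] at hd'
      · have h10 := Nat.le_of_dvd (by norm_num) hd'
        interval_cases r
        · omega
        · exact absurd hrp (by decide)
      · have := Nat.le_of_dvd (by norm_num) hd'
        omega
    have hCR : C = R := Subgroup.eq_of_le_of_card_ge inf_le_right (by
      rw [hC8, Nat.card_eq_fintype_card, hR8])
    have hcg : ∀ u ∈ R, (y : Matrix (Fin 2) (Fin 2) F) * u = u * y := fun u hu => by
      rw [← hCR] at hu
      have hu' := congrArg Units.val (Subgroup.mem_centralizer_singleton_iff.1 hu.1)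
      rw [Units.val_mul, Units.val_mul] at hu'
      exact hu'.symm
    obtain ⟨c, hcy⟩ := comm_g_h hnsg hdg (fun heq => hgh (Units.ext heq)) (hcg g hgR) (hcg h hhR)
    refine hxns c ?_
    have : x = k * y * k⁻¹ := by rw [hy]; group
    rw [this, Units.val_mul, Units.val_mul, hcy, Matrix.mul_smul, Matrix.mul_one, Matrix.smul_mul, ← Units.val_mul,
      mul_inv_cancel, Units.val_one]
  · rcases hr with rfl | rfl
    · -- involutions modulo scalars
      rintro x hx ⟨z, hz⟩ hns
      have hd := detx x hx
      rw [Units.val_pow_eq_pow_val, pow_two, ch2, hd, one_smul, sub_eq_iff_eq_add] at hz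
      have ht : (x : Matrix (Fin 2) (Fin 2) F).trace = 0 := by
        by_contra ht
        refine hns ((z + 1) / (x : Matrix (Fin 2) (Fin 2) F).trace) ?_
        rw [div_eq_inv_mul, ← smul_smul, add_smul, one_smul, ← hz, smul_smul, inv_mul_cancel₀ ht, one_smul]
      exact conjN x g hx hgN hdg hns hnsg (ht.trans htg.symm) (by rw [ht]; exact form0)
    · -- elements of order three modulo scalars
      rintro x hx ⟨z, hz⟩ hns
      have hd := detx x hx
      set A := (x : Matrix (Fin 2) (Fin 2) F) with hA
      set t := A.trace with ht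
      have hA2 : A * A = t • A - 1 := by rw [ch2, hd, one_smul]
      have hA3 : A * A * A = (t * t - 1) • A - t • (1 : Matrix (Fin 2) (Fin 2) F) := by
        rw [hA2, Matrix.sub_mul, Matrix.smul_mul, hA2, smul_sub, smul_smul, sub_smul, one_smul, Matrix.one_mul]
        abel
      rw [Units.val_pow_eq_pow_val, pow_succ, pow_two, hA3, sub_eq_iff_eq_add, ← add_smul] at hz
      have htt : t * t = 1 := by
        by_contra hne'
        have hne1 : t * t - 1 ≠ 0 := sub_ne_zero.2 hne'
        refine hns ((z + t) / (t * t - 1)) ?_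
        rw [div_eq_inv_mul, ← smul_smul, ← hz, smul_smul, inv_mul_cancel₀ hne1, one_smul]
      set G : Matrix (Fin 2) (Fin 2) F := (g : Matrix (Fin 2) (Fin 2) F) with hGdef
      set H : Matrix (Fin 2) (Fin 2) F := (h : Matrix (Fin 2) (Fin 2) F) with hHdef
      set W : Matrix (Fin 2) (Fin 2) F := (-t / 2) • (-1 + G + H + G * H) with hW
      have e1 : W * G = (G * H) * W := by
        rw [hW, Matrix.smul_mul, Matrix.mul_smul]
        congr 1
        simp only [Matrix.add_mul, Matrix.mul_add, Matrix.neg_mul, Matrix.mul_neg, Matrix.one_mul, Matrix.mul_one]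
        have q1 : H * G = -(G * H) := hanti
        have q2 : G * H * G = H := by
          rw [Matrix.mul_assoc, q1, Matrix.mul_neg, ← Matrix.mul_assoc, hneg, Matrix.neg_mul, Matrix.one_mul, neg_neg]
        have q3 : G * H * H = -G := by rw [Matrix.mul_assoc, hh2, Matrix.mul_neg, Matrix.mul_one]
        have q4 : G * H * (G * H) = -1 := by rw [← Matrix.mul_assoc, q2, hh2]
        rw [q1, hneg, q2, q3, q4]
        abel
      have e2 : W * H = G * W := by
        rw [hW, Matrix.smul_mul, Matrix.mul_smul]
        congr 1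
        simp only [Matrix.add_mul, Matrix.mul_add, Matrix.neg_mul, Matrix.mul_neg, Matrix.one_mul, Matrix.mul_one]
        rw [hneg, hh2, Matrix.mul_assoc, hh2, ← Matrix.mul_assoc, hneg]
        simp only [Matrix.neg_mul, Matrix.mul_neg, Matrix.one_mul, Matrix.mul_one]
        abel
      have hWW : W * W = t • W - 1 := by
        have hsq : (-1 + G + H + G * H) * (-1 + G + H + G * H) = (-2 : F) • (-1 + G + H + G * H) - (4 : F) • (1 : Matrix (Fin 2) (Fin 2) F) := by
          simp only [Matrix.add_mul, Matrix.mul_add, Matrix.neg_mul, Matrix.mul_neg, Matrix.one_mul, Matrix.mul_one]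
          have q1 : H * G = -(G * H) := hanti
          have q2 : G * H * G = H := by
            rw [Matrix.mul_assoc, q1, Matrix.mul_neg, ← Matrix.mul_assoc, hneg, Matrix.neg_mul, Matrix.one_mul, neg_neg]
          have q3 : G * H * H = -G := by rw [Matrix.mul_assoc, hh2, Matrix.mul_neg, Matrix.mul_one]
          have q4 : G * H * (G * H) = -1 := by rw [← Matrix.mul_assoc, q2, hh2]
          have q5 : G * (G * H) = -H := by rw [← Matrix.mul_assoc, hneg, Matrix.neg_mul, Matrix.one_mul]
          have q6 : H * (G * H) = G := by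
            rw [← Matrix.mul_assoc, q1, Matrix.neg_mul, q3, neg_neg]
          rw [q1, q2, q3, q4, q5, q6, hneg, hh2]
          module
        rw [hW, Matrix.smul_mul, Matrix.mul_smul, hsq, smul_smul, smul_sub, smul_smul, smul_smul, smul_smul]
        have c1 : -t / 2 * (-t / 2) * -2 = t * (-t / 2) := by field_simp
        have c2 : -t / 2 * (-t / 2) * 4 = 1 := by field_simp; linear_combination 4 * htt
        rw [c1, c2, one_smul]
      have hWns : ∀ c : F, W ≠ c • 1 := by
        intro c hc
        rw [hc, Matrix.smul_mul, Matrix.mul_smul, Matrix.one_mul, Matrix.mul_one] at e2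
        have hc0 : c ≠ 0 := by
          rintro rfl
          rw [hc, zero_smul] at hWW
          simp at hWW
        have hHG : H = G := smul_right_injective _ hc0 e2
        exact hgh (by rw [show h = g from Units.ext hHG])
      have hWt : W.trace = t ∧ W.det = 1 := by
        have h5 := ch2 W
        rw [hWW] at h5
        have h6 : (W.trace - t) • W = (W.det - 1) • (1 : Matrix (Fin 2) (Fin 2) F) := by
          rw [sub_smul, sub_smul, one_smul]
          linear_combination (norm := module) -h5
        by_cases h7 : W.trace = t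
        · refine ⟨h7, ?_⟩
          rw [h7, sub_self, zero_smul] at h6
          have h8 := congrFun (congrFun h6 0) 0
          simp at h8
          exact sub_eq_zero.1 h8.symm
        · exfalso
          refine hWns ((W.det - 1) / (W.trace - t)) ?_
          rw [div_eq_inv_mul, ← smul_smul, ← h6, smul_smul, inv_mul_cancel₀ (sub_ne_zero.2 h7), one_smul]
      set w := Matrix.GeneralLinearGroup.mkOfDetNeZero W (by rw [hWt.2]; exact one_ne_zero) with hw
      have hwN : w ∈ N := by
        have hgen : ∀ u ∈ R, u ∈ Subgroup.closure ({g, h} : Set (GL (Fin 2) F)) := by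
          intro u hu
          obtain ⟨q, hq⟩ : ∃ q, ((e.symm q : R) : GL (Fin 2) F) = u := ⟨e ⟨u, hu⟩, by simp⟩
          have hpow : ∀ i : ZMod (2 * 2), ((e.symm (QuaternionGroup.a i) : R) : GL (Fin 2) F) = g ^ i.val := by
            intro i
            have e5 : (QuaternionGroup.a i : QuaternionGroup 2) = QuaternionGroup.a 1 ^ i.val := by
              rw [QuaternionGroup.a_one_pow]; congr 1; exact (ZMod.natCast_zmod_val i).symm
            rw [e5, map_pow]
            rfl
          have mg : g ∈ Subgroup.closure ({g, h} : Set (GL (Fin 2) F)) := Subgroup.subset_closure (Or.inl rfl)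
          have mh : h ∈ Subgroup.closure ({g, h} : Set (GL (Fin 2) F)) := Subgroup.subset_closure (Or.inr rfl)
          rw [← hq]
          cases q with
          | a i => rw [hpow]; exact pow_mem mg _
          | xa i =>
            rw [show (QuaternionGroup.xa i : QuaternionGroup 2) = QuaternionGroup.xa 0 * QuaternionGroup.a i by simp,
              ← emul, hpow]
            exact mul_mem mh (pow_mem mg _)
        have hmap : R.map (MulAut.conj w).toMonoidHom ≤ R := by
          refine (Subgroup.map_mono (fun u hu => hgen u hu)).trans ?_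
          rw [MonoidHom.map_closure, Subgroup.closure_le]
          rintro _ ⟨u, rfl | rfl, rfl⟩
          · show w * g * w⁻¹ ∈ R
            rw [show w * g = g * h * w from Units.ext e1, mul_inv_cancel_right]
            exact R.mul_mem hgR hhR
          · show w * h * w⁻¹ ∈ R
            rw [show w * h = g * w from Units.ext e2, mul_inv_cancel_right]
            exact hgR
        haveI : Finite R := inferInstance
        have heq : R.map (MulAut.conj w).toMonoidHom = R :=
          Subgroup.eq_of_le_of_card_ge hmap (le_of_eq (Nat.card_congr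
            (Subgroup.equivMapOfInjective R _ (MulAut.conj w).injective).toEquiv))
        rw [hN]
        refine Subgroup.mem_normalizer_iff.2 fun u => ⟨fun hu => hmap ⟨u, hu, rfl⟩, fun hu => ?_⟩
        have hu' : w * u * w⁻¹ ∈ R := hu
        rw [← heq] at hu'
        obtain ⟨v, hv, hv'⟩ := hu'
        exact (MulAut.conj w).injective hv' ▸ hv
      refine conjN x w hx hwN hWt.2 hns hWns hWt.1.symm ?_
      exact form_universal hcardF (by rw [htt, show (4 : F) - 1 = 3 by norm_num]; exact h3) h2

end Cfsg.Agent.S5997
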