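import Cfsg.Statements.S5998
import Mathlib
import Cfsg.Agent.Lib.MaxSub.Heisenberg

set_option autoImplicit false
set_option maxHeartbeats 1000000
open scoped MatrixGroups
open Cfsg

namespace Cfsg.Agent.S5998

open Matrix
open Cfsg.Agent.Lib.MaxSub.Heisenberg

section

variable {F : Type*} [Field F]

/-- A spanning set of eigenvectors gives a diagonalisation. -/
theorem exists_diag (Y : GL (Fin 3) F) (S : F → Prop)
    (hs : ⊤ ≤ Submodule.span F {v : Fin 3 → F | ∃ μ, S μ ∧ (Y : Matrix (Fin 3) (Fin 3) F) *ᵥ v = μ • v})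
    (hne : ∀ μ, S μ → μ ≠ 0) :
    ∃ (g : GL (Fin 3) F) (d : Fin 3 → Fˣ), (∀ i, S (d i : F)) ∧ g⁻¹ * Y * g = diagU d := by
  classical
  let b₀ := Module.Basis.ofSpan hs
  let b := b₀.reindex (b₀.indexEquiv (Pi.basisFun F (Fin 3)))
  have hb : ∀ i, ∃ μ, S μ ∧ (Y : Matrix (Fin 3) (Fin 3) F) *ᵥ b i = μ • b i := by
    intro i
    have : b i ∈ {v : Fin 3 → F | ∃ μ, S μ ∧ (Y : Matrix (Fin 3) (Fin 3) F) *ᵥ v = μ • v} :=
      Module.Basis.ofSpan_subset hs (by
        rw [show b i = b₀ ((b₀.indexEquiv (Pi.basisFun F (Fin 3))).symm i) from Module.Basis.reindex_apply _ _ _]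
        exact Set.mem_range_self _)
    exact this
  choose μ hμ hYb using hb
  let e := b.equivFun.symm
  let g : GL (Fin 3) F := ⟨LinearMap.toMatrix' e.toLinearMap, LinearMap.toMatrix' e.symm.toLinearMap,
    by rw [← LinearMap.toMatrix'_comp, ← LinearMap.toMatrix'_id]; congr 1; ext; simp,
    by rw [← LinearMap.toMatrix'_comp, ← LinearMap.toMatrix'_id]; congr 1; ext; simp⟩
  have hg : ∀ u, (g : Matrix (Fin 3) (Fin 3) F) *ᵥ u = e u := fun u => by
    show Matrix.toLin' (LinearMap.toMatrix' e.toLinearMap) u = e u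
    rw [Matrix.toLin'_toMatrix']; rfl
  refine ⟨g, fun i => Units.mk0 (μ i) (hne _ (hμ i)), fun i => hμ i, ?_⟩
  rw [mul_assoc, inv_mul_eq_iff_eq_mul]
  refine Units.ext (Matrix.ext_of_mulVec_single fun i => ?_)
  rw [Units.val_mul, Units.val_mul, ← Matrix.mulVec_mulVec, ← Matrix.mulVec_mulVec, hg, hg]
  have h1 : e (Pi.single i 1) = b i := by
    simp [e, Module.Basis.equivFun_symm_apply, Pi.single_apply, ite_smul]
  rw [h1, hYb, diagU_val]
  have h2 : Matrix.diagonal (fun j => ((Units.mk0 (μ j) (hne _ (hμ j)) : Fˣ) : F)) *ᵥ Pi.single i 1 =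
      μ i • Pi.single i 1 := by
    ext j
    by_cases h : j = i
    · subst h; simp [Matrix.mulVec_diagonal]
    · simp [Matrix.mulVec_diagonal, h]
  rw [h2, map_smul, h1]

theorem det_diagU (d : Fin 3 → Fˣ) : Matrix.GeneralLinearGroup.det (diagU d) = d 0 * d 1 * d 2 := by
  refine Units.ext ?_
  rw [Matrix.GeneralLinearGroup.val_det_apply, diagU_val, Matrix.det_diagonal, Fin.prod_univ_three]
  rfl

/-- An involution of determinant one in dimension three. -/
theorem exists_diag_one (h2 : (2 : F) ≠ 0) (y : GL (Fin 3) F) (hy : y * y = 1)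
    (hdet : Matrix.GeneralLinearGroup.det y = 1) (hne : y ≠ 1) :
    ∃ g : GL (Fin 3) F, g⁻¹ * y * g = diagU ![1, -1, -1] := by
  obtain ⟨g, d, hd, hg⟩ := exists_diag y (fun μ => μ = 1 ∨ μ = -1) (by
    intro v _
    have hyy : ∀ u, (y : Matrix (Fin 3) (Fin 3) F) *ᵥ ((y : Matrix (Fin 3) (Fin 3) F) *ᵥ u) = u := fun u => by
      rw [Matrix.mulVec_mulVec, ← Units.val_mul, hy, Units.val_one, Matrix.one_mulVec]
    have e : v = (2 : F)⁻¹ • (v + (y : Matrix (Fin 3) (Fin 3) F) *ᵥ v) + (2 : F)⁻¹ • (v - (y : Matrix (Fin 3) (Fin 3) F) *ᵥ v) := by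
      rw [← smul_add, add_add_sub_cancel, ← two_smul F v, smul_smul, inv_mul_cancel₀ h2, one_smul]
    rw [e]
    refine Submodule.add_mem _ (Submodule.smul_mem _ _ (Submodule.subset_span ⟨1, Or.inl rfl, ?_⟩))
      (Submodule.smul_mem _ _ (Submodule.subset_span ⟨-1, Or.inr rfl, ?_⟩))
    · rw [Matrix.mulVec_add, hyy, one_smul, add_comm]
    · rw [Matrix.mulVec_sub, hyy, neg_one_smul, neg_sub])
    (by rintro μ (rfl | rfl) <;> simp)
  have hprod : d 0 * d 1 * d 2 = 1 := by
    rw [← det_diagU, ← hg, map_mul, map_mul, map_inv, hdet, mul_one, inv_mul_cancel]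
  have hall : ¬ (∀ i, d i = 1) := fun h => hne (by
    rw [show d = 1 from funext h, diagU_one, mul_assoc, inv_mul_eq_one] at hg
    exact mul_eq_right.1 hg.symm)
  have hd' : ∀ i, d i = 1 ∨ d i = -1 := fun i => (hd i).imp (fun h => Units.ext (by rw [h, Units.val_one]))
    (fun h => Units.ext (by rw [h, Units.val_neg, Units.val_one]))
  have h11 : (-1 : Fˣ) ≠ 1 := fun h => h2 (by
    have := congrArg Units.val h
    simp only [Units.val_neg, Units.val_one] at this
    linear_combination -this)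
  have shift : ∀ (g : GL (Fin 3) F) (d : Fin 3 → Fˣ), g⁻¹ * y * g = diagU d →
      (g * cyc F)⁻¹ * y * (g * cyc F) = diagU fun i => d (i + 1) := fun g d h => by
    rw [_root_.mul_inv_rev, show (cyc F)⁻¹ * g⁻¹ * y * (g * cyc F) = (cyc F)⁻¹ * (g⁻¹ * y * g * cyc F) by
      simp only [mul_assoc], h, diagU_mul_cyc, inv_mul_cancel_left]
  rcases hd' 0 with a | a <;> rcases hd' 1 with b | b <;> rcases hd' 2 with c | c
  · exact absurd (fun i => by fin_cases i <;> assumption) hall
  · simp [a, b, c, h11] at hprod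
  · simp [a, b, c, h11] at hprod
  · exact ⟨g, hg.trans (congrArg diagU (funext fun i => by fin_cases i <;> assumption))⟩
  · simp [a, b, c, h11] at hprod
  · refine ⟨_, (shift g d hg).trans (congrArg diagU (funext fun i => ?_))⟩
    fin_cases i <;> simpa
  · refine ⟨_, (shift _ _ (shift g d hg)).trans (congrArg diagU (funext fun i => ?_))⟩
    fin_cases i <;> simpa
  · simp [a, b, c, h11] at hprod

end

/-- Elements of prime order of PSL_3(p), p ≡ 1 (mod 3), and the normalizer of an extraspecial subgroup of order 27. Here `T = PSL_3(F)` for the field `F` with `p` elements, `p` a prime with `p ≡ 1 (mod 3)`; `R` is a non-abelian subgroup of GL_3(F) of order 27 and exponent 3 (an extraspecial group 3^{1+2}, acting absolutely irreducibly), and `H` is the subgroup of matrices of determinant 1 normalizing `R` — a subgroup of type 3^{1+2}.Sp₂(3) (maximality is not assumed). Ω is the set of cosets of `H` in `T`, so an element of `T` of prime order `r` (a matrix `x` of determinant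 1 with `x^r` scalar, `x` not scalar) fixes a point of Ω exactly when some conjugate of `x` by a matrix of determinant 1 normalizes `R`. Let `r` be a prime dividing the index of `H`. Then every element of `T` of order `r` fixes a point of Ω if and only if `r = 2`, or `r = 3` and `p ≡ 1 (mod 9)`. -/
theorem result {F : Type*} [Field F] [Fintype F] {p : ℕ} [Fact p.Prime] [CharP F p] (hF : Fintype.card F = p) (hp3 : p % 3 = 1)
    (R : Subgroup (GL (Fin 3) F)) (hR : Nat.card R = 27) (hRe : Monoid.exponent R = 3) (hRna : ¬ IsMulCommutative R)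
    (r : ℕ) [Fact r.Prime]
    (hΩ : r ∣ (Cfsg.Geo.subgroupNormalizer R).relIndex (Cfsg.Geo.specialLinear (Fin 3) F)) :
    (∀ x ∈ Cfsg.Geo.specialLinear (Fin 3) F, (∃ z : F, ((x ^ r : GL (Fin 3) F) : Matrix (Fin 3) (Fin 3) F) = z • (1 : Matrix (Fin 3) (Fin 3) F)) →
      (∀ z : F, (x : Matrix (Fin 3) (Fin 3) F) ≠ z • (1 : Matrix (Fin 3) (Fin 3) F)) →
      ∃ g ∈ Cfsg.Geo.specialLinear (Fin 3) F, g⁻¹ * x * g ∈ Cfsg.Geo.subgroupNormalizer R) ↔ (r = 2 ∨ (r = 3 ∧ p % 9 = 1)) := by
  classical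
  have hp : p.Prime := Fact.out
  have hp4 : 4 ≤ p := by
    by_contra h
    interval_cases p <;> simp_all (config := { decide := true })
  have hne : ∀ m : ℕ, 0 < m → m < p → (m : F) ≠ 0 := fun m h0 hm h => by
    rw [CharP.cast_eq_zero_iff F p] at h
    exact absurd (Nat.le_of_dvd h0 h) (by omega)
  have h3 : (3 : F) ≠ 0 := by exact_mod_cast hne 3 (by norm_num) (by omega)
  have h2 : (2 : F) ≠ 0 := by exact_mod_cast hne 2 (by norm_num) (by omega)
  haveI : Fact (Nat.Prime 3) := ⟨Nat.prime_three⟩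
  have hcardU : Nat.card Fˣ = p - 1 := by rw [Nat.card_units, Nat.card_eq_fintype_card, hF]
  obtain ⟨w, hw0⟩ := exists_prime_orderOf_dvd_card' (G := Fˣ) 3 (by rw [hcardU]; omega)
  have hw : (w : F) ^ 2 + (w : F) + 1 = 0 := by
    have h : ((w : F) - 1) * ((w : F) ^ 2 + (w : F) + 1) = 0 := by
      have : (w : F) ^ 3 = 1 := by rw [← Units.val_pow_eq_pow_val, ← hw0, pow_orderOf_eq_one, Units.val_one]
      linear_combination this
    refine (mul_eq_zero.1 h).resolve_left fun h1 => ?_
    rw [sub_eq_zero, Units.val_eq_one] at h1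
    rw [h1, orderOf_one] at hw0
    norm_num at hw0
  obtain ⟨g0, hg0⟩ := exists_conj hw h3 R hR hRe hRna
  have memN : ∀ n, n ∈ Cfsg.Geo.subgroupNormalizer R ↔ ∀ h, h ∈ R ↔ n * h * n⁻¹ ∈ R := fun n => Subgroup.mem_normalizer_iff
  have hN : ∀ n, (n * scal w * n⁻¹ ∈ std w ∧ n * clock w * n⁻¹ ∈ std w ∧ n * cyc F * n⁻¹ ∈ std w) →
      g0 * n * g0⁻¹ ∈ Cfsg.Geo.subgroupNormalizer R := by
    intro n hn
    rw [memN]
    intro h
    rw [hg0, hg0, mem_normalizer_of hn (g0⁻¹ * h * g0)]
    simp [mul_assoc]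
  have hscalgen : ∀ (c : Fˣ) (n : GL (Fin 3) F),
      (n * scal w * n⁻¹ ∈ std w ∧ n * clock w * n⁻¹ ∈ std w ∧ n * cyc F * n⁻¹ ∈ std w) →
      (scal c * n) * scal w * (scal c * n)⁻¹ ∈ std w ∧ (scal c * n) * clock w * (scal c * n)⁻¹ ∈ std w ∧
        (scal c * n) * cyc F * (scal c * n)⁻¹ ∈ std w := by
    intro c n hn
    have e : ∀ X, scal c * n * X * (scal c * n)⁻¹ = n * X * n⁻¹ := fun X => by
      rw [_root_.mul_inv_rev, show scal c * n * X * (n⁻¹ * (scal c)⁻¹) = scal c * (n * X * n⁻¹) * (scal c)⁻¹ by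
        simp only [mul_assoc], scal_comm, mul_inv_cancel_right]
    simpa only [e] using hn
  have hconj : ∀ (x g M : GL (Fin 3) F), x ∈ Cfsg.Geo.specialLinear (Fin 3) F → g⁻¹ * x * g = M →
      (∀ t : Fˣ, M * diagU ![t, 1, 1] = diagU ![t, 1, 1] * M) →
      (M * scal w * M⁻¹ ∈ std w ∧ M * clock w * M⁻¹ ∈ std w ∧ M * cyc F * M⁻¹ ∈ std w) →
      ∃ P ∈ Cfsg.Geo.specialLinear (Fin 3) F, P⁻¹ * x * P ∈ Cfsg.Geo.subgroupNormalizer R := by
    intro x g M hx hg hcomm hgen
    set t : Fˣ := (Matrix.GeneralLinearGroup.det g)⁻¹ * Matrix.GeneralLinearGroup.det g0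
    refine ⟨g * diagU ![t, 1, 1] * g0⁻¹, ?_, ?_⟩
    · show Matrix.GeneralLinearGroup.det _ = 1
      rw [map_mul, map_mul, map_inv, det_diagU]
      simp [t]
    · have e : (g * diagU ![t, 1, 1] * g0⁻¹)⁻¹ * x * (g * diagU ![t, 1, 1] * g0⁻¹) =
          g0 * ((diagU ![t, 1, 1])⁻¹ * ((g⁻¹ * x * g) * diagU ![t, 1, 1])) * g0⁻¹ := by
        simp only [_root_.mul_inv_rev, inv_inv, mul_assoc]
      rw [e, hg, hcomm, inv_mul_cancel_left]
      exact hN M hgen
  have hRSL : R ≤ Cfsg.Geo.specialLinear (Fin 3) F := by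
    have hstd : std w ≤ Cfsg.Geo.specialLinear (Fin 3) F := by
      rw [std, Subgroup.closure_le]
      rintro u (rfl | rfl | rfl)
      · show Matrix.GeneralLinearGroup.det _ = 1
        rw [det_diagU, ← pow_two, ← pow_succ, w_cube hw]
      · show Matrix.GeneralLinearGroup.det _ = 1
        rw [det_diagU]
        simp only [Matrix.cons_val_zero, Matrix.cons_val_one, Matrix.cons_val, one_mul]
        rw [← pow_succ', w_cube hw]
      · exact Units.ext cyc_det
    intro x hx
    have h := hstd ((hg0 x).1 hx)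
    have h' : Matrix.GeneralLinearGroup.det (g0⁻¹ * x * g0) = 1 := h
    show Matrix.GeneralLinearGroup.det x = 1
    rwa [map_mul, map_mul, map_inv, mul_comm, mul_inv_cancel_left] at h'
  have hscal : ∀ (x : GL (Fin 3) F) (z : F), (x : Matrix (Fin 3) (Fin 3) F) = z • 1 →
      ∀ u, Matrix.GeneralLinearGroup.det x = u → z ^ 3 = (u : F) := fun x z h u hu => by
    rw [← hu, Matrix.GeneralLinearGroup.val_det_apply, h, Matrix.det_smul, Matrix.det_one, mul_one, Fintype.card_fin]
  constructor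
  · intro hall
    by_contra hcon
    by_cases hr3 : r = 3
    · subst hr3
      have hp9 : p % 9 ≠ 1 := fun h => hcon (Or.inr ⟨rfl, h⟩)
      -- the index is prime to three
      set SL := Cfsg.Geo.specialLinear (Fin 3) F
      set H := (Cfsg.Geo.subgroupNormalizer R).subgroupOf SL
      have h27 : 27 ∣ Nat.card H := by
        rw [← hR, Nat.card_congr (Subgroup.subgroupOfEquivOfLe hRSL).toEquiv.symm]
        refine Subgroup.card_dvd_of_le fun x hx => ?_
        exact (Subgroup.le_normalizer (H := R)) hx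
      have h81 : 81 ∣ Nat.card SL := by
        rw [← H.card_mul_index]
        exact Nat.mul_dvd_mul h27 hΩ
      have hGL : Nat.card SL * (p - 1) = Nat.card (GL (Fin 3) F) := by
        rw [← SL.card_mul_index, ← hcardU]
        show _ = Nat.card SL * (Matrix.GeneralLinearGroup.det : GL (Fin 3) F →* Fˣ).ker.index
        rw [Subgroup.index_ker, MonoidHom.range_eq_top.2 fun u => ⟨diagU ![u, 1, 1], by rw [det_diagU]; simp⟩,
          Subgroup.card_top]
      obtain ⟨a, ha⟩ : ∃ a, p = 3 * a + 1 := ⟨p / 3, by omega⟩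
      have ha3 : ¬ 3 ∣ a := fun ⟨b, hb⟩ => hp9 (by omega)
      have hcard : Nat.card (GL (Fin 3) F) = 3 ^ 4 * (p ^ 3 * a ^ 3 * (p + 1) * (3 * a * a + 3 * a + 1)) := by
        rw [Matrix.card_GL_field, Fin.prod_univ_three, hF]
        simp only [Fin.val_zero, Fin.val_one, Fin.val_two, pow_zero, pow_one]
        have e1 : p ^ 3 - 1 = 3 * a * (p * p + p + 1) := by
          have : p ^ 3 = 3 * a * (p * p + p + 1) + 1 := by subst ha; ring
          omega
        have e2 : p ^ 3 - p = 3 * a * p * (p + 1) := by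
          have : p ^ 3 = 3 * a * p * (p + 1) + p := by subst ha; ring
          omega
        have e3 : p ^ 3 - p ^ 2 = 3 * a * (p * p) := by
          have : p ^ 3 = 3 * a * (p * p) + p ^ 2 := by subst ha; ring
          omega
        rw [e1, e2, e3, show p * p + p + 1 = 3 * (3 * a * a + 3 * a + 1) by subst ha; ring]
        ring
      have h243 : 3 ^ 5 ∣ Nat.card (GL (Fin 3) F) := by
        rw [← hGL, show (3 : ℕ) ^ 5 = 81 * 3 by norm_num]
        exact Nat.mul_dvd_mul h81 ⟨a, by omega⟩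
      rw [hcard, pow_succ, Nat.mul_dvd_mul_iff_left (by norm_num)] at h243
      rcases (Nat.Prime.dvd_mul Nat.prime_three).1 h243 with h | h
      · rcases (Nat.Prime.dvd_mul Nat.prime_three).1 h with h | h
        · rcases (Nat.Prime.dvd_mul Nat.prime_three).1 h with h | h
          · exact absurd (Nat.prime_three.dvd_of_dvd_pow h) (by omega)
          · exact ha3 (Nat.prime_three.dvd_of_dvd_pow h)
        · omega
      · rw [Nat.mul_assoc] at h
        omega
    · have hr2 : r ≠ 2 := fun h => hcon (Or.inl h)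
      have hr5 : 5 ≤ r := by
        have := (Fact.out : r.Prime).two_le
        rcases eq_or_ne r 4 with h | h
        · exact absurd (h ▸ (Fact.out : r.Prime)) (by norm_num)
        · omega
      obtain ⟨x₀, hx₀⟩ := exists_prime_orderOf_dvd_card' (G := ↥(Cfsg.Geo.specialLinear (Fin 3) F)) r
        (dvd_trans hΩ (Subgroup.index_dvd_card _))
      have hxo : orderOf (x₀ : GL (Fin 3) F) = r := by rw [Subgroup.orderOf_coe, hx₀]
      have hxns : ∀ z : F, ((x₀ : GL (Fin 3) F) : Matrix (Fin 3) (Fin 3) F) ≠ z • 1 := by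
        intro z hz
        have hz3 := hscal _ z hz 1 x₀.2
        rw [Units.val_one] at hz3
        have hzr : z ^ r = 1 := by
          have h1 : ((x₀ : GL (Fin 3) F) ^ r) = 1 := by rw [← hxo, pow_orderOf_eq_one]
          have h2 := congrArg (fun u : GL (Fin 3) F => (u : Matrix (Fin 3) (Fin 3) F) 0 0) h1
          simpa [Units.val_pow_eq_pow_val, hz, smul_pow] using h2
        have hz1 : z = 1 := by
          have : orderOf z ∣ Nat.gcd 3 r := Nat.dvd_gcd (orderOf_dvd_of_pow_eq_one hz3) (orderOf_dvd_of_pow_eq_one hzr)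
          rw [(Nat.coprime_primes Nat.prime_three Fact.out).2 (Ne.symm hr3) |>.gcd_eq_one, Nat.dvd_one] at this
          exact orderOf_eq_one_iff.1 this
        have : (x₀ : GL (Fin 3) F) = 1 := Units.ext (by rw [hz, hz1, one_smul, Units.val_one])
        rw [this, orderOf_one] at hxo
        omega
      obtain ⟨P, hP, hPN⟩ := hall x₀ x₀.2 ⟨1, by rw [← hxo, pow_orderOf_eq_one, Units.val_one, one_smul]⟩ hxns
      set n := P⁻¹ * (x₀ : GL (Fin 3) F) * P with hn
      have hno : orderOf n = r := by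
        rw [hn, ← hxo]
        exact orderOf_injective (MulAut.conj P⁻¹).toMonoidHom (MulAut.conj P⁻¹).injective x₀ ▸ by simp
      have hsub : Subgroup.zpowers n ≤ Cfsg.Geo.subgroupNormalizer R := Subgroup.zpowers_le.2 hPN
      letI : MulAction (Subgroup.zpowers n) R :=
        { smul := fun h x => ⟨h.1 * x.1 * h.1⁻¹, ((memN h.1).1 (hsub h.2) x.1).1 x.2⟩
          one_smul := fun x => Subtype.ext (by show (1 : GL (Fin 3) F) * x.1 * 1⁻¹ = x.1; simp)
          mul_smul := fun a b x => Subtype.ext (by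
            show (a.1 * b.1) * x.1 * (a.1 * b.1)⁻¹ = a.1 * (b.1 * x.1 * b.1⁻¹) * a.1⁻¹
            simp [mul_assoc]) }
      have hpg : IsPGroup r (Subgroup.zpowers n) :=
        IsPGroup.of_card (n := 1) (by rw [Nat.card_zpowers, hno, pow_one])
      have hmod := hpg.card_modEq_card_fixedPoints R
      set C := R ⊓ Subgroup.centralizer {n} with hC
      have hfix : Nat.card ↑(MulAction.fixedPoints (Subgroup.zpowers n) R) = Nat.card C := by
        refine Nat.card_congr ⟨fun x => ⟨x.1.1, x.1.2, ?_⟩, fun c => ⟨⟨c.1, c.2.1⟩, ?_⟩, fun x => rfl, fun c => rfl⟩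
        · refine Subgroup.mem_centralizer_singleton_iff.2 ?_
          have := congrArg Subtype.val (x.2 ⟨n, Subgroup.mem_zpowers n⟩)
          change n * x.1.1 * n⁻¹ = x.1.1 at this
          exact (mul_inv_eq_iff_eq_mul.1 this).symm
        · rintro ⟨h, hh⟩
          obtain ⟨k, rfl⟩ := Subgroup.mem_zpowers_iff.1 hh
          refine Subtype.ext ?_
          show n ^ k * c.1 * (n ^ k)⁻¹ = c.1
          have hc := Subgroup.mem_centralizer_singleton_iff.1 c.2.2
          rw [(Commute.zpow_left (show Commute n c.1 from hc.symm) k).eq, mul_inv_cancel_right]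
      rw [hR, hfix] at hmod
      have hCR : C ≤ R := inf_le_left
      obtain ⟨k, hk, hkC⟩ := (Nat.dvd_prime_pow Nat.prime_three).1
        (show Nat.card C ∣ 3 ^ 3 by have := Subgroup.card_dvd_of_le hCR; rwa [hR] at this)
      have hscalR : ∀ c : GL (Fin 3) F, c ∈ std w → g0 * c * g0⁻¹ ∈ R := fun c hc => by
        rw [hg0]; simpa [mul_assoc] using hc
      have hk0 : k ≠ 0 := by
        rintro rfl
        rw [pow_zero, Subgroup.card_eq_one] at hkC
        have hm : g0 * scal w * g0⁻¹ ∈ C := ⟨hscalR _ (scal_mem w), Subgroup.mem_centralizer_singleton_iff.2 (by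
          rw [show g0 * scal w * g0⁻¹ = scal w by rw [← scal_comm, mul_inv_cancel_right], scal_comm])⟩
        rw [hkC, Subgroup.mem_bot, ← scal_comm, mul_inv_cancel_right] at hm
        refine w_ne_one hw h3 ?_
        have := congrArg (fun u : GL (Fin 3) F => (u : Matrix (Fin 3) (Fin 3) F) 0 0) hm
        simpa [scal_val] using this
      have hk3 : k = 3 := by
        have h27 : Nat.card C ≤ 27 := by rw [← hR]; exact Nat.le_of_dvd Nat.card_pos (Subgroup.card_dvd_of_le hCR)
        have hd : r ∣ 27 - Nat.card C := (Nat.modEq_iff_dvd' h27).1 hmod.symm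
        rw [hkC] at hd
        interval_cases k
        · exact absurd rfl hk0
        · norm_num at hd
          have h := (Nat.Prime.dvd_mul (Fact.out : r.Prime)).1 (show r ∣ 2 ^ 3 * 3 from hd)
          rcases h with h | h
          · exact absurd (Nat.le_of_dvd (by norm_num) ((Fact.out : r.Prime).dvd_of_dvd_pow h)) (by omega)
          · exact absurd (Nat.le_of_dvd (by norm_num) h) (by omega)
        · norm_num at hd
          have h := (Nat.Prime.dvd_mul (Fact.out : r.Prime)).1 (show r ∣ 2 * 3 ^ 2 from hd)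
          rcases h with h | h
          · exact absurd (Nat.le_of_dvd (by norm_num) h) (by omega)
          · exact absurd (Nat.le_of_dvd (by norm_num) ((Fact.out : r.Prime).dvd_of_dvd_pow h)) (by omega)
        · rfl
      have hCeq : C = R := Subgroup.eq_of_le_of_card_ge hCR (by rw [hR, hkC, hk3]; norm_num)
      have hcm : ∀ c, c ∈ std w → (g0⁻¹ * n * g0) * c = c * (g0⁻¹ * n * g0) := fun c hc => by
        have h1 : g0 * c * g0⁻¹ ∈ C := hCeq ▸ hscalR c hc
        have h := Subgroup.mem_centralizer_singleton_iff.1 h1.2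
        calc g0⁻¹ * n * g0 * c = g0⁻¹ * (n * (g0 * c * g0⁻¹)) * g0 := by simp [mul_assoc]
          _ = g0⁻¹ * ((g0 * c * g0⁻¹) * n) * g0 := by rw [h]
          _ = c * (g0⁻¹ * n * g0) := by simp [mul_assoc]
      obtain ⟨c, hc⟩ := centralizer_scalar hw h3 (hcm _ (clock_mem w)) (hcm _ (cyc_mem w))
      refine hxns c ?_
      have e : (x₀ : GL (Fin 3) F) = (P * g0) * (g0⁻¹ * n * g0) * (P * g0)⁻¹ := by simp [hn, mul_assoc]
      rw [e, Units.val_mul, Units.val_mul, hc, Matrix.mul_smul, mul_one, Matrix.smul_mul, ← Units.val_mul,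
        mul_inv_cancel, Units.val_one]
  · intro hr x hx hxr hxns
    obtain ⟨z, hz⟩ := hxr
    have hdx : Matrix.GeneralLinearGroup.det x = 1 := hx
    have hz3 : z ^ 3 = 1 := by
      have := hscal _ z hz _ rfl
      rwa [map_pow, hdx, one_pow, Units.val_one] at this
    have hz0 : z ≠ 0 := fun h => by rw [h] at hz3; simp at hz3
    set zu := Units.mk0 z hz0 with hzu
    have hzu3 : zu ^ 3 = 1 := Units.ext (by rw [Units.val_pow_eq_pow_val, Units.val_one]; exact hz3)
    have hxz : x ^ r = scal zu := Units.ext (by rw [hz, scal_val]; rfl)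
    rcases hr with rfl | ⟨rfl, hp9⟩
    · set y := scal zu * x with hy
      have hyy : y * y = 1 := by
        rw [hy, show scal zu * x * (scal zu * x) = scal zu * (x * scal zu) * x by simp only [mul_assoc], ← scal_comm,
          ← mul_assoc, mul_assoc _ x x, ← pow_two x, hxz, ← diagU_mul, ← diagU_mul, ← diagU_one]
        exact congrArg diagU (funext fun _ => by show zu * zu * zu = 1; rw [← pow_three', hzu3])
      have hdy : Matrix.GeneralLinearGroup.det y = 1 := by
        rw [hy, map_mul, hdx, mul_one, det_diagU, ← pow_three', hzu3]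
      have hy1 : y ≠ 1 := fun h => hxns ((zu⁻¹ : Fˣ) : F) (by
        rw [show x = scal zu⁻¹ by
          rw [eq_inv_mul_iff_mul_eq.2 (show scal zu * x = 1 from h), mul_one, diagU_inv]; rfl, scal_val])
      obtain ⟨g, hg⟩ := exists_diag_one h2 y hyy hdy hy1
      obtain ⟨g', hg'⟩ := exists_diag_one h2 (flip' : GL (Fin 3) F) flip'_mul_self
        (Units.ext (by rw [Matrix.GeneralLinearGroup.val_det_apply]; simp [flip', Matrix.det_fin_three]))
        (fun h => by
          have := congrArg (fun u : GL (Fin 3) F => (u : Matrix (Fin 3) (Fin 3) F) 1 1) h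
          simp [flip'] at this)
      refine hconj x (g * g'⁻¹) (scal zu⁻¹ * flip') hx ?_ (fun t => ?_) (hscalgen _ _ (flip'_gen hw))
      · have e : (g * g'⁻¹)⁻¹ * y * (g * g'⁻¹) = flip' := by
          rw [show (g * g'⁻¹)⁻¹ * y * (g * g'⁻¹) = g' * (g⁻¹ * y * g) * g'⁻¹ by simp [mul_assoc], hg, ← hg']
          simp [mul_assoc]
        have ex : x = scal zu⁻¹ * y := by
          rw [hy, ← mul_assoc, ← diagU_mul, show ((fun _ : Fin 3 => zu⁻¹) * fun _ => zu) = 1 from
            funext fun _ => inv_mul_cancel zu, diagU_one, one_mul]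
        rw [ex, ← mul_assoc _ (scal zu⁻¹) y, ← scal_comm, mul_assoc, mul_assoc, ← mul_assoc _ y, e]
      · rw [mul_assoc, flip'_diagU, ← mul_assoc, scal_comm, mul_assoc]
        rfl
    · haveI : Fact (Nat.Prime 3) := ⟨Nat.prime_three⟩
      obtain ⟨ζ, hζ⟩ := IsCyclic.exists_ofOrder_eq_natCard (α := Fˣ)
      obtain ⟨a₁, ha₁⟩ : ∃ a₁ : Fˣ, a₁ ^ 3 = w := by
        have h9 : 9 ∣ p - 1 := by omega
        obtain ⟨m, hm⟩ := h9
        have hm0 : m ≠ 0 := by rintro rfl; omega
        have ho : orderOf (ζ ^ m) = 9 := by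
          rw [orderOf_pow_of_dvd hm0 (by rw [hζ, hcardU, hm]; exact Dvd.intro_left 9 rfl), hζ, hcardU, hm,
            Nat.mul_div_cancel _ (Nat.pos_of_ne_zero hm0)]
        obtain ⟨i, hi3, hi⟩ := eq_pow_of_cube hw (e := (ζ ^ m) ^ 3) (by rw [← pow_mul (ζ ^ m), show 3 * 3 = 9 from rfl, ← ho, pow_orderOf_eq_one])
        interval_cases i
        · exfalso
          rw [pow_zero] at hi
          have := orderOf_dvd_of_pow_eq_one hi
          rw [ho] at this
          norm_num at this
        · exact ⟨ζ ^ m, by rw [hi, pow_one]⟩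
        · exact ⟨(ζ ^ m) ^ 2, by rw [← pow_mul, pow_mul', hi, ← pow_mul, show 2 * 2 = 3 + 1 from rfl, pow_succ, w_cube hw, one_mul]⟩
      obtain ⟨i, -, hi⟩ := eq_pow_of_cube hw hzu3
      set a := a₁ ^ i with ha
      have ha3 : a ^ 3 = zu := by rw [ha, ← pow_mul, pow_mul', ha₁, hi]
      set y := scal a⁻¹ * x with hy
      have hy3 : y ^ 3 = 1 := by
        rw [hy, (show Commute (scal a⁻¹) x from scal_comm _ _).mul_pow, hxz, ← diagU_pow, ← diagU_mul, ← diagU_one]
        exact congrArg diagU (funext fun _ => by show a⁻¹ ^ 3 * zu = 1; rw [inv_pow, ha3, inv_mul_cancel])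
      have hyc : ∀ u, (y : Matrix (Fin 3) (Fin 3) F) *ᵥ ((y : Matrix (Fin 3) (Fin 3) F) *ᵥ
          ((y : Matrix (Fin 3) (Fin 3) F) *ᵥ u)) = u := fun u => by
        rw [Matrix.mulVec_mulVec, Matrix.mulVec_mulVec, mul_assoc, ← Units.val_mul, ← Units.val_mul, ← pow_two, ← pow_succ',
          hy3, Units.val_one, Matrix.one_mulVec]
      have hw3 : (w : F) ^ 3 = 1 := by linear_combination ((w : F) - 1) * hw
      obtain ⟨g, d, hd, hg⟩ := exists_diag y (fun μ => μ ^ 3 = 1) (by
        intro v _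
        set Y := (y : Matrix (Fin 3) (Fin 3) F)
        let s : F → (Fin 3 → F) := fun m => v + m ^ 2 • (Y *ᵥ v) + m • (Y *ᵥ (Y *ᵥ v))
        have hs : ∀ m : F, m ^ 3 = 1 → s m ∈ Submodule.span F {v | ∃ μ : F, μ ^ 3 = 1 ∧ Y *ᵥ v = μ • v} := fun m hm =>
          Submodule.subset_span ⟨m, hm, by
            simp only [s, Matrix.mulVec_add, Matrix.mulVec_smul, hyc]
            linear_combination (norm := module) (-hm) • (Y *ᵥ v)⟩
        have e : v = (3 : F)⁻¹ • (s 1 + s (w : F) + s ((w : F) ^ 2)) := by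
          have : s 1 + s (w : F) + s ((w : F) ^ 2) = (3 : F) • v := by
            simp only [s]
            linear_combination (norm := module) (hw + (w : F) * hw3) • (Y *ᵥ v) + hw • (Y *ᵥ (Y *ᵥ v))
          rw [this, smul_smul, inv_mul_cancel₀ h3, one_smul]
        rw [e]
        exact Submodule.smul_mem _ _ (Submodule.add_mem _ (Submodule.add_mem _ (hs 1 (one_pow 3)) (hs _ hw3))
          (hs _ (by rw [← pow_mul, pow_mul', hw3, one_pow]))))
        (fun μ hμ h => by rw [h] at hμ; simp at hμ)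
      have hd' : ∀ i, d i ^ 3 = 1 := fun i => Units.ext (by rw [Units.val_pow_eq_pow_val, hd i, Units.val_one])
      refine hconj x g (scal a * diagU d) hx ?_ (fun t => ?_) (hscalgen _ _ (diag_mem_normalizer_gen hw hd'))
      · have ex : x = scal a * y := by
          rw [hy, ← mul_assoc, ← diagU_mul, show ((fun _ : Fin 3 => a) * fun _ => a⁻¹) = 1 from
            funext fun _ => mul_inv_cancel a, diagU_one, one_mul]
        rw [ex, ← mul_assoc _ (scal a) y, ← scal_comm, mul_assoc, mul_assoc, ← mul_assoc _ y, hg]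
      · rw [← diagU_mul, ← diagU_mul, ← diagU_mul, mul_comm]

end Cfsg.Agent.S5998
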