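import Cfsg.Statements.S5999
import Mathlib
import Cfsg.Agent.Lib.MaxSub.Heisenberg
import Cfsg.Agent.Lib.Geometry.UnitaryBasic
import Cfsg.Agent.Lib.Geometry.HermBasis
import Cfsg.Agent.Lib.Geometry.UnitaryDet
import Cfsg.Agent.Lib.Classical.HermCard

set_option autoImplicit false
set_option maxHeartbeats 1000000
open scoped MatrixGroups
open Cfsg

namespace Cfsg.Agent.S5999

open Matrix
open Cfsg.Agent.Lib.MaxSub.Heisenberg
open Cfsg.Agent.Lib.Geometry (hermBilin hermBilin_apply hermBilin_isSymm frobQ frobQ_apply frobQ_frobQ mem_GU_iff)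

section

variable {F : Type*} [Field F] [Fintype F] {q : ℕ} (hF : Fintype.card F = q ^ 2)

local notation "V" => (Fin 3 → F)

theorem det_diagU (d : Fin 3 → Fˣ) : Matrix.GeneralLinearGroup.det (diagU d) = d 0 * d 1 * d 2 := by
  refine Units.ext ?_
  rw [Matrix.GeneralLinearGroup.val_det_apply, diagU_val, Matrix.det_diagonal, Fin.prod_univ_three]
  rfl

theorem herm_smul (hF : Fintype.card F = q ^ 2) (a b : F) (u v : V) :
    hermBilin 3 hF (a • u) (b • v) = a ^ q * b * hermBilin 3 hF u v := by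
  rw [hermBilin_apply, hermBilin_apply, Cfsg.hermForm, Cfsg.hermForm, Finset.mul_sum]
  refine Finset.sum_congr rfl fun i _ => ?_
  simp only [Pi.smul_apply, smul_eq_mul, mul_pow]
  ring


include hF

theorem diagU_mem {d : Fin 3 → Fˣ} (hd : ∀ i, d i ^ (q + 1) = 1) : diagU d ∈ Cfsg.GU 3 F q := by
  rw [mem_GU_iff]
  intro u v
  simp only [Cfsg.hermForm, diagU_val, Matrix.mulVec_diagonal]
  refine Finset.sum_congr rfl fun i _ => ?_
  have h : (d i : F) * (d i : F) ^ q = 1 := by
    rw [← pow_succ', ← Units.val_pow_eq_pow_val, hd i, Units.val_one]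
  rw [mul_pow]
  linear_combination (u i * v i ^ q) * h

theorem cyc_mem_GU : cyc F ∈ Cfsg.GU 3 F q := by
  rw [mem_GU_iff]
  intro u v
  simp [Cfsg.hermForm, cyc, Matrix.mulVec, dotProduct, Fin.sum_univ_three]
  ring

theorem flip_mem_GU : (flip' : GL (Fin 3) F) ∈ Cfsg.GU 3 F q := by
  rw [mem_GU_iff]
  intro u v
  have hneg : ∀ a : F, (-a) ^ q = -(a ^ q) := fun a => by
    rw [← frobQ_apply hF, ← frobQ_apply hF, map_neg]
  simp [Cfsg.hermForm, flip', Matrix.mulVec, dotProduct, Fin.sum_univ_three, hneg]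
  ring

omit hF in
theorem det_norm_one {g : GL (Fin 3) F} (hF : Fintype.card F = q ^ 2) (hg : g ∈ Cfsg.GU 3 F q) :
    Matrix.GeneralLinearGroup.det g ^ (q + 1) = 1 :=
  MonoidHom.mem_ker.mp (Cfsg.Agent.Lib.Geometry.det_mem_normOneUnits hF ⟨g, hg⟩)

/-- A unitary element with enough eigenvectors is diagonal in an orthonormal basis. -/
theorem exists_unitary_diag (h2 : (2 : F) ≠ 0) (h3 : (3 : F) ≠ 0) {y : GL (Fin 3) F} (hy : y ∈ Cfsg.GU 3 F q) (S : F → Prop)
    (hS : ∀ μ, S μ → μ ^ q * μ = 1)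
    (hsplit : ∀ w : V, ∃ (t : Fin 3 → F) (s : Fin 3 → V), Function.Injective t ∧ w = ∑ i, s i ∧
      ∀ i, (y : Matrix (Fin 3) (Fin 3) F) *ᵥ s i = t i • s i ∧ (s i ≠ 0 → S (t i))) :
    ∃ g ∈ Cfsg.GU 3 F q, ∃ d : Fin 3 → Fˣ, (∀ i, S (d i : F)) ∧ g⁻¹ * y * g = diagU d := by
  classical
  set B := hermBilin 3 hF with hB
  have hsym : ∀ u v, (frobQ hF) (B u v) = B v u := fun u v => (hermBilin_isSymm hF).eq u v
  have hBy : ∀ u v, B ((y : Matrix (Fin 3) (Fin 3) F) *ᵥ u) ((y : Matrix (Fin 3) (Fin 3) F) *ᵥ v) = B u v := fun u v => by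
    rw [hB, hermBilin_apply, hermBilin_apply]; exact (mem_GU_iff.1 hy) v u
  have horth : ∀ (u v : V) (μ ν : F), μ ^ q * μ = 1 → μ ≠ ν →
      (y : Matrix (Fin 3) (Fin 3) F) *ᵥ u = μ • u → (y : Matrix (Fin 3) (Fin 3) F) *ᵥ v = ν • v → B u v = 0 := by
    intro u v μ ν hμ hne hu hv
    have h := hBy u v
    rw [hu, hv, hB, herm_smul] at h
    rw [← hB] at h
    have h' : (ν - μ) * (μ ^ q * B u v) = 0 := by linear_combination h - (B u v) * hμ
    have hμ0 : μ ^ q ≠ 0 := fun h0 => by rw [h0, zero_mul] at hμ; exact zero_ne_one hμ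
    exact (mul_eq_zero.1 ((mul_eq_zero.1 h').resolve_left (sub_ne_zero.2 (Ne.symm hne)))).resolve_left hμ0
  have hB1 : ∀ (u : V) i, B u (Pi.single i 1) = u i ^ q := fun u i => by
    rw [hB, hermBilin_apply, Cfsg.hermForm, Finset.sum_eq_single i] <;> simp +contextual [Pi.single_apply]
  have step : ∀ k, k ≤ 3 → ∃ (e : Fin k → V) (m : Fin k → F), (∀ i j, B (e i) (e j) = if i = j then 1 else 0) ∧
      ∀ i, S (m i) ∧ (y : Matrix (Fin 3) (Fin 3) F) *ᵥ e i = m i • e i := by
    intro k
    induction k with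
    | zero => exact fun _ => ⟨Fin.elim0, Fin.elim0, fun i => i.elim0, fun i => i.elim0⟩
    | succ k ih =>
      intro hk
      obtain ⟨e, m, he, hm⟩ := ih (by omega)
      let w : Fin 3 → V := fun i => Pi.single i 1 - ∑ j, B (e j) (Pi.single i 1) • e j
      have hperp : ∀ l i, B (e l) (w i) = 0 := by
        intro l i
        simp only [w, map_sub, map_sum, map_smul, smul_eq_mul, he, mul_ite, mul_one, mul_zero,
          Finset.sum_ite_eq, Finset.mem_univ, if_true, sub_self]
      have hperp' : ∀ l i, B (w i) (e l) = 0 := fun l i => by rw [← hsym, hperp, map_zero]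
      have hww : ∀ i, B (w i) (w i) = 1 - ∑ j, frobQ hF (B (e j) (Pi.single i 1)) * B (e j) (Pi.single i 1) := by
        intro i
        have e1 : B (w i) (w i) = B (w i) (Pi.single i 1) := by
          show B (w i) (Pi.single i 1 - ∑ j, B (e j) (Pi.single i 1) • e j) = _
          simp [map_sub, map_sum, map_smul, hperp']
        have e2 : B (Pi.single i 1 : V) (Pi.single i 1) = 1 := by rw [hB1]; simp
        rw [e1]
        simp only [w, map_sub, map_sum, LinearMap.map_smulₛₗ, LinearMap.sub_apply, LinearMap.sum_apply,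
          LinearMap.smul_apply, smul_eq_mul, e2]
      obtain ⟨i, hi⟩ : ∃ i, B (w i) (w i) ≠ 0 := by
        by_contra hc
        push Not at hc
        have h : ∑ i, B (w i) (w i) = 0 := Finset.sum_eq_zero fun i _ => hc i
        simp only [hww, Finset.sum_sub_distrib] at h
        rw [Finset.sum_comm] at h
        have e1 : ∀ j, ∑ i, frobQ hF (B (e j) (Pi.single i 1)) * B (e j) (Pi.single i 1) = 1 := by
          intro j
          have hj := he j j
          rw [if_pos rfl, hB, hermBilin_apply, Cfsg.hermForm] at hj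
          refine (Finset.sum_congr rfl fun i _ => ?_).trans hj
          have hff : ((e j i) ^ q) ^ q = e j i := by
            rw [← frobQ_apply hF, ← frobQ_apply hF, frobQ_frobQ]
          rw [hB1, frobQ_apply, hff]
        simp only [e1, Finset.sum_const, Finset.card_univ, Fintype.card_fin, nsmul_eq_mul, mul_one] at h
        rcases (show k = 0 ∨ k = 1 ∨ k = 2 by omega) with rfl | rfl | rfl <;> push_cast at h
        · exact h3 (by linear_combination h)
        · exact h2 (by linear_combination h)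
        · exact one_ne_zero (α := F) (by linear_combination h)
      obtain ⟨t, s, ht, hs, hst⟩ := hsplit (w i)
      have hsS : ∀ a, s a ≠ 0 → t a ^ q * t a = 1 := fun a ha => hS _ ((hst a).2 ha)
      have hss : ∀ a b, a ≠ b → B (s a) (s b) = 0 := fun a b hab => by
        by_cases ha : s a = 0
        · rw [ha, map_zero, LinearMap.zero_apply]
        · exact horth _ _ _ _ (hsS a ha) (fun h => hab (ht h)) (hst a).1 (hst b).1
      obtain ⟨a, ha⟩ : ∃ a, B (s a) (s a) ≠ 0 := by
        by_contra hc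
        push Not at hc
        apply hi
        rw [hs, map_sum]
        simp only [map_sum, LinearMap.sum_apply]
        refine Finset.sum_eq_zero fun a _ => Finset.sum_eq_zero fun b _ => ?_
        by_cases h : a = b
        · subst h; exact hc a
        · first
            | exact hss a b h
            | exact hss b a (Ne.symm h)
      have hsa0 : s a ≠ 0 := fun h => ha (by rw [h, map_zero])
      have hea : ∀ l, B (e l) (s a) = 0 := by
        intro l
        by_cases hla : m l = t a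
        · have h := hperp l i
          rw [hs, map_sum, Finset.sum_eq_single a] at h
          · exact h
          · intro b _ hb
            exact horth _ _ _ _ (hS _ (hm l).1) (fun hh => hb (ht (hh.symm.trans hla))) (hm l).2 (hst b).1
          · simp
        · exact horth _ _ _ _ (hS _ (hm l).1) hla (hm l).2 (hst a).1
      obtain ⟨c, hc⟩ := Cfsg.Agent.Lib.Geometry.exists_mul_conj_eq (Cfsg.Agent.Lib.Geometry.frobQ_ne_id hF)
        (frobQ_frobQ hF) (s := (B (s a) (s a))⁻¹) (by rw [map_inv₀, hsym])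
      refine ⟨Fin.cons (c • s a) e, Fin.cons (t a) m, fun i j => ?_, fun i => ?_⟩
      · refine Fin.cases ?_ (fun i' => ?_) i <;> refine Fin.cases ?_ (fun j' => ?_) j
        · simp only [Fin.cons_zero, if_true]
          rw [hB, herm_smul, ← frobQ_apply hF, hc, ← hB, inv_mul_cancel₀ ha]
        · simp [Fin.succ_ne_zero, (Fin.succ_ne_zero j').symm, LinearMap.map_smulₛₗ,
            show B (s a) (e j') = 0 by rw [← hsym, hea, map_zero]]
        · simp [Fin.succ_ne_zero, hea]
        · simp [he, Fin.succ_inj]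
      · refine Fin.cases ⟨?_, ?_⟩ (fun i' => ?_) i
        · simpa using (hst a).2 hsa0
        · simp only [Fin.cons_zero]
          rw [Matrix.mulVec_smul, (hst a).1, smul_comm]
        · simpa using hm i'
  obtain ⟨e, m, he, hm⟩ := step 3 le_rfl
  let P : Matrix (Fin 3) (Fin 3) F := Matrix.of fun i j => e j i
  have hP : ∀ x : V, P *ᵥ x = ∑ j, x j • e j := fun x => by
    funext i
    simp [P, Matrix.mulVec, dotProduct, Finset.sum_apply, mul_comm]
  have hPB : ∀ u v, B (P *ᵥ u) (P *ᵥ v) = B u v := fun u v => by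
    simp only [hP, map_sum, LinearMap.sum_apply, LinearMap.map_smulₛₗ, LinearMap.smul_apply, map_smul, smul_eq_mul, he]
    rw [hB, hermBilin_apply, Cfsg.hermForm]
    simp [mul_ite, Finset.sum_ite_eq', mul_comm]
  have hdet : P.det ≠ 0 := by
    intro h
    obtain ⟨x, hx0, hx⟩ := Matrix.exists_mulVec_eq_zero_iff.2 h
    refine hx0 ((Cfsg.Agent.Lib.Geometry.hermBilin_nondegenerate hF).1 x fun v => ?_)
    show B x v = 0
    rw [← hPB, hx, map_zero, LinearMap.zero_apply]
  set g : GL (Fin 3) F := Matrix.GeneralLinearGroup.mkOfDetNeZero P hdet with hg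
  have hgP : (g : Matrix (Fin 3) (Fin 3) F) = P := rfl
  have hm0 : ∀ i, m i ≠ 0 := fun i h => by
    have := hS _ (hm i).1
    rw [h, mul_zero] at this
    exact zero_ne_one this
  refine ⟨g, mem_GU_iff.2 fun u v => ?_, fun i => Units.mk0 (m i) (hm0 i), fun i => (hm i).1, ?_⟩
  · have := hPB v u
    rw [hB, hermBilin_apply, hermBilin_apply] at this
    exact this
  rw [mul_assoc, inv_mul_eq_iff_eq_mul]
  refine Units.ext (Matrix.ext_of_mulVec_single fun i => ?_)
  rw [Units.val_mul, Units.val_mul, ← Matrix.mulVec_mulVec, ← Matrix.mulVec_mulVec, hgP, diagU_val]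
  have h2' : Matrix.diagonal (fun j => ((Units.mk0 (m j) (hm0 j) : Fˣ) : F)) *ᵥ (Pi.single i 1 : V) =
      m i • Pi.single i 1 := by
    ext j
    by_cases h : j = i
    · subst h; simp [Matrix.mulVec_diagonal]
    · simp [Matrix.mulVec_diagonal, h]
  have hPi : P *ᵥ Pi.single i 1 = e i := by rw [hP]; simp [Pi.single_apply, ite_smul]
  rw [h2', Matrix.mulVec_smul, hPi, (hm i).2]

/-- A unitary involution of determinant one in dimension three. -/
theorem exists_diag_one (h2 : (2 : F) ≠ 0) (h3 : (3 : F) ≠ 0) (y : GL (Fin 3) F) (hyG : y ∈ Cfsg.GU 3 F q) (hy : y * y = 1)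
    (hdet : Matrix.GeneralLinearGroup.det y = 1) (hne : y ≠ 1) :
    ∃ g ∈ Cfsg.GU 3 F q, g⁻¹ * y * g = diagU ![1, -1, -1] := by
  have hneg : ∀ a : F, (-a) ^ q = -(a ^ q) := fun a => by
    rw [← frobQ_apply hF, ← frobQ_apply hF, map_neg]
  obtain ⟨g, hgG, d, hd, hg⟩ := exists_unitary_diag hF h2 h3 hyG (fun μ => μ = 1 ∨ μ = -1)
    (by rintro μ (rfl | rfl) <;> simp [hneg]) (fun v => by
    have hyy : ∀ u, (y : Matrix (Fin 3) (Fin 3) F) *ᵥ ((y : Matrix (Fin 3) (Fin 3) F) *ᵥ u) = u := fun u => by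
      rw [Matrix.mulVec_mulVec, ← Units.val_mul, hy, Units.val_one, Matrix.one_mulVec]
    refine ⟨![1, -1, 0], ![(2 : F)⁻¹ • (v + (y : Matrix (Fin 3) (Fin 3) F) *ᵥ v),
      (2 : F)⁻¹ • (v - (y : Matrix (Fin 3) (Fin 3) F) *ᵥ v), 0], ?_, ?_, fun i => ?_⟩
    · intro i j h
      fin_cases i <;> fin_cases j <;> simp at h <;>
        first
          | rfl
          | exact absurd (show (2 : F) = 0 by linear_combination h) h2
          | exact absurd (show (2 : F) = 0 by linear_combination -h) h2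
    · rw [Fin.sum_univ_three]
      simp only [Matrix.cons_val_zero, Matrix.cons_val_one, Matrix.cons_val, add_zero]
      rw [← smul_add, add_add_sub_cancel, ← two_smul F v, smul_smul, inv_mul_cancel₀ h2, one_smul]
    · fin_cases i
      · refine ⟨?_, fun _ => Or.inl rfl⟩
        simp [Matrix.mulVec_smul, Matrix.mulVec_add, hyy, add_comm]
      · refine ⟨?_, fun _ => Or.inr rfl⟩
        simp [Matrix.mulVec_smul, Matrix.mulVec_sub, hyy, ← smul_neg]
      · exact ⟨by simp, fun h => absurd rfl h⟩)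
  have hprod : d 0 * d 1 * d 2 = 1 := by
    rw [← det_diagU, ← hg, map_mul, map_mul, map_inv, hdet, mul_one, inv_mul_cancel]
  have hall : ¬ (∀ i, d i = 1) := fun h => hne (by
    rw [show d = 1 from funext h, diagU_one, mul_assoc, inv_mul_eq_one] at hg
    exact mul_eq_right.1 hg.symm)
  have hd' : ∀ i, d i = 1 ∨ d i = -1 := fun i => (hd i).imp (fun h => Units.ext (by rw [h, Units.val_one]))
    (fun h => Units.ext (by rw [h, Units.val_neg, Units.val_one]))
  have h11 : (-1 : Fˣ) ≠ 1 := fun h => h2 (by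
    have := congrArg Units.val h
    simp only [Units.val_neg, Units.val_one] at this
    linear_combination -this)
  have shift : ∀ (g : GL (Fin 3) F) (d : Fin 3 → Fˣ), g⁻¹ * y * g = diagU d →
      (g * cyc F)⁻¹ * y * (g * cyc F) = diagU fun i => d (i + 1) := fun g d h => by
    rw [_root_.mul_inv_rev, show (cyc F)⁻¹ * g⁻¹ * y * (g * cyc F) = (cyc F)⁻¹ * (g⁻¹ * y * g * cyc F) by
      simp only [mul_assoc], h, diagU_mul_cyc, inv_mul_cancel_left]
  rcases hd' 0 with a | a <;> rcases hd' 1 with b | b <;> rcases hd' 2 with c | c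
  · exact absurd (fun i => by fin_cases i <;> assumption) hall
  · simp [a, b, c, h11] at hprod
  · simp [a, b, c, h11] at hprod
  · exact ⟨g, hgG, hg.trans (congrArg diagU (funext fun i => by fin_cases i <;> assumption))⟩
  · simp [a, b, c, h11] at hprod
  · refine ⟨_, mul_mem hgG (cyc_mem_GU hF), (shift g d hg).trans (congrArg diagU (funext fun i => ?_))⟩
    fin_cases i <;> simpa
  · refine ⟨_, mul_mem (mul_mem hgG (cyc_mem_GU hF)) (cyc_mem_GU hF), (shift _ _ (shift g d hg)).trans (congrArg diagU (funext fun i => ?_))⟩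
    fin_cases i <;> simpa
  · simp [a, b, c, h11] at hprod

end

/-- Elements of prime order of PSU_3(p), p ≡ 2 (mod 3), and the normalizer of an extraspecial subgroup of order 27. Here `T = PSU_3(p)` for a prime `p ≥ 5` with `p ≡ 2 (mod 3)`, realised through `SU_3(p)`, the matrices of determinant 1 over the field `F` with `p²` elements preserving the hermitian form `Σ uᵢvᵢ^p`; `R` is a non-abelian subgroup of order 27 and exponent 3 of the full unitary group of that form (an extraspecial group 3^{1+2}, acting absolutely irreducibly), and `H` is the subgroup of `SU_3(p)` normalizing `R` — a subgroup of type 3^{1+2}.Sp₂(3) (maximality is not assumed). Ω is the set of cosets of `H`, so an element of `T` of prime order `r` (`x ∈ SU_3(p)` with `x^r` scalar, `x` not scalar) fixes a point of Ω exactly when some `SU_3(p)`-conjugate of `x` normalizes `R`. Let `r` be a prime dividing the index of `H`. Then every element of `T` of order `r` fixes a point of Ω if and only if `r =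 2`, or `r = 3` and `p ≡ 8 (mod 9)`. -/
theorem result {F : Type*} [Field F] [Fintype F] {p : ℕ} [Fact p.Prime] [CharP F p] (hF : Fintype.card F = p ^ 2) (hp : 5 ≤ p) (hp3 : p % 3 = 2)
    (R : Subgroup (GL (Fin 3) F)) (hRU : R ≤ Cfsg.GU 3 F p) (hR : Nat.card R = 27) (hRe : Monoid.exponent R = 3) (hRna : ¬ IsMulCommutative R)
    (r : ℕ) [Fact r.Prime]
    (hΩ : r ∣ (Cfsg.Geo.subgroupNormalizer R).relIndex (Cfsg.GU 3 F p ⊓ Cfsg.Geo.specialLinear (Fin 3) F)) :
    (∀ x ∈ Cfsg.GU 3 F p ⊓ Cfsg.Geo.specialLinear (Fin 3) F, (∃ z : F, ((x ^ r : GL (Fin 3) F) : Matrix (Fin 3) (Fin 3) F) = z • (1 : Matrix (Fin 3) (Fin 3) F)) →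
      (∀ z : F, (x : Matrix (Fin 3) (Fin 3) F) ≠ z • (1 : Matrix (Fin 3) (Fin 3) F)) →
      ∃ g ∈ Cfsg.GU 3 F p ⊓ Cfsg.Geo.specialLinear (Fin 3) F, g⁻¹ * x * g ∈ Cfsg.Geo.subgroupNormalizer R) ↔ (r = 2 ∨ (r = 3 ∧ p % 9 = 8)) := by
  classical
  have hp5 : 5 ≤ p := hp
  have hp : p.Prime := Fact.out
  have hne : ∀ m : ℕ, 0 < m → m < p → (m : F) ≠ 0 := fun m h0 hm h => by
    rw [CharP.cast_eq_zero_iff F p] at h
    exact absurd (Nat.le_of_dvd h0 h) (by omega)
  have h3 : (3 : F) ≠ 0 := by exact_mod_cast hne 3 (by norm_num) (by omega)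
  have h2 : (2 : F) ≠ 0 := by exact_mod_cast hne 2 (by norm_num) (by omega)
  haveI : Fact (Nat.Prime 3) := ⟨Nat.prime_three⟩
  have hcardU : Nat.card Fˣ = p ^ 2 - 1 := by rw [Nat.card_units, Nat.card_eq_fintype_card, hF]
  have h3p : 3 ∣ p + 1 := by omega
  have hp1 : p + 1 ∣ p ^ 2 - 1 := ⟨p - 1, by rw [← Nat.sq_sub_sq, one_pow]⟩
  obtain ⟨w, hw0⟩ := exists_prime_orderOf_dvd_card' (G := Fˣ) 3 (by rw [hcardU]; exact h3p.trans hp1)
  have hwn : w ^ (p + 1) = 1 := orderOf_dvd_iff_pow_eq_one.1 (hw0 ▸ h3p)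
  have hw : (w : F) ^ 2 + (w : F) + 1 = 0 := by
    have h : ((w : F) - 1) * ((w : F) ^ 2 + (w : F) + 1) = 0 := by
      have : (w : F) ^ 3 = 1 := by rw [← Units.val_pow_eq_pow_val, ← hw0, pow_orderOf_eq_one, Units.val_one]
      linear_combination this
    refine (mul_eq_zero.1 h).resolve_left fun h1 => ?_
    rw [sub_eq_zero, Units.val_eq_one] at h1
    rw [h1, orderOf_one] at hw0
    norm_num at hw0
  obtain ⟨g1, hg1⟩ := exists_conj hw h3 R hR hRe hRna
  -- the conjugating element may be taken unitary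
  obtain ⟨g0, hg0G, hg0⟩ : ∃ g0 ∈ Cfsg.GU 3 F p, ∀ x, x ∈ R ↔ g0⁻¹ * x * g0 ∈ std w := by
    set B := hermBilin 3 hF with hB
    have hG : ∀ c ∈ std w, g1 * c * g1⁻¹ ∈ Cfsg.GU 3 F p := fun c hc => hRU ((hg1 _).2 (by simpa [mul_assoc] using hc))
    set u : Fin 3 → Fin 3 → F := fun j => (g1 : Matrix (Fin 3) (Fin 3) F) *ᵥ Pi.single j 1 with hu
    have hconjB : ∀ c ∈ std w, ∀ i j, B ((g1 : Matrix (Fin 3) (Fin 3) F) *ᵥ ((c : Matrix (Fin 3) (Fin 3) F) *ᵥ Pi.single i 1))
        ((g1 : Matrix (Fin 3) (Fin 3) F) *ᵥ ((c : Matrix (Fin 3) (Fin 3) F) *ᵥ Pi.single j 1)) = B (u i) (u j) := by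
      intro c hc i j
      have h := mem_GU_iff.1 (hG c hc) (u j) (u i)
      rw [hB, hermBilin_apply, hermBilin_apply]
      rw [← h]
      simp only [hu, Matrix.mulVec_mulVec, ← Units.val_mul, inv_mul_cancel_right]
    have hdiag : ∀ i j, i ≠ j → B (u i) (u j) = 0 := by
      intro i j hij
      have hw3 : (w : F) ^ 3 = 1 := by linear_combination ((w : F) - 1) * hw
      have hwp : (w : F) ^ p = (w : F) ^ 2 := by
        have : p = 3 * (p / 3) + 2 := by omega
        rw [this, pow_add, pow_mul, hw3, one_pow, one_mul]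
      have h := hconjB (clock w) (clock_mem w) i j
      have e : ∀ k, (clock w : Matrix (Fin 3) (Fin 3) F) *ᵥ Pi.single k 1 = (w : F) ^ (k : ℕ) • Pi.single k 1 := by
        intro k
        ext l
        fin_cases k <;> fin_cases l <;> simp [clock, diagU_val, Matrix.mulVec_diagonal]
      rw [e, e, Matrix.mulVec_smul, Matrix.mulVec_smul, hB, herm_smul, ← pow_mul, mul_comm (i : ℕ), pow_mul, hwp,
        ← pow_mul, ← pow_add, ← hB] at h
      have hne : (w : F) ^ (2 * (i : ℕ) + (j : ℕ)) ≠ 1 := by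
        intro hh
        rw [← Units.val_pow_eq_pow_val, Units.val_eq_one, ← orderOf_dvd_iff_pow_eq_one, hw0] at hh
        have := Fin.val_ne_of_ne hij
        omega
      by_contra hBne
      exact hne (mul_left_eq_self₀.1 h |>.resolve_right hBne)
    have hstep : ∀ i, B (u (i + 1)) (u (i + 1)) = B (u i) (u i) := by
      intro i
      have h := hconjB (cyc F) (cyc_mem w) i i
      have e : (cyc F : Matrix (Fin 3) (Fin 3) F) *ᵥ Pi.single i 1 = Pi.single (i + 1) 1 := by
        ext l
        fin_cases i <;> fin_cases l <;> simp [cyc]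
      rwa [e] at h
    set h0 := B (u 0) (u 0) with hh0
    have hall : ∀ i, B (u i) (u i) = h0 := by
      intro i
      fin_cases i
      · rfl
      · exact hstep 0
      · exact (hstep 1).trans (hstep 0)
    have hg1v : ∀ a b : Fin 3 → F, B ((g1 : Matrix (Fin 3) (Fin 3) F) *ᵥ a) ((g1 : Matrix (Fin 3) (Fin 3) F) *ᵥ b) =
        h0 * B a b := by
      intro a b
      have e : ∀ a : Fin 3 → F, (g1 : Matrix (Fin 3) (Fin 3) F) *ᵥ a = ∑ j, a j • u j := fun a => by
        funext i
        simp [hu, Matrix.mulVec, dotProduct, Finset.sum_apply, mul_comm, Pi.single_apply]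
      simp only [e, map_sum, LinearMap.sum_apply, LinearMap.map_smulₛₗ, LinearMap.smul_apply, map_smul, smul_eq_mul]
      rw [hB, hermBilin_apply, Cfsg.hermForm, Finset.mul_sum]
      refine Finset.sum_congr rfl fun j _ => ?_
      rw [Finset.sum_eq_single j]
      · rw [← hB, hall, frobQ_apply]; ring
      · intro k _ hk; rw [← hB, hdiag k j hk]; simp
      · simp
    have hh0ne : h0 ≠ 0 := by
      intro h
      have hu0 : u 0 = 0 := (Cfsg.Agent.Lib.Geometry.hermBilin_nondegenerate hF).1 _ fun v => by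
        obtain ⟨b, rfl⟩ : ∃ b, (g1 : Matrix (Fin 3) (Fin 3) F) *ᵥ b = v :=
          ⟨((g1⁻¹ : GL (Fin 3) F) : Matrix (Fin 3) (Fin 3) F) *ᵥ v, by
            rw [Matrix.mulVec_mulVec, ← Units.val_mul, mul_inv_cancel, Units.val_one, Matrix.one_mulVec]⟩
        show B (u 0) _ = 0
        rw [hu, hg1v, h, zero_mul]
      have := congrArg (fun z => ((g1⁻¹ : GL (Fin 3) F) : Matrix (Fin 3) (Fin 3) F) *ᵥ z) hu0
      simp only [hu, Matrix.mulVec_mulVec, ← Units.val_mul, inv_mul_cancel, Units.val_one, Matrix.one_mulVec,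
        Matrix.mulVec_zero] at this
      simpa using congrFun this 0
    obtain ⟨c, hc⟩ := Cfsg.Agent.Lib.Geometry.exists_mul_conj_eq (Cfsg.Agent.Lib.Geometry.frobQ_ne_id hF)
      (frobQ_frobQ hF) (s := h0⁻¹) (by rw [map_inv₀, (hermBilin_isSymm hF).eq])
    have hc0 : c ≠ 0 := fun h => inv_ne_zero hh0ne (by rw [← hc, h, mul_zero])
    refine ⟨g1 * scal (Units.mk0 c hc0), mem_GU_iff.2 fun a b => ?_, fun x => ?_⟩
    · show hermBilin 3 hF _ _ = hermBilin 3 hF b a
      rw [Units.val_mul, ← Matrix.mulVec_mulVec, ← Matrix.mulVec_mulVec, scal_val, Matrix.smul_mulVec, Matrix.one_mulVec,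
        Matrix.smul_mulVec, Matrix.one_mulVec, hg1v, hB, herm_smul, Units.val_mk0]
      have hc' : c ^ p * c * h0 = 1 := by rw [← frobQ_apply hF, hc, inv_mul_cancel₀ hh0ne]
      linear_combination (B b a) * hc'
    · rw [hg1, _root_.mul_inv_rev, show (scal (Units.mk0 c hc0))⁻¹ * g1⁻¹ * x * (g1 * scal (Units.mk0 c hc0)) =
        (scal (Units.mk0 c hc0))⁻¹ * ((g1⁻¹ * x * g1) * scal (Units.mk0 c hc0)) by simp only [mul_assoc],
        ← scal_comm, inv_mul_cancel_left]
  have memN : ∀ n, n ∈ Cfsg.Geo.subgroupNormalizer R ↔ ∀ h, h ∈ R ↔ n * h * n⁻¹ ∈ R := fun n => Subgroup.mem_normalizer_iff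
  have hN : ∀ n, (n * scal w * n⁻¹ ∈ std w ∧ n * clock w * n⁻¹ ∈ std w ∧ n * cyc F * n⁻¹ ∈ std w) →
      g0 * n * g0⁻¹ ∈ Cfsg.Geo.subgroupNormalizer R := by
    intro n hn
    rw [memN]
    intro h
    rw [hg0, hg0, mem_normalizer_of hn (g0⁻¹ * h * g0)]
    simp [mul_assoc]
  have hscalgen : ∀ (c : Fˣ) (n : GL (Fin 3) F),
      (n * scal w * n⁻¹ ∈ std w ∧ n * clock w * n⁻¹ ∈ std w ∧ n * cyc F * n⁻¹ ∈ std w) →
      (scal c * n) * scal w * (scal c * n)⁻¹ ∈ std w ∧ (scal c * n) * clock w * (scal c * n)⁻¹ ∈ std w ∧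
        (scal c * n) * cyc F * (scal c * n)⁻¹ ∈ std w := by
    intro c n hn
    have e : ∀ X, scal c * n * X * (scal c * n)⁻¹ = n * X * n⁻¹ := fun X => by
      rw [_root_.mul_inv_rev, show scal c * n * X * (n⁻¹ * (scal c)⁻¹) = scal c * (n * X * n⁻¹) * (scal c)⁻¹ by
        simp only [mul_assoc], scal_comm, mul_inv_cancel_right]
    simpa only [e] using hn
  have hconj : ∀ (x g M : GL (Fin 3) F), g ∈ Cfsg.GU 3 F p → g⁻¹ * x * g = M →
      (∀ t : Fˣ, M * diagU ![t, 1, 1] = diagU ![t, 1, 1] * M) →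
      (M * scal w * M⁻¹ ∈ std w ∧ M * clock w * M⁻¹ ∈ std w ∧ M * cyc F * M⁻¹ ∈ std w) →
      ∃ P ∈ Cfsg.GU 3 F p ⊓ Cfsg.Geo.specialLinear (Fin 3) F, P⁻¹ * x * P ∈ Cfsg.Geo.subgroupNormalizer R := by
    intro x g M hgG hg hcomm hgen
    set t : Fˣ := (Matrix.GeneralLinearGroup.det g)⁻¹ * Matrix.GeneralLinearGroup.det g0
    have htn : t ^ (p + 1) = 1 := by
      simp only [t, mul_pow, inv_pow, det_norm_one hF hgG, det_norm_one hF hg0G, inv_one, mul_one]
    have hdG : diagU ![t, 1, 1] ∈ Cfsg.GU 3 F p := diagU_mem hF fun i => by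
      fin_cases i
      · exact htn
      · exact one_pow _
      · exact one_pow _
    refine ⟨g * diagU ![t, 1, 1] * g0⁻¹, Subgroup.mem_inf.2 ⟨(Cfsg.GU 3 F p).mul_mem (mul_mem hgG hdG) ((Cfsg.GU 3 F p).inv_mem hg0G), ?_⟩, ?_⟩
    · show Matrix.GeneralLinearGroup.det _ = 1
      rw [map_mul, map_mul, map_inv, det_diagU]
      simp [t]
    · have e : (g * diagU ![t, 1, 1] * g0⁻¹)⁻¹ * x * (g * diagU ![t, 1, 1] * g0⁻¹) =
          g0 * ((diagU ![t, 1, 1])⁻¹ * ((g⁻¹ * x * g) * diagU ![t, 1, 1])) * g0⁻¹ := by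
        simp only [_root_.mul_inv_rev, inv_inv, mul_assoc]
      rw [e, hg, hcomm, inv_mul_cancel_left]
      exact hN M hgen
  have hRSL : R ≤ Cfsg.Geo.specialLinear (Fin 3) F := by
    have hstd : std w ≤ Cfsg.Geo.specialLinear (Fin 3) F := by
      rw [std, Subgroup.closure_le]
      rintro u (rfl | rfl | rfl)
      · show Matrix.GeneralLinearGroup.det _ = 1
        rw [det_diagU, ← pow_two, ← pow_succ, w_cube hw]
      · show Matrix.GeneralLinearGroup.det _ = 1
        rw [det_diagU]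
        simp only [Matrix.cons_val_zero, Matrix.cons_val_one, Matrix.cons_val, one_mul]
        rw [← pow_succ', w_cube hw]
      · exact Units.ext cyc_det
    intro x hx
    have h := hstd ((hg0 x).1 hx)
    have h' : Matrix.GeneralLinearGroup.det (g0⁻¹ * x * g0) = 1 := h
    show Matrix.GeneralLinearGroup.det x = 1
    rwa [map_mul, map_mul, map_inv, mul_comm, mul_inv_cancel_left] at h'
  have hscal : ∀ (x : GL (Fin 3) F) (z : F), (x : Matrix (Fin 3) (Fin 3) F) = z • 1 →
      ∀ u, Matrix.GeneralLinearGroup.det x = u → z ^ 3 = (u : F) := fun x z h u hu => by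
    rw [← hu, Matrix.GeneralLinearGroup.val_det_apply, h, Matrix.det_smul, Matrix.det_one, mul_one, Fintype.card_fin]
  constructor
  · intro hall
    by_contra hcon
    by_cases hr3 : r = 3
    · subst hr3
      have hp9 : p % 9 ≠ 8 := fun h => hcon (Or.inr ⟨rfl, h⟩)
      -- the index is prime to three
      set SL := Cfsg.GU 3 F p ⊓ Cfsg.Geo.specialLinear (Fin 3) F
      set H := (Cfsg.Geo.subgroupNormalizer R).subgroupOf SL
      have h27 : 27 ∣ Nat.card H := by
        rw [← hR, Nat.card_congr (Subgroup.subgroupOfEquivOfLe (show R ≤ SL from le_inf hRU hRSL)).toEquiv.symm]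
        refine Subgroup.card_dvd_of_le fun x hx => ?_
        exact (Subgroup.le_normalizer (H := R)) hx
      have h81 : 81 ∣ Nat.card SL := by
        rw [← H.card_mul_index]
        exact Nat.mul_dvd_mul h27 hΩ
      have hGU : 243 ∣ Nat.card (Cfsg.GU 3 F p) := by
        let D := (Matrix.GeneralLinearGroup.det : GL (Fin 3) F →* Fˣ).comp (Cfsg.GU 3 F p).subtype
        have hker : Nat.card D.ker = Nat.card SL := Nat.card_congr
          ⟨fun g => ⟨g.1.1, g.1.2, g.2⟩, fun g => ⟨⟨g.1, g.2.1⟩, g.2.2⟩, fun g => rfl, fun g => rfl⟩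
        have h3r : 3 ∣ Nat.card D.range := by
          have hm : w ∈ D.range := ⟨⟨diagU ![w, 1, 1], diagU_mem hF fun i => by
            fin_cases i
            · exact hwn
            · exact one_pow _
            · exact one_pow _⟩, by
              show Matrix.GeneralLinearGroup.det (diagU ![w, 1, 1]) = w
              rw [det_diagU]; simp⟩
          have := orderOf_dvd_natCard (⟨w, hm⟩ : D.range)
          rwa [Subgroup.orderOf_mk, hw0] at this
        rw [← D.ker.card_mul_index, Subgroup.index_ker, hker]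
        exact (show 243 = 81 * 3 from rfl) ▸ Nat.mul_dvd_mul h81 h3r
      obtain ⟨a, ha⟩ : ∃ a, p = 3 * a + 2 := ⟨p / 3, by omega⟩
      set b := a + 1 with hb
      have hb3 : ¬ 3 ∣ b := fun ⟨c, hc⟩ => hp9 (by omega)
      have hcard : Nat.card (Cfsg.GU 3 F p) = 81 * (p ^ 3 * b ^ 3 * (p - 1) * (3 * a * a + 3 * a + 1)) := by
        have hh := Cfsg.Agent.Lib.Classical.card_GU hF 3
        rw [Finset.prod_range_succ, Finset.prod_range_succ, Finset.prod_range_succ, Finset.prod_range_zero] at hh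
        simp only [show Even 0 from ⟨0, rfl⟩, show ¬ Even 1 from Nat.not_even_one, show Even 2 from ⟨1, rfl⟩, if_true,
          if_false, zero_add, pow_one, one_mul, show 3 * (3 - 1) / 2 = 3 from rfl] at hh
        have hh' : Nat.card (Cfsg.GU 3 F p) = p ^ 3 * ((p + 1) * (p ^ 2 - 1) * (p ^ 3 + 1)) := hh
        rw [hh', show p + 1 = 3 * b by omega, show p ^ 2 - 1 = 3 * b * (p - 1) by
            rw [show 3 * b = p + 1 by omega, ← Nat.sq_sub_sq, one_pow],
          show p ^ 3 + 1 = 3 * b * (3 * (3 * a * a + 3 * a + 1)) by subst ha; rw [hb]; ring]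
        ring
      rw [hcard, show (243 : ℕ) = 81 * 3 from rfl, Nat.mul_dvd_mul_iff_left (by norm_num)] at hGU
      rcases (Nat.Prime.dvd_mul Nat.prime_three).1 hGU with h | h
      · rcases (Nat.Prime.dvd_mul Nat.prime_three).1 h with h | h
        · rcases (Nat.Prime.dvd_mul Nat.prime_three).1 h with h | h
          · exact absurd (Nat.prime_three.dvd_of_dvd_pow h) (by omega)
          · exact hb3 (Nat.prime_three.dvd_of_dvd_pow h)
        · omega
      · rw [Nat.mul_assoc] at h
        omega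
    · have hr2 : r ≠ 2 := fun h => hcon (Or.inl h)
      have hr5 : 5 ≤ r := by
        have := (Fact.out : r.Prime).two_le
        rcases eq_or_ne r 4 with h | h
        · exact absurd (h ▸ (Fact.out : r.Prime)) (by norm_num)
        · omega
      obtain ⟨x₀, hx₀⟩ := exists_prime_orderOf_dvd_card' (G := ↥(Cfsg.GU 3 F p ⊓ Cfsg.Geo.specialLinear (Fin 3) F)) r
        (dvd_trans hΩ (Subgroup.index_dvd_card _))
      have hxo : orderOf (x₀ : GL (Fin 3) F) = r := by rw [Subgroup.orderOf_coe, hx₀]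
      have hxns : ∀ z : F, ((x₀ : GL (Fin 3) F) : Matrix (Fin 3) (Fin 3) F) ≠ z • 1 := by
        intro z hz
        have hz3 := hscal _ z hz 1 x₀.2.2
        rw [Units.val_one] at hz3
        have hzr : z ^ r = 1 := by
          have h1 : ((x₀ : GL (Fin 3) F) ^ r) = 1 := by rw [← hxo, pow_orderOf_eq_one]
          have h2 := congrArg (fun u : GL (Fin 3) F => (u : Matrix (Fin 3) (Fin 3) F) 0 0) h1
          simpa [Units.val_pow_eq_pow_val, hz, smul_pow] using h2
        have hz1 : z = 1 := by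
          have : orderOf z ∣ Nat.gcd 3 r := Nat.dvd_gcd (orderOf_dvd_of_pow_eq_one hz3) (orderOf_dvd_of_pow_eq_one hzr)
          rw [(Nat.coprime_primes Nat.prime_three Fact.out).2 (Ne.symm hr3) |>.gcd_eq_one, Nat.dvd_one] at this
          exact orderOf_eq_one_iff.1 this
        have : (x₀ : GL (Fin 3) F) = 1 := Units.ext (by rw [hz, hz1, one_smul, Units.val_one])
        rw [this, orderOf_one] at hxo
        omega
      obtain ⟨P, hP, hPN⟩ := hall x₀ x₀.2 ⟨1, by rw [← hxo, pow_orderOf_eq_one, Units.val_one, one_smul]⟩ hxns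
      set n := P⁻¹ * (x₀ : GL (Fin 3) F) * P with hn
      have hno : orderOf n = r := by
        rw [hn, ← hxo]
        exact orderOf_injective (MulAut.conj P⁻¹).toMonoidHom (MulAut.conj P⁻¹).injective x₀ ▸ by simp
      have hsub : Subgroup.zpowers n ≤ Cfsg.Geo.subgroupNormalizer R := Subgroup.zpowers_le.2 hPN
      letI : MulAction (Subgroup.zpowers n) R :=
        { smul := fun h x => ⟨h.1 * x.1 * h.1⁻¹, ((memN h.1).1 (hsub h.2) x.1).1 x.2⟩
          one_smul := fun x => Subtype.ext (by show (1 : GL (Fin 3) F) * x.1 * 1⁻¹ = x.1; simp)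
          mul_smul := fun a b x => Subtype.ext (by
            show (a.1 * b.1) * x.1 * (a.1 * b.1)⁻¹ = a.1 * (b.1 * x.1 * b.1⁻¹) * a.1⁻¹
            simp [mul_assoc]) }
      have hpg : IsPGroup r (Subgroup.zpowers n) :=
        IsPGroup.of_card (n := 1) (by rw [Nat.card_zpowers, hno, pow_one])
      have hmod := hpg.card_modEq_card_fixedPoints R
      set C := R ⊓ Subgroup.centralizer {n} with hC
      have hfix : Nat.card ↑(MulAction.fixedPoints (Subgroup.zpowers n) R) = Nat.card C := by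
        refine Nat.card_congr ⟨fun x => ⟨x.1.1, x.1.2, ?_⟩, fun c => ⟨⟨c.1, c.2.1⟩, ?_⟩, fun x => rfl, fun c => rfl⟩
        · refine Subgroup.mem_centralizer_singleton_iff.2 ?_
          have := congrArg Subtype.val (x.2 ⟨n, Subgroup.mem_zpowers n⟩)
          change n * x.1.1 * n⁻¹ = x.1.1 at this
          exact (mul_inv_eq_iff_eq_mul.1 this).symm
        · rintro ⟨h, hh⟩
          obtain ⟨k, rfl⟩ := Subgroup.mem_zpowers_iff.1 hh
          refine Subtype.ext ?_
          show n ^ k * c.1 * (n ^ k)⁻¹ = c.1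
          have hc := Subgroup.mem_centralizer_singleton_iff.1 c.2.2
          rw [(Commute.zpow_left (show Commute n c.1 from hc.symm) k).eq, mul_inv_cancel_right]
      rw [hR, hfix] at hmod
      have hCR : C ≤ R := inf_le_left
      obtain ⟨k, hk, hkC⟩ := (Nat.dvd_prime_pow Nat.prime_three).1
        (show Nat.card C ∣ 3 ^ 3 by have := Subgroup.card_dvd_of_le hCR; rwa [hR] at this)
      have hscalR : ∀ c : GL (Fin 3) F, c ∈ std w → g0 * c * g0⁻¹ ∈ R := fun c hc => by
        rw [hg0]; simpa [mul_assoc] using hc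
      have hk0 : k ≠ 0 := by
        rintro rfl
        rw [pow_zero, Subgroup.card_eq_one] at hkC
        have hm : g0 * scal w * g0⁻¹ ∈ C := ⟨hscalR _ (scal_mem w), Subgroup.mem_centralizer_singleton_iff.2 (by
          rw [show g0 * scal w * g0⁻¹ = scal w by rw [← scal_comm, mul_inv_cancel_right], scal_comm])⟩
        rw [hkC, Subgroup.mem_bot, ← scal_comm, mul_inv_cancel_right] at hm
        refine w_ne_one hw h3 ?_
        have := congrArg (fun u : GL (Fin 3) F => (u : Matrix (Fin 3) (Fin 3) F) 0 0) hm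
        simpa [scal_val] using this
      have hk3 : k = 3 := by
        have h27 : Nat.card C ≤ 27 := by rw [← hR]; exact Nat.le_of_dvd Nat.card_pos (Subgroup.card_dvd_of_le hCR)
        have hd : r ∣ 27 - Nat.card C := (Nat.modEq_iff_dvd' h27).1 hmod.symm
        rw [hkC] at hd
        interval_cases k
        · exact absurd rfl hk0
        · norm_num at hd
          have h := (Nat.Prime.dvd_mul (Fact.out : r.Prime)).1 (show r ∣ 2 ^ 3 * 3 from hd)
          rcases h with h | h
          · exact absurd (Nat.le_of_dvd (by norm_num) ((Fact.out : r.Prime).dvd_of_dvd_pow h)) (by omega)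
          · exact absurd (Nat.le_of_dvd (by norm_num) h) (by omega)
        · norm_num at hd
          have h := (Nat.Prime.dvd_mul (Fact.out : r.Prime)).1 (show r ∣ 2 * 3 ^ 2 from hd)
          rcases h with h | h
          · exact absurd (Nat.le_of_dvd (by norm_num) h) (by omega)
          · exact absurd (Nat.le_of_dvd (by norm_num) ((Fact.out : r.Prime).dvd_of_dvd_pow h)) (by omega)
        · rfl
      have hCeq : C = R := Subgroup.eq_of_le_of_card_ge hCR (by rw [hR, hkC, hk3]; norm_num)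
      have hcm : ∀ c, c ∈ std w → (g0⁻¹ * n * g0) * c = c * (g0⁻¹ * n * g0) := fun c hc => by
        have h1 : g0 * c * g0⁻¹ ∈ C := hCeq ▸ hscalR c hc
        have h := Subgroup.mem_centralizer_singleton_iff.1 h1.2
        calc g0⁻¹ * n * g0 * c = g0⁻¹ * (n * (g0 * c * g0⁻¹)) * g0 := by simp [mul_assoc]
          _ = g0⁻¹ * ((g0 * c * g0⁻¹) * n) * g0 := by rw [h]
          _ = c * (g0⁻¹ * n * g0) := by simp [mul_assoc]
      obtain ⟨c, hc⟩ := centralizer_scalar hw h3 (hcm _ (clock_mem w)) (hcm _ (cyc_mem w))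
      refine hxns c ?_
      have e : (x₀ : GL (Fin 3) F) = (P * g0) * (g0⁻¹ * n * g0) * (P * g0)⁻¹ := by simp [hn, mul_assoc]
      rw [e, Units.val_mul, Units.val_mul, hc, Matrix.mul_smul, mul_one, Matrix.smul_mul, ← Units.val_mul,
        mul_inv_cancel, Units.val_one]
  · intro hr x hx hxr hxns
    obtain ⟨z, hz⟩ := hxr
    have hdx : Matrix.GeneralLinearGroup.det x = 1 := hx.2
    have hz3 : z ^ 3 = 1 := by
      have := hscal _ z hz _ rfl
      rwa [map_pow, hdx, one_pow, Units.val_one] at this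
    have hz0 : z ≠ 0 := fun h => by rw [h] at hz3; simp at hz3
    set zu := Units.mk0 z hz0 with hzu
    have hzu3 : zu ^ 3 = 1 := Units.ext (by rw [Units.val_pow_eq_pow_val, Units.val_one]; exact hz3)
    have hxz : x ^ r = scal zu := Units.ext (by rw [hz, scal_val]; rfl)
    have hzn : zu ^ (p + 1) = 1 := by
      obtain ⟨c, hc⟩ := h3p
      rw [hc, pow_mul, hzu3, one_pow]
    have hzG : scal zu ∈ Cfsg.GU 3 F p := diagU_mem hF fun _ => hzn
    rcases hr with rfl | ⟨rfl, hp9⟩
    · set y := scal zu * x with hy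
      have hyy : y * y = 1 := by
        rw [hy, show scal zu * x * (scal zu * x) = scal zu * (x * scal zu) * x by simp only [mul_assoc], ← scal_comm,
          ← mul_assoc, mul_assoc _ x x, ← pow_two x, hxz, ← diagU_mul, ← diagU_mul, ← diagU_one]
        exact congrArg diagU (funext fun _ => by show zu * zu * zu = 1; rw [← pow_three', hzu3])
      have hdy : Matrix.GeneralLinearGroup.det y = 1 := by
        rw [hy, map_mul, hdx, mul_one, det_diagU, ← pow_three', hzu3]
      have hy1 : y ≠ 1 := fun h => hxns ((zu⁻¹ : Fˣ) : F) (by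
        rw [show x = scal zu⁻¹ by
          rw [eq_inv_mul_iff_mul_eq.2 (show scal zu * x = 1 from h), mul_one, diagU_inv]; rfl, scal_val])
      obtain ⟨g, hgG, hg⟩ := exists_diag_one hF h2 h3 y (mul_mem hzG hx.1) hyy hdy hy1
      obtain ⟨g', hg'G, hg'⟩ := exists_diag_one hF h2 h3 (flip' : GL (Fin 3) F) (flip_mem_GU hF) flip'_mul_self
        (Units.ext (by rw [Matrix.GeneralLinearGroup.val_det_apply]; simp [flip', Matrix.det_fin_three]))
        (fun h => by
          have := congrArg (fun u : GL (Fin 3) F => (u : Matrix (Fin 3) (Fin 3) F) 1 1) h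
          simp [flip'] at this)
      refine hconj x (g * g'⁻¹) (scal zu⁻¹ * flip') (mul_mem hgG (inv_mem hg'G)) ?_ (fun t => ?_) (hscalgen _ _ (flip'_gen hw))
      · have e : (g * g'⁻¹)⁻¹ * y * (g * g'⁻¹) = flip' := by
          rw [show (g * g'⁻¹)⁻¹ * y * (g * g'⁻¹) = g' * (g⁻¹ * y * g) * g'⁻¹ by simp [mul_assoc], hg, ← hg']
          simp [mul_assoc]
        have ex : x = scal zu⁻¹ * y := by
          rw [hy, ← mul_assoc, ← diagU_mul, show ((fun _ : Fin 3 => zu⁻¹) * fun _ => zu) = 1 from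
            funext fun _ => inv_mul_cancel zu, diagU_one, one_mul]
        rw [ex, ← mul_assoc _ (scal zu⁻¹) y, ← scal_comm, mul_assoc, mul_assoc, ← mul_assoc _ y, e]
      · rw [mul_assoc, flip'_diagU, ← mul_assoc, scal_comm, mul_assoc]
        rfl
    · haveI : Fact (Nat.Prime 3) := ⟨Nat.prime_three⟩
      obtain ⟨ζ, hζ⟩ := IsCyclic.exists_ofOrder_eq_natCard (α := Fˣ)
      obtain ⟨a₁, ha₁, ha₁9⟩ : ∃ a₁ : Fˣ, a₁ ^ 3 = w ∧ a₁ ^ 9 = 1 := by
        obtain ⟨m, hm⟩ := (show 9 ∣ p + 1 by omega).trans hp1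
        have hm0 : m ≠ 0 := by
          rintro rfl
          have : 5 ^ 2 ≤ p ^ 2 := Nat.pow_le_pow_left hp5 2
          omega
        have ho : orderOf (ζ ^ m) = 9 := by
          rw [orderOf_pow_of_dvd hm0 (by rw [hζ, hcardU, hm]; exact Dvd.intro_left 9 rfl), hζ, hcardU, hm,
            Nat.mul_div_cancel _ (Nat.pos_of_ne_zero hm0)]
        have h9 : (ζ ^ m) ^ 9 = 1 := by rw [← ho, pow_orderOf_eq_one]
        obtain ⟨i, hi3, hi⟩ := eq_pow_of_cube hw (e := (ζ ^ m) ^ 3) (by rw [← pow_mul (ζ ^ m), show 3 * 3 = 9 from rfl, ← ho, pow_orderOf_eq_one])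
        interval_cases i
        · exfalso
          rw [pow_zero] at hi
          have := orderOf_dvd_of_pow_eq_one hi
          rw [ho] at this
          norm_num at this
        · exact ⟨ζ ^ m, by rw [hi, pow_one], h9⟩
        · exact ⟨(ζ ^ m) ^ 2, by rw [← pow_mul, pow_mul', hi, ← pow_mul, show 2 * 2 = 3 + 1 from rfl, pow_succ, w_cube hw, one_mul], by rw [← pow_mul, mul_comm, pow_mul, h9, one_pow]⟩
      obtain ⟨i, -, hi⟩ := eq_pow_of_cube hw hzu3
      set a := a₁ ^ i with ha
      have ha3 : a ^ 3 = zu := by rw [ha, ← pow_mul, pow_mul', ha₁, hi]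
      have han : a ^ (p + 1) = 1 := by
        obtain ⟨c, hc⟩ := (show 9 ∣ p + 1 by omega)
        rw [hc, pow_mul, ha, ← pow_mul a₁, mul_comm i, pow_mul a₁, ha₁9, one_pow, one_pow]
      set y := scal a⁻¹ * x with hy
      have hy3 : y ^ 3 = 1 := by
        rw [hy, (show Commute (scal a⁻¹) x from scal_comm _ _).mul_pow, hxz, ← diagU_pow, ← diagU_mul, ← diagU_one]
        exact congrArg diagU (funext fun _ => by show a⁻¹ ^ 3 * zu = 1; rw [inv_pow, ha3, inv_mul_cancel])
      have hyc : ∀ u, (y : Matrix (Fin 3) (Fin 3) F) *ᵥ ((y : Matrix (Fin 3) (Fin 3) F) *ᵥ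
          ((y : Matrix (Fin 3) (Fin 3) F) *ᵥ u)) = u := fun u => by
        rw [Matrix.mulVec_mulVec, Matrix.mulVec_mulVec, mul_assoc, ← Units.val_mul, ← Units.val_mul, ← pow_two, ← pow_succ',
          hy3, Units.val_one, Matrix.one_mulVec]
      have hw3 : (w : F) ^ 3 = 1 := by linear_combination ((w : F) - 1) * hw
      have hw2 : ((w : F) ^ 2) ^ 3 = 1 := by rw [← pow_mul, pow_mul', hw3, one_pow]
      have hnorm : ∀ μ : F, μ ^ 3 = 1 → μ ^ p * μ = 1 := fun μ hμ => by
        obtain ⟨c, hc⟩ := h3p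
        rw [← pow_succ, hc, pow_mul, hμ, one_pow]
      obtain ⟨g, hgG, d, hd, hg⟩ := exists_unitary_diag hF h2 h3 (mul_mem (diagU_mem hF fun _ => by rw [inv_pow, han, inv_one]) hx.1)
        (fun μ => μ ^ 3 = 1) hnorm (fun v => by
        set Y := (y : Matrix (Fin 3) (Fin 3) F) with hY
        let s : F → (Fin 3 → F) := fun m => (3 : F)⁻¹ • (v + m ^ 2 • (Y *ᵥ v) + m • (Y *ᵥ (Y *ᵥ v)))
        have hs : ∀ m : F, m ^ 3 = 1 → Y *ᵥ s m = m • s m := fun m hm => by
          simp only [s, Matrix.mulVec_add, Matrix.mulVec_smul, hyc]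
          linear_combination (norm := module) (-hm * (3 : F)⁻¹) • (Y *ᵥ v)
        refine ⟨![1, (w : F), (w : F) ^ 2], ![s 1, s w, s ((w : F) ^ 2)], ?_, ?_, fun i => ?_⟩
        · intro i j h
          have h1 := w_ne_one hw h3
          have h12 : (w : F) ^ 2 ≠ w := fun h => h1 (mul_left_cancel₀ w.ne_zero (by rw [mul_one, ← sq, h]))
          have h22 : (w : F) ^ 2 ≠ 1 := fun h => h1 (by linear_combination hw3 - (w : F) * h)
          fin_cases i <;> fin_cases j <;> simp [h1, h1.symm, h12, h12.symm, h22, h22.symm] at h ⊢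
        · have : (3 : F) • v = (3 : F) • (s 1 + s (w : F) + s ((w : F) ^ 2)) := by
            simp only [s, ← smul_add, smul_smul, mul_inv_cancel₀ h3, one_smul]
            linear_combination (norm := module) (-(hw + (w : F) * hw3)) • (Y *ᵥ v) - hw • (Y *ᵥ (Y *ᵥ v))
          rw [Fin.sum_univ_three]
          exact smul_right_injective _ h3 this
        · fin_cases i
          · exact ⟨hs 1 (one_pow 3), fun _ => one_pow 3⟩
          · exact ⟨hs _ hw3, fun _ => hw3⟩
          · exact ⟨hs _ hw2, fun _ => hw2⟩)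
      have hd' : ∀ i, d i ^ 3 = 1 := fun i => Units.ext (by rw [Units.val_pow_eq_pow_val, hd i, Units.val_one])
      refine hconj x g (scal a * diagU d) hgG ?_ (fun t => ?_) (hscalgen _ _ (diag_mem_normalizer_gen hw hd'))
      · have ex : x = scal a * y := by
          rw [hy, ← mul_assoc, ← diagU_mul, show ((fun _ : Fin 3 => a) * fun _ => a⁻¹) = 1 from
            funext fun _ => mul_inv_cancel a, diagU_one, one_mul]
        rw [ex, ← mul_assoc _ (scal a) y, ← scal_comm, mul_assoc, mul_assoc, ← mul_assoc _ y, hg]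
      · rw [← diagU_mul, ← diagU_mul, ← diagU_mul, mul_comm]

end Cfsg.Agent.S5999
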