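import Cfsg.Statements.S6000
import Cfsg.Agent.Lib.SympFour.Basic
import Cfsg.Agent.Lib.SympFour.Normalizer
import Cfsg.Agent.Lib.SympFour.CentreFour
import Cfsg.Agent.Lib.SympFour.FiveCycle
import Cfsg.Agent.Lib.SympFour.OrderFive
import Cfsg.Agent.Lib.SympFour.SLConj
import Cfsg.Agent.Lib.Classical.LinearCard
import Mathlib

set_option autoImplicit false
open scoped MatrixGroups
open Cfsg

namespace Cfsg.Agent.S6000


open Matrix Module Cfsg.Agent.Lib.SympFour
open scoped MatrixGroups

section

variable {F : Type*} [Field F]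

local notation "M" => Matrix (Fin 4) (Fin 4) F
local notation "G4" => GL (Fin 4) F
local notation "SLG" => Cfsg.Geo.specialLinear (Fin 4) F

theorem mem_SL {x : G4} : x ∈ SLG ↔ (x : M).det = 1 := by
  rw [Cfsg.Geo.specialLinear, MonoidHom.mem_ker, Units.ext_iff]
  rfl

theorem det_smul_four (c : F) (A : M) : (c • A).det = c ^ 4 * A.det := by
  rw [Matrix.det_smul, Fintype.card_fin]

theorem scalar_four {x : G4} (hx : x ∈ SLG) {z : F} (hz : (x : M) = z • 1) : z ^ 4 = 1 := by
  rw [mem_SL, hz, det_smul_four, Matrix.det_one, mul_one] at hx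
  exact hx

/-- The relations of the group. -/
theorem four_of {R : Subgroup G4} (hP : Pauli R) (hR6 : Nat.card R = 2 ^ 6)
    (hRZ : Nat.card (Subgroup.center R) = 4) (h2 : (2 : F) ≠ 0) :
    ∃ (ι : F) (w : R), ι * ι = -1 ∧ ((w : G4) : M) = ι • 1 ∧ Four R ⟨-1, hP.negmem⟩ w := by
  classical
  haveI := hP.fin
  set z : R := ⟨-1, hP.negmem⟩
  have hsc : ∀ g : R, g ∈ Subgroup.center R → ∃ c : F, ((g : G4) : M) = c • 1 := fun g hg =>
    hP.abs _ fun s hs => by
      simpa using (congrArg (fun y : R => ((y : G4) : M)) (Subgroup.mem_center_iff.mp hg ⟨s, hs⟩)).symm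
  have hsc' : ∀ g : R, ∀ c : F, ((g : G4) : M) = c • 1 → g ∈ Subgroup.center R := fun g c hc =>
    Subgroup.mem_center_iff.mpr fun h => Subtype.ext (Units.ext (by simp [hc]))
  have h4 : ∀ g : R, ∀ c : F, ((g : G4) : M) = c • 1 → c = 1 ∨ c = -1 ∨ c * c = -1 := by
    intro g c hc
    have h := hP.sq g g.2
    rw [hc, smul_mul_smul_comm, one_mul] at h
    rcases h with h | h
    · have h' := congrFun (congrFun h 0) 0
      simp at h'
      exact (mul_self_eq_one_iff.mp h').imp_right Or.inl
    · have h' := congrFun (congrFun h 0) 0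
      simp at h'
      exact Or.inr (Or.inr h')
  obtain ⟨w, hwZ, hw⟩ : ∃ w ∈ Subgroup.center R, ¬ (w = 1 ∨ w = z) := by
    by_contra hno
    push Not at hno
    have hle : Nat.card (Subgroup.center R) ≤ 2 := by
      rw [show 2 = ({1, z} : Finset R).card by
        rw [Finset.card_pair]
        intro e
        have h := congrArg (fun y : R => ((y : G4) : M) 0 0) e
        simp [z] at h
        exact h2 (by linear_combination h), ← Nat.card_eq_finsetCard]
      exact Nat.card_le_card_of_injective (fun g => ⟨g.1, by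
        rcases em (g.1 = 1) with e | e
        · simp [e]
        · simp [(hno g.1 g.2).resolve_left e]⟩) fun a b e => Subtype.ext (congrArg Subtype.val e :)
    omega
  obtain ⟨ι, hι⟩ := hsc w hwZ
  have hιι : ι * ι = -1 := by
    rcases h4 w ι hι with rfl | rfl | h
    · exact absurd (Or.inl (Subtype.ext (Units.ext (by rw [hι, one_smul]; rfl)))) hw
    · exact absurd (Or.inr (Subtype.ext (Units.ext (by rw [hι, neg_one_smul]; rfl)))) hw
    · exact h
  refine ⟨ι, w, hιι, hι, by rw [hR6]; norm_num, fun g => (Subgroup.mem_center_iff.mp hwZ g).symm,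
    Subtype.ext (Units.ext (by simp [z, hι, smul_mul_smul_comm, smul_smul, hιι])), Subtype.ext (by simp [z]), ?_,
    fun g => ?_, fun g h => ?_, fun g => ⟨fun hg => ?_, ?_⟩⟩
  · intro e
    have h := congrArg (fun y : R => ((y : G4) : M) 0 0) e
    simp [z] at h
    exact h2 (by linear_combination -h)
  · rcases hP.sq g g.2 with e | e
    · exact Or.inl (Subtype.ext (Units.ext (by simpa using e)))
    · exact Or.inr (Subtype.ext (Units.ext (by simpa [z] using e)))
  · rcases hP.comm g g.2 h h.2 with e | e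
    · exact Or.inl (Subtype.ext (Units.ext (by simpa using e)))
    · exact Or.inr (Subtype.ext (Units.ext (by simpa [z] using e)))
  · obtain ⟨c, hc⟩ := hsc g (Subgroup.mem_center_iff.mpr fun h => (hg h).symm)
    rcases h4 g c hc with rfl | rfl | h
    · exact Or.inl (Subtype.ext (Units.ext (by rw [hc, one_smul]; rfl)))
    · exact Or.inr (Or.inl (Subtype.ext (Units.ext (by rw [hc, neg_one_smul]; rfl))))
    · have hci : (c - ι) * (c + ι) = 0 := by linear_combination h - hιι
      rcases mul_eq_zero.mp hci with e | e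
      · exact Or.inr (Or.inr (Or.inl (Subtype.ext (Units.ext (by rw [hc, hι, sub_eq_zero.mp e])))))
      · exact Or.inr (Or.inr (Or.inr (Subtype.ext (Units.ext (by
          rw [hc, eq_neg_of_add_eq_zero_left e]; simp [z, hι])))))
  · intro hg h
    refine (Subgroup.mem_center_iff.mp ?_ h).symm
    rcases hg with rfl | rfl | rfl | rfl
    · exact one_mem _
    · exact hsc' _ (-1) (by simp [z])
    · exact hwZ
    · exact hsc' _ (-ι) (by simp [z, hι])

theorem quat_order_three {a b : M} (ha : a * a = -1) (hb : b * b = -1) (hab : a * b = -(b * a)) :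
    ((1 + a) * (1 + b)) * ((1 + a) * (1 + b)) = (2 : F) • ((1 + a) * (1 + b)) - (4 : F) • 1 := by
  have hba : b * a = -(a * b) := by rw [hab, neg_neg]
  have e2 : ∀ x : M, b * (a * x) = -(a * (b * x)) := fun x => by rw [← mul_assoc, hba, neg_mul, mul_assoc]
  have e3 : ∀ x : M, a * (a * x) = -x := fun x => by rw [← mul_assoc, ha, neg_mul, one_mul]
  have e4 : ∀ x : M, b * (b * x) = -x := fun x => by rw [← mul_assoc, hb, neg_mul, one_mul]
  simp only [add_mul, mul_add, one_mul, mul_one, mul_assoc, e2, e3, e4, hba, ha, hb, mul_neg, neg_neg]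
  module

variable [Fintype F] {p : ℕ} [Fact p.Prime]

theorem exists_root (hF : Fintype.card F = p) {r : ℕ} (hr : Nat.Coprime (p - 1) r) {c : F} (hc : c ≠ 0) :
    ∃ d : F, d ≠ 0 ∧ d ^ r = c := by
  have hcard : Nat.card Fˣ = p - 1 := by rw [Nat.card_units, Nat.card_eq_fintype_card, hF]
  obtain ⟨d, hd⟩ := (powCoprime (G := Fˣ) (hcard ▸ hr)).surjective (Units.mk0 c hc)
  exact ⟨d, d.ne_zero, by simpa using congrArg (fun u : Fˣ => (u : F)) hd⟩

theorem pow_inj_one (hF : Fintype.card F = p) {r : ℕ} (hr0 : r ≠ 0) (hr : Nat.Coprime (p - 1) r) {c : F}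
    (h : c ^ r = 1) : c = 1 := by
  have hc : c ≠ 0 := fun e => by rw [e, zero_pow hr0] at h; exact zero_ne_one h
  have h1 : c ^ (p - 1) = 1 := hF ▸ FiniteField.pow_card_sub_one_eq_one c hc
  simpa [hr.gcd_eq_one] using pow_gcd_eq_one.mpr ⟨h1, h⟩

/-- Removing a scalar from an element with scalar power. -/
theorem exists_normalised (hF : Fintype.card F = p) {r : ℕ} (hr0 : r ≠ 0) (hr : Nat.Coprime (p - 1) r) {x : G4}
    {z : F} (hz : ((x ^ r : G4) : M) = z • 1) :
    ∃ (d : F) (hd : d ≠ 0), (scal hd * x) ^ r = 1 ∧ scal hd * x ∈ SLG := by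
  have hz0 : z ≠ 0 := fun e => Units.ne_zero (x ^ r) (by rw [hz, e, zero_smul])
  obtain ⟨d, hd, hdr⟩ := exists_root hF hr (inv_ne_zero hz0)
  have hpow : (scal hd * x : G4) ^ r = 1 := Units.ext (by
    rw [Units.val_pow_eq_pow_val, Units.val_mul, scal_val, smul_mul_assoc, one_mul, _root_.smul_pow, hdr,
      ← Units.val_pow_eq_pow_val, hz, smul_smul, inv_mul_cancel₀ hz0, one_smul, Units.val_one])
  refine ⟨d, hd, hpow, mem_SL.mpr (pow_inj_one hF hr0 hr ?_)⟩
  rw [← Matrix.det_pow, ← Units.val_pow_eq_pow_val, hpow, Units.val_one, Matrix.det_one]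

theorem scalar_absorb {R : Subgroup G4} {d : F} (hd : d ≠ 0) {g x : G4}
    (h : g⁻¹ * (scal hd * x) * g ∈ Cfsg.Geo.subgroupNormalizer R) :
    g⁻¹ * x * g ∈ Cfsg.Geo.subgroupNormalizer R := by
  have hc : scal hd * g = g * scal hd := Units.ext (by simp [scal_val])
  have e : g⁻¹ * x * g = (scal hd)⁻¹ * (g⁻¹ * (scal hd * x) * g) := by
    have hc' : g⁻¹ * scal hd = scal hd * g⁻¹ := by
      rw [eq_mul_inv_iff_mul_eq, mul_assoc, hc, inv_mul_cancel_left]
    rw [← mul_assoc g⁻¹, hc']
    group
  rw [e]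
  exact mul_mem (inv_mem (scal_mem_normalizer hd R)) h

end

/-- Elements of prime order of PSL_4(p), p ≡ 1 (mod 4), and the normalizer of a 2-group of symplectic type of order 2⁶. Here `T = PSL_4(F)` for the field `F` with `p` elements, `p` a prime with `p ≡ 1 (mod 4)`; `R` is an absolutely irreducible subgroup of GL_4(F) of order 2⁶ that is a 2-group of symplectic type of exponent 4 with centre of order 4 (the central product of the scalars of order 4 with an extraspecial group 2^{1+4}), and `H` is the subgroup of matrices of determinant 1 normalizing `R` — a subgroup of type 2⁴.Sp₄(2) (maximality is not assumed). Ω is the set of cosets of `H` in `T`, so an element of `T` of prime order `r` (a matrix `x` of determinant 1 with `x^r` scalar, `x` not scalar) fixes a point of Ω exactly when some conjugate of `x` by a matrix of determinant 1 normalizes `R`. Let `r` be a prime dividing the index of `H`. Then every element of `T` of order `r` fixes a point of Ω if and only if `r = 2`, or `r = 3` and `p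 ≡ 2 (mod 3)`, or `r = 5` and `p ≡ ±2 (mod 5)` (`p` has multiplicative order 4 modulo 5). -/
theorem result {F : Type*} [Field F] [Fintype F] {p : ℕ} [Fact p.Prime] [CharP F p] (hF : Fintype.card F = p) (hp4 : p % 4 = 1)
    (R : Subgroup (GL (Fin 4) F)) (hR : Cfsg.Geo.IsLinearSymplecticTypeData 2 R) (hR6 : Nat.card R = 2 ^ 6)
    (r : ℕ) [Fact r.Prime]
    (hΩ : r ∣ (Cfsg.Geo.subgroupNormalizer R).relIndex (Cfsg.Geo.specialLinear (Fin 4) F)) :
    (∀ x ∈ Cfsg.Geo.specialLinear (Fin 4) F, (∃ z : F, ((x ^ r : GL (Fin 4) F) : Matrix (Fin 4) (Fin 4) F) = z • (1 : Matrix (Fin 4) (Fin 4) F)) →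
      (∀ z : F, (x : Matrix (Fin 4) (Fin 4) F) ≠ z • (1 : Matrix (Fin 4) (Fin 4) F)) →
      ∃ g ∈ Cfsg.Geo.specialLinear (Fin 4) F, g⁻¹ * x * g ∈ Cfsg.Geo.subgroupNormalizer R) ↔ (r = 2 ∨ (r = 3 ∧ p % 3 = 2) ∨ (r = 5 ∧ orderOf (p : ZMod 5) = 4)) := by
  classical
  have hp : p.Prime := Fact.out
  have hr : r.Prime := Fact.out
  have hp2 : p ≠ 2 := fun e => by rw [e] at hp4; omega
  have hp3 : p ≠ 3 := fun e => by rw [e] at hp4; omega
  have h2 : (2 : F) ≠ 0 := fun h => hp2 ((Nat.prime_dvd_prime_iff_eq hp Nat.prime_two).mp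
    ((CharP.cast_eq_zero_iff F p 2).mp (by exact_mod_cast h)))
  have h3 : (3 : F) ≠ 0 := fun h => hp3 ((Nat.prime_dvd_prime_iff_eq hp Nat.prime_three).mp
    ((CharP.cast_eq_zero_iff F p 3).mp (by exact_mod_cast h)))
  have hRZ : Nat.card (Subgroup.center R) = 4 := by
    obtain ⟨p', e', -, -, h | ⟨-, -, h, -⟩ | ⟨-, -, h, -⟩⟩ := hR.field
    · exact absurd h.1 (by decide)
    · exact h
    · simp at h
  have hP := pauli_of hR.symplecticType hR.absIrred (by omega)
  haveI := hP.fin
  obtain ⟨ι, w, hι, hw, hFour⟩ := four_of hP hR6 hRZ h2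
  have hι0 : ι ≠ 0 := fun e => by rw [e, mul_zero] at hι; exact one_ne_zero (α := F) (by linear_combination hι)
  have hcard16 : (16 : F) ≠ 0 := by rw [show (16 : F) = 2 ^ 4 by norm_num]; exact pow_ne_zero _ h2
  constructor
  · intro h
    by_contra hne
    push Not at hne
    obtain ⟨hr2, hr3, hr5⟩ := hne
    suffices hbad : ∃ x ∈ Cfsg.Geo.specialLinear (Fin 4) F, (x : (Matrix (Fin 4) (Fin 4) F)) ^ r = 1 ∧ (∀ z : F, (x : (Matrix (Fin 4) (Fin 4) F)) ≠ z • 1) ∧
        ∀ g : GL (Fin 4) F, ¬ g⁻¹ * x * g ∈ Cfsg.Geo.subgroupNormalizer R by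
      obtain ⟨x, hxS, hx, hns, hb⟩ := hbad
      obtain ⟨g, -, hg⟩ := h x hxS ⟨1, by rw [Units.val_pow_eq_pow_val, hx, one_smul]⟩ hns
      exact hb g hg
    have conj : ∀ x : GL (Fin 4) F, (x : (Matrix (Fin 4) (Fin 4) F)) ^ r = 1 → (∀ z : F, (x : (Matrix (Fin 4) (Fin 4) F)) ≠ z • 1) → ∀ g : GL (Fin 4) F,
        g⁻¹ * x * g ∈ Cfsg.Geo.subgroupNormalizer R → ∃ y : GL (Fin 4) F, y ∈ Cfsg.Geo.subgroupNormalizer R ∧
          y ^ r = 1 ∧ (∀ z : F, (y : (Matrix (Fin 4) (Fin 4) F)) ≠ z • 1) ∧ Matrix.trace (y : (Matrix (Fin 4) (Fin 4) F)) = Matrix.trace (x : (Matrix (Fin 4) (Fin 4) F)) ∧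
          Matrix.trace ((y⁻¹ : GL (Fin 4) F) : (Matrix (Fin 4) (Fin 4) F)) = Matrix.trace ((x⁻¹ : GL (Fin 4) F) : (Matrix (Fin 4) (Fin 4) F)) ∧
          (((x : (Matrix (Fin 4) (Fin 4) F)) - 1) * ((x : (Matrix (Fin 4) (Fin 4) F)) - 1) = 0 → ((y : (Matrix (Fin 4) (Fin 4) F)) - 1) * ((y : (Matrix (Fin 4) (Fin 4) F)) - 1) = 0) := by
      intro x hx hns g hg
      refine ⟨g⁻¹ * x * g, hg, ?_, ?_, ?_, ?_, ?_⟩
      · have hx' : x ^ r = 1 := Units.ext (by rw [Units.val_pow_eq_pow_val]; exact hx)
        have := conj_pow (i := r) (a := g⁻¹) (b := x)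
        rw [inv_inv, hx', mul_one, inv_mul_cancel] at this
        exact this
      · intro z hz
        apply hns z
        calc (x : (Matrix (Fin 4) (Fin 4) F)) = (g : (Matrix (Fin 4) (Fin 4) F)) * ((g⁻¹ * x * g : GL (Fin 4) F) : (Matrix (Fin 4) (Fin 4) F)) * ((g⁻¹ : GL (Fin 4) F) : (Matrix (Fin 4) (Fin 4) F)) := by
              rw [← Units.val_mul, ← Units.val_mul]; congr 1; group
          _ = z • 1 := by rw [hz, mul_smul_comm, mul_one, smul_mul_assoc, Units.mul_inv]
      · rw [Units.val_mul, Units.val_mul, Matrix.trace_mul_comm, ← mul_assoc, Units.mul_inv, one_mul]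
      · rw [_root_.mul_inv_rev, _root_.mul_inv_rev, inv_inv, Units.val_mul, Units.val_mul, Matrix.trace_mul_comm,
          mul_assoc, Units.mul_inv, mul_one]
      · intro hN
        rw [Units.val_mul, Units.val_mul,
          show ((g⁻¹ : GL (Fin 4) F) : (Matrix (Fin 4) (Fin 4) F)) * (x : (Matrix (Fin 4) (Fin 4) F)) * (g : (Matrix (Fin 4) (Fin 4) F)) - 1 =
            ((g⁻¹ : GL (Fin 4) F) : (Matrix (Fin 4) (Fin 4) F)) * ((x : (Matrix (Fin 4) (Fin 4) F)) - 1) * (g : (Matrix (Fin 4) (Fin 4) F)) by rw [mul_sub, sub_mul, mul_one, Units.inv_mul],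
          show ∀ A : (Matrix (Fin 4) (Fin 4) F), ((g⁻¹ : GL (Fin 4) F) : (Matrix (Fin 4) (Fin 4) F)) * A * (g : (Matrix (Fin 4) (Fin 4) F)) * (((g⁻¹ : GL (Fin 4) F) : (Matrix (Fin 4) (Fin 4) F)) * A * (g : (Matrix (Fin 4) (Fin 4) F))) =
            ((g⁻¹ : GL (Fin 4) F) : (Matrix (Fin 4) (Fin 4) F)) * (A * A) * (g : (Matrix (Fin 4) (Fin 4) F)) from fun A => by
              simp only [mul_assoc]; rw [← mul_assoc (g : (Matrix (Fin 4) (Fin 4) F)) ((g⁻¹ : GL (Fin 4) F) : (Matrix (Fin 4) (Fin 4) F)), Units.mul_inv, one_mul],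
          hN, mul_zero, zero_mul]
    have formula : ∀ y : GL (Fin 4) F, y ∈ Cfsg.Geo.subgroupNormalizer R → y ^ r = 1 →
        (Nat.card {s : R // y * (s : GL (Fin 4) F) = (s : GL (Fin 4) F) * y} : F) =
          4 * (Matrix.trace (y : (Matrix (Fin 4) (Fin 4) F)) * Matrix.trace ((y⁻¹ : GL (Fin 4) F) : (Matrix (Fin 4) (Fin 4) F))) := by
      intro y hyN hyr
      have h := hP.trace_formula h2 hyN (hr.odd_of_ne_two hr2) hyr
      rw [hR6, Fintype.card_fin] at h
      refine mul_left_cancel₀ hcard16 ?_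
      simp only [Matrix.coe_units_inv] at h ⊢
      push_cast at h
      linear_combination h
    by_cases hr35 : r = 3 ∨ r = 5
    · rcases hr35 with rfl | rfl
      · -- order three, a primitive cube root of unity in `F`
        have hpr : p % 3 = 1 := by
          have : p % 3 ≠ 0 := fun e => hp3 ((Nat.prime_dvd_prime_iff_eq Nat.prime_three hp).mp (Nat.dvd_of_mod_eq_zero e)).symm
          have := hr3 rfl
          omega
        obtain ⟨o, ho⟩ := exists_prime_orderOf_dvd_card' (G := Fˣ) 3 (by
          rw [Nat.card_units, Nat.card_eq_fintype_card, hF]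
          exact (Nat.modEq_iff_dvd' hp.one_le).mp (by rw [Nat.ModEq, hpr]))
        have ho3 : (o : F) ^ 3 = 1 := by rw [← Units.val_pow_eq_pow_val, ← ho, pow_orderOf_eq_one, Units.val_one]
        have ho1 : (o : F) ≠ 1 := fun e => by
          rw [Units.val_eq_one] at e
          rw [e, orderOf_one] at ho
          omega
        let X : (Matrix (Fin 4) (Fin 4) F) := Matrix.diagonal ![(o : F), o, o, 1]
        let Y : (Matrix (Fin 4) (Fin 4) F) := Matrix.diagonal ![(o : F) ^ 2, (o : F) ^ 2, (o : F) ^ 2, 1]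
        have hXY : X * Y = 1 := by
          rw [Matrix.diagonal_mul_diagonal, ← Matrix.diagonal_one]
          congr 1
          funext i
          fin_cases i <;> simp <;> linear_combination ho3
        have hYX : Y * X = 1 := mul_eq_one_comm.mp hXY
        let x : GL (Fin 4) F := ⟨X, Y, hXY, hYX⟩
        have hxr : (x : (Matrix (Fin 4) (Fin 4) F)) ^ 3 = 1 := by
          change X ^ 3 = 1
          rw [Matrix.diagonal_pow, ← Matrix.diagonal_one]
          congr 1
          funext i
          fin_cases i <;> simp [ho3]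
        have hns : ∀ z : F, (x : (Matrix (Fin 4) (Fin 4) F)) ≠ z • 1 := by
          intro z hz
          have e0 := congrFun (congrFun hz 0) 0
          have e3 := congrFun (congrFun hz 3) 3
          simp [x, X] at e0 e3
          exact ho1 (e0.trans e3.symm)
        refine ⟨x, mem_SL.mpr ?_, hxr, hns, fun g hg => ?_⟩
        · change X.det = 1
          rw [Matrix.det_diagonal, Fin.prod_univ_four]
          simp
          linear_combination ho3
        obtain ⟨y, hyN, hyr, hyns, ht, hti, -⟩ := conj x hxr hns g hg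
        have hf := formula y hyN hyr
        rw [ht, hti] at hf
        have hq : (o : F) * o + o + 1 = 0 :=
          (mul_eq_zero.mp (show ((o : F) - 1) * ((o : F) * o + o + 1) = 0 by linear_combination ho3)).resolve_left
            (sub_ne_zero.mpr ho1)
        rw [show Matrix.trace (x : (Matrix (Fin 4) (Fin 4) F)) * Matrix.trace ((x⁻¹ : GL (Fin 4) F) : (Matrix (Fin 4) (Fin 4) F)) = 7 by
          change Matrix.trace X * Matrix.trace Y = 7
          simp [X, Y, Matrix.trace, Fin.sum_univ_four]
          linear_combination 9 * ho3 + 3 * hq] at hf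
        rcases hP.card_fixed_four rfl hFour hyN hyns hr2 hyr with ⟨-, hC | hC⟩ | ⟨h5, -⟩
        · rw [hC] at hf; push_cast at hf
          have : (2 : F) * 2 * 2 * 3 = 0 := by linear_combination -hf
          simp [h2, h3] at this
        · rw [hC] at hf; push_cast at hf
          have : (2 : F) * 2 * 3 = 0 := by linear_combination -hf
          simp [h2, h3] at this
        · omega
      · by_cases hp5 : p = 5
        · subst hp5
          let x : GL (Fin 4) F := Matrix.GeneralLinearGroup.mkOfDetNeZero (Matrix.transvection 0 1 1)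
            (by rw [Matrix.det_transvection_of_ne _ _ (by decide)]; exact one_ne_zero)
          have hX : (x : (Matrix (Fin 4) (Fin 4) F)) = Matrix.transvection 0 1 1 := rfl
          have hxN : ((x : (Matrix (Fin 4) (Fin 4) F)) - 1) * ((x : (Matrix (Fin 4) (Fin 4) F)) - 1) = 0 := by
            rw [hX, Matrix.transvection, add_sub_cancel_left, Matrix.single_mul_single_of_ne _ _ _ _ (by decide)]
          have hpow : ∀ (N : (Matrix (Fin 4) (Fin 4) F)), N * N = 0 → ∀ k : ℕ, (1 + N) ^ k = 1 + (k : F) • N := by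
            intro N hN k
            induction k with
            | zero => simp
            | succ k ih => rw [pow_succ, ih, mul_add, mul_one, add_mul, one_mul, smul_mul_assoc, hN]; push_cast; module
          have hxr : (x : (Matrix (Fin 4) (Fin 4) F)) ^ 5 = 1 := by
            rw [show (x : (Matrix (Fin 4) (Fin 4) F)) = 1 + ((x : (Matrix (Fin 4) (Fin 4) F)) - 1) from (add_sub_cancel _ _).symm, hpow _ hxN,
              show ((5 : ℕ) : F) = 0 from CharP.cast_eq_zero F 5, zero_smul, add_zero]
          have hns : ∀ z : F, (x : (Matrix (Fin 4) (Fin 4) F)) ≠ z • 1 := by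
            intro z hz
            have e1 := congrFun (congrFun hz 0) 1
            simp [hX, Matrix.transvection] at e1
          refine ⟨x, mem_SL.mpr (by rw [hX, Matrix.det_transvection_of_ne _ _ (by decide)]), hxr, hns, fun g hg => ?_⟩
          obtain ⟨y, hyN, hyr, hyns, -, -, hN⟩ := conj x hxr hns g hg
          replace hN := hN hxN
          obtain ⟨s, hs⟩ : ∃ s : R, y * (s : GL (Fin 4) F) ≠ (s : GL (Fin 4) F) * y := by
            by_contra hno
            push Not at hno
            obtain ⟨c, hc⟩ := hP.abs (y : (Matrix (Fin 4) (Fin 4) F)) fun s hs => by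
              simpa using congrArg (fun w : GL (Fin 4) F => (w : (Matrix (Fin 4) (Fin 4) F))) (hno ⟨s, hs⟩)
            exact hyns c hc
          have h5 : Odd 5 := by decide
          have htr : ∀ k : ℕ, k = 1 ∨ k = 2 ∨ k = 3 →
              Matrix.trace ((y ^ k * (s : GL (Fin 4) F) * (y ^ k)⁻¹ * (s : GL (Fin 4) F)⁻¹ : GL (Fin 4) F) : (Matrix (Fin 4) (Fin 4) F)) = 0 := by
            intro k hk
            have hykN := pow_mem hyN k
            refine hP.trace_eq_zero h2 (mul_mem (conj_mem hykN s.2) (inv_mem s.2)) fun hsc => hs ?_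
            have hc : Commute (y ^ k) (s : GL (Fin 4) F) :=
              hP.eq_one_of_scalar hykN h5 (by rw [← pow_mul, mul_comm, pow_mul, hyr, one_pow]) s.2 hsc
            rcases hk with rfl | rfl | rfl
            · exact (pow_one y ▸ hc).eq
            · have h' := hc.pow_left 3
              rw [← pow_mul, show 2 * 3 = 5 + 1 from rfl, pow_succ, hyr, one_mul] at h'
              exact h'.eq
            · have h' := hc.pow_left 2
              rw [← pow_mul, show 3 * 2 = 5 + 1 from rfl, pow_succ, hyr, one_mul] at h'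
              exact h'.eq
          set N : (Matrix (Fin 4) (Fin 4) F) := (y : (Matrix (Fin 4) (Fin 4) F)) - 1 with hNd
          have hy : (y : (Matrix (Fin 4) (Fin 4) F)) = 1 + N := (add_sub_cancel _ _).symm
          have hinv : ∀ k : ℕ, (((y ^ k)⁻¹ : GL (Fin 4) F) : (Matrix (Fin 4) (Fin 4) F)) = 1 - (k : F) • N := by
            intro k
            refine (left_inv_eq_right_inv (a := ((y ^ k : GL (Fin 4) F) : (Matrix (Fin 4) (Fin 4) F))) (Units.inv_mul _) ?_)
            rw [Units.val_pow_eq_pow_val, hy, hpow N hN, add_mul, one_mul, mul_sub, mul_one, smul_mul_smul_comm, hN,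
              smul_zero, sub_zero, sub_add_cancel]
          have hval : ∀ k : ℕ, ((y ^ k * (s : GL (Fin 4) F) * (y ^ k)⁻¹ * (s : GL (Fin 4) F)⁻¹ : GL (Fin 4) F) : (Matrix (Fin 4) (Fin 4) F)) =
              (1 + (k : F) • N) * ((s : GL (Fin 4) F) : (Matrix (Fin 4) (Fin 4) F)) * (1 - (k : F) • N) *
                (((s : GL (Fin 4) F)⁻¹ : GL (Fin 4) F) : (Matrix (Fin 4) (Fin 4) F)) := fun k => by
            rw [Units.val_mul, Units.val_mul, Units.val_mul, hinv, Units.val_pow_eq_pow_val, hy, hpow N hN]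
          have e1 := htr 1 (Or.inl rfl)
          have e2 := htr 2 (Or.inr (Or.inl rfl))
          have e3 := htr 3 (Or.inr (Or.inr rfl))
          rw [hval] at e1 e2 e3
          simp only [Nat.cast_ofNat, Nat.cast_one, one_smul, add_mul, mul_sub, sub_mul, one_mul, mul_one,
            smul_mul_assoc, mul_smul_comm, smul_smul, Units.mul_inv, Matrix.trace_add, Matrix.trace_sub,
            Matrix.trace_smul, Matrix.trace_one, Fintype.card_fin, smul_eq_mul, smul_add, smul_sub] at e1 e2 e3
          exact pow_ne_zero 2 h2 (by linear_combination 3 * e1 - 3 * e2 + e3)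
        · -- an element of order five of a plane
          have hdvd : 5 ∣ p * (p ^ 2 - 1) := by
            refine dvd_mul_of_dvd_right ?_ _
            rw [← ZMod.natCast_eq_zero_iff, Nat.cast_sub (Nat.one_le_pow _ _ hp.pos), Nat.cast_pow, Nat.cast_one,
              sub_eq_zero]
            have hp0 : (p : ZMod 5) ≠ 0 := fun e => hp5 ((Nat.prime_dvd_prime_iff_eq (by norm_num) hp).mp
              ((ZMod.natCast_eq_zero_iff _ _).mp e)).symm
            have hd4 : orderOf (p : ZMod 5) ∣ 2 ^ 2 := orderOf_dvd_of_pow_eq_one (ZMod.pow_card_sub_one_eq_one hp0)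
            obtain ⟨k, hk, hk'⟩ := (Nat.dvd_prime_pow Nat.prime_two).mp hd4
            refine orderOf_dvd_iff_pow_eq_one.mp ?_
            rw [hk']
            interval_cases k
            · norm_num
            · norm_num
            · exact absurd hk' (hr5 rfl)
          obtain ⟨g0, hg0⟩ := exists_prime_orderOf_dvd_card' (G := Matrix.SpecialLinearGroup (Fin 2) F) 5
            (by rw [Cfsg.Agent.Lib.Classical.card_SL2, hF]; exact hdvd)
          set A : Matrix (Fin 2) (Fin 2) F := (g0 : Matrix (Fin 2) (Fin 2) F) with hA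
          have hA5 : A ^ 5 = 1 := by
            rw [hA, ← Matrix.SpecialLinearGroup.coe_pow, ← hg0, pow_orderOf_eq_one]; rfl
          have hA1 : A ≠ 1 := fun e => by
            have : g0 = 1 := Subtype.ext e
            rw [this, orderOf_one] at hg0
            omega
          have hd : A.det = 1 := g0.2
          set t := A.trace with htd
          let B : Matrix (Fin 2) (Fin 2) F := t • 1 - A
          have hch : A * A = t • A - (1 : Matrix (Fin 2) (Fin 2) F) := by
            rw [Matrix.det_fin_two] at hd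
            ext i j
            fin_cases i <;> fin_cases j <;> simp [t, Matrix.mul_apply, Fin.sum_univ_two, Matrix.trace_fin_two]
            · linear_combination -hd
            · ring
            · ring
            · linear_combination -hd
          have hAB : A * B = 1 := by simp only [B, mul_sub, mul_smul_comm, mul_one, hch, sub_sub_cancel]
          have ht5 : t * t + t = 1 := by
            have h5 : (t ^ 4 - 3 * t ^ 2 + 1) • A = (t ^ 3 - 2 * t + 1) • (1 : Matrix (Fin 2) (Fin 2) F) := by
              have h := hA5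
              rw [show A ^ 5 = A * A * (A * A) * A by simp only [pow_succ, pow_zero, one_mul, mul_assoc], hch] at h
              simp only [sub_mul, mul_sub, smul_mul_assoc, mul_smul_comm, one_mul, mul_one, hch, smul_sub, smul_smul] at h
              linear_combination (norm := module) h
            by_cases hz : t ^ 4 - 3 * t ^ 2 + 1 = 0
            · rw [hz, zero_smul] at h5
              have h6 := (smul_eq_zero.mp h5.symm).resolve_right one_ne_zero
              have h7 : (t - 1) * (t * t + t - 1) = 0 := by linear_combination h6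
              rcases mul_eq_zero.mp h7 with h8 | h8
              · exfalso
                rw [sub_eq_zero.mp h8] at hz
                exact one_ne_zero (α := F) (by linear_combination -hz)
              · linear_combination h8
            · exfalso
              set c := (t ^ 4 - 3 * t ^ 2 + 1)⁻¹ * (t ^ 3 - 2 * t + 1)
              have hAe : A = c • 1 := by rw [mul_smul, ← h5, smul_smul, inv_mul_cancel₀ hz, one_smul]
              have hc2 : c ^ 2 = 1 := by
                rw [hAe, Matrix.det_smul, Matrix.det_one, mul_one, Fintype.card_fin] at hd; exact hd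
              have hcr : c ^ 5 = 1 := by
                have h' := hA5
                rw [hAe, _root_.smul_pow, one_pow] at h'
                simpa using congrFun (congrFun h' 0) 0
              exact hA1 (by rw [hAe, show c = 1 by linear_combination hcr - (c ^ 3 + c) * hc2, one_smul])
          let e := (finSumFinEquiv (m := 2) (n := 2))
          let emb : Matrix (Fin 2) (Fin 2) F → (Matrix (Fin 4) (Fin 4) F) := fun C =>
            Matrix.reindexAlgEquiv F F e (Matrix.fromBlocks C 0 0 1)
          have hemb : ∀ C C', emb C * emb C' = emb (C * C') := fun C C' => by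
            simp only [emb, ← map_mul, Matrix.fromBlocks_multiply]; simp
          have hemb1 : emb 1 = 1 := by simp only [emb, Matrix.fromBlocks_one, map_one]
          let x : GL (Fin 4) F := ⟨emb A, emb B, by rw [hemb, hAB, hemb1],
            by rw [hemb, mul_eq_one_comm.mp hAB, hemb1]⟩
          have hxr : (x : (Matrix (Fin 4) (Fin 4) F)) ^ 5 = 1 := by
            change emb A ^ 5 = 1
            simp only [emb, ← map_pow, Matrix.fromBlocks_diagonal_pow, hA5, one_pow, Matrix.fromBlocks_one, map_one]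
          have hns : ∀ z : F, (x : (Matrix (Fin 4) (Fin 4) F)) ≠ z • 1 := by
            intro z hz
            have hz' : Matrix.fromBlocks A 0 0 (1 : Matrix (Fin 2) (Fin 2) F) = z • 1 :=
              (Matrix.reindexAlgEquiv F F e).injective (by rw [map_smul, map_one]; exact hz)
            have e1 := congrFun (congrFun hz' (Sum.inr 0)) (Sum.inr 0)
            simp at e1
            apply hA1
            ext i j
            have := congrFun (congrFun hz' (Sum.inl i)) (Sum.inl j)
            simpa [← e1, Matrix.one_apply] using this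
          have htr : ∀ C, Matrix.trace (emb C) = Matrix.trace C + 2 := fun C => by
            simp [emb, e, Matrix.trace, Fin.sum_univ_four, Fin.sum_univ_two, finSumFinEquiv, Fin.addCases]
            ring
          refine ⟨x, mem_SL.mpr ?_, hxr, hns, fun g hg => ?_⟩
          · change (emb A).det = 1
            simp only [emb, Matrix.det_reindexAlgEquiv, Matrix.det_fromBlocks_zero₂₁, hd, Matrix.det_one, mul_one]
          obtain ⟨y, hyN, hyr, hyns, ht, hti, -⟩ := conj x hxr hns g hg
          have hf := formula y hyN hyr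
          have htB : Matrix.trace B = t := by
            simp [B, t, Matrix.trace_sub, Matrix.trace_smul]; ring
          rw [ht, hti, show Matrix.trace (x : (Matrix (Fin 4) (Fin 4) F)) = t + 2 from htr A,
            show Matrix.trace ((x⁻¹ : GL (Fin 4) F) : (Matrix (Fin 4) (Fin 4) F)) = t + 2 from (htr B).trans (by rw [htB])] at hf
          rcases hP.card_fixed_four rfl hFour hyN hyns hr2 hyr with ⟨h53, -⟩ | ⟨-, hC⟩
          · omega
          · rw [hC] at hf
            have h1 : (t + 2) * (t + 2) = 1 := by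
              refine mul_left_cancel₀ (pow_ne_zero 2 h2) ?_
              push_cast at hf
              linear_combination -hf
            have h34 : 3 * t + 4 = 0 := by linear_combination h1 - ht5
            have h5 : ((5 : ℕ) : F) = 0 := by
              push_cast
              linear_combination -9 * ht5 + (3 * t - 1) * h34
            exact hp5 ((Nat.prime_dvd_prime_iff_eq hp (by norm_num)).mp ((CharP.cast_eq_zero_iff F p 5).mp h5))
    · obtain ⟨x, hx⟩ := exists_prime_orderOf_dvd_card' (G := Cfsg.Geo.specialLinear (Fin 4) F) r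
        (hΩ.trans (Subgroup.relIndex_dvd_card _ _))
      have hxr : ((x : GL (Fin 4) F) : (Matrix (Fin 4) (Fin 4) F)) ^ r = 1 := by
        rw [← Units.val_pow_eq_pow_val, ← SubgroupClass.coe_pow, ← hx, pow_orderOf_eq_one]; rfl
      have hns : ∀ z : F, ((x : GL (Fin 4) F) : (Matrix (Fin 4) (Fin 4) F)) ≠ z • 1 := by
        intro z hz
        have h4 := scalar_four x.2 hz
        have hzr : z ^ r = 1 := by
          rw [hz, _root_.smul_pow, one_pow] at hxr
          simpa using congrFun (congrFun hxr 0) 0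
        have hz1 : z = 1 := by
          have hcop : Nat.Coprime 4 r := by
            rw [show 4 = 2 ^ 2 from rfl]
            exact Nat.Coprime.pow_left 2 ((Nat.coprime_primes Nat.prime_two hr).mpr (Ne.symm hr2))
          simpa [hcop.gcd_eq_one] using pow_gcd_eq_one.mpr ⟨h4, hzr⟩
        have : x = 1 := Subtype.ext (Units.ext (by rw [hz, hz1, one_smul]; rfl))
        rw [this, orderOf_one] at hx
        exact hr.one_lt.ne hx
      refine ⟨x, x.2, hxr, hns, fun g hg => ?_⟩
      obtain ⟨y, hyN, hyr, hyns, -⟩ := conj _ hxr hns g hg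
      rcases hP.card_fixed_four rfl hFour hyN hyns hr2 hyr with ⟨rfl, -⟩ | ⟨rfl, -⟩ <;> exact hr35 (by tauto)
  · intro hcase x hxS hxz hns
    obtain ⟨z, hz⟩ := hxz
    obtain ⟨i, j, u, v, huu, hvv, hii, hjj, huv, hij, hiu, hiv, hju, hjv, hgen⟩ := hFour.exists_frame
    have cv : ∀ {a b : R}, a = b → ((a : GL (Fin 4) F) : (Matrix (Fin 4) (Fin 4) F)) = ((b : GL (Fin 4) F) : (Matrix (Fin 4) (Fin 4) F)) := fun h => by rw [h]
    have Euu : ((u : GL (Fin 4) F) : (Matrix (Fin 4) (Fin 4) F)) * ((u : GL (Fin 4) F) : (Matrix (Fin 4) (Fin 4) F)) = 1 := by simpa using cv huu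
    have Evv : ((v : GL (Fin 4) F) : (Matrix (Fin 4) (Fin 4) F)) * ((v : GL (Fin 4) F) : (Matrix (Fin 4) (Fin 4) F)) = 1 := by simpa using cv hvv
    have Eii : ((i : GL (Fin 4) F) : (Matrix (Fin 4) (Fin 4) F)) * ((i : GL (Fin 4) F) : (Matrix (Fin 4) (Fin 4) F)) = -1 := by simpa using cv hii
    have Ejj : ((j : GL (Fin 4) F) : (Matrix (Fin 4) (Fin 4) F)) * ((j : GL (Fin 4) F) : (Matrix (Fin 4) (Fin 4) F)) = -1 := by simpa using cv hjj
    have Euv : ((u : GL (Fin 4) F) : (Matrix (Fin 4) (Fin 4) F)) * ((v : GL (Fin 4) F) : (Matrix (Fin 4) (Fin 4) F)) =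
        -(((v : GL (Fin 4) F) : (Matrix (Fin 4) (Fin 4) F)) * ((u : GL (Fin 4) F) : (Matrix (Fin 4) (Fin 4) F))) := by simpa using cv huv
    have Eij : ((i : GL (Fin 4) F) : (Matrix (Fin 4) (Fin 4) F)) * ((j : GL (Fin 4) F) : (Matrix (Fin 4) (Fin 4) F)) =
        -(((j : GL (Fin 4) F) : (Matrix (Fin 4) (Fin 4) F)) * ((i : GL (Fin 4) F) : (Matrix (Fin 4) (Fin 4) F))) := by simpa using cv hij
    have Eiu : ((i : GL (Fin 4) F) : (Matrix (Fin 4) (Fin 4) F)) * ((u : GL (Fin 4) F) : (Matrix (Fin 4) (Fin 4) F)) = ((u : GL (Fin 4) F) : (Matrix (Fin 4) (Fin 4) F)) * ((i : GL (Fin 4) F) : (Matrix (Fin 4) (Fin 4) F)) := by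
      simpa using cv hiu
    have Eiv : ((i : GL (Fin 4) F) : (Matrix (Fin 4) (Fin 4) F)) * ((v : GL (Fin 4) F) : (Matrix (Fin 4) (Fin 4) F)) = ((v : GL (Fin 4) F) : (Matrix (Fin 4) (Fin 4) F)) * ((i : GL (Fin 4) F) : (Matrix (Fin 4) (Fin 4) F)) := by
      simpa using cv hiv
    have Eju : ((j : GL (Fin 4) F) : (Matrix (Fin 4) (Fin 4) F)) * ((u : GL (Fin 4) F) : (Matrix (Fin 4) (Fin 4) F)) = ((u : GL (Fin 4) F) : (Matrix (Fin 4) (Fin 4) F)) * ((j : GL (Fin 4) F) : (Matrix (Fin 4) (Fin 4) F)) := by
      simpa using cv hju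
    have Ejv : ((j : GL (Fin 4) F) : (Matrix (Fin 4) (Fin 4) F)) * ((v : GL (Fin 4) F) : (Matrix (Fin 4) (Fin 4) F)) = ((v : GL (Fin 4) F) : (Matrix (Fin 4) (Fin 4) F)) * ((j : GL (Fin 4) F) : (Matrix (Fin 4) (Fin 4) F)) := by
      simpa using cv hjv
    rcases hcase with rfl | ⟨rfl, hpr⟩ | ⟨rfl, ho⟩
    · -- involutions
      have hxx : (x : (Matrix (Fin 4) (Fin 4) F)) * x = z • 1 := by rw [← pow_two, ← Units.val_pow_eq_pow_val, hz]
      have hz4 : z ^ 4 = 1 := scalar_four (pow_mem hxS 2) hz
      have hz0 : z ≠ 0 := fun e => by rw [e] at hz4; simp at hz4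
      obtain ⟨c, hc⟩ : IsSquare z := by
        by_contra hsq
        have hirr : ∀ l : F, l * l ≠ 0 * l + z := fun l e => hsq ⟨l, by rw [e, zero_mul, zero_add]⟩
        obtain ⟨P, hP0, hPN⟩ := SLConj.exists_quad_basis (x := (x : (Matrix (Fin 4) (Fin 4) F))) (α := 0) (β := z)
          (by rw [hxx, zero_smul, zero_add]) hirr
        have hd := congrArg Matrix.det hPN
        rw [Matrix.det_mul, Matrix.det_mul, mem_SL.mp hxS, one_mul] at hd
        have hd' : (SLConj.quadForm2 0 z).det = 1 := by
          apply mul_left_cancel₀ hP0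
          rw [← hd, mul_one]
        rw [show (SLConj.quadForm2 0 z).det = z * z by
          simp [SLConj.quadForm2, Matrix.det_succ_row_zero, Fin.sum_univ_succ, Fin.succAbove]] at hd'
        rcases mul_self_eq_one_iff.mp hd' with e | e
        · exact hsq ⟨1, by rw [e, mul_one]⟩
        · exact hsq ⟨ι, by rw [e, hι]⟩
      have hc0 : c ≠ 0 := fun e => hz0 (by rw [hc, e, mul_zero])
      set e : GL (Fin 4) F := scal (inv_ne_zero hc0) * x with he
      have hev : (e : (Matrix (Fin 4) (Fin 4) F)) = c⁻¹ • (x : (Matrix (Fin 4) (Fin 4) F)) := by rw [he, Units.val_mul, scal_val, smul_mul_assoc, one_mul]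
      have hee : (e : (Matrix (Fin 4) (Fin 4) F)) * e = 1 := by
        rw [hev, smul_mul_smul_comm, hxx, smul_smul, hc]
        rw [show c⁻¹ * c⁻¹ * (c * c) = 1 by field_simp, one_smul]
      have hens : ∀ z' : F, (e : (Matrix (Fin 4) (Fin 4) F)) ≠ z' • 1 := fun z' h' => hns (c * z') (by
        rw [mul_smul, ← h', hev, smul_smul, mul_inv_cancel₀ hc0, one_smul])
      obtain ⟨a, ha4, P, hPd, hPN⟩ := SLConj.exists_diag_basis h2 hee
      have htre := SLConj.trace_eq_of_basis hPd hPN
      -- involutions of the normaliser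
      set b : GL (Fin 4) F := ((w * i : R) : GL (Fin 4) F) with hb
      have hbv : (b : (Matrix (Fin 4) (Fin 4) F)) = ι • ((i : GL (Fin 4) F) : (Matrix (Fin 4) (Fin 4) F)) := by
        rw [hb, Subgroup.coe_mul, Units.val_mul, hw, smul_mul_assoc, one_mul]
      set U : (Matrix (Fin 4) (Fin 4) F) := ((u : GL (Fin 4) F) : (Matrix (Fin 4) (Fin 4) F)) with hU
      set B : (Matrix (Fin 4) (Fin 4) F) := (b : (Matrix (Fin 4) (Fin 4) F)) with hB
      have hBB : B * B = 1 := by rw [hbv, smul_mul_smul_comm, Eii, hι]; simp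
      have hUB : U * B = B * U := by rw [hbv, mul_smul_comm, smul_mul_assoc, ← Eiu]
      set K : (Matrix (Fin 4) (Fin 4) F) := (2 : F)⁻¹ • (1 + U + B - U * B) with hK
      have hKK : K * K = 1 := by
        have e1 : (1 + U + B - U * B) * (1 + U + B - U * B) = (4 : F) • (1 : (Matrix (Fin 4) (Fin 4) F)) := by
          have e2 : ∀ y : (Matrix (Fin 4) (Fin 4) F), B * (U * y) = U * (B * y) := fun y => by rw [← mul_assoc, ← hUB, mul_assoc]
          have e3 : ∀ y : (Matrix (Fin 4) (Fin 4) F), U * (U * y) = y := fun y => by rw [← mul_assoc, Euu, one_mul]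
          simp only [add_mul, mul_add, sub_mul, mul_sub, one_mul, mul_one, mul_assoc, e2, e3, ← hUB, Euu, hBB]
          module
        rw [hK, smul_mul_smul_comm, e1, smul_smul]
        rw [show (2 : F)⁻¹ * (2 : F)⁻¹ * 4 = 1 by field_simp; norm_num, one_smul]
      let Ku : GL (Fin 4) F := ⟨K, K, hKK, hKK⟩
      have hKu : (Ku : (Matrix (Fin 4) (Fin 4) F)) = K := rfl
      have hconjK : ∀ s ∈ R, ∃ s' ∈ R, Ku * s = s' * Ku := by
        intro s hs
        have hbR : b ∈ R := (w * i : R).2
        have key : ∀ S' : (Matrix (Fin 4) (Fin 4) F), (1 + U + B - U * B) * (s : (Matrix (Fin 4) (Fin 4) F)) = S' * (1 + U + B - U * B) → K * (s : (Matrix (Fin 4) (Fin 4) F)) = S' * K := by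
          intro S' h'
          rw [hK, smul_mul_assoc, h', mul_smul_comm]
        rcases hP.comm u u.2 s hs with h1 | h1 <;> rcases hP.comm b hbR s hs with h1' | h1'
        · refine ⟨s, hs, Units.ext (key _ ?_)⟩
          change U * (s : (Matrix (Fin 4) (Fin 4) F)) = _ at h1; change B * (s : (Matrix (Fin 4) (Fin 4) F)) = _ at h1'
          simp only [add_mul, sub_mul, mul_add, mul_sub, one_mul, mul_one, mul_assoc, h1, h1']
          rw [← mul_assoc U, h1, mul_assoc]
        · refine ⟨s * u, mul_mem hs u.2, Units.ext ((key _ ?_).trans (by rw [Units.val_mul]))⟩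
          change U * (s : (Matrix (Fin 4) (Fin 4) F)) = _ at h1; change B * (s : (Matrix (Fin 4) (Fin 4) F)) = _ at h1'
          rw [Units.val_mul, ← hU]
          have e3 : ∀ y : (Matrix (Fin 4) (Fin 4) F), U * (U * y) = y := fun y => by rw [← mul_assoc, Euu, one_mul]
          simp only [add_mul, sub_mul, mul_add, mul_sub, one_mul, mul_one, mul_assoc, h1, h1', mul_neg, Euu, e3]
          rw [← mul_assoc U (s : (Matrix (Fin 4) (Fin 4) F)), h1, mul_assoc]
          module
        · refine ⟨s * b, mul_mem hs hbR, Units.ext ((key _ ?_).trans (by rw [Units.val_mul]))⟩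
          change U * (s : (Matrix (Fin 4) (Fin 4) F)) = _ at h1; change B * (s : (Matrix (Fin 4) (Fin 4) F)) = _ at h1'
          rw [Units.val_mul, ← hB]
          have e4 : ∀ y : (Matrix (Fin 4) (Fin 4) F), B * (B * y) = y := fun y => by rw [← mul_assoc, hBB, one_mul]
          have e2 : B * (U * B) = U := by rw [hUB, e4]
          simp only [add_mul, sub_mul, mul_add, mul_sub, one_mul, mul_one, mul_assoc, h1, h1', mul_neg, hBB, e2]
          rw [← mul_assoc U (s : (Matrix (Fin 4) (Fin 4) F)), h1, neg_mul, mul_assoc, ← hUB]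
          module
        · refine ⟨-(s * (u * b)), hP.neg_mem (mul_mem hs (mul_mem u.2 hbR)),
            Units.ext ((key _ ?_).trans (by simp only [Units.val_neg, Units.val_mul]; rfl))⟩
          change U * (s : (Matrix (Fin 4) (Fin 4) F)) = _ at h1; change B * (s : (Matrix (Fin 4) (Fin 4) F)) = _ at h1'
          simp only [Units.val_neg, Units.val_mul, ← hU, ← hB]
          have e2 : ∀ y : (Matrix (Fin 4) (Fin 4) F), B * (U * y) = U * (B * y) := fun y => by rw [← mul_assoc, ← hUB, mul_assoc]
          have e3 : ∀ y : (Matrix (Fin 4) (Fin 4) F), U * (U * y) = y := fun y => by rw [← mul_assoc, Euu, one_mul]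
          simp only [add_mul, sub_mul, mul_add, mul_sub, one_mul, mul_one, mul_assoc, h1, h1', mul_neg, neg_mul,
            e2, e3, ← hUB, Euu, hBB]
          rw [← mul_assoc U (s : (Matrix (Fin 4) (Fin 4) F)), h1, neg_mul, mul_assoc]
          module
      have hKN : Ku ∈ Cfsg.Geo.subgroupNormalizer R := by
        have h1 : ∀ s ∈ R, Ku * s * Ku⁻¹ ∈ R := fun s hs => by
          obtain ⟨s', hs', e'⟩ := hconjK s hs
          rwa [e', mul_inv_cancel_right]
        refine fun s => ⟨h1 s, fun hs => ?_⟩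
        have h2' := h1 _ hs
        have hinv : Ku⁻¹ = Ku := rfl
        have hk2 : Ku * Ku = 1 := Units.ext hKK
        rwa [hinv, show Ku * (Ku * s * Ku) * Ku = (Ku * Ku) * s * (Ku * Ku) by simp only [mul_assoc], hk2, one_mul,
          mul_one] at h2'
      have hKtr : K.trace = 2 := by
        have hU0 : U.trace = 0 := hP.trace_eq_zero h2 u.2 fun ⟨l, hl⟩ => by
          change U = l • 1 at hl
          have h' := Euv
          rw [hl, smul_mul_assoc, one_mul, mul_smul_comm, mul_one, eq_neg_iff_add_eq_zero, ← two_smul F, smul_smul] at h'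
          have hl0 := (mul_eq_zero.mp ((smul_eq_zero.mp h').resolve_right (Units.ne_zero _))).resolve_left h2
          exact Units.ne_zero (u : GL (Fin 4) F) (by change U = 0; rw [hl, hl0, zero_smul])
        have hnsU : ∀ s : R, ((s : GL (Fin 4) F) : (Matrix (Fin 4) (Fin 4) F)) * ((j : GL (Fin 4) F) : (Matrix (Fin 4) (Fin 4) F)) =
            -(((j : GL (Fin 4) F) : (Matrix (Fin 4) (Fin 4) F)) * ((s : GL (Fin 4) F) : (Matrix (Fin 4) (Fin 4) F))) → ((s : GL (Fin 4) F) : (Matrix (Fin 4) (Fin 4) F)).trace = 0 := by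
          intro s hsj
          refine hP.trace_eq_zero h2 s.2 fun ⟨l, hl⟩ => ?_
          rw [hl, smul_mul_assoc, one_mul, mul_smul_comm, mul_one, eq_neg_iff_add_eq_zero, ← two_smul F, smul_smul] at hsj
          have hl0 := (mul_eq_zero.mp ((smul_eq_zero.mp hsj).resolve_right (Units.ne_zero _))).resolve_left h2
          exact Units.ne_zero (s : GL (Fin 4) F) (by rw [hl, hl0, zero_smul])
        have hb0 : B.trace = 0 := hnsU (w * i) (by
          rw [← hb, ← hB, hbv, smul_mul_assoc, Eij, smul_neg, mul_smul_comm])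
        have hub0 : (U * B).trace = 0 := by
          have := hnsU (u * (w * i)) (by
            rw [Subgroup.coe_mul, Units.val_mul, ← hb, ← hB, hbv, ← hU, mul_smul_comm, smul_mul_assoc, mul_assoc, Eij,
              mul_neg, ← mul_assoc U, ← Eju, smul_neg, mul_smul_comm, mul_assoc])
          rwa [Subgroup.coe_mul, Units.val_mul, ← hb, ← hB, ← hU] at this
        rw [hK, Matrix.trace_smul, Matrix.trace_sub, Matrix.trace_add, Matrix.trace_add, hU0, hb0, hub0,
          Matrix.trace_one, Fintype.card_fin, smul_eq_mul]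
        field_simp
        norm_num
      obtain ⟨t, htN, htt, httr⟩ : ∃ t : GL (Fin 4) F, t ∈ Cfsg.Geo.subgroupNormalizer R ∧ (t : (Matrix (Fin 4) (Fin 4) F)) * t = 1 ∧
          Matrix.trace (t : (Matrix (Fin 4) (Fin 4) F)) = (e : (Matrix (Fin 4) (Fin 4) F)).trace := by
        have hval : (e : (Matrix (Fin 4) (Fin 4) F)).trace = 2 * (a : F) - 4 := by
          rw [htre, Matrix.trace_diagonal, Fin.sum_univ_four]
          interval_cases a <;> simp <;> ring
        interval_cases a
        · exfalso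
          refine hens (-1) ?_
          have : Matrix.diagonal (fun j : Fin 4 => if (j : ℕ) < 0 then (1 : F) else -1) = -(1 : (Matrix (Fin 4) (Fin 4) F)) := by
            rw [← Matrix.diagonal_one, Matrix.diagonal_neg]; congr 1
          rw [this, mul_neg, mul_one] at hPN
          have hu : IsUnit P.det := isUnit_iff_ne_zero.mpr hPd
          rw [← Matrix.mul_nonsing_inv_cancel_right (A := P) (e : (Matrix (Fin 4) (Fin 4) F)) hu, hPN, neg_mul, Matrix.mul_nonsing_inv _ hu, neg_one_smul]
        · exact ⟨-Ku, by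
              have h := mul_mem (show (-1 : GL (Fin 4) F) ∈ Cfsg.Geo.subgroupNormalizer R from
                Subgroup.le_normalizer hP.negmem) hKN
              rwa [neg_one_mul] at h,
            by rw [Units.val_neg, neg_mul_neg]; exact hKK,
            by rw [Units.val_neg, Matrix.trace_neg, hKu, hKtr, hval]; push_cast; ring⟩
        · refine ⟨u, Subgroup.le_normalizer u.2, Euu, ?_⟩
          rw [hval, hP.trace_eq_zero h2 u.2 fun ⟨l, hl⟩ => ?_]
          · push_cast; ring
          · change U = l • 1 at hl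
            have h' := Euv
            rw [hl, smul_mul_assoc, one_mul, mul_smul_comm, mul_one, eq_neg_iff_add_eq_zero, ← two_smul F, smul_smul] at h'
            have hl0 := (mul_eq_zero.mp ((smul_eq_zero.mp h').resolve_right (Units.ne_zero _))).resolve_left h2
            exact Units.ne_zero (u : GL (Fin 4) F) (by change U = 0; rw [hl, hl0, zero_smul])
        · exact ⟨Ku, hKN, hKK, by rw [hKu, hKtr, hval]; push_cast; ring⟩
        · exfalso
          refine hens 1 ?_
          have : Matrix.diagonal (fun j : Fin 4 => if (j : ℕ) < 4 then (1 : F) else -1) = (1 : (Matrix (Fin 4) (Fin 4) F)) := by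
            rw [← Matrix.diagonal_one]; congr 1; funext j; simp [j.isLt]
          rw [this, mul_one] at hPN
          have hu : IsUnit P.det := isUnit_iff_ne_zero.mpr hPd
          rw [← Matrix.mul_nonsing_inv_cancel_right (A := P) (e : (Matrix (Fin 4) (Fin 4) F)) hu, hPN, Matrix.mul_nonsing_inv _ hu, one_smul]
      obtain ⟨a', ha', Q, hQd, hQN⟩ := SLConj.exists_diag_basis h2 htt
      have haa : a' = a := by
        have h' := SLConj.trace_eq_of_basis hQd hQN
        have hd : ∀ m ≤ 4, Matrix.trace (Matrix.diagonal fun j : Fin 4 => if (j : ℕ) < m then (1 : F) else -1) =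
            2 * (m : F) - 4 := fun m hm => by
          rw [Matrix.trace_diagonal, Fin.sum_univ_four]
          interval_cases m <;> simp <;> ring
        rw [httr, htre, hd a ha4, hd a' ha'] at h'
        have h5 : ((a : ℕ) : F) = (a' : F) := mul_left_cancel₀ h2 (by linear_combination h')
        rw [CharP.natCast_eq_natCast F p] at h5
        have hp5 : 5 ≤ p := by
          have := hp.two_le
          omega
        rw [Nat.ModEq, Nat.mod_eq_of_lt (by omega), Nat.mod_eq_of_lt (by omega)] at h5
        exact h5.symm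
      subst haa
      obtain ⟨g, hgS, hg⟩ := SLConj.exists_conj_SL hPd hQd hPN hQN fun d hd =>
        ⟨Matrix.diagonal ![d, 1, 1, 1], by simp [Matrix.det_diagonal, Fin.prod_univ_four], SLConj.diag_comm _ d⟩
      refine ⟨g, hgS, scalar_absorb (inv_ne_zero hc0) ?_⟩
      rw [hg]
      exact htN
    · -- order three
      have hcop : Nat.Coprime (p - 1) 3 := by
        rw [Nat.coprime_comm, Nat.prime_three.coprime_iff_not_dvd]
        omega
      obtain ⟨d, hd, hxr, hxS'⟩ := exists_normalised hF (by norm_num) hcop hz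
      have hX3 : ((scal hd * x : GL (Fin 4) F) : (Matrix (Fin 4) (Fin 4) F)) * ((scal hd * x : GL (Fin 4) F) : (Matrix (Fin 4) (Fin 4) F)) *
          ((scal hd * x : GL (Fin 4) F) : (Matrix (Fin 4) (Fin 4) F)) = 1 := by
        rw [← Units.val_mul, ← Units.val_mul, ← pow_three', hxr, Units.val_one]
      set X : GL (Fin 4) F := scal hd * x with hXd
      have hX1 : (X : (Matrix (Fin 4) (Fin 4) F)) ≠ 1 := fun e' => hns d⁻¹ (by
        rw [hXd, Units.val_mul, scal_val, smul_mul_assoc, one_mul] at e'
        rw [← e', smul_smul, inv_mul_cancel₀ hd, one_smul])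
      have hirr : ∀ l : F, l * l ≠ -l - 1 := by
        intro l hl
        have h1 : l = 1 := pow_inj_one hF (by norm_num) hcop (by linear_combination (l - 1) * hl)
        subst h1
        exact h3 (by linear_combination hl)
      have hquat : ∀ {a b : GL (Fin 4) F}, a ∈ R → b ∈ R → (ha : (a : (Matrix (Fin 4) (Fin 4) F)) * a = -1) → (hb : (b : (Matrix (Fin 4) (Fin 4) F)) * b = -1) →
          (a : (Matrix (Fin 4) (Fin 4) F)) * b = -((b : (Matrix (Fin 4) (Fin 4) F)) * a) → ∃ Y : GL (Fin 4) F, Y ∈ Cfsg.Geo.subgroupNormalizer R ∧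
            (Y : (Matrix (Fin 4) (Fin 4) F)) = (-(2 : F)⁻¹) • ((1 + (a : (Matrix (Fin 4) (Fin 4) F))) * (1 + (b : (Matrix (Fin 4) (Fin 4) F)))) ∧ (Y : (Matrix (Fin 4) (Fin 4) F)) * Y + Y + 1 = 0 := by
        intro a b haR hbR ha hb hab
        refine ⟨scal (neg_ne_zero.mpr (inv_ne_zero h2)) * onePlus h2 (a : (Matrix (Fin 4) (Fin 4) F)) ha * onePlus h2 (b : (Matrix (Fin 4) (Fin 4) F)) hb,
          mul_mem (mul_mem (scal_mem_normalizer _ R) (onePlus_mem hP h2 haR ha)) (onePlus_mem hP h2 hbR hb), ?_, ?_⟩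
        · simp only [Units.val_mul, onePlus_val, scal_val, smul_mul_assoc, one_mul]
        · simp only [Units.val_mul, onePlus_val, scal_val, smul_mul_assoc, one_mul, mul_smul_comm, smul_smul]
          rw [quat_order_three ha hb hab]
          match_scalars <;> field_simp <;> ring
      obtain ⟨Y, hYN, hYv, hY⟩ := hquat i.2 j.2 Eii Ejj Eij
      set A' : GL (Fin 4) F := ((u * v : R) : GL (Fin 4) F) with hA'
      set B' : GL (Fin 4) F := ((w * u : R) : GL (Fin 4) F) with hB'
      have hA'v : (A' : (Matrix (Fin 4) (Fin 4) F)) = ((u : GL (Fin 4) F) : (Matrix (Fin 4) (Fin 4) F)) * ((v : GL (Fin 4) F) : (Matrix (Fin 4) (Fin 4) F)) := by simp [hA']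
      have hB'v : (B' : (Matrix (Fin 4) (Fin 4) F)) = ι • ((u : GL (Fin 4) F) : (Matrix (Fin 4) (Fin 4) F)) := by simp [hB', hw]
      set U : (Matrix (Fin 4) (Fin 4) F) := ((u : GL (Fin 4) F) : (Matrix (Fin 4) (Fin 4) F))
      set Vv : (Matrix (Fin 4) (Fin 4) F) := ((v : GL (Fin 4) F) : (Matrix (Fin 4) (Fin 4) F))
      have hUA : U * (A' : (Matrix (Fin 4) (Fin 4) F)) = -((A' : (Matrix (Fin 4) (Fin 4) F)) * U) := by
        rw [hA'v, mul_assoc U Vv U, show Vv * U = -(U * Vv) by rw [Euv, neg_neg], mul_neg, neg_neg]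
      have hA'2 : (A' : (Matrix (Fin 4) (Fin 4) F)) * A' = -1 := by
        conv_lhs => arg 1; rw [hA'v]
        rw [mul_assoc, hA'v, ← mul_assoc Vv, show Vv * U = -(U * Vv) by rw [Euv, neg_neg], neg_mul, mul_assoc, Evv,
          mul_one, mul_neg, Euu]
      have hB'2 : (B' : (Matrix (Fin 4) (Fin 4) F)) * B' = -1 := by rw [hB'v, smul_mul_smul_comm, Euu, hι, neg_one_smul]
      have hA'B' : (A' : (Matrix (Fin 4) (Fin 4) F)) * B' = -((B' : (Matrix (Fin 4) (Fin 4) F)) * A') := by
        rw [hB'v, mul_smul_comm, smul_mul_assoc, hUA, smul_neg, neg_neg]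
      obtain ⟨Y', hY'N, hY'v, hY'⟩ := hquat (u * v : R).2 (w * u : R).2 hA'2 hB'2 hA'B'
      have hYU : ∀ W' : (Matrix (Fin 4) (Fin 4) F), ((i : GL (Fin 4) F) : (Matrix (Fin 4) (Fin 4) F)) * W' = W' * ((i : GL (Fin 4) F) : (Matrix (Fin 4) (Fin 4) F)) →
          ((j : GL (Fin 4) F) : (Matrix (Fin 4) (Fin 4) F)) * W' = W' * ((j : GL (Fin 4) F) : (Matrix (Fin 4) (Fin 4) F)) → (Y : (Matrix (Fin 4) (Fin 4) F)) * W' = W' * Y := by
        intro W' h1 h1'
        rw [hYv, smul_mul_assoc, mul_smul_comm]
        congr 1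
        simp only [add_mul, mul_add, one_mul, mul_one, mul_assoc, h1, h1']
        rw [← mul_assoc _ W', h1, mul_assoc]
      have hYY' : (Y : (Matrix (Fin 4) (Fin 4) F)) * Y' = Y' * Y := by
        have hUV : ∀ W' : (Matrix (Fin 4) (Fin 4) F), W' * U = U * W' → W' * Vv = Vv * W' → W' * Y' = Y' * W' := by
          intro W' h1 h1'
          have hWA : W' * (A' : (Matrix (Fin 4) (Fin 4) F)) = A' * W' := by rw [hA'v, ← mul_assoc, h1, mul_assoc, h1', mul_assoc]
          have hWB : W' * (B' : (Matrix (Fin 4) (Fin 4) F)) = B' * W' := by rw [hB'v, mul_smul_comm, h1, smul_mul_assoc]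
          rw [hY'v, smul_mul_assoc, mul_smul_comm, ← mul_assoc, ← one_add_comm hWA.symm, mul_assoc,
            ← one_add_comm hWB.symm, mul_assoc]
        exact hUV _ (hYU U Eiu Eju) (hYU Vv Eiv Ejv)
      have hnotU : U * (Y' : (Matrix (Fin 4) (Fin 4) F)) ≠ Y' * U := by
        intro hc'
        rw [hY'v, mul_smul_comm, smul_mul_assoc] at hc'
        have h' := smul_right_injective (Matrix (Fin 4) (Fin 4) F) (neg_ne_zero.mpr (inv_ne_zero h2)) hc'
        have hUB : U * (1 + (B' : (Matrix (Fin 4) (Fin 4) F))) = (1 + (B' : (Matrix (Fin 4) (Fin 4) F))) * U := by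
          rw [hB'v, mul_add, add_mul, mul_one, one_mul, mul_smul_comm, smul_mul_assoc]
        rw [← mul_assoc, mul_assoc (1 + (A' : (Matrix (Fin 4) (Fin 4) F))) _ U, ← hUB, ← mul_assoc] at h'
        have h'' : U * (1 + (A' : (Matrix (Fin 4) (Fin 4) F))) = (1 + (A' : (Matrix (Fin 4) (Fin 4) F))) * U := by
          have hu : IsUnit (1 + (B' : (Matrix (Fin 4) (Fin 4) F))) := (onePlus h2 (B' : (Matrix (Fin 4) (Fin 4) F)) hB'2).isUnit
          exact hu.mul_right_cancel h'
        rw [mul_add, add_mul, mul_one, one_mul, hUA, add_right_inj, neg_eq_iff_add_eq_zero, ← two_smul F] at h''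
        exact Units.ne_zero (A' * (u : GL (Fin 4) F))
          (by rw [Units.val_mul]; exact (smul_eq_zero.mp h'').resolve_left h2)
      by_cases hA : (X : (Matrix (Fin 4) (Fin 4) F)) * X + X + 1 = 0
      · have hx2 : ∀ W' : (Matrix (Fin 4) (Fin 4) F), W' * W' + W' + 1 = 0 → W' * W' = (-1 : F) • W' + (-1 : F) • 1 := fun W' h' => by
          rw [neg_one_smul, neg_one_smul, ← sub_eq_zero, ← h']; abel
        have hirr' : ∀ l : F, l * l ≠ (-1) * l + (-1) := fun l => by
          rw [neg_one_mul, ← sub_eq_add_neg]; exact hirr l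
        obtain ⟨P, hPd, hPN⟩ := SLConj.exists_quad_basis (hx2 _ hA) hirr'
        obtain ⟨Q, hQd, hQN⟩ := SLConj.exists_quad_basis (hx2 _ hY) hirr'
        obtain ⟨g, hgS, hg⟩ := SLConj.exists_conj_SL hPd hQd hPN hQN fun e he => by
          obtain ⟨a, b, hab⟩ := FiniteField.exists_root_sum_quadratic
            (f := Polynomial.C (1 : F) * Polynomial.X ^ 2 + Polynomial.C 0 * Polynomial.X + Polynomial.C 0)
            (g := Polynomial.C ((3 : F) / 4) * Polynomial.X ^ 2 + Polynomial.C 0 * Polynomial.X + Polynomial.C (-e))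
            (Polynomial.degree_quadratic one_ne_zero)
            (Polynomial.degree_quadratic (div_ne_zero h3 (by
              rw [show (4 : F) = 2 * 2 by norm_num]; exact mul_ne_zero h2 h2)))
            (by rw [hF]; exact Nat.odd_iff.mp (hp.odd_of_ne_two hp2))
          simp at hab
          refine ⟨!![a + b / 2, b * (-1), 0, 0; b, a + b / 2 + b * (-1), 0, 0; 0, 0, 1, 0; 0, 0, 0, 1], ?_,
            SLConj.quadForm2_comm (-1) (-1) (a + b / 2) b⟩
          simp [Matrix.det_succ_row_zero, Fin.sum_univ_succ, Fin.succAbove]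
          have h4 : (4 : F) ≠ 0 := by rw [show (4 : F) = 2 * 2 by norm_num]; exact mul_ne_zero h2 h2
          field_simp at hab ⊢
          linear_combination hab
        refine ⟨g, hgS, scalar_absorb hd ?_⟩
        rw [← hXd, hg]
        exact hYN
      · set T : GL (Fin 4) F := Y * Y' with hT
        have hsub : ∀ W' : (Matrix (Fin 4) (Fin 4) F), W' * W' + W' + 1 = 0 → W' * W' * W' = 1 := fun W' h' => by
          rw [← sub_eq_zero, show W' * W' * W' - 1 = (W' - 1) * (W' * W' + W' + 1) by noncomm_ring, h', mul_zero]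
        have hT3 : (T : (Matrix (Fin 4) (Fin 4) F)) * T * T = 1 := by
          rw [hT, Units.val_mul]
          have h := (show Commute (Y : (Matrix (Fin 4) (Fin 4) F)) Y' from hYY').mul_pow 3
          simp only [pow_succ, pow_zero, one_mul] at h
          rw [h, hsub _ hY, hsub _ hY', one_mul]
        have hYU' : (Y : (Matrix (Fin 4) (Fin 4) F)) * U = U * Y := hYU U Eiu Eju
        have hT1 : (T : (Matrix (Fin 4) (Fin 4) F)) ≠ 1 := by
          intro e'
          apply hnotU
          rw [hT, Units.val_mul] at e'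
          have hY'i : (Y' : (Matrix (Fin 4) (Fin 4) F)) = ((Y⁻¹ : GL (Fin 4) F) : (Matrix (Fin 4) (Fin 4) F)) :=
            (left_inv_eq_right_inv (Units.inv_mul _) e').symm
          rw [hY'i]
          exact (Commute.units_inv_left (show Commute (Y : (Matrix (Fin 4) (Fin 4) F)) U from hYU')).eq.symm
        have hTB : (T : (Matrix (Fin 4) (Fin 4) F)) * T + T + 1 ≠ 0 := by
          intro e'
          apply hnotU
          rw [hT, Units.val_mul, show (Y : (Matrix (Fin 4) (Fin 4) F)) * Y' * (Y * Y') = (Y : (Matrix (Fin 4) (Fin 4) F)) * Y * (Y' * Y') by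
            rw [mul_assoc, ← mul_assoc (Y' : (Matrix (Fin 4) (Fin 4) F)), ← hYY']; simp only [mul_assoc]] at e'
          have h1 : (Y : (Matrix (Fin 4) (Fin 4) F)) * Y = -Y - 1 := by rw [← sub_eq_zero, ← hY]; abel
          have h1' : (Y' : (Matrix (Fin 4) (Fin 4) F)) * Y' = -Y' - 1 := by rw [← sub_eq_zero, ← hY']; abel
          rw [h1, h1'] at e'
          have h2' : ((2 : F) • (Y : (Matrix (Fin 4) (Fin 4) F)) + 1) * Y' = -(Y : (Matrix (Fin 4) (Fin 4) F)) - (2 : F) • 1 := by
            rw [← sub_eq_zero, ← e']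
            simp only [add_mul, sub_mul, neg_mul, mul_sub, mul_neg, one_mul, mul_one, smul_mul_assoc]
            module
          have hc2 : ((2 : F) • (Y : (Matrix (Fin 4) (Fin 4) F)) + 1) * U = U * ((2 : F) • (Y : (Matrix (Fin 4) (Fin 4) F)) + 1) := by
            rw [add_mul, mul_add, one_mul, mul_one, smul_mul_assoc, mul_smul_comm, hYU']
          have hsq : ((2 : F) • (Y : (Matrix (Fin 4) (Fin 4) F)) + 1) * ((2 : F) • (Y : (Matrix (Fin 4) (Fin 4) F)) + 1) = (-3 : F) • 1 := by
            simp only [add_mul, mul_add, one_mul, mul_one, smul_mul_smul_comm, h1]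
            module
          have h4 : ((2 : F) • (Y : (Matrix (Fin 4) (Fin 4) F)) + 1) * (U * Y' - Y' * U) = 0 := by
            rw [mul_sub, ← mul_assoc, ← mul_assoc, hc2, mul_assoc, h2', mul_sub, sub_mul, mul_neg, neg_mul,
              smul_mul_assoc, mul_smul_comm, one_mul, mul_one, hYU', sub_self]
          have h5 := congrArg (fun W' => ((2 : F) • (Y : (Matrix (Fin 4) (Fin 4) F)) + 1) * W') h4
          simp only [← mul_assoc, hsq, smul_mul_assoc, one_mul, mul_zero] at h5
          exact sub_eq_zero.mp ((smul_eq_zero.mp h5).resolve_left (neg_ne_zero.mpr h3))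
        obtain ⟨P, hPd, hPN⟩ := SLConj.exists_mixed_basis h3 hirr hX3 hX1 hA
        obtain ⟨Q, hQd, hQN⟩ := SLConj.exists_mixed_basis h3 hirr hT3 hT1 hTB
        obtain ⟨g, hgS, hg⟩ := SLConj.exists_conj_SL hPd hQd hPN hQN fun e he =>
          ⟨Matrix.diagonal ![1, 1, e, 1], by simp [Matrix.det_diagonal, Fin.prod_univ_four], SLConj.mixedForm_comm e⟩
        refine ⟨g, hgS, scalar_absorb hd ?_⟩
        rw [← hXd, hg]
        exact mul_mem hYN hY'N
    · -- order five
      have hp5 : p ≠ 5 := fun e => by subst e; rw [ZMod.natCast_self, orderOf_zero] at ho; omega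
      have hcop : Nat.Coprime (p - 1) 5 := by
        rw [Nat.coprime_comm, (by norm_num : Nat.Prime 5).coprime_iff_not_dvd]
        intro hd5
        have hp1 : (p : ZMod 5) = 1 := by
          rw [← Nat.cast_one, eq_comm, ZMod.natCast_eq_natCast_iff, Nat.modEq_iff_dvd' hp.one_le]
          exact hd5
        rw [hp1, orderOf_one] at ho
        omega
      obtain ⟨g, a, b, c, d, h4, ha, hb, hc, hd', haR, hbR, hcR, hdR, hg, hgN, hga, hg5⟩ :=
        exists_five hP h2 i.2 j.2 u.2 v.2 Euu Evv Eii Ejj Euv Eij Eiu Eiv Eju Ejv (by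
          intro X' X1 X2 X3 X4
          refine hP.abs X' fun s hs => ?_
          refine Subgroup.closure_induction (p := fun (s : R) _ => X' * ((s : GL (Fin 4) F) : (Matrix (Fin 4) (Fin 4) F)) = ((s : GL (Fin 4) F) : (Matrix (Fin 4) (Fin 4) F)) * X')
            ?_ (by simp) ?_ ?_ (hgen ⟨s, hs⟩)
          · intro y hy
            simp only [Set.mem_insert_iff, Set.mem_singleton_iff] at hy
            rcases hy with rfl | rfl | rfl | rfl | rfl | rfl
            exacts [by simp, by simp [hw], X1, X2, X3, X4]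
          · intro y y' _ _ e1 e2
            simp only [Subgroup.coe_mul, Units.val_mul]
            rw [← mul_assoc, e1, mul_assoc, e2, mul_assoc]
          · intro y _ e1
            simp only [Subgroup.coe_inv]
            calc X' * (((y : GL (Fin 4) F)⁻¹ : GL (Fin 4) F) : (Matrix (Fin 4) (Fin 4) F))
                = (((y : GL (Fin 4) F)⁻¹ : GL (Fin 4) F) : (Matrix (Fin 4) (Fin 4) F)) * (((y : GL (Fin 4) F) : (Matrix (Fin 4) (Fin 4) F)) * X') *
                  (((y : GL (Fin 4) F)⁻¹ : GL (Fin 4) F) : (Matrix (Fin 4) (Fin 4) F)) := by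
                  rw [← mul_assoc _ _ X', Units.inv_mul, one_mul]
              _ = _ := by rw [← e1, mul_assoc, mul_assoc X', Units.mul_inv, mul_one])
      obtain ⟨k, hk⟩ := hg5
      obtain ⟨d1, hd1, hy5, hyS⟩ := exists_normalised hF (by norm_num) hcop hk
      obtain ⟨d2, hd2, hx5, hxS'⟩ := exists_normalised hF (by norm_num) hcop hz
      have hy1 : scal hd1 * g ≠ 1 := fun e' => hga (by
        rw [eq_inv_of_mul_eq_one_right e']
        exact (Commute.inv_left (show Commute (scal hd1) a from Units.ext (by simp [scal_val]))).eq)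
      obtain ⟨g', hg'S, n, hn⟩ := exists_conj_pow (by simp) hF ho (Cfsg.Geo.specialLinear (Fin 4) F) hxS' hyS hx5 hy5 hy1
      refine ⟨g', hg'S, scalar_absorb hd2 ?_⟩
      rw [hn]
      exact pow_mem (mul_mem (scal_mem_normalizer hd1 R) hgN) n

end Cfsg.Agent.S6000
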